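import Mathlib
import Groth.Prelude.Def_SGA4c
import Groth.Agent.Lib.ToposFin2_helper8

/-!
# Quasi-compactness and covers (helper8)
-/

set_option autoImplicit false

open CategoryTheory Limits Opposite

attribute [-instance] CategoryTheory.hasColimitsEssentiallySmallSite

namespace Groth.Agent.Lib.ToposFinH8

universe u
variable {C : Type u} [SmallCategory C] {J : GrothendieckTopology C}

/-- If `Y₁` has a finite jointly epimorphic family `π k : G k ⟶ Y₁` such that every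
`G k ×_Y Z₁` is quasi-compact, then `Y₁ ×_Y Z₁` is quasi-compact. -/
theorem isQC_pullback_of_cover_left {Y Y₁ Z₁ : Sheaf J (Type u)} (a : Y₁ ⟶ Y) (b : Z₁ ⟶ Y)
    {κ : Type*} [Finite κ] (G : κ → Sheaf J (Type u)) (π : ∀ k, G k ⟶ Y₁) (hπ : JE π)
    (h : ∀ k, ToposFin.IsQC (pullback (π k ≫ a) b)) : ToposFin.IsQC (pullback a b) := by
  refine isQC_of_finite_je (fun k => pullback (pullback.fst a b) (π k))
    (fun k => pullback.fst (pullback.fst a b) (π k)) ?_ ?_
  · exact je_pullback π (pullback.fst a b) _ (fun k => pullback.snd (pullback.fst a b) (π k))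
      (fun k => IsPullback.of_hasPullback _ _) hπ
  · intro k
    have H := (IsPullback.of_hasPullback (pullback.fst a b) (π k)).flip.paste_vert
      (IsPullback.of_hasPullback a b)
    exact isQC_of_iso H.isoPullback.symm (h k)

/-- Symmetric version. -/
theorem isQC_pullback_of_cover_right {Y Y₁ Z₁ : Sheaf J (Type u)} (a : Y₁ ⟶ Y) (b : Z₁ ⟶ Y)
    {κ : Type*} [Finite κ] (G : κ → Sheaf J (Type u)) (π : ∀ k, G k ⟶ Z₁) (hπ : JE π)
    (h : ∀ k, ToposFin.IsQC (pullback a (π k ≫ b))) : ToposFin.IsQC (pullback a b) := by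
  refine isQC_of_iso (pullbackSymmetry b a) ?_
  refine isQC_pullback_of_cover_left b a G π hπ (fun k => ?_)
  exact isQC_of_iso (pullbackSymmetry a (π k ≫ b)) (h k)

/-- A family of quasi-compact generators. -/
def QCGen {α : Type u} (G : α → Sheaf J (Type u)) : Prop :=
  (∀ a, ToposFin.IsQC (G a)) ∧
  ∀ X : Sheaf J (Type u), ∃ (ι : Type u) (a : ι → α) (π : ∀ i, G (a i) ⟶ X), JE π

/-- A quasi-compact object is covered by finitely many generators. -/
theorem exists_finite_cover {α : Type u} {G : α → Sheaf J (Type u)}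
    (hgen : ∀ X : Sheaf J (Type u), ∃ (ι : Type u) (a : ι → α) (π : ∀ i, G (a i) ⟶ X), JE π)
    (X : Sheaf J (Type u)) (hX : ToposFin.IsQC X) :
    ∃ (κ : Type u) (_ : Finite κ) (a : κ → α) (π : ∀ k, G (a k) ⟶ X), JE π := by
  obtain ⟨ι, a, π, hπ⟩ := hgen X
  obtain ⟨s, hs⟩ := (isQC_iff X).1 hX ι _ π hπ
  exact ⟨s, inferInstance, fun k => a k, fun k => π k, hs⟩

/-- SGA4 VI 1.10 (i): quasi-compactness of a morphism can be tested on generators. -/
theorem isQCHom_iff_of_gen {α : Type u} {G : α → Sheaf J (Type u)}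
    (hgen : ∀ X : Sheaf J (Type u), ∃ (ι : Type u) (a : ι → α) (π : ∀ i, G (a i) ⟶ X), JE π)
    (hG : ∀ a, ToposFin.IsQC (G a)) {X Y : Sheaf J (Type u)} (f : X ⟶ Y) :
    ToposFin.IsQCHom f ↔ ∀ (a : α) (s : G a ⟶ Y), ToposFin.IsQC (pullback f s) := by
  constructor
  · intro h a s
    exact h _ s (hG a)
  · intro h Y' g hY'
    obtain ⟨κ, _, a, π, hπ⟩ := exists_finite_cover hgen Y' hY'
    exact isQC_pullback_of_cover_right f g (fun k => G (a k)) π hπ (fun k => h _ _)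

/-- conversion of the generation hypothesis -/
theorem gen_je {α : Type u} {G : α → Sheaf J (Type u)}
    (hgen : ∀ X : Sheaf J (Type u), ∃ (ι : Type u) (a : ι → α) (π : ∀ i, G (a i) ⟶ X),
      Epi (Sigma.desc π)) :
    ∀ X : Sheaf J (Type u), ∃ (ι : Type u) (a : ι → α) (π : ∀ i, G (a i) ⟶ X), JE π := by
  intro X
  obtain ⟨ι, a, π, hπ⟩ := hgen X
  exact ⟨ι, a, π, (epi_sigmaDesc_iff π).1 hπ⟩

/-- SGA4 VI 1.11-type statement: a finite cover of the source by quasi-compact composites. -/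
theorem isQCHom_of_finite_cover_source {Y Z : Sheaf J (Type u)} (g : Y ⟶ Z) {κ : Type*} [Finite κ]
    (X : κ → Sheaf J (Type u)) (f : ∀ k, X k ⟶ Y) (hf : JE f)
    (h : ∀ k, ToposFin.IsQCHom (f k ≫ g)) : ToposFin.IsQCHom g := by
  intro Z' t hZ'
  exact isQC_pullback_of_cover_left g t X f hf (fun k => h k _ t hZ')

theorem isQS_of_isQSHom {X Y : Sheaf J (Type u)} (f : X ⟶ Y) (hf : ToposFin.IsQSHom f)
    (hY : ToposFin.IsQS Y) : ToposFin.IsQS X := by
  intro Y₁ Z₁ a b hY₁ hZ₁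
  have H := pullback_map_diagonal_isPullback a b f
  exact isQC_of_isPullback hf H (hY Y₁ Z₁ (a ≫ f) (b ≫ f) hY₁ hZ₁)

theorem isQS_iff_of_gen {α : Type u} {G : α → Sheaf J (Type u)}
    (hgen : ∀ X : Sheaf J (Type u), ∃ (ι : Type u) (a : ι → α) (π : ∀ i, G (a i) ⟶ X), JE π)
    (hG : ∀ a, ToposFin.IsQC (G a)) (Y : Sheaf J (Type u)) :
    ToposFin.IsQS Y ↔ ∀ (a : α) (s : G a ⟶ Y), ToposFin.IsQCHom s := by
  constructor
  · intro hY a s Y' g hY'
    exact hY _ _ s g (hG a) hY'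
  · intro h Y₁ Z₁ a b hY₁ hZ₁
    obtain ⟨κ, _, c, π, hπ⟩ := exists_finite_cover hgen Y₁ hY₁
    exact isQC_pullback_of_cover_left a b (fun k => G (c k)) π hπ
      (fun k => h (c k) (π k ≫ a) Z₁ b hZ₁)

end Groth.Agent.Lib.ToposFinH8
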