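import Mathlib
import Groth.Prelude.Def_SGA4c
import Groth.Agent.Lib.ToposFin3_helper8

/-!
# Quasi-compactness is local on the target (helper8)
-/

set_option autoImplicit false

open CategoryTheory Limits Opposite

attribute [-instance] CategoryTheory.hasColimitsEssentiallySmallSite

namespace Groth.Agent.Lib.ToposFinH8

section General

variable {D : Type*} [Category D] [HasPullbacks D]

/-- Auxiliary square: `P ×_{Y'} P` is the base change of `P ⟶ X` along `X ×_Y X ⟶ X`. -/
theorem isPullback_map_fst' {P X Y Y' : D} {p : P ⟶ X} {q : P ⟶ Y'} {f : X ⟶ Y} {g : Y' ⟶ Y}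
    (H : IsPullback p q f g) (m : pullback q q ⟶ pullback f f)
    (e0 : m ≫ pullback.fst f f = pullback.fst q q ≫ p)
    (e1 : m ≫ pullback.snd f f = pullback.snd q q ≫ p) :
    IsPullback m (pullback.fst q q) (pullback.fst f f) p := by
  have outer := (IsPullback.of_hasPullback q q).flip.paste_horiz H
  rw [← e1, ← H.w] at outer
  exact IsPullback.of_right outer e0 (IsPullback.of_hasPullback f f).flip

theorem isPullback_diagonal_baseChange' {P X Y Y' : D} {p : P ⟶ X} {q : P ⟶ Y'} {f : X ⟶ Y}
    {g : Y' ⟶ Y} (H : IsPullback p q f g) (m : pullback q q ⟶ pullback f f)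
    (e0 : m ≫ pullback.fst f f = pullback.fst q q ≫ p)
    (e1 : m ≫ pullback.snd f f = pullback.snd q q ≫ p) :
    IsPullback (pullback.diagonal q) p m (pullback.diagonal f) := by
  have comm : pullback.diagonal q ≫ m = p ≫ pullback.diagonal f := by
    apply pullback.hom_ext
    · rw [Category.assoc, e0, ← Category.assoc, pullback.diagonal_fst, Category.id_comp,
        Category.assoc, pullback.diagonal_fst, Category.comp_id]
    · rw [Category.assoc, e1, ← Category.assoc, pullback.diagonal_snd, Category.id_comp,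
        Category.assoc, pullback.diagonal_snd, Category.comp_id]
  have outer : IsPullback (pullback.diagonal q ≫ pullback.fst q q) p p
      (pullback.diagonal f ≫ pullback.fst f f) := by
    rw [pullback.diagonal_fst, pullback.diagonal_fst]
    exact IsPullback.of_horiz_isIso ⟨by simp⟩
  exact IsPullback.of_right outer comm (isPullback_map_fst' H m e0 e1).flip

theorem isPullback_map_fst {P X Y Y' : D} {p : P ⟶ X} {q : P ⟶ Y'} {f : X ⟶ Y} {g : Y' ⟶ Y}
    (H : IsPullback p q f g) :
    IsPullback (pullback.map q q f f p p g H.w.symm H.w.symm) (pullback.fst q q)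
      (pullback.fst f f) p :=
  isPullback_map_fst' H _ (pullback.lift_fst _ _ _) (pullback.lift_snd _ _ _)

/-- The diagonal of a base change is the base change of the diagonal. -/
theorem isPullback_diagonal_baseChange {P X Y Y' : D} {p : P ⟶ X} {q : P ⟶ Y'} {f : X ⟶ Y}
    {g : Y' ⟶ Y} (H : IsPullback p q f g) :
    IsPullback (pullback.diagonal q) p (pullback.map q q f f p p g H.w.symm H.w.symm)
      (pullback.diagonal f) :=
  isPullback_diagonal_baseChange' H _ (pullback.lift_fst _ _ _) (pullback.lift_snd _ _ _)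

end General

universe u
variable {C : Type u} [SmallCategory C] {J : GrothendieckTopology C}

/-- the hypothesis `HasQCGenerators` in terms of `JE` -/
theorem hasQCGen_je (hE : ToposFin.HasQCGenerators J) (X : Sheaf J (Type u)) :
    ∃ (ι : Type u) (F : ι → Sheaf J (Type u)) (π : ∀ i, F i ⟶ X),
      (∀ i, ToposFin.IsQC (F i)) ∧ JE π := by
  obtain ⟨ι, F, π, h1, h2⟩ := hE X
  exact ⟨ι, F, π, h1, (epi_sigmaDesc_iff π).1 h2⟩

/-- SGA4 VI 1.10: quasi-compactness of a morphism is local on the target. -/
theorem isQCHom_of_local_target (hE : ToposFin.HasQCGenerators J) {X Y : Sheaf J (Type u)}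
    (f : X ⟶ Y) {ι : Type u} (Yi : ι → Sheaf J (Type u)) (g : ∀ i, Yi i ⟶ Y) (hg : JE g)
    (Xi : ι → Sheaf J (Type u)) (p : ∀ i, Xi i ⟶ X) (fi : ∀ i, Xi i ⟶ Yi i)
    (H : ∀ i, IsPullback (p i) (fi i) f (g i)) (h : ∀ i, ToposFin.IsQCHom (fi i)) :
    ToposFin.IsQCHom f := by
  intro Y' t hY'
  have h1 : JE (fun i => pullback.fst t (g i)) :=
    je_pullback g t _ (fun i => pullback.snd t (g i)) (fun i => IsPullback.of_hasPullback _ _) hg
  choose κ F ρ hF hρ using fun i => hasQCGen_je hE (pullback t (g i))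
  have h2 := je_comp (fun i => pullback.fst t (g i)) ρ h1 hρ
  obtain ⟨s, hs⟩ := (isQC_iff Y').1 hY' _ _ _ h2
  refine isQC_pullback_of_cover_right f t (fun k : s => F k.1.1 k.1.2)
    (fun k => ρ k.1.1 k.1.2 ≫ pullback.fst t (g k.1.1)) hs (fun k => ?_)
  obtain ⟨⟨i, j⟩, hk⟩ := k
  dsimp only
  have e : (ρ i j ≫ pullback.fst t (g i)) ≫ t = (ρ i j ≫ pullback.snd t (g i)) ≫ g i := by
    simp [pullback.condition]
  have H' := (IsPullback.of_hasPullback (fi i) (ρ i j ≫ pullback.snd t (g i))).paste_horiz (H i)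
  exact isQC_of_iso (H'.isoPullback ≪≫ (pullback.congrHom rfl e).symm) (h i _ _ (hF i j))

/-- SGA4 VI 1.10: quasi-compactness / quasi-separatedness are local on the target. -/
theorem local_target (hE : ToposFin.HasQCGenerators J) {X Y : Sheaf J (Type u)}
    (f : X ⟶ Y) {ι : Type u} (Yi : ι → Sheaf J (Type u)) (g : ∀ i, Yi i ⟶ Y) (hg : JE g) :
    (ToposFin.IsQCHom f ↔ ∀ i, ToposFin.IsQCHom (pullback.snd f (g i))) ∧
    (ToposFin.IsQSHom f ↔ ∀ i, ToposFin.IsQSHom (pullback.snd f (g i))) := by
  refine ⟨⟨fun h i => isQCHom_baseChange (IsPullback.of_hasPullback f (g i)).flip h, fun h => ?_⟩,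
    ⟨fun h i => isQSHom_baseChange (IsPullback.of_hasPullback f (g i)).flip h, fun h => ?_⟩⟩
  · exact isQCHom_of_local_target hE f Yi g hg _ (fun i => pullback.fst f (g i)) _
      (fun i => IsPullback.of_hasPullback f (g i)) h
  · -- the diagonal
    have Hi := fun i => IsPullback.of_hasPullback f (g i)
    have h1 : JE (fun i => pullback.fst f (g i)) :=
      je_pullback g f _ (fun i => pullback.snd f (g i)) Hi hg
    have h2 : JE (fun i => pullback.map (pullback.snd f (g i)) (pullback.snd f (g i)) f f
        (pullback.fst f (g i)) (pullback.fst f (g i)) (g i) (Hi i).w.symm (Hi i).w.symm) :=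
      je_pullback (fun i => pullback.fst f (g i)) (pullback.fst f f) _ _
        (fun i => isPullback_map_fst (Hi i)) h1
    exact isQCHom_of_local_target hE (pullback.diagonal f) _ _ h2 _ (fun i => pullback.fst f (g i))
      (fun i => pullback.diagonal (pullback.snd f (g i)))
      (fun i => (isPullback_diagonal_baseChange (Hi i)).flip) h

/-- A morphism from a quasi-compact object to a quasi-separated object is quasi-compact. -/
theorem isQCHom_of_isQC_of_isQS {A B : Sheaf J (Type u)} (f : A ⟶ B) (hA : ToposFin.IsQC A)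
    (hB : ToposFin.IsQS B) : ToposFin.IsQCHom f := fun Y' t hY' => hB A Y' f t hA hY'

/-- SGA4 VI 1.17-type: a cover by quasi-separated objects with quasi-compact structure maps. -/
theorem isQS_of_cover {Y : Sheaf J (Type u)} {ι : Type u} (Yi : ι → Sheaf J (Type u))
    (g : ∀ i, Yi i ⟶ Y) (hg : JE g) (hqs : ∀ i, ToposFin.IsQS (Yi i))
    (hqc : ∀ i, ToposFin.IsQCHom (g i)) : ToposFin.IsQS Y := by
  intro A B a b hA hB
  have h1 : JE (fun i => pullback.fst a (g i)) :=
    je_pullback g a _ (fun i => pullback.snd a (g i)) (fun i => IsPullback.of_hasPullback _ _) hg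
  obtain ⟨s, hs⟩ := (isQC_iff A).1 hA _ _ _ h1
  refine isQC_pullback_of_cover_left a b (fun i : s => pullback a (g i))
    (fun i => pullback.fst a (g i)) hs (fun i => ?_)
  have hAi : ToposFin.IsQC (pullback a (g i)) :=
    isQC_of_isPullback (hqc i) (IsPullback.of_hasPullback a (g i)).flip hA
  have hBi : ToposFin.IsQC (pullback (g i) b) := hqc i B b hB
  have H' := (IsPullback.of_hasPullback (pullback.snd a (g i)) (pullback.fst (g i) b)).paste_vert
    (IsPullback.of_hasPullback (g i) b)
  have e : pullback.snd a (g i) ≫ g i = pullback.fst a (g i) ≫ a := pullback.condition.symm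
  exact isQC_of_iso (H'.isoPullback ≪≫ pullback.congrHom e rfl)
    (hqs i _ _ _ _ hAi hBi)

end Groth.Agent.Lib.ToposFinH8
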