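import Mathlib
import Groth.Prelude.Def_SGA4c
import Groth.Agent.Lib.ToposFin4_helper8

/-!
# Quasi-separated morphisms and covers (helper8)
-/

set_option autoImplicit false

open CategoryTheory Limits Opposite

attribute [-instance] CategoryTheory.hasColimitsEssentiallySmallSite

namespace Groth.Agent.Lib.ToposFinH8

universe u
variable {C : Type u} [SmallCategory C] {J : GrothendieckTopology C}

theorem comp_app {X Y Z : Sheaf J (Type u)} (f : X ⟶ Y) (g : Y ⟶ Z) (V : Cᵒᵖ) (x : X.obj.obj V) :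
    (f ≫ g).hom.app V x = g.hom.app V (f.hom.app V x) := rfl

/-- The fibre product of two jointly epimorphic families is jointly epimorphic. -/
theorem je_pullback_map {ι κ : Type*} {A B S : Sheaf J (Type u)} {F : ι → Sheaf J (Type u)}
    {G : κ → Sheaf J (Type u)} (π : ∀ i, F i ⟶ A) (ρ : ∀ j, G j ⟶ B) (a : A ⟶ S) (b : B ⟶ S)
    (hπ : JE π) (hρ : JE ρ) :
    JE (F := fun p : ι × κ => pullback (π p.1 ≫ a) (ρ p.2 ≫ b))
      (fun p => pullback.map (π p.1 ≫ a) (ρ p.2 ≫ b) a b (π p.1) (ρ p.2) (𝟙 S)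
        (Category.comp_id _) (Category.comp_id _)) := by
  apply je_of_ljs
  intro U d
  have HP := fun V => Groth.Agent.Lib.SheafEpiH8.isPullback_app J (IsPullback.of_hasPullback a b) V
  obtain ⟨S₁, hS₁, h₁⟩ := ljs_of_je π hπ U ((pullback.fst a b).hom.app (op U) d)
  obtain ⟨S₂, hS₂, h₂⟩ := ljs_of_je ρ hρ U ((pullback.snd a b).hom.app (op U) d)
  refine ⟨S₁ ⊓ S₂, J.intersection_covering hS₁ hS₂, ?_⟩
  intro V v hv
  obtain ⟨i, x', hx'⟩ := h₁ v hv.1
  obtain ⟨j, y', hy'⟩ := h₂ v hv.2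
  have HQ := Groth.Agent.Lib.SheafEpiH8.isPullback_app J
    (IsPullback.of_hasPullback (π i ≫ a) (ρ j ≫ b)) (op V)
  have hd : a.hom.app (op U) ((pullback.fst a b).hom.app (op U) d) =
      b.hom.app (op U) ((pullback.snd a b).hom.app (op U) d) :=
    congrArg (fun t => t.hom.app (op U) d) (pullback.condition (f := a) (g := b))
  have n1 := NatTrans.naturality_apply a.hom v.op ((pullback.fst a b).hom.app (op U) d)
  have n2 := NatTrans.naturality_apply b.hom v.op ((pullback.snd a b).hom.app (op U) d)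
  have hc : (π i ≫ a).hom.app (op V) x' = (ρ j ≫ b).hom.app (op V) y' := by
    rw [comp_app, comp_app, hx', hy']
    exact n1.trans ((congrArg _ hd).trans n2.symm)
  obtain ⟨d', hd1, hd2⟩ := Types.exists_of_isPullback HQ x' y' hc
  refine ⟨(i, j), d', ?_⟩
  apply Types.ext_of_isPullback (HP (op V))
  · have e := congrArg (fun t => t.hom.app (op V) d')
      (pullback.lift_fst (f := a) (g := b) (pullback.fst (π i ≫ a) (ρ j ≫ b) ≫ π i)
        (pullback.snd (π i ≫ a) (ρ j ≫ b) ≫ ρ j) (by simp [pullback.condition]))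
    have n3 := NatTrans.naturality_apply (pullback.fst a b).hom v.op d
    refine Eq.trans e ?_
    rw [comp_app, hd1, hx']
    exact n3.symm
  · have e := congrArg (fun t => t.hom.app (op V) d')
      (pullback.lift_snd (f := a) (g := b) (pullback.fst (π i ≫ a) (ρ j ≫ b) ≫ π i)
        (pullback.snd (π i ≫ a) (ρ j ≫ b) ≫ ρ j) (by simp [pullback.condition]))
    have n3 := NatTrans.naturality_apply (pullback.snd a b).hom v.op d
    refine Eq.trans e ?_
    rw [comp_app, hd2, hy']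
    exact n3.symm

/-- SGA4 VI 1.14-type: quasi-separatedness can be checked on a cover of the source by
quasi-compact morphisms. -/
theorem isQSHom_of_cover_source (hE : ToposFin.HasQCGenerators J) {Y Z : Sheaf J (Type u)}
    (g : Y ⟶ Z) {ι : Type u} (X : ι → Sheaf J (Type u)) (f : ∀ i, X i ⟶ Y) (hf : JE f)
    (hqc : ∀ i, ToposFin.IsQCHom (f i)) (hqs : ∀ i, ToposFin.IsQSHom (f i ≫ g)) :
    ToposFin.IsQSHom g := by
  have h2 := je_pullback_map f f g g hf hf
  refine isQCHom_of_local_target hE (pullback.diagonal g) _ _ h2 _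
    (fun p => pullback.fst (f p.1) (f p.2) ≫ f p.1)
    (fun p => pullback.map (f p.1) (f p.2) (f p.1 ≫ g) (f p.2 ≫ g) (𝟙 _) (𝟙 _) g
      (Category.id_comp _).symm (Category.id_comp _).symm)
    (fun p => pullback_map_diagonal_isPullback (f p.1) (f p.2) g) (fun p => ?_)
  apply isQCHom_of_comp_isQSHom _ (pullback.fst (f p.1 ≫ g) (f p.2 ≫ g))
  · exact isQSHom_baseChange (IsPullback.of_hasPullback _ _) (hqs p.2)
  · have e : pullback.map (f p.1) (f p.2) (f p.1 ≫ g) (f p.2 ≫ g) (𝟙 _) (𝟙 _) g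
        (Category.id_comp _).symm (Category.id_comp _).symm ≫
        pullback.fst (f p.1 ≫ g) (f p.2 ≫ g) = pullback.fst (f p.1) (f p.2) ≫ 𝟙 _ :=
      pullback.lift_fst _ _ _
    rw [e, Category.comp_id]
    exact isQCHom_baseChange (IsPullback.of_hasPullback _ _) (hqc p.2)

/-- SGA4 VI 1.16-type. -/
theorem isQS_iff_of_coherent_cover (hE : ToposFin.HasQCGenerators J) {Y : Sheaf J (Type u)}
    {ι : Type u} (Yi : ι → Sheaf J (Type u)) (g : ∀ i, Yi i ⟶ Y) (hg : JE g)
    (hY : ∀ i, ToposFin.IsCoherent (Yi i)) :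
    (ToposFin.IsQS Y ↔ ∀ i, ToposFin.IsQCHom (g i)) ∧
    (ToposFin.IsQS Y ↔ ∀ i j, ToposFin.IsQC (pullback (g i) (g j))) := by
  have ha : (∀ i, ToposFin.IsQCHom (g i)) → ToposFin.IsQS Y := fun h =>
    isQS_of_cover Yi g hg (fun i => (hY i).2) h
  refine ⟨⟨fun hQS i => isQCHom_of_isQC_of_isQS (g i) (hY i).1 hQS, ha⟩,
    ⟨fun hQS i j => hQS _ _ (g i) (g j) (hY i).1 (hY j).1, fun h => ha (fun i => ?_)⟩⟩
  exact isQCHom_of_local_target hE (g i) Yi g hg (fun j => pullback (g i) (g j))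
    (fun j => pullback.fst (g i) (g j)) (fun j => pullback.snd (g i) (g j))
    (fun j => IsPullback.of_hasPullback _ _)
    (fun j => isQCHom_of_isQC_of_isQS _ (h i j) (hY j).2)

/-- SGA4 VI 1.18-type. -/
theorem isQSHom_of_cover_qs_products (hE : ToposFin.HasQCGenerators J) {X Y : Sheaf J (Type u)}
    (f : X ⟶ Y) {ι : Type u} (Xi : ι → Sheaf J (Type u)) (g : ∀ i, Xi i ⟶ X) (hg : JE g)
    (hqc : ∀ i, ToposFin.IsQC (Xi i))
    (hqs : ∀ i j, ToposFin.IsQS (pullback (g i ≫ f) (g j ≫ f))) (hX : ToposFin.IsQS X) :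
    ToposFin.IsQSHom f := by
  have h2 := je_pullback_map g g f f hg hg
  exact isQCHom_of_local_target hE (pullback.diagonal f) _ _ h2 _
    (fun p => pullback.fst (g p.1) (g p.2) ≫ g p.1)
    (fun p => pullback.map (g p.1) (g p.2) (g p.1 ≫ f) (g p.2 ≫ f) (𝟙 _) (𝟙 _) f
      (Category.id_comp _).symm (Category.id_comp _).symm)
    (fun p => pullback_map_diagonal_isPullback (g p.1) (g p.2) f)
    (fun p => isQCHom_of_isQC_of_isQS _ (hX _ _ _ _ (hqc p.1) (hqc p.2)) (hqs p.1 p.2))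

theorem isQS_of_mono {X Y : Sheaf J (Type u)} (i : X ⟶ Y) [Mono i] (hY : ToposFin.IsQS Y) :
    ToposFin.IsQS X :=
  isQS_of_isQSHom i (isQSHom_of_mono i) hY

end Groth.Agent.Lib.ToposFinH8
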