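import Mathlib

set_option autoImplicit false

/-! Arbitrary small coproducts in `Type u`, presheaf categories and sheaf categories are
van Kampen colimits (hence universal and disjoint). -/

namespace Groth.Agent.Lib.VKSheafH8
open CategoryTheory CategoryTheory.Limits
universe u

lemma discrete_functor_eq {ι : Type u} {D : Type*} [Category D] (F : Discrete ι ⥤ D) :
    F = Discrete.functor (F.obj ∘ Discrete.mk) :=
  Functor.hext (fun i ↦ rfl) (by rintro ⟨i⟩ ⟨j⟩ ⟨⟨rfl : i = j⟩⟩; simp)

lemma types_cofan_isVanKampen {ι : Type u} (f : ι → Type u) (c : Cofan f) (hc : IsColimit c) :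
    IsVanKampenColimit c := by
  intro F' c' α g e hα
  obtain ⟨f', rfl⟩ : ∃ f' : ι → Type u, F' = Discrete.functor f' := ⟨_, discrete_functor_eq F'⟩
  have e' : ∀ (j : ι) (y : f' j), c.inj j (α.app ⟨j⟩ y) = g (Cofan.inj (c' : Cofan f') j y) := by
    intro j y
    exact congrArg (fun t => t y) (NatTrans.congr_app e ⟨j⟩)
  constructor
  · rintro ⟨hc'⟩ ⟨j⟩
    rw [Types.isPullback_iff]
    refine ⟨(NatTrans.congr_app e ⟨j⟩).symm, ?_, ?_⟩
    · rintro x₁ y₁ ⟨h₁, _⟩
      exact Cofan.inj_injective_of_isColimit hc' j h₁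
    · intro x₂ x₃ hx
      obtain ⟨k, y, hy⟩ := Cofan.inj_jointly_surjective_of_isColimit hc' x₂
      have h1 : c.inj k (α.app ⟨k⟩ y) = c.inj j x₃ := by
        rw [e' k y, hy]
        exact hx
      obtain rfl := Cofan.eq_of_inj_apply_eq_of_isColimit hc _ _ h1
      exact ⟨y, hy, Cofan.inj_injective_of_isColimit hc k h1⟩
  · intro H
    rw [Cofan.nonempty_isColimit_iff_bijective_fromSigma]
    constructor
    · rintro ⟨i, x⟩ ⟨j, y⟩ hxy
      have hxy' : Cofan.inj (c' : Cofan f') i x = Cofan.inj (c' : Cofan f') j y := hxy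
      have h1 : c.inj i (α.app ⟨i⟩ x) = c.inj j (α.app ⟨j⟩ y) := by
        rw [e' i x, e' j y, hxy']
      obtain rfl := Cofan.eq_of_inj_apply_eq_of_isColimit hc _ _ h1
      have h2 := Cofan.inj_injective_of_isColimit hc i h1
      have := Types.ext_of_isPullback (H ⟨i⟩) hxy' h2
      rw [this]
    · intro x
      obtain ⟨j, z, hz⟩ := Cofan.inj_jointly_surjective_of_isColimit hc (g x)
      obtain ⟨y, hy, _⟩ := Types.exists_of_isPullback (H ⟨j⟩) x z hz.symm
      exact ⟨⟨j, y⟩, hy⟩

lemma types_isVanKampen {ι : Type u} (F : Discrete ι ⥤ Type u) (c : Cocone F) (hc : IsColimit c) :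
    IsVanKampenColimit c := by
  obtain ⟨f, rfl⟩ : ∃ f : ι → Type u, F = Discrete.functor f := ⟨_, discrete_functor_eq F⟩
  exact types_cofan_isVanKampen f c hc

lemma functor_isVanKampen {D : Type u} [Category.{u} D] {ι : Type u}
    (F : Discrete ι ⥤ (D ⥤ Type u)) (c : Cocone F) (hc : IsColimit c) :
    IsVanKampenColimit c := by
  apply isVanKampenColimit_of_evaluation
  intro x
  exact types_isVanKampen _ _ (isColimitOfPreserves ((evaluation D (Type u)).obj x) hc)

variable {C : Type u} [SmallCategory C] (J : GrothendieckTopology C)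

/-- Every small family of sheaves of sets has a van Kampen coproduct cofan. -/
theorem sheaf_exists_isVanKampen {ι : Type u} (X : ι → Sheaf J (Type u)) :
    ∃ c : Cofan X, IsVanKampenColimit c := by
  let F : Discrete ι ⥤ Sheaf J (Type u) := Discrete.functor X
  haveI : HasColimitsOfShape (Discrete ι) (Cᵒᵖ ⥤ Type u) := inferInstance
  let c₀ := colimit.cocone (F ⋙ sheafToPresheaf J (Type u))
  have h0 : IsVanKampenColimit c₀ := functor_isVanKampen _ _ (colimit.isColimit _)
  haveI : PreservesLimitsOfShape WalkingCospan (presheafToSheaf J (Type u)) := inferInstance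
  have h1 : IsVanKampenColimit ((presheafToSheaf J (Type u)).mapCocone c₀) :=
    IsVanKampenColimit.map_reflective (sheafificationAdjunction J (Type u)) h0
  let β : F ≅ (F ⋙ sheafToPresheaf J (Type u)) ⋙ presheafToSheaf J (Type u) :=
    F.rightUnitor.symm ≪≫
      Functor.isoWhiskerLeft F (asIso (sheafificationAdjunction J (Type u)).counit).symm ≪≫
      (Functor.associator _ _ _).symm
  exact ⟨(Cocone.precompose β.hom).obj _, h1.precompose_isIso β.hom⟩

/-- Any colimit cofan of sheaves of sets is van Kampen. -/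
theorem sheaf_cofan_isVanKampen {ι : Type u} (X : ι → Sheaf J (Type u)) (c : Cofan X)
    (hc : IsColimit c) : IsVanKampenColimit c := by
  obtain ⟨c₁, h₁⟩ := sheaf_exists_isVanKampen J X
  exact h₁.of_iso (h₁.isColimit.uniqueUpToIso hc)

theorem sheaf_coproductDisjoint {ι : Type u} (X : ι → Sheaf J (Type u)) :
    CoproductDisjoint X := by
  obtain ⟨c, hvk⟩ := sheaf_exists_isVanKampen J X
  haveI : HasInitial (Sheaf J (Type u)) := by
    haveI : HasColimitsOfShape (Discrete PEmpty.{1}) (Sheaf J (Type u)) :=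
      Sheaf.instHasColimitsOfShape
    exact ⟨inferInstance⟩
  haveI : ∀ i, Mono (c.inj i) := fun i => mono_of_cofan_isVanKampen hvk ⟨i⟩
  have hpb : ∀ {i j : ι} (hij : i ≠ j),
      IsPullback (initial.to _) (initial.to _) (c.inj i) (c.inj j) := fun {i j} hij =>
    isPullback_initial_to_of_cofan_isVanKampen hvk ⟨i⟩ ⟨j⟩ (fun h => hij (Discrete.ext_iff.1 h))
  exact CoproductDisjoint.of_cofan hvk.isColimit (fun {i j} hij => (hpb hij).cone)
    (fun {i j} hij => (hpb hij).isLimit) (fun {i j} hij => initialIsInitial)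

end Groth.Agent.Lib.VKSheafH8
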