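import Mathlib
import Groth.Prelude.Def_SGA4c
import Groth.Agent.Lib.ToposFin5_helper8
import Groth.Agent.Lib.VKSheaf_helper8

/-!
# Quasi-compactness and coproducts (helper8)
-/

set_option autoImplicit false

open CategoryTheory Limits Opposite

attribute [-instance] CategoryTheory.hasColimitsEssentiallySmallSite

namespace Groth.Agent.Lib.ToposFinH8

universe u
variable {C : Type u} [SmallCategory C] {J : GrothendieckTopology C}

theorem isQC_of_isInitial {X : Sheaf J (Type u)} (h : IsInitial X) : ToposFin.IsQC X := by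
  rw [isQC_iff]
  intro ι F π _
  exact ⟨∅, fun Z a b _ => h.hom_ext a b⟩

/-- A jointly epimorphic family with initial sources has initial target. -/
theorem isInitial_of_je_initial {ι : Type*} {T : Sheaf J (Type u)} {I : ι → Sheaf J (Type u)}
    (e : ∀ i, I i ⟶ T) (hI : ∀ i, IsInitial (I i)) (he : JE e) : Nonempty (IsInitial T) := by
  have heq : (coprod.inl : T ⟶ T ⨿ T) = coprod.inr := he _ _ (fun i => (hI i).hom_ext _ _)
  have h1 := FinitaryExtensive.isPullback_initial_to_binaryCofan (coprodIsCoprod T T)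
  have h1' : IsPullback (initial.to T) (initial.to T) (coprod.inl : T ⟶ T ⨿ T) coprod.inr := h1
  rw [← heq] at h1'
  haveI : Mono (coprod.inl : T ⟶ T ⨿ T) :=
    FinitaryExtensive.mono_inl_of_isColimit (c := BinaryCofan.mk coprod.inl coprod.inr)
      (coprodIsCoprod T T)
  have h2 : IsPullback (𝟙 T) (𝟙 T) (coprod.inl : T ⟶ T ⨿ T) coprod.inl :=
    IsPullback.of_isLimit (PullbackCone.isLimitMkIdId _)
  exact ⟨initialIsInitial.ofIso (h1'.isoIsPullback _ _ h2)⟩

/-- Summands of a quasi-compact object: quasi-compact, almost all empty. -/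
theorem qc_summands {ι : Type u} {W : Sheaf J (Type u)} {Wi : ι → Sheaf J (Type u)}
    (m : ∀ i, Wi i ⟶ W) [∀ i, Mono (m i)] (hm : JE m)
    (hdisj : ∀ i j, i ≠ j → IsInitial (pullback (m i) (m j))) (hW : ToposFin.IsQC W) :
    (∀ i, ToposFin.IsQC (Wi i)) ∧ ∃ s : Finset ι, ∀ i, i ∉ s → Nonempty (IsInitial (Wi i)) := by
  classical
  constructor
  · intro j
    rw [isQC_iff]
    intro κ G ρ hρ
    let T := κ ⊕ {i : ι // i ≠ j}
    let Fam : T → Sheaf J (Type u) := Sum.elim G (fun i => Wi i.1)
    let mp : ∀ x : T, Fam x ⟶ W := fun x => match x with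
      | Sum.inl k => ρ k ≫ m j
      | Sum.inr i => m i.1
    have hJE : JE mp := by
      intro Z a b hab
      apply hm
      intro i
      by_cases hij : i = j
      · subst hij
        apply hρ
        intro k
        have this' : (ρ k ≫ m i) ≫ a = (ρ k ≫ m i) ≫ b := hab (Sum.inl k)
        exact (Category.assoc _ _ _).symm.trans (this'.trans (Category.assoc _ _ _))
      · exact hab (Sum.inr ⟨i, hij⟩)
    obtain ⟨t, ht⟩ := (isQC_iff W).1 hW T Fam mp hJE
    refine ⟨t.toLeft, ?_⟩
    have h1 : JE (fun x : t => pullback.snd (mp x) (m j)) :=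
      je_pullback (fun x : t => mp x) (m j) _ (fun x => pullback.fst (mp x) (m j))
        (fun x => (IsPullback.of_hasPullback (mp x) (m j)).flip) ht
    intro Z a b hab
    apply h1
    rintro ⟨x, hx⟩
    match x, hx with
    | Sum.inl k, hx =>
      have e1 : pullback.snd (ρ k ≫ m j) (m j) = pullback.fst (ρ k ≫ m j) (m j) ≫ ρ k := by
        rw [← cancel_mono (m j), Category.assoc]
        exact pullback.condition.symm
      have hk : k ∈ t.toLeft := Finset.mem_toLeft.2 hx
      have := hab ⟨k, hk⟩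
      change pullback.snd (ρ k ≫ m j) (m j) ≫ a = pullback.snd (ρ k ≫ m j) (m j) ≫ b
      rw [e1, Category.assoc, Category.assoc]
      exact congrArg _ this
    | Sum.inr i, hx =>
      exact (hdisj i.1 j i.2).hom_ext _ _
  · obtain ⟨s, hs⟩ := (isQC_iff W).1 hW ι Wi m hm
    refine ⟨s, fun j hj => ?_⟩
    have h1 : JE (fun i : s => pullback.snd (m i) (m j)) :=
      je_pullback (fun i : s => m i) (m j) _ (fun i => pullback.fst (m i) (m j))
        (fun i => (IsPullback.of_hasPullback (m i) (m j)).flip) hs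
    refine isInitial_of_je_initial _ (fun i : s => hdisj i.1 j ?_) h1
    rintro rfl
    exact hj i.2

/-- version for a `u`-small index type -/
theorem qc_summands' {ι : Type*} [Small.{u} ι] {W : Sheaf J (Type u)} {Wi : ι → Sheaf J (Type u)}
    (m : ∀ i, Wi i ⟶ W) [∀ i, Mono (m i)] (hm : JE m)
    (hdisj : ∀ i j, i ≠ j → IsInitial (pullback (m i) (m j))) (hW : ToposFin.IsQC W) :
    (∀ i, ToposFin.IsQC (Wi i)) ∧ ∃ s : Finset ι, ∀ i, i ∉ s → Nonempty (IsInitial (Wi i)) := by
  classical
  let e := equivShrink.{u} ι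
  have hm' : JE (fun k : Shrink.{u} ι => m (e.symm k)) := je_reindex m e.symm e.symm.surjective hm
  obtain ⟨h1, s, hs⟩ := qc_summands (fun k : Shrink.{u} ι => m (e.symm k)) hm'
    (fun i j hij => hdisj _ _ (fun h => hij (e.symm.injective h))) hW
  refine ⟨fun i => ?_, s.map e.symm.toEmbedding, fun i hi => ?_⟩
  · have := h1 (e i)
    rwa [e.symm_apply_apply] at this
  · have := hs (e i) (fun h => hi (Finset.mem_map.2 ⟨e i, h, by simp⟩))
    rwa [e.symm_apply_apply] at this

/-- The components of a map to a coproduct. -/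
theorem qc_summands_of_map {ι : Type u} (X : ι → Sheaf J (Type u)) (c : Cofan X)
    (hc : IsColimit c) {κ : Type*} [Small.{u} κ] (a : κ → ι) (ha : Function.Bijective a)
    {W : Sheaf J (Type u)} (t : W ⟶ c.pt) (hW : ToposFin.IsQC W) :
    (∀ k, ToposFin.IsQC (pullback t (c.inj (a k)))) ∧
      ∃ s : Finset κ, ∀ k, k ∉ s → Nonempty (IsInitial (pullback t (c.inj (a k)))) := by
  haveI := Groth.Agent.Lib.VKSheafH8.sheaf_coproductDisjoint J X
  haveI : ∀ i, Mono (c.inj i) := fun i => CoproductDisjoint.mono_inj hc i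
  have hje : JE (fun i => c.inj i) := fun Z x y hxy => Cofan.IsColimit.hom_ext hc _ _ hxy
  have hje' : JE (fun k => c.inj (a k)) := je_reindex _ a ha.2 hje
  have h1 : JE (fun k => pullback.fst t (c.inj (a k))) :=
    je_pullback (fun k => c.inj (a k)) t _ (fun k => pullback.snd t (c.inj (a k)))
      (fun k => IsPullback.of_hasPullback _ _) hje'
  refine qc_summands' (fun k => pullback.fst t (c.inj (a k))) h1 (fun k l hkl => ?_) hW
  have hne : a k ≠ a l := fun h => hkl (ha.1 h)
  have hI : IsInitial (pullback (c.inj (a k)) (c.inj (a l))) :=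
    (CoproductDisjoint.nonempty_isInitial_of_ne hc hne (pullback.cone _ _)
      (pullback.isLimit _ _)).some
  let φ : pullback (pullback.fst t (c.inj (a k))) (pullback.fst t (c.inj (a l))) ⟶
      pullback (c.inj (a k)) (c.inj (a l)) :=
    pullback.lift (pullback.fst _ _ ≫ pullback.snd _ _) (pullback.snd _ _ ≫ pullback.snd _ _)
      (by
        rw [Category.assoc, Category.assoc, ← pullback.condition, ← pullback.condition,
          ← Category.assoc, ← Category.assoc, pullback.condition])
  haveI : IsIso φ := hI.isIso_to φ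
  exact hI.ofIso (asIso φ).symm

theorem exists_finset_je {X : Sheaf J (Type u)} (hX : ToposFin.IsQC X) {ι : Type*} [Small.{u} ι]
    (F : ι → Sheaf J (Type u)) (π : ∀ i, F i ⟶ X) (hπ : JE π) :
    ∃ s : Finset ι, JE (fun i : s => π i) := by
  classical
  let e := equivShrink.{u} ι
  have hπ' : JE (fun k : Shrink.{u} ι => π (e.symm k)) :=
    je_reindex π e.symm e.symm.surjective hπ
  obtain ⟨s', hs'⟩ := (isQC_iff X).1 hX _ _ _ hπ'
  refine ⟨s'.map e.symm.toEmbedding, ?_⟩
  intro Z a b hab
  apply hs'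
  rintro ⟨k, hk⟩
  exact hab ⟨e.symm k, Finset.mem_map.2 ⟨k, hk, rfl⟩⟩

/-- general version of `qc_summands_of_map` with mono/disjointness as hypotheses -/
theorem qc_summands_of_map' {ι : Type*} [Small.{u} ι] {X : ι → Sheaf J (Type u)} (c : Cofan X)
    (hc : IsColimit c) [∀ i, Mono (c.inj i)]
    (hdisj : ∀ i j, i ≠ j → IsInitial (pullback (c.inj i) (c.inj j)))
    {W : Sheaf J (Type u)} (t : W ⟶ c.pt) (hW : ToposFin.IsQC W) :
    (∀ k, ToposFin.IsQC (pullback t (c.inj k))) ∧
      ∃ s : Finset ι, ∀ k, k ∉ s → Nonempty (IsInitial (pullback t (c.inj k))) := by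
  have hje : JE (fun i => c.inj i) := fun Z x y hxy => Cofan.IsColimit.hom_ext hc _ _ hxy
  have h1 : JE (fun k => pullback.fst t (c.inj k)) :=
    je_pullback (fun k => c.inj k) t _ (fun k => pullback.snd t (c.inj k))
      (fun k => IsPullback.of_hasPullback _ _) hje
  refine qc_summands' (fun k => pullback.fst t (c.inj k)) h1 (fun k l hkl => ?_) hW
  have hI := hdisj k l hkl
  let φ : pullback (pullback.fst t (c.inj k)) (pullback.fst t (c.inj l)) ⟶
      pullback (c.inj k) (c.inj l) :=
    pullback.lift (pullback.fst _ _ ≫ pullback.snd _ _) (pullback.snd _ _ ≫ pullback.snd _ _)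
      (by
        rw [Category.assoc, Category.assoc, ← pullback.condition, ← pullback.condition,
          ← Category.assoc, ← Category.assoc, pullback.condition])
  haveI : IsIso φ := hI.isIso_to φ
  exact hI.ofIso (asIso φ).symm

/-- The data needed on a coproduct cofan: monic, pairwise disjoint injections. -/
structure GoodCofan {ι : Type*} {X : ι → Sheaf J (Type u)} (c : Cofan X) : Prop where
  small : Small.{u} ι
  isColimit : Nonempty (IsColimit c)
  mono : ∀ i, Mono (c.inj i)
  disj : ∀ i j, i ≠ j → Nonempty (IsInitial (pullback (c.inj i) (c.inj j)))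

theorem goodCofan_of_small {ι : Type u} {X : ι → Sheaf J (Type u)} (c : Cofan X)
    (hc : IsColimit c) : GoodCofan c := by
  haveI := Groth.Agent.Lib.VKSheafH8.sheaf_coproductDisjoint J X
  exact ⟨inferInstance, ⟨hc⟩, fun i => CoproductDisjoint.mono_inj hc i, fun i j hij =>
    CoproductDisjoint.nonempty_isInitial_of_ne hc hij (pullback.cone _ _) (pullback.isLimit _ _)⟩

theorem goodCofan_of_finite {ι : Type*} [Finite ι] {X : ι → Sheaf J (Type u)} (c : Cofan X)
    (hc : IsColimit c) : GoodCofan c := by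
  refine ⟨inferInstance, ⟨hc⟩, fun i => FinitaryExtensive.mono_ι hc ⟨i⟩, fun i j hij => ?_⟩
  have h := FinitaryExtensive.isPullback_initial_to hc ⟨i⟩ ⟨j⟩
    (fun h => hij (Discrete.ext_iff.1 h))
  exact ⟨initialIsInitial.ofIso h.isoPullback⟩

/-- The injections of a coproduct are quasi-compact morphisms. -/
theorem isQCHom_inj {ι : Type*} {X : ι → Sheaf J (Type u)} {c : Cofan X} (hc : GoodCofan c)
    (i : ι) : ToposFin.IsQCHom (c.inj i) := by
  haveI := hc.small
  haveI := hc.mono
  intro Y' t hY'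
  exact isQC_of_iso (pullbackSymmetry t (c.inj i))
    ((qc_summands_of_map' c hc.isColimit.some (fun i j hij => (hc.disj i j hij).some) t hY').1 i)

theorem je_inj {ι : Type*} {X : ι → Sheaf J (Type u)} {c : Cofan X} (hc : IsColimit c) :
    JE (fun i => c.inj i) := fun _ _ _ hxy => Cofan.IsColimit.hom_ext hc _ _ hxy

/-- Quasi-compactness is local on the target for covers by quasi-compact morphisms. -/
theorem isQCHom_of_local_target_qc {X Y : Sheaf J (Type u)} (f : X ⟶ Y) {ι : Type*} [Small.{u} ι]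
    (Yi : ι → Sheaf J (Type u)) (g : ∀ i, Yi i ⟶ Y) (hg : JE g) (hgqc : ∀ i, ToposFin.IsQCHom (g i))
    (h : ∀ i, ToposFin.IsQCHom (pullback.snd f (g i))) : ToposFin.IsQCHom f := by
  intro Y' t hY'
  have h1 : JE (fun i => pullback.fst t (g i)) :=
    je_pullback g t _ (fun i => pullback.snd t (g i)) (fun i => IsPullback.of_hasPullback _ _) hg
  obtain ⟨s, hs⟩ := exists_finset_je hY' _ _ h1
  refine isQC_pullback_of_cover_right f t (fun i : s => pullback t (g i))
    (fun i => pullback.fst t (g i)) hs (fun i => ?_)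
  have hQ : ToposFin.IsQC (pullback t (g i)) :=
    isQC_of_isPullback (hgqc i) (IsPullback.of_hasPullback t (g i)).flip hY'
  have e : pullback.fst t (g i) ≫ t = pullback.snd t (g i) ≫ g i := pullback.condition
  have H' := (IsPullback.of_hasPullback (pullback.snd f (g i)) (pullback.snd t (g i))).paste_horiz
    (IsPullback.of_hasPullback f (g i))
  exact isQC_of_iso (H'.isoPullback ≪≫ (pullback.congrHom rfl e).symm) (h i _ _ hQ)

theorem isQCHom_of_isInitial {X Y : Sheaf J (Type u)} (f : X ⟶ Y) (hX : IsInitial X) :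
    ToposFin.IsQCHom f := by
  intro Y' t _
  haveI : IsIso (pullback.fst f t) := hX.isIso_to _
  exact isQC_of_isInitial (hX.ofIso (asIso (pullback.fst f t)).symm)

/-- A map out of a coproduct is quasi-separated as soon as its components are. -/
theorem isQSHom_of_inj {ι : Type*} {X : ι → Sheaf J (Type u)} {c : Cofan X} (hc : GoodCofan c)
    {Y : Sheaf J (Type u)} (f : c.pt ⟶ Y) (h : ∀ i, ToposFin.IsQSHom (c.inj i ≫ f)) :
    ToposFin.IsQSHom f := by
  haveI := hc.small
  haveI := hc.mono
  have hcol := hc.isColimit.some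
  have hje := je_pullback_map (fun i => c.inj i) (fun i => c.inj i) f f (je_inj hcol) (je_inj hcol)
  have hqc : ∀ p : ι × ι, ToposFin.IsQCHom (pullback.map (c.inj p.1 ≫ f) (c.inj p.2 ≫ f) f f
      (c.inj p.1) (c.inj p.2) (𝟙 Y) (Category.comp_id _) (Category.comp_id _)) := fun p =>
    MorphismProperty.pullbackMap (P := qc (J := J)) (f := c.inj p.1 ≫ f) (g := c.inj p.2 ≫ f)
      (f' := f) (g' := f) (isQCHom_inj hc p.1) (isQCHom_inj hc p.2) rfl rfl
  refine isQCHom_of_local_target_qc (pullback.diagonal f) _ _ hje hqc (fun p => ?_)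
  obtain ⟨i, j⟩ := p
  by_cases hij : i = j
  · subst hij
    have e := pullback.diagonal_comp (c.inj i) f
    have e2 : pullback.snd (pullback.diagonal f) (pullback.map (c.inj i ≫ f) (c.inj i ≫ f) f f
        (c.inj i) (c.inj i) (𝟙 Y) (Category.comp_id _) (Category.comp_id _)) =
        (pullbackDiagonalMapIdIso (c.inj i) (c.inj i) f).hom ≫ inv (pullback.diagonal (c.inj i)) ≫
          pullback.diagonal (c.inj i ≫ f) := by
      rw [e]
      simp
    change ToposFin.IsQCHom (pullback.snd (pullback.diagonal f) (pullback.map (c.inj i ≫ f)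
      (c.inj i ≫ f) f f (c.inj i) (c.inj i) (𝟙 Y) (Category.comp_id _) (Category.comp_id _)))
    rw [e2]
    exact isQCHom_comp _ _ (isQCHom_of_isIso _) (isQCHom_comp _ _ (isQCHom_of_isIso _) (h i))
  · have hI := (hc.disj i j hij).some
    exact isQCHom_of_isInitial _ (hI.ofIso (pullbackDiagonalMapIdIso (c.inj i) (c.inj j) f).symm)

theorem isQSHom_desc_iff {ι : Type*} {X : ι → Sheaf J (Type u)} {c : Cofan X} (hc : GoodCofan c)
    {Y : Sheaf J (Type u)} (f : c.pt ⟶ Y) :
    ToposFin.IsQSHom f ↔ ∀ i, ToposFin.IsQSHom (c.inj i ≫ f) := by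
  haveI := hc.mono
  exact ⟨fun h i => isQSHom_comp _ _ (isQSHom_of_mono _) h, isQSHom_of_inj hc f⟩

theorem isQCHom_desc_iff {ι : Type*} [Finite ι] {X : ι → Sheaf J (Type u)} {c : Cofan X}
    (hc : IsColimit c) {Y : Sheaf J (Type u)} (f : c.pt ⟶ Y) :
    ToposFin.IsQCHom f ↔ ∀ i, ToposFin.IsQCHom (c.inj i ≫ f) :=
  ⟨fun h i => isQCHom_comp _ _ (isQCHom_inj (goodCofan_of_finite c hc) i) h,
    fun h => isQCHom_of_finite_cover_source f X (fun i => c.inj i) (je_inj hc) h⟩

/-- SGA4 VI 1.4-type: quasi-compactness of a coproduct. -/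
theorem isQC_cofan_iff {ι : Type*} {X : ι → Sheaf J (Type u)} {c : Cofan X} (hc : GoodCofan c) :
    ToposFin.IsQC c.pt ↔ (∀ i, ToposFin.IsQC (X i)) ∧
      ∃ s : Finset ι, ∀ i, i ∉ s → Nonempty (IsInitial (X i)) := by
  haveI := hc.small
  haveI := hc.mono
  have hcol := hc.isColimit.some
  constructor
  · intro h
    exact qc_summands' (fun i => c.inj i) (je_inj hcol) (fun i j hij => (hc.disj i j hij).some) h
  · rintro ⟨h1, s, hs⟩
    refine isQC_of_finite_je (fun i : s => X i) (fun i => c.inj i) ?_ (fun i => h1 i)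
    intro Z a b hab
    apply je_inj hcol
    intro i
    by_cases hi : i ∈ s
    · exact hab ⟨i, hi⟩
    · exact (hs i hi).some.hom_ext _ _

end Groth.Agent.Lib.ToposFinH8
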