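import Mathlib
import Groth.Prelude.Def_SGA4c
import Groth.Agent.Lib.ToposFin6_helper8
import Groth.Agent.Lib.ShRep_helper8

/-!
# Quasi-compactness: objects of the site (helper8)
-/

set_option autoImplicit false

open CategoryTheory Limits Opposite

attribute [-instance] CategoryTheory.hasColimitsEssentiallySmallSite

namespace Groth.Agent.Lib.ToposFinH8

universe u
variable {C : Type u} [SmallCategory C] (J : GrothendieckTopology C)

open Groth.Agent.Lib.ShRepH8

/-- `ε(v)` for a morphism of the site. -/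
noncomputable def epsMap {V X : C} (v : V ⟶ X) : ToposFin.eps J V ⟶ ToposFin.eps J X :=
  (presheafToSheaf J (Type u)).map (yoneda.map v)

lemma homEquiv_comp {X : C} {A B : Sheaf J (Type u)} (h' : ToposFin.eps J X ⟶ A) (f : A ⟶ B) :
    homEquiv J X B (h' ≫ f) = f.hom.app (op X) (homEquiv J X A h') := by
  unfold homEquiv
  simp only [Equiv.trans_apply]
  rw [Adjunction.homEquiv_naturality_right]
  exact yonedaEquiv_comp _ _

lemma homEquiv_epsMap_comp {V X : C} (v : V ⟶ X) {F : Sheaf J (Type u)}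
    (f : ToposFin.eps J X ⟶ F) :
    homEquiv J V F (epsMap J v ≫ f) = F.obj.map v.op (homEquiv J X F f) :=
  homEquiv_naturality J v F f

/-- The sheaf of closed sieves. -/
noncomputable def Omega : Sheaf J (Type u) :=
  ⟨(Functor.closedSieves J).toFunctor, (isSheaf_iff_isSheaf_of_type _ _).2 (classifier_isSheaf J)⟩

theorem je_epsMap_of_mem {X : C} (S : Sieve X) (hS : S ∈ J X) :
    JE (F := fun p : Σ V : C, {v : V ⟶ X // S v} => ToposFin.eps J p.1)
      (fun p => epsMap J p.2.1) := by
  intro Z a b hab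
  apply (homEquiv J X Z).injective
  have hZ : Presieve.IsSheaf J Z.obj := (isSheaf_iff_isSheaf_of_type _ _).1 Z.property
  apply (hZ.isSeparated S hS).ext
  intro V v hv
  rw [← homEquiv_epsMap_comp, ← homEquiv_epsMap_comp]
  exact congrArg _ (hab ⟨V, v, hv⟩)

theorem je_epsMap_iff {κ : Type*} {X : C} (V : κ → C) (v : ∀ k, V k ⟶ X) :
    JE (fun k => epsMap J (v k)) ↔ Sieve.ofArrows V v ∈ J X := by
  constructor
  · intro h
    have htop : J.IsClosed (⊤ : Sieve X) := fun Y f _ => trivial
    let a : ToposFin.eps J X ⟶ Omega J :=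
      (homEquiv J X (Omega J)).symm ⟨(⊤ : Sieve X), htop⟩
    let b : ToposFin.eps J X ⟶ Omega J :=
      (homEquiv J X (Omega J)).symm ⟨J.close (Sieve.ofArrows V v), J.close_isClosed _⟩
    have hab : a = b := by
      apply h
      intro k
      apply (homEquiv J (V k) (Omega J)).injective
      rw [homEquiv_epsMap_comp, homEquiv_epsMap_comp, Equiv.apply_symm_apply,
        Equiv.apply_symm_apply]
      apply Subtype.ext
      show (⊤ : Sieve X).pullback (v k) = (J.close (Sieve.ofArrows V v)).pullback (v k)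
      rw [Sieve.pullback_top, ← J.pullback_close,
        Sieve.pullback_eq_top_of_mem _ (Sieve.ofArrows_mk V v k)]
      exact ((J.close_eq_top_iff_mem _).2 (J.top_mem _)).symm
    have h2 := congrArg (fun t => ((homEquiv J X (Omega J)) t).1) hab
    simp only [a, b, Equiv.apply_symm_apply] at h2
    exact (J.close_eq_top_iff_mem _).1 h2.symm
  · intro hcov Z a b hab
    apply (homEquiv J X Z).injective
    have hZ : Presieve.IsSheaf J Z.obj := (isSheaf_iff_isSheaf_of_type _ _).1 Z.property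
    apply (hZ.isSeparated _ hcov).ext
    rintro W _ ⟨W', g, _, ⟨k⟩, rfl⟩
    rw [op_comp, CategoryTheory.Functor.map_comp]
    show Z.obj.map g.op (Z.obj.map (v k).op _) = Z.obj.map g.op (Z.obj.map (v k).op _)
    have e1 := homEquiv_epsMap_comp J (v k) a
    have e2 := homEquiv_epsMap_comp J (v k) b
    rw [← e1, ← e2]
    exact congrArg _ (congrArg _ (hab k))

/-- SGA4 VI 1.2: quasi-compactness of an object of the site vs. of its associated sheaf. -/
theorem isQCSite_iff (X : C) : ToposFin.IsQCSite J X ↔ ToposFin.IsQC (ToposFin.eps J X) := by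
  classical
  constructor
  · intro hX
    rw [isQC_iff]
    intro ι F π hπ
    obtain ⟨S, hS, hS'⟩ := ljs_of_je π hπ X (homEquiv J X (ToposFin.eps J X) (𝟙 _))
    obtain ⟨n, V, g, hg, hcov⟩ := hX S hS
    choose i y hy using fun k => hS' (g k) (hg k)
    refine ⟨Finset.univ.image i, ?_⟩
    refine je_of_factor (fun j : (Finset.univ.image i : Finset ι) => π j)
      (fun k => epsMap J (g k)) ?_ ((je_epsMap_iff J V g).2 hcov)
    intro k
    refine ⟨⟨i k, Finset.mem_image_of_mem i (Finset.mem_univ k)⟩,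
      (homEquiv J (V k) (F (i k))).symm (y k), ?_⟩
    apply (homEquiv J (V k) (ToposFin.eps J X)).injective
    rw [homEquiv_comp, Equiv.apply_symm_apply, hy k, ← Category.comp_id (epsMap J (g k)),
      homEquiv_epsMap_comp]
  · intro hQC S hS
    have hje := je_epsMap_of_mem J S hS
    obtain ⟨t, ht⟩ := (isQC_iff _).1 hQC _ _ _ hje
    let e := t.equivFin
    refine ⟨t.card, fun k => (e.symm k).1.1, fun k => (e.symm k).1.2.1,
      fun k => (e.symm k).1.2.2, ?_⟩
    exact (je_epsMap_iff J _ _).1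
      (je_reindex (fun j : t => epsMap J j.1.2.1) e.symm e.symm.surjective ht)

/-- Every sheaf is covered by the `ε(V)`. -/
theorem je_eps_gen (F : Sheaf J (Type u)) :
    JE (F := fun p : Σ V : C, F.obj.obj (op V) => ToposFin.eps J p.1)
      (fun p => (homEquiv J p.1 F).symm p.2) := by
  intro Z a b hab
  apply ObjectProperty.hom_ext
  ext V x
  obtain ⟨V⟩ := V
  have h1 := homEquiv_comp J ((homEquiv J V F).symm x) a
  have h2 := homEquiv_comp J ((homEquiv J V F).symm x) b
  rw [Equiv.apply_symm_apply] at h1 h2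
  have h3 := congrArg (homEquiv J V Z) (hab ⟨V, x⟩)
  exact h1.symm.trans (h3.trans h2)

theorem eps_gen : ∀ F : Sheaf J (Type u), ∃ (ι : Type u) (a : ι → C)
    (π : ∀ i, ToposFin.eps J (a i) ⟶ F), JE π :=
  fun F => ⟨Σ V : C, F.obj.obj (op V), fun p => p.1, _, je_eps_gen J F⟩

lemma homEquiv_epsMap {W X : C} (f : W ⟶ X) :
    homEquiv J W (ToposFin.eps J X) (epsMap J f) =
      (toSheafify J (yoneda.obj X)).app (op W) f := by
  unfold homEquiv epsMap
  simp only [Equiv.trans_apply]
  rw [Adjunction.homEquiv_unit]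
  have h1 : (sheafificationAdjunction J (Type u)).unit.app (yoneda.obj W) ≫
      (sheafToPresheaf J (Type u)).map ((presheafToSheaf J (Type u)).map (yoneda.map f)) =
      yoneda.map f ≫ toSheafify J (yoneda.obj X) := by
    have := (sheafificationAdjunction J (Type u)).unit.naturality (yoneda.map f)
    exact this.symm
  rw [h1, yonedaEquiv_comp, yonedaEquiv_yoneda_map]

/-- Morphisms `ε(V) ⟶ ε(X)` are locally of the form `ε(f)`. -/
theorem exists_local_epsMap {V X : C} (s : ToposFin.eps J V ⟶ ToposFin.eps J X) :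
    ∃ T ∈ J V, ∀ ⦃W : C⦄ (g : W ⟶ V), T g → ∃ f : W ⟶ X, epsMap J g ≫ s = epsMap J f := by
  refine ⟨Presheaf.imageSieve (toSheafify J (yoneda.obj X))
    (homEquiv J V (ToposFin.eps J X) s), Presheaf.imageSieve_mem J _ _, ?_⟩
  rintro W g ⟨f, hf⟩
  refine ⟨f, ?_⟩
  apply (homEquiv J W (ToposFin.eps J X)).injective
  rw [homEquiv_epsMap_comp, homEquiv_epsMap]
  exact hf.symm

/-- `ε` preserves fibre products. -/
theorem isPullback_eps [HasPullbacks C] {V W X : C} (f : V ⟶ X) (h : W ⟶ X) :
    IsPullback (epsMap J (pullback.fst f h)) (epsMap J (pullback.snd f h)) (epsMap J f)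
      (epsMap J h) :=
  (IsPullback.of_hasPullback f h).map (yoneda ⋙ presheafToSheaf J (Type u))

/-- On a site with fibre products all of whose objects are quasi-compact, fibre products
`ε(V) ×_{ε(X)} ε(W)` are quasi-compact. -/
theorem isQC_pullback_eps [HasPullbacks C] (hC : ∀ X : C, ToposFin.IsQCSite J X) {V W X : C}
    (s : ToposFin.eps J V ⟶ ToposFin.eps J X) (t : ToposFin.eps J W ⟶ ToposFin.eps J X) :
    ToposFin.IsQC (pullback s t) := by
  obtain ⟨T₁, hT₁, h₁⟩ := exists_local_epsMap J s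
  obtain ⟨T₂, hT₂, h₂⟩ := exists_local_epsMap J t
  obtain ⟨n₁, V₁, g₁, hg₁, hcov₁⟩ := hC V T₁ hT₁
  obtain ⟨n₂, V₂, g₂, hg₂, hcov₂⟩ := hC W T₂ hT₂
  choose f₁ hf₁ using fun k => h₁ (g₁ k) (hg₁ k)
  choose f₂ hf₂ using fun k => h₂ (g₂ k) (hg₂ k)
  have hje := je_pullback_map (fun k => epsMap J (g₁ k)) (fun l => epsMap J (g₂ l)) s t
    ((je_epsMap_iff J V₁ g₁).2 hcov₁) ((je_epsMap_iff J V₂ g₂).2 hcov₂)
  refine isQC_of_finite_je _ _ hje (fun p => ?_)
  have hq : ToposFin.IsQC (ToposFin.eps J (pullback (f₁ p.1) (f₂ p.2))) :=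
    (isQCSite_iff J _).1 (hC _)
  exact isQC_of_iso ((isPullback_eps J (f₁ p.1) (f₂ p.2)).isoPullback ≪≫
    (pullback.congrHom (hf₁ p.1) (hf₂ p.2)).symm) hq

/-- SGA4 VI 2.1-type: on such a site every `ε(X)` is coherent. -/
theorem isCoherent_eps [HasPullbacks C] (hC : ∀ X : C, ToposFin.IsQCSite J X) (X : C) :
    ToposFin.IsCoherent (ToposFin.eps J X) := by
  refine ⟨(isQCSite_iff J X).1 (hC X), ?_⟩
  have hG : ∀ V : C, ToposFin.IsQC (ToposFin.eps J V) := fun V => (isQCSite_iff J V).1 (hC V)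
  rw [isQS_iff_of_gen (eps_gen J) hG]
  intro V s
  rw [isQCHom_iff_of_gen (eps_gen J) hG]
  intro W t
  exact isQC_pullback_eps J hC s t

end Groth.Agent.Lib.ToposFinH8
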