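import Mathlib
import Groth.Prelude.Def_SGA4c
import Groth.Prelude.Def_ToposFin2
import Groth.Agent.Lib.ToposFin7_helper8

/-!
# Generating sets, inverse image functors (helper8)
-/

set_option autoImplicit false

open CategoryTheory Limits Opposite

attribute [-instance] CategoryTheory.hasColimitsEssentiallySmallSite

namespace Groth.Agent.Lib.ToposFinH8

universe u
variable {C : Type u} [SmallCategory C] {J : GrothendieckTopology C}

theorem exists_finite_cover_of_genSet {S : Set (Sheaf J (Type u))} (hgen : ToposFin.IsGenerating S)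
    (X : Sheaf J (Type u)) (hX : ToposFin.IsQC X) :
    ∃ (κ : Type u) (_ : Finite κ) (G : κ → Sheaf J (Type u)) (π : ∀ k, G k ⟶ X),
      (∀ k, G k ∈ S) ∧ JE π := by
  obtain ⟨ι, G, π, hG, hπ⟩ := hgen X
  have hπ' : JE π := fun Z a b h => hπ Z a b h
  obtain ⟨s, hs⟩ := (isQC_iff X).1 hX ι _ π hπ'
  exact ⟨s, inferInstance, fun k => G k, fun k => π k, fun k => hG k, hs⟩

theorem hasQCGenerators_of_genSet {S : Set (Sheaf J (Type u))} (hqc : ∀ K ∈ S, ToposFin.IsQC K)
    (hgen : ToposFin.IsGenerating S) : ToposFin.HasQCGenerators J := by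
  intro X
  obtain ⟨ι, G, π, hG, hπ⟩ := hgen X
  exact ⟨ι, G, π, fun i => hqc _ (hG i), (epi_sigmaDesc_iff π).2 (fun Z a b h => hπ Z a b h)⟩

theorem isQCHom_iff_of_genSet {S : Set (Sheaf J (Type u))} (hqc : ∀ K ∈ S, ToposFin.IsQC K)
    (hgen : ToposFin.IsGenerating S) {X Y : Sheaf J (Type u)} (f : X ⟶ Y) :
    ToposFin.IsQCHom f ↔ ∀ K ∈ S, ∀ s : K ⟶ Y, ToposFin.IsQC (pullback f s) := by
  constructor
  · intro h K hK s
    exact h _ s (hqc K hK)
  · intro h Y' g hY'
    obtain ⟨κ, _, G, π, hG, hπ⟩ := exists_finite_cover_of_genSet hgen Y' hY'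
    exact isQC_pullback_of_cover_right f g G π hπ (fun k => h _ (hG k) _)

theorem isQS_iff_of_genSet {S : Set (Sheaf J (Type u))} (hqc : ∀ K ∈ S, ToposFin.IsQC K)
    (hgen : ToposFin.IsGenerating S) (Y : Sheaf J (Type u)) :
    ToposFin.IsQS Y ↔ ∀ K ∈ S, ∀ s : K ⟶ Y, ToposFin.IsQCHom s := by
  constructor
  · intro hY K hK s Y' g hY'
    exact hY _ _ s g (hqc K hK) hY'
  · intro h Y₁ Z₁ a b hY₁ hZ₁
    obtain ⟨κ, _, G, π, hG, hπ⟩ := exists_finite_cover_of_genSet hgen Y₁ hY₁
    exact isQC_pullback_of_cover_left a b G π hπ (fun k => h _ (hG k) (π k ≫ a) Z₁ b hZ₁)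

/-- In a locally coherent topos, the members of the generating set are coherent. -/
theorem isCoherent_of_mem {S : Set (Sheaf J (Type u))} (hqc : ∀ K ∈ S, ToposFin.IsQC K)
    (hgen : ToposFin.IsGenerating S) (hpb : ToposFin.ClosedUnderPullbacks S)
    {K : Sheaf J (Type u)} (hK : K ∈ S) : ToposFin.IsCoherent K := by
  refine ⟨hqc K hK, ?_⟩
  rw [isQS_iff_of_genSet hqc hgen]
  intro L hL s
  rw [isQCHom_iff_of_genSet hqc hgen]
  intro M hM t
  obtain ⟨P, p, q, hP, H⟩ := hpb s t hL hM hK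
  exact isQC_of_iso H.isoPullback (hqc P hP)

/-- Left adjoints preserve jointly epimorphic families. -/
theorem je_map {D : Type u} [SmallCategory D] {K : GrothendieckTopology D}
    {F : Sheaf K (Type u) ⥤ Sheaf J (Type u)} {R : Sheaf J (Type u) ⥤ Sheaf K (Type u)}
    (adj : F ⊣ R) {ι : Type*} {X : Sheaf K (Type u)} {G : ι → Sheaf K (Type u)}
    (π : ∀ i, G i ⟶ X) (hπ : JE π) : JE (fun i => F.map (π i)) := by
  intro Z a b hab
  apply (adj.homEquiv X Z).injective
  apply hπ
  intro i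
  rw [← Adjunction.homEquiv_naturality_left, ← Adjunction.homEquiv_naturality_left, hab i]

theorem isQC_map_of_genSet {D : Type u} [SmallCategory D] {K : GrothendieckTopology D}
    {F : Sheaf K (Type u) ⥤ Sheaf J (Type u)} {R : Sheaf J (Type u) ⥤ Sheaf K (Type u)}
    (adj : F ⊣ R) {S : Set (Sheaf K (Type u))} (hgen : ToposFin.IsGenerating S)
    (h : ∀ X ∈ S, ToposFin.IsQC (F.obj X)) (X : Sheaf K (Type u)) (hX : ToposFin.IsQC X) :
    ToposFin.IsQC (F.obj X) := by
  obtain ⟨κ, _, G, π, hG, hπ⟩ := exists_finite_cover_of_genSet hgen X hX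
  exact isQC_of_finite_je (fun k => F.obj (G k)) (fun k => F.map (π k)) (je_map adj π hπ)
    (fun k => h _ (hG k))

/-- SGA4 VI 3.2-type: coherence of a morphism of topoi can be tested on generators. -/
theorem isQS_map_of_genSet {D : Type u} [SmallCategory D] {K : GrothendieckTopology D}
    {F : Sheaf K (Type u) ⥤ Sheaf J (Type u)} {R : Sheaf J (Type u) ⥤ Sheaf K (Type u)}
    (adj : F ⊣ R) [PreservesFiniteLimits F] (hE' : ToposFin.HasQCGenerators J)
    {S : Set (Sheaf K (Type u))} (hS : ∀ X ∈ S, ToposFin.IsCoherent X)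
    (hgen : ToposFin.IsGenerating S)
    (h : ∀ X ∈ S, ToposFin.IsCoherent (F.obj X)) (X : Sheaf K (Type u)) (hX : ToposFin.IsQS X) :
    ToposFin.IsQS (F.obj X) := by
  obtain ⟨ι, G, π, hG, hπ⟩ := hgen X
  have hπ' : JE π := fun Z a b h => hπ Z a b h
  have hEK : ToposFin.HasQCGenerators K :=
    hasQCGenerators_of_genSet (fun K hK => (hS K hK).1) hgen
  have h1 := ((isQS_iff_of_coherent_cover hEK G π hπ' (fun i => hS _ (hG i))).2).1 hX
  refine ((isQS_iff_of_coherent_cover hE' (fun i => F.obj (G i)) (fun i => F.map (π i))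
    (je_map adj π hπ') (fun i => h _ (hG i))).2).2 (fun i j => ?_)
  have H := (IsPullback.of_hasPullback (π i) (π j)).map F
  exact isQC_of_iso H.isoPullback
    (isQC_map_of_genSet adj hgen (fun X hX => (h X hX).1) _ (h1 i j))

/-- SGA4 VI 3.?: a coherent morphism of locally coherent topoi preserves quasi-compact
morphisms. -/
theorem isQCHom_map {D : Type u} [SmallCategory D] {K : GrothendieckTopology D}
    {F : Sheaf K (Type u) ⥤ Sheaf J (Type u)} {R : Sheaf J (Type u) ⥤ Sheaf K (Type u)}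
    (adj : F ⊣ R) [PreservesFiniteLimits F]
    {S : Set (Sheaf K (Type u))} (hqc : ∀ X ∈ S, ToposFin.IsQC X) (hgen : ToposFin.IsGenerating S)
    (hpb : ToposFin.ClosedUnderPullbacks S) (hE' : ToposFin.HasQCGenerators J)
    (hFqc : ∀ X : Sheaf K (Type u), ToposFin.IsQC X → ToposFin.IsQC (F.obj X))
    (hFqs : ∀ X : Sheaf K (Type u), ToposFin.IsQS X → ToposFin.IsQS (F.obj X))
    {X Y : Sheaf K (Type u)} (v : X ⟶ Y) (hv : ToposFin.IsQCHom v) :
    ToposFin.IsQCHom (F.map v) := by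
  obtain ⟨ι, G, π, hG, hπ⟩ := hgen Y
  have hπ' : JE π := fun Z a b h => hπ Z a b h
  refine isQCHom_of_local_target hE' (F.map v) (fun i => F.obj (G i)) (fun i => F.map (π i))
    (je_map adj π hπ') (fun i => F.obj (pullback v (π i))) (fun i => F.map (pullback.fst v (π i)))
    (fun i => F.map (pullback.snd v (π i))) (fun i => (IsPullback.of_hasPullback v (π i)).map F)
    (fun i => ?_)
  exact isQCHom_of_isQC_of_isQS _ (hFqc _ (hv _ (π i) (hqc _ (hG i))))
    (hFqs _ (isCoherent_of_mem hqc hgen hpb (hG i)).2)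

/-- SGA4 VI 2.?: in a locally coherent topos, quasi-separated morphisms are those preserving
quasi-separated objects by base change. -/
theorem isQSHom_iff_pullback_qs {S : Set (Sheaf J (Type u))} (hqc : ∀ K ∈ S, ToposFin.IsQC K)
    (hgen : ToposFin.IsGenerating S) (hpb : ToposFin.ClosedUnderPullbacks S)
    {X Y : Sheaf J (Type u)} (f : X ⟶ Y) :
    ToposFin.IsQSHom f ↔
      ∀ (Y' : Sheaf J (Type u)) (g : Y' ⟶ Y), ToposFin.IsQS Y' → ToposFin.IsQS (pullback f g) := by
  have hE := hasQCGenerators_of_genSet hqc hgen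
  constructor
  · intro h Y' g hY'
    exact isQS_of_isQSHom (pullback.snd f g)
      (isQSHom_baseChange (IsPullback.of_hasPullback f g).flip h) hY'
  · intro h
    obtain ⟨ι, G, π, hG, hπ⟩ := hgen Y
    have hπ' : JE π := fun Z a b h => hπ Z a b h
    refine ((local_target hE f G π hπ').2).2 (fun i => ?_)
    have hXi : ToposFin.IsQS (pullback f (π i)) :=
      h _ (π i) (isCoherent_of_mem hqc hgen hpb (hG i)).2
    obtain ⟨κ, H, ρ, hH, hρ⟩ := hgen (pullback f (π i))
    have hρ' : JE ρ := fun Z a b h => hρ Z a b h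
    refine isQSHom_of_cover_qs_products hE (pullback.snd f (π i)) H ρ hρ'
      (fun k => hqc _ (hH k)) (fun k l => ?_) hXi
    obtain ⟨P, p, q, hP, HP⟩ := hpb (ρ k ≫ pullback.snd f (π i)) (ρ l ≫ pullback.snd f (π i))
      (hH k) (hH l) (hG i)
    have hcoh := isCoherent_of_mem hqc hgen hpb hP
    have e := HP.isoPullback
    exact isQS_of_mono e.inv hcoh.2

end Groth.Agent.Lib.ToposFinH8
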