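import Mathlib
import Groth.Prelude.Def_SGA4c
import Groth.Prelude.Def_ToposFin2
import Groth.Agent.Lib.ToposFin8_helper8

/-!
# Sites with fibre products and quasi-compact objects (helper8)
-/

set_option autoImplicit false

open CategoryTheory Limits Opposite

attribute [-instance] CategoryTheory.hasColimitsEssentiallySmallSite

namespace Groth.Agent.Lib.ToposFinH8

universe u
variable {C : Type u} [SmallCategory C] (J : GrothendieckTopology C)

open Groth.Agent.Lib.ShRepH8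

theorem isQS_of_iso {X Y : Sheaf J (Type u)} (e : X ≅ Y) (h : ToposFin.IsQS X) : ToposFin.IsQS Y :=
  isQS_of_mono e.inv h

theorem hasQCGenerators_of_site (hC : ∀ X : C, ToposFin.IsQCSite J X) :
    ToposFin.HasQCGenerators J := by
  intro F
  exact ⟨Σ V : C, F.obj.obj (op V), fun p => ToposFin.eps J p.1,
    fun p => (homEquiv J p.1 F).symm p.2, fun p => (isQCSite_iff J p.1).1 (hC p.1),
    (epi_sigmaDesc_iff (fun p : Σ V : C, F.obj.obj (op V) => (homEquiv J p.1 F).symm p.2)).2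
      (je_eps_gen J F)⟩

/-- `ε(V) ×_{ε(X)} ε(W)` is quasi-separated. -/
theorem isQS_pullback_eps [HasPullbacks C] (hC : ∀ X : C, ToposFin.IsQCSite J X) {V W X : C}
    (s : ToposFin.eps J V ⟶ ToposFin.eps J X) (t : ToposFin.eps J W ⟶ ToposFin.eps J X) :
    ToposFin.IsQS (pullback s t) := by
  obtain ⟨T₁, hT₁, h₁⟩ := exists_local_epsMap J s
  obtain ⟨T₂, hT₂, h₂⟩ := exists_local_epsMap J t
  obtain ⟨n₁, V₁, g₁, hg₁, hcov₁⟩ := hC V T₁ hT₁
  obtain ⟨n₂, V₂, g₂, hg₂, hcov₂⟩ := hC W T₂ hT₂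
  choose f₁ hf₁ using fun k => h₁ (g₁ k) (hg₁ k)
  choose f₂ hf₂ using fun k => h₂ (g₂ k) (hg₂ k)
  have hje := je_pullback_map (fun k => epsMap J (g₁ k)) (fun l => epsMap J (g₂ l)) s t
    ((je_epsMap_iff J V₁ g₁).2 hcov₁) ((je_epsMap_iff J V₂ g₂).2 hcov₂)
  have hje' := je_reindex _ (fun p : ULift.{u} (Fin n₁ × Fin n₂) => p.down)
    ULift.down_surjective hje
  refine isQS_of_cover _ _ hje' (fun p => ?_) (fun p => ?_)
  · have hq : ToposFin.IsQS (ToposFin.eps J (pullback (f₁ p.down.1) (f₂ p.down.2))) :=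
      (isCoherent_eps J hC _).2
    exact isQS_of_iso J ((isPullback_eps J (f₁ p.down.1) (f₂ p.down.2)).isoPullback ≪≫
      (pullback.congrHom (hf₁ p.down.1) (hf₂ p.down.2)).symm) hq
  · exact MorphismProperty.pullbackMap (P := qc (J := J))
      (f := epsMap J (g₁ p.down.1) ≫ s) (g := epsMap J (g₂ p.down.2) ≫ t) (f' := s) (g' := t)
      (isQCHom_of_isQC_of_isQS _ ((isQCSite_iff J _).1 (hC _)) (isCoherent_eps J hC _).2)
      (isQCHom_of_isQC_of_isQS _ ((isQCSite_iff J _).1 (hC _)) (isCoherent_eps J hC _).2) rfl rfl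

/-- SGA4 VI 2.1-type: morphisms from quasi-separated objects to `ε(X)`. -/
theorem isQSHom_to_eps [HasPullbacks C] (hC : ∀ X : C, ToposFin.IsQCSite J X) (X : C)
    {G : Sheaf J (Type u)} (g : G ⟶ ToposFin.eps J X) (hG : ToposFin.IsQS G) :
    ToposFin.IsQSHom g :=
  isQSHom_of_cover_qs_products (hasQCGenerators_of_site J hC) g _ _ (je_eps_gen J G)
    (fun p => (isQCSite_iff J p.1).1 (hC p.1)) (fun _ _ => isQS_pullback_eps J hC _ _) hG

theorem isQS_pullback_over_eps [HasPullbacks C] (hC : ∀ X : C, ToposFin.IsQCSite J X) (X : C)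
    {G H : Sheaf J (Type u)} (g : G ⟶ ToposFin.eps J X) (h : H ⟶ ToposFin.eps J X)
    (hG : ToposFin.IsQS G) (hH : ToposFin.IsQS H) : ToposFin.IsQS (pullback g h) :=
  isQS_of_isQSHom (pullback.fst g h)
    (isQSHom_baseChange (IsPullback.of_hasPullback g h) (isQSHom_to_eps J hC X h hH)) hG

theorem isCoherent_pullback_over_eps [HasPullbacks C] (hC : ∀ X : C, ToposFin.IsQCSite J X)
    {G H F : Sheaf J (Type u)} (a : G ⟶ F) (b : H ⟶ F) (hG : ToposFin.IsCoherent G)
    (hH : ToposFin.IsCoherent H) (hF : ToposFin.IsCoherent F) (X : C) (w : F ⟶ ToposFin.eps J X) :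
    ToposFin.IsCoherent (pullback a b) := by
  refine ⟨hF.2 G H a b hG.1 hH.1, ?_⟩
  have H' := pullback_map_diagonal_isPullback a b w
  haveI : Mono (pullback.map a b (a ≫ w) (b ≫ w) (𝟙 _) (𝟙 _) w (Category.id_comp _).symm
      (Category.id_comp _).symm) :=
    MorphismProperty.of_isPullback (P := MorphismProperty.monomorphisms _) H'
      (inferInstanceAs (Mono (pullback.diagonal w)))
  exact isQS_of_mono (pullback.map a b (a ≫ w) (b ≫ w) (𝟙 _) (𝟙 _) w (Category.id_comp _).symm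
      (Category.id_comp _).symm) (isQS_pullback_over_eps J hC X (a ≫ w) (b ≫ w) hG.2 hH.2)

end Groth.Agent.Lib.ToposFinH8
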