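import Mathlib
import Groth.Prelude.Def_SGA4c
import Groth.Prelude.Def_ToposFin2
import Groth.Agent.Lib.ToposFin9_helper8

/-!
# Morphisms of sites with quasi-compact objects are coherent (helper8)
-/

set_option autoImplicit false

open CategoryTheory Limits Opposite

attribute [-instance] CategoryTheory.hasColimitsEssentiallySmallSite

namespace Groth.Agent.Lib.ToposFinH8

universe u
variable {C : Type u} [SmallCategory C] (J : GrothendieckTopology C)
variable {D : Type u} [SmallCategory D] (K : GrothendieckTopology D)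

open Groth.Agent.Lib.ShRepH8

/-- sections over `Y` as a functor on sheaves -/
noncomputable def evF (Y : D) : Sheaf K (Type u) ⥤ Type u :=
  sheafToPresheaf K (Type u) ⋙ (evaluation Dᵒᵖ (Type u)).obj (op Y)

noncomputable def corep1 (Y : D) : (evF K Y).CorepresentableBy (ToposFin.eps K Y) where
  homEquiv {F} := homEquiv K Y F
  homEquiv_comp g f := homEquiv_comp K f g

variable (G : C ⥤ D) [Functor.IsContinuous G J K]

noncomputable def corep2 (V : C) :
    (evF K (G.obj V)).CorepresentableBy ((G.sheafPullback (Type u) J K).obj (ToposFin.eps J V)) where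
  homEquiv {F} := ((G.sheafAdjunctionContinuous (Type u) J K).homEquiv _ F).trans
    (homEquiv J V ((G.sheafPushforwardContinuous (Type u) J K).obj F))
  homEquiv_comp g f := by
    simp only [Equiv.trans_apply]
    rw [Adjunction.homEquiv_naturality_right]
    exact homEquiv_comp J ((G.sheafAdjunctionContinuous (Type u) J K).homEquiv _ _ f)
      ((G.sheafPushforwardContinuous (Type u) J K).map g)

/-- `f^* ε(V) ≅ ε(G V)`. -/
noncomputable def pullbackEpsIso (V : C) :
    (G.sheafPullback (Type u) J K).obj (ToposFin.eps J V) ≅ ToposFin.eps K (G.obj V) :=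
  (corep2 J K G V).uniqueUpToIso (corep1 K (G.obj V))

theorem isGenerating_eps : ToposFin.IsGenerating {F : Sheaf J (Type u) | ∃ V : C, F = ToposFin.eps J V} := by
  intro F
  exact ⟨Σ V : C, F.obj.obj (op V), fun p => ToposFin.eps J p.1,
    fun p => (homEquiv J p.1 F).symm p.2, fun p => ⟨p.1, rfl⟩, fun Z a b h => je_eps_gen J F a b h⟩

theorem sheafPullback_coherent [HasPullbacks C] [HasPullbacks D]
    (hC : ∀ X : C, ToposFin.IsQCSite J X) (hD : ∀ Y : D, ToposFin.IsQCSite K Y)
    [PreservesFiniteLimits (G.sheafPullback (Type u) J K)] :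
    (∀ X : Sheaf J (Type u), ToposFin.IsQC X →
      ToposFin.IsQC ((G.sheafPullback (Type u) J K).obj X)) ∧
    (∀ X : Sheaf J (Type u), ToposFin.IsQS X →
      ToposFin.IsQS ((G.sheafPullback (Type u) J K).obj X)) := by
  have adj := G.sheafAdjunctionContinuous (Type u) J K
  have hS : ∀ X ∈ {F : Sheaf J (Type u) | ∃ V : C, F = ToposFin.eps J V},
      ToposFin.IsCoherent X := by
    rintro X ⟨V, rfl⟩
    exact isCoherent_eps J hC V
  have h : ∀ X ∈ {F : Sheaf J (Type u) | ∃ V : C, F = ToposFin.eps J V},
      ToposFin.IsCoherent ((G.sheafPullback (Type u) J K).obj X) := by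
    rintro X ⟨V, rfl⟩
    have hc := isCoherent_eps K hD (G.obj V)
    exact ⟨isQC_of_iso (pullbackEpsIso J K G V).symm hc.1,
      isQS_of_iso K (pullbackEpsIso J K G V).symm hc.2⟩
  refine ⟨fun X hX => ?_, fun X hX => ?_⟩
  · exact isQC_map_of_genSet adj (isGenerating_eps J) (fun X hX => (h X hX).1) X hX
  · exact isQS_map_of_genSet adj (hasQCGenerators_of_site K hD) hS (isGenerating_eps J) h X hX

end Groth.Agent.Lib.ToposFinH8
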