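import Mathlib
import Groth.Prelude.Def_SGA4c
import Groth.Prelude.Def_ToposFin2
import Groth.Agent.Lib.ToposFin10_helper8

/-!
# Algebraic topoi (helper8)
-/

set_option autoImplicit false

open CategoryTheory Limits Opposite

attribute [-instance] CategoryTheory.hasColimitsEssentiallySmallSite

namespace Groth.Agent.Lib.ToposFinH8

universe u
variable {C : Type u} [SmallCategory C] {J : GrothendieckTopology C}

/-- In an algebraic topos the product of two generators is quasi-separated. -/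
theorem isQS_prod_of_mem {S : Set (Sheaf J (Type u))} (hqc : ∀ K ∈ S, ToposFin.IsQC K)
    (hgen : ToposFin.IsGenerating S) (hpb : ToposFin.ClosedUnderPullbacks S)
    (heq : ToposFin.ClosedUnderEqualizers S) {K L : Sheaf J (Type u)} (hK : K ∈ S) (hL : L ∈ S) :
    ToposFin.IsQS (K ⨯ L) := by
  rw [isQS_iff_of_genSet hqc hgen]
  intro M hM s
  rw [isQCHom_iff_of_genSet hqc hgen]
  intro M' hM' t
  obtain ⟨Q, p, q, hQ, H⟩ := hpb (s ≫ prod.fst) (t ≫ prod.fst) hM hM' hK
  obtain ⟨E, e, w, hE, ⟨hlim⟩⟩ := heq (p ≫ s ≫ prod.snd) (q ≫ t ≫ prod.snd) hQ hL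
  have hcond : (e ≫ p) ≫ s = (e ≫ q) ≫ t := by
    apply Limits.prod.hom_ext
    · simp only [Category.assoc]
      rw [H.w]
    · simp only [Category.assoc]
      exact w
  let φ : E ⟶ pullback s t := pullback.lift (e ≫ p) (e ≫ q) hcond
  let k : pullback s t ⟶ Q := H.lift (pullback.fst s t) (pullback.snd s t)
    (by rw [← Category.assoc, ← Category.assoc, pullback.condition])
  have hk1 : k ≫ p = pullback.fst s t := H.lift_fst _ _ _
  have hk2 : k ≫ q = pullback.snd s t := H.lift_snd _ _ _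
  have hk : k ≫ (p ≫ s ≫ prod.snd) = k ≫ (q ≫ t ≫ prod.snd) := by
    rw [← Category.assoc k p, ← Category.assoc k q, hk1, hk2, ← Category.assoc,
      ← Category.assoc, pullback.condition]
  let ψ : pullback s t ⟶ E := Fork.IsLimit.lift hlim k hk
  have hψ : ψ ≫ e = k := Fork.IsLimit.lift_ι hlim
  have hsec : ψ ≫ φ = 𝟙 _ := by
    apply pullback.hom_ext
    · rw [Category.assoc, pullback.lift_fst, ← Category.assoc, hψ, hk1, Category.id_comp]
    · rw [Category.assoc, pullback.lift_snd, ← Category.assoc, hψ, hk2, Category.id_comp]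
  haveI : IsSplitEpi φ := ⟨⟨ψ, hsec⟩⟩
  exact isQC_of_epi φ (hqc E hE)

/-- SGA4 VI 2.?: in an algebraic topos every morphism out of a quasi-separated object is
quasi-separated. -/
theorem isQSHom_of_isQS_of_algebraic (hE : ToposFin.IsAlgebraic J) {X Y : Sheaf J (Type u)}
    (f : X ⟶ Y) (hX : ToposFin.IsQS X) : ToposFin.IsQSHom f := by
  obtain ⟨S, hqc, hgen, hpb, heq⟩ := hE
  obtain ⟨ι, G, π, hG, hπ⟩ := hgen X
  have hπ' : JE π := fun Z a b h => hπ Z a b h
  refine isQSHom_of_cover_qs_products (hasQCGenerators_of_genSet hqc hgen) f G π hπ'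
    (fun i => hqc _ (hG i)) (fun i j => ?_) hX
  exact isQS_of_mono
    (prod.lift (pullback.fst (π i ≫ f) (π j ≫ f)) (pullback.snd (π i ≫ f) (π j ≫ f)))
    (isQS_prod_of_mem hqc hgen hpb heq (hG i) (hG j))

theorem algebraic_qs_coh (hE : ToposFin.IsAlgebraic J) {X Y : Sheaf J (Type u)} (f : X ⟶ Y) :
    (ToposFin.IsQS Y → (ToposFin.IsQS X ↔ ToposFin.IsQSHom f)) ∧
    (ToposFin.IsCoherent Y → (ToposFin.IsCoherent X ↔ ToposFin.IsCohHom f)) := by
  refine ⟨fun hY => ⟨fun hX => isQSHom_of_isQS_of_algebraic hE f hX,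
    fun hf => isQS_of_isQSHom f hf hY⟩, fun hY => ⟨fun hX => ?_, fun hf => ?_⟩⟩
  · exact ⟨isQCHom_of_isQC_of_isQS f hX.1 hY.2, isQSHom_of_isQS_of_algebraic hE f hX.2⟩
  · exact ⟨isQC_of_isQCHom f hf.1 hY.1, isQS_of_isQSHom f hf.2 hY.2⟩

theorem algebraic_local (hE : ToposFin.IsAlgebraic J) {X Y : Sheaf J (Type u)} (f : X ⟶ Y)
    {ι : Type u} (Yi : ι → Sheaf J (Type u)) (g : ∀ i, Yi i ⟶ Y) (hg : JE g) :
    ((∀ i, ToposFin.IsQS (Yi i)) →
      (ToposFin.IsQSHom f ↔ ∀ i, ToposFin.IsQS (pullback f (g i)))) ∧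
    ((∀ i, ToposFin.IsCoherent (Yi i)) →
      (ToposFin.IsCohHom f ↔ ∀ i, ToposFin.IsCoherent (pullback f (g i)))) := by
  have hgenE : ToposFin.HasQCGenerators J := by
    obtain ⟨S, hqc, hgen, _, _⟩ := hE
    exact hasQCGenerators_of_genSet hqc hgen
  have hloc := local_target hgenE f Yi g hg
  have hbc : ∀ i, IsPullback (pullback.snd f (g i)) (pullback.fst f (g i)) (g i) f :=
    fun i => (IsPullback.of_hasPullback f (g i)).flip
  refine ⟨fun hY => ⟨fun hf i => ?_, fun h => ?_⟩, fun hY => ⟨fun hf i => ?_, fun h => ?_⟩⟩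
  · exact isQS_of_isQSHom _ (isQSHom_baseChange (hbc i) hf) (hY i)
  · exact hloc.2.2 (fun i => isQSHom_of_isQS_of_algebraic hE _ (h i))
  · exact ((algebraic_qs_coh hE (pullback.snd f (g i))).2 (hY i)).2
      ⟨isQCHom_baseChange (hbc i) hf.1, isQSHom_baseChange (hbc i) hf.2⟩
  · have hi := fun i => ((algebraic_qs_coh hE (pullback.snd f (g i))).2 (hY i)).1 (h i)
    exact ⟨hloc.1.2 (fun i => (hi i).1), hloc.2.2 (fun i => (hi i).2)⟩

end Groth.Agent.Lib.ToposFinH8
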