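import Mathlib
import Groth.Prelude.Def_SGA4c
import Groth.Prelude.Def_ToposFin2
import Groth.Agent.Lib.ToposFin11_helper8

/-!
# Quasi-compactness and filtered colimits (helper8)
-/

set_option autoImplicit false

open CategoryTheory Limits Opposite

attribute [-instance] CategoryTheory.hasColimitsEssentiallySmallSite

namespace Groth.Agent.Lib.ToposFinH8

universe u
variable {C : Type u} [SmallCategory C] {J : GrothendieckTopology C}

/-- Two maps into a stage of a filtered diagram which agree in the colimit agree locally at a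
later stage. -/
theorem exists_local_eq_of_comp_ι_eq {I : Type u} [SmallCategory I] [IsFiltered I]
    (D : I ⥤ Sheaf J (Type u)) (c : Cocone D) (hc : IsColimit c) {X : Sheaf J (Type u)} {i : I}
    (a b : X ⟶ D.obj i) (h : a ≫ c.ι.app i = b ≫ c.ι.app i) (U : C) (x : X.obj.obj (op U)) :
    ∃ S ∈ J U, ∀ ⦃V : C⦄ (v : V ⟶ U), S v → ∃ (k : I) (φ : i ⟶ k),
      (D.map φ).hom.app (op V) (a.hom.app (op V) (X.obj.map v.op x)) =
      (D.map φ).hom.app (op V) (b.hom.app (op V) (X.obj.map v.op x)) := by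
  let E := colimit.cocone (D ⋙ sheafToPresheaf J (Type u))
  have hE : IsColimit E := colimit.isColimit _
  let sc := Sheaf.sheafifyCocone E
  have hsc : IsColimit sc := Sheaf.isColimitSheafifyCocone E hE
  have h' : a ≫ sc.ι.app i = b ≫ sc.ι.app i := by
    rw [← IsColimit.comp_coconePointUniqueUpToIso_hom hc hsc i, ← Category.assoc, h,
      Category.assoc]
  let τ := CategoryTheory.toSheafify J E.pt
  have hι : (sc.ι.app i).hom = E.ι.app i ≫ τ := Sheaf.sheafifyCocone_ι_app_val E i
  have h2 : τ.app (op U) ((E.ι.app i).app (op U) (a.hom.app (op U) x)) =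
      τ.app (op U) ((E.ι.app i).app (op U) (b.hom.app (op U) x)) := by
    have h3 := congrArg (fun t => t.hom.app (op U) x) h'
    have h4 : ∀ y, (sc.ι.app i).hom.app (op U) y = τ.app (op U) ((E.ι.app i).app (op U) y) := by
      intro y
      rw [hι]
      rfl
    exact (h4 _).symm.trans (h3.trans (h4 _))
  refine ⟨_, Presheaf.equalizerSieve_mem J τ _ _ h2, ?_⟩
  intro V v hv
  have hv' : E.pt.map v.op ((E.ι.app i).app (op U) (a.hom.app (op U) x)) =
      E.pt.map v.op ((E.ι.app i).app (op U) (b.hom.app (op U) x)) := hv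
  have n1 := fun y => NatTrans.naturality_apply (E.ι.app i) v.op y
  have n2 := NatTrans.naturality_apply a.hom v.op x
  have n3 := NatTrans.naturality_apply b.hom v.op x
  have h5 : (E.ι.app i).app (op V) (a.hom.app (op V) (X.obj.map v.op x)) =
      (E.ι.app i).app (op V) (b.hom.app (op V) (X.obj.map v.op x)) := by
    rw [n2, n3]
    exact (n1 _).trans (hv'.trans (n1 _).symm)
  have hEV := isColimitOfPreserves ((evaluation Cᵒᵖ (Type u)).obj (op V)) hE
  obtain ⟨k, φ, hφ⟩ := (Types.FilteredColimit.isColimit_eq_iff' hEV _ _).1 h5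
  exact ⟨k, φ, hφ⟩

open Groth.Agent.Lib.ShRepH8 in
/-- If `X` is quasi-compact, two maps into a stage of a filtered diagram which agree in the colimit
agree at a later stage. -/
theorem exists_eq_of_comp_ι_eq_of_isQC {I : Type u} [SmallCategory I] [IsFiltered I]
    (D : I ⥤ Sheaf J (Type u)) (c : Cocone D) (hc : IsColimit c) {X : Sheaf J (Type u)}
    (hX : ToposFin.IsQC X) {k : I} (a b : X ⟶ D.obj k) (h : a ≫ c.ι.app k = b ≫ c.ι.app k) :
    ∃ (k' : I) (ψ : k ⟶ k'), a ≫ D.map ψ = b ≫ D.map ψ := by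
  classical
  let Φ := Σ k' : I, (k ⟶ k')
  let Eqz : Φ → Sheaf J (Type u) := fun φ => equalizer (a ≫ D.map φ.2) (b ≫ D.map φ.2)
  let m : ∀ φ, Eqz φ ⟶ X := fun φ => equalizer.ι _ _
  have hje : JE m := by
    apply je_of_ljs
    intro U x
    obtain ⟨S, hS, hS'⟩ := exists_local_eq_of_comp_ι_eq D c hc a b h U x
    refine ⟨S, hS, fun V v hv => ?_⟩
    obtain ⟨k', φ, hφ⟩ := hS' v hv
    refine ⟨⟨k', φ⟩, ?_⟩
    let xh : ToposFin.eps J V ⟶ X := (homEquiv J V X).symm (X.obj.map v.op x)
    have hx : xh ≫ (a ≫ D.map φ) = xh ≫ (b ≫ D.map φ) := by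
      apply (homEquiv J V _).injective
      rw [homEquiv_comp, homEquiv_comp, Equiv.apply_symm_apply]
      exact hφ
    refine ⟨homEquiv J V _ (equalizer.lift xh hx), ?_⟩
    have e1 := homEquiv_comp J (equalizer.lift xh hx) (m ⟨k', φ⟩)
    have e2 : equalizer.lift xh hx ≫ m ⟨k', φ⟩ = xh := equalizer.lift_ι _ _
    rw [e2, Equiv.apply_symm_apply] at e1
    exact e1.symm
  obtain ⟨s, hs⟩ := (isQC_iff X).1 hX Φ Eqz m hje
  let O : Finset I := insert k (s.image (fun φ => φ.1))
  have hk : k ∈ O := Finset.mem_insert_self _ _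
  have hmem : ∀ φ : s, φ.1.1 ∈ O := fun φ =>
    Finset.mem_insert_of_mem (Finset.mem_image_of_mem _ φ.2)
  let H : Finset (Σ' (X Y : I) (_ : X ∈ O) (_ : Y ∈ O), X ⟶ Y) :=
    s.attach.image (fun φ => ⟨k, φ.1.1, hk, hmem φ, φ.1.2⟩)
  let ψ : k ⟶ IsFiltered.sup O H := IsFiltered.toSup O H hk
  have hcomm : ∀ φ : s, φ.1.2 ≫ IsFiltered.toSup O H (hmem φ) = ψ := fun φ =>
    IsFiltered.toSup_commutes O H hk (hmem φ)
      (Finset.mem_image.2 ⟨φ, Finset.mem_attach _ _, rfl⟩)
  refine ⟨_, ψ, ?_⟩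
  have hfac : ∀ φ : s, m φ ≫ (a ≫ D.map ψ) = m φ ≫ (b ≫ D.map ψ) := by
    intro φ
    have hc1 : m φ ≫ (a ≫ D.map φ.1.2) = m φ ≫ (b ≫ D.map φ.1.2) :=
      equalizer.condition (a ≫ D.map φ.1.2) (b ≫ D.map φ.1.2)
    have hc2 := congrArg (fun t => t ≫ D.map (IsFiltered.toSup O H (hmem φ))) hc1
    simp only [Category.assoc] at hc2
    rw [← hcomm φ, D.map_comp]
    exact hc2
  have hje1 : JE (fun _ : Unit => equalizer.ι (a ≫ D.map ψ) (b ≫ D.map ψ)) :=
    je_of_factor _ (fun φ : s => m φ)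
      (fun φ => ⟨(), equalizer.lift (m φ) (hfac φ), equalizer.lift_ι _ _⟩) hs
  haveI : Epi (equalizer.ι (a ≫ D.map ψ) (b ≫ D.map ψ)) := epi_of_je_single _ hje1
  exact eq_of_epi_equalizer

theorem post_ι_apply {X : Sheaf J (Type u)} {I : Type u} [SmallCategory I]
    (D : I ⥤ Sheaf J (Type u)) (i : I) (a : X ⟶ D.obj i) :
    colimit.post D (coyoneda.obj (op X)) (colimit.ι (D ⋙ coyoneda.obj (op X)) i a) =
      a ≫ colimit.ι D i :=
  ConcreteCategory.congr_hom (colimit.ι_post D (coyoneda.obj (op X)) i) a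

/-- SGA4 VI 1.5-type (one direction). -/
theorem injective_post_of_isQC {X : Sheaf J (Type u)} (hX : ToposFin.IsQC X) (I : Type u)
    [SmallCategory I] [IsFiltered I] (D : I ⥤ Sheaf J (Type u)) :
    Function.Injective (colimit.post D (coyoneda.obj (op X))) := by
  intro p q hpq
  obtain ⟨i, a, rfl⟩ := Types.jointly_surjective' p
  obtain ⟨j, b, rfl⟩ := Types.jointly_surjective' q
  have hpq' : (a : X ⟶ D.obj i) ≫ colimit.ι D i = (b : X ⟶ D.obj j) ≫ colimit.ι D j :=
    (post_ι_apply D i a).symm.trans (hpq.trans (post_ι_apply D j b))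
  let k := IsFiltered.max i j
  have h' : ((a : X ⟶ D.obj i) ≫ D.map (IsFiltered.leftToMax i j)) ≫ colimit.ι D k =
      ((b : X ⟶ D.obj j) ≫ D.map (IsFiltered.rightToMax i j)) ≫ colimit.ι D k := by
    rw [Category.assoc, Category.assoc, colimit.w, colimit.w]
    exact hpq'
  obtain ⟨k', ψ, hψ⟩ := exists_eq_of_comp_ι_eq_of_isQC D (colimit.cocone D) (colimit.isColimit D)
    hX _ _ h'
  refine (Types.FilteredColimit.colimit_eq_iff _).2
    ⟨k', IsFiltered.leftToMax i j ≫ ψ, IsFiltered.rightToMax i j ≫ ψ, ?_⟩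
  show (a : X ⟶ D.obj i) ≫ D.map (IsFiltered.leftToMax i j ≫ ψ) =
    (b : X ⟶ D.obj j) ≫ D.map (IsFiltered.rightToMax i j ≫ ψ)
  rw [D.map_comp, D.map_comp, ← Category.assoc, ← Category.assoc]
  exact hψ

section Converse

variable {X : Sheaf J (Type u)} {ι : Type u} (F : ι → Sheaf J (Type u)) (π : ∀ i, F i ⟶ X)

/-- the partial coproduct maps -/
noncomputable def sig (s : Finset ι) : (∐ fun j : s => F j) ⟶ X := Sigma.desc (fun j : s => π j)

/-- the cokernel pair of the partial coproduct map -/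
noncomputable def cokPair (s : Finset ι) : Sheaf J (Type u) := pushout (sig F π s) (sig F π s)

noncomputable def cokInl (s : Finset ι) : X ⟶ cokPair F π s := pushout.inl _ _

noncomputable def cokInr (s : Finset ι) : X ⟶ cokPair F π s := pushout.inr _ _

lemma π_cokInl {t : Finset ι} (j : ι) (hj : j ∈ t) : π j ≫ cokInl F π t = π j ≫ cokInr F π t := by
  have h1 : Sigma.ι (fun j : t => F j) ⟨j, hj⟩ ≫ sig F π t = π j :=
    Sigma.ι_desc (fun j : t => π j) ⟨j, hj⟩
  rw [← h1, Category.assoc, Category.assoc]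
  congr 1
  exact pushout.condition

lemma sig_le {s t : Finset ι} (h : s ≤ t) :
    sig F π s ≫ cokInl F π t = sig F π s ≫ cokInr F π t := by
  apply Sigma.hom_ext
  intro j
  have h1 : Sigma.ι (fun j : s => F j) j ≫ sig F π s = π j := Sigma.ι_desc (fun j : s => π j) j
  rw [← Category.assoc, ← Category.assoc, h1]
  exact π_cokInl F π j (h j.2)

noncomputable def cokMap {s t : Finset ι} (h : s ≤ t) : cokPair F π s ⟶ cokPair F π t :=
  pushout.desc (cokInl F π t) (cokInr F π t) (sig_le F π h)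

lemma cokInl_map {s t : Finset ι} (h : s ≤ t) : cokInl F π s ≫ cokMap F π h = cokInl F π t :=
  pushout.inl_desc _ _ _

lemma cokInr_map {s t : Finset ι} (h : s ≤ t) : cokInr F π s ≫ cokMap F π h = cokInr F π t :=
  pushout.inr_desc _ _ _

@[reducible] noncomputable def cokFunctor : Finset ι ⥤ Sheaf J (Type u) where
  obj := cokPair F π
  map f := cokMap F π (leOfHom f)
  map_id s := by
    apply pushout.hom_ext
    · show cokInl F π s ≫ cokMap F π (leOfHom (𝟙 s)) = cokInl F π s ≫ 𝟙 _
      rw [cokInl_map, Category.comp_id]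
    · show cokInr F π s ≫ cokMap F π (leOfHom (𝟙 s)) = cokInr F π s ≫ 𝟙 _
      rw [cokInr_map, Category.comp_id]
  map_comp {s t r} f g := by
    apply pushout.hom_ext
    · show cokInl F π s ≫ cokMap F π (leOfHom (f ≫ g)) =
        cokInl F π s ≫ (cokMap F π (leOfHom f) ≫ cokMap F π (leOfHom g))
      rw [← Category.assoc, cokInl_map, cokInl_map, cokInl_map]
    · show cokInr F π s ≫ cokMap F π (leOfHom (f ≫ g)) =
        cokInr F π s ≫ (cokMap F π (leOfHom f) ≫ cokMap F π (leOfHom g))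
      rw [← Category.assoc, cokInr_map, cokInr_map, cokInr_map]

end Converse

/-- SGA4 VI 1.5-type (converse direction). -/
theorem isQC_of_injective_post {X : Sheaf J (Type u)}
    (h : ∀ (I : Type u) [SmallCategory I] [IsFiltered I] (D : I ⥤ Sheaf J (Type u)),
      Function.Injective (colimit.post D (coyoneda.obj (op X)))) : ToposFin.IsQC X := by
  classical
  rw [isQC_iff]
  intro ι F π hπ
  let D := cokFunctor F π
  have hcol : ∀ s : Finset ι, cokInl F π s ≫ colimit.ι D s = cokInr F π s ≫ colimit.ι D s := by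
    intro s
    apply hπ
    intro j
    have hle : s ≤ insert j s := Finset.subset_insert j s
    have hw : D.map (homOfLE hle) ≫ colimit.ι D (insert j s) = colimit.ι D s := colimit.w D _
    have e1 : cokInl F π s ≫ cokMap F π hle = cokInl F π (insert j s) := cokInl_map F π hle
    have e2 : cokInr F π s ≫ cokMap F π hle = cokInr F π (insert j s) := cokInr_map F π hle
    have hw' : cokMap F π hle ≫ colimit.ι D (insert j s) = colimit.ι D s := hw
    calc π j ≫ cokInl F π s ≫ colimit.ι D s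
        = π j ≫ cokInl F π s ≫ (cokMap F π hle ≫ colimit.ι D (insert j s)) := by rw [hw']
      _ = (π j ≫ (cokInl F π s ≫ cokMap F π hle)) ≫ colimit.ι D (insert j s) := by
          simp only [Category.assoc]
      _ = (π j ≫ (cokInr F π s ≫ cokMap F π hle)) ≫ colimit.ι D (insert j s) := by
          rw [e1, e2, π_cokInl F π j (Finset.mem_insert_self j s)]
      _ = π j ≫ cokInr F π s ≫ (cokMap F π hle ≫ colimit.ι D (insert j s)) := by
          simp only [Category.assoc]
      _ = π j ≫ cokInr F π s ≫ colimit.ι D s := by rw [hw']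
  have hxy : colimit.ι (D ⋙ coyoneda.obj (op X)) ∅ (cokInl F π ∅) =
      colimit.ι (D ⋙ coyoneda.obj (op X)) ∅ (cokInr F π ∅) := by
    apply h (Finset ι) D
    rw [post_ι_apply, post_ι_apply]
    exact hcol ∅
  obtain ⟨k, f, g, hfg⟩ := (Types.FilteredColimit.colimit_eq_iff _).1 hxy
  have hk : cokInl F π k = cokInr F π k := by
    have e1 : cokInl F π ∅ ≫ D.map f = cokInl F π k := cokInl_map F π (leOfHom f)
    have e2 : cokInr F π ∅ ≫ D.map g = cokInr F π k := cokInr_map F π (leOfHom g)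
    rw [← e1, ← e2]
    exact hfg
  refine ⟨k, ?_⟩
  intro Z a b hab
  have hab' : sig F π k ≫ a = sig F π k ≫ b := by
    apply Sigma.hom_ext
    intro j
    have h1 : Sigma.ι (fun j : k => F j) j ≫ sig F π k = π j := Sigma.ι_desc (fun j : k => π j) j
    rw [← Category.assoc, ← Category.assoc, h1]
    exact hab j
  have e1 : cokInl F π k ≫ pushout.desc a b hab' = a := pushout.inl_desc _ _ _
  have e2 : cokInr F π k ≫ pushout.desc a b hab' = b := pushout.inr_desc _ _ _
  calc a = cokInl F π k ≫ pushout.desc a b hab' := e1.symm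
    _ = cokInr F π k ≫ pushout.desc a b hab' := by rw [hk]
    _ = b := e2

theorem isQC_iff_injective_post (X : Sheaf J (Type u)) :
    ToposFin.IsQC X ↔ ∀ (I : Type u) [SmallCategory I] [IsFiltered I] (D : I ⥤ Sheaf J (Type u)),
      Function.Injective (colimit.post D (coyoneda.obj (op X))) :=
  ⟨fun hX I _ _ D => injective_post_of_isQC hX I D, isQC_of_injective_post⟩

end Groth.Agent.Lib.ToposFinH8
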