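import Mathlib
import Groth.Prelude.Def_SGA4c
import Groth.Prelude.Def_ToposFin2
import Groth.Agent.Lib.ToposFin12_helper8

/-!
# Coherent objects are finitely presented (helper8)
-/

set_option autoImplicit false

open CategoryTheory Limits Opposite

attribute [-instance] CategoryTheory.hasColimitsEssentiallySmallSite

namespace Groth.Agent.Lib.ToposFinH8

universe u
variable {C : Type u} [SmallCategory C] {J : GrothendieckTopology C}

/-- Descent along a jointly epimorphic family. -/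
theorem je_desc {ι : Type u} {X Z : Sheaf J (Type u)} {F : ι → Sheaf J (Type u)}
    (π : ∀ i, F i ⟶ X) (hπ : JE π) (l : ∀ i, F i ⟶ Z)
    (hl : ∀ i j, pullback.fst (π i) (π j) ≫ l i = pullback.snd (π i) (π j) ≫ l j) :
    ∃ a : X ⟶ Z, ∀ i, π i ≫ a = l i := by
  let σ : ∐ F ⟶ X := Sigma.desc π
  let L : ∐ F ⟶ Z := Sigma.desc l
  haveI : Epi σ := (epi_sigmaDesc_iff π).2 hπ
  haveI : EffectiveEpi σ :=
    Groth.Agent.Lib.EffEpiH8.uee_effectiveEpi (Groth.Agent.Lib.SheafEpiH8.epi_uee J σ)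
  have hσ : ∀ i, Sigma.ι F i ≫ σ = π i := fun i => Sigma.ι_desc π i
  have hL : ∀ i, Sigma.ι F i ≫ L = l i := fun i => Sigma.ι_desc l i
  have hjeι : JE (fun i => Sigma.ι F i) := je_inj (coproductIsCoproduct F)
  have key : pullback.fst σ σ ≫ L = pullback.snd σ σ ≫ L := by
    apply je_pullback_map (fun i => Sigma.ι F i) (fun j => Sigma.ι F j) σ σ hjeι hjeι
    rintro ⟨i, j⟩
    dsimp only
    have e1 : pullback.map (Sigma.ι F i ≫ σ) (Sigma.ι F j ≫ σ) σ σ (Sigma.ι F i) (Sigma.ι F j)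
        (𝟙 X) (Category.comp_id _) (Category.comp_id _) ≫ pullback.fst σ σ =
        pullback.fst _ _ ≫ Sigma.ι F i := pullback.lift_fst _ _ _
    have e2 : pullback.map (Sigma.ι F i ≫ σ) (Sigma.ι F j ≫ σ) σ σ (Sigma.ι F i) (Sigma.ι F j)
        (𝟙 X) (Category.comp_id _) (Category.comp_id _) ≫ pullback.snd σ σ =
        pullback.snd _ _ ≫ Sigma.ι F j := pullback.lift_snd _ _ _
    rw [← Category.assoc, ← Category.assoc, e1, e2, Category.assoc, Category.assoc, hL, hL]
    let e := pullback.congrHom (hσ i) (hσ j)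
    have f1 : pullback.fst (Sigma.ι F i ≫ σ) (Sigma.ι F j ≫ σ) =
        e.hom ≫ pullback.fst (π i) (π j) :=
      ((pullback.lift_fst _ _ _).trans (Category.comp_id _)).symm
    have f2 : pullback.snd (Sigma.ι F i ≫ σ) (Sigma.ι F j ≫ σ) =
        e.hom ≫ pullback.snd (π i) (π j) :=
      ((pullback.lift_snd _ _ _).trans (Category.comp_id _)).symm
    rw [f1, f2, Category.assoc, Category.assoc, hl i j]
  refine ⟨EffectiveEpi.desc σ L (fun {T} g₁ g₂ hg => ?_), fun i => ?_⟩
  · have h1 : pullback.lift g₁ g₂ hg ≫ pullback.fst σ σ = g₁ := pullback.lift_fst _ _ _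
    have h2 : pullback.lift g₁ g₂ hg ≫ pullback.snd σ σ = g₂ := pullback.lift_snd _ _ _
    calc g₁ ≫ L = (pullback.lift g₁ g₂ hg ≫ pullback.fst σ σ) ≫ L := by rw [h1]
      _ = pullback.lift g₁ g₂ hg ≫ pullback.snd σ σ ≫ L := by rw [Category.assoc, key]
      _ = (pullback.lift g₁ g₂ hg ≫ pullback.snd σ σ) ≫ L := (Category.assoc _ _ _).symm
      _ = g₂ ≫ L := by rw [h2]
  · rw [← hσ i, Category.assoc, EffectiveEpi.fac, hL]

/-- Descent along an epimorphism. -/
theorem epi_desc {G X Z : Sheaf J (Type u)} (p : G ⟶ X) [Epi p] (l : G ⟶ Z)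
    (h : pullback.fst p p ≫ l = pullback.snd p p ≫ l) : ∃ a : X ⟶ Z, p ≫ a = l := by
  haveI : EffectiveEpi p :=
    Groth.Agent.Lib.EffEpiH8.uee_effectiveEpi (Groth.Agent.Lib.SheafEpiH8.epi_uee J p)
  refine ⟨EffectiveEpi.desc p l (fun {T} g₁ g₂ hg => ?_), EffectiveEpi.fac _ _ _⟩
  have h1 : pullback.lift g₁ g₂ hg ≫ pullback.fst p p = g₁ := pullback.lift_fst _ _ _
  have h2 : pullback.lift g₁ g₂ hg ≫ pullback.snd p p = g₂ := pullback.lift_snd _ _ _
  calc g₁ ≫ l = (pullback.lift g₁ g₂ hg ≫ pullback.fst p p) ≫ l := by rw [h1]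
    _ = pullback.lift g₁ g₂ hg ≫ pullback.snd p p ≫ l := by rw [Category.assoc, h]
    _ = (pullback.lift g₁ g₂ hg ≫ pullback.snd p p) ≫ l := (Category.assoc _ _ _).symm
    _ = g₂ ≫ l := by rw [h2]

/-- SGA4 VI 1.23 (one direction): coherent objects are finitely presented, provided there are
enough quasi-compact objects. -/
theorem surjective_post_of_isCoherent (hE : ToposFin.HasQCGenerators J) {X : Sheaf J (Type u)}
    (hX : ToposFin.IsCoherent X) (I : Type u) [SmallCategory I] [IsFiltered I]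
    (D : I ⥤ Sheaf J (Type u)) :
    Function.Surjective (colimit.post D (coyoneda.obj (op X))) := by
  classical
  intro t
  change X ⟶ colimit D at t
  have hjeι : JE (fun i => colimit.ι D i) := fun Z a b h => colimit.hom_ext h
  have hfst : JE (fun i => pullback.fst t (colimit.ι D i)) :=
    je_pullback (fun i => colimit.ι D i) t (fun i => pullback.fst t (colimit.ι D i))
      (fun i => pullback.snd t (colimit.ι D i))
      (fun i => IsPullback.of_hasPullback t (colimit.ι D i)) hjeι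
  choose κ G π hG hπ using fun i => hasQCGen_je hE (pullback t (colimit.ι D i))
  have hcomp := je_comp (fun i => pullback.fst t (colimit.ι D i)) π hfst hπ
  obtain ⟨s, hs⟩ := (isQC_iff X).1 hX.1 (Σ i, κ i) (fun p => G p.1 p.2) _ hcomp
  obtain ⟨k0, hk0⟩ := IsFiltered.sup_objs_exists (s.image Sigma.fst)
  let φ : ∀ m : s, m.1.1 ⟶ k0 := fun m => (hk0 (Finset.mem_image_of_mem _ m.2)).some
  let Gs : s → Sheaf J (Type u) := fun m => G m.1.1 m.1.2
  let ρ : ∐ Gs ⟶ X :=
    Sigma.desc (fun m : s => π m.1.1 m.1.2 ≫ pullback.fst t (colimit.ι D m.1.1))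
  let l : ∐ Gs ⟶ D.obj k0 :=
    Sigma.desc (fun m : s => π m.1.1 m.1.2 ≫ pullback.snd t (colimit.ι D m.1.1) ≫ D.map (φ m))
  haveI : Epi ρ := (epi_sigmaDesc_iff _).2 hs
  have hl : l ≫ colimit.ι D k0 = ρ ≫ t := by
    apply Sigma.hom_ext
    intro m
    rw [Sigma.ι_desc_assoc, Sigma.ι_desc_assoc, Category.assoc, Category.assoc, Category.assoc,
      colimit.w, pullback.condition]
  have hGs : ToposFin.IsQC (∐ Gs) :=
    isQC_of_finite_je Gs (fun m => Sigma.ι Gs m) (je_inj (coproductIsCoproduct Gs))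
      (fun m => hG m.1.1 m.1.2)
  have hQ : ToposFin.IsQC (pullback ρ ρ) := hX.2 _ _ ρ ρ hGs hGs
  have h' : (pullback.fst ρ ρ ≫ l) ≫ colimit.ι D k0 = (pullback.snd ρ ρ ≫ l) ≫ colimit.ι D k0 := by
    rw [Category.assoc, Category.assoc, hl, ← Category.assoc, ← Category.assoc, pullback.condition]
  obtain ⟨k1, χ, hχ⟩ := exists_eq_of_comp_ι_eq_of_isQC D (colimit.cocone D) (colimit.isColimit D)
    hQ _ _ h'
  obtain ⟨a, ha⟩ := epi_desc ρ (l ≫ D.map χ) (by
    rw [← Category.assoc, ← Category.assoc]; exact hχ)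
  have hat : a ≫ colimit.ι D k1 = t := by
    rw [← cancel_epi ρ, ← Category.assoc, ha, Category.assoc, colimit.w, hl]
  exact ⟨colimit.ι (D ⋙ coyoneda.obj (op X)) k1 a, (post_ι_apply D k1 a).trans hat⟩

theorem isFP_of_isCoherent (hE : ToposFin.HasQCGenerators J) {X : Sheaf J (Type u)}
    (hX : ToposFin.IsCoherent X) : ToposFin.IsFP X := fun I _ _ D =>
  ⟨injective_post_of_isQC hX.1 I D, surjective_post_of_isCoherent hE hX I D⟩

end Groth.Agent.Lib.ToposFinH8
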