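import Mathlib
import Groth.Prelude.Def_SGA4c
import Groth.Agent.Lib.ToposFin13_helper8

/-!
# The canonical topology of a Grothendieck topos (helper8)

Sheaves for the canonical topology of `Sheaf J (Type u)` are the functors turning small colimits
into limits (SGA4 IV 1.2-type).
-/

set_option autoImplicit false

open CategoryTheory Limits Opposite

attribute [-instance] CategoryTheory.hasColimitsEssentiallySmallSite

namespace Groth.Agent.Lib.CanTopH8

open Groth.Agent.Lib.ToposFinH8 Groth.Agent.Lib.ShRepH8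

universe w v₁ v₂ u
variable {C : Type u} [SmallCategory C] (J : GrothendieckTopology C)

/-- A sieve containing a small jointly epimorphic family is a sheaf-sieve for representables. -/
theorem isSheafFor_yoneda_of_je {Y : Sheaf J (Type u)} (S : Sieve Y) {ι : Type u}
    {F : ι → Sheaf J (Type u)} (π : ∀ i, F i ⟶ Y) (hπ : JE π) (hS : ∀ i, S (π i))
    (Z : Sheaf J (Type u)) : Presieve.IsSheafFor (yoneda.obj Z) S.arrows := by
  intro x hx
  have hcomp : ∀ {W₁ W₂ W : Sheaf J (Type u)} (g₁ : W ⟶ W₁) (g₂ : W ⟶ W₂) (f₁ : W₁ ⟶ Y)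
      (f₂ : W₂ ⟶ Y) (h₁ : S f₁) (h₂ : S f₂), g₁ ≫ f₁ = g₂ ≫ f₂ →
      g₁ ≫ x f₁ h₁ = g₂ ≫ x f₂ h₂ :=
    fun g₁ g₂ f₁ f₂ h₁ h₂ e => hx g₁ g₂ h₁ h₂ e
  let l : ∀ i, F i ⟶ Z := fun i => x (π i) (hS i)
  have hl : ∀ i j, pullback.fst (π i) (π j) ≫ l i = pullback.snd (π i) (π j) ≫ l j := fun i j =>
    hcomp _ _ _ _ (hS i) (hS j) pullback.condition
  obtain ⟨a, ha⟩ := je_desc π hπ l hl
  refine ⟨a, ?_, ?_⟩
  · intro W g hg
    show g ≫ a = x g hg
    have hje : JE (fun i => pullback.fst g (π i)) :=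
      je_pullback π g _ (fun i => pullback.snd g (π i))
        (fun i => IsPullback.of_hasPullback g (π i)) hπ
    apply hje
    intro i
    have e1 : pullback.fst g (π i) ≫ g = pullback.snd g (π i) ≫ π i := pullback.condition
    have e2 : pullback.snd g (π i) ≫ x (π i) (hS i) = pullback.fst g (π i) ≫ x g hg :=
      hcomp (pullback.snd g (π i)) (pullback.fst g (π i)) (π i) g (hS i) hg e1.symm
    rw [← Category.assoc, e1, Category.assoc, ha i]
    exact e2
  · intro t ht
    apply hπ
    intro i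
    have h1 : π i ≫ t = x (π i) (hS i) := ht (π i) (hS i)
    rw [h1, ha i]

/-- A sieve containing a small jointly epimorphic family is covering for the canonical topology. -/
theorem mem_canonical_of_je {X : Sheaf J (Type u)} (S : Sieve X) {ι : Type u}
    {F : ι → Sheaf J (Type u)} (π : ∀ i, F i ⟶ X) (hπ : JE π) (hS : ∀ i, S (π i)) :
    S ∈ Sheaf.canonicalTopology (Sheaf J (Type u)) X := by
  apply Sheaf.mem_finestTopology_of_forall_isSheafFor
  rintro P ⟨Z, rfl⟩ Y f
  exact isSheafFor_yoneda_of_je J (S.pullback f) (fun i => pullback.fst f (π i))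
    (je_pullback π f _ (fun i => pullback.snd f (π i))
      (fun i => IsPullback.of_hasPullback f (π i)) hπ)
    (fun i => by
      show S (pullback.fst f (π i) ≫ f)
      rw [pullback.condition]
      exact S.downward_closed (hS i) _) Z

lemma homEquiv_symm_comp {V : C} {Y X : Sheaf J (Type u)} (y : Y.obj.obj (op V)) (g : Y ⟶ X) :
    (homEquiv J V Y).symm y ≫ g = (homEquiv J V X).symm (g.hom.app (op V) y) := by
  apply (homEquiv J V X).injective
  rw [homEquiv_comp, Equiv.apply_symm_apply, Equiv.apply_symm_apply]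

/-- A covering sieve for the canonical topology contains a small jointly epimorphic family. -/
theorem exists_je_of_mem_canonical {X : Sheaf J (Type u)} (S : Sieve X)
    (hS : S ∈ Sheaf.canonicalTopology (Sheaf J (Type u)) X) :
    ∃ (ι : Type u) (F : ι → Sheaf J (Type u)) (π : ∀ i, F i ⟶ X), JE π ∧ ∀ i, S (π i) := by
  let ι := {p : Σ V : C, X.obj.obj (op V) // S ((homEquiv J p.1 X).symm p.2)}
  refine ⟨ι, fun p => ToposFin.eps J p.1.1, fun p => (homEquiv J p.1.1 X).symm p.1.2, ?_,
    fun p => p.2⟩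
  intro Z a b hab
  have key : ∀ {Y : Sheaf J (Type u)} (g : Y ⟶ X), S g → g ≫ a = g ≫ b := by
    intro Y g hg
    apply je_eps_gen J Y
    rintro ⟨V, y⟩
    have e := homEquiv_symm_comp J y g
    have hmem : S ((homEquiv J V X).symm (g.hom.app (op V) y)) := by
      rw [← e]
      exact S.downward_closed hg _
    have h2 := hab ⟨⟨V, g.hom.app (op V) y⟩, hmem⟩
    show (homEquiv J V Y).symm y ≫ g ≫ a = (homEquiv J V Y).symm y ≫ g ≫ b
    rw [← Category.assoc, ← Category.assoc, e]
    exact h2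
  have hsh := Sheaf.isSheaf_yoneda_obj Z S hS
  exact hsh.isSeparatedFor (fun W g _ => g ≫ a) a b (fun W g hg => rfl)
    (fun W g hg => (key g hg).symm)

/-- Sections of two stages of a small diagram of sheaves which agree in the colimit are locally
related in the colimit of the presheaves of sections. -/
theorem exists_local_rel_of_ι_eq {I : Type u} [SmallCategory I] (D : I ⥤ Sheaf J (Type u))
    (c : Cocone D) (hc : IsColimit c) {i j : I} (U : C) (a : (D.obj i).obj.obj (op U))
    (b : (D.obj j).obj.obj (op U))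
    (h : (c.ι.app i).hom.app (op U) a = (c.ι.app j).hom.app (op U) b) :
    ∃ S ∈ J U, ∀ ⦃V : C⦄ (v : V ⟶ U), S v →
      ((D ⋙ sheafToPresheaf J (Type u)) ⋙ (evaluation Cᵒᵖ (Type u)).obj (op V)).ιColimitType i
          ((D.obj i).obj.map v.op a) =
        ((D ⋙ sheafToPresheaf J (Type u)) ⋙ (evaluation Cᵒᵖ (Type u)).obj (op V)).ιColimitType j
          ((D.obj j).obj.map v.op b) := by
  let E := colimit.cocone (D ⋙ sheafToPresheaf J (Type u))
  have hE : IsColimit E := colimit.isColimit _
  let sc := Sheaf.sheafifyCocone E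
  have hsc : IsColimit sc := Sheaf.isColimitSheafifyCocone E hE
  let e := IsColimit.coconePointUniqueUpToIso hc hsc
  have hcomm : ∀ k, c.ι.app k ≫ e.hom = sc.ι.app k := fun k =>
    IsColimit.comp_coconePointUniqueUpToIso_hom hc hsc k
  let τ := CategoryTheory.toSheafify J E.pt
  have hι : ∀ k, (sc.ι.app k).hom = E.ι.app k ≫ τ := fun k => Sheaf.sheafifyCocone_ι_app_val E k
  have h4 : ∀ k (y : (D.obj k).obj.obj (op U)),
      (sc.ι.app k).hom.app (op U) y = τ.app (op U) ((E.ι.app k).app (op U) y) := by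
    intro k y
    rw [hι]
    rfl
  have h1 : ∀ k (y : (D.obj k).obj.obj (op U)), (sc.ι.app k).hom.app (op U) y =
      e.hom.hom.app (op U) ((c.ι.app k).hom.app (op U) y) := by
    intro k y
    rw [← hcomm k]
    exact comp_app _ _ _ _
  have h2 : τ.app (op U) ((E.ι.app i).app (op U) a) = τ.app (op U) ((E.ι.app j).app (op U) b) := by
    rw [← h4, ← h4, h1, h1, h]
  refine ⟨_, Presheaf.equalizerSieve_mem J τ _ _ h2, ?_⟩
  intro V v hv
  have hv' : E.pt.map v.op ((E.ι.app i).app (op U) a) =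
      E.pt.map v.op ((E.ι.app j).app (op U) b) := hv
  have n1 := NatTrans.naturality_apply (E.ι.app i) v.op a
  have n2 := NatTrans.naturality_apply (E.ι.app j) v.op b
  have h5 : (E.ι.app i).app (op V) ((D.obj i).obj.map v.op a) =
      (E.ι.app j).app (op V) ((D.obj j).obj.map v.op b) :=
    n1.trans (hv'.trans n2.symm)
  have hEV := isColimitOfPreserves ((evaluation Cᵒᵖ (Type u)).obj (op V)) hE
  have hct := (Types.isColimit_iff_coconeTypesIsColimit _).1 ⟨hEV⟩
  apply hct.bijective.1
  exact h5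

section Core

variable {J}
variable (G : (Sheaf J (Type u))ᵒᵖ ⥤ Type w) {I : Type u} [SmallCategory I]
  (D : I ⥤ Sheaf J (Type u)) (s : ∀ i, G.obj (op (D.obj i)))
  (hs : ∀ {i j : I} (f : i ⟶ j), G.map (D.map f).op (s j) = s i)

/-- The cocone of types used to transport a compatible family along the presheaf colimit. -/
noncomputable def cocT (V : C) :
    ((D ⋙ sheafToPresheaf J (Type u)) ⋙ (evaluation Cᵒᵖ (Type u)).obj (op V)).CoconeTypes where
  pt := G.obj (op (ToposFin.eps J V))
  ι k h := G.map ((homEquiv J V (D.obj k)).symm h).op (s k)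
  ι_naturality {k k'} f := by
    funext h
    show G.map ((homEquiv J V (D.obj k')).symm ((D.map f).hom.app (op V) h)).op (s k') =
      G.map ((homEquiv J V (D.obj k)).symm h).op (s k)
    rw [← homEquiv_symm_comp J h (D.map f), op_comp, Functor.map_comp_apply, hs f]

end Core

/-- A sheaf of types for the canonical topology of `Sheaf J (Type u)` turns small colimits into
limits (elementwise form). -/
theorem existsUnique_of_isSheaf (G : (Sheaf J (Type u))ᵒᵖ ⥤ Type w)
    (hG : Presieve.IsSheaf (Sheaf.canonicalTopology (Sheaf J (Type u))) G)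
    {I : Type u} [SmallCategory I] (D : I ⥤ Sheaf J (Type u)) (c : Cocone D) (hc : IsColimit c)
    (s : ∀ i, G.obj (op (D.obj i)))
    (hs : ∀ {i j : I} (f : i ⟶ j), G.map (D.map f).op (s j) = s i) :
    ∃! x : G.obj (op c.pt), ∀ i, G.map (c.ι.app i).op x = s i := by
  have hje : JE (fun i => c.ι.app i) := fun Z a b h => hc.hom_ext h
  have hS : Sieve.ofArrows (fun i => D.obj i) (fun i => c.ι.app i) ∈
      Sheaf.canonicalTopology (Sheaf J (Type u)) c.pt :=
    mem_canonical_of_je J _ _ hje (fun i => Sieve.ofArrows_mk _ _ i)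
  have hsh : Presieve.IsSheafFor G (Presieve.ofArrows (fun i => D.obj i) (fun i => c.ι.app i)) :=
    (Presieve.isSheafFor_iff_generate _).2 (hG _ hS)
  rw [Presieve.isSheafFor_arrows_iff] at hsh
  refine hsh s ?_
  intro i j W gi gj hg
  -- the good local sections of `W`
  let FV : C → I ⥤ Type u := fun V =>
    (D ⋙ sheafToPresheaf J (Type u)) ⋙ (evaluation Cᵒᵖ (Type u)).obj (op V)
  let ιW := {p : Σ V : C, W.obj.obj (op V) //
    (FV p.1).ιColimitType i (gi.hom.app (op p.1) p.2) =
      (FV p.1).ιColimitType j (gj.hom.app (op p.1) p.2)}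
  let ρ : ∀ p : ιW, ToposFin.eps J p.1.1 ⟶ W := fun p => (homEquiv J p.1.1 W).symm p.1.2
  have hρ : JE ρ := by
    apply je_of_ljs
    intro U x
    have h0 : (c.ι.app i).hom.app (op U) (gi.hom.app (op U) x) =
        (c.ι.app j).hom.app (op U) (gj.hom.app (op U) x) := by
      have := congrArg (fun t => t.hom.app (op U) x) hg
      simpa [comp_app] using this
    obtain ⟨T, hT, hT'⟩ := exists_local_rel_of_ι_eq J D c hc U _ _ h0
    refine ⟨T, hT, fun V v hv => ?_⟩
    have n1 : gi.hom.app (op V) (W.obj.map v.op x) = (D.obj i).obj.map v.op (gi.hom.app (op U) x) :=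
      NatTrans.naturality_apply gi.hom v.op x
    have n2 : gj.hom.app (op V) (W.obj.map v.op x) = (D.obj j).obj.map v.op (gj.hom.app (op U) x) :=
      NatTrans.naturality_apply gj.hom v.op x
    refine ⟨⟨⟨V, W.obj.map v.op x⟩, ?_⟩, homEquiv J V (ToposFin.eps J V) (𝟙 _), ?_⟩
    · show (FV V).ιColimitType i (gi.hom.app (op V) (W.obj.map v.op x)) =
        (FV V).ιColimitType j (gj.hom.app (op V) (W.obj.map v.op x))
      rw [n1, n2]
      exact hT' v hv
    · have e1 := homEquiv_comp J (𝟙 (ToposFin.eps J V)) ((homEquiv J V W).symm (W.obj.map v.op x))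
      rw [Category.id_comp, Equiv.apply_symm_apply] at e1
      exact e1.symm
  have hSW : Sieve.ofArrows (fun p : ιW => ToposFin.eps J p.1.1) ρ ∈
      Sheaf.canonicalTopology (Sheaf J (Type u)) W :=
    mem_canonical_of_je J _ _ hρ (fun p => Sieve.ofArrows_mk _ _ p)
  have hsep : Presieve.IsSeparatedFor G (Presieve.ofArrows (fun p : ιW => ToposFin.eps J p.1.1) ρ) :=
    ((Presieve.isSheafFor_iff_generate _).2 (hG _ hSW)).isSeparatedFor
  apply hsep.ext
  rintro _ _ ⟨p⟩
  have k1 : ∀ (k : I) (g : W ⟶ D.obj k), G.map (ρ p).op (G.map g.op (s k)) =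
      (cocT G D s hs p.1.1).ι k (g.hom.app (op p.1.1) p.1.2) := by
    intro k g
    show G.map (ρ p).op (G.map g.op (s k)) =
      G.map ((homEquiv J p.1.1 (D.obj k)).symm (g.hom.app (op p.1.1) p.1.2)).op (s k)
    rw [← homEquiv_symm_comp J p.1.2 g, op_comp, Functor.map_comp_apply]
  rw [k1 i gi, k1 j gj]
  have k2 := congrArg ((FV p.1.1).descColimitType (cocT G D s hs p.1.1)) p.2
  exact k2

/-- A sheaf of types for the canonical topology of `Sheaf J (Type u)` preserves the limit of any
small diagram of the opposite category. -/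
theorem isLimit_mapCone_of_isSheaf (G : (Sheaf J (Type u))ᵒᵖ ⥤ Type w)
    (hG : Presieve.IsSheaf (Sheaf.canonicalTopology (Sheaf J (Type u))) G)
    {K : Type u} [SmallCategory K] (D' : K ⥤ (Sheaf J (Type u))ᵒᵖ) (c' : Cone D')
    (hc' : IsLimit c') : Nonempty (IsLimit (G.mapCone c')) := by
  refine (Types.isLimit_iff _).2 (fun s hs => ?_)
  obtain ⟨x, hx, hux⟩ := existsUnique_of_isSheaf J G hG D'.leftOp (coconeLeftOpOfCone c')
    (isColimitCoconeLeftOpOfCone D' hc') (fun i => s i.unop)
    (fun {i j} f => hs f.unop)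
  exact ⟨x, fun k => hx (op k), fun y hy => hux y (fun i => hy i.unop)⟩

theorem preservesLimitsOfSize_of_isSheaf (G : (Sheaf J (Type u))ᵒᵖ ⥤ Type w)
    (hG : Presieve.IsSheaf (Sheaf.canonicalTopology (Sheaf J (Type u))) G) :
    PreservesLimitsOfSize.{u, u} G :=
  ⟨fun {K} _ => ⟨fun {D'} => ⟨fun {c'} hc' => isLimit_mapCone_of_isSheaf J G hG D' c' hc'⟩⟩⟩

section Preserves

variable {J}

theorem existsUnique_of_preservesLimit (G : (Sheaf J (Type u))ᵒᵖ ⥤ Type w) {I : Type v₁}
    [Category.{v₂} I] (D : I ⥤ Sheaf J (Type u)) [PreservesLimit D.op G] (c : Cocone D)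
    (hc : IsColimit c) (s : ∀ i, G.obj (op (D.obj i)))
    (hs : ∀ {i j : I} (f : i ⟶ j), G.map (D.map f).op (s j) = s i) :
    ∃! x : G.obj (op c.pt), ∀ i, G.map (c.ι.app i).op x = s i := by
  have hl : IsLimit (G.mapCone c.op) := isLimitOfPreserves G hc.op
  obtain ⟨x, hx, hux⟩ := (Types.isLimit_iff _).1 ⟨hl⟩ (fun j => s j.unop)
    (fun {j j'} f => hs f.unop)
  exact ⟨x, fun i => hx (op i), fun y hy => hux y (fun j => hy j.unop)⟩

theorem sigma_existsUnique (G : (Sheaf J (Type u))ᵒᵖ ⥤ Type w) [PreservesLimitsOfSize.{u, u} G]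
    {A : Type u} (F : A → Sheaf J (Type u)) (x : ∀ α, G.obj (op (F α))) :
    ∃! y : G.obj (op (∐ F)), ∀ α, G.map (Sigma.ι F α).op y = x α := by
  obtain ⟨y, hy, huy⟩ := existsUnique_of_preservesLimit G (Discrete.functor F)
    (Cofan.mk (∐ F) (Sigma.ι F)) (coproductIsCoproduct F) (fun i => x i.as)
    (fun {i j} f => by
      obtain ⟨i⟩ := i
      obtain ⟨j⟩ := j
      have hij : i = j := Discrete.eq_of_hom f
      subst hij
      have hf : f = 𝟙 _ := Subsingleton.elim _ _
      subst hf
      simp)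
  exact ⟨y, fun α => hy ⟨α⟩, fun z hz => huy z (fun i => hz i.as)⟩

theorem coeq_existsUnique (G : (Sheaf J (Type u))ᵒᵖ ⥤ Type w)
    [PreservesLimitsOfShape WalkingParallelPairᵒᵖ G] {A B Q : Sheaf J (Type u)} (a b : A ⟶ B)
    (q : B ⟶ Q) (w : a ≫ q = b ≫ q) (hq : IsColimit (Cofork.ofπ q w)) (y : G.obj (op B))
    (hy : G.map a.op y = G.map b.op y) : ∃! x : G.obj (op Q), G.map q.op x = y := by
  let s : ∀ i : WalkingParallelPair, G.obj (op ((parallelPair a b).obj i)) := fun i =>
    match i with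
    | WalkingParallelPair.zero => G.map a.op y
    | WalkingParallelPair.one => y
  obtain ⟨x, hx, hux⟩ := existsUnique_of_preservesLimit G (parallelPair a b) (Cofork.ofπ q w) hq s
    (fun {i j} f => by
      rcases f with _ | _ | _
      · rfl
      · exact hy.symm
      · simp)
  refine ⟨x, hx WalkingParallelPair.one, fun z hz => hux z (fun i => ?_)⟩
  cases i with
  | zero =>
    show G.map (a ≫ q).op z = G.map a.op y
    rw [op_comp, Functor.map_comp_apply, hz]
  | one => exact hz

/-- The Čech-type descent for a small jointly epimorphic family, for a functor turning small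
colimits into limits. -/
theorem je_descent (G : (Sheaf J (Type u))ᵒᵖ ⥤ Type w) [PreservesLimitsOfSize.{u, u} G]
    [PreservesLimitsOfShape WalkingParallelPairᵒᵖ G]
    {X : Sheaf J (Type u)} {A : Type u} {F : A → Sheaf J (Type u)} (π : ∀ α, F α ⟶ X)
    (hπ : JE π) :
    (∀ x y : G.obj (op X), (∀ α, G.map (π α).op x = G.map (π α).op y) → x = y) ∧
    (∀ xs : ∀ α, G.obj (op (F α)),
      (∀ α β, G.map (pullback.fst (π α) (π β)).op (xs α) =
        G.map (pullback.snd (π α) (π β)).op (xs β)) →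
      ∃ x : G.obj (op X), ∀ α, G.map (π α).op x = xs α) := by
  let σ : ∐ F ⟶ X := Sigma.desc π
  have hσ : ∀ α, Sigma.ι F α ≫ σ = π α := fun α => Sigma.ι_desc π α
  let P : A × A → Sheaf J (Type u) := fun p => pullback (π p.1) (π p.2)
  let uu : ∐ P ⟶ ∐ F := Sigma.desc (fun p => pullback.fst (π p.1) (π p.2) ≫ Sigma.ι F p.1)
  let vv : ∐ P ⟶ ∐ F := Sigma.desc (fun p => pullback.snd (π p.1) (π p.2) ≫ Sigma.ι F p.2)
  have huu : ∀ p, Sigma.ι P p ≫ uu = pullback.fst (π p.1) (π p.2) ≫ Sigma.ι F p.1 := fun p =>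
    Sigma.ι_desc _ p
  have hvv : ∀ p, Sigma.ι P p ≫ vv = pullback.snd (π p.1) (π p.2) ≫ Sigma.ι F p.2 := fun p =>
    Sigma.ι_desc _ p
  have w : uu ≫ σ = vv ≫ σ := by
    apply Sigma.hom_ext
    intro p
    rw [← Category.assoc, ← Category.assoc, huu, hvv, Category.assoc, Category.assoc, hσ, hσ,
      pullback.condition]
  have hdesc : ∀ t : Cofork uu vv, ∃ a : X ⟶ t.pt, σ ≫ a = t.π := by
    intro t
    obtain ⟨a, ha⟩ := je_desc π hπ (fun α => Sigma.ι F α ≫ t.π) (fun α β => by
      have h1 := congrArg (fun m => Sigma.ι P (α, β) ≫ m) t.condition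
      simp only [← Category.assoc] at h1
      rw [huu, hvv] at h1
      simpa only [Category.assoc] using h1)
    refine ⟨a, ?_⟩
    apply Sigma.hom_ext
    intro α
    rw [← Category.assoc, hσ, ha]
  haveI : Epi σ := (epi_sigmaDesc_iff π).2 hπ
  have hq : IsColimit (Cofork.ofπ σ w) :=
    Cofork.IsColimit.mk' _ (fun t => ⟨(hdesc t).choose, (hdesc t).choose_spec, fun {m} hm => by
      rw [← cancel_epi σ]
      exact hm.trans (hdesc t).choose_spec.symm⟩)
  have hmapσ : ∀ (α : A) (x : G.obj (op X)),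
      G.map (Sigma.ι F α).op (G.map σ.op x) = G.map (π α).op x := by
    intro α x
    rw [← hσ α, op_comp, Functor.map_comp_apply]
  constructor
  · intro x y hxy
    have h1 : G.map σ.op x = G.map σ.op y := by
      obtain ⟨z, _, hz⟩ := sigma_existsUnique G F (fun α => G.map (π α).op x)
      rw [hz (G.map σ.op x) (fun α => hmapσ α x),
        hz (G.map σ.op y) (fun α => (hmapσ α y).trans (hxy α).symm)]
    have hy0 : G.map uu.op (G.map σ.op y) = G.map vv.op (G.map σ.op y) := by
      rw [← Functor.map_comp_apply, ← Functor.map_comp_apply, ← op_comp, ← op_comp, w]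
    obtain ⟨z, _, hz⟩ := coeq_existsUnique G uu vv σ w hq (G.map σ.op y) hy0
    rw [hz x h1, hz y rfl]
  · intro xs hxs
    obtain ⟨y, hy, _⟩ := sigma_existsUnique G F xs
    have hy0 : G.map uu.op y = G.map vv.op y := by
      obtain ⟨z, _, hz⟩ := sigma_existsUnique G P
        (fun p => G.map (pullback.fst (π p.1) (π p.2)).op (xs p.1))
      have e1 : ∀ p, G.map (Sigma.ι P p).op (G.map uu.op y) =
          G.map (pullback.fst (π p.1) (π p.2)).op (xs p.1) := by
        intro p
        rw [← Functor.map_comp_apply, ← op_comp, huu, op_comp, Functor.map_comp_apply, hy]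
      have e2 : ∀ p, G.map (Sigma.ι P p).op (G.map vv.op y) =
          G.map (pullback.fst (π p.1) (π p.2)).op (xs p.1) := by
        intro p
        rw [← Functor.map_comp_apply, ← op_comp, hvv, op_comp, Functor.map_comp_apply, hy]
        exact (hxs p.1 p.2).symm
      rw [hz _ e1, hz _ e2]
    obtain ⟨x, hx, _⟩ := coeq_existsUnique G uu vv σ w hq y hy0
    exact ⟨x, fun α => by rw [← hmapσ, hx, hy]⟩

end Preserves

/-- A functor to types turning small colimits of `Sheaf J (Type u)` into limits is a sheaf for the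
canonical topology. -/
theorem isSheaf_of_preservesLimitsOfSize (G : (Sheaf J (Type u))ᵒᵖ ⥤ Type w)
    [PreservesLimitsOfSize.{u, u} G] :
    Presieve.IsSheaf (Sheaf.canonicalTopology (Sheaf J (Type u))) G := by
  haveI : PreservesFiniteLimits G := PreservesLimitsOfSize.preservesFiniteLimits.{u, u} G
  haveI : PreservesLimitsOfShape WalkingParallelPairᵒᵖ G := inferInstance
  intro X S hS
  obtain ⟨A, F, π, hπ, hSπ⟩ := exists_je_of_mem_canonical J S hS
  obtain ⟨hsep, hglue⟩ := je_descent G π hπ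
  intro x hx
  have hcomp : ∀ {W₁ W₂ W : Sheaf J (Type u)} (g₁ : W ⟶ W₁) (g₂ : W ⟶ W₂) (f₁ : W₁ ⟶ X)
      (f₂ : W₂ ⟶ X) (h₁ : S f₁) (h₂ : S f₂), g₁ ≫ f₁ = g₂ ≫ f₂ →
      G.map g₁.op (x f₁ h₁) = G.map g₂.op (x f₂ h₂) :=
    fun g₁ g₂ f₁ f₂ h₁ h₂ e => hx g₁ g₂ h₁ h₂ e
  obtain ⟨t, ht⟩ := hglue (fun α => x (π α) (hSπ α))
    (fun α β => hcomp _ _ _ _ (hSπ α) (hSπ β) pullback.condition)
  refine ⟨t, ?_, ?_⟩
  · intro W g hg
    obtain ⟨hsepW, -⟩ := je_descent G (fun α => pullback.fst g (π α))
      (je_pullback π g _ (fun α => pullback.snd g (π α))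
        (fun α => IsPullback.of_hasPullback g (π α)) hπ)
    apply hsepW
    intro α
    have e1 : pullback.fst g (π α) ≫ g = pullback.snd g (π α) ≫ π α := pullback.condition
    calc G.map (pullback.fst g (π α)).op (G.map g.op t)
        = G.map (pullback.fst g (π α) ≫ g).op t := by rw [op_comp, Functor.map_comp_apply]
      _ = G.map (pullback.snd g (π α)).op (G.map (π α).op t) := by
          rw [e1, op_comp, Functor.map_comp_apply]
      _ = G.map (pullback.snd g (π α)).op (x (π α) (hSπ α)) := by rw [ht]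
      _ = G.map (pullback.fst g (π α)).op (x g hg) :=
          hcomp _ _ _ _ (hSπ α) hg e1.symm
  · intro t' ht'
    apply hsep
    intro α
    rw [ht α]
    exact ht' (π α) (hSπ α)

/-- SGA4 IV 1.2-type: sheaves for the canonical topology of a topos, with values in any category,
are the functors turning small colimits into limits. -/
theorem isSheaf_canonical_iff {E' : Type v₁} [Category.{w} E'] (F : (Sheaf J (Type u))ᵒᵖ ⥤ E') :
    Presheaf.IsSheaf (Sheaf.canonicalTopology (Sheaf J (Type u))) F ↔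
      PreservesLimitsOfSize.{u, u} F := by
  constructor
  · intro hF
    refine ⟨fun {K} _ => ⟨fun {D'} => ⟨fun {c'} hc' => ⟨?_⟩⟩⟩⟩
    apply coyonedaJointlyReflectsLimits
    intro T
    have hG : Presieve.IsSheaf (Sheaf.canonicalTopology (Sheaf J (Type u)))
        (F ⋙ coyoneda.obj T) := hF T.unop
    exact (isLimit_mapCone_of_isSheaf J (F ⋙ coyoneda.obj T) hG D' c' hc').some
  · intro hF T
    exact isSheaf_of_preservesLimitsOfSize J (F ⋙ coyoneda.obj (op T))

end Groth.Agent.Lib.CanTopH8
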