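import Mathlib
import Groth.Prelude.Def_SGA4c
import Groth.Agent.Lib.CanTop_helper8

/-!
# Continuous functors between topoi for the canonical topologies (helper8)
-/

set_option autoImplicit false

open CategoryTheory Limits Opposite

attribute [-instance] CategoryTheory.hasColimitsEssentiallySmallSite

namespace Groth.Agent.Lib.CanTopH8

open Groth.Agent.Lib.ToposFinH8 Groth.Agent.Lib.ShRepH8

universe u
variable {C D : Type u} [SmallCategory C] [SmallCategory D]
  (J : GrothendieckTopology C) (K : GrothendieckTopology D)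
  (f : Sheaf J (Type u) ⥤ Sheaf K (Type u))

theorem isContinuous_of_preservesColimits [PreservesColimitsOfSize.{u, u} f] :
    f.IsContinuous (Sheaf.canonicalTopology (Sheaf J (Type u)))
      (Sheaf.canonicalTopology (Sheaf K (Type u))) := by
  refine ⟨fun G => ?_⟩
  haveI : PreservesLimitsOfSize.{u, u} G.obj :=
    preservesLimitsOfSize_of_isSheaf K G.obj ((isSheaf_iff_isSheaf_of_type _ _).1 G.property)
  haveI : PreservesLimitsOfSize.{u, u} f.op := preservesLimitsOfSize_op f
  exact isSheaf_of_preservesLimitsOfSize J (f.op ⋙ G.obj)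

theorem preservesColimits_of_isContinuous
    [f.IsContinuous (Sheaf.canonicalTopology (Sheaf J (Type u)))
      (Sheaf.canonicalTopology (Sheaf K (Type u)))] :
    PreservesColimitsOfSize.{u, u} f := by
  refine ⟨fun {I} _ => ⟨fun {D'} => ⟨fun {c} hc => ⟨?_⟩⟩⟩⟩
  refine (Limits.Cocone.isColimitYonedaEquiv (f.mapCocone c)).symm (fun Z => ?_)
  have hZ : Presieve.IsSheaf (Sheaf.canonicalTopology (Sheaf J (Type u)))
      (f.op ⋙ yoneda.obj Z) :=
    f.op_comp_isSheaf_of_types (Sheaf.canonicalTopology (Sheaf J (Type u)))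
      (Sheaf.canonicalTopology (Sheaf K (Type u)))
      ⟨yoneda.obj Z, (isSheaf_iff_isSheaf_of_type _ _).2 (Sheaf.isSheaf_yoneda_obj Z)⟩
  haveI : PreservesLimitsOfSize.{u, u} (f.op ⋙ yoneda.obj Z) :=
    preservesLimitsOfSize_of_isSheaf J _ hZ
  exact isLimitOfPreserves (f.op ⋙ yoneda.obj Z) hc.op

theorem preservesColimits_iff_isContinuous :
    PreservesColimitsOfSize.{u, u} f ↔
      f.IsContinuous (Sheaf.canonicalTopology (Sheaf J (Type u)))
        (Sheaf.canonicalTopology (Sheaf K (Type u))) :=
  ⟨fun _ => isContinuous_of_preservesColimits J K f,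
    fun _ => preservesColimits_of_isContinuous J K f⟩

end Groth.Agent.Lib.CanTopH8
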