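import Mathlib
import Groth.Prelude.Def_SGA4c
import Groth.Prelude.Def_SGA4a
import Groth.Agent.Lib.CanTop2_helper8

/-!
# Inverse image functors between topoi (helper8)
-/

set_option autoImplicit false

open CategoryTheory Limits Opposite

attribute [-instance] CategoryTheory.hasColimitsEssentiallySmallSite

namespace Groth.Agent.Lib.CanTopH8

open Groth.Agent.Lib.ToposFinH8 Groth.Agent.Lib.ShRepH8

universe u
variable {C D : Type u} [SmallCategory C] [SmallCategory D]
  (J : GrothendieckTopology C) (K : GrothendieckTopology D)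
  (f : Sheaf J (Type u) ⥤ Sheaf K (Type u))

theorem coverPreserving_of_preservesEpiFamilies
    (hf : SGA4.PreservesEpiFamilies.{u + 1, u + 1, u} f) :
    CoverPreserving (Sheaf.canonicalTopology (Sheaf J (Type u)))
      (Sheaf.canonicalTopology (Sheaf K (Type u))) f := by
  refine ⟨fun {U S} hS => ?_⟩
  obtain ⟨A, F, π, hπ, hSπ⟩ := exists_je_of_mem_canonical J S hS
  have h1 : SGA4.IsEpiFamily (fun α => f.map (π α)) :=
    hf A U F π (fun Z a b h => hπ a b h)
  exact mem_canonical_of_je K _ (fun α => f.map (π α)) (fun Z a b h => h1 Z a b h)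
    (fun α => Sieve.image_mem_functorPushforward f S (hSπ α))

theorem isContinuous_of_preservesEpiFamilies [PreservesFiniteLimits f]
    (hf : SGA4.PreservesEpiFamilies.{u + 1, u + 1, u} f) :
    f.IsContinuous (Sheaf.canonicalTopology (Sheaf J (Type u)))
      (Sheaf.canonicalTopology (Sheaf K (Type u))) := by
  haveI : RepresentablyFlat f := flat_of_preservesFiniteLimits f
  exact Functor.isContinuous_iff_coverPreserving.2
    (coverPreserving_of_preservesEpiFamilies J K f hf)

/-- A functor between topoi which preserves small colimits is a left adjoint. -/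
theorem isLeftAdjoint_of_preservesColimits [PreservesColimitsOfSize.{u, u} f] :
    f.IsLeftAdjoint := by
  haveI : (presheafToSheaf J (Type u) ⋙ f).IsLeftAdjoint :=
    Presheaf.isLeftAdjoint_of_preservesColimits.{u} (presheafToSheaf J (Type u) ⋙ f)
  let adj := Adjunction.ofIsLeftAdjoint (presheafToSheaf J (Type u) ⋙ f)
  have hsh : ∀ Z, Presheaf.IsSheaf J ((presheafToSheaf J (Type u) ⋙ f).rightAdjoint.obj Z) := by
    intro Z
    rw [isSheaf_iff_isSheaf_of_type]
    intro U S hS
    rw [Presieve.isSheafFor_iff_yonedaSheafCondition]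
    have hW : J.W S.functorInclusion := by
      intro T hT
      rw [Function.bijective_iff_existsUnique]
      intro φ
      exact (Presieve.isSheafFor_iff_yonedaSheafCondition.1
        ((isSheaf_iff_isSheaf_of_type _ _).1 hT S hS)) φ
    haveI : IsIso ((presheafToSheaf J (Type u)).map S.functorInclusion) := (J.W_iff _).1 hW
    haveI : IsIso ((presheafToSheaf J (Type u) ⋙ f).map S.functorInclusion) := by
      show IsIso (f.map ((presheafToSheaf J (Type u)).map S.functorInclusion))
      infer_instance
    intro φ
    refine ⟨adj.homEquiv _ _ (inv ((presheafToSheaf J (Type u) ⋙ f).map S.functorInclusion) ≫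
      (adj.homEquiv _ _).symm φ), ?_, ?_⟩
    · show S.functorInclusion ≫ adj.homEquiv _ _ _ = φ
      rw [← adj.homEquiv_naturality_left, IsIso.hom_inv_id_assoc, Equiv.apply_symm_apply]
    · intro g hg
      have hg' : S.functorInclusion ≫ g = φ := hg
      rw [← hg', adj.homEquiv_naturality_left_symm, IsIso.inv_hom_id_assoc,
        Equiv.apply_symm_apply]
  apply Functor.isLeftAdjoint_of_rightAdjointObjIsDefined_eq_top
  funext Z
  apply propext
  refine ⟨fun _ => trivial, fun _ => ?_⟩
  let Y : Sheaf J (Type u) := ⟨(presheafToSheaf J (Type u) ⋙ f).rightAdjoint.obj Z, hsh Z⟩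
  let ε := (sheafificationAdjunction J (Type u)).counit
  have hε : ∀ {X' X : Sheaf J (Type u)} (g : X' ⟶ X),
      (presheafToSheaf J (Type u)).map g.hom ≫ ε.app X = ε.app X' ≫ g := fun g => ε.naturality g
  refine (Functor.RepresentableBy.isRepresentable (Y := Y)
    { homEquiv := fun {X} =>
        { toFun := fun φ => f.map (inv (ε.app X)) ≫ (adj.homEquiv X.obj Z).symm φ.hom
          invFun := fun ψ => ObjectProperty.homMk (adj.homEquiv X.obj Z (f.map (ε.app X) ≫ ψ))
          left_inv := fun φ => by
            apply ObjectProperty.hom_ext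
            show adj.homEquiv X.obj Z (f.map (ε.app X) ≫ f.map (inv (ε.app X)) ≫
              (adj.homEquiv X.obj Z).symm φ.hom) = φ.hom
            rw [← Category.assoc, ← f.map_comp, IsIso.hom_inv_id, f.map_id]
            erw [Category.id_comp]
            rw [Equiv.apply_symm_apply]
          right_inv := fun ψ => by
            show f.map (inv (ε.app X)) ≫ (adj.homEquiv X.obj Z).symm
              (adj.homEquiv X.obj Z (f.map (ε.app X) ≫ ψ)) = ψ
            rw [Equiv.symm_apply_apply, ← Category.assoc, ← f.map_comp, IsIso.inv_hom_id,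
              f.map_id]
            erw [Category.id_comp] }
      homEquiv_comp := fun {X' X} g φ => by
        show f.map (inv (ε.app X')) ≫ (adj.homEquiv X'.obj Z).symm (g.hom ≫ φ.hom) =
          f.map g ≫ f.map (inv (ε.app X)) ≫ (adj.homEquiv X.obj Z).symm φ.hom
        rw [adj.homEquiv_naturality_left_symm]
        show f.map (inv (ε.app X')) ≫ f.map ((presheafToSheaf J (Type u)).map g.hom) ≫ _ = _
        have h1 : inv (ε.app X') ≫ (presheafToSheaf J (Type u)).map g.hom = g ≫ inv (ε.app X) := by
          rw [IsIso.inv_comp_eq, ← Category.assoc, IsIso.eq_comp_inv]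
          exact hε g
        rw [← Category.assoc, ← f.map_comp, h1, f.map_comp, Category.assoc] })

end Groth.Agent.Lib.CanTopH8
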