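import Mathlib
import Groth.Prelude.Def_GrLC
import Groth.Prelude.Def_GrLC2
import Groth.Prelude.Def_CAlg
import Groth.Prelude.Def_Wider
import Groth.Agent.Lib.CanLoc_helper1
import Groth.Agent.Lib.CanonTop_helper6
import Groth.Agent.Lib.GorBass_helper1
import Groth.Agent.Lib.LocCohCM_helper7

/-! The type of the *canonical module is one, and the type of the ring is the minimal number of
generators of the *canonical module (helper1, S18640). -/

set_option autoImplicit false

namespace Groth.Agent.Lib.CanTypeH1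

open CategoryTheory Abelian DirectSum GrLC Groth.Agent.Lib.GorLocH1 Groth.Agent.Lib.CanLocH1
  IsLocalRing

universe u

/-! ### localizing a module killed by a maximal ideal -/
section star

variable {R : Type u} [CommRing R] (m : Ideal R) [hmax : m.IsMaximal]
variable {W W' : Type u} [AddCommGroup W] [Module R W] [AddCommGroup W'] [Module R W']
  [Module (Localization.AtPrime m) W'] [IsScalarTower R (Localization.AtPrime m) W']

theorem loc_bijective (g : W →ₗ[R] W') [IsLocalizedModule m.primeCompl g]
    (hW : ∀ r ∈ m, ∀ w : W, r • w = 0) : Function.Bijective g := by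
  constructor
  · rw [injective_iff_map_eq_zero]
    intro w hw
    obtain ⟨s, hs⟩ := (IsLocalizedModule.eq_zero_iff m.primeCompl g).1 hw
    have hs' : (s : R) • w = 0 := hs
    obtain ⟨t, i, hi, hti⟩ := hmax.exists_inv s.2
    calc w = (t * (s : R) + i) • w := by rw [hti, one_smul]
      _ = t • ((s : R) • w) + i • w := by rw [add_smul, mul_smul]
      _ = 0 := by rw [hs', smul_zero, hW i hi, add_zero]
  · intro y
    obtain ⟨⟨w, s⟩, hws⟩ := IsLocalizedModule.surj m.primeCompl g y
    have hws' : (s : R) • y = g w := hws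
    obtain ⟨t, i, hi, hti⟩ := hmax.exists_inv s.2
    refine ⟨t • w, ?_⟩
    have hb := (Module.End.isUnit_iff _).1 (IsLocalizedModule.map_units g s)
    apply hb.1
    rw [Module.algebraMap_end_apply, Module.algebraMap_end_apply, hws', ← map_smul, smul_smul]
    have h1 : ((s : R) * t) • w = w := by
      calc ((s : R) * t) • w = (t * (s : R) + i) • w - i • w := by
            rw [add_smul, add_sub_cancel_right, mul_comm]
        _ = w := by rw [hti, one_smul, hW i hi, sub_zero]
    rw [h1]

theorem length_restrict (hW' : ∀ r ∈ m, ∀ w : W', r • w = 0) :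
    Module.length (Localization.AtPrime m) W' = Module.length R W' := by
  have hsurj : Function.Surjective
      (Submodule.restrictScalarsEmbedding R (Localization.AtPrime m) W') := by
    intro N
    refine ⟨{ carrier := N, add_mem' := N.add_mem, zero_mem' := N.zero_mem, smul_mem' := ?_ },
      ?_⟩
    · intro a x hx
      obtain ⟨r, s, rfl⟩ := IsLocalization.exists_mk'_eq m.primeCompl a
      obtain ⟨t, i, hi, hti⟩ := hmax.exists_inv s.2
      have h1 : (s : R) • (IsLocalization.mk' (Localization.AtPrime m) r s • x) = r • x := by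
        rw [← algebraMap_smul (Localization.AtPrime m) (s : R), smul_smul,
          IsLocalization.mk'_spec', algebraMap_smul]
      have h2 : IsLocalization.mk' (Localization.AtPrime m) r s • x = t • (r • x) := by
        calc IsLocalization.mk' (Localization.AtPrime m) r s • x
            = (t * (s : R) + i) • (IsLocalization.mk' (Localization.AtPrime m) r s • x) := by
              rw [hti, one_smul]
          _ = t • ((s : R) • (IsLocalization.mk' (Localization.AtPrime m) r s • x)) +
              i • (IsLocalization.mk' (Localization.AtPrime m) r s • x) := by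
              rw [add_smul, mul_smul]
          _ = t • (r • x) := by rw [h1, hW' i hi, add_zero]
      change IsLocalization.mk' (Localization.AtPrime m) r s • x ∈ N
      rw [h2]
      exact N.smul_mem t (N.smul_mem r hx)
    · ext x
      rfl
  apply WithBot.coe_injective
  rw [Module.coe_length, Module.coe_length]
  exact Order.krullDim_eq_of_orderIso (RelIso.ofSurjective
    (Submodule.restrictScalarsEmbedding R (Localization.AtPrime m) W') hsurj)

theorem length_loc_eq (g : W →ₗ[R] W') [IsLocalizedModule m.primeCompl g]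
    (hW : ∀ r ∈ m, ∀ w : W, r • w = 0) :
    Module.length (Localization.AtPrime m) W' = Module.length R W := by
  have hb := loc_bijective m g hW
  have hW' : ∀ r ∈ m, ∀ w' : W', r • w' = 0 := by
    intro r hr w'
    obtain ⟨w, rfl⟩ := hb.2 w'
    rw [← map_smul, hW r hr, map_zero]
  rw [length_restrict m hW', ← (LinearEquiv.ofBijective g hb).length_eq]

end star

/-! ### the local statements -/
section local_

variable {A : Type u} [CommRing A] [hCM : LocCoh.IsCohenMacaulayLocalRing A]
  (n : ℕ) (hn : ringKrullDim A = n) (E : Type u) [AddCommGroup E] [Module A E]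
  (f : ResidueField A →ₗ[A] E) (hf : InjHull.IsInjectiveHull f)
  (K : Type u) [AddCommGroup K] [Module A K] [Module.Finite A K]
  (eK : (K →ₗ[A] E) ≃ₗ[A] LocCoh.H (maximalIdeal A) n A)

include hn hf eK in
theorem bassNumLocal_canon : GrLC.bassNumLocal A K n = 1 := by
  obtain ⟨hdepth, -⟩ := Groth.Agent.Lib.CanonInjDim_helper6.depth_and_dim n hn E f hf K eK
  have hle : (n : ℕ∞) ≤ LocCoh.idealDepth (maximalIdeal A) K := le_of_eq hdepth.symm
  have hvan : ∀ i, i < n → Subsingleton (LocCoh.H (maximalIdeal A) i K) :=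
    (Groth.Agent.Lib.LocCohCMH7.vanishing_iff_le_depth (maximalIdeal A) K n).2 hle
  obtain ⟨-, hlen⟩ := Groth.Agent.Lib.GorBassH1.claim A n K hvan
  unfold GrLC.bassNumLocal
  rw [hlen]
  have h1 := Groth.Agent.Lib.CanonTop_helper6.length_hom_top n hn E f hf K eK (maximalIdeal A) 1
    (by rw [pow_one])
  haveI : IsSimpleModule A (A ⧸ maximalIdeal A) :=
    isSimpleModule_iff_quot_maximal.mpr ⟨maximalIdeal A, inferInstance, ⟨LinearEquiv.refl A _⟩⟩
  rw [Module.length_eq_one A (A ⧸ maximalIdeal A)] at h1
  exact h1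

include hn eK in
theorem type_local : GrLC.bassNumLocal A A n =
    Module.length A (ResidueField A →ₗ[A] (K →ₗ[A] E)) := by
  have hvan : ∀ q, q < n → Subsingleton (LocCoh.H (maximalIdeal A) q A) :=
    fun q hq => Groth.Agent.Lib.LocDual2_helper6.H_ring_subsingleton n hn q hq
  obtain ⟨-, hlen⟩ := Groth.Agent.Lib.GorBassH1.claim A n A hvan
  unfold GrLC.bassNumLocal
  rw [hlen]
  exact (LinearEquiv.arrowCongr (LinearEquiv.refl A (ResidueField A)) eK.symm).length_eq

end local_

/-! ### the type of the ring -/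
section type_

open TensorProduct

variable {R : Type u} [CommRing R] [IsNoetherianRing R] (m : Ideal R) [hmax : m.IsMaximal]

theorem smul_quot_eq_zero {r : R} (hr : r ∈ m) (x : R ⧸ m) : r • x = 0 := by
  obtain ⟨y, rfl⟩ := Ideal.Quotient.mk_surjective x
  show r • (Submodule.Quotient.mk y : R ⧸ m) = 0
  rw [← Submodule.Quotient.mk_smul, Submodule.Quotient.mk_eq_zero]
  exact Ideal.mul_mem_right y _ hr

theorem smul_tensor_eq_zero (C : Type u) [AddCommGroup C] [Module R C] {r : R} (hr : r ∈ m)
    (y : (R ⧸ m) ⊗[R] C) : r • y = 0 := by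
  induction y using TensorProduct.induction_on with
  | zero => rw [smul_zero]
  | tmul x c => rw [TensorProduct.smul_tmul', smul_quot_eq_zero m hr, TensorProduct.zero_tmul]
  | add a b ha hb => rw [smul_add, ha, hb, add_zero]

theorem length_tensor (C : Type u) [AddCommGroup C] [Module R C] [Module.Finite R C] :
    Module.length R ((R ⧸ m) ⊗[R] C) =
      (Module.finrank (R ⧸ m) ((R ⧸ m) ⊗[R] C) : ℕ∞) := by
  letI : Field (R ⧸ m) := Ideal.Quotient.field m
  rw [Module.length_eq_of_surjective (S := R) (R := R ⧸ m) (M := (R ⧸ m) ⊗[R] C)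
    Ideal.Quotient.mk_surjective]
  exact Module.length_eq_finrank (R ⧸ m) ((R ⧸ m) ⊗[R] C)

theorem type_graded (C E' : Type u) [AddCommGroup C] [Module R C] [Module.Finite R C]
    [AddCommGroup E'] [Module R E']
    (f : ResidueField (Localization.AtPrime m) →ₗ[Localization.AtPrime m]
      LocalizedModule m.primeCompl E') (hf : InjHull.IsInjectiveHull f) :
    Module.length (Localization.AtPrime m)
        (ResidueField (Localization.AtPrime m) →ₗ[Localization.AtPrime m]
          (LocalizedModule m.primeCompl C →ₗ[Localization.AtPrime m]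
            LocalizedModule m.primeCompl E')) =
      (Module.finrank (R ⧸ m) ((R ⧸ m) ⊗[R] C) : ℕ∞) := by
  haveI hprime : m.IsPrime := hmax.isPrime
  haveI : Module.FinitePresentation R C := Module.finitePresentation_of_finite R C
  haveI : Module.FinitePresentation R (R ⧸ m) := Module.finitePresentation_of_finite R (R ⧸ m)
  haveI : Module.FinitePresentation R ((R ⧸ m) ⊗[R] C) :=
    Module.finitePresentation_of_finite R ((R ⧸ m) ⊗[R] C)
  -- step 1
  have hW₁ : ∀ r ∈ m, ∀ φ : (R ⧸ m) →ₗ[R] (C →ₗ[R] E'), r • φ = 0 := by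
    intro r hr φ
    refine LinearMap.ext (fun x => ?_)
    rw [LinearMap.smul_apply, ← map_smul, smul_quot_eq_zero m hr, map_zero, LinearMap.zero_apply]
  have e1 : Module.length (Localization.AtPrime m)
        (ResidueField (Localization.AtPrime m) →ₗ[Localization.AtPrime m]
          (LocalizedModule m.primeCompl C →ₗ[Localization.AtPrime m]
            LocalizedModule m.primeCompl E')) =
      Module.length R ((R ⧸ m) →ₗ[R] (C →ₗ[R] E')) := length_loc_eq m
    (IsLocalizedModule.mapExtendScalars m.primeCompl (Groth.Agent.Lib.BassShiftH1.toKappa m)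
      (LocalizedModule.map m.primeCompl (M := C) (N := E')) (Localization.AtPrime m)) hW₁
  rw [e1]
  -- step 2
  rw [(TensorProduct.lift.equiv (RingHom.id R) (R ⧸ m) C E').length_eq]
  -- step 3
  have hW₂ : ∀ r ∈ m, ∀ φ : ((R ⧸ m) ⊗[R] C) →ₗ[R] E', r • φ = 0 := by
    intro r hr φ
    refine LinearMap.ext (fun y => ?_)
    rw [LinearMap.smul_apply, ← map_smul, smul_tensor_eq_zero m C hr, map_zero,
      LinearMap.zero_apply]
  have e2 : Module.length (Localization.AtPrime m)
        (LocalizedModule m.primeCompl ((R ⧸ m) ⊗[R] C) →ₗ[Localization.AtPrime m]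
          LocalizedModule m.primeCompl E') =
      Module.length R (((R ⧸ m) ⊗[R] C) →ₗ[R] E') := length_loc_eq m
    (LocalizedModule.map m.primeCompl (M := (R ⧸ m) ⊗[R] C) (N := E')) hW₂
  rw [← e2]
  -- step 4
  have e3 : Module.length (Localization.AtPrime m)
        (LocalizedModule m.primeCompl ((R ⧸ m) ⊗[R] C)) =
      Module.length R ((R ⧸ m) ⊗[R] C) := length_loc_eq m (LocalizedModule.mkLinearMap m.primeCompl ((R ⧸ m) ⊗[R] C))
    (fun r hr y => smul_tensor_eq_zero m C hr y)
  have e4 := length_tensor m C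
  have hFL : IsFiniteLength (Localization.AtPrime m)
      (LocalizedModule m.primeCompl ((R ⧸ m) ⊗[R] C)) := by
    rw [← Module.length_ne_top_iff, e3, e4]
    exact ENat.coe_ne_top _
  haveI := hf.isInjective
  have hy := Groth.Agent.Matlis.isSocleGen_of_isEssentialInj hf.toIsEssentialInj
  rw [Groth.Agent.Matlis.length_hom hy _ hFL, e3, e4]

end type_

/-! ### the main theorem -/

open TensorProduct in
theorem main18640 (R : Type u) [CommRing R] [hCM : LocCoh.IsCohenMacaulayRing R]
    (𝒜 : ℤ → AddSubgroup R) [GradedRing 𝒜] (hpos : ∀ n : ℤ, n < 0 → 𝒜 n = ⊥)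
    (h0 : IsField (GrLC.deg0 𝒜)) (m : HomogeneousIdeal 𝒜) (hm : GrLC.IsStarLocal 𝒜 m)
    [hmax : m.toIdeal.IsMaximal] (n : ℕ)
    (hn : ringKrullDim R = n) (I : GrLC.StarInjRes 𝒜 𝒜) (E' : Type u) [AddCommGroup E']
    [Module R E'] (𝓔 : ℤ → AddSubgroup E') [DirectSum.Decomposition 𝓔]
    [SetLike.GradedSMul 𝒜 𝓔] (e : (R ⧸ m.toIdeal) →ₗ[R] E')
    (he : GrLC.IsStarInjHull 𝒜 (GrLC.quotGr 𝒜 m) 𝓔 e) (C : Type u) [AddCommGroup C]
    [Module R C] (𝒞 : ℤ → AddSubgroup C) [DirectSum.Decomposition 𝒞] [SetLike.GradedSMul 𝒜 𝒞]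
    (hC : GrLC.IsStarCanonical 𝒜 𝒞 𝓔 m n I) :
    GrLC.bassNum m.toIdeal C n = 1 ∧ GrLC.bassNum m.toIdeal R n =
      (Module.finrank (R ⧸ m.toIdeal) ((R ⧸ m.toIdeal) ⊗[R] C) : ℕ∞) := by
  classical
  haveI : IsNoetherianRing R := hCM.toIsNoetherian
  have hht : m.toIdeal.height = n := by
    have h1 := Groth.Agent.Lib.GorCanH1.ringKrullDim_eq_height 𝒜 hpos h0 m hm
    rw [hn] at h1
    exact (WithBot.coe_injective h1).symm
  obtain ⟨hfin, φ, -⟩ := hC
  haveI := hfin
  haveI hprime : m.toIdeal.IsPrime := hmax.isPrime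
  haveI hCMloc : LocCoh.IsCohenMacaulayLocalRing (Localization.AtPrime m.toIdeal) :=
    LocCoh.IsCohenMacaulayRing.isCohenMacaulayLocalRing_localization m.toIdeal
  have hdim : ringKrullDim (Localization.AtPrime m.toIdeal) = n := by
    rw [IsLocalization.AtPrime.ringKrullDim_eq_height m.toIdeal (Localization.AtPrime m.toIdeal),
      hht]
    rfl
  obtain ⟨γ⟩ := Groth.Agent.Lib.GrStarLCH1.main13224 R 𝒜 m R 𝒜 I n
  have hull := Groth.Agent.Lib.MaxHullH1.main18637 𝒜 𝓔 m e he
  obtain ⟨f, hf⟩ := exists_hull_loc m.toIdeal E' e hull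
  obtain ⟨eK⟩ := exists_eK m.toIdeal n C E' (φ.trans γ)
  haveI : Module.Finite (Localization.AtPrime m.toIdeal)
      (LocalizedModule m.toIdeal.primeCompl C) :=
    Module.Finite.of_isLocalizedModule m.toIdeal.primeCompl
      (LocalizedModule.mkLinearMap m.toIdeal.primeCompl C)
  refine ⟨?_, ?_⟩
  · exact bassNumLocal_canon n hdim (LocalizedModule m.toIdeal.primeCompl E') f hf
      (LocalizedModule m.toIdeal.primeCompl C) eK
  · have h1 : GrLC.bassNum m.toIdeal R n =
        GrLC.bassNumLocal (Localization.AtPrime m.toIdeal) (Localization.AtPrime m.toIdeal) n :=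
      Groth.Agent.Lib.GorBassH1.length_ext_congr (locSelfIso m.toIdeal) n
    rw [h1, type_local n hdim (LocalizedModule m.toIdeal.primeCompl E')
      (LocalizedModule m.toIdeal.primeCompl C) eK]
    exact type_graded m.toIdeal C E' f hf

end Groth.Agent.Lib.CanTypeH1
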