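import Mathlib

/-!
# `A ⊗[S] (S ⊗[R] B) ≃ₐ A ⊗[R] B` for noncommutative `B` (helper6)
-/

namespace Groth.Agent.Lib.CancelBC

open scoped TensorProduct

variable (R S T A B : Type*) [CommSemiring R] [CommSemiring S] [CommSemiring T] [CommSemiring A]
  [Semiring B] [Algebra R S] [Algebra R T] [Algebra R A] [Algebra R B] [Algebra T A]
  [IsScalarTower R T A] [Algebra S A] [IsScalarTower R S A] [Algebra S T] [IsScalarTower S T A]

/-- The natural isomorphism `A ⊗[S] (S ⊗[R] B) ≃ₐ[T] A ⊗[R] B`, `B` not necessarily commutative. -/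
noncomputable def cancelBC : A ⊗[S] (S ⊗[R] B) ≃ₐ[T] A ⊗[R] B :=
  AlgEquiv.symm <| AlgEquiv.ofLinearEquiv
    (TensorProduct.AlgebraTensorModule.cancelBaseChange R S T A B).symm
    (by simp [Algebra.TensorProduct.one_def]) <|
      LinearMap.map_mul_of_map_mul_tmul (fun _ _ _ _ ↦ by simp)

end Groth.Agent.Lib.CancelBC
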