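import Mathlib

/-!
# `Ext¹` through a presentation, and lengths of monomial subquotients of `k⟦X⟧` (helper1)

* `length_ext_one_eq`: for a surjection `q : F → M` from a projective module, `Ext¹_A(M, N)` is the
  cokernel of the restriction `Hom(F, N) → Hom(ker q, N)`, `A`-linearly.
* `length_chain`: additivity of length along a chain of submodules.
* `length_mkSub`: for a subalgebra `A ⊆ k⟦X⟧` and `A`-stable exponent sets `T ⊆ S` with finite
  difference, the `A`-length of (series supported in `S`)/(series supported in `T`) is `|S \ T|`.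
-/

set_option autoImplicit false
set_option maxHeartbeats 1000000

universe u

namespace Groth.Agent.Lib.TFExtH1

open CategoryTheory

/-! ### presentation of `Ext¹` -/

section Pres

variable {A : Type u} [CommRing A] {F M N : Type u} [AddCommGroup F] [Module A F]
  [AddCommGroup M] [Module A M] [AddCommGroup N] [Module A N]

noncomputable def presSC (q : F →ₗ[A] M) : ShortComplex (ModuleCat.{u} A) :=
  ShortComplex.mk (ModuleCat.ofHom (LinearMap.ker q).subtype) (ModuleCat.ofHom q) (by
    rw [← ModuleCat.ofHom_comp, LinearMap.comp_ker_subtype]; rfl)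

theorem presSC_shortExact (q : F →ₗ[A] M) (hq : Function.Surjective q) :
    (presSC q).ShortExact := by
  refine ShortComplex.ShortExact.mk' ?_ ?_ ?_
  · rw [ShortComplex.moduleCat_exact_iff]
    intro x hx
    exact ⟨⟨x, LinearMap.mem_ker.mpr hx⟩, rfl⟩
  · rw [ModuleCat.mono_iff_injective]; exact Subtype.val_injective
  · rw [ModuleCat.epi_iff_surjective]; exact hq

theorem exists_ext_one_presentation [Module.Projective A F] (q : F →ₗ[A] M)
    (hq : Function.Surjective q) :
    ∃ Θ : (LinearMap.ker q →ₗ[A] N) →ₗ[A]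
        Abelian.Ext.{u} (ModuleCat.of A M) (ModuleCat.of A N) 1,
      Function.Surjective Θ ∧
      ∀ f, Θ f = 0 ↔ ∃ g : F →ₗ[A] N, ∀ x : LinearMap.ker q, g x.1 = f x := by
  have hS := presSC_shortExact q hq
  haveI : Projective (presSC q).X₂ := (IsProjective.iff_projective (R := A) F).1 inferInstance
  let e₀ : (LinearMap.ker q →ₗ[A] N) →ₗ[A]
      Abelian.Ext.{u} (ModuleCat.of A (LinearMap.ker q)) (ModuleCat.of A N) 0 :=
    { toFun := fun f => Abelian.Ext.mk₀ (ModuleCat.ofHom f)
      map_add' := fun f g => by rw [ModuleCat.ofHom_add, Abelian.Ext.mk₀_add]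
      map_smul' := fun a f => by
        rw [RingHom.id_apply, ← Abelian.Ext.mk₀_smul]; rfl }
  have he₀ : ∀ f, e₀ f = Abelian.Ext.mk₀ (ModuleCat.ofHom f) := fun f => rfl
  let δ := Abelian.Ext.precompOfLinear hS.extClass A (ModuleCat.of A N)
    (show 1 + 0 = 1 by norm_num)
  have hδ : ∀ x, δ x = hS.extClass.comp x (show 1 + 0 = 1 by norm_num) := fun x => rfl
  refine ⟨δ.comp e₀, ?_, ?_⟩
  · intro x₃
    have hz : (Abelian.Ext.mk₀ (presSC q).g).comp x₃ (zero_add 1) = 0 :=
      Abelian.Ext.eq_zero_of_projective _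
    obtain ⟨x₁, hx₁⟩ := Abelian.Ext.contravariant_sequence_exact₃ hS (ModuleCat.of A N) x₃ hz
      (show 1 + 0 = 1 by norm_num)
    obtain ⟨ψ, rfl⟩ := (Abelian.Ext.mk₀_bijective _ _).2 x₁
    exact ⟨ψ.hom, hx₁⟩
  · intro f
    change hS.extClass.comp (Abelian.Ext.mk₀ (ModuleCat.ofHom f))
        (show 1 + 0 = 1 by norm_num) = 0 ↔ _
    constructor
    · intro h0
      obtain ⟨x₂, hx₂⟩ := Abelian.Ext.contravariant_sequence_exact₁ hS (ModuleCat.of A N)
        (Abelian.Ext.mk₀ (ModuleCat.ofHom f)) (by norm_num) h0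
      obtain ⟨ψ, rfl⟩ := (Abelian.Ext.mk₀_bijective _ _).2 x₂
      rw [Abelian.Ext.mk₀_comp_mk₀] at hx₂
      have h := (Abelian.Ext.mk₀_bijective _ _).1 hx₂
      refine ⟨ψ.hom, fun x => ?_⟩
      have h' := congrArg (fun φ => φ.hom x) h
      exact h'
    · rintro ⟨g, hg⟩
      have hf : ModuleCat.ofHom f = (presSC q).f ≫ ModuleCat.ofHom g := by
        ext x; exact (hg x).symm
      rw [hf, ← Abelian.Ext.mk₀_comp_mk₀]
      exact hS.extClass_comp_assoc _

theorem length_ext_one_eq [Module.Projective A F] (q : F →ₗ[A] M) (hq : Function.Surjective q)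
    {E' : Type*} [AddCommGroup E'] [Module A E']
    (Ξ : (LinearMap.ker q →ₗ[A] N) →ₗ[A] E') (hΞs : Function.Surjective Ξ)
    (hΞk : ∀ f, Ξ f = 0 ↔ ∃ g : F →ₗ[A] N, ∀ x : LinearMap.ker q, g x.1 = f x) :
    Module.length A (Abelian.Ext.{u} (ModuleCat.of A M) (ModuleCat.of A N) 1) =
      Module.length A E' := by
  obtain ⟨Θ, hΘs, hΘk⟩ := exists_ext_one_presentation (N := N) q hq
  have hker : LinearMap.ker Θ = LinearMap.ker Ξ := by
    ext f; rw [LinearMap.mem_ker, LinearMap.mem_ker, hΘk, hΞk]
  have e1 := LinearMap.quotKerEquivOfSurjective Θ hΘs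
  have e2 := LinearMap.quotKerEquivOfSurjective Ξ hΞs
  have e3 := Submodule.quotEquivOfEq _ _ hker
  exact (e1.symm.trans (e3.trans e2)).length_eq

end Pres

/-! ### chains of submodules -/

section Chain

variable {A : Type*} [CommRing A] {V : Type*} [AddCommGroup V] [Module A V]

/-- the subquotient `P' / P`. -/
abbrev relQ (P P' : Submodule A V) := ↥P' ⧸ (P.comap P'.subtype)

theorem length_chain (P P'' P' : Submodule A V) (h1 : P ≤ P'') (h2 : P'' ≤ P') :
    Module.length A (relQ P P') =
      Module.length A (relQ P P'') + Module.length A (relQ P'' P') := by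
  let f : relQ P P'' →ₗ[A] relQ P P' :=
    Submodule.mapQ _ _ (Submodule.inclusion h2) (fun x hx => hx)
  let g : relQ P P' →ₗ[A] relQ P'' P' :=
    Submodule.mapQ _ _ LinearMap.id (fun x hx => h1 hx)
  have hf : ∀ x : ↥P'', f (Submodule.Quotient.mk x) =
      Submodule.Quotient.mk (Submodule.inclusion h2 x) := fun x => rfl
  have hg : ∀ x : ↥P', g (Submodule.Quotient.mk x) = Submodule.Quotient.mk x := fun x => rfl
  apply Module.length_eq_add_of_exact f g
  · rw [injective_iff_map_eq_zero]
    intro y hy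
    obtain ⟨x, rfl⟩ := Submodule.Quotient.mk_surjective _ y
    rw [hf, Submodule.Quotient.mk_eq_zero] at hy
    rw [Submodule.Quotient.mk_eq_zero]
    exact hy
  · intro y
    obtain ⟨x, rfl⟩ := Submodule.Quotient.mk_surjective _ y
    exact ⟨Submodule.Quotient.mk x, hg x⟩
  · intro y
    obtain ⟨x, rfl⟩ := Submodule.Quotient.mk_surjective _ y
    rw [hg, Submodule.Quotient.mk_eq_zero]
    constructor
    · intro hx
      exact ⟨Submodule.Quotient.mk ⟨x.1, hx⟩, by rw [hf]; rfl⟩
    · rintro ⟨z, hz⟩
      obtain ⟨x', rfl⟩ := Submodule.Quotient.mk_surjective _ z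
      rw [hf, Submodule.Quotient.eq] at hz
      have h3 : ((Submodule.inclusion h2 x' - x : ↥P') : V) ∈ P := hz
      have h4 : (x : V) = (x' : V) - ((Submodule.inclusion h2 x' - x : ↥P') : V) := by
        simp
      show (x : V) ∈ P''
      rw [h4]
      exact P''.sub_mem x'.2 (h1 h3)

theorem length_relQ_self_le (P P' : Submodule A V) (h : P' ≤ P) :
    Module.length A (relQ P P') = 0 := by
  rw [Module.length_eq_zero_iff, Submodule.Quotient.subsingleton_iff]
  exact Submodule.comap_subtype_eq_top.mpr h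

end Chain

/-! ### monomial subspaces of `k⟦X⟧` -/

section Mono

open PowerSeries

variable {k : Type u} [Field k]

/-- power series supported in `S`. -/
def supp (S : Set ℕ) : Set k⟦X⟧ := {f | ∀ m, coeff m f ≠ 0 → m ∈ S}

lemma supp_zero (S : Set ℕ) : (0 : k⟦X⟧) ∈ supp S := fun m hm => absurd (map_zero _) hm

lemma supp_add {S : Set ℕ} {f g : k⟦X⟧} (hf : f ∈ supp S) (hg : g ∈ supp S) :
    f + g ∈ supp S := by
  intro m hm
  by_cases h : coeff m f = 0
  · apply hg; rw [map_add, h, zero_add] at hm; exact hm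
  · exact hf m h

lemma supp_neg {S : Set ℕ} {f : k⟦X⟧} (hf : f ∈ supp S) : -f ∈ supp S := by
  intro m hm
  apply hf; intro h0; apply hm; rw [map_neg, h0, neg_zero]

lemma supp_sub {S : Set ℕ} {f g : k⟦X⟧} (hf : f ∈ supp S) (hg : g ∈ supp S) :
    f - g ∈ supp S := by
  rw [sub_eq_add_neg]; exact supp_add hf (supp_neg hg)

lemma supp_C_mul {S : Set ℕ} (c : k) {f : k⟦X⟧} (hf : f ∈ supp S) : C c * f ∈ supp S := by
  intro m hm
  apply hf; intro h0; apply hm; rw [coeff_C_mul, h0, mul_zero]

lemma supp_mono {S T : Set ℕ} (h : S ⊆ T) : supp (k := k) S ⊆ supp T :=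
  fun _ hf m hm => h (hf m hm)

lemma X_pow_mem_supp {S : Set ℕ} {e : ℕ} (he : e ∈ S) : (X : k⟦X⟧) ^ e ∈ supp S := by
  intro m hm
  rw [coeff_X_pow] at hm
  split_ifs at hm with h
  · rw [h]; exact he
  · exact absurd rfl hm

variable (A : Subalgebra k k⟦X⟧)

lemma C_mem (c : k) : (C c : k⟦X⟧) ∈ A := A.algebraMap_mem c

/-- `S` is stable under multiplication by `A`. -/
def Stable (S : Set ℕ) : Prop := ∀ a ∈ A, ∀ f ∈ supp (k := k) S, a * f ∈ supp (k := k) S

/-- the `A`-submodule of series supported in a stable set. -/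
def mkSub (S : Set ℕ) (hS : Stable A S) : Submodule ↥A k⟦X⟧ where
  carrier := supp S
  add_mem' := fun hf hg => supp_add hf hg
  zero_mem' := supp_zero S
  smul_mem' := fun a f hf => hS a.1 a.2 f hf

lemma mem_mkSub {S : Set ℕ} {hS : Stable A S} {f : k⟦X⟧} : f ∈ mkSub A S hS ↔ f ∈ supp S :=
  Iff.rfl

lemma mkSub_mono {S T : Set ℕ} (hS : Stable A S) (hT : Stable A T) (h : S ⊆ T) :
    mkSub A S hS ≤ mkSub A T hT := fun _ hf => supp_mono h hf

lemma stable_insert_max {S T : Set ℕ} (hS : Stable A S) (hT : Stable A T) {e : ℕ}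
    (heS : e ∈ S) (hemax : ∀ x ∈ S \ T, x ≤ e) : Stable A (insert e T) := by
  intro a ha f hf
  obtain ⟨c, hc⟩ : ∃ c, c = coeff e f := ⟨_, rfl⟩
  have hf0 : f - C c * X ^ e ∈ supp (k := k) T := by
    intro m hm
    rw [map_sub, coeff_C_mul_X_pow] at hm
    by_cases hme : m = e
    · rw [if_pos hme, hme, hc, sub_self] at hm; exact absurd rfl hm
    · rw [if_neg hme, sub_zero] at hm
      rcases hf m hm with h | h
      · exact absurd h hme
      · exact h
  have h1 : a * (f - C c * X ^ e) ∈ supp (k := k) (insert e T) :=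
    supp_mono (Set.subset_insert e T) (hT a ha _ hf0)
  have h2 : a * X ^ e ∈ supp (k := k) (insert e T) := by
    intro m hm
    have hmS : m ∈ S := hS a ha _ (X_pow_mem_supp heS) m hm
    rw [coeff_mul_X_pow'] at hm
    split_ifs at hm with hem
    · by_cases hmT : m ∈ T
      · exact Set.mem_insert_of_mem e hmT
      · have := hemax m ⟨hmS, hmT⟩
        have : m = e := le_antisymm this hem
        rw [this]; exact Set.mem_insert e T
    · exact absurd rfl hm
  have h3 : a * f = a * (f - C c * X ^ e) + C c * (a * X ^ e) := by ring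
  rw [h3]
  exact supp_add h1 (supp_C_mul c h2)

theorem length_mkSub (S : Set ℕ) (hS : Stable A S) :
    ∀ (m : ℕ) (T : Set ℕ) (hT : Stable A T), T ⊆ S → (S \ T).Finite → (S \ T).ncard = m →
      Module.length ↥A (relQ (mkSub A T hT) (mkSub A S hS)) = (m : ℕ∞) := by
  intro m
  induction m with
  | zero =>
    intro T hT hTS hfin hcard
    have hemp : S \ T = ∅ := (Set.ncard_eq_zero hfin).mp hcard
    have hle : mkSub A S hS ≤ mkSub A T hT := by
      intro f hf e he
      by_contra hne
      have : e ∈ S \ T := ⟨hf e he, hne⟩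
      rw [hemp] at this; exact this
    rw [Nat.cast_zero]
    exact length_relQ_self_le _ _ hle
  | succ m ih =>
    intro T hT hTS hfin hcard
    have hne : (S \ T).Nonempty := by
      rw [← Set.ncard_pos hfin, hcard]; exact Nat.succ_pos m
    obtain ⟨e, heST, hemax⟩ : ∃ e ∈ S \ T, ∀ x ∈ S \ T, x ≤ e := by
      have hFs : hfin.toFinset.Nonempty := (Set.Finite.toFinset_nonempty hfin).mpr hne
      refine ⟨hfin.toFinset.max' hFs, (Set.Finite.mem_toFinset hfin).mp (Finset.max'_mem _ hFs),
        fun x hx => Finset.le_max' _ x ((Set.Finite.mem_toFinset hfin).mpr hx)⟩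
    have hT' : Stable A (insert e T) := stable_insert_max A hS hT heST.1 hemax
    have hT'S : insert e T ⊆ S := Set.insert_subset heST.1 hTS
    have hdiff : S \ insert e T = (S \ T) \ {e} := by
      ext x
      simp only [Set.mem_diff, Set.mem_insert_iff, Set.mem_singleton_iff]
      tauto
    have hcard' : (S \ insert e T).ncard = m := by
      rw [hdiff, Set.ncard_sdiff_singleton_of_mem heST, hcard]; rfl
    have hfin' : (S \ insert e T).Finite := hfin.subset (by rw [hdiff]; exact Set.diff_subset)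
    have h1 := ih (insert e T) hT' hT'S hfin' hcard'
    have hle1 : mkSub A T hT ≤ mkSub A (insert e T) hT' :=
      mkSub_mono A hT hT' (Set.subset_insert e T)
    have hle2 : mkSub A (insert e T) hT' ≤ mkSub A S hS := mkSub_mono A hT' hS hT'S
    have h2 : Module.length ↥A (relQ (mkSub A T hT) (mkSub A (insert e T) hT')) = 1 := by
      rw [Module.length_eq_one_iff, isSimpleModule_iff_toSpanSingleton_surjective]
      refine ⟨?_, ?_⟩
      · refine ⟨⟨Submodule.Quotient.mk ⟨X ^ e, X_pow_mem_supp (Set.mem_insert e T)⟩, 0, ?_⟩⟩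
        intro h0
        rw [Submodule.Quotient.mk_eq_zero] at h0
        have h0' : (X : k⟦X⟧) ^ e ∈ supp (k := k) T := h0
        have := h0' e (by rw [coeff_X_pow, if_pos rfl]; exact one_ne_zero)
        exact heST.2 this
      · intro x hx y
        obtain ⟨⟨f, hf⟩, rfl⟩ := Submodule.Quotient.mk_surjective _ x
        obtain ⟨⟨g, hg⟩, rfl⟩ := Submodule.Quotient.mk_surjective _ y
        have hc : coeff e f ≠ 0 := by
          intro h0
          apply hx
          rw [Submodule.Quotient.mk_eq_zero]
          show f ∈ supp (k := k) T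
          intro m hm
          rcases hf m hm with rfl | h
          · exact absurd h0 hm
          · exact h
        refine ⟨⟨C (coeff e g / coeff e f), C_mem A _⟩, ?_⟩
        show (⟨C (coeff e g / coeff e f), C_mem A _⟩ : ↥A) •
          (Submodule.Quotient.mk (⟨f, hf⟩ : ↥(mkSub A (insert e T) hT')) :
            relQ (mkSub A T hT) (mkSub A (insert e T) hT')) = Submodule.Quotient.mk ⟨g, hg⟩
        rw [← Submodule.Quotient.mk_smul, Submodule.Quotient.eq]
        show C (coeff e g / coeff e f) * f - g ∈ supp (k := k) T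
        intro m hm
        have hmT' : m ∈ insert e T := by
          by_cases hmf : coeff m f = 0
          · apply hg
            intro hmg
            apply hm
            rw [map_sub, coeff_C_mul, hmf, hmg, mul_zero, sub_zero]
          · exact hf m hmf
        rcases hmT' with rfl | h
        · exfalso
          apply hm
          rw [map_sub, coeff_C_mul, div_mul_cancel₀ _ hc, sub_self]
        · exact h
    rw [length_chain _ _ _ hle1 hle2, h1, h2]
    push_cast
    rw [add_comm]

theorem length_mkSub' (S T : Set ℕ) (hS : Stable A S) (hT : Stable A T) (hTS : T ⊆ S)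
    (hfin : (S \ T).Finite) :
    Module.length ↥A (relQ (mkSub A T hT) (mkSub A S hS)) = ((S \ T).ncard : ℕ∞) :=
  length_mkSub A S hS _ T hT hTS hfin rfl

end Mono

end Groth.Agent.Lib.TFExtH1
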