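import Mathlib
import Groth.Agent.Lib.TFExt1_helper1

/-!
# Duality with respect to a canonical ideal, for lattices over a one-dimensional local domain
(helper1)

Setting: `O` a local ring, `V` a domain containing `O`, `x₀ ∈ 𝔪_O` nonzero.  A *lattice* is an
`O`-submodule `I ⊆ V` with `1 ∈ I` and `x₀ I ⊆ O`.  For a lattice `ω` of injective dimension `≤ 1`:

* `ext_one_lat`: `Ext¹(I, ω) = 0` for every lattice `I`;
* `fl_main`: for a module `N` of finite length, `Hom(N, ω) = 0` and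
  `ℓ(Ext¹(N, ω)) = t · ℓ(N)` with `t = ℓ(Ext¹(κ, ω))`;
* `dual_length`: `ℓ((ω : J)/(ω : I)) = t · ℓ(I/J)` for lattices `J ⊆ I`;
* `t_eq_one`: if `ω ≠ O` (and finiteness), then `t = 1` and `ω : ω = O`;
* `main`: for a multiplicatively closed lattice `E ⊇ ω`, `ℓ(O / (O : E)) = ℓ(E/ω)`.
-/

set_option autoImplicit false
set_option maxHeartbeats 1000000

universe u

namespace Groth.Agent.Lib.CanonDualH1

open CategoryTheory
open Groth.Agent.Lib.TFExtH1 (relQ length_chain length_relQ_self_le)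

/-! ### generalities on `Ext` -/

section ExtGen

variable {A : Type u} [CommRing A]

@[reducible] noncomputable def sesOf {P F : Type u} [AddCommGroup P] [Module A P] [AddCommGroup F] [Module A F]
    (ι : P →ₗ[A] F) : ShortComplex (ModuleCat.{u} A) :=
  ShortComplex.mk (ModuleCat.ofHom ι) (ModuleCat.ofHom (LinearMap.range ι).mkQ) (by
    rw [← ModuleCat.ofHom_comp, LinearMap.range_mkQ_comp]; rfl)

theorem sesOf_shortExact {P F : Type u} [AddCommGroup P] [Module A P] [AddCommGroup F]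
    [Module A F] (ι : P →ₗ[A] F) (hι : Function.Injective ι) : (sesOf ι).ShortExact := by
  refine ShortComplex.ShortExact.mk' ?_ ?_ ?_
  · rw [ShortComplex.moduleCat_exact_iff]
    intro x hx
    have h1 : (LinearMap.range ι).mkQ x = 0 := hx
    have h2 : x ∈ LinearMap.range ι := (Submodule.Quotient.mk_eq_zero _).1 h1
    obtain ⟨p, hp⟩ := h2
    exact ⟨p, hp⟩
  · rw [ModuleCat.mono_iff_injective]; exact hι
  · rw [ModuleCat.epi_iff_surjective]; exact Submodule.mkQ_surjective _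

theorem exists_extension {P F : Type u} [AddCommGroup P] [Module A P] [AddCommGroup F]
    [Module A F] (ι : P →ₗ[A] F) (hι : Function.Injective ι)
    (I : Type u) [AddCommGroup I] [Module A I]
    (hE : ∀ x : Abelian.Ext.{u} (ModuleCat.of A (F ⧸ LinearMap.range ι))
      (ModuleCat.of A I) 1, x = 0)
    (φ : P →ₗ[A] I) : ∃ ψ : F →ₗ[A] I, ψ.comp ι = φ := by
  have hS := sesOf_shortExact ι hι
  have hx₁ : hS.extClass.comp (Abelian.Ext.mk₀ (ModuleCat.ofHom φ))
      (show 1 + 0 = 1 by norm_num) = 0 := hE _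
  obtain ⟨x₂, hx₂⟩ := Abelian.Ext.contravariant_sequence_exact₁ hS (ModuleCat.of A I)
    (Abelian.Ext.mk₀ (ModuleCat.ofHom φ)) (by norm_num) hx₁
  obtain ⟨ψ, rfl⟩ := (Abelian.Ext.mk₀_bijective _ _).2 x₂
  rw [Abelian.Ext.mk₀_comp_mk₀] at hx₂
  have h := (Abelian.Ext.mk₀_bijective _ _).1 hx₂
  refine ⟨ψ.hom, ?_⟩
  have h' := congrArg ModuleCat.Hom.hom h
  exact h'

@[reducible] noncomputable def sesSub {M : Type u} [AddCommGroup M] [Module A M] (N : Submodule A M) :
    ShortComplex (ModuleCat.{u} A) :=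
  ShortComplex.mk (ModuleCat.ofHom N.subtype) (ModuleCat.ofHom N.mkQ) (by
    rw [← ModuleCat.ofHom_comp]
    have h : N.mkQ ∘ₗ N.subtype = 0 :=
      LinearMap.ext fun x => (Submodule.Quotient.mk_eq_zero N).mpr x.2
    rw [h]; rfl)

theorem sesSub_shortExact {M : Type u} [AddCommGroup M] [Module A M] (N : Submodule A M) :
    (sesSub N).ShortExact := by
  refine ShortComplex.ShortExact.mk' ?_ ?_ ?_
  · rw [ShortComplex.moduleCat_exact_iff]
    intro x hx
    have h1 : N.mkQ x = 0 := hx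
    have h2 : x ∈ N := (Submodule.Quotient.mk_eq_zero _).1 h1
    exact ⟨⟨x, h2⟩, rfl⟩
  · rw [ModuleCat.mono_iff_injective]; exact N.injective_subtype
  · rw [ModuleCat.epi_iff_surjective]; exact N.mkQ_surjective

/-- isomorphic first arguments give `Ext` of the same length. -/
theorem length_ext_congr {M M' N : Type u} [AddCommGroup M] [Module A M] [AddCommGroup M']
    [Module A M'] [AddCommGroup N] [Module A N] (e : M ≃ₗ[A] M') (n : ℕ) :
    Module.length A (Abelian.Ext.{u} (ModuleCat.of A M) (ModuleCat.of A N) n) =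
      Module.length A (Abelian.Ext.{u} (ModuleCat.of A M') (ModuleCat.of A N) n) := by
  let F := Abelian.Ext.precompOfLinear
    (Abelian.Ext.mk₀ (ModuleCat.ofHom (X := M) (Y := M') e.toLinearMap)) A (ModuleCat.of A N)
    (zero_add n)
  let G := Abelian.Ext.precompOfLinear
    (Abelian.Ext.mk₀ (ModuleCat.ofHom (X := M') (Y := M) e.symm.toLinearMap)) A (ModuleCat.of A N)
    (zero_add n)
  have h1 : ModuleCat.ofHom (X := M) (Y := M') e.toLinearMap ≫
      ModuleCat.ofHom (X := M') (Y := M) e.symm.toLinearMap = 𝟙 _ := by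
    rw [← ModuleCat.ofHom_comp]
    have : e.symm.toLinearMap ∘ₗ e.toLinearMap = LinearMap.id :=
      LinearMap.ext fun x => e.symm_apply_apply x
    rw [this]; rfl
  have h2 : ModuleCat.ofHom (X := M') (Y := M) e.symm.toLinearMap ≫
      ModuleCat.ofHom (X := M) (Y := M') e.toLinearMap = 𝟙 _ := by
    rw [← ModuleCat.ofHom_comp]
    have : e.toLinearMap ∘ₗ e.symm.toLinearMap = LinearMap.id :=
      LinearMap.ext fun x => e.apply_symm_apply x
    rw [this]; rfl
  have hFG : ∀ x, F (G x) = x := by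
    intro x
    show (Abelian.Ext.mk₀ _).comp ((Abelian.Ext.mk₀ _).comp x (zero_add n)) (zero_add n) = x
    rw [Abelian.Ext.mk₀_comp_mk₀_assoc, h1, Abelian.Ext.mk₀_id_comp]
  have hGF : ∀ x, G (F x) = x := by
    intro x
    show (Abelian.Ext.mk₀ _).comp ((Abelian.Ext.mk₀ _).comp x (zero_add n)) (zero_add n) = x
    rw [Abelian.Ext.mk₀_comp_mk₀_assoc, h2, Abelian.Ext.mk₀_id_comp]
  apply le_antisymm
  · exact Module.length_le_of_injective G (Function.LeftInverse.injective hFG)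
  · exact Module.length_le_of_injective F (Function.LeftInverse.injective hGF)

/-- additivity of `ℓ(Ext¹(-, Y))` on a short exact sequence with `Hom(X₁, Y) = 0` and
`Ext²(X₃, Y) = 0`. -/
theorem length_ext_one_ses {S : ShortComplex (ModuleCat.{u} A)} (hS : S.ShortExact)
    (Y : ModuleCat.{u} A)
    (h0 : ∀ x : Abelian.Ext.{u} S.X₁ Y 0, x = 0)
    (h2 : ∀ x : Abelian.Ext.{u} S.X₃ Y 2, x = 0) :
    Module.length A (Abelian.Ext.{u} S.X₂ Y 1) =
      Module.length A (Abelian.Ext.{u} S.X₃ Y 1) + Module.length A (Abelian.Ext.{u} S.X₁ Y 1) := by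
  let G := Abelian.Ext.precompOfLinear (Abelian.Ext.mk₀ S.g) A Y (zero_add 1)
  let F := Abelian.Ext.precompOfLinear (Abelian.Ext.mk₀ S.f) A Y (zero_add 1)
  have hG : ∀ x, G x = (Abelian.Ext.mk₀ S.g).comp x (zero_add 1) := fun x => rfl
  have hF : ∀ x, F x = (Abelian.Ext.mk₀ S.f).comp x (zero_add 1) := fun x => rfl
  apply Module.length_eq_add_of_exact G F
  · rw [injective_iff_map_eq_zero]
    intro x₃ hx₃
    rw [hG] at hx₃
    obtain ⟨x₁, hx₁⟩ := Abelian.Ext.contravariant_sequence_exact₃ hS Y x₃ hx₃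
      (show 1 + 0 = 1 by norm_num)
    rw [← hx₁, h0 x₁, Abelian.Ext.comp_zero]
  · intro x₁
    obtain ⟨x₂, hx₂⟩ := Abelian.Ext.contravariant_sequence_exact₁ hS Y x₁
      (show 1 + 1 = 2 by norm_num) (h2 _)
    exact ⟨x₂, hx₂⟩
  · intro x₂
    constructor
    · intro hx₂
      rw [hF] at hx₂
      obtain ⟨x₃, hx₃⟩ := Abelian.Ext.contravariant_sequence_exact₂ hS Y x₂ hx₂
      exact ⟨x₃, hx₃⟩
    · rintro ⟨x₃, rfl⟩
      rw [hF, hG, Abelian.Ext.mk₀_comp_mk₀_assoc, S.zero, Abelian.Ext.mk₀_zero,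
        Abelian.Ext.zero_comp]

variable {F M N : Type u} [AddCommGroup F] [Module A F]
  [AddCommGroup M] [Module A M] [AddCommGroup N] [Module A N]

@[reducible] noncomputable def presSC (q : F →ₗ[A] M) : ShortComplex (ModuleCat.{u} A) :=
  ShortComplex.mk (ModuleCat.ofHom (LinearMap.ker q).subtype) (ModuleCat.ofHom q) (by
    rw [← ModuleCat.ofHom_comp, LinearMap.comp_ker_subtype]; rfl)

theorem presSC_shortExact (q : F →ₗ[A] M) (hq : Function.Surjective q) :
    (presSC q).ShortExact := by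
  refine ShortComplex.ShortExact.mk' ?_ ?_ ?_
  · rw [ShortComplex.moduleCat_exact_iff]
    intro x hx
    exact ⟨⟨x, LinearMap.mem_ker.mpr hx⟩, rfl⟩
  · rw [ModuleCat.mono_iff_injective]; exact Subtype.val_injective
  · rw [ModuleCat.epi_iff_surjective]; exact hq

theorem exists_ext_one_presentation' (q : F →ₗ[A] M) (hq : Function.Surjective q)
    (hF : ∀ x : Abelian.Ext.{u} (ModuleCat.of A F) (ModuleCat.of A N) 1, x = 0) :
    ∃ Θ : (LinearMap.ker q →ₗ[A] N) →ₗ[A]
        Abelian.Ext.{u} (ModuleCat.of A M) (ModuleCat.of A N) 1,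
      Function.Surjective Θ ∧
      ∀ f, Θ f = 0 ↔ ∃ g : F →ₗ[A] N, ∀ x : LinearMap.ker q, g x.1 = f x := by
  have hS := presSC_shortExact q hq
  let e₀ : (LinearMap.ker q →ₗ[A] N) →ₗ[A]
      Abelian.Ext.{u} (ModuleCat.of A (LinearMap.ker q)) (ModuleCat.of A N) 0 :=
    { toFun := fun f => Abelian.Ext.mk₀ (ModuleCat.ofHom f)
      map_add' := fun f g => by rw [ModuleCat.ofHom_add, Abelian.Ext.mk₀_add]
      map_smul' := fun a f => by
        rw [RingHom.id_apply, ← Abelian.Ext.mk₀_smul]; rfl }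
  have he₀ : ∀ f, e₀ f = Abelian.Ext.mk₀ (ModuleCat.ofHom f) := fun f => rfl
  let δ := Abelian.Ext.precompOfLinear hS.extClass A (ModuleCat.of A N)
    (show 1 + 0 = 1 by norm_num)
  have hδ : ∀ x, δ x = hS.extClass.comp x (show 1 + 0 = 1 by norm_num) := fun x => rfl
  refine ⟨δ.comp e₀, ?_, ?_⟩
  · intro x₃
    have hz : (Abelian.Ext.mk₀ (presSC q).g).comp x₃ (zero_add 1) = 0 := hF _
    obtain ⟨x₁, hx₁⟩ := Abelian.Ext.contravariant_sequence_exact₃ hS (ModuleCat.of A N) x₃ hz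
      (show 1 + 0 = 1 by norm_num)
    obtain ⟨ψ, rfl⟩ := (Abelian.Ext.mk₀_bijective _ _).2 x₁
    exact ⟨ψ.hom, hx₁⟩
  · intro f
    change hS.extClass.comp (Abelian.Ext.mk₀ (ModuleCat.ofHom f))
        (show 1 + 0 = 1 by norm_num) = 0 ↔ _
    constructor
    · intro h0
      obtain ⟨x₂, hx₂⟩ := Abelian.Ext.contravariant_sequence_exact₁ hS (ModuleCat.of A N)
        (Abelian.Ext.mk₀ (ModuleCat.ofHom f)) (by norm_num) h0
      obtain ⟨ψ, rfl⟩ := (Abelian.Ext.mk₀_bijective _ _).2 x₂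
      rw [Abelian.Ext.mk₀_comp_mk₀] at hx₂
      have h := (Abelian.Ext.mk₀_bijective _ _).1 hx₂
      refine ⟨ψ.hom, fun x => ?_⟩
      have h' := congrArg (fun φ => φ.hom x) h
      exact h'
    · rintro ⟨g, hg⟩
      have hf : ModuleCat.ofHom f =
          ModuleCat.ofHom (LinearMap.ker q).subtype ≫ ModuleCat.ofHom g :=
        ModuleCat.hom_ext (LinearMap.ext fun x => (hg x).symm)
      rw [hf, ← Abelian.Ext.mk₀_comp_mk₀]
      exact hS.extClass_comp_assoc _

theorem length_ext_one_eq' (q : F →ₗ[A] M) (hq : Function.Surjective q)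
    (hF : ∀ x : Abelian.Ext.{u} (ModuleCat.of A F) (ModuleCat.of A N) 1, x = 0)
    {E' : Type*} [AddCommGroup E'] [Module A E']
    (Ξ : (LinearMap.ker q →ₗ[A] N) →ₗ[A] E') (hΞs : Function.Surjective Ξ)
    (hΞk : ∀ f, Ξ f = 0 ↔ ∃ g : F →ₗ[A] N, ∀ x : LinearMap.ker q, g x.1 = f x) :
    Module.length A (Abelian.Ext.{u} (ModuleCat.of A M) (ModuleCat.of A N) 1) =
      Module.length A E' := by
  obtain ⟨Θ, hΘs, hΘk⟩ := exists_ext_one_presentation' (N := N) q hq hF
  have hker : LinearMap.ker Θ = LinearMap.ker Ξ := by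
    ext f; rw [LinearMap.mem_ker, LinearMap.mem_ker, hΘk, hΞk]
  have e1 := LinearMap.quotKerEquivOfSurjective Θ hΘs
  have e2 := LinearMap.quotKerEquivOfSurjective Ξ hΞs
  have e3 := Submodule.quotEquivOfEq _ _ hker
  exact (e1.symm.trans (e3.trans e2)).length_eq

end ExtGen

/-! ### finite length modules -/

section FL

/-- finite modules killed by a nonzero element of a one-dimensional Noetherian domain have finite
length. -/
theorem isFiniteLength_of_torsion {O : Type*} [CommRing O] [IsDomain O] [IsNoetherianRing O]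
    [Ring.KrullDimLE 1 O] {x₀ : O} (hx₀ : x₀ ≠ 0) (N : Type*) [AddCommGroup N] [Module O N]
    [Module.Finite O N] (h : ∀ n : N, x₀ • n = 0) : IsFiniteLength O N := by
  rw [isFiniteLength_iff_isNoetherian_isArtinian]
  refine ⟨inferInstance, ?_⟩
  have hT : Module.IsTorsionBySet O N ((Ideal.span {x₀} : Ideal O) : Set O) :=
    (Module.isTorsionBySet_span_singleton_iff x₀).mpr (fun n => h n)
  letI : Module (O ⧸ Ideal.span {x₀}) N := hT.module
  haveI : IsScalarTower O (O ⧸ Ideal.span {x₀}) N := hT.isScalarTower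
  have hfl := isFiniteLength_quotient_span_singleton O (x := x₀)
    (mem_nonZeroDivisors_of_ne_zero hx₀)
  haveI : IsArtinian O (O ⧸ Ideal.span {x₀}) :=
    (isFiniteLength_iff_isNoetherian_isArtinian.mp hfl).2
  haveI : IsArtinianRing (O ⧸ Ideal.span {x₀}) := isArtinian_of_tower O inferInstance
  haveI : Module.Finite (O ⧸ Ideal.span {x₀}) N := Module.Finite.of_restrictScalars_finite O _ _
  exact isArtinian_of_surjective_algebraMap (S := O) (R := O ⧸ Ideal.span {x₀})
    Ideal.Quotient.mk_surjective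

variable {O : Type u} [CommRing O] [IsLocalRing O] {W : Type u} [AddCommGroup W] [Module O W]

/-- the "type" of `W`: the length of `Ext¹(κ, W)`. -/
noncomputable abbrev tW (O : Type u) [CommRing O] [IsLocalRing O] (W : Type u) [AddCommGroup W]
    [Module O W] : ℕ∞ :=
  Module.length O (Abelian.Ext.{u} (ModuleCat.of O (O ⧸ IsLocalRing.maximalIdeal O))
    (ModuleCat.of O W) 1)

theorem fl_main (hW2 : HasInjectiveDimensionLT (ModuleCat.of O W) 2) (y : O)
    (hy : y ∈ IsLocalRing.maximalIdeal O) (hyW : ∀ w : W, y • w = 0 → w = 0)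
    (N : Type u) [AddCommGroup N] [Module O N] (hN : IsFiniteLength O N) :
    (∀ f : N →ₗ[O] W, f = 0) ∧
      Module.length O (Abelian.Ext.{u} (ModuleCat.of O N) (ModuleCat.of O W) 1) =
        tW O W * Module.length O N := by
  haveI := hW2
  induction hN with
  | @of_subsingleton M _ _ _ =>
    refine ⟨fun f => LinearMap.ext fun x => ?_, ?_⟩
    · rw [Subsingleton.elim x 0, map_zero]; rfl
    · haveI : Module.Projective O M := Module.Projective.of_free
      haveI : Projective (ModuleCat.of O M) :=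
        (IsProjective.iff_projective (R := O) M).1 inferInstance
      have hz : ∀ x : Abelian.Ext.{u} (ModuleCat.of O M) (ModuleCat.of O W) 1, x = 0 :=
        fun x => Abelian.Ext.eq_zero_of_projective x
      haveI : Subsingleton (Abelian.Ext.{u} (ModuleCat.of O M) (ModuleCat.of O W) 1) :=
        ⟨fun a b => by rw [hz a, hz b]⟩
      rw [Module.length_eq_zero_iff.mpr inferInstance,
        Module.length_eq_zero_iff.mpr (inferInstance : Subsingleton M), mul_zero]
  | @of_simple_quotient M _ _ N _ _ ih =>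
    have hS := sesSub_shortExact N
    obtain ⟨ih0, ih1⟩ := ih
    obtain ⟨I, hI, ⟨e⟩⟩ :=
      isSimpleModule_iff_quot_maximal.mp (inferInstance : IsSimpleModule O (M ⧸ N))
    have hIm : I = IsLocalRing.maximalIdeal O := IsLocalRing.eq_maximalIdeal hI
    subst hIm
    have hann : Module.annihilator O (M ⧸ N) = IsLocalRing.maximalIdeal O :=
      IsLocalRing.eq_maximalIdeal (IsSimpleModule.annihilator_isMaximal (R := O) (M := M ⧸ N))
    have hyN : ∀ x : M, y • x ∈ N := by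
      intro x
      have h0 : y • (N.mkQ x) = 0 :=
        Module.mem_annihilator.mp (by rw [hann]; exact hy) _
      rwa [← map_smul, Submodule.mkQ_apply, Submodule.Quotient.mk_eq_zero] at h0
    have hom0 : ∀ f : M →ₗ[O] W, f = 0 := by
      intro f
      have hfN : f.comp N.subtype = 0 := ih0 _
      refine LinearMap.ext fun x => ?_
      show f x = 0
      apply hyW
      rw [← map_smul]
      exact LinearMap.congr_fun hfN ⟨y • x, hyN x⟩
    have h0 : ∀ x : Abelian.Ext.{u} (sesSub N).X₁ (ModuleCat.of O W) 0, x = 0 := by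
      intro x
      obtain ⟨ψ, rfl⟩ := (Abelian.Ext.mk₀_bijective _ _).2 x
      have hψ : ψ = 0 := by
        apply ModuleCat.hom_ext
        rw [ModuleCat.hom_zero]
        exact ih0 ψ.hom
      rw [hψ, Abelian.Ext.mk₀_zero]
    have h2 : ∀ x : Abelian.Ext.{u} (sesSub N).X₃ (ModuleCat.of O W) 2, x = 0 :=
      fun x => Abelian.Ext.eq_zero_of_hasInjectiveDimensionLT x 2 le_rfl
    have hlen := length_ext_one_ses hS (ModuleCat.of O W) h0 h2
    have hQ : Module.length O (Abelian.Ext.{u} (ModuleCat.of O (M ⧸ N)) (ModuleCat.of O W) 1) =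
        tW O W := length_ext_congr e 1
    have hM : Module.length O M = Module.length O N + Module.length O (M ⧸ N) :=
      Module.length_eq_add_of_exact N.subtype N.mkQ N.injective_subtype N.mkQ_surjective
        (LinearMap.exact_subtype_mkQ N)
    have h1 : Module.length O (M ⧸ N) = 1 := Module.length_eq_one O (M ⧸ N)
    refine ⟨hom0, ?_⟩
    change Module.length O (Abelian.Ext.{u} (sesSub N).X₂ (ModuleCat.of O W) 1) = _
    rw [hlen]
    change Module.length O (Abelian.Ext.{u} (ModuleCat.of O (M ⧸ N)) (ModuleCat.of O W) 1) +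
      Module.length O (Abelian.Ext.{u} (ModuleCat.of O ↥N) (ModuleCat.of O W) 1) = _
    rw [hQ, ih1, hM, h1, mul_add, mul_one, add_comm]

end FL

/-! ### arithmetic in `ℕ∞` -/

theorem enat_le_one_of_mul_le {t L : ℕ∞} (hL0 : L ≠ 0) (hLt : L ≠ ⊤) (h : t * L ≤ L) : t ≤ 1 := by
  lift L to ℕ using hLt
  induction t using ENat.recTopCoe with
  | top =>
    rw [ENat.top_mul hL0] at h
    exact absurd h (by simp)
  | coe n =>
    have hL0' : L ≠ 0 := by exact_mod_cast hL0
    have h' : n * L ≤ L := by exact_mod_cast h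
    have hn : n ≤ 1 := by
      by_contra hn
      push Not at hn
      have h2 : 2 * L ≤ n * L := Nat.mul_le_mul_right L hn
      have h3 : 2 * L ≤ L := le_trans h2 h'
      omega
    exact_mod_cast hn

theorem enat_eq_zero_of_add_eq {a L : ℕ∞} (hLt : L ≠ ⊤) (h : L = a + L) : a = 0 := by
  lift L to ℕ using hLt
  induction a using ENat.recTopCoe with
  | top => simp at h
  | coe n =>
    have h' : L = n + L := by exact_mod_cast h
    have hn : n = 0 := by omega
    exact_mod_cast hn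

/-! ### lattices -/

section RelQ

variable {A : Type*} [CommRing A] {V : Type*} [AddCommGroup V] [Module A V]

theorem relQ_congr (P : Submodule A V) {P' P'' : Submodule A V} (h : P' = P'') :
    Module.length A (relQ P P') = Module.length A (relQ P P'') := by subst h; rfl

theorem relQ_congr_left {P Q : Submodule A V} (P' : Submodule A V) (h : P = Q) :
    Module.length A (relQ P P') = Module.length A (relQ Q P') := by subst h; rfl

theorem le_of_length_relQ_eq_zero {P P' : Submodule A V}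
    (h : Module.length A (relQ P P') = 0) : P' ≤ P := by
  rw [Module.length_eq_zero_iff, Submodule.Quotient.subsingleton_iff,
    Submodule.comap_subtype_eq_top] at h
  exact h

end RelQ

section Lat

variable {O V : Type u} [CommRing O] [CommRing V] [IsDomain V] [Algebra O V]

/-- `I` contains `1` and `x₀ I ⊆ O`. -/
def Lat (x₀ : O) (I : Submodule O V) : Prop :=
  (1 : V) ∈ I ∧ ∀ i ∈ I, ∃ a : O, algebraMap O V a = x₀ • i

theorem lat_one (x₀ : O) : Lat x₀ (1 : Submodule O V) := by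
  refine ⟨Submodule.mem_one.mpr ⟨1, map_one _⟩, fun i hi => ?_⟩
  obtain ⟨b, rfl⟩ := Submodule.mem_one.mp hi
  exact ⟨x₀ * b, by rw [map_mul, Algebra.smul_def]⟩

theorem Lat.one_le {x₀ : O} {I : Submodule O V} (hI : Lat x₀ I) : (1 : Submodule O V) ≤ I :=
  Submodule.one_le.mpr hI.1

theorem lat_of_le {x₀ : O} {I E : Submodule O V} (hE : Lat x₀ E) (h1 : (1 : V) ∈ I)
    (hIE : I ≤ E) : Lat x₀ I :=
  ⟨h1, fun i hi => hE.2 i (hIE hi)⟩

/-- the colon `(ω : J) = {u | u J ⊆ ω}`. -/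
def col (ω J : Submodule O V) : Submodule O V where
  carrier := {u | ∀ j ∈ J, u * j ∈ ω}
  add_mem' := by
    intro a b ha hb j hj
    rw [add_mul]
    exact ω.add_mem (ha j hj) (hb j hj)
  zero_mem' := by
    intro j hj
    rw [zero_mul]
    exact ω.zero_mem
  smul_mem' := by
    intro c u hu j hj
    rw [smul_mul_assoc]
    exact ω.smul_mem c (hu j hj)

theorem mem_col {ω J : Submodule O V} {u : V} : u ∈ col ω J ↔ ∀ j ∈ J, u * j ∈ ω := Iff.rfl

theorem col_anti (ω : Submodule O V) {J I : Submodule O V} (h : J ≤ I) : col ω I ≤ col ω J :=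
  fun _ hu => mem_col.mpr (fun j hj => mem_col.mp hu j (h hj))

theorem col_mono {ω ω' : Submodule O V} (h : ω ≤ ω') (J : Submodule O V) :
    col ω J ≤ col ω' J :=
  fun _ hu => mem_col.mpr (fun j hj => h (mem_col.mp hu j hj))

theorem col_le_of_one_mem (ω : Submodule O V) {J : Submodule O V} (h1 : (1 : V) ∈ J) :
    col ω J ≤ ω := by
  intro u hu
  have := mem_col.mp hu 1 h1
  rwa [mul_one] at this

theorem col_one (ω : Submodule O V) : col ω 1 = ω := by
  apply le_antisymm (col_le_of_one_mem ω (Submodule.mem_one.mpr ⟨1, map_one _⟩))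
  intro u hu
  refine mem_col.mpr (fun j hj => ?_)
  obtain ⟨b, rfl⟩ := Submodule.mem_one.mp hj
  rw [mul_comm, ← Algebra.smul_def]
  exact ω.smul_mem b hu

theorem one_le_col_self (ω : Submodule O V) : (1 : Submodule O V) ≤ col ω ω := by
  intro u hu
  refine mem_col.mpr (fun w hw => ?_)
  obtain ⟨b, rfl⟩ := Submodule.mem_one.mp hu
  rw [← Algebra.smul_def]
  exact ω.smul_mem b hw

theorem hom_cross (hinj : Function.Injective (algebraMap O V)) {x₀ : O} (hx₀ : x₀ ≠ 0)
    {X : Type*} [AddCommGroup X] [Module O X] (ι : X →ₗ[O] V) (hι : Function.Injective ι)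
    (hx : ∀ x, ∃ a : O, algebraMap O V a = x₀ • ι x) (f : X →ₗ[O] V) (x y : X) :
    f x * ι y = f y * ι x := by
  obtain ⟨a, ha⟩ := hx x
  obtain ⟨b, hb⟩ := hx y
  have h0 : algebraMap O V x₀ ≠ 0 := fun h' => hx₀ (hinj (by rw [h', map_zero]))
  have h1 : a • y = b • x := by
    apply hι
    rw [map_smul, map_smul, Algebra.smul_def, Algebra.smul_def, ha, hb, Algebra.smul_def,
      Algebra.smul_def]
    ring
  have h2 : a • f y = b • f x := by rw [← map_smul, ← map_smul, h1]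
  rw [Algebra.smul_def, Algebra.smul_def, ha, hb, Algebra.smul_def, Algebra.smul_def] at h2
  apply mul_left_cancel₀ h0
  linear_combination (-1 : V) * h2

theorem smul_eq_zero_sub (hinj : Function.Injective (algebraMap O V)) {x₀ : O} (hx₀ : x₀ ≠ 0)
    (ω : Submodule O V) (w : ↥ω) (h : x₀ • w = 0) : w = 0 := by
  have h0 : algebraMap O V x₀ ≠ 0 := fun h' => hx₀ (hinj (by rw [h', map_zero]))
  have h1 : x₀ • (w : V) = 0 := congrArg Subtype.val h
  rw [Algebra.smul_def] at h1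
  exact Subtype.ext ((mul_eq_zero.mp h1).resolve_left h0)

theorem smulId_injective (hinj : Function.Injective (algebraMap O V)) {x₀ : O} (hx₀ : x₀ ≠ 0)
    (I : Submodule O V) : Function.Injective (x₀ • (LinearMap.id : ↥I →ₗ[O] ↥I)) := by
  have h0 : algebraMap O V x₀ ≠ 0 := fun h' => hx₀ (hinj (by rw [h', map_zero]))
  intro i j h
  have h' : x₀ • (i : V) = x₀ • (j : V) := congrArg Subtype.val h
  rw [Algebra.smul_def, Algebra.smul_def] at h'
  exact Subtype.ext (mul_left_cancel₀ h0 h')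

theorem relQ_torsion {x₀ : O} {J I : Submodule O V} (hJ1 : (1 : V) ∈ J) (hI : Lat x₀ I)
    (n : relQ J I) : x₀ • n = 0 := by
  obtain ⟨i, rfl⟩ := Submodule.Quotient.mk_surjective _ n
  rw [← Submodule.Quotient.mk_smul, Submodule.Quotient.mk_eq_zero]
  show x₀ • (i : V) ∈ J
  obtain ⟨a, ha⟩ := hI.2 i.1 i.2
  rw [← ha, Algebra.algebraMap_eq_smul_one]
  exact J.smul_mem a hJ1

theorem quot_torsion (ω : Submodule O V) (x₀ : O)
    (n : ↥ω ⧸ LinearMap.range (x₀ • (LinearMap.id : ↥ω →ₗ[O] ↥ω))) : x₀ • n = 0 := by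
  obtain ⟨w, rfl⟩ := Submodule.Quotient.mk_surjective _ n
  rw [← Submodule.Quotient.mk_smul, Submodule.Quotient.mk_eq_zero]
  exact ⟨w, rfl⟩

/-- `Ext¹(I, ω) = 0` for a lattice `I`. -/
theorem ext_one_lat (hinj : Function.Injective (algebraMap O V)) {x₀ : O} (hx₀ : x₀ ≠ 0)
    (ω I : Submodule O V) (hI : Lat x₀ I)
    (hω2 : HasInjectiveDimensionLT (ModuleCat.of O ↥ω) 2) :
    ∀ x : Abelian.Ext.{u} (ModuleCat.of O ↥I) (ModuleCat.of O ↥ω) 1, x = 0 := by
  haveI := hω2
  choose φf hφf using fun i : ↥I => hI.2 i.1 i.2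
  let φ : ↥I →ₗ[O] O :=
    { toFun := φf
      map_add' := fun i j => hinj (by
        show algebraMap O V (φf (i + j)) = algebraMap O V (φf i + φf j)
        rw [map_add, hφf, hφf, hφf]
        show x₀ • ((i : V) + (j : V)) = _
        rw [smul_add])
      map_smul' := fun a i => hinj (by
        show algebraMap O V (φf (a • i)) = algebraMap O V (a * φf i)
        rw [map_mul, hφf, hφf]
        show x₀ • (a • (i : V)) = _
        rw [smul_comm, Algebra.smul_def a]) }
  let ψ : O →ₗ[O] ↥I := LinearMap.toSpanSingleton O ↥I ⟨1, hI.1⟩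
  let μ : ↥I →ₗ[O] ↥I := x₀ • LinearMap.id
  have hμ : ψ.comp φ = μ := by
    refine LinearMap.ext fun i => Subtype.ext ?_
    show (φf i) • (1 : V) = x₀ • (i : V)
    rw [Algebra.smul_def, mul_one, hφf]
  have hμinj : Function.Injective μ := smulId_injective hinj hx₀ I
  have hS := sesOf_shortExact μ hμinj
  haveI : Projective (ModuleCat.of O O) := (IsProjective.iff_projective (R := O) O).1 inferInstance
  intro x₁
  have hx : hS.extClass.comp x₁ (show 1 + 1 = 2 by norm_num) = 0 :=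
    Abelian.Ext.eq_zero_of_hasInjectiveDimensionLT _ 2 le_rfl
  obtain ⟨x₂, hx₂⟩ : ∃ x₂ : Abelian.Ext.{u} (ModuleCat.of O ↥I) (ModuleCat.of O ↥ω) 1,
      (Abelian.Ext.mk₀ (ModuleCat.ofHom μ)).comp x₂ (zero_add 1) = x₁ :=
    Abelian.Ext.contravariant_sequence_exact₁ hS (ModuleCat.of O ↥ω) x₁ (by norm_num) hx
  have hfac : ModuleCat.ofHom μ = ModuleCat.ofHom φ ≫ ModuleCat.ofHom ψ := by
    rw [← ModuleCat.ofHom_comp, hμ]
  have hz : (Abelian.Ext.mk₀ (ModuleCat.ofHom ψ)).comp x₂ (zero_add 1) = 0 :=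
    Abelian.Ext.eq_zero_of_projective _
  rw [← hx₂, hfac, ← Abelian.Ext.mk₀_comp_mk₀_assoc, hz, Abelian.Ext.comp_zero]

/-- `Ext¹(I/J, ω)` has the same length as `(ω : J)/(ω : I)`. -/
theorem length_ext_relQ (hinj : Function.Injective (algebraMap O V)) {x₀ : O} (hx₀ : x₀ ≠ 0)
    (ω J I : Submodule O V) (hJ : Lat x₀ J) (hI : Lat x₀ I) (hJI : J ≤ I)
    (hExtI : ∀ x : Abelian.Ext.{u} (ModuleCat.of O ↥I) (ModuleCat.of O ↥ω) 1, x = 0) :
    Module.length O (Abelian.Ext.{u} (ModuleCat.of O (relQ J I)) (ModuleCat.of O ↥ω) 1) =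
      Module.length O (relQ (col ω I) (col ω J)) := by
  obtain ⟨q, hqdef⟩ : ∃ q : ↥I →ₗ[O] relQ J I, q = (J.comap I.subtype).mkQ := ⟨_, rfl⟩
  have hq : Function.Surjective q := by rw [hqdef]; exact Submodule.mkQ_surjective _
  have hker : ∀ x : ↥I, x ∈ LinearMap.ker q ↔ (x : V) ∈ J := by
    intro x
    rw [hqdef, Submodule.ker_mkQ]
    rfl
  let ι : ↥(LinearMap.ker q) →ₗ[O] V := I.subtype.comp (LinearMap.ker q).subtype
  have hι : Function.Injective ι := fun a b h => Subtype.ext (Subtype.ext h)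
  have hιJ : ∀ x, ι x ∈ J := fun x => (hker x.1).mp x.2
  have hιlat : ∀ x, ∃ a : O, algebraMap O V a = x₀ • ι x := fun x => hI.2 _ x.1.2
  let one : ↥(LinearMap.ker q) := ⟨⟨1, hI.1⟩, (hker _).mpr hJ.1⟩
  have hone : ι one = 1 := rfl
  have hc : ∀ (f : ↥(LinearMap.ker q) →ₗ[O] ↥ω) (x : ↥(LinearMap.ker q)),
      ((f x : ↥ω) : V) = (f one : V) * ι x := by
    intro f x
    have h := hom_cross hinj hx₀ ι hι hιlat (ω.subtype.comp f) x one
    rw [hone, mul_one] at h
    exact h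
  have hcI : ∀ (g : ↥I →ₗ[O] ↥ω) (i : ↥I),
      ((g i : ↥ω) : V) = (g ⟨1, hI.1⟩ : V) * (i : V) := by
    intro g i
    have h := hom_cross hinj hx₀ I.subtype I.injective_subtype (fun x => hI.2 _ x.2)
      (ω.subtype.comp g) i ⟨1, hI.1⟩
    rw [show I.subtype ⟨1, hI.1⟩ = (1 : V) from rfl, mul_one] at h
    exact h
  have hmem : ∀ f : ↥(LinearMap.ker q) →ₗ[O] ↥ω,
      (ω.subtype.comp (LinearMap.applyₗ one)) f ∈ col ω J := by
    refine fun f => mem_col.mpr (fun j hj => ?_)
    have hjk : (⟨j, hJI hj⟩ : ↥I) ∈ LinearMap.ker q := (hker _).mpr hj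
    have h := hc f ⟨⟨j, hJI hj⟩, hjk⟩
    show (f one : V) * j ∈ ω
    rw [show (f one : V) * j = ((f ⟨⟨j, hJI hj⟩, hjk⟩ : ↥ω) : V) from h.symm]
    exact (f _).2
  let Ξ₀ : (↥(LinearMap.ker q) →ₗ[O] ↥ω) →ₗ[O] ↥(col ω J) :=
    LinearMap.codRestrict (col ω J) (ω.subtype.comp (LinearMap.applyₗ one)) hmem
  let Ξ : (↥(LinearMap.ker q) →ₗ[O] ↥ω) →ₗ[O] relQ (col ω I) (col ω J) :=
    (Submodule.mkQ _).comp Ξ₀
  have hΞ : ∀ f, Ξ f = 0 ↔ (f one : V) ∈ col ω I := by
    intro f
    show Submodule.Quotient.mk (Ξ₀ f) = 0 ↔ _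
    rw [Submodule.Quotient.mk_eq_zero]
    rfl
  refine length_ext_one_eq' q hq hExtI Ξ ?_ ?_
  · intro y
    obtain ⟨⟨u, hu⟩, rfl⟩ := Submodule.Quotient.mk_surjective _ y
    let fu : ↥(LinearMap.ker q) →ₗ[O] ↥ω :=
      LinearMap.codRestrict ω ((LinearMap.mulLeft O u).comp ι)
        (fun x => mem_col.mp hu _ (hιJ x))
    refine ⟨fu, ?_⟩
    show Submodule.Quotient.mk (Ξ₀ fu) = Submodule.Quotient.mk ⟨u, hu⟩
    congr 1
    exact Subtype.ext (mul_one u)
  · intro f
    rw [hΞ]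
    constructor
    · intro h
      let g : ↥I →ₗ[O] ↥ω :=
        LinearMap.codRestrict ω ((LinearMap.mulLeft O (f one : V)).comp I.subtype)
          (fun i => mem_col.mp h _ i.2)
      refine ⟨g, fun x => Subtype.ext ?_⟩
      show (f one : V) * ι x = (f x : V)
      exact (hc f x).symm
    · rintro ⟨g, hg⟩
      refine mem_col.mpr (fun i hi => ?_)
      have h1 : g ⟨1, hI.1⟩ = f one := hg one
      have h := hcI g ⟨i, hi⟩
      rw [h1] at h
      show (f one : V) * i ∈ ω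
      rw [show (f one : V) * i = ((g ⟨i, hi⟩ : ↥ω) : V) from h.symm]
      exact (g _).2

/-- the duality formula. -/
theorem dual_length [IsLocalRing O] (hinj : Function.Injective (algebraMap O V)) {x₀ : O}
    (hx₀ : x₀ ≠ 0) (hx₀m : x₀ ∈ IsLocalRing.maximalIdeal O) (ω J I : Submodule O V)
    (hω2 : HasInjectiveDimensionLT (ModuleCat.of O ↥ω) 2) (hJ : Lat x₀ J) (hI : Lat x₀ I)
    (hJI : J ≤ I) (hfl : IsFiniteLength O (relQ J I)) :
    Module.length O (relQ (col ω I) (col ω J)) =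
      tW O ↥ω * Module.length O (relQ J I) := by
  rw [← length_ext_relQ hinj hx₀ ω J I hJ hI hJI (ext_one_lat hinj hx₀ ω I hI hω2)]
  exact (fl_main hω2 x₀ hx₀m (smul_eq_zero_sub hinj hx₀ ω) _ hfl).2

/-- the type of a canonical lattice `ω ≠ O` is one, and `ω : ω = O`. -/
theorem t_eq_one [IsLocalRing O] (hinj : Function.Injective (algebraMap O V)) {x₀ : O}
    (hx₀ : x₀ ≠ 0) (hx₀m : x₀ ∈ IsLocalRing.maximalIdeal O) (ω : Submodule O V)
    (hω : Lat x₀ ω) (hω2 : HasInjectiveDimensionLT (ModuleCat.of O ↥ω) 2)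
    (hne : ω ≠ 1) (hfl1 : IsFiniteLength O (relQ 1 ω))
    (hfl2 : IsFiniteLength O (↥ω ⧸ LinearMap.range (x₀ • (LinearMap.id : ↥ω →ₗ[O] ↥ω))))
    (hfg : ω.FG) : tW O ↥ω = 1 ∧ col ω ω = 1 := by
  have h1ω : (1 : Submodule O V) ≤ ω := hω.one_le
  have hL0 : Module.length O (relQ 1 ω) ≠ 0 := by
    intro h0
    exact hne (le_antisymm (le_of_length_relQ_eq_zero h0) h1ω)
  have hLt : Module.length O (relQ 1 ω) ≠ ⊤ := Module.length_ne_top_iff.mpr hfl1
  have hd := dual_length hinj hx₀ hx₀m ω 1 ω hω2 (lat_one x₀) hω h1ω hfl1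
  have hd' : Module.length O (relQ (col ω ω) ω) =
      tW O ↥ω * Module.length O (relQ 1 ω) := by
    rw [← hd]; exact relQ_congr _ (col_one ω).symm
  have hch := length_chain (1 : Submodule O V) (col ω ω) ω (one_le_col_self ω)
    (col_le_of_one_mem ω hω.1)
  have hle : tW O ↥ω * Module.length O (relQ 1 ω) ≤ Module.length O (relQ 1 ω) := by
    rw [← hd']
    conv_rhs => rw [hch]
    exact le_add_self
  have ht1 : tW O ↥ω ≤ 1 := enat_le_one_of_mul_le hL0 hLt hle
  have ht0 : tW O ↥ω ≠ 0 := by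
    intro h0
    have hE : ∀ x : Abelian.Ext.{u}
        (ModuleCat.of O (↥ω ⧸ LinearMap.range (x₀ • (LinearMap.id : ↥ω →ₗ[O] ↥ω))))
        (ModuleCat.of O ↥ω) 1, x = 0 := by
      have hlen := (fl_main hω2 x₀ hx₀m (smul_eq_zero_sub hinj hx₀ ω) _ hfl2).2
      rw [h0, zero_mul, Module.length_eq_zero_iff] at hlen
      intro x; exact Subsingleton.elim _ _
    obtain ⟨ψ, hψ⟩ := exists_extension (x₀ • (LinearMap.id : ↥ω →ₗ[O] ↥ω))
      (smulId_injective hinj hx₀ ω) ↥ω hE LinearMap.id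
    have htop : (⊤ : Submodule O ↥ω) ≤ IsLocalRing.maximalIdeal O • (⊤ : Submodule O ↥ω) := by
      intro w _
      have hw : w = x₀ • ψ w := by
        have h := LinearMap.congr_fun hψ w
        calc w = ψ (x₀ • w) := h.symm
          _ = x₀ • ψ w := map_smul _ _ _
      rw [hw]
      exact Submodule.smul_mem_smul hx₀m Submodule.mem_top
    have hbot := Submodule.eq_bot_of_le_smul_of_le_jacobson_bot (IsLocalRing.maximalIdeal O)
      (⊤ : Submodule O ↥ω) ((Submodule.fg_top ω).mpr hfg) htop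
      (IsLocalRing.maximalIdeal_le_jacobson ⊥)
    have h1mem : (⟨1, hω.1⟩ : ↥ω) ∈ (⊤ : Submodule O ↥ω) := Submodule.mem_top
    rw [hbot, Submodule.mem_bot] at h1mem
    exact one_ne_zero (congrArg Subtype.val h1mem)
  have ht : tW O ↥ω = 1 :=
    le_antisymm ht1 (Order.one_le_iff_pos.mpr (pos_iff_ne_zero.mpr ht0))
  refine ⟨ht, le_antisymm ?_ (one_le_col_self ω)⟩
  rw [ht, one_mul] at hd'
  rw [hd'] at hch
  exact le_of_length_relQ_eq_zero (enat_eq_zero_of_add_eq hLt hch)

theorem col_mul_closed (ω E : Submodule O V) (hωE : ω ≤ E)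
    (hEmul : ∀ x ∈ E, ∀ y ∈ E, x * y ∈ E) (h1ω : (1 : V) ∈ ω) (hωω : col ω ω = 1) :
    col ω E = col 1 E := by
  apply le_antisymm
  · intro u hu
    refine mem_col.mpr (fun e he => ?_)
    rw [← hωω]
    refine mem_col.mpr (fun w hw => ?_)
    rw [mul_assoc]
    exact mem_col.mp hu _ (hEmul e he w (hωE hw))
  · exact col_mono (Submodule.one_le.mpr h1ω) E

/-- `ℓ(O/(O : E)) = ℓ(E/ω)`. -/
theorem main [IsLocalRing O] (hinj : Function.Injective (algebraMap O V)) {x₀ : O}
    (hx₀ : x₀ ≠ 0) (hx₀m : x₀ ∈ IsLocalRing.maximalIdeal O) (ω E : Submodule O V)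
    (hω : Lat x₀ ω) (hE : Lat x₀ E) (hωE : ω ≤ E) (hEmul : ∀ x ∈ E, ∀ y ∈ E, x * y ∈ E)
    (hω2 : HasInjectiveDimensionLT (ModuleCat.of O ↥ω) 2)
    (hne : ω ≠ 1) (hfl1 : IsFiniteLength O (relQ 1 ω))
    (hfl2 : IsFiniteLength O (↥ω ⧸ LinearMap.range (x₀ • (LinearMap.id : ↥ω →ₗ[O] ↥ω))))
    (hfl3 : IsFiniteLength O (relQ ω E)) (hfg : ω.FG) :
    Module.length O (relQ (col 1 E) 1) = Module.length O (relQ ω E) := by
  obtain ⟨ht, hωω⟩ := t_eq_one hinj hx₀ hx₀m ω hω hω2 hne hfl1 hfl2 hfg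
  have hd := dual_length hinj hx₀ hx₀m ω ω E hω2 hω hE hωE hfl3
  rw [ht, one_mul] at hd
  rw [← hd]
  have h4 := col_mul_closed ω E hωE hEmul hω.1 hωω
  exact (relQ_congr_left _ h4.symm).trans (relQ_congr _ hωω.symm)

end Lat

end Groth.Agent.Lib.CanonDualH1
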