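import Mathlib
import Groth.Prelude
import Groth.Agent.Lib.CanonDual1_helper1

/-!
# `ℓ(ω/O) + ℓ(Õ/C) = 2 ℓ(Õ/O)` for a canonical ideal `O ⊆ ω ⊆ Õ` of a non-Gorenstein
one-dimensional local domain (helper1)
-/

set_option autoImplicit false
set_option maxHeartbeats 1000000

universe u

namespace Groth.Agent.Lib.CanonDualH1

open CategoryTheory
open Groth.Agent.Lib.TFExtH1 (relQ length_chain)

theorem main15008 (O : Type u) [CommRing O] [IsDomain O] [IsNoetherianRing O] [IsLocalRing O]
    (hdim : ringKrullDim O = 1) (K : Type u) [Field K] [Algebra O K] [IsFractionRing O K]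
    (hfin : Module.Finite O ↥(integralClosure O K)) (hG : ¬ LocCoh.IsGorensteinLocalRing O)
    (ω : Submodule O K) (hω1 : (1 : Submodule O K) ≤ ω)
    (hω2 : ω ≤ (Subalgebra.toSubmodule (integralClosure O K)))
    (hωinj : HasInjectiveDimensionLT (ModuleCat.of O ↥ω) 2) :
    Module.length O (↥ω ⧸ Submodule.comap ω.subtype (1 : Submodule O K)) +
      Module.length O (↥(integralClosure O K) ⧸
        ((1 : Submodule O K).colon (Subalgebra.toSubmodule (integralClosure O K))) •
          (⊤ : Submodule O ↥(integralClosure O K))) =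
      2 * Module.length O (↥(integralClosure O K) ⧸
        Submodule.comap (Subalgebra.toSubmodule (integralClosure O K)).subtype
          (1 : Submodule O K)) := by
  classical
  have hinj : Function.Injective (algebraMap O K) := IsFractionRing.injective O K
  haveI : Ring.KrullDimLE 1 O := by
    rw [Ring.krullDimLE_iff]
    exact le_of_eq hdim
  haveI := hfin
  have hE1 : (1 : K) ∈ Subalgebra.toSubmodule (integralClosure O K) :=
    (integralClosure O K).one_mem
  have hfgE : (LinearMap.range ((integralClosure O K).val.toLinearMap)).FG :=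
    Module.Finite.iff_fg.mp inferInstance
  obtain ⟨d, hd0, hdint⟩ := FractionalIdeal.isFractional_of_fg (S := nonZeroDivisors O) hfgE
  obtain ⟨y, hym, hy0⟩ : ∃ y ∈ IsLocalRing.maximalIdeal O, y ≠ 0 := by
    by_contra hcon
    push Not at hcon
    have hbot : IsLocalRing.maximalIdeal O = ⊥ := (Submodule.eq_bot_iff _).mpr hcon
    have hF : IsField O := IsLocalRing.isField_iff_maximalIdeal_eq.mpr hbot
    rw [ringKrullDim_eq_zero_of_isField hF] at hdim
    exact zero_ne_one hdim
  have hx₀ : y * d ≠ 0 := mul_ne_zero hy0 (nonZeroDivisors.ne_zero hd0)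
  have hx₀m : y * d ∈ IsLocalRing.maximalIdeal O := Ideal.mul_mem_right _ _ hym
  have hElat : Lat (y * d) (Subalgebra.toSubmodule (integralClosure O K)) := by
    refine ⟨hE1, fun b hb => ?_⟩
    obtain ⟨a', ha'⟩ := hdint b ⟨⟨b, hb⟩, rfl⟩
    refine ⟨y * a', ?_⟩
    rw [map_mul, ha', mul_smul, Algebra.smul_def y]
  have h1ω : (1 : K) ∈ ω := Submodule.one_le.mp hω1
  have hωlat : Lat (y * d) ω := lat_of_le hElat h1ω hω2
  have hEmul : ∀ x ∈ Subalgebra.toSubmodule (integralClosure O K),
      ∀ z ∈ Subalgebra.toSubmodule (integralClosure O K),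
        x * z ∈ Subalgebra.toSubmodule (integralClosure O K) := fun x hx z hz =>
    (integralClosure O K).mul_mem hx hz
  have hne : ω ≠ 1 := by
    intro h1
    apply hG
    have e : O ≃ₗ[O] ↥ω :=
      (LinearEquiv.ofInjective (Algebra.linearMap O K) hinj).trans
        (LinearEquiv.ofEq _ _ (by rw [h1, Submodule.one_eq_range]))
    haveI : HasInjectiveDimensionLT (ModuleCat.of O ↥ω) 2 := hωinj
    have h2 : HasInjectiveDimensionLT (ModuleCat.of O O) 2 :=
      hasInjectiveDimensionLT_of_iso (e.symm.toModuleIso) 2
    exact { exists_hasInjectiveDimensionLT := ⟨2, h2⟩ }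
  haveI hfinE : Module.Finite O ↥(Subalgebra.toSubmodule (integralClosure O K)) :=
    Module.Finite.equiv (Subalgebra.toSubmoduleEquiv (integralClosure O K)).symm
  haveI : IsNoetherian O ↥(Subalgebra.toSubmodule (integralClosure O K)) :=
    isNoetherian_of_isNoetherianRing_of_finite O _
  haveI : Module.Finite O ↥ω :=
    Module.Finite.of_injective (Submodule.inclusion hω2) (Submodule.inclusion_injective hω2)
  have hfg : ω.FG := Module.Finite.iff_fg.mp inferInstance
  have hfl1 : IsFiniteLength O (relQ (1 : Submodule O K) ω) :=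
    isFiniteLength_of_torsion hx₀ _
      (relQ_torsion (Submodule.mem_one.mpr ⟨1, map_one _⟩) hωlat)
  have hfl2 : IsFiniteLength O
      (↥ω ⧸ LinearMap.range ((y * d) • (LinearMap.id : ↥ω →ₗ[O] ↥ω))) :=
    isFiniteLength_of_torsion hx₀ _ (quot_torsion ω _)
  have hfl3 : IsFiniteLength O (relQ ω (Subalgebra.toSubmodule (integralClosure O K))) :=
    isFiniteLength_of_torsion hx₀ _ (relQ_torsion h1ω hElat)
  have key := main hinj hx₀ hx₀m ω (Subalgebra.toSubmodule (integralClosure O K)) hωlat hElat
    hω2 hEmul hωinj hne hfl1 hfl2 hfl3 hfg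
  have h1E : (1 : Submodule O K) ≤ Subalgebra.toSubmodule (integralClosure O K) :=
    Submodule.one_le.mpr hE1
  have hch1 := length_chain (1 : Submodule O K) ω
    (Subalgebra.toSubmodule (integralClosure O K)) hω1 hω2
  have hcolle : col (1 : Submodule O K) (Subalgebra.toSubmodule (integralClosure O K)) ≤ 1 :=
    col_le_of_one_mem 1 hE1
  have hch2 := length_chain
    (col (1 : Submodule O K) (Subalgebra.toSubmodule (integralClosure O K))) 1
    (Subalgebra.toSubmodule (integralClosure O K)) hcolle h1E
  have hb : Module.length O (↥(integralClosure O K) ⧸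
        ((1 : Submodule O K).colon (Subalgebra.toSubmodule (integralClosure O K))) •
          (⊤ : Submodule O ↥(integralClosure O K))) =
      Module.length O (relQ
        (col (1 : Submodule O K) (Subalgebra.toSubmodule (integralClosure O K)))
        (Subalgebra.toSubmodule (integralClosure O K))) := by
    refine (Submodule.Quotient.equiv _ _
      (Subalgebra.toSubmoduleEquiv (integralClosure O K)).symm ?_).length_eq
    apply le_antisymm
    · rw [Submodule.map_le_iff_le_comap]
      refine Submodule.smul_le.mpr (fun c hc b _ => ?_)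
      show c • (b : K) ∈
        col (1 : Submodule O K) (Subalgebra.toSubmodule (integralClosure O K))
      refine mem_col.mpr (fun s hs => ?_)
      rw [smul_mul_assoc]
      exact Submodule.mem_colon.mp hc _ (hEmul _ b.2 _ hs)
    · intro x hx
      have hx' : (x : K) ∈
          col (1 : Submodule O K) (Subalgebra.toSubmodule (integralClosure O K)) := hx
      have h1 := mem_col.mp hx' 1 hE1
      rw [mul_one] at h1
      obtain ⟨a, ha⟩ := Submodule.mem_one.mp h1
      have haC : a ∈ (1 : Submodule O K).colon
          (Subalgebra.toSubmodule (integralClosure O K) : Set K) := by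
        refine Submodule.mem_colon.mpr (fun s hs => ?_)
        rw [Algebra.smul_def, ha]
        exact mem_col.mp hx' s hs
      refine Submodule.mem_map.mpr ⟨a • (1 : ↥(integralClosure O K)),
        Submodule.smul_mem_smul haC Submodule.mem_top, Subtype.ext ?_⟩
      show a • (1 : K) = (x : K)
      rw [Algebra.smul_def, mul_one, ha]
  show Module.length O (relQ (1 : Submodule O K) ω) + _ =
    2 * Module.length O (relQ (1 : Submodule O K)
      (Subalgebra.toSubmodule (integralClosure O K)))
  rw [hb, hch2, key, hch1]
  ring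

end Groth.Agent.Lib.CanonDualH1
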