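import Mathlib

namespace Groth.Agent.Lib.TFCurv
open PowerSeries

universe u
variable {k : Type u} [Field k]

/-- killing the leading term -/
lemma order_sub_smul (h b : PowerSeries k) (n : ℕ) (hh : (n : ℕ∞) ≤ h.order)
    (hb : b.order = n) :
    ((n + 1 : ℕ) : ℕ∞) ≤ (h - (coeff n h / coeff n b) • b).order := by
  obtain ⟨hb1, hb2⟩ := PowerSeries.order_eq_nat.mp hb
  refine PowerSeries.nat_le_order _ _ (fun i hi => ?_)
  rw [map_sub, map_smul, smul_eq_mul]
  rcases Nat.lt_succ_iff_lt_or_eq.mp hi with hlt | heq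
  · rw [hb2 i hlt, PowerSeries.coeff_of_lt_order i (lt_of_lt_of_le (by exact_mod_cast hlt) hh)]
    simp
  · rw [heq, div_mul_cancel₀ _ hb1, sub_self]

lemma mem_of_le_order (A : Subalgebra k (PowerSeries k))
    (hcl : ∀ f : PowerSeries k,
      (∀ n : ℕ, ∃ g ∈ A, (n : ℕ∞) ≤ PowerSeries.order (f - g)) → f ∈ A)
    (c : ℕ) (hc : ∀ n : ℕ, c ≤ n → ∃ f ∈ A, PowerSeries.order f = n)
    (h : PowerSeries k) (hh : (c : ℕ∞) ≤ h.order) : h ∈ A := by
  have key : ∀ m : ℕ, ∃ a ∈ A, ((c + m : ℕ) : ℕ∞) ≤ PowerSeries.order (h - a) := by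
    intro m
    induction m with
    | zero => exact ⟨0, A.zero_mem, by simpa using hh⟩
    | succ m ih =>
      obtain ⟨a, haA, ha⟩ := ih
      obtain ⟨b, hbA, hb⟩ := hc (c + m) (Nat.le_add_right c m)
      refine ⟨a + (coeff (c + m) (h - a) / coeff (c + m) b) • b,
        A.add_mem haA (A.smul_mem hbA _), ?_⟩
      have := order_sub_smul (h - a) b (c + m) ha hb
      rw [sub_sub] at this
      exact this
  exact hcl h (fun n => by
    obtain ⟨a, haA, ha⟩ := key n
    exact ⟨a, haA, le_trans (by exact_mod_cast Nat.le_add_left n c) ha⟩)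

lemma eq_top_of_orders (W : Submodule k (PowerSeries k)) (c : ℕ)
    (h1 : ∀ h : PowerSeries k, (c : ℕ∞) ≤ h.order → h ∈ W)
    (h2 : ∀ n : ℕ, n < c → ∃ b ∈ W, PowerSeries.order b = n) : W = ⊤ := by
  rw [eq_top_iff]
  rintro h -
  have key : ∀ m : ℕ, ∀ h : PowerSeries k, ((c - m : ℕ) : ℕ∞) ≤ h.order → h ∈ W := by
    intro m
    induction m with
    | zero => intro h hh; exact h1 h (by simpa using hh)
    | succ m ih =>
      intro h hh
      by_cases hm : m < c
      · obtain ⟨b, hbW, hb⟩ := h2 (c - (m + 1)) (by omega)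
        have h3 := order_sub_smul h b (c - (m + 1)) hh hb
        have h4 : c - (m + 1) + 1 = c - m := by omega
        rw [h4] at h3
        have h5 := ih _ h3
        have := W.add_mem h5 (W.smul_mem (coeff (c - (m + 1)) h / coeff (c - (m + 1)) b) hbW)
        rwa [sub_add_cancel] at this
      · have h4 : c - (m + 1) = c - m := by omega
        rw [h4] at hh
        exact ih h hh
  exact key c h (by simp)

theorem main16 (k : Type u) [Field k] (A : Subalgebra k (PowerSeries k))
    (hcl : ∀ f : PowerSeries k,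
      (∀ n : ℕ, ∃ g ∈ A, (n : ℕ∞) ≤ PowerSeries.order (f - g)) → f ∈ A)
    (Γ : Set ℕ) (hΓ : ∀ n : ℕ, n ∈ Γ ↔ ∃ f ∈ A, PowerSeries.order f = n)
    (c : ℕ) (hc : ∀ n : ℕ, c ≤ n → n ∈ Γ) (hc1 : c - 1 ∉ Γ) (f : PowerSeries k) :
    (∀ g : PowerSeries k, g * f ∈ A) ↔ (c : ℕ∞) ≤ PowerSeries.order f := by
  constructor
  · intro hall
    by_contra hlt
    rw [not_le] at hlt
    have hne : f.order ≠ ⊤ := ne_top_of_lt hlt
    obtain ⟨n, hn⟩ := ENat.ne_top_iff_exists.mp hne
    rw [← hn] at hlt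
    have hnc : n < c := by exact_mod_cast hlt
    have hmem := hall (PowerSeries.X ^ (c - 1 - n))
    apply hc1
    rw [hΓ]
    refine ⟨_, hmem, ?_⟩
    rw [PowerSeries.order_mul, PowerSeries.order_X_pow, ← hn]
    norm_cast
    omega
  · intro hf g
    apply mem_of_le_order A hcl c (fun n hn => (hΓ n).mp (hc n hn))
    rw [PowerSeries.order_mul]
    exact le_trans hf le_add_self

theorem main15 (k : Type u) [Field k] (A : Subalgebra k (PowerSeries k))
    (hA : Module.Finite ↥A (PowerSeries k))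
    (hcl : ∀ f : PowerSeries k,
      (∀ n : ℕ, ∃ g ∈ A, (n : ℕ∞) ≤ PowerSeries.order (f - g)) → f ∈ A)
    (hbir : ∀ f : PowerSeries k, ∃ a ∈ A, a ≠ 0 ∧ a * f ∈ A)
    (Γ : Set ℕ) (hΓ : ∀ n : ℕ, n ∈ Γ ↔ ∃ f ∈ A, PowerSeries.order f = n) :
    Γᶜ.Finite ∧ Module.finrank k (PowerSeries k ⧸ Subalgebra.toSubmodule A) = Γᶜ.ncard := by
  classical
  -- Step 1: conductor element
  obtain ⟨a, haA, ha0, hcond⟩ : ∃ a ∈ A, a ≠ 0 ∧ ∀ h : PowerSeries k, a * h ∈ A := by
    obtain ⟨s, hs⟩ := Module.finite_def.mp hA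
    have : ∀ t : Finset (PowerSeries k), ∃ a ∈ A, a ≠ 0 ∧
        ∀ h ∈ Submodule.span ↥A (t : Set (PowerSeries k)), a * h ∈ A := by
      intro t
      induction t using Finset.induction_on with
      | empty =>
        refine ⟨1, A.one_mem, one_ne_zero, fun h hh => ?_⟩
        simp only [Finset.coe_empty, Submodule.span_empty, Submodule.mem_bot] at hh
        rw [hh, mul_zero]; exact A.zero_mem
      | insert f t hft ih =>
        obtain ⟨a, haA, ha0, ha⟩ := ih
        obtain ⟨a', ha'A, ha'0, ha'⟩ := hbir f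
        refine ⟨a * a', A.mul_mem haA ha'A, mul_ne_zero ha0 ha'0, fun h hh => ?_⟩
        rw [Finset.coe_insert, Submodule.mem_span_insert] at hh
        obtain ⟨α, g, hg, rfl⟩ := hh
        have hsm : α • f = (α : PowerSeries k) * f := rfl
        have e : a * a' * (α • f + g) = (α : PowerSeries k) * a * (a' * f) + a' * (a * g) := by
          rw [hsm]; ring
        rw [e]
        exact A.add_mem (A.mul_mem (A.mul_mem α.2 haA) ha') (A.mul_mem ha'A (ha g hg))
    obtain ⟨a, haA, ha0, ha⟩ := this s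
    exact ⟨a, haA, ha0, fun h => ha h (by rw [hs]; trivial)⟩
  have hord : a.order ≠ ⊤ := fun h => ha0 (PowerSeries.order_eq_top.mp h)
  obtain ⟨c, hc'⟩ := ENat.ne_top_iff_exists.mp hord
  have hc : ∀ n : ℕ, c ≤ n → ∃ f ∈ A, PowerSeries.order f = n := by
    intro n hn
    refine ⟨a * X ^ (n - c), hcond _, ?_⟩
    rw [PowerSeries.order_mul, PowerSeries.order_X_pow, ← hc']
    norm_cast
    omega
  have hfin : Γᶜ.Finite := (Finset.range c).finite_toSet.subset (fun n hn => by
    simp only [Finset.coe_range, Set.mem_Iio]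
    by_contra hge
    exact hn ((hΓ n).mpr (hc n (not_lt.mp hge))))
  refine ⟨hfin, ?_⟩
  let s : Finset ℕ := hfin.toFinset
  have hs : ∀ n, n ∈ s ↔ n ∉ Γ := fun n => by simp [s]
  let L : (↥s → k) →ₗ[k] PowerSeries k :=
    Fintype.linearCombination k (fun g : ↥s => (X : PowerSeries k) ^ (g : ℕ))
  have hLcoeff : ∀ (l : ↥s → k) (i : ℕ),
      coeff i (L l) = if h : i ∈ s then l ⟨i, h⟩ else 0 := by
    intro l i
    simp only [L, Fintype.linearCombination_apply, map_sum, map_smul, smul_eq_mul,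
      PowerSeries.coeff_X_pow]
    split_ifs with h
    · rw [Finset.sum_eq_single (⟨i, h⟩ : ↥s)]
      · simp
      · intro g _ hg
        rw [if_neg, mul_zero]
        intro hig; exact hg (Subtype.ext hig.symm)
      · intro h'; exact absurd (Finset.mem_univ _) h'
    · apply Finset.sum_eq_zero
      intro g _
      rw [if_neg, mul_zero]
      intro hig; exact h (hig ▸ g.2)
  let φ : (↥s → k) →ₗ[k] (PowerSeries k ⧸ Subalgebra.toSubmodule A) :=
    (Subalgebra.toSubmodule A).mkQ.comp L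
  have hinj : Function.Injective φ := by
    rw [← LinearMap.ker_eq_bot, LinearMap.ker_eq_bot']
    intro l hl
    have hmem : L l ∈ A := by
      have : (Subalgebra.toSubmodule A).mkQ (L l) = 0 := hl
      rwa [Submodule.mkQ_apply, Submodule.Quotient.mk_eq_zero] at this
    by_cases h0 : L l = 0
    · funext g
      have := hLcoeff l g
      rw [h0, map_zero, dif_pos g.2] at this
      exact this.symm
    · exfalso
      have hne : (L l).order ≠ ⊤ := fun h => h0 (PowerSeries.order_eq_top.mp h)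
      obtain ⟨n, hn⟩ := ENat.ne_top_iff_exists.mp hne
      have hnΓ : n ∈ Γ := (hΓ n).mpr ⟨L l, hmem, hn.symm⟩
      have hcoef := (PowerSeries.order_eq_nat.mp hn.symm).1
      rw [hLcoeff] at hcoef
      split_ifs at hcoef with h
      · exact (hs n).mp h hnΓ
      · exact hcoef rfl
  have hX : ∀ n (hn : n ∈ s), (X : PowerSeries k) ^ n ∈ LinearMap.range L := fun n hn => by
    refine ⟨Pi.single ⟨n, hn⟩ 1, ?_⟩
    show Fintype.linearCombination k (fun g : ↥s => (X : PowerSeries k) ^ (g : ℕ))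
      (Pi.single ⟨n, hn⟩ 1) = _
    rw [Fintype.linearCombination_apply, Finset.sum_eq_single (⟨n, hn⟩ : ↥s)]
    · simp
    · intro b _ hb; rw [Pi.single_eq_of_ne hb, zero_smul]
    · intro h'; exact absurd (Finset.mem_univ _) h'
  have hW : Subalgebra.toSubmodule A ⊔ LinearMap.range L = ⊤ := by
    apply eq_top_of_orders _ c
    · intro h hh
      exact Submodule.mem_sup_left (mem_of_le_order A hcl c hc h hh)
    · intro n hn
      by_cases hnΓ : n ∈ Γ
      · obtain ⟨b, hbA, hb⟩ := (hΓ n).mp hnΓ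
        exact ⟨b, Submodule.mem_sup_left hbA, hb⟩
      · exact ⟨X ^ n, Submodule.mem_sup_right (hX n ((hs n).mpr hnΓ)),
          PowerSeries.order_X_pow n⟩
  have hsurj : Function.Surjective φ := by
    intro v
    obtain ⟨h, rfl⟩ := Submodule.Quotient.mk_surjective _ v
    have hh : h ∈ Subalgebra.toSubmodule A ⊔ LinearMap.range L := hW ▸ Submodule.mem_top
    obtain ⟨a', ha', y, ⟨l, rfl⟩, rfl⟩ := Submodule.mem_sup.mp hh
    refine ⟨l, ?_⟩
    show Submodule.Quotient.mk (L l) = Submodule.Quotient.mk (a' + L l)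
    rw [Submodule.Quotient.mk_add, (Submodule.Quotient.mk_eq_zero _).mpr ha', zero_add]
  have e := LinearEquiv.ofBijective φ ⟨hinj, hsurj⟩
  rw [← e.finrank_eq, Module.finrank_fintype_fun_eq_card, Fintype.card_coe,
    Set.ncard_eq_toFinset_card Γᶜ hfin]

end Groth.Agent.Lib.TFCurv
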