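import Mathlib
import Groth.Prelude
import Groth.Agent.Lib.CanonDual1_helper1
import Groth.Agent.Lib.TFCurv_lead

/-!
# The value set of the dual `(ω : M)` for a canonical ideal of a unibranch curve singularity
(helper1)
-/

set_option autoImplicit false
set_option maxHeartbeats 1000000

universe u

namespace Groth.Agent.Lib.CanonDualH1

open CategoryTheory PowerSeries
open Groth.Agent.Lib.TFExtH1 (relQ length_chain length_relQ_self_le)

theorem enat_sub_le {c j : ℕ} {x : ℕ∞} (h : (c : ℕ∞) ≤ x + j) : ((c - j : ℕ) : ℕ∞) ≤ x := by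
  induction x using ENat.recTopCoe with
  | top => exact le_top
  | coe m =>
    have h' : c ≤ m + j := by exact_mod_cast h
    have h'' : c - j ≤ m := by omega
    exact_mod_cast h''

section ColSup

variable {O V : Type u} [CommRing O] [CommRing V] [IsDomain V] [Algebra O V]

theorem col_sup (ω J I : Submodule O V) : col ω (J ⊔ I) = col ω J ⊓ col ω I := by
  apply le_antisymm
  · exact le_inf (col_anti ω le_sup_left) (col_anti ω le_sup_right)
  · intro u hu
    obtain ⟨h1, h2⟩ := Submodule.mem_inf.mp hu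
    refine mem_col.mpr (fun x hx => ?_)
    obtain ⟨j, hj, i, hi, rfl⟩ := Submodule.mem_sup.mp hx
    rw [mul_add]
    exact ω.add_mem (mem_col.mp h1 j hj) (mem_col.mp h2 i hi)

/-- `ω / x₀ ω`. -/
abbrev quotX (ω : Submodule O V) (x₀ : O) : Type u :=
  ↥ω ⧸ LinearMap.range (x₀ • (LinearMap.id : ↥ω →ₗ[O] ↥ω))

omit [IsDomain V] in
theorem injDim_self_of_eq_one (hinj : Function.Injective (algebraMap O V)) (ω : Submodule O V)
    (h1 : ω = 1) (hω2 : HasInjectiveDimensionLT (ModuleCat.of O ↥ω) 2) :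
    HasInjectiveDimensionLT (ModuleCat.of O O) 2 := by
  have e : O ≃ₗ[O] ↥ω :=
    (LinearEquiv.ofInjective (Algebra.linearMap O V) hinj).trans
      (LinearEquiv.ofEq _ _ (by rw [h1, Submodule.one_eq_range]))
  haveI := hω2
  exact hasInjectiveDimensionLT_of_iso (e.symm.toModuleIso) 2

end ColSup

section PS

variable {k : Type u} [Field k] (A : Subalgebra k (PowerSeries k))

/-- series of order `≥ j`, as an `A`-submodule. -/
def Q (j : ℕ) : Submodule ↥A (PowerSeries k) where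
  carrier := {p | (j : ℕ∞) ≤ PowerSeries.order p}
  add_mem' := by
    intro a b ha hb
    exact le_trans (le_min ha hb) (PowerSeries.min_order_le_order_add a b)
  zero_mem' := by
    show (j : ℕ∞) ≤ PowerSeries.order (0 : PowerSeries k)
    rw [PowerSeries.order_zero]; exact le_top
  smul_mem' := by
    intro a p hp
    show (j : ℕ∞) ≤ PowerSeries.order ((a : PowerSeries k) * p)
    rw [PowerSeries.order_mul]
    exact le_trans hp le_add_self

theorem mem_Q {j : ℕ} {p : PowerSeries k} : p ∈ Q A j ↔ (j : ℕ∞) ≤ PowerSeries.order p :=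
  Iff.rfl

theorem Q_anti {i j : ℕ} (h : i ≤ j) : Q A j ≤ Q A i := fun _ hp =>
  le_trans (by exact_mod_cast h) ((mem_Q A).mp hp)

theorem X_pow_mem_Q (j : ℕ) : (X : PowerSeries k) ^ j ∈ Q A j := by
  rw [mem_Q, order_X_pow]

theorem Q_le_one {c : ℕ} (hcA : ∀ h : PowerSeries k, (c : ℕ∞) ≤ order h → h ∈ A) :
    Q A c ≤ 1 := fun p hp => Submodule.mem_one.mpr ⟨⟨p, hcA p hp⟩, rfl⟩

theorem finite_quot (N : ℕ) : Module.Finite k (PowerSeries k ⧸ Q A N) := by
  let τ : PowerSeries k →ₗ[k] (Fin N → k) := LinearMap.pi (fun i => PowerSeries.coeff (i : ℕ))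
  have hker : LinearMap.ker τ = (Q A N).restrictScalars k := by
    ext p
    rw [LinearMap.mem_ker, Submodule.restrictScalars_mem, mem_Q]
    constructor
    · intro h
      refine PowerSeries.nat_le_order _ _ (fun i hi => ?_)
      exact congrFun h ⟨i, hi⟩
    · intro h
      funext i
      exact PowerSeries.coeff_of_lt_order _ (lt_of_lt_of_le (by exact_mod_cast i.2) h)
  let e1 : (PowerSeries k ⧸ LinearMap.ker τ) ≃ₗ[k] LinearMap.range τ := τ.quotKerEquivRange
  let e2 : (PowerSeries k ⧸ LinearMap.ker τ) ≃ₗ[k]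
      (PowerSeries k ⧸ (Q A N).restrictScalars k) := Submodule.quotEquivOfEq _ _ hker
  let e3 : (PowerSeries k ⧸ (Q A N).restrictScalars k) ≃ₗ[k] (PowerSeries k ⧸ Q A N) :=
    Submodule.Quotient.restrictScalarsEquiv k (Q A N)
  exact Module.Finite.equiv (e1.symm.trans (e2.trans e3))

theorem Q_fg (hA : Module.Finite ↥A (PowerSeries k)) (N : ℕ) : (Q A N).FG := by
  haveI := hA
  have h : Q A N = Submodule.map (LinearMap.mulLeft ↥A ((X : PowerSeries k) ^ N)) ⊤ := by
    ext p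
    rw [mem_Q, Submodule.mem_map]
    constructor
    · intro hp
      have hdvd : (X : PowerSeries k) ^ N ∣ p := by
        rw [PowerSeries.X_pow_dvd_iff]
        intro m hm
        exact PowerSeries.coeff_of_lt_order _ (lt_of_lt_of_le (by exact_mod_cast hm) hp)
      obtain ⟨q, hq⟩ := hdvd
      exact ⟨q, Submodule.mem_top, hq.symm⟩
    · rintro ⟨q, -, rfl⟩
      show (N : ℕ∞) ≤ order (X ^ N * q)
      rw [order_mul, order_X_pow]
      exact le_self_add
  rw [h]
  exact (Module.Finite.fg_top).map _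

theorem isNoetherian_ps (hA : Module.Finite ↥A (PowerSeries k)) (c : ℕ)
    (hcA : ∀ h : PowerSeries k, (c : ℕ∞) ≤ order h → h ∈ A) :
    IsNoetherian ↥A (PowerSeries k) := by
  rw [isNoetherian_def]
  intro S
  by_cases hS : S = ⊥
  · rw [hS]; exact Submodule.fg_bot
  obtain ⟨f, hfS, hf0⟩ := Submodule.exists_mem_ne_zero_of_ne_bot hS
  obtain ⟨n, hn⟩ : ∃ n : ℕ, order f = n :=
    ⟨f.order.toNat, (PowerSeries.coe_toNat_order hf0).symm⟩
  have hQS : Q A (n + c) ≤ S := by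
    intro p hp
    obtain ⟨hfn, hflt⟩ := PowerSeries.order_eq_nat.mp hn
    have hdvd : (X : PowerSeries k) ^ n ∣ f := by rw [X_pow_dvd_iff]; exact hflt
    obtain ⟨g, hg⟩ := hdvd
    have hg0 : constantCoeff g ≠ 0 := by
      have h1 : coeff (0 + n) (X ^ n * g) = coeff 0 g := coeff_X_pow_mul g n 0
      rw [zero_add, ← hg, coeff_zero_eq_constantCoeff_apply] at h1
      rw [← h1]; exact hfn
    have hginv : g * g⁻¹ = 1 := PowerSeries.mul_inv_cancel g hg0
    have hdvd2 : (X : PowerSeries k) ^ (n + c) ∣ p := by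
      rw [PowerSeries.X_pow_dvd_iff]
      intro m hm
      exact PowerSeries.coeff_of_lt_order _
        (lt_of_lt_of_le (by exact_mod_cast hm) ((mem_Q A).mp hp))
    obtain ⟨q, hq⟩ := hdvd2
    have ha : (X : PowerSeries k) ^ c * (g⁻¹ * q) ∈ A := by
      apply hcA
      rw [order_mul, order_X_pow]
      exact le_self_add
    have hp' : p = (⟨_, ha⟩ : ↥A) • f := by
      show p = (X : PowerSeries k) ^ c * (g⁻¹ * q) * f
      rw [hg, hq]
      linear_combination (-(X : PowerSeries k) ^ (n + c) * q) * hginv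
    rw [hp']
    exact S.smul_mem _ hfS
  haveI : Module.Finite k (PowerSeries k ⧸ Q A (n + c)) := finite_quot A (n + c)
  haveI : IsNoetherian k (PowerSeries k ⧸ Q A (n + c)) := inferInstance
  haveI : IsNoetherian ↥A (PowerSeries k ⧸ Q A (n + c)) := isNoetherian_of_tower k inferInstance
  apply Submodule.fg_of_fg_map_of_fg_inf_ker (Q A (n + c)).mkQ
  · exact IsNoetherian.noetherian _
  · rw [Submodule.ker_mkQ, inf_eq_right.mpr hQS]
    exact Q_fg A hA (n + c)

theorem isLocalRing_sub (hA : Module.Finite ↥A (PowerSeries k)) : IsLocalRing ↥A := by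
  haveI := hA
  haveI : Algebra.IsIntegral ↥A (PowerSeries k) := inferInstance
  haveI : FaithfulSMul ↥A (PowerSeries k) :=
    (faithfulSMul_iff_algebraMap_injective ↥A (PowerSeries k)).mpr Subtype.val_injective
  exact (algebraMap ↥A (PowerSeries k)).domain_isLocalRing

theorem X_pow_mem_max [IsLocalRing ↥A] {c : ℕ} (hc0 : c ≠ 0)
    (hXc : (X : PowerSeries k) ^ c ∈ A) :
    (⟨X ^ c, hXc⟩ : ↥A) ∈ IsLocalRing.maximalIdeal ↥A := by
  rw [IsLocalRing.mem_maximalIdeal, mem_nonunits_iff]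
  intro hu
  have h1 : IsUnit ((X : PowerSeries k) ^ c) := hu.map (algebraMap ↥A (PowerSeries k))
  rw [isUnit_iff_constantCoeff, map_pow, constantCoeff_X, zero_pow hc0] at h1
  exact not_isUnit_zero h1

theorem krullDimLE_sub (hA : Module.Finite ↥A (PowerSeries k)) : Ring.KrullDimLE 1 ↥A := by
  haveI := hA
  haveI : Algebra.IsIntegral ↥A (PowerSeries k) := inferInstance
  rw [Ring.krullDimLE_one_iff_of_noZeroDivisors]
  intro p hp0 hpp
  have hinj : Function.Injective (algebraMap ↥A (PowerSeries k)) := Subtype.val_injective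
  obtain ⟨q, -, hqp, hq⟩ := Ideal.exists_ideal_over_prime_of_isIntegral p
    (⊥ : Ideal (PowerSeries k)) (by rw [Ideal.comap_bot_of_injective _ hinj]; exact bot_le)
  have hq0 : q ≠ ⊥ := by
    rintro rfl
    apply hp0
    rw [← hq, Ideal.comap_bot_of_injective _ hinj]
  haveI : q.IsMaximal := hqp.isMaximal hq0
  rw [← hq]
  exact Ideal.isMaximal_comap_of_isIntegral_of_isMaximal q

theorem sup_Q_le_iff (M : Submodule ↥A (PowerSeries k)) (j : ℕ) :
    (M ⊔ Q A j ≤ M ⊔ Q A (j + 1)) ↔ ∃ m ∈ M, order m = (j : ℕ∞) := by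
  constructor
  · intro h
    have hX : (X : PowerSeries k) ^ j ∈ M ⊔ Q A (j + 1) :=
      h (Submodule.mem_sup_right (X_pow_mem_Q A j))
    obtain ⟨m, hm, q, hq, hmq⟩ := Submodule.mem_sup.mp hX
    refine ⟨m, hm, ?_⟩
    have hq' : ((j + 1 : ℕ) : ℕ∞) ≤ order q := hq
    have hmeq : m = X ^ j - q := by rw [← hmq]; ring
    rw [order_eq_nat]
    constructor
    · rw [hmeq, map_sub, coeff_X_pow, if_pos rfl,
        coeff_of_lt_order j (lt_of_lt_of_le (by exact_mod_cast Nat.lt_succ_self j) hq'),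
        sub_zero]
      exact one_ne_zero
    · intro i hi
      rw [hmeq, map_sub, coeff_X_pow, if_neg (ne_of_lt hi),
        coeff_of_lt_order i (lt_of_lt_of_le (by exact_mod_cast Nat.lt_succ_of_lt hi) hq'),
        sub_zero]
  · rintro ⟨m, hm, hmo⟩
    refine sup_le le_sup_left ?_
    intro p hp
    have hp' : (j : ℕ∞) ≤ order p := hp
    have h1 := Groth.Agent.Lib.TFCurv.order_sub_smul p m j hp' hmo
    have h2 : p = (coeff j p / coeff j m) • m + (p - (coeff j p / coeff j m) • m) :=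
      (add_sub_cancel _ _).symm
    rw [h2]
    exact Submodule.add_mem _ (Submodule.mem_sup_left (Submodule.smul_of_tower_mem M _ hm))
      (Submodule.mem_sup_right h1)

theorem inf_Q_le_iff (D : Submodule ↥A (PowerSeries k)) (n : ℕ) :
    (D ⊓ Q A n ≤ D ⊓ Q A (n + 1)) ↔ ¬ ∃ u ∈ D, order u = (n : ℕ∞) := by
  constructor
  · rintro h ⟨u, hu, huo⟩
    have h1 : u ∈ Q A (n + 1) :=
      (Submodule.mem_inf.mp (h (Submodule.mem_inf.mpr ⟨hu, le_of_eq huo.symm⟩))).2
    have h2 : ((n + 1 : ℕ) : ℕ∞) ≤ order u := h1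
    rw [huo] at h2
    have h3 : n + 1 ≤ n := by exact_mod_cast h2
    omega
  · intro h u hu
    obtain ⟨hu1, hu2⟩ := Submodule.mem_inf.mp hu
    refine Submodule.mem_inf.mpr ⟨hu1, ?_⟩
    have h1 : (n : ℕ∞) ≤ order u := hu2
    have h2 : (n : ℕ∞) ≠ order u := fun he => h ⟨u, hu1, he.symm⟩
    show ((n + 1 : ℕ) : ℕ∞) ≤ order u
    push_cast
    exact Order.add_one_le_of_lt (lt_of_le_of_ne h1 h2)

set_option synthInstance.maxHeartbeats 400000 in
theorem main19528 (k : Type u) [Field k] (A : Subalgebra k (PowerSeries k))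
    (hA : Module.Finite ↥A (PowerSeries k))
    (hcl : ∀ f : PowerSeries k,
      (∀ n : ℕ, ∃ g ∈ A, (n : ℕ∞) ≤ PowerSeries.order (f - g)) → f ∈ A)
    (Γ : Set ℕ) (hΓ : ∀ n : ℕ, n ∈ Γ ↔ ∃ f ∈ A, PowerSeries.order f = n)
    (c : ℕ) (hc : ∀ n : ℕ, c ≤ n → n ∈ Γ) (hc0 : c ≠ 0) (hc1 : c - 1 ∉ Γ)
    (hG : ¬ LocCoh.IsGorensteinLocalRing ↥A)
    (ω : Submodule ↥A (PowerSeries k)) (hω1 : (1 : PowerSeries k) ∈ ω)
    (hωinj : HasInjectiveDimensionLT (ModuleCat.of ↥A ↥ω) 2)
    (M : Submodule ↥A (PowerSeries k)) (hM1 : (1 : PowerSeries k) ∈ M) (n : ℕ) :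
    (∃ u : PowerSeries k, PowerSeries.order u = n ∧ ∀ m ∈ M, u * m ∈ ω) ↔
      (c ≤ n ∨ ¬ ∃ m ∈ M, PowerSeries.order m = ((c - 1 - n : ℕ) : ℕ∞)) := by
  classical
  have hcA : ∀ h : PowerSeries k, (c : ℕ∞) ≤ order h → h ∈ A :=
    Groth.Agent.Lib.TFCurv.mem_of_le_order A hcl c (fun n hn => (hΓ n).mp (hc n hn))
  have hinj : Function.Injective (algebraMap ↥A (PowerSeries k)) := Subtype.val_injective
  haveI := hA
  haveI hloc : IsLocalRing ↥A := isLocalRing_sub A hA
  haveI hnoeP : IsNoetherian ↥A (PowerSeries k) := isNoetherian_ps A hA c hcA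
  haveI hnoe : IsNoetherianRing ↥A :=
    isNoetherian_of_injective (Algebra.linearMap ↥A (PowerSeries k)) hinj
  haveI hdim : Ring.KrullDimLE 1 ↥A := krullDimLE_sub A hA
  have hXc : (X : PowerSeries k) ^ c ∈ A := hcA _ (by rw [order_X_pow])
  obtain ⟨x₀, hx₀def⟩ : ∃ x₀ : ↥A, x₀ = ⟨X ^ c, hXc⟩ := ⟨_, rfl⟩
  have hx₀v : (x₀ : PowerSeries k) = X ^ c := by rw [hx₀def]
  have hx₀ : x₀ ≠ 0 := by
    intro h
    have h' : (X : PowerSeries k) ^ c = 0 := by rw [← hx₀v, h]; rfl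
    exact pow_ne_zero c PowerSeries.X_ne_zero h'
  have hx₀m : x₀ ∈ IsLocalRing.maximalIdeal ↥A := by
    rw [hx₀def]; exact X_pow_mem_max A hc0 hXc
  have hQc1 : Q A c ≤ 1 := Q_le_one A hcA
  have htoplat : Lat x₀ (⊤ : Submodule ↥A (PowerSeries k)) := by
    refine ⟨Submodule.mem_top, fun p _ => ?_⟩
    have hmem : (X : PowerSeries k) ^ c * p ∈ A :=
      hcA _ (by rw [order_mul, order_X_pow]; exact le_self_add)
    refine ⟨⟨_, hmem⟩, ?_⟩
    show (X : PowerSeries k) ^ c * p = x₀ • p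
    rw [hx₀def]; rfl
  have hlat : ∀ I : Submodule ↥A (PowerSeries k), (1 : PowerSeries k) ∈ I → Lat x₀ I :=
    fun I h1 => lat_of_le htoplat h1 le_top
  have hωlat := hlat ω hω1
  have h11 : (1 : PowerSeries k) ∈ (1 : Submodule ↥A (PowerSeries k)) :=
    Submodule.mem_one.mpr ⟨1, map_one _⟩
  have hflQ : ∀ J I : Submodule ↥A (PowerSeries k), (1 : PowerSeries k) ∈ J →
      (1 : PowerSeries k) ∈ I → IsFiniteLength ↥A (relQ J I) :=
    fun J I hJ hI => isFiniteLength_of_torsion hx₀ _ (relQ_torsion hJ (hlat I hI))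
  have hfl2 : IsFiniteLength ↥A (quotX ω x₀) :=
    isFiniteLength_of_torsion hx₀ _ (quot_torsion ω _)
  have hfg : ω.FG := IsNoetherian.noetherian ω
  have hne : ω ≠ 1 := by
    intro h1
    apply hG
    exact { exists_hasInjectiveDimensionLT := ⟨2, injDim_self_of_eq_one hinj ω h1 hωinj⟩ }
  obtain ⟨ht, hωω⟩ := t_eq_one hinj hx₀ hx₀m ω hωlat hωinj hne (hflQ 1 ω h11 hω1) hfl2 hfg
  have hcoltop : col ω ⊤ = Q A c := by
    rw [col_mul_closed ω ⊤ le_top (fun _ _ _ _ => Submodule.mem_top) hω1 hωω]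
    ext u
    rw [mem_col, mem_Q, ← Groth.Agent.Lib.TFCurv.main16 k A hcl Γ hΓ c hc hc1 u]
    constructor
    · intro h g
      obtain ⟨a, ha⟩ := Submodule.mem_one.mp (h g Submodule.mem_top)
      rw [mul_comm, ← ha]; exact a.2
    · intro h p _
      exact Submodule.mem_one.mpr ⟨⟨u * p, by rw [mul_comm]; exact h p⟩, rfl⟩
  have hcolQ : ∀ j, j ≤ c → col ω (Q A j) = Q A (c - j) := by
    intro j hj
    ext u
    rw [mem_col, mem_Q]
    constructor
    · intro h
      have h1 : u * X ^ j ∈ col ω ⊤ := by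
        refine mem_col.mpr (fun p _ => ?_)
        rw [mul_assoc]
        refine h _ ?_
        show (j : ℕ∞) ≤ order (X ^ j * p)
        rw [order_mul, order_X_pow]; exact le_self_add
      rw [hcoltop, mem_Q, order_mul, order_X_pow] at h1
      exact enat_sub_le h1
    · intro h p hp
      have hmem : u * p ∈ Q A c := by
        show (c : ℕ∞) ≤ order (u * p)
        rw [order_mul]
        calc (c : ℕ∞) = ((c - j : ℕ) : ℕ∞) + (j : ℕ∞) := by norm_cast; omega
          _ ≤ order u + order p := add_le_add h hp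
      exact hωlat.one_le (hQc1 hmem)
  by_cases hcn : c ≤ n
  · refine iff_of_true ⟨X ^ n, order_X_pow n, fun m _ => ?_⟩ (Or.inl hcn)
    have hmem : (X : PowerSeries k) ^ n * m ∈ Q A c := by
      show (c : ℕ∞) ≤ order (X ^ n * m)
      rw [order_mul, order_X_pow]
      exact le_trans (by exact_mod_cast hcn) le_self_add
    exact hωlat.one_le (hQc1 hmem)
  · obtain ⟨j, hj⟩ : ∃ j, j = c - 1 - n := ⟨_, rfl⟩
    have hjc : j + 1 ≤ c := by omega
    have hcj : c - j = n + 1 := by omega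
    have hcj1 : c - (j + 1) = n := by omega
    rw [← hj]
    have h1J : (1 : PowerSeries k) ∈ M ⊔ Q A (j + 1) := Submodule.mem_sup_left hM1
    have h1I : (1 : PowerSeries k) ∈ M ⊔ Q A j := Submodule.mem_sup_left hM1
    have hJI : M ⊔ Q A (j + 1) ≤ M ⊔ Q A j := sup_le_sup_left (Q_anti A (Nat.le_succ j)) M
    have hd := dual_length hinj hx₀ hx₀m ω _ _ hωinj (hlat _ h1J) (hlat _ h1I) hJI
      (hflQ _ _ h1J h1I)
    rw [ht, one_mul] at hd
    have hDj : col ω (M ⊔ Q A j) = col ω M ⊓ Q A (n + 1) := by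
      rw [col_sup, hcolQ j (by omega), hcj]
    have hDj1 : col ω (M ⊔ Q A (j + 1)) = col ω M ⊓ Q A n := by
      rw [col_sup, hcolQ (j + 1) hjc, hcj1]
    have hd' : Module.length ↥A (relQ (col ω M ⊓ Q A (n + 1)) (col ω M ⊓ Q A n)) =
        Module.length ↥A (relQ (M ⊔ Q A (j + 1)) (M ⊔ Q A j)) := by
      rw [← hd]
      exact (relQ_congr_left _ hDj.symm).trans (relQ_congr _ hDj1.symm)
    have hiff : (col ω M ⊓ Q A n ≤ col ω M ⊓ Q A (n + 1)) ↔
        (M ⊔ Q A j ≤ M ⊔ Q A (j + 1)) := by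
      constructor
      · intro h
        have h0 := length_relQ_self_le _ _ h
        rw [hd'] at h0
        exact le_of_length_relQ_eq_zero h0
      · intro h
        have h0 := length_relQ_self_le _ _ h
        rw [← hd'] at h0
        exact le_of_length_relQ_eq_zero h0
    have hL : (∃ u : PowerSeries k, PowerSeries.order u = n ∧ ∀ m ∈ M, u * m ∈ ω) ↔
        ∃ u ∈ col ω M, order u = (n : ℕ∞) :=
      ⟨fun ⟨u, h1, h2⟩ => ⟨u, mem_col.mpr h2, h1⟩, fun ⟨u, h2, h1⟩ => ⟨u, h1, mem_col.mp h2⟩⟩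
    rw [hL, or_iff_right hcn, ← sup_Q_le_iff A M j, ← hiff, inf_Q_le_iff A (col ω M) n, not_not]

theorem main15022 (k : Type u) [Field k] (A : Subalgebra k (PowerSeries k))
    (hA : Module.Finite ↥A (PowerSeries k))
    (hcl : ∀ f : PowerSeries k,
      (∀ n : ℕ, ∃ g ∈ A, (n : ℕ∞) ≤ PowerSeries.order (f - g)) → f ∈ A)
    (Γ : Set ℕ) (hΓ : ∀ n : ℕ, n ∈ Γ ↔ ∃ f ∈ A, PowerSeries.order f = n)
    (c : ℕ) (hc : ∀ n : ℕ, c ≤ n → n ∈ Γ) (hc0 : c ≠ 0) (hc1 : c - 1 ∉ Γ)
    (hG : ¬ LocCoh.IsGorensteinLocalRing ↥A)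
    (ω : Submodule ↥A (PowerSeries k)) (hω1 : (1 : PowerSeries k) ∈ ω)
    (hωinj : HasInjectiveDimensionLT (ModuleCat.of ↥A ↥ω) 2) (n : ℕ) :
    (∃ f ∈ ω, PowerSeries.order f = n) ↔ (c ≤ n ∨ c - 1 - n ∉ Γ) := by
  have h11 : (1 : PowerSeries k) ∈ (1 : Submodule ↥A (PowerSeries k)) :=
    Submodule.mem_one.mpr ⟨1, map_one _⟩
  have h := main19528 k A hA hcl Γ hΓ c hc hc0 hc1 hG ω hω1 hωinj 1 h11 n
  have hL : (∃ f ∈ ω, PowerSeries.order f = n) ↔
      ∃ u : PowerSeries k, PowerSeries.order u = n ∧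
        ∀ m ∈ (1 : Submodule ↥A (PowerSeries k)), u * m ∈ ω := by
    constructor
    · rintro ⟨f, hf, hfo⟩
      refine ⟨f, hfo, fun m hm => ?_⟩
      obtain ⟨a, rfl⟩ := Submodule.mem_one.mp hm
      rw [mul_comm, ← Algebra.smul_def]
      exact ω.smul_mem a hf
    · rintro ⟨u, huo, hu⟩
      refine ⟨u, ?_, huo⟩
      have h1 := hu 1 h11
      rwa [mul_one] at h1
  have hR : (∃ m ∈ (1 : Submodule ↥A (PowerSeries k)),
      PowerSeries.order m = ((c - 1 - n : ℕ) : ℕ∞)) ↔ c - 1 - n ∈ Γ := by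
    rw [hΓ]
    constructor
    · rintro ⟨m, hm, hmo⟩
      obtain ⟨a, rfl⟩ := Submodule.mem_one.mp hm
      exact ⟨a.1, a.2, hmo⟩
    · rintro ⟨f, hf, hfo⟩
      exact ⟨f, Submodule.mem_one.mpr ⟨⟨f, hf⟩, rfl⟩, hfo⟩
  rw [hL, h, hR]

end PS

end Groth.Agent.Lib.CanonDualH1
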