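import Mathlib.LinearAlgebra.FreeModule.PID
import Mathlib.LinearAlgebra.Dual.Lemmas
import Mathlib.LinearAlgebra.LinearIndependent.Lemmas

/-!
# Torsion-free finite modules over a domain

A finite torsion-free module over a domain embeds into a finite free module.
-/

set_option autoImplicit false
universe u v

open Module Submodule Set

namespace Groth.Agent.Lib.TorsionFree_helper9

/-- A finite torsion-free module over a domain embeds into a finite free module: more precisely
there are a nonzero `A : R`, a finite free submodule `N` with `A • M ⊆ N`. -/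
theorem exists_injective_to_fin_fun (R : Type u) [CommRing R] [IsDomain R] (M : Type v)
    [AddCommGroup M] [Module R M] [Module.Finite R M] [Module.IsTorsionFree R M] :
    ∃ (n : ℕ) (f : M →ₗ[R] (Fin n → R)), Function.Injective f := by
  classical
  obtain ⟨m, s, hs⟩ := Module.Finite.exists_fin (R := R) (M := M)
  obtain ⟨I, indepI, hI⟩ := exists_maximal_linearIndepOn R s
  let N : Submodule R M := span R (range (s ∘ (fun x => x) : I → M))
  let sI_basis : Basis I R N := Basis.span indepI
  have exists_a : ∀ i : Fin m, ∃ a : R, a ≠ 0 ∧ a • s i ∈ N := by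
    intro i
    by_cases hi : i ∈ I
    · refine ⟨1, one_ne_zero, ?_⟩
      rw [one_smul]
      exact subset_span (mem_range_self (⟨i, hi⟩ : I))
    · obtain ⟨a, ha, ha'⟩ := hI i hi
      refine ⟨a, ha, ?_⟩
      have : s '' I = range (s ∘ (fun x => x) : I → M) := by
        ext x; simp
      rw [this] at ha'
      exact ha'
  choose a ha ha' using exists_a
  let A := ∏ i, a i
  have hA : A ≠ 0 := by
    rw [Finset.prod_ne_zero_iff]
    intro i _
    exact ha i
  have hmem : ∀ x : M, A • x ∈ N := by
    have hall : (⊤ : Submodule R M) ≤ N.comap (LinearMap.lsmul R M A) := by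
      rw [← hs, span_le]
      rintro _ ⟨i, rfl⟩
      change A • s i ∈ N
      have : A • s i = (∏ j ∈ ({i}ᶜ : Finset (Fin m)), a j) • a i • s i := by
        rw [← mul_smul, ← Fintype.prod_eq_prod_compl_mul i]
      rw [this]
      exact N.smul_mem _ (ha' i)
    intro x
    exact hall (mem_top : x ∈ ⊤)
  let φ : M →ₗ[R] N := (LinearMap.lsmul R M A).codRestrict N hmem
  have hφ : Function.Injective φ := by
    intro x y hxy
    have h1 : A • x = A • y := congrArg Subtype.val hxy
    exact (smul_right_injective M hA) h1
  have hIfin : Finite I := inferInstance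
  let e : I ≃ Fin (Nat.card I) := Finite.equivFin I
  refine ⟨Nat.card I, ((LinearEquiv.funCongrLeft R R e.symm).toLinearMap ∘ₗ
    sI_basis.equivFun.toLinearMap) ∘ₗ φ, ?_⟩
  rw [LinearMap.coe_comp]
  exact ((LinearEquiv.funCongrLeft R R e.symm).injective.comp sI_basis.equivFun.injective).comp hφ

end Groth.Agent.Lib.TorsionFree_helper9
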