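import Mathlib
import Groth.Agent.Lib.CanonDual1_helper1
import Groth.Agent.Lib.TorsionFree_helper9

/-!
# Duality `Ext^i(M, N) ≅ Ext^i(N*, M*)` for finitely generated torsion-free modules, with
respect to a module `W` of injective dimension `≤ 1` whose endomorphisms are homotheties (helper1)
-/

set_option autoImplicit false
set_option maxHeartbeats 1000000

universe u

namespace Groth.Agent.Lib.CanonDualH1

open CategoryTheory

/-! ### generalities -/

section Gen

theorem addEquiv_of_surjective {A₁ A₂ E₁ E₂ : Type*} [AddCommGroup A₁] [AddCommGroup A₂]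
    [AddCommGroup E₁] [AddCommGroup E₂] (Θ₁ : A₁ →+ E₁) (Θ₂ : A₂ →+ E₂)
    (h₁ : Function.Surjective Θ₁) (h₂ : Function.Surjective Θ₂) (β : A₁ ≃+ A₂)
    (hk : ∀ a, Θ₁ a = 0 ↔ Θ₂ (β a) = 0) : Nonempty (E₁ ≃+ E₂) := by
  have h₂' : Function.Surjective (Θ₂.comp β.toAddMonoidHom) := h₂.comp β.surjective
  have hker : Θ₁.ker = (Θ₂.comp β.toAddMonoidHom).ker := by
    ext a
    rw [AddMonoidHom.mem_ker, AddMonoidHom.mem_ker]
    exact hk a
  exact ⟨(QuotientAddGroup.quotientKerEquivOfSurjective Θ₁ h₁).symm.trans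
    ((QuotientAddGroup.quotientAddEquivOfEq hker).trans
      (QuotientAddGroup.quotientKerEquivOfSurjective _ h₂'))⟩

variable {O : Type u} [CommRing O]

/-- a linear map vanishing on the image of `f` factors through `g` when `f, g` is exact and `g` is
surjective. -/
theorem factor_of_exact {A B C W : Type*} [AddCommGroup A] [Module O A] [AddCommGroup B]
    [Module O B] [AddCommGroup C] [Module O C] [AddCommGroup W] [Module O W]
    (f : A →ₗ[O] B) (g : B →ₗ[O] C) (hg : Function.Surjective g) (hex : Function.Exact f g)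
    (ψ : B →ₗ[O] W) (h : ψ.comp f = 0) : ∃ ψ' : C →ₗ[O] W, ψ'.comp g = ψ := by
  have hle : LinearMap.ker g ≤ LinearMap.ker ψ := by
    intro b hb
    obtain ⟨a, rfl⟩ := (hex b).mp hb
    exact LinearMap.congr_fun h a
  refine ⟨((LinearMap.ker g).liftQ ψ hle).comp (g.quotKerEquivOfSurjective hg).symm.toLinearMap,
    LinearMap.ext fun b => ?_⟩
  have h1 : (g.quotKerEquivOfSurjective hg).symm (g b) = Submodule.Quotient.mk b := by
    rw [LinearEquiv.symm_apply_eq]; rfl
  show ((LinearMap.ker g).liftQ ψ hle) ((g.quotKerEquivOfSurjective hg).symm (g b)) = ψ b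
  rw [h1]; rfl

end Gen

/-! ### the duality -/

section DualGen

variable {O : Type u} [CommRing O] [IsDomain O] [IsNoetherianRing O]
variable (W : Type u) [AddCommGroup W] [Module O W] [Module.Finite O W]
  [Module.IsTorsionFree O W]

theorem smul_eq_zero_tf {X : Type*} [AddCommGroup X] [Module O X] [Module.IsTorsionFree O X]
    {c : O} {x : X} (h : c • x = 0) (hx : x ≠ 0) : c = 0 := by
  by_contra hc
  exact hx ((IsRegular.of_ne_zero hc).smul_eq_zero_iff_right.mp h)

/-- `Ext^i(X, W) = 0` for `i ≥ 1` and `X` finitely generated torsion-free. -/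
theorem ext_vanish (hW2 : HasInjectiveDimensionLT (ModuleCat.of O W) 2)
    (X : Type u) [AddCommGroup X] [Module O X] [Module.Finite O X] [Module.IsTorsionFree O X]
    (i : ℕ) (hi : 1 ≤ i) :
    ∀ x : Abelian.Ext.{u} (ModuleCat.of O X) (ModuleCat.of O W) i, x = 0 := by
  haveI := hW2
  intro x
  rcases Nat.lt_or_ge i 2 with h | h
  · have hi1 : i = 1 := by omega
    subst hi1
    obtain ⟨n, g, hg⟩ := Groth.Agent.Lib.TorsionFree_helper9.exists_injective_to_fin_fun O X
    have hS := sesOf_shortExact g hg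
    haveI : Projective (ModuleCat.of O (Fin n → O)) :=
      (IsProjective.iff_projective _).mp inferInstance
    obtain ⟨x₂, hx₂⟩ : ∃ x₂ : Abelian.Ext.{u} (ModuleCat.of O (Fin n → O)) (ModuleCat.of O W) 1,
        (Abelian.Ext.mk₀ (ModuleCat.ofHom g)).comp x₂ (zero_add 1) = x :=
      Abelian.Ext.contravariant_sequence_exact₁ hS (ModuleCat.of O W) x (n₁ := 2) rfl
        (Abelian.Ext.eq_zero_of_hasInjectiveDimensionLT _ 2 le_rfl)
    rw [← hx₂, Abelian.Ext.eq_zero_of_projective x₂, Abelian.Ext.comp_zero]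
  · exact Abelian.Ext.eq_zero_of_hasInjectiveDimensionLT x 2 h

/-- the quotient `B / im f` is torsion-free if it embeds in a torsion-free module. -/
theorem tf_quot_of_exact {A B C : Type*} [AddCommGroup A] [Module O A] [AddCommGroup B]
    [Module O B] [AddCommGroup C] [Module O C] [Module.IsTorsionFree O C]
    (f : A →ₗ[O] B) (g : B →ₗ[O] C) (hex : Function.Exact f g) :
    Module.IsTorsionFree O (B ⧸ LinearMap.range f) := by
  have hle : LinearMap.range f ≤ LinearMap.ker g := by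
    rintro _ ⟨a, rfl⟩
    exact (hex _).mpr ⟨a, rfl⟩
  have hle' : LinearMap.ker g ≤ LinearMap.range f := fun b hb => (hex b).mp hb
  have hinj : Function.Injective ((LinearMap.range f).liftQ g hle) := by
    rw [← LinearMap.ker_eq_bot]
    exact Submodule.ker_liftQ_eq_bot _ _ _ hle'
  exact Function.Injective.moduleIsTorsionFree _ hinj (fun r m => map_smul _ r m)

/-- extension of maps to `W` along an injection whose cokernel is torsion-free. -/
theorem extend_of_exact (hW2 : HasInjectiveDimensionLT (ModuleCat.of O W) 2)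
    {A B C : Type u} [AddCommGroup A] [Module O A] [AddCommGroup B]
    [Module O B] [Module.Finite O B] [AddCommGroup C] [Module O C] [Module.IsTorsionFree O C]
    (f : A →ₗ[O] B) (g : B →ₗ[O] C) (hf : Function.Injective f) (hex : Function.Exact f g)
    (φ : A →ₗ[O] W) : ∃ ψ : B →ₗ[O] W, ψ.comp f = φ := by
  haveI := tf_quot_of_exact f g hex
  exact exists_extension f hf W (ext_vanish W hW2 _ 1 le_rfl) φ

/-- evaluation `M → M**`. -/
abbrev ev (O : Type u) [CommRing O] (W : Type u) [AddCommGroup W] [Module O W]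
    (M : Type u) [AddCommGroup M] [Module O M] :
    M →ₗ[O] ((M →ₗ[O] W) →ₗ[O] W) := LinearMap.applyₗ

theorem ev_fin_bijective (hE : ∀ φ : W →ₗ[O] W, ∃ a : O, ∀ w, φ w = a • w)
    (hW0 : ∃ w : W, w ≠ 0) (r : ℕ) : Function.Bijective (ev O W (Fin r → O)) := by
  classical
  obtain ⟨w₀, hw₀⟩ := hW0
  constructor
  · rw [injective_iff_map_eq_zero]
    intro v hv
    funext i
    have h1 := LinearMap.congr_fun hv ((LinearMap.proj i : (Fin r → O) →ₗ[O] O).smulRight w₀)
    have h2 : v i • w₀ = 0 := h1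
    exact smul_eq_zero_tf h2 hw₀
  · intro Φ
    have hσ : ∀ i : Fin r, ∃ a : O, ∀ w : W,
        Φ ((LinearMap.proj i : (Fin r → O) →ₗ[O] O).smulRight w) = a • w := by
      intro i
      let φ : W →ₗ[O] W :=
        { toFun := fun w => Φ ((LinearMap.proj i : (Fin r → O) →ₗ[O] O).smulRight w)
          map_add' := fun w w' => by
            rw [← map_add]; congr 1
            refine LinearMap.ext fun u => ?_
            show u i • (w + w') = u i • w + u i • w'
            rw [smul_add]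
          map_smul' := fun a w => by
            rw [RingHom.id_apply, ← map_smul]; congr 1
            refine LinearMap.ext fun u => ?_
            show u i • (a • w) = a • (u i • w)
            rw [smul_comm] }
      exact hE φ
    choose a ha using hσ
    refine ⟨a, LinearMap.ext fun g => ?_⟩
    show g a = Φ g
    have hg : g = ∑ i, (LinearMap.proj i : (Fin r → O) →ₗ[O] O).smulRight
        (g fun j => if i = j then 1 else 0) := by
      refine LinearMap.ext fun u => ?_
      rw [LinearMap.sum_apply]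
      simp only [LinearMap.smulRight_apply, LinearMap.proj_apply]
      exact LinearMap.pi_apply_eq_sum_univ g u
    have h1 : g a = ∑ i, a i • g fun j => if i = j then 1 else 0 :=
      LinearMap.pi_apply_eq_sum_univ g a
    have h2 : Φ g = ∑ i, a i • g fun j => if i = j then 1 else 0 := by
      conv_lhs => rw [hg]
      rw [map_sum]
      exact Finset.sum_congr rfl (fun i _ => ha i _)
    rw [h1, h2]

variable (hW2 : HasInjectiveDimensionLT (ModuleCat.of O W) 2)
  (hE : ∀ φ : W →ₗ[O] W, ∃ a : O, ∀ w, φ w = a • w) (hW0 : ∃ w : W, w ≠ 0)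

include hE hW0 in
theorem ev_injective (M : Type u) [AddCommGroup M] [Module O M] [Module.Finite O M]
    [Module.IsTorsionFree O M] : Function.Injective (ev O W M) := by
  obtain ⟨n, ι, hι⟩ := Groth.Agent.Lib.TorsionFree_helper9.exists_injective_to_fin_fun O M
  rw [injective_iff_map_eq_zero]
  intro m hm
  apply hι
  rw [map_zero]
  apply (ev_fin_bijective W hE hW0 n).1
  rw [map_zero]
  refine LinearMap.ext fun h => ?_
  exact LinearMap.congr_fun hm (h.comp ι)

include hW2 hE hW0 in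
theorem ev_surjective (M : Type u) [AddCommGroup M] [Module O M] [Module.Finite O M]
    [Module.IsTorsionFree O M] : Function.Surjective (ev O W M) := by
  intro Φ
  obtain ⟨r, q, hq⟩ := Module.Finite.exists_fin' O M
  let κ : (M →ₗ[O] W) →ₗ[O] ((Fin r → O) →ₗ[O] W) := LinearMap.lcomp O W q
  have hκ : Function.Injective κ := by
    intro g g' h
    refine LinearMap.ext fun m => ?_
    obtain ⟨v, rfl⟩ := hq m
    exact LinearMap.congr_fun h v
  let ρ : ((Fin r → O) →ₗ[O] W) →ₗ[O] (LinearMap.ker q →ₗ[O] W) :=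
    LinearMap.lcomp O W (LinearMap.ker q).subtype
  have hex : Function.Exact κ ρ := by
    intro g
    constructor
    · intro hg
      have hex' : Function.Exact (LinearMap.ker q).subtype q := fun v =>
        ⟨fun hv => ⟨⟨v, hv⟩, rfl⟩, fun ⟨w, hw⟩ => hw ▸ w.2⟩
      obtain ⟨g', hg'⟩ := factor_of_exact (LinearMap.ker q).subtype q hq hex' g hg
      exact ⟨g', hg'⟩
    · rintro ⟨g', rfl⟩
      refine LinearMap.ext fun v => ?_
      show g' (q v.1) = 0
      rw [LinearMap.mem_ker.mp v.2, map_zero]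
  obtain ⟨Φ', hΦ'⟩ := extend_of_exact W hW2 κ ρ hκ hex Φ
  obtain ⟨v, hv⟩ := (ev_fin_bijective W hE hW0 r).2 Φ'
  refine ⟨q v, LinearMap.ext fun g => ?_⟩
  show g (q v) = Φ g
  rw [← hΦ', ← hv]
  rfl

include hW2 hE hW0 in
theorem ev_bijective (M : Type u) [AddCommGroup M] [Module O M] [Module.Finite O M]
    [Module.IsTorsionFree O M] : Function.Bijective (ev O W M) :=
  ⟨ev_injective W hE hW0 M, ev_surjective W hW2 hE hW0 M⟩

/-- the dual of a map, as a linear map in `f`. -/
abbrev Dhom (O : Type u) [CommRing O] (W : Type u) [AddCommGroup W] [Module O W]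
    (M N : Type u) [AddCommGroup M] [Module O M] [AddCommGroup N] [Module O N] :
    (M →ₗ[O] N) →ₗ[O] ((N →ₗ[O] W) →ₗ[O] (M →ₗ[O] W)) :=
  (LinearMap.llcomp O M N W).flip

omit [IsDomain O] [IsNoetherianRing O] [Module.Finite O W] [Module.IsTorsionFree O W] in
theorem Dhom_apply {M N : Type u} [AddCommGroup M] [Module O M] [AddCommGroup N] [Module O N]
    (f : M →ₗ[O] N) (g : N →ₗ[O] W) : Dhom O W M N f g = g.comp f := rfl

include hW2 hE hW0 in
theorem Dhom_bijective (M N : Type u) [AddCommGroup M] [Module O M] [Module.Finite O M]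
    [Module.IsTorsionFree O M] [AddCommGroup N] [Module O N] [Module.Finite O N]
    [Module.IsTorsionFree O N] : Function.Bijective (Dhom O W M N) := by
  constructor
  · rw [injective_iff_map_eq_zero]
    intro f hf
    refine LinearMap.ext fun m => ?_
    show f m = 0
    apply ev_injective W hE hW0 N
    rw [map_zero]
    refine LinearMap.ext fun g => ?_
    have h1 := LinearMap.congr_fun (LinearMap.congr_fun hf g) m
    exact h1
  · intro φ
    let eN : N ≃ₗ[O] ((N →ₗ[O] W) →ₗ[O] W) :=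
      LinearEquiv.ofBijective (ev O W N) (ev_bijective W hW2 hE hW0 N)
    have heN : ∀ (Ψ : (N →ₗ[O] W) →ₗ[O] W) (g : N →ₗ[O] W), g (eN.symm Ψ) = Ψ g := by
      intro Ψ g
      obtain ⟨n, rfl⟩ := eN.surjective Ψ
      rw [LinearEquiv.symm_apply_apply]
      rfl
    let f : M →ₗ[O] N :=
      eN.symm.toLinearMap.comp ((LinearMap.lcomp O W φ).comp (ev O W M))
    refine ⟨f, LinearMap.ext fun g => LinearMap.ext fun m => ?_⟩
    show g (eN.symm ((LinearMap.lcomp O W φ) (ev O W M m))) = (φ g) m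
    rw [heN]
    rfl

/-! ### the dual of a short exact sequence -/

@[reducible] noncomputable def dualSC {M₁ F M : Type u} [AddCommGroup M₁] [Module O M₁]
    [AddCommGroup F] [Module O F] [AddCommGroup M] [Module O M]
    (f : M₁ →ₗ[O] F) (g : F →ₗ[O] M) (h : g.comp f = 0) : ShortComplex (ModuleCat.{u} O) :=
  ShortComplex.mk (ModuleCat.ofHom (LinearMap.lcomp O W g)) (ModuleCat.ofHom (LinearMap.lcomp O W f))
    (by
      rw [← ModuleCat.ofHom_comp]
      have h0 : (LinearMap.lcomp O W f).comp (LinearMap.lcomp O W g) = 0 := by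
        refine LinearMap.ext fun ψ => LinearMap.ext fun x => ?_
        show ψ (g (f x)) = 0
        have := LinearMap.congr_fun h x
        rw [show g (f x) = (g.comp f) x from rfl, this]
        exact map_zero ψ
      rw [h0]; rfl)

include hW2 in
theorem dualSC_shortExact {M₁ F M : Type u} [AddCommGroup M₁] [Module O M₁]
    [AddCommGroup F] [Module O F] [Module.Finite O F] [AddCommGroup M] [Module O M]
    [Module.IsTorsionFree O M]
    (f : M₁ →ₗ[O] F) (g : F →ₗ[O] M) (hf : Function.Injective f) (hg : Function.Surjective g)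
    (hex : Function.Exact f g) (h : g.comp f = 0) : (dualSC W f g h).ShortExact := by
  refine ShortComplex.ShortExact.mk' ?_ ?_ ?_
  · rw [ShortComplex.moduleCat_exact_iff]
    intro ψ hψ
    have hψ' : (ψ : F →ₗ[O] W).comp f = 0 := hψ
    obtain ⟨ψ', hψ''⟩ := factor_of_exact f g hg hex ψ hψ'
    exact ⟨ψ', hψ''⟩
  · rw [ModuleCat.mono_iff_injective]
    intro ψ ψ' hh
    refine LinearMap.ext fun m => ?_
    obtain ⟨v, rfl⟩ := hg m
    exact LinearMap.congr_fun hh v
  · rw [ModuleCat.epi_iff_surjective]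
    intro φ
    obtain ⟨ψ, hψ⟩ := extend_of_exact W hW2 f g hf hex φ
    exact ⟨ψ, hψ⟩

/-! ### `Ext` computations -/

omit [IsDomain O] [IsNoetherianRing O] in
theorem ext_eq_zero_of_iso_right {X Y Y' : ModuleCat.{u} O} (e : Y ≅ Y') (j : ℕ)
    (h : ∀ x : Abelian.Ext.{u} X Y' j, x = 0) : ∀ x : Abelian.Ext.{u} X Y j, x = 0 := by
  intro x
  have key : x = (x.comp (Abelian.Ext.mk₀ e.hom) (add_zero j)).comp (Abelian.Ext.mk₀ e.inv)
      (add_zero j) := by
    rw [Abelian.Ext.comp_assoc_of_third_deg_zero, Abelian.Ext.mk₀_comp_mk₀, e.hom_inv_id,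
      Abelian.Ext.comp_mk₀_id]
  rw [key, h (x.comp (Abelian.Ext.mk₀ e.hom) (add_zero j)), Abelian.Ext.zero_comp]

include hW2 in
theorem ext_dual_fin_vanish (r : ℕ) (X : Type u) [AddCommGroup X] [Module O X]
    [Module.Finite O X] [Module.IsTorsionFree O X] (j : ℕ) (hj : 1 ≤ j) :
    ∀ x : Abelian.Ext.{u} (ModuleCat.of O X) (ModuleCat.of O ((Fin r → O) →ₗ[O] W)) j,
      x = 0 := by
  induction r with
  | zero =>
    intro x
    have h1 : 𝟙 (ModuleCat.of O ((Fin 0 → O) →ₗ[O] W)) = 0 := by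
      apply ModuleCat.hom_ext
      refine LinearMap.ext fun ψ => LinearMap.ext fun v => ?_
      have hv : v = 0 := Subsingleton.elim _ _
      show ψ v = 0
      rw [hv, map_zero]
    rw [← Abelian.Ext.comp_mk₀_id x, h1, Abelian.Ext.mk₀_zero, Abelian.Ext.comp_zero]
  | succ r ih =>
    intro x
    let f : (Fin r → O) →ₗ[O] (Fin (r + 1) → O) :=
      LinearMap.pi (fun i => Fin.cases (motive := fun _ => (Fin r → O) →ₗ[O] O) 0
        (fun j => LinearMap.proj j) i)
    let g : (Fin (r + 1) → O) →ₗ[O] O := LinearMap.proj 0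
    have hf0 : ∀ v, f v 0 = 0 := fun v => rfl
    have hfs : ∀ v (j : Fin r), f v j.succ = v j := fun v j => rfl
    have hf : Function.Injective f := by
      intro v v' hvv
      funext j
      have := congrFun hvv j.succ
      rwa [hfs, hfs] at this
    have hg : Function.Surjective g := fun a => ⟨fun _ => a, rfl⟩
    have hex : Function.Exact f g := by
      intro u
      constructor
      · intro hu
        refine ⟨fun j => u j.succ, ?_⟩
        funext i
        refine Fin.cases ?_ (fun j => ?_) i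
        · rw [hf0]; exact hu.symm
        · rw [hfs]
      · rintro ⟨v, rfl⟩
        exact hf0 v
    have h0 : g.comp f = 0 := LinearMap.ext fun v => hf0 v
    have hS' := dualSC_shortExact W hW2 f g hf hg hex h0
    have hx : x.comp (Abelian.Ext.mk₀ (dualSC W f g h0).g) (add_zero j) = 0 := ih _
    obtain ⟨x₁, hx₁⟩ := Abelian.Ext.covariant_sequence_exact₂ (ModuleCat.of O X) hS' x hx
    have hx₁0 : x₁ = 0 := by
      refine ext_eq_zero_of_iso_right (LinearMap.ringLmapEquivSelf O O W).toModuleIso j ?_ x₁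
      exact ext_vanish W hW2 X j hj
    rw [← hx₁, hx₁0, Abelian.Ext.zero_comp]

omit [IsDomain O] [IsNoetherianRing O] in
theorem ext_one_pres {S : ShortComplex (ModuleCat.{u} O)} (hS : S.ShortExact)
    (Y : ModuleCat.{u} O) (hP : ∀ x : Abelian.Ext.{u} S.X₂ Y 1, x = 0) :
    ∃ Θ : (S.X₁ ⟶ Y) →+ Abelian.Ext.{u} S.X₃ Y 1, Function.Surjective Θ ∧
      ∀ h, Θ h = 0 ↔ ∃ h' : S.X₂ ⟶ Y, S.f ≫ h' = h := by
  refine ⟨AddMonoidHom.mk' (fun h => hS.extClass.comp (Abelian.Ext.mk₀ h) (add_zero 1))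
    (fun a b => by rw [Abelian.Ext.mk₀_add, Abelian.Ext.comp_add]), ?_, ?_⟩
  · intro y
    obtain ⟨x₁, hx₁⟩ := Abelian.Ext.contravariant_sequence_exact₃ hS Y y (hP _)
      (show 1 + 0 = 1 by norm_num)
    obtain ⟨h, rfl⟩ := (Abelian.Ext.mk₀_bijective _ _).2 x₁
    exact ⟨h, hx₁⟩
  · intro h
    show hS.extClass.comp (Abelian.Ext.mk₀ h) (add_zero 1) = 0 ↔ _
    constructor
    · intro h0
      obtain ⟨x₂, hx₂⟩ := Abelian.Ext.contravariant_sequence_exact₁ hS Y (Abelian.Ext.mk₀ h)
        (by norm_num) h0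
      obtain ⟨h', rfl⟩ := (Abelian.Ext.mk₀_bijective _ _).2 x₂
      rw [Abelian.Ext.mk₀_comp_mk₀] at hx₂
      exact ⟨h', (Abelian.Ext.mk₀_bijective _ _).1 hx₂⟩
    · rintro ⟨h', rfl⟩
      rw [← Abelian.Ext.mk₀_comp_mk₀]
      exact hS.extClass_comp_assoc _

omit [IsDomain O] [IsNoetherianRing O] in
theorem ext_one_copres {S : ShortComplex (ModuleCat.{u} O)} (hS : S.ShortExact)
    (X : ModuleCat.{u} O) (hP : ∀ x : Abelian.Ext.{u} X S.X₂ 1, x = 0) :
    ∃ Θ : (X ⟶ S.X₃) →+ Abelian.Ext.{u} X S.X₁ 1, Function.Surjective Θ ∧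
      ∀ h, Θ h = 0 ↔ ∃ h' : X ⟶ S.X₂, h' ≫ S.g = h := by
  refine ⟨AddMonoidHom.mk' (fun h => (Abelian.Ext.mk₀ h).comp hS.extClass (zero_add 1))
    (fun a b => by rw [Abelian.Ext.mk₀_add, Abelian.Ext.add_comp]), ?_, ?_⟩
  · intro y
    obtain ⟨x₃, hx₃⟩ := Abelian.Ext.covariant_sequence_exact₁ X hS y (hP _)
      (show 0 + 1 = 1 by norm_num)
    obtain ⟨h, rfl⟩ := (Abelian.Ext.mk₀_bijective _ _).2 x₃
    exact ⟨h, hx₃⟩
  · intro h
    show (Abelian.Ext.mk₀ h).comp hS.extClass (zero_add 1) = 0 ↔ _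
    constructor
    · intro h0
      obtain ⟨x₂, hx₂⟩ := Abelian.Ext.covariant_sequence_exact₃ X hS (Abelian.Ext.mk₀ h)
        (show 0 + 1 = 1 by norm_num) h0
      obtain ⟨h', rfl⟩ := (Abelian.Ext.mk₀_bijective _ _).2 x₂
      rw [Abelian.Ext.mk₀_comp_mk₀] at hx₂
      exact ⟨h', (Abelian.Ext.mk₀_bijective _ _).1 hx₂⟩
    · rintro ⟨h', rfl⟩
      rw [← Abelian.Ext.mk₀_comp_mk₀, Abelian.Ext.comp_assoc_of_second_deg_zero,
        hS.comp_extClass, Abelian.Ext.comp_zero]

include hW2 hE hW0 in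
theorem exists_DhomCat (M N : Type u) [AddCommGroup M] [Module O M] [Module.Finite O M]
    [Module.IsTorsionFree O M] [AddCommGroup N] [Module O N] [Module.Finite O N]
    [Module.IsTorsionFree O N] :
    ∃ β : (ModuleCat.of O M ⟶ ModuleCat.of O N) ≃+
        (ModuleCat.of O (N →ₗ[O] W) ⟶ ModuleCat.of O (M →ₗ[O] W)),
      ∀ h, β h = ModuleCat.ofHom (Dhom O W M N h.hom) := by
  let β₀ : (M →ₗ[O] N) ≃+ ((N →ₗ[O] W) →ₗ[O] (M →ₗ[O] W)) :=
    AddEquiv.ofBijective (Dhom O W M N).toAddMonoidHom (Dhom_bijective W hW2 hE hW0 M N)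
  refine ⟨(ModuleCat.homAddEquiv (M := ModuleCat.of O M) (N := ModuleCat.of O N)).trans
    (β₀.trans (ModuleCat.homAddEquiv (M := ModuleCat.of O (N →ₗ[O] W))
      (N := ModuleCat.of O (M →ₗ[O] W))).symm), fun h => ?_⟩
  rfl

include hW2 hE hW0 in
theorem dual_ext_zero (M N : Type u) [AddCommGroup M] [Module O M] [Module.Finite O M]
    [Module.IsTorsionFree O M] [AddCommGroup N] [Module O N] [Module.Finite O N]
    [Module.IsTorsionFree O N] :
    Nonempty (Abelian.Ext.{u} (ModuleCat.of O M) (ModuleCat.of O N) 0 ≃+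
      Abelian.Ext.{u} (ModuleCat.of O (N →ₗ[O] W)) (ModuleCat.of O (M →ₗ[O] W)) 0) := by
  obtain ⟨β, -⟩ := exists_DhomCat W hW2 hE hW0 M N
  exact ⟨Abelian.Ext.addEquiv₀.trans (β.trans Abelian.Ext.addEquiv₀.symm)⟩

include hW2 hE hW0 in
theorem dual_ext_one (M N : Type u) [AddCommGroup M] [Module O M] [Module.Finite O M]
    [Module.IsTorsionFree O M] [AddCommGroup N] [Module O N] [Module.Finite O N]
    [Module.IsTorsionFree O N] :
    Nonempty (Abelian.Ext.{u} (ModuleCat.of O M) (ModuleCat.of O N) 1 ≃+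
      Abelian.Ext.{u} (ModuleCat.of O (N →ₗ[O] W)) (ModuleCat.of O (M →ₗ[O] W)) 1) := by
  obtain ⟨r, q, hq⟩ := Module.Finite.exists_fin' O M
  have hS := presSC_shortExact q hq
  haveI : Projective (presSC q).X₂ :=
    (IsProjective.iff_projective (R := O) (Fin r → O)).1 inferInstance
  obtain ⟨Θ, hΘs, hΘk⟩ := ext_one_pres hS (ModuleCat.of O N)
    (fun x => Abelian.Ext.eq_zero_of_projective x)
  have hex : Function.Exact (LinearMap.ker q).subtype q := fun v =>
    ⟨fun hv => ⟨⟨v, hv⟩, rfl⟩, fun ⟨w, hw⟩ => hw ▸ w.2⟩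
  have h0 : q.comp (LinearMap.ker q).subtype = 0 := LinearMap.comp_ker_subtype q
  have hS' := dualSC_shortExact W hW2 (LinearMap.ker q).subtype q
    (LinearMap.ker q).injective_subtype hq hex h0
  obtain ⟨Θ', hΘ's, hΘ'k⟩ := ext_one_copres hS' (ModuleCat.of O (N →ₗ[O] W))
    (ext_dual_fin_vanish W hW2 r (N →ₗ[O] W) 1 le_rfl)
  obtain ⟨β, hβ⟩ := exists_DhomCat W hW2 hE hW0 (LinearMap.ker q) N
  obtain ⟨βF, hβF⟩ := exists_DhomCat W hW2 hE hW0 (Fin r → O) N
  have hcompat : ∀ h' : ModuleCat.of O (Fin r → O) ⟶ ModuleCat.of O N,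
      β ((presSC q).f ≫ h') = βF h' ≫ (dualSC W (LinearMap.ker q).subtype q h0).g := by
    intro h'
    rw [hβ, hβF]
    rfl
  refine addEquiv_of_surjective Θ Θ' hΘs hΘ's β (fun h => ?_)
  rw [hΘk, hΘ'k]
  constructor
  · rintro ⟨h', rfl⟩
    exact ⟨βF h', (hcompat h').symm⟩
  · rintro ⟨k', hk'⟩
    obtain ⟨h', rfl⟩ := βF.surjective k'
    refine ⟨h', β.injective ?_⟩
    rw [hcompat h', hk']

include hW2 in
theorem dual_ext_succ (i : ℕ) (hi : 1 ≤ i)
    (IH : ∀ (M N : Type u) [AddCommGroup M] [Module O M] [Module.Finite O M]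
      [Module.IsTorsionFree O M] [AddCommGroup N] [Module O N] [Module.Finite O N]
      [Module.IsTorsionFree O N],
      Nonempty (Abelian.Ext.{u} (ModuleCat.of O M) (ModuleCat.of O N) i ≃+
        Abelian.Ext.{u} (ModuleCat.of O (N →ₗ[O] W)) (ModuleCat.of O (M →ₗ[O] W)) i))
    (M N : Type u) [AddCommGroup M] [Module O M] [Module.Finite O M]
    [Module.IsTorsionFree O M] [AddCommGroup N] [Module O N] [Module.Finite O N]
    [Module.IsTorsionFree O N] :
    Nonempty (Abelian.Ext.{u} (ModuleCat.of O M) (ModuleCat.of O N) (i + 1) ≃+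
      Abelian.Ext.{u} (ModuleCat.of O (N →ₗ[O] W)) (ModuleCat.of O (M →ₗ[O] W)) (i + 1)) := by
  obtain ⟨i', rfl⟩ : ∃ i', i = i' + 1 := ⟨i - 1, by omega⟩
  obtain ⟨r, q, hq⟩ := Module.Finite.exists_fin' O M
  have hS := presSC_shortExact q hq
  haveI : Projective (presSC q).X₂ :=
    (IsProjective.iff_projective (R := O) (Fin r → O)).1 inferInstance
  have hex : Function.Exact (LinearMap.ker q).subtype q := fun v =>
    ⟨fun hv => ⟨⟨v, hv⟩, rfl⟩, fun ⟨w, hw⟩ => hw ▸ w.2⟩
  have h0 : q.comp (LinearMap.ker q).subtype = 0 := LinearMap.comp_ker_subtype q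
  have hS' := dualSC_shortExact W hW2 (LinearMap.ker q).subtype q
    (LinearMap.ker q).injective_subtype hq hex h0
  -- first variable
  have hadd : 1 + (i' + 1) = i' + 1 + 1 := by omega
  have e1 : Abelian.Ext.{u} (ModuleCat.of O (LinearMap.ker q)) (ModuleCat.of O N) (i' + 1) ≃+
      Abelian.Ext.{u} (ModuleCat.of O M) (ModuleCat.of O N) (i' + 1 + 1) := by
    refine AddEquiv.ofBijective (hS.extClass.precomp (ModuleCat.of O N) hadd) ⟨?_, ?_⟩
    · rw [injective_iff_map_eq_zero]
      intro x hx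
      have hx' : hS.extClass.comp x hadd = 0 := hx
      obtain ⟨x₂, hx₂⟩ := Abelian.Ext.contravariant_sequence_exact₁ hS (ModuleCat.of O N) x
        hadd hx'
      rw [← hx₂, Abelian.Ext.eq_zero_of_projective x₂, Abelian.Ext.comp_zero]
    · intro y
      obtain ⟨x₁, hx₁⟩ := Abelian.Ext.contravariant_sequence_exact₃ hS (ModuleCat.of O N) y
        (Abelian.Ext.eq_zero_of_projective _) hadd
      exact ⟨x₁, hx₁⟩
  obtain ⟨e2⟩ := IH (LinearMap.ker q) N
  have e3 : Abelian.Ext.{u} (ModuleCat.of O (N →ₗ[O] W))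
        (ModuleCat.of O (LinearMap.ker q →ₗ[O] W)) (i' + 1) ≃+
      Abelian.Ext.{u} (ModuleCat.of O (N →ₗ[O] W)) (ModuleCat.of O (M →ₗ[O] W))
        (i' + 1 + 1) := by
    refine AddEquiv.ofBijective
      (hS'.extClass.postcomp (ModuleCat.of O (N →ₗ[O] W)) (rfl : i' + 1 + 1 = i' + 1 + 1))
      ⟨?_, ?_⟩
    · rw [injective_iff_map_eq_zero]
      intro x hx
      have hx' : x.comp hS'.extClass rfl = 0 := hx
      obtain ⟨x₂, hx₂⟩ := Abelian.Ext.covariant_sequence_exact₃ (ModuleCat.of O (N →ₗ[O] W))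
        hS' x rfl hx'
      rw [← hx₂, ext_dual_fin_vanish W hW2 r (N →ₗ[O] W) (i' + 1) (by omega) x₂,
        Abelian.Ext.zero_comp]
    · intro y
      obtain ⟨x₃, hx₃⟩ := Abelian.Ext.covariant_sequence_exact₁ (ModuleCat.of O (N →ₗ[O] W))
        hS' y (ext_dual_fin_vanish W hW2 r (N →ₗ[O] W) (i' + 1 + 1) (by omega) _) rfl
      exact ⟨x₃, hx₃⟩
  exact ⟨e1.symm.trans (e2.trans e3)⟩

include hW2 hE hW0 in
/-- **Duality**: `Ext^i(M, N) ≅ Ext^i(N*, M*)`. -/
theorem dual_ext (i : ℕ) : ∀ (M N : Type u) [AddCommGroup M] [Module O M] [Module.Finite O M]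
    [Module.IsTorsionFree O M] [AddCommGroup N] [Module O N] [Module.Finite O N]
    [Module.IsTorsionFree O N],
    Nonempty (Abelian.Ext.{u} (ModuleCat.of O M) (ModuleCat.of O N) i ≃+
      Abelian.Ext.{u} (ModuleCat.of O (N →ₗ[O] W)) (ModuleCat.of O (M →ₗ[O] W)) i) := by
  induction i with
  | zero =>
    intro M N _ _ _ _ _ _ _ _
    exact dual_ext_zero W hW2 hE hW0 M N
  | succ i ih =>
    intro M N _ _ _ _ _ _ _ _
    rcases Nat.eq_zero_or_pos i with h | h
    · subst h
      exact dual_ext_one W hW2 hE hW0 M N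
    · exact dual_ext_succ W hW2 i h ih M N

end DualGen

end Groth.Agent.Lib.CanonDualH1
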