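import Mathlib
import Groth.Prelude
import Groth.Agent.Lib.CanonDual4_helper1

/-!
# `Ext^i(M, M) ≅ Ext^i(M*, M*)` for the dual with respect to a canonical ideal of a
one-dimensional local domain (helper1)
-/

set_option autoImplicit false
set_option maxHeartbeats 1000000

universe u

namespace Groth.Agent.Lib.CanonDualH1

open CategoryTheory
open Groth.Agent.Lib.TFExtH1 (relQ length_chain length_relQ_self_le)

section T

variable {O V : Type u} [CommRing O] [CommRing V] [IsDomain V] [Algebra O V]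

/-- the type of a nonzero finitely generated module of injective dimension `≤ 1` is nonzero. -/
theorem t_ne_zero [IsLocalRing O] (hinj : Function.Injective (algebraMap O V)) {x₀ : O}
    (hx₀ : x₀ ≠ 0) (hx₀m : x₀ ∈ IsLocalRing.maximalIdeal O) (ω : Submodule O V)
    (hω0 : ω ≠ ⊥) (hω2 : HasInjectiveDimensionLT (ModuleCat.of O ↥ω) 2)
    (hfl2 : IsFiniteLength O (↥ω ⧸ LinearMap.range (x₀ • (LinearMap.id : ↥ω →ₗ[O] ↥ω))))
    (hfg : ω.FG) : tW O ↥ω ≠ 0 := by
  intro h0
  have hE : ∀ x : Abelian.Ext.{u}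
      (ModuleCat.of O (↥ω ⧸ LinearMap.range (x₀ • (LinearMap.id : ↥ω →ₗ[O] ↥ω))))
      (ModuleCat.of O ↥ω) 1, x = 0 := by
    have hlen := (fl_main hω2 x₀ hx₀m (smul_eq_zero_sub hinj hx₀ ω) _ hfl2).2
    rw [h0, zero_mul, Module.length_eq_zero_iff] at hlen
    intro x; exact Subsingleton.elim _ _
  obtain ⟨ψ, hψ⟩ := exists_extension (x₀ • (LinearMap.id : ↥ω →ₗ[O] ↥ω))
    (smulId_injective hinj hx₀ ω) ↥ω hE LinearMap.id
  have htop : (⊤ : Submodule O ↥ω) ≤ IsLocalRing.maximalIdeal O • (⊤ : Submodule O ↥ω) := by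
    intro w _
    have hw : w = x₀ • ψ w := by
      have h := LinearMap.congr_fun hψ w
      calc w = ψ (x₀ • w) := h.symm
        _ = x₀ • ψ w := map_smul _ _ _
    rw [hw]
    exact Submodule.smul_mem_smul hx₀m Submodule.mem_top
  have hbot := Submodule.eq_bot_of_le_smul_of_le_jacobson_bot (IsLocalRing.maximalIdeal O)
    (⊤ : Submodule O ↥ω) ((Submodule.fg_top ω).mpr hfg) htop
    (IsLocalRing.maximalIdeal_le_jacobson ⊥)
  obtain ⟨w, hw, hw0⟩ := Submodule.exists_mem_ne_zero_of_ne_bot hω0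
  have h1mem : (⟨w, hw⟩ : ↥ω) ∈ (⊤ : Submodule O ↥ω) := Submodule.mem_top
  rw [hbot, Submodule.mem_bot] at h1mem
  exact hw0 (congrArg Subtype.val h1mem)

end T

section C

variable (O : Type u) [CommRing O] [IsDomain O] [IsNoetherianRing O] [IsLocalRing O]
  (K : Type u) [Field K] [Algebra O K] [IsFractionRing O K]

theorem exists_x₀ (hdim : ringKrullDim O = 1) (hfin : Module.Finite O ↥(integralClosure O K)) :
    ∃ x₀ : O, x₀ ≠ 0 ∧ x₀ ∈ IsLocalRing.maximalIdeal O ∧
      Lat x₀ (Subalgebra.toSubmodule (integralClosure O K)) := by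
  haveI := hfin
  have hE1 : (1 : K) ∈ Subalgebra.toSubmodule (integralClosure O K) :=
    (integralClosure O K).one_mem
  have hfgE : (LinearMap.range ((integralClosure O K).val.toLinearMap)).FG :=
    Module.Finite.iff_fg.mp inferInstance
  obtain ⟨d, hd0, hdint⟩ := FractionalIdeal.isFractional_of_fg (S := nonZeroDivisors O) hfgE
  obtain ⟨y, hym, hy0⟩ : ∃ y ∈ IsLocalRing.maximalIdeal O, y ≠ 0 := by
    by_contra hcon
    push Not at hcon
    have hbot : IsLocalRing.maximalIdeal O = ⊥ := (Submodule.eq_bot_iff _).mpr hcon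
    have hF : IsField O := IsLocalRing.isField_iff_maximalIdeal_eq.mpr hbot
    rw [ringKrullDim_eq_zero_of_isField hF] at hdim
    exact zero_ne_one hdim
  refine ⟨y * d, mul_ne_zero hy0 (nonZeroDivisors.ne_zero hd0), Ideal.mul_mem_right _ _ hym,
    hE1, fun b hb => ?_⟩
  obtain ⟨a', ha'⟩ := hdint b ⟨⟨b, hb⟩, rfl⟩
  refine ⟨y * a', ?_⟩
  rw [map_mul, ha', mul_smul, Algebra.smul_def y]

/-- `ω : ω = O` for a canonical ideal. -/
theorem col_self_eq_one (hdim : ringKrullDim O = 1)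
    (hfin : Module.Finite O ↥(integralClosure O K)) (ω : Submodule O K) (hω0 : ω ≠ ⊥)
    (hωfg : ω.FG) (hωinj : HasInjectiveDimensionLT (ModuleCat.of O ↥ω) 2) : col ω ω = 1 := by
  classical
  have hinj : Function.Injective (algebraMap O K) := IsFractionRing.injective O K
  haveI : Ring.KrullDimLE 1 O := by
    rw [Ring.krullDimLE_iff]
    exact le_of_eq hdim
  haveI := hfin
  obtain ⟨x₀, hx₀, hx₀m, hElat⟩ := exists_x₀ O K hdim hfin
  have h11 : (1 : K) ∈ (1 : Submodule O K) := Submodule.mem_one.mpr ⟨1, map_one _⟩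
  have h1R : (1 : K) ∈ col ω ω := one_le_col_self ω h11
  have hRE : col ω ω ≤ Subalgebra.toSubmodule (integralClosure O K) := by
    intro z hz
    exact isIntegral_of_smul_mem_submodule ω hω0 hωfg z
      (fun n hn => by rw [smul_eq_mul]; exact mem_col.mp hz n hn)
  have hRlat : Lat x₀ (col ω ω) := lat_of_le hElat h1R hRE
  haveI hfinE : Module.Finite O ↥(Subalgebra.toSubmodule (integralClosure O K)) :=
    Module.Finite.equiv (Subalgebra.toSubmoduleEquiv (integralClosure O K)).symm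
  haveI : IsNoetherian O ↥(Subalgebra.toSubmodule (integralClosure O K)) :=
    isNoetherian_of_isNoetherianRing_of_finite O _
  haveI : Module.Finite O ↥(col ω ω) :=
    Module.Finite.of_injective (Submodule.inclusion hRE) (Submodule.inclusion_injective hRE)
  haveI : Module.Finite O ↥ω := Module.Finite.iff_fg.mpr hωfg
  have hfl : IsFiniteLength O (relQ (1 : Submodule O K) (col ω ω)) :=
    isFiniteLength_of_torsion hx₀ _ (relQ_torsion h11 hRlat)
  have hfl2 : IsFiniteLength O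
      (↥ω ⧸ LinearMap.range (x₀ • (LinearMap.id : ↥ω →ₗ[O] ↥ω))) :=
    isFiniteLength_of_torsion hx₀ _ (quot_torsion ω _)
  have hd := dual_length hinj hx₀ hx₀m ω 1 (col ω ω) hωinj (lat_one x₀) hRlat
    (one_le_col_self ω) hfl
  have hcolR : col ω (col ω ω) = ω := by
    apply le_antisymm (col_le_of_one_mem ω h1R)
    intro w hw
    refine mem_col.mpr (fun r hr => ?_)
    rw [mul_comm]
    exact mem_col.mp hr w hw
  have h0 : Module.length O (relQ (col ω (col ω ω)) (col ω 1)) = 0 := by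
    rw [relQ_congr_left _ hcolR, relQ_congr _ (col_one ω)]
    exact length_relQ_self_le _ _ le_rfl
  rw [h0] at hd
  have ht0 := t_ne_zero hinj hx₀ hx₀m ω hω0 hωinj hfl2 hωfg
  have hlen : Module.length O (relQ (1 : Submodule O K) (col ω ω)) = 0 :=
    (mul_eq_zero.mp hd.symm).resolve_left ht0
  exact le_antisymm (le_of_length_relQ_eq_zero hlen) (one_le_col_self ω)

omit [IsNoetherianRing O] [IsLocalRing O] in
theorem end_eq_mul (ω : Submodule O K) (φ : ↥ω →ₗ[O] ↥ω) :
    ∃ z : K, ∀ w : ↥ω, ((φ w : ↥ω) : K) = z * w := by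
  by_cases h : ∀ w : ↥ω, (w : K) = 0
  · exact ⟨0, fun w => by rw [zero_mul, h (φ w)]⟩
  push Not at h
  obtain ⟨w₀, hw₀⟩ := h
  refine ⟨(φ w₀ : K) / w₀, fun w => ?_⟩
  obtain ⟨a, b, hb, hab⟩ := IsFractionRing.div_surjective (A := O) ((w : K) / w₀)
  have hb0 : algebraMap O K b ≠ 0 := by
    intro h0
    exact nonZeroDivisors.ne_zero hb (IsFractionRing.injective O K (by rw [h0, map_zero]))
  have h1 : algebraMap O K a * (w₀ : K) = (w : K) * algebraMap O K b :=
    (div_eq_div_iff hb0 hw₀).mp hab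
  have h2' : b • w = a • w₀ := by
    apply Subtype.ext
    show b • (w : K) = a • (w₀ : K)
    rw [Algebra.smul_def, Algebra.smul_def, h1, mul_comm]
  have h2 : algebraMap O K b * ((φ w : ↥ω) : K) = algebraMap O K a * ((φ w₀ : ↥ω) : K) := by
    have h3 : b • φ w = a • φ w₀ := by rw [← map_smul, ← map_smul, h2']
    have h4 : b • ((φ w : ↥ω) : K) = a • ((φ w₀ : ↥ω) : K) := congrArg Subtype.val h3
    rwa [Algebra.smul_def, Algebra.smul_def] at h4
  rw [div_mul_eq_mul_div, eq_div_iff hw₀]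
  apply mul_left_cancel₀ hb0
  linear_combination (w₀ : K) * h2 + ((φ w₀ : ↥ω) : K) * h1

theorem end_eq_smul (hdim : ringKrullDim O = 1)
    (hfin : Module.Finite O ↥(integralClosure O K)) (ω : Submodule O K) (hω0 : ω ≠ ⊥)
    (hωfg : ω.FG) (hωinj : HasInjectiveDimensionLT (ModuleCat.of O ↥ω) 2)
    (φ : ↥ω →ₗ[O] ↥ω) : ∃ a : O, ∀ w, φ w = a • w := by
  obtain ⟨z, hz⟩ := end_eq_mul O K ω φ
  have hzc : z ∈ col ω ω := by
    refine mem_col.mpr (fun w hw => ?_)
    rw [← hz ⟨w, hw⟩]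
    exact (φ ⟨w, hw⟩).2
  rw [col_self_eq_one O K hdim hfin ω hω0 hωfg hωinj] at hzc
  obtain ⟨a, ha⟩ := Submodule.mem_one.mp hzc
  refine ⟨a, fun w => Subtype.ext ?_⟩
  show ((φ w : ↥ω) : K) = a • (w : K)
  rw [hz w, Algebra.smul_def, ha]

omit [IsNoetherianRing O] [IsLocalRing O] in
theorem isTorsionFree_sub (ω : Submodule O K) : Module.IsTorsionFree O ↥ω where
  isSMulRegular r hr w₁ w₂ h := by
    have hr0 : algebraMap O K r ≠ 0 := by
      intro h0
      exact hr.ne_zero (IsFractionRing.injective O K (by rw [h0, map_zero]))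
    have h' : r • (w₁ : K) = r • (w₂ : K) := congrArg Subtype.val h
    rw [Algebra.smul_def, Algebra.smul_def] at h'
    exact Subtype.ext (mul_left_cancel₀ hr0 h')

theorem main15014 (hdim : ringKrullDim O = 1)
    (hfin : Module.Finite O ↥(integralClosure O K)) (ω : Submodule O K) (hω0 : ω ≠ ⊥)
    (hωfg : ω.FG) (hωinj : HasInjectiveDimensionLT (ModuleCat.of O ↥ω) 2)
    (M : Type u) [AddCommGroup M] [Module O M] [Module.Finite O M] [NoZeroSMulDivisors O M]
    (i : ℕ) :
    Nonempty (Abelian.Ext (ModuleCat.of O M) (ModuleCat.of O M) i ≃+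
      Abelian.Ext (ModuleCat.of O (M →ₗ[O] ↥ω)) (ModuleCat.of O (M →ₗ[O] ↥ω)) i) := by
  haveI : Module.Finite O ↥ω := Module.Finite.iff_fg.mpr hωfg
  haveI : Module.IsTorsionFree O ↥ω := isTorsionFree_sub O K ω
  have hW0 : ∃ w : ↥ω, w ≠ 0 := by
    obtain ⟨w, hw, hw0⟩ := Submodule.exists_mem_ne_zero_of_ne_bot hω0
    exact ⟨⟨w, hw⟩, fun h => hw0 (congrArg Subtype.val h)⟩
  exact dual_ext ↥ω hωinj (end_eq_smul O K hdim hfin ω hω0 hωfg hωinj) hW0 i M M

end C

end Groth.Agent.Lib.CanonDualH1
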