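import Mathlib
import Groth.Agent.Lib.LocLength_helper9

/-!
# The multiplicities of the points of the closed fibre of a finite free algebra add up to the rank
-/

set_option autoImplicit false

universe u v

namespace Groth.Agent.FibreDegree

open Function IsLocalRing

variable {A B : Type u} [CommRing A] [IsLocalRing A] [CommRing B] [Algebra A B]

section Basic

variable [Module.Finite A B]

lemma comap_eq_maximalIdeal (n : Ideal B) [n.IsMaximal] :
    n.comap (algebraMap A B) = maximalIdeal A := by
  have : Algebra.IsIntegral A B := inferInstance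
  have h := Ideal.isMaximal_comap_of_isIntegral_of_isMaximal (R := A) n
  exact IsLocalRing.eq_maximalIdeal h

lemma map_le (n : Ideal B) [n.IsMaximal] :
    Ideal.map (algebraMap A B) (maximalIdeal A) ≤ n := by
  rw [Ideal.map_le_iff_le_comap, comap_eq_maximalIdeal n]

attribute [local instance] Ideal.Quotient.field in
lemma isArtinianRing_quot :
    IsArtinianRing (B ⧸ Ideal.map (algebraMap A B) (maximalIdeal A)) := by
  have : Module.Finite (A ⧸ maximalIdeal A) (B ⧸ Ideal.map (algebraMap A B) (maximalIdeal A)) :=
    Module.Finite.of_restrictScalars_finite A _ _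
  exact IsArtinianRing.of_finite (A ⧸ maximalIdeal A) _

variable (A) in
include A in
lemma finite_maximalSpectrum : Finite (MaximalSpectrum B) := by
  have hart := isArtinianRing_quot (A := A) (B := B)
  let mB := Ideal.map (algebraMap A B) (maximalIdeal A)
  have hsurj : Surjective (Ideal.Quotient.mk mB) := Ideal.Quotient.mk_surjective
  let ψ : MaximalSpectrum (B ⧸ mB) → MaximalSpectrum B := fun n' =>
    ⟨n'.asIdeal.comap (Ideal.Quotient.mk mB),
      Ideal.comap_isMaximal_of_surjective _ hsurj (H := n'.isMaximal)⟩
  apply Finite.of_surjective ψ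
  intro n
  have hle : mB ≤ n.asIdeal := map_le n.asIdeal
  have hcm : (n.asIdeal.map (Ideal.Quotient.mk mB)).comap (Ideal.Quotient.mk mB) = n.asIdeal := by
    rw [Ideal.comap_map_of_surjective _ hsurj, ← RingHom.ker_eq_comap_bot, Ideal.mk_ker]
    exact sup_eq_left.2 hle
  rcases Ideal.map_eq_top_or_isMaximal_of_surjective _ hsurj n.isMaximal with h | h
  · exfalso
    rw [h, Ideal.comap_top] at hcm
    exact n.isMaximal.ne_top hcm.symm
  · exact ⟨⟨_, h⟩, MaximalSpectrum.ext hcm⟩

end Basic

section Free

variable [Module.Finite A B] [Module.Free A B]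

attribute [local instance] Ideal.Quotient.field in
lemma length_quot_eq_finrank :
    Module.length A (B ⧸ Ideal.map (algebraMap A B) (maximalIdeal A)) =
      (Module.finrank A B : ℕ∞) := by
  have : Module.Finite (A ⧸ maximalIdeal A) (B ⧸ Ideal.map (algebraMap A B) (maximalIdeal A)) :=
    Module.Finite.of_restrictScalars_finite A _ _
  rw [Module.length_eq_of_surjective (S := A) (R := A ⧸ maximalIdeal A)
    (M := B ⧸ Ideal.map (algebraMap A B) (maximalIdeal A)) Ideal.Quotient.mk_surjective,
    Module.length_eq_finrank, IsLocalRing.finrank_quotient_map]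

end Free


section Main

variable [Module.Finite A B] [Module.Free A B]

theorem sum_length_eq_finrank
    (hres : ∀ (n : Ideal B) [n.IsMaximal]
      (h : Ideal.map (algebraMap A B) (maximalIdeal A) ≤ n),
      Bijective (Ideal.quotientMap n (algebraMap A B) (Ideal.map_le_iff_le_comap.mp h))) :
    finsum (fun n : {n : MaximalSpectrum B //
        Ideal.map (algebraMap A B) (maximalIdeal A) ≤ n.asIdeal} =>
      Module.length (Localization.AtPrime n.1.asIdeal)
        (LocalizedModule n.1.asIdeal.primeCompl
          (B ⧸ Ideal.map (algebraMap A B) (maximalIdeal A)))) =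
      (Module.finrank A B : ℕ∞) := by
  have hfinite := finite_maximalSpectrum A (B := B)
  have hlen := length_quot_eq_finrank (A := A) (B := B)
  have hflA : IsFiniteLength A (B ⧸ Ideal.map (algebraMap A B) (maximalIdeal A)) :=
    Module.length_ne_top_iff.1 (by rw [hlen]; exact ENat.natCast_ne_top _)
  obtain ⟨hN, hArt⟩ := isFiniteLength_iff_isNoetherian_isArtinian.1 hflA
  have hflB : IsFiniteLength B (B ⧸ Ideal.map (algebraMap A B) (maximalIdeal A)) :=
    isFiniteLength_iff_isNoetherian_isArtinian.2
      ⟨isNoetherian_of_tower A hN, isArtinian_of_tower A hArt⟩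
  have hmain := Groth.Agent.LocLength.length_eq_finsum (A := A) (B := B)
    (M := B ⧸ Ideal.map (algebraMap A B) (maximalIdeal A))
    (fun n => comap_eq_maximalIdeal n.asIdeal) (fun n => inferInstance) hflB
  have hdeg : ∀ n : MaximalSpectrum B,
      Module.finrank (A ⧸ n.asIdeal.comap (algebraMap A B)) (B ⧸ n.asIdeal) = 1 := by
    intro n
    have hmax : (n.asIdeal.comap (algebraMap A B)).IsMaximal := by
      rw [comap_eq_maximalIdeal]
      infer_instance
    have hbij : Bijective (algebraMap (A ⧸ n.asIdeal.comap (algebraMap A B)) (B ⧸ n.asIdeal)) := by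
      constructor
      · exact Ideal.algebraMap_quotient_injective
      · intro y
        obtain ⟨x, hx⟩ := (hres n.asIdeal (map_le n.asIdeal)).2 y
        obtain ⟨a, rfl⟩ := Ideal.Quotient.mk_surjective x
        exact ⟨Ideal.Quotient.mk _ a, by rw [← hx]; rfl⟩
    let e : (A ⧸ n.asIdeal.comap (algebraMap A B)) ≃ₗ[A ⧸ n.asIdeal.comap (algebraMap A B)]
        (B ⧸ n.asIdeal) :=
      LinearEquiv.ofBijective (Algebra.linearMap _ _) hbij
    rw [← e.finrank_eq, Module.finrank_self]
  rw [hlen] at hmain
  rw [hmain]
  simp only [hdeg, Nat.cast_one, one_mul]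
  exact finsum_comp_equiv (Equiv.subtypeUnivEquiv
    (fun n : MaximalSpectrum B => map_le (A := A) n.asIdeal))
    (f := fun n : MaximalSpectrum B => Module.length (Localization.AtPrime n.asIdeal)
      (LocalizedModule n.asIdeal.primeCompl
        (B ⧸ Ideal.map (algebraMap A B) (maximalIdeal A))))

end Main

end Groth.Agent.FibreDegree
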