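import Mathlib
import Groth.Agent.Lib.MultDim1_helper9
import Groth.Agent.Lib.FibreDegree_helper9

/-!
# Torsion-free modules over a one-dimensional local domain with finite normalization:
number of generators `≤ rank · multiplicity`
-/

set_option autoImplicit false

universe u v

namespace Groth.Agent.TFCurvGen

open Function IsLocalRing Groth.Agent.MultDim1 Groth.Agent.HerbrandDim1
open scoped Pointwise

section Avoid

variable {O : Type u} [CommRing O] [IsLocalRing O]

/-- Over a local ring with infinite residue field a module is not a finite union of proper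
submodules. -/
lemma exists_notMem_of_infinite [Infinite (O ⧸ maximalIdeal O)] {U : Type v} [AddCommGroup U]
    [Module O U] (s : Finset (Submodule O U)) (hs : ∀ N ∈ s, N ≠ ⊤) :
    ∃ u : U, ∀ N ∈ s, u ∉ N := by
  by_contra hcon
  push Not at hcon
  have hcov : ⋃ N ∈ s, ((id N : Submodule O U) : Set U) = Set.univ := by
    apply Set.eq_univ_of_forall
    intro u
    obtain ⟨N, hN, hu⟩ := hcon u
    exact Set.mem_biUnion hN hu
  obtain ⟨N, hN, hfi⟩ := Submodule.exists_finiteIndex_of_cover (p := id) hcov
  have hfi' : N.toAddSubgroup.FiniteIndex := hfi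
  have hfin : Finite (U ⧸ N) := AddSubgroup.finite_quotient_of_finiteIndex
  obtain ⟨u, hu⟩ : ∃ u, u ∉ N := by
    by_contra h
    push Not at h
    exact hs N hN (eq_top_iff.2 fun x _ => h x)
  let f : O ⧸ maximalIdeal O → U ⧸ N := fun c => Submodule.Quotient.mk (Quotient.out c • u)
  have hf : Function.Injective f := by
    intro c c' h
    have h1 : (Quotient.out c - Quotient.out c') • u ∈ N := by
      rw [sub_smul]
      exact (Submodule.Quotient.eq N).1 h
    have h2 : Quotient.out c - Quotient.out c' ∈ maximalIdeal O := by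
      by_contra hnm
      have hunit : IsUnit (Quotient.out c - Quotient.out c') := by
        by_contra hnu
        exact hnm ((IsLocalRing.mem_maximalIdeal _).2 hnu)
      obtain ⟨w, hw⟩ := hunit
      apply hu
      have := N.smul_mem (↑w⁻¹ : O) h1
      rwa [← hw, smul_smul, Units.inv_mul, one_smul] at this
    have h3 : Ideal.Quotient.mk (maximalIdeal O) (Quotient.out c) =
        Ideal.Quotient.mk (maximalIdeal O) (Quotient.out c') := Ideal.Quotient.eq.2 h2
    rwa [Ideal.Quotient.mk_out, Ideal.Quotient.mk_out] at h3
  have : Finite (O ⧸ maximalIdeal O) := Finite.of_injective f hf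
  exact not_finite (O ⧸ maximalIdeal O)

end Avoid

section Closure

variable {O : Type u} [CommRing O] [IsDomain O] [IsNoetherianRing O] [IsLocalRing O]
  [Ring.KrullDimLE 1 O] (K : Type u) [Field K] [Algebra O K] [IsFractionRing O K]
  [Module.Finite O ↥(integralClosure O K)]

lemma isPrincipalIdealRing_integralClosure : IsPrincipalIdealRing ↥(integralClosure O K) := by
  have hfr : IsFractionRing (integralClosure O K) K :=
    integralClosure.isFractionRing_of_finite_extension K K
  have hic : IsIntegrallyClosed (integralClosure O K) :=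
    integralClosure.isIntegrallyClosedOfFiniteExtension K
  have hno : IsNoetherian O ↥(integralClosure O K) := isNoetherian_of_isNoetherianRing_of_finite O _
  have hnoeth : IsNoetherianRing ↥(integralClosure O K) := isNoetherian_of_tower O hno
  have hdim1 : Ring.DimensionLEOne O := ⟨fun hp hpr => hpr.isMaximal_of_ne_bot hp⟩
  have hdim : Ring.DimensionLEOne ↥(integralClosure O K) := inferInstance
  have hded : IsDedekindDomain ↥(integralClosure O K) :=
    (isDedekindDomain_iff _ K).2 ⟨inferInstance, hnoeth, hdim,
      fun {x} hx => (isIntegrallyClosed_iff K).1 hic hx⟩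
  have hfinmax : Finite (MaximalSpectrum ↥(integralClosure O K)) :=
    Groth.Agent.FibreDegree.finite_maximalSpectrum O
  apply IsPrincipalIdealRing.of_finite_primes
  have hsub : {I : Ideal ↥(integralClosure O K) | I.IsPrime} ⊆
      insert ⊥ (Set.range MaximalSpectrum.asIdeal) := by
    intro I hI
    by_cases h : I = ⊥
    · left
      exact h
    · right
      exact ⟨⟨I, Ideal.IsPrime.isMaximal hI h⟩, rfl⟩
  exact Set.Finite.subset ((Set.finite_range _).insert ⊥) hsub

end Closure

section Gen

variable {O : Type u} [CommRing O] [IsDomain O] [IsNoetherianRing O] [IsLocalRing O]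
  [Ring.KrullDimLE 1 O] (K : Type u) [Field K] [Algebra O K] [IsFractionRing O K]
  [Module.Finite O ↥(integralClosure O K)] [Infinite (O ⧸ maximalIdeal O)]

/-- There is `x ∈ 𝔪` generating `𝔪 Õ`. -/
lemma exists_gen (hm : maximalIdeal O ≠ ⊥) : ∃ x ∈ maximalIdeal O, x ≠ 0 ∧
    (maximalIdeal O) • (⊤ : Submodule O ↥(integralClosure O K)) =
      x • (⊤ : Submodule O ↥(integralClosure O K)) := by
  have hpid := isPrincipalIdealRing_integralClosure (O := O) K
  have hfinmax : Finite (MaximalSpectrum ↥(integralClosure O K)) :=
    Groth.Agent.FibreDegree.finite_maximalSpectrum O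
  have hinj : Function.Injective (algebraMap O ↥(integralClosure O K)) :=
    FaithfulSMul.algebraMap_injective O _
  obtain ⟨y, hy⟩ : ∃ y, Ideal.map (algebraMap O ↥(integralClosure O K)) (maximalIdeal O) =
      Ideal.span {y} := (hpid.principal _).principal
  have hF : ∀ a ∈ maximalIdeal O, ∃ w : ↥(integralClosure O K),
      algebraMap O ↥(integralClosure O K) a = y * w := by
    intro a ha
    have h1 := Ideal.mem_map_of_mem (algebraMap O ↥(integralClosure O K)) ha
    rw [hy, Ideal.mem_span_singleton'] at h1
    obtain ⟨w, hw⟩ := h1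
    exact ⟨w, by rw [← hw, mul_comm]⟩
  have hy0 : y ≠ 0 := by
    rintro rfl
    apply hm
    rw [eq_bot_iff]
    intro a ha
    obtain ⟨w, hw⟩ := hF a ha
    rw [zero_mul] at hw
    exact (Submodule.mem_bot O).2 (hinj (by rw [hw, map_zero]))
  let U : Submodule O ↥(integralClosure O K) :=
    (Submodule.map (Algebra.linearMap O ↥(integralClosure O K)) (maximalIdeal O)).comap
      (LinearMap.mulLeft O y)
  have memU : ∀ u : ↥(integralClosure O K), u ∈ U ↔
      ∃ a ∈ maximalIdeal O, algebraMap O ↥(integralClosure O K) a = y * u := by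
    intro u
    simp only [U, Submodule.mem_comap, LinearMap.mulLeft_apply, Submodule.mem_map,
      Algebra.linearMap_apply]
  let Nn : MaximalSpectrum ↥(integralClosure O K) → Submodule O U := fun n =>
    (n.asIdeal.restrictScalars O).comap U.subtype
  have hNn : ∀ n, Nn n ≠ ⊤ := by
    intro n htop
    have hall : ∀ u ∈ U, u ∈ n.asIdeal := by
      intro u hu
      have : (⟨u, hu⟩ : U) ∈ Nn n := by rw [htop]; trivial
      exact this
    have hle : Ideal.map (algebraMap O ↥(integralClosure O K)) (maximalIdeal O) ≤
        Ideal.span {y} * n.asIdeal := by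
      rw [Ideal.map_le_iff_le_comap]
      intro a ha
      obtain ⟨w, hw⟩ := hF a ha
      rw [Ideal.mem_comap, hw]
      exact Ideal.mul_mem_mul (Ideal.mem_span_singleton_self y)
        (hall w ((memU w).2 ⟨a, ha, hw⟩))
    have hymem : y ∈ Ideal.span {y} * n.asIdeal := by
      apply hle
      rw [hy]
      exact Ideal.mem_span_singleton_self y
    obtain ⟨z, hz, hyz⟩ := Ideal.mem_span_singleton_mul.1 hymem
    have hz1 : z = 1 := by
      have : y * z = y * 1 := by rw [hyz, mul_one]
      exact mul_left_cancel₀ hy0 this
    rw [hz1] at hz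
    exact n.isMaximal.ne_top ((Ideal.eq_top_iff_one _).2 hz)
  classical
  letI : Fintype (MaximalSpectrum ↥(integralClosure O K)) := Fintype.ofFinite _
  obtain ⟨u, hu⟩ := exists_notMem_of_infinite (O := O) (Finset.univ.image Nn) (by
    intro N hN
    obtain ⟨n, _, rfl⟩ := Finset.mem_image.1 hN
    exact hNn n)
  have hu' : ∀ n : MaximalSpectrum ↥(integralClosure O K), (u : ↥(integralClosure O K)) ∉ n.asIdeal := by
    intro n hmem
    exact hu (Nn n) (Finset.mem_image.2 ⟨n, Finset.mem_univ _, rfl⟩) hmem
  have hunit : IsUnit (u : ↥(integralClosure O K)) := by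
    by_contra hnu
    obtain ⟨I, hI, huI⟩ := exists_max_ideal_of_mem_nonunits (mem_nonunits_iff.2 hnu)
    exact hu' ⟨I, hI⟩ huI
  obtain ⟨x, hxm, hxe⟩ := (memU u).1 u.2
  obtain ⟨v, hv⟩ := hunit.exists_right_inv
  refine ⟨x, hxm, ?_, ?_⟩
  · rintro rfl
    rw [map_zero] at hxe
    rcases mul_eq_zero.1 hxe.symm with h | h
    · exact hy0 h
    · rw [h, zero_mul] at hv
      exact zero_ne_one hv
  · apply le_antisymm
    · rw [Submodule.smul_le]
      intro a ha z _
      obtain ⟨w, hw⟩ := hF a ha
      rw [Submodule.mem_smul_pointwise_iff_exists]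
      refine ⟨v * w * z, trivial, ?_⟩
      rw [Algebra.smul_def, Algebra.smul_def, hw, hxe]
      calc y * ↑u * (v * w * z) = y * (↑u * v) * (w * z) := by ring
        _ = y * w * z := by rw [hv]; ring
    · intro t ht
      obtain ⟨b, _, rfl⟩ := (Submodule.mem_smul_pointwise_iff_exists _ _ _).1 ht
      exact Submodule.smul_mem_smul hxm trivial

end Gen

section Domain

variable {O : Type u} [CommRing O] [IsDomain O]

lemma Smin_domain : Smin O = {⟨⊥, Ideal.isPrime_bot⟩} := by
  ext p
  simp only [Smin, Set.mem_setOf_eq, IsDomain.minimalPrimes_eq_singleton_bot,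
    Set.mem_singleton_iff]
  constructor
  · intro h
    exact PrimeSpectrum.ext h
  · intro h
    rw [h]

lemma Rsum_domain (x : O) (N : Type v) [AddCommGroup N] [Module O N] :
    Rsum x N = lam (⊥ : Ideal O) N *
      Module.length O (O ⧸ ((⊥ : Ideal O) ⊔ Ideal.span {x})) := by
  unfold Rsum
  rw [Smin_domain, finsum_mem_singleton]

/-- The length of the localization at the zero ideal is the rank. -/
lemma lam_bot_eq_rank (N : Type u) [AddCommGroup N] [Module O N] :
    lam (⊥ : Ideal O) N = (Module.rank O N).toENat := by
  have hfr : IsFractionRing O (Localization.AtPrime (⊥ : Ideal O)) := by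
    simpa [Ideal.primeCompl_bot] using Localization.isLocalization (M := (⊥ : Ideal O).primeCompl)
  letI : Field (Localization.AtPrime (⊥ : Ideal O)) := IsFractionRing.toField O
  have h1 : Module.length (Localization.AtPrime (⊥ : Ideal O))
      (LocalizedModule (⊥ : Ideal O).primeCompl N) =
      (Module.rank (Localization.AtPrime (⊥ : Ideal O))
        (LocalizedModule (⊥ : Ideal O).primeCompl N)).toENat :=
    Module.length_eq_rank _ _
  have hp : (⊥ : Ideal O).primeCompl ≤ nonZeroDivisors O := by
    rw [Ideal.primeCompl_bot]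
  have h2 : Module.rank (Localization.AtPrime (⊥ : Ideal O))
      (LocalizedModule (⊥ : Ideal O).primeCompl N) =
      Module.rank O (LocalizedModule (⊥ : Ideal O).primeCompl N) :=
    IsLocalization.rank_eq _ (⊥ : Ideal O).primeCompl hp
  have h3 : Module.rank O (LocalizedModule (⊥ : Ideal O).primeCompl N) = Module.rank O N :=
    IsLocalizedModule.rank_eq (⊥ : Ideal O).primeCompl hp
      (LocalizedModule.mkLinearMap (⊥ : Ideal O).primeCompl N)
  show Module.length (Localization.AtPrime (⊥ : Ideal O))
      (LocalizedModule (⊥ : Ideal O).primeCompl N) = _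
  rw [h1, h2, h3]

variable (K : Type u) [Field K] [Algebra O K] [IsFractionRing O K]

lemma rank_tensor_eq (N : Type u) [AddCommGroup N] [Module O N] :
    Module.rank K (TensorProduct O K N) = Module.rank O N := by
  have h2 : Module.rank K (TensorProduct O K N) = Module.rank O (TensorProduct O K N) :=
    IsLocalization.rank_eq K (nonZeroDivisors O) le_rfl
  have h3 : Module.rank O (TensorProduct O K N) = Module.rank O N :=
    IsLocalizedModule.rank_eq (nonZeroDivisors O) le_rfl (TensorProduct.mk O K N 1)
  rw [h2, h3]

lemma lam_bot_eq_finrank (N : Type u) [AddCommGroup N] [Module O N] [Module.Finite O N] :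
    lam (⊥ : Ideal O) N = (Module.finrank K (TensorProduct O K N) : ℕ∞) := by
  rw [lam_bot_eq_rank, ← rank_tensor_eq K N, ← Module.finrank_eq_rank K (TensorProduct O K N)]
  simp

end Domain

section Main

variable {O : Type u} [CommRing O] [IsDomain O] [IsNoetherianRing O] [IsLocalRing O]
  (K : Type u) [Field K] [Algebra O K] [IsFractionRing O K]

lemma rank_integralClosure : Module.rank O ↥(integralClosure O K) = 1 := by
  apply le_antisymm
  · have h1 : Module.rank O ↥(integralClosure O K) ≤ Module.rank O K :=
      LinearMap.rank_le_of_injective (integralClosure O K).val.toLinearMap Subtype.val_injective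
    have h2 : Module.rank K K = Module.rank O K :=
      IsLocalization.rank_eq K (nonZeroDivisors O) le_rfl
    rw [← h2, Module.rank_self] at h1
    exact h1
  · have h1 : Module.rank O O ≤ Module.rank O ↥(integralClosure O K) :=
      LinearMap.rank_le_of_injective (Algebra.linearMap O ↥(integralClosure O K))
        (FaithfulSMul.algebraMap_injective O _)
    rwa [Module.rank_self] at h1

attribute [local instance] Ideal.Quotient.field in
/-- Number of generators is at most the length of `M/xM` for `x ∈ 𝔪`. -/
lemma spanFinrank_le_length (M : Type u) [AddCommGroup M] [Module O M] [Module.Finite O M]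
    {x : O} (hx : x ∈ maximalIdeal O) :
    ((⊤ : Submodule O M).spanFinrank : ℕ∞) ≤ Module.length O (QuotSMulTop x M) := by
  have fg : (⊤ : Submodule O M).FG := Module.Finite.fg_top
  rw [IsLocalRing.spanFinrank_eq_finrank_quotient (⊤ : Submodule O M) fg]
  have hfin : Module.Finite (O ⧸ maximalIdeal O)
      (↥(⊤ : Submodule O M) ⧸ maximalIdeal O • (⊤ : Submodule O ↥(⊤ : Submodule O M))) :=
    Module.Finite.of_restrictScalars_finite O _ _
  rw [← Module.length_eq_finrank, ← Module.length_eq_of_surjective (S := O)
    (Ideal.Quotient.mk_surjective (I := maximalIdeal O))]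
  let g : M →ₗ[O] ↥(⊤ : Submodule O M) ⧸ maximalIdeal O • (⊤ : Submodule O ↥(⊤ : Submodule O M)) :=
    (Submodule.mkQ _).comp (Submodule.topEquiv (R := O) (M := M)).symm.toLinearMap
  have hg : Surjective g :=
    (Submodule.mkQ_surjective _).comp (Submodule.topEquiv (R := O) (M := M)).symm.surjective
  have hker : x • (⊤ : Submodule O M) ≤ LinearMap.ker g := by
    intro t ht
    obtain ⟨b, _, rfl⟩ := (Submodule.mem_smul_pointwise_iff_exists _ _ _).1 ht
    rw [LinearMap.mem_ker, map_smul]
    show x • Submodule.Quotient.mk _ = 0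
    rw [← Submodule.Quotient.mk_smul, Submodule.Quotient.mk_eq_zero]
    exact Submodule.smul_mem_smul hx trivial
  let g' : QuotSMulTop x M →ₗ[O]
      ↥(⊤ : Submodule O M) ⧸ maximalIdeal O • (⊤ : Submodule O ↥(⊤ : Submodule O M)) :=
    Submodule.liftQ _ g hker
  have hg' : Surjective g' := by
    intro t
    obtain ⟨b, rfl⟩ := hg t
    exact ⟨Submodule.Quotient.mk b, rfl⟩
  exact Module.length_le_of_surjective g' hg'

theorem main (hdim : ringKrullDim O = 1) [Infinite (O ⧸ maximalIdeal O)]
    (hfin : Module.Finite O ↥(integralClosure O K)) (M : Type u) [AddCommGroup M] [Module O M]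
    [Module.Finite O M] [NoZeroSMulDivisors O M] (n : ℕ)
    (hn : Module.finrank K (TensorProduct O K M) = n) :
    ((⊤ : Submodule O M).spanFinrank : ℕ∞) ≤ (n : ℕ∞) *
      Module.length O (↥(integralClosure O K) ⧸
        (maximalIdeal O) • (⊤ : Submodule O ↥(integralClosure O K))) := by
  have : Ring.KrullDimLE 1 O := Ring.krullDimLE_iff.2 hdim.le
  have hm : maximalIdeal O ≠ ⊥ := by
    intro h
    have hf : IsField O := IsLocalRing.isField_iff_maximalIdeal_eq.2 h
    have := ringKrullDim_eq_zero_of_isField hf
    rw [hdim] at this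
    exact one_ne_zero this
  obtain ⟨x, hxm, hx0, hxe⟩ := exists_gen (O := O) K hm
  have ha : ∀ p ∈ minimalPrimes O, x ∉ p := by
    intro p hp
    rw [IsDomain.minimalPrimes_eq_singleton_bot, Set.mem_singleton_iff] at hp
    rw [hp]
    exact hx0
  -- kernel of multiplication by `x` vanishes on torsion-free modules
  have hker : ∀ (N : Type u) [AddCommGroup N] [Module O N] (_ : ∀ a : N, x • a = 0 → a = 0),
      Module.length O (LinearMap.ker (mulT x N)) = 0 := by
    intro N _ _ hN
    have : Subsingleton (LinearMap.ker (mulT x N)) := by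
      refine ⟨fun a b => ?_⟩
      have ha0 : (a : N) = 0 := by
        have := a.2
        rw [LinearMap.mem_ker] at this
        exact hN _ this
      have hb0 : (b : N) = 0 := by
        have := b.2
        rw [LinearMap.mem_ker] at this
        exact hN _ this
      exact Subtype.ext (ha0.trans hb0.symm)
    exact Module.length_eq_zero
  have hkM : ∀ a : M, x • a = 0 → a = 0 := fun a h => (smul_eq_zero.1 h).resolve_left hx0
  have hkO : ∀ a : ↥(integralClosure O K), x • a = 0 → a = 0 := by
    intro a h
    rw [Algebra.smul_def] at h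
    rcases mul_eq_zero.1 h with h | h
    · exfalso
      apply hx0
      exact FaithfulSMul.algebraMap_injective O ↥(integralClosure O K) (by rw [h, map_zero])
    · exact h
  have hM := formula_of_finite ha M
  have hOt := formula_of_finite ha ↥(integralClosure O K)
  unfold Formula at hM hOt
  rw [hker M hkM, zero_add, Rsum_domain, lam_bot_eq_finrank K M, hn] at hM
  rw [hker ↥(integralClosure O K) hkO, zero_add, Rsum_domain, lam_bot_eq_rank,
    rank_integralClosure K] at hOt
  rw [hxe]
  have hOt' : Module.length O (↥(integralClosure O K) ⧸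
      x • (⊤ : Submodule O ↥(integralClosure O K))) =
      Module.length O (O ⧸ ((⊥ : Ideal O) ⊔ Ideal.span {x})) := by
    rw [map_one, one_mul] at hOt
    exact hOt
  rw [hOt', ← hM]
  exact spanFinrank_le_length M hxm

end Main

end Groth.Agent.TFCurvGen
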