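import Mathlib
import Groth.Agent.Lib.TFCurvGen_helper9

/-!
# Torsion-free modules over a one-dimensional local domain with finite normalization
sit between `O^n` and `Õ^n` (helper1)

* `det_span_eq_top`: determinants of tuples from a spanning set generate the unit ideal;
* `exists_isUnit_det`: general position over a local ring with infinite residue field and a
  semilocal algebra: a tuple from an `O`-submodule spanning `A^n` with unit determinant;
* `main15009`.
-/

set_option autoImplicit false
universe u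

namespace Groth.Agent.Lib.TFLatticeH1

open scoped Matrix TensorProduct

theorem det_span_eq_top {A : Type*} [CommRing A] {n : ℕ} (G : Set (Fin n → A))
    (hG : Submodule.span A G = ⊤) :
    Ideal.span {d : A | ∃ v : Fin n → Fin n → A, (∀ i, v i ∈ G) ∧ d = (Matrix.of v).det} = ⊤ := by
  obtain ⟨D, hD⟩ : ∃ D : Ideal A, D = Ideal.span {d : A | ∃ v : Fin n → Fin n → A,
      (∀ i, v i ∈ G) ∧ d = (Matrix.of v).det} := ⟨_, rfl⟩
  rw [← hD]
  have key : ∀ j : ℕ, ∀ B : Matrix (Fin n) (Fin n) A,
      (∀ i : Fin n, j ≤ i.val → B i ∈ G) → B.det ∈ D := by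
    intro j
    induction j with
    | zero =>
      intro B hB
      rw [hD]
      exact Ideal.subset_span ⟨B, fun i => hB i (Nat.zero_le _), rfl⟩
    | succ j ih =>
      intro B hB
      by_cases hj : j < n
      · let S : Submodule A (Fin n → A) :=
          { carrier := {x | (B.updateRow ⟨j, hj⟩ x).det ∈ D}
            add_mem' := by
              intro x y hx hy
              simp only [Set.mem_setOf_eq] at hx hy ⊢
              rw [Matrix.det_updateRow_add]
              exact D.add_mem hx hy
            zero_mem' := by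
              simp only [Set.mem_setOf_eq]
              have h := Matrix.det_updateRow_smul B ⟨j, hj⟩ (0 : A) 0
              rw [zero_smul, zero_mul] at h
              rw [h]
              exact D.zero_mem
            smul_mem' := by
              intro c x hx
              simp only [Set.mem_setOf_eq] at hx ⊢
              rw [Matrix.det_updateRow_smul]
              exact D.mul_mem_left c hx }
        have hS : Submodule.span A G ≤ S := by
          rw [Submodule.span_le]
          intro x hx
          show (B.updateRow ⟨j, hj⟩ x).det ∈ D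
          apply ih
          intro i hi
          by_cases hij : i = ⟨j, hj⟩
          · rw [hij, Matrix.updateRow_self]
            exact hx
          · rw [Matrix.updateRow_ne hij]
            apply hB
            have h1 : i.val ≠ j := fun h => hij (Fin.ext h)
            omega
        have hmem : B ⟨j, hj⟩ ∈ S := hS (by rw [hG]; exact Submodule.mem_top)
        have h2 : (B.updateRow ⟨j, hj⟩ (B ⟨j, hj⟩)).det ∈ D := hmem
        rwa [Matrix.updateRow_eq_self] at h2
      · apply ih
        intro i hi
        have := i.isLt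
        omega
  have h1 : (1 : Matrix (Fin n) (Fin n) A).det ∈ D :=
    key n 1 (fun i hi => by have := i.isLt; omega)
  rw [Matrix.det_one] at h1
  exact (Ideal.eq_top_iff_one _).2 h1

theorem finite_bad {O : Type*} [CommRing O] [IsLocalRing O] {A : Type*} [CommRing A] [Algebra O A]
    (𝔮 : Ideal A) (h𝔮 : 𝔮.IsMaximal)
    (hover : ∀ x ∈ IsLocalRing.maximalIdeal O, algebraMap O A x ∈ 𝔮)
    (P : Polynomial A) (i : ℕ) (hi : P.coeff i ∉ 𝔮) :
    {c : IsLocalRing.ResidueField O | ∃ t : O, IsLocalRing.residue O t = c ∧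
      P.eval (algebraMap O A t) ∈ 𝔮}.Finite := by
  haveI := h𝔮.isPrime
  let ρ : IsLocalRing.ResidueField O →+* A ⧸ 𝔮 :=
    Ideal.Quotient.lift (IsLocalRing.maximalIdeal O)
      ((Ideal.Quotient.mk 𝔮).comp (algebraMap O A))
      (fun a ha => Ideal.Quotient.eq_zero_iff_mem.2 (hover a ha))
  have hρ : ∀ t : O, ρ (IsLocalRing.residue O t) = Ideal.Quotient.mk 𝔮 (algebraMap O A t) :=
    fun t => rfl
  have hQ : P.map (Ideal.Quotient.mk 𝔮) ≠ 0 := by
    intro h0
    apply hi
    have := congrArg (fun p => Polynomial.coeff p i) h0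
    simp only [Polynomial.coeff_map, Polynomial.coeff_zero] at this
    exact Ideal.Quotient.eq_zero_iff_mem.1 this
  have hfin := Polynomial.finite_setOfPred_isRoot hQ
  refine ((hfin.preimage (ρ.injective.injOn))).subset ?_
  rintro c ⟨t, rfl, ht⟩
  show Polynomial.IsRoot _ (ρ _)
  rw [hρ, Polynomial.IsRoot.def, Polynomial.eval_map, Polynomial.eval₂_at_apply]
  exact Ideal.Quotient.eq_zero_iff_mem.2 ht

theorem exists_isUnit_det {O : Type*} [CommRing O] [IsLocalRing O]
    [Infinite (IsLocalRing.ResidueField O)]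
    {A : Type*} [CommRing A] [Algebra O A]
    (hfin : {𝔮 : Ideal A | 𝔮.IsMaximal}.Finite)
    (hover : ∀ 𝔮 : Ideal A, 𝔮.IsMaximal → ∀ x ∈ IsLocalRing.maximalIdeal O,
      algebraMap O A x ∈ 𝔮)
    {n : ℕ} (G : Submodule O (Fin n → A))
    (hG : Submodule.span A (G : Set (Fin n → A)) = ⊤) :
    ∃ v : Fin n → Fin n → A, (∀ i, v i ∈ G) ∧ IsUnit (Matrix.of v).det := by
  classical
  have hD := det_span_eq_top (G : Set (Fin n → A)) hG
  have h1 : ∀ 𝔮 : Ideal A, 𝔮.IsMaximal →
      ∃ v : Fin n → Fin n → A, (∀ i, v i ∈ G) ∧ (Matrix.of v).det ∉ 𝔮 := by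
    intro 𝔮 h𝔮
    by_contra hcon
    push_neg at hcon
    have hle : Ideal.span {d : A | ∃ v : Fin n → Fin n → A,
        (∀ i, v i ∈ (G : Set (Fin n → A))) ∧ d = (Matrix.of v).det} ≤ 𝔮 := by
      rw [Ideal.span_le]
      rintro d ⟨v, hv, rfl⟩
      exact hcon v hv
    rw [hD] at hle
    exact h𝔮.ne_top (top_le_iff.1 hle)
  have h2 : ∀ S : Finset (Ideal A), (∀ 𝔮 ∈ S, 𝔮.IsMaximal) →
      ∃ v : Fin n → Fin n → A, (∀ i, v i ∈ G) ∧ ∀ 𝔮 ∈ S, (Matrix.of v).det ∉ 𝔮 := by
    intro S
    induction S using Finset.induction_on with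
    | empty =>
      intro _
      exact ⟨fun _ => 0, fun i => G.zero_mem, fun 𝔮 h𝔮 => absurd h𝔮 (Finset.notMem_empty 𝔮)⟩
    | insert 𝔮' S hnot ih =>
      intro hS
      obtain ⟨v₁, hv₁, hv₁S⟩ := ih (fun 𝔮 h𝔮 => hS 𝔮 (Finset.mem_insert_of_mem h𝔮))
      obtain ⟨v₂, hv₂, hv₂q⟩ := h1 𝔮' (hS 𝔮' (Finset.mem_insert_self _ _))
      obtain ⟨P, hP⟩ : ∃ P : Polynomial A, P = ((Polynomial.X : Polynomial A) •
          (Matrix.of v₂).map Polynomial.C + (Matrix.of v₁).map Polynomial.C).det := ⟨_, rfl⟩
      have hP0 : P.coeff 0 = (Matrix.of v₁).det := by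
        rw [hP]; exact Polynomial.coeff_det_X_add_C_zero _ _
      have hPn : P.coeff n = (Matrix.of v₂).det := by
        have h := Polynomial.coeff_det_X_add_C_card (Matrix.of v₂) (Matrix.of v₁)
        rw [Fintype.card_fin] at h
        rw [hP]; exact h
      have hPeval : ∀ t : O, P.eval (algebraMap O A t) =
          (Matrix.of (fun i => t • v₂ i + v₁ i)).det := by
        intro t
        rw [hP, ← Polynomial.coe_evalRingHom, RingHom.map_det]
        congr 1
        ext i l
        have h3 : (t • v₂ i + v₁ i) l = algebraMap O A t * v₂ i l + v₁ i l := by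
          rw [Pi.add_apply, Pi.smul_apply, Algebra.smul_def]
        simp only [RingHom.mapMatrix_apply, Matrix.map_apply, Matrix.add_apply, Matrix.smul_apply,
          Polynomial.coe_evalRingHom, Polynomial.eval_add, Polynomial.eval_X, Polynomial.eval_C,
          Matrix.of_apply, smul_eq_mul, Polynomial.eval_mul]
        exact h3.symm
      have hbad : ∀ 𝔮 ∈ insert 𝔮' S, {c : IsLocalRing.ResidueField O | ∃ t : O,
          IsLocalRing.residue O t = c ∧ P.eval (algebraMap O A t) ∈ 𝔮}.Finite := by
        intro 𝔮 h𝔮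
        rcases Finset.mem_insert.1 h𝔮 with h𝔮' | h𝔮S
        · exact finite_bad 𝔮 (hS 𝔮 h𝔮) (hover 𝔮 (hS 𝔮 h𝔮)) P n
            (by rw [hPn, h𝔮']; exact hv₂q)
        · exact finite_bad 𝔮 (hS 𝔮 h𝔮) (hover 𝔮 (hS 𝔮 h𝔮)) P 0
            (by rw [hP0]; exact hv₁S 𝔮 h𝔮S)
      have hU : (⋃ 𝔮 ∈ ((insert 𝔮' S : Finset (Ideal A)) : Set (Ideal A)),
          {c : IsLocalRing.ResidueField O | ∃ t : O,
            IsLocalRing.residue O t = c ∧ P.eval (algebraMap O A t) ∈ 𝔮}).Finite :=
        Set.Finite.biUnion (Finset.finite_toSet _) (fun 𝔮 h => hbad 𝔮 (Finset.mem_coe.1 h))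
      obtain ⟨c, hc⟩ := hU.infinite_compl.nonempty
      obtain ⟨t, rfl⟩ := IsLocalRing.residue_surjective c
      refine ⟨fun i => t • v₂ i + v₁ i,
        fun i => G.add_mem (G.smul_mem t (hv₂ i)) (hv₁ i), ?_⟩
      intro 𝔮 h𝔮 hmem
      apply hc
      simp only [Set.mem_iUnion]
      exact ⟨𝔮, Finset.mem_coe.2 h𝔮, t, rfl, by rw [hPeval]; exact hmem⟩
  obtain ⟨v, hv, hvS⟩ := h2 hfin.toFinset (fun 𝔮 h𝔮 => by simpa using h𝔮)
  refine ⟨v, hv, ?_⟩
  by_contra hnu
  obtain ⟨I, hI, hmem⟩ := exists_max_ideal_of_mem_nonunits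
    (show (Matrix.of v).det ∈ nonunits A from hnu)
  exact hvS I (by simpa using hI) hmem

theorem exists_embedding (O : Type u) [CommRing O] [IsDomain O]
    (K : Type u) [Field K] [Algebra O K] [IsFractionRing O K]
    (M : Type u) [AddCommGroup M] [Module O M] [Module.Finite O M] [NoZeroSMulDivisors O M]
    (n : ℕ) (hn : Module.finrank K (TensorProduct O K M) = n) :
    ∃ j : M →ₗ[O] (Fin n → K), Function.Injective j ∧ Submodule.span K (Set.range j) = ⊤ := by
  have hloc : IsLocalizedModule (nonZeroDivisors O) (TensorProduct.mk O K M 1) :=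
    (isLocalizedModule_iff_isBaseChange (nonZeroDivisors O) K (TensorProduct.mk O K M 1)).2
      (TensorProduct.isBaseChange O M K)
  have hι : Function.Injective (TensorProduct.mk O K M 1) := by
    intro x y hxy
    obtain ⟨c, hc⟩ := (IsLocalizedModule.eq_iff_exists (nonZeroDivisors O)
      (TensorProduct.mk O K M 1)).1 hxy
    have hc' : (c : O) • (x - y) = 0 := by
      rw [smul_sub, sub_eq_zero]; exact hc
    rcases eq_zero_or_eq_zero_of_smul_eq_zero hc' with h | h
    · exact absurd h (nonZeroDivisors.coe_ne_zero c)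
    · exact sub_eq_zero.1 h
  let bV : Module.Basis (Fin n) K (TensorProduct O K M) := Module.finBasisOfFinrankEq K _ hn
  let e : TensorProduct O K M ≃ₗ[K] (Fin n → K) := bV.equivFun
  let j : M →ₗ[O] (Fin n → K) :=
    (e.toLinearMap.restrictScalars O).comp (TensorProduct.mk O K M 1)
  have hj : ∀ m, j m = e (TensorProduct.mk O K M 1 m) := fun m => rfl
  refine ⟨j, fun x y hxy => hι (e.injective (by rw [← hj, ← hj, hxy])), ?_⟩
  have h1 : Submodule.span K (Set.range (TensorProduct.mk O K M 1)) = ⊤ := by
    rw [eq_top_iff]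
    rintro x -
    induction x using TensorProduct.induction_on with
    | zero => exact Submodule.zero_mem _
    | tmul c m =>
      have : c ⊗ₜ[O] m = c • (TensorProduct.mk O K M 1 m) := by
        rw [TensorProduct.mk_apply, TensorProduct.smul_tmul', smul_eq_mul, mul_one]
      rw [this]
      exact Submodule.smul_mem _ _ (Submodule.subset_span ⟨m, rfl⟩)
    | add x y hx hy => exact Submodule.add_mem _ hx hy
  have h2 : Set.range j = (e : TensorProduct O K M →ₗ[K] (Fin n → K)) ''
      Set.range (TensorProduct.mk O K M 1) := by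
    ext y
    constructor
    · rintro ⟨m, rfl⟩
      exact ⟨_, ⟨m, rfl⟩, rfl⟩
    · rintro ⟨_, ⟨m, rfl⟩, rfl⟩
      exact ⟨m, rfl⟩
  rw [h2, ← Submodule.map_span, h1, Submodule.map_top, LinearEquiv.range]

theorem exists_lattice (O : Type u) [CommRing O] [IsDomain O] [IsNoetherianRing O] [IsLocalRing O]
    (hdim : ringKrullDim O = 1) (K : Type u) [Field K] [Algebra O K] [IsFractionRing O K]
    (hfin : Module.Finite O ↥(integralClosure O K))
    (M : Type u) [AddCommGroup M] [Module O M] [Module.Finite O M] (n : ℕ)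
    (j : M →ₗ[O] (Fin n → K)) (hspan : Submodule.span K (Set.range j) = ⊤) :
    ∃ Φ : (Fin n → ↥(integralClosure O K)) →ₗ[↥(integralClosure O K)] (Fin n → K),
      Function.Injective Φ ∧
        LinearMap.range Φ = Submodule.span ↥(integralClosure O K) (Set.range j) := by
  classical
  haveI := hfin
  haveI : Ring.KrullDimLE 1 O := by
    rw [Ring.krullDimLE_iff]
    exact hdim.le
  haveI hpid : IsPrincipalIdealRing ↥(integralClosure O K) :=
    Groth.Agent.TFCurvGen.isPrincipalIdealRing_integralClosure (O := O) K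
  haveI hfr : IsFractionRing ↥(integralClosure O K) K :=
    integralClosure.isFractionRing_of_finite_extension K K
  obtain ⟨N, hN⟩ : ∃ N : Submodule ↥(integralClosure O K) (Fin n → K),
      N = Submodule.span ↥(integralClosure O K) (Set.range j) := ⟨_, rfl⟩
  haveI hNfin : Module.Finite ↥(integralClosure O K) N := by
    obtain ⟨S, hS⟩ := (Module.Finite.fg_top : (⊤ : Submodule O M).FG)
    rw [Module.Finite.iff_fg]
    refine ⟨S.image j, ?_⟩
    have h2 : LinearMap.range j = Submodule.span O (j '' (S : Set M)) := by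
      rw [← Submodule.map_span, hS, Submodule.map_top]
    rw [hN, Finset.coe_image, ← LinearMap.coe_range, h2, Submodule.span_span_of_tower]
  haveI hNtf : Module.IsTorsionFree ↥(integralClosure O K) N := by
    apply Module.IsTorsionFree.of_smul_eq_zero
    intro s x hsx
    by_cases hs : s = 0
    · exact Or.inl hs
    · refine Or.inr (Subtype.ext (funext fun i => ?_))
      have h := congrFun (congrArg Subtype.val hsx) i
      have h' : (s : K) * (x : Fin n → K) i = 0 := h
      rcases mul_eq_zero.1 h' with h0 | h0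
      · exact absurd (Subtype.ext h0) hs
      · exact h0
  haveI : Module.Free ↥(integralClosure O K) N := Module.free_of_finite_type_torsion_free'
  have hrank : Module.finrank ↥(integralClosure O K) N = n := by
    let b' := Module.finBasis ↥(integralClosure O K) N
    have hli : LinearIndependent ↥(integralClosure O K) (fun i => ((b' i : N) : Fin n → K)) :=
      b'.linearIndependent.map' N.subtype (Submodule.ker_subtype N)
    have hliK : LinearIndependent K (fun i => ((b' i : N) : Fin n → K)) :=
      (LinearIndependent.iff_fractionRing ↥(integralClosure O K) K).1 hli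
    have hsp : ⊤ ≤ Submodule.span K (Set.range (fun i => ((b' i : N) : Fin n → K))) := by
      rw [← hspan]
      apply Submodule.span_le.2
      rintro _ ⟨m, rfl⟩
      have hm : j m ∈ N := by rw [hN]; exact Submodule.subset_span ⟨m, rfl⟩
      have h3 : (⟨j m, hm⟩ : N) ∈ Submodule.span ↥(integralClosure O K) (Set.range b') :=
        b'.mem_span _
      have h4 : j m ∈ (Submodule.span ↥(integralClosure O K) (Set.range b')).map N.subtype :=
        ⟨_, h3, rfl⟩
      rw [Submodule.map_span, ← Set.range_comp] at h4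
      exact Submodule.span_le_restrictScalars ↥(integralClosure O K) K _ h4
    let bK : Module.Basis (Fin (Module.finrank ↥(integralClosure O K) N)) K (Fin n → K) :=
      Module.Basis.mk hliK hsp
    have := Module.finrank_eq_card_basis bK
    rw [Module.finrank_fin_fun, Fintype.card_fin] at this
    exact this.symm
  let b : Module.Basis (Fin n) ↥(integralClosure O K) N :=
    Module.finBasisOfFinrankEq ↥(integralClosure O K) N hrank
  refine ⟨N.subtype.comp b.equivFun.symm.toLinearMap, ?_, ?_⟩
  · exact (Subtype.val_injective).comp b.equivFun.symm.injective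
  · rw [LinearMap.range_comp, LinearEquiv.range, Submodule.map_top, Submodule.range_subtype, hN]

theorem main15009 (O : Type u) [CommRing O] [IsDomain O] [IsNoetherianRing O] [IsLocalRing O]
    (hdim : ringKrullDim O = 1) [IsAlgClosed (IsLocalRing.ResidueField O)] (K : Type u) [Field K]
    [Algebra O K] [IsFractionRing O K] (hfin : Module.Finite O ↥(integralClosure O K))
    (M : Type u) [AddCommGroup M] [Module O M] [Module.Finite O M] [NoZeroSMulDivisors O M] (n : ℕ)
    (hn : Module.finrank K (TensorProduct O K M) = n) :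
    ∃ M' : Submodule O (Fin n → K),
      Submodule.pi Set.univ (fun _ : Fin n => (1 : Submodule O K)) ≤ M' ∧
      M' ≤ Submodule.pi Set.univ
        (fun _ : Fin n => (Subalgebra.toSubmodule (integralClosure O K))) ∧
      Nonempty (M ≃ₗ[O] ↥M') := by
  classical
  obtain ⟨j, hjinj, hjspan⟩ := exists_embedding O K M n hn
  obtain ⟨Φ, hΦinj, hΦrange⟩ := exists_lattice O hdim K hfin M n j hjspan
  haveI := hfin
  haveI hfr : IsFractionRing ↥(integralClosure O K) K :=
    integralClosure.isFractionRing_of_finite_extension K K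
  let ΦO : (Fin n → ↥(integralClosure O K)) →ₗ[O] (Fin n → K) := Φ.restrictScalars O
  have hΦOinj : Function.Injective ΦO := hΦinj
  have hmem : ∀ m, j m ∈ LinearMap.range ΦO := by
    intro m
    have : j m ∈ LinearMap.range Φ := by
      rw [hΦrange]; exact Submodule.subset_span ⟨m, rfl⟩
    obtain ⟨x, hx⟩ := this
    exact ⟨x, hx⟩
  let r : M →ₗ[O] (Fin n → ↥(integralClosure O K)) :=
    (LinearEquiv.ofInjective ΦO hΦOinj).symm.toLinearMap.comp
      (j.codRestrict (LinearMap.range ΦO) hmem)
  have hr : ∀ m, Φ (r m) = j m := by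
    intro m
    have h := (LinearEquiv.ofInjective ΦO hΦOinj).apply_symm_apply
      (j.codRestrict (LinearMap.range ΦO) hmem m)
    exact congrArg Subtype.val h
  have hrinj : Function.Injective r := by
    intro m m' h
    apply hjinj
    rw [← hr m, ← hr m', h]
  let G : Submodule O (Fin n → ↥(integralClosure O K)) := LinearMap.range r
  have hG : Submodule.span ↥(integralClosure O K)
      (G : Set (Fin n → ↥(integralClosure O K))) = ⊤ := by
    apply Submodule.map_injective_of_injective hΦinj
    rw [Submodule.map_span, Submodule.map_top, hΦrange]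
    congr 1
    ext y
    constructor
    · rintro ⟨x, ⟨m, rfl⟩, rfl⟩
      exact ⟨m, (hr m).symm⟩
    · rintro ⟨m, rfl⟩
      exact ⟨r m, ⟨m, rfl⟩, hr m⟩
  haveI : Infinite (IsLocalRing.ResidueField O) := inferInstance
  have hmaxfin : {𝔮 : Ideal ↥(integralClosure O K) | 𝔮.IsMaximal}.Finite := by
    haveI : Finite (MaximalSpectrum ↥(integralClosure O K)) :=
      Groth.Agent.FibreDegree.finite_maximalSpectrum O
    refine (Set.finite_range
      (MaximalSpectrum.asIdeal (R := ↥(integralClosure O K)))).subset ?_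
    intro 𝔮 h𝔮
    exact ⟨⟨𝔮, h𝔮⟩, rfl⟩
  have hover : ∀ 𝔮 : Ideal ↥(integralClosure O K), 𝔮.IsMaximal →
      ∀ x ∈ IsLocalRing.maximalIdeal O, algebraMap O ↥(integralClosure O K) x ∈ 𝔮 := by
    intro 𝔮 h𝔮 x hx
    haveI := h𝔮
    have h := Groth.Agent.FibreDegree.comap_eq_maximalIdeal (A := O) 𝔮
    have hx' : x ∈ 𝔮.comap (algebraMap O ↥(integralClosure O K)) := by rw [h]; exact hx
    exact hx'
  obtain ⟨v, hv, hunit⟩ := exists_isUnit_det hmaxfin hover G hG
  have hv' : ∀ i, ∃ m, r m = v i := fun i => hv i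
  choose ms hms using hv'
  obtain ⟨Am, hAm⟩ : ∃ Am : Matrix (Fin n) (Fin n) ↥(integralClosure O K), Am = Matrix.of v :=
    ⟨_, rfl⟩
  rw [← hAm] at hunit
  have hAinv : Am * Am⁻¹ = 1 := Matrix.mul_nonsing_inv Am hunit
  have hAinv' : Am⁻¹ * Am = 1 := Matrix.nonsing_inv_mul Am hunit
  let c : M →ₗ[O] (Fin n → ↥(integralClosure O K)) :=
    ((Am⁻¹).vecMulLinear.restrictScalars O).comp r
  let co : (Fin n → ↥(integralClosure O K)) →ₗ[O] (Fin n → K) :=
    ((Algebra.linearMap ↥(integralClosure O K) K).restrictScalars O).compLeft (Fin n)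
  let f : M →ₗ[O] (Fin n → K) := co.comp c
  have hf : ∀ m i, f m i = algebraMap ↥(integralClosure O K) K ((r m ᵥ* Am⁻¹) i) :=
    fun m i => rfl
  have hfinj : Function.Injective f := by
    intro m m' h
    apply hrinj
    have h1 : r m ᵥ* Am⁻¹ = r m' ᵥ* Am⁻¹ := by
      funext i
      have := congrFun h i
      rw [hf, hf] at this
      exact IsFractionRing.injective ↥(integralClosure O K) K this
    have h2 := congrArg (fun x => x ᵥ* Am) h1
    simp only [Matrix.vecMul_vecMul, hAinv', Matrix.vecMul_one] at h2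
    exact h2
  have hfms : ∀ l, f (ms l) = Pi.single l (1 : K) := by
    intro l
    funext i
    rw [hf, hms l]
    have h1 : v l ᵥ* Am⁻¹ = (1 : Matrix (Fin n) (Fin n) ↥(integralClosure O K)) l := by
      rw [← hAinv, Matrix.mul_apply_eq_vecMul, hAm]
      rfl
    rw [h1, Matrix.one_apply]
    by_cases h : l = i
    · subst h; simp
    · have h' : i ≠ l := fun e => h e.symm
      simp [h, h']
  refine ⟨LinearMap.range f, ?_, ?_, ⟨LinearEquiv.ofInjective f hfinj⟩⟩
  · intro x hx
    rw [Submodule.mem_pi] at hx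
    have hx' : ∀ i, ∃ o : O, algebraMap O K o = x i :=
      fun i => Submodule.mem_one.1 (hx i (Set.mem_univ i))
    choose o ho using hx'
    have hsum : ∀ i, (∑ l, o l • (Pi.single l (1 : K) : Fin n → K)) i = x i := by
      intro i
      rw [Finset.sum_apply, Finset.sum_eq_single i]
      · rw [Pi.smul_apply, Pi.single_eq_same, Algebra.smul_def, mul_one, ho]
      · intro l _ hl
        rw [Pi.smul_apply, Pi.single_eq_of_ne (Ne.symm hl), smul_zero]
      · intro h; exact absurd (Finset.mem_univ i) h
    refine ⟨∑ l, o l • ms l, ?_⟩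
    have h1 : f (∑ l, o l • ms l) = ∑ l, o l • (Pi.single l (1 : K) : Fin n → K) := by
      rw [map_sum]
      exact Finset.sum_congr rfl (fun l _ => by rw [map_smul, hfms])
    rw [h1]
    exact funext hsum
  · rintro _ ⟨m, rfl⟩
    rw [Submodule.mem_pi]
    intro i _
    rw [hf]
    exact ((r m ᵥ* Am⁻¹) i).2

end Groth.Agent.Lib.TFLatticeH1
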