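import Mathlib
import Groth.Agent.Lib.TFLattice_helper1
import Groth.Agent.Lib.Gorenstein_helper5

/-!
# Torsion-free modules over a one-dimensional Gorenstein local domain (helper1)

* `exists_extension`, `ext_one_of_embedding`: elementary consequences of the long exact `Ext`
  sequence;
* `ext_one_tf`: `Ext¹(Q, O) = 0` for a finitely generated torsion-free module `Q` over a
  one-dimensional Gorenstein local domain;
* `dual`, `dual_dual_le`: lattices in `K^n`, the dot-product dual and reflexivity;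
* `exists_generators`: generators of `Õ·N` inside `N`;
* `main15035`.
-/

set_option autoImplicit false
universe u

namespace Groth.Agent.Lib.TFLattice2H1

open CategoryTheory
open scoped Matrix

/-! ### homological part -/
section H

variable {A : Type u} [CommRing A]

noncomputable def sesOf {P F : Type u} [AddCommGroup P] [Module A P] [AddCommGroup F] [Module A F]
    (ι : P →ₗ[A] F) : ShortComplex (ModuleCat.{u} A) :=
  ShortComplex.mk (ModuleCat.ofHom ι) (ModuleCat.ofHom (LinearMap.range ι).mkQ) (by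
    rw [← ModuleCat.ofHom_comp, LinearMap.range_mkQ_comp]; rfl)

theorem sesOf_shortExact {P F : Type u} [AddCommGroup P] [Module A P] [AddCommGroup F]
    [Module A F] (ι : P →ₗ[A] F) (hι : Function.Injective ι) : (sesOf ι).ShortExact := by
  refine ShortComplex.ShortExact.mk' ?_ ?_ ?_
  · rw [ShortComplex.moduleCat_exact_iff]
    intro x hx
    have h1 : (LinearMap.range ι).mkQ x = 0 := hx
    have h2 : x ∈ LinearMap.range ι := (Submodule.Quotient.mk_eq_zero _).1 h1
    obtain ⟨p, hp⟩ := h2
    exact ⟨p, hp⟩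
  · rw [ModuleCat.mono_iff_injective]; exact hι
  · rw [ModuleCat.epi_iff_surjective]; exact Submodule.mkQ_surjective _

theorem exists_extension {P F : Type u} [AddCommGroup P] [Module A P] [AddCommGroup F]
    [Module A F] (ι : P →ₗ[A] F) (hι : Function.Injective ι)
    (I : Type u) [AddCommGroup I] [Module A I]
    (hE : Subsingleton (Abelian.Ext.{u} (ModuleCat.of A (F ⧸ LinearMap.range ι))
      (ModuleCat.of A I) 1))
    (φ : P →ₗ[A] I) : ∃ ψ : F →ₗ[A] I, ψ.comp ι = φ := by
  have hS := sesOf_shortExact ι hι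
  have hx₁ : hS.extClass.comp (Abelian.Ext.mk₀ (ModuleCat.ofHom φ))
      (show 1 + 0 = 1 by norm_num) = 0 := @Subsingleton.elim _ hE _ _
  obtain ⟨x₂, hx₂⟩ := Abelian.Ext.contravariant_sequence_exact₁ hS (ModuleCat.of A I)
    (Abelian.Ext.mk₀ (ModuleCat.ofHom φ)) (by norm_num) hx₁
  obtain ⟨ψ, rfl⟩ := (Abelian.Ext.mk₀_bijective _ _).2 x₂
  rw [Abelian.Ext.mk₀_comp_mk₀] at hx₂
  have h := (Abelian.Ext.mk₀_bijective _ _).1 hx₂
  refine ⟨ψ.hom, ?_⟩
  have h' := congrArg ModuleCat.Hom.hom h
  exact h'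

theorem ext_one_of_embedding {Q G : Type u} [AddCommGroup Q] [Module A Q] [AddCommGroup G]
    [Module A G] (κ : Q →ₗ[A] G) (hκ : Function.Injective κ) [Module.Projective A G]
    (I : Type u) [AddCommGroup I] [Module A I]
    (h2 : Subsingleton (Abelian.Ext.{u} (ModuleCat.of A (G ⧸ LinearMap.range κ))
      (ModuleCat.of A I) 2)) :
    Subsingleton (Abelian.Ext.{u} (ModuleCat.of A Q) (ModuleCat.of A I) 1) := by
  have hS := sesOf_shortExact κ hκ
  haveI : Projective (sesOf κ).X₂ := (IsProjective.iff_projective (R := A) G).1 inferInstance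
  refine subsingleton_of_forall_eq 0 (fun x₁ => ?_)
  have hx₁ : hS.extClass.comp x₁ (show 1 + 1 = 2 by norm_num) = 0 :=
    @Subsingleton.elim _ h2 _ _
  obtain ⟨x₂, hx₂⟩ := Abelian.Ext.contravariant_sequence_exact₁ hS (ModuleCat.of A I) x₁
    (by norm_num) hx₁
  have hz : x₂ = 0 := Abelian.Ext.eq_zero_of_projective _
  rw [← hx₂, hz, Abelian.Ext.comp_zero]
  rfl

end H

theorem injDim_two (O : Type u) [CommRing O] [LocCoh.IsGorensteinLocalRing O]
    (hdim : ringKrullDim O = 1) : HasInjectiveDimensionLT (ModuleCat.of O O) 2 :=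
  Groth.Agent.Gor.injDim_le_dim_local O
    LocCoh.IsGorensteinLocalRing.exists_hasInjectiveDimensionLT 1
    (by rw [hdim]; exact_mod_cast le_refl _)

/-! ### lattices -/
section L

variable {O : Type u} [CommRing O] {K : Type u} [Field K] [Algebra O K] {n : ℕ}

/-- dot product with a fixed vector, as an `O`-linear map -/
def dotL (u : Fin n → K) : (Fin n → K) →ₗ[O] K where
  toFun x := u ⬝ᵥ x
  map_add' x y := dotProduct_add u x y
  map_smul' c x := by
    simp only [RingHom.id_apply]
    exact dotProduct_smul c u x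

/-- the dot-product dual of a lattice -/
def dual (L : Submodule O (Fin n → K)) : Submodule O (Fin n → K) where
  carrier := {x | ∀ y ∈ L, y ⬝ᵥ x ∈ (1 : Submodule O K)}
  add_mem' := by
    intro a b ha hb y hy
    rw [dotProduct_add]
    exact add_mem (ha y hy) (hb y hy)
  zero_mem' := by
    intro y _
    rw [dotProduct_zero]
    exact zero_mem _
  smul_mem' := by
    intro c x hx y hy
    rw [dotProduct_smul]
    exact Submodule.smul_mem _ c (hx y hy)

theorem mem_dual_of_gens {L : Submodule O (Fin n → K)} {S : Set (Fin n → K)}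
    (hS : Submodule.span O S = L) {x : Fin n → K}
    (hx : ∀ y ∈ S, y ⬝ᵥ x ∈ (1 : Submodule O K)) : x ∈ dual L := by
  intro y hy
  rw [← hS] at hy
  induction hy using Submodule.span_induction with
  | mem y hy => exact hx y hy
  | zero => rw [zero_dotProduct]; exact zero_mem _
  | add a b _ _ ha hb => rw [add_dotProduct]; exact add_mem ha hb
  | smul c a _ ha => rw [smul_dotProduct]; exact Submodule.smul_mem _ c ha

theorem exists_toO [IsDomain O] [IsFractionRing O K] {X : Type*} [AddCommGroup X] [Module O X]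
    (g : X →ₗ[O] K) (hg : ∀ x, g x ∈ (1 : Submodule O K)) :
    ∃ g₀ : X →ₗ[O] O, ∀ x, algebraMap O K (g₀ x) = g x := by
  have hinj : Function.Injective (Algebra.linearMap O K) := IsFractionRing.injective O K
  have hr : ∀ x, g x ∈ LinearMap.range (Algebra.linearMap O K) := fun x => by
    obtain ⟨o, ho⟩ := Submodule.mem_one.1 (hg x)
    exact ⟨o, ho⟩
  refine ⟨(LinearEquiv.ofInjective (Algebra.linearMap O K) hinj).symm.toLinearMap ∘ₗ
    (g.codRestrict _ hr), fun x => ?_⟩
  have := (LinearEquiv.ofInjective (Algebra.linearMap O K) hinj).apply_symm_apply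
    (g.codRestrict _ hr x)
  exact congrArg Subtype.val this

theorem clear_denoms [IsDomain O] [IsFractionRing O K] (L : Submodule O (Fin n → K))
    (hL : L.FG) : ∃ d : O, d ≠ 0 ∧ ∀ y ∈ L, ∀ i, d • y i ∈ (1 : Submodule O K) := by
  classical
  obtain ⟨S, hS⟩ := hL
  obtain ⟨b, hb⟩ := IsLocalization.exist_integer_multiples_of_finset (nonZeroDivisors O)
    (S.biUnion (fun y => Finset.univ.image y))
  refine ⟨b, nonZeroDivisors.coe_ne_zero b, ?_⟩
  intro y hy
  rw [← hS] at hy
  induction hy using Submodule.span_induction with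
  | mem y hy =>
    intro i
    obtain ⟨o, ho⟩ := hb (y i) (Finset.mem_biUnion.2 ⟨y, Finset.mem_coe.1 hy,
      Finset.mem_image.2 ⟨i, Finset.mem_univ _, rfl⟩⟩)
    exact Submodule.mem_one.2 ⟨o, ho⟩
  | zero => intro i; rw [Pi.zero_apply, smul_zero]; exact zero_mem _
  | add a c _ _ ha hc => intro i; rw [Pi.add_apply, smul_add]; exact add_mem (ha i) (hc i)
  | smul c a _ ha =>
    intro i
    rw [Pi.smul_apply, smul_comm]
    exact Submodule.smul_mem _ c (ha i)

theorem dual_spans [IsDomain O] [IsFractionRing O K] (L : Submodule O (Fin n → K))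
    (hL : L.FG) : Submodule.span K (dual L : Set (Fin n → K)) = ⊤ := by
  obtain ⟨d, hd, hdL⟩ := clear_denoms L hL
  have hd' : algebraMap O K d ≠ 0 := fun h =>
    hd ((IsFractionRing.injective O K) (by rw [h, map_zero]))
  rw [eq_top_iff, ← (Pi.basisFun K (Fin n)).span_eq, Submodule.span_le]
  rintro _ ⟨i, rfl⟩
  rw [Pi.basisFun_apply]
  have hmem : Pi.single i (algebraMap O K d) ∈ dual L := by
    intro y hy
    rw [dotProduct_single]
    have := hdL y hy i
    rwa [Algebra.smul_def, mul_comm] at this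
  have h1 : (Pi.single i (1 : K) : Fin n → K) =
      (algebraMap O K d)⁻¹ • Pi.single i (algebraMap O K d) := by
    rw [← Pi.single_smul, smul_eq_mul, inv_mul_cancel₀ hd']
  rw [h1]
  exact Submodule.smul_mem _ _ (Submodule.subset_span hmem)

theorem dual_fg [IsDomain O] [IsNoetherianRing O] [IsFractionRing O K]
    (L : Submodule O (Fin n → K)) (hL : L.FG)
    (hsp : Submodule.span K (L : Set (Fin n → K)) = ⊤) : (dual L).FG := by
  classical
  obtain ⟨S, hS⟩ := hL
  have hSL : ∀ a : ↥S, (a : Fin n → K) ∈ L := fun a => by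
    rw [← hS]; exact Submodule.subset_span a.2
  let τ' : (Fin n → K) →ₗ[O] (↥S → K) := LinearMap.pi (fun a => dotL (a : Fin n → K))
  have hSspK : Submodule.span K (S : Set (Fin n → K)) = ⊤ := by
    rw [← hsp, ← hS, Submodule.span_span_of_tower]
  have hinj : Function.Injective τ' := by
    rw [← LinearMap.ker_eq_bot, LinearMap.ker_eq_bot']
    intro x hx
    have h2 : ∀ y ∈ S, y ⬝ᵥ x = 0 := fun y hy => congrFun hx ⟨y, hy⟩
    have h3 : ∀ y : Fin n → K, y ⬝ᵥ x = 0 := by
      intro y
      have hy : y ∈ Submodule.span K (S : Set (Fin n → K)) := by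
        rw [hSspK]; exact Submodule.mem_top
      induction hy using Submodule.span_induction with
      | mem y hy => exact h2 y hy
      | zero => exact zero_dotProduct _
      | add a b _ _ ha hb => rw [add_dotProduct, ha, hb, add_zero]
      | smul c a _ ha => rw [smul_dotProduct, ha, smul_zero]
    funext i
    have := h3 (Pi.single i 1)
    rwa [single_dotProduct, one_mul] at this
  let g : (↥S → O) →ₗ[O] (↥S → K) := (Algebra.linearMap O K).compLeft ↥S
  haveI hNoeth : IsNoetherian O ↥(LinearMap.range g) :=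
    isNoetherian_of_surjective g.rangeRestrict (LinearMap.range_rangeRestrict g)
  have hle : (dual L).map τ' ≤ LinearMap.range g := by
    rintro _ ⟨x, hx, rfl⟩
    have h1 : ∀ a : ↥S, ∃ o : O, algebraMap O K o = τ' x a := fun a =>
      Submodule.mem_one.1 (hx _ (hSL a))
    choose o ho using h1
    exact ⟨o, funext fun a => ho a⟩
  exact Submodule.fg_of_fg_map_injective τ' hinj (Submodule.FG.of_le_of_isNoetherian hle)

theorem conductor_mul (s : ↥(integralClosure O K)) (t : K)
    (ht : t ∈ ((1 : Submodule O K).colon (Subalgebra.toSubmodule (integralClosure O K))) •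
      (1 : Submodule O K)) :
    (s : K) * t ∈ (1 : Submodule O K) := by
  refine Submodule.smul_induction_on ht (fun a ha u hu => ?_) (fun x y hx hy => ?_)
  · obtain ⟨o, rfl⟩ := Submodule.mem_one.1 hu
    have h1 : a • (s : K) ∈ (1 : Submodule O K) :=
      Submodule.mem_colon.1 ha (s : K) s.2
    have h2 : (s : K) * a • algebraMap O K o = o • (a • (s : K)) := by
      rw [Algebra.smul_def, Algebra.smul_def, Algebra.smul_def]; ring
    rw [h2]
    exact Submodule.smul_mem _ o h1
  · rw [mul_add]; exact add_mem hx hy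

end L

/-! ### `Ext¹` of torsion-free modules -/

theorem ext_one_tf (O : Type u) [CommRing O] [IsDomain O] [LocCoh.IsGorensteinLocalRing O]
    (hdim : ringKrullDim O = 1) (K : Type u) [Field K] [Algebra O K] [IsFractionRing O K]
    (Q : Type u) [AddCommGroup Q] [Module O Q] [Module.Finite O Q] [NoZeroSMulDivisors O Q] :
    Subsingleton (Abelian.Ext.{u} (ModuleCat.of O Q) (ModuleCat.of O O) 1) := by
  classical
  obtain ⟨jQ, hjQ, -⟩ := TFLatticeH1.exists_embedding O K Q
    (Module.finrank K (TensorProduct O K Q)) rfl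
  obtain ⟨d, hd, hdL⟩ := clear_denoms (LinearMap.range jQ)
    (by rw [LinearMap.range_eq_map]; exact Module.Finite.fg_top.map jQ)
  have hd' : algebraMap O K d ≠ 0 := fun h =>
    hd ((IsFractionRing.injective O K) (by rw [h, map_zero]))
  have h1 : ∀ i, ∃ g₀ : Q →ₗ[O] O, ∀ q, algebraMap O K (g₀ q) = d • jQ q i := fun i =>
    exists_toO ((d • (LinearMap.proj i : (Fin _ → K) →ₗ[O] K)).comp jQ)
      (fun q => hdL (jQ q) ⟨q, rfl⟩ i)
  choose κc hκc using h1
  have hκinj : Function.Injective (LinearMap.pi κc) := by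
    rw [← LinearMap.ker_eq_bot, LinearMap.ker_eq_bot']
    intro q hq
    apply hjQ
    rw [map_zero]
    funext i
    have h2 : algebraMap O K (LinearMap.pi κc q i) = d • jQ q i := hκc i q
    rw [hq] at h2
    simp only [Pi.zero_apply, map_zero] at h2
    have h3 : algebraMap O K d * jQ q i = 0 := by rw [← Algebra.smul_def]; exact h2.symm
    rcases mul_eq_zero.1 h3 with h | h
    · exact absurd h hd'
    · exact h
  haveI := injDim_two O hdim
  have h2 : Subsingleton (Abelian.Ext.{u}
      (ModuleCat.of O ((Fin (Module.finrank K (TensorProduct O K Q)) → O) ⧸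
        LinearMap.range (LinearMap.pi κc))) (ModuleCat.of O O) 2) :=
    HasInjectiveDimensionLT.subsingleton (ModuleCat.of O O) 2 2 le_rfl _
  exact ext_one_of_embedding (LinearMap.pi κc) hκinj O h2

/-! ### reflexivity -/

theorem dual_dual_le (O : Type u) [CommRing O] [IsDomain O] [LocCoh.IsGorensteinLocalRing O]
    (hdim : ringKrullDim O = 1) (K : Type u) [Field K] [Algebra O K] [IsFractionRing O K]
    {n : ℕ} (L : Submodule O (Fin n → K)) (hLfg : L.FG)
    (hLsp : Submodule.span K (L : Set (Fin n → K)) = ⊤) : dual (dual L) ≤ L := by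
  classical
  have hNsp := dual_spans L hLfg
  obtain ⟨S, hS⟩ := hLfg
  have hSL : ∀ a : ↥S, (a : Fin n → K) ∈ L := fun a => by
    rw [← hS]; exact Submodule.subset_span a.2
  have h1 : ∀ a : ↥S, ∃ g₀ : ↥(dual L) →ₗ[O] O,
      ∀ x, algebraMap O K (g₀ x) = (a : Fin n → K) ⬝ᵥ (x : Fin n → K) :=
    fun a => exists_toO ((dotL (a : Fin n → K)).comp (dual L).subtype)
      (fun x => x.2 _ (hSL a))
  choose τc hτc using h1
  have hτ₀ : ∀ x (a : ↥S), algebraMap O K (LinearMap.pi τc x a) =
      (a : Fin n → K) ⬝ᵥ (x : Fin n → K) := fun x a => hτc a x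
  have hSspK : Submodule.span K (S : Set (Fin n → K)) = ⊤ := by
    rw [← hLsp, ← hS, Submodule.span_span_of_tower]
  have hτinj : Function.Injective (LinearMap.pi τc) := by
    rw [← LinearMap.ker_eq_bot, LinearMap.ker_eq_bot']
    intro x hx
    apply Subtype.ext
    have h2 : ∀ y ∈ S, y ⬝ᵥ (x : Fin n → K) = 0 := by
      intro y hy
      rw [← hτ₀ x ⟨y, hy⟩, hx]
      simp
    have h3 : ∀ y : Fin n → K, y ⬝ᵥ (x : Fin n → K) = 0 := by
      intro y
      have hy : y ∈ Submodule.span K (S : Set (Fin n → K)) := by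
        rw [hSspK]; exact Submodule.mem_top
      induction hy using Submodule.span_induction with
      | mem y hy => exact h2 y hy
      | zero => exact zero_dotProduct _
      | add a b _ _ ha hb => rw [add_dotProduct, ha, hb, add_zero]
      | smul c a _ ha => rw [smul_dotProduct, ha, smul_zero]
    show (x : Fin n → K) = 0
    funext i
    have := h3 (Pi.single i 1)
    rwa [single_dotProduct, one_mul] at this
  haveI hQtf : NoZeroSMulDivisors O ((↥S → O) ⧸ LinearMap.range (LinearMap.pi τc)) := by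
    constructor
    intro d q hdq
    by_cases hd : d = 0
    · exact Or.inl hd
    · right
      obtain ⟨c, rfl⟩ := Submodule.Quotient.mk_surjective _ q
      rw [← Submodule.Quotient.mk_smul, Submodule.Quotient.mk_eq_zero] at hdq
      obtain ⟨x, hx⟩ := hdq
      rw [Submodule.Quotient.mk_eq_zero]
      have hd' : algebraMap O K d ≠ 0 := fun h =>
        hd ((IsFractionRing.injective O K) (by rw [h, map_zero]))
      have hx' : (algebraMap O K d)⁻¹ • (x : Fin n → K) ∈ dual L := by
        apply mem_dual_of_gens hS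
        intro y hy
        rw [dotProduct_smul, ← hτ₀ x ⟨y, Finset.mem_coe.1 hy⟩, hx, Pi.smul_apply, smul_eq_mul,
          smul_eq_mul, map_mul, ← mul_assoc, inv_mul_cancel₀ hd', one_mul]
        exact Submodule.mem_one.2 ⟨_, rfl⟩
      refine ⟨⟨_, hx'⟩, ?_⟩
      funext a
      apply IsFractionRing.injective O K
      rw [hτ₀]
      show (a : Fin n → K) ⬝ᵥ ((algebraMap O K d)⁻¹ • (x : Fin n → K)) = _
      rw [dotProduct_smul, ← hτ₀ x a, hx, Pi.smul_apply, smul_eq_mul, smul_eq_mul, map_mul,
        ← mul_assoc, inv_mul_cancel₀ hd', one_mul]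
  have hE : Subsingleton (Abelian.Ext.{u}
      (ModuleCat.of O ((↥S → O) ⧸ LinearMap.range (LinearMap.pi τc))) (ModuleCat.of O O) 1) :=
    ext_one_tf O hdim K _
  intro u hu
  obtain ⟨φ, hφ⟩ := exists_toO ((dotL u).comp (dual L).subtype) (fun x => by
    show u ⬝ᵥ (x : Fin n → K) ∈ _
    rw [dotProduct_comm]; exact hu _ x.2)
  obtain ⟨ψ, hψ⟩ := exists_extension (LinearMap.pi τc) hτinj O hE φ
  obtain ⟨b, hb⟩ : ∃ b : ↥S → O, ∀ c : ↥S → O, ψ c = ∑ a, c a • b a :=
    ⟨fun a => ψ (fun j => if a = j then 1 else 0), fun c => LinearMap.pi_apply_eq_sum_univ ψ c⟩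
  have hu' : u = ∑ a : ↥S, b a • (a : Fin n → K) := by
    have h4 : ∀ x ∈ dual L, (u - ∑ a : ↥S, b a • (a : Fin n → K)) ⬝ᵥ x = 0 := by
      intro x hx
      have e1 : u ⬝ᵥ x = algebraMap O K (φ ⟨x, hx⟩) := (hφ ⟨x, hx⟩).symm
      have e2 : φ ⟨x, hx⟩ = ∑ a, LinearMap.pi τc ⟨x, hx⟩ a • b a := by
        rw [← hψ]; exact hb _
      rw [sub_dotProduct, sub_eq_zero, e1, e2, map_sum, sum_dotProduct]
      refine Finset.sum_congr rfl (fun a _ => ?_)
      rw [smul_eq_mul, map_mul, hτ₀, smul_dotProduct, Algebra.smul_def, mul_comm]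
    have h5 : ∀ x : Fin n → K, (u - ∑ a : ↥S, b a • (a : Fin n → K)) ⬝ᵥ x = 0 := by
      intro x
      have hx : x ∈ Submodule.span K (dual L : Set (Fin n → K)) := by
        rw [hNsp]; exact Submodule.mem_top
      induction hx using Submodule.span_induction with
      | mem x hx => exact h4 x hx
      | zero => exact dotProduct_zero _
      | add a c _ _ ha hc => rw [dotProduct_add, ha, hc, add_zero]
      | smul c a _ ha => rw [dotProduct_smul, ha, smul_zero]
    have h6 : u - ∑ a : ↥S, b a • (a : Fin n → K) = 0 := by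
      funext i
      have := h5 (Pi.single i 1)
      rwa [dotProduct_single, mul_one] at this
    exact sub_eq_zero.1 h6
  rw [hu']
  exact Submodule.sum_mem _ (fun a _ => Submodule.smul_mem _ _ (hSL a))

/-! ### generators of the `Õ`-span inside the lattice -/

theorem exists_generators (O : Type u) [CommRing O] [IsDomain O] [IsNoetherianRing O]
    [IsLocalRing O] (hdim : ringKrullDim O = 1) [IsAlgClosed (IsLocalRing.ResidueField O)]
    (K : Type u) [Field K] [Algebra O K] [IsFractionRing O K]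
    (hfin : Module.Finite O ↥(integralClosure O K))
    (M : Type u) [AddCommGroup M] [Module O M] [Module.Finite O M] (n : ℕ)
    (j : M →ₗ[O] (Fin n → K)) (hjspan : Submodule.span K (Set.range j) = ⊤) :
    ∃ ms : Fin n → M, ∀ m : M, ∃ c : Fin n → ↥(integralClosure O K),
      j m = ∑ i, c i • j (ms i) := by
  classical
  obtain ⟨Φ, hΦinj, hΦrange⟩ := TFLatticeH1.exists_lattice O hdim K hfin M n j hjspan
  haveI := hfin
  let ΦO : (Fin n → ↥(integralClosure O K)) →ₗ[O] (Fin n → K) := Φ.restrictScalars O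
  have hΦOinj : Function.Injective ΦO := hΦinj
  have hmem : ∀ m, j m ∈ LinearMap.range ΦO := by
    intro m
    have : j m ∈ LinearMap.range Φ := by
      rw [hΦrange]; exact Submodule.subset_span ⟨m, rfl⟩
    obtain ⟨x, hx⟩ := this
    exact ⟨x, hx⟩
  let r : M →ₗ[O] (Fin n → ↥(integralClosure O K)) :=
    (LinearEquiv.ofInjective ΦO hΦOinj).symm.toLinearMap.comp
      (j.codRestrict (LinearMap.range ΦO) hmem)
  have hr : ∀ m, Φ (r m) = j m := by
    intro m
    have h := (LinearEquiv.ofInjective ΦO hΦOinj).apply_symm_apply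
      (j.codRestrict (LinearMap.range ΦO) hmem m)
    exact congrArg Subtype.val h
  let G : Submodule O (Fin n → ↥(integralClosure O K)) := LinearMap.range r
  have hG : Submodule.span ↥(integralClosure O K)
      (G : Set (Fin n → ↥(integralClosure O K))) = ⊤ := by
    apply Submodule.map_injective_of_injective hΦinj
    rw [Submodule.map_span, Submodule.map_top, hΦrange]
    congr 1
    ext y
    constructor
    · rintro ⟨x, ⟨m, rfl⟩, rfl⟩
      exact ⟨m, (hr m).symm⟩
    · rintro ⟨m, rfl⟩
      exact ⟨r m, ⟨m, rfl⟩, hr m⟩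
  haveI : Infinite (IsLocalRing.ResidueField O) := inferInstance
  have hmaxfin : {𝔮 : Ideal ↥(integralClosure O K) | 𝔮.IsMaximal}.Finite := by
    haveI : Finite (MaximalSpectrum ↥(integralClosure O K)) :=
      Groth.Agent.FibreDegree.finite_maximalSpectrum O
    refine (Set.finite_range
      (MaximalSpectrum.asIdeal (R := ↥(integralClosure O K)))).subset ?_
    intro 𝔮 h𝔮
    exact ⟨⟨𝔮, h𝔮⟩, rfl⟩
  have hover : ∀ 𝔮 : Ideal ↥(integralClosure O K), 𝔮.IsMaximal →
      ∀ x ∈ IsLocalRing.maximalIdeal O, algebraMap O ↥(integralClosure O K) x ∈ 𝔮 := by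
    intro 𝔮 h𝔮 x hx
    haveI := h𝔮
    have h := Groth.Agent.FibreDegree.comap_eq_maximalIdeal (A := O) 𝔮
    have hx' : x ∈ 𝔮.comap (algebraMap O ↥(integralClosure O K)) := by rw [h]; exact hx
    exact hx'
  obtain ⟨v, hv, hunit⟩ := TFLatticeH1.exists_isUnit_det hmaxfin hover G hG
  have hv' : ∀ i, ∃ m, r m = v i := fun i => hv i
  choose ms hms using hv'
  obtain ⟨Am, hAm⟩ : ∃ Am : Matrix (Fin n) (Fin n) ↥(integralClosure O K), Am = Matrix.of v :=
    ⟨_, rfl⟩
  rw [← hAm] at hunit
  have hAinv' : Am⁻¹ * Am = 1 := Matrix.nonsing_inv_mul Am hunit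
  refine ⟨ms, fun m => ?_⟩
  obtain ⟨c, hc⟩ : ∃ c : Fin n → ↥(integralClosure O K), c = r m ᵥ* Am⁻¹ := ⟨_, rfl⟩
  have hcA : c ᵥ* Am = r m := by
    rw [hc, Matrix.vecMul_vecMul, hAinv', Matrix.vecMul_one]
  have h2 : ∑ i, c i • v i = r m := by
    rw [← hcA, Matrix.vecMul_eq_sum, hAm]
    rfl
  refine ⟨c, ?_⟩
  have h1 : ∑ i, c i • j (ms i) = Φ (∑ i, c i • v i) := by
    rw [map_sum]
    refine Finset.sum_congr rfl (fun i _ => ?_)
    rw [map_smul, ← hms i, hr]
  rw [h1, h2, hr]

/-! ### the main statement -/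

theorem main15035 (O : Type u) [CommRing O] [IsDomain O] [LocCoh.IsGorensteinLocalRing O]
    (hdim : ringKrullDim O = 1) [IsAlgClosed (IsLocalRing.ResidueField O)] (K : Type u) [Field K]
    [Algebra O K] [IsFractionRing O K] (hfin : Module.Finite O ↥(integralClosure O K))
    (M : Type u) [AddCommGroup M] [Module O M] [Module.Finite O M] [NoZeroSMulDivisors O M] (n : ℕ)
    (hn : Module.finrank K (TensorProduct O K M) = n) :
    ∃ M'' : Submodule O (Fin n → K),
      Submodule.pi Set.univ (fun _ : Fin n => (((1 : Submodule O K).colon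
        (Subalgebra.toSubmodule (integralClosure O K))) • (1 : Submodule O K))) ≤ M'' ∧
      M'' ≤ Submodule.pi Set.univ (fun _ : Fin n => (1 : Submodule O K)) ∧
      Nonempty (M ≃ₗ[O] ↥M'') := by
  classical
  obtain ⟨j, hjinj, hjspan⟩ := TFLatticeH1.exists_embedding O K M n hn
  obtain ⟨L, hL⟩ : ∃ L : Submodule O (Fin n → K), L = LinearMap.range j := ⟨_, rfl⟩
  have hLfg : L.FG := by
    rw [hL, LinearMap.range_eq_map]; exact Module.Finite.fg_top.map j
  have hLsp : Submodule.span K (L : Set (Fin n → K)) = ⊤ := by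
    rw [hL, LinearMap.coe_range]; exact hjspan
  have hNfg := dual_fg L hLfg hLsp
  have hNsp := dual_spans L hLfg
  have hrefl := dual_dual_le O hdim K L hLfg hLsp
  haveI : Module.Finite O ↥(dual L) := Module.Finite.iff_fg.2 hNfg
  have hrange : Set.range (dual L).subtype = (dual L : Set (Fin n → K)) := by
    ext x
    constructor
    · rintro ⟨y, rfl⟩
      exact y.2
    · intro hx
      exact ⟨⟨x, hx⟩, rfl⟩
  have hsub : Submodule.span K (Set.range (dual L).subtype) = ⊤ := by
    rw [hrange]; exact hNsp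
  obtain ⟨ws, hws⟩ := exists_generators O hdim K hfin ↥(dual L) n (dual L).subtype hsub
  obtain ⟨W, hW⟩ : ∃ W : Matrix (Fin n) (Fin n) K,
      W = Matrix.of (fun i => ((ws i : ↥(dual L)) : Fin n → K)) := ⟨_, rfl⟩
  have hrep : ∀ z ∈ dual L, ∃ c : Fin n → ↥(integralClosure O K),
      z = (fun i => (c i : K)) ᵥ* W := by
    intro z hz
    obtain ⟨c, hc⟩ := hws ⟨z, hz⟩
    refine ⟨c, ?_⟩
    rw [Matrix.vecMul_eq_sum, hW]
    have hc' : z = ∑ i, c i • ((ws i : ↥(dual L)) : Fin n → K) := hc
    rw [hc']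
    refine Finset.sum_congr rfl (fun i _ => ?_)
    exact (algebraMap_smul K (c i) ((ws i : ↥(dual L)) : Fin n → K)).symm
  have hWunit : IsUnit W := by
    rw [← Matrix.vecMul_surjective_iff_isUnit]
    have hr : LinearMap.range W.vecMulLinear = ⊤ := by
      rw [eq_top_iff, ← hNsp, Submodule.span_le]
      intro z hz
      obtain ⟨c, hc⟩ := hrep z hz
      exact ⟨_, hc.symm⟩
    intro y
    have : y ∈ LinearMap.range W.vecMulLinear := by rw [hr]; exact Submodule.mem_top
    obtain ⟨x, hx⟩ := this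
    exact ⟨x, hx⟩
  have hdet : IsUnit W.det := (Matrix.isUnit_iff_isUnit_det W).1 hWunit
  have hWP : W * W⁻¹ = 1 := Matrix.mul_nonsing_inv W hdet
  have hPW : W⁻¹ * W = 1 := Matrix.nonsing_inv_mul W hdet
  have ha' : ∀ z ∈ dual L, ∃ c : Fin n → ↥(integralClosure O K),
      z ᵥ* W⁻¹ = fun i => (c i : K) := by
    intro z hz
    obtain ⟨c, hc⟩ := hrep z hz
    refine ⟨c, ?_⟩
    rw [hc, Matrix.vecMul_vecMul, hWP, Matrix.vecMul_one]
  have hb' : ∀ i, ((ws i : ↥(dual L)) : Fin n → K) ᵥ* W⁻¹ = Pi.single i 1 := by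
    intro i
    have h1 : ((ws i : ↥(dual L)) : Fin n → K) = W i := by rw [hW]; rfl
    rw [h1, ← Matrix.mul_apply_eq_vecMul, hWP]
    funext k
    rw [Matrix.one_eq_pi_single]
  refine ⟨L.comap ((Matrix.mulVecLin W⁻¹).restrictScalars O), ?_, ?_, ?_⟩
  · intro x hx
    rw [Submodule.mem_pi] at hx
    show W⁻¹ *ᵥ x ∈ L
    apply hrefl
    intro z hz
    rw [Matrix.dotProduct_mulVec]
    obtain ⟨c, hc⟩ := ha' z hz
    rw [hc]
    unfold dotProduct
    exact Submodule.sum_mem _ (fun i _ => conductor_mul (c i) (x i) (hx i (Set.mem_univ i)))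
  · intro x hx
    rw [Submodule.mem_pi]
    intro i _
    have hu : W⁻¹ *ᵥ x ∈ L := hx
    have h1 : x i = ((ws i : ↥(dual L)) : Fin n → K) ⬝ᵥ (W⁻¹ *ᵥ x) := by
      rw [Matrix.dotProduct_mulVec, hb' i, single_dotProduct, one_mul]
    rw [h1, dotProduct_comm]
    exact (ws i).2 _ hu
  · let f2 : ↥L →ₗ[O] ↥(L.comap ((Matrix.mulVecLin W⁻¹).restrictScalars O)) :=
      ((Matrix.mulVecLin W).restrictScalars O).restrict (fun u hu => by
        show W⁻¹ *ᵥ (W *ᵥ u) ∈ L
        rw [Matrix.mulVec_mulVec, hPW, Matrix.one_mulVec]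
        exact hu)
    have hf2 : ∀ u : ↥L, ((f2 u : ↥(L.comap ((Matrix.mulVecLin W⁻¹).restrictScalars O))) :
        Fin n → K) = W *ᵥ (u : Fin n → K) := fun u => rfl
    have hf2inj : Function.Injective f2 := by
      intro a b hab
      apply Subtype.ext
      have h0 : ((f2 a : ↥(L.comap ((Matrix.mulVecLin W⁻¹).restrictScalars O))) : Fin n → K) =
          ((f2 b : ↥(L.comap ((Matrix.mulVecLin W⁻¹).restrictScalars O))) : Fin n → K) :=
        congrArg Subtype.val hab
      rw [hf2, hf2] at h0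
      have h1 := congrArg (fun y => W⁻¹ *ᵥ y) h0
      simp only [Matrix.mulVec_mulVec, hPW, Matrix.one_mulVec] at h1
      exact h1
    have hf2surj : Function.Surjective f2 := by
      intro x
      refine ⟨⟨W⁻¹ *ᵥ (x : Fin n → K), x.2⟩, ?_⟩
      apply Subtype.ext
      rw [hf2]
      show W *ᵥ (W⁻¹ *ᵥ (x : Fin n → K)) = x
      rw [Matrix.mulVec_mulVec, hWP, Matrix.one_mulVec]
    exact ⟨((LinearEquiv.ofInjective j hjinj).trans (LinearEquiv.ofEq _ _ hL.symm)).trans
      (LinearEquiv.ofBijective f2 ⟨hf2inj, hf2surj⟩)⟩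

end Groth.Agent.Lib.TFLattice2H1
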