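import Mathlib
import Groth.Prelude
import Groth.Agent.Lib.CanonDual5_helper1
import Groth.Agent.Lib.TFLattice2_helper1

/-!
# `Ext¹_O(M, M) ≅ Hom_O(M⁻¹, O/M⁻¹)` for an overring `M` of a one-dimensional Gorenstein local
domain (helper1)
-/

set_option autoImplicit false
set_option maxHeartbeats 1000000

universe u

namespace Groth.Agent.Lib.CanonDualH1

open CategoryTheory

section G

variable {C : Type*} [Category C] [Abelian C] [HasExt C]

/-- transport of `Ext` along isomorphisms in both variables. -/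
noncomputable def extAddEquivOfIso {X X' Y Y' : C} (e₁ : X ≅ X') (e₂ : Y ≅ Y') (n : ℕ) :
    Abelian.Ext X Y n ≃+ Abelian.Ext X' Y' n where
  toFun x := (Abelian.Ext.mk₀ e₁.inv).comp (x.comp (Abelian.Ext.mk₀ e₂.hom) (add_zero n))
    (zero_add n)
  invFun y := (Abelian.Ext.mk₀ e₁.hom).comp (y.comp (Abelian.Ext.mk₀ e₂.inv) (add_zero n))
    (zero_add n)
  left_inv x := by
    dsimp only
    rw [Abelian.Ext.comp_assoc_of_third_deg_zero, Abelian.Ext.comp_assoc_of_third_deg_zero,
      Abelian.Ext.mk₀_comp_mk₀, e₂.hom_inv_id, Abelian.Ext.comp_mk₀_id,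
      Abelian.Ext.mk₀_comp_mk₀_assoc, e₁.hom_inv_id, Abelian.Ext.mk₀_id_comp]
  right_inv y := by
    dsimp only
    rw [Abelian.Ext.comp_assoc_of_third_deg_zero, Abelian.Ext.comp_assoc_of_third_deg_zero,
      Abelian.Ext.mk₀_comp_mk₀, e₂.inv_hom_id, Abelian.Ext.comp_mk₀_id,
      Abelian.Ext.mk₀_comp_mk₀_assoc, e₁.inv_hom_id, Abelian.Ext.mk₀_id_comp]
  map_add' a b := by
    rw [Abelian.Ext.add_comp, Abelian.Ext.comp_add]

end G

section L

variable {O : Type u} [CommRing O]

@[reducible] noncomputable def linSC {A B C : Type u} [AddCommGroup A] [Module O A]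
    [AddCommGroup B] [Module O B] [AddCommGroup C] [Module O C]
    (f : A →ₗ[O] B) (g : B →ₗ[O] C) (h : g.comp f = 0) : ShortComplex (ModuleCat.{u} O) :=
  ShortComplex.mk (ModuleCat.ofHom f) (ModuleCat.ofHom g) (by
    rw [← ModuleCat.ofHom_comp, h]; rfl)

theorem linSC_shortExact {A B C : Type u} [AddCommGroup A] [Module O A]
    [AddCommGroup B] [Module O B] [AddCommGroup C] [Module O C]
    (f : A →ₗ[O] B) (g : B →ₗ[O] C) (h : g.comp f = 0) (hf : Function.Injective f)
    (hg : Function.Surjective g) (hex : Function.Exact f g) : (linSC f g h).ShortExact := by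
  refine ShortComplex.ShortExact.mk' ?_ ?_ ?_
  · rw [ShortComplex.moduleCat_exact_iff]
    intro x hx
    exact (hex x).mp hx
  · rw [ModuleCat.mono_iff_injective]; exact hf
  · rw [ModuleCat.epi_iff_surjective]; exact hg

end L

section M

variable (O : Type u) [CommRing O] [IsDomain O] [LocCoh.IsGorensteinLocalRing O]
  (K : Type u) [Field K] [Algebra O K] [IsFractionRing O K]

theorem main15040 (hdim : ringKrullDim O = 1)
    (hfin : Module.Finite O ↥(integralClosure O K)) (M : Subalgebra O K)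
    (hM : M ≤ integralClosure O K) :
    Nonempty (Abelian.Ext (ModuleCat.of O ↥M) (ModuleCat.of O ↥M) 1 ≃+
      (↥((1 : Submodule O K) / Subalgebra.toSubmodule M) →ₗ[O]
        (O ⧸ Submodule.comap (Algebra.linearMap O K)
          ((1 : Submodule O K) / Subalgebra.toSubmodule M)))) := by
  classical
  have hinj : Function.Injective (algebraMap O K) := IsFractionRing.injective O K
  have hW2 : HasInjectiveDimensionLT (ModuleCat.of O O) 2 :=
    Groth.Agent.Lib.TFLattice2H1.injDim_two O hdim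
  have hE : ∀ φ : O →ₗ[O] O, ∃ a : O, ∀ w, φ w = a • w := by
    intro φ
    refine ⟨φ 1, fun w => ?_⟩
    have h1 : φ (w • (1 : O)) = w • φ 1 := map_smul φ w 1
    rw [smul_eq_mul, mul_one] at h1
    rw [h1, smul_eq_mul, smul_eq_mul, mul_comm]
  have hW0 : ∃ w : O, w ≠ 0 := ⟨1, one_ne_zero⟩
  haveI := hfin
  obtain ⟨x₀, hx₀, hx₀m, hElat⟩ := exists_x₀ O K hdim hfin
  haveI : IsNoetherian O ↥(integralClosure O K) := isNoetherian_of_isNoetherianRing_of_finite O _
  haveI hfinE : Module.Finite O ↥(Subalgebra.toSubmodule (integralClosure O K)) :=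
    Module.Finite.equiv (Subalgebra.toSubmoduleEquiv (integralClosure O K)).symm
  haveI : IsNoetherian O ↥(Subalgebra.toSubmodule (integralClosure O K)) :=
    isNoetherian_of_isNoetherianRing_of_finite O _
  haveI hMfin : Module.Finite O ↥M :=
    Module.Finite.of_injective (Subalgebra.inclusion hM).toLinearMap
      (Subalgebra.inclusion_injective hM)
  haveI hMtf : Module.IsTorsionFree O ↥M :=
    { isSMulRegular := fun r hr m₁ m₂ h => by
        have hr0 : algebraMap O K r ≠ 0 := by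
          intro h0
          exact hr.ne_zero (hinj (by rw [h0, map_zero]))
        have h' : r • (m₁ : K) = r • (m₂ : K) := congrArg Subtype.val h
        rw [Algebra.smul_def, Algebra.smul_def] at h'
        exact Subtype.ext (mul_left_cancel₀ hr0 h') }
  -- notation
  obtain ⟨𝔄, h𝔄def⟩ : ∃ 𝔄 : Submodule O K,
      𝔄 = (1 : Submodule O K) / Subalgebra.toSubmodule M := ⟨_, rfl⟩
  rw [← h𝔄def]
  have h𝔄mem : ∀ z : K, z ∈ 𝔄 ↔ ∀ m ∈ M, z * m ∈ (1 : Submodule O K) := by
    intro z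
    rw [h𝔄def]
    exact Submodule.mem_div_iff_forall_mul_mem
  have h𝔄1 : 𝔄 ≤ 1 := by
    intro z hz
    have := (h𝔄mem z).mp hz 1 M.one_mem
    rwa [mul_one] at this
  have h1E : (1 : Submodule O K) ≤ Subalgebra.toSubmodule (integralClosure O K) :=
    Submodule.one_le.mpr (integralClosure O K).one_mem
  haveI h𝔄fin : Module.Finite O ↥𝔄 :=
    Module.Finite.of_injective (Submodule.inclusion (h𝔄1.trans h1E))
      (Submodule.inclusion_injective _)
  haveI h𝔄tf : Module.IsTorsionFree O ↥𝔄 := isTorsionFree_sub O K 𝔄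
  -- the cross relation for maps `M → O`
  have hcross : ∀ (f : ↥M →ₗ[O] O) (m : ↥M),
      algebraMap O K (f m) = algebraMap O K (f 1) * (m : K) := by
    intro f m
    have h := hom_cross hinj hx₀ M.val.toLinearMap Subtype.val_injective
      (fun x => hElat.2 _ (hM x.2)) ((Algebra.linearMap O K).comp f) m 1
    have h1 : M.val.toLinearMap (1 : ↥M) = (1 : K) := rfl
    rw [h1, mul_one] at h
    exact h
  -- the isomorphism `M* ≅ 𝔄`
  have hmemε : ∀ f : ↥M →ₗ[O] O,
      ((Algebra.linearMap O K).comp (LinearMap.applyₗ (1 : ↥M))) f ∈ 𝔄 := by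
    intro f
    rw [h𝔄mem]
    intro m hm
    show algebraMap O K (f 1) * m ∈ (1 : Submodule O K)
    rw [← hcross f ⟨m, hm⟩]
    exact Submodule.mem_one.mpr ⟨_, rfl⟩
  let e₀ : (↥M →ₗ[O] O) →ₗ[O] ↥𝔄 :=
    LinearMap.codRestrict 𝔄 ((Algebra.linearMap O K).comp (LinearMap.applyₗ (1 : ↥M))) hmemε
  have he₀ : ∀ f, ((e₀ f : ↥𝔄) : K) = algebraMap O K (f 1) := fun f => rfl
  have he₀inj : Function.Injective e₀ := by
    rw [injective_iff_map_eq_zero]
    intro f hf
    have h1 : algebraMap O K (f 1) = 0 := by rw [← he₀ f, hf]; rfl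
    refine LinearMap.ext fun m => hinj ?_
    rw [hcross f m, h1, zero_mul]
    exact (map_zero _).symm
  have he₀surj : Function.Surjective e₀ := by
    intro z
    have hz : ∀ m : ↥M, ∃ a : O, algebraMap O K a = (z : K) * (m : K) := fun m =>
      Submodule.mem_one.mp ((h𝔄mem z).mp z.2 m m.2)
    choose fz hfz using hz
    let f : ↥M →ₗ[O] O :=
      { toFun := fz
        map_add' := fun m m' => hinj (by
          show algebraMap O K (fz (m + m')) = algebraMap O K (fz m + fz m')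
          rw [map_add, hfz, hfz, hfz]
          show (z : K) * ((m : K) + (m' : K)) = _
          rw [mul_add])
        map_smul' := fun a m => hinj (by
          show algebraMap O K (fz (a • m)) = algebraMap O K (a * fz m)
          rw [map_mul, hfz, hfz]
          show (z : K) * (a • (m : K)) = _
          rw [Algebra.smul_def]; ring) }
    refine ⟨f, Subtype.ext ?_⟩
    rw [he₀]
    show algebraMap O K (fz 1) = (z : K)
    rw [hfz]
    show (z : K) * (1 : K) = z
    rw [mul_one]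
  let e : (↥M →ₗ[O] O) ≃ₗ[O] ↥𝔄 := LinearEquiv.ofBijective e₀ ⟨he₀inj, he₀surj⟩
  -- step 1 and 2
  obtain ⟨E1⟩ := dual_ext O hW2 hE hW0 1 ↥M ↥M
  have E2 : Abelian.Ext (ModuleCat.of O (↥M →ₗ[O] O)) (ModuleCat.of O (↥M →ₗ[O] O)) 1 ≃+
      Abelian.Ext (ModuleCat.of O ↥𝔄) (ModuleCat.of O ↥𝔄) 1 :=
    extAddEquivOfIso e.toModuleIso e.toModuleIso 1
  -- step 3: the sequence 0 → 𝔄 → O → O/𝔞 → 0
  have hjz : ∀ z : ↥𝔄, ∃ a : O, algebraMap O K a = (z : K) := fun z =>
    Submodule.mem_one.mp (h𝔄1 z.2)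
  choose jf hjf using hjz
  let j : ↥𝔄 →ₗ[O] O :=
    { toFun := jf
      map_add' := fun z z' => hinj (by
        show algebraMap O K (jf (z + z')) = algebraMap O K (jf z + jf z')
        rw [map_add, hjf, hjf, hjf]; rfl)
      map_smul' := fun a z => hinj (by
        show algebraMap O K (jf (a • z)) = algebraMap O K (a * jf z)
        rw [map_mul, hjf, hjf]
        show a • (z : K) = _
        rw [Algebra.smul_def]) }
  have hj : ∀ z : ↥𝔄, algebraMap O K (j z) = (z : K) := hjf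
  have hjinj : Function.Injective j := by
    intro z z' h
    apply Subtype.ext
    rw [← hj z, ← hj z', h]
  obtain ⟨𝔞, h𝔞def⟩ : ∃ 𝔞 : Submodule O O, 𝔞 = Submodule.comap (Algebra.linearMap O K) 𝔄 :=
    ⟨_, rfl⟩
  rw [← h𝔞def]
  have h𝔞mem : ∀ a : O, a ∈ 𝔞 ↔ algebraMap O K a ∈ 𝔄 := by
    intro a; rw [h𝔞def]; rfl
  have hπj : 𝔞.mkQ.comp j = 0 := by
    refine LinearMap.ext fun z => ?_
    show Submodule.Quotient.mk (j z) = 0
    rw [Submodule.Quotient.mk_eq_zero, h𝔞mem, hj]
    exact z.2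
  have hexj : Function.Exact j 𝔞.mkQ := by
    intro a
    constructor
    · intro ha
      have ha' : a ∈ 𝔞 := (Submodule.Quotient.mk_eq_zero 𝔞).mp ha
      rw [h𝔞mem] at ha'
      exact ⟨⟨_, ha'⟩, hinj (hj _)⟩
    · rintro ⟨z, rfl⟩
      exact LinearMap.congr_fun hπj z
  have hS := linSC_shortExact j 𝔞.mkQ hπj hjinj 𝔞.mkQ_surjective hexj
  obtain ⟨Θ, hΘs, hΘk⟩ := ext_one_copres hS (ModuleCat.of O ↥𝔄)
    (ext_vanish O hW2 ↥𝔄 1 le_rfl)
  have hΘinj : Function.Injective Θ := by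
    rw [injective_iff_map_eq_zero]
    intro h hh
    obtain ⟨h', rfl⟩ := (hΘk h).mp hh
    -- every map `𝔄 → O` has image in `𝔞`
    apply ModuleCat.hom_ext
    refine LinearMap.ext fun z => ?_
    show Submodule.Quotient.mk (h'.hom z) = 0
    rw [Submodule.Quotient.mk_eq_zero, h𝔞mem]
    obtain ⟨m, hm⟩ := ev_surjective O hW2 hE hW0 ↥M (h'.hom.comp e₀)
    obtain ⟨f, rfl⟩ := he₀surj z
    have h1 : f m = h'.hom (e₀ f) := LinearMap.congr_fun hm f
    rw [← h1, hcross f m, ← he₀ f, h𝔄mem]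
    intro m' hm'
    rw [mul_assoc]
    exact (h𝔄mem _).mp (e₀ f).2 _ (M.mul_mem m.2 hm')
  let E3 : (ModuleCat.of O ↥𝔄 ⟶ ModuleCat.of O (O ⧸ 𝔞)) ≃+
      Abelian.Ext (ModuleCat.of O ↥𝔄) (ModuleCat.of O ↥𝔄) 1 :=
    AddEquiv.ofBijective Θ ⟨hΘinj, hΘs⟩
  exact ⟨E1.trans (E2.trans (E3.symm.trans
    (ModuleCat.homAddEquiv (M := ModuleCat.of O ↥𝔄) (N := ModuleCat.of O (O ⧸ 𝔞)))))⟩

end M

end Groth.Agent.Lib.CanonDualH1
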