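import Mathlib

namespace Groth.Agent.CardJac

open Cardinal

universe u

/-- Key lemma: in a domain `D` over an infinite field `k` with `rank_k D < #k`, an element `f` such
that `f - a` is a unit for all `a ≠ 0` in `k` is algebraic over `k`. -/
theorem isAlgebraic_of_isUnit_sub {k D : Type u} [Field k] [CommRing D] [IsDomain D]
    [Algebra k D] (hk : ℵ₀ ≤ #k) (hrank : Module.rank k D < #k) (f : D)
    (hu : ∀ a : k, a ≠ 0 → IsUnit (f - algebraMap k D a)) : IsAlgebraic k f := by
  classical
  by_contra htr
  have htr' : Transcendental k f := htr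
  let K := FractionRing D
  have hinj : Function.Injective (algebraMap D K) := IsFractionRing.injective D K
  have hx : Transcendental k (algebraMap D K f) := (transcendental_algebraMap_iff hinj).2 htr'
  have hLI := hx.linearIndependent_sub_inv
  let v : {a : k // a ≠ 0} → D := fun a => ↑((hu a.1 a.2).unit⁻¹)
  have hv : ∀ a : {a : k // a ≠ 0}, algebraMap D K (v a) =
      (algebraMap D K f - algebraMap k K a.1)⁻¹ := by
    intro a
    have h1 : (f - algebraMap k D a.1) * v a = 1 := (hu a.1 a.2).mul_val_inv
    have h2 := congrArg (algebraMap D K) h1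
    rw [map_mul, map_sub, map_one, ← IsScalarTower.algebraMap_apply] at h2
    exact eq_inv_of_mul_eq_one_right h2
  have hLI2 : LinearIndependent k v := by
    refine LinearIndependent.of_comp (IsScalarTower.toAlgHom k D K).toLinearMap ?_
    have : (IsScalarTower.toAlgHom k D K).toLinearMap ∘ v =
        (fun a : k => (algebraMap D K f - algebraMap k K a)⁻¹) ∘ Subtype.val := by
      funext a
      exact hv a
    rw [this]
    exact hLI.comp _ Subtype.val_injective
  have h1 := hLI2.cardinal_le_rank
  haveI : Infinite k := Cardinal.infinite_iff.mpr hk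
  have h2 : #{a : k // a ≠ 0} = #k := by
    have := Cardinal.mk_compl_of_infinite ({0} : Set k) (by simpa using lt_of_lt_of_le one_lt_aleph0 hk)
    exact this
  rw [h2] at h1
  exact absurd (lt_of_le_of_lt h1 hrank) (lt_irrefl _)

theorem main {k S : Type u} [Field k] [CommRing S] [Algebra k S]
    (s : Set S) (hs : Algebra.adjoin k s = ⊤) (hcard : Cardinal.mk s < Cardinal.mk k) :
    (∀ (m : Ideal S) [m.IsMaximal], Algebra.IsAlgebraic k (S ⧸ m)) ∧ IsJacobsonRing S := by
  classical
  by_cases hfin : s.Finite
  · haveI : Algebra.FiniteType k S := ⟨⟨hfin.toFinset, by simpa using hs⟩⟩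
    refine ⟨?_, isJacobsonRing_of_finiteType (A := k)⟩
    intro m hm
    letI := Ideal.Quotient.field m
    haveI : Algebra.FiniteType k (S ⧸ m) :=
      Algebra.FiniteType.trans (inferInstance : Algebra.FiniteType k S)
        (inferInstance : Algebra.FiniteType S (S ⧸ m))
    haveI := finite_of_finite_type_of_isJacobsonRing k (S ⧸ m)
    exact Algebra.IsAlgebraic.of_finite k (S ⧸ m)
  · have hinf : ℵ₀ ≤ #s := Cardinal.infinite_iff.mp (Set.infinite_coe_iff.mpr hfin)
    have hk : ℵ₀ ≤ #k := hinf.trans hcard.le
    have hrankS : Module.rank k S < #k := by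
      have h1 := Algebra.rank_adjoin_le (R := k) s
      rw [hs, Subalgebra.rank_top, max_eq_left hinf] at h1
      exact lt_of_le_of_lt h1 hcard
    have hrankQ : ∀ I : Ideal S, Module.rank k (S ⧸ I) < #k := by
      intro I
      refine lt_of_le_of_lt ?_ hrankS
      exact LinearMap.rank_le_of_surjective (Ideal.Quotient.mkₐ k I).toLinearMap
        (Ideal.Quotient.mkₐ_surjective k I)
    constructor
    · intro m hm
      letI := Ideal.Quotient.field m
      refine ⟨fun f => ?_⟩
      by_cases hf : f ∈ Set.range (algebraMap k (S ⧸ m))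
      · obtain ⟨a, rfl⟩ := hf
        exact isAlgebraic_algebraMap a
      · refine isAlgebraic_of_isUnit_sub hk (hrankQ m) f ?_
        intro a _
        rw [isUnit_iff_ne_zero, sub_ne_zero]
        intro h
        exact hf ⟨a, h.symm⟩
    · rw [isJacobsonRing_iff_prime_eq]
      intro P hP
      refine le_antisymm ?_ Ideal.le_jacobson
      intro f hfJ
      by_contra hfP
      have hmk : Function.Surjective (Ideal.Quotient.mk P) := Ideal.Quotient.mk_surjective
      have hf0 : Ideal.Quotient.mk P f ≠ 0 := by
        rwa [Ne, Ideal.Quotient.eq_zero_iff_mem]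
      have hfjac : Ideal.Quotient.mk P f ∈ (⊥ : Ideal (S ⧸ P)).jacobson := by
        rw [Ideal.jacobson, Ideal.mem_sInf]
        rintro M ⟨-, hM⟩
        have hm : (M.comap (Ideal.Quotient.mk P)).IsMaximal :=
          Ideal.comap_isMaximal_of_surjective _ hmk
        have hPm : P ≤ M.comap (Ideal.Quotient.mk P) := by
          intro x hx
          rw [Ideal.mem_comap, Ideal.Quotient.eq_zero_iff_mem.mpr hx]
          exact zero_mem _
        have hfm : f ∈ M.comap (Ideal.Quotient.mk P) := by
          rw [Ideal.jacobson, Ideal.mem_sInf] at hfJ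
          exact hfJ ⟨hPm, hm⟩
        exact hfm
      have hu : ∀ a : k, a ≠ 0 → IsUnit (Ideal.Quotient.mk P f - algebraMap k (S ⧸ P) a) := by
        intro a ha
        have h1 := Ideal.mem_jacobson_bot.mp hfjac (algebraMap k (S ⧸ P) (-a⁻¹))
        have h2 : Ideal.Quotient.mk P f - algebraMap k (S ⧸ P) a =
            algebraMap k (S ⧸ P) (-a) *
              (Ideal.Quotient.mk P f * algebraMap k (S ⧸ P) (-a⁻¹) + 1) := by
          have h3 : algebraMap k (S ⧸ P) (-a) * algebraMap k (S ⧸ P) (-a⁻¹) = 1 := by
            rw [← map_mul, neg_mul_neg, mul_inv_cancel₀ ha, map_one]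
          calc Ideal.Quotient.mk P f - algebraMap k (S ⧸ P) a
              = Ideal.Quotient.mk P f * (algebraMap k (S ⧸ P) (-a) * algebraMap k (S ⧸ P) (-a⁻¹))
                  + algebraMap k (S ⧸ P) (-a) := by rw [h3, mul_one, map_neg, sub_eq_add_neg]
            _ = _ := by ring
        rw [h2]
        refine IsUnit.mul ?_ h1
        exact (IsUnit.mk0 (-a) (neg_ne_zero.mpr ha)).map (algebraMap k (S ⧸ P))
      have halg := isAlgebraic_of_isUnit_sub hk (hrankQ P) _ hu
      have hunit : IsUnit (Ideal.Quotient.mk P f) := halg.isIntegral.isUnit hf0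
      obtain ⟨M, hM⟩ := Ideal.exists_maximal (S ⧸ P)
      have hfM : Ideal.Quotient.mk P f ∈ M := by
        rw [Ideal.jacobson, Ideal.mem_sInf] at hfjac
        exact hfjac ⟨bot_le, hM⟩
      exact hM.ne_top (Ideal.eq_top_of_isUnit_mem _ hfM hunit)

end Groth.Agent.CardJac
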