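import Mathlib

namespace Groth.Agent.Lib.CardPts
open scoped TensorProduct

universe u

section general
variable {k : Type*} [Field k] [IsAlgClosed k] {B : Type*} [CommRing B] [Algebra k B]

/-- kernel of a `k`-point, as a prime. -/
noncomputable def homToPrime (f : B →ₐ[k] k) : PrimeSpectrum B :=
  ⟨RingHom.ker (f : B →+* k), RingHom.ker_isPrime _⟩

omit [IsAlgClosed k] in
lemma homToPrime_injective : Function.Injective (homToPrime (k := k) (B := B)) := by
  intro f g h
  have h' : RingHom.ker (f : B →+* k) = RingHom.ker (g : B →+* k) :=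
    congrArg PrimeSpectrum.asIdeal h
  ext b
  have hb : b - algebraMap k B (f b) ∈ RingHom.ker (f : B →+* k) := by
    rw [RingHom.mem_ker]
    show f (b - algebraMap k B (f b)) = 0
    rw [map_sub, AlgHom.commutes]; simp
  rw [h', RingHom.mem_ker] at hb
  have hb' : g (b - algebraMap k B (f b)) = 0 := hb
  rw [map_sub, AlgHom.commutes] at hb'
  have : g b - f b = 0 := by simpa using hb'
  exact (sub_eq_zero.mp this).symm

lemma homToPrime_surjective [Module.Finite k B] :
    Function.Surjective (homToPrime (k := k) (B := B)) := by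
  intro P
  haveI := P.isPrime
  haveI : Module.Finite k (B ⧸ P.asIdeal) :=
    Module.Finite.of_surjective (Ideal.Quotient.mkₐ k P.asIdeal).toLinearMap
      (Ideal.Quotient.mkₐ_surjective k _)
  haveI : Algebra.IsIntegral k (B ⧸ P.asIdeal) := Algebra.IsIntegral.of_finite k _
  have hbij : Function.Bijective (algebraMap k (B ⧸ P.asIdeal)) :=
    IsAlgClosed.algebraMap_bijective_of_isIntegral
  let e : k ≃ₐ[k] (B ⧸ P.asIdeal) := AlgEquiv.ofBijective (Algebra.ofId k _) hbij
  refine ⟨(e.symm : (B ⧸ P.asIdeal) →ₐ[k] k).comp (Ideal.Quotient.mkₐ k P.asIdeal), ?_⟩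
  apply PrimeSpectrum.ext
  ext b
  simp only [homToPrime, RingHom.mem_ker]
  show e.symm (Ideal.Quotient.mk _ b) = 0 ↔ b ∈ P.asIdeal
  rw [EmbeddingLike.map_eq_zero_iff]
  exact Ideal.Quotient.eq_zero_iff_mem

lemma card_prime_eq [Module.Finite k B] : Nat.card (PrimeSpectrum B) = Nat.card (B →ₐ[k] k) :=
  (Nat.card_congr (Equiv.ofBijective _ ⟨homToPrime_injective, homToPrime_surjective⟩)).symm

end general

theorem card_fiber (K : Type u) [Field K] (A : Type u) [CommRing A] [Algebra K A]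
    [Module.Finite K A] (Ω : Type u) [Field Ω] [Algebra K Ω] [IsAlgClosed Ω]
    (p : PrimeSpectrum A) :
    Nat.card {φ : A →ₐ[K] Ω //
        (⟨RingHom.ker (φ : A →+* Ω), RingHom.ker_isPrime _⟩ : PrimeSpectrum A) = p} =
      Field.finSepDegree K (IsLocalRing.ResidueField (Localization.AtPrime p.asIdeal)) := by
  haveI : IsArtinianRing A := IsArtinianRing.of_finite K A
  haveI hpm : p.asIdeal.IsMaximal := IsArtinianRing.isMaximal_of_isPrime p.asIdeal
  haveI : Module.Finite K p.asIdeal.ResidueField := Module.Finite.trans A _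
  haveI : Algebra.IsAlgebraic K p.asIdeal.ResidueField := Algebra.IsAlgebraic.of_finite K _
  rw [Field.finSepDegree_eq_of_isAlgClosed K p.asIdeal.ResidueField Ω]
  symm
  let ι : A →ₐ[K] p.asIdeal.ResidueField := IsScalarTower.toAlgHom K A _
  have hιsurj : Function.Surjective ι := Ideal.algebraMap_residueField_surjective p.asIdeal
  have hιker : ∀ a, ι a = 0 ↔ a ∈ p.asIdeal := fun a =>
    Ideal.algebraMap_residueField_eq_zero
  refine Nat.card_congr (Equiv.ofBijective (fun ψ => ⟨ψ.comp ι, ?_⟩) ⟨?_, ?_⟩)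
  · apply PrimeSpectrum.ext
    ext a
    simp only [RingHom.mem_ker]
    show ψ (ι a) = 0 ↔ a ∈ p.asIdeal
    rw [map_eq_zero, hιker]
  · intro ψ₁ ψ₂ h
    have h' : ψ₁.comp ι = ψ₂.comp ι := congrArg Subtype.val h
    apply AlgHom.ext
    intro x
    obtain ⟨a, rfl⟩ := hιsurj x
    exact DFunLike.congr_fun h' a
  · rintro ⟨φ, hφ⟩
    have hφ' : RingHom.ker (φ : A →+* Ω) = p.asIdeal := congrArg PrimeSpectrum.asIdeal hφ
    let e : (A ⧸ p.asIdeal) ≃ₐ[K] p.asIdeal.ResidueField :=
      AlgEquiv.ofBijective (IsScalarTower.toAlgHom K (A ⧸ p.asIdeal) _)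
        p.asIdeal.bijective_algebraMap_quotient_residueField
    have hker : ∀ a ∈ p.asIdeal, φ a = 0 := fun a ha => by
      have : a ∈ RingHom.ker (φ : A →+* Ω) := hφ'.symm ▸ ha
      exact this
    refine ⟨(Ideal.Quotient.liftₐ p.asIdeal φ hker).comp (e.symm : _ →ₐ[K] _), ?_⟩
    apply Subtype.ext
    ext a
    show Ideal.Quotient.liftₐ p.asIdeal φ hker (e.symm (ι a)) = φ a
    have : e.symm (ι a) = Ideal.Quotient.mk _ a := by
      rw [AlgEquiv.symm_apply_eq]; rfl
    rw [this]; rfl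

theorem card_algHom (K : Type u) [Field K] (A : Type u) [CommRing A] [Algebra K A]
    [Module.Finite K A] (Ω : Type u) [Field Ω] [Algebra K Ω] [IsAlgClosed Ω] :
    Nat.card (A →ₐ[K] Ω) = ∑ᶠ p : PrimeSpectrum A,
      Field.finSepDegree K (IsLocalRing.ResidueField (Localization.AtPrime p.asIdeal)) := by
  haveI : IsArtinianRing A := IsArtinianRing.of_finite K A
  haveI : Finite (A →ₐ[K] Ω) := by
    haveI : IsArtinianRing (Ω ⊗[K] A) := IsArtinianRing.of_finite Ω _
    exact Finite.of_injective (fun φ => homToPrime (AlgHom.liftEquiv K Ω A Ω φ))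
      (homToPrime_injective.comp (AlgHom.liftEquiv K Ω A Ω).injective)
  haveI : Fintype (PrimeSpectrum A) := Fintype.ofFinite _
  rw [finsum_eq_sum_of_fintype]
  rw [← Nat.card_congr (Equiv.sigmaFiberEquiv
    (fun φ : A →ₐ[K] Ω =>
      (⟨RingHom.ker (φ : A →+* Ω), RingHom.ker_isPrime _⟩ : PrimeSpectrum A))), Nat.card_sigma]
  exact Finset.sum_congr rfl fun p _ => card_fiber K A Ω p

theorem main (K : Type u) [Field K] (A : Type u) [CommRing A] [Algebra K A] [Module.Finite K A]
    (Ω : Type u) [Field Ω] [Algebra K Ω] [IsAlgClosed Ω] :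
    Nat.card (PrimeSpectrum (Ω ⊗[K] A)) =
        ∑ᶠ p : PrimeSpectrum A, Field.finSepDegree K
          (IsLocalRing.ResidueField (Localization.AtPrime p.asIdeal)) ∧
      Nat.card (A →ₐ[K] Ω) = ∑ᶠ p : PrimeSpectrum A, Field.finSepDegree K
          (IsLocalRing.ResidueField (Localization.AtPrime p.asIdeal)) := by
  have h1 : Nat.card (PrimeSpectrum (Ω ⊗[K] A)) = Nat.card (A →ₐ[K] Ω) := by
    rw [card_prime_eq (k := Ω)]
    exact (Nat.card_congr (AlgHom.liftEquiv K Ω A Ω)).symm
  have h2 := card_algHom K A Ω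
  exact ⟨h1.trans h2, h2⟩

end Groth.Agent.Lib.CardPts
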