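import Mathlib
import Groth.Agent.Lib.CardPts_lead

namespace Groth.Agent.Lib.CardPts2
open scoped TensorProduct

universe u

theorem main (k A k' : Type u) [Field k] [CommRing A] [Algebra k A] [Module.Finite k A]
    [IsLocalRing A] [Field k'] [Algebra k k'] :
    Field.finSepDegree k (IsLocalRing.ResidueField A) =
      ∑ᶠ m : MaximalSpectrum (k' ⊗[k] A),
        Field.finSepDegree k' (IsLocalRing.ResidueField (Localization.AtPrime m.asIdeal)) := by
  haveI : IsArtinianRing A := IsArtinianRing.of_finite k A
  haveI : IsArtinianRing (k' ⊗[k] A) := IsArtinianRing.of_finite k' _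
  haveI : Module.Finite k (IsLocalRing.ResidueField A) :=
    Module.Finite.of_surjective
      (IsScalarTower.toAlgHom k A (IsLocalRing.ResidueField A)).toLinearMap
      IsLocalRing.residue_surjective
  haveI : Algebra.IsAlgebraic k (IsLocalRing.ResidueField A) := Algebra.IsAlgebraic.of_finite k _
  have hL : Field.finSepDegree k (IsLocalRing.ResidueField A) =
      Nat.card (A →ₐ[k] AlgebraicClosure k') := by
    rw [Field.finSepDegree_eq_of_isAlgClosed k (IsLocalRing.ResidueField A) (AlgebraicClosure k')]
    let ι : A →ₐ[k] IsLocalRing.ResidueField A := IsScalarTower.toAlgHom k A _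
    have hι : Function.Surjective ι := IsLocalRing.residue_surjective
    refine Nat.card_congr (Equiv.ofBijective (fun ψ => ψ.comp ι) ⟨?_, ?_⟩)
    · intro ψ₁ ψ₂ h
      apply AlgHom.ext
      intro x
      obtain ⟨a, rfl⟩ := hι x
      exact DFunLike.congr_fun h a
    · intro φ
      have hker : ∀ a ∈ IsLocalRing.maximalIdeal A, φ a = 0 := by
        intro a ha
        haveI : (RingHom.ker (φ : A →+* AlgebraicClosure k')).IsPrime := RingHom.ker_isPrime _
        haveI : (RingHom.ker (φ : A →+* AlgebraicClosure k')).IsMaximal :=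
          IsArtinianRing.isMaximal_of_isPrime _
        have h1 : RingHom.ker (φ : A →+* AlgebraicClosure k') = IsLocalRing.maximalIdeal A :=
          IsLocalRing.eq_maximalIdeal inferInstance
        have h2 : a ∈ RingHom.ker (φ : A →+* AlgebraicClosure k') := h1 ▸ ha
        exact h2
      refine ⟨(Ideal.Quotient.liftₐ (IsLocalRing.maximalIdeal A) φ hker :
        IsLocalRing.ResidueField A →ₐ[k] AlgebraicClosure k'), ?_⟩
      apply AlgHom.ext
      intro a
      rfl
  have hR : ∑ᶠ m : MaximalSpectrum (k' ⊗[k] A), Field.finSepDegree k'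
      (IsLocalRing.ResidueField (Localization.AtPrime m.asIdeal)) =
      Nat.card (A →ₐ[k] AlgebraicClosure k') := by
    have h1 := Groth.Agent.Lib.CardPts.card_algHom k' (k' ⊗[k] A) (AlgebraicClosure k')
    let e : MaximalSpectrum (k' ⊗[k] A) ≃ PrimeSpectrum (k' ⊗[k] A) :=
      Equiv.ofBijective MaximalSpectrum.toPrimeSpectrum
        ⟨MaximalSpectrum.toPrimeSpectrum_injective, fun p =>
          ⟨⟨p.asIdeal, IsArtinianRing.isMaximal_of_isPrime p.asIdeal⟩, rfl⟩⟩
    rw [← finsum_comp_equiv e] at h1
    rw [Nat.card_congr (AlgHom.liftEquiv k k' A (AlgebraicClosure k')), h1]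
    refine finsum_congr (fun m => ?_)
    rfl
  rw [hL, hR]

end Groth.Agent.Lib.CardPts2
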