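import Mathlib
import Groth.Prelude.Def_CartDual
import Groth.Prelude.Def_CartDual2
import Groth.Prelude.Def_Versch

/-!
# Biduality for Cartier duals (helper9)
-/

set_option autoImplicit false
universe u v w
open scoped TensorProduct

namespace CartDualEval9

section
variable (R : Type u) [CommRing R] (A : Type v) [Ring A] [Bialgebra R A]
  [Module.Finite R A] [Module.Projective R A]

theorem eval_bijective : Function.Bijective (CartDual.eval R A) := by
  constructor
  · intro a a' h
    rw [← sub_eq_zero, ← Module.forall_dual_apply_eq_zero_iff R]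
    intro φ
    have h1 := congrArg (fun t : CartDual.D R (CartDual.D R A) => t (WithConv.toConv φ)) h
    simp only [CartDual.eval_apply] at h1
    rw [map_sub, sub_eq_zero]
    exact h1
  · intro y
    obtain ⟨a, ha⟩ := (Module.bijective_dual_eval R A).2
      ((CartDual.toDual R (CartDual.D R A) y) ∘ₗ (CartDual.toDual R A).symm.toLinearMap)
    refine ⟨a, ?_⟩
    apply WithConv.ext
    apply LinearMap.ext
    intro x
    have h1 := LinearMap.congr_fun ha (CartDual.toDual R A x)
    rw [LinearMap.comp_apply] at h1
    simp only [LinearEquiv.coe_coe, LinearEquiv.symm_apply_apply] at h1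
    exact h1

/-- The biduality isomorphism. -/
noncomputable def evalEquiv : A ≃ₐc[R] CartDual.D R (CartDual.D R A) :=
  BialgEquiv.ofBijective (R := R) (A := A) (B := CartDual.D R (CartDual.D R A))
    (CartDual.eval R A) (eval_bijective R A)

theorem evalEquiv_apply (a : A) (x : CartDual.D R A) : evalEquiv R A a x = x a := rfl

theorem apply_evalEquiv_symm (z : CartDual.D R (CartDual.D R A)) (x : CartDual.D R A) :
    x ((evalEquiv R A).symm z) = z x := by
  have h := congrArg (fun t : CartDual.D R (CartDual.D R A) => t x)
    ((evalEquiv R A).apply_symm_apply z)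
  exact h

end

section Pow
variable (p : ℕ) (R : Type u) [CommRing R] (A : Type v) [Ring A] [Bialgebra R A]
  [Module.Finite R A] [Module.Projective R A]

/-- The `p`-power formula passes to the double dual. -/
theorem dual_dual_pow_char
    (hA : ∀ a : A, a ^ p = algebraMap R A ((Coalgebra.counit (R := R) a) ^ p))
    (y : CartDual.D R (CartDual.D R A)) :
    y ^ p = algebraMap R (CartDual.D R (CartDual.D R A)) ((y 1) ^ p) := by
  obtain ⟨a, rfl⟩ := (eval_bijective R A).2 y
  rw [← map_pow, hA, AlgHomClass.commutes]
  rfl

end Pow

end CartDualEval9
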