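import Mathlib
import Groth.Prelude.Def_CartDual2
import Groth.Agent.Lib.CartEtale_helper1
import Groth.Agent.Lib.HopfTrace_helper1

set_option autoImplicit false
set_option maxHeartbeats 1000000

/-!
# étale–étale finite commutative group schemes in characteristic `p` (helper1)
-/

namespace CartEt2H1

open TensorProduct WithConv CartEtH1

universe u

section A

variable {k : Type u} [Field k] {A : Type u} [CommRing A] [HopfAlgebra k A]
  [Coalgebra.IsCocomm k A] [Module.Finite k A]
variable (K : Type u) [Field K] [Algebra k K]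

noncomputable def jjLin : WithConv (A →ₗ[k] k) →ₗ[k] WithConv (A →ₗ[k] K) where
  toFun x := jj K x
  map_add' x y := by
    apply WithConv.ext; apply LinearMap.ext; intro a
    show algebraMap k K ((x + y).ofConv a) = (jj K x + jj K y).ofConv a
    rw [WithConv.ofConv_add, LinearMap.add_apply, map_add, WithConv.ofConv_add, LinearMap.add_apply]
    rfl
  map_smul' c x := by
    apply WithConv.ext; apply LinearMap.ext; intro a
    show algebraMap k K ((c • x).ofConv a) = (c • jj K x).ofConv a
    rw [WithConv.ofConv_smul, LinearMap.smul_apply, WithConv.ofConv_smul, LinearMap.smul_apply,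
      smul_eq_mul, map_mul, Algebra.smul_def]
    rfl

noncomputable def jjAlg : WithConv (A →ₗ[k] k) →ₐ[k] WithConv (A →ₗ[k] K) :=
  AlgHom.ofLinearMap (jjLin K) (map_one (jj K)) (map_mul (jj K))

theorem jjAlg_apply (x : WithConv (A →ₗ[k] k)) (a : A) :
    ((jjAlg (k := k) (A := A) K) x).ofConv a = algebraMap k K (x.ofConv a) := rfl

instance instTower : IsScalarTower k K (WithConv (A →ₗ[k] K)) := by
  constructor; intro c c' f
  apply WithConv.ext; apply LinearMap.ext; intro a
  show ((c • c') • f).ofConv a = (c • (c' • f)).ofConv a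
  simp only [WithConv.ofConv_smul, LinearMap.smul_apply]
  rw [smul_assoc]

noncomputable def phi : K ⊗[k] WithConv (A →ₗ[k] k) →ₐ[K] WithConv (A →ₗ[k] K) :=
  Algebra.TensorProduct.lift (Algebra.ofId K (WithConv (A →ₗ[k] K))) (jjAlg K)
    (fun _ _ => Commute.all _ _)

theorem phi_tmul (c : K) (x : WithConv (A →ₗ[k] k)) :
    (phi (k := k) (A := A) K) (c ⊗ₜ[k] x) = c • (jjAlg (k := k) (A := A) K) x := by
  unfold phi
  rw [Algebra.TensorProduct.lift_tmul, Algebra.smul_def]
  rfl

theorem phi_surjective : Function.Surjective (phi (k := k) (A := A) K) := by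
  intro f
  refine ⟨∑ j, (f.ofConv (Module.finBasis k A j)) ⊗ₜ[k]
    (toConv ((Module.finBasis k A).coord j) : WithConv (A →ₗ[k] k)), ?_⟩
  rw [map_sum]
  simp_rw [phi_tmul]
  apply WithConv.ext; apply LinearMap.ext; intro a
  rw [WithConv.ofConv_sum, LinearMap.sum_apply]
  have h : ∀ j, (f.ofConv (Module.finBasis k A j) •
      (jjAlg (k := k) (A := A) K)
        (toConv ((Module.finBasis k A).coord j) : WithConv (A →ₗ[k] k))).ofConv a =
      f.ofConv (((Module.finBasis k A).coord j a) • Module.finBasis k A j) := by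
    intro j
    rw [WithConv.ofConv_smul, LinearMap.smul_apply, jjAlg_apply, map_smul, smul_eq_mul,
      Algebra.smul_def, mul_comm]
  simp_rw [h]
  rw [← map_sum]
  congr 1
  exact (Module.finBasis k A).sum_repr a

theorem phi_injective : Function.Injective (phi (k := k) (A := A) K) := by
  have h1 : Module.finrank K (K ⊗[k] WithConv (A →ₗ[k] k)) =
      Module.finrank K (WithConv (A →ₗ[k] K)) := by
    rw [Module.finrank_baseChange, (WithConv.linearEquiv k (A →ₗ[k] k)).finrank_eq,
      (WithConv.linearEquiv K (A →ₗ[k] K)).finrank_eq, Module.finrank_linearMap_self,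
      Module.finrank_linearMap_self]
  haveI : Module.Finite K (WithConv (A →ₗ[k] K)) :=
    Module.Finite.equiv (WithConv.linearEquiv K (A →ₗ[k] K)).symm
  haveI : Module.Finite k (WithConv (A →ₗ[k] k)) :=
    Module.Finite.equiv (WithConv.linearEquiv k (A →ₗ[k] k)).symm
  exact (LinearMap.injective_iff_surjective_of_finrank_eq_finrank h1
    (f := (phi (k := k) (A := A) K).toLinearMap)).mpr (phi_surjective K)

variable (p : ℕ) [Fact p.Prime] [CharP k p]

theorem not_dvd_of_etale [IsAlgClosed K] [Algebra.Etale k A]
    [Algebra.Etale k (WithConv (A →ₗ[k] k))] : ¬ p ∣ Module.finrank k A := by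
  classical
  intro hp
  haveI : Fintype (A →ₐ[k] K) := Fintype.ofFinite _
  -- E is reduced
  haveI : IsReduced (K ⊗[k] WithConv (A →ₗ[k] k)) :=
    Algebra.FormallyUnramified.isReduced_of_field K (K ⊗[k] WithConv (A →ₗ[k] k))
  have hred : ∀ x : WithConv (A →ₗ[k] K), x * x = 0 → x = 0 := by
    intro x hx
    obtain ⟨y, rfl⟩ := phi_surjective (k := k) (A := A) K x
    rw [← map_mul] at hx
    have h0 : y * y = 0 := phi_injective (k := k) (A := A) K (by rw [hx, map_zero])
    have : y = 0 := IsNilpotent.eq_zero ⟨2, by rw [pow_two]; exact h0⟩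
    rw [this, map_zero]
  -- the element Λ
  set Λ : WithConv (A →ₗ[k] K) := ∑ g : A →ₐ[k] K, toConv g.toLinearMap with hΛ
  have hmul : ∀ h : A →ₐ[k] K, Λ * toConv h.toLinearMap = Λ := by
    intro h
    rw [hΛ, Finset.sum_mul]
    have hbij : Function.Bijective
        (fun g : A →ₐ[k] K => ((toConv g * toConv h : WithConv (A →ₐ[k] K))).ofConv) := by
      rw [← Finite.injective_iff_bijective]
      intro g g' hgg
      have h1 : (toConv g * toConv h : WithConv (A →ₐ[k] K)) = toConv g' * toConv h :=
        WithConv.ofConv_injective hgg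
      have h2 := (isUnit_point K (toConv h)).mul_left_injective h1
      exact WithConv.toConv_injective h2
    rw [← Function.Bijective.sum_comp hbij (fun g => (toConv g.toLinearMap : WithConv (A →ₗ[k] K)))]
    apply Finset.sum_congr rfl
    intro g _
    exact (AlgHom.toLinearMap_convMul (toConv g) (toConv h)).symm
  have hcardN : Nat.card (A →ₐ[k] K) = Module.finrank k A := card_points K
  haveI : CharP K p := charP_of_injective_algebraMap (algebraMap k K).injective p
  have hsq : Λ * Λ = 0 := by
    conv_lhs => rw [hΛ, Finset.mul_sum]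
    simp_rw [← hΛ, hmul]
    rw [Finset.sum_const, Finset.card_univ, ← Nat.card_eq_fintype_card, hcardN]
    obtain ⟨m, hm⟩ := hp
    rw [hm, ← Nat.cast_smul_eq_nsmul K, Nat.cast_mul, CharP.cast_eq_zero K p, zero_mul, zero_smul]
  have hΛ0 := hred Λ hsq
  have hli := linearIndependent_algHom_toLinearMap k A K
  rw [Fintype.linearIndependent_iff] at hli
  have h1 : ∑ g : A →ₐ[k] K, (1 : K) • g.toLinearMap = 0 := by
    simp_rw [one_smul]
    have := congrArg WithConv.ofConv hΛ0
    rw [hΛ, WithConv.ofConv_sum] at this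
    exact this
  have h2 := hli (fun _ => 1) h1 ((Algebra.ofId k K).comp (Bialgebra.counitAlgHom k A))
  exact one_ne_zero h2

end A

end CartEt2H1
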