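import Mathlib
import Groth.Prelude.Def_CartDual
import Groth.Prelude.Def_CartDual2

/-!
# Functoriality of invariant linear forms under a bialgebra map (helper1, S16079)
-/

open scoped TensorProduct

universe u v

namespace Groth.Agent.Lib.CartInvarH1

/-- An idempotent of a local ring is `0` or `1`. -/
theorem idem_local {L : Type*} [CommRing L] [IsLocalRing L] {e : L} (he : IsIdempotentElem e) :
    e = 0 ∨ e = 1 := by
  rcases IsLocalRing.isUnit_or_isUnit_one_sub_self e with h | h
  · right
    have h1 : e * e = e * 1 := by rw [mul_one]; exact he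
    exact h.mul_left_cancel h1
  · left
    have h1 : (1 - e) * e = (1 - e) * 0 := by rw [mul_zero, sub_mul, one_mul, he.eq, sub_self]
    exact h.mul_left_cancel h1

/-- Minimality of a "local" idempotent among idempotents not killed by an augmentation. -/
theorem mul_eq_of_local {C : Type*} [CommRing C] {R : Type*} [CommRing R] [Nontrivial R] (ε : C →+* R)
    (f g : C) (hf : IsIdempotentElem f) (hg : IsIdempotentElem g)
    [IsLocalRing (C ⧸ Ideal.span ({1 - f} : Set C))] (hεf : ε f = 1) (hεg : ε g = 1) :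
    f * g = f := by
  have hg' : IsIdempotentElem (Ideal.Quotient.mk (Ideal.span ({1 - f} : Set C)) g) := by
    unfold IsIdempotentElem; rw [← map_mul, hg.eq]
  rcases idem_local hg' with h | h
  · exfalso
    rw [Ideal.Quotient.eq_zero_iff_mem, Ideal.mem_span_singleton'] at h
    obtain ⟨c, hc⟩ := h
    have h0 : f * g = 0 := by
      rw [← hc]
      calc f * (c * (1 - f)) = c * (f - f * f) := by ring
        _ = 0 := by rw [hf.eq, sub_self, mul_zero]
    have h1 := congrArg ε h0
    rw [map_mul, hεf, hεg, map_zero, one_mul] at h1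
    exact one_ne_zero h1
  · have h' : Ideal.Quotient.mk (Ideal.span ({1 - f} : Set C)) (1 - g) = 0 := by
      rw [map_sub, map_one, h, sub_self]
    rw [Ideal.Quotient.eq_zero_iff_mem, Ideal.mem_span_singleton'] at h'
    obtain ⟨c, hc⟩ := h'
    have h0 : f * (1 - g) = 0 := by
      rw [← hc]
      calc f * (c * (1 - f)) = c * (f - f * f) := by ring
        _ = 0 := by rw [hf.eq, sub_self, mul_zero]
    have h2 : f - f * g = 0 := by rw [← h0]; ring
    exact (sub_eq_zero.mp h2).symm

/-- Lifting a bialgebra map through the quotient by a biideal on which it vanishes. -/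
theorem exists_lift {R : Type*} [CommRing R] {B C : Type*} [Ring B] [Bialgebra R B] [Ring C]
    [Bialgebra R C] (I : Ideal B) [I.IsTwoSided] [(I.restrictScalars R).IsCoideal]
    (χ : B →ₐc[R] C) (h : ∀ b ∈ I, χ b = 0) :
    ∃ χ₀ : (B ⧸ I) →ₐc[R] C, ∀ b, χ₀ (Ideal.Quotient.mk I b) = χ b := by
  let f : (B ⧸ I) →ₐ[R] C := Ideal.Quotient.liftₐ I (χ : B →ₐ[R] C) h
  have hf : ∀ b, f (Ideal.Quotient.mk I b) = χ b := fun b => rfl
  refine ⟨BialgHom.ofAlgHom f ?_ ?_, fun b => hf b⟩
  · apply Ideal.Quotient.algHom_ext R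
    apply AlgHom.ext; intro b
    change Coalgebra.counit (R := R) (χ b) = Coalgebra.counit (R := R) b
    exact CoalgHomClass.counit_comp_apply χ b
  · apply Ideal.Quotient.algHom_ext R
    apply AlgHom.ext; intro b
    change Algebra.TensorProduct.map f f (TensorProduct.map (Ideal.Quotient.mkₐ R I).toLinearMap
      (Ideal.Quotient.mkₐ R I).toLinearMap (Coalgebra.comul (R := R) b)) = Coalgebra.comul (R := R) (χ b)
    rw [← CoalgHomClass.map_comp_comul_apply χ b]
    generalize Coalgebra.comul (R := R) b = t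
    induction t using TensorProduct.induction_on with
    | zero => simp
    | tmul a b =>
      simp only [TensorProduct.map_tmul, Algebra.TensorProduct.map_tmul, AlgHom.toLinearMap_apply,
        Ideal.Quotient.mkₐ_eq_mk, hf]
      rfl
    | add t t' ht ht' => simp only [map_add, ht, ht']

/-- The induced bialgebra map on the "unit components". -/
theorem exists_psi0 {R : Type u} [CommRing R] [Nontrivial R] {A B : Type v} [CommRing A]
    [Bialgebra R A] [CommRing B] [Bialgebra R B]
    (ψ : B →ₐc[R] A) (I : Ideal A) [(I.restrictScalars R).IsCoideal] [IsLocalRing (A ⧸ I)]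
    (eB : B) (heB : IsIdempotentElem eB) (heBε : Bialgebra.counitAlgHom R B eB = 1)
    [((Ideal.span ({1 - eB} : Set B)).restrictScalars R).IsCoideal] :
    ∃ ψ0 : (B ⧸ Ideal.span ({1 - eB} : Set B)) →ₐc[R] (A ⧸ I),
      ∀ b, ψ0 (Ideal.Quotient.mk _ b) = Ideal.Quotient.mk I (ψ b) := by
  set χ : B →ₐc[R] A ⧸ I := (Bialgebra.Quotient.mkBialgHom I).comp ψ with hχ
  have hχa : ∀ b, χ b = Ideal.Quotient.mk I (ψ b) := fun b => rfl
  have hid : IsIdempotentElem (χ eB) := by unfold IsIdempotentElem; rw [← map_mul, heB.eq]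
  have h1 : χ eB = 1 := by
    rcases idem_local hid with h | h
    · exfalso
      have h2 : Coalgebra.counit (R := R) (χ eB) = Coalgebra.counit (R := R) eB :=
        CoalgHomClass.counit_comp_apply χ eB
      rw [h, map_zero] at h2
      have h3 : Coalgebra.counit (R := R) eB = 1 := heBε
      rw [h3] at h2
      exact zero_ne_one h2
    · exact h
  obtain ⟨χ0, hχ0⟩ := exists_lift (Ideal.span ({1 - eB} : Set B)) χ (by
    intro b hb
    rw [Ideal.mem_span_singleton'] at hb
    obtain ⟨c, rfl⟩ := hb
    rw [map_mul, map_sub, map_one, h1, sub_self, mul_zero])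
  exact ⟨χ0, fun b => (hχ0 b).trans (hχa b)⟩

/-- Invariance transfers along a bialgebra map `F` when `fB * F fA = fB`. -/
theorem transfer {R : Type*} [CommRing R] {D E : Type*} [Ring D] [Bialgebra R D] [Ring E]
    [Bialgebra R E] (F : D →ₐc[R] E) (fA : D) (fB : E) (h : fB * F fA = fB) (x : D)
    (hx : LinearMap.lTensor D (LinearMap.mulLeft R fA) (Coalgebra.comul (R := R) x) = x ⊗ₜ[R] fA) :
    LinearMap.lTensor E (LinearMap.mulLeft R fB) (Coalgebra.comul (R := R) (F x)) =
      F x ⊗ₜ[R] fB := by
  have h1 : Coalgebra.comul (R := R) (F x) =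
      TensorProduct.map (F : D →ₗ[R] E) (F : D →ₗ[R] E) (Coalgebra.comul (R := R) x) :=
    (CoalgHomClass.map_comp_comul_apply F x).symm
  have h2 : ∀ d : D, fB * F d = fB * F (fA * d) := by
    intro d
    rw [map_mul, ← mul_assoc, h]
  have h3 : ∀ t : D ⊗[R] D, LinearMap.lTensor E (LinearMap.mulLeft R fB)
      (TensorProduct.map (F : D →ₗ[R] E) (F : D →ₗ[R] E) t) =
      TensorProduct.map (F : D →ₗ[R] E) ((LinearMap.mulLeft R fB) ∘ₗ (F : D →ₗ[R] E))
        (LinearMap.lTensor D (LinearMap.mulLeft R fA) t) := by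
    intro t
    induction t using TensorProduct.induction_on with
    | zero => simp
    | tmul a b =>
      simp only [TensorProduct.map_tmul, LinearMap.lTensor_tmul, LinearMap.comp_apply,
        LinearMap.mulLeft_apply]
      congr 1
      exact h2 b
    | add t t' ht ht' => simp only [map_add, ht, ht']
  rw [h1, h3, hx]
  simp only [TensorProduct.map_tmul, LinearMap.comp_apply, LinearMap.mulLeft_apply]
  congr 1

/-- Assembly on the unit components. -/
theorem assembly {R : Type u} [CommRing R] [Nontrivial R] {A0 B0 : Type v}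
    [CommRing A0] [Bialgebra R A0] [Coalgebra.IsCocomm R A0] [Module.Finite R A0]
    [Module.Projective R A0]
    [CommRing B0] [Bialgebra R B0] [Coalgebra.IsCocomm R B0] [Module.Finite R B0]
    [Module.Projective R B0]
    (ψ0 : B0 →ₐc[R] A0)
    (fA : CartDual.D R A0) (hfA : IsIdempotentElem fA)
    (hfAε : Bialgebra.counitAlgHom R (CartDual.D R A0) fA = 1)
    (fB : CartDual.D R B0) (hfB : IsIdempotentElem fB)
    (hfBε : Bialgebra.counitAlgHom R (CartDual.D R B0) fB = 1)
    [IsLocalRing (CartDual.D R B0 ⧸ Ideal.span ({1 - fB} : Set (CartDual.D R B0)))]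
    (b0 : B0)
    (hb : ∀ y : CartDual.D R B0, LinearMap.lTensor (CartDual.D R B0) (LinearMap.mulLeft R fB)
      (Coalgebra.comul (R := R) y) = y ⊗ₜ[R] fB → y b0 = 0)
    (x : CartDual.D R A0)
    (hx : LinearMap.lTensor (CartDual.D R A0) (LinearMap.mulLeft R fA)
      (Coalgebra.comul (R := R) x) = x ⊗ₜ[R] fA) :
    x (ψ0 b0) = 0 := by
  set F := CartDual.transpose R ψ0 with hF
  have hg : IsIdempotentElem (F fA) := by unfold IsIdempotentElem; rw [← map_mul, hfA.eq]
  have hεg : Bialgebra.counitAlgHom R (CartDual.D R B0) (F fA) = 1 := by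
    rw [← hfAε]; exact CoalgHomClass.counit_comp_apply F fA
  have key : fB * F fA = fB :=
    mul_eq_of_local (Bialgebra.counitAlgHom R (CartDual.D R B0)).toRingHom fB (F fA) hfB hg
      hfBε hεg
  have h1 := transfer F fA fB key x hx
  have h0 := hb (F x) h1
  rwa [CartDual.transpose_apply] at h0

end Groth.Agent.Lib.CartInvarH1
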