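import Mathlib
import Groth.Prelude.Def_CartDual
import Groth.Prelude.Def_CartDual2
import Groth.Agent.Lib.CartInvar_helper1

/-!
# Maximality of `G_μ` among connected multiplicative subgroups (helper1, S15896)
-/

open scoped TensorProduct

universe u v

namespace Groth.Agent.Lib.CartInvarH1

/-- Rigidity of algebra maps from an unramified algebra to a local ring: two maps that agree modulo the
maximal ideal are equal. -/
theorem algHom_eq_of_sub_mem_maximalIdeal {R : Type*} [CommRing R] {E : Type*} [CommRing E]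
    [Algebra R E] [Algebra.FormallyUnramified R E] [Algebra.EssFiniteType R E] {L : Type*}
    [CommRing L] [IsLocalRing L] [Algebra R L]
    (φ1 φ2 : E →ₐ[R] L) (h : ∀ s, φ2 s - φ1 s ∈ IsLocalRing.maximalIdeal L) : φ1 = φ2 := by
  obtain ⟨t, ht⟩ : ∃ t, t = Algebra.FormallyUnramified.elem R E := ⟨_, rfl⟩
  have ht1 : ∀ s : E, ((1 : E) ⊗ₜ[R] s - s ⊗ₜ[R] (1 : E)) * t = 0 := by
    intro s; rw [ht]; exact Algebra.FormallyUnramified.one_tmul_sub_tmul_one_mul_elem s
  have ht2 : Algebra.TensorProduct.lmul' R t = 1 := by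
    rw [ht]; exact Algebra.FormallyUnramified.lmul_elem
  obtain ⟨Φ, hΦ⟩ : ∃ Φ : E ⊗[R] E →ₐ[R] L, Φ = Algebra.TensorProduct.productMap φ1 φ2 := ⟨_, rfl⟩
  have hΦ1 : ∀ a b, Φ (a ⊗ₜ b) = φ1 a * φ2 b := fun a b => by
    rw [hΦ]; exact Algebra.TensorProduct.productMap_apply_tmul φ1 φ2 a b
  have hm : ∀ x : E ⊗[R] E, Φ x - φ1 (Algebra.TensorProduct.lmul' R x) ∈ IsLocalRing.maximalIdeal L := by
    intro x
    induction x using TensorProduct.induction_on with
    | zero => simp
    | tmul a b =>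
      rw [hΦ1, Algebra.TensorProduct.lmul'_apply_tmul, map_mul, ← mul_sub]
      exact Ideal.mul_mem_left _ _ (h b)
    | add x y hx hy =>
      rw [map_add, map_add, map_add, add_sub_add_comm]
      exact Ideal.add_mem _ hx hy
  have hxt : ∀ x : E ⊗[R] E, x * t = (Algebra.TensorProduct.lmul' R x ⊗ₜ[R] (1 : E)) * t := by
    intro x
    induction x using TensorProduct.induction_on with
    | zero => simp
    | tmul a b =>
      rw [Algebra.TensorProduct.lmul'_apply_tmul]
      have h1 : ((1 : E) ⊗ₜ[R] b) * t = (b ⊗ₜ[R] (1 : E)) * t := by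
        have := ht1 b
        rwa [sub_mul, sub_eq_zero] at this
      calc (a ⊗ₜ[R] b) * t = (a ⊗ₜ[R] (1 : E)) * (((1 : E) ⊗ₜ[R] b) * t) := by
            rw [← mul_assoc, Algebra.TensorProduct.tmul_mul_tmul, mul_one, one_mul]
        _ = (a ⊗ₜ[R] (1 : E)) * ((b ⊗ₜ[R] (1 : E)) * t) := by rw [h1]
        _ = ((a * b) ⊗ₜ[R] (1 : E)) * t := by
            rw [← mul_assoc, Algebra.TensorProduct.tmul_mul_tmul, mul_one]
    | add x y hx hy => rw [add_mul, hx, hy, map_add, TensorProduct.add_tmul, add_mul]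
  have htt : t * t = t := by
    rw [hxt t, ht2, ← Algebra.TensorProduct.one_def, one_mul]
  have hu : IsIdempotentElem (Φ t) := by unfold IsIdempotentElem; rw [← map_mul, htt]
  have hu1 : Φ t = 1 := by
    rcases idem_local hu with h0 | h0
    · exfalso
      have h2 := hm t
      rw [h0, ht2, map_one, zero_sub] at h2
      have h1 : (1 : L) ∈ IsLocalRing.maximalIdeal L := neg_mem_iff.mp h2
      exact (IsLocalRing.maximalIdeal.isMaximal L).ne_top ((Ideal.eq_top_iff_one _).mpr h1)
    · exact h0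
  apply AlgHom.ext; intro s
  have h1 : Φ (((1 : E) ⊗ₜ[R] s - s ⊗ₜ[R] (1 : E)) * t) = 0 := by rw [ht1, map_zero]
  rw [map_mul, hu1, mul_one, map_sub, hΦ1, hΦ1, map_one, map_one, one_mul, mul_one,
    sub_eq_zero] at h1
  exact h1.symm

/-- A bialgebra map from an unramified bialgebra lands, after multiplying by the "unit component"
idempotent, in the scalars. -/
theorem absorb {R : Type u} [CommRing R] [Nontrivial R] {D E : Type v} [CommRing D] [Bialgebra R D]
    [CommRing E] [Bialgebra R E] [Algebra.FormallyUnramified R E] [Algebra.EssFiniteType R E]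
    (F : E →ₐc[R] D) (e' : D) (he' : IsIdempotentElem e')
    (hε' : Bialgebra.counitAlgHom R D e' = 1)
    [IsLocalRing (D ⧸ Ideal.span ({1 - e'} : Set D))] (y : E) :
    e' * F y = (Coalgebra.counit (R := R) y) • e' := by
  obtain ⟨I, hI⟩ : ∃ I : Ideal D, I = Ideal.span ({1 - e'} : Set D) := ⟨_, rfl⟩
  haveI : IsLocalRing (D ⧸ I) := by rw [hI]; infer_instance
  have hkill : ∀ a ∈ I, Bialgebra.counitAlgHom R D a = 0 := by
    intro a ha
    rw [hI, Ideal.mem_span_singleton'] at ha
    obtain ⟨c, rfl⟩ := ha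
    rw [map_mul, map_sub, map_one, hε', sub_self, mul_zero]
  let εbar : (D ⧸ I) →ₐ[R] R := Ideal.Quotient.liftₐ I (Bialgebra.counitAlgHom R D) hkill
  let φ1 : E →ₐ[R] (D ⧸ I) := (Ideal.Quotient.mkₐ R I).comp (F : E →ₐ[R] D)
  let φ2 : E →ₐ[R] (D ⧸ I) := (Algebra.ofId R (D ⧸ I)).comp (Bialgebra.counitAlgHom R E)
  have hker : RingHom.ker εbar ≤ IsLocalRing.maximalIdeal (D ⧸ I) := by
    apply IsLocalRing.le_maximalIdeal
    rw [Ne, Ideal.eq_top_iff_one, RingHom.mem_ker, map_one]
    exact one_ne_zero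
  have h12 : φ1 = φ2 := by
    apply algHom_eq_of_sub_mem_maximalIdeal
    intro s
    apply hker
    rw [RingHom.mem_ker, map_sub]
    have a1 : εbar (φ2 s) = Coalgebra.counit (R := R) s := by
      change εbar (algebraMap R (D ⧸ I) (Coalgebra.counit (R := R) s)) = _
      rw [AlgHom.commutes]; rfl
    have a2 : εbar (φ1 s) = Coalgebra.counit (R := R) s := by
      change Coalgebra.counit (R := R) (F s) = _
      exact CoalgHomClass.counit_comp_apply F s
    rw [a1, a2, sub_self]
  have h3 : Ideal.Quotient.mk I (F y) =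
      Ideal.Quotient.mk I ((Coalgebra.counit (R := R) y) • (1 : D)) := by
    have h4 := AlgHom.congr_fun h12 y
    change Ideal.Quotient.mk I (F y) = algebraMap R (D ⧸ I) (Coalgebra.counit (R := R) y) at h4
    rw [h4, Algebra.algebraMap_eq_smul_one]; rfl
  rw [Ideal.Quotient.eq, hI, Ideal.mem_span_singleton'] at h3
  obtain ⟨c, hc⟩ := h3
  have h4 : e' * (F y - (Coalgebra.counit (R := R) y) • (1 : D)) = 0 := by
    rw [← hc]
    calc e' * (c * (1 - e')) = c * (e' - e' * e') := by ring
      _ = 0 := by rw [he'.eq, sub_self, mul_zero]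
  rw [mul_sub, sub_eq_zero, mul_smul_comm, mul_one] at h4
  exact h4

/-- Elements in the image of a bialgebra map satisfying the absorption property are invariant. -/
theorem invariant_of_absorb {R : Type*} [CommRing R] {D E : Type*} [Ring D] [Bialgebra R D] [Ring E]
    [Bialgebra R E] (F : E →ₐc[R] D) (e' : D)
    (h : ∀ y : E, e' * F y = (Coalgebra.counit (R := R) y) • e') (y : E) :
    LinearMap.lTensor D (LinearMap.mulLeft R e') (Coalgebra.comul (R := R) (F y)) =
      F y ⊗ₜ[R] e' := by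
  have h1 : Coalgebra.comul (R := R) (F y) =
      TensorProduct.map (F : E →ₗ[R] D) (F : E →ₗ[R] D) (Coalgebra.comul (R := R) y) :=
    (CoalgHomClass.map_comp_comul_apply F y).symm
  have h3 : ∀ t : E ⊗[R] E, LinearMap.lTensor D (LinearMap.mulLeft R e')
      (TensorProduct.map (F : E →ₗ[R] D) (F : E →ₗ[R] D) t) =
      TensorProduct.map (F : E →ₗ[R] D) (LinearMap.toSpanSingleton R D e')
        (LinearMap.lTensor E (Coalgebra.counit (R := R) (A := E)) t) := by
    intro t
    induction t using TensorProduct.induction_on with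
    | zero => simp
    | tmul a b =>
      simp only [TensorProduct.map_tmul, LinearMap.lTensor_tmul, LinearMap.mulLeft_apply,
        LinearMap.toSpanSingleton_apply]
      congr 1
      exact h b
    | add t t' ht ht' => simp only [map_add, ht, ht']
  rw [h1, h3, Coalgebra.lTensor_counit_comul]
  simp only [TensorProduct.map_tmul, LinearMap.toSpanSingleton_apply, one_smul]
  rfl

theorem main15896 (R : Type u) [CommRing R] [Nontrivial R]
    (A : Type u) [CommRing A] [HopfAlgebra R A] [Coalgebra.IsCocomm R A]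
    [Module.Finite R A] [Module.Projective R A] (e : A) (he : IsIdempotentElem e)
    (hε : Bialgebra.counitAlgHom R A e = 1) [(Ideal.span ({1 - e} : Set A)).IsHopfIdeal R] [IsLocalRing (A ⧸ Ideal.span ({1 - e} : Set A))]
    [Module.Projective R (A ⧸ Ideal.span ({1 - e} : Set A))] [Coalgebra.IsCocomm R (A ⧸ Ideal.span ({1 - e} : Set A))]
    (e' : CartDual.D R (A ⧸ Ideal.span ({1 - e} : Set A))) (he' : IsIdempotentElem e')
    (hε' : Bialgebra.counitAlgHom R (CartDual.D R (A ⧸ Ideal.span ({1 - e} : Set A))) e' = 1)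
    [IsLocalRing (CartDual.D R (A ⧸ Ideal.span ({1 - e} : Set A)) ⧸ Ideal.span ({1 - e'} : Set (CartDual.D R (A ⧸ Ideal.span ({1 - e} : Set A)))))]
    (J : Ideal A) [J.IsHopfIdeal R] [IsLocalRing (A ⧸ J)] [Module.Projective R (A ⧸ J)]
    [Coalgebra.IsCocomm R (A ⧸ J)] [Algebra.Etale R (CartDual.D R (A ⧸ J))]
    (a : A) (ha : ∀ x : CartDual.D R (A ⧸ Ideal.span ({1 - e} : Set A)), LinearMap.lTensor (CartDual.D R (A ⧸ Ideal.span ({1 - e} : Set A))) (LinearMap.mulLeft R e') (Coalgebra.comul (R := R) x) = x ⊗ₜ[R] e' → x (Ideal.Quotient.mk (Ideal.span ({1 - e} : Set A)) a) = 0) :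
    a ∈ J := by
  obtain ⟨ψ0, hψ0⟩ := exists_psi0 (R := R) (BialgHom.id R A) J e he hε
  have habs := fun y => absorb (CartDual.transpose R ψ0) e' he' hε' y
  have hinv := fun y => invariant_of_absorb (CartDual.transpose R ψ0) e' habs y
  have h0 : ∀ φ : Module.Dual R (A ⧸ J), φ (Ideal.Quotient.mk J a) = 0 := by
    intro φ
    have h1 := ha (CartDual.transpose R ψ0 (WithConv.toConv φ)) (hinv _)
    rw [CartDual.transpose_apply, hψ0] at h1
    exact h1
  have h2 := (Module.forall_dual_apply_eq_zero_iff R _).mp h0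
  exact Ideal.Quotient.eq_zero_iff_mem.mp h2

end Groth.Agent.Lib.CartInvarH1
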