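import Mathlib

/-!
# Regular elements and Engel subalgebras under base change (helper1)

Field-level facts used for relative Cartan subalgebras (SGA3 XIV 2):

* `ad_tmul_pow_tmul`, `tmul_mem_engel`: `ad (1 ⊗ x) ^ n (1 ⊗ y) = 1 ⊗ ad x ^ n y`.
* `rank_baseChange`, `isRegular_tmul_iff`: the nilpotent rank and regularity are invariant under
  extension of the base field.
* `engel_le_engel_of_isRegular`: over ANY field (no cardinality hypothesis), if `x` is regular then
  `engel K x ≤ engel K y` for every `y ∈ engel K x`; hence `engel K x` is nilpotent.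
* `isRegular_equiv_iff`: regularity is invariant under automorphisms.
-/

set_option autoImplicit false
universe u
open scoped TensorProduct
open Module

namespace Groth.Agent.Lib.CartanRelH1

section BaseChange

variable {R : Type*} [CommRing R] (A : Type*) [CommRing A] [Algebra R A]
  {L : Type*} [LieRing L] [LieAlgebra R L]

theorem ad_tmul_pow_tmul (x y : L) (n : ℕ) :
    ((LieAlgebra.ad A (A ⊗[R] L) ((1 : A) ⊗ₜ[R] x)) ^ n) ((1 : A) ⊗ₜ[R] y)
      = (1 : A) ⊗ₜ[R] (((LieAlgebra.ad R L x) ^ n) y) := by
  induction n with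
  | zero => simp
  | succ n ih =>
    rw [pow_succ', Module.End.mul_apply, ih, pow_succ', Module.End.mul_apply,
      LieAlgebra.ad_apply, LieAlgebra.ad_apply, LieAlgebra.ExtendScalars.bracket_tmul, mul_one]

theorem tmul_mem_engel {x y : L} (hy : y ∈ LieSubalgebra.engel R x) :
    (1 : A) ⊗ₜ[R] y ∈ LieSubalgebra.engel A ((1 : A) ⊗ₜ[R] x) := by
  rw [LieSubalgebra.mem_engel_iff] at hy ⊢
  obtain ⟨n, hn⟩ := hy
  exact ⟨n, by rw [ad_tmul_pow_tmul, hn, TensorProduct.tmul_zero]⟩

end BaseChange

section MapAd

variable {R : Type*} [CommRing R] {L₁ L₂ : Type*} [LieRing L₁] [LieRing L₂]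
  [LieAlgebra R L₁] [LieAlgebra R L₂]

theorem map_ad_pow (j : L₁ →ₗ[R] L₂) (hj : ∀ x y, j ⁅x, y⁆ = ⁅j x, j y⁆) (w v : L₁) (n : ℕ) :
    ((LieAlgebra.ad R L₂ (j w)) ^ n) (j v) = j (((LieAlgebra.ad R L₁ w) ^ n) v) := by
  induction n with
  | zero => simp
  | succ n ih =>
    rw [pow_succ', Module.End.mul_apply, ih, pow_succ', Module.End.mul_apply,
      LieAlgebra.ad_apply, LieAlgebra.ad_apply, hj]

end MapAd

section Rank

attribute [local instance 100] LieRing.ofAssociativeRing

variable (K : Type*) [Field K] (K' : Type*) [Field K'] [Algebra K K']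
  (L : Type*) [LieRing L] [LieAlgebra K L] [Module.Finite K L]

theorem ad_toLinearMap_baseChange :
    (LieAlgebra.ad K' (K' ⊗[K] L)).toLinearMap =
      LinearMap.tensorProduct K K' L L ∘ₗ (LieAlgebra.ad K L).toLinearMap.baseChange K' := by
  apply TensorProduct.AlgebraTensorModule.ext
  intro a x
  apply TensorProduct.AlgebraTensorModule.ext
  intro b y
  simp [LinearMap.tensorProduct, TensorProduct.smul_tmul']

theorem natTrailingDegree_map_of_injective {S T : Type*} [Semiring S] [Semiring T] (f : S →+* T)
    (hf : Function.Injective f) (p : Polynomial S) :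
    (p.map f).natTrailingDegree = p.natTrailingDegree := by
  apply Polynomial.natTrailingDegree_eq_of_trailingDegree_eq
  unfold Polynomial.trailingDegree
  rw [Polynomial.support_map_of_injective _ hf]

theorem rank_baseChange :
    LieAlgebra.rank K' (K' ⊗[K] L) = LieAlgebra.rank K L := by
  classical
  let b := Module.finBasis K L
  rw [LieAlgebra.rank_eq_natTrailingDegree K' (K' ⊗[K] L) (Algebra.TensorProduct.basis K' b),
    LieAlgebra.rank_eq_natTrailingDegree K L b, ad_toLinearMap_baseChange,
    LinearMap.polyCharpoly_baseChange]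
  exact natTrailingDegree_map_of_injective _
    (MvPolynomial.map_injective _ (algebraMap K K').injective) _

variable {L}

theorem isRegular_tmul_iff (x : L) :
    LieAlgebra.IsRegular K' ((1 : K') ⊗ₜ[K] x) ↔ LieAlgebra.IsRegular K x := by
  rw [LieAlgebra.isRegular_iff_natTrailingDegree_charpoly_eq_rank,
    LieAlgebra.isRegular_iff_natTrailingDegree_charpoly_eq_rank, rank_baseChange]
  have h : LieAlgebra.ad K' (K' ⊗[K] L) ((1 : K') ⊗ₜ[K] x) = (LieAlgebra.ad K L x).baseChange K' :=
    LieModule.toEnd_baseChange K K' L L x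
  rw [h, LinearMap.charpoly_baseChange,
    natTrailingDegree_map_of_injective _ (algebraMap K K').injective]

theorem eq_zero_of_one_tmul_eq_zero {w : L} (h : (1 : K') ⊗ₜ[K] w = 0) : w = 0 := by
  have hinj := Module.Flat.tensorProduct_mk_injective (R := K) (S := K') (M := L)
  apply hinj
  simpa using h

end Rank

section Engel

open LieAlgebra LieSubalgebra Cardinal

variable (K : Type*) [Field K] {L : Type*} [LieRing L] [LieAlgebra K L] [Module.Finite K L]

/-- Barnes' lemma applied to a regular element, when the field is big enough. -/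
theorem engel_le_engel_of_isRegular_of_card (h : finrank K L ≤ #K) (x : L)
    (hx : LieAlgebra.IsRegular K x) (y : L) (hy : y ∈ engel K x) : engel K x ≤ engel K y := by
  set Ex : {engel K z | z ∈ engel K x} := ⟨engel K x, x, self_mem_engel _ _, rfl⟩
  suffices IsBot Ex from @this ⟨engel K y, y, hy, rfl⟩
  apply LieAlgebra.engel_isBot_of_isMin h (engel K x) Ex le_rfl
  rintro ⟨_, y, hy, rfl⟩ hyx
  suffices finrank K (engel K x) ≤ finrank K (engel K y) by
    suffices engel K y = engel K x from this.ge
    apply LieSubalgebra.toSubmodule_injective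
    exact Submodule.eq_of_le_of_finrank_le hyx this
  rw [(isRegular_iff_finrank_engel_eq_rank K x).mp hx]
  apply rank_le_finrank_engel

/-- Over any field: the Engel subalgebra of a regular element is contained in the Engel subalgebra
of each of its elements. -/
theorem engel_le_engel_of_isRegular (x : L) (hx : LieAlgebra.IsRegular K x) (y : L)
    (hy : y ∈ engel K x) : engel K x ≤ engel K y := by
  have hx' : LieAlgebra.IsRegular (AlgebraicClosure K) ((1 : AlgebraicClosure K) ⊗ₜ[K] x) :=
    (isRegular_tmul_iff K (AlgebraicClosure K) x).mpr hx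
  have hcard : finrank (AlgebraicClosure K) (AlgebraicClosure K ⊗[K] L) ≤ #(AlgebraicClosure K) :=
    natCast_le_aleph0.trans <| Cardinal.infinite_iff.mp inferInstance
  have key := engel_le_engel_of_isRegular_of_card (AlgebraicClosure K) hcard _ hx'
    ((1 : AlgebraicClosure K) ⊗ₜ[K] y) (tmul_mem_engel (AlgebraicClosure K) hy)
  intro z hz
  have hz' := key (tmul_mem_engel (AlgebraicClosure K) hz)
  rw [LieSubalgebra.mem_engel_iff] at hz' ⊢
  obtain ⟨n, hn⟩ := hz'
  refine ⟨n, ?_⟩
  rw [ad_tmul_pow_tmul] at hn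
  exact eq_zero_of_one_tmul_eq_zero K (AlgebraicClosure K) hn

/-- The Engel subalgebra of a regular element is a nilpotent Lie algebra (over any field). -/
theorem isNilpotent_engel_of_isRegular (x : L) (hx : LieAlgebra.IsRegular K x) :
    LieRing.IsNilpotent (engel K x) :=
  LieSubalgebra.isNilpotent_of_forall_le_engel (engel K x)
    (fun y hy => engel_le_engel_of_isRegular K x hx y hy)

/-- Regularity is invariant under bracket-preserving linear automorphisms. -/
theorem isRegular_equiv_iff (e : L ≃ₗ[K] L) (he : ∀ x y, e ⁅x, y⁆ = ⁅e x, e y⁆) (x : L) :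
    LieAlgebra.IsRegular K (e x) ↔ LieAlgebra.IsRegular K x := by
  rw [LieAlgebra.isRegular_iff_natTrailingDegree_charpoly_eq_rank,
    LieAlgebra.isRegular_iff_natTrailingDegree_charpoly_eq_rank]
  have h : LieAlgebra.ad K L (e x) = e.conj (LieAlgebra.ad K L x) := by
    ext y
    rw [LinearEquiv.conj_apply_apply, LieAlgebra.ad_apply, LieAlgebra.ad_apply, he,
      LinearEquiv.apply_symm_apply]
  rw [h, LinearEquiv.charpoly_conj]

theorem engel_map_equiv (e : L ≃ₗ[K] L) (he : ∀ x y, e ⁅x, y⁆ = ⁅e x, e y⁆) (x z : L) :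
    e z ∈ engel K (e x) ↔ z ∈ engel K x := by
  rw [LieSubalgebra.mem_engel_iff, LieSubalgebra.mem_engel_iff]
  constructor
  · rintro ⟨n, hn⟩
    refine ⟨n, e.injective ?_⟩
    rw [map_zero, ← hn]
    exact (map_ad_pow e.toLinearMap he x z n).symm
  · rintro ⟨n, hn⟩
    refine ⟨n, ?_⟩
    have := map_ad_pow e.toLinearMap he x z n
    rw [hn, map_zero] at this
    exact this

end Engel

end Groth.Agent.Lib.CartanRelH1
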