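import Mathlib

set_option autoImplicit false
set_option linter.unusedVariables false
set_option linter.unusedTactic false
set_option linter.unreachableTactic false
set_option linter.unusedSectionVars false
set_option linter.style.haveILetI false
set_option maxHeartbeats 800000

/-!
# Fibrewise nilpotent Lie algebras are nilpotent (helper4)

Let `L` be a Lie algebra over a commutative ring `A`, finitely generated as a module. If all the
fibres `κ(p) ⊗[A] L` are nilpotent, then `L` is nilpotent (`main1`); if `ad x` is nilpotent for every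
`x`, then `L` is nilpotent (`main2`).

Proof: Zorn's lemma on the set of ideals `I` such that no term of the lower central series lies in
`I • ⊤`; a maximal such ideal is prime, and the fibre at that prime gives a contradiction.
-/

universe u

namespace Groth.Agent.Lib.LieNilFibH4

open scoped TensorProduct

section Defs

variable (A : Type u) [CommRing A] (L : Type u) [LieRing L] [LieAlgebra A L]

/-- The `k`-th term of the lower central series, as a submodule. -/
def lcs (k : ℕ) : Submodule A L :=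
  LieSubmodule.toSubmodule (LieModule.lowerCentralSeries A L L k)

/-- The bracket as a bilinear map. -/
noncomputable def brk : L →ₗ[A] L →ₗ[A] L :=
  LinearMap.mk₂ A (fun x y : L => ⁅x, y⁆) (fun x y z => add_lie x y z) (fun c x y => smul_lie c x y)
    (fun x y z => lie_add x y z) (fun c x y => lie_smul c x y)

end Defs

section Basic

variable {A : Type u} [CommRing A] {L : Type u} [LieRing L] [LieAlgebra A L]

theorem brk_apply (x y : L) : brk A L x y = ⁅x, y⁆ := rfl

theorem lcs_zero : lcs A L 0 = ⊤ := by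
  unfold lcs
  rw [LieModule.lowerCentralSeries_zero]
  rfl

theorem lie_mem_lcs {k : ℕ} (x : L) {y : L} (hy : y ∈ lcs A L k) : ⁅x, y⁆ ∈ lcs A L (k + 1) := by
  have hy' : y ∈ LieModule.lowerCentralSeries A L L k := hy
  have h : ⁅x, y⁆ ∈ LieModule.lowerCentralSeries A L L (k + 1) := by
    rw [LieModule.lowerCentralSeries_succ]
    exact LieSubmodule.lie_mem_lie (LieSubmodule.mem_top x) hy'
  exact h

theorem lcs_succ_le {k : ℕ} {N : Submodule A L}
    (h : ∀ x : L, ∀ y ∈ lcs A L k, ⁅x, y⁆ ∈ N) : lcs A L (k + 1) ≤ N := by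
  unfold lcs
  rw [LieModule.lowerCentralSeries_succ, LieSubmodule.lieIdeal_oper_eq_linear_span']
  refine Submodule.span_le.mpr ?_
  rintro m ⟨x, -, y, hy, rfl⟩
  exact h x y hy

theorem lcs_succ_eq (k : ℕ) :
    lcs A L (k + 1) = Submodule.map₂ (brk A L) ⊤ (lcs A L k) := by
  apply le_antisymm
  · apply lcs_succ_le
    intro x y hy
    have h := Submodule.apply_mem_map₂ (brk A L) (m := x) (n := y) (p := ⊤) (q := lcs A L k)
      Submodule.mem_top hy
    exact h
  · rw [Submodule.map₂_le]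
    intro x _ y hy
    exact lie_mem_lcs x hy

theorem lcs_fg [Module.Finite A L] (k : ℕ) : (lcs A L k).FG := by
  induction k with
  | zero => rw [lcs_zero]; exact Module.Finite.fg_top
  | succ k ih => rw [lcs_succ_eq]; exact Submodule.FG.map₂ (brk A L) Module.Finite.fg_top ih

theorem lcs_add_le (I : Ideal A) (a : ℕ) (h : lcs A L a ≤ I • (⊤ : Submodule A L)) (k : ℕ) :
    lcs A L (k + a) ≤ I • lcs A L k := by
  induction k with
  | zero => rw [Nat.zero_add, lcs_zero]; exact h
  | succ k ih =>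
    have e : k + 1 + a = (k + a) + 1 := by omega
    rw [e]
    apply lcs_succ_le
    intro x y hy
    have hy' : y ∈ I • lcs A L k := ih hy
    refine Submodule.smul_induction_on (p := fun y => ⁅x, y⁆ ∈ I • lcs A L (k + 1)) hy'
      (fun r hr n hn => ?_) (fun y z hy hz => ?_)
    · show ⁅x, r • n⁆ ∈ I • lcs A L (k + 1)
      rw [lie_smul]
      exact Submodule.smul_mem_smul hr (lie_mem_lcs x hn)
    · show ⁅x, y + z⁆ ∈ I • lcs A L (k + 1)
      rw [lie_add]
      exact Submodule.add_mem _ hy hz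

end Basic

section Loc

variable {A : Type u} [CommRing A] {L : Type u} [AddCommGroup L] [Module A L]

/-- If `1 ⊗ x = 0` in the fibre at `p`, then some `g ∉ p` sends `x` into `p • ⊤`. -/
theorem exists_smul_mem_of_tmul_eq_zero (p : Ideal A) [p.IsPrime] (x : L)
    (hx : (1 : p.ResidueField) ⊗ₜ[A] x = 0) :
    ∃ g : A, g ∉ p ∧ g • x ∈ p • (⊤ : Submodule A L) := by
  have h1 : (1 : p.ResidueField) ⊗ₜ[A ⧸ p] ((1 : A ⧸ p) ⊗ₜ[A] x) = 0 := by
    have h := congrArg (TensorProduct.AlgebraTensorModule.cancelBaseChange A (A ⧸ p)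
      p.ResidueField p.ResidueField L).symm hx
    rw [TensorProduct.AlgebraTensorModule.cancelBaseChange_symm_tmul, map_zero] at h
    exact h
  haveI hloc : IsLocalizedModule (nonZeroDivisors (A ⧸ p))
      (TensorProduct.mk (A ⧸ p) p.ResidueField ((A ⧸ p) ⊗[A] L) 1) :=
    (isLocalizedModule_iff_isBaseChange (nonZeroDivisors (A ⧸ p)) p.ResidueField _).mpr
      (TensorProduct.isBaseChange (A ⧸ p) ((A ⧸ p) ⊗[A] L) p.ResidueField)
  have h1' : (TensorProduct.mk (A ⧸ p) p.ResidueField ((A ⧸ p) ⊗[A] L) 1)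
      ((1 : A ⧸ p) ⊗ₜ[A] x) = 0 := h1
  obtain ⟨s, hs⟩ := (IsLocalizedModule.eq_zero_iff (nonZeroDivisors (A ⧸ p))
      (TensorProduct.mk (A ⧸ p) p.ResidueField ((A ⧸ p) ⊗[A] L) 1)).mp h1'
  obtain ⟨g, hg⟩ := Ideal.Quotient.mk_surjective (s : A ⧸ p)
  have hgp : g ∉ p := by
    intro hmem
    have h0 : (s : A ⧸ p) = 0 := by
      rw [← hg]
      exact Ideal.Quotient.eq_zero_iff_mem.mpr hmem
    exact nonZeroDivisors.coe_ne_zero s h0
  have h2 : (Ideal.Quotient.mk p g) ⊗ₜ[A] x = (0 : (A ⧸ p) ⊗[A] L) := by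
    have h : (s : A ⧸ p) • ((1 : A ⧸ p) ⊗ₜ[A] x) = 0 := hs
    rw [TensorProduct.smul_tmul', smul_eq_mul, mul_one, ← hg] at h
    exact h
  have h3 := congrArg (TensorProduct.quotTensorEquivQuotSMul L p) h2
  rw [TensorProduct.quotTensorEquivQuotSMul_mk_tmul, map_zero] at h3
  exact ⟨g, hgp, (Submodule.Quotient.mk_eq_zero _).mp h3⟩

/-- Uniform version on a finitely generated submodule. -/
theorem exists_smul_mem_uniform (p : Ideal A) [p.IsPrime] (N : Submodule A L) (hN : N.FG)
    (h : ∀ x ∈ N, (1 : p.ResidueField) ⊗ₜ[A] x = 0) :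
    ∃ g : A, g ∉ p ∧ ∀ x ∈ N, g • x ∈ p • (⊤ : Submodule A L) := by
  classical
  obtain ⟨T, hT⟩ := hN
  have hT' : ∀ t ∈ T, t ∈ N := by
    intro t ht
    rw [← hT]
    exact Submodule.subset_span (Finset.mem_coe.mpr ht)
  have hex : ∀ t : L, ∃ g : A, t ∈ T → (g ∉ p ∧ g • t ∈ p • (⊤ : Submodule A L)) := by
    intro t
    by_cases ht : t ∈ T
    · obtain ⟨g, hg1, hg2⟩ := exists_smul_mem_of_tmul_eq_zero p t (h t (hT' t ht))
      exact ⟨g, fun _ => ⟨hg1, hg2⟩⟩
    · exact ⟨1, fun h' => absurd h' ht⟩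
  choose g hg using hex
  refine ⟨∏ t ∈ T, g t, ?_, ?_⟩
  · intro hmem
    obtain ⟨t, ht, htp⟩ := Ideal.IsPrime.prod_mem_iff.mp hmem
    exact (hg t ht).1 htp
  · intro x hx
    rw [← hT] at hx
    refine Submodule.span_induction
      (p := fun x _ => (∏ t ∈ T, g t) • x ∈ p • (⊤ : Submodule A L)) ?_ ?_ ?_ ?_ hx
    · intro t ht
      have ht' : t ∈ T := Finset.mem_coe.mp ht
      show (∏ t ∈ T, g t) • t ∈ p • (⊤ : Submodule A L)
      rw [← Finset.prod_erase_mul T g ht', mul_smul]
      exact Submodule.smul_mem _ _ (hg t ht').2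
    · show (∏ t ∈ T, g t) • (0 : L) ∈ p • (⊤ : Submodule A L)
      rw [smul_zero]
      exact Submodule.zero_mem _
    · intro y z _ _ hy hz
      show (∏ t ∈ T, g t) • (y + z) ∈ p • (⊤ : Submodule A L)
      rw [smul_add]
      exact Submodule.add_mem _ hy hz
    · intro a y _ hy
      show (∏ t ∈ T, g t) • (a • y) ∈ p • (⊤ : Submodule A L)
      rw [smul_comm]
      exact Submodule.smul_mem _ _ hy

/-- Clearing denominators in the fibre at `p`. -/
theorem exists_clear_denom (p : Ideal A) [p.IsPrime] (z : p.ResidueField ⊗[A] L) :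
    ∃ s : A, s ∉ p ∧ ∃ x : L,
      algebraMap A p.ResidueField s • z = (1 : p.ResidueField) ⊗ₜ[A] x := by
  have key : ∀ (t : A) (y : L), algebraMap A p.ResidueField t • ((1 : p.ResidueField) ⊗ₜ[A] y)
      = (1 : p.ResidueField) ⊗ₜ[A] (t • y) := by
    intro t y
    rw [TensorProduct.smul_tmul', smul_eq_mul, mul_one, Algebra.algebraMap_eq_smul_one,
      TensorProduct.smul_tmul]
  induction z using TensorProduct.induction_on with
  | zero =>
    refine ⟨1, (Ideal.ne_top_iff_one p).mp Ideal.IsPrime.ne_top', 0, ?_⟩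
    rw [smul_zero, TensorProduct.tmul_zero]
  | tmul c l =>
    obtain ⟨⟨a', s'⟩, hc⟩ := IsLocalization.surj (nonZeroDivisors (A ⧸ p)) c
    obtain ⟨a, ha⟩ := Ideal.Quotient.mk_surjective a'
    obtain ⟨s, hs⟩ := Ideal.Quotient.mk_surjective (s' : A ⧸ p)
    have hsp : s ∉ p := by
      intro hmem
      have h0 : (s' : A ⧸ p) = 0 := by
        rw [← hs]
        exact Ideal.Quotient.eq_zero_iff_mem.mpr hmem
      exact nonZeroDivisors.coe_ne_zero s' h0
    have h1 : algebraMap A p.ResidueField s * c = algebraMap A p.ResidueField a := by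
      rw [IsScalarTower.algebraMap_apply A (A ⧸ p) p.ResidueField s,
        IsScalarTower.algebraMap_apply A (A ⧸ p) p.ResidueField a, mul_comm,
        Ideal.Quotient.algebraMap_eq, hs, ha]
      exact hc
    refine ⟨s, hsp, a • l, ?_⟩
    rw [TensorProduct.smul_tmul', smul_eq_mul, h1, Algebra.algebraMap_eq_smul_one,
      TensorProduct.smul_tmul]
  | add z w hz hw =>
    obtain ⟨s₁, hs₁, x₁, h₁⟩ := hz
    obtain ⟨s₂, hs₂, x₂, h₂⟩ := hw
    refine ⟨s₁ * s₂, fun hmem => (Ideal.IsPrime.mem_or_mem inferInstance hmem).elim hs₁ hs₂,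
      s₂ • x₁ + s₁ • x₂, ?_⟩
    have e1 : algebraMap A p.ResidueField (s₁ * s₂) • z
        = algebraMap A p.ResidueField s₂ • (algebraMap A p.ResidueField s₁ • z) := by
      rw [smul_smul, map_mul, mul_comm]
    have e2 : algebraMap A p.ResidueField (s₁ * s₂) • w
        = algebraMap A p.ResidueField s₁ • (algebraMap A p.ResidueField s₂ • w) := by
      rw [smul_smul, map_mul]
    rw [smul_add, e1, e2, h₁, h₂, key, key, TensorProduct.tmul_add]

end Loc

section Main

variable {A : Type u} [CommRing A] {L : Type u} [LieRing L] [LieAlgebra A L]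

/-- A nilpotent fibre at `p` gives `g ∉ p` and `k` with `g • lcs k ⊆ p • ⊤`. -/
theorem exists_kill (p : Ideal A) [p.IsPrime] [Module.Finite A L]
    (hnil : LieRing.IsNilpotent (p.ResidueField ⊗[A] L)) :
    ∃ k : ℕ, ∃ g : A, g ∉ p ∧ ∀ x ∈ lcs A L k, g • x ∈ p • (⊤ : Submodule A L) := by
  obtain ⟨k, hk⟩ := (LieModule.isNilpotent_iff p.ResidueField (p.ResidueField ⊗[A] L)
    (p.ResidueField ⊗[A] L)).mp hnil
  refine ⟨k, exists_smul_mem_uniform p (lcs A L k) (lcs_fg k) ?_⟩
  intro x hx
  have hx' : x ∈ LieModule.lowerCentralSeries A L L k := hx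
  have hmem : (1 : p.ResidueField) ⊗ₜ[A] x ∈
      (LieModule.lowerCentralSeries A L L k).baseChange p.ResidueField :=
    LieSubmodule.tmul_mem_baseChange_of_mem 1 hx'
  rw [← LieSubmodule.lowerCentralSeries_tensor_eq_baseChange, hk] at hmem
  exact (LieSubmodule.mem_bot _).mp hmem

/-- **Fibrewise nilpotent implies nilpotent** (for `L` finitely generated as a module). -/
theorem main1 [Module.Finite A L]
    (h : ∀ p : PrimeSpectrum A, LieRing.IsNilpotent (p.asIdeal.ResidueField ⊗[A] L)) :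
    LieRing.IsNilpotent L := by
  classical
  by_contra hnot
  obtain ⟨P, hP⟩ : ∃ P : Ideal A → Prop,
      ∀ I, P I ↔ ∃ k, lcs A L k ≤ I • (⊤ : Submodule A L) := ⟨_, fun _ => Iff.rfl⟩
  have hbot : ¬ P ⊥ := by
    intro hPb
    obtain ⟨k, hk⟩ := (hP ⊥).mp hPb
    apply hnot
    rw [Submodule.bot_smul, le_bot_iff] at hk
    exact (LieModule.isNilpotent_iff A L L).mpr
      ⟨k, (LieSubmodule.toSubmodule_eq_bot _).mp hk⟩
  have hzorn : ∃ m, Maximal (fun x => x ∈ {I : Ideal A | ¬ P I}) m := by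
    apply zorn_le₀
    intro c hcS hchain
    rcases c.eq_empty_or_nonempty with hce | hne
    · refine ⟨⊥, hbot, ?_⟩
      intro z hz
      rw [hce] at hz
      exact absurd hz (Set.notMem_empty z)
    · refine ⟨sSup c, ?_, fun z hz => le_sSup hz⟩
      intro hPs
      obtain ⟨k, hk⟩ := (hP _).mp hPs
      have hcomp := (Submodule.fg_iff_compact (lcs A L k)).mp (lcs_fg k)
      rw [CompleteLattice.isCompactElement_iff_le_of_directed_sSup_le] at hcomp
      have hne' : ((fun J : Ideal A => J • (⊤ : Submodule A L)) '' c).Nonempty := hne.image _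
      have hdir : DirectedOn (· ≤ ·) ((fun J : Ideal A => J • (⊤ : Submodule A L)) '' c) := by
        rintro _ ⟨J, hJ, rfl⟩ _ ⟨J', hJ', rfl⟩
        rcases hchain.total hJ hJ' with hle | hle
        · exact ⟨_, ⟨J', hJ', rfl⟩, Submodule.smul_mono_left hle, le_rfl⟩
        · exact ⟨_, ⟨J, hJ, rfl⟩, le_rfl, Submodule.smul_mono_left hle⟩
      have hle : lcs A L k ≤ sSup ((fun J : Ideal A => J • (⊤ : Submodule A L)) '' c) := by
        refine hk.trans (Submodule.smul_le.mpr ?_)
        intro r hr n _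
        obtain ⟨J, hJ, hrJ⟩ := (Submodule.mem_sSup_of_directed hne hchain.directedOn).mp hr
        have hle2 : J • (⊤ : Submodule A L)
            ≤ sSup ((fun J : Ideal A => J • (⊤ : Submodule A L)) '' c) :=
          le_sSup (Set.mem_image_of_mem _ hJ)
        exact hle2 (Submodule.smul_mem_smul hrJ Submodule.mem_top)
      obtain ⟨N, ⟨J, hJ, rfl⟩, hle'⟩ := hcomp _ hne' hdir hle
      exact hcS hJ ((hP J).mpr ⟨k, hle'⟩)
  obtain ⟨I, hI⟩ := hzorn
  have hIS : ¬ P I := hI.prop
  have hbig : ∀ J : Ideal A, I < J → ∃ k, lcs A L k ≤ J • (⊤ : Submodule A L) := by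
    intro J hJ
    by_contra hcon
    have hJS : ¬ P J := fun hPJ => hcon ((hP J).mp hPJ)
    exact absurd (hI.le_of_ge hJS hJ.le) (not_le_of_gt hJ)
  have hadj : ∀ a : A, a ∉ I → I < I ⊔ Ideal.span {a} := by
    intro a ha
    refine lt_of_le_of_ne le_sup_left (fun heq => ha ?_)
    rw [heq]
    exact Ideal.mem_sup_right (Ideal.subset_span rfl)
  have hprime : I.IsPrime := by
    rw [Ideal.isPrime_iff]
    refine ⟨?_, ?_⟩
    · intro htop
      apply hIS
      refine (hP I).mpr ⟨0, ?_⟩
      rw [htop, Submodule.top_smul]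
      exact le_top
    · intro x y hxy
      by_contra hcon
      have hx : x ∉ I := fun hx => hcon (Or.inl hx)
      have hy : y ∉ I := fun hy => hcon (Or.inr hy)
      obtain ⟨k, hk⟩ := hbig _ (hadj x hx)
      obtain ⟨k', hk'⟩ := hbig _ (hadj y hy)
      apply hIS
      refine (hP I).mpr ⟨k + k', ?_⟩
      have h1 := lcs_add_le (I ⊔ Ideal.span {y}) k' hk' k
      refine h1.trans ?_
      refine (Submodule.smul_mono le_rfl hk).trans ?_
      rw [← Submodule.mul_smul]
      apply Submodule.smul_mono_left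
      rw [Ideal.mul_le]
      intro r hr s hs
      obtain ⟨i, hi, u, hu, rfl⟩ := Submodule.mem_sup.mp hr
      obtain ⟨b, rfl⟩ := Ideal.mem_span_singleton'.mp hu
      obtain ⟨i', hi', u', hu', rfl⟩ := Submodule.mem_sup.mp hs
      obtain ⟨b', rfl⟩ := Ideal.mem_span_singleton'.mp hu'
      have e : (i + b * y) * (i' + b' * x)
          = i * (i' + b' * x) + (b * y) * i' + (b * b') * (x * y) := by ring
      rw [e]
      exact I.add_mem (I.add_mem (I.mul_mem_right _ hi) (I.mul_mem_left _ hi'))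
        (I.mul_mem_left _ hxy)
  haveI := hprime
  obtain ⟨k, g, hg, hgx⟩ := exists_kill I (h ⟨I, hprime⟩)
  obtain ⟨k', hk'⟩ := hbig _ (hadj g hg)
  apply hIS
  refine (hP I).mpr ⟨k + k', ?_⟩
  refine (lcs_add_le (I ⊔ Ideal.span {g}) k' hk' k).trans ?_
  rw [Submodule.smul_le]
  intro r hr n hn
  obtain ⟨i, hi, u, hu, rfl⟩ := Submodule.mem_sup.mp hr
  obtain ⟨b, rfl⟩ := Ideal.mem_span_singleton'.mp hu
  rw [add_smul, mul_smul]
  exact Submodule.add_mem _ (Submodule.smul_mem_smul hi Submodule.mem_top)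
    (Submodule.smul_mem _ _ (hgx n hn))

/-- If every `ad x` is nilpotent then every fibre is nilpotent (Engel over the residue field). -/
theorem fibre_nilpotent_of_ad (p : Ideal A) [p.IsPrime] [Module.Finite A L]
    (had : ∀ x : L, IsNilpotent (LieAlgebra.ad A L x)) :
    LieRing.IsNilpotent (p.ResidueField ⊗[A] L) := by
  rw [LieAlgebra.isNilpotent_iff_forall (R := p.ResidueField)]
  intro z
  obtain ⟨s, hs, x, hx⟩ := exists_clear_denom p z
  have hs0 : algebraMap A p.ResidueField s ≠ 0 :=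
    fun h0 => hs (Ideal.algebraMap_residueField_eq_zero.mp h0)
  have hz : z = (algebraMap A p.ResidueField s)⁻¹ • ((1 : p.ResidueField) ⊗ₜ[A] x) := by
    rw [← hx, smul_smul, inv_mul_cancel₀ hs0, one_smul]
  have h1 : LieAlgebra.ad p.ResidueField (p.ResidueField ⊗[A] L) ((1 : p.ResidueField) ⊗ₜ[A] x)
      = (LieAlgebra.ad A L x).baseChange p.ResidueField :=
    LieModule.toEnd_baseChange A p.ResidueField L L x
  have h2 : IsNilpotent ((LieAlgebra.ad A L x).baseChange p.ResidueField) := by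
    obtain ⟨n, hn⟩ := had x
    exact ⟨n, by rw [← LinearMap.baseChange_pow, hn, LinearMap.baseChange_zero]⟩
  rw [hz, map_smul, h1]
  exact h2.smul _

/-- If every `ad x` is nilpotent then `L` is nilpotent (for `L` finitely generated as a module). -/
theorem main2 [Module.Finite A L] (had : ∀ x : L, IsNilpotent (LieAlgebra.ad A L x)) :
    LieRing.IsNilpotent L :=
  main1 (fun p => fibre_nilpotent_of_ad p.asIdeal had)

theorem main [Module.Finite A L] :
    ((∀ p : PrimeSpectrum A, LieRing.IsNilpotent (p.asIdeal.ResidueField ⊗[A] L)) →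
      LieRing.IsNilpotent L) ∧
    ((∀ x : L, IsNilpotent (LieAlgebra.ad A L x)) → LieRing.IsNilpotent L) :=
  ⟨main1, main2⟩

end Main

end Groth.Agent.Lib.LieNilFibH4
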