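import Mathlib
import Groth.Prelude.Def_W4sga3xiixivxvCartan
import Groth.Agent.Lib.LieNilFib_helper4
import Groth.Agent.Lib.CartanRel1_helper1

/-!
# Relative Cartan subalgebras containing a quasi-regular element (helper1)

SGA3 XIV 2: for `L` a Lie algebra over `A`, finitely generated as a module, and `a ∈ L`
quasi-regular, every relative Cartan subalgebra containing `a` is the Engel subalgebra `engel A a`,
and `a` is regular iff `L / engel A a` is projective and `ad a` is bijective on it.

Main results: `eq_engel_of_isCartanRel`, `isCartanRel_engel`, `main8372`, `main8373`.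
Reusable: `surjective_of_fibre_surjective` (an endomorphism of a finite module which is surjective on
all fibres is surjective), `ker_baseChange_mkQ`, `exists_retraction`, `adQ` (endomorphism of `L/H`
induced by `ad a`), `baseChange_lie`, `fibre_eq_engel`, `adQ_bijective_of_fibre`.
-/

set_option autoImplicit false
universe u
open scoped TensorProduct
open Module

namespace Groth.Agent.Lib.CartanRelH1

section ModuleLemmas

variable {A : Type u} [CommRing A] {M : Type u} [AddCommGroup M] [Module A M]

theorem baseChange_surjective (K : Type*) [CommRing K] [Algebra A K] {M' : Type*}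
    [AddCommGroup M'] [Module A M'] (f : M →ₗ[A] M') (hf : Function.Surjective f) :
    Function.Surjective (f.baseChange K) := by
  rw [LinearMap.baseChange_eq_ltensor]
  exact LinearMap.lTensor_surjective K hf

theorem baseChange_injective_of_bijective (K : Type*) [CommRing K] [Algebra A K]
    (f : M →ₗ[A] M) (hf : Function.Bijective f) : Function.Injective (f.baseChange K) := by
  let e := LinearEquiv.ofBijective f hf
  have h : (e.symm : M →ₗ[A] M).baseChange K ∘ₗ f.baseChange K = LinearMap.id := by
    rw [← LinearMap.baseChange_comp]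
    have : (e.symm : M →ₗ[A] M) ∘ₗ f = LinearMap.id := by
      ext x
      exact e.symm_apply_apply x
    rw [this, LinearMap.baseChange_id]
  intro x y hxy
  have := congrArg ((e.symm : M →ₗ[A] M).baseChange K) hxy
  rw [← LinearMap.comp_apply, ← LinearMap.comp_apply, h] at this
  exact this

/-- An endomorphism of a finite module which is surjective on every fibre is surjective. -/
theorem surjective_of_fibre_surjective [Module.Finite A M] (f : M →ₗ[A] M)
    (h : ∀ p : PrimeSpectrum A, Function.Surjective (f.baseChange p.asIdeal.ResidueField)) :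
    Function.Surjective f := by
  have hC : Subsingleton (M ⧸ LinearMap.range f) := by
    rw [← Module.support_eq_empty_iff (R := A), Set.eq_empty_iff_forall_notMem]
    intro p hp
    rw [Module.mem_support_iff_nontrivial_residueField_tensorProduct] at hp
    have hq := baseChange_surjective p.asIdeal.ResidueField (LinearMap.range f).mkQ
      (Submodule.mkQ_surjective _)
    have hzero : ∀ z : p.asIdeal.ResidueField ⊗[A] (M ⧸ LinearMap.range f), z = 0 := by
      intro z
      obtain ⟨w, rfl⟩ := hq z
      obtain ⟨v, rfl⟩ := h p w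
      rw [← LinearMap.comp_apply, ← LinearMap.baseChange_comp]
      have hc : (LinearMap.range f).mkQ ∘ₗ f = 0 := by
        ext m
        simp
      rw [hc, LinearMap.baseChange_zero, LinearMap.zero_apply]
    obtain ⟨⟨x, y, hxy⟩⟩ := hp
    exact hxy ((hzero x).trans (hzero y).symm)
  rw [← LinearMap.range_eq_top]
  exact Submodule.Quotient.subsingleton_iff.mp hC

theorem ker_baseChange_mkQ (K : Type*) [CommRing K] [Algebra A K] (N : Submodule A M) :
    LinearMap.ker (N.mkQ.baseChange K) = N.baseChange K := by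
  have hex : Function.Exact N.subtype N.mkQ := LinearMap.exact_subtype_mkQ N
  have h := lTensor_exact K hex (Submodule.mkQ_surjective N)
  ext z
  rw [LinearMap.mem_ker, Submodule.baseChange, LinearMap.mem_range]
  exact h z

end ModuleLemmas

section Lie

variable {A : Type u} [CommRing A] {L : Type u} [LieRing L] [LieAlgebra A L]

/-- Base change of a bracket-preserving linear map preserves brackets. -/
theorem baseChange_lie {L₁ L₂ : Type*} [LieRing L₁] [LieAlgebra A L₁] [LieRing L₂]
    [LieAlgebra A L₂] (K : Type*) [CommRing K] [Algebra A K]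
    (j : L₁ →ₗ[A] L₂) (hj : ∀ x y, j ⁅x, y⁆ = ⁅j x, j y⁆) (w v : K ⊗[A] L₁) :
    j.baseChange K ⁅w, v⁆ = ⁅j.baseChange K w, j.baseChange K v⁆ := by
  induction w using TensorProduct.induction_on with
  | zero => simp
  | tmul c n =>
    induction v using TensorProduct.induction_on with
    | zero => simp
    | tmul d m =>
      simp only [LieAlgebra.ExtendScalars.bracket_tmul, LinearMap.baseChange_tmul, hj]
    | add v₁ v₂ h₁ h₂ => rw [lie_add, map_add, map_add, lie_add, h₁, h₂]
  | add w₁ w₂ h₁ h₂ => rw [add_lie, map_add, map_add, add_lie, h₁, h₂]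

/-- The inclusion of a Lie subalgebra, as a linear map. -/
def inclL (H : LieSubalgebra A L) : H →ₗ[A] L where
  toFun x := x
  map_add' _ _ := rfl
  map_smul' _ _ := rfl

@[simp] theorem inclL_apply (H : LieSubalgebra A L) (x : H) : inclL H x = x := rfl

theorem inclL_lie (H : LieSubalgebra A L) (x y : H) : inclL H ⁅x, y⁆ = ⁅inclL H x, inclL H y⁆ :=
  rfl

theorem exists_retraction (H : LieSubalgebra A L) [Module.Projective A (L ⧸ H.toSubmodule)] :
    ∃ r : L →ₗ[A] H, ∀ x : H, r x = x := by
  obtain ⟨σ, hσ⟩ := Module.projective_lifting_property H.toSubmodule.mkQ LinearMap.id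
    (Submodule.mkQ_surjective _)
  have hmem : ∀ x : L, ((LinearMap.id : L →ₗ[A] L) - σ ∘ₗ H.toSubmodule.mkQ) x ∈ H.toSubmodule := by
    intro x
    rw [← Submodule.Quotient.mk_eq_zero]
    have h1 := LinearMap.congr_fun hσ (H.toSubmodule.mkQ x)
    simp only [LinearMap.comp_apply, LinearMap.id_apply, Submodule.mkQ_apply] at h1
    simp only [LinearMap.sub_apply, LinearMap.id_apply, LinearMap.comp_apply,
      Submodule.mkQ_apply, Submodule.Quotient.mk_sub, h1, sub_self]
  refine ⟨LinearMap.codRestrict H.toSubmodule _ hmem, ?_⟩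
  intro x
  apply Subtype.ext
  have h0 : (Submodule.Quotient.mk (x : L) : L ⧸ H.toSubmodule) = 0 :=
    (Submodule.Quotient.mk_eq_zero _).mpr x.2
  show ((LinearMap.id : L →ₗ[A] L) - σ ∘ₗ H.toSubmodule.mkQ) (x : L) = (x : L)
  rw [LinearMap.sub_apply, LinearMap.id_apply, LinearMap.comp_apply, Submodule.mkQ_apply, h0,
    map_zero, sub_zero]

theorem finite_of_projective_quotient [Module.Finite A L] (H : LieSubalgebra A L)
    [Module.Projective A (L ⧸ H.toSubmodule)] : Module.Finite A H := by
  obtain ⟨r, hr⟩ := exists_retraction H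
  exact Module.Finite.of_surjective r (fun x => ⟨x, hr x⟩)

theorem inclL_baseChange_injective (H : LieSubalgebra A L)
    [Module.Projective A (L ⧸ H.toSubmodule)] (K : Type*) [CommRing K] [Algebra A K] :
    Function.Injective ((inclL H).baseChange K) := by
  obtain ⟨r, hr⟩ := exists_retraction H
  have h : r.baseChange K ∘ₗ (inclL H).baseChange K = LinearMap.id := by
    rw [← LinearMap.baseChange_comp]
    have : r ∘ₗ inclL H = LinearMap.id := by
      ext x
      simp [hr]
    rw [this, LinearMap.baseChange_id]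
  intro x y hxy
  have := congrArg (r.baseChange K) hxy
  rw [← LinearMap.comp_apply, ← LinearMap.comp_apply, h] at this
  exact this

theorem inclL_baseChange_mem (H : LieSubalgebra A L) (K : Type*) [CommRing K] [Algebra A K]
    (v : K ⊗[A] H) : (inclL H).baseChange K v ∈ H.toSubmodule.baseChange K := by
  induction v using TensorProduct.induction_on with
  | zero => simp
  | tmul c n =>
    rw [LinearMap.baseChange_tmul]
    exact Submodule.tmul_mem_baseChange_of_mem c n.2
  | add v₁ v₂ h₁ h₂ =>
    rw [map_add]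
    exact Submodule.add_mem _ h₁ h₂

/-- The endomorphism of `L / H` induced by `ad a`, for `a ∈ H`. -/
noncomputable def adQ (H : LieSubalgebra A L) (a : L) (ha : a ∈ H) :
    (L ⧸ H.toSubmodule) →ₗ[A] (L ⧸ H.toSubmodule) :=
  H.toSubmodule.mapQ H.toSubmodule (LieAlgebra.ad A L a) (fun h hh => by
    rw [Submodule.mem_comap, LieAlgebra.ad_apply]
    exact H.lie_mem ha hh)

theorem adQ_mk (H : LieSubalgebra A L) (a : L) (ha : a ∈ H) (x : L) :
    adQ H a ha (Submodule.Quotient.mk x) = Submodule.Quotient.mk ⁅a, x⁆ := by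
  unfold adQ
  rw [Submodule.mapQ_apply, LieAlgebra.ad_apply]

theorem adQ_comp_mkQ (H : LieSubalgebra A L) (a : L) (ha : a ∈ H) :
    adQ H a ha ∘ₗ H.toSubmodule.mkQ = H.toSubmodule.mkQ ∘ₗ (LieAlgebra.ad A L a) := by
  ext x
  simp only [LinearMap.comp_apply, Submodule.mkQ_apply, adQ_mk, LieAlgebra.ad_apply]

theorem adQ_pow_mk (H : LieSubalgebra A L) (a : L) (ha : a ∈ H) (n : ℕ) (x : L) :
    ((adQ H a ha) ^ n) (Submodule.Quotient.mk x) =
      Submodule.Quotient.mk (((LieAlgebra.ad A L a) ^ n) x) := by
  induction n generalizing x with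
  | zero => simp
  | succ n ih =>
    rw [pow_succ, Module.End.mul_apply, adQ_mk, ih, pow_succ, Module.End.mul_apply,
      LieAlgebra.ad_apply]

theorem adQ_baseChange_mkQ (H : LieSubalgebra A L) (a : L) (ha : a ∈ H) (K : Type*) [CommRing K]
    [Algebra A K] (w : K ⊗[A] L) :
    (adQ H a ha).baseChange K ((H.toSubmodule.mkQ.baseChange K) w) =
      (H.toSubmodule.mkQ.baseChange K) ⁅(1 : K) ⊗ₜ[A] a, w⁆ := by
  rw [← LinearMap.comp_apply, ← LinearMap.baseChange_comp, adQ_comp_mkQ,
    LinearMap.baseChange_comp, LinearMap.comp_apply]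
  congr 1
  have h : LieAlgebra.ad K (K ⊗[A] L) ((1 : K) ⊗ₜ[A] a) = (LieAlgebra.ad A L a).baseChange K :=
    LieModule.toEnd_baseChange A K L L a
  rw [← h, LieAlgebra.ad_apply]

theorem adQ_baseChange_pow_mkQ (H : LieSubalgebra A L) (a : L) (ha : a ∈ H) (K : Type*)
    [CommRing K] [Algebra A K] (n : ℕ) (w : K ⊗[A] L) :
    (((adQ H a ha).baseChange K) ^ n) ((H.toSubmodule.mkQ.baseChange K) w) =
      (H.toSubmodule.mkQ.baseChange K)
        (((LieAlgebra.ad K (K ⊗[A] L) ((1 : K) ⊗ₜ[A] a)) ^ n) w) := by
  induction n generalizing w with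
  | zero => simp
  | succ n ih =>
    rw [pow_succ, Module.End.mul_apply, adQ_baseChange_mkQ, ih, pow_succ, Module.End.mul_apply,
      LieAlgebra.ad_apply]

theorem lie_mem_engel_iff {R : Type*} [CommRing R] {L' : Type*} [LieRing L'] [LieAlgebra R L']
    (a z : L') (hz : ⁅a, z⁆ ∈ LieSubalgebra.engel R a) :
    z ∈ LieSubalgebra.engel R a := by
  rw [LieSubalgebra.mem_engel_iff] at hz ⊢
  obtain ⟨n, hn⟩ := hz
  exact ⟨n + 1, by rw [pow_succ, Module.End.mul_apply, LieAlgebra.ad_apply]; exact hn⟩

/-- If the fibre of `H` at a field `K` is the Engel subalgebra of `1 ⊗ a`, then `ad a` is injective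
on the fibre of `L / H`. -/
theorem adQ_baseChange_injective (H : LieSubalgebra A L) (a : L) (ha : a ∈ H)
    (K : Type*) [Field K] [Algebra A K]
    (hfib : H.toSubmodule.baseChange K =
      (LieSubalgebra.engel K ((1 : K) ⊗ₜ[A] a)).toSubmodule) :
    Function.Injective ((adQ H a ha).baseChange K) := by
  rw [injective_iff_map_eq_zero]
  intro z hz
  obtain ⟨w, rfl⟩ := baseChange_surjective K H.toSubmodule.mkQ (Submodule.mkQ_surjective _) z
  rw [adQ_baseChange_mkQ] at hz
  have h1 : ⁅(1 : K) ⊗ₜ[A] a, w⁆ ∈ LinearMap.ker (H.toSubmodule.mkQ.baseChange K) := hz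
  rw [ker_baseChange_mkQ, hfib, LieSubalgebra.mem_toSubmodule] at h1
  have h2 : w ∈ (LieSubalgebra.engel K ((1 : K) ⊗ₜ[A] a)).toSubmodule := by
    rw [LieSubalgebra.mem_toSubmodule]
    exact lie_mem_engel_iff _ _ h1
  rw [← hfib, ← ker_baseChange_mkQ] at h2
  exact h2

theorem adQ_bijective_of_fibre [Module.Finite A L] (H : LieSubalgebra A L) (a : L) (ha : a ∈ H)
    (hfib : ∀ p : PrimeSpectrum A, H.toSubmodule.baseChange p.asIdeal.ResidueField =
      (LieSubalgebra.engel p.asIdeal.ResidueField
        ((1 : p.asIdeal.ResidueField) ⊗ₜ[A] a)).toSubmodule) :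
    Function.Bijective (adQ H a ha) := by
  have hs : Function.Surjective (adQ H a ha) := by
    apply surjective_of_fibre_surjective
    intro p
    have hinj := adQ_baseChange_injective H a ha p.asIdeal.ResidueField (hfib p)
    exact LinearMap.injective_iff_surjective.mp hinj
  exact ⟨OrzechProperty.injective_of_surjective_endomorphism _ hs, hs⟩

open SGA3t2b LieSubalgebra

theorem le_engel_of_isCartanRel [Module.Finite A L] (H : LieSubalgebra A L) (hH : IsCartanRel H)
    (a : L) (ha : a ∈ H) : H ≤ engel A a := by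
  haveI := hH.1
  haveI : Module.Finite A H := finite_of_projective_quotient H
  haveI : LieRing.IsNilpotent H := LieNilFibH4.main1 (fun p => (hH.2 p).1)
  obtain ⟨k, hk⟩ := LieAlgebra.nilpotent_ad_of_nilpotent_algebra A H
  intro h hh
  rw [mem_engel_iff]
  refine ⟨k, ?_⟩
  rw [← LieSubalgebra.coe_ad_pow A L H ⟨a, ha⟩ ⟨h, hh⟩ k, hk ⟨a, ha⟩]
  rfl

theorem fibre_eq_engel [Module.Finite A L] (H : LieSubalgebra A L) (hH : IsCartanRel H)
    (a : L) (ha : a ∈ H) (p : PrimeSpectrum A)
    (hreg : LieAlgebra.IsRegular p.asIdeal.ResidueField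
      ((1 : p.asIdeal.ResidueField) ⊗ₜ[A] a)) :
    H.toSubmodule.baseChange p.asIdeal.ResidueField =
      (engel p.asIdeal.ResidueField ((1 : p.asIdeal.ResidueField) ⊗ₜ[A] a)).toSubmodule := by
  have hle : H.toSubmodule.baseChange p.asIdeal.ResidueField ≤
      (engel p.asIdeal.ResidueField ((1 : p.asIdeal.ResidueField) ⊗ₜ[A] a)).toSubmodule := by
    rw [Submodule.baseChange_eq_span, Submodule.span_le]
    rintro _ ⟨h, hh, rfl⟩
    exact tmul_mem_engel p.asIdeal.ResidueField (le_engel_of_isCartanRel H hH a ha hh)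
  apply Submodule.eq_of_le_of_finrank_eq hle
  have h1 := (hH.2 p).2.2
  have h2 := (LieAlgebra.isRegular_iff_finrank_engel_eq_rank p.asIdeal.ResidueField
    ((1 : p.asIdeal.ResidueField) ⊗ₜ[A] a)).mp hreg
  unfold fibreSubmodule at h1
  rw [h1]
  exact h2.symm

theorem adQ_bijective_of_isCartanRel [Module.Finite A L] (a : L) (hq : IsQuasiRegular A L a)
    (H : LieSubalgebra A L) (hH : IsCartanRel H) (ha : a ∈ H) :
    Function.Bijective (adQ H a ha) :=
  adQ_bijective_of_fibre H a ha (fun p => fibre_eq_engel H hH a ha p (hq p))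

/-- A relative Cartan subalgebra containing the quasi-regular element `a` is `engel A a`. -/
theorem eq_engel_of_isCartanRel [Module.Finite A L] (a : L) (hq : IsQuasiRegular A L a)
    (H : LieSubalgebra A L) (hH : IsCartanRel H) (ha : a ∈ H) : H = engel A a := by
  apply le_antisymm (le_engel_of_isCartanRel H hH a ha)
  have hbij := adQ_bijective_of_isCartanRel a hq H hH ha
  intro x hx
  rw [mem_engel_iff] at hx
  obtain ⟨n, hn⟩ := hx
  have h0 : ((adQ H a ha) ^ n) (Submodule.Quotient.mk x) = 0 := by
    rw [adQ_pow_mk, hn, Submodule.Quotient.mk_zero]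
  have hinj : Function.Injective ((adQ H a ha) ^ n) := by
    rw [Module.End.coe_pow]
    exact hbij.1.iterate n
  have h1 := hinj (h0.trans (map_zero _).symm)
  exact (Submodule.Quotient.mk_eq_zero _).mp h1

/-- The fibre of `engel A a` at a field `K` is `engel K (1 ⊗ a)` as soon as `ad a` is bijective on
`L / engel A a`. -/
theorem engel_baseChange_eq (a : L)
    (hbij : Function.Bijective (adQ (engel A a) a (self_mem_engel A a)))
    (K : Type*) [Field K] [Algebra A K] :
    (engel A a).toSubmodule.baseChange K = (engel K ((1 : K) ⊗ₜ[A] a)).toSubmodule := by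
  apply le_antisymm
  · rw [Submodule.baseChange_eq_span, Submodule.span_le]
    rintro _ ⟨h, hh, rfl⟩
    exact tmul_mem_engel K hh
  · intro w hw
    rw [LieSubalgebra.mem_toSubmodule, mem_engel_iff] at hw
    obtain ⟨n, hn⟩ := hw
    rw [← ker_baseChange_mkQ, LinearMap.mem_ker]
    have h0 := adQ_baseChange_pow_mkQ (engel A a) a (self_mem_engel A a) K n w
    rw [hn, map_zero] at h0
    have hinjK := baseChange_injective_of_bijective K _ hbij
    have hinj : Function.Injective
        (((adQ (engel A a) a (self_mem_engel A a)).baseChange K) ^ n) := by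
      rw [Module.End.coe_pow]
      exact hinjK.iterate n
    exact hinj (h0.trans (map_zero _).symm)

/-- Nilpotency of the abstract fibre `K ⊗ engel A a` when it maps onto the Engel subalgebra of the
regular element `1 ⊗ a`. -/
theorem isNilpotent_fibre_engel [Module.Finite A L] (a : L)
    [Module.Projective A (L ⧸ (engel A a).toSubmodule)]
    (K : Type u) [Field K] [Algebra A K]
    (hreg : LieAlgebra.IsRegular K ((1 : K) ⊗ₜ[A] a))
    (hfib : (engel A a).toSubmodule.baseChange K = (engel K ((1 : K) ⊗ₜ[A] a)).toSubmodule) :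
    LieRing.IsNilpotent (K ⊗[A] (engel A a)) := by
  haveI : Module.Finite A (engel A a) := finite_of_projective_quotient (engel A a)
  have hjinj := inclL_baseChange_injective (engel A a) K
  have hj := baseChange_lie K (inclL (engel A a)) (inclL_lie (engel A a))
  have hmem : ∀ v : K ⊗[A] (engel A a),
      (inclL (engel A a)).baseChange K v ∈ engel K ((1 : K) ⊗ₜ[A] a) := by
    intro v
    rw [← LieSubalgebra.mem_toSubmodule, ← hfib]
    exact inclL_baseChange_mem (engel A a) K v
  rw [LieAlgebra.isNilpotent_iff_forall (R := K)]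
  intro w
  rw [Module.End.isNilpotent_iff_of_finite]
  intro v
  have h1 := engel_le_engel_of_isRegular K ((1 : K) ⊗ₜ[A] a) hreg _ (hmem w) (hmem v)
  rw [mem_engel_iff] at h1
  obtain ⟨n, hn⟩ := h1
  refine ⟨n, hjinj ?_⟩
  rw [map_zero, ← map_ad_pow ((inclL (engel A a)).baseChange K) hj]
  exact hn

/-- If `L / engel A a` is projective and `ad a` is bijective on it, then `engel A a` is a relative
Cartan subalgebra (for `a` quasi-regular). -/
theorem isCartanRel_engel [Module.Finite A L] (a : L) (hq : IsQuasiRegular A L a)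
    (hproj : Module.Projective A (L ⧸ (engel A a).toSubmodule))
    (hsurj : ∀ y : L, ∃ z : L, ⁅a, z⁆ - y ∈ engel A a) :
    IsCartanRel (engel A a) := by
  have hbij : Function.Bijective (adQ (engel A a) a (self_mem_engel A a)) := by
    constructor
    · rw [injective_iff_map_eq_zero]
      intro z hz
      obtain ⟨z, rfl⟩ := Submodule.Quotient.mk_surjective _ z
      rw [adQ_mk, Submodule.Quotient.mk_eq_zero] at hz
      exact (Submodule.Quotient.mk_eq_zero _).mpr (lie_mem_engel_iff a z hz)
    · intro y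
      obtain ⟨y, rfl⟩ := Submodule.Quotient.mk_surjective _ y
      obtain ⟨z, hz⟩ := hsurj y
      refine ⟨Submodule.Quotient.mk z, ?_⟩
      rw [adQ_mk]
      exact (Submodule.Quotient.eq _).mpr hz
  refine ⟨hproj, fun p => ?_⟩
  have hfib := engel_baseChange_eq a hbij p.asIdeal.ResidueField
  refine ⟨isNilpotent_fibre_engel a p.asIdeal.ResidueField (hq p) hfib, ?_, ?_⟩
  · intro x hx
    unfold fibreSubmodule at hx ⊢
    rw [hfib] at hx ⊢
    have hn := normalizer_engel p.asIdeal.ResidueField ((1 : p.asIdeal.ResidueField) ⊗ₜ[A] a)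
    rw [LieSubalgebra.mem_toSubmodule, ← hn, LieSubalgebra.mem_normalizer_iff]
    intro y hy
    exact hx y hy
  · unfold fibreSubmodule
    rw [hfib]
    exact (LieAlgebra.isRegular_iff_finrank_engel_eq_rank p.asIdeal.ResidueField
      ((1 : p.asIdeal.ResidueField) ⊗ₜ[A] a)).mp (hq p)

theorem main8372 [Module.Finite A L] (a : L) (ha : IsQuasiRegular A L a) :
    (∀ H : LieSubalgebra A L, IsCartanRel H → a ∈ H → H = engel A a) ∧
    ((∃ H : LieSubalgebra A L, IsCartanRel H ∧ a ∈ H) ↔
      (Module.Projective A (L ⧸ (engel A a).toSubmodule) ∧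
        (∀ z : L, ⁅a, z⁆ ∈ engel A a → z ∈ engel A a) ∧
        (∀ y : L, ∃ z : L, ⁅a, z⁆ - y ∈ engel A a))) := by
  have part1 : ∀ H : LieSubalgebra A L, IsCartanRel H → a ∈ H → H = engel A a :=
    fun H hH haH => eq_engel_of_isCartanRel a ha H hH haH
  refine ⟨part1, ⟨?_, ?_⟩⟩
  · rintro ⟨H, hH, haH⟩
    have hEq := part1 H hH haH
    have hbij := adQ_bijective_of_isCartanRel a ha H hH haH
    subst hEq
    refine ⟨hH.1, fun z hz => lie_mem_engel_iff a z hz, ?_⟩
    intro y
    obtain ⟨z, hz⟩ := hbij.2 (Submodule.Quotient.mk y)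
    obtain ⟨z, rfl⟩ := Submodule.Quotient.mk_surjective _ z
    rw [adQ_mk] at hz
    exact ⟨z, (Submodule.Quotient.eq _).mp hz⟩
  · rintro ⟨hproj, -, hsurj⟩
    exact ⟨engel A a, isCartanRel_engel a ha hproj hsurj, self_mem_engel A a⟩

/-! ### Automorphisms (S8373) -/

theorem engel_map_equiv_ring (e : L ≃ₗ[A] L) (he : ∀ x y, e ⁅x, y⁆ = ⁅e x, e y⁆) (x z : L) :
    e z ∈ engel A (e x) ↔ z ∈ engel A x := by
  rw [mem_engel_iff, mem_engel_iff]
  constructor
  · rintro ⟨n, hn⟩
    refine ⟨n, e.injective ?_⟩
    rw [map_zero, ← hn]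
    exact (map_ad_pow e.toLinearMap he x z n).symm
  · rintro ⟨n, hn⟩
    refine ⟨n, ?_⟩
    have := map_ad_pow e.toLinearMap he x z n
    rw [hn, map_zero] at this
    exact this

/-- Base change of a linear automorphism. -/
noncomputable def bcEquiv (K : Type*) [CommRing K] [Algebra A K] (e : L ≃ₗ[A] L) :
    K ⊗[A] L ≃ₗ[K] K ⊗[A] L :=
  LinearEquiv.ofLinearMap (e.toLinearMap.baseChange K) (e.symm.toLinearMap.baseChange K)
    (by rw [← LinearMap.baseChange_comp]; simp) (by rw [← LinearMap.baseChange_comp]; simp)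

theorem bcEquiv_apply (K : Type*) [CommRing K] [Algebra A K] (e : L ≃ₗ[A] L) (w : K ⊗[A] L) :
    bcEquiv K e w = e.toLinearMap.baseChange K w := rfl

theorem isQuasiRegular_map [Module.Finite A L] (e : L ≃ₗ[A] L)
    (he : ∀ x y, e ⁅x, y⁆ = ⁅e x, e y⁆) (a : L) (ha : IsQuasiRegular A L a) :
    IsQuasiRegular A L (e a) := by
  intro p
  have h1 := (isRegular_equiv_iff p.asIdeal.ResidueField (bcEquiv p.asIdeal.ResidueField e)
    (fun x y => by
      rw [bcEquiv_apply, bcEquiv_apply, bcEquiv_apply]
      exact baseChange_lie p.asIdeal.ResidueField e.toLinearMap he x y)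
    ((1 : p.asIdeal.ResidueField) ⊗ₜ[A] a)).mpr (ha p)
  rw [bcEquiv_apply, LinearMap.baseChange_tmul] at h1
  exact h1

theorem main8373 [Module.Finite A L]
    (H : LieSubalgebra A L) (hH : IsCartanRel H) (a : L) (haH : a ∈ H)
    (ha : IsQuasiRegular A L a) (u : L ≃ₗ⁅A⁆ L) :
    H.map u.toLieHom = H ↔ u a ∈ H := by
  constructor
  · intro h
    rw [← h, LieSubalgebra.mem_map]
    exact ⟨a, haH, rfl⟩
  · intro hua
    have he : ∀ x y, u.toLinearEquiv ⁅x, y⁆ = ⁅u.toLinearEquiv x, u.toLinearEquiv y⁆ :=
      fun x y => u.map_lie x y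
    have hq' : IsQuasiRegular A L (u a) := isQuasiRegular_map u.toLinearEquiv he a ha
    have h1 : H = engel A a := eq_engel_of_isCartanRel a ha H hH haH
    have h2 : H = engel A (u a) := eq_engel_of_isCartanRel (u a) hq' H hH hua
    ext x
    rw [LieSubalgebra.mem_map]
    constructor
    · rintro ⟨y, hy, rfl⟩
      rw [h1] at hy
      rw [h2]
      exact (engel_map_equiv_ring u.toLinearEquiv he a y).mpr hy
    · intro hx
      refine ⟨u.symm x, ?_, u.apply_symm_apply x⟩
      rw [h2] at hx
      rw [h1]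
      have hx' : u.toLinearEquiv (u.symm x) ∈ engel A (u.toLinearEquiv a) := by
        have : u.toLinearEquiv (u.symm x) = x := u.apply_symm_apply x
        rw [this]
        exact hx
      exact (engel_map_equiv_ring u.toLinearEquiv he a (u.symm x)).mp hx'

end Lie

end Groth.Agent.Lib.CartanRelH1
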