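import Mathlib
import Groth.Prelude.Def_W4sga3xiixivxvCartan
import Groth.Agent.Lib.LieNilFib_helper4
import Groth.Agent.Lib.FiberRank_helper9
import Groth.Agent.Lib.CartanRel2_helper1

/-!
# Regular locus of a section of a Lie algebra; regularity on fibres under base change (helper1)

* `rank_eq_of_equiv`, `isRegular_equiv_iff'`: the nilpotent rank / regularity are invariant under
  bracket-preserving linear equivalences.
* `cbc_lie`: `K ⊗[B] (B ⊗[A] L) ≃ K ⊗[A] L` preserves brackets.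
* `isRegular_fibre_iff`, `rank_fibre_eq`: for a field `K'` over `A` with kernel the prime `q`,
  regularity of `1 ⊗ a` in `K' ⊗[A] L` is the same as in `κ(q) ⊗[A] L`.
* `isRegular_fibre_baseChange_iff`, `rank_fibre_baseChange`: same for `κ(q') ⊗[B] (B ⊗[A] L)`, `q'` a
  prime of an `A`-algebra `B`.
* `isOpen_regular` (S8375), `main8376`.
-/

set_option autoImplicit false
universe u
open scoped TensorProduct
open Module LieSubalgebra

namespace Groth.Agent.Lib.CartanRelH1

section IsoRank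

variable (K : Type*) [Field K] {L₁ L₂ : Type*} [LieRing L₁] [LieAlgebra K L₁] [Module.Finite K L₁]
  [LieRing L₂] [LieAlgebra K L₂] [Module.Finite K L₂]

theorem ad_equiv (e : L₁ ≃ₗ[K] L₂) (he : ∀ x y, e ⁅x, y⁆ = ⁅e x, e y⁆) (x : L₁) :
    LieAlgebra.ad K L₂ (e x) = e.conj (LieAlgebra.ad K L₁ x) := by
  ext y
  rw [LinearEquiv.conj_apply_apply, LieAlgebra.ad_apply, LieAlgebra.ad_apply, he,
    LinearEquiv.apply_symm_apply]

theorem symm_lie (e : L₁ ≃ₗ[K] L₂) (he : ∀ x y, e ⁅x, y⁆ = ⁅e x, e y⁆) (x y : L₂) :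
    e.symm ⁅x, y⁆ = ⁅e.symm x, e.symm y⁆ := by
  apply e.injective
  rw [he, LinearEquiv.apply_symm_apply, LinearEquiv.apply_symm_apply,
    LinearEquiv.apply_symm_apply]

theorem rank_le_of_equiv_of_infinite [Infinite K] (e : L₁ ≃ₗ[K] L₂)
    (he : ∀ x y, e ⁅x, y⁆ = ⁅e x, e y⁆) : LieAlgebra.rank K L₂ ≤ LieAlgebra.rank K L₁ := by
  obtain ⟨x, hx⟩ := LieAlgebra.exists_isRegular K L₁
  rw [LieAlgebra.isRegular_iff_natTrailingDegree_charpoly_eq_rank] at hx
  rw [← hx]
  have h2 := LieAlgebra.rank_le_natTrailingDegree_charpoly_ad K (e x)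
  rwa [ad_equiv K e he, LinearEquiv.charpoly_conj] at h2

/-- Base change of a linear equivalence. -/
noncomputable def bcEquiv₂ {A : Type*} [CommRing A] (K' : Type*) [CommRing K'] [Algebra A K']
    {M₁ M₂ : Type*} [AddCommGroup M₁] [Module A M₁] [AddCommGroup M₂] [Module A M₂]
    (e : M₁ ≃ₗ[A] M₂) : K' ⊗[A] M₁ ≃ₗ[K'] K' ⊗[A] M₂ :=
  LinearEquiv.ofLinearMap (e.toLinearMap.baseChange K') (e.symm.toLinearMap.baseChange K')
    (by rw [← LinearMap.baseChange_comp]; simp) (by rw [← LinearMap.baseChange_comp]; simp)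

theorem bcEquiv₂_apply {A : Type*} [CommRing A] (K' : Type*) [CommRing K'] [Algebra A K']
    {M₁ M₂ : Type*} [AddCommGroup M₁] [Module A M₁] [AddCommGroup M₂] [Module A M₂]
    (e : M₁ ≃ₗ[A] M₂) (w : K' ⊗[A] M₁) : bcEquiv₂ K' e w = e.toLinearMap.baseChange K' w := rfl

theorem rank_eq_of_equiv (e : L₁ ≃ₗ[K] L₂) (he : ∀ x y, e ⁅x, y⁆ = ⁅e x, e y⁆) :
    LieAlgebra.rank K L₁ = LieAlgebra.rank K L₂ := by
  rw [← rank_baseChange K (AlgebraicClosure K) L₁, ← rank_baseChange K (AlgebraicClosure K) L₂]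
  have he' : ∀ x y, bcEquiv₂ (AlgebraicClosure K) e ⁅x, y⁆ =
      ⁅bcEquiv₂ (AlgebraicClosure K) e x, bcEquiv₂ (AlgebraicClosure K) e y⁆ := by
    intro x y
    rw [bcEquiv₂_apply, bcEquiv₂_apply, bcEquiv₂_apply]
    exact baseChange_lie (AlgebraicClosure K) e.toLinearMap he x y
  apply le_antisymm
  · exact rank_le_of_equiv_of_infinite _ (bcEquiv₂ (AlgebraicClosure K) e).symm
      (symm_lie _ _ he')
  · exact rank_le_of_equiv_of_infinite _ (bcEquiv₂ (AlgebraicClosure K) e) he'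

theorem isRegular_equiv_iff' (e : L₁ ≃ₗ[K] L₂) (he : ∀ x y, e ⁅x, y⁆ = ⁅e x, e y⁆) (x : L₁) :
    LieAlgebra.IsRegular K (e x) ↔ LieAlgebra.IsRegular K x := by
  rw [LieAlgebra.isRegular_iff_natTrailingDegree_charpoly_eq_rank,
    LieAlgebra.isRegular_iff_natTrailingDegree_charpoly_eq_rank, ad_equiv K e he,
    LinearEquiv.charpoly_conj, rank_eq_of_equiv K e he]

theorem engel_smul {V : Type*} [LieRing V] [LieAlgebra K V] (c : K) (hc : c ≠ 0) (x : V) :
    engel K (c • x) = engel K x := by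
  ext z
  rw [mem_engel_iff, mem_engel_iff]
  have h : ∀ n : ℕ, ((LieAlgebra.ad K V (c • x)) ^ n) z = c ^ n • ((LieAlgebra.ad K V x) ^ n) z := by
    intro n
    rw [map_smul, smul_pow, LinearMap.smul_apply]
  constructor
  · rintro ⟨n, hn⟩
    refine ⟨n, ?_⟩
    rw [h] at hn
    exact (smul_eq_zero.mp hn).resolve_left (pow_ne_zero n hc)
  · rintro ⟨n, hn⟩
    exact ⟨n, by rw [h, hn, smul_zero]⟩

theorem isRegular_smul_iff (c : K) (hc : c ≠ 0) (x : L₁) :
    LieAlgebra.IsRegular K (c • x) ↔ LieAlgebra.IsRegular K x := by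
  rw [LieAlgebra.isRegular_iff_finrank_engel_eq_rank, LieAlgebra.isRegular_iff_finrank_engel_eq_rank,
    engel_smul K c hc]

theorem engel_eq_ker_pow (x : L₁) (N : ℕ) (hN : finrank K L₁ ≤ N) :
    (engel K x).toSubmodule = LinearMap.ker ((LieAlgebra.ad K L₁ x) ^ N) := by
  ext z
  rw [LieSubalgebra.mem_toSubmodule, mem_engel_iff, LinearMap.mem_ker]
  constructor
  · rintro ⟨n, hn⟩
    have h1 : z ∈ LinearMap.ker ((LieAlgebra.ad K L₁ x) ^ n) := hn
    have h2 := Module.End.ker_pow_le_ker_pow_finrank (LieAlgebra.ad K L₁ x) n h1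
    rw [← Module.End.ker_pow_eq_ker_pow_finrank_of_le hN] at h2
    exact h2
  · intro h
    exact ⟨N, h⟩

end IsoRank

section CBC

variable {A : Type*} [CommRing A] (B : Type*) [CommRing B] [Algebra A B]
  (K : Type*) [CommRing K] [Algebra A K] [Algebra B K] [IsScalarTower A B K]
  (L : Type*) [LieRing L] [LieAlgebra A L]

/-- `K ⊗[B] (B ⊗[A] L) ≃ K ⊗[A] L`. -/
noncomputable def cbc : K ⊗[B] (B ⊗[A] L) ≃ₗ[K] K ⊗[A] L :=
  TensorProduct.AlgebraTensorModule.cancelBaseChange A B K K L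

theorem cbc_tmul (c : K) (b : B) (l : L) :
    cbc B K L (c ⊗ₜ[B] (b ⊗ₜ[A] l)) = (b • c) ⊗ₜ[A] l := rfl

theorem cbc_lie_tmul (c c' : K) (v v' : B ⊗[A] L) :
    cbc B K L ((c * c') ⊗ₜ[B] ⁅v, v'⁆) = ⁅cbc B K L (c ⊗ₜ[B] v), cbc B K L (c' ⊗ₜ[B] v')⁆ := by
  induction v using TensorProduct.induction_on with
  | zero => rw [zero_lie, TensorProduct.tmul_zero, TensorProduct.tmul_zero, map_zero, zero_lie]
  | add v₁ v₂ h₁ h₂ =>
    rw [add_lie, TensorProduct.tmul_add, TensorProduct.tmul_add, map_add, map_add, add_lie, h₁, h₂]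
  | tmul b l =>
    induction v' using TensorProduct.induction_on with
    | zero => rw [lie_zero, TensorProduct.tmul_zero, TensorProduct.tmul_zero, map_zero, lie_zero]
    | add v₁ v₂ h₁ h₂ =>
      rw [lie_add, TensorProduct.tmul_add, TensorProduct.tmul_add, map_add, map_add, lie_add, h₁, h₂]
    | tmul b' l' =>
      rw [LieAlgebra.ExtendScalars.bracket_tmul, cbc_tmul, cbc_tmul, cbc_tmul,
        LieAlgebra.ExtendScalars.bracket_tmul]
      rw [smul_mul_smul_comm]

theorem cbc_lie (x y : K ⊗[B] (B ⊗[A] L)) : cbc B K L ⁅x, y⁆ = ⁅cbc B K L x, cbc B K L y⁆ := by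
  induction x using TensorProduct.induction_on with
  | zero =>
    have e1 : ⁅(0 : K ⊗[B] (B ⊗[A] L)), y⁆ = 0 := zero_lie y
    rw [e1, map_zero, zero_lie]
  | add x₁ x₂ h₁ h₂ =>
    have e1 : ⁅x₁ + x₂, y⁆ = ⁅x₁, y⁆ + ⁅x₂, y⁆ := add_lie x₁ x₂ y
    rw [e1, map_add, map_add, add_lie, h₁, h₂]
  | tmul c v =>
    induction y using TensorProduct.induction_on with
    | zero =>
      have e1 : ⁅c ⊗ₜ[B] v, (0 : K ⊗[B] (B ⊗[A] L))⁆ = 0 := lie_zero (c ⊗ₜ[B] v)
      rw [e1, map_zero, lie_zero]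
    | add y₁ y₂ h₁ h₂ =>
      have e1 : ⁅c ⊗ₜ[B] v, y₁ + y₂⁆ = ⁅c ⊗ₜ[B] v, y₁⁆ + ⁅c ⊗ₜ[B] v, y₂⁆ := lie_add (c ⊗ₜ[B] v) y₁ y₂
      rw [e1, map_add, map_add, lie_add, h₁, h₂]
    | tmul c' v' =>
      have e1 : ⁅c ⊗ₜ[B] v, c' ⊗ₜ[B] v'⁆ = (c * c') ⊗ₜ[B] ⁅v, v'⁆ :=
        LieAlgebra.ExtendScalars.bracket_tmul B K (B ⊗[A] L) (B ⊗[A] L) c c' v v'
      rw [e1]
      exact cbc_lie_tmul B K L c c' v v'

end CBC

section Fibre

variable {A : Type u} [CommRing A] {L : Type u} [LieRing L] [LieAlgebra A L] [Module.Finite A L]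

/-- The residue field of the kernel of `A → K'` maps to `K'`. -/
noncomputable def resMap (q : PrimeSpectrum A) (K' : Type*) [Field K'] [Algebra A K']
    (hq : q.asIdeal = RingHom.ker (algebraMap A K')) : q.asIdeal.ResidueField →+* K' :=
  Ideal.ResidueField.lift q.asIdeal (algebraMap A K') (by rw [hq]) (by
    intro x hx
    rw [Submonoid.mem_comap, IsUnit.mem_submonoid_iff]
    apply IsUnit.mk0
    intro h0
    apply hx
    rw [hq]
    exact h0)

theorem resMap_algebraMap (q : PrimeSpectrum A) (K' : Type*) [Field K'] [Algebra A K']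
    (hq : q.asIdeal = RingHom.ker (algebraMap A K')) (x : A) :
    resMap q K' hq (algebraMap A q.asIdeal.ResidueField x) = algebraMap A K' x := by
  unfold resMap
  rw [Ideal.ResidueField.lift_algebraMap]

theorem isRegular_and_rank_fibre (q : PrimeSpectrum A) (K' : Type*) [Field K'] [Algebra A K']
    (hq : q.asIdeal = RingHom.ker (algebraMap A K')) (a : L) :
    (LieAlgebra.IsRegular K' ((1 : K') ⊗ₜ[A] a) ↔
      LieAlgebra.IsRegular q.asIdeal.ResidueField ((1 : q.asIdeal.ResidueField) ⊗ₜ[A] a)) ∧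
    LieAlgebra.rank K' (K' ⊗[A] L) =
      LieAlgebra.rank q.asIdeal.ResidueField (q.asIdeal.ResidueField ⊗[A] L) := by
  letI : Algebra q.asIdeal.ResidueField K' := (resMap q K' hq).toAlgebra
  haveI : IsScalarTower A q.asIdeal.ResidueField K' :=
    IsScalarTower.of_algebraMap_eq (fun x => (resMap_algebraMap q K' hq x).symm)
  have he := cbc_lie (A := A) q.asIdeal.ResidueField K' L
  have h1 : cbc q.asIdeal.ResidueField K' L
      ((1 : K') ⊗ₜ[q.asIdeal.ResidueField] ((1 : q.asIdeal.ResidueField) ⊗ₜ[A] a)) =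
      (1 : K') ⊗ₜ[A] a := by
    rw [cbc_tmul, one_smul]
  constructor
  · rw [← h1, isRegular_equiv_iff' K' (cbc q.asIdeal.ResidueField K' L) he,
      isRegular_tmul_iff]
  · rw [← rank_eq_of_equiv K' (cbc q.asIdeal.ResidueField K' L) he, rank_baseChange]

theorem isRegular_fibre_iff (q : PrimeSpectrum A) (K' : Type*) [Field K'] [Algebra A K']
    (hq : q.asIdeal = RingHom.ker (algebraMap A K')) (a : L) :
    LieAlgebra.IsRegular K' ((1 : K') ⊗ₜ[A] a) ↔
      LieAlgebra.IsRegular q.asIdeal.ResidueField ((1 : q.asIdeal.ResidueField) ⊗ₜ[A] a) :=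
  (isRegular_and_rank_fibre q K' hq a).1

theorem rank_fibre_eq (q : PrimeSpectrum A) (K' : Type*) [Field K'] [Algebra A K']
    (hq : q.asIdeal = RingHom.ker (algebraMap A K')) :
    LieAlgebra.rank K' (K' ⊗[A] L) =
      LieAlgebra.rank q.asIdeal.ResidueField (q.asIdeal.ResidueField ⊗[A] L) :=
  (isRegular_and_rank_fibre q K' hq (0 : L)).2

variable (B : Type u) [CommRing B] [Algebra A B]

theorem ker_algebraMap_residueField_comap (q' : PrimeSpectrum B) :
    (PrimeSpectrum.comap (algebraMap A B) q').asIdeal =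
      RingHom.ker (algebraMap A q'.asIdeal.ResidueField) := by
  ext x
  rw [RingHom.mem_ker, IsScalarTower.algebraMap_apply A B q'.asIdeal.ResidueField,
    Ideal.algebraMap_residueField_eq_zero]
  rfl

/-- Regularity on the fibre of `B ⊗[A] L` at a prime `q'` of `B`, for an element of the form
`w ∈ B ⊗[A] L`, can be tested in `κ(q') ⊗[A] L`. -/
theorem isRegular_fibre_baseChange_iff' (q' : PrimeSpectrum B) (w : B ⊗[A] L) :
    LieAlgebra.IsRegular q'.asIdeal.ResidueField ((1 : q'.asIdeal.ResidueField) ⊗ₜ[B] w) ↔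
      LieAlgebra.IsRegular q'.asIdeal.ResidueField
        (cbc B q'.asIdeal.ResidueField L ((1 : q'.asIdeal.ResidueField) ⊗ₜ[B] w)) :=
  (isRegular_equiv_iff' q'.asIdeal.ResidueField (cbc B q'.asIdeal.ResidueField L)
    (cbc_lie B q'.asIdeal.ResidueField L) _).symm

theorem isRegular_fibre_baseChange_iff (q' : PrimeSpectrum B) (a : L) :
    LieAlgebra.IsRegular q'.asIdeal.ResidueField
        ((1 : q'.asIdeal.ResidueField) ⊗ₜ[B] ((1 : B) ⊗ₜ[A] a)) ↔
      LieAlgebra.IsRegular (PrimeSpectrum.comap (algebraMap A B) q').asIdeal.ResidueField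
        ((1 : (PrimeSpectrum.comap (algebraMap A B) q').asIdeal.ResidueField) ⊗ₜ[A] a) := by
  rw [isRegular_fibre_baseChange_iff', cbc_tmul, one_smul]
  exact isRegular_fibre_iff _ q'.asIdeal.ResidueField (ker_algebraMap_residueField_comap B q') a

theorem rank_fibre_baseChange (q' : PrimeSpectrum B) :
    LieAlgebra.rank q'.asIdeal.ResidueField (q'.asIdeal.ResidueField ⊗[B] (B ⊗[A] L)) =
      LieAlgebra.rank (PrimeSpectrum.comap (algebraMap A B) q').asIdeal.ResidueField
        ((PrimeSpectrum.comap (algebraMap A B) q').asIdeal.ResidueField ⊗[A] L) := by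
  rw [rank_eq_of_equiv q'.asIdeal.ResidueField (cbc B q'.asIdeal.ResidueField L)
    (cbc_lie B q'.asIdeal.ResidueField L)]
  exact rank_fibre_eq _ q'.asIdeal.ResidueField (ker_algebraMap_residueField_comap B q')

end Fibre

section Open

variable {A : Type u} [CommRing A] {L : Type u} [LieRing L] [LieAlgebra A L] [Module.Finite A L]

theorem exists_finrank_bound (A : Type u) [CommRing A] (L : Type u) [AddCommGroup L] [Module A L]
    [Module.Finite A L] :
    ∃ N : ℕ, ∀ p : PrimeSpectrum A,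
      finrank p.asIdeal.ResidueField (p.asIdeal.ResidueField ⊗[A] L) ≤ N := by
  classical
  obtain ⟨S, hS⟩ := (Module.Finite.fg_top : (⊤ : Submodule A L).FG)
  refine ⟨S.card, fun p => ?_⟩
  have h1 : Submodule.span p.asIdeal.ResidueField
      (↑(S.image (TensorProduct.mk A p.asIdeal.ResidueField L 1)) :
        Set (p.asIdeal.ResidueField ⊗[A] L)) = ⊤ := by
    rw [Finset.coe_image, ← Submodule.baseChange_span, hS, Submodule.baseChange_top]
  calc finrank p.asIdeal.ResidueField (p.asIdeal.ResidueField ⊗[A] L)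
      = finrank p.asIdeal.ResidueField
          (⊤ : Submodule p.asIdeal.ResidueField (p.asIdeal.ResidueField ⊗[A] L)) :=
        (finrank_top _ _).symm
    _ = finrank p.asIdeal.ResidueField (Submodule.span p.asIdeal.ResidueField
          (↑(S.image (TensorProduct.mk A p.asIdeal.ResidueField L 1)) :
        Set (p.asIdeal.ResidueField ⊗[A] L))) := by
        rw [h1]
    _ ≤ (S.image (TensorProduct.mk A p.asIdeal.ResidueField L 1)).card :=
        finrank_span_finset_le_card _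
    _ ≤ S.card := Finset.card_image_le

theorem finrank_engel_eq (a : L) (N : ℕ) (p : PrimeSpectrum A)
    (hN : finrank p.asIdeal.ResidueField (p.asIdeal.ResidueField ⊗[A] L) ≤ N) :
    finrank p.asIdeal.ResidueField
        (engel p.asIdeal.ResidueField ((1 : p.asIdeal.ResidueField) ⊗ₜ[A] a)) =
      finrank p.asIdeal.ResidueField (p.asIdeal.ResidueField ⊗[A]
        (L ⧸ LinearMap.range ((LieAlgebra.ad A L a) ^ N))) := by
  have h0 : LieAlgebra.ad p.asIdeal.ResidueField (p.asIdeal.ResidueField ⊗[A] L)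
      ((1 : p.asIdeal.ResidueField) ⊗ₜ[A] a) =
      (LieAlgebra.ad A L a).baseChange p.asIdeal.ResidueField :=
    LieModule.toEnd_baseChange A p.asIdeal.ResidueField L L a
  have h1 : (engel p.asIdeal.ResidueField ((1 : p.asIdeal.ResidueField) ⊗ₜ[A] a)).toSubmodule =
      LinearMap.ker (((LieAlgebra.ad A L a) ^ N).baseChange p.asIdeal.ResidueField) := by
    rw [engel_eq_ker_pow p.asIdeal.ResidueField _ N hN, h0, LinearMap.baseChange_pow]
  have e1 := LinearMap.finrank_range_add_finrank_ker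
    (((LieAlgebra.ad A L a) ^ N).baseChange p.asIdeal.ResidueField)
  have e2 := FiberRank9.finrank_range_baseChange_add p.asIdeal.ResidueField
    ((LieAlgebra.ad A L a) ^ N)
  have e3 : finrank p.asIdeal.ResidueField
      (engel p.asIdeal.ResidueField ((1 : p.asIdeal.ResidueField) ⊗ₜ[A] a)) =
      finrank p.asIdeal.ResidueField
        (LinearMap.ker (((LieAlgebra.ad A L a) ^ N).baseChange p.asIdeal.ResidueField)) := by
    rw [← h1]
    rfl
  omega

/-- S8375: if the nilpotent rank of the fibres is locally constant, the locus where a given section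
is regular is open. -/
theorem isOpen_regular
    (hC0 : ∀ p : PrimeSpectrum A, ∃ f : A, f ∉ p.asIdeal ∧ ∀ q : PrimeSpectrum A, f ∉ q.asIdeal →
        LieAlgebra.rank q.asIdeal.ResidueField (q.asIdeal.ResidueField ⊗[A] L) =
          LieAlgebra.rank p.asIdeal.ResidueField (p.asIdeal.ResidueField ⊗[A] L)) (a : L) :
    IsOpen {p : PrimeSpectrum A |
      LieAlgebra.IsRegular p.asIdeal.ResidueField ((1 : p.asIdeal.ResidueField) ⊗ₜ[A] a)} := by
  rw [isOpen_iff_mem_nhds]
  intro p hp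
  obtain ⟨N, hN⟩ := exists_finrank_bound A L
  obtain ⟨f, hfp, hf⟩ := hC0 p
  have h1 := FiberRank9.eventually_fiber_le (A := A)
    (L ⧸ LinearMap.range ((LieAlgebra.ad A L a) ^ N)) p
  have h2 : ∀ᶠ q in nhds p, f ∉ q.asIdeal :=
    (PrimeSpectrum.basicOpen f).isOpen.mem_nhds hfp
  filter_upwards [h1, h2] with q hq1 hq2
  show LieAlgebra.IsRegular q.asIdeal.ResidueField ((1 : q.asIdeal.ResidueField) ⊗ₜ[A] a)
  rw [LieAlgebra.isRegular_iff_finrank_engel_eq_rank]
  have e1 := finrank_engel_eq a N q (hN q)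
  have e2 := finrank_engel_eq a N p (hN p)
  have r1 := LieAlgebra.rank_le_finrank_engel q.asIdeal.ResidueField
    ((1 : q.asIdeal.ResidueField) ⊗ₜ[A] a)
  have hpreg := (LieAlgebra.isRegular_iff_finrank_engel_eq_rank p.asIdeal.ResidueField
    ((1 : p.asIdeal.ResidueField) ⊗ₜ[A] a)).mp hp
  have h3 := hf q hq2
  omega

/-- A regular point has a basic open neighbourhood of regular points. -/
theorem exists_basicOpen_regular
    (hC0 : ∀ p : PrimeSpectrum A, ∃ f : A, f ∉ p.asIdeal ∧ ∀ q : PrimeSpectrum A, f ∉ q.asIdeal →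
        LieAlgebra.rank q.asIdeal.ResidueField (q.asIdeal.ResidueField ⊗[A] L) =
          LieAlgebra.rank p.asIdeal.ResidueField (p.asIdeal.ResidueField ⊗[A] L)) (a : L)
    (p : PrimeSpectrum A)
    (hp : LieAlgebra.IsRegular p.asIdeal.ResidueField ((1 : p.asIdeal.ResidueField) ⊗ₜ[A] a)) :
    ∃ f : A, f ∉ p.asIdeal ∧ ∀ q : PrimeSpectrum A, f ∉ q.asIdeal →
      LieAlgebra.IsRegular q.asIdeal.ResidueField ((1 : q.asIdeal.ResidueField) ⊗ₜ[A] a) := by
  obtain ⟨U, ⟨f, rfl⟩, hpU, hU⟩ :=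
    PrimeSpectrum.isTopologicalBasis_basic_opens.exists_subset_of_mem_open
      (show p ∈ {p : PrimeSpectrum A | LieAlgebra.IsRegular p.asIdeal.ResidueField
        ((1 : p.asIdeal.ResidueField) ⊗ₜ[A] a)} from hp) (isOpen_regular hC0 a)
  exact ⟨f, hpU, fun q hq => hU hq⟩

/-- Every element of a fibre is, up to a nonzero scalar, the image of an element of `L`. -/
theorem exists_lift_regular (p : PrimeSpectrum A)
    (hp : ∃ x : p.asIdeal.ResidueField ⊗[A] L, LieAlgebra.IsRegular p.asIdeal.ResidueField x) :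
    ∃ a : L, LieAlgebra.IsRegular p.asIdeal.ResidueField
      ((1 : p.asIdeal.ResidueField) ⊗ₜ[A] a) := by
  obtain ⟨x, hx⟩ := hp
  obtain ⟨s, hs, a, ha⟩ := LieNilFibH4.exists_clear_denom p.asIdeal x
  have hs0 : algebraMap A p.asIdeal.ResidueField s ≠ 0 :=
    fun h0 => hs (Ideal.algebraMap_residueField_eq_zero.mp h0)
  refine ⟨a, ?_⟩
  rw [← ha]
  exact (isRegular_smul_iff _ _ hs0 x).mpr hx

open SGA3t2b

theorem isQuasiRegular_away (f : A) (a : L)
    (hf : ∀ q : PrimeSpectrum A, f ∉ q.asIdeal →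
      LieAlgebra.IsRegular q.asIdeal.ResidueField ((1 : q.asIdeal.ResidueField) ⊗ₜ[A] a)) :
    IsQuasiRegular (Localization.Away f) (Localization.Away f ⊗[A] L)
      ((1 : Localization.Away f) ⊗ₜ[A] a) := by
  intro q'
  rw [isRegular_fibre_baseChange_iff]
  apply hf
  intro hmem
  have hu : IsUnit (algebraMap A (Localization.Away f) f) :=
    IsLocalization.Away.algebraMap_isUnit f
  exact q'.isPrime.ne_top (Ideal.eq_top_of_isUnit_mem _ hmem hu)

theorem main8376 [Module.Projective A L]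
    (hC2 : ((∀ p : PrimeSpectrum A, ∃ f : A, f ∉ p.asIdeal ∧ ∀ q : PrimeSpectrum A, f ∉ q.asIdeal →
        LieAlgebra.rank q.asIdeal.ResidueField (q.asIdeal.ResidueField ⊗[A] L) =
          LieAlgebra.rank p.asIdeal.ResidueField (p.asIdeal.ResidueField ⊗[A] L)) ∧
      ∀ (A' : Type u) [CommRing A'] [Algebra A A'] (a' : A' ⊗[A] L),
        SGA3t2b.IsQuasiRegular A' (A' ⊗[A] L) a' → SGA3t2b.IsRegularRel A' (A' ⊗[A] L) a'))
    (p : PrimeSpectrum A)
    (hp : ∃ x : p.asIdeal.ResidueField ⊗[A] L, LieAlgebra.IsRegular p.asIdeal.ResidueField x) :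
    ∃ f : A, f ∉ p.asIdeal ∧
      ∃ H : LieSubalgebra (Localization.Away f) (Localization.Away f ⊗[A] L),
        SGA3t2b.IsCartanRel H := by
  obtain ⟨a, ha⟩ := exists_lift_regular p hp
  obtain ⟨f, hfp, hf⟩ := exists_basicOpen_regular hC2.1 a p ha
  refine ⟨f, hfp, ?_⟩
  obtain ⟨-, H, hH, -⟩ := hC2.2 (Localization.Away f) _ (isQuasiRegular_away f a hf)
  exact ⟨H, hH⟩

end Open

end Groth.Agent.Lib.CartanRelH1
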