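import Mathlib
import Groth.Prelude.Def_W4sga3xiixivxvCartan
import Groth.Agent.Lib.LieNilFib_helper4
import Groth.Agent.Lib.CartanRel3_helper1

/-!
# Relative Cartan subalgebras: regular sections and local constancy of the rank (helper1)

* `exists_engel_eq_of_nilpotent_selfNormalizing`: over an infinite field, a nilpotent self-normalizing
  subalgebra `E` of a finite-dimensional Lie algebra is the Engel subalgebra of one of its elements
  (Barnes).
* `fibreLie K H`: the fibre of a Lie subalgebra, as a Lie subalgebra of `K ⊗[A] L`.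
* `rank_eq_rankAtStalk`, `isLocallyConstant_rank_of_isCartanRel`, `c0_of_isCartanRel`: if `L` has a
  relative Cartan subalgebra `H` then the nilpotent rank of the fibres is the rank of the projective
  module `H`, hence locally constant.
* `exists_pow_smul_eq_zero`: an endomorphism `φ` of a finite module which is surjective on the fibres
  over `D(f)` is injective up to `f`-power torsion on generalized kernels.
* `main8374`, `main8378`.
-/

set_option autoImplicit false
universe u
open scoped TensorProduct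
open Module LieSubalgebra

namespace Groth.Agent.Lib.CartanRelH1

section FieldCartan

open LieAlgebra Cardinal

variable (K : Type*) [Field K] [Infinite K] {V : Type*} [LieRing V] [LieAlgebra K V]
  [Module.Finite K V]

/-- Over an infinite field, a nilpotent self-normalizing subalgebra is the Engel subalgebra of one of
its elements. -/
theorem exists_engel_eq_of_nilpotent_selfNormalizing (E : LieSubalgebra K V)
    (hnil : LieRing.IsNilpotent E) (hself : ∀ x : V, (∀ y ∈ E, ⁅x, y⁆ ∈ E) → x ∈ E) :
    ∃ h ∈ E, engel K h = E := by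
  classical
  haveI := hnil
  have hle : ∀ y ∈ E, E ≤ engel K y := by
    intro y hy z hz
    obtain ⟨k, hk⟩ := LieAlgebra.nilpotent_ad_of_nilpotent_algebra K E
    rw [mem_engel_iff]
    refine ⟨k, ?_⟩
    rw [← LieSubalgebra.coe_ad_pow K V E ⟨y, hy⟩ ⟨z, hz⟩ k, hk ⟨y, hy⟩]
    rfl
  have hne : ∃ n, ∃ y ∈ E, finrank K (engel K y) = n := ⟨_, 0, E.zero_mem, rfl⟩
  obtain ⟨y₀, hy₀, hn₀⟩ := Nat.find_spec hne
  have hmin : ∀ y ∈ E, finrank K (engel K y₀) ≤ finrank K (engel K y) := by
    intro y hy
    rw [hn₀]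
    exact Nat.find_min' hne ⟨y, hy, rfl⟩
  have hcard : finrank K V ≤ #K :=
    natCast_le_aleph0.trans <| Cardinal.infinite_iff.mp inferInstance
  have hbot : ∀ y ∈ E, engel K y₀ ≤ engel K y := by
    intro y hy
    set Ex : {engel K z | z ∈ E} := ⟨engel K y₀, y₀, hy₀, rfl⟩
    have hB : IsBot Ex := by
      apply LieAlgebra.engel_isBot_of_isMin hcard E Ex (hle y₀ hy₀)
      rintro ⟨_, y', hy', rfl⟩ hyx
      have h1 : engel K y' ≤ engel K y₀ := hyx
      have h2 := hmin y' hy'
      have h3 : engel K y' = engel K y₀ := by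
        apply LieSubalgebra.toSubmodule_injective
        exact Submodule.eq_of_le_of_finrank_le h1 h2
      exact h3.ge
    exact @hB ⟨engel K y, y, hy, rfl⟩
  let F : LieSubmodule K E V :=
    { (engel K y₀).toSubmodule with
      lie_mem := by
        rintro ⟨u, hu⟩ z hz
        exact (engel K y₀).lie_mem (hle y₀ hy₀ hu) hz }
  have hFnil : LieModule.IsNilpotent E F := by
    rw [LieModule.isNilpotent_iff_forall' (R := K)]
    rintro ⟨y, hy⟩
    rw [Module.End.isNilpotent_iff_of_finite]
    rintro ⟨v, hv⟩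
    have hv' : v ∈ engel K y := hbot y hy (show v ∈ engel K y₀ from hv)
    rw [mem_engel_iff] at hv'
    obtain ⟨n, hn⟩ := hv'
    refine ⟨n, Subtype.ext ?_⟩
    rw [LieSubmodule.coe_toEnd_pow K E V F ⟨y, hy⟩ ⟨v, hv⟩ n]
    exact hn
  have hnorm : E.normalizer = E := by
    apply le_antisymm _ E.le_normalizer
    intro x hx
    rw [LieSubalgebra.mem_normalizer_iff] at hx
    exact hself x hx
  haveI : E.IsCartanSubalgebra := ⟨hnil, hnorm⟩
  obtain ⟨k, hk⟩ := (LieSubmodule.isNilpotent_iff_exists_lcs_eq_bot F).mp hFnil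
  have h1 : F.lcs k ≤ E.toLieSubmodule := by
    rw [hk]
    exact bot_le
  rw [LieSubmodule.lcs_le_iff, LieSubalgebra.ucs_eq_self_of_isCartanSubalgebra] at h1
  refine ⟨y₀, hy₀, le_antisymm ?_ (hle y₀ hy₀)⟩
  intro z hz
  exact h1 hz

/-- Over an infinite field, a nilpotent self-normalizing subalgebra whose dimension is the rank
contains a regular element. -/
theorem exists_isRegular_mem (E : LieSubalgebra K V)
    (hnil : LieRing.IsNilpotent E) (hself : ∀ x : V, (∀ y ∈ E, ⁅x, y⁆ ∈ E) → x ∈ E)
    (hrank : finrank K E = LieAlgebra.rank K V) :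
    ∃ h ∈ E, LieAlgebra.IsRegular K h := by
  obtain ⟨h, hh, hE⟩ := exists_engel_eq_of_nilpotent_selfNormalizing K E hnil hself
  refine ⟨h, hh, ?_⟩
  rw [LieAlgebra.isRegular_iff_finrank_engel_eq_rank, hE]
  exact hrank

end FieldCartan

section FibreLie

variable {A : Type u} [CommRing A] {L : Type u} [LieRing L] [LieAlgebra A L]

theorem range_inclL_baseChange (H : LieSubalgebra A L) (K : Type*) [CommRing K] [Algebra A K] :
    LinearMap.range ((inclL H).baseChange K) = H.toSubmodule.baseChange K := by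
  apply le_antisymm
  · rintro _ ⟨v, rfl⟩
    exact inclL_baseChange_mem H K v
  · rw [Submodule.baseChange_eq_span, Submodule.span_le]
    rintro _ ⟨h, hh, rfl⟩
    exact ⟨(1 : K) ⊗ₜ[A] (⟨h, hh⟩ : H), rfl⟩

/-- The fibre of a Lie subalgebra as a Lie subalgebra of the base-changed Lie algebra. -/
noncomputable def fibreLie (K : Type*) [CommRing K] [Algebra A K] (H : LieSubalgebra A L) :
    LieSubalgebra K (K ⊗[A] L) :=
  { H.toSubmodule.baseChange K with
    lie_mem' := by
      intro x y hx hy
      change x ∈ H.toSubmodule.baseChange K at hx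
      change y ∈ H.toSubmodule.baseChange K at hy
      change ⁅x, y⁆ ∈ H.toSubmodule.baseChange K
      rw [← range_inclL_baseChange] at hx hy ⊢
      obtain ⟨v, rfl⟩ := hx
      obtain ⟨w, rfl⟩ := hy
      exact ⟨⁅v, w⁆, baseChange_lie K (inclL H) (inclL_lie H) v w⟩ }

theorem mem_fibreLie_iff (K : Type*) [CommRing K] [Algebra A K] (H : LieSubalgebra A L)
    (x : K ⊗[A] L) : x ∈ fibreLie K H ↔ x ∈ H.toSubmodule.baseChange K := Iff.rfl

theorem isNilpotent_fibreLie [Module.Finite A L] (K : Type*) [Field K] [Algebra A K]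
    (H : LieSubalgebra A L) (hnil : LieRing.IsNilpotent (K ⊗[A] H)) :
    LieRing.IsNilpotent (fibreLie K H) := by
  haveI := hnil
  obtain ⟨k, hk⟩ := LieAlgebra.nilpotent_ad_of_nilpotent_algebra K (K ⊗[A] H)
  rw [LieAlgebra.isNilpotent_iff_forall (R := K)]
  rintro ⟨x, hx⟩
  rw [Module.End.isNilpotent_iff_of_finite]
  rintro ⟨y, hy⟩
  have hx' := hx
  have hy' := hy
  rw [mem_fibreLie_iff, ← range_inclL_baseChange] at hx' hy'
  obtain ⟨v, hv⟩ := hx'
  obtain ⟨w, hw⟩ := hy'
  refine ⟨k, Subtype.ext ?_⟩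
  rw [LieSubalgebra.coe_ad_pow K (K ⊗[A] L) (fibreLie K H) ⟨x, hx⟩ ⟨y, hy⟩ k]
  show ((LieAlgebra.ad K (K ⊗[A] L) x) ^ k) y = 0
  rw [← hv, ← hw, map_ad_pow ((inclL H).baseChange K)
    (baseChange_lie K (inclL H) (inclL_lie H)), hk v, LinearMap.zero_apply, map_zero]

end FibreLie

section RankStalk

open SGA3t2b

variable {A : Type u} [CommRing A] {L : Type u} [LieRing L] [LieAlgebra A L] [Module.Finite A L]

theorem finrank_baseChange_eq (H : LieSubalgebra A L) [Module.Projective A (L ⧸ H.toSubmodule)]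
    (K : Type*) [Field K] [Algebra A K] :
    finrank K (H.toSubmodule.baseChange K) = finrank K (K ⊗[A] H) := by
  rw [← range_inclL_baseChange]
  exact (LinearEquiv.ofInjective _ (inclL_baseChange_injective H K)).finrank_eq.symm

theorem projective_of_projective_quotient [Module.Projective A L] (H : LieSubalgebra A L)
    [Module.Projective A (L ⧸ H.toSubmodule)] : Module.Projective A H := by
  obtain ⟨r, hr⟩ := exists_retraction H
  refine Module.Projective.of_split (inclL H) r ?_
  ext x
  simp [hr]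

theorem rank_eq_rankAtStalk [Module.Projective A L] (H : LieSubalgebra A L) (hH : IsCartanRel H)
    (q : PrimeSpectrum A) :
    LieAlgebra.rank q.asIdeal.ResidueField (q.asIdeal.ResidueField ⊗[A] L) =
      Module.rankAtStalk (R := A) H q := by
  haveI := hH.1
  haveI : Module.Finite A H := finite_of_projective_quotient H
  haveI : Module.Projective A H := projective_of_projective_quotient H
  rw [Module.rankAtStalk_eq, ← (hH.2 q).2.2]
  exact finrank_baseChange_eq H q.asIdeal.ResidueField

theorem isLocallyConstant_rank_of_isCartanRel [Module.Projective A L] (H : LieSubalgebra A L)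
    (hH : IsCartanRel H) :
    IsLocallyConstant (fun q : PrimeSpectrum A =>
      LieAlgebra.rank q.asIdeal.ResidueField (q.asIdeal.ResidueField ⊗[A] L)) := by
  haveI := hH.1
  haveI : Module.Finite A H := finite_of_projective_quotient H
  haveI : Module.Projective A H := projective_of_projective_quotient H
  haveI : Module.FinitePresentation A H := Module.finitePresentation_of_projective A H
  have h := Module.isLocallyConstant_rankAtStalk (R := A) (M := H)
  have e : (fun q : PrimeSpectrum A =>
      LieAlgebra.rank q.asIdeal.ResidueField (q.asIdeal.ResidueField ⊗[A] L)) =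
      Module.rankAtStalk (R := A) H := funext (fun q => rank_eq_rankAtStalk H hH q)
  rw [e]
  exact h

omit [Module.Finite A L] in
theorem c0_of_isLocallyConstant (r : PrimeSpectrum A → ℕ) (hr : IsLocallyConstant r)
    (p : PrimeSpectrum A) :
    ∃ f : A, f ∉ p.asIdeal ∧ ∀ q : PrimeSpectrum A, f ∉ q.asIdeal → r q = r p := by
  have hopen : IsOpen {q | r q = r p} := hr.isOpen_fiber (r p)
  obtain ⟨U, ⟨f, rfl⟩, hpU, hU⟩ :=
    PrimeSpectrum.isTopologicalBasis_basic_opens.exists_subset_of_mem_open
      (show p ∈ {q | r q = r p} from rfl) hopen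
  exact ⟨f, hpU, fun q hq => hU hq⟩

/-- If `L` has a relative Cartan subalgebra, the nilpotent rank of its fibres is locally constant. -/
theorem c0_of_isCartanRel [Module.Projective A L] (H : LieSubalgebra A L) (hH : IsCartanRel H) :
    ∀ p : PrimeSpectrum A, ∃ f : A, f ∉ p.asIdeal ∧ ∀ q : PrimeSpectrum A, f ∉ q.asIdeal →
      LieAlgebra.rank q.asIdeal.ResidueField (q.asIdeal.ResidueField ⊗[A] L) =
        LieAlgebra.rank p.asIdeal.ResidueField (p.asIdeal.ResidueField ⊗[A] L) :=
  fun p => c0_of_isLocallyConstant _ (isLocallyConstant_rank_of_isCartanRel H hH) p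

end RankStalk

section PowTorsion

variable {A : Type u} [CommRing A] {M : Type u} [AddCommGroup M] [Module A M] [Module.Finite A M]

theorem exists_pow_smul_mem_range (φ : M →ₗ[A] M) (f : A)
    (h : ∀ q : PrimeSpectrum A, f ∉ q.asIdeal →
      Function.Surjective (φ.baseChange q.asIdeal.ResidueField)) :
    ∃ k : ℕ, ∀ m : M, f ^ k • m ∈ LinearMap.range φ := by
  have hrad : f ∈ (Module.annihilator A (M ⧸ LinearMap.range φ)).radical := by
    rw [Ideal.radical_eq_sInf, Ideal.mem_sInf]
    rintro J ⟨hJ, hJp⟩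
    obtain ⟨q, rfl⟩ : ∃ q : PrimeSpectrum A, q.asIdeal = J := ⟨⟨J, hJp⟩, rfl⟩
    by_contra hfJ
    have hsupp : q ∈ Module.support A (M ⧸ LinearMap.range φ) := by
      rw [Module.support_eq_zeroLocus, PrimeSpectrum.mem_zeroLocus]
      exact hJ
    rw [Module.mem_support_iff_nontrivial_residueField_tensorProduct] at hsupp
    have hq := baseChange_surjective q.asIdeal.ResidueField (LinearMap.range φ).mkQ
      (Submodule.mkQ_surjective _)
    have hzero : ∀ z : q.asIdeal.ResidueField ⊗[A] (M ⧸ LinearMap.range φ), z = 0 := by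
      intro z
      obtain ⟨w, rfl⟩ := hq z
      obtain ⟨v, rfl⟩ := h q hfJ w
      rw [← LinearMap.comp_apply, ← LinearMap.baseChange_comp]
      have hc : (LinearMap.range φ).mkQ ∘ₗ φ = 0 := by
        ext m
        simp
      rw [hc, LinearMap.baseChange_zero, LinearMap.zero_apply]
    obtain ⟨⟨x, y, hxy⟩⟩ := hsupp
    exact hxy ((hzero x).trans (hzero y).symm)
  obtain ⟨k, hk⟩ := Ideal.mem_radical_iff.mp hrad
  refine ⟨k, fun m => ?_⟩
  rw [Module.mem_annihilator] at hk
  have h1 := hk (Submodule.Quotient.mk m)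
  rw [← Submodule.Quotient.mk_smul, Submodule.Quotient.mk_eq_zero] at h1
  exact h1

/-- If `φ` is surjective on the fibres over `D(f)`, then every element of a generalized kernel of
`φ` is killed by a power of `f`. -/
theorem exists_pow_smul_eq_zero (φ : M →ₗ[A] M) (f : A)
    (h : ∀ q : PrimeSpectrum A, f ∉ q.asIdeal →
      Function.Surjective (φ.baseChange q.asIdeal.ResidueField))
    (z : M) (n : ℕ) (hz : (φ ^ n) z = 0) : ∃ m : ℕ, f ^ m • z = 0 := by
  obtain ⟨k, hk⟩ := exists_pow_smul_mem_range φ f h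
  have hsurj : Function.Surjective (φ.baseChange (Localization.Away f)) := by
    intro x
    induction x using TensorProduct.induction_on with
    | zero => exact ⟨0, map_zero _⟩
    | add x₁ x₂ h₁ h₂ =>
      obtain ⟨y₁, rfl⟩ := h₁
      obtain ⟨y₂, rfl⟩ := h₂
      exact ⟨y₁ + y₂, map_add _ _ _⟩
    | tmul c m =>
      obtain ⟨m', hm'⟩ := hk m
      refine ⟨(c * (IsLocalization.Away.invSelf f : Localization.Away f) ^ k) ⊗ₜ[A] m', ?_⟩
      have huv : (algebraMap A (Localization.Away f) f) ^ k *
          (IsLocalization.Away.invSelf f : Localization.Away f) ^ k = 1 := by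
        rw [← mul_pow, IsLocalization.Away.mul_invSelf, one_pow]
      rw [LinearMap.baseChange_tmul, hm', ← TensorProduct.smul_tmul, Algebra.smul_def, map_pow,
        mul_left_comm, huv, mul_one]
  have hinj : Function.Injective (φ.baseChange (Localization.Away f)) :=
    OrzechProperty.injective_of_surjective_endomorphism _ hsurj
  have hinjn : Function.Injective ((φ.baseChange (Localization.Away f)) ^ n) := by
    rw [Module.End.coe_pow]
    exact hinj.iterate n
  have h0 : (1 : Localization.Away f) ⊗ₜ[A] z = 0 := by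
    apply hinjn
    rw [map_zero, ← LinearMap.baseChange_pow, LinearMap.baseChange_tmul, hz,
      TensorProduct.tmul_zero]
  have h0' : TensorProduct.mk A (Localization.Away f) M 1 z = 0 := h0
  obtain ⟨⟨s, hs'⟩, hs⟩ := (IsLocalizedModule.eq_zero_iff (Submonoid.powers f)
    (TensorProduct.mk A (Localization.Away f) M 1)).mp h0'
  obtain ⟨m, rfl⟩ := (Submonoid.mem_powers_iff s f).mp hs'
  exact ⟨m, hs⟩

end PowTorsion

section Main

open SGA3t2b

variable {A : Type u} [CommRing A] {L : Type u} [LieRing L] [LieAlgebra A L] [Module.Finite A L]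
  [Module.Projective A L]

theorem main8374 (H : LieSubalgebra A L) (hH : IsCartanRel H) (p : PrimeSpectrum A)
    (hp : Infinite p.asIdeal.ResidueField) :
    ∃ f : A, f ∉ p.asIdeal ∧ ∃ a : L, a ∈ H ∧
      (∀ q : PrimeSpectrum A, f ∉ q.asIdeal →
        LieAlgebra.IsRegular q.asIdeal.ResidueField ((1 : q.asIdeal.ResidueField) ⊗ₜ[A] a)) ∧
      H ≤ LieSubalgebra.engel A a ∧
      ∀ y : L, y ∈ LieSubalgebra.engel A a → ∃ n : ℕ, f ^ n • y ∈ H := by
  haveI := hH.1
  haveI := hp
  haveI : Module.Finite A H := finite_of_projective_quotient H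
  obtain ⟨h₀, hh₀, hreg₀⟩ := exists_isRegular_mem p.asIdeal.ResidueField
    (fibreLie p.asIdeal.ResidueField H)
    (isNilpotent_fibreLie p.asIdeal.ResidueField H (hH.2 p).1)
    (hH.2 p).2.1 (hH.2 p).2.2
  rw [mem_fibreLie_iff, ← range_inclL_baseChange] at hh₀
  obtain ⟨v, hv⟩ := hh₀
  obtain ⟨s, hs, x, hx⟩ := LieNilFibH4.exists_clear_denom p.asIdeal v
  have hs0 : algebraMap A p.asIdeal.ResidueField s ≠ 0 :=
    fun h0 => hs (Ideal.algebraMap_residueField_eq_zero.mp h0)
  have ha : LieAlgebra.IsRegular p.asIdeal.ResidueField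
      ((1 : p.asIdeal.ResidueField) ⊗ₜ[A] (x : L)) := by
    have e : (1 : p.asIdeal.ResidueField) ⊗ₜ[A] (x : L) =
        algebraMap A p.asIdeal.ResidueField s • h₀ := by
      rw [← hv, ← map_smul, hx, LinearMap.baseChange_tmul, inclL_apply]
    rw [e]
    exact (isRegular_smul_iff _ _ hs0 h₀).mpr hreg₀
  obtain ⟨f, hfp, hf⟩ := exists_basicOpen_regular (c0_of_isCartanRel H hH) (x : L) p ha
  refine ⟨f, hfp, (x : L), x.2, hf, le_engel_of_isCartanRel H hH x x.2, ?_⟩
  intro y hy
  rw [mem_engel_iff] at hy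
  obtain ⟨n, hn⟩ := hy
  have hz : ((adQ H x x.2) ^ n) (Submodule.Quotient.mk y) = 0 := by
    rw [adQ_pow_mk, hn, Submodule.Quotient.mk_zero]
  have hsurj : ∀ q : PrimeSpectrum A, f ∉ q.asIdeal →
      Function.Surjective ((adQ H x x.2).baseChange q.asIdeal.ResidueField) := by
    intro q hq
    have hfib := fibre_eq_engel H hH x x.2 q (hf q hq)
    have hinj := adQ_baseChange_injective H x x.2 q.asIdeal.ResidueField hfib
    exact LinearMap.injective_iff_surjective.mp hinj
  obtain ⟨m, hm⟩ := exists_pow_smul_eq_zero (adQ H x x.2) f hsurj _ n hz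
  refine ⟨m, ?_⟩
  rw [← Submodule.Quotient.mk_smul, Submodule.Quotient.mk_eq_zero] at hm
  exact hm

theorem main8378 (B : Type u) [CommRing B] [Algebra A B] [Module.FaithfullyFlat A B]
    (H' : LieSubalgebra B (B ⊗[A] L)) (hH' : IsCartanRel H') :
    ∀ p : PrimeSpectrum A, ∃ f : A, f ∉ p.asIdeal ∧ ∀ q : PrimeSpectrum A, f ∉ q.asIdeal →
        LieAlgebra.rank q.asIdeal.ResidueField (q.asIdeal.ResidueField ⊗[A] L) =
          LieAlgebra.rank p.asIdeal.ResidueField (p.asIdeal.ResidueField ⊗[A] L) := by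
  have hquot : Topology.IsQuotientMap (PrimeSpectrum.comap (algebraMap A B)) :=
    PrimeSpectrum.isQuotientMap_of_generalizingMap
      PrimeSpectrum.comap_surjective_of_faithfullyFlat
      (RingHom.Flat.generalizingMap_comap (RingHom.flat_algebraMap_iff.mpr inferInstance))
  have hB := isLocallyConstant_rank_of_isCartanRel H' hH'
  have hA : IsLocallyConstant (fun q : PrimeSpectrum A =>
      LieAlgebra.rank q.asIdeal.ResidueField (q.asIdeal.ResidueField ⊗[A] L)) := by
    intro s
    rw [← hquot.isOpen_preimage]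
    have e : (PrimeSpectrum.comap (algebraMap A B)) ⁻¹' ((fun q : PrimeSpectrum A =>
        LieAlgebra.rank q.asIdeal.ResidueField (q.asIdeal.ResidueField ⊗[A] L)) ⁻¹' s) =
        (fun q' : PrimeSpectrum B => LieAlgebra.rank q'.asIdeal.ResidueField
          (q'.asIdeal.ResidueField ⊗[B] (B ⊗[A] L))) ⁻¹' s := by
      ext q'
      simp only [Set.mem_preimage]
      rw [rank_fibre_baseChange B q']
    rw [e]
    exact hB s
  exact fun p => c0_of_isLocallyConstant _ hA p

end Main

end Groth.Agent.Lib.CartanRelH1
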