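import Mathlib
import Groth.Prelude.Def_W4sga3xiixivxvCartan
import Groth.Agent.Lib.CartanRel4_helper1

/-!
# Condition (C₂) gives a relative Cartan subalgebra after a faithfully flat étale base change (helper1)

* `cbc_sum_idem`: image in a fibre of `∑ eᵢ ⊗ aᵢ` for a complete system of orthogonal idempotents.
* `comap_surjective_pi_away`, `etale_pi_away`, `faithfullyFlat_pi_away`: a finite product of
  localizations `A_{fᵢ}` whose basic open sets cover `Spec A` is étale and faithfully flat.
* `isQuasiRegular_pi_away`, `main8377`.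
-/

set_option autoImplicit false
universe u
open scoped TensorProduct
open Module LieSubalgebra

namespace Groth.Agent.Lib.CartanRelH1

section Idem

variable {A : Type u} [CommRing A] {L : Type u} [LieRing L] [LieAlgebra A L]

theorem cbc_sum_idem (B : Type u) [CommRing B] [Algebra A B] {ι : Type*} [Fintype ι]
    (e : ι → B) (hsum : ∑ i, e i = 1) (horth : ∀ i j, i ≠ j → e i * e j = 0) (a : ι → L)
    (q' : PrimeSpectrum B) :
    ∃ i₀, e i₀ ∉ q'.asIdeal ∧
      cbc B q'.asIdeal.ResidueField L
        ((1 : q'.asIdeal.ResidueField) ⊗ₜ[B] (∑ i, e i ⊗ₜ[A] a i)) =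
        (1 : q'.asIdeal.ResidueField) ⊗ₜ[A] a i₀ := by
  classical
  have hex : ∃ i₀, e i₀ ∉ q'.asIdeal := by
    by_contra hall
    have hall' : ∀ i, e i ∈ q'.asIdeal := fun i => by
      by_contra hi
      exact hall ⟨i, hi⟩
    apply q'.isPrime.ne_top
    rw [Ideal.eq_top_iff_one, ← hsum]
    exact Ideal.sum_mem _ (fun i _ => hall' i)
  obtain ⟨i₀, hi₀⟩ := hex
  refine ⟨i₀, hi₀, ?_⟩
  have hzero : ∀ j, j ≠ i₀ → algebraMap B q'.asIdeal.ResidueField (e j) = 0 := by
    intro j hj
    rw [Ideal.algebraMap_residueField_eq_zero]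
    have hmem : e j * e i₀ ∈ q'.asIdeal := by
      rw [horth j i₀ hj]
      exact q'.asIdeal.zero_mem
    exact (q'.isPrime.mem_or_mem hmem).resolve_right hi₀
  have hone : algebraMap B q'.asIdeal.ResidueField (e i₀) = 1 := by
    have h1 : algebraMap B q'.asIdeal.ResidueField (∑ i, e i) = 1 := by rw [hsum, map_one]
    rw [map_sum, Finset.sum_eq_single i₀ (fun j _ hj => hzero j hj)
      (fun h => absurd (Finset.mem_univ _) h)] at h1
    exact h1
  rw [TensorProduct.tmul_sum, map_sum, Finset.sum_eq_single i₀]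
  · rw [cbc_tmul, Algebra.smul_def, mul_one, hone]
  · intro j _ hj
    rw [cbc_tmul, Algebra.smul_def, mul_one, hzero j hj, TensorProduct.zero_tmul]
  · intro h
    exact absurd (Finset.mem_univ _) h

end Idem

section Cover

open SGA3t2b

variable {A : Type u} [CommRing A] {L : Type u} [LieRing L] [LieAlgebra A L] [Module.Finite A L]

omit [LieRing L] [LieAlgebra A L] [Module.Finite A L] in
theorem comap_surjective_pi_away {ι : Type u} (f : ι → A)
    (hcov : ∀ q : PrimeSpectrum A, ∃ i, f i ∉ q.asIdeal) :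
    Function.Surjective
      (PrimeSpectrum.comap (algebraMap A (Π i, Localization.Away (f i)))) := by
  intro P
  obtain ⟨i, hi⟩ := hcov P
  have hP : P ∈ Set.range (PrimeSpectrum.comap (algebraMap A (Localization.Away (f i)))) := by
    rw [PrimeSpectrum.localization_away_comap_range (Localization.Away (f i)) (f i)]
    exact hi
  obtain ⟨Q, hQ⟩ := hP
  refine ⟨PrimeSpectrum.comap (Pi.evalRingHom (fun j => Localization.Away (f j)) i) Q, ?_⟩
  rw [← hQ]
  apply PrimeSpectrum.ext
  ext x
  rfl

omit [LieRing L] [LieAlgebra A L] [Module.Finite A L] in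
theorem etale_pi_away {ι : Type u} [Finite ι] (f : ι → A) :
    Algebra.Etale A (Π i, Localization.Away (f i)) := by
  haveI : ∀ i, Algebra.Etale A (Localization.Away (f i)) :=
    fun i => Algebra.Etale.of_isLocalizationAway (f i)
  infer_instance

omit [LieRing L] [LieAlgebra A L] [Module.Finite A L] in
theorem faithfullyFlat_pi_away {ι : Type u} [Finite ι] (f : ι → A)
    (hcov : ∀ q : PrimeSpectrum A, ∃ i, f i ∉ q.asIdeal) :
    Module.FaithfullyFlat A (Π i, Localization.Away (f i)) := by
  haveI : Module.Flat A (Π i, Localization.Away (f i)) := by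
    classical
    haveI : Fintype ι := Fintype.ofFinite ι
    exact Module.Flat.of_linearEquiv
      (DirectSum.linearEquivFunOnFintype A ι (fun i => Localization.Away (f i))).symm
  exact Module.FaithfullyFlat.of_comap_surjective (comap_surjective_pi_away f hcov)

theorem isQuasiRegular_pi_away {ι : Type u} [Fintype ι] [DecidableEq ι] (f : ι → A) (a : ι → L)
    (hreg : ∀ i (q : PrimeSpectrum A), f i ∉ q.asIdeal →
      LieAlgebra.IsRegular q.asIdeal.ResidueField ((1 : q.asIdeal.ResidueField) ⊗ₜ[A] a i)) :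
    IsQuasiRegular (Π i, Localization.Away (f i)) ((Π i, Localization.Away (f i)) ⊗[A] L)
      (∑ i, (Pi.single i 1 : Π i, Localization.Away (f i)) ⊗ₜ[A] a i) := by
  intro q'
  have hsum : ∑ i, (Pi.single i 1 : Π i, Localization.Away (f i)) = 1 := by
    have h := Finset.univ_sum_single (1 : Π i, Localization.Away (f i))
    simpa using h
  have horth : ∀ i j, i ≠ j →
      (Pi.single i 1 : Π i, Localization.Away (f i)) * Pi.single j 1 = 0 := by
    intro i j hij
    rw [← Pi.single_mul_left, Pi.single_eq_of_ne hij, mul_zero, Pi.single_zero]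
  obtain ⟨i₀, hi₀, hcbc⟩ := cbc_sum_idem (A := A) (Π i, Localization.Away (f i))
    (fun i => (Pi.single i 1 : Π i, Localization.Away (f i))) hsum horth a q'
  refine (isRegular_fibre_baseChange_iff' (Π i, Localization.Away (f i)) q' _).mpr ?_
  rw [hcbc]
  refine (isRegular_fibre_iff _ q'.asIdeal.ResidueField
    (ker_algebraMap_residueField_comap (Π i, Localization.Away (f i)) q') (a i₀)).mpr ?_
  apply hreg i₀
  intro hmem
  apply hi₀
  have hmem' : algebraMap A (Π i, Localization.Away (f i)) (f i₀) ∈ q'.asIdeal := hmem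
  have h1 : (IsLocalization.Away.invSelf (f i₀) : Localization.Away (f i₀)) *
      (algebraMap A (Π i, Localization.Away (f i)) (f i₀)) i₀ = 1 := by
    show _ * algebraMap A (Localization.Away (f i₀)) (f i₀) = 1
    rw [mul_comm, IsLocalization.Away.mul_invSelf]
  have he : (Pi.single i₀ 1 : Π i, Localization.Away (f i)) =
      Pi.single i₀ (IsLocalization.Away.invSelf (f i₀) : Localization.Away (f i₀)) *
        algebraMap A (Π i, Localization.Away (f i)) (f i₀) := by
    rw [← Pi.single_mul_left, h1]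
  show (Pi.single i₀ 1 : Π i, Localization.Away (f i)) ∈ q'.asIdeal
  rw [he]
  exact Ideal.mul_mem_left _ _ hmem'

theorem main8377 [Module.Projective A L]
    (hC2 : ((∀ p : PrimeSpectrum A, ∃ f : A, f ∉ p.asIdeal ∧ ∀ q : PrimeSpectrum A, f ∉ q.asIdeal →
        LieAlgebra.rank q.asIdeal.ResidueField (q.asIdeal.ResidueField ⊗[A] L) =
          LieAlgebra.rank p.asIdeal.ResidueField (p.asIdeal.ResidueField ⊗[A] L)) ∧
      ∀ (A' : Type u) [CommRing A'] [Algebra A A'] (a' : A' ⊗[A] L),
        SGA3t2b.IsQuasiRegular A' (A' ⊗[A] L) a' → SGA3t2b.IsRegularRel A' (A' ⊗[A] L) a'))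
    (hreg : ∀ p : PrimeSpectrum A, ∃ x : p.asIdeal.ResidueField ⊗[A] L,
      LieAlgebra.IsRegular p.asIdeal.ResidueField x) :
    ∃ (A' : Type u) (_ : CommRing A') (_ : Algebra A A'), Algebra.Etale A A' ∧
      Module.FaithfullyFlat A A' ∧
        ∃ H : LieSubalgebra A' (A' ⊗[A] L), SGA3t2b.IsCartanRel H := by
  classical
  have h1 : ∀ p : PrimeSpectrum A, ∃ (f : A) (a : L), f ∉ p.asIdeal ∧
      ∀ q : PrimeSpectrum A, f ∉ q.asIdeal →
        LieAlgebra.IsRegular q.asIdeal.ResidueField ((1 : q.asIdeal.ResidueField) ⊗ₜ[A] a) := by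
    intro p
    obtain ⟨a, ha⟩ := exists_lift_regular p (hreg p)
    obtain ⟨f, hfp, hf⟩ := exists_basicOpen_regular hC2.1 a p ha
    exact ⟨f, a, hfp, hf⟩
  choose F a hF ha using h1
  obtain ⟨t, ht⟩ := isCompact_univ.elim_finite_subcover
    (fun p : PrimeSpectrum A => (PrimeSpectrum.basicOpen (F p) : Set (PrimeSpectrum A)))
    (fun p => (PrimeSpectrum.basicOpen (F p)).isOpen)
    (fun q _ => Set.mem_iUnion.mpr ⟨q, hF q⟩)
  have hcov : ∀ q : PrimeSpectrum A, ∃ i : t, F i ∉ q.asIdeal := by
    intro q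
    have hq := ht (Set.mem_univ q)
    simp only [Set.mem_iUnion] at hq
    obtain ⟨i, hi, hq⟩ := hq
    exact ⟨⟨i, hi⟩, hq⟩
  have hq := isQuasiRegular_pi_away (fun i : t => F i) (fun i : t => a i)
    (fun i q hq => ha i q hq)
  obtain ⟨-, H, hH, -⟩ := hC2.2 (Π i : t, Localization.Away (F i)) _ hq
  exact ⟨Π i : t, Localization.Away (F i), inferInstance, inferInstance,
    etale_pi_away (fun i : t => F i), faithfullyFlat_pi_away (fun i : t => F i) hcov, H, hH⟩

end Cover

end Groth.Agent.Lib.CartanRelH1
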