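import Mathlib
import Groth.Prelude.Def_W4sga3xiixivxvCartan
import Groth.Agent.Lib.CartanRel5_helper1

/-!
# Over a reduced base, locally constant nilpotent rank implies (C₂) (helper1)

Let `L` be a finitely generated projective Lie algebra over a reduced ring `A` whose fibres have
locally constant nilpotent rank.  Then for every `A`-algebra `A'`, every quasi-regular element `a'`
of `A' ⊗ L` is regular: `engel A' a'` is a relative Cartan subalgebra (`main8379`).

Method: write `L` as a retract `ι, π` of a finite free module `F`; the family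
`Psi v = ι ∘ ad (π v) ∘ π` of endomorphisms of `F` has a universal characteristic polynomial
`polyCharpoly` with coefficients in `MvPolynomial _ A`.  On the clopen piece of `Spec A` where
`N = (rk F - rk L) + nilpotent rank` equals `j`, the coefficients of index `< j` vanish identically
(here `A` reduced is used), and the coefficient of index `j` is a unit at quasi-regular points.
Cayley–Hamilton then gives `ad a' ^ n * Q (ad a') = 0` with `Q 0` a unit, hence a Fitting
decomposition (`fitting_of_poly`).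
-/

set_option autoImplicit false
universe u
open scoped TensorProduct
open Module LieSubalgebra Polynomial

namespace Groth.Agent.Lib.CartanRelH1

section LemmaT
variable {K : Type*} [Field K] {V W : Type*} [AddCommGroup V] [Module K V] [FiniteDimensional K V]
  [AddCommGroup W] [Module K W] [FiniteDimensional K W]

theorem charpoly_retract (ι : V →ₗ[K] W) (π : W →ₗ[K] V) (h : π ∘ₗ ι = LinearMap.id)
    (φ : Module.End K V) :
    (ι ∘ₗ φ ∘ₗ π).charpoly = φ.charpoly * X ^ (finrank K W - finrank K V) := by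
  have hπι : ∀ v, π (ι v) = v := fun v => LinearMap.congr_fun h v
  let f : (V × LinearMap.ker π) →ₗ[K] W := LinearMap.coprod ι (LinearMap.ker π).subtype
  have hf : ∀ v k, f (v, k) = ι v + (k : W) := fun v k => by
    simp [f, LinearMap.coprod_apply]
  have hinj : Function.Injective f := by
    rw [injective_iff_map_eq_zero]
    rintro ⟨v, k⟩ hvk
    rw [hf] at hvk
    have h1 := congrArg π hvk
    rw [map_add, hπι, map_zero, LinearMap.mem_ker.mp k.2, add_zero] at h1
    subst h1
    rw [map_zero, zero_add] at hvk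
    exact Prod.ext rfl (Subtype.ext hvk)
  have hsurj : Function.Surjective f := by
    intro w
    refine ⟨(π w, ⟨w - ι (π w), ?_⟩), ?_⟩
    · rw [LinearMap.mem_ker, map_sub, hπι, sub_self]
    · rw [hf]
      simp
  let E : (V × LinearMap.ker π) ≃ₗ[K] W := LinearEquiv.ofBijective f ⟨hinj, hsurj⟩
  have hE : ∀ x, E x = f x := fun x => rfl
  have hconj : E.symm.conj (ι ∘ₗ φ ∘ₗ π) = φ.prodMap (0 : Module.End K (LinearMap.ker π)) := by
    apply LinearMap.ext
    rintro ⟨v, k⟩
    rw [LinearEquiv.conj_apply_apply, LinearEquiv.symm_symm, LinearEquiv.symm_apply_eq, hE, hE,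
      hf, LinearMap.prodMap_apply, hf]
    simp only [LinearMap.comp_apply, map_add, hπι, LinearMap.mem_ker.mp k.2, add_zero,
      LinearMap.zero_apply, ZeroMemClass.coe_zero, map_zero]
  have hker : finrank K (LinearMap.ker π) = finrank K W - finrank K V := by
    have h1 := LinearMap.finrank_range_add_finrank_ker π
    have h2 : LinearMap.range π = ⊤ := LinearMap.range_eq_top.mpr (fun v => ⟨ι v, hπι v⟩)
    rw [h2, finrank_top] at h1
    omega
  rw [← LinearEquiv.charpoly_conj E.symm, hconj, LinearMap.charpoly_prodMap, LinearMap.charpoly_zero,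
    hker]

end LemmaT

section Fitting
variable {R : Type*} [CommRing R] {M : Type*} [AddCommGroup M] [Module R M]

theorem fitting_of_poly (φ : Module.End R M) (Q : R[X]) (hu : IsUnit (Q.coeff 0)) (n : ℕ)
    (h : aeval φ (X ^ n * Q) = 0) :
    ∃ ρ : Module.End R M, ρ * ρ = ρ ∧ (∀ x, ρ x = 0 ↔ ∃ k, (φ ^ k) x = 0) ∧
      ∀ y, ∃ z, ρ (φ z - y) = 0 := by
  obtain ⟨v, hv⟩ := hu.exists_right_inv
  obtain ⟨u, hudef⟩ : ∃ u : R, u = Q.coeff 0 := ⟨_, rfl⟩
  rw [← hudef] at hv
  obtain ⟨g, hgdef⟩ : ∃ g : R[X], g = divX Q := ⟨_, rfl⟩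
  have hQ : Q = g * X + C u := by
    rw [hgdef, hudef]
    exact (divX_mul_X_add Q).symm
  have huv : (C u : R[X]) * C v = 1 := by rw [← C_mul, hv, C_1]
  obtain ⟨θ, hθ⟩ : ∃ θ : R[X], θ = -(C v * g * X) := ⟨_, rfl⟩
  have e1 : 1 - θ = C v * Q := by
    rw [hθ, hQ]
    linear_combination (-1 : R[X]) * huv
  obtain ⟨G, hG⟩ : ∃ G : R[X], G = ∑ i ∈ Finset.range (n + 1), θ ^ i := ⟨_, rfl⟩
  obtain ⟨ρ, hρ⟩ : ∃ ρ : R[X], ρ = θ ^ (n + 1) := ⟨_, rfl⟩
  have e2 : 1 - ρ = (1 - θ) * G := by
    rw [hρ, hG]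
    exact (mul_neg_geom_sum θ (n + 1)).symm
  obtain ⟨δ, hδ⟩ : ∃ δ : R[X], δ = (-(C v * g)) ^ (n + 1) := ⟨_, rfl⟩
  have e3 : ρ = δ * X ^ (n + 1) := by
    rw [hρ, hδ, hθ]
    ring
  have hA : aeval φ (X ^ (n + 1) * (1 - ρ)) = 0 := by
    have : X ^ (n + 1) * (1 - ρ) = (X * G * C v) * (X ^ n * Q) := by
      rw [e2, e1]
      ring
    rw [this, map_mul, h, mul_zero]
  have hA' : ∀ x, (φ ^ (n + 1)) x = (φ ^ (n + 1)) (aeval φ ρ x) := by
    intro x
    have h1 := LinearMap.congr_fun hA x
    rw [mul_sub, mul_one, map_sub, map_mul, aeval_X_pow, LinearMap.sub_apply,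
      LinearMap.zero_apply, sub_eq_zero, Module.End.mul_apply] at h1
    exact h1
  have hB : ∀ x, aeval φ ρ x = aeval φ δ ((φ ^ (n + 1)) x) := by
    intro x
    rw [e3, map_mul, aeval_X_pow, Module.End.mul_apply]
  have hidem : aeval φ ρ * aeval φ ρ = aeval φ ρ := by
    have : ρ * ρ - ρ = -(δ * (X ^ (n + 1) * (1 - ρ))) := by
      rw [e3]
      ring
    have h1 : aeval φ (ρ * ρ - ρ) = 0 := by
      rw [this, map_neg, map_mul, hA, mul_zero, neg_zero]
    rw [map_sub, map_mul, sub_eq_zero] at h1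
    exact h1
  refine ⟨aeval φ ρ, hidem, ?_, ?_⟩
  · intro x
    constructor
    · intro hx
      refine ⟨n + 1, ?_⟩
      rw [hA' x, hx, map_zero]
    · rintro ⟨k, hk⟩
      rw [hB]
      have hA'' : aeval φ (X ^ (n + 1) * (1 - ρ ^ k)) = 0 := by
        have : X ^ (n + 1) * (1 - ρ ^ k) =
            (∑ i ∈ Finset.range k, ρ ^ i) * (X ^ (n + 1) * (1 - ρ)) := by
          rw [← mul_neg_geom_sum ρ k]
          ring
        rw [this, map_mul, hA, mul_zero]
      have hk2 : X ^ (n + 1) * ρ ^ k = (X ^ (n + 1) * δ ^ k * X ^ (n * k)) * X ^ k := by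
        rw [e3]
        ring
      have h1 := LinearMap.congr_fun hA'' x
      rw [mul_sub, mul_one, map_sub, LinearMap.sub_apply, LinearMap.zero_apply, sub_eq_zero,
        aeval_X_pow] at h1
      rw [h1, hk2, map_mul, aeval_X_pow, Module.End.mul_apply, hk, map_zero, map_zero]
  · intro y
    refine ⟨aeval φ (-(C v * g) * θ ^ n) y, ?_⟩
    have h1 : φ (aeval φ (-(C v * g) * θ ^ n) y) = aeval φ ρ y := by
      have : ρ = X * (-(C v * g) * θ ^ n) := by
        rw [hρ, pow_succ, hθ]
        ring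
      have h2 : aeval φ ρ = φ * aeval φ (-(C v * g) * θ ^ n) := by
        rw [this, map_mul, aeval_X]
      rw [h2, Module.End.mul_apply]
    rw [h1, map_sub, ← Module.End.mul_apply, hidem, sub_self]

theorem projective_quot_ker_of_idem [Module.Projective R M] (ρ : Module.End R M) (hρ : ρ * ρ = ρ) :
    Module.Projective R (M ⧸ LinearMap.ker ρ) := by
  have h1 : Module.Projective R (LinearMap.range ρ) := by
    refine Module.Projective.of_split (LinearMap.range ρ).subtype ρ.rangeRestrict ?_
    ext ⟨x, y, rfl⟩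
    show ρ (ρ y) = ρ y
    rw [← Module.End.mul_apply, hρ]
  exact Module.Projective.of_equiv (LinearMap.quotKerEquivRange ρ).symm

end Fitting

section PsiDef

noncomputable def Psi (R : Type*) [CommRing R] {L : Type*} [LieRing L] [LieAlgebra R L] {F : Type*}
    [AddCommGroup F] [Module R F] (ι : L →ₗ[R] F) (π : F →ₗ[R] L) : F →ₗ[R] Module.End R F where
  toFun v := ι ∘ₗ (LieAlgebra.ad R L (π v)) ∘ₗ π
  map_add' v w := by
    simp only [map_add, LinearMap.add_comp, LinearMap.comp_add]
  map_smul' c v := by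
    simp only [map_smul, LinearMap.smul_comp, LinearMap.comp_smul, RingHom.id_apply]

theorem Psi_apply_apply (R : Type*) [CommRing R] {L : Type*} [LieRing L] [LieAlgebra R L] {F : Type*}
    [AddCommGroup F] [Module R F] (ι : L →ₗ[R] F) (π : F →ₗ[R] L) (v w : F) :
    Psi R ι π v w = ι ⁅π v, π w⁆ := rfl

theorem Psi_baseChange {A : Type*} [CommRing A] {L : Type*} [LieRing L] [LieAlgebra A L] {F : Type*}
    [AddCommGroup F] [Module A F] (R : Type*) [CommRing R] [Algebra A R]
    (ι : L →ₗ[A] F) (π : F →ₗ[A] L) :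
    LinearMap.tensorProduct A R F F ∘ₗ (Psi A ι π).baseChange R =
      Psi R (ι.baseChange R) (π.baseChange R) := by
  apply TensorProduct.AlgebraTensorModule.ext
  intro r v
  apply TensorProduct.AlgebraTensorModule.ext
  intro s w
  simp [LinearMap.tensorProduct, Psi_apply_apply, TensorProduct.smul_tmul']

theorem coeff_charpoly_Psi {A : Type*} [CommRing A] {L : Type*} [LieRing L] [LieAlgebra A L] {F : Type*}
    [AddCommGroup F] [Module A F] [Module.Free A F] [Module.Finite A F]
    {ι₀ : Type*} [Fintype ι₀] [DecidableEq ι₀] (b : Basis ι₀ A F)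
    (R : Type*) [CommRing R] [Algebra A R]
    (ι : L →ₗ[A] F) (π : F →ₗ[A] L) (w : R ⊗[A] F) (i : ℕ) :
    ((Psi R (ι.baseChange R) (π.baseChange R)) w).charpoly.coeff i =
      MvPolynomial.eval ((Algebra.TensorProduct.basis R b).repr w)
        (MvPolynomial.map (algebraMap A R) ((LinearMap.polyCharpoly (Psi A ι π) b).coeff i)) := by
  rw [← Psi_baseChange, ← LinearMap.polyCharpoly_coeff_eval _ (Algebra.TensorProduct.basis R b) w i,
    LinearMap.polyCharpoly_baseChange, Polynomial.coeff_map]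

end PsiDef

section AevalRetract

variable {R : Type*} [CommRing R] {M N : Type*} [AddCommGroup M] [Module R M] [AddCommGroup N]
  [Module R N]

theorem pow_retract (ι : M →ₗ[R] N) (π : N →ₗ[R] M) (h : π ∘ₗ ι = LinearMap.id)
    (φ : Module.End R M) (k : ℕ) (x : M) :
    π (((ι ∘ₗ φ ∘ₗ π) ^ k) (ι x)) = (φ ^ k) x := by
  have hπι : ∀ v, π (ι v) = v := fun v => LinearMap.congr_fun h v
  induction k generalizing x with
  | zero => rw [pow_zero, pow_zero, Module.End.one_apply, Module.End.one_apply, hπι]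
  | succ k ih =>
    rw [pow_succ, Module.End.mul_apply, pow_succ, Module.End.mul_apply]
    have h1 : (ι ∘ₗ φ ∘ₗ π) (ι x) = ι (φ x) := by
      rw [LinearMap.comp_apply, LinearMap.comp_apply, hπι]
    rw [h1, ih]

theorem aeval_retract (ι : M →ₗ[R] N) (π : N →ₗ[R] M) (h : π ∘ₗ ι = LinearMap.id)
    (φ : Module.End R M) (p : R[X]) (x : M) :
    π (aeval (ι ∘ₗ φ ∘ₗ π) p (ι x)) = aeval φ p x := by
  induction p using Polynomial.induction_on' with
  | add p q hp hq =>
    rw [map_add, map_add, LinearMap.add_apply, LinearMap.add_apply, map_add, hp, hq]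
  | monomial n a =>
    rw [aeval_monomial, aeval_monomial, Module.End.mul_apply, Module.End.mul_apply,
      Module.algebraMap_end_apply, Module.algebraMap_end_apply, map_smul, pow_retract ι π h]

theorem aeval_charpoly_retract [Module.Free R N] [Module.Finite R N] (ι : M →ₗ[R] N)
    (π : N →ₗ[R] M) (h : π ∘ₗ ι = LinearMap.id) (φ : Module.End R M) :
    aeval φ (ι ∘ₗ φ ∘ₗ π).charpoly = 0 := by
  apply LinearMap.ext
  intro x
  rw [← aeval_retract ι π h φ _ x, LinearMap.aeval_self_charpoly, LinearMap.zero_apply, map_zero,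
    LinearMap.zero_apply]

end AevalRetract

section FibreNum

variable {A : Type u} [CommRing A] {L : Type u} [LieRing L] [LieAlgebra A L] [Module.Finite A L]

/-- `(n - dim L_K) + rank L_K` for a field `K` over `A`. -/
noncomputable def NK (A : Type u) [CommRing A] (L : Type u) [LieRing L] [LieAlgebra A L]
    [Module.Finite A L] (n : ℕ) (K : Type*) [Field K] [Algebra A K] : ℕ :=
  (n - finrank K (K ⊗[A] L)) + LieAlgebra.rank K (K ⊗[A] L)

theorem finrank_fibre_eq (q : PrimeSpectrum A) (K' : Type*) [Field K'] [Algebra A K']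
    (hq : q.asIdeal = RingHom.ker (algebraMap A K')) :
    finrank K' (K' ⊗[A] L) =
      finrank q.asIdeal.ResidueField (q.asIdeal.ResidueField ⊗[A] L) := by
  letI : Algebra q.asIdeal.ResidueField K' := (resMap q K' hq).toAlgebra
  haveI : IsScalarTower A q.asIdeal.ResidueField K' :=
    IsScalarTower.of_algebraMap_eq (fun x => (resMap_algebraMap q K' hq x).symm)
  rw [← (cbc (A := A) q.asIdeal.ResidueField K' L).finrank_eq, Module.finrank_baseChange]

theorem NK_eq (n : ℕ) (q : PrimeSpectrum A) (K' : Type*) [Field K'] [Algebra A K']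
    (hq : q.asIdeal = RingHom.ker (algebraMap A K')) :
    NK A L n K' = NK A L n q.asIdeal.ResidueField := by
  unfold NK
  rw [finrank_fibre_eq q K' hq, rank_fibre_eq q K' hq]

variable {F : Type u} [AddCommGroup F] [Module A F] [Module.Free A F] [Module.Finite A F]
  {ι₀ : Type*} [Fintype ι₀] [DecidableEq ι₀] (b : Basis ι₀ A F)
  (ι : L →ₗ[A] F) (π : F →ₗ[A] L) (hπι : π ∘ₗ ι = LinearMap.id)

include b hπι in
theorem natTrailingDegree_charpoly_Psi (K : Type*) [Field K] [Algebra A K] (w : K ⊗[A] F) :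
    ((Psi K (ι.baseChange K) (π.baseChange K)) w).charpoly.natTrailingDegree =
      (LieAlgebra.ad K (K ⊗[A] L) (π.baseChange K w)).charpoly.natTrailingDegree +
        (Fintype.card ι₀ - finrank K (K ⊗[A] L)) := by
  have h : π.baseChange K ∘ₗ ι.baseChange K = LinearMap.id := by
    rw [← LinearMap.baseChange_comp, hπι, LinearMap.baseChange_id]
  have e : (Psi K (ι.baseChange K) (π.baseChange K)) w =
      ι.baseChange K ∘ₗ (LieAlgebra.ad K (K ⊗[A] L) (π.baseChange K w)) ∘ₗ π.baseChange K := rfl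
  rw [e, charpoly_retract _ _ h,
    Polynomial.natTrailingDegree_mul_X_pow (LinearMap.charpoly_monic _).ne_zero,
    Module.finrank_eq_card_basis (Algebra.TensorProduct.basis K b)]

include b hπι in
theorem NK_le (K : Type*) [Field K] [Algebra A K] (w : K ⊗[A] F) :
    NK A L (Fintype.card ι₀) K ≤
      ((Psi K (ι.baseChange K) (π.baseChange K)) w).charpoly.natTrailingDegree := by
  rw [natTrailingDegree_charpoly_Psi b ι π hπι K w]
  unfold NK
  have h1 := LieAlgebra.rank_le_natTrailingDegree_charpoly_ad K (π.baseChange K w)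
  omega

include b hπι in
theorem NK_eq_of_isRegular (K : Type*) [Field K] [Algebra A K] (w : K ⊗[A] F)
    (hw : LieAlgebra.IsRegular K (π.baseChange K w)) :
    ((Psi K (ι.baseChange K) (π.baseChange K)) w).charpoly.natTrailingDegree =
      NK A L (Fintype.card ι₀) K := by
  rw [natTrailingDegree_charpoly_Psi b ι π hπι K w]
  unfold NK
  have h1 := (LieAlgebra.isRegular_iff_natTrailingDegree_charpoly_eq_rank K _).mp hw
  omega

include hπι in
/-- The coefficients of index `< N(q)` of the universal characteristic polynomial lie in `q`. -/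
theorem coeff_mem_of_lt (q : PrimeSpectrum A) (i : ℕ)
    (hi : i < NK A L (Fintype.card ι₀) q.asIdeal.ResidueField) (s : ι₀ →₀ ℕ) :
    MvPolynomial.coeff s ((LinearMap.polyCharpoly (Psi A ι π) b).coeff i) ∈ q.asIdeal := by
  have hker : q.asIdeal =
      RingHom.ker (algebraMap A (AlgebraicClosure q.asIdeal.ResidueField)) := by
    ext x
    rw [RingHom.mem_ker, IsScalarTower.algebraMap_apply A q.asIdeal.ResidueField
      (AlgebraicClosure q.asIdeal.ResidueField),
      map_eq_zero_iff _ (algebraMap q.asIdeal.ResidueField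
        (AlgebraicClosure q.asIdeal.ResidueField)).injective,
      Ideal.algebraMap_residueField_eq_zero]
  have hN := NK_eq (L := L) (Fintype.card ι₀) q (AlgebraicClosure q.asIdeal.ResidueField) hker
  have hP : LinearMap.polyCharpoly
      (Psi (AlgebraicClosure q.asIdeal.ResidueField)
        (ι.baseChange (AlgebraicClosure q.asIdeal.ResidueField))
        (π.baseChange (AlgebraicClosure q.asIdeal.ResidueField)))
      (Algebra.TensorProduct.basis (AlgebraicClosure q.asIdeal.ResidueField) b) =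
      (LinearMap.polyCharpoly (Psi A ι π) b).map
        (MvPolynomial.map (algebraMap A (AlgebraicClosure q.asIdeal.ResidueField))) := by
    rw [← Psi_baseChange, LinearMap.polyCharpoly_baseChange]
  obtain ⟨x, hx⟩ := LinearMap.exists_isNilRegular
    (Psi (AlgebraicClosure q.asIdeal.ResidueField)
      (ι.baseChange (AlgebraicClosure q.asIdeal.ResidueField))
      (π.baseChange (AlgebraicClosure q.asIdeal.ResidueField)))
  rw [LinearMap.isNilRegular_iff_natTrailingDegree_charpoly_eq_nilRank,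
    LinearMap.nilRank_eq_polyCharpoly_natTrailingDegree _
      (Algebra.TensorProduct.basis (AlgebraicClosure q.asIdeal.ResidueField) b)] at hx
  have h1 := NK_le b ι π hπι (AlgebraicClosure q.asIdeal.ResidueField) x
  have h2 : i < (LinearMap.polyCharpoly
      (Psi (AlgebraicClosure q.asIdeal.ResidueField)
        (ι.baseChange (AlgebraicClosure q.asIdeal.ResidueField))
        (π.baseChange (AlgebraicClosure q.asIdeal.ResidueField)))
      (Algebra.TensorProduct.basis (AlgebraicClosure q.asIdeal.ResidueField)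
        b)).natTrailingDegree := by
    omega
  have h3 := Polynomial.coeff_eq_zero_of_lt_natTrailingDegree h2
  rw [hP, Polynomial.coeff_map] at h3
  have h4 := congrArg (MvPolynomial.coeff s) h3
  rw [MvPolynomial.coeff_map, MvPolynomial.coeff_zero] at h4
  rw [hker, RingHom.mem_ker]
  exact h4

include hπι in
theorem C_mul_coeff_eq_zero [IsReduced A] (e : A) (j : ℕ)
    (he : ∀ q : PrimeSpectrum A, e ∉ q.asIdeal →
      NK A L (Fintype.card ι₀) q.asIdeal.ResidueField = j) (i : ℕ) (hi : i < j) :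
    MvPolynomial.C e * (LinearMap.polyCharpoly (Psi A ι π) b).coeff i = 0 := by
  ext s
  rw [MvPolynomial.coeff_C_mul, MvPolynomial.coeff_zero]
  apply IsReduced.eq_zero
  rw [nilpotent_iff_mem_prime]
  intro J hJ
  by_cases heJ : e ∈ J
  · exact Ideal.mul_mem_right _ _ heJ
  · apply Ideal.mul_mem_left
    exact coeff_mem_of_lt b ι π hπι ⟨J, hJ⟩ i (by rw [he ⟨J, hJ⟩ heJ]; exact hi) s

end FibreNum

section CbcM

variable {A : Type u} [CommRing A] {L : Type u} [LieRing L] [LieAlgebra A L] [Module.Finite A L]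
  {F : Type u} [AddCommGroup F] [Module A F] [Module.Free A F] [Module.Finite A F]
  {ι₀ : Type*} [Fintype ι₀] [DecidableEq ι₀] (b : Basis ι₀ A F)
  (ι : L →ₗ[A] F) (π : F →ₗ[A] L) (hπι : π ∘ₗ ι = LinearMap.id)
  (B : Type u) [CommRing B] [Algebra A B] (K : Type u) [CommRing K] [Algebra A K] [Algebra B K]
  [IsScalarTower A B K]

/-- `K ⊗[B] (B ⊗[A] F) ≃ K ⊗[A] F` for modules. -/
noncomputable def cbcM (F : Type u) [AddCommGroup F] [Module A F] :
    K ⊗[B] (B ⊗[A] F) ≃ₗ[K] K ⊗[A] F :=
  TensorProduct.AlgebraTensorModule.cancelBaseChange A B K K F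

omit [Module.Free A F] [Module.Finite A F] in
theorem cbcM_tmul (c : K) (r : B) (f : F) :
    cbcM B K F (c ⊗ₜ[B] (r ⊗ₜ[A] f)) = (r • c) ⊗ₜ[A] f := rfl

omit [Module.Free A F] [Module.Finite A F] [DecidableEq ι₀] in
theorem repr_cbcM (w : B ⊗[A] F) (k : ι₀) :
    (Algebra.TensorProduct.basis K b).repr (cbcM B K F ((1 : K) ⊗ₜ[B] w)) k =
      algebraMap B K ((Algebra.TensorProduct.basis B b).repr w k) := by
  induction w using TensorProduct.induction_on with
  | zero => simp
  | tmul r f =>
    rw [cbcM_tmul, Algebra.TensorProduct.basis_repr_tmul, Algebra.TensorProduct.basis_repr_tmul]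
    simp only [Finsupp.smul_apply, Finsupp.mapRange_apply, smul_eq_mul, map_mul]
    rw [Algebra.smul_def, mul_one, ← IsScalarTower.algebraMap_apply]
  | add w₁ w₂ h₁ h₂ =>
    rw [TensorProduct.tmul_add, map_add, map_add, map_add, Finsupp.add_apply, Finsupp.add_apply,
      map_add, h₁, h₂]

omit [Module.Finite A L] [Module.Free A F] [Module.Finite A F] in
theorem pi_cbcM (w : B ⊗[A] F) :
    π.baseChange K (cbcM B K F ((1 : K) ⊗ₜ[B] w)) =
      cbc B K L ((1 : K) ⊗ₜ[B] (π.baseChange B w)) := by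
  induction w using TensorProduct.induction_on with
  | zero => simp
  | tmul r f => rw [cbcM_tmul, LinearMap.baseChange_tmul, LinearMap.baseChange_tmul, cbc_tmul]
  | add w₁ w₂ h₁ h₂ =>
    rw [TensorProduct.tmul_add, map_add, map_add, h₁, h₂, map_add, TensorProduct.tmul_add,
      map_add]

include b in
omit [Module.Finite A L] in
theorem coeff_charpoly_Psi_map (w : B ⊗[A] F) (i : ℕ) :
    algebraMap B K (((Psi B (ι.baseChange B) (π.baseChange B)) w).charpoly.coeff i) =
      ((Psi K (ι.baseChange K) (π.baseChange K))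
        (cbcM B K F ((1 : K) ⊗ₜ[B] w))).charpoly.coeff i := by
  rw [coeff_charpoly_Psi b B ι π w i, coeff_charpoly_Psi b K ι π _ i, MvPolynomial.eval_map,
    MvPolynomial.eval_map, MvPolynomial.eval₂_comp_left, IsScalarTower.algebraMap_eq A B K]
  congr 1
  funext k
  exact (repr_cbcM b B K w k).symm

include b hπι in
/-- At a prime `q'` of `B` where `π w` is regular, the coefficient of index `N` of the
characteristic polynomial of `Psi w` is not in `q'`. -/
theorem coeff_notMem_of_isRegular (q' : PrimeSpectrum B) (w : B ⊗[A] F)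
    (hreg : LieAlgebra.IsRegular q'.asIdeal.ResidueField
      ((1 : q'.asIdeal.ResidueField) ⊗ₜ[B] (π.baseChange B w))) :
    ((Psi B (ι.baseChange B) (π.baseChange B)) w).charpoly.coeff
        (NK A L (Fintype.card ι₀)
          (PrimeSpectrum.comap (algebraMap A B) q').asIdeal.ResidueField) ∉ q'.asIdeal ∧
      NK A L (Fintype.card ι₀)
        (PrimeSpectrum.comap (algebraMap A B) q').asIdeal.ResidueField ≤ Fintype.card ι₀ := by
  have hreg' : LieAlgebra.IsRegular q'.asIdeal.ResidueField
      (π.baseChange q'.asIdeal.ResidueField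
        (cbcM B q'.asIdeal.ResidueField F ((1 : q'.asIdeal.ResidueField) ⊗ₜ[B] w))) := by
    rw [pi_cbcM]
    exact (isRegular_fibre_baseChange_iff' B q' _).mp hreg
  have hT := NK_eq_of_isRegular b ι π hπι q'.asIdeal.ResidueField _ hreg'
  have hNK := NK_eq (L := L) (Fintype.card ι₀) (PrimeSpectrum.comap (algebraMap A B) q')
    q'.asIdeal.ResidueField (ker_algebraMap_residueField_comap B q')
  constructor
  · intro hmem
    have h0 := (Ideal.algebraMap_residueField_eq_zero (I := q'.asIdeal)).mpr hmem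
    rw [coeff_charpoly_Psi_map b ι π B q'.asIdeal.ResidueField w, ← hNK, ← hT] at h0
    exact Polynomial.trailingCoeff_nonzero_iff_nonzero.mpr
      (LinearMap.charpoly_monic _).ne_zero h0
  · rw [← hNK, ← hT]
    refine (Polynomial.natTrailingDegree_le_natDegree _).trans ?_
    rw [LinearMap.charpoly_natDegree,
      Module.finrank_eq_card_basis (Algebra.TensorProduct.basis q'.asIdeal.ResidueField b)]

end CbcM

section Main

open SGA3t2b

variable {A : Type u} [CommRing A] {L : Type u} [LieRing L] [LieAlgebra A L] [Module.Finite A L]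

theorem isLocallyConstant_NK [Module.Projective A L]
    (hC0 : ∀ p : PrimeSpectrum A, ∃ f : A, f ∉ p.asIdeal ∧ ∀ q : PrimeSpectrum A, f ∉ q.asIdeal →
        LieAlgebra.rank q.asIdeal.ResidueField (q.asIdeal.ResidueField ⊗[A] L) =
          LieAlgebra.rank p.asIdeal.ResidueField (p.asIdeal.ResidueField ⊗[A] L)) (n : ℕ) :
    IsLocallyConstant (fun q : PrimeSpectrum A => NK A L n q.asIdeal.ResidueField) := by
  haveI : Module.FinitePresentation A L := Module.finitePresentation_of_projective A L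
  have h1 : IsLocallyConstant (fun q : PrimeSpectrum A =>
      finrank q.asIdeal.ResidueField (q.asIdeal.ResidueField ⊗[A] L)) := by
    have h := Module.isLocallyConstant_rankAtStalk (R := A) (M := L)
    have e : (fun q : PrimeSpectrum A =>
        finrank q.asIdeal.ResidueField (q.asIdeal.ResidueField ⊗[A] L)) =
        Module.rankAtStalk (R := A) L := funext (fun q => (Module.rankAtStalk_eq q).symm)
    rw [e]
    exact h
  have h2 : IsLocallyConstant (fun q : PrimeSpectrum A =>
      LieAlgebra.rank q.asIdeal.ResidueField (q.asIdeal.ResidueField ⊗[A] L)) := by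
    rw [IsLocallyConstant.iff_exists_open]
    intro p
    obtain ⟨f, hfp, hf⟩ := hC0 p
    exact ⟨PrimeSpectrum.basicOpen f, (PrimeSpectrum.basicOpen f).isOpen, hfp,
      fun q hq => hf q hq⟩
  exact h1.comp₂ h2 (fun a r => (n - a) + r)

omit [LieRing L] [LieAlgebra A L] [Module.Finite A L] in
theorem exists_idem_family (N : PrimeSpectrum A → ℕ) (hN : IsLocallyConstant N) :
    ∃ e : ℕ → A, ∀ (j : ℕ) (q : PrimeSpectrum A), e j ∉ q.asIdeal ↔ N q = j := by
  have h : ∀ j : ℕ, ∃ e : A, ∀ q : PrimeSpectrum A, e ∉ q.asIdeal ↔ N q = j := by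
    intro j
    obtain ⟨e, -, he⟩ := PrimeSpectrum.isClopen_iff.mp (hN.isClopen_fiber j)
    refine ⟨e, fun q => ?_⟩
    have h1 : q ∈ {x | N x = j} ↔ q ∈ (PrimeSpectrum.basicOpen e : Set (PrimeSpectrum A)) := by
      rw [he]
    exact h1.symm
  choose e he using h
  exact ⟨e, he⟩

theorem main8379_aux [Module.Projective A L] [IsReduced A]
    {F : Type u} [AddCommGroup F] [Module A F] [Module.Free A F] [Module.Finite A F]
    {ι₀ : Type*} [Fintype ι₀] [DecidableEq ι₀] (b : Basis ι₀ A F)
    (ι : L →ₗ[A] F) (π : F →ₗ[A] L) (hπι : π ∘ₗ ι = LinearMap.id)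
    (hC0 : ∀ p : PrimeSpectrum A, ∃ f : A, f ∉ p.asIdeal ∧ ∀ q : PrimeSpectrum A, f ∉ q.asIdeal →
        LieAlgebra.rank q.asIdeal.ResidueField (q.asIdeal.ResidueField ⊗[A] L) =
          LieAlgebra.rank p.asIdeal.ResidueField (p.asIdeal.ResidueField ⊗[A] L))
    (A' : Type u) [CommRing A'] [Algebra A A'] (a' : A' ⊗[A] L)
    (ha' : IsQuasiRegular A' (A' ⊗[A] L) a') :
    IsRegularRel A' (A' ⊗[A] L) a' := by
  classical
  obtain ⟨e, he⟩ := exists_idem_family _ (isLocallyConstant_NK hC0 (Fintype.card ι₀))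
  have hπι' : π.baseChange A' ∘ₗ ι.baseChange A' = LinearMap.id := by
    rw [← LinearMap.baseChange_comp, hπι, LinearMap.baseChange_id]
  obtain ⟨w, hwdef⟩ : ∃ w : A' ⊗[A] F, w = ι.baseChange A' a' := ⟨_, rfl⟩
  have hw : π.baseChange A' w = a' := by
    rw [hwdef]
    exact LinearMap.congr_fun hπι' a'
  obtain ⟨φ, hφ⟩ : ∃ φ : Module.End A' (A' ⊗[A] L), φ = LieAlgebra.ad A' (A' ⊗[A] L) a' :=
    ⟨_, rfl⟩
  have hψ : (Psi A' (ι.baseChange A') (π.baseChange A')) w =
      ι.baseChange A' ∘ₗ φ ∘ₗ π.baseChange A' := by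
    show ι.baseChange A' ∘ₗ (LieAlgebra.ad A' (A' ⊗[A] L) (π.baseChange A' w)) ∘ₗ
      π.baseChange A' = _
    rw [hw, hφ]
  obtain ⟨χ, hχdef⟩ : ∃ χ : A'[X],
      χ = ((Psi A' (ι.baseChange A') (π.baseChange A')) w).charpoly := ⟨_, rfl⟩
  have hχ : aeval φ χ = 0 := by
    rw [hχdef, hψ]
    exact aeval_charpoly_retract _ _ hπι' φ
  have hvanish : ∀ j i, i < j → algebraMap A A' (e j) * χ.coeff i = 0 := by
    intro j i hij
    rw [hχdef, coeff_charpoly_Psi b A' ι π w i]
    have h0 := C_mul_coeff_eq_zero b ι π hπι (e j) j (fun q hq => (he j q).mp hq) i hij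
    have h1 := congrArg (fun p => MvPolynomial.eval ((Algebra.TensorProduct.basis A' b).repr w)
      (MvPolynomial.map (algebraMap A A') p)) h0
    simp only [map_mul, MvPolynomial.map_C, MvPolynomial.eval_C, map_zero] at h1
    exact h1
  have hQj : ∀ j, ∃ Qj : A'[X], C (algebraMap A A' (e j)) * χ = X ^ j * Qj := by
    intro j
    have hdvd : X ^ j ∣ C (algebraMap A A' (e j)) * χ := by
      rw [Polynomial.X_pow_dvd_iff]
      intro d hd
      rw [Polynomial.coeff_C_mul]
      exact hvanish j d hd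
    exact hdvd
  choose Qf hQf using hQj
  have hQ0 : ∀ j, (Qf j).coeff 0 = algebraMap A A' (e j) * χ.coeff j := by
    intro j
    have h2 := Polynomial.coeff_X_pow_mul (Qf j) j 0
    rw [zero_add] at h2
    rw [← h2, ← hQf j, Polynomial.coeff_C_mul]
  obtain ⟨Q, hQdef⟩ : ∃ Q : A'[X], Q = ∑ j ∈ Finset.range (Fintype.card ι₀ + 1), Qf j :=
    ⟨_, rfl⟩
  have hXQ : X ^ (Fintype.card ι₀) * Q =
      (∑ j ∈ Finset.range (Fintype.card ι₀ + 1),
        X ^ (Fintype.card ι₀ - j) * C (algebraMap A A' (e j))) * χ := by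
    rw [hQdef, Finset.mul_sum, Finset.sum_mul]
    apply Finset.sum_congr rfl
    intro j hj
    have hjn : j ≤ Fintype.card ι₀ := Nat.lt_succ_iff.mp (Finset.mem_range.mp hj)
    rw [mul_assoc, hQf j, ← mul_assoc, ← pow_add, Nat.sub_add_cancel hjn]
  have hQaeval : aeval φ (X ^ (Fintype.card ι₀) * Q) = 0 := by
    rw [hXQ, map_mul, hχ, mul_zero]
  have hQcoeff0 : Q.coeff 0 =
      ∑ j ∈ Finset.range (Fintype.card ι₀ + 1), algebraMap A A' (e j) * χ.coeff j := by
    rw [hQdef, Polynomial.finsetSum_coeff]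
    exact Finset.sum_congr rfl (fun j _ => hQ0 j)
  have hunit : IsUnit (Q.coeff 0) := by
    by_contra hu
    obtain ⟨m, hm, hmem⟩ := exists_max_ideal_of_mem_nonunits (mem_nonunits_iff.mpr hu)
    obtain ⟨q', hq'⟩ : ∃ q' : PrimeSpectrum A', q'.asIdeal = m := ⟨⟨m, hm.isPrime⟩, rfl⟩
    obtain ⟨hnot, hle⟩ := coeff_notMem_of_isRegular b ι π hπι A' q' w (by rw [hw]; exact ha' q')
    obtain ⟨j₀, hj₀⟩ : ∃ j₀ : ℕ, NK A L (Fintype.card ι₀)
        (PrimeSpectrum.comap (algebraMap A A') q').asIdeal.ResidueField = j₀ := ⟨_, rfl⟩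
    rw [hj₀] at hnot hle
    rw [← hχdef] at hnot
    have hj₀mem : j₀ ∈ Finset.range (Fintype.card ι₀ + 1) :=
      Finset.mem_range.mpr (Nat.lt_succ_of_le hle)
    rw [hQcoeff0, ← Finset.add_sum_erase _ _ hj₀mem, ← hq'] at hmem
    have hrest : ∑ j ∈ (Finset.range (Fintype.card ι₀ + 1)).erase j₀,
        algebraMap A A' (e j) * χ.coeff j ∈ q'.asIdeal := by
      apply Ideal.sum_mem
      intro j hj
      apply Ideal.mul_mem_right
      have hne : j ≠ j₀ := (Finset.mem_erase.mp hj).1
      have hmemj : e j ∈ (PrimeSpectrum.comap (algebraMap A A') q').asIdeal := by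
        by_contra hcon
        exact hne (((he j _).mp hcon).symm.trans hj₀)
      exact hmemj
    have h1 := (Ideal.add_mem_iff_left q'.asIdeal hrest).mp hmem
    rcases q'.isPrime.mem_or_mem h1 with h2 | h2
    · exact ((he j₀ (PrimeSpectrum.comap (algebraMap A A') q')).mpr hj₀) h2
    · exact hnot h2
  obtain ⟨ρ, hρ, hker, hsurj⟩ := fitting_of_poly φ Q hunit (Fintype.card ι₀) hQaeval
  refine ⟨ha', engel A' a', ?_, self_mem_engel A' a'⟩
  apply isCartanRel_engel a' ha'
  · have hE : (engel A' a').toSubmodule = LinearMap.ker ρ := by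
      ext x
      rw [LieSubalgebra.mem_toSubmodule, mem_engel_iff, LinearMap.mem_ker, hker, hφ]
    rw [hE]
    exact projective_quot_ker_of_idem ρ hρ
  · intro y
    obtain ⟨z, hz⟩ := hsurj y
    refine ⟨z, ?_⟩
    rw [mem_engel_iff, ← hφ, ← hker]
    rw [hφ] at hz
    exact hz

theorem main8379 [Module.Projective A L] [IsReduced A]
    (hC0 : ∀ p : PrimeSpectrum A, ∃ f : A, f ∉ p.asIdeal ∧ ∀ q : PrimeSpectrum A, f ∉ q.asIdeal →
        LieAlgebra.rank q.asIdeal.ResidueField (q.asIdeal.ResidueField ⊗[A] L) =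
          LieAlgebra.rank p.asIdeal.ResidueField (p.asIdeal.ResidueField ⊗[A] L))
    (A' : Type u) [CommRing A'] [Algebra A A'] (a' : A' ⊗[A] L)
    (ha' : IsQuasiRegular A' (A' ⊗[A] L) a') :
    IsRegularRel A' (A' ⊗[A] L) a' := by
  classical
  obtain ⟨n, π, ι, -, -, hπι⟩ := Module.Finite.exists_comp_eq_id_of_projective A L
  exact main8379_aux (Pi.basisFun A (Fin n)) ι π hπι hC0 A' a' ha'

end Main

end Groth.Agent.Lib.CartanRelH1
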