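import Mathlib

/-!
# Solving `C_ij + C_ji - a_ji C_jj = d_ij` for a finite-type Cartan matrix (S19008)
-/

namespace Groth.Agent.Lib.CartanSolveH1

open RootPairing Submodule Set

/-- Abstract combinatorial data of a "finite type" generalized Cartan matrix on a finite set `S`. -/
structure CD (ι : Type*) where
  S : Finset ι
  a : ι → ι → ℤ
  diag : ∀ i ∈ S, a i i = 2
  nonpos : ∀ i ∈ S, ∀ j ∈ S, i ≠ j → a i j ≤ 0
  zsymm : ∀ i ∈ S, ∀ j ∈ S, i ≠ j → a i j = 0 → a j i = 0
  one : ∀ i ∈ S, ∀ j ∈ S, i ≠ j → a i j ≠ 0 → a i j = -1 ∨ a j i = -1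
  K : ∀ T : Finset ι, T ⊆ S → T.Nonempty → ∀ m : ι → ℤ, (∀ k ∈ T, 0 < m k) →
      ¬ (∀ i ∈ T, ∑ k ∈ T, m k * a k i ≤ 0)

namespace CD

variable {ι : Type*} (D : CD ι)

/-- Existence of a "good leaf" in every nonempty subset of the Dynkin diagram. -/
theorem exists_leaf (T : Finset ι) (hT : T ⊆ D.S) (hne : T.Nonempty) :
    ∃ v ∈ T, ∃ u, (u = v ∨ D.a v u = -1) ∧ ∀ k ∈ T, k ≠ v → k ≠ u → D.a v k = 0 := by
  classical
  by_contra hcon
  have hcon' : ∀ v ∈ T, ∀ u, (u = v ∨ D.a v u = -1) →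
      ∃ k ∈ T, k ≠ v ∧ k ≠ u ∧ D.a v k ≠ 0 := by
    intro v hv u hu
    by_contra h
    exact hcon ⟨v, hv, u, hu, fun k hk h1 h2 => by_contra fun h3 => h ⟨k, hk, h1, h2, h3⟩⟩
  have N1 : ∀ v ∈ T, ∃ k ∈ T, k ≠ v ∧ D.a v k ≠ 0 := by
    intro v hv
    obtain ⟨k, hk, h1, _, h3⟩ := hcon' v hv v (Or.inl rfl)
    exact ⟨k, hk, h1, h3⟩
  have N2 : ∀ v ∈ T, ∀ u, D.a v u = -1 → ∃ k ∈ T, k ≠ v ∧ k ≠ u ∧ D.a v k ≠ 0 :=
    fun v hv u hu => hcon' v hv u (Or.inr hu)
  let L : ι → Prop := fun v =>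
    ∃ u ∈ T, u ≠ v ∧ D.a v u ≠ 0 ∧ ∀ k ∈ T, k ≠ v → k ≠ u → D.a v k = 0
  -- a leaf has `a v u ≤ -2` and `a u v = -1`
  have L1 : ∀ v ∈ T, ∀ u ∈ T, u ≠ v → D.a v u ≠ 0 →
      (∀ k ∈ T, k ≠ v → k ≠ u → D.a v k = 0) → D.a v u ≤ -2 ∧ D.a u v = -1 := by
    intro v hv u hu huv hne0 huniq
    have h1 : D.a v u ≠ -1 := by
      intro h
      obtain ⟨k, hk, hkv, hku, hk0⟩ := N2 v hv u h
      exact hk0 (huniq k hk hkv hku)
    have h2 := D.nonpos v (hT hv) u (hT hu) (Ne.symm huv)
    have h3 := D.one v (hT hv) u (hT hu) (Ne.symm huv) hne0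
    refine ⟨by omega, ?_⟩
    rcases h3 with h3 | h3
    · exact absurd h3 h1
    · exact h3
  -- the unique neighbour of a leaf
  have L0 : ∀ v ∈ T, ∀ u ∈ T, u ≠ v → D.a v u ≠ 0 →
      (∀ k ∈ T, k ≠ v → k ≠ u → D.a v k = 0) → ∀ i ∈ T, i ≠ v → D.a v i ≠ 0 → i = u := by
    intro v _ u _ _ _ huniq i hi hiv hi0
    by_contra hiu
    exact hi0 (huniq i hi hiv hiu)
  -- the neighbour of a leaf is not a leaf
  have L2 : ∀ v ∈ T, ∀ u ∈ T, u ≠ v → D.a v u ≠ 0 →
      (∀ k ∈ T, k ≠ v → k ≠ u → D.a v k = 0) → ¬ L u := by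
    intro v hv u hu huv hne0 huniq hLu
    obtain ⟨u', hu', hu'u, hu'0, huniq'⟩ := hLu
    have hA := (L1 v hv u hu huv hne0 huniq).2
    have hvu' : v = u' := L0 u hu u' hu' hu'u hu'0 huniq' v hv (Ne.symm huv) (by rw [hA]; norm_num)
    have hB := (L1 u hu u' hu' hu'u hu'0 huniq').1
    rw [← hvu', hA] at hB
    omega
  let m : ι → ℤ := fun v => if L v then 1 else 2
  have hmL : ∀ v, L v → m v = 1 := fun v h => if_pos h
  have hmN : ∀ v, ¬ L v → m v = 2 := fun v h => if_neg h
  have hmpos : ∀ k ∈ T, 0 < m k := by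
    intro k _
    by_cases h : L k
    · rw [hmL k h]; norm_num
    · rw [hmN k h]; norm_num
  refine D.K T hT hne m hmpos ?_
  intro i hi
  by_cases hLi : L i
  · -- leaf case
    obtain ⟨u, hu, hui, hu0, huniq⟩ := hLi
    have hA := L1 i hi u hu hui hu0 huniq
    have hNu : ¬ L u := L2 i hi u hu hui hu0 huniq
    have hmi : m i = 1 := hmL i ⟨u, hu, hui, hu0, huniq⟩
    have hmu : m u = 2 := hmN u hNu
    calc ∑ k ∈ T, m k * D.a k i
        ≤ ∑ k ∈ T, ((if k = i then (2 : ℤ) else 0) + (if k = u then (-2 : ℤ) else 0)) := by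
          refine Finset.sum_le_sum fun k hk => ?_
          by_cases h1 : k = i
          · rw [h1, if_pos rfl, if_neg (Ne.symm hui), hmi, D.diag i (hT hi)]
            norm_num
          · by_cases h2 : k = u
            · rw [h2, if_neg hui, if_pos rfl, hmu, hA.2]
              norm_num
            · rw [if_neg h1, if_neg h2]
              have h0 := huniq k hk h1 h2
              have h0' := D.zsymm i (hT hi) k (hT hk) (Ne.symm h1) h0
              rw [h0']
              norm_num
      _ = 0 := by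
          rw [Finset.sum_add_distrib, Finset.sum_ite_eq', Finset.sum_ite_eq', if_pos hi, if_pos hu]
          norm_num
  · -- non-leaf case
    obtain ⟨k1, hk1, hk1i, hk10⟩ := N1 i hi
    have hex : ∃ k2 ∈ T, k2 ≠ i ∧ k2 ≠ k1 ∧ D.a i k2 ≠ 0 := by
      by_contra hno
      refine hLi ⟨k1, hk1, hk1i, hk10, fun k hk h1 h2 => ?_⟩
      by_contra h3
      exact hno ⟨k, hk, h1, h2, h3⟩
    obtain ⟨k2, hk2, hk2i, hk21, hk20⟩ := hex
    have hmi : m i = 2 := hmN i hLi
    have W0 : ∀ k ∈ T, k ≠ i → m k * D.a k i ≤ 0 := by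
      intro k hk hki
      exact mul_nonpos_of_nonneg_of_nonpos (hmpos k hk).le (D.nonpos k (hT hk) i (hT hi) hki)
    have W : ∀ k ∈ T, k ≠ i → D.a i k ≠ 0 → m k * D.a k i ≤ -2 := by
      intro k hk hki hk0
      have h1 : D.a k i ≠ 0 := fun h => hk0 (D.zsymm k (hT hk) i (hT hi) hki h)
      have h2 := D.nonpos k (hT hk) i (hT hi) hki
      by_cases hLk : L k
      · obtain ⟨u', hu', hu'k, hu'0, huniq'⟩ := hLk
        have hiu' : i = u' := L0 k hk u' hu' hu'k hu'0 huniq' i hi (Ne.symm hki) h1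
        have hB := (L1 k hk u' hu' hu'k hu'0 huniq').1
        rw [← hiu'] at hB
        rw [hmL k ⟨u', hu', hu'k, hu'0, huniq'⟩]
        omega
      · rw [hmN k hLk]
        omega
    calc ∑ k ∈ T, m k * D.a k i
        ≤ ∑ k ∈ T, ((if k = i then (4 : ℤ) else 0) + (if k = k1 then (-2 : ℤ) else 0)
            + (if k = k2 then (-2 : ℤ) else 0)) := by
          refine Finset.sum_le_sum fun k hk => ?_
          by_cases h1 : k = i
          · rw [h1, if_pos rfl, if_neg (Ne.symm hk1i), if_neg (Ne.symm hk2i), hmi,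
              D.diag i (hT hi)]
            norm_num
          · by_cases h2 : k = k1
            · rw [h2, if_neg hk1i, if_pos rfl, if_neg (Ne.symm hk21)]
              have := W k1 hk1 hk1i hk10
              linarith
            · by_cases h3 : k = k2
              · rw [h3, if_neg hk2i, if_neg hk21, if_pos rfl]
                have := W k2 hk2 hk2i hk20
                linarith
              · rw [if_neg h1, if_neg h2, if_neg h3]
                have := W0 k hk h1
                linarith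
      _ = 0 := by
          rw [Finset.sum_add_distrib, Finset.sum_add_distrib, Finset.sum_ite_eq',
            Finset.sum_ite_eq', Finset.sum_ite_eq', if_pos hi, if_pos hk1, if_pos hk2]
          norm_num

/-- Solving the "diagonal" equations on every subset by removing good leaves. -/
theorem solve (e : ι → ι → ℤ)
    (hanti : ∀ i ∈ D.S, ∀ j ∈ D.S, e i j = - e j i)
    (hzero : ∀ i ∈ D.S, ∀ j ∈ D.S, i ≠ j → D.a i j = 0 → e i j = 0) :
    ∀ T : Finset ι, T ⊆ D.S → ∃ c : ι → ℤ, ∀ i ∈ T, ∀ j ∈ T, i ≠ j →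
      D.a i j * c i - D.a j i * c j = e i j := by
  classical
  intro T
  induction T using Finset.strongInduction with
  | H T ih =>
    intro hT
    rcases T.eq_empty_or_nonempty with rfl | hne
    · exact ⟨fun _ => 0, by simp⟩
    obtain ⟨v, hv, u, hu, huniq⟩ := D.exists_leaf T hT hne
    obtain ⟨c', hc'⟩ := ih (T.erase v) (Finset.erase_ssubset hv)
      ((Finset.erase_subset _ _).trans hT)
    have hvj : ∀ j ∈ T, j ≠ v →
        D.a v j * (-(e v u + D.a u v * c' u)) - D.a j v * c' j = e v j := by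
      intro j hj hjv
      by_cases hju : j = u
      · rw [hju]
        rcases hu with h | h
        · exact absurd (hju.trans h) hjv
        · rw [h]; ring
      · have h0 := huniq j hj hjv hju
        have h1 := D.zsymm v (hT hv) j (hT hj) (Ne.symm hjv) h0
        have h2 := hzero v (hT hv) j (hT hj) (Ne.symm hjv) h0
        rw [h0, h1, h2]; ring
    refine ⟨Function.update c' v (-(e v u + D.a u v * c' u)), ?_⟩
    intro i hi j hj hij
    by_cases hiv : i = v
    · have hjv : j ≠ v := fun h => hij (hiv.trans h.symm)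
      rw [hiv, Function.update_self, Function.update_of_ne hjv]
      exact hvj j hj hjv
    · by_cases hjv : j = v
      · rw [hjv, Function.update_self, Function.update_of_ne hiv]
        have := hvj i hi hiv
        rw [hanti i (hT hi) v (hT hv)]
        linarith
      · rw [Function.update_of_ne hiv, Function.update_of_ne hjv]
        exact hc' i (Finset.mem_erase.mpr ⟨hiv, hi⟩) j (Finset.mem_erase.mpr ⟨hjv, hj⟩) hij

/-- The abstract form of the surjectivity statement. -/
theorem main [Finite ι] (d : ι → ι → ℤ)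
    (hd : ∀ i ∈ D.S, ∀ j ∈ D.S, i ≠ j → D.a i j = 0 → d i j = d j i) :
    ∃ C : ι → ι → ℤ, ∀ i ∈ D.S, ∀ j ∈ D.S, i ≠ j →
      C i j + C j i - D.a j i * C j j = d i j := by
  classical
  obtain ⟨c, hc⟩ := D.solve (fun i j => d i j - d j i) (fun i _ j _ => by ring)
    (fun i hi j hj hij h0 => by rw [hd i hi j hj hij h0]; ring) D.S (subset_refl _)
  obtain ⟨n, ⟨f⟩⟩ := Finite.exists_equiv_fin ι
  let g : ι → ι → ℤ := fun i j => d i j + D.a j i * c j
  have hg : ∀ i ∈ D.S, ∀ j ∈ D.S, i ≠ j → g i j = g j i := by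
    intro i hi j hj hij
    have := hc i hi j hj hij
    simp only [g]
    linarith
  let C : ι → ι → ℤ := fun i j => if i = j then c i else if f i < f j then g i j else 0
  have hCd : ∀ j, C j j = c j := fun j => if_pos rfl
  have hC1 : ∀ i j, i ≠ j → f i < f j → C i j = g i j := fun i j h1 h2 => by
    simp only [C, if_neg h1, if_pos h2]
  have hC2 : ∀ i j, i ≠ j → ¬ f i < f j → C i j = 0 := fun i j h1 h2 => by
    simp only [C, if_neg h1, if_neg h2]
  refine ⟨C, ?_⟩
  intro i hi j hj hij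
  rw [hCd]
  rcases lt_or_gt_of_ne (f.injective.ne hij) with h | h
  · rw [hC1 i j hij h, hC2 j i hij.symm (not_lt.mpr h.le)]
    simp only [g]; ring
  · rw [hC2 i j hij (not_lt.mpr h.le), hC1 j i hij.symm h, ← hg i hi j hj hij]
    simp only [g]; ring

end CD

section Root

variable {ι R M N : Type*} [CommRing R] [IsDomain R] [CharZero R]
    [AddCommGroup M] [Module R M] [AddCommGroup N] [Module R N] (P : RootPairing ι R M N)
    [Finite ι] [P.IsCrystallographic]

theorem two_mul_posForm [Fintype ι] (k i : ι) :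
    2 * (P.posRootForm ℤ).posForm (P.rootSpanMem ℤ k) (P.rootSpanMem ℤ i) =
      P.pairingIn ℤ k i * (P.posRootForm ℤ).rootLength i := by
  apply FaithfulSMul.algebraMap_injective ℤ R
  have := (P.posRootForm ℤ).toInvariantForm.two_mul_apply_root_root k i
  simp only [map_mul, map_ofNat, RootPositiveForm.algebraMap_posForm, algebraMap_pairingIn,
    RootPositiveForm.algebraMap_rootLength]
  exact this

/-- Lemma K: there is no positive integral vector `m` supported on a nonempty set of simple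
roots with `∑ m_k a_{ki} ≤ 0` for all `i` (positive definiteness of the root form). -/
theorem lemmaK (b : P.Base) (T : Finset ι) (hT : T ⊆ b.support) (hne : T.Nonempty)
    (m : ι → ℤ) (hm : ∀ k ∈ T, 0 < m k)
    (h : ∀ i ∈ T, ∑ k ∈ T, m k * P.pairingIn ℤ k i ≤ 0) : False := by
  classical
  have _i : Fintype ι := Fintype.ofFinite ι
  let r : ι → P.rootSpan ℤ := fun k => P.rootSpanMem ℤ k
  let u : P.rootSpan ℤ := ∑ k ∈ T, m k • r k
  have hu : u ≠ 0 := by
    intro h0
    have h1 : ∑ k ∈ T, m k • P.root k = 0 := by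
      have := congrArg (fun z : P.rootSpan ℤ => (z : M)) h0
      simpa [u, r] using this
    have hli : LinearIndepOn ℤ P.root (b.support : Set ι) :=
      b.linearIndepOn_root.restrict_scalars' ℤ
    obtain ⟨k0, hk0⟩ := hne
    have := linearIndepOn_iff'.mp hli T m (by exact_mod_cast hT) h1 k0 hk0
    exact (hm k0 hk0).ne' this
  have hpos : 0 < (P.posRootForm ℤ).posForm u u := P.posRootForm_posForm_pos_of_ne_zero ℤ hu
  have key : ∀ i, 2 * (P.posRootForm ℤ).posForm u (r i) =
      (∑ k ∈ T, m k * P.pairingIn ℤ k i) * (P.posRootForm ℤ).rootLength i := by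
    intro i
    simp only [u, map_sum, map_smul, LinearMap.sum_apply, LinearMap.smul_apply, smul_eq_mul,
      Finset.mul_sum, Finset.sum_mul]
    refine Finset.sum_congr rfl fun k _ => ?_
    have := two_mul_posForm P k i
    simp only [r]
    linear_combination (m k) * this
  have hw : ∀ w, (P.posRootForm ℤ).posForm w u =
      ∑ i ∈ T, m i * (P.posRootForm ℤ).posForm w (r i) := by
    intro w
    simp only [u, map_sum, map_smul, smul_eq_mul]
  have h2 : 2 * (P.posRootForm ℤ).posForm u u =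
      ∑ i ∈ T, m i * ((∑ k ∈ T, m k * P.pairingIn ℤ k i) * (P.posRootForm ℤ).rootLength i) := by
    rw [hw u, Finset.mul_sum]
    refine Finset.sum_congr rfl fun i _ => ?_
    rw [← key i]; ring
  have h3 : ∑ i ∈ T, m i *
      ((∑ k ∈ T, m k * P.pairingIn ℤ k i) * (P.posRootForm ℤ).rootLength i) ≤ 0 := by
    refine Finset.sum_nonpos fun i hi => ?_
    exact mul_nonpos_of_nonneg_of_nonpos (hm i hi).le
      (mul_nonpos_of_nonpos_of_nonneg (h i hi) ((P.posRootForm ℤ).rootLength_pos i).le)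
  linarith

theorem zero_symm (b : P.Base) {i j : ι} (hi : i ∈ b.support) (hj : j ∈ b.support)
    (h : P.pairingIn ℤ i j = 0) : P.pairingIn ℤ j i = 0 :=
  (b.cartanMatrix_apply_eq_zero_iff_symm (i := ⟨i, hi⟩) (j := ⟨j, hj⟩)).mp h

theorem one_of_ne [P.IsReduced] (b : P.Base) {i j : ι} (hi : i ∈ b.support) (hj : j ∈ b.support)
    (hij : i ≠ j) (h0 : P.pairingIn ℤ i j ≠ 0) :
    P.pairingIn ℤ i j = -1 ∨ P.pairingIn ℤ j i = -1 := by
  have h1 : P.root i ≠ P.root j := fun h => hij (P.root.injective h)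
  have h2 : P.root i ≠ -P.root j := b.root_ne_neg_of_ne hi hj hij
  have h3 := P.pairingIn_pairingIn_mem_set_of_isCrystal_of_isRed' i j h1 h2
  have h4 := b.pairingIn_le_zero_of_ne hij hi hj
  simp only [mem_insert_iff, mem_singleton_iff, Prod.mk_one_one, Prod.mk_eq_one,
    Prod.mk_zero_zero, Prod.mk_eq_zero, Prod.mk.injEq] at h3
  omega

/-- The combinatorial data attached to a base of a finite crystallographic reduced root pairing. -/
noncomputable def mkCD [P.IsReduced] (b : P.Base) : CD ι where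
  S := b.support
  a := fun i j => P.pairingIn ℤ i j
  diag := fun i _ => P.pairingIn_same ℤ i
  nonpos := fun i hi j hj hij => b.pairingIn_le_zero_of_ne hij hi hj
  zsymm := fun i hi j hj _ h => zero_symm P b hi hj h
  one := fun i hi j hj hij h0 => one_of_ne P b hi hj hij h0
  K := fun T hT hne m hm h => lemmaK P b T hT hne m hm h

theorem main19008 [P.IsReduced] (b : P.Base) (d : ι → ι → ℤ)
    (hd : ∀ i ∈ b.support, ∀ j ∈ b.support, i ≠ j → P.pairingIn ℤ i j = 0 → d i j = d j i) :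
    ∃ C : ι → ι → ℤ, ∀ i ∈ b.support, ∀ j ∈ b.support, i ≠ j →
      C i j + C j i - P.pairingIn ℤ j i * C j j = d i j :=
  (mkCD P b).main d hd

end Root

end Groth.Agent.Lib.CartanSolveH1
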