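import Groth.Agent.Lib.Cartier_helper3

/-!
# Cartier's inequalities relative to a subfield (EGA 0_IV 21.7.1, 21.7.2)
-/

set_option autoImplicit false
set_option maxSynthPendingDepth 3

namespace Groth.Agent.Lib.CartierH3

universe u

open TensorProduct KaehlerDifferential Groth.Agent.Lib.FredholmH3

section Relative

variable {k K L : Type u} [Field k] [Field K] [Field L] [Algebra k K] [Algebra K L] [Algebra k L]
  [IsScalarTower k K L]

/-- the comparison map `L ⊗_K Ω_{K/ℤ} → L ⊗_K Ω_{K/k}` -/
noncomputable def relMap (k K L : Type u) [Field k] [Field K] [Field L] [Algebra k K]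
    [Algebra K L] : L ⊗[K] Ω[K⁄ℤ] →ₗ[L] L ⊗[K] Ω[K⁄k] :=
  (KaehlerDifferential.map ℤ k K K).baseChange L

theorem relMap_surjective : Function.Surjective (relMap k K L) := by
  unfold relMap
  rw [LinearMap.baseChange_eq_ltensor]
  exact LinearMap.lTensor_surjective L (KaehlerDifferential.map_surjective ℤ k K)

theorem relMap_square :
    (mapBaseChange k K L) ∘ₗ (relMap k K L) =
      (KaehlerDifferential.map ℤ k L L) ∘ₗ (mapBaseChange ℤ K L) := by
  apply LinearMap.ext_on_range (Groth.Agent.Lib.ImperfFieldH3.span_one_tmul_D ℤ (k := K) (K := L))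
  intro a
  rw [LinearMap.comp_apply, LinearMap.comp_apply]
  show mapBaseChange k K L ((1 : L) ⊗ₜ[K] (KaehlerDifferential.map ℤ k K K (D ℤ K a))) = _
  rw [map_D, Groth.Agent.Lib.ImperfFieldH3.mapBaseChange_one_tmul_D,
    Groth.Agent.Lib.ImperfFieldH3.mapBaseChange_one_tmul_D, map_D]
  rfl

/-- `Υ_{L/K/ℤ} → Υ_{L/K/k}` is surjective. -/
theorem exists_mem_imperfection (ω : L ⊗[K] Ω[K⁄k]) (hω : mapBaseChange k K L ω = 0) :
    ∃ ω' : L ⊗[K] Ω[K⁄ℤ], mapBaseChange ℤ K L ω' = 0 ∧ relMap k K L ω' = ω := by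
  obtain ⟨ω₁, hω₁⟩ := relMap_surjective (k := k) (K := K) (L := L) ω
  have h1 : KaehlerDifferential.map ℤ k L L (mapBaseChange ℤ K L ω₁) = 0 := by
    have := LinearMap.congr_fun (relMap_square (k := k) (K := K) (L := L)) ω₁
    rw [LinearMap.comp_apply, LinearMap.comp_apply, hω₁, hω] at this
    exact this.symm
  obtain ⟨η, hη⟩ := (KaehlerDifferential.exact_mapBaseChange_map ℤ k L _).1 h1
  obtain ⟨η₀, rfl⟩ := (AlgebraTensorModule.cancelBaseChange k K L L Ω[k⁄ℤ]).surjective η
  have htower := LinearMap.congr_fun (mbc_tower ℤ (A := k) (B := K) (C := L)) η₀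
  rw [LinearMap.comp_apply, LinearMap.comp_apply] at htower
  set η' := (mapBaseChange ℤ k K).baseChange L η₀ with hη'
  have h2 : mapBaseChange ℤ K L η' = mapBaseChange ℤ K L ω₁ := by
    rw [← htower]
    exact hη
  have h3 : relMap k K L η' = 0 := by
    have hz : (KaehlerDifferential.map ℤ k K K) ∘ₗ (mapBaseChange ℤ k K) = 0 :=
      (KaehlerDifferential.exact_mapBaseChange_map ℤ k K).linearMap_comp_eq_zero
    have : relMap k K L η' =
        ((KaehlerDifferential.map ℤ k K K) ∘ₗ (mapBaseChange ℤ k K)).baseChange L η₀ := by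
      rw [LinearMap.baseChange_comp]
      rfl
    rw [this, hz, LinearMap.baseChange_zero]
    rfl
  refine ⟨ω₁ - η', ?_, ?_⟩
  · rw [map_sub, h2, sub_self]
  · rw [map_sub, h3, sub_zero, hω₁]

/-- EGA 0_IV 21.7.1 (inequality). -/
theorem cartier_rel [Algebra.EssFiniteType K L] :
    Module.Finite L (Ω[L⁄K]) ∧ Module.Finite L (EGA41.imperfection k K L) ∧
      (Cardinal.toNat (Algebra.trdeg K L) : ℤ) ≤
        (Module.finrank L (Ω[L⁄K]) : ℤ) - Module.finrank L (EGA41.imperfection k K L) := by
  classical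
  obtain ⟨hfin1, hfin2, heq⟩ := cartier (K := K) (L := L)
  haveI := hfin2
  let ρ : EGA41.imperfection ℤ K L →ₗ[L] EGA41.imperfection k K L :=
    (relMap k K L).restrict (fun ω hω => by
      have h1 : mapBaseChange ℤ K L ω = 0 := hω
      show mapBaseChange k K L (relMap k K L ω) = 0
      have := LinearMap.congr_fun (relMap_square (k := k) (K := K) (L := L)) ω
      rw [LinearMap.comp_apply, LinearMap.comp_apply, h1, map_zero] at this
      exact this)
  have hρ : Function.Surjective ρ := by
    rintro ⟨ω, hω⟩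
    obtain ⟨ω', h1, h2⟩ := exists_mem_imperfection ω hω
    exact ⟨⟨ω', h1⟩, Subtype.ext h2⟩
  haveI : Module.Finite L (EGA41.imperfection k K L) := Module.Finite.of_surjective ρ hρ
  have hle : Module.finrank L (EGA41.imperfection k K L) ≤
      Module.finrank L (EGA41.imperfection ℤ K L) := LinearMap.finrank_le_finrank_of_surjective hρ
  refine ⟨hfin1, inferInstance, ?_⟩
  rw [← heq]
  omega

end Relative

section Relative2

variable {k K L : Type u} [Field k] [Field K] [Field L] [Algebra k K] [Algebra K L] [Algebra k L]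
  [IsScalarTower k K L]

/-- EGA 0_IV 21.7.2 (inequality). -/
theorem cartier_rel2 [Algebra.EssFiniteType k L] :
    Module.Finite L (Ω[L⁄k]) ∧ Module.Finite K (Ω[K⁄k]) ∧
      (Cardinal.toNat (Algebra.trdeg K L) : ℤ) ≤
        (Module.finrank L (Ω[L⁄k]) : ℤ) - Module.finrank K (Ω[K⁄k]) := by
  classical
  haveI : Algebra.EssFiniteType K L := Algebra.EssFiniteType.of_comp k K L
  obtain ⟨hfin1, hfin2, hle⟩ := cartier_rel (k := k) (K := K) (L := L)
  haveI := hfin1
  haveI := hfin2
  haveI : Module.Finite L (Ω[L⁄k]) := inferInstance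
  -- `L ⊗ Ω_{K/k}` is finite dimensional
  haveI hker : Module.Finite L (LinearMap.ker (mapBaseChange k K L)) := hfin2
  haveI : Module.Finite L (L ⊗[K] Ω[K⁄k]) := by
    haveI : Module.Finite L ((L ⊗[K] Ω[K⁄k]) ⧸ LinearMap.ker (mapBaseChange k K L)) :=
      Module.Finite.equiv (mapBaseChange k K L).quotKerEquivRange.symm
    exact Module.Finite.of_submodule_quotient (LinearMap.ker (mapBaseChange k K L))
  haveI hK : Module.Finite K (Ω[K⁄k]) := by
    rw [← Module.rank_lt_aleph0_iff]
    have h1 : Module.rank L (L ⊗[K] Ω[K⁄k]) < Cardinal.aleph0 := Module.rank_lt_aleph0_iff.2 inferInstance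
    rw [Module.rank_baseChange] at h1
    exact Cardinal.lift_lt_aleph0.1 h1
  refine ⟨inferInstance, hK, ?_⟩
  have R1 := LinearMap.finrank_range_add_finrank_ker (mapBaseChange k K L)
  have R2 := (LinearMap.range (mapBaseChange k K L)).finrank_quotient_add_finrank
  let e : (Ω[L⁄k] ⧸ LinearMap.range (mapBaseChange k K L)) ≃ₗ[L] Ω[L⁄K] :=
    (KaehlerDifferential.exact_mapBaseChange_map k K L).linearEquivOfSurjective
      (KaehlerDifferential.map_surjective k K L)
  rw [e.finrank_eq] at R2
  rw [Module.finrank_baseChange] at R1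
  have hk : Module.finrank L (LinearMap.ker (mapBaseChange k K L)) =
      Module.finrank L (EGA41.imperfection k K L) := rfl
  omega

end Relative2

end Groth.Agent.Lib.CartierH3
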