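import Mathlib
import Groth.Prelude.Def_AlgSpSub
import Groth.Prelude.Def_W4stk3spdivLocPr
import Groth.Agent.Lib.AlgSpPoints_helper7
import Groth.Agent.Lib.EtCharts_helper7
import Groth.Agent.Lib.IdealEtA_helper7
import Groth.Agent.Lib.SchDenseKer_helper7

/-!
# Complement of a locally principal / effective Cartier closed subspace (helper7)
-/

set_option autoImplicit false
universe u
open CategoryTheory CategoryTheory.Limits AlgebraicGeometry Opposite

namespace Groth.Agent.Lib.CartierComplH7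
open AlgSp Groth.Agent.Lib.AlgSpPoints_helper7 Groth.Agent.Lib.EtChartsH7
  Groth.Agent.Lib.AlgSpAffineMorH7 Groth.Agent.Lib.AffDescH7

section Sch
variable {X : Scheme.{u}}

/-- On an affine open where the ideal is principal, the complement of the support is the
basic open of the generator. -/
lemma inf_eq_basicOpen (I : X.IdealSheafData) (W : X.Opens)
    (hW : (W : Set X) = (I.support : Set X)ᶜ)
    (U : X.affineOpens) (f : Γ(X, U.1)) (hf : I.ideal U = Ideal.span {f}) :
    U.1 ⊓ W = X.basicOpen f := by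
  apply TopologicalSpace.Opens.ext
  ext x
  constructor
  · rintro ⟨hxU, hxW⟩
    have h1 : x ∉ (I.support : Set X) := by
      have : x ∈ (W : Set X) := hxW
      rw [hW] at this; exact this
    by_contra hx
    apply h1
    show x ∈ I.support
    rw [Scheme.IdealSheafData.mem_support_iff_of_mem (U := U) hxU, hf, Scheme.zeroLocus_span,
      Scheme.zeroLocus_singleton]
    exact hx
  · intro hx
    have hxU : x ∈ U.1 := X.basicOpen_le f hx
    refine ⟨hxU, ?_⟩
    show x ∈ (W : Set X)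
    rw [hW]
    intro h1
    have h2 : x ∈ I.support := h1
    rw [Scheme.IdealSheafData.mem_support_iff_of_mem (U := U) hxU, hf, Scheme.zeroLocus_span,
      Scheme.zeroLocus_singleton] at h2
    exact h2 hx

theorem isAffineHom_ι_of_isLocPrincipal (I : X.IdealSheafData) (hI : Curv2.IsLocPrincipal I)
    (W : X.Opens) (hW : (W : Set X) = (I.support : Set X)ᶜ) : IsAffineHom W.ι := by
  apply isAffineHom_of_forall_exists_isAffineOpen
  intro x
  by_cases hx : x ∈ I.support
  · obtain ⟨U, hxU, f, hf⟩ := hI x hx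
    refine ⟨U.1, hxU, U.2, ?_⟩
    rw [← W.ι.isAffineOpen_iff_of_isOpenImmersion,
      Groth.Agent.Lib.SchDenseKerH7.image_preimage_ι, inf_eq_basicOpen I W hW U f hf]
    exact U.2.basicOpen f
  · have hxW : x ∈ W := by
      show x ∈ (W : Set X)
      rw [hW]; exact hx
    obtain ⟨U, hxU, hUW⟩ := Groth.Agent.Lib.IdealEtAH7.exists_affineOpen_mem_le X W x hxW
    refine ⟨U.1, hxU, U.2, ?_⟩
    rw [← W.ι.isAffineOpen_iff_of_isOpenImmersion,
      Groth.Agent.Lib.SchDenseKerH7.image_preimage_ι, inf_eq_left.2 hUW]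
    exact U.2

theorem isLocPrincipal_of_isEffCartierIdeal (I : X.IdealSheafData)
    (hI : BlowUp.IsEffCartierIdeal I) : Curv2.IsLocPrincipal I := by
  intro x _
  obtain ⟨U, hxU, f, _, hf⟩ := hI x
  exact ⟨U, hxU, f, hf⟩

theorem isSchematicallyDense_of_isEffCartierIdeal (I : X.IdealSheafData)
    (hI : BlowUp.IsEffCartierIdeal I) (W : X.Opens)
    (hW : (W : Set X) = (I.support : Set X)ᶜ) : CInt.IsSchematicallyDense W := by
  intro V
  rw [injective_iff_map_eq_zero]
  intro s hs
  have key : ∀ x : V, ∃ (U' : X.Opens) (hU' : U' ≤ V), x.1 ∈ U' ∧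
      X.presheaf.map (homOfLE hU').op s = 0 := by
    intro x
    obtain ⟨U, hxU, f, hfnz, hf⟩ := hI x.1
    obtain ⟨g, hgV, hxg⟩ := U.2.exists_basicOpen_le x hxU
    have hgU : X.basicOpen g ≤ U.1 := X.basicOpen_le g
    refine ⟨X.basicOpen g, hgV, hxg, ?_⟩
    obtain ⟨s', hs'⟩ : ∃ s', s' = X.presheaf.map (homOfLE hgV).op s := ⟨_, rfl⟩
    obtain ⟨f', hf'⟩ : ∃ f', f' = X.presheaf.map (homOfLE hgU).op f := ⟨_, rfl⟩
    have hf'nz : f' ∈ nonZeroDivisors Γ(X, X.basicOpen g) := by
      haveI := U.2.isLocalization_basicOpen g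
      rw [hf']
      exact IsLocalization.map_nonZeroDivisors_le (Submonoid.powers g) _ ⟨f, hfnz, rfl⟩
    have e : X.basicOpen f ≤ W := by
      rw [← inf_eq_basicOpen I W hW U f hf]; exact inf_le_right
    have hle : X.basicOpen f' ≤ V ⊓ W := by
      rw [hf', Scheme.basicOpen_res]
      exact le_inf (inf_le_left.trans hgV) (inf_le_right.trans e)
    have H : X.presheaf.map (homOfLE (X.basicOpen_le f')).op s' = 0 := by
      rw [hs', ← ConcreteCategory.comp_apply, ← Functor.map_comp]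
      have : (homOfLE hgV).op ≫ (homOfLE (X.basicOpen_le f')).op =
          (homOfLE (inf_le_left : V ⊓ W ≤ V)).op ≫ (homOfLE hle).op := rfl
      rw [this, Functor.map_comp, ConcreteCategory.comp_apply, hs, map_zero]
    obtain ⟨n, hn⟩ := exists_pow_mul_eq_zero_of_res_basicOpen_eq_zero_of_isAffineOpen X
      (U.2.basicOpen g) s' f' H
    rw [← hs']
    exact (mul_left_mem_nonZeroDivisors_eq_zero_iff (pow_mem hf'nz n)).1 hn
  choose U' hU' hxU' hres using key
  refine TopCat.Sheaf.eq_of_locally_eq' X.sheaf (fun x : V => U' x) V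
    (fun x => homOfLE (hU' x)) ?_ s 0 ?_
  · intro x hx
    exact TopologicalSpace.Opens.mem_iSup.2 ⟨⟨x, hx⟩, hxU' _⟩
  · intro x
    rw [map_zero]
    exact hres x

end Sch

variable {S : Scheme.{u}}

/-- The image of a represented base change on points of the chart. -/
theorem range_left_of_isPullback {F G : Sp S} {f : F ⟶ G} {T V : Over S}
    {fst : (yon S).obj T ⟶ F} {m : T ⟶ V} {φ : (yon S).obj V ⟶ G}
    (sq : IsPullback fst ((yon S).map m) f φ) :
    Set.range m.left = Points.ofPt φ ⁻¹' Set.range (Points.map f) := by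
  ext v
  constructor
  · rintro ⟨t, rfl⟩
    refine ⟨Points.ofPt fst t, ?_⟩
    rw [Points.map_ofPt, sq.w, ofPt_comp]
  · rintro ⟨x, hx⟩
    have hx' : Points.map f x = Points.map φ (Points.ofScheme V v) := by
      rw [hx, Points.ofPt_eq_map_ofScheme]
    obtain ⟨z, _, hz⟩ := exists_of_isPullback sq x _ hx'
    obtain ⟨t, rfl⟩ := ofScheme_surjective T z
    refine ⟨t, ?_⟩
    apply ofScheme_injective V
    rw [← hz, ← Points.ofPt_eq_map_ofScheme, ofPt_yon_map]

/-- Chart data for the open complement of a closed subspace given on a chart by an ideal sheaf. -/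
theorem exists_chart_compl {X Z U : Sp S} (i : Z ⟶ X) (j : U ⟶ X)
    (hj : RepWith @IsOpenImmersion j)
    (hU : Set.range (Points.map j) = (Set.range (Points.map i))ᶜ)
    (V : Over S) (φ : (yon S).obj V ⟶ X) (I : V.left.IdealSheafData)
    (fst : (yon S).obj (Over.mk (I.subschemeι ≫ V.hom)) ⟶ Z)
    (sq : IsPullback fst ((yon S).map
      (Over.homMk I.subschemeι rfl : Over.mk (I.subschemeι ≫ V.hom) ⟶ V)) i φ) :
    ∃ (W : V.left.Opens) (fstW : (yon S).obj (Over.mk (W.ι ≫ V.hom)) ⟶ U),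
      IsPullback fstW ((yon S).map (Over.homMk W.ι rfl : Over.mk (W.ι ≫ V.hom) ⟶ V)) j φ ∧
      (W : Set V.left) = (I.support : Set V.left)ᶜ := by
  have sqA := hj.rep.isPullback φ
  haveI hoi : IsOpenImmersion (hj.rep.snd φ).left := hj.property_snd φ
  let W : V.left.Opens := (hj.rep.snd φ).left.opensRange
  have he : (hj.rep.snd φ).left.isoOpensRange.inv ≫ (hj.rep.snd φ).left = W.ι :=
    Scheme.Hom.isoOpensRange_inv_comp _
  let eo : Over.mk (W.ι ≫ V.hom) ≅ hj.rep.pullback φ :=
    Over.isoMk (hj.rep.snd φ).left.isoOpensRange.symm (by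
      show (hj.rep.snd φ).left.isoOpensRange.inv ≫ (hj.rep.pullback φ).hom = W.ι ≫ V.hom
      rw [← Over.w (hj.rep.snd φ), ← Category.assoc, he])
  have heo : eo.hom ≫ hj.rep.snd φ =
      (Over.homMk W.ι rfl : Over.mk (W.ι ≫ V.hom) ⟶ V) := by
    ext; exact he
  have hL : IsPullback ((yon S).map eo.hom)
      ((yon S).map (Over.homMk W.ι rfl : Over.mk (W.ι ≫ V.hom) ⟶ V))
      ((yon S).map (hj.rep.snd φ)) (𝟙 _) :=
    IsPullback.of_horiz_isIso ⟨by rw [Category.comp_id, ← Functor.map_comp, heo]⟩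
  have sqW : IsPullback ((yon S).map eo.hom ≫ hj.rep.fst φ)
      ((yon S).map (Over.homMk W.ι rfl : Over.mk (W.ι ≫ V.hom) ⟶ V)) j φ := by
    have := hL.paste_horiz sqA
    rwa [Category.id_comp] at this
  refine ⟨W, _, sqW, ?_⟩
  have h1 := range_left_of_isPullback sqW
  have h2 := range_left_of_isPullback sq
  have h3 : (W : Set V.left) = Set.range W.ι := (Scheme.Opens.range_ι W).symm
  rw [h3, ← Scheme.IdealSheafData.range_subschemeι]
  show Set.range (Over.homMk W.ι rfl : Over.mk (W.ι ≫ V.hom) ⟶ V).left =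
    (Set.range (Over.homMk I.subschemeι rfl : Over.mk (I.subschemeι ≫ V.hom) ⟶ V).left)ᶜ
  rw [h1, h2, hU, Set.preimage_compl]

theorem isAffineMor_compl_of_chart {X Z U : Sp S} (hX : IsAlgSpace X) (hUs : IsAlgSpace U)
    (i : Z ⟶ X) (j : U ⟶ X)
    (hj : RepWith @IsOpenImmersion j)
    (hU : Set.range (Points.map j) = (Set.range (Points.map i))ᶜ)
    (V : Over S) (φ : (yon S).obj V ⟶ X) (I : V.left.IdealSheafData)
    (fst : (yon S).obj (Over.mk (I.subschemeι ≫ V.hom)) ⟶ Z)
    (hφe : RepWith @Etale φ) (hφs : RepWith @Surjective φ)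
    (sq : IsPullback fst ((yon S).map
      (Over.homMk I.subschemeι rfl : Over.mk (I.subschemeι ≫ V.hom) ⟶ V)) i φ)
    (hI : Curv2.IsLocPrincipal I) : IsAffineMor j := by
  obtain ⟨W, fstW, sqW, hW⟩ := exists_chart_compl i j hj hU V φ I fst sq
  haveI : IsAffineHom W.ι := isAffineHom_ι_of_isLocPrincipal I hI W hW
  refine of_etale_chart (isLocalOnBase_fppf_of_fpqc isLocalOnBase_fpqc_isAffineMor) hUs hX j V φ
    hφe hφs fstW _ sqW ?_
  haveI : IsAffineHom (Over.homMk W.ι rfl : Over.mk (W.ι ≫ V.hom) ⟶ V).left :=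
    ‹IsAffineHom W.ι›
  exact isAffineMor_yon_map _

theorem isSchDense_compl_of_chart {X Z U : Sp S}
    (i : Z ⟶ X) (j : U ⟶ X)
    (hj : RepWith @IsOpenImmersion j)
    (hU : Set.range (Points.map j) = (Set.range (Points.map i))ᶜ)
    (V : Over S) (φ : (yon S).obj V ⟶ X) (I : V.left.IdealSheafData)
    (fst : (yon S).obj (Over.mk (I.subschemeι ≫ V.hom)) ⟶ Z)
    (hφe : RepWith @Etale φ) (hφs : RepWith @Surjective φ)
    (sq : IsPullback fst ((yon S).map
      (Over.homMk I.subschemeι rfl : Over.mk (I.subschemeι ≫ V.hom) ⟶ V)) i φ)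
    (hI : BlowUp.IsEffCartierIdeal I) : IsSchDense j := by
  obtain ⟨W, fstW, sqW, hW⟩ := exists_chart_compl i j hj hU V φ I fst sq
  exact ⟨hj, V, φ, W, fstW, hφe, hφs, sqW, isSchematicallyDense_of_isEffCartierIdeal I hI W hW⟩

end Groth.Agent.Lib.CartierComplH7
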