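import Mathlib
import Groth.Prelude.Def_W4c6modpairsegaMP
import Groth.Agent.Lib.ComapIdeal_helper4

/-!
# Pulling back an effective Cartier divisor along a morphism whose preimage of the interior
is scheme-theoretically dense
-/

universe u

open CategoryTheory CategoryTheory.Limits AlgebraicGeometry TopologicalSpace

namespace Groth.Agent.Lib.CartierDense

variable {X X' : Scheme.{u}}

lemma interior_inf_eq (I : X.IdealSheafData) (U : X.affineOpens) (g : Γ(X, U.1))
    (hg : I.ideal U = Ideal.span {g}) : ModPair.interior I ⊓ U.1 = X.basicOpen g := by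
  ext y
  constructor
  · rintro ⟨hy, hyU⟩
    have h1 : y ∉ I.support := hy
    rw [Scheme.IdealSheafData.mem_support_iff_of_mem hyU, hg, Scheme.zeroLocus_span,
      Scheme.zeroLocus_singleton] at h1
    simpa using h1
  · intro hy
    have hyU : y ∈ U.1 := X.basicOpen_le g hy
    refine ⟨?_, hyU⟩
    show y ∉ I.support
    rw [Scheme.IdealSheafData.mem_support_iff_of_mem hyU, hg, Scheme.zeroLocus_span,
      Scheme.zeroLocus_singleton]
    simpa using hy

theorem isAffineHom_interior_ι (I : X.IdealSheafData) (hI : BlowUp.IsEffCartierIdeal I) :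
    IsAffineHom (ModPair.interior I).ι := by
  apply isAffineHom_of_forall_exists_isAffineOpen
  intro x
  obtain ⟨U, hxU, g, -, hg⟩ := hI x
  refine ⟨U.1, hxU, U.2, ?_⟩
  rw [← Scheme.Hom.isAffineOpen_iff_of_isOpenImmersion (ModPair.interior I).ι]
  have : (ModPair.interior I).ι ''ᵁ ((ModPair.interior I).ι ⁻¹ᵁ U.1) = X.basicOpen g := by
    rw [← interior_inf_eq I U g hg, Scheme.Hom.image_preimage_eq_opensRange_inf,
      Scheme.Opens.opensRange_ι]
  rw [this]
  exact U.2.basicOpen g

theorem quasiCompact_preimage_interior_ι (I : X.IdealSheafData) (hI : BlowUp.IsEffCartierIdeal I)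
    (f : X' ⟶ X) : QuasiCompact (f ⁻¹ᵁ ModPair.interior I).ι := by
  haveI := isAffineHom_interior_ι I hI
  exact MorphismProperty.of_isPullback (P := @QuasiCompact)
    (isPullback_morphismRestrict f (ModPair.interior I)) inferInstance

set_option backward.isDefEq.respectTransparency false in
theorem main (I : X.IdealSheafData) (hI : BlowUp.IsEffCartierIdeal I) (f : X' ⟶ X)
    [IsSchemeTheoreticallyDominant (f ⁻¹ᵁ ModPair.interior I).ι] :
    (∀ W : X'.Opens, IsSchemeTheoreticallyDominant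
        (X'.homOfLE (inf_le_right : f ⁻¹ᵁ ModPair.interior I ⊓ W ≤ W))) ∧
      BlowUp.IsEffCartierIdeal (I.comap f) := by
  haveI := quasiCompact_preimage_interior_ι I hI f
  refine ⟨fun W => ?_, ?_⟩
  · exact IsSchemeTheoreticallyDominant.of_isPullback
      (isPullback_opens_inf (f ⁻¹ᵁ ModPair.interior I) W)
  · intro x
    obtain ⟨U, hxU, g, hg, hIU⟩ := hI (f x)
    obtain ⟨_, ⟨V, hV, rfl⟩, hxV, hVU⟩ := X'.isBasis_affineOpens.exists_subset_of_mem_open
      (show x ∈ f ⁻¹ᵁ U.1 from hxU) (f ⁻¹ᵁ U.1).isOpen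
    have hcomap : (I.comap f).ideal ⟨V, hV⟩ = Ideal.span {(f.appLE U.1 V hVU).hom g} := by
      rw [Groth.Agent.Lib.ComapIdeal_helper4.comap_ideal_eq f I U ⟨V, hV⟩ hVU, hIU, Ideal.map_span,
        Set.image_singleton]
    refine ⟨⟨V, hV⟩, hxV, (f.appLE U.1 V hVU).hom g, ?_, hcomap⟩
    rw [mem_nonZeroDivisors_iff_right]
    intro s hs
    have hinj := Scheme.Hom.app_injective (f ⁻¹ᵁ ModPair.interior I).ι V
    apply hinj
    rw [map_zero]
    have h1 : X'.presheaf.map (homOfLE (X'.basicOpen_le ((f.appLE U.1 V hVU).hom g))).op s = 0 := by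
      have hu : IsUnit (X'.presheaf.map
          (homOfLE (X'.basicOpen_le ((f.appLE U.1 V hVU).hom g))).op ((f.appLE U.1 V hVU).hom g)) :=
        RingedSpace.isUnit_res_basicOpen _ _
      have h2 := congrArg (X'.presheaf.map
        (homOfLE (X'.basicOpen_le ((f.appLE U.1 V hVU).hom g))).op) hs
      rw [map_mul, map_zero] at h2
      exact (hu.mul_left_eq_zero).mp h2
    have hle : (f ⁻¹ᵁ ModPair.interior I).ι ''ᵁ ((f ⁻¹ᵁ ModPair.interior I).ι ⁻¹ᵁ V) ≤
        X'.basicOpen ((f.appLE U.1 V hVU).hom g) := by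
      rw [Scheme.Hom.image_preimage_eq_opensRange_inf, Scheme.Opens.opensRange_ι]
      rintro y ⟨hy0, hyV⟩
      have hfy : f y ∈ X.basicOpen g := by
        rw [← interior_inf_eq I U g hIU]
        exact ⟨hy0, hVU hyV⟩
      have hb : X'.basicOpen ((f.appLE U.1 V hVU).hom g) = V ⊓ f ⁻¹ᵁ X.basicOpen g := by
        rw [Scheme.preimage_basicOpen]
        exact Scheme.basicOpen_res _ _ _
      rw [hb]
      exact ⟨hyV, hfy⟩
    rw [Scheme.Opens.ι_app]
    have h3 : X'.presheaf.map (homOfLE (x := (f ⁻¹ᵁ ModPair.interior I).ι ''ᵁ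
        ((f ⁻¹ᵁ ModPair.interior I).ι ⁻¹ᵁ V)) (Set.image_preimage_subset _ _)).op s =
        X'.presheaf.map (homOfLE hle).op
          (X'.presheaf.map (homOfLE (X'.basicOpen_le ((f.appLE U.1 V hVU).hom g))).op s) := by
      rw [← ConcreteCategory.comp_apply, ← Functor.map_comp]
      rfl
    exact h3.trans (by rw [h1, map_zero])

end Groth.Agent.Lib.CartierDense
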