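import Mathlib
import Groth.Prelude.Def_AlgSpSub
import Groth.Agent.Lib.ComapIdeal_helper4
import Groth.Agent.Lib.IdealEtA_helper7
import Groth.Agent.Lib.IdealEtB_helper7

/-!
# Descent of effective Cartier ideals along flat open covers (helper7)
-/

set_option autoImplicit false
universe u
open CategoryTheory CategoryTheory.Limits AlgebraicGeometry Opposite

namespace Groth.Agent.Lib.CartierDescH7
open Groth.Agent.Lib.IdealEtAH7

section Ring
variable {A B : Type*} [CommRing A] [CommRing B]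

lemma span_coeffs_eq_top (φ : A →+* B) (I : Ideal A) (f : B) (hf : f ∈ nonZeroDivisors B)
    (h : I.map φ = Ideal.span {f}) :
    Ideal.span {c : B | ∃ a ∈ I, φ a = c * f} = ⊤ := by
  obtain ⟨C, hC⟩ : ∃ C, C = Ideal.span {c : B | ∃ a ∈ I, φ a = c * f} := ⟨_, rfl⟩
  rw [← hC]
  have h1 : I.map φ ≤ C * Ideal.span {f} := by
    rw [Ideal.map_le_iff_le_comap]
    intro a ha
    rw [Ideal.mem_comap]
    have h2 : φ a ∈ Ideal.span {f} := h ▸ Ideal.mem_map_of_mem φ ha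
    obtain ⟨c, hc⟩ := Ideal.mem_span_singleton'.1 h2
    rw [← hc, hC]
    exact Ideal.mul_mem_mul (Ideal.subset_span ⟨a, ha, hc.symm⟩)
      (Ideal.mem_span_singleton_self f)
  have h3 : f ∈ C * Ideal.span {f} := h1 (h ▸ Ideal.mem_span_singleton_self f)
  obtain ⟨z, hz, hzf⟩ := Ideal.mem_mul_span_singleton.1 h3
  have h4 : (z - 1) * f = 0 := by rw [sub_mul, hzf, one_mul, sub_self]
  have h5 : z - 1 = 0 := (mul_right_mem_nonZeroDivisors_eq_zero_iff hf).1 h4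
  have h6 : z = 1 := sub_eq_zero.1 h5
  rw [Ideal.eq_top_iff_one, ← h6]; exact hz

lemma eq_span_of_faithfullyFlat (φ : A →+* B) (hφ : φ.FaithfullyFlat) (I : Ideal A) (a : A)
    (h : I.map φ = Ideal.span {φ a}) (hnz : φ a ∈ nonZeroDivisors B) :
    a ∈ nonZeroDivisors A ∧ I = Ideal.span {a} := by
  constructor
  · rw [mem_nonZeroDivisors_iff_right]
    intro z hz
    apply hφ.injective
    rw [map_zero]
    have : φ z * φ a = 0 := by rw [← map_mul, hz, map_zero]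
    exact (mul_right_mem_nonZeroDivisors_eq_zero_iff hnz).1 this
  · algebraize [φ]
    apply Ideal.map_injective_of_faithfullyFlat (A := A) (B := B)
    show I.map φ = (Ideal.span {a}).map φ
    rw [h, Ideal.map_span, Set.image_singleton]

end Ring

section Sch
variable {X : Scheme.{u}}

lemma principal_basicOpen (K : X.IdealSheafData) (U : X.affineOpens) (f : Γ(X, U.1))
    (hf : f ∈ nonZeroDivisors Γ(X, U.1)) (hK : K.ideal U = Ideal.span {f}) (g : Γ(X, U.1)) :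
    (X.presheaf.map (homOfLE (X.basicOpen_le g)).op).hom f ∈
        nonZeroDivisors Γ(X, X.basicOpen g) ∧
      K.ideal (X.affineBasicOpen g) =
        Ideal.span {(X.presheaf.map (homOfLE (X.basicOpen_le g)).op).hom f} := by
  constructor
  · haveI := U.2.isLocalization_basicOpen g
    exact IsLocalization.map_nonZeroDivisors_le (Submonoid.powers g) _ ⟨f, hf, rfl⟩
  · rw [← K.map_ideal_basicOpen U g, hK, Ideal.map_span, Set.image_singleton]

theorem exists_principal_aux {W' W : Scheme.{u}} (c : W' ⟶ W) [Flat c] (hc : IsOpenMap c)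
    (J : W.IdealSheafData) (U₀ : W.affineOpens) (U'₀ : W'.affineOpens)
    (e₀ : U'₀.1 ≤ c ⁻¹ᵁ U₀.1)
    (x' : W') (hx' : x' ∈ U'₀.1) (f' : Γ(W', U'₀.1))
    (hf'nz : f' ∈ nonZeroDivisors Γ(W', U'₀.1))
    (hf' : (J.comap c).ideal U'₀ = Ideal.span {f'}) :
    ∃ U : W.affineOpens, c x' ∈ U.1 ∧ ∃ f : Γ(W, U.1),
      f ∈ nonZeroDivisors Γ(W, U.1) ∧ J.ideal U = Ideal.span {f} := by
  obtain ⟨φ₀, hφ₀⟩ : ∃ φ₀ : Γ(W, U₀.1) ⟶ Γ(W', U'₀.1), φ₀ = c.appLE U₀.1 U'₀.1 e₀ := ⟨_, rfl⟩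
  have hF₀ : (J.ideal U₀).map φ₀.hom = Ideal.span {f'} := by
    rw [hφ₀, ← Groth.Agent.Lib.ComapIdeal_helper4.comap_ideal_eq c J U₀ U'₀ e₀, hf']
  have hC := span_coeffs_eq_top φ₀.hom (J.ideal U₀) f' hf'nz hF₀
  obtain ⟨c₁, ⟨a, ha, hac⟩, hx'c₁⟩ :
      ∃ c₁ ∈ {c₁ : Γ(W', U'₀.1) | ∃ a ∈ J.ideal U₀, φ₀.hom a = c₁ * f'},
        x' ∈ W'.basicOpen c₁ := by
    by_contra hcon
    push_neg at hcon
    have h1 : x' ∈ W'.zeroLocus (U := U'₀.1)
        {c₁ : Γ(W', U'₀.1) | ∃ a ∈ J.ideal U₀, φ₀.hom a = c₁ * f'} := by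
      rw [Scheme.mem_zeroLocus_iff]; exact hcon
    rw [← Scheme.zeroLocus_span, hC, Submodule.top_coe, Scheme.zeroLocus_univ] at h1
    exact h1 hx'
  let Oc : W.Opens := ⟨c '' (W'.basicOpen c₁ : Set W'), hc _ (W'.basicOpen c₁).isOpen⟩
  have hxOc : c x' ∈ Oc := ⟨x', hx'c₁, rfl⟩
  have hxU₀ : c x' ∈ U₀.1 := e₀ hx'
  obtain ⟨h, hhle, hxh⟩ := U₀.2.exists_basicOpen_le (V := Oc) ⟨c x', hxOc⟩ hxU₀
  obtain ⟨g', hg'⟩ : ∃ g' : Γ(W', U'₀.1), g' = c₁ * φ₀.hom h := ⟨_, rfl⟩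
  have hU'eq : W'.basicOpen g' = W'.basicOpen c₁ ⊓ (U'₀.1 ⊓ c ⁻¹ᵁ W.basicOpen h) := by
    rw [hg', Scheme.basicOpen_mul, hφ₀, Scheme.basicOpen_appLE]
  have e : W'.basicOpen g' ≤ c ⁻¹ᵁ W.basicOpen h := by
    rw [hU'eq]; exact inf_le_right.trans inf_le_right
  have hsurj : ∀ y ∈ W.basicOpen h, ∃ y' ∈ W'.basicOpen g', c y' = y := by
    intro y hy
    obtain ⟨y', hy'c₁, rfl⟩ := hhle hy
    refine ⟨y', ?_, rfl⟩
    rw [hU'eq]
    exact ⟨hy'c₁, W'.basicOpen_le c₁ hy'c₁, hy⟩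
  obtain ⟨hρ'nz, hρ'⟩ := principal_basicOpen (J.comap c) U'₀ f' hf'nz hf' g'
  obtain ⟨φ, hφ⟩ : ∃ φ : Γ(W, W.basicOpen h) ⟶ Γ(W', W'.basicOpen g'),
      φ = c.appLE (W.basicOpen h) (W'.basicOpen g') e := ⟨_, rfl⟩
  have hF : (J.comap c).ideal (W'.affineBasicOpen g') =
      (J.ideal (W.affineBasicOpen h)).map φ.hom := by
    rw [hφ]
    exact Groth.Agent.Lib.ComapIdeal_helper4.comap_ideal_eq c J (W.affineBasicOpen h)
      (W'.affineBasicOpen g') e
  have hcompat : W.presheaf.map (homOfLE (W.basicOpen_le h)).op ≫ φ =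
      φ₀ ≫ W'.presheaf.map (homOfLE (W'.basicOpen_le g')).op := by
    rw [hφ, hφ₀, Scheme.Hom.map_appLE, Scheme.Hom.appLE_map]
  obtain ⟨ρ, hρ⟩ : ∃ ρ, ρ = W.presheaf.map (homOfLE (W.basicOpen_le h)).op := ⟨_, rfl⟩
  obtain ⟨ρ', hρ'd⟩ : ∃ ρ', ρ' = W'.presheaf.map (homOfLE (W'.basicOpen_le g')).op := ⟨_, rfl⟩
  rw [← hρ, ← hρ'd] at hcompat
  rw [← hρ'd] at hρ'nz hρ'
  have hel : φ.hom (ρ.hom a) = ρ'.hom c₁ * ρ'.hom f' := by
    have := congrArg (fun k => k.hom a) hcompat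
    simp only [CommRingCat.hom_comp, RingHom.comp_apply] at this
    rw [this, hac, map_mul]
  have hunit : IsUnit (ρ'.hom c₁) := by
    have h1 : IsUnit (ρ'.hom g') := by
      rw [hρ'd]; exact RingedSpace.isUnit_res_basicOpen W'.toRingedSpace g'
    have h1' : ρ'.hom g' = ρ'.hom c₁ * ρ'.hom (φ₀.hom h) :=
      (congrArg ρ'.hom hg').trans (map_mul _ _ _)
    rw [h1'] at h1
    exact isUnit_of_mul_isUnit_left h1
  have hnz : φ.hom (ρ.hom a) ∈ nonZeroDivisors Γ(W', W'.basicOpen g') := by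
    rw [hel]; exact mul_mem hunit.mem_nonZeroDivisors hρ'nz
  have hspan : (J.ideal (W.affineBasicOpen h)).map φ.hom = Ideal.span {φ.hom (ρ.hom a)} := by
    rw [← hF, hρ', hel, Ideal.span_singleton_mul_left_unit hunit]
  have hff : φ.hom.FaithfullyFlat := by
    haveI : IsAffine (W.basicOpen h).toScheme := U₀.2.basicOpen h
    haveI : IsAffine (W'.basicOpen g').toScheme := U'₀.2.basicOpen g'
    let c' := c.resLE (W.basicOpen h) (W'.basicOpen g') e
    haveI : Surjective c' := ⟨fun y => by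
      obtain ⟨y', hy', hy'y⟩ := hsurj y.1 y.2
      refine ⟨⟨y', hy'⟩, ?_⟩
      apply (W.basicOpen h).ι.isOpenEmbedding.injective
      rw [← Scheme.Hom.comp_apply, Scheme.Hom.resLE_comp_ι, Scheme.Hom.comp_apply]
      exact hy'y⟩
    have h1 : c'.appTop.hom.FaithfullyFlat :=
      (Flat.flat_and_surjective_iff_faithfullyFlat_of_isAffine (f := c')).1
        ⟨inferInstance, inferInstance⟩
    have h2 := Groth.Agent.Lib.IdealEtBH7.rTop_resLE c (W'.basicOpen g') (W.basicOpen h) e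
    have h3 : φ = rTop (W.basicOpen h) ≫ c'.appTop ≫ inv (rTop (W'.basicOpen g')) := by
      rw [hφ, ← Category.assoc, h2, Category.assoc, IsIso.hom_inv_id, Category.comp_id]
    rw [h3, CommRingCat.hom_comp, CommRingCat.hom_comp]
    exact RingHom.FaithfullyFlat.stableUnderComposition _ _
      (RingHom.FaithfullyFlat.of_bijective (rTop_bijective _))
      (RingHom.FaithfullyFlat.stableUnderComposition _ _ h1
        (RingHom.FaithfullyFlat.of_bijective (ConcreteCategory.bijective_of_isIso _)))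
  obtain ⟨h1, h2⟩ := eq_span_of_faithfullyFlat φ.hom hff _ (ρ.hom a) hspan hnz
  exact ⟨W.affineBasicOpen h, hxh, ρ.hom a, h1, h2⟩

theorem exists_principal_of_comap {W' W : Scheme.{u}} (c : W' ⟶ W) [Flat c] (hc : IsOpenMap c)
    (J : W.IdealSheafData) (hK : BlowUp.IsEffCartierIdeal (J.comap c)) (x' : W') :
    ∃ U : W.affineOpens, c x' ∈ U.1 ∧ ∃ f : Γ(W, U.1),
      f ∈ nonZeroDivisors Γ(W, U.1) ∧ J.ideal U = Ideal.span {f} := by
  obtain ⟨U₀, hxU₀, -⟩ := exists_affineOpen_mem_le W ⊤ (c x') trivial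
  obtain ⟨U'', hx'U'', f'', hf''nz, hf''⟩ := hK x'
  have hx'pre : x' ∈ c ⁻¹ᵁ U₀.1 := hxU₀
  obtain ⟨g, hgle, hx'g⟩ := U''.2.exists_basicOpen_le (V := c ⁻¹ᵁ U₀.1) ⟨x', hx'pre⟩ hx'U''
  obtain ⟨hf'nz, hf'⟩ := principal_basicOpen (J.comap c) U'' f'' hf''nz hf'' g
  exact exists_principal_aux c hc J U₀ (W'.affineBasicOpen g) hgle x' hx'g _ hf'nz hf'

theorem isEffCartierIdeal_of_comap {W' W : Scheme.{u}} (c : W' ⟶ W) [Flat c] [Surjective c]
    (hc : IsOpenMap c) (J : W.IdealSheafData)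
    (hK : BlowUp.IsEffCartierIdeal (J.comap c)) : BlowUp.IsEffCartierIdeal J := by
  intro x
  obtain ⟨x', rfl⟩ := c.surjective x
  exact exists_principal_of_comap c hc J hK x'

end Sch

end Groth.Agent.Lib.CartierDescH7
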