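import Mathlib
import Groth.Prelude
import Groth.Agent.Lib.Tens48_helper8

/-!
# Parafactorial local rings (helper8)
APPEND-ONLY once landed.
-/

set_option autoImplicit false

namespace TensH8

open AlgebraicGeometry CategoryTheory CategoryTheory.Limits TopologicalSpace Opposite TensorProduct
open QcqsLoc MonoidalCategory GenLocH8 FLFH8 QCohExtn PBH8 SerreCrit GGH8

universe u

section TopArrow

variable (X : Scheme.{u})

instance isIso_top_ι : IsIso (⊤ : X.Opens).ι := inferInstanceAs (IsIso X.topIso.hom)

theorem invRestrictEquiv_ι_of_homOfLE (A : X.Opens)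
    (h : ParaF.InvRestrictEquiv (X.homOfLE (le_top : A ≤ ⊤))) : ParaF.InvRestrictEquiv A.ι := by
  refine invRestrictEquiv_of_iso_arrow (X.homOfLE (le_top : A ≤ ⊤)) A.ι (𝟙 _) X.topIso.inv ?_ h
  rw [← cancel_mono (⊤ : X.Opens).ι]
  simp

theorem invRestrictEquiv_homOfLE_of_ι (A : X.Opens) (h : ParaF.InvRestrictEquiv A.ι) :
    ParaF.InvRestrictEquiv (X.homOfLE (le_top : A ≤ ⊤)) := by
  refine invRestrictEquiv_of_iso_arrow A.ι (X.homOfLE (le_top : A ≤ ⊤)) (𝟙 _)
    (⊤ : X.Opens).ι ?_ h
  simp

theorem isIso_homOfLE_of_eq {A B : X.Opens} (e : A ≤ B) (h : A = B) : IsIso (X.homOfLE e) := by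
  subst h
  rw [Scheme.homOfLE_rfl]
  infer_instance

theorem presheaf_map_bijective_of_eq {A B : X.Opens} (e : A ≤ B) (h : A = B) :
    Function.Bijective (X.presheaf.map (homOfLE e).op) := by
  subst h
  have : X.presheaf.map (homOfLE e).op = 𝟙 _ := X.presheaf.map_id _
  rw [this]
  exact Function.bijective_id

end TopArrow

section LocalRing

variable (A : Type u) [CommRing A] [IsLocalRing A]

/-- An open of the spectrum of a local ring containing the closed point is everything. -/
theorem eq_top_of_closedPoint_mem (W : (Spec (CommRingCat.of A)).Opens)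
    (h : IsLocalRing.closedPoint A ∈ W) : W = ⊤ :=
  (IsLocalRing.closedPoint_mem_iff (R := A) W).mp h

/-- Invertible modules on the spectrum of a local ring are trivial. -/
theorem picTrivial_spec_local : ParaF.PicTrivial (Spec (CommRingCat.of A)) := by
  intro L hL
  obtain ⟨W, hW, ⟨α⟩⟩ := hL (IsLocalRing.closedPoint A)
  have hWtop : W = ⊤ := eq_top_of_closedPoint_mem A W hW
  subst hWtop
  have θ : L.restrict (⊤ : (Spec (CommRingCat.of A)).Opens).ι ≅
      (Coh.structureModule (Spec (CommRingCat.of A))).restrict
        (⊤ : (Spec (CommRingCat.of A)).Opens).ι :=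
    α ≪≫ (Scheme.Modules.restrictUnitIso _).symm
  exact nonempty_iso_of_ffInv _ (ffInv_of_isIso _) hL isInvertible_structureModule θ

theorem puncturedSpec_eq :
    FEt.puncturedSpec A = ⊤ ⊓ (⟨{IsLocalRing.closedPoint A},
      IsLocalRing.isClosed_singleton_closedPoint A⟩ :
        Closeds ↥(Spec (CommRingCat.of A))).compl := by
  rw [top_inf_eq]
  rfl

theorem ι_app_bijective_puncturedSpec
    (hbij : Function.Bijective ((Spec (CommRingCat.of A)).presheaf.map
      (homOfLE (le_top : FEt.puncturedSpec A ≤ ⊤)).op))
    (W : (Spec (CommRingCat.of A)).Opens) :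
    Function.Bijective ((FEt.puncturedSpec A).ι.app W) := by
  rw [Scheme.Opens.ι_app]
  by_cases hW : IsLocalRing.closedPoint A ∈ W
  · have hWtop := eq_top_of_closedPoint_mem A W hW
    subst hWtop
    refine presheaf_map_bijective_congr _ _ _ ?_ rfl hbij
    rw [Scheme.Hom.image_preimage_eq_opensRange_inf, Scheme.Opens.opensRange_ι, inf_top_eq]
  · apply presheaf_map_bijective_of_eq
    rw [Scheme.Hom.image_preimage_eq_opensRange_inf, Scheme.Opens.opensRange_ι]
    apply inf_eq_right.mpr
    intro x hx hx'
    apply hW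
    have : x = IsLocalRing.closedPoint A := hx'
    rw [← this]
    exact hx

/-- **Parafactorial local rings**. -/
theorem isParafactorialLocalRing_iff :
    ParaF.IsParafactorialLocalRing A ↔
      (Function.Bijective ((Spec (CommRingCat.of A)).presheaf.map
          (homOfLE (le_top : FEt.puncturedSpec A ≤ ⊤)).op) ∧
        ParaF.PicTrivial (FEt.puncturedSpec A : Scheme.{u})) := by
  constructor
  · intro h
    have h1 := h ⊤
    have h2 : ParaF.InvRestrictEquiv
        ((Spec (CommRingCat.of A)).homOfLE (le_top : FEt.puncturedSpec A ≤ ⊤)) :=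
      invRestrictEquiv_congr _ _ _ (puncturedSpec_eq A).symm rfl h1
    refine ⟨presheaf_map_bijective_of_invRestrictEquiv _ _ h2, ?_⟩
    intro L₀ hL₀
    have h3 := invRestrictEquiv_ι_of_homOfLE _ _ h2
    obtain ⟨L, hL, ⟨θ⟩⟩ := h3.2 L₀ hL₀
    obtain ⟨β⟩ := picTrivial_spec_local A L hL
    exact ⟨θ.symm ≪≫ (Scheme.Modules.restrictFunctor (FEt.puncturedSpec A).ι).mapIso β ≪≫
      Scheme.Modules.restrictUnitIso _⟩
  · rintro ⟨hbij, hpic⟩ V
    by_cases hV : IsLocalRing.closedPoint A ∈ V
    · have hVtop := eq_top_of_closedPoint_mem A V hV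
      subst hVtop
      have hf := ι_app_bijective_puncturedSpec A hbij
      have h1 : ParaF.InvRestrictEquiv (FEt.puncturedSpec A).ι := by
        apply invRestrictEquiv_of_bijective _ hf
        intro L₀ hL₀
        obtain ⟨α⟩ := hpic L₀ hL₀
        haveI := isIso_unit_of_finLocFree (FEt.puncturedSpec A).ι hf
          (isFinLocFree_of_isInvertible (isInvertible_structureModule (X := Spec (CommRingCat.of A))))
        have e : Coh.structureModule (Spec (CommRingCat.of A)) ≅
            (Scheme.Modules.pushforward (FEt.puncturedSpec A).ι).obj L₀ :=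
          asIso ((Scheme.Modules.pullbackPushforwardAdjunction (FEt.puncturedSpec A).ι).unit.app
            (Coh.structureModule (Spec (CommRingCat.of A)))) ≪≫
          (Scheme.Modules.pushforward (FEt.puncturedSpec A).ι).mapIso
            (((Scheme.Modules.restrictFunctorIsoPullback (FEt.puncturedSpec A).ι).app _).symm ≪≫
              Scheme.Modules.restrictUnitIso _ ≪≫ α.symm)
        exact isInvertible_of_iso' e isInvertible_structureModule
      have h2 := invRestrictEquiv_homOfLE_of_ι _ _ h1
      exact invRestrictEquiv_congr _ _ _ (puncturedSpec_eq A) rfl h2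
    · have heq : V ⊓ (⟨{IsLocalRing.closedPoint A},
          IsLocalRing.isClosed_singleton_closedPoint A⟩ :
            Closeds ↥(Spec (CommRingCat.of A))).compl = V := by
        apply inf_eq_left.mpr
        intro x hx hx'
        apply hV
        have : x = IsLocalRing.closedPoint A := hx'
        rw [← this]
        exact hx
      haveI := isIso_homOfLE_of_eq (Spec (CommRingCat.of A)) (inf_le_left : V ⊓ (⟨{IsLocalRing.closedPoint A},
          IsLocalRing.isClosed_singleton_closedPoint A⟩ :
            Closeds ↥(Spec (CommRingCat.of A))).compl ≤ V) heq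
      exact invRestrictEquiv_of_isIso _

end LocalRing

end TensH8
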