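import Mathlib
import Groth.Prelude
import Groth.Agent.Lib.Tens31_helper8
import Groth.Agent.Lib.Tens51_helper8
import Groth.Agent.Lib.SteinFin_helper3
import Groth.Agent.Lib.ProjSpaceProper_helper4

/-!
# Nested linearly equivalent effective Cartier divisors on a proper scheme are equal (helper6)

`eq_of_le_of_iso`: on a scheme proper over a field, effective Cartier ideals `D₂ ≤ D₁` with
isomorphic ideal modules are equal: the composite `I₁ ≅ I₂ ⊆ I₁` is multiplication by a global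
function `g`, which is a nonzerodivisor of the Artinian ring `Γ(M, O)`, hence a unit.
APPEND-ONLY once landed.
-/

set_option autoImplicit false
set_option linter.all false

universe u
open AlgebraicGeometry CategoryTheory CategoryTheory.Limits TopologicalSpace Opposite
open QcqsLoc QCohExtn SerreCrit TensH8

namespace Groth.Agent.Lib.CartierEq

variable {X : Scheme.{u}}

theorem affine_basis (O : X.Opens) (x : X) (hx : x ∈ O) :
    ∃ W : X.Opens, IsAffineOpen W ∧ x ∈ W ∧ W ≤ O := by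
  obtain ⟨_, ⟨W, hW : IsAffineOpen W, rfl⟩, hxW, hle⟩ :=
    X.isBasis_affineOpens.exists_subset_of_mem_open hx O.isOpen
  exact ⟨W, hW, hxW, hle⟩

theorem idealModι_toSubscheme_of_le {K K' : X.IdealSheafData} (h : K ≤ K') :
    ClSub.idealModι K ≫ ClSub.toSubscheme K' = 0 := by
  refine Scheme.Modules.hom_ext _ 0 (fun O => ?_)
  ext s
  show ap (ClSub.idealModι K ≫ ClSub.toSubscheme K') O s = 0
  refine QcqsLoc.eq_zero_of_cover _ _ (fun x hx => ?_)
  obtain ⟨W, hW, hxW, hWO⟩ := affine_basis O x hx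
  refine ⟨W, hWO, hxW, ?_⟩
  rw [← ap_rF]
  have h1 := TensH8.idealModι_mem K hW (rF _ hWO s)
  have h2 : toFn (ap (ClSub.idealModι K) W (rF _ hWO s)) ∈ K'.ideal ⟨W, hW⟩ := h ⟨W, hW⟩ h1
  rw [← K'.ker_subschemeι_app ⟨W, hW⟩, RingHom.mem_ker] at h2
  exact h2

theorem eq_of_le_of_iso {k : Type u} [Field k] (M : Scheme.{u})
    (f : M ⟶ Spec (CommRingCat.of k)) [IsProper f]
    (D₁ D₂ : M.IdealSheafData) (h₁ : BlowUp.IsEffCartierIdeal D₁)
    (h₂ : BlowUp.IsEffCartierIdeal D₂) (hle : D₂ ≤ D₁)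
    (e : ClSub.idealMod D₁ ≅ ClSub.idealMod D₂) : D₁ = D₂ := by
  let j : ClSub.idealMod D₂ ⟶ ClSub.idealMod D₁ :=
    kernel.lift (ClSub.toSubscheme D₁) (ClSub.idealModι D₂) (idealModι_toSubscheme_of_le hle)
  have hj : j ≫ ClSub.idealModι D₁ = ClSub.idealModι D₂ := kernel.lift_ι _ _ _
  obtain ⟨g, hg⟩ := exists_smul_of_end (isInvertible_idealMod_of_isEffCartierIdeal D₁ h₁)
    (e.hom ≫ j)
  -- the composite on sections
  have hθ : ∀ (W : M.Opens) (s : Γ(ClSub.idealMod D₁, W)),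
      toFn (ap (ClSub.idealModι D₂) W (ap e.hom W s)) =
        rX (le_top : W ≤ ⊤) g * toFn (ap (ClSub.idealModι D₁) W s) := by
    intro W s
    rw [← idealModι_smul, ← hg W s, ← hj]
    rfl
  have key : ∀ (W : M.Opens) (hW : IsAffineOpen W) (a : Γ(M, W)),
      a ∈ D₂.ideal ⟨W, hW⟩ ↔ ∃ b ∈ D₁.ideal ⟨W, hW⟩, a = rX (le_top : W ≤ ⊤) g * b := by
    intro W hW a
    constructor
    · intro ha
      obtain ⟨t, ht⟩ := exists_idealMod_section D₂ hW a ha
      have hs : ap e.hom W (ap e.inv W t) = t := by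
        show ap (e.inv ≫ e.hom) W t = t
        rw [e.inv_hom_id]
        rfl
      refine ⟨toFn (ap (ClSub.idealModι D₁) W (ap e.inv W t)), idealModι_mem D₁ hW _, ?_⟩
      rw [← hθ, hs, ht]
    · rintro ⟨b, hb, rfl⟩
      obtain ⟨s, hs⟩ := exists_idealMod_section D₁ hW b hb
      rw [← hs, ← hθ]
      exact idealModι_mem D₂ hW _
  -- `g` is a nonzerodivisor
  have hnzd : g ∈ nonZeroDivisors Γ(M, ⊤) := by
    rw [mem_nonZeroDivisors_iff_right]
    intro h hh
    apply eqX_of_cover h 0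
    intro x _
    obtain ⟨U, hxU, f₂, hf₂, hI⟩ := h₂ x
    refine ⟨U.1, le_top, hxU, ?_⟩
    rw [map_zero]
    obtain ⟨b, -, hb⟩ := (key U.1 U.2 f₂).mp (by
      show f₂ ∈ D₂.ideal U
      rw [hI]; exact Ideal.mem_span_singleton_self f₂)
    have h0 : rX (le_top : U.1 ≤ ⊤) h * f₂ = 0 := by
      rw [hb, ← mul_assoc, ← map_mul, hh, map_zero, zero_mul]
    exact (mem_nonZeroDivisors_iff_right.mp hf₂) _ h0
  -- `Γ(M, O)` is Artinian
  haveI : IsArtinianRing Γ(M, ⊤) := by
    have hfin := SteinFinH3.finite_comp_of_isProper k f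
    letI := (f.appTop.hom.comp (Scheme.ΓSpecIso (CommRingCat.of k)).inv.hom).toAlgebra
    haveI : Module.Finite k Γ(M, ⊤) := hfin
    exact IsArtinianRing.of_finite k _
  have hu : IsUnit g := IsArtinianRing.isUnit_of_mem_nonZeroDivisors hnzd
  obtain ⟨g', hg'⟩ := hu.exists_right_inv
  apply Scheme.IdealSheafData.ext
  funext W
  ext a
  rw [key W.1 W.2 a]
  constructor
  · intro ha
    refine ⟨rX (le_top : W.1 ≤ ⊤) g' * a, Ideal.mul_mem_left _ _ ha, ?_⟩
    rw [← mul_assoc, ← map_mul, hg', map_one, one_mul]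
  · rintro ⟨b, hb, rfl⟩
    exact Ideal.mul_mem_left _ _ hb

/-- a projective scheme over a field is proper. -/
theorem isProper_of_isProjectiveOver {k : Type u} [Field k] (M : Scheme.{u})
    (f : M ⟶ Spec (CommRingCat.of k)) (hproj : Neron.IsProjectiveOver k (Over.mk f)) :
    IsProper f := by
  obtain ⟨n, i, hi, hif⟩ := hproj
  haveI := hi
  haveI := Groth.Agent.Lib.ProjSpaceProperH4.isProper_toBase n (Spec (CommRingCat.of k))
  have : f = i ≫ CohB1.ProjSpaceOver.toBase n (Spec (CommRingCat.of k)) := hif.symm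
  rw [this]
  infer_instance

end Groth.Agent.Lib.CartierEq
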