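import Mathlib
import Groth.Agent.Lib.PerfectGR_helper3
import Groth.Agent.Lib.SepSmooth_helper3

/-!
# The Jacobi–Zariski sequence of a tower of fields is left exact (helper3)

* `δ_map_of_tower`: naturality of the connecting map `H¹(L_{T/S}) → T ⊗_S Ω_{S/R}` in `T`.
* `injective_liftBaseChange_of_fields`: for fields `K ⊆ L ⊆ M`,
  `M ⊗_L H¹(L_{L/K}) → H¹(L_{M/K})` is injective.
APPEND-ONLY once landed.
-/

set_option autoImplicit false
universe u

open TensorProduct KaehlerDifferential MvPolynomial

namespace Groth.Agent.Lib.JZFieldH3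

section naturality

variable (R : Type u) {S T T' : Type u} [CommRing R] [CommRing S] [CommRing T] [CommRing T']
  [Algebra R S] [Algebra R T] [Algebra S T] [IsScalarTower R S T]
  [Algebra R T'] [Algebra S T'] [IsScalarTower R S T'] [Algebra T T'] [IsScalarTower S T T']

/-- The comparison map `T ⊗_S Ω_{S/R} → T' ⊗_S Ω_{S/R}`. -/
noncomputable def rT : T ⊗[S] Ω[S⁄R] →ₗ[S] T' ⊗[S] Ω[S⁄R] :=
  LinearMap.rTensor Ω[S⁄R] (IsScalarTower.toAlgHom S T T').toLinearMap

@[simp] theorem rT_tmul (t : T) (ω : Ω[S⁄R]) :
    rT R (T' := T') (t ⊗ₜ[S] ω) = algebraMap T T' t ⊗ₜ[S] ω := rfl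

theorem rT_smul (t : T) (z : T ⊗[S] Ω[S⁄R]) :
    rT R (T' := T') (t • z) = algebraMap T T' t • rT R (T' := T') z := by
  induction z with
  | zero => simp
  | tmul a ω => simp [smul_tmul', map_mul, Algebra.smul_def]
  | add x y hx hy => simp [smul_add, hx, hy]

open Algebra in
theorem δAux_defaultHom (y : (Generators.self S T).Ring) :
    Generators.H1Cotangent.δAux R (Generators.self S T')
      ((Generators.defaultHom (Generators.self S T) (Generators.self S T')).toAlgHom y) =
    rT R (T' := T') (Generators.H1Cotangent.δAux R (Generators.self S T) y) := by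
  induction y using MvPolynomial.induction_on with
  | C s =>
    rw [Generators.Hom.toAlgHom_C, Generators.H1Cotangent.δAux_C, Generators.H1Cotangent.δAux_C]
    simp
  | add x₁ x₂ hx₁ hx₂ => simp only [map_add, hx₁, hx₂]
  | mul_X p n IH =>
    rw [map_mul, Generators.Hom.toAlgHom_X, Generators.H1Cotangent.δAux_mul,
      Generators.H1Cotangent.δAux_mul, IH]
    have h1 : (Generators.defaultHom (Generators.self S T) (Generators.self S T')).val n =
        X (algebraMap T T' n) := rfl
    rw [h1, Generators.H1Cotangent.δAux_X, Generators.H1Cotangent.δAux_X, smul_zero, smul_zero,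
      zero_add, zero_add]
    rw [← @IsScalarTower.algebraMap_smul (Generators.self S T').Ring T',
      ← @IsScalarTower.algebraMap_smul (Generators.self S T).Ring T, rT_smul]
    congr 1
    simp [Generators.self]

open Algebra in
/-- Naturality of the connecting homomorphism of the Jacobi–Zariski sequence in the top ring. -/
theorem δ_map_of_tower (x : H1Cotangent S T) :
    H1Cotangent.δ R S T' (H1Cotangent.map S S T T' x) =
      rT R (T' := T') (H1Cotangent.δ R S T x) := by
  obtain ⟨x, hx⟩ := x
  obtain ⟨⟨y, hy⟩, rfl⟩ := Extension.Cotangent.mk_surjective x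
  change Generators.H1Cotangent.δ _ _ ⟨_, _⟩ = rT R (T' := T') (Generators.H1Cotangent.δ _ _ _)
  simp only [LinearMap.domRestrict_apply, Extension.Cotangent.map_mk,
    Generators.H1Cotangent.δ_eq_δAux]
  exact δAux_defaultHom R (T' := T') y

end naturality

section fields

/-- The prime subfield is perfect. -/
theorem perfectField_bot (k : Type u) [Field k] : PerfectField (⊥ : Subfield k) := by
  obtain h0 | ⟨p, hp, hpk⟩ := CharP.exists' k
  · haveI : CharZero (⊥ : Subfield k) := (algebraMap (⊥ : Subfield k) k).charZero
    exact PerfectField.ofCharZero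
  · haveI := hp
    haveI := hpk
    haveI : Fintype (⊥ : Subfield k) := Subfield.fintypeBot k p
    exact PerfectField.ofFinite

variable {K L M : Type u} [Field K] [Field L] [Field M] [Algebra K L] [Algebra L M] [Algebra K M]
  [IsScalarTower K L M]

/-- For a field extension `L/K`, the connecting map `H¹(L_{L/K}) → L ⊗_K Ω_{K/P}` (`P` the prime
field) is injective. -/
theorem injective_δ_of_field (K L : Type u) [Field K] [Field L] [Algebra K L] :
    Function.Injective (Algebra.H1Cotangent.δ (⊥ : Subfield K) K L) := by
  haveI := perfectField_bot K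
  haveI : Algebra.IsGeometricallyReduced (⊥ : Subfield K) L :=
    PerfectGRH3.isGeometricallyReduced_of_perfectField _ _
  haveI : Algebra.FormallySmooth (⊥ : Subfield K) L :=
    SepSmoothH3.formallySmooth_of_isGeometricallyReduced _ _
  haveI : Subsingleton (Algebra.H1Cotangent (⊥ : Subfield K) L) := inferInstance
  have hex := Algebra.H1Cotangent.exact_map_δ (⊥ : Subfield K) K L
  rw [injective_iff_map_eq_zero]
  intro x hx
  obtain ⟨y, rfl⟩ := (hex x).1 hx
  rw [Subsingleton.elim y 0, map_zero]

theorem cancel_tmul (m : M) (w : L ⊗[K] Ω[K⁄(⊥ : Subfield K)]) :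
    AlgebraTensorModule.cancelBaseChange K L M M Ω[K⁄(⊥ : Subfield K)] (m ⊗ₜ[L] w) =
      m • rT (⊥ : Subfield K) (T' := M) w := by
  induction w with
  | zero => simp
  | tmul l ω =>
    rw [AlgebraTensorModule.cancelBaseChange_tmul, rT_tmul, smul_tmul', smul_eq_mul,
      Algebra.smul_def, mul_comm]
  | add a b ha hb => simp only [tmul_add, map_add, smul_add, ha, hb]

/-- For fields `K ⊆ L ⊆ M`, the map `M ⊗_L H¹(L_{L/K}) → H¹(L_{M/K})` is injective. -/
theorem injective_liftBaseChange_of_fields :
    Function.Injective ((Algebra.H1Cotangent.map K K L M).liftBaseChange M) := by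
  have key : ∀ z : M ⊗[L] Algebra.H1Cotangent K L,
      Algebra.H1Cotangent.δ (⊥ : Subfield K) K M
        (((Algebra.H1Cotangent.map K K L M).liftBaseChange M) z) =
      AlgebraTensorModule.cancelBaseChange K L M M Ω[K⁄(⊥ : Subfield K)]
        ((Algebra.H1Cotangent.δ (⊥ : Subfield K) K L).baseChange M z) := by
    intro z
    induction z with
    | zero => simp
    | tmul m x =>
      rw [LinearMap.liftBaseChange_tmul, map_smul, δ_map_of_tower, LinearMap.baseChange_tmul,
        cancel_tmul]
    | add a b ha hb => simp only [map_add, ha, hb]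
  have hδL : Function.Injective ((Algebra.H1Cotangent.δ (⊥ : Subfield K) K L).baseChange M) := by
    rw [LinearMap.baseChange_eq_ltensor]
    exact Module.Flat.lTensor_preserves_injective_linearMap _ (injective_δ_of_field K L)
  intro z₁ z₂ h
  apply hδL
  apply (AlgebraTensorModule.cancelBaseChange K L M M Ω[K⁄(⊥ : Subfield K)]).injective
  rw [← key, ← key, h]

end fields

end Groth.Agent.Lib.JZFieldH3
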