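import Mathlib
import Groth.Agent.Lib.Cartier_helper3
import Groth.Agent.Lib.JZField_helper3

/-!
# Cartier's equality in `H¹(L)` form and the index formula for a square of fields (helper4)

* `h1EquivImperfection`: for fields `K ⊆ L`, `H¹(L_{L/K}) ≃ Υ_{L/K}` (kernel of `L ⊗ Ω_K → Ω_L`).
* `cartier_h1`: for `L/K` finitely generated, `dim Ω_{L/K} - dim H¹(L_{L/K}) = trdeg`.
* `main`: the index formula of Stacks 07E1 type for a commutative square of fields.
APPEND-ONLY once landed.
-/

set_option autoImplicit false
set_option linter.unusedVariables false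
set_option linter.unusedTactic false
set_option linter.unreachableTactic false
set_option linter.unusedSectionVars false
set_option maxHeartbeats 800000
set_option maxSynthPendingDepth 3

universe u

open TensorProduct KaehlerDifferential Groth.Agent.Lib.FredholmH3

namespace Groth.Agent.Lib.CartierH1H4

section Exact

variable {R M N P : Type*} [Ring R] [AddCommGroup M] [AddCommGroup N] [AddCommGroup P]
  [Module R M] [Module R N] [Module R P]

theorem exact_subtype_range {f : M →ₗ[R] N} {g : N →ₗ[R] P} (h : Function.Exact f g) :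
    Function.Exact (LinearMap.range f).subtype g := by
  intro y
  rw [h y]
  constructor
  · rintro ⟨x, rfl⟩
    exact ⟨⟨f x, x, rfl⟩, rfl⟩
  · rintro ⟨⟨_, x, rfl⟩, rfl⟩
    exact ⟨x, rfl⟩

theorem exact_rangeRestrict {f : M →ₗ[R] N} {g : N →ₗ[R] P} (h : Function.Exact f g) :
    Function.Exact f g.rangeRestrict := by
  intro y
  rw [← h y]
  constructor
  · intro hy
    exact congrArg Subtype.val hy
  · intro hy
    exact Subtype.ext hy

end Exact

section H1

variable (K L : Type u) [Field K] [Field L] [Algebra K L]

theorem subsingleton_h1_prime : Subsingleton (Algebra.H1Cotangent (⊥ : Subfield K) L) := by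
  haveI := Groth.Agent.Lib.JZFieldH3.perfectField_bot K
  haveI : Algebra.IsGeometricallyReduced (⊥ : Subfield K) L :=
    Groth.Agent.Lib.PerfectGRH3.isGeometricallyReduced_of_perfectField _ _
  haveI : Algebra.FormallySmooth (⊥ : Subfield K) L :=
    Groth.Agent.Lib.SepSmoothH3.formallySmooth_of_isGeometricallyReduced _ _
  infer_instance

theorem map_int_factor (x : Algebra.H1Cotangent ℤ L) :
    Algebra.H1Cotangent.map (⊥ : Subfield K) K L L (Algebra.H1Cotangent.map ℤ (⊥ : Subfield K) L L x) =
      Algebra.H1Cotangent.map ℤ K L L x := by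
  change ((Algebra.H1Cotangent.map (⊥ : Subfield K) K L L).restrictScalars L ∘ₗ
      Algebra.H1Cotangent.map ℤ (⊥ : Subfield K) L L) x = Algebra.H1Cotangent.map ℤ K L L x
  unfold Algebra.H1Cotangent.map
  rw [← Algebra.Extension.H1Cotangent.map_comp]
  exact LinearMap.congr_fun (Algebra.Extension.H1Cotangent.map_eq _ _) x

theorem map_int_eq_zero (x : Algebra.H1Cotangent ℤ L) : Algebra.H1Cotangent.map ℤ K L L x = 0 := by
  haveI := subsingleton_h1_prime K L
  rw [← map_int_factor K L x, Subsingleton.elim (Algebra.H1Cotangent.map ℤ (⊥ : Subfield K) L L x) 0,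
    map_zero]

theorem delta_int_injective : Function.Injective (Algebra.H1Cotangent.δ ℤ K L) := by
  rw [injective_iff_map_eq_zero]
  intro x hx
  obtain ⟨y, rfl⟩ := (Algebra.H1Cotangent.exact_map_δ ℤ K L x).1 hx
  exact map_int_eq_zero K L y

theorem range_delta_int :
    LinearMap.range (Algebra.H1Cotangent.δ ℤ K L) = EGA41.imperfection ℤ K L := by
  unfold EGA41.imperfection
  exact (LinearMap.exact_iff.mp (Algebra.H1Cotangent.exact_δ_mapBaseChange ℤ K L)).symm

/-- `H¹(L_{L/K}) ≃ Υ_{L/K}` for a field extension. -/
noncomputable def h1EquivImperfection : Algebra.H1Cotangent K L ≃ₗ[L] EGA41.imperfection ℤ K L :=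
  (LinearEquiv.ofInjective _ (delta_int_injective K L)).trans
    (LinearEquiv.ofEq _ _ (range_delta_int K L))

/-- Cartier's equality with `H¹` of the naive cotangent complex. -/
theorem cartier_h1 [Algebra.EssFiniteType K L] :
    Module.Finite L (Ω[L⁄K]) ∧ Module.Finite L (Algebra.H1Cotangent K L) ∧
      (Module.finrank L (Ω[L⁄K]) : ℤ) - Module.finrank L (Algebra.H1Cotangent K L) =
        Cardinal.toNat (Algebra.trdeg K L) := by
  obtain ⟨h1, h2, h3⟩ := Groth.Agent.Lib.CartierH3.cartier (K := K) (L := L)
  haveI := h2
  refine ⟨h1, Module.Finite.equiv (h1EquivImperfection K L).symm, ?_⟩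
  rw [(h1EquivImperfection K L).finrank_eq]
  exact h3

end H1

section Main

variable {k k' K K' : Type u} [Field k] [Field k'] [Field K] [Field K'] [Algebra k k'] [Algebra k K]
  [Algebra k K'] [Algebra k' K'] [Algebra K K'] [IsScalarTower k k' K'] [IsScalarTower k K K']

theorem kaehler_map_map (x : Ω[K⁄k]) :
    KaehlerDifferential.map k k' K' K' (KaehlerDifferential.map k k K K' x) =
      KaehlerDifferential.map k k' K K' x := by
  have hx : x ∈ Submodule.span K (Set.range (D k K)) := by
    rw [span_range_derivation]
    trivial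
  induction hx using Submodule.span_induction with
  | mem y hy =>
    obtain ⟨a, rfl⟩ := hy
    rw [map_D, map_D, map_D]
    rfl
  | zero => simp only [map_zero]
  | add a b _ _ ha hb => simp only [map_add, ha, hb]
  | smul c a _ ha =>
    rw [map_smul (KaehlerDifferential.map k k K K'), map_smul (KaehlerDifferential.map k k' K K'),
      LinearMap.map_smul_of_tower, ha]

theorem alpha_eq :
    (KaehlerDifferential.map k k' K K').liftBaseChange K' =
      (KaehlerDifferential.map k k' K' K') ∘ₗ (mapBaseChange k K K') := by
  apply LinearMap.ext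
  intro z
  induction z using TensorProduct.induction_on with
  | zero => simp only [map_zero]
  | add a b ha hb => simp only [map_add, ha, hb]
  | tmul c x =>
    rw [LinearMap.liftBaseChange_tmul, LinearMap.comp_apply, mapBaseChange_tmul, map_smul,
      kaehler_map_map]

theorem h1_map_map (x : Algebra.H1Cotangent k K) :
    Algebra.H1Cotangent.map k k' K' K' (Algebra.H1Cotangent.map k k K K' x) =
      Algebra.H1Cotangent.map k k' K K' x := by
  change ((Algebra.H1Cotangent.map k k' K' K').restrictScalars K ∘ₗ
      Algebra.H1Cotangent.map k k K K') x = Algebra.H1Cotangent.map k k' K K' x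
  unfold Algebra.H1Cotangent.map
  rw [← Algebra.Extension.H1Cotangent.map_comp]
  exact LinearMap.congr_fun (Algebra.Extension.H1Cotangent.map_eq _ _) x

theorem beta_eq :
    (Algebra.H1Cotangent.map k k' K K').liftBaseChange K' =
      (Algebra.H1Cotangent.map k k' K' K') ∘ₗ
        ((Algebra.H1Cotangent.map k k K K').liftBaseChange K') := by
  apply LinearMap.ext
  intro z
  induction z using TensorProduct.induction_on with
  | zero => simp only [map_zero]
  | add a b ha hb => simp only [map_add, ha, hb]
  | tmul c x =>
    rw [LinearMap.liftBaseChange_tmul, LinearMap.comp_apply, LinearMap.liftBaseChange_tmul,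
      map_smul, h1_map_map]

/-- The index formula for a commutative square of fields. -/
theorem main [Algebra.EssFiniteType k k'] [Algebra.EssFiniteType K K'] :
    Module.Finite K' (LinearMap.ker ((KaehlerDifferential.map k k' K K').liftBaseChange K')) ∧
      Module.Finite K' (Ω[K'⁄k'] ⧸ LinearMap.range ((KaehlerDifferential.map k k' K K').liftBaseChange K')) ∧
      Module.Finite K' (LinearMap.ker ((Algebra.H1Cotangent.map k k' K K').liftBaseChange K')) ∧
      Module.Finite K' (Algebra.H1Cotangent k' K' ⧸ LinearMap.range ((Algebra.H1Cotangent.map k k' K K').liftBaseChange K')) ∧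
      ((Module.finrank K' (LinearMap.ker ((KaehlerDifferential.map k k' K K').liftBaseChange K')) : ℤ)
          - Module.finrank K' (Ω[K'⁄k'] ⧸ LinearMap.range ((KaehlerDifferential.map k k' K K').liftBaseChange K'))
          - Module.finrank K' (LinearMap.ker ((Algebra.H1Cotangent.map k k' K K').liftBaseChange K'))
          + Module.finrank K' (Algebra.H1Cotangent k' K' ⧸ LinearMap.range ((Algebra.H1Cotangent.map k k' K K').liftBaseChange K'))
        = (Cardinal.toNat (Algebra.trdeg k k') : ℤ) - Cardinal.toNat (Algebra.trdeg K K')) := by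
  classical
  obtain ⟨hΩ1, hH1, hc1⟩ := cartier_h1 K K'
  obtain ⟨hΩ2, hH2, hc2⟩ := cartier_h1 k k'
  haveI := hΩ1
  haveI := hH1
  haveI := hΩ2
  haveI := hH2
  -- the tower k → K → K'
  have e_δ₁a₁ : Function.Exact (Algebra.H1Cotangent.δ k K K') (mapBaseChange k K K') :=
    Algebra.H1Cotangent.exact_δ_mapBaseChange k K K'
  have e_a₁r₁ : Function.Exact (mapBaseChange k K K') (KaehlerDifferential.map k K K' K') :=
    KaehlerDifferential.exact_mapBaseChange_map k K K'
  have s_r₁ : Function.Surjective (KaehlerDifferential.map k K K' K') :=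
    KaehlerDifferential.map_surjective k K K'
  haveI fin_rδ₁ : Module.Finite K' (LinearMap.range (Algebra.H1Cotangent.δ k K K')) :=
    Module.Finite.range _
  have F_a₁ : IsFred (mapBaseChange k K K')
      ((Module.finrank K' (Ω[K'⁄K]) : ℤ) -
        Module.finrank K' (LinearMap.range (Algebra.H1Cotangent.δ k K K'))) :=
    IsFred.of_exact (LinearMap.range (Algebra.H1Cotangent.δ k K K')).subtype (mapBaseChange k K K')
      (KaehlerDifferential.map k K K' K') (Submodule.injective_subtype _)
      (exact_subtype_range e_δ₁a₁) e_a₁r₁ s_r₁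
  have e_b₁m₁ : Function.Exact ((Algebra.H1Cotangent.map k k K K').liftBaseChange K')
      (Algebra.H1Cotangent.map k K K' K') :=
    Algebra.H1Cotangent.exact_liftBaseChange_map_of_flat k K K'
  have i_b₁ : Function.Injective ((Algebra.H1Cotangent.map k k K K').liftBaseChange K') :=
    Groth.Agent.Lib.JZFieldH3.injective_liftBaseChange_of_fields
  haveI fin_rm₁ : Module.Finite K' (LinearMap.range (Algebra.H1Cotangent.map k K K' K')) :=
    inferInstance
  have F_b₁ : IsFred ((Algebra.H1Cotangent.map k k K K').liftBaseChange K')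
      (Module.finrank K' (LinearMap.range (Algebra.H1Cotangent.map k K K' K'))) :=
    IsFred.of_injective i_b₁
      ((Submodule.quotEquivOfEq _ _ (LinearMap.exact_iff.mp e_b₁m₁).symm).trans
        (LinearMap.quotKerEquivRange _))
  have rn₁ := LinearMap.finrank_range_add_finrank_ker (Algebra.H1Cotangent.δ k K K')
  have hk₁ : LinearMap.ker (Algebra.H1Cotangent.δ k K K') =
      LinearMap.range (Algebra.H1Cotangent.map k K K' K') :=
    LinearMap.exact_iff.mp (Algebra.H1Cotangent.exact_map_δ k K K')
  rw [hk₁] at rn₁
  -- the tower k → k' → K'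
  have e_ca₂ : Function.Exact (mapBaseChange k k' K') (KaehlerDifferential.map k k' K' K') :=
    KaehlerDifferential.exact_mapBaseChange_map k k' K'
  have s_a₂ : Function.Surjective (KaehlerDifferential.map k k' K' K') :=
    KaehlerDifferential.map_surjective k k' K'
  have hk_a₂ : LinearMap.ker (KaehlerDifferential.map k k' K' K') =
      LinearMap.range (mapBaseChange k k' K') := LinearMap.exact_iff.mp e_ca₂
  haveI fin_bcΩ : Module.Finite K' (K' ⊗[k'] Ω[k'⁄k]) := inferInstance
  haveI fin_ka₂ : Module.Finite K' (LinearMap.ker (KaehlerDifferential.map k k' K' K')) := by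
    rw [hk_a₂]
    exact Module.Finite.range _
  have F_a₂ : IsFred (KaehlerDifferential.map k k' K' K')
      (-(Module.finrank K' (LinearMap.ker (KaehlerDifferential.map k k' K' K')) : ℤ)) :=
    IsFred.of_surjective s_a₂
  have hka : Module.finrank K' (LinearMap.ker (KaehlerDifferential.map k k' K' K')) =
      Module.finrank K' (LinearMap.range (mapBaseChange k k' K')) := by
    rw [hk_a₂]
  have e_b₀b₂ : Function.Exact ((Algebra.H1Cotangent.map k k k' K').liftBaseChange K')
      (Algebra.H1Cotangent.map k k' K' K') :=
    Algebra.H1Cotangent.exact_liftBaseChange_map_of_flat k k' K'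
  have i_b₀ : Function.Injective ((Algebra.H1Cotangent.map k k k' K').liftBaseChange K') :=
    Groth.Agent.Lib.JZFieldH3.injective_liftBaseChange_of_fields
  have e_b₂δ₂ : Function.Exact (Algebra.H1Cotangent.map k k' K' K')
      (Algebra.H1Cotangent.δ k k' K') := Algebra.H1Cotangent.exact_map_δ k k' K'
  have e_δ₂c : Function.Exact (Algebra.H1Cotangent.δ k k' K') (mapBaseChange k k' K') :=
    Algebra.H1Cotangent.exact_δ_mapBaseChange k k' K'
  haveI fin_bcH : Module.Finite K' (K' ⊗[k'] Algebra.H1Cotangent k k') := inferInstance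
  haveI fin_rδ₂ : Module.Finite K' (LinearMap.range (Algebra.H1Cotangent.δ k k' K')) :=
    inferInstance
  have F_b₂ : IsFred (Algebra.H1Cotangent.map k k' K' K')
      ((Module.finrank K' (LinearMap.range (Algebra.H1Cotangent.δ k k' K')) : ℤ) -
        Module.finrank K' (K' ⊗[k'] Algebra.H1Cotangent k k')) :=
    IsFred.of_exact ((Algebra.H1Cotangent.map k k k' K').liftBaseChange K')
      (Algebra.H1Cotangent.map k k' K' K') (Algebra.H1Cotangent.δ k k' K').rangeRestrict i_b₀
      e_b₀b₂ (exact_rangeRestrict e_b₂δ₂) (LinearMap.surjective_rangeRestrict _)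
  have rn₂ := LinearMap.finrank_range_add_finrank_ker (mapBaseChange k k' K')
  have hk_c : LinearMap.ker (mapBaseChange k k' K') =
      LinearMap.range (Algebra.H1Cotangent.δ k k' K') := LinearMap.exact_iff.mp e_δ₂c
  rw [hk_c, Module.finrank_baseChange] at rn₂
  have fb : Module.finrank K' (K' ⊗[k'] Algebra.H1Cotangent k k') =
      Module.finrank k' (Algebra.H1Cotangent k k') := Module.finrank_baseChange
  -- compose
  have F_α := F_a₁.comp F_a₂
  rw [← alpha_eq] at F_α
  have F_β := F_b₁.comp F_b₂
  rw [← beta_eq] at F_β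
  refine ⟨F_α.finite_ker, F_α.finite_coker, F_β.finite_ker, F_β.finite_coker, ?_⟩
  have h1 := F_α.index_eq
  have h2 := F_β.index_eq
  omega

end Main

end Groth.Agent.Lib.CartierH1H4
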