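import Mathlib
import Groth.Prelude
import Groth.Agent.Lib.ComapIdeal_helper4

/-!
# Limits of effective Cartier ideal sheaves along affine minimal transitions (helper7)

`main18744`.
-/

set_option autoImplicit false
set_option linter.style.haveILetI false
universe u
open CategoryTheory CategoryTheory.Limits AlgebraicGeometry TopologicalSpace Opposite

namespace Groth.Agent.Lib.CartierLimH7

/-- If `(g) = (h)` and `h` is a nonzerodivisor, so is `g`. -/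
theorem nzd_of_span_eq {R : Type*} [CommRing R] {g h : R} (hh : h ∈ nonZeroDivisors R)
    (e : Ideal.span {g} = Ideal.span {h}) : g ∈ nonZeroDivisors R := by
  have h1 : g ∈ Ideal.span {h} := e ▸ Ideal.mem_span_singleton_self g
  have h2 : h ∈ Ideal.span {g} := e.symm ▸ Ideal.mem_span_singleton_self h
  obtain ⟨u, hu⟩ := Ideal.mem_span_singleton'.mp h1
  obtain ⟨v, hv⟩ := Ideal.mem_span_singleton'.mp h2
  have hr := mem_nonZeroDivisors_iff_right.mp hh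
  rw [mem_nonZeroDivisors_iff_right]
  intro x hx
  have hvu : v * u = 1 := by
    have h3 : (v * u - 1) * h = 0 := by rw [sub_mul, mul_assoc, hu, hv, one_mul, sub_self]
    exact sub_eq_zero.mp (hr _ h3)
  have h4 : x * u = 0 := hr _ (by rw [mul_assoc, hu, hx])
  calc x = x * (v * u) := by rw [hvu, mul_one]
    _ = (x * u) * v := by ring
    _ = 0 := by rw [h4, zero_mul]

/-- On any affine open on which an effective Cartier ideal sheaf is principal, the generator is a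
nonzerodivisor. -/
theorem nzd_of_ideal_eq_span {X : Scheme.{u}} (𝓘 : X.IdealSheafData)
    (h𝓘 : BlowUp.IsEffCartierIdeal 𝓘) (W : X.affineOpens) (g : Γ(X, W.1))
    (hg : 𝓘.ideal W = Ideal.span {g}) : g ∈ nonZeroDivisors Γ(X, W.1) := by
  rw [mem_nonZeroDivisors_iff_right]
  intro a ha
  refine X.IsSheaf.section_ext (U := op W.1) ?_
  intro x hxW
  obtain ⟨W', hxW', h, hh, hW'⟩ := h𝓘 x
  obtain ⟨s, s', hss', hxs⟩ := exists_basicOpen_le_affine_inter W.2 W'.2 x ⟨hxW, hxW'⟩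
  have hVW : X.basicOpen s' ≤ W.1 := hss' ▸ X.basicOpen_le s
  refine ⟨X.basicOpen s', hVW, hss' ▸ hxs, ?_⟩
  have hV1 : X.affineBasicOpen s' ≤ W := hVW
  have hV2 : X.affineBasicOpen s' ≤ W' := X.basicOpen_le s'
  have e1 := 𝓘.map_ideal hV1
  have e2 := 𝓘.map_ideal hV2
  rw [hg, Ideal.map_span, Set.image_singleton] at e1
  rw [hW', Ideal.map_span, Set.image_singleton] at e2
  have hnz : (X.presheaf.map (homOfLE hV2).op).hom h ∈
      nonZeroDivisors Γ(X, (X.affineBasicOpen s').1) := by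
    haveI := W'.2.isLocalization_basicOpen s'
    have h0 : algebraMap Γ(X, W'.1) Γ(X, X.basicOpen s') h ∈
        nonZeroDivisors Γ(X, X.basicOpen s') :=
      IsLocalization.map_nonZeroDivisors_le (Submonoid.powers s') _
        (Submonoid.mem_map.mpr ⟨h, hh, rfl⟩)
    exact h0
  have hnz' := nzd_of_span_eq hnz (e1.trans e2.symm)
  have h5 : (X.presheaf.map (homOfLE hV1).op).hom a * (X.presheaf.map (homOfLE hV1).op).hom g
      = 0 := by
    rw [← map_mul, ha, map_zero]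
  have h6 := mem_nonZeroDivisors_iff_right.mp hnz' _ h5
  rw [map_zero]
  exact h6

/-- If the pull-back of `𝓙` along `g` is effective Cartier and `𝓙` is generated by `f` on the
affine open `U`, then the pull-back of `f` to any affine open of `g⁻¹ U` is a nonzerodivisor. -/
theorem nzd_appLE_of_comap {X Y : Scheme.{u}} (g : X ⟶ Y) (𝓙 : Y.IdealSheafData)
    (hC : BlowUp.IsEffCartierIdeal (𝓙.comap g)) (U : Y.affineOpens) (f : Γ(Y, U.1))
    (hf : 𝓙.ideal U = Ideal.span {f}) (W : X.affineOpens) (e : W.1 ≤ g ⁻¹ᵁ U.1) :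
    (g.appLE U.1 W.1 e).hom f ∈ nonZeroDivisors Γ(X, W.1) := by
  apply nzd_of_ideal_eq_span (𝓙.comap g) hC W
  rw [Groth.Agent.Lib.ComapIdeal_helper4.comap_ideal_eq g 𝓙 U W e, hf, Ideal.map_span,
    Set.image_singleton]

theorem appLE_comp_eq {X Y Z : Scheme.{u}} (g : X ⟶ Y) (h : Y ⟶ Z) (m : X ⟶ Z)
    (hm : g ≫ h = m) (U : Z.Opens) (V : Y.Opens) (W : X.Opens) (e1 : V ≤ h ⁻¹ᵁ U)
    (e2 : W ≤ g ⁻¹ᵁ V) (e3 : W ≤ m ⁻¹ᵁ U) :
    h.appLE U V e1 ≫ g.appLE V W e2 = m.appLE U W e3 := by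
  subst hm
  rw [Scheme.Hom.appLE_comp_appLE]

section Limit

variable {I : Type u} [SmallCategory I] [IsCofiltered I]
  (D : I ⥤ Scheme.{u}) (c : Cone D) (hc : IsLimit c)
  [∀ (i j : I) (t : i ⟶ j), IsAffineHom (D.map t)]

set_option backward.defeqAttrib.useBackward true in
set_option backward.isDefEq.respectTransparency false in
include hc in
/-- Sections over the preimage of an affine open come from a finite stage. -/
theorem exists_appLE_π_eq (i : I) (U : (D.obj i).Opens) (hU : IsAffineOpen U)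
    (a : Γ(c.pt, c.π.app i ⁻¹ᵁ U)) :
    ∃ (j : I) (t : j ⟶ i) (b : Γ(D.obj j, D.map t ⁻¹ᵁ U)),
      ((c.π.app j).appLE (D.map t ⁻¹ᵁ U) (c.π.app i ⁻¹ᵁ U)
        (by rw [← Scheme.Hom.comp_preimage, c.w])).hom b = a := by
  have (j : Over i) : IsAffine ((opensDiagram D i U).obj j) := hU.preimage (D.map _)
  have e1 : (c.π.app i ⁻¹ᵁ U).ι ''ᵁ ⊤ ≤ c.π.app i ⁻¹ᵁ U := by simp
  have e1' : c.π.app i ⁻¹ᵁ U ≤ (c.π.app i ⁻¹ᵁ U).ι ''ᵁ ⊤ := by simp
  obtain ⟨j, b, hj⟩ := exists_appTop_π_eq_of_isAffine_of_isLimit _ _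
      (isLimitOpensCone D c hc i U) ((c.pt.presheaf.map (homOfLE e1).op).hom a)
  have e2 : D.map j.hom ⁻¹ᵁ U ≤ (D.map j.hom ⁻¹ᵁ U).ι ''ᵁ ⊤ := by simp
  have eπ : c.π.app i ⁻¹ᵁ U ≤ c.π.app j.left ⁻¹ᵁ (D.map j.hom ⁻¹ᵁ U) := by
    rw [← Scheme.Hom.comp_preimage, c.w]
  refine ⟨j.left, j.hom, ((D.obj j.left).presheaf.map (homOfLE e2).op).hom b, ?_⟩
  have key : (D.obj j.left).presheaf.map (homOfLE e2).op ≫
      (c.π.app j.left).appLE (D.map j.hom ⁻¹ᵁ U) (c.π.app i ⁻¹ᵁ U) eπ =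
      ((opensCone D c i U).π.app j).appTop ≫ c.pt.presheaf.map (homOfLE e1').op := by
    simp [Scheme.Hom.appTop, Scheme.Hom.app_eq_appLE, Scheme.Hom.resLE_appLE,
      Scheme.Hom.map_appLE, Scheme.Hom.appLE_map]
  have hid : c.pt.presheaf.map (homOfLE e1).op ≫ c.pt.presheaf.map (homOfLE e1').op = 𝟙 _ := by
    rw [← Functor.map_comp]
    exact (congrArg _ (Subsingleton.elim _ _)).trans (c.pt.presheaf.map_id _)
  have h1 := congrArg (fun φ => φ.hom b) key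
  calc _ = ((D.obj j.left).presheaf.map (homOfLE e2).op ≫
        (c.π.app j.left).appLE (D.map j.hom ⁻¹ᵁ U) (c.π.app i ⁻¹ᵁ U) eπ).hom b := rfl
    _ = (((opensCone D c i U).π.app j).appTop ≫ c.pt.presheaf.map (homOfLE e1').op).hom b := h1
    _ = (c.pt.presheaf.map (homOfLE e1').op).hom
        ((((opensCone D c i U).π.app j).appTop).hom b) := rfl
    _ = (c.pt.presheaf.map (homOfLE e1').op).hom ((c.pt.presheaf.map (homOfLE e1).op).hom a) :=
        congrArg _ hj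
    _ = (c.pt.presheaf.map (homOfLE e1).op ≫ c.pt.presheaf.map (homOfLE e1').op).hom a := rfl
    _ = a := by rw [hid]; rfl

include hc in
/-- A section over an affine open of a stage which is a nonzerodivisor at every later stage is a
nonzerodivisor on the limit. -/
theorem nzd_app_π (i : I) (U : (D.obj i).Opens) (hU : IsAffineOpen U) (f : Γ(D.obj i, U))
    (hf : ∀ (j : I) (t : j ⟶ i) (W : (D.obj j).Opens) (_ : IsAffineOpen W)
      (e : W ≤ D.map t ⁻¹ᵁ U), ((D.map t).appLE U W e).hom f ∈ nonZeroDivisors Γ(D.obj j, W)) :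
    ((c.π.app i).app U).hom f ∈ nonZeroDivisors Γ(c.pt, c.π.app i ⁻¹ᵁ U) := by
  refine mem_nonZeroDivisors_iff_right.mpr ?_
  intro a ha
  obtain ⟨j, t, b, hb⟩ := exists_appLE_π_eq D c hc i U hU a
  have eπ : c.π.app i ⁻¹ᵁ U ≤ c.π.app j ⁻¹ᵁ (D.map t ⁻¹ᵁ U) := by
    rw [← Scheme.Hom.comp_preimage, c.w]
  have eπ' : c.π.app j ⁻¹ᵁ (D.map t ⁻¹ᵁ U) ≤ c.π.app i ⁻¹ᵁ U := by
    rw [← Scheme.Hom.comp_preimage, c.w]
  obtain ⟨s, hs⟩ : ∃ s : Γ(D.obj j, D.map t ⁻¹ᵁ U), s = b * ((D.map t).app U).hom f := ⟨_, rfl⟩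
  have h2 : (D.map t).app U ≫ (c.π.app j).appLE (D.map t ⁻¹ᵁ U) (c.π.app i ⁻¹ᵁ U) eπ =
      (c.π.app i).app U := by
    rw [Scheme.Hom.app_eq_appLE, Scheme.Hom.app_eq_appLE]
    exact appLE_comp_eq (c.π.app j) (D.map t) (c.π.app i) (c.w t) U _ _ le_rfl eπ le_rfl
  have h3 : ((c.π.app j).appLE (D.map t ⁻¹ᵁ U) (c.π.app i ⁻¹ᵁ U) eπ).hom
      (((D.map t).app U).hom f) = ((c.π.app i).app U).hom f := by
    rw [← h2]; rfl
  have h1 : ((c.π.app j).appLE (D.map t ⁻¹ᵁ U) (c.π.app i ⁻¹ᵁ U) eπ).hom s = 0 := by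
    rw [hs, map_mul, hb, h3, ha]
  have h5 : (c.π.app j).app (D.map t ⁻¹ᵁ U) =
      (c.π.app j).appLE (D.map t ⁻¹ᵁ U) (c.π.app i ⁻¹ᵁ U) eπ ≫
        c.pt.presheaf.map (homOfLE eπ').op := by
    rw [Scheme.Hom.app_eq_appLE]
    exact (Scheme.Hom.appLE_map (c.π.app j) eπ (homOfLE eπ').op).symm
  have h4 : ((c.π.app j).app (D.map t ⁻¹ᵁ U)).hom s = 0 := by
    rw [h5]
    show (c.pt.presheaf.map (homOfLE eπ').op).hom
      (((c.π.app j).appLE (D.map t ⁻¹ᵁ U) (c.π.app i ⁻¹ᵁ U) eπ).hom s) = 0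
    rw [h1, map_zero]
  obtain ⟨k, v, hk⟩ := exists_app_map_eq_zero_of_isLimit D c hc
    (hU.preimage (D.map t)).isCompact s h4
  have eW : D.map v ⁻¹ᵁ (D.map t ⁻¹ᵁ U) ≤ D.map (v ≫ t) ⁻¹ᵁ U := by
    rw [D.map_comp, Scheme.Hom.comp_preimage]
  have hnz := hf k (v ≫ t) (D.map v ⁻¹ᵁ (D.map t ⁻¹ᵁ U))
    ((hU.preimage (D.map t)).preimage (D.map v)) eW
  have h7 : (D.map t).app U ≫ (D.map v).app (D.map t ⁻¹ᵁ U) =
      (D.map (v ≫ t)).appLE U _ eW := by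
    rw [Scheme.Hom.app_eq_appLE, Scheme.Hom.app_eq_appLE]
    exact appLE_comp_eq (D.map v) (D.map t) (D.map (v ≫ t)) (D.map_comp v t).symm U _ _
      le_rfl le_rfl eW
  have h6 : ((D.map v).app (D.map t ⁻¹ᵁ U)).hom (((D.map t).app U).hom f) =
      ((D.map (v ≫ t)).appLE U _ eW).hom f := by
    rw [← h7]; rfl
  have h8 : ((D.map v).app (D.map t ⁻¹ᵁ U)).hom b = 0 := by
    apply mem_nonZeroDivisors_iff_right.mp hnz
    rw [← h6, ← map_mul, ← hs]
    exact hk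
  have eπk : c.π.app i ⁻¹ᵁ U ≤ c.π.app k ⁻¹ᵁ (D.map v ⁻¹ᵁ (D.map t ⁻¹ᵁ U)) := by
    rw [← Scheme.Hom.comp_preimage, c.w, ← Scheme.Hom.comp_preimage, c.w]
  have h9 : (D.map v).app (D.map t ⁻¹ᵁ U) ≫ (c.π.app k).appLE _ (c.π.app i ⁻¹ᵁ U) eπk =
      (c.π.app j).appLE (D.map t ⁻¹ᵁ U) (c.π.app i ⁻¹ᵁ U) eπ := by
    rw [Scheme.Hom.app_eq_appLE]
    exact appLE_comp_eq (c.π.app k) (D.map v) (c.π.app j) (c.w v) _ _ _ le_rfl eπk eπ
  rw [← hb]
  show ((c.π.app j).appLE (D.map t ⁻¹ᵁ U) (c.π.app i ⁻¹ᵁ U) eπ).hom b = 0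
  rw [← h9]
  show ((c.π.app k).appLE _ (c.π.app i ⁻¹ᵁ U) eπk).hom
    (((D.map v).app (D.map t ⁻¹ᵁ U)).hom b) = 0
  rw [h8, map_zero]

include hc in
theorem main18744 (J : ∀ i, (D.obj i).IdealSheafData)
    (hJ : ∀ i, BlowUp.IsEffCartierIdeal (J i))
    (hmin : ∀ (i j : I) (t : i ⟶ j), ModPair.IsMinimal (J i) (J j) (D.map t)) (i : I) :
    BlowUp.IsEffCartierIdeal ((J i).comap (c.π.app i)) := by
  intro x
  obtain ⟨U, hxU, f, hf, hUf⟩ := hJ i (c.π.app i x)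
  haveI := isAffineHom_π_app D c hc i
  refine ⟨⟨c.π.app i ⁻¹ᵁ U.1, U.2.preimage (c.π.app i)⟩, hxU, ((c.π.app i).app U.1).hom f,
    ?_, ?_⟩
  · apply nzd_app_π D c hc i U.1 U.2 f
    intro j t W hW e
    have hC : BlowUp.IsEffCartierIdeal ((J i).comap (D.map t)) := by
      have h0 : J j = (J i).comap (D.map t) := hmin j i t
      rw [← h0]
      exact hJ j
    exact nzd_appLE_of_comap (D.map t) (J i) hC U f hUf ⟨W, hW⟩ e
  · rw [Groth.Agent.Lib.ComapIdeal_helper4.comap_ideal_eq (c.π.app i) (J i) U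
      ⟨c.π.app i ⁻¹ᵁ U.1, U.2.preimage (c.π.app i)⟩ le_rfl, hUf, Ideal.map_span,
      Set.image_singleton, Scheme.Hom.app_eq_appLE]

end Limit

end Groth.Agent.Lib.CartierLimH7
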