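import Mathlib

/-!
# Spreading out a principal regular generator from a localisation at a prime (helper3)
-/

set_option autoImplicit false
universe u

namespace Groth.Agent.Lib.CartierLoc_helper3

variable {A : Type u} [CommRing A]

lemma exists_mem_forall_mul_mem_of_fg (M : Submonoid A) (N : Ideal A) (hN : N.FG) (T : Ideal A)
    (h : ∀ b ∈ N, ∃ w ∈ M, w * b ∈ T) : ∃ r ∈ M, ∀ b ∈ N, r * b ∈ T := by
  obtain ⟨G, rfl⟩ := hN
  classical
  have key : ∀ G' : Finset A, (↑G' : Set A) ⊆ (↑G : Set A) → ∃ r ∈ M, ∀ b ∈ G', r * b ∈ T := by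
    intro G'
    induction G' using Finset.induction_on with
    | empty => intro _; exact ⟨1, M.one_mem, by simp⟩
    | insert b0 G'' hb0 ih =>
      intro hsub
      obtain ⟨r, hr, hrG⟩ := ih (fun x hx => hsub (by simp [Finset.mem_coe.mp hx]))
      obtain ⟨w, hw, hwb⟩ := h b0 (Ideal.subset_span (hsub (by simp)))
      refine ⟨r * w, M.mul_mem hr hw, ?_⟩
      intro b hb
      rcases Finset.mem_insert.mp hb with rfl | hb
      · rw [mul_assoc]; exact T.mul_mem_left _ hwb
      · rw [mul_comm r w, mul_assoc]; exact T.mul_mem_left _ (hrG b hb)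
  obtain ⟨r, hr, hrG⟩ := key G (subset_refl _)
  refine ⟨r, hr, fun b hb => ?_⟩
  refine Submodule.span_induction (p := fun b _ => r * b ∈ T) ?_ ?_ ?_ ?_ hb
  · intro x hx; exact hrG x hx
  · simp
  · intro x y _ _ hx hy; rw [mul_add]; exact T.add_mem hx hy
  · intro c x _ hx
    rw [smul_eq_mul, mul_left_comm]; exact T.mul_mem_left _ hx

theorem exists_away_principal [IsNoetherianRing A] (I : Ideal A) (p : Ideal A) [p.IsPrime]
    (B : Type*) [CommRing B] [Algebra A B] [IsLocalization.AtPrime B p]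
    (g : B) (hg : g ∈ nonZeroDivisors B) (hI : I.map (algebraMap A B) = Ideal.span {g}) :
    ∃ r ∉ p, ∃ a ∈ I, ∀ (C : Type u) [CommRing C] [Algebra A C] [IsLocalization.Away r C],
      I.map (algebraMap A C) = Ideal.span {algebraMap A C a} ∧
        algebraMap A C a ∈ nonZeroDivisors C := by
  -- Step 1: a generator coming from `I`
  have hgI : g ∈ I.map (algebraMap A B) := by rw [hI]; exact Ideal.mem_span_singleton_self g
  obtain ⟨⟨⟨a, haI⟩, ⟨t, ht⟩⟩, hat⟩ :=
    (IsLocalization.mem_map_algebraMap_iff p.primeCompl B).mp hgI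
  simp only at hat
  have htu : IsUnit (algebraMap A B t) := IsLocalization.map_units B ⟨t, ht⟩
  -- `algebraMap a` is a nonzerodivisor of `B`
  have hanzd : algebraMap A B a ∈ nonZeroDivisors B := by
    rw [← hat]
    exact mul_mem hg (IsUnit.mem_nonZeroDivisors htu)
  -- Step 2: every element of `I` is a multiple of `a` after multiplying by some `w ∉ p`
  have h2 : ∀ b ∈ I, ∃ w ∈ p.primeCompl, w * b ∈ Ideal.span {a} := by
    intro b hb
    have hbg : algebraMap A B b ∈ Ideal.span {g} := by
      rw [← hI]; exact Ideal.mem_map_of_mem _ hb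
    obtain ⟨c', hc'⟩ := Ideal.mem_span_singleton'.mp hbg
    obtain ⟨c, s, rfl⟩ := IsLocalization.exists_mk'_eq p.primeCompl c'
    have e1 : algebraMap A B (b * s * t) = algebraMap A B (c * a) := by
      rw [map_mul, map_mul, map_mul, ← hc', ← hat]
      have := IsLocalization.mk'_spec B c s
      calc IsLocalization.mk' B c s * g * algebraMap A B s * algebraMap A B t
          = (IsLocalization.mk' B c s * algebraMap A B s) * (g * algebraMap A B t) := by ring
        _ = algebraMap A B c * (g * algebraMap A B t) := by rw [this]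
    obtain ⟨u, hu⟩ := (IsLocalization.eq_iff_exists p.primeCompl B).mp e1
    refine ⟨u * s * t, p.primeCompl.mul_mem (p.primeCompl.mul_mem u.2 s.2) ht, ?_⟩
    rw [Ideal.mem_span_singleton']
    refine ⟨u * c, ?_⟩
    calc (u : A) * c * a = u * (c * a) := by ring
      _ = u * (b * s * t) := hu.symm
      _ = u * s * t * b := by ring
  obtain ⟨r1, hr1, hr1I⟩ := exists_mem_forall_mul_mem_of_fg p.primeCompl I
    (IsNoetherian.noetherian I) _ h2
  -- Step 3: the annihilator of `a` dies after inverting some `v ∉ p`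
  set J : Ideal A := Ideal.span {a} |>.annihilator with hJ
  have hJmem : ∀ y, y ∈ J ↔ y * a = 0 := by
    intro y
    rw [hJ, Submodule.mem_annihilator_span_singleton, smul_eq_mul]
  have h3 : ∀ y ∈ J, ∃ v ∈ p.primeCompl, v * y ∈ (⊥ : Ideal A) := by
    intro y hy
    have e : algebraMap A B y * algebraMap A B a = 0 := by
      rw [← map_mul, (hJmem y).mp hy, map_zero]
    have e2 : algebraMap A B y = algebraMap A B 0 := by
      rw [map_zero]
      exact (mem_nonZeroDivisors_iff_right.mp hanzd) _ e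
    obtain ⟨v, hv⟩ := (IsLocalization.eq_iff_exists p.primeCompl B).mp e2
    exact ⟨v, v.2, by rw [Ideal.mem_bot, hv, mul_zero]⟩
  obtain ⟨r2, hr2, hr2J⟩ := exists_mem_forall_mul_mem_of_fg p.primeCompl J
    (IsNoetherian.noetherian J) _ h3
  refine ⟨r1 * r2, p.primeCompl.mul_mem hr1 hr2, a, haI, ?_⟩
  intro C _ _ _
  have hru : IsUnit (algebraMap A C (r1 * r2)) :=
    IsLocalization.map_units C (⟨r1 * r2, Submonoid.mem_powers _⟩ : Submonoid.powers (r1 * r2))
  have hr1u : IsUnit (algebraMap A C r1) := by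
    rw [map_mul] at hru; exact isUnit_of_mul_isUnit_left hru
  have hr2u : IsUnit (algebraMap A C r2) := by
    rw [map_mul] at hru; exact isUnit_of_mul_isUnit_right hru
  constructor
  · apply le_antisymm
    · rw [Ideal.map_le_iff_le_comap]
      intro b hb
      rw [Ideal.mem_comap]
      obtain ⟨d, hd⟩ := Ideal.mem_span_singleton'.mp (hr1I b hb)
      have e : algebraMap A C r1 * algebraMap A C b = algebraMap A C d * algebraMap A C a := by
        rw [← map_mul, ← map_mul, hd]
      rw [Ideal.mem_span_singleton']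
      refine ⟨↑hr1u.unit⁻¹ * algebraMap A C d, ?_⟩
      rw [mul_assoc, ← e, ← mul_assoc, IsUnit.val_inv_mul, one_mul]
    · rw [Ideal.span_singleton_le_iff_mem]
      exact Ideal.mem_map_of_mem _ haI
  · rw [mem_nonZeroDivisors_iff_right]
    intro z hz
    obtain ⟨y, ⟨_, n, rfl⟩, rfl⟩ := IsLocalization.exists_mk'_eq (Submonoid.powers (r1 * r2)) z
    rw [IsLocalization.mk'_eq_zero_iff]
    have e : algebraMap A C (y * a) = 0 := by
      have h1 := IsLocalization.mk'_spec C y
        (⟨(r1 * r2) ^ n, n, rfl⟩ : Submonoid.powers (r1 * r2))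
      rw [map_mul, ← h1]
      calc IsLocalization.mk' C y (⟨(r1 * r2) ^ n, n, rfl⟩ : Submonoid.powers (r1 * r2)) *
            algebraMap A C ((r1 * r2) ^ n) * algebraMap A C a
          = (IsLocalization.mk' C y (⟨(r1 * r2) ^ n, n, rfl⟩ : Submonoid.powers (r1 * r2)) *
            algebraMap A C a) * algebraMap A C ((r1 * r2) ^ n) := by ring
        _ = 0 := by rw [hz, zero_mul]
    obtain ⟨⟨_, k, rfl⟩, hk⟩ :=
      (IsLocalization.map_eq_zero_iff (Submonoid.powers (r1 * r2)) C _).mp e
    simp only at hk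
    have hmemJ : (r1 * r2) ^ k * y ∈ J := by
      rw [hJmem]; rw [← hk]; ring
    have h0 := hr2J _ hmemJ
    rw [Ideal.mem_bot] at h0
    refine ⟨⟨(r1 * r2) ^ (k + 1), k + 1, rfl⟩, ?_⟩
    simp only
    calc (r1 * r2) ^ (k + 1) * y = r1 * (r2 * ((r1 * r2) ^ k * y)) := by ring
      _ = 0 := by rw [h0, mul_zero]

end Groth.Agent.Lib.CartierLoc_helper3
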