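import Mathlib

/-!
# Cartier–Manin matrices under translation `x ↦ x + α`
-/

namespace Groth.Agent.Lib.CartierManin

open Polynomial Finset

variable {k : Type*} [Field k]

/-- coefficient of a translated polynomial as a sum over a range. -/
theorem coeff_comp_X_add_C (h : Polynomial k) (α : k) (m B : ℕ) (hB : h.natDegree < B) :
    (h.comp (X + C α)).coeff m =
      ∑ l ∈ range B, h.coeff l * ((l.choose m : ℕ) : k) * α ^ (l - m) := by
  rw [← taylor_apply, taylor_coeff, hasseDeriv_apply, sum_def, eval_finset_sum]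
  have hsub : h.support ⊆ range B := fun l hl =>
    Finset.mem_range.mpr (lt_of_le_of_lt (le_natDegree_of_mem_supp l hl) hB)
  rw [Finset.sum_subset hsub]
  · refine Finset.sum_congr rfl fun l _ => ?_
    rw [eval_monomial]; ring
  · intro l _ hl
    rw [notMem_support_iff] at hl
    rw [eval_monomial, hl, mul_zero, zero_mul]

variable (p : ℕ) [Fact p.Prime] [CharP k p]

theorem choose_cast (a b : ℕ) :
    ((a.choose b : ℕ) : k) =
      (((a % p).choose (b % p) : ℕ) : k) * (((a / p).choose (b / p) : ℕ) : k) := by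
  have := Choose.choose_modEq_choose_mod_mul_choose_div_nat (p := p) (n := a) (k := b)
  rw [CharP.natCast_eq_natCast' k p this, Nat.cast_mul]

omit [Fact p.Prime] in
theorem divmod (hp : 0 < p) (I J : ℕ) (hJ : J < p) :
    ((I + 1) * p - (J + 1)) / p = I ∧ ((I + 1) * p - (J + 1)) % p = p - (J + 1) := by
  have h1 : (I + 1) * p - (J + 1) = (p - (J + 1)) + p * I := by
    have : (I + 1) * p = p * I + p := by ring
    omega
  rw [h1, Nat.add_mul_div_left _ _ hp, Nat.add_mul_mod_self_left,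
    Nat.div_eq_of_lt (by omega), Nat.mod_eq_of_lt (by omega)]
  simp

theorem main (g : ℕ) (hg : g ≤ p) (f : Polynomial k)
    (hf : f.natDegree ≤ 2 * g + 2) (α : k) :
    (Matrix.of fun i j : Fin g =>
        ((f.comp (Polynomial.X + Polynomial.C α)) ^ ((p - 1) / 2)).coeff
          (((i : ℕ) + 1) * p - ((j : ℕ) + 1))) =
      (Matrix.of fun i I : Fin g =>
          (((I : ℕ).choose (i : ℕ) : ℕ) : k) * α ^ (((I : ℕ) - (i : ℕ)) * p)) *
        (Matrix.of fun i j : Fin g =>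
          (f ^ ((p - 1) / 2)).coeff (((i : ℕ) + 1) * p - ((j : ℕ) + 1))) *
        (Matrix.of fun J j : Fin g =>
          (((p - ((J : ℕ) + 1)).choose (p - ((j : ℕ) + 1)) : ℕ) : k) *
            α ^ ((j : ℕ) - (J : ℕ))) := by
  have hp : 0 < p := (Fact.out : p.Prime).pos
  obtain ⟨h, hh⟩ : ∃ h, h = f ^ ((p - 1) / 2) := ⟨_, rfl⟩
  have hdeg : h.natDegree + (g + 1) ≤ (g + 1) * p := by
    have h1 : h.natDegree ≤ (p - 1) / 2 * f.natDegree := by rw [hh]; exact natDegree_pow_le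
    have h2 : (p - 1) / 2 * f.natDegree ≤ (p - 1) / 2 * (2 * g + 2) := Nat.mul_le_mul_left _ hf
    have h3 : (p - 1) / 2 * (2 * g + 2) = ((p - 1) / 2 * 2) * (g + 1) := by ring
    have h4 : (p - 1) / 2 * 2 ≤ p - 1 := Nat.div_mul_le_self _ _
    have h5 : ((p - 1) / 2 * 2) * (g + 1) ≤ (p - 1) * (g + 1) := Nat.mul_le_mul_right _ h4
    have h6 : (p - 1) * (g + 1) + (g + 1) = (g + 1) * p := by
      rw [← Nat.succ_mul, Nat.succ_eq_add_one, Nat.sub_add_cancel hp, mul_comm]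
    omega
  have hdegB : h.natDegree < (g + 1) * p := by omega
  ext i j
  rw [Matrix.of_apply, ← pow_comp, ← hh]
  obtain ⟨m, hm⟩ : ∃ m, m = ((i : ℕ) + 1) * p - ((j : ℕ) + 1) := ⟨_, rfl⟩
  rw [← hm]
  have hi := i.isLt
  have hj := j.isLt
  have hjp : (j : ℕ) < p := lt_of_lt_of_le hj hg
  obtain ⟨hmd, hmm⟩ := divmod p hp (i : ℕ) (j : ℕ) hjp
  rw [← hm] at hmd hmm
  -- the index map
  let lm : Fin g × Fin g → ℕ := fun x => ((x.2 : ℕ) + 1) * p - ((x.1 : ℕ) + 1)
  have hlm : ∀ x : Fin g × Fin g, lm x = ((x.2 : ℕ) + 1) * p - ((x.1 : ℕ) + 1) := fun _ => rfl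
  have hinj : Set.InjOn lm ((univ ×ˢ univ : Finset (Fin g × Fin g)) : Set (Fin g × Fin g)) := by
    intro x _ y _ hxy
    rw [hlm, hlm] at hxy
    obtain ⟨hx1, hx2⟩ := divmod p hp (x.2 : ℕ) (x.1 : ℕ) (lt_of_lt_of_le x.1.isLt hg)
    obtain ⟨hy1, hy2⟩ := divmod p hp (y.2 : ℕ) (y.1 : ℕ) (lt_of_lt_of_le y.1.isLt hg)
    rw [hxy] at hx1 hx2
    have e2 : (x.2 : ℕ) = (y.2 : ℕ) := hx1.symm.trans hy1
    have e1 : (x.1 : ℕ) = (y.1 : ℕ) := by
      have := hx2.symm.trans hy2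
      have := lt_of_lt_of_le x.1.isLt hg
      have := lt_of_lt_of_le y.1.isLt hg
      omega
    exact Prod.ext (Fin.ext e1) (Fin.ext e2)
  have himg : Finset.image lm (univ ×ˢ univ : Finset (Fin g × Fin g)) ⊆ range ((g + 1) * p) := by
    intro l hl
    rw [Finset.mem_image] at hl
    obtain ⟨x, _, rfl⟩ := hl
    rw [Finset.mem_range, hlm]
    have h1 : ((x.2 : ℕ) + 1) * p ≤ (g + 1) * p :=
      Nat.mul_le_mul_right _ (by have := x.2.isLt; omega)
    have h2 : 0 < ((x.2 : ℕ) + 1) * p := Nat.mul_pos (Nat.succ_pos _) hp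
    omega
  have hvan : ∀ l ∈ range ((g + 1) * p),
      l ∉ Finset.image lm (univ ×ˢ univ : Finset (Fin g × Fin g)) →
      h.coeff l * ((l.choose m : ℕ) : k) * α ^ (l - m) = 0 := by
    intro l _ hl
    by_contra hne
    apply hl
    have hc : h.coeff l ≠ 0 := fun h0 => hne (by rw [h0, zero_mul, zero_mul])
    have hch : ((l.choose m : ℕ) : k) ≠ 0 := fun h0 => hne (by rw [h0, mul_zero, zero_mul])
    have hld : l ≤ h.natDegree := le_natDegree_of_ne_zero hc
    rw [choose_cast p, hmd, hmm] at hch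
    have hch1 : (l % p).choose (p - ((j : ℕ) + 1)) ≠ 0 := fun h0 => hch (by rw [h0]; simp)
    have hr : p - ((j : ℕ) + 1) ≤ l % p := by
      by_contra hlt
      exact hch1 (Nat.choose_eq_zero_of_lt (not_le.mp hlt))
    have hrp : l % p < p := Nat.mod_lt _ hp
    have hdm : p * (l / p) + l % p = l := Nat.div_add_mod l p
    have hI : l / p < g := by
      by_contra hge
      have h1 : p * g ≤ p * (l / p) := Nat.mul_le_mul_left _ (not_lt.mp hge)
      have h2 : (g + 1) * p = p * g + p := by ring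
      omega
    have hJ : p - 1 - l % p < g := by omega
    rw [Finset.mem_image]
    refine ⟨(⟨p - 1 - l % p, hJ⟩, ⟨l / p, hI⟩), Finset.mem_product.mpr ⟨mem_univ _, mem_univ _⟩, ?_⟩
    rw [hlm]
    dsimp only
    have h2 : (l / p + 1) * p = p * (l / p) + p := by ring
    omega
  have hs : ∀ x : Fin g × Fin g,
      (((x.2 : ℕ).choose (i : ℕ) : ℕ) : k) * α ^ (((x.2 : ℕ) - (i : ℕ)) * p) * h.coeff (lm x) *
        ((((p - ((x.1 : ℕ) + 1)).choose (p - ((j : ℕ) + 1)) : ℕ) : k) *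
          α ^ ((j : ℕ) - (x.1 : ℕ))) =
      h.coeff (lm x) * (((lm x).choose m : ℕ) : k) * α ^ (lm x - m) := by
    intro x
    obtain ⟨hx1, hx2⟩ := divmod p hp (x.2 : ℕ) (x.1 : ℕ) (lt_of_lt_of_le x.1.isLt hg)
    rw [← hlm] at hx1 hx2
    rw [choose_cast p (lm x) m, hmd, hmm, hx1, hx2]
    by_cases h0 : (x.2 : ℕ).choose (i : ℕ) = 0
    · rw [h0]; simp
    by_cases h1 : (p - ((x.1 : ℕ) + 1)).choose (p - ((j : ℕ) + 1)) = 0
    · rw [h1]; simp
    have hiI : (i : ℕ) ≤ (x.2 : ℕ) := by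
      by_contra hlt
      exact h0 (Nat.choose_eq_zero_of_lt (not_le.mp hlt))
    have hJj : p - ((j : ℕ) + 1) ≤ p - ((x.1 : ℕ) + 1) := by
      by_contra hlt
      exact h1 (Nat.choose_eq_zero_of_lt (not_le.mp hlt))
    have hJj' : (x.1 : ℕ) ≤ (j : ℕ) := by
      have := lt_of_lt_of_le x.1.isLt hg
      omega
    have hexp : lm x - m = ((x.2 : ℕ) - (i : ℕ)) * p + ((j : ℕ) - (x.1 : ℕ)) := by
      rw [hlm, hm, Nat.sub_mul]
      have e1 : ((x.2 : ℕ) + 1) * p = (x.2 : ℕ) * p + p := by ring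
      have e2 : ((i : ℕ) + 1) * p = (i : ℕ) * p + p := by ring
      have e3 : (i : ℕ) * p ≤ (x.2 : ℕ) * p := Nat.mul_le_mul_right _ hiI
      have := lt_of_lt_of_le x.1.isLt hg
      omega
    rw [hexp, pow_add]
    ring
  rw [coeff_comp_X_add_C h α m _ hdegB, ← Finset.sum_subset himg hvan, Finset.sum_image hinj]
  simp only [Matrix.mul_apply, Matrix.of_apply, Finset.sum_mul]
  rw [← Finset.sum_product']
  exact Finset.sum_congr rfl (fun x _ => (hs x).symm)

end Groth.Agent.Lib.CartierManin
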