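import Mathlib
import Groth.Prelude
import Groth.Agent.Lib.ClFull_helper4
import Groth.Agent.Lib.DualLF6_helper4
import Groth.Agent.Lib.ProjFormula2_helper3
import Groth.Agent.Lib.ClAdj1_helper8

/-!
# `i_* Hom_X(W, i^♭ G) ≅ Hom_P(i_* W, G)` for a closed immersion `i` (helper4)
APPEND-ONLY once landed.
-/

set_option autoImplicit false
set_option linter.style.haveILetI false
set_option linter.unusedSectionVars false

universe u

namespace Groth.Agent.Lib.ClHomH4

open CategoryTheory CategoryTheory.Limits AlgebraicGeometry TopologicalSpace Opposite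
open ModSite Groth.Agent.Lib.ModSiteH8 Groth.Agent.Lib.ClFullH4

noncomputable section

variable {X P : Scheme.{u}} (i : X ⟶ P) [IsClosedImmersion i]

instance hasHomO : Dual3.HasHomO i := ClAdjH8.hasHomO i

/-- the projection isomorphism `i_* W ⊗ B ≅ i_* (W ⊗ i^* B)`, natural in `B` -/
def pjIso (W : X.Modules) :
    (tensorBi P.sheaf).obj ((Scheme.Modules.pushforward i).obj W) ≅
      Scheme.Modules.pullback i ⋙ (tensorBi X.sheaf).obj W ⋙ Scheme.Modules.pushforward i :=
  NatIso.ofComponents
    (fun B => @asIso _ _ _ _ (Groth.Agent.Lib.ProjFormulaH3.pj i W B)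
      (Groth.Agent.Lib.ProjFormulaH3.isIso_pj i W B))
    (fun ψ => Groth.Agent.Lib.ProjFormulaH3.pj_natural_right i W ψ)

/-- `B ⊗ i_* W ≅ i_* (i^* B ⊗ W)`, natural in `B` -/
def leftIso (W : X.Modules) :
    (tensorBi P.sheaf).flip.obj ((Scheme.Modules.pushforward i).obj W) ≅
      Scheme.Modules.pullback i ⋙ (tensorBi X.sheaf).flip.obj W ⋙ Scheme.Modules.pushforward i :=
  (sigmaIso P.sheaf ((Scheme.Modules.pushforward i).obj W)).symm ≪≫ pjIso i W ≪≫
    Functor.isoWhiskerLeft (Scheme.Modules.pullback i)
      (Functor.isoWhiskerRight (sigmaIso X.sheaf W) (Scheme.Modules.pushforward i))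

/-- the functor `G ↦ Hom_X(W, i^♭ G)` -/
def TT (W : X.Modules) [HasSheafHom (O := X.sheaf) W] : P.Modules ⥤ X.Modules :=
  Dual3.homO i ⋙ sheafHom (O := X.sheaf) W

instance additive_TT (W : X.Modules) [HasSheafHom (O := X.sheaf) W] : (TT i W).Additive := by
  haveI h1 : (Dual3.homO i).Additive := inferInstance
  haveI h2 : (sheafHom (O := X.sheaf) W).Additive := inferInstance
  constructor
  intro A B f g
  show (sheafHom (O := X.sheaf) W).map ((Dual3.homO i).map (f + g)) = _
  rw [Functor.map_add]
  exact Functor.map_add _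

/-- `i_*(- ⊗ W) ⊣ Hom_X(W, i^♭ -)` -/
def adjTT (W : X.Modules) [HasSheafHom (O := X.sheaf) W] :
    (tensorBi X.sheaf).flip.obj W ⋙ Scheme.Modules.pushforward i ⊣ TT i W :=
  (sheafHomAdj (O := X.sheaf) W).comp (Dual3.homOAdj i)

/-- **Lemma A**: `i_* Hom_X(W, i^♭ G) ≅ Hom_P(i_* W, G)` -/
def homAIso (W : X.Modules) [HasSheafHom (O := X.sheaf) W]
    [HasSheafHom (O := P.sheaf) ((Scheme.Modules.pushforward i).obj W)] :
    TT i W ⋙ Scheme.Modules.pushforward i ≅
      sheafHom (O := P.sheaf) ((Scheme.Modules.pushforward i).obj W) :=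
  Adjunction.rightAdjointUniq
    (((Scheme.Modules.pullbackPushforwardAdjunction i).comp (adjTT i W)).ofNatIsoLeft
      (leftIso i W).symm)
    (sheafHomAdj (O := P.sheaf) ((Scheme.Modules.pushforward i).obj W))

/-- `i_*(- ⊗ E)` preserves monomorphisms for `E` finite locally free -/
theorem preservesMono_left (E : X.Modules) (hE : FlatMod.IsFinLocFree E) :
    ((tensorBi X.sheaf).flip.obj E ⋙ Scheme.Modules.pushforward i).PreservesMonomorphisms := by
  have h1 := Groth.Agent.Lib.DualLFH4.flip_preservesMono_of_isFinLocFree E hE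
  constructor
  intro A B f hf
  have h2 : Mono (((tensorBi X.sheaf).flip.obj E).map f) :=
    @Functor.PreservesMonomorphisms.preserves _ _ _ _ _ h1 _ _ f hf
  exact @Functor.PreservesMonomorphisms.preserves _ _ _ _ _
    (inferInstance : (Scheme.Modules.pushforward i).PreservesMonomorphisms) _ _ _ h2

/-- **Lemma B**: `Hom_X(E, i^♭ Q)` is injective for `Q` injective and `E` finite locally free -/
theorem injective_TT (E : X.Modules) (hE : FlatMod.IsFinLocFree E)
    [HasSheafHom (O := X.sheaf) E] (Q : P.Modules) [Injective Q] :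
    Injective ((TT i E).obj Q) := by
  haveI := preservesMono_left i E hE
  exact Injective.injective_of_adjoint (adjTT i E) Q

instance preservesFiniteLimits_pushforward : PreservesFiniteLimits (Scheme.Modules.pushforward i) := by
  infer_instance

instance preservesFiniteColimits_pushforward :
    PreservesFiniteColimits (Scheme.Modules.pushforward i) := by
  haveI : (Scheme.Modules.pushforward i).IsLeftAdjoint := hasHomO i
  infer_instance

instance preservesHomology_pushforward : (Scheme.Modules.pushforward i).PreservesHomology := by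
  infer_instance

/-- **Lemma C**: `R^q Hom_X(E, i^♭ -)(G)` is the module `M` with `i_* M ≅ ℰxt^q(i_* E, G)` -/
theorem nonempty_rightDerived_TT_iso (E : X.Modules) [HasSheafHom (O := X.sheaf) E]
    [HasSheafHom (O := P.sheaf) ((Scheme.Modules.pushforward i).obj E)]
    [HasInjectiveResolutions (ModSite.Mod P.sheaf)] (G : P.Modules) (q : ℕ) (M : X.Modules)
    (e : (Scheme.Modules.pushforward i).obj M ≅
      (ModSite.extSh (O := P.sheaf) ((Scheme.Modules.pushforward i).obj E) q).obj G) :
    haveI : HasInjectiveResolutions P.Modules := ‹HasInjectiveResolutions (ModSite.Mod P.sheaf)›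
    Nonempty (((TT i E).rightDerived q).obj G ≅ M) := by
  haveI : HasInjectiveResolutions P.Modules := ‹HasInjectiveResolutions (ModSite.Mod P.sheaf)›
  let e1 := Groth.Agent.Lib.DerivedCommH8.rightDerivedPostcompIso (Scheme.Modules.pushforward i)
    (TT i E) q
  haveI hadd : (sheafHom (O := P.sheaf) ((Scheme.Modules.pushforward i).obj E)).Additive :=
    ModSite.sheafHom_additive _ _
  haveI hadd2 : (TT i E ⋙ Scheme.Modules.pushforward i).Additive := by
    constructor
    intro A B f g
    show (Scheme.Modules.pushforward i).map ((TT i E).map (f + g)) = _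
    rw [Functor.map_add]
    exact Functor.map_add _
  let e2 := @Groth.Agent.Lib.DerivedCommH8.rightDerivedNatIso _ _ _ _ _ _ _ _ _ hadd2 hadd
    (homAIso i E) q
  let e3 : (Scheme.Modules.pushforward i).obj (((TT i E).rightDerived q).obj G) ≅
      (Scheme.Modules.pushforward i).obj M := (e1.app G).symm ≪≫ e2.app G ≪≫ e.symm
  exact ⟨(Scheme.Modules.pushforward i).preimageIso e3⟩

end

end Groth.Agent.Lib.ClHomH4
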