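import Mathlib
import Groth.Prelude.Def_LocCohZ
import Groth.Agent.Lib.SectSupp_helper2
import Groth.Agent.Lib.DerivedLES_helper2
import Groth.Agent.Lib.ExtZero_helper9

/-!
# The local cohomology sheaf functors: `ℋ¹_Z ≅ coker (F → j_* j⁻¹ F)` and `ℋ^{i+1}_Z ≅ R^i j_* ∘ j⁻¹`
-/

set_option autoImplicit false
universe u
open CategoryTheory Limits TopologicalSpace Opposite Abelian

namespace Groth.Agent.Lib.HZshFunctor

open Groth.Agent.Lib.Cech Groth.Agent.Lib.FreeSheaf Groth.Agent.Lib.FlasqueAcyclic
  Groth.Agent.Lib.RestrOpen Groth.Agent.Lib.SectSupp Groth.Agent.Lib.DerivedLES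

variable {X : TopCat.{u}} (U : Opens X)

instance : PreservesLimitsOfSize.{u, u} (CohTop.restrFunctor U) :=
  (ExtZero.adj U).rightAdjoint_preservesLimits

instance : PreservesColimitsOfSize.{u, u} (CohTop.restrFunctor U) :=
  (SectSupp.adj U).leftAdjoint_preservesColimits

instance : PreservesFiniteLimits (CohTop.restrFunctor U) := by
  haveI : PreservesLimitsOfSize.{0, 0} (CohTop.restrFunctor U) :=
    preservesLimitsOfSize_shrink.{0, u, 0, u} _
  exact PreservesLimitsOfSize.preservesFiniteLimits _

instance : PreservesFiniteColimits (CohTop.restrFunctor U) := by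
  haveI : PreservesColimitsOfSize.{0, 0} (CohTop.restrFunctor U) :=
    preservesColimitsOfSize_shrink.{0, u, 0, u} _
  exact PreservesColimitsOfSize.preservesFiniteColimits _

lemma additive_push {Y : TopCat.{u}} (f : Y ⟶ X) : (CohTop.push f).Additive := inferInstance

instance : (CohTop.push (CohCx.incl U)).Additive := additive_push _

/-- Mathlib's adjunction, with the prelude's types -/
noncomputable def pbAdj' : CohTop.pull (CohCx.incl U) ⊣ CohTop.push (CohCx.incl U) :=
  TopCat.Sheaf.pullbackPushforwardAdjunction AddCommGrpCat.{u} (CohCx.incl U)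

/-- the inverse image along the inclusion of an open is the restriction -/
noncomputable def pullIso : CohTop.pull (CohCx.incl U) ≅ CohTop.restrFunctor U :=
  (pbAdj' U).leftAdjointUniq (SectSupp.adj U)

instance : PreservesFiniteLimits (CohTop.pull (CohCx.incl U)) :=
  preservesFiniteLimits_of_natIso (pullIso U).symm

instance : PreservesFiniteColimits (CohTop.pull (CohCx.incl U)) := by
  haveI : PreservesColimitsOfSize.{u, u} (CohTop.pull (CohCx.incl U)) :=
    (pbAdj' U).leftAdjoint_preservesColimits
  haveI : PreservesColimitsOfSize.{0, 0} (CohTop.pull (CohCx.incl U)) :=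
    preservesColimitsOfSize_shrink.{0, u, 0, u} _
  exact PreservesColimitsOfSize.preservesFiniteColimits _

instance : (CohTop.pull (CohCx.incl U)).Additive := (pbAdj' U).left_adjoint_additive

instance : PreservesFiniteLimits (CohTop.push (CohCx.incl U)) := by
  haveI : PreservesLimitsOfSize.{u, u} (CohTop.push (CohCx.incl U)) :=
    (pbAdj' U).rightAdjoint_preservesLimits
  haveI : PreservesLimitsOfSize.{0, 0} (CohTop.push (CohCx.incl U)) :=
    preservesLimitsOfSize_shrink.{0, u, 0, u} _
  exact PreservesLimitsOfSize.preservesFiniteLimits _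

instance : PreservesFiniteLimits (CohTop.pull (CohCx.incl U) ⋙ CohTop.push (CohCx.incl U)) :=
  comp_preservesFiniteLimits _ _

lemma injective_pull (I : CohTop.Ab X) (hI : Injective I) :
    Injective ((CohTop.pull (CohCx.incl U)).obj I) := by
  haveI := hI
  haveI := ExtZero.injective_restr U I
  exact Injective.of_iso ((pullIso U).app I).symm inferInstance

lemma injective_restr' (I : CohTop.Ab X) (hI : Injective I) :
    Injective ((CohTop.restrFunctor U).obj I) := by
  haveI := hI
  exact ExtZero.injective_restr U I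

/-- the inclusion of sections with support, as a natural transformation -/
noncomputable def αnat : LocCohZ.sectSuppF U ⟶ 𝟭 (CohTop.Ab X) where
  app F := ι U F
  naturality F G φ := map_ι U φ

lemma αnat_unit : αnat U ≫ (pbAdj' U).unit = 0 := by
  ext F : 2
  exact kernel.condition _

/-- the unit is an epimorphism on flasque sheaves -/
lemma epi_unit_app (I : CohTop.Ab X) [TopCat.Sheaf.IsFlasque I] : Epi ((pbAdj' U).unit.app I) := by
  have h1 : (pbAdj' U).unit.app I ≫ (CohTop.push (CohCx.incl U)).map ((pullIso U).hom.app I) =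
      (SectSupp.adj U).unit.app I :=
    Adjunction.unit_leftAdjointUniq_hom_app _ _ I
  haveI : Epi ((SectSupp.adj U).unit.app I) := by
    apply epi_of_local
    intro V s x hx
    have hepi : Epi (I.obj.map (homOfLE (img_preimg_le U V)).op) :=
      TopCat.Presheaf.IsFlasque.epi (F := I.obj) _
    obtain ⟨t, ht⟩ := (AddCommGrpCat.epi_iff_surjective _).mp hepi s
    refine ⟨V, le_rfl, hx, t, ?_⟩
    rw [res_self]
    exact ht
  have h2 : (pbAdj' U).unit.app I = (SectSupp.adj U).unit.app I ≫
      inv ((CohTop.push (CohCx.incl U)).map ((pullIso U).hom.app I)) :=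
    (IsIso.eq_comp_inv _).2 h1
  rw [h2]
  infer_instance

lemma shortExact_of_injective (I : CohTop.Ab X) (hI : Injective I) :
    (ShortComplex.mk ((αnat U).app I) ((pbAdj' U).unit.app I)
      (app_zero (αnat U) (pbAdj' U).unit (αnat_unit U) I)).ShortExact := by
  haveI := hI
  haveI := isFlasque_of_injective I
  haveI := epi_unit_app U I
  have hex : (ShortComplex.mk ((αnat U).app I) ((pbAdj' U).unit.app I)
      (app_zero (αnat U) (pbAdj' U).unit (αnat_unit U) I)).Exact :=
    ShortComplex.exact_of_f_is_kernel _ (kernelIsKernel _)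
  exact ShortComplex.ShortExact.mk' hex (inferInstanceAs (Mono (kernel.ι _)))
    (inferInstanceAs (Epi ((pbAdj' U).unit.app I)))

theorem HZsh_one_iso :
    Nonempty (LocCohZ.HZsh U 1 ≅
      cokernel (TopCat.Sheaf.pullbackPushforwardAdjunction AddCommGrpCat.{u} (CohCx.incl U)).unit) := by
  obtain ⟨e⟩ := cokernelIso (αnat U) (pbAdj' U).unit (αnat_unit U) (shortExact_of_injective U)
    (fun F => isZero_rightDerived_id 0 F)
  exact ⟨e.symm⟩

theorem HZsh_succ_iso (i : ℕ) (hi : 1 ≤ i) :
    Nonempty (LocCohZ.HZsh U (i + 1) ≅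
      CohTop.pull (CohCx.incl U) ⋙ CohTop.Rpush (CohCx.incl U) i) := by
  obtain ⟨k, rfl⟩ : ∃ k, i = k + 1 := ⟨i - 1, by omega⟩
  obtain ⟨e⟩ := δnatIso (αnat U) (pbAdj' U).unit (αnat_unit U) (shortExact_of_injective U) (k + 1)
    (fun F => isZero_rightDerived_id k F) (fun F => isZero_rightDerived_id (k + 1) F)
  exact ⟨e.symm ≪≫ compIso (CohTop.pull (CohCx.incl U)) (injective_pull U)
    (CohTop.push (CohCx.incl U)) (k + 1)⟩

theorem RpushOn_iso (q : ℕ) :
    Nonempty (CohCx.RpushOn (𝟙 X) U q ≅ CohTop.restrFunctor U ⋙ CohTop.Rpush (CohCx.incl U) q) :=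
  ⟨compIso (CohTop.restrFunctor U) (injective_restr' U) (CohTop.push (CohCx.incl U)) q⟩

end Groth.Agent.Lib.HZshFunctor
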