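import Mathlib
import Groth.Agent.Lib.DerivedLES_helper2

/-!
# More on the long exact sequence of right derived functors: the remaining exactness statements,
additivity of `NatTrans.rightDerived`, and right derived functors of a biproduct of functors
-/

set_option autoImplicit false
universe v v' u u'
open CategoryTheory Limits

namespace Groth.Agent.Lib.DerivedLES

variable {C : Type u} [Category.{v} C] [Abelian C] [HasInjectiveResolutions C]
  {D : Type u'} [Category.{v'} D] [Abelian D]

section FunctorSES

variable {G₁ G₂ G₃ : C ⥤ D} [G₁.Additive] [G₂.Additive] [G₃.Additive]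
  (α : G₁ ⟶ G₂) (β : G₂ ⟶ G₃) (w : α ≫ β = 0)
variable (hI : ∀ I : C, Injective I →
  (ShortComplex.mk (α.app I) (β.app I) (app_zero α β w I)).ShortExact)
variable (n : ℕ) (X : C)

include w hI in
/-- exactness of `RⁿG₁ X ⟶ RⁿG₂ X ⟶ RⁿG₃ X` -/
lemma exact_αβ :
    ∃ w' : (NatTrans.rightDerived α n).app X ≫ (NatTrans.rightDerived β n).app X = 0,
      (ShortComplex.mk _ _ w').Exact := by
  have hS := SX_shortExact α β w hI X (injectiveResolution X)
  exact exact_of_conj _ (hS.homology_exact₂ n)
    ((injectiveResolution X).isoRightDerivedObj G₁ n)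
    ((injectiveResolution X).isoRightDerivedObj G₂ n)
    ((injectiveResolution X).isoRightDerivedObj G₃ n) _ _
    ((injectiveResolution X).rightDerived_app_eq α n)
    ((injectiveResolution X).rightDerived_app_eq β n)

/-- exactness of `RⁿG₃ X ⟶ Rⁿ⁺¹G₁ X ⟶ Rⁿ⁺¹G₂ X` -/
lemma exact_δα :
    ∃ w' : (δnat α β w hI n).app X ≫ (NatTrans.rightDerived α (n + 1)).app X = 0,
      (ShortComplex.mk _ _ w').Exact := by
  have hS := SX_shortExact α β w hI X (injectiveResolution X)
  exact exact_of_conj _ (hS.homology_exact₁ n (n + 1) rfl)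
    ((injectiveResolution X).isoRightDerivedObj G₃ n)
    ((injectiveResolution X).isoRightDerivedObj G₁ (n + 1))
    ((injectiveResolution X).isoRightDerivedObj G₂ (n + 1)) _ _ rfl
    ((injectiveResolution X).rightDerived_app_eq α (n + 1))

omit [HasInjectiveResolutions C] in
lemma mono_homologyMap_zero {K L : CochainComplex D ℕ} (φ : K ⟶ L) [Mono (φ.f 0)] :
    Mono (HomologicalComplex.homologyMap φ 0) := by
  haveI : Mono (HomologicalComplex.cyclesMap φ 0) := by
    have h : HomologicalComplex.cyclesMap φ 0 ≫ L.iCycles 0 = K.iCycles 0 ≫ φ.f 0 := by simp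
    haveI : Mono (HomologicalComplex.cyclesMap φ 0 ≫ L.iCycles 0) := by
      rw [h]; infer_instance
    exact mono_of_mono _ (L.iCycles 0)
  have h := CochainComplex.isoHomologyπ₀_inv_naturality φ
  have h2 : HomologicalComplex.homologyMap φ 0 =
      K.isoHomologyπ₀.inv ≫ HomologicalComplex.cyclesMap φ 0 ≫ L.isoHomologyπ₀.hom := by
    rw [← reassoc_of% h]
    simp
  rw [h2]
  infer_instance

include w hI in
lemma mono_rightDerived_zero : Mono ((NatTrans.rightDerived α 0).app X) := by
  have hS := SX_shortExact α β w hI X (injectiveResolution X)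
  rw [(injectiveResolution X).rightDerived_app_eq α 0]
  haveI : Mono (((NatTrans.mapHomologicalComplex α (ComplexShape.up ℕ)).app
      (injectiveResolution X).cocomplex).f 0) :=
    (hI _ ((injectiveResolution X).injective 0)).mono_f
  haveI : Mono ((HomologicalComplex.homologyFunctor D (ComplexShape.up ℕ) 0).map
      ((NatTrans.mapHomologicalComplex α (ComplexShape.up ℕ)).app
        (injectiveResolution X).cocomplex)) :=
    mono_homologyMap_zero ((NatTrans.mapHomologicalComplex α (ComplexShape.up ℕ)).app
      (injectiveResolution X).cocomplex)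
  infer_instance

end FunctorSES

section Additivity

variable {G H : C ⥤ D} [G.Additive] [H.Additive]

lemma rightDerived_add (a b : G ⟶ H) (n : ℕ) (X : C) :
    (NatTrans.rightDerived (a + b) n).app X =
      (NatTrans.rightDerived a n).app X + (NatTrans.rightDerived b n).app X := by
  rw [(injectiveResolution X).rightDerived_app_eq (a + b) n,
    (injectiveResolution X).rightDerived_app_eq a n,
    (injectiveResolution X).rightDerived_app_eq b n]
  have h : (NatTrans.mapHomologicalComplex (a + b) (ComplexShape.up ℕ)).app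
      (injectiveResolution X).cocomplex =
      (NatTrans.mapHomologicalComplex a (ComplexShape.up ℕ)).app (injectiveResolution X).cocomplex +
      (NatTrans.mapHomologicalComplex b (ComplexShape.up ℕ)).app (injectiveResolution X).cocomplex := by
    ext i
    rfl
  rw [h, Functor.map_add, Preadditive.add_comp, Preadditive.comp_add]

/-- `NatTrans.rightDerived` as an additive map -/
noncomputable def rdHom (n : ℕ) (X : C) :
    (G ⟶ H) →+ ((G.rightDerived n).obj X ⟶ (H.rightDerived n).obj X) :=
  AddMonoidHom.mk' (fun a => (NatTrans.rightDerived a n).app X) (fun a b => rightDerived_add a b n X)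

lemma rightDerived_zero (n : ℕ) (X : C) :
    (NatTrans.rightDerived (0 : G ⟶ H) n).app X = 0 := (rdHom (G := G) (H := H) n X).map_zero

lemma rightDerived_neg (a : G ⟶ H) (n : ℕ) (X : C) :
    (NatTrans.rightDerived (-a) n).app X = -(NatTrans.rightDerived a n).app X :=
  (rdHom (G := G) (H := H) n X).map_neg a

end Additivity

section Biprod

variable (Ga Gb : C ⥤ D)

/-- the pointwise biproduct of two functors -/
noncomputable def biprodFunctor : C ⥤ D where
  obj X := Ga.obj X ⊞ Gb.obj X
  map f := biprod.map (Ga.map f) (Gb.map f)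
  map_id X := by ext <;> simp
  map_comp f g := by ext <;> simp

instance [Ga.Additive] [Gb.Additive] : (biprodFunctor Ga Gb).Additive where
  map_add := by
    intro X Y f g
    show biprod.map (Ga.map (f + g)) (Gb.map (f + g)) =
      biprod.map (Ga.map f) (Gb.map f) + biprod.map (Ga.map g) (Gb.map g)
    rw [Functor.map_add, Functor.map_add]
    ext <;> simp [Preadditive.add_comp, Preadditive.comp_add]

noncomputable def fstN : biprodFunctor Ga Gb ⟶ Ga where
  app X := biprod.fst
  naturality X Y f := by simp [biprodFunctor]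

noncomputable def sndN : biprodFunctor Ga Gb ⟶ Gb where
  app X := biprod.snd
  naturality X Y f := by simp [biprodFunctor]

noncomputable def inlN : Ga ⟶ biprodFunctor Ga Gb where
  app X := biprod.inl
  naturality X Y f := by simp [biprodFunctor]

noncomputable def inrN : Gb ⟶ biprodFunctor Ga Gb where
  app X := biprod.inr
  naturality X Y f := by simp [biprodFunctor]

variable {Ga Gb}

noncomputable def liftN {G : C ⥤ D} (a : G ⟶ Ga) (b : G ⟶ Gb) : G ⟶ biprodFunctor Ga Gb where
  app X := biprod.lift (a.app X) (b.app X)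
  naturality X Y f := by
    dsimp [biprodFunctor]
    ext <;> simp

noncomputable def descN {G : C ⥤ D} (a : Ga ⟶ G) (b : Gb ⟶ G) : biprodFunctor Ga Gb ⟶ G where
  app X := biprod.desc (a.app X) (b.app X)
  naturality X Y f := by
    dsimp [biprodFunctor]
    ext <;> simp

@[simp] lemma liftN_fstN {G : C ⥤ D} (a : G ⟶ Ga) (b : G ⟶ Gb) : liftN a b ≫ fstN Ga Gb = a := by
  ext X; exact biprod.lift_fst _ _

@[simp] lemma liftN_sndN {G : C ⥤ D} (a : G ⟶ Ga) (b : G ⟶ Gb) : liftN a b ≫ sndN Ga Gb = b := by
  ext X; exact biprod.lift_snd _ _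

@[simp] lemma inlN_descN {G : C ⥤ D} (a : Ga ⟶ G) (b : Gb ⟶ G) : inlN Ga Gb ≫ descN a b = a := by
  ext X; exact biprod.inl_desc _ _

@[simp] lemma inrN_descN {G : C ⥤ D} (a : Ga ⟶ G) (b : Gb ⟶ G) : inrN Ga Gb ≫ descN a b = b := by
  ext X; exact biprod.inr_desc _ _

variable (Ga Gb)

lemma inlN_fstN : inlN Ga Gb ≫ fstN Ga Gb = 𝟙 _ := by ext X; exact biprod.inl_fst
lemma inlN_sndN : inlN Ga Gb ≫ sndN Ga Gb = 0 := by ext X; exact biprod.inl_snd
lemma inrN_fstN : inrN Ga Gb ≫ fstN Ga Gb = 0 := by ext X; exact biprod.inr_fst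
lemma inrN_sndN : inrN Ga Gb ≫ sndN Ga Gb = 𝟙 _ := by ext X; exact biprod.inr_snd
lemma totalN : fstN Ga Gb ≫ inlN Ga Gb + sndN Ga Gb ≫ inrN Ga Gb = 𝟙 _ := by
  ext X
  exact biprod.total

variable [Ga.Additive] [Gb.Additive]

/-- right derived functors of a biproduct of functors -/
noncomputable def θ (n : ℕ) (X : C) :
    ((biprodFunctor Ga Gb).rightDerived n).obj X ≅
      (Ga.rightDerived n).obj X ⊞ (Gb.rightDerived n).obj X where
  hom := biprod.lift ((NatTrans.rightDerived (fstN Ga Gb) n).app X)
    ((NatTrans.rightDerived (sndN Ga Gb) n).app X)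
  inv := biprod.desc ((NatTrans.rightDerived (inlN Ga Gb) n).app X)
    ((NatTrans.rightDerived (inrN Ga Gb) n).app X)
  hom_inv_id := by
    rw [biprod.lift_desc, ← NatTrans.comp_app, ← NatTrans.comp_app, ← NatTrans.rightDerived_comp,
      ← NatTrans.rightDerived_comp, ← rightDerived_add, totalN, NatTrans.rightDerived_id]
    rfl
  inv_hom_id := by
    ext
    · simp only [Category.assoc, biprod.lift_fst, biprod.inl_desc_assoc, Category.comp_id,
        biprod.inl_fst]
      rw [← NatTrans.comp_app, ← NatTrans.rightDerived_comp, inlN_fstN, NatTrans.rightDerived_id]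
      rfl
    · simp only [Category.assoc, biprod.lift_snd, biprod.inl_desc_assoc, Category.comp_id,
        biprod.inl_snd]
      rw [← NatTrans.comp_app, ← NatTrans.rightDerived_comp, inlN_sndN, rightDerived_zero]
    · simp only [Category.assoc, biprod.lift_fst, biprod.inr_desc_assoc, Category.comp_id,
        biprod.inr_fst]
      rw [← NatTrans.comp_app, ← NatTrans.rightDerived_comp, inrN_fstN, rightDerived_zero]
    · simp only [Category.assoc, biprod.lift_snd, biprod.inr_desc_assoc, Category.comp_id,
        biprod.inr_snd]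
      rw [← NatTrans.comp_app, ← NatTrans.rightDerived_comp, inrN_sndN, NatTrans.rightDerived_id]
      rfl

variable {Ga Gb}

lemma rightDerived_liftN_θ {G : C ⥤ D} [G.Additive] (a : G ⟶ Ga) (b : G ⟶ Gb) (n : ℕ) (X : C) :
    (NatTrans.rightDerived (liftN a b) n).app X ≫ (θ Ga Gb n X).hom =
      biprod.lift ((NatTrans.rightDerived a n).app X) ((NatTrans.rightDerived b n).app X) := by
  dsimp only [θ]
  ext
  · rw [Category.assoc, biprod.lift_fst, biprod.lift_fst, ← NatTrans.comp_app,
      ← NatTrans.rightDerived_comp, liftN_fstN]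
  · rw [Category.assoc, biprod.lift_snd, biprod.lift_snd, ← NatTrans.comp_app,
      ← NatTrans.rightDerived_comp, liftN_sndN]

lemma θ_inv_rightDerived_descN {G : C ⥤ D} [G.Additive] (a : Ga ⟶ G) (b : Gb ⟶ G) (n : ℕ) (X : C) :
    (θ Ga Gb n X).inv ≫ (NatTrans.rightDerived (descN a b) n).app X =
      biprod.desc ((NatTrans.rightDerived a n).app X) ((NatTrans.rightDerived b n).app X) := by
  dsimp only [θ]
  ext
  · rw [biprod.inl_desc_assoc, biprod.inl_desc, ← NatTrans.comp_app,
      ← NatTrans.rightDerived_comp, inlN_descN]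
  · rw [biprod.inr_desc_assoc, biprod.inr_desc, ← NatTrans.comp_app,
      ← NatTrans.rightDerived_comp, inrN_descN]

end Biprod

end Groth.Agent.Lib.DerivedLES
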