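import Mathlib
import Groth.Prelude
import Groth.Agent.Lib.DerivedLES2_helper2
import Groth.Agent.Lib.RpushQC3_helper9
import Groth.Agent.Lib.RpushQC_lead
import Groth.Agent.Lib.RGammaZ_lead
import Groth.Agent.Lib.ExtDer_helper9

/-!
# Local cohomology sheaves of modules for a locally closed subset: quasi-coherence (helper2)

`V₁` an open of the scheme `Y`, `W` an open of the open subscheme `V₁`, `Z = V₁ ∖ W`.
`G₁ = (j₁)_* ∘ Γ_Z ∘ j₁^*`, `G₂ = (j₁)_* ∘ j₁^*`, `G₃ = (j₁ j_W)_* (j₁ j_W)^*`; the sequence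
`0 → G₁ → G₂ → G₃ → 0` is exact on injectives, and the right derived functors of `G₂`, `G₃` are
higher direct images, hence quasi-coherent on quasi-coherent modules; so are those of `G₁`.
-/

set_option autoImplicit false
universe u
open CategoryTheory CategoryTheory.Limits AlgebraicGeometry Opposite TopologicalSpace
open ZeroObject

namespace Groth.Agent.Lib.LCMod

section Abstract

/-- the unit `J ⟶ P R J` is a split epimorphism for an injective `J` (a copy of the lead's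
`epi_unit_abstract`, keeping the section) -/
theorem splitEpi_unit_abstract {C D : Type*} [Category C] [Category D] {Z : D ⥤ C} {R : C ⥤ D}
    {P : D ⥤ C} (adj : Z ⊣ R) (adj' : R ⊣ P) (J : C) [Injective J]
    (hm : Mono (adj.counit.app (P.obj (R.obj J)))) :
    ∃ s : P.obj (R.obj J) ⟶ J, s ≫ adj'.unit.app J = 𝟙 (P.obj (R.obj J)) := by
  let c : Z.obj (R.obj (P.obj (R.obj J))) ⟶ J :=
    Z.map (adj'.counit.app (R.obj J)) ≫ adj.counit.app J
  let s : P.obj (R.obj J) ⟶ J := Injective.factorThru c (adj.counit.app (P.obj (R.obj J)))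
  have hs : adj.counit.app (P.obj (R.obj J)) ≫ s = c := Injective.comp_factorThru c _
  have e1 : adj.unit.app (R.obj (P.obj (R.obj J))) ≫
      R.map (adj.counit.app (P.obj (R.obj J)) ≫ s) = R.map s := by
    rw [R.map_comp, ← Category.assoc, adj.right_triangle_components]
    exact Category.id_comp _
  have e2 : adj.unit.app (R.obj (P.obj (R.obj J))) ≫ R.map c = adj'.counit.app (R.obj J) := by
    have hn : adj'.counit.app (R.obj J) ≫ adj.unit.app (R.obj J) =
        adj.unit.app (R.obj (P.obj (R.obj J))) ≫ R.map (Z.map (adj'.counit.app (R.obj J))) :=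
      adj.unit.naturality (adj'.counit.app (R.obj J))
    show adj.unit.app (R.obj (P.obj (R.obj J))) ≫
      R.map (Z.map (adj'.counit.app (R.obj J)) ≫ adj.counit.app J) = _
    rw [R.map_comp, ← Category.assoc, ← hn, Category.assoc, adj.right_triangle_components]
    exact Category.comp_id _
  have h1 : R.map s = adj'.counit.app (R.obj J) := by
    rw [← e1, hs, e2]
  refine ⟨s, ?_⟩
  apply (adj'.homEquiv (P.obj (R.obj J)) (R.obj J)).symm.injective
  have l1 : (adj'.homEquiv (P.obj (R.obj J)) (R.obj J)).symm (s ≫ adj'.unit.app J) =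
      R.map (s ≫ adj'.unit.app J) ≫ adj'.counit.app (R.obj J) := by
    rw [Adjunction.homEquiv_counit]
  have l2 : (adj'.homEquiv (P.obj (R.obj J)) (R.obj J)).symm (𝟙 (P.obj (R.obj J))) =
      R.map (𝟙 (P.obj (R.obj J))) ≫ adj'.counit.app (R.obj J) := by
    rw [Adjunction.homEquiv_counit]
  have l3 : R.map (s ≫ adj'.unit.app J) ≫ adj'.counit.app (R.obj J) = R.map s := by
    rw [R.map_comp, Category.assoc, adj'.left_triangle_components]
    exact Category.comp_id _
  have l4 : R.map (𝟙 (P.obj (R.obj J))) ≫ adj'.counit.app (R.obj J) =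
      adj'.counit.app (R.obj J) := by
    rw [R.map_id]
    exact Category.id_comp _
  exact l1.trans (l3.trans (h1.trans (l4.symm.trans l2.symm)))

end Abstract

variable {Y : Scheme.{u}} (V₁ : Y.Opens) (W : (V₁ : Scheme.{u}).Opens)

/-- restriction to `V₁` -/
noncomputable abbrev Res₁ : Y.Modules ⥤ (V₁ : Scheme.{u}).Modules :=
  Scheme.Modules.restrictFunctor V₁.ι

/-- direct image from `V₁` -/
noncomputable abbrev Push₁ : (V₁ : Scheme.{u}).Modules ⥤ Y.Modules :=
  Scheme.Modules.pushforward V₁.ι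

/-- restriction to `W` -/
noncomputable abbrev ResW : (V₁ : Scheme.{u}).Modules ⥤ (W : Scheme.{u}).Modules :=
  Scheme.Modules.restrictFunctor W.ι

/-- direct image from `W` -/
noncomputable abbrev PushW : (W : Scheme.{u}).Modules ⥤ (V₁ : Scheme.{u}).Modules :=
  Scheme.Modules.pushforward W.ι

/-- `F ↦ (j₁)_* Γ_Z (F|_{V₁})` -/
noncomputable def G₁ : Y.Modules ⥤ Y.Modules := Res₁ V₁ ⋙ DCoh.gammaZ W.ι ⋙ Push₁ V₁

/-- `F ↦ (j₁)_* (F|_{V₁})` -/
noncomputable def G₂ : Y.Modules ⥤ Y.Modules := Res₁ V₁ ⋙ Push₁ V₁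

/-- `F ↦ (j₁)_* (j_W)_* (F|_W)` -/
noncomputable def G₃ : Y.Modules ⥤ Y.Modules := (Res₁ V₁ ⋙ ResW V₁ W) ⋙ (PushW V₁ W ⋙ Push₁ V₁)

instance : (G₁ V₁ W).Additive := by unfold G₁; infer_instance
instance : (G₂ V₁).Additive := by unfold G₂; infer_instance
instance : (G₃ V₁ W).Additive := by unfold G₃; infer_instance

/-- `G₁ ⟶ G₂` -/
noncomputable def α : G₁ V₁ W ⟶ G₂ V₁ where
  app F := (Push₁ V₁).map ((CxOX.gammaZι W.ι).app ((Res₁ V₁).obj F))
  naturality F F' φ := by
    show (Push₁ V₁).map ((DCoh.gammaZ W.ι).map ((Res₁ V₁).map φ)) ≫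
      (Push₁ V₁).map ((CxOX.gammaZι W.ι).app ((Res₁ V₁).obj F')) =
      (Push₁ V₁).map ((CxOX.gammaZι W.ι).app ((Res₁ V₁).obj F)) ≫
        (Push₁ V₁).map ((Res₁ V₁).map φ)
    rw [← Functor.map_comp, ← Functor.map_comp]
    congr 1
    exact (CxOX.gammaZι W.ι).naturality ((Res₁ V₁).map φ)

/-- `G₂ ⟶ G₃` -/
noncomputable def β : G₂ V₁ ⟶ G₃ V₁ W where
  app F := (Push₁ V₁).map ((Scheme.Modules.restrictAdjunction W.ι).unit.app ((Res₁ V₁).obj F))
  naturality F F' φ := by
    show (Push₁ V₁).map ((Res₁ V₁).map φ) ≫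
      (Push₁ V₁).map ((Scheme.Modules.restrictAdjunction W.ι).unit.app ((Res₁ V₁).obj F')) =
      (Push₁ V₁).map ((Scheme.Modules.restrictAdjunction W.ι).unit.app ((Res₁ V₁).obj F)) ≫
        (Push₁ V₁).map ((PushW V₁ W).map ((ResW V₁ W).map ((Res₁ V₁).map φ)))
    rw [← Functor.map_comp, ← Functor.map_comp]
    congr 1
    exact (Scheme.Modules.restrictAdjunction W.ι).unit.naturality ((Res₁ V₁).map φ)

lemma α_app (F : Y.Modules) : (α V₁ W).app F =
    (Push₁ V₁).map (kernel.ι ((Scheme.Modules.restrictAdjunction W.ι).unit.app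
      ((Res₁ V₁).obj F))) := rfl

lemma β_app (F : Y.Modules) : (β V₁ W).app F =
    (Push₁ V₁).map ((Scheme.Modules.restrictAdjunction W.ι).unit.app ((Res₁ V₁).obj F)) := rfl

lemma αβ : α V₁ W ≫ β V₁ W = 0 := by
  ext F : 2
  show (Push₁ V₁).map (kernel.ι ((Scheme.Modules.restrictAdjunction W.ι).unit.app
      ((Res₁ V₁).obj F))) ≫
    (Push₁ V₁).map ((Scheme.Modules.restrictAdjunction W.ι).unit.app ((Res₁ V₁).obj F)) = 0
  rw [← Functor.map_comp, kernel.condition, Functor.map_zero]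

/-- the sequence `0 → G₁ I → G₂ I → G₃ I → 0` is exact for injective `I` -/
lemma shortExact_of_injective [HasInjectiveResolutions Y.Modules] (I : Y.Modules)
    (hI : Injective I) :
    (ShortComplex.mk ((α V₁ W).app I) ((β V₁ W).app I)
      (DerivedLES.app_zero (α V₁ W) (β V₁ W) (αβ V₁ W) I)).ShortExact := by
  haveI hJ : Injective ((Res₁ V₁).obj I) := (Res₁ V₁).injective_obj_of_injective hI
  obtain ⟨s, hs⟩ := splitEpi_unit_abstract (CxOX.extZeroAdj W.ι)
    (Scheme.Modules.restrictAdjunction W.ι) ((Res₁ V₁).obj I) (RGammaZL.mono_eps W _)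
  have hex : (ShortComplex.mk
      ((Push₁ V₁).map (kernel.ι ((Scheme.Modules.restrictAdjunction W.ι).unit.app
        ((Res₁ V₁).obj I))))
      ((Push₁ V₁).map ((Scheme.Modules.restrictAdjunction W.ι).unit.app ((Res₁ V₁).obj I)))
      (by rw [← Functor.map_comp, kernel.condition, Functor.map_zero])).Exact := by
    apply ShortComplex.exact_of_f_is_kernel
    exact KernelFork.mapIsLimit _ (kernelIsKernel _) (Push₁ V₁)
  have hm : Mono ((Push₁ V₁).map (kernel.ι ((Scheme.Modules.restrictAdjunction W.ι).unit.app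
      ((Res₁ V₁).obj I)))) := inferInstance
  have he : Epi ((Push₁ V₁).map ((Scheme.Modules.restrictAdjunction W.ι).unit.app
      ((Res₁ V₁).obj I))) := by
    have h : (Push₁ V₁).map s ≫ (Push₁ V₁).map
        ((Scheme.Modules.restrictAdjunction W.ι).unit.app ((Res₁ V₁).obj I)) = 𝟙 _ := by
      rw [← Functor.map_comp, hs, CategoryTheory.Functor.map_id]
    exact epi_of_epi_fac h
  exact ShortComplex.ShortExact.mk' hex hm he

section QC

lemma qc_of_iso {X : Scheme.{u}} {M N : X.Modules} (e : M ≅ N) (h : M.IsQuasicoherent) :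
    N.IsQuasicoherent :=
  (SheafOfModules.isQuasicoherent X.ringCatSheaf).prop_of_iso e h

lemma qc_of_isZero {X : Scheme.{u}} {Z : X.Modules} (hZ : IsZero Z) : Z.IsQuasicoherent := by
  haveI : (kernel (𝟙 (Coh.structureModule X))).IsQuasicoherent :=
    SubExt.isQuasicoherent_kernel (𝟙 (Coh.structureModule X))
  have hk : IsZero (kernel (𝟙 (Coh.structureModule X))) := isZero_kernel_of_mono _
  exact qc_of_iso (hk.iso hZ) ‹(kernel (𝟙 (Coh.structureModule X))).IsQuasicoherent›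

variable [QuasiCompact V₁.ι] [QuasiCompact (W.ι ≫ V₁.ι)]
  [HasInjectiveResolutions Y.Modules] [HasInjectiveResolutions (V₁ : Scheme.{u}).Modules]
  [HasInjectiveResolutions (W : Scheme.{u}).Modules]
  (F : Y.Modules) [F.IsQuasicoherent] (n : ℕ)

omit [QuasiCompact (W.ι ≫ V₁.ι)] [HasInjectiveResolutions (W : Scheme.{u}).Modules] in
theorem qc_R_G₂ : (((G₂ V₁).rightDerived n).obj F).IsQuasicoherent := by
  have e : ((G₂ V₁).rightDerived n).obj F ≅
      ((Push₁ V₁).rightDerived n).obj ((Res₁ V₁).obj F) :=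
    (DerivedLES.compIso (Res₁ V₁)
      (fun I hI => (Res₁ V₁).injective_obj_of_injective hI) (Push₁ V₁) n).app F
  haveI : ((Res₁ V₁).obj F).IsQuasicoherent := inferInstance
  have h := RpushQC.isQuasicoherent_Rpush V₁.ι ((Res₁ V₁).obj F) n
  exact qc_of_iso e.symm h

omit [QuasiCompact V₁.ι] [HasInjectiveResolutions (V₁ : Scheme.{u}).Modules] in
theorem qc_R_G₃ : (((G₃ V₁ W).rightDerived n).obj F).IsQuasicoherent := by
  have e₁ : ((G₃ V₁ W).rightDerived n).obj F ≅
      ((PushW V₁ W ⋙ Push₁ V₁).rightDerived n).obj ((ResW V₁ W).obj ((Res₁ V₁).obj F)) :=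
    (DerivedLES.compIso (Res₁ V₁ ⋙ ResW V₁ W)
      (fun I hI => (ResW V₁ W).injective_obj_of_injective
        ((Res₁ V₁).injective_obj_of_injective hI)) (PushW V₁ W ⋙ Push₁ V₁) n).app F
  have e₂ : ((PushW V₁ W ⋙ Push₁ V₁).rightDerived n).obj ((ResW V₁ W).obj ((Res₁ V₁).obj F)) ≅
      ((Scheme.Modules.pushforward (W.ι ≫ V₁.ι)).rightDerived n).obj
        ((ResW V₁ W).obj ((Res₁ V₁).obj F)) :=
    (ExtDer.rightDerivedIso (Scheme.Modules.pushforwardComp W.ι V₁.ι) n).app _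
  haveI : ((Res₁ V₁).obj F).IsQuasicoherent := inferInstance
  haveI : ((ResW V₁ W).obj ((Res₁ V₁).obj F)).IsQuasicoherent := inferInstance
  have h := RpushQC.isQuasicoherent_Rpush (W.ι ≫ V₁.ι) ((ResW V₁ W).obj ((Res₁ V₁).obj F)) n
  exact qc_of_iso (e₁ ≪≫ e₂).symm h

/-- **The right derived functors of `F ↦ (j₁)_* Γ_Z(F|_{V₁})` preserve quasi-coherence.** -/
theorem qc_R_G₁ : (((G₁ V₁ W).rightDerived n).obj F).IsQuasicoherent := by
  have hI := shortExact_of_injective V₁ W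
  cases n with
  | zero =>
    obtain ⟨w3, e3⟩ := DerivedLES.exact_αβ (α V₁ W) (β V₁ W) (αβ V₁ W) hI 0 F
    haveI hmono := DerivedLES.mono_rightDerived_zero (α V₁ W) (β V₁ W) (αβ V₁ W) hI F
    have hZ : (0 : Y.Modules).IsQuasicoherent := qc_of_isZero (isZero_zero _)
    refine RpushQCL.qc_of_exact5 (0 : (0 : Y.Modules) ⟶ 0)
      (0 : (0 : Y.Modules) ⟶ ((G₁ V₁ W).rightDerived 0).obj F)
      ((NatTrans.rightDerived (α V₁ W) 0).app F) ((NatTrans.rightDerived (β V₁ W) 0).app F)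
      zero_comp zero_comp w3 ?_ ?_ e3 hZ hZ (qc_R_G₂ V₁ F 0) (qc_R_G₃ V₁ W F 0)
    · exact ShortComplex.exact_of_isZero_X₂ _ (isZero_zero _)
    · exact (ShortComplex.exact_iff_mono _ rfl).2 hmono
  | succ n =>
    obtain ⟨w1, e1⟩ := DerivedLES.exact_δnat (α V₁ W) (β V₁ W) (αβ V₁ W) hI n F
    obtain ⟨w2, e2⟩ := DerivedLES.exact_δα (α V₁ W) (β V₁ W) (αβ V₁ W) hI n F
    obtain ⟨w3, e3⟩ := DerivedLES.exact_αβ (α V₁ W) (β V₁ W) (αβ V₁ W) hI (n + 1) F
    exact RpushQCL.qc_of_exact5 _ _ _ _ w1 w2 w3 e1 e2 e3 (qc_R_G₂ V₁ F n)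
      (qc_R_G₃ V₁ W F n) (qc_R_G₂ V₁ F (n + 1)) (qc_R_G₃ V₁ W F (n + 1))

end QC

end Groth.Agent.Lib.LCMod
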