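import Mathlib
import Groth.Agent.Lib.ModFree_helper2

/-!
# Injective sheaves of modules on a topological space are flasque (helper2)
-/

set_option autoImplicit false
universe u
open CategoryTheory Limits Opposite TopologicalSpace

namespace Groth.Agent.Lib.ModFlasque

open Groth.Agent.Lib.ModFree

section Presheaf

variable {C : Type u} [SmallCategory C] {R₀ : Cᵒᵖ ⥤ RingCat.{u}}

lemma freeYonedaEquiv_eq {M : PresheafOfModules.{u} R₀} {X : C}
    (m : (PresheafOfModules.free R₀).obj (yoneda.obj X) ⟶ M) :
    PresheafOfModules.freeYonedaEquiv m = m.app (op X) (ModuleCat.freeMk (𝟙 X)) := rfl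

set_option backward.defeqAttrib.useBackward true in
set_option backward.isDefEq.respectTransparency false in
lemma freeYonedaEquiv_map {M : PresheafOfModules.{u} R₀} {X X' : C} (i : X' ⟶ X)
    (m : (PresheafOfModules.free R₀).obj (yoneda.obj X) ⟶ M) :
    PresheafOfModules.freeYonedaEquiv ((PresheafOfModules.free R₀).map (yoneda.map i) ≫ m) =
      M.map i.op (PresheafOfModules.freeYonedaEquiv m) := by
  rw [freeYonedaEquiv_eq, freeYonedaEquiv_eq]
  have h := PresheafOfModules.naturality_apply m i.op (ModuleCat.freeMk (𝟙 X))
  rw [← h]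
  simp

lemma mono_free_map {P P' : Cᵒᵖ ⥤ Type u} (a : P ⟶ P')
    (ha : ∀ X, Function.Injective (a.app X)) :
    Mono ((PresheafOfModules.free R₀).map a) := by
  apply PresheafOfModules.mono_of_injective
  intro X
  exact Finsupp.mapDomain_injective (ha X)

end Presheaf

section Sheaf

variable {C : Type u} [SmallCategory C] {J : GrothendieckTopology C} (R : Sheaf J RingCat.{u})

/-- the underlying presheaf of modules of an injective sheaf of modules is injective -/
lemma injective_forget (I : SheafOfModules.{u} R) [Injective I] :
    Injective ((iFR R).obj I) :=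
  Injective.injective_of_adjoint (adjR R) I

/-- sections of an injective sheaf of modules extend along monomorphisms `X' ⟶ X`-/
lemma exists_extend (I : SheafOfModules.{u} R) [Injective I] {X X' : C} (i : X' ⟶ X)
    (hi : ∀ Z : Cᵒᵖ, Function.Injective ((yoneda.map i).app Z)) (t : I.val.obj (op X')) :
    ∃ s : I.val.obj (op X), I.val.map i.op s = t := by
  haveI := injective_forget R I
  haveI := mono_free_map (R₀ := R.obj) (yoneda.map i) hi
  let m' : (PresheafOfModules.free R.obj).obj (yoneda.obj X') ⟶ (iFR R).obj I :=
    PresheafOfModules.freeYonedaEquiv.symm t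
  let m : (PresheafOfModules.free R.obj).obj (yoneda.obj X) ⟶ (iFR R).obj I :=
    Injective.factorThru m' ((PresheafOfModules.free R.obj).map (yoneda.map i))
  have hm : (PresheafOfModules.free R.obj).map (yoneda.map i) ≫ m = m' :=
    Injective.comp_factorThru m' _
  refine ⟨PresheafOfModules.freeYonedaEquiv m, ?_⟩
  have h := freeYonedaEquiv_map i m
  rw [hm] at h
  exact h.symm.trans (Equiv.apply_symm_apply _ t)

end Sheaf

/-- **Injective sheaves of modules on a topological space are flasque.** -/
theorem isFlasque_toSheaf_of_injective {X : TopCat.{u}}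
    (R : Sheaf (Opens.grothendieckTopology X) RingCat.{u})
    (I : SheafOfModules.{u} R) [Injective I] :
    TopCat.Sheaf.IsFlasque ((SheafOfModules.toSheaf R).obj I) := by
  refine ⟨fun {U V} i => ?_⟩
  rw [AddCommGrpCat.epi_iff_surjective]
  intro t
  obtain ⟨s, hs⟩ := exists_extend R I i.unop
    (fun Z a b _ => Subsingleton.elim (α := (Z.unop ⟶ unop V)) a b) t
  exact ⟨s, hs⟩

end Groth.Agent.Lib.ModFlasque
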