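import Mathlib
import Groth.Prelude.Def_LocCohZ
import Groth.Agent.Lib.SectSupp_helper9

/-!
# Local cohomology of flasque sheaves vanishes

For a flasque abelian sheaf `F`: `H^i_{V∖W}(V, F) = Ext^i(ℤ_V/ℤ_W, F) = 0` for `i > 0`, and the local
cohomology sheaves `ℋ^i_Z(F)` (right derived functors of `Γ_Z`) vanish for `i > 0`.
-/

universe u

open CategoryTheory CategoryTheory.Limits Opposite TopologicalSpace

namespace LocVan

open AffVanish (Sec rs apS)
open ResCoh (im)
open RpushVanish (fr ofSec gen)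
open Groth.Agent.Lib.FreeSheaf
open SectSupp

variable {X : TopCat.{u}}

/-- Part 1: `Ext^{n+1}(ℤ_V/ℤ_W, F) = 0` for `F` flasque. -/
theorem HZ_eq_zero (F : CohTop.Ab X) [TopCat.Sheaf.IsFlasque F] {W V : Opens X} (h : W ≤ V)
    (n : ℕ) (x₃ : LocCohZ.HZ F (n + 1) h) : x₃ = 0 := by
  have hS := LocCohZ.zqSeq_shortExact (X := X) h
  have hvan : ∀ (O : Opens X) (m : ℕ)
      (ξ : Abelian.Ext (CohCx.freeSheaf (Opens.grothendieckTopology X) O) F (m + 1)), ξ = 0 :=
    fun O m ξ => Groth.Agent.Lib.FlasqueAcyclic.ext_freeSheaf_eq_zero_of_isFlasque F O m ξ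
  obtain ⟨x₁, hx₁⟩ := Abelian.Ext.contravariant_sequence_exact₃ hS F x₃
    (hvan V n _) (by omega : 1 + n = n + 1)
  rw [← hx₁]
  cases n with
  | succ m =>
    have hx0 : x₁ = 0 := hvan W m x₁
    subst hx0
    apply Abelian.Ext.comp_zero
  | zero =>
    -- `x₁` is a section over `W`; extend it to `V`
    obtain ⟨t, ht⟩ := SectSupp.rs_surjective F h
      (CohFree.evalGen (Opens.grothendieckTopology X) W F (Abelian.Ext.addEquiv₀ x₁))
    have e1 : CohFree.evalGen (Opens.grothendieckTopology X) W F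
        (CohCx.freeSheafMap (Opens.grothendieckTopology X) (homOfLE h) ≫
          CohFree.ofSect (Opens.grothendieckTopology X) V F t) =
        CohFree.evalGen (Opens.grothendieckTopology X) W F (Abelian.Ext.addEquiv₀ x₁) :=
      (CohFree.evalGen_freeSheafMap_comp (Opens.grothendieckTopology X) (homOfLE h) F _).trans
        ((congrArg (F.obj.map (homOfLE h).op).hom
          (CohFree.evalGen_ofSect (Opens.grothendieckTopology X) V F t)).trans ht)
    have hfac : CohCx.freeSheafMap (Opens.grothendieckTopology X) (homOfLE h) ≫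
        CohFree.ofSect (Opens.grothendieckTopology X) V F t = Abelian.Ext.addEquiv₀ x₁ :=
      (CohFree.homEquivSect (Opens.grothendieckTopology X) W F).injective e1
    have hx : x₁ = (Abelian.Ext.mk₀ (LocCohZ.zqSeq (X := X) h).f).comp
        (Abelian.Ext.mk₀ (CohFree.ofSect (Opens.grothendieckTopology X) V F t)) (zero_add 0) := by
      rw [Abelian.Ext.mk₀_comp_mk₀]
      have : (LocCohZ.zqSeq (X := X) h).f ≫
          CohFree.ofSect (Opens.grothendieckTopology X) V F t = Abelian.Ext.addEquiv₀ x₁ := hfac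
      rw [this, Abelian.Ext.mk₀_addEquiv₀_apply]
    rw [hx]
    exact hS.extClass_comp_assoc _

theorem HZ_subsingleton (F : CohTop.Ab X) [TopCat.Sheaf.IsFlasque F] {W V : Opens X} (h : W ≤ V)
    (i : ℕ) (hi : 0 < i) : Subsingleton (LocCohZ.HZ F i h) := by
  obtain ⟨n, rfl⟩ := Nat.exists_eq_succ_of_ne_zero (Nat.pos_iff_ne_zero.mp hi)
  exact ⟨fun a b => (HZ_eq_zero F h n a).trans (HZ_eq_zero F h n b).symm⟩

section Part2

variable (U : Opens X) (F : CohTop.Ab X)

theorem map_incl {G G' : CohTop.Ab X} (φ : G ⟶ G') :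
    (LocCohZ.sectSuppF U).map φ ≫ SectSupp.incl U G' = SectSupp.incl U G ≫ φ :=
  kernel.lift_ι _ _ _

theorem lift_sec (R : InjectiveResolution F) (V : Opens X) (τ : Sec (R.cocomplex.X 0) V)
    (hτ : apS (R.cocomplex.d 0 1) V τ = 0) :
    ∃ φ : Sec F V, apS (R.ι.f 0) V φ = τ := by
  have h : ofSec τ ≫ R.cocomplex.d 0 1 = 0 :=
    (RpushVanish.ofSec_comp _ τ).trans ((congrArg ofSec hτ).trans RpushVanish.ofSec_zero)
  have hb : R.isLimitKernelFork.lift (KernelFork.ofι (ofSec τ) h) ≫ R.ι.f 0 = ofSec τ :=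
    Fork.IsLimit.lift_ι _
  refine ⟨apS (R.isLimitKernelFork.lift (KernelFork.ofι (ofSec τ) h)) V (gen V), ?_⟩
  have := congrArg (fun ψ => apS ψ V (gen V)) hb
  exact this.trans (RpushVanish.apS_ofSec_gen τ)

variable [TopCat.Sheaf.IsFlasque F]

theorem primitive (R : InjectiveResolution F) (q : ℕ) (V : Opens X)
    (σ : Sec (R.cocomplex.X (q + 1)) V) (hσ : apS (R.cocomplex.d (q + 1) (q + 2)) V σ = 0)
    (hσU : rs (R.cocomplex.X (q + 1)) (VU_le U V) σ = 0) :
    ∃ τ : Sec (R.cocomplex.X q) V, apS (R.cocomplex.d q (q + 1)) V τ = σ ∧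
      rs (R.cocomplex.X q) (VU_le U V) τ = 0 := by
  have hvan : ∀ (O : Opens X) (m : ℕ) (ξ : Abelian.Ext (fr O) F (m + 1)), ξ = 0 :=
    fun O m ξ => Groth.Agent.Lib.FlasqueAcyclic.ext_freeSheaf_eq_zero_of_isFlasque F O m ξ
  obtain ⟨τ, hτ⟩ := RpushVanish.exists_primitive_of_ext_eq_zero F R V q (hvan V q) σ hσ
  have hdτ' : apS (R.cocomplex.d q (q + 1)) (VU U V) (rs (R.cocomplex.X q) (VU_le U V) τ) = 0 := by
    rw [AffVanish.ap_rs, hτ, hσU]
  cases q with
  | zero =>
    obtain ⟨φ, hφ⟩ := lift_sec F R (VU U V) _ hdτ'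
    obtain ⟨φ', hφ'⟩ := SectSupp.rs_surjective F (VU_le U V) φ
    refine ⟨τ - apS (R.ι.f 0) V φ', ?_, ?_⟩
    · have hz : apS (R.cocomplex.d 0 1) V (apS (R.ι.f 0) V φ') = 0 :=
        congrArg (fun ψ => apS ψ V φ') R.ι_f_zero_comp_complex_d
      rw [map_sub, hτ, hz, sub_zero]
    · have e1 : rs (R.cocomplex.X 0) (VU_le U V) (apS (R.ι.f 0) V φ') =
          apS (R.ι.f 0) (VU U V) (rs F (VU_le U V) φ') :=
        (AffVanish.ap_rs (R.ι.f 0) (VU_le U V) φ').symm
      rw [map_sub, e1, hφ', hφ, sub_self]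
  | succ q' =>
    obtain ⟨ρ, hρ⟩ := RpushVanish.exists_primitive_of_ext_eq_zero F R (VU U V) q'
      (hvan (VU U V) q') _ hdτ'
    haveI : TopCat.Sheaf.IsFlasque (X := X) (R.cocomplex.X q') :=
      @Groth.Agent.Lib.FlasqueAcyclic.isFlasque_of_injective X _ (R.injective q')
    obtain ⟨ρ', hρ'⟩ := SectSupp.rs_surjective (R.cocomplex.X q') (VU_le U V) ρ
    refine ⟨τ - apS (R.cocomplex.d q' (q' + 1)) V ρ', ?_, ?_⟩
    · have hz : apS (R.cocomplex.d (q' + 1) (q' + 1 + 1)) V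
          (apS (R.cocomplex.d q' (q' + 1)) V ρ') = 0 :=
        congrArg (fun ψ => apS ψ V ρ') (R.cocomplex.d_comp_d q' (q' + 1) (q' + 1 + 1))
      rw [map_sub, hτ, hz, sub_zero]
    · have e1 : rs (R.cocomplex.X (q' + 1)) (VU_le U V) (apS (R.cocomplex.d q' (q' + 1)) V ρ') =
          apS (R.cocomplex.d q' (q' + 1)) (VU U V) (rs (R.cocomplex.X q') (VU_le U V) ρ') :=
        (AffVanish.ap_rs (R.cocomplex.d q' (q' + 1)) (VU_le U V) ρ').symm
      rw [map_sub, e1, hρ', hρ, sub_self]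

/-- Part 2: the local cohomology sheaves of a flasque sheaf vanish in positive degrees. -/
theorem isZero_HZsh (q : ℕ) : IsZero ((LocCohZ.HZsh U (q + 1)).obj F) := by
  let R := injectiveResolution F
  refine IsZero.of_iso ?_ (R.isoRightDerivedObj (LocCohZ.sectSuppF U) (q + 1))
  let K := ((LocCohZ.sectSuppF U).mapHomologicalComplex (ComplexShape.up ℕ)).obj R.cocomplex
  change IsZero (K.homology (q + 1))
  rw [← HomologicalComplex.exactAt_iff_isZero_homology]
  rw [HomologicalComplex.exactAt_iff' K q (q + 1) (q + 2) (by simp)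
    (by simp only [CochainComplex.next]; rfl)]
  apply RpushVanish.exact_of_local
  intro V s hs x hx
  refine ⟨V, le_rfl, hx, ?_⟩
  have hs' : apS ((LocCohZ.sectSuppF U).map (R.cocomplex.d (q + 1) (q + 2))) V s = 0 := hs
  have hσ : apS (R.cocomplex.d (q + 1) (q + 2)) V
      (apS (SectSupp.incl U (R.cocomplex.X (q + 1))) V s) = 0 := by
    have := congrArg (fun ψ => apS ψ V s) (map_incl U (R.cocomplex.d (q + 1) (q + 2)))
    refine this.symm.trans ?_
    show apS (SectSupp.incl U (R.cocomplex.X (q + 2))) V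
      (apS ((LocCohZ.sectSuppF U).map (R.cocomplex.d (q + 1) (q + 2))) V s) = 0
    exact (congrArg (apS (SectSupp.incl U (R.cocomplex.X (q + 2))) V) hs').trans (map_zero _)
  obtain ⟨τ, hτ, hτU⟩ := primitive U F R q V _ hσ (SectSupp.rs_incl U _ V s)
  obtain ⟨t, ht⟩ := SectSupp.exists_of_rs_eq_zero U (R.cocomplex.X q) V τ hτU
  refine ⟨t, ?_⟩
  rw [AffVanish.rs_self]
  apply SectSupp.incl_injective U (R.cocomplex.X (q + 1)) V
  have := congrArg (fun ψ => apS ψ V t) (map_incl U (R.cocomplex.d q (q + 1)))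
  refine this.trans ?_
  show apS (R.cocomplex.d q (q + 1)) V (apS (SectSupp.incl U (R.cocomplex.X q)) V t) = _
  rw [ht, hτ]

end Part2

end LocVan
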