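import Mathlib
import Groth.Prelude.Def_SuppFam
import Groth.Agent.Lib.LocVan_helper9
import Groth.Agent.Lib.ExcisionNat_helper9
import Groth.Agent.Lib.RpushSheafify_helper9

/-!
# Local cohomology sheaves for a locally closed subset as sheafified `Ext` presheaves

`ℋ^q_Z(F) ≅ (V' ↦ Ext^q(ℤ_{V∩V'}/ℤ_{W∩V'}, F))^♯` for `Z = V ∖ W`.
-/

universe u

open CategoryTheory CategoryTheory.Limits Opposite TopologicalSpace

namespace HZshLC

open AffVanish (Sec rs apS)
open ResCoh (im)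

variable {X : TopCat.{u}} {W V : Opens X} (h : W ≤ V)

/-- The functor `V' ↦ ℤ_{V∩V'}/ℤ_{W∩V'}`. -/
noncomputable def KK : Opens X ⥤ CohTop.Ab X where
  obj V' := LocCohZ.zq (inf_le_inf_right V' h : W ⊓ V' ≤ V ⊓ V')
  map {V'' V'} m := LocCohZ.zqMap (inf_le_inf_right V' h) (inf_le_inf_right V'' h)
    (inf_le_inf_left W (leOfHom m)) (inf_le_inf_left V (leOfHom m))
  map_id V' := SuppFam.zqMap_id _
  map_comp m m' := (SuppFam.zqMap_comp _ _ _ _ _ _ _).symm

theorem homZq_zqMap (G : CohTop.Ab X) {W V W' V' : Opens X} (h : W ≤ V) (h' : W' ≤ V')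
    (hW : W' ≤ W) (hV : V' ≤ V) (ψ : LocCohZ.zq h ⟶ G) :
    (ExcisionNat.homZq G h' (LocCohZ.zqMap h h' hW hV ≫ ψ)).1 =
      rs G hV (ExcisionNat.homZq G h ψ).1 := by
  rw [ExcisionNat.homZq_val, ExcisionNat.homZq_val]
  have e : cokernel.π (CohCx.freeSheafMap (Opens.grothendieckTopology X) (homOfLE h')) ≫
      LocCohZ.zqMap h h' hW hV =
      CohCx.freeSheafMap (Opens.grothendieckTopology X) (homOfLE hV) ≫
        cokernel.π (CohCx.freeSheafMap (Opens.grothendieckTopology X) (homOfLE h)) :=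
    cokernel.π_desc _ _ _
  rw [← Category.assoc, e, Category.assoc]
  exact CohFree.evalGen_freeSheafMap_comp (Opens.grothendieckTopology X) (homOfLE hV) G _

section Opens

/-- `W ∩ V` as an open of the subspace `V`. -/
abbrev U₁ (W V : Opens X) : Opens (TopCat.of V) := SuppFam.inOpen V W

/-- `V ∩ V'` as the image of its preimage in `V`. -/
abbrev A (V V' : Opens X) : Opens X := (im V).obj (SectSupp.pre V V')

/-- `W ∩ V'`, through the subspace `V`. -/
abbrev B (W V V' : Opens X) : Opens X :=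
  (im V).obj (SectSupp.VU (U₁ W V) (SectSupp.pre V V'))

theorem A_le (V V' : Opens X) : A V V' ≤ V ⊓ V' := by
  rintro _ ⟨y, hy, rfl⟩
  exact ⟨y.2, hy⟩

theorem le_A (V V' : Opens X) : V ⊓ V' ≤ A V V' := fun x hx => ⟨⟨x, hx.1⟩, hx.2, rfl⟩

theorem B_le_A (W V V' : Opens X) : B W V V' ≤ A V V' := by
  rintro _ ⟨y, hy, rfl⟩
  exact ⟨y, SectSupp.VU_le (U₁ W V) (SectSupp.pre V V') hy, rfl⟩

theorem B_le (W V V' : Opens X) : B W V V' ≤ W ⊓ V' := by
  rintro _ ⟨y, ⟨z, hz, rfl⟩, rfl⟩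
  exact ⟨z.2, hz⟩

include h in
theorem le_B (V' : Opens X) : W ⊓ V' ≤ B W V V' := fun x hx =>
  ⟨⟨x, h hx.1⟩, ⟨⟨⟨x, h hx.1⟩, hx.1⟩, hx.2, rfl⟩, rfl⟩

theorem pre_mono {V' V'' : Opens X} (hV : V'' ≤ V') : SectSupp.pre V V'' ≤ SectSupp.pre V V' :=
  fun _ hx => hV hx

theorem A_mono {V' V'' : Opens X} (hV : V'' ≤ V') : A V V'' ≤ A V V' := by
  rintro _ ⟨y, hy, rfl⟩
  exact ⟨y, hV hy, rfl⟩

end Opens

section Sections

variable (G : CohTop.Ab X)

theorem rs_restr {O' O : Opens (TopCat.of V)} (hO : O' ≤ O) (hi : (im V).obj O' ≤ (im V).obj O)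
    (t : Sec (CohTop.restr G V) O) : rs (CohTop.restr G V) hO t = rs G hi t := rfl

theorem exists_toLC (V' : Opens X) (ψ : (KK h).obj V' ⟶ G) :
    ∃ t : Sec (CohCx.sectSupp (U₁ W V) (CohTop.restr G V)) (SectSupp.pre V V'),
      apS (SectSupp.incl (U₁ W V) (CohTop.restr G V)) (SectSupp.pre V V') t =
        rs G (A_le V V') (ExcisionNat.homZq G (inf_le_inf_right V' h) ψ).1 := by
  apply SectSupp.exists_of_rs_eq_zero
  show rs G (B_le_A W V V') (rs G (A_le V V')
    (ExcisionNat.homZq G (inf_le_inf_right V' h) ψ).1) = 0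
  rw [AffVanish.rs_rs]
  have h1 := AffVanish.rs_rs G (B_le W V V') (inf_le_inf_right V' h)
    (ExcisionNat.homZq G (inf_le_inf_right V' h) ψ).1
  have h2 : rs G (inf_le_inf_right V' h)
      (ExcisionNat.homZq G (inf_le_inf_right V' h) ψ).1 = 0 :=
    (ExcisionNat.homZq G (inf_le_inf_right V' h) ψ).2
  rw [h2, map_zero] at h1
  exact h1.symm

/-- The section of `Γ_Z(G|_V)` attached to a morphism `ℤ_{V∩V'}/ℤ_{W∩V'} ⟶ G`. -/
noncomputable def toLC (V' : Opens X) (ψ : (KK h).obj V' ⟶ G) :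
    Sec (CohCx.sectSupp (U₁ W V) (CohTop.restr G V)) (SectSupp.pre V V') :=
  (exists_toLC h G V' ψ).choose

theorem incl_toLC (V' : Opens X) (ψ : (KK h).obj V' ⟶ G) :
    apS (SectSupp.incl (U₁ W V) (CohTop.restr G V)) (SectSupp.pre V V') (toLC h G V' ψ) =
      rs G (A_le V V') (ExcisionNat.homZq G (inf_le_inf_right V' h) ψ).1 :=
  (exists_toLC h G V' ψ).choose_spec

theorem toLC_add (V' : Opens X) (ψ ψ' : (KK h).obj V' ⟶ G) :
    toLC h G V' (ψ + ψ') = toLC h G V' ψ + toLC h G V' ψ' := by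
  apply SectSupp.incl_injective (U₁ W V) (CohTop.restr G V)
  refine (incl_toLC h G V' (ψ + ψ')).trans ?_
  refine Eq.trans ?_ (map_add (apS (SectSupp.incl (U₁ W V) (CohTop.restr G V))
    (SectSupp.pre V V')) _ _).symm
  refine Eq.trans ?_ (congrArg₂ (· + ·) (incl_toLC h G V' ψ).symm (incl_toLC h G V' ψ').symm)
  have e : (ExcisionNat.homZq G (inf_le_inf_right V' h) (ψ + ψ')).1 =
      (ExcisionNat.homZq G (inf_le_inf_right V' h) ψ).1 +
        (ExcisionNat.homZq G (inf_le_inf_right V' h) ψ').1 :=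
    congrArg Subtype.val (map_add (ExcisionNat.homZq G (inf_le_inf_right V' h)) ψ ψ')
  exact (congrArg (rs G (A_le V V')) e).trans (map_add (rs G (A_le V V')) _ _)

theorem toLC_injective (V' : Opens X) : Function.Injective (toLC h G V') := by
  intro ψ ψ' e
  apply (ExcisionNat.homZq G (inf_le_inf_right V' h)).injective
  apply Subtype.ext
  have e1 : rs G (A_le V V') (ExcisionNat.homZq G (inf_le_inf_right V' h) ψ).1 =
      rs G (A_le V V') (ExcisionNat.homZq G (inf_le_inf_right V' h) ψ').1 := by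
    rw [← incl_toLC, ← incl_toLC, e]
  have e2 := congrArg (rs G (le_A V V')) e1
  rw [AffVanish.rs_rs, AffVanish.rs_rs, AffVanish.rs_self, AffVanish.rs_self] at e2
  exact e2

theorem toLC_surjective (V' : Opens X) : Function.Surjective (toLC h G V') := by
  intro t
  have hz : rs G (inf_le_inf_right V' h) (rs G (le_A V V')
      (apS (SectSupp.incl (U₁ W V) (CohTop.restr G V)) (SectSupp.pre V V') t)) = 0 := by
    have h0 : rs G (B_le_A W V V')
        (apS (SectSupp.incl (U₁ W V) (CohTop.restr G V)) (SectSupp.pre V V') t) = 0 :=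
      SectSupp.rs_incl (U₁ W V) (CohTop.restr G V) (SectSupp.pre V V') t
    have h1 := AffVanish.rs_rs G (le_B h V') (B_le_A W V V')
      (apS (SectSupp.incl (U₁ W V) (CohTop.restr G V)) (SectSupp.pre V V') t)
    rw [h0, map_zero] at h1
    rw [AffVanish.rs_rs]
    exact h1.symm
  refine ⟨(ExcisionNat.homZq G (inf_le_inf_right V' h)).symm ⟨_, hz⟩, ?_⟩
  apply SectSupp.incl_injective (U₁ W V) (CohTop.restr G V)
  rw [incl_toLC, AddEquiv.apply_symm_apply]
  show rs G (A_le V V') (rs G (le_A V V') _) = _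
  rw [AffVanish.rs_rs, AffVanish.rs_self]

theorem toLC_map {V' V'' : Opens X} (hV : V'' ≤ V') (ψ : (KK h).obj V' ⟶ G) :
    toLC h G V'' ((KK h).map (homOfLE hV) ≫ ψ) =
      rs (CohCx.sectSupp (U₁ W V) (CohTop.restr G V)) (pre_mono hV) (toLC h G V' ψ) := by
  apply SectSupp.incl_injective (U₁ W V) (CohTop.restr G V)
  have e := AffVanish.ap_rs (SectSupp.incl (U₁ W V) (CohTop.restr G V)) (pre_mono (V := V) hV)
    (toLC h G V' ψ)
  have e2 : (ExcisionNat.homZq G (inf_le_inf_right V'' h) ((KK h).map (homOfLE hV) ≫ ψ)).1 =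
      rs G (inf_le_inf_left V hV) (ExcisionNat.homZq G (inf_le_inf_right V' h) ψ).1 :=
    homZq_zqMap G (inf_le_inf_right V' h) (inf_le_inf_right V'' h)
      (inf_le_inf_left W hV) (inf_le_inf_left V hV) ψ
  refine (incl_toLC h G V'' _).trans ?_
  refine Eq.trans ?_ e.symm
  refine Eq.trans ?_ (congrArg (rs (CohTop.restr G V) (pre_mono (V := V) hV))
    (incl_toLC h G V' ψ).symm)
  refine (congrArg (rs G (A_le V V'')) e2).trans ?_
  exact (AffVanish.rs_rs G _ _ _).trans
    (AffVanish.rs_rs G (A_mono hV) (A_le V V') _).symm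

theorem toLC_comp {G G' : CohTop.Ab X} (φ : G ⟶ G') (V' : Opens X) (ψ : (KK h).obj V' ⟶ G) :
    toLC h G' V' (ψ ≫ φ) =
      apS ((LocCohZ.sectSuppF (U₁ W V)).map ((CohTop.restrFunctor V).map φ)) (SectSupp.pre V V')
        (toLC h G V' ψ) := by
  apply SectSupp.incl_injective (U₁ W V) (CohTop.restr G' V)
  refine (incl_toLC h G' V' (ψ ≫ φ)).trans ?_
  have h1 : apS (SectSupp.incl (U₁ W V) (CohTop.restr G' V)) (SectSupp.pre V V')
      (apS ((LocCohZ.sectSuppF (U₁ W V)).map ((CohTop.restrFunctor V).map φ)) (SectSupp.pre V V')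
        (toLC h G V' ψ)) =
      apS ((CohTop.restrFunctor V).map φ) (SectSupp.pre V V')
        (apS (SectSupp.incl (U₁ W V) (CohTop.restr G V)) (SectSupp.pre V V') (toLC h G V' ψ)) :=
    congrArg (fun κ => apS κ (SectSupp.pre V V') (toLC h G V' ψ))
      (LocVan.map_incl (U₁ W V) ((CohTop.restrFunctor V).map φ))
  refine Eq.trans ?_ h1.symm
  refine Eq.trans ?_ (congrArg (apS ((CohTop.restrFunctor V).map φ) (SectSupp.pre V V'))
    (incl_toLC h G V' ψ).symm)
  refine (congrArg (rs G' (A_le V V'))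
    (ExcisionNat.homZq_comp φ (inf_le_inf_right V' h) ψ)).trans ?_
  exact (AffVanish.ap_rs φ (A_le V V') _).symm

end Sections

/-- The component of the comparison. -/
noncomputable def compIso (G : CohTop.Ab X) (V' : (Opens X)ᵒᵖ) :
    ((PreshExt.Phi (KK h)).obj G).obj V' ≅
      ((SuppFam.sectSuppLC h ⋙ RpushSheafify.iota X).obj G).obj V' :=
  (AddEquiv.ofBijective
    (AddMonoidHom.mk' (toLC h G V'.unop) (toLC_add h G V'.unop))
    ⟨toLC_injective h G V'.unop, toLC_surjective h G V'.unop⟩).toAddCommGrpIso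

/-- `(V' ↦ Hom(ℤ_{V∩V'}/ℤ_{W∩V'}, G)) ≅ Γ_Z(G)` as presheaves, naturally in `G`. -/
noncomputable def theta : PreshExt.Phi (KK h) ≅ SuppFam.sectSuppLC h ⋙ RpushSheafify.iota X :=
  NatIso.ofComponents (fun G => NatIso.ofComponents (compIso h G) (fun {V' V''} m => by
    ext ψ
    exact toLC_map h G (leOfHom m.unop) ψ))
    (fun {G G'} φ => by
      ext V' ψ
      exact toLC_comp h φ V'.unop ψ)

/-- The two forms of the presheaf of `Ext` groups with supports. -/
noncomputable def Eiso (F : CohTop.Ab X) (q : ℕ) :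
    PreshExt.E (KK h) F q ≅ SuppFam.HZpre F q h :=
  NatIso.ofComponents (fun _ => Iso.refl _) (fun {V' V''} m => by
    ext x
    rfl)

theorem main (F : CohTop.Ab X) (q : ℕ) :
    Nonempty ((SuppFam.HZshLC h q).obj F ≅
      (presheafToSheaf (Opens.grothendieckTopology X) AddCommGrpCat.{u}).obj
        (SuppFam.HZpre F q h)) := by
  have e1 := (injectiveResolution F).isoRightDerivedObj (SuppFam.sectSuppLC h) q
  have e2 := RpushSheafify.sheafHomologyIso
    (((SuppFam.sectSuppLC h).mapHomologicalComplex (ComplexShape.up ℕ)).obj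
      (injectiveResolution F).cocomplex) q
  have e3 : (RpushSheafify.preCx (((SuppFam.sectSuppLC h).mapHomologicalComplex
      (ComplexShape.up ℕ)).obj (injectiveResolution F).cocomplex)).homology q ≅
      PreshExt.E (KK h) F q :=
    PreshExt.homologyIso' (KK h) (injectiveResolution F) q
      (SuppFam.sectSuppLC h ⋙ RpushSheafify.iota X) (theta h).symm
  exact ⟨e1 ≪≫ e2 ≪≫ (RpushSheafify.shf X).mapIso (e3 ≪≫ Eiso h F q)⟩

end HZshLC
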