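import Mathlib
import Groth.Prelude.Def_LocCohZ
import Groth.Agent.Lib.SectSupp_helper2

/-!
# Local cohomology sheaves via injective resolutions
-/

set_option autoImplicit false
universe u
open CategoryTheory Limits TopologicalSpace Opposite Abelian

namespace Groth.Agent.Lib.HZsh

open Groth.Agent.Lib.Cech Groth.Agent.Lib.FreeSheaf Groth.Agent.Lib.FlasqueAcyclic
  Groth.Agent.Lib.RestrOpen Groth.Agent.Lib.SectSupp

variable {X : TopCat.{u}}

section General

/-- sections of a kernel -/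
lemma exists_kernel_section {A B : CohTop.Ab X} (φ : A ⟶ B) (V : Opens X) (c : A.obj.obj (op V))
    (hc : (φ.hom.app (op V)).hom c = 0) :
    ∃ z : (kernel φ).obj.obj (op V), ((kernel.ι φ).hom.app (op V)).hom z = c := by
  have hex : (ShortComplex.mk (kernel.ι φ) φ (kernel.condition _)).Exact :=
    ShortComplex.exact_of_f_is_kernel _ (kernelIsKernel _)
  exact TopCat.Sheaf.sections_exact_of_left_exact hex (inferInstanceAs (Mono (kernel.ι φ))) c hc

lemma section_eq_zero_of_isZero {G : CohTop.Ab X} (hG : IsZero G) (V : Opens X)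
    (s : G.obj.obj (op V)) : s = 0 := by
  have h1 : (secAddEquiv V G).symm s = 0 := hG.eq_of_tgt _ _
  have := congrArg (secAddEquiv V G) h1
  rwa [AddEquiv.apply_symm_apply, map_zero] at this

lemma isFlasque_of_isZero {G : CohTop.Ab X} (hG : IsZero G) : TopCat.Sheaf.IsFlasque G := by
  refine ⟨fun {A B} i => ?_⟩
  rw [AddCommGrpCat.epi_iff_surjective]
  intro t
  refine ⟨0, ?_⟩
  rw [map_zero]
  exact (section_eq_zero_of_isZero hG B.unop t).symm

end General

section SecZ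

variable {W V : Opens X} (h : W ≤ V) (G : CohTop.Ab X)

lemma freeSheafMap_comp_symm (s : G.obj.obj (op V)) :
    CohCx.freeSheafMap (Opens.grothendieckTopology X) (homOfLE h) ≫ (secAddEquiv V G).symm s =
      (secAddEquiv W G).symm (res G.obj h s) := by
  apply (secAddEquiv W G).injective
  rw [AddEquiv.apply_symm_apply]
  refine (freeSheafHomEquiv_map (Opens.grothendieckTopology X) (homOfLE h) G _).trans ?_
  exact congrArg _ ((secAddEquiv V G).apply_symm_apply s)

lemma secAddEquiv_freeSheafMap_comp (f : fr V ⟶ G) :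
    secAddEquiv W G (CohCx.freeSheafMap (Opens.grothendieckTopology X) (homOfLE h) ≫ f) =
      res G.obj h (secAddEquiv V G f) :=
  freeSheafHomEquiv_map (Opens.grothendieckTopology X) (homOfLE h) G f

/-- a section over `V` vanishing on `W` as a map from `ℤ_V/ℤ_W` -/
noncomputable def ofSecZ (σ : G.obj.obj (op V)) (hσ : res G.obj h σ = 0) : LocCohZ.zq h ⟶ G :=
  cokernel.desc _ ((secAddEquiv V G).symm σ) (by
    rw [freeSheafMap_comp_symm, hσ, map_zero])

lemma π_ofSecZ (σ : G.obj.obj (op V)) (hσ : res G.obj h σ = 0) :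
    cokernel.π (CohCx.freeSheafMap (Opens.grothendieckTopology X) (homOfLE h)) ≫ ofSecZ h G σ hσ =
      (secAddEquiv V G).symm σ :=
  cokernel.π_desc _ _ _

/-- the section attached to a map from `ℤ_V/ℤ_W` -/
noncomputable def secZ (a : LocCohZ.zq h ⟶ G) : G.obj.obj (op V) :=
  secAddEquiv V G (cokernel.π (CohCx.freeSheafMap (Opens.grothendieckTopology X) (homOfLE h)) ≫ a)

lemma res_secZ (a : LocCohZ.zq h ⟶ G) : res G.obj h (secZ h G a) = 0 := by
  unfold secZ
  rw [← secAddEquiv_freeSheafMap_comp, cokernel.condition_assoc, zero_comp, map_zero]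

lemma secZ_ofSecZ (σ : G.obj.obj (op V)) (hσ : res G.obj h σ = 0) :
    secZ h G (ofSecZ h G σ hσ) = σ := by
  unfold secZ
  rw [π_ofSecZ, AddEquiv.apply_symm_apply]

lemma secZ_injective : Function.Injective (secZ h G) := by
  intro a b hab
  have := (secAddEquiv V G).injective hab
  exact (cancel_epi _).1 this

lemma secZ_zero : secZ h G 0 = 0 := by
  unfold secZ
  rw [comp_zero, map_zero]

variable {G}

lemma secZ_comp {G' : CohTop.Ab X} (a : LocCohZ.zq h ⟶ G) (φ : G ⟶ G') :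
    secZ h G' (a ≫ φ) = (φ.hom.app (op V)).hom (secZ h G a) := by
  unfold secZ
  rw [← Category.assoc, secAddEquiv_comp]

lemma secZ_zqMap {W' V' : Opens X} (h' : W' ≤ V') (hW : W' ≤ W) (hV : V' ≤ V)
    (a : LocCohZ.zq h ⟶ G) :
    secZ h' G (LocCohZ.zqMap h h' hW hV ≫ a) = res G.obj hV (secZ h G a) := by
  unfold secZ
  have e : cokernel.π (CohCx.freeSheafMap (Opens.grothendieckTopology X) (homOfLE h')) ≫
      LocCohZ.zqMap h h' hW hV =
      CohCx.freeSheafMap (Opens.grothendieckTopology X) (homOfLE hV) ≫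
        cokernel.π (CohCx.freeSheafMap (Opens.grothendieckTopology X) (homOfLE h)) :=
    cokernel.π_desc _ _ _
  rw [← Category.assoc, e, Category.assoc, secAddEquiv_freeSheafMap_comp]

end SecZ

section FlasqueComplex

variable (K : CochainComplex (CohTop.Ab X) ℕ)

/-- cocycles -/
noncomputable abbrev ZZ (i : ℕ) : CohTop.Ab X := kernel (K.d i (i + 1))

/-- the differential, viewed as a map to the cocycles -/
noncomputable abbrev toZ (i : ℕ) : K.X i ⟶ ZZ K (i + 1) :=
  kernel.lift _ (K.d i (i + 1)) (K.d_comp_d _ _ _)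

lemma toZ_ι (i : ℕ) : toZ K i ≫ kernel.ι (K.d (i + 1) (i + 2)) = K.d i (i + 1) :=
  kernel.lift_ι _ _ _

/-- the sequence `0 → Z^i → K^i → Z^{i+1} → 0` -/
noncomputable def SZ (i : ℕ) : ShortComplex (CohTop.Ab X) :=
  ShortComplex.mk (kernel.ι (K.d i (i + 1))) (toZ K i) (by
    rw [← cancel_mono (kernel.ι (K.d (i + 1) (i + 2))), Category.assoc, toZ_ι, kernel.condition,
      zero_comp])

lemma SZ_shortExact (i : ℕ) (hex : K.ExactAt (i + 1)) : (SZ K i).ShortExact := by
  have h1 : (K.sc' i (i + 1) (i + 2)).Exact :=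
    (HomologicalComplex.exactAt_iff' K i (i + 1) (i + 2) (by simp)
      (by simp only [CochainComplex.next]; rfl)).1 hex
  have hepi : Epi (toZ K i) := (K.sc' i (i + 1) (i + 2)).exact_iff_epi_kernel_lift.1 h1
  have hexact : (SZ K i).Exact :=
    ShortComplex.exact_of_f_is_kernel _
      (isKernelOfComp (kernel.ι (K.d (i + 1) (i + 2))) (K.d i (i + 1))
        (kernelIsKernel (K.d i (i + 1))) (SZ K i).zero (toZ_ι K i))
  haveI : Mono (SZ K i).f := inferInstanceAs (Mono (kernel.ι (K.d i (i + 1))))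
  haveI : Epi (SZ K i).g := hepi
  exact ShortComplex.ShortExact.mk' hexact inferInstance inferInstance

lemma mono_d_zero (hex : K.ExactAt 0) : Mono (K.d 0 1) := by
  have h1 : (K.sc' 0 0 1).Exact :=
    (HomologicalComplex.exactAt_iff' K 0 0 1 (by simp) (by simp)).1 hex
  have hf : (K.sc' 0 0 1).f = 0 := K.shape 0 0 (by simp)
  exact (ShortComplex.exact_iff_mono _ hf).1 h1

variable (n : ℕ) (hK : ∀ i, TopCat.Sheaf.IsFlasque (K.X i)) (hex : ∀ i, i < n → K.ExactAt i)

include hK hex in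
theorem isFlasque_ZZ : ∀ i, i < n → TopCat.Sheaf.IsFlasque (ZZ K i) := by
  intro i
  induction i with
  | zero =>
    intro h0
    haveI := mono_d_zero K (hex 0 h0)
    exact isFlasque_of_isZero (isZero_kernel_of_mono (K.d 0 1))
  | succ i ih =>
    intro hi
    have hS := SZ_shortExact K i (hex (i + 1) hi)
    haveI : TopCat.Sheaf.IsFlasque (SZ K i).X₁ := ih (by omega)
    haveI : TopCat.Sheaf.IsFlasque (SZ K i).X₂ := hK i
    exact TopCat.Sheaf.IsFlasque.of_shortExact_of_isFlasque₁₂ hS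

include hex in
theorem eq_zero_of_exactAt_zero (h0 : 0 < n) (V : Opens X) (c : (K.X 0).obj.obj (op V))
    (hc : ((K.d 0 1).hom.app (op V)).hom c = 0) : c = 0 := by
  haveI := mono_d_zero K (hex 0 h0)
  apply app_injective (K.d 0 1) V
  rw [hc, map_zero]

include hK hex in
theorem exists_primitive_of_flasque (j : ℕ) (hj : j + 1 < n) (V : Opens X)
    (c : (K.X (j + 1)).obj.obj (op V))
    (hc : ((K.d (j + 1) (j + 2)).hom.app (op V)).hom c = 0) :
    ∃ b : (K.X j).obj.obj (op V), ((K.d j (j + 1)).hom.app (op V)).hom b = c := by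
  obtain ⟨z, hz⟩ := exists_kernel_section (K.d (j + 1) (j + 2)) V c hc
  have hS := SZ_shortExact K j (hex (j + 1) hj)
  haveI : TopCat.Sheaf.IsFlasque (SZ K j).X₁ := isFlasque_ZZ K n hK hex j (by omega)
  have hepi : Epi ((SZ K j).g.hom.app (op V)) := TopCat.Sheaf.IsFlasque.epi_of_shortExact hS
  obtain ⟨b, hb⟩ := (AddCommGrpCat.epi_iff_surjective _).mp hepi z
  refine ⟨b, ?_⟩
  have hb' : ((toZ K j).hom.app (op V)).hom b = z := hb
  rw [← hz, ← hb']
  exact congrArg (fun ψ : K.X j ⟶ K.X (j + 1) => (ψ.hom.app (op V)).hom b) (toZ_ι K j).symm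

end FlasqueComplex

section Resolution

variable (U : Opens X) {F : CohTop.Ab X} (R : InjectiveResolution F)

/-- the complex `Γ_Z(I^•)` -/
noncomputable abbrev KZ : CochainComplex (CohTop.Ab X) ℕ :=
  ((LocCohZ.sectSuppF U).mapHomologicalComplex (ComplexShape.up ℕ)).obj R.cocomplex

lemma isZero_HZsh_iff (i : ℕ) : IsZero ((LocCohZ.HZsh U i).obj F) ↔ (KZ U R).ExactAt i := by
  rw [HomologicalComplex.exactAt_iff_isZero_homology]
  exact (R.isoRightDerivedObj (LocCohZ.sectSuppF U) i).isZero_iff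

lemma ι_d (i j : ℕ) (V : Opens X) (c : ((KZ U R).X i).obj.obj (op V)) :
    ((ι U (R.cocomplex.X j)).hom.app (op V)).hom ((((KZ U R).d i j).hom.app (op V)).hom c) =
      ((R.cocomplex.d i j).hom.app (op V)).hom (((ι U (R.cocomplex.X i)).hom.app (op V)).hom c) :=
  ι_map_app U (R.cocomplex.d i j) V c

lemma isFlasque_KZ (i : ℕ) : TopCat.Sheaf.IsFlasque ((KZ U R).X i) := by
  haveI : Injective (R.cocomplex.X i) := R.injective i
  haveI := isFlasque_of_injective (R.cocomplex.X i)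
  exact isFlasque_sectSupp U (R.cocomplex.X i)

/-- local criterion for the vanishing of `ℋ^{q+1}_Z(F)` -/
theorem exactAt_succ_of_local (q : ℕ)
    (hloc : ∀ (V : Opens X) (ξ : LocCohZ.HZ F (q + 1) (inf_le_left : V ⊓ U ≤ V)) (x : X), x ∈ V →
      ∃ (V' : Opens X) (hV' : V' ≤ V), x ∈ V' ∧
        LocCohZ.resZ F (q + 1) (inf_le_left : V ⊓ U ≤ V) (inf_le_left : V' ⊓ U ≤ V')
          (inf_le_inf_right U hV') hV' ξ = 0) :
    (KZ U R).ExactAt (q + 1) := by
  rw [HomologicalComplex.exactAt_iff' (KZ U R) q (q + 1) (q + 2) (by simp)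
    (by simp only [CochainComplex.next]; rfl)]
  apply exact_of_local
  intro V c hc x hx
  change ((KZ U R).X (q + 1)).obj.obj (op V) at c
  have hc' : (((KZ U R).d (q + 1) (q + 2)).hom.app (op V)).hom c = 0 := hc
  obtain ⟨σ, hσ⟩ : ∃ σ, σ = ((ι U (R.cocomplex.X (q + 1))).hom.app (op V)).hom c := ⟨_, rfl⟩
  have hσ0 : res (R.cocomplex.X (q + 1)).obj (inf_le_left : V ⊓ U ≤ V) σ = 0 := by
    rw [hσ]; exact res_ι U _ V c
  have hdσ : ((R.cocomplex.d (q + 1) (q + 2)).hom.app (op V)).hom σ = 0 := by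
    rw [hσ]
    refine (ι_d U R (q + 1) (q + 2) V c).symm.trans ?_
    rw [hc']
    exact map_zero _
  have ha : ofSecZ _ _ σ hσ0 ≫ R.cocomplex.d (q + 1) (q + 2) = 0 := by
    apply secZ_injective
    rw [secZ_comp, secZ_ofSecZ, hdσ, secZ_zero]
  obtain ⟨V', hV', hxV', hξ⟩ := hloc V (R.extMk (ofSecZ _ _ σ hσ0) (q + 2) rfl ha) x hx
  have h3 : R.extMk (LocCohZ.zqMap (inf_le_left : V ⊓ U ≤ V) (inf_le_left : V' ⊓ U ≤ V')
      (inf_le_inf_right U hV') hV' ≫ ofSecZ _ _ σ hσ0) (q + 2) rfl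
      (by rw [Category.assoc, ha, comp_zero]) = 0 := by
    rw [← R.mk₀_comp_extMk]
    exact hξ
  obtain ⟨g, hg⟩ := (R.extMk_eq_zero_iff _ (q + 2) rfl _ q rfl).mp h3
  obtain ⟨b, hb⟩ := exists_ι_eq U (R.cocomplex.X q) V' (secZ _ _ g) (res_secZ _ _ g)
  refine ⟨V', hV', hxV', b, ?_⟩
  apply ι_injective U (R.cocomplex.X (q + 1)) V'
  have e1 : ((ι U (R.cocomplex.X (q + 1))).hom.app (op V')).hom
      ((((KZ U R).d q (q + 1)).hom.app (op V')).hom b) =
      res (R.cocomplex.X (q + 1)).obj hV' σ := by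
    refine (ι_d U R q (q + 1) V' b).trans ?_
    rw [hb, ← secZ_comp, hg, secZ_zqMap, secZ_ofSecZ]
  have e2 : ((ι U (R.cocomplex.X (q + 1))).hom.app (op V')).hom
      (res ((KZ U R).X (q + 1)).obj hV' c) = res (R.cocomplex.X (q + 1)).obj hV' σ := by
    refine (res_app _ (ι U (R.cocomplex.X (q + 1))).hom hV' c).trans ?_
    rw [hσ]
  exact e1.trans e2.symm

/-- degree zero -/
theorem exactAt_zero_of
    (h0 : ∀ (V : Opens X) (ξ : LocCohZ.HZ F 0 (inf_le_left : V ⊓ U ≤ V)), ξ = 0) :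
    (KZ U R).ExactAt 0 := by
  rw [HomologicalComplex.exactAt_iff' (KZ U R) 0 0 1 (by simp) (by simp)]
  apply exact_of_local
  intro V c hc x hx
  change ((KZ U R).X 0).obj.obj (op V) at c
  have hc' : (((KZ U R).d 0 1).hom.app (op V)).hom c = 0 := hc
  obtain ⟨σ, hσ⟩ : ∃ σ, σ = ((ι U (R.cocomplex.X 0)).hom.app (op V)).hom c := ⟨_, rfl⟩
  have hσ0 : res (R.cocomplex.X 0).obj (inf_le_left : V ⊓ U ≤ V) σ = 0 := by
    rw [hσ]; exact res_ι U _ V c
  have hdσ : ((R.cocomplex.d 0 1).hom.app (op V)).hom σ = 0 := by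
    rw [hσ]
    refine (ι_d U R 0 1 V c).symm.trans ?_
    rw [hc']
    exact map_zero _
  have ha : ofSecZ _ _ σ hσ0 ≫ R.cocomplex.d 0 1 = 0 := by
    apply secZ_injective
    rw [secZ_comp, secZ_ofSecZ, hdσ, secZ_zero]
  -- factor through `F`
  have hlift := R.exact₀.lift_f (ofSecZ _ _ σ hσ0) ha
  obtain ⟨b, hb⟩ : ∃ b, b = R.exact₀.lift (ofSecZ _ _ σ hσ0) ha := ⟨_, rfl⟩
  rw [← hb] at hlift
  have hb0 : b ≫ (HomologicalComplex.singleObjXSelf (ComplexShape.up ℕ) 0 F).hom = 0 := by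
    apply (Ext.mk₀_bijective _ _).1
    rw [Ext.mk₀_zero]
    exact h0 V _
  have hb1 : b = 0 := by
    rw [← cancel_mono (HomologicalComplex.singleObjXSelf (ComplexShape.up ℕ) 0 F).hom, hb0,
      zero_comp]
  have ha0 : ofSecZ _ _ σ hσ0 = 0 := by
    rw [← hlift, hb1, zero_comp]
  have hσz : σ = 0 := by
    rw [← secZ_ofSecZ _ _ σ hσ0, ha0, secZ_zero]
  have hcz : c = 0 := by
    apply ι_injective U (R.cocomplex.X 0) V
    rw [← hσ, hσz]
    exact (map_zero _).symm
  refine ⟨V, le_rfl, hx, 0, ?_⟩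
  rw [hcz]
  exact (map_zero _).trans (map_zero _).symm

/-- the converse in degree zero -/
theorem HZ_zero_eq_zero (V : Opens X)
    (h : ∀ c : ((KZ U R).X 0).obj.obj (op V), (((KZ U R).d 0 1).hom.app (op V)).hom c = 0 → c = 0)
    (ξ : LocCohZ.HZ F 0 (inf_le_left : V ⊓ U ≤ V)) : ξ = 0 := by
  obtain ⟨a, ha, rfl⟩ := R.extMk_surjective ξ 1 rfl
  obtain ⟨c, hc⟩ := exists_ι_eq U (R.cocomplex.X 0) V (secZ _ _ a) (res_secZ _ _ a)
  have hdc : (((KZ U R).d 0 1).hom.app (op V)).hom c = 0 := by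
    apply ι_injective U (R.cocomplex.X 1) V
    refine (ι_d U R 0 1 V c).trans ?_
    rw [hc, ← secZ_comp, ha, secZ_zero]
    exact (map_zero _).symm
  have hc0 := h c hdc
  have ha0 : a = 0 := by
    apply secZ_injective
    rw [← hc, hc0, secZ_zero]
    exact map_zero _
  subst ha0
  exact R.extMk_zero 1 rfl

/-- the converse in positive degrees -/
theorem HZ_succ_eq_zero (q : ℕ) (V : Opens X)
    (h : ∀ c : ((KZ U R).X (q + 1)).obj.obj (op V),
      (((KZ U R).d (q + 1) (q + 2)).hom.app (op V)).hom c = 0 →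
      ∃ b : ((KZ U R).X q).obj.obj (op V), (((KZ U R).d q (q + 1)).hom.app (op V)).hom b = c)
    (ξ : LocCohZ.HZ F (q + 1) (inf_le_left : V ⊓ U ≤ V)) : ξ = 0 := by
  obtain ⟨a, ha, rfl⟩ := R.extMk_surjective ξ (q + 2) rfl
  obtain ⟨c, hc⟩ := exists_ι_eq U (R.cocomplex.X (q + 1)) V (secZ _ _ a) (res_secZ _ _ a)
  have hdc : (((KZ U R).d (q + 1) (q + 2)).hom.app (op V)).hom c = 0 := by
    apply ι_injective U (R.cocomplex.X (q + 2)) V
    refine (ι_d U R (q + 1) (q + 2) V c).trans ?_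
    rw [hc, ← secZ_comp, ha, secZ_zero]
    exact (map_zero _).symm
  obtain ⟨b, hb⟩ := h c hdc
  rw [R.extMk_eq_zero_iff a (q + 2) rfl ha q rfl]
  refine ⟨ofSecZ _ _ (((ι U (R.cocomplex.X q)).hom.app (op V)).hom b) (res_ι U _ V b), ?_⟩
  apply secZ_injective
  rw [secZ_comp, secZ_ofSecZ]
  refine (ι_d U R q (q + 1) V b).symm.trans ?_
  rw [hb, hc]

end Resolution

end Groth.Agent.Lib.HZsh
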