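import Mathlib
import Groth.Prelude
import Groth.Agent.Lib.LCMod1_helper2
import Groth.Agent.Lib.SectSupp_helper2
import Groth.Agent.Lib.ModFlasque_helper2
import Groth.Agent.Lib.ModPushDer_helper2
import Groth.Agent.Lib.HZshFunctor_helper2
import Groth.Agent.S13583
import Groth.Agent.S6023

/-!
# Local cohomology sheaves of modules for a locally closed subset: comparison with abelian
sheaves (helper2)
-/

set_option autoImplicit false
universe u
open CategoryTheory CategoryTheory.Limits AlgebraicGeometry Opposite TopologicalSpace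

namespace Groth.Agent.Lib.LCMod

open Groth.Agent.Lib.Cech Groth.Agent.Lib.RestrOpen

section Range

variable {X : TopCat.{u}}

lemma res_eq_zero_iff (P : (Opens X)ᵒᵖ ⥤ AddCommGrpCat.{u}) {O O₁ O₂ : Opens X} (h₁ : O₁ ≤ O)
    (h₂ : O₂ ≤ O) (h₁₂ : O₁ ≤ O₂) (h₂₁ : O₂ ≤ O₁) (s : P.obj (op O)) :
    res P h₁ s = 0 ↔ res P h₂ s = 0 := by
  constructor
  · intro h
    have := congrArg (res P h₂₁) h
    rwa [res_res, map_zero] at this
  · intro h
    have := congrArg (res P h₁₂) h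
    rwa [res_res, map_zero] at this

lemma exists_lift_of_range {B₁ B₂ P : CohTop.Ab X} (n₁ : B₁ ⟶ P) (n₂ : B₂ ⟶ P) [Mono n₂]
    (hn : ∀ (U : Opens X) (a : B₁.obj.obj (op U)),
      ∃ b, (n₂.hom.app (op U)).hom b = (n₁.hom.app (op U)).hom a) :
    ∃ l : B₁ ⟶ B₂, l ≫ n₂ = n₁ := by
  have hz : n₁ ≫ cokernel.π n₂ = 0 := by
    apply Sheaf.hom_ext
    apply NatTrans.ext
    funext U
    apply AddCommGrpCat.hom_ext
    apply AddMonoidHom.ext
    intro a
    obtain ⟨b, hb⟩ := hn U.unop a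
    show ((cokernel.π n₂).hom.app U).hom ((n₁.hom.app U).hom a) = 0
    rw [← hb]
    exact app_comp_zero (ShortComplex.mk n₂ (cokernel.π n₂) (cokernel.condition n₂)) U.unop b
  exact ⟨Abelian.monoLift n₂ n₁ hz, Abelian.monoLift_comp n₂ n₁ hz⟩

/-- two subsheaves with the same sections are isomorphic -/
lemma exists_iso_of_range {A₁ A₂ P : CohTop.Ab X} (m₁ : A₁ ⟶ P) (m₂ : A₂ ⟶ P) [Mono m₁] [Mono m₂]
    (h : ∀ (U : Opens X) (s : P.obj.obj (op U)),
      (∃ a, (m₁.hom.app (op U)).hom a = s) ↔ (∃ a, (m₂.hom.app (op U)).hom a = s)) :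
    ∃ e : A₁ ≅ A₂, e.hom ≫ m₂ = m₁ := by
  obtain ⟨l, hl⟩ := exists_lift_of_range m₁ m₂ (fun U a => (h U _).1 ⟨a, rfl⟩)
  obtain ⟨l', hl'⟩ := exists_lift_of_range m₂ m₁ (fun U a => (h U _).2 ⟨a, rfl⟩)
  refine ⟨⟨l, l', ?_, ?_⟩, hl⟩
  · rw [← cancel_mono m₁, Category.assoc, hl', hl, Category.id_comp]
  · rw [← cancel_mono m₂, Category.assoc, hl, hl', Category.id_comp]

end Range

section NatIso

lemma nonempty_natIso_of_mono {𝒞 𝒜 : Type*} [Category 𝒞] [Category 𝒜] {L Rr Pf : 𝒞 ⥤ 𝒜}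
    (μ₁ : L ⟶ Pf) (μ₂ : Rr ⟶ Pf) [∀ F, Mono (μ₂.app F)]
    (he : ∀ F, ∃ e : L.obj F ≅ Rr.obj F, e.hom ≫ μ₂.app F = μ₁.app F) : Nonempty (L ≅ Rr) := by
  choose e he using he
  refine ⟨NatIso.ofComponents e ?_⟩
  intro F F' f
  rw [← cancel_mono (μ₂.app F'), Category.assoc, he, μ₁.naturality, Category.assoc,
    μ₂.naturality, ← Category.assoc, he]

end NatIso

section KerNat

variable {𝒜 : Type*} [Category 𝒜] [Abelian 𝒜]

/-- the kernel of a natural transformation `𝟭 ⟶ T`, with `T` preserving monomorphisms, is a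
left exact functor -/
lemma preservesFiniteLimits_of_kernel (G T : 𝒜 ⥤ 𝒜) [G.Additive] (ι : G ⟶ 𝟭 𝒜) (η : 𝟭 𝒜 ⟶ T)
    (w : ∀ A, ι.app A ≫ η.app A = 0) (hk : ∀ A, IsLimit (KernelFork.ofι (ι.app A) (w A)))
    [T.PreservesMonomorphisms] : PreservesFiniteLimits G := by
  rw [Functor.preservesFiniteLimits_iff_forall_exact_map_and_mono]
  intro S hS
  haveI := hS.mono_f
  haveI hmι : ∀ A, Mono (ι.app A) := fun A => mono_of_isLimit_fork (hk A)
  have hnat : ∀ {A B : 𝒜} (f : A ⟶ B), G.map f ≫ ι.app B = ι.app A ≫ f := fun f => ι.naturality f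
  haveI hm : Mono (G.map S.f) := by
    haveI : Mono (G.map S.f ≫ ι.app S.X₂) := by
      rw [hnat]
      infer_instance
    exact mono_of_mono (G.map S.f) (ι.app S.X₂)
  refine ⟨?_, hm⟩
  have hz : G.map S.f ≫ G.map S.g = 0 := by rw [← G.map_comp, S.zero, G.map_zero]
  have hlim : IsLimit (KernelFork.ofι (G.map S.f) hz) := by
    refine KernelFork.IsLimit.ofι' (G.map S.f) hz (fun {A} t ht => ?_)
    have h1 : (t ≫ ι.app S.X₂) ≫ S.g = 0 := by
      rw [Category.assoc, ← hnat, ← Category.assoc, ht, zero_comp]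
    let l := KernelFork.IsLimit.lift' hS.fIsKernel (t ≫ ι.app S.X₂) h1
    have hl : l.1 ≫ S.f = t ≫ ι.app S.X₂ := l.2
    have h2 : l.1 ≫ η.app S.X₁ = 0 := by
      haveI : Mono (T.map S.f) := inferInstance
      rw [← cancel_mono (T.map S.f), Category.assoc, zero_comp]
      have hn : S.f ≫ η.app S.X₂ = η.app S.X₁ ≫ T.map S.f := η.naturality S.f
      rw [← hn, ← Category.assoc, hl, Category.assoc, w, comp_zero]
    let l' := KernelFork.IsLimit.lift' (hk S.X₁) l.1 h2
    have hl' : l'.1 ≫ ι.app S.X₁ = l.1 := l'.2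
    refine ⟨l'.1, ?_⟩
    rw [← cancel_mono (ι.app S.X₂), Category.assoc, hnat, ← Category.assoc, hl', hl]
  exact ShortComplex.exact_of_f_is_kernel _ hlim

end KerNat

section AbSide

variable {X : TopCat.{u}}

instance preservesFiniteLimits_sectSuppF (U : Opens X) :
    PreservesFiniteLimits (LocCohZ.sectSuppF U) :=
  preservesFiniteLimits_of_kernel (LocCohZ.sectSuppF U)
    (CohTop.pull (CohCx.incl U) ⋙ CohTop.push (CohCx.incl U))
    (HZshFunctor.αnat U) (HZshFunctor.pbAdj' U).unit (fun _ => kernel.condition _)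
    (fun _ => kernelIsKernel _)

instance preservesFiniteLimits_sectSuppLC {W V : Opens X} (h : W ≤ V) :
    PreservesFiniteLimits (SuppFam.sectSuppLC h) := by
  unfold SuppFam.sectSuppLC
  haveI := preservesFiniteLimits_sectSuppF (X := TopCat.of V) (SuppFam.inOpen V W)
  haveI : PreservesFiniteLimits (LocCohZ.sectSuppF (X := TopCat.of V) (SuppFam.inOpen V W) ⋙
      CohTop.push (CohCx.incl V)) := comp_preservesFiniteLimits _ _
  exact comp_preservesFiniteLimits _ _

/-- flasque sheaves are acyclic for the sections with support in a locally closed subset -/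
theorem isZero_HZshLC_of_isFlasque (A : CohTop.Ab X) [TopCat.Sheaf.IsFlasque A] {W V : Opens X}
    (h : W ≤ V) (q : ℕ) (hq : 0 < q) : IsZero ((SuppFam.HZshLC h q).obj A) := by
  obtain ⟨e⟩ := Groth.Agent.S13583.result A h q
  refine IsZero.of_iso ?_ e
  have hz : IsZero (SuppFam.HZpre A q h) := by
    apply Functor.isZero
    intro V'
    haveI : Subsingleton (LocCohZ.HZ A q (inf_le_inf_right (unop V') h)) :=
      (Groth.Agent.S6023.result A).1 _ _ (inf_le_inf_right (unop V') h) q hq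
    show IsZero (AddCommGrpCat.of (LocCohZ.HZ A q (inf_le_inf_right (unop V') h)))
    exact AddCommGrpCat.isZero_of_subsingleton _
  exact Functor.map_isZero _ hz

end AbSide

section Compare

variable {Y : Scheme.{u}} (V₁ : Y.Opens) (W : (V₁ : Scheme.{u}).Opens)

/-- the underlying abelian sheaf -/
noncomputable abbrev TY (Y : Scheme.{u}) : Y.Modules ⥤ CohTop.Ab Y.carrier :=
  SheafOfModules.toSheaf Y.ringCatSheaf

/-- the ambient functor `F ↦ (j₁)_* (F|_{V₁})` on abelian sheaves -/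
noncomputable def Pf : Y.Modules ⥤ CohTop.Ab Y.carrier :=
  TY Y ⋙ CohTop.restrFunctor V₁ ⋙ CohTop.push (CohCx.incl V₁)

/-- the open subspace, as a topological space -/
abbrev subT {X : TopCat.{u}} (U : Opens X) : TopCat.{u} := TopCat.of U

/-- `W` as an open of the subspace -/
abbrev Wt : Opens (subT (X := Y.carrier) V₁) := W

/-- the sections with support functor on the abelian side -/
noncomputable def Rr : Y.Modules ⥤ CohTop.Ab Y.carrier :=
  TY Y ⋙ CohTop.restrFunctor V₁ ⋙ LocCohZ.sectSuppF (Wt V₁ W) ⋙ CohTop.push (CohCx.incl V₁)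

/-- `G₂` and the ambient functor agree -/
noncomputable def eP : G₂ V₁ ⋙ TY Y ≅ Pf V₁ :=
  NatIso.ofComponents (fun F => Iso.refl _) (by intros; ext; rfl)

/-- the inclusion on the module side -/
noncomputable def μ₁ : G₁ V₁ W ⋙ TY Y ⟶ Pf V₁ :=
  Functor.whiskerRight (α V₁ W) (TY Y) ≫ (eP V₁).hom

/-- the inclusion on the abelian side -/
noncomputable def μ₂ : Rr V₁ W ⟶ Pf V₁ where
  app F := (CohTop.push (CohCx.incl V₁)).map
    (SectSupp.ι (Wt V₁ W) ((CohTop.restrFunctor V₁).obj ((TY Y).obj F)))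
  naturality F F' φ := by
    have h := SectSupp.map_ι (Wt V₁ W) ((CohTop.restrFunctor V₁).map ((TY Y).map φ))
    exact ((CohTop.push (CohCx.incl V₁)).map_comp
        ((LocCohZ.sectSuppF (Wt V₁ W)).map ((CohTop.restrFunctor V₁).map ((TY Y).map φ)))
        (SectSupp.ι (Wt V₁ W) ((CohTop.restrFunctor V₁).obj ((TY Y).obj F')))).symm.trans
      ((congrArg (fun t => (CohTop.push (CohCx.incl V₁)).map t) h).trans
        ((CohTop.push (CohCx.incl V₁)).map_comp
          (SectSupp.ι (Wt V₁ W) ((CohTop.restrFunctor V₁).obj ((TY Y).obj F)))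
          ((CohTop.restrFunctor V₁).map ((TY Y).map φ))))

variable (F : Y.Modules) (U : Opens Y.carrier)

/-- the open `U ∩ V₁` -/
abbrev OU : Opens Y.carrier := V₁.ι ''ᵁ (V₁.ι ⁻¹ᵁ U)

/-- the open `U ∩ W`, scheme version -/
abbrev O₁ : Opens Y.carrier := V₁.ι ''ᵁ (W.ι ''ᵁ (W.ι ⁻¹ᵁ (V₁.ι ⁻¹ᵁ U)))

lemma O₁_le : O₁ V₁ W U ≤ OU V₁ U :=
  V₁.ι.image_mono (W.ι.image_preimage_le _)

lemma stepA {M N : Y.Modules} (φ : M ⟶ N) : ((TY Y).map φ).hom.app (op U) = φ.app U := rfl

lemma stepB {M N : (V₁ : Scheme.{u}).Modules} (φ : M ⟶ N) :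
    ((Push₁ V₁).map φ).app U = φ.app (V₁.ι ⁻¹ᵁ U) := rfl

set_option maxHeartbeats 4000000 in
/-- the map `G₂ F ⟶ G₃ F` on sections is a restriction map of `F` -/
lemma β_sections (s : ((TY Y).obj F).obj.obj (op (OU V₁ U))) :
    (((TY Y).map ((β V₁ W).app F)).hom.app (op U)).hom s =
      res ((TY Y).obj F).obj (O₁_le V₁ W U) s := by
  rw [stepA]
  show (((Push₁ V₁).map ((Scheme.Modules.restrictAdjunction W.ι).unit.app
    ((Res₁ V₁).obj F))).app U).hom s = _
  rw [stepB, Scheme.Modules.restrictAdjunction_unit_app_app, Scheme.Modules.restrict_map]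
  rfl

end Compare

end Groth.Agent.Lib.LCMod
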