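import Mathlib
import Groth.Prelude.Def_SpSeq

/-!
# Abutment of a spectral sequence whose second page lies in a weak Serre class (helper2)

`prop_abut`: for a class `P` of objects of an abelian category closed under isomorphisms, kernels,
cokernels, extensions and containing the zero objects, if every term of the second page of an
`E₂`-spectral sequence is in `P`, then a finitely filtered abutment is in `P`.
APPEND-ONLY once landed.
-/

set_option autoImplicit false
universe v u
open CategoryTheory CategoryTheory.Limits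

namespace Groth.Agent.Lib.SerreSSH2

variable {C : Type u} [Category.{v} C] [Abelian C] (P : C → Prop)
  (hiso : ∀ {M N : C}, (M ≅ N) → P M → P N)
  (hker : ∀ {M N : C} (φ : M ⟶ N), P M → P N → P (kernel φ))
  (hcoker : ∀ {M N : C} (φ : M ⟶ N), P M → P N → P (cokernel φ))
  (hext : ∀ S : ShortComplex C, S.ShortExact → P S.X₁ → P S.X₃ → P S.X₂)
  (hzero : ∀ Z : C, IsZero Z → P Z)

include hiso hker hcoker in
/-- the homology of a short complex of objects of `P` is in `P` -/
lemma prop_homology (S : ShortComplex C) (h₁ : P S.X₁) (h₂ : P S.X₂) (h₃ : P S.X₃) :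
    P S.homology := by
  have hK : P (kernel S.g) := hker S.g h₂ h₃
  have hH : P (cokernel (kernel.lift S.g S.f S.zero)) := hcoker _ h₁ hK
  exact hiso (ShortComplex.LeftHomologyData.ofHasKernelOfHasCokernel S).homologyIso.symm hH

include hiso hker hcoker in
/-- all pages of a spectral sequence whose first page is in `P` are in `P` -/
lemma prop_page {r₀ : ℤ} (E : CohomologicalSpectralSequence C r₀)
    (h : ∀ pq, P ((E.page r₀ le_rfl).X pq)) :
    ∀ (r : ℤ) (hr : r₀ ≤ r) (pq : ℤ × ℤ), P ((E.page r hr).X pq) := by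
  intro r hr
  induction r, hr using Int.le_induction with
  | base => exact h
  | succ r hr ih =>
    intro pq
    refine hiso (E.iso r (r + 1) pq rfl hr) ?_
    exact prop_homology P hiso hker hcoker ((E.page r hr).sc pq) (ih _) (ih _) (ih _)

include hiso hker hcoker hext hzero in
/-- **the abutment is in `P`** -/
theorem prop_abut (E : E₂CohomologicalSpectralSequence C) (H : ℤ → C)
    (a : SpSeq.Abutment E H) (n : ℤ) (ha : a.IsFinite n)
    (h2 : ∀ pq, P ((E.page 2 le_rfl).X pq)) : P (H n) := by
  have hall := prop_page P hiso hker hcoker E h2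
  have hgr : ∀ p : ℤ, P (SpSeq.grPiece (a.fil n) (a.anti n) p) := by
    intro p
    have h1 : ∀ (pq : ℤ × ℤ) (m : ℤ), pq.1 + pq.2 = m →
        P (SpSeq.grPiece (a.fil m) (a.anti m) pq.1) := by
      intro pq m hm
      subst hm
      exact hiso (a.β pq) (hall _ _ pq)
    exact h1 (p, n - p) n (by simp)
  obtain ⟨⟨a₀, ha₀'⟩, ⟨b, hb'⟩⟩ := ha
  have ha₀ : a.fil n a₀ = ⊤ := ha₀'
  have hb : a.fil n b = ⊥ := hb'
  have key : ∀ k : ℕ, P ((a.fil n (b - (k : ℤ)) : Subobject (H n)) : C) := by
    intro k
    induction k with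
    | zero =>
      have e : a.fil n (b - ((0 : ℕ) : ℤ)) = ⊥ := by
        have : b - ((0 : ℕ) : ℤ) = b := by simp
        rw [this]
        exact hb
      rw [e]
      exact hzero _ ((isZero_zero C).of_iso Subobject.botCoeIsoZero)
    | succ k ih =>
      have e1 : b - ((k + 1 : ℕ) : ℤ) + 1 = b - (k : ℤ) := by push_cast; ring
      have hle : a.fil n (b - ((k + 1 : ℕ) : ℤ) + 1) ≤ a.fil n (b - ((k + 1 : ℕ) : ℤ)) :=
        a.anti n (Int.le_add_one le_rfl)
      let S : ShortComplex C :=
        ShortComplex.mk ((a.fil n (b - ((k + 1 : ℕ) : ℤ) + 1)).ofLE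
          (a.fil n (b - ((k + 1 : ℕ) : ℤ))) hle) (cokernel.π _) (cokernel.condition _)
      have hS : S.ShortExact := by
        have hm : Mono S.f := by dsimp [S]; infer_instance
        have he : Epi S.g := by dsimp [S]; infer_instance
        exact ShortComplex.ShortExact.mk'
          (ShortComplex.exact_of_g_is_cokernel _ (cokernelIsCokernel _)) hm he
      have h1 : P S.X₁ := by
        show P ((a.fil n (b - ((k + 1 : ℕ) : ℤ) + 1) : Subobject (H n)) : C)
        rw [e1]
        exact ih
      have h3 : P S.X₃ := hgr (b - ((k + 1 : ℕ) : ℤ))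
      exact hext S hS h1 h3
  have hk := key (b - a₀).toNat
  have etop : a.fil n (b - ((b - a₀).toNat : ℤ)) = ⊤ := by
    apply top_le_iff.1
    have hle : b - ((b - a₀).toNat : ℤ) ≤ a₀ := by omega
    have := a.anti n hle
    rwa [ha₀] at this
  rw [etop] at hk
  exact hiso (asIso (⊤ : Subobject (H n)).arrow) hk

end Groth.Agent.Lib.SerreSSH2
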