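import Mathlib
import Groth.Prelude
import Groth.Agent.Lib.SerreSS1_helper2
import Groth.Agent.Lib.GrothSS_helper2
import Groth.Agent.Lib.SuppTensor_helper2
import Groth.Agent.Lib.ExtShCoh1_helper2
import Groth.Agent.Lib.RGammaZ2_lead
import Groth.Agent.Lib.LCMod2_helper2
import Groth.Agent.Lib.QCohExtn_helper9
import Groth.Agent.Lib.FCompl1_helper8
import Groth.Agent.Lib.SubExt_helper9
import Groth.Agent.Lib.BMod5_helper6
import Groth.Agent.Lib.HomLin3_helper8
import Groth.Agent.Lib.TFFree_helper8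

/-!
# Quasi-coherence of the local Ext sheaves with supports `ℰxt^i_Z(F, G)` (helper2)

* `nonempty_sectOn_iso_gammaZ`: the site-level `Γ_Z` (`ModSite.sectOn X.sheaf U`) is the scheme-level
  `DCoh.gammaZ U.ι`;
* `isQCoh_HZsh`: the site-level local cohomology sheaves of a quasi-coherent module are
  quasi-coherent (from lead's `main6030`);
* `isQCoh_extSh`: `ℰxt^i(F, G)` is quasi-coherent for `F` coherent, `G` quasi-coherent, `X` locally
  Noetherian;
* `isQCoh_extZSh`: S12879, by the spectral sequence `ℰxt^p(F, ℋ^q_Z(G)) ⇒ ℰxt^{p+q}_Z(F, G)`.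
APPEND-ONLY once landed.
-/

set_option autoImplicit false
set_option maxHeartbeats 1600000
set_option linter.style.haveILetI false
universe u
open CategoryTheory CategoryTheory.Limits Opposite AlgebraicGeometry TopologicalSpace

namespace Groth.Agent.Lib.ExtZQCohH2

section Abstract

variable {𝒜 ℬ₁ ℬ₂ : Type*} [Category 𝒜] [Category ℬ₁] [Category ℬ₂] [Abelian 𝒜]
  [Preadditive ℬ₁] [Preadditive ℬ₂]
  {L₁ : 𝒜 ⥤ ℬ₁} {R₁ : ℬ₁ ⥤ 𝒜} {L₂ : 𝒜 ⥤ ℬ₂} {R₂ : ℬ₂ ⥤ 𝒜}

/-- a left adjoint kills `φ` iff `φ` composed with the unit vanishes -/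
lemma map_eq_zero_iff_comp_unit [L₁.Additive] (adj : L₁ ⊣ R₁) {M N : 𝒜} (φ : M ⟶ N) :
    L₁.map φ = 0 ↔ φ ≫ adj.unit.app N = 0 := by
  haveI : R₁.Additive := adj.right_adjoint_additive
  constructor
  · intro h
    have h1 : φ ≫ adj.unit.app N = adj.unit.app M ≫ R₁.map (L₁.map φ) := adj.unit.naturality φ
    rw [h1, h, Functor.map_zero, comp_zero]
  · intro h
    have h1 : L₁.map φ = L₁.map (φ ≫ adj.unit.app N) ≫ adj.counit.app (L₁.obj N) := by
      rw [Functor.map_comp, Category.assoc, adj.left_triangle_components, Category.comp_id]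
    rw [h1, h, Functor.map_zero, zero_comp]

/-- the kernels of the units of two adjunctions whose left adjoints kill the same morphisms agree -/
lemma exists_kernel_unit_iso [L₁.Additive] [L₂.Additive] (adj₁ : L₁ ⊣ R₁) (adj₂ : L₂ ⊣ R₂)
    (h : ∀ {M N : 𝒜} (φ : M ⟶ N), L₁.map φ = 0 ↔ L₂.map φ = 0) (F : 𝒜) :
    ∃ e : kernel (adj₁.unit.app F) ≅ kernel (adj₂.unit.app F),
      e.hom ≫ kernel.ι (adj₂.unit.app F) = kernel.ι (adj₁.unit.app F) := by
  have w12 : kernel.ι (adj₁.unit.app F) ≫ adj₂.unit.app F = 0 :=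
    (map_eq_zero_iff_comp_unit adj₂ _).1
      ((h _).1 ((map_eq_zero_iff_comp_unit adj₁ _).2 (kernel.condition _)))
  have w21 : kernel.ι (adj₂.unit.app F) ≫ adj₁.unit.app F = 0 :=
    (map_eq_zero_iff_comp_unit adj₁ _).1
      ((h _).2 ((map_eq_zero_iff_comp_unit adj₂ _).2 (kernel.condition _)))
  refine ⟨⟨kernel.lift _ _ w12, kernel.lift _ _ w21, ?_, ?_⟩, kernel.lift_ι _ _ _⟩
  · rw [← cancel_mono (kernel.ι (adj₁.unit.app F)), Category.assoc, kernel.lift_ι, kernel.lift_ι,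
      Category.id_comp]
  · rw [← cancel_mono (kernel.ι (adj₂.unit.app F)), Category.assoc, kernel.lift_ι, kernel.lift_ι,
      Category.id_comp]

/-- two subfunctors of `Pf` which are componentwise isomorphic over `Pf` are isomorphic -/
lemma nonempty_natIso_of_mono' {𝒞 𝒟 : Type*} [Category 𝒞] [Category 𝒟] {L Rr Pf : 𝒞 ⥤ 𝒟}
    (μ₁ : L ⟶ Pf) (μ₂ : Rr ⟶ Pf) (hm : ∀ F, Mono (μ₂.app F))
    (he : ∀ F, ∃ e : L.obj F ≅ Rr.obj F, e.hom ≫ μ₂.app F = μ₁.app F) : Nonempty (L ≅ Rr) := by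
  choose e he using he
  refine ⟨NatIso.ofComponents e ?_⟩
  intro F F' f
  haveI := hm F'
  rw [← cancel_mono (μ₂.app F'), Category.assoc, he, μ₁.naturality, Category.assoc,
    μ₂.naturality, ← Category.assoc, he]

end Abstract

open ModSite Groth.Agent.Lib.ModSiteH8 Groth.Agent.Lib.Supp Groth.Agent.Lib.RestrHomH2
  Groth.Agent.Lib.ContraLESH2 Groth.Agent.Lib.RelExtSchH2 Groth.Agent.Lib.ExtShCohH2

variable {X : Scheme.{u}}

attribute [local instance] Groth.Agent.Lib.RelExtSchH2.hsh Groth.Agent.Lib.ExtShCohH2.hir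

/-- site-level and scheme-level restriction to an open kill the same morphisms -/
theorem restr_map_eq_zero_iff_jS (U : X.Opens) {A B : ModSite.Mod X.sheaf} (φ : A ⟶ B) :
    (restr X.sheaf U).map φ = 0 ↔ (jS U).map φ = 0 := by
  have e := Scheme.Modules.overFunctorEquiv U
  have hE : (SheafOfModules.overFunctor X.ringCatSheaf U ⋙
      (Scheme.Modules.overEquiv U).functor).map φ = 0 ↔ (restr X.sheaf U).map φ = 0 := by
    show (Scheme.Modules.overEquiv U).functor.map ((restr X.sheaf U).map φ) = 0 ↔ _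
    exact Functor.map_eq_zero_iff _
  rw [← hE]
  constructor
  · intro h
    have h1 := NatIso.naturality_1 e φ
    rw [h] at h1
    have h3 : (Scheme.Modules.restrictFunctor U.ι).map φ = 0 := by simpa using h1.symm
    exact h3
  · intro h
    have h2 := NatIso.naturality_2 e φ
    have h' : (Scheme.Modules.restrictFunctor U.ι).map φ = 0 := h
    rw [h'] at h2
    simpa using h2.symm

/-- the site-level `Γ_Z` is the scheme-level one -/
theorem nonempty_sectOn_iso_gammaZ (U : X.Opens) :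
    Nonempty (sectOn X.sheaf U ≅ DCoh.gammaZ U.ι) := by
  haveI := jS_additive U
  refine nonempty_natIso_of_mono' (sectOnι X.sheaf U) (CxOX.gammaZι U.ι)
    (fun F => by
      show Mono (kernel.ι _)
      infer_instance) (fun F => ?_)
  exact exists_kernel_unit_iso (restrPushOverAdj X.sheaf U)
    (jAdj U) (fun φ => restr_map_eq_zero_iff_jS U φ) F

/-! ### the class of quasi-coherent modules -/

theorem qc_iso {M N : ModSite.Mod X.sheaf} (e : M ≅ N) (h : Coh.IsQCoh M) : Coh.IsQCoh N :=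
  Groth.Agent.Lib.LCMod.qc_of_iso e h

theorem qc_zero (Z : ModSite.Mod X.sheaf) (hZ : IsZero Z) : Coh.IsQCoh Z :=
  Groth.Agent.Lib.LCMod.qc_of_isZero hZ

theorem qc_ker {M N : ModSite.Mod X.sheaf} (φ : M ⟶ N) (hM : Coh.IsQCoh M) (hN : Coh.IsQCoh N) :
    Coh.IsQCoh (kernel φ) := by
  haveI : M.IsQuasicoherent := hM
  haveI : N.IsQuasicoherent := hN
  exact SubExt.isQuasicoherent_kernel φ

theorem qc_coker {M N : ModSite.Mod X.sheaf} (φ : M ⟶ N) (hM : Coh.IsQCoh M)
    (hN : Coh.IsQCoh N) : Coh.IsQCoh (cokernel φ) := by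
  haveI : M.IsQuasicoherent := hM
  haveI : N.IsQuasicoherent := hN
  exact FComplH8.isQuasicoherent_cokernel φ

theorem qc_ext (S : ShortComplex (ModSite.Mod X.sheaf)) (hS : S.ShortExact)
    (h₁ : Coh.IsQCoh S.X₁) (h₃ : Coh.IsQCoh S.X₃) : Coh.IsQCoh S.X₂ := by
  haveI : S.X₁.IsQuasicoherent := h₁
  haveI : S.X₃.IsQuasicoherent := h₃
  exact QCohExtn.isQuasicoherent_of_shortExact S hS

/-! ### local cohomology sheaves -/

/-- the site-level local cohomology sheaves of a quasi-coherent module are quasi-coherent -/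
theorem isQCoh_HZsh [IsLocallyNoetherian X] (U : X.Opens) (G : X.Modules) (hG : Coh.IsQCoh G)
    (q : ℕ) : Coh.IsQCoh ((ModSite.HZsh X.sheaf U q).obj G) := by
  obtain ⟨e⟩ := nonempty_sectOn_iso_gammaZ U
  have h := Groth.Agent.Lib.RGammaZL.main6030 U.ι G hG q
  have hadd : (DCoh.gammaZ U.ι).Additive := inferInstance
  have e2 := @ExtDer.rightDerivedIso (ModSite.Mod X.sheaf) (ModSite.Mod X.sheaf) _ _ _ _ _
    (sectOn X.sheaf U) (DCoh.gammaZ U.ι) _ hadd e q
  exact qc_iso (e2.app G).symm h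

/-! ### local Ext sheaves -/

theorem isQCoh_sheafHom [IsLocallyNoetherian X] (F G : X.Modules) (hF : Coh.IsCoh F)
    (hG : Coh.IsQCoh G) : Coh.IsQCoh ((ModSite.sheafHom (O := X.sheaf) F).obj G) := by
  haveI : F.IsQuasicoherent := hF.1
  haveI : SheafOfModules.IsFiniteType (R := X.ringCatSheaf) F := hF.2
  haveI : G.IsQuasicoherent := hG
  haveI := FLFH8.isFinitePresentation_of_isCoh F
  have h : (RefHull.homSh F G).IsQuasicoherent := HomLinH8.isQuasicoherent_homSh F G
  exact qc_iso ((Groth.Agent.Lib.HomShAdjH2.modSiteSheafHomIso F).app G).symm h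

theorem isQCoh_extSh_zero [IsLocallyNoetherian X] (F G : X.Modules) (hF : Coh.IsCoh F)
    (hG : Coh.IsQCoh G) : Coh.IsQCoh ((ModSite.extSh (O := X.sheaf) F 0).obj G) := by
  haveI : PreservesFiniteLimits (ModSite.sheafHom (O := X.sheaf) F) :=
    homFX_preservesFiniteLimits (op F)
  exact qc_iso ((ModSite.sheafHom (O := X.sheaf) F).rightDerivedZeroIsoSelf.app G).symm
    (isQCoh_sheafHom F G hF hG)

/-- the inductive step on an affine scheme -/
theorem isQCoh_extSh_succ_affine {Y : Scheme.{u}} [IsAffine Y] [IsLocallyNoetherian Y] (i : ℕ)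
    (IH : ∀ (F G : Y.Modules), Coh.IsCoh F → Coh.IsQCoh G →
      Coh.IsQCoh ((ModSite.extSh (O := Y.sheaf) F i).obj G))
    (F G : Y.Modules) (hF : Coh.IsCoh F) (hG : Coh.IsQCoh G) :
    Coh.IsQCoh ((ModSite.extSh (O := Y.sheaf) F (i + 1)).obj G) := by
  obtain ⟨r, p, hp⟩ := exists_epi_freeMod_of_isCoh F hF
  have hfree : Coh.IsCoh (FlatMod.freeMod Y r) := Groth.Agent.Lib.FormalQuotH2.isCoh_freeMod Y r
  have hK : Coh.IsCoh (kernel p) := CohKerH8.isCoh_kernel hfree hF p
  have hm : Mono (kernel.ι p) := inferInstance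
  let S : ShortComplex (ModSite.Mod Y.sheaf) := ShortComplex.mk (kernel.ι p) p (kernel.condition p)
  have hS : S.ShortExact :=
    { exact := ShortComplex.exact_of_f_is_kernel _ (kernelIsKernel p)
      mono_f := hm
      epi_g := hp }
  obtain ⟨-, -, δ, hδ⟩ := (isGood_homFX Y).les S hS G
  obtain ⟨⟨w1, ex1⟩, ⟨w2, ex2⟩⟩ := hδ i
  have hz : IsZero ((((homFX Y).obj (op S.X₂)).rightDerived (i + 1)).obj G) :=
    isZero_extSh_of_isFinLocFree (FlatMod.freeMod Y r)
      (FLFH8.isFinLocFree_of_iso_free (Iso.refl _)) G i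
  have hcz : Coh.IsQCoh ((((homFX Y).obj (op S.X₂)).rightDerived (i + 1)).obj G) :=
    qc_zero _ hz
  exact Groth.Agent.Lib.CohSerreH3.five_term (fun M : ModSite.Mod Y.sheaf => Coh.IsQCoh M)
    (fun e h => qc_iso e h) (fun φ hM hN => qc_ker φ hM hN) (fun φ hM hN => qc_coker φ hM hN)
    (fun S hS h1 h3 => qc_ext S hS h1 h3)
    ((NatTrans.rightDerived ((homFX Y).map S.f.op) i).app G) (δ i)
    ((NatTrans.rightDerived ((homFX Y).map S.g.op) (i + 1)).app G)
    (0 : (((homFX Y).obj (op S.X₂)).rightDerived (i + 1)).obj G ⟶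
      (((homFX Y).obj (op S.X₂)).rightDerived (i + 1)).obj G)
    w1 w2 comp_zero ex1 ex2 (ShortComplex.exact_of_isZero_X₂ _ hz)
    (IH _ G hfree hG) (IH _ G hK hG) hcz hcz

/-- the local Ext sheaves of a coherent module with values in a quasi-coherent module on a locally
Noetherian scheme are quasi-coherent -/
theorem isQCoh_extSh : ∀ (i : ℕ) (X : Scheme.{u}) [IsLocallyNoetherian X] (F G : X.Modules),
    Coh.IsCoh F → Coh.IsQCoh G → Coh.IsQCoh ((ModSite.extSh (O := X.sheaf) F i).obj G) := by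
  intro i
  induction i with
  | zero =>
    intro X _ F G hF hG
    exact isQCoh_extSh_zero F G hF hG
  | succ i ih =>
    intro X _ F G hF hG
    let V : X.affineOpens → X.Opens := fun W => W.1
    have hcov : ⨆ W, V W = ⊤ := iSup_affineOpens_eq_top X
    refine Groth.Agent.Lib.BModH6.isQuasicoherent_of_restrict_ι _ V hcov (fun W => ?_)
    haveI : IsAffine ((V W : X.Opens) : Scheme.{u}) := W.2
    obtain ⟨e⟩ := main11328 (V W) F G (i + 1)
    have hFU : Coh.IsCoh ((jS (V W)).obj F) :=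
      Groth.Agent.Lib.RelPCPropH3.isCoh_restrict (V W).ι F hF
    have hGU : Coh.IsQCoh ((jS (V W)).obj G) := by
      haveI : G.IsQuasicoherent := hG
      exact (inferInstance : (G.restrict (V W).ι).IsQuasicoherent)
    have h2 : Coh.IsQCoh ((ModSite.extSh (O := ((V W : X.Opens) : Scheme.{u}).sheaf)
        ((jS (V W)).obj F) (i + 1)).obj ((jS (V W)).obj G)) :=
      isQCoh_extSh_succ_affine i
        (fun F' G' hF' hG' => ih ((V W : X.Opens) : Scheme.{u}) F' G' hF' hG') _ _ hFU hGU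
    exact qc_iso e.symm h2

/-! ### local Ext sheaves with supports -/

/-- **S12879** -/
theorem isQCoh_extZSh [IsLocallyNoetherian X] (U : X.Opens) (F G : X.Modules)
    (hF : Coh.IsCoh F) (hG : Coh.IsQCoh G) (i : ℕ) :
    Coh.IsQCoh ((ModSite.extZSh (O := X.sheaf) U F i).obj G) := by
  have e1 := (ExtDer.rightDerivedIso (sectOnSheafHomIso X.sheaf U F) i).app G
  refine qc_iso e1.symm ?_
  haveI : (sheafHom (O := X.sheaf) F).IsRightAdjoint := (sheafHomAdj F).isRightAdjoint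
  haveI : PreservesFiniteLimits (sheafHom (O := X.sheaf) F) := inferInstance
  have hT : ∀ Q : ModSite.Mod X.sheaf, Injective Q → ∀ q : ℕ, 0 < q →
      IsZero (((sheafHom (O := X.sheaf) F).rightDerived q).obj ((sectOn X.sheaf U).obj Q)) := by
    intro Q hQ q hq
    haveI : Injective ((sectOn X.sheaf U).obj Q) := injective_sectOn X.sheaf U Q
    obtain ⟨q', rfl⟩ : ∃ q', q = q' + 1 := ⟨q - 1, by omega⟩
    exact Functor.isZero_rightDerived_obj_injective_succ _ q' _
  obtain ⟨E, a, hfin, -, hE2⟩ := Groth.Agent.Lib.GrothSS.grothendieck_ss (sectOn X.sheaf U)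
    (sheafHom (O := X.sheaf) F) hT G
  have hP := Groth.Agent.Lib.SerreSSH2.prop_abut (fun M : ModSite.Mod X.sheaf => Coh.IsQCoh M)
    (fun e h => qc_iso e h) (fun φ hM hN => qc_ker φ hM hN) (fun φ hM hN => qc_coker φ hM hN)
    (fun S hS h1 h3 => qc_ext S hS h1 h3) (fun Z hZ => qc_zero Z hZ) E _ a (i : ℤ) (hfin i)
    (fun pq => ?_)
  · have hi : (0 : ℤ) ≤ (i : ℤ) := Int.natCast_nonneg i
    simp only [if_pos hi, Int.toNat_natCast] at hP
    exact hP
  · obtain ⟨e⟩ := hE2 pq.1 pq.2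
    by_cases h : 0 ≤ pq.1 ∧ 0 ≤ pq.2
    · rw [if_pos h] at e
      exact qc_iso e.symm (isQCoh_extSh _ X F _ hF (isQCoh_HZsh U G hG _))
    · rw [if_neg h] at e
      exact qc_iso e.symm (qc_zero _ (isZero_zero _))

end Groth.Agent.Lib.ExtZQCohH2
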