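import Mathlib
import Groth.Prelude.Def_SpSeq
import Groth.Agent.Lib.SerreSS1_helper2
import Groth.Agent.Lib.GrothSS_helper2
import Groth.Agent.Lib.RDPlusLES_helper9

/-!
# A way-out lemma for `F.rightDerivedFunctorPlus` (helper2)

Let `F : 𝒜 ⥤ ℬ` be an additive functor between abelian categories, `𝒜` with enough injectives, `PA`
an isomorphism-closed class of objects of `𝒜` and `PB` a weak Serre class of objects of `ℬ` (closed
under isomorphisms, kernels, cokernels, extensions, containing the zero objects). If `R^p F (G) ∈ PB`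
for all `G ∈ PA` and all `p`, then for every `K ∈ D⁺(𝒜)` with all `H^q(K) ∈ PA`, all
`H^m(RF(K)) ∈ PB`. Proof: hypercohomology spectral sequence of a bounded below complex of injectives
(`GrothSS.exists_ss`) and `SerreSSH2.prop_abut`.
APPEND-ONLY once landed.
-/

set_option autoImplicit false
set_option linter.style.haveILetI false
open CategoryTheory CategoryTheory.Limits

namespace Groth.Agent.Lib.WayOutH2

universe w w' v v' u u'

section Cx

variable {𝒜 : Type u} [Category.{v} 𝒜] [Abelian 𝒜] [EnoughInjectives 𝒜]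
  {ℬ : Type u'} [Category.{v'} ℬ] [Abelian ℬ] (F : 𝒜 ⥤ ℬ) [F.Additive]
  (PA : 𝒜 → Prop) (PB : ℬ → Prop)
  (hisoA : ∀ {M N : 𝒜}, (M ≅ N) → PA M → PA N)
  (hiso : ∀ {M N : ℬ}, (M ≅ N) → PB M → PB N)
  (hker : ∀ {M N : ℬ} (φ : M ⟶ N), PB M → PB N → PB (kernel φ))
  (hcoker : ∀ {M N : ℬ} (φ : M ⟶ N), PB M → PB N → PB (cokernel φ))
  (hext : ∀ S : ShortComplex ℬ, S.ShortExact → PB S.X₁ → PB S.X₃ → PB S.X₂)
  (hzero : ∀ Z : ℬ, IsZero Z → PB Z)
  (hF : ∀ G : 𝒜, PA G → ∀ p : ℕ, PB ((F.rightDerived p).obj G))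

include hisoA hiso hker hcoker hext hzero hF in
/-- the cohomology of `F` applied to a bounded below complex of injectives with cohomology in `PA`
lies in `PB` -/
theorem prop_homology_map_of_injective (L : CochainComplex 𝒜 ℤ) (hL : ∀ q, Injective (L.X q))
    (n : ℤ) [L.IsStrictlyGE n] (hH : ∀ q, PA (L.homology q)) (m : ℤ) :
    PB (((F.mapHomologicalComplex (ComplexShape.up ℤ)).obj L).homology m) := by
  haveI hge : (L⟦n⟧).IsStrictlyGE 0 := L.isStrictlyGE_shift n n 0 (by omega)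
  let R₀ : Groth.Agent.Lib.InjTower.Stage 𝒜 0 :=
    ⟨L⟦n⟧, fun q => by
      show Injective (L.X (q + n))
      exact hL _, by simpa using hge⟩
  obtain ⟨E, a, hfin, -, hE2⟩ := Groth.Agent.Lib.GrothSS.exists_ss F R₀
    (fun k => ((F.mapHomologicalComplex (ComplexShape.up ℤ)).obj R₀.R).homology k)
    (fun k => Iso.refl _)
  have hP := Groth.Agent.Lib.SerreSSH2.prop_abut PB hiso hker hcoker hext hzero E _ a (m - n)
    (hfin _) (fun pq => ?_)
  · have e1 : (F.mapHomologicalComplex (ComplexShape.up ℤ)).obj (L⟦n⟧) ≅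
        ((F.mapHomologicalComplex (ComplexShape.up ℤ)).obj L)⟦n⟧ :=
      ((F.mapHomologicalComplex (ComplexShape.up ℤ)).commShiftIso n).app L
    have e2 := (HomologicalComplex.homologyFunctor ℬ (ComplexShape.up ℤ) (m - n)).mapIso e1
    have e3 := ((HomologicalComplex.homologyFunctor ℬ (ComplexShape.up ℤ) 0).shiftIso n (m - n) m
      (by omega)).app ((F.mapHomologicalComplex (ComplexShape.up ℤ)).obj L)
    exact hiso (e2 ≪≫ e3) hP
  · obtain ⟨e⟩ := hE2 pq.1 pq.2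
    by_cases h : 0 ≤ pq.1 ∧ 0 ≤ pq.2
    · rw [if_pos h] at e
      refine hiso e.symm (hF _ ?_ _)
      exact hisoA (((HomologicalComplex.homologyFunctor 𝒜 (ComplexShape.up ℤ) 0).shiftIso n pq.2
        (pq.2 + n) (by omega)).app L).symm (hH _)
    · rw [if_neg h] at e
      exact hiso e.symm (hzero _ (isZero_zero _))

end Cx

section DPlus

variable {𝒜 : Type u} [Category.{v} 𝒜] [Abelian 𝒜] [HasDerivedCategory.{w} 𝒜] [EnoughInjectives 𝒜]
  {ℬ : Type u'} [Category.{v'} ℬ] [Abelian ℬ] [HasDerivedCategory.{w'} ℬ] (F : 𝒜 ⥤ ℬ) [F.Additive]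

/-- every object of `D⁺(𝒜)` and its image under `RF` are computed by a bounded below complex of
injectives -/
theorem exists_injective_model (K : DerivedCategory.Plus 𝒜) :
    ∃ (L : CochainComplex 𝒜 ℤ) (n : ℤ) (_ : L.IsStrictlyGE n), (∀ q, Injective (L.X q)) ∧
      (∀ q : ℤ, Nonempty ((DerivedCategory.homologyFunctor 𝒜 q).obj K.obj ≅ L.homology q)) ∧
      (∀ m : ℤ, Nonempty ((DerivedCategory.homologyFunctor ℬ m).obj
          (F.rightDerivedFunctorPlus.obj K).obj ≅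
          ((F.mapHomologicalComplex (ComplexShape.up ℤ)).obj L).homology m)) := by
  obtain ⟨⟨Yh, hY⟩, ⟨eY⟩⟩ : ∃ Y : HomotopyCategory.Plus 𝒜,
      Nonempty (DerivedCategory.Plus.Qh.obj Y ≅ K) :=
    ⟨_, ⟨DerivedCategory.Plus.Qh.objObjPreimageIso K⟩⟩
  obtain ⟨K₀, rfl⟩ := HomotopyCategory.quotient_obj_surjective Yh
  obtain ⟨n, hn⟩ := (HomotopyCategory.plus_quotient_obj_iff K₀).mp hY
  haveI := hn
  obtain ⟨L, κ, hκ, hL, hL'⟩ :=
    CochainComplex.Plus.modelCategoryQuillen.exists_quasiIso_injective K₀ n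
  let K₀' : CochainComplex.Plus 𝒜 := ⟨K₀, n, hn⟩
  let L' : CochainComplex.Plus 𝒜 := ⟨L, n, hL'⟩
  let κ' : K₀' ⟶ L' := ObjectProperty.homMk κ
  refine ⟨L, n, hL', hL, fun q => ?_, fun m => ?_⟩
  · have e1 : DerivedCategory.Q.obj K₀ ≅ K.obj := DerivedCategory.Plus.ι.mapIso eY
    have e2 : (DerivedCategory.homologyFunctor 𝒜 q).obj (DerivedCategory.Q.obj K₀) ≅
        K₀.homology q := (DerivedCategory.homologyFunctorFactors 𝒜 q).app K₀
    haveI : IsIso (HomologicalComplex.homologyMap κ q) :=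
      (quasiIsoAt_iff_isIso_homologyMap _ _).1 inferInstance
    exact ⟨(DerivedCategory.homologyFunctor 𝒜 q).mapIso e1.symm ≪≫ e2 ≪≫
      asIso (HomologicalComplex.homologyMap κ q)⟩
  · have e1 := RDPlusLES.theta F m κ' hκ hL
    have e0 : (DerivedCategory.homologyFunctor ℬ m).obj (F.rightDerivedFunctorPlus.obj K).obj ≅
        (RDPlusLES.Phi F m).obj K₀' :=
      (DerivedCategory.Plus.homologyFunctor ℬ m).mapIso (F.rightDerivedFunctorPlus.mapIso eY.symm)
    have e2 : RDPlusLES.HQF F m L ≅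
        ((F.mapHomologicalComplex (ComplexShape.up ℤ)).obj L).homology m :=
      (DerivedCategory.homologyFunctorFactors ℬ m).app _
    exact ⟨e0 ≪≫ e1 ≪≫ e2⟩

variable (PA : 𝒜 → Prop) (PB : ℬ → Prop)
  (hisoA : ∀ {M N : 𝒜}, (M ≅ N) → PA M → PA N)
  (hiso : ∀ {M N : ℬ}, (M ≅ N) → PB M → PB N)
  (hker : ∀ {M N : ℬ} (φ : M ⟶ N), PB M → PB N → PB (kernel φ))
  (hcoker : ∀ {M N : ℬ} (φ : M ⟶ N), PB M → PB N → PB (cokernel φ))
  (hext : ∀ S : ShortComplex ℬ, S.ShortExact → PB S.X₁ → PB S.X₃ → PB S.X₂)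
  (hzero : ∀ Z : ℬ, IsZero Z → PB Z)
  (hF : ∀ G : 𝒜, PA G → ∀ p : ℕ, PB ((F.rightDerived p).obj G))

include hisoA hiso hker hcoker hext hzero hF in
/-- **way-out lemma** for `F.rightDerivedFunctorPlus` -/
theorem wayOut (K : DerivedCategory.Plus 𝒜)
    (hK : ∀ q : ℤ, PA ((DerivedCategory.homologyFunctor 𝒜 q).obj K.obj)) (m : ℤ) :
    PB ((DerivedCategory.homologyFunctor ℬ m).obj (F.rightDerivedFunctorPlus.obj K).obj) := by
  obtain ⟨L, n, hn, hL, h1, h2⟩ := exists_injective_model F K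
  haveI := hn
  obtain ⟨e2⟩ := h2 m
  refine hiso e2.symm (prop_homology_map_of_injective F PA PB hisoA hiso hker hcoker hext hzero hF
    L hL n (fun q => ?_) m)
  obtain ⟨e1⟩ := h1 q
  exact hisoA e1 (hK q)

end DPlus

end Groth.Agent.Lib.WayOutH2
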