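import Mathlib
import Groth.Prelude
import Groth.Agent.Lib.ClHom1_helper4
import Groth.Agent.Lib.SheafHomLF1_helper9
import Groth.Agent.Lib.ExtZQCoh1_helper2
import Groth.Agent.Lib.ExtShCoh1_helper2
import Groth.Agent.Lib.CohDev11_helper8
import Groth.Agent.Lib.CohDev8_helper8
import Groth.Agent.Lib.RelPCQc_helper3
import Groth.Agent.Lib.RelPCProp1_helper3
import Groth.Agent.Lib.WayOut1_helper2
import Groth.Agent.Lib.CohSerre_helper3
import Groth.Agent.Lib.ModPushDer_helper2

/-!
# `R Hom(O_Z, -)` preserves quasi-coherent / coherent cohomology (helper2)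

For a closed immersion `i : Z ⟶ X` with `X` locally Noetherian:
* `pushHomOIso`: `i_* Hom(O_Z, -) ≅ ℋom_X(i_* O_Z, -)`;
* `isQCoh_rightDerived_homO`, `isCoh_rightDerived_homO`: `R^p Hom(O_Z, G)` is quasi-coherent
  (coherent) for `G` quasi-coherent (coherent);
* `main3632`, `main3633`: S3632, S3633 by the way-out lemma `WayOutH2.wayOut`.
APPEND-ONLY once landed.
-/

set_option autoImplicit false
set_option maxHeartbeats 1600000
set_option linter.style.haveILetI false
universe u
open CategoryTheory CategoryTheory.Limits Opposite AlgebraicGeometry TopologicalSpace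

namespace Groth.Agent.Lib.HomOCohH2

open ModSite Groth.Agent.Lib.ModSiteH8 Groth.Agent.Lib.ClHomH4 Groth.Agent.Lib.ExtZQCohH2

attribute [local instance] Groth.Agent.Lib.RelExtSchH2.hsh Groth.Agent.Lib.ExtShCohH2.hir

section Site

variable {C : Type u} [SmallCategory C] {J : GrothendieckTopology C}
variable (O : Sheaf J CommRingCat.{u})

/-- `ℋom(O, -) ≅ id` -/
noncomputable def sheafHomUnitIso [HasSheafHom (ModSite.unit O)] :
    sheafHom (O := O) (ModSite.unit O) ≅ 𝟭 (Mod O) :=
  Adjunction.rightAdjointUniq (sheafHomAdj (ModSite.unit O))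
    ((Adjunction.id (C := Mod O)).ofNatIsoLeft (SheafHomLFH9.rightUnitor O).symm)

end Site

variable {Z X : Scheme.{u}} (i : Z ⟶ X) [IsClosedImmersion i]

/-- `i_* Hom(O_Z, -) ≅ ℋom_X(i_* O_Z, -)` -/
noncomputable def pushHomOIso :
    Dual3.homO i ⋙ Scheme.Modules.pushforward i ≅
      sheafHom (O := X.sheaf) ((Scheme.Modules.pushforward i).obj (ModSite.unit Z.sheaf)) :=
  Functor.isoWhiskerRight
    ((Functor.rightUnitor (Dual3.homO i)).symm ≪≫
      Functor.isoWhiskerLeft (Dual3.homO i) (sheafHomUnitIso Z.sheaf).symm)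
    (Scheme.Modules.pushforward i) ≪≫
  homAIso i (ModSite.unit Z.sheaf)

theorem isCoh_push_unit [IsLocallyNoetherian X] :
    Coh.IsCoh ((Scheme.Modules.pushforward i).obj (ModSite.unit Z.sheaf)) :=
  CohDevH8.isCoh_pushforward_of_isFinite i (CohDevH8.isCoh_structureModule Z)

/-- `i_* R^p Hom(O_Z, G) ≅ ℰxt^p_X(i_* O_Z, G)` -/
theorem nonempty_push_rightDerived_homO_iso [EnoughInjectives X.Modules] (G : X.Modules) (p : ℕ) :
    Nonempty ((Scheme.Modules.pushforward i).obj (((Dual3.homO i).rightDerived p).obj G) ≅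
      (ModSite.extSh (O := X.sheaf)
        ((Scheme.Modules.pushforward i).obj (ModSite.unit Z.sheaf)) p).obj G) := by
  have e1 := (Groth.Agent.Lib.ModFree.rightDerivedCompExactIso (Dual3.homO i)
    (Scheme.Modules.pushforward i) G p).symm
  have hadd : (sheafHom (O := X.sheaf)
      ((Scheme.Modules.pushforward i).obj (ModSite.unit Z.sheaf))).Additive :=
    ModSite.sheafHom_additive _ _
  have hadd2 : (Dual3.homO i ⋙ Scheme.Modules.pushforward i).Additive := inferInstance
  have e2 := (@ExtDer.rightDerivedIso X.Modules X.Modules _ _ _ _ _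
    (Dual3.homO i ⋙ Scheme.Modules.pushforward i)
    (sheafHom (O := X.sheaf) ((Scheme.Modules.pushforward i).obj (ModSite.unit Z.sheaf)))
    hadd2 hadd (pushHomOIso i) p).app G
  exact ⟨e1 ≪≫ e2⟩

theorem isQCoh_rightDerived_homO [IsLocallyNoetherian X] [EnoughInjectives X.Modules]
    (G : X.Modules) (hG : Coh.IsQCoh G) (p : ℕ) :
    Coh.IsQCoh (((Dual3.homO i).rightDerived p).obj G) := by
  obtain ⟨e⟩ := nonempty_push_rightDerived_homO_iso i G p
  apply Groth.Agent.Lib.RelPCQcH3.isQuasicoherent_of_pushforward i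
  exact qc_iso e.symm (isQCoh_extSh p X _ G (isCoh_push_unit i) hG)

theorem isCoh_rightDerived_homO [IsLocallyNoetherian X] [EnoughInjectives X.Modules]
    (G : X.Modules) (hG : Coh.IsCoh G) (p : ℕ) :
    Coh.IsCoh (((Dual3.homO i).rightDerived p).obj G) := by
  obtain ⟨e⟩ := nonempty_push_rightDerived_homO_iso i G p
  apply Groth.Agent.Lib.RelPCPropH3.isCoh_of_pushforward i
  exact Groth.Agent.Lib.RelPCPropH3.isCoh_of_iso e
    (Groth.Agent.Lib.ExtShCohH2.isCoh_extSh p X _ G (isCoh_push_unit i) hG)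

attribute [local instance] HasDerivedCategory.standard

/-- **S3632** -/
theorem main3632 [IsLocallyNoetherian X] [Dual3.HasHomO i] [EnoughInjectives X.Modules]
    (K : DerivedCategory.Plus X.Modules) (hK : DCoh.IsQCohD K.obj) :
    DCoh.IsQCohD ((Dual3.RHomOPlus i).obj K).obj := by
  intro m
  exact Groth.Agent.Lib.WayOutH2.wayOut (Dual3.homO i) (fun M : X.Modules => Coh.IsQCoh M)
    (fun M : Z.Modules => Coh.IsQCoh M)
    (fun e h => qc_iso e h) (fun e h => qc_iso e h) (fun φ hM hN => qc_ker φ hM hN)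
    (fun φ hM hN => qc_coker φ hM hN) (fun S hS h1 h3 => qc_ext S hS h1 h3)
    (fun Z hZ => qc_zero Z hZ) (fun G hG p => isQCoh_rightDerived_homO i G hG p) K hK m

/-- **S3633** -/
theorem main3633 [IsLocallyNoetherian X] [Dual3.HasHomO i] [EnoughInjectives X.Modules]
    (K : DerivedCategory.Plus X.Modules) (hK : DCoh.IsCohD K.obj) :
    DCoh.IsCohD ((Dual3.RHomOPlus i).obj K).obj := by
  haveI : IsLocallyNoetherian Z := LocallyOfFiniteType.isLocallyNoetherian i
  intro m
  exact Groth.Agent.Lib.WayOutH2.wayOut (Dual3.homO i) (fun M : X.Modules => Coh.IsCoh M)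
    (fun M : Z.Modules => Coh.IsCoh M)
    (fun e h => Groth.Agent.Lib.CohSerreH3.isCoh_of_iso e h)
    (fun e h => Groth.Agent.Lib.CohSerreH3.isCoh_of_iso e h)
    (fun φ hM hN => CohKerH8.isCoh_kernel hM hN φ)
    (fun φ hM hN => CohKerH8.isCoh_cokernel hM hN φ)
    (fun S hS h1 h3 => Groth.Agent.Lib.CohSerreH3.isCoh_of_shortExact S hS h1 h3)
    (fun Z hZ => Groth.Agent.Lib.LocTorCohH3.isCoh_of_isZero' hZ)
    (fun G hG p => isCoh_rightDerived_homO i G hG p) K hK m

end Groth.Agent.Lib.HomOCohH2
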