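import Mathlib
import Groth.Prelude
import Groth.Agent.Lib.ExtCartier_helper4
import Groth.Agent.Lib.HomOCoh1_helper2
import Groth.Agent.Lib.Bridge_helper9
import Groth.Agent.Lib.ClHom1_helper4

/-!
# `R Hom(O_D, O_X) = N[-1]` for an effective Cartier divisor (helper2)

* `nonempty_HRF_single_iso`, `isZero_HRF_single_of_neg`: for `K ∈ D⁺(𝒜)` isomorphic to `G[0]`,
  `H^n(RF(K)) ≅ R^nF(G)` and `H^j(RF(K)) = 0` for `j < 0`.
* site level: `mono_sheafHomMap_app_unit`.
* `isZero_sheafHom_quot`, `isZero_extSh_quot`, `nonempty_tensor_iso_push_pullback`, `main3639`.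
APPEND-ONLY once landed.
-/

set_option autoImplicit false
set_option maxHeartbeats 1600000
set_option linter.style.haveILetI false
universe u
open CategoryTheory CategoryTheory.Limits Opposite AlgebraicGeometry TopologicalSpace

namespace Groth.Agent.Lib.CartierRHomH2

section Abstract

universe w w' v v' u₁ u₂

variable {𝒜 : Type u₁} [Category.{v} 𝒜] [Abelian 𝒜] [HasDerivedCategory.{w} 𝒜] [EnoughInjectives 𝒜]
  {ℬ : Type u₂} [Category.{v'} ℬ] [Abelian ℬ] [HasDerivedCategory.{w'} ℬ] (F : 𝒜 ⥤ ℬ) [F.Additive]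

/-- an object of `D⁺` isomorphic to `G[0]` in `D` is isomorphic to the image of the single complex -/
noncomputable def isoQhSingle (K : DerivedCategory.Plus 𝒜) (G : 𝒜)
    (e : K.obj ≅ (DerivedCategory.singleFunctor 𝒜 0).obj G) :
    K ≅ DerivedCategory.Plus.Qh.obj
      ((HomotopyCategory.Plus.quotient 𝒜).obj (RDPlusSingle.singleObj G)) :=
  DerivedCategory.Plus.ι.preimageIso (e ≪≫ Iso.refl _)

/-- `H^n(RF(K)) ≅ R^nF(G)` for `K ≅ G[0]` -/
theorem nonempty_HRF_single_iso (K : DerivedCategory.Plus 𝒜) (G : 𝒜)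
    (e : K.obj ≅ (DerivedCategory.singleFunctor 𝒜 0).obj G) (n : ℕ) :
    Nonempty ((DerivedCategory.homologyFunctor ℬ (n : ℤ)).obj
        (F.rightDerivedFunctorPlus.obj K).obj ≅ (F.rightDerived n).obj G) := by
  have e0 : (DerivedCategory.homologyFunctor ℬ (n : ℤ)).obj (F.rightDerivedFunctorPlus.obj K).obj ≅
      (RDPlusLES.Phi F (n : ℤ)).obj (RDPlusSingle.singleObj G) :=
    (DerivedCategory.Plus.homologyFunctor ℬ (n : ℤ)).mapIso
      (F.rightDerivedFunctorPlus.mapIso (isoQhSingle K G e))
  exact ⟨e0 ≪≫ Bridge.bridge F G n⟩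

/-- `H^j(RF(K)) = 0` for `j < 0` and `K ≅ G[0]` -/
theorem isZero_HRF_single_of_neg (K : DerivedCategory.Plus 𝒜) (G : 𝒜)
    (e : K.obj ≅ (DerivedCategory.singleFunctor 𝒜 0).obj G) (j : ℤ) (hj : j < 0) :
    IsZero ((DerivedCategory.homologyFunctor ℬ j).obj (F.rightDerivedFunctorPlus.obj K).obj) := by
  have e0 : (DerivedCategory.homologyFunctor ℬ j).obj (F.rightDerivedFunctorPlus.obj K).obj ≅
      (RDPlusLES.Phi F j).obj (RDPlusSingle.singleObj G) :=
    (DerivedCategory.Plus.homologyFunctor ℬ j).mapIso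
      (F.rightDerivedFunctorPlus.mapIso (isoQhSingle K G e))
  let I := injectiveResolution G
  let L : CochainComplex.Plus 𝒜 := ⟨I.cochainComplex, 0, inferInstance⟩
  let p : RDPlusSingle.singleObj G ⟶ L := ObjectProperty.homMk I.ι'
  have hp : QuasiIso p.hom := (inferInstance : QuasiIso I.ι')
  have hL : ∀ q, Injective (L.obj.X q) := fun q => (inferInstance : Injective (I.cochainComplex.X q))
  have e1 := RDPlusLES.theta F j p hp hL ≪≫ Bridge.hqfIso F j I.cochainComplex
  refine IsZero.of_iso ?_ (e0 ≪≫ e1)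
  haveI : CochainComplex.IsStrictlyGE
      ((F.mapHomologicalComplex (ComplexShape.up ℤ)).obj I.cochainComplex) 0 := inferInstance
  exact CochainComplex.isZero_of_isGE _ 0 j hj

end Abstract

section Site
open ModSite Groth.Agent.Lib.ModSiteH8 Groth.Agent.Lib.TensorAssoc Groth.Agent.TensInv SheafHomLFH9
open Groth.Agent.Lib.ExtCartierH4

variable {C : Type u} [SmallCategory C] {J : GrothendieckTopology C}
variable (O : Sheaf J CommRingCat.{u})

attribute [local instance] hshS

/-- `Z ⊗ I ⟶ Z ⊗ O` is a monomorphism for `Z ≅ O` and `I ⟶ O` a monomorphism -/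
theorem mono_tensor_map_of_iso_unit {I : Mod O} (ι : I ⟶ ModSite.unit O) [Mono ι] (Z : Mod O)
    (e : Z ≅ ModSite.unit O) : Mono (((tensorBi O).obj Z).map ι) := by
  have h1 : ((tensorBi O).obj (ModSite.unit O)).map ι =
      (unitorObj O).hom.app I ≫ ι ≫ (unitorObj O).inv.app (ModSite.unit O) := by
    have h := (unitorObj O).hom.naturality ι
    simp only [Functor.id_map] at h
    rw [← reassoc_of% h]
    simp
  have h2 : ((tensorBi O).obj Z).map ι =
      ((tensorBi O).map e.hom).app I ≫ ((tensorBi O).obj (ModSite.unit O)).map ι ≫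
        ((tensorBi O).map e.inv).app (ModSite.unit O) := by
    have h := ((tensorBi O).map e.hom).naturality ι
    rw [← reassoc_of% h, ← NatTrans.comp_app, ← CategoryTheory.Functor.map_comp, e.hom_inv_id,
      CategoryTheory.Functor.map_id]
    simp
  rw [h2, h1]
  haveI : IsIso (((tensorBi O).map e.hom).app I) := inferInstance
  haveI : IsIso (((tensorBi O).map e.inv).app (ModSite.unit O)) := inferInstance
  infer_instance

/-- `ℋom(O, O) ⟶ ℋom(I, O)` is a monomorphism for an invertible ideal `I` -/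
theorem mono_sheafHomMap_app_unit {I : Mod O} (ι : I ⟶ ModSite.unit O) [Mono ι] (L : Mod O)
    (eL : ((tensorBi O).obj L).obj I ≅ ModSite.unit O) :
    Mono ((ExtSupp.sheafHomMap (O := O) ι).app (ModSite.unit O)) := by
  haveI hTO := isEquivalence_flip_unit O
  haveI hTI : ((tensorBi O).flip.obj I).IsEquivalence :=
    isEquivalence_flip O I L (swapInv O L I eL)
  obtain ⟨eω⟩ := nonempty_sheafHom_unit_iso O (ModSite.unit O)
  haveI hm : Mono (((tensorBi O).flip.map ι).app
      ((ModSite.sheafHom (O := O) (ModSite.unit O)).obj (ModSite.unit O))) :=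
    mono_tensor_map_of_iso_unit O ι _ eω
  haveI : (ModSite.sheafHom (O := O) I).PreservesMonomorphisms :=
    Functor.preservesMonomorphisms_of_adjunction (ModSite.sheafHomAdj I)
  show Mono ((conjugateEquiv (ModSite.sheafHomAdj (ModSite.unit O)) (ModSite.sheafHomAdj I)
    ((tensorBi O).flip.map ι)).app (ModSite.unit O))
  rw [conjugateEquiv_apply_app]
  haveI : IsIso ((ModSite.sheafHomAdj (ModSite.unit O)).counit.app (ModSite.unit O)) := inferInstance
  haveI : IsIso ((ModSite.sheafHomAdj I).unit.app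
    ((ModSite.sheafHom (O := O) (ModSite.unit O)).obj (ModSite.unit O))) := inferInstance
  haveI : Mono ((ModSite.sheafHom (O := O) I).map (((tensorBi O).flip.map ι).app
      ((ModSite.sheafHom (O := O) (ModSite.unit O)).obj (ModSite.unit O)))) := by
    apply Functor.map_mono
  infer_instance

end Site

section Main
open ModSite Groth.Agent.Lib.ModSiteH8 Groth.Agent.Lib.ContraLESH2 Groth.Agent.Lib.RelExtSchH2
open Groth.Agent.TensInv SheafHomLFH9 Groth.Agent.Lib.ExtCartierH4

variable {X D : Scheme.{u}} (i : D ⟶ X) [IsClosedImmersion i]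

attribute [local instance] hsh Groth.Agent.Lib.ExtShCohH2.hir

/-- `ℋom(i_* O_D, O_X) = 0` when the ideal of `D` is invertible -/
theorem isZero_sheafHom_quot (L : X.Modules) (hL : ClSub.IsInverseOf L (ClSub.idealMod i.ker)) :
    IsZero ((ModSite.sheafHom (O := X.sheaf)
      ((Scheme.Modules.pushforward i).obj (Coh.structureModule D))).obj
        (ModSite.unit X.sheaf)) := by
  obtain ⟨eL⟩ := hL
  have hS := sesCl_shortExact i
  have hΦ := isGood_homFX X
  haveI hmono1 := hΦ.mono (sesCl i) hS (ModSite.unit X.sheaf)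
  have hex := hΦ.exact (sesCl i) hS (ModSite.unit X.sheaf)
    (hΦ.app_comp_zero _ _ (sesCl i).zero _)
  have hι : Mono (ClSub.idealModι i.ker) :=
    inferInstanceAs (Mono (kernel.ι (ClSub.toSubscheme i.ker)))
  have hmono2 : Mono (((homFX X).map (sesCl i).f.op).app (ModSite.unit X.sheaf)) :=
    @mono_sheafHomMap_app_unit _ _ _ X.sheaf _ (ClSub.idealModι i.ker) hι L eL
  have h0 : ((homFX X).map (sesCl i).g.op).app (ModSite.unit X.sheaf) = 0 :=
    hex.mono_g_iff.1 hmono2
  exact @IsZero.of_mono_eq_zero _ _ _ _ _ _ hmono1 h0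

/-- `ℰxt^0(M, ω) = 0` if `ℋom(M, ω) = 0` -/
theorem isZero_extSh_zero (M ω : ModSite.Mod X.sheaf)
    (h : IsZero ((ModSite.sheafHom (O := X.sheaf) M).obj ω)) :
    IsZero ((ModSite.extSh (O := X.sheaf) M 0).obj ω) := by
  haveI : PreservesFiniteLimits (ModSite.sheafHom (O := X.sheaf) M) := by
    haveI := (ModSite.sheafHomAdj (O := X.sheaf) M).isRightAdjoint
    infer_instance
  exact IsZero.of_iso h
    ((Functor.rightDerivedZeroIsoSelf (ModSite.sheafHom (O := X.sheaf) M)).app ω)

/-- `ℰxt^{p+2}(i_* O_D, ω) = 0` when the ideal of `D` is invertible -/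
theorem isZero_extSh_quot (L : X.Modules) (hL : ClSub.IsInverseOf L (ClSub.idealMod i.ker))
    (ω : ModSite.Mod X.sheaf) (p : ℕ) :
    IsZero ((ModSite.extSh (O := X.sheaf)
      ((Scheme.Modules.pushforward i).obj (Coh.structureModule D)) (p + 2)).obj ω) := by
  obtain ⟨eL⟩ := hL
  have hS := sesCl_shortExact i
  have hΦ := isGood_homFX X
  obtain ⟨-, -, δ, hδ⟩ := hΦ.les (sesCl i) hS ω
  obtain ⟨w, hex⟩ := (hδ (p + 1)).2
  haveI hTO := isEquivalence_flip_unit X.sheaf
  haveI hRO : (ModSite.sheafHom (O := X.sheaf) (ModSite.unit X.sheaf)).IsEquivalence :=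
    (ModSite.sheafHomAdj (ModSite.unit X.sheaf)).isEquivalence_right_of_isEquivalence_left
  haveI hTI : ((tensorBi X.sheaf).flip.obj (ClSub.idealMod i.ker)).IsEquivalence :=
    isEquivalence_flip X.sheaf _ L (swapInv X.sheaf L _ eL)
  haveI hRI : (ModSite.sheafHom (O := X.sheaf) (ClSub.idealMod i.ker)).IsEquivalence :=
    (ModSite.sheafHomAdj (ClSub.idealMod i.ker)).isEquivalence_right_of_isEquivalence_left
  have h1 : IsZero ((((homFX X).obj (op (sesCl i).X₁)).rightDerived (p + 1)).obj ω) := by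
    haveI : PreservesFiniteColimits ((homFX X).obj (op (sesCl i).X₁)) := by
      show PreservesFiniteColimits (ModSite.sheafHom (O := X.sheaf) (ClSub.idealMod i.ker))
      infer_instance
    exact isZero_rightDerived_of_exact (A := ModSite.Mod X.sheaf) (B := ModSite.Mod X.sheaf)
      ((homFX X).obj (op (sesCl i).X₁)) ω p
  have h2 : IsZero ((((homFX X).obj (op (sesCl i).X₂)).rightDerived (p + 1 + 1)).obj ω) := by
    haveI : PreservesFiniteColimits ((homFX X).obj (op (sesCl i).X₂)) := by
      show PreservesFiniteColimits (ModSite.sheafHom (O := X.sheaf) (ModSite.unit X.sheaf))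
      infer_instance
    exact isZero_rightDerived_of_exact (A := ModSite.Mod X.sheaf) (B := ModSite.Mod X.sheaf)
      ((homFX X).obj (op (sesCl i).X₂)) ω (p + 1)
  exact hex.isZero_of_both_isZero h1 h2

/-- `i_* O_D ⊗ (L ⊗ O_X) ≅ i_* i^* L` -/
theorem nonempty_tensor_iso_push_pullback (L : X.Modules) :
    Nonempty (CohB1.tensorMod ((Scheme.Modules.pushforward i).obj (Coh.structureModule D))
        (CohB1.tensorMod L (Coh.structureModule X)) ≅
      (Scheme.Modules.pushforward i).obj ((Scheme.Modules.pullback i).obj L)) := by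
  have e1 : ((tensorBi X.sheaf).obj L).obj (ModSite.unit X.sheaf) ≅ L := rhoIso X.sheaf L
  have e2 := ((tensorBi X.sheaf).obj
    ((Scheme.Modules.pushforward i).obj (Coh.structureModule D))).mapIso e1
  have e3 := (Groth.Agent.Lib.ClHomH4.pjIso i (Coh.structureModule D)).app L
  have e4 : ((tensorBi D.sheaf).obj (ModSite.unit D.sheaf)).obj ((Scheme.Modules.pullback i).obj L) ≅
      (Scheme.Modules.pullback i).obj L := (unitorObj D.sheaf).app _
  exact ⟨e2 ≪≫ e3 ≪≫ (Scheme.Modules.pushforward i).mapIso e4⟩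

attribute [local instance] HasDerivedCategory.standard

/-- **S3639** -/
theorem main3639 (X : Scheme.{u}) (I : X.IdealSheafData) [Dual3.HasHomO I.subschemeι]
    [EnoughInjectives X.Modules] (L : X.Modules) (hL : ClSub.IsInverseOf L (ClSub.idealMod I))
    (O : DerivedCategory.Plus X.Modules)
    (hO : Nonempty (O.obj ≅ DCoh.inD X (Coh.structureModule X))) :
    (∀ j : ℤ, j ≠ 1 → IsZero (DCoh.HD ((Dual3.RHomOPlus I.subschemeι).obj O).obj j)) ∧
      Nonempty (DCoh.HD ((Dual3.RHomOPlus I.subschemeι).obj O).obj 1 ≅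
        (Scheme.Modules.pullback I.subschemeι).obj L) := by
  obtain ⟨e⟩ := hO
  have hL' : ClSub.IsInverseOf L (ClSub.idealMod I.subschemeι.ker) := by
    rw [I.ker_subschemeι]
    exact hL
  have hrefl : ∀ M : I.subscheme.Modules,
      IsZero ((Scheme.Modules.pushforward I.subschemeι).obj M) → IsZero M := by
    intro M hM
    rw [IsZero.iff_id_eq_zero]
    apply (Scheme.Modules.pushforward I.subschemeι).map_injective
    rw [CategoryTheory.Functor.map_id, Functor.map_zero]
    exact (IsZero.iff_id_eq_zero _).1 hM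
  have key : ∀ n : ℕ, Nonempty ((Scheme.Modules.pushforward I.subschemeι).obj
      (DCoh.HD ((Dual3.RHomOPlus I.subschemeι).obj O).obj (n : ℤ)) ≅
      (ModSite.extSh (O := X.sheaf) ((Scheme.Modules.pushforward I.subschemeι).obj
        (Coh.structureModule I.subscheme)) n).obj (Coh.structureModule X)) := by
    intro n
    obtain ⟨e1⟩ := nonempty_HRF_single_iso (Dual3.homO I.subschemeι) O (Coh.structureModule X) e n
    obtain ⟨e2⟩ := Groth.Agent.Lib.HomOCohH2.nonempty_push_rightDerived_homO_iso I.subschemeι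
      (Coh.structureModule X) n
    exact ⟨(Scheme.Modules.pushforward I.subschemeι).mapIso e1 ≪≫ e2⟩
  constructor
  · intro j hj
    by_cases hneg : j < 0
    · exact isZero_HRF_single_of_neg (Dual3.homO I.subschemeι) O _ e j hneg
    · obtain ⟨n, rfl⟩ := Int.eq_ofNat_of_zero_le (not_lt.1 hneg)
      obtain ⟨e1⟩ := key n
      apply hrefl
      refine IsZero.of_iso ?_ e1
      rcases n with _ | _ | n
      · exact isZero_extSh_zero _ _ (isZero_sheafHom_quot I.subschemeι L hL')
      · exact absurd rfl hj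
      · exact isZero_extSh_quot I.subschemeι L hL' _ n
  · obtain ⟨e1⟩ := key 1
    obtain ⟨e2⟩ := main11902 I.subschemeι L hL' (Coh.structureModule X)
    obtain ⟨e3⟩ := nonempty_tensor_iso_push_pullback I.subschemeι L
    exact ⟨(Scheme.Modules.pushforward I.subschemeι).preimageIso (e1 ≪≫ e2 ≪≫ e3)⟩

end Main

end Groth.Agent.Lib.CartierRHomH2
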