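import Mathlib

set_option autoImplicit false
set_option maxHeartbeats 1000000

/-!
# Krull intersection for the augmentation ideal of a connected affine algebraic group
(helper1).  `HopfKrullH1.main`: for a finitely generated commutative Hopf algebra `A` over an
algebraically closed field with only trivial idempotents, `⋂ m^n = 0` for `m = ker ε`.
-/

namespace HopfKrullH1

open TensorProduct WithConv

universe u v

section Krull

theorem krull {B : Type*} [CommRing B] [IsNoetherianRing B] (I : Ideal B) (x : B)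
    (hx : x ∈ ⨅ n : ℕ, I ^ n) : ∃ r ∈ I, r * x = x := by
  have h : x ∈ (⨅ i : ℕ, I ^ i • ⊤ : Submodule B B) := by
    rw [Submodule.mem_iInf]
    intro i
    have hi : x ∈ I ^ i := (Ideal.mem_iInf.mp hx) i
    show x ∈ I ^ i * ⊤
    rw [Ideal.mul_top]; exact hi
  obtain ⟨r, hr⟩ := (Ideal.mem_iInf_smul_pow_eq_bot_iff I x).mp h
  exact ⟨r.1, r.2, hr⟩

end Krull

variable {k : Type u} [Field k] {A : Type v} [CommRing A] [HopfAlgebra k A]

/-- scalar-valued point to `A`-valued point -/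
noncomputable def iota (g : WithConv (A →ₐ[k] k)) : WithConv (A →ₐ[k] A) :=
  toConv ((Algebra.ofId k A).comp g.ofConv)

theorem iota_mul (g h : WithConv (A →ₐ[k] k)) : iota (g * h) = iota g * iota h := by
  apply WithConv.ext
  exact AlgHom.comp_convMul_distrib (Algebra.ofId k A) g h

theorem iota_one : iota (1 : WithConv (A →ₐ[k] k)) = 1 := by
  apply WithConv.ext
  apply AlgHom.ext
  intro x
  rfl

/-- left translation by the point `g` -/
noncomputable def tau (g : WithConv (A →ₐ[k] k)) : A →ₐ[k] A :=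
  (iota g * toConv (AlgHom.id k A)).ofConv

theorem comp_tau (u : A →ₐ[k] k) (g : WithConv (A →ₐ[k] k)) :
    u.comp (tau g) = (g * toConv u).ofConv := by
  have h1 : u.comp (iota g).ofConv = g.ofConv := by
    apply AlgHom.ext; intro x
    simp [iota]
  have h2 : u.comp (toConv (AlgHom.id k A)).ofConv = u := AlgHom.comp_id u
  calc u.comp (tau g)
      = ofConv (toConv (u.comp (iota g).ofConv) *
          toConv (u.comp (toConv (AlgHom.id k A)).ofConv)) :=
        AlgHom.comp_convMul_distrib u (iota g) (toConv (AlgHom.id k A))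
    _ = (g * toConv u).ofConv := by rw [h1, h2, toConv_ofConv]

theorem apply_tau (u : A →ₐ[k] k) (g : WithConv (A →ₐ[k] k)) (x : A) :
    u (tau g x) = (g * toConv u).ofConv x :=
  DFunLike.congr_fun (comp_tau u g) x

theorem tau_comp_tau (g h : WithConv (A →ₐ[k] k)) : (tau h).comp (tau g) = tau (g * h) := by
  have h1 : (tau h).comp (iota g).ofConv = (iota g).ofConv := by
    apply AlgHom.ext; intro x
    simp [iota]
  have h2 : (tau h).comp (toConv (AlgHom.id k A)).ofConv = tau h := AlgHom.comp_id _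
  calc (tau h).comp (tau g)
      = ofConv (toConv ((tau h).comp (iota g).ofConv) *
          toConv ((tau h).comp (toConv (AlgHom.id k A)).ofConv)) :=
        AlgHom.comp_convMul_distrib (tau h) (iota g) (toConv (AlgHom.id k A))
    _ = ofConv (iota g * toConv (tau h)) := by rw [h1, h2, toConv_ofConv]
    _ = ofConv (iota g * (iota h * toConv (AlgHom.id k A))) := rfl
    _ = ofConv ((iota g * iota h) * toConv (AlgHom.id k A)) := by rw [mul_assoc]
    _ = tau (g * h) := by rw [← iota_mul]; rfl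

theorem tau_one : tau (1 : WithConv (A →ₐ[k] k)) = AlgHom.id k A := by
  unfold tau; rw [iota_one, one_mul]

theorem toConv_counit :
    toConv (Bialgebra.counitAlgHom k A) = (1 : WithConv (A →ₐ[k] k)) := by
  apply WithConv.ext; apply AlgHom.ext; intro x; rfl

theorem counit_tau (g : WithConv (A →ₐ[k] k)) (x : A) :
    Bialgebra.counitAlgHom k A (tau g x) = g.ofConv x := by
  have := comp_tau (Bialgebra.counitAlgHom k A) g
  rw [toConv_counit, mul_one] at this
  exact DFunLike.congr_fun this x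

/-- translation as an algebra automorphism -/
noncomputable def sig (g : WithConv (A →ₐ[k] k)) : A ≃ₐ[k] A :=
  AlgEquiv.ofAlgHom (tau g) (tau g⁻¹)
    (by rw [tau_comp_tau, inv_mul_cancel, tau_one])
    (by rw [tau_comp_tau, mul_inv_cancel, tau_one])

variable (k A) in
/-- intersection of the powers of the augmentation ideal -/
noncomputable abbrev JJ : Ideal A := ⨅ n : ℕ, RingHom.ker (Bialgebra.counitAlgHom k A) ^ n

theorem mem_JJ_of_local (y s : A) (hs : Bialgebra.counitAlgHom k A s ≠ 0) (h : s * y = 0) :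
    y ∈ JJ k A := by
  have hrm : (1 - (Bialgebra.counitAlgHom k A s)⁻¹ • s) ∈
      RingHom.ker (Bialgebra.counitAlgHom k A) := by
    rw [RingHom.mem_ker, map_sub, map_one, map_smul, smul_eq_mul, inv_mul_cancel₀ hs, sub_self]
  have hry : (1 - (Bialgebra.counitAlgHom k A s)⁻¹ • s) * y = y := by
    rw [sub_mul, one_mul, smul_mul_assoc, h, smul_zero, sub_zero]
  have hpow : ∀ n : ℕ, (1 - (Bialgebra.counitAlgHom k A s)⁻¹ • s) ^ n * y = y := by
    intro n
    induction n with
    | zero => simp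
    | succ n ih => rw [pow_succ, mul_assoc, hry, ih]
  rw [Ideal.mem_iInf]
  intro n
  rw [← hpow n]
  exact Ideal.mul_mem_right _ _ (Ideal.pow_mem_pow hrm n)

theorem local_of_mem_JJ [IsNoetherianRing A] (x : A) (hx : x ∈ JJ k A) :
    ∃ s : A, Bialgebra.counitAlgHom k A s ≠ 0 ∧ s * x = 0 := by
  obtain ⟨r, hr, hrx⟩ := krull _ x hx
  refine ⟨1 - r, ?_, ?_⟩
  · rw [map_sub, map_one, (RingHom.mem_ker).mp hr, sub_zero]; exact one_ne_zero
  · rw [sub_mul, one_mul, hrx, sub_self]

/-- `JJ` vanishes locally at the point `g`. -/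
def P (g : WithConv (A →ₐ[k] k)) : Prop :=
  ∀ x ∈ JJ k A, ∃ s : A, g.ofConv s ≠ 0 ∧ s * x = 0

theorem tau_mem_of_P (g : WithConv (A →ₐ[k] k)) (hg : P g) (x : A) (hx : x ∈ JJ k A) :
    tau g x ∈ JJ k A := by
  obtain ⟨s, hs, hsx⟩ := hg x hx
  apply mem_JJ_of_local (tau g x) (tau g s)
  · rw [counit_tau]; exact hs
  · rw [← map_mul, hsx, map_zero]

theorem P_of_tau_mem [IsNoetherianRing A] (g : WithConv (A →ₐ[k] k))
    (h : ∀ x ∈ JJ k A, tau g x ∈ JJ k A) : P g := by
  intro x hx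
  obtain ⟨s, hs, hsx⟩ := local_of_mem_JJ (tau g x) (h x hx)
  have hss : tau g ((sig g).symm s) = s := (sig g).apply_symm_apply s
  refine ⟨(sig g).symm s, ?_, ?_⟩
  · rw [← counit_tau g, hss]; exact hs
  · apply (sig g).injective
    rw [map_mul, map_zero, AlgEquiv.apply_symm_apply]; exact hsx

theorem P_mul [IsNoetherianRing A] (g h : WithConv (A →ₐ[k] k)) (hg : P g) (hh : P h) :
    P (g * h) := by
  apply P_of_tau_mem
  intro x hx
  rw [← tau_comp_tau]
  exact tau_mem_of_P h hh _ (tau_mem_of_P g hg x hx)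

theorem P_inv [IsNoetherianRing A] (g : WithConv (A →ₐ[k] k)) (hg : P g) : P g⁻¹ := by
  apply P_of_tau_mem
  have hmono : ∀ n : ℕ, ∀ x, tau (g ^ n) x ∈ JJ k A → tau (g ^ (n + 1)) x ∈ JJ k A := by
    intro n x hx
    rw [pow_succ, ← tau_comp_tau]
    exact tau_mem_of_P g hg _ hx
  let I : ℕ →o Ideal A :=
    ⟨fun n => Ideal.comap (tau (g ^ n)) (JJ k A),
      monotone_nat_of_le_succ (fun n x hx => hmono n x hx)⟩
  obtain ⟨n, hn⟩ := monotone_stabilizes_iff_noetherian.mpr (inferInstance : IsNoetherian A A) I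
  intro x hx
  have h1 : tau (g ^ (n + 1)) (tau ((g ^ (n + 1))⁻¹) x) = x := by
    have := tau_comp_tau ((g ^ (n + 1))⁻¹) (g ^ (n + 1))
    rw [inv_mul_cancel, tau_one] at this
    exact DFunLike.congr_fun this x
  have h2 : tau ((g ^ (n + 1))⁻¹) x ∈ I (n + 1) := by
    show tau (g ^ (n + 1)) (tau ((g ^ (n + 1))⁻¹) x) ∈ JJ k A
    rw [h1]; exact hx
  rw [← hn (n + 1) (Nat.le_succ n)] at h2
  have h3 : tau (g ^ n) (tau ((g ^ (n + 1))⁻¹) x) ∈ JJ k A := h2
  have h4 : tau (g ^ n) (tau ((g ^ (n + 1))⁻¹) x) = tau g⁻¹ x := by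
    have := tau_comp_tau ((g ^ (n + 1))⁻¹) (g ^ n)
    rw [show (g ^ (n + 1))⁻¹ * g ^ n = g⁻¹ by
      rw [pow_succ, mul_inv_rev, inv_mul_cancel_right]] at this
    exact DFunLike.congr_fun this x
  rw [← h4]; exact h3

theorem exists_ann_of_P [IsNoetherianRing A] (g : WithConv (A →ₐ[k] k)) (hg : P g) :
    ∃ a : A, (∀ x ∈ JJ k A, a * x = 0) ∧ g.ofConv a ≠ 0 := by
  classical
  obtain ⟨S, hS⟩ := (IsNoetherian.noetherian (JJ k A) : (JJ k A).FG)
  have hSJ : ∀ x ∈ S, x ∈ JJ k A := fun x hx => hS ▸ Submodule.subset_span hx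
  have hg' : ∀ x ∈ JJ k A, ∃ s : A, g.ofConv s ≠ 0 ∧ s * x = 0 := hg
  choose! s hs1 hs2 using hg'
  refine ⟨∏ x ∈ S, s x, ?_, ?_⟩
  · intro x hx
    rw [← hS] at hx
    refine Submodule.span_induction (p := fun x _ => (∏ y ∈ S, s y) * x = 0) ?_ ?_ ?_ ?_ hx
    · intro x hx
      rw [← Finset.mul_prod_erase S s hx, mul_comm (s x), mul_assoc, hs2 x (hSJ x hx), mul_zero]
    · rw [mul_zero]
    · intro x y _ _ hx hy
      rw [mul_add, hx, hy, add_zero]
    · intro a x _ hx
      rw [smul_eq_mul, mul_left_comm, hx, mul_zero]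
  · rw [map_prod]
    exact Finset.prod_ne_zero_iff.mpr (fun x hx => hs1 x (hSJ x hx))

theorem P_one [IsNoetherianRing A] : P (1 : WithConv (A →ₐ[k] k)) := by
  intro x hx
  obtain ⟨s, hs, hsx⟩ := local_of_mem_JJ x hx
  refine ⟨s, ?_, hsx⟩
  rw [← toConv_counit]; exact hs

section Null

variable [IsAlgClosed k] [Algebra.FiniteType k A]

theorem exists_point_of_isMaximal (n : Ideal A) (hn : n.IsMaximal) :
    ∃ v : A →ₐ[k] k, ∀ x, x ∈ n ↔ v x = 0 := by
  haveI := hn
  letI : Field (A ⧸ n) := Ideal.Quotient.field n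
  haveI : Algebra.FiniteType k (A ⧸ n) :=
    Algebra.FiniteType.of_surjective (Ideal.Quotient.mkₐ k n) (Ideal.Quotient.mkₐ_surjective k n)
  haveI : Module.Finite k (A ⧸ n) := finite_of_finite_type_of_isJacobsonRing k (A ⧸ n)
  haveI : Algebra.IsIntegral k (A ⧸ n) := Algebra.IsIntegral.of_finite k (A ⧸ n)
  have hbij : Function.Bijective (algebraMap k (A ⧸ n)) :=
    IsAlgClosed.algebraMap_bijective_of_isIntegral
  let e : k ≃ₐ[k] (A ⧸ n) := AlgEquiv.ofBijective (Algebra.ofId k (A ⧸ n)) hbij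
  refine ⟨(e.symm.toAlgHom).comp (Ideal.Quotient.mkₐ k n), fun x => ?_⟩
  constructor
  · intro hx
    have h0 : Ideal.Quotient.mkₐ k n x = 0 := by
      rw [Ideal.Quotient.mkₐ_eq_mk]; exact Ideal.Quotient.eq_zero_iff_mem.mpr hx
    show e.symm (Ideal.Quotient.mkₐ k n x) = 0
    rw [h0, map_zero]
  · intro hx
    have h1 : e.symm (Ideal.Quotient.mkₐ k n x) = 0 := hx
    have h2 : Ideal.Quotient.mkₐ k n x = 0 := by
      have := congrArg e h1
      rwa [AlgEquiv.apply_symm_apply, map_zero] at this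
    rw [Ideal.Quotient.mkₐ_eq_mk] at h2
    exact Ideal.Quotient.eq_zero_iff_mem.mp h2

theorem isNilpotent_of_forall_point (x : A) (h : ∀ v : A →ₐ[k] k, v x = 0) : IsNilpotent x := by
  haveI : IsJacobsonRing A := isJacobsonRing_of_finiteType (A := k) (B := A)
  have hrad : (nilradical A).IsRadical := Ideal.radical_isRadical _
  have hj : (nilradical A).jacobson = nilradical A := IsJacobsonRing.out inferInstance hrad
  rw [← mem_nilradical, ← hj, Ideal.jacobson, Ideal.mem_sInf]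
  rintro n ⟨_, hn⟩
  obtain ⟨v, hv⟩ := exists_point_of_isMaximal (k := k) n hn
  exact (hv x).mpr (h v)

theorem main (hconn : ∀ e : A, IsIdempotentElem e → e = 0 ∨ e = 1) : JJ k A = ⊥ := by
  classical
  haveI : IsNoetherianRing A := Algebra.FiniteType.isNoetherianRing k A
  have mem𝔞 : ∀ a, a ∈ Submodule.annihilator (JJ k A) ↔ ∀ x ∈ JJ k A, a * x = 0 :=
    fun a => Submodule.mem_annihilator
  have hP : ∀ g : WithConv (A →ₐ[k] k),
      P g ↔ ∃ a ∈ Submodule.annihilator (JJ k A), g.ofConv a ≠ 0 := by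
    intro g; constructor
    · intro hg
      obtain ⟨a, ha, hga⟩ := exists_ann_of_P g hg
      exact ⟨a, (mem𝔞 a).mpr ha, hga⟩
    · rintro ⟨a, ha, hga⟩
      exact fun x hx => ⟨a, hga, (mem𝔞 a).mp ha x hx⟩
  obtain ⟨a₀, ha₀, hεa₀⟩ := (hP 1).mp P_one
  have hnil : ∀ (h : WithConv (A →ₐ[k] k)), ¬ P h → ∀ a ∈ Submodule.annihilator (JJ k A),
      ∀ a' ∈ Submodule.annihilator (JJ k A), IsNilpotent (a * tau h⁻¹ a') := by
    intro h hh a ha a' ha'
    apply isNilpotent_of_forall_point (k := k)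
    intro v
    rw [map_mul]
    by_contra hne
    have hva : v a ≠ 0 := left_ne_zero_of_mul hne
    have hva' : v (tau h⁻¹ a') ≠ 0 := right_ne_zero_of_mul hne
    have hPv : P (toConv v) := (hP _).mpr ⟨a, ha, hva⟩
    have hPhv : P (h⁻¹ * toConv v) := by
      refine (hP _).mpr ⟨a', ha', ?_⟩
      rw [← apply_tau]
      exact hva'
    apply hh
    have : P (toConv v * (h⁻¹ * toConv v)⁻¹) := P_mul _ _ hPv (P_inv _ hPhv)
    rwa [mul_inv_rev, inv_inv, mul_inv_cancel_left] at this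
  let gen : Set A := {b | ∃ h : WithConv (A →ₐ[k] k), ¬ P h ∧
    ∃ a' ∈ Submodule.annihilator (JJ k A), b = tau h⁻¹ a'}
  have hab_nil : ∀ a ∈ Submodule.annihilator (JJ k A), ∀ b ∈ Ideal.span gen,
      IsNilpotent (a * b) := by
    intro a ha b hb
    rw [← mem_nilradical]
    refine Submodule.span_induction (p := fun b _ => a * b ∈ nilradical A) ?_ ?_ ?_ ?_ hb
    · rintro b ⟨h, hh, a', ha', rfl⟩
      exact (mem_nilradical).mpr (hnil h hh a ha a' ha')
    · rw [mul_zero]; exact zero_mem _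
    · intro x y _ _ hx hy
      rw [mul_add]; exact add_mem hx hy
    · intro c x _ hx
      rw [smul_eq_mul, mul_left_comm]; exact Ideal.mul_mem_left _ c hx
  have htop : Submodule.annihilator (JJ k A) ⊔ Ideal.span gen = ⊤ := by
    by_contra hne
    obtain ⟨n, hn, hle⟩ := Ideal.exists_le_maximal _ hne
    obtain ⟨v, hv⟩ := exists_point_of_isMaximal (k := k) n hn
    have hvC : ¬ P (toConv v) := by
      rw [hP]; rintro ⟨a, ha, hva⟩
      exact hva ((hv a).mp (hle (Ideal.mem_sup_left ha)))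
    have h0 : v (tau (toConv v)⁻¹ a₀) = 0 :=
      (hv _).mp (hle (Ideal.mem_sup_right
        (Ideal.subset_span ⟨toConv v, hvC, a₀, ha₀, rfl⟩)))
    rw [apply_tau, inv_mul_cancel] at h0
    exact hεa₀ h0
  obtain ⟨a, ha, b, hb, hab⟩ := Submodule.mem_sup.mp
    (htop ▸ Submodule.mem_top : (1 : A) ∈ Submodule.annihilator (JJ k A) ⊔ Ideal.span gen)
  obtain ⟨N, hN⟩ := hab_nil a ha b hb
  have hcop : IsCoprime (a ^ (N + 1)) (b ^ (N + 1)) := by
    have h0 : IsCoprime a b := ⟨1, 1, by rw [one_mul, one_mul, hab]⟩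
    exact h0.pow
  obtain ⟨u, w, huw⟩ := hcop
  have hzero : a ^ (N + 1) * b ^ (N + 1) = 0 := by
    rw [← mul_pow, pow_succ, hN, zero_mul]
  have hidem : IsIdempotentElem (u * a ^ (N + 1)) := by
    show u * a ^ (N + 1) * (u * a ^ (N + 1)) = u * a ^ (N + 1)
    linear_combination (u * a ^ (N + 1)) * huw - (u * w) * hzero
  rcases hconn _ hidem with h0 | h1
  · exfalso
    have hb1 : (1 : A) ∈ Ideal.span gen := by
      have h2 : w * b ^ (N + 1) = 1 := by rw [h0, zero_add] at huw; exact huw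
      rw [← h2]
      exact Ideal.mul_mem_left _ _ (Ideal.pow_mem_of_mem _ hb _ (Nat.succ_pos N))
    obtain ⟨M, hM⟩ := hab_nil a₀ ha₀ 1 hb1
    rw [mul_one] at hM
    have h3 : ((1 : WithConv (A →ₐ[k] k)).ofConv a₀) ^ M = 0 := by
      rw [← map_pow, hM, map_zero]
    exact hεa₀ (IsNilpotent.eq_zero ⟨M, h3⟩)
  · have h1a : (1 : A) ∈ Submodule.annihilator (JJ k A) := by
      rw [← h1]
      exact Ideal.mul_mem_left _ _ (Ideal.pow_mem_of_mem _ ha _ (Nat.succ_pos N))
    rw [eq_bot_iff]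
    intro x hx
    have h2 := (mem𝔞 1).mp h1a x hx
    rw [one_mul] at h2
    rw [h2]; exact zero_mem _

end Null

end HopfKrullH1
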