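import Mathlib
import Groth.Agent.Lib.HopfKrull_helper1
import Groth.Agent.Lib.AugGr_helper1

set_option autoImplicit false
set_option maxHeartbeats 1000000

/-!
# Cartier's theorem: finitely generated commutative Hopf algebras in characteristic zero are reduced
(helper1).
-/

namespace CartierRedH1

open HopfKrullH1 AugGrH1 WithConv TensorProduct

universe u v

section A

variable {k : Type u} [Field k] {A : Type v} [CommRing A] [HopfAlgebra k A]

theorem nilpotent_mem_JJ [CharZero k] [Algebra.FiniteType k A] (y : A) (hy : IsNilpotent y) :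
    y ∈ JJ k A := by
  classical
  haveI : Module.Finite k (II k A).Cotangent := cotangent_finite
  let b := Module.finBasis k (II k A).Cotangent
  by_contra hnot
  have hex : ∃ n, y ∉ II k A ^ n := by
    by_contra h
    apply hnot
    rw [Ideal.mem_iInf]
    intro n
    by_contra hn
    exact h ⟨n, hn⟩
  have hn₀ : y ∉ II k A ^ (Nat.find hex) := Nat.find_spec hex
  have hpos : Nat.find hex ≠ 0 := by
    intro h0; apply hn₀; rw [h0, pow_zero, Ideal.one_eq_top]; exact Submodule.mem_top
  obtain ⟨n, hn⟩ : ∃ n, Nat.find hex = n + 1 := Nat.exists_eq_succ_of_ne_zero hpos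
  have hyn : y ∈ II k A ^ n := by
    by_contra h
    have := Nat.find_min' hex h
    omega
  rw [hn] at hn₀
  obtain ⟨q, hq, hyq⟩ := span_key b n y hyn
  have hq0 : q ≠ 0 := by
    rintro rfl; rw [map_zero, sub_zero] at hyq; exact hn₀ hyq
  obtain ⟨m, hm⟩ := hy
  have hpsiq : psi b q ∈ II k A ^ n := (psi_pow b n q hq).1
  have hdiff : ∀ m : ℕ, y ^ m - psi b q ^ m ∈ II k A ^ (n * m + 1) := by
    intro m
    induction m with
    | zero => simp
    | succ m ih =>
      have h0 : y ^ (m + 1) - psi b q ^ (m + 1) =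
          (y ^ m - psi b q ^ m) * y + psi b q ^ m * (y - psi b q) := by ring
      rw [h0]
      apply add_mem
      · have e : n * (m + 1) + 1 = (n * m + 1) + n := by ring
        rw [e, pow_add]; exact Ideal.mul_mem_mul ih hyn
      · have h1 : psi b q ^ m ∈ II k A ^ (n * m) := by
          rw [pow_mul]; exact Ideal.pow_mem_pow hpsiq m
        have e : n * (m + 1) + 1 = n * m + (n + 1) := by ring
        rw [e, pow_add]; exact Ideal.mul_mem_mul h1 hyq
  have hqm : q ^ m ∈ (MvPolynomial.homogeneousSubmodule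
      (Fin (Module.finrank k (II k A).Cotangent)) k 1) ^ (n * m) := by
    rw [pow_mul]; exact Submodule.pow_mem_pow _ hq m
  have h1 := (psi_pow b (n * m) (q ^ m) hqm).2
  have h2 := vanish b (n * m + 1) _ (hdiff m) (n * m) (Nat.lt_succ_self _)
  rw [hm, zero_sub, map_neg, neg_eq_zero, ← map_pow, h1] at h2
  rw [← Nat.cast_smul_eq_nsmul k, smul_eq_zero] at h2
  rcases h2 with h2 | h2
  · exact Nat.factorial_ne_zero _ (Nat.cast_eq_zero.mp h2)
  · exact hq0 (IsNilpotent.eq_zero ⟨m, h2⟩)

theorem isReduced_of_algClosed [IsAlgClosed k] [CharZero k] [Algebra.FiniteType k A] :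
    IsReduced A := by
  haveI : IsNoetherianRing A := Algebra.FiniteType.isNoetherianRing k A
  constructor
  intro y hy
  have htop : (Submodule.span A ({y} : Set A)).annihilator = ⊤ := by
    by_contra hne
    obtain ⟨n, hn, hle⟩ := Ideal.exists_le_maximal _ hne
    obtain ⟨v, hv⟩ := exists_point_of_isMaximal (k := k) n hn
    have h1 : tau (toConv v) y ∈ JJ k A := nilpotent_mem_JJ _ (hy.map (tau (toConv v)))
    obtain ⟨s, hs, hsy⟩ := local_of_mem_JJ _ h1
    have hss : tau (toConv v) ((sig (toConv v)).symm s) = s :=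
      (sig (toConv v)).apply_symm_apply s
    have h2 : (sig (toConv v)).symm s * y = 0 := by
      apply (sig (toConv v)).injective
      rw [map_mul, map_zero, AlgEquiv.apply_symm_apply]; exact hsy
    have h3 : (sig (toConv v)).symm s ∈ (Submodule.span A ({y} : Set A)).annihilator :=
      (Submodule.mem_annihilator_span_singleton y _).mpr h2
    have h4 : v ((sig (toConv v)).symm s) = 0 := (hv _).mp (hle h3)
    have h5 := counit_tau (toConv v) ((sig (toConv v)).symm s)
    rw [hss] at h5
    exact hs (h5.trans h4)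
  have h1 : (1 : A) ∈ (Submodule.span A ({y} : Set A)).annihilator := htop ▸ Submodule.mem_top
  have h2 := (Submodule.mem_annihilator_span_singleton y 1).mp h1
  rwa [one_smul] at h2

theorem isReduced_charZero [CharZero k] [Algebra.FiniteType k A] : IsReduced A := by
  haveI : CharZero (AlgebraicClosure k) :=
    charZero_of_injective_algebraMap (algebraMap k (AlgebraicClosure k)).injective
  haveI : IsReduced (AlgebraicClosure k ⊗[k] A) :=
    isReduced_of_algClosed (k := AlgebraicClosure k) (A := AlgebraicClosure k ⊗[k] A)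
  exact isReduced_of_injective
    (Algebra.TensorProduct.includeRight : A →ₐ[k] AlgebraicClosure k ⊗[k] A).toRingHom
    (Algebra.TensorProduct.includeRight_injective (algebraMap k (AlgebraicClosure k)).injective)

theorem exists_algHom_ker_eq [Algebra.FiniteType k A] (n : Ideal A) (hn : n.IsMaximal) :
    ∃ g : A →ₐ[k] AlgebraicClosure k, ∀ x, x ∈ n ↔ g x = 0 := by
  haveI := hn
  letI : Field (A ⧸ n) := Ideal.Quotient.field n
  haveI : Algebra.FiniteType k (A ⧸ n) :=
    Algebra.FiniteType.of_surjective (Ideal.Quotient.mkₐ k n) (Ideal.Quotient.mkₐ_surjective k n)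
  haveI : Module.Finite k (A ⧸ n) := finite_of_finite_type_of_isJacobsonRing k (A ⧸ n)
  haveI : Algebra.IsAlgebraic k (A ⧸ n) := Algebra.IsAlgebraic.of_finite k (A ⧸ n)
  let φ : (A ⧸ n) →ₐ[k] AlgebraicClosure k := IsAlgClosed.lift
  refine ⟨φ.comp (Ideal.Quotient.mkₐ k n), fun x => ?_⟩
  show x ∈ n ↔ φ (Ideal.Quotient.mkₐ k n x) = 0
  rw [map_eq_zero φ, Ideal.Quotient.mkₐ_eq_mk, Ideal.Quotient.eq_zero_iff_mem]

theorem mem_of_forall_points [CharZero k] [Algebra.FiniteType k A] (I : Ideal A)
    [I.IsHopfIdeal k] (x : A)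
    (hx : ∀ g : A →ₐ[k] AlgebraicClosure k, I ≤ RingHom.ker g → g x = 0) : x ∈ I := by
  haveI : Algebra.FiniteType k (A ⧸ I) :=
    Algebra.FiniteType.of_surjective (Ideal.Quotient.mkₐ k I) (Ideal.Quotient.mkₐ_surjective k I)
  haveI : IsReduced (A ⧸ I) := isReduced_charZero (k := k) (A := A ⧸ I)
  have hrad : I.IsRadical := (Ideal.isRadical_iff_quotient_reduced I).mpr inferInstance
  haveI : IsJacobsonRing A := isJacobsonRing_of_finiteType (A := k) (B := A)
  rw [← IsJacobsonRing.out inferInstance hrad, Ideal.jacobson, Ideal.mem_sInf]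
  rintro n ⟨hIn, hn⟩
  obtain ⟨g, hg⟩ := exists_algHom_ker_eq (k := k) n hn
  apply (hg x).mpr
  apply hx g
  intro z hz
  rw [RingHom.mem_ker]
  exact (hg z).mp (hIn hz)

theorem hopfIdeal_eq [CharZero k] [Algebra.FiniteType k A] (I I' : Ideal A)
    [I.IsHopfIdeal k] [I'.IsHopfIdeal k]
    (h : ∀ g : A →ₐ[k] AlgebraicClosure k, I ≤ RingHom.ker g ↔ I' ≤ RingHom.ker g) : I = I' := by
  apply le_antisymm
  · intro x hx
    apply mem_of_forall_points (k := k) I' x
    intro g hg
    exact (RingHom.mem_ker).mp ((h g).mpr hg hx)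
  · intro x hx
    apply mem_of_forall_points (k := k) I x
    intro g hg
    exact (RingHom.mem_ker).mp ((h g).mp hg hx)

end A

end CartierRedH1
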