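import Mathlib
import Groth.Prelude
import Groth.Agent.Lib.SerreNormal_helper5
import Groth.Agent.Lib.Regular_helper5

/-!
# Serre's condition `(S_k)` passes to effective Cartier divisors with `k - 1` (helper5)
-/

universe u

open IsLocalRing CategoryTheory AlgebraicGeometry TopologicalSpace

namespace Groth.Agent.CartierSk

open Groth.Agent.DepthLib Groth.Agent.SerreLib

theorem le_of_add_one_le (a : WithBot ℕ∞) (b : ℕ∞)
    (h : a + 1 ≤ ((b + 1 : ℕ∞) : WithBot ℕ∞)) : a ≤ b := by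
  induction a using WithBot.recBotCoe with
  | bot => exact bot_le
  | coe a' =>
    have h' : a' + 1 ≤ b + 1 := by exact_mod_cast h
    have := (ENat.add_le_add_iff_right (by simp : (1 : ℕ∞) ≠ ⊤)).mp h'
    exact_mod_cast this

/-- `(S_k)` at the closed point descends to the quotient by a regular element, with `k - 1` -/
theorem sk_quot (R : Type u) [CommRing R] [IsLocalRing R] [IsNoetherianRing R] (g : R)
    (hg : g ∈ maximalIdeal R) (hreg : IsSMulRegular R g) [IsLocalRing (R ⧸ Ideal.span {g})]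
    (k : ℕ)
    (h : min (k : WithBot ℕ∞) (ringKrullDim R) ≤ ((LocCoh.depth R R : ℕ∞) : WithBot ℕ∞)) :
    min ((k - 1 : ℕ) : WithBot ℕ∞) (ringKrullDim (R ⧸ Ideal.span {g})) ≤
      ((LocCoh.depth (R ⧸ Ideal.span {g}) (R ⧸ Ideal.span {g}) : ℕ∞) : WithBot ℕ∞) := by
  have hd := idealDepth_quotSMulTop_add_one (maximalIdeal R) R hg hreg
  let e₀ : (QuotSMulTop g R) ≃ₗ[R] (R ⧸ Ideal.span {g}) :=
    Submodule.quotEquivOfEq _ _ (by
      rw [← Submodule.ideal_span_singleton_smul g (⊤ : Submodule R R)]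
      exact Ideal.mul_top _)
  have hd'' : LocCoh.idealDepth (maximalIdeal R) (R ⧸ Ideal.span {g}) + 1 =
      LocCoh.idealDepth (maximalIdeal R) R := by
    rw [← idealDepth_congr (maximalIdeal R) _ e₀]
    exact hd
  haveI : IsLocalHom (algebraMap R (R ⧸ Ideal.span {g})) :=
    IsLocalHom.of_surjective _
      (Ideal.Quotient.mk_surjective : Function.Surjective (algebraMap R (R ⧸ Ideal.span {g})))
  have h3 := depth_eq_of_isLocalHom R (R ⧸ Ideal.span {g}) (R ⧸ Ideal.span {g})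
  have hdim := ringKrullDim_quotient_span_singleton_succ_eq_ringKrullDim hreg hg
  rw [← h3]
  unfold LocCoh.depth at h ⊢
  rw [← hdim, ← hd''] at h
  cases k with
  | zero =>
    refine (min_le_left _ _).trans ?_
    have : (0 : ℕ∞) ≤ LocCoh.idealDepth (maximalIdeal R) (R ⧸ Ideal.span {g}) := zero_le
    exact_mod_cast this
  | succ k' =>
    have hk : ((k' + 1 - 1 : ℕ) : WithBot ℕ∞) = (k' : WithBot ℕ∞) := by simp
    rw [hk]
    have hk2 : (((k' + 1 : ℕ)) : WithBot ℕ∞) = (k' : WithBot ℕ∞) + 1 := by push_cast; rfl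
    rw [hk2, min_add_add_right] at h
    exact le_of_add_one_le _ _ h

section scheme

variable {X : Scheme.{u}} (𝓘 : X.IdealSheafData)

/-- the kernel of the stalk map of the closed immersion of a locally principal subscheme -/
theorem ker_stalkMap (U : X.affineOpens) (f : Γ(X, U.1)) (hf : 𝓘.ideal U = Ideal.span {f})
    (d : 𝓘.subscheme) (hx : 𝓘.subschemeι d ∈ U.1) :
    RingHom.ker (𝓘.subschemeι.stalkMap d).hom =
      Ideal.span {(X.presheaf.germ U.1 (𝓘.subschemeι d) hx).hom f} := by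
  have hU : IsAffineOpen U.1 := U.2
  have hV : IsAffineOpen (𝓘.subschemeι ⁻¹ᵁ U.1) := hU.preimage 𝓘.subschemeι
  have hd : d ∈ 𝓘.subschemeι ⁻¹ᵁ U.1 := hx
  letI := TopCat.Presheaf.algebra_section_stalk X.presheaf (⟨𝓘.subschemeι d, hx⟩ : U.1)
  haveI : IsLocalization.AtPrime (X.presheaf.stalk (𝓘.subschemeι d))
      (hU.primeIdealOf ⟨𝓘.subschemeι d, hx⟩).asIdeal := hU.isLocalization_stalk ⟨_, hx⟩
  letI := TopCat.Presheaf.algebra_section_stalk 𝓘.subscheme.presheaf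
    (⟨d, hd⟩ : (𝓘.subschemeι ⁻¹ᵁ U.1))
  haveI : IsLocalization.AtPrime (𝓘.subscheme.presheaf.stalk d)
      (hV.primeIdealOf ⟨d, hd⟩).asIdeal := hV.isLocalization_stalk ⟨d, hd⟩
  have hgerm : ∀ a : Γ(X, U.1),
      (𝓘.subschemeι.stalkMap d).hom ((X.presheaf.germ U.1 (𝓘.subschemeι d) hx).hom a) =
        (𝓘.subscheme.presheaf.germ (𝓘.subschemeι ⁻¹ᵁ U.1) d hd).hom
          ((𝓘.subschemeι.app U.1).hom a) :=
    fun a => 𝓘.subschemeι.germ_stalkMap_apply U.1 d hx a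
  apply le_antisymm
  · intro r hr
    rw [RingHom.mem_ker] at hr
    obtain ⟨⟨a, s⟩, hrs⟩ := IsLocalization.surj
      (hU.primeIdealOf ⟨𝓘.subschemeι d, hx⟩).asIdeal.primeCompl r
    have hrs' : r * (X.presheaf.germ U.1 (𝓘.subschemeι d) hx).hom (s : Γ(X, U.1)) =
        (X.presheaf.germ U.1 (𝓘.subschemeι d) hx).hom a := hrs
    have h0 : (𝓘.subscheme.presheaf.germ (𝓘.subschemeι ⁻¹ᵁ U.1) d hd).hom
        ((𝓘.subschemeι.app U.1).hom a) = 0 := by
      rw [← hgerm a, ← hrs', map_mul, hr, zero_mul]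
    have h1 : algebraMap Γ(𝓘.subscheme, 𝓘.subschemeι ⁻¹ᵁ U.1) (𝓘.subscheme.presheaf.stalk d)
        ((𝓘.subschemeι.app U.1).hom a) = 0 := h0
    rw [IsLocalization.map_eq_zero_iff (hV.primeIdealOf ⟨d, hd⟩).asIdeal.primeCompl] at h1
    obtain ⟨t, ht⟩ := h1
    obtain ⟨s', hs'⟩ := 𝓘.subschemeι_app_surjective U (t : Γ(𝓘.subscheme, 𝓘.subschemeι ⁻¹ᵁ U.1))
    have h2 : s' * a ∈ 𝓘.ideal U := by
      rw [← 𝓘.ker_subschemeι_app U, RingHom.mem_ker, map_mul]
      have : (𝓘.subschemeι.app U.1).hom s' = (t : Γ(𝓘.subscheme, 𝓘.subschemeι ⁻¹ᵁ U.1)) := hs'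
      rw [this]
      exact ht
    rw [hf, Ideal.mem_span_singleton'] at h2
    obtain ⟨c, hc⟩ := h2
    have hunit_t : IsUnit (algebraMap Γ(𝓘.subscheme, 𝓘.subschemeι ⁻¹ᵁ U.1)
        (𝓘.subscheme.presheaf.stalk d) (t : Γ(𝓘.subscheme, 𝓘.subschemeι ⁻¹ᵁ U.1))) :=
      IsLocalization.map_units _ t
    have hunit_s' : IsUnit ((X.presheaf.germ U.1 (𝓘.subschemeι d) hx).hom s') := by
      have hu : IsUnit ((𝓘.subschemeι.stalkMap d).hom
          ((X.presheaf.germ U.1 (𝓘.subschemeι d) hx).hom s')) := by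
        rw [hgerm s']
        have : (𝓘.subschemeι.app U.1).hom s' = (t : Γ(𝓘.subscheme, 𝓘.subschemeι ⁻¹ᵁ U.1)) := hs'
        rw [this]
        exact hunit_t
      exact (isUnit_map_iff (𝓘.subschemeι.stalkMap d).hom _).mp hu
    have hunit_s : IsUnit ((X.presheaf.germ U.1 (𝓘.subschemeι d) hx).hom (s : Γ(X, U.1))) :=
      IsLocalization.map_units (X.presheaf.stalk (𝓘.subschemeι d)) s
    rw [Ideal.mem_span_singleton']
    obtain ⟨u1, hu1⟩ := hunit_s
    obtain ⟨u2, hu2⟩ := hunit_s'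
    refine ⟨(X.presheaf.germ U.1 (𝓘.subschemeι d) hx).hom c * ↑u1⁻¹ * ↑u2⁻¹, ?_⟩
    have e1 : (X.presheaf.germ U.1 (𝓘.subschemeι d) hx).hom c *
        (X.presheaf.germ U.1 (𝓘.subschemeι d) hx).hom f =
        (X.presheaf.germ U.1 (𝓘.subschemeι d) hx).hom s' *
          (X.presheaf.germ U.1 (𝓘.subschemeι d) hx).hom a := by
      rw [← map_mul, ← map_mul, hc]
    have e2 : (X.presheaf.germ U.1 (𝓘.subschemeι d) hx).hom a = r * ↑u1 := by
      rw [hu1]
      exact hrs'.symm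
    calc (X.presheaf.germ U.1 (𝓘.subschemeι d) hx).hom c * ↑u1⁻¹ * ↑u2⁻¹ *
          (X.presheaf.germ U.1 (𝓘.subschemeι d) hx).hom f
        = ((X.presheaf.germ U.1 (𝓘.subschemeι d) hx).hom c *
          (X.presheaf.germ U.1 (𝓘.subschemeι d) hx).hom f) * ↑u1⁻¹ * ↑u2⁻¹ := by ring
      _ = (↑u2 * (r * ↑u1)) * ↑u1⁻¹ * ↑u2⁻¹ := by rw [e1, e2, hu2]
      _ = r * (↑u1 * ↑u1⁻¹) * (↑u2 * ↑u2⁻¹) := by ring
      _ = r := by simp
  · rw [Ideal.span_le, Set.singleton_subset_iff]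
    show _ ∈ RingHom.ker _
    rw [RingHom.mem_ker, hgerm f]
    have h0 : (𝓘.subschemeι.app U.1).hom f = 0 := by
      rw [← RingHom.mem_ker, 𝓘.ker_subschemeι_app U, hf]
      exact Ideal.mem_span_singleton_self f
    rw [h0, map_zero]

/-- `(S_k)` passes to the closed subscheme of an effective Cartier divisor, with `k - 1` -/
theorem main (X : Scheme.{u}) [IsLocallyNoetherian X] (k : ℕ)
    (hX : ∀ x : ↥X, min (k : WithBot ℕ∞) (ringKrullDim (X.presheaf.stalk x)) ≤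
      ((LocCoh.depth (X.presheaf.stalk x) (X.presheaf.stalk x) : ℕ∞) : WithBot ℕ∞))
    (𝓘 : X.IdealSheafData) (h𝓘 : BlowUp.IsEffCartierIdeal 𝓘) (d : ↥𝓘.subscheme) :
    min ((k - 1 : ℕ) : WithBot ℕ∞) (ringKrullDim (𝓘.subscheme.presheaf.stalk d)) ≤
      ((LocCoh.depth (𝓘.subscheme.presheaf.stalk d) (𝓘.subscheme.presheaf.stalk d) : ℕ∞) :
        WithBot ℕ∞) := by
  obtain ⟨U, hxU, f, hfreg, hf⟩ := h𝓘 (𝓘.subschemeι d)
  have hker := ker_stalkMap 𝓘 U f hf d hxU
  have hsurj : Function.Surjective (𝓘.subschemeι.stalkMap d).hom :=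
    𝓘.subschemeι.stalkMap_surjective d
  have hU : IsAffineOpen U.1 := U.2
  letI := TopCat.Presheaf.algebra_section_stalk X.presheaf (⟨𝓘.subschemeι d, hxU⟩ : U.1)
  haveI : IsLocalization.AtPrime (X.presheaf.stalk (𝓘.subschemeι d))
      (hU.primeIdealOf ⟨𝓘.subschemeι d, hxU⟩).asIdeal := hU.isLocalization_stalk ⟨_, hxU⟩
  set g := (X.presheaf.germ U.1 (𝓘.subschemeι d) hxU).hom f with hgdef
  let e : (X.presheaf.stalk (𝓘.subschemeι d) ⧸ Ideal.span {g}) ≃+*
      𝓘.subscheme.presheaf.stalk d :=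
    (Ideal.quotEquivOfEq hker.symm).trans (RingHom.quotientKerEquivOfSurjective hsurj)
  have h0 : (𝓘.subschemeι.stalkMap d).hom g = 0 := by
    rw [← RingHom.mem_ker, hker]
    exact Ideal.mem_span_singleton_self g
  have hgm : g ∈ maximalIdeal (X.presheaf.stalk (𝓘.subschemeι d)) := by
    rw [mem_maximalIdeal, mem_nonunits_iff]
    intro hu
    have hu' : IsUnit ((𝓘.subschemeι.stalkMap d).hom g) := hu.map _
    rw [h0] at hu'
    exact not_isUnit_zero hu'
  have hgreg : IsSMulRegular (X.presheaf.stalk (𝓘.subschemeι d)) g := by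
    have hmem : g ∈ nonZeroDivisors (X.presheaf.stalk (𝓘.subschemeι d)) :=
      IsLocalization.map_nonZeroDivisors_le
        (hU.primeIdealOf ⟨𝓘.subschemeι d, hxU⟩).asIdeal.primeCompl
        (X.presheaf.stalk (𝓘.subschemeι d)) (Submonoid.mem_map_of_mem _ hfreg)
    rw [isSMulRegular_iff_right_eq_zero_of_smul]
    intro z hz
    exact (mem_nonZeroDivisors_iff_left.mp hmem) z hz
  haveI : IsLocalRing (X.presheaf.stalk (𝓘.subschemeι d) ⧸ Ideal.span {g}) :=
    Groth.Agent.RegularLib.isLocalRing_quotient _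
      (Groth.Agent.RegularLib.span_singleton_ne_top g hgm)
  have h1 := sk_quot (X.presheaf.stalk (𝓘.subschemeι d)) g hgm hgreg k (hX _)
  haveI : IsNoetherianRing (𝓘.subscheme.presheaf.stalk d) := isNoetherianRing_of_ringEquiv _ e
  rw [ringKrullDim_eq_of_ringEquiv e, depth_eq_of_ringEquiv _ _ e] at h1
  exact h1

end scheme

end Groth.Agent.CartierSk
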