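import Mathlib
import Groth.Prelude.Def_AlgSpSub
import Groth.Agent.Lib.CartierDesc_helper7
import Groth.Agent.Lib.CartierCompl_helper7
import Groth.Agent.Lib.CartierFlat_helper9
import Groth.Agent.Lib.SchDenseKer_helper7

/-!
# Effective Cartier divisors on algebraic spaces: change of chart (helper7)
-/

set_option autoImplicit false
universe u
open CategoryTheory CategoryTheory.Limits AlgebraicGeometry Opposite

namespace Groth.Agent.Lib.CartierSpH7
open AlgSp Groth.Agent.Lib.AlgSpPoints_helper7 Groth.Agent.Lib.CartierDescH7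
  Groth.Agent.Lib.CartierComplH7 Groth.Agent.Lib.AlgSpPullback_helper7
  Groth.Agent.Lib.AlgSpQC_helper7 Groth.Agent.Lib.IdealEtAH7 Groth.Agent.Lib.IdealEtBH7

section Sch
variable {X : Scheme.{u}}

theorem comap_of_flat {X Y : Scheme.{u}} (f : X ⟶ Y) [Flat f]
    (𝓘 : Y.IdealSheafData) (hD : BlowUp.IsEffCartierIdeal 𝓘) :
    BlowUp.IsEffCartierIdeal (𝓘.comap f) := by
  intro x
  obtain ⟨U, hxU, g, hg, hIU⟩ := hD (f x)
  obtain ⟨V, hxV, hVU⟩ := Groth.Agent.Lib.CartierFlat.exists_affine_le x (f ⁻¹ᵁ U.1) hxU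
  refine ⟨V, hxV, (f.appLE U.1 V.1 hVU).hom g, ?_, ?_⟩
  · exact Groth.Agent.Lib.CartierFlat.map_mem_nonZeroDivisors_of_flat _
      (HasRingHomProperty.appLE (P := @Flat) f inferInstance U V hVU) hg
  · rw [Groth.Agent.Lib.ComapIdeal_helper4.comap_ideal_eq f 𝓘 U V hVU, hIU, Ideal.map_span,
      Set.image_singleton]

lemma ideal_eq_top_of_disjoint (I : X.IdealSheafData) (U : X.affineOpens)
    (h : (I.support : Set X) ∩ U.1 = ∅) : I.ideal U = ⊤ := by
  have h1 := I.coe_support_inter U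
  rw [h] at h1
  have h3 := U.2.fromSpec_image_zeroLocus (I.ideal U : Set Γ(X, U.1))
  rw [← h1, Set.image_eq_empty] at h3
  exact PrimeSpectrum.zeroLocus_empty_iff_eq_top.1 h3

lemma exists_principal_of_notMem_support (I : X.IdealSheafData) (x : X)
    (hx : x ∉ I.support) : ∃ U : X.affineOpens, x ∈ U.1 ∧ ∃ f : Γ(X, U.1),
      f ∈ nonZeroDivisors Γ(X, U.1) ∧ I.ideal U = Ideal.span {f} := by
  let W : X.Opens := ⟨(I.support : Set X)ᶜ, I.support.isClosed.isOpen_compl⟩
  obtain ⟨U, hxU, hUW⟩ := exists_affineOpen_mem_le X W x hx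
  refine ⟨U, hxU, 1, one_mem _, ?_⟩
  rw [Ideal.span_singleton_one]
  apply ideal_eq_top_of_disjoint
  ext y
  simp only [Set.mem_inter_iff, Set.mem_empty_iff_false, iff_false, not_and]
  intro hy hyU
  exact hUW hyU hy

end Sch

variable {S : Scheme.{u}}

/-- Pulling back the ideal of a chart of a closed subspace along a morphism of charts. -/
theorem exists_chart_comap {X Z : Sp S} (i : Z ⟶ X) {V V' : Over S} (φ : (yon S).obj V ⟶ X)
    (I : V.left.IdealSheafData)
    (fst : (yon S).obj (Over.mk (I.subschemeι ≫ V.hom)) ⟶ Z)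
    (sq : IsPullback fst ((yon S).map
      (Over.homMk I.subschemeι rfl : Over.mk (I.subschemeι ≫ V.hom) ⟶ V)) i φ)
    (c : V' ⟶ V) :
    ∃ fst' : (yon S).obj (Over.mk ((I.comap c.left).subschemeι ≫ V'.hom)) ⟶ Z,
      IsPullback fst' ((yon S).map (Over.homMk (I.comap c.left).subschemeι rfl :
        Over.mk ((I.comap c.left).subschemeι ≫ V'.hom) ⟶ V')) i ((yon S).map c ≫ φ) := by
  let I' := I.comap c.left
  let m : I'.subscheme ⟶ I.subscheme := (I.comapIso c.left).hom ≫ pullback.snd _ _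
  have hfst : (I.comapIso c.left).hom ≫ pullback.fst _ _ = I'.subschemeι :=
    Scheme.IdealSheafData.comapIso_hom_fst I c.left
  have hP : IsPullback I'.subschemeι m c.left I.subschemeι := by
    refine IsPullback.of_iso_pullback ⟨?_⟩ (I.comapIso c.left) hfst rfl
    rw [← hfst, Category.assoc, pullback.condition, Category.assoc]
  let ιI : Over.mk (I.subschemeι ≫ V.hom) ⟶ V := Over.homMk I.subschemeι rfl
  let ιI' : Over.mk (I'.subschemeι ≫ V'.hom) ⟶ V' := Over.homMk I'.subschemeι rfl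
  let cI : Over.mk (I'.subschemeι ≫ V'.hom) ⟶ Over.mk (I.subschemeι ≫ V.hom) :=
    Over.homMk m (by
      show m ≫ I.subschemeι ≫ V.hom = I'.subschemeι ≫ V'.hom
      rw [← Category.assoc, ← hP.w, Category.assoc, Over.w c])
  have h0 : IsPullback cI ιI' ιI c :=
    IsPullback.of_map (Over.forget S) (by ext; exact hP.w.symm) hP.flip
  have h1 := h0.map (yon S)
  exact ⟨(yon S).map cI ≫ fst, h1.paste_horiz sq⟩

/-- The ideal of a chart of a closed subspace is determined by the chart. -/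
theorem ideal_le_of_isPullback {X Z : Sp S} (i : Z ⟶ X) {T : Over S} (b : (yon S).obj T ⟶ X)
    (I₁ I₂ : T.left.IdealSheafData)
    (fst₁ : (yon S).obj (Over.mk (I₁.subschemeι ≫ T.hom)) ⟶ Z)
    (fst₂ : (yon S).obj (Over.mk (I₂.subschemeι ≫ T.hom)) ⟶ Z)
    (sq₁ : fst₁ ≫ i = (yon S).map
      (Over.homMk I₁.subschemeι rfl : Over.mk (I₁.subschemeι ≫ T.hom) ⟶ T) ≫ b)
    (sq₂ : IsPullback fst₂ ((yon S).map
      (Over.homMk I₂.subschemeι rfl : Over.mk (I₂.subschemeι ≫ T.hom) ⟶ T)) i b) :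
    I₂ ≤ I₁ := by
  obtain ⟨k, hk⟩ := (yon S).map_surjective (sq₂.lift fst₁ _ sq₁)
  have h1 : k ≫ (Over.homMk I₂.subschemeι rfl : Over.mk (I₂.subschemeι ≫ T.hom) ⟶ T) =
      (Over.homMk I₁.subschemeι rfl : Over.mk (I₁.subschemeι ≫ T.hom) ⟶ T) := by
    apply (yon S).map_injective
    rw [Functor.map_comp, hk, sq₂.lift_snd]
  have h2 : k.left ≫ I₂.subschemeι = I₁.subschemeι := congrArg (fun t => t.left) h1
  calc I₂ = I₂.subschemeι.ker := (Scheme.IdealSheafData.ker_subschemeι I₂).symm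
    _ ≤ (k.left ≫ I₂.subschemeι).ker := Scheme.Hom.le_ker_comp _ _
    _ = I₁ := by rw [h2, Scheme.IdealSheafData.ker_subschemeι]

theorem ideal_eq_of_isPullback {X Z : Sp S} (i : Z ⟶ X) {T : Over S} (b : (yon S).obj T ⟶ X)
    (I₁ I₂ : T.left.IdealSheafData)
    (fst₁ : (yon S).obj (Over.mk (I₁.subschemeι ≫ T.hom)) ⟶ Z)
    (fst₂ : (yon S).obj (Over.mk (I₂.subschemeι ≫ T.hom)) ⟶ Z)
    (sq₁ : IsPullback fst₁ ((yon S).map
      (Over.homMk I₁.subschemeι rfl : Over.mk (I₁.subschemeι ≫ T.hom) ⟶ T)) i b)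
    (sq₂ : IsPullback fst₂ ((yon S).map
      (Over.homMk I₂.subschemeι rfl : Over.mk (I₂.subschemeι ≫ T.hom) ⟶ T)) i b) :
    I₁ = I₂ :=
  le_antisymm (ideal_le_of_isPullback i b I₂ I₁ fst₂ fst₁ sq₂.w sq₁)
    (ideal_le_of_isPullback i b I₁ I₂ fst₁ fst₂ sq₁.w sq₂)

/-- Any chart of a closed subspace is given by an ideal sheaf. -/
theorem exists_ideal_chart {X Z : Sp S} (i : Z ⟶ X) (hi : RepWith @IsClosedImmersion i)
    (V : Over S) (φ : (yon S).obj V ⟶ X) :
    ∃ (I : V.left.IdealSheafData) (fst : (yon S).obj (Over.mk (I.subschemeι ≫ V.hom)) ⟶ Z),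
      IsPullback fst ((yon S).map
        (Over.homMk I.subschemeι rfl : Over.mk (I.subschemeι ≫ V.hom) ⟶ V)) i φ := by
  have sqA := hi.rep.isPullback φ
  haveI hci : IsClosedImmersion (hi.rep.snd φ).left := hi.property_snd φ
  obtain ⟨m, hm⟩ : ∃ m, m = (hi.rep.snd φ).left := ⟨_, rfl⟩
  haveI : IsClosedImmersion m := hm ▸ hci
  let τ : hi.rep.pullback φ ⟶ Over.mk (m.ker.subschemeι ≫ V.hom) := Over.homMk m.toImage (by
      show m.toImage ≫ m.imageι ≫ V.hom = (hi.rep.pullback φ).hom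
      rw [← Category.assoc, Scheme.Hom.toImage_imageι, hm]; exact Over.w (hi.rep.snd φ))
  haveI : IsIso τ := by
    haveI : IsIso ((Over.forget S).map τ) := (inferInstance : IsIso m.toImage)
    exact isIso_of_reflects_iso τ (Over.forget S)
  have hτ : τ ≫ (Over.homMk m.ker.subschemeι rfl : Over.mk (m.ker.subschemeι ≫ V.hom) ⟶ V) =
      hi.rep.snd φ := by
    ext
    show m.toImage ≫ m.imageι = _
    rw [Scheme.Hom.toImage_imageι, hm]
  refine ⟨m.ker, (yon S).map (inv τ) ≫ hi.rep.fst φ, ?_⟩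
  have hL : IsPullback ((yon S).map (inv τ))
      ((yon S).map (Over.homMk m.ker.subschemeι rfl : Over.mk (m.ker.subschemeι ≫ V.hom) ⟶ V))
      ((yon S).map (hi.rep.snd φ)) (𝟙 _) :=
    IsPullback.of_horiz_isIso ⟨by
      rw [Category.comp_id, ← Functor.map_comp, ← hτ, IsIso.inv_hom_id_assoc]⟩
  have := hL.paste_horiz sqA
  rwa [Category.id_comp] at this

/-- Effective Cartier on one chart implies effective Cartier on every étale chart. -/
theorem isEffCartierIdeal_of_chart {X Z : Sp S} (i : Z ⟶ X)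
    (V : Over S) (φ : (yon S).obj V ⟶ X) (I : V.left.IdealSheafData)
    (fstD : (yon S).obj (Over.mk (I.subschemeι ≫ V.hom)) ⟶ Z)
    (hφe : RepWith @Etale φ) (hφs : RepWith @Surjective φ)
    (sqD : IsPullback fstD ((yon S).map
      (Over.homMk I.subschemeι rfl : Over.mk (I.subschemeι ≫ V.hom) ⟶ V)) i φ)
    (hI : BlowUp.IsEffCartierIdeal I)
    (U : Over S) (ψ : (yon S).obj U ⟶ X) (hψ : RepWith @Etale ψ)
    (IU : U.left.IdealSheafData)
    (fstU : (yon S).obj (Over.mk (IU.subschemeι ≫ U.hom)) ⟶ Z)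
    (sqU : IsPullback fstU ((yon S).map
      (Over.homMk IU.subschemeι rfl : Over.mk (IU.subschemeι ≫ U.hom) ⟶ U)) i ψ) :
    BlowUp.IsEffCartierIdeal IU := by
  let V' : Over S := hφe.rep.pullback ψ
  let c : V' ⟶ V := hφe.rep.fst' ψ
  let e : V' ⟶ U := hφe.rep.snd ψ
  have sq1 : IsPullback ((yon S).map c) ((yon S).map e) φ ψ := hφe.rep.isPullback' ψ
  haveI he : Etale e.left := hφe.property _ _ _ sq1
  haveI hes : Surjective e.left := hφs.property _ _ _ sq1
  haveI hc : Etale c.left := hψ.property _ _ _ sq1.flip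
  obtain ⟨f1, big1⟩ := exists_chart_comap i φ I fstD sqD c
  obtain ⟨f2, big2⟩ := exists_chart_comap i ψ IU fstU sqU e
  rw [sq1.w] at big1
  have heq : I.comap c.left = IU.comap e.left := ideal_eq_of_isPullback i _ _ _ f1 f2 big1 big2
  have h1 : BlowUp.IsEffCartierIdeal (I.comap c.left) := comap_of_flat c.left I hI
  rw [heq] at h1
  exact isEffCartierIdeal_of_comap e.left e.left.isOpenMap IU h1

theorem isEffCartierSub_of_isPullback_flat {X Y D P : Sp S} (hX : IsAlgSpace X) (f : X ⟶ Y)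
    (hf : LocP @Flat f) (i : D ⟶ Y) (hD : IsEffCartierSub i) (fst : P ⟶ D) (snd : P ⟶ X)
    (hP : IsPullback fst snd i f) : IsEffCartierSub snd := by
  obtain ⟨hci, V, φ, I, fstD, hφe, hφs, sqD, hI⟩ := hD
  obtain ⟨A, a, hae, has⟩ := hX.atlas
  let U' : Over S := hφe.rep.pullback (a ≫ f)
  let c : U' ⟶ V := hφe.rep.fst' (a ≫ f)
  let e : U' ⟶ A := hφe.rep.snd (a ≫ f)
  have sq1 : IsPullback ((yon S).map c) ((yon S).map e) φ (a ≫ f) :=
    hφe.rep.isPullback' (a ≫ f)
  have he : Etale e.left := hφe.property _ _ _ sq1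
  have hes : Surjective e.left := hφs.property _ _ _ sq1
  let φ' : (yon S).obj U' ⟶ X := (yon S).map e ≫ a
  have hφ'e : RepWith @Etale φ' := repWith_comp @Etale ((repWith_yon_map_iff _ _).2 he) hae
  have hφ's : RepWith @Surjective φ' :=
    repWith_comp @Surjective ((repWith_yon_map_iff _ _).2 hes) has
  have hw : φ' ≫ f = (yon S).map c ≫ φ := (Category.assoc _ _ _).trans sq1.w.symm
  haveI hcf : Flat c.left := hf _ _ c hφ'e hφe hw
  obtain ⟨fst', big⟩ := exists_chart_comap i φ I fstD sqD c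
  rw [← hw] at big
  have hcomm : fst' ≫ i = ((yon S).map (Over.homMk (I.comap c.left).subschemeι rfl :
      Over.mk ((I.comap c.left).subschemeι ≫ U'.hom) ⟶ U') ≫ φ') ≫ f :=
    big.w.trans (Category.assoc _ _ _).symm
  let fstP := hP.lift fst' _ hcomm
  have hl1 : fstP ≫ fst = fst' := hP.lift_fst _ _ _
  have hl2 : fstP ≫ snd = (yon S).map (Over.homMk (I.comap c.left).subschemeι rfl :
      Over.mk ((I.comap c.left).subschemeι ≫ U'.hom) ⟶ U') ≫ φ' := hP.lift_snd _ _ _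
  have sqL : IsPullback fstP ((yon S).map (Over.homMk (I.comap c.left).subschemeι rfl :
      Over.mk ((I.comap c.left).subschemeι ≫ U'.hom) ⟶ U')) snd φ' := by
    refine IsPullback.of_right ?_ hl2 hP
    rw [hl1]; exact big
  exact ⟨repWith_snd_of_isPullback @IsClosedImmersion hP hci, U', φ', I.comap c.left, fstP,
    hφ'e, hφ's, sqL, comap_of_flat c.left I hI⟩

end Groth.Agent.Lib.CartierSpH7
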