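import Mathlib
import Groth.Prelude.Def_AlgSpSub
import Groth.Agent.Lib.CartierSp_helper7

/-!
# Effective Cartier divisors on algebraic spaces: pointwise affine étale neighbourhoods (helper7)
-/

set_option autoImplicit false
universe u
open CategoryTheory CategoryTheory.Limits AlgebraicGeometry Opposite

namespace Groth.Agent.Lib.CartierSp2H7
open AlgSp Groth.Agent.Lib.AlgSpPoints_helper7 Groth.Agent.Lib.CartierDescH7
  Groth.Agent.Lib.CartierComplH7 Groth.Agent.Lib.AlgSpPullback_helper7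
  Groth.Agent.Lib.AlgSpQC_helper7 Groth.Agent.Lib.IdealEtAH7 Groth.Agent.Lib.IdealEtBH7
  Groth.Agent.Lib.CartierSpH7

variable {S : Scheme.{u}}

theorem forall_exists_affine_nbhd {X D : Sp S} (i : D ⟶ X) (hD : IsEffCartierSub i)
    (x : Points D) :
    ∃ (U : Over S) (_ : IsAffine U.left) (a : (yon S).obj U ⟶ X) (u : ↥U.left)
      (f : Γ(U.left, ⊤)) (I : U.left.IdealSheafData)
      (fst : (yon S).obj (Over.mk (I.subschemeι ≫ U.hom)) ⟶ D),
      RepWith @Etale a ∧ Points.ofPt a u = Points.map i x ∧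
        f ∈ nonZeroDivisors Γ(U.left, ⊤) ∧
        I.ideal ⟨⊤, isAffineOpen_top U.left⟩ = Ideal.span {f} ∧
        IsPullback fst ((yon S).map
          (Over.homMk I.subschemeι rfl : Over.mk (I.subschemeι ≫ U.hom) ⟶ U)) i a := by
  obtain ⟨hci, V, φ, I, fstD, hφe, hφs, sqD, hI⟩ := hD
  obtain ⟨v, hv⟩ := ofPt_surjective φ hφs (Points.map i x)
  obtain ⟨U₁, hvU₁, f, hfnz, hf⟩ := hI v
  haveI hUaff' : IsAffine U₁.1.toScheme := U₁.2
  haveI hUaff : IsAffine (openOver V U₁.1).left := U₁.2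
  obtain ⟨fst', big⟩ := exists_chart_comap i φ I fstD sqD (openι V U₁.1)
  have e : (⊤ : U₁.1.toScheme.Opens) ≤ U₁.1.ι ⁻¹ᵁ U₁.1 := U₁.1.ι_preimage_self.ge
  refine ⟨openOver V U₁.1, hUaff, (yon S).map (openι V U₁.1) ≫ φ, ⟨v, hvU₁⟩,
    (U₁.1.ι.appLE U₁.1 ⊤ e).hom f, I.comap U₁.1.ι, fst', etale_open φ hφe U₁.1, ?_, ?_, ?_, big⟩
  · rw [ofPt_comp]; exact hv
  · exact Groth.Agent.Lib.CartierFlat.map_mem_nonZeroDivisors_of_flat _
      (HasRingHomProperty.appLE (P := @Flat) U₁.1.ι inferInstance U₁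
        ⟨⊤, isAffineOpen_top _⟩ e) hfnz
  · rw [Groth.Agent.Lib.ComapIdeal_helper4.comap_ideal_eq U₁.1.ι I U₁
      ⟨⊤, isAffineOpen_top _⟩ e, hf, Ideal.map_span, Set.image_singleton]
    rfl

theorem isEffCartierSub_of_forall_exists_affine_nbhd {X D : Sp S} (hX : IsAlgSpace X)
    (i : D ⟶ X) (hi : RepWith @IsClosedImmersion i)
    (H : ∀ x : Points D,
      ∃ (U : Over S) (_ : IsAffine U.left) (a : (yon S).obj U ⟶ X) (u : ↥U.left)
        (f : Γ(U.left, ⊤)) (I : U.left.IdealSheafData)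
        (fst : (yon S).obj (Over.mk (I.subschemeι ≫ U.hom)) ⟶ D),
        RepWith @Etale a ∧ Points.ofPt a u = Points.map i x ∧
          f ∈ nonZeroDivisors Γ(U.left, ⊤) ∧
          I.ideal ⟨⊤, isAffineOpen_top U.left⟩ = Ideal.span {f} ∧
          IsPullback fst ((yon S).map
            (Over.homMk I.subschemeι rfl : Over.mk (I.subschemeι ≫ U.hom) ⟶ U)) i a) :
    IsEffCartierSub i := by
  obtain ⟨V, φ, hφe, hφs⟩ := hX.atlas
  obtain ⟨I, fst, sq⟩ := exists_ideal_chart i hi V φ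
  refine ⟨hi, V, φ, I, fst, hφe, hφs, sq, ?_⟩
  intro v
  by_cases hv : Points.ofPt φ v ∈ Set.range (Points.map i)
  · obtain ⟨x, hx⟩ := hv
    obtain ⟨U, hUaff, a, u, f, IU, fstU, hae, hau, hfnz, hIU, sqU⟩ := H x
    let V' : Over S := hφe.rep.pullback a
    let c : V' ⟶ V := hφe.rep.fst' a
    let e : V' ⟶ U := hφe.rep.snd a
    have sq1 : IsPullback ((yon S).map c) ((yon S).map e) φ a := hφe.rep.isPullback' a
    haveI he : Etale e.left := hφe.property _ _ _ sq1
    haveI hc : Etale c.left := hae.property _ _ _ sq1.flip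
    obtain ⟨v', hv'v, -⟩ := exists_ofPt_eq_of_isPullback sq1 v u (hx.symm.trans hau.symm)
    obtain ⟨f1, big1⟩ := exists_chart_comap i φ I fst sq c
    obtain ⟨f2, big2⟩ := exists_chart_comap i a IU fstU sqU e
    rw [sq1.w] at big1
    have heq : I.comap c.left = IU.comap e.left :=
      ideal_eq_of_isPullback i _ _ _ f1 f2 big1 big2
    have hIUc : BlowUp.IsEffCartierIdeal IU :=
      fun y => ⟨⟨⊤, isAffineOpen_top _⟩, trivial, f, hfnz, hIU⟩
    have h1 : BlowUp.IsEffCartierIdeal (I.comap c.left) := by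
      rw [heq]; exact comap_of_flat e.left IU hIUc
    have := exists_principal_of_comap c.left c.left.isOpenMap I h1 v'
    rwa [hv'v] at this
  · apply exists_principal_of_notMem_support
    intro hvs
    apply hv
    have h2 := range_left_of_isPullback sq
    have h3 : v ∈ Set.range
        (Over.homMk I.subschemeι rfl : Over.mk (I.subschemeι ≫ V.hom) ⟶ V).left := by
      show v ∈ Set.range I.subschemeι
      rw [Scheme.IdealSheafData.range_subschemeι]; exact hvs
    rw [h2] at h3; exact h3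

end Groth.Agent.Lib.CartierSp2H7
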