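import Mathlib
import Groth.Prelude.Def_AlgSpSub
import Groth.Prelude.Def_AlgSpModX
import Groth.Agent.Lib.CartierSp_helper7
import Groth.Agent.S8852

/-!
# Sums of effective Cartier divisors on algebraic spaces (helper7)
-/

set_option autoImplicit false
universe u
open CategoryTheory CategoryTheory.Limits AlgebraicGeometry Opposite

namespace Groth.Agent.Lib.CartierSp3H7
open AlgSp Groth.Agent.Lib.AlgSpPoints_helper7 Groth.Agent.Lib.CartierDescH7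
  Groth.Agent.Lib.CartierComplH7 Groth.Agent.Lib.AlgSpPullback_helper7
  Groth.Agent.Lib.AlgSpQC_helper7 Groth.Agent.Lib.IdealEtAH7 Groth.Agent.Lib.IdealEtBH7
  Groth.Agent.Lib.CartierSpH7

lemma comap_mul_of_bijective {A B : Type*} [CommRing A] [CommRing B] (r : A →+* B)
    (hr : Function.Bijective r) (K₁ K₂ : Ideal B) :
    (K₁ * K₂).comap r = K₁.comap r * K₂.comap r := by
  have h : ((K₁.comap r * K₂.comap r).map r) = K₁ * K₂ := by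
    rw [Ideal.map_mul, Ideal.map_comap_of_surjective r hr.2,
      Ideal.map_comap_of_surjective r hr.2]
  rw [← h, Ideal.comap_map_of_bijective r hr]

theorem exists_principal_mul {X : Scheme.{u}} (L₁ L₂ : X.IdealSheafData)
    (c₁ : BlowUp.IsEffCartierIdeal L₁) (c₂ : BlowUp.IsEffCartierIdeal L₂) (x : X) :
    ∃ W : X.affineOpens, x ∈ W.1 ∧ ∃ g : Γ(X, W.1), g ∈ nonZeroDivisors Γ(X, W.1) ∧
      L₁.ideal W * L₂.ideal W = Ideal.span {g} := by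
  obtain ⟨U₁, hx₁, H₁⟩ := Groth.Agent.Lib.CartierFlat.exists_affine_principal L₁ c₁ x
  obtain ⟨U₂, hx₂, H₂⟩ := Groth.Agent.Lib.CartierFlat.exists_affine_principal L₂ c₂ x
  obtain ⟨W, hxW, hW⟩ := Groth.Agent.Lib.CartierFlat.exists_affine_le x (U₁.1 ⊓ U₂.1) ⟨hx₁, hx₂⟩
  obtain ⟨g₁, hg₁, hIg₁⟩ := H₁ W (fun y hy => (hW hy).1)
  obtain ⟨g₂, hg₂, hIg₂⟩ := H₂ W (fun y hy => (hW hy).2)
  refine ⟨W, hxW, g₁ * g₂, mul_mem hg₁ hg₂, ?_⟩
  rw [hIg₁, hIg₂, Ideal.span_singleton_mul_span_singleton]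

variable {S : Scheme.{u}}

theorem exists_ker_chart_aux {X Z : Sp S} (i : Z ⟶ X) (hi : RepWith @IsClosedImmersion i)
    (V : Over S) (φ : (yon S).obj V ⟶ X) (m : (hi.rep.pullback φ).left ⟶ V.left)
    (hm : m = (hi.rep.snd φ).left) :
    ∃ fst : (yon S).obj (Over.mk (m.ker.subschemeι ≫ V.hom)) ⟶ Z,
      IsPullback fst ((yon S).map
        (Over.homMk m.ker.subschemeι rfl : Over.mk (m.ker.subschemeι ≫ V.hom) ⟶ V)) i φ := by
  have sqA := hi.rep.isPullback φ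
  haveI hci : IsClosedImmersion (hi.rep.snd φ).left := hi.property_snd φ
  haveI : IsClosedImmersion m := hm ▸ hci
  let τ : hi.rep.pullback φ ⟶ Over.mk (m.ker.subschemeι ≫ V.hom) := Over.homMk m.toImage (by
      show m.toImage ≫ m.imageι ≫ V.hom = (hi.rep.pullback φ).hom
      rw [← Category.assoc, Scheme.Hom.toImage_imageι, hm]; exact Over.w (hi.rep.snd φ))
  haveI : IsIso τ := by
    haveI : IsIso ((Over.forget S).map τ) := (inferInstance : IsIso m.toImage)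
    exact isIso_of_reflects_iso τ (Over.forget S)
  have hτ : τ ≫ (Over.homMk m.ker.subschemeι rfl : Over.mk (m.ker.subschemeι ≫ V.hom) ⟶ V) =
      hi.rep.snd φ := by
    ext
    show m.toImage ≫ m.imageι = _
    rw [Scheme.Hom.toImage_imageι, hm]
  refine ⟨(yon S).map (inv τ) ≫ hi.rep.fst φ, ?_⟩
  have hL : IsPullback ((yon S).map (inv τ))
      ((yon S).map (Over.homMk m.ker.subschemeι rfl : Over.mk (m.ker.subschemeι ≫ V.hom) ⟶ V))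
      ((yon S).map (hi.rep.snd φ)) (𝟙 _) :=
    IsPullback.of_horiz_isIso ⟨by
      rw [Category.comp_id, ← Functor.map_comp, ← hτ, IsIso.inv_hom_id_assoc]⟩
  have := hL.paste_horiz sqA
  rwa [Category.id_comp] at this

theorem exists_ker_chart {X Z : Sp S} (i : Z ⟶ X) (hi : RepWith @IsClosedImmersion i)
    (V : Over S) (φ : (yon S).obj V ⟶ X) :
    ∃ fst : (yon S).obj (Over.mk ((hi.rep.snd φ).left.ker.subschemeι ≫ V.hom)) ⟶ Z,
      IsPullback fst ((yon S).map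
        (Over.homMk (hi.rep.snd φ).left.ker.subschemeι rfl :
          Over.mk ((hi.rep.snd φ).left.ker.subschemeι ≫ V.hom) ⟶ V)) i φ :=
  exists_ker_chart_aux i hi V φ _ rfl

theorem ker_ideal_eq {X Z : Sp S} {i : Z ⟶ X} (hi : RepWith @IsClosedImmersion i) {W : Over S}
    (b : (yon S).obj W ⟶ X) (hb : RepWith @Etale b) (U : W.left.affineOpens) :
    (hi.rep.snd b).left.ker.ideal U =
      ((idealOfRep hi.1).ideal (chartOpen b hb U.1) U.2).comap (rTop U.1).hom := by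
  haveI : IsClosedImmersion (hi.rep.snd b).left := hi.property_snd b
  rw [Scheme.Hom.ker_apply, ker_app_snd hi.rep b U.1]
  rfl

theorem ker_ideal_mul {X Z₁ Z₂ Z : Sp S} {i₁ : Z₁ ⟶ X} {i₂ : Z₂ ⟶ X} {i : Z ⟶ X}
    (hi₁ : RepWith @IsClosedImmersion i₁) (hi₂ : RepWith @IsClosedImmersion i₂)
    (hi : RepWith @IsClosedImmersion i)
    (hI : idealOfRep hi.1 = idealOfRep hi₁.1 * idealOfRep hi₂.1) {W : Over S}
    (b : (yon S).obj W ⟶ X) (hb : RepWith @Etale b) (U : W.left.affineOpens) :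
    (hi.rep.snd b).left.ker.ideal U =
      (hi₁.rep.snd b).left.ker.ideal U * (hi₂.rep.snd b).left.ker.ideal U := by
  rw [ker_ideal_eq hi b hb U, ker_ideal_eq hi₁ b hb U, ker_ideal_eq hi₂ b hb U, hI]
  exact comap_mul_of_bijective _ (rTop_bijective _) _ _

theorem isEffCartierSub_mul {X D₁ D₂ D : Sp S} (hX : IsAlgSpace X) (i₁ : D₁ ⟶ X) (i₂ : D₂ ⟶ X)
    (i : D ⟶ X) (I₁ I₂ : IdealEt X)
    (h₁ : IsCutOutBy I₁ i₁) (h₂ : IsCutOutBy I₂ i₂) (hD : IsCutOutBy (I₁ * I₂) i)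
    (e₁ : IsEffCartierSub i₁) (e₂ : IsEffCartierSub i₂) : IsEffCartierSub i := by
  obtain ⟨hi₁, rfl⟩ := h₁
  obtain ⟨hi₂, rfl⟩ := h₂
  obtain ⟨hi, hI⟩ := hD
  obtain ⟨V, φ, hφe, hφs⟩ := hX.atlas
  obtain ⟨f₁, sq₁⟩ := exists_ker_chart i₁ hi₁ V φ
  obtain ⟨f₂, sq₂⟩ := exists_ker_chart i₂ hi₂ V φ
  obtain ⟨f, sq⟩ := exists_ker_chart i hi V φ
  have c₁ : BlowUp.IsEffCartierIdeal (hi₁.rep.snd φ).left.ker := by
    obtain ⟨-, V₁, φ₁, K₁, fstD, hφ₁e, hφ₁s, sqD, hK₁⟩ := e₁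
    exact isEffCartierIdeal_of_chart i₁ V₁ φ₁ K₁ fstD hφ₁e hφ₁s sqD hK₁ V φ hφe _ f₁ sq₁
  have c₂ : BlowUp.IsEffCartierIdeal (hi₂.rep.snd φ).left.ker := by
    obtain ⟨-, V₂, φ₂, K₂, fstD, hφ₂e, hφ₂s, sqD, hK₂⟩ := e₂
    exact isEffCartierIdeal_of_chart i₂ V₂ φ₂ K₂ fstD hφ₂e hφ₂s sqD hK₂ V φ hφe _ f₂ sq₂
  refine ⟨hi, V, φ, _, f, hφe, hφs, sq, ?_⟩
  intro x
  obtain ⟨W, hxW, g, hg, hmul⟩ := exists_principal_mul _ _ c₁ c₂ x
  refine ⟨W, hxW, g, hg, ?_⟩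
  rw [← hmul]
  exact ker_ideal_mul hi₁ hi₂ hi hI φ hφe W

theorem isEffCartierSub_of_mul {X Z Y D : Sp S} (iZ : Z ⟶ X) (iY : Y ⟶ X) (iD : D ⟶ X)
    (I J : IdealEt X) (hZ : IsCutOutBy I iZ) (hY : IsCutOutBy J iY)
    (hD : IsCutOutBy (I * J) iD) (hDc : IsEffCartierSub iD) :
    IsEffCartierSub iZ ∧ IsEffCartierSub iY := by
  obtain ⟨hi₁, rfl⟩ := hZ
  obtain ⟨hi₂, rfl⟩ := hY
  obtain ⟨hi, hI⟩ := hD
  obtain ⟨-, V, φ, K, fstD, hφe, hφs, sqD, hK⟩ := hDc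
  obtain ⟨f₁, sq₁⟩ := exists_ker_chart iZ hi₁ V φ
  obtain ⟨f₂, sq₂⟩ := exists_ker_chart iY hi₂ V φ
  obtain ⟨f, sq⟩ := exists_ker_chart iD hi V φ
  have hKL : K = (hi.rep.snd φ).left.ker := ideal_eq_of_isPullback iD φ _ _ fstD f sqD sq
  have hmul : (hi.rep.snd φ).left.ker =
      (hi₁.rep.snd φ).left.ker * (hi₂.rep.snd φ).left.ker := by
    apply Scheme.IdealSheafData.ext
    funext W
    exact ker_ideal_mul hi₁ hi₂ hi hI φ hφe W
  rw [hKL, hmul] at hK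
  obtain ⟨r₁, r₂⟩ := Groth.Agent.S8852.result _ _ hK
  exact ⟨⟨hi₁, V, φ, _, f₁, hφe, hφs, sq₁, r₁⟩, ⟨hi₂, V, φ, _, f₂, hφe, hφs, sq₂, r₂⟩⟩

end Groth.Agent.Lib.CartierSp3H7
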