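import Mathlib
import Groth.Prelude.Def_AlgSpSub
import Groth.Agent.Lib.CartierSp_helper7
import Groth.Agent.S1662

/-!
# Base change of effective Cartier divisors flat over the base, for algebraic spaces (helper7)
-/

set_option autoImplicit false
universe u
open CategoryTheory CategoryTheory.Limits AlgebraicGeometry Opposite

namespace Groth.Agent.Lib.CartierSp4H7
open AlgSp Groth.Agent.Lib.AlgSpPoints_helper7 Groth.Agent.Lib.CartierDescH7
  Groth.Agent.Lib.CartierComplH7 Groth.Agent.Lib.AlgSpPullback_helper7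
  Groth.Agent.Lib.AlgSpQC_helper7 Groth.Agent.Lib.IdealEtAH7 Groth.Agent.Lib.IdealEtBH7
  Groth.Agent.Lib.CartierSpH7

variable {S : Scheme.{u}}

/-- A chart of a fibre product `X' = X ×_Y Y'` built from compatible scheme charts. -/
theorem exists_chart_of_isPullback {X Y Y' X' : Sp S} (hY : IsAlgSpace Y) (hY' : IsAlgSpace Y')
    (f : X ⟶ Y) (g : Y' ⟶ Y) (g' : X' ⟶ X) (f' : X' ⟶ Y') (hX' : IsPullback g' f' f g)
    (V : Over S) (φ : (yon S).obj V ⟶ X) (hφe : RepWith @Etale φ)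
    (hφs : RepWith @Surjective φ) :
    ∃ (B B' V₁ : Over S) (b : (yon S).obj B ⟶ Y) (c₁ : V₁ ⟶ B) (e₁ : V₁ ⟶ V) (c' : B' ⟶ B)
      (ψ : (yon S).obj (Over.mk (pullback.fst c₁.left c'.left ≫ V₁.hom)) ⟶ X'),
      RepWith @Etale b ∧ Etale e₁.left ∧ (yon S).map e₁ ≫ φ ≫ f = (yon S).map c₁ ≫ b ∧
      RepWith @Etale ψ ∧ RepWith @Surjective ψ ∧
      ψ ≫ g' = (yon S).map (Over.homMk (pullback.fst c₁.left c'.left) rfl :
        Over.mk (pullback.fst c₁.left c'.left ≫ V₁.hom) ⟶ V₁) ≫ (yon S).map e₁ ≫ φ := by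
  obtain ⟨B, b, hbe, hbs⟩ := hY.atlas
  obtain ⟨B₀', b₀', hb₀'e, hb₀'s⟩ := hY'.atlas
  let B' : Over S := hbe.rep.pullback (b₀' ≫ g)
  let c' : B' ⟶ B := hbe.rep.fst' (b₀' ≫ g)
  let e' : B' ⟶ B₀' := hbe.rep.snd (b₀' ≫ g)
  have sqB' : IsPullback ((yon S).map c') ((yon S).map e') b (b₀' ≫ g) :=
    hbe.rep.isPullback' _
  let V₁ : Over S := hbe.rep.pullback (φ ≫ f)
  let c₁ : V₁ ⟶ B := hbe.rep.fst' (φ ≫ f)
  let e₁ : V₁ ⟶ V := hbe.rep.snd (φ ≫ f)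
  have sqV₁ : IsPullback ((yon S).map c₁) ((yon S).map e₁) b (φ ≫ f) := hbe.rep.isPullback' _
  have he₁ : Etale e₁.left := hbe.property _ _ _ sqV₁
  have he₁s : Surjective e₁.left := hbs.property _ _ _ sqV₁
  let φ₁ : (yon S).obj V₁ ⟶ X := (yon S).map e₁ ≫ φ
  have hφ₁e : RepWith @Etale φ₁ := repWith_comp @Etale ((repWith_yon_map_iff _ _).2 he₁) hφe
  have hφ₁s : RepWith @Surjective φ₁ :=
    repWith_comp @Surjective ((repWith_yon_map_iff _ _).2 he₁s) hφs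
  have hw₁ : φ₁ ≫ f = (yon S).map c₁ ≫ b := (Category.assoc _ _ _).trans sqV₁.w.symm
  let Tₒ : Over S := Over.mk (pullback.fst c₁.left c'.left ≫ V₁.hom)
  let p₁ : Tₒ ⟶ V₁ := Over.homMk (pullback.fst c₁.left c'.left) rfl
  let p₂ : Tₒ ⟶ B' := Over.homMk (pullback.snd c₁.left c'.left) (by
    show pullback.snd c₁.left c'.left ≫ B'.hom = pullback.fst c₁.left c'.left ≫ V₁.hom
    rw [← Over.w c', ← Over.w c₁, ← Category.assoc, ← Category.assoc, pullback.condition])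
  have sqT₀ : IsPullback p₁ p₂ c₁ c' :=
    IsPullback.of_map (Over.forget S) (by ext; exact pullback.condition)
      (IsPullback.of_hasPullback c₁.left c'.left)
  have sqT := sqT₀.map (yon S)
  have sqi : IsPullback ((yon S).map p₁) ((yon S).map p₂ ≫ (yon S).map e')
      ((yon S).map c₁ ≫ b) (b₀' ≫ g) := sqT.paste_vert sqB'
  rw [← hw₁] at sqi
  have sqR : IsPullback (pullback.fst (φ₁ ≫ f) g) (pullback.snd (φ₁ ≫ f) g) (φ₁ ≫ f) g :=
    IsPullback.of_hasPullback _ _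
  have hcomm_t : (yon S).map p₁ ≫ φ₁ ≫ f =
      (((yon S).map p₂ ≫ (yon S).map e') ≫ b₀') ≫ g := by
    rw [sqi.w]; simp only [Category.assoc]
  let t := sqR.lift ((yon S).map p₁) (((yon S).map p₂ ≫ (yon S).map e') ≫ b₀') hcomm_t
  have ht1 : t ≫ pullback.fst (φ₁ ≫ f) g = (yon S).map p₁ := sqR.lift_fst _ _ _
  have ht2 : t ≫ pullback.snd (φ₁ ≫ f) g = ((yon S).map p₂ ≫ (yon S).map e') ≫ b₀' :=
    sqR.lift_snd _ _ _
  have sqt : IsPullback t ((yon S).map p₂ ≫ (yon S).map e') (pullback.snd (φ₁ ≫ f) g) b₀' := by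
    refine IsPullback.of_right ?_ ht2 sqR
    rw [ht1]; exact sqi
  have hcomm_u : (pullback.fst (φ₁ ≫ f) g ≫ φ₁) ≫ f = pullback.snd (φ₁ ≫ f) g ≫ g :=
    (Category.assoc _ _ _).trans sqR.w
  let uu := hX'.lift (pullback.fst (φ₁ ≫ f) g ≫ φ₁) (pullback.snd (φ₁ ≫ f) g) hcomm_u
  have hu1 : uu ≫ g' = pullback.fst (φ₁ ≫ f) g ≫ φ₁ := hX'.lift_fst _ _ _
  have hu2 : uu ≫ f' = pullback.snd (φ₁ ≫ f) g := hX'.lift_snd _ _ _
  have squ : IsPullback uu (pullback.fst (φ₁ ≫ f) g) g' φ₁ := by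
    refine IsPullback.of_right ?_ hu1 hX'.flip
    rw [hu2]; exact sqR.flip
  refine ⟨B, B', V₁, b, c₁, e₁, c', t ≫ uu, hbe, he₁, ?_, ?_, ?_, ?_⟩
  · rw [← Category.assoc]; exact hw₁
  · exact repWith_comp @Etale (repWith_fst_of_isPullback @Etale sqt hb₀'e)
      (repWith_fst_of_isPullback @Etale squ hφ₁e)
  · exact repWith_comp @Surjective (repWith_fst_of_isPullback @Surjective sqt hb₀'s)
      (repWith_fst_of_isPullback @Surjective squ hφ₁s)
  · rw [Category.assoc, hu1, ← Category.assoc, ht1]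

theorem isEffCartierSub_baseChange {X Y D Y' X' D' : Sp S} (hY : IsAlgSpace Y)
    (hY' : IsAlgSpace Y')
    (f : X ⟶ Y) (i : D ⟶ X) (hD : IsEffCartierSub i) (hflat : LocP @Flat (i ≫ f))
    (g : Y' ⟶ Y) (g' : X' ⟶ X) (f' : X' ⟶ Y') (hX' : IsPullback g' f' f g)
    (k : D' ⟶ D) (i' : D' ⟶ X') (hD' : IsPullback k i' i g') : IsEffCartierSub i' := by
  obtain ⟨hci, V, φ, I, fstD, hφe, hφs, sqD, hI⟩ := hD
  obtain ⟨B, B', V₁, b, c₁, e₁, c', ψ, hbe, he₁, hw, hψe, hψs, hψ⟩ :=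
    exists_chart_of_isPullback hY hY' f g g' f' hX' V φ hφe hφs
  haveI := he₁
  obtain ⟨fst₁, sq₁⟩ := exists_chart_comap i φ I fstD sqD e₁
  have hI₁ : BlowUp.IsEffCartierIdeal (I.comap e₁.left) := comap_of_flat e₁.left I hI
  let ι₁ : Over.mk ((I.comap e₁.left).subschemeι ≫ V₁.hom) ⟶ V₁ := Over.homMk _ rfl
  have hfst₁e : RepWith @Etale fst₁ := repWith_fst_of_isPullback @Etale sq₁
    (repWith_comp @Etale ((repWith_yon_map_iff _ _).2 he₁) hφe)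
  haveI hfl : Flat ((I.comap e₁.left).subschemeι ≫ c₁.left) := by
    have := hflat fst₁ b (ι₁ ≫ c₁) hfst₁e hbe (by
      rw [← Category.assoc, sq₁.w, Functor.map_comp]
      simp only [Category.assoc]
      rw [hw])
    exact this
  have hT := Groth.Agent.S1662.result c₁.left (I.comap e₁.left) hI₁ c'.left
  let Tₒ : Over S := Over.mk (pullback.fst c₁.left c'.left ≫ V₁.hom)
  let p₁ : Tₒ ⟶ V₁ := Over.homMk (pullback.fst c₁.left c'.left) rfl
  obtain ⟨fstT, sqT⟩ := exists_chart_comap i ((yon S).map e₁ ≫ φ) (I.comap e₁.left) fst₁ sq₁ p₁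
  have hψ' : ψ ≫ g' = (yon S).map p₁ ≫ (yon S).map e₁ ≫ φ := hψ
  rw [← hψ'] at sqT
  let ιT : Over.mk (((I.comap e₁.left).comap p₁.left).subschemeι ≫ Tₒ.hom) ⟶ Tₒ :=
    Over.homMk _ rfl
  have hcomm : fstT ≫ i = ((yon S).map ιT ≫ ψ) ≫ g' :=
    sqT.w.trans (Category.assoc _ _ _).symm
  let fstP := hD'.lift fstT ((yon S).map ιT ≫ ψ) hcomm
  have hl1 : fstP ≫ k = fstT := hD'.lift_fst _ _ _
  have hl2 : fstP ≫ i' = (yon S).map ιT ≫ ψ := hD'.lift_snd _ _ _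
  have sqL : IsPullback fstP ((yon S).map ιT) i' ψ := by
    refine IsPullback.of_right ?_ hl2 hD'
    rw [hl1]; exact sqT
  exact ⟨repWith_snd_of_isPullback @IsClosedImmersion hD' hci, Tₒ, ψ,
    (I.comap e₁.left).comap p₁.left, fstP, hψe, hψs, sqL, hT⟩

end Groth.Agent.Lib.CartierSp4H7
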