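import Mathlib
import Groth.Prelude.Def_W4c1nerontoraddGraph

/-! Cartier functions on a labelled multigraph are spanned by elementary ones (helper1). -/

set_option autoImplicit false
universe u

namespace Groth.Agent.Lib.CartierSpan_helper1
open LabGraph

variable {V E : Type u} [Fintype V] [Fintype E] [DecidableEq V] [DecidableEq E]
variable (ends : E → V × V) (l : E → ℕ)

/-- the set of elementary-Cartier functions. -/
def elemSet : Set (V → ℤ) :=
  {g | ∃ n : ℕ, 0 < n ∧ (∀ v, (n : ℤ) ∣ g v) ∧ ∀ e, ¬ (l e ∣ n) → g (ends e).1 = g (ends e).2}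

/-- adjacency through an edge whose label does not divide `n`. -/
def step (n : ℕ) (v w : V) : Prop := ∃ e, ¬ (l e ∣ n) ∧ (ends e = (v, w) ∨ ends e = (w, v))

/-- chosen representative of the component of `v`. -/
noncomputable def rep (n : ℕ) (v : V) : V :=
  (Quotient.mk (Relation.EqvGen.setoid (step ends l n)) v).out

theorem rep_rel (n : ℕ) (v : V) : Relation.EqvGen (step ends l n) (rep ends l n v) v :=
  Quotient.exact (s := Relation.EqvGen.setoid (step ends l n)) (Quotient.out_eq _)

theorem rep_eq (n : ℕ) (v w : V) (h : step ends l n v w) : rep ends l n v = rep ends l n w := by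
  unfold rep
  congr 1
  exact Quotient.sound (s := Relation.EqvGen.setoid (step ends l n)) (Relation.EqvGen.rel _ _ h)

theorem cartier_of_elem {g : V → ℤ} (hg : g ∈ elemSet ends l) : IsCartier ends l g := by
  obtain ⟨n, hn, hdiv, heq⟩ := hg
  intro e
  by_cases h : l e ∣ n
  · have h' : (l e : ℤ) ∣ (n : ℤ) := Int.natCast_dvd_natCast.mpr h
    exact dvd_sub (h'.trans (hdiv _)) (h'.trans (hdiv _))
  · rw [heq e h, sub_self]; exact dvd_zero _

theorem cartier_sub {F G : V → ℤ} (hF : IsCartier ends l F) (hG : IsCartier ends l G) :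
    IsCartier ends l (F - G) := by
  intro e
  have := dvd_sub (hF e) (hG e)
  have h2 : (F - G) (ends e).1 - (F - G) (ends e).2
      = (F (ends e).1 - F (ends e).2) - (G (ends e).1 - G (ends e).2) := by
    simp only [Pi.sub_apply]; ring
  rw [h2]; exact this

theorem cartier_smul {F : V → ℤ} (hF : IsCartier ends l F) (c : ℤ) :
    IsCartier ends l (c • F) := by
  intro e
  have h2 : (c • F) (ends e).1 - (c • F) (ends e).2 = c * (F (ends e).1 - F (ends e).2) := by
    simp only [Pi.smul_apply, smul_eq_mul]; ring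
  rw [h2]; exact Dvd.dvd.mul_left (hF e) c

theorem arith {p : ℕ} (hp : p.Prime) (n l a : ℕ) (x : ℤ) (hn : (n : ℤ) ∣ x) (hl : (l : ℤ) ∣ x)
    (hln : ¬ l ∣ n) (hlp : l ∣ n * p ^ (a + 1)) : ((n * p : ℕ) : ℤ) ∣ x := by
  obtain ⟨y, rfl⟩ := hn
  have hpy : (p : ℤ) ∣ y := by
    by_contra hcon
    have h1 : ¬ p ∣ y.natAbs := fun h => hcon (Int.natCast_dvd.mpr h)
    have hc : Nat.Coprime y.natAbs (p ^ (a + 1)) :=
      Nat.Coprime.pow_right _ ((Nat.Prime.coprime_iff_not_dvd hp).mpr h1).symm
    have h2 : l ∣ n * y.natAbs := by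
      have := Int.natCast_dvd.mp hl
      rwa [Int.natAbs_mul, Int.natAbs_natCast] at this
    have h3 : l ∣ Nat.gcd (n * y.natAbs) (n * p ^ (a + 1)) := Nat.dvd_gcd h2 hlp
    rw [Nat.gcd_mul_left, hc.gcd_eq_one, mul_one] at h3
    exact hln h3
  obtain ⟨z, rfl⟩ := hpy
  exact ⟨z, by push_cast; ring⟩

theorem single_prime {p : ℕ} (hp : p.Prime) : ∀ (a n : ℕ), 0 < n → ∀ F : V → ℤ,
    IsCartier ends l F → (∀ v, (n : ℤ) ∣ F v) → (∀ e, l e ∣ n * p ^ a) →
    F ∈ Submodule.span ℤ (elemSet ends l) := by
  intro a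
  induction a with
  | zero =>
    intro n hn F hF hdiv hl
    apply Submodule.subset_span
    exact ⟨n, hn, hdiv, fun e he => absurd (by simpa using hl e) he⟩
  | succ a ih =>
    intro n hn F hF hdiv hl
    obtain ⟨g, hg⟩ : ∃ g : V → ℤ, g = fun v => F (rep ends l n v) := ⟨_, rfl⟩
    have hgS : g ∈ elemSet ends l := by
      refine ⟨n, hn, fun v => by rw [hg]; exact hdiv _, fun e he => ?_⟩
      rw [hg]
      show F (rep ends l n (ends e).1) = F (rep ends l n (ends e).2)
      rw [rep_eq ends l n (ends e).1 (ends e).2 ⟨e, he, Or.inl rfl⟩]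
    have hkey : ∀ v w, Relation.EqvGen (step ends l n) v w → ((n * p : ℕ) : ℤ) ∣ F v - F w := by
      intro v w h
      induction h with
      | rel v w h =>
        obtain ⟨e, he, h1 | h1⟩ := h
        · have hc := hF e
          rw [h1] at hc
          exact arith hp n (l e) a _ (dvd_sub (hdiv v) (hdiv w)) hc he (hl e)
        · have hc := hF e
          rw [h1] at hc
          have hc' : (l e : ℤ) ∣ F v - F w := by rw [← neg_sub]; exact (dvd_neg).mpr hc
          exact arith hp n (l e) a _ (dvd_sub (hdiv v) (hdiv w)) hc' he (hl e)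
      | refl v => rw [sub_self]; exact dvd_zero _
      | symm v w _ ih => rw [← neg_sub]; exact (dvd_neg).mpr ih
      | trans u v w _ _ ih1 ih2 =>
        have : F u - F w = (F u - F v) + (F v - F w) := by ring
        rw [this]; exact dvd_add ih1 ih2
    have hF' : F - g ∈ Submodule.span ℤ (elemSet ends l) := by
      apply ih (n * p) (Nat.mul_pos hn hp.pos) (F - g)
        (cartier_sub ends l hF (cartier_of_elem ends l hgS))
      · intro v
        rw [hg]
        show ((n * p : ℕ) : ℤ) ∣ F v - F (rep ends l n v)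
        exact hkey _ _ (Relation.EqvGen.symm _ _ (rep_rel ends l n v))
      · intro e
        rw [mul_assoc, ← pow_succ']
        exact hl e
    have : F = (F - g) + g := (sub_add_cancel _ _).symm
    rw [this]
    exact add_mem hF' (Submodule.subset_span hgS)

theorem general : ∀ K : ℕ, 0 < K → ∀ n : ℕ, 0 < n → ∀ F : V → ℤ, IsCartier ends l F →
    (∀ v, (n : ℤ) ∣ F v) → (∀ e, l e ∣ n * K) → F ∈ Submodule.span ℤ (elemSet ends l) := by
  intro K
  induction K using Nat.strong_induction_on with
  | _ K ih =>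
    intro hK n hn F hF hdiv hl
    rcases Nat.lt_or_ge K 2 with h | h
    · have : K = 1 := by omega
      subst this
      exact single_prime ends l Nat.prime_two 0 n hn F hF hdiv (by simpa using hl)
    · obtain ⟨p, hpdef⟩ : ∃ p, p = K.minFac := ⟨_, rfl⟩
      have hp : p.Prime := by rw [hpdef]; exact Nat.minFac_prime (by omega)
      obtain ⟨a, K', hpK', hK'⟩ :=
        Nat.exists_eq_pow_mul_and_not_dvd (by omega : K ≠ 0) p hp.ne_one
      have ha : a ≠ 0 := by
        rintro rfl
        rw [pow_zero, one_mul] at hK'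
        apply hpK'
        rw [← hK', hpdef]
        exact Nat.minFac_dvd K
      have hK'pos : 0 < K' := by
        rcases Nat.eq_zero_or_pos K' with h0 | h0
        · rw [h0, mul_zero] at hK'; omega
        · exact h0
      have hpa : 2 ≤ p ^ a := by
        calc 2 ≤ p := hp.two_le
          _ = p ^ 1 := (pow_one p).symm
          _ ≤ p ^ a := Nat.pow_le_pow_right hp.pos (by omega)
      have hK'lt : K' < K := by rw [hK']; nlinarith
      have hcop : Nat.Coprime (p ^ a) K' :=
        Nat.Coprime.pow_left _ ((Nat.Prime.coprime_iff_not_dvd hp).mpr hpK')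
      obtain ⟨x, y, hxy⟩ : IsCoprime ((p ^ a : ℕ) : ℤ) (K' : ℤ) :=
        Nat.isCoprime_iff_coprime.mpr hcop
      have h1 : ((p ^ a : ℕ) : ℤ) • F ∈ Submodule.span ℤ (elemSet ends l) := by
        apply ih K' hK'lt hK'pos (n * p ^ a) (Nat.mul_pos hn (by omega)) _
          (cartier_smul ends l hF _)
        · intro v
          show ((n * p ^ a : ℕ) : ℤ) ∣ ((p ^ a : ℕ) : ℤ) * F v
          rw [Nat.cast_mul, mul_comm (n : ℤ)]
          exact mul_dvd_mul_left _ (hdiv v)
        · intro e
          rw [mul_assoc, ← hK']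
          exact hl e
      have h2 : ((K' : ℕ) : ℤ) • F ∈ Submodule.span ℤ (elemSet ends l) := by
        apply single_prime ends l hp a (n * K') (Nat.mul_pos hn hK'pos) _
          (cartier_smul ends l hF _)
        · intro v
          show ((n * K' : ℕ) : ℤ) ∣ ((K' : ℕ) : ℤ) * F v
          rw [Nat.cast_mul, mul_comm (n : ℤ)]
          exact mul_dvd_mul_left _ (hdiv v)
        · intro e
          rw [mul_assoc, mul_comm K', ← hK']
          exact hl e
      have : F = x • (((p ^ a : ℕ) : ℤ) • F) + y • (((K' : ℕ) : ℤ) • F) := by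
        funext v
        simp only [Pi.add_apply, Pi.smul_apply, smul_eq_mul]
        linear_combination (-(F v)) * hxy
      rw [this]
      exact add_mem (Submodule.smul_mem _ _ h1) (Submodule.smul_mem _ _ h2)

/-- S17723 (connectedness is not needed). -/
theorem main (hl : ∀ e, 0 < l e) (f : V → ℤ) (hf : IsCartier ends l f) :
    f ∈ Submodule.span ℤ {g : V → ℤ | ∃ n : ℕ, 0 < n ∧ (∀ v, (n : ℤ) ∣ g v) ∧
      ∀ e, ¬ (l e ∣ n) → g (ends e).1 = g (ends e).2} := by
  have := general ends l (∏ e, l e) (Finset.prod_pos (fun e _ => hl e)) 1 one_pos f hf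
    (fun v => by simp) (fun e => by
      rw [one_mul]; exact Finset.dvd_prod_of_mem l (Finset.mem_univ e))
  exact this

end Groth.Agent.Lib.CartierSpan_helper1
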