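import Mathlib

/-!
# Trace on differentials of `R[x]/(x^p - a)` in characteristic `p` (helper2)
-/

set_option autoImplicit false
universe u
open Polynomial

namespace CartierH2

section Lambda

variable {R S M : Type*} [CommRing R] [CommRing S] [Algebra R S] [AddCommGroup M] [Module R M]
  [Module S M] [IsScalarTower R S M]

/-- `((u+v)^p - u^p - v^p)/p` for `p = q + 1`. -/
def lam (q : ℕ) (u v : S) : S :=
  ∑ i ∈ Finset.range q, (((q + 1).choose (i + 1) / (q + 1) : ℕ) : S) * (u ^ (i + 1) * v ^ (q - i))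

theorem key_identity (q : ℕ) [hp : Fact (q + 1).Prime] (D : Derivation R S M) (u v : S) :
    (u + v) ^ q • D (u + v) = u ^ q • D u + v ^ q • D v + D (lam q u v) := by
  have hc1 : ∀ i, i < q → ((q + 1).choose (i + 1) / (q + 1)) * (i + 1) = q.choose i := by
    intro i hi
    obtain ⟨c, hc⟩ := hp.out.dvd_choose_self (Nat.succ_ne_zero i) (by omega : i + 1 < q + 1)
    rw [hc, Nat.mul_div_cancel_left _ (Nat.succ_pos q)]
    have := Nat.add_one_mul_choose_eq q i
    rw [hc, mul_assoc] at this
    exact (Nat.eq_of_mul_eq_mul_left (Nat.succ_pos q) this).symm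
  have hc2 : ∀ i, i < q → ((q + 1).choose (i + 1) / (q + 1)) * (q - i) = q.choose (i + 1) := by
    intro i hi
    obtain ⟨c, hc⟩ := hp.out.dvd_choose_self (Nat.succ_ne_zero i) (by omega : i + 1 < q + 1)
    rw [hc, Nat.mul_div_cancel_left _ (Nat.succ_pos q)]
    have := Nat.choose_mul_succ_eq q (i + 1)
    rw [hc, show q + 1 - (i + 1) = q - i by omega, mul_assoc, mul_comm] at this
    exact (Nat.eq_of_mul_eq_mul_left (Nat.succ_pos q) this).symm
  have hA : (u + v) ^ q = u ^ q + ∑ i ∈ Finset.range q, (q.choose i : S) * (u ^ i * v ^ (q - i)) := by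
    rw [add_pow, Finset.sum_range_succ, Nat.sub_self, pow_zero, mul_one, Nat.choose_self,
      Nat.cast_one, mul_one, add_comm]
    congr 1
    exact Finset.sum_congr rfl fun i _ => by ring
  have hB : (u + v) ^ q = v ^ q +
      ∑ i ∈ Finset.range q, (q.choose (i + 1) : S) * (u ^ (i + 1) * v ^ (q - (i + 1))) := by
    rw [add_pow, Finset.sum_range_succ', pow_zero, one_mul, Nat.sub_zero, Nat.choose_zero_right,
      Nat.cast_one, mul_one, add_comm]
    congr 1
    exact Finset.sum_congr rfl fun i _ => by ring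
  have hD : D (lam q u v) =
      (∑ i ∈ Finset.range q, (q.choose i : S) * (u ^ i * v ^ (q - i))) • D u +
      (∑ i ∈ Finset.range q, (q.choose (i + 1) : S) * (u ^ (i + 1) * v ^ (q - (i + 1)))) • D v := by
    rw [lam, map_sum, Finset.sum_smul, Finset.sum_smul, ← Finset.sum_add_distrib]
    refine Finset.sum_congr rfl fun i hi => ?_
    rw [Finset.mem_range] at hi
    rw [Derivation.leibniz, Derivation.map_natCast, smul_zero, add_zero, Derivation.leibniz,
      Derivation.leibniz_pow, Derivation.leibniz_pow, Nat.add_sub_cancel, ← hc1 i hi, ← hc2 i hi,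
      show q - i - 1 = q - (i + 1) by omega]
    push_cast
    module
  calc (u + v) ^ q • D (u + v) = (u + v) ^ q • D u + (u + v) ^ q • D v := by
        rw [map_add, smul_add]
    _ = (u ^ q + ∑ i ∈ Finset.range q, (q.choose i : S) * (u ^ i * v ^ (q - i))) • D u +
        (v ^ q + ∑ i ∈ Finset.range q,
          (q.choose (i + 1) : S) * (u ^ (i + 1) * v ^ (q - (i + 1)))) • D v := by
        rw [← hA, ← hB]
    _ = u ^ q • D u + v ^ q • D v + D (lam q u v) := by
        rw [hD, add_smul, add_smul]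
        abel

end Lambda

section Main

variable (q : ℕ) [hp : Fact (q + 1).Prime] (R : Type u) [CommRing R] [CharP R (q + 1)] (b : R)


include hp in
theorem nontrivial_R : Nontrivial R :=
  CharP.nontrivial_of_char_ne_one (R := R) (v := q + 1) hp.out.ne_one

omit hp [CharP R (q + 1)] in
theorem root_pow : (AdjoinRoot.root (X ^ (q + 1) - C b : R[X])) ^ (q + 1) = algebraMap R (AdjoinRoot (X ^ (q + 1) - C b : R[X])) b := by
  have := AdjoinRoot.eval₂_root (X ^ (q + 1) - C b : R[X])
  rw [eval₂_sub, eval₂_pow, eval₂_X, eval₂_C, sub_eq_zero] at this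
  rw [this, AdjoinRoot.algebraMap_eq]

theorem algebraMap_injective : Function.Injective (algebraMap R (AdjoinRoot (X ^ (q + 1) - C b : R[X]))) := by
  haveI := nontrivial_R q R
  rw [injective_iff_map_eq_zero]
  intro r hr
  rw [AdjoinRoot.algebraMap_eq, ← AdjoinRoot.mk_C, AdjoinRoot.mk_eq_zero] at hr
  have hdeg : degree (C r) < degree (X ^ (q + 1) - C b : R[X]) := by
    rw [degree_X_pow_sub_C (Nat.succ_pos q)]
    exact lt_of_le_of_lt degree_C_le (by exact_mod_cast Nat.succ_pos q)
  by_contra hr0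
  exact (monic_X_pow_sub_C b (Nat.succ_ne_zero q)).not_dvd_of_degree_lt
    (fun h => hr0 (C_eq_zero.mp h)) hdeg hr

omit hp [CharP R (q + 1)] in
theorem mk_monomial (k : ℕ) (c : R) :
    AdjoinRoot.mk (X ^ (q + 1) - C b : R[X]) (monomial k c) = algebraMap R (AdjoinRoot (X ^ (q + 1) - C b : R[X])) c * (AdjoinRoot.root (X ^ (q + 1) - C b : R[X])) ^ k := by
  rw [← C_mul_X_pow_eq_monomial, map_mul, map_pow, AdjoinRoot.mk_C, AdjoinRoot.mk_X,
    AdjoinRoot.algebraMap_eq]

variable (T : Ω[(AdjoinRoot (X ^ (q + 1) - C b : R[X]))⁄R] →ₗ[R] Ω[R⁄ℤ])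
  (hT : ∀ i : ℕ, i < q → T ((AdjoinRoot.root (X ^ (q + 1) - C b : R[X])) ^ i • KaehlerDifferential.D R (AdjoinRoot (X ^ (q + 1) - C b : R[X])) (AdjoinRoot.root (X ^ (q + 1) - C b : R[X]))) = 0)
  (hT' : T ((AdjoinRoot.root (X ^ (q + 1) - C b : R[X])) ^ q • KaehlerDifferential.D R (AdjoinRoot (X ^ (q + 1) - C b : R[X])) (AdjoinRoot.root (X ^ (q + 1) - C b : R[X]))) = KaehlerDifferential.D ℤ R b)
include hT hT'

omit hp [CharP R (q + 1)] in
theorem T_pow (k : ℕ) : T ((AdjoinRoot.root (X ^ (q + 1) - C b : R[X])) ^ k • KaehlerDifferential.D R (AdjoinRoot (X ^ (q + 1) - C b : R[X])) (AdjoinRoot.root (X ^ (q + 1) - C b : R[X]))) =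
    if k % (q + 1) = q then b ^ (k / (q + 1)) • KaehlerDifferential.D ℤ R b else 0 := by
  have hk : (AdjoinRoot.root (X ^ (q + 1) - C b : R[X])) ^ k = algebraMap R (AdjoinRoot (X ^ (q + 1) - C b : R[X])) (b ^ (k / (q + 1))) * (AdjoinRoot.root (X ^ (q + 1) - C b : R[X])) ^ (k % (q + 1)) := by
    conv_lhs => rw [← Nat.div_add_mod k (q + 1), pow_add, pow_mul, root_pow]
    rw [map_pow]
  rw [hk, mul_smul, algebraMap_smul, map_smul]
  split_ifs with h
  · rw [h, hT']
  · have hlt := Nat.mod_lt k (by omega : 0 < q + 1)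
    rw [hT _ (by omega), smul_zero]

theorem T_D (w : (AdjoinRoot (X ^ (q + 1) - C b : R[X]))) : T (KaehlerDifferential.D R (AdjoinRoot (X ^ (q + 1) - C b : R[X])) w) = 0 := by
  obtain ⟨g, rfl⟩ := AdjoinRoot.mk_surjective w
  induction g using Polynomial.induction_on' with
  | add g h hg hh => rw [map_add, map_add, map_add, hg, hh, add_zero]
  | monomial k c =>
    rw [mk_monomial, Derivation.leibniz, Derivation.map_algebraMap, smul_zero, add_zero,
      Derivation.leibniz_pow, algebraMap_smul, map_smul, map_nsmul, T_pow q R b T hT hT']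
    split_ifs with h
    · have hdvd : (q + 1) ∣ k := by
        rcases k with _ | j
        · have := hp.out.one_lt
          simp at h
          omega
        · have := Nat.div_add_mod j (q + 1)
          simp only [Nat.add_sub_cancel] at h
          exact ⟨j / (q + 1) + 1, by rw [mul_add, mul_one]; omega⟩
      obtain ⟨m, rfl⟩ := hdvd
      rw [← Nat.cast_smul_eq_nsmul R, Nat.cast_mul, CharP.cast_eq_zero, zero_mul, zero_smul,
        smul_zero]
    · rw [smul_zero, smul_zero]

theorem T_cartier (g : R[X]) :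
    T ((AdjoinRoot.mk (X ^ (q + 1) - C b : R[X]) g) ^ q •
        KaehlerDifferential.D R (AdjoinRoot (X ^ (q + 1) - C b : R[X])) (AdjoinRoot.mk (X ^ (q + 1) - C b : R[X]) g)) =
      KaehlerDifferential.D ℤ R (eval b (g.map (frobenius R (q + 1)))) := by
  induction g using Polynomial.induction_on' with
  | add g h hg hh =>
    rw [map_add (AdjoinRoot.mk _), key_identity q (KaehlerDifferential.D R (AdjoinRoot (X ^ (q + 1) - C b : R[X]))), map_add T,
      map_add T, hg, hh, T_D q R b T hT hT', add_zero, Polynomial.map_add, eval_add, map_add]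
  | monomial k c =>
    rw [mk_monomial, Polynomial.map_monomial, eval_monomial, frobenius_def]
    rcases k with _ | j
    · simp only [pow_zero, mul_one]
      rw [Derivation.map_algebraMap, smul_zero, map_zero,
        Derivation.leibniz_pow, ← Nat.cast_smul_eq_nsmul R, CharP.cast_eq_zero R (q + 1),
        zero_smul]
    · have e1 : (algebraMap R (AdjoinRoot (X ^ (q + 1) - C b : R[X])) c * (AdjoinRoot.root (X ^ (q + 1) - C b : R[X])) ^ (j + 1)) ^ q •
          KaehlerDifferential.D R (AdjoinRoot (X ^ (q + 1) - C b : R[X])) (algebraMap R (AdjoinRoot (X ^ (q + 1) - C b : R[X])) c * (AdjoinRoot.root (X ^ (q + 1) - C b : R[X])) ^ (j + 1)) =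
          algebraMap R (AdjoinRoot (X ^ (q + 1) - C b : R[X])) (((j + 1 : ℕ) : R) * c ^ (q + 1)) •
            ((AdjoinRoot.root (X ^ (q + 1) - C b : R[X])) ^ ((q + 1) * j + q) • KaehlerDifferential.D R (AdjoinRoot (X ^ (q + 1) - C b : R[X])) (AdjoinRoot.root (X ^ (q + 1) - C b : R[X]))) := by
        rw [Derivation.leibniz, Derivation.map_algebraMap, smul_zero, add_zero,
          Derivation.leibniz_pow, map_mul, map_natCast, map_pow, Nat.add_sub_cancel]
        module
      rw [e1, algebraMap_smul, map_smul, T_pow q R b T hT hT']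
      have hmod : ((q + 1) * j + q) % (q + 1) = q := by
        rw [Nat.mul_add_mod]
        exact Nat.mod_eq_of_lt (Nat.lt_succ_self q)
      have hdiv : ((q + 1) * j + q) / (q + 1) = j := by
        rw [Nat.mul_add_div (Nat.succ_pos q), Nat.div_eq_of_lt (Nat.lt_succ_self q), add_zero]
      rw [if_pos hmod, hdiv, Derivation.leibniz, Derivation.leibniz_pow, Derivation.leibniz_pow,
        Nat.add_sub_cancel, Nat.add_sub_cancel, ← Nat.cast_smul_eq_nsmul R (q + 1),
        CharP.cast_eq_zero R (q + 1), zero_smul, smul_zero, add_zero]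
      module

end Main

section Final

variable (q : ℕ) [hp : Fact (q + 1).Prime] (R : Type u) [CommRing R] [CharP R (q + 1)] (a b : R)

theorem main
    (φ : AdjoinRoot (X ^ (q + 1) - C a : R[X]) →ₐ[R] AdjoinRoot (X ^ (q + 1) - C b : R[X]))
    (Tx : Ω[AdjoinRoot (X ^ (q + 1) - C a : R[X])⁄R] →ₗ[R] Ω[R⁄ℤ])
    (Ty : Ω[AdjoinRoot (X ^ (q + 1) - C b : R[X])⁄R] →ₗ[R] Ω[R⁄ℤ])
    (hTx : ∀ i : ℕ, i < q →
      Tx (AdjoinRoot.root (X ^ (q + 1) - C a) ^ i •
        KaehlerDifferential.D R _ (AdjoinRoot.root (X ^ (q + 1) - C a))) = 0)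
    (hTx' : Tx (AdjoinRoot.root (X ^ (q + 1) - C a) ^ q •
        KaehlerDifferential.D R _ (AdjoinRoot.root (X ^ (q + 1) - C a))) =
      KaehlerDifferential.D ℤ R a)
    (hTy : ∀ i : ℕ, i < q →
      Ty (AdjoinRoot.root (X ^ (q + 1) - C b) ^ i •
        KaehlerDifferential.D R _ (AdjoinRoot.root (X ^ (q + 1) - C b))) = 0)
    (hTy' : Ty (AdjoinRoot.root (X ^ (q + 1) - C b) ^ q •
        KaehlerDifferential.D R _ (AdjoinRoot.root (X ^ (q + 1) - C b))) =
      KaehlerDifferential.D ℤ R b)
    (s t : AdjoinRoot (X ^ (q + 1) - C a : R[X])) :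
    Tx (s • KaehlerDifferential.D R _ t) = Ty (φ s • KaehlerDifferential.D R _ (φ t)) := by
  set x := AdjoinRoot.root (X ^ (q + 1) - C a : R[X]) with hx
  set u := φ x with hu
  have hup : u ^ (q + 1) = algebraMap R _ a := by
    rw [hu, ← map_pow, hx, root_pow, AlgHom.commutes]
  obtain ⟨g, hg⟩ := AdjoinRoot.mk_surjective u
  have hN : eval b (g.map (frobenius R (q + 1))) = a := by
    apply algebraMap_injective q R b
    have h1 : g ^ (q + 1) = expand R (q + 1) (g.map (frobenius R (q + 1))) := by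
      rw [← map_expand, map_frobenius_expand]
    rw [← hup, ← hg, ← map_pow, h1, ← AdjoinRoot.aeval_eq, expand_aeval, root_pow,
      aeval_algebraMap_apply_eq_algebraMap_eval]
  have hM : ∀ k : ℕ, Tx (x ^ k • KaehlerDifferential.D R _ x) =
      Ty (u ^ k • KaehlerDifferential.D R _ u) := by
    intro k
    rw [hx, T_pow q R a Tx hTx hTx']
    have hk : u ^ k = algebraMap R _ (a ^ (k / (q + 1))) * u ^ (k % (q + 1)) := by
      conv_lhs => rw [← Nat.div_add_mod k (q + 1), pow_add, pow_mul, hup]
      rw [map_pow]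
    rw [hk, mul_smul, algebraMap_smul, map_smul]
    split_ifs with h
    · rw [h, ← hg, T_cartier q R b Ty hTy hTy', hN]
    · have hlt := Nat.mod_lt k (by omega : 0 < q + 1)
      set r := k % (q + 1) with hr
      have hr' : r + 1 < q + 1 := by omega
      have hcop : Nat.Coprime (r + 1) (q + 1) :=
        ((Nat.Prime.coprime_iff_not_dvd hp.out).mpr
          (Nat.not_dvd_of_pos_of_lt (Nat.succ_pos r) hr')).symm
      obtain ⟨m, -, hm⟩ := Nat.exists_mul_mod_eq_one_of_coprime hcop hp.out.one_lt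
      have hone : (((r + 1) * m : ℕ) : R) = 1 := by
        have := Nat.div_add_mod ((r + 1) * m) (q + 1)
        rw [hm] at this
        rw [← this, Nat.cast_add, Nat.cast_mul, CharP.cast_eq_zero, zero_mul, zero_add,
          Nat.cast_one]
      have h2 : u ^ r • KaehlerDifferential.D R _ u =
          (m : R) • KaehlerDifferential.D R _ (u ^ (r + 1)) := by
        rw [Derivation.leibniz_pow, Nat.add_sub_cancel, ← Nat.cast_smul_eq_nsmul R, smul_smul,
          ← Nat.cast_mul, mul_comm m, hone, one_smul]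
      rw [h2, map_smul, T_D q R b Ty hTy hTy', smul_zero, smul_zero]
  have hA : ∀ (k : ℕ) (s : AdjoinRoot (X ^ (q + 1) - C a : R[X])),
      Tx ((s * x ^ k) • KaehlerDifferential.D R _ x) =
        Ty ((φ s * u ^ k) • KaehlerDifferential.D R _ u) := by
    intro k s
    obtain ⟨h, rfl⟩ := AdjoinRoot.mk_surjective s
    induction h using Polynomial.induction_on' with
    | add h₁ h₂ ih₁ ih₂ =>
      rw [map_add, map_add, add_mul, add_mul, add_smul, add_smul, map_add, map_add, ih₁, ih₂]
    | monomial i e =>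
      rw [mk_monomial, map_mul φ, AlgHom.commutes, map_pow φ, ← hx, ← hu, mul_assoc, mul_assoc,
        ← pow_add, ← pow_add, mul_smul, mul_smul, algebraMap_smul, algebraMap_smul, map_smul Tx,
        map_smul Ty, hM]
  obtain ⟨gt, rfl⟩ := AdjoinRoot.mk_surjective t
  induction gt using Polynomial.induction_on' generalizing s with
  | add g₁ g₂ ih₁ ih₂ =>
    simp only [map_add, smul_add]
    rw [ih₁, ih₂]
  | monomial j c =>
    rw [mk_monomial, map_mul φ, AlgHom.commutes, map_pow φ, ← hx, ← hu]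
    rw [Derivation.leibniz, Derivation.map_algebraMap, smul_zero, add_zero, Derivation.leibniz_pow]
    rw [Derivation.leibniz, Derivation.map_algebraMap, smul_zero, add_zero, Derivation.leibniz_pow]
    have e1 : s • (algebraMap R (AdjoinRoot (X ^ (q + 1) - C a : R[X])) c •
        (j • x ^ (j - 1) • KaehlerDifferential.D R _ x)) =
        algebraMap R (AdjoinRoot (X ^ (q + 1) - C a : R[X])) (c * (j : R)) •
          ((s * x ^ (j - 1)) • KaehlerDifferential.D R _ x) := by
      rw [map_mul, map_natCast]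
      module
    have e2 : φ s • (algebraMap R (AdjoinRoot (X ^ (q + 1) - C b : R[X])) c •
        (j • u ^ (j - 1) • KaehlerDifferential.D R _ u)) =
        algebraMap R (AdjoinRoot (X ^ (q + 1) - C b : R[X])) (c * (j : R)) •
          ((φ s * u ^ (j - 1)) • KaehlerDifferential.D R _ u) := by
      rw [map_mul, map_natCast]
      module
    rw [e1, e2, algebraMap_smul, algebraMap_smul, map_smul Tx, map_smul Ty, hA]

end Final

end CartierH2
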