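import Mathlib
import Groth.Prelude.Def_Found

/-! In a catenary local ring, `p ↦ dim A/p` drops by exactly one along immediate
specializations. -/

universe u

namespace Groth.Agent.CatDimH8

theorem toNat_coheight_succ_le {α : Type*} [Preorder α] {a b : α} (hab : a < b)
    (hfin : Order.coheight a < ⊤) : (Order.coheight b).toNat + 1 ≤ (Order.coheight a).toNat := by
  have h1 := Order.coheight_add_one_le hab
  obtain ⟨m, hm⟩ := ENat.ne_top_iff_exists.mp hfin.ne
  have hb : Order.coheight b < ⊤ := lt_of_le_of_lt (le_self_add.trans h1) hfin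
  obtain ⟨k, hk⟩ := ENat.ne_top_iff_exists.mp hb.ne
  rw [← hm, ← hk] at h1 ⊢
  have : k + 1 ≤ m := by exact_mod_cast h1
  simpa using this

/-- along a chain, the coheight drops at least by the index. -/
theorem coheight_chain_le {α : Type*} [Preorder α] (s : LTSeries α)
    (hfin : Order.coheight s.head < ⊤) (j : Fin (s.length + 1)) :
    (Order.coheight (s j)).toNat + j ≤ (Order.coheight s.head).toNat ∧
      Order.coheight (s j) < ⊤ := by
  induction j using Fin.induction with
  | zero => exact ⟨by simp [RelSeries.head], hfin⟩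
  | succ i ih =>
    have h1 := toNat_coheight_succ_le (s.step i) ih.2
    have h2 : Order.coheight (s i.succ) < ⊤ :=
      lt_of_le_of_lt (Order.coheight_anti (s.step i).le) ih.2
    refine ⟨?_, h2⟩
    have := ih.1
    simp only [Fin.val_succ, Fin.val_castSucc] at *
    omega

/-- the tail of a chain bounds the coheight from below. -/
theorem le_coheight_chain {α : Type*} [Preorder α] (s : LTSeries α)
    (hfin : Order.coheight s.head < ⊤) (j : ℕ) (hj : j ≤ s.length) :
    j ≤ (Order.coheight (s ⟨s.length - j, by omega⟩)).toNat := by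
  induction j with
  | zero => simp
  | succ j ih =>
    have ih' := ih (by omega)
    have hlt : s.length - (j + 1) < s.length := by omega
    have hstep := s.step ⟨s.length - (j + 1), hlt⟩
    have heq : (⟨s.length - (j + 1), hlt⟩ : Fin s.length).succ = ⟨s.length - j, by omega⟩ := by
      ext
      simp only [Fin.val_succ]
      omega
    rw [heq] at hstep
    have hfin' := (coheight_chain_le s hfin (Fin.castSucc ⟨s.length - (j + 1), hlt⟩)).2
    have h1 := toNat_coheight_succ_le hstep hfin'
    have heq2 : (Fin.castSucc ⟨s.length - (j + 1), hlt⟩ : Fin (s.length + 1)) =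
        ⟨s.length - (j + 1), by omega⟩ := rfl
    rw [heq2] at h1
    omega

variable {A : Type u} [CommRing A] [IsLocalRing A]

theorem exists_saturated (x : PrimeSpectrum A) (n : ℕ) (hn : Order.coheight x = n) :
    ∃ s : LTSeries (PrimeSpectrum A), s.head = x ∧ s.last = IsLocalRing.closedPoint A ∧
      s.length = n ∧ ∀ i : Fin s.length, s i.castSucc ⋖ s i.succ := by
  obtain ⟨s, hsh, hsl⟩ := Order.exists_series_of_coheight_eq_coe x hn
  have hfin : Order.coheight s.head < ⊤ := by rw [hsh, hn]; exact ENat.natCast_lt_top n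
  have hx : (Order.coheight s.head).toNat = n := by rw [hsh, hn]; rfl
  refine ⟨s, hsh, ?_, hsl, ?_⟩
  · by_contra hne
    have hle : s.last ≤ IsLocalRing.closedPoint A :=
      IsLocalRing.le_maximalIdeal s.last.2.ne_top
    have hlt : s.last < IsLocalRing.closedPoint A := lt_of_le_of_ne hle hne
    have h1 := coheight_chain_le s hfin (Fin.last _)
    have h2 := toNat_coheight_succ_le hlt h1.2
    have h3 := h1.1
    simp only [Fin.val_last] at h3
    change (Order.coheight (s (Fin.last _))).toNat + _ ≤ _ at h3
    change _ ≤ (Order.coheight (s (Fin.last _))).toNat at h2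
    omega
  · intro i
    by_contra hnc
    obtain ⟨Q, hQ1, hQ2⟩ := (not_covBy_iff (s.step i)).mp hnc
    have h1 := coheight_chain_le s hfin i.castSucc
    have h2 := toNat_coheight_succ_le hQ1 h1.2
    have hQfin : Order.coheight Q < ⊤ := lt_of_le_of_lt (Order.coheight_anti hQ1.le) h1.2
    have h3 := toNat_coheight_succ_le hQ2 hQfin
    have h4 := le_coheight_chain s hfin (s.length - (i.val + 1)) (by omega)
    have heq : (⟨s.length - (s.length - (i.val + 1)), by omega⟩ : Fin (s.length + 1)) = i.succ := by
      ext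
      simp only [Fin.val_succ]
      have := i.2
      omega
    rw [heq] at h4
    have h5 := h1.1
    simp only [Fin.val_castSucc] at h5
    have := i.2
    omega

theorem saturated_cons {α : Type*} [Preorder α] (t : LTSeries α) (x : α) (hx : x < t.head)
    (hxc : x ⋖ t.head) (ht : ∀ i : Fin t.length, t i.castSucc ⋖ t i.succ) :
    ∀ i : Fin (t.cons x hx).length, (t.cons x hx) i.castSucc ⋖ (t.cons x hx) i.succ := by
  have hlen : (t.cons x hx).length = t.length + 1 := by simp
  have key : ∀ (j : ℕ) (hj : j < t.length + 1),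
      (t.cons x hx) ⟨j + 1, by omega⟩ = t ⟨j, hj⟩ := by
    intro j hj
    have := RelSeries.cons_cast_succ t x hx ⟨j, hj⟩
    rw [← this]
    congr 1
  have key0 : (t.cons x hx) ⟨0, by omega⟩ = x := RelSeries.head_cons t x hx
  intro i
  obtain ⟨iv, hiv⟩ := i
  cases iv with
  | zero =>
    have e1 : (Fin.castSucc (⟨0, hiv⟩ : Fin (t.cons x hx).length)) = ⟨0, by omega⟩ := rfl
    have e2 : (Fin.succ (⟨0, hiv⟩ : Fin (t.cons x hx).length)) = ⟨0 + 1, by omega⟩ := rfl
    rw [e1, e2, key0, key 0 (by omega)]
    exact hxc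
  | succ j =>
    have hj : j < t.length := by omega
    have e1 : (Fin.castSucc (⟨j + 1, hiv⟩ : Fin (t.cons x hx).length)) = ⟨j + 1, by omega⟩ := rfl
    have e2 : (Fin.succ (⟨j + 1, hiv⟩ : Fin (t.cons x hx).length)) = ⟨(j + 1) + 1, by omega⟩ := rfl
    rw [e1, e2, key j (by omega), key (j + 1) (by omega)]
    exact ht ⟨j, hj⟩

theorem coheight_eq_of_covBy (hcat : CAlg.IsCatenary A) (x y : PrimeSpectrum A) (hxy : x ⋖ y)
    (hfin : Order.coheight x < ⊤) :
    (Order.coheight x).toNat = (Order.coheight y).toNat + 1 := by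
  obtain ⟨n, hn⟩ := ENat.ne_top_iff_exists.mp hfin.ne
  have hyfin : Order.coheight y < ⊤ := lt_of_le_of_lt (Order.coheight_anti hxy.lt.le) hfin
  obtain ⟨k, hk⟩ := ENat.ne_top_iff_exists.mp hyfin.ne
  obtain ⟨s, hsh, hsl, hsn, hss⟩ := exists_saturated x n hn.symm
  obtain ⟨t, hth, htl, htn, hts⟩ := exists_saturated y k hk.symm
  have hxt : x < t.head := by rw [hth]; exact hxy.lt
  have hxc : x ⋖ t.head := by rw [hth]; exact hxy
  have h1 : s.length = (t.cons x hxt).length := by
    apply hcat.2 s (t.cons x hxt)
    · rw [hsh]; simp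
    · rw [hsl]; simp [htl]
    · exact hss
    · exact saturated_cons t x hxt hxc hts
  rw [← hn, ← hk]
  simp only [ENat.toNat_natCast]
  rw [← hsn, ← htn, h1]
  simp

end Groth.Agent.CatDimH8
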