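import Mathlib
import Groth.Agent.Lib.CatHt_helper8

/-! Relative height of a covering pair of primes is one. -/

universe u

namespace Groth.Agent.CatHt2H8

theorem one_le_height_map_mk {A : Type u} [CommRing A] (Q P : Ideal A) [hQ : Q.IsPrime]
    [hP : P.IsPrime] (hlt : Q < P) : 1 ≤ (P.map (Ideal.Quotient.mk Q)).height := by
  set q' := P.map (Ideal.Quotient.mk Q) with hq'
  haveI hq'p : q'.IsPrime :=
    Ideal.map_isPrime_of_surjective Ideal.Quotient.mk_surjective
      (by rw [Ideal.mk_ker]; exact hlt.le)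
  have hne0 : q' ≠ ⊥ := by
    intro h0
    obtain ⟨z, hzy, hzx⟩ := SetLike.exists_of_lt hlt
    have : Ideal.Quotient.mk Q z ∈ q' := Ideal.mem_map_of_mem _ hzy
    rw [h0, Ideal.mem_bot, Ideal.Quotient.eq_zero_iff_mem] at this
    exact hzx this
  haveI : (⊥ : Ideal (A ⧸ Q)).IsPrime := Ideal.isPrime_bot
  have h1 := Ideal.height_add_one_le_of_lt_of_isPrime (bot_lt_iff_ne_bot.mpr hne0)
  exact le_trans le_add_self h1

theorem height_map_mk_eq_one_of_covBy {A : Type u} [CommRing A] [IsNoetherianRing A]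
    (Q P : PrimeSpectrum A) (hcov : Q ⋖ P) :
    (P.asIdeal.map (Ideal.Quotient.mk Q.asIdeal)).height = 1 := by
  haveI := Q.2
  haveI := P.2
  have hlt : Q.asIdeal < P.asIdeal := hcov.lt
  apply le_antisymm _ (one_le_height_map_mk Q.asIdeal P.asIdeal hlt)
  obtain ⟨k, c, hk, hch, hcl, hcn, hcs⟩ := Groth.Agent.CatHtH8.exists_saturated_between
    Q.asIdeal P.asIdeal hlt.le
  rw [hk]
  have hk1 : k ≤ 1 := by
    by_contra hcon
    have hk2 : 2 ≤ c.length := by omega
    have h01 : c ⟨0, by omega⟩ < c ⟨1, by omega⟩ := c.strictMono (by simp [Fin.lt_def])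
    have h1l : c ⟨1, by omega⟩ < c (Fin.last _) := c.strictMono (by
      simp only [Fin.lt_def, Fin.val_last]; omega)
    have e0 : c ⟨0, by omega⟩ = Q := hch
    have el : c (Fin.last _) = P := hcl
    rw [e0] at h01
    rw [el] at h1l
    exact hcov.2 h01 h1l
  exact_mod_cast hk1

end Groth.Agent.CatHt2H8
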