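import Mathlib
import Groth.Agent.Lib.CatHt2_helper8

/-! Height additivity for catenary rings with a least prime (irreducible spectrum). -/

universe u

namespace Groth.Agent.CatHtBotH8

open Groth.Agent.CatHtH8

variable {A : Type u} [CommRing A]

theorem height_eq_of_covBy' [OrderBot (PrimeSpectrum A)] (hcat : CAlg.IsCatenary A)
    (x y : PrimeSpectrum A)
    (hxy : x ⋖ y) (hfin : Order.height y < ⊤) :
    Order.height y = Order.height x + 1 := by
  obtain ⟨k, hk⟩ := ENat.ne_top_iff_exists.mp hfin.ne
  have hxfin : Order.height x < ⊤ := lt_of_le_of_lt (Order.height_mono hxy.lt.le) hfin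
  obtain ⟨n, hn⟩ := ENat.ne_top_iff_exists.mp hxfin.ne
  obtain ⟨s, hsl, hsh, hsn, hss⟩ := exists_saturated_of_height x n hn.symm
  obtain ⟨t, htl, hth, htn, hts⟩ := exists_saturated_of_height y k hk.symm
  have hlt : s.last < y := by rw [hsl]; exact hxy.lt
  have hcv : s.last ⋖ y := by rw [hsl]; exact hxy
  have h1 : (s.snoc y hlt).length = t.length := by
    apply hcat.2 (s.snoc y hlt) t
    · rw [RelSeries.head_snoc, hsh, hth]
    · rw [RelSeries.last_snoc, htl]
    · exact saturated_snoc s y hlt hcv hss
    · exact hts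
  rw [← hn, ← hk]
  have : n + 1 = k := by
    have h2 : (s.snoc y hlt).length = s.length + 1 := by simp
    omega
  exact_mod_cast this.symm

theorem height_last_eq_of_saturated' [OrderBot (PrimeSpectrum A)] (hcat : CAlg.IsCatenary A)
    (s : LTSeries (PrimeSpectrum A)) (hs : ∀ i : Fin s.length, s i.castSucc ⋖ s i.succ)
    (hfin : Order.height s.last < ⊤) :
    Order.height s.last = Order.height s.head + s.length := by
  have key : ∀ i : Fin (s.length + 1), Order.height (s i) = Order.height s.head + (i : ℕ) := by
    intro i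
    induction i using Fin.induction with
    | zero => simp [RelSeries.head]
    | succ i ih =>
      have hfin' : Order.height (s i.succ) < ⊤ :=
        lt_of_le_of_lt (Order.height_mono (s.monotone (Fin.le_last _))) hfin
      rw [height_eq_of_covBy' hcat _ _ (hs i) hfin', ih]
      simp only [Fin.val_castSucc, Fin.val_succ, Nat.cast_add, Nat.cast_one]
      rw [add_assoc]
  have := key (Fin.last _)
  simpa [RelSeries.last] using this

theorem height_add_height_map_mk_eq_of_localization' [IsNoetherianRing A]
    (M : Submonoid A) (A' : Type u) [CommRing A'] [Algebra A A'] [IsLocalization M A']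
    [OrderBot (PrimeSpectrum A')] (hcat : CAlg.IsCatenary A')
    (Q P : Ideal A) [hQ : Q.IsPrime] [hP : P.IsPrime] (hQP : Q ≤ P)
    (hdisj : Disjoint (M : Set A) (P : Set A)) :
    Q.height + (P.map (Ideal.Quotient.mk Q)).height = P.height := by
  classical
  obtain ⟨k, s, hk, hsh, hsl, hsn, hss⟩ := exists_saturated_between Q P hQP
  let e := IsLocalization.primeSpectrumOrderIso M A'
  have hd : ∀ i : Fin (s.length + 1), Disjoint (M : Set A) ((s i).asIdeal : Set A) := by
    intro i
    have hle : s i ≤ s.last := s.monotone (Fin.le_last i)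
    rw [hsl] at hle
    exact Set.disjoint_of_subset_right hle hdisj
  let s' : LTSeries (PrimeSpectrum A') :=
    LTSeries.mk s.length (fun i => e.symm ⟨s i, hd i⟩)
      (fun i j hij => e.symm.strictMono (show (⟨s i, hd i⟩ :
        {p : PrimeSpectrum A // Disjoint (M : Set A) p.asIdeal}) < ⟨s j, hd j⟩ from
          s.strictMono hij))
  have hs'sat : ∀ i : Fin s'.length, s' i.castSucc ⋖ s' i.succ := by
    intro i
    change e.symm ⟨s i.castSucc, hd _⟩ ⋖ e.symm ⟨s i.succ, hd _⟩
    have hcov := hss i
    refine ⟨e.symm.strictMono (show (⟨s i.castSucc, hd _⟩ :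
        {p : PrimeSpectrum A // Disjoint (M : Set A) p.asIdeal}) < ⟨s i.succ, hd _⟩ from
          hcov.lt), ?_⟩
    intro z hz1 hz2
    have h1 : (⟨s i.castSucc, hd _⟩ :
        {p : PrimeSpectrum A // Disjoint (M : Set A) p.asIdeal}) < e z := by
      have := e.strictMono hz1
      rwa [OrderIso.apply_symm_apply] at this
    have h2 : e z < (⟨s i.succ, hd _⟩ :
        {p : PrimeSpectrum A // Disjoint (M : Set A) p.asIdeal}) := by
      have := e.strictMono hz2
      rwa [OrderIso.apply_symm_apply] at this
    exact hcov.2 (show s i.castSucc < (e z).1 from h1) (show (e z).1 < s i.succ from h2)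
  have hheight : ∀ (p : PrimeSpectrum A) (hp : Disjoint (M : Set A) (p.asIdeal : Set A)),
      Order.height (e.symm ⟨p, hp⟩) = p.asIdeal.height := by
    intro p hp
    rw [← PrimeSpectrum.height_eq_orderHeight]
    haveI := p.2
    exact IsLocalization.height_map_of_disjoint M p.asIdeal hp
  have hfin : Order.height s'.last < ⊤ := by
    change Order.height (e.symm ⟨s (Fin.last _), hd _⟩) < ⊤
    rw [hheight]
    haveI := (s (Fin.last _)).2
    exact Ideal.height_lt_top_of_isPrime
  have key := height_last_eq_of_saturated' hcat s' hs'sat hfin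
  have hl : Order.height s'.last = P.height := by
    change Order.height (e.symm ⟨s (Fin.last _), hd _⟩) = _
    rw [hheight]
    change (s.last).asIdeal.height = _
    rw [hsl]
  have hh : Order.height s'.head = Q.height := by
    change Order.height (e.symm ⟨s 0, hd _⟩) = _
    rw [hheight]
    change (s.head).asIdeal.height = _
    rw [hsh]
  rw [hl, hh] at key
  have hlen : s'.length = k := hsn
  rw [hlen] at key
  rw [hk]
  exact key.symm

/-- Height goes up by exactly one when passing to a prime minimal over `Q + (f)`. -/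
theorem height_eq_succ [IsNoetherianRing A]
    (M : Submonoid A) (A' : Type u) [CommRing A'] [Algebra A A'] [IsLocalization M A']
    [OrderBot (PrimeSpectrum A')] (hcat : CAlg.IsCatenary A')
    (Q P : Ideal A) [hQ : Q.IsPrime] [hP : P.IsPrime] (hQP : Q ≤ P)
    (hdisj : Disjoint (M : Set A) (P : Set A)) (f : A) (hfP : f ∈ P) (hfQ : f ∉ Q)
    (hmin : ∀ P' : Ideal A, P'.IsPrime → Q ≤ P' → f ∈ P' → P' ≤ P → P' = P) :
    P.height = Q.height + 1 := by
  rw [← height_add_height_map_mk_eq_of_localization' M A' hcat Q P hQP hdisj]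
  congr 1
  have hlt : Q < P := lt_of_le_of_ne hQP (fun h => hfQ (h ▸ hfP))
  apply le_antisymm _ (Groth.Agent.CatHt2H8.one_le_height_map_mk Q P hlt)
  have hker : RingHom.ker (Ideal.Quotient.mk Q) ≤ P := by rwa [Ideal.mk_ker]
  haveI hP' : (P.map (Ideal.Quotient.mk Q)).IsPrime :=
    Ideal.map_isPrime_of_surjective Ideal.Quotient.mk_surjective hker
  have hcm : (P.map (Ideal.Quotient.mk Q)).comap (Ideal.Quotient.mk Q) = P := by
    rw [Ideal.comap_map_of_surjective _ Ideal.Quotient.mk_surjective, ← RingHom.ker_eq_comap_bot]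
    exact sup_eq_left.mpr hker
  apply Ideal.height_le_one_of_isPrincipal_of_mem_minimalPrimes
    (Ideal.span {Ideal.Quotient.mk Q f})
  refine ⟨⟨hP', ?_⟩, ?_⟩
  · rw [Ideal.span_le, Set.singleton_subset_iff]
    exact Ideal.mem_map_of_mem _ hfP
  · rintro J ⟨hJ, hfJ⟩ hJP
    haveI := hJ
    have h1 : J.comap (Ideal.Quotient.mk Q) = P := by
      apply hmin _ (Ideal.IsPrime.comap _)
      · intro a ha
        rw [Ideal.mem_comap, Ideal.Quotient.eq_zero_iff_mem.mpr ha]
        exact J.zero_mem
      · rw [Ideal.mem_comap]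
        exact hfJ (Ideal.subset_span rfl)
      · rw [← hcm]
        exact Ideal.comap_mono hJP
    rw [← h1, Ideal.map_comap_of_surjective _ Ideal.Quotient.mk_surjective]

end Groth.Agent.CatHtBotH8
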