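import Mathlib

set_option autoImplicit false
set_option linter.style.haveILetI false
set_option linter.unusedSectionVars false

universe v₃ u₃ v₂ u₂ v u

namespace Groth.Agent.Lib.CatPbFibH4

open CategoryTheory CategoryTheory.Limits Functor

variable {C : Type u} [Category.{v} C] {D : Type u₂} [Category.{v₂} D] (u : C ⥤ D)
  {𝒮 : Type u₃} [Category.{v₃} 𝒮] (p : 𝒮 ⥤ D)

theorem main12807 [p.IsFibered] : (CategoricalPullback.π₁ u p).IsFibered := by
  apply Functor.IsFibered.of_exists_isStronglyCartesian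
  intro a R (f : R ⟶ a.fst)
  let g : u.obj R ⟶ p.obj a.snd := u.map f ≫ a.iso.hom
  let y' : 𝒮 := IsPreFibered.pullbackObj (p := p) (rfl : p.obj a.snd = p.obj a.snd) g
  let ψ : y' ⟶ a.snd := IsPreFibered.pullbackMap rfl g
  have hy' : p.obj y' = u.obj R := IsPreFibered.pullbackObj_proj rfl g
  haveI hψ : p.IsStronglyCartesian g ψ := inferInstance
  have hpψ : p.map ψ = eqToHom hy' ≫ g := by
    have := IsHomLift.fac' p g ψ
    simpa using this
  let b : CategoricalPullback u p := ⟨R, y', eqToIso hy'.symm⟩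
  let φ : b ⟶ a := ⟨f, ψ, by
    change u.map f ≫ a.iso.hom = eqToHom hy'.symm ≫ p.map ψ
    rw [hpψ]; simp [g]⟩
  refine ⟨b, φ, ?_⟩
  have hlift : (CategoricalPullback.π₁ u p).IsHomLift f φ :=
    IsHomLift.map (CategoricalPullback.π₁ u p) φ
  refine { toIsHomLift := hlift, universal_property' := ?_ }
  intro a' (g₀ : a'.fst ⟶ R) φ' hφ'
  have hφ'fst : φ'.fst = g₀ ≫ f :=
    (@IsHomLift.eq_of_isHomLift _ _ _ _ (CategoricalPullback.π₁ u p) a' a _ φ' hφ').symm
  let g' : p.obj a'.snd ⟶ u.obj R := a'.iso.inv ≫ u.map g₀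
  have hpφ' : p.map φ'.snd = g' ≫ g := by
    have := φ'.w
    rw [hφ'fst, Functor.map_comp, Category.assoc] at this
    change p.map φ'.snd = (a'.iso.inv ≫ u.map g₀) ≫ u.map f ≫ a.iso.hom
    rw [Category.assoc, this, Iso.inv_hom_id_assoc]
  haveI h1 : p.IsHomLift (g' ≫ g) φ'.snd :=
    IsHomLift.of_fac' p _ _ rfl rfl (by simp [hpφ'])
  let χ₂ : a'.snd ⟶ y' := IsStronglyCartesian.map p g ψ (g := g') (f' := g' ≫ g) rfl φ'.snd
  haveI hχ₂ : p.IsHomLift g' χ₂ := inferInstance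
  have hχ₂f : χ₂ ≫ ψ = φ'.snd := IsStronglyCartesian.fac _ _ _ _ _
  have hpχ₂ : p.map χ₂ = g' ≫ eqToHom hy'.symm := by
    have := IsHomLift.fac' p g' χ₂
    simpa using this
  let χ : a' ⟶ b := ⟨g₀, χ₂, by
    change u.map g₀ ≫ eqToHom hy'.symm = a'.iso.hom ≫ p.map χ₂
    rw [hpχ₂]
    change _ = a'.iso.hom ≫ (a'.iso.inv ≫ u.map g₀) ≫ eqToHom hy'.symm
    rw [Category.assoc, Iso.hom_inv_id_assoc]⟩
  refine ⟨χ, ⟨?_, ?_⟩, ?_⟩
  · exact IsHomLift.map (CategoricalPullback.π₁ u p) χ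
  · apply CategoricalPullback.hom_ext
    · change g₀ ≫ f = φ'.fst
      exact hφ'fst.symm
    · change χ₂ ≫ ψ = φ'.snd
      exact hχ₂f
  · rintro χ' ⟨hχ'l, hχ'f⟩
    have hχ'fst : χ'.fst = g₀ :=
      (@IsHomLift.eq_of_isHomLift _ _ _ _ (CategoricalPullback.π₁ u p) a' b _ χ' hχ'l).symm
    have hχ'snd : χ'.snd ≫ ψ = φ'.snd := by
      have := congrArg CategoricalPullback.Hom.snd hχ'f
      exact this
    have hpχ' : p.map χ'.snd = g' ≫ eqToHom hy'.symm := by
      have := χ'.w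
      rw [hχ'fst] at this
      change u.map g₀ ≫ eqToHom hy'.symm = a'.iso.hom ≫ p.map χ'.snd at this
      have h2 : p.map χ'.snd = a'.iso.inv ≫ u.map g₀ ≫ eqToHom hy'.symm := by
        rw [this, Iso.inv_hom_id_assoc]
      exact h2.trans (Category.assoc _ _ _).symm
    haveI : p.IsHomLift g' χ'.snd :=
      IsHomLift.of_fac' p _ _ rfl hy' (by rw [hpχ']; simp)
    have hsnd : χ'.snd = χ₂ :=
      IsStronglyCartesian.map_uniq p g ψ rfl φ'.snd χ'.snd hχ'snd
    apply CategoricalPullback.hom_ext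
    · exact hχ'fst
    · exact hsnd

end Groth.Agent.Lib.CatPbFibH4
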