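import Groth.Prelude.Def_W4c1tameactTame
import Groth.Prelude.Def_GLin
import Groth.Prelude.Def_Hoch
import Groth.Prelude.Def_ComodTens
import Mathlib.RingTheory.HopfAlgebra.Convolution

/-!
# The Reynolds operator of a total integral (tame actions)

For a commutative Hopf algebra `A`, a comodule algebra `B` with a total integral `α : A → B` and a
`(B, A)`-Hopf module `M`, the Reynolds map `m ↦ Σ α(S m₁) • m₀` is a projector onto the invariants.
-/

set_option autoImplicit false
universe u v w w'
open TensorProduct WithConv

namespace Groth.Agent.Lib.Reynolds_helper9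

section Hopf

variable (k : Type u) [CommRing k] (A : Type v) [CommRing A] [HopfAlgebra k A]

/-- `a ↦ a ⊗ 1` -/
noncomputable def incL : A →ₐ[k] A ⊗[k] A := Algebra.TensorProduct.includeLeft
/-- `a ↦ 1 ⊗ a` -/
noncomputable def incR : A →ₐ[k] A ⊗[k] A := Algebra.TensorProduct.includeRight

theorem mul'_map_incL_incR (t : A ⊗[k] A) :
    LinearMap.mul' k (A ⊗[k] A) (TensorProduct.map (incL k A).toLinearMap (incR k A).toLinearMap t) = t := by
  induction t using TensorProduct.induction_on with
  | zero => simp
  | add x y hx hy => simp only [map_add, hx, hy]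
  | tmul x y => simp [incL, incR]

theorem comul_eq_incL_mul_incR :
    toConv (CoalgebraStruct.comul (R := k) (A := A)) =
      toConv (incL k A).toLinearMap * toConv (incR k A).toLinearMap := by
  apply WithConv.ext
  apply LinearMap.ext
  intro a
  rw [LinearMap.convMul_def]
  simp only [ofConv_toConv, LinearMap.comp_apply]
  exact (mul'_map_incL_incR k A _).symm

theorem incL_antipode_mul_incL :
    toConv ((incL k A).toLinearMap ∘ₗ HopfAlgebraStruct.antipode k (A := A)) *
      toConv (incL k A).toLinearMap = 1 := by
  have h := LinearMap.algHom_comp_convMul_distrib (incL k A)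
    (toConv (HopfAlgebraStruct.antipode k (A := A))) (toConv (LinearMap.id : A →ₗ[k] A))
  rw [LinearMap.antipode_mul_id] at h
  apply WithConv.ext
  simp only [ofConv_toConv, LinearMap.comp_id] at h
  rw [← h]
  apply LinearMap.ext
  intro a
  simp [LinearMap.convOne_def, Algebra.algebraMap_eq_smul_one]

/-- `Σ (1 ⊗ a₁) Δ(S a₂) = S a ⊗ 1`. -/
theorem incR_mul_comul_antipode :
    toConv (incR k A).toLinearMap *
      toConv (CoalgebraStruct.comul (R := k) (A := A) ∘ₗ HopfAlgebraStruct.antipode k (A := A)) =
      toConv ((incL k A).toLinearMap ∘ₗ HopfAlgebraStruct.antipode k (A := A)) := by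
  have h1 := LinearMap.comul_right_inv (R := k) (C := A)
  calc toConv (incR k A).toLinearMap *
        toConv (CoalgebraStruct.comul (R := k) (A := A) ∘ₗ HopfAlgebraStruct.antipode k (A := A))
      = (toConv ((incL k A).toLinearMap ∘ₗ HopfAlgebraStruct.antipode k (A := A)) *
          toConv (incL k A).toLinearMap) * (toConv (incR k A).toLinearMap *
        toConv (CoalgebraStruct.comul (R := k) (A := A) ∘ₗ HopfAlgebraStruct.antipode k (A := A))) := by
        rw [incL_antipode_mul_incL, one_mul]
    _ = toConv ((incL k A).toLinearMap ∘ₗ HopfAlgebraStruct.antipode k (A := A)) *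
          ((toConv (incL k A).toLinearMap * toConv (incR k A).toLinearMap) *
        toConv (CoalgebraStruct.comul (R := k) (A := A) ∘ₗ HopfAlgebraStruct.antipode k (A := A))) := by
        simp only [mul_assoc]
    _ = toConv ((incL k A).toLinearMap ∘ₗ HopfAlgebraStruct.antipode k (A := A)) := by
        rw [← comul_eq_incL_mul_incR, h1, mul_one]

theorem incR_mul_comul_antipode_apply (a : A) :
    LinearMap.mul' k (A ⊗[k] A) (TensorProduct.map (incR k A).toLinearMap
      (CoalgebraStruct.comul (R := k) (A := A) ∘ₗ HopfAlgebraStruct.antipode k (A := A))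
      (CoalgebraStruct.comul (R := k) a)) = HopfAlgebraStruct.antipode k a ⊗ₜ[k] (1 : A) := by
  have h := congrArg (fun f => f.ofConv a) (incR_mul_comul_antipode k A)
  simpa [LinearMap.convMul_def, incL] using h

end Hopf

end Groth.Agent.Lib.Reynolds_helper9

namespace Groth.Agent.Lib.Reynolds_helper9

section Reynolds

variable (k : Type u) [CommRing k] (A : Type v) [CommRing A] [HopfAlgebra k A]
variable (B : Type w) [CommRing B] [Algebra k B]
variable (M : Type w') [AddCommGroup M] [Module k M] [Module B M] [IsScalarTower k B M]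
variable (α : A →ₗ[k] B)

/-- `m ⊗ a ↦ α(S a) • m` -/
noncomputable def Phi : M ⊗[k] A →ₗ[k] M :=
  TensorProduct.lift
    ((Algebra.lsmul k k M : B →ₐ[k] Module.End k M).toLinearMap ∘ₗ α ∘ₗ
      (HopfAlgebraStruct.antipode k (A := A))).flip

@[simp] theorem Phi_tmul (m : M) (a : A) :
    Phi k A B M α (m ⊗ₜ[k] a) = α (HopfAlgebraStruct.antipode k a) • m := by
  simp [Phi]

theorem reynolds_eq [HopfRep.Comod k A M] (m : M) :
    TameAct.reynolds k A B M α m = Phi k A B M α (HopfRep.Comod.coact (k := k) (A := A) m) := rfl

/-- `y ⊗ a ↦ ((α ⊗ id) Δ(S a)) · y` -/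
noncomputable def Gmap : (M ⊗[k] A) ⊗[k] A →ₗ[k] M ⊗[k] A :=
  TensorProduct.lift
    (TameAct.hmSMul k A B M ∘ₗ α.rTensor A ∘ₗ CoalgebraStruct.comul (R := k) (A := A) ∘ₗ
      (HopfAlgebraStruct.antipode k (A := A))).flip

@[simp] theorem Gmap_tmul (y : M ⊗[k] A) (a : A) :
    Gmap k A B M α (y ⊗ₜ[k] a) =
      TameAct.hmSMul k A B M (α.rTensor A (CoalgebraStruct.comul (R := k) (HopfAlgebraStruct.antipode k a))) y := by
  simp [Gmap]

theorem hmSMul_shift (w : A ⊗[k] A) (m : M) (a : A) :
    TameAct.hmSMul k A B M (α.rTensor A w) (m ⊗ₜ[k] a) =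
      TameAct.hmSMul k A B M (α.rTensor A (w * ((1 : A) ⊗ₜ[k] a))) (m ⊗ₜ[k] (1 : A)) := by
  induction w using TensorProduct.induction_on with
  | zero => simp
  | add x y hx hy => simp only [map_add, add_mul, LinearMap.add_apply, hx, hy]
  | tmul u v => simp

/-- Step A: the coaction of `Φ x`. -/
theorem coact_Phi [HopfRep.Comod k A B] [HopfRep.Comod k A M] [TameAct.IsHopfMod k A B M]
    (hα : Hoch.IsComodHom A α) (x : M ⊗[k] A) :
    HopfRep.Comod.coact (k := k) (A := A) (Phi k A B M α x) =
      Gmap k A B M α ((HopfRep.Comod.coact (k := k) (A := A) (V := M)).rTensor A x) := by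
  induction x using TensorProduct.induction_on with
  | zero => simp
  | add x y hx hy => simp only [map_add, hx, hy]
  | tmul m a =>
    rw [Phi_tmul, TameAct.IsHopfMod.coact_smul (k := k) (A := A) (B := B), LinearMap.rTensor_tmul, Gmap_tmul]
    have h := LinearMap.congr_fun hα (HopfAlgebraStruct.antipode k a)
    simp only [LinearMap.comp_apply] at h
    rw [h]
    rfl

theorem Gmap_assoc_symm (m : M) (t : A ⊗[k] A) :
    Gmap k A B M α ((TensorProduct.assoc k M A A).symm (m ⊗ₜ[k] t)) =
      TameAct.hmSMul k A B M (α.rTensor A (LinearMap.mul' k (A ⊗[k] A)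
        (TensorProduct.map (incR k A).toLinearMap
          (CoalgebraStruct.comul (R := k) (A := A) ∘ₗ HopfAlgebraStruct.antipode k (A := A)) t)))
        (m ⊗ₜ[k] (1 : A)) := by
  induction t using TensorProduct.induction_on with
  | zero => simp
  | add x y hx hy => simp only [TensorProduct.tmul_add, map_add, LinearMap.add_apply, hx, hy]
  | tmul a b =>
    rw [TensorProduct.assoc_symm_tmul, Gmap_tmul, hmSMul_shift, TensorProduct.map_tmul,
      LinearMap.mul'_apply, mul_comm]
    rfl

/-- Step B. -/
theorem Gmap_comul (x : M ⊗[k] A) :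
    Gmap k A B M α ((TensorProduct.assoc k M A A).symm
      ((CoalgebraStruct.comul (R := k) (A := A)).lTensor M x)) = Phi k A B M α x ⊗ₜ[k] (1 : A) := by
  induction x using TensorProduct.induction_on with
  | zero => simp
  | add x y hx hy => simp only [map_add, hx, hy, TensorProduct.add_tmul]
  | tmul m a =>
    rw [LinearMap.lTensor_tmul, Gmap_assoc_symm, incR_mul_comul_antipode_apply, LinearMap.rTensor_tmul,
      TameAct.hmSMul_tmul, Phi_tmul, mul_one]

/-- The Reynolds operator lands in the invariants. -/
theorem reynolds_mem_fixedPts [HopfRep.Comod k A B] [HopfRep.Comod k A M] [TameAct.IsHopfMod k A B M]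
    (hα : Hoch.IsComodHom A α) (m : M) :
    TameAct.reynolds k A B M α m ∈ HopfRep.fixedPts k A M := by
  show HopfRep.Comod.coact (k := k) (A := A) (TameAct.reynolds k A B M α m) =
    TameAct.reynolds k A B M α m ⊗ₜ[k] (1 : A)
  rw [reynolds_eq, coact_Phi k A B M α hα]
  have hc := LinearMap.congr_fun (HopfRep.Comod.coassoc (k := k) (A := A) (V := M)) m
  simp only [LinearMap.coe_comp, Function.comp_apply, LinearEquiv.coe_coe] at hc
  rw [← Gmap_comul, ← hc, LinearEquiv.symm_apply_apply]

/-- The Reynolds operator is the identity on invariants (when `α 1 = 1`). -/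
theorem reynolds_of_mem_fixedPts [HopfRep.Comod k A M]
    (hα1 : α 1 = 1) (m : M) (hm : m ∈ HopfRep.fixedPts k A M) :
    TameAct.reynolds k A B M α m = m := by
  have hm' : HopfRep.Comod.coact (k := k) (A := A) m = m ⊗ₜ[k] (1 : A) := hm
  rw [TameAct.reynolds_apply_of_coact_eq k A B M α m m 1 hm', HopfAlgebra.antipode_one, hα1, one_smul]

end Reynolds

end Groth.Agent.Lib.Reynolds_helper9

namespace Groth.Agent.Lib.Reynolds_helper9

section Natural

variable (k : Type u) [CommRing k] (A : Type v) [CommRing A] [HopfAlgebra k A]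
variable (B : Type w) [CommRing B] [Algebra k B]
variable (M : Type w') [AddCommGroup M] [Module k M] [Module B M] [IsScalarTower k B M]
variable {N : Type*} [AddCommGroup N] [Module k N] [Module B N] [IsScalarTower k B N]
variable (α : A →ₗ[k] B)

theorem Phi_rTensor (f : M →ₗ[B] N) (x : M ⊗[k] A) :
    Phi k A B N α ((f.restrictScalars k).rTensor A x) = f (Phi k A B M α x) := by
  induction x using TensorProduct.induction_on with
  | zero => simp
  | add x y hx hy => simp only [map_add, hx, hy]
  | tmul m a => simp

/-- The Reynolds operator commutes with `B`-linear comodule maps. -/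
theorem reynolds_natural [HopfRep.Comod k A M] [HopfRep.Comod k A N] (f : M →ₗ[B] N)
    (hf : Hoch.IsComodHom A (f.restrictScalars k)) (m : M) :
    TameAct.reynolds k A B N α (f m) = f (TameAct.reynolds k A B M α m) := by
  rw [reynolds_eq, reynolds_eq, ← Phi_rTensor]
  have h := LinearMap.congr_fun hf m
  simp only [LinearMap.comp_apply] at h
  rw [← h]
  rfl

theorem Phi_hmSMul_tmul_one (c : B) (x : M ⊗[k] A) :
    Phi k A B M α (TameAct.hmSMul k A B M (c ⊗ₜ[k] (1 : A)) x) = c • Phi k A B M α x := by
  induction x using TensorProduct.induction_on with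
  | zero => simp
  | add x y hx hy => simp only [map_add, hx, hy, smul_add]
  | tmul m a => simp [smul_smul, mul_comm]

/-- The Reynolds operator is linear over the invariants of `B`. -/
theorem reynolds_smul_of_mem_fixedPts [HopfRep.Comod k A B] [HopfRep.Comod k A M]
    [TameAct.IsHopfMod k A B M] (c : B) (hc : c ∈ HopfRep.fixedPts k A B) (m : M) :
    TameAct.reynolds k A B M α (c • m) = c • TameAct.reynolds k A B M α m := by
  have hc' : HopfRep.Comod.coact (k := k) (A := A) c = c ⊗ₜ[k] (1 : A) := hc
  rw [reynolds_eq, reynolds_eq, TameAct.IsHopfMod.coact_smul (k := k) (A := A) (B := B), hc',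
    Phi_hmSMul_tmul_one]

end Natural

section Self

variable (k : Type u) [CommRing k] (A : Type v) [CommRing A] [Bialgebra k A]
variable (B : Type w) [CommRing B] [Algebra k B]

theorem hmSMul_self (x y : B ⊗[k] A) : TameAct.hmSMul k A B B x y = x * y := by
  induction x using TensorProduct.induction_on with
  | zero => simp
  | add x x' hx hx' => simp only [map_add, LinearMap.add_apply, hx, hx', add_mul]
  | tmul b a =>
    induction y using TensorProduct.induction_on with
    | zero => simp
    | add y y' hy hy' => simp only [map_add, hy, hy', mul_add]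
    | tmul b' a' => simp

/-- A comodule algebra is a Hopf module over itself. -/
theorem isHopfMod_self [HopfRep.Comod k A B] [GLin.IsCoactAlg k A B] : TameAct.IsHopfMod k A B B :=
  ⟨fun b m => by rw [hmSMul_self, smul_eq_mul, GLin.IsCoactAlg.coact_mul (k := k) (A := A)]⟩

end Self

end Groth.Agent.Lib.Reynolds_helper9

namespace Groth.Agent.Lib.Reynolds_helper9

section Ideals

variable (k : Type u) [CommRing k] (A : Type v) [CommRing A] [HopfAlgebra k A]
variable (B : Type w) [CommRing B] [Algebra k B] [HopfRep.Comod k A B] [GLin.IsCoactAlg k A B]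
variable (α : A →ₗ[k] B)

/-- Reynolds operator of an element of an extended ideal `cB` lies in `c`. -/
theorem reynolds_mem_of_mem_map (hα : Hoch.IsComodHom A α) (hα1 : α 1 = 1)
    (c : Ideal (GLin.invariants k A B)) (y : B)
    (hy : y ∈ c.map (algebraMap (GLin.invariants k A B) B)) :
    ∃ z ∈ c, (z : B) = TameAct.reynolds k A B B α y := by
  haveI : TameAct.IsHopfMod k A B B := isHopfMod_self k A B
  have hR : ∀ b : B, TameAct.reynolds k A B B α b ∈ GLin.invariants k A B := fun b =>
    reynolds_mem_fixedPts k A B B α hα b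
  have key : ∀ y ∈ c.map (algebraMap (GLin.invariants k A B) B), ∀ b : B,
      (⟨TameAct.reynolds k A B B α (b * y), hR _⟩ : GLin.invariants k A B) ∈ c := by
    intro y hy
    refine Submodule.span_induction (p := fun y _ => ∀ b : B,
      (⟨TameAct.reynolds k A B B α (b * y), hR _⟩ : GLin.invariants k A B) ∈ c) ?_ ?_ ?_ ?_ hy
    · rintro _ ⟨z, hz, rfl⟩ b
      have hfix : (z : B) ∈ HopfRep.fixedPts k A B := z.2
      have h1 : TameAct.reynolds k A B B α (b * algebraMap (GLin.invariants k A B) B z) =
          (z : B) * TameAct.reynolds k A B B α b := by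
        have := reynolds_smul_of_mem_fixedPts k A B B α (z : B) hfix b
        rw [smul_eq_mul, smul_eq_mul] at this
        rw [mul_comm]
        exact this
      have h2 : (⟨TameAct.reynolds k A B B α (b * algebraMap (GLin.invariants k A B) B z), hR _⟩ :
          GLin.invariants k A B) = z * ⟨TameAct.reynolds k A B B α b, hR b⟩ := by
        apply Subtype.ext
        exact h1
      rw [h2]
      exact c.mul_mem_right _ hz
    · intro b
      have : (⟨TameAct.reynolds k A B B α (b * 0), hR _⟩ : GLin.invariants k A B) = 0 := by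
        apply Subtype.ext; simp
      rw [this]; exact c.zero_mem
    · intro y z _ _ hy hz b
      have : (⟨TameAct.reynolds k A B B α (b * (y + z)), hR _⟩ : GLin.invariants k A B) =
          ⟨TameAct.reynolds k A B B α (b * y), hR _⟩ + ⟨TameAct.reynolds k A B B α (b * z), hR _⟩ := by
        apply Subtype.ext; simp [mul_add]
      rw [this]; exact c.add_mem (hy b) (hz b)
    · intro b' y _ hy b
      have : b * (b' • y) = (b * b') * y := by rw [smul_eq_mul, mul_assoc]
      simp only [this]
      exact hy (b * b')
  have := key y hy 1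
  simp only [one_mul] at this
  exact ⟨_, this, rfl⟩

omit [GLin.IsCoactAlg k A B] in
/-- The Reynolds operator preserves an ideal which is a subcomodule. -/
theorem reynolds_mem_of_isSubcomod (b : Ideal B)
    (hb : HopfRep.IsSubcomod (k := k) (A := A) (b.restrictScalars k)) (β : B) (hβ : β ∈ b) :
    TameAct.reynolds k A B B α β ∈ b := by
  obtain ⟨y, hy⟩ := hb β hβ
  rw [reynolds_eq, ← hy]
  have : ∀ y : (b.restrictScalars k) ⊗[k] A,
      Phi k A B B α ((b.restrictScalars k).subtype.rTensor A y) ∈ b := by
    intro y
    induction y using TensorProduct.induction_on with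
    | zero => simp
    | add x y hx hy => rw [map_add, map_add]; exact b.add_mem hx hy
    | tmul z a =>
      rw [LinearMap.rTensor_tmul, Phi_tmul]
      exact b.mul_mem_left _ z.2
  exact this y

end Ideals

end Groth.Agent.Lib.Reynolds_helper9
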