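import Mathlib
import Groth.Prelude
import Groth.Agent.Lib.Reynolds_helper9
import Groth.Agent.Lib.CatQuotGen_helper4

/-!
# `Spec B ⟶ Spec B^A` is a categorical quotient when a total integral exists (helper4)
APPEND-ONLY once landed.
-/

set_option backward.isDefEq.respectTransparency.types false
set_option autoImplicit false
set_option linter.unusedVariables false
set_option linter.unusedTactic false
set_option linter.unreachableTactic false
set_option linter.unusedSectionVars false
set_option linter.style.haveILetI false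
set_option linter.deprecated false
set_option linter.unusedSimpArgs false
set_option linter.style.longLine false
set_option maxHeartbeats 3200000

universe u

open CategoryTheory CategoryTheory.Limits AlgebraicGeometry TensorProduct

namespace Groth.Agent.Lib.CatQuotH4

open Groth.Agent.Lib.Reynolds_helper9

section Hopf

variable (k : Type u) [CommRing k] (A : Type u) [CommRing A] [HopfAlgebra k A]
  (B : Type u) [CommRing B] [Algebra k B] [HopfRep.Comod k A B] [GLin.IsCoactAlg k A B]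

theorem Phi_mem_of_mem_map (α : A →ₗ[k] B) (J : Ideal B) (d : B ⊗[k] A)
    (hd : d ∈ Ideal.map (Algebra.TensorProduct.includeLeftRingHom : B →+* B ⊗[k] A) J) :
    Phi k A B B α d ∈ J := by
  have key : ∀ d ∈ Ideal.map (Algebra.TensorProduct.includeLeftRingHom : B →+* B ⊗[k] A) J,
      ∀ d' : B ⊗[k] A, Phi k A B B α (d' * d) ∈ J := by
    intro d hd
    refine Submodule.span_induction
      (p := fun d _ => ∀ d' : B ⊗[k] A, Phi k A B B α (d' * d) ∈ J) ?_ ?_ ?_ ?_ hd
    · rintro _ ⟨z, hz, rfl⟩ d'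
      induction d' using TensorProduct.induction_on with
      | zero => simp
      | add x y hx hy => rw [add_mul, map_add]; exact J.add_mem hx hy
      | tmul b a =>
        show Phi k A B B α (b ⊗ₜ[k] a * (z ⊗ₜ[k] (1 : A))) ∈ J
        rw [Algebra.TensorProduct.tmul_mul_tmul, Phi_tmul, smul_eq_mul]
        exact J.mul_mem_left _ (J.mul_mem_left _ hz)
    · intro d'; simp
    · intro x y _ _ hx hy d'
      rw [mul_add, map_add]; exact J.add_mem (hx d') (hy d')
    · intro a x _ hx d'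
      rw [smul_eq_mul, ← mul_assoc]; exact hx (d' * a)
  have := key d hd 1
  rwa [one_mul] at this

theorem exists_good (α : A →ₗ[k] B) (hα : Hoch.IsComodHom A α) (hα1 : α 1 = 1)
    {J : Type*} (U : J → Set (PrimeSpectrum B)) (hUo : ∀ j, IsOpen (U j))
    (hUc : ∀ x, ∃ j, x ∈ U j)
    (hUi : ∀ j (q : PrimeSpectrum (B ⊗[k] A)),
      PrimeSpectrum.comap (GLin.coactAlgHom k A B).toRingHom q ∈ U j ↔
      PrimeSpectrum.comap (Algebra.TensorProduct.includeLeftRingHom : B →+* B ⊗[k] A) q ∈ U j)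
    (y : PrimeSpectrum (GLin.invariants k A B)) :
    ∃ c : GLin.invariants k A B, c ∉ y.asIdeal ∧
      ∃ j, ∀ x : PrimeSpectrum B, (c : B) ∉ x.asIdeal → x ∈ U j := by
  haveI : TameAct.IsHopfMod k A B B := isHopfMod_self k A B
  let ρ : B →+* B ⊗[k] A := (GLin.coactAlgHom k A B).toRingHom
  let ι : B →+* B ⊗[k] A := Algebra.TensorProduct.includeLeftRingHom
  let Rey : B →ₗ[k] B := TameAct.reynolds k A B B α
  have hR : ∀ b, Rey b ∈ GLin.invariants k A B := fun b =>
    reynolds_mem_fixedPts k A B B α hα b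
  let JJ : J → Ideal B := fun j => PrimeSpectrum.vanishingIdeal (U j)ᶜ
  let II : J → Ideal B := fun j => Ideal.comap ρ (Ideal.map ι (JJ j))
  have H1 : ∀ j, ∀ b ∈ II j, Rey b ∈ JJ j := by
    intro j b hb
    show TameAct.reynolds k A B B α b ∈ JJ j
    rw [reynolds_eq]
    exact Phi_mem_of_mem_map k A B α (JJ j) _ hb
  have H2 : ∀ j, ∀ x ∈ U j, ∃ b ∈ II j, b ∉ x.asIdeal := by
    intro j x hx
    have hcl : PrimeSpectrum.zeroLocus (JJ j : Set B) = (U j)ᶜ := by
      show PrimeSpectrum.zeroLocus (PrimeSpectrum.vanishingIdeal (U j)ᶜ : Set B) = (U j)ᶜ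
      rw [PrimeSpectrum.zeroLocus_vanishingIdeal_eq_closure,
        (isClosed_compl_iff.mpr (hUo j)).closure_eq]
    have hx' : x ∉ PrimeSpectrum.zeroLocus (JJ j : Set B) := by
      rw [hcl]; exact fun h => h hx
    rw [PrimeSpectrum.mem_zeroLocus, Set.not_subset] at hx'
    obtain ⟨b₀, hb₀J, hb₀x⟩ := hx'
    have hrad : ρ b₀ ∈ (Ideal.map ι (JJ j)).radical := by
      rw [Ideal.radical_eq_sInf, Ideal.mem_sInf]
      rintro q ⟨hq1, hq2⟩
      let q' : PrimeSpectrum (B ⊗[k] A) := ⟨q, hq2⟩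
      have h1 : PrimeSpectrum.comap ι q' ∈ PrimeSpectrum.zeroLocus (JJ j : Set B) := by
        rw [PrimeSpectrum.mem_zeroLocus]
        exact fun z hz => Ideal.map_le_iff_le_comap.mp hq1 hz
      rw [hcl] at h1
      have h2 : PrimeSpectrum.comap ρ q' ∈ (U j)ᶜ := fun h => h1 ((hUi j q').mp h)
      exact (PrimeSpectrum.mem_vanishingIdeal _ _).mp hb₀J _ h2
    obtain ⟨n, hn⟩ := hrad
    refine ⟨b₀ ^ n, ?_, fun h => hb₀x (x.isPrime.mem_of_pow_mem n h)⟩
    show ρ (b₀ ^ n) ∈ Ideal.map ι (JJ j)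
    rw [map_pow]; exact hn
  have H3 : (⨆ j, II j) = ⊤ := by
    by_contra hne
    obtain ⟨M, hM, hle⟩ := Ideal.exists_le_maximal _ hne
    let x : PrimeSpectrum B := ⟨M, hM.isPrime⟩
    obtain ⟨j, hj⟩ := hUc x
    obtain ⟨b, hbI, hbx⟩ := H2 j x hj
    exact hbx (hle (Submodule.mem_iSup_of_mem j hbI))
  by_contra hcon
  push_neg at hcon
  have hall : ∀ b ∈ (⨆ j, II j), (⟨Rey b, hR b⟩ : GLin.invariants k A B) ∈ y.asIdeal := by
    intro b hb
    refine Submodule.iSup_induction II
      (motive := fun b => (⟨Rey b, hR b⟩ : GLin.invariants k A B) ∈ y.asIdeal) hb ?_ ?_ ?_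
    · intro j b hbj
      by_contra hny
      obtain ⟨x, hx1, hx2⟩ := hcon ⟨Rey b, hR b⟩ hny j
      apply hx1
      exact (PrimeSpectrum.mem_vanishingIdeal _ _).mp (H1 j b hbj) x hx2
    · have h0 : (⟨Rey 0, hR 0⟩ : GLin.invariants k A B) = 0 := Subtype.ext (map_zero Rey)
      rw [h0]; exact y.asIdeal.zero_mem
    · intro a b ha hb
      have hab : (⟨Rey (a + b), hR (a + b)⟩ : GLin.invariants k A B) =
          ⟨Rey a, hR a⟩ + ⟨Rey b, hR b⟩ := Subtype.ext (map_add Rey a b)
      rw [hab]; exact y.asIdeal.add_mem ha hb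
  have h1 : (⟨Rey 1, hR 1⟩ : GLin.invariants k A B) ∈ y.asIdeal :=
    hall 1 (by rw [H3]; exact Submodule.mem_top)
  have h2 : (⟨Rey 1, hR 1⟩ : GLin.invariants k A B) = 1 :=
    Subtype.ext (reynolds_of_mem_fixedPts k A B B α hα1 1 (GLin.invariants k A B).one_mem)
  rw [h2] at h1
  exact (Ideal.ne_top_iff_one _).mp y.isPrime.ne_top h1

theorem main12924 (htame : ∃ α : A →ₗ[k] B, Hoch.IsComodHom A α ∧ α 1 = 1)
    (hsurj : Function.Surjective
      (PrimeSpectrum.comap (algebraMap (GLin.invariants k A B) B)))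
    (Z : Scheme.{u}) (ψ : Spec (CommRingCat.of B) ⟶ Z)
    (hψ : Spec.map (CommRingCat.ofHom (GLin.coactAlgHom k A B).toRingHom) ≫ ψ =
      Spec.map (CommRingCat.ofHom
        (Algebra.TensorProduct.includeLeftRingHom : B →+* TensorProduct k B A)) ≫ ψ) :
    ∃! χ : Spec (CommRingCat.of (GLin.invariants k A B)) ⟶ Z,
      Spec.map (CommRingCat.ofHom (algebraMap (GLin.invariants k A B) B)) ≫ χ = ψ := by
  obtain ⟨α, hα, hα1⟩ := htame
  refine existsUnique_desc_gen (algebraMap (GLin.invariants k A B) B)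
    (GLin.coactAlgHom k A B).toRingHom
    (Algebra.TensorProduct.includeLeftRingHom : B →+* TensorProduct k B A)
    (fun a b h => Subtype.ext h) hsurj (fun c => c.2) (fun b hb => ⟨⟨b, hb⟩, rfl⟩) ψ hψ ?_
  intro y
  have hq : ∀ q : PrimeSpectrum (B ⊗[k] A),
      ψ (PrimeSpectrum.comap (GLin.coactAlgHom k A B).toRingHom q) =
      ψ (PrimeSpectrum.comap
        (Algebra.TensorProduct.includeLeftRingHom : B →+* TensorProduct k B A) q) := by
    intro q
    have h1 : (Spec.map (CommRingCat.ofHom (GLin.coactAlgHom k A B).toRingHom) ≫ ψ) q =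
        (Spec.map (CommRingCat.ofHom
          (Algebra.TensorProduct.includeLeftRingHom : B →+* TensorProduct k B A)) ≫ ψ) q := by
      rw [hψ]
    rw [Scheme.Hom.comp_apply, Scheme.Hom.comp_apply] at h1
    exact h1
  obtain ⟨c, hc, j, hj⟩ := exists_good k A B α hα hα1
    (fun j : Z.affineOpenCover.I₀ =>
      {x : PrimeSpectrum B | ψ x ∈ Set.range (Z.affineOpenCover.f j)})
    (fun j => (IsOpenImmersion.isOpen_range (Z.affineOpenCover.f j)).preimage ψ.continuous)
    (fun x => ⟨Z.affineOpenCover.idx (ψ x), Z.affineOpenCover.covers (ψ x)⟩)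
    (fun j q => by
      show ψ (PrimeSpectrum.comap (GLin.coactAlgHom k A B).toRingHom q) ∈
          Set.range (Z.affineOpenCover.f j) ↔
        ψ (PrimeSpectrum.comap
          (Algebra.TensorProduct.includeLeftRingHom : B →+* TensorProduct k B A) q) ∈
          Set.range (Z.affineOpenCover.f j)
      rw [hq q]) y
  exact ⟨c, hc, j, hj⟩

end Hopf

end Groth.Agent.Lib.CatQuotH4
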