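import Mathlib
import Groth.Prelude.Def_W4stktopologysheavesDim

/-!
# Codimension, catenary spaces, dimension functions (lead)
-/

open TopologicalSpace Topology Set

namespace Groth.Agent.CatenLead

universe u
variable {X : Type u} [TopologicalSpace X]

theorem le_codim {Y : IrreducibleCloseds X} {T : Set X} (s : LTSeries (IrreducibleCloseds X))
    (h1 : s.head = Y) (h2 : (s.last : Set X) ⊆ T) :
    (s.length : ℕ∞) ≤ PtTop.codim Y T :=
  le_iSup₂_of_le s ⟨h1, h2⟩ le_rfl

theorem codim_le {Y : IrreducibleCloseds X} {T : Set X} {c : ℕ∞}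
    (h : ∀ s : LTSeries (IrreducibleCloseds X), s.head = Y → (s.last : Set X) ⊆ T →
      (s.length : ℕ∞) ≤ c) : PtTop.codim Y T ≤ c :=
  iSup₂_le fun s hs => h s hs.1 hs.2

theorem series_mono (s : LTSeries (IrreducibleCloseds X)) {i j : Fin (s.length + 1)} (h : i ≤ j) :
    s i ≤ s j := s.monotone h

theorem codim_self (A : IrreducibleCloseds X) : PtTop.codim A (A : Set X) = 0 := by
  refine le_antisymm ?_ (by simp)
  apply codim_le
  intro s h1 h2
  by_contra hcon
  have hlen : 1 ≤ s.length := by
    have : ¬ s.length ≤ 0 := fun h => hcon (by exact_mod_cast h)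
    omega
  have h01 : s 0 < s ⟨1, by omega⟩ := s.strictMono (by simp [Fin.lt_def])
  have h1l : s ⟨1, by omega⟩ ≤ s.last := series_mono s (Fin.le_last _)
  have h0 : s 0 = A := h1
  have hlA : s.last ≤ A := h2
  rw [h0] at h01
  exact absurd (h1l.trans hlA) h01.not_ge

theorem codim_of_covBy {A B : IrreducibleCloseds X} (h : A ⋖ B) :
    PtTop.codim A (B : Set X) = 1 := by
  apply le_antisymm
  · apply codim_le
    intro s h1 h2
    by_contra hcon
    have hlen : 2 ≤ s.length := by
      have : ¬ s.length ≤ 1 := fun h => hcon (by exact_mod_cast h)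
      omega
    have h01 : s 0 < s ⟨1, by omega⟩ := s.strictMono (by simp [Fin.lt_def])
    have h12 : s ⟨1, by omega⟩ < s ⟨2, by omega⟩ := s.strictMono (by simp [Fin.lt_def])
    have h2l : s ⟨2, by omega⟩ ≤ s.last := series_mono s (Fin.le_last _)
    have h0 : s 0 = A := h1
    have hlB : s.last ≤ B := h2
    rw [h0] at h01
    exact h.2 h01 (lt_of_lt_of_le h12 (h2l.trans hlB))
  · have hlt : (RelSeries.singleton _ A : LTSeries (IrreducibleCloseds X)).last < B := h.1
    have := le_codim (Y := A) (T := (B : Set X))
      ((RelSeries.singleton _ A : LTSeries (IrreducibleCloseds X)).snoc B hlt)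
      (by simp) (by simp)
    simpa using this

/-- A finite codimension is attained by a chain ending exactly at `Y'`. -/
theorem exists_series_eq_codim {Y Y' : IrreducibleCloseds X} (hYY' : Y ≤ Y')
    (hfin : PtTop.codim Y (Y' : Set X) ≠ ⊤) :
    ∃ s : LTSeries (IrreducibleCloseds X), s.head = Y ∧ s.last = Y' ∧
      (s.length : ℕ∞) = PtTop.codim Y (Y' : Set X) := by
  obtain ⟨n, hn⟩ := ENat.ne_top_iff_exists.mp hfin
  have hex : ∃ s : LTSeries (IrreducibleCloseds X), s.head = Y ∧ (s.last : Set X) ⊆ Y' ∧
      s.length = n := by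
    by_contra hcon
    push Not at hcon
    cases n with
    | zero =>
      exact hcon (RelSeries.singleton _ Y : LTSeries (IrreducibleCloseds X)) rfl hYY' rfl
    | succ m =>
      have hle : PtTop.codim Y (Y' : Set X) ≤ (m : ℕ∞) := by
        apply codim_le
        intro s h1 h2
        have hle : (s.length : ℕ∞) ≤ PtTop.codim Y (Y' : Set X) := le_codim s h1 h2
        rw [← hn] at hle
        have hle' : s.length ≤ m + 1 := by exact_mod_cast hle
        have hne : s.length ≠ m + 1 := hcon s h1 h2
        have : s.length ≤ m := by omega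
        exact_mod_cast this
      rw [← hn] at hle
      have : m + 1 ≤ m := by exact_mod_cast hle
      omega
  obtain ⟨s, h1, h2, h3⟩ := hex
  refine ⟨s, h1, ?_, by rw [h3, hn]⟩
  by_contra hne
  have hlt : s.last < Y' := lt_of_le_of_ne h2 hne
  have := le_codim (Y := Y) (T := (Y' : Set X)) (s.snoc Y' hlt) (by simp [h1]) (by simp)
  rw [← hn] at this
  have h4 : (s.snoc Y' hlt).length = s.length + 1 := by simp
  rw [h4] at this
  have : s.length + 1 ≤ n := by exact_mod_cast this
  omega

/-- A chain of maximal length is saturated. -/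
theorem covBy_of_length_eq_codim {Y Y' : IrreducibleCloseds X}
    (s : LTSeries (IrreducibleCloseds X)) (h1 : s.head = Y) (h2 : s.last = Y')
    (hlen : (s.length : ℕ∞) = PtTop.codim Y (Y' : Set X))
    (i : Fin s.length) : s i.castSucc ⋖ s i.succ := by
  refine ⟨s.step i, ?_⟩
  intro Z hZ1 hZ2
  have hc1 : (s.take i.castSucc).last < Z := by rw [RelSeries.last_take]; exact hZ1
  have hc2 : Z < (s.drop i.succ).head := by rw [RelSeries.head_drop]; exact hZ2
  have hconn : ((s.take i.castSucc).snoc Z hc1).last = ((s.drop i.succ).cons Z hc2).head := by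
    rw [RelSeries.last_snoc, RelSeries.head_cons]
  have key := le_codim (Y := Y) (T := (Y' : Set X))
    (RelSeries.smash ((s.take i.castSucc).snoc Z hc1) ((s.drop i.succ).cons Z hc2) hconn)
    (by rw [RelSeries.head_smash, RelSeries.head_snoc, RelSeries.head_take, h1])
    (by rw [RelSeries.last_smash, RelSeries.last_cons, RelSeries.last_drop, h2])
  have hl : (RelSeries.smash ((s.take i.castSucc).snoc Z hc1)
      ((s.drop i.succ).cons Z hc2) hconn).length = s.length + 1 := by
    simp only [RelSeries.smash_length, RelSeries.snoc_length, RelSeries.cons_length,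
      RelSeries.take_length, RelSeries.drop_length, Fin.val_castSucc, Fin.val_succ]
    have := i.2
    omega
  rw [hl, ← hlen] at key
  have : s.length + 1 ≤ s.length := by exact_mod_cast key
  omega

/-- With additivity, saturated chains compute the codimension. -/
theorem codim_eq_of_additive
    (hadd : ∀ Y Y' Y'' : IrreducibleCloseds X, Y ≤ Y' → Y' ≤ Y'' →
      PtTop.codim Y (Y'' : Set X) = PtTop.codim Y (Y' : Set X) + PtTop.codim Y' (Y'' : Set X)) :
    ∀ (n : ℕ) (f : Fin (n + 1) → IrreducibleCloseds X), (∀ i : Fin n, f i.castSucc ⋖ f i.succ) →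
      PtTop.codim (f 0) ((f (Fin.last n) : IrreducibleCloseds X) : Set X) = n := by
  intro n
  induction n with
  | zero =>
    intro f _
    have : f (Fin.last 0) = f 0 := rfl
    rw [this, codim_self]; rfl
  | succ n ih =>
    intro f hf
    have hmono : Monotone f := Fin.monotone_iff_le_succ.mpr fun i => (hf i).1.le
    have ih' := ih (fun i => f i.castSucc) (fun i => by
      have := hf i.castSucc
      rw [Fin.succ_castSucc] at this
      exact this)
    have hc := codim_of_covBy (hf (Fin.last n))
    rw [Fin.succ_last] at hc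
    have e0 : f (Fin.castSucc 0) = f 0 := by rw [Fin.castSucc_zero]
    simp only [e0] at ih'
    rw [hadd (f 0) (f (Fin.last n).castSucc) (f (Fin.last (n + 1))) (hmono (Fin.zero_le _))
      (hmono (Fin.le_last _)), hc, ih']
    push_cast
    rfl

section Sober

variable [QuasiSober X] [T0Space X]

/-- generic point of an irreducible closed set -/
noncomputable def gp (Z : IrreducibleCloseds X) : X := Z.isIrreducible.genericPoint

theorem closure_gp (Z : IrreducibleCloseds X) : closure {gp Z} = (Z : Set X) :=
  (Z.isIrreducible.isGenericPoint_genericPoint Z.isClosed).def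

theorem gp_closure (x : X) :
    gp (⟨closure {x}, isIrreducible_singleton.closure, isClosed_closure⟩ : IrreducibleCloseds X) = x := by
  have := closure_gp (⟨closure {x}, isIrreducible_singleton.closure, isClosed_closure⟩ :
    IrreducibleCloseds X)
  exact ((inseparable_iff_closure_eq).mpr this).eq

theorem gp_specializes {Z Z' : IrreducibleCloseds X} (h : Z ≤ Z') : gp Z' ⤳ gp Z := by
  rw [specializes_iff_closure_subset, closure_gp, closure_gp]
  exact h

theorem gp_injective : Function.Injective (gp : IrreducibleCloseds X → X) := by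
  intro Z Z' h
  apply IrreducibleCloseds.ext
  rw [← closure_gp Z, ← closure_gp Z', h]

variable (δ : X → ℤ) (hδ : PtTop.IsDimensionFunction δ)

include hδ in
theorem delta_lt {Z Z' : IrreducibleCloseds X} (h : Z < Z') : δ (gp Z) < δ (gp Z') :=
  hδ.1 _ _ (gp_specializes h.le) (fun e => h.ne (gp_injective e).symm)

include hδ in
theorem delta_le {Z Z' : IrreducibleCloseds X} (h : Z ≤ Z') : δ (gp Z) ≤ δ (gp Z') := by
  rcases eq_or_lt_of_le h with rfl | h
  · exact le_rfl
  · exact (delta_lt δ hδ h).le

include hδ in
theorem delta_covBy {Z Z' : IrreducibleCloseds X} (h : Z ⋖ Z') : δ (gp Z') = δ (gp Z) + 1 := by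
  apply hδ.2
  refine ⟨gp_specializes h.1.le, fun e => h.1.ne (gp_injective e).symm, ?_⟩
  intro z hz1 hz2
  let W : IrreducibleCloseds X := ⟨closure {z}, isIrreducible_singleton.closure, isClosed_closure⟩
  have hW1 : Z ≤ W := by
    have := specializes_iff_closure_subset.mp hz2
    rw [closure_gp] at this
    exact this
  have hW2 : W ≤ Z' := by
    have := specializes_iff_closure_subset.mp hz1
    rw [closure_gp] at this
    exact this
  rcases h.eq_or_eq hW1 hW2 with e | e
  · right
    rw [← gp_closure z]; exact congrArg gp e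
  · left
    rw [← gp_closure z]; exact congrArg gp e

include hδ in
theorem delta_series_le (s : LTSeries (IrreducibleCloseds X)) :
    ∀ i : Fin (s.length + 1), δ (gp (s 0)) + (i : ℕ) ≤ δ (gp (s i)) := by
  intro i
  induction i using Fin.induction with
  | zero => simp
  | succ i ih =>
    have := delta_lt δ hδ (s.step i)
    simp only [Fin.val_succ, Fin.val_castSucc] at ih ⊢
    push_cast
    omega

include hδ in
theorem delta_series_eq (s : LTSeries (IrreducibleCloseds X))
    (hs : ∀ i : Fin s.length, s i.castSucc ⋖ s i.succ) :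
    ∀ i : Fin (s.length + 1), δ (gp (s i)) = δ (gp (s 0)) + (i : ℕ) := by
  intro i
  induction i using Fin.induction with
  | zero => simp
  | succ i ih =>
    have := delta_covBy δ hδ (hs i)
    simp only [Fin.val_succ, Fin.val_castSucc] at ih ⊢
    push_cast
    omega

include hδ in
theorem codim_le_delta {T T' : IrreducibleCloseds X} :
    PtTop.codim T (T' : Set X) ≤ ((δ (gp T') - δ (gp T)).toNat : ℕ∞) := by
  apply codim_le
  intro s h1 h2
  have h3 := delta_series_le δ hδ s (Fin.last _)
  have h4 : δ (gp s.last) ≤ δ (gp T') := delta_le δ hδ (show s.last ≤ T' from h2)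
  have h5 : s 0 = T := h1
  have h6 : s (Fin.last _) = s.last := rfl
  rw [h5, h6] at h3
  simp only [Fin.val_last] at h3
  have : s.length ≤ (δ (gp T') - δ (gp T)).toNat := by omega
  exact_mod_cast this

include hδ in
theorem length_eq_of_saturated (s : LTSeries (IrreducibleCloseds X))
    (hs : ∀ i : Fin s.length, s i.castSucc ⋖ s i.succ) :
    s.length = (δ (gp s.last) - δ (gp s.head)).toNat := by
  have h3 := delta_series_eq δ hδ s hs (Fin.last _)
  have h5 : s 0 = s.head := rfl
  have h6 : s (Fin.last _) = s.last := rfl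
  rw [h5, h6] at h3
  simp only [Fin.val_last] at h3
  omega

include hδ in
theorem codim_eq_delta {T T' : IrreducibleCloseds X} (h : T ≤ T') :
    PtTop.codim T (T' : Set X) = ((δ (gp T') - δ (gp T)).toNat : ℕ∞) := by
  have hfin : PtTop.codim T (T' : Set X) ≠ ⊤ :=
    ne_top_of_le_ne_top (ENat.natCast_ne_top _) (codim_le_delta δ hδ)
  obtain ⟨s, h1, h2, h3⟩ := exists_series_eq_codim h hfin
  have hsat := covBy_of_length_eq_codim s h1 h2 h3
  have := length_eq_of_saturated δ hδ s hsat
  rw [h1, h2] at this
  rw [← h3, this]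

theorem diff_eq_of_specializes (δ δ' : X → ℤ) (hδ : PtTop.IsDimensionFunction δ)
    (hδ' : PtTop.IsDimensionFunction δ') {ξ y : X} (h : ξ ⤳ y) :
    δ ξ - δ' ξ = δ y - δ' y := by
  have hle : (⟨closure {y}, isIrreducible_singleton.closure, isClosed_closure⟩ :
      IrreducibleCloseds X) ≤ ⟨closure {ξ}, isIrreducible_singleton.closure, isClosed_closure⟩ :=
    specializes_iff_closure_subset.mp h
  have e1 := codim_eq_delta δ hδ hle
  have e2 := codim_eq_delta δ' hδ' hle
  rw [gp_closure, gp_closure] at e1 e2
  have e3 : (δ ξ - δ y).toNat = (δ' ξ - δ' y).toNat := by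
    have := e1.symm.trans e2
    exact_mod_cast this
  have n1 : δ y ≤ δ ξ := by
    by_cases hxy : ξ = y
    · rw [hxy]
    · exact (hδ.1 ξ y h hxy).le
  have n2 : δ' y ≤ δ' ξ := by
    by_cases hxy : ξ = y
    · rw [hxy]
    · exact (hδ'.1 ξ y h hxy).le
  have := congrArg (Nat.cast : ℕ → ℤ) e3
  rw [Int.toNat_of_nonneg (by linarith), Int.toNat_of_nonneg (by linarith)] at this
  linarith

end Sober

end Groth.Agent.CatenLead
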