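import Mathlib
import Groth.Prelude.Def_W4stktopologysheavesDim
import Groth.Agent.Lib.Catenary_helper4
import Groth.Agent.Lib.Caten_lead

/-! Order-theoretic lemmas on the catenary condition `Cat`, and the bridge between
`PtTop.IsCatenarySpace X` and `Cat (IrreducibleCloseds X)`. -/

universe u

open TopologicalSpace

namespace Groth.Agent.CatSp1H8

open Groth.Agent.Lib.Catenary_helper4

theorem cat_of_orderIso {α β : Type*} [PartialOrder α] [PartialOrder β] (e : α ≃o β)
    (hβ : Cat β) : Cat α := by
  refine cat_of_orderEmbedding e.toOrderEmbedding ?_ hβ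
  have : Set.range e.toOrderEmbedding = Set.univ := by
    ext b
    simp only [Set.mem_range, Set.mem_univ, iff_true]
    exact ⟨e.symm b, e.apply_symm_apply b⟩
  rw [this]
  exact Set.ordConnected_univ

theorem cat_subtype {α : Type*} [PartialOrder α] (s : Set α) (hs : s.OrdConnected)
    (hα : Cat α) : Cat ↥s := by
  refine cat_of_orderEmbedding (OrderEmbedding.subtype _) ?_ hα
  have : Set.range (OrderEmbedding.subtype (fun a => a ∈ s)) = s := by
    ext b
    simp
  rw [this]
  exact hs

/-- lift a series through a subtype -/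
def liftSeries {α : Type*} [PartialOrder α] (s : Set α) (l : LTSeries α)
    (h : ∀ i, l i ∈ s) : LTSeries ↥s where
  length := l.length
  toFun i := ⟨l i, h i⟩
  step i := l.step i

theorem cat_of_local {α : Type*} [PartialOrder α]
    (h : ∀ p : α, ∃ s : Set α, IsUpperSet s ∧ p ∈ s ∧ Cat ↥s) : Cat α := by
  refine ⟨fun p q hpq => ?_, fun l t hh hl hs ht => ?_⟩
  · obtain ⟨s, hup, hps, hcat⟩ := h p
    obtain ⟨n, hn⟩ := hcat.1 ⟨p, hps⟩ ⟨q, hup hpq hps⟩ hpq
    refine ⟨n, fun l hlp hlq => ?_⟩
    have hmem : ∀ i, l i ∈ s := fun i =>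
      hup (by rw [← hlp]; exact LTSeries.head_le l i) hps
    have := hn (liftSeries s l hmem) (Subtype.ext hlp) (Subtype.ext hlq)
    exact this
  · obtain ⟨s, hup, hps, hcat⟩ := h l.head
    have hmem : ∀ i, l i ∈ s := fun i => hup (LTSeries.head_le l i) hps
    have hmem' : ∀ i, t i ∈ s := fun i =>
      hup (by rw [hh]; exact LTSeries.head_le t i) hps
    have hcov : ∀ a b : ↥s, (a : α) ⋖ (b : α) → a ⋖ b := by
      intro a b hab
      refine ⟨hab.lt, fun c hc1 hc2 => hab.2 (show (a : α) < c from hc1) hc2⟩
    exact hcat.2 (liftSeries s l hmem) (liftSeries s t hmem') (Subtype.ext hh) (Subtype.ext hl)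
      (fun i => hcov _ _ (hs i)) (fun i => hcov _ _ (ht i))

/-- reverse a series of the order dual -/
def revSeries {α : Type*} [PartialOrder α] (l : LTSeries αᵒᵈ) : LTSeries α where
  length := l.length
  toFun i := OrderDual.ofDual (l (Fin.rev i))
  step i := by
    have h := l.step (Fin.rev i)
    have e1 : Fin.rev i.castSucc = (Fin.rev i).succ := Fin.rev_castSucc i
    have e2 : Fin.rev i.succ = (Fin.rev i).castSucc := Fin.rev_succ i
    rw [e1, e2]
    exact h

theorem cat_dual {α : Type*} [PartialOrder α] (hα : Cat α) : Cat αᵒᵈ := by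
  refine ⟨fun p q hpq => ?_, fun l t hh hl hs ht => ?_⟩
  · obtain ⟨n, hn⟩ := hα.1 (OrderDual.ofDual q) (OrderDual.ofDual p) hpq
    refine ⟨n, fun l hlp hlq => ?_⟩
    have := hn (revSeries l) ?_ ?_
    · exact this
    · change OrderDual.ofDual (l (Fin.rev 0)) = _
      rw [Fin.rev_zero]
      exact congrArg OrderDual.ofDual hlq
    · change OrderDual.ofDual (l (Fin.rev (Fin.last _))) = _
      rw [Fin.rev_last]
      exact congrArg OrderDual.ofDual hlp
  · have hsat : ∀ (m : LTSeries αᵒᵈ), (∀ i : Fin m.length, m i.castSucc ⋖ m i.succ) →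
        ∀ i : Fin m.length, (revSeries m) (Fin.castSucc (n := m.length) i) ⋖
          (revSeries m) (Fin.succ (n := m.length) i) := by
      intro m hm i
      have h := hm (Fin.rev i)
      have e1 : Fin.rev i.castSucc = (Fin.rev i).succ := Fin.rev_castSucc i
      have e2 : Fin.rev i.succ = (Fin.rev i).castSucc := Fin.rev_succ i
      change OrderDual.ofDual (m (Fin.rev i.castSucc)) ⋖ OrderDual.ofDual (m (Fin.rev i.succ))
      rw [e1, e2]
      exact ofDual_covBy_ofDual_iff.mpr h
    have := hα.2 (revSeries l) (revSeries t) ?_ ?_ (hsat l hs) (hsat t ht)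
    · exact this
    · change OrderDual.ofDual (l (Fin.rev 0)) = OrderDual.ofDual (t (Fin.rev 0))
      rw [Fin.rev_zero, Fin.rev_zero]
      exact congrArg OrderDual.ofDual hl
    · change OrderDual.ofDual (l (Fin.rev (Fin.last _))) =
        OrderDual.ofDual (t (Fin.rev (Fin.last _)))
      rw [Fin.rev_last, Fin.rev_last]
      exact congrArg OrderDual.ofDual hh

theorem isCatenarySpace_iff_cat (X : Type u) [TopologicalSpace X] :
    PtTop.IsCatenarySpace X ↔ Cat (IrreducibleCloseds X) := by
  constructor
  · intro h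
    refine ⟨fun p q hpq => ?_, fun l t hh hl hs ht => ?_⟩
    · obtain ⟨hfin, -⟩ := h p q hpq
      obtain ⟨n, hn⟩ := ENat.ne_top_iff_exists.mp hfin
      refine ⟨n, fun l hlp hlq => ?_⟩
      have := Groth.Agent.CatenLead.le_codim (Y := p) (T := (q : Set X)) l hlp (by rw [hlq])
      rw [← hn] at this
      exact_mod_cast this
    · have h1 := (h l.head l.last (LTSeries.head_le_last l)).2 l rfl rfl hs
      have h2 := (h l.head l.last (LTSeries.head_le_last l)).2 t hh.symm hl.symm ht
      have : (l.length : ℕ∞) = (t.length : ℕ∞) := by rw [h1, h2]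
      exact_mod_cast this
  · intro h T T' hTT'
    have hfin : PtTop.codim T (T' : Set X) ≠ ⊤ := by
      obtain ⟨n, hn⟩ := h.1 T T' hTT'
      have : PtTop.codim T (T' : Set X) ≤ (n : ℕ∞) := by
        apply Groth.Agent.CatenLead.codim_le
        intro s h1 h2
        by_cases heq : s.last = T'
        · exact_mod_cast hn s h1 heq
        · have hlt : s.last < T' := lt_of_le_of_ne h2 heq
          have := hn (s.snoc T' hlt) (by simp [h1]) (by simp)
          have h4 : (s.snoc T' hlt).length = s.length + 1 := by simp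
          rw [h4] at this
          have : s.length ≤ n := by omega
          exact_mod_cast this
      exact ne_top_of_le_ne_top (ENat.natCast_ne_top _) this
    refine ⟨hfin, fun s h1 h2 hs => ?_⟩
    obtain ⟨s₀, h01, h02, h03⟩ := Groth.Agent.CatenLead.exists_series_eq_codim hTT' hfin
    have hs₀ := Groth.Agent.CatenLead.covBy_of_length_eq_codim s₀ h01 h02 h03
    have := h.2 s s₀ (by rw [h1, h01]) (by rw [h2, h02]) hs hs₀
    rw [this, h03]

end Groth.Agent.CatSp1H8
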