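import Mathlib
import Groth.Prelude.Def_W4stktopologysheavesDim
import Groth.Agent.Lib.CatSp1_helper8

/-! Catenary spaces: locally closed subspaces and open coverings. -/

universe u

open TopologicalSpace Topology

namespace Groth.Agent.CatSp2H8

open Groth.Agent.Lib.Catenary_helper4 Groth.Agent.CatSp1H8

variable {X : Type*} [TopologicalSpace X] {S : Type*} [TopologicalSpace S]

theorem coe_eq_preimage (j : S → X) (hj : IsInducing j) (T : IrreducibleCloseds S) :
    (T : Set S) = j ⁻¹' closure (j '' (T : Set S)) := by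
  rw [← hj.closure_eq_preimage_closure_image, T.isClosed.closure_eq]

/-- The order embedding on irreducible closed subsets induced by an inducing map. -/
noncomputable def mapEmb (j : S → X) (hj : IsInducing j) :
    IrreducibleCloseds S ↪o IrreducibleCloseds X :=
  OrderEmbedding.ofMapLEIff (IrreducibleCloseds.map j hj.continuous) (fun T T' => by
    constructor
    · intro h
      change (T : Set S) ⊆ (T' : Set S)
      rw [coe_eq_preimage j hj T, coe_eq_preimage j hj T']
      exact Set.preimage_mono h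
    · intro h
      exact IrreducibleCloseds.map_mono hj.continuous h)

theorem mapEmb_coe (j : S → X) (hj : IsInducing j) (T : IrreducibleCloseds S) :
    ((mapEmb j hj T : IrreducibleCloseds X) : Set X) = closure (j '' (T : Set S)) := rfl

theorem exists_map_eq (j : S → X) (hj : IsInducing j) (U Z : Set X) (hU : IsOpen U)
    (hr : Set.range j = U ∩ Z) (T : IrreducibleCloseds S) (W : IrreducibleCloseds X)
    (h1 : mapEmb j hj T ≤ W) (hWZ : (W : Set X) ⊆ Z) : ∃ T'' : IrreducibleCloseds S,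
      mapEmb j hj T'' = W := by
  obtain ⟨t, ht⟩ := T.isIrreducible.nonempty
  have htW : j t ∈ (W : Set X) := h1 (subset_closure ⟨t, ht, rfl⟩)
  have htU : j t ∈ U := by
    have : j t ∈ Set.range j := ⟨t, rfl⟩
    rw [hr] at this
    exact this.1
  have hlift : ∀ w : X, w ∈ (W : Set X) → w ∈ U → ∃ s : S, j s = w := by
    intro w hwW hwU
    have : w ∈ Set.range j := by
      rw [hr]
      exact ⟨hwU, hWZ hwW⟩
    exact this
  have hB : IsIrreducible (j ⁻¹' (W : Set X)) := by
    refine ⟨⟨t, htW⟩, ?_⟩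
    intro O1' O2' hO1 hO2 hb1 hb2
    obtain ⟨b1, hb1B, hb1O⟩ := hb1
    obtain ⟨b2, hb2B, hb2O⟩ := hb2
    obtain ⟨O1, hO1o, rfl⟩ := hj.isOpen_iff.mp hO1
    obtain ⟨O2, hO2o, rfl⟩ := hj.isOpen_iff.mp hO2
    have hb1U : j b1 ∈ U := by
      have : j b1 ∈ Set.range j := ⟨b1, rfl⟩
      rw [hr] at this
      exact this.1
    have hb2U : j b2 ∈ U := by
      have : j b2 ∈ Set.range j := ⟨b2, rfl⟩
      rw [hr] at this
      exact this.1
    obtain ⟨w, hwW, ⟨hwO1, hwU⟩, ⟨hwO2, -⟩⟩ := W.isIrreducible.2 (O1 ∩ U) (O2 ∩ U)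
      (hO1o.inter hU) (hO2o.inter hU) ⟨j b1, hb1B, hb1O, hb1U⟩ ⟨j b2, hb2B, hb2O, hb2U⟩
    obtain ⟨s, rfl⟩ := hlift w hwW hwU
    exact ⟨s, hwW, hwO1, hwO2⟩
  refine ⟨⟨j ⁻¹' (W : Set X), hB, W.isClosed.preimage hj.continuous⟩, ?_⟩
  apply IrreducibleCloseds.ext
  rw [mapEmb_coe]
  apply le_antisymm
  · exact closure_minimal (Set.image_preimage_subset _ _) W.isClosed
  · intro w hwW
    rw [mem_closure_iff]
    intro O hO hwO
    obtain ⟨w', hw'W, hw'O, hw'U⟩ := W.isIrreducible.2 O U hO hU ⟨w, hwW, hwO⟩ ⟨j t, htW, htU⟩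
    obtain ⟨s, rfl⟩ := hlift w' hw'W hw'U
    exact ⟨j s, hw'O, s, hw'W, rfl⟩

theorem cat_of_isLocallyClosed (j : S → X) (hj : IsInducing j)
    (hr : IsLocallyClosed (Set.range j)) (hX : Cat (IrreducibleCloseds X)) :
    Cat (IrreducibleCloseds S) := by
  obtain ⟨U, Z, hU, hZ, hr⟩ := hr
  refine cat_of_orderEmbedding (mapEmb j hj) ⟨?_⟩ hX
  rintro _ ⟨T, rfl⟩ _ ⟨T', rfl⟩ W ⟨hW1, hW2⟩
  have hWZ : (W : Set X) ⊆ Z := by
    refine subset_trans hW2 ?_
    rw [mapEmb_coe]
    apply closure_minimal _ hZ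
    rintro _ ⟨s, -, rfl⟩
    have : j s ∈ Set.range j := ⟨s, rfl⟩
    rw [hr] at this
    exact this.2
  exact exists_map_eq j hj U Z hU hr T W hW1 hWZ

theorem cat_of_open_cover
    (h : ∀ x : X, ∃ U : Set X, IsOpen U ∧ x ∈ U ∧ Cat (IrreducibleCloseds ↥U)) :
    Cat (IrreducibleCloseds X) := by
  apply cat_of_local
  intro T
  obtain ⟨x, hx⟩ := T.isIrreducible.nonempty
  obtain ⟨U, hU, hxU, hcat⟩ := h x
  have hj : IsInducing (Subtype.val : ↥U → X) := IsInducing.subtypeVal
  have hr : Set.range (Subtype.val : ↥U → X) = U ∩ Set.univ := by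
    rw [Subtype.range_coe, Set.inter_univ]
  refine ⟨Set.range (mapEmb (Subtype.val : ↥U → X) hj), ?_, ?_, ?_⟩
  · rintro _ W hW ⟨T', rfl⟩
    exact exists_map_eq _ hj U Set.univ hU hr T' W hW (Set.subset_univ _)
  · let T' : IrreducibleCloseds ↥U :=
      ⟨closure {(⟨x, hxU⟩ : ↥U)}, isIrreducible_singleton.closure, isClosed_closure⟩
    have hT' : mapEmb (Subtype.val : ↥U → X) hj T' ≤ T := by
      change closure (Subtype.val '' closure {(⟨x, hxU⟩ : ↥U)}) ⊆ (T : Set X)
      apply closure_minimal _ T.isClosed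
      refine subset_trans (image_closure_subset_closure_image continuous_subtype_val) ?_
      apply closure_minimal _ T.isClosed
      rintro _ ⟨y, hy, rfl⟩
      rw [Set.mem_singleton_iff] at hy
      rw [hy]
      exact hx
    exact exists_map_eq _ hj U Set.univ hU hr T' T hT' (Set.subset_univ _)
  · exact cat_of_orderIso
      (OrderEmbedding.orderIso (f := mapEmb (Subtype.val : ↥U → X) hj)).symm hcat

end Groth.Agent.CatSp2H8
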