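import Mathlib
import Groth.Prelude.Def_W4stktopologysheavesDim
import Groth.Agent.Lib.CatSp1_helper8
import Groth.Agent.Lib.DimFun_helper8

/-! Catenary schemes: comparison with local rings and with affine opens. -/

universe u

open TopologicalSpace Topology AlgebraicGeometry

namespace Groth.Agent.CatSp3H8

open Groth.Agent.Lib.Catenary_helper4 Groth.Agent.CatSp1H8

theorem cat_dual_iff {α : Type*} [PartialOrder α] : Cat αᵒᵈ ↔ Cat α := by
  constructor
  · intro h
    exact cat_of_orderIso (OrderIso.dualDual α) (cat_dual h)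
  · exact cat_dual

theorem cat_iff_forall_Ici {α : Type*} [PartialOrder α] : Cat α ↔ ∀ x : α, Cat ↥(Set.Ici x) := by
  constructor
  · intro h x
    exact cat_subtype _ Set.ordConnected_Ici h
  · intro h
    apply cat_of_local
    intro p
    exact ⟨Set.Ici p, isUpperSet_Ici p, Set.self_mem_Ici, h p⟩

section Top

attribute [local instance] specializationOrder

theorem cat_irr_iff (T : Type*) [TopologicalSpace T] [QuasiSober T] [T0Space T] :
    Cat (IrreducibleCloseds T) ↔ Cat T := by
  constructor
  · intro h
    exact cat_of_orderIso (irreducibleSetEquivPoints (α := T)).symm h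
  · intro h
    exact cat_of_orderIso (irreducibleSetEquivPoints (α := T)) h

end Top

theorem isCatenarySpace_iff_stalk (X : Scheme.{u}) :
    PtTop.IsCatenarySpace X ↔ ∀ x : X, CAlg.IsCatenary (X.presheaf.stalk x) := by
  letI inst : PartialOrder X := specializationOrder X
  rw [isCatenarySpace_iff_cat, cat_irr_iff X, cat_iff_forall_Ici]
  refine forall_congr' fun x => ?_
  rw [isCatenary_iff_cat]
  have hbij : Function.Bijective (fun P : PrimeSpectrum (X.presheaf.stalk x) =>
      (OrderDual.toDual (⟨Groth.Agent.DimFunH8.φ X x P,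
        Groth.Agent.DimFunH8.φ_specializes X x P⟩ : ↥(Set.Ici x)) : (↥(Set.Ici x))ᵒᵈ)) := by
    constructor
    · intro P Q hPQ
      have h1 := congrArg (fun a => (OrderDual.ofDual a).1) hPQ
      exact Groth.Agent.DimFunH8.φ_injective X x h1
    · intro a
      obtain ⟨P, hP⟩ := Groth.Agent.DimFunH8.exists_φ_eq X x (OrderDual.ofDual a).1
        (OrderDual.ofDual a).2
      exact ⟨P, congrArg OrderDual.toDual (Subtype.ext hP)⟩
  let e : PrimeSpectrum (X.presheaf.stalk x) ≃o (↥(Set.Ici x))ᵒᵈ :=
    { toEquiv := Equiv.ofBijective _ hbij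
      map_rel_iff' := by
        intro P Q
        exact Groth.Agent.DimFunH8.φ_specializes_iff X x P Q }
  constructor
  · intro h
    exact cat_of_orderIso e (cat_dual h)
  · intro h
    exact cat_dual_iff.mp (cat_of_orderIso e.symm h)

end Groth.Agent.CatSp3H8
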