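import Mathlib
import Groth.Prelude.Def_W4stktopologysheavesDim
import Groth.Agent.Lib.CatSp2_helper8
import Groth.Agent.Lib.CatSp3_helper8

/-! Catenary schemes and affine opens. -/

universe u

open TopologicalSpace Topology AlgebraicGeometry

namespace Groth.Agent.CatSp4H8

open Groth.Agent.Lib.Catenary_helper4 Groth.Agent.CatSp1H8 Groth.Agent.CatSp2H8
  Groth.Agent.CatSp3H8

theorem isCatenarySpace_primeSpectrum_iff (R : Type u) [CommRing R] :
    PtTop.IsCatenarySpace (PrimeSpectrum R) ↔ CAlg.IsCatenary R := by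
  rw [isCatenarySpace_iff_cat, cat_irr_iff (PrimeSpectrum R), isCatenary_iff_cat,
    ← cat_dual_iff (α := PrimeSpectrum R)]
  let e : @OrderIso (PrimeSpectrum R) (PrimeSpectrum R)ᵒᵈ
      (specializationOrder (PrimeSpectrum R)).toLE _ :=
    { toEquiv := OrderDual.toDual
      map_rel_iff' := by
        intro a b
        exact (PrimeSpectrum.le_iff_specializes b a) }
  let e2 : @OrderIso (PrimeSpectrum R)ᵒᵈ (PrimeSpectrum R) _
      (specializationOrder (PrimeSpectrum R)).toLE :=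
    { toEquiv := OrderDual.ofDual
      map_rel_iff' := by
        intro a b
        exact (PrimeSpectrum.le_iff_specializes (OrderDual.ofDual b) (OrderDual.ofDual a)).symm }
  constructor
  · intro h
    exact @cat_of_orderIso _ _ _ (specializationOrder (PrimeSpectrum R)) e2 h
  · intro h
    exact @cat_of_orderIso _ _ (specializationOrder (PrimeSpectrum R)) _ e h

theorem isCatenarySpace_of_homeomorph {A B : Type u} [TopologicalSpace A] [TopologicalSpace B]
    (e : A ≃ₜ B) (h : PtTop.IsCatenarySpace B) : PtTop.IsCatenarySpace A := by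
  rw [isCatenarySpace_iff_cat] at h ⊢
  exact cat_of_isLocallyClosed e e.isInducing
    (by rw [e.range_coe]; exact isOpen_univ.isLocallyClosed) h

theorem isCatenary_of_isAffineOpen (S : Scheme.{u}) (hS : PtTop.IsCatenarySpace S) (U : S.Opens)
    (hU : IsAffineOpen U) : CAlg.IsCatenary Γ(S, U) := by
  have h1 : PtTop.IsCatenarySpace ↥(U : Set S) := by
    rw [isCatenarySpace_iff_cat] at hS ⊢
    exact cat_of_isLocallyClosed (Subtype.val : ↥(U : Set S) → S) IsInducing.subtypeVal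
      (by rw [Subtype.range_coe]; exact U.2.isLocallyClosed) hS
  have h2 : PtTop.IsCatenarySpace ↥(U.toScheme) := h1
  have h3 : PtTop.IsCatenarySpace ↥(Spec Γ(S, U)) :=
    isCatenarySpace_of_homeomorph (Scheme.homeoOfIso hU.isoSpec).symm h2
  exact (isCatenarySpace_primeSpectrum_iff Γ(S, U)).mp h3

theorem isCatenary_stalk_of_isAffineOpen (S : Scheme.{u}) (U : S.Opens) (hU : IsAffineOpen U)
    (h : CAlg.IsCatenary Γ(S, U)) (x : S) (hx : x ∈ U) :
    CAlg.IsCatenary (S.presheaf.stalk x) := by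
  letI : Algebra Γ(S, U) (S.presheaf.stalk x) :=
    TopCat.Presheaf.algebra_section_stalk S.presheaf (⟨x, hx⟩ : U)
  haveI : IsLocalization (hU.primeIdealOf ⟨x, hx⟩).asIdeal.primeCompl (S.presheaf.stalk x) :=
    hU.isLocalization_stalk ⟨x, hx⟩
  exact isCatenary_of_isLocalization Γ(S, U) (hU.primeIdealOf ⟨x, hx⟩).asIdeal.primeCompl
    (S.presheaf.stalk x) h

theorem main (S : Scheme.{u}) :
    (PtTop.IsCatenarySpace S ↔ ∀ U : S.affineOpens, CAlg.IsCatenary Γ(S, U)) ∧
    (PtTop.IsCatenarySpace S ↔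
      ∀ s : S, ∃ U : S.affineOpens, s ∈ (U : S.Opens) ∧ CAlg.IsCatenary Γ(S, U)) := by
  have key : (∀ s : S, ∃ U : S.affineOpens, s ∈ (U : S.Opens) ∧ CAlg.IsCatenary Γ(S, U)) →
      PtTop.IsCatenarySpace S := by
    intro h
    rw [isCatenarySpace_iff_stalk]
    intro x
    obtain ⟨U, hxU, hcat⟩ := h x
    exact isCatenary_stalk_of_isAffineOpen S U.1 U.2 hcat x hxU
  have h12 : PtTop.IsCatenarySpace S → ∀ U : S.affineOpens, CAlg.IsCatenary Γ(S, U) :=
    fun h U => isCatenary_of_isAffineOpen S h U.1 U.2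
  have h23 : (∀ U : S.affineOpens, CAlg.IsCatenary Γ(S, U)) →
      ∀ s : S, ∃ U : S.affineOpens, s ∈ (U : S.Opens) ∧ CAlg.IsCatenary Γ(S, U) := by
    intro h s
    obtain ⟨_, ⟨U, hU, rfl⟩, hsU, -⟩ :=
      S.isBasis_affineOpens.exists_subset_of_mem_open (Set.mem_univ s) isOpen_univ
    exact ⟨⟨U, hU⟩, hsU, h ⟨U, hU⟩⟩
  exact ⟨⟨h12, fun h => key (h23 h)⟩, ⟨fun h => h23 (h12 h), key⟩⟩

end Groth.Agent.CatSp4H8
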