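import Mathlib
import Groth.Agent.Lib.CatHt_helper8
import Groth.Agent.Lib.CatHt2_helper8
import Groth.Agent.Lib.DimFT3_helper8
import Groth.Agent.Lib.FibDim_helper8
import Groth.Agent.Lib.Catenary_helper4

/-! Catenary Noetherian local rings: `dim O/P = dim O/P' + 1` for `P ⋖ P'`. -/

universe u

open IsLocalRing

namespace Groth.Agent.JUC1H8

theorem coheight_eq_of_covBy {O : Type u} [CommRing O] [IsNoetherianRing O] [IsLocalRing O]
    (hcat : CAlg.IsCatenary O) (P P' : PrimeSpectrum O) (h : P ⋖ P') :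
    Order.coheight P = Order.coheight P' + 1 := by
  haveI := P.2
  haveI := P'.2
  have hle : P.asIdeal ≤ P'.asIdeal := h.lt.le
  haveI : Nontrivial (O ⧸ P.asIdeal) := Ideal.Quotient.nontrivial_iff.mpr P.2.ne_top
  haveI : IsLocalRing (O ⧸ P.asIdeal) :=
    IsLocalRing.of_surjective' (Ideal.Quotient.mk P.asIdeal) Ideal.Quotient.mk_surjective
  haveI : IsDomain (O ⧸ P.asIdeal) := Ideal.Quotient.isDomain _
  have hcatR : CAlg.IsCatenary (O ⧸ P.asIdeal) :=
    Groth.Agent.Lib.Catenary_helper4.isCatenary_quotient O P.asIdeal hcat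
  set 𝔭 : Ideal (O ⧸ P.asIdeal) := P'.asIdeal.map (Ideal.Quotient.mk P.asIdeal) with h𝔭
  have hker : RingHom.ker (Ideal.Quotient.mk P.asIdeal) ≤ P'.asIdeal := by rwa [Ideal.mk_ker]
  haveI h𝔭p : 𝔭.IsPrime :=
    Ideal.map_isPrime_of_surjective Ideal.Quotient.mk_surjective hker
  have hone : 𝔭.height = 1 := Groth.Agent.CatHt2H8.height_map_mk_eq_one_of_covBy P P' h
  have hle𝔭 : 𝔭 ≤ maximalIdeal (O ⧸ P.asIdeal) := le_maximalIdeal h𝔭p.ne_top
  have hadd := Groth.Agent.CatHtH8.height_add_height_map_mk_eq hcatR 𝔭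
    (maximalIdeal (O ⧸ P.asIdeal)) hle𝔭
  haveI : Nontrivial ((O ⧸ P.asIdeal) ⧸ 𝔭) := Ideal.Quotient.nontrivial_iff.mpr h𝔭p.ne_top
  haveI : IsLocalRing ((O ⧸ P.asIdeal) ⧸ 𝔭) :=
    IsLocalRing.of_surjective' (Ideal.Quotient.mk 𝔭) Ideal.Quotient.mk_surjective
  rw [IsLocalRing.map_maximalIdeal_of_surjective _ Ideal.Quotient.mk_surjective, hone] at hadd
  have h1 : ((maximalIdeal (O ⧸ P.asIdeal)).height : WithBot ℕ∞) =
      ((Order.coheight P : ℕ∞) : WithBot ℕ∞) := by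
    rw [IsLocalRing.maximalIdeal_height_eq_ringKrullDim,
      Groth.Agent.DimFT3H8.ringKrullDim_quotient_eq_coheight]
  have h2 : ((maximalIdeal ((O ⧸ P.asIdeal) ⧸ 𝔭)).height : WithBot ℕ∞) =
      ((Order.coheight P' : ℕ∞) : WithBot ℕ∞) := by
    rw [IsLocalRing.maximalIdeal_height_eq_ringKrullDim,
      ringKrullDim_eq_of_ringEquiv (DoubleQuot.quotQuotEquivQuotOfLE hle),
      Groth.Agent.DimFT3H8.ringKrullDim_quotient_eq_coheight]
  have h1' : (maximalIdeal (O ⧸ P.asIdeal)).height = Order.coheight P := by exact_mod_cast h1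
  have h2' : (maximalIdeal ((O ⧸ P.asIdeal) ⧸ 𝔭)).height = Order.coheight P' := by
    exact_mod_cast h2
  rw [h1', h2'] at hadd
  rw [← hadd, add_comm]

theorem coheight_lt_top {O : Type u} [CommRing O] [IsNoetherianRing O] [IsLocalRing O]
    (P : PrimeSpectrum O) : Order.coheight P < ⊤ := by
  haveI := P.2
  have h1 := Groth.Agent.DimFT3H8.ringKrullDim_quotient_eq_coheight P.asIdeal
  have h2 : ringKrullDim (O ⧸ P.asIdeal) ≤ ringKrullDim O :=
    ringKrullDim_le_of_surjective _ Ideal.Quotient.mk_surjective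
  have h3 : ringKrullDim O < ⊤ := ringKrullDim_lt_top
  have h4 : ((Order.coheight P : ℕ∞) : WithBot ℕ∞) < ⊤ := by
    have hP : (⟨P.asIdeal, P.2⟩ : PrimeSpectrum O) = P := rfl
    rw [hP] at h1
    rw [← h1]; exact lt_of_le_of_lt h2 h3
  rw [lt_top_iff_ne_top] at h4 ⊢
  intro h
  apply h4
  rw [h]
  rfl

end Groth.Agent.JUC1H8
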