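import Mathlib
import Groth.Agent.Lib.JUC1_helper8
import Groth.Agent.Lib.DimFun_helper8

/-! The functions `ρ t u = dim O_t / P_u` on generizations of `t` in a locally Noetherian scheme
with catenary local rings. -/

universe u

open AlgebraicGeometry CategoryTheory

namespace Groth.Agent.JUC2H8

open Groth.Agent.DimFunH8

theorem add_length_le' {α : Type*} [Preorder α] (f : α → ℤ) (l : LTSeries α)
    (hf : ∀ i : Fin l.length, f (l i.castSucc) < f (l i.succ)) :
    f l.head + l.length ≤ f l.last := by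
  have h : ∀ i : Fin (l.length + 1), f (l 0) + ((i : ℕ) : ℤ) ≤ f (l i) := by
    intro i
    induction i using Fin.induction with
    | zero => simp
    | succ i ih =>
      have := hf i
      have hc : ((i.succ : Fin (l.length + 1)) : ℕ) = (i : ℕ) + 1 := by simp
      rw [hc]
      have hcs : ((i.castSucc : Fin (l.length + 1)) : ℕ) = (i : ℕ) := by simp
      rw [hcs] at ih
      push_cast
      omega
  have := h (Fin.last _)
  simpa [RelSeries.head, RelSeries.last] using this

variable (S : Scheme.{u})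

/-- the prime of the stalk at `t` attached to a generization `u`. -/
noncomputable def pr (t u : S) (h : u ⤳ t) : PrimeSpectrum (S.presheaf.stalk t) :=
  Classical.choose (exists_φ_eq S t u h)

theorem φ_pr (t u : S) (h : u ⤳ t) : φ S t (pr S t u h) = u :=
  Classical.choose_spec (exists_φ_eq S t u h)

theorem pr_φ (t : S) (Q : PrimeSpectrum (S.presheaf.stalk t)) :
    pr S t (φ S t Q) (φ_specializes S t Q) = Q :=
  φ_injective S t (φ_pr S t _ _)

theorem pr_le_iff (t u u' : S) (h : u ⤳ t) (h' : u' ⤳ t) :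
    pr S t u' h' ≤ pr S t u h ↔ u' ⤳ u := by
  rw [← φ_specializes_iff S t, φ_pr, φ_pr]

open Classical in
/-- `ρ t u = dim O_t / P_u`. -/
noncomputable def ρ (t u : S) : ℕ :=
  if h : u ⤳ t then (Order.coheight (pr S t u h)).toNat else 0

theorem ρ_eq (t u : S) (h : u ⤳ t) : ρ S t u = (Order.coheight (pr S t u h)).toNat := by
  rw [ρ, dif_pos h]

variable [IsLocallyNoetherian S]

theorem coe_ρ (t u : S) (h : u ⤳ t) : ((ρ S t u : ℕ) : ℕ∞) = Order.coheight (pr S t u h) := by
  rw [ρ_eq S t u h]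
  exact ENat.natCast_toNat (Groth.Agent.JUC1H8.coheight_lt_top _).ne

theorem ρ_self (t : S) : ρ S t t = 0 := by
  rw [ρ_eq S t t specializes_rfl]
  have h1 : pr S t t specializes_rfl = IsLocalRing.closedPoint (S.presheaf.stalk t) := by
    apply φ_injective S t
    rw [φ_pr, φ_closedPoint]
  rw [h1]
  have : IsMax (IsLocalRing.closedPoint (S.presheaf.stalk t)) := by
    intro Q hQ
    exact (IsLocalRing.le_maximalIdeal Q.2.ne_top : Q.asIdeal ≤ _)
  rw [Order.coheight_eq_zero.mpr this]
  rfl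

theorem ρ_lt (t u u' : S) (h : u ⤳ t) (h' : u' ⤳ u) (hne : u' ≠ u) :
    ρ S t u < ρ S t u' := by
  have ht' : u' ⤳ t := h'.trans h
  have hlt : pr S t u' ht' < pr S t u h := by
    refine lt_of_le_of_ne ((pr_le_iff S t u u' h ht').mpr h') ?_
    intro heq
    apply hne
    rw [← φ_pr S t u' ht', heq, φ_pr]
  have h1 := Order.coheight_strictAnti hlt (Groth.Agent.JUC1H8.coheight_lt_top _)
  rw [← coe_ρ S t u h, ← coe_ρ S t u' ht'] at h1
  exact_mod_cast h1

theorem ρ_succ (t u u' : S) (hcat : CAlg.IsCatenary (S.presheaf.stalk t)) (h : u ⤳ t)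
    (h' : u' ⤳ u) (hne : u' ≠ u)
    (himm : ∀ z : S, u' ⤳ z → z ⤳ u → z = u' ∨ z = u) :
    ρ S t u' = ρ S t u + 1 := by
  have ht' : u' ⤳ t := h'.trans h
  have hlt : pr S t u' ht' < pr S t u h := by
    refine lt_of_le_of_ne ((pr_le_iff S t u u' h ht').mpr h') ?_
    intro heq
    apply hne
    rw [← φ_pr S t u' ht', heq, φ_pr]
  have hcov : pr S t u' ht' ⋖ pr S t u h := by
    refine ⟨hlt, ?_⟩
    intro Q hQ1 hQ2
    have hz1 : u' ⤳ φ S t Q := by
      rw [← φ_pr S t u' ht', φ_specializes_iff]; exact hQ1.le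
    have hz2 : φ S t Q ⤳ u := by
      rw [← φ_pr S t u h, φ_specializes_iff]; exact hQ2.le
    rcases himm _ hz1 hz2 with h3 | h3
    · apply hQ1.ne
      apply φ_injective S t
      rw [φ_pr, h3]
    · apply hQ2.ne
      apply φ_injective S t
      rw [φ_pr, h3]
  have h1 := Groth.Agent.JUC1H8.coheight_eq_of_covBy hcat _ _ hcov
  rw [← coe_ρ S t u h, ← coe_ρ S t u' ht'] at h1
  exact_mod_cast h1

end Groth.Agent.JUC2H8
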