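import Mathlib
import Groth.Agent.Lib.JUC2_helper8

/-! Comparison of the functions `ρ t` for different base points; translation of the dimension of
the space of generizations inside an irreducible closed subset. -/

universe u

open AlgebraicGeometry CategoryTheory

namespace Groth.Agent.JUC3H8

open Groth.Agent.DimFunH8 Groth.Agent.JUC2H8

variable (S : Scheme.{u}) [IsLocallyNoetherian S]

theorem ρ_diff_le (t t' s σ : S) (hcat : CAlg.IsCatenary (S.presheaf.stalk t))
    (hst : s ⤳ t) (hst' : s ⤳ t') (hσs : σ ⤳ s) :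
    (ρ S t σ : ℤ) - ρ S t s ≤ (ρ S t' σ : ℤ) - ρ S t' s := by
  classical
  have hσt : σ ⤳ t := hσs.trans hst
  let g : PrimeSpectrum (S.presheaf.stalk t) → ℤ := fun Q => -((Order.coheight Q).toNat : ℤ)
  have hcoe : ∀ Q : PrimeSpectrum (S.presheaf.stalk t),
      (((Order.coheight Q).toNat : ℕ) : ℕ∞) = Order.coheight Q :=
    fun Q => ENat.natCast_toNat (Groth.Agent.JUC1H8.coheight_lt_top Q).ne
  have hg : StrictMono g := by
    intro Q Q' hlt
    have h1 := Order.coheight_strictAnti hlt (Groth.Agent.JUC1H8.coheight_lt_top _)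
    rw [← hcoe Q, ← hcoe Q'] at h1
    have h2 : (Order.coheight Q').toNat < (Order.coheight Q).toNat := by exact_mod_cast h1
    change -((Order.coheight Q).toNat : ℤ) < -((Order.coheight Q').toNat : ℤ)
    omega
  have hcov : ∀ a b : PrimeSpectrum (S.presheaf.stalk t), a ⋖ b → g b = g a + 1 := by
    intro a b hab
    have h1 := Groth.Agent.JUC1H8.coheight_eq_of_covBy hcat a b hab
    rw [← hcoe a, ← hcoe b] at h1
    have h2 : (Order.coheight a).toNat = (Order.coheight b).toNat + 1 := by exact_mod_cast h1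
    change -((Order.coheight b).toNat : ℤ) = -((Order.coheight a).toNat : ℤ) + 1
    omega
  have hab : pr S t σ hσt ≤ pr S t s hst := (pr_le_iff S t s σ hst hσt).mpr hσs
  obtain ⟨l, hlh, hll, hlen⟩ := exists_chain g hg hcov _ (pr S t σ hσt) (pr S t s hst) hab rfl
  have hlen' : (l.length : ℤ) = (ρ S t σ : ℤ) - ρ S t s := by
    rw [hlen, ρ_eq S t σ hσt, ρ_eq S t s hst]
    change -((Order.coheight (pr S t s hst)).toNat : ℤ) -
      -((Order.coheight (pr S t σ hσt)).toNat : ℤ) = _
    ring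
  let F : PrimeSpectrum (S.presheaf.stalk t) → ℤ := fun Q => -(ρ S t' (φ S t Q) : ℤ)
  have hF : ∀ i : Fin l.length, F (l i.castSucc) < F (l i.succ) := by
    intro i
    have hlt : l i.castSucc < l i.succ := l.strictMono (Fin.castSucc_lt_succ)
    have hle : l i.succ ≤ pr S t s hst := by
      rw [← hll]
      exact l.monotone (Fin.le_last _)
    have h1 : φ S t (l i.castSucc) ⤳ φ S t (l i.succ) :=
      (φ_specializes_iff S t _ _).mpr hlt.le
    have h2 : φ S t (l i.castSucc) ≠ φ S t (l i.succ) := fun h => hlt.ne (φ_injective S t h)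
    have h3 : φ S t (l i.succ) ⤳ t' := by
      have : φ S t (l i.succ) ⤳ φ S t (pr S t s hst) := (φ_specializes_iff S t _ _).mpr hle
      rw [φ_pr] at this
      exact this.trans hst'
    have := ρ_lt S t' _ _ h3 h1 h2
    change -(ρ S t' (φ S t (l i.castSucc)) : ℤ) < -(ρ S t' (φ S t (l i.succ)) : ℤ)
    omega
  have h := add_length_le' F l hF
  rw [hlh, hll] at h
  change -(ρ S t' (φ S t (pr S t σ hσt)) : ℤ) + l.length ≤ -(ρ S t' (φ S t (pr S t s hst)) : ℤ) at h
  rw [φ_pr, φ_pr] at h
  omega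

theorem ρ_diff_eq (t t' s σ : S) (hcat : CAlg.IsCatenary (S.presheaf.stalk t))
    (hcat' : CAlg.IsCatenary (S.presheaf.stalk t'))
    (hst : s ⤳ t) (hst' : s ⤳ t') (hσs : σ ⤳ s) :
    (ρ S t σ : ℤ) - ρ S t s = (ρ S t' σ : ℤ) - ρ S t' s :=
  le_antisymm (ρ_diff_le S t t' s σ hcat hst hst' hσs) (ρ_diff_le S t' t s σ hcat' hst' hst hσs)

/-- additivity: `ρ t σ = ρ t s + ρ s σ`. -/
theorem ρ_add (t s σ : S) (hcat : CAlg.IsCatenary (S.presheaf.stalk t))
    (hcat' : CAlg.IsCatenary (S.presheaf.stalk s)) (hst : s ⤳ t) (hσs : σ ⤳ s) :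
    ρ S t σ = ρ S t s + ρ S s σ := by
  have h := ρ_diff_eq S t s s σ hcat hcat' hst specializes_rfl hσs
  rw [ρ_self] at h
  have : (ρ S t σ : ℤ) = ρ S t s + ρ S s σ := by
    push_cast at h
    omega
  exact_mod_cast this

/-- The dimension of the space of generizations of `t` inside `closure {σ}` is `ρ t σ`. -/
theorem topDim_gen_eq (t σ : S) (hσt : σ ⤳ t) :
    topologicalKrullDim ↥{u : S | u ∈ closure ({σ} : Set S) ∧ u ⤳ t} =
      ((ρ S t σ : ℕ) : WithBot ℕ∞) := by
  set P := pr S t σ hσt with hP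
  haveI := P.2
  let j : PrimeSpectrum (S.presheaf.stalk t ⧸ P.asIdeal) → S :=
    fun Q => (S.fromSpecStalk t) (PrimeSpectrum.comap (Ideal.Quotient.mk P.asIdeal) Q)
  have hj : Topology.IsEmbedding j :=
    (S.fromSpecStalk t).isEmbedding.comp
      (PrimeSpectrum.isClosedEmbedding_comap_of_surjective _ _
        Ideal.Quotient.mk_surjective).isEmbedding
  have hrange : {u : S | u ∈ closure ({σ} : Set S) ∧ u ⤳ t} = Set.range j := by
    ext u
    constructor
    · rintro ⟨hu1, hu2⟩
      have hσu : σ ⤳ u := specializes_iff_mem_closure.mpr hu1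
      have hle : P ≤ pr S t u hu2 := (pr_le_iff S t u σ hu2 hσt).mpr hσu
      have hmem : pr S t u hu2 ∈ Set.range
          (PrimeSpectrum.comap (Ideal.Quotient.mk P.asIdeal)) := by
        rw [range_comap_of_surjective _ _ Ideal.Quotient.mk_surjective,
          Ideal.mk_ker, PrimeSpectrum.mem_zeroLocus]
        exact hle
      obtain ⟨Q, hQ⟩ := hmem
      refine ⟨Q, ?_⟩
      change φ S t (PrimeSpectrum.comap (Ideal.Quotient.mk P.asIdeal) Q) = u
      rw [hQ, φ_pr]
    · rintro ⟨Q, rfl⟩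
      set Q' := PrimeSpectrum.comap (Ideal.Quotient.mk P.asIdeal) Q with hQ'
      have hle : P ≤ Q' := by
        have hmem : Q' ∈ Set.range (PrimeSpectrum.comap (Ideal.Quotient.mk P.asIdeal)) := ⟨Q, rfl⟩
        rw [range_comap_of_surjective _ _ Ideal.Quotient.mk_surjective,
          Ideal.mk_ker, PrimeSpectrum.mem_zeroLocus] at hmem
        exact hmem
      constructor
      · have : φ S t P ⤳ φ S t Q' := (φ_specializes_iff S t _ _).mpr hle
        rw [hP, φ_pr] at this
        exact this.mem_closure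
      · exact φ_specializes S t Q'
  rw [hrange]
  rw [← (hj.toHomeomorph).isHomeomorph.topologicalKrullDim_eq,
    PrimeSpectrum.topologicalKrullDim_eq_ringKrullDim,
    Groth.Agent.DimFT3H8.ringKrullDim_quotient_eq_coheight]
  have : (⟨P.asIdeal, P.2⟩ : PrimeSpectrum (S.presheaf.stalk t)) = P := rfl
  rw [this, ← coe_ρ S t σ hσt]
  rfl

end Groth.Agent.JUC3H8
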