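import Mathlib
import Groth.Prelude.Def_W4stktopologysheavesDim
import Groth.Agent.Lib.JUC3_helper8
import Groth.Agent.Lib.LocDim2_helper8

/-! Local existence of dimension functions on a catenary locally Noetherian scheme. -/

universe u

open TopologicalSpace Topology AlgebraicGeometry

namespace Groth.Agent.CatSp5H8

open Groth.Agent.DimFunH8 Groth.Agent.JUC2H8 Groth.Agent.JUC3H8

theorem exists_dimFun (S : Scheme.{u}) [IsLocallyNoetherian S]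
    (hcat : ∀ s : S, CAlg.IsCatenary (S.presheaf.stalk s)) (x : S) :
    ∃ U : S.Opens, x ∈ U ∧ ∃ δ : U → ℤ, PtTop.IsDimensionFunction δ := by
  classical
  let M : Set S := (φ S x) ''
    {P : PrimeSpectrum (S.presheaf.stalk x) | P.asIdeal ∈ minimalPrimes (S.presheaf.stalk x)}
  have hMfin : M.Finite := by
    apply Set.Finite.image
    have h1 : (minimalPrimes (S.presheaf.stalk x)).Finite :=
      minimalPrimes.finite_of_isNoetherianRing (S.presheaf.stalk x)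
    exact h1.preimage (fun P _ Q _ h => PrimeSpectrum.ext h)
  have hMx : ∀ η ∈ M, η ⤳ x := by
    rintro _ ⟨P, -, rfl⟩
    exact φ_specializes S x P
  have hMc : ∀ y : S, y ⤳ x → ∃ η ∈ M, η ⤳ y := by
    intro y hy
    obtain ⟨Q, rfl⟩ := exists_φ_eq S x y hy
    obtain ⟨p, hp, hpQ⟩ := Ideal.exists_minimalPrimes_le
      (bot_le : (⊥ : Ideal (S.presheaf.stalk x)) ≤ Q.asIdeal)
    haveI : p.IsPrime := hp.1.1
    refine ⟨φ S x ⟨p, inferInstance⟩, ⟨⟨p, inferInstance⟩, hp, rfl⟩, ?_⟩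
    exact (φ_specializes_iff S x _ _).mpr hpQ
  obtain ⟨U₀, hU₀, hxU₀, hprop₀⟩ :=
    Groth.Agent.LocDim2H8.exists_good_nbhd S Set.univ isClosed_univ x
  have hpair : ∀ p : S × S, ∃ V : Set S, IsOpen V ∧ x ∈ V ∧
      ∀ a ∈ V ∩ (closure {p.1} ∩ closure {p.2}),
        ∃ ζ ∈ closure ({p.1} : Set S) ∩ closure {p.2}, ζ ⤳ x ∧ ζ ⤳ a := fun p =>
    Groth.Agent.LocDim2H8.exists_good_nbhd S _ (isClosed_closure.inter isClosed_closure) x
  choose V hVo hxV hVprop using hpair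
  let U : Set S := U₀ ∩ ⋂ p ∈ M ×ˢ M, V p
  have hUo : IsOpen U := hU₀.inter ((hMfin.prod hMfin).isOpen_biInter (fun p _ => hVo p))
  have hxU : x ∈ U := ⟨hxU₀, Set.mem_iInter₂.mpr (fun p _ => hxV p)⟩
  have hη : ∀ y ∈ U, ∃ η ∈ M, η ⤳ y := by
    intro y hy
    obtain ⟨η₀, -, hη₀x, hη₀y⟩ := hprop₀ y ⟨hy.1, trivial⟩
    obtain ⟨η, hηM, hηη₀⟩ := hMc η₀ hη₀x
    exact ⟨η, hηM, hηη₀.trans hη₀y⟩
  let d : S → S → ℤ := fun η y => (ρ S x η : ℤ) - ρ S y η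
  have hwd : ∀ y ∈ U, ∀ η ∈ M, ∀ η' ∈ M, η ⤳ y → η' ⤳ y → d η y = d η' y := by
    intro y hy η hη1 η' hη' h1 h2
    have hyV : y ∈ V (η, η') := Set.mem_iInter₂.mp hy.2 (η, η') ⟨hη1, hη'⟩
    obtain ⟨ζ, ⟨hζ1, hζ2⟩, hζx, hζy⟩ :=
      hVprop (η, η') y ⟨hyV, h1.mem_closure, h2.mem_closure⟩
    have e1 : η ⤳ ζ := specializes_iff_mem_closure.mpr hζ1
    have e2 : η' ⤳ ζ := specializes_iff_mem_closure.mpr hζ2
    have a1 := ρ_add S x ζ η (hcat x) (hcat ζ) hζx e1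
    have a2 := ρ_add S y ζ η (hcat y) (hcat ζ) hζy e1
    have a3 := ρ_add S x ζ η' (hcat x) (hcat ζ) hζx e2
    have a4 := ρ_add S y ζ η' (hcat y) (hcat ζ) hζy e2
    change (ρ S x η : ℤ) - ρ S y η = (ρ S x η' : ℤ) - ρ S y η'
    rw [a1, a2, a3, a4]
    push_cast
    ring
  let δ : (⟨U, hUo⟩ : S.Opens) → ℤ := fun y => d (Classical.choose (hη y.1 y.2)) y.1
  have hδ : ∀ (a : (⟨U, hUo⟩ : S.Opens)) (η : S), η ∈ M → η ⤳ a.1 → δ a = d η a.1 := by
    intro a η hηM hηa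
    obtain ⟨h1, h2⟩ := Classical.choose_spec (hη a.1 a.2)
    exact hwd a.1 a.2 _ h1 η hηM h2 hηa
  refine ⟨⟨U, hUo⟩, hxU, δ, ?_, ?_⟩
  · intro a b hab hne
    have hab' : a.1 ⤳ b.1 := (subtype_specializes_iff a b).mp hab
    have hne' : a.1 ≠ b.1 := fun h => hne (Subtype.ext h)
    obtain ⟨η, hηM, hηa⟩ := hη a.1 a.2
    rw [hδ a η hηM hηa, hδ b η hηM (hηa.trans hab')]
    have add := ρ_add S b.1 a.1 η (hcat b.1) (hcat a.1) hab' hηa
    have lt := ρ_lt S b.1 b.1 a.1 specializes_rfl hab' hne'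
    rw [ρ_self] at lt
    change (ρ S x η : ℤ) - ρ S b.1 η < (ρ S x η : ℤ) - ρ S a.1 η
    rw [add]
    push_cast
    omega
  · rintro a b ⟨hab, hne, himm⟩
    have hab' : a.1 ⤳ b.1 := (subtype_specializes_iff a b).mp hab
    have hne' : a.1 ≠ b.1 := fun h => hne (Subtype.ext h)
    obtain ⟨η, hηM, hηa⟩ := hη a.1 a.2
    rw [hδ a η hηM hηa, hδ b η hηM (hηa.trans hab')]
    have add := ρ_add S b.1 a.1 η (hcat b.1) (hcat a.1) hab' hηa
    have himm' : ∀ z : S, a.1 ⤳ z → z ⤳ b.1 → z = a.1 ∨ z = b.1 := by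
      intro z hz1 hz2
      have hzU : z ∈ U := hz2.mem_open hUo b.2
      rcases himm ⟨z, hzU⟩ ((subtype_specializes_iff _ _).mpr hz1)
        ((subtype_specializes_iff _ _).mpr hz2) with h | h
      · exact Or.inl (congrArg Subtype.val h)
      · exact Or.inr (congrArg Subtype.val h)
    have succ := ρ_succ S b.1 b.1 a.1 (hcat b.1) specializes_rfl hab' hne' himm'
    rw [ρ_self] at succ
    change (ρ S x η : ℤ) - ρ S a.1 η = (ρ S x η : ℤ) - ρ S b.1 η + 1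
    rw [add, succ]
    push_cast
    ring

end Groth.Agent.CatSp5H8
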