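import Groth.Agent.S9684
import Groth.Agent.S12459
import Groth.Agent.S12447
import Groth.Prelude
import Groth.Agent.Lib.AlgSpGeneriz_helper6
import Groth.Agent.Lib.AlgSpFibre_helper6
import Groth.Agent.Lib.AlgSpT0_helper6
import Groth.Agent.Lib.AlgSpPoints_helper7
import Groth.Agent.Lib.AlgSpQfFin_helper7
import Groth.Agent.Lib.ResTrdeg3_helper8
import Groth.Agent.Lib.ResQuot2_helper8

/-!
# S10447: the space of points of a decent space locally of finite type over a universally
catenary locally Noetherian base is catenary (helper7)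
-/

set_option autoImplicit false
set_option linter.style.haveILetI false
universe u
open CategoryTheory CategoryTheory.Limits AlgebraicGeometry Opposite MorphismProperty
open AlgSp Groth.Agent.Lib.AlgSpPoints_helper7

namespace Groth.Agent.Lib.CatenarySpH7

section Top

/-- Irreducible closed subsets meeting the image of an open continuous map from a Noetherian
quasi-sober space have generic points. -/
theorem exists_genericPoint_of_openMap {U X : Type*} [TopologicalSpace U] [TopologicalSpace X]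
    [TopologicalSpace.NoetherianSpace U] [QuasiSober U] (f : U → X) (hc : Continuous f)
    (ho : IsOpenMap f) {T : Set X} (hT : IsIrreducible T) (hTc : IsClosed T)
    (hne : (T ∩ Set.range f).Nonempty) : ∃ x, IsGenericPoint x T := by
  classical
  obtain ⟨𝒮, hfin, hcl, hirr, hZ⟩ :=
    TopologicalSpace.NoetherianSpace.exists_finite_set_isClosed_irreducible (hTc.preimage hc)
  have h2 : IsClosed (⋃₀ ((fun k : Set U => closure (f '' k)) '' 𝒮)) := by
    rw [Set.sUnion_image]
    exact hfin.isClosed_biUnion fun _ _ => isClosed_closure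
  have hsub : T ⊆ ⋃₀ ((fun k : Set U => closure (f '' k)) '' 𝒮) := by
    have h1 : T ⊆ closure (T ∩ Set.range f) :=
      subset_closure_inter_of_isPreirreducible_of_isOpen hT.isPreirreducible ho.isOpen_range hne
    refine h1.trans (closure_minimal ?_ h2)
    rintro _ ⟨hxT, u, rfl⟩
    have hu : u ∈ f ⁻¹' T := hxT
    rw [hZ] at hu
    obtain ⟨k, hk, huk⟩ := hu
    exact ⟨_, ⟨k, hk, rfl⟩, subset_closure ⟨u, huk, rfl⟩⟩
  obtain ⟨z, hz, hTz⟩ := (isIrreducible_iff_sUnion_isClosed.1 hT)
    (hfin.image (fun k : Set U => closure (f '' k))).toFinset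
    (by
      intro z hz
      rw [Set.Finite.mem_toFinset] at hz
      obtain ⟨k, -, rfl⟩ := hz
      exact isClosed_closure)
    (by rwa [Set.Finite.coe_toFinset])
  rw [Set.Finite.mem_toFinset] at hz
  obtain ⟨k, hk, rfl⟩ := hz
  obtain ⟨u, hu⟩ := QuasiSober.sober (hirr k hk) (hcl k hk)
  refine ⟨f u, ?_⟩
  have hkT : closure (f '' k) ⊆ T := by
    refine closure_minimal ?_ hTc
    rintro _ ⟨v, hv, rfl⟩
    have hv' : v ∈ ⋃₀ 𝒮 := ⟨k, hk, hv⟩
    rw [← hZ] at hv'
    exact hv'
  have e : closure (f '' k) = closure {f u} := by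
    have e0 : k = closure {u} := hu.def.symm
    rw [e0, closure_image_closure hc, Set.image_singleton]
  rw [isGenericPoint_def, ← e]
  exact Set.Subset.antisymm hkT hTz

/-- A `T0`, quasi-sober space carrying dimension functions locally is catenary. -/
theorem catenary_of_local_dimFun {X : Type u} [TopologicalSpace X] [T0Space X] [QuasiSober X]
    (H : ∀ t : X, ∃ (W : Set X) (δ : X → ℤ), t ∈ W ∧ IsOpen W ∧
      ∀ x y : X, y ∈ W → x ⤳ y → x ≠ y →
        δ y < δ x ∧ ((∀ z : X, x ⤳ z → z ⤳ y → z = x ∨ z = y) → δ x = δ y + 1)) :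
    W4stk3decentspacesp2.IsCatenarySpace X := by
  classical
  intro T T' hTT'
  let gp : TopologicalSpace.IrreducibleCloseds X → X := fun C => C.isIrreducible.genericPoint
  have hgp : ∀ C : TopologicalSpace.IrreducibleCloseds X, IsGenericPoint (gp C) (C : Set X) :=
    fun C => C.isIrreducible.isGenericPoint_genericPoint C.isClosed
  obtain ⟨W, δ, htW, hWo, hδ⟩ := H (gp T)
  have hle : ∀ C C' : TopologicalSpace.IrreducibleCloseds X, C ≤ C' → gp C' ⤳ gp C := by
    intro C C' h
    rw [(hgp C').specializes_iff_mem]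
    exact (SetLike.coe_subset_coe.2 h) (hgp C).mem
  have hne : ∀ C C' : TopologicalSpace.IrreducibleCloseds X, C < C' → gp C' ≠ gp C := by
    intro C C' h e
    apply h.ne
    apply SetLike.coe_injective
    rw [← (hgp C).def, ← (hgp C').def, e]
  have hmem : ∀ C : TopologicalSpace.IrreducibleCloseds X, T ≤ C → gp C ∈ W := fun C h =>
    (hle T C h).mem_open hWo htW
  have hlt : ∀ C C' : TopologicalSpace.IrreducibleCloseds X, T ≤ C → C < C' →
      δ (gp C) < δ (gp C') :=
    fun C C' hTC h => (hδ (gp C') (gp C) (hmem C hTC) (hle C C' h.le) (hne C C' h)).1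
  have hcov : ∀ C C' : TopologicalSpace.IrreducibleCloseds X, T ≤ C → C ⋖ C' →
      δ (gp C') = δ (gp C) + 1 := by
    intro C C' hTC h
    refine (hδ (gp C') (gp C) (hmem C hTC) (hle C C' h.lt.le) (hne C C' h.lt)).2 ?_
    intro z hz1 hz2
    let Cz : TopologicalSpace.IrreducibleCloseds X :=
      ⟨closure {z}, isIrreducible_singleton.closure, isClosed_closure⟩
    have hCz : IsGenericPoint z (Cz : Set X) := isGenericPoint_closure
    have h1 : C ≤ Cz := SetLike.coe_subset_coe.1 (by
      rw [← (hgp C).def]; exact hz2.closure_subset)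
    have h2 : Cz ≤ C' := SetLike.coe_subset_coe.1 (by
      rw [← (hgp C').def]; exact hz1.closure_subset)
    rcases h1.eq_or_lt with e | l1
    · right
      have hz : IsGenericPoint z (C : Set X) := by rw [e]; exact hCz
      exact hz.eq (hgp C)
    · rcases h2.eq_or_lt with e | l2
      · left
        have hz : IsGenericPoint z (C' : Set X) := by rw [← e]; exact hCz
        exact hz.eq (hgp C')
      · exact absurd l2 (h.2 l1)
  have key : ∀ (p : LTSeries (TopologicalSpace.IrreducibleCloseds X)), p.head = T →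
      ∀ k (hk : k < p.length + 1), δ (gp T) + k ≤ δ (gp (p ⟨k, hk⟩)) := by
    intro p hp k
    induction k with
    | zero =>
      intro hk
      have e : p ⟨0, hk⟩ = T := hp
      rw [e]
      simp
    | succ k ih =>
      intro hk
      have hk' : k < p.length + 1 := by omega
      have hstep : p ⟨k, hk'⟩ < p ⟨k + 1, hk⟩ :=
        p.strictMono (Fin.mk_lt_mk.2 (Nat.lt_succ_self k))
      have hT : T ≤ p ⟨k, hk'⟩ := by rw [← hp]; exact p.head_le _
      have h3 := hlt _ _ hT hstep
      have ih' := ih hk'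
      push_cast
      omega
  have keyEq : ∀ (p : LTSeries (TopologicalSpace.IrreducibleCloseds X)), p.head = T →
      (∀ i : Fin p.length, p.toFun i.castSucc ⋖ p.toFun i.succ) →
      ∀ k (hk : k < p.length + 1), δ (gp (p ⟨k, hk⟩)) = δ (gp T) + k := by
    intro p hp hsat k
    induction k with
    | zero =>
      intro hk
      have e : p ⟨0, hk⟩ = T := hp
      rw [e]
      simp
    | succ k ih =>
      intro hk
      have hk' : k < p.length + 1 := by omega
      have hk'' : k < p.length := by omega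
      have hstep : p ⟨k, hk'⟩ ⋖ p ⟨k + 1, hk⟩ := hsat ⟨k, hk''⟩
      have hT : T ≤ p ⟨k, hk'⟩ := by rw [← hp]; exact p.head_le _
      have h3 := hcov _ _ hT hstep
      have ih' := ih hk'
      push_cast
      omega
  have hlast : ∀ (p : LTSeries (TopologicalSpace.IrreducibleCloseds X)), p.last = T' →
      p ⟨p.length, Nat.lt_succ_self _⟩ = T' := fun p hp => hp
  refine ⟨⟨(δ (gp T') - δ (gp T)).toNat, fun p hh hl => ?_⟩, fun p q hph hpl hqh hql hps hqs => ?_⟩
  · have h1 := key p hh p.length (Nat.lt_succ_self _)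
    rw [hlast p hl] at h1
    omega
  · have h1 := keyEq p hph hps p.length (Nat.lt_succ_self _)
    have h2 := keyEq q hqh hqs q.length (Nat.lt_succ_self _)
    rw [hlast p hpl] at h1
    rw [hlast q hql] at h2
    omega

end Top

variable {S : Scheme.{u}}

/-- Charts of a space locally of finite type over `S` are locally of finite type over `S`. -/
theorem lft_chart {F : Sp S} (p : F ⟶ (yon S).obj (Over.mk (𝟙 S)))
    (hp : LocP @LocallyOfFiniteType p) {U : Over S} (a : (yon S).obj U ⟶ F)
    (hae : RepWith @Etale a) : LocallyOfFiniteType U.hom := by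
  have t : IsTerminal ((yon S).obj (Over.mk (𝟙 S))) :=
    IsTerminal.isTerminalObj (yon S) _ Over.mkIdTerminal
  have h := hp a (𝟙 _) (Over.homMk U.hom : U ⟶ Over.mk (𝟙 S)) hae (repWith_id _ _)
    (t.hom_ext _ _)
  exact h

/-- Two chart points with the same image in `|F|` have the same image in `S`. -/
theorem hom_eq_of_ofPt_eq {F : Sp S} {U U' : Over S} (a : (yon S).obj U ⟶ F)
    (a' : (yon S).obj U' ⟶ F) (hae : RepWith @Etale a) (u : ↥U.left) (u' : ↥U'.left)
    (hpt : Points.ofPt a u = Points.ofPt a' u') : U.hom u = U'.hom u' := by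
  have sqW := hae.rep.isPullback' a'
  obtain ⟨w, hw1, hw2⟩ := exists_ofPt_eq_of_isPullback sqW u u' hpt
  rw [← hw1, ← hw2]
  have e1 := Over.w (hae.rep.fst' a')
  have e2 := Over.w (hae.rep.snd a')
  calc U.hom ((hae.rep.fst' a').left w) = ((hae.rep.fst' a').left ≫ U.hom) w := rfl
    _ = ((hae.rep.snd a').left ≫ U'.hom) w := by rw [e1, e2]
    _ = _ := rfl

/-- `|X|` is quasi-sober for `X` locally of finite type over a locally Noetherian base. -/
theorem quasiSober_points [IsLocallyNoetherian S] (X : AlgSp.Space S)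
    (p : X.obj ⟶ (yon S).obj (Over.mk (𝟙 S))) (hp : LocP @LocallyOfFiniteType p) :
    QuasiSober (Points X.obj) := by
  refine ⟨fun {T} hT hTc => ?_⟩
  obtain ⟨x, hx⟩ := hT.nonempty
  obtain ⟨U, a, u, hUaff, hae, hu⟩ :=
    Groth.Agent.Lib.AlgSpQfFinH7.exists_affine_chart X.property x
  haveI := hUaff
  haveI : LocallyOfFiniteType U.hom := lft_chart p hp a hae
  haveI : IsLocallyNoetherian U.left := LocallyOfFiniteType.isLocallyNoetherian U.hom
  haveI : IsNoetherian U.left := { }
  exact exists_genericPoint_of_openMap (Points.ofPt a) (Points.continuous_ofPt a)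
    (isOpenMap_ofPt_of_etale a hae) hT hTc ⟨x, hx, u, hu⟩

/-- Transfer of a dimension function from an étale chart of a decent space to its image. -/
theorem isDimFun_on_chart {X : Sp S} (hX : IsDecent X) {U : Over S}
    (a : (yon S).obj U ⟶ X) (ha : RepWith @Etale a)
    (δX : Points X → ℤ) (hU : Cyc.IsDimFun U.left (δX ∘ Points.ofPt a)) :
    ∀ x y : Points X, y ∈ Set.range (Points.ofPt a) → x ⤳ y → x ≠ y →
      δX y < δX x ∧ ((∀ z : Points X, x ⤳ z → z ⤳ y → z = x ∨ z = y) → δX x = δX y + 1) := by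
  intro x y hy hxy hne
  obtain ⟨v, hv⟩ := hy
  obtain ⟨rx, hrx, hm, hqc⟩ := hX x
  obtain ⟨u, huv, hu⟩ := Groth.Agent.Lib.AlgSpGeneriz_helper6.exists_specializes_lift y x hxy rx
    hrx hqc a ha v hv
  have huv_ne : u ≠ v := by
    rintro rfl
    exact hne (hu.symm.trans hv)
  obtain ⟨h1, h2⟩ := hU u v huv huv_ne
  have e1 : (δX ∘ Points.ofPt a) u = δX x := by rw [Function.comp_apply, hu]
  have e2 : (δX ∘ Points.ofPt a) v = δX y := by rw [Function.comp_apply, hv]
  rw [e1, e2] at h1 h2
  refine ⟨h1, fun himm => h2 ?_⟩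
  intro t hut htv
  have s1 : x ⤳ Points.ofPt a t := by
    have := hut.map (Points.continuous_ofPt a)
    rwa [hu] at this
  have s2 : Points.ofPt a t ⤳ y := by
    have := htv.map (Points.continuous_ofPt a)
    rwa [hv] at this
  rcases himm (Points.ofPt a t) s1 s2 with h | h
  · left
    exact Groth.Agent.Lib.AlgSpFibre_helper6.eq_of_specializes_of_isDecent hX a ha t u
      (h.trans hu.symm) hut
  · right
    exact (Groth.Agent.Lib.AlgSpFibre_helper6.eq_of_specializes_of_isDecent hX a ha v t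
      (hv.trans h.symm) htv).symm

/-- Around every point of `|X|` there is an étale chart whose image carries a function pulling back
to a dimension function on the chart. -/
theorem exists_local_dimFun [IsLocallyNoetherian S]
    (hS : ∀ s : ↥S, CAlg.IsUniversallyCatenary ↥(S.presheaf.stalk s)) (X : AlgSp.Space S)
    (p : X.obj ⟶ (yon S).obj (Over.mk (𝟙 S))) (hp : LocP @LocallyOfFiniteType p)
    (t : Points X.obj) :
    ∃ (U₁ : Over S) (a₁ : (yon S).obj U₁ ⟶ X.obj) (δX : Points X.obj → ℤ), RepWith @Etale a₁ ∧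
      t ∈ Set.range (Points.ofPt a₁) ∧ Cyc.IsDimFun U₁.left (δX ∘ Points.ofPt a₁) := by
  classical
  obtain ⟨U, a, u, hae, hu⟩ := ResTrdegH8.exists_chart X t
  haveI : LocallyOfFiniteType U.hom := lft_chart p hp a hae
  have hcat : PtTop.IsCatenarySpace S :=
    (Groth.Agent.S12459.result S).2 hS S (𝟙 S) inferInstance
  obtain ⟨S', hsS', δ, hδ⟩ := (Groth.Agent.S12447.result S).1 hcat (U.hom u)
  have hS' : ∀ s : ↥S'.toScheme, CAlg.IsUniversallyCatenary ↥(S'.toScheme.presheaf.stalk s) :=
    (Groth.Agent.S12459.result S'.toScheme).1 (fun Y f hf =>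
      (Groth.Agent.S12459.result S).2 hS Y (f ≫ S'.ι) (by haveI := hf; infer_instance))
  have hδ' : Cyc.IsDimFun S'.toScheme δ := fun x y hxy hne =>
    ⟨hδ.1 x y hxy hne, fun him => hδ.2 x y ⟨hxy, hne, him⟩⟩
  have hsetup : Cyc.IsSetup S'.toScheme δ := ⟨inferInstance, hS', hδ'⟩
  let U' : U.left.Opens := U.hom ⁻¹ᵁ S'
  let f' : U'.toScheme ⟶ S'.toScheme := U.hom ∣_ S'
  haveI : LocallyOfFiniteType f' :=
    IsZariskiLocalAtTarget.restrict (P := @LocallyOfFiniteType)
      (inferInstance : LocallyOfFiniteType U.hom) S'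
  have hf' : f' ≫ S'.ι = U'.ι ≫ U.hom := morphismRestrict_ι U.hom S'
  let U₁ : Over S := Over.mk (U'.ι ≫ U.hom)
  let j : U₁ ⟶ U := Over.homMk U'.ι rfl
  let a₁ : (yon S).obj U₁ ⟶ X.obj := (yon S).map j ≫ a
  have ha₁ : RepWith @Etale a₁ :=
    (RepWith (S := S) @Etale).comp_mem _ _
      ((repWith_yon_map_iff _ _).2 (inferInstance : Etale U'.ι)) hae
  have hN : ∀ x : ↥U'.toScheme, ∃ n : ℕ, Dual3.resTrdeg f' x = n := fun x =>
    Groth.Agent.ResQuot2H8.exists_trdeg_nat f' x
  choose N hN using hN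
  let gU : ↥U'.toScheme → ℤ := fun x => δ (f' x) + N x
  have hcompat : Cyc.DeltaCompat f' gU δ := fun x => ⟨N x, hN x, rfl⟩
  have hdim : Cyc.IsDimFun U'.toScheme gU := Groth.Agent.S9684.result f' δ hsetup gU hcompat
  have tS : IsTerminal ((yon S).obj (Over.mk (𝟙 S))) :=
    IsTerminal.isTerminalObj (yon S) _ Over.mkIdTerminal
  have hfac : Function.FactorsThrough gU (Points.ofPt a₁) := by
    intro x x' hxx'
    have e1 : U₁.hom x = U₁.hom x' := hom_eq_of_ofPt_eq a₁ a₁ ha₁ x x' hxx'
    have e2' : (f' ≫ S'.ι) x = (f' ≫ S'.ι) x' := by rw [hf']; exact e1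
    have e2 : f' x = f' x' := S'.ι.isOpenEmbedding.injective e2'
    have e3 : Dual3.resTrdeg f' x = Dual3.resTrdeg f' x' := by
      have h := ResTrdegH8.chart_indep p a₁ (𝟙 _) (Over.homMk U₁.hom : U₁ ⟶ Over.mk (𝟙 S)) x
        a₁ (𝟙 _) (Over.homMk U₁.hom : U₁ ⟶ Over.mk (𝟙 S)) x' ha₁ (repWith_id _ _) ha₁
        (repWith_id _ _) (tS.hom_ext _ _) (tS.hom_ext _ _) hxx'
      have h' : Dual3.resTrdeg (U'.ι ≫ U.hom) x = Dual3.resTrdeg (U'.ι ≫ U.hom) x' := h
      rw [← hf', ResTrdegH8.resTrdeg_comp_etale, ResTrdegH8.resTrdeg_comp_etale] at h'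
      exact h'
    have e4 : N x = N x' := by
      have : ((N x : ℕ) : Cardinal.{u}) = ((N x' : ℕ) : Cardinal.{u}) := by
        rw [← hN x, ← hN x', e3]
      exact_mod_cast this
    show δ (f' x) + (N x : ℤ) = δ (f' x') + (N x' : ℤ)
    rw [e2, e4]
  have hext : (Function.extend (Points.ofPt a₁) gU 0) ∘ Points.ofPt a₁ = gU :=
    funext fun x => hfac.extend_apply 0 x
  have hu₁ : Points.ofPt a₁ (⟨u, hsS'⟩ : ↥U') = t := by
    rw [ofPt_comp]
    exact hu
  refine ⟨U₁, a₁, Function.extend (Points.ofPt a₁) gU 0, ha₁, ⟨_, hu₁⟩, ?_⟩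
  rw [hext]
  exact hdim

theorem main10447 [IsLocallyNoetherian S]
    (hS : ∀ s : ↥S, CAlg.IsUniversallyCatenary ↥(S.presheaf.stalk s)) (X : AlgSp.Space S)
    (hX : AlgSp.IsDecent X.obj) (p : X.obj ⟶ (AlgSp.yon S).obj (Over.mk (𝟙 S)))
    (hp : AlgSp.LocP @LocallyOfFiniteType p) :
    W4stk3decentspacesp2.IsCatenarySpace (AlgSp.Points X.obj) := by
  haveI : T0Space (Points X.obj) :=
    Groth.Agent.Lib.AlgSpT0_helper6.t0Space_points_of_isDecent X.property hX
  haveI : QuasiSober (Points X.obj) := quasiSober_points X p hp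
  apply catenary_of_local_dimFun
  intro t
  obtain ⟨U₁, a₁, δX, ha₁, ht, hdim⟩ := exists_local_dimFun hS X p hp t
  exact ⟨Set.range (Points.ofPt a₁), δX, ht, (isOpenMap_ofPt_of_etale a₁ ha₁).isOpen_range,
    isDimFun_on_chart hX a₁ ha₁ δX hdim⟩

end Groth.Agent.Lib.CatenarySpH7
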