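import Mathlib
import Groth.Prelude.Def_CohTop
import Groth.Agent.Lib.CechKos1_helper9
import Groth.Agent.Lib.CechMono_helper9

/-!
# Vanishing of the full ordered Čech complex above the cardinality of the cover (lead)

For a family of `n` opens, the cohomology of the full complex of ordered cochains of any presheaf
vanishes in degrees `≥ n`.  Proof by induction on the number of indices `i` such that the presheaf
is allowed to be nonzero on opens inside `U i`: for a chosen index `i₀`, the presheaf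
`P' = P(- ∩ U i₀)` is contractible, and the kernel and cokernel of `P → P'` vanish on opens inside
`U i₀`.
-/

set_option autoImplicit false
universe u
open CategoryTheory CategoryTheory.Limits TopologicalSpace Opposite

namespace Groth.Agent.Lib.CechCardL

open Groth.Agent.Lib.Cech CechKos

variable {X : TopCat.{u}}

section KerCok

variable {P P' : (Opens X)ᵒᵖ ⥤ AddCommGrpCat.{u}} (φ : P ⟶ P')

lemma nat_apply {V V' : (Opens X)ᵒᵖ} (f : V ⟶ V') (x : P.obj V) :
    (φ.app V').hom ((P.map f).hom x) = (P'.map f).hom ((φ.app V).hom x) :=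
  congrArg (fun g => g.hom x) (φ.naturality f)

/-- the kernel presheaf, concretely -/
def kerF : (Opens X)ᵒᵖ ⥤ AddCommGrpCat.{u} where
  obj V := AddCommGrpCat.of (φ.app V).hom.ker
  map {V V'} f := AddCommGrpCat.ofHom
    (((P.map f).hom.comp (φ.app V).hom.ker.subtype).codRestrict (φ.app V').hom.ker (fun x => by
      rw [AddMonoidHom.mem_ker]
      show (φ.app V').hom ((P.map f).hom x.1) = 0
      rw [nat_apply, AddMonoidHom.mem_ker.mp x.2, map_zero]))
  map_id V := by
    apply AddCommGrpCat.hom_ext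
    apply AddMonoidHom.ext
    intro (x : (φ.app V).hom.ker)
    apply Subtype.ext
    show (P.map (𝟙 V)).hom x.1 = x.1
    rw [P.map_id]
    rfl
  map_comp {V V' V''} f g := by
    apply AddCommGrpCat.hom_ext
    apply AddMonoidHom.ext
    intro (x : (φ.app V).hom.ker)
    apply Subtype.ext
    show (P.map (f ≫ g)).hom x.1 = (P.map g).hom ((P.map f).hom x.1)
    rw [P.map_comp]
    rfl

lemma range_le_comap {V V' : (Opens X)ᵒᵖ} (f : V ⟶ V') :
    (φ.app V).hom.range ≤ (φ.app V').hom.range.comap (P'.map f).hom := by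
  rintro _ ⟨x, rfl⟩
  exact AddSubgroup.mem_comap.mpr (AddMonoidHom.mem_range.mpr ⟨(P.map f).hom x, nat_apply φ f x⟩)

/-- the cokernel presheaf, concretely -/
def cokF : (Opens X)ᵒᵖ ⥤ AddCommGrpCat.{u} where
  obj V := AddCommGrpCat.of (P'.obj V ⧸ (φ.app V).hom.range)
  map {V V'} f := AddCommGrpCat.ofHom
    (QuotientAddGroup.map _ _ (P'.map f).hom (range_le_comap φ f))
  map_id V := by
    apply AddCommGrpCat.hom_ext
    apply QuotientAddGroup.addMonoidHom_ext
    apply AddMonoidHom.ext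
    intro x
    show ((P'.map (𝟙 V)).hom x : P'.obj V ⧸ (φ.app V).hom.range) = (x : P'.obj V ⧸ _)
    rw [P'.map_id]
    rfl
  map_comp {V V' V''} f g := by
    apply AddCommGrpCat.hom_ext
    apply QuotientAddGroup.addMonoidHom_ext
    apply AddMonoidHom.ext
    intro x
    show ((P'.map (f ≫ g)).hom x : P'.obj V'' ⧸ (φ.app V'').hom.range) =
      ((P'.map g).hom ((P'.map f).hom x) : P'.obj V'' ⧸ _)
    rw [P'.map_comp]
    rfl

/-- the inclusion of the kernel presheaf -/
def kerι : kerF φ ⟶ P where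
  app V := AddCommGrpCat.ofHom (φ.app V).hom.ker.subtype
  naturality V V' f := by
    apply AddCommGrpCat.hom_ext
    apply AddMonoidHom.ext
    intro x
    rfl

/-- the projection to the cokernel presheaf -/
def cokπ : P' ⟶ cokF φ where
  app V := AddCommGrpCat.ofHom (QuotientAddGroup.mk' (φ.app V).hom.range)
  naturality V V' f := by
    apply AddCommGrpCat.hom_ext
    apply AddMonoidHom.ext
    intro x
    rfl

lemma kerι_injective (V : (Opens X)ᵒᵖ) : Function.Injective ((kerι φ).app V).hom :=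
  fun (x y : (φ.app V).hom.ker) h => Subtype.ext h

lemma kerι_comp (V : (Opens X)ᵒᵖ) (x : (kerF φ).obj V) :
    (φ.app V).hom (((kerι φ).app V).hom x) = 0 :=
  AddMonoidHom.mem_ker.mp (x : (φ.app V).hom.ker).2

lemma exists_kerι (V : (Opens X)ᵒᵖ) (x : P.obj V) (hx : (φ.app V).hom x = 0) :
    ∃ y : (kerF φ).obj V, ((kerι φ).app V).hom y = x :=
  ⟨(⟨x, AddMonoidHom.mem_ker.mpr hx⟩ : (φ.app V).hom.ker), rfl⟩

lemma cokπ_surjective (V : (Opens X)ᵒᵖ) : Function.Surjective ((cokπ φ).app V).hom :=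
  fun y => QuotientAddGroup.mk_surjective y

lemma cokπ_comp (V : (Opens X)ᵒᵖ) (x : P.obj V) :
    ((cokπ φ).app V).hom ((φ.app V).hom x) = 0 :=
  (QuotientAddGroup.eq_zero_iff _).2 (AddMonoidHom.mem_range.mpr ⟨x, rfl⟩)

lemma exists_of_cokπ_eq_zero (V : (Opens X)ᵒᵖ) (y : P'.obj V)
    (hy : ((cokπ φ).app V).hom y = 0) : ∃ x : P.obj V, (φ.app V).hom x = y :=
  AddMonoidHom.mem_range.mp ((QuotientAddGroup.eq_zero_iff y).1 hy)

lemma kerF_eq_zero_of (V : (Opens X)ᵒᵖ) (h : ∀ x : P.obj V, x = 0) (x : (kerF φ).obj V) :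
    x = 0 :=
  kerι_injective φ V ((h _).trans (h _).symm)

lemma cokF_eq_zero_of (V : (Opens X)ᵒᵖ) (h : ∀ y : P'.obj V, y = 0) (y : (cokF φ).obj V) :
    y = 0 := by
  obtain ⟨y', rfl⟩ := cokπ_surjective φ V y
  rw [h y', map_zero]

variable {ι : Type u} (U : ι → Opens X)

lemma mapC_kerι_injective (n : ℕ) : Function.Injective (mapC (kerι φ) U n) := by
  intro a b h
  funext σ
  exact kerι_injective φ _ (congrFun h σ)

lemma exists_mapC_kerι (n : ℕ) (β : Coch P U n) (hβ : mapC φ U n β = 0) :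
    ∃ κ : Coch (kerF φ) U n, mapC (kerι φ) U n κ = β := by
  have h : ∀ σ : Fin (n + 1) → ι, ∃ y : (kerF φ).obj (op (⨅ k, U (σ k))),
      ((kerι φ).app _).hom y = β σ := fun σ => exists_kerι φ _ (β σ) (congrFun hβ σ)
  choose κ hκ using h
  exact ⟨κ, funext hκ⟩

lemma exists_mapC_cokπ (n : ℕ) (β : Coch (cokF φ) U n) :
    ∃ β' : Coch P' U n, mapC (cokπ φ) U n β' = β := by
  have h : ∀ σ : Fin (n + 1) → ι, ∃ y : P'.obj (op (⨅ k, U (σ k))),
      ((cokπ φ).app _).hom y = β σ := fun σ => cokπ_surjective φ _ (β σ)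
  choose β' hβ' using h
  exact ⟨β', funext hβ'⟩

lemma exists_of_mapC_cokπ_eq_zero (n : ℕ) (β' : Coch P' U n)
    (h0 : mapC (cokπ φ) U n β' = 0) : ∃ β : Coch P U n, mapC φ U n β = β' := by
  have h : ∀ σ : Fin (n + 1) → ι, ∃ x : P.obj (op (⨅ k, U (σ k))),
      (φ.app _).hom x = β' σ := fun σ => exists_of_cokπ_eq_zero φ _ (β' σ) (congrFun h0 σ)
  choose β hβ using h
  exact ⟨β, funext hβ⟩

lemma mapC_cokπ_mapC (n : ℕ) (β : Coch P U n) :
    mapC (cokπ φ) U n (mapC φ U n β) = 0 := by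
  funext σ
  exact cokπ_comp φ _ (β σ)

end KerCok

section Inter

variable (P : (Opens X)ᵒᵖ ⥤ AddCommGrpCat.{u}) (W : Opens X)

/-- `V ↦ V ⊓ W` -/
def interF : Opens X ⥤ Opens X :=
  Monotone.functor (f := fun V : Opens X => V ⊓ W) (fun _ _ h => inf_le_inf_right W h)

/-- `V ↦ P (V ⊓ W)` -/
abbrev interP : (Opens X)ᵒᵖ ⥤ AddCommGrpCat.{u} := (interF W).op ⋙ P

/-- the restriction `P V → P (V ⊓ W)` -/
def rr : P ⟶ interP P W where
  app V := P.map (homOfLE (inf_le_left : V.unop ⊓ W ≤ V.unop)).op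
  naturality V V' f :=
    (P.map_comp f (homOfLE (inf_le_left : V'.unop ⊓ W ≤ V'.unop)).op).symm.trans
      ((congrArg P.map (Subsingleton.elim _ _)).trans
        (P.map_comp (homOfLE (inf_le_left : V.unop ⊓ W ≤ V.unop)).op ((interF W).op.map f)))

lemma interP_bij (A A' : Opens X) (h : A' ≤ A) (hle : A ⊓ W ≤ A') :
    Function.Bijective (res (interP P W) h) := by
  have h1 : A ⊓ W ≤ A' ⊓ W := le_inf hle inf_le_right
  rw [Function.bijective_iff_has_inverse]
  refine ⟨fun (y : (interP P W).obj (op A')) => (res P h1 y : (interP P W).obj (op A)),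
    fun x => ?_, fun y => ?_⟩
  · show res P h1 (res P (inf_le_inf_right W h) x) = x
    exact (res_res P _ _ _).trans (res_self P _ _)
  · show res P (inf_le_inf_right W h) (res P h1 y) = y
    exact (res_res P _ _ _).trans (res_self P _ _)

lemma eq_zero_of_rr_eq_zero (V : Opens X) (hV : V ≤ W) (z : P.obj (op V))
    (hz : ((rr P W).app (op V)).hom z = 0) : z = 0 := by
  have hx : res P (inf_le_left : V ⊓ W ≤ V) z = 0 := hz
  have h2 : res P (le_inf le_rfl hV : V ≤ V ⊓ W) (res P (inf_le_left : V ⊓ W ≤ V) z) = z := by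
    rw [res_res, res_self]
  rw [← h2, hx, map_zero]

lemma kerF_vanish (V : Opens X) (hV : V ≤ W) (x : (kerF (rr P W)).obj (op V)) : x = 0 := by
  apply kerι_injective (rr P W) (op V)
  rw [map_zero]
  exact eq_zero_of_rr_eq_zero P W V hV _ (kerι_comp (rr P W) (op V) x)

lemma exists_rr_eq (V : Opens X) (hV : V ≤ W) (y' : (interP P W).obj (op V)) :
    ∃ x : P.obj (op V), ((rr P W).app (op V)).hom x = y' := by
  refine ⟨res P (le_inf le_rfl hV : V ≤ V ⊓ W) y', ?_⟩
  show res P (inf_le_left : V ⊓ W ≤ V) (res P (le_inf le_rfl hV : V ≤ V ⊓ W) y') = y'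
  exact (res_res P _ _ _).trans (res_self P _ _)

lemma cokF_vanish (V : Opens X) (hV : V ≤ W) (y : (cokF (rr P W)).obj (op V)) : y = 0 := by
  obtain ⟨y', rfl⟩ := cokπ_surjective (rr P W) (op V) y
  obtain ⟨x, rfl⟩ := exists_rr_eq P W V hV y'
  exact cokπ_comp (rr P W) (op V) x

end Inter

section Main

variable {ι : Type u} (U : ι → Opens X)

/-- exactness of the concrete Čech complex in degree `q` -/
def ExactAtDeg (P : (Opens X)ᵒᵖ ⥤ AddCommGrpCat.{u}) (q : ℕ) : Prop :=
  (q = 0 → ∀ α : Coch P U 0, D P U 0 α = 0 → α = 0) ∧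
  (∀ p, q = p + 1 → ∀ α : Coch P U (p + 1), D P U (p + 1) α = 0 →
    ∃ β : Coch P U p, D P U p β = α)

/-- the presheaf vanishes on the opens contained in `U i`, `i ∉ S` -/
def VanishOff (P : (Opens X)ᵒᵖ ⥤ AddCommGrpCat.{u}) (S : Finset ι) : Prop :=
  ∀ (V : Opens X) (i : ι), i ∉ S → V ≤ U i → ∀ x : P.obj (op V), x = 0

/-- the inductive step: a diagram chase -/
theorem step {P P' : (Opens X)ᵒᵖ ⥤ AddCommGrpCat.{u}} (φ : P ⟶ P') (hP' : CechAcyc P' U) (p : ℕ)
    (hK : ExactAtDeg U (kerF φ) (p + 1)) (hQ : ExactAtDeg U (cokF φ) p) :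
    ExactAtDeg U P (p + 1) := by
  refine ⟨fun h => absurd h (Nat.succ_ne_zero p), fun p₁ hp₁ => ?_⟩
  obtain rfl : p = p₁ := Nat.succ.inj hp₁
  intro α hα
  have hα' : D P' U (p + 1) (mapC φ U (p + 1) α) = 0 := by
    rw [mapC_D, hα, map_zero]
  obtain ⟨γ', hγ'⟩ := hP' p _ hα'
  have hγbar : D (cokF φ) U p (mapC (cokπ φ) U p γ') = 0 := by
    rw [mapC_D, hγ', mapC_cokπ_mapC]
  have key : ∃ (γ : Coch P U p) (ε' : Coch P' U p),
      D P' U p ε' = 0 ∧ γ' = mapC φ U p γ + ε' := by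
    cases p with
    | zero =>
      have h0 := hQ.1 rfl _ hγbar
      obtain ⟨γ, hγ⟩ := exists_of_mapC_cokπ_eq_zero φ U 0 γ' h0
      exact ⟨γ, 0, map_zero _, by rw [hγ, add_zero]⟩
    | succ p' =>
      obtain ⟨δbar, hδbar⟩ := hQ.2 p' rfl _ hγbar
      obtain ⟨δ', hδ'⟩ := exists_mapC_cokπ φ U p' δbar
      have h0 : mapC (cokπ φ) U (p' + 1) (γ' - D P' U p' δ') = 0 := by
        rw [map_sub, ← mapC_D (cokπ φ) U p' δ', hδ', hδbar, sub_self]
      obtain ⟨γ, hγ⟩ := exists_of_mapC_cokπ_eq_zero φ U (p' + 1) _ h0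
      exact ⟨γ, D P' U p' δ', D_D P' U p' δ', by rw [hγ]; abel⟩
  obtain ⟨γ, ε', hε', hγ⟩ := key
  have h1 : mapC φ U (p + 1) (α - D P U p γ) = 0 := by
    rw [map_sub, ← mapC_D φ U p γ, ← hγ', hγ, map_add, hε', add_zero, sub_self]
  obtain ⟨κ, hκ⟩ := exists_mapC_kerι φ U (p + 1) _ h1
  have hκ0 : D (kerF φ) U (p + 1) κ = 0 := by
    apply mapC_kerι_injective φ U (p + 1 + 1)
    rw [← mapC_D (kerι φ) U (p + 1) κ, hκ, map_sub, hα, D_D, sub_zero, map_zero]
  obtain ⟨κ₀, hκ₀⟩ := hK.2 p rfl κ hκ0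
  refine ⟨γ + mapC (kerι φ) U p κ₀, ?_⟩
  rw [map_add, mapC_D (kerι φ) U p κ₀, hκ₀, hκ]
  abel

theorem exactAtDeg_of_card (S : Finset ι) :
    ∀ (P : (Opens X)ᵒᵖ ⥤ AddCommGrpCat.{u}), VanishOff U P S →
      ∀ q, S.card ≤ q → ExactAtDeg U P q := by
  classical
  induction S using Finset.induction_on with
  | empty =>
    intro P hP q _
    have hz : ∀ (n : ℕ) (α : Coch P U n), α = 0 := fun n α => funext fun σ =>
      hP _ (σ 0) (Finset.notMem_empty _) (iInf_le (fun k => U (σ k)) 0) (α σ)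
    refine ⟨fun _ α _ => hz 0 α, fun p _ α _ => ⟨0, ?_⟩⟩
    rw [map_zero]
    exact (hz _ α).symm
  | insert i₀ S' hi₀ ih =>
    intro P hP q hq
    rw [Finset.card_insert_of_notMem hi₀] at hq
    obtain ⟨p, rfl⟩ : ∃ p, q = p + 1 := ⟨q - 1, by omega⟩
    have hp : S'.card ≤ p := by omega
    refine step U (rr P (U i₀))
      (cechAcyc_of_local (interP P (U i₀)) U i₀ (interP_bij P (U i₀))) p ?_ ?_
    · refine ih (kerF (rr P (U i₀))) ?_ (p + 1) (by omega)
      intro V i hi hV x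
      by_cases hii : i = i₀
      · rw [hii] at hV
        exact kerF_vanish P (U i₀) V hV x
      · exact kerF_eq_zero_of (rr P (U i₀)) (op V)
          (hP V i (by simp [hii, hi]) hV) x
    · refine ih (cokF (rr P (U i₀))) ?_ p hp
      intro V i hi hV y
      by_cases hii : i = i₀
      · rw [hii] at hV
        exact cokF_vanish P (U i₀) V hV y
      · exact cokF_eq_zero_of (rr P (U i₀)) (op V)
          (hP (V ⊓ U i₀) i (by simp [hii, hi]) (inf_le_left.trans hV)) y

/-- **Vanishing above the cardinality of the cover**: the full ordered Čech complex of a presheaf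
with respect to a family of `n` opens has no cohomology in degrees `≥ n`. -/
theorem isZero_cechH_of_card_le (P : (Opens X)ᵒᵖ ⥤ AddCommGrpCat.{u}) [Finite ι] (q : ℕ)
    (hq : Nat.card ι ≤ q) : IsZero (CohTop.cechH P U q) := by
  classical
  have := Fintype.ofFinite ι
  have h := exactAtDeg_of_card U (Finset.univ : Finset ι) P
    (fun V i hi _ _ => absurd (Finset.mem_univ i) hi) q
    (by rwa [Finset.card_univ, ← Nat.card_eq_fintype_card])
  cases q with
  | zero => exact Groth.Agent.CechMono.isZero_cechH_zero (P := P) (U := U) (h.1 rfl)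
  | succ p => exact (isZero_cechH_succ_iff P U p).2 (h.2 p rfl)

end Main

end Groth.Agent.Lib.CechCardL
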