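import Mathlib
import Groth.Prelude.Def_CohTop
import Groth.Agent.Lib.CechLeray_helper2

/-!
# The Čech complex of a family containing the union is homotopy equivalent to the sections
-/

set_option autoImplicit false
universe u
open CategoryTheory Limits TopologicalSpace Opposite

namespace Groth.Agent.Lib.Cech

variable {X : TopCat.{u}} (P : (Opens X)ᵒᵖ ⥤ AddCommGrpCat.{u}) {ι : Type u} (U : ι → Opens X)
  (i₀ : ι) (hW : ∀ i, U i ≤ U i₀)

lemma top_le_const (hi : iSup U ≤ U i₀) : iSup U ≤ ⨅ k, U ((fun _ => i₀ : Fin 1 → ι) k) :=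
  le_iInf fun _ => hi

/-- evaluation of a `0`-cochain at the largest member -/
def ev (hi : iSup U ≤ U i₀) : Coch P U 0 →+ P.obj (op (iSup U)) where
  toFun β := res P (top_le_const U i₀ hi) (β (fun _ => i₀))
  map_zero' := by simp
  map_add' β γ := by simp

lemma ev_aug (hi : iSup U ≤ U i₀) (s : P.obj (op (iSup U))) : ev P U i₀ hi (aug U P s) = s := by
  show res P _ (res P _ s) = s
  rw [res_res, res_self]

include hW in
lemma hh_D_zero (hi : iSup U ≤ U i₀) (β : Coch P U 0) :
    hh P U i₀ hW 0 (D P U 0 β) = β - aug U P (ev P U i₀ hi β) := by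
  funext σ
  rw [hh_apply, D_apply, map_sum, Fin.sum_univ_two]
  simp only [Fin.val_zero, Fin.val_one, pow_zero, pow_one, one_smul, neg_smul, map_neg, res_res]
  rw [← sub_eq_add_neg, Pi.sub_apply]
  congr 1
  · rw [res_congr_idx P (A := fun c : Fin 1 → ι => ⨅ k, U (c k)) β
      (cons_comp_succAbove_zero i₀ σ) _ (le_refl _), res_self]
  · rw [aug_apply]
    show _ = res P _ (res P _ _)
    rw [res_res]
    exact res_congr_idx P (A := fun c : Fin 1 → ι => ⨅ k, U (c k)) β
      (funext fun j => by fin_cases j; rfl) _ _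

/-- the Čech complex -/
noncomputable abbrev KC : CochainComplex AddCommGrpCat.{u} ℕ := (cechComplexFunctor U).obj P

/-- the contracting homotopy on Mathlib's Čech complex -/
noncomputable def hhom (n : ℕ) : (KC P U).X (n + 1) ⟶ (KC P U).X n :=
  AddCommGrpCat.ofHom ((cmp P U n).symm.toAddMonoidHom.comp
    ((hh P U i₀ hW n).comp (cmp P U (n + 1)).toAddMonoidHom))

lemma cmp_hhom (n : ℕ) (x : (KC P U).X (n + 1)) :
    cmp P U n ((hhom P U i₀ hW n).hom x) = hh P U i₀ hW n (cmp P U (n + 1) x) :=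
  (cmp P U n).apply_symm_apply _

/-- the inclusion of the sections -/
noncomputable def fC : (CochainComplex.single₀ AddCommGrpCat.{u}).obj (P.obj (op (iSup U))) ⟶ KC P U :=
  (CochainComplex.fromSingle₀Equiv (KC P U) _).symm ⟨εhom U P, εhom_d U P⟩

/-- the evaluation morphism -/
noncomputable def gC (hi : iSup U ≤ U i₀) :
    KC P U ⟶ (CochainComplex.single₀ AddCommGrpCat.{u}).obj (P.obj (op (iSup U))) :=
  (CochainComplex.toSingle₀Equiv (KC P U) _).symm
    (AddCommGrpCat.ofHom ((ev P U i₀ hi).comp (cmp P U 0).toAddMonoidHom))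

lemma fC_gC (hi : iSup U ≤ U i₀) : fC P U ≫ gC P U i₀ hi = 𝟙 _ := by
  apply (CochainComplex.fromSingle₀Equiv _ _).injective
  ext s
  show ((gC P U i₀ hi).f 0).hom (((fC P U).f 0).hom s) = s
  have h1 : (fC P U).f 0 = εhom U P := CochainComplex.fromSingle₀Equiv_symm_apply_f_zero _ _
  have h2 : (gC P U i₀ hi).f 0 =
      AddCommGrpCat.ofHom ((ev P U i₀ hi).comp (cmp P U 0).toAddMonoidHom) :=
    CochainComplex.toSingle₀Equiv_symm_apply_f_zero _
  rw [h1, h2]
  show ev P U i₀ hi (cmp P U 0 ((εhom U P).hom s)) = s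
  rw [cmp_εhom, ev_aug]

/-- the homotopy data -/
noncomputable def hdata : ∀ i j, (ComplexShape.up ℕ).Rel j i → ((KC P U).X i ⟶ (KC P U).X j) :=
  fun i j hij => eqToHom (by rw [← (show j + 1 = i from hij)]) ≫ hhom P U i₀ hW j

lemma hdata_succ (n : ℕ) : hdata P U i₀ hW (n + 1) n rfl = hhom P U i₀ hW n := by
  unfold hdata
  simp

lemma one_sub_eq (hi : iSup U ≤ U i₀) :
    𝟙 (KC P U) - gC P U i₀ hi ≫ fC P U = Homotopy.nullHomotopicMap' (hdata P U i₀ hW) := by
  ext n x
  cases n with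
  | zero =>
    rw [Homotopy.nullHomotopicMap'_f_of_not_rel_right (c := ComplexShape.up ℕ)
      (show (ComplexShape.up ℕ).Rel 0 1 from rfl) (fun l hl => by simp at hl)]
    simp only [hdata, eqToHom_refl, Category.id_comp]
    apply (cmp P U 0).injective
    have h1 : (fC P U).f 0 = εhom U P := CochainComplex.fromSingle₀Equiv_symm_apply_f_zero _ _
    have h2 : (gC P U i₀ hi).f 0 =
        AddCommGrpCat.ofHom ((ev P U i₀ hi).comp (cmp P U 0).toAddMonoidHom) :=
      CochainComplex.toSingle₀Equiv_symm_apply_f_zero _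
    show cmp P U 0 (x - ((fC P U).f 0).hom (((gC P U i₀ hi).f 0).hom x)) =
      cmp P U 0 ((hhom P U i₀ hW 0).hom (((KC P U).d 0 1).hom x))
    rw [cmp_hhom, cmp_d, hh_D_zero P U i₀ hW hi, map_sub, h1, h2]
    congr 1
    exact cmp_εhom U P _
  | succ n =>
    rw [Homotopy.nullHomotopicMap'_f (c := ComplexShape.up ℕ)
      (show (ComplexShape.up ℕ).Rel n (n + 1) from rfl)
      (show (ComplexShape.up ℕ).Rel (n + 1) (n + 2) from rfl)]
    simp only [hdata, eqToHom_refl, Category.id_comp]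
    apply (cmp P U (n + 1)).injective
    have h3 : (fC P U).f (n + 1) = 0 := rfl
    show cmp P U (n + 1) (x - ((fC P U).f (n + 1)).hom (((gC P U i₀ hi).f (n + 1)).hom x)) =
      cmp P U (n + 1) ((hhom P U i₀ hW (n + 1)).hom (((KC P U).d (n + 1) (n + 2)).hom x) +
        ((KC P U).d n (n + 1)).hom ((hhom P U i₀ hW n).hom x))
    rw [h3, map_add, cmp_hhom, cmp_d, cmp_d, cmp_hhom]
    have e := hh_D P U i₀ hW n (cmp P U (n + 1) x)
    refine Eq.trans ?_ ((add_comm _ _).trans e).symm
    show cmp P U (n + 1) (x - 0) = _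
    rw [sub_zero]

/-- the homotopy equivalence -/
noncomputable def homotopyEquiv (hi : iSup U ≤ U i₀) :
    HomotopyEquiv ((CochainComplex.single₀ AddCommGrpCat.{u}).obj (P.obj (op (iSup U)))) (KC P U) where
  hom := fC P U
  inv := gC P U i₀ hi
  homotopyHomInvId := Homotopy.ofEq (fC_gC P U i₀ hi)
  homotopyInvHomId := by
    have h1 : Homotopy (𝟙 (KC P U) - gC P U i₀ hi ≫ fC P U) 0 := by
      rw [one_sub_eq P U i₀ hW hi]
      exact Homotopy.nullHomotopy' _
    exact (Homotopy.equivSubZero.symm h1).symm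

end Groth.Agent.Lib.Cech
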