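import Mathlib

set_option autoImplicit false

/-! The Čech nerve `cechNerveTerminalFrom X` is `n`-coskeletal for every `n`. -/

universe v u
open CategoryTheory CategoryTheory.Limits Simplicial SimplexCategory Opposite Functor

namespace Groth.Agent.Lib.CechCosk_helper7

section gen
variable {D : Type*} [Category D]

lemma chain1 {P A B E Z : D} (l : P ⟶ A) (a : A ⟶ B) (pB : B ⟶ Z) (pA : A ⟶ Z) (v : P ⟶ E)
    (pE : E ⟶ Z) (sj : P ⟶ B) (c : B ⟶ E)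
    (h4 : a ≫ pB = pA) (hl : l ≫ pA = v ≫ pE) (h2 : sj ≫ c = v) (h3 : c ≫ pE = pB) :
    l ≫ a ≫ pB = sj ≫ pB := by
  rw [h4, hl, ← h2, Category.assoc, h3]

lemma chain2 {P A E Z : D} (m l : P ⟶ A) (c : A ⟶ E) (v : P ⟶ E) (pE : E ⟶ Z) (pA : A ⟶ Z)
    (h' : m ≫ c ≫ 𝟙 E = v) (h3 : c ≫ pE = pA) (h5 : l ≫ pA = v ≫ pE) : m ≫ pA = l ≫ pA := by
  rw [Category.comp_id] at h'
  rw [h5, ← h', Category.assoc, h3]

lemma chain3 {P A B Z : D} (l : P ⟶ A) (a : A ⟶ B) (pB : B ⟶ Z) (sj : P ⟶ B)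
    (h : l ≫ a ≫ pB = sj ≫ pB) : (l ≫ (a ≫ 𝟙 B)) ≫ pB = sj ≫ pB := by
  simpa using h

end gen

variable {C : Type u} [Category.{v} C] [HasFiniteProducts C] (X : C) (n : ℕ)

/-- the constant family -/
abbrev fam (Δ : SimplexCategoryᵒᵖ) : Fin (Δ.unop.len + 1) → C := fun _ => X

/-- the Čech nerve -/
noncomputable abbrev N : SimplicialObject C := cechNerveTerminalFrom X

/-- the inclusion -/
abbrev L : (SimplexCategory.Truncated n)ᵒᵖ ⥤ SimplexCategoryᵒᵖ := (Truncated.inclusion n).op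

lemma N_map_π {Δ Δ' : SimplexCategoryᵒᵖ} (g : Δ ⟶ Δ') (t : Fin (Δ'.unop.len + 1)) :
    (N X).map g ≫ Pi.π (fam X Δ') t = Pi.π (fam X Δ) (g.unop.toOrderHom t) := by
  show Limits.Pi.lift (fun i => Limits.Pi.π (fam X Δ) (g.unop.toOrderHom i)) ≫ _ = _
  exact Limits.Pi.lift_π _ _

/-- the zeroth truncated simplex -/
abbrev z0 : SimplexCategory.Truncated n := ⟨⦋0⦌, by simp⟩

/-- vertex structured arrow -/
abbrev vtx (Δ : SimplexCategoryᵒᵖ) (i : Fin (Δ.unop.len + 1)) :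
    StructuredArrow Δ (L n) :=
  StructuredArrow.mk (Y := op (z0 n)) (⦋0⦌.const Δ.unop i).op

/-- the map from a structured arrow to a vertex -/
def toVtx (Δ : SimplexCategoryᵒᵖ) (j : StructuredArrow Δ (L n))
    (t : Fin (j.right.unop.obj.len + 1)) :
    j ⟶ vtx n Δ (j.hom.unop.toOrderHom t) :=
  StructuredArrow.homMk
    (Quiver.Hom.op (ObjectProperty.homMk (⦋0⦌.const j.right.unop.obj t) : z0 n ⟶ j.right.unop))
    (by
      apply Quiver.Hom.unop_inj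
      rfl)

/-- the lift -/
noncomputable def lift (Δ : SimplexCategoryᵒᵖ)
    (s : Cone (StructuredArrow.proj Δ (L n) ⋙ L n ⋙ N X)) : s.pt ⟶ (N X).obj Δ :=
  Pi.lift (f := fam X Δ)
    (fun i => (s.π.app (vtx n Δ i) : s.pt ⟶ ∏ᶜ fam X (op ⦋0⦌)) ≫ Pi.π (fam X (op ⦋0⦌)) 0)

lemma lift_π (Δ : SimplexCategoryᵒᵖ)
    (s : Cone (StructuredArrow.proj Δ (L n) ⋙ L n ⋙ N X)) (i : Fin (Δ.unop.len + 1)) :
    lift X n Δ s ≫ Pi.π (fam X Δ) i =
      (s.π.app (vtx n Δ i) : s.pt ⟶ ∏ᶜ fam X (op ⦋0⦌)) ≫ Pi.π (fam X (op ⦋0⦌)) 0 :=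
  Limits.Pi.lift_π _ _

lemma fac_aux (Δ : SimplexCategoryᵒᵖ)
    (s : Cone (StructuredArrow.proj Δ (L n) ⋙ L n ⋙ N X)) (j : StructuredArrow Δ (L n))
    (t : Fin (j.right.unop.obj.len + 1)) :
    lift X n Δ s ≫ (N X).map j.hom ≫ Pi.π (fam X (op j.right.unop.obj)) t =
      (s.π.app j : s.pt ⟶ ∏ᶜ fam X (op j.right.unop.obj)) ≫
        Pi.π (fam X (op j.right.unop.obj)) t := by
  have h2 : (s.π.app j : s.pt ⟶ ∏ᶜ fam X (op j.right.unop.obj)) ≫
      (N X).map (⦋0⦌.const j.right.unop.obj t).op =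
      (s.π.app (vtx n Δ (j.hom.unop.toOrderHom t)) : s.pt ⟶ ∏ᶜ fam X (op ⦋0⦌)) :=
    s.w (toVtx n Δ j t)
  have h3 : (N X).map (⦋0⦌.const j.right.unop.obj t).op ≫ Pi.π (fam X (op ⦋0⦌)) 0 =
      Pi.π (fam X (op j.right.unop.obj)) t := N_map_π X _ _
  have h4 : (N X).map j.hom ≫ Pi.π (fam X (op j.right.unop.obj)) t =
      Pi.π (fam X Δ) (j.hom.unop.toOrderHom t) := N_map_π X _ _
  exact chain1 _ _ _ _ _ _ _ _ h4 (lift_π X n Δ s _) h2 h3

/-- the pointwise Kan extension property -/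
noncomputable def isPW (Δ : SimplexCategoryᵒᵖ) :
    (SimplicialObject.Truncated.rightExtensionInclusion (N X) n).IsPointwiseRightKanExtensionAt
      Δ where
  lift s := lift X n Δ s
  fac s j := by
    refine Limits.Pi.hom_ext (f := fam X (op j.right.unop.obj)) _ _ (fun t => ?_)
    exact chain3 _ _ _ _ (fac_aux X n Δ s j t)
  uniq s m hm := by
    refine Limits.Pi.hom_ext (f := fam X Δ) _ _ (fun i => ?_)
    have h' : m ≫ ((N X).map (⦋0⦌.const Δ.unop i).op ≫ 𝟙 _) = s.π.app (vtx n Δ i) :=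
      hm (vtx n Δ i)
    have h3 : (N X).map (⦋0⦌.const Δ.unop i).op ≫ Pi.π (fam X (op ⦋0⦌)) 0 =
      Pi.π (fam X Δ) i := N_map_π X _ _
    have h5 := lift_π X n Δ s i
    exact chain2 _ _ _ _ _ _ h' h3 h5

theorem main : SimplicialObject.IsCoskeletal (cechNerveTerminalFrom X) n where
  isRightKanExtension :=
    RightExtension.IsPointwiseRightKanExtension.isRightKanExtension
      (E := SimplicialObject.Truncated.rightExtensionInclusion (N X) n)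
      (fun Δ => isPW X n Δ)

end Groth.Agent.Lib.CechCosk_helper7
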