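import Groth.Agent.Lib.ShDesc7_helper7
import Groth.Agent.Lib.AlgSpLocP7_helper7
import Groth.Agent.Lib.AlgSpOpenSub_helper7
import Groth.Prelude.Def_AlgSpCov

/-!
# Properties descending along Čech covers (helper7)

A general induction principle for the base maps of iterated fibre products (wide pullbacks over
`Fin (n + 1)`), and its application to properties of algebraic spaces over a fixed one that descend
along fppf Čech covers: from affine schemes to separated schemes, to all schemes, to algebraic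
spaces.
-/

set_option autoImplicit false
set_option linter.style.haveILetI false
universe u
open CategoryTheory CategoryTheory.Limits AlgebraicGeometry Opposite
open AlgSp Groth.Agent.Lib.AlgSpPoints_helper7 Groth.Agent.Lib.AlgSpLocP_helper7
  Groth.Agent.Lib.AlgSpLocP4_helper7 Groth.Agent.Lib.AlgSpLocP7_helper7
  Groth.Agent.Lib.AlgSpOpenSub_helper7 Groth.Agent.Lib.AlgSpBasic_helper7
  Groth.Agent.Lib.AlgSpPullback_helper7

namespace Groth.Agent.Lib.CechDescH7

section Wide

variable {C : Type*} [Category C] [HasPullbacks C]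
  [∀ n : ℕ, HasLimitsOfShape (WidePullbackShape (Fin n)) C] {B : C}

omit [HasPullbacks C] in
theorem isIso_π_zero {X : Fin 1 → C} (f : ∀ k, X k ⟶ B) : IsIso (WidePullback.π f 0) := by
  have hk : ∀ k : Fin 1, k = 0 := fun k => Subsingleton.elim _ _
  let fs : ∀ k : Fin 1, X 0 ⟶ X k := fun k => eqToHom (by rw [hk k])
  have w : ∀ k, fs k ≫ f k = f 0 := by
    intro k
    obtain rfl := hk k
    simp [fs]
  refine ⟨WidePullback.lift (f 0) fs w, ?_, ?_⟩
  · apply WidePullback.hom_ext f
    · intro k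
      obtain rfl := hk k
      rw [Category.assoc, WidePullback.lift_π]
      simp [fs]
    · rw [Category.assoc, WidePullback.lift_base, Category.id_comp, WidePullback.π_arrow]
  · rw [WidePullback.lift_π]
    simp [fs]

variable {n : ℕ} {X : Fin (n + 1 + 1) → C} (f : ∀ k, X k ⟶ B)

/-- The tail of a family of arrows. -/
abbrev tail : ∀ k : Fin (n + 1), X k.succ ⟶ B := fun k => f k.succ

/-- The comparison map from the wide pullback to the pullback of the first arrow and the base map
of the tail. -/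
noncomputable def consHom : widePullback B X f ⟶ pullback (f 0) (WidePullback.base (tail f)) :=
  pullback.lift (WidePullback.π f 0)
    (WidePullback.lift (WidePullback.base f) (fun k => WidePullback.π f k.succ)
      (fun k => WidePullback.π_arrow f k.succ))
    (by rw [WidePullback.lift_base, WidePullback.π_arrow])

/-- The inverse comparison map. -/
noncomputable def consInv : pullback (f 0) (WidePullback.base (tail f)) ⟶ widePullback B X f :=
  WidePullback.lift (pullback.fst _ _ ≫ f 0)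
    (fun k => Fin.cases (motive := fun k => pullback (f 0) (WidePullback.base (tail f)) ⟶ X k)
      (pullback.fst _ _) (fun i => pullback.snd _ _ ≫ WidePullback.π (tail f) i) k)
    (fun k => by
      refine Fin.cases ?_ (fun i => ?_) k
      · simp only [Fin.cases_zero]
      · simp only [Fin.cases_succ, Category.assoc]
        exact (congrArg (fun z => pullback.snd (f 0) (WidePullback.base (tail f)) ≫ z)
          (WidePullback.π_arrow (tail f) i)).trans pullback.condition.symm)

theorem consHom_fst : consHom f ≫ pullback.fst _ _ = WidePullback.π f 0 := by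
  simp only [consHom, pullback.lift_fst]

theorem consHom_snd_π (i : Fin (n + 1)) :
    consHom f ≫ pullback.snd _ _ ≫ WidePullback.π (tail f) i = WidePullback.π f i.succ := by
  simp only [consHom, pullback.lift_snd_assoc, WidePullback.lift_π]

theorem consHom_snd_base :
    consHom f ≫ pullback.snd _ _ ≫ WidePullback.base (tail f) = WidePullback.base f := by
  simp only [consHom, pullback.lift_snd_assoc, WidePullback.lift_base]

theorem consInv_π_zero : consInv f ≫ WidePullback.π f 0 = pullback.fst _ _ := by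
  simp only [consInv, WidePullback.lift_π, Fin.cases_zero]

theorem consInv_π_succ (i : Fin (n + 1)) :
    consInv f ≫ WidePullback.π f i.succ = pullback.snd _ _ ≫ WidePullback.π (tail f) i := by
  simp only [consInv, WidePullback.lift_π, Fin.cases_succ]

theorem consInv_base : consInv f ≫ WidePullback.base f = pullback.fst _ _ ≫ f 0 := by
  simp only [consInv, WidePullback.lift_base]

theorem consHom_consInv : consHom f ≫ consInv f = 𝟙 _ := by
  apply WidePullback.hom_ext f
  · intro k
    refine Fin.cases ?_ (fun i => ?_) k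
    · simp only [Category.assoc, Category.id_comp]
      rw [consInv_π_zero, consHom_fst]
    · simp only [Category.assoc, Category.id_comp]
      rw [consInv_π_succ, consHom_snd_π]
  · simp only [Category.assoc, Category.id_comp]
    rw [consInv_base, ← Category.assoc, consHom_fst, WidePullback.π_arrow]

theorem consInv_consHom : consInv f ≫ consHom f = 𝟙 _ := by
  apply pullback.hom_ext
  · simp only [Category.assoc, Category.id_comp]
    rw [consHom_fst, consInv_π_zero]
  · apply WidePullback.hom_ext (tail f)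
    · intro i
      simp only [Category.assoc, Category.id_comp]
      rw [consHom_snd_π, consInv_π_succ]
    · simp only [Category.assoc, Category.id_comp]
      rw [consHom_snd_base, consInv_base, pullback.condition]

instance : IsIso (consHom f) := ⟨consInv f, consHom_consInv f, consInv_consHom f⟩

theorem consHom_base : consHom f ≫ pullback.fst _ _ ≫ f 0 = WidePullback.base f := by
  rw [← Category.assoc, consHom_fst, WidePullback.π_arrow]

omit n X f in
/-- Induction principle for base maps of iterated fibre products. -/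
theorem base_induction (Q : ∀ ⦃W : C⦄, (W ⟶ B) → Prop)
    (hiso : ∀ ⦃W W' : C⦄ (e : W' ⟶ W) [IsIso e] (b : W ⟶ B), Q b → Q (e ≫ b))
    (hpb : ∀ ⦃W₁ W₂ : C⦄ (b₁ : W₁ ⟶ B) (b₂ : W₂ ⟶ B), Q b₁ → Q b₂ →
      Q (pullback.fst b₁ b₂ ≫ b₁)) :
    ∀ (n : ℕ) (X : Fin (n + 1) → C) (f : ∀ k, X k ⟶ B), (∀ k, Q (f k)) →
      Q (WidePullback.base f) := by
  intro n
  induction n with
  | zero =>
    intro X f hf
    haveI := isIso_π_zero f
    rw [← WidePullback.π_arrow f 0]
    exact hiso _ _ (hf 0)
  | succ n ih =>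
    intro X f hf
    have h1 := ih (fun k => X k.succ) (fun k => f k.succ) (fun k => hf k.succ)
    have h2 := hpb (f 0) _ (hf 0) h1
    have h3 := hiso (consHom f) _ h2
    rwa [consHom_base] at h3

end Wide

variable {S : Scheme.{u}}

/-- Representable étale morphisms are flat and locally of finite presentation. -/
theorem locP_of_repWith_etale {A B : Sp S} (b : A ⟶ B) (hb : RepWith @Etale b) :
    LocP @Flat b ∧ LocP @LocallyOfFinitePresentation b :=
  ⟨locP_of_repWith @Flat (fun _ _ g hg => by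
      haveI : Etale g := hg
      exact (inferInstance : Flat g)) b
      (repWith_mono (fun _ _ g (hg : Etale g) => (inferInstance : Flat g)) hb),
    locP_of_repWith @LocallyOfFinitePresentation (fun _ _ g hg => by
      haveI : Etale g := hg
      exact (inferInstance : LocallyOfFinitePresentation g)) b
      (repWith_mono (fun _ _ g (hg : Etale g) =>
        (inferInstance : LocallyOfFinitePresentation g)) hb)⟩

section Open

variable (C₀ : Scheme.{u} → Prop) {U : Sp S} {T : Over S} (e : U ≅ (yon S).obj T)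

/-- Morphisms to `U ≅ h_T` isomorphic to an open immersion from a scheme in the class `C₀`. -/
def QOpen : ∀ ⦃W : Sp S⦄, (W ⟶ U) → Prop :=
  fun W b => ∃ (T' : Over S) (e' : W ≅ (yon S).obj T') (j : T' ⟶ T),
    IsOpenImmersion j.left ∧ C₀ T'.left ∧ e'.hom ≫ (yon S).map j = b ≫ e.hom

theorem qOpen_iso : ∀ ⦃W W' : Sp S⦄ (ε : W' ⟶ W) [IsIso ε] (b : W ⟶ U),
    QOpen C₀ e b → QOpen C₀ e (ε ≫ b) := by
  rintro W W' ε _ b ⟨T', e', j, hj, hc, hcomm⟩
  exact ⟨T', asIso ε ≪≫ e', j, hj, hc, by
    rw [Iso.trans_hom, asIso_hom, Category.assoc, hcomm, Category.assoc]⟩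

set_option backward.isDefEq.respectTransparency false in
theorem qOpen_pb
    (hC : ∀ ⦃A B Q : Scheme.{u}⦄ (fst : Q ⟶ A) (snd : Q ⟶ B) (i : A ⟶ T.left) (j : B ⟶ T.left),
      IsPullback fst snd i j → IsOpenImmersion i → IsOpenImmersion j → C₀ A → C₀ B → C₀ Q) :
    ∀ ⦃W₁ W₂ : Sp S⦄ (b₁ : W₁ ⟶ U) (b₂ : W₂ ⟶ U), QOpen C₀ e b₁ → QOpen C₀ e b₂ →
      QOpen C₀ e (pullback.fst b₁ b₂ ≫ b₁) := by
  rintro W₁ W₂ b₁ b₂ ⟨T₁, e₁, j₁, hj₁, hc₁, hcomm₁⟩ ⟨T₂, e₂, j₂, hj₂, hc₂, hcomm₂⟩
  have sqO := IsPullback.of_hasPullback j₁ j₂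
  have sqS : IsPullback (pullback.fst j₁ j₂).left (pullback.snd j₁ j₂).left j₁.left j₂.left :=
    sqO.map (Over.forget S)
  have sqY := sqO.map (yon S)
  have sqW : IsPullback ((yon S).map (pullback.fst j₁ j₂) ≫ e₁.inv)
      ((yon S).map (pullback.snd j₁ j₂) ≫ e₂.inv) b₁ b₂ := by
    refine IsPullback.of_iso sqY (Iso.refl _) e₁.symm e₂.symm e.symm ?_ ?_ ?_ ?_
    · simp
    · simp
    · rw [Iso.symm_hom, Iso.symm_hom, Iso.eq_inv_comp, ← Category.assoc, hcomm₁, Category.assoc,
        e.hom_inv_id, Category.comp_id]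
    · rw [Iso.symm_hom, Iso.symm_hom, Iso.eq_inv_comp, ← Category.assoc, hcomm₂, Category.assoc,
        e.hom_inv_id, Category.comp_id]
  let e₃ : pullback b₁ b₂ ≅ (yon S).obj (pullback j₁ j₂) := sqW.isoPullback.symm
  have he₃ : e₃.hom ≫ (yon S).map (pullback.fst j₁ j₂) ≫ e₁.inv = pullback.fst b₁ b₂ := by
    show sqW.isoPullback.inv ≫ _ = _
    rw [Iso.inv_comp_eq, sqW.isoPullback_hom_fst]
  haveI := hj₁
  haveI := hj₂
  haveI : IsOpenImmersion (pullback.fst j₁ j₂).left :=
    MorphismProperty.of_isPullback (P := @IsOpenImmersion) sqS.flip hj₂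
  refine ⟨pullback j₁ j₂, e₃, pullback.fst j₁ j₂ ≫ j₁, ?_, hC _ _ _ _ sqS hj₁ hj₂ hc₁ hc₂, ?_⟩
  · rw [Over.comp_left]
    infer_instance
  · rw [← he₃, Functor.map_comp]
    simp only [Category.assoc]
    rw [← hcomm₁, e₁.inv_hom_id_assoc]

end Open

section Sch

variable {U : Sp S}

/-- Étale morphisms to `U` from (sheaves isomorphic to) schemes. -/
def QSch : ∀ ⦃W : Sp S⦄, (W ⟶ U) → Prop :=
  fun W b => (∃ T' : Over S, Nonempty (W ≅ (yon S).obj T')) ∧ RepWith @Etale b

theorem qSch_iso : ∀ ⦃W W' : Sp S⦄ (ε : W' ⟶ W) [IsIso ε] (b : W ⟶ U),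
    QSch b → QSch (ε ≫ b) := by
  rintro W W' ε _ b ⟨⟨T', ⟨e'⟩⟩, hb⟩
  exact ⟨⟨T', ⟨asIso ε ≪≫ e'⟩⟩, MorphismProperty.RespectsIso.precomp _ _ _ hb⟩

set_option backward.isDefEq.respectTransparency false in
theorem qSch_pb (hU : IsAlgSpace U) : ∀ ⦃W₁ W₂ : Sp S⦄ (b₁ : W₁ ⟶ U) (b₂ : W₂ ⟶ U),
    QSch b₁ → QSch b₂ → QSch (pullback.fst b₁ b₂ ≫ b₁) := by
  rintro W₁ W₂ b₁ b₂ ⟨⟨T₁, ⟨e₁⟩⟩, h₁⟩ ⟨⟨T₂, ⟨e₂⟩⟩, h₂⟩
  have hr : Representable (e₂.inv ≫ b₂) := hU.representable_from_yon _
  obtain ⟨T₃, snd, fst, sq⟩ := hr (e₁.inv ≫ b₁)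
  have sqW : IsPullback ((yon S).map snd ≫ e₁.inv) (fst ≫ e₂.inv) b₁ b₂ := by
    refine IsPullback.of_iso sq.flip (Iso.refl _) e₁.symm e₂.symm (Iso.refl _) ?_ ?_ ?_ ?_
    · simp
    · simp
    · simp
    · simp
  refine ⟨⟨T₃, ⟨sqW.isoPullback.symm⟩⟩, ?_⟩
  exact repWith_comp @Etale
    ((RepWith (S := S) @Etale).of_isPullback (IsPullback.of_hasPullback b₁ b₂).flip h₂) h₁

end Sch

section Main

variable {X : Sp S} (hX : IsAlgSpace X) (P : ∀ ⦃U : Sp S⦄, (U ⟶ X) → Prop)
  (hP : ∀ ⦃U : Sp S⦄ (a : U ⟶ X), IsAlgSpace U →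
    ∀ ⦃ι : Type u⦄ (Ui : ι → Sp S) (g : ∀ i, Ui i ⟶ U), (∀ i, IsAlgSpace (Ui i)) →
    IsFppfCover Ui g →
    (∀ (n : ℕ) (c : Fin (n + 1) → ι),
      P (WidePullback.base (fun k : Fin (n + 1) => g (c k)) ≫ a)) → P a)

include hX hP

set_option backward.isDefEq.respectTransparency false in
/-- One stage of the induction along open covers. -/
theorem stage_open (C₀ : Scheme.{u} → Prop)
    (H₀ : ∀ ⦃U : Sp S⦄ (a : U ⟶ X) (T : Over S) (_ : U ≅ (yon S).obj T), C₀ T.left →
      LocP @Flat a → LocP @LocallyOfFinitePresentation a → P a)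
    {U : Sp S} (a : U ⟶ X) (T : Over S) (e : U ≅ (yon S).obj T)
    (hC : ∀ ⦃A B Q : Scheme.{u}⦄ (fst : Q ⟶ A) (snd : Q ⟶ B) (i : A ⟶ T.left) (j : B ⟶ T.left),
      IsPullback fst snd i j → IsOpenImmersion i → IsOpenImmersion j → C₀ A → C₀ B → C₀ Q)
    (𝒰 : Scheme.OpenCover.{u} T.left) (h𝒰 : ∀ i, C₀ (𝒰.X i))
    (ha1 : LocP @Flat a) (ha2 : LocP @LocallyOfFinitePresentation a) : P a := by
  have hU : IsAlgSpace U := (IsAlgSpace.yon_obj T).of_iso e.symm
  let Ti : 𝒰.I₀ → Over S := fun i => Over.mk (𝒰.f i ≫ T.hom)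
  let ji : ∀ i, Ti i ⟶ T := fun i => Over.homMk (𝒰.f i) rfl
  let Ui : 𝒰.I₀ → Sp S := fun i => (yon S).obj (Ti i)
  let g : ∀ i, Ui i ⟶ U := fun i => (yon S).map (ji i) ≫ e.inv
  have hge : ∀ i, RepWith @Etale (g i) := fun i =>
    MorphismProperty.RespectsIso.postcomp _ _ _ (repWith_etale_of_openImmersion
      ((repWith_yon_map_iff _ _).2 (inferInstanceAs (IsOpenImmersion (𝒰.f i)))))
  have hcov : IsFppfCover Ui g := by
    refine ⟨fun i => locP_of_repWith_etale _ (hge i), fun x => ?_⟩
    obtain ⟨t, ht⟩ := ofScheme_surjective T (Points.map e.hom x)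
    obtain ⟨i, t', rfl⟩ := 𝒰.exists_eq t
    refine ⟨i, Points.ofScheme (Ti i) t', ?_⟩
    show Points.map ((yon S).map (ji i) ≫ e.inv) (Points.ofScheme (Ti i) t') = x
    rw [Points.map_comp, ← Points.ofPt_eq_map_ofScheme, ofPt_yon_map]
    have h1 : Points.ofScheme T ((ji i).left t') = Points.map e.hom x := ht
    rw [h1, ← Points.map_comp, e.hom_inv_id, Points.map_id]
  refine hP a hU Ui g (fun i => IsAlgSpace.yon_obj _) hcov (fun n c => ?_)
  have hQ := base_induction (QOpen C₀ e) (qOpen_iso C₀ e) (qOpen_pb C₀ e hC) n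
    (fun k => Ui (c k)) (fun k => g (c k)) (fun k => ⟨Ti (c k), Iso.refl _, ji (c k),
      inferInstanceAs (IsOpenImmersion (𝒰.f (c k))), h𝒰 (c k), by
        show (Iso.refl _).hom ≫ (yon S).map (ji (c k)) = ((yon S).map (ji (c k)) ≫ e.inv) ≫ e.hom
        rw [Iso.refl_hom, Category.id_comp, Category.assoc, e.inv_hom_id, Category.comp_id]⟩)
  obtain ⟨T', e', j', hj', hC', hcomm⟩ := hQ
  have hb : WidePullback.base (fun k : Fin (n + 1) => g (c k)) =
      e'.hom ≫ (yon S).map j' ≫ e.inv := by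
    rw [← Category.assoc, hcomm, Category.assoc, e.hom_inv_id, Category.comp_id]
  have hbe : RepWith @Etale (WidePullback.base (fun k : Fin (n + 1) => g (c k))) := by
    rw [hb]
    exact MorphismProperty.RespectsIso.precomp _ _ _ (MorphismProperty.RespectsIso.postcomp _ _ _
      (repWith_etale_of_openImmersion ((repWith_yon_map_iff _ _).2 hj')))
  have hW : IsAlgSpace (widePullback U (fun k => Ui (c k)) (fun k => g (c k))) :=
    (IsAlgSpace.yon_obj T').of_iso e'.symm
  obtain ⟨hb1, hb2⟩ := locP_of_repWith_etale _ hbe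
  exact H₀ _ T' e' hC' (locP_comp etLocal_flat hW hU hX _ a hb1 ha1)
    (locP_comp etLocal_locallyOfFinitePresentation hW hU hX _ a hb2 ha2)

set_option backward.isDefEq.respectTransparency false in
/-- The last stage: from schemes to algebraic spaces. -/
theorem stage_space
    (H₀ : ∀ ⦃U : Sp S⦄ (a : U ⟶ X) (T : Over S) (_ : U ≅ (yon S).obj T),
      LocP @Flat a → LocP @LocallyOfFinitePresentation a → P a)
    {U : Sp S} (a : U ⟶ X) (hU : IsAlgSpace U)
    (ha1 : LocP @Flat a) (ha2 : LocP @LocallyOfFinitePresentation a) : P a := by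
  obtain ⟨W₀, p, hpe, hps⟩ := hU.atlas
  refine hP a hU (ι := PUnit.{u + 1}) (fun _ => (yon S).obj W₀) (fun _ => p)
    (fun _ => IsAlgSpace.yon_obj _) ⟨fun _ => locP_of_repWith_etale p hpe, fun x => ?_⟩
    (fun n c => ?_)
  · obtain ⟨y, hy⟩ := isSurjectiveMor_of_repWith p hps x
    exact ⟨PUnit.unit, y, hy⟩
  · obtain ⟨⟨T', ⟨e'⟩⟩, hbe⟩ := base_induction (QSch (U := U)) qSch_iso (qSch_pb hU) n
      (fun _ => (yon S).obj W₀) (fun _ => p) (fun _ => ⟨⟨W₀, ⟨Iso.refl _⟩⟩, hpe⟩)
    obtain ⟨hb1, hb2⟩ := locP_of_repWith_etale _ hbe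
    have hW := (IsAlgSpace.yon_obj T').of_iso e'.symm
    exact H₀ _ T' e' (locP_comp etLocal_flat hW hU hX _ a hb1 ha1)
      (locP_comp etLocal_locallyOfFinitePresentation hW hU hX _ a hb2 ha2)

set_option backward.isDefEq.respectTransparency false in
/-- A property descending along fppf Čech covers which holds for flat, locally finitely presented
affine schemes over `X` holds for `X`. -/
theorem main10511
    (haff : ∀ ⦃U : Sp S⦄ (a : U ⟶ X) (T : Over S) (_ : U ≅ (yon S).obj T), IsAffine T.left →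
      LocP @Flat a → LocP @LocallyOfFinitePresentation a → P a) :
    P (𝟙 X) := by
  have HA : ∀ ⦃U : Sp S⦄ (a : U ⟶ X) (T : Over S) (_ : U ≅ (yon S).obj T), T.left.IsSeparated →
      LocP @Flat a → LocP @LocallyOfFinitePresentation a → P a := by
    intro U a T e hT h1 h2
    refine stage_open hX P hP (fun A => IsAffine A) (fun U a T e h h1 h2 => haff a T e h h1 h2)
      a T e ?_ T.left.affineCover (fun i => inferInstance) h1 h2
    intro A B Q fst snd i j sq hi hj hA hB
    haveI := hT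
    haveI : IsAffine A := hA
    haveI : IsAffine B := hB
    haveI : IsAffineHom j := IsAffineHom.of_comp (f := j) (g := terminal.from T.left)
    exact IsAffine.of_isPullback sq
  have HB : ∀ ⦃U : Sp S⦄ (a : U ⟶ X) (T : Over S) (_ : U ≅ (yon S).obj T),
      LocP @Flat a → LocP @LocallyOfFinitePresentation a → P a := by
    intro U a T e h1 h2
    refine stage_open hX P hP (fun A => A.IsSeparated)
      (fun U a T e h h1 h2 => HA a T e h h1 h2)
      a T e ?_ T.left.affineCover (fun i => inferInstance) h1 h2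
    intro A B Q fst snd i j sq hi hj hA hB
    haveI := hi
    haveI := hj
    haveI : A.IsSeparated := hA
    haveI : IsOpenImmersion fst :=
      MorphismProperty.of_isPullback (P := @IsOpenImmersion) sq.flip hj
    refine ⟨?_⟩
    rw [← terminal.comp_from fst]
    infer_instance
  haveI : MorphismProperty.ContainsIdentities
      (@LocallyOfFinitePresentation : MorphismProperty Scheme.{u}) :=
    ⟨fun Z => (inferInstance : LocallyOfFinitePresentation (𝟙 Z))⟩
  refine stage_space hX P hP HB (𝟙 X) hX ?_ ?_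
  · exact locP_of_repWith @Flat (fun _ _ g hg => by
      haveI : Etale g := hg
      exact (inferInstance : Flat g)) (𝟙 X) (repWith_of_isIso _ (𝟙 X))
  · exact locP_of_repWith @LocallyOfFinitePresentation (fun _ _ g hg => by
      haveI : Etale g := hg
      exact (inferInstance : LocallyOfFinitePresentation g)) (𝟙 X) (repWith_of_isIso _ (𝟙 X))

end Main

end Groth.Agent.Lib.CechDescH7
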