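import Mathlib
import Groth.Prelude.Def_CechEdge
import Groth.Agent.Lib.CechEdgeUniq_helper2

/-!
# Compatibility of the edge family with refinement of coverings
-/

set_option autoImplicit false
universe u
open CategoryTheory Limits Opposite Abelian

namespace Groth.Agent.Lib.CechEdgeRefine

open Groth.Agent.Lib.CechEdgeDelta Groth.Agent.Lib.CechEdgeUniq

variable {C : Type u} [SmallCategory C] [HasPullbacks C] {U : C} {ι κ' : Type u}
  (Y : ι → Over U) (Y' : κ' → Over U)
  (f : FormalCoproduct.mk ι Y ⟶ FormalCoproduct.mk κ' Y')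

/-- the refinement map, natural in the presheaf on `Over U` -/
noncomputable def refineNat₀ :
    cechComplexFunctor (A := AddCommGrpCat.{u}) Y' ⟶ cechComplexFunctor (A := AddCommGrpCat.{u}) Y :=
  Functor.whiskerRight (Functor.whiskerLeft (FormalCoproduct.evalOp.{u} (Over U) AddCommGrpCat.{u})
    ((Functor.whiskeringLeft _ _ _).map (NatTrans.rightOp (FormalCoproduct.cechFunctor.map f))))
    (AlgebraicTopology.alternatingCofaceMapComplex AddCommGrpCat.{u})

/-- the refinement map, natural in the presheaf -/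
noncomputable def refineNat : CechEdge.cxFunctor (C := C) Y' ⟶ CechEdge.cxFunctor Y :=
  Functor.whiskerLeft ((Functor.whiskeringLeft (Over U)ᵒᵖ Cᵒᵖ AddCommGrpCat.{u}).obj
    (Over.forget U).op) (refineNat₀ Y Y' f)

/-- the refinement map on the Čech complexes of a presheaf -/
noncomputable def ref (P : Cᵒᵖ ⥤ AddCommGrpCat.{u}) : CechEdge.cx P Y' ⟶ CechEdge.cx P Y :=
  CohCx.cechRefine P f

lemma refineNat_app (P : Cᵒᵖ ⥤ AddCommGrpCat.{u}) :
    (refineNat Y Y' f).app P = ref Y Y' f P := rfl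

lemma refine_comm {P Q : Cᵒᵖ ⥤ AddCommGrpCat.{u}} (φ : P ⟶ Q) :
    (CechEdge.cxFunctor Y').map φ ≫ ref Y Y' f Q =
      ref Y Y' f P ≫ (CechEdge.cxFunctor Y).map φ :=
  (refineNat Y Y' f).naturality φ

/-- the map induced on Čech cohomology by the refinement -/
noncomputable def refH (P : Cᵒᵖ ⥤ AddCommGrpCat.{u}) (p : ℕ) :
    CohCx.cechH P Y' p →+ CohCx.cechH P Y p :=
  (HomologicalComplex.homologyMap (ref Y Y' f P) p).hom

lemma refH_natural {P Q : Cᵒᵖ ⥤ AddCommGrpCat.{u}} (φ : P ⟶ Q) (p : ℕ)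
    (x : CohCx.cechH P Y' p) :
    refH Y Y' f Q p (CechEdge.cechHMap Y' φ p x) =
      CechEdge.cechHMap Y φ p (refH Y Y' f P p x) := by
  have h := congrArg (fun t => HomologicalComplex.homologyMap t p) (refine_comm Y Y' f φ)
  rw [HomologicalComplex.homologyMap_comp, HomologicalComplex.homologyMap_comp] at h
  exact congrArg (fun t => t.hom x) h

lemma toCech₀_refine (P : Cᵒᵖ ⥤ AddCommGrpCat.{u}) :
    CechEdge.toCech₀ P Y' ≫ (ref Y Y' f P).f 0 = CechEdge.toCech₀ P Y := by
  show CechEdge.toCech₀ P Y' ≫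
    ((FormalCoproduct.evalOp.{u} (Over U) AddCommGrpCat.{u}).obj ((Over.forget U).op ⋙ P)).map
      ((FormalCoproduct.cechFunctor.map f).app (op (SimplexCategory.mk 0))).op = _
  rw [FormalCoproduct.evalOp_obj_map]
  apply Pi.hom_ext
  intro i
  unfold CechEdge.toCech₀
  erw [Category.assoc, Pi.lift_π, Pi.lift_π, Pi.lift_π_assoc]
  change P.map _ ≫ P.map _ = P.map _
  rw [← P.map_comp]
  congr 1
  exact congrArg Quiver.Hom.op
    (Over.w (((FormalCoproduct.cechFunctor.map f).app (op (SimplexCategory.mk 0))).φ i))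

lemma toCycles_refine (P : Cᵒᵖ ⥤ AddCommGrpCat.{u}) :
    CechEdge.toCycles P Y' ≫ HomologicalComplex.cyclesMap (ref Y Y' f P) 0 =
      CechEdge.toCycles P Y := by
  rw [← cancel_mono ((CechEdge.cx P Y).iCycles 0), Category.assoc,
    HomologicalComplex.cyclesMap_i, ← Category.assoc, CechEdge.toCycles_i, CechEdge.toCycles_i]
  exact toCech₀_refine Y Y' f P

lemma refH_toCech (P : Cᵒᵖ ⥤ AddCommGrpCat.{u}) (s : P.obj (op U)) :
    refH Y Y' f P 0 (CechEdge.toCech Y' P s) = CechEdge.toCech Y P s := by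
  have h : (CechEdge.toCycles P Y' ≫ (CechEdge.cx P Y').homologyπ 0) ≫
      HomologicalComplex.homologyMap (ref Y Y' f P) 0 =
      CechEdge.toCycles P Y ≫ (CechEdge.cx P Y).homologyπ 0 := by
    rw [Category.assoc, HomologicalComplex.homologyπ_naturality, ← Category.assoc,
      toCycles_refine]
  exact congrArg (fun t => t.hom s) h

/-- the morphism of short complexes of Čech complexes induced by the refinement -/
noncomputable def refSC (S : ShortComplex (Cᵒᵖ ⥤ AddCommGrpCat.{u})) :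
    S.map (CechEdge.cxFunctor Y') ⟶ S.map (CechEdge.cxFunctor Y) :=
  S.mapNatTrans (refineNat Y Y' f)

lemma refH_δ (S : ShortComplex (Cᵒᵖ ⥤ AddCommGrpCat.{u}))
    (hC' : (S.map (CechEdge.cxFunctor Y')).ShortExact)
    (hC : (S.map (CechEdge.cxFunctor Y)).ShortExact) (p : ℕ) (x : CohCx.cechH S.X₃ Y' p) :
    refH Y Y' f S.X₁ (p + 1) ((hC'.δ p (p + 1) rfl).hom x) =
      (hC.δ p (p + 1) rfl).hom (refH Y Y' f S.X₃ p x) := by
  have h := HomologicalComplex.HomologySequence.δ_naturality (refSC Y Y' f S) hC' hC p (p + 1) rfl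
  exact congrArg (fun t => t.hom x) h

variable {J : GrothendieckTopology C}
variable {e : ∀ (P : Cᵒᵖ ⥤ AddCommGrpCat.{u}) (p : ℕ),
  CohCx.cechH P Y p →+ CohSite.HU (CechEdge.shf J P) p U}

/-- an edge family for `Y` induces one for any covering family that `Y` refines -/
theorem isEdge_refine (he : CechEdge.IsEdge J Y e)
    (hY' : Sieve.ofArrows (fun i => (Y' i).left) (fun i => (Y' i).hom) ∈ J U) :
    CechEdge.IsEdge J Y' (fun P p => (e P p).comp (refH Y Y' f P p)) where
  cover := hY'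
  zero P s := by
    show e P 0 (refH Y Y' f P 0 (CechEdge.toCech Y' P s)) = _
    rw [refH_toCech]
    exact he.zero P s
  natural P Q φ p x := by
    show e Q p (refH Y Y' f Q p (CechEdge.cechHMap Y' φ p x)) =
      CechEdge.HUmap (CechEdge.shfMap J φ) p U (e P p (refH Y Y' f P p x))
    rw [refH_natural]
    exact he.natural P Q φ p _
  delta S hS hC' p x := by
    show e S.X₁ (p + 1) (refH Y Y' f S.X₁ (p + 1) ((hC'.δ p (p + 1) rfl).hom x)) =
      CechEdge.extδ (hS.map_of_exact (presheafToSheaf J AddCommGrpCat.{u})) U p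
        (e S.X₃ p (refH Y Y' f S.X₃ p x))
    rw [refH_δ Y Y' f S hC' (cechSES Y S hS)]
    exact he.delta S hS (cechSES Y S hS) p _

theorem edgeSh_refine {e' : ∀ (P : Cᵒᵖ ⥤ AddCommGrpCat.{u}) (p : ℕ),
    CohCx.cechH P Y' p →+ CohSite.HU (CechEdge.shf J P) p U}
    (he : CechEdge.IsEdge J Y e) (he' : CechEdge.IsEdge J Y' e')
    (F : Sheaf J AddCommGrpCat.{u}) (p : ℕ) (x : CohCx.cechH F.obj Y' p) :
    CechEdge.edgeSh e F p
        ((HomologicalComplex.homologyMap (CohCx.cechRefine F.obj f) p).hom x) =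
      CechEdge.edgeSh e' F p x := by
  have h := isEdge_unique he' (isEdge_refine Y Y' f he he'.cover)
  subst h
  rfl

end Groth.Agent.Lib.CechEdgeRefine
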