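import Mathlib

set_option autoImplicit false
set_option linter.style.haveILetI false
set_option linter.unusedSectionVars false

universe v u v₁ v₂ v₃ v₄ u₁ u₂ u₃ u₄

open CategoryTheory CategoryTheory.Limits Opposite

namespace Groth.Agent.Lib.TruncKanH4

/-! ### finiteness -/

noncomputable def finCatOfFinite (J : Type) [SmallCategory J] [Finite J]
    [∀ j j' : J, Finite (j ⟶ j')] : FinCategory J where
  fintypeObj := Fintype.ofFinite J
  fintypeHom := fun j j' => Fintype.ofFinite (j ⟶ j')

instance finite_truncated (m : ℕ) : Finite (SimplexCategory.Truncated m) := by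
  apply Finite.of_injective (fun a : SimplexCategory.Truncated m =>
    (⟨a.obj.len, Nat.lt_succ_of_le a.property⟩ : Fin (m + 1)))
  intro a b hab
  have h' : a.obj.len = b.obj.len := congrArg Fin.val hab
  obtain ⟨ao, ap⟩ := a
  obtain ⟨bo, bp⟩ := b
  have : ao = bo := SimplexCategory.ext h'
  subst this
  rfl

instance finite_truncated_hom (m : ℕ) (a b : SimplexCategory.Truncated m) : Finite (a ⟶ b) :=
  Finite.of_injective (fun f : a ⟶ b => f.hom) (fun _ _ h => ObjectProperty.hom_ext _ h)

instance finite_op' (α : Type u₁) [Finite α] : Finite αᵒᵖ :=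
  Finite.of_equiv α Opposite.equivToOpposite

instance finite_op_hom {C : Type u₁} [Category.{v₁} C] [∀ a b : C, Finite (a ⟶ b)]
    (X Y : Cᵒᵖ) : Finite (X ⟶ Y) :=
  Finite.of_equiv _ (opEquiv X Y).symm

instance finite_structuredArrow {C : Type u₁} {D : Type u₂} [Category.{v₁} C] [Category.{v₂} D]
    (S : D) (T : C ⥤ D) [Finite C] [∀ a b : D, Finite (a ⟶ b)] :
    Finite (StructuredArrow S T) :=
  Finite.of_surjective (fun p : Σ Y : C, (S ⟶ T.obj Y) => StructuredArrow.mk p.2)
    (fun X => ⟨⟨X.right, X.hom⟩, (StructuredArrow.eq_mk X).symm⟩)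

instance finite_structuredArrow_hom {C : Type u₁} {D : Type u₂} [Category.{v₁} C]
    [Category.{v₂} D] (S : D) (T : C ⥤ D) [∀ a b : C, Finite (a ⟶ b)]
    (X Y : StructuredArrow S T) : Finite (X ⟶ Y) :=
  Finite.of_injective (fun f : X ⟶ Y => f.right) (fun f g h => StructuredArrow.hom_ext f g h)

instance finite_costructuredArrow {C : Type u₁} {D : Type u₂} [Category.{v₁} C]
    [Category.{v₂} D] (S : C ⥤ D) (T : D) [Finite C] [∀ a b : D, Finite (a ⟶ b)] :
    Finite (CostructuredArrow S T) :=
  Finite.of_surjective (fun p : Σ Y : C, (S.obj Y ⟶ T) => CostructuredArrow.mk p.2)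
    (fun X => ⟨⟨X.left, X.hom⟩, (CostructuredArrow.eq_mk X).symm⟩)

instance finite_costructuredArrow_hom {C : Type u₁} {D : Type u₂} [Category.{v₁} C]
    [Category.{v₂} D] (S : C ⥤ D) (T : D) [∀ a b : C, Finite (a ⟶ b)]
    (X Y : CostructuredArrow S T) : Finite (X ⟶ Y) :=
  Finite.of_injective (fun f : X ⟶ Y => f.left) (fun f g h => CostructuredArrow.hom_ext f g h)

theorem main6800 {C : Type u} [Category.{v} C] [HasFiniteLimits C] (m : ℕ)
    (U : (SimplexCategory.Truncated m)ᵒᵖ ⥤ C) :
    (SimplexCategory.Truncated.inclusion m).op.HasPointwiseRightKanExtension U := by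
  intro Y
  letI : FinCategory (StructuredArrow Y (SimplexCategory.Truncated.inclusion m).op) :=
    finCatOfFinite _
  show HasLimit (StructuredArrow.proj Y (SimplexCategory.Truncated.inclusion m).op ⋙ U)
  infer_instance

theorem main6810 {C : Type u} [Category.{v} C] [HasFiniteColimits C] (m : ℕ)
    (U : (SimplexCategory.Truncated m)ᵒᵖ ⥤ C) :
    (SimplexCategory.Truncated.inclusion m).op.HasPointwiseLeftKanExtension U := by
  intro Y
  letI : FinCategory (CostructuredArrow (SimplexCategory.Truncated.inclusion m).op Y) :=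
    finCatOfFinite _
  show HasColimit (CostructuredArrow.proj (SimplexCategory.Truncated.inclusion m).op Y ⋙ U)
  infer_instance

/-! ### transitivity of pointwise right Kan extensions along a full functor -/

section General

variable {A : Type u₁} {B : Type u₂} {D : Type u₃} {H : Type u₄}
  [Category.{v₁} A] [Category.{v₂} B] [Category.{v₃} D] [Category.{v₄} H]
  (j : A ⥤ B) (i : B ⥤ D) (U : D ⥤ H)

def restrictCone (Y : D) (s : Cone (StructuredArrow.proj Y i ⋙ (i ⋙ U))) :
    Cone (StructuredArrow.proj Y (j ⋙ i) ⋙ ((j ⋙ i) ⋙ U)) where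
  pt := s.pt
  π :=
    { app := fun g => s.π.app (StructuredArrow.mk (Y := j.obj g.right) g.hom)
      naturality := fun g g' φ => by
        have hw : g.hom ≫ i.map (j.map φ.right) = g'.hom := StructuredArrow.w φ
        have e : s.π.app (StructuredArrow.mk (Y := j.obj g.right) g.hom) ≫
            U.map (i.map (j.map φ.right)) =
            s.π.app (StructuredArrow.mk (Y := j.obj g'.right) g'.hom) :=
          s.w (StructuredArrow.homMk (f := StructuredArrow.mk (Y := j.obj g.right) g.hom)
            (f' := StructuredArrow.mk (Y := j.obj g'.right) g'.hom) (j.map φ.right) hw)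
        show 𝟙 s.pt ≫ s.π.app (StructuredArrow.mk (Y := j.obj g'.right) g'.hom) =
          s.π.app (StructuredArrow.mk (Y := j.obj g.right) g.hom) ≫
            U.map (i.map (j.map φ.right))
        rw [Category.id_comp, e] }

noncomputable def isPointwiseOfComp [i.Full]
    (hA : (Functor.RightExtension.mk U (𝟙 ((j ⋙ i) ⋙ U))).IsPointwiseRightKanExtension) :
    (Functor.RightExtension.mk U (𝟙 (i ⋙ U))).IsPointwiseRightKanExtension := by
  intro Y
  have key : IsLimit ((Functor.RightExtension.mk U (𝟙 (i ⋙ U))).coneAt Y) :=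
    { lift := fun s => (hA Y).lift (restrictCone j i U Y s)
      fac := fun s g => by
        apply (hA (i.obj g.right)).hom_ext
        intro k
        have h1 : (hA Y).lift (restrictCone j i U Y s) ≫
            (U.map (g.hom ≫ k.hom) ≫ 𝟙 _) =
            s.π.app (StructuredArrow.mk (Y := j.obj k.right) (g.hom ≫ k.hom)) :=
          (hA Y).fac (restrictCone j i U Y s)
            (StructuredArrow.mk (Y := k.right) (g.hom ≫ k.hom))
        have h2 : s.π.app g ≫ U.map (i.map (i.preimage k.hom)) =
            s.π.app (StructuredArrow.mk (Y := j.obj k.right) (g.hom ≫ k.hom)) :=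
          s.w (StructuredArrow.homMk (f := g)
            (f' := StructuredArrow.mk (Y := j.obj k.right) (g.hom ≫ k.hom)) (i.preimage k.hom)
            (by simp))
        rw [i.map_preimage] at h2
        rw [Category.comp_id] at h1
        change ((hA Y).lift (restrictCone j i U Y s) ≫
            (U.map g.hom ≫ 𝟙 _)) ≫ (U.map k.hom ≫ 𝟙 _) =
          s.π.app g ≫ (U.map k.hom ≫ 𝟙 _)
        simp only [Category.comp_id, Category.assoc]
        have e : U.map (g.hom ≫ k.hom) = U.map g.hom ≫ U.map k.hom := U.map_comp g.hom k.hom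
        exact ((congrArg (fun z => (hA Y).lift (restrictCone j i U Y s) ≫ z) e).symm.trans
          h1).trans h2.symm
      uniq := fun s t ht => by
        apply (hA Y).uniq (restrictCone j i U Y s) t
        intro k
        exact ht (StructuredArrow.mk (Y := j.obj k.right) k.hom) }
  exact key

end General

theorem main6811 {C : Type u} [Category.{v} C] [HasFiniteLimits C] (U : SimplicialObject C)
    {n m : ℕ} (h : n ≤ m) [U.IsCoskeletal n] : U.IsCoskeletal m := by
  haveI hpw : (SimplexCategory.Truncated.inclusion n).op.HasPointwiseRightKanExtension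
      ((SimplexCategory.Truncated.inclusion n).op ⋙ U) := main6800 n _
  have hA : (Functor.RightExtension.mk U
      (𝟙 ((SimplexCategory.Truncated.inclusion n).op ⋙ U))).IsPointwiseRightKanExtension :=
    Functor.isPointwiseRightKanExtensionOfIsRightKanExtension U (𝟙 _)
  have hA' : (Functor.RightExtension.mk U
      (𝟙 (((SimplexCategory.Truncated.incl n m h).op ⋙
        (SimplexCategory.Truncated.inclusion m).op) ⋙ U))).IsPointwiseRightKanExtension := hA
  haveI : (SimplexCategory.Truncated.inclusion m).op.Full :=
    (SimplexCategory.Truncated.inclusion.fullyFaithful m).full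
  exact ⟨(isPointwiseOfComp (SimplexCategory.Truncated.incl n m h).op
    (SimplexCategory.Truncated.inclusion m).op U hA').isRightKanExtension⟩

theorem main6813 {C : Type u} [Category.{v} C] [HasFiniteLimits C] (X : C) (k : ℕ) (hk : 1 ≤ k)
    (V : SimplicialObject (Over X)) [V.IsCoskeletal k] :
    SimplicialObject.IsCoskeletal (V ⋙ Over.forget X) k := by
  haveI : NeZero k := ⟨by omega⟩
  haveI hpw : (SimplexCategory.Truncated.inclusion k).op.HasPointwiseRightKanExtension
      ((SimplexCategory.Truncated.inclusion k).op ⋙ V) := main6800 k _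
  have hV : (Functor.RightExtension.mk V
      (𝟙 ((SimplexCategory.Truncated.inclusion k).op ⋙ V))).IsPointwiseRightKanExtension :=
    Functor.isPointwiseRightKanExtensionOfIsRightKanExtension V (𝟙 _)
  have hW : (Functor.RightExtension.mk (V ⋙ Over.forget X)
      (𝟙 ((SimplexCategory.Truncated.inclusion k).op ⋙ V ⋙ Over.forget X))).IsPointwiseRightKanExtension := by
    intro Y
    haveI : IsConnected (StructuredArrow Y (SimplexCategory.Truncated.inclusion k).op) :=
      Functor.Final.out Y
    have h1 := isLimitOfPreserves (Over.forget X) (hV Y)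
    have key : IsLimit ((Functor.RightExtension.mk (V ⋙ Over.forget X)
        (𝟙 ((SimplexCategory.Truncated.inclusion k).op ⋙ V ⋙ Over.forget X))).coneAt Y) :=
      IsLimit.ofIsoLimit h1 (Cone.ext (Iso.refl _) (fun g => by
        change (Over.forget X).map (V.map g.hom ≫ 𝟙 _) =
          𝟙 _ ≫ ((V ⋙ Over.forget X).map g.hom ≫ 𝟙 _)
        simp only [Category.comp_id, Category.id_comp, Functor.comp_map]))
    exact key
  exact ⟨hW.isRightKanExtension⟩

end Groth.Agent.Lib.TruncKanH4
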