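import Mathlib
import Groth.Agent.Lib.TruncKan_helper4

set_option autoImplicit false
set_option linter.style.haveILetI false
set_option linter.unusedSectionVars false
set_option linter.unusedVariables false
set_option backward.isDefEq.respectTransparency false
set_option backward.isDefEq.respectTransparency.types false

/-! # Projections of the coskeleton `cosk_m sk_m M` and their basic properties -/

universe v u

open CategoryTheory CategoryTheory.Limits Opposite Simplicial

namespace Groth.Agent.Lib.CoskPrH7

variable {E : Type u} [Category.{v} E] (m : ℕ)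
  [∀ (F : (SimplexCategory.Truncated m)ᵒᵖ ⥤ E),
    (SimplexCategory.Truncated.inclusion m).op.HasRightKanExtension F]

/-- `cosk_m sk_m M`. -/
noncomputable abbrev ck (M : SimplicialObject E) : SimplicialObject E :=
  (SimplicialObject.truncation m ⋙ SimplicialObject.Truncated.cosk m).obj M

/-- the counit `sk_m cosk_m sk_m M ⟶ sk_m M`. -/
noncomputable abbrev cu (M : SimplicialObject E) :
    (SimplexCategory.Truncated.inclusion m).op ⋙ ck m M ⟶ (SimplicialObject.truncation m).obj M :=
  (SimplicialObject.coskAdj m).counit.app ((SimplicialObject.truncation m).obj M)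

/-- the component of the counit. -/
noncomputable def cuk (M : SimplicialObject E) (k : SimplexCategory) (hk : k.len ≤ m) :
    (ck m M).obj (op k) ⟶ M.obj (op k) :=
  (cu m M).app (op (⟨k, hk⟩ : SimplexCategory.Truncated m))

/-- the projection `(cosk_m sk_m M)_j ⟶ M_k` attached to `a : k ⟶ j`, `k.len ≤ m`. -/
noncomputable def pr (M : SimplicialObject E) (k : SimplexCategory) (hk : k.len ≤ m)
    {j : SimplexCategory} (a : k ⟶ j) : (ck m M).obj (op j) ⟶ M.obj (op k) :=
  (ck m M).map a.op ≫ cuk m M k hk

lemma cuk_nat (M : SimplicialObject E) {k k' : SimplexCategory} (hk : k.len ≤ m)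
    (hk' : k'.len ≤ m) (τ : k' ⟶ k) :
    (ck m M).map τ.op ≫ cuk m M k' hk' = cuk m M k hk ≫ M.map τ.op :=
  (cu m M).naturality (ObjectProperty.homMk τ :
    (⟨k', hk'⟩ : SimplexCategory.Truncated m) ⟶ ⟨k, hk⟩).op

lemma unit_cuk (M : SimplicialObject E) (k : SimplexCategory) (hk : k.len ≤ m) :
    ((SimplicialObject.coskAdj m).unit.app M).app (op k) ≫ cuk m M k hk = 𝟙 (M.obj (op k)) := by
  have h2 := congrArg (fun t => NatTrans.app t (op (⟨k, hk⟩ : SimplexCategory.Truncated m)))
    ((SimplicialObject.coskAdj m).left_triangle_components M)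
  exact h2

lemma unit_pr (M : SimplicialObject E) (k : SimplexCategory) (hk : k.len ≤ m)
    {j : SimplexCategory} (a : k ⟶ j) :
    ((SimplicialObject.coskAdj m).unit.app M).app (op j) ≫ pr m M k hk a = M.map a.op := by
  have h1 : M.map a.op ≫ ((SimplicialObject.coskAdj m).unit.app M).app (op k) =
      ((SimplicialObject.coskAdj m).unit.app M).app (op j) ≫ (ck m M).map a.op :=
    ((SimplicialObject.coskAdj m).unit.app M).naturality a.op
  unfold pr
  rw [← Category.assoc, ← h1, Category.assoc, unit_cuk, Category.comp_id]

lemma map_cuk {M L : SimplicialObject E} (b : M ⟶ L) (k : SimplexCategory) (hk : k.len ≤ m) :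
    ((SimplicialObject.truncation m ⋙ SimplicialObject.Truncated.cosk m).map b).app (op k) ≫
      cuk m L k hk = cuk m M k hk ≫ b.app (op k) := by
  have h := congrArg (fun t => NatTrans.app t (op (⟨k, hk⟩ : SimplexCategory.Truncated m)))
    ((SimplicialObject.coskAdj m).counit.naturality ((SimplicialObject.truncation m).map b))
  exact h

lemma map_pr {M L : SimplicialObject E} (b : M ⟶ L) (k : SimplexCategory) (hk : k.len ≤ m)
    {j : SimplexCategory} (a : k ⟶ j) :
    ((SimplicialObject.truncation m ⋙ SimplicialObject.Truncated.cosk m).map b).app (op j) ≫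
      pr m L k hk a = pr m M k hk a ≫ b.app (op k) := by
  have h1 : (ck m M).map a.op ≫
      ((SimplicialObject.truncation m ⋙ SimplicialObject.Truncated.cosk m).map b).app (op k) =
      ((SimplicialObject.truncation m ⋙ SimplicialObject.Truncated.cosk m).map b).app (op j) ≫
        (ck m L).map a.op :=
    ((SimplicialObject.truncation m ⋙ SimplicialObject.Truncated.cosk m).map b).naturality a.op
  unfold pr
  rw [← Category.assoc, ← h1, Category.assoc, map_cuk, Category.assoc]

lemma pr_comp (M : SimplicialObject E) {k k' : SimplexCategory} (hk : k.len ≤ m)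
    (hk' : k'.len ≤ m) (γ : k' ⟶ k) {j : SimplexCategory} (a : k ⟶ j) :
    pr m M k' hk' (γ ≫ a) = pr m M k hk a ≫ M.map γ.op := by
  unfold pr
  rw [op_comp, Functor.map_comp, Category.assoc, cuk_nat m M hk hk' γ, Category.assoc]

section FiniteLimits

variable [HasFiniteLimits E]

lemma pr_hom_ext (M : SimplicialObject E) {T : E} {j : SimplexCategory}
    (f g : T ⟶ (ck m M).obj (op j))
    (h : ∀ (k : SimplexCategory) (hk : k.len ≤ m) (a : k ⟶ j),
      f ≫ pr m M k hk a = g ≫ pr m M k hk a) : f = g := by
  haveI : (SimplexCategory.Truncated.inclusion m).op.HasPointwiseRightKanExtension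
      ((SimplicialObject.truncation m).obj M) := Groth.Agent.Lib.TruncKanH4.main6800 m _
  have hP := Functor.isPointwiseRightKanExtensionOfIsRightKanExtension (ck m M) (cu m M)
  refine IsLimit.hom_ext (hP (op j)) (fun s => ?_)
  exact h s.right.unop.obj s.right.unop.property s.hom.unop

/-- a compatible family of maps into the `M_k` lifts to the coskeleton. -/
lemma pr_lift (M : SimplicialObject E) {T : E} {j : SimplexCategory}
    (c : ∀ (k : SimplexCategory) (hk : k.len ≤ m) (a : k ⟶ j), T ⟶ M.obj (op k))
    (hc : ∀ (k k' : SimplexCategory) (hk : k.len ≤ m) (hk' : k'.len ≤ m) (γ : k' ⟶ k)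
      (a : k ⟶ j), c k hk a ≫ M.map γ.op = c k' hk' (γ ≫ a)) :
    ∃ f : T ⟶ (ck m M).obj (op j), ∀ (k : SimplexCategory) (hk : k.len ≤ m) (a : k ⟶ j),
      f ≫ pr m M k hk a = c k hk a := by
  haveI : (SimplexCategory.Truncated.inclusion m).op.HasPointwiseRightKanExtension
      ((SimplicialObject.truncation m).obj M) := Groth.Agent.Lib.TruncKanH4.main6800 m _
  have hP := Functor.isPointwiseRightKanExtensionOfIsRightKanExtension (ck m M) (cu m M)
  let s : Cone (StructuredArrow.proj (op j) (SimplexCategory.Truncated.inclusion m).op ⋙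
      (SimplicialObject.truncation m).obj M) :=
    { pt := T
      π :=
        { app := fun s => c s.right.unop.obj s.right.unop.property s.hom.unop
          naturality := fun s s' t => by
            have hw : s'.hom.unop = t.right.unop.hom ≫ s.hom.unop :=
              congrArg Quiver.Hom.unop (StructuredArrow.w t).symm
            have h1 := hc s.right.unop.obj s'.right.unop.obj s.right.unop.property
              s'.right.unop.property t.right.unop.hom s.hom.unop
            rw [← hw] at h1
            exact (Category.id_comp _).trans h1.symm } }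
  refine ⟨(hP (op j)).lift s, fun k hk a => ?_⟩
  exact (hP (op j)).fac s (StructuredArrow.mk (Y := op (⟨k, hk⟩ : SimplexCategory.Truncated m)) a.op)

end FiniteLimits

end Groth.Agent.Lib.CoskPrH7
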