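import Mathlib
import Groth.Prelude.Def_Hyper

set_option autoImplicit false
set_option linter.style.haveILetI false
set_option linter.unusedSectionVars false
set_option linter.unusedVariables false
set_option backward.isDefEq.respectTransparency false
set_option backward.isDefEq.respectTransparency.types false

/-! # SR-coverings via the local lifting property of points

`u : Z ⟶ W` in `FormalCoproduct D` is an SR-covering iff every point `incl T ⟶ W` lifts to `Z`
locally on `T`. -/

universe u

namespace Groth.Agent.Lib.SRLiftH7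

open CategoryTheory CategoryTheory.Limits

variable {D : Type u} [SmallCategory D] (J : GrothendieckTopology D)

/-- the sieve of maps along which the point `t` lifts through `u`. -/
def liftSieve {Z W : FormalCoproduct.{u} D} (u : Z ⟶ W) {T : D}
    (t : (FormalCoproduct.incl D).obj T ⟶ W) : Sieve T where
  arrows T' g := ∃ z : (FormalCoproduct.incl D).obj T' ⟶ Z,
    z ≫ u = (FormalCoproduct.incl D).map g ≫ t
  downward_closed := by
    rintro Y Y' g ⟨z, hz⟩ h
    refine ⟨(FormalCoproduct.incl D).map h ≫ z, ?_⟩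
    rw [Category.assoc, hz, Functor.map_comp, Category.assoc]

lemma liftSieve_apply {Z W : FormalCoproduct.{u} D} (u : Z ⟶ W) {T T' : D}
    (t : (FormalCoproduct.incl D).obj T ⟶ W) (g : T' ⟶ T) :
    (liftSieve u t).arrows g ↔ ∃ z : (FormalCoproduct.incl D).obj T' ⟶ Z,
      z ≫ u = (FormalCoproduct.incl D).map g ≫ t := Iff.rfl

/-- local lifting property. -/
def LocLift {Z W : FormalCoproduct.{u} D} (u : Z ⟶ W) : Prop :=
  ∀ (T : D) (t : (FormalCoproduct.incl D).obj T ⟶ W), liftSieve u t ∈ J T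

theorem locLift_of_srcov {Z W : FormalCoproduct.{u} D} (u : Z ⟶ W)
    (hu : Hyper.IsSRCovering J u) : LocLift J u := by
  intro T t
  refine J.superset_covering ?_ (J.pullback_stable (t.φ PUnit.unit) (hu (t.f PUnit.unit)))
  intro T' g hg
  obtain ⟨⟨i, hi⟩, c, hc⟩ := (Sieve.mem_ofArrows_iff _ _ _).1 hg
  refine ⟨FormalCoproduct.Hom.fromIncl i c, ?_⟩
  refine FormalCoproduct.hom_ext ?_ ?_
  · funext x
    exact hi
  · intro x
    cases x
    have : (c ≫ u.φ i) ≫ eqToHom (congrArg W.obj hi) = g ≫ t.φ PUnit.unit := by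
      rw [Category.assoc]; exact hc.symm
    exact this

theorem srcov_of_locLift {Z W : FormalCoproduct.{u} D} (u : Z ⟶ W)
    (hu : LocLift J u) : Hyper.IsSRCovering J u := by
  intro j
  refine J.superset_covering ?_ (hu (W.obj j) (FormalCoproduct.Hom.fromIncl j (𝟙 _)))
  intro T' g hg
  obtain ⟨z, hz⟩ := hg
  obtain ⟨h1, h2⟩ := (FormalCoproduct.hom_ext_iff' _ _).1 hz PUnit.unit
  have h1' : u.f (z.f PUnit.unit) = j := h1
  refine (Sieve.mem_ofArrows_iff _ _ _).2 ⟨⟨z.f PUnit.unit, h1'⟩, z.φ PUnit.unit, ?_⟩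
  have h3 : (z.φ PUnit.unit ≫ u.φ (z.f PUnit.unit)) ≫ eqToHom (congrArg W.obj h1') = g ≫ 𝟙 _ := h2
  rw [Category.comp_id, Category.assoc] at h3
  exact h3.symm

theorem srcov_iff_locLift {Z W : FormalCoproduct.{u} D} (u : Z ⟶ W) :
    Hyper.IsSRCovering J u ↔ LocLift J u :=
  ⟨locLift_of_srcov J u, srcov_of_locLift J u⟩

/-- finitely many covering sieves have a common covering refinement. -/
lemma exists_common_refinement {T : D} {ι : Type*} [Finite ι] (S : ι → Sieve T)
    (h : ∀ i, S i ∈ J T) :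
    ∃ R : Sieve T, R ∈ J T ∧ ∀ {Y : D} (g : Y ⟶ T), R.arrows g → ∀ i, (S i).arrows g := by
  classical
  cases nonempty_fintype ι
  have key : ∀ s : Finset ι,
      ∃ R : Sieve T, R ∈ J T ∧ ∀ {Y : D} (g : Y ⟶ T), R.arrows g → ∀ i ∈ s, (S i).arrows g := by
    intro s
    induction s using Finset.induction_on with
    | empty => exact ⟨⊤, J.top_mem T, fun g _ i hi => absurd hi (Finset.notMem_empty i)⟩
    | insert a s ha ih =>
      obtain ⟨R, hR, hR'⟩ := ih
      refine ⟨S a ⊓ R, J.intersection_covering (h a) hR, ?_⟩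
      intro Y g hg i hi
      rcases Finset.mem_insert.1 hi with rfl | hi'
      · exact hg.1
      · exact hR' g hg.2 i hi'
  obtain ⟨R, hR, hR'⟩ := key Finset.univ
  exact ⟨R, hR, fun g hg i => hR' g hg i (Finset.mem_univ i)⟩

end Groth.Agent.Lib.SRLiftH7
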