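import Mathlib
import Groth.Prelude.Def_Hyper
import Groth.Agent.Lib.SRLift_helper7
import Groth.Agent.Lib.CoskPr_helper7

set_option autoImplicit false
set_option linter.style.haveILetI false
set_option linter.unusedSectionVars false
set_option linter.unusedVariables false
set_option backward.isDefEq.respectTransparency false
set_option backward.isDefEq.respectTransparency.types false
set_option maxHeartbeats 1600000

/-! # The simplicial object `R n Z = Hom(C[n], Z)` (right adjoint of evaluation at `[n]`)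
and the relative covering property of `R n u` for a covering `u`. -/

universe v u

open CategoryTheory CategoryTheory.Limits Opposite Simplicial

namespace Groth.Agent.Lib.HomCkH7

open Groth.Agent.Lib.SRLiftH7 Groth.Agent.Lib.CoskPrH7

section R

variable {𝒜 : Type u} [Category.{v} 𝒜] [HasFiniteProducts 𝒜]

/-- the constant family. -/
abbrev fam (n : ℕ) (Z : 𝒜) (k : SimplexCategory) : (⦋n⦌ ⟶ k) → 𝒜 := fun _ => Z

/-- `R n Z : k ↦ ∏_{α : [n] ⟶ k} Z`. -/
noncomputable def R (n : ℕ) (Z : 𝒜) : SimplicialObject 𝒜 where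
  obj k := ∏ᶜ fam n Z k.unop
  map {k k'} θ := Pi.lift (fun α => Pi.π (fam n Z k.unop) (α ≫ θ.unop))
  map_id k := by
    refine Limits.Pi.hom_ext (f := fam n Z k.unop) _ _ (fun α => ?_)
    rw [Limits.Pi.lift_π, Category.id_comp, unop_id, Category.comp_id]
  map_comp {k k' k''} θ θ' := by
    refine Limits.Pi.hom_ext (f := fam n Z k''.unop) _ _ (fun α => ?_)
    rw [Limits.Pi.lift_π, Category.assoc, Limits.Pi.lift_π, Limits.Pi.lift_π, unop_comp,
      Category.assoc]

lemma R_map_π (n : ℕ) (Z : 𝒜) {k k' : SimplexCategoryᵒᵖ} (θ : k ⟶ k') (α : ⦋n⦌ ⟶ k'.unop) :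
    (R n Z).map θ ≫ Pi.π (fam n Z k'.unop) α = Pi.π (fam n Z k.unop) (α ≫ θ.unop) :=
  Limits.Pi.lift_π _ _

/-- functoriality of `R n` -/
noncomputable def Rmap (n : ℕ) {Z W : 𝒜} (u : Z ⟶ W) : R n Z ⟶ R n W where
  app k := Pi.lift (fun α => Pi.π (fam n Z k.unop) α ≫ u)
  naturality k k' θ := by
    refine Limits.Pi.hom_ext (f := fam n W k'.unop) _ _ (fun α => ?_)
    rw [Category.assoc, Category.assoc, Limits.Pi.lift_π, R_map_π, Limits.Pi.lift_π,
      ← Category.assoc, R_map_π]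

lemma Rmap_app_π (n : ℕ) {Z W : 𝒜} (u : Z ⟶ W) (k : SimplexCategoryᵒᵖ) (α : ⦋n⦌ ⟶ k.unop) :
    (Rmap n u).app k ≫ Pi.π (fam n W k.unop) α = Pi.π (fam n Z k.unop) α ≫ u :=
  Limits.Pi.lift_π _ _

/-- the unit `K ⟶ R n K_n`. -/
noncomputable def eta (n : ℕ) (K : SimplicialObject 𝒜) : K ⟶ R n (K.obj (op ⦋n⦌)) where
  app k := Pi.lift (fun α : ⦋n⦌ ⟶ k.unop => (K.map α.op : K.obj k ⟶ K.obj (op ⦋n⦌)))
  naturality k k' θ := by
    refine Limits.Pi.hom_ext (f := fam n (K.obj (op ⦋n⦌)) k'.unop) _ _ (fun α => ?_)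
    rw [Category.assoc, Limits.Pi.lift_π, Category.assoc, R_map_π, Limits.Pi.lift_π,
      ← K.map_comp]
    rfl

lemma eta_app_π (n : ℕ) (K : SimplicialObject 𝒜) (k : SimplexCategoryᵒᵖ) (α : ⦋n⦌ ⟶ k.unop) :
    (eta n K).app k ≫ Pi.π (fam n (K.obj (op ⦋n⦌)) k.unop) α = K.map α.op :=
  Limits.Pi.lift_π _ _

end R

section Rel

variable {D : Type u} [SmallCategory D] [HasFiniteLimits (FormalCoproduct.{u} D)]
  (J : GrothendieckTopology D) (n m : ℕ)
  [∀ (F : (SimplexCategory.Truncated m)ᵒᵖ ⥤ FormalCoproduct.{u} D),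
    (SimplexCategory.Truncated.inclusion m).op.HasRightKanExtension F]
  {Z W : FormalCoproduct.{u} D} (u : Z ⟶ W)

/-- the `β`-component of the `(k, a)`-projection of a point of the coskeleton of `R n Z`. -/
noncomputable def yy {T : FormalCoproduct.{u} D} {j : SimplexCategory}
    (y : T ⟶ (ck m (R n Z)).obj (op j))
    (k : SimplexCategory) (hk : k.len ≤ m) (a : k ⟶ j) (β : ⦋n⦌ ⟶ k) : T ⟶ Z :=
  y ≫ pr m (R n Z) k hk a ≫ Pi.π (fam n Z k) β

lemma yy_comp {T : FormalCoproduct.{u} D} {j : SimplexCategory}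
    (y : T ⟶ (ck m (R n Z)).obj (op j))
    {k k' : SimplexCategory} (hk : k.len ≤ m) (hk' : k'.len ≤ m) (γ : k' ⟶ k) (a : k ⟶ j)
    (β' : ⦋n⦌ ⟶ k') :
    yy n m y k' hk' (γ ≫ a) β' = yy n m y k hk a (β' ≫ γ) := by
  unfold yy
  rw [pr_comp m (R n Z) hk hk' γ a, Category.assoc]
  have h : (R n Z).map γ.op ≫ Pi.π (fam n Z k') β' = Pi.π (fam n Z k) (β' ≫ γ) :=
    R_map_π n Z γ.op β'
  rw [h]

/-- the canonical value attached to `α : [n] ⟶ j` with small image. -/
noncomputable def canon {T : FormalCoproduct.{u} D} {j : SimplexCategory}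
    (y : T ⟶ (ck m (R n Z)).obj (op j)) (α : ⦋n⦌ ⟶ j) (h0 : (image α).len ≤ m) : T ⟶ Z :=
  yy n m y (image α) h0 (image.ι α) (factorThruImage α)

lemma yy_epi_mono {T : FormalCoproduct.{u} D} {j : SimplexCategory}
    (y : T ⟶ (ck m (R n Z)).obj (op j)) (α : ⦋n⦌ ⟶ j)
    (k2 : SimplexCategory) (hk2 : k2.len ≤ m) (e : ⦋n⦌ ⟶ k2) [Epi e] (i : k2 ⟶ j) [Mono i]
    (fac : e ≫ i = α) (h0 : (image α).len ≤ m) :
    yy n m y k2 hk2 i e = canon n m y α h0 := by
  have h : image α = k2 := SimplexCategory.image_eq fac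
  subst h
  have h1 : image.ι α = i := SimplexCategory.image_ι_eq fac
  have h2 : factorThruImage α = e := SimplexCategory.factorThruImage_eq fac
  subst h1
  subst h2
  rfl

lemma canon_congr {T : FormalCoproduct.{u} D} {j : SimplexCategory}
    (y : T ⟶ (ck m (R n Z)).obj (op j)) {α α' : ⦋n⦌ ⟶ j} (h : α = α')
    (h0 : (image α).len ≤ m) (h0' : (image α').len ≤ m) :
    canon n m y α h0 = canon n m y α' h0' := by
  subst h
  rfl

lemma len_image_le {j k : SimplexCategory} (a : k ⟶ j) (β : ⦋n⦌ ⟶ k) :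
    (image (β ≫ a)).len ≤ k.len := by
  have fac : (factorThruImage (β ≫ factorThruImage a)) ≫
      (image.ι (β ≫ factorThruImage a) ≫ image.ι a) = β ≫ a := by
    rw [← Category.assoc, image.fac, Category.assoc, image.fac]
  have h : image (β ≫ a) = image (β ≫ factorThruImage a) := SimplexCategory.image_eq fac
  rw [h]
  exact le_trans (SimplexCategory.len_le_of_mono (image.ι (β ≫ factorThruImage a)))
    (SimplexCategory.len_le_of_epi (factorThruImage a))

lemma yy_canon {T : FormalCoproduct.{u} D} {j : SimplexCategory}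
    (y : T ⟶ (ck m (R n Z)).obj (op j))
    (k : SimplexCategory) (hk : k.len ≤ m) (a : k ⟶ j) (β : ⦋n⦌ ⟶ k)
    (h0 : (image (β ≫ a)).len ≤ m) :
    yy n m y k hk a β = canon n m y (β ≫ a) h0 := by
  have hk1 : (image a).len ≤ m := le_trans (SimplexCategory.len_le_of_epi (factorThruImage a)) hk
  have eA : yy n m y k hk a β = yy n m y (image a) hk1 (image.ι a) (β ≫ factorThruImage a) := by
    have h := yy_comp n m y hk1 hk (factorThruImage a) (image.ι a) β
    rw [image.fac] at h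
    exact h
  have hk2 : (image (β ≫ factorThruImage a)).len ≤ m :=
    le_trans (SimplexCategory.len_le_of_mono (image.ι (β ≫ factorThruImage a))) hk1
  have eB : yy n m y (image a) hk1 (image.ι a) (β ≫ factorThruImage a) =
      yy n m y (image (β ≫ factorThruImage a)) hk2
        (image.ι (β ≫ factorThruImage a) ≫ image.ι a)
        (factorThruImage (β ≫ factorThruImage a)) := by
    have h := yy_comp n m y hk1 hk2 (image.ι (β ≫ factorThruImage a)) (image.ι a)
      (factorThruImage (β ≫ factorThruImage a))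
    rw [image.fac] at h
    exact h.symm
  have fac : (factorThruImage (β ≫ factorThruImage a)) ≫
      (image.ι (β ≫ factorThruImage a) ≫ image.ι a) = β ≫ a := by
    rw [← Category.assoc, image.fac, Category.assoc, image.fac]
  have eC := yy_epi_mono n m y (β ≫ a) (image (β ≫ factorThruImage a)) hk2
    (factorThruImage (β ≫ factorThruImage a))
    (image.ι (β ≫ factorThruImage a) ≫ image.ι a) fac h0
  rw [eA, eB, eC]

variable {n m}

/-- `yy ≫ u` is the component of the `R n W`-point. -/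
lemma yy_u {T : FormalCoproduct.{u} D} {j : SimplexCategory}
    (x : T ⟶ (R n W).obj (op j)) (y : T ⟶ (ck m (R n Z)).obj (op j))
    (hxy : x ≫ ((SimplicialObject.coskAdj m).unit.app (R n W)).app (op j) =
      y ≫ ((SimplicialObject.truncation m ⋙ SimplicialObject.Truncated.cosk m).map
        (Rmap n u)).app (op j))
    (k : SimplexCategory) (hk : k.len ≤ m) (a : k ⟶ j) (β : ⦋n⦌ ⟶ k) :
    yy n m y k hk a β ≫ u = x ≫ Pi.π (fam n W j) (β ≫ a) := by
  have e1 : (x ≫ ((SimplicialObject.coskAdj m).unit.app (R n W)).app (op j)) ≫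
      pr m (R n W) k hk a = x ≫ (R n W).map a.op := by
    rw [Category.assoc, unit_pr]
  have e2 : (y ≫ ((SimplicialObject.truncation m ⋙ SimplicialObject.Truncated.cosk m).map
      (Rmap n u)).app (op j)) ≫ pr m (R n W) k hk a =
      y ≫ pr m (R n Z) k hk a ≫ (Rmap n u).app (op k) := by
    rw [Category.assoc, map_pr]
  rw [hxy, e2] at e1
  have e3 : (R n W).map a.op ≫ Pi.π (fam n W k) β = Pi.π (fam n W j) (β ≫ a) :=
    R_map_π n W a.op β
  have e4 : (Rmap n u).app (op k) ≫ Pi.π (fam n W k) β = Pi.π (fam n Z k) β ≫ u :=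
    Rmap_app_π n u (op k) β
  have e5 := congrArg (fun z => z ≫ Pi.π (fam n W k) β) e1
  simp only [Category.assoc] at e5
  rw [e3, e4] at e5
  unfold yy
  simp only [Category.assoc]
  exact e5

/-- The relative covering property of `R n u`. -/
theorem locLift_gamma (hu : LocLift J u)
    (Q : FormalCoproduct.{u} D) (q1 : Q ⟶ (R n W).obj (op ⦋m + 1⦌))
    (q2 : Q ⟶ (ck m (R n Z)).obj (op ⦋m + 1⦌))
    (γ : (R n Z).obj (op ⦋m + 1⦌) ⟶ Q)
    (hpb : IsPullback q1 q2 (((SimplicialObject.coskAdj m).unit.app (R n W)).app (op ⦋m + 1⦌))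
      (((SimplicialObject.truncation m ⋙ SimplicialObject.Truncated.cosk m).map
        (Rmap n u)).app (op ⦋m + 1⦌)))
    (hγ1 : γ ≫ q1 = (Rmap n u).app (op ⦋m + 1⦌))
    (hγ2 : γ ≫ q2 = ((SimplicialObject.coskAdj m).unit.app (R n Z)).app (op ⦋m + 1⦌)) :
    LocLift J γ := by
  classical
  intro T t
  have hxy : (t ≫ q1) ≫ ((SimplicialObject.coskAdj m).unit.app (R n W)).app (op ⦋m + 1⦌) =
      (t ≫ q2) ≫ ((SimplicialObject.truncation m ⋙ SimplicialObject.Truncated.cosk m).map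
        (Rmap n u)).app (op ⦋m + 1⦌) := by
    rw [Category.assoc, Category.assoc, hpb.w]
  obtain ⟨S, hS, hS'⟩ := exists_common_refinement J
    (fun α : ⦋n⦌ ⟶ ⦋m + 1⦌ => liftSieve u ((t ≫ q1) ≫ Pi.π (fam n W ⦋m + 1⦌) α))
    (fun α => hu T _)
  refine J.superset_covering ?_ hS
  intro T' g hg
  have hl := hS' g hg
  choose zl hzl using hl
  let zc : ∀ α : ⦋n⦌ ⟶ ⦋m + 1⦌, (FormalCoproduct.incl D).obj T' ⟶ Z := fun α =>
    if h0 : (image α).len ≤ m then
      (FormalCoproduct.incl D).map g ≫ canon n m (t ≫ q2) α h0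
    else zl α
  have hzc1 : ∀ α, zc α ≫ u =
      (FormalCoproduct.incl D).map g ≫ (t ≫ q1) ≫ Pi.π (fam n W ⦋m + 1⦌) α := by
    intro α
    by_cases h0 : (image α).len ≤ m
    · have : zc α = (FormalCoproduct.incl D).map g ≫ canon n m (t ≫ q2) α h0 := dif_pos h0
      rw [this, Category.assoc]
      unfold canon
      rw [yy_u u (t ≫ q1) (t ≫ q2) hxy, image.fac]
    · have : zc α = zl α := dif_neg h0
      rw [this]
      exact hzl α
  have hzc2 : ∀ (k : SimplexCategory) (hk : k.len ≤ m) (a : k ⟶ ⦋m + 1⦌) (β : ⦋n⦌ ⟶ k),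
      zc (β ≫ a) = (FormalCoproduct.incl D).map g ≫ yy n m (t ≫ q2) k hk a β := by
    intro k hk a β
    have h0 : (image (β ≫ a)).len ≤ m := le_trans (len_image_le n a β) hk
    have : zc (β ≫ a) = (FormalCoproduct.incl D).map g ≫ canon n m (t ≫ q2) (β ≫ a) h0 :=
      dif_pos h0
    rw [this, yy_canon n m (t ≫ q2) k hk a β h0]
  refine ⟨Pi.lift zc, ?_⟩
  apply hpb.hom_ext
  · rw [Category.assoc, hγ1, Category.assoc]
    refine Limits.Pi.hom_ext (f := fam n W ⦋m + 1⦌) _ _ (fun α => ?_)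
    have e4 : (Rmap n u).app (op ⦋m + 1⦌) ≫ Pi.π (fam n W ⦋m + 1⦌) α =
        Pi.π (fam n Z ⦋m + 1⦌) α ≫ u := Rmap_app_π n u (op ⦋m + 1⦌) α
    rw [Category.assoc, e4, ← Category.assoc, Limits.Pi.lift_π, hzc1 α]
    simp only [Category.assoc]
  · rw [Category.assoc, hγ2, Category.assoc]
    apply pr_hom_ext m (R n Z)
    intro k hk a
    rw [Category.assoc, unit_pr, Category.assoc]
    refine Limits.Pi.hom_ext (f := fam n Z k) _ _ (fun β => ?_)
    have e3 : (R n Z).map a.op ≫ Pi.π (fam n Z k) β = Pi.π (fam n Z ⦋m + 1⦌) (β ≫ a) :=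
      R_map_π n Z a.op β
    rw [Category.assoc, e3, Limits.Pi.lift_π, hzc2 k hk a β]
    unfold yy
    simp only [Category.assoc]

end Rel

section Zero

variable {D : Type u} [SmallCategory D] [HasFiniteLimits (FormalCoproduct.{u} D)]
  (J : GrothendieckTopology D) (n : ℕ) {Z W : FormalCoproduct.{u} D} (u : Z ⟶ W)

/-- in degree `0` the map `R n u` is a covering. -/
theorem locLift_zero (hu : LocLift J u) : LocLift J ((Rmap n u).app (op ⦋0⦌)) := by
  intro T t
  let α0 : ⦋n⦌ ⟶ ⦋0⦌ := SimplexCategory.const ⦋n⦌ ⦋0⦌ 0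
  refine J.superset_covering ?_ (hu T (t ≫ Pi.π (fam n W ⦋0⦌) α0))
  intro T' g hg
  obtain ⟨z0, hz0⟩ := hg
  refine ⟨Pi.lift (fun _ => z0), ?_⟩
  refine Limits.Pi.hom_ext (f := fam n W ⦋0⦌) _ _ (fun α => ?_)
  have hα : α = α0 := SimplexCategory.isTerminalZero.hom_ext _ _
  rw [hα]
  have e4 : (Rmap n u).app (op ⦋0⦌) ≫ Pi.π (fam n W ⦋0⦌) α0 =
      Pi.π (fam n Z ⦋0⦌) α0 ≫ u := Rmap_app_π n u (op ⦋0⦌) α0
  rw [Category.assoc, e4, ← Category.assoc, Limits.Pi.lift_π, hz0, Category.assoc]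

end Zero

end Groth.Agent.Lib.HomCkH7
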