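import Mathlib
import Groth.Prelude.Def_Hyper

set_option autoImplicit false
set_option linter.style.haveILetI false
set_option linter.unusedSectionVars false

universe u

namespace Groth.Agent.Lib.SRCovH4

open CategoryTheory CategoryTheory.Limits

variable {C : Type u} [SmallCategory C] (J : GrothendieckTopology C)

theorem comp_cov {K L M : FormalCoproduct.{u} C} (f : K ⟶ L) (g : L ⟶ M)
    (hf : Hyper.IsSRCovering J f) (hg : Hyper.IsSRCovering J g) :
    Hyper.IsSRCovering J (f ≫ g) := by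
  intro m
  refine J.transitive (hg m) _ (fun Y h hh => ?_)
  obtain ⟨⟨l, hl⟩, a, rfl⟩ := (Sieve.mem_ofArrows_iff _ _ _).1 hh
  refine J.superset_covering ?_ (J.pullback_stable a (hf l))
  intro Z b hb
  obtain ⟨⟨i, hi⟩, c, hc⟩ := (Sieve.mem_ofArrows_iff _ _ _).1 hb
  refine (Sieve.mem_ofArrows_iff _ _ _).2
    ⟨⟨i, (by show g.f (f.f i) = m; rw [hi, hl])⟩, c, ?_⟩
  dsimp only at a c hc ⊢
  subst hi
  subst hl
  simp only [eqToHom_refl, Category.comp_id] at hc ⊢
  show b ≫ a ≫ g.φ (f.f i) = c ≫ f.φ i ≫ g.φ (f.f i)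
  rw [← Category.assoc, hc, Category.assoc]

theorem iso_cov {K L : FormalCoproduct.{u} C} (e : K ≅ L) : Hyper.IsSRCovering J e.hom := by
  intro j
  have h1 := (FormalCoproduct.hom_ext_iff' (e.inv ≫ e.hom) (𝟙 L)).1 e.inv_hom_id j
  obtain ⟨h2, h3⟩ := h1
  have h2' : e.hom.f (e.inv.f j) = j := h2
  refine J.superset_covering ?_ (J.top_mem _)
  intro Z b _
  refine (Sieve.mem_ofArrows_iff _ _ _).2 ⟨⟨e.inv.f j, h2'⟩, b ≫ e.inv.φ j, ?_⟩
  have h4 : e.inv.φ j ≫ e.hom.φ (e.inv.f j) ≫ eqToHom (congrArg L.obj h2') = 𝟙 _ := by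
    have h5 : (e.inv ≫ e.hom).φ j ≫ eqToHom (by rw [h2]) = (𝟙 L : L ⟶ L).φ j := h3
    simpa using h5
  rw [Category.assoc, h4, Category.comp_id]

theorem cone_cov [HasPullbacks C] {K L L' : FormalCoproduct.{u} C} (f : K ⟶ L) (g : L' ⟶ L)
    (hf : Hyper.IsSRCovering J f) :
    Hyper.IsSRCovering J
      (FormalCoproduct.pullbackCone g f (fun _ => pullback.cone _ _)).fst := by
  intro l'
  refine J.superset_covering ?_ (J.pullback_stable (g.φ l') (hf (g.f l')))
  intro Z b hb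
  obtain ⟨k, c, hc⟩ := (Sieve.mem_ofArrows_iff _ _ _).1 hb
  obtain ⟨k, hk⟩ := k
  have hk' : g.f l' = f.f k := hk.symm
  have hcond : b ≫ (g.φ l' ≫ eqToHom (by rw [hk'])) = c ≫ f.φ k := by
    rw [← Category.assoc, hc]
    simp
  refine (Sieve.mem_ofArrows_iff _ _ _).2 ⟨⟨⟨(l', k), hk'⟩, rfl⟩, pullback.lift b c hcond, ?_⟩
  show b = pullback.lift b c hcond ≫ pullback.fst _ _ ≫ 𝟙 _
  rw [Category.comp_id]
  exact (pullback.lift_fst b c hcond).symm

theorem base_cov [HasPullbacks C] {K L L' : FormalCoproduct.{u} C} (f : K ⟶ L) (g : L' ⟶ L)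
    (hf : Hyper.IsSRCovering J f) [HasPullback g f] :
    Hyper.IsSRCovering J (pullback.fst g f) := by
  let P := FormalCoproduct.pullbackCone g f (fun _ => pullback.cone _ _)
  have hP : IsLimit P := FormalCoproduct.isLimitPullbackCone g f _ (fun _ => pullback.isLimit _ _)
  let e : pullback g f ≅ P.pt := IsLimit.conePointUniqueUpToIso (pullback.isLimit g f) hP
  have he : e.hom ≫ P.fst = pullback.fst g f :=
    IsLimit.conePointUniqueUpToIso_hom_comp (pullback.isLimit g f) hP WalkingCospan.left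
  rw [← he]
  exact comp_cov J _ _ (iso_cov J e) (cone_cov J f g hf)

theorem main0898 :
    (∀ {K L M : FormalCoproduct.{u} C} (f : K ⟶ L) (g : L ⟶ M),
      Hyper.IsSRCovering J f → Hyper.IsSRCovering J g → Hyper.IsSRCovering J (f ≫ g)) ∧
    (∀ [HasPullbacks C] {K L L' : FormalCoproduct.{u} C} (f : K ⟶ L) (g : L' ⟶ L),
      Hyper.IsSRCovering J f → HasPullback g f ∧
        ∀ [HasPullback g f], Hyper.IsSRCovering J (pullback.fst g f)) := by
  refine ⟨fun f g hf hg => comp_cov J f g hf hg, ?_⟩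
  intro _ K L L' f g hf
  exact ⟨inferInstance, fun {_} => base_cov J f g hf⟩

end Groth.Agent.Lib.SRCovH4
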