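import Mathlib
import Groth.Prelude.Def_Hyper
import Groth.Agent.Lib.SRCov_helper4

set_option autoImplicit false
set_option linter.unusedSimpArgs false
set_option linter.unusedVariables false
set_option linter.unusedSectionVars false
set_option linter.style.longLine false
set_option linter.unnecessarySimpa false
set_option linter.deprecated false
set_option linter.style.haveILetI false
set_option maxHeartbeats 1600000
set_option backward.isDefEq.respectTransparency false
set_option backward.isDefEq.respectTransparency.types false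
set_option backward.defeqAttrib.useBackward true

universe u

noncomputable section

namespace Groth.Agent.Lib.HyperPBL

open CategoryTheory CategoryTheory.Limits Opposite

section abstract

variable {D : Type*} [Category D] [HasPullbacks D]

/-- Abstract pullback lemma: `P' = K' ×_{L'} M'`, `cP = cK ×_{cL} cM`, compatible maps `η`;
if `ηK` is a cover and the relative map `M' ⟶ L' ×_{cL} cM` is a cover then `ηP` is a cover. -/
theorem cov_unit_of_pullback (Cov : ∀ {A B : D}, (A ⟶ B) → Prop)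
    (hcomp : ∀ {A B E : D} (f : A ⟶ B) (g : B ⟶ E), Cov f → Cov g → Cov (f ≫ g))
    (hbc : ∀ {A B A' B' : D} {fst : A' ⟶ B'} {snd : A' ⟶ A} {g : B' ⟶ B} {f : A ⟶ B},
      IsPullback fst snd g f → Cov f → Cov fst)
    {K' L' M' P' cK cL cM cP : D}
    {a' : K' ⟶ L'} {b' : M' ⟶ L'} {p1' : P' ⟶ K'} {p2' : P' ⟶ M'}
    {ca : cK ⟶ cL} {cb : cM ⟶ cL} {cp1 : cP ⟶ cK} {cp2 : cP ⟶ cM}
    {ηK : K' ⟶ cK} {ηL : L' ⟶ cL} {ηM : M' ⟶ cM} {ηP : P' ⟶ cP}
    (F1 : IsPullback p1' p2' a' b') (F2 : IsPullback cp1 cp2 ca cb)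
    (nK : ηK ≫ ca = a' ≫ ηL) (nM : ηM ≫ cb = b' ≫ ηL)
    (nP1 : ηP ≫ cp1 = p1' ≫ ηK) (nP2 : ηP ≫ cp2 = p2' ≫ ηM)
    (hK : Cov ηK)
    (hγ : ∀ (Q : D) (q1 : Q ⟶ L') (q2 : Q ⟶ cM) (γ : M' ⟶ Q),
      IsPullback q1 q2 ηL cb → γ ≫ q1 = b' → γ ≫ q2 = ηM → Cov γ) :
    Cov ηP := by
  obtain ⟨Q, q1, q2, hQ⟩ : ∃ (Q : D) (q1 : Q ⟶ L') (q2 : Q ⟶ cM), IsPullback q1 q2 ηL cb :=
    ⟨_, _, _, IsPullback.of_hasPullback ηL cb⟩
  obtain ⟨γ, hγ1, hγ2⟩ : ∃ γ : M' ⟶ Q, γ ≫ q1 = b' ∧ γ ≫ q2 = ηM :=
    ⟨hQ.lift b' ηM nM.symm, hQ.lift_fst _ _ _, hQ.lift_snd _ _ _⟩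
  have cγ : Cov γ := hγ Q q1 q2 γ hQ hγ1 hγ2
  obtain ⟨R, r1, r2, hR⟩ : ∃ (R : D) (r1 : R ⟶ K') (r2 : R ⟶ Q), IsPullback r1 r2 a' q1 :=
    ⟨_, _, _, IsPullback.of_hasPullback a' q1⟩
  have w1 : p1' ≫ a' = (p2' ≫ γ) ≫ q1 := by rw [Category.assoc, hγ1]; exact F1.w
  obtain ⟨θ, hθ1, hθ2⟩ : ∃ θ : P' ⟶ R, θ ≫ r1 = p1' ∧ θ ≫ r2 = p2' ≫ γ :=
    ⟨hR.lift p1' (p2' ≫ γ) w1, hR.lift_fst _ _ _, hR.lift_snd _ _ _⟩
  have sqa : IsPullback θ p2' r2 γ :=
    IsPullback.of_right (by rw [hθ1, hγ1]; exact F1) hθ2 hR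
  have w2 : (r1 ≫ ηK) ≫ ca = (r2 ≫ q2) ≫ cb := by
    rw [Category.assoc, nK, ← Category.assoc, hR.w, Category.assoc, hQ.w, Category.assoc]
  obtain ⟨ψ, hψ1, hψ2⟩ : ∃ ψ : R ⟶ cP, ψ ≫ cp1 = r1 ≫ ηK ∧ ψ ≫ cp2 = r2 ≫ q2 :=
    ⟨F2.lift (r1 ≫ ηK) (r2 ≫ q2) w2, F2.lift_fst _ _ _, F2.lift_snd _ _ _⟩
  have big : IsPullback (r2 ≫ q2) r1 cb (a' ≫ ηL) := hR.flip.paste_horiz hQ.flip
  have sqb : IsPullback ψ r1 cp1 ηK :=
    IsPullback.of_right (by rw [hψ2, nK]; exact big) hψ1 F2.flip
  have hfac : ηP = θ ≫ ψ := by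
    apply F2.hom_ext
    · rw [nP1, Category.assoc, hψ1, ← Category.assoc, hθ1]
    · rw [nP2, Category.assoc, hψ2, ← Category.assoc, hθ2, Category.assoc, hγ2]
  rw [hfac]
  exact hcomp _ _ (hbc sqa cγ) (hbc sqb hK)

end abstract

variable {C : Type u} [SmallCategory C]

/-- Base change of an SR-covering along any pullback square is an SR-covering. -/
theorem cov_of_isPullback [HasPullbacks C] (J : GrothendieckTopology C)
    {A B A' B' : FormalCoproduct.{u} C}
    {fst : A' ⟶ B'} {snd : A' ⟶ A} {g : B' ⟶ B} {f : A ⟶ B}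
    (h : IsPullback fst snd g f) (hf : Hyper.IsSRCovering J f) : Hyper.IsSRCovering J fst := by
  rw [← h.isoPullback_hom_fst]
  exact SRCovH4.comp_cov J _ _ (SRCovH4.iso_cov J h.isoPullback) (SRCovH4.base_cov J f g hf)

/-- If `f : A ⟶ B` is an SR-covering over `X` and `B` covers `X`, then `A` covers `X`. -/
theorem cover_of_srcov (J : GrothendieckTopology C) (X : C)
    {A B : FormalCoproduct.{u} (Over X)} (f : A ⟶ B)
    (hf : Hyper.IsSRCovering (J.over X) f)
    (hB : Sieve.ofArrows (fun j => (B.obj j).left) (fun j => (B.obj j).hom) ∈ J X) :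
    Sieve.ofArrows (fun i => (A.obj i).left) (fun i => (A.obj i).hom) ∈ J X := by
  refine J.transitive hB _ (fun Y h hh => ?_)
  obtain ⟨j, c, rfl⟩ := (Sieve.mem_ofArrows_iff _ _ _).1 hh
  have h1 := (GrothendieckTopology.mem_over_iff _ _).1 (hf j)
  refine J.superset_covering ?_ (J.pullback_stable c h1)
  intro Z g hg
  have hg' := (Sieve.overEquiv_iff _ _).1 hg
  obtain ⟨i, d, _⟩ := (Sieve.mem_ofArrows_iff _ _ _).1 hg'
  show (Sieve.ofArrows _ _).arrows (g ≫ c ≫ (B.obj j).hom)
  have hw := Over.w d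
  have e1 : g ≫ c ≫ (B.obj j).hom = d.left ≫ (A.obj i.1).hom := by
    rw [hw]; simp
  rw [e1]
  exact Sieve.downward_closed (Sieve.ofArrows (fun i => (A.obj i).left) (fun i => (A.obj i).hom))
    (Sieve.ofArrows_mk (fun i => (A.obj i).left) (fun i => (A.obj i).hom) i.1) d.left

theorem isHypercovering_pullback [HasPullbacks C]
    (J : GrothendieckTopology C) (X : C)
    [∀ (n : ℕ) (F : (SimplexCategory.Truncated n)ᵒᵖ ⥤ Limits.FormalCoproduct.{u} (Over X)),
      (SimplexCategory.Truncated.inclusion n).op.HasRightKanExtension F]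
    {K L M P : SimplicialObject (FormalCoproduct.{u} (Over X))} (a : K ⟶ L) (b : M ⟶ L)
    (p1 : P ⟶ K) (p2 : P ⟶ M) (hP : IsPullback p1 p2 a b)
    (hK : Hyper.IsHypercovering J X K)
    (h0 : Hyper.IsSRCovering (J.over X) (b.app (op (SimplexCategory.mk 0))))
    (hγ : ∀ (n : ℕ) (Q : FormalCoproduct.{u} (Over X))
      (q1 : Q ⟶ L.obj (op (SimplexCategory.mk (n + 1))))
      (q2 : Q ⟶ ((SimplicialObject.truncation n ⋙ SimplicialObject.Truncated.cosk n).obj M).obj
        (op (SimplexCategory.mk (n + 1))))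
      (γ : M.obj (op (SimplexCategory.mk (n + 1))) ⟶ Q),
      IsPullback q1 q2 (((SimplicialObject.coskAdj n).unit.app L).app (op (SimplexCategory.mk (n + 1))))
        (((SimplicialObject.truncation n ⋙ SimplicialObject.Truncated.cosk n).map b).app
          (op (SimplexCategory.mk (n + 1)))) →
      γ ≫ q1 = b.app (op (SimplexCategory.mk (n + 1))) →
      γ ≫ q2 = ((SimplicialObject.coskAdj n).unit.app M).app (op (SimplexCategory.mk (n + 1))) →
      Hyper.IsSRCovering (J.over X) γ) :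
    Hyper.IsHypercovering J X P := by
  haveI : HasPullbacks (FormalCoproduct.{u} (Over X)) := inferInstance
  haveI hev : ∀ k : SimplexCategoryᵒᵖ, PreservesLimitsOfShape WalkingCospan
      ((evaluation SimplexCategoryᵒᵖ (FormalCoproduct.{u} (Over X))).obj k :
        SimplicialObject (FormalCoproduct.{u} (Over X)) ⥤ FormalCoproduct.{u} (Over X)) := fun k => by
    infer_instance
  have ev : ∀ k : SimplexCategoryᵒᵖ,
      IsPullback (p1.app k) (p2.app k) (a.app k) (b.app k) := fun k =>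
    hP.map ((evaluation SimplexCategoryᵒᵖ (FormalCoproduct.{u} (Over X))).obj k :
        SimplicialObject (FormalCoproduct.{u} (Over X)) ⥤ FormalCoproduct.{u} (Over X))
  refine ⟨?_, fun n => ?_⟩
  · exact cover_of_srcov J X (p1.app (op (SimplexCategory.mk 0)))
      (cov_of_isPullback (J.over X) (ev _) h0) hK.1
  · haveI h1 : PreservesLimitsOfShape WalkingCospan
        (SimplicialObject.truncation (C := FormalCoproduct.{u} (Over X)) n) := by
      unfold SimplicialObject.truncation SimplicialObject SimplicialObject.Truncated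
      infer_instance
    haveI h2 : PreservesLimitsOfShape WalkingCospan
        (SimplicialObject.Truncated.cosk (C := FormalCoproduct.{u} (Over X)) n) :=
      ((SimplicialObject.coskAdj n).rightAdjoint_preservesLimits).preservesLimitsOfShape
    haveI h3 : PreservesLimitsOfShape WalkingCospan
        (SimplicialObject.truncation (C := FormalCoproduct.{u} (Over X)) n ⋙
          SimplicialObject.Truncated.cosk n) := comp_preservesLimitsOfShape _ _
    have G2 := hP.map (SimplicialObject.truncation (C := FormalCoproduct.{u} (Over X)) n ⋙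
          SimplicialObject.Truncated.cosk n)
    have F2 : IsPullback
        (((SimplicialObject.truncation n ⋙ SimplicialObject.Truncated.cosk n).map p1).app
          (op (SimplexCategory.mk (n + 1))))
        (((SimplicialObject.truncation n ⋙ SimplicialObject.Truncated.cosk n).map p2).app
          (op (SimplexCategory.mk (n + 1))))
        (((SimplicialObject.truncation n ⋙ SimplicialObject.Truncated.cosk n).map a).app
          (op (SimplexCategory.mk (n + 1))))
        (((SimplicialObject.truncation n ⋙ SimplicialObject.Truncated.cosk n).map b).app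
          (op (SimplexCategory.mk (n + 1)))) :=
      G2.map ((evaluation SimplexCategoryᵒᵖ (FormalCoproduct.{u} (Over X))).obj
        (op (SimplexCategory.mk (n + 1))) :
        SimplicialObject (FormalCoproduct.{u} (Over X)) ⥤ FormalCoproduct.{u} (Over X))
    have nat : ∀ {A B : SimplicialObject (FormalCoproduct.{u} (Over X))} (f : A ⟶ B),
        ((SimplicialObject.coskAdj n).unit.app A).app (op (SimplexCategory.mk (n + 1))) ≫
          ((SimplicialObject.truncation n ⋙ SimplicialObject.Truncated.cosk n).map f).app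
            (op (SimplexCategory.mk (n + 1))) =
        f.app (op (SimplexCategory.mk (n + 1))) ≫
          ((SimplicialObject.coskAdj n).unit.app B).app (op (SimplexCategory.mk (n + 1))) := by
      intro A B f
      have := congrArg (fun t => NatTrans.app t (op (SimplexCategory.mk (n + 1))))
        ((SimplicialObject.coskAdj n).unit.naturality f)
      exact this.symm
    exact cov_unit_of_pullback (fun f => Hyper.IsSRCovering (J.over X) f)
      (fun f g hf hg => SRCovH4.comp_cov _ f g hf hg)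
      (fun h hf => cov_of_isPullback _ h hf) (ev _) F2 (nat a) (nat b) (nat p1) (nat p2)
      (hK.2 n) (hγ n)

end Groth.Agent.Lib.HyperPBL
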