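import Mathlib
import Groth.Prelude.Def_Hyper
import Groth.Agent.Lib.SRLift_helper7
import Groth.Agent.Lib.CoskPr_helper7
import Groth.Agent.Lib.HomCk_helper7
import Groth.Agent.Lib.HyperPB_lead

set_option autoImplicit false
set_option linter.style.haveILetI false
set_option linter.unusedSectionVars false
set_option linter.unusedVariables false
set_option backward.isDefEq.respectTransparency false
set_option backward.isDefEq.respectTransparency.types false
set_option maxHeartbeats 1600000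

/-! # Refinement of a hypercovering along a covering of `K_n` -/

universe u

open CategoryTheory CategoryTheory.Limits Opposite Simplicial

namespace Groth.Agent.Lib.RefineH7

open Groth.Agent.Lib.SRLiftH7 Groth.Agent.Lib.CoskPrH7 Groth.Agent.Lib.HomCkH7

variable {C : Type u} [SmallCategory C] [HasPullbacks C]

instance hasFiniteLimits_fc (X : C) : HasFiniteLimits (FormalCoproduct.{u} (Over X)) :=
  hasFiniteLimits_of_hasTerminal_and_pullbacks

theorem main3881 (J : GrothendieckTopology C) (X : C)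
    [∀ (n : ℕ) (F : (SimplexCategory.Truncated n)ᵒᵖ ⥤ Limits.FormalCoproduct.{u} (Over X)),
      (SimplexCategory.Truncated.inclusion n).op.HasRightKanExtension F]
    (K : SimplicialObject (FormalCoproduct.{u} (Over X))) (hK : Hyper.IsHypercovering J X K) (n : ℕ)
    (Z : FormalCoproduct.{u} (Over X)) (u : Z ⟶ K.obj (op (SimplexCategory.mk n)))
    (hu : Hyper.IsSRCovering (J.over X) u) :
    ∃ (L : SimplicialObject (FormalCoproduct.{u} (Over X))) (f : L ⟶ K)
      (g : L.obj (op (SimplexCategory.mk n)) ⟶ Z),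
      Hyper.IsHypercovering J X L ∧ g ≫ u = f.app (op (SimplexCategory.mk n)) := by
  have hu' : LocLift (J.over X) u := locLift_of_srcov _ u hu
  have hP : IsPullback (pullback.fst (eta n K) (Rmap n u)) (pullback.snd (eta n K) (Rmap n u))
      (eta n K) (Rmap n u) := IsPullback.of_hasPullback _ _
  refine ⟨pullback (eta n K) (Rmap n u), pullback.fst _ _,
    (pullback.snd (eta n K) (Rmap n u)).app (op ⦋n⦌) ≫ Pi.π (fam n Z ⦋n⦌) (𝟙 ⦋n⦌), ?_, ?_⟩
  · refine Groth.Agent.Lib.HyperPBL.isHypercovering_pullback J X (eta n K) (Rmap n u) _ _ hP hK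
      ?_ ?_
    · exact srcov_of_locLift _ _ (locLift_zero (J.over X) n u hu')
    · intro m Q q1 q2 γ hpb h1 h2
      exact srcov_of_locLift _ _ (locLift_gamma (J.over X) u hu' Q q1 q2 γ hpb h1 h2)
  · have hw := congrArg (fun t => NatTrans.app t (op ⦋n⦌)) hP.w
    have hw' : (pullback.fst (eta n K) (Rmap n u)).app (op ⦋n⦌) ≫ (eta n K).app (op ⦋n⦌) =
        (pullback.snd (eta n K) (Rmap n u)).app (op ⦋n⦌) ≫ (Rmap n u).app (op ⦋n⦌) := hw
    have e4 : (Rmap n u).app (op ⦋n⦌) ≫ Pi.π (fam n (K.obj (op ⦋n⦌)) ⦋n⦌) (𝟙 ⦋n⦌) =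
        Pi.π (fam n Z ⦋n⦌) (𝟙 ⦋n⦌) ≫ u := Rmap_app_π n u (op ⦋n⦌) (𝟙 ⦋n⦌)
    have e5 : (eta n K).app (op ⦋n⦌) ≫ Pi.π (fam n (K.obj (op ⦋n⦌)) ⦋n⦌) (𝟙 ⦋n⦌) =
        K.map (𝟙 ⦋n⦌).op := eta_app_π n K (op ⦋n⦌) (𝟙 ⦋n⦌)
    have e6 := congrArg (fun z => z ≫ Pi.π (fam n (K.obj (op ⦋n⦌)) ⦋n⦌) (𝟙 ⦋n⦌)) hw'
    simp only [Category.assoc] at e6
    rw [e4, e5] at e6
    rw [Category.assoc, ← e6]
    have : K.map (𝟙 ⦋n⦌).op = 𝟙 _ := by
      rw [op_id]; exact K.map_id _
    rw [this, Category.comp_id]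

end Groth.Agent.Lib.RefineH7
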