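import Mathlib
import Groth.Prelude.Def_Hyper2
import Groth.Agent.Lib.Refine_helper7

set_option autoImplicit false
set_option linter.style.haveILetI false
set_option linter.unusedSectionVars false
set_option linter.unusedVariables false
set_option backward.isDefEq.respectTransparency false
set_option backward.isDefEq.respectTransparency.types false
set_option maxHeartbeats 1600000

/-! # Killing Čech classes of a presheaf with zero sheafification by refinement -/

universe u

open CategoryTheory CategoryTheory.Limits Opposite Simplicial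

namespace Groth.Agent.Lib.ClassKillH7

section sieveRef

variable {D₀ : Type u} [SmallCategory D₀] (J' : GrothendieckTopology D₀)
  (A : FormalCoproduct.{u} D₀) (S : ∀ i : A.I, Sieve (A.obj i))

/-- the indexing type of the refinement attached to a family of sieves. -/
abbrev SI : Type u := Σ (i : A.I), Σ (T' : D₀), {g : T' ⟶ A.obj i // (S i).arrows g}

/-- the refinement. -/
abbrev SZ : FormalCoproduct.{u} D₀ := ⟨SI A S, fun idx => idx.2.1⟩

/-- the map from the refinement. -/
abbrev uS : SZ A S ⟶ A := ⟨fun idx => idx.1, fun idx => idx.2.2.1⟩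

lemma srcov_uS (hS : ∀ i, S i ∈ J' (A.obj i)) : Hyper.IsSRCovering J' (uS A S) := by
  intro j
  refine J'.superset_covering ?_ (hS j)
  intro T' g hg
  refine (Sieve.mem_ofArrows_iff _ _ _).2 ⟨⟨⟨j, T', g, hg⟩, rfl⟩, 𝟙 _, ?_⟩
  show g = 𝟙 _ ≫ g ≫ 𝟙 _
  rw [Category.id_comp, Category.comp_id]

end sieveRef

section LocZero

variable {C : Type u} [SmallCategory C] (J : GrothendieckTopology C)

/-- the sieve on which a section vanishes. -/
def zeroSieve (N : Cᵒᵖ ⥤ AddCommGrpCat.{u}) {U : C} (s : N.obj (op U)) : Sieve U where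
  arrows V g := (N.map g.op).hom s = 0
  downward_closed := by
    intro V W g hg h
    show (N.map (h ≫ g).op).hom s = 0
    rw [op_comp, N.map_comp]
    show (N.map h.op).hom ((N.map g.op).hom s) = 0
    rw [hg, map_zero]

lemma zeroSieve_mem (N : Cᵒᵖ ⥤ AddCommGrpCat.{u})
    (hN : IsZero ((presheafToSheaf J AddCommGrpCat.{u}).obj N)) {U : C} (s : N.obj (op U)) :
    zeroSieve N s ∈ J U := by
  have h0 : ∀ (V : Cᵒᵖ) (x y : (sheafify J N).obj V), x = y := by
    intro V x y
    have h1 : (𝟙 ((presheafToSheaf J AddCommGrpCat.{u}).obj N)) = 0 := hN.eq_of_src _ _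
    have h2 : (𝟙 ((presheafToSheaf J AddCommGrpCat.{u}).obj N) :
        (presheafToSheaf J AddCommGrpCat.{u}).obj N ⟶ _).hom = 0 := by rw [h1]; rfl
    have h3 : (𝟙 (sheafify J N) : sheafify J N ⟶ sheafify J N) = 0 := h2
    have h4 : ∀ z : (sheafify J N).obj V, z = 0 := by
      intro z
      have := congrArg (fun t : sheafify J N ⟶ sheafify J N => (t.app V).hom z) h3
      exact this
    rw [h4 x, h4 y]
  have h := Presheaf.equalizerSieve_mem J (toSheafify J N) (X := op U) s 0 (h0 _ _ _)
  refine J.superset_covering ?_ h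
  intro V g hg
  have hg' : (N.map g.op).hom s = (N.map g.op).hom 0 := hg
  show (N.map g.op).hom s = 0
  rw [hg', map_zero]

end LocZero

section Main

variable {C : Type u} [SmallCategory C] (X : C)

/-- the family of groups whose product is the degree `p` term of the Čech complex. -/
abbrev famN (K : SimplicialObject (FormalCoproduct.{u} (Over X))) (N : Cᵒᵖ ⥤ AddCommGrpCat.{u})
    (p : ℕ) : (K.obj (op ⦋p⦌)).I → AddCommGrpCat.{u} :=
  fun i => ((Over.forget X).op ⋙ N).obj (op ((K.obj (op ⦋p⦌)).obj i))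

/-- the `i`-th component of a Čech cochain. -/
noncomputable def comp (K : SimplicialObject (FormalCoproduct.{u} (Over X)))
    (N : Cᵒᵖ ⥤ AddCommGrpCat.{u}) (p : ℕ) (s : (Hyper.cechCx X K N).X p)
    (i : (K.obj (op ⦋p⦌)).I) : N.obj (op ((K.obj (op ⦋p⦌)).obj i).left) :=
  (Pi.π (famN X K N p) i).hom s

lemma comp_ext (K : SimplicialObject (FormalCoproduct.{u} (Over X)))
    (N : Cᵒᵖ ⥤ AddCommGrpCat.{u}) (p : ℕ) (s t : (Hyper.cechCx X K N).X p)
    (h : ∀ i, comp X K N p s i = comp X K N p t i) : s = t := by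
  apply (Concrete.productEquiv (famN X K N p)).injective
  funext i
  rw [Concrete.productEquiv_apply_apply, Concrete.productEquiv_apply_apply]
  exact h i

lemma comp_zero (K : SimplicialObject (FormalCoproduct.{u} (Over X)))
    (N : Cᵒᵖ ⥤ AddCommGrpCat.{u}) (p : ℕ) (i : (K.obj (op ⦋p⦌)).I) :
    comp X K N p 0 i = 0 := map_zero _

lemma comp_cechMap {K L : SimplicialObject (FormalCoproduct.{u} (Over X))} (f : L ⟶ K)
    (N : Cᵒᵖ ⥤ AddCommGrpCat.{u}) (p : ℕ) (s : (Hyper.cechCx X K N).X p)
    (i' : (L.obj (op ⦋p⦌)).I) :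
    comp X L N p (((Hyper.cechMap X f N).f p).hom s) i' =
      (N.map ((f.app (op ⦋p⦌)).φ i').left.op).hom (comp X K N p s ((f.app (op ⦋p⦌)).f i')) := by
  have h : (Hyper.cechMap X f N).f p ≫ Pi.π (famN X L N p) i' =
      Pi.π (famN X K N p) ((f.app (op ⦋p⦌)).f i') ≫ N.map ((f.app (op ⦋p⦌)).φ i').left.op :=
    Limits.Pi.lift_π _ _
  have h' := congrArg (fun t => t.hom s) h
  exact h'

/-- a cocycle whose image under `f` vanishes gives a class killed by `f`. -/
lemma cechHMap_eq_zero {K L : SimplicialObject (FormalCoproduct.{u} (Over X))} (f : L ⟶ K)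
    (N : Cᵒᵖ ⥤ AddCommGrpCat.{u}) (p : ℕ) (z : (Hyper.cechCx X K N).cycles p)
    (hz : ((Hyper.cechMap X f N).f p).hom (((Hyper.cechCx X K N).iCycles p).hom z) = 0) :
    Hyper.cechHMap X f N p (((Hyper.cechCx X K N).homologyπ p).hom z) = 0 := by
  have h1 : HomologicalComplex.cyclesMap (Hyper.cechMap X f N) p ≫
      (Hyper.cechCx X L N).homologyπ p =
      (Hyper.cechCx X K N).homologyπ p ≫ HomologicalComplex.homologyMap (Hyper.cechMap X f N) p :=
    (HomologicalComplex.homologyπ_naturality _ _).symm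
  have h2 : HomologicalComplex.cyclesMap (Hyper.cechMap X f N) p ≫
      (Hyper.cechCx X L N).iCycles p =
      (Hyper.cechCx X K N).iCycles p ≫ (Hyper.cechMap X f N).f p :=
    HomologicalComplex.cyclesMap_i _ _
  have h3 : (HomologicalComplex.cyclesMap (Hyper.cechMap X f N) p).hom z = 0 := by
    have hmono : Function.Injective ((Hyper.cechCx X L N).iCycles p).hom :=
      (AddCommGrpCat.mono_iff_injective _).1 inferInstance
    apply hmono
    have h2' := congrArg (fun t => t.hom z) h2
    rw [map_zero]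
    exact h2'.trans hz
  have h1' := congrArg (fun t => t.hom z) h1
  show (HomologicalComplex.homologyMap (Hyper.cechMap X f N) p).hom
    (((Hyper.cechCx X K N).homologyπ p).hom z) = 0
  refine h1'.symm.trans ?_
  show ((Hyper.cechCx X L N).homologyπ p).hom
    ((HomologicalComplex.cyclesMap (Hyper.cechMap X f N) p).hom z) = 0
  rw [h3, map_zero]

variable [HasPullbacks C]

theorem main3882 (J : GrothendieckTopology C)
    [∀ (n : ℕ) (F : (SimplexCategory.Truncated n)ᵒᵖ ⥤ Limits.FormalCoproduct.{u} (Over X)),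
      (SimplexCategory.Truncated.inclusion n).op.HasRightKanExtension F]
    (K : SimplicialObject (FormalCoproduct.{u} (Over X))) (hK : Hyper.IsHypercovering J X K)
    (N : Cᵒᵖ ⥤ AddCommGrpCat.{u}) (hN : IsZero ((presheafToSheaf J AddCommGrpCat.{u}).obj N))
    (p : ℕ) (ξ : Hyper.cechH X K N p) :
    ∃ (L : SimplicialObject (FormalCoproduct.{u} (Over X))) (f : L ⟶ K),
      Hyper.IsHypercovering J X L ∧ Hyper.cechHMap X f N p ξ = 0 := by
  have hsurj : Function.Surjective ((Hyper.cechCx X K N).homologyπ p).hom :=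
    (AddCommGrpCat.epi_iff_surjective _).1 inferInstance
  obtain ⟨z, rfl⟩ := hsurj ξ
  -- the sieves
  let s := ((Hyper.cechCx X K N).iCycles p).hom z
  let S : ∀ i : (K.obj (op ⦋p⦌)).I, Sieve ((K.obj (op ⦋p⦌)).obj i) := fun i =>
    { arrows := fun T' g => (N.map g.left.op).hom (comp X K N p s i) = 0
      downward_closed := by
        intro V W g hg h
        show (N.map (h ≫ g).left.op).hom (comp X K N p s i) = 0
        rw [Over.comp_left, op_comp, N.map_comp]
        show (N.map h.left.op).hom ((N.map g.left.op).hom (comp X K N p s i)) = 0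
        rw [hg, map_zero] }
  have hS : ∀ i, S i ∈ (J.over X) ((K.obj (op ⦋p⦌)).obj i) := by
    intro i
    rw [GrothendieckTopology.mem_over_iff]
    refine J.superset_covering ?_ (zeroSieve_mem J N hN (comp X K N p s i))
    intro V g hg
    rw [Sieve.overEquiv_iff]
    exact hg
  obtain ⟨L, f, g', hL, hg'⟩ := Groth.Agent.Lib.RefineH7.main3881 J X K hK p
    (SZ (K.obj (op ⦋p⦌)) S) (uS _ S) (srcov_uS (J.over X) _ S hS)
  refine ⟨L, f, hL, ?_⟩
  apply cechHMap_eq_zero
  apply comp_ext
  intro i'
  rw [comp_cechMap, comp_zero]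
  have key : ∀ (fp : L.obj (op ⦋p⦌) ⟶ K.obj (op ⦋p⦌)) (h : g' ≫ uS _ S = fp),
      (N.map (fp.φ i').left.op).hom (comp X K N p s (fp.f i')) = 0 := by
    intro fp h
    subst h
    show (N.map (g'.φ i' ≫ (g'.f i').2.2.1).left.op).hom (comp X K N p s (g'.f i').1) = 0
    rw [Over.comp_left, op_comp, N.map_comp]
    show (N.map (g'.φ i').left.op).hom
      ((N.map ((g'.f i').2.2.1).left.op).hom (comp X K N p s (g'.f i').1)) = 0
    have : (N.map ((g'.f i').2.2.1).left.op).hom (comp X K N p s (g'.f i').1) = 0 :=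
      (g'.f i').2.2.2
    rw [this, map_zero]
  exact key _ hg'

end Main

end Groth.Agent.Lib.ClassKillH7
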