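import Mathlib
import Groth.Prelude.Def_Hyper
import Groth.Agent.Lib.CechSite_helper2

set_option autoImplicit false
set_option linter.unusedSimpArgs false
set_option linter.unusedVariables false
set_option linter.unusedSectionVars false
set_option linter.style.longLine false
set_option linter.unnecessarySimpa false
set_option linter.deprecated false
set_option linter.style.haveILetI false
set_option maxHeartbeats 1600000
set_option backward.isDefEq.respectTransparency false
set_option backward.isDefEq.respectTransparency.types false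
set_option backward.defeqAttrib.useBackward true

universe u

noncomputable section

namespace Groth.Agent.Lib.HyperH0L

open CategoryTheory CategoryTheory.Limits Opposite

section ExtendNat

variable {A : Type*} [Category A] {D : Type*} [Category D]

/-- On a category with (propositionally) one object and one morphism, a natural transformation
is a single morphism. -/
def extendNatTrans (a₀ : A) (h1 : ∀ a : A, a = a₀) (h2 : ∀ f : a₀ ⟶ a₀, f = 𝟙 a₀)
    (F G : A ⥤ D) (g₀ : F.obj a₀ ⟶ G.obj a₀) : F ⟶ G where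
  app a := eqToHom (congrArg F.obj (h1 a)) ≫ g₀ ≫ eqToHom (congrArg G.obj (h1 a)).symm
  naturality a b f := by
    obtain rfl := h1 a
    obtain rfl := h1 b
    rw [h2 f]
    simp

lemma extendNatTrans_app (a₀ : A) (h1 : ∀ a : A, a = a₀) (h2 : ∀ f : a₀ ⟶ a₀, f = 𝟙 a₀)
    (F G : A ⥤ D) (g₀ : F.obj a₀ ⟶ G.obj a₀) :
    (extendNatTrans a₀ h1 h2 F G g₀).app a₀ = g₀ := by
  simp [extendNatTrans]

end ExtendNat

/-- the unique object of the `0`-truncated simplex category (opposite) -/
def a0 : (SimplexCategory.Truncated 0)ᵒᵖ := op ⟨SimplexCategory.mk 0, Nat.le_refl 0⟩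

lemma trunc0_obj_eq (a : (SimplexCategory.Truncated 0)ᵒᵖ) : a = a0 := by
  obtain ⟨⟨⟨m⟩, hm⟩⟩ := a
  have hm' : m = 0 := Nat.le_zero.mp hm
  subst hm'
  rfl

lemma trunc0_hom_eq (f : a0 ⟶ a0) : f = 𝟙 a0 := by
  apply Quiver.Hom.unop_inj
  apply ObjectProperty.hom_ext
  exact (SimplexCategory.hom_zero_zero _).trans (SimplexCategory.hom_zero_zero _).symm

section Cop

variable {D₀ : Type u} [Category.{u} D₀]

/-- the simplicial formal coproduct `Δ[1] ⊗ w` -/
def cop (w : D₀) : SimplicialObject (FormalCoproduct.{u} D₀) where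
  obj n := ⟨ULift.{u} (n.unop ⟶ SimplexCategory.mk 1), fun _ => w⟩
  map θ := ⟨fun σ => ⟨θ.unop ≫ σ.down⟩, fun _ => 𝟙 w⟩
  map_id n := by
    refine FormalCoproduct.hom_ext (funext fun σ => ?_) (fun σ => ?_)
    · apply ULift.ext
      simp
    · simp
  map_comp f g := by
    refine FormalCoproduct.hom_ext (funext fun σ => ?_) (fun σ => ?_)
    · apply ULift.ext
      simp
    · simp

/-- the inclusion of the summand of `σ` -/
def copι (w : D₀) {n : SimplexCategory} (σ : n ⟶ SimplexCategory.mk 1) :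
    (FormalCoproduct.incl D₀).obj w ⟶ (cop w).obj (op n) :=
  ⟨fun _ => ⟨σ⟩, fun _ => 𝟙 w⟩

lemma copι_map (w : D₀) {m n : SimplexCategory} (θ : m ⟶ n) (σ : n ⟶ SimplexCategory.mk 1) :
    copι w σ ≫ (cop w).map θ.op = copι w (θ ≫ σ) := by
  refine FormalCoproduct.hom_ext (funext fun _ => rfl) (fun _ => ?_)
  simp [copι, cop]

/-- the map `Δ[1]₀ ⊗ w = w ⊔ w ⟶ B` induced by two maps. -/
def copDesc (w : D₀) {B : FormalCoproduct.{u} D₀} (a b : (FormalCoproduct.incl D₀).obj w ⟶ B) :
    (cop w).obj (op (SimplexCategory.mk 0)) ⟶ B :=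
  ⟨fun σ => (if σ.down.toOrderHom 0 = 0 then a else b).f PUnit.unit,
    fun σ => (if σ.down.toOrderHom 0 = 0 then a else b).φ PUnit.unit⟩

lemma copι_desc (w : D₀) {B : FormalCoproduct.{u} D₀} (a b : (FormalCoproduct.incl D₀).obj w ⟶ B)
    (σ : SimplexCategory.mk 0 ⟶ SimplexCategory.mk 1) :
    copι w σ ≫ copDesc w a b = if σ.toOrderHom 0 = 0 then a else b := by
  refine FormalCoproduct.hom_ext (funext fun _ => rfl) ?_
  rintro ⟨⟩
  simp [copι, copDesc]

lemma copι_desc_one (w : D₀) {B : FormalCoproduct.{u} D₀} (a b : (FormalCoproduct.incl D₀).obj w ⟶ B) :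
    copι w (SimplexCategory.δ (1 : Fin 2)) ≫ copDesc w a b = a := by
  rw [copι_desc, SimplexCategory.δ_one_eq_const, if_pos]
  rfl

lemma copι_desc_zero (w : D₀) {B : FormalCoproduct.{u} D₀} (a b : (FormalCoproduct.incl D₀).obj w ⟶ B) :
    copι w (SimplexCategory.δ (0 : Fin 2)) ≫ copDesc w a b = b := by
  rw [copι_desc, SimplexCategory.δ_zero_eq_const, if_neg]
  rw [SimplexCategory.const_apply]
  decide

variable [∀ (n : ℕ) (F : (SimplexCategory.Truncated n)ᵒᵖ ⥤ FormalCoproduct.{u} D₀),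
      (SimplexCategory.Truncated.inclusion n).op.HasRightKanExtension F]
  (K : SimplicialObject (FormalCoproduct.{u} D₀))

/-- `cosk₀ sk₀ K` -/
abbrev cK : SimplicialObject (FormalCoproduct.{u} D₀) :=
  (SimplicialObject.truncation 0 ⋙ SimplicialObject.Truncated.cosk 0).obj K

/-- the unit `K ⟶ cosk₀ sk₀ K` -/
abbrev un : K ⟶ cK K := (SimplicialObject.coskAdj 0).unit.app K

theorem cosk0_lift :
    ∃ r₀ : (cK K).obj (op (SimplexCategory.mk 0)) ⟶ K.obj (op (SimplexCategory.mk 0)),
      (un K).app (op (SimplexCategory.mk 0)) ≫ r₀ = 𝟙 _ ∧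
      ∀ (w : D₀) (a b : (FormalCoproduct.incl D₀).obj w ⟶ K.obj (op (SimplexCategory.mk 0))),
        ∃ l : (FormalCoproduct.incl D₀).obj w ⟶ (cK K).obj (op (SimplexCategory.mk 1)),
          l ≫ (cK K).map (SimplexCategory.δ (1 : Fin 2)).op ≫ r₀ = a ∧
          l ≫ (cK K).map (SimplexCategory.δ (0 : Fin 2)).op ≫ r₀ = b := by
  let adj := SimplicialObject.coskAdj (C := FormalCoproduct.{u} D₀) 0
  refine ⟨(adj.counit.app ((SimplicialObject.truncation 0).obj K)).app a0, ?_, ?_⟩
  · have := congrArg (fun t => NatTrans.app t a0) (adj.left_triangle_components K)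
    exact this
  · intro w a b
    let g : (SimplicialObject.truncation 0).obj (cop w) ⟶ (SimplicialObject.truncation 0).obj K :=
      extendNatTrans a0 trunc0_obj_eq trunc0_hom_eq _ _ (copDesc w a b)
    let f : cop w ⟶ (SimplicialObject.Truncated.cosk 0).obj ((SimplicialObject.truncation 0).obj K) :=
      adj.homEquiv _ _ g
    have hf : (SimplicialObject.truncation 0).map f ≫ adj.counit.app _ = g := by
      have h : (adj.homEquiv _ _).symm f =
          (SimplicialObject.truncation 0).map f ≫ adj.counit.app _ := by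
        rw [Adjunction.homEquiv_counit]
      exact h.symm.trans ((adj.homEquiv _ _).symm_apply_apply g)
    have hf0 : f.app (op (SimplexCategory.mk 0)) ≫
        (adj.counit.app ((SimplicialObject.truncation 0).obj K)).app a0 = copDesc w a b := by
      have := congrArg (fun t => NatTrans.app t a0) hf
      exact this.trans (extendNatTrans_app _ _ _ _ _ _)
    have key : ∀ k : Fin 2, (copι w (𝟙 _) ≫ f.app (op (SimplexCategory.mk 1))) ≫
        (cK K).map (SimplexCategory.δ k).op ≫
          (adj.counit.app ((SimplicialObject.truncation 0).obj K)).app a0 =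
        copι w (SimplexCategory.δ k) ≫ copDesc w a b := by
      intro k
      have nat := f.naturality (SimplexCategory.δ k).op
      have nat' : f.app (op (SimplexCategory.mk 1)) ≫ (cK K).map (SimplexCategory.δ k).op =
          (cop w).map (SimplexCategory.δ k).op ≫ f.app (op (SimplexCategory.mk 0)) := nat.symm
      rw [Category.assoc, ← Category.assoc (f.app _), nat', Category.assoc, hf0,
        ← Category.assoc, copι_map, Category.comp_id]
    refine ⟨copι w (𝟙 _) ≫ f.app (op (SimplexCategory.mk 1)), ?_, ?_⟩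
    · rw [key, copι_desc_one]
    · rw [key, copι_desc_zero]

theorem cosk0_cor (w : D₀)
    (a b : (FormalCoproduct.incl D₀).obj w ⟶ K.obj (op (SimplexCategory.mk 0))) :
    ∃ l : (FormalCoproduct.incl D₀).obj w ⟶ (cK K).obj (op (SimplexCategory.mk 1)),
      ∀ (A : FormalCoproduct.{u} D₀) (τ : A ⟶ (FormalCoproduct.incl D₀).obj w)
        (c' : A ⟶ K.obj (op (SimplexCategory.mk 1))),
        c' ≫ (un K).app (op (SimplexCategory.mk 1)) = τ ≫ l →
          τ ≫ a = c' ≫ K.map (SimplexCategory.δ (1 : Fin 2)).op ∧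
          τ ≫ b = c' ≫ K.map (SimplexCategory.δ (0 : Fin 2)).op := by
  obtain ⟨r₀, hr₀, hl⟩ := cosk0_lift K
  obtain ⟨l, hl1, hl0⟩ := hl w a b
  refine ⟨l, fun A τ c' hc => ?_⟩
  have nat : ∀ k : Fin 2, K.map (SimplexCategory.δ k).op ≫ (un K).app (op (SimplexCategory.mk 0)) =
      (un K).app (op (SimplexCategory.mk 1)) ≫ (cK K).map (SimplexCategory.δ k).op := fun k =>
    (un K).naturality (SimplexCategory.δ k).op
  have main : ∀ k : Fin 2, τ ≫ l ≫ (cK K).map (SimplexCategory.δ k).op ≫ r₀ =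
      c' ≫ K.map (SimplexCategory.δ k).op := by
    intro k
    rw [← Category.assoc τ, ← hc, Category.assoc, ← Category.assoc ((un K).app _), ← nat k,
      Category.assoc, hr₀, Category.comp_id]
  constructor
  · rw [← main 1, hl1]
  · rw [← main 0, hl0]

end Cop

section Ev

variable {D₀ : Type u} [Category.{u} D₀] (P : D₀ᵒᵖ ⥤ AddCommGrpCat.{u})

/-- the extension of a presheaf to formal coproducts -/
abbrev Ev : (FormalCoproduct.{u} D₀)ᵒᵖ ⥤ AddCommGrpCat.{u} :=
  (FormalCoproduct.evalOp D₀ AddCommGrpCat.{u}).obj P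

lemma ev_map_π {A B : FormalCoproduct.{u} D₀} (ψ : A ⟶ B) (i : A.I) :
    (Ev P).map ψ.op ≫ Pi.π (fun i : A.I => P.obj (op (A.obj i))) i =
      Pi.π (fun j : B.I => P.obj (op (B.obj j))) (ψ.f i) ≫ P.map (ψ.φ i).op := by
  dsimp only [Ev]
  simp only [FormalCoproduct.evalOp_obj_map]
  erw [Pi.lift_π]
  rfl

/-- pullback of cochains along a morphism of formal coproducts -/
def pb {A B : FormalCoproduct.{u} D₀} (ψ : A ⟶ B) (x : (Ev P).obj (op B)) : (Ev P).obj (op A) :=
  ((Ev P).map ψ.op).hom x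

/-- components of a cochain -/
def cmp (A : FormalCoproduct.{u} D₀) (x : (Ev P).obj (op A)) (i : A.I) : P.obj (op (A.obj i)) :=
  (Pi.π (fun i : A.I => P.obj (op (A.obj i))) i).hom x

lemma pb_comp {A B B' : FormalCoproduct.{u} D₀} (ψ₁ : A ⟶ B) (ψ₂ : B ⟶ B')
    (x : (Ev P).obj (op B')) : pb P (ψ₁ ≫ ψ₂) x = pb P ψ₁ (pb P ψ₂ x) := by
  have := congrArg (fun m => m.hom x) ((Ev P).map_comp ψ₂.op ψ₁.op)
  exact this

lemma cmp_pb {A B : FormalCoproduct.{u} D₀} (ψ : A ⟶ B) (x : (Ev P).obj (op B)) (i : A.I) :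
    cmp P A (pb P ψ x) i = (P.map (ψ.φ i).op).hom (cmp P B x (ψ.f i)) := by
  have := congrArg (fun m => m.hom x) (ev_map_π P ψ i)
  exact this

lemma ev_ext (A : FormalCoproduct.{u} D₀) (x y : (Ev P).obj (op A))
    (h : ∀ i, cmp P A x i = cmp P A y i) : x = y :=
  Groth.Agent.Lib.CechSite.pi_ext _ x y h

variable (K : SimplicialObject (FormalCoproduct.{u} D₀))

lemma d01 : ((FormalCoproduct.cochainComplexFunctor K).obj P).d 0 1 =
    (Ev P).map (K.δ (0 : Fin 2)).op - (Ev P).map (K.δ (1 : Fin 2)).op := by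
  have h : ((FormalCoproduct.cochainComplexFunctor K).obj P).d 0 1 =
      AlgebraicTopology.AlternatingCofaceMapComplex.objD
        ((FormalCoproduct.cosimplicialObjectFunctor K).obj P) 0 :=
    CochainComplex.of_d
      (fun n => ((FormalCoproduct.cosimplicialObjectFunctor K).obj P).obj (SimplexCategory.mk n))
      (AlgebraicTopology.AlternatingCofaceMapComplex.objD
        ((FormalCoproduct.cosimplicialObjectFunctor K).obj P)) 0
  rw [h]
  dsimp only [AlgebraicTopology.AlternatingCofaceMapComplex.objD]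
  rw [Fin.sum_univ_two]
  simp only [Fin.val_zero, pow_zero, one_smul, Fin.val_one, pow_one, neg_smul, sub_eq_add_neg]
  rfl

end Ev

section H0

variable {C : Type u} [SmallCategory C] (J : GrothendieckTopology C) (X : C)

/-- restriction from `X` to all components of a formal coproduct over `X` -/
def resX (F : Cᵒᵖ ⥤ AddCommGrpCat.{u}) (A : FormalCoproduct.{u} (Over X)) :
    F.obj (op X) ⟶ (Ev ((Over.forget X).op ⋙ F)).obj (op A) :=
  Pi.lift (fun i => (F.map (A.obj i).hom.op :
    F.obj (op X) ⟶ ((Over.forget X).op ⋙ F).obj (op (A.obj i))))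

lemma resX_π (F : Cᵒᵖ ⥤ AddCommGrpCat.{u}) (A : FormalCoproduct.{u} (Over X)) (i : A.I) :
    resX X F A ≫ Pi.π (fun i : A.I => ((Over.forget X).op ⋙ F).obj (op (A.obj i))) i =
      F.map (A.obj i).hom.op :=
  Pi.lift_π _ _

lemma resX_map (F : Cᵒᵖ ⥤ AddCommGrpCat.{u}) {A B : FormalCoproduct.{u} (Over X)} (ψ : A ⟶ B) :
    resX X F B ≫ (Ev ((Over.forget X).op ⋙ F)).map ψ.op = resX X F A := by
  refine Pi.hom_ext _ _ (fun i => ?_)
  rw [Category.assoc, ev_map_π, ← Category.assoc, resX_π, resX_π]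
  show F.map ((B.obj (ψ.f i)).hom.op) ≫ F.map ((ψ.φ i).left.op) = F.map (A.obj i).hom.op
  rw [← F.map_comp, ← op_comp, Over.w]

variable [∀ (n : ℕ) (F : (SimplexCategory.Truncated n)ᵒᵖ ⥤ FormalCoproduct.{u} (Over X)),
      (SimplexCategory.Truncated.inclusion n).op.HasRightKanExtension F]
  (K : SimplicialObject (FormalCoproduct.{u} (Over X)))

theorem cech_h0 (hK : Hyper.IsHypercovering J X K) (F : Sheaf J AddCommGrpCat.{u}) :
    Nonempty (Hyper.cechH X K F.obj 0 ≅ F.obj.obj (op X)) := by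
  let P : (Over X)ᵒᵖ ⥤ AddCommGrpCat.{u} := (Over.forget X).op ⋙ F.obj
  let CX := Hyper.cechCx X K F.obj
  have hF : Presieve.IsSheaf J (F.obj ⋙ forget _) :=
    (isSheaf_iff_isSheaf_of_type J _).1
      ((Presheaf.isSheaf_iff_isSheaf_forget J F.obj (forget _)).1 F.property)
  let K0 := K.obj (op (SimplexCategory.mk 0))
  let K1 := K.obj (op (SimplexCategory.mk 1))
  let φ : F.obj.obj (op X) ⟶ (Ev P).obj (op K0) := resX X F.obj K0
  have hd : CX.d 0 1 = (Ev P).map (K.δ (0 : Fin 2)).op - (Ev P).map (K.δ (1 : Fin 2)).op :=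
    d01 P K
  have hφd : φ ≫ CX.d 0 1 = 0 := by
    rw [hd, Preadditive.comp_sub]
    erw [resX_map X F.obj (K.δ (0 : Fin 2)), resX_map X F.obj (K.δ (1 : Fin 2))]
    rw [sub_self]
  have hsh : Presieve.IsSheafFor (F.obj ⋙ forget _)
      (Presieve.ofArrows (fun i : K0.I => (K0.obj i).left) (fun i => (K0.obj i).hom)) :=
    (Presieve.isSheafFor_iff_generate (Presieve.ofArrows _ _)).2 (hF _ hK.1)
  have hglue := (Presieve.isSheafFor_arrows_iff _ _).1 hsh
  have hφπ : ∀ (i : K0.I) (s : F.obj.obj (op X)),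
      cmp P K0 (φ.hom s) i = (F.obj.map (K0.obj i).hom.op).hom s := fun i s =>
    congrArg (fun m => m.hom s) (resX_π X F.obj K0 i)
  have hinj : Function.Injective φ.hom := by
    intro s s' hss
    refine (hF _ hK.1).isSeparatedFor.ext ?_
    intro V f hf
    obtain ⟨i, c, rfl⟩ := (Sieve.mem_ofArrows_iff _ _ _).1 hf
    show (F.obj.map (c ≫ (K0.obj i).hom).op).hom s = (F.obj.map (c ≫ (K0.obj i).hom).op).hom s'
    have a1 : ∀ z, (F.obj.map (c ≫ (K0.obj i).hom).op).hom z =
        (F.obj.map c.op).hom ((F.obj.map (K0.obj i).hom.op).hom z) := fun z =>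
      congrArg (fun m => m.hom z) (F.obj.map_comp (K0.obj i).hom.op c.op)
    rw [a1, a1, ← hφπ i s, ← hφπ i s', hss]
  have hex : ∀ x : (Ev P).obj (op K0), (CX.d 0 1).hom x = 0 → ∃ s, φ.hom s = x := by
    intro x hx
    have hx' : pb P (K.δ (0 : Fin 2)) x = pb P (K.δ (1 : Fin 2)) x := by
      have h2 : (CX.d 0 1).hom x = pb P (K.δ (0 : Fin 2)) x - pb P (K.δ (1 : Fin 2)) x := by
        rw [hd]
        rfl
      rw [hx] at h2
      exact sub_eq_zero.mp h2.symm
    have hcompat : Presieve.Arrows.Compatible (F.obj ⋙ forget _)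
        (fun i : K0.I => (K0.obj i).hom) (fun i => cmp P K0 x i) := by
      intro i j Z gi gj hij
      let w : Over X := Over.mk (gi ≫ (K0.obj i).hom)
      let a : (FormalCoproduct.incl (Over X)).obj w ⟶ K0 :=
        FormalCoproduct.Hom.fromIncl i (Over.homMk gi rfl)
      let b : (FormalCoproduct.incl (Over X)).obj w ⟶ K0 :=
        FormalCoproduct.Hom.fromIncl j (Over.homMk gj hij.symm)
      obtain ⟨l, hl⟩ := cosk0_cor K w a b
      have hcov := (GrothendieckTopology.mem_over_iff _ _).1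
        ((J.over X).pullback_stable (l.φ PUnit.unit) (hK.2 0 (l.f PUnit.unit)))
      refine (hF _ hcov).isSeparatedFor.ext ?_
      intro V t ht
      have ht' := (Sieve.overEquiv_iff _ _).1 ht
      obtain ⟨i', d, hd'⟩ := (Sieve.mem_ofArrows_iff _ _ _).1 ht'
      let w' : Over X := Over.mk (t ≫ w.hom)
      let τ : (FormalCoproduct.incl (Over X)).obj w' ⟶ (FormalCoproduct.incl (Over X)).obj w :=
        (FormalCoproduct.incl (Over X)).map (Over.homMk t rfl)
      let c' : (FormalCoproduct.incl (Over X)).obj w' ⟶ K1 := FormalCoproduct.Hom.fromIncl i'.1 d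
      have hc : c' ≫ (un K).app (op (SimplexCategory.mk 1)) = τ ≫ l := by
        refine FormalCoproduct.hom_ext (funext fun _ => i'.2) ?_
        rintro ⟨⟩
        have := hd'.symm
        simpa [c', τ] using this
      obtain ⟨h1, h2⟩ := hl _ τ c' hc
      show (F.obj.map t.op).hom ((F.obj.map gi.op).hom (cmp P K0 x i)) =
        (F.obj.map t.op).hom ((F.obj.map gj.op).hom (cmp P K0 x j))
      have ea : cmp P _ (pb P (τ ≫ a) x) PUnit.unit =
          (F.obj.map t.op).hom ((F.obj.map gi.op).hom (cmp P K0 x i)) := by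
        rw [pb_comp, cmp_pb, cmp_pb]
        rfl
      have eb : cmp P _ (pb P (τ ≫ b) x) PUnit.unit =
          (F.obj.map t.op).hom ((F.obj.map gj.op).hom (cmp P K0 x j)) := by
        rw [pb_comp, cmp_pb, cmp_pb]
        rfl
      rw [← ea, ← eb, h1, h2, pb_comp, pb_comp]
      exact congrArg (fun z => cmp P _ (pb P c' z) PUnit.unit) hx'.symm
    obtain ⟨t, ht, _⟩ := hglue _ hcompat
    refine ⟨t, ?_⟩
    apply ev_ext P K0
    intro i
    exact (hφπ i t).trans (ht i)
  let S : ShortComplex AddCommGrpCat.{u} := ShortComplex.mk φ (CX.d 0 1) hφd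
  have hS : S.Exact := by
    rw [ShortComplex.ab_exact_iff]
    intro x hx
    exact hex x hx
  haveI : Mono S.f := (AddCommGrpCat.mono_iff_injective _).2 hinj
  have e1 : CX.cycles 0 ≅ F.obj.obj (op X) :=
    IsLimit.conePointUniqueUpToIso (CX.cyclesIsKernel 0 1 (by simp)) hS.fIsKernel
  exact ⟨CX.isoHomologyπ₀.symm ≪≫ e1⟩

end H0

end Groth.Agent.Lib.HyperH0L
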