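import Mathlib
import Groth.Prelude.Def_Hyper
import Groth.Agent.Lib.HyperH0_lead

set_option autoImplicit false
set_option linter.unusedSimpArgs false
set_option linter.unusedVariables false
set_option linter.unusedSectionVars false
set_option linter.style.longLine false
set_option linter.unnecessarySimpa false
set_option linter.deprecated false
set_option linter.style.haveILetI false
set_option maxHeartbeats 1600000
set_option backward.isDefEq.respectTransparency false
set_option backward.isDefEq.respectTransparency.types false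
set_option backward.defeqAttrib.useBackward true

universe u

noncomputable section

namespace Groth.Agent.Lib.HyperSiteL

open CategoryTheory CategoryTheory.Limits Opposite Groth.Agent.Lib.HyperH0L

section Y

variable {D₀ : Type u} [Category.{u} D₀]

/-- the functor from formal coproducts to presheaves of sets -/
abbrev yo : FormalCoproduct.{u} D₀ ⥤ D₀ᵒᵖ ⥤ Type u := FormalCoproduct.yoneda

/-- element of `yo A` at `w` attached to a map `incl w ⟶ A` -/
def toY (A : FormalCoproduct.{u} D₀) (w : D₀) (a : (FormalCoproduct.incl D₀).obj w ⟶ A) :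
    ((yo (D₀ := D₀)).obj A).obj (op w) :=
  (Sigma.ι (fun i : A.I => yoneda.obj (A.obj i)) (a.f PUnit.unit)).app (op w) (a.φ PUnit.unit)

lemma toY_surj (A : FormalCoproduct.{u} D₀) (w : D₀) (s : ((yo (D₀ := D₀)).obj A).obj (op w)) :
    ∃ a, toY A w a = s := by
  have hc := isColimitOfPreserves ((evaluation D₀ᵒᵖ (Type u)).obj (op w))
    (colimit.isColimit (Discrete.functor (fun i : A.I => yoneda.obj (A.obj i))))
  obtain ⟨⟨i⟩, g, hg⟩ := Types.jointly_surjective_of_isColimit hc s
  exact ⟨FormalCoproduct.Hom.fromIncl i g, hg⟩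

lemma toY_map {A B : FormalCoproduct.{u} D₀} (ψ : A ⟶ B) (w : D₀)
    (a : (FormalCoproduct.incl D₀).obj w ⟶ A) :
    ((yo (D₀ := D₀)).map ψ).app (op w) (toY A w a) = toY B w (a ≫ ψ) := by
  have h : Sigma.ι (fun i : A.I => yoneda.obj (A.obj i)) (a.f PUnit.unit) ≫ (yo (D₀ := D₀)).map ψ =
      yoneda.map (ψ.φ (a.f PUnit.unit)) ≫
        Sigma.ι (fun j : B.I => yoneda.obj (B.obj j)) (ψ.f (a.f PUnit.unit)) := by
    dsimp only [yo, FormalCoproduct.yoneda]
    simp only [FormalCoproduct.eval_obj_map]
    exact Sigma.ι_desc _ _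
  have := congrArg (fun m => m.app (op w) (a.φ PUnit.unit)) h
  exact this

lemma toY_res (A : FormalCoproduct.{u} D₀) {w w' : D₀} (t : w' ⟶ w)
    (a : (FormalCoproduct.incl D₀).obj w ⟶ A) :
    ((yo (D₀ := D₀)).obj A).map t.op (toY A w a) =
      toY A w' ((FormalCoproduct.incl D₀).map t ≫ a) := by
  have := congrArg (fun m => m (a.φ PUnit.unit))
    ((Sigma.ι (fun i : A.I => yoneda.obj (A.obj i)) (a.f PUnit.unit)).naturality t.op)
  exact this.symm

lemma subsingleton_terminal_obj (w : D₀) :
    Subsingleton ((⊤_ (D₀ᵒᵖ ⥤ Type u)).obj (op w)) := by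
  constructor
  intro x y
  apply yonedaEquiv.symm.injective
  apply terminal.hom_ext

lemma prod_ext_elem {F G : D₀ᵒᵖ ⥤ Type u} (U : D₀ᵒᵖ) (x y : (F ⨯ G).obj U)
    (h1 : (Limits.prod.fst (X := F) (Y := G)).app U x = (Limits.prod.fst (X := F) (Y := G)).app U y)
    (h2 : (Limits.prod.snd (X := F) (Y := G)).app U x = (Limits.prod.snd (X := F) (Y := G)).app U y) :
    x = y := by
  have hx : ∀ z : (F ⨯ G).obj U, (FunctorToTypes.binaryProductIso F G).inv.app U
      ((FunctorToTypes.binaryProductIso F G).hom.app U z) = z := fun z => by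
    have := congrArg (fun m => m.app U z) (FunctorToTypes.binaryProductIso F G).hom_inv_id
    exact this
  have h3 : (FunctorToTypes.binaryProductIso F G).hom.app U x =
      (FunctorToTypes.binaryProductIso F G).hom.app U y := by
    apply Prod.ext
    · exact h1
    · exact h2
  rw [← hx x, ← hx y, h3]

theorem locSurj_of_srcov (J' : GrothendieckTopology D₀) {A B : FormalCoproduct.{u} D₀} (f : A ⟶ B)
    (hf : Hyper.IsSRCovering J' f) : Presheaf.IsLocallySurjective J' ((yo (D₀ := D₀)).map f) := by
  constructor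
  intro w s
  obtain ⟨b, rfl⟩ := toY_surj B w s
  refine J'.superset_covering ?_ (J'.pullback_stable (b.φ PUnit.unit) (hf (b.f PUnit.unit)))
  intro w' t ht
  obtain ⟨i, d, hd⟩ := (Sieve.mem_ofArrows_iff _ _ _).1 ht
  refine ⟨toY A w' (FormalCoproduct.Hom.fromIncl i.1 d), ?_⟩
  rw [toY_map, toY_res]
  congr 1
  refine FormalCoproduct.hom_ext (funext fun _ => i.2) ?_
  rintro ⟨⟩
  simpa using hd.symm

end Y

section Main

variable {C : Type u} [SmallCategory C] (J : GrothendieckTopology C) (X : C)
  [∀ (n : ℕ) (F : (SimplexCategory.Truncated n)ᵒᵖ ⥤ FormalCoproduct.{u} (Over X)),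
      (SimplexCategory.Truncated.inclusion n).op.HasRightKanExtension F]
  (K : SimplicialObject (FormalCoproduct.{u} (Over X)))

theorem cond1 (hK : Hyper.IsHypercovering J X K) :
    Presheaf.IsLocallySurjective (J.over X)
      (terminal.from (FormalCoproduct.yoneda.obj (K.obj (op (SimplexCategory.mk 0))))) := by
  constructor
  intro w s
  have h := J.pullback_stable w.hom hK.1
  have h' := J.overEquiv_symm_mem_over w _ h
  refine (J.over X).superset_covering ?_ h'
  intro w' t ht
  have ht' := (Sieve.overEquiv_symm_iff _ _).1 ht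
  obtain ⟨i, c, hc⟩ := (Sieve.mem_ofArrows_iff _ _ _).1 ht'
  haveI := subsingleton_terminal_obj (D₀ := Over X) w'
  refine ⟨toY (K.obj (op (SimplexCategory.mk 0))) w'
    (FormalCoproduct.Hom.fromIncl i (Over.homMk c (by rw [← hc, Over.w t]))), ?_⟩
  apply Subsingleton.elim

theorem cond2 (hK : Hyper.IsHypercovering J X K) :
    Presheaf.IsLocallySurjective (J.over X)
      (prod.lift (FormalCoproduct.yoneda.map (K.δ (1 : Fin 2)))
        (FormalCoproduct.yoneda.map (K.δ (0 : Fin 2)))) := by
  constructor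
  intro w s
  obtain ⟨a, ha⟩ := toY_surj (K.obj (op (SimplexCategory.mk 0))) w
    ((Limits.prod.fst (X := (yo (D₀ := Over X)).obj (K.obj (op (SimplexCategory.mk 0))))
      (Y := (yo (D₀ := Over X)).obj (K.obj (op (SimplexCategory.mk 0))))).app (op w) s)
  obtain ⟨b, hb⟩ := toY_surj (K.obj (op (SimplexCategory.mk 0))) w
    ((Limits.prod.snd (X := (yo (D₀ := Over X)).obj (K.obj (op (SimplexCategory.mk 0))))
      (Y := (yo (D₀ := Over X)).obj (K.obj (op (SimplexCategory.mk 0))))).app (op w) s)
  obtain ⟨l, hl⟩ := cosk0_cor K w a b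
  refine (J.over X).superset_covering ?_
    ((J.over X).pullback_stable (l.φ PUnit.unit) (hK.2 0 (l.f PUnit.unit)))
  intro w' t ht
  obtain ⟨i', d, hd'⟩ := (Sieve.mem_ofArrows_iff _ _ _).1 ht
  let τ : (FormalCoproduct.incl (Over X)).obj w' ⟶ (FormalCoproduct.incl (Over X)).obj w :=
    (FormalCoproduct.incl (Over X)).map t
  let c' : (FormalCoproduct.incl (Over X)).obj w' ⟶ K.obj (op (SimplexCategory.mk 1)) :=
    FormalCoproduct.Hom.fromIncl i'.1 d
  have hc : c' ≫ (un K).app (op (SimplexCategory.mk 1)) = τ ≫ l := by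
    refine FormalCoproduct.hom_ext (funext fun _ => i'.2) ?_
    rintro ⟨⟩
    have := hd'.symm
    simpa [c', τ] using this
  obtain ⟨h1, h2⟩ := hl _ τ c' hc
  refine ⟨toY (K.obj (op (SimplexCategory.mk 1))) w' c', ?_⟩
  apply prod_ext_elem
  · have e1 := congrArg (fun m => m.app (op w') (toY (K.obj (op (SimplexCategory.mk 1))) w' c'))
      (prod.lift_fst (FormalCoproduct.yoneda.map (K.δ (1 : Fin 2)))
        (FormalCoproduct.yoneda.map (K.δ (0 : Fin 2))))
    have e2 := congrArg (fun m => m s)
      ((Limits.prod.fst (X := (yo (D₀ := Over X)).obj (K.obj (op (SimplexCategory.mk 0))))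
        (Y := (yo (D₀ := Over X)).obj (K.obj (op (SimplexCategory.mk 0))))).naturality t.op)
    refine e1.trans (Eq.trans ?_ ((congrArg (fun z =>
      ((yo (D₀ := Over X)).obj (K.obj (op (SimplexCategory.mk 0)))).map t.op z) ha).trans e2.symm))
    show ((yo (D₀ := Over X)).map (K.δ (1 : Fin 2))).app (op w')
        (toY (K.obj (op (SimplexCategory.mk 1))) w' c') =
      ((yo (D₀ := Over X)).obj (K.obj (op (SimplexCategory.mk 0)))).map t.op
        (toY (K.obj (op (SimplexCategory.mk 0))) w a)
    rw [toY_map, toY_res]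
    exact congrArg _ h1.symm
  · have e1 := congrArg (fun m => m.app (op w') (toY (K.obj (op (SimplexCategory.mk 1))) w' c'))
      (prod.lift_snd (FormalCoproduct.yoneda.map (K.δ (1 : Fin 2)))
        (FormalCoproduct.yoneda.map (K.δ (0 : Fin 2))))
    have e2 := congrArg (fun m => m s)
      ((Limits.prod.snd (X := (yo (D₀ := Over X)).obj (K.obj (op (SimplexCategory.mk 0))))
        (Y := (yo (D₀ := Over X)).obj (K.obj (op (SimplexCategory.mk 0))))).naturality t.op)
    refine e1.trans (Eq.trans ?_ ((congrArg (fun z =>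
      ((yo (D₀ := Over X)).obj (K.obj (op (SimplexCategory.mk 0)))).map t.op z) hb).trans e2.symm))
    show ((yo (D₀ := Over X)).map (K.δ (0 : Fin 2))).app (op w')
        (toY (K.obj (op (SimplexCategory.mk 1))) w' c') =
      ((yo (D₀ := Over X)).obj (K.obj (op (SimplexCategory.mk 0)))).map t.op
        (toY (K.obj (op (SimplexCategory.mk 0))) w b)
    rw [toY_map, toY_res]
    exact congrArg _ h2.symm

theorem isHypercoveringSite_over (hK : Hyper.IsHypercovering J X K) :
    Hyper.IsHypercoveringSite (J.over X) K :=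
  ⟨cond1 J X K hK, cond2 J X K hK, fun n _ => locSurj_of_srcov (J.over X) _ (hK.2 n)⟩

end Main

end Groth.Agent.Lib.HyperSiteL
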