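import Mathlib
import Groth.Agent.Lib.HyperSiteOver_lead

/-!
# The Yoneda functor on formal coproducts preserves right Kan extensions

* `yEvalIso`: sections of `FormalCoproduct.yoneda.obj A` over `w` are morphisms `incl w ⟶ A`.
* `isLimit_y_mapCone`: a cone in formal coproducts which becomes a limit cone after applying
  `Hom(incl w, -)` for all `w` is sent to a limit cone by `FormalCoproduct.yoneda`.
* `isLimit_coyoneda_coneAt`: right Kan extensions with values in formal coproducts are pointwise
  with respect to the test objects `incl w` (copower argument).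
-/

set_option backward.isDefEq.respectTransparency false
set_option backward.isDefEq.respectTransparency.types false
set_option linter.style.haveILetI false
set_option linter.unusedSectionVars false
set_option autoImplicit false

universe u

open CategoryTheory CategoryTheory.Limits Opposite

namespace Groth.Agent.Lib.FCYoneda

open Groth.Agent.Lib.HyperSiteL

variable {D : Type u} [Category.{u} D]

section YEval

lemma toY_inj (A : FormalCoproduct.{u} D) (w : D)
    (a b : (FormalCoproduct.incl D).obj w ⟶ A) (h : toY A w a = toY A w b) : a = b := by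
  let F : A.I → (Dᵒᵖ ⥤ Type u) := fun i => yoneda.obj (A.obj i)
  have hc : IsColimit (Cofan.mk (((evaluation Dᵒᵖ (Type u)).obj (op w)).obj (∐ F))
      (fun i => ((evaluation Dᵒᵖ (Type u)).obj (op w)).map (Sigma.ι F i))) :=
    isColimitCofanMkObjOfIsColimit _ _ _ (coproductIsCoproduct F)
  have h' := (Cofan.inj_apply_eq_iff_of_isColimit hc (a.φ PUnit.unit) (b.φ PUnit.unit)).1 h
  obtain ⟨hij, hφ⟩ := h'
  obtain ⟨fa, φa⟩ := a
  obtain ⟨fb, φb⟩ := b
  have hf : fa = fb := funext (fun _ => hij)
  subst hf
  have hφ' : φb PUnit.unit = φa PUnit.unit := by simpa using hφ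
  have : φa = φb := funext (fun _ => hφ'.symm)
  subst this
  rfl

lemma toY_bij (A : FormalCoproduct.{u} D) (w : D) : Function.Bijective (toY A w) :=
  ⟨fun a b h => toY_inj A w a b h, toY_surj A w⟩

/-- Sections of `yoneda A` over `w` are the morphisms `incl w ⟶ A`. -/
noncomputable def yEvalIso (w : D) :
    coyoneda.obj (op ((FormalCoproduct.incl D).obj w)) ≅
      FormalCoproduct.yoneda ⋙ (evaluation Dᵒᵖ (Type u)).obj (op w) :=
  NatIso.ofComponents
    (fun A => (Equiv.ofBijective (toY A w) (toY_bij A w)).toIso)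
    (by
      intro A B ψ
      ext a
      exact (toY_map ψ w a).symm)

/-- A cone of formal coproducts which is a limit cone after applying `Hom(incl w, -)` for all `w`
is sent to a limit cone by the Yoneda functor. -/
lemma isLimit_y_mapCone {Jc : Type*} [Category Jc] {F : Jc ⥤ FormalCoproduct.{u} D} (c : Cone F)
    (h : ∀ w : D, Nonempty (IsLimit
      ((coyoneda.obj (op ((FormalCoproduct.incl D).obj w))).mapCone c))) :
    Nonempty (IsLimit (FormalCoproduct.yoneda.mapCone c)) := by
  refine ⟨evaluationJointlyReflectsLimits _ (fun U => ?_)⟩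
  have hw := (h U.unop).some
  have h2 : IsLimit ((FormalCoproduct.yoneda ⋙ (evaluation Dᵒᵖ (Type u)).obj U).mapCone c) :=
    (IsLimit.mapConeEquiv (yEvalIso U.unop)) hw
  exact (IsLimit.ofIsoLimit h2 (Functor.mapConeMapCone _).symm)

end YEval

section Cop

variable {B : Type} [SmallCategory B]

/-- The copower `Hom(b, -) · w` as a functor to formal coproducts. -/
def cop (b : B) (w : D) : B ⥤ FormalCoproduct.{u} D where
  obj b' := ⟨ULift.{u} (b ⟶ b'), fun _ => w⟩
  map θ := ⟨fun σ => ⟨σ.down ≫ θ⟩, fun _ => 𝟙 w⟩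
  map_id b' := by
    refine FormalCoproduct.hom_ext (funext fun σ => ?_) (fun σ => ?_)
    · apply ULift.ext
      simp
    · simp
  map_comp f g := by
    refine FormalCoproduct.hom_ext (funext fun σ => ?_) (fun σ => ?_)
    · apply ULift.ext
      simp
    · simp

/-- The inclusion of the summand of `σ`. -/
def copι (w : D) {b b' : B} (σ : b ⟶ b') :
    (FormalCoproduct.incl D).obj w ⟶ (cop b w).obj b' :=
  ⟨fun _ => ⟨σ⟩, fun _ => 𝟙 w⟩

lemma copι_map (w : D) {b b' b'' : B} (σ : b ⟶ b') (θ : b' ⟶ b'') :
    copι w σ ≫ (cop b w).map θ = copι w (σ ≫ θ) := by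
  refine FormalCoproduct.hom_ext (funext fun _ => rfl) (fun _ => ?_)
  simp [copι, cop]

/-- The morphism out of a copower induced by a family of morphisms. -/
def copDesc (w : D) {b b' : B} {Z : FormalCoproduct.{u} D}
    (t : (b ⟶ b') → ((FormalCoproduct.incl D).obj w ⟶ Z)) : (cop b w).obj b' ⟶ Z :=
  ⟨fun σ => (t σ.down).f PUnit.unit, fun σ => (t σ.down).φ PUnit.unit⟩

lemma copι_desc (w : D) {b b' : B} {Z : FormalCoproduct.{u} D}
    (t : (b ⟶ b') → ((FormalCoproduct.incl D).obj w ⟶ Z)) (σ : b ⟶ b') :
    copι w σ ≫ copDesc w t = t σ := by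
  refine FormalCoproduct.hom_ext (funext fun _ => rfl) ?_
  rintro ⟨⟩
  simp [copι, copDesc]
  exact Category.id_comp _

lemma cop_hom_ext (w : D) {b b' : B} {Z : FormalCoproduct.{u} D} (p q : (cop b w).obj b' ⟶ Z)
    (h : ∀ σ : b ⟶ b', copι w σ ≫ p = copι w σ ≫ q) : p = q := by
  rw [FormalCoproduct.hom_ext_iff']
  rintro ⟨σ⟩
  obtain ⟨h1, h2⟩ := (FormalCoproduct.hom_ext_iff' _ _).1 (h σ) PUnit.unit
  refine ⟨h1, ?_⟩
  have h3 := h2
  simp only [copι, FormalCoproduct.category_comp_φ] at h3
  erw [Category.id_comp, Category.id_comp] at h3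
  exact h3

variable (R : B ⥤ FormalCoproduct.{u} D)

/-- The morphism `cop b w ⟶ R` attached to `r : incl w ⟶ R.obj b` (Yoneda). -/
def sharp {b : B} {w : D} (r : (FormalCoproduct.incl D).obj w ⟶ R.obj b) : cop b w ⟶ R where
  app b' := copDesc w (fun σ => r ≫ R.map σ)
  naturality b' b'' θ := by
    apply cop_hom_ext
    intro σ
    rw [← Category.assoc, copι_map, copι_desc, ← Category.assoc, copι_desc, Category.assoc,
      ← R.map_comp]

lemma copι_sharp {b b' : B} {w : D} (r : (FormalCoproduct.incl D).obj w ⟶ R.obj b)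
    (σ : b ⟶ b') : copι w σ ≫ (sharp R r).app b' = r ≫ R.map σ :=
  copι_desc w _ σ

lemma copι_id_sharp {b : B} {w : D} (r : (FormalCoproduct.incl D).obj w ⟶ R.obj b) :
    copι w (𝟙 b) ≫ (sharp R r).app b = r := by
  rw [copι_sharp, R.map_id, Category.comp_id]

end Cop

section Pointwise

variable {A B : Type} [SmallCategory A] [SmallCategory B] (L : A ⥤ B)
  (T : A ⥤ FormalCoproduct.{u} D) (R : B ⥤ FormalCoproduct.{u} D) (α : L ⋙ R ⟶ T)

/-- The natural transformation `L ⋙ cop b w ⟶ T` attached to a compatible family. -/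
def famTrans (b : B) (w : D)
    (s : ∀ j : StructuredArrow b L, (FormalCoproduct.incl D).obj w ⟶ T.obj j.right)
    (hs : ∀ {j j' : StructuredArrow b L} (φ : j ⟶ j'), s j ≫ T.map φ.right = s j') :
    L ⋙ cop b w ⟶ T where
  app a := copDesc w (fun σ => s (StructuredArrow.mk σ))
  naturality a a' θ := by
    apply cop_hom_ext
    intro σ
    have e1 : copι w σ ≫ (L ⋙ cop b w).map θ = copι w (σ ≫ L.map θ) := copι_map w σ (L.map θ)
    rw [← Category.assoc, e1, copι_desc, ← Category.assoc, copι_desc]
    exact (hs (StructuredArrow.homMk θ rfl :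
      StructuredArrow.mk σ ⟶ StructuredArrow.mk (σ ≫ L.map θ))).symm

theorem isLimit_coyoneda_coneAt [R.IsRightKanExtension α] (b : B) (w : D) :
    Nonempty (IsLimit ((coyoneda.obj (op ((FormalCoproduct.incl D).obj w))).mapCone
      ((Functor.RightExtension.mk R α).coneAt b))) := by
  rw [Types.isLimit_iff]
  intro s hs
  have hs' : ∀ {j j' : StructuredArrow b L} (φ : j ⟶ j'), s j ≫ T.map φ.right = s j' :=
    fun φ => hs φ
  let β := famTrans L T b w s hs'
  let r' : cop b w ⟶ R := R.liftOfIsRightKanExtension α (cop b w) β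
  have fac : L.whiskerLeft r' ≫ α = β := R.liftOfIsRightKanExtension_fac α (cop b w) β
  refine ⟨copι w (𝟙 b) ≫ r'.app b, ?_, ?_⟩
  · intro j
    show (copι w (𝟙 b) ≫ r'.app b) ≫ R.map j.hom ≫ α.app j.right = s j
    have e1 : r'.app b ≫ R.map j.hom = (cop b w).map j.hom ≫ r'.app (L.obj j.right) :=
      (r'.naturality j.hom).symm
    have e2 : r'.app (L.obj j.right) ≫ α.app j.right = β.app j.right :=
      congrArg (fun m => m.app j.right) fac
    have e3 : copι w (𝟙 b) ≫ (cop b w).map j.hom = copι w j.hom := by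
      rw [copι_map, Category.id_comp]
    calc (copι w (𝟙 b) ≫ r'.app b) ≫ R.map j.hom ≫ α.app j.right
        = copι w (𝟙 b) ≫ (r'.app b ≫ R.map j.hom) ≫ α.app j.right := by
          simp only [Category.assoc]
      _ = (copι w (𝟙 b) ≫ (cop b w).map j.hom) ≫ r'.app (L.obj j.right) ≫ α.app j.right := by
          rw [e1]; simp only [Category.assoc]
      _ = copι w j.hom ≫ β.app j.right := by rw [e3, e2]
      _ = s (StructuredArrow.mk j.hom) := copι_desc w _ j.hom
      _ = s j := rfl
  · intro r₂ hr₂
    have hr₂' : ∀ j : StructuredArrow b L, r₂ ≫ R.map j.hom ≫ α.app j.right = s j := hr₂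
    have e : sharp R r₂ = r' := by
      apply Functor.hom_ext_of_isRightKanExtension R α
      rw [fac]
      ext a : 2
      apply cop_hom_ext
      intro σ
      have e4 : copι w σ ≫ (L.whiskerLeft (sharp R r₂) ≫ α).app a =
          (copι w σ ≫ (sharp R r₂).app (L.obj a)) ≫ α.app a := by
        simp only [NatTrans.comp_app, Functor.whiskerLeft_app, Category.assoc]
      rw [e4, copι_sharp, Category.assoc]
      have e5 : copι w σ ≫ β.app a = s (StructuredArrow.mk σ) := copι_desc w _ σ
      rw [e5]
      exact hr₂' (StructuredArrow.mk σ)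
    rw [← e, copι_id_sharp]

/-- A right Kan extension with values in formal coproducts becomes a pointwise right Kan
extension after applying the Yoneda functor. -/
theorem isPointwise_y [R.IsRightKanExtension α] :
    Nonempty ((Functor.RightExtension.mk (R ⋙ FormalCoproduct.yoneda)
      ((Functor.associator _ _ _).inv ≫ Functor.whiskerRight α FormalCoproduct.yoneda) :
        Functor.RightExtension L (T ⋙ FormalCoproduct.yoneda)).IsPointwiseRightKanExtension) := by
  have h : ∀ b : B, Nonempty (IsLimit (FormalCoproduct.yoneda.mapCone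
      ((Functor.RightExtension.mk R α).coneAt b))) :=
    fun b => isLimit_y_mapCone _ (fun w => isLimit_coyoneda_coneAt L T R α b w)
  refine ⟨fun b => ?_⟩
  have hb := (h b).some
  refine IsLimit.ofIsoLimit hb ?_
  exact Cone.ext (Iso.refl _) (fun j => by
    change FormalCoproduct.yoneda.map (R.map j.hom ≫ α.app j.right) =
      𝟙 _ ≫ (FormalCoproduct.yoneda.map (R.map j.hom) ≫
        (𝟙 _ ≫ FormalCoproduct.yoneda.map (α.app j.right)))
    rw [Category.id_comp, Category.id_comp, Functor.map_comp])

end Pointwise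

end Groth.Agent.Lib.FCYoneda
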