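import Mathlib
import Groth.Agent.Lib.TruncKan_helper4

set_option autoImplicit false
set_option linter.style.haveILetI false
set_option linter.unusedSectionVars false

universe v u

open CategoryTheory CategoryTheory.Limits Opposite Simplicial

namespace Groth.Agent.Lib.CoskHtpyGenH4

section ValLemmas

lemma val_succAbove' {n : ℕ} (p : Fin (n+1)) (y : Fin n) :
    ((p.succAbove y : Fin (n+1)) : ℕ) =
      if (y : ℕ) < (p : ℕ) then (y : ℕ) else (y : ℕ) + 1 := by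
  by_cases h : y.castSucc < p
  · have h' : (y : ℕ) < (p : ℕ) := h
    rw [Fin.succAbove_of_castSucc_lt p y h, if_pos h']
    all_goals rfl
  · have h' : ¬ (y : ℕ) < (p : ℕ) := h
    rw [Fin.succAbove_of_le_castSucc p y (not_lt.1 h), if_neg h']
    all_goals rfl

lemma val_predAbove' {n : ℕ} (p : Fin n) (y : Fin (n+1)) :
    ((p.predAbove y : Fin n) : ℕ) =
      if (p : ℕ) < (y : ℕ) then (y : ℕ) - 1 else (y : ℕ) := by
  by_cases h : p.castSucc < y
  · have h' : (p : ℕ) < (y : ℕ) := h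
    rw [Fin.predAbove_of_castSucc_lt p y h, if_pos h']
    all_goals rfl
  · have h' : ¬ (p : ℕ) < (y : ℕ) := h
    rw [Fin.predAbove_of_le_castSucc p y (not_lt.1 h), if_neg h']
    all_goals rfl

lemma above_δ {k : SimplexCategory} {j : ℕ} (a : k ⟶ ⦋j⦌) (p : Fin (j+2))
    (x : Fin (k.len+1)) :
    (((a ≫ SimplexCategory.δ p).toOrderHom x) : ℕ) =
      if ((a.toOrderHom x) : ℕ) < (p : ℕ) then ((a.toOrderHom x) : ℕ)
      else ((a.toOrderHom x) : ℕ) + 1 :=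
  val_succAbove' p (a.toOrderHom x)

lemma above_σ {k : SimplexCategory} {j : ℕ} (a : k ⟶ ⦋j+1⦌) (p : Fin (j+1))
    (x : Fin (k.len+1)) :
    (((a ≫ SimplexCategory.σ p).toOrderHom x) : ℕ) =
      if (p : ℕ) < ((a.toOrderHom x) : ℕ) then ((a.toOrderHom x) : ℕ) - 1
      else ((a.toOrderHom x) : ℕ) :=
  val_predAbove' p (a.toOrderHom x)

end ValLemmas

section Core

variable {E : Type u} [Category.{v} E] {n : ℕ} {W C : SimplicialObject E}
  {F : (SimplexCategory.Truncated n)ᵒᵖ ⥤ E}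
  (α : (SimplexCategory.Truncated.inclusion n).op ⋙ C ⟶ F)
  (φ ψ : W ⟶ C)

/-- Component of `α`. -/
def αk (k : SimplexCategory) (hk : k.len ≤ n) :
    C.obj (op k) ⟶ F.obj (op (⟨k, hk⟩ : SimplexCategory.Truncated n)) :=
  α.app (op ⟨k, hk⟩)

lemma αk_nat {k k' : SimplexCategory} (hk : k.len ≤ n) (hk' : k'.len ≤ n) (τ : k' ⟶ k) :
    C.map τ.op ≫ αk α k' hk' =
      αk α k hk ≫ F.map (ObjectProperty.homMk τ :
        (⟨k', hk'⟩ : SimplexCategory.Truncated n) ⟶ ⟨k, hk⟩).op :=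
  α.naturality (ObjectProperty.homMk τ :
    (⟨k', hk'⟩ : SimplexCategory.Truncated n) ⟶ ⟨k, hk⟩).op

open Classical in
/-- `ψ` if all values of `a` are `> i`, else `φ`. -/
noncomputable def pk (i : ℕ) {k : SimplexCategory} {j : ℕ} (a : k ⟶ ⦋j⦌) :
    W.obj (op k) ⟶ C.obj (op k) :=
  if ∀ x, i < ((a.toOrderHom x) : ℕ) then ψ.app (op k) else φ.app (op k)

lemma pk_pos (i : ℕ) {k : SimplexCategory} {j : ℕ} (a : k ⟶ ⦋j⦌)
    (h : ∀ x, i < ((a.toOrderHom x) : ℕ)) : pk φ ψ i a = ψ.app (op k) := by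
  unfold pk
  exact if_pos h

lemma pk_neg (i : ℕ) {k : SimplexCategory} {j : ℕ} (a : k ⟶ ⦋j⦌)
    (h : ¬ ∀ x, i < ((a.toOrderHom x) : ℕ)) : pk φ ψ i a = φ.app (op k) := by
  unfold pk
  exact if_neg h

lemma pk_congr (i i' : ℕ) {k : SimplexCategory} {j j' : ℕ} (a : k ⟶ ⦋j⦌) (a' : k ⟶ ⦋j'⦌)
    (h : ∀ x, i < ((a.toOrderHom x) : ℕ) ↔ i' < ((a'.toOrderHom x) : ℕ)) :
    pk φ ψ i a = pk φ ψ i' a' := by
  by_cases h1 : ∀ x, i < ((a.toOrderHom x) : ℕ)
  · rw [pk_pos φ ψ i a h1, pk_pos φ ψ i' a' (fun x => (h x).1 (h1 x))]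
  · rw [pk_neg φ ψ i a h1, pk_neg φ ψ i' a' (fun h2 => h1 (fun x => (h x).2 (h2 x)))]

variable (hφψ : ∀ (p : ℕ) (hp : p < n),
    φ.app (op ⦋p⦌) ≫ αk α ⦋p⦌ (le_of_lt hp) = ψ.app (op ⦋p⦌) ≫ αk α ⦋p⦌ (le_of_lt hp))
  (hP : (Functor.RightExtension.mk C α).IsPointwiseRightKanExtension)

include hφψ in
lemma eq_of_not_surj {k k' : SimplexCategory} (hk : k.len ≤ n) (hk' : k'.len ≤ n) (τ : k' ⟶ k)
    (hτ : ¬ Function.Surjective τ.toOrderHom) :
    W.map τ.op ≫ φ.app (op k') ≫ αk α k' hk' = W.map τ.op ≫ ψ.app (op k') ≫ αk α k' hk' := by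
  induction k using SimplexCategory.rec with | _ k =>
  cases k with
  | zero =>
    exfalso
    apply hτ
    intro y
    refine ⟨0, ?_⟩
    apply Fin.ext
    have h1 : ((τ.toOrderHom 0 : Fin _) : ℕ) < 0 + 1 := (τ.toOrderHom 0).isLt
    have h2 : (y : ℕ) < 0 + 1 := y.isLt
    omega
  | succ m =>
    obtain ⟨i, τ', rfl⟩ := SimplexCategory.eq_comp_δ_of_not_surjective τ hτ
    have hm : m < n := hk
    have e := hφψ m hm
    have hm' : (⦋m⦌ : SimplexCategory).len ≤ n := le_of_lt hm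
    have key : ∀ χ : W ⟶ C,
        W.map (τ' ≫ SimplexCategory.δ i).op ≫ χ.app (op k') ≫ αk α k' hk' =
        W.map (SimplexCategory.δ i).op ≫ (χ.app (op ⦋m⦌) ≫ αk α ⦋m⦌ hm') ≫
          F.map (ObjectProperty.homMk τ' :
            (⟨k', hk'⟩ : SimplexCategory.Truncated n) ⟶ ⟨⦋m⦌, hm'⟩).op := by
      intro χ
      rw [op_comp, W.map_comp, Category.assoc, Category.assoc, ← αk_nat α hm' hk' τ',
        ← Category.assoc (W.map τ'.op), χ.naturality τ'.op, Category.assoc]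
    rw [key φ, key ψ, e]

include hφψ in
lemma pk_nat (i : ℕ) {k k' : SimplexCategory} (hk : k.len ≤ n) (hk' : k'.len ≤ n) (τ : k' ⟶ k)
    {j : ℕ} (a : k ⟶ ⦋j⦌) :
    pk φ ψ i a ≫ C.map τ.op ≫ αk α k' hk' =
      W.map τ.op ≫ pk φ ψ i (τ ≫ a) ≫ αk α k' hk' := by
  have hcomp : ∀ x, (τ ≫ a).toOrderHom x = a.toOrderHom (τ.toOrderHom x) := fun x => rfl
  by_cases h1 : ∀ x, i < ((a.toOrderHom x) : ℕ)
  · have h1' : ∀ x, i < (((τ ≫ a).toOrderHom x) : ℕ) := fun x => by rw [hcomp]; exact h1 _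
    rw [pk_pos φ ψ i a h1, pk_pos φ ψ i _ h1', ψ.naturality_assoc]
  · by_cases h2 : ∀ x, i < (((τ ≫ a).toOrderHom x) : ℕ)
    · rw [pk_neg φ ψ i a h1, pk_pos φ ψ i _ h2, ← φ.naturality_assoc]
      apply eq_of_not_surj α φ ψ hφψ hk hk' τ
      intro hs
      apply h1
      intro y
      obtain ⟨x, rfl⟩ := hs y
      rw [← hcomp]
      exact h2 x
    · rw [pk_neg φ ψ i a h1, pk_neg φ ψ i _ h2, φ.naturality_assoc]

include hP in
lemma hom_ext_C {Z : E} {j : ℕ} (u v : Z ⟶ C.obj (op ⦋j⦌))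
    (h : ∀ (k : SimplexCategory) (hk : k.len ≤ n) (a : k ⟶ ⦋j⦌),
      u ≫ C.map a.op ≫ αk α k hk = v ≫ C.map a.op ≫ αk α k hk) : u = v := by
  refine IsLimit.hom_ext (hP (op ⦋j⦌)) (fun s => ?_)
  exact h s.right.unop.obj s.right.unop.property s.hom.unop

/-- The underlying simplex-category morphism of a structured arrow. -/
def arr {j : ℕ} (s : StructuredArrow (op ⦋j⦌) (SimplexCategory.Truncated.inclusion n).op) :
    s.right.unop.obj ⟶ ⦋j⦌ := s.hom.unop

/-- The components of the cone defining `h i`. -/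
noncomputable def hApp (m : ℕ) (i : Fin (m+1))
    (s : StructuredArrow (op ⦋m+1⦌) (SimplexCategory.Truncated.inclusion n).op) :
    W.obj (op ⦋m⦌) ⟶ F.obj s.right :=
  W.map (arr s ≫ SimplexCategory.σ i).op ≫ pk φ ψ (i : ℕ) (arr s) ≫
    αk α s.right.unop.obj s.right.unop.property

include hφψ in
lemma hApp_nat (m : ℕ) (i : Fin (m+1))
    {s s' : StructuredArrow (op ⦋m+1⦌) (SimplexCategory.Truncated.inclusion n).op}
    (t : s ⟶ s') :
    hApp α φ ψ m i s ≫ F.map t.right = hApp α φ ψ m i s' := by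
  have hw : arr s' = t.right.unop.hom ≫ arr s :=
    congrArg Quiver.Hom.unop (StructuredArrow.w t).symm
  have hα : αk α _ s.right.unop.property ≫ F.map t.right =
      C.map (t.right.unop.hom).op ≫ αk α _ s'.right.unop.property :=
    (α.naturality t.right).symm
  have hpk := pk_nat α φ ψ hφψ (i : ℕ) s.right.unop.property s'.right.unop.property
    t.right.unop.hom (arr s)
  have e : W.map ((t.right.unop.hom ≫ arr s) ≫ SimplexCategory.σ i).op =
      W.map (arr s ≫ SimplexCategory.σ i).op ≫ W.map (t.right.unop.hom).op := by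
    rw [← W.map_comp, ← op_comp, Category.assoc]
  unfold hApp
  rw [Category.assoc, Category.assoc, hα, hpk, hw, e, Category.assoc]

include hφψ in
/-- The cone defining `h i`. -/
noncomputable def hCone (m : ℕ) (i : Fin (m+1)) :
    Cone (StructuredArrow.proj (op ⦋m+1⦌) (SimplexCategory.Truncated.inclusion n).op ⋙ F) where
  pt := W.obj (op ⦋m⦌)
  π :=
    { app := fun s => hApp α φ ψ m i s
      naturality := fun s s' t =>
        (Category.id_comp _).trans (hApp_nat α φ ψ hφψ m i t).symm }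

include hφψ hP in
/-- The homotopy operators. -/
noncomputable def hh (m : ℕ) (i : Fin (m+1)) : W.obj (op ⦋m⦌) ⟶ C.obj (op ⦋m+1⦌) :=
  IsLimit.lift (hP (op ⦋m+1⦌)) (hCone α φ ψ hφψ m i)

lemma hh_comp (m : ℕ) (i : Fin (m+1)) (k : SimplexCategory) (hk : k.len ≤ n)
    (a : k ⟶ ⦋m+1⦌) :
    hh α φ ψ hφψ hP m i ≫ C.map a.op ≫ αk α k hk =
      W.map (a ≫ SimplexCategory.σ i).op ≫ pk φ ψ (i : ℕ) a ≫ αk α k hk :=
  IsLimit.fac (hP (op ⦋m+1⦌)) (hCone α φ ψ hφψ m i)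
    (StructuredArrow.mk (Y := op (⟨k, hk⟩ : SimplexCategory.Truncated n)) a.op)

lemma hh_map (m : ℕ) (i : Fin (m+1)) {j : ℕ} (b : ⦋j⦌ ⟶ ⦋m+1⦌) (k : SimplexCategory)
    (hk : k.len ≤ n) (a : k ⟶ ⦋j⦌) :
    (hh α φ ψ hφψ hP m i ≫ C.map b.op) ≫ C.map a.op ≫ αk α k hk =
      W.map ((a ≫ b) ≫ SimplexCategory.σ i).op ≫ pk φ ψ (i : ℕ) (a ≫ b) ≫ αk α k hk := by
  rw [Category.assoc, ← Category.assoc (C.map b.op), ← C.map_comp, ← op_comp]
  exact hh_comp α φ ψ hφψ hP m i k hk (a ≫ b)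

lemma map_hh (m : ℕ) (i : Fin (m+1)) {j : ℕ} (b : ⦋m⦌ ⟶ ⦋j⦌) (k : SimplexCategory)
    (hk : k.len ≤ n) (a : k ⟶ ⦋m+1⦌) :
    (W.map b.op ≫ hh α φ ψ hφψ hP m i) ≫ C.map a.op ≫ αk α k hk =
      W.map ((a ≫ SimplexCategory.σ i) ≫ b).op ≫ pk φ ψ (i : ℕ) a ≫ αk α k hk := by
  rw [Category.assoc, hh_comp α φ ψ hφψ hP m i k hk a, ← Category.assoc (W.map b.op),
    ← W.map_comp, ← op_comp]

lemma id1 (m : ℕ) :
    hh α φ ψ hφψ hP m 0 ≫ C.map (SimplexCategory.δ (0 : Fin (m+2))).op = ψ.app (op ⦋m⦌) := by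
  apply hom_ext_C α hP
  intro k hk a
  rw [hh_map α φ ψ hφψ hP m 0 (SimplexCategory.δ 0) k hk a]
  have e : (a ≫ SimplexCategory.δ (0 : Fin (m+2))) ≫ SimplexCategory.σ (0 : Fin (m+1)) = a := by
    rw [Category.assoc]
    have h0 : SimplexCategory.δ (0 : Fin (m+2)) ≫ SimplexCategory.σ (0 : Fin (m+1)) = 𝟙 _ :=
      SimplexCategory.δ_comp_σ_self (n := m) (i := (0 : Fin (m+1)))
    rw [h0, Category.comp_id]
  have hpos : ∀ x, ((0 : Fin (m+1)) : ℕ) <
      (((a ≫ SimplexCategory.δ (0 : Fin (m+2))).toOrderHom x) : ℕ) := by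
    intro x
    rw [above_δ]
    have e1 : ((0 : Fin (m+1)) : ℕ) = 0 := rfl
    have e2 : ((0 : Fin (m+2)) : ℕ) = 0 := rfl
    rw [e1, e2]
    split_ifs <;> omega
  rw [e, pk_pos φ ψ _ _ hpos, ψ.naturality_assoc]

lemma id2 (m : ℕ) :
    hh α φ ψ hφψ hP m (Fin.last m) ≫ C.map (SimplexCategory.δ (Fin.last (m+1))).op =
      φ.app (op ⦋m⦌) := by
  apply hom_ext_C α hP
  intro k hk a
  rw [hh_map α φ ψ hφψ hP m (Fin.last m) (SimplexCategory.δ (Fin.last (m+1))) k hk a]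
  have e : (a ≫ SimplexCategory.δ (Fin.last (m+1))) ≫ SimplexCategory.σ (Fin.last m) = a := by
    rw [Category.assoc]
    have h0 : SimplexCategory.δ (Fin.last (m+1)) ≫ SimplexCategory.σ (Fin.last m) = 𝟙 _ :=
      SimplexCategory.δ_comp_σ_succ (n := m) (i := Fin.last m)
    rw [h0, Category.comp_id]
  have hneg : ¬ ∀ x, ((Fin.last m : Fin (m+1)) : ℕ) <
      (((a ≫ SimplexCategory.δ (Fin.last (m+1))).toOrderHom x) : ℕ) := by
    intro hall
    have h0 := hall 0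
    rw [above_δ] at h0
    have e1 : ((Fin.last m : Fin (m+1)) : ℕ) = m := rfl
    have e2 : ((Fin.last (m+1) : Fin (m+2)) : ℕ) = m+1 := rfl
    have e3 := (a.toOrderHom 0).isLt
    have e4 : (⦋m⦌ : SimplexCategory).len = m := rfl
    rw [e1, e2] at h0
    split_ifs at h0 <;> omega
  rw [e, pk_neg φ ψ _ _ hneg, φ.naturality_assoc]

lemma id3 (m : ℕ) (i : Fin (m+2)) (j : Fin (m+1)) (hij : i ≤ j.castSucc) :
    hh α φ ψ hφψ hP (m+1) j.succ ≫ C.map (SimplexCategory.δ i.castSucc).op =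
      W.map (SimplexCategory.δ i).op ≫ hh α φ ψ hφψ hP m j := by
  apply hom_ext_C α hP
  intro k hk a
  rw [hh_map α φ ψ hφψ hP (m+1) j.succ (SimplexCategory.δ i.castSucc) k hk a,
    map_hh α φ ψ hφψ hP m j (SimplexCategory.δ i) k hk a]
  have e : (a ≫ SimplexCategory.δ i.castSucc) ≫ SimplexCategory.σ j.succ =
      (a ≫ SimplexCategory.σ j) ≫ SimplexCategory.δ i := by
    rw [Category.assoc, Category.assoc, SimplexCategory.δ_comp_σ_of_le hij]
  have hp : pk φ ψ ((j.succ : Fin (m+2)) : ℕ) (a ≫ SimplexCategory.δ i.castSucc) =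
      pk φ ψ (j : ℕ) a := by
    apply pk_congr
    intro x
    rw [above_δ]
    have e1 : ((j.succ : Fin (m+2)) : ℕ) = (j : ℕ) + 1 := rfl
    have e2 : ((i.castSucc : Fin (m+3)) : ℕ) = (i : ℕ) := rfl
    have e3 : (i : ℕ) ≤ (j : ℕ) := hij
    rw [e1, e2]
    split_ifs <;> omega
  rw [e, hp]

lemma id4 (m : ℕ) (j : Fin (m+1)) :
    hh α φ ψ hφψ hP (m+1) j.succ ≫ C.map (SimplexCategory.δ j.castSucc.succ).op =
      hh α φ ψ hφψ hP (m+1) j.castSucc ≫ C.map (SimplexCategory.δ j.castSucc.succ).op := by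
  apply hom_ext_C α hP
  intro k hk a
  rw [hh_map α φ ψ hφψ hP (m+1) j.succ (SimplexCategory.δ j.castSucc.succ) k hk a,
    hh_map α φ ψ hφψ hP (m+1) j.castSucc (SimplexCategory.δ j.castSucc.succ) k hk a]
  have e1 : (a ≫ SimplexCategory.δ j.castSucc.succ) ≫ SimplexCategory.σ j.succ = a := by
    rw [Category.assoc]
    have h0 : SimplexCategory.δ j.castSucc.succ ≫ SimplexCategory.σ j.succ = 𝟙 _ :=
      SimplexCategory.δ_comp_σ_self (n := m+1) (i := j.succ)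
    rw [h0, Category.comp_id]
  have e2 : (a ≫ SimplexCategory.δ j.castSucc.succ) ≫ SimplexCategory.σ j.castSucc = a := by
    rw [Category.assoc]
    have h0 : SimplexCategory.δ j.castSucc.succ ≫ SimplexCategory.σ j.castSucc = 𝟙 _ :=
      SimplexCategory.δ_comp_σ_succ (n := m+1) (i := j.castSucc)
    rw [h0, Category.comp_id]
  have hp : pk φ ψ ((j.succ : Fin (m+2)) : ℕ) (a ≫ SimplexCategory.δ j.castSucc.succ) =
      pk φ ψ ((j.castSucc : Fin (m+2)) : ℕ) (a ≫ SimplexCategory.δ j.castSucc.succ) := by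
    apply pk_congr
    intro x
    rw [above_δ]
    have e3 : ((j.succ : Fin (m+2)) : ℕ) = (j : ℕ) + 1 := rfl
    have e4 : ((j.castSucc : Fin (m+2)) : ℕ) = (j : ℕ) := rfl
    have e5 : ((j.castSucc.succ : Fin (m+3)) : ℕ) = (j : ℕ) + 1 := rfl
    rw [e3, e4, e5]
    split_ifs <;> omega
  rw [e1, e2, hp]

lemma id5 (m : ℕ) (i : Fin (m+2)) (j : Fin (m+1)) (hji : j.castSucc < i) :
    hh α φ ψ hφψ hP (m+1) j.castSucc ≫ C.map (SimplexCategory.δ i.succ).op =
      W.map (SimplexCategory.δ i).op ≫ hh α φ ψ hφψ hP m j := by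
  apply hom_ext_C α hP
  intro k hk a
  rw [hh_map α φ ψ hφψ hP (m+1) j.castSucc (SimplexCategory.δ i.succ) k hk a,
    map_hh α φ ψ hφψ hP m j (SimplexCategory.δ i) k hk a]
  have e : (a ≫ SimplexCategory.δ i.succ) ≫ SimplexCategory.σ j.castSucc =
      (a ≫ SimplexCategory.σ j) ≫ SimplexCategory.δ i := by
    rw [Category.assoc, Category.assoc, SimplexCategory.δ_comp_σ_of_gt hji]
  have hp : pk φ ψ ((j.castSucc : Fin (m+2)) : ℕ) (a ≫ SimplexCategory.δ i.succ) =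
      pk φ ψ (j : ℕ) a := by
    apply pk_congr
    intro x
    rw [above_δ]
    have e1 : ((j.castSucc : Fin (m+2)) : ℕ) = (j : ℕ) := rfl
    have e2 : ((i.succ : Fin (m+3)) : ℕ) = (i : ℕ) + 1 := rfl
    have e3 : (j : ℕ) < (i : ℕ) := hji
    rw [e1, e2]
    split_ifs <;> omega
  rw [e, hp]

lemma id6 (m : ℕ) (i j : Fin (m+1)) (hij : i ≤ j) :
    hh α φ ψ hφψ hP m j ≫ C.map (SimplexCategory.σ i.castSucc).op =
      W.map (SimplexCategory.σ i).op ≫ hh α φ ψ hφψ hP (m+1) j.succ := by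
  apply hom_ext_C α hP
  intro k hk a
  rw [hh_map α φ ψ hφψ hP m j (SimplexCategory.σ i.castSucc) k hk a,
    map_hh α φ ψ hφψ hP (m+1) j.succ (SimplexCategory.σ i) k hk a]
  have e : (a ≫ SimplexCategory.σ i.castSucc) ≫ SimplexCategory.σ j =
      (a ≫ SimplexCategory.σ j.succ) ≫ SimplexCategory.σ i := by
    rw [Category.assoc, Category.assoc, SimplexCategory.σ_comp_σ hij]
  have hp : pk φ ψ (j : ℕ) (a ≫ SimplexCategory.σ i.castSucc) =
      pk φ ψ ((j.succ : Fin (m+2)) : ℕ) a := by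
    apply pk_congr
    intro x
    rw [above_σ]
    have e1 : ((j.succ : Fin (m+2)) : ℕ) = (j : ℕ) + 1 := rfl
    have e2 : ((i.castSucc : Fin (m+2)) : ℕ) = (i : ℕ) := rfl
    have e3 : (i : ℕ) ≤ (j : ℕ) := hij
    rw [e1, e2]
    split_ifs <;> omega
  rw [e, hp]

lemma id7 (m : ℕ) (i j : Fin (m+1)) (hji : j ≤ i) :
    hh α φ ψ hφψ hP m j ≫ C.map (SimplexCategory.σ i.succ).op =
      W.map (SimplexCategory.σ i).op ≫ hh α φ ψ hφψ hP (m+1) j.castSucc := by
  apply hom_ext_C α hP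
  intro k hk a
  rw [hh_map α φ ψ hφψ hP m j (SimplexCategory.σ i.succ) k hk a,
    map_hh α φ ψ hφψ hP (m+1) j.castSucc (SimplexCategory.σ i) k hk a]
  have e : (a ≫ SimplexCategory.σ i.succ) ≫ SimplexCategory.σ j =
      (a ≫ SimplexCategory.σ j.castSucc) ≫ SimplexCategory.σ i := by
    rw [Category.assoc, Category.assoc, ← SimplexCategory.σ_comp_σ hji]
  have hp : pk φ ψ (j : ℕ) (a ≫ SimplexCategory.σ i.succ) =
      pk φ ψ ((j.castSucc : Fin (m+2)) : ℕ) a := by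
    apply pk_congr
    intro x
    rw [above_σ]
    have e1 : ((j.castSucc : Fin (m+2)) : ℕ) = (j : ℕ) := rfl
    have e2 : ((i.succ : Fin (m+2)) : ℕ) = (i : ℕ) + 1 := rfl
    have e3 : (j : ℕ) ≤ (i : ℕ) := hji
    rw [e1, e2]
    split_ifs <;> omega
  rw [e, hp]

/-- The simplicial homotopy between two maps into a coskeletal object agreeing below `n`. -/
noncomputable def homotopy : SimplicialObject.Homotopy φ ψ where
  h := fun {m} i => hh α φ ψ hφψ hP m i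
  h_zero_comp_δ_zero m := id1 α φ ψ hφψ hP m
  h_last_comp_δ_last m := id2 α φ ψ hφψ hP m
  h_succ_comp_δ_castSucc_of_lt i j hij := id3 α φ ψ hφψ hP _ i j hij
  h_succ_comp_δ_castSucc_succ j := id4 α φ ψ hφψ hP _ j
  h_castSucc_comp_δ_succ_of_lt i j hji := id5 α φ ψ hφψ hP _ i j hji
  h_comp_σ_castSucc_of_le i j hij := id6 α φ ψ hφψ hP _ i j hij
  h_comp_σ_succ_of_lt i j hji := id7 α φ ψ hφψ hP _ i j hji

end Core

theorem main_general {E : Type u} [Category.{v} E] [HasFiniteLimits E] (n : ℕ)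
    {W C : SimplicialObject E} {F : (SimplexCategory.Truncated n)ᵒᵖ ⥤ E}
    (α : (SimplexCategory.Truncated.inclusion n).op ⋙ C ⟶ F) [C.IsRightKanExtension α]
    (φ ψ : W ⟶ C)
    (hφψ : ∀ (p : ℕ) (hp : p < n),
      φ.app (op ⦋p⦌) ≫ αk α ⦋p⦌ (le_of_lt hp) = ψ.app (op ⦋p⦌) ≫ αk α ⦋p⦌ (le_of_lt hp)) :
    Nonempty (SimplicialObject.Homotopy φ ψ) := by
  haveI : (SimplexCategory.Truncated.inclusion n).op.HasPointwiseRightKanExtension F :=
    Groth.Agent.Lib.TruncKanH4.main6800 n F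
  exact ⟨homotopy α φ ψ hφψ (Functor.isPointwiseRightKanExtensionOfIsRightKanExtension C α)⟩

theorem main8565 {E : Type u} [Category.{v} E] [HasFiniteLimits E] (n : ℕ)
    [∀ (F : (SimplexCategory.Truncated n)ᵒᵖ ⥤ E),
      (SimplexCategory.Truncated.inclusion n).op.HasRightKanExtension F]
    {X X' : SimplicialObject E} (f g : X ⟶ X')
    (hfg : ∀ p : ℕ, p < n →
      f.app (op (SimplexCategory.mk p)) = g.app (op (SimplexCategory.mk p))) :
    Nonempty (SimplicialObject.Homotopy ((SimplicialObject.cosk n).map f)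
      ((SimplicialObject.cosk n).map g)) := by
  refine main_general n (W := (SimplicialObject.cosk n).obj X)
    (C := (SimplicialObject.cosk n).obj X')
    ((SimplicialObject.coskAdj n).counit.app ((SimplicialObject.truncation n).obj X')) _ _ ?_
  intro p hp
  have nat := fun χ : X ⟶ X' => NatTrans.congr_app
    ((SimplicialObject.coskAdj n).counit.naturality ((SimplicialObject.truncation n).map χ))
    (op (⟨⦋p⦌, le_of_lt hp⟩ : SimplexCategory.Truncated n))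
  exact (nat f).trans ((congrArg
    (fun z => ((SimplicialObject.coskAdj n).counit.app
      ((SimplicialObject.truncation n).obj X)).app
        (op (⟨⦋p⦌, le_of_lt hp⟩ : SimplexCategory.Truncated n)) ≫ z) (hfg p hp)).trans
    (nat g).symm)

end Groth.Agent.Lib.CoskHtpyGenH4
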