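import Mathlib
import Groth.Agent.Lib.CoskHtpyGen_helper4

/-!
# Special morphisms of coskeletal simplicial sets

Let `f : L ⟶ K` be a morphism of simplicial sets, `n : ℕ`, such that `L` is `n`-coskeletal,
morphisms into `K` are determined by their components in degrees `≤ n`, `f` is injective in
degrees `< n` and surjective in degrees `≤ n`.  Then `f` has a section `s` and `f ≫ s` is
simplicially homotopic to the identity.  Consequently `f` induces isomorphisms on the homology of
the alternating face map complexes after applying any functor to an abelian category degreewise.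
-/

set_option backward.isDefEq.respectTransparency false
set_option backward.isDefEq.respectTransparency.types false
set_option linter.style.haveILetI false
set_option linter.unusedSectionVars false
set_option autoImplicit false

universe v' u' u

open CategoryTheory CategoryTheory.Limits Opposite Simplicial

namespace Groth.Agent.Lib.SpecialSSet

section Basic

variable {L K : SimplicialObject (Type u)} (f : L ⟶ K)

lemma app_eq {X Y : Type u} {a b : X ⟶ Y} (h : a = b) (x : X) : a x = b x := by rw [h]

lemma f_map {k k' : SimplexCategory} (τ : k' ⟶ k) (z : L.obj (op k)) :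
    f.app (op k') (L.map τ.op z) = K.map τ.op (f.app (op k) z) :=
  app_eq (f.naturality τ.op) z

lemma f_σ {m : ℕ} (j : Fin (m + 1)) (u : L _⦋m⦌) :
    f.app (op ⦋m + 1⦌) (L.σ j u) = K.σ j (f.app (op ⦋m⦌) u) :=
  f_map f (SimplexCategory.σ j) u

/-- An element is degenerate if it is the image of an element under a non-injective map. -/
def IsDeg (L : SimplicialObject (Type u)) {k : SimplexCategory} (z : L.obj (op k)) : Prop :=
  ∃ (k₁ : SimplexCategory) (τ : k ⟶ k₁) (_ : ¬ Function.Injective τ.toOrderHom)
    (u : L.obj (op k₁)), z = L.map τ.op u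

lemma isDeg_succ {m : ℕ} {z : L.obj (op ⦋m + 1⦌)} (hz : IsDeg L z) :
    ∃ (j : Fin (m + 1)) (u : L _⦋m⦌), z = L.σ j u := by
  obtain ⟨k₁, τ, hτ, u, rfl⟩ := hz
  obtain ⟨i, θ', rfl⟩ := SimplexCategory.eq_σ_comp_of_not_injective τ hτ
  refine ⟨i, L.map θ'.op u, ?_⟩
  show L.map (SimplexCategory.σ i ≫ θ').op u = L.map (SimplexCategory.σ i).op (L.map θ'.op u)
  rw [op_comp, L.map_comp]
  rfl

lemma not_isDeg_zero {z : L.obj (op ⦋0⦌)} : ¬ IsDeg L z := by
  rintro ⟨k₁, τ, hτ, u, -⟩
  apply hτ
  intro a b _
  exact Subsingleton.elim (α := Fin 1) a b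

/-- `f` is injective on degenerate simplices of degree `m + 1` as soon as it is injective in
degree `m` and surjective in degree `m - 1`. -/
lemma deg_inj (m : ℕ) (hinj : Function.Injective (f.app (op ⦋m⦌)))
    (hsurj : ∀ m' : ℕ, m = m' + 1 → Function.Surjective (f.app (op ⦋m'⦌)))
    (j j' : Fin (m + 1)) (u u' : L _⦋m⦌)
    (h : f.app (op ⦋m + 1⦌) (L.σ j u) = f.app (op ⦋m + 1⦌) (L.σ j' u')) :
    L.σ j u = L.σ j' u' := by
  wlog hjj : j ≤ j' generalizing j j' u u'
  · exact (this j' j u' u h.symm (le_of_not_ge hjj)).symm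
  rw [f_σ, f_σ] at h
  rcases hjj.eq_or_lt with rfl | hlt
  · have h1 := congrArg (K.δ j.castSucc) h
    have e := fun y => app_eq (K.δ_comp_σ_self (i := j)) y
    have e1 : K.δ j.castSucc (K.σ j (f.app (op ⦋m⦌) u)) = f.app (op ⦋m⦌) u := e _
    have e2 : K.δ j.castSucc (K.σ j (f.app (op ⦋m⦌) u')) = f.app (op ⦋m⦌) u' := e _
    rw [e1, e2] at h1
    rw [hinj h1]
  · obtain _ | m' := m
    · exact absurd hlt (by
        have : j = j' := Subsingleton.elim (α := Fin 1) j j'
        rw [this]; exact lt_irrefl _)
    · have hjl : j ≠ Fin.last (m' + 1) := by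
        intro hh
        rw [hh] at hlt
        exact absurd (Fin.le_last j') (not_le.2 hlt)
      have hj0 : j' ≠ 0 := by
        intro hh
        rw [hh] at hlt
        exact absurd (Fin.zero_le j) (not_le.2 hlt)
      obtain ⟨i, rfl⟩ : ∃ i : Fin (m' + 1), j = i.castSucc := ⟨j.castPred hjl, by simp⟩
      obtain ⟨i', rfl⟩ : ∃ i' : Fin (m' + 1), j' = i'.succ := ⟨j'.pred hj0, by simp⟩
      have hii : i ≤ i' := by
        rw [Fin.lt_def] at hlt
        rw [Fin.le_def]
        simp only [Fin.val_castSucc, Fin.val_succ] at hlt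
        omega
      set x := f.app (op ⦋m' + 1⦌) u with hx
      set x' := f.app (op ⦋m' + 1⦌) u' with hx'
      -- first identity
      have h1 := congrArg (K.δ i.castSucc.castSucc) h
      have a1 : K.δ i.castSucc.castSucc (K.σ i.castSucc x) = x :=
        app_eq (K.δ_comp_σ_self (i := i.castSucc)) x
      have a2 : K.δ i.castSucc.castSucc (K.σ i'.succ x') = K.σ i' (K.δ i.castSucc x') :=
        app_eq (K.δ_comp_σ_of_le (i := i.castSucc) (j := i')
          (by rw [Fin.le_def]; simpa using hii)) x'
      rw [a1, a2] at h1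
      -- second identity
      have h2 := congrArg (K.δ i'.succ.succ) h
      have b1 : K.δ i'.succ.succ (K.σ i'.succ x') = x' :=
        app_eq (K.δ_comp_σ_succ (i := i'.succ)) x'
      have b2 : K.δ i'.succ.succ (K.σ i.castSucc x) = K.σ i (K.δ i'.succ x) :=
        app_eq (K.δ_comp_σ_of_gt (i := i'.succ) (j := i)
          (by rw [Fin.lt_def]; simp only [Fin.val_castSucc, Fin.val_succ]
              have := Fin.le_def.1 hii; omega)) x
      rw [b1, b2] at h2
      set w := K.δ i.castSucc x' with hw
      have c1 : K.δ i'.succ (K.σ i' w) = w := app_eq (K.δ_comp_σ_succ (i := i')) w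
      have hx'w : x' = K.σ i w := by
        rw [← h2, h1, c1]
      obtain ⟨v, hv⟩ := hsurj m' rfl w
      have hu : u = L.σ i' v := by
        apply hinj
        rw [f_σ, hv]
        exact h1
      have hu' : u' = L.σ i v := by
        apply hinj
        rw [f_σ, hv]
        exact hx'w
      rw [hu, hu']
      exact app_eq (L.σ_comp_σ (i := i) (j := i') hii) v

end Basic

section Section

variable {L K : SimplicialObject (Type u)} (f : L ⟶ K) (n : ℕ)
  (hsurj : ∀ k : SimplexCategory, k.len ≤ n → Function.Surjective (f.app (op k)))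
  (hinj : ∀ k : SimplexCategory, k.len < n → Function.Injective (f.app (op k)))

open Classical in
/-- The components of the truncated section. -/
noncomputable def comp (k : SimplexCategory) (hk : k.len ≤ n) (x : K.obj (op k)) :
    L.obj (op k) :=
  if h : ∃ z, f.app (op k) z = x ∧ IsDeg L z then h.choose else (hsurj k hk x).choose

lemma f_comp (k : SimplexCategory) (hk : k.len ≤ n) (x : K.obj (op k)) :
    f.app (op k) (comp f n hsurj k hk x) = x := by
  unfold comp
  split_ifs with h
  · exact h.choose_spec.1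
  · exact (hsurj k hk x).choose_spec

lemma comp_isDeg (k : SimplexCategory) (hk : k.len ≤ n) (x : K.obj (op k))
    (h : ∃ z, f.app (op k) z = x ∧ IsDeg L z) : IsDeg L (comp f n hsurj k hk x) := by
  unfold comp
  rw [dif_pos h]
  exact h.choose_spec.2

include hsurj hinj in
lemma deg_eq (k : SimplexCategory) (hk : k.len = n) (z z' : L.obj (op k))
    (hz : IsDeg L z) (hz' : IsDeg L z') (h : f.app (op k) z = f.app (op k) z') : z = z' := by
  obtain ⟨l⟩ := k
  obtain _ | m := l
  · exact absurd hz not_isDeg_zero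
  · obtain ⟨j, u, rfl⟩ := isDeg_succ hz
    obtain ⟨j', u', rfl⟩ := isDeg_succ hz'
    have hn : n = m + 1 := hk.symm
    refine deg_inj f m (hinj ⦋m⦌ (by rw [hn]; exact Nat.lt_succ_self m)) ?_ j j' u u' h
    intro m' hm'
    exact hsurj ⦋m'⦌ (by rw [hn, hm']; exact Nat.le_succ_of_le (Nat.le_succ m'))

include hinj in
lemma comp_nat {k k' : SimplexCategory} (hk : k.len ≤ n) (hk' : k'.len ≤ n) (τ : k' ⟶ k)
    (x : K.obj (op k)) :
    L.map τ.op (comp f n hsurj k hk x) = comp f n hsurj k' hk' (K.map τ.op x) := by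
  by_cases hlt : k'.len < n
  · apply hinj k' hlt
    rw [f_map, f_comp, f_comp]
  · have hk'n : k'.len = n := le_antisymm hk' (not_lt.1 hlt)
    by_cases hτ : Function.Injective τ.toOrderHom
    · haveI : Mono τ := SimplexCategory.mono_iff_injective.2 hτ
      have h1 := SimplexCategory.len_le_of_mono τ
      have h2 : k = k' := SimplexCategory.ext (le_antisymm (hk.trans hk'n.ge) h1)
      subst h2
      have h3 : τ = 𝟙 _ := SimplexCategory.eq_id_of_mono τ
      subst h3
      simp
    · have hdeg : IsDeg L (L.map τ.op (comp f n hsurj k hk x)) := ⟨k, τ, hτ, _, rfl⟩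
      have hfx : f.app (op k') (L.map τ.op (comp f n hsurj k hk x)) = K.map τ.op x := by
        rw [f_map, f_comp]
      have hex : ∃ z, f.app (op k') z = K.map τ.op x ∧ IsDeg L z := ⟨_, hfx, hdeg⟩
      have hdeg' := comp_isDeg f n hsurj k' hk' (K.map τ.op x) hex
      refine deg_eq f n hsurj hinj k' hk'n _ _ hdeg hdeg' ?_
      rw [hfx, f_comp]

include hsurj hinj in
/-- The truncated section of `f`. -/
noncomputable def truncSection :
    (SimplexCategory.Truncated.inclusion n).op ⋙ K ⟶
      (SimplexCategory.Truncated.inclusion n).op ⋙ L where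
  app a := TypeCat.ofHom (comp f n hsurj a.unop.obj a.unop.property)
  naturality a b φ := by
    ext x
    exact (comp_nat f n hsurj hinj a.unop.property b.unop.property φ.unop.hom x).symm

include hsurj hinj in
theorem exists_section_homotopy [L.IsCoskeletal n]
    (hK : ∀ (W : SimplicialObject (Type u)) (γ₁ γ₂ : W ⟶ K),
      (∀ k : SimplexCategory, k.len ≤ n → γ₁.app (op k) = γ₂.app (op k)) → γ₁ = γ₂) :
    ∃ s : K ⟶ L, s ≫ f = 𝟙 K ∧ Nonempty (SimplicialObject.Homotopy (f ≫ s) (𝟙 L)) := by
  haveI : L.IsRightKanExtension (𝟙 ((SimplexCategory.Truncated.inclusion n).op ⋙ L)) :=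
    SimplicialObject.IsCoskeletal.isRightKanExtension
  let t := truncSection f n hsurj hinj
  let s : K ⟶ L := L.liftOfIsRightKanExtension (𝟙 _) K t
  have fac : (SimplexCategory.Truncated.inclusion n).op.whiskerLeft s ≫ 𝟙 _ = t :=
    L.liftOfIsRightKanExtension_fac (𝟙 _) K t
  have hs : ∀ (k : SimplexCategory) (hk : k.len ≤ n) (x : K.obj (op k)),
      s.app (op k) x = comp f n hsurj k hk x := by
    intro k hk x
    have h1 := congrArg (fun m => m.app (op (⟨k, hk⟩ : SimplexCategory.Truncated n))) fac
    have h2 : s.app (op k) = t.app (op (⟨k, hk⟩ : SimplexCategory.Truncated n)) := by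
      simpa using h1
    rw [h2]
    rfl
  refine ⟨s, ?_, ?_⟩
  · apply hK
    intro k hk
    ext x
    show f.app (op k) (s.app (op k) x) = x
    rw [hs k hk, f_comp]
  · refine Groth.Agent.Lib.CoskHtpyGenH4.main_general n
      (𝟙 ((SimplexCategory.Truncated.inclusion n).op ⋙ L)) (f ≫ s) (𝟙 L) ?_
    intro p hp
    have h3 : (f ≫ s).app (op ⦋p⦌) = (𝟙 L : L ⟶ L).app (op ⦋p⦌) := by
      ext z
      show s.app (op ⦋p⦌) (f.app (op ⦋p⦌) z) = z
      apply hinj ⦋p⦌ hp
      rw [hs ⦋p⦌ (le_of_lt hp), f_comp]
    rw [h3]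

end Section

section Chain

variable {L K : SimplicialObject (Type u)} (f : L ⟶ K)
  {A : Type u'} [Category.{v'} A] [Abelian A] (G : Type u ⥤ A)

theorem isIso_homologyMap (s : K ⟶ L) (hs : s ≫ f = 𝟙 K)
    (H : SimplicialObject.Homotopy (f ≫ s) (𝟙 L)) (i : ℕ) :
    IsIso (HomologicalComplex.homologyMap
      ((AlgebraicTopology.alternatingFaceMapComplex A).map
        (((SimplicialObject.whiskering (Type u) A).obj G).map f)) i) := by
  let F : SimplicialObject (Type u) ⥤ ChainComplex A ℕ :=
    (SimplicialObject.whiskering (Type u) A).obj G ⋙ AlgebraicTopology.alternatingFaceMapComplex A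
  have hh : Homotopy (F.map (f ≫ s)) (F.map (𝟙 L)) := (H.whiskerRight G).toChainHomotopy
  have e1 : HomologicalComplex.homologyMap (F.map f) i ≫
      HomologicalComplex.homologyMap (F.map s) i = 𝟙 _ := by
    rw [← HomologicalComplex.homologyMap_comp, ← F.map_comp, hh.homologyMap_eq i, F.map_id,
      HomologicalComplex.homologyMap_id]
  have e2 : HomologicalComplex.homologyMap (F.map s) i ≫
      HomologicalComplex.homologyMap (F.map f) i = 𝟙 _ := by
    rw [← HomologicalComplex.homologyMap_comp, ← F.map_comp, hs, F.map_id,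
      HomologicalComplex.homologyMap_id]
  exact ⟨⟨HomologicalComplex.homologyMap (F.map s) i, e1, e2⟩⟩

end Chain

end Groth.Agent.Lib.SpecialSSet
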