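import Mathlib
import Groth.Agent.Lib.SpecialSSet_helper7
import Groth.Agent.Lib.TruncKan_helper4

/-!
# Special morphisms of coskeletal simplicial presheaves

Let `f : L ⟶ K` be a morphism of simplicial presheaves of sets on a small site, `n : ℕ`, such that
`L` and `K` are `n`-coskeletal, `f` is an isomorphism in degrees `< n` and locally surjective in
degree `n`.  Then `f` induces isomorphisms on the homology sheaves of the chain complexes of free
abelian sheaves.
-/

set_option backward.isDefEq.respectTransparency false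
set_option backward.isDefEq.respectTransparency.types false
set_option linter.style.haveILetI false
set_option linter.unusedSectionVars false
set_option autoImplicit false

universe u

open CategoryTheory CategoryTheory.Limits Opposite Simplicial

namespace Groth.Agent.Lib.SpecialPsh

variable {C : Type u} [SmallCategory C]

/-- Evaluation at `U` of a simplicial presheaf. -/
abbrev evalS (U : Cᵒᵖ) : SimplicialObject (Cᵒᵖ ⥤ Type u) ⥤ SimplicialObject (Type u) :=
  (SimplicialObject.whiskering (Cᵒᵖ ⥤ Type u) (Type u)).obj ((evaluation Cᵒᵖ (Type u)).obj U)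

section Eval

lemma isCoskeletal_eval (K : SimplicialObject (Cᵒᵖ ⥤ Type u)) (n : ℕ) [K.IsCoskeletal n]
    (U : Cᵒᵖ) : ((evalS U).obj K).IsCoskeletal n := by
  haveI : K.IsRightKanExtension (𝟙 ((SimplexCategory.Truncated.inclusion n).op ⋙ K)) :=
    SimplicialObject.IsCoskeletal.isRightKanExtension
  haveI : (SimplexCategory.Truncated.inclusion n).op.HasPointwiseRightKanExtension
      ((SimplexCategory.Truncated.inclusion n).op ⋙ K) :=
    Groth.Agent.Lib.TruncKanH4.main6800 n _
  have h := Functor.PreservesRightKanExtension.preserves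
    (G := (evaluation Cᵒᵖ (Type u)).obj U) K
    (𝟙 ((SimplexCategory.Truncated.inclusion n).op ⋙ K))
  refine ⟨?_⟩
  have e : (Functor.associator _ _ _).inv ≫ Functor.whiskerRight
      (𝟙 ((SimplexCategory.Truncated.inclusion n).op ⋙ K)) ((evaluation Cᵒᵖ (Type u)).obj U) =
      𝟙 ((SimplexCategory.Truncated.inclusion n).op ⋙ (evalS U).obj K) := by
    ext a x
    rfl
  rw [← e]
  exact h

end Eval

section Image

variable {L K : SimplicialObject (Cᵒᵖ ⥤ Type u)} (f : L ⟶ K) (n : ℕ)

lemma map_comp_app {k₁ k₂ k₃ : SimplexCategory} (a : k₁ ⟶ k₂) (b : k₂ ⟶ k₃) (U : Cᵒᵖ)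
    (x : (K.obj (op k₃)).obj U) :
    (K.map (a ≫ b).op).app U x = (K.map a.op).app U ((K.map b.op).app U x) := by
  rw [op_comp, K.map_comp]
  rfl

lemma f_nat_app {k₁ k₂ : SimplexCategory} (a : k₁ ⟶ k₂) (U : Cᵒᵖ)
    (y : (L.obj (op k₂)).obj U) :
    (f.app (op k₁)).app U ((L.map a.op).app U y) =
      (K.map a.op).app U ((f.app (op k₂)).app U y) := by
  have h := congrArg (fun m => m.app U) (f.naturality a.op)
  exact Groth.Agent.Lib.SpecialSSet.app_eq h y

/-- The sub-presheaf of `K_k` of simplices all of whose `n`-dimensional faces and degeneracies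
are in the image of `f`. -/
def sub (k : SimplexCategoryᵒᵖ) : Subfunctor (K.obj k) where
  obj U := {x | ∀ a : ⦋n⦌ ⟶ k.unop, ∃ y : (L.obj (op ⦋n⦌)).obj U,
    (f.app (op ⦋n⦌)).app U y = (K.map a.op).app U x}
  map {U V} i := by
    intro x hx a
    obtain ⟨y, hy⟩ := hx a
    refine ⟨(L.obj (op ⦋n⦌)).map i y, ?_⟩
    have h1 := Groth.Agent.Lib.SpecialSSet.app_eq ((f.app (op ⦋n⦌)).naturality i) y
    have h2 := Groth.Agent.Lib.SpecialSSet.app_eq ((K.map a.op).naturality i) x
    exact h1.trans ((congrArg _ hy).trans h2.symm)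

lemma range_le_sub {k k' : SimplexCategoryᵒᵖ} (φ : k ⟶ k') :
    Subfunctor.range ((sub f n k).ι ≫ K.map φ) ≤ sub f n k' := by
  rintro U _ ⟨x, rfl⟩
  intro a
  obtain ⟨y, hy⟩ := x.2 (a ≫ φ.unop)
  refine ⟨y, ?_⟩
  rw [hy]
  exact map_comp_app a φ.unop U x.1

lemma range_f_le (k : SimplexCategoryᵒᵖ) : Subfunctor.range (f.app k) ≤ sub f n k := by
  rintro U _ ⟨y, rfl⟩
  intro a
  exact ⟨(L.map a.op).app U y, f_nat_app f a U y⟩

/-- The simplicial sub-presheaf of `K`. -/
noncomputable def K' : SimplicialObject (Cᵒᵖ ⥤ Type u) where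
  obj k := (sub f n k).toFunctor
  map {k k'} φ := Subfunctor.lift ((sub f n k).ι ≫ K.map φ) (range_le_sub f n φ)
  map_id k := by
    rw [← cancel_mono (sub f n k).ι]
    simp
  map_comp {k₁ k₂ k₃} φ ψ := by
    rw [← cancel_mono (sub f n k₃).ι]
    simp

/-- The inclusion `K' ⟶ K`. -/
noncomputable def ι' : K' f n ⟶ K where
  app k := (sub f n k).ι
  naturality {k k'} φ := by
    simp [K']

/-- The factorization `L ⟶ K'`. -/
noncomputable def g : L ⟶ K' f n where
  app k := Subfunctor.lift (f.app k) (range_f_le f n k)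
  naturality {k k'} φ := by
    rw [← cancel_mono (sub f n k').ι]
    simp [K']

lemma g_ι' : g f n ≫ ι' f n = f := by
  ext k : 2
  simp [g, ι']

lemma ι'_app_val (k : SimplexCategoryᵒᵖ) (U : Cᵒᵖ) (x : ((K' f n).obj k).obj U) :
    ((ι' f n).app k).app U x = x.1 := rfl

lemma g_app_val (k : SimplexCategoryᵒᵖ) (U : Cᵒᵖ) (y : (L.obj k).obj U) :
    (((g f n).app k).app U y).1 = (f.app k).app U y := rfl

end Image

section Sectionwise

variable {L K : SimplicialObject (Cᵒᵖ ⥤ Type u)} (f : L ⟶ K) (n : ℕ)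
  (h1 : ∀ p : ℕ, p < n → IsIso (f.app (op ⦋p⦌)))

include h1 in
lemma f_bij (k : SimplexCategory) (hk : k.len < n) (U : Cᵒᵖ) :
    Function.Bijective ((f.app (op k)).app U) := by
  haveI : IsIso (f.app (op k)) := h1 k.len hk
  exact (isIso_iff_bijective _).1 inferInstance

include h1 in
lemma g_surj (U : Cᵒᵖ) (k : SimplexCategory) (hk : k.len ≤ n) :
    Function.Surjective (((evalS U).map (g f n)).app (op k)) := by
  rintro ⟨x, hx⟩
  have hy : ∃ y : (L.obj (op k)).obj U, (f.app (op k)).app U y = x := by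
    rcases lt_or_eq_of_le hk with hlt | heq
    · exact (f_bij f n h1 k hlt U).2 x
    · obtain ⟨l⟩ := k
      have hl : l = n := heq
      subst hl
      obtain ⟨y, hy⟩ := hx (𝟙 _)
      refine ⟨y, hy.trans ?_⟩
      have : K.map (𝟙 (⦋l⦌ : SimplexCategory)).op = 𝟙 _ := by
        rw [op_id, K.map_id]
      rw [this]
      rfl
  obtain ⟨y, hy⟩ := hy
  exact ⟨y, Subtype.ext hy⟩

include h1 in
lemma g_inj (U : Cᵒᵖ) (k : SimplexCategory) (hk : k.len < n) :
    Function.Injective (((evalS U).map (g f n)).app (op k)) := by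
  intro y y' h
  apply (f_bij f n h1 k hk U).1
  exact congrArg Subtype.val h

lemma K'_ext [K.IsCoskeletal n] (U : Cᵒᵖ) (W : SimplicialObject (Type u))
    (γ₁ γ₂ : W ⟶ (evalS U).obj (K' f n))
    (h : ∀ k : SimplexCategory, k.len ≤ n → γ₁.app (op k) = γ₂.app (op k)) : γ₁ = γ₂ := by
  haveI := isCoskeletal_eval K n U
  haveI : ((evalS U).obj K).IsRightKanExtension
      (𝟙 ((SimplexCategory.Truncated.inclusion n).op ⋙ (evalS U).obj K)) :=
    SimplicialObject.IsCoskeletal.isRightKanExtension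
  have h2 : γ₁ ≫ (evalS U).map (ι' f n) = γ₂ ≫ (evalS U).map (ι' f n) := by
    apply Functor.hom_ext_of_isRightKanExtension ((evalS U).obj K)
      (𝟙 ((SimplexCategory.Truncated.inclusion n).op ⋙ (evalS U).obj K))
    apply NatTrans.ext
    funext a
    have ha := h a.unop.obj a.unop.property
    change (γ₁.app (op a.unop.obj) ≫ ((evalS U).map (ι' f n)).app (op a.unop.obj)) ≫ 𝟙 _ =
      (γ₂.app (op a.unop.obj) ≫ ((evalS U).map (ι' f n)).app (op a.unop.obj)) ≫ 𝟙 _
    rw [ha]
  ext k x
  have h3 := Groth.Agent.Lib.SpecialSSet.app_eq (congrArg (fun m => m.app k) h2) x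
  exact Subtype.ext h3

include h1 in
theorem isIso_homologyMap_g_eval [L.IsCoskeletal n] [K.IsCoskeletal n] (U : Cᵒᵖ) (i : ℕ) :
    IsIso (HomologicalComplex.homologyMap
      ((AlgebraicTopology.alternatingFaceMapComplex AddCommGrpCat.{u}).map
        (((SimplicialObject.whiskering (Type u) AddCommGrpCat.{u}).obj AddCommGrpCat.free.{u}).map
          ((evalS U).map (g f n)))) i) := by
  haveI := isCoskeletal_eval L n U
  obtain ⟨s, hs, ⟨H⟩⟩ := Groth.Agent.Lib.SpecialSSet.exists_section_homotopy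
    ((evalS U).map (g f n)) n (g_surj f n h1 U) (g_inj f n h1 U) (K'_ext f n U)
  exact Groth.Agent.Lib.SpecialSSet.isIso_homologyMap _ AddCommGrpCat.free.{u} s hs H i

end Sectionwise

end Groth.Agent.Lib.SpecialPsh
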