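import Mathlib
import Groth.Agent.Lib.SpecialPsh_helper7

/-!
# Special morphisms of coskeletal simplicial presheaves: homology sheaves

Assembly of the main theorem: a special morphism `f : L ⟶ K` of `n`-coskeletal simplicial
presheaves induces isomorphisms on the homology sheaves of the free abelian chain complexes.
-/

set_option backward.isDefEq.respectTransparency false
set_option backward.isDefEq.respectTransparency.types false
set_option linter.style.haveILetI false
set_option linter.unusedSectionVars false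
set_option autoImplicit false

universe v₁ u₁ v₂ u₂ u

open CategoryTheory CategoryTheory.Limits Opposite Simplicial

namespace Groth.Agent.Lib.SpecialMain

open Groth.Agent.Lib.SpecialPsh

section General

variable {A : Type u₁} [Category.{v₁} A] [Abelian A] {B : Type u₂} [Category.{v₂} B] [Abelian B]

lemma quasiIso_map_altFMC_iff (F : A ⥤ B) [F.Additive] {X Y : SimplicialObject A} (φ : X ⟶ Y) :
    QuasiIso ((F.mapHomologicalComplex (ComplexShape.down ℕ)).map
      ((AlgebraicTopology.alternatingFaceMapComplex A).map φ)) ↔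
    QuasiIso ((AlgebraicTopology.alternatingFaceMapComplex B).map
      (((SimplicialObject.whiskering A B).obj F).map φ)) := by
  have h := Functor.congr_hom (AlgebraicTopology.map_alternatingFaceMapComplex F) φ
  simp only [Functor.comp_map] at h
  rw [h, quasiIso_iff_comp_left, quasiIso_iff_comp_right]

end General

section Sieves

variable {C : Type u} [Category.{v₁} C] (J : GrothendieckTopology C)

lemma finite_inter_mem {U : C} {ι : Type*} [Finite ι] (S : ι → Sieve U)
    (hS : ∀ a, S a ∈ J U) :
    ∃ T ∈ J U, ∀ {V : C} (i : V ⟶ U), T i → ∀ a, S a i := by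
  classical
  haveI := Fintype.ofFinite ι
  have key : ∀ s : Finset ι, ∃ T ∈ J U, ∀ {V : C} (i : V ⟶ U), T i → ∀ a ∈ s, S a i := by
    intro s
    induction s using Finset.induction_on with
    | empty => exact ⟨⊤, J.top_mem U, fun _ _ a ha => absurd ha (Finset.notMem_empty a)⟩
    | insert a s _ ih =>
      obtain ⟨T, hT, hT'⟩ := ih
      refine ⟨T ⊓ S a, J.intersection_covering hT (hS a), ?_⟩
      intro V i hi b hb
      rcases Finset.mem_insert.1 hb with rfl | hb
      · exact hi.2
      · exact hT' i hi.1 b hb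
  obtain ⟨T, hT, hT'⟩ := key Finset.univ
  exact ⟨T, hT, fun i hi a => hT' i hi a (Finset.mem_univ a)⟩

end Sieves

variable {C : Type u} [SmallCategory C] (J : GrothendieckTopology C)

/-- The free abelian presheaf functor. -/
abbrev Gf : (Cᵒᵖ ⥤ Type u) ⥤ (Cᵒᵖ ⥤ AddCommGrpCat.{u}) :=
  (Functor.whiskeringRight Cᵒᵖ (Type u) AddCommGrpCat.{u}).obj AddCommGrpCat.free.{u}

variable {L K : SimplicialObject (Cᵒᵖ ⥤ Type u)} (f : L ⟶ K) (n : ℕ)

section GPart

variable (h1 : ∀ p : ℕ, p < n → IsIso (f.app (op ⦋p⦌)))

include h1 in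
theorem quasiIso_g_psh [L.IsCoskeletal n] [K.IsCoskeletal n] :
    QuasiIso ((AlgebraicTopology.alternatingFaceMapComplex (Cᵒᵖ ⥤ AddCommGrpCat.{u})).map
      (((SimplicialObject.whiskering _ _).obj (Gf (C := C))).map (g f n))) := by
  rw [HomologicalComplex.quasiIso_iff_evaluation]
  intro U
  rw [quasiIso_map_altFMC_iff]
  rw [quasiIso_iff]
  intro i
  rw [quasiIsoAt_iff_isIso_homologyMap]
  exact isIso_homologyMap_g_eval f n h1 U i

include h1 in
theorem quasiIso_g_sh [L.IsCoskeletal n] [K.IsCoskeletal n] :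
    QuasiIso ((AlgebraicTopology.alternatingFaceMapComplex (Sheaf J AddCommGrpCat.{u})).map
      (((SimplicialObject.whiskering _ _).obj
        (Gf (C := C) ⋙ presheafToSheaf J AddCommGrpCat.{u})).map (g f n))) := by
  haveI hq := quasiIso_g_psh f n h1
  have h := HomologicalComplex.quasiIso_map_of_preservesHomology
    ((AlgebraicTopology.alternatingFaceMapComplex (Cᵒᵖ ⥤ AddCommGrpCat.{u})).map
      (((SimplicialObject.whiskering _ _).obj (Gf (C := C))).map (g f n)))
    (presheafToSheaf J AddCommGrpCat.{u})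
  rw [quasiIso_map_altFMC_iff] at h
  exact h

end GPart

section IotaPart

variable (h2 : Presheaf.IsLocallySurjective J (f.app (op ⦋n⦌)))

include h2 in
lemma ι'_locSurj (k : SimplexCategoryᵒᵖ) :
    Presheaf.IsLocallySurjective J ((ι' f n).app k) := by
  constructor
  intro U x
  obtain ⟨T, hT, hT'⟩ := finite_inter_mem J
    (fun a : ⦋n⦌ ⟶ k.unop =>
      Presheaf.imageSieve (f.app (op ⦋n⦌)) ((K.map a.op).app (op U) x))
    (fun a => Presheaf.imageSieve_mem J (f.app (op ⦋n⦌)) _)
  refine J.superset_covering ?_ hT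
  intro V i hi
  have hx : (K.obj k).map i.op x ∈ (sub f n k).obj (op V) := by
    intro a
    obtain ⟨y, hy⟩ := hT' i hi a
    refine ⟨y, hy.trans ?_⟩
    exact (Groth.Agent.Lib.SpecialSSet.app_eq ((K.map a.op).naturality i.op) x).symm
  exact ⟨⟨(K.obj k).map i.op x, hx⟩, rfl⟩

lemma ι'_locInj (k : SimplexCategoryᵒᵖ) :
    Presheaf.IsLocallyInjective J ((ι' f n).app k) := by
  apply Presheaf.isLocallyInjective_of_injective
  intro U a b h
  exact Subtype.ext h

include h2 in
lemma W_ι' (k : SimplexCategoryᵒᵖ) : J.W ((ι' f n).app k) := by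
  haveI := ι'_locSurj J f n h2 k
  haveI := ι'_locInj J f n k
  exact J.W_of_isLocallyBijective _

include h2 in
lemma isIso_ι'_sh :
    IsIso (((SimplicialObject.whiskering _ _).obj
      (Gf (C := C) ⋙ presheafToSheaf J AddCommGrpCat.{u})).map (ι' f n)) := by
  haveI : ∀ k, IsIso ((((SimplicialObject.whiskering _ _).obj
      (Gf (C := C) ⋙ presheafToSheaf J AddCommGrpCat.{u})).map (ι' f n)).app k) := by
    intro k
    exact J.W_isInvertedBy_whiskeringRight_presheafToSheaf AddCommGrpCat.free.{u} _
      (W_ι' J f n h2 k)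
  exact NatIso.isIso_of_isIso_app _

end IotaPart

theorem main [L.IsCoskeletal n] [K.IsCoskeletal n]
    (h1 : ∀ p : ℕ, p < n → IsIso (f.app (op ⦋p⦌)))
    (h2 : Presheaf.IsLocallySurjective J (f.app (op ⦋n⦌))) :
    QuasiIso ((AlgebraicTopology.alternatingFaceMapComplex (Sheaf J AddCommGrpCat.{u})).map
      (((SimplicialObject.whiskering _ _).obj
        (Gf (C := C) ⋙ presheafToSheaf J AddCommGrpCat.{u})).map f)) := by
  haveI := quasiIso_g_sh J f n h1
  haveI := isIso_ι'_sh J f n h2
  have e : f = g f n ≫ ι' f n := (g_ι' f n).symm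
  rw [e, Functor.map_comp, Functor.map_comp]
  infer_instance

end Groth.Agent.Lib.SpecialMain
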