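import Mathlib
import Groth.Agent.Lib.SpecialMain_helper7

/-!
# Special morphisms of coskeletal simplicial sheaves of sets
-/

set_option backward.isDefEq.respectTransparency false
set_option backward.isDefEq.respectTransparency.types false
set_option linter.style.haveILetI false
set_option linter.unusedSectionVars false
set_option autoImplicit false

universe v₁ u₁ v₂ u₂ u

open CategoryTheory CategoryTheory.Limits Opposite Simplicial

namespace Groth.Agent.Lib.SpecialSheaf

open Groth.Agent.Lib.SpecialPsh Groth.Agent.Lib.SpecialMain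

section Cosk

variable {A : Type u₁} [Category.{v₁} A] [HasFiniteLimits A] {B : Type u₂} [Category.{v₂} B]

/-- A functor preserving finite limits preserves coskeletal simplicial objects. -/
lemma isCoskeletal_whisker (G : A ⥤ B) [PreservesFiniteLimits G] (K : SimplicialObject A) (n : ℕ)
    [K.IsCoskeletal n] : (((SimplicialObject.whiskering A B).obj G).obj K).IsCoskeletal n := by
  haveI : K.IsRightKanExtension (𝟙 ((SimplexCategory.Truncated.inclusion n).op ⋙ K)) :=
    SimplicialObject.IsCoskeletal.isRightKanExtension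
  haveI : (SimplexCategory.Truncated.inclusion n).op.HasPointwiseRightKanExtension
      ((SimplexCategory.Truncated.inclusion n).op ⋙ K) :=
    Groth.Agent.Lib.TruncKanH4.main6800 n _
  haveI : ∀ c, G.PreservesPointwiseRightKanExtensionAt
      ((SimplexCategory.Truncated.inclusion n).op ⋙ K)
      (SimplexCategory.Truncated.inclusion n).op c := by
    intro c
    letI : FinCategory (StructuredArrow c (SimplexCategory.Truncated.inclusion n).op) :=
      Groth.Agent.Lib.TruncKanH4.finCatOfFinite _
    infer_instance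
  have h := Functor.PreservesRightKanExtension.preserves (G := G) K
    (𝟙 ((SimplexCategory.Truncated.inclusion n).op ⋙ K))
  refine ⟨?_⟩
  have e : (Functor.associator _ _ _).inv ≫ Functor.whiskerRight
      (𝟙 ((SimplexCategory.Truncated.inclusion n).op ⋙ K)) G =
      𝟙 ((SimplexCategory.Truncated.inclusion n).op ⋙
        ((SimplicialObject.whiskering A B).obj G).obj K) := by
    ext a
    simp
    rfl
  rw [← e]
  exact h

end Cosk

section AllDegrees

variable {C : Type u} [SmallCategory C] (J : GrothendieckTopology C)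
  {L K : SimplicialObject (Cᵒᵖ ⥤ Type u)} (f : L ⟶ K) (n : ℕ)
  (h1 : ∀ p : ℕ, p < n → IsIso (f.app (op ⦋p⦌)))

include h1 in
lemma g_surj_all [L.IsCoskeletal n] [K.IsCoskeletal n] (k : SimplexCategoryᵒᵖ) (U : Cᵒᵖ) :
    Function.Surjective (((g f n).app k).app U) := by
  haveI := isCoskeletal_eval L n U
  obtain ⟨s, hs, -⟩ := Groth.Agent.Lib.SpecialSSet.exists_section_homotopy
    ((evalS U).map (g f n)) n (g_surj f n h1 U) (g_inj f n h1 U) (K'_ext f n U)
  intro x
  refine ⟨s.app k x, ?_⟩
  exact Groth.Agent.Lib.SpecialSSet.app_eq (congrArg (fun m => m.app k) hs) x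

include h1 in
lemma locSurj_all [L.IsCoskeletal n] [K.IsCoskeletal n]
    (h2 : Presheaf.IsLocallySurjective J (f.app (op ⦋n⦌))) (k : SimplexCategoryᵒᵖ) :
    Presheaf.IsLocallySurjective J (f.app k) := by
  haveI : Presheaf.IsLocallySurjective J ((g f n).app k) :=
    Presheaf.isLocallySurjective_of_surjective J _ (g_surj_all f n h1 k)
  haveI := ι'_locSurj J f n h2 k
  have e : f.app k = (g f n).app k ≫ (ι' f n).app k := by
    rw [← NatTrans.comp_app, g_ι']
  rw [e]
  infer_instance

end AllDegrees

section Sheaves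

variable {C : Type u} [SmallCategory C] (J : GrothendieckTopology C)
  {K L : SimplicialObject (Sheaf J (Type u))} (v : K ⟶ L) (n : ℕ)

theorem main3092 [K.IsCoskeletal n] [L.IsCoskeletal n]
    (h1 : ∀ p : ℕ, p < n → IsIso (v.app (op ⦋p⦌))) (h2 : Epi (v.app (op ⦋n⦌))) :
    (∀ p : ℕ, Epi (v.app (op ⦋p⦌))) ∧
    QuasiIso ((AlgebraicTopology.alternatingFaceMapComplex _).map
      (Functor.whiskerRight v (Sheaf.composeAndSheafify J AddCommGrpCat.free.{u}))) := by
  let f := ((SimplicialObject.whiskering _ _).obj (sheafToPresheaf J (Type u))).map v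
  haveI := isCoskeletal_whisker (sheafToPresheaf J (Type u)) K n
  haveI := isCoskeletal_whisker (sheafToPresheaf J (Type u)) L n
  have h1' : ∀ p : ℕ, p < n → IsIso (f.app (op ⦋p⦌)) := by
    intro p hp
    haveI := h1 p hp
    exact (inferInstance : IsIso ((sheafToPresheaf J (Type u)).map (v.app (op ⦋p⦌))))
  have h2' : Presheaf.IsLocallySurjective J (f.app (op ⦋n⦌)) :=
    (Sheaf.isLocallySurjective_iff_epi (v.app (op ⦋n⦌))).2 h2
  refine ⟨?_, ?_⟩
  · intro p
    haveI : Sheaf.IsLocallySurjective (v.app (op ⦋p⦌)) := locSurj_all J f n h1' h2' (op ⦋p⦌)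
    exact Sheaf.epi_of_isLocallySurjective _
  · exact Groth.Agent.Lib.SpecialMain.main J f n h1' h2'

end Sheaves

end Groth.Agent.Lib.SpecialSheaf
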