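import Mathlib
import Groth.Agent.Lib.SpecialSheaf_helper7

/-!
# Special morphisms of simplicial presheaves: variant with a weaker hypothesis on the target

Same as `SpecialMain`, except that the target `K` is only assumed to satisfy, sectionwise, that
morphisms into it are determined by their components in degrees `≤ n`.
-/

set_option backward.isDefEq.respectTransparency false
set_option backward.isDefEq.respectTransparency.types false
set_option linter.style.haveILetI false
set_option linter.unusedSectionVars false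
set_option autoImplicit false

universe u

open CategoryTheory CategoryTheory.Limits Opposite Simplicial

namespace Groth.Agent.Lib.SpecialMain2

open Groth.Agent.Lib.SpecialPsh Groth.Agent.Lib.SpecialMain

variable {C : Type u} [SmallCategory C] (J : GrothendieckTopology C)
  {L K : SimplicialObject (Cᵒᵖ ⥤ Type u)} (f : L ⟶ K) (n : ℕ)

/-- Sectionwise, morphisms into `K` are determined by their components in degrees `≤ n`. -/
def HomExt (K : SimplicialObject (Cᵒᵖ ⥤ Type u)) (n : ℕ) : Prop :=
  ∀ (U : Cᵒᵖ) (W : SimplicialObject (Type u)) (γ₁ γ₂ : W ⟶ (evalS U).obj K),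
    (∀ k : SimplexCategory, k.len ≤ n → γ₁.app (op k) = γ₂.app (op k)) → γ₁ = γ₂

lemma homExt_of_isCoskeletal (K : SimplicialObject (Cᵒᵖ ⥤ Type u)) (n : ℕ) [K.IsCoskeletal n] :
    HomExt K n := by
  intro U W γ₁ γ₂ h
  haveI := isCoskeletal_eval K n U
  haveI : ((evalS U).obj K).IsRightKanExtension
      (𝟙 ((SimplexCategory.Truncated.inclusion n).op ⋙ (evalS U).obj K)) :=
    SimplicialObject.IsCoskeletal.isRightKanExtension
  apply Functor.hom_ext_of_isRightKanExtension ((evalS U).obj K)
    (𝟙 ((SimplexCategory.Truncated.inclusion n).op ⋙ (evalS U).obj K))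
  apply NatTrans.ext
  funext a
  have ha := h a.unop.obj a.unop.property
  change γ₁.app (op a.unop.obj) ≫ 𝟙 _ = γ₂.app (op a.unop.obj) ≫ 𝟙 _
  rw [ha]

lemma HomExt.of_le {K : SimplicialObject (Cᵒᵖ ⥤ Type u)} {n m : ℕ} (h : HomExt K n)
    (hnm : n ≤ m) : HomExt K m := by
  intro U W γ₁ γ₂ h'
  exact h U W γ₁ γ₂ (fun k hk => h' k (hk.trans hnm))

lemma K'_ext (hK : HomExt K n) (U : Cᵒᵖ) (W : SimplicialObject (Type u))
    (γ₁ γ₂ : W ⟶ (evalS U).obj (K' f n))
    (h : ∀ k : SimplexCategory, k.len ≤ n → γ₁.app (op k) = γ₂.app (op k)) : γ₁ = γ₂ := by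
  have h2 : γ₁ ≫ (evalS U).map (ι' f n) = γ₂ ≫ (evalS U).map (ι' f n) := by
    apply hK U W
    intro k hk
    rw [NatTrans.comp_app, NatTrans.comp_app, h k hk]
  ext k x
  have h3 := Groth.Agent.Lib.SpecialSSet.app_eq (congrArg (fun m => m.app k) h2) x
  exact Subtype.ext h3

variable (h1 : ∀ p : ℕ, p < n → IsIso (f.app (op ⦋p⦌)))

include h1 in
theorem exists_section_g_eval [L.IsCoskeletal n] (hK : HomExt K n) (U : Cᵒᵖ) :
    ∃ s : (evalS U).obj (K' f n) ⟶ (evalS U).obj L, s ≫ (evalS U).map (g f n) = 𝟙 _ ∧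
      Nonempty (SimplicialObject.Homotopy ((evalS U).map (g f n) ≫ s) (𝟙 _)) := by
  haveI := isCoskeletal_eval L n U
  exact Groth.Agent.Lib.SpecialSSet.exists_section_homotopy
    ((evalS U).map (g f n)) n (g_surj f n h1 U) (g_inj f n h1 U) (K'_ext f n hK U)

include h1 in
theorem isIso_homologyMap_g_eval [L.IsCoskeletal n] (hK : HomExt K n) (U : Cᵒᵖ) (i : ℕ) :
    IsIso (HomologicalComplex.homologyMap
      ((AlgebraicTopology.alternatingFaceMapComplex AddCommGrpCat.{u}).map
        (((SimplicialObject.whiskering (Type u) AddCommGrpCat.{u}).obj AddCommGrpCat.free.{u}).map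
          ((evalS U).map (g f n)))) i) := by
  obtain ⟨s, hs, ⟨H⟩⟩ := exists_section_g_eval f n h1 hK U
  exact Groth.Agent.Lib.SpecialSSet.isIso_homologyMap _ AddCommGrpCat.free.{u} s hs H i

include h1 in
theorem quasiIso_g_psh [L.IsCoskeletal n] (hK : HomExt K n) :
    QuasiIso ((AlgebraicTopology.alternatingFaceMapComplex (Cᵒᵖ ⥤ AddCommGrpCat.{u})).map
      (((SimplicialObject.whiskering _ _).obj (Gf (C := C))).map (g f n))) := by
  rw [HomologicalComplex.quasiIso_iff_evaluation]
  intro U
  rw [quasiIso_map_altFMC_iff]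
  rw [quasiIso_iff]
  intro i
  rw [quasiIsoAt_iff_isIso_homologyMap]
  exact isIso_homologyMap_g_eval f n h1 hK U i

include h1 in
theorem quasiIso_g_sh [L.IsCoskeletal n] (hK : HomExt K n) :
    QuasiIso ((AlgebraicTopology.alternatingFaceMapComplex (Sheaf J AddCommGrpCat.{u})).map
      (((SimplicialObject.whiskering _ _).obj
        (Gf (C := C) ⋙ presheafToSheaf J AddCommGrpCat.{u})).map (g f n))) := by
  haveI hq := quasiIso_g_psh f n h1 hK
  have h := HomologicalComplex.quasiIso_map_of_preservesHomology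
    ((AlgebraicTopology.alternatingFaceMapComplex (Cᵒᵖ ⥤ AddCommGrpCat.{u})).map
      (((SimplicialObject.whiskering _ _).obj (Gf (C := C))).map (g f n)))
    (presheafToSheaf J AddCommGrpCat.{u})
  rw [quasiIso_map_altFMC_iff] at h
  exact h

include h1 in
theorem main [L.IsCoskeletal n] (hK : HomExt K n)
    (h2 : Presheaf.IsLocallySurjective J (f.app (op ⦋n⦌))) :
    QuasiIso ((AlgebraicTopology.alternatingFaceMapComplex (Sheaf J AddCommGrpCat.{u})).map
      (((SimplicialObject.whiskering _ _).obj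
        (Gf (C := C) ⋙ presheafToSheaf J AddCommGrpCat.{u})).map f)) := by
  haveI := quasiIso_g_sh J f n h1 hK
  haveI := isIso_ι'_sh J f n h2
  have e : f = g f n ≫ ι' f n := (g_ι' f n).symm
  rw [e, Functor.map_comp, Functor.map_comp]
  infer_instance

end Groth.Agent.Lib.SpecialMain2
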