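import Mathlib
import Groth.Agent.Lib.SpecialMain2_helper7

/-!
# The coskeleton tower of a simplicial presheaf

Let `P` be a simplicial presheaf of sets on a small site, together with maps `η n : P ⟶ Q n` to
`n`-coskeletal simplicial presheaves which are isomorphisms in degrees `≤ n` and locally
surjective in degree `n + 1`, and assume `P₀ ⟶ *` is locally surjective.  Then the chain complex
of free abelian sheaves of `P` has vanishing homology in positive degrees and its `H₀` is the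
sheafification of the constant presheaf `ℤ`.
-/

set_option backward.isDefEq.respectTransparency false
set_option backward.isDefEq.respectTransparency.types false
set_option linter.style.haveILetI false
set_option linter.unusedSectionVars false
set_option autoImplicit false

universe v₁ u₁ u

open CategoryTheory CategoryTheory.Limits Opposite Simplicial

namespace Groth.Agent.Lib.HyperTower

open Groth.Agent.Lib.SpecialPsh Groth.Agent.Lib.SpecialMain Groth.Agent.Lib.SpecialMain2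
open Groth.Agent.Lib.SpecialSSet (app_eq)

section Chain

variable {A : Type u₁} [Category.{v₁} A] [Abelian A]

lemma quasiIsoAt_of_isIso_le {K L : ChainComplex A ℕ} (φ : K ⟶ L) (i : ℕ)
    (h : ∀ k : ℕ, k ≤ i + 1 → IsIso (φ.f k)) : QuasiIsoAt φ i := by
  rw [quasiIsoAt_iff]
  have h1 : (ComplexShape.down ℕ).prev i ≤ i + 1 := by
    rw [ChainComplex.prev]
  have h3 : (ComplexShape.down ℕ).next i ≤ i + 1 := by
    cases i with
    | zero => rw [ChainComplex.next_nat_zero]; exact Nat.zero_le _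
    | succ j => rw [ChainComplex.next_nat_succ]; omega
  haveI : IsIso ((HomologicalComplex.shortComplexFunctor A (ComplexShape.down ℕ) i).map φ).τ₁ :=
    h _ h1
  haveI : IsIso ((HomologicalComplex.shortComplexFunctor A (ComplexShape.down ℕ) i).map φ).τ₂ :=
    h i (Nat.le_succ i)
  haveI : IsIso ((HomologicalComplex.shortComplexFunctor A (ComplexShape.down ℕ) i).map φ).τ₃ :=
    h _ h3
  exact ShortComplex.quasiIso_of_epi_of_isIso_of_mono _

lemma quasiIsoAt_altFMC_map {X Y : SimplicialObject A} (f : X ⟶ Y) (i : ℕ)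
    (h : ∀ k : ℕ, k ≤ i + 1 → IsIso (f.app (op ⦋k⦌))) :
    QuasiIsoAt ((AlgebraicTopology.alternatingFaceMapComplex A).map f) i := by
  apply quasiIsoAt_of_isIso_le
  intro k hk
  rw [AlgebraicTopology.alternatingFaceMapComplex_map_f]
  exact h k hk

end Chain

section Cosk0

/-- The unique object of the opposite of the `0`-truncated simplex category. -/
def a0 : (SimplexCategory.Truncated 0)ᵒᵖ := op ⟨⦋0⦌, Nat.le_refl 0⟩

lemma trunc0_obj_eq (a : (SimplexCategory.Truncated 0)ᵒᵖ) : a = a0 := by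
  obtain ⟨⟨⟨m⟩, hm⟩⟩ := a
  have hm' : m = 0 := Nat.le_zero.mp hm
  subst hm'
  rfl

lemma hom01_cases (σ : ⦋0⦌ ⟶ ⦋1⦌) :
    σ = SimplexCategory.δ (0 : Fin 2) ∨ σ = SimplexCategory.δ (1 : Fin 2) := by
  have h := SimplexCategory.eq_const_of_zero σ
  have hv : ∀ v : Fin 2, v = 0 ∨ v = 1 := by decide
  rcases hv (σ.toOrderHom 0) with h' | h'
  · right
    rw [h'] at h
    rw [SimplexCategory.δ_one_eq_const]
    exact h
  · left
    rw [h'] at h
    rw [SimplexCategory.δ_zero_eq_const]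
    exact h

lemma cosk0_ext (W : SimplicialObject (Type u)) [W.IsCoskeletal 0] (x y : W.obj (op ⦋1⦌))
    (h0 : W.map (SimplexCategory.δ (0 : Fin 2)).op x = W.map (SimplexCategory.δ (0 : Fin 2)).op y)
    (h1 : W.map (SimplexCategory.δ (1 : Fin 2)).op x = W.map (SimplexCategory.δ (1 : Fin 2)).op y) :
    x = y := by
  haveI : W.IsRightKanExtension (𝟙 ((SimplexCategory.Truncated.inclusion 0).op ⋙ W)) :=
    SimplicialObject.IsCoskeletal.isRightKanExtension
  haveI : (SimplexCategory.Truncated.inclusion 0).op.HasPointwiseRightKanExtension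
      ((SimplexCategory.Truncated.inclusion 0).op ⋙ W) :=
    Groth.Agent.Lib.TruncKanH4.main6800 0 _
  have hp := Functor.isPointwiseRightKanExtensionOfIsRightKanExtension W
    (𝟙 ((SimplexCategory.Truncated.inclusion 0).op ⋙ W))
  have hl : IsLimit ((Functor.RightExtension.mk W
      (𝟙 ((SimplexCategory.Truncated.inclusion 0).op ⋙ W))).coneAt (op ⦋1⦌)) := hp (op ⦋1⦌)
  have key : ∀ σ : ⦋0⦌ ⟶ ⦋1⦌, W.map σ.op x = W.map σ.op y := by
    intro σ
    rcases hom01_cases σ with h | h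
    · rw [h]; exact h0
    · rw [h]; exact h1
  have hj : ∀ j : StructuredArrow (op ⦋1⦌) (SimplexCategory.Truncated.inclusion 0).op,
      W.map j.hom x = W.map j.hom y := by
    intro j
    obtain ⟨⟨⟩, a, hom⟩ := j
    obtain rfl := trunc0_obj_eq a
    exact key hom.unop
  obtain ⟨z, -, hz⟩ := (Types.isLimit_iff _).1 ⟨hl⟩
    (fun j => ((Functor.RightExtension.mk W
      (𝟙 ((SimplexCategory.Truncated.inclusion 0).op ⋙ W))).coneAt (op ⦋1⦌)).π.app j y)
    (fun {j j'} φ => app_eq (((Functor.RightExtension.mk W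
      (𝟙 ((SimplexCategory.Truncated.inclusion 0).op ⋙ W))).coneAt (op ⦋1⦌)).w φ) y)
  have hx : x = z := hz x (fun j => hj j)
  have hy : y = z := hz y (fun j => rfl)
  rw [hx, hy]

end Cosk0

section Prod

variable {C : Type u} [SmallCategory C]

lemma fst_of_lift_eq {F G H : Cᵒᵖ ⥤ Type u} (f : H ⟶ F) (g : H ⟶ G) {U V : Cᵒᵖ} (i : U ⟶ V)
    (z : H.obj V) (a : F.obj U) (b : G.obj U)
    (hz : (prod.lift f g).app V z = (F ⨯ G).map i (FunctorToTypes.prodMk a b)) :
    f.app V z = F.map i a := by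
  have e1 : (Limits.prod.fst (X := F) (Y := G)).app V ((prod.lift f g).app V z) = f.app V z :=
    app_eq (congrArg (fun m => m.app V) (prod.lift_fst f g)) z
  have e2 : (Limits.prod.fst (X := F) (Y := G)).app V
      ((F ⨯ G).map i (FunctorToTypes.prodMk a b)) =
      F.map i ((Limits.prod.fst (X := F) (Y := G)).app U (FunctorToTypes.prodMk a b)) :=
    app_eq ((Limits.prod.fst (X := F) (Y := G)).naturality i) (FunctorToTypes.prodMk a b)
  rw [FunctorToTypes.prodMk_fst] at e2
  rw [← e1, hz, e2]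

lemma snd_of_lift_eq {F G H : Cᵒᵖ ⥤ Type u} (f : H ⟶ F) (g : H ⟶ G) {U V : Cᵒᵖ} (i : U ⟶ V)
    (z : H.obj V) (a : F.obj U) (b : G.obj U)
    (hz : (prod.lift f g).app V z = (F ⨯ G).map i (FunctorToTypes.prodMk a b)) :
    g.app V z = G.map i b := by
  have e1 : (Limits.prod.snd (X := F) (Y := G)).app V ((prod.lift f g).app V z) = g.app V z :=
    app_eq (congrArg (fun m => m.app V) (prod.lift_snd f g)) z
  have e2 : (Limits.prod.snd (X := F) (Y := G)).app V
      ((F ⨯ G).map i (FunctorToTypes.prodMk a b)) =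
      G.map i ((Limits.prod.snd (X := F) (Y := G)).app U (FunctorToTypes.prodMk a b)) :=
    app_eq ((Limits.prod.snd (X := F) (Y := G)).naturality i) (FunctorToTypes.prodMk a b)
  rw [FunctorToTypes.prodMk_snd] at e2
  rw [← e1, hz, e2]

end Prod

section Tower

variable {C : Type u} [SmallCategory C] (J : GrothendieckTopology C)

/-- The terminal presheaf of types. -/
abbrev T : Cᵒᵖ ⥤ Type u := (Functor.const Cᵒᵖ).obj PUnit.{u + 1}

/-- The constant simplicial presheaf on the terminal presheaf. -/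
abbrev pt : SimplicialObject (Cᵒᵖ ⥤ Type u) :=
  (Functor.const SimplexCategoryᵒᵖ).obj (T (C := C))

/-- The morphism to the terminal presheaf. -/
def toT (F : Cᵒᵖ ⥤ Type u) : F ⟶ T (C := C) where
  app _ := TypeCat.ofHom (fun _ => PUnit.unit)
  naturality _ _ _ := rfl

/-- The morphism to the terminal simplicial presheaf. -/
def toPt (X : SimplicialObject (Cᵒᵖ ⥤ Type u)) : X ⟶ pt (C := C) where
  app k := toT (X.obj k)
  naturality _ _ _ := rfl

lemma toT_ext {F : Cᵒᵖ ⥤ Type u} (a b : F ⟶ T (C := C)) : a = b := by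
  ext U x
  rfl

lemma homExt_pt (n : ℕ) : HomExt (pt (C := C)) n := by
  intro U W γ₁ γ₂ _
  ext k x
  rfl

/-- The chain complex of free abelian sheaves attached to a simplicial presheaf. -/
noncomputable abbrev Φ :
    SimplicialObject (Cᵒᵖ ⥤ Type u) ⥤ ChainComplex (Sheaf J AddCommGrpCat.{u}) ℕ :=
  (SimplicialObject.whiskering _ _).obj (Gf (C := C) ⋙ presheafToSheaf J AddCommGrpCat.{u}) ⋙
    AlgebraicTopology.alternatingFaceMapComplex (Sheaf J AddCommGrpCat.{u})

section DegOne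

variable {P Q0 : SimplicialObject (Cᵒᵖ ⥤ Type u)} (η0 : P ⟶ Q0)

lemma face_eq (k : Fin 2) {U V : C} (i : V ⟶ U) (x : (Q0.obj (op ⦋1⦌)).obj (op U))
    (z : (P.obj (op ⦋1⦌)).obj (op V)) (c : (P.obj (op ⦋0⦌)).obj (op U))
    (hc : (η0.app (op ⦋0⦌)).app (op U) c = (Q0.map (SimplexCategory.δ k).op).app (op U) x)
    (hz : (P.map (SimplexCategory.δ k).op).app (op V) z = (P.obj (op ⦋0⦌)).map i.op c) :
    (Q0.map (SimplexCategory.δ k).op).app (op V) ((η0.app (op ⦋1⦌)).app (op V) z) =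
      (Q0.map (SimplexCategory.δ k).op).app (op V) ((Q0.obj (op ⦋1⦌)).map i.op x) := by
  have e1 := f_nat_app η0 (SimplexCategory.δ k) (op V) z
  rw [← e1, hz]
  have e2 := app_eq ((η0.app (op ⦋0⦌)).naturality i.op) c
  have e3 := app_eq ((Q0.map (SimplexCategory.δ k).op).naturality i.op) x
  exact e2.trans ((congrArg (fun w => (Q0.obj (op ⦋0⦌)).map i.op w) hc).trans e3.symm)

lemma locSurj_one [Q0.IsCoskeletal 0] [IsIso (η0.app (op ⦋0⦌))]
    (hb : Presheaf.IsLocallySurjective J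
      (prod.lift (P.map (SimplexCategory.δ (1 : Fin 2)).op)
        (P.map (SimplexCategory.δ (0 : Fin 2)).op))) :
    Presheaf.IsLocallySurjective J (η0.app (op ⦋1⦌)) := by
  constructor
  intro U x
  have hinv : ∀ (V : Cᵒᵖ) (w : (Q0.obj (op ⦋0⦌)).obj V),
      (η0.app (op ⦋0⦌)).app V ((inv (η0.app (op ⦋0⦌))).app V w) = w := by
    intro V w
    have h := congrArg (fun m => m.app V) (IsIso.inv_hom_id (η0.app (op ⦋0⦌)))
    exact app_eq h w
  let a : (P.obj (op ⦋0⦌)).obj (op U) := (inv (η0.app (op ⦋0⦌))).app (op U)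
    ((Q0.map (SimplexCategory.δ (1 : Fin 2)).op).app (op U) x)
  let b : (P.obj (op ⦋0⦌)).obj (op U) := (inv (η0.app (op ⦋0⦌))).app (op U)
    ((Q0.map (SimplexCategory.δ (0 : Fin 2)).op).app (op U) x)
  have hS : Presheaf.imageSieve (prod.lift (P.map (SimplexCategory.δ (1 : Fin 2)).op)
      (P.map (SimplexCategory.δ (0 : Fin 2)).op))
      (FunctorToTypes.prodMk a b : ((P.obj (op ⦋0⦌)) ⨯ (P.obj (op ⦋0⦌))).obj (op U)) ∈ J U :=
    Presheaf.imageSieve_mem J _ _
  refine J.superset_covering ?_ hS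
  intro V i hi
  obtain ⟨z, hz⟩ := hi
  refine ⟨z, ?_⟩
  haveI := isCoskeletal_eval Q0 0 (op V)
  refine cosk0_ext ((evalS (op V)).obj Q0) _ _ ?_ ?_
  · exact face_eq η0 0 i x z b (hinv _ _) (snd_of_lift_eq _ _ i.op z a b hz)
  · exact face_eq η0 1 i x z a (hinv _ _) (fst_of_lift_eq _ _ i.op z a b hz)

end DegOne

section Main

variable (P : SimplicialObject (Cᵒᵖ ⥤ Type u)) (Q : ℕ → SimplicialObject (Cᵒᵖ ⥤ Type u))
  (η : ∀ n, P ⟶ Q n)
  (hQ : ∀ n, (Q n).IsCoskeletal n)
  (hη : ∀ n p : ℕ, p ≤ n → IsIso ((η n).app (op ⦋p⦌)))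
  (hs : ∀ n, Presheaf.IsLocallySurjective J ((η n).app (op ⦋n + 1⦌)))
  (h0 : Presheaf.IsLocallySurjective J (toT (P.obj (op ⦋0⦌))))

include hQ hη in
lemma exists_τ (n : ℕ) : ∃ τ : Q (n + 1) ⟶ Q n, η (n + 1) ≫ τ = η n := by
  haveI := hQ n
  haveI : (Q n).IsRightKanExtension (𝟙 ((SimplexCategory.Truncated.inclusion n).op ⋙ Q n)) :=
    SimplicialObject.IsCoskeletal.isRightKanExtension
  haveI : IsIso (Functor.whiskerLeft (SimplexCategory.Truncated.inclusion n).op (η (n + 1))) := by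
    haveI : ∀ a, IsIso ((Functor.whiskerLeft (SimplexCategory.Truncated.inclusion n).op
        (η (n + 1))).app a) := by
      intro a
      exact hη (n + 1) a.unop.obj.len (a.unop.property.trans (Nat.le_succ n))
    exact NatIso.isIso_of_isIso_app _
  refine ⟨Functor.liftOfIsRightKanExtension (Q n)
    (𝟙 ((SimplexCategory.Truncated.inclusion n).op ⋙ Q n)) (Q (n + 1))
    (inv (Functor.whiskerLeft (SimplexCategory.Truncated.inclusion n).op (η (n + 1))) ≫
      Functor.whiskerLeft (SimplexCategory.Truncated.inclusion n).op (η n)), ?_⟩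
  apply Functor.hom_ext_of_isRightKanExtension (Q n)
    (𝟙 ((SimplexCategory.Truncated.inclusion n).op ⋙ Q n))
  rw [Functor.whiskerLeft_comp, Category.assoc, Functor.liftOfIsRightKanExtension_fac,
    IsIso.hom_inv_id_assoc, Category.comp_id]

include hQ hη hs in
lemma quasiIso_τ (n : ℕ) (τ : Q (n + 1) ⟶ Q n) (hτ : η (n + 1) ≫ τ = η n) :
    QuasiIso ((Φ J).map τ) := by
  haveI := hQ (n + 1)
  have hK : HomExt (Q n) (n + 1) := by
    haveI := hQ n
    exact (homExt_of_isCoskeletal (Q n) n).of_le (Nat.le_succ n)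
  have h1 : ∀ p : ℕ, p < n + 1 → IsIso (τ.app (op ⦋p⦌)) := by
    intro p hp
    haveI := hη (n + 1) p (Nat.le_of_lt hp)
    haveI := hη n p (Nat.lt_succ_iff.mp hp)
    have e : (η (n + 1)).app (op ⦋p⦌) ≫ τ.app (op ⦋p⦌) = (η n).app (op ⦋p⦌) := by
      rw [← NatTrans.comp_app, hτ]
    exact IsIso.of_isIso_fac_left e
  have h2 : Presheaf.IsLocallySurjective J (τ.app (op ⦋n + 1⦌)) := by
    haveI := hs n
    have e : (η (n + 1)).app (op ⦋n + 1⦌) ≫ τ.app (op ⦋n + 1⦌) = (η n).app (op ⦋n + 1⦌) := by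
      rw [← NatTrans.comp_app, hτ]
    exact Presheaf.isLocallySurjective_of_isLocallySurjective_fac J e
  exact Groth.Agent.Lib.SpecialMain2.main J τ (n + 1) h1 hK h2

include hQ hη h0 in
lemma quasiIso_bottom : QuasiIso ((Φ J).map (toPt (Q 0))) := by
  haveI := hQ 0
  have h2 : Presheaf.IsLocallySurjective J ((toPt (Q 0)).app (op ⦋0⦌)) := by
    have e : (η 0).app (op ⦋0⦌) ≫ (toPt (Q 0)).app (op ⦋0⦌) = toT (P.obj (op ⦋0⦌)) :=
      toT_ext _ _
    haveI := h0
    exact Presheaf.isLocallySurjective_of_isLocallySurjective_fac J e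
  exact Groth.Agent.Lib.SpecialMain2.main J (toPt (Q 0)) 0
    (fun p hp => absurd hp (Nat.not_lt_zero p)) (homExt_pt 0) h2

include hQ hη hs h0 in
lemma homology_iso_Q (i : ℕ) (n : ℕ) :
    Nonempty (((Φ J).obj (Q n)).homology i ≅ ((Φ J).obj (pt (C := C))).homology i) := by
  induction n with
  | zero =>
    have hq := quasiIso_bottom J P Q η hQ hη h0
    haveI : QuasiIsoAt ((Φ J).map (toPt (Q 0))) i := hq.quasiIsoAt i
    exact ⟨isoOfQuasiIsoAt ((Φ J).map (toPt (Q 0))) i⟩
  | succ n ih =>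
    obtain ⟨τ, hτ⟩ := exists_τ P Q η hQ hη n
    have hq := quasiIso_τ J P Q η hQ hη hs n τ hτ
    haveI : QuasiIsoAt ((Φ J).map τ) i := hq.quasiIsoAt i
    exact ⟨isoOfQuasiIsoAt ((Φ J).map τ) i ≪≫ ih.some⟩

include hη in
lemma homology_iso_P (i : ℕ) :
    Nonempty (((Φ J).obj P).homology i ≅ ((Φ J).obj (Q (i + 1))).homology i) := by
  haveI : QuasiIsoAt ((Φ J).map (η (i + 1))) i := by
    show QuasiIsoAt ((AlgebraicTopology.alternatingFaceMapComplex _).map
      (((SimplicialObject.whiskering _ _).obj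
        (Gf (C := C) ⋙ presheafToSheaf J AddCommGrpCat.{u})).map (η (i + 1)))) i
    apply quasiIsoAt_altFMC_map
    intro k hk
    haveI := hη (i + 1) k hk
    change IsIso ((Gf (C := C) ⋙ presheafToSheaf J AddCommGrpCat.{u}).map
      ((η (i + 1)).app (op ⦋k⦌)))
    infer_instance
  exact ⟨isoOfQuasiIsoAt ((Φ J).map (η (i + 1))) i⟩

end Main

section Pt

/-- The chain complex attached to the terminal simplicial presheaf. -/
noncomputable def ΦptIso : (Φ J).obj (pt (C := C)) ≅
    ChainComplex.alternatingConst.obj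
      ((Gf (C := C) ⋙ presheafToSheaf J AddCommGrpCat.{u}).obj T) :=
  (AlgebraicTopology.alternatingFaceMapComplex _).mapIso
    (Functor.constComp SimplexCategoryᵒᵖ (T (C := C))
      (Gf (C := C) ⋙ presheafToSheaf J AddCommGrpCat.{u})) ≪≫
  AlgebraicTopology.alternatingFaceMapComplexConst.app _

lemma isZero_homology_pt (i : ℕ) : IsZero (((Φ J).obj (pt (C := C))).homology (i + 1)) := by
  have h := ChainComplex.alternatingConst_exactAt
    ((Gf (C := C) ⋙ presheafToSheaf J AddCommGrpCat.{u}).obj T) (i + 1) (Nat.succ_ne_zero i)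
  rw [HomologicalComplex.exactAt_iff_isZero_homology] at h
  exact IsZero.of_iso h ((HomologicalComplex.homologyFunctor _ _ (i + 1)).mapIso (ΦptIso J))

/-- `H₀` of the chain complex attached to the terminal simplicial presheaf. -/
noncomputable def homologyZeroPt : ((Φ J).obj (pt (C := C))).homology 0 ≅
    (presheafToSheaf J AddCommGrpCat.{u}).obj
      ((Functor.const Cᵒᵖ).obj (AddCommGrpCat.free.{u}.obj PUnit.{u + 1})) :=
  (HomologicalComplex.homologyFunctor _ _ 0).mapIso (ΦptIso J) ≪≫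
    ChainComplex.alternatingConstHomologyZero _ ≪≫
    (presheafToSheaf J AddCommGrpCat.{u}).mapIso
      (Functor.constComp Cᵒᵖ PUnit.{u + 1} AddCommGrpCat.free.{u})

end Pt

/-- The main theorem on the coskeleton tower. -/
theorem tower (P : SimplicialObject (Cᵒᵖ ⥤ Type u)) (Q : ℕ → SimplicialObject (Cᵒᵖ ⥤ Type u))
    (η : ∀ n, P ⟶ Q n)
    (hQ : ∀ n, (Q n).IsCoskeletal n)
    (hη : ∀ n p : ℕ, p ≤ n → IsIso ((η n).app (op ⦋p⦌)))
    (hs : ∀ n, Presheaf.IsLocallySurjective J ((η n).app (op ⦋n + 1⦌)))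
    (h0 : Presheaf.IsLocallySurjective J (toT (P.obj (op ⦋0⦌)))) :
    (∀ i : ℕ, IsZero (((Φ J).obj P).homology (i + 1))) ∧
    Nonempty (((Φ J).obj P).homology 0 ≅ (presheafToSheaf J AddCommGrpCat.{u}).obj
      ((Functor.const Cᵒᵖ).obj (AddCommGrpCat.free.{u}.obj PUnit.{u + 1}))) := by
  have key : ∀ i : ℕ, Nonempty (((Φ J).obj P).homology i ≅
      ((Φ J).obj (pt (C := C))).homology i) := by
    intro i
    obtain ⟨e1⟩ := homology_iso_P J P Q η hη i
    obtain ⟨e2⟩ := homology_iso_Q J P Q η hQ hη hs h0 i (i + 1)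
    exact ⟨e1 ≪≫ e2⟩
  constructor
  · intro i
    obtain ⟨e⟩ := key (i + 1)
    exact IsZero.of_iso (isZero_homology_pt J i) e
  · obtain ⟨e⟩ := key 0
    exact ⟨e ≪≫ homologyZeroPt J⟩

end Tower

end Groth.Agent.Lib.HyperTower
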