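import Mathlib
import Groth.Prelude.Def_Hyper
import Groth.Agent.Lib.HyperTower_helper7
import Groth.Agent.Lib.FCYoneda_helper7

/-!
# Hypercoverings of a site: the chain complex of free abelian sheaves

For a hypercovering `K` (a simplicial object of formal coproducts of objects of a small site) the
chain complex `ℤ[F(K)]^#` is a resolution of the sheafification of the constant presheaf `ℤ`.
-/

set_option backward.isDefEq.respectTransparency false
set_option backward.isDefEq.respectTransparency.types false
set_option linter.style.haveILetI false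
set_option linter.unusedSectionVars false
set_option autoImplicit false

universe u

open CategoryTheory CategoryTheory.Limits Opposite Simplicial

namespace Groth.Agent.Lib.HyperFC

open Groth.Agent.Lib.HyperTower

variable {D : Type u} [SmallCategory D] (J : GrothendieckTopology D)
  (K : SimplicialObject (FormalCoproduct.{u} D))

lemma h0_of (X : Dᵒᵖ ⥤ Type u) (h : Presheaf.IsLocallySurjective J (terminal.from X)) :
    Presheaf.IsLocallySurjective J (toT X) := by
  constructor
  intro U y
  have hS : Presheaf.imageSieve (terminal.from X)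
      ((terminal.from (T (C := D))).app (op U) PUnit.unit :
        (⊤_ (Dᵒᵖ ⥤ Type u)).obj (op U)) ∈ J U :=
    Presheaf.imageSieve_mem J _ _
  refine J.superset_covering ?_ hS
  intro V i hi
  obtain ⟨t, -⟩ := hi
  exact ⟨t, rfl⟩

variable [∀ (n : ℕ) (F : (SimplexCategory.Truncated n)ᵒᵖ ⥤ FormalCoproduct.{u} D),
      (SimplexCategory.Truncated.inclusion n).op.HasRightKanExtension F]

/-- The simplicial presheaf attached to `K`. -/
noncomputable abbrev P : SimplicialObject (Dᵒᵖ ⥤ Type u) := K ⋙ FormalCoproduct.yoneda

/-- The simplicial presheaf attached to the `n`-th coskeleton of `K`. -/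
noncomputable abbrev Q (n : ℕ) : SimplicialObject (Dᵒᵖ ⥤ Type u) :=
  (SimplicialObject.cosk n).obj K ⋙ FormalCoproduct.yoneda

/-- The comparison map. -/
noncomputable abbrev η (n : ℕ) : P K ⟶ Q K n :=
  Functor.whiskerRight ((SimplicialObject.coskAdj n).unit.app K) FormalCoproduct.yoneda

lemma isIso_Ehom (n : ℕ) :
    IsIso ((Functor.associator (SimplexCategory.Truncated.inclusion n).op
      ((SimplicialObject.cosk n).obj K) (FormalCoproduct.yoneda (C := D))).inv ≫
      Functor.whiskerRight ((SimplicialObject.coskAdj n).counit.app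
        ((SimplicialObject.truncation n).obj K)) (FormalCoproduct.yoneda (C := D))) := by
  obtain ⟨hp⟩ := Groth.Agent.Lib.FCYoneda.isPointwise_y
    (SimplexCategory.Truncated.inclusion n).op
    ((SimplexCategory.Truncated.inclusion n).op ⋙ K)
    ((SimplicialObject.cosk n).obj K)
    ((SimplicialObject.coskAdj n).counit.app ((SimplicialObject.truncation n).obj K))
  exact hp.isIso_hom

lemma isRKE_Q (n : ℕ) :
    (Q K n).IsRightKanExtension
      ((Functor.associator (SimplexCategory.Truncated.inclusion n).op
      ((SimplicialObject.cosk n).obj K) (FormalCoproduct.yoneda (C := D))).inv ≫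
      Functor.whiskerRight ((SimplicialObject.coskAdj n).counit.app
        ((SimplicialObject.truncation n).obj K)) (FormalCoproduct.yoneda (C := D))) := by
  obtain ⟨hp⟩ := Groth.Agent.Lib.FCYoneda.isPointwise_y
    (SimplexCategory.Truncated.inclusion n).op
    ((SimplexCategory.Truncated.inclusion n).op ⋙ K)
    ((SimplicialObject.cosk n).obj K)
    ((SimplicialObject.coskAdj n).counit.app ((SimplicialObject.truncation n).obj K))
  exact hp.isRightKanExtension

lemma isCoskeletal_Q (n : ℕ) : (Q K n).IsCoskeletal n := by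
  have hR := isRKE_Q K n
  haveI := isIso_Ehom K n
  constructor
  refine (Functor.isRightKanExtension_iff_of_iso₂
    ((Functor.associator (SimplexCategory.Truncated.inclusion n).op
      ((SimplicialObject.cosk n).obj K) (FormalCoproduct.yoneda (C := D))).inv ≫
      Functor.whiskerRight ((SimplicialObject.coskAdj n).counit.app
        ((SimplicialObject.truncation n).obj K)) (FormalCoproduct.yoneda (C := D)))
    (𝟙 ((SimplexCategory.Truncated.inclusion n).op ⋙ Q K n))
    (asIso ((Functor.associator (SimplexCategory.Truncated.inclusion n).op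
      ((SimplicialObject.cosk n).obj K) (FormalCoproduct.yoneda (C := D))).inv ≫
      Functor.whiskerRight ((SimplicialObject.coskAdj n).counit.app
        ((SimplicialObject.truncation n).obj K)) (FormalCoproduct.yoneda (C := D)))).symm
    (Iso.refl _) ?_).1 hR
  rw [Iso.refl_hom, Functor.whiskerLeft_id', Category.id_comp, Iso.symm_hom, asIso_inv,
    IsIso.hom_inv_id]

lemma isIso_η (n p : ℕ) (hp : p ≤ n) : IsIso ((η K n).app (op ⦋p⦌)) := by
  haveI := isIso_Ehom K n
  have tri := (SimplicialObject.coskAdj n).left_triangle_components K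
  let up : K.obj (op ⦋p⦌) ⟶ ((SimplicialObject.cosk n).obj K).obj (op ⦋p⦌) :=
    ((SimplicialObject.coskAdj n).unit.app K).app (op ⦋p⦌)
  let αa : ((SimplicialObject.cosk n).obj K).obj (op ⦋p⦌) ⟶ K.obj (op ⦋p⦌) :=
    ((SimplicialObject.coskAdj n).counit.app ((SimplicialObject.truncation n).obj K)).app
        (op (⟨⦋p⦌, hp⟩ : SimplexCategory.Truncated n))
  have h2 : up ≫ αa = 𝟙 (K.obj (op ⦋p⦌)) :=
    congrArg (fun m => m.app (op (⟨⦋p⦌, hp⟩ : SimplexCategory.Truncated n))) tri
  have e : FormalCoproduct.yoneda.map up ≫ FormalCoproduct.yoneda.map αa =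
      𝟙 (FormalCoproduct.yoneda.obj (K.obj (op ⦋p⦌))) := by
    rw [← CategoryTheory.Functor.map_comp, h2, CategoryTheory.Functor.map_id]
  haveI : IsIso (FormalCoproduct.yoneda.map αa) := by
    have h3 := NatIso.isIso_app_of_isIso ((Functor.associator
      (SimplexCategory.Truncated.inclusion n).op
      ((SimplicialObject.cosk n).obj K) (FormalCoproduct.yoneda (C := D))).inv ≫
      Functor.whiskerRight ((SimplicialObject.coskAdj n).counit.app
        ((SimplicialObject.truncation n).obj K)) (FormalCoproduct.yoneda (C := D)))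
      (op (⟨⦋p⦌, hp⟩ : SimplexCategory.Truncated n))
    rw [NatTrans.comp_app, Functor.associator_inv_app, Category.id_comp,
      Functor.whiskerRight_app] at h3
    exact h3
  have h5 : IsIso (FormalCoproduct.yoneda.map up) := IsIso.of_isIso_fac_right e
  exact h5

lemma locSurj_η (hK : Hyper.IsHypercoveringSite J K) (n : ℕ) :
    Presheaf.IsLocallySurjective J ((η K n).app (op ⦋n + 1⦌)) := by
  cases n with
  | zero =>
    haveI := isCoskeletal_Q K 0
    haveI := isIso_η K 0 0 (Nat.le_refl 0)
    exact locSurj_one J (η K 0) hK.2.1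
  | succ m => exact hK.2.2 (m + 1) (Nat.succ_le_succ (Nat.zero_le m))

/-- The main theorem for hypercoverings of a small site. -/
theorem main_site (hK : Hyper.IsHypercoveringSite J K) :
    (∀ i : ℕ, IsZero ((Hyper.freeChainCx J K).homology (i + 1))) ∧
    Nonempty ((Hyper.freeChainCx J K).homology 0 ≅ (presheafToSheaf J AddCommGrpCat.{u}).obj
      ((Functor.const Dᵒᵖ).obj (AddCommGrpCat.free.{u}.obj PUnit.{u + 1}))) :=
  tower J (P K) (Q K) (η K) (isCoskeletal_Q K) (isIso_η K) (locSurj_η J K hK) (h0_of J _ hK.1)

/-- The free abelian group on one generator. -/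
noncomputable def freePUnitIso :
    AddCommGrpCat.free.{u}.obj PUnit.{u + 1} ≅ AddCommGrpCat.of (ULift.{u} ℤ) :=
  AddEquiv.toAddCommGrpIso ((FreeAbelianGroup.uniqueEquiv PUnit.{u + 1}).trans AddEquiv.ulift.symm)

/-- Variant of the main theorem with the constant sheaf `ℤ`. -/
theorem main_site' (hK : Hyper.IsHypercoveringSite J K) :
    (∀ i : ℕ, IsZero ((Hyper.freeChainCx J K).homology (i + 1))) ∧
    Nonempty ((Hyper.freeChainCx J K).homology 0 ≅
      (constantSheaf J AddCommGrpCat.{u}).obj (AddCommGrpCat.of (ULift.{u} ℤ))) := by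
  obtain ⟨h1, ⟨e⟩⟩ := main_site J K hK
  refine ⟨h1, ⟨e ≪≫ (presheafToSheaf J AddCommGrpCat.{u}).mapIso
    ((Functor.const Dᵒᵖ).mapIso freePUnitIso)⟩⟩

end Groth.Agent.Lib.HyperFC
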