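import Mathlib
import Groth.Prelude.Def_Hyper
import Groth.Agent.Lib.FreeSheaf_helper2
import Groth.Agent.Lib.HyperH0_lead
import Groth.Agent.Lib.HyperFC_helper7

/-!
# Čech cohomology of an injective sheaf with respect to a hypercovering

For a simplicial object `K` of formal coproducts of objects of a small site and an abelian sheaf
`I`, the Čech complex of `I` with respect to `K` is identified, degreewise and compatibly with the
differentials, with `Hom(ℤ[F(K)]^#, I)`.  If `I` is injective and `ℤ[F(K)]^#` is exact in degree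
`p + 1`, so is the Čech complex.
-/

set_option backward.isDefEq.respectTransparency false
set_option backward.isDefEq.respectTransparency.types false
set_option linter.style.haveILetI false
set_option linter.unusedSectionVars false
set_option autoImplicit false

universe u

open CategoryTheory CategoryTheory.Limits Opposite Simplicial

namespace Groth.Agent.Lib.HyperCechInj

open Groth.Agent.Lib.FreeSheaf Groth.Agent.Lib.HyperH0L
open Groth.Agent.Lib.SpecialMain (Gf)

section Ab

lemma hom_sum_zsmul_apply {A B : AddCommGrpCat.{u}} {n : ℕ} (g : Fin n → (A ⟶ B))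
    (c : Fin n → ℤ) (x : A) :
    (∑ k, c k • g k).hom x = ∑ k, c k • (g k).hom x := by
  let e : (A ⟶ B) →+ B :=
    (AddMonoidHom.eval x).comp (AddCommGrpCat.homAddEquiv (M := A) (N := B)).toAddMonoidHom
  have he : ∀ f : A ⟶ B, e f = f.hom x := fun f => rfl
  rw [← he, map_sum]
  apply Finset.sum_congr rfl
  intro k _
  rw [map_zsmul, he]

end Ab

variable {D : Type u} [SmallCategory D] (J : GrothendieckTopology D)
  (I : Sheaf J AddCommGrpCat.{u})

/-- The free abelian sheaf functor on presheaves of sets. -/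
noncomputable abbrev GA : (Dᵒᵖ ⥤ Type u) ⥤ Sheaf J AddCommGrpCat.{u} :=
  Gf (C := D) ⋙ presheafToSheaf J AddCommGrpCat.{u}

instance preservesColimits_GA : PreservesColimitsOfSize.{u, u} (GA J) := by
  haveI : PreservesColimitsOfSize.{u, u} (Gf (C := D)) :=
    (AddCommGrpCat.adj.whiskerRight Dᵒᵖ).leftAdjoint_preservesColimits
  haveI : PreservesColimitsOfSize.{u, u} (presheafToSheaf J AddCommGrpCat.{u}) :=
    (sheafificationAdjunction J AddCommGrpCat.{u}).leftAdjoint_preservesColimits
  infer_instance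

/-- `ℤ[F(A)]^#`. -/
noncomputable abbrev Z (A : FormalCoproduct.{u} D) : Sheaf J AddCommGrpCat.{u} :=
  (GA J).obj (FormalCoproduct.yoneda.obj A)

/-- The inclusion of a summand. -/
noncomputable def jj (A : FormalCoproduct.{u} D) (i : A.I) : freeSheaf J (A.obj i) ⟶ Z J A :=
  (GA J).map (Sigma.ι (fun i : A.I => yoneda.obj (A.obj i)) i)

/-- `ℤ[F(A)]^#` is the coproduct of the free sheaves on the components of `A`. -/
noncomputable def isColimitZ (A : FormalCoproduct.{u} D) :
    IsColimit (Cofan.mk (Z J A) (jj J A)) :=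
  isColimitCofanMkObjOfIsColimit (GA J) _ _
    (coproductIsCoproduct (fun i : A.I => yoneda.obj (A.obj i)))

lemma ι_yoneda_map {A B : FormalCoproduct.{u} D} (f : A ⟶ B) (i : A.I) :
    Sigma.ι (fun i : A.I => yoneda.obj (A.obj i)) i ≫ FormalCoproduct.yoneda.map f =
      yoneda.map (f.φ i) ≫ Sigma.ι (fun j : B.I => yoneda.obj (B.obj j)) (f.f i) := by
  dsimp only [FormalCoproduct.yoneda]
  simp only [FormalCoproduct.eval_obj_map]
  exact Sigma.ι_desc _ _

lemma jj_map {A B : FormalCoproduct.{u} D} (f : A ⟶ B) (i : A.I) :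
    jj J A i ≫ (GA J).map (FormalCoproduct.yoneda.map f) =
      freeSheafMap J (f.φ i) ≫ jj J B (f.f i) := by
  have h := congrArg (fun m => (GA J).map m) (ι_yoneda_map f i)
  simp only [Functor.map_comp] at h
  exact h

/-- Sections of `I` as maps from the free sheaf, additively. -/
noncomputable def θ (U : D) : (freeSheaf J U ⟶ I) ≃+ I.obj.obj (op U) :=
  { freeSheafHomEquiv J U I with
    map_add' := fun f g => by
      change freeSheafHomEquiv J U I (f + g) =
        freeSheafHomEquiv J U I f + freeSheafHomEquiv J U I g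
      have e : ∀ h : freeSheaf J U ⟶ I, freeSheafHomEquiv J U I h =
          h.hom.app (op U) (freeSheafHomEquiv J U (freeSheaf J U) (𝟙 _)) := by
        intro h
        rw [← freeSheafHomEquiv_comp, Category.id_comp]
      rw [e (f + g), e f, e g, Sheaf.Hom.add_app]
      rfl }

lemma θ_map {U V : D} (g : V ⟶ U) (f : freeSheaf J U ⟶ I) :
    θ J I V (freeSheafMap J g ≫ f) = (I.obj.map g.op).hom (θ J I U f) :=
  freeSheafHomEquiv_map J g I f

/-- The cochain attached to a morphism `ℤ[F(A)]^# ⟶ I`. -/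
noncomputable def Ψ (A : FormalCoproduct.{u} D) : (Z J A ⟶ I) →+ (Ev I.obj).obj (op A) :=
  AddMonoidHom.mk'
    (fun φ => (Groth.Agent.Lib.CechSite.piIso (fun i : A.I => I.obj.obj (op (A.obj i)))).inv
      (fun i => θ J I (A.obj i) (jj J A i ≫ φ)))
    (by
      intro φ φ'
      apply ev_ext
      intro i
      have h1 : ∀ ψ : Z J A ⟶ I, cmp I.obj A
          ((Groth.Agent.Lib.CechSite.piIso (fun i : A.I => I.obj.obj (op (A.obj i)))).inv
            (fun i => θ J I (A.obj i) (jj J A i ≫ ψ))) i = θ J I (A.obj i) (jj J A i ≫ ψ) :=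
        fun ψ => Groth.Agent.Lib.CechSite.piIso_inv_π _ _ i
      have h2 : ∀ x y : (Ev I.obj).obj (op A), cmp I.obj A (x + y) i =
          cmp I.obj A x i + cmp I.obj A y i := fun x y => map_add _ x y
      rw [h2, h1, h1, h1, Preadditive.comp_add, map_add])

lemma cmp_Ψ (A : FormalCoproduct.{u} D) (φ : Z J A ⟶ I) (i : A.I) :
    cmp I.obj A (Ψ J I A φ) i = θ J I (A.obj i) (jj J A i ≫ φ) :=
  Groth.Agent.Lib.CechSite.piIso_inv_π _ _ i

lemma Ψ_injective (A : FormalCoproduct.{u} D) : Function.Injective (Ψ J I A) := by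
  intro φ φ' h
  apply Cofan.IsColimit.hom_ext (isColimitZ J A)
  intro i
  apply (θ J I (A.obj i)).injective
  have h1 := cmp_Ψ J I A φ i
  have h2 := cmp_Ψ J I A φ' i
  rw [h] at h1
  exact h1.symm.trans h2

lemma Ψ_surjective (A : FormalCoproduct.{u} D) : Function.Surjective (Ψ J I A) := by
  intro x
  refine ⟨Cofan.IsColimit.desc (isColimitZ J A)
    (fun i => (θ J I (A.obj i)).symm (cmp I.obj A x i)), ?_⟩
  apply ev_ext
  intro i
  rw [cmp_Ψ]
  have h : jj J A i ≫ Cofan.IsColimit.desc (isColimitZ J A)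
      (fun i => (θ J I (A.obj i)).symm (cmp I.obj A x i)) =
      (θ J I (A.obj i)).symm (cmp I.obj A x i) :=
    Cofan.IsColimit.fac (isColimitZ J A) _ i
  rw [h, AddEquiv.apply_symm_apply]

lemma Ψ_map {A B : FormalCoproduct.{u} D} (f : A ⟶ B) (φ : Z J B ⟶ I) :
    Ψ J I A ((GA J).map (FormalCoproduct.yoneda.map f) ≫ φ) = pb I.obj f (Ψ J I B φ) := by
  apply ev_ext
  intro i
  rw [cmp_Ψ, cmp_pb, cmp_Ψ, ← Category.assoc, jj_map, Category.assoc]
  exact θ_map J I (f.φ i) (jj J B (f.f i) ≫ φ)

variable (K : SimplicialObject (FormalCoproduct.{u} D))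

lemma dC_eq (P : Dᵒᵖ ⥤ AddCommGrpCat.{u}) (n : ℕ) :
    (Hyper.cechCxSite K P).d n (n + 1) =
      ∑ k : Fin (n + 2), (-1 : ℤ) ^ (k : ℕ) • (Ev P).map (K.δ k).op := by
  have h : (Hyper.cechCxSite K P).d n (n + 1) =
      AlgebraicTopology.AlternatingCofaceMapComplex.objD
        ((FormalCoproduct.cosimplicialObjectFunctor K).obj P) n :=
    CochainComplex.of_d
      (fun n => ((FormalCoproduct.cosimplicialObjectFunctor K).obj P).obj (SimplexCategory.mk n))
      (AlgebraicTopology.AlternatingCofaceMapComplex.objD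
        ((FormalCoproduct.cosimplicialObjectFunctor K).obj P)) n
  rw [h]
  rfl

lemma dS_eq (n : ℕ) :
    (Hyper.freeChainCx J K).d (n + 1) n =
      ∑ k : Fin (n + 2), (-1 : ℤ) ^ (k : ℕ) •
        (GA J).map (FormalCoproduct.yoneda.map (K.δ k)) := by
  have h := AlgebraicTopology.AlternatingFaceMapComplex.obj_d_eq
    (Hyper.freeSimplicialSheaf J K) n
  exact h

lemma Ψ_d (n : ℕ) (φ : Z J (K.obj (op ⦋n⦌)) ⟶ I) :
    Ψ J I (K.obj (op ⦋n + 1⦌)) ((Hyper.freeChainCx J K).d (n + 1) n ≫ φ) =
      ((Hyper.cechCxSite K I.obj).d n (n + 1)).hom (Ψ J I (K.obj (op ⦋n⦌)) φ) := by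
  rw [dS_eq, dC_eq, Preadditive.sum_comp, map_sum, hom_sum_zsmul_apply]
  apply Finset.sum_congr rfl
  intro k _
  rw [Preadditive.zsmul_comp, map_zsmul, Ψ_map]
  rfl

theorem cech_exactAt [Injective I] (p : ℕ)
    (hS : (Hyper.freeChainCx J K).ExactAt (p + 1)) :
    (Hyper.cechCxSite K I.obj).ExactAt (p + 1) := by
  rw [HomologicalComplex.exactAt_iff' _ p (p + 1) (p + 2) (by simp) (by simp)]
  rw [ShortComplex.ab_exact_iff]
  intro x hx
  obtain ⟨φ, rfl⟩ := Ψ_surjective J I (K.obj (op ⦋p + 1⦌)) x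
  have h1 : (Hyper.freeChainCx J K).d (p + 2) (p + 1) ≫ φ = 0 := by
    apply Ψ_injective J I
    rw [Ψ_d, map_zero]
    exact hx
  have hS' : ((Hyper.freeChainCx J K).sc' (p + 2) (p + 1) p).Exact :=
    (HomologicalComplex.exactAt_iff' _ (p + 2) (p + 1) p (by simp) (by simp)).1 hS
  have h2 : (Hyper.freeChainCx J K).d (p + 1) p ≫ hS'.descToInjective φ h1 = φ :=
    hS'.comp_descToInjective φ h1
  refine ⟨Ψ J I (K.obj (op ⦋p⦌)) (hS'.descToInjective φ h1), ?_⟩
  have h3 := Ψ_d J I K p (hS'.descToInjective φ h1)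
  rw [h2] at h3
  exact h3.symm

variable [∀ (n : ℕ) (F : (SimplexCategory.Truncated n)ᵒᵖ ⥤ FormalCoproduct.{u} D),
      (SimplexCategory.Truncated.inclusion n).op.HasRightKanExtension F]

/-- Čech cohomology of an injective sheaf with respect to a hypercovering vanishes in positive
degrees. -/
theorem isZero_cech_homology [Injective I] (hK : Hyper.IsHypercoveringSite J K) (p : ℕ) :
    IsZero ((Hyper.cechCxSite K I.obj).homology (p + 1)) := by
  rw [← HomologicalComplex.exactAt_iff_isZero_homology]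
  apply cech_exactAt J I K p
  rw [HomologicalComplex.exactAt_iff_isZero_homology]
  exact (Groth.Agent.Lib.HyperFC.main_site J K hK).1 p

end Groth.Agent.Lib.HyperCechInj
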