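import Mathlib
import Groth.Prelude.Def_Hyper
import Groth.Agent.Lib.HyperH0_lead

/-!
# `H⁰` of the Čech complex of a hypercovering: exactness form

The proof of `HyperH0L.cech_h0` (lead), restated so as to expose the statement that every
`0`-cocycle of the Čech complex of a sheaf with respect to a hypercovering of `X` is the restriction
of a unique section over `X`.
-/

set_option autoImplicit false
set_option linter.unusedSimpArgs false
set_option linter.unusedVariables false
set_option linter.unusedSectionVars false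
set_option linter.style.longLine false
set_option linter.unnecessarySimpa false
set_option linter.deprecated false
set_option linter.style.haveILetI false
set_option maxHeartbeats 1600000
set_option backward.isDefEq.respectTransparency false
set_option backward.isDefEq.respectTransparency.types false
set_option backward.defeqAttrib.useBackward true

universe u

noncomputable section

namespace Groth.Agent.Lib.HyperH0Ex

open CategoryTheory CategoryTheory.Limits Opposite Groth.Agent.Lib.HyperH0L

variable {C : Type u} [SmallCategory C] (J : GrothendieckTopology C) (X : C)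
  [∀ (n : ℕ) (F : (SimplexCategory.Truncated n)ᵒᵖ ⥤ FormalCoproduct.{u} (Over X)),
      (SimplexCategory.Truncated.inclusion n).op.HasRightKanExtension F]
  (K : SimplicialObject (FormalCoproduct.{u} (Over X)))

theorem cech_h0_exists (hK : Hyper.IsHypercovering J X K) (F : Sheaf J AddCommGrpCat.{u})
    (x₀ : (Ev ((Over.forget X).op ⋙ F.obj)).obj (op (K.obj (op (SimplexCategory.mk 0)))))
    (hx₀ : ((Hyper.cechCx X K F.obj).d 0 1).hom x₀ = 0) :
    ∃ s : F.obj.obj (op X), (resX X F.obj (K.obj (op (SimplexCategory.mk 0)))).hom s = x₀ := by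
  let P : (Over X)ᵒᵖ ⥤ AddCommGrpCat.{u} := (Over.forget X).op ⋙ F.obj
  let CX := Hyper.cechCx X K F.obj
  have hF : Presieve.IsSheaf J (F.obj ⋙ forget _) :=
    (isSheaf_iff_isSheaf_of_type J _).1
      ((Presheaf.isSheaf_iff_isSheaf_forget J F.obj (forget _)).1 F.property)
  let K0 := K.obj (op (SimplexCategory.mk 0))
  let K1 := K.obj (op (SimplexCategory.mk 1))
  let φ : F.obj.obj (op X) ⟶ (Ev P).obj (op K0) := resX X F.obj K0
  have hd : CX.d 0 1 = (Ev P).map (K.δ (0 : Fin 2)).op - (Ev P).map (K.δ (1 : Fin 2)).op :=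
    d01 P K
  have hφd : φ ≫ CX.d 0 1 = 0 := by
    rw [hd, Preadditive.comp_sub]
    erw [resX_map X F.obj (K.δ (0 : Fin 2)), resX_map X F.obj (K.δ (1 : Fin 2))]
    rw [sub_self]
  have hsh : Presieve.IsSheafFor (F.obj ⋙ forget _)
      (Presieve.ofArrows (fun i : K0.I => (K0.obj i).left) (fun i => (K0.obj i).hom)) :=
    (Presieve.isSheafFor_iff_generate (Presieve.ofArrows _ _)).2 (hF _ hK.1)
  have hglue := (Presieve.isSheafFor_arrows_iff _ _).1 hsh
  have hφπ : ∀ (i : K0.I) (s : F.obj.obj (op X)),
      cmp P K0 (φ.hom s) i = (F.obj.map (K0.obj i).hom.op).hom s := fun i s =>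
    congrArg (fun m => m.hom s) (resX_π X F.obj K0 i)
  have hinj : Function.Injective φ.hom := by
    intro s s' hss
    refine (hF _ hK.1).isSeparatedFor.ext ?_
    intro V f hf
    obtain ⟨i, c, rfl⟩ := (Sieve.mem_ofArrows_iff _ _ _).1 hf
    show (F.obj.map (c ≫ (K0.obj i).hom).op).hom s = (F.obj.map (c ≫ (K0.obj i).hom).op).hom s'
    have a1 : ∀ z, (F.obj.map (c ≫ (K0.obj i).hom).op).hom z =
        (F.obj.map c.op).hom ((F.obj.map (K0.obj i).hom.op).hom z) := fun z =>
      congrArg (fun m => m.hom z) (F.obj.map_comp (K0.obj i).hom.op c.op)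
    rw [a1, a1, ← hφπ i s, ← hφπ i s', hss]
  have hex : ∀ x : (Ev P).obj (op K0), (CX.d 0 1).hom x = 0 → ∃ s, φ.hom s = x := by
    intro x hx
    have hx' : pb P (K.δ (0 : Fin 2)) x = pb P (K.δ (1 : Fin 2)) x := by
      have h2 : (CX.d 0 1).hom x = pb P (K.δ (0 : Fin 2)) x - pb P (K.δ (1 : Fin 2)) x := by
        rw [hd]
        rfl
      rw [hx] at h2
      exact sub_eq_zero.mp h2.symm
    have hcompat : Presieve.Arrows.Compatible (F.obj ⋙ forget _)
        (fun i : K0.I => (K0.obj i).hom) (fun i => cmp P K0 x i) := by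
      intro i j Z gi gj hij
      let w : Over X := Over.mk (gi ≫ (K0.obj i).hom)
      let a : (FormalCoproduct.incl (Over X)).obj w ⟶ K0 :=
        FormalCoproduct.Hom.fromIncl i (Over.homMk gi rfl)
      let b : (FormalCoproduct.incl (Over X)).obj w ⟶ K0 :=
        FormalCoproduct.Hom.fromIncl j (Over.homMk gj hij.symm)
      obtain ⟨l, hl⟩ := cosk0_cor K w a b
      have hcov := (GrothendieckTopology.mem_over_iff _ _).1
        ((J.over X).pullback_stable (l.φ PUnit.unit) (hK.2 0 (l.f PUnit.unit)))
      refine (hF _ hcov).isSeparatedFor.ext ?_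
      intro V t ht
      have ht' := (Sieve.overEquiv_iff _ _).1 ht
      obtain ⟨i', d, hd'⟩ := (Sieve.mem_ofArrows_iff _ _ _).1 ht'
      let w' : Over X := Over.mk (t ≫ w.hom)
      let τ : (FormalCoproduct.incl (Over X)).obj w' ⟶ (FormalCoproduct.incl (Over X)).obj w :=
        (FormalCoproduct.incl (Over X)).map (Over.homMk t rfl)
      let c' : (FormalCoproduct.incl (Over X)).obj w' ⟶ K1 := FormalCoproduct.Hom.fromIncl i'.1 d
      have hc : c' ≫ (un K).app (op (SimplexCategory.mk 1)) = τ ≫ l := by
        refine FormalCoproduct.hom_ext (funext fun _ => i'.2) ?_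
        rintro ⟨⟩
        have := hd'.symm
        simpa [c', τ] using this
      obtain ⟨h1, h2⟩ := hl _ τ c' hc
      show (F.obj.map t.op).hom ((F.obj.map gi.op).hom (cmp P K0 x i)) =
        (F.obj.map t.op).hom ((F.obj.map gj.op).hom (cmp P K0 x j))
      have ea : cmp P _ (pb P (τ ≫ a) x) PUnit.unit =
          (F.obj.map t.op).hom ((F.obj.map gi.op).hom (cmp P K0 x i)) := by
        rw [pb_comp, cmp_pb, cmp_pb]
        rfl
      have eb : cmp P _ (pb P (τ ≫ b) x) PUnit.unit =
          (F.obj.map t.op).hom ((F.obj.map gj.op).hom (cmp P K0 x j)) := by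
        rw [pb_comp, cmp_pb, cmp_pb]
        rfl
      rw [← ea, ← eb, h1, h2, pb_comp, pb_comp]
      exact congrArg (fun z => cmp P _ (pb P c' z) PUnit.unit) hx'.symm
    obtain ⟨t, ht, _⟩ := hglue _ hcompat
    refine ⟨t, ?_⟩
    apply ev_ext P K0
    intro i
    exact (hφπ i t).trans (ht i)
  exact hex x₀ hx₀

end Groth.Agent.Lib.HyperH0Ex
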