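import Mathlib
import Groth.Prelude.Def_Hyper
import Groth.Prelude.Def_CohSite
import Groth.Agent.Lib.HyperH0Ex_helper7
import Groth.Agent.Lib.HyperCechInj_helper7
import Groth.Agent.Lib.HyperSiteOver_lead
import Groth.Agent.Lib.OverShriek_helper2
import Groth.Agent.Lib.CechSiteLeray_helper2

/-!
# Čech cohomology of acyclic sheaves with respect to a hypercovering

If `F` is an abelian sheaf on a small site with `H^q(U, F) = 0` for all objects `U` and all `q > 0`,
then for every hypercovering `K` of an object `X` the Čech cohomology groups of `F` with respect to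
`K` vanish in positive degrees (dimension shifting).
-/

set_option backward.isDefEq.respectTransparency false
set_option backward.isDefEq.respectTransparency.types false
set_option linter.style.haveILetI false
set_option linter.unusedSectionVars false
set_option autoImplicit false

universe u

open CategoryTheory CategoryTheory.Limits Opposite Simplicial Abelian

namespace Groth.Agent.Lib.HyperAcyc

open Groth.Agent.Lib.HyperH0L Groth.Agent.Lib.FreeSheaf

section Ev

variable {D₀ : Type u} [Category.{u} D₀] {P Q : D₀ᵒᵖ ⥤ AddCommGrpCat.{u}}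

/-- The map on cochains induced by a morphism of presheaves. -/
noncomputable abbrev evMap (ψ : P ⟶ Q) (A : FormalCoproduct.{u} D₀) :
    (Ev P).obj (op A) ⟶ (Ev Q).obj (op A) :=
  ((FormalCoproduct.evalOp D₀ AddCommGrpCat.{u}).map ψ).app (op A)

lemma cmp_evMap (ψ : P ⟶ Q) (A : FormalCoproduct.{u} D₀) (x : (Ev P).obj (op A)) (i : A.I) :
    cmp Q A ((evMap ψ A).hom x) i = (ψ.app (op (A.obj i))).hom (cmp P A x i) := by
  have h : evMap ψ A ≫ Pi.π (fun i : A.I => Q.obj (op (A.obj i))) i =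
      Pi.π (fun i : A.I => P.obj (op (A.obj i))) i ≫ ψ.app (op (A.obj i)) := by
    dsimp only [evMap]
    simp only [FormalCoproduct.evalOp_map_app]
    exact Pi.map_π _ _
  exact congrArg (fun m => m.hom x) h

/-- The cochain with given components. -/
noncomputable def mkEv (P : D₀ᵒᵖ ⥤ AddCommGrpCat.{u}) (A : FormalCoproduct.{u} D₀)
    (a : ∀ i : A.I, P.obj (op (A.obj i))) : (Ev P).obj (op A) :=
  (Groth.Agent.Lib.CechSite.piIso (fun i : A.I => P.obj (op (A.obj i)))).inv a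

lemma cmp_mkEv (P : D₀ᵒᵖ ⥤ AddCommGrpCat.{u}) (A : FormalCoproduct.{u} D₀)
    (a : ∀ i : A.I, P.obj (op (A.obj i))) (i : A.I) : cmp P A (mkEv P A a) i = a i :=
  Groth.Agent.Lib.CechSite.piIso_inv_π _ _ i

lemma cmp_zero (P : D₀ᵒᵖ ⥤ AddCommGrpCat.{u}) (A : FormalCoproduct.{u} D₀) (i : A.I) :
    cmp P A 0 i = 0 := map_zero _

lemma cmp_sub (P : D₀ᵒᵖ ⥤ AddCommGrpCat.{u}) (A : FormalCoproduct.{u} D₀)
    (x y : (Ev P).obj (op A)) (i : A.I) : cmp P A (x - y) i = cmp P A x i - cmp P A y i :=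
  map_sub _ x y

end Ev

variable {C : Type u} [SmallCategory C] (J : GrothendieckTopology C) (X : C)
  (K : SimplicialObject (FormalCoproduct.{u} (Over X)))

/-- The restriction of a presheaf to `Over X`. -/
abbrev Pr (P : Cᵒᵖ ⥤ AddCommGrpCat.{u}) : (Over X)ᵒᵖ ⥤ AddCommGrpCat.{u} :=
  (Over.forget X).op ⋙ P

/-- The restriction of a morphism of presheaves to `Over X`. -/
abbrev qr {P Q : Cᵒᵖ ⥤ AddCommGrpCat.{u}} (φ : P ⟶ Q) : Pr X P ⟶ Pr X Q :=
  Functor.whiskerLeft (Over.forget X).op φ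

/-- The map of Čech complexes induced by a morphism of presheaves. -/
noncomputable abbrev Tmap {P Q : Cᵒᵖ ⥤ AddCommGrpCat.{u}} (φ : P ⟶ Q) :
    Hyper.cechCx X K P ⟶ Hyper.cechCx X K Q :=
  (FormalCoproduct.cochainComplexFunctor K).map (qr X φ)

/-- The components of the Čech complex. -/
abbrev A (n : ℕ) : FormalCoproduct.{u} (Over X) := K.obj (op ⦋n⦌)

/-- The differential on elements. -/
noncomputable def dd (P : Cᵒᵖ ⥤ AddCommGrpCat.{u}) (n : ℕ) :
    (Ev (Pr X P)).obj (op (A X K n)) →+ (Ev (Pr X P)).obj (op (A X K (n + 1))) :=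
  ((Hyper.cechCx X K P).d n (n + 1)).hom

/-- The induced map on elements. -/
noncomputable def tm {P Q : Cᵒᵖ ⥤ AddCommGrpCat.{u}} (φ : P ⟶ Q) (n : ℕ) :
    (Ev (Pr X P)).obj (op (A X K n)) →+ (Ev (Pr X Q)).obj (op (A X K n)) :=
  ((Tmap X K φ).f n).hom

lemma dd_dd (P : Cᵒᵖ ⥤ AddCommGrpCat.{u}) (n : ℕ) (x : (Ev (Pr X P)).obj (op (A X K n))) :
    dd X K P (n + 1) (dd X K P n x) = 0 := by
  have h := (Hyper.cechCx X K P).d_comp_d n (n + 1) (n + 2)
  exact congrArg (fun m => m.hom x) h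

lemma tm_dd {P Q : Cᵒᵖ ⥤ AddCommGrpCat.{u}} (φ : P ⟶ Q) (n : ℕ)
    (x : (Ev (Pr X P)).obj (op (A X K n))) :
    tm X K φ (n + 1) (dd X K P n x) = dd X K Q n (tm X K φ n x) := by
  have h := (Tmap X K φ).comm n (n + 1)
  exact (congrArg (fun m => m.hom x) h).symm

lemma cmp_tm {P Q : Cᵒᵖ ⥤ AddCommGrpCat.{u}} (φ : P ⟶ Q) (n : ℕ)
    (x : (Ev (Pr X P)).obj (op (A X K n))) (i : (A X K n).I) :
    cmp (Pr X Q) (A X K n) (tm X K φ n x) i =
      (φ.app (op ((A X K n).obj i).left)).hom (cmp (Pr X P) (A X K n) x i) :=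
  cmp_evMap (qr X φ) (A X K n) x i

section SES

variable {J} {S : ShortComplex (Sheaf J AddCommGrpCat.{u})} (hS : S.ShortExact)

include hS in
lemma tm_f_injective (n : ℕ) : Function.Injective (tm X K S.f.hom n) := by
  haveI := hS.mono_f
  intro x y h
  apply ev_ext
  intro i
  apply Groth.Agent.Lib.CechSite.app_injective S.f ((A X K n).obj i).left
  have h1 := congrArg (fun z => cmp (Pr X S.X₂.obj) (A X K n) z i) h
  simp only [cmp_tm] at h1
  exact h1

include hS in
lemma tm_exact (n : ℕ) (y : (Ev (Pr X S.X₂.obj)).obj (op (A X K n)))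
    (hy : tm X K S.g.hom n y = 0) : ∃ z, tm X K S.f.hom n z = y := by
  haveI := hS.mono_f
  have hex : ∀ i : (A X K n).I, ∃ a : S.X₁.obj.obj (op ((A X K n).obj i).left),
      (S.f.hom.app _).hom a = cmp (Pr X S.X₂.obj) (A X K n) y i := by
    intro i
    apply Groth.Agent.Lib.CechSite.sections_exact S hS.exact inferInstance
    have h1 := congrArg (fun z => cmp (Pr X S.X₃.obj) (A X K n) z i) hy
    simp only [cmp_tm] at h1
    exact h1.trans (cmp_zero _ _ i)
  choose a ha using hex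
  refine ⟨mkEv (Pr X S.X₁.obj) (A X K n) a, ?_⟩
  apply ev_ext
  intro i
  rw [cmp_tm, cmp_mkEv]
  exact ha i

lemma tm_g_f (n : ℕ) (z : (Ev (Pr X S.X₁.obj)).obj (op (A X K n))) :
    tm X K S.g.hom n (tm X K S.f.hom n z) = 0 := by
  apply ev_ext
  intro i
  rw [cmp_tm, cmp_tm, cmp_zero]
  exact Groth.Agent.Lib.CechSite.app_comp_zero S _ _

lemma tm_g_surjective (hsurj : ∀ W : C, Function.Surjective (S.g.hom.app (op W)).hom) (n : ℕ) :
    Function.Surjective (tm X K S.g.hom n) := by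
  intro w
  choose b hb using fun i : (A X K n).I =>
    hsurj ((A X K n).obj i).left (cmp (Pr X S.X₃.obj) (A X K n) w i)
  refine ⟨mkEv (Pr X S.X₂.obj) (A X K n) b, ?_⟩
  apply ev_ext
  intro i
  rw [cmp_tm, cmp_mkEv]
  exact hb i

include hS in
/-- The dimension shifting step. -/
lemma shift (n : ℕ)
    (h1 : ∀ y : (Ev (Pr X S.X₂.obj)).obj (op (A X K (n + 1))),
      dd X K S.X₂.obj (n + 1) y = 0 → ∃ y₀, dd X K S.X₂.obj n y₀ = y)
    (h2 : ∀ w : (Ev (Pr X S.X₃.obj)).obj (op (A X K n)),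
      dd X K S.X₃.obj n w = 0 → ∃ v, dd X K S.X₂.obj n v = 0 ∧ tm X K S.g.hom n v = w)
    (x : (Ev (Pr X S.X₁.obj)).obj (op (A X K (n + 1))))
    (hx : dd X K S.X₁.obj (n + 1) x = 0) : ∃ z, dd X K S.X₁.obj n z = x := by
  have e1 : dd X K S.X₂.obj (n + 1) (tm X K S.f.hom (n + 1) x) = 0 := by
    rw [← tm_dd, hx, map_zero]
  obtain ⟨y, hy⟩ := h1 _ e1
  have e2 : dd X K S.X₃.obj n (tm X K S.g.hom n y) = 0 := by
    rw [← tm_dd, hy, tm_g_f]
  obtain ⟨v, hv1, hv2⟩ := h2 _ e2
  have e3 : tm X K S.g.hom n (y - v) = 0 := by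
    rw [map_sub, hv2, sub_self]
  obtain ⟨z, hz⟩ := tm_exact X K hS n (y - v) e3
  refine ⟨z, ?_⟩
  apply tm_f_injective X K hS (n + 1)
  rw [tm_dd, hz, map_sub, hy, hv1, sub_zero]

end SES

section ResX

/-- Restriction from `X`. -/
noncomputable def rX (P : Cᵒᵖ ⥤ AddCommGrpCat.{u}) :
    P.obj (op X) →+ (Ev (Pr X P)).obj (op (A X K 0)) :=
  (resX X P (A X K 0)).hom

lemma cmp_rX (P : Cᵒᵖ ⥤ AddCommGrpCat.{u}) (s : P.obj (op X)) (i : (A X K 0).I) :
    cmp (Pr X P) (A X K 0) (rX X K P s) i = (P.map ((A X K 0).obj i).hom.op).hom s :=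
  congrArg (fun m => m.hom s) (resX_π X P (A X K 0) i)

lemma dd_rX (P : Cᵒᵖ ⥤ AddCommGrpCat.{u}) (s : P.obj (op X)) :
    dd X K P 0 (rX X K P s) = 0 := by
  have hd : (Hyper.cechCx X K P).d 0 1 =
      (Ev (Pr X P)).map (K.δ (0 : Fin 2)).op - (Ev (Pr X P)).map (K.δ (1 : Fin 2)).op :=
    d01 (Pr X P) K
  have h : resX X P (A X K 0) ≫ (Hyper.cechCx X K P).d 0 1 = 0 := by
    rw [hd, Preadditive.comp_sub]
    erw [resX_map X P (K.δ (0 : Fin 2)), resX_map X P (K.δ (1 : Fin 2))]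
    rw [sub_self]
  exact congrArg (fun m => m.hom s) h

lemma tm_rX {P Q : Cᵒᵖ ⥤ AddCommGrpCat.{u}} (φ : P ⟶ Q) (s : P.obj (op X)) :
    tm X K φ 0 (rX X K P s) = rX X K Q ((φ.app (op X)).hom s) := by
  apply ev_ext
  intro i
  rw [cmp_tm, cmp_rX, cmp_rX]
  have h := φ.naturality ((A X K 0).obj i).hom.op
  exact congrArg (fun m => m.hom s) h

end ResX

section Main

variable [∀ (n : ℕ) (F : (SimplexCategory.Truncated n)ᵒᵖ ⥤ FormalCoproduct.{u} (Over X)),
      (SimplexCategory.Truncated.inclusion n).op.HasRightKanExtension F]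

/-- Exactness of the Čech complex in degree `n + 1`, on elements. -/
def ExactSucc (P : Cᵒᵖ ⥤ AddCommGrpCat.{u}) (n : ℕ) : Prop :=
  ∀ x : (Ev (Pr X P)).obj (op (A X K (n + 1))), dd X K P (n + 1) x = 0 → ∃ z, dd X K P n z = x

lemma exactSucc_iff (P : Cᵒᵖ ⥤ AddCommGrpCat.{u}) (n : ℕ) :
    ExactSucc X K P n ↔ IsZero (Hyper.cechH X K P (n + 1)) := by
  rw [← HomologicalComplex.exactAt_iff_isZero_homology,
    HomologicalComplex.exactAt_iff' _ n (n + 1) (n + 2) (by simp) (by simp),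
    ShortComplex.ab_exact_iff]
  rfl

lemma exactSucc_of_injective (hK : Hyper.IsHypercovering J X K) (I : Sheaf J AddCommGrpCat.{u})
    [Injective I] (n : ℕ) : ExactSucc X K I.obj n := by
  rw [exactSucc_iff]
  haveI := Groth.Agent.Lib.OverShriek.restr_injective X J I
  exact Groth.Agent.Lib.HyperCechInj.isZero_cech_homology (J.over X)
    ((Groth.Agent.Lib.OverShriek.restr X J).obj I) K
    (Groth.Agent.Lib.HyperSiteL.isHypercoveringSite_over J X K hK) n

/-- The class of sheaves all of whose higher cohomology groups on all objects vanish. -/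
def Acyc (F : Sheaf J AddCommGrpCat.{u}) : Prop :=
  ∀ (U : C) (q : ℕ) (ξ : Ext (freeSheaf J U) F (q + 1)), ξ = 0

theorem exactSucc_of_acyc (hK : Hyper.IsHypercovering J X K) (n : ℕ) :
    ∀ F : Sheaf J AddCommGrpCat.{u}, Acyc J F → ExactSucc X K F.obj n := by
  induction n with
  | zero =>
    intro F hF
    let S : ShortComplex (Sheaf J AddCommGrpCat.{u}) :=
      ShortComplex.mk (Injective.ι F) (cokernel.π (Injective.ι F)) (cokernel.condition _)
    have hS : S.ShortExact :=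
      ShortComplex.ShortExact.mk' (ShortComplex.exact_cokernel (Injective.ι F))
        (inferInstanceAs (Mono (Injective.ι F))) (inferInstanceAs (Epi (cokernel.π (Injective.ι F))))
    have hsurj : ∀ W : C, Function.Surjective (S.g.hom.app (op W)).hom := fun W =>
      Groth.Agent.Lib.CechSite.surjective_of_ext1 J W hS (hF W 0)
    intro x hx
    refine shift X K hS 0 (exactSucc_of_injective J X K hK (Injective.under F) 0) ?_ x hx
    intro w hw
    obtain ⟨s, hs⟩ := Groth.Agent.Lib.HyperH0Ex.cech_h0_exists J X K hK S.X₃ w hw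
    obtain ⟨s', hs'⟩ := hsurj X s
    refine ⟨rX X K S.X₂.obj s', dd_rX X K _ s', ?_⟩
    rw [tm_rX, hs']
    exact hs
  | succ m ih =>
    intro F hF
    let S : ShortComplex (Sheaf J AddCommGrpCat.{u}) :=
      ShortComplex.mk (Injective.ι F) (cokernel.π (Injective.ι F)) (cokernel.condition _)
    have hS : S.ShortExact :=
      ShortComplex.ShortExact.mk' (ShortComplex.exact_cokernel (Injective.ι F))
        (inferInstanceAs (Mono (Injective.ι F))) (inferInstanceAs (Epi (cokernel.π (Injective.ι F))))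
    have hsurj : ∀ W : C, Function.Surjective (S.g.hom.app (op W)).hom := fun W =>
      Groth.Agent.Lib.CechSite.surjective_of_ext1 J W hS (hF W 0)
    have hQ : Acyc J S.X₃ := by
      intro U q ξ
      exact Groth.Agent.Lib.CechSite.ext_X₃_eq_zero (freeSheaf J U) hS q
        (fun η => Ext.eq_zero_of_injective η) (fun η => hF U (q + 1) η) ξ
    intro x hx
    refine shift X K hS (m + 1) (exactSucc_of_injective J X K hK (Injective.under F) (m + 1)) ?_ x hx
    intro w hw
    obtain ⟨w₀, hw₀⟩ := ih S.X₃ hQ w hw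
    obtain ⟨w₀', hw₀'⟩ := tm_g_surjective X K hsurj m w₀
    refine ⟨dd X K S.X₂.obj m w₀', dd_dd X K _ m w₀', ?_⟩
    rw [tm_dd, hw₀', hw₀]

theorem main (hK : Hyper.IsHypercovering J X K) (F : Sheaf J AddCommGrpCat.{u})
    (hF : ∀ (U : C) (q : ℕ), Subsingleton (CohSite.HU F (q + 1) U)) (p : ℕ) :
    IsZero (Hyper.cechH X K F.obj (p + 1)) := by
  rw [← exactSucc_iff]
  apply exactSucc_of_acyc J X K hK p F
  intro U q ξ
  haveI := hF U q
  exact Subsingleton.elim (α := CohSite.HU F (q + 1) U) ξ 0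

end Main

end Groth.Agent.Lib.HyperAcyc
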