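import Mathlib
import Groth.Prelude.Def_Hyper
import Groth.Agent.Lib.SRCov_helper4
import Groth.Agent.Lib.HyperPB_lead

set_option autoImplicit false
set_option linter.unusedSimpArgs false
set_option linter.unusedVariables false
set_option linter.unusedSectionVars false
set_option linter.style.longLine false
set_option linter.unnecessarySimpa false
set_option linter.deprecated false
set_option linter.style.haveILetI false
set_option maxHeartbeats 1600000
set_option backward.isDefEq.respectTransparency false
set_option backward.isDefEq.respectTransparency.types false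
set_option backward.defeqAttrib.useBackward true

universe u

noncomputable section

namespace Groth.Agent.Lib.HyperFacesL

open CategoryTheory CategoryTheory.Limits Opposite

variable {C : Type u} [SmallCategory C]

/-- A morphism of formal coproducts admitting a section is an SR-covering. -/
theorem srcov_of_section (J : GrothendieckTopology C) {A B : FormalCoproduct.{u} C} (f : A ⟶ B)
    (s : B ⟶ A) (h : s ≫ f = 𝟙 B) : Hyper.IsSRCovering J f := by
  intro j
  obtain ⟨h2, h3⟩ := (FormalCoproduct.hom_ext_iff' (s ≫ f) (𝟙 B)).1 h j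
  have h2' : f.f (s.f j) = j := h2
  refine J.superset_covering ?_ (J.top_mem _)
  intro Z b _
  refine (Sieve.mem_ofArrows_iff _ _ _).2 ⟨⟨s.f j, h2'⟩, b ≫ s.φ j, ?_⟩
  have h4 : s.φ j ≫ f.φ (s.f j) ≫ eqToHom (congrArg B.obj h2') = 𝟙 _ := by
    have h5 : (s ≫ f).φ j ≫ eqToHom (by rw [h2]) = (𝟙 B : B ⟶ B).φ j := h3
    simpa using h5
  rw [Category.assoc, h4, Category.comp_id]

theorem faces_cov (J : GrothendieckTopology C) (X : C)
    (K : SimplicialObject (FormalCoproduct.{u} (Over X))) (n : ℕ) (i : Fin (n + 2)) :
    Hyper.IsSRCovering (J.over X) (K.δ i) := by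
  by_cases hi : i = Fin.last (n + 1)
  · exact srcov_of_section _ (K.δ i) (K.σ (Fin.last n))
      (K.δ_comp_σ_succ' (by rw [hi, Fin.succ_last]))
  · exact srcov_of_section _ (K.δ i) (K.σ (i.castPred hi))
      (K.δ_comp_σ_self' (Fin.castSucc_castPred i hi).symm)

theorem terms_cover (J : GrothendieckTopology C) (X : C)
    (K : SimplicialObject (FormalCoproduct.{u} (Over X)))
    (h0 : Sieve.ofArrows (fun i => ((K.obj (op (SimplexCategory.mk 0))).obj i).left)
      (fun i => ((K.obj (op (SimplexCategory.mk 0))).obj i).hom) ∈ J X) (n : ℕ) :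
    Sieve.ofArrows (fun i => ((K.obj (op (SimplexCategory.mk n))).obj i).left)
      (fun i => ((K.obj (op (SimplexCategory.mk n))).obj i).hom) ∈ J X := by
  induction n with
  | zero => exact h0
  | succ n ih =>
    exact Groth.Agent.Lib.HyperPBL.cover_of_srcov J X (K.δ (0 : Fin (n + 2)))
      (faces_cov J X K n 0) ih

end Groth.Agent.Lib.HyperFacesL
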