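import Mathlib
import Groth.Prelude.Def_Hyper2
import Groth.Agent.Lib.HyperAcyc_helper7
import Groth.Agent.Lib.Refine_helper7
import Groth.Agent.Lib.ClassKill_helper7
import Groth.Agent.Lib.HyperFaces_lead

set_option autoImplicit false
set_option linter.style.haveILetI false
set_option linter.unusedSectionVars false
set_option linter.unusedVariables false
set_option backward.isDefEq.respectTransparency false
set_option backward.isDefEq.respectTransparency.types false
set_option maxHeartbeats 1600000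

/-! # Element-level calculus of refinements of hypercoverings on Čech cochains -/

universe u

open CategoryTheory CategoryTheory.Limits Opposite Simplicial

namespace Groth.Agent.Lib.CechElH7

open Groth.Agent.Lib.HyperH0L Groth.Agent.Lib.HyperAcyc Groth.Agent.Lib.ClassKillH7

variable {C : Type u} [SmallCategory C] (X : C)

section rf

variable {K L M : SimplicialObject (FormalCoproduct.{u} (Over X))}

/-- the refinement map on cochains. -/
noncomputable def rf (f : L ⟶ K) (P : Cᵒᵖ ⥤ AddCommGrpCat.{u}) (n : ℕ) :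
    (Ev (Pr X P)).obj (op (A X K n)) →+ (Ev (Pr X P)).obj (op (A X L n)) :=
  ((Hyper.cechMap X f P).f n).hom

lemma rf_eq_pb (f : L ⟶ K) (P : Cᵒᵖ ⥤ AddCommGrpCat.{u}) (n : ℕ)
    (x : (Ev (Pr X P)).obj (op (A X K n))) :
    rf X f P n x = pb (Pr X P) (f.app (op ⦋n⦌)) x := rfl

lemma cmp_rf (f : L ⟶ K) (P : Cᵒᵖ ⥤ AddCommGrpCat.{u}) (n : ℕ)
    (x : (Ev (Pr X P)).obj (op (A X K n))) (i' : (A X L n).I) :
    cmp (Pr X P) (A X L n) (rf X f P n x) i' =
      (P.map ((f.app (op ⦋n⦌)).φ i').left.op).hom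
        (cmp (Pr X P) (A X K n) x ((f.app (op ⦋n⦌)).f i')) :=
  cmp_pb (Pr X P) (f.app (op ⦋n⦌)) x i'

lemma rf_dd (f : L ⟶ K) (P : Cᵒᵖ ⥤ AddCommGrpCat.{u}) (n : ℕ)
    (x : (Ev (Pr X P)).obj (op (A X K n))) :
    rf X f P (n + 1) (dd X K P n x) = dd X L P n (rf X f P n x) := by
  have h := (Hyper.cechMap X f P).comm n (n + 1)
  exact (congrArg (fun m => m.hom x) h).symm

lemma rf_comp (f' : M ⟶ L) (f : L ⟶ K) (P : Cᵒᵖ ⥤ AddCommGrpCat.{u}) (n : ℕ)
    (x : (Ev (Pr X P)).obj (op (A X K n))) :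
    rf X (f' ≫ f) P n x = rf X f' P n (rf X f P n x) :=
  pb_comp (Pr X P) (f'.app (op ⦋n⦌)) (f.app (op ⦋n⦌)) x

lemma rf_id (P : Cᵒᵖ ⥤ AddCommGrpCat.{u}) (n : ℕ) (x : (Ev (Pr X P)).obj (op (A X K n))) :
    rf X (𝟙 K) P n x = x := by
  apply ev_ext
  intro i
  rw [cmp_rf]
  show (P.map (𝟙 ((A X K n).obj i).left).op).hom (cmp (Pr X P) (A X K n) x i) = _
  rw [op_id, P.map_id]
  rfl

lemma rf_rX (f : L ⟶ K) (P : Cᵒᵖ ⥤ AddCommGrpCat.{u}) (s : P.obj (op X)) :
    rf X f P 0 (rX X K P s) = rX X L P s := by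
  have h := resX_map X P (f.app (op ⦋0⦌))
  exact congrArg (fun m => m.hom s) h

lemma rf_tm (f : L ⟶ K) {P Q : Cᵒᵖ ⥤ AddCommGrpCat.{u}} (φ : P ⟶ Q) (n : ℕ)
    (x : (Ev (Pr X P)).obj (op (A X K n))) :
    rf X f Q n (tm X K φ n x) = tm X L φ n (rf X f P n x) := by
  apply ev_ext
  intro i'
  rw [cmp_rf, cmp_tm, cmp_tm, cmp_rf]
  have h := φ.naturality ((f.app (op ⦋n⦌)).φ i').left.op
  exact (congrArg (fun m => m.hom (cmp (Pr X P) (A X K n) x ((f.app (op ⦋n⦌)).f i'))) h).symm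

end rf

section Refine

variable [HasPullbacks C] (J : GrothendieckTopology C)
  [∀ (n : ℕ) (F : (SimplexCategory.Truncated n)ᵒᵖ ⥤ Limits.FormalCoproduct.{u} (Over X)),
      (SimplexCategory.Truncated.inclusion n).op.HasRightKanExtension F]
  (K : SimplicialObject (FormalCoproduct.{u} (Over X)))

/-- refinement of a hypercovering along a family of covering sieves on the members of `K_n`. -/
theorem refine_sieves (hK : Hyper.IsHypercovering J X K) (n : ℕ)
    (S : ∀ i : (A X K n).I, Sieve ((A X K n).obj i).left)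
    (hS : ∀ i, S i ∈ J ((A X K n).obj i).left) :
    ∃ (L : SimplicialObject (FormalCoproduct.{u} (Over X))) (f : L ⟶ K),
      Hyper.IsHypercovering J X L ∧
      ∀ i' : (A X L n).I, (S ((f.app (op ⦋n⦌)).f i')).arrows ((f.app (op ⦋n⦌)).φ i').left := by
  let S' : ∀ i : (A X K n).I, Sieve ((A X K n).obj i) := fun i =>
    (Sieve.overEquiv ((A X K n).obj i)).symm (S i)
  have hS' : ∀ i, S' i ∈ (J.over X) ((A X K n).obj i) := fun i =>
    J.overEquiv_symm_mem_over _ _ (hS i)
  obtain ⟨L, f, g', hL, hg'⟩ := Groth.Agent.Lib.RefineH7.main3881 J X K hK n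
    (SZ (A X K n) S') (uS _ S') (srcov_uS (J.over X) _ S' hS')
  refine ⟨L, f, hL, ?_⟩
  intro i'
  have key : ∀ (fp : A X L n ⟶ A X K n) (h : g' ≫ uS _ S' = fp),
      (S (fp.f i')).arrows (fp.φ i').left := by
    intro fp h
    subst h
    show (S (g'.f i').1).arrows (g'.φ i' ≫ (g'.f i').2.2.1).left
    rw [Over.comp_left]
    apply Sieve.downward_closed
    exact (Sieve.overEquiv_symm_iff _ _).1 (g'.f i').2.2.2
  exact key _ hg'

/-- local lifting of cochains along a locally surjective map, after refinement. -/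
theorem refine_lift (hK : Hyper.IsHypercovering J X K) {P P' : Cᵒᵖ ⥤ AddCommGrpCat.{u}}
    (ψ : P ⟶ P') [Presheaf.IsLocallySurjective J ψ] (n : ℕ)
    (w : (Ev (Pr X P')).obj (op (A X K n))) :
    ∃ (L : SimplicialObject (FormalCoproduct.{u} (Over X))) (f : L ⟶ K)
      (_ : Hyper.IsHypercovering J X L) (a : (Ev (Pr X P)).obj (op (A X L n))),
      tm X L ψ n a = rf X f P' n w := by
  obtain ⟨L, f, hL, hf⟩ := refine_sieves X J K hK n
    (fun i => Presheaf.imageSieve ψ (cmp (Pr X P') (A X K n) w i))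
    (fun i => Presheaf.imageSieve_mem J ψ (U := op ((A X K n).obj i).left) _)
  choose t ht using hf
  refine ⟨L, f, hL, mkEv (Pr X P) (A X L n) t, ?_⟩
  apply ev_ext
  intro i'
  rw [cmp_tm, cmp_mkEv, cmp_rf]
  exact ht i'

/-- local vanishing of cochains killed by a locally injective map, after refinement. -/
theorem refine_zero (hK : Hyper.IsHypercovering J X K) {P P' : Cᵒᵖ ⥤ AddCommGrpCat.{u}}
    (ψ : P ⟶ P') [Presheaf.IsLocallyInjective J ψ] (n : ℕ)
    (c : (Ev (Pr X P)).obj (op (A X K n))) (hc : tm X K ψ n c = 0) :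
    ∃ (L : SimplicialObject (FormalCoproduct.{u} (Over X))) (f : L ⟶ K),
      Hyper.IsHypercovering J X L ∧ rf X f P n c = 0 := by
  have hc' : ∀ i, (ψ.app (op ((A X K n).obj i).left)).hom (cmp (Pr X P) (A X K n) c i) =
      (ψ.app (op ((A X K n).obj i).left)).hom 0 := by
    intro i
    have h := congrArg (fun z => cmp (Pr X P') (A X K n) z i) hc
    simp only [cmp_tm] at h
    rw [map_zero]
    exact h.trans (cmp_zero _ _ i)
  obtain ⟨L, f, hL, hf⟩ := refine_sieves X J K hK n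
    (fun i => Presheaf.equalizerSieve (F := P) (X := op ((A X K n).obj i).left)
      (cmp (Pr X P) (A X K n) c i) 0)
    (fun i => Presheaf.equalizerSieve_mem J ψ _ _ (hc' i))
  refine ⟨L, f, hL, ?_⟩
  apply ev_ext
  intro i'
  rw [cmp_rf, cmp_zero]
  have h := hf i'
  have h' : (P.map ((f.app (op ⦋n⦌)).φ i').left.op).hom
      (cmp (Pr X P) (A X K n) c ((f.app (op ⦋n⦌)).f i')) =
      (P.map ((f.app (op ⦋n⦌)).φ i').left.op).hom 0 := h
  rw [h', map_zero]

end Refine

end Groth.Agent.Lib.CechElH7
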