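import Mathlib
import Groth.Prelude.Def_W4c6blochformula0cycCech

set_option autoImplicit false
universe u
open CategoryTheory Opposite TopologicalSpace
open W4c6blochformula0cyc

namespace Groth.Agent.Lib.CechHtpy

variable {X : Type u} [TopologicalSpace X]

theorem res_res (F : (Opens X)ᵒᵖ ⥤ AddCommGrpCat.{u}) {V W Z : Opens X} (h1 : W ≤ V) (h2 : Z ≤ W)
    (x : F.obj (op V)) : res F h2 (res F h1 x) = res F (h2.trans h1) x := by
  have e : (homOfLE h1).op ≫ (homOfLE h2).op = (homOfLE (h2.trans h1)).op := Subsingleton.elim _ _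
  unfold res
  rw [← e, F.map_comp]
  rfl

theorem res_self (F : (Opens X)ᵒᵖ ⥤ AddCommGrpCat.{u}) {V : Opens X} (h : V ≤ V)
    (x : F.obj (op V)) : res F h x = x := by
  have e : (homOfLE h).op = 𝟙 (op V) := Subsingleton.elim _ _
  unfold res
  rw [e, F.map_id]
  rfl

theorem res_congr (F : (Opens X)ᵒᵖ ⥤ AddCommGrpCat.{u}) {ι : Type u} (U : ι → Opens X) {n : ℕ}
    (f : Cochain F U n) {s s' : Fin n → ι} (h : s = s')
    {W : Opens X} (h1 : W ≤ cechOpen U s) (h2 : W ≤ cechOpen U s') :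
    res F h1 (f s) = res F h2 (f s') := by
  subst h; rfl

theorem E_transport (F : (Opens X)ᵒᵖ ⥤ AddCommGrpCat.{u}) {ι : Type u} (U : ι → Opens X)
    (E : ∀ (V : Opens X) (α : ι), F.obj (op (V ⊓ U α)) →+ F.obj (op V))
    {V V' : Opens X} (h : V = V') (α : ι) (g : F.obj (op (V' ⊓ U α))) (h1 : V ≤ V')
    (h2 : V ⊓ U α ≤ V' ⊓ U α) :
    res F h1 (E V' α g) = E V α (res F h2 g) := by
  subst h
  rw [res_self, res_self]

theorem cechOpen_eq {ι : Type u} (U : ι → Opens X) {n : ℕ} (t : Fin (n + 1) → ι) (i : Fin (n + 1)) :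
    cechOpen U t = cechOpen U (t ∘ i.succAbove) ⊓ U (t i) := by
  apply le_antisymm
  · exact le_inf (cechOpen_le_comp U t i) (iInf_le (fun j => U (t j)) i)
  · unfold cechOpen
    refine le_iInf fun j => ?_
    rcases Fin.eq_self_or_eq_succAbove i j with h | ⟨k, h⟩
    · subst h; exact inf_le_right
    · subst h; exact inf_le_left.trans (iInf_le (fun k => U ((t ∘ i.succAbove) k)) k)

theorem res_E (F : (Opens X)ᵒᵖ ⥤ AddCommGrpCat.{u}) {ι : Type u} (U : ι → Opens X)
    (E : ∀ (V : Opens X) (α : ι), F.obj (op (V ⊓ U α)) →+ F.obj (op V))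
    (h3 : ∀ (m : ℕ) (t : Fin (m + 1) → ι) (α β : ι) (g : F.obj (op (cechOpen U t ⊓ U α))),
      res F inf_le_left (E (cechOpen U t) α g) =
        E (cechOpen U t ⊓ U β) α (res F (inf_le_inf_right (U α) inf_le_left) g))
    {n : ℕ} (t : Fin (n + 2) → ι) (i : Fin (n + 2)) (α : ι)
    (g : F.obj (op (cechOpen U (t ∘ i.succAbove) ⊓ U α)))
    (hle : cechOpen U t ⊓ U α ≤ cechOpen U (t ∘ i.succAbove) ⊓ U α) :
    res F (cechOpen_le_comp U t i) (E (cechOpen U (t ∘ i.succAbove)) α g)
      = E (cechOpen U t) α (res F hle g) := by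
  have hV := cechOpen_eq U t i
  calc res F (cechOpen_le_comp U t i) (E (cechOpen U (t ∘ i.succAbove)) α g)
      = res F hV.le (res F inf_le_left (E (cechOpen U (t ∘ i.succAbove)) α g)) :=
        (res_res F _ _ _).symm
    _ = res F hV.le (E (cechOpen U (t ∘ i.succAbove) ⊓ U (t i)) α
          (res F (inf_le_inf_right (U α) inf_le_left) g)) := by
        rw [h3 n (t ∘ i.succAbove) α (t i) g]
    _ = E (cechOpen U t) α (res F (inf_le_inf_right _ hV.le)
          (res F (inf_le_inf_right (U α) inf_le_left) g)) :=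
        E_transport F U E hV α _ _ _
    _ = E (cechOpen U t) α (res F hle g) := by rw [res_res]

theorem main {ι : Type u} [Fintype ι] (F : (Opens X)ᵒᵖ ⥤ AddCommGrpCat.{u}) (U : ι → Opens X)
    (E : ∀ (V : Opens X) (α : ι), F.obj (op (V ⊓ U α)) →+ F.obj (op V))
    (h2 : ∀ (m : ℕ) (t : Fin (m + 1) → ι) (f : F.obj (op (cechOpen U t))),
      ∑ α, E (cechOpen U t) α (res F inf_le_left f) = f)
    (h3 : ∀ (m : ℕ) (t : Fin (m + 1) → ι) (α β : ι) (g : F.obj (op (cechOpen U t ⊓ U α))),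
      res F inf_le_left (E (cechOpen U t) α g) =
        E (cechOpen U t ⊓ U β) α (res F (inf_le_inf_right (U α) inf_le_left) g))
    (n : ℕ) (f : Cochain F U (n + 2)) :
    homotopy F U E (n + 2) (delta F U (n + 2) f) + delta F U (n + 1) (homotopy F U E (n + 1) f) = f := by
  funext t
  have hY : ∀ (α : ι) (i : Fin (n + 2)),
      cechOpen U t ⊓ U α ≤ cechOpen U (Fin.cons α (t ∘ i.succAbove) : Fin (n + 2) → ι) :=
    fun α i => (inf_le_inf_right _ (cechOpen_le_comp U t i)).trans
      (inf_le_cechOpen_cons U (t ∘ i.succAbove) α)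
  obtain ⟨Y, hY'⟩ : ∃ Y : ι → Fin (n + 2) → F.obj (op (cechOpen U t)), ∀ α i,
      Y α i = E (cechOpen U t) α (res F (hY α i) (f (Fin.cons α (t ∘ i.succAbove)))) :=
    ⟨_, fun _ _ => rfl⟩
  have A : (homotopy F U E (n + 2) (delta F U (n + 2) f)) t
      = f t + ∑ α, ∑ i : Fin (n + 2), ((-1 : ℤ) ^ ((i : ℕ) + 1)) • Y α i := by
    show ∑ α : ι, E (cechOpen U t) α (res F (inf_le_cechOpen_cons U t α)
      ((delta F U (n + 2) f) (Fin.cons α t))) = _
    have step : ∀ α : ι, E (cechOpen U t) α (res F (inf_le_cechOpen_cons U t α)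
        ((delta F U (n + 2) f) (Fin.cons α t)))
        = E (cechOpen U t) α (res F inf_le_left (f t))
          + ∑ i : Fin (n + 2), ((-1 : ℤ) ^ ((i : ℕ) + 1)) • Y α i := by
      intro α
      show E (cechOpen U t) α (res F (inf_le_cechOpen_cons U t α)
        (∑ j : Fin (n + 2 + 1), ((-1 : ℤ) ^ (j : ℕ)) •
          res F (cechOpen_le_comp U (Fin.cons α t) j)
            (f ((Fin.cons α t : Fin (n + 2 + 1) → ι) ∘ j.succAbove)))) = _
      rw [Fin.sum_univ_succ, map_add, map_add, map_sum, map_sum]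
      congr 1
      · have hs0 : ((Fin.cons α t : Fin (n + 2 + 1) → ι) ∘ (0 : Fin (n + 2 + 1)).succAbove) = t := by
          funext k; simp
        simp only [Fin.val_zero, pow_zero, one_smul]
        rw [res_res]
        exact congrArg (fun z => E (cechOpen U t) α z) (res_congr F U f hs0 _ _)
      · refine Finset.sum_congr rfl fun i _ => ?_
        have hs : ((Fin.cons α t : Fin (n + 2 + 1) → ι) ∘ i.succ.succAbove)
            = Fin.cons α (t ∘ i.succAbove) := by
          funext k; refine Fin.cases ?_ (fun l => ?_) k <;> simp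
        rw [map_zsmul, map_zsmul, res_res, hY' α i, Fin.val_succ,
          res_congr F U f hs _ (hY α i)]
    rw [Finset.sum_congr rfl fun α _ => step α, Finset.sum_add_distrib, h2 (n + 1) t (f t)]
  have B : (delta F U (n + 1) (homotopy F U E (n + 1) f)) t
      = ∑ i : Fin (n + 2), ((-1 : ℤ) ^ (i : ℕ)) • ∑ α, Y α i := by
    show ∑ j : Fin (n + 1 + 1), ((-1 : ℤ) ^ (j : ℕ)) •
      res F (cechOpen_le_comp U t j) ((homotopy F U E (n + 1) f) (t ∘ j.succAbove)) = _
    refine Finset.sum_congr rfl fun i _ => ?_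
    congr 1
    show res F (cechOpen_le_comp U t i) (∑ α : ι, E (cechOpen U (t ∘ i.succAbove)) α
      (res F (inf_le_cechOpen_cons U (t ∘ i.succAbove) α) (f (Fin.cons α (t ∘ i.succAbove))))) = _
    rw [map_sum]
    refine Finset.sum_congr rfl fun α _ => ?_
    rw [res_E F U E h3 t i α _ (inf_le_inf_right _ (cechOpen_le_comp U t i)), res_res, hY' α i]
  show (homotopy F U E (n + 2) (delta F U (n + 2) f)) t
    + (delta F U (n + 1) (homotopy F U E (n + 1) f)) t = f t
  rw [A, B, add_assoc]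
  conv_rhs => rw [← add_zero (f t)]
  congr 1
  rw [Finset.sum_comm, ← Finset.sum_add_distrib]
  refine Finset.sum_eq_zero fun i _ => ?_
  rw [Finset.smul_sum, ← Finset.sum_add_distrib]
  refine Finset.sum_eq_zero fun α _ => ?_
  rw [pow_succ, mul_neg_one, neg_smul, neg_add_cancel]

end Groth.Agent.Lib.CechHtpy
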