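import Mathlib
import Groth.Agent.Lib.GorHull_helper7
import Groth.Agent.Lib.CM_helper5
import Groth.Agent.Lib.CMSeq_helper5

/-!
# The top Čech module of a system of parameters of a Gorenstein local ring is an injective hull
of the residue field (helper5)

`recog`: a module presented like the top Čech module (generators `e N`, `t • e (N+1) = e N`,
annihilators given by the power criterion) is an injective hull of `k`; induction on the dimension
through helper7's `hull_of_quot` applied to the `x_0`-torsion.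
-/

set_option autoImplicit false
universe u

open IsLocalRing CategoryTheory RingTheory.Sequence Pointwise

namespace Groth.Agent.Lib.CechHullH5

open Groth.Agent.DepthLib

/-- a module presented like the top Čech module: generators `e N` with `t • e (N+1) = e N` and the
annihilator of `e N` given by the power criterion. -/
structure IsCechLike {R : Type u} [CommRing R] {d : ℕ} (x : Fin d → R) (H : Type u)
    [AddCommGroup H] [Module R H] (e : ℕ → H) : Prop where
  gen : ∀ y : H, ∃ (N : ℕ) (a : R), y = a • e N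
  step : ∀ N, (∏ i, x i) • e (N + 1) = e N
  ann : ∀ (N : ℕ) (a : R), a • e N = 0 ↔
    ∃ M : ℕ, (∏ i, x i) ^ M * a ∈ Ideal.span (Set.range fun i => x i ^ (N + M + 1))

section Alg

variable {R : Type u} [CommRing R]

/-- splitting off the first generator -/
theorem span_range_succ {n : ℕ} (g : Fin (n + 1) → R) :
    Ideal.span (Set.range g) = Ideal.span {g 0} ⊔ Ideal.span (Set.range fun i : Fin n => g i.succ) := by
  apply le_antisymm
  · rw [Ideal.span_le]
    rintro _ ⟨i, rfl⟩
    refine Fin.cases ?_ (fun j => ?_) i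
    · exact Ideal.mem_sup_left (Ideal.subset_span rfl)
    · exact Ideal.mem_sup_right (Ideal.subset_span ⟨j, rfl⟩)
  · rw [sup_le_iff, Ideal.span_le, Ideal.span_le]
    constructor
    · rintro _ rfl
      exact Ideal.subset_span ⟨0, rfl⟩
    · rintro _ ⟨j, rfl⟩
      exact Ideal.subset_span ⟨j.succ, rfl⟩

/-- the colon computation: if `f` is a nonzerodivisor modulo `J` then
`f^m c ∈ (f^(m+1)) + J ↔ c ∈ (f) + J`. -/
theorem colon_pow (f : R) (J : Ideal R) (hreg : ∀ c, f * c ∈ J → c ∈ J) (m : ℕ) (c : R) :
    f ^ m * c ∈ Ideal.span {f ^ (m + 1)} ⊔ J ↔ c ∈ Ideal.span {f} ⊔ J := by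
  have hregm : ∀ (k : ℕ) (c : R), f ^ k * c ∈ J → c ∈ J := by
    intro k
    induction k with
    | zero => intro c hc; simpa using hc
    | succ k ih =>
      intro c hc
      apply hreg
      apply ih
      rw [← mul_assoc, ← pow_succ]
      exact hc
  constructor
  · intro h
    obtain ⟨y, hy, s, hs, hys⟩ := Submodule.mem_sup.1 h
    obtain ⟨r, rfl⟩ := Ideal.mem_span_singleton'.1 hy
    have h1 : f ^ m * (c - f * r) ∈ J := by
      have : f ^ m * (c - f * r) = s := by
        rw [mul_sub, ← hys]
        ring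
      rw [this]
      exact hs
    have h2 := hregm m _ h1
    have : c = r * f + (c - f * r) := by ring
    rw [this]
    exact Ideal.add_mem _ (Ideal.mem_sup_left (Ideal.mem_span_singleton'.2 ⟨r, rfl⟩))
      (Ideal.mem_sup_right h2)
  · intro h
    obtain ⟨y, hy, s, hs, rfl⟩ := Submodule.mem_sup.1 h
    obtain ⟨r, rfl⟩ := Ideal.mem_span_singleton'.1 hy
    have : f ^ m * (r * f + s) = r * f ^ (m + 1) + f ^ m * s := by ring
    rw [this]
    exact Ideal.add_mem _ (Ideal.mem_sup_left (Ideal.mem_span_singleton'.2 ⟨r, rfl⟩))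
      (Ideal.mem_sup_right (J.mul_mem_left _ hs))

end Alg

section Tors

variable {R : Type u} [CommRing R] {d : ℕ} {x : Fin d → R} {H : Type u} [AddCommGroup H]
  [Module R H] {e : ℕ → H}

theorem IsCechLike.smul_eq_zero_of_mem (hC : IsCechLike x H e) (N : ℕ) (a : R)
    (ha : a ∈ Ideal.span (Set.range fun i => x i ^ (N + 1))) : a • e N = 0 :=
  (hC.ann N a).2 ⟨0, by simpa using ha⟩

theorem IsCechLike.pow_step (hC : IsCechLike x H e) (N M : ℕ) :
    (∏ i, x i) ^ M • e (N + M) = e N := by
  induction M with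
  | zero => simp
  | succ M ih =>
    rw [pow_succ, mul_smul, ← add_assoc, hC.step, ih]

end Tors

section Tors2

variable {R : Type u} [CommRing R] {n : ℕ} {x : Fin (n + 1) → R} {H : Type u} [AddCommGroup H]
  [Module R H] {e : ℕ → H}

theorem IsCechLike.pow_smul_mem (hC : IsCechLike x H e) (N : ℕ) :
    x 0 ^ N • e N ∈ Submodule.torsionBy R H (x 0) := by
  rw [Submodule.mem_torsionBy_iff, ← mul_smul, ← pow_succ']
  exact hC.smul_eq_zero_of_mem N _ (Ideal.subset_span ⟨0, rfl⟩)

/-- the induced generators of the `x_0`-torsion -/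
def ebar (hC : IsCechLike x H e) (N : ℕ) : ↥(Submodule.torsionBy R H (x 0)) :=
  ⟨x 0 ^ N • e N, hC.pow_smul_mem N⟩

theorem prod_eq (x : Fin (n + 1) → R) : ∏ i, x i = x 0 * ∏ i : Fin n, x i.succ :=
  Fin.prod_univ_succ x

theorem isCechLike_torsion (hC : IsCechLike x H e)
    (hreg : ∀ (K : ℕ) (c : R),
      x 0 * c ∈ Ideal.span (Set.range fun i : Fin n => x i.succ ^ (K + 1)) →
      c ∈ Ideal.span (Set.range fun i : Fin n => x i.succ ^ (K + 1))) :
    IsCechLike (fun i : Fin n => Ideal.Quotient.mk (Ideal.span {x 0}) (x i.succ))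
      ↥(Submodule.torsionBy R H (x 0)) (ebar hC) := by
  set f := x 0 with hf
  set t' := ∏ i : Fin n, x i.succ with ht'
  have ht : ∏ i, x i = f * t' := prod_eq x
  have hprod : ∏ i : Fin n, Ideal.Quotient.mk (Ideal.span {f}) (x i.succ) =
      Ideal.Quotient.mk (Ideal.span {f}) t' := (map_prod _ _ _).symm
  have hspan : ∀ K : ℕ, Ideal.span (Set.range fun i : Fin (n + 1) => x i ^ (K + 1)) =
      Ideal.span {f ^ (K + 1)} ⊔ Ideal.span (Set.range fun i : Fin n => x i.succ ^ (K + 1)) :=
    fun K => span_range_succ (fun i : Fin (n + 1) => x i ^ (K + 1))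
  have hmap : ∀ K : ℕ, Ideal.span (Set.range fun i : Fin n =>
      Ideal.Quotient.mk (Ideal.span {f}) (x i.succ) ^ (K + 1)) =
      (Ideal.span (Set.range fun i : Fin n => x i.succ ^ (K + 1))).map
        (Ideal.Quotient.mk (Ideal.span {f})) := by
    intro K
    rw [Ideal.map_span, ← Set.range_comp]
    simp only [Function.comp_def, map_pow]
  refine ⟨?_, ?_, ?_⟩
  · -- generation
    rintro ⟨y, hy⟩
    obtain ⟨N, a, rfl⟩ := hC.gen y
    rw [Submodule.mem_torsionBy_iff, ← mul_smul] at hy
    obtain ⟨M, hM⟩ := (hC.ann N (f * a)).1 hy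
    rw [hspan, ht] at hM
    -- `f^(M+1) * (t'^M a) ∈ (f^(N+M+1)) + J`
    obtain ⟨y1, hy1, s, hs, hys⟩ := Submodule.mem_sup.1 hM
    obtain ⟨r, rfl⟩ := Ideal.mem_span_singleton'.1 hy1
    have hregm : ∀ (k : ℕ) (c : R),
        f ^ k * c ∈ Ideal.span (Set.range fun i : Fin n => x i.succ ^ (N + M + 1)) →
        c ∈ Ideal.span (Set.range fun i : Fin n => x i.succ ^ (N + M + 1)) := by
      intro k
      induction k with
      | zero => intro c hc; simpa using hc
      | succ k ih =>
        intro c hc
        apply hreg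
        apply ih
        rw [← mul_assoc, ← pow_succ]
        exact hc
    have h1 : f ^ (M + 1) * (t' ^ M * a - f ^ N * r) ∈
        Ideal.span (Set.range fun i : Fin n => x i.succ ^ (N + M + 1)) := by
      have : f ^ (M + 1) * (t' ^ M * a - f ^ N * r) = s := by
        have : s = (f * t') ^ M * (f * a) - r * f ^ (N + M + 1) := by rw [← hys]; ring
        rw [this]
        ring
      rw [this]
      exact hs
    have h2 := hregm (M + 1) _ h1
    refine ⟨N + M, Ideal.Quotient.mk _ r, ?_⟩
    apply Subtype.ext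
    show a • e N = r • (f ^ (N + M) • e (N + M))
    have h3 : (t' ^ M * a - f ^ N * r) • e (N + M) = 0 :=
      hC.smul_eq_zero_of_mem (N + M) _ (by
        rw [hspan]
        exact Ideal.mem_sup_right h2)
    have h4 : a • e N = (f ^ M * (t' ^ M * a)) • e (N + M) := by
      rw [← hC.pow_step N M, ht, ← mul_smul]
      congr 1
      ring
    have h5 : f ^ M * (t' ^ M * a) = f ^ M * (t' ^ M * a - f ^ N * r) + r * f ^ (N + M) := by ring
    rw [h4, h5, add_smul, mul_smul, h3, smul_zero, zero_add, mul_smul]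
  · -- step
    intro N
    apply Subtype.ext
    rw [hprod]
    show t' • (f ^ (N + 1) • e (N + 1)) = f ^ N • e N
    rw [← hC.step N, ht, ← mul_smul, ← mul_smul]
    congr 1
    ring
  · -- annihilators
    intro N abar
    obtain ⟨a, rfl⟩ := Ideal.Quotient.mk_surjective abar
    have hL : Ideal.Quotient.mk (Ideal.span {f}) a • ebar hC N = 0 ↔ (a * f ^ N) • e N = 0 := by
      rw [← Subtype.coe_inj]
      show a • (f ^ N • e N) = 0 ↔ _
      rw [mul_smul]
    rw [hL, hC.ann]
    refine exists_congr fun M => ?_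
    rw [hprod, hmap, ← map_pow, ← map_mul, Ideal.mem_quotient_iff_mem_sup, hspan, ht]
    have key := colon_pow f (Ideal.span (Set.range fun i : Fin n => x i.succ ^ (N + M + 1)))
      (hreg (N + M)) (N + M) (t' ^ M * a)
    rw [sup_comm (Ideal.span (Set.range fun i : Fin n => x i.succ ^ (N + M + 1)))]
    rw [← key]
    have : (f * t') ^ M * (a * f ^ N) = f ^ (N + M) * (t' ^ M * a) := by ring
    rw [this]

end Tors2

section Reg

variable {R : Type u} [CommRing R] [IsLocalRing R] [IsNoetherianRing R]

/-- an ideal with radical the maximal ideal has a zero-dimensional quotient -/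
theorem ringKrullDim_quotient_eq_zero_of_radical (I : Ideal R)
    (hI : I.radical = maximalIdeal R) : ringKrullDim (R ⧸ I) = 0 := by
  have hne : I ≠ ⊤ := by
    intro h
    rw [h, Ideal.radical_top] at hI
    exact (Ideal.IsPrime.ne_top (inferInstance : (maximalIdeal R).IsPrime)) hI.symm
  haveI : Nontrivial (R ⧸ I) := Ideal.Quotient.nontrivial_iff.2 hne
  haveI : Ring.KrullDimLE 0 (R ⧸ I) := by
    rw [Ring.krullDimLE_zero_iff]
    intro P hP
    have h1 : I ≤ P.comap (Ideal.Quotient.mk I) := by
      intro a ha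
      rw [Ideal.mem_comap, Ideal.Quotient.eq_zero_iff_mem.2 ha]
      exact P.zero_mem
    haveI : (P.comap (Ideal.Quotient.mk I)).IsPrime := Ideal.comap_isPrime _ P
    have h2 : maximalIdeal R ≤ P.comap (Ideal.Quotient.mk I) := by
      rw [← hI]
      exact (Ideal.IsPrime.radical_le_iff inferInstance).2 h1
    have h3 : P.comap (Ideal.Quotient.mk I) = maximalIdeal R :=
      ((maximalIdeal.isMaximal R).eq_of_le (Ideal.IsPrime.ne_top inferInstance) h2).symm
    have h4 : (P.comap (Ideal.Quotient.mk I)).IsMaximal := h3 ▸ maximalIdeal.isMaximal R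
    have h5 := Ideal.map_comap_of_surjective (Ideal.Quotient.mk I) Ideal.Quotient.mk_surjective P
    rw [← h5]
    exact Ideal.map_eq_top_or_isMaximal_of_surjective _ Ideal.Quotient.mk_surjective h4
      |>.resolve_left (by rw [h5]; exact hP.ne_top)
  exact ringKrullDimZero_iff_ringKrullDim_eq_zero.1 inferInstance
    

/-- the ideal generated by a list given by a function on `Fin n` -/
theorem ofList_ofFn {n : ℕ} (g : Fin n → R) :
    Ideal.ofList (List.ofFn g) = Ideal.span (Set.range g) := by
  unfold Ideal.ofList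
  congr 1
  ext r
  simp only [Set.mem_ofPred_eq, List.mem_ofFn, Set.mem_range]

/-- In a CM local ring with a system of parameters `x_0, …, x_n`: `x_0` is a nonzerodivisor modulo
`(x_1^K, …, x_n^K)`. -/
theorem regular_mod_powers (hCM : LocCoh.IsCohenMacaulayModule R R) {n : ℕ} (x : Fin (n + 1) → R)
    (hx : (Ideal.span (Set.range x)).radical = maximalIdeal R)
    (hdim : ringKrullDim R = ((n + 1 : ℕ) : WithBot ℕ∞)) (K : ℕ) (c : R)
    (hc : x 0 * c ∈ Ideal.span (Set.range fun i : Fin n => x i.succ ^ (K + 1))) :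
    c ∈ Ideal.span (Set.range fun i : Fin n => x i.succ ^ (K + 1)) := by
  set g : Fin n → R := fun i => x i.succ ^ (K + 1) with hg
  set L : List R := List.ofFn g with hL
  have hxm : ∀ i, x i ∈ maximalIdeal R := by
    intro i
    rw [← hx]
    exact Ideal.le_radical (Ideal.subset_span ⟨i, rfl⟩)
  have hmem : ∀ r ∈ L ++ [x 0], r ∈ maximalIdeal R := by
    intro r hr
    rw [List.mem_append, List.mem_ofFn, List.mem_singleton] at hr
    rcases hr with ⟨i, rfl⟩ | rfl
    · exact Ideal.pow_mem_of_mem _ (hxm _) _ (Nat.succ_pos K)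
    · exact hxm 0
  have hrad : (Ideal.ofList (L ++ [x 0])).radical = maximalIdeal R := by
    apply le_antisymm
    · rw [Ideal.IsPrime.radical_le_iff inferInstance, Ideal.span_le]
      exact fun r hr => hmem r hr
    · rw [← hx]
      apply Ideal.radical_le_radical_iff.2
      rw [Ideal.span_le]
      rintro _ ⟨i, rfl⟩
      refine Fin.cases ?_ (fun j => ?_) i
      · apply Ideal.le_radical
        apply Ideal.subset_span
        simp
      · refine ⟨K + 1, ?_⟩
        apply Ideal.subset_span
        show x j.succ ^ (K + 1) ∈ L ++ [x 0]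
        rw [List.mem_append, List.mem_ofFn]
        exact Or.inl ⟨j, rfl⟩
  have h1 := (isCM_list (L ++ [x 0]) R hCM hmem).1
  have h2 : IsWeaklyRegular R (L ++ [x 0]) := by
    rw [h1, supportDim_quot_smul_top_self, ringKrullDim_quotient_eq_zero_of_radical _ hrad,
      Module.supportDim_self_eq_ringKrullDim, hdim, zero_add, List.length_append, List.length_ofFn,
      List.length_singleton]
  rw [isWeaklyRegular_append_iff, isWeaklyRegular_singleton_iff] at h2
  have h3 := h2.2
  have h4 : (Submodule.Quotient.mk c : R ⧸ (Ideal.ofList L • (⊤ : Submodule R R))) = 0 := by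
    apply h3
    show x 0 • (Submodule.Quotient.mk c : R ⧸ (Ideal.ofList L • (⊤ : Submodule R R))) = x 0 • 0
    rw [smul_zero, ← Submodule.Quotient.mk_smul, Submodule.Quotient.mk_eq_zero, ideal_smul_top_self,
      ofList_ofFn]
    exact hc
  rw [Submodule.Quotient.mk_eq_zero, ideal_smul_top_self, ofList_ofFn] at h4
  exact h4


/-- the first element of a system of parameters of a CM local ring is a nonzerodivisor -/
theorem regular_first (hCM : LocCoh.IsCohenMacaulayModule R R) {n : ℕ} (x : Fin (n + 1) → R)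
    (hx : (Ideal.span (Set.range x)).radical = maximalIdeal R)
    (hdim : ringKrullDim R = ((n + 1 : ℕ) : WithBot ℕ∞)) : IsSMulRegular R (x 0) := by
  have hxm : ∀ i, x i ∈ maximalIdeal R := by
    intro i
    rw [← hx]
    exact Ideal.le_radical (Ideal.subset_span ⟨i, rfl⟩)
  have hmem : ∀ r ∈ List.ofFn x, r ∈ maximalIdeal R := by
    intro r hr
    rw [List.mem_ofFn] at hr
    obtain ⟨i, rfl⟩ := hr
    exact hxm i
  have h1 := (isCM_list (List.ofFn x) R hCM hmem).1
  have h2 : IsWeaklyRegular R (List.ofFn x) := by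
    rw [h1, supportDim_quot_smul_top_self, ofList_ofFn,
      ringKrullDim_quotient_eq_zero_of_radical _ hx,
      Module.supportDim_self_eq_ringKrullDim, hdim, zero_add, List.length_ofFn]
  rw [List.ofFn_succ, isWeaklyRegular_cons_iff] at h2
  exact h2.1

theorem mk_mem_maximalIdeal (f : R) [IsLocalRing (R ⧸ Ideal.span {f})] (r : R) :
    Ideal.Quotient.mk (Ideal.span {f}) r ∈ maximalIdeal (R ⧸ Ideal.span {f}) ↔
      r ∈ maximalIdeal R := by
  haveI : IsLocalHom (Ideal.Quotient.mk (Ideal.span {f})) :=
    IsLocalHom.of_surjective _ Ideal.Quotient.mk_surjective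
  rw [mem_maximalIdeal, mem_maximalIdeal, mem_nonunits_iff, mem_nonunits_iff, not_iff_not]
  exact isUnit_map_iff (Ideal.Quotient.mk (Ideal.span {f})) r

theorem radical_bar {n : ℕ} (x : Fin (n + 1) → R)
    (hx : (Ideal.span (Set.range x)).radical = maximalIdeal R)
    [IsLocalRing (R ⧸ Ideal.span {x 0})] :
    (Ideal.span (Set.range fun i : Fin n =>
      Ideal.Quotient.mk (Ideal.span {x 0}) (x i.succ))).radical =
      maximalIdeal (R ⧸ Ideal.span {x 0}) := by
  have hxm : ∀ i, x i ∈ maximalIdeal R := by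
    intro i
    rw [← hx]
    exact Ideal.le_radical (Ideal.subset_span ⟨i, rfl⟩)
  apply le_antisymm
  · rw [Ideal.IsPrime.radical_le_iff inferInstance, Ideal.span_le]
    rintro _ ⟨i, rfl⟩
    exact (mk_mem_maximalIdeal (x 0) _).2 (hxm _)
  · intro abar habar
    obtain ⟨a, rfl⟩ := Ideal.Quotient.mk_surjective abar
    have ha : a ∈ maximalIdeal R := (mk_mem_maximalIdeal (x 0) a).1 habar
    rw [← hx] at ha
    obtain ⟨k, hk⟩ := ha
    refine ⟨k, ?_⟩
    rw [span_range_succ, sup_comm] at hk
    have h1 : Ideal.span (Set.range fun i : Fin n =>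
        Ideal.Quotient.mk (Ideal.span {x 0}) (x i.succ)) =
        (Ideal.span (Set.range fun i : Fin n => x i.succ)).map
          (Ideal.Quotient.mk (Ideal.span {x 0})) := by
      rw [Ideal.map_span, ← Set.range_comp]
      rfl
    rw [h1, ← map_pow, Ideal.mem_quotient_iff_mem_sup]
    exact hk

open Groth.Agent.Lib.GorHullH7 in
theorem recog_zero (hinj : ∃ N, HasInjectiveDimensionLT (ModuleCat.of R R) N)
    (hdim : ringKrullDim R = ((0 : ℕ) : WithBot ℕ∞)) (x : Fin 0 → R)
    (H : Type u) [AddCommGroup H] [Module R H] (e : ℕ → H) (hC : IsCechLike x H e) :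
    ∃ g : ResidueField R →ₗ[R] H, InjHull.IsInjectiveHull g := by
  have h1 := Groth.Agent.Gor.injDim_le_dim_local R hinj 0 (by rw [hdim]; rfl)
  haveI : Injective (ModuleCat.of R R) := injective_iff_hasInjectiveDimensionLT_one.2 h1
  haveI : Module.Injective R R := Module.injective_module_of_injective_object R R
  have hdim0 : ringKrullDim R = 0 := by rw [hdim]; rfl
  obtain ⟨y, hy⟩ := exists_socleGen_of_injective R hdim0
  have hall : ∀ N, e N = e 0 := by
    intro N
    induction N with
    | zero => rfl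
    | succ N ih =>
      have := hC.step N
      rw [Fin.prod_univ_zero, one_smul] at this
      rw [this, ih]
  let φ : R →ₗ[R] H := LinearMap.toSpanSingleton R H (e 0)
  have hφinj : Function.Injective φ := by
    rw [← LinearMap.ker_eq_bot, LinearMap.ker_eq_bot']
    intro a ha
    have ha' : a • e 0 = 0 := ha
    obtain ⟨M, hM⟩ := (hC.ann 0 a).1 ha'
    rw [Fin.prod_univ_zero, one_pow, one_mul, Set.range_eq_empty, Ideal.span_empty,
      Ideal.mem_bot] at hM
    exact hM
  have hφsurj : Function.Surjective φ := by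
    intro z
    obtain ⟨N, a, rfl⟩ := hC.gen z
    exact ⟨a, by rw [hall N]; rfl⟩
  exact hull_of_equiv (LinearEquiv.ofBijective φ ⟨hφinj, hφsurj⟩).symm hy

end Reg

section Main

open Groth.Agent.Lib.GorHullH7 in
/-- **Recognition theorem**: over a Gorenstein local ring with a system of parameters `x`, a module
presented like the top Čech module of `x` is an injective hull of the residue field. -/
theorem recog : ∀ (d : ℕ) (R : Type u) [CommRing R] [IsLocalRing R] [IsNoetherianRing R],
    (∃ N, HasInjectiveDimensionLT (ModuleCat.of R R) N) →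
    ringKrullDim R = ((d : ℕ) : WithBot ℕ∞) →
    ∀ (x : Fin d → R), (Ideal.span (Set.range x)).radical = maximalIdeal R →
    ∀ (H : Type u) [AddCommGroup H] [Module R H] (e : ℕ → H), IsCechLike x H e →
    ∃ g : ResidueField R →ₗ[R] H, InjHull.IsInjectiveHull g := by
  intro d
  induction d with
  | zero =>
    intro R _ _ _ hinj hdim x _ H _ _ e hC
    exact recog_zero hinj hdim x H e hC
  | succ n ih =>
    intro R _ _ _ hinj hdim x hx H _ _ e hC
    obtain ⟨t, ht⟩ := Groth.Agent.Gor.depth_exists R
    have h2 := Groth.Agent.Gor.dim_eq_depth t R hinj ht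
    have hCM : LocCoh.IsCohenMacaulayModule R R := by
      unfold LocCoh.IsCohenMacaulayModule LocCoh.depth
      rw [Module.supportDim_self_eq_ringKrullDim, h2, ht]
    have hxm : ∀ i, x i ∈ maximalIdeal R := by
      intro i
      rw [← hx]
      exact Ideal.le_radical (Ideal.subset_span ⟨i, rfl⟩)
    have hfm : x 0 ∈ maximalIdeal R := hxm 0
    have hfreg : IsSMulRegular R (x 0) := regular_first hCM x hx hdim
    have hspan : Ideal.span {x 0} ≠ ⊤ := by
      intro h
      have h3 : Ideal.span {x 0} ≤ maximalIdeal R :=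
        (Ideal.span_singleton_le_iff_mem _).2 hfm
      rw [h] at h3
      exact (Ideal.IsPrime.ne_top (inferInstance : (maximalIdeal R).IsPrime)) (top_le_iff.1 h3)
    haveI : Nontrivial (R ⧸ Ideal.span {x 0}) := Ideal.Quotient.nontrivial_iff.2 hspan
    haveI : IsLocalRing (R ⧸ Ideal.span {x 0}) :=
      IsLocalRing.of_surjective' (Ideal.Quotient.mk _) Ideal.Quotient.mk_surjective
    obtain ⟨N, hN⟩ := hinj
    have hinjb := Groth.Agent.Gor.injDim_quot (x 0) hfreg N hN
    have hdimb : ringKrullDim (R ⧸ Ideal.span {x 0}) = ((n : ℕ) : WithBot ℕ∞) := by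
      have h5 := ringKrullDim_quotient_span_singleton_succ_eq_ringKrullDim hfreg hfm
      rw [hdim] at h5
      exact add_one_cancel (by exact_mod_cast h5)
    have hCb := isCechLike_torsion hC (regular_mod_powers hCM x hx hdim)
    have hb := ih (R ⧸ Ideal.span {x 0}) ⟨N, hinjb⟩ hdimb _ (radical_bar x hx) _ _ hCb
    refine hull_of_quot (x 0) hfm H ↥(Submodule.torsionBy R H (x 0))
      (Submodule.torsionBy R H (x 0)).subtype.toAddMonoidHom Subtype.val_injective ?_ ?_ ?_ ?_ hb
    · intro r z
      rfl
    · intro y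
      constructor
      · intro hy
        exact ⟨⟨y, (Submodule.mem_torsionBy_iff _ _).2 hy⟩, rfl⟩
      · rintro ⟨z, rfl⟩
        exact (Submodule.mem_torsionBy_iff _ _).1 z.2
    · -- power torsion
      intro y
      obtain ⟨K, a, rfl⟩ := hC.gen y
      have hle : maximalIdeal R ≤
          (Ideal.span (Set.range fun i : Fin (n + 1) => x i ^ (K + 1))).radical := by
        rw [← hx]
        apply Ideal.radical_le_radical_iff.2
        rw [Ideal.span_le]
        rintro _ ⟨i, rfl⟩
        exact ⟨K + 1, Ideal.subset_span ⟨i, rfl⟩⟩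
      obtain ⟨k, hk⟩ := Ideal.exists_pow_le_of_le_radical_of_fg hle
        (IsNoetherian.noetherian _)
      refine ⟨k, fun b hb => ?_⟩
      rw [smul_comm, hC.smul_eq_zero_of_mem K b (hk hb), smul_zero]
    · -- divisibility
      intro y
      obtain ⟨K, a, rfl⟩ := hC.gen y
      refine ⟨(a * ∏ i : Fin n, x i.succ) • e (K + 1), ?_⟩
      rw [← hC.step K, prod_eq x, ← mul_smul, ← mul_smul]
      congr 1
      ring

end Main

section Cech

variable {R : Type u} [CommRing R] {d : ℕ} (x : Fin d → R)

/-- the span of the fractions `x_i^n / t^n` -/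
abbrev cechU : Submodule R (Localization.Away (∏ i, x i)) :=
  Submodule.span R {y : Localization.Away (∏ i, x i) | ∃ (i : Fin d) (n : ℕ),
    y = algebraMap R (Localization.Away (∏ i, x i)) (x i ^ n) *
      IsLocalization.Away.invSelf (∏ i, x i) ^ n}

/-- multiplying by a power of `t` raises the exponents -/
theorem prod_pow_mul_mem (L K : ℕ) (b : R)
    (hb : b ∈ Ideal.span (Set.range fun i => x i ^ L)) :
    (∏ i, x i) ^ K * b ∈ Ideal.span (Set.range fun i => x i ^ (L + K)) := by
  induction hb using Submodule.span_induction with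
  | mem b hb =>
    obtain ⟨i, rfl⟩ := hb
    have h1 : ∏ j, x j = x i * ∏ j ∈ Finset.univ.erase i, x j :=
      (Finset.mul_prod_erase Finset.univ x (Finset.mem_univ i)).symm
    have h2 : (∏ j, x j) ^ K * x i ^ L = (∏ j ∈ Finset.univ.erase i, x j) ^ K * x i ^ (L + K) := by
      rw [h1]
      ring
    show (∏ j, x j) ^ K * x i ^ L ∈ _
    rw [h2]
    exact Ideal.mul_mem_left _ _ (Ideal.subset_span ⟨i, rfl⟩)
  | zero => simp
  | add b c _ _ hb hc =>
    rw [mul_add]
    exact Ideal.add_mem _ hb hc
  | smul r b _ hb =>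
    rw [smul_eq_mul, mul_left_comm]
    exact Ideal.mul_mem_left _ _ hb

/-- the inverse of `t` -/
noncomputable abbrev cinv : Localization.Away (∏ i, x i) := IsLocalization.Away.invSelf (∏ i, x i)

/-- the localization map -/
noncomputable abbrev cam : R →+* Localization.Away (∏ i, x i) :=
  algebraMap R (Localization.Away (∏ i, x i))

theorem am_prod_mul_inv : cam x (∏ i, x i) * cinv x = 1 := IsLocalization.Away.mul_invSelf _

theorem am_pow_mul_inv_pow (k : ℕ) : cam x ((∏ i, x i) ^ k) * cinv x ^ k = 1 := by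
  rw [map_pow, ← mul_pow, am_prod_mul_inv x, one_pow]

/-- elements of an ideal of powers give fractions in `U` -/
theorem frac_mem_cechU (K : ℕ) (b : R) (hb : b ∈ Ideal.span (Set.range fun i => x i ^ K)) :
    cam x b * cinv x ^ K ∈ cechU x := by
  induction hb using Submodule.span_induction with
  | mem b hb =>
    obtain ⟨i, rfl⟩ := hb
    exact Submodule.subset_span ⟨i, K, rfl⟩
  | zero => simp
  | add b c _ _ hb hc =>
    rw [map_add, add_mul]
    exact Submodule.add_mem _ hb hc
  | smul r b _ hb =>
    rw [smul_eq_mul, map_mul, mul_assoc, ← Algebra.smul_def]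
    exact Submodule.smul_mem _ _ hb

/-- elements of `U` are fractions with numerator in an ideal of powers -/
theorem exists_frac_of_mem_cechU (u : Localization.Away (∏ i, x i)) (hu : u ∈ cechU x) :
    ∃ (L : ℕ) (b : R), b ∈ Ideal.span (Set.range fun i => x i ^ L) ∧ u = cam x b * cinv x ^ L := by
  induction hu using Submodule.span_induction with
  | mem u hu =>
    obtain ⟨i, n, rfl⟩ := hu
    exact ⟨n, x i ^ n, Ideal.subset_span ⟨i, rfl⟩, rfl⟩
  | zero => exact ⟨0, 0, Ideal.zero_mem _, by simp⟩
  | add u v _ _ hu hv =>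
    obtain ⟨L, b, hb, rfl⟩ := hu
    obtain ⟨L', b', hb', rfl⟩ := hv
    refine ⟨L + L', (∏ i, x i) ^ L' * b + (∏ i, x i) ^ L * b', ?_, ?_⟩
    · refine Ideal.add_mem _ (prod_pow_mul_mem x L L' b hb) ?_
      rw [add_comm L L']
      exact prod_pow_mul_mem x L' L b' hb'
    · rw [map_add, add_mul, map_mul, map_mul]
      have e1 : cam x ((∏ i, x i) ^ L') * cam x b * cinv x ^ (L + L') =
          cam x b * cinv x ^ L * (cam x ((∏ i, x i) ^ L') * cinv x ^ L') := by
        rw [pow_add]; ring
      have e2 : cam x ((∏ i, x i) ^ L) * cam x b' * cinv x ^ (L + L') =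
          cam x b' * cinv x ^ L' * (cam x ((∏ i, x i) ^ L) * cinv x ^ L) := by
        rw [pow_add]; ring
      rw [e1, e2, am_pow_mul_inv_pow x, am_pow_mul_inv_pow x, mul_one, mul_one]
  | smul r u _ hu =>
    obtain ⟨L, b, hb, rfl⟩ := hu
    refine ⟨L, r * b, Ideal.mul_mem_left _ _ hb, ?_⟩
    rw [Algebra.smul_def, map_mul, mul_assoc]

/-- the generators of the Čech module -/
noncomputable def cechE (N : ℕ) : Localization.Away (∏ i, x i) ⧸ cechU x :=
  Submodule.Quotient.mk (cinv x ^ (N + 1))

theorem smul_cechE (a : R) (N : ℕ) :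
    a • cechE x N = Submodule.Quotient.mk (cam x a * cinv x ^ (N + 1)) := by
  unfold cechE
  rw [← Submodule.Quotient.mk_smul, Algebra.smul_def]

theorem isCechLike_cech : IsCechLike x (Localization.Away (∏ i, x i) ⧸ cechU x) (cechE x) := by
  refine ⟨?_, ?_, ?_⟩
  · intro y
    obtain ⟨s, rfl⟩ := Submodule.mkQ_surjective _ y
    obtain ⟨k, a, hka⟩ := IsLocalization.Away.surj (∏ i, x i) s
    refine ⟨k, a * ∏ i, x i, ?_⟩
    rw [smul_cechE, Submodule.mkQ_apply]
    congr 1
    have h1 : s = cam x a * cinv x ^ k := by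
      have : cam x a * cinv x ^ k = s * (cam x ((∏ i, x i) ^ k) * cinv x ^ k) := by
        rw [← hka, map_pow]; ring
      rw [this, am_pow_mul_inv_pow, mul_one]
    rw [h1, map_mul, pow_succ]
    have : cam x a * cam x (∏ i, x i) * (cinv x ^ k * cinv x) =
        cam x a * cinv x ^ k * (cam x (∏ i, x i) * cinv x) := by ring
    rw [this, am_prod_mul_inv, mul_one]
  · intro N
    rw [smul_cechE]
    unfold cechE
    congr 1
    rw [pow_succ _ (N + 1)]
    have : cam x (∏ i, x i) * (cinv x ^ (N + 1) * cinv x) =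
        cinv x ^ (N + 1) * (cam x (∏ i, x i) * cinv x) := by ring
    rw [this, am_prod_mul_inv, mul_one]
  · intro N a
    rw [smul_cechE, Submodule.Quotient.mk_eq_zero]
    constructor
    · intro h
      obtain ⟨L, b, hb, hab⟩ := exists_frac_of_mem_cechU x _ h
      -- clear denominators
      have h1 : cam x ((∏ i, x i) ^ L * a) = cam x ((∏ i, x i) ^ (N + 1) * b) := by
        have e1 : cam x ((∏ i, x i) ^ L * a) =
            (cam x a * cinv x ^ (N + 1)) * cam x ((∏ i, x i) ^ L) *
              (cam x ((∏ i, x i) ^ (N + 1))) := by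
          rw [map_mul]
          have : cam x a * cinv x ^ (N + 1) * cam x ((∏ i, x i) ^ L) *
              cam x ((∏ i, x i) ^ (N + 1)) =
              cam x ((∏ i, x i) ^ L) * cam x a *
                (cam x ((∏ i, x i) ^ (N + 1)) * cinv x ^ (N + 1)) := by ring
          rw [this, am_pow_mul_inv_pow, mul_one]
        have e2 : cam x ((∏ i, x i) ^ (N + 1) * b) =
            (cam x b * cinv x ^ L) * cam x ((∏ i, x i) ^ L) *
              (cam x ((∏ i, x i) ^ (N + 1))) := by
          rw [map_mul]
          have : cam x b * cinv x ^ L * cam x ((∏ i, x i) ^ L) * cam x ((∏ i, x i) ^ (N + 1)) =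
              cam x ((∏ i, x i) ^ (N + 1)) * cam x b *
                (cam x ((∏ i, x i) ^ L) * cinv x ^ L) := by ring
          rw [this, am_pow_mul_inv_pow, mul_one]
        rw [e1, e2, hab]
      obtain ⟨k, hk⟩ := IsLocalization.Away.exists_of_eq (∏ i, x i) h1
      refine ⟨k + L, ?_⟩
      have h2 : (∏ i, x i) ^ (k + L) * a = (∏ i, x i) ^ (k + N + 1) * b := by
        have : (∏ i, x i) ^ (k + L) * a = (∏ i, x i) ^ k * ((∏ i, x i) ^ L * a) := by
          rw [pow_add]; ring
        rw [this, hk, pow_add, pow_add]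
        ring
      rw [h2, show N + (k + L) + 1 = L + (k + N + 1) by ring]
      exact prod_pow_mul_mem x L (k + N + 1) b hb
    · rintro ⟨M, hM⟩
      have h1 := frac_mem_cechU x (N + M + 1) _ hM
      have h2 : cam x ((∏ i, x i) ^ M * a) * cinv x ^ (N + M + 1) = cam x a * cinv x ^ (N + 1) := by
        rw [map_mul, show N + M + 1 = M + (N + 1) by ring, pow_add]
        have : cam x ((∏ i, x i) ^ M) * cam x a * (cinv x ^ M * cinv x ^ (N + 1)) =
            cam x a * cinv x ^ (N + 1) * (cam x ((∏ i, x i) ^ M) * cinv x ^ M) := by ring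
        rw [this, am_pow_mul_inv_pow, mul_one]
      rw [← h2]
      exact h1

end Cech

section Final

variable (R : Type u) [CommRing R] [LocCoh.IsGorensteinLocalRing R]

theorem main17775 (d : ℕ) (hd : ringKrullDim R = d) (x : Fin d → R)
    (hx : (Ideal.span (Set.range x)).radical = IsLocalRing.maximalIdeal R) :
    ∃ f : IsLocalRing.ResidueField R →ₗ[R] (Localization.Away (∏ i, x i) ⧸ cechU x),
      InjHull.IsInjectiveHull f :=
  recog d R LocCoh.IsGorensteinLocalRing.exists_hasInjectiveDimensionLT hd x hx _ _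
    (isCechLike_cech x)

end Final

end Groth.Agent.Lib.CechHullH5
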