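import Mathlib

/-!
# Concrete description of the homology of a complex of abelian groups, any shape (helper7)

For `C : HomologicalComplex AddCommGrpCat c` and `j` with `c.next j = k`: the class map
`cls : ker (C.d j k) →+ C.homology j` is surjective, and `cls z = 0` iff `z` is in the image of
`C.d i j`, where `c.prev j = i`.
-/

set_option autoImplicit false
set_option linter.unusedSectionVars false

universe u

open CategoryTheory Limits

namespace Groth.Agent.Lib.HomConcreteH7

variable {ι : Type*} {c : ComplexShape ι} (C : HomologicalComplex AddCommGrpCat.{u} c)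
  (j k : ι) (hk : c.next j = k)

/-- cycles subgroup -/
abbrev Zc : AddSubgroup (C.X j) := (C.d j k).hom.ker

lemma d_d_apply (i j k : ι) (x : C.X i) : (C.d j k).hom ((C.d i j).hom x) = 0 :=
  congrArg (fun f => f.hom x) (C.d_comp_d i j k)

lemma d_mem (i : ι) (y : C.X i) : (C.d i j).hom y ∈ Zc C j k :=
  AddMonoidHom.mem_ker.2 (d_d_apply C i j k y)

/-- the lift to cycles -/
noncomputable def lift : AddCommGrpCat.of (Zc C j k) ⟶ C.cycles j :=
  C.liftCycles (AddCommGrpCat.ofHom (Zc C j k).subtype) k hk
    (AddCommGrpCat.hom_ext (AddMonoidHom.ext fun z => AddMonoidHom.mem_ker.1 z.2))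

lemma lift_i : lift C j k hk ≫ C.iCycles j = AddCommGrpCat.ofHom (Zc C j k).subtype :=
  C.liftCycles_i _ _ _ _

lemma iCycles_lift (z : Zc C j k) : (C.iCycles j).hom ((lift C j k hk).hom z) = z.1 :=
  congrArg (fun f => f.hom z) (lift_i C j k hk)

lemma iCycles_injective : Function.Injective (C.iCycles j).hom :=
  (AddCommGrpCat.mono_iff_injective _).1 inferInstance

lemma homologyπ_surjective : Function.Surjective (C.homologyπ j).hom :=
  (AddCommGrpCat.epi_iff_surjective _).1 inferInstance

/-- the class of a cycle -/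
noncomputable def cls : Zc C j k →+ C.homology j := (lift C j k hk ≫ C.homologyπ j).hom

lemma cls_apply (z : Zc C j k) :
    cls C j k hk z = (C.homologyπ j).hom ((lift C j k hk).hom z) := rfl

lemma cls_surjective : Function.Surjective (cls C j k hk) := by
  intro x
  obtain ⟨a, rfl⟩ := homologyπ_surjective C j x
  have hz : (C.iCycles j).hom a ∈ Zc C j k :=
    AddMonoidHom.mem_ker.2 (congrArg (fun f => f.hom a) (C.iCycles_d j k))
  refine ⟨⟨(C.iCycles j).hom a, hz⟩, ?_⟩
  rw [cls_apply]
  congr 1
  exact iCycles_injective C j (iCycles_lift C j k hk _)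

lemma cls_eq_zero_iff (i : ι) (hi : c.prev j = i) (z : Zc C j k) :
    cls C j k hk z = 0 ↔ ∃ y : C.X i, (C.d i j).hom y = z.1 := by
  constructor
  · intro h
    have hex : (ShortComplex.mk (C.toCycles i j) (C.homologyπ j)
        (C.toCycles_comp_homologyπ i j)).Exact :=
      ShortComplex.exact_of_g_is_cokernel _ (C.homologyIsCokernel i j hi)
    obtain ⟨y, hy⟩ := (ShortComplex.ab_exact_iff _).1 hex ((lift C j k hk).hom z) h
    refine ⟨y, ?_⟩
    have h2 : (C.iCycles j).hom ((C.toCycles i j).hom y) =
        (C.iCycles j).hom ((lift C j k hk).hom z) := congrArg (C.iCycles j).hom hy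
    rw [iCycles_lift] at h2
    rw [← h2]
    exact (congrArg (fun f => f.hom y) (C.toCycles_i i j)).symm
  · rintro ⟨y, hy⟩
    have h1 : (lift C j k hk).hom z = (C.toCycles i j).hom y := by
      apply iCycles_injective C j
      rw [iCycles_lift, ← hy]
      exact (congrArg (fun f => f.hom y) (C.toCycles_i i j)).symm
    rw [cls_apply, h1]
    exact congrArg (fun f => f.hom y) (C.toCycles_comp_homologyπ i j)

/-- if there is no incoming differential, the class map is injective -/
lemma cls_eq_zero_of_d_eq_zero (i : ι) (hi : c.prev j = i) (h0 : C.d i j = 0) (z : Zc C j k)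
    (hz : cls C j k hk z = 0) : z = 0 := by
  obtain ⟨y, hy⟩ := (cls_eq_zero_iff C j k hk i hi z).1 hz
  apply Subtype.ext
  rw [← hy, h0]
  rfl

variable {C}

lemma hom_comm {D : HomologicalComplex AddCommGrpCat.{u} c} (φ : C ⟶ D) (i j : ι) (x : C.X i) :
    (φ.f j).hom ((C.d i j).hom x) = (D.d i j).hom ((φ.f i).hom x) :=
  (congrArg (fun f => f.hom x) (φ.comm i j)).symm

lemma map_mem {D : HomologicalComplex AddCommGrpCat.{u} c} (φ : C ⟶ D) (z : Zc C j k) :
    (φ.f j).hom z.1 ∈ Zc D j k := by
  rw [AddMonoidHom.mem_ker, ← hom_comm φ j k z.1, AddMonoidHom.mem_ker.1 z.2, map_zero]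

lemma map_cls {D : HomologicalComplex AddCommGrpCat.{u} c} (φ : C ⟶ D) (z : Zc C j k) :
    (HomologicalComplex.homologyMap φ j).hom (cls C j k hk z) =
      cls D j k hk ⟨(φ.f j).hom z.1, map_mem j k φ z⟩ := by
  rw [cls_apply, cls_apply]
  have h1 : (HomologicalComplex.homologyMap φ j).hom
      ((C.homologyπ j).hom ((lift C j k hk).hom z)) =
      (D.homologyπ j).hom ((HomologicalComplex.cyclesMap φ j).hom ((lift C j k hk).hom z)) :=
    congrArg (fun f => f.hom ((lift C j k hk).hom z)) (HomologicalComplex.homologyπ_naturality φ j)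
  rw [h1]
  congr 1
  apply iCycles_injective D j
  rw [iCycles_lift]
  have h2 : (D.iCycles j).hom ((HomologicalComplex.cyclesMap φ j).hom ((lift C j k hk).hom z)) =
      (φ.f j).hom ((C.iCycles j).hom ((lift C j k hk).hom z)) :=
    congrArg (fun f => f.hom ((lift C j k hk).hom z)) (HomologicalComplex.cyclesMap_i φ j)
  rw [h2, iCycles_lift]

end Groth.Agent.Lib.HomConcreteH7
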