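import Mathlib
import Groth.Prelude.Def_Formal2

set_option autoImplicit false
universe u
open CategoryTheory

namespace Groth.Agent.Lib.MLLimOneH7

variable (G : ℕ → Type u) [∀ n, AddCommGroup (G n)] (t : ∀ n, G (n + 1) →+ G n)

/-- the tower as a functor -/
abbrev F' : ℕᵒᵖ ⥤ AddCommGrpCat.{u} :=
  Functor.ofOpSequence (X := fun n => AddCommGrpCat.of (G n)) (fun n => AddCommGrpCat.ofHom (t n))

/-- iterated transition map -/
def T {m J : ℕ} (h : m ≤ J) : G J →+ G m := ((F' G t).map (homOfLE h).op).hom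

lemma T_succ (m : ℕ) : T G t (Nat.le_add_right m 1) = t m := by
  unfold T
  rw [Functor.ofOpSequence_map_homOfLE_succ]
  rfl

lemma T_comp {m k J : ℕ} (h1 : m ≤ k) (h2 : k ≤ J) (z : G J) :
    T G t h1 (T G t h2 z) = T G t (h1.trans h2) z := by
  have h : (homOfLE (h1.trans h2)).op = (homOfLE h2).op ≫ (homOfLE h1).op := rfl
  have h3 : (F' G t).map (homOfLE (h1.trans h2)).op =
      (F' G t).map (homOfLE h2).op ≫ (F' G t).map (homOfLE h1).op := by
    rw [h]
    exact CategoryTheory.Functor.map_comp _ _ _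
  have h4 := congrArg (fun φ : (F' G t).obj (Opposite.op J) ⟶ (F' G t).obj (Opposite.op m) =>
    φ.hom (z : ((F' G t).obj (Opposite.op J) : AddCommGrpCat.{u}))) h3
  exact h4.symm

lemma T_refl (m : ℕ) (z : G m) : T G t (le_refl m) z = z := by
  have h : (homOfLE (le_refl m)).op = 𝟙 (Opposite.op m) := rfl
  have h3 : (F' G t).map (homOfLE (le_refl m)).op = 𝟙 _ := by
    rw [h]
    exact CategoryTheory.Functor.map_id _ _
  have h4 := congrArg (fun φ : (F' G t).obj (Opposite.op m) ⟶ (F' G t).obj (Opposite.op m) =>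
    φ.hom (z : ((F' G t).obj (Opposite.op m) : AddCommGrpCat.{u}))) h3
  exact h4

lemma ml_elem (h : ((F' G t) ⋙ forget AddCommGrpCat).IsMittagLeffler) (m : ℕ) :
    ∃ J, ∃ hJ : m ≤ J, ∀ k (hk : m ≤ k) (z : G J), ∃ w : G k, T G t hk w = T G t hJ z := by
  obtain ⟨i, f, hf⟩ := h (Opposite.op m)
  have hJ : m ≤ i.unop := leOfHom f.unop
  refine ⟨i.unop, hJ, fun k hk z => ?_⟩
  have hfe : f = (homOfLE hJ).op := by
    apply Quiver.Hom.unop_inj
    exact Subsingleton.elim _ _
  subst hfe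
  obtain ⟨w, hw⟩ := hf (homOfLE hk).op ⟨z, rfl⟩
  exact ⟨w, hw⟩

/-- The solution of `x_m = y_m + t_m x_{m+1}` on the window `[·, J)` with `x_m = 0` for `m ≥ J`. -/
def windowSol (y : ∀ n, G n) (J : ℕ) (m : ℕ) : G m :=
  if h : m < J then y m + t m (windowSol y J (m + 1)) else 0
termination_by J - m

lemma ws_lt (y : ∀ n, G n) (J m : ℕ) (h : m < J) :
    windowSol G t y J m = y m + t m (windowSol G t y J (m + 1)) := by
  rw [windowSol, dif_pos h]

lemma ws_ge (y : ∀ n, G n) (J m : ℕ) (h : ¬ m < J) : windowSol G t y J m = 0 := by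
  rw [windowSol, dif_neg h]

lemma ws_diff (y : ∀ n, G n) (J J' : ℕ) (hJJ' : J ≤ J') : ∀ (d m : ℕ) (hm : m + d = J),
    ∃ w : G J, windowSol G t y J' m - windowSol G t y J m =
      T G t (show m ≤ J by omega) w := by
  intro d
  induction d with
  | zero =>
    intro m hm
    have hmJ : m = J := by omega
    subst hmJ
    refine ⟨windowSol G t y J' m, ?_⟩
    rw [ws_ge G t y m m (lt_irrefl m), sub_zero, T_refl]
  | succ d ih =>
    intro m hm
    obtain ⟨w, hw⟩ := ih (m + 1) (by omega)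
    refine ⟨w, ?_⟩
    rw [ws_lt G t y J' m (by omega), ws_lt G t y J m (by omega), add_sub_add_left_eq_sub,
      ← map_sub, hw, ← T_succ G t m, T_comp]

theorem main (h : ((F' G t) ⋙ forget AddCommGrpCat).IsMittagLeffler) :
    Function.Surjective (Formal2.towerDiff G t) := by
  intro y
  choose j hj hjk using ml_elem G t h
  let Jq : ℕ → ℕ := fun m => Nat.rec (j 0) (fun m r => max r (j (m + 1))) m
  have hJq_succ : ∀ m, Jq (m + 1) = max (Jq m) (j (m + 1)) := fun m => rfl
  have hJq_ge : ∀ m, j m ≤ Jq m := by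
    intro m
    cases m with
    | zero => exact le_rfl
    | succ m => rw [hJq_succ]; exact le_max_right _ _
  have hJq_mono : ∀ m, Jq m ≤ Jq (m + 1) := fun m => by
    rw [hJq_succ]; exact le_max_left _ _
  have hmJ : ∀ m, m ≤ Jq m := fun m => (hj m).trans (hJq_ge m)
  have hstar : ∀ m k (hk : m ≤ k) (z : G (Jq m)),
      ∃ w : G k, T G t hk w = T G t (hmJ m) z := by
    intro m k hk z
    obtain ⟨w, hw⟩ := hjk m k hk (T G t (hJq_ge m) z)
    exact ⟨w, by rw [hw, T_comp]⟩
  let x1 : ∀ n, G n := fun n => windowSol G t y (Jq n) n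
  have hy' : ∀ m, ∃ z : G (Jq m), y m - (x1 m - t m (x1 (m + 1))) = T G t (hmJ m) z := by
    intro m
    obtain ⟨w, hw⟩ := ws_diff G t y (Jq m) (Jq (m + 1)) (hJq_mono m) (Jq m - m) m
      (by have := hmJ m; omega)
    refine ⟨w, ?_⟩
    have hw' : windowSol G t y (Jq (m + 1)) m - windowSol G t y (Jq m) m =
        T G t (hmJ m) w := hw
    rw [← hw']
    show y m - (windowSol G t y (Jq m) m - t m (windowSol G t y (Jq (m + 1)) (m + 1))) = _
    rw [ws_lt G t y (Jq (m + 1)) m (by have := hmJ (m + 1); omega)]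
    abel
  choose z hz using hy'
  have hstep : ∀ m (s : G (Jq m)), ∃ s' : G (Jq (m + 1)),
      t m (T G t (hmJ (m + 1)) s') = T G t (hmJ m) s - T G t (hmJ m) (z m) := by
    intro m s
    obtain ⟨w, hw⟩ := hstar m (Jq (m + 1)) ((Nat.le_succ m).trans (hmJ (m + 1))) (s - z m)
    refine ⟨w, ?_⟩
    rw [← map_sub, ← hw, ← T_succ G t m, T_comp]
  choose nxt hnxt using hstep
  let s : ∀ m, G (Jq m) := fun m =>
    Nat.rec (motive := fun m => G (Jq m)) 0 (fun m r => nxt m r) m
  have hs : ∀ m, s (m + 1) = nxt m (s m) := fun m => rfl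
  let x2 : ∀ n, G n := fun n => T G t (hmJ n) (s n)
  refine ⟨fun n => x1 n + x2 n, ?_⟩
  funext m
  show (x1 m + x2 m) - t m (x1 (m + 1) + x2 (m + 1)) = y m
  have h2 : t m (x2 (m + 1)) = x2 m - T G t (hmJ m) (z m) := by
    show t m (T G t (hmJ (m + 1)) (s (m + 1))) = _
    rw [hs, hnxt]
  have h1 := hz m
  rw [map_add, h2, ← h1]
  abel

end Groth.Agent.Lib.MLLimOneH7
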