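import Mathlib
import Groth.Prelude.Def_CohTop

/-!
# Limits of flasque towers of abelian sheaves (helper7)
-/

set_option autoImplicit false
universe u
open CategoryTheory Limits Opposite TopologicalSpace

namespace Groth.Agent.Lib.FlasqueTower_helper7

/-- dependent sequences by recursion -/
lemma exists_seq {α : ℕ → Type*} (P : ∀ n, α n → Prop) (Q : ∀ n, α n → α (n + 1) → Prop)
    (base : ∃ a, P 0 a) (step : ∀ n a, P n a → ∃ b, P (n + 1) b ∧ Q n a b) :
    ∃ f : ∀ n, α n, (∀ n, P n (f n)) ∧ ∀ n, Q n (f n) (f (n + 1)) := by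
  classical
  let T : ∀ n, {a : α n // P n a} := fun n => Nat.rec (motive := fun n => {a : α n // P n a})
    ⟨base.choose, base.choose_spec⟩
    (fun n p => ⟨(step n p.1 p.2).choose, (step n p.1 p.2).choose_spec.1⟩) n
  exact ⟨fun n => (T n).1, fun n => (T n).2, fun n => (step n (T n).1 (T n).2).choose_spec.2⟩

lemma compat_all (G : ℕᵒᵖ ⥤ Type u) (t : ∀ n, G.obj (op n))
    (h : ∀ n, G.map (homOfLE (Nat.le_succ n)).op (t (n + 1)) = t n) (m n : ℕ) (hnm : n ≤ m) :
    G.map (homOfLE hnm).op (t m) = t n := by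
  induction m, hnm using Nat.le_induction with
  | base =>
    have e : (homOfLE (le_refl n)).op = 𝟙 (op n) := rfl
    rw [e]
    exact FunctorToTypes.map_id_apply G (t n)
  | succ m hnm ih =>
    have e : (homOfLE (hnm.trans (Nat.le_succ m))).op =
        (homOfLE (Nat.le_succ m)).op ≫ (homOfLE hnm).op := rfl
    rw [e, FunctorToTypes.map_comp_apply, h, ih]

variable {X : TopCat.{u}}

/-- sections over `W` -/
noncomputable abbrev Γ (W : Opens X) : CohTop.Ab X ⥤ AddCommGrpCat.{u} :=
  sheafToPresheaf (Opens.grothendieckTopology X) AddCommGrpCat.{u} ⋙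
    (evaluation (Opens X)ᵒᵖ AddCommGrpCat.{u}).obj (op W)

lemma exists_of_compat (M : ℕᵒᵖ ⥤ CohTop.Ab X) (W : Opens X)
    (t : ∀ n : ℕ, (M.obj (op n)).obj.obj (op W))
    (h : ∀ n, ((M.map (homOfLE (Nat.le_succ n)).op).hom.app (op W)).hom (t (n + 1)) = t n) :
    ∃ x : (limit M).obj.obj (op W), ∀ n, ((limit.π M (op n)).hom.app (op W)).hom x = t n := by
  let G : ℕᵒᵖ ⥤ Type u := M ⋙ Γ W ⋙ forget AddCommGrpCat.{u}
  have hc : IsLimit ((Γ W ⋙ forget AddCommGrpCat.{u}).mapCone (limit.cone M)) :=
    isLimitOfPreserves _ (limit.isLimit M)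
  have hs : (fun j : ℕᵒᵖ => (t j.unop : G.obj j)) ∈ G.sections := by
    intro j j' f
    obtain ⟨m⟩ := j
    obtain ⟨n⟩ := j'
    have hf : f = (homOfLE (leOfHom f.unop)).op := Quiver.Hom.unop_inj (Subsingleton.elim _ _)
    rw [hf]
    exact compat_all G t h m n (leOfHom f.unop)
  obtain ⟨x, hx, -⟩ := (Types.isLimit_iff _).1 ⟨hc⟩ _ hs
  exact ⟨x, fun n => hx (op n)⟩

lemma ext_of_proj (M : ℕᵒᵖ ⥤ CohTop.Ab X) (W : Opens X) (x y : (limit M).obj.obj (op W))
    (h : ∀ n, ((limit.π M (op n)).hom.app (op W)).hom x =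
      ((limit.π M (op n)).hom.app (op W)).hom y) : x = y := by
  have hc : IsLimit ((Γ W).mapCone (limit.cone M)) := isLimitOfPreserves _ (limit.isLimit M)
  exact Concrete.isLimit_ext (M ⋙ Γ W) hc x y (fun j => h j.unop)

lemma surj_of_flasque_kernel {A B : CohTop.Ab X} (φ : A ⟶ B) [Epi φ]
    (hK : TopCat.Sheaf.IsFlasque (kernel φ : CohTop.Ab X)) (W : Opens X) :
    Function.Surjective ((φ.hom.app (op W)).hom) := by
  have hS : (ShortComplex.mk (kernel.ι φ) φ (kernel.condition φ)).ShortExact :=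
    { exact := ShortComplex.exact_of_f_is_kernel _ (kernelIsKernel φ)
      mono_f := by dsimp; infer_instance
      epi_g := by dsimp; infer_instance }
  haveI : TopCat.Sheaf.IsFlasque (ShortComplex.mk (kernel.ι φ) φ (kernel.condition φ)).X₁ := hK
  have := TopCat.Sheaf.IsFlasque.epi_of_shortExact (U := W) hS
  exact (AddCommGrpCat.epi_iff_surjective _).1 this

lemma exists_of_g_zero {S : ShortComplex (CohTop.Ab X)} (hS : S.ShortExact) (W : Opens X)
    (b : S.X₂.obj.obj (op W)) (hb : (S.g.hom.app (op W)).hom b = 0) :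
    ∃ a : S.X₁.obj.obj (op W), (S.f.hom.app (op W)).hom a = b := by
  have hex : (S.map (Γ W)).Exact :=
    hS.exact.map_of_mono_of_preservesKernel (Γ W) hS.mono_f inferInstance
  exact (ShortComplex.ab_exact_iff _).1 hex b hb

lemma res_surj {F : CohTop.Ab X} (hF : TopCat.Sheaf.IsFlasque F) {W V : Opens X}
    (i : (op W : (Opens X)ᵒᵖ) ⟶ op V) : Function.Surjective (F.obj.map i).hom := by
  haveI := hF
  have : Epi (F.obj.map i) := TopCat.Presheaf.IsFlasque.epi i
  exact (AddCommGrpCat.epi_iff_surjective _).1 this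

theorem flasque_limit (M : ℕᵒᵖ ⥤ CohTop.Ab X)
    (hM : ∀ n : ℕ, TopCat.Sheaf.IsFlasque (M.obj (op n)))
    (hepi : ∀ n : ℕ, Epi (M.map (homOfLE (Nat.le_succ n)).op))
    (hK : ∀ n : ℕ, TopCat.Sheaf.IsFlasque
      (kernel (M.map (homOfLE (Nat.le_succ n)).op) : CohTop.Ab X)) :
    TopCat.Sheaf.IsFlasque (limit M : CohTop.Ab X) := by
  refine ⟨fun {U V} i => ?_⟩
  obtain ⟨W⟩ := U
  obtain ⟨V⟩ := V
  refine (AddCommGrpCat.epi_iff_surjective _).2 (fun y => ?_)
  have hs : ∀ n, ((M.map (homOfLE (Nat.le_succ n)).op).hom.app (op V)).hom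
      (((limit.π M (op (n + 1))).hom.app (op V)).hom y) =
        ((limit.π M (op n)).hom.app (op V)).hom y := by
    intro n
    exact congrArg (fun κ => (κ.hom.app (op V)).hom y) (limit.w M (homOfLE (Nat.le_succ n)).op)
  obtain ⟨T, hT1, hT2⟩ := exists_seq (α := fun n => (M.obj (op n)).obj.obj (op W))
    (fun n t => ((M.obj (op n)).obj.map i).hom t = ((limit.π M (op n)).hom.app (op V)).hom y)
    (fun n t t' => ((M.map (homOfLE (Nat.le_succ n)).op).hom.app (op W)).hom t' = t)
    (res_surj (hM 0) i _) (by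
      intro n t ht
      haveI := hepi n
      obtain ⟨t'', ht''⟩ := surj_of_flasque_kernel (M.map (homOfLE (Nat.le_succ n)).op) (hK n) W t
      have nat := ConcreteCategory.congr_hom
        ((M.map (homOfLE (Nat.le_succ n)).op).hom.naturality i) t''
      have h1 : ((M.map (homOfLE (Nat.le_succ n)).op).hom.app (op V)).hom
          (((M.obj (op (n + 1))).obj.map i).hom t'') =
          ((limit.π M (op n)).hom.app (op V)).hom y := by
        refine nat.trans ?_
        show ((M.obj (op n)).obj.map i).hom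
          (((M.map (homOfLE (Nat.le_succ n)).op).hom.app (op W)).hom t'') = _
        rw [ht'']
        exact ht
      have hd : ((M.map (homOfLE (Nat.le_succ n)).op).hom.app (op V)).hom
          (((M.obj (op (n + 1))).obj.map i).hom t'' -
            ((limit.π M (op (n + 1))).hom.app (op V)).hom y) = 0 := by
        rw [map_sub, hs n, h1, sub_self]
      have hS : (ShortComplex.mk (kernel.ι (M.map (homOfLE (Nat.le_succ n)).op))
          (M.map (homOfLE (Nat.le_succ n)).op) (kernel.condition _)).ShortExact :=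
        { exact := ShortComplex.exact_of_f_is_kernel _ (kernelIsKernel _)
          mono_f := by dsimp; infer_instance
          epi_g := by dsimp; infer_instance }
      obtain ⟨k, hk⟩ := exists_of_g_zero hS V _ hd
      obtain ⟨k', hk'⟩ := res_surj (hK n) i k
      refine ⟨t'' - ((kernel.ι (M.map (homOfLE (Nat.le_succ n)).op)).hom.app (op W)).hom k', ?_, ?_⟩
      · have nat2 := ConcreteCategory.congr_hom
          ((kernel.ι (M.map (homOfLE (Nat.le_succ n)).op)).hom.naturality i) k'
        have e : ((M.obj (op (n + 1))).obj.map i).hom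
            (((kernel.ι (M.map (homOfLE (Nat.le_succ n)).op)).hom.app (op W)).hom k') =
            ((M.obj (op (n + 1))).obj.map i).hom t'' -
              ((limit.π M (op (n + 1))).hom.app (op V)).hom y := by
          refine nat2.symm.trans ?_
          show ((kernel.ι (M.map (homOfLE (Nat.le_succ n)).op)).hom.app (op V)).hom
            (((kernel (M.map (homOfLE (Nat.le_succ n)).op)).obj.map i).hom k') = _
          rw [hk']
          exact hk
        rw [map_sub, e, sub_sub_cancel]
      · have hz : ((M.map (homOfLE (Nat.le_succ n)).op).hom.app (op W)).hom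
            (((kernel.ι (M.map (homOfLE (Nat.le_succ n)).op)).hom.app (op W)).hom k') = 0 :=
          congrArg (fun κ => (κ.hom.app (op W)).hom k')
            (kernel.condition (M.map (homOfLE (Nat.le_succ n)).op))
        rw [map_sub, ht'', hz, sub_zero])
  obtain ⟨x, hx⟩ := exists_of_compat M W T hT2
  refine ⟨x, ?_⟩
  apply ext_of_proj M V
  intro n
  have nat := ConcreteCategory.congr_hom ((limit.π M (op n)).hom.naturality i) x
  exact nat.trans ((congrArg (fun a => ((M.obj (op n)).obj.map i).hom a) (hx n)).trans (hT1 n))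

theorem epi_limMap (S : ShortComplex (ℕᵒᵖ ⥤ CohTop.Ab X)) (hS : S.ShortExact)
    (h1 : ∀ n : ℕ, TopCat.Sheaf.IsFlasque (S.X₁.obj (op n)))
    (h1e : ∀ n : ℕ, Epi (S.X₁.map (homOfLE (Nat.le_succ n)).op))
    (h1k : ∀ n : ℕ, TopCat.Sheaf.IsFlasque
      (kernel (S.X₁.map (homOfLE (Nat.le_succ n)).op) : CohTop.Ab X)) :
    Epi (limMap S.g) := by
  have hSn : ∀ n : ℕ, (S.map ((evaluation ℕᵒᵖ (CohTop.Ab X)).obj (op n))).ShortExact :=
    fun n => hS.map_of_exact _
  have gsurj : ∀ (n : ℕ) (W : Opens X),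
      Function.Surjective (((S.g.app (op n)).hom.app (op W)).hom) := by
    intro n W
    haveI : TopCat.Sheaf.IsFlasque (S.map ((evaluation ℕᵒᵖ (CohTop.Ab X)).obj (op n))).X₁ := h1 n
    have := TopCat.Sheaf.IsFlasque.epi_of_shortExact (U := W) (hSn n)
    exact (AddCommGrpCat.epi_iff_surjective _).1 this
  suffices hsurj : ∀ W : Opens X, Function.Surjective (((limMap S.g).hom.app (op W)).hom) by
    haveI : ∀ U : (Opens X)ᵒᵖ, Epi ((limMap S.g).hom.app U) := by
      intro ⟨W⟩
      exact (AddCommGrpCat.epi_iff_surjective _).2 (hsurj W)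
    haveI : Epi (limMap S.g).hom := NatTrans.epi_of_epi_app _
    haveI : Epi ((sheafToPresheaf (Opens.grothendieckTopology X) AddCommGrpCat.{u}).map
      (limMap S.g)) := ‹Epi (limMap S.g).hom›
    exact (sheafToPresheaf (Opens.grothendieckTopology X) AddCommGrpCat.{u}).epi_of_epi_map
      inferInstance
  intro W y
  have hs : ∀ n, ((S.X₃.map (homOfLE (Nat.le_succ n)).op).hom.app (op W)).hom
      (((limit.π S.X₃ (op (n + 1))).hom.app (op W)).hom y) =
        ((limit.π S.X₃ (op n)).hom.app (op W)).hom y := by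
    intro n
    exact congrArg (fun κ => (κ.hom.app (op W)).hom y) (limit.w S.X₃ (homOfLE (Nat.le_succ n)).op)
  obtain ⟨T, hT1, hT2⟩ := exists_seq (α := fun n => (S.X₂.obj (op n)).obj.obj (op W))
    (fun n t => ((S.g.app (op n)).hom.app (op W)).hom t =
      ((limit.π S.X₃ (op n)).hom.app (op W)).hom y)
    (fun n t t' => ((S.X₂.map (homOfLE (Nat.le_succ n)).op).hom.app (op W)).hom t' = t)
    (gsurj 0 W _) (by
      intro n t ht
      obtain ⟨t'', ht''⟩ := gsurj (n + 1) W (((limit.π S.X₃ (op (n + 1))).hom.app (op W)).hom y)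
      -- naturality of g
      have natg : ∀ a : (S.X₂.obj (op (n + 1))).obj.obj (op W),
          ((S.g.app (op n)).hom.app (op W)).hom
            (((S.X₂.map (homOfLE (Nat.le_succ n)).op).hom.app (op W)).hom a) =
          ((S.X₃.map (homOfLE (Nat.le_succ n)).op).hom.app (op W)).hom
            (((S.g.app (op (n + 1))).hom.app (op W)).hom a) := fun a =>
        congrArg (fun κ => (κ.hom.app (op W)).hom a) (S.g.naturality (homOfLE (Nat.le_succ n)).op)
      have natf : ∀ a : (S.X₁.obj (op (n + 1))).obj.obj (op W),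
          ((S.f.app (op n)).hom.app (op W)).hom
            (((S.X₁.map (homOfLE (Nat.le_succ n)).op).hom.app (op W)).hom a) =
          ((S.X₂.map (homOfLE (Nat.le_succ n)).op).hom.app (op W)).hom
            (((S.f.app (op (n + 1))).hom.app (op W)).hom a) := fun a =>
        congrArg (fun κ => (κ.hom.app (op W)).hom a) (S.f.naturality (homOfLE (Nat.le_succ n)).op)
      have hd : ((S.g.app (op n)).hom.app (op W)).hom
          (((S.X₂.map (homOfLE (Nat.le_succ n)).op).hom.app (op W)).hom t'' - t) = 0 := by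
        rw [map_sub, natg, ht'', hs n, ht, sub_self]
      obtain ⟨e, he⟩ := exists_of_g_zero (hSn n) W _ hd
      haveI := h1e n
      obtain ⟨e', he'⟩ := surj_of_flasque_kernel (S.X₁.map (homOfLE (Nat.le_succ n)).op) (h1k n) W e
      refine ⟨t'' - ((S.f.app (op (n + 1))).hom.app (op W)).hom e', ?_, ?_⟩
      · have hz : ((S.g.app (op (n + 1))).hom.app (op W)).hom
            (((S.f.app (op (n + 1))).hom.app (op W)).hom e') = 0 :=
          congrArg (fun κ => ((κ.app (op (n + 1))).hom.app (op W)).hom e') S.zero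
        rw [map_sub, ht'', hz, sub_zero]
      · have e2 : ((S.X₂.map (homOfLE (Nat.le_succ n)).op).hom.app (op W)).hom
            (((S.f.app (op (n + 1))).hom.app (op W)).hom e') =
            ((S.X₂.map (homOfLE (Nat.le_succ n)).op).hom.app (op W)).hom t'' - t := by
          rw [← natf, he']
          exact he
        rw [map_sub, e2, sub_sub_cancel])
  obtain ⟨x, hx⟩ := exists_of_compat S.X₂ W T hT2
  refine ⟨x, ?_⟩
  apply ext_of_proj S.X₃ W
  intro n
  have hπ : ((limit.π S.X₃ (op n)).hom.app (op W)).hom (((limMap S.g).hom.app (op W)).hom x) =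
      ((S.g.app (op n)).hom.app (op W)).hom (((limit.π S.X₂ (op n)).hom.app (op W)).hom x) :=
    congrArg (fun κ => (κ.hom.app (op W)).hom x) (limMap_π S.g (op n))
  rw [hπ, hx n]
  exact hT1 n

end Groth.Agent.Lib.FlasqueTower_helper7
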