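import Mathlib
import Groth.Prelude.Def_Formal2
import Groth.Agent.Lib.FlasqueTower_helper7

/-!
# The Milnor sequence for towers of complexes of abelian groups with surjective transitions (helper7)
-/

set_option autoImplicit false
universe u
open CategoryTheory Limits Opposite

namespace Groth.Agent.Lib.Milnor_helper7

open Groth.Agent.Lib.FlasqueTower_helper7 (exists_seq compat_all)

abbrev Cx := HomologicalComplex AddCommGrpCat.{u} (ComplexShape.up ℤ)

section api

variable (C : Cx.{u}) (p : ℤ)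

/-- cycles subgroup -/
abbrev Zc : AddSubgroup (C.X p) := (C.d p (p + 1)).hom.ker

lemma hom_comm {C D : Cx.{u}} (φ : C ⟶ D) (i j : ℤ) (x : C.X i) :
    (φ.f j).hom ((C.d i j).hom x) = (D.d i j).hom ((φ.f i).hom x) :=
  (congrArg (fun f => f.hom x) (φ.comm i j)).symm

lemma d_d_apply (i j k : ℤ) (x : C.X i) : (C.d j k).hom ((C.d i j).hom x) = 0 :=
  congrArg (fun f => f.hom x) (C.d_comp_d i j k)

lemma d_mem (q : ℤ) (y : C.X q) : (C.d q p).hom y ∈ Zc C p :=
  AddMonoidHom.mem_ker.2 (d_d_apply C q p (p + 1) y)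

noncomputable def lift : AddCommGrpCat.of (Zc C p) ⟶ C.cycles p :=
  C.liftCycles (AddCommGrpCat.ofHom (Zc C p).subtype) (p + 1) (CochainComplex.next ℤ p)
    (AddCommGrpCat.hom_ext (AddMonoidHom.ext fun z => AddMonoidHom.mem_ker.1 z.2))

lemma lift_i : lift C p ≫ C.iCycles p = AddCommGrpCat.ofHom (Zc C p).subtype :=
  C.liftCycles_i _ _ _ _

lemma iCycles_lift (z : Zc C p) : (C.iCycles p).hom ((lift C p).hom z) = z.1 :=
  congrArg (fun f => f.hom z) (lift_i C p)

lemma iCycles_injective : Function.Injective (C.iCycles p).hom :=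
  (AddCommGrpCat.mono_iff_injective _).1 inferInstance

lemma homologyπ_surjective : Function.Surjective (C.homologyπ p).hom :=
  (AddCommGrpCat.epi_iff_surjective _).1 inferInstance

/-- the class of a cycle -/
noncomputable def clsHom : Zc C p →+ C.homology p := (lift C p ≫ C.homologyπ p).hom

lemma clsHom_apply (z : Zc C p) :
    clsHom C p z = (C.homologyπ p).hom ((lift C p).hom z) := rfl

lemma clsHom_surjective : Function.Surjective (clsHom C p) := by
  intro c
  obtain ⟨a, rfl⟩ := homologyπ_surjective C p c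
  have hz : (C.iCycles p).hom a ∈ Zc C p :=
    AddMonoidHom.mem_ker.2 (congrArg (fun f => f.hom a) (C.iCycles_d p (p + 1)))
  refine ⟨⟨(C.iCycles p).hom a, hz⟩, ?_⟩
  rw [clsHom_apply]
  congr 1
  exact iCycles_injective C p (iCycles_lift C p _)

lemma clsHom_eq_zero_iff (q : ℤ) (hqp : q + 1 = p) (z : Zc C p) :
    clsHom C p z = 0 ↔ ∃ y : C.X q, (C.d q p).hom y = z.1 := by
  constructor
  · intro h
    have hex : (ShortComplex.mk (C.toCycles q p) (C.homologyπ p)
        (C.toCycles_comp_homologyπ q p)).Exact :=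
      ShortComplex.exact_of_g_is_cokernel _
        (C.homologyIsCokernel q p ((ComplexShape.up ℤ).prev_eq' hqp))
    obtain ⟨y, hy⟩ := (ShortComplex.ab_exact_iff _).1 hex ((lift C p).hom z) h
    refine ⟨y, ?_⟩
    have h2 : (C.iCycles p).hom ((C.toCycles q p).hom y) = (C.iCycles p).hom ((lift C p).hom z) :=
      congrArg (C.iCycles p).hom hy
    rw [iCycles_lift] at h2
    rw [← h2]
    exact (congrArg (fun f => f.hom y) (C.toCycles_i q p)).symm
  · rintro ⟨y, hy⟩
    have h1 : (lift C p).hom z = (C.toCycles q p).hom y := by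
      apply iCycles_injective C p
      rw [iCycles_lift, ← hy]
      exact (congrArg (fun f => f.hom y) (C.toCycles_i q p)).symm
    rw [clsHom_apply, h1]
    exact congrArg (fun f => f.hom y) (C.toCycles_comp_homologyπ q p)

variable {C}

lemma map_mem {D : Cx.{u}} (φ : C ⟶ D) (z : Zc C p) : (φ.f p).hom z.1 ∈ Zc D p := by
  rw [AddMonoidHom.mem_ker, ← hom_comm φ p (p + 1) z.1, AddMonoidHom.mem_ker.1 z.2, map_zero]

lemma map_clsHom {D : Cx.{u}} (φ : C ⟶ D) (z : Zc C p) :
    (HomologicalComplex.homologyMap φ p).hom (clsHom C p z) =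
      clsHom D p ⟨(φ.f p).hom z.1, map_mem p φ z⟩ := by
  rw [clsHom_apply, clsHom_apply]
  have h1 : (HomologicalComplex.homologyMap φ p).hom ((C.homologyπ p).hom ((lift C p).hom z)) =
      (D.homologyπ p).hom ((HomologicalComplex.cyclesMap φ p).hom ((lift C p).hom z)) :=
    congrArg (fun f => f.hom ((lift C p).hom z)) (HomologicalComplex.homologyπ_naturality φ p)
  rw [h1]
  congr 1
  apply iCycles_injective D p
  rw [iCycles_lift]
  have h2 : (D.iCycles p).hom ((HomologicalComplex.cyclesMap φ p).hom ((lift C p).hom z)) =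
      (φ.f p).hom ((C.iCycles p).hom ((lift C p).hom z)) :=
    congrArg (fun f => f.hom ((lift C p).hom z)) (HomologicalComplex.cyclesMap_i φ p)
  rw [h2, iCycles_lift]

end api

section tower

variable (K : ℕᵒᵖ ⥤ Cx.{u})

/-- transition maps -/
abbrev tr (n : ℕ) : K.obj (op (n + 1)) ⟶ K.obj (op n) := K.map (homOfLE (Nat.le_succ n)).op
/-- projections -/
noncomputable abbrev pr (n : ℕ) : limit K ⟶ K.obj (op n) := limit.π K (op n)

lemma pr_comp_apply (n : ℕ) (i : ℤ) (w : (limit K).X i) :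
    ((tr K n).f i).hom (((pr K (n + 1)).f i).hom w) = ((pr K n).f i).hom w :=
  congrArg (fun φ : limit K ⟶ K.obj (op n) => (φ.f i).hom w)
    (limit.w K (homOfLE (Nat.le_succ n)).op)

lemma lim_ext (i : ℤ) (x y : (limit K).X i)
    (h : ∀ n : ℕ, ((pr K n).f i).hom x = ((pr K n).f i).hom y) : x = y := by
  have hc : IsLimit ((HomologicalComplex.eval _ _ i).mapCone (limit.cone K)) :=
    isLimitOfPreserves _ (limit.isLimit K)
  exact Concrete.isLimit_ext (K ⋙ HomologicalComplex.eval _ _ i) hc x y (fun j => h j.unop)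

lemma lim_exists (i : ℤ) (s : ∀ n : ℕ, (K.obj (op n)).X i)
    (h : ∀ n, ((tr K n).f i).hom (s (n + 1)) = s n) :
    ∃ x : (limit K).X i, ∀ n : ℕ, ((pr K n).f i).hom x = s n := by
  let G : ℕᵒᵖ ⥤ Type u := K ⋙ HomologicalComplex.eval _ _ i ⋙ forget AddCommGrpCat.{u}
  have hc : IsLimit ((HomologicalComplex.eval _ _ i ⋙ forget AddCommGrpCat.{u}).mapCone
      (limit.cone K)) := isLimitOfPreserves _ (limit.isLimit K)
  have hs : (fun j : ℕᵒᵖ => (s j.unop : G.obj j)) ∈ G.sections := by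
    intro j j' f
    obtain ⟨m⟩ := j
    obtain ⟨n⟩ := j'
    have hf : f = (homOfLE (leOfHom f.unop)).op := Quiver.Hom.unop_inj (Subsingleton.elim _ _)
    rw [hf]
    exact compat_all G s h m n (leOfHom f.unop)
  obtain ⟨x, hx, -⟩ := (Types.isLimit_iff _).1 ⟨hc⟩ _ hs
  exact ⟨x, fun n => hx (op n)⟩

variable (hK : ∀ (n : ℕ) (i : ℤ), Function.Surjective ((tr K n).f i).hom)
include hK

lemma ml_solve (i : ℤ) (v : ∀ n : ℕ, (K.obj (op n)).X i) :
    ∃ s : ∀ n : ℕ, (K.obj (op n)).X i, ∀ n, s n - ((tr K n).f i).hom (s (n + 1)) = v n := by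
  obtain ⟨s, -, hs⟩ := exists_seq (α := fun n => (K.obj (op n)).X i) (fun _ _ => True)
    (fun n a b => a - ((tr K n).f i).hom b = v n) ⟨0, trivial⟩
    (fun n a _ => by
      obtain ⟨b, hb⟩ := hK n i (a - v n)
      exact ⟨b, trivial, by rw [hb, sub_sub_cancel]⟩)
  exact ⟨s, hs⟩

theorem exists_class (p q : ℤ) (hqp : q + 1 = p) (c : ∀ n : ℕ, (K.obj (op n)).homology p)
    (hc : ∀ n, (HomologicalComplex.homologyMap (tr K n) p).hom (c (n + 1)) = c n) :
    ∃ x : (limit K).homology p,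
      ∀ n : ℕ, (HomologicalComplex.homologyMap (pr K n) p).hom x = c n := by
  obtain ⟨z, hz1, hz2⟩ := exists_seq (α := fun n => ↥(Zc (K.obj (op n)) p))
    (fun n z => clsHom _ p z = c n)
    (fun n a b => ((tr K n).f p).hom b.1 = a.1)
    (clsHom_surjective _ p (c 0))
    (fun n a ha => by
      obtain ⟨z', hz'⟩ := clsHom_surjective (K.obj (op (n + 1))) p (c (n + 1))
      have h0 : clsHom (K.obj (op n)) p (⟨((tr K n).f p).hom z'.1, map_mem p _ z'⟩ - a) = 0 := by
        rw [map_sub, ← map_clsHom, hz', hc, ha, sub_self]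
      obtain ⟨y, hy⟩ := (clsHom_eq_zero_iff _ p q hqp _).1 h0
      obtain ⟨y', rfl⟩ := hK n q y
      have hdy : ((K.obj (op (n + 1))).d q p).hom y' ∈ Zc (K.obj (op (n + 1))) p := d_mem _ p q y'
      refine ⟨z' - ⟨_, hdy⟩, ?_, ?_⟩
      · have h3 : clsHom _ p ⟨_, hdy⟩ = 0 := (clsHom_eq_zero_iff _ p q hqp _).2 ⟨y', rfl⟩
        rw [map_sub, hz', h3, sub_zero]
      · show ((tr K n).f p).hom (z'.1 - ((K.obj (op (n + 1))).d q p).hom y') = a.1
        rw [map_sub, hom_comm (tr K n) q p y', hy]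
        exact sub_sub_cancel _ _)
  obtain ⟨x0, hx0⟩ := lim_exists K p (fun n => (z n).1) hz2
  have hx0z : x0 ∈ Zc (limit K) p := by
    rw [AddMonoidHom.mem_ker]
    apply lim_ext K (p + 1)
    intro n
    rw [hom_comm (pr K n) p (p + 1) x0, hx0 n, map_zero]
    exact AddMonoidHom.mem_ker.1 (z n).2
  refine ⟨clsHom _ p ⟨x0, hx0z⟩, fun n => ?_⟩
  rw [map_clsHom, ← hz1 n]
  exact congrArg (clsHom _ p) (Subtype.ext (hx0 n))

omit hK

variable (q : ℤ)

/-- the big group of data -/
def Gsub : AddSubgroup ((∀ n : ℕ, (K.obj (op n)).X q) × (∀ n : ℕ, ↥(Zc (K.obj (op n)) q)) ×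
    ↥(Zc (limit K) (q + 1))) where
  carrier := {g | (∀ n : ℕ, g.1 n - ((tr K n).f q).hom (g.1 (n + 1)) = (g.2.1 n).1) ∧
    (∀ n : ℕ, ((pr K n).f (q + 1)).hom g.2.2.1 = ((K.obj (op n)).d q (q + 1)).hom (g.1 n))}
  zero_mem' := by
    show _ ∧ _
    refine ⟨fun n => ?_, fun n => ?_⟩
    · show (0 : (K.obj (op n)).X q) - ((tr K n).f q).hom 0 = 0
      rw [map_zero, sub_zero]
    · show ((pr K n).f (q + 1)).hom 0 = ((K.obj (op n)).d q (q + 1)).hom 0
      rw [map_zero, map_zero]
  add_mem' := by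
    intro a b ha hb
    obtain ⟨ha1, ha2⟩ := ha
    obtain ⟨hb1, hb2⟩ := hb
    show _ ∧ _
    refine ⟨fun n => ?_, fun n => ?_⟩
    · show (a.1 n + b.1 n) - ((tr K n).f q).hom (a.1 (n + 1) + b.1 (n + 1)) =
        (a.2.1 n).1 + (b.2.1 n).1
      rw [map_add, ← ha1 n, ← hb1 n]; abel
    · show ((pr K n).f (q + 1)).hom (a.2.2.1 + b.2.2.1) =
        ((K.obj (op n)).d q (q + 1)).hom (a.1 n + b.1 n)
      rw [map_add, map_add, ha2 n, hb2 n]
  neg_mem' := by
    intro a ha
    obtain ⟨ha1, ha2⟩ := ha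
    show _ ∧ _
    refine ⟨fun n => ?_, fun n => ?_⟩
    · show (- a.1 n) - ((tr K n).f q).hom (- a.1 (n + 1)) = - (a.2.1 n).1
      rw [map_neg, ← ha1 n]; abel
    · show ((pr K n).f (q + 1)).hom (- a.2.2.1) = ((K.obj (op n)).d q (q + 1)).hom (- a.1 n)
      rw [map_neg, map_neg, ha2 n]

noncomputable def clsPi : Gsub K q →+ (∀ n : ℕ, (K.obj (op n)).homology q) where
  toFun g n := clsHom _ q (g.1.2.1 n)
  map_zero' := by
    funext n
    show clsHom _ q 0 = 0
    exact map_zero _
  map_add' a b := by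
    funext n
    show clsHom _ q (a.1.2.1 n + b.1.2.1 n) = clsHom _ q (a.1.2.1 n) + clsHom _ q (b.1.2.1 n)
    exact map_add _ _ _

noncomputable def alpha : Gsub K q →+
    Formal2.limOne (fun n => (K.obj (op n)).homology q)
      (fun n => (HomologicalComplex.homologyMap (tr K n) q).hom) :=
  (QuotientAddGroup.mk' _).comp (clsPi K q)

noncomputable def beta : Gsub K q →+ (limit K).homology (q + 1) where
  toFun g := clsHom _ (q + 1) g.1.2.2
  map_zero' := by
    show clsHom _ (q + 1) 0 = 0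
    exact map_zero _
  map_add' a b := by
    show clsHom _ (q + 1) (a.1.2.2 + b.1.2.2) = _
    exact map_add _ _ _

/-- classes dying in every level -/
noncomputable def kerAll (p : ℤ) : AddSubgroup ((limit K).homology p) :=
  ⨅ n : ℕ, (HomologicalComplex.homologyMap (pr K n) p).hom.ker

lemma mem_kerAll (p : ℤ) (c : (limit K).homology p) :
    c ∈ kerAll K p ↔ ∀ n : ℕ, (HomologicalComplex.homologyMap (pr K n) p).hom c = 0 := by
  simp only [kerAll, AddSubgroup.mem_iInf, AddMonoidHom.mem_ker]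

lemma range_beta : (beta K q).range = kerAll K (q + 1) := by
  ext c
  rw [AddMonoidHom.mem_range, mem_kerAll]
  constructor
  · rintro ⟨g, rfl⟩ n
    show (HomologicalComplex.homologyMap (pr K n) (q + 1)).hom (clsHom _ (q + 1) g.1.2.2) = 0
    rw [map_clsHom]
    exact (clsHom_eq_zero_iff _ (q + 1) q rfl _).2 ⟨g.1.1 n, (g.2.2 n).symm⟩
  · intro h
    obtain ⟨z, rfl⟩ := clsHom_surjective _ (q + 1) c
    have h' : ∀ n : ℕ, ∃ xn : (K.obj (op n)).X q,
        ((K.obj (op n)).d q (q + 1)).hom xn = ((pr K n).f (q + 1)).hom z.1 := by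
      intro n
      have h1 := h n
      rw [map_clsHom] at h1
      exact (clsHom_eq_zero_iff _ (q + 1) q rfl _).1 h1
    choose x hx using h'
    have hymem : ∀ n : ℕ, x n - ((tr K n).f q).hom (x (n + 1)) ∈ Zc (K.obj (op n)) q := by
      intro n
      rw [AddMonoidHom.mem_ker, map_sub, hx n, ← hom_comm (tr K n) q (q + 1), hx (n + 1),
        pr_comp_apply]
      exact sub_self _
    exact ⟨⟨(x, fun n => ⟨_, hymem n⟩, z), ⟨fun n => rfl, fun n => (hx n).symm⟩⟩, rfl⟩

include hK

lemma alpha_surj : Function.Surjective (alpha K q) := by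
  intro c
  obtain ⟨c, rfl⟩ := QuotientAddGroup.mk_surjective c
  choose y hy using fun n => clsHom_surjective (K.obj (op n)) q (c n)
  obtain ⟨x, hx⟩ := ml_solve K hK q (fun n => (y n).1)
  have hcomp : ∀ n : ℕ, ((tr K n).f (q + 1)).hom (((K.obj (op (n + 1))).d q (q + 1)).hom (x (n + 1))) =
      ((K.obj (op n)).d q (q + 1)).hom (x n) := by
    intro n
    rw [hom_comm (tr K n) q (q + 1)]
    have h1 : ((tr K n).f q).hom (x (n + 1)) = x n - (y n).1 := by rw [← hx n]; abel
    have hy0 : ((K.obj (op n)).d q (q + 1)).hom (y n).1 = 0 := AddMonoidHom.mem_ker.1 (y n).2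
    rw [h1, map_sub, hy0, sub_zero]
  obtain ⟨z0, hz0⟩ := lim_exists K (q + 1) (fun n => ((K.obj (op n)).d q (q + 1)).hom (x n)) hcomp
  have hz0mem : z0 ∈ Zc (limit K) (q + 1) := by
    rw [AddMonoidHom.mem_ker]
    apply lim_ext K (q + 1 + 1)
    intro n
    rw [hom_comm (pr K n) (q + 1) (q + 1 + 1) z0, hz0 n, d_d_apply, map_zero]
  obtain rfl : (fun n => clsHom _ q (y n)) = c := funext hy
  exact ⟨⟨(x, y, ⟨z0, hz0mem⟩), ⟨hx, hz0⟩⟩, rfl⟩

lemma ker_eq : (alpha K q).ker = (beta K q).ker := by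
  ext g
  rw [AddMonoidHom.mem_ker, AddMonoidHom.mem_ker]
  obtain ⟨⟨x, y, z⟩, hg1', hg2'⟩ := g
  have hg1 : ∀ n : ℕ, x n - ((tr K n).f q).hom (x (n + 1)) = (y n).1 := hg1'
  have hg2 : ∀ n : ℕ, ((pr K n).f (q + 1)).hom z.1 = ((K.obj (op n)).d q (q + 1)).hom (x n) := hg2'
  show (QuotientAddGroup.mk (fun n => clsHom _ q (y n)) :
    Formal2.limOne (fun n => (K.obj (op n)).homology q)
      (fun n => (HomologicalComplex.homologyMap (tr K n) q).hom)) = 0 ↔ clsHom _ (q + 1) z = 0
  rw [QuotientAddGroup.eq_zero_iff, AddMonoidHom.mem_range]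
  constructor
  · rintro ⟨e, he⟩
    have he' : ∀ n : ℕ, e n - (HomologicalComplex.homologyMap (tr K n) q).hom (e (n + 1)) =
        clsHom _ q (y n) := fun n => congrFun he n
    choose u hu using fun n => clsHom_surjective (K.obj (op n)) q (e n)
    have hv : ∀ n : ℕ, ∃ v : (K.obj (op n)).X (q - 1),
        ((K.obj (op n)).d (q - 1) q).hom v =
          (y n).1 - (u n).1 + ((tr K n).f q).hom (u (n + 1)).1 := by
      intro n
      have h0 : clsHom _ q (y n - u n + ⟨((tr K n).f q).hom (u (n + 1)).1, map_mem q _ _⟩) = 0 := by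
        rw [map_add, map_sub, ← map_clsHom, hu, hu, ← he' n]; abel
      exact (clsHom_eq_zero_iff _ q (q - 1) (sub_add_cancel q 1) _).1 h0
    choose v hv using hv
    obtain ⟨s, hs⟩ := ml_solve K hK (q - 1) v
    have hw : ∀ n : ℕ, ((tr K n).f q).hom
        (x (n + 1) - (u (n + 1)).1 - ((K.obj (op (n + 1))).d (q - 1) q).hom (s (n + 1))) =
        x n - (u n).1 - ((K.obj (op n)).d (q - 1) q).hom (s n) := by
      intro n
      have h1 : ((tr K n).f q).hom (x (n + 1)) = x n - (y n).1 := by rw [← hg1 n]; abel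
      have h2 : ((tr K n).f (q - 1)).hom (s (n + 1)) = s n - v n := by rw [← hs n]; abel
      rw [map_sub, map_sub, hom_comm (tr K n) (q - 1) q, h1, h2, map_sub, hv n]; abel
    obtain ⟨w0, hw0⟩ := lim_exists K q
      (fun n => x n - (u n).1 - ((K.obj (op n)).d (q - 1) q).hom (s n)) hw
    refine (clsHom_eq_zero_iff _ (q + 1) q rfl _).2 ⟨w0, ?_⟩
    apply lim_ext K (q + 1)
    intro n
    rw [hom_comm (pr K n) q (q + 1) w0, hw0 n, hg2 n, map_sub, map_sub, d_d_apply,
      AddMonoidHom.mem_ker.1 (u n).2, sub_zero, sub_zero]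
  · intro h
    obtain ⟨w0, hw0⟩ := (clsHom_eq_zero_iff _ (q + 1) q rfl _).1 h
    have hu : ∀ n : ℕ, x n - ((pr K n).f q).hom w0 ∈ Zc (K.obj (op n)) q := by
      intro n
      rw [AddMonoidHom.mem_ker, map_sub, ← hom_comm (pr K n) q (q + 1) w0, hw0, ← hg2 n, sub_self]
    refine ⟨fun n => clsHom _ q ⟨_, hu n⟩, ?_⟩
    funext n
    show clsHom _ q ⟨_, hu n⟩ - (HomologicalComplex.homologyMap (tr K n) q).hom
      (clsHom _ q ⟨_, hu (n + 1)⟩) = clsHom _ q (y n)
    rw [map_clsHom, ← map_sub]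
    congr 1
    apply Subtype.ext
    show (x n - ((pr K n).f q).hom w0) - ((tr K n).f q).hom (x (n + 1) - ((pr K (n + 1)).f q).hom w0) =
      (y n).1
    rw [map_sub, pr_comp_apply, ← hg1 n]; abel

theorem kernel_equiv : Nonempty (kerAll K (q + 1) ≃+
    Formal2.limOne (fun n => (K.obj (op n)).homology q)
      (fun n => (HomologicalComplex.homologyMap (tr K n) q).hom)) :=
  ⟨(AddEquiv.addSubgroupCongr (range_beta K q)).symm.trans
    ((QuotientAddGroup.quotientKerEquivRange (beta K q)).symm.trans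
      ((QuotientAddGroup.quotientAddEquivOfEq (ker_eq K hK q).symm).trans
        (QuotientAddGroup.quotientKerEquivOfSurjective (alpha K q) (alpha_surj K hK q))))⟩

theorem main (p q : ℤ) (hqp : q + 1 = p) :
    Function.Surjective (limit.post K (HomologicalComplex.homologyFunctor _ _ p)).hom ∧
      Nonempty ((limit.post K (HomologicalComplex.homologyFunctor _ _ p)).hom.ker ≃+
        Formal2.limOne (fun n => (K.obj (op n)).homology q)
          (fun n => (HomologicalComplex.homologyMap (K.map (homOfLE (Nat.le_succ n)).op) q).hom)) := by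
  subst hqp
  have hpost : ∀ (n : ℕ) (c : (limit K).homology (q + 1)),
      (limit.π (K ⋙ HomologicalComplex.homologyFunctor _ _ (q + 1)) (op n)).hom
        ((limit.post K (HomologicalComplex.homologyFunctor _ _ (q + 1))).hom c)
        = (HomologicalComplex.homologyMap (pr K n) (q + 1)).hom c := fun n c =>
    congrArg (fun f => f.hom c)
      (limit.post_π K (HomologicalComplex.homologyFunctor _ _ (q + 1)) (op n))
  have hext : ∀ a b : ↑(limit (K ⋙ HomologicalComplex.homologyFunctor _ _ (q + 1))),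
      (∀ n : ℕ, (limit.π (K ⋙ HomologicalComplex.homologyFunctor _ _ (q + 1)) (op n)).hom a =
        (limit.π (K ⋙ HomologicalComplex.homologyFunctor _ _ (q + 1)) (op n)).hom b) → a = b :=
    fun a b h => Concrete.limit_ext _ a b (fun j => h j.unop)
  constructor
  · intro y
    obtain ⟨x, hx⟩ := exists_class K hK (q + 1) q rfl
      (fun n => (limit.π (K ⋙ HomologicalComplex.homologyFunctor _ _ (q + 1)) (op n)).hom y)
      (fun n => congrArg (fun f => f.hom y)
        (limit.w (K ⋙ HomologicalComplex.homologyFunctor _ _ (q + 1))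
          (homOfLE (Nat.le_succ n)).op))
    exact ⟨x, hext _ _ (fun n => by rw [hpost, hx])⟩
  · have hker : (limit.post K (HomologicalComplex.homologyFunctor _ _ (q + 1))).hom.ker =
        kerAll K (q + 1) := by
      refine AddSubgroup.ext (fun c => ?_)
      constructor
      · intro h
        exact (mem_kerAll K (q + 1) c).2
          (fun n => by rw [← hpost, AddMonoidHom.mem_ker.1 h, map_zero]; rfl)
      · intro h
        refine AddMonoidHom.mem_ker.2 (hext _ _ (fun n => ?_))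
        rw [hpost, (mem_kerAll K (q + 1) c).1 h n, map_zero]
        rfl
    obtain ⟨e⟩ := kernel_equiv K hK q
    exact ⟨(AddEquiv.addSubgroupCongr hker).trans e⟩

end tower

end Groth.Agent.Lib.Milnor_helper7
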