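import Mathlib
import Groth.Prelude.Def_CohCx
import Groth.Agent.Lib.Milnor_helper7
import Groth.Agent.Lib.MLLimOne_helper7

/-!
# Cohomology of a limit of a tower of complexes of abelian groups (helper7)

For a tower `Cn` of complexes of abelian groups with a "limit" `CL` (sections are exactly the
compatible families), vanishing of `R¹lim` of `Cn^{m-2}`, `Cn^{m-1}` and `H^{m-1}(Cn)`, and
eventually constant `H^m(Cn)`, give `H^m(CL) ≅ H^m(C_{n₀})`.
-/

set_option autoImplicit false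
universe u
open CategoryTheory CategoryTheory.Limits Opposite

namespace Groth.Agent.Lib.LimCxAlg_helper7

open Groth.Agent.Lib.Milnor_helper7 Groth.Agent.Lib.MLLimOneH7

section grp

variable {A : Type*} [AddCommGroup A]

lemma grp1 (a a' ds ds' : A) (h : ds - ds' = a - a') : a' - ds' = a - ds := by
  have e : a = ds - ds' + a' := by rw [h]; abel
  rw [e]; abel

lemma grp2 (Y Y' W W' dU dU' : A) (h : dU - dU' = (Y - Y') - (W - W')) :
    Y' - W' - dU' = Y - W - dU := by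
  have e : dU = (Y - Y') - (W - W') + dU' := by rw [← h]; abel
  rw [e]; abel

end grp

lemma bijective_of_isIso_ab {A B : AddCommGrpCat.{u}} (f : A ⟶ B) [IsIso f] :
    Function.Bijective f.hom :=
  Function.bijective_iff_has_inverse.2 ⟨(inv f).hom,
    fun x => congrArg (fun κ : A ⟶ A => κ.hom x) (IsIso.hom_inv_id f),
    fun x => congrArg (fun κ : B ⟶ B => κ.hom x) (IsIso.inv_hom_id f)⟩

lemma map_transition {T₁ : Type*} {T₂ : Type*} [Category T₁] [Category T₂] (G : T₁ ⥤ T₂)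
    (K : ℕ → T₁) (t : ∀ n, K (n + 1) ⟶ K n) (n : ℕ) :
    ∀ k, G.map (CohCx.transition K t n k) =
      CohCx.transition (fun i => G.obj (K i)) (fun i => G.map (t i)) n k := by
  intro k
  induction k with
  | zero => exact G.map_id _
  | succ k ih =>
    show G.map (t (n + k) ≫ CohCx.transition K t n k) =
      G.map (t (n + k)) ≫ CohCx.transition (fun i => G.obj (K i)) (fun i => G.map (t i)) n k
    rw [G.map_comp, ih]

section family

variable (G : ℕ → Type u) [∀ n, AddCommGroup (G n)] (g : ∀ n, G (n + 1) →+ G n)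

lemma T_step (n N : ℕ) (h : n ≤ N) (x : G (N + 1)) :
    T G g (h.trans (Nat.le_succ N)) x = T G g h (g N x) := by
  have e : g N x = T G g (Nat.le_add_right N 1) x := by rw [T_succ]
  rw [e]
  exact (T_comp G g h (Nat.le_add_right N 1) x).symm

lemma g_T (n M : ℕ) (h : n + 1 ≤ M) (x : G M) :
    g n (T G g h x) = T G g ((Nat.le_succ n).trans h) x := by
  have e : g n (T G g h x) = T G g (Nat.le_add_right n 1) (T G g h x) := by rw [T_succ]
  rw [e]
  exact T_comp G g _ h x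

lemma compat_T (d : ∀ n, G n) (hd : ∀ n, g n (d (n + 1)) = d n) :
    ∀ (n N : ℕ) (h : n ≤ N), T G g h (d N) = d n := by
  intro n N h
  induction N, h using Nat.le_induction with
  | base => exact T_refl G g n (d n)
  | succ N hN ih =>
    refine (T_step G g n N hN (d (N + 1))).trans ?_
    rw [hd N]
    exact ih

lemma exists_family (n₀ : ℕ) (hiso : ∀ n (h : n₀ ≤ n), Function.Bijective (T G g h)) (c₀ : G n₀) :
    ∃ c : ∀ n, G n, (∀ n, g n (c (n + 1)) = c n) ∧ c n₀ = c₀ := by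
  have hP : ∀ N (h : n₀ ≤ N), ∃ P : G N, T G g h P = c₀ := fun N h => (hiso N h).2 c₀
  choose P hP using hP
  have hPP : ∀ N N' (h : n₀ ≤ N) (h' : N ≤ N'), T G g h' (P N' (h.trans h')) = P N h := by
    intro N N' h h'
    apply (hiso N h).1
    rw [T_comp, hP, hP]
  refine ⟨fun n => T G g (le_max_left n n₀) (P (max n n₀) (le_max_right n n₀)), fun n => ?_, ?_⟩
  · have hmm : max n n₀ ≤ max (n + 1) n₀ := max_le_max (Nat.le_succ n) le_rfl
    show g n (T G g (le_max_left (n + 1) n₀) (P (max (n + 1) n₀) (le_max_right (n + 1) n₀))) =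
      T G g (le_max_left n n₀) (P (max n n₀) (le_max_right n n₀))
    refine (g_T G g n _ (le_max_left (n + 1) n₀) _).trans ?_
    have e2 := hPP (max n n₀) (max (n + 1) n₀) (le_max_right n n₀) hmm
    rw [← e2, T_comp]
  · exact hP (max n₀ n₀) (le_max_right n₀ n₀)

lemma family_zero (n₀ : ℕ) (hiso : ∀ n (h : n₀ ≤ n), Function.Bijective (T G g h))
    (d : ∀ n, G n) (hd : ∀ n, g n (d (n + 1)) = d n) (h0 : d n₀ = 0) : ∀ n, d n = 0 := by
  intro n
  have h1 : d (max n n₀) = 0 := by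
    apply (hiso (max n n₀) (le_max_right n n₀)).1
    rw [compat_T G g d hd n₀ (max n n₀) (le_max_right n n₀), h0, map_zero]
  rw [← compat_T G g d hd n (max n n₀) (le_max_left n n₀), h1, map_zero]

end family

section tower

variable (Cn : ℕ → Cx.{u}) (τ : ∀ n, Cn (n + 1) ⟶ Cn n) (CL : Cx.{u}) (p : ∀ n, CL ⟶ Cn n)

lemma p_compat (hp : ∀ n, p (n + 1) ≫ τ n = p n) (n : ℕ) (j : ℤ) (w : CL.X j) :
    ((τ n).f j).hom (((p (n + 1)).f j).hom w) = ((p n).f j).hom w :=
  congrArg (fun φ : CL ⟶ Cn n => (φ.f j).hom w) (hp n)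

lemma T_eq_transition (m : ℤ) (n₀ : ℕ) : ∀ (k : ℕ) (x : (Cn (n₀ + k)).homology m),
    T (fun n => (Cn n).homology m) (fun n => (HomologicalComplex.homologyMap (τ n) m).hom)
      (Nat.le_add_right n₀ k) x =
    (HomologicalComplex.homologyMap (CohCx.transition Cn τ n₀ k) m).hom x := by
  intro k
  induction k with
  | zero =>
    intro x
    have h1 : HomologicalComplex.homologyMap (CohCx.transition Cn τ n₀ 0) m = 𝟙 _ :=
      HomologicalComplex.homologyMap_id (Cn n₀) m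
    have h2 : (HomologicalComplex.homologyMap (CohCx.transition Cn τ n₀ 0) m).hom x = x :=
      congrArg (fun f => f.hom x) h1
    exact (T_refl (fun n => (Cn n).homology m)
      (fun n => (HomologicalComplex.homologyMap (τ n) m).hom) n₀ x).trans h2.symm
  | succ k ih =>
    intro x
    have h1 : HomologicalComplex.homologyMap (CohCx.transition Cn τ n₀ (k + 1)) m =
        HomologicalComplex.homologyMap (τ (n₀ + k)) m ≫
          HomologicalComplex.homologyMap (CohCx.transition Cn τ n₀ k) m :=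
      HomologicalComplex.homologyMap_comp (τ (n₀ + k)) (CohCx.transition Cn τ n₀ k) m
    have h2 : (HomologicalComplex.homologyMap (CohCx.transition Cn τ n₀ (k + 1)) m).hom x =
        (HomologicalComplex.homologyMap (CohCx.transition Cn τ n₀ k) m).hom
          ((HomologicalComplex.homologyMap (τ (n₀ + k)) m).hom x) :=
      congrArg (fun f => f.hom x) h1
    refine Eq.trans ?_ h2.symm
    refine (T_step (fun n => (Cn n).homology m)
      (fun n => (HomologicalComplex.homologyMap (τ n) m).hom) n₀ (n₀ + k) (Nat.le_add_right n₀ k) x).trans ?_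
    exact ih ((HomologicalComplex.homologyMap (τ (n₀ + k)) m).hom x)

lemma hiso_of_hc (m : ℤ) (n₀ : ℕ)
    (hc : ∀ k : ℕ, IsIso (HomologicalComplex.homologyMap (CohCx.transition Cn τ n₀ k) m)) :
    ∀ n (h : n₀ ≤ n), Function.Bijective
      (T (fun n => (Cn n).homology m) (fun n => (HomologicalComplex.homologyMap (τ n) m).hom) h) := by
  intro n h
  obtain ⟨k, rfl⟩ := Nat.exists_eq_add_of_le h
  haveI := hc k
  have hb := bijective_of_isIso_ab (HomologicalComplex.homologyMap (CohCx.transition Cn τ n₀ k) m)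
  have he : ∀ x, T (fun n => (Cn n).homology m)
      (fun n => (HomologicalComplex.homologyMap (τ n) m).hom) h x =
      (HomologicalComplex.homologyMap (CohCx.transition Cn τ n₀ k) m).hom x :=
    fun x => T_eq_transition Cn τ m n₀ k x
  constructor
  · intro x x' hxx'
    apply hb.1
    exact ((he x).symm.trans hxx').trans (he x')
  · intro y
    obtain ⟨x, hx⟩ := hb.2 y
    exact ⟨x, (he x).trans hx⟩

variable (hp : ∀ n, p (n + 1) ≫ τ n = p n)
  (hext : ∀ (j : ℤ) (y y' : CL.X j), (∀ n, ((p n).f j).hom y = ((p n).f j).hom y') → y = y')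
  (hex : ∀ (j : ℤ) (c : ∀ n, (Cn n).X j), (∀ n, ((τ n).f j).hom (c (n + 1)) = c n) →
    ∃ y : CL.X j, ∀ n, ((p n).f j).hom y = c n)

include hp hext hex in
lemma exists_cocycle (q : ℤ)
    (h1 : CohCx.LimOneIsZero (fun n => (Cn n).X (q + 1)) (fun n => ((τ n).f (q + 1)).hom))
    (c : ∀ n, (Cn n).homology (q + 1 + 1))
    (hcomp : ∀ n, (HomologicalComplex.homologyMap (τ n) (q + 1 + 1)).hom (c (n + 1)) = c n) :
    ∃ z : Zc CL (q + 1 + 1), ∀ n,
      clsHom (Cn n) (q + 1 + 1)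
        ⟨((p n).f (q + 1 + 1)).hom z.1, map_mem (q + 1 + 1) (p n) z⟩ = c n := by
  have hx : ∀ n, ∃ x : Zc (Cn n) (q + 1 + 1), clsHom (Cn n) (q + 1 + 1) x = c n :=
    fun n => clsHom_surjective (Cn n) (q + 1 + 1) (c n)
  choose x hx using hx
  have hr : ∀ n, ∃ r : (Cn n).X (q + 1),
      ((Cn n).d (q + 1) (q + 1 + 1)).hom r =
        (x n).1 - ((τ n).f (q + 1 + 1)).hom (x (n + 1)).1 := by
    intro n
    have hz : clsHom (Cn n) (q + 1 + 1)
        (x n - ⟨((τ n).f (q + 1 + 1)).hom (x (n + 1)).1,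
          map_mem (q + 1 + 1) (τ n) (x (n + 1))⟩) = 0 := by
      rw [map_sub, hx n, ← map_clsHom (q + 1 + 1) (τ n) (x (n + 1)), hx (n + 1), hcomp n, sub_self]
    obtain ⟨r, hr⟩ := (clsHom_eq_zero_iff (Cn n) (q + 1 + 1) (q + 1) rfl _).1 hz
    exact ⟨r, hr⟩
  choose r hr using hr
  obtain ⟨s, hs⟩ := h1 r
  have hs' : ∀ n, s n - ((τ n).f (q + 1)).hom (s (n + 1)) = r n := fun n => congrFun hs n
  have hx'c : ∀ n, ((τ n).f (q + 1 + 1)).hom
      ((x (n + 1)).1 - ((Cn (n + 1)).d (q + 1) (q + 1 + 1)).hom (s (n + 1))) =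
      (x n).1 - ((Cn n).d (q + 1) (q + 1 + 1)).hom (s n) := by
    intro n
    have h3 : ((Cn n).d (q + 1) (q + 1 + 1)).hom (s n) -
        ((Cn n).d (q + 1) (q + 1 + 1)).hom (((τ n).f (q + 1)).hom (s (n + 1))) =
        (x n).1 - ((τ n).f (q + 1 + 1)).hom (x (n + 1)).1 := by
      rw [← map_sub, hs' n]
      exact hr n
    rw [map_sub, hom_comm (τ n) (q + 1) (q + 1 + 1) (s (n + 1))]
    exact grp1 _ _ _ _ h3
  obtain ⟨z, hz⟩ := hex (q + 1 + 1)
    (fun n => (x n).1 - ((Cn n).d (q + 1) (q + 1 + 1)).hom (s n)) hx'c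
  have hz' : ∀ n, ((p n).f (q + 1 + 1)).hom z =
      (x n).1 - ((Cn n).d (q + 1) (q + 1 + 1)).hom (s n) := hz
  have hzc : z ∈ Zc CL (q + 1 + 1) := by
    refine AddMonoidHom.mem_ker.2 ?_
    apply hext (q + 1 + 1 + 1)
    intro n
    refine (hom_comm (p n) (q + 1 + 1) (q + 1 + 1 + 1) z).trans ?_
    rw [hz' n, map_sub, AddMonoidHom.mem_ker.1 (x n).2, d_d_apply, sub_zero, map_zero]
  refine ⟨⟨z, hzc⟩, fun n => ?_⟩
  have e : (⟨((p n).f (q + 1 + 1)).hom z, map_mem (q + 1 + 1) (p n) ⟨z, hzc⟩⟩ :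
      Zc (Cn n) (q + 1 + 1)) =
      x n - ⟨((Cn n).d (q + 1) (q + 1 + 1)).hom (s n),
        d_mem (Cn n) (q + 1 + 1) (q + 1) (s n)⟩ :=
    Subtype.ext (hz' n)
  refine (congrArg (clsHom (Cn n) (q + 1 + 1)) e).trans ?_
  rw [map_sub, hx n,
    (clsHom_eq_zero_iff (Cn n) (q + 1 + 1) (q + 1) rfl _).2 ⟨s n, rfl⟩, sub_zero]

include hp hext hex in
lemma exists_primitive (q : ℤ)
    (h2 : CohCx.LimOneIsZero (fun n => (Cn n).X q) (fun n => ((τ n).f q).hom))
    (hH : CohCx.LimOneIsZero (fun n => (Cn n).homology (q + 1))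
      (fun n => (HomologicalComplex.homologyMap (τ n) (q + 1)).hom))
    (z : Zc CL (q + 1 + 1))
    (hz0 : ∀ n, clsHom (Cn n) (q + 1 + 1)
      ⟨((p n).f (q + 1 + 1)).hom z.1, map_mem (q + 1 + 1) (p n) z⟩ = 0) :
    ∃ b : CL.X (q + 1), (CL.d (q + 1) (q + 1 + 1)).hom b = z.1 := by
  have hy : ∀ n, ∃ y : (Cn n).X (q + 1),
      ((Cn n).d (q + 1) (q + 1 + 1)).hom y = ((p n).f (q + 1 + 1)).hom z.1 :=
    fun n => (clsHom_eq_zero_iff (Cn n) (q + 1 + 1) (q + 1) rfl _).1 (hz0 n)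
  choose y hy using hy
  have he : ∀ n, y n - ((τ n).f (q + 1)).hom (y (n + 1)) ∈ Zc (Cn n) (q + 1) := by
    intro n
    refine AddMonoidHom.mem_ker.2 ?_
    rw [map_sub, ← hom_comm (τ n) (q + 1) (q + 1 + 1) (y (n + 1)), hy n, hy (n + 1),
      p_compat Cn τ CL p hp n (q + 1 + 1) z.1, sub_self]
  obtain ⟨hcl, hhcl⟩ := hH (fun n => clsHom (Cn n) (q + 1) ⟨_, he n⟩)
  have hhcl' : ∀ n, hcl n - (HomologicalComplex.homologyMap (τ n) (q + 1)).hom (hcl (n + 1)) =
      clsHom (Cn n) (q + 1) ⟨_, he n⟩ := fun n => congrFun hhcl n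
  have hw : ∀ n, ∃ w : Zc (Cn n) (q + 1), clsHom (Cn n) (q + 1) w = hcl n :=
    fun n => clsHom_surjective (Cn n) (q + 1) (hcl n)
  choose w hw using hw
  have hv : ∀ n, ∃ v : (Cn n).X q, ((Cn n).d q (q + 1)).hom v =
      (y n - ((τ n).f (q + 1)).hom (y (n + 1))) -
        ((w n).1 - ((τ n).f (q + 1)).hom (w (n + 1)).1) := by
    intro n
    have hz : clsHom (Cn n) (q + 1) ((⟨_, he n⟩ : Zc (Cn n) (q + 1)) -
        (w n - ⟨((τ n).f (q + 1)).hom (w (n + 1)).1,
          map_mem (q + 1) (τ n) (w (n + 1))⟩)) = 0 := by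
      rw [map_sub, map_sub, hw n, ← map_clsHom (q + 1) (τ n) (w (n + 1)), hw (n + 1), hhcl' n,
        sub_self]
    obtain ⟨v, hv⟩ := (clsHom_eq_zero_iff (Cn n) (q + 1) q rfl _).1 hz
    exact ⟨v, hv⟩
  choose v hv using hv
  obtain ⟨uu, huu⟩ := h2 v
  have huu' : ∀ n, uu n - ((τ n).f q).hom (uu (n + 1)) = v n := fun n => congrFun huu n
  have hy'c : ∀ n, ((τ n).f (q + 1)).hom
      (y (n + 1) - (w (n + 1)).1 - ((Cn (n + 1)).d q (q + 1)).hom (uu (n + 1))) =
      y n - (w n).1 - ((Cn n).d q (q + 1)).hom (uu n) := by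
    intro n
    have h3 : ((Cn n).d q (q + 1)).hom (uu n) -
        ((Cn n).d q (q + 1)).hom (((τ n).f q).hom (uu (n + 1))) =
        (y n - ((τ n).f (q + 1)).hom (y (n + 1))) -
          ((w n).1 - ((τ n).f (q + 1)).hom (w (n + 1)).1) := by
      rw [← map_sub, huu' n]
      exact hv n
    rw [map_sub, map_sub, hom_comm (τ n) q (q + 1) (uu (n + 1))]
    exact grp2 _ _ _ _ _ _ h3
  obtain ⟨b, hb⟩ := hex (q + 1)
    (fun n => y n - (w n).1 - ((Cn n).d q (q + 1)).hom (uu n)) hy'c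
  have hb' : ∀ n, ((p n).f (q + 1)).hom b =
      y n - (w n).1 - ((Cn n).d q (q + 1)).hom (uu n) := hb
  refine ⟨b, ?_⟩
  apply hext (q + 1 + 1)
  intro n
  refine (hom_comm (p n) (q + 1) (q + 1 + 1) b).trans ?_
  rw [hb' n, map_sub, map_sub, hy n, AddMonoidHom.mem_ker.1 (w n).2, d_d_apply, sub_zero,
    sub_zero]

include hp hext hex in
theorem alg_bijective (q : ℤ)
    (h2 : CohCx.LimOneIsZero (fun n => (Cn n).X q) (fun n => ((τ n).f q).hom))
    (h1 : CohCx.LimOneIsZero (fun n => (Cn n).X (q + 1)) (fun n => ((τ n).f (q + 1)).hom))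
    (hH : CohCx.LimOneIsZero (fun n => (Cn n).homology (q + 1))
      (fun n => (HomologicalComplex.homologyMap (τ n) (q + 1)).hom))
    (n₀ : ℕ)
    (hiso : ∀ n (h : n₀ ≤ n), Function.Bijective
      (T (fun n => (Cn n).homology (q + 1 + 1))
        (fun n => (HomologicalComplex.homologyMap (τ n) (q + 1 + 1)).hom) h)) :
    Function.Bijective (HomologicalComplex.homologyMap (p n₀) (q + 1 + 1)).hom := by
  have hHp : ∀ n (c : CL.homology (q + 1 + 1)),
      (HomologicalComplex.homologyMap (τ n) (q + 1 + 1)).hom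
        ((HomologicalComplex.homologyMap (p (n + 1)) (q + 1 + 1)).hom c) =
      (HomologicalComplex.homologyMap (p n) (q + 1 + 1)).hom c := by
    intro n c
    have e : HomologicalComplex.homologyMap (p (n + 1)) (q + 1 + 1) ≫
        HomologicalComplex.homologyMap (τ n) (q + 1 + 1) =
        HomologicalComplex.homologyMap (p n) (q + 1 + 1) := by
      rw [← HomologicalComplex.homologyMap_comp, hp n]
    exact congrArg (fun f => f.hom c) e
  constructor
  · refine (injective_iff_map_eq_zero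
      (HomologicalComplex.homologyMap (p n₀) (q + 1 + 1)).hom).2 (fun c hc0 => ?_)
    obtain ⟨z, rfl⟩ := clsHom_surjective CL (q + 1 + 1) c
    have hall := family_zero _ _ n₀ hiso
      (fun n => (HomologicalComplex.homologyMap (p n) (q + 1 + 1)).hom (clsHom CL (q + 1 + 1) z))
      (fun n => hHp n _) hc0
    have hz0 : ∀ n, clsHom (Cn n) (q + 1 + 1)
        ⟨((p n).f (q + 1 + 1)).hom z.1, map_mem (q + 1 + 1) (p n) z⟩ = 0 := by
      intro n
      rw [← map_clsHom (q + 1 + 1) (p n) z]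
      exact hall n
    obtain ⟨b, hb⟩ := exists_primitive Cn τ CL p hp hext hex q h2 hH z hz0
    exact (clsHom_eq_zero_iff CL (q + 1 + 1) (q + 1) rfl z).2 ⟨b, hb⟩
  · intro c₀
    obtain ⟨c, hcc, hc0⟩ := exists_family _ _ n₀ hiso c₀
    obtain ⟨z, hz⟩ := exists_cocycle Cn τ CL p hp hext hex q h1 c hcc
    refine ⟨clsHom CL (q + 1 + 1) z, ?_⟩
    rw [map_clsHom (q + 1 + 1) (p n₀) z, hz n₀, hc0]

include hp hext hex in
theorem alg_main (m m1 m2 : ℤ) (e1 : m1 + 1 = m) (e2 : m2 + 1 = m1)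
    (h2 : CohCx.LimOneIsZero (fun n => (Cn n).X m2) (fun n => ((τ n).f m2).hom))
    (h1 : CohCx.LimOneIsZero (fun n => (Cn n).X m1) (fun n => ((τ n).f m1).hom))
    (hH : CohCx.LimOneIsZero (fun n => (Cn n).homology m1)
      (fun n => (HomologicalComplex.homologyMap (τ n) m1).hom))
    (n₀ : ℕ)
    (hc : ∀ k : ℕ, IsIso (HomologicalComplex.homologyMap (CohCx.transition Cn τ n₀ k) m)) :
    Function.Bijective (HomologicalComplex.homologyMap (p n₀) m).hom := by
  subst e2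
  subst e1
  exact alg_bijective Cn τ CL p hp hext hex m2 h2 h1 hH n₀ (hiso_of_hc Cn τ (m2 + 1 + 1) n₀ hc)

end tower

end Groth.Agent.Lib.LimCxAlg_helper7
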