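import Mathlib
import Groth.Prelude.Def_CohCx
import Groth.Prelude.Def_FreeSh
import Groth.Prelude.Def_CohSite
import Groth.Prelude.Def_CohTop
import Groth.Agent.Lib.LimCxAlg_helper7

/-!
# Cohomology sheaves of a termwise limit of a tower of complexes of abelian sheaves (helper7)
-/

set_option autoImplicit false
universe u
open CategoryTheory CategoryTheory.Limits Opposite TopologicalSpace

namespace Groth.Agent.Lib.LimCxSheaf_helper7

open Groth.Agent.Lib.Milnor_helper7 Groth.Agent.Lib.LimCxAlg_helper7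

variable {C : Type u} [SmallCategory C] {J : GrothendieckTopology C}

section basic

lemma evalGen_comp {T : C} {M M' : Sheaf J AddCommGrpCat.{u}} (y : CohCx.freeSheaf J T ⟶ M)
    (φ : M ⟶ M') :
    CohFree.evalGen J T M' (y ≫ φ) = (φ.hom.app (op T)).hom (CohFree.evalGen J T M y) := rfl

lemma hom_ext_evalGen {T : C} {M : Sheaf J AddCommGrpCat.{u}} (y y' : CohCx.freeSheaf J T ⟶ M)
    (hy : CohFree.evalGen J T M y = CohFree.evalGen J T M y') : y = y' :=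
  (CohFree.homEquivSect J T M).injective hy

lemma eq_zero_of_cover (F : Sheaf J AddCommGrpCat.{u}) {V : C} (S : Sieve V) (hS : S ∈ J V)
    (s : F.obj.obj (op V))
    (h : ∀ ⦃W : C⦄ (g : W ⟶ V), S g → (F.obj.map g.op).hom s = 0) : s = 0 := by
  have h1 : Presheaf.IsSheaf J (F.obj ⋙ forget AddCommGrpCat.{u}) :=
    (Presheaf.isSheaf_iff_isSheaf_forget J F.obj (forget AddCommGrpCat.{u})).1 F.property
  have h2 : Presieve.IsSheaf J (F.obj ⋙ forget AddCommGrpCat.{u}) :=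
    (isSheaf_iff_isSheaf_of_type _ _).1 h1
  refine (h2 S hS).isSeparatedFor.ext (fun W g hg => ?_)
  exact (h g hg).trans (map_zero (F.obj.map g.op).hom).symm

/-- a morphism from a free sheaf which vanishes locally vanishes -/
lemma hom_eq_zero_of_cover {V : C} {M : Sheaf J AddCommGrpCat.{u}} (σ : CohCx.freeSheaf J V ⟶ M)
    (S : Sieve V) (hS : S ∈ J V)
    (h : ∀ ⦃W : C⦄ (g : W ⟶ V), S g → CohCx.freeSheafMap J g ≫ σ = 0) : σ = 0 := by
  apply hom_ext_evalGen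
  rw [map_zero]
  apply eq_zero_of_cover M S hS
  intro W g hg
  rw [← CohFree.evalGen_freeSheafMap_comp J g M σ, h g hg, map_zero]

/-- local lifting of sections along an epimorphism, in terms of morphisms from the free sheaves -/
lemma locLift' {B B' : Sheaf J AddCommGrpCat.{u}} (ψ : B ⟶ B') [Epi ψ] {T : C}
    (q₀ : CohCx.freeSheaf J T ⟶ B') :
    ∃ S : Sieve T, S ∈ J T ∧ ∀ ⦃T' : C⦄ (g : T' ⟶ T), S g →
      ∃ t : CohCx.freeSheaf J T' ⟶ B, CohCx.freeSheafMap J g ≫ q₀ = t ≫ ψ := by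
  haveI : Presheaf.IsLocallySurjective J ψ.hom :=
    (Sheaf.isLocallySurjective_iff_epi' _ ψ).2 inferInstance
  refine ⟨Presheaf.imageSieve ψ.hom (CohFree.evalGen J T B' q₀),
    Presheaf.imageSieve_mem J ψ.hom _, ?_⟩
  rintro T' g ⟨t, ht⟩
  have ht' : (ψ.hom.app (op T')).hom t = (B'.obj.map g.op).hom (CohFree.evalGen J T B' q₀) := ht
  refine ⟨CohFree.ofSect J T' B t, ?_⟩
  apply hom_ext_evalGen
  refine (CohFree.evalGen_freeSheafMap_comp J g B' q₀).trans ?_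
  rw [← ht']
  show _ = (ψ.hom.app (op T')).hom (CohFree.evalGen J T' B (CohFree.ofSect J T' B t))
  rw [CohFree.evalGen_ofSect]

end basic

section mcl

variable (K : CochainComplex (Sheaf J AddCommGrpCat.{u}) ℤ) (m : ℤ)

/-- the class of a cocycle `ζ : A ⟶ K^m` in `H^m(K)` -/
noncomputable def mcl {A : Sheaf J AddCommGrpCat.{u}} (ζ : A ⟶ K.X m)
    (hζ : ζ ≫ K.d m (m + 1) = 0) : A ⟶ K.homology m :=
  K.liftCycles ζ (m + 1) (CochainComplex.next ℤ m) hζ ≫ K.homologyπ m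

lemma cocycle_map {K K' : CochainComplex (Sheaf J AddCommGrpCat.{u}) ℤ} (φ : K ⟶ K') (m : ℤ)
    {A : Sheaf J AddCommGrpCat.{u}} (ζ : A ⟶ K.X m) (hζ : ζ ≫ K.d m (m + 1) = 0) :
    (ζ ≫ φ.f m) ≫ K'.d m (m + 1) = 0 := by
  rw [Category.assoc, φ.comm, ← Category.assoc, hζ, zero_comp]

lemma mcl_map {K K' : CochainComplex (Sheaf J AddCommGrpCat.{u}) ℤ} (φ : K ⟶ K') (m : ℤ)
    {A : Sheaf J AddCommGrpCat.{u}} (ζ : A ⟶ K.X m) (hζ : ζ ≫ K.d m (m + 1) = 0)
    (hζ' : (ζ ≫ φ.f m) ≫ K'.d m (m + 1) = 0) :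
    mcl K m ζ hζ ≫ HomologicalComplex.homologyMap φ m = mcl K' m (ζ ≫ φ.f m) hζ' := by
  unfold mcl
  rw [Category.assoc, HomologicalComplex.homologyπ_naturality, ← Category.assoc,
    HomologicalComplex.liftCycles_comp_cyclesMap]

lemma comp_mcl {A A' : Sheaf J AddCommGrpCat.{u}} (α : A' ⟶ A) (ζ : A ⟶ K.X m)
    (hζ : ζ ≫ K.d m (m + 1) = 0) (hζ' : (α ≫ ζ) ≫ K.d m (m + 1) = 0) :
    α ≫ mcl K m ζ hζ = mcl K m (α ≫ ζ) hζ' := by
  unfold mcl
  rw [← Category.assoc, HomologicalComplex.comp_liftCycles]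

lemma mcl_boundary (m' : ℤ) {A : Sheaf J AddCommGrpCat.{u}} (β : A ⟶ K.X m') (ζ : A ⟶ K.X m)
    (hζ : ζ ≫ K.d m (m + 1) = 0) (h : ζ = β ≫ K.d m' m) : mcl K m ζ hζ = 0 := by
  unfold mcl
  exact K.liftCycles_homologyπ_eq_zero_of_boundary ζ (m + 1) (CochainComplex.next ℤ m) β h

lemma mcl_eq_of_boundary (m' : ℤ) (hm : m' + 1 = m) {A : Sheaf J AddCommGrpCat.{u}}
    (ζ ζ' : A ⟶ K.X m) (hζ : ζ ≫ K.d m (m + 1) = 0) (hζ' : ζ' ≫ K.d m (m + 1) = 0)
    (β : A ⟶ K.X m') (h : ζ = ζ' + β ≫ K.d m' m) : mcl K m ζ hζ = mcl K m ζ' hζ' := by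
  unfold mcl
  refine (K.liftCycles_comp_homologyπ_eq_iff_up_to_refinements m' m (m + 1)
    ((ComplexShape.up ℤ).prev_eq' hm) (CochainComplex.next ℤ m) ζ ζ' hζ hζ').2
    ⟨A, 𝟙 A, inferInstance, β, ?_⟩
  rw [Category.id_comp, Category.id_comp]
  exact h

lemma loc_boundary_of_mcl_eq_zero (m' : ℤ) (hm : m' + 1 = m) {W : C}
    (ζ : CohCx.freeSheaf J W ⟶ K.X m) (hζ : ζ ≫ K.d m (m + 1) = 0)
    (h0 : mcl K m ζ hζ = 0) :
    ∃ S : Sieve W, S ∈ J W ∧ ∀ ⦃V : C⦄ (g : V ⟶ W), S g →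
      ∃ β : CohCx.freeSheaf J V ⟶ K.X m', CohCx.freeSheafMap J g ≫ ζ = β ≫ K.d m' m := by
  obtain ⟨A', π, hπ, x₁, hx₁⟩ :=
    (K.liftCycles_comp_homologyπ_eq_zero_iff_up_to_refinements m' m (m + 1)
      ((ComplexShape.up ℤ).prev_eq' hm) (CochainComplex.next ℤ m) ζ hζ).1 h0
  haveI := hπ
  obtain ⟨S, hS, hS'⟩ := locLift' π (𝟙 (CohCx.freeSheaf J W))
  refine ⟨S, hS, fun V g hg => ?_⟩
  obtain ⟨t, ht⟩ := hS' g hg
  refine ⟨t ≫ x₁, ?_⟩
  rw [Category.comp_id] at ht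
  rw [ht, Category.assoc, hx₁, Category.assoc]

lemma loc_mcl {U : C} (σ : CohCx.freeSheaf J U ⟶ K.homology m) :
    ∃ S : Sieve U, S ∈ J U ∧ ∀ ⦃V : C⦄ (g : V ⟶ U), S g →
      ∃ (ζ : CohCx.freeSheaf J V ⟶ K.X m) (hζ : ζ ≫ K.d m (m + 1) = 0),
        CohCx.freeSheafMap J g ≫ σ = mcl K m ζ hζ := by
  obtain ⟨A', π, hπ, z, hz, hzz⟩ :=
    K.eq_liftCycles_homologyπ_up_to_refinements σ (m + 1) (CochainComplex.next ℤ m)
  haveI := hπ
  obtain ⟨S, hS, hS'⟩ := locLift' π (𝟙 (CohCx.freeSheaf J U))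
  refine ⟨S, hS, fun V g hg => ?_⟩
  obtain ⟨t, ht⟩ := hS' g hg
  rw [Category.comp_id] at ht
  have hc : (t ≫ z) ≫ K.d m (m + 1) = 0 := by rw [Category.assoc, hz, comp_zero]
  refine ⟨t ≫ z, hc, ?_⟩
  rw [ht, Category.assoc, hzz]
  exact comp_mcl K m t z hz hc

end mcl

section iso

variable {K K' : CochainComplex (Sheaf J AddCommGrpCat.{u}) ℤ} (φ : K ⟶ K') (m m' : ℤ)
  (hm : m' + 1 = m) (B : Set C)
  (hB : ∀ U : C, ∃ (ι : Type u) (Y : ι → C) (f : ∀ i, Y i ⟶ U),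
    Sieve.ofArrows Y f ∈ J U ∧ ∀ i, Y i ∈ B)
  (θ : K.homology m ⟶ K'.homology m)
  (hθ : ∀ {A : Sheaf J AddCommGrpCat.{u}} (ζ : A ⟶ K.X m) (hζ : ζ ≫ K.d m (m + 1) = 0)
    (hζ' : (ζ ≫ φ.f m) ≫ K'.d m (m + 1) = 0), mcl K m ζ hζ ≫ θ = mcl K' m (ζ ≫ φ.f m) hζ')

include hm hB hθ in
lemma key_vanish
    (Hinj : ∀ W ∈ B, ∀ (ζ : CohCx.freeSheaf J W ⟶ K.X m), ζ ≫ K.d m (m + 1) = 0 →
      (∃ β' : CohCx.freeSheaf J W ⟶ K'.X m', ζ ≫ φ.f m = β' ≫ K'.d m' m) →
      ∃ β : CohCx.freeSheaf J W ⟶ K.X m', ζ = β ≫ K.d m' m)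
    (U : C) (σ : CohCx.freeSheaf J U ⟶ K.homology m) (hσ : σ ≫ θ = 0) : σ = 0 := by
  let Tσ : Sieve U :=
    { arrows := fun V g => CohCx.freeSheafMap J g ≫ σ = 0
      downward_closed := by
        intro V V' g hg h
        show CohCx.freeSheafMap J (h ≫ g) ≫ σ = 0
        rw [CohFree.freeSheafMap_comp, Category.assoc, hg, comp_zero] }
  have hT : Tσ ∈ J U := by
    obtain ⟨S₁, hS₁, hS₁'⟩ := loc_mcl K m σ
    refine J.transitive hS₁ Tσ (fun V g hg => ?_)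
    obtain ⟨ζ, hζ, e⟩ := hS₁' g hg
    have hζφ := cocycle_map φ m ζ hζ
    have h0 : mcl K' m (ζ ≫ φ.f m) hζφ = 0 := by
      rw [← hθ ζ hζ hζφ, ← e, Category.assoc, hσ, comp_zero]
    obtain ⟨S₂, hS₂, hS₂'⟩ := loc_boundary_of_mcl_eq_zero K' m m' hm (ζ ≫ φ.f m) hζφ h0
    refine J.transitive hS₂ _ (fun W h hh => ?_)
    obtain ⟨β', hβ'⟩ := hS₂' h hh
    obtain ⟨ι, Y, f, hcov, hY⟩ := hB W
    refine J.superset_covering ?_ hcov
    intro W' a ha
    obtain ⟨i, b, rfl⟩ := (Sieve.mem_ofArrows_iff _ _ a).1 ha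
    have hmain : CohCx.freeSheafMap J (f i) ≫ CohCx.freeSheafMap J h ≫ mcl K m ζ hζ = 0 := by
      have hc1 : (CohCx.freeSheafMap J h ≫ ζ) ≫ K.d m (m + 1) = 0 := by
        rw [Category.assoc, hζ, comp_zero]
      have hc2 : (CohCx.freeSheafMap J (f i) ≫ CohCx.freeSheafMap J h ≫ ζ) ≫ K.d m (m + 1) = 0 := by
        rw [Category.assoc, Category.assoc, hζ, comp_zero, comp_zero]
      have e1 : CohCx.freeSheafMap J (f i) ≫ CohCx.freeSheafMap J h ≫ mcl K m ζ hζ =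
          mcl K m (CohCx.freeSheafMap J (f i) ≫ CohCx.freeSheafMap J h ≫ ζ) hc2 := by
        rw [comp_mcl K m (CohCx.freeSheafMap J h) ζ hζ hc1,
          comp_mcl K m (CohCx.freeSheafMap J (f i)) _ hc1 hc2]
      rw [e1]
      obtain ⟨β, hβ⟩ := Hinj (Y i) (hY i) _ hc2 ⟨CohCx.freeSheafMap J (f i) ≫ β', by
        simp only [Category.assoc]
        rw [hβ']⟩
      exact mcl_boundary K m m' β _ hc2 hβ
    show CohCx.freeSheafMap J (((b ≫ f i) ≫ h) ≫ g) ≫ σ = 0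
    rw [CohFree.freeSheafMap_comp, CohFree.freeSheafMap_comp, CohFree.freeSheafMap_comp]
    simp only [Category.assoc]
    rw [e, hmain, comp_zero]
  exact hom_eq_zero_of_cover σ Tσ hT (fun W g hg => hg)

include hm hB hθ in
theorem isIso_of_local
    (Hinj : ∀ W ∈ B, ∀ (ζ : CohCx.freeSheaf J W ⟶ K.X m), ζ ≫ K.d m (m + 1) = 0 →
      (∃ β' : CohCx.freeSheaf J W ⟶ K'.X m', ζ ≫ φ.f m = β' ≫ K'.d m' m) →
      ∃ β : CohCx.freeSheaf J W ⟶ K.X m', ζ = β ≫ K.d m' m)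
    (Hsurj : ∀ W ∈ B, ∀ (ζ' : CohCx.freeSheaf J W ⟶ K'.X m), ζ' ≫ K'.d m (m + 1) = 0 →
      ∃ (ζ : CohCx.freeSheaf J W ⟶ K.X m) (hζ : ζ ≫ K.d m (m + 1) = 0)
        (β' : CohCx.freeSheaf J W ⟶ K'.X m'), ζ ≫ φ.f m = ζ' + β' ≫ K'.d m' m) :
    IsIso θ := by
  have hinj : ∀ U : C, Function.Injective (θ.hom.app (op U)).hom := by
    intro U
    refine (injective_iff_map_eq_zero (θ.hom.app (op U)).hom).2 (fun s hs => ?_)
    have h1 : CohFree.ofSect J U _ s ≫ θ = 0 := by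
      apply hom_ext_evalGen
      rw [evalGen_comp, CohFree.evalGen_ofSect, hs, map_zero]
    have h2 := key_vanish φ m m' hm B hB θ hθ Hinj U (CohFree.ofSect J U _ s) h1
    have h3 := congrArg (CohFree.evalGen J U _) h2
    rwa [CohFree.evalGen_ofSect, map_zero] at h3
  haveI : Mono θ := by
    haveI : ∀ X : Cᵒᵖ, Mono (θ.hom.app X) := fun X =>
      (AddCommGrpCat.mono_iff_injective _).2 (hinj X.unop)
    haveI : Mono θ.hom := NatTrans.mono_of_mono_app _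
    exact Sheaf.Hom.mono_of_presheaf_mono J _ θ
  haveI : Presheaf.IsLocallySurjective J θ.hom := by
    refine ⟨fun {U} s => ?_⟩
    obtain ⟨S₁, hS₁, hS₁'⟩ := loc_mcl K' m (CohFree.ofSect J U _ s)
    refine J.transitive hS₁ _ (fun V g hg => ?_)
    obtain ⟨ζ', hζ', e⟩ := hS₁' g hg
    obtain ⟨ι, Y, f, hcov, hY⟩ := hB V
    refine J.superset_covering ?_ hcov
    intro W' a ha
    obtain ⟨i, b, rfl⟩ := (Sieve.mem_ofArrows_iff _ _ a).1 ha
    refine Sieve.downward_closed _ ?_ b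
    have hc2 : (CohCx.freeSheafMap J (f i) ≫ ζ') ≫ K'.d m (m + 1) = 0 := by
      rw [Category.assoc, hζ', comp_zero]
    obtain ⟨ζ, hζ, β', hβ'⟩ := Hsurj (Y i) (hY i) _ hc2
    refine ⟨CohFree.evalGen J (Y i) _ (mcl K m ζ hζ), ?_⟩
    have hζφ := cocycle_map φ m ζ hζ
    have e1 : mcl K m ζ hζ ≫ θ =
        CohCx.freeSheafMap J (f i ≫ g) ≫ CohFree.ofSect J U _ s :=
      calc mcl K m ζ hζ ≫ θ = mcl K' m (ζ ≫ φ.f m) hζφ := hθ ζ hζ hζφ
        _ = mcl K' m (CohCx.freeSheafMap J (f i) ≫ ζ') hc2 :=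
          mcl_eq_of_boundary K' m m' hm _ _ hζφ hc2 β' hβ'
        _ = CohCx.freeSheafMap J (f i) ≫ mcl K' m ζ' hζ' := (comp_mcl K' m _ ζ' hζ' hc2).symm
        _ = CohCx.freeSheafMap J (f i) ≫ CohCx.freeSheafMap J g ≫ CohFree.ofSect J U _ s := by
          rw [e]
        _ = CohCx.freeSheafMap J (f i ≫ g) ≫ CohFree.ofSect J U _ s := by
          rw [CohFree.freeSheafMap_comp, Category.assoc]
    have e2 := congrArg (CohFree.evalGen J (Y i) _) e1
    rw [evalGen_comp, CohFree.evalGen_freeSheafMap_comp, CohFree.evalGen_ofSect] at e2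
    exact e2
  haveI : Epi θ := (Sheaf.isLocallySurjective_iff_epi' _ θ).1 inferInstance
  exact isIso_of_mono_of_epi θ

end iso

section bridge

/-- the complex of sections over `W` -/
noncomputable abbrev SC (W : C) (K : CochainComplex (Sheaf J AddCommGrpCat.{u}) ℤ) : Cx.{u} :=
  (CohCx.sectCx J W).obj K

noncomputable abbrev SCm (W : C) {K K' : CochainComplex (Sheaf J AddCommGrpCat.{u}) ℤ}
    (φ : K ⟶ K') : SC W K ⟶ SC W K' :=
  (CohCx.sectCx J W).map φ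

/-- the section attached to a morphism from the free sheaf -/
noncomputable abbrev ev (W : C) (K : CochainComplex (Sheaf J AddCommGrpCat.{u}) ℤ) (i : ℤ)
    (ζ : CohCx.freeSheaf J W ⟶ K.X i) : (SC W K).X i :=
  CohFree.evalGen J W (K.X i) ζ

variable {K K' : CochainComplex (Sheaf J AddCommGrpCat.{u}) ℤ} (φ : K ⟶ K') (m m' : ℤ)
  (hm : m' + 1 = m) (W : C)

lemma ev_mem (ζ : CohCx.freeSheaf J W ⟶ K.X m) (hζ : ζ ≫ K.d m (m + 1) = 0) :
    ev W K m ζ ∈ Zc (SC W K) m :=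
  AddMonoidHom.mem_ker.2
    ((congrArg (CohFree.evalGen J W (K.X (m + 1))) hζ).trans (map_zero _))

include hm in
lemma Hinj_of_injective
    (hinj : Function.Injective (HomologicalComplex.homologyMap (SCm W φ) m).hom)
    (ζ : CohCx.freeSheaf J W ⟶ K.X m) (hζ : ζ ≫ K.d m (m + 1) = 0)
    (hβ : ∃ β' : CohCx.freeSheaf J W ⟶ K'.X m', ζ ≫ φ.f m = β' ≫ K'.d m' m) :
    ∃ β : CohCx.freeSheaf J W ⟶ K.X m', ζ = β ≫ K.d m' m := by
  obtain ⟨β', hβ'⟩ := hβ
  have hx := ev_mem m W ζ hζ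
  have h1 : clsHom (SC W K') m ⟨((SCm W φ).f m).hom (ev W K m ζ),
      map_mem m (SCm W φ) ⟨ev W K m ζ, hx⟩⟩ = 0 := by
    refine (clsHom_eq_zero_iff (SC W K') m m' hm _).2 ⟨ev W K' m' β', ?_⟩
    exact (congrArg (CohFree.evalGen J W (K'.X m)) hβ').symm
  have h2 : clsHom (SC W K) m ⟨ev W K m ζ, hx⟩ = 0 := by
    apply hinj
    rw [map_zero]
    exact (map_clsHom m (SCm W φ) ⟨ev W K m ζ, hx⟩).trans h1
  obtain ⟨y, hy⟩ := (clsHom_eq_zero_iff (SC W K) m m' hm _).1 h2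
  refine ⟨CohFree.ofSect J W (K.X m') y, ?_⟩
  apply hom_ext_evalGen
  refine Eq.trans ?_ (evalGen_comp _ _).symm
  rw [CohFree.evalGen_ofSect]
  exact hy.symm

include hm in
lemma Hsurj_of_surjective
    (hsurj : Function.Surjective (HomologicalComplex.homologyMap (SCm W φ) m).hom)
    (ζ' : CohCx.freeSheaf J W ⟶ K'.X m) (hζ' : ζ' ≫ K'.d m (m + 1) = 0) :
    ∃ (ζ : CohCx.freeSheaf J W ⟶ K.X m) (_ : ζ ≫ K.d m (m + 1) = 0)
      (β' : CohCx.freeSheaf J W ⟶ K'.X m'), ζ ≫ φ.f m = ζ' + β' ≫ K'.d m' m := by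
  have hx' := ev_mem m W ζ' hζ'
  obtain ⟨c, hc⟩ := hsurj (clsHom (SC W K') m ⟨_, hx'⟩)
  obtain ⟨x, rfl⟩ := clsHom_surjective (SC W K) m c
  have h1 : clsHom (SC W K') m
      (⟨((SCm W φ).f m).hom x.1, map_mem m (SCm W φ) x⟩ - ⟨_, hx'⟩) = 0 := by
    rw [map_sub, ← map_clsHom m (SCm W φ) x, hc, sub_self]
  obtain ⟨y', hy'⟩ := (clsHom_eq_zero_iff (SC W K') m m' hm _).1 h1
  have hy'' : ((SC W K').d m' m).hom y' = ((SCm W φ).f m).hom x.1 - ev W K' m ζ' := hy'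
  refine ⟨CohFree.ofSect J W (K.X m) x.1, ?_, CohFree.ofSect J W (K'.X m') y', ?_⟩
  · apply hom_ext_evalGen
    rw [map_zero]
    refine (evalGen_comp _ _).trans ?_
    rw [CohFree.evalGen_ofSect]
    exact AddMonoidHom.mem_ker.1 x.2
  · apply hom_ext_evalGen
    rw [map_add]
    refine (evalGen_comp _ _).trans ?_
    rw [CohFree.evalGen_ofSect]
    have e3 : CohFree.evalGen J W (K'.X m) (CohFree.ofSect J W (K'.X m') y' ≫ K'.d m' m) =
        ((SC W K').d m' m).hom y' := by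
      refine (evalGen_comp _ _).trans ?_
      rw [CohFree.evalGen_ofSect]
      rfl
    rw [e3, hy'']
    exact (add_sub_cancel _ _).symm

end bridge

section limit

lemma cone_sect_ext (G : ℕᵒᵖ ⥤ Sheaf J AddCommGrpCat.{u}) (c : Cone G) (hc : IsLimit c) (W : C)
    (y y' : c.pt.obj.obj (op W))
    (h : ∀ n : ℕ, ((c.π.app (op n)).hom.app (op W)).hom y =
      ((c.π.app (op n)).hom.app (op W)).hom y') : y = y' := by
  have hg : CohFree.ofSect J W _ y = CohFree.ofSect J W _ y' := by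
    apply hc.hom_ext
    intro j
    obtain ⟨n⟩ := j
    apply hom_ext_evalGen
    refine (evalGen_comp _ _).trans (Eq.trans ?_ (evalGen_comp _ _).symm)
    rw [CohFree.evalGen_ofSect, CohFree.evalGen_ofSect]
    exact h n
  have h3 := congrArg (CohFree.evalGen J W _) hg
  rwa [CohFree.evalGen_ofSect, CohFree.evalGen_ofSect] at h3

lemma compat_hom' {𝒜 : Type*} [Category 𝒜] (G : ℕᵒᵖ ⥤ 𝒜) {W : 𝒜}
    (c : ∀ n : ℕ, W ⟶ G.obj (op n))
    (h : ∀ n, c (n + 1) ≫ G.map (homOfLE (Nat.le_succ n)).op = c n)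
    (m n : ℕ) (hnm : n ≤ m) : c m ≫ G.map (homOfLE hnm).op = c n := by
  induction m, hnm using Nat.le_induction with
  | base =>
    have e : (homOfLE (le_refl n)).op = 𝟙 (op n) := rfl
    rw [e, G.map_id, Category.comp_id]
  | succ m hnm ih =>
    have e : (homOfLE (hnm.trans (Nat.le_succ m))).op =
        (homOfLE (Nat.le_succ m)).op ≫ (homOfLE hnm).op := rfl
    rw [e, G.map_comp, ← Category.assoc, h, ih]

/-- cone over a tower from a compatible family -/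
noncomputable def coneOfCompat' {𝒜 : Type*} [Category 𝒜] (G : ℕᵒᵖ ⥤ 𝒜) {W : 𝒜}
    (c : ∀ n : ℕ, W ⟶ G.obj (op n))
    (h : ∀ n, c (n + 1) ≫ G.map (homOfLE (Nat.le_succ n)).op = c n) : Cone G where
  pt := W
  π :=
    { app := fun j => c j.unop
      naturality := fun j j' f => by
        obtain ⟨m⟩ := j
        obtain ⟨n⟩ := j'
        have hf : f = (homOfLE (leOfHom f.unop)).op := Quiver.Hom.unop_inj (Subsingleton.elim _ _)
        rw [hf]
        simp only [Functor.const_obj_obj, Functor.const_obj_map, Category.id_comp]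
        exact (compat_hom' G c h m n (leOfHom f.unop)).symm }

lemma cone_sect_exists (G : ℕᵒᵖ ⥤ Sheaf J AddCommGrpCat.{u}) (c : Cone G) (hc : IsLimit c)
    (W : C) (s : ∀ n : ℕ, (G.obj (op n)).obj.obj (op W))
    (hs : ∀ n, ((G.map (homOfLE (Nat.le_succ n)).op).hom.app (op W)).hom (s (n + 1)) = s n) :
    ∃ y : c.pt.obj.obj (op W), ∀ n : ℕ, ((c.π.app (op n)).hom.app (op W)).hom y = s n := by
  have hcomp : ∀ n, CohFree.ofSect J W _ (s (n + 1)) ≫ G.map (homOfLE (Nat.le_succ n)).op =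
      CohFree.ofSect J W _ (s n) := by
    intro n
    apply hom_ext_evalGen
    refine (evalGen_comp _ _).trans ?_
    rw [CohFree.evalGen_ofSect, CohFree.evalGen_ofSect]
    exact hs n
  refine ⟨CohFree.evalGen J W _
    (hc.lift (coneOfCompat' G (fun n => CohFree.ofSect J W _ (s n)) hcomp)), fun n => ?_⟩
  have h1 : hc.lift (coneOfCompat' G (fun n => CohFree.ofSect J W _ (s n)) hcomp) ≫
      c.π.app (op n) = CohFree.ofSect J W _ (s n) :=
    hc.fac (coneOfCompat' G (fun n => CohFree.ofSect J W _ (s n)) hcomp) (op n)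
  have h2 := congrArg (CohFree.evalGen J W _) h1
  rw [CohFree.evalGen_ofSect] at h2
  exact h2

end limit

section main

theorem main0899 (J : GrothendieckTopology C)
    (F : ℕ → CochainComplex (Sheaf J AddCommGrpCat.{u}) ℤ) (t : ∀ n, F (n + 1) ⟶ F n) (m : ℤ)
    (B : Set C)
    (hB : ∀ U : C, ∃ (ι : Type u) (Y : ι → C) (f : ∀ i, Y i ⟶ U),
      Sieve.ofArrows Y f ∈ J U ∧ ∀ i, Y i ∈ B)
    (n₀ : ℕ)
    (ha : ∀ U ∈ B, ∀ j : ℤ, (j = m - 2 ∨ j = m - 1) →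
      CohCx.LimOneIsZero (fun n => ((F n).X j).obj.obj (op U))
        (fun n => (((t n).f j).hom.app (op U)).hom))
    (hb : ∀ U ∈ B, CohCx.LimOneIsZero
      (fun n => ((CohCx.sectCx J U).obj (F n)).homology (m - 1))
      (fun n => (HomologicalComplex.homologyMap ((CohCx.sectCx J U).map (t n)) (m - 1)).hom))
    (hc : ∀ U ∈ B, ∀ k : ℕ, IsIso (HomologicalComplex.homologyMap
      ((CohCx.sectCx J U).map (CohCx.transition F t n₀ k)) m)) :
    IsIso (HomologicalComplex.homologyMap (limit.π (CohCx.opSequence F t) (op n₀)) m) := by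
  have htr : ∀ n, (CohCx.opSequence F t).map (homOfLE (Nat.le_succ n)).op = t n :=
    fun n => Functor.ofOpSequence_map_homOfLE_succ _ n
  have hπ : ∀ n, limit.π (CohCx.opSequence F t) (op (n + 1)) ≫ t n =
      limit.π (CohCx.opSequence F t) (op n) := fun n =>
    (congrArg (fun ψ : F (n + 1) ⟶ F n => limit.π (CohCx.opSequence F t) (op (n + 1)) ≫ ψ)
      (htr n)).symm.trans (limit.w (CohCx.opSequence F t) (homOfLE (Nat.le_succ n)).op)
  have hbij : ∀ W ∈ B, Function.Bijective (HomologicalComplex.homologyMap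
      ((CohCx.sectCx J W).map (limit.π (CohCx.opSequence F t) (op n₀))) m).hom := by
    intro W hW
    refine alg_main (fun n => (CohCx.sectCx J W).obj (F n)) (fun n => (CohCx.sectCx J W).map (t n))
      ((CohCx.sectCx J W).obj (limit (CohCx.opSequence F t)))
      (fun n => (CohCx.sectCx J W).map (limit.π (CohCx.opSequence F t) (op n)))
      ?hp ?hext ?hex m (m - 1) (m - 2) (by omega) (by omega)
      (ha W hW (m - 2) (Or.inl rfl)) (ha W hW (m - 1) (Or.inr rfl)) (hb W hW) n₀ ?hc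
    case hp =>
      intro n
      exact ((CohCx.sectCx J W).map_comp _ _).symm.trans
        (congrArg (fun ψ => (CohCx.sectCx J W).map ψ) (hπ n))
    case hext =>
      intro j y y' h
      exact cone_sect_ext (CohCx.opSequence F t ⋙ HomologicalComplex.eval _ _ j)
        ((HomologicalComplex.eval _ _ j).mapCone (limit.cone (CohCx.opSequence F t)))
        (isLimitOfPreserves _ (limit.isLimit _)) W y y' h
    case hex =>
      intro j c hcmp
      exact cone_sect_exists (CohCx.opSequence F t ⋙ HomologicalComplex.eval _ _ j)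
        ((HomologicalComplex.eval _ _ j).mapCone (limit.cone (CohCx.opSequence F t)))
        (isLimitOfPreserves _ (limit.isLimit _)) W c
        (fun n => (congrArg (fun ψ : F (n + 1) ⟶ F n =>
          ((ψ.f j).hom.app (op W)).hom (c (n + 1))) (htr n)).trans (hcmp n))
    case hc =>
      intro k
      have h := hc W hW k
      rw [map_transition (CohCx.sectCx J W) F t n₀ k] at h
      exact h
  refine isIso_of_local (limit.π (CohCx.opSequence F t) (op n₀)) m (m - 1) (by omega) B hB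
    (HomologicalComplex.homologyMap (limit.π (CohCx.opSequence F t) (op n₀)) m)
    (fun ζ hζ hζ' => mcl_map _ m ζ hζ hζ') ?_ ?_
  · intro W hW ζ hζ hβ
    exact Hinj_of_injective _ m (m - 1) (by omega) W (hbij W hW).1 ζ hζ hβ
  · intro W hW ζ' hζ'
    exact Hsurj_of_surjective _ m (m - 1) (by omega) W (hbij W hW).2 ζ' hζ'

lemma basis_cover' {X : TopCat.{u}} (B : Set (Opens X)) (hB : Opens.IsBasis B) :
    ∀ U : Opens X, ∃ (ι : Type u) (Y : ι → Opens X) (f : ∀ i, Y i ⟶ U),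
      Sieve.ofArrows Y f ∈ Opens.grothendieckTopology X U ∧ ∀ i, Y i ∈ B := by
  intro U
  refine ⟨{V : Opens X // V ∈ B ∧ V ≤ U}, fun i => i.1, fun i => homOfLE i.2.2, ?_,
    fun i => i.2.1⟩
  intro x hx
  obtain ⟨V, hVB, hxV, hVU⟩ := Opens.isBasis_iff_nbhd.1 hB hx
  exact ⟨V, homOfLE hVU, Sieve.ofArrows_mk (fun i : {V : Opens X // V ∈ B ∧ V ≤ U} => i.1)
    (fun i => homOfLE i.2.2) ⟨V, hVB, hVU⟩, hxV⟩

theorem main0897 {X : TopCat.{u}}
    (F : ℕ → CochainComplex (CohTop.Ab X) ℤ) (t : ∀ n, F (n + 1) ⟶ F n) (m : ℤ)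
    (B : Set (Opens X)) (hB : Opens.IsBasis B) (n₀ : ℕ)
    (ha : ∀ U ∈ B, ∀ j : ℤ, (j = m - 2 ∨ j = m - 1) →
      CohCx.LimOneIsZero (fun n => ((F n).X j).obj.obj (op U))
        (fun n => (((t n).f j).hom.app (op U)).hom))
    (hb : ∀ U ∈ B, CohCx.LimOneIsZero
      (fun n => ((CohCx.sectCx (Opens.grothendieckTopology X) U).obj (F n)).homology (m - 1))
      (fun n => (HomologicalComplex.homologyMap
        ((CohCx.sectCx (Opens.grothendieckTopology X) U).map (t n)) (m - 1)).hom))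
    (hc : ∀ U ∈ B, ∀ k : ℕ, IsIso (HomologicalComplex.homologyMap
      ((CohCx.sectCx (Opens.grothendieckTopology X) U).map (CohCx.transition F t n₀ k)) m)) :
    IsIso (HomologicalComplex.homologyMap (limit.π (CohCx.opSequence F t) (op n₀)) m) :=
  main0899 (Opens.grothendieckTopology X) F t m B (basis_cover' B hB) n₀ ha hb hc

end main

end Groth.Agent.Lib.LimCxSheaf_helper7
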