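import Mathlib
import Groth.Prelude.Def_CohCx
import Groth.Prelude.Def_FreeSh
import Groth.Agent.Lib.HDSheaf_helper7
import Groth.Agent.Lib.LimCxSheaf_helper7
import Groth.Agent.Lib.DerProd_helper9

/-!
# Hypercohomology of a K-injective complex of abelian sheaves is the cohomology of its sections
(helper7)

For a K-injective complex `I` of abelian sheaves on a small site, the presheaf
`U ↦ Hom_D(ℤ_U[0], Q I)` is isomorphic to the presheaf `U ↦ H⁰(I(U))`.
-/

set_option autoImplicit false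
universe u
open CategoryTheory CategoryTheory.Limits Opposite

namespace Groth.Agent.Lib.KInjSect_helper7

open Groth.Agent.Lib.Milnor_helper7 Groth.Agent.Lib.HDSheaf_helper7

section Alg

variable {𝒜 : Type*} [Category 𝒜] [Abelian 𝒜]

open HomologicalComplex

lemma fromSingle_congr {K : CochainComplex 𝒜 ℤ} {A : 𝒜} {c c' : A ⟶ K.X 0} (h : c = c')
    (hc : c ≫ K.d 0 1 = 0) (hc' : c' ≫ K.d 0 1 = 0) : fromSingle c hc = fromSingle c' hc' := by
  subst h
  rfl

lemma fromSingle_add {K : CochainComplex 𝒜 ℤ} {A : 𝒜} (c c' : A ⟶ K.X 0)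
    (hc : c ≫ K.d 0 1 = 0) (hc' : c' ≫ K.d 0 1 = 0) (hcc' : (c + c') ≫ K.d 0 1 = 0) :
    fromSingle (c + c') hcc' = fromSingle c hc + fromSingle c' hc' := by
  apply HomologicalComplex.from_single_hom_ext
  rw [HomologicalComplex.add_f_apply, mkHomFromSingle_f, mkHomFromSingle_f, mkHomFromSingle_f,
    Preadditive.comp_add]

lemma comp_fromSingle {K : CochainComplex 𝒜 ℤ} {A A' : 𝒜} (α : A' ⟶ A) (c : A ⟶ K.X 0)
    (hc : c ≫ K.d 0 1 = 0) (hc' : (α ≫ c) ≫ K.d 0 1 = 0) :
    (HomologicalComplex.single 𝒜 (ComplexShape.up ℤ) 0).map α ≫ fromSingle c hc =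
      fromSingle (α ≫ c) hc' := by
  apply HomologicalComplex.from_single_hom_ext
  rw [HomologicalComplex.comp_f, mkHomFromSingle_f, mkHomFromSingle_f,
    HomologicalComplex.single_map_f_self]
  simp only [Category.assoc, Iso.inv_hom_id_assoc]

/-- a null-homotopic `fromSingle c` has `c` a coboundary -/
lemma exists_of_homotopy {K : CochainComplex 𝒜 ℤ} {A : 𝒜} (c : A ⟶ K.X 0)
    (hc : c ≫ K.d 0 1 = 0) (hh : Homotopy (fromSingle c hc) 0) :
    ∃ w : A ⟶ K.X (-1), c = w ≫ K.d (-1) 0 := by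
  refine ⟨(singleObjXSelf (ComplexShape.up ℤ) 0 A).inv ≫ hh.hom 0 (-1), ?_⟩
  have h := hh.comm 0
  have h1 : dNext 0 hh.hom = 0 := by
    rw [dNext_eq _ (show (ComplexShape.up ℤ).Rel 0 1 by simp), HomologicalComplex.single_obj_d,
      zero_comp]
  have h2 : prevD 0 hh.hom = hh.hom 0 (-1) ≫ K.d (-1) 0 :=
    prevD_eq _ (show (ComplexShape.up ℤ).Rel (-1) 0 by simp)
  have h3 : (fromSingle c hc).f 0 = (singleObjXSelf (ComplexShape.up ℤ) 0 A).hom ≫ c :=
    mkHomFromSingle_f _ _
  rw [h1, h2, h3, HomologicalComplex.zero_f, add_zero, zero_add] at h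
  rw [Category.assoc, ← h, Iso.inv_hom_id_assoc]

end Alg

section Sections

variable {C : Type u} [SmallCategory C] {J : GrothendieckTopology C}

/-- the functor of sections of a complex of sheaves -/
noncomputable abbrev secF (I : CochainComplex (Sheaf J AddCommGrpCat.{u}) ℤ) :
    Cᵒᵖ ⥤ CochainComplex AddCommGrpCat.{u} ℤ :=
  (((sheafToPresheaf J AddCommGrpCat.{u}).mapHomologicalComplex (ComplexShape.up ℤ)).obj I).asFunctor

/-- presheaf cohomology of a complex of sheaves -/
noncomputable abbrev PH (I : CochainComplex (Sheaf J AddCommGrpCat.{u}) ℤ) (q : ℤ) :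
    Cᵒᵖ ⥤ AddCommGrpCat.{u} :=
  secF I ⋙ HomologicalComplex.homologyFunctor AddCommGrpCat.{u} (ComplexShape.up ℤ) q

/-- the complex of sections over `U` -/
noncomputable abbrev CU (I : CochainComplex (Sheaf J AddCommGrpCat.{u}) ℤ) (U : C) : Cx.{u} :=
  (secF I).obj (op U)

lemma coc (I : CochainComplex (Sheaf J AddCommGrpCat.{u}) ℤ) (U : C) (x : Zc (CU I U) 0) :
    CohFree.ofSect J U (I.X 0) x.1 ≫ I.d 0 1 = 0 := by
  apply LimCxSheaf_helper7.hom_ext_evalGen
  rw [map_zero]
  refine (LimCxSheaf_helper7.evalGen_comp _ _).trans ?_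
  rw [CohFree.evalGen_ofSect]
  exact AddMonoidHom.mem_ker.1 x.2

end Sections

section Site

variable {C : Type u} [SmallCategory C] {J : GrothendieckTopology C}
  [HasDerivedCategory.{u} (Sheaf J AddCommGrpCat.{u})]

open DerivedCategory

/-- the map from cocycles of sections over `U` to `Hom_D(ℤ_U[0], Q I)` -/
noncomputable def nuTilde (I : CochainComplex (Sheaf J AddCommGrpCat.{u}) ℤ) (U : C) :
    Zc (CU I U) 0 →+
      ((DerivedCategory.singleFunctor (Sheaf J AddCommGrpCat.{u}) 0).obj (CohCx.freeSheaf J U) ⟶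
        Q.obj I) :=
  AddMonoidHom.mk' (fun x => (Q.map (fromSingle (CohFree.ofSect J U (I.X 0) x.1) (coc I U x)) :
      (DerivedCategory.singleFunctor (Sheaf J AddCommGrpCat.{u}) 0).obj (CohCx.freeSheaf J U) ⟶
        Q.obj I))
    (fun x y => by
      have e : CohFree.ofSect J U (I.X 0) (x + y).1 =
          CohFree.ofSect J U (I.X 0) x.1 + CohFree.ofSect J U (I.X 0) y.1 :=
        map_add (CohFree.homEquivSect J U (I.X 0)).symm x.1 y.1
      have hsum : (CohFree.ofSect J U (I.X 0) x.1 + CohFree.ofSect J U (I.X 0) y.1) ≫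
          I.d 0 1 = 0 := by
        rw [Preadditive.add_comp, coc I U x, coc I U y, add_zero]
      have h1 := (fromSingle_congr e (coc I U (x + y)) hsum).trans
        (fromSingle_add _ _ (coc I U x) (coc I U y) hsum)
      have h2 := congrArg (fun t => Q.map t) h1
      refine h2.trans ?_
      exact Functor.map_add _)

lemma nuTilde_apply (I : CochainComplex (Sheaf J AddCommGrpCat.{u}) ℤ) (U : C)
    (x : Zc (CU I U) 0) :
    nuTilde I U x = Q.map (fromSingle (CohFree.ofSect J U (I.X 0) x.1) (coc I U x)) := rfl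

lemma nuTilde_boundary (I : CochainComplex (Sheaf J AddCommGrpCat.{u}) ℤ) (U : C)
    (x : Zc (CU I U) 0) (y : (CU I U).X (-1)) (hy : ((CU I U).d (-1) 0).hom y = x.1) :
    nuTilde I U x = 0 := by
  have e : CohFree.ofSect J U (I.X 0) x.1 = CohFree.ofSect J U (I.X (-1)) y ≫ I.d (-1) 0 := by
    apply LimCxSheaf_helper7.hom_ext_evalGen
    refine Eq.trans ?_ (LimCxSheaf_helper7.evalGen_comp _ _).symm
    rw [CohFree.evalGen_ofSect, CohFree.evalGen_ofSect]
    exact hy.symm
  have h1 := fromSingle_congr e (coc I U x) (by simp)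
  refine (nuTilde_apply I U x).trans ?_
  rw [h1]
  exact (DerivedCategory.Q_map_eq_of_homotopy _ (nullHomotopyFromSingle _)).trans
    (Functor.map_zero _ _ _)

/-- the map `H⁰(I(U)) → Hom_D(ℤ_U[0], Q I)` -/
noncomputable def nu (I : CochainComplex (Sheaf J AddCommGrpCat.{u}) ℤ) (U : C) :
    (CU I U).homology 0 →+
      ((DerivedCategory.singleFunctor (Sheaf J AddCommGrpCat.{u}) 0).obj (CohCx.freeSheaf J U) ⟶
        Q.obj I) :=
  AddMonoidHom.liftOfSurjective (clsHom (CU I U) 0) (clsHom_surjective (CU I U) 0)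
    ⟨nuTilde I U, fun x hx => by
      obtain ⟨y, hy⟩ := (clsHom_eq_zero_iff (CU I U) 0 (-1) (by norm_num) x).1
        (AddMonoidHom.mem_ker.1 hx)
      exact AddMonoidHom.mem_ker.2 (nuTilde_boundary I U x y hy)⟩

lemma nu_cls (I : CochainComplex (Sheaf J AddCommGrpCat.{u}) ℤ) (U : C) (x : Zc (CU I U) 0) :
    nu I U (clsHom (CU I U) 0 x) = nuTilde I U x :=
  AddMonoidHom.liftOfRightInverse_comp_apply _ _ _ _ x

lemma nu_surjective (I : CochainComplex (Sheaf J AddCommGrpCat.{u}) ℤ) [I.IsKInjective] (U : C) :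
    Function.Surjective (nu I U) := by
  intro φ
  obtain ⟨γ, hγ⟩ := DerProd.exists_lift_of_isKInjective
    ((HomologicalComplex.single (Sheaf J AddCommGrpCat.{u}) (ComplexShape.up ℤ) 0).obj
      (CohCx.freeSheaf J U)) I φ
  let c : CohCx.freeSheaf J U ⟶ I.X 0 :=
    (HomologicalComplex.singleObjXSelf (ComplexShape.up ℤ) 0 (CohCx.freeSheaf J U)).inv ≫ γ.f 0
  have hc : c ≫ I.d 0 1 = 0 := by
    have h : γ.f 0 ≫ I.d 0 1 = 0 :=
      (γ.comm 0 1).trans ((congrArg (fun x => x ≫ γ.f 1)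
        (HomologicalComplex.single_obj_d (c := ComplexShape.up ℤ) 0 (CohCx.freeSheaf J U) 0 1)).trans
          zero_comp)
    show ((HomologicalComplex.singleObjXSelf (ComplexShape.up ℤ) 0 (CohCx.freeSheaf J U)).inv ≫
      γ.f 0) ≫ I.d 0 1 = 0
    rw [Category.assoc, h, comp_zero]
  have hg : γ = fromSingle c hc := by
    apply HomologicalComplex.from_single_hom_ext
    rw [HomologicalComplex.mkHomFromSingle_f]
    simp [c]
  have hmem : CohFree.evalGen J U (I.X 0) c ∈ Zc (CU I U) 0 :=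
    AddMonoidHom.mem_ker.2 ((congrArg (CohFree.evalGen J U (I.X 1)) hc).trans (map_zero _))
  refine ⟨clsHom (CU I U) 0 ⟨_, hmem⟩, ?_⟩
  rw [nu_cls, nuTilde_apply]
  have h1 := fromSingle_congr (CohFree.ofSect_evalGen J U (I.X 0) c)
    (coc I U ⟨_, hmem⟩) hc
  refine (congrArg (fun t => Q.map t) (h1.trans hg.symm)).trans ?_
  exact hγ

lemma nu_injective (I : CochainComplex (Sheaf J AddCommGrpCat.{u}) ℤ) [I.IsKInjective] (U : C) :
    Function.Injective (nu I U) := by
  refine (injective_iff_map_eq_zero (nu I U)).2 (fun h hh => ?_)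
  obtain ⟨x, rfl⟩ := clsHom_surjective (CU I U) 0 h
  rw [nu_cls, nuTilde_apply] at hh
  obtain ⟨ho⟩ := DerProd.homotopy_of_isKInjective _ I _ hh
  obtain ⟨w, hw⟩ := exists_of_homotopy _ _ ho
  refine (clsHom_eq_zero_iff (CU I U) 0 (-1) (by norm_num) x).2
    ⟨CohFree.evalGen J U (I.X (-1)) w, ?_⟩
  have h3 := congrArg (CohFree.evalGen J U (I.X 0)) hw
  rw [CohFree.evalGen_ofSect] at h3
  exact h3.symm

lemma nu_naturality (I : CochainComplex (Sheaf J AddCommGrpCat.{u}) ℤ) {U V : C} (g : V ⟶ U)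
    (h : (CU I U).homology 0) :
    nu I V ((HomologicalComplex.homologyMap ((secF I).map g.op) 0).hom h) =
      (DerivedCategory.singleFunctor (Sheaf J AddCommGrpCat.{u}) 0).map (CohCx.freeSheafMap J g) ≫
        nu I U h := by
  obtain ⟨x, rfl⟩ := clsHom_surjective (CU I U) 0 h
  rw [map_clsHom 0 ((secF I).map g.op) x, nu_cls, nu_cls, nuTilde_apply, nuTilde_apply]
  have e : CohCx.freeSheafMap J g ≫ CohFree.ofSect J U (I.X 0) x.1 =
      CohFree.ofSect J V (I.X 0) ((((secF I).map g.op).f 0).hom x.1) := by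
    apply LimCxSheaf_helper7.hom_ext_evalGen
    rw [CohFree.evalGen_freeSheafMap_comp, CohFree.evalGen_ofSect, CohFree.evalGen_ofSect]
    rfl
  have hc' : (CohCx.freeSheafMap J g ≫ CohFree.ofSect J U (I.X 0) x.1) ≫ I.d 0 1 = 0 := by
    rw [Category.assoc, coc I U x, comp_zero]
  have h1 : (HomologicalComplex.single (Sheaf J AddCommGrpCat.{u}) (ComplexShape.up ℤ) 0).map
      (CohCx.freeSheafMap J g) ≫ fromSingle (CohFree.ofSect J U (I.X 0) x.1) (coc I U x) =
      fromSingle (CohFree.ofSect J V (I.X 0) ((((secF I).map g.op).f 0).hom x.1))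
        (coc I V ⟨_, map_mem 0 ((secF I).map g.op) x⟩) :=
    (comp_fromSingle _ _ (coc I U x) hc').trans (fromSingle_congr e hc' _)
  have h2 := congrArg (fun t => Q.map t) h1
  refine h2.symm.trans ?_
  exact Q.map_comp _ _

/-- for a K-injective complex `I` of abelian sheaves, `U ↦ H⁰(I(U))` is the presheaf
`U ↦ Hom_D(ℤ_U[0], Q I)` -/
noncomputable def kiIso (I : CochainComplex (Sheaf J AddCommGrpCat.{u}) ℤ) [I.IsKInjective] :
    PH I 0 ≅ PP (Q.obj I) :=
  NatIso.ofComponents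
    (fun X => (AddEquiv.ofBijective (nu I X.unop)
      ⟨nu_injective I X.unop, nu_surjective I X.unop⟩).toAddCommGrpIso)
    (fun {X Y} g => by
      apply AddCommGrpCat.hom_ext
      apply AddMonoidHom.ext
      intro h
      exact nu_naturality I g.unop h)

/-- `PP` respects isomorphisms -/
noncomputable def ppIso {M M' : DerivedCategory (Sheaf J AddCommGrpCat.{u})} (e : M ≅ M') :
    PP M ≅ PP M' :=
  Functor.isoWhiskerLeft _ (preadditiveYoneda.mapIso e)

end Site

end Groth.Agent.Lib.KInjSect_helper7
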