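import Mathlib

/-!
# Zigzags in an augmented double complex of abelian groups with exact rows (helper7)

Abstract element-level bookkeeping for the filtration induced on the cohomology of the augmentation
column by a double complex with exact rows (`Čech`-to-derived functor spectral sequence, in
filtration form).  No total complex is used: the `p`-th step of the filtration consists of the
classes of the cocycles `s` admitting a zigzag `t⁰, …, t^{p-1}` with `aug s = d_v t⁰`,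
`d_h t^{j} = d_v t^{j+1}`.

The rows are indexed through an arbitrary function `R : ℕ → ℤ` (in applications `R k = n + 1 - k`),
so that no index arithmetic is needed here.
-/

set_option autoImplicit false
set_option linter.unusedSectionVars false

universe u

namespace Groth.Agent.Lib.ZigZagH7

/-- an augmented double complex of abelian groups with exact rows; vertical maps between
arbitrary rows -/
structure DC where
  /-- the terms -/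
  A : ℕ → ℤ → Type u
  /-- the augmentation column -/
  Γ : ℤ → Type u
  [instA : ∀ p i, AddCommGroup (A p i)]
  [instΓ : ∀ i, AddCommGroup (Γ i)]
  /-- vertical maps -/
  dv : ∀ p i j, A p i →+ A p j
  /-- horizontal maps -/
  dh : ∀ p i, A p i →+ A (p + 1) i
  /-- the differential of the augmentation column -/
  dΓ : ∀ i j, Γ i →+ Γ j
  /-- the augmentation -/
  aug : ∀ i, Γ i →+ A 0 i
  dv_dv : ∀ p i j k (x : A p i), dv p j k (dv p i j x) = 0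
  dh_dh : ∀ p i (x : A p i), dh (p + 1) i (dh p i x) = 0
  dh_dv : ∀ p i j (x : A p i), dh p j (dv p i j x) = dv (p + 1) i j (dh p i x)
  dΓ_dΓ : ∀ i j k (s : Γ i), dΓ j k (dΓ i j s) = 0
  aug_dΓ : ∀ i j (s : Γ i), aug j (dΓ i j s) = dv 0 i j (aug i s)
  dh_aug : ∀ i (s : Γ i), dh 0 i (aug i s) = 0
  aug_inj : ∀ i, Function.Injective (aug i)
  exact0 : ∀ i (β : A 0 i), dh 0 i β = 0 → ∃ s, aug i s = β
  exactS : ∀ p i (β : A (p + 1) i), dh (p + 1) i β = 0 → ∃ γ, dh p i γ = β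

attribute [instance] DC.instA DC.instΓ

variable (𝒟 : DC.{u}) (R : ℕ → ℤ)

/-- zigzag data: `t j` lives in column `j`, row `R (j + 2)` -/
abbrev TT : Type u := ∀ j : ℕ, 𝒟.A j (R (j + 2))

/-- `(s, t)` is a zigzag of length `p` -/
def IsZZ (p : ℕ) (s : 𝒟.Γ (R 1)) (t : TT 𝒟 R) : Prop :=
  (0 < p → 𝒟.aug (R 1) s = 𝒟.dv 0 (R 2) (R 1) (t 0)) ∧
  ∀ j : ℕ, j + 1 < p →
    𝒟.dh j (R (j + 2)) (t j) = 𝒟.dv (j + 1) (R (j + 1 + 2)) (R (j + 2)) (t (j + 1))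

variable {𝒟 R}

theorem isZZ_zero (s : 𝒟.Γ (R 1)) (t : TT 𝒟 R) : IsZZ 𝒟 R 0 s t :=
  ⟨fun h => absurd h (lt_irrefl 0), fun j h => absurd h (Nat.not_lt_zero _)⟩

theorem IsZZ.of_succ {p : ℕ} {s : 𝒟.Γ (R 1)} {t : TT 𝒟 R} (h : IsZZ 𝒟 R (p + 1) s t) :
    IsZZ 𝒟 R p s t :=
  ⟨fun hp => h.1 (Nat.succ_pos p), fun j hj => h.2 j (Nat.lt_succ_of_lt hj)⟩

theorem IsZZ.of_le {p q : ℕ} (hpq : p ≤ q) {s : 𝒟.Γ (R 1)} {t : TT 𝒟 R} (h : IsZZ 𝒟 R q s t) :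
    IsZZ 𝒟 R p s t :=
  ⟨fun hp => h.1 (lt_of_lt_of_le hp hpq), fun j hj => h.2 j (lt_of_lt_of_le hj hpq)⟩

theorem isZZ_one_iff (s : 𝒟.Γ (R 1)) (t : TT 𝒟 R) :
    IsZZ 𝒟 R 1 s t ↔ 𝒟.aug (R 1) s = 𝒟.dv 0 (R 2) (R 1) (t 0) :=
  ⟨fun h => h.1 Nat.one_pos, fun h => ⟨fun _ => h, fun j hj => absurd hj (by omega)⟩⟩

theorem IsZZ.add {p : ℕ} {s s' : 𝒟.Γ (R 1)} {t t' : TT 𝒟 R} (h : IsZZ 𝒟 R p s t)
    (h' : IsZZ 𝒟 R p s' t') : IsZZ 𝒟 R p (s + s') (t + t') := by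
  refine ⟨fun hp => ?_, fun j hj => ?_⟩
  · have e : (t + t') 0 = t 0 + t' 0 := rfl
    rw [map_add, e, map_add, h.1 hp, h'.1 hp]
  · have e1 : (t + t') j = t j + t' j := rfl
    have e2 : (t + t') (j + 1) = t (j + 1) + t' (j + 1) := rfl
    rw [e1, e2, map_add, map_add, h.2 j hj, h'.2 j hj]

theorem IsZZ.neg {p : ℕ} {s : 𝒟.Γ (R 1)} {t : TT 𝒟 R} (h : IsZZ 𝒟 R p s t) :
    IsZZ 𝒟 R p (-s) (-t) := by
  refine ⟨fun hp => ?_, fun j hj => ?_⟩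
  · have e : (-t) 0 = -(t 0) := rfl
    rw [map_neg, e, map_neg, h.1 hp]
  · have e1 : (-t) j = -(t j) := rfl
    have e2 : (-t) (j + 1) = -(t (j + 1)) := rfl
    rw [e1, e2, map_neg, map_neg, h.2 j hj]

theorem isZZ_zero_zero (p : ℕ) : IsZZ 𝒟 R p (0 : 𝒟.Γ (R 1)) (0 : TT 𝒟 R) := by
  refine ⟨fun _ => ?_, fun j _ => ?_⟩
  · have e : (0 : TT 𝒟 R) 0 = 0 := rfl
    rw [map_zero, e, map_zero]
  · have e1 : (0 : TT 𝒟 R) j = 0 := rfl
    have e2 : (0 : TT 𝒟 R) (j + 1) = 0 := rfl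
    rw [e1, e2, map_zero, map_zero]

variable (𝒟 R)

/-- the group of cocycles with a zigzag of length `p` -/
def W (p : ℕ) : AddSubgroup (𝒟.Γ (R 1) × TT 𝒟 R) where
  carrier := {w | 𝒟.dΓ (R 1) (R 0) w.1 = 0 ∧ IsZZ 𝒟 R p w.1 w.2}
  zero_mem' := ⟨map_zero _, isZZ_zero_zero p⟩
  add_mem' {a b} ha hb := ⟨by
    show 𝒟.dΓ (R 1) (R 0) (a.1 + b.1) = 0
    rw [map_add, ha.1, hb.1, add_zero], ha.2.add hb.2⟩
  neg_mem' {a} ha := ⟨by
    show 𝒟.dΓ (R 1) (R 0) (-a.1) = 0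
    rw [map_neg, ha.1, neg_zero], ha.2.neg⟩

variable {𝒟 R}

theorem mem_W {p : ℕ} {w : 𝒟.Γ (R 1) × TT 𝒟 R} :
    w ∈ W 𝒟 R p ↔ 𝒟.dΓ (R 1) (R 0) w.1 = 0 ∧ IsZZ 𝒟 R p w.1 w.2 := Iff.rfl

variable (𝒟 R)

/-- the leading term of a zigzag of length `p`, in column `p` and row `R (p + 1)` -/
def lead : ∀ p : ℕ, (𝒟.Γ (R 1) × TT 𝒟 R) →+ 𝒟.A p (R (p + 1))
  | 0 => (𝒟.aug (R 1)).comp (AddMonoidHom.fst _ _)
  | p + 1 => (𝒟.dh p (R (p + 2))).comp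
      ((Pi.evalAddMonoidHom (fun j : ℕ => 𝒟.A j (R (j + 2))) p).comp (AddMonoidHom.snd _ _))

variable {𝒟 R}

theorem lead_zero (w : 𝒟.Γ (R 1) × TT 𝒟 R) : lead 𝒟 R 0 w = 𝒟.aug (R 1) w.1 := rfl

theorem lead_succ (p : ℕ) (w : 𝒟.Γ (R 1) × TT 𝒟 R) :
    lead 𝒟 R (p + 1) w = 𝒟.dh p (R (p + 2)) (w.2 p) := rfl

theorem dv_lead : ∀ (p : ℕ) (w : 𝒟.Γ (R 1) × TT 𝒟 R), w ∈ W 𝒟 R p →
    𝒟.dv p (R (p + 1)) (R p) (lead 𝒟 R p w) = 0
  | 0, w, hw => by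
    rw [lead_zero]
    have h := 𝒟.aug_dΓ (R 1) (R 0) w.1
    rw [hw.1, map_zero] at h
    exact h.symm
  | 1, w, hw => by
    rw [lead_succ]
    have h := 𝒟.dh_dv 0 (R 2) (R 1) (w.2 0)
    rw [← hw.2.1 Nat.one_pos, 𝒟.dh_aug] at h
    exact h.symm
  | p + 2, w, hw => by
    rw [lead_succ]
    have h := 𝒟.dh_dv (p + 1) (R (p + 1 + 2)) (R (p + 2)) (w.2 (p + 1))
    rw [← hw.2.2 p (by omega), 𝒟.dh_dh] at h
    exact h.symm

theorem dh_lead : ∀ (p : ℕ) (w : 𝒟.Γ (R 1) × TT 𝒟 R),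
    𝒟.dh p (R (p + 1)) (lead 𝒟 R p w) = 0
  | 0, w => 𝒟.dh_aug _ _
  | p + 1, w => 𝒟.dh_dh _ _ _

/-! ### Boundaries -/

theorem isZZ_boundary (u : 𝒟.Γ (R 2)) (p : ℕ) :
    IsZZ 𝒟 R p (𝒟.dΓ (R 2) (R 1) u)
      (Function.update (0 : TT 𝒟 R) 0 (𝒟.aug (R 2) u)) := by
  refine ⟨fun _ => ?_, fun j _ => ?_⟩
  · rw [Function.update_self]
    exact 𝒟.aug_dΓ _ _ _
  · have e2 : Function.update (0 : TT 𝒟 R) 0 (𝒟.aug (R 2) u) (j + 1) = 0 := by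
      rw [Function.update_of_ne (Nat.succ_ne_zero j)]
      rfl
    rw [e2, map_zero]
    cases j with
    | zero =>
      rw [Function.update_self]
      exact 𝒟.dh_aug _ _
    | succ j' =>
      have e1 : Function.update (0 : TT 𝒟 R) 0 (𝒟.aug (R 2) u) (j' + 1) = 0 := by
        rw [Function.update_of_ne (Nat.succ_ne_zero j')]
        rfl
      rw [e1, map_zero]

theorem boundary_mem_W (u : 𝒟.Γ (R 2)) (p : ℕ) :
    (𝒟.dΓ (R 2) (R 1) u, Function.update (0 : TT 𝒟 R) 0 (𝒟.aug (R 2) u)) ∈ W 𝒟 R p :=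
  ⟨𝒟.dΓ_dΓ _ _ _ _, isZZ_boundary u p⟩

/-! ### Descent: a zigzag ending in a horizontal cocycle comes from a boundary -/

theorem descent : ∀ (m : ℕ) (s : 𝒟.Γ (R 1)) (t : TT 𝒟 R), IsZZ 𝒟 R (m + 1) s t →
    𝒟.dh m (R (m + 2)) (t m) = 0 → ∃ u : 𝒟.Γ (R 2), s = 𝒟.dΓ (R 2) (R 1) u
  | 0, s, t, hz, h0 => by
    obtain ⟨u, hu⟩ := 𝒟.exact0 (R 2) (t 0) h0
    refine ⟨u, ?_⟩
    apply 𝒟.aug_inj (R 1)
    rw [hz.1 Nat.one_pos, ← hu, 𝒟.aug_dΓ]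
  | m + 1, s, t, hz, h0 => by
    obtain ⟨γ, hγ⟩ := 𝒟.exactS m (R (m + 1 + 2)) (t (m + 1)) h0
    let c : 𝒟.A m (R (m + 2)) := 𝒟.dv m (R (m + 1 + 2)) (R (m + 2)) γ
    let t' : TT 𝒟 R := Function.update t m (t m - c)
    have ht'm : t' m = t m - c := Function.update_self _ _ _
    have ht'ne : ∀ j, j ≠ m → t' j = t j := fun j hj => Function.update_of_ne hj _ _
    have hz' : IsZZ 𝒟 R (m + 1) s t' := by
      refine ⟨fun hp => ?_, fun j hj => ?_⟩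
      · by_cases hm : m = 0
        · subst hm
          rw [ht'm, map_sub, 𝒟.dv_dv, sub_zero]
          exact hz.1 (by omega)
        · rw [ht'ne 0 (fun h => hm h.symm)]
          exact hz.1 (by omega)
      · by_cases hjm : j + 1 = m
        · subst hjm
          rw [ht'm, ht'ne j (by omega), map_sub, 𝒟.dv_dv, sub_zero]
          exact hz.2 j (by omega)
        · rw [ht'ne j (by omega), ht'ne (j + 1) hjm]
          exact hz.2 j (by omega)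
    have h0' : 𝒟.dh m (R (m + 2)) (t' m) = 0 := by
      rw [ht'm, map_sub, 𝒟.dh_dv, hγ, hz.2 m (by omega), sub_self]
    exact descent m s t' hz' h0'

/-! ### The `E₁`-data and the step of the filtration -/

variable (𝒟 R)

/-- the `E₁`-terms: `E p k` sits in column `p` and row `R (k + 1)` -/
structure E1D where
  /-- the terms -/
  E : ℕ → ℕ → Type u
  [instE : ∀ p k, AddCommGroup (E p k)]
  /-- the class of a vertical cocycle -/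
  cl : ∀ p k, (𝒟.dv p (R (k + 1)) (R k)).ker →+ E p k
  cl_surj : ∀ p k, Function.Surjective (cl p k)
  cl_zero : ∀ p k (x : (𝒟.dv p (R (k + 1)) (R k)).ker),
    cl p k x = 0 ↔ ∃ z : 𝒟.A p (R (k + 2)), 𝒟.dv p (R (k + 2)) (R (k + 1)) z = x.1
  /-- the differential -/
  d1 : ∀ p k, E p k →+ E (p + 1) k
  d1_cl : ∀ p k (x : (𝒟.dv p (R (k + 1)) (R k)).ker)
    (hx : 𝒟.dh p (R (k + 1)) x.1 ∈ (𝒟.dv (p + 1) (R (k + 1)) (R k)).ker),
    d1 p k (cl p k x) = cl (p + 1) k ⟨𝒟.dh p (R (k + 1)) x.1, hx⟩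

attribute [instance] E1D.instE

variable {𝒟 R} (ℰ : E1D 𝒟 R)

/-- the class of the leading term -/
def leadCl (p : ℕ) : W 𝒟 R p →+ ℰ.E p p :=
  (ℰ.cl p p).comp (((lead 𝒟 R p).comp (W 𝒟 R p).subtype).codRestrict _
    (fun w => AddMonoidHom.mem_ker.2 (dv_lead p w.1 w.2)))

theorem leadCl_apply (p : ℕ) (w : W 𝒟 R p) :
    leadCl ℰ p w = ℰ.cl p p ⟨lead 𝒟 R p w.1, AddMonoidHom.mem_ker.2 (dv_lead p w.1 w.2)⟩ := rfl

theorem d1_leadCl (p : ℕ) (w : W 𝒟 R p) : ℰ.d1 p p (leadCl ℰ p w) = 0 := by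
  rw [leadCl_apply]
  have hx : 𝒟.dh p (R (p + 1)) (lead 𝒟 R p w.1) ∈ (𝒟.dv (p + 1) (R (p + 1)) (R p)).ker := by
    rw [dh_lead]
    exact zero_mem _
  rw [ℰ.d1_cl p p _ hx]
  have e : (⟨𝒟.dh p (R (p + 1)) (lead 𝒟 R p w.1), hx⟩ :
      (𝒟.dv (p + 1) (R (p + 1)) (R p)).ker) = 0 := Subtype.ext (dh_lead p w.1)
  rw [e, map_zero]

theorem step_zero (w : W 𝒟 R 0) (h : leadCl ℰ 0 w = 0) :
    ∃ t' : TT 𝒟 R, IsZZ 𝒟 R 1 w.1.1 t' := by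
  rw [leadCl_apply] at h
  obtain ⟨z, hz⟩ := (ℰ.cl_zero 0 0 _).1 h
  refine ⟨Function.update (0 : TT 𝒟 R) 0 z, (isZZ_one_iff _ _).2 ?_⟩
  rw [Function.update_self]
  exact hz.symm

theorem step_succ (p : ℕ) (w : W 𝒟 R (p + 1))
    (h : ∃ e : ℰ.E p (p + 1), ℰ.d1 p (p + 1) e = leadCl ℰ (p + 1) w) :
    ∃ t' : TT 𝒟 R, IsZZ 𝒟 R (p + 2) w.1.1 t' := by
  obtain ⟨e, he⟩ := h
  obtain ⟨y, rfl⟩ := ℰ.cl_surj p (p + 1) e
  obtain ⟨⟨s, t⟩, hw⟩ := w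
  have hy : 𝒟.dv p (R (p + 1 + 1)) (R (p + 1)) y.1 = 0 := AddMonoidHom.mem_ker.1 y.2
  have hx : 𝒟.dh p (R (p + 1 + 1)) y.1 ∈ (𝒟.dv (p + 1) (R (p + 1 + 1)) (R (p + 1))).ker := by
    rw [AddMonoidHom.mem_ker, ← 𝒟.dh_dv, hy, map_zero]
  rw [ℰ.d1_cl p (p + 1) y hx, leadCl_apply] at he
  have hl : lead 𝒟 R (p + 1) (s, t) = 𝒟.dh p (R (p + 2)) (t p) := rfl
  have hdiff : ℰ.cl (p + 1) (p + 1)
      (⟨lead 𝒟 R (p + 1) (s, t), AddMonoidHom.mem_ker.2 (dv_lead (p + 1) (s, t) hw)⟩ -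
        ⟨𝒟.dh p (R (p + 1 + 1)) y.1, hx⟩) = 0 := by
    rw [map_sub, ← he, sub_self]
  obtain ⟨z, hz⟩ := (ℰ.cl_zero (p + 1) (p + 1) _).1 hdiff
  have hz' : 𝒟.dv (p + 1) (R (p + 1 + 2)) (R (p + 2)) z = 𝒟.dh p (R (p + 2)) (t p - y.1) := by
    rw [map_sub]
    exact hz
  let t1 : TT 𝒟 R := Function.update t p (t p - y.1)
  let t' : TT 𝒟 R := Function.update t1 (p + 1) z
  have ht1p : t1 p = t p - y.1 := Function.update_self _ _ _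
  have ht1ne : ∀ j, j ≠ p → t1 j = t j := fun j hj => Function.update_of_ne hj _ _
  have ht'p1 : t' (p + 1) = z := Function.update_self _ _ _
  have ht'ne : ∀ j, j ≠ p + 1 → t' j = t1 j := fun j hj => Function.update_of_ne hj _ _
  refine ⟨t', fun _ => ?_, fun j hj => ?_⟩
  · show 𝒟.aug (R 1) s = 𝒟.dv 0 (R 2) (R 1) (t' 0)
    rw [ht'ne 0 (by omega)]
    by_cases hp : p = 0
    · subst hp
      rw [ht1p, map_sub, hy, sub_zero]
      exact hw.2.1 (by omega)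
    · rw [ht1ne 0 (fun h => hp h.symm)]
      exact hw.2.1 (by omega)
  · by_cases hjp : j = p
    · subst hjp
      rw [ht'p1, ht'ne j (by omega), ht1p]
      exact hz'.symm
    · rw [ht'ne j (by omega), ht'ne (j + 1) (by omega), ht1ne j hjp]
      by_cases hj1 : j + 1 = p
      · subst hj1
        rw [ht1p, map_sub, hy, sub_zero]
        exact hw.2.2 j (by omega)
      · rw [ht1ne (j + 1) hj1]
        exact hw.2.2 j (by omega)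

end Groth.Agent.Lib.ZigZagH7
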