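import Mathlib
import Groth.Prelude.Def_CohTop
import Groth.Agent.Lib.CechLeray_helper2
import Groth.Agent.Lib.KInjSect_helper7
import Groth.Agent.Lib.ZigZag_helper7
import Groth.Agent.Lib.HomConcrete_helper7

/-!
# The Čech double complex of a complex of injective sheaves, as zigzag data (helper7)
-/

set_option backward.isDefEq.respectTransparency false
set_option backward.isDefEq.respectTransparency.types false
set_option linter.style.haveILetI false
set_option linter.unusedSectionVars false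
set_option autoImplicit false
universe u
open CategoryTheory CategoryTheory.Limits Opposite TopologicalSpace

namespace Groth.Agent.Lib.CechHyp2H7

open Groth.Agent.Lib.Cech Groth.Agent.Lib.ZigZagH7 Groth.Agent.Lib.KInjSect_helper7

variable {X : TopCat.{u}} {ι : Type u} (U : ι → Opens X) (I : CochainComplex (CohTop.Ab X) ℤ)

/-- the augmented Čech double complex of a complex of injective sheaves -/
noncomputable def dc [∀ i, Injective (I.X i)] : DC.{u} where
  A p i := Coch (I.X i).obj U p
  Γ i := (I.X i).obj.obj (op (iSup U))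
  dv p i j := mapC (I.d i j).hom U p
  dh p i := D (I.X i).obj U p
  dΓ i j := ((I.d i j).hom.app (op (iSup U))).hom
  aug i := aug U (I.X i).obj
  dv_dv p i j k x := by
    funext σ
    exact HomConcreteH7.d_d_apply (CU I (⨅ k, U (σ k))) i j k (x σ)
  dh_dh p i x := D_D (I.X i).obj U p x
  dh_dv p i j x := mapC_D (I.d i j).hom U p x
  dΓ_dΓ i j k s := HomConcreteH7.d_d_apply (CU I (iSup U)) i j k s
  aug_dΓ i j s := (aug_mapC U (I.d i j).hom s).symm
  dh_aug i s := D_aug U (I.X i).obj s
  aug_inj i := aug_injective U (I.X i)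
  exact0 i β hβ := exists_aug U (I.X i) β hβ
  exactS p i β hβ := by
    haveI := FlasqueAcyclic.isFlasque_of_injective (I.X i)
    exact exists_primitive (surjHyp_of_isFlasque (I.X i) U) p β hβ

variable (R : ℕ → ℤ) (hR : ∀ k, R (k + 1) + 1 = R k)

include hR in
lemma next_R (k : ℕ) : (ComplexShape.up ℤ).next (R (k + 1)) = R k :=
  (CochainComplex.next ℤ _).trans (hR k)

include hR in
lemma prev_R (k : ℕ) : (ComplexShape.up ℤ).prev (R (k + 1)) = R (k + 2) := by
  rw [CochainComplex.prev]
  have h : R (k + 2) + 1 = R (k + 1) := hR (k + 1)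
  omega

include hR in
lemma R_eq (k : ℕ) : R k = R 0 - k := by
  induction k with
  | zero => simp
  | succ k ih =>
    have := hR k
    push_cast
    omega

variable [∀ i, Injective (I.X i)]

/-- evaluation of a vertical cocycle at a simplex -/
noncomputable def evK (p k : ℕ) (σ : Fin (p + 1) → ι) :
    ((dc U I).dv p (R (k + 1)) (R k)).ker →+
      HomConcreteH7.Zc (CU I (⨅ j, U (σ j))) (R (k + 1)) (R k) :=
  AddMonoidHom.mk' (fun x => ⟨x.1 σ,
    AddMonoidHom.mem_ker.2 (congrFun (AddMonoidHom.mem_ker.1 x.2) σ)⟩) (fun _ _ => rfl)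

lemma evK_val (p k : ℕ) (σ : Fin (p + 1) → ι) (x : ((dc U I).dv p (R (k + 1)) (R k)).ker) :
    (evK U I R p k σ x).1 = x.1 σ := rfl

/-- restriction of classes -/
lemma res_cls (q q' : ℤ) (hk : (ComplexShape.up ℤ).next q = q') {V W : Opens X} (h : V ≤ W)
    (z : HomConcreteH7.Zc (CU I W) q q') :
    res (PH I q) h (HomConcreteH7.cls (CU I W) q q' hk z) =
      HomConcreteH7.cls (CU I V) q q' hk ⟨res (I.X q).obj h z.1,
        HomConcreteH7.map_mem q q' ((secF I).map (homOfLE h).op) z⟩ :=
  HomConcreteH7.map_cls q q' hk ((secF I).map (homOfLE h).op) z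

/-- the `E₁`-data: Čech cochains of the cohomology presheaves -/
noncomputable def e1d : E1D (dc U I) R where
  E p k := Coch (PH I (R (k + 1))) U p
  cl p k := AddMonoidHom.pi (fun σ =>
    (HomConcreteH7.cls (CU I (⨅ j, U (σ j))) (R (k + 1)) (R k) (next_R R hR k)).comp
      (evK U I R p k σ))
  cl_surj p k := by
    intro e
    choose z hz using fun σ : Fin (p + 1) → ι =>
      HomConcreteH7.cls_surjective (CU I (⨅ j, U (σ j))) (R (k + 1)) (R k) (next_R R hR k) (e σ)
    refine ⟨⟨fun σ => (z σ).1, ?_⟩, ?_⟩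
    · apply AddMonoidHom.mem_ker.2
      funext σ
      exact AddMonoidHom.mem_ker.1 (z σ).2
    · funext σ
      exact hz σ
  cl_zero p k x := by
    constructor
    · intro h
      have h' : ∀ σ : Fin (p + 1) → ι, ∃ y : (CU I (⨅ j, U (σ j))).X (R (k + 2)),
          ((CU I (⨅ j, U (σ j))).d (R (k + 2)) (R (k + 1))).hom y = x.1 σ := fun σ =>
        (HomConcreteH7.cls_eq_zero_iff _ _ _ (next_R R hR k) (R (k + 2)) (prev_R R hR k)
          (evK U I R p k σ x)).1 (congrFun h σ)
      choose y hy using h'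
      exact ⟨y, funext hy⟩
    · rintro ⟨z, hz⟩
      funext σ
      exact (HomConcreteH7.cls_eq_zero_iff _ _ _ (next_R R hR k) (R (k + 2)) (prev_R R hR k)
        (evK U I R p k σ x)).2 ⟨z σ, congrFun hz σ⟩
  d1 p k := D (PH I (R (k + 1))) U p
  d1_cl p k x hx := by
    funext σ
    have hterm : ∀ j : Fin (p + 2),
        res (PH I (R (k + 1))) (face_le U σ j)
          (HomConcreteH7.cls (CU I (⨅ l, U ((σ ∘ j.succAbove) l))) (R (k + 1)) (R k)
            (next_R R hR k) (evK U I R p k (σ ∘ j.succAbove) x)) =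
        HomConcreteH7.cls (CU I (⨅ l, U (σ l))) (R (k + 1)) (R k) (next_R R hR k)
          ⟨res (I.X (R (k + 1))).obj (face_le U σ j) (x.1 (σ ∘ j.succAbove)),
            HomConcreteH7.map_mem _ _ ((secF I).map (homOfLE (face_le U σ j)).op)
              (evK U I R p k (σ ∘ j.succAbove) x)⟩ :=
      fun j => res_cls I (R (k + 1)) (R k) (next_R R hR k) (face_le U σ j) _
    refine (D_apply _ U p _ σ).trans ?_
    refine (Finset.sum_congr rfl
      (fun (j : Fin (p + 2)) _ => congrArg (fun t => (-1 : ℤ) ^ (j : ℕ) • t) (hterm j))).trans ?_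
    refine (Finset.sum_congr rfl (fun (j : Fin (p + 2)) _ => (map_zsmul (HomConcreteH7.cls
      (CU I (⨅ l, U (σ l))) (R (k + 1)) (R k) (next_R R hR k)) _ _).symm)).trans ?_
    refine (map_sum (HomConcreteH7.cls (CU I (⨅ l, U (σ l))) (R (k + 1)) (R k)
      (next_R R hR k)) _ _).symm.trans ?_
    show HomConcreteH7.cls (CU I (⨅ l, U (σ l))) (R (k + 1)) (R k) (next_R R hR k) _ =
      HomConcreteH7.cls (CU I (⨅ l, U (σ l))) (R (k + 1)) (R k) (next_R R hR k) _
    congr 1
    apply Subtype.ext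
    refine (map_sum (HomConcreteH7.Zc (CU I (⨅ l, U (σ l))) (R (k + 1)) (R k)).subtype _ _).trans ?_
    refine (Finset.sum_congr rfl (fun (j : Fin (p + 2)) _ => map_zsmul
      (HomConcreteH7.Zc (CU I (⨅ l, U (σ l))) (R (k + 1)) (R k)).subtype _ _)).trans ?_
    exact (D_apply _ U p _ σ).symm

section CechHom

variable (P : (Opens X)ᵒᵖ ⥤ AddCommGrpCat.{u})

/-- Čech cocycles as cycles of Mathlib's Čech complex -/
noncomputable def cmpKer (p : ℕ) :
    (D P U p).ker →+ HomConcreteH7.Zc ((cechComplexFunctor U).obj P) p (p + 1) :=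
  AddMonoidHom.mk' (fun z => ⟨(cmp P U p).symm z.1, by
      apply AddMonoidHom.mem_ker.2
      apply (cmp P U (p + 1)).injective
      rw [cmp_d, AddEquiv.apply_symm_apply, map_zero]
      exact AddMonoidHom.mem_ker.1 z.2⟩)
    (fun x y => Subtype.ext (map_add (cmp P U p).symm x.1 y.1))

lemma cmpKer_val (p : ℕ) (z : (D P U p).ker) : (cmpKer U P p z).1 = (cmp P U p).symm z.1 := rfl

/-- the class of a Čech cocycle -/
noncomputable def π (p : ℕ) : (D P U p).ker →+ ((cechComplexFunctor U).obj P).homology p :=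
  (HomConcreteH7.cls _ p (p + 1) (CochainComplex.next ℕ p)).comp (cmpKer U P p)

lemma exists_of_π_succ_eq_zero (p : ℕ) (z : (D P U (p + 1)).ker) (h : π U P (p + 1) z = 0) :
    ∃ y : Coch P U p, D P U p y = z.1 := by
  obtain ⟨y', hy'⟩ := (HomConcreteH7.cls_eq_zero_iff _ (p + 1) (p + 1 + 1)
    (CochainComplex.next ℕ (p + 1)) p (CochainComplex.prev_nat_succ p) (cmpKer U P (p + 1) z)).1 h
  refine ⟨cmp P U p y', ?_⟩
  rw [← cmp_d, hy', cmpKer_val, AddEquiv.apply_symm_apply]

lemma eq_zero_of_π_zero_eq_zero (z : (D P U 0).ker) (h : π U P 0 z = 0) : z = 0 := by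
  have h0 : ((cechComplexFunctor U).obj P).d 0 0 = 0 :=
    HomologicalComplex.shape _ _ _ (by simp)
  have h1 := HomConcreteH7.cls_eq_zero_of_d_eq_zero _ 0 (0 + 1) (CochainComplex.next ℕ 0) 0
    CochainComplex.prev_nat_zero h0 (cmpKer U P 0 z) h
  apply Subtype.ext
  have h2 : (cmp P U 0).symm z.1 = 0 := congrArg Subtype.val h1
  exact (cmp P U 0).symm.injective (h2.trans (map_zero _).symm)

/-- Čech cohomology is invariant under isomorphisms of presheaves -/
noncomputable def cechHEquiv {P P' : (Opens X)ᵒᵖ ⥤ AddCommGrpCat.{u}} (θ : P ≅ P') (p : ℕ) :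
    ((cechComplexFunctor U).obj P).homology p ≃ₗ[ℤ] ((cechComplexFunctor U).obj P').homology p :=
  ((HomologicalComplex.homologyFunctor _ _ p).mapIso
    ((cechComplexFunctor U).mapIso θ)).addCommGroupIsoToAddEquiv.toIntLinearEquiv

end CechHom

end Groth.Agent.Lib.CechHyp2H7
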