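import Mathlib
import Groth.Agent.Lib.KInjSect_helper7

/-!
# Hypercohomology presheaves of a K-injective complex, in all degrees (helper7)

For a K-injective complex `I` of abelian sheaves on a small site and `M ≅ Q I` in the derived
category: `HDUPresheaf M q ≅ (V ↦ H^q(I(V)))`.
-/

set_option backward.isDefEq.respectTransparency false
set_option backward.isDefEq.respectTransparency.types false
set_option linter.style.haveILetI false
set_option linter.unusedSectionVars false
set_option autoImplicit false
universe u
open CategoryTheory CategoryTheory.Limits Opposite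

namespace Groth.Agent.Lib.SecShiftH7

open Groth.Agent.Lib.KInjSect_helper7 Groth.Agent.Lib.HDSheaf_helper7

variable {C : Type u} [SmallCategory C] {J : GrothendieckTopology C}

/-- sections of a shifted complex are the shifted complex of sections -/
noncomputable def secShift (I : CochainComplex (Sheaf J AddCommGrpCat.{u}) ℤ) (q : ℤ) :
    secF (I⟦q⟧) ≅ secF I ⋙ shiftFunctor (CochainComplex AddCommGrpCat.{u} ℤ) q :=
  NatIso.ofComponents
    (fun V => HomologicalComplex.Hom.isoOfComponents (fun i => Iso.refl _)
      (fun i j _ => by
        simp only [Iso.refl_hom, Category.id_comp, Category.comp_id]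
        rfl))
    (fun {V W} g => by
      ext i
      simp only [HomologicalComplex.comp_f, HomologicalComplex.Hom.isoOfComponents_hom_f,
        Iso.refl_hom, Category.id_comp, Category.comp_id]
      rfl)

/-- `H⁰` of the sections of the shifted complex is `H^q` of the sections -/
noncomputable def phShift (I : CochainComplex (Sheaf J AddCommGrpCat.{u}) ℤ) (q : ℤ) :
    PH (I⟦q⟧) 0 ≅ PH I q :=
  Functor.isoWhiskerRight (secShift I q) _ ≪≫ Functor.associator _ _ _ ≪≫
    Functor.isoWhiskerLeft (secF I)
      ((HomologicalComplex.homologyFunctor AddCommGrpCat.{u} (ComplexShape.up ℤ) 0).shiftIso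
        q 0 q (add_zero q))

variable [HasDerivedCategory.{u} (Sheaf J AddCommGrpCat.{u})]

/-- the hypercohomology presheaves of an object represented by a K-injective complex -/
noncomputable def hduIso (I : CochainComplex (Sheaf J AddCommGrpCat.{u}) ℤ) [I.IsKInjective]
    (M : DerivedCategory (Sheaf J AddCommGrpCat.{u})) (e : M ≅ DerivedCategory.Q.obj I) (q : ℤ) :
    CohCx.HDUPresheaf M q ≅ PH I q :=
  haveI : (I⟦q⟧).IsKInjective := inferInstance
  (ppIso ((shiftFunctor (DerivedCategory (Sheaf J AddCommGrpCat.{u})) q).mapIso e) :
    CohCx.HDUPresheaf M q ≅ PP ((DerivedCategory.Q.obj I)⟦q⟧)) ≪≫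
  ppIso ((DerivedCategory.Q.commShiftIso q).app I).symm ≪≫
  (kiIso (I⟦q⟧)).symm ≪≫ phShift I q

end Groth.Agent.Lib.SecShiftH7
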