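import Mathlib
import Groth.Prelude.Def_HTor

/-!
# A criterion for a quotient of submodules to be a subquotient (helper7)
-/

set_option autoImplicit false
set_option linter.unusedSectionVars false

universe u v

namespace Groth.Agent.Lib.SubQuotH7

variable {R : Type v} [CommRing R]

/-- two surjective linear maps with the same kernel have isomorphic targets -/
theorem nonempty_linearEquiv_of_surj {W A B : Type*} [AddCommGroup W] [Module R W]
    [AddCommGroup A] [Module R A] [AddCommGroup B] [Module R B]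
    (f : W →ₗ[R] A) (g : W →ₗ[R] B) (hf : Function.Surjective f) (hg : Function.Surjective g)
    (hk : ∀ w, f w = 0 ↔ g w = 0) : Nonempty (A ≃ₗ[R] B) := by
  have hker : LinearMap.ker f = LinearMap.ker g := by
    ext w
    simp only [LinearMap.mem_ker]
    exact hk w
  exact ⟨(f.quotKerEquivOfSurjective hf).symm.trans
    ((Submodule.quotEquivOfEq _ _ hker).trans (g.quotKerEquivOfSurjective hg))⟩

/-- **Subquotient criterion.** -/
theorem isSubquotient_of_correspondence {H T : Type u} [AddCommGroup H] [Module R H]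
    [AddCommGroup T] [Module R T] (G G' : Submodule R H) {W : Type*} [AddCommGroup W]
    [Module R W] (a : W →ₗ[R] H) (μ : W →ₗ[R] T) (h1 : ∀ w, a w ∈ G)
    (h2 : ∀ g ∈ G, ∃ w, a w = g) (h3 : ∀ w, μ w = 0 → a w ∈ G') :
    HTor.IsSubquotient R (↥G ⧸ Submodule.comap G.subtype G') T := by
  let S' : Submodule R T := LinearMap.range μ
  let S : Submodule R T := Submodule.map μ (Submodule.comap a G')
  have hSS' : S ≤ S' := by
    rintro x ⟨w, _, rfl⟩
    exact ⟨w, rfl⟩
  refine ⟨S, S', hSS', ?_⟩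
  let f0 : W →ₗ[R] ↥G := a.codRestrict G h1
  let f : W →ₗ[R] (↥G ⧸ Submodule.comap G.subtype G') :=
    (Submodule.mkQ (Submodule.comap G.subtype G')).comp f0
  let g0 : W →ₗ[R] ↥S' := μ.codRestrict S' (fun w => ⟨w, rfl⟩)
  let g : W →ₗ[R] (↥S' ⧸ Submodule.comap S'.subtype S) :=
    (Submodule.mkQ (Submodule.comap S'.subtype S)).comp g0
  have hf : Function.Surjective f := by
    intro x
    obtain ⟨⟨y, hy⟩, rfl⟩ := Submodule.mkQ_surjective _ x
    obtain ⟨w, hw⟩ := h2 y hy
    exact ⟨w, congrArg (Submodule.mkQ _) (Subtype.ext hw)⟩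
  have hg : Function.Surjective g := by
    intro x
    obtain ⟨⟨y, w, rfl⟩, rfl⟩ := Submodule.mkQ_surjective _ x
    exact ⟨w, rfl⟩
  have hfk : ∀ w, f w = 0 ↔ a w ∈ G' := by
    intro w
    show Submodule.mkQ _ (f0 w) = 0 ↔ _
    rw [Submodule.mkQ_apply, Submodule.Quotient.mk_eq_zero, Submodule.mem_comap]
    rfl
  have hgk : ∀ w, g w = 0 ↔ a w ∈ G' := by
    intro w
    have e : g w = 0 ↔ μ w ∈ S := by
      show Submodule.mkQ _ (g0 w) = 0 ↔ _
      rw [Submodule.mkQ_apply, Submodule.Quotient.mk_eq_zero, Submodule.mem_comap]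
      rfl
    rw [e]
    constructor
    · rintro ⟨w', hw', hww'⟩
      have h4 : μ (w - w') = 0 := by rw [map_sub, hww', sub_self]
      have h5 := h3 (w - w') h4
      rw [map_sub] at h5
      have h6 : a w = (a w - a w') + a w' := by abel
      rw [h6]
      exact G'.add_mem h5 hw'
    · intro hw
      exact ⟨w, hw, rfl⟩
  exact nonempty_linearEquiv_of_surj f g hf hg (fun w => (hfk w).trans (hgk w).symm)

/-- `IsSubquotient` is invariant under linear equivalences of the ambient module -/
theorem isSubquotient_of_equiv_right {N T T' : Type u} [AddCommGroup N] [Module R N]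
    [AddCommGroup T] [Module R T] [AddCommGroup T'] [Module R T'] (e : T ≃ₗ[R] T')
    (h : HTor.IsSubquotient R N T) : HTor.IsSubquotient R N T' := by
  obtain ⟨S, S', hSS', ⟨φ⟩⟩ := h
  refine ⟨S.map e.toLinearMap, S'.map e.toLinearMap, Submodule.map_mono hSS', ?_⟩
  let f : ↥S' →ₗ[R] (↥(S'.map e.toLinearMap) ⧸
      Submodule.comap (S'.map e.toLinearMap).subtype (S.map e.toLinearMap)) :=
    (Submodule.mkQ _).comp ((e.toLinearMap.comp S'.subtype).codRestrict (S'.map e.toLinearMap)
      (fun x => ⟨x.1, x.2, rfl⟩))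
  have hf : Function.Surjective f := by
    intro x
    obtain ⟨⟨y, y', hy', rfl⟩, rfl⟩ := Submodule.mkQ_surjective _ x
    exact ⟨⟨y', hy'⟩, rfl⟩
  have hfk : ∀ x : ↥S', f x = 0 ↔ x.1 ∈ S := by
    intro x
    show Submodule.mkQ _ _ = 0 ↔ _
    rw [Submodule.mkQ_apply, Submodule.Quotient.mk_eq_zero, Submodule.mem_comap]
    constructor
    · rintro ⟨y, hy, hxy⟩
      have : y = x.1 := e.injective hxy
      rw [← this]
      exact hy
    · intro hx
      exact ⟨x.1, hx, rfl⟩
  have hgk : ∀ x : ↥S', (Submodule.mkQ (Submodule.comap S'.subtype S)) x = 0 ↔ x.1 ∈ S := by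
    intro x
    rw [Submodule.mkQ_apply, Submodule.Quotient.mk_eq_zero, Submodule.mem_comap]
    rfl
  obtain ⟨ψ⟩ := nonempty_linearEquiv_of_surj (Submodule.mkQ (Submodule.comap S'.subtype S)) f
    (Submodule.mkQ_surjective _) hf (fun x => (hgk x).trans (hfk x).symm)
  exact ⟨φ.trans ψ⟩

/-- `IsSubquotient` is invariant under linear equivalences of the module -/
theorem isSubquotient_of_equiv_left {N N' T : Type u} [AddCommGroup N] [Module R N]
    [AddCommGroup N'] [Module R N'] [AddCommGroup T] [Module R T] (e : N ≃ₗ[R] N')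
    (h : HTor.IsSubquotient R N T) : HTor.IsSubquotient R N' T := by
  obtain ⟨S, S', hSS', ⟨φ⟩⟩ := h
  exact ⟨S, S', hSS', ⟨e.symm.trans φ⟩⟩

end Groth.Agent.Lib.SubQuotH7
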