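import Mathlib
import Groth.Prelude.Def_CohCx
import Groth.Prelude.Def_CohB1
import Groth.Prelude.Def_HTor
import Groth.Agent.Lib.CechHyp2_helper7
import Groth.Agent.Lib.SecShift_helper7
import Groth.Agent.Lib.SubQuot_helper7

/-!
# The Čech-to-hypercohomology spectral sequence, in filtration form (helper7)
-/

set_option backward.isDefEq.respectTransparency false
set_option backward.isDefEq.respectTransparency.types false
set_option linter.style.haveILetI false
set_option linter.unusedSectionVars false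
set_option autoImplicit false
universe u
open CategoryTheory CategoryTheory.Limits Opposite TopologicalSpace

namespace Groth.Agent.Lib.CechHypMainH7

open Groth.Agent.Lib.Cech Groth.Agent.Lib.ZigZagH7 Groth.Agent.Lib.KInjSect_helper7
  Groth.Agent.Lib.CechHyp2H7 Groth.Agent.Lib.SecShiftH7

variable {X : TopCat.{u}}

lemma eq_zero_of_isZero (F : CohTop.Ab X) (hF : IsZero F) (V : Opens X) (x : F.obj.obj (op V)) :
    x = 0 := by
  have h : 𝟙 F = 0 := hF.eq_of_src _ _
  have h2 := congrArg (fun f => (f.hom.app (op V)).hom x) h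
  exact h2

variable [HasDerivedCategory.{u} (CohTop.Ab X)] {ι : Type u} (U : ι → Opens X)
  (I : CochainComplex (CohTop.Ab X) ℤ) [I.IsKInjective]
  (M : DerivedCategory (CohTop.Ab X)) (e : M ≅ DerivedCategory.Q.obj I)

/-- hypercohomology over `V` as the cohomology of the sections of `I` -/
noncomputable def eV (q : ℤ) (V : Opens X) : CohCx.HDU M q V ≃+ (CU I V).homology q :=
  ((hduIso I M e q).app (op V)).addCommGroupIsoToAddEquiv

lemma eV_res (q : ℤ) {V V' : Opens X} (h : V ≤ V') (x : CohCx.HDU M q V') :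
    eV I M e q V (CohCx.HDUres M q (homOfLE h) x) = res (PH I q) h (eV I M e q V' x) := by
  have h1 := congrArg (fun f => f.hom x) ((hduIso I M e q).hom.naturality (homOfLE h).op)
  exact h1

variable [∀ i, Injective (I.X i)] (R : ℕ → ℤ) (hR : ∀ k, R (k + 1) + 1 = R k)

/-- the class map on global cocycles -/
noncomputable abbrev cls1 :
    HomConcreteH7.Zc (CU I (iSup U)) (R 1) (R 0) →+ (CU I (iSup U)).homology (R 1) :=
  HomConcreteH7.cls (CU I (iSup U)) (R 1) (R 0) (next_R R hR 0)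

/-- the cocycle of a zigzag -/
noncomputable def fstW (p : ℕ) :
    W (dc U I) R p →+ HomConcreteH7.Zc (CU I (iSup U)) (R 1) (R 0) :=
  AddMonoidHom.mk' (fun w => ⟨w.1.1, AddMonoidHom.mem_ker.2 w.2.1⟩) (fun _ _ => rfl)

/-- the hypercohomology class of a zigzag -/
noncomputable def aW (p : ℕ) : W (dc U I) R p →+ CohCx.HDU M (R 1) (iSup U) :=
  (eV I M e (R 1) (iSup U)).symm.toAddMonoidHom.comp ((cls1 U I R hR).comp (fstW U I R p))

lemma aW_apply (p : ℕ) (w : W (dc U I) R p) :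
    aW U I M e R hR p w = (eV I M e (R 1) (iSup U)).symm
      (cls1 U I R hR ⟨w.1.1, AddMonoidHom.mem_ker.2 w.2.1⟩) := rfl

/-- the filtration -/
noncomputable def G (p : ℕ) : Submodule ℤ (CohCx.HDU M (R 1) (iSup U)) :=
  AddSubgroup.toIntSubmodule (aW U I M e R hR p).range

lemma mem_G (p : ℕ) (x : CohCx.HDU M (R 1) (iSup U)) :
    x ∈ G U I M e R hR p ↔ ∃ w, aW U I M e R hR p w = x := Iff.rfl

lemma G_succ_le (p : ℕ) : G U I M e R hR (p + 1) ≤ G U I M e R hR p := by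
  intro x hx
  obtain ⟨w, rfl⟩ := (mem_G U I M e R hR (p + 1) x).1 hx
  exact (mem_G U I M e R hR p _).2 ⟨⟨w.1, ⟨w.2.1, w.2.2.of_succ⟩⟩, rfl⟩

lemma G_zero : G U I M e R hR 0 = ⊤ := by
  refine eq_top_iff.2 (fun x _ => ?_)
  obtain ⟨z, hz⟩ := HomConcreteH7.cls_surjective (CU I (iSup U)) (R 1) (R 0) (next_R R hR 0)
    (eV I M e (R 1) (iSup U) x)
  refine (mem_G U I M e R hR 0 x).2
    ⟨⟨(z.1, 0), ⟨AddMonoidHom.mem_ker.1 z.2, isZZ_zero _ _⟩⟩, ?_⟩
  rw [aW_apply]
  apply (eV I M e (R 1) (iSup U)).injective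
  rw [AddEquiv.apply_symm_apply]
  exact hz

lemma G_bot (a : ℤ) (hzero : ∀ j, j < a → IsZero (I.X j)) (m : ℕ) (hm : R (m + 2) < a) :
    G U I M e R hR (m + 1) = ⊥ := by
  refine eq_bot_iff.2 ?_
  intro x hx
  obtain ⟨w, rfl⟩ := (mem_G U I M e R hR (m + 1) x).1 hx
  rw [Submodule.mem_bot]
  have ht : w.1.2 m = 0 := by
    funext σ
    exact eq_zero_of_isZero (I.X (R (m + 2))) (hzero _ hm) _ _
  have h0 : (dc U I).dh m (R (m + 2)) (w.1.2 m) = 0 := by rw [ht, map_zero]
  obtain ⟨u, hu⟩ := descent m w.1.1 w.1.2 w.2.2 h0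
  rw [aW_apply]
  have hc : cls1 U I R hR ⟨w.1.1, AddMonoidHom.mem_ker.2 w.2.1⟩ = 0 :=
    (HomConcreteH7.cls_eq_zero_iff _ _ _ (next_R R hR 0) (R 2) (prev_R R hR 0) _).2 ⟨u, hu.symm⟩
  rw [hc, map_zero]

lemma G_one (hle : ∀ i, U i ≤ iSup U) :
    G U I M e R hR 1 = ⨅ i, AddSubgroup.toIntSubmodule
      (CohCx.HDUres M (R 1) (homOfLE (hle i) : U i ⟶ iSup U)).ker := by
  ext x
  rw [Submodule.mem_iInf]
  constructor
  · intro hx i
    obtain ⟨w, rfl⟩ := (mem_G U I M e R hR 1 x).1 hx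
    show CohCx.HDUres M (R 1) (homOfLE (hle i)) (aW U I M e R hR 1 w) = 0
    apply (eV I M e (R 1) (U i)).injective
    rw [eV_res, map_zero, aW_apply, AddEquiv.apply_symm_apply]
    refine (res_cls I (R 1) (R 0) (next_R R hR 0) (hle i) _).trans ?_
    refine (HomConcreteH7.cls_eq_zero_iff _ _ _ (next_R R hR 0) (R 2) (prev_R R hR 0) _).2
      ⟨res (I.X (R 2)).obj (le_const U i) (w.1.2 0 (fun _ => i)), ?_⟩
    have h1 : aug U (I.X (R 1)).obj w.1.1 = mapC (I.d (R 2) (R 1)).hom U 0 (w.1.2 0) :=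
      (isZZ_one_iff _ _).1 w.2.2
    have h2 := congrArg (res (I.X (R 1)).obj (le_const U i)) (congrFun h1 (fun _ => i))
    rw [aug_apply, res_res, mapC_apply, ← res_app] at h2
    exact h2.symm
  · intro hx
    obtain ⟨z, hz⟩ := HomConcreteH7.cls_surjective (CU I (iSup U)) (R 1) (R 0) (next_R R hR 0)
      (eV I M e (R 1) (iSup U) x)
    have hres : ∀ σ : Fin 1 → ι, res (PH I (R 1)) (aug_le U σ) (cls1 U I R hR z) = 0 := by
      intro σ
      have h0 : (⨅ k, U (σ k)) ≤ U (σ 0) := iInf_le (fun k => U (σ k)) 0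
      have h3 : CohCx.HDUres M (R 1) (homOfLE (hle (σ 0))) x = 0 :=
        AddMonoidHom.mem_ker.1 (hx (σ 0))
      rw [← res_res (PH I (R 1)) h0 (hle (σ 0)), hz, ← eV_res, h3, map_zero, map_zero]
    have hex : ∀ σ : Fin 1 → ι, ∃ y : (I.X (R 2)).obj.obj (op (⨅ k, U (σ k))),
        ((I.d (R 2) (R 1)).hom.app (op (⨅ k, U (σ k)))).hom y =
          res (I.X (R 1)).obj (aug_le U σ) z.1 := by
      intro σ
      have h1 := (res_cls I (R 1) (R 0) (next_R R hR 0) (aug_le U σ) z).symm.trans (hres σ)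
      exact (HomConcreteH7.cls_eq_zero_iff _ _ _ (next_R R hR 0) (R 2) (prev_R R hR 0) _).1 h1
    choose t0 ht0 using hex
    let t : TT (dc U I) R := Function.update (0 : TT (dc U I) R) 0 t0
    have hz1 : IsZZ (dc U I) R 1 z.1 t := by
      refine (isZZ_one_iff _ _).2 ?_
      have ht : t 0 = t0 := Function.update_self _ _ _
      rw [ht]
      funext σ
      exact (ht0 σ).symm
    refine (mem_G U I M e R hR 1 x).2 ⟨⟨(z.1, t), ⟨AddMonoidHom.mem_ker.1 z.2, hz1⟩⟩, ?_⟩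
    rw [aW_apply]
    apply (eV I M e (R 1) (iSup U)).injective
    rw [AddEquiv.apply_symm_apply]
    exact hz

/-- the leading class, as a Čech cocycle -/
noncomputable def leadK (p : ℕ) : W (dc U I) R p →+ (D (PH I (R (p + 1))) U p).ker :=
  AddMonoidHom.mk' (fun w => ⟨leadCl (e1d U I R hR) p w,
      AddMonoidHom.mem_ker.2 (d1_leadCl (e1d U I R hR) p w)⟩)
    (fun x y => Subtype.ext (map_add (leadCl (e1d U I R hR) p) x y))

/-- the leading class in Čech cohomology -/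
noncomputable def μ (p : ℕ) :
    W (dc U I) R p →+ ((cechComplexFunctor U).obj (PH I (R (p + 1)))).homology p :=
  (π U (PH I (R (p + 1))) p).comp (leadK U I R hR p)

lemma step (p : ℕ) (w : W (dc U I) R p) (h : μ U I R hR p w = 0) :
    ∃ t' : TT (dc U I) R, IsZZ (dc U I) R (p + 1) w.1.1 t' := by
  cases p with
  | zero =>
    have h1 : leadK U I R hR 0 w = 0 := eq_zero_of_π_zero_eq_zero U _ _ h
    exact step_zero (e1d U I R hR) w (congrArg Subtype.val h1)
  | succ p' =>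
    obtain ⟨y, hy⟩ := exists_of_π_succ_eq_zero U _ p' _ h
    exact step_succ (e1d U I R hR) p' w ⟨y, hy⟩

theorem subq (p : ℕ) : HTor.IsSubquotient ℤ (HTor.grDesc (G U I M e R hR) p)
    (CohB1.cechHTop U (CohCx.HDUPresheaf M (R (p + 1))) p) := by
  have h := SubQuotH7.isSubquotient_of_correspondence (G U I M e R hR p) (G U I M e R hR (p + 1))
    (aW U I M e R hR p).toIntLinearMap (μ U I R hR p).toIntLinearMap
    (fun w => (mem_G U I M e R hR p _).2 ⟨w, rfl⟩)
    (fun g hg => (mem_G U I M e R hR p g).1 hg)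
    (fun w hw => by
      obtain ⟨t', ht'⟩ := step U I R hR p w hw
      exact (mem_G U I M e R hR (p + 1) _).2 ⟨⟨(w.1.1, t'), ⟨w.2.1, ht'⟩⟩, rfl⟩)
  exact SubQuotH7.isSubquotient_of_equiv_right
    (cechHEquiv U (hduIso I M e (R (p + 1))) p).symm h

include e hR in
theorem main_gen (a : ℤ) (hzero : ∀ j, j < a → IsZero (I.X j)) (hle : ∀ i, U i ≤ iSup U)
    (n : ℤ) (hn : R 1 = n) (q : ℕ → ℤ) (hq : ∀ p, R (p + 1) = q p) :
    ∃ (N : ℕ) (G : ℕ → Submodule ℤ (CohCx.HDU M n (iSup U))),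
      Antitone G ∧ G 0 = ⊤ ∧ G N = ⊥ ∧
      G 1 = ⨅ i, AddSubgroup.toIntSubmodule
        (CohCx.HDUres M n (homOfLE (hle i) : U i ⟶ iSup U)).ker ∧
      ∀ p : ℕ, HTor.IsSubquotient ℤ (HTor.grDesc G p)
        (CohB1.cechHTop U (CohCx.HDUPresheaf M (q p)) p) := by
  subst hn
  obtain rfl : q = fun p => R (p + 1) := funext (fun p => (hq p).symm)
  refine ⟨(R 0 - a).toNat + 1, G U I M e R hR, antitone_nat_of_succ_le (G_succ_le U I M e R hR),
    G_zero U I M e R hR, G_bot U I M e R hR a hzero _ ?_, G_one U I M e R hR hle,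
    subq U I M e R hR⟩
  rw [R_eq R hR ((R 0 - a).toNat + 2)]
  have := Int.self_le_toNat (R 0 - a)
  push_cast
  omega

end Groth.Agent.Lib.CechHypMainH7

namespace Groth.Agent.Lib.CechHypMainH7

open DerivedCategory in
theorem main {X : TopCat.{u}} [HasDerivedCategory.{u} (CohTop.Ab X)] {ι : Type u}
    (U : ι → Opens X) (V : Opens X) (hV : iSup U = V) (hle : ∀ i, U i ≤ V)
    (K : CochainComplex (CohTop.Ab X) ℤ) (a : ℤ) (ha : ∀ i : ℤ, i < a → IsZero (K.X i)) (n : ℤ) :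
    ∃ (N : ℕ) (G : ℕ → Submodule ℤ (CohCx.HDU (DerivedCategory.Q.obj K) n V)),
      Antitone G ∧ G 0 = ⊤ ∧ G N = ⊥ ∧
      G 1 = ⨅ i, AddSubgroup.toIntSubmodule
        (CohCx.HDUres (DerivedCategory.Q.obj K) n (homOfLE (hle i) : U i ⟶ V)).ker ∧
      ∀ p : ℕ, HTor.IsSubquotient ℤ (HTor.grDesc G p)
        (CohB1.cechHTop U (CohCx.HDUPresheaf (DerivedCategory.Q.obj K) (n - p)) p) := by
  subst hV
  haveI : K.IsStrictlyGE a := (CochainComplex.isStrictlyGE_iff K a).2 (fun i hi => ha i hi)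
  obtain ⟨L, i, hi, hinj, hL⟩ :=
    CochainComplex.Plus.modelCategoryQuillen.exists_quasiIso_injective K a
  haveI := hi
  haveI := hinj
  haveI := hL
  haveI : L.IsKInjective := CochainComplex.isKInjective_of_injective L a
  have hzero : ∀ j, j < a → IsZero (L.X j) := fun j hj =>
    CochainComplex.isZero_of_isStrictlyGE L a j hj
  let e : DerivedCategory.Q.obj K ≅ DerivedCategory.Q.obj L := asIso (DerivedCategory.Q.map i)
  exact main_gen U L _ e (fun k : ℕ => n + 1 - (k : ℤ)) (fun k => by push_cast; ring) a hzero hle n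
    (by push_cast; ring) (fun p : ℕ => n - (p : ℤ)) (fun p => by push_cast; ring)

end Groth.Agent.Lib.CechHypMainH7
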