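import Mathlib
import Groth.Agent.Lib.CechSiteInj_helper2

/-!
# Čech cohomology of the underlying abelian presheaf of an injective presheaf of `Λ`-modules
vanishes in positive degrees (helper7)

Same argument as helper2's `CechSiteInj`, with the free presheaves `Λ[∐_σ h_{Y_σ}]` of
`Λ`-modules, which are objectwise contractible in positive degrees.
-/

set_option autoImplicit false
set_option backward.isDefEq.respectTransparency false
set_option linter.unusedSectionVars false
universe w v u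
open CategoryTheory Limits Opposite

namespace Groth.Agent.Lib.CechInjModH7

open Groth.Agent.Lib.CechSite

variable {C : Type u} [Category.{v} C] [LocallySmall.{w} C] {U : C} [HasFiniteProducts (Over U)]
  {ι : Type w} (Y : ι → Over U) (Λ : Type w) [CommRing Λ]

/-- the boundary on free modules -/
noncomputable def bdΛ (n : ℕ) (V : C) : (K Y (n + 1) V →₀ Λ) →ₗ[Λ] (K Y n V →₀ Λ) :=
  Finsupp.linearCombination Λ (fun s : K Y (n + 1) V =>
    ∑ k : Fin (n + 2), (-1 : ℤ) ^ (k : ℕ) • (Finsupp.single (K.face k s) (1 : Λ) : K Y n V →₀ Λ))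

lemma bdΛ_single (n : ℕ) (V : C) (s : K Y (n + 1) V) :
    bdΛ Y Λ n V (Finsupp.single s 1) =
      ∑ k : Fin (n + 2), (-1 : ℤ) ^ (k : ℕ) • (Finsupp.single (K.face k s) (1 : Λ) : K Y n V →₀ Λ) := by
  unfold bdΛ
  rw [Finsupp.linearCombination_single, one_smul]

/-- the contracting homotopy -/
noncomputable def hhΛ (n : ℕ) (V : C) : (K Y n V →₀ Λ) →ₗ[Λ] (K Y (n + 1) V →₀ Λ) :=
  Finsupp.lmapDomain Λ Λ (cone : K Y n V → K Y (n + 1) V)

lemma hhΛ_single (n : ℕ) (V : C) (s : K Y n V) (b : Λ) :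
    hhΛ Y Λ n V (Finsupp.single s b) = Finsupp.single (cone s) b := by
  unfold hhΛ
  rw [Finsupp.lmapDomain_apply, Finsupp.mapDomain_single]

lemma homotopyΛ (n : ℕ) (V : C) (x : K Y (n + 1) V →₀ Λ) :
    bdΛ Y Λ (n + 1) V (hhΛ Y Λ (n + 1) V x) + hhΛ Y Λ n V (bdΛ Y Λ n V x) = x := by
  have h : (bdΛ Y Λ (n + 1) V).comp (hhΛ Y Λ (n + 1) V) + (hhΛ Y Λ n V).comp (bdΛ Y Λ n V) =
      LinearMap.id := by
    apply Finsupp.lhom_ext'
    intro s
    apply LinearMap.ext_ring
    show bdΛ Y Λ (n + 1) V (hhΛ Y Λ (n + 1) V (Finsupp.single s 1)) +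
      hhΛ Y Λ n V (bdΛ Y Λ n V (Finsupp.single s 1)) = Finsupp.single s 1
    rw [hhΛ_single, bdΛ_single, bdΛ_single, map_sum, Fin.sum_univ_succ]
    simp only [Fin.val_zero, pow_zero, one_smul, face_zero_cone, Fin.val_succ, face_succ_cone,
      map_zsmul, hhΛ_single, pow_succ, mul_neg, mul_one, neg_smul, Finset.sum_neg_distrib]
    abel
  exact LinearMap.congr_fun h x

/-- the free presheaf of `Λ`-modules on the tuples -/
noncomputable def PΛ (n : ℕ) : Cᵒᵖ ⥤ ModuleCat.{w} Λ where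
  obj V := ModuleCat.of Λ (K Y n V.unop →₀ Λ)
  map h := ModuleCat.ofHom (Finsupp.lmapDomain Λ Λ (K.pre h.unop))
  map_id V := by
    apply ModuleCat.hom_ext
    apply Finsupp.lhom_ext
    intro s b
    show Finsupp.lmapDomain Λ Λ (K.pre (𝟙 V.unop)) (Finsupp.single s b) = Finsupp.single s b
    rw [Finsupp.lmapDomain_apply, Finsupp.mapDomain_single, K.pre_id]
  map_comp h h' := by
    apply ModuleCat.hom_ext
    apply Finsupp.lhom_ext
    intro s b
    show Finsupp.lmapDomain Λ Λ (K.pre (h'.unop ≫ h.unop)) (Finsupp.single s b) =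
      Finsupp.lmapDomain Λ Λ (K.pre h'.unop) (Finsupp.lmapDomain Λ Λ (K.pre h.unop)
        (Finsupp.single s b))
    rw [Finsupp.lmapDomain_apply, Finsupp.lmapDomain_apply, Finsupp.lmapDomain_apply,
      Finsupp.mapDomain_single, Finsupp.mapDomain_single, Finsupp.mapDomain_single, K.pre_comp]

lemma PΛ_map_single (n : ℕ) {V V' : Cᵒᵖ} (h : V ⟶ V') (s : K Y n V.unop) (b : Λ) :
    ((PΛ Y Λ n).map h).hom (Finsupp.single s b) = Finsupp.single (K.pre h.unop s) b := by
  show Finsupp.lmapDomain Λ Λ (K.pre h.unop) (Finsupp.single s b) = _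
  rw [Finsupp.lmapDomain_apply, Finsupp.mapDomain_single]

/-- the boundary as a morphism of presheaves of modules -/
noncomputable def dΛ (n : ℕ) : PΛ Y Λ (n + 1) ⟶ PΛ Y Λ n where
  app V := ModuleCat.ofHom (bdΛ Y Λ n V.unop)
  naturality V V' h := by
    apply ModuleCat.hom_ext
    apply Finsupp.lhom_ext'
    intro s
    apply LinearMap.ext_ring
    show bdΛ Y Λ n V'.unop (((PΛ Y Λ (n + 1)).map h).hom (Finsupp.single s 1)) =
      ((PΛ Y Λ n).map h).hom (bdΛ Y Λ n V.unop (Finsupp.single s 1))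
    rw [PΛ_map_single, bdΛ_single, bdΛ_single, map_sum]
    refine Finset.sum_congr rfl fun k _ => ?_
    rw [map_zsmul, PΛ_map_single, K.face_pre]

lemma dΛ_app_apply (n : ℕ) (V : Cᵒᵖ) (x : K Y (n + 1) V.unop →₀ Λ) :
    ((dΛ Y Λ n).app V).hom x = bdΛ Y Λ n V.unop x := rfl

variable {Λ} (I' : Cᵒᵖ ⥤ ModuleCat.{w} Λ)

/-- the underlying abelian presheaf -/
abbrev ab : Cᵒᵖ ⥤ AddCommGrpCat.{w} := I' ⋙ forget₂ (ModuleCat.{w} Λ) AddCommGrpCat.{w}

variable {I'} {n : ℕ}

/-- the values of a morphism on the generators, as elements of the module -/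
noncomputable def gen (ψ : P Y n ⟶ ab I') (V : Cᵒᵖ) : K Y n V.unop → I'.obj V :=
  fun s => (ψ.app V).hom (FreeAbelianGroup.of s)

/-- a morphism from the free abelian presheaf to the underlying abelian presheaf gives a morphism
from the free presheaf of modules -/
noncomputable def toΛ (ψ : P Y n ⟶ ab I') : PΛ Y Λ n ⟶ I' where
  app V := ModuleCat.ofHom (Finsupp.linearCombination Λ (gen Y ψ V))
  naturality V V' h := by
    apply ModuleCat.hom_ext
    apply Finsupp.lhom_ext'
    intro s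
    apply LinearMap.ext_ring
    show Finsupp.linearCombination Λ (gen Y ψ V')
        (((PΛ Y Λ n).map h).hom (Finsupp.single s 1)) =
      (I'.map h).hom (Finsupp.linearCombination Λ (gen Y ψ V) (Finsupp.single s 1))
    rw [PΛ_map_single, Finsupp.linearCombination_single, Finsupp.linearCombination_single,
      one_smul, one_smul]
    have h1 := nat_apply (I := ab I') ψ h.unop (FreeAbelianGroup.of s)
    rw [P_map_of] at h1
    exact h1

lemma toΛ_app_single (ψ : P Y n ⟶ ab I') (V : Cᵒᵖ) (s : K Y n V.unop) :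
    ((toΛ Y ψ).app V).hom (Finsupp.single s 1) = gen Y ψ V s := by
  show Finsupp.linearCombination Λ (gen Y ψ V) (Finsupp.single s 1) = _
  rw [Finsupp.linearCombination_single, one_smul]

/-- a morphism from the free presheaf of modules gives a morphism from the free abelian presheaf
to the underlying abelian presheaf -/
noncomputable def fromΛ (χ : PΛ Y Λ n ⟶ I') : P Y n ⟶ ab I' where
  app V := AddCommGrpCat.ofHom (FreeAbelianGroup.lift
    (fun s : K Y n V.unop => (((χ.app V).hom (Finsupp.single s 1) : I'.obj V) : (ab I').obj V)))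
  naturality V V' h := by
    apply AddCommGrpCat.hom_ext
    apply FreeAbelianGroup.lift_ext
    intro s
    show FreeAbelianGroup.lift
        (fun s : K Y n V'.unop => (((χ.app V').hom (Finsupp.single s 1) : I'.obj V') : (ab I').obj V'))
        (FreeAbelianGroup.map (K.pre h.unop) (FreeAbelianGroup.of s)) =
      (I'.map h).hom (FreeAbelianGroup.lift
        (fun s : K Y n V.unop => (((χ.app V).hom (Finsupp.single s 1) : I'.obj V) : (ab I').obj V))
        (FreeAbelianGroup.of s))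
    rw [FreeAbelianGroup.map_of_apply, FreeAbelianGroup.lift_apply_of,
      FreeAbelianGroup.lift_apply_of]
    have hn := LinearMap.congr_fun (congrArg ModuleCat.Hom.hom (χ.naturality h))
      (Finsupp.single s 1)
    have h2 : (χ.app V').hom (((PΛ Y Λ n).map h).hom (Finsupp.single s 1)) =
        (I'.map h).hom ((χ.app V).hom (Finsupp.single s 1)) := hn
    rw [PΛ_map_single] at h2
    exact h2

lemma fromΛ_app_of (χ : PΛ Y Λ n ⟶ I') (V : Cᵒᵖ) (s : K Y n V.unop) :
    ((fromΛ Y χ).app V).hom (FreeAbelianGroup.of s) =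
      (((χ.app V).hom (Finsupp.single s 1) : I'.obj V) : (ab I').obj V) :=
  FreeAbelianGroup.lift_apply_of _ _

lemma fromΛ_toΛ (ψ : P Y n ⟶ ab I') : fromΛ Y (toΛ Y ψ) = ψ := by
  apply NatTrans.ext
  funext V
  apply AddCommGrpCat.hom_ext
  apply FreeAbelianGroup.lift_ext
  intro s
  show ((fromΛ Y (toΛ Y ψ)).app V).hom (FreeAbelianGroup.of s) =
    (ψ.app V).hom (FreeAbelianGroup.of s)
  rw [fromΛ_app_of, toΛ_app_single]
  rfl

lemma toΛ_zero : toΛ Y (0 : P Y n ⟶ ab I') = 0 := by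
  apply NatTrans.ext
  funext V
  apply ModuleCat.hom_ext
  apply Finsupp.lhom_ext'
  intro s
  apply LinearMap.ext_ring
  show ((toΛ Y (0 : P Y n ⟶ ab I')).app V).hom (Finsupp.single s 1) = 0
  rw [toΛ_app_single]
  rfl

lemma toΛ_d (ψ : P Y n ⟶ ab I') : dΛ Y Λ n ≫ toΛ Y ψ = toΛ Y (d Y n ≫ ψ) := by
  apply NatTrans.ext
  funext V
  apply ModuleCat.hom_ext
  apply Finsupp.lhom_ext'
  intro s
  apply LinearMap.ext_ring
  show ((toΛ Y ψ).app V).hom (bdΛ Y Λ n V.unop (Finsupp.single s 1)) =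
    ((toΛ Y (d Y n ≫ ψ)).app V).hom (Finsupp.single s 1)
  rw [toΛ_app_single, bdΛ_single, map_sum]
  show _ = (ψ.app V).hom (bd Y n V.unop (FreeAbelianGroup.of s))
  rw [bd_of, map_sum]
  refine Finset.sum_congr rfl fun k _ => ?_
  rw [map_zsmul, map_zsmul, toΛ_app_single]
  rfl

lemma fromΛ_d (χ : PΛ Y Λ n ⟶ I') : d Y n ≫ fromΛ Y χ = fromΛ Y (dΛ Y Λ n ≫ χ) := by
  apply NatTrans.ext
  funext V
  apply AddCommGrpCat.hom_ext
  apply FreeAbelianGroup.lift_ext
  intro s
  show ((fromΛ Y χ).app V).hom (bd Y n V.unop (FreeAbelianGroup.of s)) =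
    ((fromΛ Y (dΛ Y Λ n ≫ χ)).app V).hom (FreeAbelianGroup.of s)
  rw [fromΛ_app_of, bd_of, map_sum]
  show _ = (χ.app V).hom (bdΛ Y Λ n V.unop (Finsupp.single s 1))
  rw [bdΛ_single, map_sum]
  refine Finset.sum_congr rfl fun k _ => ?_
  rw [map_zsmul, map_zsmul, fromΛ_app_of]

/-- Čech cocycles of the underlying abelian presheaf of an injective presheaf of modules are
coboundaries in positive degrees -/
theorem exists_primitive_mod (I' : Cᵒᵖ ⥤ ModuleCat.{w} Λ) [Injective I'] (p : ℕ)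
    (α : Coch (QrI (ab I')) Y (p + 1)) (hα : Dd (QrI (ab I')) Y (p + 1) α = 0) :
    ∃ β : Coch (QrI (ab I')) Y p, Dd (QrI (ab I')) Y p β = α := by
  have h1 : d Y (p + 1) ≫ φ Y α = 0 := by
    rw [← φ_coch Y (d Y (p + 1) ≫ φ Y α), coch_d, coch_φ, hα, φ_zero]
  have h1' : dΛ Y Λ (p + 1) ≫ toΛ Y (φ Y α) = 0 := by
    rw [toΛ_d, h1, toΛ_zero]
  have h2 : kernel.ι (dΛ Y Λ p) ≫ toΛ Y (φ Y α) = 0 := by
    apply NatTrans.ext
    funext V
    apply ModuleCat.hom_ext
    apply LinearMap.ext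
    intro x
    obtain ⟨y, hy⟩ : ∃ y : K Y (p + 1) V.unop →₀ Λ,
        y = ((kernel.ι (dΛ Y Λ p)).app V).hom x := ⟨_, rfl⟩
    have hy0 : bdΛ Y Λ p V.unop y = 0 := by
      rw [hy]
      have := congrArg (fun t : kernel (dΛ Y Λ p) ⟶ PΛ Y Λ p => (t.app V).hom x)
        (kernel.condition (dΛ Y Λ p))
      exact this
    have hh' := homotopyΛ Y Λ p V.unop y
    rw [hy0, map_zero, add_zero] at hh'
    show ((toΛ Y (φ Y α)).app V).hom (((kernel.ι (dΛ Y Λ p)).app V).hom x) = 0
    rw [← hy, ← hh']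
    have := congrArg (fun t : PΛ Y Λ (p + 2) ⟶ I' => (t.app V).hom (hhΛ Y Λ (p + 1) V.unop y)) h1'
    exact this
  have hS : (ShortComplex.mk (kernel.ι (dΛ Y Λ p)) (dΛ Y Λ p) (kernel.condition _)).Exact :=
    ShortComplex.exact_of_f_is_kernel _ (kernelIsKernel _)
  have hψ : dΛ Y Λ p ≫ hS.descToInjective (toΛ Y (φ Y α)) h2 = toΛ Y (φ Y α) :=
    hS.comp_descToInjective _ _
  refine ⟨coch Y (fromΛ Y (hS.descToInjective (toΛ Y (φ Y α)) h2)), ?_⟩
  rw [← coch_d, fromΛ_d, hψ, fromΛ_toΛ, coch_φ]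

/-- Čech cohomology of the underlying abelian presheaf of an injective presheaf of modules
vanishes in positive degrees -/
theorem isZero_cech_of_injective_mod (I' : Cᵒᵖ ⥤ ModuleCat.{w} Λ) [Injective I'] (p : ℕ) :
    IsZero (((cechComplexFunctor Y).obj ((Over.forget U).op ⋙ ab I')).homology (p + 1)) := by
  rw [isZero_homology_succ_iff]
  exact exists_primitive_mod Y I' p

end Groth.Agent.Lib.CechInjModH7
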