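import Mathlib
import Groth.Prelude.Def_Hyper2
import Groth.Agent.Lib.CechEl_helper7

set_option autoImplicit false
set_option linter.style.haveILetI false
set_option linter.unusedSectionVars false
set_option linter.unusedVariables false
set_option backward.isDefEq.respectTransparency false
set_option backward.isDefEq.respectTransparency.types false
set_option maxHeartbeats 1600000

/-! # The property "every Čech class dies on a refinement", on elements -/

universe u

open CategoryTheory CategoryTheory.Limits Opposite Simplicial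

namespace Groth.Agent.Lib.CechKillH7

open Groth.Agent.Lib.HyperH0L Groth.Agent.Lib.HyperAcyc Groth.Agent.Lib.CechElH7
  Groth.Agent.Lib.CoskPrH7

variable {C : Type u} [SmallCategory C] (X : C)

section Triv

variable [HasPullbacks C] (J : GrothendieckTopology C)
  [∀ (n : ℕ) (F : (SimplexCategory.Truncated n)ᵒᵖ ⥤ Limits.FormalCoproduct.{u} (Over X)),
      (SimplexCategory.Truncated.inclusion n).op.HasRightKanExtension F]

/-- the terminal formal coproduct over `X`. -/
abbrev TT : FormalCoproduct.{u} (Over X) := (FormalCoproduct.incl (Over X)).obj (Over.mk (𝟙 X))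

/-- `TT` is terminal. -/
noncomputable def isTerminalTT : IsTerminal (TT X) :=
  FormalCoproduct.isTerminalIncl _ Over.mkIdTerminal

/-- the trivial hypercovering. -/
abbrev K0 : SimplicialObject (FormalCoproduct.{u} (Over X)) :=
  (Functor.const SimplexCategoryᵒᵖ).obj (TT X)

theorem isHypercovering_K0 : Hyper.IsHypercovering J X (K0 X) := by
  refine ⟨?_, fun n => ?_⟩
  · refine J.superset_covering ?_ (J.top_mem X)
    intro Y g _
    refine (Sieve.mem_ofArrows_iff _ _ _).2 ⟨PUnit.unit, g, ?_⟩
    show g = g ≫ 𝟙 X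
    rw [Category.comp_id]
  · refine Groth.Agent.Lib.HyperFacesL.srcov_of_section _ _
      ((isTerminalTT X).from _) ?_
    apply pr_hom_ext n (K0 X)
    intro k hk a
    exact (isTerminalTT X).hom_ext _ _

end Triv

section Inj

variable (J : GrothendieckTopology C)
  (K : SimplicialObject (FormalCoproduct.{u} (Over X)))

/-- restriction from `X` to a covering family is injective on a sheaf. -/
lemma rX_injective (F : Sheaf J AddCommGrpCat.{u})
    (h0 : Sieve.ofArrows (fun i => ((K.obj (op (SimplexCategory.mk 0))).obj i).left)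
      (fun i => ((K.obj (op (SimplexCategory.mk 0))).obj i).hom) ∈ J X) :
    Function.Injective (rX X K F.obj) := by
  have hF : Presieve.IsSheaf J (F.obj ⋙ forget _) :=
    (isSheaf_iff_isSheaf_of_type J _).1
      ((Presheaf.isSheaf_iff_isSheaf_forget J F.obj (forget _)).1 F.property)
  intro s s' hss
  refine (hF _ h0).isSeparatedFor.ext ?_
  intro V f hf
  obtain ⟨i, c, rfl⟩ := (Sieve.mem_ofArrows_iff _ _ _).1 hf
  show (F.obj.map (c ≫ ((A X K 0).obj i).hom).op).hom s =
    (F.obj.map (c ≫ ((A X K 0).obj i).hom).op).hom s'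
  have a1 : ∀ z, (F.obj.map (c ≫ ((A X K 0).obj i).hom).op).hom z =
      (F.obj.map c.op).hom ((F.obj.map ((A X K 0).obj i).hom.op).hom z) := fun z =>
    congrArg (fun m => m.hom z) (F.obj.map_comp ((A X K 0).obj i).hom.op c.op)
  rw [a1, a1, ← cmp_rX X K F.obj s i, ← cmp_rX X K F.obj s' i, hss]

end Inj

section Kill

variable [HasPullbacks C] (J : GrothendieckTopology C)
  [∀ (n : ℕ) (F : (SimplexCategory.Truncated n)ᵒᵖ ⥤ Limits.FormalCoproduct.{u} (Over X)),
      (SimplexCategory.Truncated.inclusion n).op.HasRightKanExtension F]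

/-- being a coboundary (being zero in degree `0`). -/
def IsCob (K : SimplicialObject (FormalCoproduct.{u} (Over X))) (P : Cᵒᵖ ⥤ AddCommGrpCat.{u}) :
    (q : ℕ) → (Ev (Pr X P)).obj (op (A X K q)) → Prop := fun q =>
  match q with
  | 0 => fun x => x = 0
  | n + 1 => fun x => ∃ y, dd X K P n y = x

/-- every cocycle becomes a coboundary on a refinement. -/
def Kill (P : Cᵒᵖ ⥤ AddCommGrpCat.{u}) (q : ℕ) : Prop :=
  ∀ (K : SimplicialObject (FormalCoproduct.{u} (Over X))), Hyper.IsHypercovering J X K →
    ∀ x : (Ev (Pr X P)).obj (op (A X K q)), dd X K P q x = 0 →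
      ∃ (L : SimplicialObject (FormalCoproduct.{u} (Over X))) (f : L ⟶ K),
        Hyper.IsHypercovering J X L ∧ IsCob X L P q (rf X f P q x)

/-- the statement on Čech cohomology classes. -/
def KillH (P : Cᵒᵖ ⥤ AddCommGrpCat.{u}) (q : ℕ) : Prop :=
  ∀ (K : SimplicialObject (FormalCoproduct.{u} (Over X))), Hyper.IsHypercovering J X K →
    ∀ ξ : Hyper.cechH X K P q, ∃ (L : SimplicialObject (FormalCoproduct.{u} (Over X))) (f : L ⟶ K),
      Hyper.IsHypercovering J X L ∧ Hyper.cechHMap X f P q ξ = 0

end Kill

section Bridge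

variable (K : SimplicialObject (FormalCoproduct.{u} (Over X))) (P : Cᵒᵖ ⥤ AddCommGrpCat.{u})

/-- every cocycle lifts to the cycles. -/
lemma exists_cycle (q : ℕ) (x : (Ev (Pr X P)).obj (op (A X K q))) (hx : dd X K P q x = 0) :
    ∃ z : (Hyper.cechCx X K P).cycles q, ((Hyper.cechCx X K P).iCycles q).hom z = x := by
  have hex : (ShortComplex.mk ((Hyper.cechCx X K P).iCycles q) ((Hyper.cechCx X K P).d q (q + 1))
      ((Hyper.cechCx X K P).iCycles_d q (q + 1))).Exact :=
    ShortComplex.exact_of_f_is_kernel _
      ((Hyper.cechCx X K P).cyclesIsKernel q (q + 1) (by simp))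
  rw [ShortComplex.ab_exact_iff] at hex
  exact hex x hx

lemma iCycles_dd (q : ℕ) (z : (Hyper.cechCx X K P).cycles q) :
    dd X K P q (((Hyper.cechCx X K P).iCycles q).hom z) = 0 := by
  have h := (Hyper.cechCx X K P).iCycles_d q (q + 1)
  exact congrArg (fun m => m.hom z) h

/-- the class of a cycle vanishes iff the cycle is a coboundary. -/
lemma homologyπ_eq_zero_iff (q : ℕ) (z : (Hyper.cechCx X K P).cycles q) :
    ((Hyper.cechCx X K P).homologyπ q).hom z = 0 ↔
      IsCob X K P q (((Hyper.cechCx X K P).iCycles q).hom z) := by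
  have hinj : Function.Injective ((Hyper.cechCx X K P).iCycles q).hom :=
    (AddCommGrpCat.mono_iff_injective _).1 inferInstance
  cases q with
  | zero =>
    have hex : (ShortComplex.mk ((Hyper.cechCx X K P).toCycles 0 0)
        ((Hyper.cechCx X K P).homologyπ 0)
        ((Hyper.cechCx X K P).toCycles_comp_homologyπ 0 0)).Exact :=
      ShortComplex.exact_of_g_is_cokernel _
        ((Hyper.cechCx X K P).homologyIsCokernel 0 0 (by simp))
    rw [ShortComplex.ab_exact_iff] at hex
    have hd : (Hyper.cechCx X K P).d 0 0 = 0 := (Hyper.cechCx X K P).shape 0 0 (by simp)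
    have ht : (Hyper.cechCx X K P).toCycles 0 0 = 0 := by
      rw [← cancel_mono ((Hyper.cechCx X K P).iCycles 0), HomologicalComplex.toCycles_i, hd,
        zero_comp]
    constructor
    · intro h
      obtain ⟨y, hy⟩ := hex z h
      have hy' : ((Hyper.cechCx X K P).toCycles 0 0).hom y = z := hy
      rw [ht] at hy'
      have hz : z = 0 := hy'.symm
      show ((Hyper.cechCx X K P).iCycles 0).hom z = 0
      rw [hz, map_zero]
    · intro h
      have h' : ((Hyper.cechCx X K P).iCycles 0).hom z = 0 := h
      have hz : z = 0 := hinj (h'.trans (map_zero _).symm)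
      rw [hz, map_zero]
  | succ n =>
    have hex : (ShortComplex.mk ((Hyper.cechCx X K P).toCycles n (n + 1))
        ((Hyper.cechCx X K P).homologyπ (n + 1))
        ((Hyper.cechCx X K P).toCycles_comp_homologyπ n (n + 1))).Exact :=
      ShortComplex.exact_of_g_is_cokernel _
        ((Hyper.cechCx X K P).homologyIsCokernel n (n + 1) (by simp))
    rw [ShortComplex.ab_exact_iff] at hex
    have hti : (Hyper.cechCx X K P).toCycles n (n + 1) ≫ (Hyper.cechCx X K P).iCycles (n + 1) =
        (Hyper.cechCx X K P).d n (n + 1) := HomologicalComplex.toCycles_i _ _ _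
    constructor
    · intro h
      obtain ⟨y, hy⟩ := hex z h
      refine ⟨y, ?_⟩
      have h2 := congrArg (fun m => m.hom y) hti
      exact h2.symm.trans
        (congrArg (fun w => ((Hyper.cechCx X K P).iCycles (n + 1)).hom w) hy)
    · rintro ⟨y, hy⟩
      have h2 := congrArg (fun m => m.hom y) hti
      have hz : ((Hyper.cechCx X K P).toCycles n (n + 1)).hom y = z := by
        apply hinj
        exact h2.trans hy
      rw [← hz]
      have h3 := (Hyper.cechCx X K P).toCycles_comp_homologyπ n (n + 1)
      exact congrArg (fun m => m.hom y) h3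

variable {K}

lemma cechHMap_π {L : SimplicialObject (FormalCoproduct.{u} (Over X))} (f : L ⟶ K) (q : ℕ)
    (z : (Hyper.cechCx X K P).cycles q) :
    Hyper.cechHMap X f P q (((Hyper.cechCx X K P).homologyπ q).hom z) =
      ((Hyper.cechCx X L P).homologyπ q).hom
        ((HomologicalComplex.cyclesMap (Hyper.cechMap X f P) q).hom z) := by
  have h1 : HomologicalComplex.cyclesMap (Hyper.cechMap X f P) q ≫
      (Hyper.cechCx X L P).homologyπ q =
      (Hyper.cechCx X K P).homologyπ q ≫ HomologicalComplex.homologyMap (Hyper.cechMap X f P) q :=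
    (HomologicalComplex.homologyπ_naturality _ _).symm
  exact (congrArg (fun t => t.hom z) h1).symm

lemma iCycles_cyclesMap {L : SimplicialObject (FormalCoproduct.{u} (Over X))} (f : L ⟶ K) (q : ℕ)
    (z : (Hyper.cechCx X K P).cycles q) :
    ((Hyper.cechCx X L P).iCycles q).hom
      ((HomologicalComplex.cyclesMap (Hyper.cechMap X f P) q).hom z) =
      rf X f P q (((Hyper.cechCx X K P).iCycles q).hom z) := by
  have h2 : HomologicalComplex.cyclesMap (Hyper.cechMap X f P) q ≫
      (Hyper.cechCx X L P).iCycles q =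
      (Hyper.cechCx X K P).iCycles q ≫ (Hyper.cechMap X f P).f q :=
    HomologicalComplex.cyclesMap_i _ _
  exact congrArg (fun t => t.hom z) h2

variable [HasPullbacks C] (J : GrothendieckTopology C)
  [∀ (n : ℕ) (F : (SimplexCategory.Truncated n)ᵒᵖ ⥤ Limits.FormalCoproduct.{u} (Over X)),
      (SimplexCategory.Truncated.inclusion n).op.HasRightKanExtension F]

theorem killH_iff_kill (q : ℕ) : KillH X J P q ↔ Kill X J P q := by
  constructor
  · intro h K hK x hx
    obtain ⟨z, hz⟩ := exists_cycle X K P q x hx
    obtain ⟨L, f, hL, hf⟩ := h K hK (((Hyper.cechCx X K P).homologyπ q).hom z)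
    refine ⟨L, f, hL, ?_⟩
    rw [cechHMap_π X P f q z, homologyπ_eq_zero_iff X L P q, iCycles_cyclesMap X P f q z, hz] at hf
    exact hf
  · intro h K hK ξ
    have hsurj : Function.Surjective ((Hyper.cechCx X K P).homologyπ q).hom :=
      (AddCommGrpCat.epi_iff_surjective _).1 inferInstance
    obtain ⟨z, rfl⟩ := hsurj ξ
    obtain ⟨L, f, hL, hf⟩ := h K hK _ (iCycles_dd X K P q z)
    refine ⟨L, f, hL, ?_⟩
    rw [cechHMap_π X P f q z, homologyπ_eq_zero_iff X L P q, iCycles_cyclesMap X P f q z]
    exact hf

end Bridge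

end Groth.Agent.Lib.CechKillH7
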