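import Mathlib

/-!
# Swapping the two directions of a commutative square of cochain complexes (helper2)

For a commutative square `φ ≫ b = a ≫ ψ` (`φ : K ⟶ K'`, `ψ : L ⟶ L'`, `a : K ⟶ L`, `b : K' ⟶ L'`) the
mapping cone of `cone φ ⟶ cone ψ` is isomorphic to the mapping cone of `cone a ⟶ cone b`.
APPEND-ONLY once landed.
-/

set_option autoImplicit false
open CategoryTheory CategoryTheory.Limits CochainComplex HomComplex

namespace Groth.Agent.Lib.ConeSwap

variable {C : Type*} [Category C] [Preadditive C] [HasBinaryBiproducts C]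
variable {K K' L L' : CochainComplex C ℤ} (φ : K ⟶ K') (ψ : L ⟶ L') (a : K ⟶ L) (b : K' ⟶ L')
  (comm : φ ≫ b = a ≫ ψ)

@[reassoc]
lemma inl_v_map_f (p q : ℤ) (h : p + (-1) = q) :
    (mappingCone.inl φ).v p q h ≫ (mappingCone.map φ ψ a b comm).f q =
      a.f p ≫ (mappingCone.inl ψ).v p q h := by
  simp [mappingCone.map]

@[reassoc]
lemma inr_f_map_f (p : ℤ) :
    (mappingCone.inr φ).f p ≫ (mappingCone.map φ ψ a b comm).f p =
      b.f p ≫ (mappingCone.inr ψ).f p := by
  simp [mappingCone.map]

/-- the cone of `cone φ ⟶ cone ψ`. -/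
noncomputable abbrev D1 : CochainComplex C ℤ := mappingCone (mappingCone.map φ ψ a b comm)

/-- the cone of `cone a ⟶ cone b`. -/
noncomputable abbrev D2 : CochainComplex C ℤ := mappingCone (mappingCone.map a b φ ψ comm.symm)

/-- the swap in degree `n`. -/
noncomputable def swapX (n : ℤ) : (D1 φ ψ a b comm).X n ⟶ (D2 φ ψ a b comm).X n :=
  - ((mappingCone.fst (mappingCone.map φ ψ a b comm)).1.v n (n + 1) rfl ≫
      (mappingCone.fst φ).1.v (n + 1) (n + 2) (by lia) ≫
      (mappingCone.inl a).v (n + 2) (n + 1) (by lia) ≫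
      (mappingCone.inl (mappingCone.map a b φ ψ comm.symm)).v (n + 1) n (by lia))
  + (mappingCone.fst (mappingCone.map φ ψ a b comm)).1.v n (n + 1) rfl ≫
      (mappingCone.snd φ).v (n + 1) (n + 1) (add_zero _) ≫
      (mappingCone.inl b).v (n + 1) n (by lia) ≫
      (mappingCone.inr (mappingCone.map a b φ ψ comm.symm)).f n
  + (mappingCone.snd (mappingCone.map φ ψ a b comm)).v n n (add_zero n) ≫
      (mappingCone.fst ψ).1.v n (n + 1) rfl ≫
      (mappingCone.inr a).f (n + 1) ≫
      (mappingCone.inl (mappingCone.map a b φ ψ comm.symm)).v (n + 1) n (by lia)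
  + (mappingCone.snd (mappingCone.map φ ψ a b comm)).v n n (add_zero n) ≫
      (mappingCone.snd ψ).v n n (add_zero n) ≫
      (mappingCone.inr b).f n ≫
      (mappingCone.inr (mappingCone.map a b φ ψ comm.symm)).f n

@[reassoc]
lemma inl_inl_swapX (n n1 n2 : ℤ) (h1 : n1 + (-1) = n) (h2 : n2 + (-1) = n1) :
    (mappingCone.inl φ).v n2 n1 h2 ≫
      (mappingCone.inl (mappingCone.map φ ψ a b comm)).v n1 n h1 ≫ swapX φ ψ a b comm n =
      - ((mappingCone.inl a).v n2 n1 h2 ≫
        (mappingCone.inl (mappingCone.map a b φ ψ comm.symm)).v n1 n h1) := by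
  obtain rfl : n1 = n + 1 := by lia
  obtain rfl : n2 = n + 2 := by lia
  simp only [swapX, Preadditive.comp_add, Preadditive.comp_neg, mappingCone.inl_v_fst_v_assoc,
    mappingCone.inl_v_snd_v_assoc, mappingCone.inl_v_fst_v, mappingCone.inl_v_snd_v, zero_comp,
    comp_zero, add_zero, neg_zero, zero_add]

@[reassoc]
lemma inr_inl_swapX (n n1 : ℤ) (h1 : n1 + (-1) = n) :
    (mappingCone.inr φ).f n1 ≫
      (mappingCone.inl (mappingCone.map φ ψ a b comm)).v n1 n h1 ≫ swapX φ ψ a b comm n =
      (mappingCone.inl b).v n1 n h1 ≫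
        (mappingCone.inr (mappingCone.map a b φ ψ comm.symm)).f n := by
  obtain rfl : n1 = n + 1 := by lia
  simp only [swapX, Preadditive.comp_add, Preadditive.comp_neg, mappingCone.inl_v_fst_v_assoc,
    mappingCone.inl_v_snd_v_assoc, mappingCone.inr_f_fst_v_assoc, mappingCone.inr_f_snd_v_assoc,
    zero_comp, comp_zero, add_zero, neg_zero, zero_add]

@[reassoc]
lemma inl_inr_swapX (n n1 : ℤ) (h1 : n1 + (-1) = n) :
    (mappingCone.inl ψ).v n1 n h1 ≫
      (mappingCone.inr (mappingCone.map φ ψ a b comm)).f n ≫ swapX φ ψ a b comm n =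
      (mappingCone.inr a).f n1 ≫
        (mappingCone.inl (mappingCone.map a b φ ψ comm.symm)).v n1 n h1 := by
  obtain rfl : n1 = n + 1 := by lia
  simp only [swapX, Preadditive.comp_add, Preadditive.comp_neg, mappingCone.inl_v_fst_v_assoc,
    mappingCone.inl_v_snd_v_assoc, mappingCone.inr_f_fst_v_assoc, mappingCone.inr_f_snd_v_assoc,
    zero_comp, comp_zero, add_zero, neg_zero, zero_add]

@[reassoc]
lemma inr_inr_swapX (n : ℤ) :
    (mappingCone.inr ψ).f n ≫
      (mappingCone.inr (mappingCone.map φ ψ a b comm)).f n ≫ swapX φ ψ a b comm n =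
      (mappingCone.inr b).f n ≫
        (mappingCone.inr (mappingCone.map a b φ ψ comm.symm)).f n := by
  simp only [swapX, Preadditive.comp_add, Preadditive.comp_neg, mappingCone.inl_v_fst_v_assoc,
    mappingCone.inl_v_snd_v_assoc, mappingCone.inr_f_fst_v_assoc, mappingCone.inr_f_snd_v_assoc,
    zero_comp, comp_zero, add_zero, neg_zero, zero_add]

lemma swapX_swapX (n : ℤ) :
    swapX φ ψ a b comm n ≫ swapX a b φ ψ comm.symm n = 𝟙 _ := by
  rw [mappingCone.ext_from_iff _ (n + 1) n rfl]
  constructor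
  · rw [mappingCone.ext_from_iff _ (n + 2) (n + 1) (by lia)]
    constructor
    · simp only [Category.assoc, inl_inl_swapX_assoc, Preadditive.neg_comp, inl_inl_swapX,
        neg_neg, Category.comp_id]
    · simp only [Category.assoc, inr_inl_swapX_assoc, inl_inr_swapX, Category.comp_id]
  · rw [mappingCone.ext_from_iff _ (n + 1) n rfl]
    constructor
    · simp only [Category.assoc, inl_inr_swapX_assoc, inr_inl_swapX, Category.comp_id]
    · simp only [Category.assoc, inr_inr_swapX_assoc, inr_inr_swapX, Category.comp_id]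

lemma swapX_comm (n : ℤ) :
    swapX φ ψ a b comm n ≫ (D2 φ ψ a b comm).d n (n + 1) =
      (D1 φ ψ a b comm).d n (n + 1) ≫ swapX φ ψ a b comm (n + 1) := by
  rw [mappingCone.ext_from_iff _ (n + 1) n rfl]
  constructor
  · rw [mappingCone.ext_from_iff _ (n + 2) (n + 1) (by lia)]
    constructor
    · simp only [Category.assoc, inl_inl_swapX_assoc, Preadditive.neg_comp,
        mappingCone.inl_v_d (mappingCone.map a b φ ψ comm.symm) (n + 1) n (n + 2) (by lia) (by lia),
        mappingCone.inl_v_d_assoc (mappingCone.map a b φ ψ comm.symm) (n + 1) n (n + 2) (by lia) (by lia),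
        mappingCone.inl_v_d_assoc (mappingCone.map φ ψ a b comm) (n + 1) n (n + 2) (by lia) (by lia),
        mappingCone.inl_v_d_assoc a (n + 2) (n + 1) (n + 3) (by lia) (by lia),
        mappingCone.inl_v_d_assoc φ (n + 2) (n + 1) (n + 3) (by lia) (by lia),
        mappingCone.inl_v_d_assoc b (n + 1) n (n + 2) (by lia) (by lia),
        mappingCone.inl_v_d_assoc ψ (n + 1) n (n + 2) (by lia) (by lia),
        Preadditive.comp_sub, Preadditive.sub_comp, Preadditive.comp_neg,
        inl_v_map_f_assoc, inr_f_map_f_assoc, inl_v_map_f, inr_f_map_f,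
        inl_inr_swapX, inr_inl_swapX, inl_inl_swapX, inr_inr_swapX,
        mappingCone.inr_f_d, mappingCone.inr_f_d_assoc]
      abel
    · simp only [Category.assoc, inr_inl_swapX_assoc, Preadditive.neg_comp,
        mappingCone.inl_v_d (mappingCone.map a b φ ψ comm.symm) (n + 1) n (n + 2) (by lia) (by lia),
        mappingCone.inl_v_d_assoc (mappingCone.map a b φ ψ comm.symm) (n + 1) n (n + 2) (by lia) (by lia),
        mappingCone.inl_v_d_assoc (mappingCone.map φ ψ a b comm) (n + 1) n (n + 2) (by lia) (by lia),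
        mappingCone.inl_v_d_assoc a (n + 2) (n + 1) (n + 3) (by lia) (by lia),
        mappingCone.inl_v_d_assoc φ (n + 2) (n + 1) (n + 3) (by lia) (by lia),
        mappingCone.inl_v_d_assoc b (n + 1) n (n + 2) (by lia) (by lia),
        mappingCone.inl_v_d_assoc ψ (n + 1) n (n + 2) (by lia) (by lia),
        Preadditive.comp_sub, Preadditive.sub_comp, Preadditive.comp_neg,
        inl_v_map_f_assoc, inr_f_map_f_assoc, inl_v_map_f, inr_f_map_f,
        inl_inr_swapX, inr_inl_swapX, inl_inl_swapX, inr_inr_swapX,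
        mappingCone.inr_f_d, mappingCone.inr_f_d_assoc]
  · rw [mappingCone.ext_from_iff _ (n + 1) n rfl]
    constructor
    · simp only [Category.assoc, inl_inr_swapX_assoc, Preadditive.neg_comp,
        mappingCone.inl_v_d (mappingCone.map a b φ ψ comm.symm) (n + 1) n (n + 2) (by lia) (by lia),
        mappingCone.inl_v_d_assoc (mappingCone.map a b φ ψ comm.symm) (n + 1) n (n + 2) (by lia) (by lia),
        mappingCone.inl_v_d_assoc (mappingCone.map φ ψ a b comm) (n + 1) n (n + 2) (by lia) (by lia),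
        mappingCone.inl_v_d_assoc a (n + 2) (n + 1) (n + 3) (by lia) (by lia),
        mappingCone.inl_v_d_assoc φ (n + 2) (n + 1) (n + 3) (by lia) (by lia),
        mappingCone.inl_v_d_assoc b (n + 1) n (n + 2) (by lia) (by lia),
        mappingCone.inl_v_d_assoc ψ (n + 1) n (n + 2) (by lia) (by lia),
        Preadditive.comp_sub, Preadditive.sub_comp, Preadditive.comp_neg,
        inl_v_map_f_assoc, inr_f_map_f_assoc, inl_v_map_f, inr_f_map_f,
        inl_inr_swapX, inr_inl_swapX, inl_inl_swapX, inr_inr_swapX,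
        mappingCone.inr_f_d, mappingCone.inr_f_d_assoc]
    · simp only [Category.assoc, inr_inr_swapX_assoc, Preadditive.neg_comp,
        mappingCone.inl_v_d (mappingCone.map a b φ ψ comm.symm) (n + 1) n (n + 2) (by lia) (by lia),
        mappingCone.inl_v_d_assoc (mappingCone.map a b φ ψ comm.symm) (n + 1) n (n + 2) (by lia) (by lia),
        mappingCone.inl_v_d_assoc (mappingCone.map φ ψ a b comm) (n + 1) n (n + 2) (by lia) (by lia),
        mappingCone.inl_v_d_assoc a (n + 2) (n + 1) (n + 3) (by lia) (by lia),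
        mappingCone.inl_v_d_assoc φ (n + 2) (n + 1) (n + 3) (by lia) (by lia),
        mappingCone.inl_v_d_assoc b (n + 1) n (n + 2) (by lia) (by lia),
        mappingCone.inl_v_d_assoc ψ (n + 1) n (n + 2) (by lia) (by lia),
        Preadditive.comp_sub, Preadditive.sub_comp, Preadditive.comp_neg,
        inl_v_map_f_assoc, inr_f_map_f_assoc, inl_v_map_f, inr_f_map_f,
        inl_inr_swapX, inr_inl_swapX, inl_inl_swapX, inr_inr_swapX,
        mappingCone.inr_f_d, mappingCone.inr_f_d_assoc]

/-- the swap as a chain map. -/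
noncomputable def swapHom : D1 φ ψ a b comm ⟶ D2 φ ψ a b comm where
  f n := swapX φ ψ a b comm n
  comm' := by
    rintro n _ rfl
    exact swapX_comm φ ψ a b comm n

/-- `cone (cone φ ⟶ cone ψ) ≅ cone (cone a ⟶ cone b)`. -/
noncomputable def swapIso : D1 φ ψ a b comm ≅ D2 φ ψ a b comm where
  hom := swapHom φ ψ a b comm
  inv := swapHom a b φ ψ comm.symm
  hom_inv_id := by
    apply HomologicalComplex.hom_ext
    intro n
    exact swapX_swapX φ ψ a b comm n
  inv_hom_id := by
    apply HomologicalComplex.hom_ext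
    intro n
    exact swapX_swapX a b φ ψ comm.symm n

end Groth.Agent.Lib.ConeSwap
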