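import Mathlib
import Groth.Prelude.Def_DerCA
import Groth.Agent.Lib.ExtCechOld_helper7

set_option autoImplicit false
universe u
open CategoryTheory CategoryTheory.Limits CochainComplex

namespace Groth.Agent.Lib.ExtCechBijH7

open Groth.Agent.Lib.ExtCechOldH7

variable {R : Type u} [CommRing R]

theorem isIso_smul_of_iso {X Y : ModuleCat.{u} R} (e : X ≅ Y) (f : R) (h : IsIso (f • 𝟙 Y)) :
    IsIso (f • 𝟙 X) := by
  have : f • 𝟙 X = e.hom ≫ (f • 𝟙 Y) ≫ e.inv := by
    rw [Linear.smul_comp, Category.id_comp, Linear.comp_smul, e.hom_inv_id]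
  rw [this]; infer_instance

theorem isIso_smul_of_isZero {X : ModuleCat.{u} R} (hX : IsZero X) (f : R) :
    IsIso (f • 𝟙 X) := by
  have : f • 𝟙 X = 𝟙 X := hX.eq_of_src _ _
  rw [this]; infer_instance

theorem isIso_smul_biprod {X Y : ModuleCat.{u} R} (f : R) (hX : IsIso (f • 𝟙 X))
    (hY : IsIso (f • 𝟙 Y)) : IsIso (f • 𝟙 (X ⊞ Y)) := by
  have : f • 𝟙 (X ⊞ Y) = biprod.map (f • 𝟙 X) (f • 𝟙 Y) := by
    apply biprod.hom_ext' <;> apply biprod.hom_ext <;>
      simp [Linear.smul_comp, Linear.comp_smul]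
  rw [this]
  exact (biprod.mapIso (asIso (f • 𝟙 X)) (asIso (f • 𝟙 Y))).isIso_hom

theorem locFunctor_map_smul (S : Submonoid R) {X Y : ModuleCat.{u} R} (f : R) (h : X ⟶ Y) :
    (DerCA.locFunctor S).map (f • h) = f • (DerCA.locFunctor S).map h := by
  ext x
  change (IsLocalizedModule.map S (LocalizedModule.mkLinearMap S X)
    (LocalizedModule.mkLinearMap S Y)) (f • h.hom) x = _
  rw [map_smul]
  rfl

theorem isIso_smul_loc (S : Submonoid R) {X : ModuleCat.{u} R} (f : R) (h : IsIso (f • 𝟙 X)) :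
    IsIso (f • 𝟙 ((DerCA.locFunctor S).obj X)) := by
  have : f • 𝟙 ((DerCA.locFunctor S).obj X) = (DerCA.locFunctor S).map (f • 𝟙 X) := by
    rw [locFunctor_map_smul, CategoryTheory.Functor.map_id]
  rw [this]; infer_instance

theorem isIso_smul_X (M : ModuleCat.{u} R) (f : R) (hM : IsIso (f • 𝟙 M)) :
    ∀ (gs : List R) (n : ℤ), IsIso (f • 𝟙 ((DerCA.extCech M gs).X n)) := by
  intro gs
  induction gs with
  | nil =>
    intro n
    by_cases hn : n = 0
    · subst hn
      exact isIso_smul_of_iso (HomologicalComplex.singleObjXSelf (ComplexShape.up ℤ) 0 M) f hM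
    · exact isIso_smul_of_isZero (HomologicalComplex.isZero_single_obj_X _ _ _ _ hn) f
  | cons g gs ih =>
    intro n
    rw [extCech_cons]
    refine isIso_smul_of_iso (DerCA.mappingCoconeXIso _ n) f ?_
    exact isIso_smul_biprod f (ih n) (isIso_smul_loc _ f (ih (n - 1)))

theorem mkLinearMap_bijective_of_isIso (f : R) (N : ModuleCat.{u} R) (h : IsIso (f • 𝟙 N)) :
    Function.Bijective (LocalizedModule.mkLinearMap (Submonoid.powers f) N) := by
  have hb : Function.Bijective (fun x : N => f • x) :=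
    (ConcreteCategory.isIso_iff_bijective (f • 𝟙 N)).mp h
  haveI : IsLocalizedModule (Submonoid.powers f) (LinearMap.id : N →ₗ[R] N) := by
    refine ⟨?_, fun m => ⟨(m, 1), one_smul _ _⟩, fun h => ⟨1, congrArg _ h⟩⟩
    rintro ⟨_, n, rfl⟩
    show IsUnit (algebraMap R (Module.End R N) (f ^ n))
    rw [map_pow]
    refine IsUnit.pow n ?_
    rw [Module.End.isUnit_iff]
    exact hb
  let e := IsLocalizedModule.linearEquiv (Submonoid.powers f) (LinearMap.id : N →ₗ[R] N)
    (LocalizedModule.mkLinearMap (Submonoid.powers f) N)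
  have he : ∀ x, e x = LocalizedModule.mkLinearMap (Submonoid.powers f) N x := fun x =>
    IsLocalizedModule.linearEquiv_apply (Submonoid.powers f) (LinearMap.id : N →ₗ[R] N) _ x
  have : (LocalizedModule.mkLinearMap (Submonoid.powers f) N : N → _) = e := by
    funext x; exact (he x).symm
  rw [this]
  exact e.bijective

theorem isIso_locCxUnit_of_isIso (f : R) (K : CochainComplex (ModuleCat.{u} R) ℤ)
    (hK : ∀ n, IsIso (f • 𝟙 (K.X n))) :
    IsIso (DerCA.locCxUnit (Submonoid.powers f) K) := by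
  haveI : ∀ n, IsIso ((DerCA.locCxUnit (Submonoid.powers f) K).f n) := by
    intro n
    rw [ConcreteCategory.isIso_iff_bijective]
    exact mkLinearMap_bijective_of_isIso f (K.X n) (hK n)
  exact HomologicalComplex.Hom.isIso_of_components _

theorem isZero_Q_extCech_of_bij (M : ModuleCat.{u} R) (f : R) (hM : IsIso (f • 𝟙 M)) :
    ∀ fs : List R, f ∈ fs →
      IsZero ((HomotopyCategory.quotient (ModuleCat.{u} R) (ComplexShape.up ℤ)).obj
        (DerCA.extCech M fs)) := by
  intro fs
  induction fs with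
  | nil => intro hf; simp at hf
  | cons g gs ih =>
    intro hf
    rw [extCech_cons]
    apply isZero_Q_cocone
    rw [List.mem_cons] at hf
    rcases hf with rfl | hf
    · haveI := isIso_locCxUnit_of_isIso f (DerCA.extCech M gs) (isIso_smul_X M f hM gs)
      infer_instance
    · have hK := ih hf
      obtain ⟨h⟩ := homotopy_of_isZero hK
      have hL : IsZero ((HomotopyCategory.quotient (ModuleCat.{u} R) (ComplexShape.up ℤ)).obj
          ((DerCA.locCx (Submonoid.powers g)).obj (DerCA.extCech M gs))) := by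
        apply isZero_of_homotopy
        have h' := (DerCA.locFunctor (Submonoid.powers g)).mapHomotopy h
        refine (Homotopy.ofEq ?_).trans (h'.trans (Homotopy.ofEq ?_))
        · exact (CategoryTheory.Functor.map_id _ _).symm
        · exact CategoryTheory.Functor.map_zero _ _ _
      exact ⟨⟨hL.to_ _, hK.eq_of_src _ _, hL.eq_of_src _ _⟩⟩

theorem main (fs : List R) (M : Type u) [AddCommGroup M] [Module R M] (f : R) (hf : f ∈ fs)
    (hu : Function.Bijective (fun m : M => f • m)) (q : ℤ) :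
    IsZero (DerCA.extCechH fs (ModuleCat.of R M) q) := by
  have hM : IsIso (f • 𝟙 (ModuleCat.of R M)) :=
    (ConcreteCategory.isIso_iff_bijective (f • 𝟙 (ModuleCat.of R M))).mpr hu
  obtain ⟨h⟩ := homotopy_of_isZero (isZero_Q_extCech_of_bij (ModuleCat.of R M) f hM fs hf)
  rw [IsZero.iff_id_eq_zero]
  have := h.homologyMap_eq q
  rwa [HomologicalComplex.homologyMap_id, HomologicalComplex.homologyMap_zero] at this

end Groth.Agent.Lib.ExtCechBijH7
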