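import Mathlib
import Groth.Prelude.Def_DerCA
import Groth.Prelude.Def_LCI2
import Groth.Agent.Lib.ConeSwap_helper2
import Groth.Agent.Lib.KoszulSwap_helper2
import Groth.Agent.Lib.KoszulReg_helper7
import Groth.Agent.Lib.ExtCech_helper7
import Groth.Agent.Lib.ExtCechFun_helper7
import Groth.Agent.Lib.ExtCechBij_helper7
import Groth.Agent.Lib.ExtCechOld_helper7
import Groth.Agent.Lib.KoszulLim_helper6

/-!
# The extended Čech complex of a Koszul-regular sequence is concentrated in top degree (helper2)

`cc g (cone_f D) ≅ cone_f (cc g D)` (the homotopy fibre of a localisation commutes with the cone of a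
scalar), and: if the iterated cones of `fs` on `C` have no cohomology in degrees `< d` then the
iterated `cc` of `fs` on `C` has no cohomology in degrees `< d + length fs`.
APPEND-ONLY once landed.
-/

set_option autoImplicit false
universe u
open CategoryTheory CategoryTheory.Limits CochainComplex HomComplex

attribute [local instance] HasDerivedCategory.standard

namespace Groth.Agent.Lib.CechKreg

open Groth.Agent.Lib.ExtCechH7 Groth.Agent.Lib.KoszulSwap

variable {R : Type u} [CommRing R]

section comm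

/-- the unit of localisation on a cone, read through `L(cone φ) ≅ cone(Lφ)`. -/
lemma unit_cone_comp {K K' : DRing.Cx R} (S : Submonoid R) (φ : K ⟶ K') :
    DerCA.locCxUnit S (mappingCone φ) ≫
        (mappingCone.mapHomologicalComplexIso φ (DerCA.locFunctor S)).hom =
      mappingCone.map φ ((DerCA.locCx S).map φ) (DerCA.locCxUnit S K) (DerCA.locCxUnit S K')
        (locCxUnit_nat S φ).symm := by
  apply HomologicalComplex.hom_ext
  intro n
  have nat1 : (DerCA.locUnit S).app ((mappingCone φ).X n) ≫
      (DerCA.locFunctor S).map ((mappingCone.fst φ).1.v n (n + 1) rfl) =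
      (mappingCone.fst φ).1.v n (n + 1) rfl ≫ (DerCA.locUnit S).app (K.X (n + 1)) :=
    ((DerCA.locUnit S).naturality ((mappingCone.fst φ).1.v n (n + 1) rfl)).symm
  have nat2 : (DerCA.locUnit S).app ((mappingCone φ).X n) ≫
      (DerCA.locFunctor S).map ((mappingCone.snd φ).v n n (add_zero n)) =
      (mappingCone.snd φ).v n n (add_zero n) ≫ (DerCA.locUnit S).app (K'.X n) :=
    ((DerCA.locUnit S).naturality ((mappingCone.snd φ).v n n (add_zero n))).symm
  have hL : (DerCA.locCxUnit S (mappingCone φ) ≫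
      (mappingCone.mapHomologicalComplexIso φ (DerCA.locFunctor S)).hom).f n =
      (mappingCone.fst φ).1.v n (n + 1) rfl ≫ (DerCA.locUnit S).app (K.X (n + 1)) ≫
        (mappingCone.inl ((DerCA.locCx S).map φ)).v (n + 1) n (by lia) +
      (mappingCone.snd φ).v n n (add_zero n) ≫ (DerCA.locUnit S).app (K'.X n) ≫
        (mappingCone.inr ((DerCA.locCx S).map φ)).f n := by
    rw [HomologicalComplex.comp_f]
    have h1 : (mappingCone.mapHomologicalComplexIso φ (DerCA.locFunctor S)).hom.f n =
        (mappingCone.mapHomologicalComplexXIso' φ (DerCA.locFunctor S) n (n + 1) rfl).hom := by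
      rw [← mappingCone.mapHomologicalComplexXIso_eq φ (DerCA.locFunctor S) n (n + 1) rfl]
      rfl
    rw [h1, mappingCone.mapHomologicalComplexXIso'_hom]
    refine (Preadditive.comp_add _ _ _ _ _ _).trans ?_
    congr 1
    · exact (Category.assoc _ _ _).symm.trans
        ((congrArg (fun t => t ≫ (mappingCone.inl ((DerCA.locCx S).map φ)).v (n + 1) n (by lia))
          nat1).trans (Category.assoc _ _ _))
    · exact (Category.assoc _ _ _).symm.trans
        ((congrArg (fun t => t ≫ (mappingCone.inr ((DerCA.locCx S).map φ)).f n)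
          nat2).trans (Category.assoc _ _ _))
  rw [hL, mappingCone.ext_from_iff _ (n + 1) n rfl]
  constructor
  · rw [ConeSwap.inl_v_map_f]
    simp only [Preadditive.comp_add, mappingCone.inl_v_fst_v_assoc, mappingCone.inl_v_snd_v_assoc,
      zero_comp, add_zero]
    rfl
  · rw [ConeSwap.inr_f_map_f]
    simp only [Preadditive.comp_add, mappingCone.inr_f_fst_v_assoc, mappingCone.inr_f_snd_v_assoc,
      zero_comp, zero_add]
    rfl

lemma locCx_map_smul (S : Submonoid R) (f : R) (D : DRing.Cx R) :
    (DerCA.locCx S).map (f • 𝟙 D) = f • 𝟙 ((DerCA.locCx S).obj D) := by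
  apply HomologicalComplex.hom_ext
  intro n
  rw [Functor.mapHomologicalComplex_map_f, HomologicalComplex.smul_f_apply,
    HomologicalComplex.id_f, HomologicalComplex.smul_f_apply, HomologicalComplex.id_f,
    Groth.Agent.Lib.ExtCechBijH7.locFunctor_map_smul, CategoryTheory.Functor.map_id]
  rfl

lemma map_smul_id {X Y : DRing.Cx R} (u : X ⟶ Y) (f : R)
    (h : u ≫ (f • 𝟙 Y) = (f • 𝟙 X) ≫ u) :
    mappingCone.map u u (f • 𝟙 X) (f • 𝟙 Y) h = f • 𝟙 (mappingCone u) := by
  apply HomologicalComplex.hom_ext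
  intro n
  rw [mappingCone.ext_from_iff _ (n + 1) n rfl]
  constructor
  · rw [ConeSwap.inl_v_map_f]
    simp only [HomologicalComplex.smul_f_apply, HomologicalComplex.id_f, Linear.smul_comp,
      Linear.comp_smul, Category.id_comp, Category.comp_id]
  · rw [ConeSwap.inr_f_map_f]
    simp only [HomologicalComplex.smul_f_apply, HomologicalComplex.id_f, Linear.smul_comp,
      Linear.comp_smul, Category.id_comp, Category.comp_id]

lemma map_eq_smul {X Y : DRing.Cx R} (u : X ⟶ Y) (f : R) (φ' : X ⟶ X) (ψ' : Y ⟶ Y)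
    (h : u ≫ ψ' = φ' ≫ u) (hφ : φ' = f • 𝟙 X) (hψ : ψ' = f • 𝟙 Y) :
    mappingCone.map u u φ' ψ' h = f • 𝟙 (mappingCone u) := by
  subst hφ
  subst hψ
  exact map_smul_id u f h

lemma shift_smul (f : R) (X : DRing.Cx R) (n : ℤ) :
    (f • 𝟙 X)⟦n⟧' = f • 𝟙 (X⟦n⟧) := by
  apply HomologicalComplex.hom_ext
  intro i
  simp only [CochainComplex.shiftFunctor_map_f', HomologicalComplex.smul_f_apply,
    HomologicalComplex.id_f]
  rfl

/-- the homotopy fibre of the localisation at `g` commutes with the cone of the scalar `f`. -/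
theorem nonempty_commIso (g f : R) (D : DRing.Cx R) :
    Nonempty (cc g (mappingCone (f • 𝟙 D)) ≅ mappingCone (f • 𝟙 (cc g D))) := by
  have comm := (locCxUnit_nat (Submonoid.powers g) (f • 𝟙 D)).symm
  have i1 : mappingCone (DerCA.locCxUnit (Submonoid.powers g) (mappingCone (f • 𝟙 D))) ≅
      mappingCone (DerCA.locCxUnit (Submonoid.powers g) (mappingCone (f • 𝟙 D)) ≫
        (mappingCone.mapHomologicalComplexIso (f • 𝟙 D)
          (DerCA.locFunctor (Submonoid.powers g))).hom) :=
    Groth.Agent.Lib.KoszulRegH7.coneIso _ _ (Iso.refl _)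
      (mappingCone.mapHomologicalComplexIso (f • 𝟙 D) (DerCA.locFunctor (Submonoid.powers g)))
      (by rw [Iso.refl_hom, Category.id_comp])
  rw [unit_cone_comp] at i1
  have i2 : mappingCone (mappingCone.map (f • 𝟙 D)
        ((DerCA.locCx (Submonoid.powers g)).map (f • 𝟙 D))
        (DerCA.locCxUnit (Submonoid.powers g) D) (DerCA.locCxUnit (Submonoid.powers g) D) comm) ≅
      mappingCone (mappingCone.map (DerCA.locCxUnit (Submonoid.powers g) D)
        (DerCA.locCxUnit (Submonoid.powers g) D) (f • 𝟙 D)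
        ((DerCA.locCx (Submonoid.powers g)).map (f • 𝟙 D)) comm.symm) :=
    ConeSwap.swapIso _ _ _ _ comm
  rw [map_eq_smul (DerCA.locCxUnit (Submonoid.powers g) D) f (f • 𝟙 D)
    ((DerCA.locCx (Submonoid.powers g)).map (f • 𝟙 D)) comm.symm rfl
    (locCx_map_smul (Submonoid.powers g) f D)] at i2
  have i3 := (CategoryTheory.shiftFunctor (DRing.Cx R) (-1 : ℤ)).mapIso (i1 ≪≫ i2)
  have i4 := mappingCone.shiftIso
    (f • 𝟙 (mappingCone (DerCA.locCxUnit (Submonoid.powers g) D))) (-1 : ℤ)
  rw [shift_smul] at i4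
  exact ⟨i3 ≪≫ i4⟩

/-- `cc g` is functorial for isomorphisms. -/
noncomputable def ccIso (g : R) {K K' : DRing.Cx R} (e : K ≅ K') : cc g K ≅ cc g K' :=
  (CategoryTheory.shiftFunctor (DRing.Cx R) (-1 : ℤ)).mapIso
    (Groth.Agent.Lib.KoszulRegH7.coneIso _ _ e ((DerCA.locCx (Submonoid.powers g)).mapIso e)
      (locCxUnit_nat (Submonoid.powers g) e.hom))

end comm

section CC

/-- iterated homotopy fibres of localisations. -/
noncomputable def CC : List R → DRing.Cx R → DRing.Cx R
  | [], C => C
  | g :: fs, C => cc g (CC fs C)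

lemma extCech_eq_CC (M : ModuleCat.{u} R) : ∀ fs : List R,
    DerCA.extCech M fs =
      CC fs ((HomologicalComplex.single (ModuleCat.{u} R) (ComplexShape.up ℤ) 0).obj M)
  | [] => rfl
  | f :: fs => by
      show cc f (DerCA.extCech M fs) = cc f (CC fs _)
      rw [extCech_eq_CC M fs]

theorem nonempty_commCC (f : R) : ∀ (fs : List R) (C : DRing.Cx R),
    Nonempty (CC fs (mappingCone (f • 𝟙 C)) ≅ mappingCone (f • 𝟙 (CC fs C)))
  | [], C => ⟨Iso.refl _⟩
  | g :: fs, C => by
      obtain ⟨e⟩ := nonempty_commCC f fs C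
      obtain ⟨e'⟩ := nonempty_commIso g f (CC fs C)
      exact ⟨ccIso g e ≪≫ e'⟩

end CC

section vanish

lemma isZero_homology_of_iso {X Y : DRing.Cx R} (e : X ≅ Y) (q : ℤ)
    (h : IsZero (X.homology q)) : IsZero (Y.homology q) :=
  h.of_iso ((HomologicalComplex.homologyFunctor (ModuleCat.{u} R) (ComplexShape.up ℤ) q).mapIso
    e.symm)

/-- exactness of the cone sequence at the middle `H^q(D)`. -/
lemma exists_smul_eq_of_inr_eq_zero (f : R) (D : DRing.Cx R) (q : ℤ)
    (y : (D.homology q : ModuleCat.{u} R))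
    (hy : (HomologicalComplex.homologyMap (mappingCone.inr (f • 𝟙 D)) q).hom y = 0) :
    ∃ w : (D.homology q : ModuleCat.{u} R), f • w = y := by
  have hT := DerivedCategory.mappingCone_triangle_distinguished (f • 𝟙 D)
  have e2 := CochainComplex.homologyMap_exact₂_of_distTriang
    (mappingCone.triangle (f • 𝟙 D)) hT q
  obtain ⟨w, hw⟩ := (ShortComplex.moduleCat_exact_iff _).mp e2 y hy
  refine ⟨w, ?_⟩
  have h1 : (HomologicalComplex.homologyMap (f • 𝟙 D) q).hom w = y := hw
  rw [Groth.Agent.Lib.KoszulLim_helper6.hφ, ModuleCat.hom_smul, ModuleCat.hom_id] at h1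
  exact h1

/-- the basic step: vanishing of the cohomology of `cone_f D` below `e` gives vanishing of the
cohomology of `cc f D` below `e + 1`. -/
theorem cc_vanish (f : R) (D : DRing.Cx R) (e : ℤ)
    (h : ∀ q : ℤ, q < e → IsZero ((mappingCone (f • 𝟙 D)).homology q)) :
    ∀ q : ℤ, q < e + 1 → IsZero ((cc f D).homology q) := by
  have hinj : ∀ j : ℤ, j ≤ e → ∀ z : (D.homology j : ModuleCat.{u} R), f • z = 0 → z = 0 := by
    intro j hj z hz
    obtain ⟨x, hx⟩ := Groth.Agent.Lib.KoszulLim_helper6.E1 f D (j - 1) j (by omega) z hz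
    haveI : Subsingleton ↑((mappingCone (f • 𝟙 D)).homology (j - 1)) :=
      ModuleCat.isZero_iff_subsingleton.mp (h (j - 1) (by omega))
    have hx0 : x = 0 :=
      Subsingleton.elim (α := ↑((mappingCone (f • 𝟙 D)).homology (j - 1))) x 0
    rw [← hx, hx0]
    exact map_zero _
  have hsurj : ∀ q : ℤ, q < e → ∀ y : (D.homology q : ModuleCat.{u} R), ∃ w, f • w = y := by
    intro q hq y
    haveI := ModuleCat.isZero_iff_subsingleton.mp (h q hq)
    exact exists_smul_eq_of_inr_eq_zero f D q y (Subsingleton.elim _ _)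
  have hinjn : ∀ (n : ℕ) (j : ℤ), j ≤ e → ∀ z : (D.homology j : ModuleCat.{u} R),
      f ^ n • z = 0 → z = 0 := by
    intro n
    induction n with
    | zero =>
      intro j _ z hz
      rwa [pow_zero, one_smul] at hz
    | succ n ih =>
      intro j hj z hz
      rw [pow_succ, mul_smul] at hz
      exact hinj j hj z (ih j hj _ hz)
  have hsurjn : ∀ (n : ℕ) (q : ℤ), q < e → ∀ y : (D.homology q : ModuleCat.{u} R),
      ∃ w, f ^ n • w = y := by
    intro n
    induction n with
    | zero =>
      intro q _ y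
      exact ⟨y, by rw [pow_zero, one_smul]⟩
    | succ n ih =>
      intro q hq y
      obtain ⟨w1, hw1⟩ := hsurj q hq y
      obtain ⟨w2, hw2⟩ := ih q hq w1
      exact ⟨w2, by rw [pow_succ', mul_smul, hw2, hw1]⟩
  intro q hq
  rw [ModuleCat.isZero_iff_subsingleton]
  refine ⟨fun x x' => ?_⟩
  have key : ∀ x : ((cc f D).homology q : ModuleCat.{u} R), x = 0 := by
    intro x
    obtain ⟨n, hn⟩ := (mapH_eq_zero_iff f D q
      (fstH (DerCA.locCxUnit (Submonoid.powers f) D) q x)).mp
      (mapH_fstH (DerCA.locCxUnit (Submonoid.powers f) D) q x)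
    have h1 : fstH (DerCA.locCxUnit (Submonoid.powers f) D) q x = 0 :=
      hinjn n q (by omega) _ hn
    obtain ⟨z, hz⟩ := exists_δH_eq (DerCA.locCxUnit (Submonoid.powers f) D) (q - 1) q
      (by omega) x h1
    obtain ⟨m, w, hw⟩ := exists_pow_smul_eq_mapH f D (q - 1) z
    obtain ⟨w', hw'⟩ := hsurjn m (q - 1) (by omega) w
    have hz1 : z = mapH (DerCA.locCxUnit (Submonoid.powers f) D) (q - 1) w' := by
      have hz0 : f ^ m • (z - mapH (DerCA.locCxUnit (Submonoid.powers f) D) (q - 1) w') = 0 := by
        rw [smul_sub, hw, ← map_smul, hw', sub_self]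
      exact sub_eq_zero.mp (pow_smul_injective f D (q - 1) m _ hz0)
    rw [← hz, hz1, δH_mapH]
  rw [key x, key x']

/-- vanishing of the cohomology of the iterated cones below `d` gives vanishing of the cohomology
of the iterated homotopy fibres below `d + length`. -/
theorem vanish : ∀ (fs : List R) (C : DRing.Cx R) (d : ℤ),
    (∀ q : ℤ, q < d → IsZero ((iterCone fs C).homology q)) →
    ∀ q : ℤ, q < d + (fs.length : ℤ) → IsZero ((CC fs C).homology q)
  | [], C, d, h => by
      intro q hq
      exact h q (by simpa using hq)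
  | f :: fs, C, d, h => by
      obtain ⟨e0⟩ := iterCone_perm (List.perm_append_singleton f fs).symm C
      have e1 : iterCone (f :: fs) C ≅ iterCone fs (mappingCone (f • 𝟙 C)) := by
        rw [iterCone_append] at e0
        exact e0
      have h' : ∀ q : ℤ, q < d → IsZero ((iterCone fs (mappingCone (f • 𝟙 C))).homology q) :=
        fun q hq => isZero_homology_of_iso e1 q (h q hq)
      have ih := vanish fs (mappingCone (f • 𝟙 C)) d h'
      obtain ⟨e2⟩ := nonempty_commCC f fs C
      have h'' : ∀ q : ℤ, q < d + (fs.length : ℤ) →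
          IsZero ((mappingCone (f • 𝟙 (CC fs C))).homology q) :=
        fun q hq => isZero_homology_of_iso e2 q (ih q hq)
      intro q hq
      refine cc_vanish f (CC fs C) (d + (fs.length : ℤ)) h'' q ?_
      rw [List.length_cons] at hq
      push_cast at hq
      omega

end vanish

theorem main9267 (R : Type u) [CommRing R] (fs : List R)
    (hfs : LCI.IsKoszulRegularSeq R fs) (q : ℤ) (hq : q ≠ (fs.length : ℤ)) :
    Limits.IsZero (DerCA.extCechH fs (ModuleCat.of R R) q) := by
  rcases lt_or_gt_of_ne hq with h | h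
  · have h0 : ∀ q : ℤ, q < 0 → IsZero ((iterCone fs
        ((HomologicalComplex.single (ModuleCat.{u} R) (ComplexShape.up ℤ) 0).obj
          (ModuleCat.of R R))).homology q) := by
      intro q hq
      have h1 := hfs q (by omega)
      exact isZero_homology_of_iso (eqToIso (koszul_eq_iterCone R fs)) q h1
    have := vanish fs _ 0 h0 q (by omega)
    show IsZero ((DerCA.extCech (ModuleCat.of R R) fs).homology q)
    rw [extCech_eq_CC]
    exact this
  · exact Groth.Agent.Lib.ExtCechOldH7.S9264 fs _ q (Or.inr h)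

end Groth.Agent.Lib.CechKreg
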