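import Mathlib
import Groth.Prelude.Def_Hyper2

set_option autoImplicit false
set_option linter.style.haveILetI false
set_option linter.unusedSectionVars false

universe v u v' u'

namespace Groth.Agent.Lib.CosimpHtpyH4

open CategoryTheory CategoryTheory.Limits Opposite AlgebraicTopology Simplicial SimplexCategory

section general

variable {D : Type u} [Category.{v} D] {A : Type u'} [Category.{v'} A] [Preadditive A]
  (E : Dᵒᵖ ⥤ A)

/-- the chain homotopy in the opposite category attached to a simplicial homotopy -/
noncomputable def chainH {K L : SimplicialObject D} {a b : L ⟶ K}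
    (H : SimplicialObject.Homotopy a b) :
    Homotopy
      ((alternatingFaceMapComplex Aᵒᵖ).map
        (((SimplicialObject.whiskering D Aᵒᵖ).obj E.rightOp).map a))
      ((alternatingFaceMapComplex Aᵒᵖ).map
        (((SimplicialObject.whiskering D Aᵒᵖ).obj E.rightOp).map b)) :=
  (H.whiskerRight E.rightOp).toChainHomotopy

theorem dK (K : SimplicialObject D) (n : ℕ) :
    ((alternatingCofaceMapComplex A).obj (K.rightOp ⋙ E)).d n (n + 1) =
      (((alternatingFaceMapComplex Aᵒᵖ).obj
        (((SimplicialObject.whiskering D Aᵒᵖ).obj E.rightOp).obj K)).d (n + 1) n).unop := by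
  rw [alternatingFaceMapComplex_obj_d]
  show (AlternatingCofaceMapComplex.obj (K.rightOp ⋙ E)).d n (n + 1) = _
  refine (CochainComplex.of_d (V := A)
    (fun n => (K.rightOp ⋙ E : CosimplicialObject A).obj ⦋n⦌)
    (AlternatingCofaceMapComplex.objD (K.rightOp ⋙ E : CosimplicialObject A)) n).trans ?_
  simp only [AlternatingCofaceMapComplex.objD, AlternatingFaceMapComplex.objD, unop_sum,
    unop_zsmul]
  rfl

/-- a simplicial homotopy induces a cochain homotopy after applying a contravariant functor -/
noncomputable def cochainH {K L : SimplicialObject D} {a b : L ⟶ K}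
    (H : SimplicialObject.Homotopy a b) :
    Homotopy
      ((alternatingCofaceMapComplex A).map (Functor.whiskerRight (NatTrans.rightOp a) E))
      ((alternatingCofaceMapComplex A).map (Functor.whiskerRight (NatTrans.rightOp b) E)) where
  hom i j := ((chainH E H).hom j i).unop
  zero i j hij := by
    rw [(chainH E H).zero j i hij]; rfl
  comm n := by
    cases n with
    | zero =>
      have hc0 := (chainH E H).comm 0
      have hc := congrArg Quiver.Hom.unop hc0
      rw [Homotopy.dNext_zero_chainComplex, Homotopy.prevD_chainComplex, zero_add, unop_add, unop_comp] at hc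
      rw [Homotopy.dNext_cochainComplex, Homotopy.prevD_zero_cochainComplex, add_zero, dK]
      exact hc
    | succ m =>
      have hc0 := (chainH E H).comm (m + 1)
      rw [add_comm (dNext (m + 1) _) (prevD (m + 1) _)] at hc0
      have hc := congrArg Quiver.Hom.unop hc0
      rw [Homotopy.dNext_succ_chainComplex, Homotopy.prevD_chainComplex, unop_add, unop_add, unop_comp,
        unop_comp] at hc
      rw [Homotopy.dNext_cochainComplex, Homotopy.prevD_succ_cochainComplex, dK, dK]
      exact hc

end general

theorem main3886 {C : Type u} [SmallCategory C] (X : C)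
    {K L : SimplicialObject (FormalCoproduct.{u} (Over X))} (a b : L ⟶ K)
    (h : Nonempty (SimplicialObject.Homotopy a b)) (P : Cᵒᵖ ⥤ AddCommGrpCat.{u}) (p : ℕ) :
    Hyper.cechHMap X a P p = Hyper.cechHMap X b P p := by
  obtain ⟨H⟩ := h
  have hh : Homotopy (Hyper.cechMap X a P) (Hyper.cechMap X b P) :=
    cochainH ((FormalCoproduct.evalOp.{u} (Over X) AddCommGrpCat.{u}).obj
      ((Over.forget X).op ⋙ P)) H
  show (HomologicalComplex.homologyMap (Hyper.cechMap X a P) p).hom =
    (HomologicalComplex.homologyMap (Hyper.cechMap X b P) p).hom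
  rw [hh.homologyMap_eq p]

end Groth.Agent.Lib.CosimpHtpyH4
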