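import Mathlib
import Groth.Prelude.Def_CohCx
import Groth.Agent.Lib.CosimpHtpy_helper4

set_option autoImplicit false
set_option linter.style.haveILetI false
set_option linter.unusedSectionVars false

universe w v' u' u

open CategoryTheory CategoryTheory.Limits Opposite Simplicial

namespace Groth.Agent.Lib.CechRefineH4

/-! ### values of `succAbove` and `predAbove` -/

theorem sa_val {n : ℕ} (i : Fin (n + 1)) (a : Fin n) :
    (i.succAbove a).val = if a.val < i.val then a.val else a.val + 1 := by
  by_cases h : a.val < i.val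
  · rw [if_pos h, Fin.succAbove_of_castSucc_lt i a (by rw [Fin.lt_def]; exact h)]; rfl
  · rw [if_neg h, Fin.succAbove_of_le_castSucc i a (by rw [Fin.le_def]; exact Nat.not_lt.1 h)]
    rfl

theorem pa_val {n : ℕ} (i : Fin n) (a : Fin (n + 1)) :
    (i.predAbove a).val = if i.val < a.val then a.val - 1 else a.val := by
  by_cases h : i.val < a.val
  · rw [if_pos h, Fin.predAbove_of_castSucc_lt i a (by rw [Fin.lt_def]; exact h)]; rfl
  · rw [if_neg h, Fin.predAbove_of_le_castSucc i a (by rw [Fin.le_def]; exact Nat.not_lt.1 h)]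
    rfl

/-! ### maps between powers of formal coproducts -/

section

variable {D : Type u'} [Category.{v'} D] [HasFiniteProducts D] {U V : FormalCoproduct.{w} D}

theorem pow_ext {m : ℕ} {A : FormalCoproduct.{w} D} (x y : A ⟶ V.power (Fin m))
    (h : ∀ a, x ≫ V.powerπ a = y ≫ V.powerπ a) : x = y :=
  Fan.IsLimit.hom_ext (V.isLimitPowerFan (Fin m)) x y h

set_option backward.defeqAttrib.useBackward true in
set_option backward.isDefEq.respectTransparency false in
theorem powerMap_π {m : ℕ} (h : U ⟶ V) (a : Fin m) :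
    FormalCoproduct.powerMap h (Fin m) ≫ V.powerπ a = U.powerπ a ≫ h := by
  ext <;> simp

variable (f g : U ⟶ V)

open Classical in
/-- the map `U^k ⟶ V^m` whose `a`-th component is the `φ a`-th projection followed by `f` or `g`
according to `c a`. -/
noncomputable def L {k m : ℕ} (φ : Fin m → Fin k) (c : Fin m → Prop) :
    U.power (Fin k) ⟶ V.power (Fin m) :=
  Fan.IsLimit.lift (V.isLimitPowerFan (Fin m))
    (fun a => U.powerπ (φ a) ≫ (if c a then f else g))

open Classical in
theorem L_π {k m : ℕ} (φ : Fin m → Fin k) (c : Fin m → Prop) (a : Fin m) :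
    L f g φ c ≫ V.powerπ a = U.powerπ (φ a) ≫ (if c a then f else g) :=
  Fan.IsLimit.fac (V.isLimitPowerFan (Fin m)) _ a

open Classical in
theorem L_π_pos {k m : ℕ} (φ : Fin m → Fin k) (c : Fin m → Prop) (a : Fin m) (h : c a) :
    L f g φ c ≫ V.powerπ a = U.powerπ (φ a) ≫ f := by
  rw [L_π, if_pos h]

open Classical in
theorem L_π_neg {k m : ℕ} (φ : Fin m → Fin k) (c : Fin m → Prop) (a : Fin m) (h : ¬ c a) :
    L f g φ c ≫ V.powerπ a = U.powerπ (φ a) ≫ g := by
  rw [L_π, if_neg h]

theorem L_congr {k m : ℕ} {φ φ' : Fin m → Fin k} {c c' : Fin m → Prop}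
    (hφ : ∀ a, φ a = φ' a) (hc : ∀ a, c a ↔ c' a) : L f g φ c = L f g φ' c' :=
  pow_ext _ _ (fun a => by
    by_cases h : c a
    · rw [L_π_pos f g φ c a h, L_π_pos f g φ' c' a ((hc a).1 h), hφ a]
    · rw [L_π_neg f g φ c a h, L_π_neg f g φ' c' a (fun h' => h ((hc a).2 h')), hφ a])

theorem L_mapPower {k m m' : ℕ} (φ : Fin m → Fin k) (c : Fin m → Prop) (ψ : Fin m' → Fin m) :
    L f g φ c ≫ V.mapPower ψ = L f g (fun a => φ (ψ a)) (fun a => c (ψ a)) :=
  pow_ext _ _ (fun a => (Category.assoc _ _ _).trans
    ((congrArg (fun t => L f g φ c ≫ t) (FormalCoproduct.mapPower_π V ψ a)).trans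
      ((L_π f g φ c (ψ a)).trans
        (L_π f g (fun a => φ (ψ a)) (fun a => c (ψ a)) a).symm)))

theorem mapPower_L {k k' m : ℕ} (φ : Fin m → Fin k) (c : Fin m → Prop) (ψ : Fin k → Fin k') :
    U.mapPower ψ ≫ L f g φ c = L f g (fun a => ψ (φ a)) c :=
  pow_ext _ _ (fun a => (Category.assoc _ _ _).trans
    ((congrArg (fun t => U.mapPower ψ ≫ t) (L_π f g φ c a)).trans
      ((Category.assoc _ _ _).symm.trans
        ((congrArg (fun t => t ≫ _) (FormalCoproduct.mapPower_π U ψ (φ a))).trans
          (L_π f g (fun a => ψ (φ a)) c a).symm))))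

theorem powerMap_f (m : ℕ) :
    FormalCoproduct.powerMap f (Fin m) = L f g (fun a => a) (fun _ => True) :=
  pow_ext _ _ (fun a => (powerMap_π f a).trans
    (L_π_pos f g (fun a => a) (fun _ => True) a trivial).symm)

theorem powerMap_g (m : ℕ) :
    FormalCoproduct.powerMap g (Fin m) = L f g (fun a => a) (fun _ => False) :=
  pow_ext _ _ (fun a => (powerMap_π g a).trans
    (L_π_neg f g (fun a => a) (fun _ => False) a not_false).symm)

/-- two refinements induce simplicially homotopic maps of Čech objects -/
noncomputable def cechHtpy :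
    SimplicialObject.Homotopy (FormalCoproduct.cechFunctor.map f)
      (FormalCoproduct.cechFunctor.map g) where
  h {n} i := L f g (Fin.predAbove i) (fun a => a ≤ i.castSucc)
  h_zero_comp_δ_zero n := by
    show L f g (Fin.predAbove (0 : Fin (n + 1))) (fun a => a ≤ Fin.castSucc (0 : Fin (n + 1))) ≫
      V.mapPower (Fin.succAbove (0 : Fin (n + 2))) = FormalCoproduct.powerMap g (Fin (n + 1))
    rw [L_mapPower, powerMap_g f g]
    refine L_congr f g (fun a => Fin.ext ?_) (fun a => ?_)
    · have := a.isLt
      simp only [sa_val, pa_val, Fin.val_castSucc, Fin.val_succ, Fin.val_zero]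
      split_ifs <;> omega
    · have := a.isLt
      refine iff_of_false ?_ not_false
      simp only [Fin.le_def, sa_val, Fin.val_castSucc, Fin.val_zero]
      split_ifs <;> omega
  h_last_comp_δ_last n := by
    show L f g (Fin.predAbove (Fin.last n)) (fun a => a ≤ Fin.castSucc (Fin.last n)) ≫
      V.mapPower (Fin.succAbove (Fin.last (n + 1))) = FormalCoproduct.powerMap f (Fin (n + 1))
    rw [L_mapPower, powerMap_f f g]
    refine L_congr f g (fun a => Fin.ext ?_) (fun a => ?_)
    · have := a.isLt
      simp only [sa_val, pa_val, Fin.val_castSucc, Fin.val_succ, Fin.val_last]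
      split_ifs <;> omega
    · have := a.isLt
      refine iff_of_true ?_ trivial
      simp only [Fin.le_def, sa_val, Fin.val_castSucc, Fin.val_last]
      split_ifs <;> omega
  h_succ_comp_δ_castSucc_of_lt {n} i j hij := by
    have h' : i.val ≤ j.val := hij
    show L f g (Fin.predAbove j.succ) (fun a => a ≤ j.succ.castSucc) ≫
        V.mapPower (Fin.succAbove i.castSucc) =
      U.mapPower (Fin.succAbove i) ≫ L f g (Fin.predAbove j) (fun a => a ≤ j.castSucc)
    rw [L_mapPower, mapPower_L]
    refine L_congr f g (fun a => Fin.ext ?_) (fun a => ?_)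
    · have := a.isLt; have := i.isLt; have := j.isLt
      simp only [sa_val, pa_val, Fin.val_castSucc, Fin.val_succ]
      split_ifs <;> omega
    · have := a.isLt; have := i.isLt; have := j.isLt
      simp only [Fin.le_def, sa_val, pa_val, Fin.val_castSucc, Fin.val_succ]
      split_ifs <;> omega
  h_succ_comp_δ_castSucc_succ {n} j := by
    show L f g (Fin.predAbove j.succ) (fun a => a ≤ j.succ.castSucc) ≫
        V.mapPower (Fin.succAbove j.castSucc.succ) =
      L f g (Fin.predAbove j.castSucc) (fun a => a ≤ j.castSucc.castSucc) ≫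
        V.mapPower (Fin.succAbove j.castSucc.succ)
    rw [L_mapPower, L_mapPower]
    refine L_congr f g (fun a => Fin.ext ?_) (fun a => ?_)
    · have := a.isLt; have := j.isLt
      simp only [sa_val, pa_val, Fin.val_castSucc, Fin.val_succ]
      split_ifs <;> omega
    · have := a.isLt; have := j.isLt
      simp only [Fin.le_def, sa_val, pa_val, Fin.val_castSucc, Fin.val_succ]
      split_ifs <;> omega
  h_castSucc_comp_δ_succ_of_lt {n} i j hji := by
    have h' : j.val < i.val := hji
    show L f g (Fin.predAbove j.castSucc) (fun a => a ≤ j.castSucc.castSucc) ≫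
        V.mapPower (Fin.succAbove i.succ) =
      U.mapPower (Fin.succAbove i) ≫ L f g (Fin.predAbove j) (fun a => a ≤ j.castSucc)
    rw [L_mapPower, mapPower_L]
    refine L_congr f g (fun a => Fin.ext ?_) (fun a => ?_)
    · have := a.isLt; have := i.isLt; have := j.isLt
      simp only [sa_val, pa_val, Fin.val_castSucc, Fin.val_succ]
      split_ifs <;> omega
    · have := a.isLt; have := i.isLt; have := j.isLt
      simp only [Fin.le_def, sa_val, pa_val, Fin.val_castSucc, Fin.val_succ]
      split_ifs <;> omega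
  h_comp_σ_castSucc_of_le {n} i j hij := by
    have h' : i.val ≤ j.val := hij
    show L f g (Fin.predAbove j) (fun a => a ≤ j.castSucc) ≫
        V.mapPower (Fin.predAbove i.castSucc) =
      U.mapPower (Fin.predAbove i) ≫ L f g (Fin.predAbove j.succ) (fun a => a ≤ j.succ.castSucc)
    rw [L_mapPower, mapPower_L]
    refine L_congr f g (fun a => Fin.ext ?_) (fun a => ?_)
    · have := a.isLt; have := i.isLt; have := j.isLt
      simp only [sa_val, pa_val, Fin.val_castSucc, Fin.val_succ]
      split_ifs <;> omega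
    · have := a.isLt; have := i.isLt; have := j.isLt
      simp only [Fin.le_def, sa_val, pa_val, Fin.val_castSucc, Fin.val_succ]
      split_ifs <;> omega
  h_comp_σ_succ_of_lt {n} i j hji := by
    have h' : j.val ≤ i.val := hji
    show L f g (Fin.predAbove j) (fun a => a ≤ j.castSucc) ≫
        V.mapPower (Fin.predAbove i.succ) =
      U.mapPower (Fin.predAbove i) ≫
        L f g (Fin.predAbove j.castSucc) (fun a => a ≤ j.castSucc.castSucc)
    rw [L_mapPower, mapPower_L]
    refine L_congr f g (fun a => Fin.ext ?_) (fun a => ?_)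
    · have := a.isLt; have := i.isLt; have := j.isLt
      simp only [sa_val, pa_val, Fin.val_castSucc, Fin.val_succ]
      split_ifs <;> omega
    · have := a.isLt; have := i.isLt; have := j.isLt
      simp only [Fin.le_def, sa_val, pa_val, Fin.val_castSucc, Fin.val_succ]
      split_ifs <;> omega

end

theorem main3088 {C : Type u} [SmallCategory C] [HasPullbacks C] (M : Cᵒᵖ ⥤ AddCommGrpCat.{u})
    {U : C} {𝒰 𝒰' : FormalCoproduct.{u} (Over U)} (f g : 𝒰 ⟶ 𝒰') (q : ℕ) :
    HomologicalComplex.homologyMap (CohCx.cechRefine M f) q =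
      HomologicalComplex.homologyMap (CohCx.cechRefine M g) q := by
  have hh : Homotopy (CohCx.cechRefine M f) (CohCx.cechRefine M g) :=
    Groth.Agent.Lib.CosimpHtpyH4.cochainH
      ((FormalCoproduct.evalOp.{u} (Over U) AddCommGrpCat.{u}).obj ((Over.forget U).op ⋙ M))
      (cechHtpy f g)
  exact hh.homologyMap_eq q

end Groth.Agent.Lib.CechRefineH4
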