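import Mathlib
import Groth.Agent.Lib.CechRefine_helper4

set_option autoImplicit false
set_option linter.style.haveILetI false
set_option linter.unusedSectionVars false

universe v u

open CategoryTheory CategoryTheory.Limits Opposite Simplicial

namespace Groth.Agent.Lib.CechNerveHtpyH4

open Groth.Agent.Lib.CechRefineH4

variable {C : Type u} [Category.{v} C] {Y X : C} (p : Y ⟶ X)
  [∀ n : ℕ, HasWidePullback (Arrow.mk p).right (fun _ : Fin (n + 1) => (Arrow.mk p).left)
    (fun _ => (Arrow.mk p).hom)]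

/-- the `k`-th term of the Čech nerve -/
noncomputable abbrev W (k : ℕ) : C :=
  widePullback (Arrow.mk p).right (fun _ : Fin (k + 1) => (Arrow.mk p).left)
    (fun _ => (Arrow.mk p).hom)

noncomputable def pr {k : ℕ} (a : Fin (k + 1)) : W p k ⟶ (Arrow.mk p).left :=
  WidePullback.π (B := (Arrow.mk p).right) (objs := fun _ : Fin (k + 1) => (Arrow.mk p).left)
    (fun _ => (Arrow.mk p).hom) a

noncomputable def bs (k : ℕ) : W p k ⟶ (Arrow.mk p).right :=
  WidePullback.base (B := (Arrow.mk p).right) (objs := fun _ : Fin (k + 1) => (Arrow.mk p).left)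
    (fun _ => (Arrow.mk p).hom)

noncomputable def lft {k : ℕ} {A : C} (b : A ⟶ (Arrow.mk p).right)
    (fs : Fin (k + 1) → (A ⟶ (Arrow.mk p).left))
    (w : ∀ a, fs a ≫ (Arrow.mk p).hom = b) : A ⟶ W p k :=
  WidePullback.lift (B := (Arrow.mk p).right)
    (objs := fun _ : Fin (k + 1) => (Arrow.mk p).left)
    (arrows := fun _ => (Arrow.mk p).hom) b fs w

theorem lft_pr {k : ℕ} {A : C} (b : A ⟶ (Arrow.mk p).right)
    (fs : Fin (k + 1) → (A ⟶ (Arrow.mk p).left))
    (w : ∀ a, fs a ≫ (Arrow.mk p).hom = b) (a : Fin (k + 1)) :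
    lft p b fs w ≫ pr p a = fs a := WidePullback.lift_π _ _ _ _ a

theorem lft_bs {k : ℕ} {A : C} (b : A ⟶ (Arrow.mk p).right)
    (fs : Fin (k + 1) → (A ⟶ (Arrow.mk p).left))
    (w : ∀ a, fs a ≫ (Arrow.mk p).hom = b) :
    lft p b fs w ≫ bs p k = b := WidePullback.lift_base _ _ _ _

theorem pr_p {k : ℕ} (a : Fin (k + 1)) : pr p a ≫ (Arrow.mk p).hom = bs p k :=
  WidePullback.π_arrow _ a

theorem w_ext {m : ℕ} {A : C} (x y : A ⟶ W p m) (h : ∀ a, x ≫ pr p a = y ≫ pr p a)
    (hb : x ≫ bs p m = y ≫ bs p m) : x = y :=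
  WidePullback.hom_ext _ x y h hb

/-- reindexing map -/
noncomputable def M {k k' : ℕ} (ψ : Fin (k + 1) → Fin (k' + 1)) : W p k' ⟶ W p k :=
  lft p (bs p k') (fun a => pr p (ψ a)) (fun a => pr_p p (ψ a))

theorem M_π {k k' : ℕ} (ψ : Fin (k + 1) → Fin (k' + 1)) (a : Fin (k + 1)) :
    M p ψ ≫ pr p a = pr p (ψ a) := lft_pr p _ _ _ a

theorem M_bs {k k' : ℕ} (ψ : Fin (k + 1) → Fin (k' + 1)) : M p ψ ≫ bs p k = bs p k' :=
  lft_bs p _ _ _

variable (F G : (Arrow.mk p).left ⟶ (Arrow.mk p).left)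
  (hF : F ≫ (Arrow.mk p).hom = (Arrow.mk p).hom) (hG : G ≫ (Arrow.mk p).hom = (Arrow.mk p).hom)

open Classical in
noncomputable def L {k m : ℕ} (φ : Fin (m + 1) → Fin (k + 1)) (c : Fin (m + 1) → Prop) :
    W p k ⟶ W p m :=
  lft p (bs p k) (fun a => pr p (φ a) ≫ (if c a then F else G)) (fun a => by
    have hite : (if c a then F else G) ≫ (Arrow.mk p).hom = (Arrow.mk p).hom := by
      split_ifs <;> assumption
    exact (Category.assoc _ _ _).trans
      ((congrArg (fun t => pr p (φ a) ≫ t) hite).trans (pr_p p (φ a))))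

open Classical in
theorem L_π {k m : ℕ} (φ : Fin (m + 1) → Fin (k + 1)) (c : Fin (m + 1) → Prop)
    (a : Fin (m + 1)) :
    L p F G hF hG φ c ≫ pr p a = pr p (φ a) ≫ (if c a then F else G) :=
  lft_pr p _ _ _ a

theorem L_bs {k m : ℕ} (φ : Fin (m + 1) → Fin (k + 1)) (c : Fin (m + 1) → Prop) :
    L p F G hF hG φ c ≫ bs p m = bs p k :=
  lft_bs p _ _ _

open Classical in
theorem L_π_pos {k m : ℕ} (φ : Fin (m + 1) → Fin (k + 1)) (c : Fin (m + 1) → Prop)
    (a : Fin (m + 1)) (h : c a) : L p F G hF hG φ c ≫ pr p a = pr p (φ a) ≫ F := by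
  rw [L_π, if_pos h]

open Classical in
theorem L_π_neg {k m : ℕ} (φ : Fin (m + 1) → Fin (k + 1)) (c : Fin (m + 1) → Prop)
    (a : Fin (m + 1)) (h : ¬ c a) : L p F G hF hG φ c ≫ pr p a = pr p (φ a) ≫ G := by
  rw [L_π, if_neg h]

theorem L_congr {k m : ℕ} {φ φ' : Fin (m + 1) → Fin (k + 1)} {c c' : Fin (m + 1) → Prop}
    (hφ : ∀ a, φ a = φ' a) (hc : ∀ a, c a ↔ c' a) :
    L p F G hF hG φ c = L p F G hF hG φ' c' :=
  w_ext p _ _ (fun a => by
    by_cases h : c a
    · rw [L_π_pos p F G hF hG φ c a h, L_π_pos p F G hF hG φ' c' a ((hc a).1 h), hφ a]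
    · rw [L_π_neg p F G hF hG φ c a h,
        L_π_neg p F G hF hG φ' c' a (fun h' => h ((hc a).2 h')), hφ a])
    ((L_bs p F G hF hG φ c).trans (L_bs p F G hF hG φ' c').symm)

theorem L_M {k m m' : ℕ} (φ : Fin (m + 1) → Fin (k + 1)) (c : Fin (m + 1) → Prop)
    (ψ : Fin (m' + 1) → Fin (m + 1)) :
    L p F G hF hG φ c ≫ M p ψ = L p F G hF hG (fun a => φ (ψ a)) (fun a => c (ψ a)) :=
  w_ext p _ _ (fun a => (Category.assoc _ _ _).trans
    ((congrArg (fun t => L p F G hF hG φ c ≫ t) (M_π p ψ a)).trans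
      ((L_π p F G hF hG φ c (ψ a)).trans
        (L_π p F G hF hG (fun a => φ (ψ a)) (fun a => c (ψ a)) a).symm)))
    ((Category.assoc _ _ _).trans
      ((congrArg (fun t => L p F G hF hG φ c ≫ t) (M_bs p ψ)).trans
        ((L_bs p F G hF hG φ c).trans
          (L_bs p F G hF hG (fun a => φ (ψ a)) (fun a => c (ψ a))).symm)))

theorem M_L {k k' m : ℕ} (φ : Fin (m + 1) → Fin (k + 1)) (c : Fin (m + 1) → Prop)
    (ψ : Fin (k + 1) → Fin (k' + 1)) :
    M p ψ ≫ L p F G hF hG φ c = L p F G hF hG (fun a => ψ (φ a)) c :=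
  w_ext p _ _ (fun a => (Category.assoc _ _ _).trans
    ((congrArg (fun t => M p ψ ≫ t) (L_π p F G hF hG φ c a)).trans
      ((Category.assoc _ _ _).symm.trans
        ((congrArg (fun t => t ≫ _) (M_π p ψ (φ a))).trans
          (L_π p F G hF hG (fun a => ψ (φ a)) c a).symm))))
    ((Category.assoc _ _ _).trans
      ((congrArg (fun t => M p ψ ≫ t) (L_bs p F G hF hG φ c)).trans
        ((M_bs p ψ).trans (L_bs p F G hF hG (fun a => ψ (φ a)) c).symm)))

/-- the simplicial homotopy between the endomorphisms of the Čech nerve induced by `F` and `G` -/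
noncomputable def nerveHtpy (α β : (Arrow.mk p).cechNerve ⟶ (Arrow.mk p).cechNerve)
    (hα : ∀ n : ℕ, α.app (op ⦋n⦌) = L p F G hF hG (fun a => a) (fun _ => True))
    (hβ : ∀ n : ℕ, β.app (op ⦋n⦌) = L p F G hF hG (fun a => a) (fun _ => False)) :
    SimplicialObject.Homotopy α β where
  h {n} i := L p F G hF hG (Fin.predAbove i) (fun a => a ≤ i.castSucc)
  h_zero_comp_δ_zero n := by
    show L p F G hF hG (Fin.predAbove (0 : Fin (n + 1)))
        (fun a => a ≤ Fin.castSucc (0 : Fin (n + 1))) ≫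
      M p (Fin.succAbove (0 : Fin (n + 2))) = β.app (op ⦋n⦌)
    rw [L_M, hβ n]
    refine L_congr p F G hF hG (fun a => Fin.ext ?_) (fun a => ?_)
    · have := a.isLt
      simp only [sa_val, pa_val, Fin.val_castSucc, Fin.val_succ, Fin.val_zero]
      split_ifs <;> omega
    · have := a.isLt
      refine iff_of_false ?_ not_false
      simp only [Fin.le_def, sa_val, Fin.val_castSucc, Fin.val_zero]
      split_ifs <;> omega
  h_last_comp_δ_last n := by
    show L p F G hF hG (Fin.predAbove (Fin.last n))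
        (fun a => a ≤ Fin.castSucc (Fin.last n)) ≫
      M p (Fin.succAbove (Fin.last (n + 1))) = α.app (op ⦋n⦌)
    rw [L_M, hα n]
    refine L_congr p F G hF hG (fun a => Fin.ext ?_) (fun a => ?_)
    · have := a.isLt
      simp only [sa_val, pa_val, Fin.val_castSucc, Fin.val_succ, Fin.val_last]
      split_ifs <;> omega
    · have := a.isLt
      refine iff_of_true ?_ trivial
      simp only [Fin.le_def, sa_val, Fin.val_castSucc, Fin.val_last]
      split_ifs <;> omega
  h_succ_comp_δ_castSucc_of_lt {n} i j hij := by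
    have h' : i.val ≤ j.val := hij
    show L p F G hF hG (Fin.predAbove j.succ) (fun a => a ≤ j.succ.castSucc) ≫
        M p (Fin.succAbove i.castSucc) =
      M p (Fin.succAbove i) ≫ L p F G hF hG (Fin.predAbove j) (fun a => a ≤ j.castSucc)
    rw [L_M, M_L]
    refine L_congr p F G hF hG (fun a => Fin.ext ?_) (fun a => ?_)
    · have := a.isLt; have := i.isLt; have := j.isLt
      simp only [sa_val, pa_val, Fin.val_castSucc, Fin.val_succ]
      split_ifs <;> omega
    · have := a.isLt; have := i.isLt; have := j.isLt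
      simp only [Fin.le_def, sa_val, pa_val, Fin.val_castSucc, Fin.val_succ]
      split_ifs <;> omega
  h_succ_comp_δ_castSucc_succ {n} j := by
    show L p F G hF hG (Fin.predAbove j.succ) (fun a => a ≤ j.succ.castSucc) ≫
        M p (Fin.succAbove j.castSucc.succ) =
      L p F G hF hG (Fin.predAbove j.castSucc) (fun a => a ≤ j.castSucc.castSucc) ≫
        M p (Fin.succAbove j.castSucc.succ)
    rw [L_M, L_M]
    refine L_congr p F G hF hG (fun a => Fin.ext ?_) (fun a => ?_)
    · have := a.isLt; have := j.isLt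
      simp only [sa_val, pa_val, Fin.val_castSucc, Fin.val_succ]
      split_ifs <;> omega
    · have := a.isLt; have := j.isLt
      simp only [Fin.le_def, sa_val, pa_val, Fin.val_castSucc, Fin.val_succ]
      split_ifs <;> omega
  h_castSucc_comp_δ_succ_of_lt {n} i j hji := by
    have h' : j.val < i.val := hji
    show L p F G hF hG (Fin.predAbove j.castSucc) (fun a => a ≤ j.castSucc.castSucc) ≫
        M p (Fin.succAbove i.succ) =
      M p (Fin.succAbove i) ≫ L p F G hF hG (Fin.predAbove j) (fun a => a ≤ j.castSucc)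
    rw [L_M, M_L]
    refine L_congr p F G hF hG (fun a => Fin.ext ?_) (fun a => ?_)
    · have := a.isLt; have := i.isLt; have := j.isLt
      simp only [sa_val, pa_val, Fin.val_castSucc, Fin.val_succ]
      split_ifs <;> omega
    · have := a.isLt; have := i.isLt; have := j.isLt
      simp only [Fin.le_def, sa_val, pa_val, Fin.val_castSucc, Fin.val_succ]
      split_ifs <;> omega
  h_comp_σ_castSucc_of_le {n} i j hij := by
    have h' : i.val ≤ j.val := hij
    show L p F G hF hG (Fin.predAbove j) (fun a => a ≤ j.castSucc) ≫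
        M p (Fin.predAbove i.castSucc) =
      M p (Fin.predAbove i) ≫
        L p F G hF hG (Fin.predAbove j.succ) (fun a => a ≤ j.succ.castSucc)
    rw [L_M, M_L]
    refine L_congr p F G hF hG (fun a => Fin.ext ?_) (fun a => ?_)
    · have := a.isLt; have := i.isLt; have := j.isLt
      simp only [sa_val, pa_val, Fin.val_castSucc, Fin.val_succ]
      split_ifs <;> omega
    · have := a.isLt; have := i.isLt; have := j.isLt
      simp only [Fin.le_def, sa_val, pa_val, Fin.val_castSucc, Fin.val_succ]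
      split_ifs <;> omega
  h_comp_σ_succ_of_lt {n} i j hji := by
    have h' : j.val ≤ i.val := hji
    show L p F G hF hG (Fin.predAbove j) (fun a => a ≤ j.castSucc) ≫
        M p (Fin.predAbove i.succ) =
      M p (Fin.predAbove i) ≫
        L p F G hF hG (Fin.predAbove j.castSucc) (fun a => a ≤ j.castSucc.castSucc)
    rw [L_M, M_L]
    refine L_congr p F G hF hG (fun a => Fin.ext ?_) (fun a => ?_)
    · have := a.isLt; have := i.isLt; have := j.isLt
      simp only [sa_val, pa_val, Fin.val_castSucc, Fin.val_succ]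
      split_ifs <;> omega
    · have := a.isLt; have := i.isLt; have := j.isLt
      simp only [Fin.le_def, sa_val, pa_val, Fin.val_castSucc, Fin.val_succ]
      split_ifs <;> omega

theorem id_eq_L (c : Prop) (hc : c → F = 𝟙 _) (hc' : ¬ c → G = 𝟙 _) (n : ℕ) :
    𝟙 (W p n) = L p F G hF hG (fun a => a) (fun _ => c) :=
  w_ext p _ _ (fun a => by
    by_cases h : c
    · rw [L_π_pos p F G hF hG (fun a => a) (fun _ => c) a h, hc h, Category.id_comp,
        Category.comp_id]
    · rw [L_π_neg p F G hF hG (fun a => a) (fun _ => c) a h, hc' h, Category.id_comp,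
        Category.comp_id])
    ((Category.id_comp _).trans (L_bs p F G hF hG _ _).symm)

theorem map_eq_L (φ : Arrow.mk p ⟶ Arrow.mk p) (hφr : φ.right = 𝟙 _) (c : Prop)
    (hc : c → F = φ.left) (hc' : ¬ c → G = φ.left) (n : ℕ) :
    (Arrow.mapCechNerve φ).app (op ⦋n⦌) = L p F G hF hG (fun a => a) (fun _ => c) :=
  w_ext p _ _ (fun a => by
    have h0 : (Arrow.mapCechNerve φ).app (op ⦋n⦌) ≫ pr p a = pr p a ≫ φ.left :=
      WidePullback.lift_π _ _ _ _ a
    by_cases h : c
    · rw [L_π_pos p F G hF hG (fun a => a) (fun _ => c) a h, hc h, h0]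
    · rw [L_π_neg p F G hF hG (fun a => a) (fun _ => c) a h, hc' h, h0])
    (by
      have h0 : (Arrow.mapCechNerve φ).app (op ⦋n⦌) ≫ bs p n = bs p n ≫ φ.right :=
        WidePullback.lift_base _ _ _ _
      rw [h0, hφr, L_bs]
      exact Category.comp_id _)

theorem main6789 {C : Type u} [Category.{v} C] {Y X : C} (f : Y ⟶ X) (s : X ⟶ Y)
    (hs : s ≫ f = 𝟙 X)
    [∀ n : ℕ, HasWidePullback (Arrow.mk f).right (fun _ : Fin (n + 1) => (Arrow.mk f).left)
      (fun _ => (Arrow.mk f).hom)]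
    (φ : Arrow.mk f ⟶ Arrow.mk f) (hφl : φ.left = f ≫ s) (hφr : φ.right = 𝟙 X) :
    Nonempty (SimplicialObject.Homotopy (𝟙 (Arrow.mk f).cechNerve) (Arrow.mapCechNerve φ)) ∧
      Nonempty (SimplicialObject.Homotopy (Arrow.mapCechNerve φ) (𝟙 (Arrow.mk f).cechNerve)) := by
  have hG : φ.left ≫ (Arrow.mk f).hom = (Arrow.mk f).hom := by
    have h := Arrow.w φ
    rw [hφr] at h
    exact h.trans (Category.comp_id _)
  have hF : 𝟙 (Arrow.mk f).left ≫ (Arrow.mk f).hom = (Arrow.mk f).hom := Category.id_comp _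
  refine ⟨⟨nerveHtpy f (𝟙 _) φ.left hF hG _ _ (fun n => ?_) (fun n => ?_)⟩,
    ⟨nerveHtpy f φ.left (𝟙 _) hG hF _ _ (fun n => ?_) (fun n => ?_)⟩⟩
  · exact id_eq_L f (𝟙 _) φ.left hF hG True (fun _ => rfl) (fun h => (h trivial).elim) n
  · exact map_eq_L f (𝟙 _) φ.left hF hG φ hφr False (fun h => h.elim) (fun _ => rfl) n
  · exact map_eq_L f φ.left (𝟙 _) hG hF φ hφr True (fun _ => rfl) (fun h => (h trivial).elim) n
  · exact id_eq_L f φ.left (𝟙 _) hG hF False (fun h => h.elim) (fun _ => rfl) n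

end Groth.Agent.Lib.CechNerveHtpyH4
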