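import Mathlib
import Groth.Agent.Lib.CechSiteLeray_helper2
import Groth.Agent.Lib.CechTransfer_helper2

/-!
# Acyclicity of `I ∘ u` for an injective sheaf `I` and a functor `u` commuting with fibre products
-/

set_option autoImplicit false
universe u
open CategoryTheory Limits Opposite Abelian

namespace Groth.Agent.Lib.CechPushAcyclic

open Groth.Agent.Lib.CechSite

section Over

variable {C D : Type*} [Category C] [Category D] (u : C ⥤ D)
  [PreservesLimitsOfShape WalkingCospan u]

lemma preservesFiniteProducts_overPost (U : C) [HasFiniteProducts (Over U)] :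
    PreservesFiniteProducts (Over.post (X := U) u) := by
  haveI : PreservesLimitsOfShape (WidePullbackShape WalkingPair) u :=
    ‹PreservesLimitsOfShape WalkingCospan u›
  haveI : PreservesLimitsOfShape (Discrete WalkingPair) (Over.post (X := U) u) := inferInstance
  haveI : PreservesLimit (Functor.empty.{0} (Over U)) (Over.post (X := U) u) := by
    refine preservesLimit_of_preserves_limit_cone (Over.mkIdTerminal (X := U)) ?_
    refine (isLimitMapConeEmptyConeEquiv _ _).symm ?_
    exact IsTerminal.ofIso Over.mkIdTerminal (Over.isoMk (Iso.refl _) (by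
      show 𝟙 (u.obj U) ≫ u.map (𝟙 U) = 𝟙 (u.obj U)
      rw [u.map_id, Category.id_comp]))
  haveI := preservesLimitsOfShape_pempty_of_preservesTerminal (Over.post (X := U) u)
  exact PreservesFiniteProducts.of_preserves_binary_and_terminal _

end Over

variable {C D : Type u} [SmallCategory C] [SmallCategory D] [HasPullbacks C] [HasPullbacks D]
  (J : GrothendieckTopology C) (K : GrothendieckTopology D) (u : C ⥤ D)
  [PreservesLimitsOfShape WalkingCospan u] [u.IsContinuous J K]

theorem ext_push_injective_eq_zero (I : Sheaf K AddCommGrpCat.{u}) [Injective I] (U : C) (p : ℕ)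
    (ξ : Ext (fr J U) ((u.sheafPushforwardContinuous AddCommGrpCat.{u} J K).obj I) (p + 1)) :
    ξ = 0 := by
  refine ext_eq_zero_of_cech J Set.univ
    (fun U ι Y => Sieve.ofArrows (fun i => (Y i).left) (fun i => (Y i).hom) ∈ J U) ?_ ?_ _ ?_
    U trivial p ξ
  · intro U ι Y hY
    exact ⟨trivial, hY, fun _ _ => trivial⟩
  · intro U _ T hT
    refine ⟨Σ V : C, {f : V ⟶ U // T.arrows f}, fun i => Over.mk i.2.1, ?_, fun i => i.2.2⟩
    refine J.superset_covering ?_ hT
    intro V f hf
    exact (Sieve.mem_ofArrows_iff _ _ f).2 ⟨⟨V, f, hf⟩, 𝟙 _, (Category.id_comp _).symm⟩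
  · intro U ι Y _ p
    haveI := injective_obj K I
    haveI := preservesFiniteProducts_overPost u U
    exact isZero_homology_of_image (Over.post (X := U) u)
      ((Over.forget (u.obj U)).op ⋙ I.obj) Y p (isZero_cech_of_injective _ I.obj p)

end Groth.Agent.Lib.CechPushAcyclic
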