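import Mathlib

/-!
# Refinement lemmas for Čech coverings near a relatively Hausdorff quasi-compact subset (lead)
-/

open Set Topology

namespace Groth.Agent.CechRef

universe u v
variable {X : Type u} [TopologicalSpace X]

section Sep

variable {Z : Set X}
  (hZsep : ∀ z ∈ Z, ∀ z' ∈ Z, z ≠ z' →
    ∃ A B : Set X, IsOpen A ∧ IsOpen B ∧ z ∈ A ∧ z' ∈ B ∧ Disjoint A B)

include hZsep in
theorem sep_point_compact {k : X} (hk : k ∈ Z) {L : Set X} (hL : IsCompact L) (hLZ : L ⊆ Z)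
    (hkL : k ∉ L) :
    ∃ A B : Set X, IsOpen A ∧ IsOpen B ∧ k ∈ A ∧ L ⊆ B ∧ Disjoint A B := by
  have h : ∀ l : L, ∃ A B : Set X, IsOpen A ∧ IsOpen B ∧ k ∈ A ∧ (l : X) ∈ B ∧ Disjoint A B :=
    fun l => hZsep k hk l (hLZ l.2) (fun e => hkL (by rw [e]; exact l.2))
  choose A B hA hB hkA hlB hAB using h
  obtain ⟨t, ht⟩ := hL.elim_finite_subcover (fun l : L => B l) hB
    (fun x hx => mem_iUnion.mpr ⟨⟨x, hx⟩, hlB ⟨x, hx⟩⟩)
  refine ⟨⋂ l ∈ t, A l, ⋃ l ∈ t, B l, isOpen_biInter_finset (fun l _ => hA l),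
    isOpen_biUnion (fun l _ => hB l), mem_iInter₂.mpr (fun l _ => hkA l), ht, ?_⟩
  rw [Set.disjoint_left]
  intro x hxA hxB
  obtain ⟨l, hl, hxl⟩ := mem_iUnion₂.mp hxB
  exact Set.disjoint_left.mp (hAB l) (mem_iInter₂.mp hxA l hl) hxl

include hZsep in
theorem sep_compact_compact {K L : Set X} (hK : IsCompact K) (hKZ : K ⊆ Z) (hL : IsCompact L)
    (hLZ : L ⊆ Z) (hKL : Disjoint K L) :
    ∃ A B : Set X, IsOpen A ∧ IsOpen B ∧ K ⊆ A ∧ L ⊆ B ∧ Disjoint A B := by
  have h : ∀ k : K, ∃ A B : Set X, IsOpen A ∧ IsOpen B ∧ (k : X) ∈ A ∧ L ⊆ B ∧ Disjoint A B :=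
    fun k => sep_point_compact hZsep (hKZ k.2) hL hLZ
      (fun hkL => Set.disjoint_left.mp hKL k.2 hkL)
  choose A B hA hB hkA hLB hAB using h
  obtain ⟨t, ht⟩ := hK.elim_finite_subcover (fun k : K => A k) hA
    (fun x hx => mem_iUnion.mpr ⟨⟨x, hx⟩, hkA ⟨x, hx⟩⟩)
  refine ⟨⋃ k ∈ t, A k, ⋂ k ∈ t, B k, isOpen_biUnion (fun k _ => hA k),
    isOpen_biInter_finset (fun k _ => hB k), ht, subset_iInter₂ (fun k _ => hLB k), ?_⟩
  rw [Set.disjoint_left]
  intro x hxA hxB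
  obtain ⟨k, hk, hxk⟩ := mem_iUnion₂.mp hxA
  exact Set.disjoint_left.mp (hAB k) hxk (mem_iInter₂.mp hxB k hk)

include hZsep in
/-- Closed-in-`Z` sets with empty total intersection have open neighbourhoods with empty
intersection. -/
theorem exists_opens_biInter_empty (hZ : IsCompact Z) {Λ : Type v} [DecidableEq Λ]
    (s : Finset Λ) (hs : s.Nonempty) :
    ∀ T : Λ → Set X, (∀ l, IsClosed (T l)) → Z ∩ ⋂ l ∈ s, T l = ∅ →
      ∃ A : Λ → Set X, (∀ l, IsOpen (A l)) ∧ (∀ l ∈ s, Z ∩ T l ⊆ A l) ∧ ⋂ l ∈ s, A l = ∅ := by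
  induction hs using Finset.Nonempty.cons_induction with
  | singleton a =>
    intro T hT hempty
    refine ⟨fun _ => ∅, fun _ => isOpen_empty, ?_, ?_⟩
    · intro l hl x hx
      rw [Finset.mem_singleton] at hl
      have hmem : x ∈ Z ∩ ⋂ l' ∈ ({a} : Finset Λ), T l' := by
        refine ⟨hx.1, mem_iInter₂.mpr fun l' hl' => ?_⟩
        rw [Finset.mem_singleton] at hl'
        rw [hl', ← hl]
        exact hx.2
      rw [hempty] at hmem
      exact hmem
    · apply Set.eq_empty_of_forall_notMem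
      intro x hx
      exact mem_iInter₂.mp hx a (Finset.mem_singleton_self a)
  | cons a s ha hs ih =>
    intro T hT hempty
    have hD : IsCompact (Z ∩ ⋂ l ∈ s, T l) :=
      hZ.inter_right (isClosed_iInter fun l => isClosed_iInter fun _ => hT l)
    have hC : IsCompact (Z ∩ T a) := hZ.inter_right (hT a)
    have hdisj : Disjoint (Z ∩ ⋂ l ∈ s, T l) (Z ∩ T a) := by
      rw [Set.disjoint_left]
      intro x hxD hxC
      have : x ∈ Z ∩ ⋂ l ∈ Finset.cons a s ha, T l := by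
        refine ⟨hxD.1, mem_iInter₂.mpr fun l hl => ?_⟩
        rcases Finset.mem_cons.mp hl with rfl | hl
        · exact hxC.2
        · exact mem_iInter₂.mp hxD.2 l hl
      rw [hempty] at this
      exact this
    obtain ⟨A0, Aa, hA0, hAa, hDA0, hCAa, hdis⟩ :=
      sep_compact_compact hZsep hD inter_subset_left hC inter_subset_left hdisj
    have hempty' : Z ∩ ⋂ l ∈ s, (T l ∩ A0ᶜ) = ∅ := by
      apply Set.eq_empty_of_forall_notMem
      rintro x ⟨hxZ, hx⟩
      obtain ⟨l₀, hl₀⟩ := hs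
      have hxA0 : x ∉ A0 := (mem_iInter₂.mp hx l₀ hl₀).2
      apply hxA0
      apply hDA0
      exact ⟨hxZ, mem_iInter₂.mpr fun l hl => (mem_iInter₂.mp hx l hl).1⟩
    obtain ⟨A', hA'o, hA'sub, hA'empty⟩ := ih (fun l => T l ∩ A0ᶜ)
      (fun l => (hT l).inter hA0.isClosed_compl) hempty'
    refine ⟨fun l => if l = a then Aa else A0 ∪ A' l, ?_, ?_, ?_⟩
    · intro l
      dsimp only
      split_ifs
      · exact hAa
      · exact hA0.union (hA'o l)
    · intro l hl x hx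
      dsimp only
      rcases Finset.mem_cons.mp hl with rfl | hl
      · rw [if_pos rfl]
        exact hCAa hx
      · have hla : l ≠ a := fun e => ha (e ▸ hl)
        rw [if_neg hla]
        by_cases hxA0 : x ∈ A0
        · exact Or.inl hxA0
        · exact Or.inr (hA'sub l hl ⟨hx.1, hx.2, hxA0⟩)
    · apply Set.eq_empty_of_forall_notMem
      intro x hx
      have hxa : x ∈ Aa := by
        have := mem_iInter₂.mp hx a (Finset.mem_cons_self a s)
        dsimp only at this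
        rwa [if_pos rfl] at this
      have hxs : ∀ l ∈ s, x ∈ A0 ∪ A' l := by
        intro l hl
        have := mem_iInter₂.mp hx l (Finset.mem_cons.mpr (Or.inr hl))
        dsimp only at this
        have hla : l ≠ a := fun e => ha (e ▸ hl)
        rwa [if_neg hla] at this
      by_cases hxA0 : x ∈ A0
      · exact Set.disjoint_left.mp hdis hxA0 hxa
      · have : x ∈ ⋂ l ∈ s, A' l :=
          mem_iInter₂.mpr fun l hl => (hxs l hl).resolve_left hxA0
        rw [hA'empty] at this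
        exact this

include hZsep in
/-- Shrink a covering of `Z` to finitely many closed pieces. -/
theorem exists_closed_shrink (hZ : IsCompact Z) {ι : Type v} (U : ι → Set X)
    (hU : ∀ i, IsOpen (U i)) (hcov : Z ⊆ ⋃ i, U i) :
    ∃ (I₀ : Finset ι) (T : ι → Set X), (∀ i, IsClosed (T i)) ∧ (∀ i, Z ∩ T i ⊆ U i) ∧
      (∀ i, i ∉ I₀ → T i = ∅) ∧ (Z ⊆ ⋃ i, T i) := by
  classical
  have h1 : ∀ z : Z, ∃ i, (z : X) ∈ U i := fun z => mem_iUnion.mp (hcov z.2)
  choose idx hidx using h1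
  have h2 : ∀ z : Z, ∃ A B : Set X, IsOpen A ∧ IsOpen B ∧ (z : X) ∈ A ∧
      Z ∩ (U (idx z))ᶜ ⊆ B ∧ Disjoint A B := fun z =>
    sep_point_compact hZsep z.2 (hZ.inter_right (hU _).isClosed_compl) inter_subset_left
      (fun h => h.2 (hidx z))
  choose A B hA hB hzA hLB hAB using h2
  obtain ⟨t, ht⟩ := hZ.elim_finite_subcover (fun z : Z => A z) hA
    (fun x hx => mem_iUnion.mpr ⟨⟨x, hx⟩, hzA ⟨x, hx⟩⟩)
  refine ⟨t.image idx, fun j => ⋃ z ∈ t.filter (fun z => idx z = j), (B z)ᶜ, ?_, ?_, ?_, ?_⟩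
  · intro j
    exact isClosed_biUnion_finset fun z _ => (hB z).isClosed_compl
  · rintro j x ⟨hxZ, hx⟩
    obtain ⟨z, hz, hxz⟩ := mem_iUnion₂.mp hx
    have hzj : idx z = j := (Finset.mem_filter.mp hz).2
    by_contra hxU
    apply hxz
    apply hLB z
    refine ⟨hxZ, ?_⟩
    rw [hzj]
    exact hxU
  · intro j hj
    apply Set.eq_empty_of_forall_notMem
    intro x hx
    obtain ⟨z, hz, -⟩ := mem_iUnion₂.mp hx
    apply hj
    have := Finset.mem_filter.mp hz
    exact Finset.mem_image.mpr ⟨z, this.1, this.2⟩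
  · intro x hx
    obtain ⟨z, hz, hxz⟩ := mem_iUnion₂.mp (ht hx)
    refine mem_iUnion.mpr ⟨idx z, mem_iUnion₂.mpr ⟨z, Finset.mem_filter.mpr ⟨hz, rfl⟩, ?_⟩⟩
    intro hxB
    exact Set.disjoint_left.mp (hAB z) hxz hxB

include hZsep in
theorem cech_core (hZ : IsCompact Z) {ι : Type v} (U : ι → Set X) (hU : ∀ i, IsOpen (U i))
    (hcov : Z ⊆ ⋃ i, U i) (p : ℕ) (W : (Fin (p + 1) → ι) → Set X) (hWo : ∀ t, IsOpen (W t))
    (hWZ : ∀ t, W t ∩ Z = (⋂ l, U (t l)) ∩ Z) :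
    ∃ (T : ι → Set X) (V : ι → Set X), (∀ i, IsClosed (T i)) ∧ (∀ i, Z ∩ T i ⊆ V i) ∧
      (Z ⊆ ⋃ i, T i) ∧ (∀ i, IsOpen (V i)) ∧ (∀ i, V i ⊆ U i) ∧
      (∀ i, closure (V i) ∩ Z ⊆ U i) ∧ (∀ t : Fin (p + 1) → ι, (⋂ l, V (t l)) ⊆ W t) := by
  classical
  obtain ⟨I₀, T, hTc, hTU, hTout, hTcov⟩ := exists_closed_shrink hZsep hZ U hU hcov
  have h3 : ∀ i, ∃ A B : Set X, IsOpen A ∧ IsOpen B ∧ Z ∩ T i ⊆ A ∧ Z ∩ (U i)ᶜ ⊆ B ∧
      Disjoint A B := fun i =>
    sep_compact_compact hZsep (hZ.inter_right (hTc i)) inter_subset_left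
      (hZ.inter_right (hU i).isClosed_compl) inter_subset_left
      (Set.disjoint_left.mpr fun x hx hx' => hx'.2 (hTU i hx))
  choose A3 B3 hA3 hB3 hKA3 hLB3 hAB3 using h3
  have h4 : ∀ t : Fin (p + 1) → ι, ∃ A : Fin (p + 1) → Set X, (∀ l, IsOpen (A l)) ∧
      (∀ l, Z ∩ (T (t l) ∩ (W t)ᶜ) ⊆ A l) ∧ ⋂ l, A l = ∅ := by
    intro t
    have hempty : Z ∩ ⋂ l ∈ (Finset.univ : Finset (Fin (p + 1))), (T (t l) ∩ (W t)ᶜ) = ∅ := by
      apply Set.eq_empty_of_forall_notMem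
      rintro x ⟨hxZ, hx⟩
      have hx' : ∀ l, x ∈ T (t l) ∩ (W t)ᶜ := fun l => mem_iInter₂.mp hx l (Finset.mem_univ l)
      have hxU : x ∈ (⋂ l, U (t l)) ∩ Z :=
        ⟨mem_iInter.mpr fun l => hTU (t l) ⟨hxZ, (hx' l).1⟩, hxZ⟩
      rw [← hWZ t] at hxU
      exact (hx' 0).2 hxU.1
    obtain ⟨A, hAo, hAsub, hAe⟩ := exists_opens_biInter_empty hZsep hZ
      (Finset.univ : Finset (Fin (p + 1))) Finset.univ_nonempty
      (fun l => T (t l) ∩ (W t)ᶜ) (fun l => (hTc _).inter (hWo t).isClosed_compl) hempty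
    refine ⟨A, hAo, fun l => hAsub l (Finset.mem_univ l), ?_⟩
    apply Set.eq_empty_of_forall_notMem
    intro x hx
    have : x ∈ ⋂ l ∈ (Finset.univ : Finset (Fin (p + 1))), A l :=
      mem_iInter₂.mpr fun l _ => mem_iInter.mp hx l
    rw [hAe] at this
    exact this
  choose A hAo hAsub hAe using h4
  let Tup : Set (Fin (p + 1) → ι) := {t | ∀ l, t l ∈ (I₀ : Set ι)}
  have hTupfin : Tup.Finite := Set.Finite.pi' (fun _ => I₀.finite_toSet)
  let V : ι → Set X := fun i =>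
    if i ∈ I₀ then
      U i ∩ A3 i ∩ ⋂ t ∈ Tup, ⋂ l, (if t l = i then W t ∪ A t l else Set.univ)
    else ∅
  have hVpos : ∀ i, i ∈ I₀ → V i =
      U i ∩ A3 i ∩ ⋂ t ∈ Tup, ⋂ l, (if t l = i then W t ∪ A t l else Set.univ) :=
    fun i hi => if_pos hi
  have hVneg : ∀ i, i ∉ I₀ → V i = ∅ := fun i hi => if_neg hi
  refine ⟨T, V, hTc, ?_, hTcov, ?_, ?_, ?_, ?_⟩
  · intro i x hx
    by_cases hi : i ∈ I₀
    · rw [hVpos i hi]
      refine ⟨⟨hTU i hx, hKA3 i hx⟩, ?_⟩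
      refine mem_iInter₂.mpr fun t _ => mem_iInter.mpr fun l => ?_
      split_ifs with htl
      · by_cases hxW : x ∈ W t
        · exact Or.inl hxW
        · refine Or.inr (hAsub t l ⟨hx.1, ?_, hxW⟩)
          rw [htl]
          exact hx.2
      · trivial
    · rw [hTout i hi] at hx
      exact absurd hx.2 (Set.notMem_empty x)
  · intro i
    by_cases hi : i ∈ I₀
    · rw [hVpos i hi]
      refine ((hU i).inter (hA3 i)).inter (hTupfin.isOpen_biInter fun t _ => ?_)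
      refine isOpen_iInter_of_finite fun l => ?_
      split_ifs
      · exact (hWo t).union (hAo t l)
      · exact isOpen_univ
    · rw [hVneg i hi]
      exact isOpen_empty
  · intro i
    by_cases hi : i ∈ I₀
    · rw [hVpos i hi]
      exact fun x hx => hx.1.1
    · rw [hVneg i hi]
      exact Set.empty_subset _
  · intro i
    by_cases hi : i ∈ I₀
    · rintro x ⟨hxc, hxZ⟩
      have hsub : V i ⊆ (B3 i)ᶜ := by
        rw [hVpos i hi]
        intro y hy hyB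
        exact Set.disjoint_left.mp (hAB3 i) hy.1.2 hyB
      have hxc' : x ∈ (B3 i)ᶜ := closure_minimal hsub (hB3 i).isClosed_compl hxc
      by_contra hxU
      exact hxc' (hLB3 i ⟨hxZ, hxU⟩)
    · rw [hVneg i hi]
      simp
  · intro t x hx
    by_cases ht : t ∈ Tup
    · by_contra hxW
      have hall : ∀ l, x ∈ A t l := by
        intro l
        have hxl : x ∈ V (t l) := mem_iInter.mp hx l
        rw [hVpos (t l) (ht l)] at hxl
        have := mem_iInter.mp (mem_iInter₂.mp hxl.2 t ht) l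
        rw [if_pos rfl] at this
        exact this.resolve_left hxW
      have : x ∈ ⋂ l, A t l := mem_iInter.mpr hall
      rw [hAe t] at this
      exact this
    · have : ∃ l, t l ∉ I₀ := by
        by_contra hcon
        push Not at hcon
        exact ht hcon
      obtain ⟨l, hl⟩ := this
      have hxl : x ∈ V (t l) := mem_iInter.mp hx l
      rw [hVneg (t l) hl] at hxl
      exact absurd hxl (Set.notMem_empty x)

end Sep

end Groth.Agent.CechRef
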