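import Mathlib
import Groth.Prelude.Def_FibDesc
import Groth.Agent.Lib.CechSplit4_helper7
import Groth.Agent.Lib.SplitAbs_helper7

/-!
# Flatness of `ι ⋙ κ` and cohomological descent for maps with a section (helper7)
APPEND-ONLY once landed.
-/

set_option autoImplicit false
set_option backward.isDefEq.respectTransparency false
set_option backward.isDefEq.respectTransparency.types false
set_option linter.style.haveILetI false
set_option linter.unusedSectionVars false

universe u

open CategoryTheory CategoryTheory.Limits Opposite Pseudofunctor Pseudofunctor.CoGrothendieck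
  TopologicalSpace

namespace Groth.Agent.Lib.CechSplitH7

open FibDesc Groth.Agent.Lib.FibThinH7 Groth.Agent.Lib.FibDescSideH7

variable {X S : TopCat.{u}} (f : X ⟶ S) (s : S ⟶ X) (hs : s ≫ f = 𝟙 S)

theorem YpMap_τ_γ {n : SimplexCategory} {x : WithInitial SimplexCategory}
    (g : (⟨WithInitial.of n⟩ : DB) ⟶ ⟨x⟩) :
    YpMap f s hs (DB.τ x) ≫ (cechAug f).map (WithInitial.incl.map (γ g)).op = YpMap f s hs g := by
  rw [cech_eq f s hs, Yp_map]
  show YpMap f s hs (DB.τ x) ≫ YpMap f s hs (Ψ.map (WithInitial.incl.map (γ g))) = _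
  rw [← YpMap_comp, γ_fac]

theorem flat_ικ : RepresentablyFlat (ιP f ⋙ κ f s hs) := by
  refine ⟨fun t2 => ?_⟩
  let x : WithInitial SimplexCategory := t2.base.unop.un
  let W : Opens (P f x) := fib (𝒴 := Yp f s hs) t2
  let m0 : SimplexCategory := SimplexCategory.mk (sz x)
  let T : ∀ (U₀ : Opens (P f (WithInitial.of m0))),
      W ≤ (Opens.map (YpMap f s hs (DB.τ x))).obj U₀ →
        StructuredArrow t2 (ιP f ⋙ κ f s hs) := fun U₀ h =>
    StructuredArrow.mk (Y := objMkB (cechAug f) (toAug SimplexCategory) (op m0) U₀)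
      (homMk (𝒴 := Yp f s hs) (X := t2)
        (X' := (ιP f ⋙ κ f s hs).obj (objMkB (cechAug f) (toAug SimplexCategory) (op m0) U₀))
        (DB.τ x).op h)
  -- data attached to an object
  let nn : StructuredArrow t2 (ιP f ⋙ κ f s hs) → SimplexCategory := fun j => j.right.base.unop
  let gg : ∀ j : StructuredArrow t2 (ιP f ⋙ κ f s hs),
      (⟨WithInitial.of (nn j)⟩ : DB) ⟶ ⟨x⟩ := fun j => j.hom.base.unop
  let UU : ∀ j : StructuredArrow t2 (ιP f ⋙ κ f s hs), Opens (P f (WithInitial.of (nn j))) :=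
    fun j => fibB (cechAug f) (toAug SimplexCategory) j.right
  let Uγ : ∀ j : StructuredArrow t2 (ιP f ⋙ κ f s hs), Opens (P f (WithInitial.of m0)) :=
    fun j => (Opens.map ((cechAug f).map (WithInitial.incl.map (γ (gg j))).op)).obj (UU j)
  have factA : ∀ j, W ≤ (Opens.map (YpMap f s hs (DB.τ x))).obj (Uγ j) := by
    intro j
    have h := le_of_hom (𝒴 := Yp f s hs) j.hom
    have e := map_obj_of_comp _ _ _ (YpMap_τ_γ f s hs (gg j)) (UU j)
    exact le_trans h (le_of_eq e.symm)
  have factK : ∀ (j : StructuredArrow t2 (ιP f ⋙ κ f s hs))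
      (U₀ : Opens (P f (WithInitial.of m0)))
      (h₀ : W ≤ (Opens.map (YpMap f s hs (DB.τ x))).obj U₀), U₀ ≤ Uγ j →
        Nonempty (T U₀ h₀ ⟶ j) := by
    intro j U₀ h₀ hle
    refine ⟨StructuredArrow.homMk (homMkB (𝒴 := cechAug f) (ψ := toAug SimplexCategory)
      (X := objMkB (cechAug f) (toAug SimplexCategory) (op m0) U₀) (X' := j.right)
      (γ (gg j)).op hle) ?_⟩
    apply FibThinH7.hom_ext_thin
    show (DB.τ x).op ≫ (Ψ.map (WithInitial.incl.map (γ (gg j)))).op = j.hom.base
    rw [← op_comp, γ_fac]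
    rfl
  have factK2 : ∀ (j : StructuredArrow t2 (ιP f ⋙ κ f s hs))
      (U₀ : Opens (P f (WithInitial.of m0)))
      (h₀ : W ≤ (Opens.map (YpMap f s hs (DB.τ x))).obj U₀) (u v : T U₀ h₀ ⟶ j), u = v := by
    intro j U₀ h₀ u v
    have key : ∀ w : T U₀ h₀ ⟶ j, w.right.base.unop = γ (gg j) := by
      intro w
      apply γ_uniq
      have hw := congrArg (fun z => z.base) (StructuredArrow.w w)
      have hw' : (DB.τ x).op ≫ (Ψ.map (WithInitial.incl.map w.right.base.unop)).op =
          j.hom.base := hw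
      rw [← op_comp] at hw'
      exact congrArg Quiver.Hom.unop hw'
    apply StructuredArrow.ext
    apply FibThinH7.hom_ext_thin
    apply Quiver.Hom.unop_inj
    exact (key u).trans (key v).symm
  haveI : Nonempty (StructuredArrow t2 (ιP f ⋙ κ f s hs)) := ⟨T ⊤ (fun _ _ => trivial)⟩
  haveI : IsCofilteredOrEmpty (StructuredArrow t2 (ιP f ⋙ κ f s hs)) := by
    refine ⟨fun j j' => ?_, fun j j' u v => ?_⟩
    · obtain ⟨a⟩ := factK j (Uγ j ⊓ Uγ j') (le_inf (factA j) (factA j')) inf_le_left
      obtain ⟨b⟩ := factK j' (Uγ j ⊓ Uγ j') (le_inf (factA j) (factA j')) inf_le_right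
      exact ⟨_, a, b, trivial⟩
    · obtain ⟨a⟩ := factK j (Uγ j) (factA j) le_rfl
      exact ⟨_, a, factK2 j' _ _ _ _⟩
  exact ⟨⟩


open Groth.Agent.Lib.FAcyc (acyc)

include s hs in
/-- **A map with a section is of cohomological descent.** -/
theorem isCohDescentMap_of_section : IsCohDescentMap f := by
  apply isCohDescentTop_of_acyc (cechAug f)
  intro I _
  haveI := eps_isContinuous (cechAug f)
  haveI := eps_isCocontinuous (cechAug f)
  haveI := incl_isContinuous (cechAug f)
  haveI := incl_isCocontinuous (cechAug f)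
  haveI := κ_isContinuous f s hs
  haveI := κ_isCocontinuous f s hs
  haveI : (eps (topAug (cechAug f)) ⋙ κ f s hs).IsContinuous
      (topAugTop (cechAug f) (bot SimplexCategory)) (J2 f s hs) :=
    Functor.isContinuous_comp _ _ _ (totAug (topAug (cechAug f)) (topAugTop (cechAug f))) _
  haveI : (ιP f ⋙ κ f s hs).IsContinuous
      (totPart (topAug (cechAug f)) (topAugTop (cechAug f))) (J2 f s hs) :=
    Functor.isContinuous_comp _ _ _ (totAug (topAug (cechAug f)) (topAugTop (cechAug f))) _
  haveI : (eps (topAug (cechAug f)) ⋙ κ f s hs).IsCocontinuous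
      (topAugTop (cechAug f) (bot SimplexCategory)) (J2 f s hs) :=
    isCocontinuous_comp _ _ _ (totAug (topAug (cechAug f)) (topAugTop (cechAug f)))
  haveI : (ιP f ⋙ κ f s hs).IsCocontinuous
      (totPart (topAug (cechAug f)) (topAugTop (cechAug f))) (J2 f s hs) :=
    isCocontinuous_comp _ _ _ (totAug (topAug (cechAug f)) (topAugTop (cechAug f)))
  haveI := flat_ικ f s hs
  haveI : (eps (topAug (cechAug f)) ⋙ κ f s hs).Full := full_Eκ f s hs
  haveI : (eps (topAug (cechAug f)) ⋙ κ f s hs).Faithful := faithful_Eκ f s hs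
  exact Groth.Agent.Lib.SplitAbsH7.main
    (topAugTop (cechAug f) (bot SimplexCategory))
    (totAug (topAug (cechAug f)) (topAugTop (cechAug f)))
    (totPart (topAug (cechAug f)) (topAugTop (cechAug f))) (J2 f s hs)
    (eps (topAug (cechAug f))) (ιP f) (κ f s hs) (κ_bijective f s hs) (p₀ f) (a₀ f)
    (σc f s hs) (hσc f s hs) (hcontr_c f s hs) I

end Groth.Agent.Lib.CechSplitH7
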