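import Mathlib

/-!
# Extension by zero of homological complexes is exact (helper7)
-/

set_option backward.isDefEq.respectTransparency false
set_option backward.isDefEq.respectTransparency.types false
set_option linter.style.haveILetI false
set_option linter.unusedSectionVars false
set_option autoImplicit false

open CategoryTheory CategoryTheory.Limits HomologicalComplex

namespace Groth.Agent.Lib.ExtendExactH7

universe v u

variable {C : Type u} [Category.{v} C] [Abelian C] {ι ι' : Type*} {c : ComplexShape ι}
  {c' : ComplexShape ι'} (e : c.Embedding c')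

/-- the evaluation of the extension at an index in the image -/
noncomputable def evalIso (S : ShortComplex (HomologicalComplex C c)) {i : ι} {i' : ι'}
    (hi : e.f i = i') :
    (S.map (e.extendFunctor C)).map (eval C c' i') ≅ S.map (eval C c i) :=
  ShortComplex.isoMk (extendXIso S.X₁ e hi) (extendXIso S.X₂ e hi) (extendXIso S.X₃ e hi)
    (by
      show (extendXIso S.X₁ e hi).hom ≫ S.f.f i =
        (extendMap S.f e).f i' ≫ (extendXIso S.X₂ e hi).hom
      rw [extendMap_f S.f e hi, Category.assoc, Category.assoc, Iso.inv_hom_id,
        Category.comp_id])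
    (by
      show (extendXIso S.X₂ e hi).hom ≫ S.g.f i =
        (extendMap S.g e).f i' ≫ (extendXIso S.X₃ e hi).hom
      rw [extendMap_f S.g e hi, Category.assoc, Category.assoc, Iso.inv_hom_id,
        Category.comp_id])

theorem shortExact_extend (S : ShortComplex (HomologicalComplex C c)) (hS : S.ShortExact) :
    (S.map (e.extendFunctor C)).ShortExact := by
  apply HomologicalComplex.shortExact_of_degreewise_shortExact
  intro i'
  by_cases hi' : ∃ i, e.f i = i'
  · obtain ⟨i, hi⟩ := hi'
    have h1 : (S.map (eval C c i)).ShortExact :=
      (HomologicalComplex.shortExact_iff_degreewise_shortExact S).1 hS i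
    exact ShortComplex.shortExact_of_iso (evalIso e S hi).symm h1
  · have hne : ∀ i, e.f i ≠ i' := fun i hi => hi' ⟨i, hi⟩
    have z₁ : IsZero ((S.X₁.extend e).X i') := isZero_extend_X _ e i' hne
    have z₂ : IsZero ((S.X₂.extend e).X i') := isZero_extend_X _ e i' hne
    have z₃ : IsZero ((S.X₃.extend e).X i') := isZero_extend_X _ e i' hne
    exact ShortComplex.ShortExact.mk' (ShortComplex.exact_of_isZero_X₂ _ z₂) (z₁.mono _) (z₃.epi _)

end Groth.Agent.Lib.ExtendExactH7
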