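import Groth.Agent.Lib.TotTools_helper7

/-!
# `Tot` preserves quasi-isomorphisms of uniformly bounded below double complexes (helper7)

* `mono_homologyMap_τ₂`, `epi_homologyMap_τ₂`: the four lemmas for the middle term;
* `IsoBelow`, `isoBelow_τ₂`, `isoBelow_of_isZero`;
* the bottom row `rowObj`, `rowProj`, and the rest `rest`, `restι`;
* `quasiIso_total_map_of_rows`: rows quasi-isomorphisms => `Tot` quasi-isomorphism;
* `main`: the flipped version (columns quasi-isomorphisms, i.e. a quasi-isomorphism of complexes of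
  complexes).
-/

set_option autoImplicit false
set_option backward.isDefEq.respectTransparency false
set_option backward.isDefEq.respectTransparency.types false
set_option linter.style.haveILetI false
set_option linter.unusedSectionVars false

open CategoryTheory CategoryTheory.Limits HomologicalComplex

namespace Groth.Agent.Lib.TotQisH7

open Groth.Agent.Lib.TotToolsH7

universe v u
variable {C : Type u} [Category.{v} C] [Abelian C]

/-! ### The four lemmas for the middle term -/

section Tau2

open ComposableArrows HomologicalComplex.HomologySequence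

variable {ι : Type*} {c : ComplexShape ι}
  {S₁ S₂ : ShortComplex (HomologicalComplex C c)} (φ : S₁ ⟶ S₂)
  (hS₁ : S₁.ShortExact) (hS₂ : S₂.ShortExact)

include hS₁ hS₂ in
theorem mono_homologyMap_τ₂ (i j : ι) (hij : c.Rel i j)
    (h₀ : Epi (homologyMap φ.τ₃ i)) (h₁ : Mono (homologyMap φ.τ₁ j))
    (h₃ : Mono (homologyMap φ.τ₃ j)) : Mono (homologyMap φ.τ₂ j) := by
  apply Abelian.mono_of_epi_of_mono_of_mono
    ((δ₀Functor ⋙ δ₀Functor).map (mapComposableArrows₅ φ hS₁ hS₂ i j hij))
  · exact (composableArrows₅_exact hS₁ i j hij).δ₀.δ₀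
  · exact (composableArrows₅_exact hS₂ i j hij).δ₀.δ₀
  · exact h₀
  · exact h₁
  · exact h₃

include hS₁ hS₂ in
theorem epi_homologyMap_τ₂ (i j : ι) (hij : c.Rel i j)
    (h₀ : Epi (homologyMap φ.τ₁ i)) (h₂ : Epi (homologyMap φ.τ₃ i))
    (h₃ : Mono (homologyMap φ.τ₁ j)) : Epi (homologyMap φ.τ₂ i) := by
  apply Abelian.epi_of_epi_of_epi_of_mono
    ((δlastFunctor ⋙ δlastFunctor).map (mapComposableArrows₅ φ hS₁ hS₂ i j hij))
  · exact (composableArrows₅_exact hS₁ i j hij).δlast.δlast
  · exact (composableArrows₅_exact hS₂ i j hij).δlast.δlast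
  · exact h₀
  · exact h₂
  · exact h₃

end Tau2

/-! ### `IsoBelow` -/

/-- `f` induces isomorphisms on `H^n` for `n < N` and a monomorphism on `H^N` -/
def IsoBelow {X Y : HomologicalComplex C (ComplexShape.up ℤ)} (f : X ⟶ Y) (N : ℤ) : Prop :=
  (∀ n : ℤ, n < N → IsIso (homologyMap f n)) ∧ Mono (homologyMap f N)

theorem isoBelow_τ₂ {S₁ S₂ : ShortComplex (HomologicalComplex C (ComplexShape.up ℤ))}
    (φ : S₁ ⟶ S₂) (hS₁ : S₁.ShortExact) (hS₂ : S₂.ShortExact) (N : ℤ)
    (h₁ : IsoBelow φ.τ₁ N) (h₃ : QuasiIso φ.τ₃) : IsoBelow φ.τ₂ N := by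
  have iso3 : ∀ n : ℤ, IsIso (homologyMap φ.τ₃ n) := fun n =>
    (quasiIsoAt_iff_isIso_homologyMap φ.τ₃ n).1 (h₃.quasiIsoAt n)
  have mono1 : ∀ n : ℤ, n ≤ N → Mono (homologyMap φ.τ₁ n) := fun n hn => by
    rcases lt_or_eq_of_le hn with h | h
    · haveI := h₁.1 n h
      infer_instance
    · rw [h]
      exact h₁.2
  have monoAll : ∀ n : ℤ, n ≤ N → Mono (homologyMap φ.τ₂ n) := fun n hn => by
    haveI := iso3 (n - 1)
    haveI := iso3 n
    exact mono_homologyMap_τ₂ φ hS₁ hS₂ (n - 1) n (by simp) inferInstance (mono1 n hn)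
      inferInstance
  refine ⟨fun n hn => ?_, monoAll N le_rfl⟩
  haveI := monoAll n hn.le
  haveI : Epi (homologyMap φ.τ₂ n) := by
    haveI := iso3 n
    haveI := h₁.1 n hn
    exact epi_homologyMap_τ₂ φ hS₁ hS₂ n (n + 1) rfl inferInstance inferInstance
      (mono1 (n + 1) (by omega))
  exact isIso_of_mono_of_epi _

theorem isoBelow_of_isZero {X Y : HomologicalComplex C (ComplexShape.up ℤ)} (f : X ⟶ Y) (N : ℤ)
    (hX : ∀ n : ℤ, n ≤ N → IsZero (X.X n)) (hY : ∀ n : ℤ, n ≤ N → IsZero (Y.X n)) :
    IsoBelow f N := by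
  have key : ∀ n : ℤ, n ≤ N → IsIso (homologyMap f n) := fun n hn => by
    rw [← quasiIsoAt_iff_isIso_homologyMap,
      quasiIsoAt_iff_exactAt f n (ExactAt.of_isZero (hX n hn))]
    exact ExactAt.of_isZero (hY n hn)
  refine ⟨fun n hn => key n hn.le, ?_⟩
  haveI := key N le_rfl
  infer_instance

/-! ### Zero complexes -/

theorem isZero_of_forall_isZero {ι : Type*} {c : ComplexShape ι} (Y : HomologicalComplex C c)
    (h : ∀ p, IsZero (Y.X p)) : IsZero Y := by
  rw [IsZero.iff_id_eq_zero]
  refine HomologicalComplex.hom_ext _ _ (fun p => ?_)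
  exact (h p).eq_of_src _ _

theorem isZero_X_of_isZero {ι : Type*} {c : ComplexShape ι} (Y : HomologicalComplex C c)
    (h : IsZero Y) (p : ι) : IsZero (Y.X p) :=
  (HomologicalComplex.eval C c p).map_isZero h

theorem isZero_total_X (K : Bi C) (a b : ℤ) (hK : Bdd K a b) [K.HasTotal (ComplexShape.up ℤ)]
    (n : ℤ) (hn : n < a + b) : IsZero ((K.total (ComplexShape.up ℤ)).X n) := by
  rw [IsZero.iff_id_eq_zero]
  apply HomologicalComplex₂.total.hom_ext (ComplexShape.up ℤ)
  intro q p h
  have h' : q + p = n := h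
  apply (hK q p ?_).eq_of_src
  rcases lt_or_ge q b with h1 | h1
  · exact Or.inl h1
  · exact Or.inr (by omega)

/-! ### `Tot` of short complexes of double complexes -/

section TotSC

variable {K₁ K₂ K₃ : Bi C} (i : K₁ ⟶ K₂) (ρ : K₂ ⟶ K₃) (w : i ≫ ρ = 0)
  [K₁.HasTotal (ComplexShape.up ℤ)] [K₂.HasTotal (ComplexShape.up ℤ)]
  [K₃.HasTotal (ComplexShape.up ℤ)]
  {L₁ L₂ L₃ : Bi C} (i' : L₁ ⟶ L₂) (ρ' : L₂ ⟶ L₃) (w' : i' ≫ ρ' = 0)
  [L₁.HasTotal (ComplexShape.up ℤ)] [L₂.HasTotal (ComplexShape.up ℤ)]
  [L₃.HasTotal (ComplexShape.up ℤ)]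

/-- `Tot` of a short complex of double complexes -/
noncomputable abbrev totSC : ShortComplex (HomologicalComplex C (ComplexShape.up ℤ)) :=
  ShortComplex.mk (HomologicalComplex₂.total.map i (ComplexShape.up ℤ))
    (HomologicalComplex₂.total.map ρ (ComplexShape.up ℤ)) (by
      rw [← HomologicalComplex₂.total.map_comp, w, total_map_zero])

/-- `Tot` of a morphism of short complexes of double complexes -/
noncomputable def totSCMap (α₁ : K₁ ⟶ L₁) (α₂ : K₂ ⟶ L₂) (α₃ : K₃ ⟶ L₃)
    (c₁ : α₁ ≫ i' = i ≫ α₂) (c₂ : α₂ ≫ ρ' = ρ ≫ α₃) : totSC i ρ w ⟶ totSC i' ρ' w' :=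
  ShortComplex.homMk (HomologicalComplex₂.total.map α₁ (ComplexShape.up ℤ))
    (HomologicalComplex₂.total.map α₂ (ComplexShape.up ℤ))
    (HomologicalComplex₂.total.map α₃ (ComplexShape.up ℤ))
    (by
      show HomologicalComplex₂.total.map α₁ (ComplexShape.up ℤ) ≫
        HomologicalComplex₂.total.map i' (ComplexShape.up ℤ) =
        HomologicalComplex₂.total.map i (ComplexShape.up ℤ) ≫
          HomologicalComplex₂.total.map α₂ (ComplexShape.up ℤ)
      rw [← HomologicalComplex₂.total.map_comp, ← HomologicalComplex₂.total.map_comp, c₁])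
    (by
      show HomologicalComplex₂.total.map α₂ (ComplexShape.up ℤ) ≫
        HomologicalComplex₂.total.map ρ' (ComplexShape.up ℤ) =
        HomologicalComplex₂.total.map ρ (ComplexShape.up ℤ) ≫
          HomologicalComplex₂.total.map α₃ (ComplexShape.up ℤ)
      rw [← HomologicalComplex₂.total.map_comp, ← HomologicalComplex₂.total.map_comp, c₂])

end TotSC

/-! ### The bottom row -/

section BottomRow

/-- the bottom row as a double complex -/
noncomputable abbrev rowObj (K : Bi C) (b : ℤ) : Bi C :=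
  (HomologicalComplex.single (HomologicalComplex C (ComplexShape.up ℤ))
    (ComplexShape.up ℤ) b).obj (K.X b)

/-- the bottom row is functorial -/
noncomputable abbrev rowMap {K L : Bi C} (φ : K ⟶ L) (b : ℤ) : rowObj K b ⟶ rowObj L b :=
  (HomologicalComplex.single (HomologicalComplex C (ComplexShape.up ℤ))
    (ComplexShape.up ℤ) b).map (φ.f b)

variable (K L : Bi C) (φ : K ⟶ L) (a b : ℤ) (hK : Bdd K a b) (hL : Bdd L a b)

include hK in
theorem isZero_X_of_lt (q : ℤ) (hq : q < b) : IsZero (K.X q) :=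
  isZero_of_forall_isZero _ (fun p => hK q p (Or.inl hq))

/-- the projection to the bottom row -/
noncomputable def rowProj : K ⟶ rowObj K b :=
  HomologicalComplex.mkHomToSingle (𝟙 (K.X b)) (fun i (hi : i + 1 = b) =>
    (isZero_X_of_lt K a b hK i (by omega)).eq_of_src _ _)

theorem rowProj_f_self :
    (rowProj K a b hK).f b =
      (HomologicalComplex.singleObjXSelf (ComplexShape.up ℤ) b (K.X b)).inv := by
  unfold rowProj
  rw [HomologicalComplex.mkHomToSingle_f, Category.id_comp]

theorem rowProj_naturality :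
    φ ≫ rowProj L a b hL = rowProj K a b hK ≫ rowMap φ b := by
  apply HomologicalComplex.to_single_hom_ext
  rw [HomologicalComplex.comp_f, HomologicalComplex.comp_f, rowProj_f_self, rowProj_f_self,
    HomologicalComplex.single_map_f_self, Iso.inv_hom_id_assoc]

theorem isZero_rowObj_X (q : ℤ) (hq : q ≠ b) (p : ℤ) : IsZero (((rowObj K b).X q).X p) :=
  isZero_X_of_isZero _
    (HomologicalComplex.isZero_single_obj_X (ComplexShape.up ℤ) b (K.X b) q hq) p

include hK in
theorem bdd_rowObj : Bdd (rowObj K b) a b := by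
  intro q p h
  by_cases hq : q = b
  · rw [hq]
    have hp : p < a := by omega
    exact IsZero.of_iso (hK b p (Or.inr hp))
      ((HomologicalComplex.eval C (ComplexShape.up ℤ) p).mapIso
        (HomologicalComplex.singleObjXSelf (ComplexShape.up ℤ) b (K.X b)))
  · exact isZero_rowObj_X K b q hq p

theorem epi_rowProj : Epi (rowProj K a b hK) := by
  apply HomologicalComplex.epi_of_epi_f
  intro q
  by_cases hq : q = b
  · rw [hq, rowProj_f_self]
    infer_instance
  · exact (HomologicalComplex.isZero_single_obj_X (ComplexShape.up ℤ) b (K.X b) q hq).epi _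

/-- the rest: the kernel of the projection to the bottom row -/
noncomputable abbrev rest : Bi C := kernel (rowProj K a b hK)

/-- the inclusion of the rest -/
noncomputable abbrev restι : rest K a b hK ⟶ K := kernel.ι (rowProj K a b hK)

theorem restι_rowProj : restι K a b hK ≫ rowProj K a b hK = 0 := kernel.condition _

theorem rest_shortExact :
    (ShortComplex.mk (restι K a b hK) (rowProj K a b hK) (restι_rowProj K a b hK)).ShortExact := by
  haveI : Epi (rowProj K a b hK) := epi_rowProj K a b hK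
  exact ShortComplex.ShortExact.mk'
    (ShortComplex.exact_of_f_is_kernel _ (kernelIsKernel (rowProj K a b hK)))
    inferInstance inferInstance

theorem isZero_rest_X_self (p : ℤ) : IsZero (((rest K a b hK).X b).X p) := by
  have hT := bidegree_shortExact _ _ (restι_rowProj K a b hK) (rest_shortExact K a b hK) b p
  haveI := hT.mono_f
  haveI : IsIso ((rowProj K a b hK).f b) := by
    rw [rowProj_f_self]
    infer_instance
  haveI : Mono (((rowProj K a b hK).f b).f p) := inferInstance
  apply IsZero.of_mono_eq_zero (((restι K a b hK).f b).f p)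
  rw [← cancel_mono (((rowProj K a b hK).f b).f p), zero_comp,
    ← HomologicalComplex.comp_f, ← HomologicalComplex.comp_f, restι_rowProj]
  rfl

theorem bdd_rest : Bdd (rest K a b hK) a (b + 1) := by
  intro q p h
  have hT := bidegree_shortExact _ _ (restι_rowProj K a b hK) (rest_shortExact K a b hK) q p
  haveI := hT.mono_f
  by_cases hqp : q < b ∨ p < a
  · exact IsZero.of_mono (((restι K a b hK).f q).f p) (hK q p hqp)
  · have hq : q = b := by omega
    rw [hq]
    exact isZero_rest_X_self K a b hK p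

theorem hsplit_rest (q p : ℤ) :
    IsZero (((rowObj K b).X q).X p) ∨ IsZero (((rest K a b hK).X q).X p) := by
  by_cases hq : q = b
  · right
    rw [hq]
    exact isZero_rest_X_self K a b hK p
  · left
    exact isZero_rowObj_X K b q hq p

theorem isIso_restι_f (q : ℤ) (hq : q ≠ b) : IsIso ((restι K a b hK).f q) := by
  have h1 := (HomologicalComplex.shortExact_iff_degreewise_shortExact _).1
    (rest_shortExact K a b hK) q
  haveI : Mono ((restι K a b hK).f q) := h1.mono_f
  haveI : Epi ((restι K a b hK).f q) := h1.exact.epi_f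
    ((HomologicalComplex.isZero_single_obj_X (ComplexShape.up ℤ) b (K.X b) q hq).eq_of_tgt _ _)
  exact isIso_of_mono_of_epi _

/-- the induced map on rests -/
noncomputable abbrev restMap : rest K a b hK ⟶ rest L a b hL :=
  kernel.map (rowProj K a b hK) (rowProj L a b hL) φ (rowMap φ b)
    (rowProj_naturality K L φ a b hK hL).symm

theorem restMap_ι :
    restMap K L φ a b hK hL ≫ restι L a b hL = restι K a b hK ≫ φ :=
  kernel.lift_ι _ _ _

theorem quasiIso_restMap_f (hφ : ∀ q : ℤ, QuasiIso (φ.f q)) (q : ℤ) :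
    QuasiIso ((restMap K L φ a b hK hL).f q) := by
  by_cases hq : q = b
  · have h1 : IsZero ((rest K a b hK).X q) :=
      isZero_of_forall_isZero _ (fun p => bdd_rest K a b hK q p (Or.inl (by omega)))
    have h2 : IsZero ((rest L a b hL).X q) :=
      isZero_of_forall_isZero _ (fun p => bdd_rest L a b hL q p (Or.inl (by omega)))
    haveI : IsIso ((restMap K L φ a b hK hL).f q) := IsZero.isIso h1 h2 _
    infer_instance
  · haveI : IsIso ((restι K a b hK).f q) := isIso_restι_f K a b hK q hq
    haveI : IsIso ((restι L a b hL).f q) := isIso_restι_f L a b hL q hq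
    haveI := hφ q
    have comm : (restMap K L φ a b hK hL).f q ≫ (restι L a b hL).f q =
        (restι K a b hK).f q ≫ φ.f q := by
      rw [← HomologicalComplex.comp_f, ← HomologicalComplex.comp_f, restMap_ι]
    haveI : QuasiIso ((restMap K L φ a b hK hL).f q ≫ (restι L a b hL).f q) := by
      rw [comm]
      infer_instance
    exact quasiIso_of_comp_right _ ((restι L a b hL).f q)

theorem quasiIso_total_rowMap (hφ : QuasiIso (φ.f b))
    [(rowObj K b).HasTotal (ComplexShape.up ℤ)] [(rowObj L b).HasTotal (ComplexShape.up ℤ)] :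
    QuasiIso (HomologicalComplex₂.total.map (rowMap φ b) (ComplexShape.up ℤ)) := by
  rw [quasiIso_iff]
  intro n
  obtain ⟨p, rfl⟩ : ∃ p : ℤ, n = b + p := ⟨n - b, by ring⟩
  apply quasiIsoAt_total_map_of_row (rowObj K b) (rowObj L b) (rowMap φ b) b
    (isZero_rowObj_X K b) (isZero_rowObj_X L b) p
  have e : (rowMap φ b).f b =
      (HomologicalComplex.singleObjXSelf (ComplexShape.up ℤ) b (K.X b)).hom ≫ φ.f b ≫
        (HomologicalComplex.singleObjXSelf (ComplexShape.up ℤ) b (L.X b)).inv :=
    HomologicalComplex.single_map_f_self _ _ _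
  rw [e]
  infer_instance

end BottomRow

/-! ### The induction -/

theorem key (a : ℤ) (m : ℕ) : ∀ (b : ℤ) (K L : Bi C) (φ : K ⟶ L) (_ : Bdd K a b) (_ : Bdd L a b)
    (_ : ∀ q : ℤ, QuasiIso (φ.f q)) [K.HasTotal (ComplexShape.up ℤ)]
    [L.HasTotal (ComplexShape.up ℤ)],
    IsoBelow (HomologicalComplex₂.total.map φ (ComplexShape.up ℤ)) (a + b + (m : ℤ) - 1) := by
  induction m with
  | zero =>
    intro b K L φ hK hL hφ _ _
    apply isoBelow_of_isZero
    · intro n hn
      exact isZero_total_X K a b hK n (by push_cast at hn; omega)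
    · intro n hn
      exact isZero_total_X L a b hL n (by push_cast at hn; omega)
  | succ m ih =>
    intro b K L φ hK hL hφ _ _
    haveI := hasTotal_of_bdd _ a (b + 1) (bdd_rest K a b hK)
    haveI := hasTotal_of_bdd _ a (b + 1) (bdd_rest L a b hL)
    haveI := hasTotal_of_bdd _ a b (bdd_rowObj K a b hK)
    haveI := hasTotal_of_bdd _ a b (bdd_rowObj L a b hL)
    have h1 : IsoBelow (HomologicalComplex₂.total.map (restMap K L φ a b hK hL)
        (ComplexShape.up ℤ)) (a + (b + 1) + (m : ℤ) - 1) :=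
      ih (b + 1) _ _ _ (bdd_rest K a b hK) (bdd_rest L a b hL)
        (quasiIso_restMap_f K L φ a b hK hL hφ)
    have h3 : QuasiIso (HomologicalComplex₂.total.map (rowMap φ b) (ComplexShape.up ℤ)) :=
      quasiIso_total_rowMap K L φ b (hφ b)
    have hS₁ : (totSC (restι K a b hK) (rowProj K a b hK) (restι_rowProj K a b hK)).ShortExact :=
      tot_shortExact _ _ _ (rest_shortExact K a b hK) (hsplit_rest K a b hK)
    have hS₂ : (totSC (restι L a b hL) (rowProj L a b hL) (restι_rowProj L a b hL)).ShortExact :=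
      tot_shortExact _ _ _ (rest_shortExact L a b hL) (hsplit_rest L a b hL)
    have hN : a + b + ((m + 1 : ℕ) : ℤ) - 1 = a + (b + 1) + (m : ℤ) - 1 := by
      push_cast
      ring
    rw [hN]
    exact isoBelow_τ₂ (totSCMap _ _ (restι_rowProj K a b hK) _ _ (restι_rowProj L a b hL)
      (restMap K L φ a b hK hL) φ (rowMap φ b) (restMap_ι K L φ a b hK hL)
      (rowProj_naturality K L φ a b hK hL)) hS₁ hS₂ _ h1 h3

/-- rows quasi-isomorphisms ⇒ `Tot` quasi-isomorphism (uniformly bounded below double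
complexes) -/
theorem quasiIso_total_map_of_rows (a b : ℤ) (K L : Bi C) (φ : K ⟶ L) (hK : Bdd K a b)
    (hL : Bdd L a b) (hφ : ∀ q : ℤ, QuasiIso (φ.f q)) [K.HasTotal (ComplexShape.up ℤ)]
    [L.HasTotal (ComplexShape.up ℤ)] :
    QuasiIso (HomologicalComplex₂.total.map φ (ComplexShape.up ℤ)) := by
  rw [quasiIso_iff]
  intro n
  rw [quasiIsoAt_iff_isIso_homologyMap]
  obtain ⟨m, hm⟩ : ∃ m : ℕ, n < a + b + (m : ℤ) - 1 :=
    ⟨(n - a - b + 2).toNat, by
      have := Int.self_le_toNat (n - a - b + 2)
      omega⟩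
  exact (key a m b K L φ hK hL hφ).1 n hm

/-! ### Flipping -/

section Flip

variable (K L : Bi C) (φ : K ⟶ L)

/-- the flipped morphism -/
def flipMap : K.flip ⟶ L.flip :=
  (HomologicalComplex₂.flipFunctor C (ComplexShape.up ℤ) (ComplexShape.up ℤ)).map φ

theorem totalFlipIso_naturality [K.HasTotal (ComplexShape.up ℤ)]
    [L.HasTotal (ComplexShape.up ℤ)] :
    HomologicalComplex₂.total.map (flipMap K L φ) (ComplexShape.up ℤ) ≫
        (L.totalFlipIso (ComplexShape.up ℤ)).hom =
      (K.totalFlipIso (ComplexShape.up ℤ)).hom ≫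
        HomologicalComplex₂.total.map φ (ComplexShape.up ℤ) := by
  refine HomologicalComplex.hom_ext _ _ (fun n => ?_)
  apply HomologicalComplex₂.total.hom_ext (ComplexShape.up ℤ)
  intro q p h
  rw [HomologicalComplex.comp_f, HomologicalComplex.comp_f,
    HomologicalComplex₂.ιTotal_map_assoc, HomologicalComplex₂.ιTotal_totalFlipIso_f_hom,
    HomologicalComplex₂.ιTotal_totalFlipIso_f_hom_assoc, Linear.comp_units_smul,
    Linear.units_smul_comp, HomologicalComplex₂.ιTotal_map]
  rfl

theorem quasiIso_flipMap_f [QuasiIso φ] (q : ℤ) : QuasiIso ((flipMap K L φ).f q) :=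
  (inferInstance : QuasiIso
    (((HomologicalComplex.eval C (ComplexShape.up ℤ) q).mapHomologicalComplex
      (ComplexShape.up ℤ)).map φ))

/-- **`Tot` preserves quasi-isomorphisms** of uniformly bounded below double complexes -/
theorem main (a b : ℤ)
    (hK : ∀ p q : ℤ, p < a ∨ q < b → IsZero ((K.X p).X q))
    (hL : ∀ p q : ℤ, p < a ∨ q < b → IsZero ((L.X p).X q))
    [K.HasTotal (ComplexShape.up ℤ)] [L.HasTotal (ComplexShape.up ℤ)] [QuasiIso φ] :
    QuasiIso (HomologicalComplex₂.total.map φ (ComplexShape.up ℤ)) := by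
  have hK' : Bdd K.flip a b := fun q p h => hK p q h.symm
  have hL' : Bdd L.flip a b := fun q p h => hL p q h.symm
  haveI : QuasiIso (HomologicalComplex₂.total.map (flipMap K L φ) (ComplexShape.up ℤ)) :=
    quasiIso_total_map_of_rows a b K.flip L.flip (flipMap K L φ) hK' hL'
      (quasiIso_flipMap_f K L φ)
  have e : HomologicalComplex₂.total.map φ (ComplexShape.up ℤ) =
      (K.totalFlipIso (ComplexShape.up ℤ)).inv ≫
        HomologicalComplex₂.total.map (flipMap K L φ) (ComplexShape.up ℤ) ≫
          (L.totalFlipIso (ComplexShape.up ℤ)).hom := by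
    rw [totalFlipIso_naturality, Iso.inv_hom_id_assoc]
  rw [e]
  infer_instance

end Flip

end Groth.Agent.Lib.TotQisH7
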