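import Mathlib
import Groth.Prelude.Def_CechTot
import Groth.Agent.Lib.CechLeray_helper2
import Groth.Agent.Lib.AcycClass_helper7
import Groth.Agent.Lib.ExtendExact_helper7
import Groth.Agent.Lib.TotQis_helper7

/-!
# The total Čech complex and quasi-isomorphisms of complexes of Čech-acyclic sheaves (helper7)
-/

set_option backward.isDefEq.respectTransparency false
set_option backward.isDefEq.respectTransparency.types false
set_option linter.style.haveILetI false
set_option linter.unusedSectionVars false
set_option autoImplicit false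
universe u
open CategoryTheory CategoryTheory.Limits Opposite TopologicalSpace Abelian

namespace Groth.Agent.Lib.CechTotAH7

open Groth.Agent.Lib.Cech

variable {X : TopCat.{u}} {ι : Type u} (U : ι → Opens X)

/-- additivity of the Čech complex functor -/
instance additive_cech : (cechComplexFunctor (A := AddCommGrpCat.{u}) U).Additive where
  map_add {P Q f g} := by
    ext n x
    apply (cmp Q U n).injective
    rw [cmp_map]
    show _ = cmp Q U n ((((cechComplexFunctor U).map f).f n).hom x +
      (((cechComplexFunctor U).map g).f n).hom x)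
    rw [map_add, cmp_map, cmp_map]
    funext σ
    rfl

/-- the extended Čech complex functor on abelian sheaves -/
noncomputable abbrev T : CohTop.Ab X ⥤ CochainComplex AddCommGrpCat.{u} ℤ :=
  sheafToPresheaf (Opens.grothendieckTopology X) AddCommGrpCat.{u} ⋙ cechComplexFunctor U ⋙
    ComplexShape.embeddingUpNat.extendFunctor AddCommGrpCat.{u}

instance : (T U).Additive := by
  unfold T
  infer_instance

/-- sheaves acyclic on all finite intersections of the family -/
def Acy (F : CohTop.Ab X) : Prop :=
  ∀ (n : ℕ) (σ : Fin (n + 1) → ι) (q : ℕ) (ξ : Ext (fr (⨅ k, U (σ k))) F (q + 1)), ξ = 0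

theorem adapted : AcycClassH7.Adapted (T U) (Acy U) where
  zero F hF n σ q ξ := by
    haveI : Injective F := Injective.of_iso hF.isoZero.symm inferInstance
    exact Ext.eq_zero_of_injective ξ
  iso {A B} e hA n σ q ξ := by
    have h1 : (ξ.comp (Ext.mk₀ e.inv) (add_zero _)).comp (Ext.mk₀ e.hom) (add_zero _) = ξ := by
      rw [Ext.comp_assoc_of_third_deg_zero, Ext.mk₀_comp_mk₀, e.inv_hom_id, Ext.comp_mk₀_id]
    rw [← h1, hA n σ q (ξ.comp (Ext.mk₀ e.inv) (add_zero _)), Ext.zero_comp]
  ses S hS h₁ h₂ := by
    refine ⟨?_, fun n σ q ξ => ext_X₃_eq_zero _ hS q (h₂ n σ q) (h₁ n σ (q + 1)) ξ⟩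
    have hsurj : ∀ (n : ℕ) (σ : Fin (n + 1) → ι),
        Function.Surjective (S.g.hom.app (op (⨅ k, U (σ k)))).hom :=
      fun n σ => surjective_of_ext1 _ hS (h₁ n σ 0)
    exact ExtendExactH7.shortExact_extend ComplexShape.embeddingUpNat (cechSC U S)
      (cechSC_shortExact U S hS hsurj)
  biprod A B hA hB n σ q ξ := by
    have hS := (ShortComplex.Splitting.ofHasBinaryBiproduct A B).shortExact
    obtain ⟨x₁, hx₁⟩ := Ext.covariant_sequence_exact₂ _ hS ξ (hB n σ q _)
    rw [← hx₁, hA n σ q x₁, Ext.zero_comp]

open Groth.Agent.Lib.TotToolsH7 in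
theorem bdd (K : CochainComplex (CohTop.Ab X) ℤ) (a : ℤ) [K.IsStrictlyGE a] (p q : ℤ)
    (h : p < a ∨ q < 0) :
    IsZero (((((T U).mapHomologicalComplex (ComplexShape.up ℤ)).obj K).X p).X q) := by
  rcases h with h | h
  · have h1 : IsZero ((T U).obj (K.X p)) :=
      Functor.map_isZero (T U) (K.isZero_of_isStrictlyGE a p h)
    exact TotQisH7.isZero_X_of_isZero _ h1 q
  · refine HomologicalComplex.isZero_extend_X _ ComplexShape.embeddingUpNat q (fun i hi => ?_)
    have : ((i : ℕ) : ℤ) = q := hi
    omega

/-- **Step A**: the total Čech complex sends quasi-isomorphisms of bounded below complexes of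
sheaves acyclic on the finite intersections to quasi-isomorphisms -/
theorem quasiIso_total_map {K L : CochainComplex (CohTop.Ab X) ℤ} (i : K ⟶ L) [QuasiIso i]
    (a : ℤ) [K.IsStrictlyGE a] [L.IsStrictlyGE a] (hK : ∀ n, Acy U (K.X n))
    (hL : ∀ n, Acy U (L.X n)) :
    QuasiIso (HomologicalComplex₂.total.map
      (((T U).mapHomologicalComplex (ComplexShape.up ℤ)).map i) (ComplexShape.up ℤ)) := by
  haveI := AcycClassH7.quasiIso_map (adapted U) i a hK hL
  exact TotQisH7.main _ _ (((T U).mapHomologicalComplex (ComplexShape.up ℤ)).map i) a 0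
    (bdd U K a) (bdd U L a)

/-- the total complex of the statement -/
theorem tot_eq (K : CochainComplex (CohTop.Ab X) ℤ) :
    CechTot.tot U ((CechTot.presheafCx X).obj K) =
      HomologicalComplex₂.total (show HomologicalComplex₂ AddCommGrpCat.{u} (ComplexShape.up ℤ)
        (ComplexShape.up ℤ) from ((T U).mapHomologicalComplex (ComplexShape.up ℤ)).obj K)
        (ComplexShape.up ℤ) := rfl

end Groth.Agent.Lib.CechTotAH7
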