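import Mathlib

/-!
# Tools on total complexes of uniformly bounded double complexes (helper7)

Double complexes `K : HomologicalComplex₂ C (up ℤ) (up ℤ)` with outer index `q` and inner index `p`.

* `hasCoproduct_of_finite_support`, `hasTotal_of_bdd`: existence of totals from bounds;
* `tot_shortExact`: `Tot` of a short exact sequence of double complexes which is trivially split in
  each bidegree is short exact;
* `quasiIsoAt_total_map_of_row`: for double complexes concentrated in the outer degree `b`, `Tot` is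
  the row, shifted.
-/

set_option autoImplicit false
set_option backward.isDefEq.respectTransparency false
set_option backward.isDefEq.respectTransparency.types false
set_option linter.style.haveILetI false
set_option linter.unusedSectionVars false

open CategoryTheory CategoryTheory.Limits HomologicalComplex

namespace Groth.Agent.Lib.TotToolsH7

universe v u
variable {C : Type u} [Category.{v} C] [Abelian C]

/-- double complexes with both shapes `up ℤ` -/
abbrev Bi (C : Type u) [Category.{v} C] [Abelian C] :=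
  HomologicalComplex₂ C (ComplexShape.up ℤ) (ComplexShape.up ℤ)

/-! ### Coproducts of families with finite support -/

theorem hasCoproduct_of_finite_support {ι : Type*} (X : ι → C) (s : Finset ι)
    (hs : ∀ i, i ∉ s → IsZero (X i)) : HasCoproduct X := by
  classical
  haveI : HasFiniteBiproducts C := Abelian.hasFiniteBiproducts
  haveI : HasBiproductsOfShape ↥s C := hasBiproductsOfShape_finite C
  let inj : ∀ i, X i ⟶ ⨁ (fun j : s => X j.1) := fun i =>
    if h : i ∈ s then biproduct.ι (fun j : s => X j.1) ⟨i, h⟩ else 0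
  have hinj : ∀ (i : ι) (h : i ∈ s), inj i = biproduct.ι (fun j : s => X j.1) ⟨i, h⟩ :=
    fun i h => dif_pos h
  have hcol : IsColimit (Cofan.mk (⨁ (fun j : s => X j.1)) inj) := by
    refine Cofan.IsColimit.mk _ (fun c => biproduct.desc (fun j : s => c.inj j.1)) ?_ ?_
    · intro c i
      by_cases h : i ∈ s
      · show inj i ≫ _ = _
        rw [hinj i h, biproduct.ι_desc]
      · exact (hs i h).eq_of_src _ _
    · intro c m hm
      apply biproduct.hom_ext'
      intro j
      rw [biproduct.ι_desc, ← hm j.1]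
      show _ = inj j.1 ≫ m
      rw [hinj j.1 j.2]
  exact ⟨⟨⟨_, hcol⟩⟩⟩

/-! ### Bounds -/

/-- `K^{q,p} = 0` for `q < b` or `p < a` (outer index `q`, inner index `p`) -/
def Bdd (K : Bi C) (a b : ℤ) : Prop := ∀ q p : ℤ, (q < b ∨ p < a) → IsZero ((K.X q).X p)

theorem hasTotal_of_bdd (K : Bi C) (a b : ℤ) (hK : Bdd K a b) :
    K.HasTotal (ComplexShape.up ℤ) := by
  intro n
  classical
  let mk : ℤ → ↥((ComplexShape.π (ComplexShape.up ℤ) (ComplexShape.up ℤ) (ComplexShape.up ℤ)) ⁻¹'
      {n}) := fun q => ⟨(q, n - q), by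
    show q + (n - q) = n
    ring⟩
  refine hasCoproduct_of_finite_support _ ((Finset.Icc b (n - a)).image mk) ?_
  rintro ⟨⟨q, p⟩, hi⟩ hns
  have hqp : q + p = n := hi
  apply hK q p
  by_contra hcon
  rw [not_or, not_lt, not_lt] at hcon
  apply hns
  rw [Finset.mem_image]
  refine ⟨q, Finset.mem_Icc.2 ⟨hcon.1, by omega⟩, ?_⟩
  apply Subtype.ext
  show (q, n - q) = (q, p)
  rw [show n - q = p by omega]

/-! ### `Tot` of the zero map -/

theorem total_map_zero (K L : Bi C) [K.HasTotal (ComplexShape.up ℤ)]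
    [L.HasTotal (ComplexShape.up ℤ)] :
    HomologicalComplex₂.total.map (0 : K ⟶ L) (ComplexShape.up ℤ) = 0 := by
  refine HomologicalComplex.hom_ext _ _ (fun n => ?_)
  apply HomologicalComplex₂.total.hom_ext (ComplexShape.up ℤ)
  intro q p h
  rw [HomologicalComplex₂.ιTotal_map]
  show ((0 : K.X q ⟶ L.X q)).f p ≫ _ = _ ≫ (0 : _ ⟶ _)
  rw [HomologicalComplex.zero_f, zero_comp, comp_zero]

/-! ### `Tot` of a bidegreewise trivially split short exact sequence -/

section Split

variable {K₁ K₂ K₃ : Bi C} (i : K₁ ⟶ K₂) (ρ : K₂ ⟶ K₃) (w : i ≫ ρ = 0)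

theorem bidegree_shortExact (hS : (ShortComplex.mk i ρ w).ShortExact) (q p : ℤ) :
    (ShortComplex.mk ((i.f q).f p) ((ρ.f q).f p) (by
      rw [← HomologicalComplex.comp_f, ← HomologicalComplex.comp_f, w]
      rfl)).ShortExact := by
  have h1 := (HomologicalComplex.shortExact_iff_degreewise_shortExact _).1 hS q
  exact (HomologicalComplex.shortExact_iff_degreewise_shortExact _).1 h1 p

theorem exists_bidegree_splitting (hS : (ShortComplex.mk i ρ w).ShortExact)
    (hsplit : ∀ q p : ℤ, IsZero ((K₃.X q).X p) ∨ IsZero ((K₁.X q).X p)) (q p : ℤ) :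
    ∃ (r : (K₂.X q).X p ⟶ (K₁.X q).X p) (s : (K₃.X q).X p ⟶ (K₂.X q).X p),
      (i.f q).f p ≫ r = 𝟙 _ ∧ s ≫ (ρ.f q).f p = 𝟙 _ ∧
        r ≫ (i.f q).f p + (ρ.f q).f p ≫ s = 𝟙 _ := by
  have hT := bidegree_shortExact i ρ w hS q p
  haveI := hT.mono_f
  haveI := hT.epi_g
  rcases hsplit q p with h | h
  · haveI : Epi ((i.f q).f p) := hT.exact.epi_f (h.eq_of_tgt _ _)
    haveI : IsIso ((i.f q).f p) := isIso_of_mono_of_epi _
    refine ⟨inv ((i.f q).f p), 0, IsIso.hom_inv_id _, h.eq_of_src _ _, ?_⟩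
    rw [comp_zero, add_zero, IsIso.inv_hom_id]
  · haveI : Mono ((ρ.f q).f p) := hT.exact.mono_g (h.eq_of_src _ _)
    haveI : IsIso ((ρ.f q).f p) := isIso_of_mono_of_epi _
    refine ⟨0, inv ((ρ.f q).f p), h.eq_of_src _ _, IsIso.inv_hom_id _, ?_⟩
    rw [zero_comp, zero_add, IsIso.hom_inv_id]

variable [K₁.HasTotal (ComplexShape.up ℤ)] [K₂.HasTotal (ComplexShape.up ℤ)]
  [K₃.HasTotal (ComplexShape.up ℤ)]

theorem tot_shortExact (hS : (ShortComplex.mk i ρ w).ShortExact)
    (hsplit : ∀ q p : ℤ, IsZero ((K₃.X q).X p) ∨ IsZero ((K₁.X q).X p)) :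
    (ShortComplex.mk (HomologicalComplex₂.total.map i (ComplexShape.up ℤ))
      (HomologicalComplex₂.total.map ρ (ComplexShape.up ℤ)) (by
        rw [← HomologicalComplex₂.total.map_comp, w, total_map_zero])).ShortExact := by
  choose r s h1 h2 h3 using exists_bidegree_splitting i ρ w hS hsplit
  apply HomologicalComplex.shortExact_of_degreewise_shortExact
  intro n
  let R : (K₂.total (ComplexShape.up ℤ)).X n ⟶ (K₁.total (ComplexShape.up ℤ)).X n :=
    K₂.totalDesc (fun q p h => r q p ≫ K₁.ιTotal (ComplexShape.up ℤ) q p n h)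
  let Sg : (K₃.total (ComplexShape.up ℤ)).X n ⟶ (K₂.total (ComplexShape.up ℤ)).X n :=
    K₃.totalDesc (fun q p h => s q p ≫ K₂.ιTotal (ComplexShape.up ℤ) q p n h)
  have e1 : (HomologicalComplex₂.total.map i (ComplexShape.up ℤ)).f n ≫ R = 𝟙 _ := by
    apply HomologicalComplex₂.total.hom_ext (ComplexShape.up ℤ)
    intro q p h
    rw [HomologicalComplex₂.ιTotal_map_assoc, HomologicalComplex₂.ι_totalDesc,
      ← Category.assoc, h1 q p, Category.id_comp, Category.comp_id]
  have e2 : Sg ≫ (HomologicalComplex₂.total.map ρ (ComplexShape.up ℤ)).f n = 𝟙 _ := by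
    apply HomologicalComplex₂.total.hom_ext (ComplexShape.up ℤ)
    intro q p h
    rw [HomologicalComplex₂.ι_totalDesc_assoc, Category.assoc,
      HomologicalComplex₂.ιTotal_map, ← Category.assoc, h2 q p, Category.id_comp,
      Category.comp_id]
  have e3 : R ≫ (HomologicalComplex₂.total.map i (ComplexShape.up ℤ)).f n +
      (HomologicalComplex₂.total.map ρ (ComplexShape.up ℤ)).f n ≫ Sg = 𝟙 _ := by
    apply HomologicalComplex₂.total.hom_ext (ComplexShape.up ℤ)
    intro q p h
    rw [Preadditive.comp_add, HomologicalComplex₂.ι_totalDesc_assoc, Category.assoc,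
      HomologicalComplex₂.ιTotal_map, HomologicalComplex₂.ιTotal_map_assoc,
      HomologicalComplex₂.ι_totalDesc, ← Category.assoc, ← Category.assoc,
      ← Preadditive.add_comp, h3 q p, Category.id_comp, Category.comp_id]
  exact (ShortComplex.Splitting.mk R Sg e1 e2 e3).shortExact

end Split

/-! ### Double complexes concentrated in one outer degree -/

section Row

variable (M M' : Bi C) (ψ : M ⟶ M') (b : ℤ)
  [M.HasTotal (ComplexShape.up ℤ)] [M'.HasTotal (ComplexShape.up ℤ)]

/-- the inclusion of the row -/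
noncomputable abbrev θ (p : ℤ) : (M.X b).X p ⟶ (M.total (ComplexShape.up ℤ)).X (b + p) :=
  M.ιTotal (ComplexShape.up ℤ) b p (b + p) rfl

variable (hM : ∀ q : ℤ, q ≠ b → ∀ p : ℤ, IsZero ((M.X q).X p))
  (hM' : ∀ q : ℤ, q ≠ b → ∀ p : ℤ, IsZero ((M'.X q).X p))

include hM in
theorem isIso_θ (p : ℤ) : IsIso (θ M b p) := by
  classical
  let inv' : (M.total (ComplexShape.up ℤ)).X (b + p) ⟶ (M.X b).X p :=
    M.totalDesc (fun q p' (h : q + p' = b + p) =>
      if hq : q = b then
        (HomologicalComplex₂.XXIsoOfEq C _ _ M hq (by omega : p' = p)).hom else 0)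
  refine ⟨inv', ?_, ?_⟩
  · show M.ιTotal (ComplexShape.up ℤ) b p (b + p) rfl ≫ inv' = 𝟙 _
    rw [HomologicalComplex₂.ι_totalDesc, dif_pos rfl]
    rfl
  · apply HomologicalComplex₂.total.hom_ext (ComplexShape.up ℤ)
    intro q p' h
    rw [HomologicalComplex₂.ι_totalDesc_assoc, Category.comp_id]
    by_cases hq : q = b
    · rw [dif_pos hq]
      exact HomologicalComplex₂.XXIsoOfEq_hom_ιTotal M (ComplexShape.up ℤ) hq _ (b + p) rfl
    · exact (hM q hq p').eq_of_src _ _

include hM in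
theorem θ_d (p p' : ℤ) (hp : p + 1 = p') :
    θ M b p ≫ (M.total (ComplexShape.up ℤ)).d (b + p) (b + p') =
      (b.negOnePow : ℤˣ) • ((M.X b).d p p' ≫ θ M b p') := by
  subst hp
  rw [HomologicalComplex₂.total_d, Preadditive.comp_add, HomologicalComplex₂.ι_D₁,
    HomologicalComplex₂.ι_D₂]
  have hd1 : M.d₁ (ComplexShape.up ℤ) b p (b + (p + 1)) = 0 := by
    rw [HomologicalComplex₂.d₁_eq M (ComplexShape.up ℤ) (show (ComplexShape.up ℤ).Rel b (b + 1) from rfl)
      p (b + (p + 1)) (show b + 1 + p = b + (p + 1) by ring)]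
    have h0 : (M.d b (b + 1)).f p = 0 := (hM (b + 1) (by omega) p).eq_of_tgt _ _
    rw [h0, zero_comp, smul_zero]
  rw [hd1, zero_add]
  exact HomologicalComplex₂.d₂_eq M (ComplexShape.up ℤ) b
    (show (ComplexShape.up ℤ).Rel p (p + 1) from rfl) (b + (p + 1)) rfl

theorem θ_map (p : ℤ) :
    θ M b p ≫ (HomologicalComplex₂.total.map ψ (ComplexShape.up ℤ)).f (b + p) =
      (ψ.f b).f p ≫ θ M' b p :=
  HomologicalComplex₂.ιTotal_map M M' ψ (ComplexShape.up ℤ) b p (b + p) rfl

/-- the comparison of short complexes -/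
noncomputable def scIso (p₀ p₁ p₂ : ℤ) (h₀ : p₀ + 1 = p₁) (h₁ : p₁ + 1 = p₂) :
    (M.X b).sc' p₀ p₁ p₂ ≅ (M.total (ComplexShape.up ℤ)).sc' (b + p₀) (b + p₁) (b + p₂) := by
  haveI := isIso_θ M b hM p₀
  haveI := isIso_θ M b hM p₁
  haveI := isIso_θ M b hM p₂
  have hε : (b.negOnePow : ℤˣ) * b.negOnePow = 1 := Int.units_mul_self _
  refine ShortComplex.isoMk (asIso (θ M b p₀))
    { hom := (b.negOnePow : ℤˣ) • θ M b p₁
      inv := (b.negOnePow : ℤˣ) • inv (θ M b p₁)
      hom_inv_id := by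
        rw [Linear.units_smul_comp, Linear.comp_units_smul, smul_smul, hε, one_smul,
          IsIso.hom_inv_id]
      inv_hom_id := by
        rw [Linear.units_smul_comp, Linear.comp_units_smul, smul_smul, hε, one_smul,
          IsIso.inv_hom_id] }
    (asIso (θ M b p₂)) ?_ ?_
  · show θ M b p₀ ≫ (M.total (ComplexShape.up ℤ)).d (b + p₀) (b + p₁) =
      (M.X b).d p₀ p₁ ≫ ((b.negOnePow : ℤˣ) • θ M b p₁)
    rw [θ_d M b hM p₀ p₁ h₀, Linear.comp_units_smul]
  · show ((b.negOnePow : ℤˣ) • θ M b p₁) ≫ (M.total (ComplexShape.up ℤ)).d (b + p₁) (b + p₂) =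
      (M.X b).d p₁ p₂ ≫ θ M b p₂
    rw [Linear.units_smul_comp, θ_d M b hM p₁ p₂ h₁, smul_smul, hε, one_smul]

include hM hM' in
/-- for double complexes concentrated in the outer degree `b`, `Tot` computes the row -/
theorem quasiIsoAt_total_map_of_row (p : ℤ) (h : QuasiIsoAt (ψ.f b) p) :
    QuasiIsoAt (HomologicalComplex₂.total.map ψ (ComplexShape.up ℤ)) (b + p) := by
  rw [quasiIsoAt_iff' _ (b + (p - 1)) (b + p) (b + (p + 1)) (by simp; ring) (by simp; ring)]
  rw [quasiIsoAt_iff' _ (p - 1) p (p + 1) (by simp) (by simp)] at h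
  refine (ShortComplex.quasiIso_iff_of_arrow_mk_iso _ _ ?_).1 h
  refine Arrow.isoMk (scIso M b hM (p - 1) p (p + 1) (by ring) rfl)
    (scIso M' b hM' (p - 1) p (p + 1) (by ring) rfl) ?_
  apply ShortComplex.hom_ext
  · exact θ_map M M' ψ b (p - 1)
  · show ((b.negOnePow : ℤˣ) • θ M b p) ≫
      (HomologicalComplex₂.total.map ψ (ComplexShape.up ℤ)).f (b + p) =
        (ψ.f b).f p ≫ ((b.negOnePow : ℤˣ) • θ M' b p)
    rw [Linear.units_smul_comp, Linear.comp_units_smul, θ_map]
  · exact θ_map M M' ψ b (p + 1)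

end Row

end Groth.Agent.Lib.TotToolsH7
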