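import Mathlib
import Groth.Prelude.Def_CechTot
import Groth.Agent.Lib.CechLeray_helper2
import Groth.Agent.Lib.CechTotA_helper7
import Groth.Agent.Lib.HomConcrete_helper7
import Groth.Agent.Lib.TotTools_helper7

/-!
# The augmentation of the extended Čech complex functor (helper7)
-/

set_option backward.isDefEq.respectTransparency false
set_option backward.isDefEq.respectTransparency.types false
set_option linter.style.haveILetI false
set_option linter.unusedSectionVars false
set_option autoImplicit false
universe u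
open CategoryTheory CategoryTheory.Limits Opposite TopologicalSpace Abelian

namespace Groth.Agent.Lib.CechTotBH7

open Groth.Agent.Lib.Cech Groth.Agent.Lib.CechTotAH7

variable {X : TopCat.{u}} {ι : Type u} (U : ι → Opens X)

/-- the augmentation of the Čech complex, as a morphism of complexes indexed by `ℕ` -/
noncomputable def εN (P : (Opens X)ᵒᵖ ⥤ AddCommGrpCat.{u}) :
    (CochainComplex.single₀ AddCommGrpCat.{u}).obj (P.obj (op (iSup U))) ⟶
      (cechComplexFunctor U).obj P :=
  (CochainComplex.fromSingle₀Equiv _ _).symm ⟨εhom U P, εhom_d U P⟩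

lemma εN_f_zero (P : (Opens X)ᵒᵖ ⥤ AddCommGrpCat.{u}) : (εN U P).f 0 = εhom U P :=
  CochainComplex.fromSingle₀Equiv_symm_apply_f_zero _ _

lemma εhom_injective (F : CohTop.Ab X) : Function.Injective (εhom U F.obj).hom := by
  intro s t hst
  have h2 := congrArg (cmp F.obj U 0) hst
  rw [cmp_εhom, cmp_εhom] at h2
  exact aug_injective U F h2

theorem quasiIso_εN (F : CohTop.Ab X) [TopCat.Sheaf.IsFlasque F] : QuasiIso (εN U F.obj) := by
  rw [quasiIso_iff]
  intro n
  cases n with
  | zero =>
    rw [quasiIsoAt_iff_isIso_homologyMap]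
    apply (ConcreteCategory.isIso_iff_bijective _).2
    have hk : (ComplexShape.up ℕ).next 0 = 1 := CochainComplex.next ℕ 0
    constructor
    · refine (injective_iff_map_eq_zero
        (HomologicalComplex.homologyMap (εN U F.obj) 0).hom).2 (fun x hx => ?_)
      obtain ⟨z, rfl⟩ := HomConcreteH7.cls_surjective _ 0 1 hk x
      rw [HomConcreteH7.map_cls 0 1 hk (εN U F.obj) z] at hx
      have h0 : ((cechComplexFunctor U).obj F.obj).d 0 0 = 0 :=
        HomologicalComplex.shape _ _ _ (by simp)
      have h1 := HomConcreteH7.cls_eq_zero_of_d_eq_zero _ 0 1 hk 0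
        CochainComplex.prev_nat_zero h0 _ hx
      have h2 : ((εN U F.obj).f 0).hom z.1 = 0 := congrArg Subtype.val h1
      rw [εN_f_zero] at h2
      have h3 : z.1 = 0 := εhom_injective U F (h2.trans (map_zero _).symm)
      have h4 : z = 0 := Subtype.ext h3
      rw [h4, map_zero]
    · intro y
      obtain ⟨w, rfl⟩ := HomConcreteH7.cls_surjective _ 0 1 hk y
      have hw : D F.obj U 0 (cmp F.obj U 0 w.1) = 0 := by
        rw [← cmp_d]
        have h3 : (((cechComplexFunctor U).obj F.obj).d 0 1).hom w.1 = 0 :=
          AddMonoidHom.mem_ker.1 w.2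
        rw [h3, map_zero]
      obtain ⟨s, hs⟩ := exists_aug U F _ hw
      have hs' : (εhom U F.obj).hom s = w.1 := by
        apply (cmp F.obj U 0).injective
        rw [cmp_εhom, hs]
      have hz : s ∈ HomConcreteH7.Zc
          ((CochainComplex.single₀ AddCommGrpCat.{u}).obj (F.obj.obj (op (iSup U)))) 0 1 := by
        apply AddMonoidHom.mem_ker.2
        have hd : ((CochainComplex.single₀ AddCommGrpCat.{u}).obj
            (F.obj.obj (op (iSup U)))).d 0 1 = 0 := HomologicalComplex.single_obj_d _ _ _ _ _
        rw [hd]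
        rfl
      refine ⟨HomConcreteH7.cls _ 0 1 hk ⟨s, hz⟩, ?_⟩
      rw [HomConcreteH7.map_cls 0 1 hk (εN U F.obj) ⟨s, hz⟩]
      congr 1
      apply Subtype.ext
      show ((εN U F.obj).f 0).hom s = w.1
      rw [εN_f_zero]
      exact hs'
  | succ p =>
    rw [quasiIsoAt_iff_exactAt _ _ (CochainComplex.exactAt_succ_single_obj _ p)]
    rw [HomologicalComplex.exactAt_iff_isZero_homology]
    exact isZero_cechH_of_surjHyp (surjHyp_of_isFlasque F U) p

/-- the augmentation of the extended Čech complex -/
noncomputable def ε (F : CohTop.Ab X) :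
    (HomologicalComplex.single AddCommGrpCat.{u} (ComplexShape.up ℤ) 0).obj
      (F.obj.obj (op (iSup U))) ⟶ (T U).obj F :=
  (HomologicalComplex.extendSingleIso ComplexShape.embeddingUpNat _ 0 0 (by simp)).inv ≫
    (ComplexShape.embeddingUpNat.extendFunctor AddCommGrpCat.{u}).map (εN U F.obj)

lemma ε_f_zero (F : CohTop.Ab X) :
    (ε U F).f 0 = (HomologicalComplex.singleObjXSelf (ComplexShape.up ℤ) 0 _).hom ≫
      εhom U F.obj ≫ (HomologicalComplex.extendXIso ((cechComplexFunctor U).obj F.obj)
        ComplexShape.embeddingUpNat (i := 0) (i' := 0) (by simp)).inv := by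
  show (HomologicalComplex.extendSingleIso ComplexShape.embeddingUpNat _ 0 0 (by simp)).inv.f 0 ≫
    (HomologicalComplex.extendMap (εN U F.obj) ComplexShape.embeddingUpNat).f 0 = _
  rw [HomologicalComplex.extendMap_f _ _ (i := 0) (by simp),
    HomologicalComplex.extendSingleIso_inv_f, εN_f_zero]
  simp only [Category.assoc, Iso.inv_hom_id_assoc]
  rfl

instance quasiIso_ε (F : CohTop.Ab X) [TopCat.Sheaf.IsFlasque F] : QuasiIso (ε U F) := by
  haveI := quasiIso_εN U F
  show QuasiIso ((HomologicalComplex.extendSingleIso ComplexShape.embeddingUpNat _ 0 0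
    (by simp)).inv ≫ HomologicalComplex.extendMap (εN U F.obj) ComplexShape.embeddingUpNat)
  infer_instance

/-! ### The augmentation as a natural transformation -/

/-- sections over the union -/
noncomputable abbrev ΓV : CohTop.Ab X ⥤ AddCommGrpCat.{u} :=
  sheafToPresheaf (Opens.grothendieckTopology X) AddCommGrpCat.{u} ⋙
    (evaluation _ _).obj (op (iSup U))

/-- sections over the union, as a complex concentrated in degree `0` -/
noncomputable abbrev S₀ : CohTop.Ab X ⥤ CochainComplex AddCommGrpCat.{u} ℤ :=
  ΓV U ⋙ HomologicalComplex.single AddCommGrpCat.{u} (ComplexShape.up ℤ) 0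

instance : (S₀ U).Additive := by
  unfold S₀ ΓV
  infer_instance

/-- the augmentation -/
noncomputable def εT : S₀ U ⟶ T U where
  app F := ε U F
  naturality F G g := by
    apply HomologicalComplex.from_single_hom_ext
    show ((HomologicalComplex.single AddCommGrpCat.{u} (ComplexShape.up ℤ) 0).map
        (g.hom.app (op (iSup U)))).f 0 ≫ (ε U G).f 0 =
      (ε U F).f 0 ≫ (HomologicalComplex.extendMap ((cechComplexFunctor U).map g.hom)
        ComplexShape.embeddingUpNat).f 0
    rw [ε_f_zero, ε_f_zero, HomologicalComplex.single_map_f_self,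
      HomologicalComplex.extendMap_f _ _ (i := 0) (i' := 0) (by simp)]
    simp only [Category.assoc, Iso.inv_hom_id_assoc]
    have h := εhom_map U g.hom
    rw [← Category.assoc (εhom U F.obj), h, Category.assoc]

/-! ### A double complex concentrated in inner degree `0` -/

section SingleCol

open Groth.Agent.Lib.TotToolsH7

variable {𝒞 : Type*} [Category 𝒞] [Abelian 𝒞] (C : CochainComplex 𝒞 ℤ)

/-- the double complex with `C` in inner degree `0` -/
noncomputable abbrev colM : Bi 𝒞 :=
  ((HomologicalComplex.single 𝒞 (ComplexShape.up ℤ) 0).mapHomologicalComplex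
    (ComplexShape.up ℤ)).obj C

/-- the row `0` of the flip of `colM C` is `C` -/
noncomputable def flipRowIso : (colM C).flip.X 0 ≅ C :=
  HomologicalComplex.Hom.isoOfComponents
    (fun q => HomologicalComplex.singleObjXSelf (ComplexShape.up ℤ) 0 (C.X q))
    (fun q q' _ => by
      show (HomologicalComplex.singleObjXSelf (ComplexShape.up ℤ) 0 (C.X q)).hom ≫ C.d q q' =
        ((HomologicalComplex.single 𝒞 (ComplexShape.up ℤ) 0).map (C.d q q')).f 0 ≫
          (HomologicalComplex.singleObjXSelf (ComplexShape.up ℤ) 0 (C.X q')).hom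
      rw [HomologicalComplex.single_map_f_self, Category.assoc, Category.assoc, Iso.inv_hom_id,
        Category.comp_id])

theorem isZero_flip (p : ℤ) (hp : p ≠ 0) (q : ℤ) : IsZero (((colM C).flip.X p).X q) :=
  HomologicalComplex.isZero_single_obj_X (ComplexShape.up ℤ) 0 _ p hp

theorem nonempty_homology_iso [(colM C).HasTotal (ComplexShape.up ℤ)] (n : ℤ) :
    Nonempty (((colM C).total (ComplexShape.up ℤ)).homology n ≅ C.homology n) := by
  have hN : ∀ p : ℤ, p ≠ 0 → ∀ q, IsZero ((((colM C).flip).X p).X q) :=
    fun p hp q => isZero_flip C p hp q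
  have e1 := scIso (colM C).flip 0 hN (n - 1) n (n + 1) (by ring) rfl
  have e2 : ((colM C).flip.X 0).homology n ≅
      ((colM C).flip.total (ComplexShape.up ℤ)).homology (0 + n) :=
    (HomologicalComplex.homologyIsoSc' ((colM C).flip.X 0) (n - 1) n (n + 1) (by simp)
      (by simp)) ≪≫ ShortComplex.homologyMapIso e1 ≪≫
      (HomologicalComplex.homologyIsoSc' ((colM C).flip.total (ComplexShape.up ℤ))
        (0 + (n - 1)) (0 + n) (0 + (n + 1)) (by simp) (by simp)).symm
  rw [zero_add] at e2
  have e3 : ((colM C).flip.total (ComplexShape.up ℤ)).homology n ≅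
      ((colM C).total (ComplexShape.up ℤ)).homology n :=
    (HomologicalComplex.homologyFunctor _ _ n).mapIso ((colM C).totalFlipIso (ComplexShape.up ℤ))
  have e4 : ((colM C).flip.X 0).homology n ≅ C.homology n :=
    (HomologicalComplex.homologyFunctor _ _ n).mapIso (flipRowIso C)
  exact ⟨e3.symm ≪≫ e2.symm ≪≫ e4⟩

end SingleCol

/-! ### Step B -/

open Groth.Agent.Lib.TotToolsH7

/-- the morphism of double complexes induced by the augmentation -/
noncomputable abbrev φB (I : CochainComplex (CohTop.Ab X) ℤ) :
    ((S₀ U).mapHomologicalComplex (ComplexShape.up ℤ)).obj I ⟶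
      ((T U).mapHomologicalComplex (ComplexShape.up ℤ)).obj I :=
  (NatTrans.mapHomologicalComplex (εT U) (ComplexShape.up ℤ)).app I

theorem bddS (I : CochainComplex (CohTop.Ab X) ℤ) (a : ℤ) [I.IsStrictlyGE a] :
    Bdd (((S₀ U).mapHomologicalComplex (ComplexShape.up ℤ)).obj I) 0 a := by
  intro q p h
  rcases h with h | h
  · have h1 : IsZero ((S₀ U).obj (I.X q)) :=
      Functor.map_isZero (S₀ U) (I.isZero_of_isStrictlyGE a q h)
    exact TotQisH7.isZero_X_of_isZero _ h1 p
  · exact HomologicalComplex.isZero_single_obj_X (ComplexShape.up ℤ) 0 _ p (by omega)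

theorem quasiIso_total_φB (I : CochainComplex (CohTop.Ab X) ℤ) (a : ℤ) [I.IsStrictlyGE a]
    [∀ n, Injective (I.X n)] :
    QuasiIso (HomologicalComplex₂.total.map (φB U I) (ComplexShape.up ℤ)) := by
  refine TotQisH7.quasiIso_total_map_of_rows 0 a _ _ (φB U I) (bddS U I a)
    (fun q p h => CechTotAH7.bdd U I a q p h) (fun q => ?_)
  haveI := FlasqueAcyclic.isFlasque_of_injective (I.X q)
  exact quasiIso_ε U (I.X q)

/-- **Step B**: for a bounded below complex of injective sheaves, the total Čech complex computes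
the cohomology of the complex of sections over the union -/
theorem nonempty_iso_B (I : CochainComplex (CohTop.Ab X) ℤ) (a : ℤ) [I.IsStrictlyGE a]
    [∀ n, Injective (I.X n)] (n : ℤ) :
    Nonempty ((HomologicalComplex₂.total (show Bi AddCommGrpCat.{u} from
        ((T U).mapHomologicalComplex (ComplexShape.up ℤ)).obj I) (ComplexShape.up ℤ)).homology n ≅
      (((ΓV U).mapHomologicalComplex (ComplexShape.up ℤ)).obj I).homology n) := by
  haveI := quasiIso_total_φB U I a
  haveI : IsIso (HomologicalComplex.homologyMap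
      (HomologicalComplex₂.total.map (φB U I) (ComplexShape.up ℤ)) n) :=
    (quasiIsoAt_iff_isIso_homologyMap _ n).1 inferInstance
  have e5 := asIso (HomologicalComplex.homologyMap
      (HomologicalComplex₂.total.map (φB U I) (ComplexShape.up ℤ)) n)
  obtain ⟨e6⟩ := nonempty_homology_iso (((ΓV U).mapHomologicalComplex (ComplexShape.up ℤ)).obj I) n
  exact ⟨e5.symm ≪≫ e6⟩

end Groth.Agent.Lib.CechTotBH7
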