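import Mathlib
import Groth.Prelude.Def_CechTot
import Groth.Agent.Lib.CechTotA_helper7
import Groth.Agent.Lib.CechTotB_helper7
import Groth.Agent.Lib.CechHypMain_helper7

/-!
# Čech hypercohomology of an acyclic cover computes hypercohomology (helper7)
-/

set_option backward.isDefEq.respectTransparency false
set_option backward.isDefEq.respectTransparency.types false
set_option linter.style.haveILetI false
set_option linter.unusedSectionVars false
set_option autoImplicit false
universe u
open CategoryTheory CategoryTheory.Limits Opposite TopologicalSpace Abelian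

namespace Groth.Agent.Lib.CechTotMainH7

open Groth.Agent.Lib.Cech Groth.Agent.Lib.CechTotAH7 Groth.Agent.Lib.CechTotBH7
  Groth.Agent.Lib.KInjSect_helper7

theorem main {X : TopCat.{u}} [HasDerivedCategory.{u} (CohTop.Ab X)] {ι : Type u}
    (U : ι → Opens X) (V : Opens X) (hV : iSup U = V) (K : CochainComplex (CohTop.Ab X) ℤ) (a : ℤ)
    (ha : ∀ i : ℤ, i < a → IsZero (K.X i))
    (h : ∀ (p : ℕ) (c : Fin (p + 1) → ι) (i : ℤ) (q : ℕ),
      Subsingleton (CohTop.HU (K.X i) (q + 1) (iInf fun k => U (c k)))) (n : ℤ) :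
    Nonempty (↑(CechTot.hyperH U ((CechTot.presheafCx X).obj K) n) ≃+
      CohCx.HDU (DerivedCategory.Q.obj K) n V) := by
  subst hV
  haveI : K.IsStrictlyGE a := (CochainComplex.isStrictlyGE_iff K a).2 (fun i hi => ha i hi)
  obtain ⟨L, i, hi, hinj, hL⟩ :=
    CochainComplex.Plus.modelCategoryQuillen.exists_quasiIso_injective K a
  haveI := hi
  haveI := hinj
  haveI := hL
  haveI : L.IsKInjective := CochainComplex.isKInjective_of_injective L a
  have hKa : ∀ m, Acy U (K.X m) := fun m n σ q ξ => (h n σ m q).elim ξ 0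
  have hLa : ∀ m, Acy U (L.X m) := fun m n σ q ξ => Ext.eq_zero_of_injective ξ
  haveI := quasiIso_total_map U i a hKa hLa
  haveI : IsIso (HomologicalComplex.homologyMap (HomologicalComplex₂.total.map
      (((T U).mapHomologicalComplex (ComplexShape.up ℤ)).map i) (ComplexShape.up ℤ)) n) :=
    (quasiIsoAt_iff_isIso_homologyMap _ n).1 inferInstance
  have eA := asIso (HomologicalComplex.homologyMap (HomologicalComplex₂.total.map
      (((T U).mapHomologicalComplex (ComplexShape.up ℤ)).map i) (ComplexShape.up ℤ)) n)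
  obtain ⟨eB⟩ := nonempty_iso_B U L a n
  let e : DerivedCategory.Q.obj K ≅ DerivedCategory.Q.obj L := asIso (DerivedCategory.Q.map i)
  have eC : CohCx.HDU (DerivedCategory.Q.obj K) n (iSup U) ≃+ (CU L (iSup U)).homology n :=
    CechHypMainH7.eV L (DerivedCategory.Q.obj K) e n (iSup U)
  have eAB : (CechTot.hyperH U ((CechTot.presheafCx X).obj K) n) ≅
      (CU L (iSup U)).homology n := eA ≪≫ eB
  exact ⟨eAB.addCommGroupIsoToAddEquiv.trans eC.symm⟩

end Groth.Agent.Lib.CechTotMainH7
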