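import Mathlib

set_option autoImplicit false
set_option linter.style.haveILetI false
set_option linter.unusedSectionVars false

universe u

open CategoryTheory Opposite Simplicial SSet MonoidalCategory

namespace Groth.Agent.Lib.CoskTrivFibH4

variable {U V : SSet.{u}} (f : V ⟶ U) (n : ℕ)

lemma mem_boundary_of_lt {m : ℕ} {c : SimplexCategory} (hc : c.len < m)
    (x : (Δ[m] : SSet.{u}).obj (op c)) :
    x ∈ (∂Δ[m] : (Δ[m] : SSet.{u}).Subcomplex).obj (op c) := by
  show ¬ Function.Surjective (stdSimplex.asOrderHom x)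
  intro hs
  have h1 := Fintype.card_le_of_surjective _ hs
  simp only [Fintype.card_fin] at h1
  have h2 : (op c).unop.len = c.len := rfl
  omega

lemma δ_mem_boundary {m : ℕ} (i : Fin (m + 2)) :
    (stdSimplex.objEquiv.symm (SimplexCategory.δ i) : (Δ[m + 1] : SSet.{u}).obj (op ⦋m⦌)) ∈
      (∂Δ[m + 1] : (Δ[m + 1] : SSet.{u}).Subcomplex).obj (op ⦋m⦌) := by
  show ¬ Function.Surjective (stdSimplex.asOrderHom _)
  intro hs
  obtain ⟨j, hj⟩ := hs i
  exact Fin.succAbove_ne i j hj

/-- Maps out of `∂Δ[m]`, `m ≤ n`, are determined by their composite with `f`. -/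
lemma boundary_hom_ext (hinj : ∀ i, i < n → Function.Injective (f.app (op ⦋i⦌))) (m : ℕ)
    (hm : m ≤ n) (a b : ((∂Δ[m] : (Δ[m] : SSet.{u}).Subcomplex) : SSet.{u}) ⟶ V)
    (hab : a ≫ f = b ≫ f) : a = b := by
  ext c x
  induction c using Opposite.rec with | _ c =>
  induction c using SimplexCategory.rec with | _ k =>
  cases m with
  | zero =>
    exfalso
    apply x.2
    intro y
    refine ⟨0, ?_⟩
    apply Fin.ext
    have h1 : (((stdSimplex.asOrderHom x.1) 0 : Fin _) : ℕ) < 0 + 1 :=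
      ((stdSimplex.asOrderHom x.1) 0).isLt
    have h2 : (y : ℕ) < 0 + 1 := y.isLt
    omega
  | succ m' =>
    obtain ⟨i, θ', hθ'⟩ :=
      SimplexCategory.eq_comp_δ_of_not_surjective (stdSimplex.objEquiv x.1) x.2
    obtain ⟨d, hd⟩ : ∃ d : ((∂Δ[m' + 1] : (Δ[m' + 1] : SSet.{u}).Subcomplex) : SSet.{u}).obj
        (op ⦋m'⦌), d.1 = stdSimplex.objEquiv.symm (SimplexCategory.δ i) :=
      ⟨⟨_, δ_mem_boundary i⟩, rfl⟩
    have hx : x = ((∂Δ[m' + 1] : (Δ[m' + 1] : SSet.{u}).Subcomplex) : SSet.{u}).map θ'.op d := by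
      apply Subtype.ext
      apply stdSimplex.objEquiv.injective
      show stdSimplex.objEquiv x.1 = θ' ≫ stdSimplex.objEquiv d.1
      rw [hθ', hd, Equiv.apply_symm_apply]
    have hd' : a.app _ d = b.app _ d := by
      apply hinj m' (by omega)
      exact congrArg (fun g => g.app (op ⦋m'⦌) d) hab
    rw [hx]
    have ea := NatTrans.naturality_apply a θ'.op d
    have eb := NatTrans.naturality_apply b θ'.op d
    rw [hd'] at ea
    exact ea.trans eb.symm

/-- The truncated lift for `m > n`. -/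
noncomputable def βt {m : ℕ} (hmn : n < m)
    (t : ((∂Δ[m] : (Δ[m] : SSet.{u}).Subcomplex) : SSet.{u}) ⟶ V) :
    (SimplexCategory.Truncated.inclusion n).op ⋙ (Δ[m] : SSet.{u}) ⟶
      (SimplexCategory.Truncated.inclusion n).op ⋙ V where
  app c := TypeCat.ofHom (fun (x : (Δ[m] : SSet.{u}).obj (op c.unop.obj)) =>
    t.app (op c.unop.obj) ⟨x, mem_boundary_of_lt (lt_of_le_of_lt c.unop.property hmn) x⟩)
  naturality c c' θ := by
    ext x
    exact NatTrans.naturality_apply t θ.unop.hom.op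
      ⟨x, mem_boundary_of_lt (lt_of_le_of_lt c.unop.property hmn) x⟩

theorem main6782 (h1 : ∀ i : ℕ, i < n → Function.Bijective (f.app (op ⦋i⦌)))
    (h2 : Function.Surjective (f.app (op ⦋n⦌)))
    [SimplicialObject.IsCoskeletal U n] [SimplicialObject.IsCoskeletal V n] :
    SSet.modelCategoryQuillen.I.rlp f := by
  intro A B i hi
  obtain ⟨m⟩ := hi
  constructor
  intro t b sq
  by_cases hm : m ≤ n
  · have hsurj : Function.Surjective (f.app (op ⦋m⦌)) := by
      rcases Nat.lt_or_eq_of_le hm with hlt | rfl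
      · exact (h1 m hlt).2
      · exact h2
    obtain ⟨v, hv⟩ := hsurj (yonedaEquiv b)
    have hl : yonedaEquiv.symm v ≫ f = b := by
      rw [SSet.yonedaEquiv_symm_comp, hv, Equiv.symm_apply_apply]
    exact CommSq.HasLift.mk' ⟨yonedaEquiv.symm v,
      boundary_hom_ext f n (fun i hi => (h1 i hi).1) m hm _ _
        (by rw [Category.assoc, hl, sq.w]), hl⟩
  · have hmn : n < m := by omega
    obtain ⟨l, hl⟩ : ∃ l : (Δ[m] : SSet.{u}) ⟶ V, ∀ c : (SimplexCategory.Truncated n)ᵒᵖ,
        l.app ((SimplexCategory.Truncated.inclusion n).op.obj c) = (βt n hmn t).app c := by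
      refine ⟨V.liftOfIsRightKanExtension (𝟙 ((SimplexCategory.Truncated.inclusion n).op ⋙ V))
        (Δ[m] : SSet.{u}) (βt n hmn t), fun c => ?_⟩
      have e := V.liftOfIsRightKanExtension_fac_app
        (𝟙 ((SimplexCategory.Truncated.inclusion n).op ⋙ V)) (Δ[m] : SSet.{u}) (βt n hmn t) c
      rw [NatTrans.id_app, Category.comp_id] at e
      exact e
    have key1 : ∀ (c : (SimplexCategory.Truncated n)ᵒᵖ)
        (y : ((∂Δ[m] : (Δ[m] : SSet.{u}).Subcomplex) : SSet.{u}).obj
          ((SimplexCategory.Truncated.inclusion n).op.obj c)),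
        l.app _ ((∂Δ[m] : (Δ[m] : SSet.{u}).Subcomplex).ι.app _ y) = t.app _ y := by
      intro c y
      rw [hl]
      rfl
    have key2 : ∀ (c : (SimplexCategory.Truncated n)ᵒᵖ)
        (x : (Δ[m] : SSet.{u}).obj ((SimplexCategory.Truncated.inclusion n).op.obj c)),
        f.app _ (l.app _ x) = b.app _ x := by
      intro c x
      rw [hl]
      exact congrArg (fun g => g.app ((SimplexCategory.Truncated.inclusion n).op.obj c)
        ⟨x, mem_boundary_of_lt (lt_of_le_of_lt c.unop.property hmn) x⟩) sq.w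
    refine CommSq.HasLift.mk' ⟨l, ?_, ?_⟩
    · apply V.hom_ext_of_isRightKanExtension
        (𝟙 ((SimplexCategory.Truncated.inclusion n).op ⋙ V))
      ext c y
      exact key1 c y
    · apply U.hom_ext_of_isRightKanExtension
        (𝟙 ((SimplexCategory.Truncated.inclusion n).op ⋙ U))
      ext c x
      exact key2 c x

end Groth.Agent.Lib.CoskTrivFibH4
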