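import Mathlib
import Groth.Agent.Lib.CoskTrivFib_helper4

set_option autoImplicit false
set_option linter.style.haveILetI false
set_option linter.unusedSectionVars false

universe u

open CategoryTheory CategoryTheory.Limits Opposite Simplicial SSet

namespace Groth.Agent.Lib.CechTrivFibH4

open Groth.Agent.Lib.CoskTrivFibH4

variable {A B : Type u} (f : A ⟶ B)

/-- The Čech nerve as a simplicial set. -/
noncomputable abbrev CN : SSet.{u} := (Arrow.mk f).cechNerve

/-- The `i`-th component. -/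
noncomputable def pi (c : SimplexCategoryᵒᵖ) (i : Fin (c.unop.len + 1)) : (CN f).obj c ⟶ A :=
  WidePullback.π (B := B) (objs := fun _ : Fin (c.unop.len + 1) => A) (fun _ => f) i

/-- The base component. -/
noncomputable def bs (c : SimplexCategoryᵒᵖ) : (CN f).obj c ⟶ B :=
  WidePullback.base (B := B) (objs := fun _ : Fin (c.unop.len + 1) => A) (fun _ => f)

theorem pi_f (c : SimplexCategoryᵒᵖ) (i : Fin (c.unop.len + 1)) : pi f c i ≫ f = bs f c :=
  WidePullback.π_arrow _ i

theorem map_pi {c c' : SimplexCategoryᵒᵖ} (θ : c ⟶ c') (i : Fin (c'.unop.len + 1)) :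
    (CN f).map θ ≫ pi f c' i = pi f c (θ.unop.toOrderHom i) :=
  WidePullback.lift_π _ _ _ _ i

theorem pi_f_apply (c : SimplexCategoryᵒᵖ) (i : Fin (c.unop.len + 1)) (x : (CN f).obj c) :
    f (pi f c i x) = bs f c x :=
  ConcreteCategory.congr_hom (pi_f f c i) x

theorem map_pi_apply {c c' : SimplexCategoryᵒᵖ} (θ : c ⟶ c') (i : Fin (c'.unop.len + 1))
    (x : (CN f).obj c) :
    pi f c' i ((CN f).map θ x) = pi f c (θ.unop.toOrderHom i) x :=
  ConcreteCategory.congr_hom (map_pi f θ i) x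

theorem cn_ext (c : SimplexCategoryᵒᵖ) (x y : (CN f).obj c)
    (h : ∀ i, pi f c i x = pi f c i y) : x = y := by
  have hb : bs f c x = bs f c y := by
    rw [← pi_f_apply f c 0 x, ← pi_f_apply f c 0 y, h 0]
  have key : (TypeCat.ofHom (fun _ : PUnit.{u + 1} => x) : PUnit.{u + 1} ⟶ (CN f).obj c) =
      TypeCat.ofHom (fun _ : PUnit.{u + 1} => y) := by
    refine WidePullback.hom_ext (fun _ => f) _ _ (fun i => ?_) ?_
    · exact ConcreteCategory.hom_ext _ _ (fun _ => h i)
    · exact ConcreteCategory.hom_ext _ _ (fun _ => hb)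
  exact ConcreteCategory.congr_hom key PUnit.unit

theorem cn_exists (n : ℕ) (a : Fin (n + 1) → A) (b₀ : B) (h : ∀ i, f (a i) = b₀) :
    ∃ v : (CN f).obj (op ⦋n⦌), (∀ i, pi f (op ⦋n⦌) i v = a i) ∧ bs f (op ⦋n⦌) v = b₀ := by
  let g : PUnit.{u + 1} ⟶ (CN f).obj (op ⦋n⦌) :=
    WidePullback.lift (B := B) (objs := fun _ : Fin (n + 1) => A) (arrows := fun _ => f)
      (TypeCat.ofHom fun _ => b₀) (fun i => TypeCat.ofHom fun _ => a i)
      (fun i => ConcreteCategory.hom_ext _ _ fun _ => h i)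
  refine ⟨g PUnit.unit, fun i => ?_, ?_⟩
  · exact ConcreteCategory.congr_hom
      (WidePullback.lift_π (B := B) (objs := fun _ : Fin (n + 1) => A) (arrows := fun _ => f)
        (TypeCat.ofHom fun _ => b₀) (fun i => TypeCat.ofHom fun _ => a i)
        (fun i => ConcreteCategory.hom_ext _ _ fun _ => h i) i) PUnit.unit
  · exact ConcreteCategory.congr_hom
      (WidePullback.lift_base (B := B) (objs := fun _ : Fin (n + 1) => A) (arrows := fun _ => f)
        (TypeCat.ofHom fun _ => b₀) (fun i => TypeCat.ofHom fun _ => a i)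
        (fun i => ConcreteCategory.hom_ext _ _ fun _ => h i)) PUnit.unit

theorem const_nat (m : ℕ) (b : (Δ[m] : SSet.{u}) ⟶ (SimplicialObject.const (Type u)).obj B)
    (c : SimplexCategoryᵒᵖ) (y : (Δ[m] : SSet.{u}).obj c) :
    b.app c y = yonedaEquiv b := by
  have e : (Δ[m] : SSet.{u}).map (stdSimplex.objEquiv y).op
      (stdSimplex.objEquiv.symm (𝟙 ⦋m⦌) : (Δ[m] : SSet.{u}).obj (op ⦋m⦌)) = y := by
    apply stdSimplex.objEquiv.injective
    show stdSimplex.objEquiv y ≫ stdSimplex.objEquiv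
      (stdSimplex.objEquiv.symm (𝟙 ⦋m⦌) : (Δ[m] : SSet.{u}).obj (op ⦋m⦌)) = _
    rw [Equiv.apply_symm_apply, Category.comp_id]
  have h := NatTrans.naturality_apply b (stdSimplex.objEquiv y).op
    (stdSimplex.objEquiv.symm (𝟙 ⦋m⦌) : (Δ[m] : SSet.{u}).obj (op ⦋m⦌))
  rw [e] at h
  exact h

theorem main6783 (hf : Function.Surjective f) :
    SSet.modelCategoryQuillen.I.rlp (Arrow.mk f).augmentedCechNerve.hom := by
  intro X Y i hi
  obtain ⟨m⟩ := hi
  constructor
  intro t b sq
  have hbs : ∀ (c : SimplexCategoryᵒᵖ)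
      (x : ((∂Δ[m] : (Δ[m] : SSet.{u}).Subcomplex) : SSet.{u}).obj c),
      bs f c (t.app c x) = yonedaEquiv b := by
    intro c x
    have h1 := congrArg (fun g => g.app c x) sq.w
    exact h1.trans (const_nat m b c x.1)
  obtain ⟨v, hv1, hv2⟩ : ∃ v : (CN f).obj (op ⦋m⦌),
      (∀ (c : SimplexCategoryᵒᵖ)
        (x : ((∂Δ[m] : (Δ[m] : SSet.{u}).Subcomplex) : SSet.{u}).obj c)
        (j : Fin (c.unop.len + 1)),
        pi f c j (t.app c x) =
          pi f (op ⦋m⦌) ((stdSimplex.objEquiv x.1).toOrderHom j) v) ∧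
      bs f (op ⦋m⦌) v = yonedaEquiv b := by
    cases m with
    | zero =>
      obtain ⟨a₀, ha₀⟩ := hf (yonedaEquiv b)
      obtain ⟨v, _, hv⟩ := cn_exists f 0 (fun _ => a₀) (yonedaEquiv b) (fun _ => ha₀)
      refine ⟨v, ?_, hv⟩
      intro c x j
      exfalso
      apply x.2
      intro y
      refine ⟨0, Fin.ext ?_⟩
      have h1 : (((stdSimplex.asOrderHom x.1) 0 : Fin _) : ℕ) < 0 + 1 :=
        ((stdSimplex.asOrderHom x.1) 0).isLt
      have h2 : (y : ℕ) < 0 + 1 := y.isLt
      omega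
    | succ m' =>
      let vtx : Fin (m' + 2) →
          ((∂Δ[m' + 1] : (Δ[m' + 1] : SSet.{u}).Subcomplex) : SSet.{u}).obj (op ⦋0⦌) := fun k =>
        ⟨stdSimplex.objEquiv.symm (SimplexCategory.const ⦋0⦌ ⦋m' + 1⦌ k),
          mem_boundary_of_lt (c := ⦋0⦌) (by show 0 < m' + 1; omega) _⟩
      obtain ⟨v, hv, hvb⟩ := cn_exists f (m' + 1)
        (fun k => pi f (op ⦋0⦌) 0 (t.app (op ⦋0⦌) (vtx k))) (yonedaEquiv b)
        (fun k => (pi_f_apply f (op ⦋0⦌) 0 _).trans (hbs _ _))
      refine ⟨v, ?_, hvb⟩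
      intro c x j
      induction c using Opposite.rec with | _ c =>
      rw [hv]
      have hx : ((∂Δ[m' + 1] : (Δ[m' + 1] : SSet.{u}).Subcomplex) : SSet.{u}).map
          (SimplexCategory.const ⦋0⦌ c j).op x =
          vtx ((stdSimplex.objEquiv x.1).toOrderHom j) := by
        apply Subtype.ext
        apply stdSimplex.objEquiv.injective
        show SimplexCategory.const ⦋0⦌ c j ≫ stdSimplex.objEquiv x.1 =
          stdSimplex.objEquiv ((stdSimplex.objEquiv.symm
            (SimplexCategory.const ⦋0⦌ ⦋m' + 1⦌ ((stdSimplex.objEquiv x.1).toOrderHom j))) :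
              (Δ[m' + 1] : SSet.{u}).obj (op ⦋0⦌))
        rw [Equiv.apply_symm_apply]
        rfl
      have hnat : t.app (op ⦋0⦌)
          (((∂Δ[m' + 1] : (Δ[m' + 1] : SSet.{u}).Subcomplex) : SSet.{u}).map
            (SimplexCategory.const ⦋0⦌ c j).op x) =
          (CN f).map (SimplexCategory.const ⦋0⦌ c j).op (t.app (op c) x) :=
        NatTrans.naturality_apply t (SimplexCategory.const ⦋0⦌ c j).op x
      have h5 : pi f (op ⦋0⦌) 0
          ((CN f).map (SimplexCategory.const ⦋0⦌ c j).op (t.app (op c) x)) =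
          pi f (op c) j (t.app (op c) x) :=
        map_pi_apply f (SimplexCategory.const ⦋0⦌ c j).op 0 (t.app (op c) x)
      rw [← hx, hnat]
      exact h5.symm
  have hl : yonedaEquiv.symm v ≫ (Arrow.mk f).augmentedCechNerve.hom = b :=
    (SSet.yonedaEquiv_symm_comp v _).trans
      ((congrArg yonedaEquiv.symm hv2).trans (Equiv.symm_apply_apply _ _))
  refine CommSq.HasLift.mk' ⟨yonedaEquiv.symm v, ?_, hl⟩
  ext c x
  apply cn_ext f c
  intro j
  have goal : pi f c j ((CN f).map (stdSimplex.objEquiv x.1).op v) = pi f c j (t.app c x) :=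
    (map_pi_apply f (stdSimplex.objEquiv x.1).op j v).trans (hv1 c x j).symm
  exact goal

end Groth.Agent.Lib.CechTrivFibH4
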