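import Groth.Agent.Lib.TorsorSeq_lead

/-! # Extensions by a commutative group: centrality and commutativity criteria (lead) -/

set_option linter.unusedSimpArgs false
set_option linter.unusedVariables false
set_option linter.unusedSectionVars false
set_option linter.style.longLine false
set_option maxHeartbeats 800000

universe u

open CategoryTheory CategoryTheory.Limits MonoidalCategory CartesianMonoidalCategory MonObj GrpObj
  AlgebraicGeometry Opposite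

namespace Groth.Agent.Lib.CentralExt

open SchFpqcCovH7 Groth.Agent.Lib.TorsorSeq

variable {S : Scheme.{u}}

theorem central_ext (P G E : Over S) [GrpObj P] [GrpObj G] [GrpObj E] [IsCommMonObj G]
    (u : G ⟶ E) (v : E ⟶ P) (hex : NonAbH1.IsExactSeq Scheme.fppfPrecoverage u v)
    (hPG : ∀ f : P ⊗ G ⟶ G, lift (𝟙 P) (toUnit P ≫ η[G]) ≫ f = 1 →
      lift (toUnit G ≫ η[P]) (𝟙 G) ≫ f = 1 → f = 1) :
    (∀ (T : Over S) (g : T ⟶ G) (x : T ⟶ E), (g ≫ u) * x = x * (g ≫ u)) ∧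
      (IsCommMonObj P →
        (∀ f : P ⊗ P ⟶ G, lift (𝟙 P) (toUnit P ≫ η[P]) ≫ f = 1 →
          lift (toUnit P ≫ η[P]) (𝟙 P) ≫ f = 1 → f = 1) →
          IsCommMonObj E) := by
  obtain ⟨hu, hv, huv, hpb, hloc⟩ := hex
  haveI := hu
  haveI := hv
  have hvcov : IsCov v.left := by
    have h1 : NonAbH1.IsLocallyTrivialFor Scheme.fpqcPrecoverage
        (Over.mk v.left : Over P.left) := by
      obtain ⟨R, hR, hs⟩ := hloc
      exact ⟨R, Scheme.fppfPrecoverage_le_fpqcPrecoverage _ hR, hs⟩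
    exact isCov_of_locallyTrivial _ h1
  haveI hvepi : Epi v := epi_of_isCov v hvcov
  have hker : ∀ {T : Over S} (y : T ⟶ E), y ≫ v = 1 → ∃ g : T ⟶ G, g ≫ u = y := by
    intro T y hy
    obtain ⟨g, hg⟩ := exists_of_eq_v u v hpb 1 y (by rw [MonObj.one_comp, hy])
    exact ⟨g, by rw [hg, _root_.one_mul]⟩
  -- conjugation action of `E` on `G`
  obtain ⟨c, hc⟩ := hker (fst E G * (snd E G ≫ u) * (fst E G)⁻¹) (by
    rw [MonObj.mul_comp, MonObj.mul_comp, GrpObj.inv_comp, Category.assoc, huv, MonObj.comp_one,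
      _root_.mul_one, mul_inv_cancel])
  have hcp : ∀ {T : Over S} (x : T ⟶ E) (g : T ⟶ G),
      (lift x g ≫ c) ≫ u = x * (g ≫ u) * x⁻¹ := by
    intro T x g
    rw [Category.assoc, hc, MonObj.comp_mul, MonObj.comp_mul, GrpObj.comp_inv, lift_fst,
      lift_snd_assoc]
  have hcG : IsCov (v ▷ G).left := isCov_whiskerRight v G hvcov
  obtain ⟨cbar, hcbar⟩ := desc_of_isCov (v ▷ G) hcG c (by
    intro T a₁ a₂ ha
    have h1 : (a₁ ≫ fst E G) ≫ v = (a₂ ≫ fst E G) ≫ v := by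
      have := congrArg (fun k => k ≫ fst P G) ha
      simpa only [Category.assoc, whiskerRight_fst] using this
    have h2 : a₁ ≫ snd E G = a₂ ≫ snd E G := by
      have := congrArg (fun k => k ≫ snd P G) ha
      simpa only [Category.assoc, whiskerRight_snd] using this
    obtain ⟨h, hh⟩ := exists_of_eq_v u v hpb _ _ h1
    apply u_cancel u v hpb
    have k1 : (a₁ ≫ c) ≫ u =
        (a₁ ≫ fst E G) * ((a₁ ≫ snd E G) ≫ u) * (a₁ ≫ fst E G)⁻¹ := by
      have := hcp (a₁ ≫ fst E G) (a₁ ≫ snd E G)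
      rwa [lift_comp_fst_snd] at this
    have k2 : (a₂ ≫ c) ≫ u =
        (a₂ ≫ fst E G) * ((a₂ ≫ snd E G) ≫ u) * (a₂ ≫ fst E G)⁻¹ := by
      have := hcp (a₂ ≫ fst E G) (a₂ ≫ snd E G)
      rwa [lift_comp_fst_snd] at this
    rw [k1, k2, ← h2, hh]
    have hzw : (h ≫ u) * ((a₁ ≫ snd E G) ≫ u) = ((a₁ ≫ snd E G) ≫ u) * (h ≫ u) := by
      rw [← MonObj.mul_comp, ← MonObj.mul_comp, _root_.mul_comm]
    calc (a₁ ≫ fst E G) * ((a₁ ≫ snd E G) ≫ u) * (a₁ ≫ fst E G)⁻¹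
        = (a₁ ≫ fst E G) * (((a₁ ≫ snd E G) ≫ u) * (h ≫ u)) * (h ≫ u)⁻¹ *
            (a₁ ≫ fst E G)⁻¹ := by group
      _ = (a₁ ≫ fst E G) * ((h ≫ u) * ((a₁ ≫ snd E G) ≫ u)) * (h ≫ u)⁻¹ *
            (a₁ ≫ fst E G)⁻¹ := by rw [hzw]
      _ = (a₁ ≫ fst E G) * (h ≫ u) * ((a₁ ≫ snd E G) ≫ u) *
            ((a₁ ≫ fst E G) * (h ≫ u))⁻¹ := by group)
  have hc1 : lift (𝟙 E) (1 : E ⟶ G) ≫ c = 1 := by
    apply u_cancel u v hpb
    rw [hcp, MonObj.one_comp, _root_.mul_one, mul_inv_cancel]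
  have hc2 : lift (1 : G ⟶ E) (𝟙 G) ≫ c = 𝟙 G := by
    apply u_cancel u v hpb
    rw [hcp, inv_one, _root_.mul_one, _root_.one_mul]
  have hf1 : lift (𝟙 P) (toUnit P ≫ η[G]) ≫ (cbar * (snd P G)⁻¹) = 1 := by
    rw [← Hom.one_def, MonObj.comp_mul, GrpObj.comp_inv, lift_snd, inv_one, _root_.mul_one,
      ← cancel_epi v]
    have e : v ≫ lift (𝟙 P) (1 : P ⟶ G) = lift (𝟙 E) (1 : E ⟶ G) ≫ (v ▷ G) := by
      apply CartesianMonoidalCategory.hom_ext
      · rw [Category.assoc, lift_fst, Category.assoc, whiskerRight_fst, lift_fst_assoc,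
          Category.comp_id, Category.id_comp]
      · rw [Category.assoc, lift_snd, Category.assoc, whiskerRight_snd, lift_snd, MonObj.comp_one]
    rw [← Category.assoc, e, Category.assoc, hcbar, hc1, MonObj.comp_one]
  have hf2 : lift (toUnit G ≫ η[P]) (𝟙 G) ≫ (cbar * (snd P G)⁻¹) = 1 := by
    rw [← Hom.one_def, MonObj.comp_mul, GrpObj.comp_inv, lift_snd]
    have e : lift (1 : G ⟶ P) (𝟙 G) = lift (1 : G ⟶ E) (𝟙 G) ≫ (v ▷ G) := by
      apply CartesianMonoidalCategory.hom_ext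
      · rw [lift_fst, Category.assoc, whiskerRight_fst, lift_fst_assoc, MonObj.one_comp]
      · rw [lift_snd, Category.assoc, whiskerRight_snd, lift_snd]
    rw [e, Category.assoc, hcbar, hc2, mul_inv_cancel]
  have hcbar' : cbar = snd P G := mul_inv_eq_one.mp (hPG _ hf1 hf2)
  have hc' : c = snd E G := by
    rw [← hcbar, hcbar', whiskerRight_snd]
  have hcentral : ∀ (T : Over S) (g : T ⟶ G) (x : T ⟶ E), (g ≫ u) * x = x * (g ≫ u) := by
    intro T g x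
    have h1 := hcp x g
    rw [hc', lift_snd] at h1
    have h2 : (g ≫ u) * x = x * (g ≫ u) * x⁻¹ * x := congrArg (fun k => k * x) h1
    rw [inv_mul_cancel_right] at h2
    exact h2
  refine ⟨hcentral, fun hPc hPP => ?_⟩
  haveI := hPc
  obtain ⟨κ, hκ⟩ := hker (fst E E * snd E E * (fst E E)⁻¹ * (snd E E)⁻¹) (by
    rw [MonObj.mul_comp, MonObj.mul_comp, MonObj.mul_comp, GrpObj.inv_comp, GrpObj.inv_comp,
      _root_.mul_comm (fst E E ≫ v) (snd E E ≫ v), mul_inv_cancel_right, mul_inv_cancel])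
  have hκp : ∀ {T : Over S} (x y : T ⟶ E),
      (lift x y ≫ κ) ≫ u = x * y * x⁻¹ * y⁻¹ := by
    intro T x y
    rw [Category.assoc, hκ, MonObj.comp_mul, MonObj.comp_mul, MonObj.comp_mul, GrpObj.comp_inv,
      GrpObj.comp_inv, lift_fst, lift_snd]
  have hcEE : IsCov (v ⊗ₘ v).left := isCov_tensorHom v v hvcov hvcov
  obtain ⟨κbar, hκbar⟩ := desc_of_isCov (v ⊗ₘ v) hcEE κ (by
    intro T a₁ a₂ ha
    have h1 : (a₁ ≫ fst E E) ≫ v = (a₂ ≫ fst E E) ≫ v := by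
      have := congrArg (fun k => k ≫ fst P P) ha
      simpa only [Category.assoc, tensorHom_fst] using this
    have h2 : (a₁ ≫ snd E E) ≫ v = (a₂ ≫ snd E E) ≫ v := by
      have := congrArg (fun k => k ≫ snd P P) ha
      simpa only [Category.assoc, tensorHom_snd] using this
    obtain ⟨g, hg⟩ := exists_of_eq_v u v hpb _ _ h1
    obtain ⟨h, hh⟩ := exists_of_eq_v u v hpb _ _ h2
    apply u_cancel u v hpb
    have k1 : (a₁ ≫ κ) ≫ u = (a₁ ≫ fst E E) * (a₁ ≫ snd E E) * (a₁ ≫ fst E E)⁻¹ *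
        (a₁ ≫ snd E E)⁻¹ := by
      have := hκp (a₁ ≫ fst E E) (a₁ ≫ snd E E)
      rwa [lift_comp_fst_snd] at this
    have k2 : (a₂ ≫ κ) ≫ u = (a₂ ≫ fst E E) * (a₂ ≫ snd E E) * (a₂ ≫ fst E E)⁻¹ *
        (a₂ ≫ snd E E)⁻¹ := by
      have := hκp (a₂ ≫ fst E E) (a₂ ≫ snd E E)
      rwa [lift_comp_fst_snd] at this
    rw [k1, k2, hg, hh]
    have hz := hcentral T g
    have hw := hcentral T h
    symm
    calc (a₁ ≫ fst E E) * (g ≫ u) * ((a₁ ≫ snd E E) * (h ≫ u)) *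
          ((a₁ ≫ fst E E) * (g ≫ u))⁻¹ * ((a₁ ≫ snd E E) * (h ≫ u))⁻¹
        = (a₁ ≫ fst E E) * ((g ≫ u) * ((a₁ ≫ snd E E) * (h ≫ u))) * (g ≫ u)⁻¹ *
            (a₁ ≫ fst E E)⁻¹ * (h ≫ u)⁻¹ * (a₁ ≫ snd E E)⁻¹ := by group
      _ = (a₁ ≫ fst E E) * (((a₁ ≫ snd E E) * (h ≫ u)) * (g ≫ u)) * (g ≫ u)⁻¹ *
            (a₁ ≫ fst E E)⁻¹ * (h ≫ u)⁻¹ * (a₁ ≫ snd E E)⁻¹ := by rw [hz]
      _ = (a₁ ≫ fst E E) * (a₁ ≫ snd E E) * ((h ≫ u) * (a₁ ≫ fst E E)⁻¹) * (h ≫ u)⁻¹ *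
            (a₁ ≫ snd E E)⁻¹ := by group
      _ = (a₁ ≫ fst E E) * (a₁ ≫ snd E E) * ((a₁ ≫ fst E E)⁻¹ * (h ≫ u)) * (h ≫ u)⁻¹ *
            (a₁ ≫ snd E E)⁻¹ := by rw [hw]
      _ = (a₁ ≫ fst E E) * (a₁ ≫ snd E E) * (a₁ ≫ fst E E)⁻¹ * (a₁ ≫ snd E E)⁻¹ := by group)
  have hκ1 : lift (𝟙 E) (1 : E ⟶ E) ≫ κ = 1 := by
    apply u_cancel u v hpb
    rw [hκp, MonObj.one_comp]
    group
  have hκ2 : lift (1 : E ⟶ E) (𝟙 E) ≫ κ = 1 := by
    apply u_cancel u v hpb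
    rw [hκp, MonObj.one_comp]
    group
  have hg1 : lift (𝟙 P) (toUnit P ≫ η[P]) ≫ κbar = 1 := by
    rw [← Hom.one_def, ← cancel_epi v]
    have e : v ≫ lift (𝟙 P) (1 : P ⟶ P) = lift (𝟙 E) (1 : E ⟶ E) ≫ (v ⊗ₘ v) := by
      apply CartesianMonoidalCategory.hom_ext
      · rw [Category.assoc, lift_fst, Category.assoc, tensorHom_fst, lift_fst_assoc,
          Category.comp_id, Category.id_comp]
      · rw [Category.assoc, lift_snd, Category.assoc, tensorHom_snd, lift_snd_assoc,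
          MonObj.comp_one, MonObj.one_comp]
    rw [← Category.assoc, e, Category.assoc, hκbar, hκ1, MonObj.comp_one]
  have hg2 : lift (toUnit P ≫ η[P]) (𝟙 P) ≫ κbar = 1 := by
    rw [← Hom.one_def, ← cancel_epi v]
    have e : v ≫ lift (1 : P ⟶ P) (𝟙 P) = lift (1 : E ⟶ E) (𝟙 E) ≫ (v ⊗ₘ v) := by
      apply CartesianMonoidalCategory.hom_ext
      · rw [Category.assoc, lift_fst, Category.assoc, tensorHom_fst, lift_fst_assoc,
          MonObj.comp_one, MonObj.one_comp]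
      · rw [Category.assoc, lift_snd, Category.assoc, tensorHom_snd, lift_snd_assoc,
          Category.comp_id, Category.id_comp]
    rw [← Category.assoc, e, Category.assoc, hκbar, hκ2, MonObj.comp_one]
  have hκ' : κ = 1 := by
    rw [← hκbar, hPP κbar hg1 hg2, MonObj.comp_one]
  refine (isCommMonObj_iff_isMulCommutative E).mpr (fun X => ⟨⟨fun a b => ?_⟩⟩)
  have h1 := hκp a b
  rw [hκ', MonObj.comp_one, MonObj.one_comp] at h1
  show a * b = b * a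
  calc a * b = (a * b * a⁻¹ * b⁻¹) * (b * a) := by group
    _ = b * a := by rw [← h1, _root_.one_mul]

end Groth.Agent.Lib.CentralExt
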