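import Mathlib
import Groth.Prelude.Def_W4c2conddiscmodels

set_option autoImplicit false
set_option maxHeartbeats 1000000

namespace Groth.Agent.Lib.ChainCtrH1

open Finset Matrix

universe u

variable {V E : Type u} [Fintype V] [Fintype E] [DecidableEq V] [DecidableEq E]
variable (ends : E → V × V) (β : V → ℤ)

/-! ### general facts on multigraphs with a multiplicity function -/

lemma edgeMult_comm (v w : V) : LabGraph.edgeMult ends v w = LabGraph.edgeMult ends w v := by
  unfold LabGraph.edgeMult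
  congr 1
  ext e
  simp only [mem_filter, mem_univ, true_and]
  exact or_comm

lemma edgeMult_cast (v w : V) :
    (LabGraph.edgeMult ends v w : ℤ)
      = ∑ e : E, if ends e = (v, w) ∨ ends e = (w, v) then (1 : ℤ) else 0 := by
  simp only [LabGraph.edgeMult, Finset.card_filter, Nat.cast_sum, Nat.cast_ite, Nat.cast_one,
    Nat.cast_zero]

lemma mf_off {v w : V} (h : v ≠ w) :
    LabGraph.mfMatrix ends β v w = (LabGraph.edgeMult ends v w : ℤ) := by
  simp only [LabGraph.mfMatrix, if_neg h]

lemma mf_diag (hβ : LabGraph.IsMultFn ends β) (v : V) :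
    LabGraph.mfMatrix ends β v v * β v
      = -(∑ u ∈ univ.erase v, β u * (LabGraph.edgeMult ends v u : ℤ)) := by
  have h1 : LabGraph.mfMatrix ends β v v
      = -(∑ u ∈ univ.erase v, β u * (LabGraph.edgeMult ends v u : ℤ)) / β v := by
    simp only [LabGraph.mfMatrix, ↓reduceIte]
  rw [h1]
  exact Int.ediv_mul_cancel ((dvd_neg).mpr (hβ v).2)

lemma mf_symm (v w : V) : LabGraph.mfMatrix ends β v w = LabGraph.mfMatrix ends β w v := by
  by_cases h : v = w
  · rw [h]
  · rw [mf_off ends β h, mf_off ends β (Ne.symm h), edgeMult_comm]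

lemma mf_scaled (hβ : LabGraph.IsMultFn ends β) (y : V → ℤ) (v : V) :
    β v * (LabGraph.mfMatrix ends β *ᵥ y) v
      = ∑ w, (LabGraph.edgeMult ends v w : ℤ) * (β v * y w - β w * y v) := by
  have hd := mf_diag ends β hβ v
  have e1 : (LabGraph.mfMatrix ends β *ᵥ y) v
      = LabGraph.mfMatrix ends β v v * y v
        + ∑ w ∈ univ.erase v, (LabGraph.edgeMult ends v w : ℤ) * y w := by
    simp only [Matrix.mulVec, dotProduct]
    rw [← Finset.add_sum_erase univ _ (mem_univ v)]
    congr 1
    exact Finset.sum_congr rfl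
      (fun w hw => by rw [mf_off ends β (Finset.ne_of_mem_erase hw).symm])
  have e2 : ∑ w, (LabGraph.edgeMult ends v w : ℤ) * (β v * y w - β w * y v)
      = β v * ∑ w ∈ univ.erase v, (LabGraph.edgeMult ends v w : ℤ) * y w
        - y v * ∑ w ∈ univ.erase v, β w * (LabGraph.edgeMult ends v w : ℤ) := by
    rw [← Finset.add_sum_erase univ _ (mem_univ v), Finset.mul_sum, Finset.mul_sum,
      ← Finset.sum_sub_distrib]
    have : (LabGraph.edgeMult ends v v : ℤ) * (β v * y v - β v * y v) = 0 := by ring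
    rw [this, zero_add]
    exact Finset.sum_congr rfl (fun w _ => by ring)
  rw [e1, e2]
  linear_combination (y v) * hd

lemma mf_row (hβ : LabGraph.IsMultFn ends β) (v : V) :
    ∑ w, LabGraph.mfMatrix ends β v w * β w = 0 := by
  have h1 := mf_scaled ends β hβ β v
  have h2 : ∑ w, (LabGraph.edgeMult ends v w : ℤ) * (β v * β w - β w * β v) = 0 :=
    Finset.sum_eq_zero (fun w _ => by ring)
  rw [h2] at h1
  have h3 : (LabGraph.mfMatrix ends β *ᵥ β) v = 0 :=
    (mul_eq_zero.mp h1).resolve_left (ne_of_gt (hβ v).1)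
  simpa only [Matrix.mulVec, dotProduct] using h3

lemma betaHom_apply (x : V → ℤ) : LabGraph.betaHom β x = ∑ v, x v * β v := by
  simp only [LabGraph.betaHom, Fintype.linearCombination_apply, smul_eq_mul]

lemma betaHom_mulVec (hβ : LabGraph.IsMultFn ends β) (g : V → ℤ) :
    LabGraph.betaHom β (LabGraph.mfMatrix ends β *ᵥ g) = 0 := by
  rw [betaHom_apply]
  simp only [Matrix.mulVec, dotProduct, Finset.sum_mul]
  rw [Finset.sum_comm]
  apply Finset.sum_eq_zero
  intro w _
  have h1 := mf_row ends β hβ w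
  have h2 : ∑ v, LabGraph.mfMatrix ends β v w * g w * β v
      = g w * ∑ v, LabGraph.mfMatrix ends β w v * β v := by
    rw [Finset.mul_sum]
    exact Finset.sum_congr rfl (fun v _ => by rw [mf_symm ends β v w]; ring)
  rw [h2, h1, mul_zero]

lemma mulVec_single' (M : Matrix V V ℤ) (w : V) :
    M *ᵥ (Pi.single w (1 : ℤ)) = fun v => M v w := by
  funext v
  simp [Matrix.mulVec, dotProduct, Pi.single_apply]

/-! ### contraction along an edge set, `β` constant on classes -/

variable (D : Finset E)

local notation "cmk" => DualGr.ctrMk ends D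

lemma pushV_apply (y : V → ℤ) (c : DualGr.CtrVert ends D) :
    DualGr.pushV ends D y c = ∑ x ∈ univ.filter (fun x => cmk x = c), y x := rfl

lemma liftAt_apply (v₀ : V) (x : DualGr.CtrVert ends D → ℤ) (v : V) :
    LabGraph.liftAt ends D v₀ x v = if cmk v = cmk v₀ ∧ v ≠ v₀ then 0 else x (cmk v) := rfl

lemma ctrFn_mk (hcls : ∀ v w, cmk v = cmk w → β v = β w) (v : V) :
    LabGraph.ctrFn ends D β (cmk v) = β v := by
  unfold LabGraph.ctrFn
  apply hcls
  exact Quotient.out_eq _

lemma pushV_single (w : V) (c : DualGr.CtrVert ends D) :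
    DualGr.pushV ends D (Pi.single w (1 : ℤ)) c = if cmk w = c then 1 else 0 := by
  rw [pushV_apply]
  simp only [Pi.single_apply]
  rw [Finset.sum_ite_eq']
  simp only [Finset.mem_filter, Finset.mem_univ, true_and]

lemma edgeMult_ctr {c c' : DualGr.CtrVert ends D} (hne : c ≠ c') :
    (LabGraph.edgeMult (DualGr.ctrEnds ends D) c c' : ℤ)
      = ∑ v ∈ univ.filter (fun v => cmk v = c),
          ∑ w ∈ univ.filter (fun w => cmk w = c'), (LabGraph.edgeMult ends v w : ℤ) := by
  obtain ⟨f, hf⟩ : ∃ f : E → ℤ, ∀ e, f e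
      = if (cmk (ends e).1 = c ∧ cmk (ends e).2 = c') ∨ (cmk (ends e).1 = c' ∧ cmk (ends e).2 = c)
        then (1 : ℤ) else 0 := ⟨_, fun _ => rfl⟩
  have hfD : ∀ e, e ∈ D → f e = 0 := by
    intro e he
    have h1 := DualGr.ctrMk_fst_eq_ctrMk_snd ends D he
    rw [hf, if_neg]
    rintro (⟨h2, h3⟩ | ⟨h2, h3⟩)
    · exact hne (by rw [← h2, ← h3, h1])
    · exact hne (by rw [← h2, ← h3, h1])
  have hL : (LabGraph.edgeMult (DualGr.ctrEnds ends D) c c' : ℤ) = ∑ e, f e := by
    have h1 : (∑ e : DualGr.CtrEdge D,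
          if DualGr.ctrEnds ends D e = (c, c') ∨ DualGr.ctrEnds ends D e = (c', c)
            then (1 : ℤ) else 0)
        = ∑ e : DualGr.CtrEdge D, f e.1 := by
      refine Finset.sum_congr rfl (fun e _ => ?_)
      rw [hf]
      apply if_congr _ rfl rfl
      simp only [DualGr.ctrEnds, Prod.mk.injEq]
    have h2 : (∑ e : DualGr.CtrEdge D, f e.1) = ∑ e ∈ univ.filter (fun e : E => e ∉ D), f e :=
      (Finset.sum_subtype (univ.filter (fun e : E => e ∉ D)) (by intro e; simp) f).symm
    have h3 : ∑ e ∈ univ.filter (fun e : E => e ∉ D), f e = ∑ e, f e := by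
      rw [Finset.sum_filter]
      refine Finset.sum_congr rfl (fun e _ => ?_)
      by_cases he : e ∈ D
      · rw [if_neg (not_not.mpr he), hfD e he]
      · rw [if_pos he]
    exact (edgeMult_cast (DualGr.ctrEnds ends D) c c').trans (h1.trans (h2.trans h3))
  have hR : ∑ v ∈ univ.filter (fun v => cmk v = c),
      ∑ w ∈ univ.filter (fun w => cmk w = c'), (LabGraph.edgeMult ends v w : ℤ)
      = ∑ e, f e := by
    obtain ⟨G, hG⟩ : ∃ G : E → V → V → ℤ, ∀ e v w, G e v w
        = if cmk v = c ∧ cmk w = c' then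
            (if ends e = (v, w) ∨ ends e = (w, v) then (1 : ℤ) else 0) else 0 :=
      ⟨_, fun _ _ _ => rfl⟩
    have h1 : ∑ v ∈ univ.filter (fun v => cmk v = c),
        ∑ w ∈ univ.filter (fun w => cmk w = c'), (LabGraph.edgeMult ends v w : ℤ)
        = ∑ v, ∑ w, ∑ e, G e v w := by
      rw [Finset.sum_filter]
      refine Finset.sum_congr rfl (fun v _ => ?_)
      by_cases hv : cmk v = c
      · rw [if_pos hv, Finset.sum_filter]
        refine Finset.sum_congr rfl (fun w _ => ?_)
        by_cases hw : cmk w = c'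
        · rw [if_pos hw, edgeMult_cast]
          refine Finset.sum_congr rfl (fun e _ => ?_)
          rw [hG, if_pos (And.intro hv hw)]
        · rw [if_neg hw]
          symm
          apply Finset.sum_eq_zero
          intro e _
          rw [hG, if_neg (fun h => hw h.2)]
      · rw [if_neg hv]
        symm
        apply Finset.sum_eq_zero
        intro w _
        apply Finset.sum_eq_zero
        intro e _
        rw [hG, if_neg (fun h => hv h.1)]
    have h2 : ∑ v, ∑ w, ∑ e, G e v w = ∑ e, ∑ v, ∑ w, G e v w := by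
      calc ∑ v, ∑ w, ∑ e, G e v w = ∑ v, ∑ e, ∑ w, G e v w :=
            Finset.sum_congr rfl (fun v _ => Finset.sum_comm)
        _ = ∑ e, ∑ v, ∑ w, G e v w := Finset.sum_comm
    have h3 : ∀ e, ∑ v, ∑ w, G e v w = f e := by
      intro e
      obtain ⟨a, b, hab⟩ : ∃ a b, ends e = (a, b) := ⟨(ends e).1, (ends e).2, rfl⟩
      have hf' : f e = if (cmk a = c ∧ cmk b = c') ∨ (cmk a = c' ∧ cmk b = c)
          then (1 : ℤ) else 0 := by rw [hf, hab]
      have hGz : ∀ v w, G e v w ≠ 0 → (v = a ∧ w = b ∧ cmk a = c ∧ cmk b = c')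
          ∨ (v = b ∧ w = a ∧ cmk b = c ∧ cmk a = c') := by
        intro v w hne0
        rw [hG] at hne0
        by_cases h1 : cmk v = c ∧ cmk w = c'
        · rw [if_pos h1] at hne0
          by_cases h2 : ends e = (v, w) ∨ ends e = (w, v)
          · rcases h2 with h2 | h2
            · rw [hab, Prod.mk.injEq] at h2
              left
              exact ⟨h2.1.symm, h2.2.symm, by rw [h2.1]; exact h1.1, by rw [h2.2]; exact h1.2⟩
            · rw [hab, Prod.mk.injEq] at h2
              right
              exact ⟨h2.2.symm, h2.1.symm, by rw [h2.2]; exact h1.1, by rw [h2.1]; exact h1.2⟩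
          · rw [if_neg h2] at hne0
            exact absurd rfl hne0
        · rw [if_neg h1] at hne0
          exact absurd rfl hne0
      have hG1 : ∀ v w, (v = a ∧ w = b ∧ cmk a = c ∧ cmk b = c')
          ∨ (v = b ∧ w = a ∧ cmk b = c ∧ cmk a = c') → G e v w = 1 := by
        intro v w h
        rw [hG]
        rcases h with ⟨h1, h2, h3, h4⟩ | ⟨h1, h2, h3, h4⟩
        · rw [h1, h2, if_pos ⟨h3, h4⟩, if_pos (Or.inl hab)]
        · rw [h1, h2, if_pos ⟨h3, h4⟩, if_pos (Or.inr hab)]
      rw [hf']
      by_cases hA : cmk a = c ∧ cmk b = c'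
      · rw [if_pos (Or.inl hA)]
        rw [Finset.sum_eq_single a, Finset.sum_eq_single b]
        · exact hG1 a b (Or.inl ⟨rfl, rfl, hA.1, hA.2⟩)
        · intro w _ hw
          by_contra hne0
          rcases hGz a w hne0 with ⟨_, h2, _⟩ | ⟨_, _, _, h4⟩
          · exact hw h2
          · exact hne (by rw [← hA.1, h4])
        · intro h; exact absurd (mem_univ b) h
        · intro v _ hv
          apply Finset.sum_eq_zero
          intro w _
          by_contra hne0
          rcases hGz v w hne0 with ⟨h1, _⟩ | ⟨_, _, _, h4⟩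
          · exact hv h1
          · exact hne (by rw [← hA.1, h4])
        · intro h; exact absurd (mem_univ a) h
      · by_cases hB : cmk a = c' ∧ cmk b = c
        · rw [if_pos (Or.inr hB)]
          rw [Finset.sum_eq_single b, Finset.sum_eq_single a]
          · exact hG1 b a (Or.inr ⟨rfl, rfl, hB.2, hB.1⟩)
          · intro w _ hw
            by_contra hne0
            rcases hGz b w hne0 with ⟨_, _, h3, h4⟩ | ⟨_, h2, _⟩
            · exact hA ⟨h3, h4⟩
            · exact hw h2
          · intro h; exact absurd (mem_univ a) h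
          · intro v _ hv
            apply Finset.sum_eq_zero
            intro w _
            by_contra hne0
            rcases hGz v w hne0 with ⟨_, _, h3, h4⟩ | ⟨h1, _⟩
            · exact hA ⟨h3, h4⟩
            · exact hv h1
          · intro h; exact absurd (mem_univ b) h
        · rw [if_neg (by rintro (h | h); exact hA h; exact hB h)]
          apply Finset.sum_eq_zero
          intro v _
          apply Finset.sum_eq_zero
          intro w _
          by_contra hne0
          rcases hGz v w hne0 with ⟨_, _, h3, h4⟩ | ⟨_, _, h3, h4⟩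
          · exact hA ⟨h3, h4⟩
          · exact hB ⟨h4, h3⟩
    rw [h1, h2]
    exact Finset.sum_congr rfl (fun e _ => h3 e)
  rw [hL, hR]

/-- the contraction of a multiplicity function constant on the classes is a multiplicity function -/
lemma isMultFn_ctr (hβ : LabGraph.IsMultFn ends β)
    (hcls : ∀ v w, cmk v = cmk w → β v = β w) :
    LabGraph.IsMultFn (DualGr.ctrEnds ends D) (LabGraph.ctrFn ends D β) := by
  intro c
  obtain ⟨v0, rfl⟩ := DualGr.ctrMk_surjective ends D c
  have hb : LabGraph.ctrFn ends D β (cmk v0) = β v0 := ctrFn_mk ends β D hcls v0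
  refine ⟨by rw [hb]; exact (hβ v0).1, ?_⟩
  rw [hb]
  obtain ⟨X, hX⟩ : ∃ X : DualGr.CtrVert ends D → ℤ, ∀ c', X c'
      = ∑ v ∈ univ.filter (fun v => cmk v = cmk v0),
          ∑ w ∈ univ.filter (fun w => cmk w = c'), (LabGraph.edgeMult ends v w : ℤ) :=
    ⟨_, fun _ => rfl⟩
  have h1 : ∑ c' ∈ univ.erase (cmk v0), LabGraph.ctrFn ends D β c'
        * (LabGraph.edgeMult (DualGr.ctrEnds ends D) (cmk v0) c' : ℤ)
      = ∑ c' ∈ univ.erase (cmk v0), LabGraph.ctrFn ends D β c' * X c' := by
    refine Finset.sum_congr rfl (fun c' hc' => ?_)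
    rw [hX, edgeMult_ctr ends D (Finset.ne_of_mem_erase hc').symm]
  rw [h1]
  have h2 : ∑ c' ∈ univ.erase (cmk v0), LabGraph.ctrFn ends D β c' * X c'
      = ∑ c', LabGraph.ctrFn ends D β c' * X c'
        - LabGraph.ctrFn ends D β (cmk v0) * X (cmk v0) := by
    rw [← Finset.add_sum_erase univ _ (mem_univ (cmk v0))]; ring
  rw [h2, hb]
  apply dvd_sub _ (dvd_mul_right _ _)
  have h3 : ∑ c', LabGraph.ctrFn ends D β c' * X c'
      = ∑ v ∈ univ.filter (fun v => cmk v = cmk v0),
          ∑ w, β w * (LabGraph.edgeMult ends v w : ℤ) := by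
    have h4 : ∀ c', LabGraph.ctrFn ends D β c' * X c'
        = ∑ v ∈ univ.filter (fun v => cmk v = cmk v0),
            ∑ w ∈ univ.filter (fun w => cmk w = c'), β w * (LabGraph.edgeMult ends v w : ℤ) := by
      intro c'
      rw [hX, Finset.mul_sum]
      refine Finset.sum_congr rfl (fun v _ => ?_)
      rw [Finset.mul_sum]
      refine Finset.sum_congr rfl (fun w hw => ?_)
      rw [← (Finset.mem_filter.mp hw).2, ctrFn_mk ends β D hcls w]
    have h5 : ∑ c', LabGraph.ctrFn ends D β c' * X c'
        = ∑ c', ∑ v ∈ univ.filter (fun v => cmk v = cmk v0),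
            ∑ w ∈ univ.filter (fun w => cmk w = c'), β w * (LabGraph.edgeMult ends v w : ℤ) :=
      Finset.sum_congr rfl (fun c' _ => h4 c')
    rw [h5, Finset.sum_comm]
    refine Finset.sum_congr rfl (fun v _ => ?_)
    exact Finset.sum_fiberwise univ (fun w => cmk w)
      (fun w => β w * (LabGraph.edgeMult ends v w : ℤ))
  rw [h3]
  apply Finset.dvd_sum
  intro v hv
  have hv' : β v = β v0 := hcls v v0 (Finset.mem_filter.mp hv).2
  rw [← Finset.add_sum_erase univ _ (mem_univ v)]
  apply dvd_add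
  · rw [hv']; exact dvd_mul_right _ _
  · rw [← hv']; exact (hβ v).2

/-- the matrix of the contraction is `P α Pᵀ` -/
lemma mulVec_ctr (hβ : LabGraph.IsMultFn ends β)
    (hcls : ∀ v w, cmk v = cmk w → β v = β w) (z : DualGr.CtrVert ends D → ℤ) :
    LabGraph.mfMatrix (DualGr.ctrEnds ends D) (LabGraph.ctrFn ends D β) *ᵥ z
      = DualGr.pushV ends D (LabGraph.mfMatrix ends β *ᵥ (fun v => z (cmk v))) := by
  have hβ' := isMultFn_ctr ends β D hβ hcls
  funext c
  obtain ⟨v0, rfl⟩ := DualGr.ctrMk_surjective ends D c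
  have hb : LabGraph.ctrFn ends D β (cmk v0) = β v0 := ctrFn_mk ends β D hcls v0
  have hpos : β v0 ≠ 0 := ne_of_gt (hβ v0).1
  apply mul_left_cancel₀ hpos
  have hL := mf_scaled (DualGr.ctrEnds ends D) (LabGraph.ctrFn ends D β) hβ' z (cmk v0)
  rw [hb] at hL
  rw [hL]
  have hR : β v0 * DualGr.pushV ends D (LabGraph.mfMatrix ends β *ᵥ (fun v => z (cmk v))) (cmk v0)
      = ∑ v ∈ univ.filter (fun v => cmk v = cmk v0),
          ∑ w, (LabGraph.edgeMult ends v w : ℤ) * (β v0 * z (cmk w) - β w * z (cmk v0)) := by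
    rw [pushV_apply, Finset.mul_sum]
    refine Finset.sum_congr rfl (fun v hv => ?_)
    have hv1 : cmk v = cmk v0 := (Finset.mem_filter.mp hv).2
    have hv2 : β v = β v0 := hcls v v0 hv1
    rw [← hv2, mf_scaled ends β hβ _ v, hv1]
  rw [hR]
  have hR2 : ∑ v ∈ univ.filter (fun v => cmk v = cmk v0),
        ∑ w, (LabGraph.edgeMult ends v w : ℤ) * (β v0 * z (cmk w) - β w * z (cmk v0))
      = ∑ c', (β v0 * z c' - LabGraph.ctrFn ends D β c' * z (cmk v0))
          * ∑ v ∈ univ.filter (fun v => cmk v = cmk v0),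
              ∑ w ∈ univ.filter (fun w => cmk w = c'), (LabGraph.edgeMult ends v w : ℤ) := by
    have h4 : ∀ c', (β v0 * z c' - LabGraph.ctrFn ends D β c' * z (cmk v0))
          * ∑ v ∈ univ.filter (fun v => cmk v = cmk v0),
              ∑ w ∈ univ.filter (fun w => cmk w = c'), (LabGraph.edgeMult ends v w : ℤ)
        = ∑ v ∈ univ.filter (fun v => cmk v = cmk v0),
            ∑ w ∈ univ.filter (fun w => cmk w = c'),
              (LabGraph.edgeMult ends v w : ℤ) * (β v0 * z (cmk w) - β w * z (cmk v0)) := by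
      intro c'
      rw [Finset.mul_sum]
      refine Finset.sum_congr rfl (fun v _ => ?_)
      rw [Finset.mul_sum]
      refine Finset.sum_congr rfl (fun w hw => ?_)
      have hw1 : cmk w = c' := (Finset.mem_filter.mp hw).2
      rw [← hw1, ctrFn_mk ends β D hcls w]
      ring
    have h5 : ∑ c', (β v0 * z c' - LabGraph.ctrFn ends D β c' * z (cmk v0))
          * ∑ v ∈ univ.filter (fun v => cmk v = cmk v0),
              ∑ w ∈ univ.filter (fun w => cmk w = c'), (LabGraph.edgeMult ends v w : ℤ)
        = ∑ c', ∑ v ∈ univ.filter (fun v => cmk v = cmk v0),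
            ∑ w ∈ univ.filter (fun w => cmk w = c'),
              (LabGraph.edgeMult ends v w : ℤ) * (β v0 * z (cmk w) - β w * z (cmk v0)) :=
      Finset.sum_congr rfl (fun c' _ => h4 c')
    rw [h5]
    symm
    rw [Finset.sum_comm]
    refine Finset.sum_congr rfl (fun v _ => ?_)
    exact Finset.sum_fiberwise univ (fun w => cmk w)
      (fun w => (LabGraph.edgeMult ends v w : ℤ) * (β v0 * z (cmk w) - β w * z (cmk v0)))
  rw [hR2]
  refine Finset.sum_congr rfl (fun c' _ => ?_)
  by_cases hc : c' = cmk v0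
  · rw [hc, hb]; ring
  · rw [edgeMult_ctr ends D (Ne.symm hc)]; ring

lemma betaHom_push (hcls : ∀ v w, cmk v = cmk w → β v = β w) (y : V → ℤ) :
    LabGraph.betaHom (LabGraph.ctrFn ends D β) (DualGr.pushV ends D y) = LabGraph.betaHom β y := by
  rw [betaHom_apply, betaHom_apply]
  have h1 : ∀ c, DualGr.pushV ends D y c * LabGraph.ctrFn ends D β c
      = ∑ v ∈ univ.filter (fun v => cmk v = c), y v * β v := by
    intro c
    rw [pushV_apply, Finset.sum_mul]
    refine Finset.sum_congr rfl (fun v hv => ?_)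
    rw [← (Finset.mem_filter.mp hv).2, ctrFn_mk ends β D hcls v]
  have h2 : ∑ c, DualGr.pushV ends D y c * LabGraph.ctrFn ends D β c
      = ∑ c, ∑ v ∈ univ.filter (fun v => cmk v = c), y v * β v :=
    Finset.sum_congr rfl (fun c _ => h1 c)
  rw [h2]
  exact Finset.sum_fiberwise univ (fun v => cmk v) (fun v => y v * β v)

/-- two identified vertices of the contraction of a chain: equal, or both on the chain -/
lemma ctr_eq_imp {k : ℕ} (f : Fin (k + 1) → V) (e : Fin k → E) (hC : LabGraph.IsChain ends f e)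
    {v w : V}
    (h : DualGr.ctrMk ends (univ.image e) v = DualGr.ctrMk ends (univ.image e) w) :
    v = w ∨ ((∃ i, f i = v) ∧ (∃ j, f j = w)) := by
  have key : ∀ v w, Relation.EqvGen (DualGr.CtrRel ends (univ.image e)) v w →
      v = w ∨ ((∃ i, f i = v) ∧ (∃ j, f j = w)) := by
    intro v w h'
    induction h' with
    | rel x y hxy =>
      obtain ⟨e', he', hends⟩ := hxy
      rw [Finset.mem_image] at he'
      obtain ⟨i, _, rfl⟩ := he'
      right
      rcases hC.2.2 i with h1 | h1
      · rw [h1, Prod.mk.injEq] at hends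
        exact ⟨⟨_, hends.1⟩, ⟨_, hends.2⟩⟩
      · rw [h1, Prod.mk.injEq] at hends
        exact ⟨⟨_, hends.1⟩, ⟨_, hends.2⟩⟩
    | refl x => left; rfl
    | symm x y _ ih =>
      rcases ih with h1 | ⟨h1, h2⟩
      · left; exact h1.symm
      · right; exact ⟨h2, h1⟩
    | trans x y z _ _ ih1 ih2 =>
      rcases ih1 with h1 | ⟨h1, h2⟩
      · rw [h1]; exact ih2
      · rcases ih2 with h3 | ⟨h3, h4⟩
        · right; rw [← h3]; exact ⟨h1, h2⟩
        · right; exact ⟨h1, h4⟩
  exact key v w (Quotient.exact h)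

end Groth.Agent.Lib.ChainCtrH1
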