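import Mathlib
import Groth.Agent.Lib.ChainCtr1_helper1

set_option autoImplicit false
set_option maxHeartbeats 1000000

namespace Groth.Agent.Lib.ChainCtrH1

open Finset Matrix

universe u

variable {V E : Type u} [Fintype V] [Fintype E] [DecidableEq V] [DecidableEq E]

/-- a chain `vn 0, …, vn (n+1)` with edges `en 0, …, en n`, of multiplicity `n+1`, self-intersections
`-2`, whose last edge is connecting; `D` is its edge set -/
structure NChain (ends : E → V × V) (β : V → ℤ) (D : Finset E) (n : ℕ) (vn : ℕ → V)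
    (en : ℕ → E) : Prop where
  hβ : LabGraph.IsMultFn ends β
  vinj : ∀ i j, i ≤ n + 1 → j ≤ n + 1 → vn i = vn j → i = j
  hends : ∀ i, i ≤ n → (ends (en i) = (vn i, vn (i + 1)) ∨ ends (en i) = (vn (i + 1), vn i))
  einj : ∀ i j, i ≤ n → j ≤ n → en i = en j → i = j
  hD : ∀ e', e' ∈ D ↔ ∃ i, i ≤ n ∧ en i = e'
  hconn : LabGraph.IsConnecting ends (en n)
  hβm : ∀ i, i ≤ n + 1 → β (vn i) = (n : ℤ) + 1
  hα : ∀ i, i ≤ n + 1 → LabGraph.mfMatrix ends β (vn i) (vn i) = -2
  hcls : ∀ v w, DualGr.ctrMk ends D v = DualGr.ctrMk ends D w →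
    v = w ∨ ((∃ i, i ≤ n + 1 ∧ vn i = v) ∧ (∃ j, j ≤ n + 1 ∧ vn j = w))

lemma arith_two (N A B R : ℤ) (hN : 0 < N) (hA : 1 ≤ A) (hB : 1 ≤ B) (hR : 0 ≤ R)
    (h : N * A + (N * B + R) = 2 * N) : A = 1 ∧ B = 1 ∧ R = 0 := by
  have hp : 0 ≤ N * (A - 1) := mul_nonneg hN.le (by linarith)
  have hq : 0 ≤ N * (B - 1) := mul_nonneg hN.le (by linarith)
  have hsum0 : N * (A - 1) + N * (B - 1) + R = 0 := by linear_combination h
  have hp0 : N * (A - 1) = 0 := by linarith
  have hq0 : N * (B - 1) = 0 := by linarith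
  refine ⟨?_, ?_, by linarith⟩
  · have := (mul_eq_zero.mp hp0).resolve_left hN.ne'
    linarith
  · have := (mul_eq_zero.mp hq0).resolve_left hN.ne'
    linarith

lemma telescope (u : ℕ → (V → ℤ)) (n : ℕ) :
    ∑ k ∈ range n, ((k : ℤ) + 1) • (u k - (2 : ℤ) • u (k + 1) + u (k + 2))
      = u 0 - ((n : ℤ) + 1) • u n + (n : ℤ) • u (n + 1) := by
  induction n with
  | zero => simp
  | succ n ih =>
    rw [Finset.sum_range_succ, ih]
    have e : n + 1 + 1 = n + 2 := rfl
    rw [e]
    push_cast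
    module

section cross

variable (ends : E → V × V) (β : V → ℤ)

/-- edges across a cut with a single crossing edge -/
lemma mu_cross {S : Finset V} {e₀ : E} {a b : V}
    (hS : ∀ e' : E, ((ends e').1 ∈ S ↔ (ends e').2 ∉ S) ↔ e' = e₀)
    (he : ends e₀ = (a, b) ∨ ends e₀ = (b, a)) (ha : a ∉ S) (hb : b ∈ S)
    {x y : V} (hx : x ∉ S) (hy : y ∈ S) :
    LabGraph.edgeMult ends x y = if x = a ∧ y = b then 1 else 0 := by
  have hmem : ∀ e', (ends e' = (x, y) ∨ ends e' = (y, x)) → e' = e₀ := by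
    intro e' h'
    apply (hS e').mp
    rcases h' with h' | h' <;> rw [h'] <;> dsimp only <;> tauto
  by_cases hxy : x = a ∧ y = b
  · rw [if_pos hxy]
    unfold LabGraph.edgeMult
    rw [Finset.card_eq_one]
    refine ⟨e₀, ?_⟩
    ext e'
    simp only [Finset.mem_filter, Finset.mem_univ, true_and, Finset.mem_singleton]
    constructor
    · exact hmem e'
    · intro h1
      rw [h1, hxy.1, hxy.2]
      exact he
  · rw [if_neg hxy]
    unfold LabGraph.edgeMult
    rw [Finset.card_eq_zero, Finset.filter_eq_empty_iff]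
    intro e' _ h'
    have h1 := hmem e' h'
    rw [h1] at h'
    apply hxy
    rcases h' with h' | h' <;> rcases he with he | he <;> rw [he, Prod.mk.injEq] at h'
    · exact ⟨h'.1.symm, h'.2.symm⟩
    · exact absurd (by rw [← h'.1]; exact hb) hx
    · exact absurd (by rw [h'.1]; exact hy) ha
    · exact ⟨h'.2.symm, h'.1.symm⟩

/-- the vector `β·1_S` for a cut with a single crossing edge -/
lemma bridge_vec (hβ : LabGraph.IsMultFn ends β) {S : Finset V} {e₀ : E} {a b : V}
    (hS : ∀ e' : E, ((ends e').1 ∈ S ↔ (ends e').2 ∉ S) ↔ e' = e₀)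
    (he : ends e₀ = (a, b) ∨ ends e₀ = (b, a)) (ha : a ∉ S) (hb : b ∈ S) :
    LabGraph.mfMatrix ends β *ᵥ (fun v => if v ∈ S then β v else 0)
      = fun v => (if v = a then β b else 0) - (if v = b then β a else 0) := by
  funext v
  simp only [Matrix.mulVec, dotProduct]
  by_cases hv : v ∈ S
  · have hva : v ≠ a := fun h' => ha (by rw [← h']; exact hv)
    rw [if_neg hva, zero_sub]
    have h1 : ∑ w, LabGraph.mfMatrix ends β v w * (if w ∈ S then β w else 0)
        = ∑ w, LabGraph.mfMatrix ends β v w * β w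
          - ∑ w, LabGraph.mfMatrix ends β v w * (if w ∈ S then 0 else β w) := by
      rw [← Finset.sum_sub_distrib]
      refine Finset.sum_congr rfl (fun w _ => ?_)
      by_cases hw : w ∈ S
      · rw [if_pos hw, if_pos hw]; ring
      · rw [if_neg hw, if_neg hw]; ring
    rw [h1, mf_row ends β hβ v, zero_sub, neg_inj]
    have h2 : ∀ w, LabGraph.mfMatrix ends β v w * (if w ∈ S then 0 else β w)
        = if w = a then (if v = b then β a else 0) else 0 := by
      intro w
      by_cases hw : w ∈ S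
      · have hwa : w ≠ a := fun h' => ha (by rw [← h']; exact hw)
        rw [if_pos hw, if_neg hwa, mul_zero]
      · have hvw : v ≠ w := fun h' => hw (by rw [← h']; exact hv)
        rw [if_neg hw, mf_off ends β hvw, edgeMult_comm ends v w,
          mu_cross ends hS he ha hb hw hv]
        by_cases hwa : w = a
        · rw [if_pos hwa]
          by_cases hvb : v = b
          · rw [if_pos (And.intro hwa hvb), if_pos hvb, hwa]; simp
          · rw [if_neg (fun h' => hvb h'.2), if_neg hvb]; simp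
        · rw [if_neg hwa, if_neg (fun h' => hwa h'.1)]; simp
    rw [Finset.sum_congr rfl (fun w _ => h2 w), Finset.sum_ite_eq' univ a]
    simp
  · have hvb : v ≠ b := fun h' => hv (by rw [h']; exact hb)
    rw [if_neg hvb, sub_zero]
    have h2 : ∀ w, LabGraph.mfMatrix ends β v w * (if w ∈ S then β w else 0)
        = if w = b then (if v = a then β b else 0) else 0 := by
      intro w
      by_cases hw : w ∈ S
      · have hvw : v ≠ w := fun h' => hv (by rw [h']; exact hw)
        rw [if_pos hw, mf_off ends β hvw, mu_cross ends hS he ha hb hv hw]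
        by_cases hwb : w = b
        · rw [if_pos hwb]
          by_cases hva : v = a
          · rw [if_pos (And.intro hva hwb), if_pos hva, hwb]; simp
          · rw [if_neg (fun h' => hva h'.1), if_neg hva]; simp
        · rw [if_neg hwb, if_neg (fun h' => hwb h'.2)]; simp
      · have hwb : w ≠ b := fun h' => hw (by rw [h']; exact hb)
        rw [if_neg hw, if_neg hwb, mul_zero]
    rw [Finset.sum_congr rfl (fun w _ => h2 w), Finset.sum_ite_eq' univ b]
    simp

end cross

variable {ends : E → V × V} {β : V → ℤ} {D : Finset E} {n : ℕ} {vn : ℕ → V} {en : ℕ → E}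

local notation "cmk" => DualGr.ctrMk ends D

namespace NChain

lemma vne (h : NChain ends β D n vn en) {i j : ℕ} (hi : i ≤ n + 1) (hj : j ≤ n + 1)
    (hij : i ≠ j) : vn i ≠ vn j :=
  fun h' => hij (h.vinj i j hi hj h')

lemma hclsβ (h : NChain ends β D n vn en) : ∀ v w, cmk v = cmk w → β v = β w := by
  intro v w hvw
  rcases h.hcls v w hvw with h1 | ⟨⟨i, hi, hi'⟩, ⟨j, hj, hj'⟩⟩
  · rw [h1]
  · rw [← hi', ← hj', h.hβm i hi, h.hβm j hj]

/-- rows of the matrix at interior vertices of the chain -/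
lemma int_row (h : NChain ends β D n vn en) (k : ℕ) (hk : k + 1 ≤ n) (v : V) :
    LabGraph.mfMatrix ends β (vn (k + 1)) v
      = (if v = vn k then 1 else 0) - 2 * (if v = vn (k + 1) then 1 else 0)
        + (if v = vn (k + 2) then 1 else 0) := by
  have hk0 : vn k ≠ vn (k + 1) := h.vne (by omega) (by omega) (by omega)
  have hk2 : vn (k + 2) ≠ vn (k + 1) := h.vne (by omega) (by omega) (by omega)
  have hk02 : vn k ≠ vn (k + 2) := h.vne (by omega) (by omega) (by omega)
  by_cases hv : v = vn (k + 1)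
  · rw [hv, h.hα (k + 1) (by omega), if_neg hk0.symm, if_pos rfl, if_neg hk2.symm]
    norm_num
  · rw [mf_off ends β (Ne.symm hv), if_neg hv]
    obtain ⟨g, hg⟩ : ∃ g : V → ℤ, ∀ u, g u = β u * (LabGraph.edgeMult ends (vn (k + 1)) u : ℤ) :=
      ⟨_, fun _ => rfl⟩
    have hgnn : ∀ u, 0 ≤ g u := fun u => by
      rw [hg]; exact mul_nonneg (le_of_lt (h.hβ u).1) (Int.natCast_nonneg _)
    have hT : ∑ u ∈ univ.erase (vn (k + 1)), g u = 2 * ((n : ℤ) + 1) := by
      have h1 := mf_diag ends β h.hβ (vn (k + 1))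
      rw [h.hα (k + 1) (by omega), h.hβm (k + 1) (by omega)] at h1
      have h2 : ∑ u ∈ univ.erase (vn (k + 1)), g u
          = ∑ u ∈ univ.erase (vn (k + 1)), β u * (LabGraph.edgeMult ends (vn (k + 1)) u : ℤ) :=
        Finset.sum_congr rfl (fun u _ => hg u)
      rw [h2]; linarith
    have ha_mem : vn k ∈ univ.erase (vn (k + 1)) := Finset.mem_erase.mpr ⟨hk0, mem_univ _⟩
    have hb_mem : vn (k + 2) ∈ (univ.erase (vn (k + 1))).erase (vn k) :=
      Finset.mem_erase.mpr ⟨hk02.symm, Finset.mem_erase.mpr ⟨hk2, mem_univ _⟩⟩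
    have hsplit : g (vn k) + (g (vn (k + 2))
        + ∑ u ∈ ((univ.erase (vn (k + 1))).erase (vn k)).erase (vn (k + 2)), g u)
        = 2 * ((n : ℤ) + 1) := by
      rw [Finset.add_sum_erase _ g hb_mem, Finset.add_sum_erase _ g ha_mem, hT]
    have hA1 : (1 : ℤ) ≤ (LabGraph.edgeMult ends (vn (k + 1)) (vn k) : ℤ) := by
      have h0 : 0 < LabGraph.edgeMult ends (vn (k + 1)) (vn k) := by
        unfold LabGraph.edgeMult
        apply Finset.card_pos.mpr
        exact ⟨en k, Finset.mem_filter.mpr ⟨mem_univ _, (h.hends k (by omega)).symm⟩⟩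
      have h1 : 1 ≤ LabGraph.edgeMult ends (vn (k + 1)) (vn k) := h0
      exact_mod_cast h1
    have he2 : ends (en (k + 1)) = (vn (k + 1), vn (k + 2))
        ∨ ends (en (k + 1)) = (vn (k + 2), vn (k + 1)) := h.hends (k + 1) hk
    have hB1 : (1 : ℤ) ≤ (LabGraph.edgeMult ends (vn (k + 1)) (vn (k + 2)) : ℤ) := by
      have h0 : 0 < LabGraph.edgeMult ends (vn (k + 1)) (vn (k + 2)) := by
        unfold LabGraph.edgeMult
        apply Finset.card_pos.mpr
        exact ⟨en (k + 1), Finset.mem_filter.mpr ⟨mem_univ _, he2⟩⟩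
      have h1 : 1 ≤ LabGraph.edgeMult ends (vn (k + 1)) (vn (k + 2)) := h0
      exact_mod_cast h1
    have hN : (0 : ℤ) < (n : ℤ) + 1 := by positivity
    have hga : g (vn k) = ((n : ℤ) + 1) * (LabGraph.edgeMult ends (vn (k + 1)) (vn k) : ℤ) := by
      rw [hg, h.hβm k (by omega)]
    have hgb : g (vn (k + 2))
        = ((n : ℤ) + 1) * (LabGraph.edgeMult ends (vn (k + 1)) (vn (k + 2)) : ℤ) := by
      rw [hg, h.hβm (k + 2) (by omega)]
    have hRnn : 0 ≤ ∑ u ∈ ((univ.erase (vn (k + 1))).erase (vn k)).erase (vn (k + 2)), g u :=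
      Finset.sum_nonneg (fun u _ => hgnn u)
    rw [hga, hgb] at hsplit
    obtain ⟨hA, hB, hR0⟩ := arith_two _ _ _ _ hN hA1 hB1 hRnn hsplit
    by_cases hvk : v = vn k
    · rw [hvk, if_pos rfl, if_neg hk02, hA]; norm_num
    · by_cases hvk2 : v = vn (k + 2)
      · rw [hvk2, if_neg hk02.symm, if_pos rfl, hB]; norm_num
      · rw [if_neg hvk, if_neg hvk2]
        have hvmem : v ∈ ((univ.erase (vn (k + 1))).erase (vn k)).erase (vn (k + 2)) := by
          simp only [Finset.mem_erase, Finset.mem_univ, and_true]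
          exact ⟨hvk2, hvk, hv⟩
        have h1 : g v ≤ 0 := by
          rw [← hR0]
          exact Finset.single_le_sum (fun u _ => hgnn u) hvmem
        have h2 : g v = 0 := le_antisymm h1 (hgnn v)
        rw [hg] at h2
        have h3 := (mul_eq_zero.mp h2).resolve_left (ne_of_gt (h.hβ v).1)
        rw [h3]; norm_num

lemma row_eval (h : NChain ends β D n vn en) (k : ℕ) (hk : k + 1 ≤ n) (y : V → ℤ) :
    (LabGraph.mfMatrix ends β *ᵥ y) (vn (k + 1))
      = y (vn k) - 2 * y (vn (k + 1)) + y (vn (k + 2)) := by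
  simp only [Matrix.mulVec, dotProduct]
  have h1 : ∀ w, LabGraph.mfMatrix ends β (vn (k + 1)) w * y w
      = (if w = vn k then y w else 0) - 2 * (if w = vn (k + 1) then y w else 0)
        + (if w = vn (k + 2) then y w else 0) := by
    intro w
    rw [h.int_row k hk w]
    split_ifs <;> ring
  rw [Finset.sum_congr rfl (fun w _ => h1 w), Finset.sum_add_distrib, Finset.sum_sub_distrib,
    ← Finset.mul_sum, Finset.sum_ite_eq', Finset.sum_ite_eq', Finset.sum_ite_eq']
  simp only [Finset.mem_univ, if_true]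

lemma int_col (h : NChain ends β D n vn en) (k : ℕ) (hk : k + 1 ≤ n) :
    LabGraph.mfMatrix ends β *ᵥ (Pi.single (vn (k + 1)) (1 : ℤ))
      = (Pi.single (vn k) (1 : ℤ) : V → ℤ) - (2 : ℤ) • (Pi.single (vn (k + 1)) (1 : ℤ) : V → ℤ)
        + (Pi.single (vn (k + 2)) (1 : ℤ) : V → ℤ) := by
  rw [mulVec_single']
  funext v
  change LabGraph.mfMatrix ends β v (vn (k + 1)) = _
  rw [mf_symm ends β v (vn (k + 1)), h.int_row k hk v]
  simp only [Pi.add_apply, Pi.sub_apply, Pi.smul_apply, Pi.single_apply, smul_eq_mul]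

/-- the cut of the last edge -/
lemma bridge (h : NChain ends β D n vn en) :
    ∃ S : Finset V, vn (n + 1) ∈ S ∧ (∀ j, j ≤ n → vn j ∉ S) ∧
      ∀ e' : E, ((ends e').1 ∈ S ↔ (ends e').2 ∉ S) ↔ e' = en n := by
  obtain ⟨S0, hS0⟩ := h.hconn
  have key : ∀ S : Finset V,
      (∀ e' : E, ((ends e').1 ∈ S ↔ (ends e').2 ∉ S) ↔ e' = en n) → vn (n + 1) ∈ S →
      ∀ j, j ≤ n → vn j ∉ S := by
    intro S hS hlast
    have hcross := (hS (en n)).mpr rfl
    have hn : vn n ∉ S := by
      rcases h.hends n le_rfl with h1 | h1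
      · rw [h1] at hcross
        dsimp only at hcross
        intro hmem
        exact (hcross.mp hmem) hlast
      · rw [h1] at hcross
        dsimp only at hcross
        exact hcross.mp hlast
    have hstep : ∀ j, j < n → (vn j ∈ S ↔ vn (j + 1) ∈ S) := by
      intro j hj
      have hne : en j ≠ en n := fun h' => by
        have := h.einj j n (by omega) le_rfl h'
        omega
      have hnc := (not_congr (hS (en j))).mpr hne
      rcases h.hends j (by omega) with h1 | h1
      · rw [h1] at hnc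
        dsimp only at hnc
        tauto
      · rw [h1] at hnc
        dsimp only at hnc
        tauto
    intro j hj
    obtain ⟨d, hd⟩ : ∃ d, j + d = n := ⟨n - j, by omega⟩
    induction d generalizing j with
    | zero =>
      have hjn : j = n := by omega
      rw [hjn]; exact hn
    | succ d ih =>
      have h1 := ih (j + 1) (by omega) (by omega)
      intro hmem
      exact h1 ((hstep j (by omega)).mp hmem)
  by_cases hl : vn (n + 1) ∈ S0
  · exact ⟨S0, hl, key S0 hS0 hl, hS0⟩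
  · have hS0c : ∀ e' : E, ((ends e').1 ∈ S0ᶜ ↔ (ends e').2 ∉ S0ᶜ) ↔ e' = en n := by
      intro e'
      rw [← hS0 e']
      simp only [Finset.mem_compl]
      tauto
    exact ⟨S0ᶜ, Finset.mem_compl.mpr hl, key S0ᶜ hS0c (Finset.mem_compl.mpr hl), hS0c⟩

/-- a vector `g` with `g (vn j) = j` and `α g = e₀ - e_{n+1}` -/
lemma gvec (h : NChain ends β D n vn en) :
    ∃ g : V → ℤ, (∀ j, j ≤ n + 1 → g (vn j) = (j : ℤ)) ∧
      LabGraph.mfMatrix ends β *ᵥ g
        = (Pi.single (vn 0) (1 : ℤ) : V → ℤ) - Pi.single (vn (n + 1)) (1 : ℤ) := by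
  obtain ⟨S, hlast, hS0, hS⟩ := h.bridge
  obtain ⟨γ, hγ⟩ : ∃ γ : V → ℤ, ∀ v, γ v = if v ∈ S then β v else 0 := ⟨_, fun _ => rfl⟩
  obtain ⟨c, hc⟩ : ∃ c : V → ℤ,
      c = ∑ k ∈ range n, ((k : ℤ) + 1) • (Pi.single (vn (k + 1)) (1 : ℤ) : V → ℤ) := ⟨_, rfl⟩
  have hαγ : LabGraph.mfMatrix ends β *ᵥ γ
      = ((n : ℤ) + 1) • ((Pi.single (vn n) (1 : ℤ) : V → ℤ) - Pi.single (vn (n + 1)) (1 : ℤ)) := by
    have hγf : γ = fun v => if v ∈ S then β v else 0 := funext hγ
    rw [hγf, bridge_vec ends β h.hβ hS (h.hends n le_rfl) (hS0 n le_rfl) hlast]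
    funext v
    simp only [Pi.smul_apply, Pi.sub_apply, Pi.single_apply, smul_eq_mul]
    rw [h.hβm n (by omega), h.hβm (n + 1) le_rfl]
    split_ifs <;> ring
  have hαc : LabGraph.mfMatrix ends β *ᵥ c
      = (Pi.single (vn 0) (1 : ℤ) : V → ℤ) - ((n : ℤ) + 1) • (Pi.single (vn n) (1 : ℤ) : V → ℤ)
        + (n : ℤ) • (Pi.single (vn (n + 1)) (1 : ℤ) : V → ℤ) := by
    rw [← telescope (fun i => (Pi.single (vn i) (1 : ℤ) : V → ℤ)) n]
    rw [← Matrix.mulVecLin_apply, hc, map_sum]
    refine Finset.sum_congr rfl (fun k hk => ?_)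
    rw [map_smul, Matrix.mulVecLin_apply,
      h.int_col k (by have := Finset.mem_range.mp hk; omega)]
  refine ⟨c + γ, ?_, ?_⟩
  · intro j hj
    have hcj : c (vn j) = if j ≤ n then (j : ℤ) else 0 := by
      rw [hc, Finset.sum_apply]
      simp only [Pi.smul_apply, Pi.single_apply, smul_eq_mul]
      have h1 : ∀ k ∈ range n, ((k : ℤ) + 1) * (if vn j = vn (k + 1) then (1 : ℤ) else 0)
          = if k + 1 = j then (j : ℤ) else 0 := by
        intro k hk
        have hk' := Finset.mem_range.mp hk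
        by_cases hkj : k + 1 = j
        · rw [if_pos hkj, if_pos (by rw [hkj]), ← hkj]
          push_cast; ring
        · rw [if_neg hkj,
            if_neg (fun h' => hkj (h.vinj j (k + 1) hj (by omega) h').symm), mul_zero]
      rw [Finset.sum_congr rfl h1]
      cases j with
      | zero =>
        rw [if_pos (Nat.zero_le n)]
        simp
      | succ j' =>
        by_cases hj' : j' + 1 ≤ n
        · rw [if_pos hj', Finset.sum_eq_single j']
          · simp
          · intro k _ hk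
            rw [if_neg (by omega)]
          · intro h'
            exact absurd (Finset.mem_range.mpr (by omega)) h'
        · rw [if_neg hj']
          apply Finset.sum_eq_zero
          intro k hk
          have := Finset.mem_range.mp hk
          rw [if_neg (by omega)]
    have hγj : γ (vn j) = if j ≤ n then 0 else (n : ℤ) + 1 := by
      rw [hγ]
      by_cases hjn : j ≤ n
      · rw [if_pos hjn, if_neg (hS0 j hjn)]
      · have hje : j = n + 1 := by omega
        rw [if_neg hjn, hje, if_pos hlast, h.hβm (n + 1) le_rfl]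
    rw [Pi.add_apply, hcj, hγj]
    by_cases hjn : j ≤ n
    · rw [if_pos hjn, if_pos hjn, add_zero]
    · have hje : j = n + 1 := by omega
      rw [if_neg hjn, if_neg hjn, hje]
      push_cast; ring
  · rw [Matrix.mulVec_add, hαc, hαγ]
    module

/-- the lower triangle of the matrix on the chain -/
lemma tri (h : NChain ends β D n vn en) : ∀ i j, i < j → j ≤ n + 1 →
    LabGraph.mfMatrix ends β (vn j) (vn i) = if j = i + 1 then 1 else 0 := by
  intro i j hij hj
  cases i with
  | zero =>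
    by_cases hjn : j ≤ n
    · obtain ⟨k, rfl⟩ : ∃ k, j = k + 1 := ⟨j - 1, by omega⟩
      rw [h.int_row k hjn (vn 0)]
      have h1 : vn 0 ≠ vn (k + 1) := h.vne (by omega) (by omega) (by omega)
      have h2 : vn 0 ≠ vn (k + 2) := h.vne (by omega) (by omega) (by omega)
      rw [if_neg h1, if_neg h2]
      by_cases hk : k = 0
      · subst hk
        rw [if_pos rfl, if_pos rfl]; norm_num
      · have h0 : vn 0 ≠ vn k := h.vne (by omega) (by omega) (by omega)
        rw [if_neg h0, if_neg (by omega)]; norm_num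
    · have hjeq : j = n + 1 := by omega
      subst hjeq
      obtain ⟨S, hlast, hS0, hS⟩ := h.bridge
      have hne : vn (n + 1) ≠ vn 0 := h.vne (by omega) (by omega) (by omega)
      rw [mf_off ends β hne, edgeMult_comm ends (vn (n + 1)) (vn 0),
        mu_cross ends hS (h.hends n le_rfl) (hS0 n le_rfl) hlast (hS0 0 (by omega)) hlast]
      by_cases hn0 : n = 0
      · subst hn0
        rw [if_pos (And.intro rfl rfl), if_pos rfl]; simp
      · rw [if_neg (fun h' => hn0 (h.vinj 0 n (by omega) (by omega) h'.1).symm),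
          if_neg (by omega)]; simp
  | succ i =>
    rw [mf_symm ends β (vn j) (vn (i + 1)), h.int_row i (by omega) (vn j)]
    have h1 : vn j ≠ vn i := h.vne hj (by omega) (by omega)
    have h2 : vn j ≠ vn (i + 1) := h.vne hj (by omega) (by omega)
    rw [if_neg h1, if_neg h2]
    by_cases hj2 : j = i + 1 + 1
    · rw [if_pos (by rw [hj2]), if_pos hj2]; norm_num
    · rw [if_neg (fun h' => hj2 (h.vinj j (i + 2) hj (by omega) h')), if_neg hj2]; norm_num

lemma pi_chain (h : NChain ends β D n vn en) : ∀ j, j ≤ n + 1 → cmk (vn j) = cmk (vn 0) := by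
  intro j
  induction j with
  | zero => intro _; rfl
  | succ j ih =>
    intro hj
    rw [← ih (by omega)]
    have hmem : en j ∈ D := (h.hD _).mpr ⟨j, by omega, rfl⟩
    have h1 := DualGr.ctrMk_fst_eq_ctrMk_snd ends D hmem
    rcases h.hends j (by omega) with h2 | h2
    · rw [h2] at h1; exact h1.symm
    · rw [h2] at h1; exact h1

lemma chain_of_eq (h : NChain ends β D n vn en) {v : V} (hv : cmk v = cmk (vn 0)) :
    ∃ j, j ≤ n + 1 ∧ vn j = v := by
  rcases h.hcls v (vn 0) hv with h1 | ⟨h1, _⟩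
  · exact ⟨0, by omega, h1.symm⟩
  · exact h1

lemma single_fibre (h : NChain ends β D n vn en) {v w : V} (hv : cmk v ≠ cmk (vn 0))
    (hw : cmk w = cmk v) : w = v := by
  rcases h.hcls w v hw with h1 | ⟨_, ⟨j, hj, hj'⟩⟩
  · exact h1
  · exfalso
    apply hv
    rw [← hj']
    exact h.pi_chain j hj

lemma lift_push (h : NChain ends β D n vn en) (y : V → ℤ)
    (hy : ∀ j, 1 ≤ j → j ≤ n + 1 → y (vn j) = 0) :
    LabGraph.liftAt ends D (vn 0) (DualGr.pushV ends D y) = y := by
  funext v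
  rw [liftAt_apply]
  by_cases hv : cmk v = cmk (vn 0)
  · by_cases hv0 : v = vn 0
    · rw [if_neg (fun h' => h'.2 hv0), pushV_apply, Finset.sum_eq_single v]
      · intro w hw hwv
        have hw1 : cmk w = cmk (vn 0) := ((Finset.mem_filter.mp hw).2).trans hv
        obtain ⟨j, hj, hjw⟩ := h.chain_of_eq hw1
        rw [← hjw]
        apply hy j _ hj
        by_contra hlt
        have hj0 : j = 0 := by omega
        rw [hj0] at hjw
        exact hwv (hjw.symm.trans hv0.symm)
      · intro h'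
        exact (h' (Finset.mem_filter.mpr ⟨Finset.mem_univ _, rfl⟩)).elim
    · rw [if_pos ⟨hv, hv0⟩]
      obtain ⟨j, hj, hjv⟩ := h.chain_of_eq hv
      rw [← hjv]
      symm
      apply hy j _ hj
      by_contra hlt
      have hj0 : j = 0 := by omega
      rw [hj0] at hjv
      exact hv0 hjv.symm
  · rw [if_neg (fun h' => hv h'.1), pushV_apply, Finset.sum_eq_single v]
    · intro w hw hwv
      exact absurd (h.single_fibre hv (Finset.mem_filter.mp hw).2) hwv
    · intro h'
      exact (h' (Finset.mem_filter.mpr ⟨Finset.mem_univ _, rfl⟩)).elim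

lemma push_lift (h : NChain ends β D n vn en) (x : DualGr.CtrVert ends D → ℤ) :
    DualGr.pushV ends D (LabGraph.liftAt ends D (vn 0) x) = x := by
  funext c
  obtain ⟨v, rfl⟩ := DualGr.ctrMk_surjective ends D c
  rw [pushV_apply]
  by_cases hv : cmk v = cmk (vn 0)
  · rw [hv, Finset.sum_eq_single (vn 0)]
    · rw [liftAt_apply, if_neg (fun h' => h'.2 rfl)]
    · intro w hw hw0
      rw [liftAt_apply, if_pos ⟨(Finset.mem_filter.mp hw).2, hw0⟩]
    · intro h'
      exact (h' (Finset.mem_filter.mpr ⟨Finset.mem_univ _, rfl⟩)).elim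
  · rw [Finset.sum_eq_single v]
    · rw [liftAt_apply, if_neg (fun h' => hv h'.1)]
    · intro w hw hwv
      exact absurd (h.single_fibre hv (Finset.mem_filter.mp hw).2) hwv
    · intro h'
      exact (h' (Finset.mem_filter.mpr ⟨Finset.mem_univ _, rfl⟩)).elim

lemma push_e (h : NChain ends β D n vn en) :
    DualGr.pushV ends D ((Pi.single (vn 0) (1 : ℤ) : V → ℤ) - Pi.single (vn (n + 1)) (1 : ℤ))
      = 0 := by
  rw [map_sub]
  funext c
  show DualGr.pushV ends D (Pi.single (vn 0) (1 : ℤ)) c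
    - DualGr.pushV ends D (Pi.single (vn (n + 1)) (1 : ℤ)) c = 0
  rw [pushV_single, pushV_single, h.pi_chain (n + 1) le_rfl, sub_self]

lemma betaHom_lift (h : NChain ends β D n vn en) (x : DualGr.CtrVert ends D → ℤ) :
    LabGraph.betaHom β (LabGraph.liftAt ends D (vn 0) x)
      = LabGraph.betaHom (LabGraph.ctrFn ends D β) x := by
  rw [← betaHom_push ends β D h.hclsβ (LabGraph.liftAt ends D (vn 0) x), h.push_lift]

/-- `f (im α') ⊆ im α` -/
lemma lift_range (h : NChain ends β D n vn en) (z : DualGr.CtrVert ends D → ℤ) :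
    ∃ g : V → ℤ, LabGraph.mfMatrix ends β *ᵥ g
      = LabGraph.liftAt ends D (vn 0)
          (LabGraph.mfMatrix (DualGr.ctrEnds ends D) (LabGraph.ctrFn ends D β) *ᵥ z) := by
  obtain ⟨g0, _, hg0⟩ := h.gvec
  rw [mulVec_ctr ends β D h.hβ h.hclsβ z]
  obtain ⟨y0, hy0⟩ : ∃ y0 : V → ℤ,
      y0 = LabGraph.mfMatrix ends β *ᵥ (fun v => z (cmk v)) := ⟨_, rfl⟩
  rw [← hy0]
  have hint : ∀ k, k + 1 ≤ n → y0 (vn (k + 1)) = 0 := by
    intro k hk
    rw [hy0, h.row_eval k hk]
    rw [h.pi_chain k (by omega), h.pi_chain (k + 1) (by omega), h.pi_chain (k + 2) (by omega)]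
    ring
  obtain ⟨δ, hδ⟩ : ∃ δ : ℤ, δ = y0 (vn (n + 1)) := ⟨_, rfl⟩
  obtain ⟨E0, hE0⟩ : ∃ E0 : V → ℤ,
      E0 = (Pi.single (vn 0) (1 : ℤ) : V → ℤ) - Pi.single (vn (n + 1)) (1 : ℤ) := ⟨_, rfl⟩
  have hy1 : ∀ j, 1 ≤ j → j ≤ n + 1 → (y0 + δ • E0) (vn j) = 0 := by
    intro j hj1 hj
    have hj0 : vn j ≠ vn 0 := h.vne hj (by omega) (by omega)
    simp only [Pi.add_apply, Pi.smul_apply, hE0, Pi.sub_apply, Pi.single_apply, smul_eq_mul,
      if_neg hj0]
    by_cases hjn : j = n + 1
    · rw [hjn, if_pos rfl, ← hδ]; ring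
    · have hjn' : vn j ≠ vn (n + 1) := h.vne hj le_rfl hjn
      rw [if_neg hjn']
      obtain ⟨k, rfl⟩ : ∃ k, j = k + 1 := ⟨j - 1, by omega⟩
      rw [hint k (by omega)]; ring
  have hpush : DualGr.pushV ends D (y0 + δ • E0) = DualGr.pushV ends D y0 := by
    rw [map_add, map_smul, hE0, h.push_e, smul_zero, add_zero]
  refine ⟨(fun v => z (cmk v)) + δ • g0, ?_⟩
  rw [Matrix.mulVec_add, Matrix.mulVec_smul, hg0, ← hy0, ← hpush, h.lift_push _ hy1, hE0]

/-- killing the coordinates at `vn (k+1), …, vn (n+1)` modulo `im α` -/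
lemma kill (h : NChain ends β D n vn en) : ∀ d k, k + d = n + 1 → ∀ y : V → ℤ,
    ∃ y1 g : V → ℤ, y1 - y = LabGraph.mfMatrix ends β *ᵥ g ∧
      ∀ j, k < j → j ≤ n + 1 → y1 (vn j) = 0 := by
  intro d
  induction d with
  | zero =>
    intro k hk y
    exact ⟨y, 0, by simp, fun j h1 h2 => by omega⟩
  | succ d ih =>
    intro k hk y
    obtain ⟨y1, g, hg, hy1⟩ := ih (k + 1) (by omega) y
    refine ⟨y1 - y1 (vn (k + 1)) • (LabGraph.mfMatrix ends β *ᵥ Pi.single (vn k) (1 : ℤ)),
      g - y1 (vn (k + 1)) • Pi.single (vn k) (1 : ℤ), ?_, ?_⟩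
    · rw [Matrix.mulVec_sub, Matrix.mulVec_smul, ← hg]; abel
    · intro j hkj hj
      simp only [Pi.sub_apply, Pi.smul_apply, smul_eq_mul, mulVec_single']
      rw [h.tri k j hkj hj]
      by_cases hj1 : j = k + 1
      · rw [if_pos hj1, hj1]; ring
      · rw [if_neg hj1, hy1 j (by omega) hj]; ring

/-- surjectivity -/
lemma surj (h : NChain ends β D n vn en) (y : V → ℤ) (hy : LabGraph.betaHom β y = 0) :
    ∃ x : DualGr.CtrVert ends D → ℤ, LabGraph.betaHom (LabGraph.ctrFn ends D β) x = 0 ∧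
      ∃ g : V → ℤ, LabGraph.liftAt ends D (vn 0) x - y = LabGraph.mfMatrix ends β *ᵥ g := by
  obtain ⟨y1, g, hg, hy1⟩ := h.kill (n + 1) 0 (by omega) y
  refine ⟨DualGr.pushV ends D y1, ?_, g, ?_⟩
  · rw [betaHom_push ends β D h.hclsβ]
    have e : y1 = y + LabGraph.mfMatrix ends β *ᵥ g := by rw [← hg]; abel
    rw [e, map_add, hy, betaHom_mulVec ends β h.hβ, add_zero]
  · rw [h.lift_push y1 (fun j h1 h2 => hy1 j (by omega) h2), hg]

/-- injectivity -/
lemma inj (h : NChain ends β D n vn en) (x : DualGr.CtrVert ends D → ℤ) (y : V → ℤ)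
    (hy : LabGraph.mfMatrix ends β *ᵥ y = LabGraph.liftAt ends D (vn 0) x) :
    ∃ z : DualGr.CtrVert ends D → ℤ,
      LabGraph.mfMatrix (DualGr.ctrEnds ends D) (LabGraph.ctrFn ends D β) *ᵥ z = x := by
  obtain ⟨g0, hg0v, hg0⟩ := h.gvec
  have hrow : ∀ k, k + 1 ≤ n → y (vn k) - 2 * y (vn (k + 1)) + y (vn (k + 2)) = 0 := by
    intro k hk
    rw [← h.row_eval k hk y, hy, liftAt_apply,
      if_pos ⟨h.pi_chain (k + 1) (by omega), h.vne (by omega) (by omega) (by omega)⟩]
  obtain ⟨t, ht⟩ : ∃ t : ℤ, t = y (vn 1) - y (vn 0) := ⟨_, rfl⟩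
  have haff : ∀ j, j + 1 ≤ n + 1 → y (vn j) = y (vn 0) + (j : ℤ) * t
      ∧ y (vn (j + 1)) = y (vn 0) + ((j : ℤ) + 1) * t := by
    intro j
    induction j with
    | zero =>
      intro _
      refine ⟨by simp, ?_⟩
      show y (vn 1) = _
      rw [ht]; push_cast; ring
    | succ j ih =>
      intro hj
      obtain ⟨h1, h2⟩ := ih (by omega)
      refine ⟨by rw [h2]; push_cast; ring, ?_⟩
      have h3 := hrow j (by omega)
      have e : vn (j + 1 + 1) = vn (j + 2) := rfl
      rw [e]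
      push_cast
      linarith
  have haff' : ∀ j, j ≤ n + 1 → y (vn j) = y (vn 0) + (j : ℤ) * t := by
    intro j hj
    cases j with
    | zero => simp
    | succ j =>
      rw [(haff j (by omega)).2]; push_cast; ring
  obtain ⟨y', hy'⟩ : ∃ y' : V → ℤ, y' = y - t • g0 := ⟨_, rfl⟩
  have hy'c : ∀ j, j ≤ n + 1 → y' (vn j) = y (vn 0) := by
    intro j hj
    rw [hy']
    simp only [Pi.sub_apply, Pi.smul_apply, smul_eq_mul]
    rw [haff' j hj, hg0v j hj]; ring
  obtain ⟨z, hz⟩ : ∃ z : DualGr.CtrVert ends D → ℤ, ∀ v, z (cmk v) = y' v := by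
    refine ⟨fun c => y' (Quotient.out (s := DualGr.ctrSetoid ends D) c), fun v => ?_⟩
    have h1 : cmk (Quotient.out (s := DualGr.ctrSetoid ends D) (cmk v)) = cmk v :=
      Quotient.out_eq _
    show y' (Quotient.out (s := DualGr.ctrSetoid ends D) (cmk v)) = y' v
    rcases h.hcls _ _ h1 with h2 | ⟨⟨i, hi, hi'⟩, ⟨j, hj, hj'⟩⟩
    · rw [h2]
    · rw [← hi', ← hj', hy'c i hi, hy'c j hj]
  refine ⟨z, ?_⟩
  rw [mulVec_ctr ends β D h.hβ h.hclsβ z]
  have e : (fun v => z (cmk v)) = y' := funext hz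
  rw [e, hy', Matrix.mulVec_sub, Matrix.mulVec_smul, hy, hg0, map_sub, map_smul, h.push_lift,
    h.push_e, smul_zero, sub_zero]

end NChain

/-- the lift as a linear map -/
noncomputable def liftLin (ends : E → V × V) (D : Finset E) (v₀ : V) :
    (DualGr.CtrVert ends D → ℤ) →ₗ[ℤ] (V → ℤ) where
  toFun x := LabGraph.liftAt ends D v₀ x
  map_add' x x' := by
    funext v
    simp only [liftAt_apply, Pi.add_apply]
    split_ifs <;> simp
  map_smul' c x := by
    funext v
    simp only [liftAt_apply, Pi.smul_apply, smul_eq_mul, RingHom.id_apply]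
    split_ifs <;> simp

theorem NChain.main (h : NChain ends β D n vn en) :
    ∃ φ : LabGraph.CompGrp (DualGr.ctrEnds ends D) (LabGraph.ctrFn ends D β) →+
        LabGraph.CompGrp ends β,
      Function.Surjective φ ∧
      ∀ (x : LinearMap.ker (LabGraph.betaHom (LabGraph.ctrFn ends D β)))
        (y : LinearMap.ker (LabGraph.betaHom β)),
        (y : V → ℤ) = LabGraph.liftAt ends D (vn 0) (x : DualGr.CtrVert ends D → ℤ) →
        φ (Submodule.Quotient.mk x) = Submodule.Quotient.mk y := by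
  have hK : ∀ x ∈ LinearMap.ker (LabGraph.betaHom (LabGraph.ctrFn ends D β)),
      liftLin ends D (vn 0) x ∈ LinearMap.ker (LabGraph.betaHom β) := by
    intro x hx
    rw [LinearMap.mem_ker] at hx ⊢
    show LabGraph.betaHom β (LabGraph.liftAt ends D (vn 0) x) = 0
    rw [h.betaHom_lift, hx]
  obtain ⟨L, hL⟩ : ∃ L : LinearMap.ker (LabGraph.betaHom (LabGraph.ctrFn ends D β)) →ₗ[ℤ]
        LinearMap.ker (LabGraph.betaHom β),
      ∀ x, (L x : V → ℤ) = LabGraph.liftAt ends D (vn 0) (x : DualGr.CtrVert ends D → ℤ) :=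
    ⟨(liftLin ends D (vn 0)).restrict hK, fun x => rfl⟩
  have hN : (LinearMap.range (Matrix.mulVecLin
        (LabGraph.mfMatrix (DualGr.ctrEnds ends D) (LabGraph.ctrFn ends D β)))).comap
        (LinearMap.ker (LabGraph.betaHom (LabGraph.ctrFn ends D β))).subtype
      ≤ ((LinearMap.range (Matrix.mulVecLin (LabGraph.mfMatrix ends β))).comap
        (LinearMap.ker (LabGraph.betaHom β)).subtype).comap L := by
    intro x hx
    rw [Submodule.mem_comap, LinearMap.mem_range] at hx
    rw [Submodule.mem_comap, Submodule.mem_comap, LinearMap.mem_range]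
    obtain ⟨z, hz⟩ := hx
    obtain ⟨g, hg⟩ := h.lift_range z
    refine ⟨g, ?_⟩
    rw [Matrix.mulVecLin_apply] at hz ⊢
    rw [hg, hz]
    exact (hL x).symm
  refine ⟨(Submodule.mapQ _ _ L hN).toAddMonoidHom, ?_, ?_⟩
  · intro q
    obtain ⟨y, rfl⟩ := Submodule.Quotient.mk_surjective _ q
    obtain ⟨x, hx0, g, hg⟩ := h.surj y.1 (LinearMap.mem_ker.mp y.2)
    refine ⟨Submodule.Quotient.mk ⟨x, LinearMap.mem_ker.mpr hx0⟩, ?_⟩
    show Submodule.mapQ _ _ L hN (Submodule.Quotient.mk _) = _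
    rw [Submodule.mapQ_apply, Submodule.Quotient.eq, Submodule.mem_comap, LinearMap.mem_range]
    refine ⟨g, ?_⟩
    rw [Matrix.mulVecLin_apply, ← hg]
    show _ = (L ⟨x, _⟩ : V → ℤ) - (y : V → ℤ)
    rw [hL]
  · intro x y hxy
    show Submodule.mapQ _ _ L hN (Submodule.Quotient.mk x) = _
    rw [Submodule.mapQ_apply]
    congr 1
    apply Subtype.ext
    rw [hL, hxy]

/-- ℕ-indexed chain data from the `Fin`-indexed hypotheses -/
lemma exists_nchain (ends : E → V × V) (β : V → ℤ) (hβ : LabGraph.IsMultFn ends β) (n : ℕ)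
    (f : Fin (n + 1 + 1) → V) (e : Fin (n + 1) → E) (hC : LabGraph.IsChain ends f e)
    (hconn : ∀ i, LabGraph.IsConnecting ends (e i)) (hβm : ∀ i, β (f i) = ((n + 1 : ℕ) : ℤ))
    (hα : ∀ i, LabGraph.mfMatrix ends β (f i) (f i) = -2) :
    ∃ (vn : ℕ → V) (en : ℕ → E), NChain ends β (univ.image e) n vn en ∧ vn 0 = f 0 := by
  obtain ⟨vn, hvn⟩ : ∃ vn : ℕ → V,
      ∀ j, vn j = f ⟨j % (n + 1 + 1), Nat.mod_lt _ (Nat.succ_pos _)⟩ := ⟨_, fun _ => rfl⟩
  obtain ⟨en, hen⟩ : ∃ en : ℕ → E,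
      ∀ j, en j = e ⟨j % (n + 1), Nat.mod_lt _ (Nat.succ_pos _)⟩ := ⟨_, fun _ => rfl⟩
  have hv' : ∀ j (hj : j ≤ n + 1), vn j = f ⟨j, by omega⟩ := by
    intro j hj
    rw [hvn]
    congr 1
    exact Fin.ext (Nat.mod_eq_of_lt (by omega))
  have he' : ∀ j (hj : j ≤ n), en j = e ⟨j, by omega⟩ := by
    intro j hj
    rw [hen]
    congr 1
    exact Fin.ext (Nat.mod_eq_of_lt (by omega))
  refine ⟨vn, en, ?_, ?_⟩
  · constructor
    · exact hβ
    · intro i j hi hj hij
      rw [hv' i hi, hv' j hj] at hij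
      have := hC.1 hij
      simpa using this
    · intro i hi
      rw [he' i hi, hv' i (by omega), hv' (i + 1) (by omega)]
      exact hC.2.2 ⟨i, by omega⟩
    · intro i j hi hj hij
      rw [he' i hi, he' j hj] at hij
      have := hC.2.1 hij
      simpa using this
    · intro e'
      rw [Finset.mem_image]
      constructor
      · rintro ⟨i, _, rfl⟩
        exact ⟨i.1, by have := i.2; omega, by rw [he' i.1 (by have := i.2; omega)]⟩
      · rintro ⟨i, hi, rfl⟩
        exact ⟨⟨i, by omega⟩, mem_univ _, (he' i hi).symm⟩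
    · rw [he' n le_rfl]; exact hconn _
    · intro i hi
      rw [hv' i hi, hβm]; simp
    · intro i hi
      rw [hv' i hi]; exact hα _
    · intro v w hvw
      rcases ctr_eq_imp ends f e hC hvw with h1 | ⟨⟨i, hi⟩, ⟨j, hj⟩⟩
      · left; exact h1
      · right
        refine ⟨⟨i.1, by have := i.2; omega, ?_⟩, ⟨j.1, by have := j.2; omega, ?_⟩⟩
        · rw [hv' i.1 (by have := i.2; omega)]; exact hi
        · rw [hv' j.1 (by have := j.2; omega)]; exact hj
  · rw [hv' 0 (by omega)]; rfl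

theorem main14801 (ends : E → V × V) (β : V → ℤ) (hβ : LabGraph.IsMultFn ends β) (n : ℕ)
    (f : Fin (n + 1 + 1) → V) (e : Fin (n + 1) → E) (hC : LabGraph.IsChain ends f e)
    (hconn : ∀ i, LabGraph.IsConnecting ends (e i)) (hβm : ∀ i, β (f i) = ((n + 1 : ℕ) : ℤ))
    (hα : ∀ i, LabGraph.mfMatrix ends β (f i) (f i) = -2) :
    ∃ φ : LabGraph.CompGrp (DualGr.ctrEnds ends (univ.image e))
        (LabGraph.ctrFn ends (univ.image e) β) →+ LabGraph.CompGrp ends β,
      Function.Surjective φ ∧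
      ∀ (x : LinearMap.ker (LabGraph.betaHom (LabGraph.ctrFn ends (univ.image e) β)))
        (y : LinearMap.ker (LabGraph.betaHom β)),
        (y : V → ℤ) = LabGraph.liftAt ends (univ.image e) (f 0)
          (x : DualGr.CtrVert ends (univ.image e) → ℤ) →
        φ (Submodule.Quotient.mk x) = Submodule.Quotient.mk y := by
  obtain ⟨vn, en, hN, h0⟩ := exists_nchain ends β hβ n f e hC hconn hβm hα
  rw [← h0]
  exact hN.main

theorem main14802 (ends : E → V × V) (β : V → ℤ) (hβ : LabGraph.IsMultFn ends β) (n : ℕ)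
    (f : Fin (n + 1 + 1) → V) (e : Fin (n + 1) → E) (hC : LabGraph.IsChain ends f e)
    (hconn : ∀ i, LabGraph.IsConnecting ends (e i)) (hβm : ∀ i, β (f i) = ((n + 1 : ℕ) : ℤ))
    (hα : ∀ i, LabGraph.mfMatrix ends β (f i) (f i) = -2)
    (x : DualGr.CtrVert ends (univ.image e) → ℤ)
    (hfx : LabGraph.liftAt ends (univ.image e) (f 0) x ∈
      LinearMap.range (Matrix.mulVecLin (LabGraph.mfMatrix ends β))) :
    x ∈ LinearMap.range (Matrix.mulVecLin
      (LabGraph.mfMatrix (DualGr.ctrEnds ends (univ.image e))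
        (LabGraph.ctrFn ends (univ.image e) β))) := by
  obtain ⟨vn, en, hN, h0⟩ := exists_nchain ends β hβ n f e hC hconn hβm hα
  rw [← h0] at hfx
  rw [LinearMap.mem_range] at hfx
  obtain ⟨y, hy⟩ := hfx
  rw [Matrix.mulVecLin_apply] at hy
  obtain ⟨z, hz⟩ := hN.inj x y hy
  exact LinearMap.mem_range.mpr ⟨z, by rw [Matrix.mulVecLin_apply]; exact hz⟩

end Groth.Agent.Lib.ChainCtrH1
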