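import Mathlib

/-!
# Refined Noether normalization (helper3)

Nagata's trick in the form: for `F ≠ 0` a non-unit of `k[X_0..X_d]` there is a finite
endomorphism `ψ` of `k[X_0..X_d]` with `ψ X_0 = F`; extension to a larger polynomial ring;
refined Noether normalization for a prime of `k[X_1..X_n]`.
We reuse the (private) key lemma of Mathlib's proof of Noether normalization.
-/

open private NoetherNormalization.T NoetherNormalization.T_leadingcoeff_isUnit
  from Mathlib.RingTheory.NoetherNormalization

set_option autoImplicit false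

namespace Groth.Agent.Lib.RefinedNoether

open MvPolynomial

section nagata

variable {k : Type*} [Field k] {d : ℕ}

/-- the inverse of `finSuccEquiv` as an `eval₂`. -/
lemma eval₂_finSuccEquiv (x : MvPolynomial (Fin (d + 1)) k) :
    Polynomial.eval₂ (rename Fin.succ : MvPolynomial (Fin d) k →ₐ[k] _).toRingHom (X 0)
      (finSuccEquiv k d x) = x := by
  have h : (Polynomial.eval₂RingHom
      (rename Fin.succ : MvPolynomial (Fin d) k →ₐ[k] MvPolynomial (Fin (d + 1)) k).toRingHom
        (X 0)).comp (finSuccEquiv k d).toRingEquiv.toRingHom = RingHom.id _ := by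
    apply MvPolynomial.ringHom_ext
    · intro a
      simp [finSuccEquiv_apply]
    · intro i
      refine Fin.cases ?_ (fun j => ?_) i
      · simp [finSuccEquiv_X_zero]
      · simp [finSuccEquiv_X_succ]
  exact RingHom.congr_fun h x

/-- the endomorphism `X_0 ↦ F`, `X_i ↦ T⁻¹ X_i`. -/
noncomputable def psi (F : MvPolynomial (Fin (d + 1)) k) :
    MvPolynomial (Fin (d + 1)) k →ₐ[k] MvPolynomial (Fin (d + 1)) k :=
  aeval fun i => if i = 0 then F else NoetherNormalization.T1 F (-1) (X i)

lemma psi_X_zero (F : MvPolynomial (Fin (d + 1)) k) : psi F (X 0) = F := by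
  simp [psi]

lemma psi_X_succ (F : MvPolynomial (Fin (d + 1)) k) (i : Fin d) :
    psi F (X i.succ) = NoetherNormalization.T1 F (-1) (X i.succ) := by
  simp [psi, Fin.succ_ne_zero]

lemma psi_rename_succ (F : MvPolynomial (Fin (d + 1)) k) (c : MvPolynomial (Fin d) k) :
    psi F (rename Fin.succ c) = NoetherNormalization.T1 F (-1) (rename Fin.succ c) := by
  have h : (psi F).comp (rename Fin.succ) =
      (NoetherNormalization.T1 F (-1)).comp (rename Fin.succ) := by
    apply MvPolynomial.algHom_ext
    intro i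
    simp only [AlgHom.coe_comp, Function.comp_apply, rename_X]
    exact psi_X_succ F i
  exact AlgHom.congr_fun h c

lemma T1_neg_T1 (F x : MvPolynomial (Fin (d + 1)) k) :
    NoetherNormalization.T1 F (-1) (NoetherNormalization.T1 F 1 x) = x :=
  (NoetherNormalization.T F).symm_apply_apply x

lemma T1_neg_X_zero (F : MvPolynomial (Fin (d + 1)) k) :
    NoetherNormalization.T1 F (-1) (X 0) = X 0 := by
  simp [NoetherNormalization.T1]

lemma isUnit_of_natDegree_eq_zero (F : MvPolynomial (Fin (d + 1)) k) (hF : F ≠ 0)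
    (h0 : (finSuccEquiv k d (NoetherNormalization.T1 F 1 F)).natDegree = 0) : IsUnit F := by
  have hu := NoetherNormalization.T_leadingcoeff_isUnit F hF
  have hP : finSuccEquiv k d (NoetherNormalization.T1 F 1 F) =
      Polynomial.C (finSuccEquiv k d (NoetherNormalization.T1 F 1 F)).leadingCoeff := by
    conv_lhs => rw [Polynomial.eq_C_of_natDegree_eq_zero h0]
    rw [Polynomial.leadingCoeff, h0]
  have h1 : IsUnit (finSuccEquiv k d (NoetherNormalization.T1 F 1 F)) := by
    rw [hP]
    exact Polynomial.isUnit_C.mpr hu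
  have h2 : IsUnit (NoetherNormalization.T1 F 1 F) := by
    have := h1.map (finSuccEquiv k d).symm
    simpa using this
  have h3 := h2.map (NoetherNormalization.T1 F (-1))
  rwa [T1_neg_T1] at h3

/-- `X 0` is integral over the image of `psi F`. -/
lemma psi_isIntegralElem_X_zero (F : MvPolynomial (Fin (d + 1)) k) (hF : F ≠ 0)
    (hu : ¬ IsUnit F) : (psi F).toRingHom.IsIntegralElem (X 0) := by
  classical
  set P := finSuccEquiv k d (NoetherNormalization.T1 F 1 F) with hP
  set ρ : MvPolynomial (Fin d) k →+* MvPolynomial (Fin (d + 1)) k :=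
    (rename Fin.succ : MvPolynomial (Fin d) k →ₐ[k] _).toRingHom with hρ
  have hρinj : Function.Injective ρ := rename_injective _ (Fin.succ_injective d)
  have hlc : IsUnit P.leadingCoeff := NoetherNormalization.T_leadingcoeff_isUnit F hF
  have hdeg : 0 < P.natDegree := by
    rcases Nat.eq_zero_or_pos P.natDegree with h0 | h0
    · exact absurd (isUnit_of_natDegree_eq_zero F hF h0) hu
    · exact h0
  set p : Polynomial (MvPolynomial (Fin (d + 1)) k) := P.map ρ - Polynomial.C (X 0) with hp
  have hev : Polynomial.eval₂ (psi F).toRingHom (X 0) p = 0 := by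
    rw [hp, Polynomial.eval₂_sub, Polynomial.eval₂_C, Polynomial.eval₂_map]
    have hcomp : (psi F).toRingHom.comp ρ =
        (NoetherNormalization.T1 F (-1)).toRingHom.comp ρ :=
      RingHom.ext fun c => psi_rename_succ F c
    have h1 : Polynomial.eval₂ ((psi F).toRingHom.comp ρ) (X 0) P =
        NoetherNormalization.T1 F (-1) (Polynomial.eval₂ ρ (X 0) P) := by
      rw [hcomp]
      have h2 := Polynomial.hom_eval₂ P ρ (NoetherNormalization.T1 F (-1)).toRingHom (X 0)
      rw [show ((NoetherNormalization.T1 F (-1)).toRingHom (X 0)) = X 0 from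
        T1_neg_X_zero F] at h2
      exact h2.symm
    rw [h1, hρ, hP, eval₂_finSuccEquiv, T1_neg_T1]
    show F - psi F (X 0) = 0
    rw [psi_X_zero, sub_self]
  have hdegmap : (P.map ρ).natDegree = P.natDegree := Polynomial.natDegree_map_eq_of_injective hρinj P
  have hlt : (Polynomial.C (X 0 : MvPolynomial (Fin (d + 1)) k)).degree < (P.map ρ).degree := by
    refine lt_of_le_of_lt Polynomial.degree_C_le ?_
    rw [Polynomial.degree_eq_natDegree (by
      intro h0
      rw [h0, Polynomial.natDegree_zero] at hdegmap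
      omega), hdegmap]
    exact_mod_cast hdeg
  have hlcp : p.leadingCoeff = ρ P.leadingCoeff := by
    rw [hp, Polynomial.leadingCoeff_sub_of_degree_lt hlt,
      Polynomial.leadingCoeff_map_of_injective hρinj]
  have hlcu : IsUnit p.leadingCoeff := by
    rw [hlcp]; exact hlc.map ρ
  refine ⟨hlcu.unit⁻¹ • p, Polynomial.monic_of_isUnit_leadingCoeff_inv_smul hlcu, ?_⟩
  rw [Units.smul_def, Polynomial.eval₂_smul, hev, mul_zero]

lemma isIntegralElem_pow {R S : Type*} [CommRing R] [CommRing S] (f : R →+* S) {x : S}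
    (hx : f.IsIntegralElem x) (m : ℕ) : f.IsIntegralElem (x ^ m) := by
  induction m with
  | zero =>
    rw [pow_zero]
    have := f.isIntegralElem_map (x := 1)
    rwa [map_one] at this
  | succ m ih => rw [pow_succ]; exact RingHom.IsIntegralElem.mul _ ih hx

lemma psi_isIntegralElem_X (F : MvPolynomial (Fin (d + 1)) k) (hF : F ≠ 0) (hu : ¬ IsUnit F)
    (i : Fin (d + 1)) : (psi F).toRingHom.IsIntegralElem (X i) := by
  refine Fin.cases ?_ (fun j => ?_) i
  · exact psi_isIntegralElem_X_zero F hF hu
  · have h0 := psi_isIntegralElem_X_zero F hF hu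
    have h1 : (X j.succ : MvPolynomial (Fin (d + 1)) k) =
        (psi F).toRingHom (X j.succ) + X 0 ^ ((2 + F.totalDegree) ^ (j.succ : ℕ)) := by
      show _ = psi F (X j.succ) + _
      rw [psi_X_succ]
      simp [NoetherNormalization.T1, Fin.succ_ne_zero]
    rw [h1]
    exact RingHom.IsIntegralElem.add _ ((psi F).toRingHom.isIntegralElem_map)
      (isIntegralElem_pow _ h0 _)

/-- an algebra map between polynomial rings is integral as soon as the variables are. -/
lemma isIntegral_of_X {σ τ : Type*} (θ : MvPolynomial σ k →ₐ[k] MvPolynomial τ k)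
    (h : ∀ j, θ.toRingHom.IsIntegralElem (X j)) : θ.toRingHom.IsIntegral := by
  intro x
  induction x using MvPolynomial.induction_on with
  | C a =>
    have h1 := θ.toRingHom.isIntegralElem_map (x := C a)
    have h2 : θ.toRingHom (C a) = C a := θ.commutes a
    rwa [h2] at h1
  | add p q hp hq => exact RingHom.IsIntegralElem.add _ hp hq
  | mul_X p i hp => exact RingHom.IsIntegralElem.mul _ hp (h i)

lemma finite_of_X {σ τ : Type*} [Finite τ] (θ : MvPolynomial σ k →ₐ[k] MvPolynomial τ k)
    (h : ∀ j, θ.toRingHom.IsIntegralElem (X j)) : θ.toRingHom.Finite := by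
  refine RingHom.IsIntegral.to_finite (isIntegral_of_X θ h) ?_
  refine RingHom.FiniteType.of_comp_finiteType (f := algebraMap k (MvPolynomial σ k)) ?_
  have h1 : θ.toRingHom.comp (algebraMap k (MvPolynomial σ k)) =
      algebraMap k (MvPolynomial τ k) := θ.comp_algebraMap
  rw [h1]
  exact RingHom.finiteType_algebraMap.mpr inferInstance

/-- **Step lemma**: inside a polynomial ring `k[X_j : j ∈ σ]`, given a nonzero non-unit
polynomial `F` in the variables `e 0, …, e d`, there is a finite endomorphism `θ` with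
`θ (X (e 0)) = F` fixing every variable outside the range of `e`. -/
theorem exists_step {σ : Type*} [Finite σ] (e : Fin (d + 1) → σ) (he : Function.Injective e)
    (F : MvPolynomial (Fin (d + 1)) k) (hF : F ≠ 0) (hu : ¬ IsUnit F) :
    ∃ θ : MvPolynomial σ k →ₐ[k] MvPolynomial σ k, θ.toRingHom.Finite ∧
      θ (X (e 0)) = rename e F ∧ ∀ j, j ∉ Set.range e → θ (X j) = X j := by
  classical
  let θ : MvPolynomial σ k →ₐ[k] MvPolynomial σ k :=
    aeval (Function.extend e (fun i => rename e (psi F (X i))) X)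
  have hθe : ∀ i, θ (X (e i)) = rename e (psi F (X i)) := by
    intro i
    simp only [θ, aeval_X]
    exact he.extend_apply _ _ i
  have hθn : ∀ j, j ∉ Set.range e → θ (X j) = X j := by
    intro j hj
    simp only [θ, aeval_X]
    exact Function.extend_apply' _ _ j (by simpa using hj)
  have hcomm : θ.comp (rename e) = (rename e).comp (psi F) := by
    apply MvPolynomial.algHom_ext
    intro i
    simp only [AlgHom.coe_comp, Function.comp_apply, rename_X]
    exact hθe i
  refine ⟨θ, finite_of_X θ ?_, ?_, hθn⟩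
  · intro j
    by_cases hj : j ∈ Set.range e
    · obtain ⟨i, rfl⟩ := hj
      have h1 := (psi_isIntegralElem_X F hF hu i).map
        (rename e : MvPolynomial (Fin (d + 1)) k →ₐ[k] MvPolynomial σ k).toRingHom
      have h2 : (rename e : MvPolynomial (Fin (d + 1)) k →ₐ[k] MvPolynomial σ k).toRingHom.comp
          (psi F).toRingHom = θ.toRingHom.comp
            (rename e : MvPolynomial (Fin (d + 1)) k →ₐ[k] MvPolynomial σ k).toRingHom := by
        have := congrArg AlgHom.toRingHom hcomm
        exact this.symm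
      rw [h2] at h1
      have h3 := RingHom.IsIntegralElem.of_comp h1
      have h4 : (rename e : MvPolynomial (Fin (d + 1)) k →ₐ[k] MvPolynomial σ k).toRingHom (X i) =
          X (e i) := rename_X e i
      rwa [h4] at h3
    · have h1 := θ.toRingHom.isIntegralElem_map (x := X j)
      rw [show θ.toRingHom (X j) = X j from hθn j hj] at h1
      exact h1
  · rw [hθe, psi_X_zero]

end nagata

section main

universe u
variable {k : Type u} [Field k] {n : ℕ}

open Cardinal

/-- the injective algebra map `S/φ⁻¹q → κ(q)`. -/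
noncomputable def iotaHom (q : Ideal (MvPolynomial (Fin n) k)) [q.IsPrime]
    (φ : MvPolynomial (Fin n) k →ₐ[k] MvPolynomial (Fin n) k) :
    (MvPolynomial (Fin n) k ⧸ q.comap φ) →ₐ[k] q.ResidueField :=
  (IsScalarTower.toAlgHom k (MvPolynomial (Fin n) k ⧸ q) q.ResidueField).comp
    (Ideal.quotientMapₐ q φ le_rfl)

lemma iotaHom_injective (q : Ideal (MvPolynomial (Fin n) k)) [q.IsPrime]
    (φ : MvPolynomial (Fin n) k →ₐ[k] MvPolynomial (Fin n) k) :
    Function.Injective (iotaHom q φ) := by
  refine (FaithfulSMul.algebraMap_injective (MvPolynomial (Fin n) k ⧸ q) q.ResidueField).comp ?_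
  have h : Function.Injective (Ideal.quotientMap q
      (φ : MvPolynomial (Fin n) k →+* MvPolynomial (Fin n) k) (le_refl (q.comap φ))) :=
    Ideal.quotientMap_injective' (le_refl (q.comap φ))
  exact h

lemma trdeg_quot_eq (q : Ideal (MvPolynomial (Fin n) k)) [q.IsPrime]
    (φ : MvPolynomial (Fin n) k →ₐ[k] MvPolynomial (Fin n) k) (hφ : φ.toRingHom.Finite) :
    Algebra.trdeg k (MvPolynomial (Fin n) k ⧸ q.comap φ) = Algebra.trdeg k q.ResidueField := by
  letI : Algebra (MvPolynomial (Fin n) k ⧸ q.comap φ) q.ResidueField :=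
    (iotaHom q φ).toRingHom.toAlgebra
  haveI : IsScalarTower k (MvPolynomial (Fin n) k ⧸ q.comap φ) q.ResidueField :=
    IsScalarTower.of_algebraMap_eq (fun x => ((iotaHom q φ).commutes x).symm)
  haveI : FaithfulSMul (MvPolynomial (Fin n) k ⧸ q.comap φ) q.ResidueField :=
    (faithfulSMul_iff_algebraMap_injective _ _).mpr (iotaHom_injective q φ)
  haveI : Algebra.IsAlgebraic (MvPolynomial (Fin n) k ⧸ q.comap φ) q.ResidueField := by
    letI : Algebra (MvPolynomial (Fin n) k ⧸ q.comap φ) (MvPolynomial (Fin n) k ⧸ q) :=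
      (Ideal.quotientMap q (φ : MvPolynomial (Fin n) k →+* MvPolynomial (Fin n) k)
        le_rfl).toAlgebra
    haveI : IsScalarTower (MvPolynomial (Fin n) k ⧸ q.comap φ) (MvPolynomial (Fin n) k ⧸ q)
        q.ResidueField := IsScalarTower.of_algebraMap_eq (fun x => rfl)
    have hint : (Ideal.quotientMap q (φ : MvPolynomial (Fin n) k →+* MvPolynomial (Fin n) k)
        le_rfl).IsIntegral := RingHom.IsIntegral.quotient _ hφ.to_isIntegral
    haveI : Algebra.IsIntegral (MvPolynomial (Fin n) k ⧸ q.comap φ)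
        (MvPolynomial (Fin n) k ⧸ q) := ⟨fun x => hint x⟩
    exact Algebra.IsIntegral.trans_isAlgebraic (MvPolynomial (Fin n) k ⧸ q.comap φ)
      (MvPolynomial (Fin n) k ⧸ q) q.ResidueField
  have h := trdeg_add_eq k (MvPolynomial (Fin n) k ⧸ q.comap φ) (A := q.ResidueField)
  rw [trdeg_eq_zero (R := MvPolynomial (Fin n) k ⧸ q.comap φ) (A := q.ResidueField),
    add_zero] at h
  exact h

lemma exists_rel (q : Ideal (MvPolynomial (Fin n) k)) [q.IsPrime] (r : ℕ)
    (hr : Algebra.trdeg k q.ResidueField = r)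
    (φ : MvPolynomial (Fin n) k →ₐ[k] MvPolynomial (Fin n) k) {d : ℕ}
    (e : Fin (d + 1) → Fin n) (hd : r < d + 1) :
    ∃ F : MvPolynomial (Fin (d + 1)) k, F ≠ 0 ∧ rename e F ∈ q.comap φ := by
  by_contra hcon
  push_neg at hcon
  have hind : AlgebraicIndependent k
      (fun i : Fin (d + 1) => (Ideal.Quotient.mk (q.comap φ)) (X (e i))) := by
    rw [algebraicIndependent_iff]
    intro F hF0
    by_contra hne
    apply hcon F hne
    have h : (aeval (fun i : Fin (d + 1) => (Ideal.Quotient.mk (q.comap φ)) (X (e i))) :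
        MvPolynomial (Fin (d + 1)) k →ₐ[k] _) =
        (Ideal.Quotient.mkₐ k (q.comap φ)).comp (rename e) := by
      apply MvPolynomial.algHom_ext
      intro i
      simp
    rw [h] at hF0
    exact Ideal.Quotient.eq_zero_iff_mem.mp hF0
  have h1 := hind.lift_cardinalMk_le_trdeg
  have h2 : Algebra.trdeg k (MvPolynomial (Fin n) k ⧸ q.comap φ) ≤ Algebra.trdeg k q.ResidueField :=
    trdeg_le_of_injective (iotaHom q φ) (iotaHom_injective q φ)
  rw [hr] at h2
  simp only [mk_fintype, Fintype.card_fin, lift_natCast, lift_uzero] at h1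
  have h3 := h1.trans h2
  have h4 : d + 1 ≤ r := by exact_mod_cast h3
  omega

lemma exists_finite_of_card (q : Ideal (MvPolynomial (Fin n) k)) [q.IsPrime] (r : ℕ)
    (hr : Algebra.trdeg k q.ResidueField = r) (c : ℕ) (hc : c + r ≤ n) :
    ∃ (D : Finset (Fin n)) (φ : MvPolynomial (Fin n) k →ₐ[k] MvPolynomial (Fin n) k),
      D.card = c ∧ φ.toRingHom.Finite ∧ ∀ i ∈ D, φ (X i) ∈ q := by
  classical
  induction c with
  | zero => exact ⟨∅, AlgHom.id k _, rfl, RingHom.Finite.id _, by simp⟩
  | succ c ih =>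
    obtain ⟨D, φ, hD, hφ, hq⟩ := ih (by omega)
    have hcard : (Dᶜ).card = n - c := by rw [Finset.card_compl, Fintype.card_fin, hD]
    obtain ⟨d, hd⟩ : ∃ d, n - c = d + 1 := ⟨n - c - 1, by omega⟩
    let e' : Fin (d + 1) ↪o Fin n := (Dᶜ).orderEmbOfFin (by rw [hcard, hd])
    let e : Fin (d + 1) → Fin n := e'
    have he : Function.Injective e := e'.injective
    have hrange : ∀ j, j ∈ Set.range e ↔ j ∉ D := by
      intro j
      rw [show Set.range e = ↑(Dᶜ) from Finset.range_orderEmbOfFin _ _]
      simp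
    obtain ⟨F, hF, hFQ⟩ := exists_rel q r hr φ e (by omega)
    have hu : ¬ IsUnit F := by
      intro hu
      have h1 : IsUnit (φ (rename e F)) := (hu.map (rename e)).map φ
      exact ‹q.IsPrime›.ne_top (Ideal.eq_top_of_isUnit_mem _ hFQ h1)
    obtain ⟨θ, hθfin, hθ0, hθn⟩ := exists_step e he F hF hu
    have h0D : e 0 ∉ D := (hrange _).mp ⟨0, rfl⟩
    refine ⟨insert (e 0) D, φ.comp θ, ?_, ?_, ?_⟩
    · rw [Finset.card_insert_of_notMem h0D, hD]
    · exact hφ.comp hθfin
    · intro i hi
      rw [Finset.mem_insert] at hi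
      rcases hi with rfl | hi
      · show φ (θ (X (e 0))) ∈ q
        rw [hθ0]; exact hFQ
      · show φ (θ (X i)) ∈ q
        rw [hθn i (by rw [hrange]; exact not_not.mpr hi)]
        exact hq i hi

theorem refined_noether {r : ℕ} (q : Ideal (MvPolynomial (Fin n) k)) [q.IsPrime]
    (hr : Algebra.trdeg k q.ResidueField = r) :
    ∃ φ : MvPolynomial (Fin n) k →ₐ[k] MvPolynomial (Fin n) k, φ.toRingHom.Finite ∧
      q.comap φ = Ideal.span (Set.range fun i : {i : Fin n // r ≤ (i : ℕ)} =>
        (X (i : Fin n) : MvPolynomial (Fin n) k)) := by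
  classical
  -- `r ≤ n`
  have hrn : r ≤ n := by
    have h1 := trdeg_quot_eq q (AlgHom.id k _) (RingHom.Finite.id _)
    have h2 : Algebra.trdeg k (MvPolynomial (Fin n) k ⧸ q.comap (AlgHom.id k _)) ≤
        Algebra.trdeg k (MvPolynomial (Fin n) k) :=
      trdeg_le_of_surjective (Ideal.Quotient.mkₐ k _) (Ideal.Quotient.mkₐ_surjective k _)
    rw [h1, hr, MvPolynomial.trdeg_of_isDomain] at h2
    simp only [mk_fintype, Fintype.card_fin, lift_natCast] at h2
    exact_mod_cast h2
  obtain ⟨D, φ, hD, hφ, hq⟩ := exists_finite_of_card q r hr (n - r) (by omega)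
  -- a permutation carrying `{i | r ≤ i}` onto `D`
  have hcard : Fintype.card {i : Fin n // r ≤ (i : ℕ)} = Fintype.card {i : Fin n // i ∈ D} := by
    rw [Fintype.card_coe, hD, Fintype.card_subtype]
    have h1 := Finset.card_filter_add_card_filter_not (s := (Finset.univ : Finset (Fin n)))
      (fun i : Fin n => (i : ℕ) < r)
    rw [Fin.card_filter_val_lt, Finset.card_univ, Fintype.card_fin, min_eq_right hrn] at h1
    have h2 : (Finset.univ.filter (fun i : Fin n => r ≤ (i : ℕ))) =
        (Finset.univ.filter (fun i : Fin n => ¬ ((i : ℕ) < r))) := by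
      apply Finset.filter_congr
      intro i _
      exact not_lt.symm
    rw [h2]
    omega
  let ε : {i : Fin n // r ≤ (i : ℕ)} ≃ {i : Fin n // i ∈ D} := Fintype.equivOfCardEq hcard
  let π : Equiv.Perm (Fin n) := ε.extendSubtype
  have hπ : ∀ i : Fin n, r ≤ (i : ℕ) → π i ∈ D := fun i hi => by
    have : π i = ε ⟨i, hi⟩ := Equiv.extendSubtype_apply_of_mem ε i hi
    rw [this]; exact (ε ⟨i, hi⟩).2
  let φ' : MvPolynomial (Fin n) k →ₐ[k] MvPolynomial (Fin n) k := φ.comp (rename π)
  have hφ' : φ'.toRingHom.Finite :=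
    hφ.comp (RingHom.Finite.of_surjective _ (rename_surjective π π.surjective))
  have hsub : Ideal.span (Set.range fun i : {i : Fin n // r ≤ (i : ℕ)} =>
      (X (i : Fin n) : MvPolynomial (Fin n) k)) ≤ q.comap φ' := by
    rw [Ideal.span_le]
    rintro _ ⟨i, rfl⟩
    show φ (rename π (X (i : Fin n))) ∈ q
    rw [rename_X]
    exact hq _ (hπ i i.2)
  refine ⟨φ', hφ', le_antisymm ?_ hsub⟩
  set Q := q.comap φ' with hQ
  set P := Ideal.span (Set.range fun i : {i : Fin n // r ≤ (i : ℕ)} =>
      (X (i : Fin n) : MvPolynomial (Fin n) k)) with hP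
  have hXP : ∀ i : Fin n, r ≤ (i : ℕ) → (X i : MvPolynomial (Fin n) k) ∈ P := fun i hi =>
    Ideal.subset_span ⟨⟨i, hi⟩, rfl⟩
  let emb : Fin r → Fin n := Fin.castLE hrn
  let a : Fin r → MvPolynomial (Fin n) k ⧸ Q := fun i => Ideal.Quotient.mk Q (X (emb i))
  have hadj : Algebra.adjoin k (Set.range a) = ⊤ := by
    rw [eq_top_iff]
    rintro x -
    obtain ⟨s, rfl⟩ := Ideal.Quotient.mk_surjective x
    induction s using MvPolynomial.induction_on with
    | C c => exact Subalgebra.algebraMap_mem _ c
    | add p q hp hq => rw [map_add]; exact Subalgebra.add_mem _ hp hq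
    | mul_X p i hp =>
      rw [map_mul]
      refine Subalgebra.mul_mem _ hp ?_
      by_cases hi : (i : ℕ) < r
      · refine Algebra.subset_adjoin ⟨⟨i, hi⟩, ?_⟩
        show Ideal.Quotient.mk Q (X (Fin.castLE hrn ⟨i, hi⟩)) = _
        congr 2
      · have : (X i : MvPolynomial (Fin n) k) ∈ Q := hsub (hXP i (not_lt.mp hi))
        rw [Ideal.Quotient.eq_zero_iff_mem.mpr this]
        exact Subalgebra.zero_mem _
  haveI : Algebra.IsAlgebraic (Algebra.adjoin k (Set.range a)) (MvPolynomial (Fin n) k ⧸ Q) := by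
    constructor
    intro x
    have hx : x ∈ Algebra.adjoin k (Set.range a) := by rw [hadj]; trivial
    exact isAlgebraic_algebraMap (⟨x, hx⟩ : Algebra.adjoin k (Set.range a))
  have htr : Algebra.trdeg k (MvPolynomial (Fin n) k ⧸ Q) = r := (trdeg_quot_eq q φ' hφ').trans hr
  have hbasis : IsTranscendenceBasis k a :=
    Algebra.IsAlgebraic.isTranscendenceBasis_of_lift_le_trdeg_of_finite k a (by rw [htr]; simp)
  have hind : AlgebraicIndependent k a := hbasis.1
  -- retraction onto the first `r` variables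
  let ρ : MvPolynomial (Fin n) k →ₐ[k] MvPolynomial (Fin r) k :=
    aeval (fun i : Fin n => if h : (i : ℕ) < r then X ⟨i, h⟩ else 0)
  have hdiff : ∀ g : MvPolynomial (Fin n) k, g - rename emb (ρ g) ∈ P := by
    intro g
    rw [← Ideal.Quotient.eq]
    have h : (Ideal.Quotient.mkₐ k P) = ((Ideal.Quotient.mkₐ k P).comp ((rename emb).comp ρ)) := by
      apply MvPolynomial.algHom_ext
      intro i
      simp only [AlgHom.coe_comp, Function.comp_apply, Ideal.Quotient.mkₐ_eq_mk]
      by_cases hi : (i : ℕ) < r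
      · simp only [ρ, aeval_X, dif_pos hi, rename_X]
        congr 2
      · simp only [ρ, aeval_X, dif_neg hi, map_zero]
        exact Ideal.Quotient.eq_zero_iff_mem.mpr (hXP i (not_lt.mp hi))
    exact AlgHom.congr_fun h g
  intro g hg
  have h1 : rename emb (ρ g) ∈ Q := by
    have := Q.sub_mem hg (hsub (hdiff g))
    simpa using this
  have h2 : aeval a (ρ g) = 0 := by
    have h : (aeval a : MvPolynomial (Fin r) k →ₐ[k] MvPolynomial (Fin n) k ⧸ Q) =
        (Ideal.Quotient.mkₐ k Q).comp (rename emb) := by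
      apply MvPolynomial.algHom_ext
      intro i
      simp [a]
    rw [h]
    exact Ideal.Quotient.eq_zero_iff_mem.mpr h1
  have h3 : ρ g = 0 := (algebraicIndependent_iff.mp hind) _ h2
  have h4 := hdiff g
  rwa [h3, map_zero, sub_zero] at h4

end main

end Groth.Agent.Lib.RefinedNoether
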