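import Mathlib
import Groth.Agent.Lib.RefinedNoether_helper3
import Groth.Agent.Lib.DimFT_helper8

/-!
# Noether normalization adapted to a chain of primes (helper3)

* general lemmas on `killCompl`, ideals spanned by variables;
* `chain_noether`: for a chain of primes `P 0 ≤ … ≤ P (m-1)` of `k[X_1..X_n]` with
  `trdeg κ(P i) = t i` there is a finite endomorphism `φ` with
  `φ⁻¹(P i) = (X_l : l < n - t i)`;
* `exists_adapted`: the version for a finitely generated domain;
* going-down/going-up filling of a chain adapted to a finite injective map from a polynomial ring.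
-/

set_option autoImplicit false

namespace Groth.Agent.Lib.ChainNoether

open MvPolynomial

section general

variable {k : Type*} [CommRing k] {σ τ : Type*}

lemma killCompl_X_of_mem {f : τ → σ} (hf : Function.Injective f) (j : τ) :
    killCompl hf (X (f j) : MvPolynomial σ k) = X j := by
  have := killCompl_rename_app hf (X j : MvPolynomial τ k)
  rwa [rename_X] at this

lemma killCompl_X_of_notMem {f : τ → σ} (hf : Function.Injective f) (i : σ)
    (hi : i ∉ Set.range f) : killCompl hf (X i : MvPolynomial σ k) = 0 := by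
  classical
  rw [killCompl, aeval_X, dif_neg hi]

lemma sub_rename_killCompl_mem {f : τ → σ} (hf : Function.Injective f) (g : MvPolynomial σ k) :
    g - rename f (killCompl hf g) ∈
      Ideal.span (X '' (Set.range f)ᶜ : Set (MvPolynomial σ k)) := by
  set P := Ideal.span (X '' (Set.range f)ᶜ : Set (MvPolynomial σ k)) with hP
  rw [← Ideal.Quotient.eq]
  have h : (Ideal.Quotient.mkₐ k P) =
      ((Ideal.Quotient.mkₐ k P).comp ((rename f).comp (killCompl hf))) := by
    apply MvPolynomial.algHom_ext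
    intro i
    simp only [AlgHom.coe_comp, Function.comp_apply, Ideal.Quotient.mkₐ_eq_mk]
    by_cases hi : i ∈ Set.range f
    · obtain ⟨j, rfl⟩ := hi
      rw [killCompl_X_of_mem, rename_X]
    · rw [killCompl_X_of_notMem hf i hi, map_zero, map_zero]
      exact Ideal.Quotient.eq_zero_iff_mem.mpr (Ideal.subset_span ⟨i, hi, rfl⟩)
  exact AlgHom.congr_fun h g

lemma ker_killCompl {f : τ → σ} (hf : Function.Injective f) :
    RingHom.ker (killCompl hf : MvPolynomial σ k →ₐ[k] MvPolynomial τ k) =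
      Ideal.span (X '' (Set.range f)ᶜ) := by
  apply le_antisymm
  · intro g hg
    rw [RingHom.mem_ker] at hg
    have := sub_rename_killCompl_mem hf g
    rwa [hg, map_zero, sub_zero] at this
  · rw [Ideal.span_le]
    rintro _ ⟨i, hi, rfl⟩
    exact killCompl_X_of_notMem hf i hi

lemma isPrime_span_X_image [IsDomain k] (s : Set σ) :
    (Ideal.span (X '' s : Set (MvPolynomial σ k))).IsPrime := by
  have hf : Function.Injective (Subtype.val : {i // i ∉ s} → σ) := Subtype.val_injective
  have h : Ideal.span (X '' s : Set (MvPolynomial σ k)) =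
      RingHom.ker (killCompl hf : MvPolynomial σ k →ₐ[k] _) := by
    rw [ker_killCompl]
    congr 2
    ext i
    simp
  rw [h]
  exact RingHom.ker_isPrime _

lemma comap_rename_span_X_image {f : τ → σ} (hf : Function.Injective f) (s : Set σ) :
    (Ideal.span (X '' s : Set (MvPolynomial σ k))).comap
        (rename f : MvPolynomial τ k →ₐ[k] MvPolynomial σ k) =
      Ideal.span (X '' (f ⁻¹' s)) := by
  apply le_antisymm
  · intro x hx
    rw [Ideal.mem_comap] at hx
    have h1 : killCompl hf (rename f x) ∈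
        (Ideal.span (X '' s : Set (MvPolynomial σ k))).map (killCompl hf) :=
      Ideal.mem_map_of_mem _ hx
    rw [killCompl_rename_app, Ideal.map_span] at h1
    refine (Ideal.span_le.mpr ?_) h1
    rintro _ ⟨_, ⟨i, hi, rfl⟩, rfl⟩
    by_cases hir : i ∈ Set.range f
    · obtain ⟨j, rfl⟩ := hir
      rw [killCompl_X_of_mem (k := k) hf j]
      exact Ideal.subset_span ⟨j, hi, rfl⟩
    · rw [killCompl_X_of_notMem hf i hir]
      exact Ideal.zero_mem _
  · rw [Ideal.span_le]
    rintro _ ⟨j, hj, rfl⟩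
    rw [SetLike.mem_coe, Ideal.mem_comap]
    have h2 : (rename f : MvPolynomial τ k →ₐ[k] MvPolynomial σ k) (X j) = X (f j) := rename_X f j
    rw [h2]
    exact Ideal.subset_span ⟨f j, hj, rfl⟩

/-- if `Φ` kills the variables outside the range of `f`, it factors through `killCompl`. -/
lemma eq_comp_killCompl {B : Type*} [CommRing B] [Algebra k B] {f : τ → σ}
    (hf : Function.Injective f) (Φ : MvPolynomial σ k →ₐ[k] B)
    (h0 : ∀ i, i ∉ Set.range f → Φ (X i) = 0) :
    Φ = (Φ.comp (rename f)).comp (killCompl hf) := by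
  apply MvPolynomial.algHom_ext
  intro i
  simp only [AlgHom.coe_comp, Function.comp_apply]
  by_cases hi : i ∈ Set.range f
  · obtain ⟨j, rfl⟩ := hi
    rw [killCompl_X_of_mem, rename_X]
  · rw [killCompl_X_of_notMem hf i hi, map_zero, map_zero, h0 i hi]

end general

section main

universe u
variable {k : Type u} [Field k] {n : ℕ}

open Cardinal

/-- a prime `q` of `k[X_1..X_n]` with `trdeg κ(q) = t`, a finite endomorphism `φ` and an
injection `f : Fin t → Fin n` such that `φ X_j ∈ q` for all `j` outside the range of `f`: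
then `φ⁻¹ q` is generated by these variables. -/
lemma comap_eq_span_of_mem (q : Ideal (MvPolynomial (Fin n) k)) [q.IsPrime] (t : ℕ)
    (ht : Algebra.trdeg k q.ResidueField = t)
    (φ : MvPolynomial (Fin n) k →ₐ[k] MvPolynomial (Fin n) k) (hφ : φ.toRingHom.Finite)
    (f : Fin t → Fin n) (hf : Function.Injective f)
    (hmem : ∀ j, j ∉ Set.range f → φ (X j) ∈ q) :
    q.comap φ = Ideal.span (X '' (Set.range f)ᶜ) := by
  set Q := q.comap φ with hQ
  set P := Ideal.span (X '' (Set.range f)ᶜ : Set (MvPolynomial (Fin n) k)) with hP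
  have hsub : P ≤ Q := by
    rw [hP, Ideal.span_le]
    rintro _ ⟨j, hj, rfl⟩
    exact hmem j hj
  refine le_antisymm ?_ hsub
  let a : Fin t → MvPolynomial (Fin n) k ⧸ Q := fun i => Ideal.Quotient.mk Q (X (f i))
  have hadj : Algebra.adjoin k (Set.range a) = ⊤ := by
    rw [eq_top_iff]
    rintro x -
    obtain ⟨s, rfl⟩ := Ideal.Quotient.mk_surjective x
    induction s using MvPolynomial.induction_on with
    | C c => exact Subalgebra.algebraMap_mem _ c
    | add p₁ p₂ hp₁ hp₂ => rw [map_add]; exact Subalgebra.add_mem _ hp₁ hp₂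
    | mul_X p i hp =>
      rw [map_mul]
      refine Subalgebra.mul_mem _ hp ?_
      by_cases hi : i ∈ Set.range f
      · obtain ⟨j, rfl⟩ := hi
        exact Algebra.subset_adjoin ⟨j, rfl⟩
      · have : (X i : MvPolynomial (Fin n) k) ∈ Q := hmem i hi
        rw [Ideal.Quotient.eq_zero_iff_mem.mpr this]
        exact Subalgebra.zero_mem _
  haveI : Algebra.IsAlgebraic (Algebra.adjoin k (Set.range a)) (MvPolynomial (Fin n) k ⧸ Q) := by
    constructor
    intro x
    have hx : x ∈ Algebra.adjoin k (Set.range a) := by rw [hadj]; trivial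
    exact isAlgebraic_algebraMap (⟨x, hx⟩ : Algebra.adjoin k (Set.range a))
  have htr : Algebra.trdeg k (MvPolynomial (Fin n) k ⧸ Q) = t :=
    (RefinedNoether.trdeg_quot_eq q φ hφ).trans ht
  have hbasis : IsTranscendenceBasis k a :=
    Algebra.IsAlgebraic.isTranscendenceBasis_of_lift_le_trdeg_of_finite k a (by rw [htr]; simp)
  have hind : AlgebraicIndependent k a := hbasis.1
  intro g hg
  have h1 : rename f (killCompl hf g) ∈ Q := by
    have := Q.sub_mem hg (hsub (sub_rename_killCompl_mem hf g))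
    simpa using this
  have h2 : aeval a (killCompl hf g) = 0 := by
    have h : (aeval a : MvPolynomial (Fin t) k →ₐ[k] MvPolynomial (Fin n) k ⧸ Q) =
        (Ideal.Quotient.mkₐ k Q).comp (rename f) := by
      apply MvPolynomial.algHom_ext
      intro i
      simp [a]
    rw [h]
    exact Ideal.Quotient.eq_zero_iff_mem.mpr h1
  have h3 : killCompl hf g = 0 := (algebraicIndependent_iff.mp hind) _ h2
  have h4 := sub_rename_killCompl_mem hf g
  rwa [h3, map_zero, sub_zero] at h4

lemma trdeg_resField_le (q : Ideal (MvPolynomial (Fin n) k)) [q.IsPrime] (t : ℕ)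
    (ht : Algebra.trdeg k q.ResidueField = t) : t ≤ n := by
  have h1 := RefinedNoether.trdeg_quot_eq q (AlgHom.id k _) (RingHom.Finite.id _)
  have h2 : Algebra.trdeg k (MvPolynomial (Fin n) k ⧸ q.comap (AlgHom.id k _)) ≤
      Algebra.trdeg k (MvPolynomial (Fin n) k) :=
    trdeg_le_of_surjective (Ideal.Quotient.mkₐ k _) (Ideal.Quotient.mkₐ_surjective k _)
  rw [h1, ht, MvPolynomial.trdeg_of_isDomain] at h2
  simp only [mk_fintype, Fintype.card_fin, lift_natCast] at h2
  exact_mod_cast h2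

lemma trdeg_resField_antitone (p q : Ideal (MvPolynomial (Fin n) k)) [p.IsPrime] [q.IsPrime]
    (hpq : p ≤ q) (s t : ℕ) (hs : Algebra.trdeg k p.ResidueField = s)
    (ht : Algebra.trdeg k q.ResidueField = t) : t ≤ s := by
  have h1 := RefinedNoether.trdeg_quot_eq p (AlgHom.id k _) (RingHom.Finite.id _)
  have h2 := RefinedNoether.trdeg_quot_eq q (AlgHom.id k _) (RingHom.Finite.id _)
  have hle : p.comap (AlgHom.id k (MvPolynomial (Fin n) k)) ≤ q.comap (AlgHom.id k _) :=
    fun x hx => hpq hx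
  have h3 : Algebra.trdeg k (MvPolynomial (Fin n) k ⧸ q.comap (AlgHom.id k _)) ≤
      Algebra.trdeg k (MvPolynomial (Fin n) k ⧸ p.comap (AlgHom.id k _)) :=
    trdeg_le_of_surjective (Ideal.Quotient.factorₐ k hle) (Ideal.Quotient.factor_surjective hle)
  rw [h1, h2, hs, ht] at h3
  exact_mod_cast h3

/-- one prime: extend a list of variables sent into `q`. -/
lemma exists_extend (q : Ideal (MvPolynomial (Fin n) k)) [q.IsPrime] (r : ℕ)
    (hr : Algebra.trdeg k q.ResidueField = r) (L₀ : List (Fin n)) (hL₀ : L₀.Nodup)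
    (φ₀ : MvPolynomial (Fin n) k →ₐ[k] MvPolynomial (Fin n) k)
    (h₀ : ∀ j ∈ L₀, φ₀ (X j) ∈ q) (c : ℕ) (hc₀ : L₀.length ≤ c) (hc : c + r ≤ n) :
    ∃ (L : List (Fin n)) (θ : MvPolynomial (Fin n) k →ₐ[k] MvPolynomial (Fin n) k),
      L₀ <+: L ∧ L.Nodup ∧ L.length = c ∧ θ.toRingHom.Finite ∧ (∀ j ∈ L₀, θ (X j) = X j) ∧
      ∀ j ∈ L, φ₀ (θ (X j)) ∈ q := by
  classical
  induction c, hc₀ using Nat.le_induction with
  | base =>
    exact ⟨L₀, AlgHom.id k _, List.prefix_refl _, hL₀, rfl, RingHom.Finite.id _,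
      fun _ _ => rfl, h₀⟩
  | succ c hc₀ ih =>
    obtain ⟨L, θ, hpre, hnd, hlen, hθ, hfix, hq⟩ := ih (by omega)
    set D : Finset (Fin n) := L.toFinset with hD
    have hDcard : D.card = c := by rw [hD, List.toFinset_card_of_nodup hnd, hlen]
    have hcard : (Dᶜ).card = n - c := by rw [Finset.card_compl, Fintype.card_fin, hDcard]
    obtain ⟨d, hd⟩ : ∃ d, n - c = d + 1 := ⟨n - c - 1, by omega⟩
    let e' : Fin (d + 1) ↪o Fin n := (Dᶜ).orderEmbOfFin (by rw [hcard, hd])
    let e : Fin (d + 1) → Fin n := e'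
    have he : Function.Injective e := e'.injective
    have hrange : ∀ j, j ∈ Set.range e ↔ j ∉ L := by
      intro j
      rw [show Set.range e = ↑(Dᶜ) from Finset.range_orderEmbOfFin _ _]
      simp [hD]
    obtain ⟨F, hF, hFQ⟩ := RefinedNoether.exists_rel q r hr (φ₀.comp θ) e (by omega)
    have hu : ¬ IsUnit F := by
      intro hu
      have h1 : IsUnit ((φ₀.comp θ) (rename e F)) := (hu.map (rename e)).map (φ₀.comp θ)
      exact ‹q.IsPrime›.ne_top (Ideal.eq_top_of_isUnit_mem _ hFQ h1)
    obtain ⟨θ', hθfin, hθ0, hθn⟩ := RefinedNoether.exists_step e he F hF hu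
    have h0L : e 0 ∉ L := (hrange _).mp ⟨0, rfl⟩
    refine ⟨L ++ [e 0], θ.comp θ', ?_, ?_, ?_, ?_, ?_, ?_⟩
    · exact hpre.trans (List.prefix_append _ _)
    · rw [List.nodup_append]
      refine ⟨hnd, List.nodup_singleton _, ?_⟩
      intro a ha b hb
      rw [List.mem_singleton] at hb
      rintro rfl
      exact h0L (hb ▸ ha)
    · simp [hlen]
    · exact hθ.comp hθfin
    · intro j hj
      show θ (θ' (X j)) = X j
      rw [hθn j (by rw [hrange]; exact not_not.mpr (hpre.subset hj)), hfix j hj]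
    · intro j hj
      rw [List.mem_append, List.mem_singleton] at hj
      show φ₀ (θ (θ' (X j))) ∈ q
      rcases hj with hj | rfl
      · rw [hθn j (by rw [hrange]; exact not_not.mpr hj)]
        exact hq j hj
      · rw [hθ0]
        exact hFQ

/-- the chain version. -/
theorem chain_extend : ∀ (m : ℕ) (P : Fin m → PrimeSpectrum (MvPolynomial (Fin n) k))
    (_ : Monotone P) (t : Fin m → ℕ)
    (_ : ∀ i, Algebra.trdeg k (P i).asIdeal.ResidueField = t i)
    (L₀ : List (Fin n)) (_ : L₀.Nodup)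
    (φ₀ : MvPolynomial (Fin n) k →ₐ[k] MvPolynomial (Fin n) k)
    (_ : ∀ i, ∀ j ∈ L₀, φ₀ (X j) ∈ (P i).asIdeal) (_ : ∀ i, L₀.length ≤ n - t i),
    ∃ (L : List (Fin n)) (θ : MvPolynomial (Fin n) k →ₐ[k] MvPolynomial (Fin n) k),
      L₀ <+: L ∧ L.Nodup ∧ θ.toRingHom.Finite ∧ (∀ j ∈ L₀, θ (X j) = X j) ∧
      (∀ i, n - t i ≤ L.length) ∧
      ∀ i, ∀ j ∈ L.take (n - t i), φ₀ (θ (X j)) ∈ (P i).asIdeal
  | 0, _, _, _, _, L₀, hL₀, _, _, _ =>
    ⟨L₀, AlgHom.id k _, List.prefix_refl _, hL₀, RingHom.Finite.id _, fun _ _ => rfl,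
      fun i => i.elim0, fun i => i.elim0⟩
  | m + 1, P, hmono, t, ht, L₀, hL₀, φ₀, hstart, hlen => by
    have ht0 : t 0 ≤ n := trdeg_resField_le (P 0).asIdeal (t 0) (ht 0)
    obtain ⟨L₁, θ₁, hpre₁, hnd₁, hlen₁, hθ₁, hfix₁, hq₁⟩ :=
      exists_extend (P 0).asIdeal (t 0) (ht 0) L₀ hL₀ φ₀ (hstart 0) (n - t 0) (hlen 0) (by omega)
    have hle0 : ∀ i : Fin m, (P 0).asIdeal ≤ (P i.succ).asIdeal := fun i =>
      (PrimeSpectrum.asIdeal_le_asIdeal _ _).mpr (hmono (Fin.zero_le _))
    have htanti : ∀ i : Fin m, t i.succ ≤ t 0 := fun i =>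
      trdeg_resField_antitone (P 0).asIdeal (P i.succ).asIdeal (hle0 i)
        (t 0) (t i.succ) (ht 0) (ht i.succ)
    obtain ⟨L, θ, hpre, hnd, hθ, hfix, hlenL, hq⟩ :=
      chain_extend m (fun i => P i.succ) (fun a b hab => hmono (Fin.succ_le_succ_iff.mpr hab))
        (fun i => t i.succ) (fun i => ht i.succ) L₁ hnd₁ (φ₀.comp θ₁)
        (fun i j hj => hle0 i (hq₁ j hj))
        (fun i => by rw [hlen₁]; have := htanti i; omega)
    refine ⟨L, θ₁.comp θ, hpre₁.trans hpre, hnd, hθ₁.comp hθ, ?_, ?_, ?_⟩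
    · intro j hj
      show θ₁ (θ (X j)) = X j
      rw [hfix j (hpre₁.subset hj), hfix₁ j hj]
    · intro i
      refine Fin.cases ?_ (fun i => ?_) i
      · have := hpre.length_le
        omega
      · exact hlenL i
    · intro i
      refine Fin.cases ?_ (fun i => ?_) i
      · intro j hj
        have htake : L.take (n - t 0) = L₁ := by
          have := List.prefix_iff_eq_take.mp hpre
          rw [hlen₁] at this
          exact this.symm
        rw [htake] at hj
        show φ₀ (θ₁ (θ (X j))) ∈ _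
        rw [hfix j hj]
        exact hq₁ j hj
      · intro j hj
        exact hq i j hj

lemma exists_perm_of_nodup (L : List (Fin n)) (hL : L.Nodup) :
    ∃ σ : Equiv.Perm (Fin n), ∀ (l : Fin n) (hl : (l : ℕ) < L.length), σ l = L[(l : ℕ)] := by
  classical
  let f : Fin n → Fin n := fun l => if hl : (l : ℕ) < L.length then L[(l : ℕ)] else l
  let s : Finset (Fin n) := Finset.univ.filter (fun l => (l : ℕ) < L.length)
  have hinj : Set.InjOn f s := by
    intro a ha b hb hab
    simp only [s, Finset.coe_filter, Finset.mem_univ, true_and, Set.mem_setOf_eq] at ha hb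
    simp only [f, dif_pos ha, dif_pos hb] at hab
    have := (List.nodup_iff_injective_getElem.mp hL) (a₁ := ⟨a, ha⟩) (a₂ := ⟨b, hb⟩) hab
    exact Fin.ext (by simpa using this)
  obtain ⟨g, hg⟩ := Finset.exists_equiv_extend_of_card_eq (α := Fin n)
    (t := (Finset.univ : Finset (Fin n))) (by simp) (s := s) (f := f)
    (Finset.subset_univ _) hinj
  refine ⟨g.trans (Equiv.subtypeUnivEquiv (fun x => Finset.mem_univ x)), fun l hl => ?_⟩
  have := hg l (by simp [s, hl])
  simp only [Equiv.trans_apply, Equiv.subtypeUnivEquiv_apply]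
  rw [this]
  simp [f, hl]

/-- **Noether normalization adapted to a chain of primes of a polynomial ring.** -/
theorem chain_noether (m : ℕ) (P : Fin m → PrimeSpectrum (MvPolynomial (Fin n) k))
    (hmono : Monotone P) (t : Fin m → ℕ)
    (ht : ∀ i, Algebra.trdeg k (P i).asIdeal.ResidueField = t i) :
    ∃ φ : MvPolynomial (Fin n) k →ₐ[k] MvPolynomial (Fin n) k, φ.toRingHom.Finite ∧
      ∀ i, (P i).asIdeal.comap φ = Ideal.span (X '' {l : Fin n | (l : ℕ) < n - t i}) := by
  obtain ⟨L, θ, -, hnd, hθ, -, hlen, hq⟩ := chain_extend m P hmono t ht [] List.nodup_nil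
    (AlgHom.id k _) (by simp) (by simp)
  obtain ⟨σ, hσ⟩ := exists_perm_of_nodup L hnd
  let φ : MvPolynomial (Fin n) k →ₐ[k] MvPolynomial (Fin n) k := θ.comp (rename σ)
  have hφ : φ.toRingHom.Finite :=
    hθ.comp (RingHom.Finite.of_surjective _ (rename_surjective σ σ.surjective))
  refine ⟨φ, hφ, fun i => ?_⟩
  have hti : t i ≤ n := trdeg_resField_le _ _ (ht i)
  let f : Fin (t i) → Fin n := fun l => ⟨n - t i + l, by omega⟩
  have hf : Function.Injective f := by
    intro a b hab
    simp only [f, Fin.mk.injEq] at hab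
    exact Fin.ext (by omega)
  have hrange : (Set.range f)ᶜ = {l : Fin n | (l : ℕ) < n - t i} := by
    ext l
    simp only [Set.mem_compl_iff, Set.mem_range, Set.mem_setOf_eq, f]
    constructor
    · intro h
      by_contra hl
      exact h ⟨⟨l - (n - t i), by omega⟩, Fin.ext (by simp only []; omega)⟩
    · rintro hl ⟨a, rfl⟩
      simp only [] at hl
      omega
  rw [← hrange]
  apply comap_eq_span_of_mem (P i).asIdeal (t i) (ht i) φ hφ f hf
  intro j hj
  have hj' : (j : ℕ) < n - t i := by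
    have : j ∈ (Set.range f)ᶜ := hj
    rw [hrange] at this
    exact this
  show θ (rename σ (X j)) ∈ _
  rw [rename_X, hσ j (lt_of_lt_of_le hj' (hlen i))]
  apply hq i
  rw [List.mem_take_iff_getElem]
  exact ⟨j, by have := hlen i; omega, rfl⟩

end main

section adapted

universe u
variable {k : Type u} [Field k]

lemma trdeg_resField_comap {A : Type u} [CommRing A] [Algebra k A] [Algebra.FiniteType k A]
    {n : ℕ} (π : MvPolynomial (Fin n) k →ₐ[k] A) (hπ : Function.Surjective π)
    (p : Ideal A) [p.IsPrime] (e : ℕ) (he : ringKrullDim (A ⧸ p) = (e : WithBot ℕ∞)) :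
    Algebra.trdeg k (p.comap π).ResidueField = e := by
  haveI : Algebra.FiniteType k (A ⧸ p) :=
    Algebra.FiniteType.of_surjective (Ideal.Quotient.mkₐ k p) (Ideal.Quotient.mkₐ_surjective k p)
  obtain ⟨n', -, h2, h3, -⟩ := Groth.Agent.DimFTH8.exists_dim_eq k (A ⧸ p)
  have hn' : n' = e := by
    rw [h3] at he
    exact_mod_cast he
  have h1 := RefinedNoether.trdeg_quot_eq (p.comap π) (AlgHom.id k _) (RingHom.Finite.id _)
  rw [← h1, ← hn', ← h2]
  have hH : (p.comap π).comap (AlgHom.id k (MvPolynomial (Fin n) k)) ≤ p.comap π :=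
    fun x hx => hx
  let g : (MvPolynomial (Fin n) k ⧸ (p.comap π).comap (AlgHom.id k (MvPolynomial (Fin n) k)))
      →ₐ[k] (A ⧸ p) := Ideal.quotientMapₐ p π hH
  have hginj : Function.Injective g := by
    have h : Function.Injective (Ideal.quotientMap p
        (π : MvPolynomial (Fin n) k →+* A) hH) :=
      Ideal.quotientMap_injective' (fun x hx => hx)
    exact h
  have hgsurj : Function.Surjective g := by
    have h : Function.Surjective (Ideal.quotientMap p
        (π : MvPolynomial (Fin n) k →+* A) hH) :=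
      Ideal.quotientMap_surjective hπ
    exact h
  exact le_antisymm (trdeg_le_of_injective g hginj) (trdeg_le_of_surjective g hgsurj)

/-- **Noether normalization adapted to a chain of primes** of a finitely generated domain. -/
theorem exists_adapted (A : Type u) [CommRing A] [IsDomain A] [Algebra k A]
    [Algebra.FiniteType k A] (d : ℕ) (hd : ringKrullDim A = (d : WithBot ℕ∞))
    (r : ℕ) (q : Fin r → PrimeSpectrum A) (hq : Monotone q) (h : Fin r → ℕ) (hh : ∀ i, h i ≤ d)
    (hdim : ∀ i, ringKrullDim (A ⧸ (q i).asIdeal) = ((d - h i : ℕ) : WithBot ℕ∞)) :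
    ∃ φ : MvPolynomial (Fin d) k →ₐ[k] A, φ.toRingHom.Finite ∧ Function.Injective φ ∧
      ∀ i, (q i).asIdeal.comap φ = Ideal.span (X '' {l : Fin d | (l : ℕ) < h i}) := by
  obtain ⟨n, π, hπ⟩ := Algebra.FiniteType.iff_quotient_mvPolynomial''.mp ‹Algebra.FiniteType k A›
  let q0 : PrimeSpectrum A := ⟨⊥, Ideal.isPrime_bot⟩
  let q' : Fin (r + 1) → PrimeSpectrum A := Fin.cons q0 q
  let t : Fin (r + 1) → ℕ := Fin.cons d (fun i => d - h i)
  let P : Fin (r + 1) → PrimeSpectrum (MvPolynomial (Fin n) k) := fun i =>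
    PrimeSpectrum.comap (π : MvPolynomial (Fin n) k →+* A) (q' i)
  have hq'mono : Monotone q' := by
    intro a b hab
    induction a using Fin.cases with
    | zero =>
      exact (PrimeSpectrum.asIdeal_le_asIdeal _ _).mp (bot_le (a := (q' b).asIdeal))
    | succ a' =>
      induction b using Fin.cases with
      | zero => exact absurd hab (by simp [Fin.le_def])
      | succ b' => exact hq (Fin.succ_le_succ_iff.mp hab)
  have hPmono : Monotone P := fun a b hab =>
    (PrimeSpectrum.asIdeal_le_asIdeal _ _).mp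
      (Ideal.comap_mono ((PrimeSpectrum.asIdeal_le_asIdeal _ _).mpr (hq'mono hab)))
  have ht : ∀ i, Algebra.trdeg k (P i).asIdeal.ResidueField = t i := by
    intro i
    refine Fin.cases ?_ (fun i' => ?_) i
    · show Algebra.trdeg k ((⊥ : Ideal A).comap π).ResidueField = d
      apply trdeg_resField_comap π hπ ⊥ d
      rw [ringKrullDim_eq_of_ringEquiv (RingEquiv.quotientBot A)]
      exact hd
    · show Algebra.trdeg k ((q i').asIdeal.comap π).ResidueField = (d - h i' : ℕ)
      exact trdeg_resField_comap π hπ _ _ (hdim i')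
  obtain ⟨φ', hφ', hcomap⟩ := chain_noether (r + 1) P hPmono t ht
  have hdn : d ≤ n := trdeg_resField_le (P 0).asIdeal d (ht 0)
  let ι : Fin d → Fin n := fun l => ⟨n - d + l, by omega⟩
  have hι : Function.Injective ι := by
    intro a b hab
    simp only [ι, Fin.mk.injEq] at hab
    exact Fin.ext (by omega)
  let Φ : MvPolynomial (Fin n) k →ₐ[k] A := π.comp φ'
  have hΦfin : Φ.toRingHom.Finite :=
    (RingHom.Finite.of_surjective (π : MvPolynomial (Fin n) k →+* A) hπ).comp hφ'
  have h0 : (P 0).asIdeal.comap φ' =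
      Ideal.span (X '' {l : Fin n | (l : ℕ) < n - d}) := hcomap 0
  have hker : ∀ x, Φ x = 0 ↔ x ∈ Ideal.span (X '' {l : Fin n | (l : ℕ) < n - d}) := by
    intro x
    rw [← h0]
    show π (φ' x) = 0 ↔ π (φ' x) ∈ (⊥ : Ideal A)
    rw [Ideal.mem_bot]
  have hΦ0 : ∀ i, i ∉ Set.range ι → Φ (X i) = 0 := by
    intro i hi
    rw [hker]
    apply Ideal.subset_span
    refine ⟨i, ?_, rfl⟩
    show (i : ℕ) < n - d
    by_contra hlt
    exact hi ⟨⟨i - (n - d), by omega⟩, Fin.ext (by simp only [ι]; omega)⟩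
  let ψ : MvPolynomial (Fin d) k →ₐ[k] A := Φ.comp (rename ι)
  have hfac : Φ = ψ.comp (killCompl hι) := eq_comp_killCompl hι Φ hΦ0
  have hψfin : ψ.toRingHom.Finite := by
    have h1 : (ψ.toRingHom.comp (killCompl hι).toRingHom) = Φ.toRingHom :=
      (congrArg AlgHom.toRingHom hfac).symm
    exact RingHom.Finite.of_comp_finite (f := (killCompl hι).toRingHom) (g := ψ.toRingHom)
      (h1 ▸ hΦfin)
  refine ⟨ψ, hψfin, ?_, ?_⟩
  · rw [injective_iff_map_eq_zero]
    intro x hx
    have h1 : rename ι x ∈ Ideal.span (X '' {l : Fin n | (l : ℕ) < n - d}) := (hker _).mp hx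
    have h2 : x ∈ (Ideal.span (X '' {l : Fin n | (l : ℕ) < n - d})).comap
        (rename ι : MvPolynomial (Fin d) k →ₐ[k] MvPolynomial (Fin n) k) := h1
    rw [comap_rename_span_X_image hι] at h2
    have h3 : ι ⁻¹' {l : Fin n | (l : ℕ) < n - d} = ∅ := by
      ext l
      simp [ι]
    rw [h3, Set.image_empty, Ideal.span_empty] at h2
    exact Ideal.mem_bot.mp h2
  · intro i
    have h1 : (q i).asIdeal.comap ψ = ((P i.succ).asIdeal.comap φ').comap
        (rename ι : MvPolynomial (Fin d) k →ₐ[k] MvPolynomial (Fin n) k) := rfl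
    have h2 : (P i.succ).asIdeal.comap φ' =
        Ideal.span (X '' {l : Fin n | (l : ℕ) < n - (d - h i)}) := hcomap i.succ
    rw [h1, h2, comap_rename_span_X_image hι]
    congr 2
    ext l
    have := hh i
    simp only [Set.mem_preimage, Set.mem_setOf_eq, ι]
    omega

end adapted

section chains

lemma gd_chain {S B : Type*} [CommRing S] [CommRing B] [Algebra S B] [Algebra.HasGoingDown S B]
    (p' : ℕ → Ideal S) (hprime : ∀ j, (p' j).IsPrime) (hmono : Monotone p') (a b : ℕ)
    (Qb : PrimeSpectrum B) (hQb : Qb.asIdeal.comap (algebraMap S B) = p' b) :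
    ∃ Q' : ℕ → PrimeSpectrum B, Q' b = Qb ∧
      (∀ j, a ≤ j → j ≤ b → (Q' j).asIdeal.comap (algebraMap S B) = p' j) ∧
      ∀ j, a ≤ j → j < b → Q' j ≤ Q' (j + 1) := by
  classical
  have key : ∀ s, ∃ Q' : ℕ → PrimeSpectrum B, Q' b = Qb ∧
      (∀ j, b - s ≤ j → j ≤ b → (Q' j).asIdeal.comap (algebraMap S B) = p' j) ∧
      ∀ j, b - s ≤ j → j < b → Q' j ≤ Q' (j + 1) := by
    intro s
    induction s with
    | zero =>
      refine ⟨fun _ => Qb, rfl, ?_, ?_⟩
      · intro j h1 h2
        have : j = b := by omega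
        rw [this]
        exact hQb
      · intro j h1 h2
        omega
    | succ s ih =>
      obtain ⟨Q', h1, h2, h3⟩ := ih
      by_cases hs : b - s = 0
      · refine ⟨Q', h1, ?_, ?_⟩
        · intro j hj1 hj2
          exact h2 j (by omega) hj2
        · intro j hj1 hj2
          exact h3 j (by omega) hj2
      · obtain ⟨j₀, hj₀⟩ : ∃ j₀, j₀ = b - (s + 1) := ⟨_, rfl⟩
        have hj₀1 : j₀ + 1 = b - s := by omega
        haveI := hprime j₀
        haveI := hprime (j₀ + 1)
        haveI : (Q' (j₀ + 1)).asIdeal.LiesOver (p' (j₀ + 1)) :=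
          ⟨(h2 (j₀ + 1) (by omega) (by omega)).symm⟩
        obtain ⟨P, hPle, hPprime, hPover⟩ := Ideal.exists_ideal_le_liesOver_of_le
          (p := p' j₀) (q := p' (j₀ + 1)) (Q' (j₀ + 1)).asIdeal (hmono (Nat.le_succ _))
        refine ⟨Function.update Q' j₀ ⟨P, hPprime⟩, ?_, ?_, ?_⟩
        · rw [Function.update_of_ne (by omega)]
          exact h1
        · intro j hj1 hj2
          by_cases hj : j = j₀
          · rw [hj, Function.update_self]
            exact hPover.over.symm
          · rw [Function.update_of_ne hj]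
            exact h2 j (by omega) hj2
        · intro j hj1 hj2
          by_cases hj : j = j₀
          · rw [hj, Function.update_self, Function.update_of_ne (by omega)]
            exact (PrimeSpectrum.asIdeal_le_asIdeal _ _).mp hPle
          · rw [Function.update_of_ne hj, Function.update_of_ne (by omega)]
            exact h3 j (by omega) hj2
  obtain ⟨Q', h1, h2, h3⟩ := key (b - a)
  exact ⟨Q', h1, fun j hj1 hj2 => h2 j (by omega) hj2, fun j hj1 hj2 => h3 j (by omega) hj2⟩

lemma gu_chain {S B : Type*} [CommRing S] [CommRing B] [Algebra S B] [Algebra.IsIntegral S B]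
    (p' : ℕ → Ideal S) (hprime : ∀ j, (p' j).IsPrime) (hmono : Monotone p') (a b : ℕ)
    (Qa : PrimeSpectrum B) (hQa : Qa.asIdeal.comap (algebraMap S B) = p' a) :
    ∃ Q' : ℕ → PrimeSpectrum B, Q' a = Qa ∧
      (∀ j, a ≤ j → j ≤ b → (Q' j).asIdeal.comap (algebraMap S B) = p' j) ∧
      ∀ j, a ≤ j → j < b → Q' j ≤ Q' (j + 1) := by
  classical
  have key : ∀ s, ∃ Q' : ℕ → PrimeSpectrum B, Q' a = Qa ∧
      (∀ j, a ≤ j → j ≤ a + s → (Q' j).asIdeal.comap (algebraMap S B) = p' j) ∧
      ∀ j, a ≤ j → j < a + s → Q' j ≤ Q' (j + 1) := by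
    intro s
    induction s with
    | zero =>
      refine ⟨fun _ => Qa, rfl, ?_, ?_⟩
      · intro j h1 h2
        have : j = a := by omega
        rw [this]
        exact hQa
      · intro j h1 h2
        omega
    | succ s ih =>
      obtain ⟨Q', h1, h2, h3⟩ := ih
      haveI := hprime (a + s + 1)
      obtain ⟨P, hPle, hPprime, hPover⟩ := Ideal.exists_ideal_over_prime_of_isIntegral_of_isPrime
        (p' (a + s + 1)) (Q' (a + s)).asIdeal
        (by rw [h2 (a + s) (by omega) (by omega)]; exact hmono (Nat.le_succ _))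
      refine ⟨Function.update Q' (a + s + 1) ⟨P, hPprime⟩, ?_, ?_, ?_⟩
      · rw [Function.update_of_ne (by omega)]
        exact h1
      · intro j hj1 hj2
        by_cases hj : j = a + s + 1
        · rw [hj, Function.update_self]
          exact hPover
        · rw [Function.update_of_ne hj]
          exact h2 j hj1 (by omega)
      · intro j hj1 hj2
        by_cases hj : j = a + s
        · rw [hj, Function.update_self, Function.update_of_ne (by omega)]
          exact (PrimeSpectrum.asIdeal_le_asIdeal _ _).mp hPle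
        · rw [Function.update_of_ne (by omega), Function.update_of_ne (by omega)]
          exact h3 j hj1 (by omega)
  obtain ⟨Q', h1, h2, h3⟩ := key (b - a)
  exact ⟨Q', h1, fun j hj1 hj2 => h2 j hj1 (by omega), fun j hj1 hj2 => h3 j hj1 (by omega)⟩

end chains

section filling

universe u
variable {k : Type u} [Field k] {d : ℕ} {A : Type u} [CommRing A] [IsDomain A] [Algebra k A]

lemma X_mem_span_X_image_iff {σ : Type*} (s : Set σ) (i : σ) :
    (X i : MvPolynomial σ k) ∈ Ideal.span (X '' s) ↔ i ∈ s := by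
  classical
  constructor
  · intro h
    rw [mem_ideal_span_X_image] at h
    obtain ⟨j, hj, hne⟩ := h (Finsupp.single i 1) (by rw [support_X]; exact Finset.mem_singleton_self _)
    have : j = i := by
      by_contra hji
      exact hne (by rw [Finsupp.single_apply, if_neg (Ne.symm hji)])
    rwa [this] at hj
  · intro h
    exact Ideal.subset_span ⟨i, h, rfl⟩

/-- the ideal `(T_l : l < j)` of `k[T_0..T_{d-1}]`. -/
noncomputable abbrev pI (k : Type u) [Field k] (d j : ℕ) : Ideal (MvPolynomial (Fin d) k) :=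
  Ideal.span (X '' {l : Fin d | (l : ℕ) < j})

lemma pI_mono : Monotone (pI k d) := by
  intro a b hab
  apply Ideal.span_mono
  apply Set.image_mono
  intro l hl
  exact lt_of_lt_of_le hl hab

lemma pI_le {a b : ℕ} (h : pI k d a ≤ pI k d b) (ha : a ≤ d) : a ≤ b := by
  by_contra hlt
  push_neg at hlt
  have hbd : b < d := by omega
  have h1 : (X ⟨b, hbd⟩ : MvPolynomial (Fin d) k) ∈ pI k d a :=
    Ideal.subset_span ⟨⟨b, hbd⟩, hlt, rfl⟩
  have h2 := (X_mem_span_X_image_iff _ _).mp (h h1)
  exact lt_irrefl b h2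

lemma map_killCompl_span_le {σ τ : Type*} {f : τ → σ} (hf : Function.Injective f) (s : Set σ)
    (x : MvPolynomial σ k) (hx : x ∈ Ideal.span (X '' s : Set (MvPolynomial σ k))) :
    killCompl hf x ∈ Ideal.span (X '' (f ⁻¹' s) : Set (MvPolynomial τ k)) := by
  have h1 : killCompl hf x ∈
      (Ideal.span (X '' s : Set (MvPolynomial σ k))).map (killCompl hf) :=
    Ideal.mem_map_of_mem _ hx
  rw [Ideal.map_span] at h1
  refine (Ideal.span_le.mpr ?_) h1
  rintro _ ⟨_, ⟨i, hi, rfl⟩, rfl⟩
  by_cases hir : i ∈ Set.range f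
  · obtain ⟨j, rfl⟩ := hir
    rw [killCompl_X_of_mem (k := k) hf j]
    exact Ideal.subset_span ⟨j, hi, rfl⟩
  · rw [killCompl_X_of_notMem hf i hir]
    exact Ideal.zero_mem _

lemma rename_mem_span {σ τ : Type*} {f : τ → σ} (hf : Function.Injective f) (s : Set σ)
    (y : MvPolynomial τ k) (hy : y ∈ Ideal.span (X '' (f ⁻¹' s) : Set (MvPolynomial τ k))) :
    rename f y ∈ Ideal.span (X '' s : Set (MvPolynomial σ k)) := by
  rw [← comap_rename_span_X_image hf s] at hy
  exact hy

/-- filling a segment by going down in the quotient. -/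
lemma seg_down (φ : MvPolynomial (Fin d) k →ₐ[k] A) (hint : φ.toRingHom.IsIntegral)
    (q q' : PrimeSpectrum A) (hqq' : q ≤ q') (a b : ℕ) (hab : a ≤ b)
    (ha : q.asIdeal.comap φ = pI k d a) (hb : q'.asIdeal.comap φ = pI k d b) :
    ∃ Q : ℕ → PrimeSpectrum A, Q a = q ∧ Q b = q' ∧
      (∀ j, a ≤ j → j ≤ b → (Q j).asIdeal.comap φ = pI k d j) ∧
      (∀ j, a ≤ j → j < b → Q j ≤ Q (j + 1)) := by
  classical
  let τ := {l : Fin d // a ≤ (l : ℕ)}
  let f : τ → Fin d := Subtype.val
  have hf : Function.Injective f := Subtype.val_injective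
  have hrange : (Set.range f)ᶜ = {l : Fin d | (l : ℕ) < a} := by
    ext l
    simp [f, τ]
  let B := A ⧸ q.asIdeal
  let mkq : A →ₐ[k] B := Ideal.Quotient.mkₐ k q.asIdeal
  let Φ : MvPolynomial (Fin d) k →ₐ[k] B := mkq.comp φ
  have hΦ0 : ∀ i, i ∉ Set.range f → Φ (X i) = 0 := by
    intro i hi
    have hi' : i ∈ {l : Fin d | (l : ℕ) < a} := by
      rw [← hrange]
      exact hi
    have h1 : (X i : MvPolynomial (Fin d) k) ∈ pI k d a := Ideal.subset_span ⟨i, hi', rfl⟩
    rw [← ha] at h1
    exact Ideal.Quotient.eq_zero_iff_mem.mpr h1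
  let ψ : MvPolynomial τ k →ₐ[k] B := Φ.comp (rename f)
  have hfac : Φ = ψ.comp (killCompl hf) := eq_comp_killCompl hf Φ hΦ0
  have hΦint : Φ.toRingHom.IsIntegral :=
    RingHom.IsIntegral.trans φ.toRingHom mkq.toRingHom hint
      (RingHom.isIntegral_of_surjective _ Ideal.Quotient.mk_surjective)
  have hψint : ψ.toRingHom.IsIntegral := by
    have h1 : (ψ.toRingHom.comp (killCompl hf).toRingHom) = Φ.toRingHom :=
      (congrArg AlgHom.toRingHom hfac).symm
    exact RingHom.IsIntegral.tower_top (killCompl hf).toRingHom ψ.toRingHom (h1 ▸ hΦint)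
  -- the ideals `p' j`
  let p' : ℕ → Ideal (MvPolynomial τ k) := fun j =>
    Ideal.span (X '' (f ⁻¹' {l : Fin d | (l : ℕ) < j}))
  have hp'comap : ∀ j, (pI k d j).comap
      (rename f : MvPolynomial τ k →ₐ[k] MvPolynomial (Fin d) k) = p' j := fun j =>
    comap_rename_span_X_image hf _
  have hp'prime : ∀ j, (p' j).IsPrime := fun j => isPrime_span_X_image _
  have hp'mono : Monotone p' := by
    intro j j' hjj'
    apply Ideal.span_mono
    apply Set.image_mono
    intro l hl
    exact lt_of_lt_of_le hl hjj'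
  have hp'a : p' a = ⊥ := by
    have : f ⁻¹' {l : Fin d | (l : ℕ) < a} = ∅ := by
      ext l
      simp only [Set.mem_preimage, Set.mem_setOf_eq, Set.mem_empty_iff_false, iff_false, not_lt, f]
      exact l.2
    show Ideal.span (X '' (f ⁻¹' {l : Fin d | (l : ℕ) < a})) = ⊥
    rw [this, Set.image_empty, Ideal.span_empty]
  -- key equivalence
  have hE : ∀ j, a ≤ j → ∀ x : MvPolynomial (Fin d) k, x ∈ pI k d j ↔ killCompl hf x ∈ p' j := by
    intro j haj x
    constructor
    · intro hx
      exact map_killCompl_span_le hf _ x hx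
    · intro hx
      have h1 := sub_rename_killCompl_mem hf x
      rw [hrange] at h1
      have h2 : x - rename f (killCompl hf x) ∈ pI k d j := pI_mono haj h1
      have h3 : rename f (killCompl hf x) ∈ pI k d j := rename_mem_span hf _ _ hx
      have := (pI k d j).add_mem h2 h3
      simpa using this
  -- ψ is injective
  have hψinj : Function.Injective ψ := by
    rw [injective_iff_map_eq_zero]
    intro y hy
    have h1 : φ (rename f y) ∈ q.asIdeal := Ideal.Quotient.eq_zero_iff_mem.mp hy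
    have h2 : rename f y ∈ pI k d a := by
      rw [← ha]
      exact h1
    have h3 : y ∈ p' a := by
      rw [← hp'comap a]
      exact h2
    rw [hp'a] at h3
    exact Ideal.mem_bot.mp h3
  letI : Algebra (MvPolynomial τ k) B := ψ.toRingHom.toAlgebra
  haveI : FaithfulSMul (MvPolynomial τ k) B :=
    (faithfulSMul_iff_algebraMap_injective _ _).mpr hψinj
  haveI : Algebra.IsIntegral (MvPolynomial τ k) B := ⟨hψint⟩
  haveI : IsDomain B := Ideal.Quotient.isDomain q.asIdeal
  -- the top prime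
  have hker : RingHom.ker (Ideal.Quotient.mk q.asIdeal) ≤ q'.asIdeal := by
    rw [Ideal.mk_ker]
    exact (PrimeSpectrum.asIdeal_le_asIdeal _ _).mpr hqq'
  have hQbprime : (q'.asIdeal.map (Ideal.Quotient.mk q.asIdeal)).IsPrime :=
    Ideal.map_isPrime_of_surjective Ideal.Quotient.mk_surjective hker
  have hQbcomap : (q'.asIdeal.map (Ideal.Quotient.mk q.asIdeal)).comap
      (Ideal.Quotient.mk q.asIdeal) = q'.asIdeal :=
    Ideal.comap_map_mk ((PrimeSpectrum.asIdeal_le_asIdeal _ _).mpr hqq')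
  let Qb : PrimeSpectrum B := ⟨q'.asIdeal.map (Ideal.Quotient.mk q.asIdeal), hQbprime⟩
  have hQb : Qb.asIdeal.comap (algebraMap (MvPolynomial τ k) B) = p' b := by
    rw [← hp'comap b, ← hb]
    ext y
    show Ideal.Quotient.mk q.asIdeal (φ (rename f y)) ∈
      q'.asIdeal.map (Ideal.Quotient.mk q.asIdeal) ↔ φ (rename f y) ∈ q'.asIdeal
    rw [← Ideal.mem_comap, hQbcomap]
  obtain ⟨Q', h1, h2, h3⟩ := gd_chain p' hp'prime hp'mono a b Qb hQb
  refine ⟨fun j => PrimeSpectrum.comap (Ideal.Quotient.mk q.asIdeal) (Q' j), ?_, ?_, ?_, ?_⟩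
  · have h4 := h2 a le_rfl hab
    rw [hp'a] at h4
    have h5 : (Q' a).asIdeal = ⊥ := Ideal.eq_bot_of_comap_eq_bot h4
    apply PrimeSpectrum.ext
    show (Q' a).asIdeal.comap (Ideal.Quotient.mk q.asIdeal) = q.asIdeal
    rw [h5, ← RingHom.ker_eq_comap_bot, Ideal.mk_ker]
  · apply PrimeSpectrum.ext
    show (Q' b).asIdeal.comap (Ideal.Quotient.mk q.asIdeal) = q'.asIdeal
    rw [h1]
    exact hQbcomap
  · intro j haj hjb
    ext x
    have hx : Φ x = ψ (killCompl hf x) := AlgHom.congr_fun hfac x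
    show Ideal.Quotient.mk q.asIdeal (φ x) ∈ (Q' j).asIdeal ↔ x ∈ pI k d j
    rw [hE j haj x, ← h2 j haj hjb]
    show Φ x ∈ (Q' j).asIdeal ↔ ψ (killCompl hf x) ∈ (Q' j).asIdeal
    rw [hx]
  · intro j haj hjb
    exact (PrimeSpectrum.asIdeal_le_asIdeal _ _).mp
      (Ideal.comap_mono ((PrimeSpectrum.asIdeal_le_asIdeal _ _).mpr (h3 j haj hjb)))

theorem chain_fill (φ : MvPolynomial (Fin d) k →ₐ[k] A) (hint : φ.toRingHom.IsIntegral) :
    ∀ (r : ℕ) (q : Fin r → PrimeSpectrum A) (h : Fin r → ℕ) (q₀ : PrimeSpectrum A) (a₀ : ℕ),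
      q₀.asIdeal.comap φ = pI k d a₀ → Monotone q → (∀ i, q₀ ≤ q i) → a₀ ≤ d → (∀ i, h i ≤ d) →
      (∀ i, (q i).asIdeal.comap φ = pI k d (h i)) →
      ∃ Q : ℕ → PrimeSpectrum A, Q a₀ = q₀ ∧ (∀ i, Q (h i) = q i) ∧
        (∀ j, a₀ ≤ j → j ≤ d → (Q j).asIdeal.comap φ = pI k d j) ∧
        (∀ j, a₀ ≤ j → j < d → Q j ≤ Q (j + 1))
  | 0, _, _, q₀, a₀, h₀, _, _, _, _, _ => by
    letI : Algebra (MvPolynomial (Fin d) k) A := φ.toRingHom.toAlgebra
    haveI : Algebra.IsIntegral (MvPolynomial (Fin d) k) A := ⟨hint⟩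
    obtain ⟨Q, h1, h2, h3⟩ := gu_chain (pI k d) (fun j => isPrime_span_X_image _) pI_mono a₀ d
      q₀ h₀
    exact ⟨Q, h1, fun i => i.elim0, h2, h3⟩
  | r + 1, q, h, q₀, a₀, h₀, hq, hq₀, ha₀, hh, hcomap => by
    have hle : a₀ ≤ h 0 := by
      refine pI_le (k := k) (d := d) ?_ ha₀
      rw [← h₀, ← hcomap 0]
      exact Ideal.comap_mono ((PrimeSpectrum.asIdeal_le_asIdeal _ _).mpr (hq₀ 0))
    obtain ⟨Q', h1', h2', h3', h4'⟩ :=
      seg_down φ hint q₀ (q 0) (hq₀ 0) a₀ (h 0) hle h₀ (hcomap 0)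
    obtain ⟨Q₁, h1, h2, h3, h4⟩ := chain_fill φ hint r (fun i => q i.succ) (fun i => h i.succ)
      (q 0) (h 0) (hcomap 0) (fun a b hab => hq (Fin.succ_le_succ_iff.mpr hab))
      (fun i => hq (Fin.zero_le _)) (hh 0) (fun i => hh i.succ) (fun i => hcomap i.succ)
    have hmonoh : ∀ i : Fin r, h 0 ≤ h i.succ := by
      intro i
      refine pI_le (k := k) (d := d) ?_ (hh 0)
      rw [← hcomap 0, ← hcomap i.succ]
      exact Ideal.comap_mono ((PrimeSpectrum.asIdeal_le_asIdeal _ _).mpr (hq (Fin.zero_le _)))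
    refine ⟨fun j => if j < h 0 then Q' j else Q₁ j, ?_, ?_, ?_, ?_⟩
    · by_cases hlt : a₀ < h 0
      · simp only [if_pos hlt]
        exact h1'
      · have heq : a₀ = h 0 := by omega
        simp only [if_neg hlt]
        rw [heq, h1, ← h2', ← heq, h1']
    · intro i
      refine Fin.cases ?_ (fun i' => ?_) i
      · simp only [lt_irrefl, if_false]
        exact h1
      · have := hmonoh i'
        simp only [if_neg (not_lt.mpr this)]
        exact h2 i'
    · intro j hj1 hj2
      by_cases hlt : j < h 0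
      · simp only [if_pos hlt]
        exact h3' j hj1 hlt.le
      · simp only [if_neg hlt]
        exact h3 j (not_lt.mp hlt) hj2
    · intro j hj1 hj2
      by_cases hlt : j + 1 < h 0
      · have hlt' : j < h 0 := by omega
        simp only [if_pos hlt, if_pos hlt']
        exact h4' j hj1 hlt'
      · by_cases hlt' : j < h 0
        · have heq : j + 1 = h 0 := by omega
          simp only [if_pos hlt', if_neg hlt]
          rw [heq, h1, ← h2', ← heq]
          exact h4' j hj1 hlt'
        · simp only [if_neg hlt', if_neg hlt]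
          exact h4 j (not_lt.mp hlt') hj2

/-- **Filling a chain adapted to a Noether normalization.** -/
theorem exists_fill (φ : MvPolynomial (Fin d) k →ₐ[k] A) (hfin : φ.toRingHom.Finite)
    (hinj : Function.Injective φ) (r : ℕ) (q : Fin r → PrimeSpectrum A) (hq : Monotone q)
    (h : Fin r → ℕ) (hh : ∀ i, h i ≤ d)
    (hcomap : ∀ i, (q i).asIdeal.comap φ = Ideal.span (X '' {l : Fin d | (l : ℕ) < h i})) :
    ∃ Q : ℕ → PrimeSpectrum A,
      (∀ j, j ≤ d → (Q j).asIdeal.comap φ = Ideal.span (X '' {l : Fin d | (l : ℕ) < j})) ∧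
      (∀ j, j < d → Q j < Q (j + 1)) ∧ (∀ i, Q (h i) = q i) := by
  let q₀ : PrimeSpectrum A := ⟨⊥, Ideal.isPrime_bot⟩
  have h₀ : q₀.asIdeal.comap φ = pI k d 0 := by
    show (⊥ : Ideal A).comap φ = Ideal.span (X '' {l : Fin d | (l : ℕ) < 0})
    have : {l : Fin d | (l : ℕ) < 0} = ∅ := by
      ext l
      simp
    rw [this, Set.image_empty, Ideal.span_empty]
    exact Ideal.comap_bot_of_injective _ hinj
  obtain ⟨Q, -, h2, h3, h4⟩ := chain_fill φ hfin.to_isIntegral r q h q₀ 0 h₀ hq
    (fun i => (PrimeSpectrum.asIdeal_le_asIdeal _ _).mp (bot_le (a := (q i).asIdeal)))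
    (Nat.zero_le _) hh hcomap
  refine ⟨Q, fun j hj => h3 j (Nat.zero_le _) hj, fun j hj => ?_, h2⟩
  refine lt_of_le_of_ne (h4 j (Nat.zero_le _) hj) ?_
  intro heq
  have h5 := h3 j (Nat.zero_le _) hj.le
  have h6 := h3 (j + 1) (Nat.zero_le _) hj
  rw [heq, h6] at h5
  have h7 : (X ⟨j, hj⟩ : MvPolynomial (Fin d) k) ∈ pI k d (j + 1) :=
    Ideal.subset_span ⟨⟨j, hj⟩, Nat.lt_succ_self j, rfl⟩
  rw [h5] at h7
  have h8 := (X_mem_span_X_image_iff _ _).mp h7
  exact lt_irrefl j h8


end filling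

end Groth.Agent.Lib.ChainNoether
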