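import Mathlib

/-!
# Finite chains and strictly increasing series (helper6)

`exists_series_of_chain`: a nonempty finite chain in a partial order is the set of terms of a
strictly increasing series.  `consec_iff`: consecutive members of the set of terms are consecutive
terms.
APPEND-ONLY once landed.
-/

set_option autoImplicit false
set_option linter.all false

namespace Groth.Agent.Lib.ChainSeries

variable {α : Type*} [PartialOrder α]

/-- a nonempty finite chain is the set of terms of a strictly increasing series. -/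
theorem exists_series_of_chain (C : Finset α) (hne : C.Nonempty)
    (hC : IsChain (fun A B : α => A ≤ B) (↑C : Set α)) :
    ∃ s : LTSeries α, ∀ x, x ∈ s ↔ x ∈ C := by
  classical
  induction' hn : C.card using Nat.strong_induction_on with n ih generalizing C
  -- a greatest element
  obtain ⟨M, hM, hmax⟩ : ∃ M ∈ C, ∀ x ∈ C, x ≤ M := by
    obtain ⟨M, hM, hMmax⟩ := C.exists_maximal hne
    refine ⟨M, hM, fun x hx => ?_⟩
    by_cases hxM : x = M
    · rw [hxM]
    · rcases hC hx hM hxM with h | h
      · exact h
      · exact hMmax hx h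
  by_cases hC' : (C.erase M).Nonempty
  · have hchain' : IsChain (fun A B : α => A ≤ B) (↑(C.erase M) : Set α) :=
      hC.mono (by intro x hx; exact Finset.mem_of_mem_erase (Finset.mem_coe.mp hx))
    have hcard : (C.erase M).card < n := by
      rw [← hn, Finset.card_erase_of_mem hM]
      exact Nat.sub_lt (Finset.card_pos.mpr hne) Nat.one_pos
    obtain ⟨s, hs⟩ := ih _ hcard (C.erase M) hC' hchain' rfl
    have hlast : s.last < M := by
      have h1 : s.last ∈ C.erase M := (hs _).mp ⟨Fin.last _, rfl⟩
      exact lt_of_le_of_ne (hmax _ (Finset.mem_of_mem_erase h1)) (Finset.ne_of_mem_erase h1)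
    refine ⟨s.snoc M hlast, fun x => ?_⟩
    rw [RelSeries.mem_snoc, hs]
    constructor
    · rintro (h | h)
      · exact Finset.mem_of_mem_erase h
      · rw [h]; exact hM
    · intro hx
      by_cases hxM : x = M
      · exact Or.inr hxM
      · exact Or.inl (Finset.mem_erase.mpr ⟨hxM, hx⟩)
  · rw [Finset.not_nonempty_iff_eq_empty] at hC'
    refine ⟨RelSeries.singleton _ M, fun x => ?_⟩
    rw [RelSeries.mem_def]
    constructor
    · rintro ⟨i, rfl⟩
      exact hM
    · intro hx
      refine ⟨0, ?_⟩
      by_contra hne'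
      have : x ∈ C.erase M := Finset.mem_erase.mpr ⟨fun h => hne' (by rw [h]; rfl), hx⟩
      rw [hC'] at this
      exact absurd this (Finset.notMem_empty _)

/-- the terms of a series form a chain. -/
theorem isChain_terms (s : LTSeries α) (C : Set α) (hs : ∀ x, x ∈ s ↔ x ∈ C) :
    IsChain (fun A B : α => A ≤ B) C := by
  intro a ha b hb _
  obtain ⟨i, rfl⟩ := (hs a).mpr ha
  obtain ⟨j, rfl⟩ := (hs b).mpr hb
  rcases le_total i j with h | h
  · exact Or.inl ((LTSeries.strictMono s).monotone h)
  · exact Or.inr ((LTSeries.strictMono s).monotone h)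

/-- consecutive terms of a series have no term strictly between them. -/
theorem not_between (s : LTSeries α) (i : Fin s.length) (D : α) (hD : D ∈ s) :
    ¬ (s i.castSucc < D ∧ D < s i.succ) := by
  rintro ⟨h1, h2⟩
  obtain ⟨j, rfl⟩ := hD
  have a1 : i.castSucc < j := (LTSeries.strictMono s).lt_iff_lt.mp h1
  have a2 : j < i.succ := (LTSeries.strictMono s).lt_iff_lt.mp h2
  rw [Fin.lt_def] at a1 a2
  simp only [Fin.val_castSucc, Fin.val_succ] at a1 a2
  omega

/-- members of a series with no term strictly between them are consecutive terms. -/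
theorem exists_index_of_consec (s : LTSeries α) {A B : α} (hA : A ∈ s) (hB : B ∈ s)
    (hAB : A < B) (hno : ∀ D, D ∈ s → ¬ (A < D ∧ D < B)) :
    ∃ i : Fin s.length, A = s i.castSucc ∧ B = s i.succ := by
  obtain ⟨a, rfl⟩ := hA
  obtain ⟨b, rfl⟩ := hB
  have hab : a < b := (LTSeries.strictMono s).lt_iff_lt.mp hAB
  have hab' : a.val < b.val := hab
  have hb1 : a.val + 1 = b.val := by
    by_contra hne
    have hlt : a.val + 1 < b.val := by omega
    have hc : a.val + 1 < s.length + 1 := by have := b.isLt; omega
    apply hno (s ⟨a.val + 1, hc⟩) ⟨_, rfl⟩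
    constructor
    · exact LTSeries.strictMono s (show a < ⟨a.val + 1, hc⟩ from Nat.lt_succ_self _)
    · exact LTSeries.strictMono s (show (⟨a.val + 1, hc⟩ : Fin (s.length + 1)) < b from hlt)
  have ha : a.val < s.length := by have := b.isLt; omega
  refine ⟨⟨a.val, ha⟩, ?_, ?_⟩
  · congr 1
  · congr 1
    exact Fin.ext hb1.symm

theorem head_eq_bot [OrderBot α] (s : LTSeries α) (h : (⊥ : α) ∈ s) : s.head = ⊥ := by
  obtain ⟨i, hi⟩ := h
  have h1 : s.head ≤ s i := (LTSeries.strictMono s).monotone (Fin.zero_le i)
  exact le_bot_iff.mp (hi ▸ h1)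

theorem last_eq_top [OrderTop α] (s : LTSeries α) (h : (⊤ : α) ∈ s) : s.last = ⊤ := by
  obtain ⟨i, hi⟩ := h
  have h1 : s i ≤ s.last := (LTSeries.strictMono s).monotone (Fin.le_last i)
  exact top_le_iff.mp (hi ▸ h1)

end Groth.Agent.Lib.ChainSeries
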