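import Mathlib

namespace Groth.Agent.Lib.ChainSmith

universe u

def Good (R : Type u) [CommRing R] (M : Type u) [AddCommGroup M] [Module R M] : Prop :=
  ∃ (ι : Type) (_ : Fintype ι) (f : ι → R),
    Nonempty (M ≃ₗ[R] ((i : ι) → R ⧸ Ideal.span {f i}))

variable {R : Type u} [CommRing R]

lemma exists_min_dvd (h : ∀ a b : R, a ∣ b ∨ b ∣ a) {α : Type*} (s : Finset α) (e : α → R) :
    s.Nonempty → ∃ a ∈ s, ∀ b ∈ s, e a ∣ e b := by
  classical
  induction s using Finset.induction_on with
  | empty => intro h0; exact absurd h0 Finset.not_nonempty_empty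
  | insert a s ha ih =>
    intro _
    by_cases hs : s.Nonempty
    · obtain ⟨a', ha's, hmin⟩ := ih hs
      rcases h (e a) (e a') with h1 | h1
      · refine ⟨a, Finset.mem_insert_self a s, ?_⟩
        intro b hb
        rcases Finset.mem_insert.mp hb with hba | hb
        · rw [hba]
        · exact h1.trans (hmin b hb)
      · refine ⟨a', Finset.mem_insert_of_mem ha's, ?_⟩
        intro b hb
        rcases Finset.mem_insert.mp hb with hba | hb
        · rw [hba]; exact h1
        · exact hmin b hb
    · rw [Finset.not_nonempty_iff_eq_empty] at hs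
      subst hs
      refine ⟨a, Finset.mem_insert_self a _, ?_⟩
      intro b hb
      rcases Finset.mem_insert.mp hb with hba | hb
      · rw [hba]
      · simp at hb

lemma good_decomp {M M' : Type u} [AddCommGroup M] [Module R M] [AddCommGroup M'] [Module R M']
    (d : R) (hM' : Good R M') (e : M ≃ₗ[R] (R ⧸ Ideal.span {d}) × M') : Good R M := by
  obtain ⟨ι, hι, f, ⟨e'⟩⟩ := hM'
  refine ⟨Option ι, inferInstance, fun o => Option.elim o d f, ⟨?_⟩⟩
  exact e.trans ((LinearEquiv.prodCongr (LinearEquiv.refl R _) e').trans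
    (LinearEquiv.piOptionEquivProd
      (M := fun o : Option ι => R ⧸ Ideal.span {Option.elim o d f}) R).symm)

theorem good_of_span (h : ∀ a b : R, a ∣ b ∨ b ∣ a) :
    ∀ (n : ℕ) (M : Type u) [AddCommGroup M] [Module R M] [Module.FinitePresentation R M]
      (x : Fin n → M), Submodule.span R (Set.range x) = ⊤ → Good R M := by
  intro n
  induction n with
  | zero =>
    intro M _ _ _ x hx
    have hsub : Subsingleton M := by
      refine subsingleton_of_forall_eq 0 (fun m => ?_)
      have hm : m ∈ Submodule.span R (Set.range x) := by rw [hx]; exact Submodule.mem_top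
      rw [Set.range_eq_empty x, Submodule.span_empty] at hm
      exact (Submodule.mem_bot R).mp hm
    exact ⟨Empty, inferInstance, fun i => i.elim, ⟨LinearEquiv.ofSubsingleton _ _⟩⟩
  | succ n ih =>
    intro M _ _ _ x hx
    classical
    obtain ⟨π, hπ⟩ : ∃ π : (Fin (n + 1) → R) →ₗ[R] M, ∀ c, π c = ∑ i, c i • x i :=
      ⟨∑ i, (LinearMap.proj i : (Fin (n + 1) → R) →ₗ[R] R).smulRight (x i), fun c => by simp⟩
    have hsurj : Function.Surjective π := by
      intro m
      have hm : m ∈ Submodule.span R (Set.range x) := by rw [hx]; exact Submodule.mem_top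
      obtain ⟨c, hc⟩ := (Submodule.mem_span_range_iff_exists_fun R).mp hm
      exact ⟨c, by rw [hπ, hc]⟩
    have hKfg : (LinearMap.ker π).FG := Module.FinitePresentation.fg_ker π hsurj
    obtain ⟨S, hS⟩ := hKfg
    have hS' : Submodule.span R
        ((insert 0 S : Finset (Fin (n + 1) → R)) : Set (Fin (n + 1) → R)) = LinearMap.ker π := by
      rw [Finset.coe_insert, Submodule.span_insert_zero, hS]
    have hne : ((insert 0 S : Finset (Fin (n + 1) → R)) ×ˢ
        (Finset.univ : Finset (Fin (n + 1)))).Nonempty :=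
      ⟨(0, 0), Finset.mem_product.mpr ⟨Finset.mem_insert_self _ _, Finset.mem_univ _⟩⟩
    obtain ⟨⟨k0, i0⟩, hk0mem, hmin⟩ := exists_min_dvd h _
      (fun q : (Fin (n + 1) → R) × Fin (n + 1) => q.1 q.2) hne
    have hk0S : k0 ∈ insert 0 S := (Finset.mem_product.mp hk0mem).1
    obtain ⟨d, hd⟩ : ∃ d, d = k0 i0 := ⟨_, rfl⟩
    have hdvd : ∀ k ∈ insert 0 S, ∀ i, d ∣ k i := by
      intro k hk i
      rw [hd]
      exact hmin (k, i) (Finset.mem_product.mpr ⟨hk, Finset.mem_univ _⟩)
    have hKD : ∀ v ∈ LinearMap.ker π, ∀ i, d ∣ v i := by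
      intro v hv
      rw [← hS'] at hv
      refine Submodule.span_induction (p := fun v _ => ∀ i, d ∣ v i) ?_ ?_ ?_ ?_ hv
      · intro k hk i; exact hdvd k (Finset.mem_coe.mp hk) i
      · intro i; exact dvd_zero d
      · intro a b _ _ ha hb i
        rw [Pi.add_apply]; exact dvd_add (ha i) (hb i)
      · intro r a _ ha i
        rw [Pi.smul_apply, smul_eq_mul]; exact Dvd.dvd.mul_left (ha i) r
    have hq : ∀ i, ∃ q, k0 i = d * q := fun i => hdvd k0 hk0S i
    choose q hq using hq
    obtain ⟨w, hw⟩ : ∃ w : Fin (n + 1) → R, w = Function.update q i0 1 := ⟨_, rfl⟩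
    have hwi0 : w i0 = 1 := by rw [hw, Function.update_self]
    have hdw : d • w = k0 := by
      funext i
      rw [Pi.smul_apply, smul_eq_mul, hw]
      by_cases hi : i = i0
      · rw [hi, Function.update_self, mul_one, hd]
      · rw [Function.update_of_ne hi, ← hq i]
    have hk0K : k0 ∈ LinearMap.ker π := by
      rw [← hS']; exact Submodule.subset_span (Finset.mem_coe.mpr hk0S)
    obtain ⟨y, hy⟩ : ∃ y, y = π w := ⟨_, rfl⟩
    have hdy : d • y = 0 := by
      rw [hy, ← map_smul π d w, hdw]; exact LinearMap.mem_ker.mp hk0K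
    obtain ⟨M', hM'⟩ : ∃ M' : Submodule R M,
        M' = Submodule.span R (Set.range (fun j : Fin n => x (i0.succAbove j))) := ⟨_, rfl⟩
    have hkey : ∀ c : R, c • y ∈ M' → d ∣ c := by
      intro c hc
      rw [hM'] at hc
      obtain ⟨b, hb⟩ := (Submodule.mem_span_range_iff_exists_fun R).mp hc
      obtain ⟨b', hb'0, hb'1⟩ : ∃ b' : Fin (n + 1) → R,
          b' i0 = 0 ∧ ∀ j, b' (i0.succAbove j) = b j :=
        ⟨Fin.insertNth (α := fun _ => R) i0 0 b, by simp, by simp⟩
      have hπb' : π b' = c • y := by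
        rw [hπ, Fin.sum_univ_succAbove _ i0, hb'0, zero_smul, zero_add]
        simp only [hb'1]
        exact hb
      have hmem : c • w - b' ∈ LinearMap.ker π := by
        rw [LinearMap.mem_ker, map_sub, map_smul, ← hy, hπb', sub_self]
      have h1 := hKD _ hmem i0
      rw [Pi.sub_apply, Pi.smul_apply, smul_eq_mul, hwi0, mul_one, hb'0, sub_zero] at h1
      exact h1
    have hdisj : Disjoint (Submodule.span R {y}) M' := by
      rw [Submodule.disjoint_def]
      intro v hv1 hv2
      obtain ⟨c, rfl⟩ := Submodule.mem_span_singleton.mp hv1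
      obtain ⟨c', rfl⟩ := hkey c hv2
      rw [mul_comm, mul_smul, hdy, smul_zero]
    have hcod : Codisjoint (Submodule.span R {y}) M' := by
      rw [codisjoint_iff, eq_top_iff, ← hx, Submodule.span_le]
      rintro _ ⟨i, rfl⟩
      rw [SetLike.mem_coe]
      by_cases hi : i = i0
      · rw [hi]
        have hyx : y = x i0 + ∑ j : Fin n, w (i0.succAbove j) • x (i0.succAbove j) := by
          rw [hy, hπ, Fin.sum_univ_succAbove _ i0, hwi0, one_smul]
        have hxi : x i0 = y - ∑ j : Fin n, w (i0.succAbove j) • x (i0.succAbove j) :=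
          eq_sub_of_add_eq hyx.symm
        rw [hxi]
        refine Submodule.sub_mem _
          (Submodule.mem_sup_left (Submodule.mem_span_singleton_self y))
          (Submodule.mem_sup_right ?_)
        rw [hM']
        exact Submodule.sum_mem _
          (fun j _ => Submodule.smul_mem _ _ (Submodule.subset_span ⟨j, rfl⟩))
      · obtain ⟨j, rfl⟩ := Fin.exists_succAbove_eq hi
        refine Submodule.mem_sup_right ?_
        rw [hM']
        exact Submodule.subset_span ⟨j, rfl⟩
    have hcompl : IsCompl (Submodule.span R {y}) M' := ⟨hdisj, hcod⟩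
    haveI : Module.FinitePresentation R M' := by
      refine Module.finitePresentation_of_surjective
        (Submodule.projectionOnto M' (Submodule.span R {y}) hcompl.symm) ?_ ?_
      · intro m
        exact ⟨(m : M), Submodule.projectionOnto_apply_left hcompl.symm m⟩
      · rw [Submodule.ker_projectionOnto]
        exact Submodule.fg_span_singleton y
    obtain ⟨x', hx'⟩ : ∃ x' : Fin n → M', ∀ j, (x' j : M) = x (i0.succAbove j) :=
      ⟨fun j => ⟨x (i0.succAbove j), by rw [hM']; exact Submodule.subset_span ⟨j, rfl⟩⟩,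
        fun j => rfl⟩
    have hx'span : Submodule.span R (Set.range x') = ⊤ := by
      rw [eq_top_iff]
      rintro ⟨m, hm⟩ -
      have hm' := hm
      rw [hM'] at hm'
      obtain ⟨b, hb⟩ := (Submodule.mem_span_range_iff_exists_fun R).mp hm'
      have hmb : (⟨m, hm⟩ : M') = ∑ j, b j • x' j := by
        apply Subtype.ext
        simp only [Submodule.coe_sum, Submodule.coe_smul, hx']
        exact hb.symm
      rw [hmb]
      exact Submodule.sum_mem _
        (fun j _ => Submodule.smul_mem _ _ (Submodule.subset_span ⟨j, rfl⟩))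
    have hgood' : Good R M' := ih M' x' hx'span
    have hker : LinearMap.ker (LinearMap.toSpanSingleton R M y) = Ideal.span {d} := by
      ext c
      rw [LinearMap.mem_ker, LinearMap.toSpanSingleton_apply, Ideal.mem_span_singleton]
      constructor
      · intro hc
        apply hkey c
        rw [hc]; exact M'.zero_mem
      · rintro ⟨c', rfl⟩
        rw [mul_comm, mul_smul, hdy, smul_zero]
    let e1 : (Submodule.span R {y}) ≃ₗ[R] (R ⧸ Ideal.span {d}) :=
      (LinearEquiv.ofEq _ _ (LinearMap.span_singleton_eq_range R M y)).trans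
        ((LinearMap.quotKerEquivRange (LinearMap.toSpanSingleton R M y)).symm.trans
          (Submodule.quotEquivOfEq _ _ hker))
    let e : M ≃ₗ[R] (R ⧸ Ideal.span {d}) × M' :=
      (Submodule.prodEquivOfIsCompl _ _ hcompl).symm.trans
        (LinearEquiv.prodCongr e1 (LinearEquiv.refl R M'))
    exact good_decomp d hgood' e

theorem main (R : Type u) [CommRing R] [Nontrivial R] (h : ∀ a b : R, a ∣ b ∨ b ∣ a)
    (M : Type u) [AddCommGroup M] [Module R M] [Module.FinitePresentation R M] :
    ∃ (n : ℕ) (f : Fin n → R), Nonempty (M ≃ₗ[R] ((i : Fin n) → R ⧸ Ideal.span {f i})) := by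
  obtain ⟨n, x, hx⟩ := Module.Finite.exists_fin (R := R) (M := M)
  obtain ⟨ι, hι, f, ⟨e⟩⟩ := good_of_span h n M x hx
  exact ⟨Fintype.card ι, fun j => f ((Fintype.equivFin ι).symm j),
    ⟨e.trans (LinearEquiv.piCongrLeft' R (fun i => R ⧸ Ideal.span {f i}) (Fintype.equivFin ι))⟩⟩

end Groth.Agent.Lib.ChainSmith
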