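import Mathlib
import Groth.Prelude.Def_ModSite

set_option autoImplicit false
universe u v w

open CategoryTheory CategoryTheory.Limits Opposite TensorProduct ChangeOfRings

namespace Groth.Agent.Lib.ChaoticH4

section General

variable {C : Type*} [Category C] {D : Type*} [Category D] {J : Type*} [Category J]

/-- A natural transformation between functors preserving a colimit, which is an isomorphism
on all objects of the diagram, is an isomorphism on the colimit. -/
theorem isIso_app_of_isColimit {F G : C ⥤ D} (α : F ⟶ G) {K : J ⥤ C} (c : Cocone K)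
    (hc : IsColimit c) [PreservesColimit K F] [PreservesColimit K G]
    (h : ∀ j, IsIso (α.app (K.obj j))) : IsIso (α.app c.pt) := by
  let hF := isColimitOfPreserves F hc
  let hG := isColimitOfPreserves G hc
  let e : K ⋙ F ≅ K ⋙ G := NatIso.ofComponents (fun j => asIso (α.app (K.obj j)))
    (fun f => by simp)
  have : (IsColimit.coconePointsIsoOfNatIso hF hG e).hom = α.app c.pt := by
    apply hF.hom_ext
    intro j
    have h1 := hF.ι_map (G.mapCocone c) e.hom j
    simp only [Functor.mapCocone_pt, Functor.mapCocone_ι_app] at h1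
    change F.map (c.ι.app j) ≫ hF.map (G.mapCocone c) e.hom = F.map (c.ι.app j) ≫ α.app c.pt
    rw [h1]
    exact (α.naturality (c.ι.app j)).symm
  rw [← this]
  infer_instance

/-- A natural transformation between functors preserving a limit, which is an isomorphism
on all objects of the diagram, is an isomorphism on the limit. -/
theorem isIso_app_of_isLimit {F G : C ⥤ D} (α : F ⟶ G) {K : J ⥤ C} (c : Cone K)
    (hc : IsLimit c) [PreservesLimit K F] [PreservesLimit K G]
    (h : ∀ j, IsIso (α.app (K.obj j))) : IsIso (α.app c.pt) := by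
  let hF := isLimitOfPreserves F hc
  let hG := isLimitOfPreserves G hc
  let e : K ⋙ F ≅ K ⋙ G := NatIso.ofComponents (fun j => asIso (α.app (K.obj j)))
    (fun f => by simp)
  have : (IsLimit.conePointsIsoOfNatIso hF hG e).hom = α.app c.pt := by
    apply hG.hom_ext
    intro j
    have h1 := hG.map_π (F.mapCone c) e.hom j
    simp only [Functor.mapCone_pt, Functor.mapCone_π_app] at h1
    change IsLimit.map (F.mapCone c) hG e.hom ≫ G.map (c.π.app j) = α.app c.pt ≫ G.map (c.π.app j)
    rw [h1]
    exact (α.naturality (c.π.app j))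
  rw [← this]
  infer_instance

/-- Transport of a colimit cocone along a natural transformation which is an isomorphism on the
diagram and on the point. -/
noncomputable def isColimitMapCoconeOfNatTrans {F G : C ⥤ D} (α : F ⟶ G) {K : J ⥤ C}
    (c : Cocone K) (h : ∀ j, IsIso (α.app (K.obj j))) (hpt : IsIso (α.app c.pt))
    (hF : IsColimit (F.mapCocone c)) : IsColimit (G.mapCocone c) := by
  let e : K ⋙ F ≅ K ⋙ G := NatIso.ofComponents (fun j => asIso (α.app (K.obj j)))
    (fun f => by simp)
  refine IsColimit.precomposeHomEquiv e _ (IsColimit.ofIsoColimit hF ?_)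
  refine Cocone.ext (asIso (α.app c.pt)) ?_
  intro j
  simp [e]

end General

section Bot

variable {C : Type u} [Category.{v} C]

theorem over_bot (X : C) : (⊥ : GrothendieckTopology C).over X = ⊥ := by
  ext Y S
  rw [GrothendieckTopology.mem_over_iff]
  simp only [GrothendieckTopology.bot_covering]
  constructor
  · intro h
    rw [← map_top (Sieve.overEquiv Y)] at h
    exact (Sieve.overEquiv Y).injective h
  · rintro rfl
    exact map_top (Sieve.overEquiv Y)

end Bot



section Equiv

variable {C : Type u} [SmallCategory C] {J : GrothendieckTopology C} (hJ : J = ⊥)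
  (R : Sheaf J RingCat.{u})

include hJ in
theorem forget_essSurj : (SheafOfModules.forget.{u} R).EssSurj := by
  subst hJ
  exact ⟨fun P => ⟨⟨P, Presheaf.isSheaf_bot _⟩, ⟨Iso.refl _⟩⟩⟩

include hJ in
theorem forget_isEquivalence : (SheafOfModules.forget.{u} R).IsEquivalence := by
  haveI := forget_essSurj hJ R
  exact { }

include hJ in
theorem forget_preservesColimits :
    PreservesColimitsOfSize.{u, u} (SheafOfModules.forget.{u} R) := by
  haveI := forget_isEquivalence hJ R
  infer_instance

include hJ in
theorem evaluation_preservesColimits (X : Cᵒᵖ) :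
    PreservesColimitsOfSize.{u, u} (SheafOfModules.evaluation.{u} R X) := by
  haveI := forget_preservesColimits hJ R
  unfold SheafOfModules.evaluation
  infer_instance

end Equiv



section Alg

variable {A B : Type u} [CommRing A] [CommRing B] (φ : A →+* B)

theorem homEquiv_symm_tmul {X : ModuleCat.{u} A} {Y : ModuleCat.{u} B}
    (f : X ⟶ (ModuleCat.restrictScalars φ).obj Y) (b : B) (x : X) :
    (((ModuleCat.extendRestrictScalarsAdj φ).homEquiv X Y).symm f).hom (b ⊗ₜ[A,φ] x) =
      b • (show Y from f.hom x) := by
  rfl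

theorem isIso_homEquiv_symm_of_cyclic {X : ModuleCat.{u} A} {Y : ModuleCat.{u} B}
    (f : X ⟶ (ModuleCat.restrictScalars φ).obj Y) (x₀ : X)
    (hX : ∀ x : X, ∃ a : A, x = a • x₀) (y₀ : Y)
    (hy : ∀ b : B, (((ModuleCat.extendRestrictScalarsAdj φ).homEquiv X Y).symm f).hom
      (b ⊗ₜ[A,φ] x₀) = b • y₀)
    (hY : Function.Bijective (fun b : B => b • y₀)) :
    IsIso (((ModuleCat.extendRestrictScalarsAdj φ).homEquiv X Y).symm f) := by
  rw [ConcreteCategory.isIso_iff_bijective]
  have hz : ∀ z : (ModuleCat.extendScalars φ).obj X, ∃ b : B, z = b ⊗ₜ[A,φ] x₀ := by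
    intro z
    induction z using TensorProduct.induction_on with
    | zero => exact ⟨0, (TensorProduct.zero_tmul
        ((ModuleCat.restrictScalars φ).obj (ModuleCat.of B B)) x₀).symm⟩
    | tmul b x =>
      obtain ⟨a, rfl⟩ := hX x
      exact ⟨(a • b : ((ModuleCat.restrictScalars φ).obj (ModuleCat.of B B))),
        (TensorProduct.smul_tmul a b x₀).symm⟩
    | add z₁ z₂ h₁ h₂ =>
      obtain ⟨b₁, rfl⟩ := h₁
      obtain ⟨b₂, rfl⟩ := h₂
      exact ⟨b₁ + b₂, (TensorProduct.add_tmul
        (show ((ModuleCat.restrictScalars φ).obj (ModuleCat.of B B)) from b₁)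
        (show ((ModuleCat.restrictScalars φ).obj (ModuleCat.of B B)) from b₂) x₀).symm⟩
  constructor
  · intro z z' h
    obtain ⟨b, rfl⟩ := hz z
    obtain ⟨b', rfl⟩ := hz z'
    have h' : b • y₀ = b' • y₀ := by
      rw [← hy b, ← hy b']
      exact h
    rw [hY.1 h']
  · intro y
    obtain ⟨b, hb⟩ := hY.2 y
    exact ⟨b ⊗ₜ[A,φ] x₀, (hy b).trans hb⟩

end Alg



section Beta

variable {C : Type u} [SmallCategory C] {J : GrothendieckTopology C}
  (O : Sheaf J CommRingCat.{u})

/-- evaluation with values in modules over the commutative ring -/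
noncomputable def ev (U : C) : ModSite.Mod O ⥤ ModuleCat.{u} (O.obj.obj (op U)) :=
  SheafOfModules.evaluation.{u} (ModSite.ringSh O) (op U)

instance ev_additive (U : C) : (ev O U).Additive where
  map_add := rfl

/-- The base change map as in the statement. -/
noncomputable def β {U V : C} (g : U ⟶ V) (F : ModSite.Mod O) :
    (ModuleCat.extendScalars (O.obj.map g.op).hom).obj
      (F.val.obj (op V) : ModuleCat.{u} (O.obj.obj (op V))) ⟶
      (F.val.obj (op U) : ModuleCat.{u} (O.obj.obj (op U))) :=
  ((ModuleCat.extendRestrictScalarsAdj (O.obj.map g.op).hom).homEquiv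
          (F.val.obj (op V) : ModuleCat.{u} (O.obj.obj (op V))) (F.val.obj (op U) : ModuleCat.{u} (O.obj.obj (op U)))).symm
          (F.val.map g.op)

noncomputable def T₁ {U V : C} (g : U ⟶ V) : ModSite.Mod O ⥤ ModuleCat.{u} (O.obj.obj (op U)) :=
  ev O V ⋙ ModuleCat.extendScalars (O.obj.map g.op).hom

noncomputable def βNat {U V : C} (g : U ⟶ V) : T₁ O g ⟶ ev O U where
  app F := β O g F
  naturality F G α := by
    have h1 := PresheafOfModules.Hom.naturality α.val g.op
    change (ModuleCat.extendScalars (O.obj.map g.op).hom).map (α.val.app (op V)) ≫ β O g G =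
      β O g F ≫ α.val.app (op U)
    unfold β
    erw [← Adjunction.homEquiv_naturality_left_symm, ← Adjunction.homEquiv_naturality_right_symm]
    congr 1
    exact h1.symm

end Beta


section BetaUnit

variable {C : Type u} [SmallCategory C] {J : GrothendieckTopology C}
  (O : Sheaf J CommRingCat.{u})

theorem isIso_β_unit {U V : C} (g : U ⟶ V) : IsIso (β O g (ModSite.unit O)) := by
  unfold β
  refine isIso_homEquiv_symm_of_cyclic (O.obj.map g.op).hom _ (1 : O.obj.obj (op V)) ?_
    (1 : O.obj.obj (op U)) ?_ ?_
  · intro x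
    exact ⟨x, (mul_one (show O.obj.obj (op V) from x)).symm⟩
  · intro b
    have h1 : ((ModSite.unit O).val.map g.op).hom (1 : O.obj.obj (op V)) =
        (1 : O.obj.obj (op U)) := PresheafOfModules.unit_map_one _ g.op
    rw [homEquiv_symm_tmul]
    exact congrArg (fun t => b • t) h1
  · constructor
    · intro b b' h
      have h' : (b : O.obj.obj (op U)) * 1 = b' * 1 := h
      simpa using h'
    · intro y
      exact ⟨y, mul_one (show O.obj.obj (op U) from y)⟩

end BetaUnit


section Forward

variable {C : Type u} [SmallCategory C] {J : GrothendieckTopology C} (hJ : J = ⊥)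
  (O : Sheaf J CommRingCat.{u})

include hJ in
theorem ev_preservesColimits (U : C) : PreservesColimitsOfSize.{u, u} (ev O U) :=
  evaluation_preservesColimits hJ (ModSite.ringSh O) (op U)

include hJ in
theorem T₁_preservesColimits {U V : C} (g : U ⟶ V) :
    PreservesColimitsOfSize.{u, u} (T₁ O g) := by
  haveI := ev_preservesColimits hJ O V
  unfold T₁
  infer_instance

include hJ in
theorem isIso_β_free {U V : C} (g : U ⟶ V) (I : Type u) :
    IsIso (β O g (SheafOfModules.free (R := ModSite.ringSh O) I)) := by
  haveI := ev_preservesColimits hJ O U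
  haveI := T₁_preservesColimits hJ O g
  exact isIso_app_of_isColimit (βNat O g) (SheafOfModules.freeCofan I)
    (SheafOfModules.isColimitFreeCofan I) (fun _ => isIso_β_unit O g)

include hJ in
theorem isIso_β_of_presentation {U V : C} (g : U ⟶ V) (M : ModSite.Mod O)
    (P : SheafOfModules.Presentation M) : IsIso (β O g M) := by
  haveI := ev_preservesColimits hJ O U
  haveI := T₁_preservesColimits hJ O g
  haveI : PreservesColimitsOfSize.{0, 0} (ev O U) := preservesColimitsOfSize_shrink _
  haveI : PreservesColimitsOfSize.{0, 0} (T₁ O g) := preservesColimitsOfSize_shrink _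
  have key : ∀ j : WalkingParallelPair, IsIso ((βNat O g).app
      ((parallelPair ((SheafOfModules.freeHomEquiv _).symm P.relations.s ≫ (kernel.ι _))
        (0 : SheafOfModules.free P.relations.I ⟶ SheafOfModules.free P.generators.I)).obj j)) := by
    rintro (_ | _)
    · exact isIso_β_free hJ O g _
    · exact isIso_β_free hJ O g _
  have i1 : PreservesColimit
      (parallelPair ((SheafOfModules.freeHomEquiv _).symm P.relations.s ≫ (kernel.ι _))
        (0 : SheafOfModules.free P.relations.I ⟶ SheafOfModules.free P.generators.I))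
      (T₁ O g) := inferInstance
  have i2 : PreservesColimit
      (parallelPair ((SheafOfModules.freeHomEquiv _).symm P.relations.s ≫ (kernel.ι _))
        (0 : SheafOfModules.free P.relations.I ⟶ SheafOfModules.free P.generators.I))
      (ev O U) := inferInstance
  have h := @isIso_app_of_isColimit _ _ _ _ _ _ (T₁ O g) (ev O U) (βNat O g) _ _ P.isColimit i1 i2 key
  exact h

end Forward


section ForwardMain

variable {C : Type u} [SmallCategory C]
  (O : Sheaf (⊥ : GrothendieckTopology C) CommRingCat.{u})

theorem isIso_β_over {X : C} (F : ModSite.Mod O) {U V : C} (g : U ⟶ V) (h : V ⟶ X)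
    (H : IsIso (β (O.over X) (Over.homMk g : Over.mk (g ≫ h) ⟶ Over.mk h)
      (F.over X : ModSite.Mod (O.over X)))) : IsIso (β O g F) := by
  exact H

theorem isIso_β_of_isQuasicoherent (F : ModSite.Mod O)
    (hF : SheafOfModules.IsQuasicoherent (R := ModSite.ringSh O) F) {U V : C} (g : U ⟶ V) :
    IsIso (β O g F) := by
  obtain ⟨⟨q⟩⟩ := hF
  have h1 : Sieve.ofObjects q.X V ∈ (⊥ : GrothendieckTopology C) V := q.coversTop V
  rw [GrothendieckTopology.bot_covering] at h1
  have h2 : (Sieve.ofObjects q.X V) (𝟙 V) := by rw [h1]; trivial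
  obtain ⟨i, ⟨h⟩⟩ := (Sieve.mem_ofObjects_iff _ _).mp h2
  apply isIso_β_over O F g h
  exact isIso_β_of_presentation (over_bot (q.X i)) (O.over (q.X i)) _ _ (q.presentation i)

end ForwardMain



section Term

variable {D : Type u} [SmallCategory D] {J : GrothendieckTopology D}
  (O : Sheaf J CommRingCat.{u}) {T : D} (hT : IsTerminal T)

/-- The global section determined by its value on the terminal object. -/
noncomputable def secOfTerminal (M : ModSite.Mod O) (n : M.val.obj (op T)) : M.sections :=
  PresheafOfModules.sectionsMk (fun X => M.val.map (hT.from X.unop).op n) (by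
    intro X Y f
    rw [← PresheafOfModules.map_comp_apply]
    apply PresheafOfModules.congr_map_apply
    apply Quiver.Hom.unop_inj
    exact hT.hom_ext _ _)

theorem secOfTerminal_val_terminal (M : ModSite.Mod O) (n : M.val.obj (op T)) :
    (secOfTerminal O hT M n).val (op T) = n := by
  change M.val.map (hT.from T).op n = n
  have : hT.from T = 𝟙 T := hT.hom_ext _ _
  rw [this]
  simp

include hT in
theorem sections_ext_terminal (M : ModSite.Mod O) (s t : M.sections)
    (h : s.val (op T) = t.val (op T)) : s = t := by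
  apply PresheafOfModules.sections_ext
  intro X
  rw [← PresheafOfModules.sections_property s (hT.from X.unop).op,
    ← PresheafOfModules.sections_property t (hT.from X.unop).op, h]

theorem sectionsMap_secOfTerminal {M N : ModSite.Mod O} (p : M ⟶ N) (n : M.val.obj (op T)) :
    SheafOfModules.sectionsMap p (secOfTerminal O hT M n) =
      secOfTerminal O hT N (p.val.app (op T) n) := by
  apply sections_ext_terminal O hT
  rw [secOfTerminal_val_terminal]
  change p.val.app (op T) ((secOfTerminal O hT M n).val (op T)) = _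
  rw [secOfTerminal_val_terminal]

end Term

section Finsupp

variable (A : Type u) [CommRing A] (I : Type u)

/-- The cofan exhibiting `I →₀ A` as coproduct of copies of `A`. -/
noncomputable def finsuppCofan : Cofan (fun _ : I => ModuleCat.of A A) :=
  Cofan.mk (ModuleCat.of A (I →₀ A)) (fun i => ModuleCat.ofHom (Finsupp.lsingle i))

noncomputable def isColimitFinsuppCofan : IsColimit (finsuppCofan A I) :=
  Cofan.IsColimit.mk _
    (fun s => ModuleCat.ofHom (Finsupp.lsum ℕ (fun i => (s.inj i).hom)))
    (fun s i => by
      ext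
      simp [finsuppCofan])
    (fun s m hm => by
      apply ModuleCat.hom_ext
      apply Finsupp.lhom_ext'
      intro i
      have := congrArg (fun t => ModuleCat.Hom.hom t (1 : A)) (hm i)
      ext
      simpa [finsuppCofan] using this)

end Finsupp


section Converse

variable {D : Type u} [SmallCategory D] {J : GrothendieckTopology D} (hJ : J = ⊥)
  (O : Sheaf J CommRingCat.{u}) {T : D} (hT : IsTerminal T)

include hJ in
/-- The cofan of evaluations at `T` of the free cofan is a colimit. -/
noncomputable def isColimitEvFreeCofan (I : Type u) :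
    IsColimit (Cofan.mk ((ev O T).obj (SheafOfModules.free I))
      (fun i => (ev O T).map (SheafOfModules.ιFree (R := ModSite.ringSh O) i))) := by
  haveI := ev_preservesColimits hJ O T
  exact isColimitMapCoconeCofanMkEquiv (ev O T) _ _
    (isColimitOfPreserves (ev O T) (SheafOfModules.isColimitFreeCofan (R := ModSite.ringSh O) I))

/-- The value of the free module at `T` is the module of finitely supported functions. -/
noncomputable def eFree (I : Type u) :
    (ev O T).obj (SheafOfModules.free (R := ModSite.ringSh O) I) ≅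
      ModuleCat.of (O.obj.obj (op T)) (I →₀ O.obj.obj (op T)) :=
  (isColimitEvFreeCofan hJ O I).coconePointUniqueUpToIso
    (isColimitFinsuppCofan (O.obj.obj (op T)) I)

theorem ι_eFree_hom (I : Type u) (i : I) :
    (ev O T).map (SheafOfModules.ιFree (R := ModSite.ringSh O) i) ≫ (eFree hJ O (T := T) I).hom =
      ModuleCat.ofHom (Finsupp.lsingle i) :=
  (isColimitEvFreeCofan hJ O I).comp_coconePointUniqueUpToIso_hom
    (isColimitFinsuppCofan (O.obj.obj (op T)) I) ⟨i⟩

variable (M : ModSite.Mod O)

/-- The module of values at the terminal object. -/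
noncomputable abbrev NT : ModuleCat.{u} (O.obj.obj (op T)) := (ev O T).obj M

/-- the tautological linear combination map -/
noncomputable abbrev lc : ((NT O (T := T) M) →₀ O.obj.obj (op T)) →ₗ[O.obj.obj (op T)] (NT O (T := T) M) :=
  Finsupp.linearCombination (O.obj.obj (op T)) id

/-- The generators map. -/
noncomputable def genMap : SheafOfModules.free (R := ModSite.ringSh O) (NT O (T := T) M) ⟶ M :=
  M.freeHomEquiv.symm (fun n => secOfTerminal O hT M n)

/-- The relations map. -/
noncomputable def relMap :
    SheafOfModules.free (R := ModSite.ringSh O) (LinearMap.ker (lc O (T := T) M)) ⟶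
      SheafOfModules.free (R := ModSite.ringSh O) (NT O (T := T) M) :=
  (SheafOfModules.free _).freeHomEquiv.symm
    (fun k => secOfTerminal O hT _ ((eFree hJ O (T := T) (NT O (T := T) M)).inv k.1))

theorem ιFree_freeHomEquiv_symm (M' : ModSite.Mod O) {I : Type u} (s : I → M'.sections) (i : I) :
    SheafOfModules.ιFree i ≫ M'.freeHomEquiv.symm s = M'.unitHomEquiv.symm (s i) := by
  rw [← SheafOfModules.unitHomEquiv_symm_freeHomEquiv_apply, Equiv.apply_symm_apply]

theorem unitHomEquiv_symm_app_one (M' : ModSite.Mod O) (s : M'.sections) (X : Dᵒᵖ) :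
    (M'.unitHomEquiv.symm s).val.app X (1 : (ModSite.ringSh O).obj.obj X) = s.val X := by
  rw [← SheafOfModules.unitHomEquiv_apply_coe, Equiv.apply_symm_apply]

theorem ev_map_unitHomEquiv_symm_one (M' : ModSite.Mod O) (s : M'.sections) :
    ((ev O T).map (M'.unitHomEquiv.symm s)).hom (1 : O.obj.obj (op T)) = s.val (op T) :=
  unitHomEquiv_symm_app_one O M' s (op T)

theorem ev_genMap :
    (ev O T).map (genMap O hT M) =
      (eFree hJ O (T := T) (NT O (T := T) M)).hom ≫ ModuleCat.ofHom (lc O (T := T) M) := by
  apply Cofan.IsColimit.hom_ext (isColimitEvFreeCofan hJ O _)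
  intro n
  simp only [Cofan.mk_pt, Cofan.inj, Cofan.mk_ι_app]
  rw [← Functor.map_comp, ← Category.assoc, ι_eFree_hom]
  unfold genMap
  rw [ιFree_freeHomEquiv_symm]
  apply ModuleCat.hom_ext
  apply LinearMap.ext_ring
  refine (ev_map_unitHomEquiv_symm_one O M (secOfTerminal O hT M n)).trans ?_
  refine (secOfTerminal_val_terminal O hT M n).trans ?_
  change n = lc O M (Finsupp.single n 1)
  simp [lc]

/-- the inclusion of relations, as a linear map between finitely supported functions -/
noncomputable abbrev g1 : ((LinearMap.ker (lc O (T := T) M)) →₀ O.obj.obj (op T)) →ₗ[O.obj.obj (op T)]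
    ((NT O (T := T) M) →₀ O.obj.obj (op T)) :=
  Finsupp.linearCombination (O.obj.obj (op T)) (fun k => (k : (NT O (T := T) M) →₀ O.obj.obj (op T)))

theorem ev_relMap :
    (ev O T).map (relMap hJ O hT M) ≫ (eFree hJ O (T := T) (NT O (T := T) M)).hom =
      (eFree hJ O (T := T) (LinearMap.ker (lc O (T := T) M))).hom ≫
        ModuleCat.ofHom (g1 O (T := T) M) := by
  apply Cofan.IsColimit.hom_ext (isColimitEvFreeCofan hJ O _)
  intro k
  simp only [Cofan.mk_pt, Cofan.inj, Cofan.mk_ι_app]
  rw [← Category.assoc, ← Functor.map_comp, ← Category.assoc, ι_eFree_hom]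
  unfold relMap
  rw [ιFree_freeHomEquiv_symm]
  apply ModuleCat.hom_ext
  apply LinearMap.ext_ring
  change (eFree hJ O (T := T) (NT O (T := T) M)).hom.hom
    (((ev O T).map ((SheafOfModules.unitHomEquiv _).symm _)).hom (1 : O.obj.obj (op T))) = _
  rw [ev_map_unitHomEquiv_symm_one, secOfTerminal_val_terminal]
  change (eFree hJ O (T := T) (NT O (T := T) M)).hom.hom
    ((eFree hJ O (T := T) (NT O (T := T) M)).inv.hom k.1) = g1 O M (Finsupp.single k 1)
  simp [g1]

include hT in
theorem hom_ext_free_terminal (M' : ModSite.Mod O) {I : Type u}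
    (φ ψ : SheafOfModules.free (R := ModSite.ringSh O) I ⟶ M')
    (h : (ev O T).map φ = (ev O T).map ψ) : φ = ψ := by
  apply M'.freeHomEquiv.injective
  funext i
  apply sections_ext_terminal O hT
  change (SheafOfModules.ιFree i ≫ φ).val.app (op T) _ = (SheafOfModules.ιFree i ≫ ψ).val.app (op T) _
  have h' : φ.val.app (op T) = ψ.val.app (op T) := h
  rw [SheafOfModules.comp_val, SheafOfModules.comp_val, PresheafOfModules.comp_app,
    PresheafOfModules.comp_app, h']

theorem lc_comp_g1 : (lc O (T := T) M) ∘ₗ (g1 O (T := T) M) = 0 := by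
  apply Finsupp.lhom_ext'
  intro k
  apply LinearMap.ext_ring
  have := k.2
  rw [LinearMap.mem_ker] at this
  simp [g1, this]

theorem relMap_genMap : relMap hJ O hT M ≫ genMap O hT M = 0 := by
  apply hom_ext_free_terminal O hT
  rw [Functor.map_comp, ev_genMap hJ, ← Category.assoc, ev_relMap, Category.assoc,
    ← ModuleCat.ofHom_comp, lc_comp_g1]
  have h0 : (ev O T).map (0 : SheafOfModules.free (R := ModSite.ringSh O)
      (LinearMap.ker (lc O (T := T) M)) ⟶ M) = 0 := rfl
  rw [h0]
  simp

/-- The short complex of values at `T`. -/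
noncomputable def scT : ShortComplex (ModuleCat.{u} (O.obj.obj (op T))) :=
  ShortComplex.mk ((ev O T).map (relMap hJ O hT M)) ((ev O T).map (genMap O hT M))
    (by rw [← Functor.map_comp, relMap_genMap]; rfl)

theorem scT_exact : (scT hJ O hT M).Exact := by
  rw [ShortComplex.moduleCat_exact_iff]
  intro x₂ hx₂
  change ((ev O T).map (genMap O hT M)).hom x₂ = 0 at hx₂
  rw [ev_genMap hJ] at hx₂
  have hk : (eFree hJ O (T := T) (NT O (T := T) M)).hom.hom x₂ ∈ LinearMap.ker (lc O (T := T) M) := by
    rw [LinearMap.mem_ker]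
    exact hx₂
  refine ⟨(eFree hJ O (T := T) (LinearMap.ker (lc O (T := T) M))).inv.hom
    (Finsupp.single ⟨_, hk⟩ 1), ?_⟩
  have hinj : Function.Injective (eFree hJ O (T := T) (NT O (T := T) M)).hom.hom := by
    intro a b hab
    have := congrArg (eFree hJ O (T := T) (NT O (T := T) M)).inv.hom hab
    simpa using this
  apply hinj
  have h1 := congrArg (fun t => t.hom ((eFree hJ O (T := T) (LinearMap.ker (lc O (T := T) M))).inv.hom
    (Finsupp.single ⟨_, hk⟩ 1))) (ev_relMap hJ O hT M)
  simp only [ModuleCat.hom_comp, LinearMap.comp_apply] at h1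
  change (eFree hJ O (T := T) (NT O (T := T) M)).hom.hom
    (((ev O T).map (relMap hJ O hT M)).hom _) = _
  rw [h1]
  simp [g1]

theorem scT_epi : Epi (scT hJ O hT M).g := by
  rw [ModuleCat.epi_iff_surjective]
  intro n
  refine ⟨(eFree hJ O (T := T) (NT O (T := T) M)).inv.hom (Finsupp.single n 1), ?_⟩
  change ((ev O T).map (genMap O hT M)).hom _ = n
  rw [ev_genMap hJ]
  simp [lc]

/-- The cokernel cofork of the presentation. -/
noncomputable abbrev presCofork : CokernelCofork (relMap hJ O hT M) :=
  CokernelCofork.ofπ (genMap O hT M) (relMap_genMap hJ O hT M)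

noncomputable def isColimitEvT : IsColimit ((ev O T).mapCocone (presCofork hJ O hT M)) := by
  haveI := scT_epi hJ O hT M
  exact (CokernelCofork.isColimitMapCoconeEquiv (presCofork hJ O hT M) (ev O T)).symm
    ((scT_exact hJ O hT M).gIsCokernel)

noncomputable def isColimitEvX (hM : ∀ {U V : D} (g : U ⟶ V), IsIso (β O g M)) (X : D) :
    IsColimit ((ev O X).mapCocone (presCofork hJ O hT M)) := by
  have h1 : IsColimit ((T₁ O (hT.from X)).mapCocone (presCofork hJ O hT M)) :=
    isColimitOfPreserves (ModuleCat.extendScalars (O.obj.map (hT.from X).op).hom)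
      (isColimitEvT hJ O hT M)
  refine isColimitMapCoconeOfNatTrans (βNat O (hT.from X)) _ ?_ (hM _) h1
  rintro (_ | _)
  · exact isIso_β_free hJ O _ _
  · exact isIso_β_free hJ O _ _

noncomputable def isColimitPresCofork (hM : ∀ {U V : D} (g : U ⟶ V), IsIso (β O g M)) :
    IsColimit (presCofork hJ O hT M) :=
  isColimitOfReflects (SheafOfModules.forget (ModSite.ringSh O))
    (PresheafOfModules.evaluationJointlyReflectsColimits _ _
      (fun X => isColimitEvX hJ O hT M hM X.unop))

noncomputable def presentationOfBaseChange (hM : ∀ {U V : D} (g : U ⟶ V), IsIso (β O g M)) :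
    SheafOfModules.Presentation M :=
  SheafOfModules.presentationOfIsCokernelFree _ _ (relMap_genMap hJ O hT M)
    (isColimitPresCofork hJ O hT M hM)

end Converse


section ConverseMain

variable {C : Type u} [SmallCategory C]
  (O : Sheaf (⊥ : GrothendieckTopology C) CommRingCat.{u})

theorem isIso_β_over' {X : C} (F : ModSite.Mod O) {Y' Y : Over X} (g' : Y' ⟶ Y)
    (H : IsIso (β O g'.left F)) :
    IsIso (β (O.over X) g' (F.over X : ModSite.Mod (O.over X))) := by
  exact H

theorem isQuasicoherent_of_isIso_β (F : ModSite.Mod O)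
    (hF : ∀ (U V : C) (g : U ⟶ V), IsIso (β O g F)) :
    SheafOfModules.IsQuasicoherent (R := ModSite.ringSh O) F := by
  refine SheafOfModules.QuasicoherentData.isQuasicoherent (M := F)
    { I := C
      X := fun X => X
      coversTop := ?_
      presentation := fun V => ?_ }
  · intro V
    rw [GrothendieckTopology.bot_covering, ← Sieve.id_mem_iff_eq_top]
    exact (Sieve.mem_ofObjects_iff _ _).mpr ⟨V, ⟨𝟙 V⟩⟩
  · exact presentationOfBaseChange (over_bot V) (O.over V) Over.mkIdTerminal
      (F.over V : ModSite.Mod (O.over V)) (fun g' => isIso_β_over' O F g' (hF _ _ g'.left))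

theorem main9122 (F : ModSite.Mod O) :
    SheafOfModules.IsQuasicoherent (R := ModSite.ringSh O) F ↔
      ∀ (U V : C) (g : U ⟶ V), IsIso
        (((ModuleCat.extendRestrictScalarsAdj (O.obj.map g.op).hom).homEquiv
          (F.val.obj (op V) : ModuleCat.{u} (O.obj.obj (op V))) (F.val.obj (op U) : ModuleCat.{u} (O.obj.obj (op U)))).symm
          (F.val.map g.op)) :=
  ⟨fun h _ _ g => isIso_β_of_isQuasicoherent O F h g, fun h => isQuasicoherent_of_isIso_β O F h⟩

end ConverseMain

end Groth.Agent.Lib.ChaoticH4
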