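import Mathlib
import Groth.Agent.Lib.Chaotic_helper4

set_option autoImplicit false
universe u v w

open CategoryTheory CategoryTheory.Limits Opposite TensorProduct ChangeOfRings

namespace Groth.Agent.Lib.ChaoticH4

section Flat

variable {A B : Type u} [CommRing A] [CommRing B] (φ : A →+* B)

instance extendScalars_additive : (ModuleCat.extendScalars.{u, u, u} φ).Additive :=
  (ModuleCat.extendRestrictScalarsAdj.{u, u, u} φ).left_adjoint_additive

theorem extendScalars_preservesFiniteLimits (hφ : φ.Flat) :
    PreservesFiniteLimits (ModuleCat.extendScalars.{u, u, u} φ) := by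
  rw [Functor.preservesFiniteLimits_iff_forall_exact_map_and_mono]
  intro S hS
  constructor
  · have h1 : PreservesFiniteColimits (ModuleCat.extendScalars.{u, u, u} φ) := inferInstance
    have h2 : ∀ (S : ShortComplex (ModuleCat.{u} A)), S.ShortExact →
        (S.map (ModuleCat.extendScalars.{u, u, u} φ)).Exact ∧
          Epi ((ModuleCat.extendScalars.{u, u, u} φ).map S.g) :=
      ((Functor.preservesFiniteColimits_tfae (ModuleCat.extendScalars.{u, u, u} φ)).out 3 0).mp h1
    exact (h2 S hS).1
  · have hinj := hS.mono_f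
    rw [ModuleCat.mono_iff_injective] at hinj ⊢
    letI := φ.toAlgebra
    haveI : Module.Flat A B := hφ
    exact Module.Flat.lTensor_preserves_injective_linearMap (M := B) S.f.hom hinj

end Flat

section Serre

variable {C : Type u} [SmallCategory C]
  (O : Sheaf (⊥ : GrothendieckTopology C) CommRingCat.{u})

theorem ev_preservesFiniteLimits (U : C) : PreservesFiniteLimits (ev O U) := by
  unfold ev
  exact SheafOfModules.Finite.evaluationPreservesFiniteLimits _ _

theorem ev_preservesFiniteColimits (U : C) : PreservesFiniteColimits (ev O U) := by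
  haveI := ev_preservesColimits rfl O U
  exact PreservesColimitsOfSize.preservesFiniteColimits _

instance T₁_additive {U V : C} (g : U ⟶ V) : (T₁ O g).Additive := by
  unfold T₁
  infer_instance

theorem T₁_preservesFiniteColimits {U V : C} (g : U ⟶ V) : PreservesFiniteColimits (T₁ O g) := by
  haveI := T₁_preservesColimits rfl O g
  exact PreservesColimitsOfSize.preservesFiniteColimits _

theorem T₁_preservesFiniteLimits {U V : C} (g : U ⟶ V) (hg : (O.obj.map g.op).hom.Flat) :
    PreservesFiniteLimits (T₁ O g) := by
  haveI := extendScalars_preservesFiniteLimits _ hg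
  haveI := ev_preservesFiniteLimits O V
  unfold T₁
  infer_instance

theorem isIso_β_cokernel {F G : ModSite.Mod O} (α : F ⟶ G) {U V : C} (g : U ⟶ V)
    (hF : IsIso (β O g F)) (hG : IsIso (β O g G)) : IsIso (β O g (cokernel α)) := by
  haveI := ev_preservesFiniteColimits O U
  haveI := T₁_preservesFiniteColimits O g
  have key : ∀ j : WalkingParallelPair, IsIso ((βNat O g).app ((parallelPair α 0).obj j)) := by
    rintro (_ | _)
    · exact hF
    · exact hG
  have i1 : PreservesColimit (parallelPair α 0) (T₁ O g) := inferInstance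
  have i2 : PreservesColimit (parallelPair α 0) (ev O U) := inferInstance
  have hc := cokernelIsCokernel α
  have h := @isIso_app_of_isColimit _ _ _ _ _ _ (T₁ O g) (ev O U) (βNat O g) _ _ hc i1 i2 key
  exact h

theorem isIso_β_kernel {F G : ModSite.Mod O} (α : F ⟶ G) {U V : C} (g : U ⟶ V)
    (hg : (O.obj.map g.op).hom.Flat)
    (hF : IsIso (β O g F)) (hG : IsIso (β O g G)) : IsIso (β O g (kernel α)) := by
  haveI := ev_preservesFiniteLimits O U
  haveI := T₁_preservesFiniteLimits O g hg
  have key : ∀ j : WalkingParallelPair, IsIso ((βNat O g).app ((parallelPair α 0).obj j)) := by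
    rintro (_ | _)
    · exact hF
    · exact hG
  have i1 : PreservesLimit (parallelPair α 0) (T₁ O g) := inferInstance
  have i2 : PreservesLimit (parallelPair α 0) (ev O U) := inferInstance
  have hc := kernelIsKernel α
  have h := @isIso_app_of_isLimit _ _ _ _ _ _ (T₁ O g) (ev O U) (βNat O g) _ _ hc i1 i2 key
  exact h

theorem isIso_β_of_shortExact (S : ShortComplex (ModSite.Mod O)) (hS : S.ShortExact)
    {U V : C} (g : U ⟶ V) (hg : (O.obj.map g.op).hom.Flat)
    (h1 : IsIso (β O g S.X₁)) (h3 : IsIso (β O g S.X₃)) : IsIso (β O g S.X₂) := by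
  haveI := ev_preservesFiniteLimits O U
  haveI := T₁_preservesFiniteLimits O g hg
  haveI := ev_preservesFiniteColimits O U
  haveI := T₁_preservesFiniteColimits O g
  have e1 : (S.map (T₁ O g)).ShortExact := hS.map_of_exact (T₁ O g)
  have e2 : (S.map (ev O U)).ShortExact := hS.map_of_exact (ev O U)
  haveI : IsIso (S.mapNatTrans (βNat O g)).τ₁ := h1
  haveI : IsIso (S.mapNatTrans (βNat O g)).τ₃ := h3
  exact ShortComplex.isIso₂_of_shortExact_of_isIso₁₃ (S.mapNatTrans (βNat O g)) e1 e2

theorem main9123 (hO : ∀ (U V : C) (g : U ⟶ V), (O.obj.map g.op).hom.Flat) :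
    (∀ (F G : ModSite.Mod O) (α : F ⟶ G), SheafOfModules.IsQuasicoherent (R := ModSite.ringSh O) F → SheafOfModules.IsQuasicoherent (R := ModSite.ringSh O) G →
        SheafOfModules.IsQuasicoherent (R := ModSite.ringSh O) (kernel α) ∧ SheafOfModules.IsQuasicoherent (R := ModSite.ringSh O) (cokernel α)) ∧
    (∀ (S : ShortComplex (ModSite.Mod O)), S.ShortExact → SheafOfModules.IsQuasicoherent (R := ModSite.ringSh O) S.X₁ → SheafOfModules.IsQuasicoherent (R := ModSite.ringSh O) S.X₃ → SheafOfModules.IsQuasicoherent (R := ModSite.ringSh O) S.X₂) := by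
  constructor
  · intro F G α hF hG
    constructor
    · apply isQuasicoherent_of_isIso_β
      intro U V g
      exact isIso_β_kernel O α g (hO U V g) (isIso_β_of_isQuasicoherent O F hF g)
        (isIso_β_of_isQuasicoherent O G hG g)
    · apply isQuasicoherent_of_isIso_β
      intro U V g
      exact isIso_β_cokernel O α g (isIso_β_of_isQuasicoherent O F hF g)
        (isIso_β_of_isQuasicoherent O G hG g)
  · intro S hS h1 h3
    apply isQuasicoherent_of_isIso_β
    intro U V g
    exact isIso_β_of_shortExact O S hS g (hO U V g) (isIso_β_of_isQuasicoherent O _ h1 g)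
      (isIso_β_of_isQuasicoherent O _ h3 g)

end Serre

end Groth.Agent.Lib.ChaoticH4
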