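import Groth.Prelude.Def_Exal
import Groth.Prelude.Def_Exal2
import Mathlib.RingTheory.Smooth.Basic
import Mathlib.Tactic.Abel

/-!
# Helper lemmas on extensions of a commutative algebra by a module (`Exal.Ext`)
-/

set_option autoImplicit false
universe u v

namespace Groth.Agent.Lib.Exal_helper9

open Exal

variable {A : Type u} {B L : Type v} [CommRing A] [CommRing B] [Algebra A B] [AddCommGroup L]
  [Module B L]

theorem proj_incl (X : Ext A B L) (z : L) : X.proj (X.incl z) = 0 :=
  (X.isExtension.exact _).2 ⟨z, rfl⟩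

theorem incl_mul_incl (X : Ext A B L) (z z' : L) : X.incl z * X.incl z' = 0 := by
  rw [X.isExtension.mul_incl, proj_incl, zero_smul, map_zero]

theorem incl_mul (X : Ext A B L) (x : X.E) (z : L) : X.incl z * x = X.incl (X.proj x • z) := by
  rw [mul_comm, X.isExtension.mul_incl]

theorem exists_incl_eq_sub (X : Ext A B L) {x y : X.E} (h : X.proj x = X.proj y) :
    ∃ z, X.incl z = x - y :=
  (X.isExtension.exact _).1 (by rw [map_sub, h, sub_self])

theorem bijective_of_compat (X Y : Ext A B L) (φ : X.E →ₐ[A] Y.E)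
    (hp : ∀ x, Y.proj (φ x) = X.proj x) (hi : ∀ z, φ (X.incl z) = Y.incl z) :
    Function.Bijective φ := by
  constructor
  · rw [injective_iff_map_eq_zero]
    intro x hx
    have h1 : X.proj x = 0 := by rw [← hp, hx, map_zero]
    obtain ⟨z, rfl⟩ := (X.isExtension.exact x).1 h1
    rw [hi] at hx
    have h2 : z = 0 := Y.isExtension.incl_injective (by rw [hx, map_zero])
    rw [h2, map_zero]
  · intro y
    obtain ⟨x, hx⟩ := X.isExtension.proj_surjective (Y.proj y)
    obtain ⟨z, hz⟩ := exists_incl_eq_sub Y (x := y) (y := φ x) (by rw [hp, hx])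
    refine ⟨x + X.incl z, ?_⟩
    rw [map_add, hi, hz]
    abel

/-- A homomorphism of extensions is an equivalence (five lemma). -/
noncomputable def equivOfHom (X Y : Ext A B L) (φ : X.E →ₐ[A] Y.E)
    (hp : ∀ x, Y.proj (φ x) = X.proj x) (hi : ∀ z, φ (X.incl z) = Y.incl z) : X.Equiv Y where
  toAlgEquiv := AlgEquiv.ofBijective φ (bijective_of_compat X Y φ hp hi)
  proj_apply := hp
  apply_incl := hi

theorem isTrivial_of_equiv {X Y : Ext A B L} (e : X.Equiv Y) (h : X.IsTrivial) : Y.IsTrivial := by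
  obtain ⟨s, hs⟩ := h
  refine ⟨(e.toAlgEquiv : X.E →ₐ[A] Y.E).comp s, fun b => ?_⟩
  show Y.proj (e.toAlgEquiv (s b)) = b
  rw [e.proj_apply, hs]

theorem isNilpotent_ker_proj (X : Ext A B L) :
    IsNilpotent (RingHom.ker (X.proj : X.E →+* B)) := by
  refine ⟨2, ?_⟩
  rw [Ideal.zero_eq_bot, eq_bot_iff, pow_two, Ideal.mul_le]
  intro x hx y hy
  rw [RingHom.mem_ker] at hx hy
  obtain ⟨z, rfl⟩ := (X.isExtension.exact x).1 hx
  obtain ⟨z', rfl⟩ := (X.isExtension.exact y).1 hy
  rw [incl_mul_incl]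
  exact Ideal.zero_mem _

theorem isTrivial_of_formallySmooth [Algebra.FormallySmooth A B] (X : Ext A B L) :
    X.IsTrivial :=
  ⟨Algebra.FormallySmooth.liftOfSurjective (AlgHom.id A B) X.proj X.isExtension.proj_surjective
      (isNilpotent_ker_proj X),
    fun b => Algebra.FormallySmooth.liftOfSurjective_apply (AlgHom.id A B) X.proj
      X.isExtension.proj_surjective (isNilpotent_ker_proj X) b⟩

end Groth.Agent.Lib.Exal_helper9
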