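import Groth.Prelude.Def_Exal3
import Groth.Agent.Lib.Exal_helper9
import Mathlib.RingTheory.Kaehler.Basic
import Mathlib.Tactic.LinearCombination
import Mathlib.Tactic.Abel

/-!
# Characteristic homomorphisms of extensions trivial over a base (helper9)

For ring maps `A → B → C`, a `C`-module `L` and a `B`-extension `X` of `C` by `L` equipped with an
`A`-algebra section `σ` of its projection, this file builds the retraction
`C ⊗_E Ω_{E/A} → L` of `Exal.Ext.deltaL`, the `C`-linear map `charLift σ : C ⊗_B Ω_{B/A} → L`
(whose restriction to the imperfection module is the characteristic homomorphism), and shows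
that `X.IsCharHom A χ` holds iff `χ` is the restriction of `charLift σ`.
-/

set_option autoImplicit false

universe u v

namespace Groth.Agent.Lib.CharHom_helper9

open Exal Exal.Ext TensorProduct

variable (A : Type u) {B C L : Type v} [CommRing A] [CommRing B] [CommRing C] [Algebra A B]
  [Algebra B C] [Algebra A C] [IsScalarTower A B C] [AddCommGroup L] [Module C L]

/-- Data of an `A`-algebra section of the projection of a `B`-extension of `C`. -/
structure Sec (X : Ext B C L) where
  s : C →+* X.E
  proj_s : ∀ c, X.proj (s c) = c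
  s_algebraMap : ∀ a : A, s (algebraMap A C a) = algebraMap B X.E (algebraMap A B a)

theorem exists_sec (X : Ext B C L) (h : X.IsTrivialOver A) : Nonempty (Sec A X) := by
  obtain ⟨s, hs⟩ := h
  exact ⟨⟨(s : C →+* (X.restrictBase A).E), hs, fun a => s.commutes a⟩⟩

variable {A}
variable {X : Ext B C L} (σ : Sec A X)

theorem proj_sub_s (e : X.E) : X.proj (e - σ.s (X.proj e)) = 0 := by
  rw [map_sub, σ.proj_s, sub_self]

/-- The `L`-component of an element of the middle ring, relative to a section. -/
noncomputable def delta (e : X.E) : L := X.kerLift _ (proj_sub_s σ e)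

theorem incl_delta (e : X.E) : X.incl (delta σ e) = e - σ.s (X.proj e) :=
  X.incl_kerLift _ _

theorem delta_add (e e' : X.E) : delta σ (e + e') = delta σ e + delta σ e' := by
  apply X.isExtension.incl_injective
  rw [map_add X.incl, incl_delta, incl_delta, incl_delta, map_add X.proj, map_add σ.s]
  abel

theorem delta_mul (e e' : X.E) :
    delta σ (e * e') = X.proj e • delta σ e' + X.proj e' • delta σ e := by
  apply X.isExtension.incl_injective
  have h0 : X.incl (delta σ e) * X.incl (delta σ e') = 0 := Exal_helper9.incl_mul_incl X _ _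
  rw [incl_delta, incl_delta] at h0
  rw [map_add X.incl, ← X.isExtension.mul_incl, ← X.isExtension.mul_incl, incl_delta, incl_delta,
    incl_delta, map_mul X.proj, map_mul σ.s]
  linear_combination (-1 : X.E) * h0

theorem delta_incl (l : L) : delta σ (X.incl l) = l := by
  apply X.isExtension.incl_injective
  rw [incl_delta, Exal_helper9.proj_incl, map_zero, sub_zero]

theorem delta_s (c : C) : delta σ (σ.s c) = 0 := by
  apply X.isExtension.incl_injective
  rw [incl_delta, σ.proj_s, sub_self, map_zero]

theorem delta_one : delta σ (1 : X.E) = 0 := by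
  have := delta_s σ 1
  rwa [map_one] at this

theorem delta_zero : delta σ (0 : X.E) = 0 := by
  have := delta_s σ 0
  rwa [map_zero] at this

theorem delta_algebraMap (a : A) : delta σ (algebraMap B X.E (algebraMap A B a)) = 0 := by
  rw [← σ.s_algebraMap, delta_s]

theorem eq_s_add_incl (e : X.E) : e = σ.s (X.proj e) + X.incl (delta σ e) := by
  rw [incl_delta]; ring

section Instances

variable (A) (X)

/-- `L` as a module over the middle ring, through the projection. -/
@[reducible] noncomputable def moduleE : Module (X.CharCarrier A) L :=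
  Module.compHom L (algebraMap (X.CharCarrier A) C)

end Instances

attribute [local instance] moduleE

theorem isScalarTower_E_C (A : Type u) [CommRing A] [Algebra A B] [Algebra A C]
    [IsScalarTower A B C] (X : Ext B C L) : IsScalarTower (X.CharCarrier A) C L :=
  IsScalarTower.of_algebraMap_smul (fun _ _ => rfl)

variable [Module A L] [IsScalarTower A C L]

theorem isScalarTower_A_E (A : Type u) [CommRing A] [Algebra A B] [Algebra A C]
    [IsScalarTower A B C] [Module A L] [IsScalarTower A C L] (X : Ext B C L) :
    IsScalarTower A (X.CharCarrier A) L :=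
  IsScalarTower.of_algebraMap_smul (fun a l => by
    show algebraMap (X.CharCarrier A) C (algebraMap A (X.CharCarrier A) a) • l = a • l
    rw [← IsScalarTower.algebraMap_apply A (X.CharCarrier A) C, algebraMap_smul])

attribute [local instance] isScalarTower_E_C isScalarTower_A_E

/-- `delta` as an `A`-derivation of the middle ring into `L`. -/
noncomputable def deltaDer : Derivation A (X.CharCarrier A) L :=
  Derivation.mk'
    { toFun := fun e => delta σ e
      map_add' := delta_add σ
      map_smul' := fun a (e : X.E) => by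
        show delta σ (a • (show X.CharCarrier A from e)) = a • delta σ e
        rw [Algebra.smul_def]
        show delta σ (algebraMap B X.E (algebraMap A B a) * e) = _
        rw [delta_mul, delta_algebraMap, smul_zero, add_zero, X.proj.commutes,
          ← IsScalarTower.algebraMap_apply, algebraMap_smul] }
    (fun e e' => delta_mul σ e e')

theorem deltaDer_apply (e : X.CharCarrier A) : deltaDer σ e = delta σ e := rfl

/-- The retraction of `deltaL` attached to a section. -/
noncomputable def retr : C ⊗[X.CharCarrier A] Ω[X.CharCarrier A⁄A] →ₗ[C] L :=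
  LinearMap.liftBaseChange C (deltaDer σ).liftKaehlerDifferential

theorem retr_tmul_D (c : C) (e : X.CharCarrier A) :
    retr σ (c ⊗ₜ[X.CharCarrier A] KaehlerDifferential.D A (X.CharCarrier A) e) =
      c • delta σ e := by
  rw [retr, LinearMap.liftBaseChange_tmul, Derivation.liftKaehlerDifferential_comp_D,
    deltaDer_apply]

theorem retr_deltaL (l : L) : retr σ (X.deltaL A l) = l := by
  show retr σ ((1 : C) ⊗ₜ[X.CharCarrier A]
    KaehlerDifferential.D A (X.CharCarrier A) (X.inclC A l)) = l
  rw [retr_tmul_D, one_smul]
  exact delta_incl σ l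

include σ in
theorem deltaL_injective : Function.Injective (X.deltaL A) := fun l l' h => by
  rw [← retr_deltaL σ l, h, retr_deltaL]

variable (A) (X) in
theorem bcm_tmul (c : C) (ω : Ω[B⁄A]) :
    X.baseChangeToMiddle A (c ⊗ₜ[B] ω) =
      c ⊗ₜ[X.CharCarrier A] KaehlerDifferential.map A A B (X.CharCarrier A) ω := rfl

variable (A) (X) in
theorem bcm_smul (c : C) (z : C ⊗[B] Ω[B⁄A]) :
    X.baseChangeToMiddle A (c • z) = c • X.baseChangeToMiddle A z := by
  induction z using TensorProduct.induction_on with
  | zero => rw [smul_zero, map_zero, smul_zero]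
  | tmul c' ω => rw [TensorProduct.smul_tmul', bcm_tmul, bcm_tmul, TensorProduct.smul_tmul']
  | add x y hx hy => rw [smul_add, map_add, hx, hy, map_add, smul_add]

/-- The `C`-linear map `C ⊗_B Ω_{B/A} → L` attached to a section; on the imperfection module it is
the characteristic homomorphism. -/
noncomputable def charLift : C ⊗[B] Ω[B⁄A] →ₗ[C] L :=
  { toFun := fun z => retr σ (X.baseChangeToMiddle A z)
    map_add' := fun z z' => by rw [map_add, map_add]
    map_smul' := fun c z => by rw [bcm_smul, map_smul, RingHom.id_apply] }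

theorem charLift_apply (z : C ⊗[B] Ω[B⁄A]) :
    charLift σ z = retr σ (X.baseChangeToMiddle A z) := rfl

theorem charLift_tmul_D (c : C) (b : B) :
    charLift σ (c ⊗ₜ[B] KaehlerDifferential.D A B b) = c • delta σ (algebraMap B X.E b) := by
  rw [charLift_apply, bcm_tmul, KaehlerDifferential.map_D, retr_tmul_D]
  rfl

theorem eq_charLift_of_isCharHom {χ : ↥(EGA41.imperfection A B C) →ₗ[C] L}
    (h : X.IsCharHom A χ) (z : ↥(EGA41.imperfection A B C)) :
    χ z = charLift σ (z : C ⊗[B] Ω[B⁄A]) := by
  have h1 := congrArg (retr σ) (h z)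
  rwa [retr_deltaL] at h1

variable (A) (X) in
theorem mapBaseChange_bcm_tmul (ω : Ω[B⁄A]) : ∀ c : C,
    KaehlerDifferential.mapBaseChange A (X.CharCarrier A) C
      (X.baseChangeToMiddle A (c ⊗ₜ[B] ω)) =
    KaehlerDifferential.mapBaseChange A B C (c ⊗ₜ[B] ω) := by
  have hω : ω ∈ Submodule.span B (Set.range (KaehlerDifferential.D A B)) := by
    rw [KaehlerDifferential.span_range_derivation]; trivial
  refine Submodule.span_induction ?_ ?_ ?_ ?_ hω
  · rintro _ ⟨b, rfl⟩ c
    rw [bcm_tmul, KaehlerDifferential.mapBaseChange_tmul, KaehlerDifferential.mapBaseChange_tmul,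
      KaehlerDifferential.map_D, KaehlerDifferential.map_D, KaehlerDifferential.map_D,
      ← IsScalarTower.algebraMap_apply B (X.CharCarrier A) C]
  · intro c
    rw [TensorProduct.tmul_zero, map_zero, map_zero, map_zero]
  · intro x y _ _ hx hy c
    rw [TensorProduct.tmul_add, map_add, map_add, hx, hy, map_add]
  · intro b x _ hx c
    rw [← TensorProduct.smul_tmul]
    exact hx (b • c)

variable (A) (X) in
theorem mapBaseChange_bcm (z : C ⊗[B] Ω[B⁄A]) :
    KaehlerDifferential.mapBaseChange A (X.CharCarrier A) C (X.baseChangeToMiddle A z) =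
    KaehlerDifferential.mapBaseChange A B C z := by
  induction z using TensorProduct.induction_on with
  | zero => rw [map_zero, map_zero, map_zero]
  | tmul c ω => exact mapBaseChange_bcm_tmul A X ω c
  | add x y hx hy => rw [map_add, map_add, hx, hy, map_add]

theorem deltaL_charLift (z : C ⊗[B] Ω[B⁄A]) (hz : z ∈ EGA41.imperfection A B C) :
    X.deltaL A (charLift σ z) = X.baseChangeToMiddle A z := by
  have h2 : KaehlerDifferential.mapBaseChange A (X.CharCarrier A) C
      (X.baseChangeToMiddle A z) = 0 := by
    rw [mapBaseChange_bcm]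
    exact hz
  have hsurj : Function.Surjective (algebraMap (X.CharCarrier A) C) :=
    X.isExtension.proj_surjective
  obtain ⟨y, hy⟩ := (KaehlerDifferential.exact_kerCotangentToTensor_mapBaseChange A
    (X.CharCarrier A) C hsurj _).1 h2
  obtain ⟨x, rfl⟩ := Ideal.toCotangent_surjective _ y
  rw [KaehlerDifferential.kerCotangentToTensor_toCotangent] at hy
  obtain ⟨l, hl⟩ := (X.isExtension.exact x.1).1 (RingHom.mem_ker.1 x.2)
  have h3 : X.baseChangeToMiddle A z = X.deltaL A l := by
    rw [← hy, ← hl]
    rfl
  rw [charLift_apply, h3, retr_deltaL]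

theorem isCharHom_iff (χ : ↥(EGA41.imperfection A B C) →ₗ[C] L) :
    X.IsCharHom A χ ↔ ∀ z : ↥(EGA41.imperfection A B C), χ z = charLift σ (z : C ⊗[B] Ω[B⁄A]) := by
  constructor
  · intro h z
    exact eq_charLift_of_isCharHom σ h z
  · intro h z
    rw [h z]
    exact deltaL_charLift σ z z.2

/-- Two `C`-linear maps out of `C ⊗_B Ω_{B/A}` agreeing on the `c ⊗ db` are equal. -/
theorem ext_tmul_D {N : Type*} [AddCommGroup N] [Module C N]
    (f g : C ⊗[B] Ω[B⁄A] →ₗ[C] N)
    (h : ∀ (c : C) (b : B), f (c ⊗ₜ[B] KaehlerDifferential.D A B b) =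
      g (c ⊗ₜ[B] KaehlerDifferential.D A B b)) : f = g := by
  have key : ∀ ω : Ω[B⁄A], ∀ c : C, f (c ⊗ₜ[B] ω) = g (c ⊗ₜ[B] ω) := by
    intro ω
    have hω : ω ∈ Submodule.span B (Set.range (KaehlerDifferential.D A B)) := by
      rw [KaehlerDifferential.span_range_derivation]; trivial
    refine Submodule.span_induction ?_ ?_ ?_ ?_ hω
    · rintro _ ⟨b, rfl⟩ c
      exact h c b
    · intro c
      rw [TensorProduct.tmul_zero, map_zero, map_zero]
    · intro x y _ _ hx hy c
      rw [TensorProduct.tmul_add, map_add, map_add, hx, hy]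
    · intro b x _ hx c
      rw [← TensorProduct.smul_tmul]
      exact hx (b • c)
  apply LinearMap.ext
  intro z
  induction z using TensorProduct.induction_on with
  | zero => rw [map_zero, map_zero]
  | tmul c ω => exact key ω c
  | add x y hx hy => rw [map_add, map_add, hx, hy]

/-- Equivalence of two extensions with sections whose `B`-structures differ by a derivation of
`C`. -/
theorem nonempty_equiv_of_theta {X Y : Ext B C L} (σ : Sec A X) (τ : Sec A Y) (θ : C → L)
    (hadd : ∀ c c', θ (c + c') = θ c + θ c')
    (hmul : ∀ c c', θ (c * c') = c • θ c' + c' • θ c)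
    (hB : ∀ b : B, θ (algebraMap B C b) =
      delta τ (algebraMap B Y.E b) - delta σ (algebraMap B X.E b)) :
    Nonempty (X.Equiv Y) := by
  have hθ0 : θ 0 = 0 := by
    have := hadd 0 0
    rw [add_zero] at this
    exact left_eq_add.mp this
  have hθ1 : θ 1 = 0 := by
    have := hmul 1 1
    rw [one_mul, one_smul] at this
    exact left_eq_add.mp this
  let φ₀ : X.E → Y.E := fun e => τ.s (X.proj e) + Y.incl (delta σ e + θ (X.proj e))
  have hφ₀ : ∀ e, φ₀ e = τ.s (X.proj e) + Y.incl (delta σ e + θ (X.proj e)) := fun _ => rfl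
  have hmulY : ∀ (c c' : C) (l l' : L),
      (τ.s c + Y.incl l) * (τ.s c' + Y.incl l') = τ.s (c * c') + Y.incl (c • l' + c' • l) := by
    intro c c' l l'
    have e1 : τ.s c * Y.incl l' = Y.incl (c • l') := by
      rw [Y.isExtension.mul_incl, τ.proj_s]
    have e2 : Y.incl l * τ.s c' = Y.incl (c' • l) := by
      rw [mul_comm, Y.isExtension.mul_incl, τ.proj_s]
    have e3 : Y.incl l * Y.incl l' = 0 := Exal_helper9.incl_mul_incl Y _ _
    rw [add_mul, mul_add, mul_add, e1, e2, e3, map_mul, map_add]
    ring
  let φ : X.E →ₐ[B] Y.E :=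
    { toFun := φ₀
      map_one' := by
        rw [hφ₀, map_one X.proj, map_one τ.s, delta_one, hθ1, add_zero, map_zero, add_zero]
      map_mul' := fun e e' => by
        rw [hφ₀, hφ₀, hφ₀, hmulY, map_mul X.proj, delta_mul, hmul]
        congr 2
        rw [smul_add, smul_add]
        abel
      map_zero' := by
        rw [hφ₀, map_zero X.proj, map_zero τ.s, delta_zero, hθ0, add_zero, map_zero, add_zero]
      map_add' := fun e e' => by
        rw [hφ₀, hφ₀, hφ₀, map_add X.proj, map_add τ.s, delta_add, hadd]
        have : delta σ e + delta σ e' + (θ (X.proj e) + θ (X.proj e')) =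
            (delta σ e + θ (X.proj e)) + (delta σ e' + θ (X.proj e')) := by abel
        rw [this, map_add Y.incl]
        abel
      commutes' := fun b => by
        show φ₀ (algebraMap B X.E b) = algebraMap B Y.E b
        rw [hφ₀, X.proj.commutes, hB, add_sub_cancel, incl_delta, Y.proj.commutes]
        ring }
  refine ⟨Exal_helper9.equivOfHom X Y φ (fun e => ?_) (fun l => ?_)⟩
  · show Y.proj (φ₀ e) = X.proj e
    rw [hφ₀, map_add Y.proj, τ.proj_s, Exal_helper9.proj_incl, add_zero]
  · show φ₀ (X.incl l) = Y.incl l
    rw [hφ₀, Exal_helper9.proj_incl, map_zero τ.s, delta_incl, hθ0, add_zero, zero_add]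

end Groth.Agent.Lib.CharHom_helper9
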