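import Mathlib

set_option linter.unusedSimpArgs false
namespace Groth.Agent.Lib.CharSerH2

open Finset

section RingCore

variable {S R : Type*} [Ring S] [CommMonoid R] (δ : S →* R)

/-- Block-triangular reduction: if `p` is idempotent and `(1-p) W p = 0`, then `δ W` is the `δ` of the
block-diagonal part, for any multiplicative `δ` satisfying Sylvester's identity. -/
theorem tri (hδ : ∀ a b : S, δ (1 + a * b) = δ (1 + b * a)) (p W : S) (hp : p * p = p)
    (h0 : (1 - p) * W * p = 0) : δ W = δ (p * W * p + (1 - p) * W * (1 - p)) := by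
  have hpq : p * (1 - p) = 0 := by rw [mul_sub, mul_one, hp, sub_self]
  have hqp : (1 - p) * p = 0 := by rw [sub_mul, one_mul, hp, sub_self]
  have hqq : (1 - p) * (1 - p) = 1 - p := by rw [mul_sub, mul_one, hqp, sub_zero]
  have hsum : p + (1 - p) = 1 := by abel
  generalize 1 - p = q at *
  have hp' : ∀ x, p * (p * x) = p * x := fun x => by rw [← mul_assoc, hp]
  have hqq' : ∀ x, q * (q * x) = q * x := fun x => by rw [← mul_assoc, hqq]
  have hpq' : ∀ x, p * (q * x) = 0 := fun x => by rw [← mul_assoc, hpq, zero_mul]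
  have hqp' : ∀ x, q * (p * x) = 0 := fun x => by rw [← mul_assoc, hqp, zero_mul]
  have h0' : ∀ x, q * (W * (p * x)) = 0 := fun x => by
    rw [← mul_assoc, ← mul_assoc, h0, zero_mul]
  have h0'' : q * (W * p) = 0 := by rw [← mul_assoc, h0]
  have hW : W = (p + q * W * q) * (1 + p * W * q) * (p * W * p + q) := by
    have : W = (p + q) * W * (p + q) := by rw [hsum, one_mul, mul_one]
    conv_lhs => rw [this]
    simp only [mul_add, add_mul, mul_one, one_mul, mul_assoc, hp, hp', hqq, hqq', hpq, hpq', hqp,
      hqp', h0', h0'', mul_zero, zero_mul, add_zero, zero_add]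
    abel
  have hXY : (p + q * W * q) * (p * W * p + q) = p * W * p + q * W * q := by
    simp only [mul_add, add_mul, mul_assoc, hp, hp', hqq, hqq', hpq, hpq', hqp, hqp', mul_zero,
      zero_mul, add_zero, zero_add]
  have hM : δ (1 + p * W * q) = 1 := by
    rw [mul_assoc, hδ, mul_assoc, hqp, mul_zero, add_zero, map_one]
  rw [← hXY, map_mul]
  conv_lhs => rw [hW, map_mul, map_mul, hM, mul_one]

/-- The ring-theoretic core, with a square-zero contraction. -/
theorem core (hδ : ∀ a b : S, δ (1 + a * b) = δ (1 + b * a))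
    (e d s V : S) (he : e * e = e) (heV : e * V = V * e)
    (hed : e * d = d * (1 - e)) (hes : e * s = s * (1 - e))
    (hdd : d * d = 0) (hss : s * s = 0) (hds : d * s + s * d = 1) (hVd : V * d = d * V) :
    δ (e * V + (1 - e)) = δ ((1 - e) * V + e) := by
  have r_ee' : ∀ x, e * (e * x) = e * x := fun x => by rw [← mul_assoc, he]
  have r_eV' : ∀ x, e * (V * x) = V * (e * x) := fun x => by rw [← mul_assoc, heV, mul_assoc]
  have r_ed : e * d = d - d * e := by rw [hed, mul_sub, mul_one]
  have r_ed' : ∀ x, e * (d * x) = d * x - d * (e * x) := fun x => by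
    rw [← mul_assoc, r_ed, sub_mul, mul_assoc]
  have r_es : e * s = s - s * e := by rw [hes, mul_sub, mul_one]
  have r_es' : ∀ x, e * (s * x) = s * x - s * (e * x) := fun x => by
    rw [← mul_assoc, r_es, sub_mul, mul_assoc]
  have r_dd' : ∀ x, d * (d * x) = 0 := fun x => by rw [← mul_assoc, hdd, zero_mul]
  have r_ss' : ∀ x, s * (s * x) = 0 := fun x => by rw [← mul_assoc, hss, zero_mul]
  have r_sd : s * d = 1 - d * s := eq_sub_of_add_eq' hds
  have r_sd' : ∀ x, s * (d * x) = x - d * (s * x) := fun x => by
    rw [← mul_assoc, r_sd, sub_mul, one_mul, mul_assoc]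
  have r_Vd' : ∀ x, V * (d * x) = d * (V * x) := fun x => by rw [← mul_assoc, hVd, mul_assoc]
  have G1 : (d + s) * (d + s) = 1 := by
    simp only [mul_add, add_mul, mul_sub, sub_mul, mul_one, one_mul, mul_assoc, he, r_ee', heV,
      r_eV', r_ed, r_ed', r_es, r_es', hdd, r_dd', hss, r_ss', r_sd, r_sd', hVd, r_Vd', mul_zero,
      zero_mul, sub_zero, zero_sub, add_zero, zero_add, mul_neg, neg_mul]
    abel
  have G2 : (d + s) * (e * (V * d * s + s * d * V) + (1 - e)) * (d + s) =
      (1 - e) * (V * d * s + s * d * V) + e := by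
    simp only [mul_add, add_mul, mul_sub, sub_mul, mul_one, one_mul, mul_assoc, he, r_ee', heV,
      r_eV', r_ed, r_ed', r_es, r_es', hdd, r_dd', hss, r_ss', r_sd, r_sd', hVd, r_Vd', mul_zero,
      zero_mul, sub_zero, zero_sub, add_zero, zero_add, mul_neg, neg_mul]
    abel
  have G3 : (d * s) * (d * s) = d * s := by
    simp only [mul_add, add_mul, mul_sub, sub_mul, mul_one, one_mul, mul_assoc, he, r_ee', heV,
      r_eV', r_ed, r_ed', r_es, r_es', hdd, r_dd', hss, r_ss', r_sd, r_sd', hVd, r_Vd', mul_zero,
      zero_mul, sub_zero, zero_sub, add_zero, zero_add, mul_neg, neg_mul]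
  have G4 : (1 - d * s) * (e * V + (1 - e)) * (d * s) = 0 := by
    simp only [mul_add, add_mul, mul_sub, sub_mul, mul_one, one_mul, mul_assoc, he, r_ee', heV,
      r_eV', r_ed, r_ed', r_es, r_es', hdd, r_dd', hss, r_ss', r_sd, r_sd', hVd, r_Vd', mul_zero,
      zero_mul, sub_zero, zero_sub, add_zero, zero_add, mul_neg, neg_mul]
    abel
  have G5 : (d * s) * (e * V + (1 - e)) * (d * s) +
      (1 - d * s) * (e * V + (1 - e)) * (1 - d * s) = e * (V * d * s + s * d * V) + (1 - e) := by
    simp only [mul_add, add_mul, mul_sub, sub_mul, mul_one, one_mul, mul_assoc, he, r_ee', heV,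
      r_eV', r_ed, r_ed', r_es, r_es', hdd, r_dd', hss, r_ss', r_sd, r_sd', hVd, r_Vd', mul_zero,
      zero_mul, sub_zero, zero_sub, add_zero, zero_add, mul_neg, neg_mul]
    abel
  have G6 : (1 - d * s) * ((1 - e) * V + e) * (d * s) = 0 := by
    simp only [mul_add, add_mul, mul_sub, sub_mul, mul_one, one_mul, mul_assoc, he, r_ee', heV,
      r_eV', r_ed, r_ed', r_es, r_es', hdd, r_dd', hss, r_ss', r_sd, r_sd', hVd, r_Vd', mul_zero,
      zero_mul, sub_zero, zero_sub, add_zero, zero_add, mul_neg, neg_mul]
    abel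
  have G7 : (d * s) * ((1 - e) * V + e) * (d * s) +
      (1 - d * s) * ((1 - e) * V + e) * (1 - d * s) = (1 - e) * (V * d * s + s * d * V) + e := by
    simp only [mul_add, add_mul, mul_sub, sub_mul, mul_one, one_mul, mul_assoc, he, r_ee', heV,
      r_eV', r_ed, r_ed', r_es, r_es', hdd, r_dd', hss, r_ss', r_sd, r_sd', hVd, r_Vd', mul_zero,
      zero_mul, sub_zero, zero_sub, add_zero, zero_add, mul_neg, neg_mul]
    abel
  have hT : δ (d + s) * δ (d + s) = 1 := by rw [← map_mul, G1, map_one]
  calc δ (e * V + (1 - e)) = δ (e * (V * d * s + s * d * V) + (1 - e)) := by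
        rw [tri δ hδ (d * s) _ G3 G4, G5]
    _ = δ (e * (V * d * s + s * d * V) + (1 - e)) * (δ (d + s) * δ (d + s)) := by
        rw [hT, mul_one]
    _ = δ ((d + s) * (e * (V * d * s + s * d * V) + (1 - e)) * (d + s)) := by
        rw [map_mul, map_mul]
        exact (mul_left_comm _ _ _).trans (mul_assoc _ _ _).symm
    _ = δ ((1 - e) * V + e) := by
        rw [G2, ← G7, ← tri δ hδ (d * s) _ G3 G6]

/-- The ring-theoretic core, general contraction. -/
theorem core' (hδ : ∀ a b : S, δ (1 + a * b) = δ (1 + b * a))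
    (e d s V : S) (he : e * e = e) (heV : e * V = V * e)
    (hed : e * d = d * (1 - e)) (hes : e * s = s * (1 - e))
    (hdd : d * d = 0) (hds : d * s + s * d = 1) (hVd : V * d = d * V) :
    δ (e * V + (1 - e)) = δ ((1 - e) * V + e) := by
  have r_ee' : ∀ x, e * (e * x) = e * x := fun x => by rw [← mul_assoc, he]
  have r_ed : e * d = d - d * e := by rw [hed, mul_sub, mul_one]
  have r_ed' : ∀ x, e * (d * x) = d * x - d * (e * x) := fun x => by
    rw [← mul_assoc, r_ed, sub_mul, mul_assoc]
  have r_es : e * s = s - s * e := by rw [hes, mul_sub, mul_one]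
  have r_es' : ∀ x, e * (s * x) = s * x - s * (e * x) := fun x => by
    rw [← mul_assoc, r_es, sub_mul, mul_assoc]
  have r_dd' : ∀ x, d * (d * x) = 0 := fun x => by rw [← mul_assoc, hdd, zero_mul]
  have r_sd : s * d = 1 - d * s := eq_sub_of_add_eq' hds
  have r_sd' : ∀ x, s * (d * x) = x - d * (s * x) := fun x => by
    rw [← mul_assoc, r_sd, sub_mul, one_mul, mul_assoc]
  refine core δ hδ e d (s * d * s) V he heV hed ?_ hdd ?_ ?_ hVd
  · simp only [mul_add, add_mul, mul_sub, sub_mul, mul_one, one_mul, mul_assoc, he, r_ee',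
      r_ed, r_ed', r_es, r_es', hdd, r_dd', r_sd, r_sd', mul_zero,
      zero_mul, sub_zero, zero_sub, add_zero, zero_add, mul_neg, neg_mul]
    abel
  · simp only [mul_add, add_mul, mul_sub, sub_mul, mul_one, one_mul, mul_assoc, he, r_ee',
      r_ed, r_ed', r_es, r_es', hdd, r_dd', r_sd, r_sd', mul_zero,
      zero_mul, sub_zero, zero_sub, add_zero, zero_add, mul_neg, neg_mul]
    abel
  · simp only [mul_add, add_mul, mul_sub, sub_mul, mul_one, one_mul, mul_assoc, he, r_ee',
      r_ed, r_ed', r_es, r_es', hdd, r_dd', r_sd, r_sd', mul_zero,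
      zero_mul, sub_zero, zero_sub, add_zero, zero_add, mul_neg, neg_mul]
    abel

end RingCore

section Det

variable {R : Type*} [CommRing R]

/-- Sylvester's identity for linear maps between finite free modules. -/
theorem det_one_add_comp_comm {E F : Type*} [AddCommGroup E] [Module R E] [AddCommGroup F]
    [Module R F] [Module.Free R E] [Module.Finite R E] [Module.Free R F] [Module.Finite R F]
    (a : F →ₗ[R] E) (b : E →ₗ[R] F) :
    LinearMap.det (LinearMap.id + a ∘ₗ b) = LinearMap.det (LinearMap.id + b ∘ₗ a) := by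
  classical
  let bE := Module.Free.chooseBasis R E
  let bF := Module.Free.chooseBasis R F
  rw [← LinearMap.det_toMatrix bE, ← LinearMap.det_toMatrix bF, map_add, map_add,
    LinearMap.toMatrix_id, LinearMap.toMatrix_id, LinearMap.toMatrix_comp bE bF bE,
    LinearMap.toMatrix_comp bF bE bF, Matrix.det_one_add_mul_comm]

theorem det_end_sylvester {E : Type*} [AddCommGroup E] [Module R E] [Module.Free R E]
    [Module.Finite R E] (a b : Module.End R E) :
    LinearMap.det (1 + a * b) = LinearMap.det (1 + b * a) :=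
  det_one_add_comp_comm a b

/-- Determinant of a "diagonal" endomorphism of a dependent finite product of finite free modules. -/
theorem det_pi_dep {ι : Type*} [Fintype ι] [DecidableEq ι] {M : ι → Type*}
    [∀ i, AddCommGroup (M i)] [∀ i, Module R (M i)] [∀ i, Module.Free R (M i)]
    [∀ i, Module.Finite R (M i)] (f : ∀ i, M i →ₗ[R] M i) :
    LinearMap.det (LinearMap.pi (fun i => (f i).comp (LinearMap.proj i))) =
      ∏ i, LinearMap.det (f i) := by
  classical
  let D : Finset ι → ((∀ i, M i) →ₗ[R] (∀ i, M i)) := fun s =>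
    LinearMap.pi (fun i => (if i ∈ s then f i else LinearMap.id).comp (LinearMap.proj i))
  have hD : ∀ s : Finset ι, LinearMap.det (D s) = ∏ i ∈ s, LinearMap.det (f i) := by
    intro s
    induction s using Finset.induction_on with
    | empty =>
      have : D ∅ = LinearMap.id := by
        apply LinearMap.ext; intro x; funext i; simp [D]
      rw [this]; simp
    | insert a s ha ih =>
      have h1 : D (insert a s) = (LinearMap.id + (LinearMap.single R M a) ∘ₗ
          ((f a - LinearMap.id) ∘ₗ LinearMap.proj a)) ∘ₗ D s := by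
        apply LinearMap.ext; intro x; funext i
        by_cases hia : i = a
        · subst hia
          simp [D, ha]
        · have hia' : a ≠ i := fun h => hia h.symm
          simp [D, hia, Pi.single_eq_of_ne hia]
      have h2 : LinearMap.det (LinearMap.id + (LinearMap.single R M a) ∘ₗ
          ((f a - LinearMap.id) ∘ₗ LinearMap.proj a)) = LinearMap.det (f a) := by
        rw [det_one_add_comp_comm]
        congr 1
        apply LinearMap.ext; intro y
        simp
      rw [h1, LinearMap.det_comp, h2, ih, Finset.prod_insert ha]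
  have hu : D Finset.univ = LinearMap.pi (fun i => (f i).comp (LinearMap.proj i)) := by
    apply LinearMap.ext; intro x; funext i; simp [D]
  rw [← hu, hD]

end Det

section Total

variable {R : Type*} [CommRing R] {M : ℤ → Type*} [∀ i, AddCommGroup (M i)] [∀ i, Module R (M i)]
  (w : Finset ℤ)

/-- The total map of a family of linear maps. -/
noncomputable def tot (F : ∀ i j, M i →ₗ[R] M j) : Module.End R (∀ i : ↥w, M i) :=
  LinearMap.pi (fun j => ∑ i : ↥w, (F i j) ∘ₗ LinearMap.proj i)

theorem tot_apply (F : ∀ i j, M i →ₗ[R] M j) (x : ∀ i : ↥w, M i) (j : ↥w) :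
    tot w F x j = ∑ i : ↥w, F i j (x i) := by
  simp [tot, LinearMap.sum_apply]

/-- The diagonal map of a family of endomorphisms. -/
noncomputable def diag (G : ∀ i, M i →ₗ[R] M i) : Module.End R (∀ i : ↥w, M i) :=
  LinearMap.pi (fun j => (G j) ∘ₗ LinearMap.proj j)

theorem diag_apply (G : ∀ i, M i →ₗ[R] M i) (x : ∀ i : ↥w, M i) (j : ↥w) :
    diag w G x j = G j (x j) := rfl

theorem tot_tot_apply (F G : ∀ i j, M i →ₗ[R] M j) (k : ↥w) (j₀ : ℤ)
    (hFG : ∀ (i : ↥w) (j : ℤ) (y : M i), ((i : ℤ) ≠ k ∨ j ≠ j₀) → G j k (F i j y) = 0)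
    (hj₀ : j₀ ∉ w → ∀ y : M k, G j₀ k (F k j₀ y) = 0) (x : ∀ i : ↥w, M i) :
    tot w G (tot w F x) k = G j₀ k (F k j₀ (x k)) := by
  rw [tot_apply]
  simp_rw [tot_apply, map_sum]
  have h1 : ∀ j : ↥w, ∑ i : ↥w, G j k (F i j (x i)) = G j k (F k j (x k)) := by
    intro j
    refine Finset.sum_eq_single k (fun i _ hik => ?_) (fun h => absurd (Finset.mem_univ _) h)
    exact hFG i j _ (Or.inl (fun h => hik (Subtype.ext h)))
  simp_rw [h1]
  rw [Finset.sum_coe_sort w (fun j => G j k (F k j (x k)))]
  exact Finset.sum_eq_single j₀ (fun j _ hj => hFG k j _ (Or.inr hj)) (fun h => hj₀ h _)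

variable [∀ i, Module.Free R (M i)] [∀ i, Module.Finite R (M i)]

theorem det_even_eq_odd (hM : ∀ i, i ∉ w → Subsingleton (M i))
    (d s : ∀ i j, M i →ₗ[R] M j) (V : ∀ i, M i →ₗ[R] M i)
    (hd : ∀ i j, i + 1 ≠ j → d i j = 0) (hs : ∀ i j, j + 1 ≠ i → s i j = 0)
    (hdd : ∀ i j k, d j k ∘ₗ d i j = 0)
    (hH : ∀ i, s (i + 1) i ∘ₗ d i (i + 1) + d (i - 1) i ∘ₗ s i (i - 1) = LinearMap.id)
    (hV : ∀ i j, V j ∘ₗ d i j = d i j ∘ₗ V i) :
    ∏ i ∈ w.filter (fun i => Even i), LinearMap.det (V i) =
      ∏ i ∈ w.filter (fun i => ¬ Even i), LinearMap.det (V i) := by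
  classical
  let Ev : ∀ i, M i →ₗ[R] M i := fun i => if Even i then LinearMap.id else 0
  have hsub : ∀ (i : ℤ), i ∉ w → ∀ y : M i, y = 0 := fun i hi y =>
    (hM i hi).elim y 0
  -- the hypotheses of the core lemma
  have he : diag w Ev * diag w Ev = diag w Ev := by
    apply LinearMap.ext; intro x; funext k
    simp only [Module.End.mul_apply, diag_apply, Ev]
    split_ifs <;> simp
  have heV : diag w Ev * diag w V = diag w V * diag w Ev := by
    apply LinearMap.ext; intro x; funext k
    simp only [Module.End.mul_apply, diag_apply, Ev]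
    split_ifs <;> simp
  have hed : diag w Ev * tot w d = tot w d * (1 - diag w Ev) := by
    apply LinearMap.ext; intro x; funext k
    simp only [Module.End.mul_apply, tot_apply, map_sum, LinearMap.sub_apply, Module.End.one_apply,
      Pi.sub_apply, diag_apply]
    refine Finset.sum_congr rfl (fun i _ => ?_)
    by_cases hik : (i : ℤ) + 1 = k
    · have hpar : Even (k : ℤ) ↔ ¬ Even (i : ℤ) := by
        rw [← hik, Int.even_add_one]
      by_cases hk : Even (k : ℤ)
      · have hi : ¬ Even (i : ℤ) := hpar.1 hk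
        simp [Ev, hk, hi]
      · have hi : Even (i : ℤ) := by
          by_contra h; exact hk (hpar.2 h)
        simp [Ev, hk, hi]
    · simp [hd _ _ hik]
  have hes : diag w Ev * tot w s = tot w s * (1 - diag w Ev) := by
    apply LinearMap.ext; intro x; funext k
    simp only [Module.End.mul_apply, tot_apply, map_sum, LinearMap.sub_apply, Module.End.one_apply,
      Pi.sub_apply, diag_apply]
    refine Finset.sum_congr rfl (fun i _ => ?_)
    by_cases hik : (k : ℤ) + 1 = i
    · have hpar : Even (i : ℤ) ↔ ¬ Even (k : ℤ) := by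
        rw [← hik, Int.even_add_one]
      by_cases hk : Even (k : ℤ)
      · have hi : ¬ Even (i : ℤ) := fun h => (hpar.1 h) hk
        simp [Ev, hk, hi]
      · have hi : Even (i : ℤ) := hpar.2 hk
        simp [Ev, hk, hi]
    · simp [hs _ _ hik]
  have hdd' : tot w d * tot w d = 0 := by
    apply LinearMap.ext; intro x; funext k
    rw [Module.End.mul_apply, tot_tot_apply w d d k ((k : ℤ) - 1)]
    · have := LinearMap.congr_fun (hdd k ((k : ℤ) - 1) k) (x k)
      simpa using this
    · intro i j y _
      have := LinearMap.congr_fun (hdd i j k) y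
      simpa using this
    · intro _ y
      have := LinearMap.congr_fun (hdd k ((k : ℤ) - 1) k) y
      simpa using this
  have hds : tot w d * tot w s + tot w s * tot w d = 1 := by
    apply LinearMap.ext; intro x; funext k
    rw [LinearMap.add_apply, Pi.add_apply, Module.End.mul_apply, Module.End.mul_apply,
      tot_tot_apply w s d k ((k : ℤ) - 1), tot_tot_apply w d s k ((k : ℤ) + 1)]
    · have := LinearMap.congr_fun (hH k) (x k)
      simp only [LinearMap.add_apply, LinearMap.comp_apply, LinearMap.id_apply] at this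
      rw [add_comm]
      simpa using this
    · intro i j y hij
      by_cases hj : (k : ℤ) + 1 = j
      · rcases hij with hik | hjk
        · have : (i : ℤ) + 1 ≠ j := by omega
          simp [hd _ _ this]
        · exact absurd hj.symm hjk
      · simp [hs _ _ hj]
    · intro hk y
      rw [hsub _ hk (d k ((k : ℤ) + 1) y), map_zero]
    · intro i j y hij
      by_cases hj : j + 1 = (k : ℤ)
      · rcases hij with hik | hjk
        · have : j + 1 ≠ (i : ℤ) := by omega
          simp [hs _ _ this]
        · exact absurd (by omega) hjk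
      · simp [hd _ _ hj]
    · intro hk y
      rw [hsub _ hk (s k ((k : ℤ) - 1) y), map_zero]
  have hVd : diag w V * tot w d = tot w d * diag w V := by
    apply LinearMap.ext; intro x; funext k
    simp only [Module.End.mul_apply, tot_apply, map_sum, diag_apply]
    refine Finset.sum_congr rfl (fun i _ => ?_)
    exact LinearMap.congr_fun (hV i k) (x i)
  have hcore := core' (LinearMap.det : Module.End R (∀ i : ↥w, M i) →* R)
    (fun a b => det_end_sylvester a b) (diag w Ev) (tot w d) (tot w s) (diag w V) he heV hed hes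
    hdd' hds hVd
  have hL : diag w Ev * diag w V + (1 - diag w Ev) =
      LinearMap.pi (fun j : ↥w => (if Even (j : ℤ) then V j else LinearMap.id) ∘ₗ
        LinearMap.proj j) := by
    apply LinearMap.ext; intro x; funext k
    simp only [LinearMap.add_apply, Pi.add_apply, Module.End.mul_apply, diag_apply,
      LinearMap.sub_apply, Module.End.one_apply, Pi.sub_apply, LinearMap.pi_apply,
      LinearMap.comp_apply, LinearMap.proj_apply, Ev]
    split_ifs <;> simp
  have hR : (1 - diag w Ev) * diag w V + diag w Ev =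
      LinearMap.pi (fun j : ↥w => (if Even (j : ℤ) then LinearMap.id else V j) ∘ₗ
        LinearMap.proj j) := by
    apply LinearMap.ext; intro x; funext k
    simp only [LinearMap.add_apply, Pi.add_apply, Module.End.mul_apply, diag_apply,
      LinearMap.sub_apply, Module.End.one_apply, Pi.sub_apply, LinearMap.pi_apply,
      LinearMap.comp_apply, LinearMap.proj_apply, Ev]
    split_ifs <;> simp
  rw [hL, hR, det_pi_dep, det_pi_dep] at hcore
  rw [Finset.prod_filter, Finset.prod_filter, ← Finset.prod_coe_sort w, ← Finset.prod_coe_sort w]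
  convert hcore using 2 with k _ k _
  · split_ifs <;> simp
  · split_ifs <;> simp

end Total

end Groth.Agent.Lib.CharSerH2

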