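import Mathlib
import Groth.Prelude.Def_SGA4hB
import Groth.Agent.Lib.CharSer1_helper2

set_option linter.unusedSimpArgs false
set_option linter.style.haveILetI false
set_option autoImplicit false

universe u

open CategoryTheory Polynomial TensorProduct

namespace Groth.Agent.Lib.CharSerH2

section Block

variable {R : Type*} [CommRing R]

/-- Determinant of a block-triangular endomorphism, in terms of a splitting by maps. -/
theorem det_block {E F G : Type*} [AddCommGroup E] [Module R E] [AddCommGroup F] [Module R F]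
    [AddCommGroup G] [Module R G] [Module.Free R E] [Module.Finite R E] [Module.Free R F]
    [Module.Finite R F] [Module.Free R G] [Module.Finite R G]
    (i₁ : F →ₗ[R] E) (r₁ : E →ₗ[R] F) (i₂ : G →ₗ[R] E) (r₂ : E →ₗ[R] G)
    (h11 : r₁ ∘ₗ i₁ = LinearMap.id) (h22 : r₂ ∘ₗ i₂ = LinearMap.id) (h21 : r₁ ∘ₗ i₂ = 0)
    (h12 : r₂ ∘ₗ i₁ = 0) (hsum : i₁ ∘ₗ r₁ + i₂ ∘ₗ r₂ = LinearMap.id)
    (W : E →ₗ[R] E) (W₁ : F →ₗ[R] F) (W₂ : G →ₗ[R] G)
    (hW₂ : W ∘ₗ i₂ = i₂ ∘ₗ W₂) (hW₁ : r₁ ∘ₗ W = W₁ ∘ₗ r₁) :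
    LinearMap.det W = LinearMap.det W₁ * LinearMap.det W₂ := by
  have e11 : ∀ y, r₁ (i₁ y) = y := fun y => LinearMap.congr_fun h11 y
  have e22 : ∀ z, r₂ (i₂ z) = z := fun z => LinearMap.congr_fun h22 z
  have e21 : ∀ z, r₁ (i₂ z) = 0 := fun z => LinearMap.congr_fun h21 z
  have e12 : ∀ y, r₂ (i₁ y) = 0 := fun y => LinearMap.congr_fun h12 y
  have esum : ∀ x, i₁ (r₁ x) + i₂ (r₂ x) = x := fun x => LinearMap.congr_fun hsum x
  have eW₂ : ∀ z, W (i₂ z) = i₂ (W₂ z) := fun z => LinearMap.congr_fun hW₂ z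
  have eW₁ : ∀ x, r₁ (W x) = W₁ (r₁ x) := fun x => LinearMap.congr_fun hW₁ x
  let p : Module.End R E := i₂ ∘ₗ r₂
  have hp : p * p = p := by
    apply LinearMap.ext; intro x
    simp [p, e22]
  have hq : 1 - p = i₁ ∘ₗ r₁ := by
    rw [Module.End.one_eq_id, ← hsum]; simp [p]
  have h0 : (1 - p) * W * p = 0 := by
    rw [hq]
    apply LinearMap.ext; intro x
    simp [p, eW₂, e21]
  have hfac : p * W * p + (1 - p) * W * (1 - p) =
      (LinearMap.id + i₂ ∘ₗ ((W₂ - LinearMap.id) ∘ₗ r₂)) *
        (LinearMap.id + i₁ ∘ₗ ((W₁ - LinearMap.id) ∘ₗ r₁)) := by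
    rw [hq]
    apply LinearMap.ext; intro x
    have hx := esum x
    simp only [LinearMap.add_apply, Module.End.mul_apply, LinearMap.comp_apply, p, eW₂, e22, eW₁,
      e11, LinearMap.id_apply, LinearMap.sub_apply, map_add, map_sub, e12, sub_self, add_zero,
      zero_add, sub_zero, zero_sub, map_zero]
    generalize i₂ (W₂ (r₂ x)) = c at *
    generalize i₁ (W₁ (r₁ x)) = d at *
    generalize i₁ (r₁ x) = a at *
    generalize i₂ (r₂ x) = b at *
    rw [← hx]
    abel
  have hd2 : LinearMap.det (LinearMap.id + i₂ ∘ₗ ((W₂ - LinearMap.id) ∘ₗ r₂)) =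
      LinearMap.det W₂ := by
    rw [det_one_add_comp_comm]
    congr 1
    apply LinearMap.ext; intro z
    simp [e22]
  have hd1 : LinearMap.det (LinearMap.id + i₁ ∘ₗ ((W₁ - LinearMap.id) ∘ₗ r₁)) =
      LinearMap.det W₁ := by
    rw [det_one_add_comp_comm]
    congr 1
    apply LinearMap.ext; intro z
    simp [e11]
  have := tri (LinearMap.det : Module.End R E →* R) (fun a b => det_end_sylvester a b) p W hp h0
  rw [this, hfac, map_mul]
  erw [hd2, hd1]
  exact mul_comm _ _

end Block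

section Mod

variable {A : Type u} [CommRing A]

theorem subsingleton_tensor (N : Type*) [AddCommGroup N] [Module A N] [Subsingleton N] :
    Subsingleton (A[X] ⊗[A] N) := by
  refine ⟨fun x y => ?_⟩
  have h : ∀ z : A[X] ⊗[A] N, z = 0 := by
    intro z
    induction z using TensorProduct.induction_on with
    | zero => rfl
    | tmul a n => rw [Subsingleton.elim n 0, TensorProduct.tmul_zero]
    | add a b ha hb => rw [ha, hb, add_zero]
  rw [h x, h y]

theorem detOneSub_eq_one_of_subsingleton (N : ModuleCat.{u} A) [Subsingleton N] (v : N ⟶ N) :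
    SGA4h.detOneSub N v = 1 := by
  haveI := subsingleton_tensor (A := A) N
  exact LinearMap.det_eq_one_of_subsingleton _

/-- ModuleCat-level block-triangular determinant formula. -/
theorem detOneSub_block {E F G : ModuleCat.{u} A}
    [Module.Free A E] [Module.Finite A E] [Module.Free A F] [Module.Finite A F]
    [Module.Free A G] [Module.Finite A G]
    (i₁ : F ⟶ E) (r₁ : E ⟶ F) (i₂ : G ⟶ E) (r₂ : E ⟶ G)
    (h11 : i₁ ≫ r₁ = 𝟙 F) (h22 : i₂ ≫ r₂ = 𝟙 G) (h21 : i₂ ≫ r₁ = 0) (h12 : i₁ ≫ r₂ = 0)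
    (hsum : r₁ ≫ i₁ + r₂ ≫ i₂ = 𝟙 E)
    (U : E ⟶ E) (U₁ : F ⟶ F) (U₂ : G ⟶ G) (hU₂ : i₂ ≫ U = U₂ ≫ i₂) (hU₁ : U ≫ r₁ = r₁ ≫ U₁) :
    SGA4h.detOneSub E U = SGA4h.detOneSub F U₁ * SGA4h.detOneSub G U₂ := by
  unfold SGA4h.detOneSub
  have bc : ∀ {P Q T : ModuleCat.{u} A} (f : P ⟶ Q) (g : Q ⟶ T),
      (f ≫ g).hom.baseChange A[X] = g.hom.baseChange A[X] ∘ₗ f.hom.baseChange A[X] := by
    intro P Q T f g
    rw [ModuleCat.hom_comp, LinearMap.baseChange_comp]
  have bcid : ∀ (P : ModuleCat.{u} A), (𝟙 P : P ⟶ P).hom.baseChange A[X] = LinearMap.id := by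
    intro P
    rw [ModuleCat.hom_id, LinearMap.baseChange_id]
  refine det_block (i₁.hom.baseChange A[X]) (r₁.hom.baseChange A[X]) (i₂.hom.baseChange A[X])
    (r₂.hom.baseChange A[X]) ?_ ?_ ?_ ?_ ?_ _ _ _ ?_ ?_
  · rw [← bc, h11, bcid]
  · rw [← bc, h22, bcid]
  · rw [← bc, h21, ModuleCat.hom_zero, LinearMap.baseChange_zero]
  · rw [← bc, h12, ModuleCat.hom_zero, LinearMap.baseChange_zero]
  · rw [← bc, ← bc, ← LinearMap.baseChange_add, ← ModuleCat.hom_add, hsum, bcid]
  · rw [LinearMap.sub_comp, LinearMap.comp_sub, LinearMap.smul_comp, LinearMap.comp_smul, ← bc,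
      ← bc, hU₂, LinearMap.id_comp, LinearMap.comp_id]
  · rw [LinearMap.sub_comp, LinearMap.comp_sub, LinearMap.smul_comp, LinearMap.comp_smul, ← bc,
      ← bc, hU₁, LinearMap.id_comp, LinearMap.comp_id]

/-- Contractible bounded complexes of finite free modules: the even and odd products agree. -/
theorem prod_even_eq_odd (C : CochainComplex (ModuleCat.{u} A) ℤ) (w : Finset ℤ)
    (hw : ∀ i, i ∉ w → Subsingleton (C.X i))
    (hC : ∀ i, Module.Finite A (C.X i) ∧ Module.Free A (C.X i))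
    (U : C ⟶ C) (H : Homotopy (𝟙 C) 0) :
    ∏ i ∈ w.filter (fun i => Even i), SGA4h.detOneSub (C.X i) (U.f i) =
      ∏ i ∈ w.filter (fun i => ¬ Even i), SGA4h.detOneSub (C.X i) (U.f i) := by
  haveI : ∀ i, Module.Finite A (C.X i) := fun i => (hC i).1
  haveI : ∀ i, Module.Free A (C.X i) := fun i => (hC i).2
  have bc : ∀ {P Q T : ModuleCat.{u} A} (f : P ⟶ Q) (g : Q ⟶ T),
      (f ≫ g).hom.baseChange A[X] = g.hom.baseChange A[X] ∘ₗ f.hom.baseChange A[X] := by
    intro P Q T f g
    rw [ModuleCat.hom_comp, LinearMap.baseChange_comp]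
  have bcid : ∀ (P : ModuleCat.{u} A), (𝟙 P : P ⟶ P).hom.baseChange A[X] = LinearMap.id := by
    intro P
    rw [ModuleCat.hom_id, LinearMap.baseChange_id]
  refine det_even_eq_odd (R := A[X]) (M := fun i => A[X] ⊗[A] (C.X i)) w
    (fun i hi => by haveI := hw i hi; exact subsingleton_tensor (A := A) (C.X i))
    (fun i j => (C.d i j).hom.baseChange A[X])
    (fun i j => (H.hom i j).hom.baseChange A[X])
    (fun i => LinearMap.id - (X : A[X]) • (U.f i).hom.baseChange A[X])
    ?_ ?_ ?_ ?_ ?_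
  · intro i j hij
    rw [C.shape i j (by simpa using hij), ModuleCat.hom_zero, LinearMap.baseChange_zero]
  · intro i j hij
    rw [H.zero i j (by simpa using hij), ModuleCat.hom_zero, LinearMap.baseChange_zero]
  · intro i j k
    rw [← bc, C.d_comp_d, ModuleCat.hom_zero, LinearMap.baseChange_zero]
  · intro i
    have h := H.comm i
    rw [dNext_eq H.hom (show (ComplexShape.up ℤ).Rel i (i + 1) from rfl),
      prevD_eq H.hom (show (ComplexShape.up ℤ).Rel (i - 1) i by simp)] at h
    simp only [HomologicalComplex.id_f, HomologicalComplex.zero_f, add_zero] at h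
    rw [← bc, ← bc, ← LinearMap.baseChange_add, ← ModuleCat.hom_add, ← h, bcid]
  · intro i j
    rw [LinearMap.sub_comp, LinearMap.comp_sub, LinearMap.smul_comp, LinearMap.comp_smul, ← bc,
      ← bc, U.comm i j, LinearMap.id_comp, LinearMap.comp_id]

theorem detEven_eq_prod (C : CochainComplex (ModuleCat.{u} A) ℤ) (w : Finset ℤ)
    (hw : ∀ i, i ∉ w → Subsingleton (C.X i)) (U : C ⟶ C) :
    SGA4h.detEven C U = ∏ i ∈ w.filter (fun i => Even i), SGA4h.detOneSub (C.X i) (U.f i) := by
  unfold SGA4h.detEven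
  rw [finprod_subtype_eq_finprod_cond (f := fun i : ℤ => SGA4h.detOneSub (C.X i) (U.f i))
    (fun i : ℤ => Even i)]
  refine finprod_cond_eq_prod_of_cond_iff _ (fun {x} hx => ?_)
  have hxw : x ∈ w := by
    by_contra h
    haveI := hw x h
    exact hx (detOneSub_eq_one_of_subsingleton _ _)
  simp [Finset.mem_filter, hxw]

theorem detOdd_eq_prod (C : CochainComplex (ModuleCat.{u} A) ℤ) (w : Finset ℤ)
    (hw : ∀ i, i ∉ w → Subsingleton (C.X i)) (U : C ⟶ C) :
    SGA4h.detOdd C U = ∏ i ∈ w.filter (fun i => ¬ Even i), SGA4h.detOneSub (C.X i) (U.f i) := by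
  unfold SGA4h.detOdd
  rw [finprod_subtype_eq_finprod_cond (f := fun i : ℤ => SGA4h.detOneSub (C.X i) (U.f i))
    (fun i : ℤ => Odd i)]
  refine finprod_cond_eq_prod_of_cond_iff _ (fun {x} hx => ?_)
  have hxw : x ∈ w := by
    by_contra h
    haveI := hw x h
    exact hx (detOneSub_eq_one_of_subsingleton _ _)
  simp [Finset.mem_filter, hxw]

end Mod

section Cone

open CochainComplex HomComplex

variable {A : Type u} [CommRing A] {K K' : CochainComplex (ModuleCat.{u} A) ℤ} (f : K ⟶ K')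

/-- The linear equivalence `C^n ≃ K^{n+1} × K'^n`. -/
noncomputable def coneEquiv (n : ℤ) : (mappingCone f).X n ≃ₗ[A] (K.X (n + 1) × K'.X n) :=
  LinearEquiv.ofLinearMap
    (((mappingCone.fst f).1.v n (n + 1) rfl).hom.prod
      ((mappingCone.snd f).v n n (add_zero n)).hom)
    ((((mappingCone.inl f).v (n + 1) n (by omega)).hom).coprod ((mappingCone.inr f).f n).hom)
    (by
      apply LinearMap.ext; rintro ⟨y, z⟩
      have h11 := congrArg (fun g => g.hom y) (mappingCone.inl_v_fst_v f (n + 1) n rfl)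
      have h12 := congrArg (fun g => g.hom y) (mappingCone.inl_v_snd_v f (n + 1) n (by omega))
      have h21 := congrArg (fun g => g.hom z) (mappingCone.inr_f_fst_v f n (n + 1) rfl)
      have h22 := congrArg (fun g => g.hom z) (mappingCone.inr_f_snd_v f n)
      simp only [ModuleCat.hom_comp, LinearMap.comp_apply, ModuleCat.hom_id, LinearMap.id_apply,
        ModuleCat.hom_zero, LinearMap.zero_apply] at h11 h12 h21 h22
      simp [h11, h12, h21, h22])
    (by
      apply LinearMap.ext; intro x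
      have h := congrArg (fun g => g.hom x) (mappingCone.id_X f n (n + 1) rfl)
      simp only [ModuleCat.hom_comp, ModuleCat.hom_add, LinearMap.add_apply, LinearMap.comp_apply,
        ModuleCat.hom_id, LinearMap.id_apply] at h
      simpa using h)

theorem cone_finite_free (hK : ∀ i : ℤ, Module.Finite A (K.X i) ∧ Module.Free A (K.X i))
    (hK' : ∀ i : ℤ, Module.Finite A (K'.X i) ∧ Module.Free A (K'.X i)) (n : ℤ) :
    Module.Finite A ((mappingCone f).X n) ∧ Module.Free A ((mappingCone f).X n) := by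
  haveI := (hK (n + 1)).1
  haveI := (hK (n + 1)).2
  haveI := (hK' n).1
  haveI := (hK' n).2
  exact ⟨Module.Finite.equiv (coneEquiv f n).symm, Module.Free.of_equiv (coneEquiv f n).symm⟩

theorem cone_subsingleton (a b : ℤ) [K.IsStrictlyGE a] [K.IsStrictlyLE b] [K'.IsStrictlyGE a]
    [K'.IsStrictlyLE b] (n : ℤ) (hn : n ∉ Finset.Icc (a - 1) b) :
    Subsingleton ((mappingCone f).X n) := by
  apply ModuleCat.subsingleton_of_isZero
  rw [mappingCone.isZero_X_iff]
  rw [Finset.mem_Icc, not_and_or, not_le, not_le] at hn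
  rcases hn with hn | hn
  · exact ⟨K.isZero_of_isStrictlyGE a (n + 1) (by omega), K'.isZero_of_isStrictlyGE a n (by omega)⟩
  · exact ⟨K.isZero_of_isStrictlyLE b (n + 1) (by omega), K'.isZero_of_isStrictlyLE b n (by omega)⟩

theorem detOneSub_cone (hK : ∀ i : ℤ, Module.Finite A (K.X i) ∧ Module.Free A (K.X i))
    (hK' : ∀ i : ℤ, Module.Finite A (K'.X i) ∧ Module.Free A (K'.X i))
    {u : K ⟶ K} {u' : K' ⟶ K'} (H : Homotopy (f ≫ u') (u ≫ f)) (n : ℤ) :
    SGA4h.detOneSub ((mappingCone f).X n) ((mappingCone.mapOfHomotopy H).f n) =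
      SGA4h.detOneSub (K.X (n + 1)) (u.f (n + 1)) * SGA4h.detOneSub (K'.X n) (u'.f n) := by
  haveI := (hK (n + 1)).1
  haveI := (hK (n + 1)).2
  haveI := (hK' n).1
  haveI := (hK' n).2
  haveI := (cone_finite_free f hK hK' n).1
  haveI := (cone_finite_free f hK hK' n).2
  refine detOneSub_block ((mappingCone.inl f).v (n + 1) n (by omega))
    ((mappingCone.fst f).1.v n (n + 1) rfl) ((mappingCone.inr f).f n)
    ((mappingCone.snd f).v n n (add_zero n))
    (mappingCone.inl_v_fst_v f (n + 1) n rfl) (mappingCone.inr_f_snd_v f n)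
    (mappingCone.inr_f_fst_v f n (n + 1) rfl) (mappingCone.inl_v_snd_v f (n + 1) n (by omega))
    (mappingCone.id_X f n (n + 1) rfl) _ _ _ ?_ ?_
  · have := congrArg (fun g => g.f n) (mappingCone.triangleMapOfHomotopy_comm₂ H)
    simpa using this
  · rw [mappingCone.ext_from_iff f (n + 1) n rfl]
    constructor
    · simp [mappingCone.mapOfHomotopy]
    · simp [mappingCone.mapOfHomotopy]

end Cone

section Derived

open CochainComplex DerivedCategory

attribute [local instance] HasDerivedCategory.standard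

variable {A : Type u} [CommRing A]

theorem exists_map_homotopy (K K' : CochainComplex (ModuleCat.{u} A) ℤ) [K.IsKProjective]
    [K'.IsKProjective] (u : K ⟶ K) (u' : K' ⟶ K')
    (φ : DerivedCategory.Q.obj K ≅ DerivedCategory.Q.obj K')
    (hφ : DerivedCategory.Q.map u ≫ φ.hom = φ.hom ≫ DerivedCategory.Q.map u') :
    ∃ f : K ⟶ K', Nonempty (Homotopy (f ≫ u') (u ≫ f)) ∧
      Nonempty (Homotopy (𝟙 (mappingCone f)) 0) := by
  obtain ⟨g, hg⟩ := (CochainComplex.IsKProjective.Qh_map_bijective K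
    ((HomotopyCategory.quotient _ _).obj K')).surjective
    ((quotientCompQhIso (ModuleCat.{u} A)).hom.app K ≫ φ.hom ≫
      (quotientCompQhIso (ModuleCat.{u} A)).inv.app K')
  obtain ⟨f, rfl⟩ := (HomotopyCategory.quotient _ _).map_surjective g
  have hQ : ∀ (x : K ⟶ K'), Qh.map ((HomotopyCategory.quotient _ _).map x) =
      (quotientCompQhIso (ModuleCat.{u} A)).hom.app K ≫ Q.map x ≫
        (quotientCompQhIso (ModuleCat.{u} A)).inv.app K' := by
    intro x
    have := quotientCompQhIso_hom_naturality x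
    rw [← Category.assoc, ← this, Category.assoc, Iso.hom_inv_id_app]
    exact (Category.comp_id _).symm
  have hf : Q.map f = φ.hom := by
    have h1 := hQ f
    rw [hg] at h1
    have h2 : φ.hom ≫ (quotientCompQhIso (ModuleCat.{u} A)).inv.app K' =
        Q.map f ≫ (quotientCompQhIso (ModuleCat.{u} A)).inv.app K' :=
      (cancel_epi ((quotientCompQhIso (ModuleCat.{u} A)).hom.app K)).1 h1
    exact ((cancel_mono ((quotientCompQhIso (ModuleCat.{u} A)).inv.app K')).1 h2).symm
  refine ⟨f, ?_, ?_⟩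
  · have h3 : (HomotopyCategory.quotient _ _).map (f ≫ u') =
        (HomotopyCategory.quotient _ _).map (u ≫ f) := by
      apply (CochainComplex.IsKProjective.Qh_map_bijective K
        ((HomotopyCategory.quotient _ _).obj K')).injective
      rw [hQ, hQ, Functor.map_comp, Functor.map_comp, hf, hφ]
    exact ⟨HomotopyCategory.homotopyOfEq _ _ h3⟩
  · have hqi : QuasiIso f := by
      rw [← isIso_Q_map_iff_quasiIso, hf]
      infer_instance
    have hhe := (CochainComplex.IsKProjective.quasiIso_iff f).1 hqi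
    have hiso : IsIso ((HomotopyCategory.quotient _ _).map f) :=
      (HomologicalComplex.isIso_quotient_map_iff_homotopyEquivalences f).2 hhe
    have hz : Limits.IsZero ((HomotopyCategory.quotient _ _).obj (mappingCone f)) :=
      (Pretriangulated.Triangle.isZero₃_iff_isIso₁ _
        (HomotopyCategory.mappingCone_triangleh_distinguished f)).2 hiso
    exact ⟨HomotopyCategory.homotopyOfEq _ _ (hz.eq_of_src _ _)⟩

end Derived

section Main

open CochainComplex

attribute [local instance] HasDerivedCategory.standard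

variable {A : Type u} [CommRing A]

theorem prod_shift_even (F : ℤ → A[X]) (a b : ℤ) :
    ∏ i ∈ (Finset.Icc (a - 1) b).filter (fun i => Even i), F (i + 1) =
      ∏ j ∈ (Finset.Icc a (b + 1)).filter (fun j => ¬ Even j), F j := by
  refine Finset.prod_nbij' (fun i => i + 1) (fun j => j - 1) ?_ ?_ ?_ ?_ ?_
  · intro i hi
    simp only [Finset.mem_filter, Finset.mem_Icc] at hi ⊢
    refine ⟨⟨by omega, by omega⟩, ?_⟩
    rw [Int.even_add_one, not_not]; exact hi.2
  · intro j hj
    simp only [Finset.mem_filter, Finset.mem_Icc] at hj ⊢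
    refine ⟨⟨by omega, by omega⟩, ?_⟩
    rw [Int.even_sub_one]; exact hj.2
  · intro i _; simp
  · intro j _; simp
  · intro i _; rfl

theorem prod_shift_odd (F : ℤ → A[X]) (a b : ℤ) :
    ∏ i ∈ (Finset.Icc (a - 1) b).filter (fun i => ¬ Even i), F (i + 1) =
      ∏ j ∈ (Finset.Icc a (b + 1)).filter (fun j => Even j), F j := by
  refine Finset.prod_nbij' (fun i => i + 1) (fun j => j - 1) ?_ ?_ ?_ ?_ ?_
  · intro i hi
    simp only [Finset.mem_filter, Finset.mem_Icc] at hi ⊢
    refine ⟨⟨by omega, by omega⟩, ?_⟩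
    rw [Int.even_add_one]; exact hi.2
  · intro j hj
    simp only [Finset.mem_filter, Finset.mem_Icc] at hj ⊢
    refine ⟨⟨by omega, by omega⟩, ?_⟩
    rw [Int.even_sub_one, not_not]; exact hj.2
  · intro i _; simp
  · intro j _; simp
  · intro i _; rfl

theorem main3139 (K K' : CochainComplex (ModuleCat.{u} A) ℤ) (a b : ℤ) [K.IsStrictlyGE a]
    [K.IsStrictlyLE b] [K'.IsStrictlyGE a] [K'.IsStrictlyLE b]
    (hK : ∀ i : ℤ, Module.Finite A (K.X i) ∧ Module.Free A (K.X i))
    (hK' : ∀ i : ℤ, Module.Finite A (K'.X i) ∧ Module.Free A (K'.X i))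
    (u : K ⟶ K) (u' : K' ⟶ K') (φ : DerivedCategory.Q.obj K ≅ DerivedCategory.Q.obj K')
    (hφ : DerivedCategory.Q.map u ≫ φ.hom = φ.hom ≫ DerivedCategory.Q.map u') :
    SGA4h.detEven K u * SGA4h.detOdd K' u' = SGA4h.detOdd K u * SGA4h.detEven K' u' := by
  haveI : ∀ n, Projective (K.X n) := fun n => by
    haveI := (hK n).2
    infer_instance
  haveI : ∀ n, Projective (K'.X n) := fun n => by
    haveI := (hK' n).2
    infer_instance
  haveI : K.IsKProjective := isKProjective_of_projective K b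
  haveI : K'.IsKProjective := isKProjective_of_projective K' b
  obtain ⟨f, ⟨H⟩, ⟨Hc⟩⟩ := exists_map_homotopy K K' u u' φ hφ
  have key := prod_even_eq_odd (mappingCone f) (Finset.Icc (a - 1) b)
    (cone_subsingleton f a b) (cone_finite_free f hK hK') (mappingCone.mapOfHomotopy H) Hc
  simp only [detOneSub_cone f hK hK' H, Finset.prod_mul_distrib] at key
  rw [prod_shift_even (fun j => SGA4h.detOneSub (K.X j) (u.f j)) a b,
    prod_shift_odd (fun j => SGA4h.detOneSub (K.X j) (u.f j)) a b] at key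
  have hKw : ∀ i, i ∉ Finset.Icc a (b + 1) → Subsingleton (K.X i) := by
    intro i hi
    apply ModuleCat.subsingleton_of_isZero
    rw [Finset.mem_Icc, not_and_or, not_le, not_le] at hi
    rcases hi with hi | hi
    · exact K.isZero_of_isStrictlyGE a i hi
    · exact K.isZero_of_isStrictlyLE b i (by omega)
  have hK'w : ∀ i, i ∉ Finset.Icc (a - 1) b → Subsingleton (K'.X i) := by
    intro i hi
    apply ModuleCat.subsingleton_of_isZero
    rw [Finset.mem_Icc, not_and_or, not_le, not_le] at hi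
    rcases hi with hi | hi
    · exact K'.isZero_of_isStrictlyGE a i (by omega)
    · exact K'.isZero_of_isStrictlyLE b i hi
  rw [← detOdd_eq_prod K _ hKw u, ← detEven_eq_prod K _ hKw u, ← detEven_eq_prod K' _ hK'w u',
    ← detOdd_eq_prod K' _ hK'w u'] at key
  exact key.symm

end Main

end Groth.Agent.Lib.CharSerH2
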