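import Groth.Agent.Lib.DiagHom_lead
import Groth.Agent.Lib.ArtinSchreier_lead
import Groth.Prelude.Def_SGA3x

/-! # Homomorphisms from groups of multiplicative type to `𝔾_a` are trivial (lead) -/

set_option linter.unusedSimpArgs false
set_option linter.unusedVariables false
set_option linter.unusedSectionVars false
set_option linter.style.longLine false
set_option maxHeartbeats 800000

universe u

open CategoryTheory CategoryTheory.Limits MonoidalCategory CartesianMonoidalCategory MonObj GrpObj
  AlgebraicGeometry Opposite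

namespace Groth.Agent.Lib.MultGa

open Groth.Agent.Lib.RedDictH8 Groth.Agent.Lib.DSDict Groth.Agent.Lib.TorsorInv
  Groth.Agent.Lib.ArtinSchreier

section alg

variable {R : Type u} [CommRing R] {G : Type} [CommMonoid G]

/-- coefficientwise inclusion `R[G] → (R[G])[G]`. -/
noncomputable def t1 : MonoidAlgebra R G →ₐ[R] MonoidAlgebra (MonoidAlgebra R G) G :=
  MonoidAlgebra.mapAlgHom G (Algebra.ofId R (MonoidAlgebra R G))

/-- constant inclusion `R[G] → (R[G])[G]`. -/
noncomputable def t2 : MonoidAlgebra R G →ₐ[R] MonoidAlgebra (MonoidAlgebra R G) G :=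
  MonoidAlgebra.singleOneAlgHom

/-- diagonal monoid hom. -/
noncomputable def psD : G →* MonoidAlgebra (MonoidAlgebra R G) G where
  toFun g := MonoidAlgebra.single g (MonoidAlgebra.single g 1)
  map_one' := rfl
  map_mul' a b := by
    rw [MonoidAlgebra.single_mul_single, MonoidAlgebra.single_mul_single, _root_.mul_one]

/-- the diagonal `R[G] → (R[G])[G]`. -/
noncomputable def tD : MonoidAlgebra R G →ₐ[R] MonoidAlgebra (MonoidAlgebra R G) G :=
  MonoidAlgebra.lift R _ G psD

lemma tD_single (g : G) : tD (R := R) (MonoidAlgebra.single g 1) =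
    t1 (MonoidAlgebra.single g 1) * t2 (MonoidAlgebra.single g 1) := by
  unfold tD t1 t2
  rw [MonoidAlgebra.lift_single, one_smul, MonoidAlgebra.mapAlgHom_single, map_one]
  show MonoidAlgebra.single g (MonoidAlgebra.single g 1) =
    MonoidAlgebra.single g 1 * MonoidAlgebra.single 1 (MonoidAlgebra.single g 1)
  rw [MonoidAlgebra.single_mul_single, _root_.mul_one, _root_.one_mul]

lemma coeff_tD (u : MonoidAlgebra R G) (g₀ : G) :
    (tD u).coeff g₀ = MonoidAlgebra.single g₀ (u.coeff g₀) := by
  classical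
  induction u using MonoidAlgebra.induction_linear with
  | zero => simp
  | add x y hx hy =>
    rw [map_add, MonoidAlgebra.coeff_add, Finsupp.add_apply, hx, hy, MonoidAlgebra.coeff_add,
      Finsupp.add_apply, MonoidAlgebra.single_add]
  | single a c =>
    have h1 : tD (MonoidAlgebra.single a c) =
        MonoidAlgebra.single a (MonoidAlgebra.single a c) := by
      unfold tD
      rw [MonoidAlgebra.lift_single]
      show c • MonoidAlgebra.single a (MonoidAlgebra.single a (1 : R)) = _
      rw [MonoidAlgebra.smul_single, MonoidAlgebra.smul_single, smul_eq_mul, _root_.mul_one]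
    rw [h1, MonoidAlgebra.coeff_single, MonoidAlgebra.coeff_single, Finsupp.single_apply,
      Finsupp.single_apply]
    split_ifs with h
    · subst h; rfl
    · exact (MonoidAlgebra.single_zero _).symm

lemma coeff_t1_one (u : MonoidAlgebra R G) :
    (t1 u).coeff 1 = MonoidAlgebra.single 1 (u.coeff 1) := by
  unfold t1
  rw [MonoidAlgebra.coeff_mapAlgHom]
  rfl

lemma coeff_t2_one (u : MonoidAlgebra R G) : (t2 u).coeff 1 = u := by
  unfold t2
  show (MonoidAlgebra.single 1 u).coeff 1 = u
  rw [MonoidAlgebra.coeff_single, Finsupp.single_eq_same]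

/-- A primitive element of a monoid algebra vanishes. -/
theorem prim_eq_zero (u : MonoidAlgebra R G) (h : tD u = t1 u + t2 u) : u = 0 := by
  have h1 : (tD u).coeff 1 = (t1 u + t2 u).coeff 1 := congrArg (fun x => x.coeff 1) h
  rw [coeff_tD, MonoidAlgebra.coeff_add, Finsupp.add_apply, coeff_t1_one, coeff_t2_one] at h1
  have h2 : MonoidAlgebra.single 1 (u.coeff 1) + u = MonoidAlgebra.single 1 (u.coeff 1) + 0 := by
    rw [add_zero]
    exact h1.symm
  exact add_left_cancel h2

end alg

theorem ι_mem' {X : Scheme.{u}} (W : X.Opens) (a : ↥(W : Scheme.{u})) : W.ι a ∈ W := by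
  have h : W.ι a ∈ Set.range W.ι := Set.mem_range_self a
  rw [Scheme.Opens.range_ι] at h
  exact h

section bc

variable {S U : Scheme.{u}} (g : U ⟶ S)

/-- The counit `X ×_S U ⟶ X` of base change, as a morphism over `S`. -/
noncomputable def eps (X : Over S) : (Over.map g).obj (Red.bc g X) ⟶ X :=
  (Over.mapPullbackAdj g).counit.app X

theorem eps_nat {X Y : Over S} (φ : X ⟶ Y) :
    (Over.map g).map ((Over.pullback g).map φ) ≫ eps g Y = eps g X ≫ φ :=
  (Over.mapPullbackAdj g).counit.naturality φ

theorem eps_left (X : Over S) : (eps g X).left = pullback.fst X.hom g := by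
  unfold eps
  simp

/-- The point of `X` over `S` attached to a point of `X ×_S U` over `U`. -/
noncomputable def chk {X : Over S} {T' : Over U} (x' : T' ⟶ Red.bc g X) :
    (Over.map g).obj T' ⟶ X :=
  (Over.map g).map x' ≫ eps g X

theorem chk_comp {X : Over S} {T'' T' : Over U} (t : T'' ⟶ T') (x' : T' ⟶ Red.bc g X) :
    chk g (t ≫ x') = (Over.map g).map t ≫ chk g x' := by
  unfold chk
  rw [Functor.map_comp, Category.assoc]

theorem chk_id (X : Over S) : chk g (𝟙 (Red.bc g X)) = eps g X := by
  unfold chk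
  rw [CategoryTheory.Functor.map_id, Category.id_comp]

theorem chk_mul {X : Over S} [GrpObj X] {T' : Over U} (x' y' : T' ⟶ Red.bc g X) :
    chk g (x' * y') = chk g x' * chk g y' := by
  have h1 : (μ[Red.bc g X] : Red.bc g X ⊗ Red.bc g X ⟶ Red.bc g X) =
      Functor.LaxMonoidal.μ (Over.pullback g) X X ≫ (Over.pullback g).map μ[X] := rfl
  have h2 : (Over.map g).map (lift x' y' ≫ Functor.LaxMonoidal.μ (Over.pullback g) X X) ≫
      eps g (X ⊗ X) = lift (chk g x') (chk g y') := by
    apply CartesianMonoidalCategory.hom_ext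
    · rw [lift_fst, Category.assoc, ← eps_nat g (fst X X), ← Category.assoc, ← Functor.map_comp,
        Category.assoc, Functor.Monoidal.μ_fst, lift_fst]
      rfl
    · rw [lift_snd, Category.assoc, ← eps_nat g (snd X X), ← Category.assoc, ← Functor.map_comp,
        Category.assoc, Functor.Monoidal.μ_snd, lift_snd]
      rfl
  rw [Hom.mul_def, Hom.mul_def, ← h2, h1]
  unfold chk
  calc (Over.map g).map (lift x' y' ≫ Functor.LaxMonoidal.μ (Over.pullback g) X X ≫
        (Over.pullback g).map μ[X]) ≫ eps g X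
      = ((Over.map g).map (lift x' y' ≫ Functor.LaxMonoidal.μ (Over.pullback g) X X) ≫
          (Over.map g).map ((Over.pullback g).map μ[X])) ≫ eps g X := by
        rw [← Functor.map_comp, Category.assoc]
    _ = (Over.map g).map (lift x' y' ≫ Functor.LaxMonoidal.μ (Over.pullback g) X X) ≫
          (eps g (X ⊗ X) ≫ μ[X]) := by
        rw [Category.assoc, eps_nat]
    _ = ((Over.map g).map (lift x' y' ≫ Functor.LaxMonoidal.μ (Over.pullback g) X X) ≫
          eps g (X ⊗ X)) ≫ μ[X] := (Category.assoc _ _ _).symm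

end bc

section univ

variable {U : Scheme.{u}} {R : Type u} [CommRing R] (j : Spec (CommRingCat.of R) ⟶ U)

/-- `Spec B` over `U` through `Spec R`. -/
noncomputable abbrev TB (B : Type u) [CommRing B] [Algebra R B] : Over U :=
  Over.mk (Spec.map (CommRingCat.ofHom (algebraMap R B)) ≫ j)

/-- The morphism over `U` induced by an `R`-algebra homomorphism. -/
noncomputable def specOver {A B : Type u} [CommRing A] [CommRing B] [Algebra R A] [Algebra R B]
    (θ : A →ₐ[R] B) : TB j B ⟶ TB j A :=
  Over.homMk (Spec.map (CommRingCat.ofHom θ.toRingHom)) (by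
    have h : CommRingCat.ofHom (algebraMap R A) ≫ CommRingCat.ofHom θ.toRingHom =
        CommRingCat.ofHom (algebraMap R B) := by
      ext c
      first
        | exact θ.commutes c
        | simp
    show Spec.map (CommRingCat.ofHom θ.toRingHom) ≫
      (Spec.map (CommRingCat.ofHom (algebraMap R A)) ≫ j) =
      Spec.map (CommRingCat.ofHom (algebraMap R B)) ≫ j
    rw [← Category.assoc, ← Spec.map_comp, h])

variable {N : Type} [AddCommGroup N]

theorem exists_pt {B : Type u} [CommRing B] [Algebra R B] (ψ : Multiplicative N →* B) :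
    ∃ x : TB j B ⟶ Red.DS U N, ∀ n, chr x n =
      (Scheme.ΓSpecIso (CommRingCat.of B)).inv (ψ (Multiplicative.ofAdd n)) := by
  obtain ⟨x, hx⟩ := exists_chr_eq (S := U) (M := N) (T := TB j B)
    ((Scheme.ΓSpecIso (CommRingCat.of B)).inv.hom.toMonoidHom.comp ψ)
  exact ⟨x, fun n => hx n⟩

variable (N) in
/-- The universal point of `D_U(N)` with values in `Spec R[N]`. -/
noncomputable def x0 : TB j (MonoidAlgebra R (Multiplicative N)) ⟶ Red.DS U N :=
  (exists_pt j (MonoidAlgebra.of R (Multiplicative N))).choose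

theorem chr_x0 (n : N) : chr (x0 j N) n =
    (Scheme.ΓSpecIso (CommRingCat.of (MonoidAlgebra R (Multiplicative N)))).inv
      (MonoidAlgebra.single (Multiplicative.ofAdd n) 1) :=
  ((exists_pt j (MonoidAlgebra.of R (Multiplicative N))).choose_spec n).trans
    (by rw [MonoidAlgebra.of_apply])

/-- Every point of `D_U(N)` with values in a scheme over `Spec R` factors through the universal one. -/
theorem factor_x0 {T' : Over U} (w : T'.left ⟶ Spec (CommRingCat.of R)) (hw : w ≫ j = T'.hom)
    (y : T' ⟶ Red.DS U N) :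
    ∃ c : T' ⟶ TB j (MonoidAlgebra R (Multiplicative N)), c ≫ x0 j N = y := by
  let ρ : R →+* Γ(T'.left, ⊤) :=
    ((Scheme.ΓSpecIso (CommRingCat.of R)).inv ≫ w.appTop).hom
  letI : Algebra R Γ(T'.left, ⊤) := ρ.toAlgebra
  let ψ : Multiplicative N →* Γ(T'.left, ⊤) :=
    { toFun := fun g => chr y (Multiplicative.toAdd g)
      map_one' := chr_zero y
      map_mul' := fun a b => chr_add y _ _ }
  let φ : MonoidAlgebra R (Multiplicative N) →ₐ[R] Γ(T'.left, ⊤) :=
    MonoidAlgebra.lift R _ _ ψ
  have hφ : ∀ g : Multiplicative N, φ (MonoidAlgebra.single g 1) = chr y (Multiplicative.toAdd g) := by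
    intro g
    show MonoidAlgebra.lift R _ _ ψ (MonoidAlgebra.single g 1) = _
    rw [MonoidAlgebra.lift_single, one_smul]
    rfl
  obtain ⟨a₀, ha₀⟩ := exists_point T'.left (CommRingCat.ofHom φ.toRingHom)
  have h1 : a₀ ≫ Spec.map (CommRingCat.ofHom (algebraMap R (MonoidAlgebra R (Multiplicative N)))) =
      w := by
    apply point_ext
    intro c
    rw [ev_comp_specMap, ha₀]
    exact (φ.commutes c).trans rfl
  have hover : a₀ ≫ (TB j (MonoidAlgebra R (Multiplicative N))).hom = T'.hom := by
    show a₀ ≫ (Spec.map (CommRingCat.ofHom (algebraMap R (MonoidAlgebra R (Multiplicative N)))) ≫ j) =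
      T'.hom
    rw [← Category.assoc, h1, hw]
  refine ⟨Over.homMk a₀ hover, ?_⟩
  apply chr_injective
  intro n
  rw [chr_comp, chr_x0]
  show ev a₀ (MonoidAlgebra.single (Multiplicative.ofAdd n) 1) = chr y n
  rw [ha₀]
  exact hφ (Multiplicative.ofAdd n)

/-- The point of `D_U(N)` attached to an `R`-algebra map out of `R[N]`. -/
noncomputable def P {B : Type u} [CommRing B] [Algebra R B]
    (θ : MonoidAlgebra R (Multiplicative N) →ₐ[R] B) : TB j B ⟶ Red.DS U N :=
  specOver j θ ≫ x0 j N

theorem chr_P {B : Type u} [CommRing B] [Algebra R B]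
    (θ : MonoidAlgebra R (Multiplicative N) →ₐ[R] B) (n : N) :
    chr (P j θ) n = (Scheme.ΓSpecIso (CommRingCat.of B)).inv
      (θ (MonoidAlgebra.single (Multiplicative.ofAdd n) 1)) := by
  unfold P
  rw [chr_comp, chr_x0]
  exact Groth.Agent.Lib.DiagHom.appTop_specMap_inv (CommRingCat.ofHom θ.toRingHom) _

theorem P_mul {B : Type u} [CommRing B] [Algebra R B]
    (θ₁ θ₂ θ₃ : MonoidAlgebra R (Multiplicative N) →ₐ[R] B)
    (h : ∀ n : N, θ₃ (MonoidAlgebra.single (Multiplicative.ofAdd n) 1) =
      θ₁ (MonoidAlgebra.single (Multiplicative.ofAdd n) 1) *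
        θ₂ (MonoidAlgebra.single (Multiplicative.ofAdd n) 1)) :
    P j θ₃ = P j θ₁ * P j θ₂ := by
  apply chr_injective
  intro n
  rw [chr_mul, chr_P, chr_P, chr_P, h n, map_mul]

variable (b : ∀ T' : Over U, (T' ⟶ Red.DS U N) → Γ(T'.left, ⊤))
  (hadd : ∀ (T' : Over U) (x y : T' ⟶ Red.DS U N), b T' (x * y) = b T' x + b T' y)
  (hnat : ∀ (T'' T' : Over U) (t : T'' ⟶ T') (x : T' ⟶ Red.DS U N),
    b T'' (t ≫ x) = t.left.appTop.hom (b T' x))

include hadd hnat in
theorem b_x0_zero : b _ (x0 j N) = 0 := by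
  obtain ⟨af, haf⟩ : ∃ af : MonoidAlgebra R (Multiplicative N), af =
      (Scheme.ΓSpecIso (CommRingCat.of (MonoidAlgebra R (Multiplicative N)))).hom (b _ (x0 j N)) :=
    ⟨_, rfl⟩
  have hb : b _ (x0 j N) =
      (Scheme.ΓSpecIso (CommRingCat.of (MonoidAlgebra R (Multiplicative N)))).inv af := by
    rw [haf]
    exact (Iso.hom_inv_id_apply _ _).symm
  have hP : ∀ (B : Type u) [CommRing B] [Algebra R B]
      (θ : MonoidAlgebra R (Multiplicative N) →ₐ[R] B),
      b _ (P j θ) = (Scheme.ΓSpecIso (CommRingCat.of B)).inv (θ af) := by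
    intro B _ _ θ
    unfold P
    rw [hnat, hb]
    exact Groth.Agent.Lib.DiagHom.appTop_specMap_inv (CommRingCat.ofHom θ.toRingHom) _
  have hmul : P j (tD (R := R) (G := Multiplicative N)) =
      P j (t1 (R := R) (G := Multiplicative N)) * P j (t2 (R := R) (G := Multiplicative N)) :=
    P_mul j _ _ _ (fun n => tD_single _)
  have h1 := hadd _ (P j (t1 (R := R) (G := Multiplicative N)))
    (P j (t2 (R := R) (G := Multiplicative N)))
  rw [← hmul, hP _ tD, hP _ t1, hP _ t2, ← map_add] at h1
  have h2 := congrArg (Scheme.ΓSpecIso _).hom h1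
  rw [Iso.inv_hom_id_apply, Iso.inv_hom_id_apply] at h2
  rw [hb, prim_eq_zero af h2, map_zero]

end univ

section prim

variable {U : Scheme.{u}} {N : Type} [AddCommGroup N]

/-- An additive natural function on the points of a diagonalisable group vanishes. -/
theorem prim_zero (b : ∀ T' : Over U, (T' ⟶ Red.DS U N) → Γ(T'.left, ⊤))
    (hadd : ∀ (T' : Over U) (x y : T' ⟶ Red.DS U N), b T' (x * y) = b T' x + b T' y)
    (hnat : ∀ (T'' T' : Over U) (t : T'' ⟶ T') (x : T' ⟶ Red.DS U N),
      b T'' (t ≫ x) = t.left.appTop.hom (b T' x)) :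
    b (Red.DS U N) (𝟙 _) = 0 := by
  obtain ⟨z, hz⟩ := gaFn_surjective (X := Red.DS U N) (b (Red.DS U N) (𝟙 _))
  have hz1 : z = 1 := by
    apply Over.OverMorphism.ext
    let 𝒜 := U.affineOpenCover
    let W : 𝒜.I₀ → (Red.DS U N).left.Opens := fun i =>
      (Red.DS U N).hom ⁻¹ᵁ (𝒜.f i).opensRange
    have hW : TopologicalSpace.IsOpenCover W := by
      apply TopologicalSpace.IsOpenCover.mk
      apply eq_top_iff.2
      intro d _
      rw [TopologicalSpace.Opens.mem_iSup]
      exact ⟨𝒜.idx ((Red.DS U N).hom d), 𝒜.covers _⟩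
    refine hom_ext_of_cover W hW _ _ (fun i => ?_)
    let T' : Over U := Over.mk ((W i).ι ≫ (Red.DS U N).hom)
    let y : T' ⟶ Red.DS U N := Over.homMk (W i).ι rfl
    let ji : Spec (CommRingCat.of ↑(𝒜.X i)) ⟶ U := 𝒜.f i
    haveI : IsOpenImmersion ji := 𝒜.map_prop i
    have hrange : Set.range ((W i).ι ≫ (Red.DS U N).hom) ⊆ Set.range ji := by
      rintro _ ⟨a, rfl⟩
      rw [Scheme.Hom.comp_apply]
      exact ι_mem' (W i) a
    obtain ⟨c, hc⟩ := factor_x0 ji (N := N) (T' := T')
      (IsOpenImmersion.lift ji ((W i).ι ≫ (Red.DS U N).hom) hrange)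
      (IsOpenImmersion.lift_fac _ _ _) y
    have h0 : b T' y = 0 := by
      rw [← hc, hnat, b_x0_zero ji b hadd hnat, map_zero]
    have h1 : y ≫ z = 1 := by
      apply gaFn_injective
      rw [gaFn_comp, hz, gaFn_one, ← hnat, Category.comp_id, h0]
    have h2 : y ≫ z = y ≫ 1 := h1.trans (MonObj.comp_one y).symm
    exact congrArg (fun k => k.left) h2
  rw [← hz, hz1, gaFn_one]

end prim

end Groth.Agent.Lib.MultGa
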