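import Groth.Statements.S14547

/-! # fpqc torsors and faithfully flat base change (lead) -/

set_option backward.isDefEq.respectTransparency false
set_option backward.isDefEq.respectTransparency.types false
set_option linter.unusedSimpArgs false
set_option linter.unusedVariables false
set_option linter.unusedSectionVars false
set_option linter.style.longLine false
set_option maxHeartbeats 800000

universe u

open CategoryTheory CategoryTheory.Limits MonoidalCategory CartesianMonoidalCategory MonObj GrpObj
  AlgebraicGeometry Opposite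

namespace Groth.Agent.Lib.TorsorBC

variable {X X' : Scheme.{u}} (f : X' ⟶ X)

/-- the pullback square for the base change of a morphism in `Over X` -/
theorem isPullback_map_left {A B : Over X} (θ : A ⟶ B) :
    IsPullback ((Over.pullback f).map θ).left (pullback.fst A.hom f) (pullback.fst B.hom f)
      θ.left := by
  have hr : IsPullback (pullback.snd B.hom f) (pullback.fst B.hom f) f B.hom :=
    (IsPullback.of_hasPullback B.hom f).flip
  have ho : IsPullback (pullback.snd A.hom f) (pullback.fst A.hom f) f A.hom :=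
    (IsPullback.of_hasPullback A.hom f).flip
  have e1 : ((Over.pullback f).map θ).left ≫ pullback.snd B.hom f = pullback.snd A.hom f :=
    Over.w ((Over.pullback f).map θ)
  have e2 : θ.left ≫ B.hom = A.hom := Over.w θ
  have e3 : ((Over.pullback f).map θ).left ≫ pullback.fst B.hom f =
      pullback.fst A.hom f ≫ θ.left := by
    simp
  refine IsPullback.of_right ?_ e3 hr
  rw [e1, e2]
  exact ho

theorem pseudo_iff [Flat f] [Surjective f] [QuasiCompact f]
    {J P : Over X} [GrpObj J] (a : AlgGrp.Action J P)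
    (a' : AlgGrp.Action (Red.bc f J) (Red.bc f P))
    (ha' : Functor.LaxMonoidal.μ (Over.pullback f) J P ≫ (Over.pullback f).map a.act = a'.act) :
    NonAbH1.IsPseudoTorsorSch a ↔ NonAbH1.IsPseudoTorsorSch a' := by
  unfold NonAbH1.IsPseudoTorsorSch
  obtain ⟨θ, hθ⟩ : ∃ θ : J ⊗ P ⟶ P ⊗ P, θ = lift a.act (snd J P) := ⟨_, rfl⟩
  have key : lift a'.act (snd (Red.bc f J) (Red.bc f P)) =
      Functor.LaxMonoidal.μ (Over.pullback f) J P ≫ (Over.pullback f).map θ ≫
        Functor.OplaxMonoidal.δ (Over.pullback f) P P := by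
    apply CartesianMonoidalCategory.hom_ext
    · rw [lift_fst, Category.assoc, Category.assoc, Functor.OplaxMonoidal.δ_fst, ← Functor.map_comp,
        hθ, lift_fst, ha']
    · rw [lift_snd, Category.assoc, Category.assoc, Functor.OplaxMonoidal.δ_snd, ← Functor.map_comp,
        hθ, lift_snd, Functor.Monoidal.μ_snd]
  rw [key, ← hθ]
  constructor
  · intro h
    haveI := h
    infer_instance
  · intro h
    haveI := h
    have h2 : IsIso ((Over.pullback f).map θ ≫ Functor.OplaxMonoidal.δ (Over.pullback f) P P) :=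
      IsIso.of_isIso_comp_left (Functor.LaxMonoidal.μ (Over.pullback f) J P) _
    have h1 : IsIso ((Over.pullback f).map θ) :=
      IsIso.of_isIso_comp_right _ (Functor.OplaxMonoidal.δ (Over.pullback f) P P)
    have h3 : IsIso ((Over.pullback f).map θ).left := (Over.forget X').map_isIso ((Over.pullback f).map θ)
    have hpb := isPullback_map_left f θ
    have h4 : (MorphismProperty.isomorphisms Scheme.{u}) θ.left :=
      MorphismProperty.of_isPullback_of_descendsAlong
        (P := MorphismProperty.isomorphisms Scheme.{u})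
        (Q := @Surjective ⊓ @Flat ⊓ @QuasiCompact) hpb
        ⟨⟨inferInstance, inferInstance⟩, inferInstance⟩ h3
    haveI : IsIso ((Over.forget X).map θ) := h4
    exact isIso_of_reflects_iso θ (Over.forget X)

theorem loctriv_bc {P : Over X}
    (h : NonAbH1.IsLocallyTrivialFor Scheme.fpqcPrecoverage P) :
    NonAbH1.IsLocallyTrivialFor Scheme.fpqcPrecoverage (Red.bc f P) := by
  obtain ⟨R, hR, hs⟩ := h
  refine ⟨R.pullbackArrows f, Precoverage.pullbackArrows_mem f hR, ?_⟩
  rintro S' g ⟨Z, k, hk⟩
  obtain ⟨s, hs'⟩ := hs k hk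
  refine ⟨pullback.lift (pullback.fst k f ≫ s) (pullback.snd k f) ?_, ?_⟩
  · rw [Category.assoc, hs', pullback.condition]
  · exact pullback.lift_snd _ _ _

theorem loctriv_of_bc [Flat f] [Surjective f] [QuasiCompact f] {P : Over X}
    (h : NonAbH1.IsLocallyTrivialFor Scheme.fpqcPrecoverage (Red.bc f P)) :
    NonAbH1.IsLocallyTrivialFor Scheme.fpqcPrecoverage P := by
  obtain ⟨R, hR, hs⟩ := h
  obtain ⟨I, Z, g, rfl⟩ := R.exists_eq_ofArrows
  have hf : Presieve.ofArrows (fun _ : PUnit.{1} => X') (fun _ => f) ∈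
      Scheme.fpqcPrecoverage X := by
    rw [Presieve.ofArrows_pUnit]
    exact f.singleton_mem_fpqcPrecoverage
  have hc := Precoverage.comp_mem_coverings (J := Scheme.fpqcPrecoverage)
    (f := fun _ : PUnit.{1} => f) hf
    (σ := fun _ => I) (Y := fun _ i => Z i) (g := fun _ i => g i) (fun _ => hR)
  refine ⟨_, hc, ?_⟩
  rintro S' k ⟨p⟩
  obtain ⟨s, hs'⟩ := hs (g p.2) (Presieve.ofArrows.mk p.2)
  refine ⟨s ≫ pullback.fst P.hom f, ?_⟩
  rw [Category.assoc, pullback.condition, ← Category.assoc]
  exact congrArg (· ≫ f) hs'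

theorem main [Flat f] [Surjective f] [QuasiCompact f]
    {J P : Over X} [GrpObj J] (a : AlgGrp.Action J P)
    (a' : AlgGrp.Action (Red.bc f J) (Red.bc f P))
    (ha' : Functor.LaxMonoidal.μ (Over.pullback f) J P ≫ (Over.pullback f).map a.act = a'.act) :
    NonAbH1.IsTorsorFor Scheme.fpqcPrecoverage a ↔
      NonAbH1.IsTorsorFor Scheme.fpqcPrecoverage a' := by
  unfold NonAbH1.IsTorsorFor
  constructor
  · rintro ⟨h1, h2⟩
    exact ⟨(pseudo_iff f a a' ha').mp h1, loctriv_bc f h2⟩
  · rintro ⟨h1, h2⟩
    exact ⟨(pseudo_iff f a a' ha').mpr h1, loctriv_of_bc f h2⟩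

end Groth.Agent.Lib.TorsorBC
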