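import Mathlib
import Groth.Agent.Lib.GrpSepDisc_helper4

set_option autoImplicit false
set_option linter.style.haveILetI false

universe u

open CategoryTheory CategoryTheory.Limits AlgebraicGeometry MonoidalCategory CartesianMonoidalCategory
open TensorProduct TopologicalSpace

namespace Groth.Agent.Lib.WeilResH4

/-! ## Algebra: content ideals over a field -/

section Alg

variable {k : Type u} [Field k]

/-- The `B`-linear functional `b ⊗ c ↦ φ c • b`. -/
noncomputable def coef (B : Type u) [CommRing B] [Algebra k B] {C : Type u} [CommRing C]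
    [Algebra k C] (φ : C →ₗ[k] k) : B ⊗[k] C →ₗ[B] B :=
  (TensorProduct.AlgebraTensorModule.rid k B B).toLinearMap ∘ₗ (φ.baseChange B)

variable {B : Type u} [CommRing B] [Algebra k B] {C : Type u} [CommRing C] [Algebra k C]

@[simp] lemma coef_tmul (φ : C →ₗ[k] k) (b : B) (c : C) :
    coef B φ (b ⊗ₜ[k] c) = φ c • b := by
  simp [coef]

lemma coef_map {R : Type u} [CommRing R] [Algebra k R] (ρ : B →ₐ[k] R) (φ : C →ₗ[k] k)
    (n : B ⊗[k] C) :
    coef R φ (Algebra.TensorProduct.map ρ (AlgHom.id k C) n) = ρ (coef B φ n) := by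
  induction n using TensorProduct.induction_on with
  | zero => simp
  | tmul b c => simp
  | add x y hx hy => simp only [map_add, hx, hy]

lemma eq_zero_of_coef {R : Type u} [CommRing R] [Algebra k R] (t : R ⊗[k] C)
    (h : ∀ φ : C →ₗ[k] k, coef R φ t = 0) : t = 0 := by
  classical
  let ℬ := Module.Free.chooseBasis k C
  have key : ∀ (t : R ⊗[k] C) (i : Module.Free.ChooseBasisIndex k C),
      (Algebra.TensorProduct.basis R ℬ).repr t i = coef R (ℬ.coord i) t := by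
    intro t i
    induction t using TensorProduct.induction_on with
    | zero => simp
    | tmul r c =>
      rw [Algebra.TensorProduct.basis_repr_tmul, coef_tmul]
      simp [Algebra.smul_def, mul_comm]
    | add x y hx hy => simp only [map_add, Finsupp.add_apply, hx, hy]
  apply (Algebra.TensorProduct.basis R ℬ).repr.injective
  ext i
  rw [key, h]
  simp

lemma tmap_eq_zero_iff {R : Type u} [CommRing R] [Algebra k R] (ρ : B →ₐ[k] R) (n : B ⊗[k] C) :
    Algebra.TensorProduct.map ρ (AlgHom.id k C) n = 0 ↔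
      ∀ φ : C →ₗ[k] k, ρ (coef B φ n) = 0 := by
  constructor
  · intro h φ
    rw [← coef_map, h, map_zero]
  · intro h
    exact eq_zero_of_coef _ (fun φ => by rw [coef_map]; exact h φ)

/-- The content ideal of an ideal of `B ⊗[k] C`. -/
def content (N : Ideal (B ⊗[k] C)) : Ideal B :=
  Ideal.span {b | ∃ n ∈ N, ∃ φ : C →ₗ[k] k, coef B φ n = b}

lemma coef_mem_content {N : Ideal (B ⊗[k] C)} {n : B ⊗[k] C} (hn : n ∈ N) (φ : C →ₗ[k] k) :
    coef B φ n ∈ content N := Ideal.subset_span ⟨n, hn, φ, rfl⟩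

lemma content_le_iff {N : Ideal (B ⊗[k] C)} {I : Ideal B} :
    content N ≤ I ↔ ∀ n ∈ N, ∀ φ : C →ₗ[k] k, coef B φ n ∈ I := by
  rw [content, Ideal.span_le]
  constructor
  · intro h n hn φ
    exact h ⟨n, hn, φ, rfl⟩
  · rintro h _ ⟨n, hn, φ, rfl⟩
    exact h n hn φ

lemma content_le_ker_iff {R : Type u} [CommRing R] [Algebra k R] (ρ : B →ₐ[k] R)
    (N : Ideal (B ⊗[k] C)) :
    content N ≤ RingHom.ker (ρ : B →+* R) ↔
      ∀ n ∈ N, Algebra.TensorProduct.map ρ (AlgHom.id k C) n = 0 := by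
  rw [content_le_iff]
  constructor
  · intro h n hn
    exact (tmap_eq_zero_iff ρ n).mpr (fun φ => RingHom.mem_ker.mp (h n hn φ))
  · intro h n hn φ
    exact RingHom.mem_ker.mpr ((tmap_eq_zero_iff ρ n).mp (h n hn) φ)

lemma tmap_comp {B' R : Type u} [CommRing B'] [Algebra k B'] [CommRing R] [Algebra k R]
    (ρ : B →ₐ[k] B') (π : B' →ₐ[k] R) (n : B ⊗[k] C) :
    Algebra.TensorProduct.map (π.comp ρ) (AlgHom.id k C) n =
      Algebra.TensorProduct.map π (AlgHom.id k C)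
        (Algebra.TensorProduct.map ρ (AlgHom.id k C) n) := by
  induction n using TensorProduct.induction_on with
  | zero => simp
  | tmul b c => simp
  | add x y hx hy => simp only [map_add, hx, hy]

lemma content_map {B' : Type u} [CommRing B'] [Algebra k B'] (ρ : B →ₐ[k] B')
    (N : Ideal (B ⊗[k] C)) :
    content (N.map (Algebra.TensorProduct.map ρ (AlgHom.id k C)).toRingHom) =
      (content N).map (ρ : B →+* B') := by
  apply le_antisymm
  · generalize hI' : (content N).map (ρ : B →+* B') = I'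
    let π : B' →ₐ[k] (B' ⧸ I') := Ideal.Quotient.mkₐ k I'
    have h1 : content N ≤ RingHom.ker ((π.comp ρ : B →ₐ[k] B' ⧸ I') : B →+* B' ⧸ I') := by
      intro b hb
      rw [RingHom.mem_ker]
      show Ideal.Quotient.mk I' (ρ b) = 0
      refine Ideal.Quotient.eq_zero_iff_mem.mpr ?_
      rw [← hI']
      exact Ideal.mem_map_of_mem _ hb
    have h2 := (content_le_ker_iff (π.comp ρ) N).mp h1
    have hle : N.map (Algebra.TensorProduct.map ρ (AlgHom.id k C)).toRingHom ≤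
        RingHom.ker (Algebra.TensorProduct.map π (AlgHom.id k C)).toRingHom := by
      rw [Ideal.map_le_iff_le_comap]
      intro n hn
      rw [Ideal.mem_comap, RingHom.mem_ker]
      show Algebra.TensorProduct.map π (AlgHom.id k C)
        (Algebra.TensorProduct.map ρ (AlgHom.id k C) n) = 0
      rw [← tmap_comp]
      exact h2 n hn
    have h3 : ∀ n' ∈ N.map (Algebra.TensorProduct.map ρ (AlgHom.id k C)).toRingHom,
        Algebra.TensorProduct.map π (AlgHom.id k C) n' = 0 := by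
      intro n' hn'
      exact RingHom.mem_ker.mp (hle hn')
    have h4 := (content_le_ker_iff π _).mpr h3
    intro b hb
    have h5 := RingHom.mem_ker.mp (h4 hb)
    exact Ideal.Quotient.eq_zero_iff_mem.mp h5
  · rw [Ideal.map_le_iff_le_comap, content_le_iff]
    intro n hn φ
    rw [Ideal.mem_comap]
    show ρ (coef B φ n) ∈ _
    rw [← coef_map]
    exact coef_mem_content (Ideal.mem_map_of_mem _ hn) φ

end Alg


/-! ## Geometry -/

section Geom

variable {k : Type u} [Field k]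

lemma le_preimage_top {X Y : Scheme.{u}} (f : X ⟶ Y) (U : X.Opens) : U ≤ f ⁻¹ᵁ ⊤ := by
  intro x _
  simp

lemma appLE_congr' {X Y : Scheme.{u}} {f g : X ⟶ Y} (h : f = g) (U : Y.Opens) (V : X.Opens)
    (e₁ : V ≤ f ⁻¹ᵁ U) (e₂ : V ≤ g ⁻¹ᵁ U) : f.appLE U V e₁ = g.appLE U V e₂ := by
  subst h; rfl

/-- The structure map `k → Γ(X, U)` of a `k`-scheme. -/
noncomputable def algSec (X : Over (Spec (CommRingCat.of k))) (U : X.left.Opens) :
    k →+* Γ(X.left, U) :=
  ((Scheme.ΓSpecIso (CommRingCat.of k)).inv ≫ X.hom.appLE ⊤ U (le_preimage_top _ _)).hom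

/-- The `k`-algebra structure on sections of a `k`-scheme. -/
noncomputable def instAlgSec (X : Over (Spec (CommRingCat.of k))) (U : X.left.Opens) :
    Algebra k Γ(X.left, U) := (algSec X U).toAlgebra

attribute [local instance] instAlgSec

/-- `appLE` as a `k`-algebra hom. -/
noncomputable def appLEAlg {X X' : Over (Spec (CommRingCat.of k))} (f : X ⟶ X')
    (U' : X'.left.Opens) (U : X.left.Opens) (h : U ≤ f.left ⁻¹ᵁ U') :
    Γ(X'.left, U') →ₐ[k] Γ(X.left, U) :=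
  { (f.left.appLE U' U h).hom with
    commutes' := fun r => by
      have e : X'.hom.appLE ⊤ U' (le_preimage_top _ _) ≫ f.left.appLE U' U h =
          X.hom.appLE ⊤ U (le_preimage_top _ _) := by
        rw [Scheme.Hom.appLE_comp_appLE]
        exact appLE_congr' (Over.w f) _ _ _ _
      exact congr($(e).hom ((Scheme.ΓSpecIso (CommRingCat.of k)).inv.hom r)) }

/-- restriction as a `k`-algebra hom. -/
noncomputable def resAlg (X : Over (Spec (CommRingCat.of k))) {U' U : X.left.Opens}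
    (h : U' ≤ U) : Γ(X.left, U) →ₐ[k] Γ(X.left, U') :=
  { (X.left.presheaf.map (homOfLE h).op).hom with
    commutes' := fun r => by
      have e : X.hom.appLE ⊤ U (le_preimage_top _ _) ≫ X.left.presheaf.map (homOfLE h).op =
          X.hom.appLE ⊤ U' (le_preimage_top _ _) := Scheme.Hom.appLE_map _ _ _
      exact congr($(e).hom ((Scheme.ΓSpecIso (CommRingCat.of k)).inv.hom r)) }

/-- The box open `U × V` of a product. -/
noncomputable def box (Z Y : Over (Spec (CommRingCat.of k))) (U : Z.left.Opens) (V : Y.left.Opens) :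
    (Z ⊗ Y).left.Opens := (fst Z Y).left ⁻¹ᵁ U ⊓ (snd Z Y).left ⁻¹ᵁ V

lemma isPullback_left (Z Y : Over (Spec (CommRingCat.of k))) :
    IsPullback (fst Z Y).left (snd Z Y).left Z.hom Y.hom :=
  IsPullback.of_hasPullback Z.hom Y.hom

lemma isAffineOpen_box (Z Y : Over (Spec (CommRingCat.of k))) {U : Z.left.Opens}
    (hU : IsAffineOpen U) {V : Y.left.Opens} (hV : IsAffineOpen V) :
    IsAffineOpen (box Z Y U V) := by
  haveI : IsAffine ((⊤ : (Spec (CommRingCat.of k)).Opens) : Scheme.{u}) := isAffineOpen_top _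
  haveI : IsAffine (V : Scheme.{u}) := hV
  haveI : IsAffine (U : Scheme.{u}) := hU
  exact IsAffine.of_isIso (Scheme.Hom.isPullback_resLE (isPullback_left Z Y) (US := ⊤)
    (UT := V) (UX := U) (UY := box Z Y U V)
    (le_preimage_top _ _) (le_preimage_top _ _) rfl).isoPullback.hom

lemma box_mono (Z Y : Over (Spec (CommRingCat.of k))) {U' U : Z.left.Opens} (h : U' ≤ U)
    (V : Y.left.Opens) : box Z Y U' V ≤ box Z Y U V :=
  inf_le_inf ((fst Z Y).left.preimage_mono h) le_rfl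

lemma isPushout_sections (Z Y : Over (Spec (CommRingCat.of k))) {U : Z.left.Opens}
    (hU : IsAffineOpen U) {V : Y.left.Opens} (hV : IsAffineOpen V) :
    IsPushout (CommRingCat.ofHom (algebraMap k Γ(Z.left, U)))
      (CommRingCat.ofHom (algebraMap k Γ(Y.left, V)))
      ((fst Z Y).left.appLE U (box Z Y U V) inf_le_left)
      ((snd Z Y).left.appLE V (box Z Y U V) inf_le_right) := by
  have H := isPullback_left Z Y
  have h0 : IsPushout (Z.hom.appLE ⊤ U (le_preimage_top _ _))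
      (Y.hom.appLE ⊤ V (le_preimage_top _ _))
      ((fst Z Y).left.appLE U (box Z Y U V) inf_le_left)
      ((snd Z Y).left.appLE V (box Z Y U V) inf_le_right) :=
    (isIso_pushoutSection_iff H (le_preimage_top _ _) (le_preimage_top _ _) rfl).mp
      (isIso_pushoutSection_of_isAffineOpen H (le_preimage_top _ _) (le_preimage_top _ _) rfl
        (isAffineOpen_top _) hV hU)
  refine h0.of_iso (Scheme.ΓSpecIso (CommRingCat.of k)) (Iso.refl _) (Iso.refl _) (Iso.refl _)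
    ?_ ?_ ?_ ?_
  · rw [Iso.refl_hom, Category.comp_id]
    show _ = (Scheme.ΓSpecIso (CommRingCat.of k)).hom ≫
      ((Scheme.ΓSpecIso (CommRingCat.of k)).inv ≫ _)
    rw [Iso.hom_inv_id_assoc]
  · rw [Iso.refl_hom, Category.comp_id]
    show _ = (Scheme.ΓSpecIso (CommRingCat.of k)).hom ≫
      ((Scheme.ΓSpecIso (CommRingCat.of k)).inv ≫ _)
    rw [Iso.hom_inv_id_assoc]
  · simp
  · simp

/-- The comparison iso `Γ(U) ⊗ Γ(V) ≅ Γ(U × V)`. -/
noncomputable def secIso (Z Y : Over (Spec (CommRingCat.of k))) {U : Z.left.Opens}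
    (hU : IsAffineOpen U) {V : Y.left.Opens} (hV : IsAffineOpen V) :
    CommRingCat.of (Γ(Z.left, U) ⊗[k] Γ(Y.left, V)) ≅ Γ((Z ⊗ Y).left, box Z Y U V) :=
  (CommRingCat.isPushout_tensorProduct k Γ(Z.left, U) Γ(Y.left, V)).isoIsPushout _ _
    (isPushout_sections Z Y hU hV)

lemma inl_secIso (Z Y : Over (Spec (CommRingCat.of k))) {U : Z.left.Opens}
    (hU : IsAffineOpen U) {V : Y.left.Opens} (hV : IsAffineOpen V) :
    CommRingCat.ofHom (S := Γ(Z.left, U) ⊗[k] Γ(Y.left, V))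
        Algebra.TensorProduct.includeLeftRingHom ≫ (secIso Z Y hU hV).hom =
      (fst Z Y).left.appLE U (box Z Y U V) inf_le_left :=
  IsPushout.inl_isoIsPushout_hom _ _ _ _

lemma inr_secIso (Z Y : Over (Spec (CommRingCat.of k))) {U : Z.left.Opens}
    (hU : IsAffineOpen U) {V : Y.left.Opens} (hV : IsAffineOpen V) :
    CommRingCat.ofHom (S := Γ(Z.left, U) ⊗[k] Γ(Y.left, V))
        Algebra.TensorProduct.includeRight.toRingHom ≫ (secIso Z Y hU hV).hom =
      (snd Z Y).left.appLE V (box Z Y U V) inf_le_right :=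
  IsPushout.inr_isoIsPushout_hom _ _ _ _

/-- The comparison ring hom. -/
noncomputable def τ (Z Y : Over (Spec (CommRingCat.of k))) {U : Z.left.Opens}
    (hU : IsAffineOpen U) {V : Y.left.Opens} (hV : IsAffineOpen V) :
    Γ(Z.left, U) ⊗[k] Γ(Y.left, V) →+* Γ((Z ⊗ Y).left, box Z Y U V) :=
  (secIso Z Y hU hV).hom.hom

lemma τ_bijective (Z Y : Over (Spec (CommRingCat.of k))) {U : Z.left.Opens}
    (hU : IsAffineOpen U) {V : Y.left.Opens} (hV : IsAffineOpen V) :
    Function.Bijective (τ Z Y hU hV) :=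
  (secIso Z Y hU hV).commRingCatIsoToRingEquiv.bijective

lemma τ_nat {Z Z' Y : Over (Spec (CommRingCat.of k))} {U : Z.left.Opens} (hU : IsAffineOpen U)
    {U' : Z'.left.Opens} (hU' : IsAffineOpen U') {V : Y.left.Opens} (hV : IsAffineOpen V)
    (ρ : Γ(Z.left, U) →ₐ[k] Γ(Z'.left, U'))
    (γ : Γ((Z ⊗ Y).left, box Z Y U V) ⟶ Γ((Z' ⊗ Y).left, box Z' Y U' V))
    (h₁ : (fst Z Y).left.appLE U (box Z Y U V) inf_le_left ≫ γ =
      CommRingCat.ofHom (ρ : Γ(Z.left, U) →+* Γ(Z'.left, U')) ≫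
        (fst Z' Y).left.appLE U' (box Z' Y U' V) inf_le_left)
    (h₂ : (snd Z Y).left.appLE V (box Z Y U V) inf_le_right ≫ γ =
      (snd Z' Y).left.appLE V (box Z' Y U' V) inf_le_right)
    (n : Γ(Z.left, U) ⊗[k] Γ(Y.left, V)) :
    γ.hom (τ Z Y hU hV n) =
      τ Z' Y hU' hV (Algebra.TensorProduct.map ρ (AlgHom.id k Γ(Y.left, V)) n) := by
  have key : (secIso Z Y hU hV).hom ≫ γ =
      CommRingCat.ofHom (Algebra.TensorProduct.map ρ (AlgHom.id k Γ(Y.left, V))).toRingHom ≫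
        (secIso Z' Y hU' hV).hom := by
    refine (CommRingCat.isPushout_tensorProduct k Γ(Z.left, U) Γ(Y.left, V)).hom_ext ?_ ?_
    · have e : CommRingCat.ofHom (S := Γ(Z.left, U) ⊗[k] Γ(Y.left, V))
            Algebra.TensorProduct.includeLeftRingHom ≫
          CommRingCat.ofHom
            (Algebra.TensorProduct.map ρ (AlgHom.id k Γ(Y.left, V))).toRingHom =
          CommRingCat.ofHom (ρ : Γ(Z.left, U) →+* Γ(Z'.left, U')) ≫
            CommRingCat.ofHom (S := Γ(Z'.left, U') ⊗[k] Γ(Y.left, V))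
              Algebra.TensorProduct.includeLeftRingHom := by
        ext b
        simp
      have L : CommRingCat.ofHom (S := Γ(Z.left, U) ⊗[k] Γ(Y.left, V))
            Algebra.TensorProduct.includeLeftRingHom ≫ (secIso Z Y hU hV).hom ≫ γ =
          CommRingCat.ofHom (ρ : Γ(Z.left, U) →+* Γ(Z'.left, U')) ≫
            (fst Z' Y).left.appLE U' (box Z' Y U' V) inf_le_left := by
        rw [← Category.assoc, inl_secIso, h₁]
      have R : CommRingCat.ofHom (S := Γ(Z.left, U) ⊗[k] Γ(Y.left, V))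
            Algebra.TensorProduct.includeLeftRingHom ≫
          CommRingCat.ofHom
            (Algebra.TensorProduct.map ρ (AlgHom.id k Γ(Y.left, V))).toRingHom ≫
            (secIso Z' Y hU' hV).hom =
          CommRingCat.ofHom (ρ : Γ(Z.left, U) →+* Γ(Z'.left, U')) ≫
            (fst Z' Y).left.appLE U' (box Z' Y U' V) inf_le_left := by
        rw [← Category.assoc, e, Category.assoc, inl_secIso]
      exact L.trans R.symm
    · have e : CommRingCat.ofHom (S := Γ(Z.left, U) ⊗[k] Γ(Y.left, V))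
            Algebra.TensorProduct.includeRight.toRingHom ≫
          CommRingCat.ofHom
            (Algebra.TensorProduct.map ρ (AlgHom.id k Γ(Y.left, V))).toRingHom =
          CommRingCat.ofHom (S := Γ(Z'.left, U') ⊗[k] Γ(Y.left, V))
              Algebra.TensorProduct.includeRight.toRingHom := by
        ext c
        simp
      have L : CommRingCat.ofHom (S := Γ(Z.left, U) ⊗[k] Γ(Y.left, V))
            Algebra.TensorProduct.includeRight.toRingHom ≫ (secIso Z Y hU hV).hom ≫ γ =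
          (snd Z' Y).left.appLE V (box Z' Y U' V) inf_le_right := by
        rw [← Category.assoc, inr_secIso, h₂]
      have R : CommRingCat.ofHom (S := Γ(Z.left, U) ⊗[k] Γ(Y.left, V))
            Algebra.TensorProduct.includeRight.toRingHom ≫
          CommRingCat.ofHom
            (Algebra.TensorProduct.map ρ (AlgHom.id k Γ(Y.left, V))).toRingHom ≫
            (secIso Z' Y hU' hV).hom =
          (snd Z' Y).left.appLE V (box Z' Y U' V) inf_le_right := by
        rw [← Category.assoc, e, inr_secIso]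
      exact L.trans R.symm
  exact congr($(key).hom n)

lemma τ_res (Z Y : Over (Spec (CommRingCat.of k))) {U' U : Z.left.Opens}
    (hU' : IsAffineOpen U') (hU : IsAffineOpen U) (h : U' ≤ U) {V : Y.left.Opens}
    (hV : IsAffineOpen V) (n : Γ(Z.left, U) ⊗[k] Γ(Y.left, V)) :
    ((Z ⊗ Y).left.presheaf.map (homOfLE (box_mono Z Y h V)).op).hom (τ Z Y hU hV n) =
      τ Z Y hU' hV (Algebra.TensorProduct.map (resAlg Z h) (AlgHom.id k Γ(Y.left, V)) n) := by
  refine τ_nat hU hU' hV (resAlg Z h) _ ?_ ?_ n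
  · rw [Scheme.Hom.appLE_map]
    exact (Scheme.Hom.map_appLE (fst Z Y).left inf_le_left (homOfLE h).op).symm
  · exact Scheme.Hom.appLE_map _ _ _

lemma whisk_fst {T Z : Over (Spec (CommRingCat.of k))} (z : T ⟶ Z)
    (Y : Over (Spec (CommRingCat.of k))) :
    (z ▷ Y).left ≫ (fst Z Y).left = (fst T Y).left ≫ z.left := by
  rw [← Over.comp_left, ← Over.comp_left, whiskerRight_fst]

lemma whisk_snd {T Z : Over (Spec (CommRingCat.of k))} (z : T ⟶ Z)
    (Y : Over (Spec (CommRingCat.of k))) :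
    (z ▷ Y).left ≫ (snd Z Y).left = (snd T Y).left := by
  rw [← Over.comp_left, whiskerRight_snd]

lemma whisk_fst_apply {T Z : Over (Spec (CommRingCat.of k))} (z : T ⟶ Z)
    (Y : Over (Spec (CommRingCat.of k))) (w : (T ⊗ Y).left) :
    (fst Z Y).left ((z ▷ Y).left w) = z.left ((fst T Y).left w) := by
  rw [← Scheme.Hom.comp_apply, ← Scheme.Hom.comp_apply, whisk_fst]

lemma whisk_snd_apply {T Z : Over (Spec (CommRingCat.of k))} (z : T ⟶ Z)
    (Y : Over (Spec (CommRingCat.of k))) (w : (T ⊗ Y).left) :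
    (snd Z Y).left ((z ▷ Y).left w) = (snd T Y).left w := by
  rw [← Scheme.Hom.comp_apply, whisk_snd]

lemma box_le {T Z : Over (Spec (CommRingCat.of k))} (z : T ⟶ Z)
    (Y : Over (Spec (CommRingCat.of k))) {U : Z.left.Opens} {V : Y.left.Opens}
    {T' : T.left.Opens} (h : T' ≤ z.left ⁻¹ᵁ U) :
    box T Y T' V ≤ (z ▷ Y).left ⁻¹ᵁ box Z Y U V := by
  rintro w ⟨hw1, hw2⟩
  refine ⟨?_, ?_⟩
  · show (fst Z Y).left ((z ▷ Y).left w) ∈ U
    rw [whisk_fst_apply]
    exact h hw1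
  · show (snd Z Y).left ((z ▷ Y).left w) ∈ V
    rw [whisk_snd_apply]
    exact hw2

lemma τ_base {T Z : Over (Spec (CommRingCat.of k))} (z : T ⟶ Z)
    (Y : Over (Spec (CommRingCat.of k))) {U : Z.left.Opens} (hU : IsAffineOpen U)
    {T' : T.left.Opens} (hT' : IsAffineOpen T') (h : T' ≤ z.left ⁻¹ᵁ U) {V : Y.left.Opens}
    (hV : IsAffineOpen V) (n : Γ(Z.left, U) ⊗[k] Γ(Y.left, V)) :
    ((z ▷ Y).left.appLE (box Z Y U V) (box T Y T' V) (box_le z Y h)).hom (τ Z Y hU hV n) =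
      τ T Y hT' hV
        (Algebra.TensorProduct.map (appLEAlg z U T' h) (AlgHom.id k Γ(Y.left, V)) n) := by
  refine τ_nat hU hT' hV (appLEAlg z U T' h) _ ?_ ?_ n
  · rw [Scheme.Hom.appLE_comp_appLE]
    refine Eq.trans (appLE_congr' (whisk_fst z Y) _ _ _ ?_) ?_
    · exact inf_le_left.trans ((fst T Y).left.preimage_mono h)
    · exact (Scheme.Hom.appLE_comp_appLE (fst T Y).left z.left U T' (box T Y T' V) h
        inf_le_left).symm
  · rw [Scheme.Hom.appLE_comp_appLE]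
    exact appLE_congr' (whisk_snd z Y) _ _ _ _


/-! ### The ideal sheaf -/

/-- The box as an affine open. -/
noncomputable def boxA (Z Y : Over (Spec (CommRingCat.of k))) (U : Z.left.affineOpens)
    (V : Y.left.affineOpens) : (Z ⊗ Y).left.affineOpens :=
  ⟨box Z Y U.1 V.1, isAffineOpen_box Z Y U.2 V.2⟩

/-- The ideal of `Γ(U) ⊗ Γ(V)` corresponding to `𝓘` on the box. -/
noncomputable def Nid (Z Y : Over (Spec (CommRingCat.of k)))
    (𝓘 : (Z ⊗ Y).left.IdealSheafData) (U : Z.left.affineOpens) (V : Y.left.affineOpens) :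
    Ideal (Γ(Z.left, U.1) ⊗[k] Γ(Y.left, V.1)) :=
  (𝓘.ideal (boxA Z Y U V)).comap (τ Z Y U.2 V.2)

/-- The candidate ideal on `U`. -/
noncomputable def Jid (Z Y : Over (Spec (CommRingCat.of k)))
    (𝓘 : (Z ⊗ Y).left.IdealSheafData) (U : Z.left.affineOpens) : Ideal Γ(Z.left, U.1) :=
  ⨆ V : Y.left.affineOpens, content (Nid Z Y 𝓘 U V)

lemma Nid_map (Z Y : Over (Spec (CommRingCat.of k))) (𝓘 : (Z ⊗ Y).left.IdealSheafData)
    {U' U : Z.left.affineOpens} (h : U'.1 ≤ U.1) (V : Y.left.affineOpens) :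
    (Nid Z Y 𝓘 U V).map
        (Algebra.TensorProduct.map (resAlg Z h) (AlgHom.id k Γ(Y.left, V.1))).toRingHom =
      Nid Z Y 𝓘 U' V := by
  have hb : (boxA Z Y U' V).1 ≤ (boxA Z Y U V).1 := box_mono Z Y h V.1
  have hI := 𝓘.map_ideal (U := boxA Z Y U' V) (V := boxA Z Y U V) hb
  have hnat : ((Z ⊗ Y).left.presheaf.map (homOfLE hb).op).hom.comp (τ Z Y U.2 V.2) =
      (τ Z Y U'.2 V.2).comp
        (Algebra.TensorProduct.map (resAlg Z h) (AlgHom.id k Γ(Y.left, V.1))).toRingHom :=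
    RingHom.ext fun n => τ_res Z Y U'.2 U.2 h V.2 n
  have h1 : ((Nid Z Y 𝓘 U V).map
        (Algebra.TensorProduct.map (resAlg Z h) (AlgHom.id k Γ(Y.left, V.1))).toRingHom).map
        (τ Z Y U'.2 V.2) =
      (𝓘.ideal (boxA Z Y U V)).map ((Z ⊗ Y).left.presheaf.map (homOfLE hb).op).hom :=
    (Ideal.map_map _ _).trans
      ((congrArg (fun f => Ideal.map f (Nid Z Y 𝓘 U V)) hnat.symm).trans
        ((Ideal.map_map _ _).symm.trans
          (congrArg (Ideal.map ((Z ⊗ Y).left.presheaf.map (homOfLE hb).op).hom)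
            (Ideal.map_comap_of_surjective _ (τ_bijective Z Y U.2 V.2).2 _))))
  have h2 : ∀ K : Ideal (Γ(Z.left, U'.1) ⊗[k] Γ(Y.left, V.1)),
      (K.map (τ Z Y U'.2 V.2)).comap (τ Z Y U'.2 V.2) = K := fun K =>
    Ideal.comap_map_of_bijective (τ Z Y U'.2 V.2) (τ_bijective Z Y U'.2 V.2)
  exact (h2 _).symm.trans (congrArg (Ideal.comap (τ Z Y U'.2 V.2)) (h1.trans hI))

lemma Jid_map (Z Y : Over (Spec (CommRingCat.of k))) (𝓘 : (Z ⊗ Y).left.IdealSheafData)
    {U' U : Z.left.affineOpens} (h : U'.1 ≤ U.1) :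
    (Jid Z Y 𝓘 U).map (Z.left.presheaf.map (homOfLE h).op).hom = Jid Z Y 𝓘 U' := by
  unfold Jid
  rw [Ideal.map_iSup]
  refine iSup_congr fun V => ?_
  have h1 := content_map (resAlg Z h) (Nid Z Y 𝓘 U V)
  rw [Nid_map Z Y 𝓘 h V] at h1
  exact h1.symm

/-- The ideal sheaf of the Weil restriction. -/
noncomputable def Jsheaf (Z Y : Over (Spec (CommRingCat.of k)))
    (𝓘 : (Z ⊗ Y).left.IdealSheafData) : Z.left.IdealSheafData where
  ideal := Jid Z Y 𝓘
  map_ideal_basicOpen U f :=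
    Jid_map Z Y 𝓘 (U' := Z.left.affineBasicOpen f) (U := U) (Z.left.basicOpen_le f)

/-! ### Locality lemmas -/

lemma le_ker_iff {X X' : Scheme.{u}} (g : X' ⟶ X) (𝓘 : X.IdealSheafData) :
    𝓘 ≤ g.ker ↔ ∀ U : X.affineOpens, 𝓘.ideal U ≤ RingHom.ker (g.app U.1).hom :=
  Scheme.IdealSheafData.le_ofIdeals_iff

lemma exists_affine_mem (X : Scheme.{u}) (x : X) : ∃ U : X.affineOpens, x ∈ U.1 := by
  obtain ⟨_, ⟨U, hU, rfl⟩, hxU, -⟩ :=
    X.isBasis_affineOpens.exists_subset_of_mem_open (Set.mem_univ x) isOpen_univ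
  exact ⟨⟨U, hU⟩, hxU⟩

lemma exists_affine_mem_le (X : Scheme.{u}) (O : X.Opens) (x : X) (hx : x ∈ O) :
    ∃ U : X.affineOpens, x ∈ U.1 ∧ U.1 ≤ O := by
  obtain ⟨_, ⟨U, hU, rfl⟩, hxU, hUO⟩ :=
    X.isBasis_affineOpens.exists_subset_of_mem_open hx O.2
  exact ⟨⟨U, hU⟩, hxU, hUO⟩

lemma le_ker_of_cover {P' P : Scheme.{u}} (g : P' ⟶ P) (𝓘 : P.IdealSheafData) {κ : Type*}
    (W : κ → P.affineOpens) (hW : ∀ x : P, ∃ i, x ∈ (W i).1)
    (h : ∀ i, 𝓘.ideal (W i) ≤ RingHom.ker (g.app (W i).1).hom) : 𝓘 ≤ g.ker := by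
  rw [le_ker_iff]
  intro A s hs
  rw [RingHom.mem_ker]
  have hloc : ∀ x : A.1, ∃ (D : P.Opens) (hD : D ≤ A.1), x.1 ∈ D ∧
      (g.app D).hom ((P.presheaf.map (homOfLE hD).op).hom s) = 0 := by
    rintro ⟨x, hx⟩
    obtain ⟨i, hi⟩ := hW x
    obtain ⟨f, f', hff', hxf⟩ := exists_basicOpen_le_affine_inter A.2 (W i).2 x ⟨hx, hi⟩
    have hDA : (P.affineBasicOpen f).1 ≤ A.1 := P.basicOpen_le f
    have hDW : (P.affineBasicOpen f).1 ≤ (W i).1 := by
      show P.basicOpen f ≤ (W i).1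
      rw [hff']
      exact P.basicOpen_le f'
    refine ⟨(P.affineBasicOpen f).1, hDA, hxf, ?_⟩
    have h1 : (P.presheaf.map (homOfLE hDA).op).hom s ∈ 𝓘.ideal (P.affineBasicOpen f) :=
      𝓘.ideal_le_comap_ideal (U := P.affineBasicOpen f) (V := A) hDA hs
    rw [← 𝓘.map_ideal (U := P.affineBasicOpen f) (V := W i) hDW] at h1
    have h2 : (𝓘.ideal (W i)).map (P.presheaf.map (homOfLE hDW).op).hom ≤
        RingHom.ker (g.app (P.affineBasicOpen f).1).hom := by
      rw [Ideal.map_le_iff_le_comap]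
      intro t ht
      rw [Ideal.mem_comap, RingHom.mem_ker]
      have h3 := RingHom.mem_ker.mp (h i ht)
      have nat := congr($(g.naturality (homOfLE hDW).op).hom t)
      refine Eq.trans nat ?_
      show (P'.presheaf.map _).hom ((g.app (W i).1).hom t) = 0
      rw [h3, map_zero]
    exact RingHom.mem_ker.mp (h2 h1)
  choose D hD hxD hker using hloc
  refine P'.sheaf.eq_of_locally_eq' (fun x : A.1 => g ⁻¹ᵁ D x) (g ⁻¹ᵁ A.1)
    (fun x => homOfLE (g.preimage_mono (hD x))) ?_ _ _ (fun x => ?_)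
  · intro y hy
    rw [Opens.mem_iSup]
    exact ⟨⟨g y, hy⟩, hxD ⟨g y, hy⟩⟩
  · refine Eq.trans ?_ (map_zero _).symm
    have nat := congr($(g.naturality (homOfLE (hD x)).op).hom s)
    exact nat.symm.trans (hker x)

/-! ### The universal property -/

lemma fwd (Z Y : Over (Spec (CommRingCat.of k))) (𝓘 : (Z ⊗ Y).left.IdealSheafData)
    {T : Over (Spec (CommRingCat.of k))} (z : T ⟶ Z)
    (hJ : ∀ U : Z.left.affineOpens, Jid Z Y 𝓘 U ≤ RingHom.ker (z.left.app U.1).hom)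
    (U : Z.left.affineOpens) (V : Y.left.affineOpens) :
    𝓘.ideal (boxA Z Y U V) ≤ RingHom.ker ((z ▷ Y).left.app (box Z Y U.1 V.1)).hom := by
  intro s hs
  refine RingHom.mem_ker.mpr ?_
  obtain ⟨n, rfl⟩ := (τ_bijective Z Y U.2 V.2).2 s
  have hn : n ∈ Nid Z Y 𝓘 U V := hs
  refine (T ⊗ Y).left.sheaf.eq_of_locally_eq'
    (fun T' : {T' : T.left.affineOpens // T'.1 ≤ z.left ⁻¹ᵁ U.1} => box T Y T'.1.1 V.1)
    ((z ▷ Y).left ⁻¹ᵁ box Z Y U.1 V.1) (fun T' => homOfLE (box_le z Y T'.2)) ?_ _ _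
    (fun T' => ?_)
  · intro w hw
    have hw1 : (fst Z Y).left ((z ▷ Y).left w) ∈ U.1 := hw.1
    have hw2 : (snd Z Y).left ((z ▷ Y).left w) ∈ V.1 := hw.2
    rw [whisk_fst_apply] at hw1
    rw [whisk_snd_apply] at hw2
    obtain ⟨T', hT'1, hT'2⟩ :=
      exists_affine_mem_le T.left (z.left ⁻¹ᵁ U.1) ((fst T Y).left w) hw1
    rw [Opens.mem_iSup]
    exact ⟨⟨T', hT'2⟩, ⟨hT'1, hw2⟩⟩
  · refine Eq.trans ?_ (map_zero _).symm
    show ((z ▷ Y).left.appLE (box Z Y U.1 V.1) (box T Y T'.1.1 V.1)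
      (box_le z Y T'.2)).hom (τ Z Y U.2 V.2 n) = 0
    have h0 : Algebra.TensorProduct.map (appLEAlg z U.1 T'.1.1 T'.2)
        (AlgHom.id k Γ(Y.left, V.1)) n = 0 := by
      refine (tmap_eq_zero_iff _ n).mpr fun φ => ?_
      have hmem : coef _ φ n ∈ Jid Z Y 𝓘 U :=
        (le_iSup (fun V => content (Nid Z Y 𝓘 U V)) V) (coef_mem_content hn φ)
      have h0 : (z.left.app U.1).hom (coef _ φ n) = 0 := RingHom.mem_ker.mp (hJ U hmem)
      show (T.left.presheaf.map (homOfLE T'.2).op).hom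
        ((z.left.app U.1).hom (coef _ φ n)) = 0
      rw [h0, map_zero]
    exact (τ_base z Y U.2 T'.1.2 T'.2 V.2 n).trans ((congrArg _ h0).trans (map_zero _))

lemma bwd (Z Y : Over (Spec (CommRingCat.of k))) (𝓘 : (Z ⊗ Y).left.IdealSheafData)
    {T : Over (Spec (CommRingCat.of k))} (z : T ⟶ Z)
    (hI : ∀ W : (Z ⊗ Y).left.affineOpens,
      𝓘.ideal W ≤ RingHom.ker ((z ▷ Y).left.app W.1).hom)
    (U : Z.left.affineOpens) : Jid Z Y 𝓘 U ≤ RingHom.ker (z.left.app U.1).hom := by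
  refine iSup_le fun V => ?_
  rw [content_le_iff]
  intro n hn φ
  refine RingHom.mem_ker.mpr ?_
  refine T.left.sheaf.eq_of_locally_eq'
    (fun T' : {T' : T.left.affineOpens // T'.1 ≤ z.left ⁻¹ᵁ U.1} => T'.1.1)
    (z.left ⁻¹ᵁ U.1) (fun T' => homOfLE T'.2) ?_ _ _ (fun T' => ?_)
  · intro t ht
    obtain ⟨T', hT'1, hT'2⟩ := exists_affine_mem_le T.left (z.left ⁻¹ᵁ U.1) t ht
    rw [Opens.mem_iSup]
    exact ⟨⟨T', hT'2⟩, hT'1⟩
  · refine Eq.trans ?_ (map_zero _).symm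
    show (appLEAlg z U.1 T'.1.1 T'.2) (coef _ φ n) = 0
    refine (tmap_eq_zero_iff (appLEAlg z U.1 T'.1.1 T'.2) n).mp ?_ φ
    apply (τ_bijective T Y T'.1.2 V.2).1
    refine Eq.trans ?_ (map_zero _).symm
    refine (τ_base z Y U.2 T'.1.2 T'.2 V.2 n).symm.trans ?_
    have hτ : τ Z Y U.2 V.2 n ∈ 𝓘.ideal (boxA Z Y U V) := hn
    have h0 : ((z ▷ Y).left.app (box Z Y U.1 V.1)).hom (τ Z Y U.2 V.2 n) = 0 :=
      RingHom.mem_ker.mp (hI (boxA Z Y U V) hτ)
    show ((T ⊗ Y).left.presheaf.map (homOfLE (box_le z Y T'.2)).op).hom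
      (((z ▷ Y).left.app (box Z Y U.1 V.1)).hom (τ Z Y U.2 V.2 n)) = 0
    rw [h0, map_zero]

theorem exists_ideal (Z Y : Over (Spec (CommRingCat.of k)))
    (𝓘 : (Z ⊗ Y).left.IdealSheafData) :
    ∃ 𝓙 : Z.left.IdealSheafData, ∀ (T : Over (Spec (CommRingCat.of k))) (z : T ⟶ Z),
      𝓙 ≤ z.left.ker ↔ 𝓘 ≤ (z ▷ Y).left.ker := by
  refine ⟨Jsheaf Z Y 𝓘, fun T z => ⟨fun hJ => ?_, fun hI => ?_⟩⟩
  · rw [le_ker_iff] at hJ
    refine le_ker_of_cover (z ▷ Y).left 𝓘
      (fun UV : Z.left.affineOpens × Y.left.affineOpens => boxA Z Y UV.1 UV.2) ?_ ?_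
    · intro x
      obtain ⟨U, hxU⟩ := exists_affine_mem Z.left ((fst Z Y).left x)
      obtain ⟨V, hxV⟩ := exists_affine_mem Y.left ((snd Z Y).left x)
      exact ⟨(U, V), ⟨hxU, hxV⟩⟩
    · rintro ⟨U, V⟩
      exact fwd Z Y 𝓘 z hJ U V
  · rw [le_ker_iff] at hI ⊢
    intro U
    exact bwd Z Y 𝓘 z hI U

theorem exists_closed (Z Y E : Over (Spec (CommRingCat.of k))) (j : E ⟶ Z ⊗ Y)
    [IsClosedImmersion j.left] :
    ∃ (F : Over (Spec (CommRingCat.of k))) (i : F ⟶ Z), IsClosedImmersion i.left ∧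
      ∀ (T : Over (Spec (CommRingCat.of k))) (z : T ⟶ Z),
        (∃ w : T ⟶ F, w ≫ i = z) ↔ ∃ l : T ⊗ Y ⟶ E, l ≫ j = z ▷ Y := by
  obtain ⟨𝓙, h𝓙⟩ := exists_ideal Z Y j.left.ker
  refine ⟨Over.mk (𝓙.subschemeι ≫ Z.hom), Over.homMk 𝓙.subschemeι rfl, ?_,
    fun T z => ⟨?_, ?_⟩⟩
  · show IsClosedImmersion 𝓙.subschemeι
    infer_instance
  · rintro ⟨w, rfl⟩
    have h1 : 𝓙 ≤ (w ≫ (Over.homMk 𝓙.subschemeι rfl :
        Over.mk (𝓙.subschemeι ≫ Z.hom) ⟶ Z)).left.ker := by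
      show 𝓙 ≤ (w.left ≫ 𝓙.subschemeι).ker
      calc 𝓙 = 𝓙.subschemeι.ker := 𝓙.ker_subschemeι.symm
        _ ≤ _ := Scheme.Hom.le_ker_comp _ _
    have h2 := (h𝓙 T _).mp h1
    refine ⟨Over.homMk (IsClosedImmersion.lift j.left _ h2) ?_, ?_⟩
    · rw [← Over.w j, IsClosedImmersion.lift_fac_assoc]
      exact Over.w _
    · refine Over.OverMorphism.ext ?_
      show IsClosedImmersion.lift j.left _ h2 ≫ j.left = _
      exact IsClosedImmersion.lift_fac _ _ _
  · rintro ⟨l, hl⟩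
    have h1 : j.left.ker ≤ (z ▷ Y).left.ker := by
      rw [← hl, Over.comp_left]
      exact Scheme.Hom.le_ker_comp _ _
    have h2 := (h𝓙 T z).mpr h1
    have h3 : 𝓙.subschemeι.ker ≤ z.left.ker := by
      rw [𝓙.ker_subschemeι]
      exact h2
    refine ⟨Over.homMk (IsClosedImmersion.lift 𝓙.subschemeι z.left h3) ?_, ?_⟩
    · show IsClosedImmersion.lift 𝓙.subschemeι z.left h3 ≫ 𝓙.subschemeι ≫ Z.hom = T.hom
      rw [IsClosedImmersion.lift_fac_assoc]
      exact Over.w z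
    · refine Over.OverMorphism.ext ?_
      show IsClosedImmersion.lift 𝓙.subschemeι z.left h3 ≫ 𝓙.subschemeι = z.left
      exact IsClosedImmersion.lift_fac _ _ _

theorem exists_closed_eq (Z Y W : Over (Spec (CommRingCat.of k))) [IsSeparated W.hom]
    (m₁ m₂ : Z ⊗ Y ⟶ W) :
    ∃ (F : Over (Spec (CommRingCat.of k))) (i : F ⟶ Z), IsClosedImmersion i.left ∧
      ∀ (T : Over (Spec (CommRingCat.of k))) (z : T ⟶ Z),
        (∃ w : T ⟶ F, w ≫ i = z) ↔ (z ▷ Y) ≫ m₁ = (z ▷ Y) ≫ m₂ := by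
  obtain ⟨F, i, hi, h⟩ := exists_closed Z Y (equalizer m₁ m₂) (equalizer.ι m₁ m₂)
  refine ⟨F, i, hi, fun T z => (h T z).trans ⟨?_, ?_⟩⟩
  · rintro ⟨l, hl⟩
    rw [← hl, Category.assoc, Category.assoc, equalizer.condition]
  · intro e
    exact ⟨equalizer.lift (z ▷ Y) e, equalizer.lift_ι _ _⟩

end Geom


/-! ## Applications -/

section Apps

open MonObj GrpObj

variable {k : Type u} [Field k]

/-- The centre of a group scheme over a field is a closed subscheme. -/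
theorem main7519 (G : Over (Spec (CommRingCat.of k))) [GrpObj G] :
    ∃ (Z : Over (Spec (CommRingCat.of k))) (incl : Z ⟶ G), IsClosedImmersion incl.left ∧
      ∀ (T : Over (Spec (CommRingCat.of k))) (g : T ⟶ G),
        (∃ z : T ⟶ Z, z ≫ incl = g) ↔
          ∀ (T' : Over (Spec (CommRingCat.of k))) (h : T' ⟶ T) (g' : T' ⟶ G),
            (h ≫ g) * g' = g' * (h ≫ g) := by
  haveI hsep : IsSeparated G.hom := GrpSepDiscH4.main5331 (Spec (CommRingCat.of k)) G
  obtain ⟨F, i, hi, h⟩ := exists_closed_eq G G G (fst G G * snd G G) (snd G G * fst G G)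
  have key : ∀ (T : Over (Spec (CommRingCat.of k))) (g : T ⟶ G),
      ((g ▷ G) ≫ (fst G G * snd G G) = (g ▷ G) ≫ (snd G G * fst G G)) ↔
        (fst T G ≫ g) * snd T G = snd T G * (fst T G ≫ g) := by
    intro T g
    rw [MonObj.comp_mul, MonObj.comp_mul, whiskerRight_fst, whiskerRight_snd]
  refine ⟨F, i, hi, fun T g => (h T g).trans ((key T g).trans ⟨?_, ?_⟩)⟩
  · intro e T' t g'
    have := congr(lift t g' ≫ $e)
    rw [MonObj.comp_mul, MonObj.comp_mul, lift_fst_assoc, lift_snd] at this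
    exact this
  · intro e
    exact e (T ⊗ G) (fst T G) (snd T G)

/-- The transporter of `u` into `v` is a closed subscheme. -/
theorem main5357 (G X : Over (Spec (CommRingCat.of k))) [GrpObj G] (u v : X ⟶ G) :
    ∃ (T : Over (Spec (CommRingCat.of k))) (t : T ⟶ G), IsClosedImmersion t.left ∧
      ∀ (S' : Over (Spec (CommRingCat.of k))) (g : S' ⟶ G), (∃ z : S' ⟶ T, z ≫ t = g) ↔
        ∀ (S'' : Over (Spec (CommRingCat.of k))) (s : S'' ⟶ S') (x : S'' ⟶ X),
          (s ≫ g) * (x ≫ u) * (s ≫ g)⁻¹ = x ≫ v := by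
  haveI hsep : IsSeparated G.hom := GrpSepDiscH4.main5331 (Spec (CommRingCat.of k)) G
  obtain ⟨F, i, hi, h⟩ := exists_closed_eq G X G
    (fst G X * (snd G X ≫ u) * (fst G X)⁻¹) (snd G X ≫ v)
  have key : ∀ (S' : Over (Spec (CommRingCat.of k))) (g : S' ⟶ G),
      ((g ▷ X) ≫ (fst G X * (snd G X ≫ u) * (fst G X)⁻¹) = (g ▷ X) ≫ snd G X ≫ v) ↔
        (fst S' X ≫ g) * (snd S' X ≫ u) * (fst S' X ≫ g)⁻¹ = snd S' X ≫ v := by
    intro S' g
    simp only [MonObj.comp_mul, GrpObj.comp_inv, whiskerRight_fst, whiskerRight_snd_assoc]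
  refine ⟨F, i, hi, fun S' g => (h S' g).trans ((key S' g).trans ⟨?_, ?_⟩)⟩
  · intro e S'' s x
    have := congr(lift s x ≫ $e)
    simp only [MonObj.comp_mul, GrpObj.comp_inv, lift_fst_assoc, lift_snd_assoc] at this
    exact this
  · intro e
    exact e (S' ⊗ X) (fst S' X) (snd S' X)

/-- The fixed locus of a morphism `a : Y ⊗ X ⟶ X` into a separated `X` is closed. -/
theorem fixed_closed (X Y : Over (Spec (CommRingCat.of k))) [IsSeparated X.hom]
    (a : Y ⊗ X ⟶ X) :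
    ∃ (Z : Over (Spec (CommRingCat.of k))) (j : Z ⟶ X), IsClosedImmersion j.left ∧
      ∀ (T : Over (Spec (CommRingCat.of k))) (x : T ⟶ X),
        (∃ z : T ⟶ Z, z ≫ j = x) ↔ (Y ◁ x) ≫ a = snd Y T ≫ x := by
  obtain ⟨F, i, hi, h⟩ := exists_closed_eq X Y X (lift (snd X Y) (fst X Y) ≫ a) (fst X Y)
  refine ⟨F, i, hi, fun T x => (h T x).trans ?_⟩
  have e1 : (x ▷ Y) ≫ lift (snd X Y) (fst X Y) = lift (snd T Y) (fst T Y) ≫ (Y ◁ x) := by
    ext <;> simp
  have σσ : lift (snd Y T) (fst Y T) ≫ lift (snd T Y) (fst T Y) = 𝟙 (Y ⊗ T) := by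
    ext <;> simp
  constructor
  · intro e
    calc (Y ◁ x) ≫ a
        = (lift (snd Y T) (fst Y T) ≫ lift (snd T Y) (fst T Y)) ≫ (Y ◁ x) ≫ a := by
          rw [σσ, Category.id_comp]
      _ = lift (snd Y T) (fst Y T) ≫ ((x ▷ Y) ≫ lift (snd X Y) (fst X Y)) ≫ a := by
          rw [e1]; simp only [Category.assoc]
      _ = lift (snd Y T) (fst Y T) ≫ (x ▷ Y) ≫ fst X Y := by rw [Category.assoc, e]
      _ = snd Y T ≫ x := by rw [whiskerRight_fst, lift_fst_assoc]
  · intro e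
    calc (x ▷ Y) ≫ lift (snd X Y) (fst X Y) ≫ a
        = (lift (snd T Y) (fst T Y) ≫ (Y ◁ x)) ≫ a := by rw [← e1, Category.assoc]
      _ = lift (snd T Y) (fst T Y) ≫ snd Y T ≫ x := by rw [Category.assoc, e]
      _ = (x ▷ Y) ≫ fst X Y := by rw [lift_snd_assoc, whiskerRight_fst]

theorem main18816 (X Y : Over (Spec (CommRingCat.of k))) [IsSeparated X.hom] (a : Y ⊗ X ⟶ X) :
    ∃ (Z : Over (Spec (CommRingCat.of k))) (j : Z ⟶ X), IsClosedImmersion j.left ∧
      (Y ◁ j) ≫ a = snd Y Z ≫ j ∧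
      ∀ (T : Over (Spec (CommRingCat.of k))) (x : T ⟶ X),
        (Y ◁ x) ≫ a = snd Y T ≫ x → ∃ z : T ⟶ Z, z ≫ j = x := by
  obtain ⟨Z, j, hj, h⟩ := fixed_closed X Y a
  exact ⟨Z, j, hj, (h Z j).mp ⟨𝟙 Z, Category.id_comp j⟩, fun T x e => (h T x).mpr e⟩

theorem main7978 (G X : Over (Spec (CommRingCat.of k))) [IsSeparated X.hom] (act : G ⊗ X ⟶ X) :
    ∃ (Z : Over (Spec (CommRingCat.of k))) (incl : Z ⟶ X), IsClosedImmersion incl.left ∧
      ∀ (T : Over (Spec (CommRingCat.of k))) (f : T ⟶ X),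
        (∀ (T' : Over (Spec (CommRingCat.of k))) (t : T' ⟶ T) (g : T' ⟶ G),
          lift g (t ≫ f) ≫ act = t ≫ f) ↔ ∃ f' : T ⟶ Z, f' ≫ incl = f := by
  obtain ⟨Z, j, hj, h⟩ := fixed_closed X G act
  refine ⟨Z, j, hj, fun T f => Iff.trans ⟨?_, ?_⟩ (h T f).symm⟩
  · intro e
    have e1 : G ◁ f = lift (fst G T) (snd G T ≫ f) := by ext <;> simp
    rw [e1]
    exact e (G ⊗ T) (snd G T) (fst G T)
  · intro e T' t g
    have e1 : lift g (t ≫ f) = lift g t ≫ (G ◁ f) := (lift_whiskerLeft g t f).symm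
    rw [e1, Category.assoc, e, lift_snd_assoc]

theorem main18823 (M G X : Over (Spec (CommRingCat.of k))) [IsSeparated X.hom] (a : M ⊗ X ⟶ X)
    (i : G ⟶ M) (hi : i.left.ker = ⊥) (T : Over (Spec (CommRingCat.of k))) (x : T ⟶ X) :
    (M ◁ x) ≫ a = snd M T ≫ x ↔ (G ◁ x) ≫ (i ▷ X) ≫ a = snd G T ≫ x := by
  have ex : (G ◁ x) ≫ (i ▷ X) = (i ▷ T) ≫ (M ◁ x) := whisker_exchange i x
  constructor
  · intro e
    calc (G ◁ x) ≫ (i ▷ X) ≫ a = ((i ▷ T) ≫ (M ◁ x)) ≫ a := by rw [← ex, Category.assoc]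
      _ = (i ▷ T) ≫ snd M T ≫ x := by rw [Category.assoc, e]
      _ = snd G T ≫ x := whiskerRight_snd_assoc i T x
  · intro e
    obtain ⟨F, iF, hiF, h⟩ := exists_closed_eq M T X ((M ◁ x) ≫ a) (snd M T ≫ x)
    have h1 : (i ▷ T) ≫ (M ◁ x) ≫ a = (i ▷ T) ≫ snd M T ≫ x := by
      calc (i ▷ T) ≫ (M ◁ x) ≫ a = ((G ◁ x) ≫ (i ▷ X)) ≫ a := by rw [ex, Category.assoc]
        _ = snd G T ≫ x := by rw [Category.assoc, e]
        _ = (i ▷ T) ≫ snd M T ≫ x := (whiskerRight_snd_assoc i T x).symm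
    obtain ⟨w, hw⟩ := (h G i).mpr h1
    have h2 : iF.left.ker = ⊥ := by
      rw [eq_bot_iff, ← hi, ← hw]
      exact Scheme.Hom.le_ker_comp _ _
    haveI : IsIso iF.left := IsClosedImmersion.isIso_iff_ker_eq_bot.mpr h2
    have h3 := (h M (𝟙 M)).mp ⟨Over.homMk (inv iF.left)
      (by rw [← Over.w iF, IsIso.inv_hom_id_assoc]),
      Over.OverMorphism.ext (by
        show inv iF.left ≫ iF.left = 𝟙 _
        exact IsIso.inv_hom_id _)⟩
    rw [id_whiskerRight, Category.id_comp, Category.id_comp] at h3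
    exact h3

end Apps

end Groth.Agent.Lib.WeilResH4
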