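import Mathlib

set_option autoImplicit false
universe u

namespace Groth.Agent.Lib.CharpolyCoeffFG

open Polynomial TensorProduct Matrix Module

section Core

variable {A : Type u} [CommRing A] {K : Type u} [CommRing K] [Algebra A K]
  {E : Type u} [AddCommGroup E] [Module A E]
  {ι : Type u} [Fintype ι] [DecidableEq ι] (b : Basis ι K (K ⊗[A] E))

/-- the `A`-multilinear map `x ↦ det_b (1 ⊗ x_i)` -/
noncomputable def μ : MultilinearMap A (fun _ : ι => E) K :=
  ((b.det : (K ⊗[A] E) [⋀^ι]→ₗ[K] K).toMultilinearMap.restrictScalars A).compLinearMap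
    (fun _ => TensorProduct.mk A K E 1)

theorem μ_apply (x : ι → E) : μ b x = b.det (fun i => (1 : K) ⊗ₜ[A] x i) := rfl

/-- the `A`-submodule of `K` spanned by the determinants of pure tensors -/
noncomputable def D : Submodule A K := Submodule.span A (Set.range (μ b))

theorem D_fg [Module.Finite A E] : (D b).FG := by
  have hcomp : (⇑(PiTensorProduct.lift (μ b)) ∘ ⇑(PiTensorProduct.tprod A)) = ⇑(μ b) := by
    funext x; exact PiTensorProduct.lift.tprod x
  have h : D b = LinearMap.range (PiTensorProduct.lift (μ b)) := by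
    rw [D, LinearMap.range_eq_map, ← PiTensorProduct.span_tprod_eq_top, Submodule.map_span,
      ← Set.range_comp, hcomp]
  rw [h]
  exact Module.Finite.iff_fg.mp inferInstance

variable (v : E →ₗ[A] E)

/-- The matrix with symbolic columns. -/
noncomputable def G (s : Finset ι) (p : ι → E) : Matrix ι ι K[X] := fun i j =>
  if j ∈ s then X * C (b.repr ((1 : K) ⊗ₜ[A] p j) i) - C (b.repr ((1 : K) ⊗ₜ[A] v (p j)) i)
  else C (b.repr ((1 : K) ⊗ₜ[A] p j) i)

theorem coeff_det_G_mem (s : Finset ι) :
    ∀ (p : ι → E) (k : ℕ), ((G b v s p).det).coeff k ∈ D b := by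
  induction s using Finset.induction_on with
  | empty =>
    intro p k
    have hG : G b v ∅ p =
        (C : K →+* K[X]).mapMatrix (b.toMatrix (fun j => (1 : K) ⊗ₜ[A] p j)) := by
      ext i j; simp [G, Basis.toMatrix_apply]
    rw [hG, ← RingHom.map_det (C : K →+* K[X]), ← Basis.det_apply, Polynomial.coeff_C]
    split_ifs
    · exact Submodule.subset_span ⟨p, rfl⟩
    · exact zero_mem _
  | insert j s hj ih =>
    intro p k
    have hcol : G b v (insert j s) p = (G b v s p).updateCol j
        ((X : K[X]) • (fun i => C (b.repr ((1 : K) ⊗ₜ[A] p j) i)) +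
          (-1 : K[X]) • fun i => C (b.repr ((1 : K) ⊗ₜ[A] v (p j)) i)) := by
      ext i j'
      by_cases h : j' = j
      · subst h
        simp [G, sub_eq_add_neg]
      · simp [G, h, Matrix.updateCol_ne h]
    have hA : (G b v s p).updateCol j (fun i => C (b.repr ((1 : K) ⊗ₜ[A] p j) i)) =
        G b v s p := by
      ext i j'
      by_cases h : j' = j
      · subst h
        simp [G, hj]
      · simp [Matrix.updateCol_ne h]
    have hB : (G b v s p).updateCol j (fun i => C (b.repr ((1 : K) ⊗ₜ[A] v (p j)) i)) =
        G b v s (Function.update p j (v (p j))) := by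
      ext i j'
      by_cases h : j' = j
      · subst h
        simp [G, hj]
      · simp [G, Matrix.updateCol_ne h, Function.update_of_ne h]
    rw [hcol, det_updateCol_add, det_updateCol_smul, det_updateCol_smul, hA, hB,
      Polynomial.coeff_add, neg_one_mul, Polynomial.coeff_neg]
    refine add_mem ?_ (neg_mem (ih _ k))
    cases k with
    | zero => rw [Polynomial.coeff_X_mul_zero]; exact zero_mem _
    | succ k => rw [Polynomial.coeff_X_mul]; exact ih p k

theorem toMatrix_mul_apply (u : (K ⊗[A] E) →ₗ[K] (K ⊗[A] E)) (w : ι → K ⊗[A] E) (i j : ι) :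
    (LinearMap.toMatrix b b u * b.toMatrix w) i j = b.repr (u (w j)) i := by
  have := congrFun (LinearMap.toMatrix_mulVec_repr b b u (w j)) i
  rw [← this]
  rfl

variable [Module.Finite A E] [Module.Free K (K ⊗[A] E)]

theorem coeff_charpoly_mul_mem (p : ι → E) (k : ℕ) :
    ((v.baseChange K).charpoly).coeff k * μ b p ∈ D b := by
  have h1 : (LinearMap.toMatrix b b (v.baseChange K)).charpoly = (v.baseChange K).charpoly :=
    LinearMap.charpoly_toMatrix _ b
  have h2 : (v.baseChange K).charpoly * C (μ b p) = (G b v Finset.univ p).det := by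
    rw [← h1, Matrix.charpoly, μ_apply, Basis.det_apply, RingHom.map_det, ← Matrix.det_mul]
    congr 1
    rw [charmatrix, sub_mul, Matrix.scalar_apply, ← Matrix.smul_eq_diagonal_mul, ← map_mul]
    ext i j
    rw [Matrix.sub_apply, Matrix.smul_apply, RingHom.mapMatrix_apply, RingHom.mapMatrix_apply,
      Matrix.map_apply, Matrix.map_apply, toMatrix_mul_apply, LinearMap.baseChange_tmul]
    simp [G, Basis.toMatrix_apply]
  rw [← Polynomial.coeff_mul_C, h2]
  exact coeff_det_G_mem b v _ p k

theorem main_core [IsNoetherianRing A] (σ : K) (hσ : IsUnit σ) (hσD : σ ∈ D b) :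
    (Algebra.adjoin A {c : K | ∃ (v : E →ₗ[A] E) (j : ℕ),
        c = ((v.baseChange K).charpoly).coeff j}).toSubmodule.FG := by
  let RD : Subalgebra A K :=
    { carrier := {c | ∀ d ∈ D b, c * d ∈ D b}
      mul_mem' := fun {c c'} hc hc' d hd => by rw [mul_assoc]; exact hc _ (hc' d hd)
      one_mem' := fun d hd => by rw [one_mul]; exact hd
      add_mem' := fun {c c'} hc hc' d hd => by rw [add_mul]; exact add_mem (hc d hd) (hc' d hd)
      zero_mem' := fun d hd => by rw [zero_mul]; exact zero_mem _
      algebraMap_mem' := fun a d hd => by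
        rw [← Algebra.smul_def]; exact Submodule.smul_mem _ a hd }
  have hle : Algebra.adjoin A {c : K | ∃ (v : E →ₗ[A] E) (j : ℕ),
      c = ((v.baseChange K).charpoly).coeff j} ≤ RD := by
    apply Algebra.adjoin_le
    rintro c ⟨v, j, rfl⟩ d hd
    have hd' : d ∈ Submodule.span A (Set.range (μ b)) := hd
    clear hd
    induction hd' using Submodule.span_induction with
    | mem d hd => obtain ⟨p, rfl⟩ := hd; exact coeff_charpoly_mul_mem b v p j
    | zero => rw [mul_zero]; exact zero_mem _
    | add d d' _ _ h h' => rw [mul_add]; exact add_mem h h'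
    | smul a d _ h => rw [mul_smul_comm]; exact Submodule.smul_mem _ a h
  have : IsNoetherian A (D b) := isNoetherian_of_fg_of_noetherian (D b) (D_fg b)
  let Φ : RD.toSubmodule →ₗ[A] D b :=
    { toFun := fun c => ⟨c.1 * σ, c.2 σ hσD⟩
      map_add' := fun c c' => Subtype.ext (add_mul _ _ _)
      map_smul' := fun a c => Subtype.ext (smul_mul_assoc _ _ _) }
  have hΦ : Function.Injective Φ := by
    intro c c' h
    have h' : c.1 * σ = c'.1 * σ := congrArg Subtype.val h
    exact Subtype.ext (hσ.mul_left_injective h')
  have : IsNoetherian A RD.toSubmodule := isNoetherian_of_injective Φ hΦ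
  exact isNoetherian_submodule.mp ‹IsNoetherian A RD.toSubmodule› _
    (Subalgebra.toSubmodule.le_iff_le.mpr hle)

end Core

theorem main (A : Type u) [CommRing A] [IsNoetherianRing A] [IsReduced A]
    (E : Type u) [AddCommGroup E] [Module A E] [Module.Finite A E]
    [Module.Free (FractionRing A) (TensorProduct A (FractionRing A) E)] :
    (Algebra.adjoin A {c : FractionRing A | ∃ (v : E →ₗ[A] E) (j : ℕ),
        c = ((v.baseChange (FractionRing A)).charpoly).coeff j}).toSubmodule.FG := by
  classical
  let b := Module.Free.chooseBasis (FractionRing A) (FractionRing A ⊗[A] E)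
  have : IsLocalizedModule (nonZeroDivisors A) (TensorProduct.mk A (FractionRing A) E 1) :=
    (isLocalizedModule_iff_isBaseChange (nonZeroDivisors A) (FractionRing A) _).mpr
      (TensorProduct.isBaseChange A E (FractionRing A))
  choose xs hxs using fun i =>
    IsLocalizedModule.surj (nonZeroDivisors A) (TensorProduct.mk A (FractionRing A) E 1) (b i)
  let t : nonZeroDivisors A := ∏ i, (xs i).2
  have hσ : IsUnit (algebraMap A (FractionRing A) (t : A)) :=
    IsLocalization.map_units (FractionRing A) t
  have hμ : μ b (fun i => (xs i).1) = algebraMap A (FractionRing A) (t : A) := by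
    rw [μ_apply]
    have h3 : (fun i => (1 : FractionRing A) ⊗ₜ[A] (xs i).1) =
        fun i => (algebraMap A (FractionRing A) ((xs i).2 : A)) • b i := by
      funext i
      have h4 := hxs i
      rw [algebraMap_smul, ← Submonoid.smul_def]
      exact h4.symm
    rw [h3, AlternatingMap.map_smul_univ, Basis.det_self, smul_eq_mul, mul_one,
      Submonoid.coe_finsetProd, map_prod]
  exact main_core b _ hσ (hμ ▸ Submodule.subset_span ⟨_, rfl⟩)

end Groth.Agent.Lib.CharpolyCoeffFG
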