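import Mathlib

/-!
# Characteristic polynomial of `x ∈ J·R` over the invariants has coefficients in `J`  (S9260)

`G` finite acting on `R`, `A → R` with `R^G = image of A`.  For `x = ∑ j_k r_k` with `j_k ∈ J`,
we use the generic polynomial `Ξ = ∏_σ (X - ∑_k X_k (σ • r_k))` over `R[X_1..X_n]`; its
coefficients are `G`-invariant (so come from `A[X_1..X_n]`), have no constant term in degree `< |G|`,
and specialise at `X_k ↦ j_k` to the coefficients of `∏_σ (X - σ • x)`.
-/

namespace Groth.Agent.Lib.CharpolyJ

open Polynomial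

universe u

section generic

variable {A R : Type u} (G : Type u) [CommRing A] [CommRing R] [Algebra A R] [Group G] [Fintype G]
  [MulSemiringAction G R] [SMulCommClass G A R] {n : ℕ} (r : Fin n → R)

/-- the generic linear form `∑_k X_k (σ • r_k)`. -/
noncomputable def ell (σ : G) : MvPolynomial (Fin n) R :=
  ∑ k, MvPolynomial.X k * MvPolynomial.C (σ • r k)

/-- the generic characteristic polynomial. -/
noncomputable def Xi : (MvPolynomial (Fin n) R)[X] :=
  ∏ σ : G, (X - C (ell G r σ))

lemma map_ell (g σ : G) :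
    MvPolynomial.map (MulSemiringAction.toRingHom G R g) (ell G r σ) = ell G r (g * σ) := by
  simp only [ell, map_sum, map_mul, MvPolynomial.map_X, MvPolynomial.map_C,
    MulSemiringAction.toRingHom_apply, mul_smul]

lemma map_Xi (g : G) :
    Polynomial.map (MvPolynomial.map (MulSemiringAction.toRingHom G R g)) (Xi G r) = Xi G r := by
  unfold Xi
  rw [Polynomial.map_prod]
  simp only [Polynomial.map_sub, Polynomial.map_X, Polynomial.map_C, map_ell]
  exact Fintype.prod_equiv (Equiv.mulLeft g) _ _ (fun σ => rfl)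

lemma coeff_fixed (g : G) (i : ℕ) (α : Fin n →₀ ℕ) :
    g • MvPolynomial.coeff α ((Xi G r).coeff i) = MvPolynomial.coeff α ((Xi G r).coeff i) := by
  have h := congrArg (fun p => MvPolynomial.coeff α (p.coeff i)) (map_Xi G r g)
  simpa only [Polynomial.coeff_map, MvPolynomial.coeff_map,
    MulSemiringAction.toRingHom_apply] using h

lemma constCoeff_Xi :
    Polynomial.map MvPolynomial.constantCoeff (Xi G r) = X ^ Fintype.card G := by
  have h0 : ∀ σ : G, MvPolynomial.constantCoeff (ell G r σ) = 0 := by
    intro σ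
    simp only [ell, map_sum, map_mul, MvPolynomial.constantCoeff_X, zero_mul,
      Finset.sum_const_zero]
  unfold Xi
  rw [Polynomial.map_prod]
  simp only [Polynomial.map_sub, Polynomial.map_X, Polynomial.map_C, h0, map_zero, sub_zero,
    Finset.prod_const, Finset.card_univ]

lemma coeff_zero_Xi (i : ℕ) (hi : i < Fintype.card G) :
    MvPolynomial.coeff 0 ((Xi G r).coeff i) = 0 := by
  have h := congrArg (fun p => p.coeff i) (constCoeff_Xi G r)
  simp only [Polynomial.coeff_map, coeff_X_pow, if_neg hi.ne] at h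
  rwa [MvPolynomial.constantCoeff_eq] at h

lemma eval_ell (j : Fin n → A) (σ : G) :
    MvPolynomial.eval (fun k => algebraMap A R (j k)) (ell G r σ)
      = σ • ∑ k, algebraMap A R (j k) * r k := by
  simp only [ell, map_sum, map_mul, MvPolynomial.eval_X, MvPolynomial.eval_C, Finset.smul_sum,
    smul_mul', smul_algebraMap]

lemma eval_Xi (j : Fin n → A) :
    Polynomial.map (MvPolynomial.eval (fun k => algebraMap A R (j k))) (Xi G r)
      = ∏ σ : G, (X - C (σ • ∑ k, algebraMap A R (j k) * r k)) := by
  unfold Xi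
  rw [Polynomial.map_prod]
  simp only [Polynomial.map_sub, Polynomial.map_X, Polynomial.map_C, eval_ell]

lemma algebraMap_eval (j : Fin n → A) (p : MvPolynomial (Fin n) A) :
    algebraMap A R (MvPolynomial.eval j p)
      = MvPolynomial.eval (fun k => algebraMap A R (j k))
          (MvPolynomial.map (algebraMap A R) p) := by
  induction p using MvPolynomial.induction_on with
  | C a => simp
  | add p q hp hq => simp [hp, hq]
  | mul_X p k hp => simp [hp]

lemma eval_monomial_mem (J : Ideal A) (j : Fin n → A) (hj : ∀ k, j k ∈ J) (α : Fin n →₀ ℕ)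
    (hα : α ≠ 0) (a : A) :
    MvPolynomial.eval j (MvPolynomial.monomial α a) ∈ J := by
  rw [MvPolynomial.eval_monomial]
  apply Ideal.mul_mem_left
  obtain ⟨k, hk⟩ : ∃ k, α k ≠ 0 := by
    by_contra h
    exact hα (Finsupp.ext fun k => by
      by_contra hk
      exact h ⟨k, hk⟩)
  have hk' : k ∈ α.support := Finsupp.mem_support_iff.mpr hk
  have hdvd : j k ^ α k ∣ α.prod (fun n e => j n ^ e) := by
    rw [Finsupp.prod]
    exact Finset.dvd_prod_of_mem (fun k => j k ^ α k) hk'
  obtain ⟨c, hc⟩ := hdvd
  rw [hc]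
  exact Ideal.mul_mem_right _ _ (Ideal.pow_mem_of_mem J (hj k) _ (Nat.pos_of_ne_zero hk))

lemma eq_of_coeffs {S : Type*} [CommRing S] (T : S[X]) (N : ℕ) (hm : T.Monic)
    (hd : T.natDegree = N) :
    T = X ^ N + ∑ i ∈ Finset.range N, C (T.coeff i) * X ^ i := by
  have := hm.as_sum
  rw [hd] at this
  exact this

end generic

theorem main (A R G : Type u) [CommRing A] [CommRing R] [Algebra A R] [Group G] [Fintype G]
    [MulSemiringAction G R] [SMulCommClass G A R] [Algebra.IsInvariant A R G] (J : Ideal A) (x : R)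
    (hx : x ∈ Ideal.map (algebraMap A R) J) :
    ∃ P : Polynomial A, P.Monic ∧ P.natDegree ≤ Fintype.card G ∧
      (∀ i : ℕ, i < Fintype.card G → P.coeff i ∈ J) ∧
      Polynomial.map (algebraMap A R) P = ∏ σ : G, (Polynomial.X - Polynomial.C (σ • x)) := by
  classical
  have hx2 : x ∈ Submodule.span R ((algebraMap A R) '' (J : Set A)) := hx
  obtain ⟨n, f, g, hsum⟩ := Submodule.mem_span_set'.mp hx2
  have hg : ∀ k, ∃ a, a ∈ J ∧ algebraMap A R a = (g k : R) := fun k => (g k).2
  choose j hjJ hj using hg
  have hx' : x = ∑ k, algebraMap A R (j k) * f k := by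
    rw [← hsum]
    refine Finset.sum_congr rfl (fun k _ => ?_)
    rw [hj k, smul_eq_mul, mul_comm]
  subst hx'
  have hinv : ∀ (i : ℕ) (α : Fin n →₀ ℕ),
      ∃ a : A, algebraMap A R a = MvPolynomial.coeff α ((Xi G f).coeff i) :=
    fun i α => Algebra.IsInvariant.isInvariant (G := G) _ (fun g => coeff_fixed G f g i α)
  choose a ha using hinv
  obtain ⟨c', hc'def⟩ : ∃ c' : ℕ → MvPolynomial (Fin n) A, ∀ i, c' i =
      ∑ α ∈ ((Xi G f).coeff i).support, MvPolynomial.monomial α (a i α) := ⟨_, fun _ => rfl⟩
  have hc' : ∀ i, MvPolynomial.map (algebraMap A R) (c' i) = (Xi G f).coeff i := by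
    intro i
    rw [hc'def]
    simp only [map_sum, MvPolynomial.map_monomial, ha]
    exact MvPolynomial.support_sum_monomial_coeff _
  obtain ⟨pcoef, hpdef⟩ : ∃ pcoef : ℕ → A, ∀ i, pcoef i = MvPolynomial.eval j (c' i) :=
    ⟨_, fun _ => rfl⟩
  have hpJ : ∀ i, i < Fintype.card G → pcoef i ∈ J := by
    intro i hi
    rw [hpdef, hc'def, map_sum]
    refine J.sum_mem (fun α hα => ?_)
    refine eval_monomial_mem J j hjJ α ?_ _
    rintro rfl
    exact (MvPolynomial.mem_support_iff.mp hα) (coeff_zero_Xi G f i hi)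
  have hpmap : ∀ i, algebraMap A R (pcoef i)
      = (∏ σ : G, (X - C (σ • ∑ k, algebraMap A R (j k) * f k)) : R[X]).coeff i := by
    intro i
    rw [← eval_Xi G f j, Polynomial.coeff_map, ← hc' i, hpdef]
    exact algebraMap_eval j (c' i)
  have hdeg : (∑ i ∈ Finset.range (Fintype.card G), C (pcoef i) * X ^ i : A[X]).degree
      < ((Fintype.card G : ℕ) : WithBot ℕ) := by
    refine (Polynomial.degree_sum_le _ _).trans_lt ?_
    refine (Finset.sup_lt_iff (WithBot.bot_lt_coe (Fintype.card G))).mpr (fun i hi => ?_)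
    exact lt_of_le_of_lt (degree_C_mul_X_pow_le i _)
      (by
        first
        | exact WithBot.coe_lt_coe.mpr (Finset.mem_range.mp hi)
        | exact Nat.cast_lt.mpr (Finset.mem_range.mp hi)
        | (simp only [Nat.cast_withBot]; exact WithBot.coe_lt_coe.mpr (Finset.mem_range.mp hi)))
  refine ⟨X ^ (Fintype.card G) + ∑ i ∈ Finset.range (Fintype.card G), C (pcoef i) * X ^ i,
    monic_X_pow_add hdeg,
    natDegree_add_le_of_degree_le (natDegree_X_pow_le _) (natDegree_le_of_degree_le hdeg.le),
    ?_, ?_⟩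
  · intro i hi
    have : (X ^ (Fintype.card G) + ∑ k ∈ Finset.range (Fintype.card G),
        C (pcoef k) * X ^ k : A[X]).coeff i = pcoef i := by
      simp only [coeff_add, coeff_X_pow, if_neg hi.ne, zero_add, finsetSum_coeff,
        coeff_C_mul_X_pow, Finset.sum_ite_eq, Finset.mem_range, if_pos hi]
    rw [this]
    exact hpJ i hi
  · rcases subsingleton_or_nontrivial R with hR | hR
    · exact Subsingleton.elim _ _
    · have hTm : (∏ σ : G, (X - C (σ • ∑ k, algebraMap A R (j k) * f k)) : R[X]).Monic :=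
        monic_prod_of_monic _ _ (fun σ _ => monic_X_sub_C _)
      have hTd : (∏ σ : G, (X - C (σ • ∑ k, algebraMap A R (j k) * f k)) : R[X]).natDegree
          = Fintype.card G := by
        rw [natDegree_prod_of_monic _ _ (fun σ _ => monic_X_sub_C _)]
        simp only [natDegree_X_sub_C, Finset.sum_const, Finset.card_univ, smul_eq_mul, mul_one]
      rw [eq_of_coeffs _ _ hTm hTd]
      simp only [Polynomial.map_add, Polynomial.map_pow, Polynomial.map_X, Polynomial.map_sum,
        Polynomial.map_mul, Polynomial.map_C, hpmap]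

end Groth.Agent.Lib.CharpolyJ
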