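import Mathlib

set_option autoImplicit false
set_option maxHeartbeats 1000000

open Polynomial Matrix

namespace Groth.Agent.Lib.CharpolyPolyH1

universe v

section detAeval

variable {ι κ : Type*} [Fintype ι] [DecidableEq ι] [Fintype κ] [DecidableEq κ]

theorem aeval_X_add_C_det {L : Type*} [CommRing L] (M : Matrix ι ι L) (a : L) :
    (aeval M (X + Polynomial.C a)).det = (-1) ^ Fintype.card ι * M.charpoly.eval (-a) := by
  rw [Matrix.eval_charpoly]
  have h : aeval M (X + Polynomial.C a) = -(Matrix.scalar ι (-a) - M) := by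
    rw [map_add, aeval_X, aeval_C]
    ext i j
    by_cases hij : i = j
    · subst hij
      simp [Matrix.algebraMap_matrix_apply]
    · simp [Matrix.algebraMap_matrix_apply, hij]
  rw [h, Matrix.det_neg]

theorem aeval_C_det {L : Type*} [CommRing L] (M : Matrix ι ι L) (a : L) :
    (aeval M (Polynomial.C a)).det = a ^ Fintype.card ι := by
  rw [aeval_C, Matrix.algebraMap_eq_diagonal, Matrix.det_diagonal]
  simp

/-- The determinant of a split polynomial evaluated at a matrix depends only on the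
characteristic polynomial of the matrix. -/
theorem det_aeval_eq_of_splits {L : Type*} [CommRing L] (hc : Fintype.card ι = Fintype.card κ)
    (A : Matrix ι ι L) (B : Matrix κ κ L)
    (hAB : A.charpoly = B.charpoly) (h : L[X]) (hs : h.Splits) :
    (aeval A h).det = (aeval B h).det := by
  unfold Polynomial.Splits at hs
  refine Submonoid.closure_induction
    (motive := fun x _ => (aeval A x).det = (aeval B x).det) ?_ ?_ ?_ hs
  · intro x hx
    rcases hx with ⟨a, rfl⟩ | ⟨a, rfl⟩
    · rw [aeval_C_det, aeval_C_det, hc]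
    · rw [aeval_X_add_C_det, aeval_X_add_C_det, hAB, hc]
  · simp
  · intro x y _ _ hx hy
    rw [map_mul, map_mul, Matrix.det_mul, Matrix.det_mul, hx, hy]

theorem mapMatrix_aeval {R L : Type*} [CommRing R] [CommRing L] (φ : R →+* L)
    (M : Matrix ι ι R) (h : R[X]) :
    φ.mapMatrix (aeval M h) = aeval (φ.mapMatrix M) (h.map φ) := by
  induction h using Polynomial.induction_on' with
  | add p q hp hq => simp only [map_add, Polynomial.map_add, hp, hq]
  | monomial n a =>
    rw [Polynomial.map_monomial, aeval_monomial, aeval_monomial, map_mul, map_pow]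
    congr 1
    ext i j
    by_cases hij : i = j
    · subst hij
      simp [Matrix.algebraMap_matrix_apply]
    · simp [Matrix.algebraMap_matrix_apply, hij]

/-- Over a domain, `det (h(A))` depends only on the characteristic polynomial of `A`. -/
theorem det_aeval_eq {R : Type*} [CommRing R] [IsDomain R] (hc : Fintype.card ι = Fintype.card κ)
    (A : Matrix ι ι R) (B : Matrix κ κ R)
    (hAB : A.charpoly = B.charpoly) (h : R[X]) :
    (aeval A h).det = (aeval B h).det := by
  let L := AlgebraicClosure (FractionRing R)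
  let φ : R →+* L := (algebraMap (FractionRing R) L).comp (algebraMap R (FractionRing R))
  have hφ : Function.Injective φ :=
    (algebraMap (FractionRing R) L).injective.comp (IsFractionRing.injective R (FractionRing R))
  apply hφ
  have keyA : φ (aeval A h).det = (aeval (φ.mapMatrix A) (h.map φ)).det := by
    rw [RingHom.map_det, mapMatrix_aeval]
  have keyB : φ (aeval B h).det = (aeval (φ.mapMatrix B) (h.map φ)).det := by
    rw [RingHom.map_det, mapMatrix_aeval]
  rw [keyA, keyB]
  apply det_aeval_eq_of_splits hc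
  · rw [RingHom.mapMatrix_apply, RingHom.mapMatrix_apply, Matrix.charpoly_map,
      Matrix.charpoly_map, hAB]
  · exact IsAlgClosed.splits _

theorem charpoly_sq_eq_det {R : Type*} [CommRing R] (M : Matrix ι ι R) :
    ((M - 1) ^ 2).charpoly =
      (aeval ((Polynomial.C : R →+* R[X]).mapMatrix M)
        (Polynomial.C (X : R[X]) - (X - 1) ^ 2 : R[X][X])).det := by
  rw [Matrix.charpoly, Matrix.charmatrix]
  congr 1
  simp only [map_sub, map_pow, map_one, aeval_X, aeval_C]
  congr 1

/-- Over a domain, the characteristic polynomial of `(A - 1)^2` depends only on that of `A`. -/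
theorem charpoly_sq_eq {R : Type*} [CommRing R] [IsDomain R]
    (hc : Fintype.card ι = Fintype.card κ)
    (A : Matrix ι ι R) (B : Matrix κ κ R) (hAB : A.charpoly = B.charpoly) :
    ((A - 1) ^ 2).charpoly = ((B - 1) ^ 2).charpoly := by
  rw [charpoly_sq_eq_det, charpoly_sq_eq_det]
  apply det_aeval_eq hc
  rw [RingHom.mapMatrix_apply, RingHom.mapMatrix_apply, Matrix.charpoly_map,
    Matrix.charpoly_map, hAB]

end detAeval

section companion

/-- The companion matrix of a monic integer polynomial: multiplication by the root on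
`ℤ[X]/(f)` in the power basis. -/
noncomputable def comp (f : ℤ[X]) (hf : f.Monic) :
    Matrix (Fin (AdjoinRoot.powerBasis' hf).dim) (Fin (AdjoinRoot.powerBasis' hf).dim) ℤ :=
  Algebra.leftMulMatrix (AdjoinRoot.powerBasis' hf).basis (AdjoinRoot.root f)

theorem comp_charpoly (f : ℤ[X]) (hf : f.Monic) : (comp f hf).charpoly = f := by
  have h1 := charpoly_leftMulMatrix (AdjoinRoot.powerBasis' hf)
  rw [AdjoinRoot.powerBasis'_gen] at h1
  rw [comp, h1]
  symm
  apply minpoly.unique' ℤ (AdjoinRoot.root f) hf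
  · rw [AdjoinRoot.aeval_eq, AdjoinRoot.mk_self]
  · intro q hq
    by_contra hcon
    push Not at hcon
    obtain ⟨hq0, hq1⟩ := hcon
    rw [AdjoinRoot.aeval_eq, AdjoinRoot.mk_eq_zero] at hq1
    exact hq0 (Polynomial.eq_zero_of_dvd_of_degree_lt hq1 hq)

theorem comp_aeval (f : ℤ[X]) (hf : f.Monic) (K : Type v) [CommRing K] (α : K)
    (hα : aeval α f = 0) :
    aeval ((α - 1) ^ 2) ((comp f hf - 1) ^ 2).charpoly = 0 := by
  set b := (AdjoinRoot.powerBasis' hf).basis with hb
  set x : AdjoinRoot f := (AdjoinRoot.root f - 1) ^ 2 with hx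
  have e1 : (comp f hf - 1) ^ 2 = Algebra.leftMulMatrix b x := by
    rw [hx, map_pow, map_sub, map_one]
    rfl
  rw [e1]
  have h0 : aeval x (Algebra.leftMulMatrix b x).charpoly = 0 := by
    apply Algebra.leftMulMatrix_injective b
    rw [map_zero, ← Polynomial.aeval_algHom_apply, Matrix.aeval_self_charpoly]
  have hα' : f.eval₂ (algebraMap ℤ K) α = 0 := by rw [← aeval_def]; exact hα
  let ψ : AdjoinRoot f →ₐ[ℤ] K := (AdjoinRoot.lift (algebraMap ℤ K) α hα').toIntAlgHom
  have hψ : ψ x = (α - 1) ^ 2 := by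
    rw [hx, map_pow, map_sub, map_one]
    congr 2
    exact AdjoinRoot.lift_root hα'
  rw [← hψ, Polynomial.aeval_algHom_apply, h0, map_zero]

end companion

section padic

theorem int_dvd_of_padic (N : ℕ) (hN : 0 < N) (c : ℤ)
    (h : ∀ (ℓ : ℕ) [Fact ℓ.Prime], ℓ ∣ N → ((N : ℤ_[ℓ]) ∣ (c : ℤ_[ℓ]))) : (N : ℤ) ∣ c := by
  by_cases hc : c = 0
  · rw [hc]; exact dvd_zero _
  rw [Int.natCast_dvd]
  have hc' : c.natAbs ≠ 0 := Int.natAbs_ne_zero.mpr hc
  rw [← Nat.factorization_prime_le_iff_dvd hN.ne' hc']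
  intro p hp
  have : Fact p.Prime := ⟨hp⟩
  by_cases hpN : p ∣ N
  · have h1 := h p hpN
    have h2 : p ^ N.factorization p ∣ N := Nat.ordProj_dvd N p
    have h3 : ((p : ℤ_[p])) ^ N.factorization p ∣ (N : ℤ_[p]) := by
      have := map_dvd (Nat.castRingHom ℤ_[p]) h2
      simpa using this
    have h4 := h3.trans h1
    rw [PadicInt.pow_p_dvd_int_iff] at h4
    have h5 : p ^ N.factorization p ∣ c.natAbs := by
      rw [← Int.natCast_dvd]
      exact_mod_cast h4
    exact (hp.pow_dvd_iff_le_factorization hc').mp h5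
  · rw [Nat.factorization_eq_zero_of_not_dvd hpN]
    exact Nat.zero_le _

end padic

section integrality

theorem isIntegral_div_of_coeff_dvd {K : Type v} [Field K] [CharZero K] (n : ℕ) (hn : 0 < n)
    (G : ℤ[X]) (hG : G.Monic) (hdiv : ∀ k, ((n : ℤ) ^ (G.natDegree - k)) ∣ G.coeff k)
    (γ : K) (hγ : aeval γ G = 0) : IsIntegral ℤ (γ / (n : K)) := by
  choose q hq using hdiv
  obtain ⟨d, hd⟩ : ∃ d, d = G.natDegree := ⟨_, rfl⟩
  rw [← hd] at hq
  let P : ℤ[X] := ∑ k ∈ Finset.range d, Polynomial.C (q k) * X ^ k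
  have hPdeg : P.degree < d := by
    refine (Polynomial.degree_sum_le _ _).trans_lt ?_
    rw [Finset.sup_lt_iff (by exact WithBot.bot_lt_coe d)]
    intro k hk
    exact (Polynomial.degree_C_mul_X_pow_le k (q k)).trans_lt
      (by exact_mod_cast Finset.mem_range.mp hk)
  have hHm : (X ^ d + P).Monic := Polynomial.monic_X_pow_add hPdeg
  have hn0 : (n : K) ≠ 0 := Nat.cast_ne_zero.mpr hn.ne'
  have key : (n : K) ^ d * aeval (γ / (n : K)) (X ^ d + P) = aeval γ G := by
    conv_rhs => rw [hG.as_sum, ← hd]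
    simp only [P, map_add, map_sum, map_mul, map_pow, aeval_X, aeval_C, Finset.mul_sum, mul_add]
    congr 1
    · rw [div_pow]; field_simp
    · apply Finset.sum_congr rfl
      intro k hk
      have hk' : k < d := Finset.mem_range.mp hk
      rw [hq k]
      have h1 : (n : K) ^ d = (n : K) ^ (d - k) * (n : K) ^ k := by
        rw [← pow_add, Nat.sub_add_cancel hk'.le]
      rw [h1, div_pow]
      push_cast
      field_simp
  refine ⟨X ^ d + P, hHm, ?_⟩
  rw [← aeval_def]
  have h2 : (n : K) ^ d * aeval (γ / (n : K)) (X ^ d + P) = 0 := by rw [key, hγ]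
  exact (mul_eq_zero.mp h2).resolve_left (pow_ne_zero _ hn0)

end integrality

theorem main (n : ℕ) (hn : 0 < n) (g : ℕ) (f : Polynomial ℤ)
    (hf : f.Monic)
    (hA : ∀ (ℓ : ℕ) [Fact ℓ.Prime], ℓ ∣ n → ∃ A : Matrix (Fin g) (Fin g) ℤ_[ℓ],
      A.charpoly = f.map (Int.castRingHom ℤ_[ℓ]) ∧
        ∃ B : Matrix (Fin g) (Fin g) ℤ_[ℓ], (A - 1) ^ 2 = (n : ℤ_[ℓ]) • B)
    (K : Type v) [Field K] [CharZero K] (α s : K) (hα : Polynomial.aeval α f = 0)
    (hs : s ^ 2 = (n : K)) :
    IsIntegral ℤ ((α - 1) / s) := by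
  refine IsIntegral.of_pow (n := 2) (by norm_num) ?_
  rw [div_pow, hs]
  obtain ⟨G, hGdef⟩ : ∃ G, G = ((comp f hf - 1) ^ 2).charpoly := ⟨_, rfl⟩
  have hGm : G.Monic := by rw [hGdef]; exact Matrix.charpoly_monic _
  have hGd : G.natDegree = f.natDegree := by
    rw [hGdef, Matrix.charpoly_natDegree_eq_dim, Fintype.card_fin, AdjoinRoot.powerBasis'_dim]
  have hGα : aeval ((α - 1) ^ 2) G = 0 := by rw [hGdef]; exact comp_aeval f hf K α hα
  refine isIntegral_div_of_coeff_dvd n hn G hGm ?_ _ hGα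
  intro k
  have hmain := int_dvd_of_padic (n ^ (G.natDegree - k)) (pow_pos hn _) (G.coeff k) ?_
  · exact_mod_cast hmain
  intro ℓ _ hℓ
  have hℓn : ℓ ∣ n := (Fact.out : ℓ.Prime).dvd_of_dvd_pow hℓ
  obtain ⟨A, hAf, B, hAB⟩ := hA ℓ hℓn
  have hg : g = f.natDegree := by
    have h1 := congrArg Polynomial.natDegree hAf
    rw [Matrix.charpoly_natDegree_eq_dim, Fintype.card_fin, hf.natDegree_map] at h1
    exact h1
  have hc : Fintype.card (Fin g) = Fintype.card (Fin (AdjoinRoot.powerBasis' hf).dim) := by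
    rw [Fintype.card_fin, Fintype.card_fin, AdjoinRoot.powerBasis'_dim, hg]
  have h1 : G.map (Int.castRingHom ℤ_[ℓ]) = ((A - 1) ^ 2).charpoly := by
    rw [hGdef, ← Matrix.charpoly_map]
    have e : ((comp f hf - 1) ^ 2).map (Int.castRingHom ℤ_[ℓ]) =
        ((comp f hf).map (Int.castRingHom ℤ_[ℓ]) - 1) ^ 2 := by
      have := map_pow (Int.castRingHom ℤ_[ℓ]).mapMatrix (comp f hf - 1) 2
      rw [map_sub, map_one] at this
      exact this
    rw [e]
    symm
    apply charpoly_sq_eq hc
    rw [hAf, Matrix.charpoly_map, comp_charpoly]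
  have h2 : ((A - 1) ^ 2).charpoly.coeff k ∈ (Ideal.span {(n : ℤ_[ℓ])}) ^ (g - k) := by
    have := Matrix.coeff_charpoly_mem_ideal_pow (M := (A - 1) ^ 2)
      (I := Ideal.span {(n : ℤ_[ℓ])}) ?_ k
    · simpa using this
    intro i j
    rw [hAB, Matrix.smul_apply, smul_eq_mul]
    exact Ideal.mul_mem_right _ _ (Ideal.subset_span rfl)
  rw [Ideal.span_singleton_pow, Ideal.mem_span_singleton, ← h1, Polynomial.coeff_map] at h2
  rw [hGd, ← hg]
  push_cast
  exact h2

end Groth.Agent.Lib.CharpolyPolyH1
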