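import Mathlib

/-!
# `-T P'(T) = P(T) * Σ_{n ≥ 1} Tr(A^n) T^n` for `P = det(1 - A T)` (S3134)
-/

namespace Groth.Agent.Lib.LogDerivCharpolyRev

open Polynomial

variable {R : Type*} [CommRing R] {m : Type*} [Fintype m] [DecidableEq m] (A : Matrix m m R)

/-- geometric series matrix `Σ A^n T^n` -/
noncomputable def G : Matrix m m (PowerSeries R) :=
  Matrix.of fun i j => PowerSeries.mk fun n => (A ^ n) i j

/-- `1 - T A` -/
noncomputable def Nn : Matrix m m (PowerSeries R) :=
  1 - (PowerSeries.X : PowerSeries R) • A.map PowerSeries.C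

lemma N_mul_G : Nn A * G A = 1 := by
  refine Matrix.ext fun i j => ?_
  rw [Nn, Matrix.sub_mul, Matrix.one_mul, Matrix.smul_mul, Matrix.sub_apply, Matrix.smul_apply,
    Matrix.mul_apply, smul_eq_mul]
  ext n
  simp only [map_sub, G, Matrix.of_apply, PowerSeries.coeff_mk, Matrix.map_apply]
  cases n with
  | zero =>
    rw [PowerSeries.coeff_zero_X_mul, sub_zero, pow_zero, Matrix.one_apply, Matrix.one_apply]
    split_ifs <;> simp
  | succ n =>
    rw [PowerSeries.coeff_succ_X_mul, map_sum]
    simp only [PowerSeries.coeff_C_mul, PowerSeries.coeff_mk]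
    rw [pow_succ', Matrix.mul_apply, sub_self, Matrix.one_apply]
    split_ifs <;> simp [PowerSeries.coeff_one]

lemma trace_G_mul :
    Matrix.trace (G A * A.map PowerSeries.C) = PowerSeries.mk fun n => (A ^ (n + 1)).trace := by
  ext n
  simp only [Matrix.trace, Matrix.diag_apply, map_sum, Matrix.mul_apply, G, Matrix.of_apply,
    Matrix.map_apply, PowerSeries.coeff_mk]
  apply Finset.sum_congr rfl
  intro i _
  rw [pow_succ, Matrix.mul_apply]
  apply Finset.sum_congr rfl
  intro k _
  rw [mul_comm, PowerSeries.coeff_C_mul, PowerSeries.coeff_mk, mul_comm]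

lemma det_Nn : (Nn A).det = ((A.charpolyRev : R[X]) : PowerSeries R) := by
  rw [← Polynomial.coeToPowerSeries.ringHom_apply, Matrix.charpolyRev, RingHom.map_det]
  congr 1
  refine Matrix.ext fun i j => ?_
  by_cases h : i = j
  · subst h
    simp [Nn]
    ring
  · simp [Nn, h]
    ring

/-- the substitution `X ↦ S + T` -/
noncomputable def psi : R[X] →+* (PowerSeries R)[X] :=
  Polynomial.eval₂RingHom (Polynomial.C.comp PowerSeries.C)
    (Polynomial.X + Polynomial.C PowerSeries.X)

lemma psi_eq_taylor (q : R[X]) :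
    psi q = Polynomial.taylor PowerSeries.X (q.map PowerSeries.C) := by
  rw [Polynomial.taylor_apply, Polynomial.comp, Polynomial.eval₂_map]
  rfl

lemma psi_coeff_one (q : R[X]) :
    (psi q).coeff 1 = ((Polynomial.derivative q : R[X]) : PowerSeries R) := by
  rw [psi_eq_taylor, Polynomial.taylor_coeff_one, Polynomial.derivative_map, Polynomial.eval_map,
    Polynomial.eval₂_C_X_eq_coe]

lemma key_factor :
    (psi (R := R)).mapMatrix (1 - (X : R[X]) • A.map C)
      = (C : PowerSeries R →+* (PowerSeries R)[X]).mapMatrix (Nn A)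
        * (1 + (X : (PowerSeries R)[X]) • (-(G A * A.map PowerSeries.C)).map C) := by
  have h1 : (C : PowerSeries R →+* (PowerSeries R)[X]).mapMatrix (Nn A)
        * (1 + (X : (PowerSeries R)[X]) • (-(G A * A.map PowerSeries.C)).map C)
      = (C : PowerSeries R →+* (PowerSeries R)[X]).mapMatrix (Nn A)
        - (X : (PowerSeries R)[X]) •
          (C : PowerSeries R →+* (PowerSeries R)[X]).mapMatrix (A.map PowerSeries.C) := by
    have h2 : (-(G A * A.map PowerSeries.C)).map (C : PowerSeries R →+* (PowerSeries R)[X])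
        = - ((C : PowerSeries R →+* (PowerSeries R)[X]).mapMatrix (G A)
          * (C : PowerSeries R →+* (PowerSeries R)[X]).mapMatrix (A.map PowerSeries.C)) := by
      rw [← map_mul, ← map_neg]
      rfl
    rw [h2, Matrix.mul_add, Matrix.mul_one, Matrix.mul_smul, Matrix.mul_neg, ← Matrix.mul_assoc,
      ← map_mul, N_mul_G, map_one, Matrix.one_mul, smul_neg, sub_eq_add_neg]
  rw [h1]
  refine Matrix.ext fun i j => ?_
  by_cases h : i = j
  · subst h
    simp [psi, Nn]
    ring
  · simp [psi, Nn, h]
    ring

theorem main (R : Type) [CommRing R] (m : Type) [Fintype m] [DecidableEq m]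
    (A : Matrix m m R) :
    ((-(X * Polynomial.derivative A.charpolyRev) : R[X]) : PowerSeries R) =
      (A.charpolyRev : PowerSeries R) *
        PowerSeries.mk (fun n => if n = 0 then 0 else (A ^ n).trace) := by
  have h1 : psi A.charpolyRev = C (Nn A).det *
      (1 + Matrix.trace (-(G A * A.map PowerSeries.C)) • X
        + (Matrix.det (1 + (X : (PowerSeries R)[X]) •
            (-(G A * A.map PowerSeries.C)).map C)).divX.divX * X ^ 2) := by
    rw [Matrix.charpolyRev, RingHom.map_det, key_factor, Matrix.det_mul, ← RingHom.map_det,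
      ← Matrix.det_one_add_X_smul]
  have h2 := congrArg (fun q => q.coeff 1) h1
  simp only [psi_coeff_one] at h2
  rw [Polynomial.coeff_C_mul] at h2
  have h3 : ((1 : (PowerSeries R)[X]) + Matrix.trace (-(G A * A.map PowerSeries.C)) • X
        + (Matrix.det (1 + (X : (PowerSeries R)[X]) •
            (-(G A * A.map PowerSeries.C)).map C)).divX.divX * X ^ 2).coeff 1
      = Matrix.trace (-(G A * A.map PowerSeries.C)) := by
    simp [Polynomial.coeff_one, Polynomial.coeff_X, Polynomial.coeff_mul_X_pow']
  rw [h3, Matrix.trace_neg, trace_G_mul, det_Nn] at h2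
  rw [← Polynomial.coeToPowerSeries.ringHom_apply, map_neg, map_mul,
    Polynomial.coeToPowerSeries.ringHom_apply, Polynomial.coeToPowerSeries.ringHom_apply,
    Polynomial.coe_X, h2]
  have h4 : (PowerSeries.mk fun n => if n = 0 then 0 else (A ^ n).trace)
      = PowerSeries.X * PowerSeries.mk fun n => (A ^ (n + 1)).trace := by
    ext n
    cases n with
    | zero => simp
    | succ n => rw [PowerSeries.coeff_succ_X_mul]; simp
  rw [h4]
  ring

end Groth.Agent.Lib.LogDerivCharpolyRev

namespace Groth.Agent.Lib.LogDerivCharpolyRev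

open Polynomial

/-- universe-polymorphic version of `main` -/
theorem main' {R : Type*} [CommRing R] {m : Type*} [Fintype m] [DecidableEq m]
    (A : Matrix m m R) :
    ((-(X * Polynomial.derivative A.charpolyRev) : R[X]) : PowerSeries R) =
      (A.charpolyRev : PowerSeries R) *
        PowerSeries.mk (fun n => if n = 0 then 0 else (A ^ n).trace) := by
  have h1 : psi A.charpolyRev = C (Nn A).det *
      (1 + Matrix.trace (-(G A * A.map PowerSeries.C)) • X
        + (Matrix.det (1 + (X : (PowerSeries R)[X]) •
            (-(G A * A.map PowerSeries.C)).map C)).divX.divX * X ^ 2) := by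
    rw [Matrix.charpolyRev, RingHom.map_det, key_factor, Matrix.det_mul, ← RingHom.map_det,
      ← Matrix.det_one_add_X_smul]
  have h2 := congrArg (fun q => q.coeff 1) h1
  simp only [psi_coeff_one] at h2
  rw [Polynomial.coeff_C_mul] at h2
  have h3 : ((1 : (PowerSeries R)[X]) + Matrix.trace (-(G A * A.map PowerSeries.C)) • X
        + (Matrix.det (1 + (X : (PowerSeries R)[X]) •
            (-(G A * A.map PowerSeries.C)).map C)).divX.divX * X ^ 2).coeff 1
      = Matrix.trace (-(G A * A.map PowerSeries.C)) := by
    simp [Polynomial.coeff_one, Polynomial.coeff_X, Polynomial.coeff_mul_X_pow']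
  rw [h3, Matrix.trace_neg, trace_G_mul, det_Nn] at h2
  rw [← Polynomial.coeToPowerSeries.ringHom_apply, map_neg, map_mul,
    Polynomial.coeToPowerSeries.ringHom_apply, Polynomial.coeToPowerSeries.ringHom_apply,
    Polynomial.coe_X, h2]
  have h4 : (PowerSeries.mk fun n => if n = 0 then 0 else (A ^ n).trace)
      = PowerSeries.X * PowerSeries.mk fun n => (A ^ (n + 1)).trace := by
    ext n
    cases n with
    | zero => simp
    | succ n => rw [PowerSeries.coeff_succ_X_mul]; simp
  rw [h4]
  ring

end Groth.Agent.Lib.LogDerivCharpolyRev
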