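import Mathlib
import Groth.Agent.Lib.LogDerivCharpolyRev_helper1

/-!
# `det(1 - tM) = exp(-Σ tr(M^m) t^m / m)` (S13056)
-/

universe u v

namespace Groth.Agent.Lib.CharpolyRevExp

open PowerSeries

lemma unique_of_logDeriv {K : Type*} [Field K] [CharZero K] (F G S : PowerSeries K)
    (h0 : constantCoeff F = constantCoeff G) (hS : constantCoeff S = 0)
    (hF : X * d⁄dX K F = F * S) (hG : X * d⁄dX K G = G * S) : F = G := by
  have hH : X * d⁄dX K (F - G) = (F - G) * S := by rw [map_sub, mul_sub, hF, hG, sub_mul]
  have h00 : constantCoeff (F - G) = 0 := by rw [map_sub, h0, sub_self]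
  suffices h : F - G = 0 from sub_eq_zero.mp h
  generalize F - G = H at hH h00
  ext n
  induction n using Nat.strong_induction_on with
  | _ n ih =>
    rw [map_zero]
    cases n with
    | zero => rw [coeff_zero_eq_constantCoeff_apply]; exact h00
    | succ n =>
      have h1 := congrArg (coeff (n + 1)) hH
      rw [coeff_succ_X_mul, coeff_derivative, coeff_mul] at h1
      have h2 : ∑ x ∈ Finset.HasAntidiagonal.antidiagonal (n + 1), coeff x.1 H * coeff x.2 S = 0 := by
        apply Finset.sum_eq_zero
        intro x hx
        rw [Finset.HasAntidiagonal.mem_antidiagonal] at hx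
        by_cases hx1 : x.1 < n + 1
        · rw [ih x.1 hx1, map_zero, zero_mul]
        · have : x.2 = 0 := by omega
          rw [this, coeff_zero_eq_constantCoeff_apply, hS, mul_zero]
      rw [h2] at h1
      have h3 : ((n : K) + 1) ≠ 0 := by exact_mod_cast Nat.succ_ne_zero n
      exact (mul_eq_zero.mp h1).resolve_right h3

theorem main {K : Type u} [Field K] [CharZero K]
    {n : Type v} [Fintype n] [DecidableEq n] (M : Matrix n n K) :
    ((M.charpolyRev : Polynomial K) : PowerSeries K) =
      PowerSeries.subst (PowerSeries.mk fun m : ℕ => -(Matrix.trace (M ^ m)) / (m : K))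
        (PowerSeries.exp K) := by
  set g : PowerSeries K := PowerSeries.mk fun m : ℕ => -(Matrix.trace (M ^ m)) / (m : K) with hg
  set S : PowerSeries K := -PowerSeries.mk (fun m => if m = 0 then 0 else (M ^ m).trace) with hS
  have hg0 : constantCoeff g = 0 := by
    rw [← coeff_zero_eq_constantCoeff_apply, hg, coeff_mk]
    simp
  have hsub : HasSubst g := HasSubst.of_constantCoeff_zero' hg0
  apply unique_of_logDeriv _ _ S
  · have h1 : constantCoeff ((M.charpolyRev : Polynomial K) : PowerSeries K) = 1 := by
      rw [← coeff_zero_eq_constantCoeff_apply, Polynomial.coeff_coe,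
        Polynomial.coeff_zero_eq_eval_zero, Matrix.eval_charpolyRev]
    have h2 : constantCoeff (PowerSeries.subst g (PowerSeries.exp K)) = 1 := by
      have e : PowerSeries.exp K = 1 + (PowerSeries.exp K - 1) := by ring
      rw [e, subst_add hsub, map_add]
      have e1 : PowerSeries.subst g (1 : PowerSeries K) = 1 := by
        rw [← coe_substAlgHom hsub, map_one]
      have e2 : constantCoeff (PowerSeries.subst g (PowerSeries.exp K - 1)) = 0 :=
        constantCoeff_subst_eq_zero hg0 _ (by rw [map_sub, constantCoeff_exp, map_one, sub_self])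
      rw [e1, e2, map_one, add_zero]
    rw [h1, h2]
  · rw [hS, map_neg, ← coeff_zero_eq_constantCoeff_apply, coeff_mk]
    simp
  · rw [derivative_coe]
    have h1 := Groth.Agent.Lib.LogDerivCharpolyRev.main' M
    rw [← Polynomial.coeToPowerSeries.ringHom_apply, map_neg, map_mul,
      Polynomial.coeToPowerSeries.ringHom_apply, Polynomial.coeToPowerSeries.ringHom_apply,
      Polynomial.coe_X] at h1
    rw [hS, mul_neg, ← h1, neg_neg]
  · rw [derivative_subst hsub, derivative_exp]
    have h1 : X * d⁄dX K g = S := by
      ext m
      cases m with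
      | zero =>
        rw [coeff_zero_X_mul, hS, map_neg, coeff_mk]
        simp
      | succ m =>
        rw [coeff_succ_X_mul, coeff_derivative, hg, hS, coeff_mk, map_neg, coeff_mk,
          if_neg (Nat.succ_ne_zero m)]
        have h3 : ((m + 1 : ℕ) : K) ≠ 0 := by exact_mod_cast Nat.succ_ne_zero m
        push_cast at h3 ⊢
        field_simp
    rw [← h1]
    ring

end Groth.Agent.Lib.CharpolyRevExp
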