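import Mathlib

/-! Characteristic polynomials: multiplicativity along an invariant submodule, divisibility for quotients. -/

namespace Groth.Agent.Lib.Charpoly_helper3

open Module Polynomial

section
variable {R V : Type*} [CommRing R] [AddCommGroup V] [Module R V] [Module.Finite R V] [Module.Free R V]
    (W : Submodule R V) [Module.Free R W] [Module.Finite R W] [Module.Free R (V ⧸ W)]

open Module.Basis in
theorem charpoly_eq_restrict_mul_mapQ (e : V →ₗ[R] V) (he : W ≤ W.comap e) :
    e.charpoly = (e.restrict he).charpoly * (W.mapQ W e he).charpoly := by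
  classical
  let m := Module.Free.ChooseBasisIndex R W
  let bW : Basis m R W := Module.Free.chooseBasis R W
  let n := Module.Free.ChooseBasisIndex R (V ⧸ W)
  let bQ : Basis n R (V ⧸ W) := Module.Free.chooseBasis R (V ⧸ W)
  let b := sumQuot bW bQ
  let A : Matrix m m R := LinearMap.toMatrix bW bW (e.restrict he)
  let B : Matrix m n R := Matrix.of fun i l ↦
    ((sumQuot bW bQ).repr (e ((sumQuot bW bQ) (Sum.inr l)))) (Sum.inl i)
  let D : Matrix n n R := LinearMap.toMatrix bQ bQ (W.mapQ W e he)
  suffices LinearMap.toMatrix b b e = Matrix.fromBlocks A B 0 D by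
    rw [← LinearMap.charpoly_toMatrix e b, this, ← LinearMap.charpoly_toMatrix (e.restrict he) bW,
      ← LinearMap.charpoly_toMatrix (W.mapQ W e he) bQ, Matrix.charpoly_fromBlocks_zero₂₁]
  ext u v
  cases u with
  | inl i =>
    cases v with
    | inl k =>
      simp only [b, sumQuot_inl, Matrix.fromBlocks_apply₁₁, A, LinearMap.toMatrix_apply]
      apply sumQuot_repr_inl_of_mem
    | inr l => simp [b, LinearMap.toMatrix_apply, Matrix.fromBlocks_apply₁₂, B]
  | inr j =>
    cases v with
    | inl k =>
      suffices W.mkQ (e (bW k)) = 0 by simp [LinearMap.toMatrix_apply, b, this]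
      rw [← LinearMap.mem_ker, Submodule.ker_mkQ]
      exact he (Submodule.coe_mem (bW k))
    | inr l =>
      simp only [LinearMap.toMatrix_apply, sumQuot_repr_inr,
        Matrix.fromBlocks_apply₂₂, b, D]
      rw [← sumQuot_inr bW bQ l, W.mapQ_apply]
      simp
end

/-- Over a field, the characteristic polynomial of a quotient endomorphism divides that of the endomorphism. -/
theorem charpoly_dvd_of_surjective {K V W : Type*} [Field K] [AddCommGroup V] [Module K V] [FiniteDimensional K V]
    [AddCommGroup W] [Module K W] [FiniteDimensional K W] (p : V →ₗ[K] W) (hp : Function.Surjective p)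
    (φ : V →ₗ[K] V) (ψ : W →ₗ[K] W) (h : p ∘ₗ φ = ψ ∘ₗ p) : ψ.charpoly ∣ φ.charpoly := by
  have hx : ∀ x, p (φ x) = ψ (p x) := fun x => LinearMap.congr_fun h x
  have he : LinearMap.ker p ≤ (LinearMap.ker p).comap φ := by
    intro x hx'
    rw [Submodule.mem_comap, LinearMap.mem_ker, hx, LinearMap.mem_ker.mp hx', map_zero]
  rw [charpoly_eq_restrict_mul_mapQ (LinearMap.ker p) φ he]
  have hconj : (p.quotKerEquivOfSurjective hp).conj ((LinearMap.ker p).mapQ _ φ he) = ψ := by
    apply LinearMap.ext
    intro w
    obtain ⟨q, rfl⟩ := (p.quotKerEquivOfSurjective hp).surjective w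
    induction q using Submodule.Quotient.induction_on with
    | H x =>
      rw [LinearEquiv.conj_apply_apply, LinearEquiv.symm_apply_apply, Submodule.mapQ_apply,
        LinearMap.quotKerEquivOfSurjective_apply_mk, LinearMap.quotKerEquivOfSurjective_apply_mk, hx]
  rw [← hconj, LinearEquiv.charpoly_conj]
  exact dvd_mul_left _ _

/-- The coefficients of the characteristic polynomial of `u ⊗ K` are integral. -/
theorem isIntegral_charpoly_baseChange_coeff (A : Type*) [CommRing A] [IsDomain A] (K : Type*) [Field K]
    [Algebra A K] [IsFractionRing A K] (E : Type*) [AddCommGroup E] [Module A E] [Module.Finite A E]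
    (u : E →ₗ[A] E) (i : ℕ) : IsIntegral A (((u.baseChange K).charpoly).coeff i) := by
  obtain ⟨n, π, hπ⟩ := Module.Finite.exists_fin' A E
  obtain ⟨v, hv⟩ := Module.projective_lifting_property π (u ∘ₗ π) hπ
  have hp : Function.Surjective (π.baseChange K) := by
    rw [LinearMap.baseChange_eq_ltensor]
    exact LinearMap.lTensor_surjective _ hπ
  have hcomm : (π.baseChange K) ∘ₗ (v.baseChange K) = (u.baseChange K) ∘ₗ (π.baseChange K) := by
    rw [← LinearMap.baseChange_comp, ← LinearMap.baseChange_comp, hv]
  have hd : (u.baseChange K).charpoly ∣ (v.baseChange K).charpoly :=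
    charpoly_dvd_of_surjective (π.baseChange K) hp (v.baseChange K) (u.baseChange K) hcomm
  have hv' : (v.baseChange K).charpoly = v.charpoly.map (algebraMap A K) := LinearMap.charpoly_baseChange v K
  rw [hv'] at hd
  have hmem := integralClosure.mem_lifts_of_monic_of_dvd_map K (LinearMap.charpoly_monic v)
    (LinearMap.charpoly_monic (u.baseChange K)) hd
  rw [Polynomial.lifts_iff_coeff_lifts] at hmem
  obtain ⟨x, hx⟩ := hmem i
  rw [← hx]
  exact x.2

/-- An element of a domain with an integral inverse in the fraction field is a unit. -/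
theorem isUnit_of_isIntegral_inv {A K : Type*} [CommRing A] [Field K] [Algebra A K]
    (hinj : Function.Injective (algebraMap A K)) (a : A) (b : K) (hb : IsIntegral A b)
    (hab : algebraMap A K a * b = 1) : IsUnit a := by
  obtain ⟨p, hp, hpb⟩ := hb
  have hb0 : b ≠ 0 := fun h => by rw [h, mul_zero] at hab; exact zero_ne_one hab
  let _ : Invertible b := invertibleOfNonzero hb0
  have hinv : ⅟b = algebraMap A K a := by
    rw [invOf_eq_inv]
    exact (eq_inv_of_mul_eq_one_left hab).symm
  have h1 := Polynomial.eval₂_reverse_mul_pow (algebraMap A K) b p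
  rw [hpb, hinv, Polynomial.eval₂_at_apply] at h1
  have h2 : algebraMap A K (Polynomial.eval a p.reverse) = 0 := by
    rcases mul_eq_zero.mp h1 with h | h
    · exact h
    · exact absurd (eq_zero_of_pow_eq_zero h) hb0
  have h3 : Polynomial.eval a p.reverse = 0 := hinj (by rw [h2, map_zero])
  have h4 := congrArg (Polynomial.eval a) (Polynomial.divX_mul_X_add p.reverse)
  rw [Polynomial.eval_add, Polynomial.eval_mul, Polynomial.eval_X, Polynomial.eval_C,
    Polynomial.coeff_zero_reverse, hp.leadingCoeff, h3] at h4
  exact IsUnit.of_mul_eq_one (-(Polynomial.eval a (Polynomial.divX p.reverse))) (by linear_combination (-1 : A) * h4)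

end Groth.Agent.Lib.Charpoly_helper3
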