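import Groth.Prelude.Def_W4bk4boschfrg79
import Groth.Agent.Lib.AdicLift_helper2

/-!
# Universal property of the chart algebra of an admissible formal blowing-up (helper2)
-/

namespace Groth.Agent.Lib.ChartLift

open AdicRing

universe u

lemma fg_of_isBase {R : Type u} [CommRing R] (I : Ideal R) (hR : AdicRing.IsBase R I) : I.FG := by
  rcases hR.2 with ⟨hN, _⟩ | ⟨_, _, _, t, _, rfl⟩
  · exact (isNoetherianRing_iff_ideal_fg R).1 hN I
  · exact ⟨{t}, by simp⟩

section
variable {R : Type u} [CommRing R] (I : Ideal R)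
  {A : Type u} [CommRing A] [Algebra R A]
  {ι : Type} (f : ι → A) (i : ι)
  {B : Type u} [CommRing B] [Algebra R B]
  (φ : A →ₐ[R] B)
  (b : {j : ι // j ≠ i} → B) (hb : ∀ j, φ (f i) * b j = φ (f j.1))

/-- the polynomial-level map. -/
noncomputable def g0 : MvPolynomial {j : ι // j ≠ i} A →+* B :=
  MvPolynomial.eval₂Hom (φ : A →+* B) b

include hb in
lemma g0_rel (j : {j : ι // j ≠ i}) :
    g0 i φ b (MvPolynomial.C (f i) * MvPolynomial.X j - MvPolynomial.C (f j.1)) = 0 := by
  rw [g0, map_sub, map_mul, MvPolynomial.eval₂Hom_C, MvPolynomial.eval₂Hom_C,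
    MvPolynomial.eval₂Hom_X', RingHom.coe_coe, hb j, sub_self]

/-- the map from the chart algebra. -/
noncomputable def g1 : chartAlg f i →+* B :=
  Ideal.Quotient.lift _ (g0 i φ b) (by
    intro p hp
    have hle : Ideal.span (Set.range fun j : {j : ι // j ≠ i} =>
        MvPolynomial.C (f i) * MvPolynomial.X j - MvPolynomial.C (f j.1)) ≤
        RingHom.ker (g0 i φ b) := by
      rw [Ideal.span_le]
      rintro _ ⟨j, rfl⟩
      exact g0_rel f i φ b hb j
    exact hle hp)

lemma g1_algebraMap_A (a : A) : g1 f i φ b hb (algebraMap A (chartAlg f i) a) = φ a := by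
  show g1 f i φ b hb (Ideal.Quotient.mk _ (MvPolynomial.C a)) = φ a
  rw [g1, Ideal.Quotient.lift_mk, g0, MvPolynomial.eval₂Hom_C, RingHom.coe_coe]

lemma g1_algebraMap_R (r : R) :
    g1 f i φ b hb (algebraMap R (chartAlg f i) r) = algebraMap R B r := by
  rw [IsScalarTower.algebraMap_apply R A (chartAlg f i), g1_algebraMap_A, φ.commutes]

lemma hg1 : (I.map (algebraMap R (chartAlg f i))).map (g1 f i φ b hb) ≤
    I.map (algebraMap R B) := by
  rw [Ideal.map_map]
  have h : (g1 f i φ b hb).comp (algebraMap R (chartAlg f i)) = algebraMap R B :=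
    RingHom.ext fun r => g1_algebraMap_R f i φ b hb r
  rw [h]

variable [IsAdicComplete (I.map (algebraMap R B)) B]

/-- the map from the completed chart algebra. -/
noncomputable def ghat : chartCompl I f i →+* B :=
  AdicLift.ext (I.map (algebraMap R (chartAlg f i))) (I.map (algebraMap R B)) (g1 f i φ b hb)
    (hg1 I f i φ b hb)

lemma ghat_of (c : chartAlg f i) :
    ghat I f i φ b hb (AdicCompletion.of _ _ c) = g1 f i φ b hb c :=
  AdicLift.ext_of _ _ _ _ c

lemma ghat_algebraMap_A (a : A) :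
    ghat I f i φ b hb (algebraMap A (chartCompl I f i) a) = φ a := by
  rw [AdicCompletion.algebraMap_apply, ghat_of, g1_algebraMap_A]

lemma ghat_torsion (hnzd : φ (f i) ∈ nonZeroDivisors B) :
    (⨆ n : ℕ, Submodule.torsionBy (chartCompl I f i) (chartCompl I f i)
      (algebraMap A (chartCompl I f i) (f i) ^ n) : Ideal (chartCompl I f i)) ≤
      RingHom.ker (ghat I f i φ b hb) := by
  apply iSup_le
  intro n x hx
  rw [Submodule.mem_torsionBy_iff] at hx
  rw [RingHom.mem_ker]
  have h1 : ghat I f i φ b hb (algebraMap A (chartCompl I f i) (f i) ^ n * x) = 0 := by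
    rw [← smul_eq_mul, hx, map_zero]
  rw [map_mul, map_pow, ghat_algebraMap_A] at h1
  exact (mul_left_mem_nonZeroDivisors_eq_zero_iff (pow_mem hnzd n)).1 h1

/-- the ring hom from the chart of the admissible blowing-up. -/
noncomputable def psi0 (hnzd : φ (f i) ∈ nonZeroDivisors B) : chartAdm I f i →+* B :=
  Ideal.Quotient.lift _ (ghat I f i φ b hb) (fun x hx => ghat_torsion I f i φ b hb hnzd hx)

lemma psi0_algebraMap_A (hnzd : φ (f i) ∈ nonZeroDivisors B) (a : A) :
    psi0 I f i φ b hb hnzd (algebraMap A (chartAdm I f i) a) = φ a := by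
  show psi0 I f i φ b hb hnzd (Ideal.Quotient.mk _ (algebraMap A (chartCompl I f i) a)) = φ a
  rw [psi0, Ideal.Quotient.lift_mk, ghat_algebraMap_A]

/-- the algebra hom from the chart of the admissible blowing-up. -/
noncomputable def psi (hnzd : φ (f i) ∈ nonZeroDivisors B) : chartAdm I f i →ₐ[R] B :=
  { psi0 I f i φ b hb hnzd with
    commutes' := fun r => by
      show psi0 I f i φ b hb hnzd (algebraMap R (chartAdm I f i) r) = algebraMap R B r
      rw [IsScalarTower.algebraMap_apply R A (chartAdm I f i), psi0_algebraMap_A, φ.commutes] }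

lemma psi_comp (hnzd : φ (f i) ∈ nonZeroDivisors B) :
    (psi I f i φ b hb hnzd).comp (IsScalarTower.toAlgHom R A (chartAdm I f i)) = φ := by
  ext a
  exact psi0_algebraMap_A I f i φ b hb hnzd a

end

section
variable {R : Type u} [CommRing R] (I : Ideal R)
  {A : Type u} [CommRing A] [Algebra R A]
  {ι : Type} (f : ι → A) (i : ι)
  {B : Type u} [CommRing B] [Algebra R B]
  (φ : A →ₐ[R] B)

/-- the canonical map from the polynomial ring to the chart of the admissible blowing-up. -/
noncomputable def toAdm : MvPolynomial {j : ι // j ≠ i} A →+* chartAdm I f i :=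
  (Ideal.Quotient.mk _).comp ((algebraMap (chartAlg f i) (chartCompl I f i)).comp
    (Ideal.Quotient.mk _))

lemma toAdm_C (a : A) : toAdm I f i (MvPolynomial.C a) = algebraMap A (chartAdm I f i) a := rfl

lemma toAdm_rel (j : {j : ι // j ≠ i}) :
    algebraMap A (chartAdm I f i) (f i) * toAdm I f i (MvPolynomial.X j) =
      algebraMap A (chartAdm I f i) (f j.1) := by
  rw [← toAdm_C, ← toAdm_C, ← map_mul, ← sub_eq_zero, ← map_sub]
  have h : (Ideal.Quotient.mk (Ideal.span (Set.range fun j : {j : ι // j ≠ i} =>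
      MvPolynomial.C (f i) * MvPolynomial.X j - MvPolynomial.C (f j.1))))
      (MvPolynomial.C (f i) * MvPolynomial.X j - MvPolynomial.C (f j.1)) = 0 :=
    Ideal.Quotient.eq_zero_iff_mem.2 (Ideal.subset_span ⟨j, rfl⟩)
  rw [toAdm, RingHom.comp_apply, RingHom.comp_apply, h, map_zero, map_zero]

lemma unique_lift (hI : I.FG) [IsAdicComplete (I.map (algebraMap R B)) B]
    (hnzd : φ (f i) ∈ nonZeroDivisors B) (ψ₁ ψ₂ : chartAdm I f i →ₐ[R] B)
    (h₁ : ψ₁.comp (IsScalarTower.toAlgHom R A (chartAdm I f i)) = φ)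
    (h₂ : ψ₂.comp (IsScalarTower.toAlgHom R A (chartAdm I f i)) = φ) : ψ₁ = ψ₂ := by
  have e₁ : ∀ a : A, ψ₁ (algebraMap A (chartAdm I f i) a) = φ a := fun a =>
    congrArg (fun F : A →ₐ[R] B => F a) h₁
  have e₂ : ∀ a : A, ψ₂ (algebraMap A (chartAdm I f i) a) = φ a := fun a =>
    congrArg (fun F : A →ₐ[R] B => F a) h₂
  let θ₁ : chartCompl I f i →+* B := (ψ₁ : chartAdm I f i →+* B).comp (Ideal.Quotient.mk _)
  let θ₂ : chartCompl I f i →+* B := (ψ₂ : chartAdm I f i →+* B).comp (Ideal.Quotient.mk _)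
  have hP : ((ψ₁ : chartAdm I f i →+* B).comp (toAdm I f i)) =
      ((ψ₂ : chartAdm I f i →+* B).comp (toAdm I f i)) := by
    apply MvPolynomial.ringHom_ext
    · intro a
      rw [RingHom.comp_apply, RingHom.comp_apply, toAdm_C, RingHom.coe_coe, RingHom.coe_coe,
        e₁, e₂]
    · intro j
      rw [RingHom.comp_apply, RingHom.comp_apply, RingHom.coe_coe, RingHom.coe_coe]
      apply (mul_cancel_left_mem_nonZeroDivisors hnzd).1
      have a1 : φ (f i) * ψ₁ (toAdm I f i (MvPolynomial.X j)) = φ (f j.1) := by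
        rw [← e₁ (f i), ← map_mul, toAdm_rel, e₁]
      have a2 : φ (f i) * ψ₂ (toAdm I f i (MvPolynomial.X j)) = φ (f j.1) := by
        rw [← e₂ (f i), ← map_mul, toAdm_rel, e₂]
      exact a1.trans a2.symm
  have key : θ₁ = θ₂ := by
    apply AdicLift.ringHom_ext_of_dense (I.map (algebraMap R (chartAlg f i)))
      (I.map (algebraMap R B)) (hI.map _) θ₁ θ₂
    · rw [Ideal.map_map]
      have h : (θ₁.comp (algebraMap (chartAlg f i) (chartCompl I f i))).comp
          (algebraMap R (chartAlg f i)) = algebraMap R B :=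
        RingHom.ext fun r => ψ₁.commutes r
      rw [h]
    · rw [Ideal.map_map]
      have h : (θ₂.comp (algebraMap (chartAlg f i) (chartCompl I f i))).comp
          (algebraMap R (chartAlg f i)) = algebraMap R B :=
        RingHom.ext fun r => ψ₂.commutes r
      rw [h]
    · intro c
      obtain ⟨p, rfl⟩ := Ideal.Quotient.mk_surjective c
      exact congrArg (fun F : MvPolynomial {j : ι // j ≠ i} A →+* B => F p) hP
  apply AlgHom.ext
  intro x
  obtain ⟨y, rfl⟩ := Ideal.Quotient.mk_surjective x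
  exact congrArg (fun F : chartCompl I f i →+* B => F y) key

end

theorem main11545 (R : Type u) [CommRing R] (I : Ideal R) (hR : AdicRing.IsBase R I)
    (A : Type u) [CommRing A] [Algebra R A]
    (r : ℕ) (f : Fin (r + 1) → A) (i : Fin (r + 1))
    (B : Type u) [CommRing B] [Algebra R B] [IsAdicComplete (I.map (algebraMap R B)) B]
    (φ : A →ₐ[R] B) (hnzd : φ (f i) ∈ nonZeroDivisors B)
    (hgen : (Ideal.span (Set.range f)).map φ = Ideal.span {φ (f i)}) :
    ∃! ψ : AdicRing.chartAdm I f i →ₐ[R] B,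
      ψ.comp (IsScalarTower.toAlgHom R A (AdicRing.chartAdm I f i)) = φ := by
  have hb : ∀ j : {j : Fin (r + 1) // j ≠ i}, ∃ b : B, φ (f i) * b = φ (f j.1) := by
    intro j
    have h1 : φ (f j.1) ∈ (Ideal.span (Set.range f)).map φ :=
      Ideal.mem_map_of_mem _ (Ideal.subset_span ⟨j.1, rfl⟩)
    rw [hgen, Ideal.mem_span_singleton'] at h1
    obtain ⟨b, hb⟩ := h1
    exact ⟨b, by rw [mul_comm]; exact hb⟩
  choose b hb using hb
  refine ⟨psi I f i φ b hb hnzd, psi_comp I f i φ b hb hnzd, fun ψ' hψ' =>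
    unique_lift I f i φ (fg_of_isBase I hR) hnzd _ _ hψ' (psi_comp I f i φ b hb hnzd)⟩

end Groth.Agent.Lib.ChartLift
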