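import Mathlib

/-!
# The chart computation for translating a cycle with modulus (helper3)

Working modulo `u^s` in `P[τ]`, `φ_λ ≡ τ^N f_λ`.
-/

set_option autoImplicit false
universe u

namespace Groth.Agent.Lib.ChartModulusH3

open Polynomial

variable {k : Type u} [CommRing k] (d n : ℕ)

local notation "PP" => MvPolynomial (Fin d ⊕ Fin n) k

/-- The polynomial `φ` attached to `f`. -/
noncomputable def phi (N s : ℕ) (U : PP) (v : Fin d → k) (f : PP) : Polynomial PP :=
  ∑ m ∈ f.support,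
    Polynomial.C (MvPolynomial.C (MvPolynomial.coeff m f)) *
      Polynomial.X ^ (N - ∑ i : Fin d, m (Sum.inl i)) *
      (∏ i : Fin d, (Polynomial.X * Polynomial.C (MvPolynomial.X (Sum.inl i)) +
          Polynomial.C (U ^ s * MvPolynomial.C (v i))) ^ m (Sum.inl i)) *
      ∏ j : Fin n, Polynomial.C (MvPolynomial.X (Sum.inr j)) ^ m (Sum.inr j)

/-- The modulus: `C U ^ s`, or `0` when `N = 0`. -/
noncomputable def zz (N s : ℕ) (U : PP) : Polynomial PP :=
  if N = 0 then 0 else Polynomial.C U ^ s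

omit d n in
theorem mk_congr_mid {R : Type*} [CommRing R] (I : Ideal R) (a p p' q : R)
    (h : Ideal.Quotient.mk I p = Ideal.Quotient.mk I p') :
    Ideal.Quotient.mk I (a * p * q) = Ideal.Quotient.mk I (a * p' * q) := by
  rw [map_mul, map_mul, h, ← map_mul, ← map_mul]

theorem term_eq (N : ℕ) (m : (Fin d ⊕ Fin n) →₀ ℕ) (a : k)
    (hm : ∑ i : Fin d, m (Sum.inl i) ≤ N) :
    Polynomial.C (MvPolynomial.C a) *
      Polynomial.X ^ (N - ∑ i : Fin d, m (Sum.inl i)) *
      (∏ i : Fin d, (Polynomial.X * Polynomial.C (MvPolynomial.X (Sum.inl i) : PP)) ^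
          m (Sum.inl i)) *
      ∏ j : Fin n, Polynomial.C (MvPolynomial.X (Sum.inr j) : PP) ^ m (Sum.inr j) =
    Polynomial.X ^ N * Polynomial.C (MvPolynomial.monomial m a) := by
  have h1 : (∏ i : Fin d, (Polynomial.X * Polynomial.C (MvPolynomial.X (Sum.inl i) : PP)) ^
      m (Sum.inl i)) = Polynomial.X ^ (∑ i : Fin d, m (Sum.inl i)) *
        Polynomial.C (∏ i : Fin d, (MvPolynomial.X (Sum.inl i) : PP) ^ m (Sum.inl i)) := by
    simp only [mul_pow, Finset.prod_mul_distrib, Finset.prod_pow_eq_pow_sum, map_prod, map_pow]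
  have h2 : (MvPolynomial.monomial m a : PP) = MvPolynomial.C a *
      ((∏ i : Fin d, (MvPolynomial.X (Sum.inl i) : PP) ^ m (Sum.inl i)) *
        ∏ j : Fin n, (MvPolynomial.X (Sum.inr j) : PP) ^ m (Sum.inr j)) := by
    rw [MvPolynomial.monomial_eq, Finsupp.prod_fintype _ _ (fun i => pow_zero _),
      Fintype.prod_sum_type]
  rw [h1, h2]
  have h3 : (Polynomial.X : Polynomial PP) ^ N =
      Polynomial.X ^ (N - ∑ i : Fin d, m (Sum.inl i)) *
        Polynomial.X ^ (∑ i : Fin d, m (Sum.inl i)) := by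
    rw [← pow_add, Nat.sub_add_cancel hm]
  rw [h3]
  simp only [map_mul, map_prod, map_pow]
  ring

theorem mk_phi (N s : ℕ) (U : PP) (v : Fin d → k) (f : PP)
    (hdeg : ∀ m ∈ f.support, ∑ i : Fin d, m (Sum.inl i) ≤ N) :
    Ideal.Quotient.mk (Ideal.span {zz d n N s U}) (phi d n N s U v f) =
      Ideal.Quotient.mk (Ideal.span {zz d n N s U}) (Polynomial.X ^ N * Polynomial.C f) := by
  have hfac : ∀ m ∈ f.support, ∀ i : Fin d,
      Ideal.Quotient.mk (Ideal.span {zz d n N s U})
        ((Polynomial.X * Polynomial.C (MvPolynomial.X (Sum.inl i)) +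
          Polynomial.C (U ^ s * MvPolynomial.C (v i))) ^ m (Sum.inl i)) =
      Ideal.Quotient.mk (Ideal.span {zz d n N s U})
        ((Polynomial.X * Polynomial.C (MvPolynomial.X (Sum.inl i) : PP)) ^ m (Sum.inl i)) := by
    intro m hm i
    by_cases hN : N = 0
    · have h0 : m (Sum.inl i) = 0 := by
        have h1 := hdeg m hm
        have h2 : m (Sum.inl i) ≤ ∑ i : Fin d, m (Sum.inl i) :=
          Finset.single_le_sum (f := fun i : Fin d => m (Sum.inl i))
            (fun _ _ => Nat.zero_le _) (Finset.mem_univ i)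
        omega
      rw [h0, pow_zero, pow_zero]
    · have hz : Ideal.Quotient.mk (Ideal.span {zz d n N s U})
          (Polynomial.C (U ^ s * MvPolynomial.C (v i))) = 0 := by
        rw [Ideal.Quotient.eq_zero_iff_mem, Ideal.mem_span_singleton, zz, if_neg hN, map_mul,
          map_pow]
        exact dvd_mul_right _ _
      rw [map_pow, map_add, hz, add_zero, ← map_pow]
  have hsum : f = ∑ m ∈ f.support, MvPolynomial.monomial m (MvPolynomial.coeff m f) :=
    (MvPolynomial.support_sum_monomial_coeff f).symm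
  have hrhs : (Polynomial.X ^ N * Polynomial.C f : Polynomial PP) =
      ∑ m ∈ f.support, Polynomial.X ^ N *
        Polynomial.C (MvPolynomial.monomial m (MvPolynomial.coeff m f)) := by
    conv_lhs => rw [hsum]
    rw [map_sum, Finset.mul_sum]
  rw [hrhs, phi, map_sum, map_sum]
  refine Finset.sum_congr rfl fun m hm => ?_
  rw [← term_eq d n N m _ (hdeg m hm)]
  refine mk_congr_mid _ _ _ _ _ ?_
  rw [map_prod, map_prod]
  exact Finset.prod_congr rfl fun i _ => hfac m hm i

theorem main (u : MvPolynomial (Fin d) k) (v : Fin d → k)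
    (J : Finset (Fin n)) (N s : ℕ) (hs : N ≤ s)
    {Λ : Type u} [Fintype Λ] (f : Λ → MvPolynomial (Fin d ⊕ Fin n) k)
    (hdeg : ∀ l, ∀ m ∈ (f l).support, ∑ i : Fin d, m (Sum.inl i) ≤ N)
    (c : ℕ → MvPolynomial (Fin d ⊕ Fin n) k)
    (hE : (∏ j ∈ J, MvPolynomial.X (Sum.inr j)) ^ N +
        ∑ i ∈ Finset.Icc 1 N, c i * (∏ j ∈ J, MvPolynomial.X (Sum.inr j)) ^ (N - i) *
          MvPolynomial.rename Sum.inl u ^ i ∈ Ideal.span (Set.range f)) :
    ∃ c' : ℕ → Polynomial (MvPolynomial (Fin d ⊕ Fin n) k),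
      (Polynomial.X * Polynomial.C (∏ j ∈ J, MvPolynomial.X (Sum.inr j))) ^ N +
        ∑ i ∈ Finset.Icc 1 N, c' i *
          (Polynomial.X * Polynomial.C (∏ j ∈ J, MvPolynomial.X (Sum.inr j))) ^ (N - i) *
            Polynomial.C (MvPolynomial.rename Sum.inl u) ^ i ∈
      Ideal.span (Set.range fun l : Λ =>
        phi d n N s (MvPolynomial.rename Sum.inl u) v (f l)) := by
  classical
  set U : PP := MvPolynomial.rename Sum.inl u with hU
  set ζ : PP := ∏ j ∈ J, MvPolynomial.X (Sum.inr j) with hζ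
  obtain ⟨g, hg⟩ := (Ideal.mem_span_range_iff_exists_fun (R := PP)).mp hE
  -- the key congruence
  have hcong : Ideal.Quotient.mk (Ideal.span {zz d n N s U})
      (Polynomial.X ^ N * Polynomial.C (ζ ^ N + ∑ i ∈ Finset.Icc 1 N, c i * ζ ^ (N - i) * U ^ i) -
        ∑ l, Polynomial.C (g l) * phi d n N s U v (f l)) = 0 := by
    rw [map_sub, map_sum, sub_eq_zero]
    have : ∀ l, Ideal.Quotient.mk (Ideal.span {zz d n N s U})
        (Polynomial.C (g l) * phi d n N s U v (f l)) =
        Ideal.Quotient.mk (Ideal.span {zz d n N s U})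
          (Polynomial.C (g l) * (Polynomial.X ^ N * Polynomial.C (f l))) := by
      intro l
      rw [map_mul, mk_phi d n N s U v (f l) (hdeg l), ← map_mul]
    rw [Finset.sum_congr rfl fun l _ => this l, ← map_sum, ← hg]
    congr 1
    rw [map_sum, Finset.mul_sum]
    refine Finset.sum_congr rfl fun l _ => ?_
    rw [map_mul]
    ring
  rw [Ideal.Quotient.eq_zero_iff_mem, Ideal.mem_span_singleton] at hcong
  obtain ⟨ρ, hρ⟩ := hcong
  have hmem : ∑ l, Polynomial.C (g l) * phi d n N s U v (f l) ∈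
      Ideal.span (Set.range fun l : Λ => phi d n N s U v (f l)) :=
    Ideal.sum_mem _ fun l _ => Ideal.mul_mem_left _ _ (Ideal.subset_span ⟨l, rfl⟩)
  refine ⟨fun i => Polynomial.X ^ i * Polynomial.C (c i) -
    (if i = N then ρ * Polynomial.C U ^ (s - N) else 0), ?_⟩
  convert hmem using 1
  have hexp : (Polynomial.X ^ N * Polynomial.C (ζ ^ N +
      ∑ i ∈ Finset.Icc 1 N, c i * ζ ^ (N - i) * U ^ i) : Polynomial PP) =
      (Polynomial.X * Polynomial.C ζ) ^ N + ∑ i ∈ Finset.Icc 1 N,
        Polynomial.X ^ i * Polynomial.C (c i) * (Polynomial.X * Polynomial.C ζ) ^ (N - i) *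
          Polynomial.C U ^ i := by
    have hterm : ∀ i ∈ Finset.Icc 1 N, (Polynomial.X : Polynomial PP) ^ N *
        Polynomial.C (c i * ζ ^ (N - i) * U ^ i) =
        Polynomial.X ^ i * Polynomial.C (c i) * (Polynomial.X * Polynomial.C ζ) ^ (N - i) *
          Polynomial.C U ^ i := by
      intro i hi
      have hi' := (Finset.mem_Icc.mp hi).2
      have hX : (Polynomial.X : Polynomial PP) ^ N =
          Polynomial.X ^ i * Polynomial.X ^ (N - i) := by
        rw [← pow_add, Nat.add_sub_cancel' hi']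
      rw [hX, map_mul, map_mul, map_pow, map_pow, mul_pow]
      ring
    rw [map_add, mul_add, map_sum, Finset.mul_sum, Finset.sum_congr rfl hterm, mul_pow, map_pow]
  have hsplit : ∑ i ∈ Finset.Icc 1 N,
      (Polynomial.X ^ i * Polynomial.C (c i) -
        (if i = N then ρ * Polynomial.C U ^ (s - N) else 0)) *
        (Polynomial.X * Polynomial.C ζ) ^ (N - i) * Polynomial.C U ^ i =
      (∑ i ∈ Finset.Icc 1 N,
        Polynomial.X ^ i * Polynomial.C (c i) * (Polynomial.X * Polynomial.C ζ) ^ (N - i) *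
          Polynomial.C U ^ i) - zz d n N s U * ρ := by
    simp only [sub_mul, Finset.sum_sub_distrib]
    congr 1
    by_cases hN : N = 0
    · subst hN
      simp [zz]
    · rw [zz, if_neg hN]
      have hNmem : N ∈ Finset.Icc 1 N := Finset.mem_Icc.mpr ⟨Nat.one_le_iff_ne_zero.mpr hN, le_rfl⟩
      rw [Finset.sum_eq_single_of_mem N hNmem]
      · rw [if_pos rfl, Nat.sub_self, pow_zero, mul_one, mul_assoc, ← pow_add,
          Nat.sub_add_cancel hs]
        ring
      · intro i _ hiN
        rw [if_neg hiN, zero_mul, zero_mul]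
  rw [hsplit, ← add_sub_assoc, ← hexp, ← hρ]
  ring

end Groth.Agent.Lib.ChartModulusH3
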