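import Mathlib

namespace Groth.Agent.Lib.ChartSmooth

open MvPolynomial

noncomputable section

variable {R : Type*} [CommRing R]

abbrev iota : Polynomial R →ₐ[R] MvPolynomial (Fin 2) R :=
  Polynomial.aeval (X 1 : MvPolynomial (Fin 2) R)

variable (b u : Polynomial R)

abbrev hh : MvPolynomial (Fin 2) R := iota u - X 0 * iota b

abbrev II : Ideal (MvPolynomial (Fin 2) R) := Ideal.span {hh b u}

abbrev AA := MvPolynomial (Fin 2) R ⧸ II b u

abbrev TT := Localization.Away b

def vv : Fin 2 → TT b :=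
  ![algebraMap (Polynomial R) (TT b) u * IsLocalization.Away.invSelf b,
    algebraMap (Polynomial R) (TT b) Polynomial.X]

theorem vv_zero : vv b u 0 =
    algebraMap (Polynomial R) (TT b) u * IsLocalization.Away.invSelf b := rfl

theorem vv_one : vv b u 1 = algebraMap (Polynomial R) (TT b) Polynomial.X := rfl

theorem aeval_iota (p : Polynomial R) :
    aeval (vv b u) (iota p) = algebraMap (Polynomial R) (TT b) p := by
  have h : ((aeval (vv b u) : MvPolynomial (Fin 2) R →ₐ[R] TT b).comp iota) =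
      IsScalarTower.toAlgHom R (Polynomial R) (TT b) := by
    apply Polynomial.algHom_ext
    show aeval (vv b u) (Polynomial.aeval (X 1) Polynomial.X) = algebraMap _ _ Polynomial.X
    rw [Polynomial.aeval_X, aeval_X, vv_one]
  exact AlgHom.congr_fun h p

theorem aeval_hh : aeval (vv b u) (hh b u) = 0 := by
  rw [map_sub, map_mul, aeval_iota, aeval_iota, aeval_X, vv_zero]
  have h := IsLocalization.Away.mul_invSelf (S := TT b) b
  linear_combination (-(algebraMap (Polynomial R) (TT b) u)) * h

def phi : AA b u →ₐ[R] TT b :=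
  Ideal.Quotient.liftₐ _ (aeval (vv b u)) (by
    intro a ha
    obtain ⟨c, rfl⟩ := Ideal.mem_span_singleton'.mp ha
    rw [map_mul, aeval_hh, mul_zero])

theorem phi_mk (F : MvPolynomial (Fin 2) R) :
    phi b u (Ideal.Quotient.mk _ F) = aeval (vv b u) F := rfl

abbrev ybar : AA b u := Ideal.Quotient.mk _ (X 1)

abbrev psi0 : Polynomial R →ₐ[R] AA b u := Polynomial.aeval (ybar b u)

theorem psi0_eq (p : Polynomial R) : psi0 b u p = Ideal.Quotient.mk _ (iota p) := by
  have h : psi0 b u = (Ideal.Quotient.mkₐ R (II b u)).comp iota := by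
    apply Polynomial.algHom_ext
    show Polynomial.aeval (ybar b u) Polynomial.X =
      Ideal.Quotient.mk _ (Polynomial.aeval (X 1) Polynomial.X)
    rw [Polynomial.aeval_X, Polynomial.aeval_X]
  rw [h]; rfl

theorem mk_iota_u : (Ideal.Quotient.mk (II b u) (iota u)) =
    Ideal.Quotient.mk _ (X 0) * Ideal.Quotient.mk _ (iota b) := by
  rw [← map_mul, Ideal.Quotient.eq]
  exact Ideal.subset_span (Set.mem_singleton _)

theorem psi0_u : psi0 b u u = Ideal.Quotient.mk _ (X 0) * psi0 b u b := by
  rw [psi0_eq, psi0_eq, mk_iota_u]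

theorem isUnit_psi0_b (p q : Polynomial R) (hpq : p * b + q * u = 1) :
    IsUnit (psi0 b u b) := by
  have h1 := congrArg (psi0 b u) hpq
  rw [map_add, map_mul, map_mul, map_one] at h1
  have h2 := psi0_u b u
  refine isUnit_iff_exists_inv.mpr ⟨psi0 b u p + psi0 b u q * Ideal.Quotient.mk _ (X 0), ?_⟩
  linear_combination h1 - psi0 b u q * h2

theorem isUnit_psi0_powers (hb : IsUnit (psi0 b u b)) :
    ∀ m : Submonoid.powers b, IsUnit (psi0 b u m) := by
  rintro ⟨m, n, rfl⟩
  show IsUnit (psi0 b u (b ^ n))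
  rw [map_pow]; exact hb.pow n

def psi (hb : IsUnit (psi0 b u b)) : TT b →ₐ[R] AA b u :=
  IsLocalization.liftAlgHom (M := Submonoid.powers b) (f := psi0 b u)
    (isUnit_psi0_powers b u hb)

theorem psi_algebraMap (hb : IsUnit (psi0 b u b)) (p : Polynomial R) :
    psi b u hb (algebraMap (Polynomial R) (TT b) p) = psi0 b u p := by
  simp [psi]

theorem phi_comp_psi (hb : IsUnit (psi0 b u b)) :
    (phi b u).comp (psi b u hb) = AlgHom.id R (TT b) := by
  apply IsLocalization.algHom_ext (Submonoid.powers b)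
  apply Polynomial.algHom_ext
  show phi b u (psi b u hb (algebraMap (Polynomial R) (TT b) Polynomial.X)) =
    algebraMap (Polynomial R) (TT b) Polynomial.X
  rw [psi_algebraMap, Polynomial.aeval_X, phi_mk, aeval_X, vv_one]

theorem psi_comp_phi (hb : IsUnit (psi0 b u b)) :
    (psi b u hb).comp (phi b u) = AlgHom.id R (AA b u) := by
  have key : ((psi b u hb).comp (phi b u)).comp (Ideal.Quotient.mkₐ R (II b u)) =
      Ideal.Quotient.mkₐ R (II b u) := by
    apply MvPolynomial.algHom_ext
    intro i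
    fin_cases i
    · show psi b u hb (phi b u (Ideal.Quotient.mk _ (X 0))) = Ideal.Quotient.mk _ (X 0)
      rw [phi_mk, aeval_X, vv_zero, map_mul, psi_algebraMap, psi0_u]
      have h3 : psi0 b u b * psi b u hb (IsLocalization.Away.invSelf b) = 1 := by
        rw [← psi_algebraMap b u hb, ← map_mul, IsLocalization.Away.mul_invSelf, map_one]
      linear_combination (Ideal.Quotient.mk (II b u) (X 0)) * h3
    · show psi b u hb (phi b u (Ideal.Quotient.mk _ (X 1))) = Ideal.Quotient.mk _ (X 1)
      rw [phi_mk, aeval_X, vv_one, psi_algebraMap, Polynomial.aeval_X]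
  apply AlgHom.ext
  intro a
  obtain ⟨F, rfl⟩ := Ideal.Quotient.mk_surjective a
  exact AlgHom.congr_fun key F

theorem smooth_AA (p q : Polynomial R) (hpq : p * b + q * u = 1) :
    Algebra.Smooth R (AA b u) := by
  have hb := isUnit_psi0_b b u p q hpq
  have e : TT b ≃ₐ[R] AA b u :=
    AlgEquiv.ofAlgHom (psi b u hb) (phi b u) (psi_comp_phi b u hb) (phi_comp_psi b u hb)
  haveI : Algebra.Smooth R (Polynomial R) := {}
  haveI : Algebra.Smooth (Polynomial R) (TT b) := Algebra.Smooth.of_isLocalization_Away b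
  haveI : Algebra.Smooth R (TT b) := Algebra.Smooth.comp R (Polynomial R) (TT b)
  exact Algebra.Smooth.of_equiv e

theorem main (R : Type*) [CommRing R] (a₁ a₂ : R) :
    Algebra.Smooth R (MvPolynomial (Fin 2) R ⧸
      Ideal.span ({1 + C a₁ * X 1 - X 0 * X 1 ^ 3 - C a₂ * X 1 ^ 2} :
        Set (MvPolynomial (Fin 2) R))) ∧
    Algebra.Smooth R (MvPolynomial (Fin 2) R ⧸
      Ideal.span ({X 1 ^ 2 + C a₁ * X 1 - X 0 - C a₂} : Set (MvPolynomial (Fin 2) R))) := by
  constructor
  · have hf : (1 + C a₁ * X 1 - X 0 * X 1 ^ 3 - C a₂ * X 1 ^ 2 : MvPolynomial (Fin 2) R) =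
        hh (Polynomial.X ^ 3)
          (1 + Polynomial.C a₁ * Polynomial.X - Polynomial.C a₂ * Polynomial.X ^ 2) := by
      simp only [hh, iota, map_add, map_sub, map_mul, map_pow, map_one, Polynomial.aeval_X,
        Polynomial.aeval_C, MvPolynomial.algebraMap_eq]
      ring
    rw [hf]
    exact smooth_AA _ _ (-(Polynomial.C a₁ - Polynomial.C a₂ * Polynomial.X) ^ 3)
      (3 - 3 * (1 + Polynomial.C a₁ * Polynomial.X - Polynomial.C a₂ * Polynomial.X ^ 2) +
        (1 + Polynomial.C a₁ * Polynomial.X - Polynomial.C a₂ * Polynomial.X ^ 2) ^ 2)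
      (by ring)
  · have hg : (X 1 ^ 2 + C a₁ * X 1 - X 0 - C a₂ : MvPolynomial (Fin 2) R) =
        hh (1 : Polynomial R)
          (Polynomial.X ^ 2 + Polynomial.C a₁ * Polynomial.X - Polynomial.C a₂) := by
      simp only [hh, iota, map_add, map_sub, map_mul, map_pow, map_one, Polynomial.aeval_X,
        Polynomial.aeval_C, MvPolynomial.algebraMap_eq]
      ring
    rw [hg]
    exact smooth_AA _ _ 1 0 (by ring)

end

end Groth.Agent.Lib.ChartSmooth
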