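import Mathlib

set_option autoImplicit false

open TensorProduct

namespace Groth.Agent.ExtLine9

universe u v w

section general

variable {R : Type*} [CommRing R] {M N N' : Type*} [AddCommGroup M] [Module R M]
  [AddCommGroup N] [Module R N] [AddCommGroup N'] [Module R N']

theorem range_map_le (f : N →ₗ[R] M) (g : N' →ₗ[R] M)
    (h : LinearMap.range f ≤ LinearMap.range g) (d : ℕ) :
    LinearMap.range (exteriorPower.map d f) ≤ LinearMap.range (exteriorPower.map d g) := by
  rw [LinearMap.range_eq_map, ← exteriorPower.ιMulti_span R d N, Submodule.map_span,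
    Submodule.span_le]
  rintro _ ⟨_, ⟨n, rfl⟩, rfl⟩
  have : ∀ i, ∃ n', g n' = f (n i) := fun i => LinearMap.mem_range.mp (h ⟨n i, rfl⟩)
  choose n' hn' using this
  refine ⟨exteriorPower.ιMulti R d n', ?_⟩
  rw [exteriorPower.map_apply_ιMulti, exteriorPower.map_apply_ιMulti]
  congr 1
  ext i
  exact hn' i

theorem map_range_eq (ι : N →ₗ[R] M) (α : M ≃ₗ[R] M) (d : ℕ)
    (h : Submodule.map α.toLinearMap (LinearMap.range ι) = LinearMap.range ι) :
    Submodule.map (exteriorPower.map d α.toLinearMap) (LinearMap.range (exteriorPower.map d ι))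
      = LinearMap.range (exteriorPower.map d ι) := by
  rw [← LinearMap.range_comp, ← exteriorPower.map_comp]
  have h' : LinearMap.range (α.toLinearMap ∘ₗ ι) = LinearMap.range ι := by
    rw [LinearMap.range_comp, h]
  exact le_antisymm (range_map_le _ _ h'.le d) (range_map_le _ _ h'.ge d)

theorem coord_inr_comp {J : Type*} {d : ℕ} (e' : Module.Basis (Fin d) R N)
    (B : Module.Basis (Fin d ⊕ J) R M)
    (ι : N →ₗ[R] M) (hι : ∀ i, ι (e' i) = B (Sum.inl i)) (j : J) (y : N) :
    B.coord (Sum.inr j) (ι y) = 0 := by
  have : (B.coord (Sum.inr j)) ∘ₗ ι = 0 := by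
    apply e'.ext
    intro i
    simp [hι]
  exact LinearMap.congr_fun this y

theorem mem_range_of_coord {J : Type*} {d : ℕ} (e' : Module.Basis (Fin d) R N)
    (B : Module.Basis (Fin d ⊕ J) R M)
    (ι : N →ₗ[R] M) (hι : ∀ i, ι (e' i) = B (Sum.inl i)) (x : M)
    (hx : ∀ j : J, B.coord (Sum.inr j) x = 0) : x ∈ LinearMap.range ι := by
  rw [← B.linearCombination_repr x, Finsupp.linearCombination_apply, Finsupp.sum]
  refine Submodule.sum_mem _ fun s _ => ?_
  change B.repr x s • B s ∈ _
  rcases s with i | j
  · rw [← hι i]
    exact Submodule.smul_mem _ _ ⟨e' i, rfl⟩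
  · have : B.repr x (Sum.inr j) = 0 := hx j
    rw [this, zero_smul]
    exact Submodule.zero_mem _

theorem key {J : Type*} {d : ℕ} (e' : Module.Basis (Fin d) R N)
    (B : Module.Basis (Fin d ⊕ J) R M)
    (ι : N →ₗ[R] M) (hι : ∀ i, ι (e' i) = B (Sum.inl i)) (α : M ≃ₗ[R] M)
    (h : Submodule.map (exteriorPower.map d α.toLinearMap)
      (LinearMap.range (exteriorPower.map d ι)) = LinearMap.range (exteriorPower.map d ι)) :
    Submodule.map α.toLinearMap (LinearMap.range ι) ≤ LinearMap.range ι := by
  classical
  set f : Fin d → Module.Dual R M := fun i => B.coord (Sum.inl i) with hf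
  set A : Matrix (Fin d) (Fin d) R := Matrix.of fun i j => f j (α (B (Sum.inl i))) with hA
  set ω' : ⋀[R]^d N := exteriorPower.ιMulti R d (fun i => e' i) with hω'
  have hω : exteriorPower.map d ι ω' = exteriorPower.ιMulti R d (fun i => B (Sum.inl i)) := by
    rw [hω', exteriorPower.map_apply_ιMulti]
    congr 1
    ext i
    exact hι i
  have hunit : IsUnit A.det := by
    have hmem : exteriorPower.map d ι ω' ∈ Submodule.map (exteriorPower.map d α.toLinearMap)
        (LinearMap.range (exteriorPower.map d ι)) := by
      rw [h]; exact ⟨ω', rfl⟩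
    obtain ⟨_, ⟨z, rfl⟩, hz⟩ := hmem
    let φ : Module.Dual R (⋀[R]^d M) :=
      exteriorPower.pairingDual R M d (exteriorPower.ιMulti R d f)
    let ψ : ⋀[R]^d N →ₗ[R] R :=
      φ ∘ₗ exteriorPower.map d α.toLinearMap ∘ₗ exteriorPower.map d ι
    let ψ' : ⋀[R]^d N →ₗ[R] R :=
      exteriorPower.pairingDual R N d (exteriorPower.ιMulti R d (fun i => e'.coord i))
    have hψ : ψ = A.det • ψ' := by
      apply exteriorPower.linearMap_ext
      ext n
      simp only [LinearMap.compAlternatingMap_apply, ψ, ψ', φ, LinearMap.comp_apply,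
        exteriorPower.map_apply_ιMulti, exteriorPower.pairingDual_ιMulti_ιMulti,
        LinearMap.smul_apply, smul_eq_mul]
      rw [mul_comm, ← Matrix.det_mul]
      congr 1
      ext i j
      simp only [Matrix.of_apply, Function.comp_apply, Matrix.mul_apply, hA]
      conv_lhs => rw [← e'.sum_repr (n i)]
      simp only [map_sum, map_smul, hι, smul_eq_mul, Module.Basis.coord_apply]
      rfl
    have h1 : φ (exteriorPower.map d ι ω') = 1 := by
      rw [hω]
      simp only [φ, exteriorPower.pairingDual_ιMulti_ιMulti]
      have : (Matrix.of fun i j => f j (B (Sum.inl i))) = (1 : Matrix (Fin d) (Fin d) R) := by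
        ext i j
        simp [hf, Matrix.one_apply, Finsupp.single_apply]
      rw [this, Matrix.det_one]
    have h2 : ψ z = 1 := by
      simp only [ψ, LinearMap.comp_apply]
      rw [hz]
      exact h1
    rw [hψ] at h2
    exact isUnit_iff_exists_inv.mpr ⟨ψ' z, by simpa using h2⟩
  have hx : exteriorPower.map d α.toLinearMap (exteriorPower.map d ι ω') ∈
      LinearMap.range (exteriorPower.map d ι) := by
    rw [← h]
    exact ⟨_, ⟨ω', rfl⟩, rfl⟩
  obtain ⟨z', hz'⟩ := hx
  have hb : ∀ (j' : J) (i : Fin d), B.coord (Sum.inr j') (α (B (Sum.inl i))) = 0 := by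
    intro j'
    set b : Fin d → R := fun i => B.coord (Sum.inr j') (α (B (Sum.inl i))) with hb
    have hcr : A.cramer b = 0 := by
      ext l
      rw [Matrix.cramer_apply, Pi.zero_apply]
      let φl : Module.Dual R (⋀[R]^d M) := exteriorPower.pairingDual R M d
        (exteriorPower.ιMulti R d (Function.update f l (B.coord (Sum.inr j'))))
      have h0 : φl ∘ₗ exteriorPower.map d ι = 0 := by
        apply exteriorPower.linearMap_ext
        ext n
        simp only [LinearMap.compAlternatingMap_apply, φl, LinearMap.comp_apply,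
          exteriorPower.map_apply_ιMulti, exteriorPower.pairingDual_ιMulti_ιMulti,
          LinearMap.zero_apply]
        apply Matrix.det_eq_zero_of_column_eq_zero l
        intro i
        simp only [Matrix.of_apply, Function.update_self, Function.comp_apply]
        exact coord_inr_comp e' B ι hι j' (n i)
      have h1 : φl (exteriorPower.map d α.toLinearMap (exteriorPower.map d ι ω')) = 0 := by
        rw [← hz']
        exact LinearMap.congr_fun h0 z'
      rw [hω, exteriorPower.map_apply_ιMulti] at h1
      simp only [φl, exteriorPower.pairingDual_ιMulti_ιMulti] at h1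
      rw [← h1]
      congr 1
      ext i j
      simp only [Matrix.updateCol_apply, Matrix.of_apply, Function.comp_apply,
        Function.update_apply, hA, hb]
      split_ifs <;> rfl
    have := Matrix.mulVec_cramer A b
    rw [hcr, Matrix.mulVec_zero] at this
    intro i
    have hi := congrFun this i
    simp only [Pi.zero_apply, Pi.smul_apply, smul_eq_mul] at hi
    exact hunit.mul_right_eq_zero.mp hi.symm
  have hmem : ∀ i, α (ι (e' i)) ∈ LinearMap.range ι := by
    intro i
    rw [hι]
    exact mem_range_of_coord e' B ι hι _ (fun j' => hb j' i)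
  have htop : (⊤ : Submodule R N) ≤
      Submodule.comap (α.toLinearMap ∘ₗ ι) (LinearMap.range ι) := by
    rw [← e'.span_eq, Submodule.span_le]
    rintro _ ⟨i, rfl⟩
    exact hmem i
  rintro _ ⟨_, ⟨y, rfl⟩, rfl⟩
  exact htop (Submodule.mem_top : y ∈ ⊤)

end general

theorem main (k : Type u) (V : Type v) (R : Type w) [Field k] [AddCommGroup V] [Module k V]
    [CommRing R] [Algebra k R] (W : Submodule k V) [Module.Finite k W] (d : ℕ)
    (hd : Module.finrank k W = d)
    (α : (R ⊗[k] V) ≃ₗ[R] (R ⊗[k] V)) :
    Submodule.map α.toLinearMap (LinearMap.range ((Submodule.subtype W).baseChange R)) = (LinearMap.range ((Submodule.subtype W).baseChange R)) ↔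
      Submodule.map (exteriorPower.map d α.toLinearMap) (LinearMap.range (exteriorPower.map d ((Submodule.subtype W).baseChange R))) = (LinearMap.range (exteriorPower.map d ((Submodule.subtype W).baseChange R))) := by
  constructor
  · exact map_range_eq _ α d
  · intro h
    obtain ⟨W', hW'⟩ := Submodule.exists_isCompl W
    let bW : Module.Basis (Fin d) k W := Module.finBasisOfFinrankEq k W hd
    let bW' := Module.Basis.ofVectorSpace k W'
    let bV : Module.Basis (Fin d ⊕ _) k V :=
      (bW.prod bW').map (Submodule.prodEquivOfIsCompl W W' hW')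
    have hbV : ∀ i, bV (Sum.inl i) = (bW i : V) := by
      intro i
      simp [bV, Submodule.coe_prodEquivOfIsCompl']
    let e' := Algebra.TensorProduct.basis R bW
    let B := Algebra.TensorProduct.basis R bV
    have hι : ∀ i, (W.subtype.baseChange R) (e' i) = B (Sum.inl i) := by
      intro i
      simp [e', B, Algebra.TensorProduct.basis_apply, hbV]
    have h' : Submodule.map (exteriorPower.map d α.symm.toLinearMap)
        (LinearMap.range (exteriorPower.map d ((Submodule.subtype W).baseChange R))) =
        (LinearMap.range (exteriorPower.map d ((Submodule.subtype W).baseChange R))) := by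
      conv_lhs => rw [← h]
      rw [← Submodule.map_comp, ← exteriorPower.map_comp]
      have : α.symm.toLinearMap ∘ₗ α.toLinearMap = LinearMap.id :=
        LinearMap.ext fun x => by simp
      rw [this, exteriorPower.map_id, Submodule.map_id]
    refine le_antisymm (key e' B _ hι α h) ?_
    intro x hx
    exact ⟨α.symm x, key e' B _ hι α.symm h' ⟨x, hx, rfl⟩, by simp⟩

end Groth.Agent.ExtLine9
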