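import Groth.Agent.Lib.ChevMinor_helper1
import Groth.Agent.Lib.ExtLine1_helper9

/-!
# The stabilizer of a subspace is the stabilizer of a line in an exterior power (helper1)

APPEND-ONLY once landed.
-/

set_option autoImplicit false
set_option maxHeartbeats 1000000
universe u
open TensorProduct WithConv

namespace ChevH1

section Line

variable (k A : Type u) [Field k] [CommRing A] [HopfAlgebra k A]
variable (V : Type u) [AddCommGroup V] [Module k V] [HopfRep.Comod k A V]
variable {n : ℕ} (b : Module.Basis (Fin n) k V) (d : ℕ)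
variable (R : Type u) [CommRing R] [Algebra k R]

omit [HopfRep.Comod k A V] in
theorem repr_Phi (x : ⋀[k]^d V) (S : Set.powersetCard (Fin n) d) :
    (BR k V b d R).repr (Phi k V b d R ((1 : R) ⊗ₜ[k] x)) S =
      algebraMap k R ((bE k V b d).repr x S) := by
  conv_lhs => rw [← (bE k V b d).sum_repr x]
  rw [TensorProduct.tmul_sum, map_sum, map_sum, Finsupp.finsetSum_apply]
  have h : ∀ S', (BR k V b d R).repr (Phi k V b d R ((1 : R) ⊗ₜ[k]
      ((bE k V b d).repr x S' • bE k V b d S'))) S =
      if S' = S then algebraMap k R ((bE k V b d).repr x S') else 0 := by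
    intro S'
    rw [TensorProduct.tmul_smul, TensorProduct.smul_tmul', Phi_tmul_basis, map_smul,
      Module.Basis.repr_self, Finsupp.smul_apply, Finsupp.single_apply]
    split_ifs <;> simp [Algebra.smul_def]
  simp only [h]
  rw [Finset.sum_ite_eq']
  simp

omit [HopfRep.Comod k A V] in
theorem Phi_ιMulti (v : Fin d → V) :
    Phi k V b d R ((1 : R) ⊗ₜ[k] exteriorPower.ιMulti k d v) =
      exteriorPower.ιMulti R d (fun i => (1 : R) ⊗ₜ[k] v i) := by
  apply (BR k V b d R).ext_elem
  intro S
  rw [repr_Phi, exteriorPower.basis_repr_apply, exteriorPower.basis_repr_apply,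
    exteriorPower.ιMultiDual_apply_ιMulti, exteriorPower.ιMultiDual_apply_ιMulti, RingHom.map_det]
  congr 1
  ext i j
  simp only [RingHom.mapMatrix_apply, Matrix.map_apply, Matrix.of_apply,
    Module.Basis.coord_apply]
  rw [Algebra.TensorProduct.basis_repr_tmul]
  simp

variable (W : Submodule k V) (bW : Module.Basis (Fin d) k W)

/-- the generator of the line `⋀^d W ⊆ ⋀^d V` -/
noncomputable def vline : ⋀[k]^d V := exteriorPower.ιMulti k d (fun i => (bW i : V))

/-- the generator of the line `⋀^d W_R ⊆ ⋀^d V_R` -/
noncomputable def omega : ⋀[R]^d (R ⊗[k] V) :=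
  exteriorPower.ιMulti R d (fun i => (1 : R) ⊗ₜ[k] (bW i : V))

omit [HopfRep.Comod k A V] in
theorem Phi_vline :
    Phi k V b d R ((1 : R) ⊗ₜ[k] vline k V d W bW) = omega k V d R W bW :=
  Phi_ιMulti k V b d R _

/-- the top subset -/
noncomputable def idS : Set.powersetCard (Fin d) d :=
  Set.powersetCard.ofFinEmbEquiv (RelEmbedding.refl _)

theorem ιMulti_family_idS {R M : Type*} [CommRing R] [AddCommGroup M] [Module R M]
    (v : Fin d → M) :
    exteriorPower.ιMulti_family R d v (idS d) = exteriorPower.ιMulti R d v := by
  unfold exteriorPower.ιMulti_family idS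
  rw [Equiv.symm_apply_apply]
  rfl

theorem subsingleton_top : Subsingleton (Set.powersetCard (Fin d) d) := by
  constructor
  intro S S'
  have h : ∀ T : Set.powersetCard (Fin d) d, (T : Finset (Fin d)) = Finset.univ := fun T =>
    (Finset.card_eq_iff_eq_univ _).mp (by rw [Set.powersetCard.card_eq, Fintype.card_fin])
  exact Subtype.ext ((h S).trans (h S').symm)

omit [HopfRep.Comod k A V] in
theorem vline_ne_zero : vline k V d W bW ≠ 0 := by
  have h1 : vline k V d W bW =
      exteriorPower.map d W.subtype (exteriorPower.ιMulti k d (fun i => bW i)) := by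
    rw [exteriorPower.map_apply_ιMulti]
    rfl
  have h2 : exteriorPower.ιMulti k d (fun i => bW i) = (bW.exteriorPower d) (idS d) := by
    rw [exteriorPower.basis_apply, ιMulti_family_idS]
  rw [h1, h2]
  intro h0
  exact (bW.exteriorPower d).ne_zero (idS d)
    (exteriorPower.map_injective_field (Submodule.injective_subtype W)
      (h0.trans (map_zero _).symm))

omit [HopfRep.Comod k A V] in
theorem range_map_eq_span :
    LinearMap.range (exteriorPower.map d (W.subtype.baseChange R)) =
      Submodule.span R {omega k V d R W bW} := by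
  have htop : Submodule.span R (Set.range (exteriorPower.ιMulti_family R d
      (Algebra.TensorProduct.basis R bW))) = ⊤ :=
    exteriorPower.ιMulti_family_span_of_span R (Algebra.TensorProduct.basis R bW).span_eq
  have hr : Set.range (exteriorPower.ιMulti_family R d (Algebra.TensorProduct.basis R bW)) =
      {exteriorPower.ιMulti R d (Algebra.TensorProduct.basis R bW)} := by
    ext x
    constructor
    · rintro ⟨S, rfl⟩
      haveI := subsingleton_top d
      rw [Subsingleton.elim S (idS d), ιMulti_family_idS]
      rfl
    · rintro rfl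
      exact ⟨idS d, ιMulti_family_idS d _⟩
  rw [LinearMap.range_eq_map, ← htop, hr, Submodule.map_span, Set.image_singleton,
    exteriorPower.map_apply_ιMulti]
  congr 2
  unfold omega
  congr 1
  ext i
  simp [Algebra.TensorProduct.basis_apply]

/-- `T (g⁻¹) ∘ T g = id` -/
theorem T_inv' (g : A →ₐ[k] R) :
    StabH1.T k A V R (g.comp (HopfAlgebra.antipodeAlgHom k A)) ∘ₗ StabH1.T k A V R g =
      LinearMap.id := by
  apply LinearMap.ext
  intro z
  rw [LinearMap.comp_apply, StabH1.T_comp]
  have h : ofConv (toConv (g.comp (HopfAlgebra.antipodeAlgHom k A)) * toConv g) =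
      ofConv (1 : WithConv (A →ₐ[k] R)) := Groth.Agent.Lib.HopfFFH1.ci_cm g
  rw [h, StabH1.T_one]
  rfl

/-- the action of `g` as a linear equivalence -/
noncomputable def Teq (g : A →ₐ[k] R) : (R ⊗[k] V) ≃ₗ[R] (R ⊗[k] V) :=
  LinearEquiv.ofLinearMap (StabH1.T k A V R g)
    (StabH1.T k A V R (g.comp (HopfAlgebra.antipodeAlgHom k A)))
    (StabH1.T_inv k A V R g) (T_inv' k A V R g)

theorem stabLine_iff_omega (g : A →ₐ[k] R) :
    @SGA3.StabilizesLine k _ A _ _ (⋀[k]^d V) _ _ (extComod k A V b d) (vline k V d W bW) R _ _ g ↔
      ∃ c : R, exteriorPower.map d (StabH1.T k A V R g) (omega k V d R W bW) =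
        c • omega k V d R W bW := by
  letI := extComod k A V b d
  have hT : ∀ c : R, (StabH1.T k A (⋀[k]^d V) R g ((1 : R) ⊗ₜ[k] vline k V d W bW) =
      c ⊗ₜ[k] vline k V d W bW) ↔
      exteriorPower.map d (StabH1.T k A V R g) (omega k V d R W bW) =
        c • omega k V d R W bW := by
    intro c
    have e1 : c ⊗ₜ[k] vline k V d W bW = c • ((1 : R) ⊗ₜ[k] vline k V d W bW) := by
      rw [TensorProduct.smul_tmul', smul_eq_mul, mul_one]
    rw [e1, ← Phi_vline k V b d R W bW, ← Phi_T, ← map_smul]
    exact (Phi k V b d R).injective.eq_iff.symm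
  constructor
  · rintro ⟨c, hc⟩
    refine ⟨c, (hT c).mp ?_⟩
    rw [StabH1.T_tmul, one_smul, StabH1.tau_apply]
    have : StabH1.rho k A (⋀[k]^d V) (vline k V d W bW) =
        HopfRep.Comod.coact (k := k) (A := A) (vline k V d W bW) := rfl
    rw [this, hc, TensorProduct.comm_tmul]
  · rintro ⟨c, hc⟩
    refine ⟨c, ?_⟩
    have h := (hT c).mpr hc
    rw [StabH1.T_tmul, one_smul, StabH1.tau_apply] at h
    apply (TensorProduct.comm k (⋀[k]^d V) R).injective
    rw [TensorProduct.comm_tmul]
    exact h

omit [HopfRep.Comod k A V] in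
theorem exists_repr_ne_zero :
    ∃ S, (bE k V b d).repr (vline k V d W bW) S ≠ 0 := by
  by_contra h
  push Not at h
  apply vline_ne_zero k V d W bW
  apply (bE k V b d).repr.injective
  rw [map_zero]
  ext S
  exact h S

include b in
theorem omega_iff_map_eq (g : A →ₐ[k] R) :
    (∃ c : R, exteriorPower.map d (StabH1.T k A V R g) (omega k V d R W bW) =
        c • omega k V d R W bW) ↔
      Submodule.map (exteriorPower.map d (Teq k A V R g).toLinearMap)
        (LinearMap.range (exteriorPower.map d (W.subtype.baseChange R))) =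
        LinearMap.range (exteriorPower.map d (W.subtype.baseChange R)) := by
  rw [range_map_eq_span k V d R W bW]
  have hTeq : (Teq k A V R g).toLinearMap = StabH1.T k A V R g := rfl
  rw [hTeq]
  constructor
  · rintro ⟨c, hc⟩
    -- `c` is a unit
    obtain ⟨S, hS⟩ := exists_repr_ne_zero k V b d W bW
    have hu : IsUnit (algebraMap k R ((bE k V b d).repr (vline k V d W bW) S)) :=
      (isUnit_iff_ne_zero.mpr hS).map _
    have hω : (BR k V b d R).repr (omega k V d R W bW) S =
        algebraMap k R ((bE k V b d).repr (vline k V d W bW) S) := by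
      rw [← Phi_vline k V b d R W bW, repr_Phi]
    have hback : exteriorPower.map d (Teq k A V R g).symm.toLinearMap
        (exteriorPower.map d (StabH1.T k A V R g) (omega k V d R W bW)) = omega k V d R W bW := by
      rw [← hTeq, ← LinearMap.comp_apply, ← exteriorPower.map_comp]
      have : (Teq k A V R g).symm.toLinearMap ∘ₗ (Teq k A V R g).toLinearMap = LinearMap.id :=
        LinearMap.ext fun x => by simp
      rw [this, exteriorPower.map_id, LinearMap.id_apply]
    rw [hc, map_smul] at hback
    have hc' : IsUnit c := by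
      have h1 := congrArg (fun y => (BR k V b d R).repr y S) hback
      simp only [map_smul, Finsupp.smul_apply, smul_eq_mul] at h1
      rw [hω] at h1
      rw [← h1] at hu
      exact isUnit_of_mul_isUnit_left hu
    rw [Submodule.map_span, Set.image_singleton, hc, Submodule.span_singleton_smul_eq hc']
  · intro h
    have hmem : exteriorPower.map d (StabH1.T k A V R g) (omega k V d R W bW) ∈
        Submodule.map (exteriorPower.map d (StabH1.T k A V R g))
          (Submodule.span R {omega k V d R W bW}) :=
      ⟨_, Submodule.subset_span rfl, rfl⟩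
    rw [h] at hmem
    obtain ⟨c, hc⟩ := Submodule.mem_span_singleton.mp hmem
    exact ⟨c, hc.symm⟩

theorem P_iff_map_eq [Module.Finite k V] (g : A →ₐ[k] R) :
    StabH1.P k A V R W g ↔
      Submodule.map (Teq k A V R g).toLinearMap (LinearMap.range (W.subtype.baseChange R)) =
        LinearMap.range (W.subtype.baseChange R) := by
  have hTeq : (Teq k A V R g).toLinearMap = StabH1.T k A V R g := rfl
  rw [hTeq]
  constructor
  · intro h
    have h1 := (StabH1.P_iff k A V R W g).mp h
    have h2 := (StabH1.P_iff k A V R W _).mp (StabH1.P_inv k A V R W g h)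
    apply le_antisymm
    · rintro _ ⟨x, hx, rfl⟩
      exact h1 x hx
    · intro x hx
      refine ⟨_, h2 x hx, ?_⟩
      exact LinearMap.congr_fun (StabH1.T_inv k A V R g) x
  · intro h
    apply (StabH1.P_iff k A V R W g).mpr
    intro x hx
    have : StabH1.T k A V R g x ∈ Submodule.map (StabH1.T k A V R g)
        (LinearMap.range (W.subtype.baseChange R)) := ⟨x, hx, rfl⟩
    rw [h] at this
    exact this

theorem stabLine_iff_P [Module.Finite k V] (g : A →ₐ[k] R) :
    @SGA3.StabilizesLine k _ A _ _ (⋀[k]^d V) _ _ (extComod k A V b d) (vline k V d W bW) R _ _ g ↔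
      StabH1.P k A V R W g := by
  haveI : Module.Finite k W := Module.Finite.of_basis bW
  have hd : Module.finrank k W = d := by
    rw [Module.finrank_eq_card_basis bW, Fintype.card_fin]
  exact (stabLine_iff_omega k A V b d R W bW g).trans
    ((omega_iff_map_eq k A V b d R W bW g).trans
      ((Groth.Agent.ExtLine9.main k V R W d hd (Teq k A V R g)).symm.trans
        (P_iff_map_eq k A V R W g).symm))

end Line

section Exists

variable (k A : Type u) [Field k] [CommRing A] [HopfAlgebra k A]
variable (V : Type u) [AddCommGroup V] [Module k V] [HopfRep.Comod k A V] [Module.Finite k V]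

/-- The stabilizer of a subspace of a finite-dimensional comodule is the stabilizer of a line in
another finite-dimensional comodule. -/
theorem exists_line (W : Submodule k V) :
    ∃ (E : Type u) (_ : AddCommGroup E) (_ : Module k E) (_ : HopfRep.Comod k A E)
      (_ : Module.Finite k E) (v : E), v ≠ 0 ∧
      ∀ (R : Type u) [CommRing R] [Algebra k R] (g : A →ₐ[k] R),
        SGA3.StabilizesLine k A v R g ↔ StabH1.P k A V R W g :=
  ⟨⋀[k]^(Module.finrank k W) V, inferInstance, inferInstance,
    extComod k A V (Module.finBasis k V) (Module.finrank k W), inferInstance,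
    vline k V (Module.finrank k W) W (Module.finBasis k W),
    vline_ne_zero k V (Module.finrank k W) W (Module.finBasis k W),
    fun R _ _ g => stabLine_iff_P k A V (Module.finBasis k V) (Module.finrank k W) R W
      (Module.finBasis k W) g⟩

end Exists

end ChevH1
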