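import Mathlib

/-!
# Points of commutative Hopf algebras, twists, and flatness transfer (helper1)

`cm`, `c1`, `ci`: the group structure on `X →ₐ[k] C` (points of the affine group `Spec X` with
values in `C`), for an arbitrary commutative `k`-algebra `C`.
-/

set_option autoImplicit false
set_option maxHeartbeats 1000000

namespace Groth.Agent.Lib.HopfFFH1

open TensorProduct WithConv

section Basic

variable {k : Type*} [CommRing k]
variable {A B C : Type*} [CommRing A] [CommRing B] [CommRing C]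
  [Algebra k A] [Algebra k B] [Algebra k C]

theorem tensor_algHom_ext {f g : A ⊗[k] B →ₐ[k] C}
    (h1 : f.comp Algebra.TensorProduct.includeLeft = g.comp Algebra.TensorProduct.includeLeft)
    (h2 : f.comp Algebra.TensorProduct.includeRight = g.comp Algebra.TensorProduct.includeRight) :
    f = g :=
  Algebra.TensorProduct.ext h1 h2

end Basic

section Points

variable {k : Type*} [CommRing k]
variable {X : Type*} [CommRing X] [HopfAlgebra k X]
variable {Y : Type*} [CommRing Y] [HopfAlgebra k Y]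
variable {C : Type*} [CommRing C] [Algebra k C]
variable {D : Type*} [CommRing D] [Algebra k D]

/-- product of points -/
noncomputable def cm (g h : X →ₐ[k] C) : X →ₐ[k] C := (toConv g * toConv h).ofConv

/-- the unit point -/
noncomputable def c1 : X →ₐ[k] C := (1 : WithConv (X →ₐ[k] C)).ofConv

/-- the inverse of a point -/
noncomputable def ci (g : X →ₐ[k] C) : X →ₐ[k] C := g.comp (HopfAlgebra.antipodeAlgHom k X)

theorem cm_assoc (a b c : X →ₐ[k] C) : cm (cm a b) c = cm a (cm b c) := by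
  simp only [cm, toConv_ofConv, mul_assoc]

theorem c1_cm (a : X →ₐ[k] C) : cm c1 a = a := by
  simp only [cm, c1, toConv_ofConv, one_mul, ofConv_toConv]

theorem cm_c1 (a : X →ₐ[k] C) : cm a c1 = a := by
  simp only [cm, c1, toConv_ofConv, mul_one, ofConv_toConv]

theorem c1_apply (x : X) : (c1 : X →ₐ[k] C) x = algebraMap k C (Coalgebra.counit x) := rfl

theorem comp_cm (h : C →ₐ[k] D) (a b : X →ₐ[k] C) :
    h.comp (cm a b) = cm (h.comp a) (h.comp b) :=
  AlgHom.comp_convMul_distrib h (toConv a) (toConv b)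

theorem cm_comp (φ : Y →ₐc[k] X) (a b : X →ₐ[k] C) :
    (cm a b).comp (φ : Y →ₐ[k] X) = cm (a.comp (φ : Y →ₐ[k] X)) (b.comp (φ : Y →ₐ[k] X)) :=
  AlgHom.convMul_comp_bialgHom_distrib (toConv a) (toConv b) φ

theorem comp_c1 (h : C →ₐ[k] D) : h.comp (c1 : X →ₐ[k] C) = c1 := by
  ext x
  simp [c1_apply]

theorem c1_comp (φ : Y →ₐc[k] X) : (c1 : X →ₐ[k] C).comp (φ : Y →ₐ[k] X) = c1 := by
  ext x
  simp [c1_apply]

theorem comp_ci (h : C →ₐ[k] D) (g : X →ₐ[k] C) : h.comp (ci g) = ci (h.comp g) := rfl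

theorem cm_antipode_id :
    cm (HopfAlgebra.antipodeAlgHom k X) (AlgHom.id k X) = c1 := by
  apply AlgHom.toLinearMap_injective
  apply WithConv.toConv_injective
  simp only [cm, c1]
  rw [AlgHom.toLinearMap_convMul, AlgHom.toLinearMap_convOne]
  simp [LinearMap.antipode_mul_id]

theorem cm_id_antipode :
    cm (AlgHom.id k X) (HopfAlgebra.antipodeAlgHom k X) = c1 := by
  apply AlgHom.toLinearMap_injective
  apply WithConv.toConv_injective
  simp only [cm, c1]
  rw [AlgHom.toLinearMap_convMul, AlgHom.toLinearMap_convOne]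
  simp [LinearMap.id_mul_antipode]

theorem ci_cm (g : X →ₐ[k] C) : cm (ci g) g = c1 := by
  have := comp_cm g (HopfAlgebra.antipodeAlgHom k X) (AlgHom.id k X)
  rw [cm_antipode_id, comp_c1, AlgHom.comp_id] at this
  exact this.symm

theorem cm_ci (g : X →ₐ[k] C) : cm g (ci g) = c1 := by
  have := comp_cm g (AlgHom.id k X) (HopfAlgebra.antipodeAlgHom k X)
  rw [cm_id_antipode, comp_c1, AlgHom.comp_id] at this
  exact this.symm

theorem cm_cm_ci (a b : X →ₐ[k] C) : cm (cm a b) (ci b) = a := by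
  rw [cm_assoc, cm_ci, cm_c1]

theorem cm_ci_cm (a b : X →ₐ[k] C) : cm (cm a (ci b)) b = a := by
  rw [cm_assoc, ci_cm, cm_c1]

theorem ci_cm_cm (a b : X →ₐ[k] C) : cm (ci a) (cm a b) = b := by
  rw [← cm_assoc, ci_cm, c1_cm]

theorem cm_ci_cm' (a b : X →ₐ[k] C) : cm a (cm (ci a) b) = b := by
  rw [← cm_assoc, cm_ci, c1_cm]

theorem eq_ci_of_cm_eq_c1 (a b : X →ₐ[k] C) (h : cm a b = c1) : a = ci b := by
  have := cm_cm_ci a b
  rw [h, c1_cm] at this
  exact this.symm

theorem ci_comp (φ : Y →ₐc[k] X) (g : X →ₐ[k] C) :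
    (ci g).comp (φ : Y →ₐ[k] X) = ci (g.comp (φ : Y →ₐ[k] X)) := by
  apply eq_ci_of_cm_eq_c1
  rw [← cm_comp, ci_cm, c1_comp]

theorem ci_c1 : ci (c1 : X →ₐ[k] C) = c1 := by
  have := ci_cm (c1 : X →ₐ[k] C)
  rwa [cm_c1] at this

theorem ci_ci (g : X →ₐ[k] C) : ci (ci g) = g := by
  symm
  apply eq_ci_of_cm_eq_c1
  exact cm_ci g

/-- A bialgebra map commutes with the antipode. -/
theorem antipode_comp_bialgHom (φ : Y →ₐc[k] X) :
    (HopfAlgebra.antipodeAlgHom k X).comp (φ : Y →ₐ[k] X) =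
      (φ : Y →ₐ[k] X).comp (HopfAlgebra.antipodeAlgHom k Y) := by
  have h := ci_comp (C := X) φ (AlgHom.id k X)
  rw [AlgHom.id_comp] at h
  exact h

theorem antipode_bialgHom_apply (φ : Y →ₐc[k] X) (y : Y) :
    HopfAlgebra.antipode k (φ y) = φ (HopfAlgebra.antipode k y) :=
  congrArg (fun g : Y →ₐ[k] X => g y) (antipode_comp_bialgHom φ)

theorem cm_incL_incR :
    cm (Algebra.TensorProduct.includeLeft : X →ₐ[k] X ⊗[k] X)
      Algebra.TensorProduct.includeRight = Bialgebra.comulAlgHom k X := by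
  have h : (Algebra.TensorProduct.lmul' k).comp
      (Algebra.TensorProduct.map (Algebra.TensorProduct.includeLeft : X →ₐ[k] X ⊗[k] X)
        Algebra.TensorProduct.includeRight) = AlgHom.id k _ := by
    apply tensor_algHom_ext <;> ext x <;> simp
  simp only [cm, AlgHom.convMul_def, ofConv_toConv]
  rw [← AlgHom.comp_assoc, h, AlgHom.id_comp]

end Points

section Twist

variable {k : Type*} [CommRing k]
variable {X : Type*} [CommRing X] [HopfAlgebra k X]
variable {P : Type*} [CommRing P] [Algebra k P]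

local notation "iL" => (Algebra.TensorProduct.includeLeft : X →ₐ[k] X ⊗[k] P)
local notation "iR" => (Algebra.TensorProduct.includeRight : P →ₐ[k] X ⊗[k] P)
local notation "jL" => (Algebra.TensorProduct.includeLeft : P →ₐ[k] P ⊗[k] X)
local notation "jR" => (Algebra.TensorProduct.includeRight : X →ₐ[k] P ⊗[k] X)

/-- `x ⊗ p ↦ x₁ ⊗ u(x₂) p` -/
noncomputable def twistL (u : X →ₐ[k] P) : X ⊗[k] P →ₐ[k] X ⊗[k] P :=
  Algebra.TensorProduct.productMap (cm iL ((iR).comp u)) iR

theorem twistL_comp_incL (u : X →ₐ[k] P) : (twistL u).comp iL = cm iL ((iR).comp u) :=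
  Algebra.TensorProduct.productMap_left _ _

theorem twistL_comp_incR (u : X →ₐ[k] P) : (twistL u).comp iR = iR :=
  Algebra.TensorProduct.productMap_right _ _

theorem twistL_ci_comp_twistL (u : X →ₐ[k] P) :
    (twistL (ci u)).comp (twistL u) = AlgHom.id k _ := by
  apply tensor_algHom_ext
  · rw [AlgHom.comp_assoc, twistL_comp_incL, comp_cm, twistL_comp_incL, ← AlgHom.comp_assoc,
      twistL_comp_incR, comp_ci, cm_ci_cm, AlgHom.id_comp]
  · rw [AlgHom.comp_assoc, twistL_comp_incR, twistL_comp_incR, AlgHom.id_comp]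

theorem twistL_comp_twistL_ci (u : X →ₐ[k] P) :
    (twistL u).comp (twistL (ci u)) = AlgHom.id k _ := by
  have := twistL_ci_comp_twistL (ci u)
  rwa [ci_ci] at this

theorem twistL_bijective (u : X →ₐ[k] P) : Function.Bijective (twistL u) := by
  refine Function.bijective_iff_has_inverse.mpr ⟨twistL (ci u), fun x => ?_, fun x => ?_⟩
  · exact congrArg (fun g : X ⊗[k] P →ₐ[k] X ⊗[k] P => g x) (twistL_ci_comp_twistL u)
  · exact congrArg (fun g : X ⊗[k] P →ₐ[k] X ⊗[k] P => g x) (twistL_comp_twistL_ci u)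

/-- `p ⊗ x ↦ p u(x₁) ⊗ x₂` -/
noncomputable def twistR (u : X →ₐ[k] P) : P ⊗[k] X →ₐ[k] P ⊗[k] X :=
  Algebra.TensorProduct.productMap jL (cm ((jL).comp u) jR)

theorem twistR_comp_incL (u : X →ₐ[k] P) : (twistR u).comp jL = jL :=
  Algebra.TensorProduct.productMap_left _ _

theorem twistR_comp_incR (u : X →ₐ[k] P) : (twistR u).comp jR = cm ((jL).comp u) jR :=
  Algebra.TensorProduct.productMap_right _ _

theorem twistR_ci_comp_twistR (u : X →ₐ[k] P) :
    (twistR (ci u)).comp (twistR u) = AlgHom.id k _ := by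
  apply tensor_algHom_ext
  · rw [AlgHom.comp_assoc, twistR_comp_incL, twistR_comp_incL, AlgHom.id_comp]
  · rw [AlgHom.comp_assoc, twistR_comp_incR, comp_cm, twistR_comp_incR, ← AlgHom.comp_assoc,
      twistR_comp_incL, comp_ci, cm_ci_cm', AlgHom.id_comp]

theorem twistR_comp_twistR_ci (u : X →ₐ[k] P) :
    (twistR u).comp (twistR (ci u)) = AlgHom.id k _ := by
  have := twistR_ci_comp_twistR (ci u)
  rwa [ci_ci] at this

theorem twistR_bijective (u : X →ₐ[k] P) : Function.Bijective (twistR u) := by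
  refine Function.bijective_iff_has_inverse.mpr ⟨twistR (ci u), fun x => ?_, fun x => ?_⟩
  · exact congrArg (fun g : P ⊗[k] X →ₐ[k] P ⊗[k] X => g x) (twistR_ci_comp_twistR u)
  · exact congrArg (fun g : P ⊗[k] X →ₐ[k] P ⊗[k] X => g x) (twistR_comp_twistR_ci u)

end Twist

end Groth.Agent.Lib.HopfFFH1
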