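import Groth.Agent.Lib.Stab_helper1
import Groth.Agent.Lib.HopfPts_helper1
import Groth.Prelude.Def_SGA3

/-!
# Exterior powers of a finite-dimensional comodule via minors (helper1)

For a comodule `V` over a commutative Hopf algebra `A` over a field with a finite basis `b`, the
`d`-th exterior power `⋀^d V` is a comodule whose matrix in the basis `b.exteriorPower d` consists
of the `d × d` minors of the matrix of `V`.  The comodule axioms (Cauchy–Binet) are obtained from
functoriality of exterior powers over `A ⊗ A`.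

APPEND-ONLY once landed.
-/

set_option autoImplicit false
set_option maxHeartbeats 1000000
universe u
open TensorProduct WithConv

namespace ChevH1

section MatComod

variable {k : Type*} [CommRing k] {A : Type*} [AddCommGroup A] [Module k A] [Coalgebra k A]
  {E : Type*} [AddCommGroup E] [Module k E] {ι : Type*} [Fintype ι] [DecidableEq ι]

/-- the coaction with matrix `m` in the basis `β`: `β j ↦ Σ_i β i ⊗ m i j` -/
noncomputable def matCoact (β : Module.Basis ι k E) (m : ι → ι → A) : E →ₗ[k] E ⊗[k] A :=
  β.constr k (fun j => ∑ i, β i ⊗ₜ[k] m i j)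

omit [Coalgebra k A] [DecidableEq ι] in
theorem matCoact_basis (β : Module.Basis ι k E) (m : ι → ι → A) (j : ι) :
    matCoact β m (β j) = ∑ i, β i ⊗ₜ[k] m i j :=
  β.constr_basis k _ j

/-- a matrix with `Δ(m i j) = Σ_l m i l ⊗ m l j`, `ε(m i j) = δ_ij` defines a comodule -/
@[reducible] noncomputable def comodOfMatrix (β : Module.Basis ι k E) (m : ι → ι → A)
    (hΔ : ∀ i j, CoalgebraStruct.comul (R := k) (m i j) = ∑ l, m i l ⊗ₜ[k] m l j)
    (hε : ∀ i j, CoalgebraStruct.counit (R := k) (m i j) = if i = j then 1 else 0) :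
    HopfRep.Comod k A E where
  coact := matCoact β m
  coassoc := by
    apply β.ext
    intro j
    simp only [LinearMap.comp_apply, LinearEquiv.coe_coe, matCoact_basis, map_sum,
      LinearMap.rTensor_tmul, TensorProduct.sum_tmul, TensorProduct.assoc_tmul,
      LinearMap.lTensor_tmul, hΔ, TensorProduct.tmul_sum]
    rw [Finset.sum_comm]
  counit_comp := by
    apply β.ext
    intro j
    simp only [LinearMap.comp_apply, matCoact_basis, map_sum, LinearMap.lTensor_tmul, hε,
      LinearMap.flip_apply, TensorProduct.mk_apply]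
    rw [Finset.sum_eq_single j]
    · simp
    · intro i _ hij
      simp [hij]
    · intro h
      exact absurd (Finset.mem_univ j) h

end MatComod

section Coef

variable {k : Type*} [Field k] {A : Type*} [AddCommGroup A] [Module k A]
  {V : Type*} [AddCommGroup V] [Module k V] {ι : Type*} [Fintype ι]

/-- coefficient extraction: `y = Σ_i b i ⊗ coef b i y` -/
noncomputable def coef (b : Module.Basis ι k V) (i : ι) : V ⊗[k] A →ₗ[k] A :=
  (TensorProduct.lid k A).toLinearMap ∘ₗ (b.coord i).rTensor A

theorem coef_tmul (b : Module.Basis ι k V) (i : ι) (v : V) (a : A) :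
    coef b i (v ⊗ₜ[k] a) = b.repr v i • a := by
  simp [coef]

theorem sum_coef (b : Module.Basis ι k V) (y : V ⊗[k] A) :
    ∑ i, b i ⊗ₜ[k] coef b i y = y := by
  induction y using TensorProduct.induction_on with
  | zero => simp
  | add x y hx hy =>
    simp only [map_add, TensorProduct.tmul_add, Finset.sum_add_distrib, hx, hy]
  | tmul v a =>
    simp only [coef_tmul]
    conv_rhs => rw [← b.sum_repr v]
    rw [TensorProduct.sum_tmul]
    refine Finset.sum_congr rfl fun i _ => ?_
    rw [TensorProduct.tmul_smul, TensorProduct.smul_tmul']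

end Coef

section Minor

variable (k A : Type u) [Field k] [CommRing A] [HopfAlgebra k A]
variable (V : Type u) [AddCommGroup V] [Module k V] [HopfRep.Comod k A V]
variable {n : ℕ} (b : Module.Basis (Fin n) k V) (d : ℕ)

/-- the matrix of the comodule `V` in the basis `b` -/
noncomputable def amat (i j : Fin n) : A := coef b i (StabH1.rho k A V (b j))

theorem rho_basis (j : Fin n) :
    StabH1.rho k A V (b j) = ∑ i, b i ⊗ₜ[k] amat k A V b i j :=
  (sum_coef b _).symm

variable (R : Type u) [CommRing R] [Algebra k R]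

/-- the base-changed basis -/
noncomputable abbrev bR : Module.Basis (Fin n) R (R ⊗[k] V) := Algebra.TensorProduct.basis R b

theorem tau_basis (g : A →ₐ[k] R) (j : Fin n) :
    StabH1.tau k A V R g (b j) = ∑ i, g (amat k A V b i j) ⊗ₜ[k] b i := by
  rw [StabH1.tau_apply, rho_basis, map_sum, map_sum]
  refine Finset.sum_congr rfl fun i _ => ?_
  rw [LinearMap.lTensor_tmul, TensorProduct.comm_tmul]
  rfl

theorem T_bR (g : A →ₐ[k] R) (j : Fin n) :
    StabH1.T k A V R g (bR k V b R j) = ∑ i, g (amat k A V b i j) • bR k V b R i := by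
  rw [Algebra.TensorProduct.basis_apply, StabH1.T_tmul, one_smul, tau_basis]
  refine Finset.sum_congr rfl fun i _ => ?_
  rw [Algebra.TensorProduct.basis_apply, TensorProduct.smul_tmul', smul_eq_mul, mul_one]

theorem repr_T_bR (g : A →ₐ[k] R) (i j : Fin n) :
    (bR k V b R).repr (StabH1.T k A V R g (bR k V b R j)) i = g (amat k A V b i j) := by
  rw [T_bR]
  exact congrFun (Module.Basis.repr_sum_self _ _) i

/-- the increasing enumeration of a `d`-subset -/
noncomputable def sig (S : Set.powersetCard (Fin n) d) : Fin d ↪o Fin n :=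
  Set.powersetCard.ofFinEmbEquiv.symm S

/-- the `d × d` minors of the matrix of `V` -/
noncomputable def minor (S' S : Set.powersetCard (Fin n) d) : A :=
  Matrix.det (Matrix.of fun i j : Fin d => amat k A V b (sig d S' j) (sig d S i))

/-- the basis of `⋀^d (R ⊗ V)` -/
noncomputable abbrev BR : Module.Basis (Set.powersetCard (Fin n) d) R (⋀[R]^d (R ⊗[k] V)) :=
  (bR k V b R).exteriorPower d

theorem repr_map_T (g : A →ₐ[k] R) (S' S : Set.powersetCard (Fin n) d) :
    (BR k V b d R).repr (exteriorPower.map d (StabH1.T k A V R g) (BR k V b d R S)) S' =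
      g (minor k A V b d S' S) := by
  rw [exteriorPower.basis_repr_apply, exteriorPower.basis_apply, exteriorPower.ιMulti_family,
    exteriorPower.map_apply_ιMulti, exteriorPower.ιMultiDual_apply_ιMulti]
  unfold minor
  rw [AlgHom.map_det]
  congr 1
  ext i j
  simp only [Matrix.of_apply, Function.comp_apply, Module.Basis.coord_apply, AlgHom.mapMatrix_apply,
    Matrix.map_apply]
  exact repr_T_bR k A V b R g _ _

theorem map_T_BR (g : A →ₐ[k] R) (S : Set.powersetCard (Fin n) d) :
    exteriorPower.map d (StabH1.T k A V R g) (BR k V b d R S) =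
      ∑ S', g (minor k A V b d S' S) • BR k V b d R S' := by
  conv_lhs => rw [← (BR k V b d R).sum_repr (exteriorPower.map d (StabH1.T k A V R g)
    (BR k V b d R S))]
  exact Finset.sum_congr rfl fun S' _ => by rw [repr_map_T]

theorem comul_minor (S' S : Set.powersetCard (Fin n) d) :
    CoalgebraStruct.comul (R := k) (minor k A V b d S' S) =
      ∑ U, minor k A V b d S' U ⊗ₜ[k] minor k A V b d U S := by
  have hg : ofConv (toConv (Algebra.TensorProduct.includeLeft : A →ₐ[k] A ⊗[k] A) *
      toConv (Algebra.TensorProduct.includeRight : A →ₐ[k] A ⊗[k] A)) =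
      Bialgebra.comulAlgHom k A := Groth.Agent.Lib.HopfFFH1.cm_incL_incR
  have hT : StabH1.T k A V (A ⊗[k] A) (Bialgebra.comulAlgHom k A) =
      (StabH1.T k A V (A ⊗[k] A) Algebra.TensorProduct.includeLeft) ∘ₗ
        (StabH1.T k A V (A ⊗[k] A) Algebra.TensorProduct.includeRight) := by
    apply LinearMap.ext
    intro z
    rw [LinearMap.comp_apply, StabH1.T_comp, hg]
  have h := repr_map_T k A V b d (A ⊗[k] A) (Bialgebra.comulAlgHom k A) S' S
  rw [hT, exteriorPower.map_comp, LinearMap.comp_apply, map_T_BR, map_sum, map_sum,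
    Finsupp.finset_sum_apply] at h
  rw [Bialgebra.comulAlgHom_apply] at h
  rw [← h]
  refine Finset.sum_congr rfl fun U _ => ?_
  rw [map_smul, map_smul, Finsupp.smul_apply, repr_map_T, smul_eq_mul,
    Algebra.TensorProduct.includeLeft_apply, Algebra.TensorProduct.includeRight_apply,
    Algebra.TensorProduct.tmul_mul_tmul, one_mul, mul_one]

theorem counit_minor (S' S : Set.powersetCard (Fin n) d) :
    CoalgebraStruct.counit (R := k) (minor k A V b d S' S) = if S' = S then 1 else 0 := by
  have h := repr_map_T k A V b d k (ofConv (1 : WithConv (A →ₐ[k] k))) S' S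
  have hT : StabH1.T k A V k (ofConv (1 : WithConv (A →ₐ[k] k))) = LinearMap.id :=
    LinearMap.ext (StabH1.T_one k A V k)
  rw [hT, exteriorPower.map_id, LinearMap.id_apply, Module.Basis.repr_self,
    Finsupp.single_apply] at h
  have h2 : (ofConv (1 : WithConv (A →ₐ[k] k))) (minor k A V b d S' S) =
      CoalgebraStruct.counit (R := k) (minor k A V b d S' S) := by
    rw [AlgHom.convOne_def]
    simp
  rw [← h2, ← h]
  by_cases hS : S' = S
  · simp [hS]
  · have hS' : ¬ S = S' := fun h => hS h.symm
    simp [hS, hS']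

/-- the basis of `⋀^d V` -/
noncomputable abbrev bE : Module.Basis (Set.powersetCard (Fin n) d) k (⋀[k]^d V) :=
  b.exteriorPower d

/-- the comodule structure on `⋀^d V` -/
@[reducible] noncomputable def extComod : HopfRep.Comod k A (⋀[k]^d V) :=
  comodOfMatrix (bE k V b d) (minor k A V b d) (comul_minor k A V b d) (counit_minor k A V b d)

theorem extComod_coact_basis (S : Set.powersetCard (Fin n) d) :
    (extComod k A V b d).coact (bE k V b d S) =
      ∑ S', bE k V b d S' ⊗ₜ[k] minor k A V b d S' S :=
  matCoact_basis _ _ S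

/-- the comparison isomorphism `R ⊗ ⋀^d V ≃ ⋀^d_R (R ⊗ V)` -/
noncomputable def Phi : R ⊗[k] (⋀[k]^d V) ≃ₗ[R] ⋀[R]^d (R ⊗[k] V) :=
  (Algebra.TensorProduct.basis R (bE k V b d)).equiv (BR k V b d R) (Equiv.refl _)

theorem Phi_tmul_basis (r : R) (S : Set.powersetCard (Fin n) d) :
    Phi k V b d R (r ⊗ₜ[k] bE k V b d S) = r • BR k V b d R S := by
  have h : r ⊗ₜ[k] bE k V b d S = r • (Algebra.TensorProduct.basis R (bE k V b d) S) := by
    rw [Algebra.TensorProduct.basis_apply, TensorProduct.smul_tmul', smul_eq_mul, mul_one]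
  rw [h, map_smul, Phi, Module.Basis.equiv_apply]
  rfl

theorem Phi_T (g : A →ₐ[k] R) (z : R ⊗[k] (⋀[k]^d V)) :
    Phi k V b d R (@StabH1.T k A _ _ _ (⋀[k]^d V) _ _ (extComod k A V b d) R _ _ g z) =
      exteriorPower.map d (StabH1.T k A V R g) (Phi k V b d R z) := by
  letI := extComod k A V b d
  suffices h : (Phi k V b d R).toLinearMap ∘ₗ StabH1.T k A (⋀[k]^d V) R g =
      (exteriorPower.map d (StabH1.T k A V R g)) ∘ₗ (Phi k V b d R).toLinearMap from
    LinearMap.congr_fun h z
  apply (Algebra.TensorProduct.basis R (bE k V b d)).ext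
  intro S
  simp only [LinearMap.comp_apply, LinearEquiv.coe_coe]
  rw [Algebra.TensorProduct.basis_apply, StabH1.T_tmul, one_smul, StabH1.tau_apply]
  have hρ : StabH1.rho k A (⋀[k]^d V) (bE k V b d S) =
      ∑ S', bE k V b d S' ⊗ₜ[k] minor k A V b d S' S := extComod_coact_basis k A V b d S
  rw [hρ, map_sum, map_sum, map_sum, Phi_tmul_basis, one_smul, map_T_BR]
  refine Finset.sum_congr rfl fun S' _ => ?_
  rw [LinearMap.lTensor_tmul, TensorProduct.comm_tmul, Phi_tmul_basis]
  rfl

end Minor

end ChevH1
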