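import Groth.Agent.Lib.ComodDual_helper9
import Groth.Prelude.Def_ComodSub
import Mathlib.LinearAlgebra.Basis.VectorSpace
import Mathlib.LinearAlgebra.FiniteDimensional.Lemmas

/-!
# Subcomodules: images, preimages, minimal subcomodules, flags

General lemmas on subcomodules of comodules over a coalgebra over a field (more generally a free
coalgebra), proved through the description "subcomodule = subspace stable under all functionals".
-/

set_option autoImplicit false
universe u v w w'
open TensorProduct

namespace Groth.Agent.Lib.ComodFlag_helper9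

open Groth.Agent.Lib.Comod_helper9 Groth.Agent.Lib.ComodDual_helper9

section Free

variable {k : Type u} [CommRing k] {C : Type v} [AddCommGroup C] [Module k C] [Coalgebra k C]
variable [Module.Free k C]
variable {V : Type w} [AddCommGroup V] [Module k V]
variable {W : Type w'} [AddCommGroup W] [Module k W]

/-- The preimage of a subcomodule under a comodule map is a subcomodule. -/
theorem isSubcomod_comap [HopfRep.Comod k C V] [HopfRep.Comod k C W] (f : V →ₗ[k] W)
    (hf : Hoch.IsComodHom C f) (U : Submodule k W) (hU : HopfRep.IsSubcomod (k := k) (A := C) U) :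
    HopfRep.IsSubcomod (k := k) (A := C) (U.comap f) := by
  apply isSubcomod_of_act_mem
  intro φ w hw
  rw [Submodule.mem_comap, act_comm_of_isComodHom f hf]
  exact act_mem_of_isSubcomod U hU φ hw

/-- The image of a subcomodule under a comodule map is a subcomodule. -/
theorem isSubcomod_map [HopfRep.Comod k C V] [HopfRep.Comod k C W] (f : V →ₗ[k] W)
    (hf : Hoch.IsComodHom C f) (U : Submodule k V) (hU : HopfRep.IsSubcomod (k := k) (A := C) U) :
    HopfRep.IsSubcomod (k := k) (A := C) (U.map f) := by
  apply isSubcomod_of_act_mem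
  rintro φ _ ⟨u, hu, rfl⟩
  rw [← act_comm_of_isComodHom f hf]
  exact Submodule.mem_map_of_mem (act_mem_of_isSubcomod U hU φ hu)

/-- The intersection of two subcomodules is a subcomodule. -/
theorem isSubcomod_inf [HopfRep.Comod k C V] (U U' : Submodule k V)
    (hU : HopfRep.IsSubcomod (k := k) (A := C) U) (hU' : HopfRep.IsSubcomod (k := k) (A := C) U') :
    HopfRep.IsSubcomod (k := k) (A := C) (U ⊓ U') := by
  apply isSubcomod_of_act_mem
  intro φ w hw
  exact ⟨act_mem_of_isSubcomod U hU φ hw.1, act_mem_of_isSubcomod U' hU' φ hw.2⟩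

/-- The sum of two subcomodules is a subcomodule. -/
theorem isSubcomod_sup [HopfRep.Comod k C V] (U U' : Submodule k V)
    (hU : HopfRep.IsSubcomod (k := k) (A := C) U) (hU' : HopfRep.IsSubcomod (k := k) (A := C) U') :
    HopfRep.IsSubcomod (k := k) (A := C) (U ⊔ U') := by
  apply isSubcomod_of_act_mem
  intro φ w hw
  obtain ⟨u, hu, u', hu', rfl⟩ := Submodule.mem_sup.mp hw
  rw [map_add]
  exact Submodule.add_mem _ (Submodule.mem_sup_left (act_mem_of_isSubcomod U hU φ hu))
    (Submodule.mem_sup_right (act_mem_of_isSubcomod U' hU' φ hu'))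

/-- A supremum of subcomodules is a subcomodule. -/
theorem isSubcomod_iSup [HopfRep.Comod k C V] {ι : Sort*} (U : ι → Submodule k V)
    (hU : ∀ i, HopfRep.IsSubcomod (k := k) (A := C) (U i)) :
    HopfRep.IsSubcomod (k := k) (A := C) (⨆ i, U i) := by
  apply isSubcomod_of_act_mem
  intro φ w hw
  refine Submodule.iSup_induction U (motive := fun w => act φ w ∈ ⨆ i, U i) hw ?_ ?_ ?_
  · intro i x hx
    exact Submodule.mem_iSup_of_mem i (act_mem_of_isSubcomod (U i) (hU i) φ hx)
  · rw [map_zero]; exact Submodule.zero_mem _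
  · intro x y hx hy
    rw [map_add]; exact Submodule.add_mem _ hx hy

end Free

section Flat

variable {k : Type u} [CommRing k] {C : Type v} [AddCommGroup C] [Module k C] [Coalgebra k C]
variable [Module.Free k C] [Module.Flat k C]
variable {V : Type w} [AddCommGroup V] [Module k V]

/-- A subcomodule of a subcomodule (with its induced structure) is a subcomodule of the ambient
comodule. -/
theorem isSubcomod_map_subtype (c : HopfRep.Comod k C V) (S : Submodule k V)
    (hS : HopfRep.IsSubcomod (k := k) (A := C) S) (U : Submodule k S)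
    (hU : @HopfRep.IsSubcomod k C _ _ _ _ S _ _ (ComodSub.Comod.restr c S hS) U) :
    HopfRep.IsSubcomod (k := k) (A := C) (U.map S.subtype) :=
  @isSubcomod_map k _ C _ _ _ _ S _ _ V _ _ (ComodSub.Comod.restr c S hS) c S.subtype
    (ComodSub.isComodHom_subtype c S hS) U hU

/-- The preimage in a subcomodule `S` of a subcomodule of the ambient comodule is a subcomodule of `S`
(with its induced structure). -/
theorem isSubcomod_comap_subtype (c : HopfRep.Comod k C V) (S : Submodule k V)
    (hS : HopfRep.IsSubcomod (k := k) (A := C) S) (U : Submodule k V)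
    (hU : HopfRep.IsSubcomod (k := k) (A := C) U) :
    @HopfRep.IsSubcomod k C _ _ _ _ S _ _ (ComodSub.Comod.restr c S hS) (U.comap S.subtype) :=
  @isSubcomod_comap k _ C _ _ _ _ S _ _ V _ _ (ComodSub.Comod.restr c S hS) c S.subtype
    (ComodSub.isComodHom_subtype c S hS) U hU

/-- A minimal nonzero subcomodule, with its induced structure, is a simple comodule. -/
theorem isSimpleComod_restr_of_minimal (c : HopfRep.Comod k C V) (S : Submodule k V)
    (hS : HopfRep.IsSubcomod (k := k) (A := C) S) (hne : S ≠ ⊥)
    (hmin : ∀ S' : Submodule k V, HopfRep.IsSubcomod (k := k) (A := C) S' → S' ≤ S → S' = ⊥ ∨ S' = S) :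
    @HopfRep.IsSimpleComod k C _ _ _ _ S _ _ (ComodSub.Comod.restr c S hS) := by
  refine ⟨Submodule.nontrivial_iff_ne_bot.mpr hne, fun U hU => ?_⟩
  rcases hmin _ (isSubcomod_map_subtype c S hS U hU) (Submodule.map_subtype_le S U) with h | h
  · left
    apply Submodule.map_injective_of_injective S.injective_subtype
    rw [h, Submodule.map_bot]
  · right
    rw [eq_top_iff]
    intro x _
    have hx : (x : V) ∈ U.map S.subtype := by rw [h]; exact x.2
    obtain ⟨y, hy, hyx⟩ := hx
    have : y = x := Subtype.ext hyx
    rw [← this]; exact hy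

end Flat

section Field

variable {k : Type u} [Field k] {C : Type v} [AddCommGroup C] [Module k C] [Coalgebra k C]
variable {V : Type w} [AddCommGroup V] [Module k V]

/-- A nonzero finite-dimensional comodule over a field has a minimal nonzero subcomodule. -/
theorem exists_minimal_subcomod [HopfRep.Comod k C V] [Module.Finite k V] [Nontrivial V] :
    ∃ S : Submodule k V, HopfRep.IsSubcomod (k := k) (A := C) S ∧ S ≠ ⊥ ∧
      ∀ S' : Submodule k V, HopfRep.IsSubcomod (k := k) (A := C) S' → S' ≤ S → S' = ⊥ ∨ S' = S := by
  classical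
  let P : ℕ → Prop := fun n => ∃ S : Submodule k V, HopfRep.IsSubcomod (k := k) (A := C) S ∧ S ≠ ⊥ ∧
    Module.finrank k S = n
  have hP : ∃ n, P n := ⟨Module.finrank k (⊤ : Submodule k V), ⊤, isSubcomod_top, top_ne_bot, rfl⟩
  obtain ⟨S, hS, hne, hfin⟩ := Nat.find_spec hP
  refine ⟨S, hS, hne, fun S' hS' hle => ?_⟩
  by_cases h0 : S' = ⊥
  · left; exact h0
  · right
    have h1 : Nat.find hP ≤ Module.finrank k S' := Nat.find_min' hP ⟨S', hS', h0, rfl⟩
    exact Submodule.eq_of_le_of_finrank_le hle (hfin ▸ h1)

/-- dimension of the preimage of a subspace under a quotient map -/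
theorem finrank_comap_mkQ [Module.Finite k V] (S : Submodule k V) (N : Submodule k (V ⧸ S)) :
    Module.finrank k (N.comap S.mkQ) = Module.finrank k N + Module.finrank k S := by
  have hle : S ≤ N.comap S.mkQ := by
    intro x hx
    rw [Submodule.mem_comap, Submodule.mkQ_apply, (Submodule.Quotient.mk_eq_zero S).mpr hx]
    exact N.zero_mem
  let g : (N.comap S.mkQ) →ₗ[k] N := (S.mkQ.domRestrict (N.comap S.mkQ)).codRestrict N (fun x => x.2)
  have hsurj : Function.Surjective g := by
    rintro ⟨y, hy⟩
    obtain ⟨x, rfl⟩ := S.mkQ_surjective y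
    exact ⟨⟨x, hy⟩, rfl⟩
  have hker : LinearMap.ker g = S.comap (N.comap S.mkQ).subtype := by
    ext x
    rw [LinearMap.mem_ker, Submodule.mem_comap]
    constructor
    · intro h
      have h2 : S.mkQ (x : V) = 0 := congrArg Subtype.val h
      rwa [Submodule.mkQ_apply, Submodule.Quotient.mk_eq_zero] at h2
    · intro h
      apply Subtype.ext
      show S.mkQ (x : V) = 0
      rwa [Submodule.mkQ_apply, Submodule.Quotient.mk_eq_zero]
  have h1 := LinearMap.finrank_range_add_finrank_ker g
  rw [LinearMap.range_eq_top.mpr hsurj, finrank_top, hker,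
    (Submodule.comapSubtypeEquivOfLe hle).finrank_eq] at h1
  exact h1.symm

end Field

end Groth.Agent.Lib.ComodFlag_helper9
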