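import Groth.Agent.Lib.ChevLine_helper1
import Groth.Agent.Lib.ComodFlag_helper9
import Groth.Prelude.Def_ComodSub

/-!
# Chevalley's theorem: every closed subgroup is the stabilizer of a line (helper1)

APPEND-ONLY once landed.
-/

set_option autoImplicit false
set_option maxHeartbeats 1000000
universe u
open TensorProduct WithConv

namespace ChevH1

open Groth.Agent.Lib.HopfFFH1 Groth.Agent.Lib.ComodDual_helper9 Groth.Agent.Lib.ComodFlag_helper9

theorem exact_rTensor_ker (k : Type*) [Field k] (R E Q : Type*) [CommRing R] [Algebra k R]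
    [AddCommGroup E] [Module k E] [AddCommGroup Q] [Module k Q] (γ : E →ₗ[k] Q) :
    Function.Exact ((LinearMap.ker γ).subtype.rTensor R) (γ.rTensor R) := by
  have h := LinearMap.exact_subtype_ker_map γ
  exact Module.Flat.rTensor_exact R h

section Stab

variable (k A : Type u) [Field k] [CommRing A] [HopfAlgebra k A]
variable (I : Ideal A) [I.IsHopfIdeal k]
variable (R : Type u) [CommRing R] [Algebra k R]

/-- `a ↦ Σ [a₁] ⊗ g(a₂)` -/
noncomputable def Psi (g : A →ₐ[k] R) : A →ₐ[k] (A ⧸ I) ⊗[k] R :=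
  (Algebra.TensorProduct.map (Ideal.Quotient.mkₐ k I) g).comp (Bialgebra.comulAlgHom k A)

theorem Psi_apply (g : A →ₐ[k] R) (a : A) :
    Psi k A I R g a = TensorProduct.map (Ideal.Quotient.mkₐ k I).toLinearMap g.toLinearMap
      (CoalgebraStruct.comul (R := k) a) := rfl

/-- if `g` kills `I` then `Psi g` kills `I` -/
theorem Psi_eq_zero (g : A →ₐ[k] R) (hg : ∀ a ∈ I, g a = 0) (x : A) (hx : x ∈ I) :
    Psi k A I R g x = 0 := by
  have h1 : Psi k A I R g =
      ((Algebra.TensorProduct.map (AlgHom.id k (A ⧸ I)) (Ideal.Quotient.liftₐ I g hg)).comp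
        (Bialgebra.comulAlgHom k (A ⧸ I))).comp (Ideal.Quotient.mkₐ k I) := by
    have h2 : (Bialgebra.comulAlgHom k (A ⧸ I)).comp (Ideal.Quotient.mkₐ k I) =
        (Algebra.TensorProduct.map (Ideal.Quotient.mkₐ k I) (Ideal.Quotient.mkₐ k I)).comp
          (Bialgebra.comulAlgHom k A) := by
      apply AlgHom.ext
      intro a
      rfl
    rw [AlgHom.comp_assoc, h2, ← AlgHom.comp_assoc, ← Algebra.TensorProduct.map_comp]
    have h3 : (Ideal.Quotient.liftₐ I g hg).comp (Ideal.Quotient.mkₐ k I) = g :=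
      Ideal.Quotient.liftₐ_comp I g hg
    rw [h3, AlgHom.id_comp]
    rfl
  rw [h1, AlgHom.comp_apply]
  have : (Ideal.Quotient.mkₐ k I) x = 0 := by
    rw [Ideal.Quotient.mkₐ_eq_mk]
    exact Ideal.Quotient.eq_zero_iff_mem.mpr hx
  rw [this, map_zero]

/-- the retraction `(A/I) ⊗ R → R` -/
noncomputable def chi : (A ⧸ I) ⊗[k] R →ₐ[k] R :=
  Algebra.TensorProduct.lift ((Algebra.ofId k R).comp (Bialgebra.counitAlgHom k (A ⧸ I)))
    (AlgHom.id k R) (fun _ _ => Commute.all _ _)

theorem chi_comp_Psi (g : A →ₐ[k] R) : (chi k A I R).comp (Psi k A I R g) = g := by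
  have h1 : (chi k A I R).comp (Algebra.TensorProduct.map (Ideal.Quotient.mkₐ k I) g) =
      (Algebra.TensorProduct.lmul' k).comp
        (Algebra.TensorProduct.map (c1 : A →ₐ[k] R) g) := by
    apply Algebra.TensorProduct.ext'
    intro a b
    simp only [AlgHom.comp_apply, Algebra.TensorProduct.map_tmul, chi,
      Algebra.TensorProduct.lift_tmul, Algebra.TensorProduct.lmul'_apply_tmul, c1_apply,
      AlgHom.id_apply]
    rfl
  unfold Psi
  rw [← AlgHom.comp_assoc, h1, AlgHom.comp_assoc]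
  have h2 : (Algebra.TensorProduct.lmul' k).comp
      ((Algebra.TensorProduct.map (c1 : A →ₐ[k] R) g).comp (Bialgebra.comulAlgHom k A)) =
      cm c1 g := by
    simp only [cm, AlgHom.convMul_def, ofConv_toConv]
  rw [h2, c1_cm]

variable (E₀ : Submodule k A)
  (hE₀ : @HopfRep.IsSubcomod k A _ _ _ _ A _ _ (HopfRep.Comod.regular k A) E₀)

/-- `E₀ → A → A/I` -/
noncomputable def gam : ↥E₀ →ₗ[k] A ⧸ I :=
  (Ideal.Quotient.mkₐ k I).toLinearMap ∘ₗ E₀.subtype

theorem mem_ker_gam (w : ↥E₀) : w ∈ LinearMap.ker (gam k A I E₀) ↔ (w : A) ∈ I := by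
  rw [LinearMap.mem_ker]
  show (Ideal.Quotient.mkₐ k I) (w : A) = 0 ↔ _
  rw [Ideal.Quotient.mkₐ_eq_mk]
  exact Ideal.Quotient.eq_zero_iff_mem

include hE₀ in
theorem gam_lTensor (g : A →ₐ[k] R) (w : ↥E₀) :
    (gam k A I E₀).rTensor R (LinearMap.lTensor ↥E₀ g.toLinearMap
      ((ComodSub.Comod.restr (HopfRep.Comod.regular k A) E₀ hE₀).coact w)) =
      Psi k A I R g (w : A) := by
  have h1 := ComodSub.restr_coact_coe (HopfRep.Comod.regular k A) E₀ hE₀ w
  have h2 : (gam k A I E₀).rTensor R ∘ₗ LinearMap.lTensor ↥E₀ g.toLinearMap =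
      TensorProduct.map (Ideal.Quotient.mkₐ k I).toLinearMap g.toLinearMap ∘ₗ
        E₀.subtype.rTensor A := by
    apply TensorProduct.ext'
    intro x a
    simp [gam]
  have h3 := LinearMap.congr_fun h2
    ((ComodSub.Comod.restr (HopfRep.Comod.regular k A) E₀ hE₀).coact w)
  simp only [LinearMap.comp_apply] at h3
  rw [h3, h1, Psi_apply]
  rfl

include hE₀ in
theorem P_iff_kills (s : Finset A) (hs : Ideal.span (s : Set A) = I) (hsE : ∀ x ∈ s, x ∈ E₀)
    (g : A →ₐ[k] R) :
    @StabH1.P k A _ _ _ ↥E₀ _ _ (ComodSub.Comod.restr (HopfRep.Comod.regular k A) E₀ hE₀) R _ _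
      (LinearMap.ker (gam k A I E₀)) g ↔ ∀ a ∈ I, g a = 0 := by
  have hex : Function.Exact ((LinearMap.ker (gam k A I E₀)).subtype.rTensor R)
      ((gam k A I E₀).rTensor R) := exact_rTensor_ker k R _ _ _
  constructor
  · intro hP
    have hW : ∀ w : ↥E₀, (w : A) ∈ I → Psi k A I R g (w : A) = 0 := by
      intro w hw
      have hw' : w ∈ LinearMap.ker (gam k A I E₀) := (mem_ker_gam k A I E₀ w).mpr hw
      have h1 := hP w hw'
      rw [← gam_lTensor k A I R E₀ hE₀ g w]
      exact (hex _).mpr h1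
    have hsub : (s : Set A) ⊆ RingHom.ker (Psi k A I R g) := by
      intro x hx
      have hxI : x ∈ I := by
        rw [← hs]
        exact Ideal.subset_span hx
      exact hW ⟨x, hsE x hx⟩ hxI
    have hle : I ≤ RingHom.ker (Psi k A I R g) := by
      have h := Ideal.span_le.mpr hsub
      rwa [hs] at h
    intro a ha
    have h0 : Psi k A I R g a = 0 := hle ha
    have h1 := AlgHom.congr_fun (chi_comp_Psi k A I R g) a
    rw [AlgHom.comp_apply, h0, map_zero] at h1
    exact h1.symm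
  · intro hg w hw
    have hwI : (w : A) ∈ I := (mem_ker_gam k A I E₀ w).mp hw
    apply (hex _).mp
    rw [gam_lTensor k A I R E₀ hE₀ g w]
    exact Psi_eq_zero k A I R g hg _ hwI

end Stab

section Main

variable (k : Type u) [Field k] (A : Type u) [CommRing A] [HopfAlgebra k A]
  [Algebra.FiniteType k A] (I : Ideal A) [I.IsHopfIdeal k]

/-- **Chevalley's theorem**. -/
theorem chevalley :
    ∃ (V : Type u) (_ : AddCommGroup V) (_ : Module k V) (_ : HopfRep.Comod k A V)
      (_ : Module.Finite k V) (v : V),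
      v ≠ 0 ∧ Dyn.Represents k A I (fun R _ _ g => SGA3.StabilizesLine k A v R g) := by
  classical
  haveI : IsNoetherianRing A := Algebra.FiniteType.isNoetherianRing k A
  have key : ∀ s : Finset A, ∃ W : Submodule k A, Module.Finite k W ∧
      @HopfRep.IsSubcomod k A _ _ _ _ A _ _ (HopfRep.Comod.regular k A) W ∧ ∀ r ∈ s, r ∈ W := by
    intro s
    induction s using Finset.induction_on with
    | empty => exact ⟨⊥, inferInstance, Groth.Agent.Lib.Comod_helper9.isSubcomod_bot, by simp⟩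
    | insert r T hr ih =>
      obtain ⟨W, hfin, hW, hmem⟩ := ih
      obtain ⟨W', hfin', hr', hW'⟩ := exists_finite_subcomod_mem (k := k) (C := A)
        (c := HopfRep.Comod.regular k A) r
      refine ⟨W ⊔ W', ?_, isSubcomod_sup W W' hW hW', ?_⟩
      · haveI := hfin
        haveI := hfin'
        infer_instance
      · intro x hx
        rcases Finset.mem_insert.mp hx with rfl | hx
        · exact Submodule.mem_sup_right hr'
        · exact Submodule.mem_sup_left (hmem x hx)
  obtain ⟨s, hs⟩ := (isNoetherianRing_iff_ideal_fg A).mp inferInstance I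
  obtain ⟨E₀, hfin, hE₀, hsE⟩ := key s
  letI cE₀ : HopfRep.Comod k A ↥E₀ :=
    ComodSub.Comod.restr (HopfRep.Comod.regular k A) E₀ hE₀
  haveI := hfin
  obtain ⟨E, i1, i2, cE, i3, v, hv, hstab⟩ :=
    exists_line k A ↥E₀ (LinearMap.ker (gam k A I E₀))
  exact ⟨E, i1, i2, cE, i3, v, hv, fun R _ _ g =>
    (P_iff_kills k A I R E₀ hE₀ s hs hsE g).symm.trans (hstab R g).symm⟩

end Main

end ChevH1
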