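import Groth.Agent.Lib.HopfFlat_helper1

/-!
# The quotient of a Hopf algebra by the augmentation ideal of a Hopf subalgebra;
the torsor isomorphism `X ⊗_R B ≃ X' ⊗_k B`.
-/

set_option autoImplicit false
set_option maxHeartbeats 1000000

namespace Groth.Agent.Lib.HopfFFH1

open TensorProduct WithConv

section Aug

variable {k : Type*} [Field k] {R X : Type*} [CommRing R] [CommRing X]
  [HopfAlgebra k R] [HopfAlgebra k X]
variable {C : Type*} [CommRing C] [Algebra k C] {D : Type*} [CommRing D] [Algebra k D]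

theorem map_comp_comul (a : X →ₐ[k] C) (b : X →ₐ[k] D) :
    (Algebra.TensorProduct.map a b).comp (Bialgebra.comulAlgHom k X) =
      cm (Algebra.TensorProduct.includeLeft.comp a) (Algebra.TensorProduct.includeRight.comp b) := by
  have h : (Algebra.TensorProduct.lmul' k).comp
      (Algebra.TensorProduct.map
        ((Algebra.TensorProduct.includeLeft : C →ₐ[k] C ⊗[k] D).comp a)
        ((Algebra.TensorProduct.includeRight : D →ₐ[k] C ⊗[k] D).comp b)) =
      Algebra.TensorProduct.map a b := by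
    apply tensor_algHom_ext <;> ext x <;> simp
  simp only [cm, AlgHom.convMul_def, ofConv_toConv]
  rw [← AlgHom.comp_assoc, h]

/-- The ideal of `X` generated by the image of the augmentation ideal of `R`. -/
def augIdeal (g : R →ₐc[k] X) : Ideal X :=
  Ideal.map (g : R →ₐ[k] X) (RingHom.ker (Bialgebra.counitAlgHom k R))

theorem sub_counit_mem_augIdeal (g : R →ₐc[k] X) (r : R) :
    g r - algebraMap k X (Coalgebra.counit r) ∈ augIdeal g := by
  have h : r - algebraMap k R (Coalgebra.counit r) ∈ RingHom.ker (Bialgebra.counitAlgHom k R) := by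
    rw [RingHom.mem_ker, map_sub, AlgHom.commutes]
    simp
  have := Ideal.mem_map_of_mem (g : R →ₐ[k] X) h
  rw [map_sub, AlgHom.commutes] at this
  exact this

theorem comp_eq_c1_iff (g : R →ₐc[k] X) (φ : X →ₐ[k] C) :
    φ.comp (g : R →ₐ[k] X) = c1 ↔ augIdeal g ≤ RingHom.ker φ := by
  constructor
  · intro h
    rw [augIdeal, Ideal.map_le_iff_le_comap]
    intro r hr
    rw [Ideal.mem_comap, RingHom.mem_ker]
    have := AlgHom.congr_fun h r
    rw [c1_apply] at this
    rw [RingHom.mem_ker] at hr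
    have hr' : Coalgebra.counit (R := k) r = 0 := hr
    rw [hr', map_zero] at this
    exact this
  · intro h
    ext r
    have h1 := h (sub_counit_mem_augIdeal g r)
    rw [RingHom.mem_ker, map_sub, AlgHom.commutes, sub_eq_zero] at h1
    rw [c1_apply]
    exact h1

theorem augIdeal_le_ker_counit (g : R →ₐc[k] X) :
    augIdeal g ≤ RingHom.ker (Bialgebra.counitAlgHom k X) := by
  rw [← comp_eq_c1_iff]
  ext r
  simp [c1_apply]

theorem antipode_mem_augIdeal (g : R →ₐc[k] X) {x : X} (hx : x ∈ augIdeal g) :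
    HopfAlgebra.antipode k x ∈ augIdeal g := by
  have h : augIdeal g ≤ Ideal.comap (HopfAlgebra.antipodeAlgHom k X) (augIdeal g) := by
    rw [augIdeal, Ideal.map_le_iff_le_comap]
    intro r hr
    rw [Ideal.mem_comap, Ideal.mem_comap]
    have e : HopfAlgebra.antipodeAlgHom k X (g r) = g (HopfAlgebra.antipode k r) :=
      antipode_bialgHom_apply g r
    show HopfAlgebra.antipodeAlgHom k X (g r) ∈ _
    rw [e]
    refine Ideal.mem_map_of_mem (g : R →ₐ[k] X) ?_
    rw [RingHom.mem_ker] at hr ⊢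
    have hr' : Coalgebra.counit (R := k) r = 0 := hr
    show Coalgebra.counit (R := k) (HopfAlgebra.antipode k r) = 0
    rw [HopfAlgebra.counit_antipode, hr']
  exact h hx

theorem mk_comp_eq_c1 (g : R →ₐc[k] X) :
    (Ideal.Quotient.mkₐ k (augIdeal g)).comp (g : R →ₐ[k] X) = c1 := by
  rw [comp_eq_c1_iff]
  intro x hx
  rw [RingHom.mem_ker, Ideal.Quotient.mkₐ_eq_mk, Ideal.Quotient.eq_zero_iff_mem]
  exact hx

theorem comul_mem_augIdeal (g : R →ₐc[k] X) {x : X} (hx : x ∈ augIdeal g) :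
    (Algebra.TensorProduct.map (Ideal.Quotient.mkₐ k (augIdeal g))
      (Ideal.Quotient.mkₐ k (augIdeal g))) (Coalgebra.comul (R := k) x) = 0 := by
  have h : augIdeal g ≤ RingHom.ker
      ((Algebra.TensorProduct.map (Ideal.Quotient.mkₐ k (augIdeal g))
        (Ideal.Quotient.mkₐ k (augIdeal g))).comp (Bialgebra.comulAlgHom k X)) := by
    rw [← comp_eq_c1_iff, AlgHom.comp_assoc, ← BialgHom.map_comp_comulAlgHom,
      ← AlgHom.comp_assoc, ← Algebra.TensorProduct.map_comp, mk_comp_eq_c1, map_comp_comul,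
      comp_c1, comp_c1, c1_cm]
  exact h hx

instance augIdeal_isHopfIdeal (g : R →ₐc[k] X) : (augIdeal g).IsHopfIdeal k where
  counit_eq_zero := fun x hx => augIdeal_le_ker_counit g hx
  map_mkQ_comul_eq_zero := fun x hx => comul_mem_augIdeal g hx
  antipode_mem := fun x hx => antipode_mem_augIdeal g hx

end Aug

section LiftSurj

variable {k : Type*} [CommRing k] {X X' T : Type*} [CommRing X] [CommRing X'] [CommRing T]
  [Algebra k X] [Algebra k X'] [Algebra k T]

theorem exists_lift_of_surjective (π : X →ₐ[k] X') (hπ : Function.Surjective π)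
    (Ψ : X →ₐ[k] T) (h : RingHom.ker π ≤ RingHom.ker Ψ) :
    ∃ ψ : X' →ₐ[k] T, ψ.comp π = Ψ := by
  let e := Ideal.quotientKerAlgEquivOfSurjective hπ
  refine ⟨(Ideal.Quotient.liftₐ (RingHom.ker π) Ψ (fun a ha => h ha)).comp
    (e.symm : X' →ₐ[k] X ⧸ RingHom.ker π), ?_⟩
  ext x
  have h1 : e.symm (π x) = Ideal.Quotient.mk (RingHom.ker π) x := by
    apply e.injective
    rw [AlgEquiv.apply_symm_apply]
    rfl
  simp only [AlgHom.comp_apply, AlgEquiv.coe_algHom, h1]
  rfl

/-- descend an algebra map along a surjection -/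
noncomputable def liftSurj (π : X →ₐ[k] X') (hπ : Function.Surjective π)
    (Ψ : X →ₐ[k] T) (h : RingHom.ker π ≤ RingHom.ker Ψ) : X' →ₐ[k] T :=
  Classical.choose (exists_lift_of_surjective π hπ Ψ h)

theorem liftSurj_comp (π : X →ₐ[k] X') (hπ : Function.Surjective π)
    (Ψ : X →ₐ[k] T) (h : RingHom.ker π ≤ RingHom.ker Ψ) :
    (liftSurj π hπ Ψ h).comp π = Ψ :=
  Classical.choose_spec (exists_lift_of_surjective π hπ Ψ h)

theorem algHom_cancel_right {π : X →ₐ[k] X'} (hπ : Function.Surjective π)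
    {a b : X' →ₐ[k] T} (h : a.comp π = b.comp π) : a = b := by
  ext y
  obtain ⟨x, rfl⟩ := hπ y
  exact AlgHom.congr_fun h x

end LiftSurj

section Theta

variable {k : Type*} [Field k] {R X B X' : Type*} [CommRing R] [CommRing X] [CommRing B]
  [CommRing X'] [HopfAlgebra k R] [HopfAlgebra k X] [HopfAlgebra k B] [HopfAlgebra k X']
  [Algebra R X] [Algebra R B] [IsScalarTower k R X] [IsScalarTower k R B]
  (g : R →ₐc[k] X) (f : X →ₐc[k] B) (π : X →ₐc[k] X')

/-- `x ↦ π(x₁) ⊗ f(x₂)` -/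
noncomputable def uX : X →ₐ[k] X' ⊗[k] B :=
  cm (Algebra.TensorProduct.includeLeft.comp (π : X →ₐ[k] X'))
    (Algebra.TensorProduct.includeRight.comp (f : X →ₐ[k] B))

variable (hg : ∀ r, algebraMap R X r = g r) (hfg : ∀ r, algebraMap R B r = f (g r))
  (hπg : (π : X →ₐ[k] X').comp (g : R →ₐ[k] X) = c1)

include hπg in
theorem uX_comp_g : (uX f π).comp (g : R →ₐ[k] X) =
    Algebra.TensorProduct.includeRight.comp ((f : X →ₐ[k] B).comp (g : R →ₐ[k] X)) := by
  rw [uX, cm_comp, AlgHom.comp_assoc, hπg, comp_c1, c1_cm, AlgHom.comp_assoc]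

/-- the map `X ⊗_R B → X' ⊗_k B`, `x ⊗ b ↦ π(x₁) ⊗ f(x₂) b` -/
noncomputable def fwdR : X ⊗[R] B →+* X' ⊗[k] B :=
  letI : Algebra R (X' ⊗[k] B) :=
    ((Algebra.TensorProduct.includeRight : B →ₐ[k] X' ⊗[k] B).toRingHom.comp
      (algebraMap R B)).toAlgebra
  (Algebra.TensorProduct.lift
    ({ (uX f π).toRingHom with
        commutes' := fun r => by
          show uX f π (algebraMap R X r) = (1 : X') ⊗ₜ[k] (algebraMap R B r)
          rw [hg, hfg]
          exact AlgHom.congr_fun (uX_comp_g g f π hπg) r } : X →ₐ[R] X' ⊗[k] B)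
    ({ (Algebra.TensorProduct.includeRight : B →ₐ[k] X' ⊗[k] B).toRingHom with
        commutes' := fun r => rfl } : B →ₐ[R] X' ⊗[k] B)
    (fun _ _ => Commute.all _ _)).toRingHom

theorem fwdR_tmul (x : X) (b : B) :
    fwdR g f π hg hfg hπg (x ⊗ₜ[R] b) = uX f π x * ((1 : X') ⊗ₜ[k] b) := rfl

/-- `fwdR` as a `k`-algebra map -/
noncomputable def fwdk : X ⊗[R] B →ₐ[k] X' ⊗[k] B :=
  { fwdR g f π hg hfg hπg with
    commutes' := fun c => by
      show fwdR g f π hg hfg hπg (algebraMap k (X ⊗[R] B) c) = _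
      rw [Algebra.TensorProduct.algebraMap_apply, fwdR_tmul, AlgHom.commutes]
      rw [← Algebra.TensorProduct.one_def, mul_one] }

theorem fwdk_tmul (x : X) (b : B) :
    fwdk g f π hg hfg hπg (x ⊗ₜ[R] b) = uX f π x * ((1 : X') ⊗ₜ[k] b) := rfl

/-- the two structure maps into `X ⊗_R B` -/
noncomputable def tL : X →ₐ[k] X ⊗[R] B := Algebra.TensorProduct.includeLeft

noncomputable def tR : B →ₐ[k] X ⊗[R] B :=
  (Algebra.TensorProduct.includeRight : B →ₐ[R] X ⊗[R] B).restrictScalars k

theorem fwdk_comp_tL : (fwdk g f π hg hfg hπg).comp (tL (R := R) (B := B)) = uX f π := by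
  ext x
  show fwdk g f π hg hfg hπg (x ⊗ₜ[R] 1) = _
  rw [fwdk_tmul, ← Algebra.TensorProduct.one_def, mul_one]

theorem fwdk_comp_tR : (fwdk g f π hg hfg hπg).comp (tR (R := R) (X := X)) =
    Algebra.TensorProduct.includeRight := by
  ext b
  show fwdk g f π hg hfg hπg ((1 : X) ⊗ₜ[R] b) = _
  rw [fwdk_tmul, map_one, one_mul]
  rfl

include hg hfg in
theorem tL_comp_g : (tL (R := R) (B := B)).comp (g : R →ₐ[k] X) =
    (tR (R := R) (X := X)).comp ((f : X →ₐ[k] B).comp (g : R →ₐ[k] X)) := by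
  ext r
  show (g r) ⊗ₜ[R] (1 : B) = (1 : X) ⊗ₜ[R] (f (g r))
  rw [← hfg, ← hg, Algebra.algebraMap_eq_smul_one, Algebra.algebraMap_eq_smul_one,
    TensorProduct.smul_tmul]

variable (hπs : Function.Surjective (π : X →ₐ[k] X')) (hker : RingHom.ker (π : X →ₐ[k] X') = augIdeal g)

/-- `Ψ = x ↦ x₁ ⊗_R f(S x₂)` -/
noncomputable def bigPsi : X →ₐ[k] X ⊗[R] B :=
  cm (tL (R := R) (B := B)) (ci ((tR (R := R) (X := X)).comp (f : X →ₐ[k] B)))

include hg hfg in
theorem bigPsi_comp_g : (bigPsi (R := R) f).comp (g : R →ₐ[k] X) = c1 := by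
  rw [bigPsi, cm_comp, ci_comp, tL_comp_g g f hg hfg, AlgHom.comp_assoc, cm_ci]

include hg hfg hker in
theorem ker_le_ker_bigPsi :
    RingHom.ker (π : X →ₐ[k] X') ≤ RingHom.ker (bigPsi (R := R) f) := by
  rw [hker, ← comp_eq_c1_iff]
  exact bigPsi_comp_g g f hg hfg

/-- the inverse map `X' ⊗_k B → X ⊗_R B` -/
noncomputable def back : X' ⊗[k] B →ₐ[k] X ⊗[R] B :=
  Algebra.TensorProduct.productMap
    (liftSurj (π : X →ₐ[k] X') hπs (bigPsi (R := R) f) (ker_le_ker_bigPsi g f π hg hfg hker))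
    (tR (R := R) (X := X))

theorem back_comp_incL_comp :
    ((back g f π hg hfg hπs hker).comp Algebra.TensorProduct.includeLeft).comp
      (π : X →ₐ[k] X') = bigPsi (R := R) f := by
  rw [back, Algebra.TensorProduct.productMap_left, liftSurj_comp]

theorem back_comp_incR :
    (back g f π hg hfg hπs hker).comp Algebra.TensorProduct.includeRight =
      tR (R := R) (X := X) := by
  rw [back, Algebra.TensorProduct.productMap_right]

theorem back_comp_uX : (back g f π hg hfg hπs hker).comp (uX f π) = tL (R := R) (B := B) := by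
  rw [uX, comp_cm, ← AlgHom.comp_assoc, back_comp_incL_comp, ← AlgHom.comp_assoc,
    back_comp_incR, bigPsi, cm_ci_cm]

theorem back_fwd (t : X ⊗[R] B) :
    back g f π hg hfg hπs hker (fwdk g f π hg hfg hπg t) = t := by
  induction t using TensorProduct.induction_on with
  | zero => simp
  | tmul x b =>
    rw [fwdk_tmul, map_mul]
    have h1 : back g f π hg hfg hπs hker (uX f π x) = x ⊗ₜ[R] (1 : B) :=
      AlgHom.congr_fun (back_comp_uX g f π hg hfg hπs hker) x
    have h2 : back g f π hg hfg hπs hker ((1 : X') ⊗ₜ[k] b) = (1 : X) ⊗ₜ[R] b :=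
      AlgHom.congr_fun (back_comp_incR g f π hg hfg hπs hker) b
    rw [h1, h2, Algebra.TensorProduct.tmul_mul_tmul, mul_one, one_mul]
  | add x y hx hy => rw [map_add, map_add, hx, hy]

theorem fwd_back_comp : (fwdk g f π hg hfg hπg).comp (back g f π hg hfg hπs hker) =
    AlgHom.id k _ := by
  apply tensor_algHom_ext
  · apply algHom_cancel_right (π := (π : X →ₐ[k] X')) hπs
    have e : (((fwdk g f π hg hfg hπg).comp (back g f π hg hfg hπs hker)).comp
        Algebra.TensorProduct.includeLeft).comp (π : X →ₐ[k] X') =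
        (fwdk g f π hg hfg hπg).comp (((back g f π hg hfg hπs hker).comp
          Algebra.TensorProduct.includeLeft).comp (π : X →ₐ[k] X')) := by
      simp only [AlgHom.comp_assoc]
    rw [e, back_comp_incL_comp, bigPsi, comp_cm, comp_ci,
      fwdk_comp_tL, ← AlgHom.comp_assoc, fwdk_comp_tR, uX, cm_cm_ci, AlgHom.id_comp]
  · rw [AlgHom.comp_assoc, back_comp_incR, fwdk_comp_tR, AlgHom.id_comp]

include hπs hker in
theorem fwdk_bijective : Function.Bijective (fwdk g f π hg hfg hπg) := by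
  refine Function.bijective_iff_has_inverse.mpr
    ⟨back g f π hg hfg hπs hker, fun t => back_fwd g f π hg hfg hπg hπs hker t, fun u => ?_⟩
  exact AlgHom.congr_fun (fwd_back_comp g f π hg hfg hπg hπs hker) u

end Theta

end Groth.Agent.Lib.HopfFFH1
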