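import Mathlib
import Groth.Agent.Lib.PointAct_helper9
import Groth.Prelude.Def_ComodTens

/-!
# The stabilizer of a tensor product of subspaces (helper9)
-/

set_option autoImplicit false
universe u v v' w
open TensorProduct

namespace StabTensor9

open Groth.Agent.Lib.Comod_helper9 PointAct9 WithConv

section Ext

variable {k : Type u} [Field k] {A : Type u} [CommRing A] [HopfAlgebra k A]
variable {R : Type u} [CommRing R] [Algebra k R]
variable {V : Type v} [AddCommGroup V] [Module k V]

/-- right multiplication by `r` on `V ⊗ R` -/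
noncomputable def rmul (V : Type v) [AddCommGroup V] [Module k V] (r : R) : V ⊗[k] R →ₗ[k] V ⊗[k] R :=
  LinearMap.lTensor V (LinearMap.mulRight k r)

@[simp] theorem rmul_tmul (r : R) (v : V) (s : R) : rmul V r (v ⊗ₜ[k] s) = v ⊗ₜ[k] (s * r) := rfl

theorem rmul_rmul (r s : R) (y : V ⊗[k] R) : rmul V r (rmul V s y) = rmul V (s * r) y := by
  induction y using TensorProduct.induction_on with
  | zero => simp
  | add a b ha hb => simp only [map_add, ha, hb]
  | tmul v t => simp [mul_assoc]

theorem rmul_one (y : V ⊗[k] R) : rmul V (1 : R) y = y := by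
  induction y using TensorProduct.induction_on with
  | zero => simp
  | add a b ha hb => simp only [map_add, ha, hb]
  | tmul v t => simp

theorem rmul_rTensor {U : Type w} [AddCommGroup U] [Module k U] (f : U →ₗ[k] V) (r : R) (y : U ⊗[k] R) :
    rmul V r (f.rTensor R y) = f.rTensor R (rmul U r y) := by
  induction y using TensorProduct.induction_on with
  | zero => simp
  | add a b ha hb => simp only [map_add, ha, hb]
  | tmul v t => simp

variable [c : HopfRep.Comod k A V]

/-- the `R`-linear extension of the action of an `R`-point -/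
noncomputable def ext (g : A →ₐ[k] R) : V ⊗[k] R →ₗ[k] V ⊗[k] R :=
  LinearMap.lTensor V (LinearMap.mul' k R) ∘ₗ (TensorProduct.assoc k V R R).toLinearMap ∘ₗ
    (actR (V := V) g).rTensor R

theorem ext_tmul (g : A →ₐ[k] R) (v : V) (r : R) : ext g (v ⊗ₜ[k] r) = rmul V r (actR g v) := by
  unfold ext
  rw [LinearMap.comp_apply, LinearMap.comp_apply, LinearMap.rTensor_tmul]
  generalize actR g v = y
  induction y using TensorProduct.induction_on with
  | zero => simp
  | add a b ha hb => simp only [TensorProduct.add_tmul, map_add, ha, hb]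
  | tmul v' s => simp

theorem ext_tmul_one (g : A →ₐ[k] R) (v : V) : ext g (v ⊗ₜ[k] (1 : R)) = actR g v := by
  rw [ext_tmul, rmul_one]

theorem actR_mul' (x y : A →ₐ[k] R) (v : V) :
    actR (toConv x * toConv y).ofConv v = ext x (actR y v) := actR_mul x y v

theorem ext_rmul (g : A →ₐ[k] R) (r : R) (y : V ⊗[k] R) : ext g (rmul V r y) = rmul V r (ext g y) := by
  induction y using TensorProduct.induction_on with
  | zero => simp
  | add a b ha hb => simp only [map_add, ha, hb]
  | tmul v s => rw [rmul_tmul, ext_tmul, ext_tmul, rmul_rmul]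

theorem ext_mul (x y : A →ₐ[k] R) (z : V ⊗[k] R) :
    ext (toConv x * toConv y).ofConv z = ext x (ext y z) := by
  induction z using TensorProduct.induction_on with
  | zero => simp
  | add a b ha hb => simp only [map_add, ha, hb]
  | tmul v r => rw [ext_tmul, actR_mul', ext_tmul, ext_rmul]

theorem actR_one (v : V) : actR (1 : WithConv (A →ₐ[k] R)).ofConv v = v ⊗ₜ[k] (1 : R) := by
  have h1 : (1 : WithConv (A →ₐ[k] R)).ofConv.toLinearMap =
      Algebra.linearMap k R ∘ₗ (CoalgebraStruct.counit (R := k) (A := A)) := by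
    apply LinearMap.ext
    intro a
    rfl
  rw [actR_apply, h1, LinearMap.lTensor_comp, LinearMap.comp_apply]
  have h2 := LinearMap.congr_fun c.counit_comp v
  simp only [LinearMap.comp_apply, LinearMap.flip_apply, TensorProduct.mk_apply] at h2
  rw [h2, LinearMap.lTensor_tmul]
  simp

theorem ext_one (z : V ⊗[k] R) : ext (1 : WithConv (A →ₐ[k] R)).ofConv z = z := by
  induction z using TensorProduct.induction_on with
  | zero => simp
  | add a b ha hb => simp only [map_add, ha, hb]
  | tmul v r => rw [ext_tmul, actR_one, rmul_tmul, one_mul]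

theorem ext_injective (g : A →ₐ[k] R) : Function.Injective (ext (V := V) g) := by
  apply Function.LeftInverse.injective (g := ext (g.comp (HopfAlgebra.antipodeAlgHom k A)))
  intro z
  rw [← ext_mul, comp_antipode_mul, ext_one]

end Ext

section Act2

variable {k : Type u} [Field k] {A : Type u} [CommRing A] [HopfAlgebra k A]
variable {R : Type u} [CommRing R] [Algebra k R]
variable {V' : Type v'} [AddCommGroup V'] [Module k V'] [c' : HopfRep.Comod k A V']

/-- the action of an `R`-point on the second factor of `(U ⊗ V') ⊗ R` -/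
noncomputable def act2 (U : Type w) [AddCommGroup U] [Module k U] (g : A →ₐ[k] R) :
    (U ⊗[k] V') ⊗[k] R →ₗ[k] (U ⊗[k] V') ⊗[k] R :=
  (TensorProduct.assoc k U V' R).symm.toLinearMap ∘ₗ (ext (V := V') g).lTensor U ∘ₗ
    (TensorProduct.assoc k U V' R).toLinearMap

theorem act2_tmul {U : Type w} [AddCommGroup U] [Module k U] (g : A →ₐ[k] R) (u : U) (v' : V') (r : R) :
    act2 U g ((u ⊗ₜ[k] v') ⊗ₜ[k] r) =
      (TensorProduct.assoc k U V' R).symm (u ⊗ₜ[k] ext g (v' ⊗ₜ[k] r)) := rfl

theorem act2_injective {U : Type w} [AddCommGroup U] [Module k U] (g : A →ₐ[k] R) :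
    Function.Injective (act2 (V' := V') U g) := by
  unfold act2
  have h1 : Function.Injective ((ext (V := V') g).lTensor U) :=
    Module.Flat.lTensor_preserves_injective_linearMap _ (ext_injective g)
  exact (TensorProduct.assoc k U V' R).symm.injective.comp
    (h1.comp (TensorProduct.assoc k U V' R).injective)

omit [Field k] in
theorem assoc_symm_natural {k : Type u} [CommRing k] {R : Type u} [AddCommGroup R] [Module k R]
    {V' : Type v'} [AddCommGroup V'] [Module k V']
    {U : Type w} {U₂ : Type*} [AddCommGroup U] [Module k U] [AddCommGroup U₂] [Module k U₂]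
    (f : U →ₗ[k] U₂) (u : U) (E : V' ⊗[k] R) :
    (f.rTensor V').rTensor R ((TensorProduct.assoc k U V' R).symm (u ⊗ₜ[k] E)) =
      (TensorProduct.assoc k U₂ V' R).symm (f u ⊗ₜ[k] E) := by
  induction E using TensorProduct.induction_on with
  | zero => simp
  | add a b ha hb => simp only [TensorProduct.tmul_add, map_add, ha, hb]
  | tmul v' r => simp

theorem act2_natural {U : Type w} {U₂ : Type*} [AddCommGroup U] [Module k U] [AddCommGroup U₂] [Module k U₂]
    (g : A →ₐ[k] R) (f : U →ₗ[k] U₂) (y : (U ⊗[k] V') ⊗[k] R) :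
    (f.rTensor V').rTensor R (act2 U g y) = act2 U₂ g ((f.rTensor V').rTensor R y) := by
  induction y using TensorProduct.induction_on with
  | zero => simp
  | add a b ha hb => simp only [map_add, ha, hb]
  | tmul x r =>
    induction x using TensorProduct.induction_on with
    | zero => simp
    | add a b ha hb => simp only [TensorProduct.add_tmul, map_add, ha, hb]
    | tmul u v' =>
      rw [act2_tmul, assoc_symm_natural, LinearMap.rTensor_tmul, LinearMap.rTensor_tmul, act2_tmul]

omit [Field k] in
theorem rightComm_natural {k : Type u} [CommRing k] {R : Type u} [AddCommGroup R] [Module k R]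
    {V' : Type v'} [AddCommGroup V'] [Module k V']
    {U : Type w} {U₂ : Type*} [AddCommGroup U] [Module k U] [AddCommGroup U₂] [Module k U₂]
    (f : U →ₗ[k] U₂) (y : U ⊗[k] R) (v' : V') :
    (f.rTensor V').rTensor R (TensorProduct.rightComm k U R V' (y ⊗ₜ[k] v')) =
      TensorProduct.rightComm k U₂ R V' (f.rTensor R y ⊗ₜ[k] v') := by
  induction y using TensorProduct.induction_on with
  | zero => simp
  | add a b ha hb => simp only [TensorProduct.add_tmul, map_add, ha, hb]
  | tmul u r => simp

end Act2

section Key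

variable {k : Type u} [Field k] {A : Type u} [CommRing A] [HopfAlgebra k A]
variable {R : Type u} [CommRing R] [Algebra k R]
variable {V : Type v} [AddCommGroup V] [Module k V] (c : HopfRep.Comod k A V)
variable {V' : Type v'} [AddCommGroup V'] [Module k V'] (c' : HopfRep.Comod k A V')

/-- the action on the tensor product comodule -/
noncomputable abbrev actT (g : A →ₐ[k] R) : V ⊗[k] V' →ₗ[k] (V ⊗[k] V') ⊗[k] R :=
  @actR k _ A _ _ (V ⊗[k] V') _ _ (ComodTens.Comod.tensor c c') R _ _ g

/-- (K): the action on `v ⊗ v'` is the action on `v` followed by the action on the second factor -/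
theorem actT_tmul (g : A →ₐ[k] R) (v : V) (v' : V') :
    actT c c' g (v ⊗ₜ[k] v') =
      @act2 k _ A _ _ R _ _ V' _ _ c' V _ _ g
        (TensorProduct.rightComm k V R V' (@actR k _ A _ _ V _ _ c R _ _ g v ⊗ₜ[k] v')) := by
  letI := c
  letI := c'
  show LinearMap.lTensor (V ⊗[k] V') g.toLinearMap ((ComodTens.Comod.tensor c c').coact (v ⊗ₜ[k] v')) = _
  rw [ComodTens.tensor_coact_tmul, actR_apply]
  generalize c.coact v = s
  induction s using TensorProduct.induction_on with
  | zero => simp
  | add a b ha hb => simp only [TensorProduct.add_tmul, map_add, ha, hb]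
  | tmul v₀ a =>
    rw [LinearMap.lTensor_tmul, TensorProduct.rightComm_tmul, act2_tmul, ext_tmul, actR_apply]
    generalize c'.coact v' = t
    induction t using TensorProduct.induction_on with
    | zero => simp
    | add x y hx hy => simp only [TensorProduct.tmul_add, map_add, hx, hy]
    | tmul v₀' b =>
      simp only [TensorProduct.AlgebraTensorModule.tensorTensorTensorComm_tmul, TensorProduct.map_tmul,
        LinearMap.id_apply, LinearMap.mul'_apply, LinearMap.lTensor_tmul, AlgHom.toLinearMap_apply,
        map_mul, rmul_tmul, TensorProduct.assoc_symm_tmul]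
      rw [mul_comm]

/-- the swap is a comodule isomorphism -/
theorem actT_comm (g : A →ₐ[k] R) (x : V ⊗[k] V') :
    actT c' c g (TensorProduct.comm k V V' x) =
      (TensorProduct.comm k V V').toLinearMap.rTensor R (actT c c' g x) := by
  induction x using TensorProduct.induction_on with
  | zero => simp
  | add a b ha hb => simp only [map_add, ha, hb]
  | tmul v v' =>
    rw [TensorProduct.comm_tmul]
    show LinearMap.lTensor (V' ⊗[k] V) g.toLinearMap ((ComodTens.Comod.tensor c' c).coact (v' ⊗ₜ[k] v)) =
      (TensorProduct.comm k V V').toLinearMap.rTensor R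
        (LinearMap.lTensor (V ⊗[k] V') g.toLinearMap ((ComodTens.Comod.tensor c c').coact (v ⊗ₜ[k] v')))
    rw [ComodTens.tensor_coact_tmul, ComodTens.tensor_coact_tmul]
    generalize c.coact v = s
    generalize c'.coact v' = t
    induction s using TensorProduct.induction_on with
    | zero => simp
    | add a b ha hb => simp only [TensorProduct.add_tmul, TensorProduct.tmul_add, map_add, ha, hb]
    | tmul v₀ a =>
      induction t using TensorProduct.induction_on with
      | zero => simp
      | add x y hx hy => simp only [TensorProduct.add_tmul, TensorProduct.tmul_add, map_add, hx, hy]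
      | tmul v₀' b =>
        simp only [TensorProduct.AlgebraTensorModule.tensorTensorTensorComm_tmul, TensorProduct.map_tmul,
          LinearMap.id_apply, LinearMap.mul'_apply, LinearMap.lTensor_tmul, AlgHom.toLinearMap_apply,
          LinearMap.rTensor_tmul, LinearEquiv.coe_coe, TensorProduct.comm_tmul]
        rw [mul_comm]

end Key

section Stab

variable {k : Type u} [Field k] {A : Type u} [CommRing A] [HopfAlgebra k A]
variable {R : Type u} [CommRing R] [Algebra k R]
variable {V : Type v} [AddCommGroup V] [Module k V] (c : HopfRep.Comod k A V)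
variable {V' : Type v'} [AddCommGroup V'] [Module k V'] (c' : HopfRep.Comod k A V')
variable (W : Submodule k V) (W' : Submodule k V')

omit [Field k] in
theorem tmul_right_eq_zero {k : Type u} [Field k] {M : Type*} [AddCommGroup M] [Module k M]
    {N : Type*} [AddCommGroup N] [Module k N] (y : M) (n : N) (hn : n ≠ 0) (h : y ⊗ₜ[k] n = 0) : y = 0 := by
  have hn' : n ∉ (⊥ : Submodule k N) := by rwa [Submodule.mem_bot]
  obtain ⟨f, hf, _⟩ := Submodule.exists_dual_map_eq_bot_of_notMem hn' inferInstance
  have h1 := congrArg ((TensorProduct.rid k M).toLinearMap ∘ₗ LinearMap.lTensor M f) h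
  simp only [LinearMap.comp_apply, LinearMap.lTensor_tmul, map_zero, LinearEquiv.coe_coe,
    TensorProduct.rid_tmul] at h1
  exact (smul_eq_zero.mp h1).resolve_left hf

/-- (⇒), first factor -/
theorem stab_left (g : A →ₐ[k] R) (hW' : W' ≠ ⊥)
    (h : ∀ x ∈ LinearMap.range (TensorProduct.mapIncl W W'),
      actT c c' g x ∈ LinearMap.range ((LinearMap.range (TensorProduct.mapIncl W W')).subtype.rTensor R)) :
    ∀ x ∈ W, @actR k _ A _ _ V _ _ c R _ _ g x ∈ LinearMap.range (W.subtype.rTensor R) := by
  letI := c
  letI := c'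
  obtain ⟨w', hw', hw'0⟩ := Submodule.exists_mem_ne_zero_of_ne_bot hW'
  intro w hw
  set X := LinearMap.range (TensorProduct.mapIncl W W') with hX
  have hxX : w ⊗ₜ[k] w' ∈ X := ⟨(⟨w, hw⟩ : W) ⊗ₜ[k] (⟨w', hw'⟩ : W'), rfl⟩
  obtain ⟨z, hz⟩ := h _ hxX
  have hP : (W.mkQ.rTensor V') ∘ₗ X.subtype = 0 := by
    apply LinearMap.ext
    rintro ⟨x, t, rfl⟩
    show W.mkQ.rTensor V' (TensorProduct.mapIncl W W' t) = 0
    induction t using TensorProduct.induction_on with
    | zero => simp
    | add a b ha hb => simp only [map_add, ha, hb, add_zero]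
    | tmul a b =>
      rw [TensorProduct.mapIncl, TensorProduct.map_tmul, LinearMap.rTensor_tmul, Submodule.subtype_apply,
        Submodule.mkQ_apply, (Submodule.Quotient.mk_eq_zero W).mpr a.2, TensorProduct.zero_tmul]
  have h1 : (W.mkQ.rTensor V').rTensor R (actT c c' g (w ⊗ₜ[k] w')) = 0 := by
    rw [← hz, ← LinearMap.comp_apply, ← LinearMap.rTensor_comp, hP, LinearMap.rTensor_zero,
      LinearMap.zero_apply]
  rw [actT_tmul, act2_natural, rightComm_natural] at h1
  have h2 := act2_injective (V' := V') g (h1.trans (map_zero _).symm)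
  have h3 : (W.mkQ.rTensor R (actR g w)) ⊗ₜ[k] w' = 0 :=
    (TensorProduct.rightComm k (V ⧸ W) R V').injective (h2.trans (map_zero _).symm)
  have h4 := tmul_right_eq_zero _ w' hw'0 h3
  exact (mem_range_subtype_rTensor_iff R W _).mpr h4

/-- the hypothesis is symmetric under swapping the factors -/
theorem stab_swap (g : A →ₐ[k] R)
    (h : ∀ x ∈ LinearMap.range (TensorProduct.mapIncl W W'),
      actT c c' g x ∈ LinearMap.range ((LinearMap.range (TensorProduct.mapIncl W W')).subtype.rTensor R)) :
    ∀ x ∈ LinearMap.range (TensorProduct.mapIncl W' W),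
      actT c' c g x ∈ LinearMap.range ((LinearMap.range (TensorProduct.mapIncl W' W)).subtype.rTensor R) := by
  rintro _ ⟨t, rfl⟩
  set X := LinearMap.range (TensorProduct.mapIncl W W') with hX
  set X' := LinearMap.range (TensorProduct.mapIncl W' W) with hX'
  have e1 : TensorProduct.mapIncl W' W t =
      TensorProduct.comm k V V' (TensorProduct.mapIncl W W' (TensorProduct.comm k W' W t)) := by
    rw [TensorProduct.mapIncl, TensorProduct.mapIncl, ← TensorProduct.map_comm]
    exact congrArg _ ((TensorProduct.comm k W' W).symm_apply_apply t).symm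
  rw [e1, actT_comm]
  obtain ⟨z, hz⟩ := h _ ⟨TensorProduct.comm k W' W t, rfl⟩
  rw [← hz]
  let φ : X →ₗ[k] X' := LinearMap.codRestrict X' ((TensorProduct.comm k V V').toLinearMap ∘ₗ X.subtype)
    (by
      rintro ⟨x, s, rfl⟩
      refine ⟨TensorProduct.comm k W W' s, ?_⟩
      show TensorProduct.mapIncl W' W (TensorProduct.comm k W W' s) =
        TensorProduct.comm k V V' (TensorProduct.mapIncl W W' s)
      rw [TensorProduct.mapIncl, TensorProduct.mapIncl, TensorProduct.map_comm])
  have hφ : X'.subtype ∘ₗ φ = (TensorProduct.comm k V V').toLinearMap ∘ₗ X.subtype := by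
    apply LinearMap.ext
    intro x
    rfl
  refine ⟨φ.rTensor R z, ?_⟩
  rw [← LinearMap.comp_apply, ← LinearMap.rTensor_comp, hφ, LinearMap.rTensor_comp, LinearMap.comp_apply]

/-- (⇐) -/
theorem stab_tensor (g : A →ₐ[k] R)
    (h₁ : ∀ x ∈ W, @actR k _ A _ _ V _ _ c R _ _ g x ∈ LinearMap.range (W.subtype.rTensor R))
    (h₂ : ∀ x ∈ W', @actR k _ A _ _ V' _ _ c' R _ _ g x ∈ LinearMap.range (W'.subtype.rTensor R)) :
    ∀ x ∈ LinearMap.range (TensorProduct.mapIncl W W'),
      actT c c' g x ∈ LinearMap.range ((LinearMap.range (TensorProduct.mapIncl W W')).subtype.rTensor R) := by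
  letI := c
  letI := c'
  set X := LinearMap.range (TensorProduct.mapIncl W W') with hX
  have hpure : ∀ (u : W) (y'' : W' ⊗[k] R),
      (TensorProduct.assoc k V V' R).symm ((u : V) ⊗ₜ[k] (W'.subtype.rTensor R y'')) ∈
        LinearMap.range (X.subtype.rTensor R) := by
    intro u y''
    induction y'' using TensorProduct.induction_on with
    | zero => simp
    | add a b ha hb =>
      rw [map_add, TensorProduct.tmul_add, map_add]
      exact Submodule.add_mem _ ha hb
    | tmul u' r =>
      rw [LinearMap.rTensor_tmul, TensorProduct.assoc_symm_tmul]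
      exact ⟨(⟨(u : V) ⊗ₜ[k] (u' : V'), ⟨u ⊗ₜ[k] u', rfl⟩⟩ : X) ⊗ₜ[k] r, rfl⟩
  rintro _ ⟨t, rfl⟩
  induction t using TensorProduct.induction_on with
  | zero => simp
  | add a b ha hb =>
    rw [map_add, map_add]
    exact Submodule.add_mem _ ha hb
  | tmul w w' =>
    show actT c c' g ((w : V) ⊗ₜ[k] (w' : V')) ∈ _
    rw [actT_tmul]
    obtain ⟨y, hy⟩ := h₁ w w.2
    obtain ⟨y', hy'⟩ := h₂ w' w'.2
    rw [← hy]
    clear hy
    induction y using TensorProduct.induction_on with
    | zero => simp
    | add a b ha hb =>
      rw [map_add, TensorProduct.add_tmul, map_add, map_add]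
      exact Submodule.add_mem _ ha hb
    | tmul u r =>
      rw [LinearMap.rTensor_tmul, TensorProduct.rightComm_tmul, act2_tmul, ext_tmul, ← hy',
        rmul_rTensor]
      exact hpure u _

end Stab

end StabTensor9
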