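import Groth.Agent.Lib.ChevStab_helper1
import Groth.Agent.Lib.StabTensor_helper9
import Groth.Agent.Lib.HopfQuot_helper1

/-!
# Observable subgroups: stabilizer of a line with trivial character (helper1)

APPEND-ONLY once landed.
-/

set_option autoImplicit false
set_option maxHeartbeats 1000000
universe u
open TensorProduct

namespace ChevH1

open Groth.Agent.Lib.HopfFFH1

section KerHopf

variable {k : Type*} [Field k] {A B : Type*} [CommRing A] [CommRing B] [HopfAlgebra k A]
  [HopfAlgebra k B]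

theorem ker_isHopfIdeal (π : A →ₐc[k] B) : (RingHom.ker (π : A →+* B)).IsHopfIdeal k where
  counit_eq_zero := by
    intro x hx
    have hx' : π x = 0 := hx
    have h := CoalgHomClass.counit_comp_apply π x
    rw [← h, hx', map_zero]
  map_mkQ_comul_eq_zero := by
    intro x hx
    have hx' : π x = 0 := hx
    have hle : (RingHom.ker (π : A →+* B)).restrictScalars k =
        LinearMap.ker ((π : A →ₐ[k] B).toLinearMap) := by
      ext y
      rfl
    have hinj : Function.Injective
        (((RingHom.ker (π : A →+* B)).restrictScalars k).liftQ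
          ((π : A →ₐ[k] B).toLinearMap) (le_of_eq hle)) := by
      rw [← LinearMap.ker_eq_bot]
      exact Submodule.ker_liftQ_eq_bot' _ _ hle
    have hinj2 := TensorProduct.map_injective_of_flat_flat _ _ hinj hinj
    apply hinj2
    rw [map_zero, ← LinearMap.comp_apply, ← TensorProduct.map_comp, Submodule.liftQ_mkQ]
    have h := CoalgHomClass.map_comp_comul_apply π x
    rw [hx', map_zero] at h
    exact h
  antipode_mem := by
    intro x hx
    have hx' : π x = 0 := hx
    show π (HopfAlgebra.antipode k x) = 0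
    rw [← antipode_bialgHom_apply, hx', map_zero]

end KerHopf

section GroupLike

variable {k : Type*} [Field k] {B : Type*} [CommRing B] [Bialgebra k B]
  {V : Type*} [AddCommGroup V] [Module k V]

theorem tmul_left_eq_zero {M N : Type*} [AddCommGroup M] [Module k M] [AddCommGroup N]
    [Module k N] (n : N) (y : M) (hn : n ≠ 0) (h : n ⊗ₜ[k] y = 0) : y = 0 := by
  apply StabTensor9.tmul_right_eq_zero (k := k) y n hn
  have := congrArg (TensorProduct.comm k N M) h
  simpa using this

theorem isGroupLike_of_eigen (c : HopfRep.Comod k B V) (v : V) (hv : v ≠ 0) (χ : B)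
    (h : c.coact v = v ⊗ₜ[k] χ) : IsGroupLikeElem k χ := by
  constructor
  · have h1 := LinearMap.congr_fun c.counit_comp v
    simp only [LinearMap.comp_apply, h, LinearMap.lTensor_tmul, LinearMap.flip_apply,
      TensorProduct.mk_apply] at h1
    have h2 : v ⊗ₜ[k] (CoalgebraStruct.counit (R := k) χ - 1) = 0 := by
      rw [TensorProduct.tmul_sub, h1, sub_self]
    exact sub_eq_zero.mp (tmul_left_eq_zero v _ hv h2)
  · have h1 := LinearMap.congr_fun c.coassoc v
    simp only [LinearMap.comp_apply, h, LinearMap.rTensor_tmul, LinearEquiv.coe_coe,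
      TensorProduct.assoc_tmul, LinearMap.lTensor_tmul] at h1
    have h2 : v ⊗ₜ[k] (CoalgebraStruct.comul (R := k) χ - χ ⊗ₜ[k] χ) = 0 := by
      rw [TensorProduct.tmul_sub, ← h1, sub_self]
    exact sub_eq_zero.mp (tmul_left_eq_zero v _ hv h2)

end GroupLike

section Tensor

variable {k : Type u} [Field k] {A B : Type u} [CommRing A] [CommRing B] [HopfAlgebra k A]
  [HopfAlgebra k B]
variable {V W : Type u} [AddCommGroup V] [Module k V] [AddCommGroup W] [Module k W]

theorem tensor_eigen (π : A →ₐc[k] B) (c : HopfRep.Comod k A V) (d : HopfRep.Comod k A W)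
    (v : V) (w : W) (χ ψ : B)
    (hv : LinearMap.lTensor V π.toLinearMap (c.coact v) = v ⊗ₜ[k] χ)
    (hw : LinearMap.lTensor W π.toLinearMap (d.coact w) = w ⊗ₜ[k] ψ) :
    LinearMap.lTensor (V ⊗[k] W) π.toLinearMap ((ComodTens.Comod.tensor c d).coact (v ⊗ₜ[k] w)) =
      (v ⊗ₜ[k] w) ⊗ₜ[k] (χ * ψ) := by
  rw [ComodTens.tensor_coact_tmul]
  have key : ∀ (y : V ⊗[k] A) (z : W ⊗[k] A),
      LinearMap.lTensor (V ⊗[k] W) π.toLinearMap
        (TensorProduct.map LinearMap.id (LinearMap.mul' k A)
          (AlgebraTensorModule.tensorTensorTensorComm k k k k V A W A (y ⊗ₜ[k] z))) =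
      TensorProduct.map LinearMap.id (LinearMap.mul' k B)
        (AlgebraTensorModule.tensorTensorTensorComm k k k k V B W B
          (LinearMap.lTensor V π.toLinearMap y ⊗ₜ[k] LinearMap.lTensor W π.toLinearMap z)) := by
    intro y z
    induction y using TensorProduct.induction_on with
    | zero => simp
    | add y y' hy hy' => simp only [TensorProduct.add_tmul, map_add, hy, hy']
    | tmul v a =>
      induction z using TensorProduct.induction_on with
      | zero => simp
      | add z z' hz hz' => simp only [TensorProduct.tmul_add, map_add, hz, hz']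
      | tmul w b =>
        simp only [AlgebraTensorModule.tensorTensorTensorComm_tmul, TensorProduct.map_tmul,
          LinearMap.id_apply, LinearMap.mul'_apply, LinearMap.lTensor_tmul]
        congr 1
        exact map_mul π a b
  rw [key, hv, hw]
  simp only [AlgebraTensorModule.tensorTensorTensorComm_tmul, TensorProduct.map_tmul,
    LinearMap.id_apply, LinearMap.mul'_apply]

theorem exists_tmul_of_span (v : V) (R : Type u) [CommRing R] [Algebra k R]
    (y : ↥(Submodule.span k {v}) ⊗[k] R) :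
    ∃ cc : R, (Submodule.span k {v}).subtype.rTensor R y = v ⊗ₜ[k] cc := by
  induction y using TensorProduct.induction_on with
  | zero => exact ⟨0, by simp⟩
  | tmul x r =>
    obtain ⟨a, ha⟩ := Submodule.mem_span_singleton.mp x.2
    refine ⟨a • r, ?_⟩
    rw [LinearMap.rTensor_tmul, Submodule.subtype_apply, ← ha, TensorProduct.smul_tmul]
  | add y y' hy hy' =>
    obtain ⟨c1, h1⟩ := hy
    obtain ⟨c2, h2⟩ := hy'
    exact ⟨c1 + c2, by rw [map_add, h1, h2, TensorProduct.tmul_add]⟩

theorem stabLine_iff_P_span (c : HopfRep.Comod k A V) (v : V) (R : Type u) [CommRing R]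
    [Algebra k R] (g : A →ₐ[k] R) :
    @SGA3.StabilizesLine k _ A _ _ V _ _ c v R _ _ g ↔
      ∀ x ∈ Submodule.span k {v}, LinearMap.lTensor V g.toLinearMap (c.coact x) ∈
        LinearMap.range ((Submodule.span k {v}).subtype.rTensor R) := by
  constructor
  · rintro ⟨cc, h⟩ x hx
    obtain ⟨a, rfl⟩ := Submodule.mem_span_singleton.mp hx
    refine ⟨(⟨v, Submodule.mem_span_singleton_self v⟩ : ↥(Submodule.span k {v})) ⊗ₜ[k] (a • cc), ?_⟩
    rw [LinearMap.rTensor_tmul, Submodule.subtype_apply, map_smul, map_smul]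
    have h' : LinearMap.lTensor V g.toLinearMap (c.coact v) = v ⊗ₜ[k] cc := h
    rw [h', TensorProduct.tmul_smul]
  · intro h
    obtain ⟨y, hy⟩ := h v (Submodule.mem_span_singleton_self v)
    obtain ⟨cc, hcc⟩ := exists_tmul_of_span v R y
    exact ⟨cc, hy.symm.trans hcc⟩

theorem range_mapIncl_span (v : V) (w : W) :
    LinearMap.range (TensorProduct.mapIncl (Submodule.span k {v}) (Submodule.span k {w})) =
      Submodule.span k {v ⊗ₜ[k] w} := by
  apply le_antisymm
  · rintro _ ⟨t, rfl⟩
    induction t using TensorProduct.induction_on with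
    | zero => simp
    | tmul x y =>
      obtain ⟨a, ha⟩ := Submodule.mem_span_singleton.mp x.2
      obtain ⟨b, hb⟩ := Submodule.mem_span_singleton.mp y.2
      have : TensorProduct.mapIncl (Submodule.span k {v}) (Submodule.span k {w}) (x ⊗ₜ[k] y) =
          (a * b) • (v ⊗ₜ[k] w) := by
        rw [TensorProduct.mapIncl, TensorProduct.map_tmul, Submodule.subtype_apply,
          Submodule.subtype_apply, ← ha, ← hb, TensorProduct.smul_tmul_smul]
      rw [this]
      exact Submodule.smul_mem _ _ (Submodule.mem_span_singleton_self _)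
    | add t t' ht ht' =>
      rw [map_add]
      exact Submodule.add_mem _ ht ht'
  · rw [Submodule.span_le]
    rintro _ rfl
    exact ⟨(⟨v, Submodule.mem_span_singleton_self v⟩ : ↥(Submodule.span k {v})) ⊗ₜ[k]
      (⟨w, Submodule.mem_span_singleton_self w⟩ : ↥(Submodule.span k {w})), rfl⟩

theorem stabLine_tensor (c : HopfRep.Comod k A V) (d : HopfRep.Comod k A W) (v : V) (w : W)
    (hv : v ≠ 0) (hw : w ≠ 0) (R : Type u) [CommRing R] [Algebra k R] (g : A →ₐ[k] R) :
    @SGA3.StabilizesLine k _ A _ _ (V ⊗[k] W) _ _ (ComodTens.Comod.tensor c d) (v ⊗ₜ[k] w) R _ _ g ↔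
      (@SGA3.StabilizesLine k _ A _ _ V _ _ c v R _ _ g ∧
        @SGA3.StabilizesLine k _ A _ _ W _ _ d w R _ _ g) := by
  have hW : Submodule.span k {v} ≠ ⊥ := by
    intro h
    exact hv ((Submodule.span_singleton_eq_bot).mp h)
  have hW' : Submodule.span k {w} ≠ ⊥ := by
    intro h
    exact hw ((Submodule.span_singleton_eq_bot).mp h)
  rw [stabLine_iff_P_span, stabLine_iff_P_span c, stabLine_iff_P_span d, ← range_mapIncl_span]
  constructor
  · intro h
    exact ⟨StabTensor9.stab_left c d _ _ g hW' h,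
      StabTensor9.stab_left d c _ _ g hW (StabTensor9.stab_swap c d _ _ g h)⟩
  · rintro ⟨h₁, h₂⟩
    exact StabTensor9.stab_tensor c d _ _ g h₁ h₂

end Tensor

section Main

open Groth.Agent.Lib.Comod_helper9

theorem observable (k A B : Type u) [Field k] [CommRing A]
    [HopfAlgebra k A] [Algebra.FiniteType k A] [CommRing B] [HopfAlgebra k B] (π : A →ₐc[k] B)
    (hπ : Function.Surjective π)
    (hocc : ∀ χ : B, IsGroupLikeElem k χ →
      (∃ (V : Type u) (_ : AddCommGroup V) (_ : Module k V) (_ : HopfRep.Comod k A V) (_ : Module.Finite k V) (v : V),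
          v ≠ 0 ∧ LinearMap.lTensor V π.toLinearMap (HopfRep.Comod.coact (k := k) (A := A) v) = v ⊗ₜ[k] χ) →
      ∃ m : ℕ, 0 < m ∧ ∃ ψ : B, IsGroupLikeElem k ψ ∧ ψ * χ ^ m = 1 ∧
        ∃ (V : Type u) (_ : AddCommGroup V) (_ : Module k V) (_ : HopfRep.Comod k A V) (_ : Module.Finite k V) (v : V),
          v ≠ 0 ∧ LinearMap.lTensor V π.toLinearMap (HopfRep.Comod.coact (k := k) (A := A) v) = v ⊗ₜ[k] ψ) :
    ∃ (V : Type u) (_ : AddCommGroup V) (_ : Module k V) (_ : HopfRep.Comod k A V) (_ : Module.Finite k V) (v : V),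
      v ≠ 0 ∧ Dyn.Represents k A (RingHom.ker (π : A →+* B)) (fun R _ _ g => SGA3.StabilizesLine k A v R g) ∧
      LinearMap.lTensor V π.toLinearMap (HopfRep.Comod.coact (k := k) (A := A) v) = v ⊗ₜ[k] (1 : B) := by
  haveI := ker_isHopfIdeal π
  obtain ⟨V, i1, i2, cV, i3, v, hv, hrep⟩ := chevalley k A (RingHom.ker (π : A →+* B))
  have elin : (π : A →ₐ[k] B).toLinearMap = π.toLinearMap := rfl
  obtain ⟨χ, hχ⟩ := (hrep B (π : A →ₐ[k] B)).mp (fun a ha => ha)
  rw [elin] at hχ
  have hχgl : IsGroupLikeElem k χ :=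
    isGroupLike_of_eigen (comodPush (π : A →ₗc[k] B) cV) v hv χ hχ
  obtain ⟨m, hm, ψ, hψ, hψχ, V', j1, j2, cV', j3, v', hv', hψ'⟩ :=
    hocc χ hχgl ⟨V, i1, i2, cV, i3, v, hv, hχ⟩
  have step : ∀ m : ℕ, ∃ (X : Type u) (_ : AddCommGroup X) (_ : Module k X)
      (cX : HopfRep.Comod k A X) (_ : Module.Finite k X) (x : X), x ≠ 0 ∧
      LinearMap.lTensor X π.toLinearMap (cX.coact x) = x ⊗ₜ[k] (ψ * χ ^ m) ∧
      ∀ (R : Type u) [CommRing R] [Algebra k R] (g : A →ₐ[k] R),
        @SGA3.StabilizesLine k _ A _ _ X _ _ cX x R _ _ g ↔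
          (@SGA3.StabilizesLine k _ A _ _ V' _ _ cV' v' R _ _ g ∧
            (0 < m → @SGA3.StabilizesLine k _ A _ _ V _ _ cV v R _ _ g)) := by
    intro m
    induction m with
    | zero =>
      refine ⟨V', j1, j2, cV', j3, v', hv', ?_, fun R _ _ g => ?_⟩
      · rw [pow_zero, mul_one]
        exact hψ'
      · simp
    | succ m ih =>
      obtain ⟨X, x1, x2, cX, x3, x, hx, hxe, hxs⟩ := ih
      refine ⟨V ⊗[k] X, inferInstance, inferInstance, ComodTens.Comod.tensor cV cX, inferInstance,
        v ⊗ₜ[k] x, ?_, ?_, ?_⟩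
      · intro h0
        exact hv (StabTensor9.tmul_right_eq_zero (k := k) v x hx h0)
      · rw [tensor_eigen π cV cX v x χ (ψ * χ ^ m) hχ hxe]
        congr 1
        ring
      · intro R _ _ g
        rw [stabLine_tensor cV cX v x hv hx R g, hxs R g]
        constructor
        · rintro ⟨h1, h2, _⟩
          exact ⟨h2, fun _ => h1⟩
        · rintro ⟨h2, h1⟩
          exact ⟨h1 (Nat.succ_pos m), h2, fun _ => h1 (Nat.succ_pos m)⟩
  obtain ⟨X, x1, x2, cX, x3, x, hx, hxe, hxs⟩ := step m
  refine ⟨X, x1, x2, cX, x3, x, hx, fun R _ _ g => ?_, ?_⟩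
  · show (∀ a ∈ RingHom.ker (π : A →+* B), g a = 0) ↔
      @SGA3.StabilizesLine k _ A _ _ X _ _ cX x R _ _ g
    rw [hxs R g]
    constructor
    · intro hg
      refine ⟨?_, fun _ => (hrep R g).mp hg⟩
      obtain ⟨h, hh⟩ := exists_lift_of_surjective (π : A →ₐ[k] B) hπ g (fun a ha => hg a ha)
      refine ⟨h ψ, ?_⟩
      have e1 : g.toLinearMap = h.toLinearMap ∘ₗ π.toLinearMap := by
        rw [← hh]
        rfl
      rw [e1, LinearMap.lTensor_comp, LinearMap.comp_apply, hψ', LinearMap.lTensor_tmul]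
      rfl
    · rintro ⟨_, h2⟩
      exact (hrep R g).mpr (h2 hm)
  · rw [hxe, hψχ]

end Main

end ChevH1
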