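import Mathlib

/-!
Helper library (helper3): Chevalley's theorem for complete Noetherian local rings.
-/

set_option autoImplicit false

namespace Groth.Agent.Lib.Chevalley_helper3

universe u

theorem chevalley {R : Type u} [CommRing R] [IsNoetherianRing R] [IsLocalRing R]
    [IsAdicComplete (IsLocalRing.maximalIdeal R) R] (I : ℕ → Ideal R) (hI : Antitone I)
    (hinf : ⨅ s, I s = ⊥) (n : ℕ) : ∃ s : ℕ, I s ≤ IsLocalRing.maximalIdeal R ^ n := by
  classical
  set m := IsLocalRing.maximalIdeal R with hm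
  by_contra hcon
  push Not at hcon
  -- Step 1: stabilization modulo `m ^ k`
  have hstab : ∀ k : ℕ, ∃ N : ℕ, ∀ s, N ≤ s → I N ≤ I s ⊔ m ^ k := by
    intro k
    by_cases hk : k = 0
    · subst hk
      refine ⟨0, fun s _ => ?_⟩
      rw [pow_zero, Ideal.one_eq_top, sup_top_eq]
      exact le_top
    · haveI : IsArtinianRing (R ⧸ m ^ k) := by
        apply IsLocalRing.quotient_artinian_of_mem_minimalPrimes_of_isLocalRing
        refine ⟨⟨inferInstance, Ideal.pow_le_self hk⟩, ?_⟩
        rintro q ⟨hq, hqk⟩ _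
        exact hq.le_of_pow_le hqk
      let f : ℕ →o (Submodule (R ⧸ m ^ k) (R ⧸ m ^ k))ᵒᵈ :=
        ⟨fun s => OrderDual.toDual ((I s).map (Ideal.Quotient.mk (m ^ k))), fun a b hab =>
          OrderDual.toDual_le_toDual.mpr (Ideal.map_mono (hI hab))⟩
      obtain ⟨N, hN⟩ := IsArtinian.monotone_stabilizes f
      refine ⟨N, fun s hs => ?_⟩
      have h1 : (I N).map (Ideal.Quotient.mk (m ^ k)) = (I s).map (Ideal.Quotient.mk (m ^ k)) :=
        congrArg OrderDual.ofDual (hN s hs)
      calc I N ≤ ((I N).map (Ideal.Quotient.mk (m ^ k))).comap (Ideal.Quotient.mk (m ^ k)) :=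
            Ideal.le_comap_map
        _ = ((I s).map (Ideal.Quotient.mk (m ^ k))).comap (Ideal.Quotient.mk (m ^ k)) := by
            rw [h1]
        _ = I s ⊔ m ^ k := by
            rw [Ideal.comap_map_of_surjective _ Ideal.Quotient.mk_surjective,
              ← RingHom.ker_eq_comap_bot, Ideal.mk_ker]
  -- Step 2: a monotone choice of indices
  choose N hN using hstab
  let σ : ℕ → ℕ := fun k => (Finset.range (k + 1)).sup N + k
  have hσN : ∀ k, N k ≤ σ k := fun k =>
    le_trans (Finset.le_sup (f := N) (Finset.mem_range.mpr (Nat.lt_succ_self k)))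
      (Nat.le_add_right _ _)
  have hσk : ∀ k, k ≤ σ k := fun k => Nat.le_add_left _ _
  have hσmono : Monotone σ := by
    intro a b hab
    simp only [σ]
    have : (Finset.range (a + 1)).sup N ≤ (Finset.range (b + 1)).sup N :=
      Finset.sup_mono (Finset.range_mono (by omega))
    omega
  have hstep : ∀ k, I (σ k) ≤ I (σ (k + 1)) ⊔ m ^ k := by
    intro k
    calc I (σ k) ≤ I (N k) := hI (hσN k)
      _ ≤ I (σ (k + 1)) ⊔ m ^ k :=
        hN k (σ (k + 1)) (le_trans (hσN k) (hσmono (Nat.le_succ k)))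
  -- Step 3: the sequence
  obtain ⟨x0, hx0I, hx0m⟩ := SetLike.not_le_iff_exists.mp (hcon (σ n))
  have hstep' : ∀ (j : ℕ) (x : R), x ∈ I (σ (n + j)) →
      ∃ y, y ∈ I (σ (n + j + 1)) ∧ x - y ∈ m ^ (n + j) := by
    intro j x hx
    obtain ⟨y, hy, z, hz, rfl⟩ := Submodule.mem_sup.mp (hstep (n + j) hx)
    exact ⟨y, hy, by simpa using hz⟩
  choose! nxt hnxt1 hnxt2 using hstep'
  let X : ℕ → R := fun j => Nat.rec x0 (fun j x => nxt j x) j
  have hX0 : X 0 = x0 := rfl
  have hXs : ∀ j, X (j + 1) = nxt j (X j) := fun j => rfl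
  have hXI : ∀ j, X j ∈ I (σ (n + j)) := by
    intro j
    induction j with
    | zero => exact hx0I
    | succ j ih =>
      rw [hXs]
      exact hnxt1 j _ ih
  have hXd : ∀ j, X j - X (j + 1) ∈ m ^ (n + j) := fun j => by
    rw [hXs]
    exact hnxt2 j _ (hXI j)
  have htel : ∀ a b, a ≤ b → X a - X b ∈ m ^ (n + a) := by
    intro a b hab
    induction b, hab using Nat.le_induction with
    | base => simp
    | succ b hab ih =>
      have : X a - X (b + 1) = (X a - X b) + (X b - X (b + 1)) := by ring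
      rw [this]
      exact Ideal.add_mem _ ih (Ideal.pow_le_pow_right (by omega) (hXd b))
  obtain ⟨L, hL⟩ := IsPrecomplete.prec' (I := m) (M := R) X (by
    intro a b hab
    rw [SModEq.sub_mem, smul_eq_mul, Ideal.mul_top]
    exact Ideal.pow_le_pow_right (Nat.le_add_left a n) (htel a b hab))
  have hL' : ∀ j, X j - L ∈ m ^ j := by
    intro j
    have := hL j
    rwa [SModEq.sub_mem, smul_eq_mul, Ideal.mul_top] at this
  have hLn : L ∉ m ^ n := by
    intro hLm
    apply hx0m
    have h1 : X 0 - X n ∈ m ^ n := by simpa using htel 0 n (Nat.zero_le n)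
    have h2 := hL' n
    have : x0 = (X 0 - X n) + (X n - L) + L := by rw [hX0]; ring
    rw [this]
    exact Ideal.add_mem _ (Ideal.add_mem _ h1 h2) hLm
  have hclosed : ∀ J : Ideal R, (∀ i, L ∈ J ⊔ m ^ i) → L ∈ J := by
    intro J hJ
    have hkrull := Ideal.iInf_pow_smul_eq_bot_of_isLocalRing (M := R ⧸ J) m
      (IsLocalRing.maximalIdeal.isMaximal R).ne_top
    rw [← Ideal.Quotient.eq_zero_iff_mem]
    have hmem : Ideal.Quotient.mk J L ∈ (⨅ i : ℕ, m ^ i • ⊤ : Submodule R (R ⧸ J)) := by
      rw [Submodule.mem_iInf]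
      intro i
      obtain ⟨y, hy, z, hz, hyz⟩ := Submodule.mem_sup.mp (hJ i)
      rw [← hyz, map_add, Ideal.Quotient.eq_zero_iff_mem.mpr hy, zero_add]
      have h1 : Ideal.Quotient.mk J z = z • (Ideal.Quotient.mk J 1) := by
        rw [Algebra.smul_def, Ideal.Quotient.algebraMap_eq, ← map_mul, mul_one]
      rw [h1]
      exact Submodule.smul_mem_smul hz Submodule.mem_top
    rw [hkrull] at hmem
    exact (Submodule.mem_bot R).mp hmem
  have hLI : ∀ j, L ∈ I (σ (n + j)) := by
    intro j
    apply hclosed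
    intro i
    have hi' : X (max i j) ∈ I (σ (n + j)) :=
      hI (hσmono (by omega)) (hXI (max i j))
    have h2 : X (max i j) - L ∈ m ^ i :=
      Ideal.pow_le_pow_right (le_max_left i j) (hL' (max i j))
    have : L = X (max i j) - (X (max i j) - L) := by ring
    rw [this]
    exact Submodule.sub_mem _ (Ideal.mem_sup_left hi') (Ideal.mem_sup_right h2)
  have hLinf : L ∈ ⨅ s, I s := by
    rw [Submodule.mem_iInf]
    intro s
    exact hI (le_trans (by omega : s ≤ n + s) (hσk (n + s))) (hLI s)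
  rw [hinf] at hLinf
  exact hLn (by rw [(Submodule.mem_bot R).mp hLinf]; exact Ideal.zero_mem _)

end Groth.Agent.Lib.Chevalley_helper3
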