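import Mathlib

set_option autoImplicit false

namespace Groth.Agent.Lib.ChooseGcd_helper3

open Finset

theorem choose_pow_mul_sub_one_modEq (p : ℕ) [hpf : Fact p.Prime] (a : ℕ) :
    ∀ m : ℕ, 1 ≤ m → Nat.choose (p ^ a * m - 1) (p ^ a - 1) ≡ 1 [MOD p] := by
  have hp := hpf.out
  induction a with
  | zero => intro m hm; simp [Nat.ModEq.refl]
  | succ a ih =>
    intro m hm
    have hpa : 0 < p ^ a := pow_pos hp.pos a
    obtain ⟨X, hX⟩ : ∃ X, p ^ a * m = X + 1 :=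
      ⟨p ^ a * m - 1, by have : 0 < p ^ a * m := Nat.mul_pos hpa hm; omega⟩
    obtain ⟨Y, hY⟩ : ∃ Y, p ^ a = Y + 1 := ⟨p ^ a - 1, by omega⟩
    obtain ⟨P, hP⟩ : ∃ P, p = P + 1 := ⟨p - 1, by have := hp.pos; omega⟩
    have e1 : p ^ (a + 1) * m - 1 = p * X + P := by
      have : p ^ (a + 1) * m = p * X + p := by
        calc p ^ (a + 1) * m = p * (p ^ a * m) := by ring
          _ = p * (X + 1) := by rw [hX]
          _ = p * X + p := by ring
      omega
    have e2 : p ^ (a + 1) - 1 = p * Y + P := by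
      have : p ^ (a + 1) = p * Y + p := by
        calc p ^ (a + 1) = p * p ^ a := by ring
          _ = p * (Y + 1) := by rw [hY]
          _ = p * Y + p := by ring
      omega
    have hPlt : P < p := by omega
    have m1 : (p * X + P) % p = P := by rw [Nat.mul_add_mod]; exact Nat.mod_eq_of_lt hPlt
    have d1 : (p * X + P) / p = X := by
      rw [Nat.mul_add_div hp.pos, Nat.div_eq_of_lt hPlt, add_zero]
    have m2 : (p * Y + P) % p = P := by rw [Nat.mul_add_mod]; exact Nat.mod_eq_of_lt hPlt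
    have d2 : (p * Y + P) / p = Y := by
      rw [Nat.mul_add_div hp.pos, Nat.div_eq_of_lt hPlt, add_zero]
    have h := Choose.choose_modEq_choose_mod_mul_choose_div_nat
      (n := p * X + P) (k := p * Y + P) (p := p)
    rw [m1, d1, m2, d2, Nat.choose_self, one_mul] at h
    rw [e1, e2]
    refine h.trans ?_
    have := ih m hm
    rw [hX, hY] at this
    simpa using this

theorem not_dvd_choose_pred (p : ℕ) (hp : p.Prime) (a m : ℕ) (hm : 1 ≤ m) :
    ¬ p ∣ Nat.choose (p ^ a * m - 1) (p ^ a - 1) := by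
  haveI : Fact p.Prime := ⟨hp⟩
  intro h
  have h1 := choose_pow_mul_sub_one_modEq p a m hm
  have h0 : Nat.choose (p ^ a * m - 1) (p ^ a - 1) ≡ 0 [MOD p] := (Nat.modEq_zero_iff_dvd).2 h
  have h2 : 1 ≡ 0 [MOD p] := h1.symm.trans h0
  have h3 := (Nat.modEq_zero_iff_dvd).1 h2
  exact hp.one_lt.ne' (Nat.dvd_one.1 h3)

theorem mul_choose_pred (d k : ℕ) (hd : 1 ≤ d) (hk : 1 ≤ k) :
    d * (d - 1).choose (k - 1) = d.choose k * k := by
  obtain ⟨d', rfl⟩ : ∃ d', d = d' + 1 := ⟨d - 1, by omega⟩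
  obtain ⟨k', rfl⟩ : ∃ k', k = k' + 1 := ⟨k - 1, by omega⟩
  simpa using Nat.add_one_mul_choose_eq d' k'

theorem dvd_choose_iff (d N : ℕ) (hd : 1 ≤ d) (G : ℕ) :
    (∀ k ∈ Finset.Icc 1 N, G ∣ d.choose k) ↔ (∀ δ ∈ Finset.Icc 1 N, δ ∣ d → G ∣ d / δ) := by
  constructor
  · intro h δ hδ hδd
    rw [Nat.dvd_iff_prime_pow_dvd_dvd]
    intro p b hp hpb
    obtain ⟨hδ1, hδN⟩ := Finset.mem_Icc.1 hδ
    obtain ⟨a, δ', hδ', hδeq⟩ :=
      Nat.exists_eq_pow_mul_and_not_dvd (by omega : δ ≠ 0) p hp.ne_one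
    obtain ⟨e, he⟩ := hδd
    have hδpos : 0 < δ := hδ1
    have hde : d / δ = e := by rw [he, Nat.mul_div_cancel_left _ hδpos]
    rw [hde]
    have hqpos : 0 < p ^ a := pow_pos hp.pos a
    have hδ'pos : 0 < δ' := by
      rcases Nat.eq_zero_or_pos δ' with h0 | h0
      · exact absurd (h0 ▸ dvd_zero p) hδ'
      · exact h0
    have hepos : 0 < e := by
      rcases Nat.eq_zero_or_pos e with h0 | h0
      · rw [h0, mul_zero] at he; omega
      · exact h0
    have hqN : p ^ a ∈ Finset.Icc 1 N :=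
      Finset.mem_Icc.2 ⟨hqpos, le_trans (by rw [hδeq]; exact Nat.le_mul_of_pos_right _ hδ'pos) hδN⟩
    have hG := hpb.trans (h (p ^ a) hqN)
    have hm : 1 ≤ δ' * e := Nat.mul_pos hδ'pos hepos
    have hdq : d = p ^ a * (δ' * e) := by rw [he, hδeq]; ring
    have hmul := mul_choose_pred d (p ^ a) hd hqpos
    have hC : d.choose (p ^ a) = δ' * e * (d - 1).choose (p ^ a - 1) := by
      apply Nat.eq_of_mul_eq_mul_right hqpos
      rw [← hmul]
      have h5 : d * (d - 1).choose (p ^ a - 1) =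
          p ^ a * (δ' * e) * (d - 1).choose (p ^ a - 1) :=
        congrArg (fun t => t * (d - 1).choose (p ^ a - 1)) hdq
      rw [h5]
      ring
    have hnd := not_dvd_choose_pred p hp a (δ' * e) hm
    rw [← hdq] at hnd
    rw [hC] at hG
    have c1 : Nat.Coprime (p ^ b) ((d - 1).choose (p ^ a - 1)) :=
      Nat.Coprime.pow_left b ((Nat.Prime.coprime_iff_not_dvd hp).2 hnd)
    have c2 : Nat.Coprime (p ^ b) δ' :=
      Nat.Coprime.pow_left b ((Nat.Prime.coprime_iff_not_dvd hp).2 hδ')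
    have h4 : p ^ b ∣ δ' * e := c1.dvd_of_dvd_mul_right hG
    exact c2.dvd_of_dvd_mul_left h4
  · intro h k hk
    obtain ⟨hk1, hkN⟩ := Finset.mem_Icc.1 hk
    have hgpos : 0 < Nat.gcd d k := Nat.gcd_pos_of_pos_left _ hd
    have hgk : Nat.gcd d k ≤ k := Nat.gcd_le_right _ hk1
    have h1 := h (Nat.gcd d k) (Finset.mem_Icc.2 ⟨hgpos, hgk.trans hkN⟩) (Nat.gcd_dvd_left d k)
    refine h1.trans ?_
    have hcop : Nat.Coprime (d / Nat.gcd d k) (k / Nat.gcd d k) :=
      Nat.coprime_div_gcd_div_gcd hgpos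
    apply hcop.dvd_of_dvd_mul_right
    have hmul := mul_choose_pred d k hd hk1
    have hA : d / Nat.gcd d k * Nat.gcd d k = d := Nat.div_mul_cancel (Nat.gcd_dvd_left d k)
    have hB : k / Nat.gcd d k * Nat.gcd d k = k := Nat.div_mul_cancel (Nat.gcd_dvd_right d k)
    have : (d / Nat.gcd d k) * (d - 1).choose (k - 1) = d.choose k * (k / Nat.gcd d k) := by
      apply Nat.eq_of_mul_eq_mul_right hgpos
      calc d / Nat.gcd d k * (d - 1).choose (k - 1) * Nat.gcd d k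
          = (d / Nat.gcd d k * Nat.gcd d k) * (d - 1).choose (k - 1) := by ring
        _ = d * (d - 1).choose (k - 1) := by rw [hA]
        _ = d.choose k * k := hmul
        _ = d.choose k * (k / Nat.gcd d k * Nat.gcd d k) := by rw [hB]
        _ = d.choose k * (k / Nat.gcd d k) * Nat.gcd d k := by ring
    exact Dvd.intro _ this

theorem dvd_chi_iff (d N : ℕ) (hd : 1 ≤ d) (g : ℤ) :
    (∀ n ∈ Finset.Icc 1 N, g ∣ 1 - (-1 : ℤ) ^ n * ((d - 1).choose n : ℤ)) ↔
      (∀ k ∈ Finset.Icc 1 N, g ∣ (d.choose k : ℤ)) := by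
  obtain ⟨D, rfl⟩ : ∃ D, d = D + 1 := ⟨d - 1, by omega⟩
  simp only [Nat.add_sub_cancel]
  have hstep : ∀ n : ℕ, (1 - (-1 : ℤ) ^ (n + 1) * (D.choose (n + 1) : ℤ)) -
      (1 - (-1 : ℤ) ^ n * (D.choose n : ℤ)) = (-1) ^ n * ((D + 1).choose (n + 1) : ℤ) := by
    intro n
    rw [Nat.choose_succ_succ]
    push_cast
    ring
  constructor
  · intro h k hk
    obtain ⟨hk1, hkN⟩ := Finset.mem_Icc.1 hk
    obtain ⟨k', rfl⟩ : ∃ k', k = k' + 1 := ⟨k - 1, by omega⟩
    have h1 := h (k' + 1) hk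
    have h2 : g ∣ 1 - (-1 : ℤ) ^ k' * (D.choose k' : ℤ) := by
      rcases Nat.eq_zero_or_pos k' with rfl | hpos
      · simp
      · exact h k' (Finset.mem_Icc.2 ⟨hpos, by omega⟩)
    have h3 := dvd_sub h1 h2
    rw [hstep] at h3
    have e : ((D + 1).choose (k' + 1) : ℤ) =
        (-1) ^ k' * ((-1) ^ k' * ((D + 1).choose (k' + 1) : ℤ)) := by
      rw [← mul_assoc, ← mul_pow]; simp
    rw [e]
    exact Dvd.dvd.mul_left h3 _
  · intro h
    have key : ∀ n, n ≤ N → g ∣ 1 - (-1 : ℤ) ^ n * (D.choose n : ℤ) := by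
      intro n
      induction n with
      | zero => intro _; simp
      | succ n ih =>
        intro hn
        have h1 := ih (by omega)
        have h2 := h (n + 1) (Finset.mem_Icc.2 ⟨by omega, hn⟩)
        have h3 := hstep n
        have e : 1 - (-1 : ℤ) ^ (n + 1) * (D.choose (n + 1) : ℤ) =
            (1 - (-1 : ℤ) ^ n * (D.choose n : ℤ)) + (-1) ^ n * ((D + 1).choose (n + 1) : ℤ) := by
          linarith
        rw [e]
        exact dvd_add h1 (Dvd.dvd.mul_left h2 _)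
    intro n hn
    exact key n (Finset.mem_Icc.1 hn).2

theorem main (d N : ℕ) (hd : 1 ≤ d) :
    (Finset.Icc 1 N).gcd (fun n => 1 - (-1 : ℤ) ^ n * ((d - 1).choose n : ℤ)) =
      ((Finset.Icc 1 N).filter (fun δ => δ ∣ d)).gcd (fun δ => ((d / δ : ℕ) : ℤ)) := by
  apply dvd_antisymm_of_normalize_eq Finset.normalize_gcd Finset.normalize_gcd
  · apply Finset.dvd_gcd
    intro δ hδ
    obtain ⟨hδI, hδd⟩ := Finset.mem_filter.1 hδ
    have hL : ∀ n ∈ Finset.Icc 1 N,
        (Finset.Icc 1 N).gcd (fun n => 1 - (-1 : ℤ) ^ n * ((d - 1).choose n : ℤ)) ∣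
          1 - (-1 : ℤ) ^ n * ((d - 1).choose n : ℤ) := fun n hn => Finset.gcd_dvd hn
    have hC := (dvd_chi_iff d N hd _).1 hL
    have hC' : ∀ k ∈ Finset.Icc 1 N,
        ((Finset.Icc 1 N).gcd
          (fun n => 1 - (-1 : ℤ) ^ n * ((d - 1).choose n : ℤ))).natAbs ∣ d.choose k :=
      fun k hk => Int.dvd_natCast.1 (hC k hk)
    exact Int.dvd_natCast.2 ((dvd_choose_iff d N hd _).1 hC' δ hδI hδd)
  · apply Finset.dvd_gcd
    intro n hn
    have hR : ∀ δ ∈ Finset.Icc 1 N, δ ∣ d →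
        (((Finset.Icc 1 N).filter (fun δ => δ ∣ d)).gcd
          (fun δ => ((d / δ : ℕ) : ℤ))).natAbs ∣ d / δ :=
      fun δ hδ hδd => Int.dvd_natCast.1 (Finset.gcd_dvd (Finset.mem_filter.2 ⟨hδ, hδd⟩))
    have hC := (dvd_choose_iff d N hd _).2 hR
    exact (dvd_chi_iff d N hd _).2 (fun k hk => Int.dvd_natCast.2 (hC k hk)) n hn

end Groth.Agent.Lib.ChooseGcd_helper3
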