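import Mathlib
import Groth.Prelude
import Groth.Agent.Lib.ChowE_helper7

/-!
# Chow's lemma, part F (helper7): the EGA II form

`chow_ega`: under the hypotheses of EGA II 5.6.1, an H-projective surjective `f : X' ⟶ X` with
`f ≫ r` H-quasi-projective, an isomorphism over a dense open whose inverse image is dense, and `X'`
reduced / irreducible / integral if `X` is.
APPEND-ONLY once landed.
-/

set_option autoImplicit false
set_option linter.style.haveILetI false
universe u
open CategoryTheory CategoryTheory.Limits AlgebraicGeometry TopologicalSpace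

namespace Groth.Agent.Lib.ChowF_helper7

open CohB1

theorem irreducibleSpace_of_dominant {A B : Scheme.{u}} (g : A ⟶ B) [IsDominant g]
    [IrreducibleSpace A] : IrreducibleSpace B := by
  have h1 : IsIrreducible (Set.range g) := by
    rw [← Set.image_univ]
    exact (IrreducibleSpace.isIrreducible_univ A).image g g.continuous.continuousOn
  have h2 : closure (Set.range g) = Set.univ := g.denseRange.closure_eq
  have h3 := h1.closure
  rw [h2] at h3
  exact (irreducibleSpace_def B).mpr h3

theorem chow_ega {X S : Scheme.{u}} (r : X ⟶ S) [IsSeparated r] [LocallyOfFiniteType r]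
    [QuasiCompact r]
    (h : IsNoetherian S ∨ (CompactSpace S ∧ S.IsSeparated ∧ (irreducibleComponents X).Finite)) :
    ∃ (X' : Scheme.{u}) (f : X' ⟶ X),
      RelProj.IsHQuasiProjective (f ≫ r) ∧ RelProj.IsHProjective f ∧ IsProper f ∧ Surjective f ∧
      (∃ U : X.Opens, Dense (U : Set X) ∧ Dense ((f ⁻¹ᵁ U : X'.Opens) : Set X') ∧
        IsIso (f ∣_ U)) ∧
      (IsReduced X → IsReduced X') ∧ (IrreducibleSpace X → IrreducibleSpace X') ∧
      (IsIntegral X → IsIntegral X') := by
  have hS : CompactSpace S ∧ QuasiSeparatedSpace S ∧ (irreducibleComponents X).Finite := by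
    rcases h with h | ⟨h1, h2, h3⟩
    · haveI := h
      haveI : CompactSpace X := QuasiCompact.compactSpace_of_compactSpace r
      haveI : IsLocallyNoetherian X := LocallyOfFiniteType.isLocallyNoetherian r
      haveI : IsNoetherian X := {}
      exact ⟨inferInstance, inferInstance,
        TopologicalSpace.NoetherianSpace.finite_irreducibleComponents⟩
    · haveI := h2
      exact ⟨h1, inferInstance, h3⟩
  obtain ⟨hS1, hS2, hirr⟩ := hS
  haveI := hS1
  haveI := hS2
  obtain ⟨n, X', π, j, U, r₀, h1, h2, h3, h4, h5, h6, h7, h8, h9, h10⟩ :=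
    Groth.Agent.Lib.ChowE_helper7.chow_projSpace r hirr
  haveI := h3
  haveI := h8
  haveI := h9
  haveI : CompactSpace X := QuasiCompact.compactSpace_of_compactSpace r
  haveI : CompactSpace X' := QuasiCompact.compactSpace_of_compactSpace π
  haveI : IsProper (ProjSpaceOver.toBase n S) :=
    Groth.Agent.Lib.ProjSpaceProperH4.isProper_toBase n S
  haveI : QuasiSeparatedSpace (ProjSpaceOver n S) :=
    quasiSeparatedSpace_of_quasiSeparated (ProjSpaceOver.toBase n S)
  have hsub : Set.range r₀ ⊆ ((π ⁻¹ᵁ U : X'.Opens) : Set X') := by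
    rintro _ ⟨u, rfl⟩
    show π (r₀ u) ∈ U
    rw [← Scheme.Hom.comp_apply, h7]
    exact u.2
  have hdense : Dense ((π ⁻¹ᵁ U : X'.Opens) : Set X') := Dense.mono hsub r₀.denseRange
  refine ⟨X', π, ⟨n, j, h1, inferInstance, h2⟩, h10, h3, h4, ⟨U, h5, hdense, h6⟩, ?_, ?_, ?_⟩
  · intro hX
    haveI := hX
    exact IsSchemeTheoreticallyDominant.isReduced r₀
  · intro hX
    haveI := hX
    have hUirr : IsIrreducible (U : Set X) :=
      ⟨h5.nonempty, (IrreducibleSpace.isIrreducible_univ X).isPreirreducible.open_subset U.2
        (Set.subset_univ _)⟩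
    haveI : IrreducibleSpace U.toScheme := isIrreducible_iff_irreducibleSpace.mp hUirr
    exact irreducibleSpace_of_dominant r₀
  · intro hX
    haveI := hX
    haveI : IsReduced X' := IsSchemeTheoreticallyDominant.isReduced r₀
    have hUirr : IsIrreducible (U : Set X) :=
      ⟨h5.nonempty, (IrreducibleSpace.isIrreducible_univ X).isPreirreducible.open_subset U.2
        (Set.subset_univ _)⟩
    haveI : IrreducibleSpace U.toScheme := isIrreducible_iff_irreducibleSpace.mp hUirr
    haveI : IrreducibleSpace X' := irreducibleSpace_of_dominant r₀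
    exact isIntegral_of_irreducibleSpace_of_isReduced X'

end Groth.Agent.Lib.ChowF_helper7
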