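import Mathlib
import Groth.Prelude
import Groth.Agent.Lib.ChowE_helper7

/-!
# Chow's lemma, part G (helper7): the form for a given covering

`chow_of_cover`: `U` a quasi-compact open contained in finitely many affine opens `Ui i` whose union
contains the closure of `U`; then the scheme-theoretic image `X'` of `U` in `X ×_S ∏ P^{n_i}_S` has
`π : X' ⟶ X` H-projective, an isomorphism over `U`, and `X'` immersed in some `P^n_S`.
`chow_nonempty`: the Noetherian-free variant (iso over a nonempty open).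
APPEND-ONLY once landed.
-/

set_option autoImplicit false
set_option linter.style.haveILetI false
universe u
open CategoryTheory CategoryTheory.Limits AlgebraicGeometry TopologicalSpace

namespace Groth.Agent.Lib.ChowG_helper7

open Groth.Agent.Lib.ChowC_helper7 CohB1

section Family

variable {X S P X' : Scheme.{u}} (f : X ⟶ S) (pS : P ⟶ S) (π : X' ⟶ X) (q : X' ⟶ P)
  (hπq : π ≫ f = q ≫ pS) (U : X.Opens) (r : U.toScheme ⟶ X') (hrπ : r ≫ π = U.ι)

include hrπ in
theorem isImmersion_q' {ι : Type*} (Ui : ι → X.Opens) (hcov : ∀ x : X', ∃ i, π x ∈ Ui i)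
    (hU : ∀ i, U ≤ Ui i)
    {Pi : ι → Scheme.{u}} (ti : ∀ i, Pi i ⟶ S) [∀ i, IsSeparated (ti i)]
    (ji : ∀ i, (Ui i).toScheme ⟶ Pi i) [∀ i, IsImmersion (ji i)]
    (hji : ∀ i, ji i ≫ ti i = (Ui i).ι ≫ f) (p : ∀ i, P ⟶ Pi i) (hp : ∀ i, p i ≫ ti i = pS)
    (hj : ∀ i, r ≫ q ≫ p i = X.homOfLE (hU i) ≫ ji i)
    [IsSeparated f] [QuasiCompact r] [IsSchemeTheoreticallyDominant r]
    [IsClosedImmersion (pullback.lift π q hπq)] :
    IsImmersion q := by
  haveI : MorphismProperty.RespectsRight @IsImmersion @IsOpenImmersion := ⟨fun j hj f hf => by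
    haveI : IsOpenImmersion j := hj
    haveI : IsImmersion f := hf
    infer_instance⟩
  have key := fun i => core_single f pS π q hπq U r hrπ (Ui i) (hU i) (ti i) (ji i) (hji i)
    (p i) (hp i) (hj i)
  apply IsZariskiLocalAtTarget.of_range_subset_iSup (P := @IsImmersion)
    (fun i => (p i) ⁻¹ᵁ (ji i).coborderRange)
  · rintro _ ⟨x, rfl⟩
    obtain ⟨i, hi⟩ := hcov x
    exact Opens.mem_iSup.mpr ⟨i, (key i).1 x hi⟩
  · intro i
    haveI : IsImmersion ((q ∣_ ((p i) ⁻¹ᵁ (ji i).coborderRange)) ≫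
        ((p i) ⁻¹ᵁ (ji i).coborderRange).ι) := by
      rw [morphismRestrict_ι]; exact (key i).2
    exact IsImmersion.of_comp (q ∣_ _) (Scheme.Opens.ι _)

include hrπ in
theorem map_mem_closure [IsDominant r] (x : X') : π x ∈ closure (U : Set X) := by
  have h1 : x ∈ closure (Set.range r) := by rw [r.denseRange.closure_eq]; trivial
  have h2 := image_closure_subset_closure_image π.continuous (Set.mem_image_of_mem π h1)
  refine closure_mono ?_ h2
  rintro _ ⟨_, ⟨u, rfl⟩, rfl⟩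
  show π (r u) ∈ U
  rw [← Scheme.Hom.comp_apply, hrπ]
  exact u.2

end Family

/-- The abstract form of Chow's lemma, without density. -/
theorem chow_core' {X S P : Scheme.{u}} (f : X ⟶ S) [IsSeparated f] [QuasiSeparatedSpace S]
    (pS : P ⟶ S) [IsProper pS] (U : X.Opens) [CompactSpace U.toScheme]
    {ι : Type*} (Ui : ι → X.Opens) (hcov : closure (U : Set X) ⊆ ⋃ i, (Ui i : Set X))
    (hU : ∀ i, U ≤ Ui i)
    {Pi : ι → Scheme.{u}} (ti : ∀ i, Pi i ⟶ S) [∀ i, IsSeparated (ti i)]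
    (ji : ∀ i, (Ui i).toScheme ⟶ Pi i) [∀ i, IsImmersion (ji i)]
    (hji : ∀ i, ji i ≫ ti i = (Ui i).ι ≫ f) (p : ∀ i, P ⟶ Pi i) (hp : ∀ i, p i ≫ ti i = pS)
    (j : U.toScheme ⟶ P) (hjS : U.ι ≫ f = j ≫ pS)
    (hj : ∀ i, j ≫ p i = X.homOfLE (hU i) ≫ ji i) :
    ∃ (X' : Scheme.{u}) (π : X' ⟶ X) (q : X' ⟶ P) (r : U.toScheme ⟶ X') (hπq : π ≫ f = q ≫ pS),
      IsClosedImmersion (pullback.lift π q hπq) ∧ IsProper π ∧ IsImmersion q ∧
      IsIso (π ∣_ U) ∧ r ≫ π = U.ι ∧ QuasiCompact r ∧ IsSchemeTheoreticallyDominant r := by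
  haveI : IsProper (pullback.fst f pS) :=
    MorphismProperty.pullback_fst (P := @IsProper) f pS inferInstance
  haveI : QuasiSeparatedSpace (pullback f pS : Scheme.{u}) :=
    quasiSeparatedSpace_of_quasiSeparated (pullback.fst f pS ≫ f)
  obtain ⟨g, hg⟩ : ∃ g : U.toScheme ⟶ pullback f pS, g = pullback.lift U.ι j hjS := ⟨_, rfl⟩
  have hg1 : g ≫ pullback.fst f pS = U.ι := by rw [hg]; exact pullback.lift_fst _ _ _
  have hg2 : g ≫ pullback.snd f pS = j := by rw [hg]; exact pullback.lift_snd _ _ _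
  haveI : QuasiCompact g := inferInstance
  haveI : IsSchemeTheoreticallyDominant g.toImage := Groth.Agent.Lib.LimSchDense.toImage_dominant g
  have hπq : (g.imageι ≫ pullback.fst f pS) ≫ f = (g.imageι ≫ pullback.snd f pS) ≫ pS := by
    rw [Category.assoc, Category.assoc, pullback.condition]
  have hlift : pullback.lift (g.imageι ≫ pullback.fst f pS) (g.imageι ≫ pullback.snd f pS) hπq =
      g.imageι := by
    apply pullback.hom_ext
    · rw [pullback.lift_fst]
    · rw [pullback.lift_snd]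
  haveI : IsClosedImmersion (pullback.lift (g.imageι ≫ pullback.fst f pS)
      (g.imageι ≫ pullback.snd f pS) hπq) := by rw [hlift]; infer_instance
  have hrπ : g.toImage ≫ g.imageι ≫ pullback.fst f pS = U.ι := by
    rw [← Category.assoc, Scheme.Hom.toImage_imageι, hg1]
  have hrq : g.toImage ≫ g.imageι ≫ pullback.snd f pS = j := by
    rw [← Category.assoc, Scheme.Hom.toImage_imageι, hg2]
  haveI : IsProper (g.imageι ≫ pullback.fst f pS) := inferInstance
  refine ⟨g.image, g.imageι ≫ pullback.fst f pS, g.imageι ≫ pullback.snd f pS, g.toImage, hπq,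
    inferInstance, inferInstance, ?_, ?_, hrπ, inferInstance, inferInstance⟩
  · refine isImmersion_q' f pS _ _ hπq U g.toImage hrπ Ui ?_ hU ti ji hji p hp ?_
    · intro x
      obtain ⟨i, hi⟩ := Set.mem_iUnion.mp (hcov (map_mem_closure _ U g.toImage hrπ x))
      exact ⟨i, hi⟩
    · intro i
      rw [← Category.assoc, hrq, hj i]
  · exact isIso_restrict _ U g.toImage hrπ

theorem isHProjective_of_isClosedImmersion {Z X : Scheme.{u}} (i : Z ⟶ X) [IsClosedImmersion i] :
    RelProj.IsHProjective i := by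
  obtain ⟨n, s, hs, hs1⟩ := Groth.Agent.Lib.ChowA_helper7.isHProjective_id X
  haveI := hs
  exact ⟨n, i ≫ s, inferInstance, by rw [Category.assoc, hs1, Category.comp_id]⟩

/-- Chow's lemma for a given finite affine family covering the closure of `U`. -/
theorem chow_of_cover {X S : Scheme.{u}} (f : X ⟶ S) [QuasiSeparatedSpace S] [IsSeparated f]
    [LocallyOfFiniteType f] {m : ℕ} (Ui : Fin m → X.Opens) (hUaff : ∀ i, IsAffineOpen (Ui i))
    (U : X.Opens) (hU : ∀ i, U ≤ Ui i) (hUc : IsCompact (U : Set X))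
    (hcov : closure (U : Set X) ⊆ ⋃ i, (Ui i : Set X)) :
    ∃ (n : ℕ) (X' : Scheme.{u}) (π : X' ⟶ X) (j : X' ⟶ ProjSpaceOver n S)
      (r : U.toScheme ⟶ X'),
      IsImmersion j ∧ j ≫ ProjSpaceOver.toBase n S = π ≫ f ∧ IsProper π ∧ IsIso (π ∣_ U) ∧
      r ≫ π = U.ι ∧ QuasiCompact r ∧ IsSchemeTheoreticallyDominant r ∧
      RelProj.IsHProjective π := by
  haveI : CompactSpace U.toScheme := isCompact_iff_compactSpace.mp hUc
  haveI : ∀ i, IsAffine (Ui i).toScheme := fun i => hUaff i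
  have himm : ∀ i, ∃ (n : ℕ) (j : (Ui i).toScheme ⟶ ProjSpaceOver n S),
      IsImmersion j ∧ j ≫ ProjSpaceOver.toBase n S = (Ui i).ι ≫ f :=
    fun i => Groth.Agent.Lib.ChowA_helper7.exists_immersion_projSpaceOver ((Ui i).ι ≫ f)
  choose n ji hjimm hji using himm
  obtain ⟨P, pS, p, hP, hp, hl⟩ := Groth.Agent.Lib.ChowA_helper7.exists_prod S m n
  obtain ⟨j, hjS, hj⟩ := hl U.toScheme (U.ι ≫ f) (fun i => X.homOfLE (hU i) ≫ ji i)
    (fun i => by rw [Category.assoc, hji i, Scheme.homOfLE_ι_assoc])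
  haveI : IsProper pS := ((Groth.Agent.Lib.ProjSpaceProperH4.main9705 pS).mp hP).2
  haveI : ∀ i, IsSeparated (ProjSpaceOver.toBase (n i) S) := fun i => by
    haveI := Groth.Agent.Lib.ProjSpaceProperH4.isProper_toBase (n i) S
    infer_instance
  haveI := hjimm
  obtain ⟨X', π, q, r, hπq, h1, h2, h4, h6, h7, h8, h9⟩ :=
    chow_core' f pS U Ui hcov hU
      (fun i => ProjSpaceOver.toBase (n i) S) ji hji p hp j hjS.symm hj
  have hfst : RelProj.IsHProjective (pullback.fst f pS) :=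
    Groth.Agent.HProj.isHProjective_of_isPullback (IsPullback.of_hasPullback f pS).flip hP
  obtain ⟨N, iP, hiP, hiPS⟩ := hP
  haveI := hiP
  haveI := h4
  refine ⟨N, X', π, q ≫ iP, r, inferInstance, ?_, h2, h6, h7, h8, h9, ?_⟩
  · rw [Category.assoc, hiPS, hπq]
  · obtain ⟨M, iY, hiY, hiYX⟩ := hfst
    haveI := hiY
    haveI := h1
    exact ⟨M, pullback.lift π q hπq ≫ iY, inferInstance, by
      rw [Category.assoc, hiYX, pullback.lift_fst]⟩

theorem exists_affine_cover (X : Scheme.{u}) [CompactSpace X] :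
    ∃ (m : ℕ) (Ui : Fin m → X.Opens), (∀ i, IsAffineOpen (Ui i)) ∧ (⨆ i, Ui i = ⊤) := by
  have hA : ∀ x : X, ∃ A : X.Opens, IsAffineOpen A ∧ x ∈ A := by
    intro x
    obtain ⟨_, ⟨V, hV, rfl⟩, hxV, -⟩ :=
      X.isBasis_affineOpens.exists_subset_of_mem_open (Set.mem_univ x) isOpen_univ
    exact ⟨V, hV, hxV⟩
  choose A hAaff hxA using hA
  obtain ⟨t, ht⟩ := isCompact_univ.elim_finite_subcover (fun x : X => (A x : Set X))
    (fun x => (A x).2) (fun x _ => Set.mem_iUnion.mpr ⟨x, hxA x⟩)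
  refine ⟨t.card, fun k => A (t.equivFin.symm k).1, fun k => hAaff _, ?_⟩
  rw [eq_top_iff]
  intro y _
  have := ht (Set.mem_univ y)
  simp only [Set.mem_iUnion] at this
  obtain ⟨x, hx, hy⟩ := this
  refine Opens.mem_iSup.mpr ⟨t.equivFin ⟨x, hx⟩, ?_⟩
  simpa using hy

open Classical in
/-- The variant of Chow's lemma free of Noetherian and irreducibility hypotheses. -/
theorem chow_nonempty {X S : Scheme.{u}} (f : X ⟶ S) [CompactSpace S] [QuasiSeparatedSpace S]
    [IsSeparated f] [LocallyOfFiniteType f] [QuasiCompact f] [Nonempty X] :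
    ∃ (n : ℕ) (X' : Scheme.{u}) (π : X' ⟶ X) (j : X' ⟶ ProjSpaceOver n S) (U : X.Opens),
      IsImmersion j ∧ QuasiCompact j ∧ j ≫ ProjSpaceOver.toBase n S = π ≫ f ∧ IsProper π ∧
      (U : Set X).Nonempty ∧ IsIso (π ∣_ U) ∧ RelProj.IsHProjective π := by
  haveI : CompactSpace X := QuasiCompact.compactSpace_of_compactSpace f
  haveI : QuasiSeparatedSpace X := quasiSeparatedSpace_of_quasiSeparated f
  obtain ⟨m, Ui, hUaff, hcovX⟩ := exists_affine_cover X
  have hemp : (((∅ : Finset (Fin m)).inf Ui : X.Opens) : Set X).Nonempty := by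
    simp only [Finset.inf_empty, Opens.coe_top]
    exact Set.univ_nonempty
  obtain ⟨I, -, hI⟩ := Finite.exists_le_maximal
    (p := fun I : Finset (Fin m) => ((I.inf Ui : X.Opens) : Set X).Nonempty) hemp
  have hIne : ((I.inf Ui : X.Opens) : Set X).Nonempty := hI.prop
  have hdisj : ∀ i, i ∉ I → (Ui i : Set X) ∩ ((I.inf Ui : X.Opens) : Set X) = ∅ := by
    intro i hi
    by_contra hne
    have hmem : (((insert i I).inf Ui : X.Opens) : Set X).Nonempty := by
      rw [Finset.inf_insert, Opens.coe_inf]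
      exact Set.nonempty_iff_ne_empty.mpr hne
    exact hi (hI.le_of_ge hmem (Finset.subset_insert i I) (Finset.mem_insert_self i I))
  have hcl : closure ((I.inf Ui : X.Opens) : Set X) ⊆ ⋃ i ∈ I, (Ui i : Set X) := by
    intro x hx
    have hxc : x ∈ (⨆ i, Ui i : X.Opens) := by rw [hcovX]; trivial
    obtain ⟨i, hi⟩ := Opens.mem_iSup.mp hxc
    by_cases hiI : i ∈ I
    · exact Set.mem_iUnion₂.mpr ⟨i, hiI, hi⟩
    · exfalso
      obtain ⟨y, hy1, hy2⟩ := mem_closure_iff.mp hx (Ui i) (Ui i).2 hi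
      have : y ∈ (Ui i : Set X) ∩ ((I.inf Ui : X.Opens) : Set X) := ⟨hy1, hy2⟩
      rw [hdisj i hiI] at this
      exact this
  obtain ⟨U, hUdef⟩ : ∃ U : X.Opens, U = I.inf Ui := ⟨_, rfl⟩
  have hUle : ∀ k : Fin I.card, U ≤ Ui (I.equivFin.symm k).1 := fun k =>
    hUdef ▸ Finset.inf_le (I.equivFin.symm k).2
  have hUc : IsCompact (U : Set X) :=
    hUdef ▸ Groth.Agent.Lib.ChowB_helper7.isCompact_finset_inf _ Ui
      (fun i _ => (hUaff i).isCompact)
  have hcov : closure (U : Set X) ⊆ ⋃ k : Fin I.card, (Ui (I.equivFin.symm k).1 : Set X) := by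
    intro x hx
    rw [hUdef] at hx
    obtain ⟨i, hiI, hi⟩ := Set.mem_iUnion₂.mp (hcl hx)
    refine Set.mem_iUnion.mpr ⟨I.equivFin ⟨i, hiI⟩, ?_⟩
    simpa using hi
  obtain ⟨n, X', π, j, r, h1, h2, h3, h4, h5, h6, h7, h8⟩ :=
    chow_of_cover f (fun k : Fin I.card => Ui (I.equivFin.symm k).1) (fun k => hUaff _) U hUle hUc
      hcov
  haveI := h3
  haveI : CompactSpace X' := QuasiCompact.compactSpace_of_compactSpace π
  haveI : IsProper (ProjSpaceOver.toBase n S) :=
    Groth.Agent.Lib.ProjSpaceProperH4.isProper_toBase n S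
  haveI : QuasiSeparatedSpace (ProjSpaceOver n S) :=
    quasiSeparatedSpace_of_quasiSeparated (ProjSpaceOver.toBase n S)
  exact ⟨n, X', π, j, U, h1, inferInstance, h2, h3, hUdef ▸ hIne, h4, h8⟩

end Groth.Agent.Lib.ChowG_helper7
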