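import Mathlib
import Groth.Prelude.Def_PolLaw
import Groth.Agent.Lib.GammaSpan_helper1

/-!
# Full polarization of a polynomial law (helper1)

`PS F S z` is the coefficient of `Y_1 ⋯ Y_d` in `F (∑ Y_i z_i)`; it is additive and `S`-homogeneous
in every slot.
-/

set_option autoImplicit false
universe u
open scoped TensorProduct
open MvPolynomial

namespace Groth.Agent.Lib.PolarH1

open Groth.Agent.Lib.GammaSpanH1 Groth.Agent.Lib.PolLawKerH1

section mvpoly

variable {S : Type u} [CommRing S] {σ τ : Type}

theorem aeval_scaled_monomial (a : σ → S) (f : σ → τ) (m : σ →₀ ℕ) (s : S) :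
    MvPolynomial.aeval (fun k => C (a k) * X (f k) : σ → MvPolynomial τ S) (monomial m s) =
      monomial (m.mapDomain f) (s * m.prod (fun k e => a k ^ e)) := by
  rw [aeval_monomial, algebraMap_eq]
  have h2 : (m.prod fun k e => (X (f k) : MvPolynomial τ S) ^ e) = monomial (m.mapDomain f) 1 := by
    rw [← rename_monomial, monomial_eq, map_mul, map_finsuppProd]
    simp
  have h1 : (m.prod fun k e => (C (a k) * X (f k) : MvPolynomial τ S) ^ e) =
      C (m.prod fun k e => a k ^ e) * monomial (m.mapDomain f) 1 := by
    simp_rw [mul_pow]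
    rw [Finsupp.prod_mul, h2, map_finsuppProd]
    simp
  rw [h1, ← mul_assoc, ← C_mul, C_mul_monomial, mul_one]

variable {D : Type} [Fintype D] [DecidableEq D]

/-- the collapsing map -/
def ff (j : D) : Option D → D := fun o => o.elim j id

theorem mapDomain_ff_apply (j : D) (m : Option D →₀ ℕ) :
    (m.mapDomain (ff j)) j = m none + m (some j) := by
  rw [Finsupp.mapDomain, Finsupp.sum_apply, Finsupp.sum_fintype _ _ (by simp)]
  simp only [Fintype.sum_option, Finsupp.single_apply, ff, Option.elim_none, Option.elim_some, id_eq,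
    if_true]
  congr 1
  rw [Finset.sum_eq_single j]
  · simp
  · intro b _ hb
    simp [hb]
  · simp

variable (D) in
/-- the exponent `(1, …, 1)` -/
noncomputable def one : D →₀ ℕ := Finsupp.equivFunOnFinite.symm (fun _ => 1)

@[simp]
theorem one_apply (i : D) : one D i = 1 := rfl

variable (S D) in
/-- the coefficient of `Y_1 ⋯ Y_d` -/
noncomputable def L1 : MvPolynomial D S →ₗ[S] S := lcoeff S (one D)

theorem L1_apply (p : MvPolynomial D S) : L1 S D p = coeff (one D) p := rfl

/-- scaling substitutions -/
noncomputable def sub {σ : Type} (f : σ → D) (a : σ → S) : MvPolynomial σ S →ₐ[S] MvPolynomial D S :=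
  MvPolynomial.aeval (fun k => C (a k) * X (f k))

theorem sub_X {σ : Type} (f : σ → D) (a : σ → S) (k : σ) : sub f a (X k) = C (a k) * X (f k) := by
  simp [sub]

theorem L1_sub_monomial {σ : Type} [DecidableEq σ] (f : σ → D) (a : σ → S) (m : σ →₀ ℕ) (s : S) :
    L1 S D (sub f a (monomial m s)) =
      if m.mapDomain f = one D then s * m.prod (fun k e => a k ^ e) else 0 := by
  rw [sub, aeval_scaled_monomial, L1_apply, coeff_monomial]

theorem L1_scale (j : D) (l : S) (p : MvPolynomial D S) :
    L1 S D (sub id (Function.update (fun _ => (1 : S)) j l) p) = l * L1 S D p := by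
  have h : (L1 S D) ∘ₗ (sub id (Function.update (fun _ => (1 : S)) j l)).toLinearMap =
      l • L1 S D := by
    apply MvPolynomial.linearMap_ext
    intro m
    apply LinearMap.ext
    intro s
    simp only [LinearMap.comp_apply, AlgHom.toLinearMap_apply, LinearMap.smul_apply, smul_eq_mul]
    rw [L1_sub_monomial, Finsupp.mapDomain_id, L1_apply, coeff_monomial]
    by_cases hm : m = one D
    · rw [if_pos hm, if_pos hm, hm, Finsupp.prod_fintype _ _ (by simp)]
      simp only [one_apply, pow_one]
      rw [Finset.prod_update_of_mem (Finset.mem_univ j)]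
      simp [mul_comm]
    · rw [if_neg hm, if_neg hm, mul_zero]
  have := LinearMap.congr_fun h p
  simpa using this

/-- scalars for the first substitution -/
def a₁ : Option D → S := fun _ => 1
/-- scalars for the second substitution -/
def a₂ : Option D → S := fun o => o.elim 0 (fun _ => 1)
/-- scalars for the third substitution -/
def a₃ (j : D) : Option D → S := fun o => o.elim 1 (fun i => if i = j then 0 else 1)

theorem L1_add (j : D) (p : MvPolynomial (Option D) S) :
    L1 S D (sub (ff j) a₁ p) = L1 S D (sub (ff j) a₂ p) + L1 S D (sub (ff j) (a₃ j) p) := by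
  have h : (L1 S D) ∘ₗ (sub (ff j) (a₁ (S := S))).toLinearMap =
      (L1 S D) ∘ₗ (sub (ff j) (a₂ (S := S))).toLinearMap +
        (L1 S D) ∘ₗ (sub (ff j) (a₃ (S := S) j)).toLinearMap := by
    apply MvPolynomial.linearMap_ext
    intro m
    apply LinearMap.ext
    intro s
    simp only [LinearMap.comp_apply, AlgHom.toLinearMap_apply, LinearMap.add_apply]
    rw [L1_sub_monomial, L1_sub_monomial, L1_sub_monomial]
    by_cases hm : m.mapDomain (ff j) = one D
    · rw [if_pos hm, if_pos hm, if_pos hm]
      have h1 : m none + m (some j) = 1 := by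
        rw [← mapDomain_ff_apply, hm, one_apply]
      have e1 : (m.prod fun k e => (a₁ (S := S) k) ^ e) = 1 := by
        rw [Finsupp.prod_fintype _ _ (by simp)]
        simp [a₁]
      have e2 : (m.prod fun k e => (a₂ (S := S) k) ^ e) = 0 ^ (m none) := by
        rw [Finsupp.prod_fintype _ _ (by simp)]
        simp [a₂, Fintype.prod_option]
      have e3 : (m.prod fun k e => (a₃ (S := S) j k) ^ e) = 0 ^ (m (some j)) := by
        rw [Finsupp.prod_fintype _ _ (by simp)]
        simp only [a₃, Fintype.prod_option, Option.elim_none, Option.elim_some, one_pow, one_mul]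
        rw [Finset.prod_eq_single j]
        · simp
        · intro b _ hb
          simp [hb]
        · simp
      rw [e1, e2, e3]
      rcases (by omega : (m none = 0 ∧ m (some j) = 1) ∨ (m none = 1 ∧ m (some j) = 0)) with
        ⟨h2, h3⟩ | ⟨h2, h3⟩
      · rw [h2, h3]; simp
      · rw [h2, h3]; simp
    · rw [if_neg hm, if_neg hm, if_neg hm, add_zero]
  have := LinearMap.congr_fun h p
  simpa using this

theorem sum_single_apply (c : D → D) (k : D) :
    (∑ i, Finsupp.single (c i) 1 : D →₀ ℕ) k = (Finset.univ.filter (fun i => c i = k)).card := by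
  rw [Finsupp.finset_sum_apply]
  simp only [Finsupp.single_apply]
  rw [Finset.sum_boole]
  simp

theorem sum_single_eq_one_iff (c : D → D) :
    (∑ i, Finsupp.single (c i) 1 : D →₀ ℕ) = one D ↔ Function.Bijective c := by
  constructor
  · intro h
    rw [Function.bijective_iff_existsUnique]
    intro k
    have h1 := sum_single_apply c k
    rw [h, one_apply] at h1
    obtain ⟨i, hi⟩ := Finset.card_eq_one.1 h1.symm
    refine ⟨i, ?_, ?_⟩
    · have : i ∈ Finset.univ.filter (fun i => c i = k) := by rw [hi]; simp
      exact (Finset.mem_filter.1 this).2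
    · intro i' hi'
      have : i' ∈ Finset.univ.filter (fun i => c i = k) := Finset.mem_filter.2 ⟨Finset.mem_univ _, hi'⟩
      rw [hi] at this
      simpa using this
  · intro h
    apply Finsupp.ext
    intro k
    rw [sum_single_apply, one_apply]
    rw [Function.bijective_iff_existsUnique] at h
    obtain ⟨i, hi, huniq⟩ := h k
    rw [Finset.card_eq_one]
    refine ⟨i, ?_⟩
    ext i'
    simp only [Finset.mem_filter, Finset.mem_univ, true_and, Finset.mem_singleton]
    exact ⟨fun h' => huniq i' h', fun h' => h' ▸ hi⟩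

theorem L1_prod_X (c : D → D) :
    L1 S D (∏ i, X (c i)) = if Function.Bijective c then 1 else 0 := by
  have h1 : (∏ i, (X (c i) : MvPolynomial D S)) = monomial (∑ i, Finsupp.single (c i) 1) 1 := by
    rw [monomial_sum_one]
    rfl
  rw [h1, L1_apply, coeff_monomial]
  simp only [sum_single_eq_one_iff]

theorem sum_bijective_eq_sum_perm {M : Type*} [AddCommMonoid M] (F : (D → D) → M) :
    (∑ c : D → D, if Function.Bijective c then F c else 0) = ∑ σ : Equiv.Perm D, F σ := by
  classical
  rw [← Finset.sum_filter]
  refine Finset.sum_bij' (fun c hc => Equiv.ofBijective c (Finset.mem_filter.1 hc).2)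
    (fun σ _ => ⇑σ) ?_ ?_ ?_ ?_ ?_
  · intro c _; exact Finset.mem_univ _
  · intro σ _; exact Finset.mem_filter.2 ⟨Finset.mem_univ _, σ.bijective⟩
  · intro c _; rfl
  · intro σ _; ext; rfl
  · intro c _; rfl

theorem L1_sum_X_pow : L1 S D ((∑ i, (X i : MvPolynomial D S)) ^ (Fintype.card D)) =
    ((Fintype.card D).factorial : S) := by
  classical
  have h1 : (∑ i, (X i : MvPolynomial D S)) ^ (Fintype.card D) =
      ∑ c : D → D, ∏ k, (X (c k) : MvPolynomial D S) := by
    rw [← Finset.card_univ, ← Finset.prod_const, Finset.prod_univ_sum, Fintype.piFinset_univ]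
  rw [h1, map_sum]
  simp_rw [L1_prod_X]
  rw [sum_bijective_eq_sum_perm (fun _ => (1 : S))]
  simp [Fintype.card_perm]

end mvpoly

section law

variable {A : Type u} [CommRing A] {B : Type u} [CommRing B] [Algebra A B]
  {K : Type u} [CommRing K] [Algebra A K]
variable (F : B →ₚₗ[A] K)
variable {D : Type} [Fintype D] [DecidableEq D]
variable (S : Type u) [CommRing S] [Algebra A S]

/-- constants -/
noncomputable def kap (σ : Type) : S →ₐ[A] MvPolynomial σ S :=
  IsScalarTower.toAlgHom A S (MvPolynomial σ S)

theorem kap_apply (σ : Type) (s : S) : kap (A := A) S σ s = C s := rfl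

/-- the generic combination -/
noncomputable def Zc {σ : Type} [Fintype σ] (z : σ → S ⊗[A] B) : MvPolynomial σ S ⊗[A] B :=
  ∑ i, (X i : MvPolynomial σ S) • (kap (A := A) S σ).toLinearMap.rTensor B (z i)

variable (D) in
/-- the coefficient functional over `A` -/
noncomputable def LA : MvPolynomial D S →ₗ[A] S := (L1 S D).restrictScalars A

/-- the polarization -/
noncomputable def PS (z : D → S ⊗[A] B) : S ⊗[A] K :=
  (LA (A := A) D S).rTensor K (F.toFun' (MvPolynomial D S) (Zc S z))

variable {S}

theorem sub_transfer {σ : Type} [Fintype σ] (f : σ → D) (a : σ → S) (z : σ → S ⊗[A] B) :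
    ((sub f a).restrictScalars A).toLinearMap.rTensor B (Zc S z) =
      ∑ k, (C (a k) * X (f k) : MvPolynomial D S) •
        (kap (A := A) S D).toLinearMap.rTensor B (z k) := by
  rw [Zc, map_sum]
  refine Finset.sum_congr rfl fun k _ => ?_
  have h1 : ((sub f a).restrictScalars A).toLinearMap ∘ₗ (kap (A := A) S σ).toLinearMap =
      (kap (A := A) S D).toLinearMap := by
    apply LinearMap.ext
    intro s
    simp [kap_apply, sub]
  rw [rT_smul, ← LinearMap.comp_apply, ← LinearMap.rTensor_comp, h1]
  congr 1
  exact sub_X f a k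

theorem PS_sub {σ : Type} [Fintype σ] (f : σ → D) (a : σ → S) (z : σ → S ⊗[A] B) :
    (LA (A := A) D S).rTensor K (F.toFun' (MvPolynomial D S)
      (((sub f a).restrictScalars A).toLinearMap.rTensor B (Zc S z))) =
    ((LA (A := A) D S) ∘ₗ ((sub f a).restrictScalars A).toLinearMap).rTensor K
      (F.toFun' (MvPolynomial σ S) (Zc S z)) := by
  rw [← PolynomialLaw.isCompat_apply', LinearMap.rTensor_comp, LinearMap.comp_apply]

theorem Zc_update (z : D → S ⊗[A] B) (j : D) (w : S ⊗[A] B) :
    Zc S (Function.update z j w) =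
      (X j : MvPolynomial D S) • (kap (A := A) S D).toLinearMap.rTensor B w +
        ∑ i ∈ Finset.univ.erase j, (X i : MvPolynomial D S) •
          (kap (A := A) S D).toLinearMap.rTensor B (z i) := by
  rw [Zc, ← Finset.add_sum_erase _ _ (Finset.mem_univ j), Function.update_self]
  congr 1
  refine Finset.sum_congr rfl fun i hi => ?_
  rw [Function.update_of_ne (Finset.ne_of_mem_erase hi)]

theorem mulLeft_rTensor (l : S) (t : S ⊗[A] K) :
    (LinearMap.mulLeft A l).rTensor K t = l • t := by
  induction t using TensorProduct.induction_on with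
  | zero => simp
  | tmul s c => simp [TensorProduct.smul_tmul']
  | add a b ha hb => simp only [map_add, smul_add, ha, hb]

theorem PS_smul (z : D → S ⊗[A] B) (j : D) (l : S) (w : S ⊗[A] B) :
    PS F S (Function.update z j (l • w)) = l • PS F S (Function.update z j w) := by
  have h1 : Zc S (Function.update z j (l • w)) =
      ((sub id (Function.update (fun _ => (1 : S)) j l)).restrictScalars A).toLinearMap.rTensor B
        (Zc S (Function.update z j w)) := by
    rw [sub_transfer, Zc]
    refine Finset.sum_congr rfl fun k _ => ?_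
    by_cases hk : k = j
    · subst hk
      simp only [Function.update_self, id]
      rw [rT_smul, kap_apply, smul_smul, mul_comm]
    · simp only [Function.update_of_ne hk, id, C_1, one_mul]
  have h2 : (LA (A := A) D S) ∘ₗ
      ((sub id (Function.update (fun _ => (1 : S)) j l)).restrictScalars A).toLinearMap =
      (LinearMap.mulLeft A l) ∘ₗ (LA (A := A) D S) := by
    apply LinearMap.ext
    intro p
    exact L1_scale j l p
  rw [PS, h1, PS_sub, h2, LinearMap.rTensor_comp, LinearMap.comp_apply, mulLeft_rTensor]
  rfl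

theorem PS_add (z : D → S ⊗[A] B) (j : D) (u v : S ⊗[A] B) :
    PS F S (Function.update z j (u + v)) =
      PS F S (Function.update z j u) + PS F S (Function.update z j v) := by
  obtain ⟨zz, hzz⟩ : ∃ zz : Option D → S ⊗[A] B,
    zz = fun o => o.elim v (Function.update z j u) := ⟨_, rfl⟩
  have hgen : ∀ a : Option D → S,
      ((sub (ff j) a).restrictScalars A).toLinearMap.rTensor B (Zc S zz) =
        (C (a none) * X j : MvPolynomial D S) • (kap (A := A) S D).toLinearMap.rTensor B v +
        ∑ i, (C (a (some i)) * X i : MvPolynomial D S) •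
          (kap (A := A) S D).toLinearMap.rTensor B (Function.update z j u i) := by
    intro a
    rw [sub_transfer, Fintype.sum_option, hzz]
    rfl
  have h1 : Zc S (Function.update z j (u + v)) =
      ((sub (ff j) (a₁ (S := S))).restrictScalars A).toLinearMap.rTensor B (Zc S zz) := by
    rw [hgen, Zc_update]
    simp only [a₁, C_1, one_mul]
    have : (∑ i, (X i : MvPolynomial D S) •
        (kap (A := A) S D).toLinearMap.rTensor B (Function.update z j u i)) =
        Zc S (Function.update z j u) := rfl
    rw [this, Zc_update, map_add, smul_add]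
    abel
  have h2 : Zc S (Function.update z j u) =
      ((sub (ff j) (a₂ (S := S))).restrictScalars A).toLinearMap.rTensor B (Zc S zz) := by
    rw [hgen]
    simp only [a₂, Option.elim_none, Option.elim_some, C_0, zero_mul, zero_smul, zero_add, C_1, one_mul]
    rfl
  have h3 : Zc S (Function.update z j v) =
      ((sub (ff j) (a₃ (S := S) j)).restrictScalars A).toLinearMap.rTensor B (Zc S zz) := by
    rw [hgen, Zc_update]
    simp only [a₃, Option.elim_none, Option.elim_some, C_1, one_mul]
    congr 1
    rw [← Finset.add_sum_erase _ _ (Finset.mem_univ j), if_pos rfl, C_0, zero_mul, zero_smul, zero_add]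
    refine Finset.sum_congr rfl fun i hi => ?_
    rw [if_neg (Finset.ne_of_mem_erase hi), C_1, one_mul,
      Function.update_of_ne (Finset.ne_of_mem_erase hi)]
  have h4 : (LA (A := A) D S) ∘ₗ ((sub (ff j) (a₁ (S := S))).restrictScalars A).toLinearMap =
      (LA (A := A) D S) ∘ₗ ((sub (ff j) (a₂ (S := S))).restrictScalars A).toLinearMap +
      (LA (A := A) D S) ∘ₗ ((sub (ff j) (a₃ (S := S) j)).restrictScalars A).toLinearMap := by
    apply LinearMap.ext
    intro p
    exact L1_add j p
  rw [PS, PS, PS, h1, h2, h3, PS_sub, PS_sub, PS_sub, h4, LinearMap.rTensor_add, LinearMap.add_apply]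

/-- the polarization as a multilinear map -/
noncomputable def PSmulti : MultilinearMap S (fun _ : D => S ⊗[A] B) (S ⊗[A] K) where
  toFun := PS F S
  map_update_add' := by
    intro inst z j u v
    exact PS_add F z j u v
  map_update_smul' := by
    intro inst z j l w
    exact PS_smul F z j l w

theorem PSmulti_apply (z : D → S ⊗[A] B) : PSmulti F (S := S) z = PS F S z := rfl

variable (D) in
/-- the polarization on elements of `B` -/
noncomputable def Pb (b : D → B) : K :=
  ev K (lcoeff A (one D)) (F.toFun' (MvPolynomial D A) (∑ i, (X i : MvPolynomial D A) ⊗ₜ[A] b i))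

theorem algebraMap_comp_rTensor {R : Type u} [CommRing R] [Algebra A R] (ℓ : R →ₗ[A] A)
    (W : R ⊗[A] K) :
    ((Algebra.linearMap A S) ∘ₗ ℓ).rTensor K W = (1 : S) ⊗ₜ[A] ev K ℓ W := by
  induction W using TensorProduct.induction_on with
  | zero => simp
  | tmul p c =>
    simp only [LinearMap.rTensor_tmul, LinearMap.comp_apply, Algebra.linearMap_apply, ev_tmul]
    rw [Algebra.algebraMap_eq_smul_one, TensorProduct.smul_tmul]
  | add a b ha hb => simp only [map_add, TensorProduct.tmul_add, ha, hb]

theorem PS_one_tmul (b : D → B) :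
    PS F S (fun i => (1 : S) ⊗ₜ[A] b i) = (1 : S) ⊗ₜ[A] Pb F D b := by
  obtain ⟨incl, hincl⟩ : ∃ incl : MvPolynomial D A →ₐ[A] MvPolynomial D S,
    incl = MvPolynomial.mapAlgHom (Algebra.ofId A S) := ⟨_, rfl⟩
  have h1 : Zc S (fun i => (1 : S) ⊗ₜ[A] b i) =
      incl.toLinearMap.rTensor B (∑ i, (X i : MvPolynomial D A) ⊗ₜ[A] b i) := by
    rw [Zc, map_sum]
    refine Finset.sum_congr rfl fun i _ => ?_
    rw [LinearMap.rTensor_tmul, LinearMap.rTensor_tmul, AlgHom.toLinearMap_apply,
      AlgHom.toLinearMap_apply, map_one, TensorProduct.smul_tmul', smul_eq_mul, mul_one, hincl]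
    simp
  have h2 : (LA (A := A) D S) ∘ₗ incl.toLinearMap =
      (Algebra.linearMap A S) ∘ₗ (lcoeff A (one D)) := by
    apply LinearMap.ext
    intro p
    rw [hincl]
    simp [LA, L1_apply, coeff_map]
  rw [PS, h1, ← PolynomialLaw.isCompat_apply', ← LinearMap.comp_apply, ← LinearMap.rTensor_comp, h2,
    algebraMap_comp_rTensor]
  rfl

theorem LA_rTensor_smul_kap (q : MvPolynomial D S) (W : S ⊗[A] K) :
    (LA (A := A) D S).rTensor K (q • (kap (A := A) S D).toLinearMap.rTensor K W) =
      L1 S D q • W := by
  induction W using TensorProduct.induction_on with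
  | zero => simp
  | tmul s c =>
    rw [LinearMap.rTensor_tmul, TensorProduct.smul_tmul', LinearMap.rTensor_tmul,
      TensorProduct.smul_tmul', AlgHom.toLinearMap_apply, kap_apply, smul_eq_mul, smul_eq_mul]
    congr 1
    show coeff (one D) (q * C s) = coeff (one D) q * s
    rw [mul_comm q, coeff_C_mul, mul_comm]
  | add a b ha hb => simp only [map_add, smul_add, ha, hb]

theorem PS_diag (hF : PolLaw.IsHomog F (Fintype.card D)) (z : S ⊗[A] B) :
    PS F S (fun _ : D => z) = (Fintype.card D).factorial • F.toFun' S z := by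
  have h1 : Zc S (fun _ : D => z) =
      (∑ i, (X i : MvPolynomial D S)) • (kap (A := A) S D).toLinearMap.rTensor B z := by
    rw [Zc, Finset.sum_smul]
  rw [PS, h1, hF, ← PolynomialLaw.isCompat_apply', LA_rTensor_smul_kap, L1_sum_X_pow,
    Nat.cast_smul_eq_nsmul]

end law

end Groth.Agent.Lib.PolarH1
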