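import Mathlib
import Groth.Prelude.Def_PolLaw2
import Groth.Agent.Lib.Polar1_helper1

/-!
# `Γ^d(B) → TS^d(B)`: kernel and cokernel are killed by `d!` (helper1)
-/

set_option autoImplicit false
universe u
open scoped TensorProduct
open MvPolynomial

namespace Groth.Agent.Lib.PolarH1

open Groth.Agent.Lib.GammaSpanH1 Groth.Agent.Lib.PolLawKerH1

variable {A : Type u} [CommRing A] {B : Type u} [CommRing B] [Algebra A B]
  {K : Type u} [CommRing K] [Algebra A K]

theorem exists_fin_sum {S : Type u} [CommRing S] [Algebra A S] (z : S ⊗[A] B) :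
    ∃ (n : ℕ) (s : Fin n → S) (b : Fin n → B), z = ∑ j, s j ⊗ₜ[A] b j := by
  induction z using TensorProduct.induction_on with
  | zero => exact ⟨0, Fin.elim0, Fin.elim0, by simp⟩
  | tmul s b => exact ⟨1, fun _ => s, fun _ => b, by simp⟩
  | add x y hx hy =>
    obtain ⟨n₁, s₁, b₁, rfl⟩ := hx
    obtain ⟨n₂, s₂, b₂, rfl⟩ := hy
    refine ⟨n₁ + n₂, Fin.append s₁ s₂, Fin.append b₁ b₂, ?_⟩
    rw [Fin.sum_univ_add]
    simp

section multi

variable (F : B →ₚₗ[A] K) (d : ℕ)

theorem one_tmul_injective : Function.Injective (fun c : K => (1 : A) ⊗ₜ[A] c) := by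
  intro c c' h
  have := congrArg (TensorProduct.lid A K) h
  simpa using this

/-- the polarization as an `A`-multilinear map on `B` -/
noncomputable def Pm : MultilinearMap A (fun _ : Fin d => B) K where
  toFun := Pb F (Fin d)
  map_update_add' := by
    intro inst b j x y
    apply one_tmul_injective (A := A)
    show (1 : A) ⊗ₜ[A] Pb F (Fin d) (Function.update b j (x + y)) =
      (1 : A) ⊗ₜ[A] (Pb F (Fin d) (Function.update b j x) + Pb F (Fin d) (Function.update b j y))
    rw [TensorProduct.tmul_add, ← PS_one_tmul, ← PS_one_tmul, ← PS_one_tmul]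
    have e : ∀ w : B, (fun i => (1 : A) ⊗ₜ[A] (Function.update b j w) i) =
        Function.update (fun i => (1 : A) ⊗ₜ[A] b i) j ((1 : A) ⊗ₜ[A] w) := by
      intro w
      exact Function.comp_update (fun c : B => (1 : A) ⊗ₜ[A] c) b j w
    rw [e, e, e, TensorProduct.tmul_add]
    exact PS_add F _ j _ _
  map_update_smul' := by
    intro inst b j a x
    apply one_tmul_injective (A := A)
    show (1 : A) ⊗ₜ[A] Pb F (Fin d) (Function.update b j (a • x)) =
      (1 : A) ⊗ₜ[A] (a • Pb F (Fin d) (Function.update b j x))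
    rw [TensorProduct.tmul_smul, ← PS_one_tmul, ← PS_one_tmul]
    have e : ∀ w : B, (fun i => (1 : A) ⊗ₜ[A] (Function.update b j w) i) =
        Function.update (fun i => (1 : A) ⊗ₜ[A] b i) j ((1 : A) ⊗ₜ[A] w) := by
      intro w
      exact Function.comp_update (fun c : B => (1 : A) ⊗ₜ[A] c) b j w
    rw [e, e, TensorProduct.tmul_smul]
    exact PS_smul F _ j a _

/-- the linear map `T^d(B) → K` induced by the polarization -/
noncomputable def rho : (⨂[A] _ : Fin d, B) →ₗ[A] K := PiTensorProduct.lift (Pm F d)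

theorem rho_tprod (b : Fin d → B) : rho F d (PiTensorProduct.tprod A b) = Pb F (Fin d) b := by
  rw [rho, PiTensorProduct.lift.tprod]
  rfl

/-- the key identity: `(id ⊗ ρ)(∑_c s^c ⊗ b_c) = d! F(∑ s_j b_j)` -/
theorem rho_sum (hF : PolLaw.IsHomog F d) {S : Type u} [CommRing S] [Algebra A S] {n : ℕ}
    (s : Fin n → S) (b : Fin n → B) :
    (rho F d).lTensor S (∑ c : Fin d → Fin n, (∏ i, s (c i)) ⊗ₜ[A]
      PiTensorProduct.tprod A (fun i => b (c i))) =
      d.factorial • F.toFun' S (∑ j, s j ⊗ₜ[A] b j) := by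
  have hF' : PolLaw.IsHomog F (Fintype.card (Fin d)) := by rw [Fintype.card_fin]; exact hF
  have h1 := PS_diag F (D := Fin d) (S := S) hF' (∑ j, s j ⊗ₜ[A] b j)
  rw [Fintype.card_fin] at h1
  rw [← h1, ← PSmulti_apply, MultilinearMap.map_sum, map_sum]
  refine Finset.sum_congr rfl fun c _ => ?_
  have h2 : (fun i => s (c i) ⊗ₜ[A] b (c i)) = fun i => s (c i) • ((1 : S) ⊗ₜ[A] b (c i)) := by
    funext i
    rw [TensorProduct.smul_tmul', smul_eq_mul, mul_one]
  rw [h2, MultilinearMap.map_smul_univ, PSmulti_apply, PS_one_tmul, LinearMap.lTensor_tmul, rho_tprod,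
    TensorProduct.smul_tmul', smul_eq_mul, mul_one]

end multi

section main

variable (d : ℕ) (γ : PolLaw.MulLaw A B K d) (hγ : PolLaw.IsGammaD γ)
  (φ : K →ₐ[A] SymTen.TS A B d)
  (hφ : ∀ (S : Type u) [CommSemiring S] [Algebra A S] (n : ℕ) (s : Fin n → S) (b : Fin n → B),
      ((SymTen.TS A B d).val.comp φ).toLinearMap.lTensor S (γ.law.toFun' S (∑ j, s j ⊗ₜ[A] b j)) =
        ∑ c : Fin d → Fin n, (∏ i, s (c i)) ⊗ₜ[A] PiTensorProduct.tprod A (fun i => b (c i)))

include hφ in
theorem rho_phi (hγ : PolLaw.IsGammaD γ) (x : K) :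
    rho γ.law d ((SymTen.TS A B d).val (φ x)) = d.factorial • x := by
  have hsub : coeffSetOn γ ⊤ ⊆ (LinearMap.eqLocus
      ((rho γ.law d) ∘ₗ ((SymTen.TS A B d).val.comp φ).toLinearMap)
      ((d.factorial : A) • (LinearMap.id : K →ₗ[A] K)) : Set K) := by
    rintro _ ⟨S, _, _, z, ℓ, -, rfl⟩
    obtain ⟨n, s, b, rfl⟩ := exists_fin_sum z
    show rho γ.law d (((SymTen.TS A B d).val.comp φ).toLinearMap
      (ev K ℓ (γ.law.toFun' S (∑ j, s j ⊗ₜ[A] b j)))) =
      ((d.factorial : A) • (LinearMap.id : K →ₗ[A] K)) (ev K ℓ (γ.law.toFun' S (∑ j, s j ⊗ₜ[A] b j)))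
    rw [← ev_lTensor, ← ev_lTensor, hφ S n s b, rho_sum γ.law d γ.homog s b, map_nsmul,
      LinearMap.smul_apply, LinearMap.id_apply, Nat.cast_smul_eq_nsmul]
  have htop : (⊤ : Submodule A K) ≤ LinearMap.eqLocus
      ((rho γ.law d) ∘ₗ ((SymTen.TS A B d).val.comp φ).toLinearMap)
      ((d.factorial : A) • (LinearMap.id : K →ₗ[A] K)) := by
    rw [← span_coeffSet_eq_top γ hγ]
    exact Submodule.span_le.2 hsub
  have := htop (Submodule.mem_top : x ∈ ⊤)
  rw [LinearMap.mem_eqLocus] at this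
  simpa [Nat.cast_smul_eq_nsmul] using this

include hφ in
theorem phi_Pb (b : Fin d → B) :
    ((SymTen.TS A B d).val (φ (Pb γ.law (Fin d) b)) : ⨂[A] _ : Fin d, B) =
      ∑ σ : Equiv.Perm (Fin d), PiTensorProduct.tprod A (fun i => b (σ i)) := by
  have h1 := hφ (MvPolynomial (Fin d) A) d (fun j => X j) b
  have h2 := ev_lTensor K (lcoeff A (one (Fin d))) ((SymTen.TS A B d).val.comp φ).toLinearMap
    (γ.law.toFun' (MvPolynomial (Fin d) A) (∑ j, (X j : MvPolynomial (Fin d) A) ⊗ₜ[A] b j))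
  rw [h1, map_sum] at h2
  have h3 : ∀ c : Fin d → Fin d, ev (⨂[A] _ : Fin d, B) (lcoeff A (one (Fin d)))
      ((∏ i, (X (c i) : MvPolynomial (Fin d) A)) ⊗ₜ[A] PiTensorProduct.tprod A (fun i => b (c i))) =
      if Function.Bijective c then PiTensorProduct.tprod A (fun i => b (c i)) else 0 := by
    intro c
    rw [ev_tmul]
    have := L1_prod_X (S := A) c
    rw [L1_apply] at this
    rw [lcoeff_apply, this]
    split_ifs <;> simp
  rw [Finset.sum_congr rfl fun c _ => h3 c,
    sum_bijective_eq_sum_perm (fun c => PiTensorProduct.tprod A (fun i => b (c i)))] at h2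
  exact h2.symm

include hφ in
theorem phi_rho (t : ⨂[A] _ : Fin d, B) :
    ((SymTen.TS A B d).val (φ (rho γ.law d t)) : ⨂[A] _ : Fin d, B) =
      ∑ σ : Equiv.Perm (Fin d), PiTensorProduct.reindex A (fun _ : Fin d => B) σ t := by
  induction t using PiTensorProduct.induction_on with
  | smul_tprod r b =>
    have h1 : ∀ σ : Equiv.Perm (Fin d),
        PiTensorProduct.reindex A (fun _ : Fin d => B) σ (r • PiTensorProduct.tprod A b) =
        r • PiTensorProduct.tprod A (fun i => b (σ⁻¹ i)) := by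
      intro σ
      rw [map_smul, PiTensorProduct.reindex_tprod]
      rfl
    have hsum : (∑ σ : Equiv.Perm (Fin d), PiTensorProduct.tprod A (fun i => b (σ⁻¹ i))) =
        ∑ σ : Equiv.Perm (Fin d), PiTensorProduct.tprod A (fun i => b (σ i)) :=
      Equiv.sum_comp (Equiv.inv (Equiv.Perm (Fin d)))
        (fun σ => PiTensorProduct.tprod A (fun i => b (σ i)))
    rw [Finset.sum_congr rfl fun σ _ => h1 σ, ← Finset.smul_sum, hsum,
      map_smul, map_smul, map_smul, rho_tprod, phi_Pb d γ φ hφ b]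
  | add x y hx hy =>
    simp only [map_add, Finset.sum_add_distrib]
    rw [← hx, ← hy]

include hφ in
theorem main13872 (hγ : PolLaw.IsGammaD γ) :
    (∀ x : K, φ x = 0 → d.factorial • x = 0) ∧
      (∀ y : SymTen.TS A B d, d.factorial • y ∈ φ.range) := by
  constructor
  · intro x hx
    rw [← rho_phi d γ φ hφ hγ x, hx]
    simp
  · intro y
    refine ⟨rho γ.law d (y : ⨂[A] _ : Fin d, B), ?_⟩
    apply Subtype.ext
    have h1 := phi_rho d γ φ hφ (y : ⨂[A] _ : Fin d, B)
    have h2 : ∀ σ : Equiv.Perm (Fin d),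
        PiTensorProduct.reindex A (fun _ : Fin d => B) σ (y : ⨂[A] _ : Fin d, B) = y := y.2
    rw [Finset.sum_congr rfl fun σ _ => h2 σ, Finset.sum_const, Finset.card_univ,
      Fintype.card_perm, Fintype.card_fin] at h1
    refine h1.trans ?_
    simp

end main

end Groth.Agent.Lib.PolarH1
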