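import Mathlib
import Groth.Prelude.Def_SymTen

/-!
# Tensor powers and symmetric tensors commute with filtered colimits of algebras (helper1)
-/

set_option autoImplicit false
universe u
open scoped TensorProduct

namespace Groth.Agent.Lib.TSColimH1

open PiTensorProduct

section gen

variable {A : Type u} [CommRing A] {B : Type u} [CommRing B] [Algebra A B]

variable (A) in
theorem tmap_id' (d : ℕ) (x : ⨂[A] _ : Fin d, B) : SymTen.tmap A d (AlgHom.id A B) x = x := by
  induction x using PiTensorProduct.induction_on with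
  | smul_tprod r g => simp
  | add x y hx hy => simp [hx, hy]

theorem tmap_comp' {C D : Type u} [CommRing C] [Algebra A C] [CommRing D] [Algebra A D] (d : ℕ)
    (g : C →ₐ[A] D) (f : B →ₐ[A] C) (x : ⨂[A] _ : Fin d, B) :
    SymTen.tmap A d g (SymTen.tmap A d f x) = SymTen.tmap A d (g.comp f) x := by
  induction x using PiTensorProduct.induction_on with
  | smul_tprod r g => simp
  | add x y hx hy => simp [hx, hy]

end gen

/-- a filtered system of algebras with colimit `B` -/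
structure Sys (A : Type u) [CommRing A] (B : Type u) [CommRing B] [Algebra A B]
    (ι : Type u) [Preorder ι] (Bi : ι → Type u) [∀ i, CommRing (Bi i)] [∀ i, Algebra A (Bi i)] where
  t : ∀ i j : ι, i ≤ j → (Bi i →ₐ[A] Bi j)
  φ : ∀ i : ι, Bi i →ₐ[A] B
  hcomp : ∀ (i j : ι) (h : i ≤ j), (φ j).comp (t i j h) = φ i
  hsurj : ∀ b : B, ∃ (i : ι) (x : Bi i), φ i x = b
  hzero : ∀ (i : ι) (x : Bi i), φ i x = 0 → ∃ (j : ι) (h : i ≤ j), t i j h x = 0
  hid : ∀ (i : ι) (h : i ≤ i), t i i h = AlgHom.id A (Bi i)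
  htrans : ∀ (i j k : ι) (hij : i ≤ j) (hjk : j ≤ k),
    (t j k hjk).comp (t i j hij) = t i k (hij.trans hjk)

namespace Sys

variable {A : Type u} [CommRing A] {B : Type u} [CommRing B] [Algebra A B]
    {ι : Type u} [Preorder ι] {Bi : ι → Type u} [∀ i, CommRing (Bi i)] [∀ i, Algebra A (Bi i)]
    (s : Sys A B ι Bi)

theorem φ_t {i j : ι} (h : i ≤ j) (x : Bi i) : s.φ j (s.t i j h x) = s.φ i x := by
  rw [← AlgHom.comp_apply, s.hcomp]

theorem t_t {i j k : ι} (hij : i ≤ j) (hjk : j ≤ k) (x : Bi i) :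
    s.t j k hjk (s.t i j hij x) = s.t i k (hij.trans hjk) x := by
  rw [← AlgHom.comp_apply, s.htrans]

variable [IsDirected ι (fun i j => i ≤ j)] [Nonempty ι]

theorem exists_lift_fin {m : ℕ} (b : Fin m → B) :
    ∃ (i : ι) (x : Fin m → Bi i), ∀ k, s.φ i (x k) = b k := by
  choose i0 x0 h0 using fun k => s.hsurj (b k)
  obtain ⟨M, hM⟩ := Finite.exists_le i0
  refine ⟨M, fun k => s.t (i0 k) M (hM k) (x0 k), fun k => ?_⟩
  rw [s.φ_t, h0]

theorem exists_eq_fin {m : ℕ} {i : ι} (x x' : Fin m → Bi i)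
    (h : ∀ k, s.φ i (x k) = s.φ i (x' k)) :
    ∃ (j : ι) (hij : i ≤ j), ∀ k, s.t i j hij (x k) = s.t i j hij (x' k) := by
  have h0 : ∀ k, ∃ (j : ι) (hij : i ≤ j), s.t i j hij (x k - x' k) = 0 := fun k =>
    s.hzero i _ (by rw [map_sub, h k, sub_self])
  choose j0 hj0 e0 using h0
  obtain ⟨M, hM⟩ := Finite.exists_le j0
  obtain ⟨M', hiM', hMM'⟩ := exists_ge_ge i M
  refine ⟨M', hiM', fun k => ?_⟩
  have := congrArg (s.t (j0 k) M' ((hM k).trans hMM')) (e0 k)
  rw [s.t_t, map_zero, map_sub, sub_eq_zero] at this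
  exact this

/-- the transition maps on tensor powers -/
noncomputable def f (d : ℕ) (i j : ι) (h : i ≤ j) :
    (⨂[A] _ : Fin d, Bi i) →ₗ[A] (⨂[A] _ : Fin d, Bi j) :=
  (SymTen.tmap A d (s.t i j h)).toLinearMap

theorem f_apply (d : ℕ) (i j : ι) (h : i ≤ j) (x : ⨂[A] _ : Fin d, Bi i) :
    s.f d i j h x = SymTen.tmap A d (s.t i j h) x := rfl

instance ds (d : ℕ) : DirectedSystem (fun i => ⨂[A] _ : Fin d, Bi i)
    (fun i j h => ⇑(s.f d i j h)) where
  map_self i x := by
    show SymTen.tmap A d (s.t i i _) x = x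
    rw [s.hid, tmap_id']
  map_map k j i hij hjk x := by
    show SymTen.tmap A d (s.t j k hjk) (SymTen.tmap A d (s.t i j hij) x) =
      SymTen.tmap A d (s.t i k _) x
    rw [tmap_comp', s.htrans]

variable [DecidableEq ι]

/-- the direct limit of the tensor powers -/
abbrev DL (d : ℕ) : Type u := Module.DirectLimit (fun i => ⨂[A] _ : Fin d, Bi i) (s.f d)

/-- the canonical maps -/
noncomputable abbrev of (d : ℕ) (i : ι) : (⨂[A] _ : Fin d, Bi i) →ₗ[A] s.DL d :=
  Module.DirectLimit.of A ι (fun i => ⨂[A] _ : Fin d, Bi i) (s.f d) i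

theorem of_f (d : ℕ) {i j : ι} (h : i ≤ j) (x : ⨂[A] _ : Fin d, Bi i) :
    s.of d i x = s.of d j (SymTen.tmap A d (s.t i j h) x) := by
  rw [← s.f_apply]
  exact (Module.DirectLimit.of_f (f := s.f d) (hij := h) (x := x)).symm

noncomputable def idx {m : ℕ} (b : Fin m → B) : ι := (s.exists_lift_fin b).choose

noncomputable def lft {m : ℕ} (b : Fin m → B) : Fin m → Bi (s.idx b) :=
  (s.exists_lift_fin b).choose_spec.choose

theorem lft_spec {m : ℕ} (b : Fin m → B) (k : Fin m) : s.φ _ (s.lft b k) = b k :=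
  (s.exists_lift_fin b).choose_spec.choose_spec k

/-- the multilinear map, as a function -/
noncomputable def mfun (d : ℕ) (b : Fin d → B) : s.DL d := s.of d (s.idx b) (tprod A (s.lft b))

theorem mfun_eq (d : ℕ) (b : Fin d → B) (i : ι) (x : Fin d → Bi i)
    (hx : ∀ k, s.φ i (x k) = b k) : s.mfun d b = s.of d i (tprod A x) := by
  obtain ⟨j, h0j, hij⟩ := exists_ge_ge (s.idx b) i
  obtain ⟨j', hjj', e⟩ := s.exists_eq_fin (fun k => s.t _ j h0j (s.lft b k))
    (fun k => s.t i j hij (x k)) (fun k => by rw [s.φ_t, s.φ_t, s.lft_spec, hx])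
  unfold mfun
  rw [s.of_f d (h0j.trans hjj'), s.of_f d (hij.trans hjj'), SymTen.tmap_tprod, SymTen.tmap_tprod]
  congr 2
  funext k
  have := e k
  rw [s.t_t, s.t_t] at this
  exact this

theorem lift_update {d : ℕ} [DecidableEq (Fin d)] {i : ι} {b : Fin d → B} {x : Fin d → Bi i}
    (hx : ∀ l, s.φ i (x l) = b l) (k : Fin d) {w : B} {w' : Bi i} (hw : s.φ i w' = w) :
    ∀ l, s.φ i (Function.update x k w' l) = Function.update b k w l := by
  intro l
  by_cases h : l = k
  · rw [h, Function.update_self, Function.update_self, hw]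
  · rw [Function.update_of_ne h, Function.update_of_ne h, hx]

theorem mfun_update_add (d : ℕ) [DecidableEq (Fin d)] (b : Fin d → B) (k : Fin d) (u v : B) :
    s.mfun d (Function.update b k (u + v)) =
      s.mfun d (Function.update b k u) + s.mfun d (Function.update b k v) := by
  obtain ⟨i, X, hX⟩ := s.exists_lift_fin (Fin.cons u (Fin.cons v b) : Fin (d + 2) → B)
  have hx : ∀ l, s.φ i (X l.succ.succ) = b l := fun l => by
    have := hX l.succ.succ
    rwa [Fin.cons_succ, Fin.cons_succ] at this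
  have hu : s.φ i (X 0) = u := by
    have := hX 0
    rwa [Fin.cons_zero] at this
  have hv : s.φ i (X (Fin.succ 0)) = v := by
    have := hX (Fin.succ 0)
    rwa [Fin.cons_succ, Fin.cons_zero] at this
  have huv : s.φ i (X 0 + X (Fin.succ 0)) = u + v := by rw [map_add, hu, hv]
  rw [s.mfun_eq d _ i _ (s.lift_update hx k huv), s.mfun_eq d _ i _ (s.lift_update hx k hu),
    s.mfun_eq d _ i _ (s.lift_update hx k hv), MultilinearMap.map_update_add, map_add]

theorem mfun_update_smul (d : ℕ) [DecidableEq (Fin d)] (b : Fin d → B) (k : Fin d) (a : A) (u : B) :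
    s.mfun d (Function.update b k (a • u)) = a • s.mfun d (Function.update b k u) := by
  obtain ⟨i, X, hX⟩ := s.exists_lift_fin (Fin.cons u b : Fin (d + 1) → B)
  have hx : ∀ l, s.φ i (X l.succ) = b l := fun l => by
    have := hX l.succ
    rwa [Fin.cons_succ] at this
  have hu : s.φ i (X 0) = u := by
    have := hX 0
    rwa [Fin.cons_zero] at this
  have hau : s.φ i (a • X 0) = a • u := by rw [map_smul, hu]
  rw [s.mfun_eq d _ i _ (s.lift_update hx k hau), s.mfun_eq d _ i _ (s.lift_update hx k hu),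
    MultilinearMap.map_update_smul, map_smul]

/-- the multilinear map -/
noncomputable def mm (d : ℕ) : MultilinearMap A (fun _ : Fin d => B) (s.DL d) where
  toFun := s.mfun d
  map_update_add' := by
    intro inst b k u v
    exact s.mfun_update_add d b k u v
  map_update_smul' := by
    intro inst b k a u
    exact s.mfun_update_smul d b k a u

/-- the inverse map -/
noncomputable def Psi (d : ℕ) : (⨂[A] _ : Fin d, B) →ₗ[A] s.DL d := PiTensorProduct.lift (s.mm d)

theorem Psi_Phi (d : ℕ) (i : ι) (y : ⨂[A] _ : Fin d, Bi i) :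
    s.Psi d (SymTen.tmap A d (s.φ i) y) = s.of d i y := by
  have : (s.Psi d) ∘ₗ (SymTen.tmap A d (s.φ i)).toLinearMap = s.of d i := by
    apply PiTensorProduct.ext
    apply MultilinearMap.ext; intro x
    show s.Psi d (SymTen.tmap A d (s.φ i) (tprod A x)) = s.of d i (tprod A x)
    rw [SymTen.tmap_tprod, Psi, PiTensorProduct.lift.tprod]
    exact s.mfun_eq d _ i x (fun k => rfl)
  exact LinearMap.congr_fun this y

theorem exists_zero (d : ℕ) (i : ι) (y : ⨂[A] _ : Fin d, Bi i)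
    (hy : SymTen.tmap A d (s.φ i) y = 0) :
    ∃ (j : ι) (h : i ≤ j), SymTen.tmap A d (s.t i j h) y = 0 := by
  have h1 := s.Psi_Phi d i y
  rw [hy, map_zero] at h1
  exact Module.DirectLimit.of.zero_exact (f := s.f d) h1.symm

omit [DecidableEq ι] in
theorem exists_pre (d : ℕ) (z : ⨂[A] _ : Fin d, B) :
    ∃ (i : ι) (y : ⨂[A] _ : Fin d, Bi i), SymTen.tmap A d (s.φ i) y = z := by
  induction z using PiTensorProduct.induction_on with
  | smul_tprod a b =>
    obtain ⟨i, x, hx⟩ := s.exists_lift_fin b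
    refine ⟨i, a • tprod A x, ?_⟩
    rw [map_smul, SymTen.tmap_tprod]
    congr 2
    funext k
    exact hx k
  | add z₁ z₂ h₁ h₂ =>
    obtain ⟨i, y₁, rfl⟩ := h₁
    obtain ⟨j, y₂, rfl⟩ := h₂
    obtain ⟨k, hik, hjk⟩ := exists_ge_ge i j
    refine ⟨k, SymTen.tmap A d (s.t i k hik) y₁ + SymTen.tmap A d (s.t j k hjk) y₂, ?_⟩
    rw [map_add, tmap_comp', tmap_comp', s.hcomp, s.hcomp]

end Sys

theorem main13728 {A : Type u} [CommRing A] {B : Type u} [CommRing B] [Algebra A B]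
    {ι : Type u} [Preorder ι] [IsDirected ι (fun i j => i ≤ j)] [Nonempty ι]
    (Bi : ι → Type u) [∀ i, CommRing (Bi i)] [∀ i, Algebra A (Bi i)]
    (t : ∀ i j : ι, i ≤ j → (Bi i →ₐ[A] Bi j)) (φ : ∀ i : ι, Bi i →ₐ[A] B)
    (hcomp : ∀ (i j : ι) (h : i ≤ j), (φ j).comp (t i j h) = φ i)
    (hsurj : ∀ b : B, ∃ (i : ι) (x : Bi i), φ i x = b)
    (hzero : ∀ (i : ι) (x : Bi i), φ i x = 0 → ∃ (j : ι) (h : i ≤ j), t i j h x = 0)
    (hid : ∀ (i : ι) (h : i ≤ i), t i i h = AlgHom.id A (Bi i))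
    (htrans : ∀ (i j k : ι) (hij : i ≤ j) (hjk : j ≤ k),
      (t j k hjk).comp (t i j hij) = t i k (hij.trans hjk)) (d : ℕ) :
    (∀ z : SymTen.TS A B d, ∃ (i : ι) (y : SymTen.TS A (Bi i) d), SymTen.TSmap A d (φ i) y = z) ∧
      ∀ (i : ι) (y : SymTen.TS A (Bi i) d), SymTen.TSmap A d (φ i) y = 0 →
        ∃ (j : ι) (h : i ≤ j), SymTen.TSmap A d (t i j h) y = 0 := by
  classical
  let s : Sys A B ι Bi := ⟨t, φ, hcomp, hsurj, hzero, hid, htrans⟩
  have hzero' : ∀ (i : ι) (y : ⨂[A] _ : Fin d, Bi i), SymTen.tmap A d (φ i) y = 0 →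
      ∃ (j : ι) (h : i ≤ j), SymTen.tmap A d (t i j h) y = 0 := fun i y hy => s.exists_zero d i y hy
  have hpre : ∀ z : ⨂[A] _ : Fin d, B, ∃ (i : ι) (y : ⨂[A] _ : Fin d, Bi i),
      SymTen.tmap A d (φ i) y = z := fun z => s.exists_pre d z
  refine ⟨fun z => ?_, fun i y hy => ?_⟩
  · obtain ⟨i, y₀, hy₀⟩ := hpre z.1
    have hσ : ∀ σ : Equiv.Perm (Fin d), ∃ (j : ι) (h : i ≤ j), SymTen.tmap A d (t i j h)
        (PiTensorProduct.reindex A (fun _ : Fin d => Bi i) σ y₀ - y₀) = 0 := by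
      intro σ
      apply hzero'
      rw [map_sub, SymTen.tmap_reindex, hy₀, z.2 σ, sub_self]
    choose j0 hj0 e0 using hσ
    obtain ⟨M, hM⟩ := Finite.exists_le j0
    have hiM : i ≤ M := (hj0 1).trans (hM 1)
    refine ⟨M, ⟨SymTen.tmap A d (t i M hiM) y₀, fun σ => ?_⟩, ?_⟩
    · have := congrArg (SymTen.tmap A d (t (j0 σ) M (hM σ))) (e0 σ)
      rw [tmap_comp', htrans, map_zero, map_sub, sub_eq_zero, SymTen.tmap_reindex] at this
      exact this
    · apply Subtype.ext
      show SymTen.tmap A d (φ M) (SymTen.tmap A d (t i M hiM) y₀) = z.1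
      rw [tmap_comp', hcomp, hy₀]
  · have h1 : SymTen.tmap A d (φ i) y.1 = 0 := congrArg Subtype.val hy
    obtain ⟨j, h, e⟩ := hzero' i y.1 h1
    exact ⟨j, h, Subtype.ext e⟩

end Groth.Agent.Lib.TSColimH1
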