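import Mathlib
import Groth.Prelude.Def_PolLaw2
import Groth.Prelude.Def_SymTen
import Groth.Agent.Lib.FreeFact_helper1
import Groth.Agent.Lib.TSColim_helper1
import Groth.Agent.Lib.Polar2_helper1

/-!
# The symmetrisation law `T^d(B) → Γ^d(B)` of degree `d!` (helper1)

For a universal degree-`d` law `γ : B → C` we construct a multiplicative law `F : T^d(B) → C`
homogeneous of degree `d!` such that `φ ∘ F` is the symmetrisation law `z ↦ ∏_σ σ z`, where
`φ : C → TS^d(B)` is the canonical map.  The construction is on a polynomial cover `P → B`, where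
`Γ^d(P)` is the subalgebra `WW` of `T^d(P)`, and descends to `B` by a naturality argument.
-/

set_option autoImplicit false
universe u
open scoped TensorProduct
open Module

namespace Groth.Agent.Lib.SymNormH1

open Groth.Agent.Lib.GammaSpanH1 Groth.Agent.Lib.FreeCoefH1 Groth.Agent.Lib.FreeFactH1
open Groth.Agent.Lib.PolLawKerH1 Groth.Agent.Lib.PolLawSurjH1 Groth.Agent.Lib.TSColimH1
open Classical

section general

variable {A : Type u} [CommRing A]

theorem law_ext_mvPoly {M N : Type u} [AddCommGroup M] [Module A M] [AddCommGroup N] [Module A N]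
    {F G : M →ₚₗ[A] N}
    (h : ∀ (n : ℕ) (x : MvPolynomial (Fin n) A ⊗[A] M),
      F.toFun' (MvPolynomial (Fin n) A) x = G.toFun' (MvPolynomial (Fin n) A) x) : F = G := by
  apply PolynomialLaw.ext
  funext S _ _ x
  obtain ⟨n, ψ, p, rfl⟩ := PolynomialLaw.exists_lift (R := A) (M := M) x
  rw [← PolynomialLaw.isCompat_apply', ← PolynomialLaw.isCompat_apply', h]

theorem map_id_comp {S : Type u} [CommSemiring S] [Algebra A S] {B C D : Type u} [CommRing B]
    [Algebra A B] [CommRing C] [Algebra A C] [CommRing D] [Algebra A D]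
    (g : C →ₐ[A] D) (f : B →ₐ[A] C) (z : S ⊗[A] B) :
    Algebra.TensorProduct.map (AlgHom.id S S) g (Algebra.TensorProduct.map (AlgHom.id S S) f z) =
      Algebra.TensorProduct.map (AlgHom.id S S) (g.comp f) z := by
  induction z using TensorProduct.induction_on with
  | zero => simp
  | tmul s b => simp
  | add a b ha hb => simp only [map_add, ha, hb]

theorem map_id_id {S : Type u} [CommSemiring S] [Algebra A S] {B : Type u} [CommRing B]
    [Algebra A B] (z : S ⊗[A] B) :
    Algebra.TensorProduct.map (AlgHom.id S S) (AlgHom.id A B) z = z := by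
  induction z using TensorProduct.induction_on with
  | zero => simp
  | tmul s b => simp
  | add a b ha hb => simp only [map_add, ha, hb]

end general

section perm

variable (A : Type u) [CommRing A] (B : Type u) [CommRing B] [Algebra A B] (d : ℕ)

theorem perm_perm (τ σ : Equiv.Perm (Fin d)) (t : ⨂[A] _ : Fin d, B) :
    SymTen.perm A B d τ (SymTen.perm A B d σ t) = SymTen.perm A B d (τ * σ) t := by
  induction t using PiTensorProduct.induction_on with
  | smul_tprod r f =>
    simp only [map_smul, SymTen.perm_tprod]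
    rfl
  | add x y hx hy => simp only [map_add, hx, hy]

theorem perm_single (σ : Equiv.Perm (Fin d)) (j : Fin d) (b : B) :
    SymTen.perm A B d σ (PiTensorProduct.singleAlgHom (R := A) (A := fun _ : Fin d => B) j b) =
      PiTensorProduct.singleAlgHom (R := A) (A := fun _ : Fin d => B) (σ j) b := by
  simp only [PiTensorProduct.singleAlgHom_apply, MonoidHom.mulSingle_apply, SymTen.perm_tprod]
  congr 1
  funext i
  rw [Pi.mulSingle_apply, Pi.mulSingle_apply]
  by_cases h : i = σ j
  · rw [if_pos h, if_pos (by rw [h, Equiv.symm_apply_apply])]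
  · rw [if_neg h, if_neg (fun h' => h (by rw [← h', Equiv.apply_symm_apply]))]

variable {B} {C : Type u} [CommRing C] [Algebra A C]

theorem tmap_single (ψ : B →ₐ[A] C) (j : Fin d) (b : B) :
    SymTen.tmap A d ψ (PiTensorProduct.singleAlgHom (R := A) (A := fun _ : Fin d => B) j b) =
      PiTensorProduct.singleAlgHom (R := A) (A := fun _ : Fin d => C) j (ψ b) := by
  simp only [PiTensorProduct.singleAlgHom_apply, MonoidHom.mulSingle_apply, SymTen.tmap_tprod]
  congr 1
  funext i
  rw [Pi.mulSingle_apply, Pi.mulSingle_apply]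
  split_ifs
  · rfl
  · exact map_one ψ

theorem tmap_perm (ψ : B →ₐ[A] C) (σ : Equiv.Perm (Fin d)) (t : ⨂[A] _ : Fin d, B) :
    SymTen.tmap A d ψ (SymTen.perm A B d σ t) = SymTen.perm A C d σ (SymTen.tmap A d ψ t) := by
  rw [SymTen.perm_apply, SymTen.perm_apply, SymTen.tmap_reindex]

theorem tmap_tpow (ψ : B →ₐ[A] C) (S : Type u) [CommSemiring S] [Algebra A S] (z : S ⊗[A] B) :
    (SymTen.tmap A d ψ).toLinearMap.lTensor S ((SymTen.tpowLaw A B d).law.toFun' S z) =
      (SymTen.tpowLaw A C d).law.toFun' S (ψ.toLinearMap.lTensor S z) := by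
  rw [PolLaw.lTensor_algHom_apply, PolLaw.lTensor_algHom_apply]
  show Algebra.TensorProduct.map (AlgHom.id S S) (SymTen.tmap A d ψ)
      (∏ j, Algebra.TensorProduct.map (AlgHom.id S S)
        (PiTensorProduct.singleAlgHom (R := A) (A := fun _ : Fin d => B) j) z) =
    ∏ j, Algebra.TensorProduct.map (AlgHom.id S S)
        (PiTensorProduct.singleAlgHom (R := A) (A := fun _ : Fin d => C) j)
        (Algebra.TensorProduct.map (AlgHom.id S S) ψ z)
  rw [map_prod]
  refine Finset.prod_congr rfl fun j _ => ?_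
  rw [map_id_comp, map_id_comp]
  have h : (SymTen.tmap A d ψ).comp
      (PiTensorProduct.singleAlgHom (R := A) (A := fun _ : Fin d => B) j) =
      (PiTensorProduct.singleAlgHom (R := A) (A := fun _ : Fin d => C) j).comp ψ :=
    AlgHom.ext fun b => tmap_single A d ψ j b
  rw [h]

theorem symm_apply (S : Type u) [CommSemiring S] [Algebra A S] (z : S ⊗[A] (⨂[A] _ : Fin d, B)) :
    (SymTen.symmLaw A B d).law.toFun' S z =
      ∏ σ : Equiv.Perm (Fin d), Algebra.TensorProduct.map (AlgHom.id S S) (SymTen.perm A B d σ) z :=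
  rfl

theorem tmap_symm (ψ : B →ₐ[A] C) (S : Type u) [CommSemiring S] [Algebra A S]
    (z : S ⊗[A] (⨂[A] _ : Fin d, B)) :
    (SymTen.tmap A d ψ).toLinearMap.lTensor S ((SymTen.symmLaw A B d).law.toFun' S z) =
      (SymTen.symmLaw A C d).law.toFun' S ((SymTen.tmap A d ψ).toLinearMap.lTensor S z) := by
  rw [PolLaw.lTensor_algHom_apply, PolLaw.lTensor_algHom_apply, symm_apply, symm_apply, map_prod]
  refine Finset.prod_congr rfl fun σ _ => ?_
  rw [map_id_comp, map_id_comp]
  have h : (SymTen.tmap A d ψ).comp (SymTen.perm A B d σ) =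
      (SymTen.perm A C d σ).comp (SymTen.tmap A d ψ) :=
    AlgHom.ext fun t => tmap_perm A d ψ σ t
  rw [h]

variable (B)

theorem perm_symm (τ : Equiv.Perm (Fin d)) (S : Type u) [CommSemiring S] [Algebra A S]
    (z : S ⊗[A] (⨂[A] _ : Fin d, B)) :
    (SymTen.perm A B d τ).toLinearMap.lTensor S ((SymTen.symmLaw A B d).law.toFun' S z) =
      (SymTen.symmLaw A B d).law.toFun' S z := by
  rw [PolLaw.lTensor_algHom_apply, symm_apply, map_prod]
  have h : ∀ σ : Equiv.Perm (Fin d),
      Algebra.TensorProduct.map (AlgHom.id S S) (SymTen.perm A B d τ)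
        (Algebra.TensorProduct.map (AlgHom.id S S) (SymTen.perm A B d σ) z) =
      Algebra.TensorProduct.map (AlgHom.id S S) (SymTen.perm A B d (τ * σ)) z := by
    intro σ
    rw [map_id_comp]
    have h' : (SymTen.perm A B d τ).comp (SymTen.perm A B d σ) = SymTen.perm A B d (τ * σ) :=
      AlgHom.ext fun t => perm_perm A B d τ σ t
    rw [h']
  rw [Finset.prod_congr rfl fun σ _ => h σ]
  exact Fintype.prod_equiv (Equiv.mulLeft τ)
    (fun σ => Algebra.TensorProduct.map (AlgHom.id S S) (SymTen.perm A B d (τ * σ)) z)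
    (fun σ => Algebra.TensorProduct.map (AlgHom.id S S) (SymTen.perm A B d σ) z) (fun σ => rfl)

theorem perm_tpow (σ : Equiv.Perm (Fin d)) (S : Type u) [CommSemiring S] [Algebra A S]
    (z : S ⊗[A] B) :
    (SymTen.perm A B d σ).toLinearMap.lTensor S ((SymTen.tpowLaw A B d).law.toFun' S z) =
      (SymTen.tpowLaw A B d).law.toFun' S z := by
  rw [PolLaw.lTensor_algHom_apply]
  show Algebra.TensorProduct.map (AlgHom.id S S) (SymTen.perm A B d σ)
      (∏ j, Algebra.TensorProduct.map (AlgHom.id S S)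
        (PiTensorProduct.singleAlgHom (R := A) (A := fun _ : Fin d => B) j) z) =
    ∏ j, Algebra.TensorProduct.map (AlgHom.id S S)
        (PiTensorProduct.singleAlgHom (R := A) (A := fun _ : Fin d => B) j) z
  rw [map_prod]
  have h : ∀ j : Fin d,
      Algebra.TensorProduct.map (AlgHom.id S S) (SymTen.perm A B d σ)
        (Algebra.TensorProduct.map (AlgHom.id S S)
          (PiTensorProduct.singleAlgHom (R := A) (A := fun _ : Fin d => B) j) z) =
      Algebra.TensorProduct.map (AlgHom.id S S)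
          (PiTensorProduct.singleAlgHom (R := A) (A := fun _ : Fin d => B) (σ j)) z := by
    intro j
    rw [map_id_comp]
    have h' : (SymTen.perm A B d σ).comp
        (PiTensorProduct.singleAlgHom (R := A) (A := fun _ : Fin d => B) j) =
        PiTensorProduct.singleAlgHom (R := A) (A := fun _ : Fin d => B) (σ j) :=
      AlgHom.ext fun b => perm_single A B d σ j b
    rw [h']
  rw [Finset.prod_congr rfl fun j _ => h j]
  exact Fintype.prod_equiv σ
    (fun j => Algebra.TensorProduct.map (AlgHom.id S S)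
        (PiTensorProduct.singleAlgHom (R := A) (A := fun _ : Fin d => B) (σ j)) z)
    (fun j => Algebra.TensorProduct.map (AlgHom.id S S)
        (PiTensorProduct.singleAlgHom (R := A) (A := fun _ : Fin d => B) j) z) (fun j => rfl)

theorem symm_of_inv (S : Type u) [CommSemiring S] [Algebra A S] (z : S ⊗[A] (⨂[A] _ : Fin d, B))
    (hz : ∀ σ : Equiv.Perm (Fin d),
      Algebra.TensorProduct.map (AlgHom.id S S) (SymTen.perm A B d σ) z = z) :
    (SymTen.symmLaw A B d).law.toFun' S z = z ^ d.factorial := by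
  rw [symm_apply, Finset.prod_congr rfl fun σ _ => hz σ, Finset.prod_const, Finset.card_univ,
    Fintype.card_perm, Fintype.card_fin]

theorem WW_le_TS : WW A B d ≤ SymTen.TS A B d := by
  apply Algebra.adjoin_le
  rintro _ ⟨S, _, _, z, ℓ, -, rfl⟩
  rw [SetLike.mem_coe, SymTen.mem_TS_iff]
  intro σ
  rw [← SymTen.perm_apply, ← AlgHom.toLinearMap_apply, ← ev_lTensor, perm_tpow]

theorem tpow_fin_sum (S : Type u) [CommSemiring S] [Algebra A S] (n : ℕ) (s : Fin n → S)
    (b : Fin n → B) :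
    (SymTen.tpowLaw A B d).law.toFun' S (∑ j, s j ⊗ₜ[A] b j) =
      ∑ c : Fin d → Fin n, (∏ i, s (c i)) ⊗ₜ[A] PiTensorProduct.tprod A (fun i => b (c i)) := by
  show ∏ j, Algebra.TensorProduct.map (AlgHom.id S S)
    (PiTensorProduct.singleAlgHom (R := A) (A := fun _ : Fin d => B) j)
      (∑ i, s i ⊗ₜ[A] b i) = _
  simp only [map_sum, Algebra.TensorProduct.map_tmul, AlgHom.id_apply]
  rw [Finset.prod_univ_sum, Fintype.piFinset_univ]
  refine Finset.sum_congr rfl fun c _ => ?_
  rw [prod_tmul, Groth.Agent.Lib.GammaDetH1.prod_single]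

end perm

section sametype

variable {I : Type u} {d : ℕ}

theorem ty_apply (K : Fin d → I) (i : I) : ty K i = Fintype.card {k // K k = i} := by
  rw [ty, Finsupp.finset_sum_apply]
  simp only [Finsupp.single_apply]
  rw [Finset.sum_boole, Fintype.card_subtype]
  simp

theorem exists_perm_of_ty_eq {K K' : Fin d → I} (h : ty K = ty K') :
    ∃ σ : Equiv.Perm (Fin d), K = K' ∘ σ := by
  have hc : ∀ i, Fintype.card {k // K k = i} = Fintype.card {k // K' k = i} := fun i => by
    rw [← ty_apply, ← ty_apply, h]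
  refine ⟨Equiv.ofFiberEquiv (fun i => Fintype.equivOfCardEq (hc i)), ?_⟩
  funext k
  exact (Equiv.ofFiberEquiv_map _ k).symm

end sametype

section free

variable {A : Type u} [CommRing A] {I : Type u} {d : ℕ} {P : Type u} [CommRing P] [Algebra A P]
  (e : Basis I A P)

theorem perm_eT (σ : Equiv.Perm (Fin d)) (K : Fin d → I) :
    SymTen.perm A P d σ (eT (d := d) e K) = eT (d := d) e (K ∘ σ.symm) := by
  rw [eT_apply, eT_apply, SymTen.perm_tprod]
  rfl

theorem repr_perm (σ : Equiv.Perm (Fin d)) (t : ⨂[A] _ : Fin d, P) (K' : Fin d → I) :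
    (eT (d := d) e).repr (SymTen.perm A P d σ t) K' = (eT (d := d) e).repr t (K' ∘ σ) := by
  have h : (Finsupp.lapply K') ∘ₗ (eT (d := d) e).repr.toLinearMap ∘ₗ
      (SymTen.perm A P d σ).toLinearMap =
      (Finsupp.lapply (K' ∘ σ)) ∘ₗ (eT (d := d) e).repr.toLinearMap := by
    apply (eT (d := d) e).ext
    intro K
    simp only [LinearMap.comp_apply, AlgHom.toLinearMap_apply, LinearEquiv.coe_coe,
      Finsupp.lapply_apply]
    rw [perm_eT, Basis.repr_self, Basis.repr_self, Finsupp.single_apply, Finsupp.single_apply]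
    have hiff : K ∘ σ.symm = K' ↔ K = K' ∘ σ := by
      constructor
      · rintro rfl
        funext k
        simp
      · intro h
        rw [h]
        funext k
        simp
    simp only [hiff]
  exact LinearMap.congr_fun h t

theorem sum_ty_mem (J : Finset I) (m : I →₀ ℕ) :
    (∑ c ∈ (Fintype.piFinset (fun _ : Fin d => J)).filter (fun c => ty c = m),
      eT (d := d) e c) ∈ WW A P d := by
  apply Algebra.subset_adjoin
  have h1 := tpowLaw_sum (d := d) e (S := MvPolynomial I A) J (fun i => MvPolynomial.X i)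
  have h2 : ev (⨂[A] _ : Fin d, P) (MvPolynomial.lcoeff A m)
      ((SymTen.tpowLaw A P d).law.toFun' (MvPolynomial I A)
        (∑ i ∈ J, (MvPolynomial.X i : MvPolynomial I A) ⊗ₜ[A] e i)) =
      ∑ c ∈ (Fintype.piFinset (fun _ : Fin d => J)).filter (fun c => ty c = m),
        eT (d := d) e c := by
    rw [h1, map_sum, Finset.sum_filter]
    refine Finset.sum_congr rfl fun c _ => ?_
    rw [ev_tmul, MvPolynomial.lcoeff_apply,
      ← prod_ty (fun i => (MvPolynomial.X i : MvPolynomial I A)) c]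
    have h3 : (ty c).prod (fun i k => (MvPolynomial.X i : MvPolynomial I A) ^ k) =
        MvPolynomial.monomial (ty c) 1 := by
      rw [Finsupp.prod]
      exact MvPolynomial.prod_X_pow_eq_monomial
    rw [h3, MvPolynomial.coeff_monomial]
    split_ifs <;> simp
  rw [← h2]
  exact mem_coeffSetOn_top _ _ _ _

include e in
theorem TS_le_WW : SymTen.TS A P d ≤ WW A P d := by
  intro t ht
  obtain ⟨r, hr⟩ : ∃ r, r = (eT (d := d) e).repr t := ⟨_, rfl⟩
  have hinv : ∀ (σ : Equiv.Perm (Fin d)) (K : Fin d → I), r (K ∘ σ) = r K := by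
    intro σ K
    rw [hr, ← repr_perm, SymTen.perm_apply, ht σ]
  have hconst : ∀ K K' : Fin d → I, ty K = ty K' → r K = r K' := by
    intro K K' h
    obtain ⟨σ, rfl⟩ := exists_perm_of_ty_eq h
    exact hinv σ K'
  obtain ⟨J, hJ⟩ : ∃ J : Finset I, ∀ K ∈ r.support, ∀ k, K k ∈ J :=
    ⟨r.support.biUnion (fun K => Finset.univ.image K), fun K hK k =>
      Finset.mem_biUnion.2 ⟨K, hK, Finset.mem_image_of_mem K (Finset.mem_univ k)⟩⟩
  have ht' : t = ∑ c ∈ Fintype.piFinset (fun _ : Fin d => J), r c • eT (d := d) e c := by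
    conv_lhs => rw [← (eT (d := d) e).linearCombination_repr t, Finsupp.linearCombination_apply,
      Finsupp.sum, ← hr]
    apply Finset.sum_subset
    · intro K hK
      rw [Fintype.mem_piFinset]
      exact hJ K hK
    · intro K _ hK
      rw [Finsupp.notMem_support_iff.1 hK, zero_smul]
  rw [ht', ← Finset.sum_fiberwise_of_maps_to
    (t := (Fintype.piFinset (fun _ : Fin d => J)).image ty) (g := ty)
    (fun c hc => Finset.mem_image_of_mem _ hc)]
  refine Subalgebra.sum_mem _ fun m _ => ?_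
  by_cases hne : ((Fintype.piFinset (fun _ : Fin d => J)).filter (fun c => ty c = m)).Nonempty
  · obtain ⟨c₀, hc₀⟩ := hne
    rw [Finset.mem_filter] at hc₀
    have h : ∀ c ∈ (Fintype.piFinset (fun _ : Fin d => J)).filter (fun c => ty c = m),
        r c • eT (d := d) e c = r c₀ • eT (d := d) e c := fun c hc => by
      rw [hconst c c₀ ((Finset.mem_filter.1 hc).2.trans hc₀.2.symm)]
    rw [Finset.sum_congr rfl h, ← Finset.smul_sum]
    exact Subalgebra.smul_mem _ (sum_ty_mem e J m) _
  · rw [Finset.not_nonempty_iff_eq_empty.1 hne, Finset.sum_empty]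
    exact Subalgebra.zero_mem _

include e in
theorem exists_symmW :
    ∃ N : PolLaw.MulLaw A (⨂[A] _ : Fin d, P) (WW A P d) d.factorial,
      PolLaw.postcomp (WW A P d).val.toLinearMap N.law = (SymTen.symmLaw A P d).law := by
  apply exists_restrict
  intro n z
  apply mem_range_of_coeffs
  intro m
  apply TS_le_WW e
  rw [SymTen.mem_TS_iff]
  intro σ
  rw [← SymTen.perm_apply]
  have h := ev_lTensor (⨂[A] _ : Fin d, P) (MvPolynomial.lcoeff A m)
    (SymTen.perm A P d σ).toLinearMap
    ((SymTen.symmLaw A P d).law.toFun' (MvPolynomial (Fin n) A) z)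
  rw [perm_symm] at h
  exact h.symm

end free


section unique

variable {A : Type u} [CommRing A] {d : ℕ} {P : Type u} [CommRing P] [Algebra A P]
  {C : Type u} [CommRing C] [Algebra A C]

theorem lT_lT {S M M' M'' : Type u} [CommSemiring S] [Algebra A S] [AddCommGroup M] [Module A M]
    [AddCommGroup M'] [Module A M'] [AddCommGroup M''] [Module A M'']
    (g : M' →ₗ[A] M'') (f : M →ₗ[A] M') (x : S ⊗[A] M) :
    g.lTensor S (f.lTensor S x) = (g ∘ₗ f).lTensor S x := by
  rw [LinearMap.lTensor_comp, LinearMap.comp_apply]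

theorem lid_lT {M M' : Type u} [AddCommGroup M] [Module A M] [AddCommGroup M'] [Module A M']
    (g : M →ₗ[A] M') (y : A ⊗[A] M) :
    g (TensorProduct.lid A M y) = TensorProduct.lid A M' (g.lTensor A y) := by
  induction y using TensorProduct.induction_on with
  | zero => simp
  | tmul a c => simp
  | add a b ha hb => simp only [map_add, ha, hb]

theorem coeff_tauW (S : Type u) [CommRing S] [Algebra A S] (z : S ⊗[A] P) (ℓ : S →ₗ[A] A) :
    ((ev (WW A P d) ℓ ((tauW A P d).law.toFun' S z) : WW A P d) : ⨂[A] _ : Fin d, P) =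
      ev (⨂[A] _ : Fin d, P) ℓ ((SymTen.tpowLaw A P d).law.toFun' S z) := by
  rw [← val_tauW, ev_lTensor]
  rfl

theorem hom_ext_tauW (h₁ h₂ : WW A P d →ₐ[A] C)
    (h : ∀ (S : Type u) [CommRing S] [Algebra A S] (z : S ⊗[A] P),
      h₁.toLinearMap.lTensor S ((tauW A P d).law.toFun' S z) =
        h₂.toLinearMap.lTensor S ((tauW A P d).law.toFun' S z)) : h₁ = h₂ := by
  apply AlgHom.ext_of_eq_adjoin
    (rfl : WW A P d = Algebra.adjoin A (coeffSetOn (SymTen.tpowLaw A P d) ⊤))
  rintro x ⟨S, _, _, z, ℓ, -, rfl⟩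
  have hx : ∀ hmem, (⟨ev (⨂[A] _ : Fin d, P) ℓ ((SymTen.tpowLaw A P d).law.toFun' S z), hmem⟩ :
      WW A P d) = ev (WW A P d) ℓ ((tauW A P d).law.toFun' S z) :=
    fun hmem => Subtype.ext (coeff_tauW S z ℓ).symm
  rw [hx, ← AlgHom.toLinearMap_apply, ← AlgHom.toLinearMap_apply, ← ev_lTensor, ← ev_lTensor, h]

theorem hinjW (n : ℕ) :
    Function.Injective ((WW A P d).val.toLinearMap.lTensor (MvPolynomial (Fin n) A)) :=
  Module.Flat.lTensor_preserves_injective_linearMap _ Subtype.val_injective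

theorem perm_val (σ : Equiv.Perm (Fin d)) :
    (SymTen.perm A P d σ).comp (WW A P d).val = (WW A P d).val := by
  apply AlgHom.ext
  intro x
  have h := WW_le_TS A P d x.2
  rw [SymTen.mem_TS_iff] at h
  rw [AlgHom.comp_apply, SymTen.perm_apply]
  exact h σ

end unique

section natural

variable {A : Type u} [CommRing A] {d : ℕ} {P P' : Type u} [CommRing P] [Algebra A P]
  [CommRing P'] [Algebra A P'] {C : Type u} [CommRing C] [Algebra A C]

theorem tmap_mem_WW (ψ : P' →ₐ[A] P) (x : ⨂[A] _ : Fin d, P') (hx : x ∈ WW A P' d) :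
    SymTen.tmap A d ψ x ∈ WW A P d := by
  have h : (Algebra.adjoin A (coeffSetOn (SymTen.tpowLaw A P' d) ⊤)).map (SymTen.tmap A d ψ) ≤
      WW A P d := by
    rw [AlgHom.map_adjoin]
    apply Algebra.adjoin_le
    rintro _ ⟨_, ⟨S, _, _, z, ℓ, -, rfl⟩, rfl⟩
    apply Algebra.subset_adjoin
    rw [← AlgHom.toLinearMap_apply, ← ev_lTensor, tmap_tpow]
    exact mem_coeffSetOn_top _ _ _ _
  exact h ⟨x, hx, rfl⟩

/-- functoriality of `WW` -/
noncomputable def TSm (ψ : P' →ₐ[A] P) : WW A P' d →ₐ[A] WW A P d :=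
  ((SymTen.tmap A d ψ).comp (WW A P' d).val).codRestrict (WW A P d)
    (fun x => tmap_mem_WW ψ x.1 x.2)

theorem val_comp_TSm (ψ : P' →ₐ[A] P) :
    (WW A P d).val.toLinearMap ∘ₗ (TSm (d := d) ψ).toLinearMap =
      (SymTen.tmap A d ψ).toLinearMap ∘ₗ (WW A P' d).val.toLinearMap :=
  LinearMap.ext fun _ => rfl

theorem postcomp_TSm_tauW (ψ : P' →ₐ[A] P) :
    PolLaw.postcomp (TSm (d := d) ψ).toLinearMap (tauW A P' d).law =
      PolLaw.precomp (tauW A P d).law ψ.toLinearMap := by
  apply law_ext_mvPoly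
  intro n z
  apply hinjW n
  show (WW A P d).val.toLinearMap.lTensor _
      ((TSm (d := d) ψ).toLinearMap.lTensor _ ((tauW A P' d).law.toFun' _ z)) =
    (WW A P d).val.toLinearMap.lTensor _ ((tauW A P d).law.toFun' _ (ψ.toLinearMap.lTensor _ z))
  rw [val_tauW, lT_lT, val_comp_TSm, ← lT_lT, val_tauW, tmap_tpow]

theorem key_nat (ψ : P' →ₐ[A] P)
    (N : PolLaw.MulLaw A (⨂[A] _ : Fin d, P) (WW A P d) d.factorial)
    (hN : PolLaw.postcomp (WW A P d).val.toLinearMap N.law = (SymTen.symmLaw A P d).law)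
    (N' : PolLaw.MulLaw A (⨂[A] _ : Fin d, P') (WW A P' d) d.factorial)
    (hN' : PolLaw.postcomp (WW A P' d).val.toLinearMap N'.law = (SymTen.symmLaw A P' d).law)
    (f : WW A P d →ₐ[A] C) :
    PolLaw.precomp (PolLaw.postcomp f.toLinearMap N.law) (SymTen.tmap A d ψ).toLinearMap =
      PolLaw.postcomp (f.comp (TSm (d := d) ψ)).toLinearMap N'.law := by
  apply law_ext_mvPoly
  intro n z
  show f.toLinearMap.lTensor _ (N.law.toFun' _ ((SymTen.tmap A d ψ).toLinearMap.lTensor _ z)) =
    (f.comp (TSm (d := d) ψ)).toLinearMap.lTensor _ (N'.law.toFun' _ z)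
  have a1 : (WW A P d).val.toLinearMap.lTensor _ (N.law.toFun' (MvPolynomial (Fin n) A)
        ((SymTen.tmap A d ψ).toLinearMap.lTensor _ z)) =
      (SymTen.symmLaw A P d).law.toFun' _ ((SymTen.tmap A d ψ).toLinearMap.lTensor _ z) :=
    congrArg (fun L : (⨂[A] _ : Fin d, P) →ₚₗ[A] (⨂[A] _ : Fin d, P) =>
      L.toFun' (MvPolynomial (Fin n) A) ((SymTen.tmap A d ψ).toLinearMap.lTensor _ z)) hN
  have a2 : (WW A P' d).val.toLinearMap.lTensor _ (N'.law.toFun' (MvPolynomial (Fin n) A) z) =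
      (SymTen.symmLaw A P' d).law.toFun' _ z :=
    congrArg (fun L : (⨂[A] _ : Fin d, P') →ₚₗ[A] (⨂[A] _ : Fin d, P') =>
      L.toFun' (MvPolynomial (Fin n) A) z) hN'
  have h1 : N.law.toFun' _ ((SymTen.tmap A d ψ).toLinearMap.lTensor _ z) =
      (TSm (d := d) ψ).toLinearMap.lTensor _ (N'.law.toFun' _ z) := by
    apply hinjW n
    rw [a1, ← tmap_symm, ← a2, lT_lT, lT_lT, val_comp_TSm]
  rw [h1, AlgHom.comp_toLinearMap, ← lT_lT]

end natural

section descent

variable {A : Type u} [CommRing A] {d : ℕ}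

theorem tmap_surjective {P B : Type u} [CommRing P] [Algebra A P] [CommRing B] [Algebra A B]
    (π : P →ₐ[A] B) (hπ : Function.Surjective π) :
    Function.Surjective (SymTen.tmap A d π) := by
  intro t
  induction t using PiTensorProduct.induction_on with
  | smul_tprod r b =>
    choose p hp using fun j => hπ (b j)
    refine ⟨r • PiTensorProduct.tprod A p, ?_⟩
    rw [map_smul, SymTen.tmap_tprod]
    simp only [hp]
  | add x y hx hy =>
    obtain ⟨x', rfl⟩ := hx
    obtain ⟨y', rfl⟩ := hy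
    exact ⟨x' + y', map_add _ _ _⟩

theorem ker_tmap_le {P B : Type u} [CommRing P] [Algebra A P] [CommRing B] [Algebra A B]
    (π : P →ₐ[A] B) (hπ : Function.Surjective π) (𝔎 : Ideal (⨂[A] _ : Fin d, P))
    (h𝔎 : ∀ (j : Fin d) (p : P), π p = 0 →
      PiTensorProduct.singleAlgHom (R := A) (A := fun _ : Fin d => P) j p ∈ 𝔎) :
    RingHom.ker (SymTen.tmap A d π) ≤ 𝔎 := by
  have hθ : ∀ j : Fin d, ∃ θ : B →ₐ[A] (⨂[A] _ : Fin d, P) ⧸ 𝔎, ∀ p : P,
      θ (π p) = Ideal.Quotient.mk 𝔎
        (PiTensorProduct.singleAlgHom (R := A) (A := fun _ : Fin d => P) j p) := by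
    intro j
    have hgk : ∀ p, p ∈ RingHom.ker π → ((Ideal.Quotient.mkₐ A 𝔎).comp
        (PiTensorProduct.singleAlgHom (R := A) (A := fun _ : Fin d => P) j)) p = 0 := fun p hp =>
      Ideal.Quotient.eq_zero_iff_mem.2 (h𝔎 j p hp)
    refine ⟨(Ideal.Quotient.liftₐ (RingHom.ker π) _ hgk).comp
      (Ideal.quotientKerAlgEquivOfSurjective hπ).symm.toAlgHom, fun p => ?_⟩
    rw [AlgHom.comp_apply]
    have h1 : (Ideal.quotientKerAlgEquivOfSurjective hπ).symm.toAlgHom (π p) =
        Ideal.Quotient.mk (RingHom.ker π) p :=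
      Ideal.quotientKerAlgEquivOfSurjective_symm_apply hπ p
    rw [h1]
    rfl
  choose θ hθ using hθ
  obtain ⟨Θ, hΘ⟩ : ∃ Θ : (⨂[A] _ : Fin d, B) →ₐ[A] (⨂[A] _ : Fin d, P) ⧸ 𝔎,
      ∀ b : Fin d → B, Θ (PiTensorProduct.tprod A b) = ∏ j, θ j (b j) := by
    refine ⟨PiTensorProduct.liftAlgHom ((MultilinearMap.mkPiAlgebra A (Fin d)
      ((⨂[A] _ : Fin d, P) ⧸ 𝔎)).compLinearMap (fun j => (θ j).toLinearMap)) ?_ ?_, fun b => ?_⟩
    · rw [MultilinearMap.compLinearMap_apply, MultilinearMap.mkPiAlgebra_apply]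
      exact Finset.prod_eq_one (fun j _ => map_one (θ j))
    · intro x y
      rw [MultilinearMap.compLinearMap_apply, MultilinearMap.compLinearMap_apply,
        MultilinearMap.compLinearMap_apply, MultilinearMap.mkPiAlgebra_apply,
        MultilinearMap.mkPiAlgebra_apply, MultilinearMap.mkPiAlgebra_apply,
        ← Finset.prod_mul_distrib]
      exact Finset.prod_congr rfl (fun j _ => map_mul (θ j) _ _)
    · show PiTensorProduct.lift _ (PiTensorProduct.tprod A b) = _
      rw [PiTensorProduct.lift.tprod, MultilinearMap.compLinearMap_apply,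
        MultilinearMap.mkPiAlgebra_apply]
      rfl
  have hcomp : Θ.comp (SymTen.tmap A d π) = Ideal.Quotient.mkₐ A 𝔎 := by
    apply PiTensorProduct.algHom_ext
    intro j
    apply AlgHom.ext
    intro p
    rw [AlgHom.comp_apply, AlgHom.comp_apply, AlgHom.comp_apply, tmap_single,
      PiTensorProduct.singleAlgHom_apply, MonoidHom.mulSingle_apply, hΘ,
      Finset.prod_eq_single j]
    · rw [Pi.mulSingle_eq_same, hθ]
      rfl
    · intro k _ hk
      rw [Pi.mulSingle_eq_of_ne hk, map_one]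
    · intro h
      exact absurd (Finset.mem_univ j) h
  intro x hx
  rw [RingHom.mem_ker] at hx
  have h2 : Θ (SymTen.tmap A d π x) = Ideal.Quotient.mk 𝔎 x :=
    congrArg (fun g : (⨂[A] _ : Fin d, P) →ₐ[A] (⨂[A] _ : Fin d, P) ⧸ 𝔎 => g x) hcomp
  rw [hx, map_zero] at h2
  exact Ideal.Quotient.eq_zero_iff_mem.1 h2.symm

theorem tmap_comp_eq_id {P P' : Type u} [CommRing P] [Algebra A P] [CommRing P'] [Algebra A P']
    (ψ : P' →ₐ[A] P) (incl : P →ₐ[A] P') (h : ψ.comp incl = AlgHom.id A P) :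
    (SymTen.tmap A d ψ).comp (SymTen.tmap A d incl) = AlgHom.id A _ := by
  apply AlgHom.ext
  intro t
  rw [AlgHom.comp_apply, tmap_comp', h, tmap_id']
  rfl

theorem single_mem_ker {I' : Type u} {P P' C : Type u} [CommRing P] [Algebra A P] [CommRing P']
    [Algebra A P'] [CommRing C] [Algebra A C] (e' : Basis I' A P')
    (incl : P →ₐ[A] P') (ψ₁ ψ₂ : P' →ₐ[A] P) (h₁ : ψ₁.comp incl = AlgHom.id A P)
    (h₂ : ψ₂.comp incl = AlgHom.id A P) (G : PolLaw.MulLaw A P C d)
    (hG : ∀ (S : Type u) [CommRing S] [Algebra A S] (x : S ⊗[A] P'),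
      G.law.toFun' S (ψ₁.toLinearMap.lTensor S x) = G.law.toFun' S (ψ₂.toLinearMap.lTensor S x))
    (f : WW A P d →ₐ[A] C) (hf : PolLaw.postcomp f.toLinearMap (tauW A P d).law = G.law)
    (N : PolLaw.MulLaw A (⨂[A] _ : Fin d, P) (WW A P d) d.factorial)
    (hN : PolLaw.postcomp (WW A P d).val.toLinearMap N.law = (SymTen.symmLaw A P d).law)
    (y : P') (hy : ψ₂ y = 0) (j : Fin d) :
    PiTensorProduct.singleAlgHom (R := A) (A := fun _ : Fin d => P) j (ψ₁ y) ∈
      PolLaw.ker (PolLaw.postcomp f.toLinearMap N.law) := by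
  obtain ⟨N', hN'⟩ := exists_symmW (d := d) e'
  have hff : f.comp (TSm (d := d) ψ₁) = f.comp (TSm (d := d) ψ₂) := by
    apply hom_ext_tauW
    intro S _ _ x
    have key : ∀ ψ : P' →ₐ[A] P, (f.comp (TSm (d := d) ψ)).toLinearMap.lTensor S
        ((tauW A P' d).law.toFun' S x) = G.law.toFun' S (ψ.toLinearMap.lTensor S x) := by
      intro ψ
      have a1 : (TSm (d := d) ψ).toLinearMap.lTensor S ((tauW A P' d).law.toFun' S x) =
          (tauW A P d).law.toFun' S (ψ.toLinearMap.lTensor S x) :=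
        congrArg (fun L : P' →ₚₗ[A] WW A P d => L.toFun' S x) (postcomp_TSm_tauW ψ)
      have a2 : f.toLinearMap.lTensor S ((tauW A P d).law.toFun' S (ψ.toLinearMap.lTensor S x)) =
          G.law.toFun' S (ψ.toLinearMap.lTensor S x) :=
        congrArg (fun L : P →ₚₗ[A] C => L.toFun' S (ψ.toLinearMap.lTensor S x)) hf
      rw [AlgHom.comp_toLinearMap, ← lT_lT, a1, a2]
    rw [key, key, hG]
  have hΦ : PolLaw.precomp (PolLaw.postcomp f.toLinearMap N.law) (SymTen.tmap A d ψ₁).toLinearMap =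
      PolLaw.precomp (PolLaw.postcomp f.toLinearMap N.law) (SymTen.tmap A d ψ₂).toLinearMap := by
    rw [key_nat ψ₁ N hN N' hN' f, key_nat ψ₂ N hN N' hN' f, hff]
  rw [mem_ker_iff]
  intro S _ _ x w
  obtain ⟨z', hz'⟩ : ∃ z' : S ⊗[A] (⨂[A] _ : Fin d, P'),
      z' = Algebra.TensorProduct.map (AlgHom.id S S) (SymTen.tmap A d incl) x +
        Algebra.TensorProduct.map (AlgHom.id S S) (SymTen.tmap A d incl) w *
          ((1 : S) ⊗ₜ[A] PiTensorProduct.singleAlgHom (R := A) (A := fun _ : Fin d => P') j y) :=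
    ⟨_, rfl⟩
  have e1 : (SymTen.tmap A d ψ₁).toLinearMap.lTensor S z' = x + w * ((1 : S) ⊗ₜ[A]
      PiTensorProduct.singleAlgHom (R := A) (A := fun _ : Fin d => P) j (ψ₁ y)) := by
    rw [PolLaw.lTensor_algHom_apply, hz', map_add, map_mul, map_id_comp, map_id_comp,
      tmap_comp_eq_id ψ₁ incl h₁, map_id_id, map_id_id, Algebra.TensorProduct.map_tmul,
      tmap_single]
    rfl
  have e2 : (SymTen.tmap A d ψ₂).toLinearMap.lTensor S z' = x := by
    rw [PolLaw.lTensor_algHom_apply, hz', map_add, map_mul, map_id_comp, map_id_comp,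
      tmap_comp_eq_id ψ₂ incl h₂, map_id_id, map_id_id, Algebra.TensorProduct.map_tmul,
      tmap_single, hy, map_zero, TensorProduct.tmul_zero, mul_zero, add_zero]
  have h3 : (PolLaw.postcomp f.toLinearMap N.law).toFun' S
      ((SymTen.tmap A d ψ₁).toLinearMap.lTensor S z') =
      (PolLaw.postcomp f.toLinearMap N.law).toFun' S
      ((SymTen.tmap A d ψ₂).toLinearMap.lTensor S z') :=
    congrArg (fun L : (⨂[A] _ : Fin d, P') →ₚₗ[A] C => L.toFun' S z') hΦ
  rw [e1, e2] at h3
  exact h3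

end descent


section cover

variable (A B : Type u) [CommRing A] [CommRing B] [Algebra A B]

/-- the polynomial cover of an algebra -/
noncomputable def piB : MvPolynomial B A →ₐ[A] B := MvPolynomial.aeval id

/-- adding a variable -/
noncomputable def inclO : MvPolynomial B A →ₐ[A] MvPolynomial (Option B) A :=
  MvPolynomial.rename some

variable {A B}

theorem piB_X (b : B) : piB A B (MvPolynomial.X b) = b := by simp [piB]

theorem piB_surj : Function.Surjective (piB A B) := fun b => ⟨MvPolynomial.X b, piB_X b⟩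

/-- specialising the extra variable -/
noncomputable def psiO (p₀ : MvPolynomial B A) :
    MvPolynomial (Option B) A →ₐ[A] MvPolynomial B A :=
  MvPolynomial.aeval (fun o : Option B => o.elim p₀ MvPolynomial.X)

theorem psiO_comp_incl (p₀ : MvPolynomial B A) :
    (psiO p₀).comp (inclO A B) = AlgHom.id A _ := by
  apply MvPolynomial.algHom_ext
  intro b
  simp [psiO, inclO]

theorem psiO_none (p₀ : MvPolynomial B A) : psiO p₀ (MvPolynomial.X none) = p₀ := by
  simp [psiO]

theorem piB_comp_psiO (p₀ : MvPolynomial B A) (h : piB A B p₀ = 0) :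
    (piB A B).comp (psiO p₀) = (piB A B).comp (psiO 0) := by
  apply MvPolynomial.algHom_ext
  intro o
  cases o with
  | none => simp [psiO, h]
  | some b => simp [psiO]

end cover

section main

variable {A B C : Type u} [CommRing A] [CommRing B] [Algebra A B] [CommRing C] [Algebra A C]
  (d : ℕ) (γ : PolLaw.MulLaw A B C d) (φ : C →ₐ[A] SymTen.TS A B d)

theorem f_surj (hγ : PolLaw.IsGammaD γ) {P : Type u} [CommRing P] [Algebra A P] (π : P →ₐ[A] B)
    (hπ : Function.Surjective π) (f : WW A P d →ₐ[A] C)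
    (hf : ∀ (S : Type u) [CommRing S] [Algebra A S] (x : S ⊗[A] P),
      f.toLinearMap.lTensor S ((tauW A P d).law.toFun' S x) =
        γ.law.toFun' S (π.toLinearMap.lTensor S x)) : Function.Surjective f := by
  rw [← AlgHom.range_eq_top, eq_top_iff, ← adjoin_coeffSet_eq_top γ hγ]
  apply Algebra.adjoin_le
  rintro _ ⟨S, _, _, y, ℓ, -, rfl⟩
  obtain ⟨x, rfl⟩ := LinearMap.lTensor_surjective S (show Function.Surjective π.toLinearMap from hπ) y
  rw [← hf, ev_lTensor]
  exact ⟨_, rfl⟩

variable (hφ : ∀ (S : Type u) [CommSemiring S] [Algebra A S] (n : ℕ) (s : Fin n → S) (b : Fin n → B),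
      ((SymTen.TS A B d).val.comp φ).toLinearMap.lTensor S (γ.law.toFun' S (∑ j, s j ⊗ₜ[A] b j)) =
        ∑ c : Fin d → Fin n, (∏ i, s (c i)) ⊗ₜ[A] PiTensorProduct.tprod A (fun i => b (c i)))

include hφ in
theorem phi_gamma (S : Type u) [CommRing S] [Algebra A S] (z : S ⊗[A] B) :
    ((SymTen.TS A B d).val.comp φ).toLinearMap.lTensor S (γ.law.toFun' S z) =
      (SymTen.tpowLaw A B d).law.toFun' S z := by
  obtain ⟨n, s, b, rfl⟩ := Groth.Agent.Lib.PolarH1.exists_fin_sum z
  rw [hφ, tpow_fin_sum]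

set_option maxHeartbeats 1600000 in
include hφ in
theorem exists_F :
    ∃ (F : PolLaw.MulLaw A (⨂[A] _ : Fin d, B) C d.factorial),
      (∀ (S : Type u) [CommSemiring S] [Algebra A S] (z : S ⊗[A] (⨂[A] _ : Fin d, B)),
        ((SymTen.TS A B d).val.comp φ).toLinearMap.lTensor S (F.law.toFun' S z) =
          (SymTen.symmLaw A B d).law.toFun' S z) ∧
      (PolLaw.IsGammaD γ →
        PolLaw.MulLaw.precomp (PolLaw.MulLaw.precomp F (SymTen.TS A B d).val) φ =
          PolLaw.MulLaw.pow A C d.factorial) := by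
  obtain ⟨π, hπdef⟩ : ∃ π : MvPolynomial B A →ₐ[A] B, π = piB A B := ⟨_, rfl⟩
  have hπ : Function.Surjective π := by
    rw [hπdef]
    exact piB_surj
  obtain ⟨e, -⟩ : ∃ e : Basis (B →₀ ℕ) A (MvPolynomial B A), True :=
    ⟨MvPolynomial.basisMonomials B A, trivial⟩
  obtain ⟨e', -⟩ : ∃ e' : Basis (Option B →₀ ℕ) A (MvPolynomial (Option B) A), True :=
    ⟨MvPolynomial.basisMonomials _ A, trivial⟩
  obtain ⟨G, hG⟩ : ∃ G : PolLaw.MulLaw A (MvPolynomial B A) C d,
      G = PolLaw.MulLaw.precomp γ π := ⟨_, rfl⟩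
  obtain ⟨f, hf⟩ := exists_factor e G
  obtain ⟨N, hN⟩ := exists_symmW (d := d) e
  obtain ⟨F₀, hF₀⟩ : ∃ F₀ : PolLaw.MulLaw A (⨂[A] _ : Fin d, MvPolynomial B A) C d.factorial,
      F₀ = PolLaw.MulLaw.postcomp f N := ⟨_, rfl⟩
  have hfS : ∀ (S : Type u) [CommSemiring S] [Algebra A S] (x : S ⊗[A] MvPolynomial B A),
      f.toLinearMap.lTensor S ((tauW A (MvPolynomial B A) d).law.toFun' S x) =
        γ.law.toFun' S (π.toLinearMap.lTensor S x) := by
    intro S _ _ x
    have h := congrArg (fun L : MvPolynomial B A →ₚₗ[A] C => L.toFun' S x) hf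
    rw [hG] at h
    exact h
  have hNS : ∀ (S : Type u) [CommSemiring S] [Algebra A S]
      (z : S ⊗[A] (⨂[A] _ : Fin d, MvPolynomial B A)),
      (WW A (MvPolynomial B A) d).val.toLinearMap.lTensor S (N.law.toFun' S z) =
        (SymTen.symmLaw A (MvPolynomial B A) d).law.toFun' S z := by
    intro S _ _ z
    exact congrArg (fun L : (⨂[A] _ : Fin d, MvPolynomial B A) →ₚₗ[A]
      (⨂[A] _ : Fin d, MvPolynomial B A) => L.toFun' S z) hN
  have hker : RingHom.ker (SymTen.tmap A d π) ≤ PolLaw.ker F₀.law := by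
    apply ker_tmap_le π hπ
    intro j p hp
    have hGG : ∀ (S : Type u) [CommRing S] [Algebra A S] (x : S ⊗[A] MvPolynomial (Option B) A),
        G.law.toFun' S ((psiO p).toLinearMap.lTensor S x) =
          G.law.toFun' S ((psiO (0 : MvPolynomial B A)).toLinearMap.lTensor S x) := by
      intro S _ _ x
      rw [hG]
      show γ.law.toFun' S (π.toLinearMap.lTensor S ((psiO p).toLinearMap.lTensor S x)) =
        γ.law.toFun' S (π.toLinearMap.lTensor S
          ((psiO (0 : MvPolynomial B A)).toLinearMap.lTensor S x))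
      rw [lT_lT, lT_lT, ← AlgHom.comp_toLinearMap, ← AlgHom.comp_toLinearMap, hπdef,
        piB_comp_psiO p (by rw [← hπdef]; exact hp)]
    have h1 := single_mem_ker (d := d) e' (inclO A B) (psiO p) (psiO 0) (psiO_comp_incl p)
      (psiO_comp_incl 0) G hGG f hf N hN (MvPolynomial.X none) (by rw [psiO_none]) j
    rw [psiO_none] at h1
    rw [hF₀]
    exact h1
  obtain ⟨F, hF⟩ := exists_descend F₀ (SymTen.tmap A d π) (tmap_surjective π hπ) hker
  have hF' : ∀ (S : Type u) [CommSemiring S] [Algebra A S]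
      (x : S ⊗[A] (⨂[A] _ : Fin d, MvPolynomial B A)),
      F.law.toFun' S ((SymTen.tmap A d π).toLinearMap.lTensor S x) =
        f.toLinearMap.lTensor S (N.law.toFun' S x) := by
    intro S _ _ x
    rw [hF, hF₀]
    rfl
  have hh : ((SymTen.TS A B d).val.comp φ).comp f =
      (SymTen.tmap A d π).comp (WW A (MvPolynomial B A) d).val := by
    apply hom_ext_tauW
    intro S _ _ z
    rw [AlgHom.comp_toLinearMap f, AlgHom.comp_toLinearMap (WW A (MvPolynomial B A) d).val, ← lT_lT,
      ← lT_lT,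
      hfS, phi_gamma d γ φ hφ, val_tauW, tmap_tpow]
  have hhS : ∀ (S : Type u) [CommSemiring S] [Algebra A S]
      (w : S ⊗[A] WW A (MvPolynomial B A) d),
      ((SymTen.TS A B d).val.comp φ).toLinearMap.lTensor S (f.toLinearMap.lTensor S w) =
        (SymTen.tmap A d π).toLinearMap.lTensor S
          ((WW A (MvPolynomial B A) d).val.toLinearMap.lTensor S w) := by
    intro S _ _ w
    rw [lT_lT, lT_lT, ← AlgHom.comp_toLinearMap, ← AlgHom.comp_toLinearMap, hh]
  refine ⟨F, ?_, ?_⟩
  · intro S _ _ z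
    obtain ⟨x, rfl⟩ := LinearMap.lTensor_surjective S
      (show Function.Surjective (SymTen.tmap A d π).toLinearMap from tmap_surjective π hπ) z
    rw [hF', hhS, hNS, tmap_symm]
  · intro hγ
    apply PolLaw.MulLaw.ext
    apply law_ext_mvPoly
    intro n x
    show F.law.toFun' _ ((SymTen.TS A B d).val.toLinearMap.lTensor _
      (φ.toLinearMap.lTensor _ x)) = x ^ d.factorial
    have hfs : Function.Surjective f := f_surj d γ hγ π hπ f (fun S _ _ x => hfS S x)
    obtain ⟨w, rfl⟩ := LinearMap.lTensor_surjective (MvPolynomial (Fin n) A)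
      (show Function.Surjective f.toLinearMap from hfs) x
    rw [lT_lT, ← AlgHom.comp_toLinearMap, hhS, hF']
    have h2 : N.law.toFun' _ ((WW A (MvPolynomial B A) d).val.toLinearMap.lTensor _ w) =
        w ^ d.factorial := by
      apply hinjW n
      rw [hNS, symm_of_inv, PolLaw.lTensor_algHom_apply, PolLaw.lTensor_algHom_apply, map_pow]
      intro σ
      rw [PolLaw.lTensor_algHom_apply, map_id_comp, perm_val]
    rw [h2, PolLaw.lTensor_algHom_apply, PolLaw.lTensor_algHom_apply, map_pow]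

end main


section results

variable {A B C : Type u} [CommRing A] [CommRing B] [Algebra A B] [CommRing C] [Algebra A C]
  (d : ℕ) (γ : PolLaw.MulLaw A B C d) (φ : C →ₐ[A] SymTen.TS A B d)
  (hφ : ∀ (S : Type u) [CommSemiring S] [Algebra A S] (n : ℕ) (s : Fin n → S) (b : Fin n → B),
      ((SymTen.TS A B d).val.comp φ).toLinearMap.lTensor S (γ.law.toFun' S (∑ j, s j ⊗ₜ[A] b j)) =
        ∑ c : Fin d → Fin n, (∏ i, s (c i)) ⊗ₜ[A] PiTensorProduct.tprod A (fun i => b (c i)))

include hφ in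
theorem main13396 :
    ∃ F : PolLaw.MulLaw A (⨂[A] _ : Fin d, B) C d.factorial,
      ∀ z : ⨂[A] _ : Fin d, B, ((SymTen.TS A B d).val (φ (F.law.ground z)) : ⨂[A] _ : Fin d, B) =
        ∏ σ : Equiv.Perm (Fin d), SymTen.perm A B d σ z := by
  obtain ⟨F, h1, -⟩ := exists_F d γ φ hφ
  refine ⟨F, fun z => ?_⟩
  have h := h1 A ((1 : A) ⊗ₜ[A] z)
  have hg : F.law.ground z = TensorProduct.lid A C (F.law.toFun' A ((1 : A) ⊗ₜ[A] z)) := rfl
  rw [hg]
  have h3 := lid_lT ((SymTen.TS A B d).val.comp φ).toLinearMap (F.law.toFun' A ((1 : A) ⊗ₜ[A] z))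
  rw [h] at h3
  have h4 : (SymTen.symmLaw A B d).law.toFun' A ((1 : A) ⊗ₜ[A] z) =
      ((1 : A) ^ d.factorial) ⊗ₜ[A] ∏ σ : Equiv.Perm (Fin d), SymTen.perm A B d σ z := by
    rw [SymTen.symmLaw, PolLaw.MulLaw.prodMap_tmul]
  rw [h4, one_pow, TensorProduct.lid_tmul, one_smul] at h3
  exact h3

theorem hinjTS (n : ℕ) :
    Function.Injective ((SymTen.TS A B d).val.toLinearMap.lTensor (MvPolynomial (Fin n) A)) :=
  Module.Flat.lTensor_preserves_injective_linearMap _ Subtype.val_injective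

theorem perm_valTS (σ : Equiv.Perm (Fin d)) :
    (SymTen.perm A B d σ).comp (SymTen.TS A B d).val = (SymTen.TS A B d).val := by
  apply AlgHom.ext
  intro x
  have h := x.2
  rw [SymTen.mem_TS_iff] at h
  rw [AlgHom.comp_apply, SymTen.perm_apply]
  exact h σ

include hφ in
theorem main13397 (hγ : PolLaw.IsGammaD γ) :
    ∃ F : PolLaw.MulLaw A (SymTen.TS A B d) C d.factorial,
      PolLaw.MulLaw.postcomp φ F = PolLaw.MulLaw.pow A (SymTen.TS A B d) d.factorial ∧
      PolLaw.MulLaw.precomp F φ = PolLaw.MulLaw.pow A C d.factorial := by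
  obtain ⟨F, h1, h2⟩ := exists_F d γ φ hφ
  refine ⟨PolLaw.MulLaw.precomp F (SymTen.TS A B d).val, ?_, h2 hγ⟩
  apply PolLaw.MulLaw.ext
  apply law_ext_mvPoly
  intro n y
  show φ.toLinearMap.lTensor _ (F.law.toFun' _ ((SymTen.TS A B d).val.toLinearMap.lTensor _ y)) =
    y ^ d.factorial
  apply hinjTS d n
  rw [lT_lT, ← AlgHom.comp_toLinearMap, h1, symm_of_inv, PolLaw.lTensor_algHom_apply,
    PolLaw.lTensor_algHom_apply, map_pow]
  intro σ
  rw [PolLaw.lTensor_algHom_apply, map_id_comp, perm_valTS]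

include hφ in
theorem main13398 (hγ : PolLaw.IsGammaD γ) :
    (∀ x : C, φ x = 0 → x ^ d.factorial = 0) ∧
      (∀ y : SymTen.TS A B d, y ^ d.factorial ∈ φ.range) := by
  obtain ⟨F, hF1, hF2⟩ := main13397 d γ φ hφ hγ
  constructor
  · intro x hx
    have h := congrArg (fun L : PolLaw.MulLaw A C C d.factorial =>
      L.law.toFun' A ((1 : A) ⊗ₜ[A] x)) hF2
    have h' : F.law.toFun' A (φ.toLinearMap.lTensor A ((1 : A) ⊗ₜ[A] x)) =
        ((1 : A) ⊗ₜ[A] x) ^ d.factorial := h
    rw [LinearMap.lTensor_tmul, AlgHom.toLinearMap_apply, hx, TensorProduct.tmul_zero] at h'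
    have h0 : F.law.toFun' A (0 : A ⊗[A] SymTen.TS A B d) = 0 := by
      have := F.homog A (0 : A) (0 : A ⊗[A] SymTen.TS A B d)
      rw [zero_smul, zero_pow (Nat.factorial_ne_zero d), zero_smul] at this
      exact this
    rw [h0, Algebra.TensorProduct.tmul_pow, one_pow] at h'
    have h5 := congrArg (TensorProduct.lid A C) h'
    rw [map_zero, TensorProduct.lid_tmul, one_smul] at h5
    exact h5.symm
  · intro y
    have h := congrArg (fun L : PolLaw.MulLaw A (SymTen.TS A B d) (SymTen.TS A B d) d.factorial =>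
      L.law.toFun' A ((1 : A) ⊗ₜ[A] y)) hF1
    have h' : φ.toLinearMap.lTensor A (F.law.toFun' A ((1 : A) ⊗ₜ[A] y)) =
        ((1 : A) ⊗ₜ[A] y) ^ d.factorial := h
    rw [Algebra.TensorProduct.tmul_pow, one_pow] at h'
    have h5 := congrArg (TensorProduct.lid A (SymTen.TS A B d)) h'
    rw [← lid_lT, TensorProduct.lid_tmul, one_smul] at h5
    exact ⟨_, h5⟩

end results

end Groth.Agent.Lib.SymNormH1
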