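import Mathlib
import Groth.Prelude.Def_PolLaw2
import Groth.Agent.Lib.Polar2_helper1

/-!
# Symmetric tensors are spanned by the diagonal tensors when `n!` is invertible; linearised norm (helper1)
-/

set_option autoImplicit false
universe u
open scoped TensorProduct

namespace Groth.Agent.Lib.TSSpanH1

open PiTensorProduct

variable (A : Type u) [CommRing A] (B : Type u) [CommRing B] [Algebra A B] (n : ℕ)

/-- the span of diagonal pure tensors -/
noncomputable def W : Submodule A (⨂[A] _ : Fin n, B) :=
  Submodule.span A (Set.range fun b : B => tprod A (fun _ : Fin n => b))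

theorem sum_surj (f : Fin n → B) :
    ∑ g ∈ (Finset.univ : Finset (Fin n → Fin n)).filter Function.Surjective,
        tprod A (fun j => f (g j)) =
      ∑ t ∈ (Finset.univ : Finset (Fin n)).powerset,
        (-1 : ℤ) ^ t.card • tprod A (fun _ : Fin n => ∑ i ∈ tᶜ, f i) := by
  classical
  have h := Finset.inclusion_exclusion_sum_inf_compl (Finset.univ : Finset (Fin n))
    (fun i => Fintype.piFinset (fun _ : Fin n => ({i}ᶜ : Finset (Fin n))))
    (fun g : Fin n → Fin n => tprod A (fun j => f (g j)))
  have e1 : (Finset.univ : Finset (Fin n)).inf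
      (fun i => (Fintype.piFinset (fun _ : Fin n => ({i}ᶜ : Finset (Fin n))))ᶜ) =
      Finset.univ.filter Function.Surjective := by
    ext g
    simp only [Finset.mem_inf, Finset.mem_univ, true_implies, Finset.mem_compl, Fintype.mem_piFinset,
      Finset.mem_singleton, not_forall, not_not, Finset.mem_filter, true_and]
    rfl
  have e2 : ∀ t : Finset (Fin n),
      t.inf (fun i => Fintype.piFinset (fun _ : Fin n => ({i}ᶜ : Finset (Fin n)))) =
        Fintype.piFinset (fun _ : Fin n => tᶜ) := by
    intro t; ext g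
    simp only [Finset.mem_inf, Fintype.mem_piFinset, Finset.mem_compl, Finset.mem_singleton]
    constructor
    · intro h j hj; exact h _ hj j rfl
    · intro h i hi j hji; exact h j (hji ▸ hi)
  rw [e1] at h
  rw [h]
  refine Finset.sum_congr rfl fun t _ => ?_
  rw [e2]
  congr 1
  exact ((PiTensorProduct.tprod A).map_sum_finset (fun (_ : Fin n) (i : Fin n) => f i) (fun _ => tᶜ)).symm

theorem sum_perm_mem (f : Fin n → B) :
    ∑ σ : Equiv.Perm (Fin n), tprod A (fun j => f (σ j)) ∈ W A B n := by
  classical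
  have h1 := Groth.Agent.Lib.PolarH1.sum_bijective_eq_sum_perm (D := Fin n)
    (fun c => tprod A (fun j => f (c j)))
  rw [← h1, ← Finset.sum_filter]
  have h2 : (Finset.univ.filter fun c : Fin n → Fin n => Function.Bijective c) =
      Finset.univ.filter Function.Surjective := by
    ext g
    simp only [Finset.mem_filter, Finset.mem_univ, true_and]
    exact ⟨fun h => h.2, fun h => ⟨Finite.injective_iff_surjective.2 h, h⟩⟩
  rw [h2, sum_surj]
  refine Submodule.sum_mem _ fun t _ => ?_
  have hm : tprod A (fun _ : Fin n => ∑ i ∈ tᶜ, f i) ∈ W A B n :=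
    Submodule.subset_span ⟨_, rfl⟩
  exact zsmul_mem hm _

theorem sum_perm_all_mem (t : ⨂[A] _ : Fin n, B) :
    ∑ σ : Equiv.Perm (Fin n), SymTen.perm A B n σ t ∈ W A B n := by
  induction t using PiTensorProduct.induction_on with
  | smul_tprod a f =>
    simp only [map_smul, SymTen.perm_tprod]
    rw [← Finset.smul_sum]
    apply Submodule.smul_mem
    have := sum_perm_mem A B n f
    rw [← Equiv.sum_comp (Equiv.inv (Equiv.Perm (Fin n)))] at this
    exact this
  | add x y hx hy =>
    simp only [map_add, Finset.sum_add_distrib]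
    exact Submodule.add_mem _ hx hy

theorem mem_W_of_mem_TS (hfact : IsUnit ((n.factorial : ℕ) : A)) (t : ⨂[A] _ : Fin n, B)
    (ht : t ∈ SymTen.TS A B n) : t ∈ W A B n := by
  have h := sum_perm_all_mem A B n t
  have h2 : ∑ σ : Equiv.Perm (Fin n), SymTen.perm A B n σ t = ((n.factorial : ℕ) : A) • t := by
    have : ∀ σ : Equiv.Perm (Fin n), SymTen.perm A B n σ t = t := fun σ => by
      rw [SymTen.perm_apply]; exact ht σ
    simp only [this, Finset.sum_const, Finset.card_univ, Fintype.card_perm, Fintype.card_fin]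
    rw [Nat.cast_smul_eq_nsmul]
  rw [h2] at h
  obtain ⟨u, hu⟩ := hfact
  have := Submodule.smul_mem _ (↑u⁻¹ : A) h
  rwa [smul_smul, ← hu, Units.inv_mul, one_smul] at this

theorem span_tpow_eq_top (hfact : IsUnit ((n.factorial : ℕ) : A)) :
    Submodule.span A (Set.range (SymTen.tpow A B n)) = ⊤ := by
  rw [eq_top_iff]
  rintro ⟨t, ht⟩ -
  have h := mem_W_of_mem_TS A B n hfact t ht
  have hmap : Submodule.map (SymTen.TS A B n).val.toLinearMap
      (Submodule.span A (Set.range (SymTen.tpow A B n))) = W A B n := by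
    rw [Submodule.map_span, ← Set.range_comp]; rfl
  rw [← hmap] at h
  obtain ⟨t', ht', e⟩ := h
  have : t' = ⟨t, ht⟩ := Subtype.ext e
  rwa [this] at ht'

theorem main19444 (A : Type u) [CommRing A] (R : Type u) [CommRing R]
    [Algebra A R] [Module.Free A R] [Module.Finite A R] (n : ℕ) (hn : Module.finrank A R = n)
    (hfact : IsUnit ((Nat.factorial n : ℕ) : A)) :
    ∃! φ : SymTen.TS A R n →ₐ[A] A, ∀ r : R, φ (SymTen.tpow A R n r) = Algebra.norm A r := by
  have hspan := span_tpow_eq_top A R n hfact
  obtain ⟨u, hu⟩ := hfact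
  obtain ⟨F, hF⟩ : ∃ F : R →ₚₗ[A] A, F = (PolLaw.normLaw A R n hn).law := ⟨_, rfl⟩
  have hhom : PolLaw.IsHomog F n := by rw [hF]; exact (PolLaw.normLaw A R n hn).homog
  have hFv : ∀ x : A ⊗[A] R, F.toFun' A x = (Algebra.norm A x) ⊗ₜ[A] (1 : A) := by
    intro x; rw [hF, PolLaw.normLaw_apply]
  have hrho : ∀ r : R, PolarH1.rho F n (tprod A (fun _ => r)) =
      ((n.factorial : ℕ) : A) * Algebra.norm A r := by
    intro r
    have h := PolarH1.rho_sum F n hhom (S := A) (n := 1) (fun _ => (1 : A)) (fun _ => r)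
    simp only [Finset.prod_const_one, Finset.univ_unique, Finset.sum_singleton,
      LinearMap.lTensor_tmul] at h
    rw [hFv] at h
    have hnorm : Algebra.norm A ((1 : A) ⊗ₜ[A] r : A ⊗[A] R) = Algebra.norm A r := by
      rw [← Algebra.norm_eq_of_algEquiv (Algebra.TensorProduct.lid A R)]
      simp
    rw [hnorm] at h
    have h' := congrArg (TensorProduct.lid A A) h
    rw [map_nsmul, TensorProduct.lid_tmul, TensorProduct.lid_tmul, one_smul, smul_eq_mul, mul_one,
      nsmul_eq_mul] at h'
    exact h'
  let φl : SymTen.TS A R n →ₗ[A] A :=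
    (↑u⁻¹ : A) • (PolarH1.rho F n ∘ₗ (SymTen.TS A R n).val.toLinearMap)
  have hφ : ∀ r, φl (SymTen.tpow A R n r) = Algebra.norm A r := by
    intro r
    show (↑u⁻¹ : A) • PolarH1.rho F n (tprod A (fun _ => r)) = _
    rw [hrho, ← hu, smul_eq_mul, ← mul_assoc, Units.inv_mul, one_mul]
  have hmul : ∀ x y, φl (x * y) = φl x * φl y := by
    intro x y
    have hx : x ∈ Submodule.span A (Set.range (SymTen.tpow A R n)) := by rw [hspan]; trivial
    have hy : y ∈ Submodule.span A (Set.range (SymTen.tpow A R n)) := by rw [hspan]; trivial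
    induction hx using Submodule.span_induction with
    | mem x hx =>
      obtain ⟨r, rfl⟩ := hx
      induction hy using Submodule.span_induction with
      | mem y hy =>
        obtain ⟨s, rfl⟩ := hy
        rw [← map_mul, hφ, hφ, hφ, map_mul]
      | zero => simp
      | add y y' _ _ h1 h2 => rw [mul_add, map_add, map_add, h1, h2, mul_add]
      | smul a y _ h1 =>
        rw [mul_smul_comm, map_smul, map_smul, h1, smul_eq_mul, smul_eq_mul, mul_left_comm]
    | zero => simp
    | add x x' _ _ h1 h2 => rw [add_mul, map_add, map_add, h1, h2, add_mul]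
    | smul a x _ h1 =>
      rw [smul_mul_assoc, map_smul, map_smul, h1, smul_eq_mul, smul_eq_mul, mul_assoc]
  have hone : φl 1 = 1 := by rw [← map_one (SymTen.tpow A R n), hφ, map_one]
  refine ⟨AlgHom.ofLinearMap φl hone hmul, fun r => hφ r, ?_⟩
  intro ψ hψ
  apply AlgHom.toLinearMap_injective
  apply LinearMap.ext_on hspan
  rintro _ ⟨r, rfl⟩
  show ψ (SymTen.tpow A R n r) = φl (SymTen.tpow A R n r)
  rw [hψ, hφ]

end Groth.Agent.Lib.TSSpanH1
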