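import Mathlib
import Groth.Prelude.Def_PolLaw2
import Groth.Prelude.Def_SymTen
import Groth.Agent.Lib.SymNorm_helper1
import Groth.Agent.Lib.TSSpan_helper1

/-!
# Symmetric tensors of a flat algebra are the divided power algebra (helper1)

`TS^d_A(B)` with the law `x ↦ x ⊗ ⋯ ⊗ x` is `Γ^d_A(B)` when `B` is flat over `A` or `d!` is
invertible in `A`.  The flat case avoids Lazard's theorem in colimit form: we iterate the equational
criterion of flatness to show that a tensor in `T^d(L)` (`L` finite free) dying in `T^d(M)`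
(`M` flat) already dies in `T^d(L')` for a factorisation `L → L' → M` through a finite free `L'`.
-/

set_option autoImplicit false
universe u
open scoped TensorProduct
open Module

namespace Groth.Agent.Lib.FlatTSH1

open Groth.Agent.Lib.GammaSpanH1 Groth.Agent.Lib.FreeCoefH1 Groth.Agent.Lib.FreeFactH1
open Groth.Agent.Lib.SymNormH1 Groth.Agent.Lib.PolarH1
open Classical

section split

variable {A : Type u} [CommRing A] (X : Type u) [AddCommGroup X] [Module A X] (d : ℕ)

/-- split off the last tensor factor -/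
noncomputable def splitL : (⨂[A] _ : Fin (d + 1), X) →ₗ[A] (⨂[A] _ : Fin d, X) ⊗[A] X :=
  PiTensorProduct.lift
    (MultilinearMap.uncurryRight (M := fun _ : Fin (d + 1) => X)
      ((TensorProduct.mk A (⨂[A] _ : Fin d, X) X).compMultilinearMap (PiTensorProduct.tprod A)))

theorem splitL_tprod (v : Fin (d + 1) → X) :
    splitL X d (PiTensorProduct.tprod A v) =
      PiTensorProduct.tprod A (Fin.init v) ⊗ₜ[A] v (Fin.last d) := by
  rw [splitL, PiTensorProduct.lift.tprod]
  rfl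

/-- put back the last tensor factor -/
noncomputable def joinL : (⨂[A] _ : Fin d, X) ⊗[A] X →ₗ[A] (⨂[A] _ : Fin (d + 1), X) :=
  TensorProduct.lift (PiTensorProduct.lift
    (MultilinearMap.curryRight (M := fun _ : Fin (d + 1) => X) (PiTensorProduct.tprod A)))

theorem joinL_tprod (v : Fin d → X) (x : X) :
    joinL X d (PiTensorProduct.tprod A v ⊗ₜ[A] x) =
      PiTensorProduct.tprod A (Fin.snoc (α := fun _ : Fin (d + 1) => X) v x) := by
  rw [joinL, TensorProduct.lift.tmul, PiTensorProduct.lift.tprod]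
  rfl

theorem joinL_splitL (t : ⨂[A] _ : Fin (d + 1), X) : joinL X d (splitL X d t) = t := by
  induction t using PiTensorProduct.induction_on with
  | smul_tprod r v =>
    rw [map_smul, map_smul, splitL_tprod, joinL_tprod, Fin.snoc_init_self]
  | add x y hx hy => rw [map_add, map_add, hx, hy]

theorem splitL_injective : Function.Injective (splitL (A := A) X d) :=
  Function.LeftInverse.injective (joinL_splitL X d)

theorem splitL_map {Y : Type u} [AddCommGroup Y] [Module A Y] (f : X →ₗ[A] Y)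
    (t : ⨂[A] _ : Fin (d + 1), X) :
    splitL Y d (PiTensorProduct.map (fun _ => f) t) =
      TensorProduct.map (PiTensorProduct.map (fun _ => f)) f (splitL X d t) := by
  induction t using PiTensorProduct.induction_on with
  | smul_tprod r v =>
    simp only [map_smul, PiTensorProduct.map_tprod, splitL_tprod, TensorProduct.map_tmul]
    rfl
  | add x y hx hy => simp only [map_add, hx, hy]

end split

section expand

variable {A : Type u} [CommRing A]

theorem exists_expand {ι : Type} [Fintype ι] [DecidableEq ι] {N : Type u} [AddCommGroup N]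
    [Module A N] (t : N ⊗[A] (ι → A)) :
    ∃ ν : ι → N, t = ∑ i, ν i ⊗ₜ[A] (Pi.basisFun A ι i) := by
  induction t using TensorProduct.induction_on with
  | zero => exact ⟨fun _ => 0, by simp⟩
  | tmul x l =>
    refine ⟨fun i => l i • x, ?_⟩
    have hl : l = ∑ i, l i • Pi.basisFun A ι i := by
      conv_lhs => rw [← (Pi.basisFun A ι).sum_repr l]
      simp
    conv_lhs => rw [hl, TensorProduct.tmul_sum]
    refine Finset.sum_congr rfl fun i _ => ?_
    rw [TensorProduct.tmul_smul, TensorProduct.smul_tmul']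
  | add a b ha hb =>
    obtain ⟨ν, rfl⟩ := ha
    obtain ⟨ν', rfl⟩ := hb
    refine ⟨ν + ν', ?_⟩
    simp only [Pi.add_apply, TensorProduct.add_tmul, Finset.sum_add_distrib]

end expand

section factor

variable (A : Type u) [CommRing A] (M : Type u) [AddCommGroup M] [Module A M]

/-- a tensor over a finite free module that dies in `T^d(M)` dies after a factorisation -/
def PSingle (d : ℕ) : Prop :=
  ∀ (ι : Type) [Fintype ι] [DecidableEq ι] (u : (ι → A) →ₗ[A] M)
    (w : ⨂[A] _ : Fin d, (ι → A)), PiTensorProduct.map (fun _ => u) w = 0 →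
    ∃ (κ : Type) (_ : Fintype κ) (_ : DecidableEq κ) (a : (ι → A) →ₗ[A] (κ → A))
      (y : (κ → A) →ₗ[A] M), u = y ∘ₗ a ∧ PiTensorProduct.map (fun _ => a) w = 0

/-- the same for finite lists of tensors -/
def PList (d : ℕ) : Prop :=
  ∀ (ι : Type) [Fintype ι] [DecidableEq ι] (u : (ι → A) →ₗ[A] M)
    (ws : List (⨂[A] _ : Fin d, (ι → A))), (∀ w ∈ ws, PiTensorProduct.map (fun _ => u) w = 0) →
    ∃ (κ : Type) (_ : Fintype κ) (_ : DecidableEq κ) (a : (ι → A) →ₗ[A] (κ → A))
      (y : (κ → A) →ₗ[A] M), u = y ∘ₗ a ∧ ∀ w ∈ ws, PiTensorProduct.map (fun _ => a) w = 0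

variable {A M}

theorem plist_of_psingle (d : ℕ) (h : PSingle A M d) : PList A M d := by
  intro ι _ _ u ws
  induction ws with
  | nil =>
    intro _
    exact ⟨ι, inferInstance, inferInstance, LinearMap.id, u, rfl, fun w hw => by simp at hw⟩
  | cons w ws ih =>
    intro hws
    obtain ⟨κ₁, _, _, a₁, y₁, hu₁, hk₁⟩ := ih (fun w' hw' => hws w' (List.mem_cons_of_mem _ hw'))
    have h0 : PiTensorProduct.map (fun _ => y₁) (PiTensorProduct.map (fun _ => a₁) w) = 0 := by
      rw [← LinearMap.comp_apply, ← PiTensorProduct.map_comp, ← hu₁]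
      exact hws w List.mem_cons_self
    obtain ⟨κ₂, _, _, a₂, y₂, hu₂, hk₂⟩ := h κ₁ y₁ _ h0
    refine ⟨κ₂, inferInstance, inferInstance, a₂ ∘ₗ a₁, y₂, ?_, ?_⟩
    · rw [hu₁, hu₂, LinearMap.comp_assoc]
    · intro w' hw'
      rw [PiTensorProduct.map_comp, LinearMap.comp_apply]
      rcases List.mem_cons.1 hw' with rfl | hw''
      · exact hk₂
      · rw [hk₁ w' hw'', map_zero]

theorem psingle_zero : PSingle A M 0 := by
  intro ι _ _ u w hw
  refine ⟨ι, inferInstance, inferInstance, LinearMap.id, u, rfl, ?_⟩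
  have h1 : ∀ t : ⨂[A] _ : Fin 0, (ι → A),
      PiTensorProduct.isEmptyEquiv (Fin 0) (PiTensorProduct.map (fun _ => u) t) =
        PiTensorProduct.isEmptyEquiv (Fin 0) t := by
    intro t
    induction t using PiTensorProduct.induction_on with
    | smul_tprod r v =>
      simp [PiTensorProduct.map_tprod, PiTensorProduct.isEmptyEquiv_apply_tprod]
    | add x y hx hy => simp only [map_add, hx, hy]
  have h2 : PiTensorProduct.isEmptyEquiv (Fin 0) w = 0 := by rw [← h1, hw, map_zero]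
  have h3 : w = 0 := (PiTensorProduct.isEmptyEquiv (Fin 0)).injective (by rw [h2, map_zero])
  rw [h3, map_zero]

theorem psingle_succ [Module.Flat A M] (d : ℕ) (h : PList A M d) : PSingle A M (d + 1) := by
  intro ι _ _ u w hw
  obtain ⟨ν, hν⟩ := exists_expand (splitL (ι → A) d w)
  have h1 : ∑ i, PiTensorProduct.map (fun _ => u) (ν i) ⊗ₜ[A] u (Pi.basisFun A ι i) =
      (0 : (⨂[A] _ : Fin d, M) ⊗[A] M) := by
    have := splitL_map (ι → A) d u w
    rw [hw, map_zero, hν, map_sum] at this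
    simpa only [TensorProduct.map_tmul] using this.symm
  have hinj : Function.Injective (LinearMap.rTensor M (Submodule.span A
      (Set.range fun i => PiTensorProduct.map (fun _ => u) (ν i))).subtype) :=
    Module.Flat.rTensor_preserves_injective_linearMap _ (Submodule.injective_subtype _)
  obtain ⟨k, a, y, hy, ha⟩ :=
    TensorProduct.vanishesTrivially_of_sum_tmul_eq_zero_of_rTensor_injective A hinj h1
  obtain ⟨a₁, ha₁⟩ : ∃ a₁ : (ι → A) →ₗ[A] (Fin k → A),
      ∀ i, a₁ (Pi.basisFun A ι i) = ∑ j, a i j • Pi.basisFun A (Fin k) j :=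
    ⟨(Pi.basisFun A ι).constr A (fun i => ∑ j, a i j • Pi.basisFun A (Fin k) j),
      fun i => Basis.constr_basis _ _ _ _⟩
  obtain ⟨y₁, hy₁⟩ : ∃ y₁ : (Fin k → A) →ₗ[A] M, ∀ j, y₁ (Pi.basisFun A (Fin k) j) = y j :=
    ⟨(Pi.basisFun A (Fin k)).constr A y, fun j => Basis.constr_basis _ _ _ _⟩
  have hu₁ : u = y₁ ∘ₗ a₁ := by
    apply (Pi.basisFun A ι).ext
    intro i
    have hy' : u (Pi.basisFun A ι i) = ∑ j, a i j • y j := hy i
    rw [LinearMap.comp_apply, ha₁, map_sum, hy']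
    refine Finset.sum_congr rfl fun j _ => ?_
    rw [map_smul, hy₁]
  obtain ⟨v, hv⟩ : ∃ v : Fin k → ⨂[A] _ : Fin d, (ι → A), v = fun j => ∑ i, a i j • ν i :=
    ⟨_, rfl⟩
  have hv0 : ∀ j, PiTensorProduct.map (fun _ => u) (v j) = 0 := by
    intro j
    rw [hv]
    simp only [map_sum, map_smul]
    exact ha j
  have hside : ∀ w' ∈ List.ofFn (fun j => PiTensorProduct.map (fun _ => a₁) (v j)),
      PiTensorProduct.map (fun _ => y₁) w' = 0 := by
    intro w' hw'
    obtain ⟨j, rfl⟩ := List.mem_ofFn.1 hw'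
    rw [← LinearMap.comp_apply, ← PiTensorProduct.map_comp, ← hu₁]
    exact hv0 j
  obtain ⟨κ₂, _, _, a₂, y₂, hu₂, hk₂⟩ := h (Fin k) y₁ _ hside
  refine ⟨κ₂, inferInstance, inferInstance, a₂ ∘ₗ a₁, y₂, by rw [hu₁, hu₂, LinearMap.comp_assoc], ?_⟩
  apply splitL_injective
  rw [map_zero, splitL_map, hν, map_sum]
  have key : ∀ i, (a₂ ∘ₗ a₁) (Pi.basisFun A ι i) =
      ∑ j, a i j • a₂ (Pi.basisFun A (Fin k) j) := by
    intro i
    rw [LinearMap.comp_apply, ha₁, map_sum]
    simp only [map_smul]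
  simp only [TensorProduct.map_tmul, key, TensorProduct.tmul_sum, TensorProduct.tmul_smul]
  rw [Finset.sum_comm]
  refine Finset.sum_eq_zero fun j _ => ?_
  have hz : PiTensorProduct.map (fun _ => a₂ ∘ₗ a₁) (v j) = 0 := by
    rw [PiTensorProduct.map_comp, LinearMap.comp_apply]
    exact hk₂ _ (List.mem_ofFn.2 ⟨j, rfl⟩)
  rw [hv] at hz
  simp only [map_sum, map_smul] at hz
  simp only [TensorProduct.smul_tmul', ← TensorProduct.sum_tmul]
  rw [hz, TensorProduct.zero_tmul]

theorem plist_all [Module.Flat A M] (d : ℕ) : PList A M d := by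
  induction d with
  | zero => exact plist_of_psingle 0 psingle_zero
  | succ d ih => exact plist_of_psingle (d + 1) (psingle_succ d ih)

end factor


section lmap

variable {A : Type u} [CommRing A] {d : ℕ}

/-- tensor power of a linear map -/
noncomputable def lmap {X Y : Type u} [AddCommGroup X] [Module A X] [AddCommGroup Y] [Module A Y]
    (f : X →ₗ[A] Y) : (⨂[A] _ : Fin d, X) →ₗ[A] (⨂[A] _ : Fin d, Y) :=
  PiTensorProduct.map (fun _ => f)

section modules

variable {X Y Z : Type u} [AddCommGroup X] [Module A X] [AddCommGroup Y] [Module A Y]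
  [AddCommGroup Z] [Module A Z]

theorem lmap_tprod (f : X →ₗ[A] Y) (v : Fin d → X) :
    lmap (d := d) f (PiTensorProduct.tprod A v) = PiTensorProduct.tprod A (fun i => f (v i)) :=
  PiTensorProduct.map_tprod _ _

theorem lmap_comp (g : Y →ₗ[A] Z) (f : X →ₗ[A] Y) :
    lmap (d := d) (g ∘ₗ f) = lmap g ∘ₗ lmap f := by
  rw [lmap, lmap, lmap, ← PiTensorProduct.map_comp]

theorem lmap_reindex (f : X →ₗ[A] Y) (σ : Equiv.Perm (Fin d)) (t : ⨂[A] _ : Fin d, X) :
    lmap f (PiTensorProduct.reindex A (fun _ : Fin d => X) σ t) =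
      PiTensorProduct.reindex A (fun _ : Fin d => Y) σ (lmap f t) := by
  induction t using PiTensorProduct.induction_on with
  | smul_tprod r g => simp [lmap, PiTensorProduct.reindex_tprod, PiTensorProduct.map_tprod]
  | add x y hx hy => simp only [map_add, hx, hy]

theorem exists_common {ι₁ ι₂ : Type} [Fintype ι₁] [DecidableEq ι₁] [Fintype ι₂] [DecidableEq ι₂]
    (u₁ : (ι₁ → A) →ₗ[A] X) (u₂ : (ι₂ → A) →ₗ[A] X) :
    ∃ (u : (ι₁ ⊕ ι₂ → A) →ₗ[A] X) (j₁ : (ι₁ → A) →ₗ[A] (ι₁ ⊕ ι₂ → A))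
      (j₂ : (ι₂ → A) →ₗ[A] (ι₁ ⊕ ι₂ → A)), u ∘ₗ j₁ = u₁ ∧ u ∘ₗ j₂ = u₂ := by
  refine ⟨(Pi.basisFun A (ι₁ ⊕ ι₂)).constr A
      (Sum.elim (fun i => u₁ (Pi.basisFun A ι₁ i)) (fun i => u₂ (Pi.basisFun A ι₂ i))),
    (Pi.basisFun A ι₁).constr A (fun i => Pi.basisFun A (ι₁ ⊕ ι₂) (Sum.inl i)),
    (Pi.basisFun A ι₂).constr A (fun i => Pi.basisFun A (ι₁ ⊕ ι₂) (Sum.inr i)), ?_, ?_⟩
  · apply (Pi.basisFun A ι₁).ext
    intro i
    rw [LinearMap.comp_apply, Basis.constr_basis, Basis.constr_basis]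
    rfl
  · apply (Pi.basisFun A ι₂).ext
    intro i
    rw [LinearMap.comp_apply, Basis.constr_basis, Basis.constr_basis]
    rfl

theorem exists_lift_tensor (z : ⨂[A] _ : Fin d, X) :
    ∃ (ι : Type) (_ : Fintype ι) (_ : DecidableEq ι) (u : (ι → A) →ₗ[A] X)
      (z₀ : ⨂[A] _ : Fin d, (ι → A)), lmap u z₀ = z := by
  induction z using PiTensorProduct.induction_on with
  | smul_tprod r b =>
    refine ⟨Fin d, inferInstance, inferInstance, (Pi.basisFun A (Fin d)).constr A b,
      r • PiTensorProduct.tprod A (fun i => Pi.basisFun A (Fin d) i), ?_⟩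
    rw [map_smul, lmap_tprod]
    simp only [Basis.constr_basis]
  | add x y hx hy =>
    obtain ⟨ι₁, _, _, u₁, z₁, rfl⟩ := hx
    obtain ⟨ι₂, _, _, u₂, z₂, rfl⟩ := hy
    obtain ⟨u, j₁, j₂, e₁, e₂⟩ := exists_common u₁ u₂
    refine ⟨ι₁ ⊕ ι₂, inferInstance, inferInstance, u, lmap j₁ z₁ + lmap j₂ z₂, ?_⟩
    rw [map_add, ← LinearMap.comp_apply, ← LinearMap.comp_apply, ← lmap_comp, ← lmap_comp, e₁, e₂]

theorem exists_lift_family : ∀ (l : ℕ) (z : Fin l → ⨂[A] _ : Fin d, X),
    ∃ (ι : Type) (_ : Fintype ι) (_ : DecidableEq ι) (u : (ι → A) →ₗ[A] X)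
      (z₀ : Fin l → ⨂[A] _ : Fin d, (ι → A)), ∀ i, lmap u (z₀ i) = z i := by
  intro l
  induction l with
  | zero =>
    intro z
    exact ⟨Fin 0, inferInstance, inferInstance, 0, fun i => i.elim0, fun i => i.elim0⟩
  | succ l ih =>
    intro z
    obtain ⟨ι₁, _, _, u₁, z₁, h₁⟩ := exists_lift_tensor (z 0)
    obtain ⟨ι₂, _, _, u₂, z₂, h₂⟩ := ih (fun i => z i.succ)
    obtain ⟨u, j₁, j₂, e₁, e₂⟩ := exists_common u₁ u₂
    refine ⟨ι₁ ⊕ ι₂, inferInstance, inferInstance, u,
      Fin.cons (lmap j₁ z₁) (fun i => lmap j₂ (z₂ i)), ?_⟩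
    intro i
    refine Fin.cases ?_ (fun i => ?_) i
    · rw [Fin.cons_zero, ← LinearMap.comp_apply, ← lmap_comp, e₁, h₁]
    · rw [Fin.cons_succ, ← LinearMap.comp_apply, ← lmap_comp, e₂, h₂]

end modules

section algebras

variable {X Y : Type u} [CommRing X] [Algebra A X] [CommRing Y] [Algebra A Y]

theorem lmap_tpow (f : X →ₗ[A] Y) (S : Type u) [CommRing S] [Algebra A S] (z : S ⊗[A] X) :
    (lmap (d := d) f).lTensor S ((SymTen.tpowLaw A X d).law.toFun' S z) =
      (SymTen.tpowLaw A Y d).law.toFun' S (f.lTensor S z) := by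
  obtain ⟨n, s, b, rfl⟩ := exists_fin_sum z
  rw [tpow_fin_sum, map_sum, map_sum]
  simp only [LinearMap.lTensor_tmul]
  rw [tpow_fin_sum]
  refine Finset.sum_congr rfl fun c _ => ?_
  rw [lmap_tprod]

theorem tmap_eq_lmap (ψ : X →ₐ[A] Y) (t : ⨂[A] _ : Fin d, X) :
    SymTen.tmap A d ψ t = lmap (d := d) ψ.toLinearMap t := by
  induction t using PiTensorProduct.induction_on with
  | smul_tprod r g => simp [lmap, PiTensorProduct.map_tprod]
  | add x y hx hy => simp only [map_add, hx, hy]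

theorem lmap_mem_TS (f : X →ₗ[A] Y) (t : ⨂[A] _ : Fin d, X) (ht : t ∈ SymTen.TS A X d) :
    lmap f t ∈ SymTen.TS A Y d := by
  rw [SymTen.mem_TS_iff] at ht ⊢
  intro σ
  rw [← lmap_reindex, ht σ]

/-- symmetric tensors of a flat algebra lift to symmetric tensors of a finite free module -/
theorem exists_sym_lift_family [Module.Flat A Y] (l : ℕ) (z : Fin l → ⨂[A] _ : Fin d, Y)
    (hz : ∀ i, z i ∈ SymTen.TS A Y d) :
    ∃ (κ : Type) (_ : Fintype κ) (_ : DecidableEq κ) (y : (κ → A) →ₗ[A] Y)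
      (z' : Fin l → ⨂[A] _ : Fin d, (κ → A)),
      (∀ i, z' i ∈ SymTen.TS A (κ → A) d) ∧ ∀ i, lmap y (z' i) = z i := by
  obtain ⟨ι, _, _, u, z₀, hz₀⟩ := exists_lift_family l z
  have hside : ∀ w ∈ (Finset.univ : Finset (Fin l × Equiv.Perm (Fin d))).toList.map
      (fun p => PiTensorProduct.reindex A (fun _ : Fin d => ι → A) p.2 (z₀ p.1) - z₀ p.1),
      PiTensorProduct.map (fun _ => u) w = 0 := by
    intro w hw
    obtain ⟨p, -, rfl⟩ := List.mem_map.1 hw
    show lmap u _ = 0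
    rw [map_sub, lmap_reindex, hz₀, sub_eq_zero]
    exact (SymTen.mem_TS_iff A Y d _).1 (hz p.1) p.2
  obtain ⟨κ, _, _, a, y, hu, hk⟩ := plist_all (A := A) (M := Y) d ι u _ hside
  refine ⟨κ, inferInstance, inferInstance, y, fun i => lmap a (z₀ i), ?_, ?_⟩
  · intro i
    rw [SymTen.mem_TS_iff]
    intro σ
    have h := hk _ (List.mem_map.2 ⟨(i, σ), Finset.mem_toList.2 (Finset.mem_univ _), rfl⟩)
    have h' : lmap a (PiTensorProduct.reindex A (fun _ : Fin d => ι → A) σ (z₀ i) - z₀ i) = 0 := h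
    rw [map_sub, sub_eq_zero, lmap_reindex] at h'
    exact h'
  · intro i
    rw [← LinearMap.comp_apply, ← lmap_comp, ← hu, hz₀]

theorem exists_sym_lift [Module.Flat A Y] (z : ⨂[A] _ : Fin d, Y) (hz : z ∈ SymTen.TS A Y d) :
    ∃ (κ : Type) (_ : Fintype κ) (_ : DecidableEq κ) (y : (κ → A) →ₗ[A] Y)
      (z' : ⨂[A] _ : Fin d, (κ → A)), z' ∈ SymTen.TS A (κ → A) d ∧ lmap y z' = z := by
  obtain ⟨κ, _, _, y, z', h1, h2⟩ := exists_sym_lift_family 1 (fun _ => z) (fun _ => hz)
  exact ⟨κ, inferInstance, inferInstance, y, z' 0, h1 0, h2 0⟩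

theorem mem_span_coeff_of_mem_TS {κ : Type} [Fintype κ] [DecidableEq κ]
    (z' : ⨂[A] _ : Fin d, (κ → A)) (hz' : z' ∈ SymTen.TS A (κ → A) d) :
    z' ∈ Submodule.span A (coeffSetOn (SymTen.tpowLaw A (κ → A) d) ⊤) := by
  have e : Basis (ULift.{u} κ) A (κ → A) := (Pi.basisFun A κ).reindex Equiv.ulift.symm
  exact mem_span_of_mem_WW ⟨z', TS_le_WW e hz'⟩

/-- the value of a linear map on the image of a symmetric tensor of a finite free module depends
only on the composite law -/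
theorem lin_lmap_eq {P : Type u} [CommRing P] [Algebra A P] {C' : Type u} [AddCommGroup C']
    [Module A C'] (G : P →ₚₗ[A] C') (g : (⨂[A] _ : Fin d, P) →ₗ[A] C')
    (hg : PolLaw.postcomp g (SymTen.tpowLaw A P d).law = G)
    (ι ι' : X →ₗ[A] P) (hι : PolLaw.precomp G ι = PolLaw.precomp G ι')
    (x : ⨂[A] _ : Fin d, X)
    (hx : x ∈ Submodule.span A (coeffSetOn (SymTen.tpowLaw A X d) ⊤)) :
    g (lmap ι x) = g (lmap ι' x) := by
  subst hg
  induction hx using Submodule.span_induction with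
  | mem x hx =>
    obtain ⟨S, _, _, w, ℓ, -, rfl⟩ := hx
    have key : ∀ j : X →ₗ[A] P,
        g (lmap j (ev _ ℓ ((SymTen.tpowLaw A X d).law.toFun' S w))) =
          ev C' ℓ ((PolLaw.precomp (PolLaw.postcomp g (SymTen.tpowLaw A P d).law) j).toFun' S w) := by
      intro j
      rw [← ev_lTensor, lmap_tpow, ← ev_lTensor]
      rfl
    rw [key, key, hι]
  | zero => simp
  | add x y _ _ hx hy => simp only [map_add, hx, hy]
  | smul a x _ hx => simp only [map_smul, hx]

end algebras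

end lmap

section tau

variable (A : Type u) [CommRing A] (B : Type u) [CommRing B] [Algebra A B] (d : ℕ)

theorem exists_tauTS : ∃ τ : PolLaw.MulLaw A B (SymTen.TS A B d) d,
    PolLaw.postcomp (SymTen.TS A B d).val.toLinearMap τ.law = (SymTen.tpowLaw A B d).law := by
  apply exists_restrict
  intro n z
  apply mem_range_of_coeffs
  intro m
  exact WW_le_TS A B d (Algebra.subset_adjoin (mem_coeffSetOn_top (SymTen.tpowLaw A B d) _ z _))

/-- the tensor power law with values in the symmetric tensors -/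
noncomputable def tauTS : PolLaw.MulLaw A B (SymTen.TS A B d) d :=
  Classical.choose (exists_tauTS A B d)

theorem tauTS_spec :
    PolLaw.postcomp (SymTen.TS A B d).val.toLinearMap (tauTS A B d).law =
      (SymTen.tpowLaw A B d).law :=
  Classical.choose_spec (exists_tauTS A B d)

variable {A B d}

theorem val_tauTS (S : Type u) [CommSemiring S] [Algebra A S] (x : S ⊗[A] B) :
    (SymTen.TS A B d).val.toLinearMap.lTensor S ((tauTS A B d).law.toFun' S x) =
      (SymTen.tpowLaw A B d).law.toFun' S x := by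
  have := congrArg (fun L : B →ₚₗ[A] (⨂[A] _ : Fin d, B) => L.toFun' S x) (tauTS_spec A B d)
  exact this

theorem coeff_tauTS (S : Type u) [CommRing S] [Algebra A S] (z : S ⊗[A] B) (ℓ : S →ₗ[A] A) :
    ((ev (SymTen.TS A B d) ℓ ((tauTS A B d).law.toFun' S z) : SymTen.TS A B d) :
      ⨂[A] _ : Fin d, B) = ev (⨂[A] _ : Fin d, B) ℓ ((SymTen.tpowLaw A B d).law.toFun' S z) := by
  rw [← val_tauTS, ev_lTensor]
  rfl

theorem hinjTS' (n : ℕ) :
    Function.Injective ((SymTen.TS A B d).val.toLinearMap.lTensor (MvPolynomial (Fin n) A)) :=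
  Module.Flat.lTensor_preserves_injective_linearMap _ Subtype.val_injective

/-- a multiplicative law whose coefficients span, and through which every law factors linearly,
is universal -/
theorem isGammaD_of_span {C : Type u} [CommRing C] [Algebra A C] (γ : PolLaw.MulLaw A B C d)
    (hsp : Submodule.span A (coeffSetOn γ ⊤) = ⊤)
    (hex : ∀ (C' : Type u) [CommRing C'] [Algebra A C'] (F : PolLaw.MulLaw A B C' d),
      ∃ g : C →ₗ[A] C', PolLaw.postcomp g γ.law = F.law) : PolLaw.IsGammaD γ := by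
  intro C' _ _ F
  obtain ⟨g, hg⟩ := hex C' F
  have h1 : g 1 = 1 := map_one_of_postcomp γ F g hg
  have hmul : ∀ x y, g (x * y) = g x * g y := fun x y =>
    map_mul_of_mem_span γ F g hg (hsp ▸ Submodule.mem_top) (hsp ▸ Submodule.mem_top)
  refine ⟨AlgHom.ofLinearMap g h1 hmul, ?_, ?_⟩
  · show PolLaw.postcomp (AlgHom.ofLinearMap g h1 hmul).toLinearMap γ.law = F.law
    rw [AlgHom.toLinearMap_ofLinearMap]
    exact hg
  · intro f' hf'
    apply AlgHom.toLinearMap_injective
    rw [AlgHom.toLinearMap_ofLinearMap]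
    apply LinearMap.ext_on hsp
    rintro c ⟨S, _, _, z, ℓ, -, rfl⟩
    rw [map_ev γ F f'.toLinearMap hf', map_ev γ F g hg]

end tau

section factorial

variable {A : Type u} [CommRing A] {B : Type u} [CommRing B] [Algebra A B] {d : ℕ}

theorem tpow_mem_coeffSet (b : B) : SymTen.tpow A B d b ∈ coeffSetOn (tauTS A B d) ⊤ := by
  have h : SymTen.tpow A B d b =
      ev (SymTen.TS A B d) (LinearMap.id : A →ₗ[A] A) ((tauTS A B d).law.toFun' A ((1 : A) ⊗ₜ[A] b)) := by
    apply Subtype.ext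
    rw [coeff_tauTS, SymTen.tpowLaw_tmul, ev_tmul]
    simp
    rfl
  rw [h]
  exact mem_coeffSetOn_top _ _ _ _

theorem span_coeff_of_factorial (hfact : IsUnit ((d.factorial : ℕ) : A)) :
    Submodule.span A (coeffSetOn (tauTS A B d) ⊤) = ⊤ := by
  rw [eq_top_iff, ← Groth.Agent.Lib.TSSpanH1.span_tpow_eq_top A B d hfact]
  apply Submodule.span_mono
  rintro _ ⟨b, rfl⟩
  exact tpow_mem_coeffSet b

theorem exists_lin_of_factorial (hfact : IsUnit ((d.factorial : ℕ) : A)) {C' : Type u} [CommRing C']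
    [Algebra A C'] (F : PolLaw.MulLaw A B C' d) :
    ∃ g : SymTen.TS A B d →ₗ[A] C', PolLaw.postcomp g (tauTS A B d).law = F.law := by
  obtain ⟨u, hu⟩ := hfact
  refine ⟨(↑u⁻¹ : A) • (rho F.law d ∘ₗ (SymTen.TS A B d).val.toLinearMap), ?_⟩
  apply Groth.Agent.Lib.DetProjH1.ext_of_ring
  intro R _ _ x
  obtain ⟨n, s, b, rfl⟩ := exists_fin_sum x
  show ((↑u⁻¹ : A) • (rho F.law d ∘ₗ (SymTen.TS A B d).val.toLinearMap)).lTensor R
    ((tauTS A B d).law.toFun' R _) = _
  rw [LinearMap.lTensor_smul, LinearMap.smul_apply, LinearMap.lTensor_comp, LinearMap.comp_apply,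
    val_tauTS, tpow_fin_sum, rho_sum F.law d F.homog, ← Nat.cast_smul_eq_nsmul A, smul_smul, ← hu,
    Units.inv_mul, one_smul]

end factorial

section flat

variable {A : Type u} [CommRing A] {B : Type u} [CommRing B] [Algebra A B] {d : ℕ}

theorem lmap_coeff {X : Type u} [CommRing X] [Algebra A X] (y : X →ₗ[A] B) (S : Type u) [CommRing S]
    [Algebra A S] (w : S ⊗[A] X) (ℓ : S →ₗ[A] A) :
    lmap y (ev _ ℓ ((SymTen.tpowLaw A X d).law.toFun' S w)) =
      ((ev (SymTen.TS A B d) ℓ ((tauTS A B d).law.toFun' S (y.lTensor S w)) : SymTen.TS A B d) :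
        ⨂[A] _ : Fin d, B) := by
  rw [coeff_tauTS, ← ev_lTensor, lmap_tpow]

theorem span_coeff_of_flat [Module.Flat A B] :
    Submodule.span A (coeffSetOn (tauTS A B d) ⊤) = ⊤ := by
  rw [eq_top_iff]
  rintro ⟨z, hz⟩ -
  obtain ⟨κ, _, _, y, z', hz', rfl⟩ := exists_sym_lift z hz
  have h1 := mem_span_coeff_of_mem_TS z' hz'
  have h : ∀ x ∈ Submodule.span A (coeffSetOn (SymTen.tpowLaw A (κ → A) d) ⊤),
      lmap y x ∈ (Submodule.span A (coeffSetOn (tauTS A B d) ⊤)).map
        (SymTen.TS A B d).val.toLinearMap := by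
    intro x hx
    induction hx using Submodule.span_induction with
    | mem x hx =>
      obtain ⟨S, _, _, w, ℓ, -, rfl⟩ := hx
      exact ⟨ev _ ℓ ((tauTS A B d).law.toFun' S (y.lTensor S w)),
        Submodule.subset_span (mem_coeffSetOn_top _ _ _ _), (lmap_coeff y S w ℓ).symm⟩
    | zero => rw [map_zero]; exact Submodule.zero_mem _
    | add x y' _ _ hx hy => rw [map_add]; exact Submodule.add_mem _ hx hy
    | smul a x _ hx => rw [map_smul]; exact Submodule.smul_mem _ _ hx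
  obtain ⟨t, ht, e⟩ := h z' h1
  have : t = ⟨lmap y z', hz⟩ := Subtype.ext e
  rwa [this] at ht

theorem exists_lift_lin {κ : Type} [Fintype κ] [DecidableEq κ] (y : (κ → A) →ₗ[A] B) :
    ∃ y' : (κ → A) →ₗ[A] MvPolynomial B A, (piB A B).toLinearMap ∘ₗ y' = y := by
  refine ⟨(Pi.basisFun A κ).constr A (fun j => MvPolynomial.X (y (Pi.basisFun A κ j))), ?_⟩
  apply (Pi.basisFun A κ).ext
  intro j
  rw [LinearMap.comp_apply, Basis.constr_basis, AlgHom.toLinearMap_apply, piB_X]

theorem TSmap_surjective [Module.Flat A B] :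
    Function.Surjective (SymTen.TSmap A d (piB A B)) := by
  rintro ⟨z, hz⟩
  obtain ⟨κ, _, _, y, z', hz', rfl⟩ := exists_sym_lift z hz
  obtain ⟨y', hy'⟩ := exists_lift_lin y
  refine ⟨⟨lmap y' z', lmap_mem_TS y' z' hz'⟩, Subtype.ext ?_⟩
  show SymTen.tmap A d (piB A B) (lmap y' z') = lmap y z'
  rw [tmap_eq_lmap, ← LinearMap.comp_apply, ← lmap_comp, hy']

theorem lin_ker [Module.Flat A B] {C' : Type u} [CommRing C'] [Algebra A C']
    (F : PolLaw.MulLaw A B C' d) (g : (⨂[A] _ : Fin d, MvPolynomial B A) →ₗ[A] C')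
    (hg : PolLaw.postcomp g (SymTen.tpowLaw A (MvPolynomial B A) d).law =
      PolLaw.precomp F.law (piB A B).toLinearMap)
    (x : ⨂[A] _ : Fin d, MvPolynomial B A) (hx : x ∈ SymTen.TS A (MvPolynomial B A) d)
    (hker : SymTen.tmap A d (piB A B) x = 0) : g x = 0 := by
  obtain ⟨κ, _, _, ι, x', hx', rfl⟩ := exists_sym_lift x hx
  have h0 : PiTensorProduct.map (fun _ => (piB A B).toLinearMap ∘ₗ ι) x' = 0 := by
    have := hker
    rw [tmap_eq_lmap, ← LinearMap.comp_apply, ← lmap_comp] at this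
    exact this
  obtain ⟨κ₂, _, _, a, y, hu, hk⟩ := plist_all (A := A) (M := B) d κ
    ((piB A B).toLinearMap ∘ₗ ι) [x'] (by
      intro w hw
      rw [List.mem_singleton] at hw
      rw [hw]
      exact h0)
  obtain ⟨y', hy'⟩ := exists_lift_lin y
  have e : ∀ j : (κ → A) →ₗ[A] MvPolynomial B A,
      PolLaw.precomp (PolLaw.precomp F.law (piB A B).toLinearMap) j =
        PolLaw.precomp F.law ((piB A B).toLinearMap ∘ₗ j) := by
    intro j
    apply PolynomialLaw.ext
    funext S _ _ w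
    show F.law.toFun' S ((piB A B).toLinearMap.lTensor S (j.lTensor S w)) =
      F.law.toFun' S (((piB A B).toLinearMap ∘ₗ j).lTensor S w)
    rw [lT_lT]
  have hcomp : PolLaw.precomp (PolLaw.precomp F.law (piB A B).toLinearMap) ι =
      PolLaw.precomp (PolLaw.precomp F.law (piB A B).toLinearMap) (y' ∘ₗ a) := by
    rw [e, e, ← LinearMap.comp_assoc, hy', ← hu]
  rw [lin_lmap_eq _ g hg ι (y' ∘ₗ a) hcomp x' (mem_span_coeff_of_mem_TS x' hx'), lmap_comp,
    LinearMap.comp_apply]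
  have h2 : lmap a x' = 0 := hk x' (List.mem_singleton_self _)
  rw [h2, map_zero, map_zero]

theorem exists_lin_of_flat [Module.Flat A B] {C' : Type u} [CommRing C'] [Algebra A C']
    (F : PolLaw.MulLaw A B C' d) :
    ∃ g : SymTen.TS A B d →ₗ[A] C', PolLaw.postcomp g (tauTS A B d).law = F.law := by
  have e : Basis (B →₀ ℕ) A (MvPolynomial B A) := MvPolynomial.basisMonomials B A
  obtain ⟨gP, hgP⟩ : ∃ gP : (⨂[A] _ : Fin d, MvPolynomial B A) →ₗ[A] C',
      PolLaw.postcomp gP (SymTen.tpowLaw A (MvPolynomial B A) d).law =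
        PolLaw.precomp F.law (piB A B).toLinearMap :=
    ⟨ftil (d := d) e (PolLaw.precomp F.law (piB A B).toLinearMap),
      postcomp_ftil e _ (F.precomp (piB A B)).homog⟩
  obtain ⟨Θ, hΘ⟩ : ∃ Θ : SymTen.TS A (MvPolynomial B A) d →ₗ[A] SymTen.TS A B d,
      Θ = (SymTen.TSmap A d (piB A B)).toLinearMap := ⟨_, rfl⟩
  have hΘs : Function.Surjective Θ := by rw [hΘ]; exact TSmap_surjective
  obtain ⟨K, hK⟩ : ∃ K : SymTen.TS A (MvPolynomial B A) d →ₗ[A] C',
      K = gP ∘ₗ (SymTen.TS A (MvPolynomial B A) d).val.toLinearMap := ⟨_, rfl⟩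
  have hker : LinearMap.ker Θ ≤ LinearMap.ker K := by
    intro x hx
    rw [LinearMap.mem_ker] at hx ⊢
    rw [hK, LinearMap.comp_apply]
    apply lin_ker F gP hgP _ x.2
    have := congrArg Subtype.val hx
    rw [hΘ] at this
    exact this
  obtain ⟨g, hg⟩ : ∃ g : SymTen.TS A B d →ₗ[A] C', ∀ x, g (Θ x) = K x := by
    refine ⟨(Submodule.liftQ (LinearMap.ker Θ) K hker) ∘ₗ
      (Θ.quotKerEquivOfSurjective hΘs).symm.toLinearMap, fun x => ?_⟩
    rw [LinearMap.comp_apply, LinearEquiv.coe_coe]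
    have : (Θ.quotKerEquivOfSurjective hΘs).symm (Θ x) = Submodule.Quotient.mk x := by
      rw [LinearEquiv.symm_apply_eq]
      rfl
    rw [this, Submodule.liftQ_apply]
  refine ⟨g, ?_⟩
  apply law_ext_mvPoly
  intro n z
  obtain ⟨z', rfl⟩ := LinearMap.lTensor_surjective (MvPolynomial (Fin n) A)
    (g := (piB A B).toLinearMap) piB_surj z
  show g.lTensor _ ((tauTS A B d).law.toFun' _ ((piB A B).toLinearMap.lTensor _ z')) =
    F.law.toFun' _ ((piB A B).toLinearMap.lTensor _ z')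
  have step1 : (tauTS A B d).law.toFun' _ ((piB A B).toLinearMap.lTensor _ z') =
      Θ.lTensor _ ((tauTS A (MvPolynomial B A) d).law.toFun' (MvPolynomial (Fin n) A) z') := by
    apply hinjTS' n
    rw [val_tauTS, lT_lT]
    have h3 : (SymTen.TS A B d).val.toLinearMap ∘ₗ Θ =
        (SymTen.tmap A d (piB A B)).toLinearMap ∘ₗ
          (SymTen.TS A (MvPolynomial B A) d).val.toLinearMap := by
      rw [hΘ]; rfl
    rw [h3, ← lT_lT, val_tauTS, tmap_tpow]
  rw [step1, lT_lT]
  have h4 : g ∘ₗ Θ = K := LinearMap.ext hg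
  rw [h4, hK, ← lT_lT, val_tauTS]
  exact congrArg (fun L : MvPolynomial B A →ₚₗ[A] C' => L.toFun' (MvPolynomial (Fin n) A) z') hgP

end flat

section main

variable {A B : Type u} [CommRing A] [CommRing B] [Algebra A B]

theorem isGammaD_tauTS (d : ℕ) (h : Module.Flat A B ∨ IsUnit ((d.factorial : ℕ) : A)) :
    PolLaw.IsGammaD (tauTS A B d) := by
  rcases h with h | h
  · exact isGammaD_of_span _ span_coeff_of_flat (fun C' _ _ F => exists_lin_of_flat F)
  · exact isGammaD_of_span _ (span_coeff_of_factorial h) (fun C' _ _ F => exists_lin_of_factorial h F)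

theorem main13873 (d : ℕ) (h : Module.Flat A B ∨ IsUnit ((d.factorial : ℕ) : A)) :
    ∃ τ : PolLaw.MulLaw A B (SymTen.TS A B d) d,
      (∀ (S : Type u) [CommSemiring S] [Algebra A S] (n : ℕ) (s : Fin n → S) (b : Fin n → B),
        (SymTen.TS A B d).val.toLinearMap.lTensor S (τ.law.toFun' S (∑ j, s j ⊗ₜ[A] b j)) =
          ∑ c : Fin d → Fin n, (∏ i, s (c i)) ⊗ₜ[A] PiTensorProduct.tprod A (fun i => b (c i))) ∧
      PolLaw.IsGammaD τ := by
  refine ⟨tauTS A B d, ?_, isGammaD_tauTS d h⟩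
  intro S _ _ n s b
  rw [val_tauTS, tpow_fin_sum]

end main

end Groth.Agent.Lib.FlatTSH1
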