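import Mathlib
import Groth.Prelude.Def_PolLaw
import Groth.Agent.Lib.GammaSpan_helper1

/-!
# Base change of a polynomial law with values in an algebra `K` to a law over `K` (helper1)

For an `A`-algebra `K` and a polynomial law `G : B → K` over `A` we construct the `K`-law
`K ⊗[A] B → K` whose member over a `K`-algebra `R` is `R ⊗[K] (K ⊗[A] B) = R ⊗[A] B → R ⊗[A] K → R`.
-/

set_option autoImplicit false
universe u
open scoped TensorProduct

namespace Groth.Agent.Lib.LawBCH1

open Groth.Agent.Lib.GammaSpanH1 Groth.Agent.Lib.PolLawKerH1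

variable {A : Type u} [CommRing A] {K : Type u} [CommRing K] [Algebra A K] {B : Type u} [CommRing B]
  [Algebra A B]

section good

variable (R₀ : Type u) [CommSemiring R₀] [Algebra A R₀] [Algebra K R₀] [IsScalarTower A K R₀]

variable (A K) in
/-- the multiplication map `R₀ ⊗[A] K → R₀` -/
noncomputable def mu : R₀ ⊗[A] K →ₐ[A] R₀ :=
  Algebra.TensorProduct.lift (AlgHom.id A R₀) (IsScalarTower.toAlgHom A K R₀)
    (fun _ _ => Commute.all _ _)

theorem mu_tmul (r : R₀) (k : K) : mu A K R₀ (r ⊗ₜ[A] k) = r * algebraMap K R₀ k := by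
  simp [mu]

theorem mu_smul (s : R₀) (w : R₀ ⊗[A] K) : mu A K R₀ (s • w) = s * mu A K R₀ w := by
  induction w using TensorProduct.induction_on with
  | zero => simp
  | tmul r k => rw [TensorProduct.smul_tmul', mu_tmul, mu_tmul, smul_eq_mul, mul_assoc]
  | add a b ha hb => rw [smul_add, map_add, ha, hb, map_add, mul_add]

variable (A K B) in
/-- cancelling the base change -/
noncomputable def cbc : R₀ ⊗[K] (K ⊗[A] B) ≃ₐ[R₀] R₀ ⊗[A] B :=
  Algebra.TensorProduct.cancelBaseChange A K R₀ R₀ B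

/-- the member of the base-changed law -/
noncomputable def bcFun (G : B →ₚₗ[A] K) (x : R₀ ⊗[K] (K ⊗[A] B)) : R₀ ⊗[K] K :=
  (mu A K R₀ (G.toFun' R₀ (cbc A K B R₀ x))) ⊗ₜ[K] (1 : K)

theorem bcFun_compat (G : B →ₚₗ[A] K) {R₁ : Type u} [CommSemiring R₁] [Algebra A R₁]
    [Algebra K R₁] [IsScalarTower A K R₁] (φ : R₀ →ₐ[K] R₁) (x : R₀ ⊗[K] (K ⊗[A] B)) :
    φ.toLinearMap.rTensor K (bcFun R₀ G x) =
      bcFun R₁ G (φ.toLinearMap.rTensor (K ⊗[A] B) x) := by
  obtain ⟨φA, hφA⟩ : ∃ φA : R₀ →ₐ[A] R₁, ∀ r, φA r = φ r :=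
    ⟨φ.restrictScalars A, fun _ => rfl⟩
  have h1 : cbc A K B R₁ (φ.toLinearMap.rTensor (K ⊗[A] B) x) =
      φA.toLinearMap.rTensor B (cbc A K B R₀ x) := by
    induction x using TensorProduct.induction_on with
    | zero => simp
    | tmul r y =>
      induction y using TensorProduct.induction_on with
      | zero => simp
      | tmul k b => simp [cbc, hφA]
      | add y y' hy hy' =>
        rw [TensorProduct.tmul_add, map_add, map_add, hy, hy', map_add, map_add]
    | add x x' hx hx' => simp only [map_add, hx, hx']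
  have h3 : ∀ w : R₀ ⊗[A] K, mu A K R₁ (φA.toLinearMap.rTensor K w) = φ (mu A K R₀ w) := by
    intro w
    induction w using TensorProduct.induction_on with
    | zero => simp
    | tmul r k => simp [mu_tmul, hφA]
    | add a b ha hb => simp only [map_add, ha, hb]
  rw [bcFun, bcFun, h1, ← PolynomialLaw.isCompat_apply', h3, LinearMap.rTensor_tmul]
  rfl

theorem bcFun_homog {d : ℕ} (G : B →ₚₗ[A] K) (hG : PolLaw.IsHomog G d) (r : R₀)
    (x : R₀ ⊗[K] (K ⊗[A] B)) : bcFun R₀ G (r • x) = r ^ d • bcFun R₀ G x := by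
  rw [bcFun, bcFun, map_smul, hG, mu_smul, TensorProduct.smul_tmul', smul_eq_mul]

theorem bcFun_one (G : B →ₚₗ[A] K) (h1 : G.toFun' R₀ 1 = 1) : bcFun R₀ G 1 = 1 := by
  rw [bcFun, map_one, h1, map_one]
  rfl

theorem bcFun_mul (G : B →ₚₗ[A] K)
    (hm : ∀ x y : R₀ ⊗[A] B, G.toFun' R₀ (x * y) = G.toFun' R₀ x * G.toFun' R₀ y)
    (x y : R₀ ⊗[K] (K ⊗[A] B)) : bcFun R₀ G (x * y) = bcFun R₀ G x * bcFun R₀ G y := by
  rw [bcFun, bcFun, bcFun, map_mul, hm, map_mul, Algebra.TensorProduct.tmul_mul_tmul, mul_one]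

end good

/-- the base change of a law with values in `K` to a law over `K` -/
noncomputable def bcLaw (G : B →ₚₗ[A] K) : (K ⊗[A] B) →ₚₗ[K] K where
  toFun' R _ _ :=
    letI : Algebra A R := Algebra.compHom R (algebraMap A K)
    haveI : IsScalarTower A K R := IsScalarTower.of_algebraMap_eq (fun _ => rfl)
    bcFun R G
  isCompat' {R} _ _ {R'} _ _ φ := by
    letI : Algebra A R := Algebra.compHom R (algebraMap A K)
    haveI : IsScalarTower A K R := IsScalarTower.of_algebraMap_eq (fun _ => rfl)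
    letI : Algebra A R' := Algebra.compHom R' (algebraMap A K)
    haveI : IsScalarTower A K R' := IsScalarTower.of_algebraMap_eq (fun _ => rfl)
    funext x
    exact bcFun_compat R G φ x

theorem bcLaw_toFun' (G : B →ₚₗ[A] K) (R₀ : Type u) [CommSemiring R₀] [iA : Algebra A R₀]
    [Algebra K R₀] [IsScalarTower A K R₀] (x : R₀ ⊗[K] (K ⊗[A] B)) :
    (bcLaw G).toFun' R₀ x = bcFun R₀ G x := by
  obtain rfl : iA = Algebra.compHom R₀ (algebraMap A K) :=
    Algebra.algebra_ext _ _ (fun a => IsScalarTower.algebraMap_apply A K R₀ a)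
  rfl

/-- the base change of a multiplicative law -/
noncomputable def bcMul {d : ℕ} (G : PolLaw.MulLaw A B K d) : PolLaw.MulLaw K (K ⊗[A] B) K d where
  law := bcLaw G.law
  homog R _ _ r x := by
    letI : Algebra A R := Algebra.compHom R (algebraMap A K)
    haveI : IsScalarTower A K R := IsScalarTower.of_algebraMap_eq (fun _ => rfl)
    rw [bcLaw_toFun', bcLaw_toFun']
    exact bcFun_homog R G.law G.homog r x
  mult R _ _ := by
    letI : Algebra A R := Algebra.compHom R (algebraMap A K)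
    haveI : IsScalarTower A K R := IsScalarTower.of_algebraMap_eq (fun _ => rfl)
    refine ⟨?_, fun x y => ?_⟩
    · rw [bcLaw_toFun']
      exact bcFun_one R G.law (G.mult R).1
    · rw [bcLaw_toFun', bcLaw_toFun', bcLaw_toFun']
      exact bcFun_mul R G.law (G.mult R).2 x y

section eval

variable (S : Type u) [CommSemiring S] [Algebra A S]

variable (K B) in
/-- the comparison map `S ⊗[A] B → (K ⊗[A] S) ⊗[K] (K ⊗[A] B)` -/
noncomputable def beta (z : S ⊗[A] B) : (K ⊗[A] S) ⊗[K] (K ⊗[A] B) :=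
  (cbc A K B (K ⊗[A] S)).symm
    ((Algebra.TensorProduct.includeRight : S →ₐ[A] K ⊗[A] S).toLinearMap.rTensor B z)

theorem beta_add (z z' : S ⊗[A] B) : beta K B S (z + z') = beta K B S z + beta K B S z' := by
  rw [beta, map_add, map_add]
  rfl

theorem beta_zero : beta K B S (0 : S ⊗[A] B) = 0 := by
  rw [beta, map_zero, map_zero]

theorem beta_tmul (s : S) (b : B) :
    beta K B S (s ⊗ₜ[A] b) = ((1 : K) ⊗ₜ[A] s) ⊗ₜ[K] ((1 : K) ⊗ₜ[A] b) := by
  rw [beta, LinearMap.rTensor_tmul]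
  exact Algebra.TensorProduct.cancelBaseChange_symm_tmul A K (K ⊗[A] S) (K ⊗[A] S) B _ _

theorem beta_sum {ι : Type*} (t : Finset ι) (z : ι → S ⊗[A] B) :
    beta K B S (∑ i ∈ t, z i) = ∑ i ∈ t, beta K B S (z i) := by
  classical
  induction t using Finset.induction_on with
  | empty => simp [beta_zero]
  | insert i t hi ih => rw [Finset.sum_insert hi, Finset.sum_insert hi, beta_add, ih]

theorem bcLaw_beta (G : B →ₚₗ[A] K) (z : S ⊗[A] B) :
    (bcLaw G).toFun' (K ⊗[A] S) (beta K B S z) =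
      (mu A K (K ⊗[A] S) ((Algebra.TensorProduct.includeRight :
        S →ₐ[A] K ⊗[A] S).toLinearMap.rTensor K (G.toFun' S z))) ⊗ₜ[K] (1 : K) := by
  rw [bcLaw_toFun', bcFun, beta, AlgEquiv.apply_symm_apply, ← PolynomialLaw.isCompat_apply']

/-- the base change of a linear form -/
noncomputable def ellK (ℓ : S →ₗ[A] A) : K ⊗[A] S →ₗ[K] K :=
  (TensorProduct.AlgebraTensorModule.rid A K K).toLinearMap ∘ₗ (ℓ.baseChange K)

theorem ellK_tmul (ℓ : S →ₗ[A] A) (k : K) (s : S) : ellK S ℓ (k ⊗ₜ[A] s) = ℓ s • k := by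
  simp [ellK]

theorem ellK_mu (ℓ : S →ₗ[A] A) (w : S ⊗[A] K) :
    ellK S ℓ (mu A K (K ⊗[A] S) ((Algebra.TensorProduct.includeRight :
      S →ₐ[A] K ⊗[A] S).toLinearMap.rTensor K w)) = ev K ℓ w := by
  induction w using TensorProduct.induction_on with
  | zero => simp
  | tmul s k =>
    rw [LinearMap.rTensor_tmul, mu_tmul, ev_tmul, Algebra.TensorProduct.algebraMap_apply,
      AlgHom.toLinearMap_apply, Algebra.TensorProduct.includeRight_apply,
      Algebra.TensorProduct.tmul_mul_tmul, one_mul, mul_one, ellK_tmul]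
    rfl
  | add a b ha hb => simp only [map_add, ha, hb]

end eval

end Groth.Agent.Lib.LawBCH1
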