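import Mathlib
import Groth.Prelude.Def_Flat
set_option autoImplicit false
universe u
open CategoryTheory CategoryTheory.Limits AlgebraicGeometry MorphismProperty

namespace Groth.Agent.Lib.UnivHomeo

/-- Universal homeomorphisms are the universally closed, universally injective, surjective
morphisms. -/
theorem isUnivHomeo_iff {X Y : Scheme.{u}} (f : X ⟶ Y) :
    FlatMor.IsUnivHomeo f ↔ UniversallyClosed f ∧ UniversallyInjective f ∧ Surjective f := by
  constructor
  · intro H
    refine ⟨?_, ?_, ?_⟩
    · rw [universallyClosed_eq]
      intro X' Y' i₁ i₂ f' h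
      exact (H _ _ _ h).isClosedMap
    · rw [universallyInjective_eq]
      intro X' Y' i₁ i₂ f' h
      exact (H _ _ _ h).injective
    · exact ⟨(H _ _ _ IsPullback.of_id_snd).surjective⟩
  · rintro ⟨h1, h2, h3⟩ X' Y' i₁ i₂ f' h
    haveI : UniversallyClosed f' := MorphismProperty.of_isPullback h.flip h1
    haveI : UniversallyInjective f' := MorphismProperty.of_isPullback h.flip h2
    haveI : Surjective f' := MorphismProperty.of_isPullback h.flip h3
    change IsHomeomorph f'
    rw [isHomeomorph_iff_continuous_isClosedMap_bijective]
    exact ⟨f'.continuous, f'.isClosedMap, f'.injective, f'.surjective⟩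

theorem universallyClosed_SpecMap_iff {R S : CommRingCat.{u}} (φ : R ⟶ S) :
    UniversallyClosed (Spec.map φ) ↔ φ.hom.IsIntegral := by
  rw [← IsIntegralHom.SpecMap_iff, IsIntegralHom.iff_universallyClosed_and_isAffineHom]
  exact ⟨fun h => ⟨h, inferInstance⟩, fun h => h.1⟩

/-- If `j` is surjective and `j ≫ f'` is universally injective, then so is `f'`. -/
theorem universallyInjective_of_comp_of_surjective {X X' Y : Scheme.{u}} (j : X ⟶ X')
    (f' : X' ⟶ Y) [Surjective j] [UniversallyInjective (j ≫ f')] : UniversallyInjective f' := by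
  rw [UniversallyInjective.iff_diagonal]
  have h1 : Surjective (pullback.diagonal (j ≫ f')) :=
    (UniversallyInjective.iff_diagonal _).mp inferInstance
  have h2 : Surjective (pullback.map (j ≫ f') (j ≫ f') f' f' j j (𝟙 Y)
      ((Category.comp_id _).trans rfl) ((Category.comp_id _).trans rfl)) :=
    MorphismProperty.pullbackMap (P := @Surjective) inferInstance inferInstance rfl rfl
  have h3 : j ≫ pullback.diagonal f' = pullback.diagonal (j ≫ f') ≫
      pullback.map (j ≫ f') (j ≫ f') f' f' j j (𝟙 Y) (by simp) (by simp) :=
    pullback.comp_diagonal j f'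
  have h4 : Surjective (j ≫ pullback.diagonal f') := by
    rw [h3]
    infer_instance
  exact Surjective.of_comp j (pullback.diagonal f')

/-- Trivial residue field extensions descend along a surjection of the source. -/
theorem residueFieldMap_surjective_of_comp {X X' Y : Scheme.{u}} (j : X ⟶ X')
    (f' : X' ⟶ Y) [Surjective j]
    (H : ∀ x : X, Function.Surjective ((j ≫ f').residueFieldMap x)) (x' : X') :
    Function.Surjective (f'.residueFieldMap x') := by
  obtain ⟨x, rfl⟩ := j.surjective x'
  have h1 := H x
  rw [Scheme.residueFieldMap_comp] at h1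
  have hinj : Function.Injective (j.residueFieldMap x) :=
    (j.residueFieldMap x).hom.injective
  intro b
  obtain ⟨a, ha⟩ := h1 (j.residueFieldMap x b)
  exact ⟨a, hinj ha⟩

end Groth.Agent.Lib.UnivHomeo
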