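import Mathlib
import Groth.Agent.Lib.UnivHomeo1_helper6
set_option autoImplicit false
universe u
open CategoryTheory CategoryTheory.Limits AlgebraicGeometry MorphismProperty

namespace Groth.Agent.Lib.UnivHomeo

/-- Universal injectivity of `Spec.map φ` from uniqueness of extensions of field-valued points. -/
theorem universallyInjective_SpecMap_of {A B : CommRingCat.{u}} (φ : A ⟶ B)
    (huniq : ∀ (K : Type u) [Field K] (ψ₁ ψ₂ : B →+* K),
      ψ₁.comp φ.hom = ψ₂.comp φ.hom → ψ₁ = ψ₂) :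
    UniversallyInjective (Spec.map φ) := by
  refine ((tfae_universallyInjective (Spec.map φ)).out 0 1).mpr ?_
  intro K _ g₁ g₂ hg
  dsimp only at hg
  obtain ⟨ψ₁, rfl⟩ : ∃ ψ, g₁ = Spec.map ψ := ⟨Spec.preimage g₁, (Spec.map_preimage g₁).symm⟩
  obtain ⟨ψ₂, rfl⟩ : ∃ ψ, g₂ = Spec.map ψ := ⟨Spec.preimage g₂, (Spec.map_preimage g₂).symm⟩
  rw [← Spec.map_comp, ← Spec.map_comp] at hg
  have h1 := Spec.map_injective hg
  have h2 : ψ₁.hom = ψ₂.hom := huniq K ψ₁.hom ψ₂.hom (by
    have := congrArg CommRingCat.Hom.hom h1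
    simpa using this)
  rw [CommRingCat.hom_ext h2]

/-- Surjectivity of `Spec.map φ` from existence of extensions of field-valued points after a field
extension. -/
theorem surjective_SpecMap_of {A B : CommRingCat.{u}} (φ : A ⟶ B)
    (hex : ∀ (K : Type u) [Field K] (χ : A →+* K), ∃ (L : Type u) (_ : Field L) (ι : K →+* L)
      (ψ : B →+* L), ψ.comp φ.hom = ι.comp χ) :
    Surjective (Spec.map φ) := by
  refine ⟨fun p => ?_⟩
  obtain ⟨L, _, ι, ψ, hψ⟩ := hex p.asIdeal.ResidueField (algebraMap A p.asIdeal.ResidueField)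
  refine ⟨⟨RingHom.ker ψ, RingHom.ker_isPrime ψ⟩, ?_⟩
  apply PrimeSpectrum.ext
  change Ideal.comap φ.hom (RingHom.ker ψ) = p.asIdeal
  rw [RingHom.comap_ker, hψ]
  ext a
  rw [RingHom.mem_ker, RingHom.comp_apply, map_eq_zero_iff ι ι.injective,
    Ideal.algebraMap_residueField_eq_zero]

theorem isUnivHomeo_SpecMap_of {A B : CommRingCat.{u}} (φ : A ⟶ B) (hint : φ.hom.IsIntegral)
    (huniq : ∀ (K : Type u) [Field K] (ψ₁ ψ₂ : B →+* K),
      ψ₁.comp φ.hom = ψ₂.comp φ.hom → ψ₁ = ψ₂)
    (hex : ∀ (K : Type u) [Field K] (χ : A →+* K), ∃ (L : Type u) (_ : Field L) (ι : K →+* L)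
      (ψ : B →+* L), ψ.comp φ.hom = ι.comp χ) :
    FlatMor.IsUnivHomeo (Spec.map φ) := by
  rw [isUnivHomeo_iff]
  exact ⟨(universallyClosed_SpecMap_iff φ).mpr hint, universallyInjective_SpecMap_of φ huniq,
    surjective_SpecMap_of φ hex⟩

/-- If a universally injective morphism admits a section over the residue field of `f x`, then the
residue field extension at `x` is trivial. -/
theorem residueFieldMap_surjective_of_section {X Y : Scheme.{u}} (f : X ⟶ Y)
    [UniversallyInjective f] (x : X) (s : Spec (Y.residueField (f x)) ⟶ X)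
    (hs : s ≫ f = Y.fromSpecResidueField (f x)) :
    Function.Surjective (f.residueFieldMap x) := by
  have h0 : UniversallyInjective f := inferInstance
  have hall : ∀ (K : Type u) [Field K], Function.Injective (fun g : Spec (.of K) ⟶ X ↦ g ≫ f) :=
    ((tfae_universallyInjective f).out 0 1).mp h0
  have hinj := hall ↑(X.residueField x)
  have h1 : X.fromSpecResidueField x = Spec.map (f.residueFieldMap x) ≫ s := by
    apply hinj
    dsimp only
    rw [Category.assoc, hs, Scheme.Hom.SpecMap_residueFieldMap_fromSpecResidueField]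
  -- decompose `s`
  obtain ⟨⟨x₀, σ⟩, hσ⟩ : ∃ p : Σ x₀, X.residueField x₀ ⟶ CommRingCat.of (Y.residueField (f x)),
      Spec.map p.2 ≫ X.fromSpecResidueField p.1 = s :=
    ⟨Scheme.SpecToEquivOfField _ X s, (Scheme.SpecToEquivOfField _ X).left_inv s⟩
  dsimp only at hσ
  rw [← hσ, ← Category.assoc, ← Spec.map_comp] at h1
  have h2 : (⟨x, 𝟙 _⟩ : Σ x₀, X.residueField x₀ ⟶ CommRingCat.of (X.residueField x)) =
      ⟨x₀, σ ≫ f.residueFieldMap x⟩ := by
    apply (Scheme.SpecToEquivOfField _ X).symm.injective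
    change Spec.map (𝟙 _) ≫ X.fromSpecResidueField x = _
    rw [Spec.map_id, Category.id_comp, h1]
    rfl
  obtain ⟨e, he⟩ := Scheme.SpecToEquivOfField_eq_iff.mp h2
  dsimp only at e he
  intro b
  have := congr($he b)
  refine ⟨σ ((X.residueFieldCongr e).hom b), ?_⟩
  simpa using this.symm


/-- Trivial residue field extensions for `Spec.map φ` from existence and uniqueness of extensions
of field-valued points. -/
theorem residueFieldMap_surjective_SpecMap_of {A B : CommRingCat.{u}} (φ : A ⟶ B)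
    (huniq : ∀ (K : Type u) [Field K] (ψ₁ ψ₂ : B →+* K),
      ψ₁.comp φ.hom = ψ₂.comp φ.hom → ψ₁ = ψ₂)
    (hex : ∀ (K : Type u) [Field K] (χ : A →+* K), ∃ ψ : B →+* K, ψ.comp φ.hom = χ)
    (q : Spec B) : Function.Surjective ((Spec.map φ).residueFieldMap q) := by
  haveI := universallyInjective_SpecMap_of φ huniq
  set p := (Spec.map φ) q with hp
  let χ' : A ⟶ (Spec A).residueField p :=
    CommRingCat.ofHom (algebraMap A p.asIdeal.ResidueField) ≫ (Scheme.Spec.residueFieldIso A p).inv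
  have hχ' : (Spec A).fromSpecResidueField p = Spec.map χ' := by
    rw [Spec.map_comp, Scheme.Spec.map_residueFieldIso_inv_eq_fromSpecResidueField]
  obtain ⟨ψ, hψ⟩ := hex ↑((Spec A).residueField p) χ'.hom
  refine residueFieldMap_surjective_of_section (Spec.map φ) q (Spec.map (CommRingCat.ofHom ψ)) ?_
  rw [← Spec.map_comp, hχ']
  congr 1
  ext a
  exact congr($hψ a)

section Poly
open Polynomial

theorem quotient_mk_eq_aeval {A : Type u} [CommRing A] (I : Ideal A[X]) (p : A[X]) :
    Ideal.Quotient.mk I p = Polynomial.aeval (Ideal.Quotient.mk I X) p := by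
  have : (Polynomial.aeval (Ideal.Quotient.mk I X) : A[X] →ₐ[A] A[X] ⧸ I) =
      Ideal.Quotient.mkₐ A I := Polynomial.algHom_ext (by simp)
  rw [this]
  rfl

/-- A quotient of `A[X]` by an ideal containing a monic polynomial is integral over `A`. -/
theorem isIntegral_algebraMap_quotient {A : Type u} [CommRing A] (I : Ideal A[X]) (m : A[X])
    (hm : m.Monic) (hmI : m ∈ I) : (algebraMap A (A[X] ⧸ I)).IsIntegral := by
  have ht : IsIntegral A (Ideal.Quotient.mk I X) := by
    refine ⟨m, hm, ?_⟩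
    rw [← Polynomial.aeval_def, ← quotient_mk_eq_aeval]
    exact Ideal.Quotient.eq_zero_iff_mem.mpr hmI
  intro b
  obtain ⟨p, rfl⟩ := Ideal.Quotient.mk_surjective b
  rw [quotient_mk_eq_aeval]
  exact IsIntegral.of_mem_of_fg _ (IsIntegral.fg_adjoin_singleton ht) _
    (Polynomial.aeval_mem_adjoin_singleton _ _)

theorem quotient_ringHom_ext {A K : Type u} [CommRing A] [CommRing K] (I : Ideal A[X])
    (ψ₁ ψ₂ : A[X] ⧸ I →+* K)
    (h1 : ψ₁.comp (algebraMap A (A[X] ⧸ I)) = ψ₂.comp (algebraMap A (A[X] ⧸ I)))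
    (h2 : ψ₁ (Ideal.Quotient.mk I X) = ψ₂ (Ideal.Quotient.mk I X)) : ψ₁ = ψ₂ := by
  apply Ideal.Quotient.ringHom_ext
  apply Polynomial.ringHom_ext
  · intro a
    exact congr($h1 a)
  · exact h2

theorem exists_quotient_ringHom {A K : Type u} [CommRing A] [CommRing K] (S : Set A[X])
    (χ : A →+* K) (τ : K) (hS : ∀ g ∈ S, Polynomial.eval₂ χ τ g = 0) :
    ∃ ψ : A[X] ⧸ Ideal.span S →+* K,
      ψ.comp (algebraMap A (A[X] ⧸ Ideal.span S)) = χ ∧
        ψ (Ideal.Quotient.mk (Ideal.span S) X) = τ := by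
  have hle : Ideal.span S ≤ RingHom.ker (Polynomial.eval₂RingHom χ τ) := by
    rw [Ideal.span_le]
    intro g hg
    exact hS g hg
  refine ⟨Ideal.Quotient.lift (Ideal.span S) (Polynomial.eval₂RingHom χ τ)
    (fun a ha => hle ha), ?_, ?_⟩
  · ext a
    change Ideal.Quotient.lift (Ideal.span S) (Polynomial.eval₂RingHom χ τ) (fun a ha => hle ha)
      (Ideal.Quotient.mk _ (C a)) = χ a
    rw [Ideal.Quotient.lift_mk]
    simp
  · rw [Ideal.Quotient.lift_mk]
    simp

end Poly

end Groth.Agent.Lib.UnivHomeo
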