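import Mathlib
import Groth.Prelude.Def_PolLaw2
import Groth.Prelude.Def_SymTen
import Groth.Prelude.Def_Flat
import Groth.Agent.Lib.SymNorm_helper1
import Groth.Agent.Lib.LawBC_helper1
import Groth.Agent.Lib.UnivHomeo2_helper6

/-!
# `Spec TS^d(B) → Spec Γ^d(B)` is a universal homeomorphism with trivial residue extensions (helper1)
-/

set_option autoImplicit false
universe u
open scoped TensorProduct
open Module

namespace Groth.Agent.Lib.SymBCH1

open Groth.Agent.Lib.GammaSpanH1 Groth.Agent.Lib.FreeCoefH1 Groth.Agent.Lib.FreeFactH1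
open Groth.Agent.Lib.PolLawKerH1 Groth.Agent.Lib.PolLawSurjH1 Groth.Agent.Lib.SymNormH1
open Groth.Agent.Lib.LawBCH1
open Classical

section JJ

variable (A : Type u) [CommRing A] (K : Type u) [CommRing K] [Algebra A K] (B : Type u) [CommRing B]
  [Algebra A B] (d : ℕ)

/-- the comparison map of tensor powers under base change -/
noncomputable def JJ : (⨂[A] _ : Fin d, B) →ₗ[A] (⨂[K] _ : Fin d, K ⊗[A] B) :=
  PiTensorProduct.lift (((PiTensorProduct.tprod K).restrictScalars A).compLinearMap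
    (fun _ => (TensorProduct.mk A K B 1)))

theorem JJ_tprod (b : Fin d → B) :
    JJ A K B d (PiTensorProduct.tprod A b) =
      PiTensorProduct.tprod K (fun i => (1 : K) ⊗ₜ[A] b i) := by
  rw [JJ, PiTensorProduct.lift.tprod]
  rfl

theorem JJ_one : JJ A K B d 1 = 1 := by
  rw [PiTensorProduct.one_def, JJ_tprod]
  rfl

theorem JJ_mul (x y : ⨂[A] _ : Fin d, B) :
    JJ A K B d (x * y) = JJ A K B d x * JJ A K B d y := by
  induction x using PiTensorProduct.induction_on with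
  | smul_tprod r a =>
    induction y using PiTensorProduct.induction_on with
    | smul_tprod r' b =>
      rw [PiTensorProduct.smul_tprod_mul_smul_tprod, map_smul, map_smul, map_smul,
        JJ_tprod, JJ_tprod, JJ_tprod, ← algebraMap_smul K r, ← algebraMap_smul K r',
        ← algebraMap_smul K (r * r'), PiTensorProduct.smul_tprod_mul_smul_tprod, map_mul]
      congr 2
      funext i
      simp [Algebra.TensorProduct.tmul_mul_tmul]
    | add y y' hy hy' => rw [mul_add, map_add, map_add, mul_add, hy, hy']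
  | add x x' hx hx' => rw [add_mul, map_add, map_add, add_mul, hx, hx']

theorem JJ_reindex (σ : Equiv.Perm (Fin d)) (t : ⨂[A] _ : Fin d, B) :
    PiTensorProduct.reindex K (fun _ : Fin d => K ⊗[A] B) σ (JJ A K B d t) =
      JJ A K B d (PiTensorProduct.reindex A (fun _ : Fin d => B) σ t) := by
  induction t using PiTensorProduct.induction_on with
  | smul_tprod r b =>
    have hL : JJ A K B d (r • PiTensorProduct.tprod A b) =
        algebraMap A K r • PiTensorProduct.tprod K (fun i => (1 : K) ⊗ₜ[A] b i) := by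
      rw [map_smul, JJ_tprod, algebraMap_smul]
    have hR : PiTensorProduct.reindex A (fun _ : Fin d => B) σ (r • PiTensorProduct.tprod A b) =
        r • PiTensorProduct.tprod A (fun i => b (σ.symm i)) := by
      rw [map_smul, PiTensorProduct.reindex_tprod]
    rw [hL, hR, map_smul, PiTensorProduct.reindex_tprod, map_smul, JJ_tprod, algebraMap_smul]
  | add x y hx hy => simp only [map_add, hx, hy]

/-- the comparison map on symmetric tensors, with values in `WW` -/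
noncomputable def jjHom {I : Type u} (e : Basis I K (K ⊗[A] B)) :
    SymTen.TS A B d →+* WW K (K ⊗[A] B) d where
  toFun t := ⟨JJ A K B d t.1, TS_le_WW e (fun σ => by rw [JJ_reindex, t.2 σ])⟩
  map_one' := Subtype.ext (JJ_one A K B d)
  map_mul' x y := Subtype.ext (JJ_mul A K B d x.1 y.1)
  map_zero' := Subtype.ext (map_zero _)
  map_add' x y := Subtype.ext (map_add _ _ _)

theorem jjHom_val {I : Type u} (e : Basis I K (K ⊗[A] B)) (t : SymTen.TS A B d) :
    ((jjHom A K B d e t : WW K (K ⊗[A] B) d) : ⨂[K] _ : Fin d, K ⊗[A] B) = JJ A K B d t.1 := rfl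

theorem JJ_ev_tpow (S : Type u) [CommRing S] [Algebra A S] (ℓ : S →ₗ[A] A) (z : S ⊗[A] B) :
    JJ A K B d (ev (⨂[A] _ : Fin d, B) ℓ ((SymTen.tpowLaw A B d).law.toFun' S z)) =
      ev (⨂[K] _ : Fin d, K ⊗[A] B) (ellK S ℓ)
        ((SymTen.tpowLaw K (K ⊗[A] B) d).law.toFun' (K ⊗[A] S) (beta K B S z)) := by
  obtain ⟨n, s, b, rfl⟩ := Groth.Agent.Lib.PolarH1.exists_fin_sum z
  rw [tpow_fin_sum, beta_sum]
  simp only [beta_tmul]
  rw [tpow_fin_sum, map_sum, map_sum, map_sum]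
  refine Finset.sum_congr rfl fun c _ => ?_
  rw [ev_tmul, ev_tmul, map_smul, JJ_tprod, prod_tmul, Finset.prod_const_one, ellK_tmul,
    smul_assoc, one_smul]

end JJ

section PE

variable {A B C : Type u} [CommRing A] [CommRing B] [Algebra A B] [CommRing C] [Algebra A C]
  (d : ℕ) (γ : PolLaw.MulLaw A B C d) (φ : C →ₐ[A] SymTen.TS A B d)
  (hφ : ∀ (S : Type u) [CommSemiring S] [Algebra A S] (n : ℕ) (s : Fin n → S) (b : Fin n → B),
      ((SymTen.TS A B d).val.comp φ).toLinearMap.lTensor S (γ.law.toFun' S (∑ j, s j ⊗ₜ[A] b j)) =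
        ∑ c : Fin d → Fin n, (∏ i, s (c i)) ⊗ₜ[A] PiTensorProduct.tprod A (fun i => b (c i)))

set_option maxHeartbeats 1600000 in
include hφ in
theorem PE_main (hγ : PolLaw.IsGammaD γ) (K : Type u) [Field K] (χ : C →+* K) :
    ∃ ψ : SymTen.TS A B d →+* K, ψ.comp φ.toRingHom = χ := by
  let _ : Algebra A K := (χ.comp (algebraMap A C)).toAlgebra
  obtain ⟨χA, hχA⟩ : ∃ χA : C →ₐ[A] K, ∀ c, χA c = χ c :=
    ⟨{ χ with commutes' := fun a => rfl }, fun _ => rfl⟩
  obtain ⟨G, hG⟩ : ∃ G : PolLaw.MulLaw A B K d, G = PolLaw.MulLaw.postcomp χA γ := ⟨_, rfl⟩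
  obtain ⟨GK, hGK⟩ : ∃ GK : PolLaw.MulLaw K (K ⊗[A] B) K d, GK = bcMul G := ⟨_, rfl⟩
  obtain ⟨e, -⟩ : ∃ e : Basis (Module.Free.ChooseBasisIndex K (K ⊗[A] B)) K (K ⊗[A] B), True :=
    ⟨Module.Free.chooseBasis K _, trivial⟩
  obtain ⟨fK, hfK⟩ := exists_factor e GK
  refine ⟨fK.toRingHom.comp (jjHom A K B d e), ?_⟩
  have key : ∀ c : C, fK (jjHom A K B d e (φ c)) = χ c := by
    intro c
    have hc : c ∈ Submodule.span A (coeffSetOn γ ⊤) := by
      rw [span_coeffSet_eq_top γ hγ]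
      exact Submodule.mem_top
    induction hc using Submodule.span_induction with
    | mem c hc =>
      obtain ⟨S, _, _, z, ℓ, -, rfl⟩ := hc
      have e1 : χ (ev C ℓ (γ.law.toFun' S z)) = ev K ℓ (G.law.toFun' S z) := by
        rw [← hχA, ← AlgHom.toLinearMap_apply, ← ev_lTensor, hG]
        rfl
      have e2 : jjHom A K B d e (φ (ev C ℓ (γ.law.toFun' S z))) =
          ev (WW K (K ⊗[A] B) d) (ellK S ℓ)
            ((tauW K (K ⊗[A] B) d).law.toFun' (K ⊗[A] S) (beta K B S z)) := by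
        apply Subtype.ext
        rw [jjHom_val, coeff_tauW, ← JJ_ev_tpow, ← phi_gamma d γ φ hφ, ev_lTensor]
        rfl
      have e3 : fK.toLinearMap.lTensor (K ⊗[A] S)
          ((tauW K (K ⊗[A] B) d).law.toFun' (K ⊗[A] S) (beta K B S z)) =
          GK.law.toFun' (K ⊗[A] S) (beta K B S z) :=
        congrArg (fun L : (K ⊗[A] B) →ₚₗ[K] K => L.toFun' (K ⊗[A] S) (beta K B S z)) hfK
      have e4 : GK.law.toFun' (K ⊗[A] S) (beta K B S z) =
          (mu A K (K ⊗[A] S) ((Algebra.TensorProduct.includeRight :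
            S →ₐ[A] K ⊗[A] S).toLinearMap.rTensor K (G.law.toFun' S z))) ⊗ₜ[K] (1 : K) := by
        rw [hGK]
        exact bcLaw_beta S G.law z
      rw [e2, e1, ← AlgHom.toLinearMap_apply, ← ev_lTensor, e3, e4, ev_tmul, ellK_mu, smul_eq_mul,
        mul_one]
    | zero => simp
    | add x y _ _ hx hy => simp only [map_add, hx, hy]
    | smul a x _ hx =>
      have h1 : jjHom A K B d e (φ (a • x)) = (algebraMap A K a) • jjHom A K B d e (φ x) := by
        apply Subtype.ext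
        rw [map_smul]
        show JJ A K B d (a • (φ x).1) = (algebraMap A K a) • JJ A K B d (φ x).1
        rw [map_smul, algebraMap_smul]
      rw [h1, map_smul, hx, smul_eq_mul, Algebra.smul_def a x, map_mul]
      rfl
  exact RingHom.ext key

end PE


section final

open AlgebraicGeometry CategoryTheory

variable {A B C : Type u} [CommRing A] [CommRing B] [Algebra A B] [CommRing C] [Algebra A C]
  (d : ℕ) (γ : PolLaw.MulLaw A B C d) (φ : C →ₐ[A] SymTen.TS A B d)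
  (hφ : ∀ (S : Type u) [CommSemiring S] [Algebra A S] (n : ℕ) (s : Fin n → S) (b : Fin n → B),
      ((SymTen.TS A B d).val.comp φ).toLinearMap.lTensor S (γ.law.toFun' S (∑ j, s j ⊗ₜ[A] b j)) =
        ∑ c : Fin d → Fin n, (∏ i, s (c i)) ⊗ₜ[A] PiTensorProduct.tprod A (fun i => b (c i)))

include hφ in
theorem isIntegral_phi (hγ : PolLaw.IsGammaD γ) : φ.toRingHom.IsIntegral := by
  intro y
  obtain ⟨c, hc⟩ := (main13398 d γ φ hφ hγ).2 y
  refine ⟨Polynomial.X ^ d.factorial - Polynomial.C c,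
    Polynomial.monic_X_pow_sub_C c (Nat.factorial_ne_zero d), ?_⟩
  rw [Polynomial.eval₂_sub, Polynomial.eval₂_pow, Polynomial.eval₂_X, Polynomial.eval₂_C]
  have hc' : φ c = y ^ d.factorial := hc
  show y ^ d.factorial - φ c = 0
  rw [hc', sub_self]

include hφ in
theorem PU_main (hγ : PolLaw.IsGammaD γ) (K : Type u) [Field K]
    (ψ₁ ψ₂ : SymTen.TS A B d →+* K) (h : ψ₁.comp φ.toRingHom = ψ₂.comp φ.toRingHom) :
    ψ₁ = ψ₂ := by
  obtain ⟨F, hF1, -⟩ := main13397 d γ φ hφ hγ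
  let _ : Algebra A K := (ψ₁.comp (algebraMap A (SymTen.TS A B d))).toAlgebra
  have hφc : ∀ c : C, ψ₁ (φ c) = ψ₂ (φ c) := fun c => RingHom.congr_fun h c
  obtain ⟨ψ₁A, hψ₁A⟩ : ∃ ψ₁A : SymTen.TS A B d →ₐ[A] K, ∀ t, ψ₁A t = ψ₁ t :=
    ⟨{ ψ₁ with commutes' := fun a => rfl }, fun _ => rfl⟩
  obtain ⟨ψ₂A, hψ₂A⟩ : ∃ ψ₂A : SymTen.TS A B d →ₐ[A] K, ∀ t, ψ₂A t = ψ₂ t := by
    refine ⟨{ ψ₂ with commutes' := fun a => ?_ }, fun _ => rfl⟩
    show ψ₂ (algebraMap A (SymTen.TS A B d) a) = ψ₁ (algebraMap A (SymTen.TS A B d) a)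
    rw [← φ.commutes a]
    exact (hφc _).symm
  obtain ⟨Ψ₁, hΨ₁⟩ : ∃ Ψ₁ : K ⊗[A] SymTen.TS A B d →ₐ[A] K, ∀ k t, Ψ₁ (k ⊗ₜ[A] t) = k * ψ₁ t :=
    ⟨Algebra.TensorProduct.lift (AlgHom.id A K) ψ₁A (fun _ _ => Commute.all _ _), fun k t => by
      rw [Algebra.TensorProduct.lift_tmul, hψ₁A]
      rfl⟩
  obtain ⟨Ψ₂, hΨ₂⟩ : ∃ Ψ₂ : K ⊗[A] SymTen.TS A B d →ₐ[A] K, ∀ k t, Ψ₂ (k ⊗ₜ[A] t) = k * ψ₂ t :=
    ⟨Algebra.TensorProduct.lift (AlgHom.id A K) ψ₂A (fun _ _ => Commute.all _ _), fun k t => by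
      rw [Algebra.TensorProduct.lift_tmul, hψ₂A]
      rfl⟩
  have hΨ : ∀ w : K ⊗[A] C, Ψ₁ (φ.toLinearMap.lTensor K w) = Ψ₂ (φ.toLinearMap.lTensor K w) := by
    intro w
    induction w using TensorProduct.induction_on with
    | zero => simp
    | tmul k c => rw [LinearMap.lTensor_tmul, AlgHom.toLinearMap_apply, hΨ₁, hΨ₂, hφc]
    | add a b ha hb => simp only [map_add, ha, hb]
  apply RingHom.ext
  intro y₀
  obtain ⟨k, hk⟩ : ∃ k : K, k = ψ₁ y₀ := ⟨_, rfl⟩
  obtain ⟨y, hy⟩ : ∃ y : K ⊗[A] SymTen.TS A B d, y = k ⊗ₜ[A] 1 - 1 ⊗ₜ[A] y₀ := ⟨_, rfl⟩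
  have hpow : φ.toLinearMap.lTensor K (F.law.toFun' K y) = y ^ d.factorial :=
    congrArg (fun L : PolLaw.MulLaw A (SymTen.TS A B d) (SymTen.TS A B d) d.factorial =>
      L.law.toFun' K y) hF1
  have h1 : Ψ₁ y = k - ψ₁ y₀ := by
    rw [hy, map_sub, hΨ₁, hΨ₁, map_one, mul_one, one_mul]
  have h2 : Ψ₂ y = k - ψ₂ y₀ := by
    rw [hy, map_sub, hΨ₂, hΨ₂, map_one, mul_one, one_mul]
  have h3 : Ψ₁ (y ^ d.factorial) = Ψ₂ (y ^ d.factorial) := by
    rw [← hpow]
    exact hΨ _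
  rw [map_pow, map_pow, h1, h2, hk, sub_self, zero_pow (Nat.factorial_ne_zero d)] at h3
  have h4 := pow_eq_zero_iff (Nat.factorial_ne_zero d) |>.1 h3.symm
  exact sub_eq_zero.1 h4

include hφ in
theorem main13874 (hγ : PolLaw.IsGammaD γ) :
    FlatMor.IsUnivHomeo (Spec.map (CommRingCat.ofHom φ.toRingHom)) ∧
      ∀ x : ↥(Spec (CommRingCat.of (SymTen.TS A B d))),
        Function.Surjective ((Spec.map (CommRingCat.ofHom φ.toRingHom)).residueFieldMap x).hom := by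
  have hint : (CommRingCat.ofHom φ.toRingHom).hom.IsIntegral := isIntegral_phi d γ φ hφ hγ
  have huniq : ∀ (K : Type u) [Field K] (ψ₁ ψ₂ : SymTen.TS A B d →+* K),
      ψ₁.comp (CommRingCat.ofHom φ.toRingHom).hom = ψ₂.comp (CommRingCat.ofHom φ.toRingHom).hom →
        ψ₁ = ψ₂ := fun K _ ψ₁ ψ₂ h => PU_main d γ φ hφ hγ K ψ₁ ψ₂ h
  have hex : ∀ (K : Type u) [Field K] (χ : C →+* K),
      ∃ ψ : SymTen.TS A B d →+* K, ψ.comp (CommRingCat.ofHom φ.toRingHom).hom = χ :=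
    fun K _ χ => PE_main d γ φ hφ hγ K χ
  refine ⟨Groth.Agent.Lib.UnivHomeo.isUnivHomeo_SpecMap_of (CommRingCat.ofHom φ.toRingHom) hint
    huniq (fun K _ χ => ?_), fun x => ?_⟩
  · obtain ⟨ψ, hψ⟩ := hex K χ
    exact ⟨K, inferInstance, RingHom.id K, ψ, hψ.trans (RingHom.id_comp χ).symm⟩
  · exact Groth.Agent.Lib.UnivHomeo.residueFieldMap_surjective_SpecMap_of
      (CommRingCat.ofHom φ.toRingHom) huniq hex x

end final

end Groth.Agent.Lib.SymBCH1
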