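import Mathlib
import Groth.Prelude.Def_PolLaw2
import Groth.Prelude.Def_SymTen
import Groth.Agent.Lib.FlatTS_helper1
import Groth.Agent.Lib.SymBC_helper1

/-!
# `Γ^d_A(B)` is of finite type when `B` is (helper1)

Symmetric tensors of a polynomial ring over a noetherian ring are of finite type (Artin–Tate);
base change from `ℤ` via orbit sums; `Γ^d` of a quotient is a quotient.
-/

set_option autoImplicit false
universe u
open scoped TensorProduct
open Module

namespace Groth.Agent.Lib.GammaFTH1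

open Groth.Agent.Lib.GammaSpanH1 Groth.Agent.Lib.FreeCoefH1 Groth.Agent.Lib.FreeFactH1
open Groth.Agent.Lib.SymNormH1 Groth.Agent.Lib.PolarH1 Groth.Agent.Lib.FlatTSH1
open Groth.Agent.Lib.SymBCH1
open Classical

section noeth

variable (R : Type u) [CommRing R] (n d : ℕ)

theorem single_mem_adjoin (j : Fin d) (q : MvPolynomial (Fin n) R) :
    PiTensorProduct.singleAlgHom (R := R) (A := fun _ : Fin d => MvPolynomial (Fin n) R) j q ∈
      Algebra.adjoin R (Set.range (fun p : Fin d × Fin n =>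
        PiTensorProduct.singleAlgHom (R := R) (A := fun _ : Fin d => MvPolynomial (Fin n) R) p.1
          (MvPolynomial.X p.2))) := by
  have h : (⊤ : Subalgebra R (MvPolynomial (Fin n) R)) ≤
      (Algebra.adjoin R (Set.range (fun p : Fin d × Fin n =>
        PiTensorProduct.singleAlgHom (R := R) (A := fun _ : Fin d => MvPolynomial (Fin n) R) p.1
          (MvPolynomial.X p.2)))).comap
        (PiTensorProduct.singleAlgHom (R := R) (A := fun _ : Fin d => MvPolynomial (Fin n) R) j) := by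
    rw [← MvPolynomial.adjoin_range_X]
    apply Algebra.adjoin_le
    rintro _ ⟨i, rfl⟩
    exact Algebra.subset_adjoin ⟨(j, i), rfl⟩
  exact h Algebra.mem_top

theorem adjoin_single_eq_top :
    Algebra.adjoin R (Set.range (fun p : Fin d × Fin n =>
        PiTensorProduct.singleAlgHom (R := R) (A := fun _ : Fin d => MvPolynomial (Fin n) R) p.1
          (MvPolynomial.X p.2))) = ⊤ := by
  rw [eq_top_iff]
  rintro t -
  induction t using PiTensorProduct.induction_on with
  | smul_tprod r v =>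
    rw [← Groth.Agent.Lib.GammaDetH1.prod_single]
    exact Subalgebra.smul_mem _ (Subalgebra.prod_mem _ fun j _ => single_mem_adjoin R n d j (v j)) r
  | add x y hx hy => exact Subalgebra.add_mem _ hx hy

theorem fg_top_tensor : (⊤ : Subalgebra R (⨂[R] _ : Fin d, MvPolynomial (Fin n) R)).FG := by
  rw [← adjoin_single_eq_top R n d]
  exact Subalgebra.fg_def.2 ⟨_, Set.finite_range _, rfl⟩

theorem perm_one {B : Type u} [CommRing B] [Algebra R B] (t : ⨂[R] _ : Fin d, B) :
    SymTen.perm R B d 1 t = t := by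
  induction t using PiTensorProduct.induction_on with
  | smul_tprod r f =>
    rw [map_smul, SymTen.perm_tprod]
    rfl
  | add x y hx hy => simp only [map_add, hx, hy]

theorem isIntegral_TS {B : Type u} [CommRing B] [Algebra R B] (t : ⨂[R] _ : Fin d, B) :
    IsIntegral (SymTen.TS R B d) t := by
  rcases subsingleton_or_nontrivial (⨂[R] _ : Fin d, B) with hs | hn
  · rw [Subsingleton.elim t 0]
    exact isIntegral_zero
  obtain ⟨p, hp⟩ : ∃ p : Polynomial (⨂[R] _ : Fin d, B), p = ∏ σ : Equiv.Perm (Fin d),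
      (Polynomial.X - Polynomial.C (SymTen.perm R B d σ t)) := ⟨_, rfl⟩
  have hmonic : p.Monic := by
    rw [hp]
    exact Polynomial.monic_prod_of_monic _ _ (fun σ _ => Polynomial.monic_X_sub_C _)
  have hroot : p.eval t = 0 := by
    rw [hp, Polynomial.eval_prod]
    apply Finset.prod_eq_zero (Finset.mem_univ (1 : Equiv.Perm (Fin d)))
    rw [perm_one]
    simp
  have hinv : ∀ τ : Equiv.Perm (Fin d), p.map (SymTen.perm R B d τ).toRingHom = p := by
    intro τ
    rw [hp, Polynomial.map_prod]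
    simp only [Polynomial.map_sub, Polynomial.map_X, Polynomial.map_C]
    refine Fintype.prod_equiv (Equiv.mulLeft τ) _ _ (fun σ => ?_)
    have : (SymTen.perm R B d τ).toRingHom (SymTen.perm R B d σ t) =
        SymTen.perm R B d (τ * σ) t := perm_perm R B d τ σ t
    rw [this]
    rfl
  have hcoeff : ∀ k, p.coeff k ∈ SymTen.TS R B d := by
    intro k
    rw [SymTen.mem_TS_iff]
    intro σ
    rw [← SymTen.perm_apply]
    have h := congrArg (fun q : Polynomial (⨂[R] _ : Fin d, B) => q.coeff k) (hinv σ)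
    simpa [Polynomial.coeff_map] using h
  have hlift : p ∈ Polynomial.lifts (algebraMap (SymTen.TS R B d) (⨂[R] _ : Fin d, B)) := by
    rw [Polynomial.lifts_iff_coeff_lifts]
    intro k
    exact ⟨⟨p.coeff k, hcoeff k⟩, rfl⟩
  obtain ⟨q, hq, -, hqm⟩ := Polynomial.lifts_and_degree_eq_and_monic hlift hmonic
  refine ⟨q, hqm, ?_⟩
  rw [Polynomial.eval₂_eq_eval_map, hq]
  exact hroot

theorem fg_top_TS_mvPoly [IsNoetherianRing R] :
    (⊤ : Subalgebra R (SymTen.TS R (MvPolynomial (Fin n) R) d)).FG := by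
  haveI : Algebra.FiniteType R (⨂[R] _ : Fin d, MvPolynomial (Fin n) R) := ⟨fg_top_tensor R n d⟩
  haveI : Algebra.FiniteType (SymTen.TS R (MvPolynomial (Fin n) R) d)
      (⨂[R] _ : Fin d, MvPolynomial (Fin n) R) :=
    Algebra.FiniteType.of_restrictScalars_finiteType R _ _
  haveI : Algebra.IsIntegral (SymTen.TS R (MvPolynomial (Fin n) R) d)
      (⨂[R] _ : Fin d, MvPolynomial (Fin n) R) := ⟨isIntegral_TS R d⟩
  haveI : Module.Finite (SymTen.TS R (MvPolynomial (Fin n) R) d)
      (⨂[R] _ : Fin d, MvPolynomial (Fin n) R) := Algebra.IsIntegral.finite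
  exact fg_of_fg_of_fg R (SymTen.TS R (MvPolynomial (Fin n) R) d)
    (⨂[R] _ : Fin d, MvPolynomial (Fin n) R) (fg_top_tensor R n d) Module.Finite.fg_top
    Subtype.val_injective

end noeth

section bc

variable (R : Type u) [CommRing R] (A : Type u) [CommRing A] [Algebra R A]
  (Q : Type u) [CommRing Q] [Algebra R Q] (d : ℕ) {I : Type u} (eR : Basis I R Q)

/-- the base changed basis -/
noncomputable def eA : Basis I A (A ⊗[R] Q) := Algebra.TensorProduct.basis A eR

theorem eA_apply (i : I) : eA R A Q eR i = (1 : A) ⊗ₜ[R] eR i :=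
  Algebra.TensorProduct.basis_apply _ _

theorem JJ_eT (c : Fin d → I) :
    JJ R A Q d (eT (d := d) eR c) = eT (d := d) (eA R A Q eR) c := by
  rw [eT_apply, eT_apply, JJ_tprod]
  congr 1
  funext k
  rw [eA_apply]

theorem JJ_mem_of_adjoin (G : Set (SymTen.TS R Q d))
    (hG : Algebra.adjoin R G = ⊤) (x : SymTen.TS R Q d) :
    JJ R A Q d x.1 ∈ Algebra.adjoin A
      ((fun g : SymTen.TS R Q d => JJ R A Q d g.1) '' G) := by
  have hx : x ∈ Algebra.adjoin R G := hG ▸ Algebra.mem_top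
  induction hx using Algebra.adjoin_induction with
  | mem x hx => exact Algebra.subset_adjoin ⟨x, hx, rfl⟩
  | algebraMap r =>
    have h1 : ((algebraMap R (SymTen.TS R Q d) r : SymTen.TS R Q d) : ⨂[R] _ : Fin d, Q) =
        r • 1 := by
      rw [Algebra.algebraMap_eq_smul_one]
      rfl
    rw [h1, map_smul, JJ_one, ← algebraMap_smul A r (1 : ⨂[A] _ : Fin d, A ⊗[R] Q)]
    exact Subalgebra.smul_mem _ (Subalgebra.one_mem _) _
  | add x y _ _ hx hy =>
    have h1 : ((x + y : SymTen.TS R Q d) : ⨂[R] _ : Fin d, Q) = x.1 + y.1 := rfl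
    rw [h1, map_add]
    exact Subalgebra.add_mem _ hx hy
  | mul x y _ _ hx hy =>
    have h1 : ((x * y : SymTen.TS R Q d) : ⨂[R] _ : Fin d, Q) = x.1 * y.1 := rfl
    rw [h1, JJ_mul]
    exact Subalgebra.mul_mem _ hx hy

include eR in
theorem TS_le_adjoin (G : Set (SymTen.TS R Q d)) (hG : Algebra.adjoin R G = ⊤) :
    SymTen.TS A (A ⊗[R] Q) d ≤ Algebra.adjoin A
      ((fun g : SymTen.TS R Q d => JJ R A Q d g.1) '' G) := by
  intro t ht
  have h1 := mem_span_of_mem_WW ⟨t, TS_le_WW (eA R A Q eR) ht⟩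
  have hle : Submodule.span A (coeffSetOn (SymTen.tpowLaw A (A ⊗[R] Q) d) ⊤) ≤
      Subalgebra.toSubmodule (Algebra.adjoin A
        ((fun g : SymTen.TS R Q d => JJ R A Q d g.1) '' G)) := by
    apply Submodule.span_le.2
    rintro _ ⟨S, _, _, z, ℓ, -, rfl⟩
    obtain ⟨J, s, rfl⟩ := exists_sum_repr (eA R A Q eR) z
    rw [tpowLaw_sum, map_sum]
    simp only [ev_tmul]
    rw [← Finset.sum_fiberwise_of_maps_to
      (t := (Fintype.piFinset (fun _ : Fin d => J)).image ty) (g := ty)
      (fun c hc => Finset.mem_image_of_mem _ hc)]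
    refine Submodule.sum_mem _ fun m _ => ?_
    have h2 : ∀ c ∈ (Fintype.piFinset (fun _ : Fin d => J)).filter (fun c => ty c = m),
        ℓ (∏ k, s (c k)) • eT (d := d) (eA R A Q eR) c =
          ℓ (m.prod fun i k => s i ^ k) • eT (d := d) (eA R A Q eR) c := by
      intro c hc
      rw [← (Finset.mem_filter.1 hc).2, prod_ty]
    rw [Finset.sum_congr rfl h2, ← Finset.smul_sum]
    refine Submodule.smul_mem _ _ ?_
    have h3 : ∑ c ∈ (Fintype.piFinset (fun _ : Fin d => J)).filter (fun c => ty c = m),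
        eT (d := d) (eA R A Q eR) c = JJ R A Q d
          (∑ c ∈ (Fintype.piFinset (fun _ : Fin d => J)).filter (fun c => ty c = m),
            eT (d := d) eR c) := by
      rw [map_sum]
      exact Finset.sum_congr rfl fun c _ => (JJ_eT R A Q d eR c).symm
    have hmem : (∑ c ∈ (Fintype.piFinset (fun _ : Fin d => J)).filter (fun c => ty c = m),
        eT (d := d) eR c) ∈ SymTen.TS R Q d :=
      WW_le_TS R Q d (sum_ty_mem eR J m)
    have h4 := JJ_mem_of_adjoin R A Q d G hG ⟨_, hmem⟩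
    rw [h3]
    exact h4
  exact hle h1

include eR in
theorem finiteType_TS_bc (h : (⊤ : Subalgebra R (SymTen.TS R Q d)).FG) :
    Algebra.FiniteType A (SymTen.TS A (A ⊗[R] Q) d) := by
  obtain ⟨G, hG⟩ := h
  constructor
  rw [Subalgebra.fg_top]
  refine ⟨G.image (fun g : SymTen.TS R Q d => JJ R A Q d g.1), ?_⟩
  rw [Finset.coe_image]
  apply le_antisymm
  · apply Algebra.adjoin_le
    rintro _ ⟨g, -, rfl⟩
    exact fun σ => by rw [JJ_reindex, g.2 σ]
  · exact TS_le_adjoin R A Q d eR ↑G hG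

end bc

section main

variable {A : Type u} [CommRing A] {B : Type u} [CommRing B] [Algebra A B] {C : Type u} [CommRing C]
  [Algebra A C] {d : ℕ}

theorem main13713 (γ : PolLaw.MulLaw A B C d) (hγ : PolLaw.IsGammaD γ) [Algebra.FiniteType A B] :
    Algebra.FiniteType A C := by
  letI : Algebra (ULift.{u} ℤ) A := ULift.algebra' ℤ A
  haveI : IsNoetherianRing (ULift.{u} ℤ) := isNoetherianRing_of_ringEquiv ℤ ULift.ringEquiv.symm
  obtain ⟨n, f, hf⟩ := Algebra.FiniteType.iff_quotient_mvPolynomial''.1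
    (inferInstance : Algebra.FiniteType A B)
  obtain ⟨π, hπ⟩ : ∃ π : A ⊗[ULift.{u} ℤ] MvPolynomial (Fin n) (ULift.{u} ℤ) →ₐ[A] B,
      Function.Surjective π :=
    ⟨f.comp (MvPolynomial.algebraTensorAlgEquiv (ULift.{u} ℤ) A).toAlgHom,
      hf.comp (AlgEquiv.surjective _)⟩
  have e0 : Basis (ULift.{u} (Fin n →₀ ℕ)) (ULift.{u} ℤ) (MvPolynomial (Fin n) (ULift.{u} ℤ)) :=
    (MvPolynomial.basisMonomials (Fin n) (ULift.{u} ℤ)).reindex Equiv.ulift.symm
  haveI := finiteType_TS_bc (ULift.{u} ℤ) A (MvPolynomial (Fin n) (ULift.{u} ℤ)) d e0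
    (fg_top_TS_mvPoly (ULift.{u} ℤ) n d)
  haveI : Module.Free A (A ⊗[ULift.{u} ℤ] MvPolynomial (Fin n) (ULift.{u} ℤ)) :=
    Module.Free.of_basis (eA (ULift.{u} ℤ) A (MvPolynomial (Fin n) (ULift.{u} ℤ)) e0)
  have hτ := isGammaD_tauTS (A := A) (B := A ⊗[ULift.{u} ℤ] MvPolynomial (Fin n) (ULift.{u} ℤ)) d
    (Or.inl inferInstance)
  obtain ⟨g, hg, -⟩ := hτ C (γ.precomp π)
  apply Algebra.FiniteType.of_surjective g
  rw [← AlgHom.range_eq_top, eq_top_iff, ← adjoin_coeffSet_eq_top γ hγ]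
  apply Algebra.adjoin_le
  rintro _ ⟨S, _, _, y, ℓ, -, rfl⟩
  obtain ⟨x, rfl⟩ := LinearMap.lTensor_surjective S
    (show Function.Surjective π.toLinearMap from hπ) y
  have hx : g.toLinearMap.lTensor S ((tauTS A _ d).law.toFun' S x) =
      γ.law.toFun' S (π.toLinearMap.lTensor S x) :=
    congrArg (fun L : (A ⊗[ULift.{u} ℤ] MvPolynomial (Fin n) (ULift.{u} ℤ)) →ₚₗ[A] C =>
      L.toFun' S x) hg
  rw [← hx, ev_lTensor]
  exact ⟨_, rfl⟩

end main

end Groth.Agent.Lib.GammaFTH1
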