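import Mathlib
import Groth.Prelude.Def_PolLaw2
import Groth.Prelude.Def_SymTen
import Groth.Agent.Lib.GammaFT_helper1

/-!
# Products of symmetric tensors and purely inseparable residue extensions (helper1)

For `B` flat over `A`, `β : B → L` with `L` a field of exponential characteristic `q`, and a
subalgebra `E ⊆ L` containing all `q^e`-th powers: if `q^e ∣ d` then the image under `β` of the
product `m_d(x)` of a symmetric tensor `x ∈ TS^d_A(B)` lies in `E`.
-/

set_option autoImplicit false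
universe u
open scoped TensorProduct
open Module

namespace Groth.Agent.Lib.ChowMonH1

open Groth.Agent.Lib.GammaSpanH1 Groth.Agent.Lib.FlatTSH1 Groth.Agent.Lib.SymNormH1
  Groth.Agent.Lib.FreeFactH1

variable {A : Type u} [CommRing A] {B : Type u} [CommRing B] [Algebra A B] (d : ℕ)

theorem mu_tpow (S : Type u) [CommRing S] [Algebra A S] (z : S ⊗[A] B) :
    (PiTensorProduct.lift (MultilinearMap.mkPiAlgebra A (Fin d) B)).lTensor S
      ((SymTen.tpowLaw A B d).law.toFun' S z) = z ^ d := by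
  obtain ⟨n, s, b, rfl⟩ := Groth.Agent.Lib.PolarH1.exists_fin_sum z
  rw [tpow_fin_sum, map_sum, ← Fin.prod_const, Finset.prod_univ_sum, Fintype.piFinset_univ]
  refine Finset.sum_congr rfl fun c _ => ?_
  rw [LinearMap.lTensor_tmul, PiTensorProduct.lift.tprod, MultilinearMap.mkPiAlgebra_apply,
    prod_tmul]

theorem ev_pow_mem {L : Type u} [Field L] [Algebra A L] (E : Subalgebra A L) (q e : ℕ)
    [ExpChar L q] (hE : ∀ l : L, l ^ (q ^ e) ∈ E) {d : ℕ} (hd : q ^ e ∣ d) (S : Type u)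
    [CommRing S] [Algebra A S] (w : S ⊗[A] L) (ℓ : S →ₗ[A] A) : ev L ℓ (w ^ d) ∈ E := by
  obtain ⟨m', rfl⟩ := hd
  have h1 : ∃ v : S ⊗[A] E, E.val.toLinearMap.lTensor S v = w ^ (q ^ e) := by
    rcases subsingleton_or_nontrivial (S ⊗[A] L) with hs | hn
    · exact ⟨0, Subsingleton.elim _ _⟩
    · haveI : ExpChar (S ⊗[A] L) q :=
        expChar_of_injective_ringHom
          (f := (Algebra.TensorProduct.includeRight : L →ₐ[A] S ⊗[A] L).toRingHom)
          (RingHom.injective _) q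
      obtain ⟨n, s, l, rfl⟩ := Groth.Agent.Lib.PolarH1.exists_fin_sum w
      refine ⟨∑ j, (s j ^ (q ^ e)) ⊗ₜ[A] (⟨l j ^ (q ^ e), hE (l j)⟩ : E), ?_⟩
      rw [map_sum, ← iterateFrobenius_def (R := S ⊗[A] L) q e, map_sum]
      refine Finset.sum_congr rfl fun j _ => ?_
      rw [LinearMap.lTensor_tmul, iterateFrobenius_def, Algebra.TensorProduct.tmul_pow]
      rfl
  obtain ⟨v, hv⟩ := h1
  have h2 : w ^ (q ^ e * m') = E.val.toLinearMap.lTensor S (v ^ m') := by
    rw [pow_mul, ← hv, PolLaw.lTensor_algHom_apply, PolLaw.lTensor_algHom_apply, map_pow]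
  rw [h2, ev_lTensor]
  exact (ev E ℓ (v ^ m')).2

theorem key_mem {L : Type u} [Field L] [Algebra A L] (E : Subalgebra A L) (q e : ℕ) [ExpChar L q]
    (hE : ∀ l : L, l ^ (q ^ e) ∈ E) (hd : q ^ e ∣ d) [Module.Flat A B] (β : B →ₐ[A] L)
    (x : ⨂[A] _ : Fin d, B) (hx : x ∈ SymTen.TS A B d) :
    β (PiTensorProduct.lift (MultilinearMap.mkPiAlgebra A (Fin d) B) x) ∈ E := by
  have hmem : (⟨x, hx⟩ : SymTen.TS A B d) ∈
      Submodule.span A (coeffSetOn (tauTS A B d) ⊤) := by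
    rw [span_coeff_of_flat]
    exact Submodule.mem_top
  obtain ⟨Λ, hΛ⟩ : ∃ Λ : SymTen.TS A B d →ₗ[A] L, ∀ t : SymTen.TS A B d,
      Λ t = β (PiTensorProduct.lift (MultilinearMap.mkPiAlgebra A (Fin d) B) t.1) :=
    ⟨β.toLinearMap ∘ₗ (PiTensorProduct.lift (MultilinearMap.mkPiAlgebra A (Fin d) B)) ∘ₗ
      (SymTen.TS A B d).val.toLinearMap, fun t => rfl⟩
  have hle : Submodule.span A (coeffSetOn (tauTS A B d) ⊤) ≤
      (Subalgebra.toSubmodule E).comap Λ := by
    apply Submodule.span_le.2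
    rintro _ ⟨S, _, _, z, ℓ, -, rfl⟩
    show Λ (ev _ ℓ ((tauTS A B d).law.toFun' S z)) ∈ E
    rw [hΛ, coeff_tauTS, ← ev_lTensor, mu_tpow, ← AlgHom.toLinearMap_apply, ← ev_lTensor,
      PolLaw.lTensor_algHom_apply, map_pow]
    exact ev_pow_mem E q e hE hd S _ ℓ
  have h3 := hle hmem
  rw [Submodule.mem_comap, hΛ] at h3
  exact h3

end Groth.Agent.Lib.ChowMonH1
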