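import Mathlib
import Groth.Agent.Lib.UnivHomeo2_helper6
set_option autoImplicit false
universe u
open CategoryTheory CategoryTheory.Limits AlgebraicGeometry MorphismProperty

namespace Groth.Agent.Lib.UnivHomeo

theorem universallyInjective_SpecMap_iff {A B : CommRingCat.{u}} (φ : A ⟶ B) :
    UniversallyInjective (Spec.map φ) ↔
      ∀ (K : Type u) [Field K] (ψ₁ ψ₂ : B →+* K),
        ψ₁.comp φ.hom = ψ₂.comp φ.hom → ψ₁ = ψ₂ := by
  refine ⟨fun h K _ ψ₁ ψ₂ h12 => ?_, universallyInjective_SpecMap_of φ⟩
  have hall : ∀ (K : Type u) [Field K],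
      Function.Injective (fun g : Spec (.of K) ⟶ Spec B ↦ g ≫ Spec.map φ) :=
    ((tfae_universallyInjective (Spec.map φ)).out 0 1).mp h
  have h1 : Spec.map (CommRingCat.ofHom ψ₁) = Spec.map (CommRingCat.ofHom ψ₂) := by
    apply hall K
    dsimp only
    rw [← Spec.map_comp, ← Spec.map_comp]
    congr 1
    ext a
    exact congr($h12 a)
  have h2 := Spec.map_injective h1
  exact congrArg CommRingCat.Hom.hom h2

/-- Field-valued points lift along a surjective morphism with trivial residue field extensions. -/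
theorem exists_lift_of_residueFieldMap_surjective {X Y : Scheme.{u}} (f : X ⟶ Y) [Surjective f]
    (hres : ∀ x : X, Function.Surjective (f.residueFieldMap x))
    (K : Type u) [Field K] (g₀ : Spec (CommRingCat.of K) ⟶ Y) :
    ∃ g : Spec (CommRingCat.of K) ⟶ X, g ≫ f = g₀ := by
  obtain ⟨⟨y, α⟩, hα⟩ : ∃ p : Σ y, Y.residueField y ⟶ CommRingCat.of K,
      Spec.map p.2 ≫ Y.fromSpecResidueField p.1 = g₀ :=
    ⟨Scheme.SpecToEquivOfField K Y g₀, (Scheme.SpecToEquivOfField K Y).left_inv g₀⟩
  dsimp only at hα
  obtain ⟨x, rfl⟩ := f.surjective y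
  have hbij : Function.Bijective (f.residueFieldMap x) :=
    ⟨(f.residueFieldMap x).hom.injective, hres x⟩
  let e : Y.residueField (f x) ≃+* X.residueField x :=
    RingEquiv.ofBijective (f.residueFieldMap x).hom hbij
  refine ⟨Spec.map (CommRingCat.ofHom e.symm.toRingHom ≫ α) ≫ X.fromSpecResidueField x, ?_⟩
  rw [Category.assoc, ← Scheme.Hom.SpecMap_residueFieldMap_fromSpecResidueField, ← Category.assoc,
    ← Spec.map_comp, ← hα]
  congr 2
  ext a
  change α.hom (e.symm (e a)) = α.hom a
  rw [e.symm_apply_apply]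

/-- For an integral ring map, surjectivity on spectra is equivalent to the kernel being nil. -/
theorem surjective_SpecMap_iff_of_isIntegral {A B : CommRingCat.{u}} (φ : A ⟶ B)
    (hint : φ.hom.IsIntegral) :
    Surjective (Spec.map φ) ↔ RingHom.ker φ.hom ≤ nilradical A := by
  constructor
  · intro h a ha
    rw [mem_nilradical, nilpotent_iff_mem_prime]
    intro p hp
    obtain ⟨q, hq⟩ := (Spec.map φ).surjective (⟨p, hp⟩ : PrimeSpectrum A)
    have h1 : a ∈ (PrimeSpectrum.comap φ.hom q).asIdeal := by
      change φ.hom a ∈ q.asIdeal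
      rw [RingHom.mem_ker.mp ha]
      exact zero_mem _
    have h2 : PrimeSpectrum.comap φ.hom q = ⟨p, hp⟩ := hq
    rw [h2] at h1
    exact h1
  · intro h
    refine ⟨fun p => ?_⟩
    algebraize [φ.hom]
    haveI : Algebra.IsIntegral A B := ⟨hint⟩
    have hle : (⊥ : Ideal B).comap (algebraMap A B) ≤ p.asIdeal := by
      intro a ha
      have h1 : a ∈ RingHom.ker φ.hom := ha
      have h2 := h h1
      rw [mem_nilradical, nilpotent_iff_mem_prime] at h2
      exact h2 p.asIdeal p.isPrime
    obtain ⟨Q, -, hQ, hQp⟩ := Ideal.exists_ideal_over_prime_of_isIntegral p.asIdeal (⊥ : Ideal B) hle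
    exact ⟨⟨Q, hQ⟩, PrimeSpectrum.ext hQp⟩

section Colim

variable (A : CommRingCat.{u}) {J : Type u} [SmallCategory J] [IsFiltered J]
  (F : J ⥤ Under A) (c : Cocone F) (hc : IsColimit c)

include hc in
theorem colim_exists_rep (b : c.pt.right) :
    ∃ (j : J) (bj : (F.obj j).right), (c.ι.app j).right bj = b :=
  Concrete.isColimit_exists_rep (F ⋙ Under.forget A)
    (isColimitOfPreserves (Under.forget A) hc) b

include hc in
theorem colim_exists_of_rep_eq {i j : J} (x : (F.obj i).right) (y : (F.obj j).right)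
    (h : (c.ι.app i).right x = (c.ι.app j).right y) :
    ∃ (k : J) (f : i ⟶ k) (g : j ⟶ k), (F.map f).right x = (F.map g).right y :=
  Concrete.isColimit_exists_of_rep_eq (F ⋙ Under.forget A)
    (isColimitOfPreserves (Under.forget A) hc) x y h

theorem colim_hom_comp (j : J) : (F.obj j).hom ≫ (c.ι.app j).right = c.pt.hom :=
  Under.w (c.ι.app j)

include hc in
/-- Integrality passes to filtered colimits. -/
theorem colim_isIntegral (h : ∀ j, (F.obj j).hom.hom.IsIntegral) : c.pt.hom.hom.IsIntegral := by
  intro b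
  obtain ⟨j, bj, rfl⟩ := colim_exists_rep A F c hc b
  obtain ⟨p, hp, hp0⟩ := h j bj
  refine ⟨p, hp, ?_⟩
  have h1 : c.pt.hom.hom = (c.ι.app j).right.hom.comp (F.obj j).hom.hom := by
    rw [← colim_hom_comp A F c j]; rfl
  rw [h1, ← Polynomial.hom_eval₂, hp0, map_zero]

include hc in
/-- The kernel of the map to a filtered colimit is the union of the kernels. -/
theorem colim_ker (a : A) (ha : c.pt.hom.hom a = 0) : ∃ j, (F.obj j).hom.hom a = 0 := by
  obtain ⟨j⟩ : Nonempty J := IsFiltered.nonempty
  have h1 : (c.ι.app j).right ((F.obj j).hom.hom a) = (c.ι.app j).right 0 := by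
    rw [map_zero, ← ha, ← colim_hom_comp A F c j]; rfl
  obtain ⟨k, f, g, hfg⟩ := colim_exists_of_rep_eq A F c hc _ _ h1
  refine ⟨k, ?_⟩
  rw [map_zero] at hfg
  rw [← hfg]
  have := Under.w (F.map f)
  exact congr($this.symm a)

include hc in
/-- Uniqueness of extensions of field-valued points passes to filtered colimits. -/
theorem colim_uniq (K : Type u) [CommRing K]
    (h : ∀ j (ψ₁ ψ₂ : (F.obj j).right →+* K),
      ψ₁.comp (F.obj j).hom.hom = ψ₂.comp (F.obj j).hom.hom → ψ₁ = ψ₂)
    (ψ₁ ψ₂ : c.pt.right →+* K) (h12 : ψ₁.comp c.pt.hom.hom = ψ₂.comp c.pt.hom.hom) :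
    ψ₁ = ψ₂ := by
  ext b
  obtain ⟨j, bj, rfl⟩ := colim_exists_rep A F c hc b
  have h1 : c.pt.hom.hom = (c.ι.app j).right.hom.comp (F.obj j).hom.hom := by
    rw [← colim_hom_comp A F c j]; rfl
  have h2 := h j (ψ₁.comp (c.ι.app j).right.hom) (ψ₂.comp (c.ι.app j).right.hom) (by
    rw [RingHom.comp_assoc, RingHom.comp_assoc, ← h1, h12])
  exact congr($h2 bj)

include hc in
/-- Unique existence of extensions of field-valued points passes to filtered colimits. -/
theorem colim_exists (K : Type u) [CommRing K] (χ : A →+* K)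
    (h : ∀ j, ∃! ψ : (F.obj j).right →+* K, ψ.comp (F.obj j).hom.hom = χ) :
    ∃ ψ : c.pt.right →+* K, ψ.comp c.pt.hom.hom = χ := by
  choose ψ hψ hψu using h
  let s : Cocone F :=
    { pt := Under.mk (CommRingCat.ofHom χ)
      ι :=
        { app := fun j => Under.homMk (CommRingCat.ofHom (ψ j)) (by
            ext a
            exact congr($(hψ j) a))
          naturality := fun i j f => by
            ext : 1
            simp only [Functor.const_obj_obj, Functor.const_obj_map, Category.comp_id]
            change (F.map f).right ≫ CommRingCat.ofHom (ψ j) = CommRingCat.ofHom (ψ i)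
            ext : 1
            apply hψu i
            have := Under.w (F.map f)
            ext a
            change ψ j ((F.map f).right ((F.obj i).hom a)) = χ a
            have h1 : (F.map f).right ((F.obj i).hom a) = (F.obj j).hom a := congr($this a)
            rw [h1]
            exact congr($(hψ j) a) } }
  refine ⟨(hc.desc s).right.hom, ?_⟩
  have := Under.w (hc.desc s)
  ext a
  exact congr($this a)

end Colim


/-- Existence of extensions of field-valued points from surjectivity and trivial residue field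
extensions. -/
theorem exists_ext_of_residueFieldMap_surjective {A B : CommRingCat.{u}} (φ : A ⟶ B)
    [Surjective (Spec.map φ)]
    (hres : ∀ x : Spec B, Function.Surjective ((Spec.map φ).residueFieldMap x))
    (K : Type u) [Field K] (χ : A →+* K) : ∃ ψ : B →+* K, ψ.comp φ.hom = χ := by
  obtain ⟨g, hg⟩ := exists_lift_of_residueFieldMap_surjective (Spec.map φ) hres K
    (Spec.map (CommRingCat.ofHom χ))
  obtain ⟨ψ, rfl⟩ : ∃ ψ, g = Spec.map ψ := ⟨Spec.preimage g, (Spec.map_preimage g).symm⟩
  rw [← Spec.map_comp] at hg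
  have h1 := Spec.map_injective hg
  refine ⟨ψ.hom, ?_⟩
  ext a
  exact congr($h1 a)

end Groth.Agent.Lib.UnivHomeo
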