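import Mathlib
set_option autoImplicit false
universe u

namespace Groth.Agent.Lib.UnivHomeo

section Core

variable {A B : Type u} [CommRing A] [CommRing B] [Algebra A B]

/-- The conductor of `A` in `B`: elements of `A` multiplying `B` into (the image of) `A`. -/
def cond (A B : Type u) [CommRing A] [CommRing B] [Algebra A B] : Ideal A where
  carrier := {a | ∀ b : B, algebraMap A B a * b ∈ (algebraMap A B).range}
  add_mem' := by
    intro a a' ha ha' b
    rw [map_add, add_mul]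
    exact Subring.add_mem _ (ha b) (ha' b)
  zero_mem' := by
    intro b
    rw [map_zero, zero_mul]
    exact Subring.zero_mem _
  smul_mem' := by
    intro r a ha b
    rw [smul_eq_mul, map_mul, mul_assoc]
    exact Subring.mul_mem _ ⟨r, rfl⟩ (ha b)

theorem mem_cond {a : A} : a ∈ cond A B ↔ ∀ b : B, algebraMap A B a * b ∈ (algebraMap A B).range :=
  Iff.rfl

/-- The conductor is also an ideal of `B`. -/
theorem cond_mul_mem (hinj : Function.Injective (algebraMap A B)) {a : A} (ha : a ∈ cond A B)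
    (b : B) : ∃ a' ∈ cond A B, algebraMap A B a' = algebraMap A B a * b := by
  obtain ⟨a', ha'⟩ := ha b
  refine ⟨a', ?_, ha'⟩
  intro b'
  rw [ha', mul_assoc]
  exact ha (b * b')

theorem cond_ne_top (h : ¬ Function.Surjective (algebraMap A B)) : cond A B ≠ ⊤ := by
  intro htop
  apply h
  intro b
  have h1 : (1 : A) ∈ cond A B := by rw [htop]; trivial
  have := h1 b
  rw [map_one, one_mul] at this
  exact this

/-- Elements of the ideal of `B` generated by the conductor lie in the image of the conductor. -/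
theorem mem_map_cond (hinj : Function.Injective (algebraMap A B)) {x : B}
    (hx : x ∈ Ideal.map (algebraMap A B) (cond A B)) : ∃ a ∈ cond A B, algebraMap A B a = x := by
  rw [Ideal.map] at hx
  induction hx using Submodule.span_induction with
  | mem x hx =>
    obtain ⟨a, ha, rfl⟩ := hx
    exact ⟨a, ha, rfl⟩
  | zero => exact ⟨0, (cond A B).zero_mem, map_zero _⟩
  | add x y _ _ hx hy =>
    obtain ⟨a, ha, rfl⟩ := hx
    obtain ⟨a', ha', rfl⟩ := hy
    exact ⟨a + a', (cond A B).add_mem ha ha', map_add _ _ _⟩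
  | smul b x _ hx =>
    obtain ⟨a, ha, rfl⟩ := hx
    obtain ⟨a', ha', h'⟩ := cond_mul_mem hinj ha b
    exact ⟨a', ha', by rw [h', smul_eq_mul, mul_comm]⟩


/-- Key step: near a minimal prime of the conductor, powers of elements of the prime above it are
pushed into the conductor by elements outside the prime. -/
theorem exists_mul_pow_mem_cond (hinj : Function.Injective (algebraMap A B))
    (hspec : Function.Injective (PrimeSpectrum.comap (algebraMap A B)))
    (𝔭 : Ideal A) (h𝔭 : 𝔭 ∈ (cond A B).minimalPrimes) (𝔮 : Ideal B) [h𝔮p : 𝔮.IsPrime]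
    (h𝔮 : 𝔮.comap (algebraMap A B) = 𝔭) (f : B) (hf : f ∈ 𝔮) :
    ∃ t, t ∉ 𝔭 ∧ ∃ n : ℕ, ∃ c ∈ cond A B, algebraMap A B c = algebraMap A B t * f ^ n := by
  haveI : 𝔭.IsPrime := h𝔭.1.1
  by_contra hno
  push_neg at hno
  let T : Submonoid B := Submonoid.map (algebraMap A B) 𝔭.primeCompl ⊔ Submonoid.powers f
  have hdisj : Disjoint ((Ideal.map (algebraMap A B) (cond A B) : Ideal B) : Set B) (T : Set B) := by
    rw [Set.disjoint_left]
    intro x hxJ hxT
    obtain ⟨y, hy, z, hz, rfl⟩ := Submonoid.mem_sup.mp hxT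
    obtain ⟨t, ht, rfl⟩ := hy
    obtain ⟨n, rfl⟩ := hz
    obtain ⟨c, hc, hcx⟩ := mem_map_cond hinj hxJ
    exact hno t ht n c hc hcx
  obtain ⟨𝔮', h𝔮'p, hle, hdis⟩ := Ideal.exists_le_prime_disjoint _ T hdisj
  have hfT : f ∈ T := Submonoid.mem_sup_right (Submonoid.mem_powers f)
  have hf' : f ∉ 𝔮' := fun h => Set.disjoint_left.mp hdis h hfT
  have h1 : 𝔮'.comap (algebraMap A B) ≤ 𝔭 := by
    intro a ha
    by_contra hap
    have haT : algebraMap A B a ∈ T := Submonoid.mem_sup_left ⟨a, hap, rfl⟩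
    exact Set.disjoint_left.mp hdis ha haT
  have h2 : cond A B ≤ 𝔮'.comap (algebraMap A B) := by
    intro a ha
    exact hle (Ideal.mem_map_of_mem _ ha)
  have h3 : 𝔭 ≤ 𝔮'.comap (algebraMap A B) := h𝔭.2 ⟨inferInstance, h2⟩ h1
  have h4 : 𝔮'.comap (algebraMap A B) = 𝔮.comap (algebraMap A B) := by
    rw [h𝔮]; exact le_antisymm h1 h3
  have h5 : (⟨𝔮', h𝔮'p⟩ : PrimeSpectrum B) = ⟨𝔮, h𝔮p⟩ := by
    apply hspec
    exact PrimeSpectrum.ext h4
  have h6 : 𝔮' = 𝔮 := congrArg PrimeSpectrum.asIdeal h5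
  exact hf' (h6 ▸ hf)


/-- If `b², b³ ∈ A ⇒ b ∈ A`, then elements of the prime above a minimal prime of the conductor
are pushed into `A` by elements outside the prime. -/
theorem exists_mul_mem_range (hinj : Function.Injective (algebraMap A B))
    (hspec : Function.Injective (PrimeSpectrum.comap (algebraMap A B)))
    (hN : ∀ b : B, b ^ 2 ∈ (algebraMap A B).range → b ^ 3 ∈ (algebraMap A B).range →
      b ∈ (algebraMap A B).range)
    (𝔭 : Ideal A) (h𝔭 : 𝔭 ∈ (cond A B).minimalPrimes) (𝔮 : Ideal B) [h𝔮p : 𝔮.IsPrime]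
    (h𝔮 : 𝔮.comap (algebraMap A B) = 𝔭) (f : B) (hf : f ∈ 𝔮) :
    ∃ t, t ∉ 𝔭 ∧ algebraMap A B t * f ∈ (algebraMap A B).range := by
  obtain ⟨t, ht, n, c, hc, hcn⟩ := exists_mul_pow_mem_cond hinj hspec 𝔭 h𝔭 𝔮 h𝔮 f hf
  refine ⟨t, ht, ?_⟩
  have hbig : ∀ m : ℕ, n ≤ m → 1 ≤ m → (algebraMap A B t * f) ^ m ∈ (algebraMap A B).range := by
    intro m hnm h1m
    obtain ⟨d, rfl⟩ := Nat.exists_eq_add_of_le hnm
    obtain ⟨m', hm'⟩ := Nat.exists_eq_add_of_le h1m
    have : (algebraMap A B t * f) ^ (n + d) =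
        algebraMap A B c * ((algebraMap A B t) ^ m' * f ^ d) := by
      rw [hcn, mul_pow, hm', pow_add (algebraMap A B t) 1 m', pow_one, ← hm', pow_add f n d]
      ring
    rw [this]
    exact hc _
  have hall : ∀ d k : ℕ, 1 ≤ k → n ≤ k + d →
      (algebraMap A B t * f) ^ k ∈ (algebraMap A B).range := by
    intro d
    induction d with
    | zero => intro k hk hnk; exact hbig k (by omega) hk
    | succ d ih =>
      intro k hk hnk
      apply hN
      · rw [← pow_mul]
        exact ih (k * 2) (by omega) (by omega)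
      · rw [← pow_mul]
        exact ih (k * 3) (by omega) (by omega)
  have := hall n 1 le_rfl (by omega)
  rwa [pow_one] at this


/-- The residue class of `b` at `𝔮` comes from the residue field of `𝔭`. -/
def Rcond (𝔭 : Ideal A) (𝔮 : Ideal B) (b : B) : Prop :=
  ∃ s, s ∉ 𝔭 ∧ ∃ a : A, algebraMap A B s * b - algebraMap A B a ∈ 𝔮

/-- With trivial residue field extension at a minimal prime of the conductor, we get a
contradiction with finiteness. -/
theorem false_of_forall_Rcond [Module.Finite A B] (hinj : Function.Injective (algebraMap A B))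
    (hspec : Function.Injective (PrimeSpectrum.comap (algebraMap A B)))
    (hN : ∀ b : B, b ^ 2 ∈ (algebraMap A B).range → b ^ 3 ∈ (algebraMap A B).range →
      b ∈ (algebraMap A B).range)
    (𝔭 : Ideal A) (h𝔭 : 𝔭 ∈ (cond A B).minimalPrimes) (𝔮 : Ideal B) [h𝔮p : 𝔮.IsPrime]
    (h𝔮 : 𝔮.comap (algebraMap A B) = 𝔭) (hR : ∀ b : B, Rcond 𝔭 𝔮 b) : False := by
  classical
  haveI : 𝔭.IsPrime := h𝔭.1.1
  have hstep : ∀ b : B, ∃ u, u ∉ 𝔭 ∧ algebraMap A B u * b ∈ (algebraMap A B).range := by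
    intro b
    obtain ⟨s, hs, a, hsa⟩ := hR b
    obtain ⟨t, ht, r, hr⟩ := exists_mul_mem_range hinj hspec hN 𝔭 h𝔭 𝔮 h𝔮 _ hsa
    refine ⟨t * s, fun h => (Ideal.IsPrime.mem_or_mem inferInstance h).elim ht hs, t * a + r, ?_⟩
    rw [map_add, hr, map_mul, map_mul]
    ring
  choose u hu1 hu2 using hstep
  obtain ⟨G, hG⟩ := (Module.Finite.fg_top : (⊤ : Submodule A B).FG)
  have hU : (∏ g ∈ G, u g) ∉ 𝔭 := by
    intro h
    obtain ⟨g, -, hg⟩ := Ideal.IsPrime.prod_mem_iff.mp h
    exact hu1 g hg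
  have hUG : ∀ g ∈ G, algebraMap A B (∏ g ∈ G, u g) * g ∈ (algebraMap A B).range := by
    intro g hg
    rw [← Finset.mul_prod_erase G u hg, map_mul, mul_comm (algebraMap A B (u g)), mul_assoc]
    exact Subring.mul_mem _ ⟨_, rfl⟩ (hu2 g)
  have hUall : ∀ b : B, algebraMap A B (∏ g ∈ G, u g) * b ∈ (algebraMap A B).range := by
    intro b
    have hb : b ∈ Submodule.span A (G : Set B) := by rw [hG]; trivial
    induction hb using Submodule.span_induction with
    | mem x hx => exact hUG x hx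
    | zero => rw [mul_zero]; exact Subring.zero_mem _
    | add x y _ _ hx hy => rw [mul_add]; exact Subring.add_mem _ hx hy
    | smul r x _ hx =>
      rw [Algebra.smul_def, ← mul_assoc, mul_comm _ (algebraMap A B r), mul_assoc]
      exact Subring.mul_mem _ ⟨r, rfl⟩ hx
  exact hU (h𝔭.1.2 hUall)


/-- The second alternative: with purely inseparable residue field extension at a minimal prime of
the conductor, we find `b ∉ A` with `p b, b ^ p ∈ A`. -/
theorem exists_prime_alt [Module.Finite A B] (hinj : Function.Injective (algebraMap A B))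
    (hspec : Function.Injective (PrimeSpectrum.comap (algebraMap A B)))
    (hN : ∀ b : B, b ^ 2 ∈ (algebraMap A B).range → b ^ 3 ∈ (algebraMap A B).range →
      b ∈ (algebraMap A B).range)
    (𝔭 : Ideal A) (h𝔭 : 𝔭 ∈ (cond A B).minimalPrimes) (𝔮 : Ideal B) [h𝔮p : 𝔮.IsPrime]
    (h𝔮 : 𝔮.comap (algebraMap A B) = 𝔭) (q : ℕ) (hq : q = 1 ∨ (q.Prime ∧ (q : A) ∈ 𝔭))
    (hPI : ∀ b : B, ∃ n : ℕ, Rcond 𝔭 𝔮 (b ^ q ^ n)) :
    ∃ (p : ℕ) (b : B), p.Prime ∧ b ∉ (algebraMap A B).range ∧
      (p : B) * b ∈ (algebraMap A B).range ∧ b ^ p ∈ (algebraMap A B).range := by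
  classical
  haveI : 𝔭.IsPrime := h𝔭.1.1
  obtain ⟨b₁, hb₁⟩ : ∃ b₁, ¬ Rcond 𝔭 𝔮 b₁ := by
    by_contra hno
    push_neg at hno
    exact false_of_forall_Rcond hinj hspec hN 𝔭 h𝔭 𝔮 h𝔮 hno
  rcases hq with rfl | ⟨hqp, hq𝔭⟩
  · obtain ⟨n, hn⟩ := hPI b₁
    rw [one_pow, pow_one] at hn
    exact absurd hn hb₁
  · have hn0 : Nat.find (hPI b₁) ≠ 0 := by
      intro h0
      have := Nat.find_spec (hPI b₁)
      rw [h0, pow_zero, pow_one] at this
      exact hb₁ this
    obtain ⟨m, hm⟩ := Nat.exists_eq_succ_of_ne_zero hn0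
    have hb₂ : ¬ Rcond 𝔭 𝔮 (b₁ ^ q ^ m) := Nat.find_min (hPI b₁) (by omega)
    have hb₂q : Rcond 𝔭 𝔮 ((b₁ ^ q ^ m) ^ q) := by
      have := Nat.find_spec (hPI b₁)
      rw [hm, pow_succ, pow_mul] at this
      exact this
    set b₂ := b₁ ^ q ^ m with hb₂def
    obtain ⟨s, hs, a, hsa⟩ := hb₂q
    obtain ⟨t, ht, r, hr⟩ := exists_mul_mem_range hinj hspec hN 𝔭 h𝔭 𝔮 h𝔮 _ hsa
    have hqB : (q : B) * b₂ ∈ 𝔮 := by
      apply Ideal.mul_mem_right
      have : algebraMap A B (q : A) ∈ 𝔮 := by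
        have : (q : A) ∈ 𝔮.comap (algebraMap A B) := by rw [h𝔮]; exact hq𝔭
        exact this
      rwa [map_natCast] at this
    obtain ⟨t', ht', r', hr'⟩ := exists_mul_mem_range hinj hspec hN 𝔭 h𝔭 𝔮 h𝔮 _ hqB
    have hu : t * s ∉ 𝔭 := fun h => (Ideal.IsPrime.mem_or_mem inferInstance h).elim ht hs
    have hut' : t * s * t' ∉ 𝔭 := fun h => (Ideal.IsPrime.mem_or_mem inferInstance h).elim hu ht'
    have hub : algebraMap A B (t * s) * b₂ ^ q = algebraMap A B (r + t * a) := by
      rw [map_add, hr, map_mul, map_mul]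
      ring
    refine ⟨q, algebraMap A B (t * s * t') * b₂, hqp, ?_, ?_, ?_⟩
    · rintro ⟨a', ha'⟩
      apply hb₂
      refine ⟨t * s * t', hut', a', ?_⟩
      rw [ha', sub_self]
      exact 𝔮.zero_mem
    · refine ⟨t * s * r', ?_⟩
      rw [map_mul, hr', map_mul (algebraMap A B) (t * s) t']
      ring
    · obtain ⟨q', hq'⟩ : ∃ q', q = q' + 1 := ⟨q - 1, by have := hqp.pos; omega⟩
      refine ⟨t' ^ q * (t * s) ^ q' * (r + t * a), ?_⟩
      have e1 : algebraMap A B (t' ^ q * (t * s) ^ q' * (r + t * a)) =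
          algebraMap A B t' ^ q * algebraMap A B (t * s) ^ q' *
            (algebraMap A B (t * s) * b₂ ^ q) := by
        rw [map_mul, map_mul, map_pow, map_pow, hub]
      rw [e1, map_mul (algebraMap A B) (t * s) t', mul_pow, mul_pow]
      generalize algebraMap A B (t * s) = X
      generalize algebraMap A B t' = Y
      rw [hq']
      ring

end Core

end Groth.Agent.Lib.UnivHomeo
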