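import Mathlib
import Groth.Agent.Lib.UnivHomeo3_helper6
import Groth.Agent.Lib.UnivHomeo5_helper6
import Groth.Agent.S7404
set_option autoImplicit false
universe u

namespace Groth.Agent.Lib.UnivHomeo

section Core2

variable {A B : Type u} [CommRing A] [CommRing B] [Algebra A B]

/-- Elements of the residue field at a prime are fractions. -/
theorem residueField_exists_frac (𝔭 : Ideal A) [𝔭.IsPrime] (y : 𝔭.ResidueField) :
    ∃ a s : A, s ∉ 𝔭 ∧
      algebraMap A 𝔭.ResidueField s * y = algebraMap A 𝔭.ResidueField a := by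
  obtain ⟨z, rfl⟩ := IsLocalRing.residue_surjective y
  obtain ⟨a, s, rfl⟩ := IsLocalization.exists_mk'_eq 𝔭.primeCompl z
  refine ⟨a, s, s.2, ?_⟩
  rw [IsScalarTower.algebraMap_apply A (Localization.AtPrime 𝔭) 𝔭.ResidueField,
    IsScalarTower.algebraMap_apply A (Localization.AtPrime 𝔭) 𝔭.ResidueField,
    IsLocalRing.ResidueField.algebraMap_eq, ← map_mul, mul_comm, IsLocalization.mk'_spec]

/-- A prime lying over a given prime, for an injective integral extension. -/
theorem exists_prime_over [Algebra.IsIntegral A B] (hinj : Function.Injective (algebraMap A B))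
    (𝔭 : Ideal A) [𝔭.IsPrime] : ∃ 𝔮 : Ideal B, 𝔮.IsPrime ∧ 𝔮.comap (algebraMap A B) = 𝔭 := by
  obtain ⟨𝔮, -, h1, h2⟩ := Ideal.exists_ideal_over_prime_of_isIntegral 𝔭 (⊥ : Ideal B) (by
    rw [Ideal.comap_bot_of_injective _ hinj]; exact bot_le)
  exact ⟨𝔮, h1, h2⟩

/-- Finite case of the first structure lemma: trivial residue field extensions give `b ∉ A` with
`b², b³ ∈ A`. -/
theorem exists_sq_cube_of_finite [Module.Finite A B]
    (hinj : Function.Injective (algebraMap A B))
    (hns : ¬ Function.Surjective (algebraMap A B))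
    (hspec : Function.Injective (PrimeSpectrum.comap (algebraMap A B)))
    (PE : ∀ (K : Type u) [Field K] (χ : A →+* K), ∃ ψ : B →+* K, ψ.comp (algebraMap A B) = χ) :
    ∃ b : B, b ∉ (algebraMap A B).range ∧ b ^ 2 ∈ (algebraMap A B).range ∧
      b ^ 3 ∈ (algebraMap A B).range := by
  by_contra hno
  have hN : ∀ b : B, b ^ 2 ∈ (algebraMap A B).range → b ^ 3 ∈ (algebraMap A B).range →
      b ∈ (algebraMap A B).range := by
    intro b h2 h3
    by_contra hb
    exact hno ⟨b, hb, h2, h3⟩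
  obtain ⟨𝔭, h𝔭⟩ := Ideal.nonempty_minimalPrimes (cond_ne_top (A := A) (B := B) hns)
  haveI : 𝔭.IsPrime := h𝔭.1.1
  obtain ⟨𝔮, h𝔮p, h𝔮⟩ := exists_prime_over (B := B) hinj 𝔭
  refine false_of_forall_Rcond hinj hspec hN 𝔭 h𝔭 𝔮 h𝔮 ?_
  intro b
  obtain ⟨ψ, hψ⟩ := PE 𝔭.ResidueField (algebraMap A 𝔭.ResidueField)
  have hker : RingHom.ker ψ = 𝔮 := by
    haveI : (RingHom.ker ψ).IsPrime := RingHom.ker_isPrime ψ
    have h1 : (RingHom.ker ψ).comap (algebraMap A B) = 𝔭 := by
      ext a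
      rw [Ideal.mem_comap, RingHom.mem_ker, ← RingHom.comp_apply, hψ,
        Ideal.algebraMap_residueField_eq_zero]
    have := @hspec ⟨RingHom.ker ψ, inferInstance⟩ ⟨𝔮, h𝔮p⟩ (by
      apply PrimeSpectrum.ext
      exact h1.trans h𝔮.symm)
    exact congrArg PrimeSpectrum.asIdeal this
  obtain ⟨a, s, hs, hsa⟩ := residueField_exists_frac 𝔭 (ψ b)
  refine ⟨s, hs, a, ?_⟩
  have e1 : ∀ x : A, ψ (algebraMap A B x) = algebraMap A 𝔭.ResidueField x := fun x => by
    rw [← hψ]; rfl
  rw [← hker, RingHom.mem_ker, map_sub, map_mul, e1, e1, hsa, sub_self]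

/-- From exponential characteristic a prime, get characteristic. -/
theorem charP_of_expChar_of_prime (k : Type u) [Field k] (q : ℕ) [hq : ExpChar k q]
    (hqp : q.Prime) : CharP k q := by
  cases hq with
  | zero => exact absurd hqp Nat.not_prime_one
  | prime _ => assumption

/-- Finite case of the second structure lemma. -/
theorem exists_alt_of_finite [Module.Finite A B]
    (hinj : Function.Injective (algebraMap A B))
    (hns : ¬ Function.Surjective (algebraMap A B))
    (hspec : Function.Injective (PrimeSpectrum.comap (algebraMap A B)))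
    (PU : ∀ (K : Type u) [Field K] (ψ₁ ψ₂ : B →+* K),
      ψ₁.comp (algebraMap A B) = ψ₂.comp (algebraMap A B) → ψ₁ = ψ₂) :
    (∃ b : B, b ∉ (algebraMap A B).range ∧ b ^ 2 ∈ (algebraMap A B).range ∧
      b ^ 3 ∈ (algebraMap A B).range) ∨
    ∃ (p : ℕ) (b : B), p.Prime ∧ b ∉ (algebraMap A B).range ∧
      (p : B) * b ∈ (algebraMap A B).range ∧ b ^ p ∈ (algebraMap A B).range := by
  by_cases hN : ∀ b : B, b ^ 2 ∈ (algebraMap A B).range → b ^ 3 ∈ (algebraMap A B).range →
      b ∈ (algebraMap A B).range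
  swap
  · left
    push_neg at hN
    obtain ⟨b, h2, h3, hb⟩ := hN
    exact ⟨b, hb, h2, h3⟩
  right
  obtain ⟨𝔭, h𝔭⟩ := Ideal.nonempty_minimalPrimes (cond_ne_top (A := A) (B := B) hns)
  haveI : 𝔭.IsPrime := h𝔭.1.1
  obtain ⟨𝔮, h𝔮p, h𝔮⟩ := exists_prime_over (B := B) hinj 𝔭
  let m : 𝔭.ResidueField →+* 𝔮.ResidueField :=
    Ideal.ResidueField.map 𝔭 𝔮 (algebraMap A B) h𝔮.symm
  letI : Algebra 𝔭.ResidueField 𝔮.ResidueField := m.toAlgebra
  have hm : ∀ a : A, m (algebraMap A 𝔭.ResidueField a) =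
      algebraMap B 𝔮.ResidueField (algebraMap A B a) :=
    fun a => Ideal.ResidueField.map_algebraMap 𝔭 𝔮 (algebraMap A B) h𝔮.symm a
  haveI : IsPurelyInseparable 𝔭.ResidueField 𝔮.ResidueField := by
    haveI : Nonempty (𝔮.ResidueField →+* AlgebraicClosure 𝔮.ResidueField) :=
      ⟨algebraMap _ _⟩
    apply IsPurelyInseparable.of_injective_comp_algebraMap _ _ (AlgebraicClosure 𝔮.ResidueField)
    intro f₁ f₂ h12
    have h12' : ∀ x, f₁ (m x) = f₂ (m x) := fun x => RingHom.congr_fun h12 x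
    have := PU (AlgebraicClosure 𝔮.ResidueField) (f₁.comp (algebraMap B 𝔮.ResidueField))
      (f₂.comp (algebraMap B 𝔮.ResidueField)) (by
        ext a
        simp only [RingHom.comp_apply]
        rw [← hm, h12'])
    exact Ideal.ResidueField.ringHom_ext this
  obtain ⟨q, hqE⟩ : ∃ q, ExpChar 𝔭.ResidueField q := ExpChar.exists _
  refine exists_prime_alt hinj hspec hN 𝔭 h𝔭 𝔮 h𝔮 q ?_ ?_
  · rcases expChar_is_prime_or_one 𝔭.ResidueField q with hq | hq
    · right
      refine ⟨hq, ?_⟩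
      haveI : CharP 𝔭.ResidueField q := charP_of_expChar_of_prime _ q hq
      rw [← Ideal.algebraMap_residueField_eq_zero (I := 𝔭), map_natCast]
      exact CharP.cast_eq_zero _ _
    · left; exact hq
  · intro b
    obtain ⟨n, y, hy⟩ := IsPurelyInseparable.pow_mem 𝔭.ResidueField q
      (algebraMap B 𝔮.ResidueField b)
    obtain ⟨a, s, hs, hsa⟩ := residueField_exists_frac 𝔭 y
    refine ⟨n, s, hs, a, ?_⟩
    rw [← Ideal.algebraMap_residueField_eq_zero (I := 𝔮), map_sub, map_mul, map_pow, ← hy, ← hm,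
      ← hm]
    change m _ * m y - m _ = 0
    rw [← map_mul, hsa, sub_self]

end Core2

section Scheme

open AlgebraicGeometry CategoryTheory

variable {A B : Type u} [CommRing A] [CommRing B] [Algebra A B]

/-- Ring-theoretic consequences of `Spec B → Spec A` being a universal homeomorphism. -/
theorem facts_of_isUnivHomeo
    (hU : FlatMor.IsUnivHomeo (Spec.map (CommRingCat.ofHom (algebraMap A B)))) :
    Algebra.IsIntegral A B ∧ Function.Injective (PrimeSpectrum.comap (algebraMap A B)) ∧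
    (∀ (K : Type u) [Field K] (ψ₁ ψ₂ : B →+* K),
      ψ₁.comp (algebraMap A B) = ψ₂.comp (algebraMap A B) → ψ₁ = ψ₂) := by
  obtain ⟨h1, h2, h3⟩ := (isUnivHomeo_iff _).mp hU
  refine ⟨⟨(universallyClosed_SpecMap_iff _).mp h1⟩, ?_, ?_⟩
  · exact (Spec.map (CommRingCat.ofHom (algebraMap A B))).injective
  · exact (universallyInjective_SpecMap_iff _).mp h2

theorem exists_not_mem_range (hns : ¬ Function.Surjective (algebraMap A B)) :
    ∃ b₀ : B, b₀ ∉ (algebraMap A B).range := by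
  by_contra h
  push_neg at h
  exact hns (fun b => h b)

theorem adjoin_mem_range_iff (b₀ : B) (b : Algebra.adjoin A {b₀}) :
    b ∈ (algebraMap A (Algebra.adjoin A {b₀})).range ↔ (b : B) ∈ (algebraMap A B).range := by
  constructor
  · rintro ⟨a, rfl⟩; exact ⟨a, rfl⟩
  · rintro ⟨a, ha⟩; exact ⟨a, Subtype.ext ha⟩

/-- Stacks 0CNE (second structure lemma), algebra form. -/
theorem exists_alt_of_isUnivHomeo
    (hinj : Function.Injective (algebraMap A B)) (hns : ¬ Function.Surjective (algebraMap A B))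
    (hU : FlatMor.IsUnivHomeo (Spec.map (CommRingCat.ofHom (algebraMap A B)))) :
    (∃ b : B, b ∉ (algebraMap A B).range ∧ b ^ 2 ∈ (algebraMap A B).range ∧
      b ^ 3 ∈ (algebraMap A B).range) ∨
    ∃ (p : ℕ) (b : B), p.Prime ∧ b ∉ (algebraMap A B).range ∧
      (p : B) * b ∈ (algebraMap A B).range ∧ b ^ p ∈ (algebraMap A B).range := by
  obtain ⟨hint, -, -⟩ := facts_of_isUnivHomeo hU
  obtain ⟨b₀, hb₀⟩ := exists_not_mem_range hns
  haveI : Module.Finite A (Algebra.adjoin A {b₀}) :=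
    Algebra.finite_adjoin_simple_of_isIntegral (hint.isIntegral b₀)
  have hU₀ := (Groth.Agent.S7404.result (Algebra.adjoin A {b₀})).1 hU
  obtain ⟨-, hspec₀, PU₀⟩ := facts_of_isUnivHomeo hU₀
  have hinj₀ : Function.Injective (algebraMap A (Algebra.adjoin A {b₀})) := fun a a' h =>
    hinj (congrArg Subtype.val h)
  have hns₀ : ¬ Function.Surjective (algebraMap A (Algebra.adjoin A {b₀})) := fun h => by
    obtain ⟨a, ha⟩ := h ⟨b₀, Algebra.subset_adjoin (Set.mem_singleton _)⟩
    exact hb₀ ⟨a, congrArg Subtype.val ha⟩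
  rcases exists_alt_of_finite hinj₀ hns₀ hspec₀ PU₀ with ⟨b, hb, h2, h3⟩ | ⟨p, b, hp, hb, h2, h3⟩
  · left
    refine ⟨b, (adjoin_mem_range_iff b₀ b).not.mp hb, ?_, ?_⟩
    · simpa using (adjoin_mem_range_iff b₀ _).mp h2
    · simpa using (adjoin_mem_range_iff b₀ _).mp h3
  · right
    refine ⟨p, b, hp, (adjoin_mem_range_iff b₀ b).not.mp hb, ?_, ?_⟩
    · simpa using (adjoin_mem_range_iff b₀ _).mp h2
    · simpa using (adjoin_mem_range_iff b₀ _).mp h3

/-- Stacks 0CND (first structure lemma), algebra form. -/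
theorem exists_sq_cube_of_isUnivHomeo
    (hinj : Function.Injective (algebraMap A B)) (hns : ¬ Function.Surjective (algebraMap A B))
    (hU : FlatMor.IsUnivHomeo (Spec.map (CommRingCat.ofHom (algebraMap A B))))
    (hres : ∀ x : Spec (CommRingCat.of B), Function.Surjective
      ((Spec.map (CommRingCat.ofHom (algebraMap A B))).residueFieldMap x)) :
    ∃ b : B, b ∉ (algebraMap A B).range ∧ b ^ 2 ∈ (algebraMap A B).range ∧
      b ^ 3 ∈ (algebraMap A B).range := by
  obtain ⟨hint, -, -⟩ := facts_of_isUnivHomeo hU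
  obtain ⟨b₀, hb₀⟩ := exists_not_mem_range hns
  haveI : Module.Finite A (Algebra.adjoin A {b₀}) :=
    Algebra.finite_adjoin_simple_of_isIntegral (hint.isIntegral b₀)
  obtain ⟨hU₀, hres₀⟩ := (Groth.Agent.S7404.result (Algebra.adjoin A {b₀})).2.1 ⟨hU, hres⟩
  obtain ⟨-, hspec₀, -⟩ := facts_of_isUnivHomeo hU₀
  have hinj₀ : Function.Injective (algebraMap A (Algebra.adjoin A {b₀})) := fun a a' h =>
    hinj (congrArg Subtype.val h)
  have hns₀ : ¬ Function.Surjective (algebraMap A (Algebra.adjoin A {b₀})) := fun h => by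
    obtain ⟨a, ha⟩ := h ⟨b₀, Algebra.subset_adjoin (Set.mem_singleton _)⟩
    exact hb₀ ⟨a, congrArg Subtype.val ha⟩
  haveI : Surjective (Spec.map (CommRingCat.ofHom (algebraMap A (Algebra.adjoin A {b₀})))) :=
    ((isUnivHomeo_iff _).mp hU₀).2.2
  have PE₀ : ∀ (K : Type u) [Field K] (χ : A →+* K),
      ∃ ψ : (Algebra.adjoin A {b₀}) →+* K, ψ.comp (algebraMap A (Algebra.adjoin A {b₀})) = χ :=
    fun K _ χ => exists_ext_of_residueFieldMap_surjective
      (CommRingCat.ofHom (algebraMap A (Algebra.adjoin A {b₀}))) hres₀ K χ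
  obtain ⟨b, hb, h2, h3⟩ := exists_sq_cube_of_finite hinj₀ hns₀ hspec₀ PE₀
  refine ⟨b, (adjoin_mem_range_iff b₀ b).not.mp hb, ?_, ?_⟩
  · simpa using (adjoin_mem_range_iff b₀ _).mp h2
  · simpa using (adjoin_mem_range_iff b₀ _).mp h3

end Scheme

end Groth.Agent.Lib.UnivHomeo
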