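import Mathlib
import Groth.Agent.Lib.UnivHomeo6_helper6
set_option autoImplicit false
universe u

open TensorProduct

namespace Groth.Agent.Lib.UnivHomeo

section Alg

open AlgebraicGeometry CategoryTheory

variable (A B : Type u) [CommRing A] [CommRing B] [Algebra A B]

/-- Uniqueness of extensions of field-valued points. -/
def PU : Prop := ∀ (K : Type u) [Field K] (ψ₁ ψ₂ : B →+* K),
  ψ₁.comp (algebraMap A B) = ψ₂.comp (algebraMap A B) → ψ₁ = ψ₂

/-- Existence of extensions of field-valued points (without field extension). -/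
def PE : Prop := ∀ (K : Type u) [Field K] (χ : A →+* K),
  ∃ ψ : B →+* K, ψ.comp (algebraMap A B) = χ

theorem isUnivHomeo_iff_alg :
    FlatMor.IsUnivHomeo (Spec.map (CommRingCat.ofHom (algebraMap A B))) ↔
      Algebra.IsIntegral A B ∧ PU A B ∧ RingHom.ker (algebraMap A B) ≤ nilradical A := by
  rw [isUnivHomeo_iff]
  constructor
  · rintro ⟨h1, h2, h3⟩
    have hint : (CommRingCat.ofHom (algebraMap A B)).hom.IsIntegral :=
      (universallyClosed_SpecMap_iff _).mp h1
    exact ⟨⟨hint⟩, (universallyInjective_SpecMap_iff _).mp h2,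
      (surjective_SpecMap_iff_of_isIntegral _ hint).mp h3⟩
  · rintro ⟨h1, h2, h3⟩
    have hint : (CommRingCat.ofHom (algebraMap A B)).hom.IsIntegral := h1.isIntegral
    exact ⟨(universallyClosed_SpecMap_iff _).mpr hint, (universallyInjective_SpecMap_iff _).mpr h2,
      (surjective_SpecMap_iff_of_isIntegral _ hint).mpr h3⟩

theorem isUnivHomeo_res_iff_alg :
    (FlatMor.IsUnivHomeo (Spec.map (CommRingCat.ofHom (algebraMap A B))) ∧
      ∀ x : Spec (CommRingCat.of B), Function.Surjective
        ((Spec.map (CommRingCat.ofHom (algebraMap A B))).residueFieldMap x)) ↔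
      Algebra.IsIntegral A B ∧ PU A B ∧ PE A B := by
  constructor
  · rintro ⟨hU, hres⟩
    obtain ⟨h1, h2, -⟩ := (isUnivHomeo_iff_alg A B).mp hU
    refine ⟨h1, h2, ?_⟩
    haveI : Surjective (Spec.map (CommRingCat.ofHom (algebraMap A B))) :=
      ((isUnivHomeo_iff _).mp hU).2.2
    exact fun K _ χ => exists_ext_of_residueFieldMap_surjective
      (CommRingCat.ofHom (algebraMap A B)) hres K χ
  · rintro ⟨h1, h2, h3⟩
    refine ⟨isUnivHomeo_SpecMap_of (CommRingCat.ofHom (algebraMap A B)) h1.isIntegral h2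
      (fun K _ χ => ⟨K, inferInstance, RingHom.id K, ?_⟩),
      fun x => residueFieldMap_surjective_SpecMap_of (CommRingCat.ofHom (algebraMap A B)) h2 h3 x⟩
    obtain ⟨ψ, hψ⟩ := h3 K χ
    exact ⟨ψ, hψ.trans (RingHom.id_comp χ).symm⟩

variable {A B}

/-- Extension of a field-valued point along an integral map with nilpotent kernel, after enlarging
the field. -/
theorem exists_field_ext [Algebra.IsIntegral A B]
    (hker : RingHom.ker (algebraMap A B) ≤ nilradical A) (K : Type u) [Field K] (ψ : A →+* K) :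
    ∃ (K' : Type u) (_ : Field K') (ι : K →+* K') (ψ' : B →+* K'),
      ψ'.comp (algebraMap A B) = ι.comp ψ := by
  haveI h𝔭 : (RingHom.ker ψ).IsPrime := RingHom.ker_isPrime ψ
  have hle : (⊥ : Ideal B).comap (algebraMap A B) ≤ RingHom.ker ψ := by
    intro a ha
    have h1 : a ∈ RingHom.ker (algebraMap A B) := ha
    have h2 := hker h1
    rw [mem_nilradical, nilpotent_iff_mem_prime] at h2
    exact h2 _ h𝔭
  obtain ⟨𝔮, -, h𝔮p, h𝔮⟩ := Ideal.exists_ideal_over_prime_of_isIntegral (RingHom.ker ψ)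
    (⊥ : Ideal B) hle
  let m : (RingHom.ker ψ).ResidueField →+* 𝔮.ResidueField :=
    Ideal.ResidueField.map (RingHom.ker ψ) 𝔮 (algebraMap A B) h𝔮.symm
  have hm : ∀ a : A, m (algebraMap A (RingHom.ker ψ).ResidueField a) =
      algebraMap B 𝔮.ResidueField (algebraMap A B a) :=
    fun a => Ideal.ResidueField.map_algebraMap (RingHom.ker ψ) 𝔮 (algebraMap A B) h𝔮.symm a
  let lift : (RingHom.ker ψ).ResidueField →+* K :=
    Ideal.ResidueField.lift (RingHom.ker ψ) ψ le_rfl (by
      intro a ha
      change IsUnit (ψ a)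
      exact isUnit_iff_ne_zero.mpr (fun h => ha (RingHom.mem_ker.mpr h)))
  have hlift : ∀ a : A, lift (algebraMap A (RingHom.ker ψ).ResidueField a) = ψ a :=
    fun a => Ideal.ResidueField.lift_algebraMap _ _ _ _ _
  letI : Algebra (RingHom.ker ψ).ResidueField 𝔮.ResidueField := m.toAlgebra
  letI : Algebra (RingHom.ker ψ).ResidueField K := lift.toAlgebra
  haveI : Nontrivial (𝔮.ResidueField ⊗[(RingHom.ker ψ).ResidueField] K) :=
    Algebra.TensorProduct.nontrivial_of_algebraMap_injective_of_flat_left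
      (RingHom.ker ψ).ResidueField 𝔮.ResidueField K lift.injective
  obtain ⟨M, hM⟩ := Ideal.exists_maximal (𝔮.ResidueField ⊗[(RingHom.ker ψ).ResidueField] K)
  letI : Field ((𝔮.ResidueField ⊗[(RingHom.ker ψ).ResidueField] K) ⧸ M) :=
    Ideal.Quotient.field M
  refine ⟨(𝔮.ResidueField ⊗[(RingHom.ker ψ).ResidueField] K) ⧸ M, inferInstance,
    (Ideal.Quotient.mk M).comp (Algebra.TensorProduct.includeRight
      (R := (RingHom.ker ψ).ResidueField) (A := 𝔮.ResidueField) (B := K)).toRingHom,
    (Ideal.Quotient.mk M).comp ((Algebra.TensorProduct.includeLeft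
      (R := (RingHom.ker ψ).ResidueField) (S := (RingHom.ker ψ).ResidueField)
      (A := 𝔮.ResidueField) (B := K)).toRingHom.comp (algebraMap B 𝔮.ResidueField)), ?_⟩
  ext a
  simp only [RingHom.comp_apply]
  congr 1
  change (algebraMap B 𝔮.ResidueField (algebraMap A B a)) ⊗ₜ[(RingHom.ker ψ).ResidueField] (1 : K) =
    (1 : 𝔮.ResidueField) ⊗ₜ[(RingHom.ker ψ).ResidueField] (ψ a)
  rw [← hm, ← hlift]
  have e1 : m (algebraMap A (RingHom.ker ψ).ResidueField a) =
      (algebraMap A (RingHom.ker ψ).ResidueField a) • (1 : 𝔮.ResidueField) := by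
    rw [Algebra.smul_def, mul_one]; rfl
  have e2 : lift (algebraMap A (RingHom.ker ψ).ResidueField a) =
      (algebraMap A (RingHom.ker ψ).ResidueField a) • (1 : K) := by
    rw [Algebra.smul_def, mul_one]; rfl
  rw [e1, e2, TensorProduct.smul_tmul]

end Alg

end Groth.Agent.Lib.UnivHomeo
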