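import Mathlib
set_option autoImplicit false
universe u

namespace Groth.Agent.Lib.UnivHomeo

section Tower

variable {A B : Type u} [CommRing A] [CommRing B] [Algebra A B]

/-- Subalgebras reachable from `A` by successively adjoining elements satisfying `P`. -/
inductive Reach (P : Subalgebra A B → B → Prop) : Subalgebra A B → Prop
  | bot : Reach P ⊥
  | step (S : Subalgebra A B) (b : B) : Reach P S → P S b → Reach P (S ⊔ Algebra.adjoin A {b})

variable {P : Subalgebra A B → B → Prop}

theorem Reach.sup (hP : ∀ S T b, S ≤ T → P S b → P T b) {S T : Subalgebra A B}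
    (hS : Reach P S) (hT : Reach P T) : Reach P (S ⊔ T) := by
  induction hT with
  | bot => simpa using hS
  | step T b hT hb ih =>
    rw [← sup_assoc]
    exact Reach.step _ b ih (hP _ _ b le_sup_right hb)

theorem Reach.le_of_closed (C : Subalgebra A B) (hC : ∀ S ≤ C, ∀ b, P S b → b ∈ C)
    {S : Subalgebra A B} (hS : Reach P S) : S ≤ C := by
  induction hS with
  | bot => exact bot_le
  | step S b hS hb ih =>
    exact sup_le ih (Algebra.adjoin_le (Set.singleton_subset_iff.mpr (hC S ih b hb)))

/-- The union of all reachable subalgebras. -/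
def reachUnion (hP : ∀ S T b, S ≤ T → P S b → P T b) : Subalgebra A B where
  carrier := {b | ∃ S, Reach P S ∧ b ∈ S}
  mul_mem' := by
    rintro x y ⟨S, hS, hx⟩ ⟨T, hT, hy⟩
    exact ⟨S ⊔ T, hS.sup hP hT, mul_mem (le_sup_left (a := S) hx) (le_sup_right (b := T) hy)⟩
  add_mem' := by
    rintro x y ⟨S, hS, hx⟩ ⟨T, hT, hy⟩
    exact ⟨S ⊔ T, hS.sup hP hT, add_mem (le_sup_left (a := S) hx) (le_sup_right (b := T) hy)⟩
  algebraMap_mem' := fun r => ⟨⊥, Reach.bot, Subalgebra.algebraMap_mem _ r⟩

theorem mem_reachUnion (hP : ∀ S T b, S ≤ T → P S b → P T b) {b : B} :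
    b ∈ reachUnion hP ↔ ∃ S, Reach P S ∧ b ∈ S := Iff.rfl

theorem reachUnion_closed (hP : ∀ S T b, S ≤ T → P S b → P T b)
    (hfin : ∀ (C : Subalgebra A B) (b : B), P C b → (∀ x ∈ C, ∃ S, Reach P S ∧ x ∈ S) →
      ∃ S, Reach P S ∧ P S b) (b : B) (hb : P (reachUnion hP) b) : b ∈ reachUnion hP := by
  obtain ⟨S, hS, hSb⟩ := hfin _ b hb (fun x hx => hx)
  exact ⟨_, Reach.step S b hS hSb,
    le_sup_right (a := S) (Algebra.subset_adjoin (Set.mem_singleton b))⟩

theorem reach_finset (hP : ∀ S T b, S ≤ T → P S b → P T b) (E : Finset B)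
    (h : ∀ e ∈ E, ∃ S, Reach P S ∧ e ∈ S) : ∃ S, Reach P S ∧ (↑E : Set B) ⊆ S := by
  classical
  induction E using Finset.induction_on with
  | empty => exact ⟨⊥, Reach.bot, by simp⟩
  | insert a E ha ih =>
    obtain ⟨S, hS, hES⟩ := ih (fun e he => h e (Finset.mem_insert_of_mem he))
    obtain ⟨T, hT, haT⟩ := h a (Finset.mem_insert_self a E)
    refine ⟨S ⊔ T, hS.sup hP hT, ?_⟩
    intro x hx
    rw [Finset.coe_insert] at hx
    rcases hx with rfl | hx
    · exact le_sup_right (a := S) haT
    · exact le_sup_left (b := T) (hES hx)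

/-- The elements of the list before position `n`. -/
def prevSet (l : List B) (n : ℕ) : Set B := {x | ∃ j : Fin l.length, j.val < n ∧ x = l.get j}

/-- The list formulation of towers. -/
def TowerAt (P : Subalgebra A B → B → Prop) (l : List B) : Prop :=
  ∀ i : Fin l.length, P (Algebra.adjoin A (prevSet l i.val)) (l.get i)

theorem prevSet_append_singleton (l : List B) (b : B) (n : ℕ) (hn : n ≤ l.length) :
    prevSet (l ++ [b]) n = prevSet l n := by
  ext x
  constructor
  · rintro ⟨j, hj, rfl⟩
    have hj' : j.val < l.length := by omega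
    refine ⟨⟨j.val, hj'⟩, hj, ?_⟩
    simp only [List.get_eq_getElem]
    exact List.getElem_append_left hj'
  · rintro ⟨j, hj, rfl⟩
    refine ⟨⟨j.val, by simp⟩, hj, ?_⟩
    simp only [List.get_eq_getElem]
    exact (List.getElem_append_left j.2).symm

theorem prevSet_length (l : List B) : prevSet l l.length = {x | x ∈ l} := by
  ext x
  constructor
  · rintro ⟨j, -, rfl⟩
    exact List.get_mem l j
  · intro hx
    obtain ⟨j, rfl⟩ := List.get_of_mem hx
    exact ⟨j, j.2, rfl⟩

theorem towerAt_append_singleton (l : List B) (b : B) :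
    TowerAt P (l ++ [b]) ↔ TowerAt P l ∧ P (Algebra.adjoin A {x | x ∈ l}) b := by
  constructor
  · intro h
    refine ⟨fun i => ?_, ?_⟩
    · have := h ⟨i.val, by simp⟩
      rw [prevSet_append_singleton l b _ (le_of_lt i.2)] at this
      simp only [List.get_eq_getElem] at this ⊢
      rwa [List.getElem_append_left i.2] at this
    · have := h ⟨l.length, by simp⟩
      rw [prevSet_append_singleton l b _ le_rfl, prevSet_length] at this
      simpa using this
  · rintro ⟨h1, h2⟩ i
    by_cases hi : i.val < l.length
    · have := h1 ⟨i.val, hi⟩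
      rw [prevSet_append_singleton l b _ (le_of_lt hi)]
      simp only [List.get_eq_getElem] at this ⊢
      rwa [List.getElem_append_left hi]
    · have hi' : i.val = l.length := by
        have := i.2
        simp at this
        omega
      rw [hi', prevSet_append_singleton l b _ le_rfl, prevSet_length]
      have e : (l ++ [b]).get i = b := by
        simp only [List.get_eq_getElem]
        simp [hi']
      rw [e]
      exact h2

theorem reach_iff_exists_list (S : Subalgebra A B) :
    Reach P S ↔ ∃ l : List B, TowerAt P l ∧ S = Algebra.adjoin A {x | x ∈ l} := by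
  constructor
  · intro h
    induction h with
    | bot => exact ⟨[], fun i => i.elim0, by simp⟩
    | step S b hS hb ih =>
      obtain ⟨l, hl, rfl⟩ := ih
      refine ⟨l ++ [b], (towerAt_append_singleton l b).mpr ⟨hl, hb⟩, ?_⟩
      rw [← Algebra.adjoin_union]
      congr 1
      ext x
      simp [or_comm]
  · rintro ⟨l, hl, rfl⟩
    induction l using List.reverseRecOn with
    | nil =>
      have : Algebra.adjoin A {x : B | x ∈ ([] : List B)} = ⊥ := by simp
      rw [this]
      exact Reach.bot
    | append_singleton l b ih =>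
      obtain ⟨h1, h2⟩ := (towerAt_append_singleton l b).mp hl
      have := Reach.step _ b (ih h1) h2
      rw [← Algebra.adjoin_union] at this
      convert this using 2
      ext x
      simp [or_comm]

end Tower

end Groth.Agent.Lib.UnivHomeo
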