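import Mathlib
import Groth.Agent.Lib.UnivHomeo6_helper6
import Groth.Agent.Lib.UnivHomeo7_helper6
set_option autoImplicit false
universe u

namespace Groth.Agent.Lib.UnivHomeo

section Fields

variable {K : Type u} [Field K]

theorem eq_of_sq_eq_of_cube_eq {x y : K} (h2 : x ^ 2 = y ^ 2) (h3 : x ^ 3 = y ^ 3) : x = y := by
  by_cases hx : x = 0
  · subst hx
    have : y ^ 2 = 0 := by rw [← h2]; ring
    exact (pow_eq_zero_iff (two_ne_zero)).mp this |>.symm
  · have hx2 : x ^ 2 ≠ 0 := pow_ne_zero 2 hx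
    have e1 : x ^ 2 * x = x ^ 2 * y := by
      calc x ^ 2 * x = x ^ 3 := by ring
        _ = y ^ 3 := h3
        _ = y ^ 2 * y := by ring
        _ = x ^ 2 * y := by rw [h2]
    exact mul_left_cancel₀ hx2 e1

theorem eq_of_prime_mul_eq_of_pow_eq {x y : K} (p : ℕ) (hp : p.Prime)
    (h1 : (p : K) * x = (p : K) * y) (h2 : x ^ p = y ^ p) : x = y := by
  by_cases hpK : (p : K) = 0
  · haveI : CharP K p := (CharP.charP_iff_prime_eq_zero hp).mpr hpK
    haveI : Fact p.Prime := ⟨hp⟩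
    exact frobenius_inj K p h2
  · exact mul_left_cancel₀ hpK h1

theorem mem_of_sq_mem_of_cube_mem (L : Subfield K) {x : K} (h2 : x ^ 2 ∈ L) (h3 : x ^ 3 ∈ L) :
    x ∈ L := by
  by_cases hx : x = 0
  · subst hx; exact L.zero_mem
  · have hx2 : x ^ 2 ≠ 0 := pow_ne_zero 2 hx
    have : x = x ^ 3 / x ^ 2 := by
      field_simp
    rw [this]
    exact L.div_mem h3 h2

end Fields

section Preds

variable {A B : Type u} [CommRing A] [CommRing B] [Algebra A B]

/-- The step condition of the first structure theorem. -/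
def P1 (S : Subalgebra A B) (b : B) : Prop := b ^ 2 ∈ S ∧ b ^ 3 ∈ S

/-- The step condition of the second structure theorem. -/
def P2 (S : Subalgebra A B) (b : B) : Prop :=
  (b ^ 2 ∈ S ∧ b ^ 3 ∈ S) ∨ ∃ p : ℕ, p.Prime ∧ (p : B) * b ∈ S ∧ b ^ p ∈ S

theorem P1_mono (S T : Subalgebra A B) (b : B) (h : S ≤ T) (hb : P1 S b) : P1 T b :=
  ⟨h hb.1, h hb.2⟩

theorem P2_mono (S T : Subalgebra A B) (b : B) (h : S ≤ T) (hb : P2 S b) : P2 T b := by
  rcases hb with hb | ⟨p, hp, h1, h2⟩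
  · exact Or.inl ⟨h hb.1, h hb.2⟩
  · exact Or.inr ⟨p, hp, h h1, h h2⟩

theorem P1_fin (C : Subalgebra A B) (b : B) (hb : P1 C b)
    (hC : ∀ x ∈ C, ∃ S, Reach (P1 (A := A) (B := B)) S ∧ x ∈ S) :
    ∃ S, Reach (P1 (A := A) (B := B)) S ∧ P1 S b := by
  obtain ⟨S, hS, h2⟩ := hC _ hb.1
  obtain ⟨T, hT, h3⟩ := hC _ hb.2
  exact ⟨S ⊔ T, hS.sup P1_mono hT, le_sup_left (a := S) h2, le_sup_right (b := T) h3⟩

theorem P2_fin (C : Subalgebra A B) (b : B) (hb : P2 C b)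
    (hC : ∀ x ∈ C, ∃ S, Reach (P2 (A := A) (B := B)) S ∧ x ∈ S) :
    ∃ S, Reach (P2 (A := A) (B := B)) S ∧ P2 S b := by
  rcases hb with hb | ⟨p, hp, h1, h2⟩
  · obtain ⟨S, hS, h2⟩ := hC _ hb.1
    obtain ⟨T, hT, h3⟩ := hC _ hb.2
    exact ⟨S ⊔ T, hS.sup P2_mono hT, Or.inl ⟨le_sup_left (a := S) h2, le_sup_right (b := T) h3⟩⟩
  · obtain ⟨S, hS, h1'⟩ := hC _ h1
    obtain ⟨T, hT, h2'⟩ := hC _ h2
    exact ⟨S ⊔ T, hS.sup P2_mono hT,
      Or.inr ⟨p, hp, le_sup_left (a := S) h1', le_sup_right (b := T) h2'⟩⟩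

theorem P1_le_P2 {S : Subalgebra A B} (h : Reach (P1 (A := A) (B := B)) S) :
    Reach (P2 (A := A) (B := B)) S := by
  induction h with
  | bot => exact Reach.bot
  | step S b _ hb ih => exact Reach.step S b ih (Or.inl hb)

/-- Integrality. -/
theorem isIntegral_of_reach_P2 (hall : ∀ b : B, ∃ S, Reach (P2 (A := A) (B := B)) S ∧ b ∈ S) :
    Algebra.IsIntegral A B := by
  refine ⟨fun b => ?_⟩
  obtain ⟨S, hS, hb⟩ := hall b
  have : S ≤ integralClosure A B := by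
    refine hS.le_of_closed _ ?_
    intro T hT x hx
    rcases hx with hx | ⟨p, hp, -, h2⟩
    · exact IsIntegral.of_pow (n := 2) (by norm_num) (hT hx.1)
    · exact IsIntegral.of_pow hp.pos (hT h2)
  exact this hb

/-- The equalizer of two ring maps agreeing on `A`, as a subalgebra. -/
def eqLocusSubalgebra {K : Type u} [CommRing K] (ψ₁ ψ₂ : B →+* K)
    (h : ψ₁.comp (algebraMap A B) = ψ₂.comp (algebraMap A B)) : Subalgebra A B where
  __ := RingHom.eqLocus ψ₁ ψ₂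
  algebraMap_mem' := fun r => congr($h r)

/-- Uniqueness of field-valued points. -/
theorem PU_of_reach_P2 (hall : ∀ b : B, ∃ S, Reach (P2 (A := A) (B := B)) S ∧ b ∈ S)
    (K : Type u) [Field K] (ψ₁ ψ₂ : B →+* K)
    (h : ψ₁.comp (algebraMap A B) = ψ₂.comp (algebraMap A B)) : ψ₁ = ψ₂ := by
  ext b
  obtain ⟨S, hS, hb⟩ := hall b
  have : S ≤ eqLocusSubalgebra ψ₁ ψ₂ h := by
    refine hS.le_of_closed _ ?_
    intro T hT x hx
    change ψ₁ x = ψ₂ x
    rcases hx with hx | ⟨p, hp, h1, h2⟩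
    · apply eq_of_sq_eq_of_cube_eq
      · have : ψ₁ (x ^ 2) = ψ₂ (x ^ 2) := hT hx.1
        simpa using this
      · have : ψ₁ (x ^ 3) = ψ₂ (x ^ 3) := hT hx.2
        simpa using this
    · apply eq_of_prime_mul_eq_of_pow_eq p hp
      · have : ψ₁ ((p : B) * x) = ψ₂ ((p : B) * x) := hT h1
        simpa using this
      · have : ψ₁ (x ^ p) = ψ₂ (x ^ p) := hT h2
        simpa using this
  exact this hb

end Preds

end Groth.Agent.Lib.UnivHomeo
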