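import Mathlib
import Groth.Agent.Lib.UnivHomeo6_helper6
import Groth.Agent.Lib.UnivHomeo7_helper6
import Groth.Agent.Lib.UnivHomeo8_helper6
set_option autoImplicit false
universe u

namespace Groth.Agent.Lib.UnivHomeo

section PE

variable {A B : Type u} [CommRing A] [CommRing B] [Algebra A B]

theorem PE_of_reach_P1 (hinj : Function.Injective (algebraMap A B))
    (hall : ∀ b : B, ∃ S, Reach (P1 (A := A) (B := B)) S ∧ b ∈ S)
    (K : Type u) [Field K] (χ : A →+* K) : ∃ ψ : B →+* K, ψ.comp (algebraMap A B) = χ := by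
  haveI : Algebra.IsIntegral A B := isIntegral_of_reach_P2 (fun b => by
    obtain ⟨S, hS, hb⟩ := hall b
    exact ⟨S, P1_le_P2 hS, hb⟩)
  haveI h𝔭p : (RingHom.ker χ).IsPrime := RingHom.ker_isPrime χ
  obtain ⟨𝔮, h𝔮p, h𝔮⟩ := exists_prime_over (B := B) hinj (RingHom.ker χ)
  let m : (RingHom.ker χ).ResidueField →+* 𝔮.ResidueField :=
    Ideal.ResidueField.map (RingHom.ker χ) 𝔮 (algebraMap A B) h𝔮.symm
  have hm : ∀ a : A, m (algebraMap A (RingHom.ker χ).ResidueField a) =
      algebraMap B 𝔮.ResidueField (algebraMap A B a) :=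
    fun a => Ideal.ResidueField.map_algebraMap (RingHom.ker χ) 𝔮 (algebraMap A B) h𝔮.symm a
  let C : Subalgebra A B :=
    { (m.fieldRange.toSubring.comap (algebraMap B 𝔮.ResidueField)) with
      algebraMap_mem' := fun r => ⟨algebraMap A (RingHom.ker χ).ResidueField r, hm r⟩ }
  have hB : ∀ b : B, algebraMap B 𝔮.ResidueField b ∈ m.fieldRange := by
    intro b
    obtain ⟨S, hS, hb⟩ := hall b
    have : S ≤ C := by
      refine hS.le_of_closed _ ?_
      intro T hT x hx
      change algebraMap B 𝔮.ResidueField x ∈ m.fieldRange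
      apply mem_of_sq_mem_of_cube_mem
      · have : algebraMap B 𝔮.ResidueField (x ^ 2) ∈ m.fieldRange := hT hx.1
        simpa using this
      · have : algebraMap B 𝔮.ResidueField (x ^ 3) ∈ m.fieldRange := hT hx.2
        simpa using this
    exact this hb
  have hsurj : Function.Surjective m := by
    intro y
    obtain ⟨b, s, hs, hsy⟩ := residueField_exists_frac 𝔮 y
    have hs0 : algebraMap B 𝔮.ResidueField s ≠ 0 := by
      rwa [Ne, Ideal.algebraMap_residueField_eq_zero]
    have hy : y = algebraMap B 𝔮.ResidueField b / algebraMap B 𝔮.ResidueField s := by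
      rw [eq_div_iff hs0, mul_comm]
      exact hsy
    have hy' : y ∈ m.fieldRange := by
      rw [hy]
      exact m.fieldRange.div_mem (hB b) (hB s)
    exact hy'
  let e : (RingHom.ker χ).ResidueField ≃+* 𝔮.ResidueField :=
    RingEquiv.ofBijective m ⟨m.injective, hsurj⟩
  let lift : (RingHom.ker χ).ResidueField →+* K :=
    Ideal.ResidueField.lift (RingHom.ker χ) χ le_rfl (by
      intro a ha
      change IsUnit (χ a)
      exact isUnit_iff_ne_zero.mpr (fun h => ha (RingHom.mem_ker.mpr h)))
  refine ⟨lift.comp ((e.symm : 𝔮.ResidueField →+* (RingHom.ker χ).ResidueField).comp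
    (algebraMap B 𝔮.ResidueField)), ?_⟩
  ext a
  simp only [RingHom.comp_apply]
  rw [← hm]
  have h1 : (e.symm : 𝔮.ResidueField →+* (RingHom.ker χ).ResidueField)
      (m (algebraMap A (RingHom.ker χ).ResidueField a)) =
      algebraMap A (RingHom.ker χ).ResidueField a :=
    e.symm_apply_apply (algebraMap A (RingHom.ker χ).ResidueField a)
  rw [h1]
  exact Ideal.ResidueField.lift_algebraMap _ _ _ _ _

end PE

section TowerTop

open AlgebraicGeometry CategoryTheory

variable {A B : Type u} [CommRing A] [CommRing B] [Algebra A B]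

theorem isUnivHomeo_tower_top (B' : Subalgebra A B)
    (hU : FlatMor.IsUnivHomeo (Spec.map (CommRingCat.ofHom (algebraMap A B)))) :
    FlatMor.IsUnivHomeo (Spec.map (CommRingCat.ofHom (algebraMap B' B))) := by
  obtain ⟨hint, -, PU⟩ := facts_of_isUnivHomeo hU
  have hint' : (CommRingCat.ofHom (algebraMap B' B)).hom.IsIntegral := fun b =>
    IsIntegral.tower_top (hint.isIntegral b)
  rw [isUnivHomeo_iff]
  refine ⟨(universallyClosed_SpecMap_iff _).mpr hint', (universallyInjective_SpecMap_iff _).mpr ?_,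
    (surjective_SpecMap_iff_of_isIntegral _ hint').mpr ?_⟩
  · intro K _ ψ₁ ψ₂ h
    apply PU K ψ₁ ψ₂
    ext a
    exact congr($h (algebraMap A B' a))
  · intro x hx
    have : (x : B) = 0 := hx
    have hx0 : x = 0 := Subtype.ext this
    rw [hx0]
    exact zero_mem _

theorem res_tower_top (B' : Subalgebra A B)
    (hU : FlatMor.IsUnivHomeo (Spec.map (CommRingCat.ofHom (algebraMap A B))))
    (hres : ∀ x : Spec (CommRingCat.of B), Function.Surjective
      ((Spec.map (CommRingCat.ofHom (algebraMap A B))).residueFieldMap x))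
    (x : Spec (CommRingCat.of B)) : Function.Surjective
      ((Spec.map (CommRingCat.ofHom (algebraMap B' B))).residueFieldMap x) := by
  obtain ⟨hint, -, PU⟩ := facts_of_isUnivHomeo hU
  obtain ⟨-, -, PU'⟩ := facts_of_isUnivHomeo ((Groth.Agent.S7404.result B').1 hU)
  haveI : Surjective (Spec.map (CommRingCat.ofHom (algebraMap A B))) :=
    ((isUnivHomeo_iff _).mp hU).2.2
  refine residueFieldMap_surjective_SpecMap_of (CommRingCat.ofHom (algebraMap B' B)) ?_ ?_ x
  · intro K _ ψ₁ ψ₂ h
    apply PU K ψ₁ ψ₂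
    ext a
    exact congr($h (algebraMap A B' a))
  · intro K _ χ'
    obtain ⟨ψ, hψ⟩ := exists_ext_of_residueFieldMap_surjective
      (CommRingCat.ofHom (algebraMap A B)) hres K (χ'.comp (algebraMap A B'))
    refine ⟨ψ, ?_⟩
    apply PU' K
    ext a
    exact congr($hψ a)

end TowerTop

section Main

open AlgebraicGeometry CategoryTheory

variable {A B : Type u} [CommRing A] [CommRing B] [Algebra A B]

theorem reachUnion_eq_top_P1
    (hU : FlatMor.IsUnivHomeo (Spec.map (CommRingCat.ofHom (algebraMap A B))))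
    (hres : ∀ x : Spec (CommRingCat.of B), Function.Surjective
      ((Spec.map (CommRingCat.ofHom (algebraMap A B))).residueFieldMap x)) :
    reachUnion (P1_mono (A := A) (B := B)) = ⊤ := by
  by_contra hne
  have hinj' : Function.Injective (algebraMap (reachUnion (P1_mono (A := A) (B := B))) B) :=
    Subtype.val_injective
  have hns' : ¬ Function.Surjective (algebraMap (reachUnion (P1_mono (A := A) (B := B))) B) := by
    intro h
    apply hne
    rw [eq_top_iff]
    intro b _
    obtain ⟨x, rfl⟩ := h b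
    exact x.2
  obtain ⟨b, hb, h2, h3⟩ := exists_sq_cube_of_isUnivHomeo hinj' hns'
    (isUnivHomeo_tower_top _ hU) (res_tower_top _ hU hres)
  apply hb
  have hmem : ∀ x : B, x ∈ (algebraMap (reachUnion (P1_mono (A := A) (B := B))) B).range →
      x ∈ reachUnion (P1_mono (A := A) (B := B)) := by
    rintro _ ⟨x, rfl⟩
    exact x.2
  have : b ∈ reachUnion (P1_mono (A := A) (B := B)) :=
    reachUnion_closed P1_mono P1_fin b ⟨hmem _ h2, hmem _ h3⟩
  exact ⟨⟨b, this⟩, rfl⟩

theorem reachUnion_eq_top_P2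
    (hU : FlatMor.IsUnivHomeo (Spec.map (CommRingCat.ofHom (algebraMap A B)))) :
    reachUnion (P2_mono (A := A) (B := B)) = ⊤ := by
  by_contra hne
  have hinj' : Function.Injective (algebraMap (reachUnion (P2_mono (A := A) (B := B))) B) :=
    Subtype.val_injective
  have hns' : ¬ Function.Surjective (algebraMap (reachUnion (P2_mono (A := A) (B := B))) B) := by
    intro h
    apply hne
    rw [eq_top_iff]
    intro b _
    obtain ⟨x, rfl⟩ := h b
    exact x.2
  have hmem : ∀ x : B, x ∈ (algebraMap (reachUnion (P2_mono (A := A) (B := B))) B).range →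
      x ∈ reachUnion (P2_mono (A := A) (B := B)) := by
    rintro _ ⟨x, rfl⟩
    exact x.2
  rcases exists_alt_of_isUnivHomeo hinj' hns' (isUnivHomeo_tower_top _ hU) with
    ⟨b, hb, h2, h3⟩ | ⟨p, b, hp, hb, h2, h3⟩
  · apply hb
    have : b ∈ reachUnion (P2_mono (A := A) (B := B)) :=
      reachUnion_closed P2_mono P2_fin b (Or.inl ⟨hmem _ h2, hmem _ h3⟩)
    exact ⟨⟨b, this⟩, rfl⟩
  · apply hb
    have : b ∈ reachUnion (P2_mono (A := A) (B := B)) :=
      reachUnion_closed P2_mono P2_fin b (Or.inr ⟨p, hp, hmem _ h2, hmem _ h3⟩)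
    exact ⟨⟨b, this⟩, rfl⟩

theorem tower_of_eq_top {P : Subalgebra A B → B → Prop} (hP : ∀ S T b, S ≤ T → P S b → P T b)
    (h : reachUnion hP = ⊤) (E : Finset B) :
    ∃ l : List B, (↑E : Set B) ⊆ Algebra.adjoin A {b : B | b ∈ l} ∧ TowerAt P l := by
  obtain ⟨S, hS, hES⟩ := reach_finset hP E (fun e _ => by
    have : e ∈ reachUnion hP := by rw [h]; trivial
    exact this)
  obtain ⟨l, hl, rfl⟩ := (reach_iff_exists_list S).mp hS
  exact ⟨l, hES, hl⟩

theorem reach_of_tower {P : Subalgebra A B → B → Prop}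
    (H : ∀ E : Finset B, ∃ l : List B,
      (↑E : Set B) ⊆ Algebra.adjoin A {b : B | b ∈ l} ∧ TowerAt P l) (b : B) :
    ∃ S, Reach P S ∧ b ∈ S := by
  obtain ⟨l, hl, ht⟩ := H {b}
  exact ⟨_, (reach_iff_exists_list _).mpr ⟨l, ht, rfl⟩, hl (by simp)⟩

theorem structure_P1 (hinj : Function.Injective (algebraMap A B)) :
    (FlatMor.IsUnivHomeo (Spec.map (CommRingCat.ofHom (algebraMap A B))) ∧
      ∀ x : Spec (CommRingCat.of B),
        Function.Surjective ((Spec.map (CommRingCat.ofHom (algebraMap A B))).residueFieldMap x)) ↔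
    ∀ E : Finset B, ∃ l : List B, (↑E : Set B) ⊆ Algebra.adjoin A {b : B | b ∈ l} ∧
      TowerAt (P1 (A := A) (B := B)) l := by
  constructor
  · rintro ⟨hU, hres⟩ E
    exact tower_of_eq_top P1_mono (reachUnion_eq_top_P1 hU hres) E
  · intro H
    have hall := reach_of_tower H
    have hall2 : ∀ b : B, ∃ S, Reach (P2 (A := A) (B := B)) S ∧ b ∈ S := fun b => by
      obtain ⟨S, hS, hb⟩ := hall b
      exact ⟨S, P1_le_P2 hS, hb⟩
    have hint := isIntegral_of_reach_P2 hall2
    have PU := PU_of_reach_P2 hall2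
    have PE := PE_of_reach_P1 hinj hall
    refine ⟨isUnivHomeo_SpecMap_of (CommRingCat.ofHom (algebraMap A B)) hint.isIntegral PU
      (fun K _ χ => ⟨K, inferInstance, RingHom.id K, ?_⟩),
      fun x => residueFieldMap_surjective_SpecMap_of _ PU PE x⟩
    obtain ⟨ψ, hψ⟩ := PE K χ
    exact ⟨ψ, hψ.trans (RingHom.id_comp χ).symm⟩

theorem structure_P2 (hinj : Function.Injective (algebraMap A B)) :
    FlatMor.IsUnivHomeo (Spec.map (CommRingCat.ofHom (algebraMap A B))) ↔
    ∀ E : Finset B, ∃ l : List B, (↑E : Set B) ⊆ Algebra.adjoin A {b : B | b ∈ l} ∧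
      TowerAt (P2 (A := A) (B := B)) l := by
  constructor
  · intro hU E
    exact tower_of_eq_top P2_mono (reachUnion_eq_top_P2 hU) E
  · intro H
    have hall2 := reach_of_tower H
    have hint := isIntegral_of_reach_P2 hall2
    have PU := PU_of_reach_P2 hall2
    have hint' : (CommRingCat.ofHom (algebraMap A B)).hom.IsIntegral := hint.isIntegral
    rw [isUnivHomeo_iff]
    refine ⟨(universallyClosed_SpecMap_iff _).mpr hint',
      (universallyInjective_SpecMap_iff _).mpr PU,
      (surjective_SpecMap_iff_of_isIntegral _ hint').mpr ?_⟩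
    intro x hx
    have : x = 0 := hinj (by rw [map_zero]; exact hx)
    rw [this]
    exact zero_mem _

end Main

end Groth.Agent.Lib.UnivHomeo
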