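import Mathlib
import Groth.Agent.Lib.UnivHomeo9_helper6
import Groth.Agent.Lib.UnivHomeo12_helper6
import Groth.Agent.S7402
import Groth.Agent.S7403
import Groth.Prelude.Def_HTop2
set_option autoImplicit false
universe u

open Polynomial

namespace Groth.Agent.Lib.UnivHomeo

section Reduced

variable {R : Type u} [CommRing R] [IsReduced R]

theorem eq_of_sq_eq_of_cube_eq_of_isReduced {a b : R} (h2 : a ^ 2 = b ^ 2) (h3 : a ^ 3 = b ^ 3) :
    a = b := by
  have : (a - b) ^ 3 = 0 := by linear_combination 4 * h3 - (3 * b + 3 * a) * h2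
  exact sub_eq_zero.mp (IsReduced.eq_zero _ ⟨3, this⟩)

theorem eq_of_prime_mul_eq_of_pow_eq_of_isReduced {a b : R} (p : ℕ) (hp : p.Prime)
    (h1 : (p : R) * a = (p : R) * b) (h2 : a ^ p = b ^ p) : a = b := by
  have hnil : IsNilpotent (a - b) := by
    rw [nilpotent_iff_mem_prime]
    intro 𝔮 h𝔮
    rw [← Ideal.algebraMap_residueField_eq_zero (I := 𝔮), map_sub, sub_eq_zero]
    apply eq_of_prime_mul_eq_of_pow_eq p hp
    · have := congrArg (algebraMap R 𝔮.ResidueField) h1
      simpa using this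
    · have := congrArg (algebraMap R 𝔮.ResidueField) h2
      simpa using this
  exact sub_eq_zero.mp (IsReduced.eq_zero _ hnil)

end Reduced

section AWNring

theorem isReduced_of_isSeminormalRing {R : Type u} [CommRing R] (h : HTop.IsSeminormalRing R) :
    IsReduced R := by
  rw [isReduced_iff_pow_one_lt 2 (by norm_num)]
  intro n hn
  obtain ⟨a, -, hu⟩ := h 0 0 (by ring)
  have h0 : (0 : R) = a := hu 0 ⟨by ring, by ring⟩
  have h1 : n = a := hu n ⟨hn.symm, by rw [pow_succ, hn, zero_mul]⟩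
  rw [h1, ← h0]

theorem isAWNRing_of_ringEquiv {B W : Type u} [CommRing B] [CommRing W] (e : B ≃+* W)
    (hW : HTop.IsAWNRing W) : HTop.IsAWNRing B := by
  constructor
  · intro x y hxy
    obtain ⟨a, ⟨ha1, ha2⟩, hu⟩ := hW.1 (e x) (e y) (by rw [← map_pow, ← map_pow, hxy])
    refine ⟨e.symm a, ⟨?_, ?_⟩, ?_⟩
    · apply e.injective; rw [map_pow, e.apply_symm_apply]; exact ha1
    · apply e.injective; rw [map_pow, e.apply_symm_apply]; exact ha2
    · rintro b ⟨hb1, hb2⟩
      apply e.injective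
      rw [e.apply_symm_apply]
      exact hu (e b) ⟨by rw [hb1, map_pow], by rw [hb2, map_pow]⟩
  · intro p hp x y hxy
    obtain ⟨a, ⟨ha1, ha2⟩, hu⟩ := hW.2 p hp (e x) (e y) (by
      have := congrArg e hxy
      simpa using this)
    refine ⟨e.symm a, ⟨?_, ?_⟩, ?_⟩
    · apply e.injective; rw [map_pow, e.apply_symm_apply]; exact ha1
    · apply e.injective; rw [map_mul, map_natCast, e.apply_symm_apply]; exact ha2
    · rintro b ⟨hb1, hb2⟩
      apply e.injective
      rw [e.apply_symm_apply]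
      exact hu (e b) ⟨by rw [hb1, map_pow], by rw [hb2, map_mul, map_natCast]⟩

end AWNring

section Comp

open AlgebraicGeometry CategoryTheory

theorem isUnivHomeo_comp {X Y Z : Scheme.{u}} (f : X ⟶ Y) (g : Y ⟶ Z)
    (hf : FlatMor.IsUnivHomeo f) (hg : FlatMor.IsUnivHomeo g) : FlatMor.IsUnivHomeo (f ≫ g) := by
  rw [isUnivHomeo_iff] at hf hg ⊢
  obtain ⟨f1, f2, f3⟩ := hf
  obtain ⟨g1, g2, g3⟩ := hg
  exact ⟨inferInstance, MorphismProperty.comp_mem _ f g f2 g2, inferInstance⟩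

theorem isUnivHomeo_ringHom_comp {A B C : Type u} [CommRing A] [CommRing B] [CommRing C]
    (f : A →+* B) (g : B →+* C) (hf : FlatMor.IsUnivHomeo (Spec.map (CommRingCat.ofHom f)))
    (hg : FlatMor.IsUnivHomeo (Spec.map (CommRingCat.ofHom g))) :
    FlatMor.IsUnivHomeo (Spec.map (CommRingCat.ofHom (g.comp f))) := by
  have : CommRingCat.ofHom (g.comp f) = CommRingCat.ofHom f ≫ CommRingCat.ofHom g := rfl
  rw [this, Spec.map_comp]
  exact isUnivHomeo_comp _ _ hg hf

end Comp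

section AWN

open AlgebraicGeometry CategoryTheory

variable {A W : Type u} [CommRing A] [CommRing W] {φ : A →+* W}

theorem awn_endo_eq_id (hφ : HTop.IsRingAWN φ) (θ : W →+* W) (hθ : θ.comp φ = φ) :
    θ = RingHom.id W := by
  obtain ⟨χ, -, hu⟩ := hφ.2 W φ hφ.1
  rw [hu θ hθ, hu (RingHom.id W) (RingHom.id_comp φ)]

theorem awn_exists_retraction (hφ : HTop.IsRingAWN φ) {W' : Type u} [CommRing W']
    (ρ : W →+* W') (hρ : FlatMor.IsUnivHomeo (Spec.map (CommRingCat.ofHom ρ))) :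
    ∃ r : W' →+* W, r.comp ρ = RingHom.id W := by
  obtain ⟨r, hr, -⟩ := hφ.2 W' (ρ.comp φ) (isUnivHomeo_ringHom_comp φ ρ hφ.1 hρ)
  exact ⟨r, awn_endo_eq_id hφ _ (by rw [RingHom.comp_assoc]; exact hr)⟩

theorem awn_isReduced (hφ : HTop.IsRingAWN φ) : IsReduced W := by
  have hρ : FlatMor.IsUnivHomeo (Spec.map (CommRingCat.ofHom
      (algebraMap W (W ⧸ nilradical W)))) := by
    rw [isUnivHomeo_iff_alg]
    refine ⟨⟨fun x => ?_⟩, ?_, ?_⟩
    · obtain ⟨w, rfl⟩ := Ideal.Quotient.mk_surjective x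
      exact isIntegral_algebraMap
    · intro K _ ψ₁ ψ₂ h12
      exact Ideal.Quotient.ringHom_ext h12
    · intro w hw
      have : Ideal.Quotient.mk (nilradical W) w = 0 := hw
      exact Ideal.Quotient.eq_zero_iff_mem.mp this
  obtain ⟨r, hr⟩ := awn_exists_retraction hφ _ hρ
  constructor
  intro w hw
  have h1 : algebraMap W (W ⧸ nilradical W) w = 0 :=
    Ideal.Quotient.eq_zero_iff_mem.mpr (mem_nilradical.mpr hw)
  have h2 : r (algebraMap W (W ⧸ nilradical W) w) = w := congr($hr w)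
  rw [← h2, h1, map_zero]

theorem awn_isAWNRing (hφ : HTop.IsRingAWN φ) : HTop.IsAWNRing W := by
  haveI := awn_isReduced hφ
  constructor
  · intro x y hxy
    obtain ⟨r, hr⟩ := awn_exists_retraction hφ _ (Groth.Agent.S7402.result W x y hxy).1
    have hr' : ∀ w : W, r (Ideal.Quotient.mk
        (Ideal.span ({X ^ 2 - C x, X ^ 3 - C y} : Set W[X])) (C w)) = w := fun w => congr($hr w)
    have h02 : Ideal.Quotient.mk (Ideal.span ({X ^ 2 - C x, X ^ 3 - C y} : Set W[X])) X ^ 2 =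
        Ideal.Quotient.mk (Ideal.span ({X ^ 2 - C x, X ^ 3 - C y} : Set W[X])) (C x) := by
      rw [← map_pow, ← sub_eq_zero, ← map_sub]
      exact Ideal.Quotient.eq_zero_iff_mem.mpr (Ideal.subset_span (by simp))
    have h03 : Ideal.Quotient.mk (Ideal.span ({X ^ 2 - C x, X ^ 3 - C y} : Set W[X])) X ^ 3 =
        Ideal.Quotient.mk (Ideal.span ({X ^ 2 - C x, X ^ 3 - C y} : Set W[X])) (C y) := by
      rw [← map_pow, ← sub_eq_zero, ← map_sub]
      exact Ideal.Quotient.eq_zero_iff_mem.mpr (Ideal.subset_span (by simp))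
    have e1 : r (Ideal.Quotient.mk (Ideal.span ({X ^ 2 - C x, X ^ 3 - C y} : Set W[X])) X) ^ 2
        = x := by
      rw [← map_pow, h02, hr']
    have e2 : r (Ideal.Quotient.mk (Ideal.span ({X ^ 2 - C x, X ^ 3 - C y} : Set W[X])) X) ^ 3
        = y := by
      rw [← map_pow, h03, hr']
    refine ⟨r (Ideal.Quotient.mk (Ideal.span ({X ^ 2 - C x, X ^ 3 - C y} : Set W[X])) X),
      ⟨e1.symm, e2.symm⟩, ?_⟩
    rintro b ⟨hb1, hb2⟩
    apply eq_of_sq_eq_of_cube_eq_of_isReduced
    · rw [← hb1, e1]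
    · rw [← hb2, e2]
  · intro p hp x y hxy
    obtain ⟨r, hr⟩ := awn_exists_retraction hφ _ (Groth.Agent.S7403.result W p hp x y hxy)
    have hr' : ∀ w : W, r (Ideal.Quotient.mk
        (Ideal.span ({X ^ p - C x, C (p : W) * X - C y} : Set W[X])) (C w)) = w :=
      fun w => congr($hr w)
    have h01 : Ideal.Quotient.mk (Ideal.span ({X ^ p - C x, C (p : W) * X - C y} : Set W[X])) X ^ p
        = Ideal.Quotient.mk (Ideal.span ({X ^ p - C x, C (p : W) * X - C y} : Set W[X])) (C x) := by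
      rw [← map_pow, ← sub_eq_zero, ← map_sub]
      exact Ideal.Quotient.eq_zero_iff_mem.mpr (Ideal.subset_span (by simp))
    have h02 : Ideal.Quotient.mk (Ideal.span ({X ^ p - C x, C (p : W) * X - C y} : Set W[X]))
          (C (p : W)) *
        Ideal.Quotient.mk (Ideal.span ({X ^ p - C x, C (p : W) * X - C y} : Set W[X])) X
        = Ideal.Quotient.mk (Ideal.span ({X ^ p - C x, C (p : W) * X - C y} : Set W[X])) (C y) := by
      rw [← map_mul, ← sub_eq_zero, ← map_sub]
      exact Ideal.Quotient.eq_zero_iff_mem.mpr (Ideal.subset_span (by simp))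
    have e1 : r (Ideal.Quotient.mk
        (Ideal.span ({X ^ p - C x, C (p : W) * X - C y} : Set W[X])) X) ^ p = x := by
      rw [← map_pow, h01, hr']
    have e2 : (p : W) * r (Ideal.Quotient.mk
        (Ideal.span ({X ^ p - C x, C (p : W) * X - C y} : Set W[X])) X) = y := by
      have h1 := congrArg r h02
      rw [map_mul, hr', hr'] at h1
      exact h1
    refine ⟨r (Ideal.Quotient.mk
      (Ideal.span ({X ^ p - C x, C (p : W) * X - C y} : Set W[X])) X), ⟨e1.symm, e2.symm⟩, ?_⟩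
    rintro b ⟨hb1, hb2⟩
    apply eq_of_prime_mul_eq_of_pow_eq_of_isReduced p hp
    · rw [← hb2, e2]
    · rw [← hb1, e1]

end AWN

section Comparison

open AlgebraicGeometry CategoryTheory

theorem isUnivHomeo_of_comp {A B W : Type u} [CommRing A] [CommRing B] [CommRing W]
    (ψ : A →+* B) (χ : B →+* W)
    (hψ : FlatMor.IsUnivHomeo (Spec.map (CommRingCat.ofHom ψ)))
    (hφ : FlatMor.IsUnivHomeo (Spec.map (CommRingCat.ofHom (χ.comp ψ)))) :
    FlatMor.IsUnivHomeo (Spec.map (CommRingCat.ofHom χ)) := by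
  letI : Algebra A B := ψ.toAlgebra
  letI : Algebra B W := χ.toAlgebra
  letI : Algebra A W := (χ.comp ψ).toAlgebra
  haveI : IsScalarTower A B W := IsScalarTower.of_algebraMap_eq (fun _ => rfl)
  obtain ⟨hintW, hPUW, hkerW⟩ := (isUnivHomeo_iff_alg A W).mp hφ
  obtain ⟨-, hspecB, -⟩ := facts_of_isUnivHomeo (A := A) (B := B) hψ
  change FlatMor.IsUnivHomeo (Spec.map (CommRingCat.ofHom (algebraMap B W)))
  rw [isUnivHomeo_iff_alg B W]
  refine ⟨Algebra.IsIntegral.tower_top A, ?_, ?_⟩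
  · intro K _ ψ₁ ψ₂ h
    apply hPUW K ψ₁ ψ₂
    ext a
    exact congr($h (algebraMap A B a))
  · intro b hb
    rw [mem_nilradical, nilpotent_iff_mem_prime]
    intro 𝔮 h𝔮
    have hle : (⊥ : Ideal W).comap (algebraMap A W) ≤ 𝔮.comap (algebraMap A B) := by
      intro a ha
      have h1 : a ∈ RingHom.ker (algebraMap A W) := ha
      have h2 := hkerW h1
      rw [mem_nilradical, nilpotent_iff_mem_prime] at h2
      exact h2 _ inferInstance
    obtain ⟨𝔴, -, h𝔴p, h𝔴⟩ := Ideal.exists_ideal_over_prime_of_isIntegral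
      (𝔮.comap (algebraMap A B)) (⊥ : Ideal W) hle
    have h1 : (𝔴.comap (algebraMap B W)).comap (algebraMap A B) = 𝔮.comap (algebraMap A B) := by
      rw [Ideal.comap_comap, ← IsScalarTower.algebraMap_eq]
      exact h𝔴
    have h2 := @hspecB ⟨𝔴.comap (algebraMap B W), inferInstance⟩ ⟨𝔮, h𝔮⟩ (by
      apply PrimeSpectrum.ext
      exact h1)
    have h3 : 𝔴.comap (algebraMap B W) = 𝔮 := congrArg PrimeSpectrum.asIdeal h2
    rw [← h3, Ideal.mem_comap, RingHom.mem_ker.mp hb]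
    exact zero_mem _

theorem bijective_of_isAWNRing {B W : Type u} [CommRing B] [CommRing W] [IsReduced W]
    (χ : B →+* W) (hχ : FlatMor.IsUnivHomeo (Spec.map (CommRingCat.ofHom χ)))
    (hB : HTop.IsAWNRing B) : Function.Bijective χ := by
  haveI := isReduced_of_isSeminormalRing hB.1
  letI : Algebra B W := χ.toAlgebra
  have hχ' : FlatMor.IsUnivHomeo (Spec.map (CommRingCat.ofHom (algebraMap B W))) := hχ
  obtain ⟨hint, hPU, hker⟩ := (isUnivHomeo_iff_alg B W).mp hχ'
  have hinj : Function.Injective (algebraMap B W) := by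
    rw [RingHom.injective_iff_ker_eq_bot, eq_bot_iff]
    intro b hb
    have := hker hb
    rw [nilradical_eq_zero] at this
    exact this
  refine ⟨hinj, ?_⟩
  have H := (structure_P2 (A := B) (B := W) hinj).mp hχ'
  have hall := reach_of_tower H
  intro w
  obtain ⟨S, hS, hw⟩ := hall w
  have hle : S ≤ ⊥ := by
    refine hS.le_of_closed ⊥ ?_
    intro T hT w hw
    rcases hw with ⟨h2, h3⟩ | ⟨p, hp, h1, h2⟩
    · obtain ⟨x, hx⟩ := Algebra.mem_bot.mp (hT h2)
      obtain ⟨y, hy⟩ := Algebra.mem_bot.mp (hT h3)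
      have hxy : x ^ 3 = y ^ 2 := hinj (by rw [map_pow, map_pow, hx, hy]; ring)
      obtain ⟨a, ⟨ha1, ha2⟩, -⟩ := hB.1 x y hxy
      have : algebraMap B W a = w := eq_of_sq_eq_of_cube_eq_of_isReduced
        (by rw [← map_pow, ← ha1, hx]) (by rw [← map_pow, ← ha2, hy])
      exact Algebra.mem_bot.mpr ⟨a, this⟩
    · obtain ⟨y, hy⟩ := Algebra.mem_bot.mp (hT h1)
      obtain ⟨x, hx⟩ := Algebra.mem_bot.mp (hT h2)
      have hxy : (p : B) ^ p * x = y ^ p := hinj (by
        rw [map_mul, map_pow, map_natCast, map_pow, hx, hy, mul_pow])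
      obtain ⟨a, ⟨ha1, ha2⟩, -⟩ := hB.2 p hp x y hxy
      have : algebraMap B W a = w := eq_of_prime_mul_eq_of_pow_eq_of_isReduced p hp
        (by rw [← hy, ha2, map_mul, map_natCast]) (by rw [← map_pow, ← ha1, hx])
      exact Algebra.mem_bot.mpr ⟨a, this⟩
  obtain ⟨b, hb⟩ := Algebra.mem_bot.mp (hle hw)
  exact ⟨b, hb⟩

theorem awn_comparison {A B W : Type u} [CommRing A] [CommRing B] [CommRing W]
    (φ : A →+* W) (hφ : HTop.IsRingAWN φ) (ψ : A →+* B)
    (hψ : FlatMor.IsUnivHomeo (Spec.map (CommRingCat.ofHom ψ))) (χ : B →+* W)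
    (hχ : χ.comp ψ = φ) : Function.Bijective χ ↔ HTop.IsAWNRing B := by
  constructor
  · intro hbij
    exact isAWNRing_of_ringEquiv (RingEquiv.ofBijective χ hbij) (awn_isAWNRing hφ)
  · intro hB
    haveI := awn_isReduced hφ
    exact bijective_of_isAWNRing χ (isUnivHomeo_of_comp ψ χ hψ (hχ ▸ hφ.1)) hB

end Comparison

end Groth.Agent.Lib.UnivHomeo
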