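import Mathlib
set_option autoImplicit false
universe u

namespace Groth.Agent.Lib.UnivHomeo

section Binom

variable {B : Type u} [CommRing B] (R : Subring B) (p : ℕ)

/-- `b` has its `p^n`-multiple and `p^n`-th power in `R`. -/
def Good (n : ℕ) (b : B) : Prop := (p : B) ^ n * b ∈ R ∧ b ^ (p ^ n) ∈ R

variable {R p}

theorem Good.mono {n n' : ℕ} {b : B} (h : Good R p n b) (hn : n ≤ n') : Good R p n' b := by
  obtain ⟨d, rfl⟩ := Nat.exists_eq_add_of_le hn
  constructor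
  · rw [pow_add, mul_comm ((p : B) ^ n), mul_assoc]
    exact R.mul_mem (R.pow_mem (natCast_mem R p) d) h.1
  · rw [pow_add, pow_mul]
    exact R.pow_mem h.2 _

theorem good_of_mem {b : B} (h : b ∈ R) : Good R p 0 b := by
  constructor
  · simpa using h
  · simpa using h

theorem Good.mul {n : ℕ} {b b' : B} (h : Good R p n b) (h' : Good R p n b') :
    Good R p (n + n) (b * b') := by
  constructor
  · have : (p : B) ^ (n + n) * (b * b') = ((p : B) ^ n * b) * ((p : B) ^ n * b') := by ring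
    rw [this]
    exact R.mul_mem h.1 h'.1
  · rw [mul_pow]
    exact R.mul_mem (h.mono (Nat.le_add_right n n)).2 (h'.mono (Nat.le_add_right n n)).2

theorem Good.pow_mul_mem {n : ℕ} {b b' : B} (h : Good R p n b) (h' : Good R p n b')
    (r s : ℕ) (hr : r ≤ p ^ n) (hs : s ≤ p ^ n) :
    (p : B) ^ (2 * n * p ^ n) * (b ^ r * b' ^ s) ∈ R := by
  have h1 : ((p : B) ^ n * b) ^ r * ((p : B) ^ n * b') ^ s ∈ R :=
    R.mul_mem (R.pow_mem h.1 _) (R.pow_mem h'.1 _)
  have hle : n * (r + s) ≤ 2 * n * p ^ n := by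
    calc n * (r + s) ≤ n * (p ^ n + p ^ n) := Nat.mul_le_mul_left _ (Nat.add_le_add hr hs)
      _ = 2 * n * p ^ n := by ring
  obtain ⟨d, hd⟩ := Nat.exists_eq_add_of_le hle
  have : (p : B) ^ (2 * n * p ^ n) * (b ^ r * b' ^ s) =
      (p : B) ^ d * (((p : B) ^ n * b) ^ r * ((p : B) ^ n * b') ^ s) := by
    rw [hd, mul_pow, mul_pow, ← pow_mul, ← pow_mul, pow_add, mul_add, pow_add]
    ring
  rw [this]
  exact R.mul_mem (R.pow_mem (natCast_mem R p) d) h1

theorem Good.term_mem (hp : p.Prime) {n : ℕ} {b b' : B} (h : Good R p n b) (h' : Good R p n b')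
    (i : ℕ) (hi : i ≤ p ^ (2 * n * p ^ n + n)) :
    b ^ i * b' ^ (p ^ (2 * n * p ^ n + n) - i) * ((p ^ (2 * n * p ^ n + n)).choose i : B) ∈ R := by
  set N := 2 * n * p ^ n + n with hN
  have hpn : p ^ n ∣ p ^ N := pow_dvd_pow p (by omega)
  have hpos : 0 < p ^ n := pow_pos hp.pos n
  by_cases hdiv : p ^ n ∣ i
  · obtain ⟨i', rfl⟩ := hdiv
    have : p ^ n ∣ p ^ N - p ^ n * i' := Nat.dvd_sub hpn (dvd_mul_right _ _)
    obtain ⟨j', hj'⟩ := this
    rw [hj', pow_mul, pow_mul]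
    exact R.mul_mem (R.mul_mem (R.pow_mem h.2 _) (R.pow_mem h'.2 _)) (natCast_mem R _)
  · have hi0 : i ≠ 0 := fun h0 => hdiv (h0 ▸ dvd_zero _)
    have hv : i.factorization p < n := by
      by_contra hge
      push_neg at hge
      exact hdiv ((pow_dvd_pow p hge).trans (Nat.ordProj_dvd i p))
    have hC : p ^ (N - i.factorization p) ∣ (p ^ N).choose i := by
      have := Nat.factorization_choose_prime_pow hp hi hi0
      rw [← this]
      exact Nat.ordProj_dvd _ _
    have hC' : p ^ (2 * n * p ^ n) ∣ (p ^ N).choose i := (pow_dvd_pow p (by omega)).trans hC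
    obtain ⟨c, hc⟩ := hC'
    rw [hc]
    have ei : b ^ i = (b ^ (p ^ n)) ^ (i / p ^ n) * b ^ (i % p ^ n) := by
      rw [← pow_mul, ← pow_add, Nat.div_add_mod]
    have ej : b' ^ (p ^ N - i) =
        (b' ^ (p ^ n)) ^ ((p ^ N - i) / p ^ n) * b' ^ ((p ^ N - i) % p ^ n) := by
      rw [← pow_mul, ← pow_add, Nat.div_add_mod]
    rw [ei, ej]
    push_cast
    have key := h.pow_mul_mem h' (i % p ^ n) ((p ^ N - i) % p ^ n)
      (Nat.mod_lt _ hpos).le (Nat.mod_lt _ hpos).le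
    have e3 : (b ^ p ^ n) ^ (i / p ^ n) * b ^ (i % p ^ n) *
        ((b' ^ p ^ n) ^ ((p ^ N - i) / p ^ n) * b' ^ ((p ^ N - i) % p ^ n)) *
        ((p : B) ^ (2 * n * p ^ n) * (c : B)) =
        (b ^ p ^ n) ^ (i / p ^ n) * (b' ^ p ^ n) ^ ((p ^ N - i) / p ^ n) * (c : B) *
        ((p : B) ^ (2 * n * p ^ n) * (b ^ (i % p ^ n) * b' ^ ((p ^ N - i) % p ^ n))) := by
      ring
    rw [e3]
    exact R.mul_mem (R.mul_mem (R.mul_mem (R.pow_mem h.2 _) (R.pow_mem h'.2 _))
      (natCast_mem R c)) key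

theorem Good.add (hp : p.Prime) {n : ℕ} {b b' : B} (h : Good R p n b) (h' : Good R p n b') :
    Good R p (2 * n * p ^ n + n) (b + b') := by
  constructor
  · rw [mul_add]
    exact R.add_mem (h.mono (by omega)).1 (h'.mono (by omega)).1
  · rw [add_pow]
    exact R.sum_mem (fun i hi => h.term_mem hp h' i (Finset.mem_range_succ_iff.mp hi))

theorem good_add_exists (hp : p.Prime) {b b' : B} (h : ∃ n, Good R p n b)
    (h' : ∃ n, Good R p n b') : ∃ n, Good R p n (b + b') := by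
  obtain ⟨n, hn⟩ := h
  obtain ⟨n', hn'⟩ := h'
  exact ⟨_, (hn.mono (le_max_left n n')).add hp (hn'.mono (le_max_right n n'))⟩

theorem good_mul_exists {b b' : B} (h : ∃ n, Good R p n b)
    (h' : ∃ n, Good R p n b') : ∃ n, Good R p n (b * b') := by
  obtain ⟨n, hn⟩ := h
  obtain ⟨n', hn'⟩ := h'
  exact ⟨_, (hn.mono (le_max_left n n')).mul (hn'.mono (le_max_right n n'))⟩

end Binom

end Groth.Agent.Lib.UnivHomeo
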