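import Mathlib
import Groth.Agent.Lib.UnivHomeo9_helper6
import Groth.Agent.Lib.UnivHomeo10_helper6
set_option autoImplicit false
universe u

namespace Groth.Agent.Lib.UnivHomeo

section Main418

open AlgebraicGeometry CategoryTheory

variable {A B : Type u} [CommRing A] [CommRing B] [Algebra A B]

/-- The subalgebra of elements with a `p`-power multiple and a `p`-power power in `A`. -/
def goodSubalgebra (p : ℕ) (hp : p.Prime) : Subalgebra A B where
  carrier := {b | ∃ n, Good (algebraMap A B).range p n b}
  mul_mem' := good_mul_exists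
  add_mem' := good_add_exists hp
  algebraMap_mem' := fun r => ⟨0, good_of_mem ⟨r, rfl⟩⟩

theorem goodSubalgebra_eq_top (p : ℕ) (hp : p.Prime)
    (hsurj : ∀ b : B, ∃ k : ℕ, (p : B) ^ k * b ∈ (algebraMap A B).range)
    (hU : FlatMor.IsUnivHomeo (Spec.map (CommRingCat.ofHom (algebraMap A B)))) :
    goodSubalgebra (A := A) (B := B) p hp = ⊤ := by
  by_contra hne
  have hinj' : Function.Injective (algebraMap (goodSubalgebra (A := A) (B := B) p hp) B) :=
    Subtype.val_injective
  have hns' : ¬ Function.Surjective (algebraMap (goodSubalgebra (A := A) (B := B) p hp) B) := by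
    intro h
    apply hne
    rw [eq_top_iff]
    intro b _
    obtain ⟨x, rfl⟩ := h b
    exact x.2
  have hmem : ∀ x : B, x ∈ (algebraMap (goodSubalgebra (A := A) (B := B) p hp) B).range →
      x ∈ goodSubalgebra (A := A) (B := B) p hp := by
    rintro _ ⟨x, rfl⟩
    exact x.2
  have hRB' : ∀ x : B, x ∈ (algebraMap A B).range → x ∈ goodSubalgebra (A := A) (B := B) p hp :=
    fun x hx => ⟨0, good_of_mem hx⟩
  rcases exists_alt_of_isUnivHomeo hinj' hns' (isUnivHomeo_tower_top _ hU) with
    ⟨b, hb, h2, h3⟩ | ⟨l, b, hl, hb, h2, h3⟩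
  · apply hb
    obtain ⟨k, hk⟩ := hsurj b
    have hpow : ∀ m : ℕ, 2 ≤ m → b ^ m ∈ goodSubalgebra (A := A) (B := B) p hp := by
      intro m
      induction m using Nat.strong_induction_on with
      | _ m ih =>
        intro hm
        rcases Nat.lt_or_ge m 4 with h4 | h4
        · interval_cases m
          · exact hmem _ h2
          · exact hmem _ h3
        · obtain ⟨m', rfl⟩ : ∃ m', m = m' + 2 := ⟨m - 2, by omega⟩
          rw [pow_add]
          exact mul_mem (ih m' (by omega) (by omega)) (hmem _ h2)
    have h2le : 2 ≤ p ^ (k + 1) := by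
      calc 2 ≤ p := hp.two_le
        _ = p ^ 1 := (pow_one p).symm
        _ ≤ p ^ (k + 1) := Nat.pow_le_pow_right hp.pos (by omega)
    obtain ⟨n, hn⟩ := hpow (p ^ (k + 1)) h2le
    have hgood : Good (algebraMap A B).range p (k + 1 + n) b := by
      constructor
      · have : (p : B) ^ (k + 1 + n) * b = (p : B) ^ (1 + n) * ((p : B) ^ k * b) := by ring
        rw [this]
        exact Subring.mul_mem _ (Subring.pow_mem _ (natCast_mem _ p) _) hk
      · rw [pow_add, pow_mul]
        exact hn.2
    exact ⟨⟨b, ⟨_, hgood⟩⟩, rfl⟩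
  · apply hb
    obtain ⟨k, hk⟩ := hsurj b
    by_cases hlp : l = p
    · subst hlp
      obtain ⟨n, hn⟩ := hmem _ h3
      have hgood : Good (algebraMap A B).range l (n + 1 + k) b := by
        constructor
        · have : (l : B) ^ (n + 1 + k) * b = (l : B) ^ (n + 1) * ((l : B) ^ k * b) := by ring
          rw [this]
          exact Subring.mul_mem _ (Subring.pow_mem _ (natCast_mem _ l) _) hk
        · have : b ^ l ^ (n + 1 + k) = ((b ^ l) ^ l ^ n) ^ l ^ k := by
            rw [← pow_mul, ← pow_mul]
            congr 1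
            ring
          rw [this]
          exact Subring.pow_mem _ hn.2 _
      exact ⟨⟨b, ⟨_, hgood⟩⟩, rfl⟩
    · have hcop : IsCoprime (l : ℤ) ((p : ℤ) ^ k) :=
        (Nat.isCoprime_iff_coprime.mpr ((Nat.coprime_primes hl hp).mpr hlp)).pow_right
      obtain ⟨u, v, huv⟩ := hcop
      have h1 : (u : B) * (l : B) + (v : B) * (p : B) ^ k = 1 := by
        have := congrArg (Int.cast : ℤ → B) huv
        push_cast at this
        exact this
      have hb1 : b = (u : B) * ((l : B) * b) + (v : B) * ((p : B) ^ k * b) := by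
        calc b = 1 * b := (one_mul b).symm
          _ = ((u : B) * (l : B) + (v : B) * (p : B) ^ k) * b := by rw [h1]
          _ = _ := by ring
      have : b ∈ goodSubalgebra (A := A) (B := B) p hp := by
        rw [hb1]
        exact add_mem (mul_mem (intCast_mem _ _) (hmem _ h2))
          (mul_mem (intCast_mem _ _) (hRB' _ hk))
      exact ⟨⟨b, this⟩, rfl⟩

theorem structure_p (φ : A →+* B) (p : ℕ) (hp : p.Prime)
    (h : Function.Bijective (Localization.awayMap φ (p : A))) :
    FlatMor.IsUnivHomeo (Spec.map (CommRingCat.ofHom φ)) ↔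
      (∀ a ∈ RingHom.ker φ, IsNilpotent a) ∧
        ∀ b : B, ∃ n : ℕ, (p ^ n : B) * b ∈ φ.range ∧ b ^ (p ^ n) ∈ φ.range := by
  constructor
  · intro hU
    letI := φ.toAlgebra
    obtain ⟨hint, -, -⟩ := facts_of_isUnivHomeo (A := A) (B := B) hU
    refine ⟨?_, ?_⟩
    · have hs : Surjective (Spec.map (CommRingCat.ofHom φ)) := ((isUnivHomeo_iff _).mp hU).2.2
      have := (surjective_SpecMap_iff_of_isIntegral (CommRingCat.ofHom φ) hint.isIntegral).mp hs
      intro a ha
      exact mem_nilradical.mp (this ha)
    · have hsurj : ∀ b : B, ∃ k : ℕ, (p : B) ^ k * b ∈ (algebraMap A B).range := by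
        intro b
        obtain ⟨a, m, ha⟩ := Localization.awayMap_surjective_iff.mp h.2 b
        exact ⟨m, a, by rw [← map_natCast φ p]; exact ha⟩
      have htop := goodSubalgebra_eq_top (A := A) (B := B) p hp hsurj hU
      intro b
      have : b ∈ goodSubalgebra (A := A) (B := B) p hp := by rw [htop]; trivial
      exact this
  · rintro ⟨hker, hgood⟩
    have hint : φ.IsIntegral := fun b => by
      obtain ⟨n, -, a, ha⟩ := hgood b
      letI := φ.toAlgebra
      have : IsIntegral A (b ^ p ^ n) := by
        rw [← ha]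
        exact isIntegral_algebraMap
      exact IsIntegral.of_pow (pow_pos hp.pos n) this
    rw [isUnivHomeo_iff]
    refine ⟨(universallyClosed_SpecMap_iff _).mpr hint,
      (universallyInjective_SpecMap_iff _).mpr ?_,
      (surjective_SpecMap_iff_of_isIntegral _ hint).mpr ?_⟩
    · intro K _ ψ₁ ψ₂ h12
      ext b
      obtain ⟨n, ⟨a, ha⟩, ⟨a', ha'⟩⟩ := hgood b
      have e1 : (p : K) ^ n * ψ₁ b = (p : K) ^ n * ψ₂ b := by
        have : ψ₁ (φ a) = ψ₂ (φ a) := congr($h12 a)
        rw [ha] at this
        simpa using this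
      have e2 : ψ₁ b ^ (p ^ n) = ψ₂ b ^ (p ^ n) := by
        have : ψ₁ (φ a') = ψ₂ (φ a') := congr($h12 a')
        rw [ha'] at this
        simpa using this
      by_cases hpK : (p : K) = 0
      · haveI : CharP K p := (CharP.charP_iff_prime_eq_zero hp).mpr hpK
        haveI : Fact p.Prime := ⟨hp⟩
        apply iterateFrobenius_inj K p n
        rw [iterateFrobenius_def, iterateFrobenius_def]
        exact e2
      · exact mul_left_cancel₀ (pow_ne_zero n hpK) e1
    · intro a ha
      exact mem_nilradical.mpr (hker a ha)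

end Main418

end Groth.Agent.Lib.UnivHomeo
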