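import Mathlib
import Groth.Agent.Lib.UnivHomeo11_helper6
set_option autoImplicit false
universe u

namespace Groth.Agent.Lib.UnivHomeo

section PerfClos

open AlgebraicGeometry CategoryTheory

theorem eq_zero_of_isNilpotent_of_perfectRing (p : ℕ) [Fact p.Prime] {R : Type u} [CommRing R]
    [CharP R p] [PerfectRing R p] {x : R} (hx : IsNilpotent x) : x = 0 := by
  obtain ⟨n, hn⟩ := hx
  have hp : p.Prime := Fact.out
  have h1 : x ^ p ^ n = 0 := by
    have hle : n ≤ p ^ n := (Nat.lt_pow_self hp.one_lt).le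
    obtain ⟨d, hd⟩ := Nat.exists_eq_add_of_le hle
    rw [hd, pow_add, hn, zero_mul]
  apply (bijective_iterateFrobenius R p n).1
  rw [iterateFrobenius_def, iterateFrobenius_def, h1, zero_pow (pow_pos hp.pos n).ne']

theorem awayMap_bijective_of_charP (p : ℕ) {A B : Type u} [CommRing A] [CommRing B] [CharP A p]
    (φ : A →+* B) : Function.Bijective (Localization.awayMap φ (p : A)) := by
  have hpA : (p : A) = 0 := CharP.cast_eq_zero A p
  haveI : Subsingleton (Localization.Away (p : A)) :=
    IsLocalization.subsingleton (M := Submonoid.powers (p : A)) ⟨1, by simp [hpA]⟩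
  haveI : Subsingleton (Localization.Away (φ (p : A))) :=
    IsLocalization.subsingleton (M := Submonoid.powers (φ (p : A))) ⟨1, by simp [hpA]⟩
  exact ⟨fun _ _ _ => Subsingleton.elim _ _, fun y => ⟨0, Subsingleton.elim _ _⟩⟩

theorem isUnivHomeo_iff_bijective_perfectClosure (p : ℕ) [Fact p.Prime]
    {A B A' B' : Type u} [CommRing A] [CommRing B] [CommRing A'] [CommRing B']
    [CharP A p] [CharP B p] [CharP A' p] [CharP B' p] [PerfectRing A' p] [PerfectRing B' p]
    (φ : A →+* B) (i : A →+* A') (j : B →+* B') [IsPerfectClosure i p] [IsPerfectClosure j p]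
    (φ' : A' →+* B') (hφ : φ'.comp i = j.comp φ) :
    FlatMor.IsUnivHomeo (Spec.map (CommRingCat.ofHom φ)) ↔ Function.Bijective φ' := by
  have hp : p.Prime := Fact.out
  have hpB : (p : B) = 0 := CharP.cast_eq_zero B p
  letI := φ.toAlgebra
  rw [structure_p φ p hp (awayMap_bijective_of_charP p φ)]
  have hφ' : ∀ a, φ' (i a) = j (φ a) := fun a => congr($hφ a)
  constructor
  · rintro ⟨hker, hgood⟩
    constructor
    · rw [injective_iff_map_eq_zero]
      intro x' hx'
      obtain ⟨n, a, ha⟩ := IsPRadical.pow_mem i p x'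
      have h1 : j (φ a) = 0 := by
        rw [← hφ', ha, map_pow, hx', zero_pow (pow_pos hp.pos n).ne']
      obtain ⟨m, hm⟩ := mem_pNilradical.mp (IsPRadical.ker_le j p (RingHom.mem_ker.mpr h1))
      have h2 : IsNilpotent (a ^ p ^ m) := hker _ (by
        rw [RingHom.mem_ker, map_pow]; exact hm)
      have h3 : IsNilpotent a := by
        obtain ⟨k, hk⟩ := h2
        exact ⟨p ^ m * k, by rw [pow_mul]; exact hk⟩
      have h4 : IsNilpotent (x' ^ p ^ n) := ha ▸ h3.map i
      have h5 : IsNilpotent x' := by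
        obtain ⟨k, hk⟩ := h4
        exact ⟨p ^ n * k, by rw [pow_mul]; exact hk⟩
      exact eq_zero_of_isNilpotent_of_perfectRing p h5
    · intro y'
      obtain ⟨n, b, hb⟩ := IsPRadical.pow_mem j p y'
      obtain ⟨m, -, a, ha⟩ := hgood b
      obtain ⟨z, hz⟩ := (bijective_iterateFrobenius A' p (n + m)).2 (i a)
      rw [iterateFrobenius_def] at hz
      refine ⟨z, ?_⟩
      apply (bijective_iterateFrobenius B' p (n + m)).1
      rw [iterateFrobenius_def, iterateFrobenius_def, ← map_pow, hz, hφ', ha, map_pow, hb,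
        ← pow_mul, ← pow_add]
  · intro hbij
    constructor
    · intro a ha
      have h1 : φ' (i a) = 0 := by rw [hφ', RingHom.mem_ker.mp ha, map_zero]
      have h2 : i a = 0 := hbij.1 (by rw [h1, map_zero])
      exact mem_nilradical.mp (pNilradical_le_nilradical
        (IsPRadical.ker_le i p (RingHom.mem_ker.mpr h2)))
    · intro b
      obtain ⟨x', hx'⟩ := hbij.2 (j b)
      obtain ⟨n, a, ha⟩ := IsPRadical.pow_mem i p x'
      have h1 : j (b ^ p ^ n - φ a) = 0 := by
        rw [map_sub, map_pow, ← hx', ← map_pow, ← ha, hφ', sub_self]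
      obtain ⟨m, hm⟩ := mem_pNilradical.mp (IsPRadical.ker_le j p (RingHom.mem_ker.mpr h1))
      rw [sub_pow_char_pow, sub_eq_zero] at hm
      refine ⟨n + m + 1, ?_, ?_⟩
      · refine ⟨0, ?_⟩
        have : (p : B) ^ (n + m + 1) = 0 := by rw [hpB, zero_pow (Nat.succ_ne_zero _)]
        rw [map_zero]
        change (0 : B) = (p : B) ^ (n + m + 1) * b
        rw [this, zero_mul]
      · refine ⟨(a ^ p ^ m) ^ p, ?_⟩
        rw [map_pow, map_pow, ← hm, ← pow_mul, ← pow_mul]
        congr 1
        rw [pow_succ, pow_add, mul_assoc]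

end PerfClos

end Groth.Agent.Lib.UnivHomeo
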