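import Mathlib
import Groth.Agent.Lib.UnivHomeo1_helper6
set_option autoImplicit false
universe u
open CategoryTheory CategoryTheory.Limits AlgebraicGeometry MorphismProperty

namespace Groth.Agent.Lib.UnivHomeo

/-- A morphism of schemes which is a homeomorphism on underlying spaces is affine. -/
theorem isAffineHom_of_isHomeomorph {X Y : Scheme.{u}} (f : X ⟶ Y) (hf : IsHomeomorph f) :
    IsAffineHom f := by
  apply isAffineHom_of_forall_exists_isAffineOpen
  intro y
  obtain ⟨_, ⟨W, hW, rfl⟩, hyW, -⟩ :=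
    Y.isBasis_affineOpens.exists_subset_of_mem_open (Set.mem_univ y) isOpen_univ
  obtain ⟨x, rfl⟩ := hf.surjective y
  obtain ⟨_, ⟨U, hU, rfl⟩, hxU, hUW⟩ :=
    X.isBasis_affineOpens.exists_subset_of_mem_open (show x ∈ ((f ⁻¹ᵁ W : X.Opens) : Set X) from hyW)
      (f ⁻¹ᵁ W).isOpen
  have hfU : IsOpen (f '' (U : Set X)) := hf.isOpenMap _ U.isOpen
  obtain ⟨g, hg1, hg2⟩ := hW.exists_basicOpen_le (V := ⟨f '' (U : Set X), hfU⟩)
    ⟨f x, ⟨x, hxU, rfl⟩⟩ hyW
  refine ⟨Y.basicOpen g, hg2, hW.basicOpen g, ?_⟩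
  rw [Scheme.preimage_basicOpen]
  have hle : X.basicOpen (f.app W g) ≤ U := by
    intro z hz
    have hz' : z ∈ f ⁻¹ᵁ Y.basicOpen g := by rw [Scheme.preimage_basicOpen]; exact hz
    obtain ⟨u, hu, hfu⟩ := hg1 hz'
    rw [← hf.injective hfu]
    exact hu
  have hUW' : U ≤ f ⁻¹ᵁ W := hUW
  have heq : X.basicOpen (f.app W g) =
      X.basicOpen (X.presheaf.map (homOfLE hUW').op (f.app W g)) := by
    rw [Scheme.basicOpen_res]
    exact (inf_eq_right.mpr hle).symm
  rw [heq]
  exact hU.basicOpen _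

/-- Stacks 04DF: universal homeomorphisms are the integral, universally injective, surjective
morphisms. -/
theorem isUnivHomeo_iff_isIntegralHom {X Y : Scheme.{u}} (f : X ⟶ Y) :
    FlatMor.IsUnivHomeo f ↔ IsIntegralHom f ∧ UniversallyInjective f ∧ Surjective f := by
  rw [isUnivHomeo_iff]
  constructor
  · rintro ⟨h1, h2, h3⟩
    refine ⟨?_, h2, h3⟩
    rw [IsIntegralHom.iff_universallyClosed_and_isAffineHom]
    refine ⟨h1, isAffineHom_of_isHomeomorph f ?_⟩
    rw [isHomeomorph_iff_continuous_isClosedMap_bijective]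
    exact ⟨f.continuous, f.isClosedMap, f.injective, f.surjective⟩
  · rintro ⟨h1, h2, h3⟩
    exact ⟨inferInstance, h2, h3⟩

end Groth.Agent.Lib.UnivHomeo
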