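import Mathlib
import Groth.Agent.Lib.UnivHomeo20_helper6
import Groth.Agent.Lib.UnivHomeo4_helper6
import Groth.Prelude.Def_W4c1perfhdescPerf
set_option autoImplicit false
universe u

namespace Groth.Agent.Lib.UnivHomeo

section PerfSch

open AlgebraicGeometry CategoryTheory MorphismProperty

/-- Ring-level statement: a universal homeomorphism between perfect rings of characteristic `p` is
bijective. -/
theorem bijective_of_isUnivHomeo_of_perfect (p : ℕ) (hp : p.Prime) {A B : Type u} [CommRing A]
    [CommRing B] (hpA : (p : A) = 0) (hA : Function.Bijective fun s : A => s ^ p)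
    (hB : Function.Bijective fun s : B => s ^ p) (φ : A →+* B)
    (hφ : FlatMor.IsUnivHomeo (Spec.map (CommRingCat.ofHom φ))) : Function.Bijective φ := by
  have hbij : Function.Bijective (Localization.awayMap φ (p : A)) := by
    haveI : Subsingleton (Localization.Away (p : A)) :=
      IsLocalization.subsingleton (M := Submonoid.powers (p : A)) ⟨1, by simp [hpA]⟩
    haveI : Subsingleton (Localization.Away (φ (p : A))) :=
      IsLocalization.subsingleton (M := Submonoid.powers (φ (p : A))) ⟨1, by simp [hpA]⟩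
    exact ⟨fun _ _ _ => Subsingleton.elim _ _, fun y => ⟨0, Subsingleton.elim _ _⟩⟩
  letI := φ.toAlgebra
  obtain ⟨hker, hgood⟩ := (structure_p φ p hp hbij).mp hφ
  have hAn : ∀ n : ℕ, Function.Bijective fun s : A => s ^ p ^ n := fun n => by
    have := hA.iterate n
    rwa [pow_iterate] at this
  have hBn : ∀ n : ℕ, Function.Bijective fun s : B => s ^ p ^ n := fun n => by
    have := hB.iterate n
    rwa [pow_iterate] at this
  constructor
  · rw [injective_iff_map_eq_zero]
    intro a ha
    obtain ⟨n, hn⟩ := hker a (RingHom.mem_ker.mpr ha)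
    have h1 : a ^ p ^ n = 0 := by
      have hle : n ≤ p ^ n := (Nat.lt_pow_self hp.one_lt).le
      obtain ⟨d, hd⟩ := Nat.exists_eq_add_of_le hle
      rw [hd, pow_add, hn, zero_mul]
    apply (hAn n).1
    change a ^ p ^ n = 0 ^ p ^ n
    rw [h1, zero_pow (pow_pos hp.pos n).ne']
  · intro b
    obtain ⟨n, -, a, ha⟩ := hgood b
    obtain ⟨c, hc⟩ := (hAn n).2 a
    refine ⟨c, ?_⟩
    apply (hBn n).1
    change φ c ^ p ^ n = b ^ p ^ n
    rw [← map_pow, ← ha]
    exact congrArg φ hc

theorem isUnivHomeo_morphismRestrict {X Y : Scheme.{u}} (f : X ⟶ Y) (hf : FlatMor.IsUnivHomeo f)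
    (U : Y.Opens) : FlatMor.IsUnivHomeo (f ∣_ U) := by
  have : (MorphismProperty.universally
      (AlgebraicGeometry.topologically (fun f => IsHomeomorph f))) (f ∣_ U) :=
    MorphismProperty.of_isPullback (isPullback_morphismRestrict f U).flip hf
  exact this

theorem isIso_of_isUnivHomeo_of_isPerfect (p : ℕ) [Fact p.Prime] {X Y : Scheme.{u}} (f : X ⟶ Y)
    (hX : PerfSch.IsPerfect p X) (hY : PerfSch.IsPerfect p Y) (hf : FlatMor.IsUnivHomeo f) :
    IsIso f := by
  have hp : p.Prime := Fact.out
  haveI : IsAffineHom f := by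
    have := ((isUnivHomeo_iff_isIntegralHom f).mp hf).1
    infer_instance
  change (MorphismProperty.isomorphisms Scheme) f
  apply IsZariskiLocalAtTarget.of_iSup_eq_top (P := MorphismProperty.isomorphisms Scheme)
    (fun U : Y.affineOpens => (U : Y.Opens)) (iSup_affineOpens_eq_top Y)
  intro U
  change IsIso (f ∣_ (U : Y.Opens))
  haveI : IsAffine ((U : Y.Opens) : Scheme.{u}) := U.2
  haveI : IsAffine ((f ⁻¹ᵁ (U : Y.Opens) : X.Opens) : Scheme.{u}) := U.2.preimage f
  have hU := isUnivHomeo_morphismRestrict f hf (U : Y.Opens)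
  have hU' : FlatMor.IsUnivHomeo (Spec.map (f ∣_ (U : Y.Opens)).appTop) := by
    have : (MorphismProperty.universally
        (AlgebraicGeometry.topologically (fun f => IsHomeomorph f)))
        (Spec.map (f ∣_ (U : Y.Opens)).appTop) :=
      ((MorphismProperty.universally _).arrow_mk_iso_iff
        (arrowIsoSpecΓOfIsAffine (f ∣_ (U : Y.Opens)))).mp hU
    exact this
  -- perfectness of the rings of global sections
  have hA : (p : Γ(((U : Y.Opens) : Scheme.{u}), ⊤)) = 0 ∧
      Function.Bijective fun s : Γ(((U : Y.Opens) : Scheme.{u}), ⊤) => s ^ p := by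
    obtain ⟨h1, h2⟩ := hY (U : Y.Opens)
    let e : Γ(((U : Y.Opens) : Scheme.{u}), ⊤) ≃+* Γ(Y, (U : Y.Opens)) :=
      (Scheme.Opens.topIso (U : Y.Opens)).commRingCatIsoToRingEquiv
    constructor
    · apply e.injective
      rw [map_natCast, h1, map_zero]
    · constructor
      · intro s t hst
        apply e.injective
        apply h2.1
        change e s ^ p = e t ^ p
        rw [← map_pow, ← map_pow]
        exact congrArg e hst
      · intro t
        obtain ⟨s, hs⟩ := h2.2 (e t)
        refine ⟨e.symm s, ?_⟩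
        apply e.injective
        change e (e.symm s ^ p) = e t
        rw [map_pow, e.apply_symm_apply]
        exact hs
  have hB : Function.Bijective
      fun s : Γ(((f ⁻¹ᵁ (U : Y.Opens) : X.Opens) : Scheme.{u}), ⊤) => s ^ p := by
    obtain ⟨h1, h2⟩ := hX (f ⁻¹ᵁ (U : Y.Opens))
    let e : Γ(((f ⁻¹ᵁ (U : Y.Opens) : X.Opens) : Scheme.{u}), ⊤) ≃+* Γ(X, f ⁻¹ᵁ (U : Y.Opens)) :=
      (Scheme.Opens.topIso (f ⁻¹ᵁ (U : Y.Opens))).commRingCatIsoToRingEquiv
    constructor
    · intro s t hst
      apply e.injective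
      apply h2.1
      change e s ^ p = e t ^ p
      rw [← map_pow, ← map_pow]
      exact congrArg e hst
    · intro t
      obtain ⟨s, hs⟩ := h2.2 (e t)
      refine ⟨e.symm s, ?_⟩
      apply e.injective
      change e (e.symm s ^ p) = e t
      rw [map_pow, e.apply_symm_apply]
      exact hs
  have hbij := bijective_of_isUnivHomeo_of_perfect p hp hA.1 hA.2 hB
    (f ∣_ (U : Y.Opens)).appTop.hom hU'
  haveI : IsIso (f ∣_ (U : Y.Opens)).appTop :=
    (ConcreteCategory.isIso_iff_bijective _).mpr hbij
  have h3 : IsIso (Spec.map (f ∣_ (U : Y.Opens)).appTop) := inferInstance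
  exact ((MorphismProperty.isomorphisms Scheme).arrow_mk_iso_iff
    (arrowIsoSpecΓOfIsAffine (f ∣_ (U : Y.Opens)))).mpr h3

end PerfSch

end Groth.Agent.Lib.UnivHomeo
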