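import Mathlib
import Groth.Agent.Lib.UnivHomeo18_helper6
import Groth.Agent.Lib.UnivHomeo21_helper6
import Groth.Agent.Lib.RedFibre_helper9
set_option autoImplicit false
universe u

namespace Groth.Agent.Lib.UnivHomeo

section SNIso

open AlgebraicGeometry CategoryTheory MorphismProperty

/-- Ring-level: a universal homeomorphism with trivial residue field extensions from a reduced ring
to a seminormal ring is bijective. -/
theorem bijective_of_isSeminormalRing {A B : Type u} [CommRing A] [CommRing B] [Algebra A B]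
    (hA : HTop.IsSeminormalRing A) [IsReduced B]
    (hU : FlatMor.IsUnivHomeo (Spec.map (CommRingCat.ofHom (algebraMap A B))))
    (hres : ∀ x : Spec (CommRingCat.of B), Function.Surjective
      ((Spec.map (CommRingCat.ofHom (algebraMap A B))).residueFieldMap x)) :
    Function.Bijective (algebraMap A B) := by
  haveI := isReduced_of_isSeminormalRing hA
  obtain ⟨-, -, hker⟩ := (isUnivHomeo_iff_alg A B).mp hU
  have hinj : Function.Injective (algebraMap A B) := by
    rw [injective_iff_map_eq_zero]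
    intro a ha
    have := hker (RingHom.mem_ker.mpr ha)
    rw [nilradical_eq_zero] at this
    exact this
  refine ⟨hinj, ?_⟩
  have htop := reachUnion_eq_top_P1 hU hres
  have hle : ∀ S : Subalgebra A B, Reach (P1 (A := A) (B := B)) S → S ≤ ⊥ := by
    intro S hS
    refine Reach.le_of_closed ⊥ ?_ hS
    intro T hT b hb
    obtain ⟨x, hx⟩ := Algebra.mem_bot.mp (hT hb.1)
    obtain ⟨y, hy⟩ := Algebra.mem_bot.mp (hT hb.2)
    have hxy : x ^ 3 = y ^ 2 := by
      apply hinj
      rw [map_pow, map_pow, hx, hy]; ring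
    obtain ⟨a, ⟨ha2, ha3⟩, -⟩ := hA x y hxy
    have : algebraMap A B a = b := by
      apply eq_of_sq_eq_of_cube_eq_of_isReduced
      · rw [← map_pow, ← ha2, hx]
      · rw [← map_pow, ← ha3, hy]
    exact Algebra.mem_bot.mpr ⟨a, this⟩
  intro b
  have hb : b ∈ reachUnion (P1_mono (A := A) (B := B)) := by rw [htop]; trivial
  obtain ⟨S, hS, hbS⟩ := hb
  exact Algebra.mem_bot.mp (hle S hS hbS)

theorem isIso_residueFieldMap_of_comm {X Y X' Y' : Scheme.{u}} (f : X ⟶ Y) (g : Y ⟶ Y')
    (h : X ⟶ X') (k : X' ⟶ Y') (w : f ≫ g = h ≫ k)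
    (hg : ∀ y, IsIso (g.residueFieldMap y)) (hh : ∀ x, IsIso (h.residueFieldMap x))
    (hk : HTop.ResidueFieldsIso k) : HTop.ResidueFieldsIso f := by
  intro x
  have e1 := Scheme.residueFieldMap_comp f g x
  have e2 := Scheme.residueFieldMap_comp h k x
  have e3 := Scheme.Hom.residueFieldMap_congr w x
  rw [e1, e2] at e3
  haveI := hg (f x)
  haveI := hh x
  haveI := hk (h x)
  haveI : IsIso (g.residueFieldMap (f x) ≫ f.residueFieldMap x) := by
    rw [e3]
    exact IsIso.comp_isIso' inferInstance (IsIso.comp_isIso' (hk (h x)) (hh x))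
  exact IsIso.of_isIso_comp_left (g.residueFieldMap (f x)) (f.residueFieldMap x)

theorem residueFieldsIso_comp {X Y Z : Scheme.{u}} (f : X ⟶ Y) (g : Y ⟶ Z)
    (hf : HTop.ResidueFieldsIso f) (hg : HTop.ResidueFieldsIso g) :
    HTop.ResidueFieldsIso (f ≫ g) := by
  intro x
  rw [Scheme.residueFieldMap_comp]
  exact IsIso.comp_isIso' (hg (f x)) (hf x)

theorem isUnivHomeo_of_isClosedImmersion_of_surjective {X Y : Scheme.{u}} (i : X ⟶ Y)
    [IsClosedImmersion i] [Surjective i] : FlatMor.IsUnivHomeo i := by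
  rw [isUnivHomeo_iff]
  exact ⟨inferInstance, inferInstance, inferInstance⟩

theorem residueFieldsIso_of_isPreimmersion {X Y : Scheme.{u}} (i : X ⟶ Y)
    [IsPreimmersion i] : HTop.ResidueFieldsIso i := by
  intro x
  apply (ConcreteCategory.isIso_iff_bijective _).mpr
  refine ⟨(i.residueFieldMap x).hom.injective, ?_⟩
  intro y
  obtain ⟨z, rfl⟩ := IsLocalRing.residue_surjective y
  obtain ⟨w, rfl⟩ := i.stalkMap_surjective x z
  refine ⟨Y.residue (i x) w, ?_⟩
  have := Scheme.residue_residueFieldMap i x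
  exact congr($this w)

theorem isSeminormalRing_of_ringEquiv {B W : Type u} [CommRing B] [CommRing W] (e : B ≃+* W)
    (hW : HTop.IsSeminormalRing W) : HTop.IsSeminormalRing B := by
  intro x y hxy
  obtain ⟨a, ⟨ha1, ha2⟩, hu⟩ := hW (e x) (e y) (by rw [← map_pow, ← map_pow, hxy])
  refine ⟨e.symm a, ⟨?_, ?_⟩, ?_⟩
  · apply e.injective; rw [map_pow, e.apply_symm_apply]; exact ha1
  · apply e.injective; rw [map_pow, e.apply_symm_apply]; exact ha2
  · rintro b ⟨hb1, hb2⟩
    apply e.injective
    rw [e.apply_symm_apply]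
    exact hu (e b) ⟨by rw [hb1, map_pow], by rw [hb2, map_pow]⟩

/-- A universal homeomorphism with trivial residue field extensions from a reduced scheme to a
seminormal scheme is an isomorphism. -/
theorem isIso_of_isSeminormal {Y X : Scheme.{u}} (f : Y ⟶ X) [IsReduced Y]
    (hX : HTop.IsSeminormal X) (hf : FlatMor.IsUnivHomeo f) (hres : HTop.ResidueFieldsIso f) :
    IsIso f := by
  haveI : IsAffineHom f := by
    have := ((isUnivHomeo_iff_isIntegralHom f).mp hf).1
    infer_instance
  choose V hxV hV using hX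
  change (MorphismProperty.isomorphisms Scheme) f
  apply IsZariskiLocalAtTarget.of_iSup_eq_top (P := MorphismProperty.isomorphisms Scheme)
    (fun x : X => ((V x : X.affineOpens) : X.Opens)) (by
      rw [eq_top_iff]
      rintro x -
      exact TopologicalSpace.Opens.mem_iSup.mpr ⟨x, hxV x⟩)
  intro x₀
  set U : X.affineOpens := V x₀ with hUdef
  change IsIso (f ∣_ (U : X.Opens))
  haveI : IsAffine ((U : X.Opens) : Scheme.{u}) := U.2
  haveI : IsAffine ((f ⁻¹ᵁ (U : X.Opens) : Y.Opens) : Scheme.{u}) := U.2.preimage f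
  have hU := isUnivHomeo_morphismRestrict f hf (U : X.Opens)
  have hU' : FlatMor.IsUnivHomeo (Spec.map (f ∣_ (U : X.Opens)).appTop) := by
    have : (MorphismProperty.universally
        (AlgebraicGeometry.topologically (fun f => IsHomeomorph f)))
        (Spec.map (f ∣_ (U : X.Opens)).appTop) :=
      ((MorphismProperty.universally _).arrow_mk_iso_iff
        (arrowIsoSpecΓOfIsAffine (f ∣_ (U : X.Opens)))).mp hU
    exact this
  -- residue fields
  have hres1 : HTop.ResidueFieldsIso (f ∣_ (U : X.Opens)) :=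
    isIso_residueFieldMap_of_comm (f ∣_ (U : X.Opens)) (U : X.Opens).ι
      (f ⁻¹ᵁ (U : X.Opens)).ι f (morphismRestrict_ι f (U : X.Opens))
      (fun _ => inferInstance) (fun _ => inferInstance) hres
  have hres2 : HTop.ResidueFieldsIso (Spec.map (f ∣_ (U : X.Opens)).appTop) := by
    have w := (arrowIsoSpecΓOfIsAffine (f ∣_ (U : X.Opens))).inv.w
    exact isIso_residueFieldMap_of_comm (Spec.map (f ∣_ (U : X.Opens)).appTop)
      (arrowIsoSpecΓOfIsAffine (f ∣_ (U : X.Opens))).inv.right
      (arrowIsoSpecΓOfIsAffine (f ∣_ (U : X.Opens))).inv.left (f ∣_ (U : X.Opens)) w.symm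
      (fun _ => inferInstance) (fun _ => inferInstance) hres1
  -- the rings
  have hA : HTop.IsSeminormalRing Γ(((U : X.Opens) : Scheme.{u}), ⊤) :=
    isSeminormalRing_of_ringEquiv
      (Scheme.Opens.topIso (U : X.Opens)).commRingCatIsoToRingEquiv (hV x₀)
  letI : Algebra Γ(((U : X.Opens) : Scheme.{u}), ⊤)
      Γ(((f ⁻¹ᵁ (U : X.Opens) : Y.Opens) : Scheme.{u}), ⊤) :=
    (f ∣_ (U : X.Opens)).appTop.hom.toAlgebra
  have hbij : Function.Bijective (f ∣_ (U : X.Opens)).appTop.hom :=
    bijective_of_isSeminormalRing hA hU' (fun y => by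
      haveI := hres2 y
      exact ((ConcreteCategory.isIso_iff_bijective _).mp (hres2 y)).2)
  haveI : IsIso (f ∣_ (U : X.Opens)).appTop :=
    (ConcreteCategory.isIso_iff_bijective _).mpr hbij
  have h3 : IsIso (Spec.map (f ∣_ (U : X.Opens)).appTop) := inferInstance
  exact ((MorphismProperty.isomorphisms Scheme).arrow_mk_iso_iff
    (arrowIsoSpecΓOfIsAffine (f ∣_ (U : X.Opens)))).mpr h3

end SNIso

end Groth.Agent.Lib.UnivHomeo
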