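import Mathlib
import Groth.Agent.Lib.UnivHomeo23_helper6
set_option autoImplicit false
universe u

namespace Groth.Agent.Lib.UnivHomeo

section Lift

open AlgebraicGeometry CategoryTheory MorphismProperty Limits

/-- Field-valued points lift along `π` (without extending the field). -/
def FieldLift {Y X : Scheme.{u}} (π : Y ⟶ X) : Prop :=
  ∀ (K : Type u) [Field K] (x : Spec (CommRingCat.of K) ⟶ X),
    ∃ y : Spec (CommRingCat.of K) ⟶ Y, y ≫ π = x

theorem fieldLift_of_residueFieldsIso {Y X : Scheme.{u}} (π : Y ⟶ X) [Surjective π]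
    (h : HTop.ResidueFieldsIso π) : FieldLift π := by
  intro K _ x
  have key : ∀ (x₀ : X) (φ : X.residueField x₀ ⟶ CommRingCat.of K),
      ∃ y : Spec (CommRingCat.of K) ⟶ Y, y ≫ π = Spec.map φ ≫ X.fromSpecResidueField x₀ := by
    intro x₀ φ
    obtain ⟨y₀, rfl⟩ := π.surjective x₀
    haveI := h y₀
    refine ⟨Spec.map (inv (π.residueFieldMap y₀) ≫ φ) ≫ Y.fromSpecResidueField y₀, ?_⟩
    rw [Category.assoc, ← Scheme.Hom.SpecMap_residueFieldMap_fromSpecResidueField,
      ← Spec.map_comp_assoc, IsIso.hom_inv_id_assoc]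
  obtain ⟨y, hy⟩ := key _ (Scheme.descResidueField (Scheme.stalkClosedPointTo x))
  exact ⟨y, hy.trans (Scheme.descResidueField_stalkClosedPointTo_fromSpecResidueField K X x)⟩

theorem FieldLift.of_isPullback {P Y W X : Scheme.{u}} {fst : P ⟶ Y} {snd : P ⟶ W} {π : Y ⟶ X}
    {g : W ⟶ X} (h : IsPullback fst snd π g) (hπ : FieldLift π) : FieldLift snd := by
  intro K _ x
  obtain ⟨y, hy⟩ := hπ K (x ≫ g)
  exact ⟨h.lift y x hy, h.lift_snd _ _ _⟩

theorem FieldLift.comp {X Y Z : Scheme.{u}} {f : X ⟶ Y} {g : Y ⟶ Z} (hf : FieldLift f)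
    (hg : FieldLift g) : FieldLift (f ≫ g) := by
  intro K _ x
  obtain ⟨y, hy⟩ := hg K x
  obtain ⟨z, hz⟩ := hf K y
  exact ⟨z, by rw [← Category.assoc, hz, hy]⟩

theorem FieldLift.of_arrow_iso {X Y X' Y' : Scheme.{u}} {f : X ⟶ Y} {g : X' ⟶ Y'}
    (e : CategoryTheory.Arrow.mk f ≅ CategoryTheory.Arrow.mk g) (hf : FieldLift f) : FieldLift g := by
  intro K _ x
  obtain ⟨y, hy⟩ := hf K (x ≫ e.inv.right)
  refine ⟨y ≫ e.hom.left, ?_⟩
  have w : e.hom.left ≫ g = f ≫ e.hom.right := e.hom.w
  have h2 : e.inv.right ≫ e.hom.right = 𝟙 _ := by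
    rw [← Arrow.comp_right, e.inv_hom_id]; rfl
  rw [Category.assoc, w, ← Category.assoc, hy, Category.assoc, h2]
  exact Category.comp_id x

theorem PE_of_fieldLift {A B : Type u} [CommRing A] [CommRing B] [Algebra A B]
    (h : FieldLift (Spec.map (CommRingCat.ofHom (algebraMap A B)))) : PE A B := by
  intro K _ χ
  obtain ⟨y, hy⟩ := h K (Spec.map (CommRingCat.ofHom χ))
  obtain ⟨ψ, rfl⟩ := Spec.map_surjective y
  rw [← Spec.map_comp] at hy
  have := Spec.map_injective hy
  exact ⟨ψ.hom, congrArg CommRingCat.Hom.hom this⟩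

/-- Ring-level, `PE` form of `bijective_of_isSeminormalRing`. -/
theorem bijective_of_isSeminormalRing_of_PE {A B : Type u} [CommRing A] [CommRing B] [Algebra A B]
    (hA : HTop.IsSeminormalRing A) [IsReduced B]
    (hU : FlatMor.IsUnivHomeo (Spec.map (CommRingCat.ofHom (algebraMap A B))))
    (hPE : PE A B) : Function.Bijective (algebraMap A B) := by
  obtain ⟨h1, h2, -⟩ := (isUnivHomeo_iff_alg A B).mp hU
  obtain ⟨-, hres⟩ := (isUnivHomeo_res_iff_alg A B).mpr ⟨h1, h2, hPE⟩
  exact bijective_of_isSeminormalRing hA hU hres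

/-- A universal homeomorphism along which field points lift, from a reduced scheme to a seminormal
scheme, is an isomorphism. -/
theorem isIso_of_isSeminormal_of_fieldLift {Y X : Scheme.{u}} (f : Y ⟶ X) [IsReduced Y]
    (hX : HTop.IsSeminormal X) (hf : FlatMor.IsUnivHomeo f) (hl : FieldLift f) :
    IsIso f := by
  haveI : IsAffineHom f := by
    have := ((isUnivHomeo_iff_isIntegralHom f).mp hf).1
    infer_instance
  choose V hxV hV using hX
  change (MorphismProperty.isomorphisms Scheme) f
  apply IsZariskiLocalAtTarget.of_iSup_eq_top (P := MorphismProperty.isomorphisms Scheme)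
    (fun x : X => ((V x : X.affineOpens) : X.Opens)) (by
      rw [eq_top_iff]
      rintro x -
      exact TopologicalSpace.Opens.mem_iSup.mpr ⟨x, hxV x⟩)
  intro x₀
  set U : X.affineOpens := V x₀ with hUdef
  change IsIso (f ∣_ (U : X.Opens))
  haveI : IsAffine ((U : X.Opens) : Scheme.{u}) := U.2
  haveI : IsAffine ((f ⁻¹ᵁ (U : X.Opens) : Y.Opens) : Scheme.{u}) := U.2.preimage f
  have hU := isUnivHomeo_morphismRestrict f hf (U : X.Opens)
  have hU' : FlatMor.IsUnivHomeo (Spec.map (f ∣_ (U : X.Opens)).appTop) := by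
    have : (MorphismProperty.universally
        (AlgebraicGeometry.topologically (fun f => IsHomeomorph f)))
        (Spec.map (f ∣_ (U : X.Opens)).appTop) :=
      ((MorphismProperty.universally _).arrow_mk_iso_iff
        (arrowIsoSpecΓOfIsAffine (f ∣_ (U : X.Opens)))).mp hU
    exact this
  have hl1 : FieldLift (f ∣_ (U : X.Opens)) :=
    FieldLift.of_isPullback (isPullback_morphismRestrict f (U : X.Opens)).flip hl
  have hl2 : FieldLift (Spec.map (f ∣_ (U : X.Opens)).appTop) :=
    FieldLift.of_arrow_iso (arrowIsoSpecΓOfIsAffine (f ∣_ (U : X.Opens))) hl1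
  have hA : HTop.IsSeminormalRing Γ(((U : X.Opens) : Scheme.{u}), ⊤) :=
    isSeminormalRing_of_ringEquiv
      (Scheme.Opens.topIso (U : X.Opens)).commRingCatIsoToRingEquiv (hV x₀)
  letI : Algebra Γ(((U : X.Opens) : Scheme.{u}), ⊤)
      Γ(((f ⁻¹ᵁ (U : X.Opens) : Y.Opens) : Scheme.{u}), ⊤) :=
    (f ∣_ (U : X.Opens)).appTop.hom.toAlgebra
  have hbij : Function.Bijective (f ∣_ (U : X.Opens)).appTop.hom :=
    bijective_of_isSeminormalRing_of_PE hA hU' (PE_of_fieldLift hl2)
  haveI : IsIso (f ∣_ (U : X.Opens)).appTop :=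
    (ConcreteCategory.isIso_iff_bijective _).mpr hbij
  have h3 : IsIso (Spec.map (f ∣_ (U : X.Opens)).appTop) := inferInstance
  exact ((MorphismProperty.isomorphisms Scheme).arrow_mk_iso_iff
    (arrowIsoSpecΓOfIsAffine (f ∣_ (U : X.Opens)))).mpr h3

/-- Maps from a reduced scheme into the source of a separated universally injective morphism are
determined by their composites with it. -/
theorem eq_of_comp_eq_of_universallyInjective {X Y Z : Scheme.{u}} [IsReduced X] (π : Y ⟶ Z)
    [IsSeparated π] [UniversallyInjective π] (f g : X ⟶ Y) (h : f ≫ π = g ≫ π) : f = g := by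
  haveI : Surjective (pullback.diagonal π) := (UniversallyInjective.iff_diagonal π).mp inferInstance
  have hι : Surjective (pullback.fst (pullback.lift f g h) (pullback.diagonal π)) :=
    inferInstance
  refine ext_of_isDominant_of_isSeparated π h
    (pullback.fst (pullback.lift f g h) (pullback.diagonal π)) ?_
  have e1 : pullback.fst (pullback.lift f g h) (pullback.diagonal π) ≫ f =
      pullback.snd (pullback.lift f g h) (pullback.diagonal π) := by
    have := pullback.condition (f := pullback.lift f g h) (g := pullback.diagonal π)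
    have := congr($this ≫ pullback.fst π π)
    rw [Category.assoc, Category.assoc, pullback.lift_fst, pullback.diagonal_fst,
      Category.comp_id] at this
    exact this
  have e2 : pullback.fst (pullback.lift f g h) (pullback.diagonal π) ≫ g =
      pullback.snd (pullback.lift f g h) (pullback.diagonal π) := by
    have := pullback.condition (f := pullback.lift f g h) (g := pullback.diagonal π)
    have := congr($this ≫ pullback.snd π π)
    rw [Category.assoc, Category.assoc, pullback.lift_snd, pullback.diagonal_snd,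
      Category.comp_id] at this
    exact this
  rw [e1, e2]

theorem isReduced_of_isSeminormal {W : Scheme.{u}} (hW : HTop.IsSeminormal W) : IsReduced W := by
  choose V hxV hV using hW
  have hcov : (⨆ x : W, ((V x : W.affineOpens) : W.Opens)) = ⊤ := by
    rw [eq_top_iff]
    rintro x -
    exact TopologicalSpace.Opens.mem_iSup.mpr ⟨x, hxV x⟩
  apply +allowSynthFailures @IsReduced.of_openCover (𝒰 := W.openCoverOfIsOpenCover _
    (TopologicalSpace.IsOpenCover.mk hcov))
  intro x
  change IsReduced (((V x : W.affineOpens) : W.Opens) : Scheme.{u})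
  haveI : IsAffine (((V x : W.affineOpens) : W.Opens) : Scheme.{u}) := (V x).2
  haveI : _root_.IsReduced Γ((((V x : W.affineOpens) : W.Opens) : Scheme.{u}), ⊤) :=
    isReduced_of_isSeminormalRing (isSeminormalRing_of_ringEquiv
      (Scheme.Opens.topIso ((V x : W.affineOpens) : W.Opens)).commRingCatIsoToRingEquiv (hV x))
  exact isReduced_of_isAffine_isReduced _

theorem isUnivHomeo_of_isPullback {P Y W X : Scheme.{u}} {fst : P ⟶ Y} {snd : P ⟶ W} {π : Y ⟶ X}
    {g : W ⟶ X} (h : IsPullback fst snd π g) (hπ : FlatMor.IsUnivHomeo π) :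
    FlatMor.IsUnivHomeo snd := by
  have : (MorphismProperty.universally
      (AlgebraicGeometry.topologically (fun f => IsHomeomorph f))) snd :=
    MorphismProperty.of_isPullback h hπ
  exact this

theorem surjective_nilradical_subschemeι (P : Scheme.{u}) : Surjective P.nilradical.subschemeι := by
  constructor
  rw [← Set.range_eq_univ, Scheme.IdealSheafData.range_subschemeι]
  rfl

theorem fieldLift_nilradical_subschemeι (P : Scheme.{u}) : FieldLift P.nilradical.subschemeι := by
  haveI := surjective_nilradical_subschemeι P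
  exact fieldLift_of_residueFieldsIso _ (residueFieldsIso_of_isPreimmersion _)

theorem isUnivHomeo_nilradical_subschemeι (P : Scheme.{u}) :
    FlatMor.IsUnivHomeo P.nilradical.subschemeι := by
  haveI := surjective_nilradical_subschemeι P
  exact isUnivHomeo_of_isClosedImmersion_of_surjective _

/-- Seminormal schemes lift uniquely along universal homeomorphisms with the field lifting
property. -/
theorem existsUnique_lift_of_isSeminormal {W Y U : Scheme.{u}} (hW : HTop.IsSeminormal W)
    (π : Y ⟶ U) (hπ : FlatMor.IsUnivHomeo π) (hl : FieldLift π) (g : W ⟶ U) :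
    ∃! h : W ⟶ Y, h ≫ π = g := by
  haveI := isReduced_of_isSeminormal hW
  obtain ⟨h1, h2, -⟩ := (isUnivHomeo_iff_isIntegralHom π).mp hπ
  haveI : IsIntegralHom π := h1
  haveI : UniversallyInjective π := h2
  have hpb : IsPullback (pullback.fst π g) (pullback.snd π g) π g := IsPullback.of_hasPullback π g
  have hpU := isUnivHomeo_of_isPullback hpb hπ
  have hpl := FieldLift.of_isPullback hpb hl
  haveI : IsReduced (pullback π g).nilradical.subscheme :=
    Groth.Agent.Lib.RedFibre.isReduced_nilradical_subscheme _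
  haveI : IsIso ((pullback π g).nilradical.subschemeι ≫ pullback.snd π g) :=
    isIso_of_isSeminormal_of_fieldLift _ hW
      (isUnivHomeo_comp _ _ (isUnivHomeo_nilradical_subschemeι _) hpU)
      (FieldLift.comp (fieldLift_nilradical_subschemeι _) hpl)
  have hex : (inv ((pullback π g).nilradical.subschemeι ≫ pullback.snd π g) ≫
      (pullback π g).nilradical.subschemeι ≫ pullback.fst π g) ≫ π = g := by
    rw [Category.assoc, Category.assoc, pullback.condition, ← Category.assoc _ _ g,
      IsIso.inv_hom_id_assoc]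
  refine ⟨_, hex, ?_⟩
  intro h' hh'
  exact eq_of_comp_eq_of_universallyInjective π _ _ (hh'.trans hex.symm)

end Lift

end Groth.Agent.Lib.UnivHomeo
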