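import Mathlib
import Groth.Agent.Lib.UnivHomeo24_helper6
import Groth.Agent.S7404
import Groth.Agent.Lib.ChowMon1_helper1

/-!
# Products of symmetric tensors descend along finite universal homeomorphisms to seminormal rings
(helper1)
-/

set_option autoImplicit false
universe u
open scoped TensorProduct
open Module AlgebraicGeometry CategoryTheory

namespace Groth.Agent.Lib.ChowMonH1

open Groth.Agent.Lib.UnivHomeo

theorem pow_mem_range_of_PU {C C' : Type u} [CommRing C] [CommRing C'] [Algebra C C']
    (hPU : PU C C') [Algebra.IsIntegral C C'] (q' : Ideal C') [q'.IsPrime] (P : Ideal C)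
    [P.IsPrime] (hP : P = q'.comap (algebraMap C C')) (d : ℕ) (hd : 0 < d)
    (hdq : @Module.finrank P.ResidueField q'.ResidueField _ _
      (Ideal.ResidueField.map P q' (algebraMap C C') hP).toAlgebra.toModule ∣ d) :
    ∃ qc e : ℕ, ExpChar q'.ResidueField qc ∧ qc ^ e ∣ d ∧
      ∀ l : q'.ResidueField, l ^ (qc ^ e) ∈
        (Ideal.ResidueField.map P q' (algebraMap C C') hP).range := by
  let m : P.ResidueField →+* q'.ResidueField := Ideal.ResidueField.map P q' (algebraMap C C') hP
  letI : Algebra P.ResidueField q'.ResidueField := m.toAlgebra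
  have hdq' : Module.finrank P.ResidueField q'.ResidueField ∣ d := hdq
  have hm : ∀ a : C, m (algebraMap C P.ResidueField a) =
      algebraMap C' q'.ResidueField (algebraMap C C' a) :=
    fun a => Ideal.ResidueField.map_algebraMap P q' (algebraMap C C') hP a
  haveI : IsPurelyInseparable P.ResidueField q'.ResidueField := by
    haveI : Nonempty (q'.ResidueField →+* AlgebraicClosure q'.ResidueField) :=
      ⟨algebraMap _ _⟩
    apply IsPurelyInseparable.of_injective_comp_algebraMap _ _ (AlgebraicClosure q'.ResidueField)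
    intro f₁ f₂ h12
    have h12' : ∀ x, f₁ (m x) = f₂ (m x) := fun x => RingHom.congr_fun h12 x
    have := hPU (AlgebraicClosure q'.ResidueField) (f₁.comp (algebraMap C' q'.ResidueField))
      (f₂.comp (algebraMap C' q'.ResidueField)) (by
        ext a
        simp only [RingHom.comp_apply]
        rw [← hm, h12'])
    exact Ideal.ResidueField.ringHom_ext this
  have hn0 : Module.finrank P.ResidueField q'.ResidueField ≠ 0 := by
    intro h0
    rw [h0, zero_dvd_iff] at hdq'
    omega
  haveI : FiniteDimensional P.ResidueField q'.ResidueField :=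
    Module.finite_of_finrank_pos (Nat.pos_of_ne_zero hn0)
  obtain ⟨qc, hqc⟩ := ExpChar.exists P.ResidueField
  haveI := hqc
  haveI hqL : ExpChar q'.ResidueField qc :=
    expChar_of_injective_algebraMap (algebraMap P.ResidueField q'.ResidueField).injective qc
  obtain ⟨e, he⟩ := IsPurelyInseparable.finrank_eq_pow (F := P.ResidueField)
    (E := q'.ResidueField) qc
  refine ⟨qc, e, hqL, he ▸ hdq', ?_⟩
  intro l
  obtain ⟨k, y, hmin⟩ := IsPurelyInseparable.minpoly_eq_X_pow_sub_C P.ResidueField qc l
  have hint : IsIntegral P.ResidueField l := Algebra.IsIntegral.isIntegral l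
  have hdvd : qc ^ k ∣ qc ^ e := by
    have h1 := minpoly.degree_dvd hint
    rw [hmin, Polynomial.natDegree_sub_C, Polynomial.natDegree_X_pow, he] at h1
    exact h1
  obtain ⟨r, hr⟩ := hdvd
  have hl : l ^ (qc ^ k) = algebraMap P.ResidueField q'.ResidueField y := by
    have h1 := minpoly.aeval P.ResidueField l
    rw [hmin] at h1
    simpa [sub_eq_zero] using h1
  rw [hr, pow_mul, hl, ← map_pow]
  exact ⟨y ^ r, rfl⟩

theorem pe_adjoin {A C C' B : Type u} [CommRing A] [CommRing C] [CommRing C'] [CommRing B]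
    [Algebra A C] [Algebra A C'] [Algebra A B] [Algebra C C'] [IsScalarTower A C C']
    [Algebra.IsIntegral C C'] (hPU : PU C C')
    (hker : RingHom.ker (algebraMap C C') ≤ nilradical C) (d : ℕ) (hd : 0 < d)
    (hdeg : ∀ (q' : Ideal C') [q'.IsPrime],
      @Module.finrank (q'.comap (algebraMap C C')).ResidueField q'.ResidueField _ _
        (Ideal.ResidueField.map (q'.comap (algebraMap C C')) q' (algebraMap C C')
          rfl).toAlgebra.toModule ∣ d)
    [Module.Flat A B] (φ : B →ₐ[A] C') (x : ⨂[A] _ : Fin d, B) (hx : x ∈ SymTen.TS A B d)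
    (D : Subalgebra C C')
    (hD : D = Algebra.adjoin C
      {φ (PiTensorProduct.lift (MultilinearMap.mkPiAlgebra A (Fin d) B) x)}) : PE C D := by
  intro K _ χ
  haveI hkp : (RingHom.ker χ).IsPrime := RingHom.ker_isPrime χ
  have hle : (⊥ : Ideal C').comap (algebraMap C C') ≤ RingHom.ker χ := by
    intro a ha
    have h1 : a ∈ RingHom.ker (algebraMap C C') := ha
    exact nilradical_le_prime (RingHom.ker χ) (hker h1)
  obtain ⟨q', -, hq'p, hq'⟩ := Ideal.exists_ideal_over_prime_of_isIntegral (RingHom.ker χ)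
    (⊥ : Ideal C') hle
  haveI := hq'p
  have hdq := hdeg q'
  obtain ⟨qc, e, hexp, hdvd, hpow⟩ := pow_mem_range_of_PU hPU q' (q'.comap (algebraMap C C')) rfl
    d hd hdq
  haveI := hexp
  obtain ⟨m, hm0⟩ : ∃ m : (q'.comap (algebraMap C C')).ResidueField →+* q'.ResidueField,
    m = Ideal.ResidueField.map (q'.comap (algebraMap C C')) q' (algebraMap C C') rfl := ⟨_, rfl⟩
  rw [← hm0] at hpow
  have hm : ∀ a : C, m (algebraMap C _ a) =
      algebraMap C' q'.ResidueField (algebraMap C C' a) := fun a => by
    rw [hm0]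
    exact Ideal.ResidueField.map_algebraMap _ _ _ rfl a
  obtain ⟨E, hE⟩ : ∃ E : Subalgebra A q'.ResidueField, ∀ l, l ∈ E ↔ l ∈ m.range :=
    ⟨{ m.range.toSubsemiring with
        algebraMap_mem' := fun a => ⟨algebraMap C _ (algebraMap A C a), by
          rw [hm, ← IsScalarTower.algebraMap_apply A C C',
            ← IsScalarTower.algebraMap_apply A C' q'.ResidueField]⟩ }, fun l => Iff.rfl⟩
  have hyE : (IsScalarTower.toAlgHom A C' q'.ResidueField)
      (φ (PiTensorProduct.lift (MultilinearMap.mkPiAlgebra A (Fin d) B) x)) ∈ E :=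
    key_mem d E qc e (fun l => (hE _).2 (hpow l)) hdvd
      ((IsScalarTower.toAlgHom A C' q'.ResidueField).comp φ) x hx
  have hDE : ∀ t : C', t ∈ D → algebraMap C' q'.ResidueField t ∈ m.range := by
    intro t ht
    rw [hD] at ht
    induction ht using Algebra.adjoin_induction with
    | mem t ht =>
      rw [Set.mem_singleton_iff.1 ht]
      exact (hE _).1 hyE
    | algebraMap c => exact ⟨algebraMap C _ c, hm c⟩
    | add t t' _ _ h h' =>
      rw [map_add]
      exact Subring.add_mem _ h h'
    | mul t t' _ _ h h' =>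
      rw [map_mul]
      exact Subring.mul_mem _ h h'
  have hχ1 : q'.comap (algebraMap C C') ≤ RingHom.ker χ := le_of_eq hq'
  have hχ2 : (q'.comap (algebraMap C C')).primeCompl ≤ (IsUnit.submonoid K).comap χ := by
    intro c hc
    rw [Submonoid.mem_comap, IsUnit.mem_submonoid_iff]
    apply IsUnit.mk0
    intro h0
    exact hc (hq'.ge (RingHom.mem_ker.2 h0))
  obtain ⟨χb, hχb⟩ : ∃ χb : (q'.comap (algebraMap C C')).ResidueField →+* K,
      ∀ c, χb (algebraMap C _ c) = χ c :=
    ⟨Ideal.ResidueField.lift _ χ hχ1 hχ2,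
      fun c => Ideal.ResidueField.lift_algebraMap _ χ hχ1 hχ2 c⟩
  have hminj : Function.Injective m := m.injective
  choose kf hkf using fun t : D => hDE t.1 t.2
  have hk1 : kf 1 = 1 := hminj (by rw [hkf, map_one]; exact (map_one _))
  have hk0 : kf 0 = 0 := hminj (by rw [hkf, map_zero]; exact (map_zero _))
  have hkmul : ∀ t t' : D, kf (t * t') = kf t * kf t' := fun t t' => hminj (by
    rw [hkf, map_mul, hkf, hkf]
    exact map_mul _ _ _)
  have hkadd : ∀ t t' : D, kf (t + t') = kf t + kf t' := fun t t' => hminj (by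
    rw [hkf, map_add, hkf, hkf]
    exact map_add _ _ _)
  refine ⟨{ toFun := fun t => χb (kf t)
            map_one' := by rw [hk1, map_one]
            map_mul' := fun t t' => by rw [hkmul, map_mul]
            map_zero' := by rw [hk0, map_zero]
            map_add' := fun t t' => by rw [hkadd, map_add] }, ?_⟩
  ext c
  show χb (kf (algebraMap C D c)) = χ c
  have h1 : kf (algebraMap C D c) = algebraMap C _ c := hminj (by
    rw [hkf, hm]
    rfl)
  rw [h1, hχb]

theorem main13839 (A C C' B : Type u) [CommRing A] [CommRing C] [CommRing C'] [CommRing B]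
    [Algebra A C] [Algebra A C'] [Algebra A B] (hC : HTop.IsSeminormalRing C)
    (g : C →ₐ[A] C') [IsReduced C']
    (hg : FlatMor.IsUnivHomeo (Spec.map (CommRingCat.ofHom g.toRingHom)))
    (d : ℕ) (hd : 0 < d)
    (hdeg : ∀ q : PrimeSpectrum C',
      @Module.finrank (PrimeSpectrum.comap g.toRingHom q).asIdeal.ResidueField
          q.asIdeal.ResidueField _ _
          (Ideal.ResidueField.map (PrimeSpectrum.comap g.toRingHom q).asIdeal q.asIdeal
            g.toRingHom rfl).toAlgebra.toModule ∣ d)
    [Module.Flat A B] (φ : B →ₐ[A] C') (x : ⨂[A] _ : Fin d, B) (hx : x ∈ SymTen.TS A B d) :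
    φ (PiTensorProduct.lift (MultilinearMap.mkPiAlgebra A (Fin d) B) x) ∈ g.range := by
  letI : Algebra C C' := g.toRingHom.toAlgebra
  haveI : IsScalarTower A C C' := IsScalarTower.of_algebraMap_eq (fun a => (g.commutes a).symm)
  have hU : FlatMor.IsUnivHomeo (Spec.map (CommRingCat.ofHom (algebraMap C C'))) := hg
  obtain ⟨hint, hPU, hker⟩ := (isUnivHomeo_iff_alg C C').mp hU
  haveI := hint
  obtain ⟨D, hD⟩ : ∃ D : Subalgebra C C', D = Algebra.adjoin C
    {φ (PiTensorProduct.lift (MultilinearMap.mkPiAlgebra A (Fin d) B) x)} := ⟨_, rfl⟩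
  have hyD : φ (PiTensorProduct.lift (MultilinearMap.mkPiAlgebra A (Fin d) B) x) ∈ D :=
    hD ▸ Algebra.subset_adjoin (Set.mem_singleton _)
  have hUD := (Groth.Agent.S7404.result D).1 hU
  haveI : IsReduced D := isReduced_of_injective D.val Subtype.val_injective
  have hPE : PE C D := pe_adjoin hPU hker d hd (fun q' _ => hdeg ⟨q', inferInstance⟩) φ x hx D hD
  have hbij := bijective_of_isSeminormalRing_of_PE hC hUD hPE
  obtain ⟨c, hc⟩ := hbij.2 ⟨_, hyD⟩
  exact (AlgHom.mem_range g).2 ⟨c, congrArg Subtype.val hc⟩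

end Groth.Agent.Lib.ChowMonH1
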