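import Mathlib

set_option autoImplicit false

namespace Groth.Agent.Lib.Circulant

open Finset Matrix

/-- the quadratic function -/
noncomputable def G (N : ℕ) (t : ℝ) : ℝ := t * (t - N) / 2 + ((N : ℝ) ^ 2 - 1) / 12

noncomputable def F (N : ℕ) (d : ZMod N) : ℝ := G N (d.val : ℝ)

theorem sum_G_range (M c : ℝ) (n : ℕ) :
    ∑ v ∈ range n, ((v : ℝ) * ((v : ℝ) - M) / 2 + c) =
      ((n : ℝ) * (n - 1) * (2 * n - 1) / 6 - M * (n * (n - 1) / 2)) / 2 + n * c := by
  induction n with
  | zero => simp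
  | succ n ih => rw [sum_range_succ, ih]; push_cast; ring

theorem sum_F (N : ℕ) [NeZero N] : ∑ d : ZMod N, F N d = 0 := by
  obtain ⟨n, rfl⟩ := Nat.exists_eq_succ_of_ne_zero (NeZero.ne N)
  have h1 : ∑ d : ZMod (n + 1), F (n + 1) d = ∑ v ∈ range (n + 1), G (n + 1) (v : ℝ) :=
    Fin.sum_univ_eq_sum_range (fun v => G (n + 1) (v : ℝ)) (n + 1)
  rw [h1]
  unfold G
  rw [sum_G_range]
  push_cast
  ring

theorem val_add_one (n : ℕ) (d : ZMod (n + 1)) : (d + 1).val = (d.val + 1) % (n + 1) := by
  rw [ZMod.val_add, ZMod.val_one_eq_one_mod, Nat.add_mod_mod]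

theorem val_sub_one (n : ℕ) (d : ZMod (n + 1)) : (d - 1).val = (d.val + n) % (n + 1) := by
  rw [sub_eq_add_neg, ZMod.val_add, ZMod.val_neg_one]

theorem second_diff (N : ℕ) [NeZero N] (d : ZMod N) :
    F N (d + 1) + F N (d - 1) - 2 * F N d = 1 - (if d = 0 then (N : ℝ) else 0) := by
  obtain ⟨n, rfl⟩ := Nat.exists_eq_succ_of_ne_zero (NeZero.ne N)
  have hv : d.val < n + 1 := ZMod.val_lt d
  unfold F G
  rw [val_add_one, val_sub_one]
  by_cases h0 : d = 0
  · rw [if_pos h0, h0, ZMod.val_zero]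
    rcases Nat.eq_zero_or_pos n with rfl | hn
    · norm_num
    · rw [Nat.mod_eq_of_lt (by omega : 0 + 1 < n + 1), Nat.mod_eq_of_lt (by omega : 0 + n < n + 1)]
      push_cast
      ring
  · rw [if_neg h0]
    have hv0 : d.val ≠ 0 := fun h => h0 ((ZMod.val_eq_zero d).mp h)
    obtain ⟨w, hw⟩ : ∃ w, d.val = w + 1 := ⟨d.val - 1, by omega⟩
    rw [hw]
    have h2 : (w + 1 + n) % (n + 1) = w := by
      rw [show w + 1 + n = w + (n + 1) by ring, Nat.add_mod_right, Nat.mod_eq_of_lt (by omega)]
    rw [h2]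
    rcases Nat.lt_or_ge (w + 1 + 1) (n + 1) with h3 | h3
    · rw [Nat.mod_eq_of_lt h3]; push_cast; ring
    · have h4 : w + 1 + 1 = n + 1 := by omega
      rw [h4, Nat.mod_self]
      have h5 : (n : ℝ) = w + 1 := by exact_mod_cast (by omega : n = w + 1)
      push_cast
      rw [h5]; ring

theorem F_neg (N : ℕ) [NeZero N] (d : ZMod N) : F N (-d) = F N d := by
  unfold F G
  rw [ZMod.neg_val]
  split_ifs with h
  · rw [h, ZMod.val_zero]
  · have hv : d.val ≤ N := (ZMod.val_lt d).le
    rw [Nat.cast_sub hv]; ring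

theorem posSemidef (N : ℕ) [NeZero N] :
    (Matrix.of fun i j : ZMod N =>
        ((((j - i).val : ℝ) * (((j - i).val : ℝ) - (N : ℝ))) / 2 + ((N : ℝ) ^ 2 - 1) / 12) /
          (N : ℝ)).PosSemidef := by
  have hN : (N : ℝ) ≠ 0 := Nat.cast_ne_zero.mpr (NeZero.ne N)
  have hC : (Matrix.of fun i j : ZMod N =>
        ((((j - i).val : ℝ) * (((j - i).val : ℝ) - (N : ℝ))) / 2 + ((N : ℝ) ^ 2 - 1) / 12) /
          (N : ℝ)) =
      Matrix.of fun i j : ZMod N => F N (j - i) / N := rfl
  rw [hC]
  apply Matrix.PosSemidef.of_dotProduct_mulVec_nonneg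
  · apply Matrix.IsHermitian.ext
    intro i j
    simp only [Matrix.of_apply, star_trivial]
    rw [← neg_sub i j, F_neg]
  · intro x
    have hstar : star x = x := by funext i; exact star_trivial _
    rw [hstar]
    obtain ⟨y, hy⟩ : ∃ y : ZMod N → ℝ, y = (Matrix.of fun i j : ZMod N => F N (j - i) / N) *ᵥ x :=
      ⟨_, rfl⟩
    have hyi : ∀ i, y i = ∑ j, F N (j - i) / N * x j := fun i => by rw [hy]; rfl
    rw [← hy]
    have hgoal : x ⬝ᵥ y = ∑ i, x i * y i := rfl
    have h1 : ∀ i, 2 * y i - y (i + 1) - y (i - 1) = x i - (1 / N) * ∑ j, x j := by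
      intro i
      rw [hyi, hyi, hyi]
      rw [Finset.mul_sum, ← Finset.sum_sub_distrib, ← Finset.sum_sub_distrib]
      have hterm : ∀ j, 2 * (F N (j - i) / N * x j) - F N (j - (i + 1)) / N * x j -
          F N (j - (i - 1)) / N * x j = (if j = i then x j else 0) - (1 / N) * x j := by
        intro j
        have hb := second_diff N (j - i)
        have e1 : j - (i + 1) = (j - i) - 1 := by ring
        have e2 : j - (i - 1) = (j - i) + 1 := by ring
        rw [e1, e2]
        have hexp : 2 * (F N (j - i) / N * x j) - F N (j - i - 1) / N * x j -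
            F N (j - i + 1) / N * x j =
            (2 * F N (j - i) - F N (j - i - 1) - F N (j - i + 1)) / N * x j := by ring
        rw [hexp]
        by_cases hji : j = i
        · have hji' : j - i = 0 := sub_eq_zero.mpr hji
          rw [if_pos hji'] at hb
          rw [if_pos hji]
          have key : 2 * F N (j - i) - F N (j - i - 1) - F N (j - i + 1) = (N : ℝ) - 1 := by linarith
          rw [key]; field_simp
        · have hji' : ¬ (j - i = 0) := fun h => hji (sub_eq_zero.mp h)
          rw [if_neg hji'] at hb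
          rw [if_neg hji]
          have key : 2 * F N (j - i) - F N (j - i - 1) - F N (j - i + 1) = -1 := by linarith
          rw [key]; ring
      rw [Finset.sum_congr rfl (fun j _ => hterm j), Finset.sum_sub_distrib, Finset.sum_ite_eq',
        if_pos (Finset.mem_univ i), ← Finset.mul_sum]
    have h2 : ∑ i, y i = 0 := by
      simp only [hyi]
      rw [Finset.sum_comm]
      apply Finset.sum_eq_zero
      intro j _
      rw [← Finset.sum_mul, ← Finset.sum_div]
      have hre : ∑ i, F N (j - i) = ∑ d, F N d := Equiv.sum_comp (Equiv.subLeft j) (F N)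
      rw [hre, sum_F, zero_div, zero_mul]
    have h3 : ∑ i, (y i - y (i + 1)) ^ 2 = ∑ i, y i * (2 * y i - y (i + 1) - y (i - 1)) := by
      have e1 : ∑ i, y (i + 1) ^ 2 = ∑ i, y i ^ 2 :=
        Equiv.sum_comp (Equiv.addRight (1 : ZMod N)) (fun i => y i ^ 2)
      have e2 : ∑ i, y (i + 1) * y i = ∑ i, y i * y (i - 1) := by
        have h := Equiv.sum_comp (Equiv.addRight (1 : ZMod N)) (fun i => y i * y (i - 1))
        simp only [Equiv.coe_addRight, add_sub_cancel_right] at h
        exact h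
      calc ∑ i, (y i - y (i + 1)) ^ 2
          = ∑ i, (y i ^ 2 - 2 * (y (i + 1) * y i) + y (i + 1) ^ 2) := by
            apply Finset.sum_congr rfl; intro i _; ring
        _ = ∑ i, y i ^ 2 - 2 * ∑ i, y (i + 1) * y i + ∑ i, y (i + 1) ^ 2 := by
            rw [Finset.sum_add_distrib, Finset.sum_sub_distrib, Finset.mul_sum]
        _ = 2 * ∑ i, y i ^ 2 - ∑ i, y (i + 1) * y i - ∑ i, y i * y (i - 1) := by
            rw [e1, ← e2]; ring
        _ = ∑ i, y i * (2 * y i - y (i + 1) - y (i - 1)) := by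
            rw [Finset.mul_sum, ← Finset.sum_sub_distrib, ← Finset.sum_sub_distrib]
            apply Finset.sum_congr rfl; intro i _; ring
    have h4 : ∑ i, x i * y i = ∑ i, (y i - y (i + 1)) ^ 2 := by
      rw [h3]
      simp only [h1, mul_sub, Finset.sum_sub_distrib]
      rw [← Finset.sum_mul, h2, zero_mul, sub_zero]
      apply Finset.sum_congr rfl; intro i _; ring
    rw [hgoal, h4]
    exact Finset.sum_nonneg (fun i _ => sq_nonneg _)

end Groth.Agent.Lib.Circulant
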