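import Groth.Agent.Lib.FreeFactor2_helper2

/-!
# Morphisms out of the structure sheaf of a slice site and sections, II (helper2)
-/

set_option autoImplicit false
universe u
open CategoryTheory Limits ModSite Opposite

namespace Groth.Agent.Lib.FreeFactor

open Groth.Agent.Lib.StalkFlatPt

variable {C : Type u} [SmallCategory C] {J : GrothendieckTopology C} {O : Sheaf J CommRingCat.{u}}

/-- ring-valued evaluation of an endomorphism of the structure sheaf of the slice -/
noncomputable def evR {W : C} (r : unitW O W ⟶ unitW O W) : O.obj.obj (op W) :=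
  ev (unitW O W) r

/-- evaluation of a morphism `O_W ⟶ H|_W` as a section of `H` over `W` -/
noncomputable def evH {W : C} (H : Mod O) (f : unitW O W ⟶ (restr O W).obj H) : Sec H W :=
  ev ((restr O W).obj H) f

lemma evR_injective {W : C} : Function.Injective (evR (O := O) (W := W)) :=
  ev_injective (unitW O W)

lemma evR_surjective {W : C} : Function.Surjective (evR (O := O) (W := W)) :=
  ev_surjective (unitW O W)

lemma evH_injective {W : C} (H : Mod O) : Function.Injective (evH (W := W) H) :=
  ev_injective ((restr O W).obj H)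

lemma evH_surjective {W : C} (H : Mod O) : Function.Surjective (evH (W := W) H) :=
  ev_surjective ((restr O W).obj H)

lemma evH_sum {W : C} (H : Mod O) {ι : Type*} (s : Finset ι)
    (f : ι → (unitW O W ⟶ (restr O W).obj H)) :
    evH H (∑ i ∈ s, f i) = ∑ i ∈ s, evH H (f i) := ev_sum _ s f

lemma evR_sum {W : C} {ι : Type*} (s : Finset ι) (f : ι → (unitW O W ⟶ unitW O W)) :
    evR (∑ i ∈ s, f i) = ∑ i ∈ s, evR (f i) := ev_sum _ s f

lemma evH_zero {W : C} (H : Mod O) : evH (W := W) H 0 = 0 := ev_zero _

lemma evR_zero {W : C} : evR (O := O) (W := W) 0 = 0 := ev_zero _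

lemma evH_comp_smul {W : C} (H : Mod O) (r : unitW O W ⟶ unitW O W)
    (f : unitW O W ⟶ (restr O W).obj H) : evH H (r ≫ f) = evR r • evH H f := by
  let c : (ringSh (O.over W)).obj.obj (op (tW W)) := ev (unitW O W) r
  have h := (f.val.app (op (tW W))).hom.map_smul c
    (1 : (ringSh (O.over W)).obj.obj (op (tW W)))
  have e : c = c • (1 : (ringSh (O.over W)).obj.obj (op (tW W))) := (mul_one c).symm
  exact (congrArg (f.val.app (op (tW W))).hom e).trans h

lemma evR_comp_mul {W : C} (r r' : unitW O W ⟶ unitW O W) : evR (r ≫ r') = evR r * evR r' := by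
  let c : (ringSh (O.over W)).obj.obj (op (tW W)) := ev (unitW O W) r
  have h := (r'.val.app (op (tW W))).hom.map_smul c
    (1 : (ringSh (O.over W)).obj.obj (op (tW W)))
  have e : c = c • (1 : (ringSh (O.over W)).obj.obj (op (tW W))) := (mul_one c).symm
  exact (congrArg (r'.val.app (op (tW W))).hom e).trans h

open Groth.Agent.Lib.ModSiteH8 in
/-- restriction of modules from `C/W` to `C/W'` along `g : W' ⟶ W` -/
noncomputable abbrev Φ {W' W : C} (g : W' ⟶ W) : Mod (O.over W) ⥤ Mod (O.over W') :=
  SheafOfModules.overMap.{u} (ringSh O) g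

open Groth.Agent.Lib.ModSiteH8 in
theorem Φ_isLeftAdjoint {W' W : C} (g : W' ⟶ W) : (Φ (O := O) g).IsLeftAdjoint := by
  unfold Φ SheafOfModules.overMap
  exact pushforward_isLeftAdjoint (J := J.over W') (K := J.over W) (Over.map g) _

instance Φ_additive {W' W : C} (g : W' ⟶ W) : (Φ (O := O) g).Additive :=
  haveI := Φ_isLeftAdjoint (O := O) g
  haveI := preservesBinaryBiproducts_of_preservesBinaryCoproducts (Φ (O := O) g)
  Functor.additive_of_preservesBinaryBiproducts _

lemma Φ_map_restr {W' W : C} (g : W' ⟶ W) {F H : Mod O} (φ : F ⟶ H) :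
    (Φ g).map ((restr O W).map φ) = (restr O W').map φ := rfl

/-- `Φ_g` on morphisms `O_W ⟶ H|_W` -/
noncomputable def ΦH {W' W : C} (g : W' ⟶ W) (H : Mod O) (f : unitW O W ⟶ (restr O W).obj H) :
    unitW O W' ⟶ (restr O W').obj H := (Φ g).map f

/-- `Φ_g` on endomorphisms of the structure sheaf -/
noncomputable def ΦR {W' W : C} (g : W' ⟶ W) (r : unitW O W ⟶ unitW O W) :
    unitW O W' ⟶ unitW O W' := (Φ g).map r

lemma evH_ΦH {W' W : C} (g : W' ⟶ W) (H : Mod O) (f : unitW O W ⟶ (restr O W).obj H) :
    evH H (ΦH g H f) = res H g (evH H f) := by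
  change f.val.app (op ((Over.map g).obj (tW W')))
    (1 : (ringSh (O.over W)).obj.obj (op ((Over.map g).obj (tW W')))) = _
  have h := unitHomEquiv_val ((restr O W).obj H) f (op ((Over.map g).obj (tW W')))
  rw [SheafOfModules.unitHomEquiv_apply_coe] at h
  rw [h]
  change H.val.map (𝟙 W' ≫ g).op (evH H f) = H.val.map g.op (evH H f)
  exact PresheafOfModules.congr_map_apply H.val (by rw [Category.id_comp]) _

lemma evR_ΦR {W' W : C} (g : W' ⟶ W) (r : unitW O W ⟶ unitW O W) :
    evR (ΦR g r) = resR g (evR r) := by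
  change r.val.app (op ((Over.map g).obj (tW W')))
    (1 : (ringSh (O.over W)).obj.obj (op ((Over.map g).obj (tW W')))) = _
  have h := unitHomEquiv_val (unitW O W) r (op ((Over.map g).obj (tW W')))
  rw [SheafOfModules.unitHomEquiv_apply_coe] at h
  rw [h]
  change (O.obj.map (𝟙 W' ≫ g).op).hom (evR r) = (O.obj.map g.op).hom (evR r)
  rw [Category.id_comp]

end Groth.Agent.Lib.FreeFactor
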