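import Groth.Agent.Lib.FreeFactor1_helper2
import Groth.Agent.Lib.FreeFactor3_helper2

/-!
# A morphism from a finitely presented module to a flat module factors locally through a finite
free module (helper2)
-/

set_option autoImplicit false
universe u
open CategoryTheory Limits ModSite Opposite

namespace Groth.Agent.Lib.FreeFactor

open Groth.Agent.Lib.StalkFlatPt Groth.Agent.Lib.LocTriv

variable {C : Type u} [SmallCategory C] {J : GrothendieckTopology C} {O : Sheaf J CommRingCat.{u}}

/-- finite systems of relations indexed by arbitrary finite types are locally trivial -/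
theorem locTriv_system' {F : Mod O} (hF : LocTriv F) {ιr ιn : Type*} [Fintype ιr] [Fintype ιn]
    (U : C) (f : ιr → ιn → O.obj.obj (op U)) (s : ιn → Sec F U)
    (h : ∀ i, ∑ j, f i j • s j = 0) :
    ∃ S ∈ J U, ∀ ⦃V : C⦄ (g : V ⟶ U), S g →
      ∃ (l : ℕ) (t : Fin l → Sec F V) (a : ιn → Fin l → O.obj.obj (op V)),
        (∀ j, res F g (s j) = ∑ k, a j k • t k) ∧
          (∀ i k, ∑ j, a j k * resR g (f i j) = 0) := by
  classical
  let eR := Fintype.equivFin ιr
  let eN := Fintype.equivFin ιn
  obtain ⟨S, hS, hT⟩ := hF.system (Fintype.card ιr) U (Fintype.card ιn)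
    (fun i j => f (eR.symm i) (eN.symm j)) (fun j => s (eN.symm j)) (by
      intro i
      rw [← h (eR.symm i)]
      exact Equiv.sum_comp eN.symm (fun j => f (eR.symm i) j • s j))
  refine ⟨S, hS, fun V g hg => ?_⟩
  obtain ⟨l, t, a, h1, h2⟩ := hT g hg
  refine ⟨l, t, fun j k => a (eN j) k, fun j => ?_, fun i k => ?_⟩
  · have := h1 (eN j)
    simpa only [Equiv.symm_apply_apply] using this
  · have := h2 (eR i) k
    simp only [Equiv.symm_apply_apply] at this
    rw [← this]
    refine Eq.trans ?_ (Equiv.sum_comp eN (fun j' => a j' k * resR g (f i (eN.symm j'))))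
    refine Finset.sum_congr rfl (fun j _ => ?_)
    simp only [Equiv.symm_apply_apply]

open SheafOfModules in
/-- **core lemma**: given a finite presentation of `F|_U` and a flat `H`, every `φ : F ⟶ H`
factors through a finite free module on the members of a covering sieve of `U` -/
theorem exists_factorisation_of_presentation {F H : Mod O} (hH : LocTriv H) (φ : F ⟶ H) (U : C)
    (P : ((restr O U).obj F).Presentation) [Finite P.generators.I] [Finite P.relations.I] :
    ∃ S ∈ J U, ∀ ⦃W : C⦄ (g : W ⟶ U), S g →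
      ∃ (n : ℕ) (a : (restr O W).obj F ⟶ SheafOfModules.free (ULift.{u} (Fin n)))
        (b : SheafOfModules.free (ULift.{u} (Fin n)) ⟶ (restr O W).obj H),
        a ≫ b = (restr O W).map φ := by
  classical
  haveI := Fintype.ofFinite P.generators.I
  haveI := Fintype.ofFinite P.relations.I
  let ρ : SheafOfModules.free P.relations.I ⟶ SheafOfModules.free P.generators.I :=
    (SheafOfModules.freeHomEquiv _).symm P.relations.s ≫ kernel.ι _
  let π : SheafOfModules.free P.generators.I ⟶ (restr O U).obj F := P.generators.π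
  have w : ρ ≫ π = 0 := by simp [ρ, π]
  have hπ : IsColimit (CokernelCofork.ofπ π w) := P.isColimit
  let φU : (restr O U).obj F ⟶ (restr O U).obj H := (restr O U).map φ
  let ιA : P.relations.I → (unitW O U ⟶ SheafOfModules.free P.relations.I) :=
    fun i => SheafOfModules.ιFree i
  let ιB : P.generators.I → (unitW O U ⟶ SheafOfModules.free P.generators.I) :=
    fun j => SheafOfModules.ιFree j
  have hA : IsColimit (Cofan.mk _ ιA) := SheafOfModules.isColimitFreeCofan P.relations.I
  have hB : IsColimit (Cofan.mk _ ιB) := SheafOfModules.isColimitFreeCofan P.generators.I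
  let hj : P.generators.I → (unitW O U ⟶ (restr O U).obj H) := fun j => ιB j ≫ π ≫ φU
  let ρij : P.relations.I → P.generators.I → (unitW O U ⟶ unitW O U) :=
    fun i j => ιA i ≫ ρ ≫ proj ιB hB j
  have hrel : ∀ i, ∑ j, evR (ρij i j) • evH H (hj j) = 0 := by
    intro i
    have h0 : ∑ j, ρij i j ≫ hj j = 0 := by
      have h1 : ∑ j, ρij i j ≫ hj j =
          ιA i ≫ ρ ≫ (∑ j, proj ιB hB j ≫ ιB j) ≫ π ≫ φU := by
        simp only [ρij, hj, Preadditive.comp_sum, Preadditive.sum_comp, Category.assoc]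
      rw [h1, sum_proj_inj, Category.id_comp, reassoc_of% w, zero_comp, comp_zero]
    rw [← evH_zero H (W := U), ← h0, evH_sum]
    exact Finset.sum_congr rfl (fun j _ => (evH_comp_smul H _ _).symm)
  obtain ⟨S, hS, hT⟩ := locTriv_system' hH U (fun i j => evR (ρij i j))
    (fun j => evH H (hj j)) hrel
  refine ⟨S, hS, fun W g hg => ?_⟩
  obtain ⟨l, t, a, h1, h2⟩ := hT g hg
  choose τ hτ using fun k : ULift.{u} (Fin l) => evH_surjective (W := W) H (t k.down)
  choose α hα using fun (j : P.generators.I) (k : ULift.{u} (Fin l)) =>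
    evR_surjective (O := O) (W := W) (a j k.down)
  haveI := Φ_isLeftAdjoint (O := O) g
  let ιA' : P.relations.I → (unitW O W ⟶ (Φ g).obj (SheafOfModules.free P.relations.I)) :=
    fun i => (Φ g).map (ιA i)
  let ιB' : P.generators.I → (unitW O W ⟶ (Φ g).obj (SheafOfModules.free P.generators.I)) :=
    fun j => (Φ g).map (ιB j)
  have hA' : IsColimit (Cofan.mk _ ιA') := isColimitCofanMkObjOfIsColimit (Φ g) _ _ hA
  have hB' : IsColimit (Cofan.mk _ ιB') := isColimitCofanMkObjOfIsColimit (Φ g) _ _ hB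
  have w' : (Φ g).map ρ ≫ (Φ g).map π = 0 := by
    rw [← Functor.map_comp, w, Functor.map_zero]
  have hπ' : IsColimit (CokernelCofork.ofπ ((Φ g).map π) w') :=
    CokernelCofork.mapIsColimit _ hπ (Φ g)
  have key1 : ∀ j, ιB' j ≫ (Φ g).map π ≫ (restr O W).map φ = ∑ k, α j k ≫ τ k := by
    intro j
    apply evH_injective H
    have e1 : ιB' j ≫ (Φ g).map π ≫ (restr O W).map φ = ΦH g H (hj j) :=
      (((Φ g).map_comp (ιB j) (π ≫ φU)).trans
        (congrArg (fun x => (Φ g).map (ιB j) ≫ x) ((Φ g).map_comp π φU))).symm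
    rw [e1, evH_ΦH, h1 j, evH_sum]
    refine ((Equiv.sum_comp Equiv.ulift (fun k' => a j k' • t k')).symm.trans ?_)
    refine Finset.sum_congr rfl (fun k _ => ?_)
    rw [evH_comp_smul, hτ, hα]
    rfl
  have key2 : ∀ i k, ∑ j, (ιA' i ≫ (Φ g).map ρ ≫ proj ιB' hB' j) ≫ α j k = 0 := by
    intro i k
    apply evR_injective
    rw [evR_zero, evR_sum]
    rw [← h2 i k.down]
    refine Finset.sum_congr rfl (fun j _ => ?_)
    have e2 : ιA' i ≫ (Φ g).map ρ ≫ proj ιB' hB' j = ΦR g (ρij i j) :=
      (((Φ g).map_comp (ιA i) (ρ ≫ proj ιB hB j)).trans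
        (congrArg (fun x => (Φ g).map (ιA i) ≫ x)
          (((Φ g).map_comp ρ (proj ιB hB j)).trans
            (congrArg (fun x => (Φ g).map ρ ≫ x) (map_proj ιB hB (Φ g) hB' j))))).symm
    rw [e2, evR_comp_mul, evR_ΦR, hα, mul_comm]
  obtain ⟨a', b', hab⟩ := exists_factorisation ιA' hA' ιB' hB'
    (fun k : ULift.{u} (Fin l) => SheafOfModules.ιFree k)
    (SheafOfModules.isColimitFreeCofan (ULift.{u} (Fin l)))
    ((Φ g).map ρ) ((Φ g).map π) w' hπ' ((restr O W).map φ) τ α key1 key2
  exact ⟨l, a', b', hab⟩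

end Groth.Agent.Lib.FreeFactor
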