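import Mathlib
import Groth.Prelude.Def_ModSite
import Groth.Agent.Lib.ModSite9_helper8

/-!
# Local lifting for a tensor-exact sheaf of modules

If `F` is tensor-exact, `K → P → Q` is a left exact sequence of presheaves of modules and
`z ∈ (P ⊗ F)(U)` is killed by `ρ ⊗ F`, then locally `z` comes from `K ⊗ F`.
-/

namespace Groth.Agent.Lib.StalkFlatB

open CategoryTheory Limits Opposite MonoidalCategory ModSite
open Groth.Agent.Lib.ModSiteH8

universe u

variable {C : Type u} [SmallCategory C] {J : GrothendieckTopology C}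
variable (O : Sheaf J CommRingCat.{u})

/-- if `F` is tensor-exact then `P ↦ L(P ⊗ iF)` is left exact on presheaves of modules -/
theorem preservesFiniteLimits_tensorRight_Lf (F : Mod O)
    (hF : PreservesFiniteLimits ((tensorBi O).flip.obj F)) :
    PreservesFiniteLimits (tensorRight ((iF O).obj F) ⋙ Lf O) := by
  haveI := hF
  haveI : PreservesFiniteLimits (Lf O ⋙ (tensorBi O).flip.obj F) := comp_preservesFiniteLimits _ _
  exact preservesFiniteLimits_of_natIso
    (Functor.isoWhiskerLeft (Lf O) (flipIso O F) ≪≫ (thetaIso O F).symm)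

instance preservesFiniteColimits_tensorRight_Lf (Q : PM O.obj) :
    PreservesFiniteColimits (tensorRight Q ⋙ Lf O) := by
  haveI : PreservesColimitsOfSize.{u, u} (tensorRight Q) := inferInstance
  haveI : PreservesFiniteColimits (tensorRight Q) := inferInstance
  haveI : PreservesFiniteColimits (Lf O) := inferInstance
  exact comp_preservesFiniteColimits _ _

instance additive_tensorRight_Lf (Q : PM O.obj) : (tensorRight Q ⋙ Lf O).Additive :=
  additive_of_preservesFiniteColimits _

variable {O}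

/-- the sieve of arrows along which `z` lifts to `K ⊗ Q` -/
def liftSieve {K P : PM O.obj} (ι : K ⟶ P) (Q : PM O.obj) {U : Cᵒᵖ} (z : (P ⊗ Q).obj U) :
    Sieve U.unop where
  arrows V f := ∃ w : (K ⊗ Q).obj (op V), (ι ▷ Q).app (op V) w = (P ⊗ Q).map f.op z
  downward_closed := by
    rintro V W f ⟨w, hw⟩ g
    refine ⟨(K ⊗ Q).map g.op w, ?_⟩
    have h1 := PresheafOfModules.naturality_apply (ι ▷ Q) g.op w
    rw [h1, hw, op_comp, PresheafOfModules.map_comp_apply]

variable (O) in
/-- sections over `U` of `L(P ⊗ iF)` -/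
noncomputable def secFun (F : Mod O) (U : Cᵒᵖ) : PM O.obj ⥤ ModuleCat (O.obj.obj U) :=
  (tensorRight ((iF O).obj F) ⋙ Lf O) ⋙ iF O ⋙
    PresheafOfModules.evaluation (O.obj ⋙ forget₂ CommRingCat.{u} RingCat.{u}) U

instance secFun_additive (F : Mod O) (U : Cᵒᵖ) : (secFun O F U).Additive := by
  haveI : (iF O).Additive := inferInstanceAs (SheafOfModules.forget (ringSh O)).Additive
  haveI : (tensorRight ((iF O).obj F) ⋙ Lf O).Additive := additive_tensorRight_Lf O _
  haveI h3 : (PresheafOfModules.evaluation (O.obj ⋙ forget₂ CommRingCat.{u} RingCat.{u}) U).Additive :=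
    inferInstance
  haveI h4 : (iF O ⋙ PresheafOfModules.evaluation
      (O.obj ⋙ forget₂ CommRingCat.{u} RingCat.{u}) U).Additive := inferInstance
  unfold secFun
  infer_instance

theorem secFun_preservesFiniteLimits (F : Mod O)
    (hF : PreservesFiniteLimits ((tensorBi O).flip.obj F)) (U : Cᵒᵖ) :
    PreservesFiniteLimits (secFun O F U) := by
  haveI := preservesFiniteLimits_tensorRight_Lf O F hF
  haveI : PreservesFiniteLimits (iF O ⋙ PresheafOfModules.evaluation
      (O.obj ⋙ forget₂ CommRingCat.{u} RingCat.{u}) U) := comp_preservesFiniteLimits _ _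
  unfold secFun
  exact comp_preservesFiniteLimits _ _

section

variable (F : Mod O)


lemma etaP_nat {A B : PM O.obj} (φ : A ⟶ B) (V : Cᵒᵖ) (a : (A ⊗ ((iF O).obj F)).obj V) :
    ((iF O).map ((Lf O).map (φ ▷ ((iF O).obj F)))).app V ((etaP O (A ⊗ ((iF O).obj F))).app V a) =
      (etaP O (B ⊗ ((iF O).obj F))).app V ((φ ▷ ((iF O).obj F)).app V a) := by
  have h := (adjLf O).unit.naturality (φ ▷ ((iF O).obj F))
  have h' := congrArg (fun t => (t.app V) a) h
  exact h'.symm

/-- **local lifting lemma** -/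
theorem liftSieve_mem (hF : PreservesFiniteLimits ((tensorBi O).flip.obj F))
    {K P Q : PM O.obj} (ι : K ⟶ P) (ρ : P ⟶ Q) (w : ι ≫ ρ = 0)
    (hex : (ShortComplex.mk ι ρ w).Exact) [Mono ι] (U : Cᵒᵖ)
    (z : (P ⊗ ((iF O).obj F)).obj U) (hz : (ρ ▷ ((iF O).obj F)).app U z = 0) :
    liftSieve ι ((iF O).obj F) z ∈ J U.unop := by
  haveI := secFun_preservesFiniteLimits F hF U
  have hG : ∀ (S : ShortComplex (PM O.obj)), S.Exact ∧ Mono S.f →
      (S.map (secFun O F U)).Exact ∧ Mono ((secFun O F U).map S.f) :=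
    ((Functor.preservesFiniteLimits_tfae (secFun O F U)).out 3 1).1 this
  have hex' := (hG (ShortComplex.mk ι ρ w) ⟨hex, inferInstance⟩).1
  rw [ShortComplex.moduleCat_exact_iff] at hex'
  obtain ⟨w₀, hw₀⟩ := hex' ((etaP O (P ⊗ ((iF O).obj F))).app U z) (by
    refine (etaP_nat F ρ U z).trans ?_
    rw [hz]
    exact map_zero ((etaP O (Q ⊗ ((iF O).obj F))).app U).hom)
  replace hw₀ : ((iF O).map ((Lf O).map (ι ▷ ((iF O).obj F)))).app U w₀ = (etaP O (P ⊗ ((iF O).obj F))).app U z := hw₀
  -- local lifting of `w₀`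
  obtain ⟨S₁, hS₁, h₁⟩ := etaP_ELS O (K ⊗ ((iF O).obj F)) U w₀
  refine J.transitive hS₁ _ (fun V f hf => ?_)
  obtain ⟨t, ht⟩ := h₁ f hf
  -- the difference is killed by `η`
  have hd : (etaP O (P ⊗ ((iF O).obj F))).app (op V)
      ((ι ▷ ((iF O).obj F)).app (op V) t -
        (show ↑((P ⊗ ((iF O).obj F)).obj (op V)) from (P ⊗ ((iF O).obj F)).map f.op z)) = 0 := by
    rw [map_sub, sub_eq_zero, ← etaP_nat F ι (op V) t, ht]
    have h2 := PresheafOfModules.naturality_apply ((iF O).map ((Lf O).map (ι ▷ ((iF O).obj F)))) f.op w₀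
    have h3 := PresheafOfModules.naturality_apply (etaP O (P ⊗ ((iF O).obj F))) f.op z
    exact h2.trans ((congrArg _ hw₀).trans h3.symm)
  obtain ⟨S₂, hS₂, h₂⟩ := etaP_ELI O (P ⊗ ((iF O).obj F)) (op V) _ hd
  refine J.superset_covering (fun W g hg => ?_) hS₂
  refine ⟨(K ⊗ ((iF O).obj F)).map g.op t, ?_⟩
  have h4 := h₂ g hg
  rw [map_sub, sub_eq_zero] at h4
  have h5 := PresheafOfModules.naturality_apply (ι ▷ ((iF O).obj F)) g.op t
  rw [h5, h4, op_comp, PresheafOfModules.map_comp_apply]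

end

end Groth.Agent.Lib.StalkFlatB
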