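import Mathlib

/-!
# Pure algebra for "tensor exact ⟹ stalkwise flat": reading off coordinates in `(I →₀ A) ⊗ M`
-/

namespace Groth.Agent.Lib.StalkFlatB

open TensorProduct

section

variable {A : Type*} [CommRing A] {I : Type*} [Fintype I] [DecidableEq I]
  {M : Type*} [AddCommGroup M] [Module A M]

/-- the `i`-th coordinate map `(I →₀ A) ⊗ M → M` -/
noncomputable def coord (A : Type*) [CommRing A] {I : Type*} (M : Type*) [AddCommGroup M]
    [Module A M] (i : I) : (I →₀ A) ⊗[A] M →ₗ[A] M :=
  TensorProduct.lift ((LinearMap.lsmul A M).comp (Finsupp.lapply i))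

@[simp]
lemma coord_tmul (i : I) (p : I →₀ A) (m : M) : coord A M i (p ⊗ₜ m) = p i • m := by
  simp [coord]

/-- reading off coordinates from an identity in `(I →₀ A) ⊗ M` -/
theorem coords_of_eq {T : Type*} [Fintype T] (κ : T → (I →₀ A)) (y : T → M) (m : I → M)
    (r : I → A)
    (hE : ∑ j, κ j ⊗ₜ[A] y j = ∑ i, (Finsupp.single i (1 : A)) ⊗ₜ[A] m i)
    (hK : ∀ j, Finsupp.lift A A I r (κ j) = 0) :
    (∀ i, m i = ∑ j, κ j i • y j) ∧ ∀ j, ∑ i, r i * κ j i = 0 := by
  constructor
  · intro i
    have h := congrArg (coord A M i) hE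
    rw [map_sum, map_sum] at h
    simp only [coord_tmul] at h
    rw [h.symm.symm] at *
    have h2 : ∑ i', (Finsupp.single i' (1 : A)) i • m i' = m i := by
      rw [Finset.sum_eq_single i]
      · simp
      · intro b _ hb
        simp [Finsupp.single_apply, hb]
      · intro hi
        exact absurd (Finset.mem_univ i) hi
    exact h2.symm.trans h.symm
  · intro j
    have h := hK j
    rw [Finsupp.lift_apply, Finsupp.sum_fintype _ _ (fun i => by simp)] at h
    simpa [mul_comm] using h

end

end Groth.Agent.Lib.StalkFlatB
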