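import Mathlib
import Groth.Prelude.Def_ModSite
import Groth.Agent.Lib.StalkFlatA_helper2
import Groth.Agent.Lib.StalkFlatB1_helper2
import Groth.Agent.Lib.StalkFlatB2_helper2

/-!
# Tensor exact ⟹ stalkwise flat, on a ringed space
-/

namespace Groth.Agent.Lib.StalkFlatB

open CategoryTheory Limits Opposite MonoidalCategory ModSite TopologicalSpace TopCat
open Groth.Agent.Lib.ModSiteH8 Groth.Agent.Lib.StalkFlatTop Groth.Agent.Lib.StalkFlatA

universe u

section Free

variable {C : Type u} [SmallCategory C] (R : Cᵒᵖ ⥤ CommRingCat.{u})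

/-- the presheaf of sets `Fin l × Hom(-, U)` -/
def genS (U : C) (l : ℕ) : Cᵒᵖ ⥤ Type u where
  obj V := ULift.{u} (Fin l) × (V.unop ⟶ U)
  map f := TypeCat.ofHom fun s => (s.1, f.unop ≫ s.2)
  map_id V := by ext s <;> simp
  map_comp f g := by ext s <;> simp

/-- the free presheaf of modules of rank `l` supported on `U` -/
noncomputable def freeP (U : C) (l : ℕ) : PM R :=
  PresheafOfModules.freeObj (R := R ⋙ forget₂ CommRingCat.{u} RingCat.{u}) (genS U l)

/-- the map of presheaves of sets underlying `ρ` -/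
noncomputable def phiS (U : C) (l : ℕ) (r : Fin l → R.obj (op U)) :
    genS U l ⟶ (PresheafOfModules.unit
      (R ⋙ forget₂ CommRingCat.{u} RingCat.{u})).presheaf ⋙ forget Ab where
  app V := TypeCat.ofHom fun s => (R.map s.2.op).hom (r s.1.down)
  naturality V W f := by
    ext s
    change (R.map (f.unop ≫ s.2).op).hom (r s.1.down) = (R.map f).hom ((R.map s.2.op).hom (r s.1.down))
    rw [op_comp, R.map_comp]
    rfl

/-- the map `ρ : freeP → O` given by sections `r i` over `U` -/
noncomputable def rho (U : C) (l : ℕ) (r : Fin l → R.obj (op U)) :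
    freeP R U l ⟶ PresheafOfModules.unit (R ⋙ forget₂ CommRingCat.{u} RingCat.{u}) :=
  PresheafOfModules.freeObjDesc (phiS R U l r)

lemma rho_app_apply (U : C) (l : ℕ) (r : Fin l → R.obj (op U)) (V : Cᵒᵖ)
    (κ : (genS U l).obj V →₀ R.obj V) :
    (rho R U l r).app V κ =
      Finsupp.lift (R.obj V) (R.obj V) ((genS U l).obj V)
        (fun s => (R.map s.2.op).hom (r s.1.down)) κ := rfl

lemma freeP_map_freeMk (U : C) (l : ℕ) {V W : Cᵒᵖ} (f : V ⟶ W) (s : (genS U l).obj V) :
    (freeP R U l).map f (ModuleCat.freeMk s) = ModuleCat.freeMk ((genS U l).map f s) := by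
  change (ModuleCat.freeDesc _) (ModuleCat.freeMk s) = _
  rw [ModuleCat.freeDesc_apply]
  rfl

end Free

section Top

variable {X : TopCat.{u}} (O : Sheaf (Opens.grothendieckTopology X) CommRingCat.{u})

open TensorProduct in
/-- local trivialisation of a relation among sections of a tensor-exact module -/
theorem exists_local_trivial (F : Mod O)
    (hF : PreservesFiniteLimits ((tensorBi O).flip.obj F)) (U : Opens X) (l : ℕ)
    (r : Fin l → O.obj.obj (op U)) (m : Fin l → ((iF O).obj F).obj (op U))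
    (h : ∑ i, r i • m i = 0) (x : X) (hx : x ∈ U) :
    ∃ (V : Opens X) (hV : V ≤ U) (_ : x ∈ V)
      (T : Finset (((kernel (rho O.obj U l r)).obj (op V)) × (((iF O).obj F).obj (op V))))
      (a : Fin l → T → O.obj.obj (op V)) (y : T → ((iF O).obj F).obj (op V)),
      (∀ i, res ((iF O).obj F) hV (m i) = ∑ j, a i j • y j) ∧
        ∀ j, ∑ i, resR (R := O.obj) hV (r i) * a i j = 0 := by
  classical
  -- the element `z`
  have hz : ((rho O.obj U l r) ▷ ((iF O).obj F)).app (op U)
      (∑ i ∈ (Finset.univ : Finset (Fin l)),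
        (ModuleCat.freeMk ((⟨i⟩, 𝟙 U) : (genS U l).obj (op U)) :
          (freeP O.obj U l).obj (op U)) ⊗ₜ[O.obj.obj (op U)] m i) = 0 := by
    refine (whiskerRight_app_sum (rho O.obj U l r) ((iF O).obj F) (op U) Finset.univ
      (fun i => (ModuleCat.freeMk ((⟨i⟩, 𝟙 U) : (genS U l).obj (op U)) :
          (freeP O.obj U l).obj (op U))) m).trans ?_
    have h1 : ∀ i : Fin l, (rho O.obj U l r).app (op U)
        (ModuleCat.freeMk ((⟨i⟩, 𝟙 U) : (genS U l).obj (op U))) = r i := by
      intro i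
      change (ModuleCat.freeDesc _) (ModuleCat.freeMk _) = _
      rw [ModuleCat.freeDesc_apply]
      change (O.obj.map (𝟙 (op U))).hom (r i) = r i
      rw [O.obj.map_id]
      rfl
    have h2 : ∀ i : Fin l, ((r i : O.obj.obj (op U)) ⊗ₜ[O.obj.obj (op U)] m i :
        (O.obj.obj (op U)) ⊗[O.obj.obj (op U)] (((iF O).obj F).obj (op U))) =
        (1 : O.obj.obj (op U)) ⊗ₜ[O.obj.obj (op U)] (r i • m i) := by
      intro i
      rw [← TensorProduct.smul_tmul, smul_eq_mul, mul_one]
    have h3 : ∑ i, ((r i : O.obj.obj (op U)) ⊗ₜ[O.obj.obj (op U)] m i :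
        (O.obj.obj (op U)) ⊗[O.obj.obj (op U)] (((iF O).obj F).obj (op U))) = 0 := by
      rw [Finset.sum_congr rfl (fun i _ => h2 i), ← TensorProduct.tmul_sum, h,
        TensorProduct.tmul_zero]
    refine Eq.trans (Finset.sum_congr rfl (fun i _ => ?_)) h3
    exact congrArg (fun t => t ⊗ₜ[O.obj.obj (op U)] m i) (h1 i)
  have hmem := liftSieve_mem F hF (kernel.ι (rho O.obj U l r)) (rho O.obj U l r)
    (kernel.condition _) (ShortComplex.exact_kernel _) (op U) _ hz
  obtain ⟨V, f, ⟨w, hw⟩, hxV⟩ := hmem x hx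
  have hV : V ≤ U := leOfHom f
  obtain ⟨T, hT⟩ := TensorProduct.exists_finset (R := O.obj.obj (op V))
    (M := (kernel (rho O.obj U l r)).obj (op V)) (N := ((iF O).obj F).obj (op V)) w
  -- left hand side
  have hL : (kernel.ι (rho O.obj U l r) ▷ ((iF O).obj F)).app (op V) w =
      ∑ j ∈ T, (kernel.ι (rho O.obj U l r)).app (op V) j.1 ⊗ₜ[O.obj.obj (op V)] j.2 :=
    (congrArg _ hT).trans (whiskerRight_app_sum (kernel.ι (rho O.obj U l r)) ((iF O).obj F)
      (op V) T (fun j => j.1) (fun j => j.2))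
  -- right hand side
  have hR := tensor_map_sum (freeP O.obj U l) ((iF O).obj F) f.op Finset.univ
    (fun i : Fin l => (ModuleCat.freeMk ((⟨i⟩, 𝟙 U) : (genS U l).obj (op U)) :
          (freeP O.obj U l).obj (op U))) m
  -- the index type
  let I := (genS U l).obj (op V)
  let e : Fin l ≃ I :=
    { toFun := fun i => (⟨i⟩, f)
      invFun := fun s => s.1.down
      left_inv := fun i => rfl
      right_inv := fun s => Prod.ext rfl (Subsingleton.elim _ _) }
  letI : Fintype I := Fintype.ofEquiv (Fin l) e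
  have hE : ∑ j : T, ((kernel.ι (rho O.obj U l r)).app (op V) j.1.1 : I →₀ O.obj.obj (op V))
        ⊗ₜ[O.obj.obj (op V)] j.1.2 =
      ∑ s : I, (Finsupp.single s (1 : O.obj.obj (op V))) ⊗ₜ[O.obj.obj (op V)]
        (res ((iF O).obj F) hV (m s.1.down)) := by
    have e1 := hL.symm.trans (hw.trans hR)
    rw [Finset.sum_coe_sort T (fun j => ((kernel.ι (rho O.obj U l r)).app (op V) j.1 :
      I →₀ O.obj.obj (op V)) ⊗ₜ[O.obj.obj (op V)] j.2)]
    refine e1.trans ?_
    rw [← Equiv.sum_comp e]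
    refine Finset.sum_congr rfl (fun i _ => ?_)
    have e2 := freeP_map_freeMk O.obj U l f.op ((⟨i⟩, 𝟙 U) : (genS U l).obj (op U))
    have e3 : (genS U l).map f.op ((⟨i⟩, 𝟙 U) : (genS U l).obj (op U)) = e i :=
      Prod.ext rfl (Subsingleton.elim _ _)
    rw [e2, e3]
    rfl
  have hK : ∀ j : T, Finsupp.lift (O.obj.obj (op V)) (O.obj.obj (op V)) I
      (fun s => (O.obj.map s.2.op).hom (r s.1.down))
      ((kernel.ι (rho O.obj U l r)).app (op V) j.1.1 : I →₀ O.obj.obj (op V)) = 0 := by
    intro j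
    have := congrArg (fun t => t.app (op V) j.1.1) (kernel.condition (rho O.obj U l r))
    exact this
  obtain ⟨c1, c2⟩ := coords_of_eq (A := O.obj.obj (op V)) (I := I)
    (M := ((iF O).obj F).obj (op V))
    (fun j : T => ((kernel.ι (rho O.obj U l r)).app (op V) j.1.1 : I →₀ O.obj.obj (op V)))
    (fun j : T => j.1.2) (fun s => res ((iF O).obj F) hV (m s.1.down))
    (fun s => (O.obj.map s.2.op).hom (r s.1.down)) hE hK
  refine ⟨V, hV, hxV, T,
    fun i j => (show I →₀ O.obj.obj (op V) from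
      (kernel.ι (rho O.obj U l r)).app (op V) j.1.1) (e i),
    fun j => j.1.2, fun i => c1 (e i), fun j => ?_⟩
  have := c2 j
  rw [← Equiv.sum_comp e] at this
  exact this

end Top

end Groth.Agent.Lib.StalkFlatB
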