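import Mathlib
import Groth.Prelude.Def_ModSite2
import Groth.Agent.Lib.ModSite9_helper8

/-!
# Germs of sections at a point of a site; spreading out a trivial vanishing
-/

namespace Groth.Agent.Lib.StalkFlatPt

open CategoryTheory Limits Opposite ModSite
open Groth.Agent.Lib.ModSiteH8

universe u

variable {C : Type u} [SmallCategory C] {J : GrothendieckTopology C}
variable (p : GrothendieckTopology.Point.{u} J)

section Generic

variable {A : Type (u + 1)} [Category.{u} A] [HasColimitsOfSize.{u, u} A]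
  {FC : A → A → Type*} {CC : A → Type u}
  [∀ (X Y : A), FunLike (FC X Y) (CC X) (CC Y)] [ConcreteCategory.{u} A FC]
  [PreservesFilteredColimitsOfSize.{u, u} (forget A)]
  (P : Cᵒᵖ ⥤ A)

/-- germ of a section at a neighbourhood -/
noncomputable def gG (e : p.fiber.Elements) (s : ToType (P.obj (op e.1))) :
    ToType (p.presheafFiber.obj P) :=
  p.toPresheafFiber e.1 e.2 P s

omit [PreservesFilteredColimitsOfSize.{u, u} (forget A)] in
lemma gG_map {e e' : p.fiber.Elements} (φ : e' ⟶ e) (s : ToType (P.obj (op e.1))) :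
    gG p P e' (P.map φ.1.op s) = gG p P e s :=
  (p.toPresheafFiber_w_apply φ.1 e'.2 P s).trans
    (congrArg (fun t => (p.toPresheafFiber e.1 t P) s) φ.2)

lemma exists_gG_eq (t : ToType (p.presheafFiber.obj P)) :
    ∃ (e : p.fiber.Elements) (s : ToType (P.obj (op e.1))), gG p P e s = t := by
  obtain ⟨X, x, z, hz⟩ := p.toPresheafFiber_jointly_surjective (P := P) t
  exact ⟨⟨X, x⟩, z, hz⟩

lemma gG_eq_iff (e : p.fiber.Elements) (s₁ s₂ : ToType (P.obj (op e.1))) :
    gG p P e s₁ = gG p P e s₂ ↔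
      ∃ (e' : p.fiber.Elements) (φ : e' ⟶ e), P.map φ.1.op s₁ = P.map φ.1.op s₂ := by
  refine (p.toPresheafFiber_eq_iff' (P := P) e.1 e.2 s₁ s₂).trans ?_
  constructor
  · rintro ⟨Y, f, y, hf, h⟩
    exact ⟨⟨Y, y⟩, ⟨f, hf⟩, h⟩
  · rintro ⟨e', φ, h⟩
    exact ⟨e'.1, φ.1, e'.2, φ.2, h⟩

omit [PreservesFilteredColimitsOfSize.{u, u} (forget A)] in
lemma map_comp_apply' {e e' e'' : p.fiber.Elements} (φ : e' ⟶ e) (ψ : e'' ⟶ e')
    (s : ToType (P.obj (op e.1))) :
    P.map (ψ ≫ φ).1.op s = P.map ψ.1.op (P.map φ.1.op s) := by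
  have : (ψ ≫ φ).1.op = φ.1.op ≫ ψ.1.op := rfl
  rw [this, P.map_comp]
  exact ConcreteCategory.comp_apply _ _ _

theorem exists_lift_finset {κ : Type*} (t : κ → ToType (p.presheafFiber.obj P)) (S : Finset κ) :
    ∃ e : p.fiber.Elements, ∀ k ∈ S, ∃ s : ToType (P.obj (op e.1)), gG p P e s = t k := by
  classical
  induction S using Finset.induction_on with
  | empty =>
    exact ⟨(IsCofiltered.nonempty (C := p.fiber.Elements)).some,
      fun k hk => absurd hk (Finset.notMem_empty k)⟩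
  | insert a S ha ih =>
    obtain ⟨e₁, h₁⟩ := ih
    obtain ⟨e₂, s₂, hs₂⟩ := exists_gG_eq p P (t a)
    refine ⟨IsCofiltered.min e₁ e₂, fun k hk => ?_⟩
    rcases Finset.mem_insert.1 hk with rfl | hk
    · exact ⟨P.map (IsCofiltered.minToRight e₁ e₂).1.op s₂, (gG_map p P _ s₂).trans hs₂⟩
    · obtain ⟨s, hs⟩ := h₁ k hk
      exact ⟨P.map (IsCofiltered.minToLeft e₁ e₂).1.op s, (gG_map p P _ s).trans hs⟩

theorem exists_lift_family_gen {κ : Type*} [Finite κ] (t : κ → ToType (p.presheafFiber.obj P)) :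
    ∃ (e : p.fiber.Elements) (s : κ → ToType (P.obj (op e.1))), ∀ k, gG p P e (s k) = t k := by
  classical
  cases nonempty_fintype κ
  obtain ⟨e, he⟩ := exists_lift_finset p P t Finset.univ
  choose s hs using fun k => he k (Finset.mem_univ k)
  exact ⟨e, s, hs⟩

theorem exists_eq_finset {κ : Type*} (e₀ : p.fiber.Elements)
    (s s' : κ → ToType (P.obj (op e₀.1))) (S : Finset κ) :
    (∀ k ∈ S, gG p P e₀ (s k) = gG p P e₀ (s' k)) →
    ∃ (e : p.fiber.Elements) (φ : e ⟶ e₀), ∀ k ∈ S, P.map φ.1.op (s k) = P.map φ.1.op (s' k) := by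
  classical
  induction S using Finset.induction_on with
  | empty =>
    intro _
    exact ⟨e₀, 𝟙 e₀, fun k hk => absurd hk (Finset.notMem_empty k)⟩
  | insert a S ha ih =>
    intro h
    obtain ⟨e₁, φ₁, h₁⟩ := ih (fun k hk => h k (Finset.mem_insert_of_mem hk))
    have ha' : gG p P e₁ (P.map φ₁.1.op (s a)) = gG p P e₁ (P.map φ₁.1.op (s' a)) := by
      rw [gG_map, gG_map]
      exact h a (Finset.mem_insert_self a S)
    obtain ⟨e₂, ψ, hψ⟩ := (gG_eq_iff p P e₁ _ _).1 ha'
    refine ⟨e₂, ψ ≫ φ₁, fun k hk => ?_⟩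
    rw [map_comp_apply', map_comp_apply']
    rcases Finset.mem_insert.1 hk with rfl | hk
    · exact hψ
    · rw [h₁ k hk]

theorem exists_eq_family_gen {κ : Type*} [Finite κ] (e₀ : p.fiber.Elements)
    (s s' : κ → ToType (P.obj (op e₀.1)))
    (h : ∀ k, gG p P e₀ (s k) = gG p P e₀ (s' k)) :
    ∃ (e : p.fiber.Elements) (φ : e ⟶ e₀), ∀ k, P.map φ.1.op (s k) = P.map φ.1.op (s' k) := by
  classical
  cases nonempty_fintype κ
  obtain ⟨e, φ, he⟩ := exists_eq_finset p P e₀ s s' Finset.univ (fun k _ => h k)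
  exact ⟨e, φ, fun k => he k (Finset.mem_univ k)⟩

end Generic

section Modules

variable {O : Sheaf J CommRingCat.{u}}

/-- sections of a sheaf of modules over an object -/
noncomputable abbrev Sec (F : Mod O) (X : C) := ((iF O).obj F).obj (op X)

/-- restriction of sections of the sheaf of rings -/
noncomputable def resR {X Y : C} (f : Y ⟶ X) : O.obj.obj (op X) →+* O.obj.obj (op Y) :=
  (O.obj.map f.op).hom

/-- restriction of sections of a sheaf of modules -/
noncomputable def res (F : Mod O) {X Y : C} (f : Y ⟶ X) : Sec F X →+ Sec F Y where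
  toFun m := ((iF O).obj F).map f.op m
  map_zero' := (((iF O).obj F).map f.op).hom.map_zero
  map_add' := (((iF O).obj F).map f.op).hom.map_add

/-- germ of a section of the sheaf of rings -/
noncomputable def gR (e : p.fiber.Elements) : O.obj.obj (op e.1) →+* stalkRing p O :=
  (p.toPresheafFiber e.1 e.2 O.obj).hom

/-- germ of a section of a sheaf of modules -/
noncomputable def gM (F : Mod O) (e : p.fiber.Elements) : Sec F e.1 →+ stalkAb p F :=
  (p.toPresheafFiber e.1 e.2 (toAb F).obj).hom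

lemma gM_res (F : Mod O) {e e' : p.fiber.Elements} (φ : e' ⟶ e) (m : Sec F e.1) :
    gM p F e' (res F φ.1 m) = gM p F e m := by
  have h := gG_map p (toAb F).obj φ (show ToType ((toAb F).obj.obj (op e.1)) from m)
  exact h

lemma gR_resR {e e' : p.fiber.Elements} (φ : e' ⟶ e) (r : O.obj.obj (op e.1)) :
    gR p e' (resR φ.1 r) = gR p e r :=
  gG_map p O.obj φ r

lemma gM_smul (F : Mod O) (e : p.fiber.Elements) (r : O.obj.obj (op e.1)) (m : Sec F e.1) :
    gM p F e (r • m) = gR p e r • gM p F e m :=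
  germ_smul p F e.1 e.2 r m

lemma res_smul (F : Mod O) {X Y : C} (f : Y ⟶ X) (r : O.obj.obj (op X)) (m : Sec F X) :
    res F f (r • m) = resR f r • res F f m :=
  ((iF O).obj F).map_smul _ _ _

lemma res_res (F : Mod O) {X Y Z : C} (f : Y ⟶ X) (g : Z ⟶ Y) (m : Sec F X) :
    res F g (res F f m) = res F (g ≫ f) m := by
  change (((iF O).obj F).presheaf.map f.op ≫ ((iF O).obj F).presheaf.map g.op) m = _
  rw [← ((iF O).obj F).presheaf.map_comp]
  rfl

lemma resR_resR {X Y Z : C} (f : Y ⟶ X) (g : Z ⟶ Y) (r : O.obj.obj (op X)) :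
    resR g (resR f r) = resR (O := O) (g ≫ f) r := by
  change (O.obj.map f.op ≫ O.obj.map g.op) r = _
  rw [← O.obj.map_comp]
  rfl

lemma exists_gM_eq (F : Mod O) (t : stalkAb p F) :
    ∃ (e : p.fiber.Elements) (m : Sec F e.1), gM p F e m = t :=
  exists_gG_eq p (toAb F).obj t

lemma exists_gR_eq (t : stalkRing p O) :
    ∃ (e : p.fiber.Elements) (r : O.obj.obj (op e.1)), gR p e r = t :=
  exists_gG_eq p O.obj t

theorem exists_lift_family (F : Mod O) {κ : Type*} [Finite κ] (t : κ → stalkAb p F) :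
    ∃ (e : p.fiber.Elements) (s : κ → Sec F e.1), ∀ k, gM p F e (s k) = t k :=
  exists_lift_family_gen p (toAb F).obj t

theorem exists_lift_family_ring {κ : Type*} [Finite κ] (t : κ → stalkRing p O) :
    ∃ (e : p.fiber.Elements) (s : κ → O.obj.obj (op e.1)), ∀ k, gR p e (s k) = t k :=
  exists_lift_family_gen p O.obj t

theorem exists_nhd_zero_family (F : Mod O) {κ : Type*} [Finite κ] (e₀ : p.fiber.Elements)
    (s : κ → Sec F e₀.1) (hs : ∀ k, gM p F e₀ (s k) = 0) :
    ∃ (e : p.fiber.Elements) (φ : e ⟶ e₀), ∀ k, res F φ.1 (s k) = 0 := by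
  have h0 : ∀ k, gG p (toAb F).obj e₀ (show ToType ((toAb F).obj.obj (op e₀.1)) from s k) =
      gG p (toAb F).obj e₀ (show ToType ((toAb F).obj.obj (op e₀.1)) from (0 : Sec F e₀.1)) :=
    fun k => (hs k).trans (gM p F e₀).map_zero.symm
  obtain ⟨e, φ, h⟩ := exists_eq_family_gen p (toAb F).obj e₀ _ _ h0
  exact ⟨e, φ, fun k => (h k).trans (res F φ.1).map_zero⟩

open TensorProduct in
/-- spreading out a trivial vanishing from the stalk to a neighbourhood -/
theorem exists_nhd_vanishesTrivially (N' F : Mod O) (e₀ : p.fiber.Elements)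
    {ι : Type*} [Fintype ι] (n' : ι → Sec N' e₀.1) (f : ι → Sec F e₀.1)
    (h : TensorProduct.VanishesTrivially (stalkRing p O) (fun i => gM p N' e₀ (n' i))
      (fun i => gM p F e₀ (f i))) :
    ∃ (e : p.fiber.Elements) (φ : e ⟶ e₀),
      TensorProduct.VanishesTrivially (O.obj.obj (op e.1)) (fun i => res N' φ.1 (n' i))
        (fun i => res F φ.1 (f i)) := by
  obtain ⟨k, a, y, h1, h2⟩ := h
  replace h1 : ∀ i, gM p F e₀ (f i) = ∑ j, a i j • y j := h1
  replace h2 : ∀ j, ∑ i, a i j • gM p N' e₀ (n' i) = 0 := h2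
  obtain ⟨ea, a', ha'⟩ := exists_lift_family_ring p (O := O) (fun q : ι × Fin k => a q.1 q.2)
  obtain ⟨ey, y', hy'⟩ := exists_lift_family p F y
  let e₁ := IsCofiltered.min e₀ (IsCofiltered.min ea ey)
  let φ0 : e₁ ⟶ e₀ := IsCofiltered.minToLeft _ _
  let φa : e₁ ⟶ ea := IsCofiltered.minToRight _ _ ≫ IsCofiltered.minToLeft _ _
  let φy : e₁ ⟶ ey := IsCofiltered.minToRight _ _ ≫ IsCofiltered.minToRight _ _
  obtain ⟨e₂, ψ₁, E1⟩ := exists_nhd_zero_family p F e₁
    (fun i => res F φ0.1 (f i) - ∑ j, resR φa.1 (a' (i, j)) • res F φy.1 (y' j)) (fun i => by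
      rw [map_sub, map_sum, gM_res, h1 i, sub_eq_zero]
      refine Finset.sum_congr rfl (fun j _ => ?_)
      rw [gM_smul, gR_resR, gM_res, ha' (i, j), hy' j])
  obtain ⟨e₃, ψ₂, E2⟩ := exists_nhd_zero_family p N' e₂
    (fun j => res N' ψ₁.1 (∑ i, resR φa.1 (a' (i, j)) • res N' φ0.1 (n' i))) (fun j => by
      rw [gM_res, map_sum, ← h2 j]
      refine Finset.sum_congr rfl (fun i _ => ?_)
      rw [gM_smul, gR_resR, gM_res, ha' (i, j)])
  refine ⟨e₃, ψ₂ ≫ ψ₁ ≫ φ0, k,
    fun i j => resR (ψ₂.1 ≫ ψ₁.1 ≫ φa.1) (a' (i, j)),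
    fun j => res F (ψ₂.1 ≫ ψ₁.1 ≫ φy.1) (y' j), ?_, ?_⟩
  · intro i
    show res F (ψ₂.1 ≫ ψ₁.1 ≫ φ0.1) (f i) = _
    have := congrArg (res F ψ₂.1) (E1 i)
    rw [map_zero, res_res, map_sub, sub_eq_zero, res_res, map_sum] at this
    simp only [Category.assoc] at this
    refine this.trans (Finset.sum_congr rfl (fun j _ => ?_))
    rw [res_smul, resR_resR, res_res]
    simp only [Category.assoc]
  · intro j
    show ∑ i, resR (ψ₂.1 ≫ ψ₁.1 ≫ φa.1) (a' (i, j)) • res N' (ψ₂.1 ≫ ψ₁.1 ≫ φ0.1) (n' i) = 0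
    have := E2 j
    rw [res_res, map_sum] at this
    refine (Finset.sum_congr rfl (fun i _ => ?_)).trans this
    rw [res_smul, resR_resR, res_res]
    simp only [Category.assoc]

end Modules

end Groth.Agent.Lib.StalkFlatPt
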