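import Mathlib
import Groth.Prelude.Def_ModSite
import Groth.Agent.Lib.StalkFlatB3_helper2
import Groth.Agent.Lib.StalkFlatPt1_helper2

/-!
# Local trivialisation of relations among sections of a tensor-exact module, on any site
-/

namespace Groth.Agent.Lib.StalkFlatPt

open CategoryTheory Limits Opposite MonoidalCategory ModSite
open Groth.Agent.Lib.ModSiteH8 Groth.Agent.Lib.StalkFlatA Groth.Agent.Lib.StalkFlatB

universe u

section Alg

open TensorProduct

variable {A : Type*} [CommRing A] {I I₁ : Type*} {M : Type*} [AddCommGroup M] [Module A M]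

lemma coord_tmul' (i : I) (q : I →₀ A) (m : M) : coord A M i (q ⊗ₜ m) = q i • m := by
  simp [coord]

/-- reading off coordinates along an injection -/
theorem coords_of_eq' [DecidableEq I] {L : Type*} [Fintype L] (e : L → I)
    (he : Function.Injective e)
    {T : Type*} [Fintype T] (κ : T → (I →₀ A)) (y : T → M) (m : L → M)
    (hE : ∑ j, κ j ⊗ₜ[A] y j = ∑ i, (Finsupp.single (e i) (1 : A)) ⊗ₜ[A] m i) (i : L) :
    m i = ∑ j, κ j (e i) • y j := by
  have h := congrArg (coord A M (e i)) hE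
  rw [map_sum, map_sum] at h
  simp only [coord_tmul'] at h
  have h2 : ∑ i', (Finsupp.single (e i') (1 : A)) (e i) • m i' = m i := by
    rw [Finset.sum_eq_single i]
    · simp
    · intro b _ hb
      have : e b ≠ e i := fun hh => hb (he hh)
      simp [Finsupp.single_apply, this]
    · intro hi
      exact absurd (Finset.mem_univ i) hi
  exact h2.symm.trans h.symm

/-- the coordinate of `∑ κ(s) ρ(s) e_{t(s)}` at `i₁` -/
theorem lift_coord [DecidableEq I] [DecidableEq I₁] {L : Type*} [Fintype L] (e : L → I)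
    (he : Function.Injective e)
    (t : I → I₁) (i₁ : I₁) (ht : ∀ s, t s = i₁ ↔ ∃ i, e i = s) (ρ : I → A) (κ : I →₀ A) :
    (Finsupp.lift (I₁ →₀ A) A I (fun s => ρ s • Finsupp.single (t s) (1 : A)) κ) i₁ =
      ∑ i, ρ (e i) * κ (e i) := by
  induction κ using Finsupp.induction_linear with
  | zero => simp
  | add κ₁ κ₂ h₁ h₂ =>
    rw [map_add, Finsupp.add_apply, h₁, h₂, ← Finset.sum_add_distrib]
    refine Finset.sum_congr rfl (fun i _ => ?_)
    rw [Finsupp.add_apply, mul_add]
  | single s c =>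
    rw [Finsupp.lift_apply, Finsupp.sum_single_index (by simp)]
    by_cases hs : t s = i₁
    · obtain ⟨i, rfl⟩ := (ht s).1 hs
      rw [Finset.sum_eq_single i]
      · simp [hs, mul_comm]
      · intro b _ hb
        have : e i ≠ e b := fun hh => hb (he hh).symm
        simp [Finsupp.single_apply, this]
      · intro hi
        exact absurd (Finset.mem_univ i) hi
    · have h0 : ∀ i, s ≠ e i := fun i hi => hs ((ht s).2 ⟨i, hi.symm⟩)
      rw [Finset.sum_eq_zero (fun i _ => by simp [Finsupp.single_apply, h0 i])]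
      simp [Finsupp.single_apply, hs]

theorem sum_smul_tmul_eq_zero {P₁ N : Type*} [AddCommGroup P₁] [Module A P₁] [AddCommGroup N]
    [Module A N] {ι : Type*} (s : Finset ι) (e0 : P₁) (r : ι → A) (m : ι → N)
    (h : ∑ i ∈ s, r i • m i = 0) : ∑ i ∈ s, (r i • e0) ⊗ₜ[A] m i = 0 := by
  simp_rw [TensorProduct.smul_tmul]
  rw [← TensorProduct.tmul_sum, h, TensorProduct.tmul_zero]

end Alg

section Free

variable {C : Type u} [SmallCategory C] (R : Cᵒᵖ ⥤ CommRingCat.{u})

/-- the map of presheaves of sets underlying `ρ'` -/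
noncomputable def phiS' (U : C) (l : ℕ) (r : Fin l → R.obj (op U)) :
    genS U l ⟶ (freeP R U 1).presheaf ⋙ forget Ab where
  app V := TypeCat.ofHom fun s => ((R.map s.2.op).hom (r s.1.down) •
      (ModuleCat.freeMk ((⟨0⟩, s.2) : (genS U 1).obj V) : (freeP R U 1).obj V))
  naturality V W f := by
    ext s
    change (R.map (f.unop ≫ s.2).op).hom (r s.1.down) •
        (ModuleCat.freeMk ((⟨0⟩, f.unop ≫ s.2) : (genS U 1).obj W) : (freeP R U 1).obj W) =
      (freeP R U 1).map f ((R.map s.2.op).hom (r s.1.down) •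
        (ModuleCat.freeMk ((⟨0⟩, s.2) : (genS U 1).obj V) : (freeP R U 1).obj V))
    refine Eq.trans ?_ ((freeP R U 1).map_smul f _ _).symm
    have e2 : (freeP R U 1).map f (ModuleCat.freeMk ((⟨0⟩, s.2) : (genS U 1).obj V)) =
        (ModuleCat.freeMk ((⟨0⟩, f.unop ≫ s.2) : (genS U 1).obj W) : (freeP R U 1).obj W) :=
      freeP_map_freeMk R U 1 f ((⟨0⟩, s.2) : (genS U 1).obj V)
    refine congrArg₂ (· • ·) ?_ e2.symm
    rw [op_comp, R.map_comp]
    rfl

/-- the map `ρ' : freeP U l → freeP U 1` given by sections `r i` over `U` -/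
noncomputable def rho' (U : C) (l : ℕ) (r : Fin l → R.obj (op U)) :
    freeP R U l ⟶ freeP R U 1 :=
  PresheafOfModules.freeObjDesc (phiS' R U l r)

lemma rho'_app_apply (U : C) (l : ℕ) (r : Fin l → R.obj (op U)) (V : Cᵒᵖ)
    (κ : (genS U l).obj V →₀ R.obj V) :
    (show (genS U 1).obj V →₀ R.obj V from (rho' R U l r).app V κ) =
      Finsupp.lift ((genS U 1).obj V →₀ R.obj V) (R.obj V) ((genS U l).obj V)
        (fun s => (R.map s.2.op).hom (r s.1.down) •
          Finsupp.single ((⟨0⟩, s.2) : (genS U 1).obj V) (1 : R.obj V)) κ := rfl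

end Free

section Site

variable {C : Type u} [SmallCategory C] {J : GrothendieckTopology C}
variable (O : Sheaf J CommRingCat.{u})

open TensorProduct in
/-- local trivialisation of a relation among sections of a tensor-exact module -/
theorem exists_local_trivial (F : Mod O)
    (hF : PreservesFiniteLimits ((tensorBi O).flip.obj F)) (U : C) (l : ℕ)
    (r : Fin l → O.obj.obj (op U)) (m : Fin l → Sec F U)
    (h : ∑ i, r i • m i = 0) :
    ∃ S ∈ J U, ∀ {V : C} (f : V ⟶ U), S f →
      ∃ (T : Type u) (_ : Fintype T) (a : Fin l → T → O.obj.obj (op V)) (y : T → Sec F V),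
        (∀ i, res F f (m i) = ∑ j, a i j • y j) ∧
          ∀ j, ∑ i, resR f (r i) * a i j = 0 := by
  classical
  -- the element `z`
  have hz : ((rho' O.obj U l r) ▷ ((iF O).obj F)).app (op U)
      (∑ i ∈ (Finset.univ : Finset (Fin l)),
        (ModuleCat.freeMk ((⟨i⟩, 𝟙 U) : (genS U l).obj (op U)) :
          (freeP O.obj U l).obj (op U)) ⊗ₜ[O.obj.obj (op U)] m i) = 0 := by
    refine (whiskerRight_app_sum (rho' O.obj U l r) ((iF O).obj F) (op U) Finset.univ
      (fun i => (ModuleCat.freeMk ((⟨i⟩, 𝟙 U) : (genS U l).obj (op U)) :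
          (freeP O.obj U l).obj (op U))) m).trans ?_
    have h1 : ∀ i : Fin l, (rho' O.obj U l r).app (op U)
        (ModuleCat.freeMk ((⟨i⟩, 𝟙 U) : (genS U l).obj (op U))) =
        r i • (ModuleCat.freeMk ((⟨0⟩, 𝟙 U) : (genS U 1).obj (op U)) :
          (freeP O.obj U 1).obj (op U)) := by
      intro i
      change (ModuleCat.freeDesc _) (ModuleCat.freeMk _) = _
      rw [ModuleCat.freeDesc_apply]
      change (O.obj.map (𝟙 (op U))).hom (r i) •
          (ModuleCat.freeMk ((⟨0⟩, 𝟙 U) : (genS U 1).obj (op U)) :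
            (freeP O.obj U 1).obj (op U)) =
        r i • (ModuleCat.freeMk ((⟨0⟩, 𝟙 U) : (genS U 1).obj (op U)) :
          (freeP O.obj U 1).obj (op U))
      rw [O.obj.map_id]
      rfl
    have h3 : ∑ i, ((r i • (ModuleCat.freeMk ((⟨0⟩, 𝟙 U) : (genS U 1).obj (op U)) :
          (freeP O.obj U 1).obj (op U))) ⊗ₜ[O.obj.obj (op U)] m i :
        ((freeP O.obj U 1).obj (op U)) ⊗[O.obj.obj (op U)] (((iF O).obj F).obj (op U))) = 0 :=
      sum_smul_tmul_eq_zero (A := O.obj.obj (op U)) (P₁ := (freeP O.obj U 1).obj (op U))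
        (N := ((iF O).obj F).obj (op U)) Finset.univ _ r m h
    refine Eq.trans (Finset.sum_congr rfl (fun i _ => ?_)) h3
    exact congrArg (fun t => t ⊗ₜ[O.obj.obj (op U)] m i) (h1 i)
  have hmem := liftSieve_mem F hF (kernel.ι (rho' O.obj U l r)) (rho' O.obj U l r)
    (kernel.condition _) (ShortComplex.exact_kernel _) (op U) _ hz
  refine ⟨_, hmem, ?_⟩
  rintro V f ⟨w, hw⟩
  obtain ⟨T, hT⟩ := TensorProduct.exists_finset (R := O.obj.obj (op V))
    (M := (kernel (rho' O.obj U l r)).obj (op V)) (N := ((iF O).obj F).obj (op V)) w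
  -- left hand side
  have hL : (kernel.ι (rho' O.obj U l r) ▷ ((iF O).obj F)).app (op V) w =
      ∑ j ∈ T, (kernel.ι (rho' O.obj U l r)).app (op V) j.1 ⊗ₜ[O.obj.obj (op V)] j.2 :=
    (congrArg _ hT).trans (whiskerRight_app_sum (kernel.ι (rho' O.obj U l r)) ((iF O).obj F)
      (op V) T (fun j => j.1) (fun j => j.2))
  -- right hand side
  have hR := tensor_map_sum (freeP O.obj U l) ((iF O).obj F) f.op Finset.univ
    (fun i : Fin l => (ModuleCat.freeMk ((⟨i⟩, 𝟙 U) : (genS U l).obj (op U)) :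
          (freeP O.obj U l).obj (op U))) m
  -- the index types
  let I := (genS U l).obj (op V)
  let I₁ := (genS U 1).obj (op V)
  let e : Fin l → I := fun i => (⟨i⟩, f)
  have he : Function.Injective e := fun i i' hii' => by
    have := congrArg (fun s : I => s.1.down) hii'
    exact this
  have hE : ∑ j : T, ((kernel.ι (rho' O.obj U l r)).app (op V) j.1.1 : I →₀ O.obj.obj (op V))
        ⊗ₜ[O.obj.obj (op V)] j.1.2 =
      ∑ i : Fin l, (Finsupp.single (e i) (1 : O.obj.obj (op V))) ⊗ₜ[O.obj.obj (op V)]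
        (res F f (m i)) := by
    have e1 := hL.symm.trans (hw.trans hR)
    rw [Finset.sum_coe_sort T (fun j => ((kernel.ι (rho' O.obj U l r)).app (op V) j.1 :
      I →₀ O.obj.obj (op V)) ⊗ₜ[O.obj.obj (op V)] j.2)]
    refine e1.trans ?_
    refine Finset.sum_congr rfl (fun i _ => ?_)
    have e2 := freeP_map_freeMk O.obj U l f.op ((⟨i⟩, 𝟙 U) : (genS U l).obj (op U))
    have e3 : (genS U l).map f.op ((⟨i⟩, 𝟙 U) : (genS U l).obj (op U)) = e i :=
      Prod.ext rfl (Category.comp_id f)
    rw [e2, e3]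
    rfl
  have hK : ∀ j : T, ∑ i : Fin l, resR f (r i) *
      (show I →₀ O.obj.obj (op V) from
        (kernel.ι (rho' O.obj U l r)).app (op V) j.1.1) (e i) = 0 := by
    intro j
    have h0 := congrArg (fun t => t.app (op V) j.1.1) (kernel.condition (rho' O.obj U l r))
    replace h0 : Finsupp.lift (I₁ →₀ O.obj.obj (op V)) (O.obj.obj (op V)) I
        (fun s => (O.obj.map s.2.op).hom (r s.1.down) •
          Finsupp.single ((⟨0⟩, s.2) : I₁) (1 : O.obj.obj (op V)))
        (show I →₀ O.obj.obj (op V) from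
          (kernel.ι (rho' O.obj U l r)).app (op V) j.1.1) = 0 := h0
    have h1 := lift_coord (A := O.obj.obj (op V)) (I := I) (I₁ := I₁) e he
      (fun s => ((⟨0⟩, s.2) : I₁)) ((⟨0⟩, f) : I₁)
      (fun s => ⟨fun hs => ⟨s.1.down, Prod.ext rfl (congrArg Prod.snd hs).symm⟩,
        fun ⟨i, hi⟩ => by rw [← hi]⟩)
      (fun s => (O.obj.map s.2.op).hom (r s.1.down))
      (show I →₀ O.obj.obj (op V) from (kernel.ι (rho' O.obj U l r)).app (op V) j.1.1)
    exact h1.symm.trans (DFunLike.congr_fun h0 ((⟨0⟩, f) : I₁))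
  refine ⟨T, inferInstance,
    fun i j => (show I →₀ O.obj.obj (op V) from
      (kernel.ι (rho' O.obj U l r)).app (op V) j.1.1) (e i),
    fun j => j.1.2, fun i => ?_, fun j => hK j⟩
  exact coords_of_eq' (A := O.obj.obj (op V)) (I := I) (M := ((iF O).obj F).obj (op V)) e he
    (fun j : T => ((kernel.ι (rho' O.obj U l r)).app (op V) j.1.1 : I →₀ O.obj.obj (op V)))
    (fun j : T => j.1.2) (fun i => res F f (m i)) hE i

end Site

end Groth.Agent.Lib.StalkFlatPt
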