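import Mathlib
import Groth.Prelude.Def_ModSite2
import Groth.Agent.Lib.StalkFlatPt2_helper2

/-!
# Flatness of sheaves of modules on a site and flatness of stalks at points
-/

namespace Groth.Agent.Lib.StalkFlatPt

open CategoryTheory Limits Opposite MonoidalCategory ModSite
open Groth.Agent.Lib.ModSiteH8 Groth.Agent.Lib.StalkFlatA Groth.Agent.Lib.StalkFlatB

universe u

variable {C : Type u} [SmallCategory C] {J : GrothendieckTopology C}
variable (O : Sheaf J CommRingCat.{u})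

/-- **Tensor-exact implies flat stalks** at every point of the site. -/
theorem flat_stalk_of_isFlat (F : Mod O) (hF : ModSite.IsFlat F)
    (p : GrothendieckTopology.Point.{u} J) :
    Module.Flat (stalkRing p O) (stalkAb p F) := by
  classical
  rw [Module.Flat.iff_forall_isTrivialRelation]
  intro l r m hrm
  obtain ⟨e₁, r₁, hr₁⟩ := exists_lift_family_ring p (O := O) r
  obtain ⟨e₂, m₂, hm₂⟩ := exists_lift_family p F m
  let e₀ := IsCofiltered.min e₁ e₂
  let φ₁ : e₀ ⟶ e₁ := IsCofiltered.minToLeft _ _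
  let φ₂ : e₀ ⟶ e₂ := IsCofiltered.minToRight _ _
  obtain ⟨e, ψ, hs⟩ := exists_nhd_zero_family p F e₀
    (fun _ : Unit => ∑ i, resR φ₁.1 (r₁ i) • res F φ₂.1 (m₂ i)) (fun _ => by
      rw [map_sum, ← hrm]
      refine Finset.sum_congr rfl (fun i _ => ?_)
      rw [gM_smul, gR_resR, gM_res, hr₁ i, hm₂ i])
  have h : ∑ i, resR (ψ.1 ≫ φ₁.1) (r₁ i) • res F (ψ.1 ≫ φ₂.1) (m₂ i) = 0 := by
    rw [← hs (), map_sum]
    refine Finset.sum_congr rfl (fun i _ => ?_)
    rw [res_smul, resR_resR, res_res]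
  obtain ⟨S, hS, hT⟩ := exists_local_trivial O F hF.1 e.1 l
    (fun i => resR (ψ.1 ≫ φ₁.1) (r₁ i)) (fun i => res F (ψ.1 ≫ φ₂.1) (m₂ i)) h
  obtain ⟨V, f, hf, v, hv⟩ := p.jointly_surjective S hS e.2
  obtain ⟨T, _, a, y, c1, c2⟩ := hT f hf
  let e' : p.fiber.Elements := ⟨V, v⟩
  let χ : e' ⟶ e := ⟨f, hv⟩
  rw [Module.isTrivialRelation_iff_vanishesTrivially]
  refine TensorProduct.VanishesTrivially.of_fintype (κ := T)
    (fun i j => gR p e' (a i j)) (fun j => gM p F e' (y j)) ?_ ?_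
  · intro i
    have e1 := congrArg (gM p F e') (c1 i)
    have e3 : gM p F e' (res F f (res F (ψ.1 ≫ φ₂.1) (m₂ i))) = m i :=
      (gM_res p F χ _).trans ((gM_res p F (ψ ≫ φ₂) _).trans (hm₂ i))
    rw [e3, map_sum] at e1
    refine e1.trans (Finset.sum_congr rfl (fun j _ => ?_))
    rw [gM_smul]
  · intro j
    have e2 := congrArg (gR p e') (c2 j)
    rw [map_sum, map_zero] at e2
    refine (Finset.sum_congr rfl (fun i _ => ?_)).trans e2
    have e3 : gR p e' (resR f (resR (ψ.1 ≫ φ₁.1) (r₁ i))) = r i :=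
      (gR_resR p χ _).trans ((gR_resR p (ψ ≫ φ₁) _).trans (hr₁ i))
    rw [map_mul, e3, smul_eq_mul, mul_comm]

end Groth.Agent.Lib.StalkFlatPt
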