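import Mathlib
import Groth.Prelude.Def_ModSite2
import Groth.Agent.Lib.StalkFlatPt3_helper2

/-!
# Flat stalks at a conservative family of points ⟹ tensor exact
-/

namespace Groth.Agent.Lib.StalkFlatPt

open CategoryTheory Limits Opposite MonoidalCategory ModSite
open Groth.Agent.Lib.ModSiteH8 Groth.Agent.Lib.StalkFlatA Groth.Agent.Lib.StalkFlatB

universe u

variable {C : Type u} [SmallCategory C] {J : GrothendieckTopology C}

/-- a sieve through which all points of a conservative family lift is covering -/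
theorem sieve_mem_of_conservative {P : ObjectProperty (GrothendieckTopology.Point.{u} J)}
    (hP : P.IsConservativeFamilyOfPoints) {X : C} (S : Sieve X)
    (h : ∀ (p : GrothendieckTopology.Point.{u} J), P p → ∀ x : p.fiber.obj X,
      ∃ (Y : C) (g : Y ⟶ X), S g ∧ ∃ y : p.fiber.obj Y, p.fiber.map g y = x) : S ∈ J X := by
  let ι := Σ Y : C, {g : Y ⟶ X // S g}
  have h1 : Sieve.ofArrows (fun i : ι => i.1) (fun i => i.2.1) ∈ J X := by
    rw [hP.jointly_reflect_ofArrows_mem]
    intro Φ x
    obtain ⟨Y, g, hg, y, hy⟩ := h Φ.obj Φ.property x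
    exact ⟨⟨Y, g, hg⟩, y, hy⟩
  refine J.superset_covering ?_ h1
  rw [Sieve.ofArrows, Sieve.generate_le_iff, Presieve.ofArrows_le_iff]
  exact fun i => i.2.2

variable (p : GrothendieckTopology.Point.{u} J) {O : Sheaf J CommRingCat.{u}}

/-- the linear map on stalks induced by a morphism of sheaves of modules -/
noncomputable def stalkMapLin {N' N : Mod O} (f : N' ⟶ N) :
    stalkAb p N' →ₗ[stalkRing p O] stalkAb p N where
  toFun := (p.sheafFiber.map ((SheafOfModules.toSheaf (ringSh O)).map f)).hom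
  map_add' := fun a b => map_add _ a b
  map_smul' := sheafFiber_map_smul p f

lemma stalkMapLin_gM {N' N : Mod O} (f : N' ⟶ N) (e : p.fiber.Elements) (m : Sec N' e.1) :
    stalkMapLin p f (gM p N' e m) = gM p N e (((iF O).map f).app (op e.1) m) :=
  p.toPresheafFiber_naturality_apply ((SheafOfModules.toSheaf (ringSh O)).map f).hom e.1 e.2 m

lemma app_res {N' N : Mod O} (f : N' ⟶ N) {X Y : C} (g : Y ⟶ X) (m : Sec N' X) :
    ((iF O).map f).app (op Y) (res N' g m) = res N g (((iF O).map f).app (op X) m) :=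
  PresheafOfModules.naturality_apply ((iF O).map f) g.op m

lemma stalkMapLin_injective {N' N : Mod O} (f : N' ⟶ N) [Mono f] :
    Function.Injective (stalkMapLin p f) := by
  rw [injective_iff_map_eq_zero]
  intro a ha
  obtain ⟨e, m, rfl⟩ := exists_gM_eq p N' a
  rw [stalkMapLin_gM] at ha
  obtain ⟨e', φ, hφ⟩ := exists_nhd_zero_family p N e (fun _ : Unit => ((iF O).map f).app (op e.1) m)
    (fun _ => ha)
  have h1 := hφ ()
  rw [← app_res] at h1
  have h2 : res N' φ.1 m = 0 :=
    app_injective_of_mono O f (op e'.1) (h1.trans (map_zero (((iF O).map f).app (op e'.1)).hom).symm)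
  rw [← gM_res p N' φ m, h2, map_zero]

variable (O)

open TensorProduct in
/-- the key local injectivity statement -/
theorem ELI_whiskerRight_of_stalkwise_flat
    {P : ObjectProperty (GrothendieckTopology.Point.{u} J)}
    (hP : P.IsConservativeFamilyOfPoints) {N' N : Mod O} (Q : Mod O) (f : N' ⟶ N) [Mono f]
    (hQ : ∀ p : GrothendieckTopology.Point.{u} J, P p →
      Module.Flat (stalkRing p O) (stalkAb p Q)) :
    ELI J ((iF O).map f ▷ (iF O).obj Q) := by
  intro V t ht
  refine ⟨zeroSieve ((iF O).obj N' ⊗ (iF O).obj Q) t, ?_, fun {W} g hg => hg⟩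
  refine sieve_mem_of_conservative hP _ (fun p hp x => ?_)
  obtain ⟨S, hS⟩ := TensorProduct.exists_finset (R := O.obj.obj V)
    (M := ((iF O).obj N').obj V) (N := ((iF O).obj Q).obj V) t
  haveI := hQ p hp
  let e₀ : p.fiber.Elements := ⟨V.unop, x⟩
  have ht2 : ((iF O).map f ▷ (iF O).obj Q).app V (∑ i ∈ S, i.1 ⊗ₜ[O.obj.obj V] i.2) = 0 :=
    hS ▸ ht
  have h0' : ∑ i ∈ S, (((iF O).map f).app V) i.1 ⊗ₜ[O.obj.obj V] i.2 = 0 :=
    (whiskerRight_app_sum ((iF O).map f) ((iF O).obj Q) V S (fun i => i.1)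
      (fun i => i.2)).symm.trans ht2
  have h0 : ∑ i : S, (((iF O).map f).app V).hom i.1.1 ⊗ₜ[O.obj.obj V] i.1.2 = 0 :=
    (Finset.sum_coe_sort S
      (fun i => (((iF O).map f).app V).hom i.1 ⊗ₜ[O.obj.obj V] i.2)).trans h0'
  have hvt := Groth.Agent.Lib.StalkFlatAlg.vanishesTrivially_of_semilinear
    (gR p e₀) (gM p N' e₀) (gM p N e₀) (gM p Q e₀)
    (fun r m => gM_smul p N' e₀ r m) (fun r m => gM_smul p N e₀ r m)
    (fun r m => gM_smul p Q e₀ r m)
    (((iF O).map f).app V).hom (stalkMapLin p f) (stalkMapLin_injective p f)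
    (fun n => (stalkMapLin_gM p f e₀ n).symm)
    (fun i : S => i.1.1) (fun i : S => i.1.2) h0
  obtain ⟨e, φ, hvW⟩ := exists_nhd_vanishesTrivially p N' Q e₀ _ _ hvt
  refine ⟨e.1, φ.1, ?_, e.2, φ.2⟩
  change ((iF O).obj N' ⊗ (iF O).obj Q).map φ.1.op t = 0
  have h1 : ((iF O).obj N' ⊗ (iF O).obj Q).map φ.1.op (∑ i ∈ S, i.1 ⊗ₜ[O.obj.obj V] i.2) = 0 := by
    refine (tensor_map_sum ((iF O).obj N') ((iF O).obj Q) φ.1.op S (fun i => i.1)
      (fun i => i.2)).trans ?_
    have h2 := TensorProduct.sum_tmul_eq_zero_of_vanishesTrivially _ hvW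
    exact (Finset.sum_coe_sort S
      (fun i => res N' φ.1 i.1 ⊗ₜ[O.obj.obj (op e.1)] res Q φ.1 i.2)).symm.trans h2
  exact hS ▸ h1

/-- **Flat stalks at a conservative family of points imply tensor-exact**. -/
theorem isFlat_of_stalkwise_flat {P : ObjectProperty (GrothendieckTopology.Point.{u} J)}
    (hP : P.IsConservativeFamilyOfPoints) (F : Mod O)
    (hF : ∀ p : GrothendieckTopology.Point.{u} J, P p →
      Module.Flat (stalkRing p O) (stalkAb p F)) : ModSite.IsFlat F := by
  rw [isFlat_iff]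
  haveI : PreservesFiniteColimits (iF O ⋙ tensorRight ((iF O).obj F) ⋙ Lf O) :=
    preservesFiniteColimits_of_natIso (flipIso O F)
  haveI : (iF O ⋙ tensorRight ((iF O).obj F) ⋙ Lf O).Additive :=
    Functor.additive_of_iso (flipIso O F)
  haveI : PreservesFiniteLimits (iF O ⋙ tensorRight ((iF O).obj F) ⋙ Lf O) := by
    apply preservesFiniteLimits_of_preservesMono
    intro N' N f hf
    haveI := hf
    exact mono_sheafify_map_of_ELI O _ (ELI_whiskerRight_of_stalkwise_flat O hP F f hF)
  exact preservesFiniteLimits_of_natIso (flipIso O F).symm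

/-- **Flatness is detected on the stalks at a conservative family of points.** -/
theorem isFlat_iff_stalkwise_flat {P : ObjectProperty (GrothendieckTopology.Point.{u} J)}
    (hP : P.IsConservativeFamilyOfPoints) (F : Mod O) :
    ModSite.IsFlat F ↔ ∀ p : GrothendieckTopology.Point.{u} J, P p →
      Module.Flat (stalkRing p O) (stalkAb p F) :=
  ⟨fun h p _ => flat_stalk_of_isFlat O F h p, isFlat_of_stalkwise_flat O hP F⟩

end Groth.Agent.Lib.StalkFlatPt
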