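import Mathlib
import Groth.Prelude.Def_ModSite2
import Groth.Agent.Lib.StalkFlatPt4_helper2
import Groth.Agent.Lib.FreeFactor4_helper2

/-!
# Sheaves of modules on a small ringed site, elementwise (lead)

`app φ U` : the action of a morphism on sections; monos, epis, exactness, kernels elementwise.
-/

set_option autoImplicit false
set_option linter.unusedSimpArgs false
set_option linter.unusedVariables false
set_option linter.unusedSectionVars false
set_option linter.style.longLine false
set_option linter.unnecessarySimpa false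
set_option maxHeartbeats 1600000
set_option backward.isDefEq.respectTransparency false
set_option backward.isDefEq.respectTransparency.types false
set_option backward.defeqAttrib.useBackward true

universe u

open CategoryTheory Limits Opposite ModSite

namespace Groth.Agent.Lib.RSp

open Groth.Agent.Lib.ModSiteH8 Groth.Agent.Lib.StalkFlatPt Groth.Agent.Lib.StalkFlatA

variable {C : Type u} [SmallCategory C] {J : GrothendieckTopology C} {O : Sheaf J CommRingCat.{u}}

/-- the action of a morphism of sheaves of modules on sections, as an additive map -/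
noncomputable def app {F G : Mod O} (φ : F ⟶ G) (U : C) : Sec F U →+ Sec G U :=
  (((iF O).map φ).app (op U)).hom.toAddMonoidHom

lemma app_apply {F G : Mod O} (φ : F ⟶ G) (U : C) (m : Sec F U) :
    app φ U m = ((iF O).map φ).app (op U) m := rfl

lemma app_res {F G : Mod O} (φ : F ⟶ G) {U V : C} (g : V ⟶ U) (m : Sec F U) :
    app φ V (res F g m) = res G g (app φ U m) :=
  Groth.Agent.Lib.StalkFlatPt.app_res φ g m

lemma app_smul {F G : Mod O} (φ : F ⟶ G) (U : C) (r : O.obj.obj (op U)) (m : Sec F U) :
    app φ U (r • m) = r • app φ U m :=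
  (((iF O).map φ).app (op U)).hom.map_smul r m

lemma app_comp {F G H : Mod O} (φ : F ⟶ G) (ψ : G ⟶ H) (U : C) (m : Sec F U) :
    app (φ ≫ ψ) U m = app ψ U (app φ U m) := rfl

lemma app_id (F : Mod O) (U : C) (m : Sec F U) : app (𝟙 F) U m = m := rfl

/-- `app` as an additive map in the morphism -/
noncomputable def appHom (F G : Mod O) (U : C) : (F ⟶ G) →+ (Sec F U →+ Sec G U) where
  toFun φ := app φ U
  map_zero' := rfl
  map_add' _ _ := rfl

lemma app_zero (F G : Mod O) (U : C) (m : Sec F U) : app (0 : F ⟶ G) U m = 0 := rfl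

lemma app_add {F G : Mod O} (φ ψ : F ⟶ G) (U : C) (m : Sec F U) :
    app (φ + ψ) U m = app φ U m + app ψ U m := rfl

lemma app_sum {F G : Mod O} {ι : Type*} (s : Finset ι) (φ : ι → (F ⟶ G)) (U : C) (m : Sec F U) :
    app (∑ i ∈ s, φ i) U m = ∑ i ∈ s, app (φ i) U m := by
  have h := map_sum (appHom F G U) φ s
  have h2 := DFunLike.congr_fun h m
  rw [AddMonoidHom.finset_sum_apply] at h2
  exact h2

lemma hom_ext' {F G : Mod O} {φ ψ : F ⟶ G} (h : ∀ (U : C) (m : Sec F U), app φ U m = app ψ U m) :
    φ = ψ := by
  apply SheafOfModules.hom_ext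
  apply PresheafOfModules.hom_ext
  intro U
  apply ModuleCat.hom_ext
  apply LinearMap.ext
  intro m
  exact h U.unop m

theorem mono_iff {F G : Mod O} (φ : F ⟶ G) : Mono φ ↔ ∀ U : C, Function.Injective (app φ U) := by
  constructor
  · intro h U
    exact app_injective_of_mono O φ (op U)
  · intro h
    constructor
    intro H ψ₁ ψ₂ e
    apply hom_ext'
    intro U m
    apply h U
    have := congrArg (fun t => app t U m) e
    simpa [app_comp] using this

lemma epi_iff_toSheaf {F G : Mod O} (φ : F ⟶ G) :
    Epi φ ↔ Epi ((SheafOfModules.toSheaf (ringSh O)).map φ) := by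
  constructor
  · intro h
    haveI := toSheaf_preservesColimitsOfSize (ringSh O)
    haveI : PreservesFiniteColimits (SheafOfModules.toSheaf.{u} (ringSh O)) :=
      PreservesColimitsOfSize.preservesFiniteColimits _
    infer_instance
  · intro h
    exact Functor.epi_of_epi_map (SheafOfModules.toSheaf (ringSh O)) h

theorem epi_iff {F G : Mod O} (φ : F ⟶ G) :
    Epi φ ↔ ∀ (U : C) (t : Sec G U), ∃ S ∈ J U, ∀ ⦃V : C⦄ (g : V ⟶ U), S g →
      ∃ u : Sec F V, app φ V u = res G g t := by
  rw [epi_iff_toSheaf, ← Sheaf.isLocallySurjective_iff_epi']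
  constructor
  · intro h U t
    exact ⟨Presheaf.imageSieve ((SheafOfModules.toSheaf (ringSh O)).map φ).hom (U := U) t,
      Presheaf.imageSieve_mem J ((SheafOfModules.toSheaf (ringSh O)).map φ).hom (U := op U) t,
      fun V g hg => hg⟩
  · intro h
    constructor
    intro U s
    obtain ⟨S, hS, hl⟩ := h U s
    exact J.superset_covering (fun V f hf => hl f hf) hS

theorem sec_ext (F : Mod O) {U : C} {S : Sieve U} (hS : S ∈ J U) {a b : Sec F U}
    (h : ∀ ⦃V : C⦄ (g : V ⟶ U), S g → res F g a = res F g b) : a = b :=
  (Presheaf.IsSheaf.isSeparated F.isSheaf) U S hS a b (fun V g hg => h g hg)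

end Groth.Agent.Lib.RSp
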