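import Mathlib
import Groth.Prelude.Def_ModSite2
import Groth.Agent.Lib.RSpA_lead

/-!
# Kernels, exactness and finite free modules on a small ringed site, elementwise (lead)
-/

set_option autoImplicit false
set_option linter.unusedSimpArgs false
set_option linter.unusedVariables false
set_option linter.unusedSectionVars false
set_option linter.style.longLine false
set_option linter.unnecessarySimpa false
set_option maxHeartbeats 1600000
set_option backward.isDefEq.respectTransparency false
set_option backward.isDefEq.respectTransparency.types false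
set_option backward.defeqAttrib.useBackward true

universe u

open CategoryTheory Limits Opposite ModSite

namespace Groth.Agent.Lib.RSp

open Groth.Agent.Lib.ModSiteH8 Groth.Agent.Lib.StalkFlatPt Groth.Agent.Lib.StalkFlatA
open Groth.Agent.Lib.FreeFactor

variable {C : Type u} [SmallCategory C] {J : GrothendieckTopology C} {O : Sheaf J CommRingCat.{u}}

/-- sections of a kernel are the sections killed by the map -/
theorem kernelFork_lift {K G F : Mod O} (i : K ⟶ G) (θ : G ⟶ F) (w : i ≫ θ = 0)
    (hi : IsLimit (KernelFork.ofι i w)) (U : C) (u : Sec G U) (h : app θ U u = 0) :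
    ∃ k : Sec K U, app i U k = u := by
  let S : ShortComplex (Mod O) := ShortComplex.mk i θ w
  have hS : S.Exact := S.exact_of_f_is_kernel hi
  haveI : Mono S.f := mono_of_isLimit_fork hi
  let E : Mod O ⥤ ModuleCat.{u} ((ringSh O).obj.obj (op U)) :=
    SheafOfModules.forget (ringSh O) ⋙ PresheafOfModules.evaluation _ (op U)
  haveI : PreservesFiniteLimits E := comp_preservesFiniteLimits _ _
  have hE : (S.map E).Exact := hS.map_of_mono_of_preservesKernel E inferInstance inferInstance
  rw [ShortComplex.moduleCat_exact_iff] at hE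
  exact hE u h

theorem kernel_lift {G F : Mod O} (θ : G ⟶ F) (U : C) (u : Sec G U) (h : app θ U u = 0) :
    ∃ k : Sec (kernel θ) U, app (kernel.ι θ) U k = u :=
  kernelFork_lift (kernel.ι θ) θ (kernel.condition θ) (kernelIsKernel θ) U u h

lemma app_comp_eq_zero {F G H : Mod O} (φ : F ⟶ G) (ψ : G ⟶ H) (w : φ ≫ ψ = 0) (U : C)
    (m : Sec F U) : app ψ U (app φ U m) = 0 := by
  rw [← app_comp, w]
  rfl

/-- exactness, elementwise -/
theorem exact_iff (S : ShortComplex (Mod O)) :
    S.Exact ↔ ∀ (U : C) (t : Sec S.X₂ U), app S.g U t = 0 →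
      ∃ R ∈ J U, ∀ ⦃V : C⦄ (g : V ⟶ U), R g → ∃ u : Sec S.X₁ V, app S.f V u = res S.X₂ g t := by
  rw [S.exact_iff_epi_toCycles, epi_iff]
  haveI : Mono S.iCycles := inferInstance
  have hinj := (mono_iff S.iCycles).1 inferInstance
  constructor
  · intro h U t ht
    obtain ⟨z, hz⟩ := kernelFork_lift S.iCycles S.g S.iCycles_g S.cyclesIsKernel U t ht
    obtain ⟨R, hR, hl⟩ := h U z
    refine ⟨R, hR, fun V g hg => ?_⟩
    obtain ⟨u, hu⟩ := hl g hg
    refine ⟨u, ?_⟩
    have e1 : app S.f V u = app S.iCycles V (app S.toCycles V u) := by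
      rw [← app_comp, S.toCycles_i]
    rw [e1, hu, app_res, hz]
  · intro h U z
    obtain ⟨R, hR, hl⟩ := h U (app S.iCycles U z) (app_comp_eq_zero _ _ S.iCycles_g U z)
    refine ⟨R, hR, fun V g hg => ?_⟩
    obtain ⟨u, hu⟩ := hl g hg
    refine ⟨u, hinj V ?_⟩
    rw [← app_comp, S.toCycles_i, hu, app_res]

/-- finitely many sections lift simultaneously along an epimorphism, locally -/
theorem epi_lift_family {F G : Mod O} (φ : F ⟶ G) [Epi φ] {κ : Type*} [Finite κ] (U : C)
    (t : κ → Sec G U) :
    ∃ S ∈ J U, ∀ ⦃V : C⦄ (g : V ⟶ U), S g → ∃ u : κ → Sec F V, ∀ k, app φ V (u k) = res G g (t k) := by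
  classical
  cases nonempty_fintype κ
  choose T hT hl using fun k => (epi_iff φ).1 inferInstance U (t k)
  refine ⟨Finset.univ.inf T, finset_inf_mem _ _ (fun k _ => hT k), fun V g hg => ?_⟩
  rw [finset_inf_apply] at hg
  choose u hu using fun k => hl k g (hg k (Finset.mem_univ k))
  exact ⟨u, hu⟩

/-! ### The structure sheaf as a module -/

/-- a section of the structure sheaf as a section of the unit module -/
noncomputable def toU (U : C) (a : O.obj.obj (op U)) : Sec (ModSite.unit O) U := a

/-- a section of the unit module as a section of the structure sheaf -/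
noncomputable def ofU (U : C) (a : Sec (ModSite.unit O) U) : O.obj.obj (op U) := a

@[simp] lemma ofU_toU (U : C) (a : O.obj.obj (op U)) : ofU U (toU U a) = a := rfl
@[simp] lemma toU_ofU (U : C) (a : Sec (ModSite.unit O) U) : toU U (ofU U a) = a := rfl

lemma toU_eq_smul_one (U : C) (a : O.obj.obj (op U)) :
    toU U a = a • toU U (1 : O.obj.obj (op U)) := (mul_one a).symm

lemma ofU_smul (U : C) (a : O.obj.obj (op U)) (b : Sec (ModSite.unit O) U) :
    ofU U (a • b) = a * ofU U b := rfl

lemma ofU_add (U : C) (a b : Sec (ModSite.unit O) U) : ofU U (a + b) = ofU U a + ofU U b := rfl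

lemma ofU_zero (U : C) : ofU U (0 : Sec (ModSite.unit O) U) = 0 := rfl

lemma ofU_sum (U : C) {ι : Type*} (s : Finset ι) (f : ι → Sec (ModSite.unit O) U) :
    ofU U (∑ i ∈ s, f i) = ∑ i ∈ s, ofU U (f i) := rfl

lemma res_toU {U V : C} (g : V ⟶ U) (a : O.obj.obj (op U)) :
    res (ModSite.unit O) g (toU U a) = toU V (resR g a) := rfl

lemma ofU_res {U V : C} (g : V ⟶ U) (a : Sec (ModSite.unit O) U) :
    ofU V (res (ModSite.unit O) g a) = resR g (ofU U a) := rfl

/-- the value at `1` of a morphism out of the structure sheaf -/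
noncomputable def at1 {M : Mod O} (τ : ModSite.unit O ⟶ M) (U : C) : Sec M U :=
  app τ U (toU U 1)

lemma at1_res {M : Mod O} (τ : ModSite.unit O ⟶ M) {U V : C} (g : V ⟶ U) :
    res M g (at1 τ U) = at1 τ V := by
  unfold at1
  rw [← app_res, res_toU, map_one]

lemma app_toU {M : Mod O} (τ : ModSite.unit O ⟶ M) (U : C) (a : O.obj.obj (op U)) :
    app τ U (toU U a) = a • at1 τ U := by
  unfold at1
  rw [← app_smul, ← toU_eq_smul_one]

lemma at1_comp {M N : Mod O} (τ : ModSite.unit O ⟶ M) (p : M ⟶ N) (U : C) :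
    at1 (τ ≫ p) U = app p U (at1 τ U) := rfl

lemma at1_zero (M : Mod O) (U : C) : at1 (0 : ModSite.unit O ⟶ M) U = 0 := rfl

lemma at1_id (U : C) : at1 (𝟙 (ModSite.unit O)) U = toU U 1 := rfl

/-! ### Finite free modules -/

section Free

variable (ι : Type u) [Fintype ι] [DecidableEq ι]

/-- the free module on `ι` -/
noncomputable abbrev fr : Mod O := SheafOfModules.free (R := ringSh O) ι

/-- the inclusions -/
noncomputable abbrev inj (i : ι) : ModSite.unit O ⟶ fr (O := O) ι := SheafOfModules.ιFree i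

/-- the projections -/
noncomputable def pr (i : ι) : fr (O := O) ι ⟶ ModSite.unit O :=
  proj (fun j => inj (O := O) ι j) (SheafOfModules.isColimitFreeCofan ι) i

lemma inj_pr (j i : ι) : inj (O := O) ι j ≫ pr ι i = if j = i then 𝟙 _ else 0 :=
  inj_proj (fun j => inj (O := O) ι j) (SheafOfModules.isColimitFreeCofan ι) j i

lemma sum_pr_inj : ∑ i, pr (O := O) ι i ≫ inj ι i = 𝟙 (fr (O := O) ι) :=
  sum_proj_inj (fun j => inj (O := O) ι j) (SheafOfModules.isColimitFreeCofan ι)

lemma fr_hom_ext {M : Mod O} {f g : fr (O := O) ι ⟶ M} (h : ∀ i, inj ι i ≫ f = inj ι i ≫ g) :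
    f = g :=
  Cofan.IsColimit.hom_ext (SheafOfModules.isColimitFreeCofan ι) _ _ h

/-- the morphism out of the free module with given components -/
noncomputable def frDesc {M : Mod O} (τ : ι → (ModSite.unit O ⟶ M)) : fr (O := O) ι ⟶ M :=
  Cofan.IsColimit.desc (SheafOfModules.isColimitFreeCofan ι) τ

lemma inj_frDesc {M : Mod O} (τ : ι → (ModSite.unit O ⟶ M)) (i : ι) :
    inj ι i ≫ frDesc ι τ = τ i :=
  Cofan.IsColimit.fac (SheafOfModules.isColimitFreeCofan ι) τ i

/-- the basis sections -/
noncomputable def bas (i : ι) (U : C) : Sec (fr (O := O) ι) U := at1 (inj ι i) U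

/-- the coordinates of a section of a free module -/
noncomputable def co (i : ι) (U : C) (m : Sec (fr (O := O) ι) U) : O.obj.obj (op U) :=
  ofU U (app (pr ι i) U m)

lemma bas_res (i : ι) {U V : C} (g : V ⟶ U) : res (fr (O := O) ι) g (bas ι i U) = bas ι i V :=
  at1_res _ g

lemma co_res (i : ι) {U V : C} (g : V ⟶ U) (m : Sec (fr (O := O) ι) U) :
    co ι i V (res _ g m) = resR g (co ι i U m) := by
  unfold co
  rw [app_res, ofU_res]

lemma sec_decomp (U : C) (m : Sec (fr (O := O) ι) U) : m = ∑ i, co ι i U m • bas ι i U := by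
  have h1 : app (∑ i, pr (O := O) ι i ≫ inj ι i) U m = m := by
    rw [sum_pr_inj]
    rfl
  rw [app_sum] at h1
  refine h1.symm.trans (Finset.sum_congr rfl (fun i _ => ?_))
  rw [app_comp]
  have h2 : app (pr ι i) U m = toU U (co ι i U m) := rfl
  rw [h2, app_toU]
  rfl

lemma co_add (i : ι) (U : C) (m m' : Sec (fr (O := O) ι) U) :
    co ι i U (m + m') = co ι i U m + co ι i U m' := by
  unfold co
  rw [map_add, ofU_add]

lemma co_smul (i : ι) (U : C) (a : O.obj.obj (op U)) (m : Sec (fr (O := O) ι) U) :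
    co ι i U (a • m) = a * co ι i U m := by
  unfold co
  rw [app_smul, ofU_smul]

lemma co_zero (i : ι) (U : C) : co ι i U (0 : Sec (fr (O := O) ι) U) = 0 := by
  unfold co
  rw [map_zero, ofU_zero]

lemma co_sum (i : ι) (U : C) {κ : Type*} (s : Finset κ) (m : κ → Sec (fr (O := O) ι) U) :
    co ι i U (∑ k ∈ s, m k) = ∑ k ∈ s, co ι i U (m k) := by
  classical
  induction s using Finset.induction_on with
  | empty => simp [co_zero]
  | insert a s ha ih => rw [Finset.sum_insert ha, Finset.sum_insert ha, co_add, ih]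

lemma co_bas (i j : ι) (U : C) : co ι i U (bas (O := O) ι j U) = if j = i then 1 else 0 := by
  unfold co bas
  rw [← at1_comp, inj_pr]
  split_ifs
  · rfl
  · rfl

lemma co_comb (i : ι) (U : C) (a : ι → O.obj.obj (op U)) :
    co ι i U (∑ j, a j • bas (O := O) ι j U) = a i := by
  rw [co_sum]
  rw [Finset.sum_eq_single i]
  · rw [co_smul, co_bas, if_pos rfl, mul_one]
  · intro j _ hj
    rw [co_smul, co_bas, if_neg hj, mul_zero]
  · intro h
    exact absurd (Finset.mem_univ i) h

lemma sec_ext_co (U : C) {m m' : Sec (fr (O := O) ι) U} (h : ∀ i, co ι i U m = co ι i U m') :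
    m = m' := by
  rw [sec_decomp ι U m, sec_decomp ι U m']
  exact Finset.sum_congr rfl (fun i _ => by rw [h i])

/-- the value of a morphism out of a free module on a section -/
lemma app_fr {M : Mod O} (f : fr (O := O) ι ⟶ M) (U : C) (m : Sec (fr (O := O) ι) U) :
    app f U m = ∑ i, co ι i U m • at1 (inj ι i ≫ f) U := by
  conv_lhs => rw [sec_decomp ι U m]
  rw [map_sum]
  refine Finset.sum_congr rfl (fun i _ => ?_)
  rw [app_smul, at1_comp]
  rfl

lemma app_fr_comb {M : Mod O} (f : fr (O := O) ι ⟶ M) (U : C) (a : ι → O.obj.obj (op U)) :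
    app f U (∑ i, a i • bas (O := O) ι i U) = ∑ i, a i • at1 (inj ι i ≫ f) U := by
  rw [app_fr]
  exact Finset.sum_congr rfl (fun i _ => by rw [co_comb])

end Free

end Groth.Agent.Lib.RSp
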