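import Mathlib
import Groth.Prelude.Def_ModSite2
import Groth.Agent.Lib.RSpB_lead

/-!
# Restriction to a slice site, elementwise; generators (lead)
-/

set_option autoImplicit false
set_option linter.unusedSimpArgs false
set_option linter.unusedVariables false
set_option linter.unusedSectionVars false
set_option linter.style.longLine false
set_option linter.unnecessarySimpa false
set_option maxHeartbeats 1600000
set_option backward.isDefEq.respectTransparency false
set_option backward.isDefEq.respectTransparency.types false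
set_option backward.defeqAttrib.useBackward true

universe u

open CategoryTheory Limits Opposite ModSite

namespace Groth.Agent.Lib.RSp

open Groth.Agent.Lib.ModSiteH8 Groth.Agent.Lib.StalkFlatPt Groth.Agent.Lib.StalkFlatA
open Groth.Agent.Lib.FreeFactor

variable {C : Type u} [SmallCategory C] {J : GrothendieckTopology C} {O : Sheaf J CommRingCat.{u}}

/-! ### sections over the slice -/

/-- sections of `F|_U` over `Z → U` are sections of `F` over `Z` -/
def ofSl (F : Mod O) (U : C) (Z : Over U) (m : Sec ((restr O U).obj F) Z) : Sec F Z.left := m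

/-- sections of `F` over `Z` as sections of `F|_U` over `Z → U` -/
def toSl (F : Mod O) (U : C) (Z : Over U) (m : Sec F Z.left) : Sec ((restr O U).obj F) Z := m

/-- ring sections over the slice -/
def ofSlR (U : C) (Z : Over U) (a : (O.over U).obj.obj (op Z)) : O.obj.obj (op Z.left) := a

/-- ring sections over the slice -/
def toSlR (U : C) (Z : Over U) (a : O.obj.obj (op Z.left)) : (O.over U).obj.obj (op Z) := a

@[simp] lemma ofSl_toSl (F : Mod O) (U : C) (Z : Over U) (m : Sec F Z.left) :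
    ofSl F U Z (toSl F U Z m) = m := rfl
@[simp] lemma toSl_ofSl (F : Mod O) (U : C) (Z : Over U) (m : Sec ((restr O U).obj F) Z) :
    toSl F U Z (ofSl F U Z m) = m := rfl
@[simp] lemma ofSlR_toSlR (U : C) (Z : Over U) (a : O.obj.obj (op Z.left)) :
    ofSlR U Z (toSlR U Z a) = a := rfl
@[simp] lemma toSlR_ofSlR (U : C) (Z : Over U) (a : (O.over U).obj.obj (op Z)) :
    toSlR U Z (ofSlR U Z a) = a := rfl

lemma ofSl_injective (F : Mod O) (U : C) (Z : Over U) : Function.Injective (ofSl F U Z) :=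
  fun _ _ h => h

lemma ofSl_res (F : Mod O) (U : C) {Z Z' : Over U} (k : Z' ⟶ Z) (m : Sec ((restr O U).obj F) Z) :
    ofSl F U Z' (res ((restr O U).obj F) k m) = res F k.left (ofSl F U Z m) := rfl

lemma ofSl_smul (F : Mod O) (U : C) (Z : Over U) (a : (O.over U).obj.obj (op Z))
    (m : Sec ((restr O U).obj F) Z) :
    ofSl F U Z (a • m) = ofSlR U Z a • ofSl F U Z m := rfl

lemma ofSl_add (F : Mod O) (U : C) (Z : Over U) (m m' : Sec ((restr O U).obj F) Z) :
    ofSl F U Z (m + m') = ofSl F U Z m + ofSl F U Z m' := rfl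

lemma ofSl_zero (F : Mod O) (U : C) (Z : Over U) :
    ofSl F U Z (0 : Sec ((restr O U).obj F) Z) = 0 := rfl

lemma ofSl_sum (F : Mod O) (U : C) (Z : Over U) {ι : Type*} (s : Finset ι)
    (m : ι → Sec ((restr O U).obj F) Z) :
    ofSl F U Z (∑ i ∈ s, m i) = ∑ i ∈ s, ofSl F U Z (m i) := by
  classical
  induction s using Finset.induction_on with
  | empty => simp [ofSl_zero]
  | insert a s ha ih => rw [Finset.sum_insert ha, Finset.sum_insert ha, ofSl_add, ih]

lemma ofSl_app {F G : Mod O} (φ : F ⟶ G) (U : C) (Z : Over U) (m : Sec ((restr O U).obj F) Z) :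
    ofSl G U Z (app ((restr O U).map φ) Z m) = app φ Z.left (ofSl F U Z m) := rfl

lemma ofSlR_resR (U : C) {Z Z' : Over U} (k : Z' ⟶ Z) (a : (O.over U).obj.obj (op Z)) :
    ofSlR U Z' (resR (O := O.over U) k a) = resR k.left (ofSlR U Z a) := rfl

lemma ofSlR_mul (U : C) (Z : Over U) (a b : (O.over U).obj.obj (op Z)) :
    ofSlR U Z (a * b) = ofSlR U Z a * ofSlR U Z b := rfl

lemma ofSlR_sum (U : C) (Z : Over U) {ι : Type*} (s : Finset ι)
    (a : ι → (O.over U).obj.obj (op Z)) :
    ofSlR U Z (∑ i ∈ s, a i) = ∑ i ∈ s, ofSlR U Z (a i) := rfl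

/-- the value at `1` of a morphism `O_U ⟶ F|_U` over `Z → U` is the restriction of its value at `U` -/
lemma at1_slice (F : Mod O) (U : C) (τ : unitW O U ⟶ (restr O U).obj F) (Z : Over U) :
    ofSl F U Z (at1 τ Z) = res F Z.hom (evH F τ) := by
  have h1 := unitHomEquiv_val ((restr O U).obj F) τ (op Z)
  rw [SheafOfModules.unitHomEquiv_apply_coe] at h1
  exact h1

/-- the value at `1` of an endomorphism of `O_U` over `Z → U` -/
lemma at1_sliceR (U : C) (τ : unitW O U ⟶ unitW O U) (Z : Over U) :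
    ofSlR U Z (ofU Z (at1 τ Z)) = resR Z.hom (evR τ) := by
  have h1 := unitHomEquiv_val (unitW O U) τ (op Z)
  rw [SheafOfModules.unitHomEquiv_apply_coe] at h1
  exact h1

/-! ### epimorphisms and monomorphisms after restriction -/

theorem restr_epi_iff {G F : Mod O} (φ : G ⟶ F) (U : C) :
    Epi ((restr O U).map φ) ↔ ∀ ⦃V : C⦄ (g : V ⟶ U) (t : Sec F V), ∃ S ∈ J V,
      ∀ ⦃W : C⦄ (h : W ⟶ V), S h → ∃ u : Sec G W, app φ W u = res F h t := by
  rw [epi_iff]
  constructor
  · intro H V g t
    obtain ⟨S, hS, hl⟩ := H (Over.mk g) (toSl F U (Over.mk g) t)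
    refine ⟨Sieve.overEquiv (Over.mk g) S, (J.mem_over_iff S).1 hS, fun W h hh => ?_⟩
    rw [Sieve.overEquiv_iff] at hh
    obtain ⟨u, hu⟩ := hl _ hh
    exact ⟨ofSl G U _ u, congrArg (ofSl F U _) hu⟩
  · intro H Z t
    obtain ⟨S, hS, hl⟩ := H Z.hom (ofSl F U Z t)
    refine ⟨(Sieve.overEquiv Z).symm S, J.overEquiv_symm_mem_over Z S hS, fun Z' k hk => ?_⟩
    rw [Sieve.overEquiv_symm_iff] at hk
    obtain ⟨u, hu⟩ := hl k.left hk
    exact ⟨toSl G U Z' u, hu⟩

theorem restr_mono_iff {G F : Mod O} (φ : G ⟶ F) (U : C) :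
    Mono ((restr O U).map φ) ↔ ∀ ⦃V : C⦄ (g : V ⟶ U), Function.Injective (app φ V) := by
  rw [mono_iff]
  constructor
  · intro H V g a b hab
    exact H (Over.mk g) hab
  · intro H Z a b hab
    exact H Z.hom hab

/-! ### generators -/

/-- the sections `s` generate `F` over `U` -/
def GenOn (F : Mod O) (U : C) {ι : Type*} [Fintype ι] (s : ι → Sec F U) : Prop :=
  ∀ ⦃V : C⦄ (g : V ⟶ U) (t : Sec F V), ∃ S ∈ J V, ∀ ⦃W : C⦄ (h : W ⟶ V), S h →
    ∃ a : ι → O.obj.obj (op W), res F h t = ∑ i, a i • res F (h ≫ g) (s i)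

/-- the sections `s` are independent over `U` -/
def IndepOn (F : Mod O) (U : C) {ι : Type*} [Fintype ι] (s : ι → Sec F U) : Prop :=
  ∀ ⦃V : C⦄ (g : V ⟶ U) (a : ι → O.obj.obj (op V)), ∑ i, a i • res F g (s i) = 0 → ∀ i, a i = 0

lemma GenOn.restrict {F : Mod O} {U : C} {ι : Type*} [Fintype ι] {s : ι → Sec F U}
    (h : GenOn F U s) {U' : C} (g' : U' ⟶ U) : GenOn F U' (fun i => res F g' (s i)) := by
  intro V g t
  obtain ⟨S, hS, hl⟩ := h (g ≫ g') t
  refine ⟨S, hS, fun W k hk => ?_⟩
  obtain ⟨a, ha⟩ := hl k hk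
  refine ⟨a, ha.trans (Finset.sum_congr rfl (fun i _ => ?_))⟩
  rw [res_res, Category.assoc]

lemma IndepOn.restrict {F : Mod O} {U : C} {ι : Type*} [Fintype ι] {s : ι → Sec F U}
    (h : IndepOn F U s) {U' : C} (g' : U' ⟶ U) : IndepOn F U' (fun i => res F g' (s i)) := by
  intro V g a ha
  refine h (g ≫ g') a ?_
  rw [← ha]
  exact Finset.sum_congr rfl (fun i _ => by rw [res_res])

section FreeSlice

variable (F : Mod O) (U : C) (ι : Type u) [Fintype ι] [DecidableEq ι]

/-- the sections attached to a morphism out of a free module on the slice -/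
noncomputable def secsOf (f : fr (O := O.over U) ι ⟶ (restr O U).obj F) (i : ι) : Sec F U :=
  evH F (inj ι i ≫ f)

lemma ofSl_app_fr (f : fr (O := O.over U) ι ⟶ (restr O U).obj F) (Z : Over U)
    (m : Sec (fr (O := O.over U) ι) Z) :
    ofSl F U Z (app f Z m) = ∑ i, ofSlR U Z (co ι i Z m) • res F Z.hom (secsOf F U ι f i) := by
  rw [app_fr, ofSl_sum]
  refine Finset.sum_congr rfl (fun i _ => ?_)
  rw [ofSl_smul, at1_slice]
  rfl

theorem fr_epi_iff (f : fr (O := O.over U) ι ⟶ (restr O U).obj F) :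
    Epi f ↔ GenOn F U (secsOf F U ι f) := by
  rw [epi_iff]
  constructor
  · intro H V g t
    obtain ⟨S, hS, hl⟩ := H (Over.mk g) (toSl F U (Over.mk g) t)
    refine ⟨Sieve.overEquiv (Over.mk g) S, (J.mem_over_iff S).1 hS, fun W h hh => ?_⟩
    rw [Sieve.overEquiv_iff] at hh
    obtain ⟨u, hu⟩ := hl _ hh
    refine ⟨fun i => ofSlR U _ (co ι i _ u), ?_⟩
    have h2 := congrArg (ofSl F U _) hu
    rw [ofSl_app_fr] at h2
    exact h2.symm
  · intro H Z t
    obtain ⟨S, hS, hl⟩ := H Z.hom (ofSl F U Z t)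
    refine ⟨(Sieve.overEquiv Z).symm S, J.overEquiv_symm_mem_over Z S hS, fun Z' k hk => ?_⟩
    rw [Sieve.overEquiv_symm_iff] at hk
    obtain ⟨a, ha⟩ := hl k.left hk
    refine ⟨∑ i, toSlR U Z' (a i) • bas ι i Z', ?_⟩
    apply ofSl_injective
    rw [ofSl_app_fr, ofSl_res, ha]
    refine Finset.sum_congr rfl (fun i _ => ?_)
    rw [co_comb, ofSlR_toSlR, Over.w k]

theorem fr_mono_iff (f : fr (O := O.over U) ι ⟶ (restr O U).obj F) :
    Mono f ↔ IndepOn F U (secsOf F U ι f) := by
  rw [mono_iff]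
  constructor
  · intro H V g a ha i
    have h1 : app f (Over.mk g) (∑ i, toSlR U (Over.mk g) (a i) • bas ι i (Over.mk g)) =
        app f (Over.mk g) 0 := by
      apply ofSl_injective
      rw [ofSl_app_fr, map_zero, ofSl_zero, ← ha]
      refine Finset.sum_congr rfl (fun i _ => ?_)
      rw [co_comb, ofSlR_toSlR]
      rfl
    have h2 := H (Over.mk g) h1
    have h3 := congrArg (co ι i (Over.mk g)) h2
    rw [co_comb, co_zero] at h3
    exact h3
  · intro H Z
    rw [injective_iff_map_eq_zero]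
    intro m hm
    have h1 := congrArg (ofSl F U Z) hm
    rw [ofSl_app_fr, ofSl_zero] at h1
    have h2 := H Z.hom (fun i => ofSlR U Z (co ι i Z m)) h1
    apply sec_ext_co ι Z
    intro i
    rw [co_zero]
    exact h2 i

theorem exists_fr_hom (s : ι → Sec F U) :
    ∃ f : fr (O := O.over U) ι ⟶ (restr O U).obj F, secsOf F U ι f = s := by
  choose τ hτ using fun i => evH_surjective (W := U) F (s i)
  refine ⟨frDesc ι τ, ?_⟩
  funext i
  unfold secsOf
  rw [inj_frDesc, hτ]

theorem restr_iso_free_iff :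
    Nonempty ((restr O U).obj F ≅ SheafOfModules.free (R := ringSh (O.over U)) ι) ↔
      ∃ s : ι → Sec F U, GenOn F U s ∧ IndepOn F U s := by
  constructor
  · rintro ⟨e⟩
    refine ⟨secsOf F U ι e.inv, ?_, ?_⟩
    · rw [← fr_epi_iff]
      infer_instance
    · rw [← fr_mono_iff]
      infer_instance
  · rintro ⟨s, hg, hi⟩
    obtain ⟨f, hf⟩ := exists_fr_hom F U ι s
    rw [← hf] at hg hi
    haveI := (fr_epi_iff F U ι f).2 hg
    haveI := (fr_mono_iff F U ι f).2 hi
    haveI : IsIso f := isIso_of_mono_of_epi f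
    exact ⟨(asIso f).symm⟩

end FreeSlice

/-! ### finite type -/

/-- `F` is generated by finitely many sections over `U` -/
def LocGen (F : Mod O) (U : C) : Prop :=
  ∃ (ι : Type u) (_ : Fintype ι) (s : ι → Sec F U), GenOn F U s

lemma LocGen.restrict {F : Mod O} {U : C} (h : LocGen F U) {U' : C} (g : U' ⟶ U) : LocGen F U' := by
  obtain ⟨ι, _, s, hs⟩ := h
  exact ⟨ι, inferInstance, _, hs.restrict g⟩

theorem isFiniteType_iff (F : Mod O) :
    SheafOfModules.IsFiniteType (R := ringSh O) F ↔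
      ∃ (I : Type u) (X : I → C), J.CoversTop X ∧ ∀ i, LocGen F (X i) := by
  classical
  constructor
  · rintro ⟨σ, hσ⟩
    refine ⟨σ.I, σ.X, σ.coversTop, fun i => ?_⟩
    haveI : Finite (σ.generators i).I := (hσ.isFiniteType i).finite
    haveI : Fintype (σ.generators i).I := Fintype.ofFinite _
    exact ⟨(σ.generators i).I, inferInstance, _,
      (fr_epi_iff F (σ.X i) (σ.generators i).I (σ.generators i).π).1 (σ.generators i).epi⟩
  · rintro ⟨I, X, hX, h⟩
    choose ι hι s hs using h
    choose f hf using fun i => exists_fr_hom F (X i) (ι i) (s i)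
    have hepi : ∀ i, Epi (f i) := fun i => (fr_epi_iff F (X i) (ι i) (f i)).2 (by rw [hf i]; exact hs i)
    let σ : SheafOfModules.LocalGeneratorsData.{u} (R := ringSh O) F :=
      { I := I
        X := X
        coversTop := hX
        generators := fun i =>
          { I := ι i
            s := ((restr O (X i)).obj F).freeHomEquiv (f i)
            epi := by
              rw [Equiv.symm_apply_apply]
              exact hepi i } }
    have hσ : σ.IsFiniteType := by
      constructor
      intro i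
      constructor
      exact Finite.of_fintype (ι i)
    constructor
    exact ⟨σ, hσ⟩

end Groth.Agent.Lib.RSp
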