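import Mathlib
import Groth.Prelude.Def_ModSite2
import Groth.Prelude.Def_AlgSpPerf
import Groth.Agent.Lib.RSpC_lead

/-!
# Local lifting from finite free modules through an epimorphism (lead)
-/

set_option autoImplicit false
set_option linter.unusedSimpArgs false
set_option linter.unusedVariables false
set_option linter.unusedSectionVars false
set_option linter.style.longLine false
set_option linter.unnecessarySimpa false
set_option maxHeartbeats 1600000
set_option backward.isDefEq.respectTransparency false
set_option backward.isDefEq.respectTransparency.types false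
set_option backward.defeqAttrib.useBackward true

universe u

open CategoryTheory Limits Opposite ModSite

namespace Groth.Agent.Lib.RSp

open Groth.Agent.Lib.ModSiteH8 Groth.Agent.Lib.StalkFlatPt Groth.Agent.Lib.StalkFlatA
open Groth.Agent.Lib.FreeFactor

variable {C : Type u} [SmallCategory C] {J : GrothendieckTopology C} {O : Sheaf J CommRingCat.{u}}

/-- the value over `W` of the restriction of a global morphism out of the structure sheaf -/
lemma evH_restr_map {F : Mod O} (τ : ModSite.unit O ⟶ F) (W : C) :
    evH F ((restr O W).map τ) = at1 τ W := rfl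

lemma evH_comp_restr_map {G F : Mod O} (W : C) (τ : unitW O W ⟶ (restr O W).obj G) (p : G ⟶ F) :
    evH F (τ ≫ (restr O W).map p) = app p W (evH G τ) := rfl

/-- the restriction of a finite free module is a coproduct of copies of the structure sheaf -/
noncomputable def isColimitRestrFree (ι : Type u) (W : C) :
    IsColimit (Cofan.mk ((restr O W).obj (fr (O := O) ι))
      (fun j : ι => (restr O W).map (inj (O := O) ι j))) := by
  haveI := restr_isLeftAdjoint O W
  exact isColimitCofanMkObjOfIsColimit (restr O W) _ _ (SheafOfModules.isColimitFreeCofan ι)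

/-- a morphism from a finite free module lifts locally through an epimorphism -/
theorem free_locLift (ι : Type u) [Fintype ι] [DecidableEq ι] {G F : Mod O} (p : G ⟶ F) [Epi p]
    (ψ : fr (O := O) ι ⟶ F) (V : C) :
    ∃ R ∈ J V, ∀ ⦃W : C⦄ (g : W ⟶ V), R g →
      ∃ l : (restr O W).obj (fr (O := O) ι) ⟶ (restr O W).obj G,
        l ≫ (restr O W).map p = (restr O W).map ψ := by
  obtain ⟨R, hR, hl⟩ := epi_lift_family p V (fun j : ι => at1 (inj ι j ≫ ψ) V)
  refine ⟨R, hR, fun W g hg => ?_⟩
  obtain ⟨u, hu⟩ := hl g hg
  choose τ hτ using fun j => evH_surjective (W := W) G (u j)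
  refine ⟨Cofan.IsColimit.desc (isColimitRestrFree ι W) τ, ?_⟩
  refine Cofan.IsColimit.hom_ext (isColimitRestrFree ι W) _ _ (fun j => ?_)
  change (restr O W).map (inj ι j) ≫ _ = (restr O W).map (inj ι j) ≫ _
  have hfac : (restr O W).map (inj ι j) ≫ Cofan.IsColimit.desc (isColimitRestrFree ι W) τ = τ j :=
    Cofan.IsColimit.fac (isColimitRestrFree ι W) τ j
  rw [← Category.assoc, hfac, ← Functor.map_comp]
  apply evH_injective F
  rw [evH_comp_restr_map, hτ, hu, at1_res, evH_restr_map]

end Groth.Agent.Lib.RSp
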