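import Mathlib
import Groth.Prelude.Def_ModSite2
import Groth.Agent.Lib.RSpD_lead

/-!
# Sheaves of modules on a ringed space, pointwise (lead)
-/

set_option autoImplicit false
set_option linter.unusedSimpArgs false
set_option linter.unusedVariables false
set_option linter.unusedSectionVars false
set_option linter.style.longLine false
set_option linter.unnecessarySimpa false
set_option maxHeartbeats 1600000
set_option backward.isDefEq.respectTransparency false
set_option backward.isDefEq.respectTransparency.types false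
set_option backward.defeqAttrib.useBackward true

universe u

open CategoryTheory Limits Opposite ModSite TopologicalSpace

namespace Groth.Agent.Lib.RSp

open Groth.Agent.Lib.ModSiteH8 Groth.Agent.Lib.StalkFlatPt Groth.Agent.Lib.StalkFlatA
open Groth.Agent.Lib.FreeFactor

variable {X : TopCat.{u}} {O : TopCat.Sheaf CommRingCat.{u} X}

/-- restriction of sections along an inclusion of opens -/
noncomputable def rs (F : Mod O) {U V : Opens X} (h : V ≤ U) : Sec F U →+ Sec F V := res F (homOfLE h)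

/-- restriction of ring sections along an inclusion of opens -/
noncomputable def rsR {U V : Opens X} (h : V ≤ U) : O.obj.obj (op U) →+* O.obj.obj (op V) :=
  resR (O := O) (homOfLE h)

lemma res_eq_rs (F : Mod O) {U V : Opens X} (g : V ⟶ U) : res F g = rs F (leOfHom g) := rfl

lemma resR_eq_rsR {U V : Opens X} (g : V ⟶ U) : resR (O := O) g = rsR (leOfHom g) := rfl

lemma rs_rs (F : Mod O) {U V W : Opens X} (h : V ≤ U) (h' : W ≤ V) (m : Sec F U) :
    rs F h' (rs F h m) = rs F (h'.trans h) m :=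
  res_res F (homOfLE h) (homOfLE h') m

lemma rsR_rsR {U V W : Opens X} (h : V ≤ U) (h' : W ≤ V) (a : O.obj.obj (op U)) :
    rsR h' (rsR h a) = rsR (O := O) (h'.trans h) a :=
  resR_resR (homOfLE h) (homOfLE h') a

lemma rs_smul (F : Mod O) {U V : Opens X} (h : V ≤ U) (a : O.obj.obj (op U)) (m : Sec F U) :
    rs F h (a • m) = rsR h a • rs F h m :=
  res_smul F (homOfLE h) a m

lemma rs_self (F : Mod O) (U : Opens X) (m : Sec F U) : rs F (le_refl U) m = m := by
  change ((iF O).obj F).presheaf.map (𝟙 (op U)) m = m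
  rw [((iF O).obj F).presheaf.map_id]
  rfl

lemma rsR_self (U : Opens X) (a : O.obj.obj (op U)) : rsR (O := O) (le_refl U) a = a := by
  change (O.obj.map (𝟙 (op U))).hom a = a
  rw [O.obj.map_id]
  rfl

lemma app_rs {F G : Mod O} (φ : F ⟶ G) {U V : Opens X} (h : V ≤ U) (m : Sec F U) :
    app φ V (rs F h m) = rs G h (app φ U m) :=
  app_res φ (homOfLE h) m

lemma rs_sum (F : Mod O) {U V : Opens X} (h : V ≤ U) {ι : Type*} (s : Finset ι) (m : ι → Sec F U) :
    rs F h (∑ i ∈ s, m i) = ∑ i ∈ s, rs F h (m i) := map_sum _ _ _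

/-- from a covering sieve to neighbourhoods -/
lemma exists_nhd_of_sieve {V : Opens X} {S : Sieve V} (hS : S ∈ Opens.grothendieckTopology X V)
    (x : X) (hx : x ∈ V) : ∃ (W : Opens X) (hW : W ≤ V), x ∈ W ∧ S (homOfLE hW) := by
  obtain ⟨W, f, hf, hxW⟩ := hS x hx
  exact ⟨W, leOfHom f, hxW, hf⟩

/-- from neighbourhoods to a covering sieve -/
lemma exists_sieve_of_nhd {V : Opens X} (P : ∀ W : Opens X, W ≤ V → Prop)
    (hP : ∀ (W : Opens X) (hW : W ≤ V) (W' : Opens X) (h' : W' ≤ W), P W hW → P W' (h'.trans hW))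
    (h : ∀ x ∈ V, ∃ (W : Opens X) (hW : W ≤ V), x ∈ W ∧ P W hW) :
    ∃ S ∈ Opens.grothendieckTopology X V, ∀ ⦃W : Opens X⦄ (g : W ⟶ V), S g → P W (leOfHom g) := by
  refine ⟨⟨fun W g => P W (leOfHom g), ?_⟩, ?_, fun W g hg => hg⟩
  · intro W W' g hg k
    exact hP W (leOfHom g) W' (leOfHom k) hg
  · intro x hx
    obtain ⟨W, hW, hxW, hPW⟩ := h x hx
    exact ⟨W, homOfLE hW, hPW, hxW⟩

/-- pointwise generation -/
def GenAt (F : Mod O) (U : Opens X) {ι : Type*} [Fintype ι] (s : ι → Sec F U) : Prop :=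
  ∀ (V : Opens X) (hV : V ≤ U) (t : Sec F V) (x : X), x ∈ V →
    ∃ (W : Opens X) (hW : W ≤ V), x ∈ W ∧
      ∃ a : ι → O.obj.obj (op W), rs F hW t = ∑ i, a i • rs F (hW.trans hV) (s i)

theorem genOn_iff_genAt (F : Mod O) (U : Opens X) {ι : Type*} [Fintype ι] (s : ι → Sec F U) :
    GenOn F U s ↔ GenAt F U s := by
  constructor
  · intro H V hV t x hx
    obtain ⟨S, hS, hl⟩ := H (homOfLE hV) t
    obtain ⟨W, hW, hxW, hSW⟩ := exists_nhd_of_sieve hS x hx
    obtain ⟨a, ha⟩ := hl _ hSW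
    exact ⟨W, hW, hxW, a, ha⟩
  · intro H V g t
    refine exists_sieve_of_nhd
      (fun W hW => ∃ a : ι → O.obj.obj (op W), rs F hW t = ∑ i, a i • rs F (hW.trans (leOfHom g)) (s i))
      ?_ (fun x hx => H V (leOfHom g) t x hx)
    rintro W hW W' h' ⟨a, ha⟩
    refine ⟨fun i => rsR h' (a i), ?_⟩
    have := congrArg (rs F h') ha
    rw [rs_rs, rs_sum] at this
    refine this.trans (Finset.sum_congr rfl (fun i _ => ?_))
    rw [rs_smul, rs_rs]

lemma GenAt.restrict {F : Mod O} {U : Opens X} {ι : Type*} [Fintype ι] {s : ι → Sec F U}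
    (h : GenAt F U s) {U' : Opens X} (hU' : U' ≤ U) : GenAt F U' (fun i => rs F hU' (s i)) := by
  intro V hV t x hx
  obtain ⟨W, hW, hxW, a, ha⟩ := h V (hV.trans hU') t x hx
  refine ⟨W, hW, hxW, a, ha.trans (Finset.sum_congr rfl (fun i _ => ?_))⟩
  rw [rs_rs]

/-- finite type, pointwise -/
theorem isFiniteType_iff_top (F : Mod O) :
    SheafOfModules.IsFiniteType (R := ringSh O) F ↔
      ∀ x : X, ∃ U : Opens X, x ∈ U ∧
        ∃ (ι : Type u) (_ : Fintype ι) (s : ι → Sec F U), GenAt F U s := by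
  rw [isFiniteType_iff]
  constructor
  · rintro ⟨I, Xf, hX, h⟩ x
    obtain ⟨V, f, ⟨i, ⟨k⟩⟩, hxV⟩ := hX ⊤ x (Opens.mem_top x)
    obtain ⟨ι, hι, s, hs⟩ := h i
    exact ⟨Xf i, leOfHom k hxV, ι, hι, s, (genOn_iff_genAt F _ s).1 hs⟩
  · intro h
    choose U hxU ι hι s hs using h
    refine ⟨X, U, ?_, fun x => ⟨ι x, hι x, s x, (genOn_iff_genAt F _ _).2 (hs x)⟩⟩
    intro W y hy
    exact ⟨W ⊓ U y, homOfLE inf_le_left, ⟨y, ⟨homOfLE inf_le_right⟩⟩, ⟨hy, hxU y⟩⟩

/-- epimorphisms, pointwise -/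
theorem epi_iff_top {F G : Mod O} (φ : F ⟶ G) :
    Epi φ ↔ ∀ (U : Opens X) (t : Sec G U) (x : X), x ∈ U →
      ∃ (W : Opens X) (hW : W ≤ U), x ∈ W ∧ ∃ u : Sec F W, app φ W u = rs G hW t := by
  rw [epi_iff]
  constructor
  · intro H U t x hx
    obtain ⟨S, hS, hl⟩ := H U t
    obtain ⟨W, hW, hxW, hSW⟩ := exists_nhd_of_sieve hS x hx
    obtain ⟨u, hu⟩ := hl _ hSW
    exact ⟨W, hW, hxW, u, hu⟩
  · intro H U t
    refine exists_sieve_of_nhd (fun W hW => ∃ u : Sec F W, app φ W u = rs G hW t) ?_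
      (fun x hx => H U t x hx)
    rintro W hW W' h' ⟨u, hu⟩
    refine ⟨rs F h' u, ?_⟩
    rw [app_rs, hu, rs_rs]

/-- epimorphisms after restriction to an open, pointwise -/
theorem restr_epi_iff_top {G F : Mod O} (φ : G ⟶ F) (U : Opens X) :
    Epi ((restr O U).map φ) ↔ ∀ (V : Opens X) (hV : V ≤ U) (t : Sec F V) (x : X), x ∈ V →
      ∃ (W : Opens X) (hW : W ≤ V), x ∈ W ∧ ∃ u : Sec G W, app φ W u = rs F hW t := by
  rw [restr_epi_iff]
  constructor
  · intro H V hV t x hx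
    obtain ⟨S, hS, hl⟩ := H (homOfLE hV) t
    obtain ⟨W, hW, hxW, hSW⟩ := exists_nhd_of_sieve hS x hx
    obtain ⟨u, hu⟩ := hl _ hSW
    exact ⟨W, hW, hxW, u, hu⟩
  · intro H V g t
    refine exists_sieve_of_nhd (fun W hW => ∃ u : Sec G W, app φ W u = rs F hW t) ?_
      (fun x hx => H V (leOfHom g) t x hx)
    rintro W hW W' h' ⟨u, hu⟩
    refine ⟨rs G h' u, ?_⟩
    rw [app_rs, hu, rs_rs]

/-- exactness, pointwise -/
theorem exact_iff_top (S : ShortComplex (Mod O)) :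
    S.Exact ↔ ∀ (U : Opens X) (t : Sec S.X₂ U), app S.g U t = 0 → ∀ x : X, x ∈ U →
      ∃ (W : Opens X) (hW : W ≤ U), x ∈ W ∧ ∃ u : Sec S.X₁ W, app S.f W u = rs S.X₂ hW t := by
  rw [exact_iff]
  constructor
  · intro H U t ht x hx
    obtain ⟨R, hR, hl⟩ := H U t ht
    obtain ⟨W, hW, hxW, hSW⟩ := exists_nhd_of_sieve hR x hx
    obtain ⟨u, hu⟩ := hl _ hSW
    exact ⟨W, hW, hxW, u, hu⟩
  · intro H U t ht
    refine exists_sieve_of_nhd (fun W hW => ∃ u : Sec S.X₁ W, app S.f W u = rs S.X₂ hW t) ?_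
      (fun x hx => H U t ht x hx)
    rintro W hW W' h' ⟨u, hu⟩
    refine ⟨rs S.X₁ h' u, ?_⟩
    rw [app_rs, hu, rs_rs]

/-- sections agreeing locally agree -/
theorem sec_ext_top (F : Mod O) {U : Opens X} {a b : Sec F U}
    (h : ∀ x ∈ U, ∃ (W : Opens X) (hW : W ≤ U), x ∈ W ∧ rs F hW a = rs F hW b) : a = b := by
  obtain ⟨S, hS, hl⟩ := exists_sieve_of_nhd (fun W hW => rs F hW a = rs F hW b)
    (fun W hW W' h' e => by
      have := congrArg (rs F h') e
      rwa [rs_rs, rs_rs] at this) h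
  exact sec_ext F hS (fun V g hg => hl g hg)

/-- finitely many local properties hold on a common neighbourhood -/
theorem common_nhd' {κ : Type*} [Finite κ] (x : X) (U : Opens X) (hxU : x ∈ U)
    (P : κ → ∀ W : Opens X, W ≤ U → Prop)
    (hP : ∀ k (W : Opens X) (hW : W ≤ U) (W' : Opens X) (h' : W' ≤ W), P k W hW → P k W' (h'.trans hW))
    (h : ∀ k, ∃ (W : Opens X) (hW : W ≤ U), x ∈ W ∧ P k W hW) :
    ∃ (W : Opens X) (hW : W ≤ U), x ∈ W ∧ ∀ k, P k W hW := by
  obtain ⟨V, hxV, hV⟩ := Groth.Agent.Lib.StalkFlatTop.common_nhd (X := X) x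
    (fun k W => ∃ hW : W ≤ U, P k W hW)
    (fun k V W hWV ⟨hV, hPV⟩ => ⟨hWV.trans hV, hP k V hV W hWV hPV⟩)
    (fun k => by
      obtain ⟨W, hW, hxW, hPW⟩ := h k
      exact ⟨W, hxW, hW, hPW⟩)
  by_cases hκ : Nonempty κ
  · obtain ⟨k₀⟩ := hκ
    obtain ⟨hVU, _⟩ := hV k₀
    exact ⟨V, hVU, hxV, fun k => (hV k).2⟩
  · exact ⟨U, le_refl U, hxU, fun k => (hκ ⟨k⟩).elim⟩

end Groth.Agent.Lib.RSp
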