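import Mathlib
import Groth.Prelude.Def_ModSite2
import Groth.Agent.Lib.RSpE_lead

/-!
# Direct image along a closed embedding and finite type (lead)
-/

set_option autoImplicit false
set_option linter.unusedSimpArgs false
set_option linter.unusedVariables false
set_option linter.unusedSectionVars false
set_option linter.style.longLine false
set_option linter.unnecessarySimpa false
set_option maxHeartbeats 1600000
set_option backward.isDefEq.respectTransparency false
set_option backward.isDefEq.respectTransparency.types false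
set_option backward.defeqAttrib.useBackward true

universe u

open CategoryTheory Limits Opposite ModSite TopologicalSpace

namespace Groth.Agent.Lib.RSp

open Groth.Agent.Lib.ModSiteH8 Groth.Agent.Lib.StalkFlatPt Groth.Agent.Lib.StalkFlatA

section Push

variable {C D : Type u} [SmallCategory C] [SmallCategory D] {J : GrothendieckTopology C}
  {K : GrothendieckTopology D} {O_C : Sheaf J CommRingCat.{u}} {O_D : Sheaf K CommRingCat.{u}}
  (f : RMor O_C O_D)

/-- sections of `f_* F` over `V` are sections of `F` over `f⁻¹ V` -/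
def ofPu (F : Mod O_C) (V : D) (m : Sec (f.push.obj F) V) : Sec F (f.fn.obj V) := m

/-- sections of `F` over `f⁻¹ V` as sections of `f_* F` over `V` -/
def toPu (F : Mod O_C) (V : D) (m : Sec F (f.fn.obj V)) : Sec (f.push.obj F) V := m

/-- the structure map on sections -/
noncomputable def shR (V : D) : O_D.obj.obj (op V) →+* O_C.obj.obj (op (f.fn.obj V)) :=
  (f.sharp.hom.app (op V)).hom

@[simp] lemma ofPu_toPu (F : Mod O_C) (V : D) (m : Sec F (f.fn.obj V)) :
    ofPu f F V (toPu f F V m) = m := rfl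
@[simp] lemma toPu_ofPu (F : Mod O_C) (V : D) (m : Sec (f.push.obj F) V) :
    toPu f F V (ofPu f F V m) = m := rfl

lemma ofPu_injective (F : Mod O_C) (V : D) : Function.Injective (ofPu f F V) := fun _ _ h => h

lemma ofPu_res (F : Mod O_C) {V W : D} (g : W ⟶ V) (m : Sec (f.push.obj F) V) :
    ofPu f F W (res (f.push.obj F) g m) = res F (f.fn.map g) (ofPu f F V m) := rfl

lemma ofPu_smul (F : Mod O_C) (V : D) (a : O_D.obj.obj (op V)) (m : Sec (f.push.obj F) V) :
    ofPu f F V (a • m) = shR f V a • ofPu f F V m := rfl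

lemma ofPu_add (F : Mod O_C) (V : D) (m m' : Sec (f.push.obj F) V) :
    ofPu f F V (m + m') = ofPu f F V m + ofPu f F V m' := rfl

lemma ofPu_zero (F : Mod O_C) (V : D) : ofPu f F V (0 : Sec (f.push.obj F) V) = 0 := rfl

lemma ofPu_sum (F : Mod O_C) (V : D) {ι : Type*} (s : Finset ι) (m : ι → Sec (f.push.obj F) V) :
    ofPu f F V (∑ i ∈ s, m i) = ∑ i ∈ s, ofPu f F V (m i) := by
  classical
  induction s using Finset.induction_on with
  | empty => simp [ofPu_zero]
  | insert a s ha ih => rw [Finset.sum_insert ha, Finset.sum_insert ha, ofPu_add, ih]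

end Push

section Top

variable {Z X : TopCat.{u}} (i : Z ⟶ X) {OZ : TopCat.Sheaf CommRingCat.{u} Z}
  {OX : TopCat.Sheaf CommRingCat.{u} X}
  (c : OX ⟶ ((Opens.map i).sheafPushforwardContinuous CommRingCat.{u}
      (Opens.grothendieckTopology X) (Opens.grothendieckTopology Z)).obj OZ)

/-- the morphism of ringed spaces -/
noncomputable abbrev pf : RMor OZ OX := RMor.ofFlat (Opens.map i) c

/-- inverse image of an open -/
abbrev pre (V : Opens X) : Opens Z := (Opens.map i).obj V

lemma preLE {W V : Opens X} (h : W ≤ V) : pre i W ≤ pre i V :=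
  leOfHom ((Opens.map i).map (homOfLE h))

lemma ofPu_rs (F : Mod OZ) {V W : Opens X} (h : W ≤ V) (m : Sec ((pf i c).push.obj F) V) :
    ofPu (pf i c) F W (rs ((pf i c).push.obj F) h m) = rs F (preLE i h) (ofPu (pf i c) F V m) :=
  rfl

lemma shR_rsR {V W : Opens X} (h : W ≤ V) (a : OX.obj.obj (op V)) :
    shR (pf i c) W (rsR h a) = rsR (preLE i h) (shR (pf i c) V a) := by
  have := c.hom.naturality (homOfLE h).op
  exact ConcreteCategory.congr_hom this a

lemma sec_eq_of_empty (F : Mod OZ) (U : Opens Z) (hU : ∀ z, z ∉ U) (a b : Sec F U) : a = b :=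
  sec_ext_top F (fun x hx => absurd hx (hU x))

lemma exists_pre_eq (hi : Topology.IsClosedEmbedding i) (U : Opens Z) :
    ∃ V : Opens X, pre i V = U := by
  obtain ⟨t, ht, hEq⟩ := hi.isInducing.isOpen_iff.1 U.isOpen
  exact ⟨⟨t, ht⟩, Opens.ext hEq⟩

theorem exists_lift_ring (hc : Sheaf.IsLocallySurjective c) {κ : Type*} [Finite κ] (WZ : Opens Z)
    (b : κ → OZ.obj.obj (op WZ)) (y : X) (W₀ : Opens X) (hy : y ∈ W₀) (h0 : pre i W₀ ≤ WZ) :
    ∃ (W : Opens X) (hW : W ≤ W₀), y ∈ W ∧ ∃ a : κ → OX.obj.obj (op W),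
      ∀ k, shR (pf i c) W (a k) = rsR ((preLE i hW).trans h0) (b k) := by
  obtain ⟨W, hW, hyW, h⟩ := common_nhd' (κ := κ) y W₀ hy
    (fun k W hW => ∃ a : OX.obj.obj (op W),
      shR (pf i c) W a = rsR ((preLE i hW).trans h0) (b k))
    (by
      rintro k W hW W' h' ⟨a, ha⟩
      refine ⟨rsR h' a, ?_⟩
      rw [shR_rsR, ha, rsR_rsR])
    (by
      intro k
      have hS := hc.imageSieve_mem (U := W₀) (rsR h0 (b k))
      obtain ⟨W, hW, hyW, a, ha⟩ := exists_nhd_of_sieve hS y hy
      refine ⟨W, hW, hyW, a, ?_⟩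
      have ha' : shR (pf i c) W a = rsR (preLE i hW) (rsR h0 (b k)) := ha
      rw [ha', rsR_rsR])
  choose a ha using h
  exact ⟨W, hW, hyW, a, ha⟩

/-- finite type along a closed embedding with surjective comorphism -/
theorem ft_push_iff (hi : Topology.IsClosedEmbedding i) (hc : Sheaf.IsLocallySurjective c)
    (F : Mod OZ) :
    SheafOfModules.IsFiniteType (R := ringSh OX) ((pf i c).push.obj F) ↔
      SheafOfModules.IsFiniteType (R := ringSh OZ) F := by
  classical
  rw [isFiniteType_iff_top, isFiniteType_iff_top]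
  constructor
  · intro hP z
    obtain ⟨V, hzV, ι, hι, S, hG⟩ := hP (i z)
    refine ⟨pre i V, hzV, ι, hι, fun k => ofPu (pf i c) F V (S k), ?_⟩
    intro U' hU' t z' hz'
    obtain ⟨V₁', hV₁'⟩ := exists_pre_eq i hi U'
    have h1 : pre i (V₁' ⊓ V) ≤ U' := le_of_le_of_eq (preLE i inf_le_left) hV₁'
    have hz1 : i z' ∈ V₁' ⊓ V := by
      refine ⟨?_, hU' hz'⟩
      show z' ∈ pre i V₁'
      rw [hV₁']
      exact hz'
    obtain ⟨W, hW, hzW, a, ha⟩ := hG (V₁' ⊓ V) inf_le_right
      (toPu (pf i c) F (V₁' ⊓ V) (rs F h1 t)) (i z') hz1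
    refine ⟨pre i W, (preLE i hW).trans h1, hzW, fun k => shR (pf i c) W (a k), ?_⟩
    have h2 := congrArg (ofPu (pf i c) F W) ha
    rw [ofPu_rs, ofPu_toPu, rs_rs, ofPu_sum] at h2
    rw [h2]
    refine Finset.sum_congr rfl (fun k _ => ?_)
    rw [ofPu_smul, ofPu_rs]
  · intro hF x
    by_cases hx : x ∈ Set.range i
    · obtain ⟨z, rfl⟩ := hx
      obtain ⟨U, hzU, ι, hι, s, hg⟩ := hF z
      obtain ⟨V, rfl⟩ := exists_pre_eq i hi U
      refine ⟨V, hzU, ι, hι, fun k => toPu (pf i c) F V (s k), ?_⟩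
      intro V' hV' t y hy
      by_cases hy' : y ∈ Set.range i
      · obtain ⟨z', rfl⟩ := hy'
        obtain ⟨WZ, hWZ, hz'W, b, hb⟩ :=
          hg (pre i V') (preLE i hV') (ofPu (pf i c) F V' t) z' hy
        obtain ⟨W₁', hW₁'⟩ := exists_pre_eq i hi WZ
        have h0 : pre i (W₁' ⊓ V') ≤ WZ := le_of_le_of_eq (preLE i inf_le_left) hW₁'
        have hy0 : i z' ∈ W₁' ⊓ V' := by
          refine ⟨?_, hy⟩
          show z' ∈ pre i W₁'
          rw [hW₁']
          exact hz'W
        obtain ⟨W, hW, hyW, a, ha⟩ := exists_lift_ring i c hc WZ b (i z') (W₁' ⊓ V') hy0 h0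
        refine ⟨W, hW.trans inf_le_right, hyW, a, ?_⟩
        apply ofPu_injective (pf i c) F W
        rw [ofPu_rs, ofPu_sum]
        have h3 := congrArg (rs F ((preLE i hW).trans h0)) hb
        rw [rs_rs, rs_sum] at h3
        rw [h3]
        refine Finset.sum_congr rfl (fun k _ => ?_)
        rw [ofPu_smul, ofPu_rs, ofPu_toPu, rs_smul, rs_rs, ha]
      · let Wc : Opens X := ⟨(Set.range i)ᶜ, hi.isClosed_range.isOpen_compl⟩
        refine ⟨V' ⊓ Wc, inf_le_left, ⟨hy, hy'⟩, fun _ => 0, ?_⟩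
        apply ofPu_injective (pf i c) F (V' ⊓ Wc)
        exact sec_eq_of_empty F (pre i (V' ⊓ Wc))
          (fun z (hz : i z ∈ V' ⊓ Wc) => hz.2 ⟨z, rfl⟩) _ _
    · let Wc : Opens X := ⟨(Set.range i)ᶜ, hi.isClosed_range.isOpen_compl⟩
      refine ⟨Wc, hx, PEmpty.{u + 1}, inferInstance, fun k => k.elim, ?_⟩
      intro V' hV' t y hy
      refine ⟨V', le_rfl, hy, fun k => k.elim, ?_⟩
      apply ofPu_injective (pf i c) F V'
      exact sec_eq_of_empty F (pre i V')
        (fun z (hz : i z ∈ V') => hV' hz ⟨z, rfl⟩) _ _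

end Top

end Groth.Agent.Lib.RSp
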