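import Mathlib
import Groth.Prelude.Def_ModSite2
import Groth.Agent.Lib.RSpE_lead

/-!
# Finite type modules on a ringed space: extensions, surjectivity near a point (lead)
-/

set_option autoImplicit false
set_option linter.unusedSimpArgs false
set_option linter.unusedVariables false
set_option linter.unusedSectionVars false
set_option linter.style.longLine false
set_option linter.unnecessarySimpa false
set_option maxHeartbeats 1600000
set_option backward.isDefEq.respectTransparency false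
set_option backward.isDefEq.respectTransparency.types false
set_option backward.defeqAttrib.useBackward true

universe u

open CategoryTheory Limits Opposite ModSite TopologicalSpace

namespace Groth.Agent.Lib.RSp

open Groth.Agent.Lib.ModSiteH8 Groth.Agent.Lib.StalkFlatPt Groth.Agent.Lib.StalkFlatA
open Groth.Agent.Lib.FreeFactor

variable {X : TopCat.{u}} {O : TopCat.Sheaf CommRingCat.{u} X}

/-- an extension of finite type modules is of finite type -/
theorem ft_of_shortExact (S : ShortComplex (Mod O)) (hS : S.ShortExact)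
    (h1 : SheafOfModules.IsFiniteType (R := ringSh O) S.X₁)
    (h3 : SheafOfModules.IsFiniteType (R := ringSh O) S.X₃) :
    SheafOfModules.IsFiniteType (R := ringSh O) S.X₂ := by
  classical
  rw [isFiniteType_iff_top] at h1 h3 ⊢
  intro x
  obtain ⟨U₁, hx1, ι₁, _, s₁, g₁⟩ := h1 x
  obtain ⟨U₃, hx3, ι₃, _, s₃, g₃⟩ := h3 x
  haveI := hS.epi_g
  have hepi := (epi_iff_top S.g).1 inferInstance
  have hex := (exact_iff_top S).1 hS.exact
  obtain ⟨W, hW, hxW, hlift⟩ := common_nhd' (κ := ι₃) x (U₁ ⊓ U₃) ⟨hx1, hx3⟩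
    (fun j W hW => ∃ b : Sec S.X₂ W, app S.g W b = rs S.X₃ (hW.trans inf_le_right) (s₃ j))
    (by
      rintro j W hW W' h' ⟨b, hb⟩
      refine ⟨rs S.X₂ h' b, ?_⟩
      rw [app_rs, hb, rs_rs])
    (fun j => by
      obtain ⟨W, hW, hxW, u, hu⟩ := hepi (U₁ ⊓ U₃) (rs S.X₃ inf_le_right (s₃ j)) x ⟨hx1, hx3⟩
      refine ⟨W, hW, hxW, u, ?_⟩
      rw [hu, rs_rs])
  choose b hb using hlift
  have hW1 : W ≤ U₁ := hW.trans inf_le_left
  have hW3 : W ≤ U₃ := hW.trans inf_le_right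
  refine ⟨W, hxW, ι₁ ⊕ ι₃, inferInstance,
    Sum.elim (fun i => app S.f W (rs S.X₁ hW1 (s₁ i))) b, ?_⟩
  intro V hV t y hy
  obtain ⟨W₁, hW₁, hy1, γ, hγ⟩ := g₃ V (hV.trans hW3) (app S.g V t) y hy
  obtain ⟨t', ht'⟩ : ∃ t' : Sec S.X₂ W₁,
      t' = rs S.X₂ hW₁ t - ∑ j, γ j • rs S.X₂ (hW₁.trans hV) (b j) := ⟨_, rfl⟩
  have h0 : app S.g W₁ t' = 0 := by
    rw [ht', map_sub, app_rs, hγ, map_sum, sub_eq_zero]
    refine Finset.sum_congr rfl (fun j _ => ?_)
    rw [app_smul, app_rs, hb, rs_rs]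
  obtain ⟨W₂, hW₂, hy2, u, hu⟩ := hex W₁ t' h0 y hy1
  obtain ⟨W₃, hW₃, hy3, α, hα⟩ := g₁ W₂ (hW₂.trans (hW₁.trans (hV.trans hW1))) u y hy2
  refine ⟨W₃, hW₃.trans (hW₂.trans hW₁), hy3,
    Sum.elim α (fun j => rsR (hW₃.trans hW₂) (γ j)), ?_⟩
  rw [Fintype.sum_sum_type]
  simp only [Sum.elim_inl, Sum.elim_inr]
  have e1 : rs S.X₂ (hW₃.trans (hW₂.trans hW₁)) t = rs S.X₂ (hW₃.trans hW₂) t' +
      ∑ j, rsR (hW₃.trans hW₂) (γ j) • rs S.X₂ ((hW₃.trans (hW₂.trans hW₁)).trans hV) (b j) := by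
    rw [ht', map_sub, rs_rs, rs_sum]
    have e3 : ∀ j, rs S.X₂ (hW₃.trans hW₂) (γ j • rs S.X₂ (hW₁.trans hV) (b j)) =
        rsR (hW₃.trans hW₂) (γ j) • rs S.X₂ ((hW₃.trans (hW₂.trans hW₁)).trans hV) (b j) :=
      fun j => by rw [rs_smul, rs_rs]
    simp only [e3]
    abel
  rw [e1]
  congr 1
  have e2 : rs S.X₂ (hW₃.trans hW₂) t' = app S.f W₃ (rs S.X₁ hW₃ u) := by
    rw [app_rs, hu, rs_rs]
  rw [e2, hα, map_sum]
  refine Finset.sum_congr rfl (fun i _ => ?_)
  rw [app_smul, ← app_rs, rs_rs]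

/-! ### the point of the site of opens -/

/-- a neighbourhood of `x` as an element of the fibre functor -/
def elt (x : X) (U : Opens X) (h : x ∈ U) : (Opens.pointGrothendieckTopology x).fiber.Elements :=
  ⟨U, ⟨⟨h⟩⟩⟩

lemma mem_of_elt (x : X) (e : (Opens.pointGrothendieckTopology x).fiber.Elements) : x ∈ e.1 :=
  e.2.down.down

/-- surjectivity on the stalk at `x` of a map to a finite type module spreads out -/
theorem exists_epi_restr_of_stalk_surj {G F : Mod O} (φ : G ⟶ F)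
    (hF : SheafOfModules.IsFiniteType (R := ringSh O) F) (x : X)
    (hx : Function.Surjective (stalkMapLin (Opens.pointGrothendieckTopology x) φ)) :
    ∃ U : Opens X, x ∈ U ∧ Epi ((restr O U).map φ) := by
  classical
  set p := Opens.pointGrothendieckTopology x with hp
  rw [isFiniteType_iff_top] at hF
  obtain ⟨U, hxU, ι, _, s, hs⟩ := hF x
  rw [← genOn_iff_genAt] at hs
  let eU : p.fiber.Elements := elt x U hxU
  choose γ hγ using fun i => hx (gM p F eU (s i))
  obtain ⟨e, g, hg⟩ := exists_lift_family p G γ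
  let e₁ := IsCofiltered.min e eU
  let a : e₁ ⟶ e := IsCofiltered.minToLeft e eU
  let b : e₁ ⟶ eU := IsCofiltered.minToRight e eU
  obtain ⟨e₂, c, hc⟩ := exists_nhd_zero_family p F e₁
    (fun i => app φ e₁.1 (res G a.1 (g i)) - res F b.1 (s i)) (fun i => by
      rw [map_sub, sub_eq_zero, gM_res]
      have h1 := stalkMapLin_gM p φ e₁ (res G a.1 (g i))
      rw [gM_res, hg, hγ] at h1
      exact h1.symm)
  refine ⟨e₂.1, mem_of_elt x e₂, ?_⟩
  have key : ∀ i, app φ e₂.1 (res G (c.1 ≫ a.1) (g i)) = res F (c.1 ≫ b.1) (s i) := by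
    intro i
    have h2 := hc i
    rw [map_sub, sub_eq_zero, ← app_res, res_res, res_res] at h2
    exact h2
  rw [restr_epi_iff]
  intro V k t
  obtain ⟨S, hS, hl⟩ := hs (k ≫ c.1 ≫ b.1) t
  refine ⟨S, hS, fun W h hh => ?_⟩
  obtain ⟨α, hα⟩ := hl h hh
  refine ⟨∑ i, α i • res G (h ≫ k) (res G (c.1 ≫ a.1) (g i)), ?_⟩
  rw [map_sum, hα]
  refine Finset.sum_congr rfl (fun i _ => ?_)
  rw [app_smul, app_res, key, res_res, Category.assoc]
  rfl

end Groth.Agent.Lib.RSp
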