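import Mathlib
import Groth.Prelude.Def_ModSite2
import Groth.Agent.Lib.RSpF_lead

/-!
# Locally free modules of the same rank: epi implies iso (lead)
-/

set_option autoImplicit false
set_option linter.unusedSimpArgs false
set_option linter.unusedVariables false
set_option linter.unusedSectionVars false
set_option linter.style.longLine false
set_option linter.unnecessarySimpa false
set_option maxHeartbeats 1600000
set_option backward.isDefEq.respectTransparency false
set_option backward.isDefEq.respectTransparency.types false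
set_option backward.defeqAttrib.useBackward true

universe u

open CategoryTheory Limits Opposite ModSite TopologicalSpace

namespace Groth.Agent.Lib.RSp

open Groth.Agent.Lib.ModSiteH8 Groth.Agent.Lib.StalkFlatPt Groth.Agent.Lib.StalkFlatA
open Groth.Agent.Lib.FreeFactor

variable {X : TopCat.{u}} {O : TopCat.Sheaf CommRingCat.{u} X}

/-- pointwise independence -/
def IndepAt (F : Mod O) (U : Opens X) {ι : Type*} [Fintype ι] (s : ι → Sec F U) : Prop :=
  ∀ (V : Opens X) (hV : V ≤ U) (a : ι → O.obj.obj (op V)),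
    ∑ i, a i • rs F hV (s i) = 0 → ∀ i, a i = 0

theorem indepOn_iff_indepAt (F : Mod O) (U : Opens X) {ι : Type*} [Fintype ι] (s : ι → Sec F U) :
    IndepOn F U s ↔ IndepAt F U s :=
  ⟨fun H V hV => H (homOfLE hV), fun H V g => H V (leOfHom g)⟩

lemma IndepAt.restrict {F : Mod O} {U : Opens X} {ι : Type*} [Fintype ι] {s : ι → Sec F U}
    (h : IndepAt F U s) {U' : Opens X} (hU' : U' ≤ U) : IndepAt F U' (fun i => rs F hU' (s i)) := by
  intro V hV a ha
  refine h V (hV.trans hU') a ?_
  rw [← ha]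
  exact Finset.sum_congr rfl (fun i _ => by rw [rs_rs])

theorem restr_iso_free_iff_top (F : Mod O) (U : Opens X) (ι : Type u) [Fintype ι] [DecidableEq ι] :
    Nonempty ((restr O U).obj F ≅ SheafOfModules.free (R := ringSh (O.over U)) ι) ↔
      ∃ s : ι → Sec F U, GenAt F U s ∧ IndepAt F U s := by
  rw [restr_iso_free_iff]
  constructor
  · rintro ⟨s, h1, h2⟩
    exact ⟨s, (genOn_iff_genAt F U s).1 h1, (indepOn_iff_indepAt F U s).1 h2⟩
  · rintro ⟨s, h1, h2⟩
    exact ⟨s, (genOn_iff_genAt F U s).2 h1, (indepOn_iff_indepAt F U s).2 h2⟩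

section Matrix

variable {ι : Type u} [Fintype ι] [DecidableEq ι]

/-- local injectivity from a one-sided invertible matrix -/
theorem inj_of_matrix {F G : Mod O} (φ : F ⟶ G) (W : Opens X) (S : ι → Sec F W) (S' : ι → Sec G W)
    (hS : GenAt F W S) (hS' : IndepAt G W S')
    (A B : Matrix ι ι (O.obj.obj (op W)))
    (hA : ∀ i, app φ W (S i) = ∑ j, A i j • S' j) (hAB : A * B = 1)
    (V : Opens X) (hV : V ≤ W) (m : Sec F V) (hm : app φ V m = 0) : m = 0 := by
  apply sec_ext_top F
  intro y hy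
  obtain ⟨W₃, hW₃, hy3, a, ha⟩ := hS V hV m y hy
  refine ⟨W₃, hW₃, hy3, ?_⟩
  rw [map_zero, ha]
  have hW : W₃ ≤ W := hW₃.trans hV
  -- the relation among the S'
  have h1 : ∑ j, (∑ i, a i * rsR hW (A i j)) • rs G hW (S' j) = 0 := by
    have h2 : app φ W₃ (rs F hW₃ m) = 0 := by rw [app_rs, hm, map_zero]
    rw [ha, map_sum] at h2
    rw [← h2]
    have h3 : ∀ i, app φ W₃ (a i • rs F hW (S i)) =
        ∑ j, (a i * rsR hW (A i j)) • rs G hW (S' j) := by
      intro i
      rw [app_smul, app_rs, hA, rs_sum, Finset.smul_sum]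
      refine Finset.sum_congr rfl (fun j _ => ?_)
      rw [rs_smul, mul_smul]
    simp only [h3]
    rw [Finset.sum_comm]
    refine Finset.sum_congr rfl (fun j _ => ?_)
    rw [Finset.sum_smul]
  have h4 := hS' W₃ hW _ h1
  -- a = a A'' B'' = 0
  have h5 : Matrix.vecMul a ((A.map (rsR hW)) * (B.map (rsR hW))) = a := by
    rw [← Matrix.map_mul, hAB, Matrix.map_one _ (map_zero _) (map_one _), Matrix.vecMul_one]
  have h6 : Matrix.vecMul a (A.map (rsR hW)) = 0 := by
    funext j
    exact h4 j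
  rw [← Matrix.vecMul_vecMul, h6, Matrix.zero_vecMul] at h5
  refine Finset.sum_eq_zero (fun i _ => ?_)
  rw [← h5]
  simp

/-- for an epimorphism between free modules of the same rank near `x`, the matrices exist -/
theorem exists_matrix {F G : Mod O} (φ : F ⟶ G) [Epi φ] (x : X) (U₀ : Opens X) (hx : x ∈ U₀)
    (s : ι → Sec F U₀) (s' : ι → Sec G U₀)
    (hs : GenAt F U₀ s) (hs' : GenAt G U₀ s') (hi' : IndepAt G U₀ s') :
    ∃ (W : Opens X) (hW : W ≤ U₀), x ∈ W ∧ ∃ A B : Matrix ι ι (O.obj.obj (op W)),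
      (∀ i, app φ W (rs F hW (s i)) = ∑ j, A i j • rs G hW (s' j)) ∧ A * B = 1 := by
  have hepi := (epi_iff_top φ).1 inferInstance
  -- step 1: the matrix A
  obtain ⟨W₁, hW₁, hx1, hA⟩ := common_nhd' (κ := ι) x U₀ hx
    (fun i W hW => ∃ a : ι → O.obj.obj (op W),
      app φ W (rs F hW (s i)) = ∑ j, a j • rs G hW (s' j))
    (by
      rintro i W hW W' h' ⟨a, ha⟩
      refine ⟨fun j => rsR h' (a j), ?_⟩
      have := congrArg (rs G h') ha
      rw [← app_rs, rs_rs, rs_sum] at this
      refine this.trans (Finset.sum_congr rfl (fun j _ => ?_))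
      rw [rs_smul, rs_rs])
    (fun i => by
      obtain ⟨W, hW, hxW, a, ha⟩ := hs' U₀ (le_refl _) (app φ U₀ (s i)) x hx
      refine ⟨W, hW, hxW, a, ?_⟩
      rw [app_rs, ha])
  choose A hA using hA
  -- step 2: the matrix B
  obtain ⟨W₂, hW₂, hx2, hB⟩ := common_nhd' (κ := ι) x W₁ hx1
    (fun j W hW => ∃ b : ι → O.obj.obj (op W),
      rs G (hW.trans hW₁) (s' j) = app φ W (∑ i, b i • rs F (hW.trans hW₁) (s i)))
    (by
      rintro j W hW W' h' ⟨b, hb⟩
      refine ⟨fun i => rsR h' (b i), ?_⟩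
      have := congrArg (rs G h') hb
      rw [rs_rs, ← app_rs, rs_sum] at this
      refine this.trans (congrArg _ (Finset.sum_congr rfl (fun i _ => ?_)))
      rw [rs_smul, rs_rs])
    (fun j => by
      obtain ⟨W, hW, hxW, u, hu⟩ := hepi W₁ (rs G hW₁ (s' j)) x hx1
      obtain ⟨W', hW', hxW', b, hb⟩ := hs W (hW.trans hW₁) u x hxW
      refine ⟨W', hW'.trans hW, hxW', b, ?_⟩
      rw [← hb, app_rs, hu, rs_rs, rs_rs])
  choose B hB using hB
  have hW : W₂ ≤ U₀ := hW₂.trans hW₁
  refine ⟨W₂, hW, hx2, Matrix.of (fun i j => rsR hW₂ (A i j)), Matrix.of B, ?_, ?_⟩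
  · intro i
    have := congrArg (rs G hW₂) (hA i)
    rw [← app_rs, rs_rs, rs_sum] at this
    refine this.trans (Finset.sum_congr rfl (fun j _ => ?_))
    rw [rs_smul, rs_rs]
    rfl
  · rw [_root_.mul_eq_one_comm]
    -- B * A' = 1 by independence
    have hrel : ∀ j, ∑ k, ((if j = k then 1 else 0) - ∑ i, B j i * rsR hW₂ (A i k)) •
        rs G hW (s' k) = 0 := by
      intro j
      have h1 : rs G hW (s' j) = ∑ k, (∑ i, B j i * rsR hW₂ (A i k)) • rs G hW (s' k) := by
        rw [hB j, map_sum]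
        have h3 : ∀ i, app φ W₂ (B j i • rs F hW (s i)) =
            ∑ k, (B j i * rsR hW₂ (A i k)) • rs G hW (s' k) := by
          intro i
          have h4 := congrArg (rs G hW₂) (hA i)
          rw [← app_rs, rs_rs, rs_sum] at h4
          rw [app_smul, h4, Finset.smul_sum]
          refine Finset.sum_congr rfl (fun k _ => ?_)
          rw [rs_smul, rs_rs, mul_smul]
        simp only [h3]
        rw [Finset.sum_comm]
        refine Finset.sum_congr rfl (fun k _ => ?_)
        rw [Finset.sum_smul]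
      simp only [sub_smul, Finset.sum_sub_distrib]
      rw [← h1, sub_eq_zero]
      rw [Finset.sum_eq_single j]
      · rw [if_pos rfl, one_smul]
      · intro k _ hk
        rw [if_neg (Ne.symm hk), zero_smul]
      · intro h
        exact absurd (Finset.mem_univ j) h
    ext j k
    have h5 := hi' W₂ hW _ (hrel j) k
    rw [Matrix.mul_apply, Matrix.one_apply]
    have h6 := sub_eq_zero.1 h5
    exact h6.symm

end Matrix

/-- a surjection between finite locally free modules of the same rank is an isomorphism -/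
theorem isIso_of_epi_of_locFree (r : ℕ) {F G : Mod O}
    (hF : ∀ x : X, ∃ U : Opens X, x ∈ U ∧
      Nonempty ((restr O U).obj F ≅ SheafOfModules.free (R := ringSh (O.over U)) (ULift.{u} (Fin r))))
    (hG : ∀ x : X, ∃ U : Opens X, x ∈ U ∧
      Nonempty ((restr O U).obj G ≅ SheafOfModules.free (R := ringSh (O.over U)) (ULift.{u} (Fin r))))
    (φ : F ⟶ G) [Epi φ] : IsIso φ := by
  classical
  haveI : Mono φ := by
    rw [mono_iff]
    intro V
    rw [injective_iff_map_eq_zero]
    intro m hm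
    apply sec_ext_top F
    intro x hxV
    obtain ⟨U, hxU, hU⟩ := hF x
    obtain ⟨U', hxU', hU'⟩ := hG x
    obtain ⟨s, hs1, hs2⟩ := (restr_iso_free_iff_top F U _).1 hU
    obtain ⟨s', hs1', hs2'⟩ := (restr_iso_free_iff_top G U' _).1 hU'
    have h1 : V ⊓ U ⊓ U' ≤ U := inf_le_left.trans inf_le_right
    have h2 : V ⊓ U ⊓ U' ≤ U' := inf_le_right
    have h3 : V ⊓ U ⊓ U' ≤ V := inf_le_left.trans inf_le_left
    obtain ⟨W, hW, hxW, A, B, hA, hAB⟩ := exists_matrix φ x (V ⊓ U ⊓ U') ⟨⟨hxV, hxU⟩, hxU'⟩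
      (fun i => rs F h1 (s i)) (fun i => rs G h2 (s' i)) (hs1.restrict h1) (hs1'.restrict h2)
      (hs2'.restrict h2)
    refine ⟨W, hW.trans h3, hxW, ?_⟩
    rw [map_zero]
    refine inj_of_matrix φ W _ _ ((hs1.restrict h1).restrict hW) ((hs2'.restrict h2).restrict hW)
      A B hA hAB W (le_refl W) _ ?_
    rw [app_rs, hm, map_zero]
  exact isIso_of_mono_of_epi φ

end Groth.Agent.Lib.RSp
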