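import Mathlib
import Groth.Prelude.Def_ModSite2
import Groth.Agent.Lib.RSpD_lead

/-!
# Finite presentation on a small ringed site, elementwise (lead)
-/

set_option autoImplicit false
set_option linter.unusedSimpArgs false
set_option linter.unusedVariables false
set_option linter.unusedSectionVars false
set_option linter.style.longLine false
set_option linter.unnecessarySimpa false
set_option maxHeartbeats 1600000
set_option backward.isDefEq.respectTransparency false
set_option backward.isDefEq.respectTransparency.types false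
set_option backward.defeqAttrib.useBackward true

universe u

open CategoryTheory Limits Opposite ModSite

namespace Groth.Agent.Lib.RSp

open Groth.Agent.Lib.ModSiteH8 Groth.Agent.Lib.StalkFlatPt Groth.Agent.Lib.StalkFlatA
open Groth.Agent.Lib.FreeFactor

variable {C : Type u} [SmallCategory C] {J : GrothendieckTopology C} {O : Sheaf J CommRingCat.{u}}

/-- `s` generate `F` over `U` with relations generated by `r` -/
structure PresOn (F : Mod O) (U : C) {ι κ : Type*} [Fintype ι] [Fintype κ] (s : ι → Sec F U)
    (r : κ → ι → O.obj.obj (op U)) : Prop where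
  gen : GenOn F U s
  rel : ∀ k, ∑ i, r k i • s i = 0
  relGen : ∀ ⦃V : C⦄ (g : V ⟶ U) (a : ι → O.obj.obj (op V)), ∑ i, a i • res F g (s i) = 0 →
    ∃ S ∈ J V, ∀ ⦃W : C⦄ (h : W ⟶ V), S h →
      ∃ c : κ → O.obj.obj (op W), ∀ i, resR h (a i) = ∑ k, c k * resR (h ≫ g) (r k i)

/-- `F` has a finite presentation over `U` -/
def LocPres (F : Mod O) (U : C) : Prop :=
  ∃ (ι κ : Type u) (_ : Fintype ι) (_ : Fintype κ) (s : ι → Sec F U)
    (r : κ → ι → O.obj.obj (op U)), PresOn F U s r

section Slice

variable (F : Mod O) (U : C) (ι κ : Type u) [Fintype ι] [DecidableEq ι] [Fintype κ] [DecidableEq κ]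

/-- the matrix of a morphism between finite free modules on the slice -/
noncomputable def matOf (R : fr (O := O.over U) κ ⟶ fr (O := O.over U) ι) (k : κ) (i : ι) :
    O.obj.obj (op U) :=
  evR (inj κ k ≫ R ≫ pr ι i)

/-- coordinates of the image of a section under a morphism of finite free modules on the slice -/
lemma co_app_fr (R : fr (O := O.over U) κ ⟶ fr (O := O.over U) ι) (Z : Over U)
    (v : Sec (fr (O := O.over U) κ) Z) (i : ι) :
    ofSlR U Z (co ι i Z (app R Z v)) =
      ∑ k, ofSlR U Z (co κ k Z v) * resR Z.hom (matOf U ι κ R k i) := by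
  have h1 : co ι i Z (app R Z v) = ofU Z (app (R ≫ pr ι i) Z v) := rfl
  rw [h1, app_fr, ofU_sum, ofSlR_sum]
  refine Finset.sum_congr rfl (fun k _ => ?_)
  rw [ofU_smul, ofSlR_mul, at1_sliceR]
  rfl

lemma rel_of_comp_eq_zero (R : fr (O := O.over U) κ ⟶ fr (O := O.over U) ι)
    (f : fr (O := O.over U) ι ⟶ (restr O U).obj F) (w : R ≫ f = 0) (k : κ) :
    ∑ i, matOf U ι κ R k i • secsOf F U ι f i = 0 := by
  have h0 : ∑ i, (inj κ k ≫ R ≫ pr ι i) ≫ (inj ι i ≫ f) = 0 := by
    have h1 : ∑ i, (inj κ k ≫ R ≫ pr ι i) ≫ (inj ι i ≫ f) =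
        inj κ k ≫ R ≫ (∑ i, pr ι i ≫ inj ι i) ≫ f := by
      simp only [Preadditive.comp_sum, Preadditive.sum_comp, Category.assoc]
    rw [h1, sum_pr_inj, Category.id_comp, w, comp_zero]
  rw [← evH_zero F (W := U), ← h0, evH_sum]
  exact Finset.sum_congr rfl (fun i _ => (evH_comp_smul F _ _).symm)

/-- a presentation on the slice gives presentation data -/
theorem presOn_of_exact (R : fr (O := O.over U) κ ⟶ fr (O := O.over U) ι)
    (f : fr (O := O.over U) ι ⟶ (restr O U).obj F) (w : R ≫ f = 0) [Epi f]
    (hex : (ShortComplex.mk R f w).Exact) :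
    PresOn F U (secsOf F U ι f) (matOf U ι κ R) := by
  refine ⟨(fr_epi_iff F U ι f).1 inferInstance, rel_of_comp_eq_zero F U ι κ R f w, ?_⟩
  intro V g a ha
  let Z : Over U := Over.mk g
  have hm : app f Z (∑ i, toSlR U Z (a i) • bas ι i Z) = 0 := by
    apply ofSl_injective
    rw [ofSl_app_fr, ofSl_zero, ← ha]
    refine Finset.sum_congr rfl (fun i _ => ?_)
    rw [co_comb, ofSlR_toSlR]
    rfl
  obtain ⟨S, hS, hl⟩ := (exact_iff (ShortComplex.mk R f w)).1 hex Z _ hm
  refine ⟨Sieve.overEquiv Z S, (J.mem_over_iff S).1 hS, fun W h hh => ?_⟩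
  rw [Sieve.overEquiv_iff] at hh
  obtain ⟨v, hv⟩ := hl _ hh
  refine ⟨fun k => ofSlR U _ (co κ k _ v), fun i => ?_⟩
  have h2 := congrArg (fun t => ofSlR U _ (co ι i _ t)) hv
  dsimp only at h2
  rw [co_app_fr, co_res, co_comb] at h2
  exact h2.symm

variable {F U ι κ}

/-- presentation data gives an exact sequence on the slice -/
theorem exists_exact_of_presOn {s : ι → Sec F U} {r : κ → ι → O.obj.obj (op U)}
    (h : PresOn F U s r) :
    ∃ (R : fr (O := O.over U) κ ⟶ fr (O := O.over U) ι)
      (f : fr (O := O.over U) ι ⟶ (restr O U).obj F) (w : R ≫ f = 0),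
      Epi f ∧ (ShortComplex.mk R f w).Exact := by
  obtain ⟨f, hf⟩ := exists_fr_hom F U ι s
  choose α hα using fun (k : κ) (i : ι) => evR_surjective (O := O) (W := U) (r k i)
  let R : fr (O := O.over U) κ ⟶ fr (O := O.over U) ι :=
    frDesc κ (fun k => ∑ i, α k i ≫ inj ι i)
  have hmat : ∀ k i, matOf U ι κ R k i = r k i := by
    intro k i
    unfold matOf
    have h1 : inj κ k ≫ R ≫ pr ι i = α k i := by
      rw [← Category.assoc, inj_frDesc, Preadditive.sum_comp]
      rw [Finset.sum_eq_single i]
      · rw [Category.assoc, inj_pr, if_pos rfl, Category.comp_id]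
      · intro j _ hj
        rw [Category.assoc, inj_pr, if_neg hj, comp_zero]
      · intro h
        exact absurd (Finset.mem_univ i) h
    rw [h1, hα]
  have w : R ≫ f = 0 := by
    apply fr_hom_ext κ
    intro k
    rw [comp_zero, ← Category.assoc, inj_frDesc, Preadditive.sum_comp]
    apply evH_injective F
    rw [evH_zero, evH_sum, ← h.rel k]
    refine Finset.sum_congr rfl (fun i _ => ?_)
    rw [Category.assoc, evH_comp_smul, hα]
    have := congrFun hf i
    unfold secsOf at this
    rw [this]
  have hepi : Epi f := (fr_epi_iff F U ι f).2 (by rw [hf]; exact h.gen)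
  refine ⟨R, f, w, hepi, ?_⟩
  rw [exact_iff]
  intro Z m hm
  change app f Z m = 0 at hm
  have ha : ∑ i, ofSlR U Z (co ι i Z m) • res F Z.hom (s i) = 0 := by
    have h1 := congrArg (ofSl F U Z) hm
    rw [ofSl_app_fr, ofSl_zero, hf] at h1
    exact h1
  obtain ⟨S₀, hS₀, hl⟩ := h.relGen Z.hom (fun i => ofSlR U Z (co ι i Z m)) ha
  refine ⟨(Sieve.overEquiv Z).symm S₀, J.overEquiv_symm_mem_over Z S₀ hS₀, fun Z' kk hk => ?_⟩
  rw [Sieve.overEquiv_symm_iff] at hk
  obtain ⟨c, hc⟩ := hl kk.left hk
  refine ⟨∑ k, toSlR U Z' (c k) • bas κ k Z', ?_⟩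
  change app R Z' _ = res (fr (O := O.over U) ι) kk m
  apply sec_ext_co ι Z'
  intro i
  have h3 : ofSlR U Z' (co ι i Z' (app R Z' (∑ k, toSlR U Z' (c k) • bas κ k Z'))) =
      ofSlR U Z' (co ι i Z' (res (fr (O := O.over U) ι) kk m)) := by
    rw [co_app_fr, co_res, ofSlR_resR, hc i]
    refine Finset.sum_congr rfl (fun k _ => ?_)
    rw [co_comb, ofSlR_toSlR, hmat, Over.w kk]
  exact h3

end Slice

/-- finite presentation, elementwise -/
theorem isFinitePresentation_iff (F : Mod O) :
    SheafOfModules.IsFinitePresentation (R := ringSh O) F ↔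
      ∃ (I : Type u) (X : I → C), J.CoversTop X ∧ ∀ i, LocPres F (X i) := by
  classical
  constructor
  · rintro ⟨σ, hσ⟩
    refine ⟨σ.I, σ.X, σ.coversTop, fun i => ?_⟩
    haveI := hσ.isFinite_presentation i
    haveI : Finite (σ.presentation i).generators.I :=
      SheafOfModules.GeneratingSections.IsFiniteType.finite
    haveI : Finite (σ.presentation i).relations.I :=
      SheafOfModules.GeneratingSections.IsFiniteType.finite
    haveI : Fintype (σ.presentation i).generators.I := Fintype.ofFinite _
    haveI : Fintype (σ.presentation i).relations.I := Fintype.ofFinite _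
    let P := σ.presentation i
    let f : fr (O := O.over (σ.X i)) P.generators.I ⟶ (restr O (σ.X i)).obj F := P.generators.π
    let R : fr (O := O.over (σ.X i)) P.relations.I ⟶ fr (O := O.over (σ.X i)) P.generators.I :=
      (SheafOfModules.freeHomEquiv _).symm P.relations.s ≫ kernel.ι _
    have w : R ≫ f = 0 := by simp [R, f]
    have hcok : IsColimit (CokernelCofork.ofπ f w) := P.isColimit
    haveI : Epi f := P.generators.epi
    have hex : (ShortComplex.mk R f w).Exact := ShortComplex.exact_of_g_is_cokernel _ hcok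
    exact ⟨_, _, inferInstance, inferInstance, _, _,
      presOn_of_exact F (σ.X i) P.generators.I P.relations.I R f w hex⟩
  · rintro ⟨I, X, hX, h⟩
    choose ι κ hι hκ s r hs using h
    have key : ∀ i, ∃ P : ((restr O (X i)).obj F).Presentation, P.IsFinite := by
      intro i
      obtain ⟨R, f, w, hepi, hex⟩ := exists_exact_of_presOn (hs i)
      haveI := hepi
      have hcok : IsColimit (CokernelCofork.ofπ f w) := hex.gIsCokernel
      refine ⟨SheafOfModules.presentationOfIsCokernelFree R f w hcok, ?_⟩
      constructor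
      · constructor
        exact Finite.of_fintype (ι i)
      · constructor
        exact Finite.of_fintype (κ i)
    choose P hP using key
    let σ : SheafOfModules.QuasicoherentData.{u} (R := ringSh O) F :=
      { I := I
        X := X
        coversTop := hX
        presentation := P }
    have hσ : σ.IsFinitePresentation := by
      constructor
      intro i
      exact hP i
    constructor
    exact ⟨σ, hσ⟩

end Groth.Agent.Lib.RSp
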