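import Mathlib
import Groth.Prelude.Def_ModSite2
import Groth.Agent.Lib.RSpG_lead
import Groth.Agent.Lib.RSpH_lead

/-!
# Finite presentation on a ringed space, pointwise (lead)
-/

set_option autoImplicit false
set_option linter.unusedSimpArgs false
set_option linter.unusedVariables false
set_option linter.unusedSectionVars false
set_option linter.style.longLine false
set_option linter.unnecessarySimpa false
set_option maxHeartbeats 1600000
set_option backward.isDefEq.respectTransparency false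
set_option backward.isDefEq.respectTransparency.types false
set_option backward.defeqAttrib.useBackward true

universe u

open CategoryTheory Limits Opposite ModSite TopologicalSpace

namespace Groth.Agent.Lib.RSp

open Groth.Agent.Lib.ModSiteH8 Groth.Agent.Lib.StalkFlatPt Groth.Agent.Lib.StalkFlatA
open Groth.Agent.Lib.FreeFactor

variable {X : TopCat.{u}} {O : TopCat.Sheaf CommRingCat.{u} X}

/-- pointwise presentation data -/
structure PresAt (F : Mod O) (U : Opens X) {ι κ : Type*} [Fintype ι] [Fintype κ]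
    (s : ι → Sec F U) (r : κ → ι → O.obj.obj (op U)) : Prop where
  gen : GenAt F U s
  rel : ∀ k, ∑ i, r k i • s i = 0
  relGen : ∀ (V : Opens X) (hV : V ≤ U) (a : ι → O.obj.obj (op V)),
    ∑ i, a i • rs F hV (s i) = 0 → ∀ x ∈ V, ∃ (W : Opens X) (hW : W ≤ V), x ∈ W ∧
      ∃ c : κ → O.obj.obj (op W), ∀ i, rsR hW (a i) = ∑ k, c k * rsR (hW.trans hV) (r k i)

theorem presOn_iff_presAt (F : Mod O) (U : Opens X) {ι κ : Type*} [Fintype ι] [Fintype κ]
    (s : ι → Sec F U) (r : κ → ι → O.obj.obj (op U)) : PresOn F U s r ↔ PresAt F U s r := by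
  constructor
  · rintro ⟨h1, h2, h3⟩
    refine ⟨(genOn_iff_genAt F U s).1 h1, h2, fun V hV a ha x hx => ?_⟩
    obtain ⟨S, hS, hl⟩ := h3 (homOfLE hV) a ha
    obtain ⟨W, hW, hxW, hSW⟩ := exists_nhd_of_sieve hS x hx
    obtain ⟨c, hc⟩ := hl _ hSW
    exact ⟨W, hW, hxW, c, hc⟩
  · rintro ⟨h1, h2, h3⟩
    refine ⟨(genOn_iff_genAt F U s).2 h1, h2, fun V g a ha => ?_⟩
    refine exists_sieve_of_nhd
      (fun W hW => ∃ c : κ → O.obj.obj (op W),
        ∀ i, rsR hW (a i) = ∑ k, c k * rsR (hW.trans (leOfHom g)) (r k i))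
      ?_ (fun x hx => h3 V (leOfHom g) a ha x hx)
    rintro W hW W' h' ⟨c, hc⟩
    refine ⟨fun k => rsR h' (c k), fun i => ?_⟩
    have := congrArg (rsR h') (hc i)
    rw [rsR_rsR, map_sum] at this
    refine this.trans (Finset.sum_congr rfl (fun k _ => ?_))
    rw [map_mul, rsR_rsR]

lemma PresAt.restrict {F : Mod O} {U : Opens X} {ι κ : Type*} [Fintype ι] [Fintype κ]
    {s : ι → Sec F U} {r : κ → ι → O.obj.obj (op U)} (h : PresAt F U s r)
    {U' : Opens X} (hU' : U' ≤ U) :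
    PresAt F U' (fun i => rs F hU' (s i)) (fun k i => rsR hU' (r k i)) := by
  refine ⟨h.gen.restrict hU', fun k => ?_, fun V hV a ha x hx => ?_⟩
  · have := congrArg (rs F hU') (h.rel k)
    rw [rs_sum, map_zero] at this
    rw [← this]
    exact Finset.sum_congr rfl (fun i _ => by rw [rs_smul])
  · have ha' : ∑ i, a i • rs F (hV.trans hU') (s i) = 0 := by
      rw [← ha]
      exact Finset.sum_congr rfl (fun i _ => by rw [rs_rs])
    obtain ⟨W, hW, hxW, c, hc⟩ := h.relGen V (hV.trans hU') a ha' x hx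
    refine ⟨W, hW, hxW, c, fun i => (hc i).trans (Finset.sum_congr rfl (fun k _ => ?_))⟩
    rw [rsR_rsR]

/-- finite presentation, pointwise -/
theorem isFinitePresentation_iff_top (F : Mod O) :
    SheafOfModules.IsFinitePresentation (R := ringSh O) F ↔
      ∀ x : X, ∃ U : Opens X, x ∈ U ∧
        ∃ (ι κ : Type u) (_ : Fintype ι) (_ : Fintype κ) (s : ι → Sec F U)
          (r : κ → ι → O.obj.obj (op U)), PresAt F U s r := by
  rw [isFinitePresentation_iff]
  constructor
  · rintro ⟨I, Xf, hX, h⟩ x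
    obtain ⟨V, f, ⟨i, ⟨k⟩⟩, hxV⟩ := hX ⊤ x (Opens.mem_top x)
    obtain ⟨ι, κ, hι, hκ, s, r, hs⟩ := h i
    exact ⟨Xf i, leOfHom k hxV, ι, κ, hι, hκ, s, r, (presOn_iff_presAt F _ s r).1 hs⟩
  · intro h
    choose U hxU ι κ hι hκ s r hs using h
    refine ⟨X, U, ?_, fun x => ⟨ι x, κ x, hι x, hκ x, s x, r x,
      (presOn_iff_presAt F _ _ _).2 (hs x)⟩⟩
    intro W y hy
    exact ⟨W ⊓ U y, homOfLE inf_le_left, ⟨y, ⟨homOfLE inf_le_right⟩⟩, ⟨hy, hxU y⟩⟩

/-- module algebra used for kernels -/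
lemma alg_ker {R M : Type*} [Ring R] [AddCommGroup M] [Module R M] {ιG ιF κ : Type*}
    [Fintype ιG] [Fintype ιF] [Fintype κ]
    (A : ιG → R) (Gs : ιG → M) (B : ιG → ιF → R) (H : ιF → M) (D : κ → R) (Rm : κ → ιF → R)
    (h : ∀ i, ∑ j, A j * B j i = ∑ l, D l * Rm l i) :
    ∑ j, A j • (Gs j - ∑ i, B j i • H i) + ∑ l, D l • ∑ i, Rm l i • H i = ∑ j, A j • Gs j := by
  have e1 : ∑ j, A j • (Gs j - ∑ i, B j i • H i) =
      ∑ j, A j • Gs j - ∑ i, (∑ j, A j * B j i) • H i := by
    simp only [smul_sub, Finset.sum_sub_distrib, Finset.smul_sum, Finset.sum_smul, mul_smul]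
    rw [Finset.sum_comm]
  have e2 : ∑ l, D l • ∑ i, Rm l i • H i = ∑ i, (∑ l, D l * Rm l i) • H i := by
    simp only [Finset.smul_sum, Finset.sum_smul, mul_smul]
    rw [Finset.sum_comm]
  rw [e1, e2]
  simp only [h]
  abel

end Groth.Agent.Lib.RSp
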