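import Mathlib
import Groth.Prelude.Def_ModSite2
import Groth.Agent.Lib.RSpI_lead

/-!
# Sectionwise morphisms of modules on a ringed space and their gluing (lead)
-/

set_option autoImplicit false
set_option linter.unusedSimpArgs false
set_option linter.unusedVariables false
set_option linter.unusedSectionVars false
set_option linter.style.longLine false
set_option linter.unnecessarySimpa false
set_option maxHeartbeats 1600000
set_option backward.isDefEq.respectTransparency false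
set_option backward.isDefEq.respectTransparency.types false
set_option backward.defeqAttrib.useBackward true

universe u

open CategoryTheory Limits Opposite ModSite TopologicalSpace

namespace Groth.Agent.Lib.RSp

open Groth.Agent.Lib.ModSiteH8 Groth.Agent.Lib.StalkFlatPt Groth.Agent.Lib.StalkFlatA
open Groth.Agent.Lib.FreeFactor

variable {X : TopCat.{u}} {O : TopCat.Sheaf CommRingCat.{u} X}

lemma rs_comb (F : Mod O) {U V W : Opens X} (h : V ≤ U) (h' : W ≤ V) {ι : Type*} [Fintype ι]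
    (a : ι → O.obj.obj (op V)) (m : ι → Sec F U) :
    rs F h' (∑ k, a k • rs F h (m k)) = ∑ k, rsR h' (a k) • rs F (h'.trans h) (m k) := by
  rw [rs_sum]
  refine Finset.sum_congr rfl (fun k _ => ?_)
  rw [rs_smul, rs_rs]

/-- gluing of sections specified locally -/
theorem glue_sec (F : Mod O) (V : Opens X) (P : ∀ W : Opens X, W ≤ V → Sec F W → Prop)
    (stab : ∀ (W : Opens X) (hW : W ≤ V) (u : Sec F W) (W' : Opens X) (h' : W' ≤ W),
      P W hW u → P W' (h'.trans hW) (rs F h' u))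
    (uniq : ∀ (W : Opens X) (hW : W ≤ V) (u u' : Sec F W), P W hW u → P W hW u' → u = u')
    (ex : ∀ x ∈ V, ∃ (W : Opens X) (hW : W ≤ V), x ∈ W ∧ ∃ u : Sec F W, P W hW u) :
    ∃ v : Sec F V, ∀ (W : Opens X) (hW : W ≤ V) (u : Sec F W), P W hW u → rs F hW v = u := by
  classical
  choose Wx hWx hxWx ux hux using ex
  let ι := {x : X // x ∈ V}
  let U' : ι → Opens X := fun p => Wx p.1 p.2
  let sf : ∀ p : ι, ToType ((toAb F).1.obj (op (U' p))) := fun p => ux p.1 p.2
  have hcomp : TopCat.Presheaf.IsCompatible (toAb F).1 U' sf := by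
    intro p q
    show rs F inf_le_left (ux p.1 p.2) = rs F inf_le_right (ux q.1 q.2)
    exact uniq _ (inf_le_left.trans (hWx p.1 p.2)) _ _
      (stab _ _ _ _ inf_le_left (hux p.1 p.2)) (stab _ _ _ _ inf_le_right (hux q.1 q.2))
  obtain ⟨v, hv, -⟩ := TopCat.Sheaf.existsUnique_gluing' (toAb F) U' V
    (fun p => homOfLE (hWx p.1 p.2)) (fun x hx => Opens.mem_iSup.2 ⟨⟨x, hx⟩, hxWx x hx⟩) sf hcomp
  have hv' : ∀ (x : X) (hx : x ∈ V), rs F (hWx x hx) v = ux x hx := fun x hx => hv ⟨x, hx⟩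
  refine ⟨v, fun W hW u hP => sec_ext_top F (fun x hx => ?_)⟩
  refine ⟨W ⊓ Wx x (hW hx), inf_le_left, ⟨hx, hxWx x (hW hx)⟩, ?_⟩
  rw [rs_rs]
  have e1 : rs F ((inf_le_left : W ⊓ Wx x (hW hx) ≤ W).trans hW) v =
      rs F inf_le_right (ux x (hW hx)) := by
    rw [← hv' x (hW hx), rs_rs]
  rw [e1]
  exact uniq _ (inf_le_left.trans hW) _ _ (stab _ _ _ _ inf_le_right (hux x (hW hx)))
    (stab _ _ _ _ inf_le_left hP)

/-- a morphism of modules from sectionwise data -/
noncomputable def mkHom {F G : Mod O} (ψ : ∀ U : Opens X, Sec F U →+ Sec G U)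
    (hres : ∀ (U V : Opens X) (h : V ≤ U) (m : Sec F U), ψ V (rs F h m) = rs G h (ψ U m))
    (hsmul : ∀ (U : Opens X) (a : O.obj.obj (op U)) (m : Sec F U), ψ U (a • m) = a • ψ U m) :
    F ⟶ G :=
  ⟨{ app := fun U => ModuleCat.ofHom
        { toFun := fun m => ψ U.unop m
          map_add' := fun a b => (ψ U.unop).map_add a b
          map_smul' := fun a m => hsmul U.unop a m }
     naturality := fun {U V} f => by
       apply ModuleCat.hom_ext
       apply LinearMap.ext
       intro m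
       exact hres U.unop V.unop (leOfHom f.unop) m }⟩

lemma app_mkHom {F G : Mod O} (ψ : ∀ U : Opens X, Sec F U →+ Sec G U)
    (hres : ∀ (U V : Opens X) (h : V ≤ U) (m : Sec F U), ψ V (rs F h m) = rs G h (ψ U m))
    (hsmul : ∀ (U : Opens X) (a : O.obj.obj (op U)) (m : Sec F U), ψ U (a • m) = a • ψ U m)
    (U : Opens X) (m : Sec F U) : app (mkHom ψ hres hsmul) U m = ψ U m := rfl

/-- a morphism `G|_W ⟶ F|_W`, given sectionwise -/
structure LHom (G F : Mod O) (W : Opens X) where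
  map : ∀ (V : Opens X), V ≤ W → (Sec G V →+ Sec F V)
  map_rs : ∀ (V : Opens X) (hV : V ≤ W) (V' : Opens X) (h : V' ≤ V) (t : Sec G V),
    map V' (h.trans hV) (rs G h t) = rs F h (map V hV t)
  map_smul : ∀ (V : Opens X) (hV : V ≤ W) (a : O.obj.obj (op V)) (t : Sec G V),
    map V hV (a • t) = a • map V hV t

namespace LHom

variable {G F F' : Mod O} {W : Opens X}

/-- the local morphism of a morphism -/
noncomputable def ofHom (φ : G ⟶ F) (W : Opens X) : LHom G F W where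
  map V _ := app φ V
  map_rs V _ V' h t := app_rs φ h t
  map_smul V _ a t := app_smul φ V a t

/-- restriction to a smaller open -/
def restrict (ψ : LHom G F W) {W' : Opens X} (h : W' ≤ W) : LHom G F W' where
  map V hV := ψ.map V (hV.trans h)
  map_rs V hV V' h' t := ψ.map_rs V (hV.trans h) V' h' t
  map_smul V hV a t := ψ.map_smul V (hV.trans h) a t

/-- composition with a morphism -/
noncomputable def comp (ψ : LHom G F W) (θ : F ⟶ F') : LHom G F' W where
  map V hV := (app θ V).comp (ψ.map V hV)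
  map_rs V hV V' h t := by
    show app θ V' (ψ.map V' (h.trans hV) (rs G h t)) = rs F' h (app θ V (ψ.map V hV t))
    rw [ψ.map_rs, app_rs]
  map_smul V hV a t := by
    show app θ V (ψ.map V hV (a • t)) = a • app θ V (ψ.map V hV t)
    rw [ψ.map_smul, app_smul]

lemma comp_map (ψ : LHom G F W) (θ : F ⟶ F') (V : Opens X) (hV : V ≤ W) (t : Sec G V) :
    (ψ.comp θ).map V hV t = app θ V (ψ.map V hV t) := rfl

lemma restrict_map (ψ : LHom G F W) {W' : Opens X} (h : W' ≤ W) (V : Opens X) (hV : V ≤ W')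
    (t : Sec G V) : (ψ.restrict h).map V hV t = ψ.map V (hV.trans h) t := rfl

lemma ofHom_map (φ : G ⟶ F) (W : Opens X) (V : Opens X) (hV : V ≤ W) (t : Sec G V) :
    (ofHom φ W).map V hV t = app φ V t := rfl

/-- a global sectionwise morphism is a morphism -/
noncomputable def toHom (ψ : LHom G F ⊤) : G ⟶ F :=
  mkHom (fun U => ψ.map U le_top) (fun U V h m => ψ.map_rs U le_top V h m)
    (fun U a m => ψ.map_smul U le_top a m)

lemma app_toHom (ψ : LHom G F ⊤) (U : Opens X) (m : Sec G U) :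
    app ψ.toHom U m = ψ.map U le_top m := rfl

/-- local morphisms agreeing on generators agree -/
theorem ext_of_gen (ψ ψ' : LHom G F W) {ι : Type*} [Fintype ι] (s : ι → Sec G W)
    (hg : GenAt G W s) (h : ∀ k, ψ.map W le_rfl (s k) = ψ'.map W le_rfl (s k)) :
    ∀ (V : Opens X) (hV : V ≤ W) (t : Sec G V), ψ.map V hV t = ψ'.map V hV t := by
  intro V hV t
  refine sec_ext_top F (fun x hx => ?_)
  obtain ⟨W', hW', hxW', a, ha⟩ := hg V hV t x hx
  refine ⟨W', hW', hxW', ?_⟩
  rw [← ψ.map_rs V hV W' hW' t, ← ψ'.map_rs V hV W' hW' t, ha, map_sum, map_sum]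
  refine Finset.sum_congr rfl (fun k _ => ?_)
  rw [ψ.map_smul, ψ'.map_smul]
  have e1 := ψ.map_rs W le_rfl W' (hW'.trans hV) (s k)
  have e2 := ψ'.map_rs W le_rfl W' (hW'.trans hV) (s k)
  rw [e1, e2, h k]

/-- a local morphism from a local specification of its values -/
theorem exists_of_spec
    (Q : ∀ (V : Opens X), V ≤ W → Sec G V → ∀ (W' : Opens X), W' ≤ V → Sec F W' → Prop)
    (stab : ∀ (V : Opens X) (hV : V ≤ W) (t : Sec G V) (W' : Opens X) (h : W' ≤ V)
      (u : Sec F W') (W'' : Opens X) (h' : W'' ≤ W'),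
      Q V hV t W' h u → Q V hV t W'' (h'.trans h) (rs F h' u))
    (uniq : ∀ (V : Opens X) (hV : V ≤ W) (t : Sec G V) (W' : Opens X) (h : W' ≤ V)
      (u u' : Sec F W'), Q V hV t W' h u → Q V hV t W' h u' → u = u')
    (ex : ∀ (V : Opens X) (hV : V ≤ W) (t : Sec G V) (x : X), x ∈ V →
      ∃ (W' : Opens X) (h : W' ≤ V), x ∈ W' ∧ ∃ u : Sec F W', Q V hV t W' h u)
    (add : ∀ (V : Opens X) (hV : V ≤ W) (t t' : Sec G V) (W' : Opens X) (h : W' ≤ V)
      (u u' : Sec F W'), Q V hV t W' h u → Q V hV t' W' h u' → Q V hV (t + t') W' h (u + u'))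
    (smul : ∀ (V : Opens X) (hV : V ≤ W) (b : O.obj.obj (op V)) (t : Sec G V) (W' : Opens X)
      (h : W' ≤ V) (u : Sec F W'), Q V hV t W' h u → Q V hV (b • t) W' h (rsR h b • u))
    (res : ∀ (V : Opens X) (hV : V ≤ W) (t : Sec G V) (V' : Opens X) (hV' : V' ≤ V)
      (W' : Opens X) (h : W' ≤ V') (u : Sec F W'),
      Q V hV t W' (h.trans hV') u → Q V' (hV'.trans hV) (rs G hV' t) W' h u) :
    ∃ ψ : LHom G F W, ∀ (V : Opens X) (hV : V ≤ W) (t : Sec G V) (W' : Opens X) (h : W' ≤ V)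
      (u : Sec F W'), Q V hV t W' h u → rs F h (ψ.map V hV t) = u := by
  have hval : ∀ (V : Opens X) (hV : V ≤ W) (t : Sec G V), ∃ v : Sec F V,
      ∀ (W' : Opens X) (h : W' ≤ V) (u : Sec F W'), Q V hV t W' h u → rs F h v = u :=
    fun V hV t => glue_sec F V (Q V hV t)
      (fun W' h u W'' h' hq => stab V hV t W' h u W'' h' hq) (uniq V hV t) (ex V hV t)
  choose val hspec using hval
  have hadd : ∀ (V : Opens X) (hV : V ≤ W) (t t' : Sec G V),
      val V hV (t + t') = val V hV t + val V hV t' := by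
    intro V hV t t'
    refine sec_ext_top F (fun x hx => ?_)
    obtain ⟨W₁, h₁, hx₁, u₁, hu₁⟩ := ex V hV t x hx
    obtain ⟨W₂, h₂, hx₂, u₂, hu₂⟩ := ex V hV t' x hx
    have q₁ := stab V hV t W₁ h₁ u₁ (W₁ ⊓ W₂) inf_le_left hu₁
    have q₂ := stab V hV t' W₂ h₂ u₂ (W₁ ⊓ W₂) inf_le_right hu₂
    refine ⟨W₁ ⊓ W₂, inf_le_left.trans h₁, ⟨hx₁, hx₂⟩, ?_⟩
    refine (hspec V hV (t + t') _ _ _ (add V hV t t' _ _ _ _ q₁ q₂)).trans ?_
    rw [map_add, hspec V hV t _ _ _ q₁, hspec V hV t' _ _ _ q₂]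
  have hsm : ∀ (V : Opens X) (hV : V ≤ W) (b : O.obj.obj (op V)) (t : Sec G V),
      val V hV (b • t) = b • val V hV t := by
    intro V hV b t
    refine sec_ext_top F (fun x hx => ?_)
    obtain ⟨W₁, h₁, hx₁, u₁, hu₁⟩ := ex V hV t x hx
    refine ⟨W₁, h₁, hx₁, ?_⟩
    rw [hspec V hV _ _ _ _ (smul V hV b t W₁ h₁ u₁ hu₁), rs_smul, hspec V hV t _ _ _ hu₁]
  have hrs : ∀ (V : Opens X) (hV : V ≤ W) (V' : Opens X) (hV' : V' ≤ V) (t : Sec G V),
      val V' (hV'.trans hV) (rs G hV' t) = rs F hV' (val V hV t) := by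
    intro V hV V' hV' t
    refine sec_ext_top F (fun x hx => ?_)
    obtain ⟨W₁, h₁, hx₁, u₁, hu₁⟩ := ex V hV t x (hV' hx)
    have q := stab V hV t W₁ h₁ u₁ (W₁ ⊓ V') inf_le_left hu₁
    have q' := res V hV t V' hV' (W₁ ⊓ V') inf_le_right _ q
    refine ⟨W₁ ⊓ V', inf_le_right, ⟨hx₁, hx⟩, ?_⟩
    rw [hspec _ _ _ _ _ _ q', rs_rs, hspec V hV t _ _ _ q]
  refine ⟨⟨fun V hV => AddMonoidHom.mk' (val V hV) (hadd V hV), ?_, ?_⟩, ?_⟩
  · intro V hV V' h t
    exact hrs V hV V' h t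
  · intro V hV a t
    exact hsm V hV a t
  · intro V hV t W' h u hq
    exact hspec V hV t W' h u hq

/-- gluing local morphisms -/
theorem exists_glue {J : Type*} (U : J → Opens X) (hU : iSup U = ⊤) (ψ : ∀ a, LHom G F (U a))
    (compat : ∀ (a b : J) (V : Opens X) (h₁ : V ≤ U a) (h₂ : V ≤ U b) (t : Sec G V),
      (ψ a).map V h₁ t = (ψ b).map V h₂ t) :
    ∃ Ψ : LHom G F ⊤, ∀ (a : J) (V : Opens X) (hV : V ≤ U a) (t : Sec G V),
      Ψ.map V le_top t = (ψ a).map V hV t := by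
  obtain ⟨Ψ, hΨ⟩ := exists_of_spec (G := G) (F := F) (W := ⊤)
    (fun V _ t W' h u => ∃ (a : J) (hW'a : W' ≤ U a), u = (ψ a).map W' hW'a (rs G h t))
    (by
      rintro V hV t W' h u W'' h' ⟨a, ha, rfl⟩
      exact ⟨a, h'.trans ha, by rw [← (ψ a).map_rs W' ha W'' h', rs_rs]⟩)
    (by
      rintro V hV t W' h u u' ⟨a, ha, rfl⟩ ⟨b, hb, rfl⟩
      exact compat a b W' ha hb _)
    (by
      intro V hV t x hx
      have hx' : x ∈ iSup U := by rw [hU]; trivial
      obtain ⟨a, hxa⟩ := Opens.mem_iSup.1 hx'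
      exact ⟨V ⊓ U a, inf_le_left, ⟨hx, hxa⟩, _, a, inf_le_right, rfl⟩)
    (by
      rintro V hV t t' W' h u u' ⟨a, ha, rfl⟩ ⟨b, hb, rfl⟩
      refine ⟨a, ha, ?_⟩
      rw [map_add, map_add, compat b a W' hb ha])
    (by
      rintro V hV b t W' h u ⟨a, ha, rfl⟩
      exact ⟨a, ha, by rw [rs_smul, (ψ a).map_smul]⟩)
    (by
      rintro V hV t V' hV' W' h u ⟨a, ha, rfl⟩
      exact ⟨a, ha, by rw [rs_rs]⟩)
  refine ⟨Ψ, fun a V hV t => ?_⟩
  have := hΨ V le_top t V le_rfl ((ψ a).map V hV (rs G le_rfl t)) ⟨a, hV, rfl⟩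
  rw [rs_self, rs_self] at this
  exact this

end LHom

/-- coefficient families killing the generators kill any family satisfying the relations -/
theorem PresAt.kill {G F : Mod O} {W : Opens X} {ι κ : Type*} [Fintype ι] [Fintype κ]
    {s : ι → Sec G W} {r : κ → ι → O.obj.obj (op W)} (hP : PresAt G W s r)
    (m : ι → Sec F W) (hm : ∀ l, ∑ k, r l k • m k = 0) (W' : Opens X) (hW' : W' ≤ W)
    (a : ι → O.obj.obj (op W')) (ha : ∑ k, a k • rs G hW' (s k) = 0) :
    ∑ k, a k • rs F hW' (m k) = 0 := by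
  refine sec_ext_top F (fun x hx => ?_)
  obtain ⟨W'', hW'', hx'', cc, hcc⟩ := hP.relGen W' hW' a ha x hx
  refine ⟨W'', hW'', hx'', ?_⟩
  rw [map_zero, rs_comb]
  have h1 : ∀ k, rsR hW'' (a k) • rs F (hW''.trans hW') (m k) =
      ∑ l, cc l • (rsR (hW''.trans hW') (r l k) • rs F (hW''.trans hW') (m k)) := by
    intro k
    rw [hcc k, Finset.sum_smul]
    refine Finset.sum_congr rfl (fun l _ => ?_)
    rw [mul_smul]
  rw [Finset.sum_congr rfl (fun k _ => h1 k), Finset.sum_comm]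
  refine Finset.sum_eq_zero (fun l _ => ?_)
  rw [← Finset.smul_sum]
  have h2 := congrArg (rs F (hW''.trans hW')) (hm l)
  rw [rs_sum, map_zero] at h2
  have h3 : ∑ k, rsR (hW''.trans hW') (r l k) • rs F (hW''.trans hW') (m k) = 0 := by
    rw [← h2]
    exact Finset.sum_congr rfl (fun k _ => by rw [rs_smul])
  rw [h3, smul_zero]

/-- the local morphism out of a finitely presented module attached to a family of sections
satisfying the relations -/
theorem LHom.exists_ofPres {G F : Mod O} {W : Opens X} {ι κ : Type*} [Fintype ι] [Fintype κ]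
    {s : ι → Sec G W} {r : κ → ι → O.obj.obj (op W)} (hP : PresAt G W s r)
    (m : ι → Sec F W) (hm : ∀ l, ∑ k, r l k • m k = 0) :
    ∃ ψ : LHom G F W, ∀ k, ψ.map W le_rfl (s k) = m k := by
  classical
  obtain ⟨ψ, hψ⟩ := LHom.exists_of_spec (G := G) (F := F) (W := W)
    (fun V hV t W' h u => ∃ a : ι → O.obj.obj (op W'),
      rs G h t = ∑ k, a k • rs G (h.trans hV) (s k) ∧ u = ∑ k, a k • rs F (h.trans hV) (m k))
    (by
      rintro V hV t W' h u W'' h' ⟨a, ha, rfl⟩
      refine ⟨fun k => rsR h' (a k), ?_, ?_⟩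
      · rw [← rs_rs G h h' t, ha, rs_comb]
      · rw [rs_comb])
    (by
      rintro V hV t W' h u u' ⟨a, ha, rfl⟩ ⟨a', ha', rfl⟩
      have h0 : ∑ k, (a k - a' k) • rs G (h.trans hV) (s k) = 0 := by
        simp only [sub_smul, Finset.sum_sub_distrib]
        rw [← ha, ← ha', sub_self]
      have h1 := PresAt.kill hP m hm W' (h.trans hV) (fun k => a k - a' k) h0
      simp only [sub_smul, Finset.sum_sub_distrib] at h1
      exact sub_eq_zero.1 h1)
    (by
      intro V hV t x hx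
      obtain ⟨W', hW', hxW', a, ha⟩ := hP.gen V hV t x hx
      exact ⟨W', hW', hxW', _, a, ha, rfl⟩)
    (by
      rintro V hV t t' W' h u u' ⟨a, ha, rfl⟩ ⟨a', ha', rfl⟩
      refine ⟨fun k => a k + a' k, ?_, ?_⟩
      · rw [map_add, ha, ha']
        simp only [add_smul, Finset.sum_add_distrib]
      · simp only [add_smul, Finset.sum_add_distrib])
    (by
      rintro V hV b t W' h u ⟨a, ha, rfl⟩
      refine ⟨fun k => rsR h b * a k, ?_, ?_⟩
      · rw [rs_smul, ha, Finset.smul_sum]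
        exact Finset.sum_congr rfl (fun k _ => by rw [mul_smul])
      · rw [Finset.smul_sum]
        exact Finset.sum_congr rfl (fun k _ => by rw [mul_smul]))
    (by
      rintro V hV t V' hV' W' h u ⟨a, ha, rfl⟩
      exact ⟨a, by rw [rs_rs]; exact ha, rfl⟩)
  refine ⟨ψ, fun k => ?_⟩
  have h1 := hψ W le_rfl (s k) W le_rfl (m k) ⟨fun j => if j = k then 1 else 0, ?_, ?_⟩
  · rwa [rs_self] at h1
  · rw [rs_self]
    simp only [ite_smul, one_smul, zero_smul, Finset.sum_ite_eq', Finset.mem_univ, if_true]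
    rw [rs_self]
  · simp only [ite_smul, one_smul, zero_smul, Finset.sum_ite_eq', Finset.mem_univ, if_true]
    rw [rs_self]

end Groth.Agent.Lib.RSp
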