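import Mathlib
import Groth.Prelude.Def_ModSite2
import Groth.Agent.Lib.RSpQ_lead
import Groth.Agent.Lib.RSpS_lead

/-!
# Direct image along a closed embedding of ringed spaces with surjective comorphism (lead)

`i_*` is exact, fully faithful, with essential image the modules killed by the kernel of `i♯`.
-/

set_option autoImplicit false
set_option linter.unusedSimpArgs false
set_option linter.unusedVariables false
set_option linter.unusedSectionVars false
set_option linter.style.longLine false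
set_option linter.unnecessarySimpa false
set_option maxHeartbeats 1600000
set_option backward.isDefEq.respectTransparency false
set_option backward.isDefEq.respectTransparency.types false
set_option backward.defeqAttrib.useBackward true

universe u

open CategoryTheory Limits Opposite ModSite TopologicalSpace

namespace Groth.Agent.Lib.RSp

open Groth.Agent.Lib.ModSiteH8 Groth.Agent.Lib.StalkFlatPt Groth.Agent.Lib.StalkFlatA
open Groth.Agent.Lib.FreeFactor

section Gen

variable {C D : Type u} [SmallCategory C] [SmallCategory D] {J : GrothendieckTopology C}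
  {K : GrothendieckTopology D} {O_C : Sheaf J CommRingCat.{u}} {O_D : Sheaf K CommRingCat.{u}}
  (f : RMor O_C O_D)

lemma ofPu_app {F G : Mod O_C} (φ : F ⟶ G) (V : D) (m : Sec (f.push.obj F) V) :
    ofPu f G V (app (f.push.map φ) V m) = app φ (f.fn.obj V) (ofPu f F V m) := rfl

end Gen

section Closed

variable {Z X : TopCat.{u}} (i : Z ⟶ X) {OZ : TopCat.Sheaf CommRingCat.{u} Z}
  {OX : TopCat.Sheaf CommRingCat.{u} X}
  (c : OX ⟶ ((Opens.map i).sheafPushforwardContinuous CommRingCat.{u}
      (Opens.grothendieckTopology X) (Opens.grothendieckTopology Z)).obj OZ)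
  (hi : Topology.IsClosedEmbedding i)

/-- the largest open of `X` with a given trace on `Z` -/
def extO (W : Opens Z) : Opens X :=
  ⟨(i '' ((W : Set Z)ᶜ))ᶜ, (hi.isClosedMap _ W.isOpen.isClosed_compl).isOpen_compl⟩

lemma mem_extO {W : Opens Z} {x : X} : x ∈ extO i hi W ↔ ∀ z, i z = x → z ∈ W := by
  show x ∈ (i '' ((W : Set Z)ᶜ))ᶜ ↔ _
  constructor
  · intro h z hz
    by_contra hzW
    exact h ⟨z, hzW, hz⟩
  · rintro h ⟨z, hzW, hz⟩
    exact hzW (h z hz)

lemma mem_extO_of_mem {W : Opens Z} {z : Z} (hz : z ∈ W) : i z ∈ extO i hi W := by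
  rw [mem_extO]
  intro z' hz'
  rwa [hi.injective hz']

lemma pre_extO (W : Opens Z) : pre i (extO i hi W) = W := by
  apply Opens.ext
  apply Set.ext
  intro z
  show i z ∈ extO i hi W ↔ z ∈ W
  rw [mem_extO]
  exact ⟨fun h => h z rfl, fun h z' hz' => by rwa [hi.injective hz']⟩

lemma extO_mono {W W' : Opens Z} (h : W ≤ W') : extO i hi W ≤ extO i hi W' := by
  intro x hx
  rw [mem_extO] at hx ⊢
  exact fun z hz => h (hx z hz)

lemma le_extO_pre (U : Opens X) : U ≤ extO i hi (pre i U) := by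
  intro x hx
  rw [mem_extO]
  intro z hz
  show i z ∈ U
  rw [hz]
  exact hx

lemma le_extO_of_pre_le {V : Opens X} {W : Opens Z} (h : pre i V ≤ W) : V ≤ extO i hi W :=
  (le_extO_pre i hi V).trans (extO_mono i hi h)

lemma extO_inf_le (W W' : Opens Z) : extO i hi W ⊓ extO i hi W' ≤ extO i hi (W ⊓ W') := by
  intro x hx
  have h1 : x ∈ extO i hi W := hx.1
  have h2 : x ∈ extO i hi W' := hx.2
  rw [mem_extO] at h1 h2 ⊢
  exact fun z hz => ⟨h1 z hz, h2 z hz⟩

/-- the complement of the image -/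
def Rc : Opens X := ⟨(Set.range i)ᶜ, hi.isClosed_range.isOpen_compl⟩

lemma not_mem_pre_of_le_Rc {V : Opens X} (hV : V ≤ Rc i hi) (z : Z) : z ∉ pre i V :=
  fun hz => hV hz ⟨z, rfl⟩

lemma mem_Rc {x : X} (hx : x ∉ Set.range i) : x ∈ Rc i hi := hx

/-! ### Faithful -/

include hi in
theorem push_faithful : (pf i c).push.Faithful where
  map_injective {M N} φ ψ h := by
    apply hom_ext'
    intro U m
    obtain ⟨V, rfl⟩ := exists_pre_eq i hi U
    have := congrArg (fun t => ofPu (pf i c) N V (app t V (toPu (pf i c) M V m))) h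
    exact this

/-! ### Full -/

section Full

variable {M N : Mod OZ} (g : (pf i c).push.obj M ⟶ (pf i c).push.obj N)

/-- local value of the preimage -/
noncomputable def loc {W : Opens Z} (V : Opens X) (hV : pre i V ≤ W) :
    Sec M W →+ Sec N (pre i V) where
  toFun m := ofPu (pf i c) N V (app g V (toPu (pf i c) M V (rs M hV m)))
  map_zero' := by
    rw [map_zero]
    show ofPu (pf i c) N V (app g V 0) = 0
    rw [map_zero]
    rfl
  map_add' a b := by
    rw [map_add]
    show ofPu (pf i c) N V (app g V (toPu (pf i c) M V (rs M hV a) +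
      toPu (pf i c) M V (rs M hV b))) = _
    rw [map_add]
    rfl

lemma loc_apply {W : Opens Z} (V : Opens X) (hV : pre i V ≤ W) (m : Sec M W) :
    loc i c g V hV m = ofPu (pf i c) N V (app g V (toPu (pf i c) M V (rs M hV m))) := rfl

lemma loc_rs {W W' : Opens Z} (hW : W' ≤ W) (V V' : Opens X) (h : V' ≤ V)
    (hV : pre i V ≤ W) (hV' : pre i V' ≤ W') (m : Sec M W) :
    loc i c g V' hV' (rs M hW m) = rs N (preLE i h) (loc i c g V hV m) := by
  rw [loc_apply, loc_apply, ← ofPu_rs, ← app_rs, rs_rs]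
  have e : toPu (pf i c) M V' (rs M (hV'.trans hW) m) =
      rs ((pf i c).push.obj M) h (toPu (pf i c) M V (rs M hV m)) := by
    apply ofPu_injective (pf i c) M V'
    rw [ofPu_rs, ofPu_toPu, ofPu_toPu, rs_rs]
  rw [e]

/-- the preimage on sections -/
noncomputable def phi (W : Opens Z) : Sec M W →+ Sec N W :=
  (rs N (le_of_eq (pre_extO i hi W).symm)).comp
    (loc i c g (extO i hi W) (le_of_eq (pre_extO i hi W)))

lemma phi_apply (W : Opens Z) (m : Sec M W) :
    phi i c hi g W m = rs N (le_of_eq (pre_extO i hi W).symm)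
      (loc i c g (extO i hi W) (le_of_eq (pre_extO i hi W)) m) := rfl

lemma phi_loc (W : Opens Z) (V : Opens X) (hV : pre i V ≤ W) (m : Sec M W) :
    rs N hV (phi i c hi g W m) = loc i c g V hV m := by
  rw [phi_apply, rs_rs]
  have h : V ≤ extO i hi W := le_extO_of_pre_le i hi hV
  have h2 := loc_rs i c g (le_refl W) (extO i hi W) V h (le_of_eq (pre_extO i hi W)) hV m
  rw [rs_self] at h2
  rw [h2]

lemma phi_rs {W W' : Opens Z} (h : W' ≤ W) (m : Sec M W) :
    phi i c hi g W' (rs M h m) = rs N h (phi i c hi g W m) := by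
  rw [phi_apply, phi_apply,
    loc_rs i c g h (extO i hi W) (extO i hi W') (extO_mono i hi h) (le_of_eq (pre_extO i hi W))
      (le_of_eq (pre_extO i hi W')) m, rs_rs, rs_rs]

lemma phi_smul (hc : Sheaf.IsLocallySurjective c) (W : Opens Z) (b : OZ.obj.obj (op W))
    (m : Sec M W) : phi i c hi g W (b • m) = b • phi i c hi g W m := by
  refine sec_ext_top N (fun z hz => ?_)
  obtain ⟨V, hV, hzV, a, ha⟩ := exists_lift_ring i c hc (κ := Unit) W (fun _ => b) (i z)
    (extO i hi W) (mem_extO_of_mem i hi hz) (le_of_eq (pre_extO i hi W))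
  have hVW : pre i V ≤ W := (preLE i hV).trans (le_of_eq (pre_extO i hi W))
  have ha' : shR (pf i c) V (a ()) = rsR hVW b := ha ()
  refine ⟨pre i V, hVW, hzV, ?_⟩
  rw [phi_loc, rs_smul, phi_loc, loc_apply, loc_apply, rs_smul, ← ha', ← ofPu_smul, ← app_smul]
  rfl

/-- the preimage -/
noncomputable def preimg (hc : Sheaf.IsLocallySurjective c) : M ⟶ N :=
  mkHom (phi i c hi g) (fun U V h m => phi_rs i c hi g h m)
    (fun U a m => phi_smul i c hi g hc U a m)

lemma push_map_preimg (hc : Sheaf.IsLocallySurjective c) :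
    (pf i c).push.map (preimg i c hi g hc) = g := by
  apply hom_ext'
  intro V m'
  apply ofPu_injective (pf i c) N V
  rw [ofPu_app]
  show phi i c hi g (pre i V) (ofPu (pf i c) M V m') = ofPu (pf i c) N V (app g V m')
  have h := phi_loc i c hi g (pre i V) V le_rfl (ofPu (pf i c) M V m')
  rw [rs_self] at h
  rw [h, loc_apply, rs_self]
  rfl

end Full

include hi in
theorem push_full (hc : Sheaf.IsLocallySurjective c) : (pf i c).push.Full :=
  ⟨fun {M N} g => ⟨preimg i c hi g hc, push_map_preimg i c hi g hc⟩⟩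

/-! ### Exactness -/

include hi in
theorem push_preservesEpi : (pf i c).push.PreservesEpimorphisms where
  preserves {M N} φ hφ := by
    rw [epi_iff_top]
    intro V t x hx
    by_cases hxr : x ∈ Set.range i
    · obtain ⟨z, rfl⟩ := hxr
      obtain ⟨W, hW, hzW, u₀, hu₀⟩ :=
        (epi_iff_top φ).1 hφ (pre i V) (ofPu (pf i c) N V t) z hx
      obtain ⟨V₁, hV₁⟩ := exists_pre_eq i hi W
      have hzV₁ : i z ∈ V₁ := by
        have h1 : z ∈ pre i V₁ := by rw [hV₁]; exact hzW
        exact h1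
      have hpre : pre i (V₁ ⊓ V) ≤ W := by
        rw [← hV₁]
        exact preLE i inf_le_left
      have hmem : i z ∈ V₁ ⊓ V := ⟨hzV₁, hx⟩
      refine ⟨V₁ ⊓ V, inf_le_right, hmem, toPu (pf i c) M _ (rs M hpre u₀), ?_⟩
      apply ofPu_injective (pf i c) N _
      show app φ (pre i (V₁ ⊓ V)) (rs M hpre u₀) =
        rs N (preLE i inf_le_right) (ofPu (pf i c) N V t)
      rw [app_rs, hu₀, rs_rs]
    · have hmem : x ∈ V ⊓ Rc i hi := ⟨hx, hxr⟩
      refine ⟨V ⊓ Rc i hi, inf_le_left, hmem, 0, ?_⟩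
      apply ofPu_injective (pf i c) N _
      exact sec_eq_of_empty N (pre i (V ⊓ Rc i hi))
        (not_mem_pre_of_le_Rc i hi inf_le_right) _ _

include hi in
theorem push_preservesFiniteColimits : PreservesFiniteColimits (pf i c).push := by
  haveI := push_preservesEpi i c hi
  haveI : PreservesLimitsOfSize.{0, 0} (pf i c).push := (pf i c).adj.rightAdjoint_preservesLimits
  haveI : (pf i c).push.PreservesHomology :=
    Functor.preservesHomology_of_preservesEpis_and_kernels _
  exact Functor.preservesFiniteColimits_of_preservesHomology _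

/-! ### Essential image, necessity -/

theorem kill_of_essImage {G : Mod OX} (h : (pf i c).push.essImage G) (U : Opens X)
    (a : OX.obj.obj (op U)) (ha : shR (pf i c) U a = 0) (s : Sec G U) : a • s = 0 := by
  obtain ⟨M, ⟨e⟩⟩ := h
  have h1 : a • s = app e.hom U (a • app e.inv U s) := by
    rw [app_smul, ← app_comp, e.inv_hom_id, app_id]
  have h2 : a • app e.inv U s = 0 := by
    apply ofPu_injective (pf i c) M U
    rw [ofPu_smul, ha, zero_smul]
    rfl
  rw [h1, h2, map_zero]

/-! ### Essential image, sufficiency -/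

section Ess

variable (hc : Sheaf.IsLocallySurjective c) {G : Mod OX}
  (hG : ∀ (U : Opens X) (a : OX.obj.obj (op U)), shR (pf i c) U a = 0 →
    ∀ s : Sec G U, a • s = 0)

include hG in
lemma zero_of_empty (U : Opens X) (hU : ∀ z, z ∉ pre i U) (s : Sec G U) : s = 0 := by
  have h1 : shR (pf i c) U 1 = 0 :=
    sec_eq_of_empty (ModSite.unit OZ) (pre i U) hU (toU (pre i U) (shR (pf i c) U 1))
      (toU (pre i U) 0)
  have h2 := hG U 1 h1 s
  rwa [one_smul] at h2

include hi hG in
lemma rs_injective_of_pre {U U' : Opens X} (h : U ≤ U') (hp : pre i U' ≤ pre i U) :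
    Function.Injective (rs G h) := by
  intro s s' hs
  refine sec_ext_top G (fun x hx => ?_)
  by_cases hxr : x ∈ Set.range i
  · obtain ⟨z, rfl⟩ := hxr
    exact ⟨U, h, hp hx, hs⟩
  · have hmem : x ∈ U' ⊓ Rc i hi := ⟨hx, hxr⟩
    refine ⟨U' ⊓ Rc i hi, inf_le_left, hmem, ?_⟩
    rw [zero_of_empty i c hG (U' ⊓ Rc i hi) (not_mem_pre_of_le_Rc i hi inf_le_right)
        (rs G inf_le_left s),
      zero_of_empty i c hG (U' ⊓ Rc i hi) (not_mem_pre_of_le_Rc i hi inf_le_right)
        (rs G inf_le_left s')]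

include hi hG in
lemma rs_surjective_of_pre {U U' : Opens X} (h : U ≤ U') (hp : pre i U' ≤ pre i U) :
    Function.Surjective (rs G h) := by
  intro t
  obtain ⟨v, hv⟩ := glue_sec G U'
    (fun W hW u => rs G (inf_le_left : W ⊓ U ≤ W) u = rs G (inf_le_right : W ⊓ U ≤ U) t)
    (by
      intro W hW u W' h' hP
      have h3 := congrArg (rs G (inf_le_inf_right U h' : W' ⊓ U ≤ W ⊓ U)) hP
      rw [rs_rs, rs_rs] at h3
      rw [rs_rs]
      exact h3)
    (by
      intro W hW u u' hP hP'
      have hle : pre i W ≤ pre i (W ⊓ U) := fun z hz => by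
        have h4 : i z ∈ W ⊓ U := ⟨hz, hp (preLE i hW hz)⟩
        exact h4
      have hinj := rs_injective_of_pre i c hi hG (inf_le_left : W ⊓ U ≤ W) hle
      exact hinj (hP.trans hP'.symm))
    (by
      intro x hx
      by_cases hxU : x ∈ U
      · exact ⟨U, h, hxU, t, rfl⟩
      · have hxr : x ∉ Set.range i := by
          rintro ⟨z, rfl⟩
          exact hxU (hp hx)
        have hmem : x ∈ U' ⊓ Rc i hi := ⟨hx, hxr⟩
        refine ⟨U' ⊓ Rc i hi, inf_le_left, hmem, 0, ?_⟩
        have hE : ∀ z, z ∉ pre i ((U' ⊓ Rc i hi) ⊓ U) :=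
          not_mem_pre_of_le_Rc i hi (inf_le_left.trans inf_le_right)
        exact (zero_of_empty i c hG _ hE _).trans (zero_of_empty i c hG _ hE _).symm)
  exact ⟨v, hv U h t rfl⟩

include hc in
lemma lift1 (U : Opens X) (b : OZ.obj.obj (op (pre i U))) (x : X) (hx : x ∈ U) :
    ∃ (W : Opens X) (hW : W ≤ U), x ∈ W ∧ ∃ a : OX.obj.obj (op W),
      shR (pf i c) W a = rsR (preLE i hW) b := by
  obtain ⟨W, hW, hxW, a, ha⟩ := exists_lift_ring i c hc (κ := Unit) (pre i U) (fun _ => b) x U hx
    le_rfl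
  exact ⟨W, hW, hxW, a (), ha ()⟩

include hc in
lemma lift2 (U : Opens X) (b b' : OZ.obj.obj (op (pre i U))) (x : X) (hx : x ∈ U) :
    ∃ (W : Opens X) (hW : W ≤ U), x ∈ W ∧ ∃ a a' : OX.obj.obj (op W),
      shR (pf i c) W a = rsR (preLE i hW) b ∧ shR (pf i c) W a' = rsR (preLE i hW) b' := by
  obtain ⟨W, hW, hxW, a, ha⟩ := exists_lift_ring i c hc (κ := Bool) (pre i U)
    (fun k => cond k b b') x U hx le_rfl
  exact ⟨W, hW, hxW, a true, a false, ha true, ha false⟩

include hc hG in
lemma exists_act (U : Opens X) (b : OZ.obj.obj (op (pre i U))) (s : Sec G U) :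
    ∃ t : Sec G U, ∀ (V : Opens X) (hV : V ≤ U) (a : OX.obj.obj (op V)),
      shR (pf i c) V a = rsR (preLE i hV) b → rs G hV t = a • rs G hV s := by
  obtain ⟨t, ht⟩ := glue_sec G U
    (fun W hW u => ∃ a : OX.obj.obj (op W),
      shR (pf i c) W a = rsR (preLE i hW) b ∧ u = a • rs G hW s)
    (by
      rintro W hW u W' h' ⟨a, ha, rfl⟩
      refine ⟨rsR h' a, ?_, ?_⟩
      · rw [shR_rsR, ha, rsR_rsR]
      · rw [rs_smul, rs_rs])
    (by
      rintro W hW u u' ⟨a, ha, rfl⟩ ⟨a', ha', rfl⟩
      have h0 : shR (pf i c) W (a - a') = 0 := by rw [map_sub, ha, ha', sub_self]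
      have h1 := hG W (a - a') h0 (rs G hW s)
      rw [sub_smul, sub_eq_zero] at h1
      exact h1)
    (by
      intro x hx
      obtain ⟨W, hW, hxW, a, ha⟩ := lift1 i c hc U b x hx
      exact ⟨W, hW, hxW, a • rs G hW s, a, ha, rfl⟩)
  exact ⟨t, fun V hV a ha => ht V hV _ ⟨a, ha, rfl⟩⟩

/-- the action of `i_* O_Z` on a module killed by the kernel of `i♯` -/
noncomputable def act (U : Opens X) (b : OZ.obj.obj (op (pre i U))) (s : Sec G U) : Sec G U :=
  (exists_act i c hc hG U b s).choose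

lemma act_spec (U : Opens X) (b : OZ.obj.obj (op (pre i U))) (s : Sec G U) (V : Opens X)
    (hV : V ≤ U) (a : OX.obj.obj (op V)) (ha : shR (pf i c) V a = rsR (preLE i hV) b) :
    rs G hV (act i c hc hG U b s) = a • rs G hV s :=
  (exists_act i c hc hG U b s).choose_spec V hV a ha

lemma act_eq_of_local (U : Opens X) (b : OZ.obj.obj (op (pre i U))) (s t : Sec G U)
    (h : ∀ x ∈ U, ∃ (W : Opens X) (hW : W ≤ U), x ∈ W ∧ ∃ a : OX.obj.obj (op W),
      shR (pf i c) W a = rsR (preLE i hW) b ∧ rs G hW t = a • rs G hW s) :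
    act i c hc hG U b s = t := by
  refine sec_ext_top G (fun x hx => ?_)
  obtain ⟨W, hW, hxW, a, ha, hta⟩ := h x hx
  exact ⟨W, hW, hxW, (act_spec i c hc hG U b s W hW a ha).trans hta.symm⟩

lemma act_add_left (U : Opens X) (b b' : OZ.obj.obj (op (pre i U))) (s : Sec G U) :
    act i c hc hG U (b + b') s = act i c hc hG U b s + act i c hc hG U b' s := by
  apply act_eq_of_local
  intro x hx
  obtain ⟨W, hW, hxW, a, a', ha, ha'⟩ := lift2 i c hc U b b' x hx
  refine ⟨W, hW, hxW, a + a', ?_, ?_⟩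
  · rw [map_add, map_add, ha, ha']
  · rw [map_add, act_spec i c hc hG U b s W hW a ha, act_spec i c hc hG U b' s W hW a' ha',
      add_smul]

lemma act_add_right (U : Opens X) (b : OZ.obj.obj (op (pre i U))) (s s' : Sec G U) :
    act i c hc hG U b (s + s') = act i c hc hG U b s + act i c hc hG U b s' := by
  apply act_eq_of_local
  intro x hx
  obtain ⟨W, hW, hxW, a, ha⟩ := lift1 i c hc U b x hx
  refine ⟨W, hW, hxW, a, ha, ?_⟩
  rw [map_add, map_add, act_spec i c hc hG U b s W hW a ha, act_spec i c hc hG U b s' W hW a ha,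
    smul_add]

lemma act_one (U : Opens X) (s : Sec G U) : act i c hc hG U 1 s = s := by
  apply act_eq_of_local
  intro x hx
  refine ⟨U, le_rfl, hx, 1, ?_, ?_⟩
  · rw [map_one, map_one]
  · rw [one_smul]

lemma act_zero_left (U : Opens X) (s : Sec G U) : act i c hc hG U 0 s = 0 := by
  apply act_eq_of_local
  intro x hx
  refine ⟨U, le_rfl, hx, 0, ?_, ?_⟩
  · rw [map_zero, map_zero]
  · rw [zero_smul, map_zero]

lemma act_zero_right (U : Opens X) (b : OZ.obj.obj (op (pre i U))) :
    act i c hc hG U b (0 : Sec G U) = 0 := by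
  apply act_eq_of_local
  intro x hx
  obtain ⟨W, hW, hxW, a, ha⟩ := lift1 i c hc U b x hx
  refine ⟨W, hW, hxW, a, ha, ?_⟩
  rw [map_zero, smul_zero]

lemma act_mul (U : Opens X) (b b' : OZ.obj.obj (op (pre i U))) (s : Sec G U) :
    act i c hc hG U (b * b') s = act i c hc hG U b (act i c hc hG U b' s) := by
  apply act_eq_of_local
  intro x hx
  obtain ⟨W, hW, hxW, a, a', ha, ha'⟩ := lift2 i c hc U b b' x hx
  refine ⟨W, hW, hxW, a * a', ?_, ?_⟩
  · rw [map_mul, map_mul, ha, ha']
  · rw [act_spec i c hc hG U b _ W hW a ha, act_spec i c hc hG U b' s W hW a' ha', mul_smul]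

lemma act_rs (U U' : Opens X) (h : U' ≤ U) (b : OZ.obj.obj (op (pre i U))) (s : Sec G U) :
    act i c hc hG U' (rsR (preLE i h) b) (rs G h s) = rs G h (act i c hc hG U b s) := by
  apply act_eq_of_local
  intro x hx
  obtain ⟨W, hW, hxW, a, ha⟩ := lift1 i c hc U' (rsR (preLE i h) b) x hx
  refine ⟨W, hW, hxW, a, ha, ?_⟩
  rw [rs_rs, rs_rs]
  refine act_spec i c hc hG U b s W (hW.trans h) a ?_
  rw [ha, rsR_rsR]

lemma act_shR (U : Opens X) (a : OX.obj.obj (op U)) (s : Sec G U) :
    act i c hc hG U (shR (pf i c) U a) s = a • s := by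
  apply act_eq_of_local
  intro x hx
  refine ⟨U, le_rfl, hx, a, ?_, ?_⟩
  · rw [rsR_self]
  · rw [rs_smul, rsR_self]

/-- the `O_Z(W)`-module structure on `G(ext W)` -/
noncomputable def modM (W : Opens Z) : Module (OZ.obj.obj (op W)) (Sec G (extO i hi W)) where
  smul b s := act i c hc hG (extO i hi W) (rsR (le_of_eq (pre_extO i hi W)) b) s
  one_smul s := by
    show act i c hc hG (extO i hi W) (rsR (le_of_eq (pre_extO i hi W)) 1) s = s
    rw [map_one]
    exact act_one i c hc hG _ s
  mul_smul b b' s := by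
    show act i c hc hG (extO i hi W) (rsR (le_of_eq (pre_extO i hi W)) (b * b')) s =
      act i c hc hG (extO i hi W) (rsR (le_of_eq (pre_extO i hi W)) b)
        (act i c hc hG (extO i hi W) (rsR (le_of_eq (pre_extO i hi W)) b') s)
    rw [map_mul]
    exact act_mul i c hc hG _ _ _ s
  smul_zero b := act_zero_right i c hc hG _ _
  smul_add b s s' := act_add_right i c hc hG _ _ s s'
  add_smul b b' s := by
    show act i c hc hG (extO i hi W) (rsR (le_of_eq (pre_extO i hi W)) (b + b')) s =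
      act i c hc hG (extO i hi W) (rsR (le_of_eq (pre_extO i hi W)) b) s +
        act i c hc hG (extO i hi W) (rsR (le_of_eq (pre_extO i hi W)) b') s
    rw [map_add]
    exact act_add_left i c hc hG _ _ _ s
  zero_smul s := by
    show act i c hc hG (extO i hi W) (rsR (le_of_eq (pre_extO i hi W)) 0) s = 0
    rw [map_zero]
    exact act_zero_left i c hc hG _ s

variable (G) in
/-- the underlying abelian presheaf `W ↦ G(ext W)` on `Z` -/
noncomputable def M0 : (Opens Z)ᵒᵖ ⥤ Ab.{u} where
  obj W := AddCommGrpCat.of (Sec G (extO i hi W.unop))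
  map {W W'} g := AddCommGrpCat.ofHom (rs G (extO_mono i hi (leOfHom g.unop)))
  map_id W := by
    apply AddCommGrpCat.hom_ext
    apply AddMonoidHom.ext
    intro s
    exact rs_self G _ s
  map_comp g h := by
    apply AddCommGrpCat.hom_ext
    apply AddMonoidHom.ext
    intro s
    exact (rs_rs G _ _ s).symm

include hG in
lemma M0_isSheaf : TopCat.Presheaf.IsSheaf (M0 i hi G) := by
  rw [TopCat.Presheaf.isSheaf_iff_isSheafUniqueGluing]
  intro κ W sf hsf
  have hk : ∀ k, extO i hi (W k) ≤ extO i hi (iSup W) := fun k => extO_mono i hi (le_iSup W k)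
  have hcomp : ∀ (k l : κ) (V : Opens X) (h1 : V ≤ extO i hi (W k)) (h2 : V ≤ extO i hi (W l)),
      rs G h1 (sf k) = rs G h2 (sf l) := by
    intro k l V h1 h2
    have h3 : rs G (extO_mono i hi (inf_le_left : W k ⊓ W l ≤ W k)) (sf k) =
        rs G (extO_mono i hi (inf_le_right : W k ⊓ W l ≤ W l)) (sf l) := hsf k l
    have h4 : V ≤ extO i hi (W k ⊓ W l) := (le_inf h1 h2).trans (extO_inf_le i hi _ _)
    have h5 := congrArg (rs G h4) h3
    rw [rs_rs, rs_rs] at h5
    exact h5
  have hzero : ∀ (V : Opens X) (hV : V ≤ Rc i hi) (u u' : Sec G V), u = u' := fun V hV u u' =>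
    (zero_of_empty i c hG V (not_mem_pre_of_le_Rc i hi hV) u).trans
      (zero_of_empty i c hG V (not_mem_pre_of_le_Rc i hi hV) u').symm
  have hidx : ∀ z : Z, i z ∈ extO i hi (iSup W) → ∃ k, i z ∈ extO i hi (W k) := by
    intro z hz
    rw [mem_extO] at hz
    obtain ⟨k, hk'⟩ := Opens.mem_iSup.1 (hz z rfl)
    exact ⟨k, mem_extO_of_mem i hi hk'⟩
  have uniqP : ∀ (V : Opens X) (hV : V ≤ extO i hi (iSup W)) (u u' : Sec G V),
      (∀ k (V' : Opens X) (h1 : V' ≤ V) (h2 : V' ≤ extO i hi (W k)),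
        rs G h1 u = rs G h2 (sf k)) →
      (∀ k (V' : Opens X) (h1 : V' ≤ V) (h2 : V' ≤ extO i hi (W k)),
        rs G h1 u' = rs G h2 (sf k)) → u = u' := by
    intro V hV u u' hP hP'
    refine sec_ext_top G (fun x hx => ?_)
    by_cases hxr : x ∈ Set.range i
    · obtain ⟨z, rfl⟩ := hxr
      obtain ⟨k, hzk⟩ := hidx z (hV hx)
      have hmem : i z ∈ V ⊓ extO i hi (W k) := ⟨hx, hzk⟩
      exact ⟨V ⊓ extO i hi (W k), inf_le_left, hmem,
        (hP k _ inf_le_left inf_le_right).trans (hP' k _ inf_le_left inf_le_right).symm⟩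
    · have hmem : x ∈ V ⊓ Rc i hi := ⟨hx, hxr⟩
      exact ⟨V ⊓ Rc i hi, inf_le_left, hmem, hzero _ inf_le_right _ _⟩
  obtain ⟨v, hv⟩ := glue_sec G (extO i hi (iSup W))
    (fun V hV u => ∀ k (V' : Opens X) (h1 : V' ≤ V) (h2 : V' ≤ extO i hi (W k)),
      rs G h1 u = rs G h2 (sf k))
    (by
      intro V hV u V' h' hP l V'' h1 h2
      rw [rs_rs]
      exact hP l V'' (h1.trans h') h2)
    uniqP
    (by
      intro x hx
      by_cases hxr : x ∈ Set.range i
      · obtain ⟨z, rfl⟩ := hxr
        obtain ⟨k, hzk⟩ := hidx z hx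
        exact ⟨extO i hi (W k), hk k, hzk, sf k, fun l V' h1 h2 => hcomp k l V' h1 h2⟩
      · have hmem : x ∈ extO i hi (iSup W) ⊓ Rc i hi := ⟨hx, hxr⟩
        exact ⟨extO i hi (iSup W) ⊓ Rc i hi, inf_le_left, hmem, 0,
          fun l V' h1 h2 => hzero V' (h1.trans inf_le_right) _ _⟩)
  refine ⟨v, fun k => ?_, fun s' hs' => ?_⟩
  · exact hv (extO i hi (W k)) (hk k) (sf k) (fun l V' h1 h2 => hcomp k l V' h1 h2)
  · have hs'' : ∀ k, rs G (hk k) s' = sf k := hs'
    have hv'' : ∀ k, rs G (hk k) v = sf k := fun k =>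
      hv (extO i hi (W k)) (hk k) (sf k) (fun l V' h1 h2 => hcomp k l V' h1 h2)
    refine uniqP _ le_rfl s' v ?_ ?_
    · intro k V' h1 h2
      rw [← hs'' k, rs_rs]
    · intro k V' h1 h2
      rw [← hv'' k, rs_rs]

/-- the presheaf of `O_Z`-modules -/
noncomputable def Mval : PresheafOfModules.{u} (ringSh OZ).obj :=
  letI : ∀ W : (Opens Z)ᵒᵖ, Module ((ringSh OZ).obj.obj W) ((M0 i hi G).obj W) :=
    fun W => modM i c hi hc hG W.unop
  PresheafOfModules.ofPresheaf (M0 i hi G) (fun W W' g b s => by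
    show rs G (extO_mono i hi (leOfHom g.unop))
        (act i c hc hG (extO i hi W.unop) (rsR (le_of_eq (pre_extO i hi W.unop)) b) s) =
      act i c hc hG (extO i hi W'.unop) (rsR (le_of_eq (pre_extO i hi W'.unop))
        (rsR (leOfHom g.unop) b)) (rs G (extO_mono i hi (leOfHom g.unop)) s)
    rw [← act_rs i c hc hG (extO i hi W.unop) (extO i hi W'.unop)
      (extO_mono i hi (leOfHom g.unop)), rsR_rsR, rsR_rsR])

/-- the `O_Z`-module with `i_* M ≅ G` -/
noncomputable def Mmod : Mod OZ :=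
  ⟨Mval i c hi hc hG, M0_isSheaf i c hi hG⟩

/-- sections of `M` over `W` are sections of `G` over `ext W` -/
def ofM (W : Opens Z) (m : Sec (Mmod i c hi hc hG) W) : Sec G (extO i hi W) := m

lemma ofM_injective (W : Opens Z) : Function.Injective (ofM i c hi hc hG W) := fun _ _ h => h

lemma ofM_rs {W W' : Opens Z} (h : W' ≤ W) (m : Sec (Mmod i c hi hc hG) W) :
    ofM i c hi hc hG W' (rs (Mmod i c hi hc hG) h m) =
      rs G (extO_mono i hi h) (ofM i c hi hc hG W m) := rfl

lemma ofM_smul (W : Opens Z) (b : OZ.obj.obj (op W)) (m : Sec (Mmod i c hi hc hG) W) :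
    ofM i c hi hc hG W (b • m) =
      act i c hc hG (extO i hi W) (rsR (le_of_eq (pre_extO i hi W)) b) (ofM i c hi hc hG W m) :=
  rfl

lemma ofM_add (W : Opens Z) (m m' : Sec (Mmod i c hi hc hG) W) :
    ofM i c hi hc hG W (m + m') = ofM i c hi hc hG W m + ofM i c hi hc hG W m' := rfl

/-- the comparison on sections -/
noncomputable def psiFun (U : Opens X) :
    Sec ((pf i c).push.obj (Mmod i c hi hc hG)) U →+ Sec G U where
  toFun m' := rs G (le_extO_pre i hi U)
    (ofM i c hi hc hG (pre i U) (ofPu (pf i c) (Mmod i c hi hc hG) U m'))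
  map_zero' := by
    show rs G (le_extO_pre i hi U) 0 = 0
    rw [map_zero]
  map_add' m m' := by
    show rs G (le_extO_pre i hi U) (ofM i c hi hc hG (pre i U) (ofPu (pf i c) _ U m) +
      ofM i c hi hc hG (pre i U) (ofPu (pf i c) _ U m')) = _
    rw [map_add]

lemma psiFun_apply (U : Opens X) (m' : Sec ((pf i c).push.obj (Mmod i c hi hc hG)) U) :
    psiFun i c hi hc hG U m' = rs G (le_extO_pre i hi U)
      (ofM i c hi hc hG (pre i U) (ofPu (pf i c) (Mmod i c hi hc hG) U m')) := rfl

/-- the comparison `i_* M ⟶ G` -/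
noncomputable def psi : (pf i c).push.obj (Mmod i c hi hc hG) ⟶ G :=
  mkHom (psiFun i c hi hc hG)
    (fun U V h m' => by
      rw [psiFun_apply, psiFun_apply, ofPu_rs, ofM_rs, rs_rs, rs_rs])
    (fun U a m' => by
      rw [psiFun_apply, psiFun_apply, ofPu_smul, ofM_smul]
      refine act_spec i c hc hG _ _ _ U (le_extO_pre i hi U) a ?_
      rw [rsR_rsR]
      exact (rsR_self _ _).symm)

lemma psi_bijective (U : Opens X) : Function.Bijective (app (psi i c hi hc hG) U) := by
  have hp : pre i (extO i hi (pre i U)) ≤ pre i U := le_of_eq (pre_extO i hi (pre i U))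
  constructor
  · intro m m' h
    have h' : rs G (le_extO_pre i hi U)
        (ofM i c hi hc hG (pre i U) (ofPu (pf i c) (Mmod i c hi hc hG) U m)) =
        rs G (le_extO_pre i hi U)
        (ofM i c hi hc hG (pre i U) (ofPu (pf i c) (Mmod i c hi hc hG) U m')) := h
    exact rs_injective_of_pre i c hi hG (le_extO_pre i hi U) hp h'
  · intro t
    obtain ⟨v, hv⟩ := rs_surjective_of_pre i c hi hG (le_extO_pre i hi U) hp t
    exact ⟨v, hv⟩

include hi hc hG in
theorem essImage_of_kill : (pf i c).push.essImage G := by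
  haveI : Mono (psi i c hi hc hG) :=
    (mono_iff _).2 (fun U => (psi_bijective i c hi hc hG U).1)
  haveI : Epi (psi i c hi hc hG) := by
    rw [epi_iff_top]
    intro U t x hx
    obtain ⟨u, hu⟩ := (psi_bijective i c hi hc hG U).2 t
    exact ⟨U, le_rfl, hx, u, by rw [hu, rs_self]⟩
  haveI : IsIso (psi i c hi hc hG) := isIso_of_mono_of_epi _
  exact ⟨Mmod i c hi hc hG, ⟨asIso (psi i c hi hc hG)⟩⟩

end Ess

include hi in
/-- direct image along a closed embedding with locally surjective comorphism -/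
theorem push_closed_main (hc : Sheaf.IsLocallySurjective c) :
    PreservesFiniteColimits (pf i c).push ∧ (pf i c).push.Full ∧ (pf i c).push.Faithful ∧
      ∀ G : Mod OX, (pf i c).push.essImage G ↔
        ∀ (U : Opens X) (a : OX.obj.obj (op U)), shR (pf i c) U a = 0 →
          ∀ s : Sec G U, a • s = 0 :=
  ⟨push_preservesFiniteColimits i c hi, push_full i c hi hc, push_faithful i c hi,
    fun G => ⟨fun h U a ha s => kill_of_essImage i c h U a ha s,
      fun hG => essImage_of_kill i c hi hc hG⟩⟩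

end Closed

end Groth.Agent.Lib.RSp
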