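import Mathlib
import Groth.Prelude.Def_ModSite2
import Groth.Agent.Lib.RSpU_lead

/-!
# Submodule sheaves on a ringed space from sectionwise data (helper2)

`SubData F`: a family of submodules `P U ≤ F(U)` stable under restriction and local.
`SubData.mod`, `SubData.ι : D.mod ⟶ F` (a monomorphism), `SubData.range_app_ι`.
APPEND-ONLY once landed.
-/

set_option autoImplicit false
set_option linter.unusedSimpArgs false
set_option linter.unusedVariables false
set_option linter.unusedSectionVars false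
set_option linter.style.longLine false
set_option linter.unnecessarySimpa false
set_option maxHeartbeats 1600000
set_option backward.isDefEq.respectTransparency false
set_option backward.isDefEq.respectTransparency.types false
set_option backward.defeqAttrib.useBackward true

universe u

open CategoryTheory Limits Opposite ModSite TopologicalSpace

namespace Groth.Agent.Lib.SubModTopH2

open Groth.Agent.Lib.ModSiteH8 Groth.Agent.Lib.StalkFlatPt Groth.Agent.Lib.StalkFlatA
open Groth.Agent.Lib.FreeFactor Groth.Agent.Lib.RSp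

variable {X : TopCat.{u}} {O : TopCat.Sheaf CommRingCat.{u} X}

/-- sectionwise data of a submodule sheaf -/
structure SubData (F : Mod O) where
  P : ∀ U : Opens X, Submodule ((ringSh O).obj.obj (op U)) (Sec F U)
  rs_mem : ∀ (U V : Opens X) (h : V ≤ U) (s : Sec F U), s ∈ P U → rs F h s ∈ P V
  loc : ∀ (U : Opens X) (s : Sec F U),
    (∀ x ∈ U, ∃ (W : Opens X) (hW : W ≤ U), x ∈ W ∧ rs F hW s ∈ P W) → s ∈ P U

namespace SubData

variable {F : Mod O} (D : SubData F)

/-- the underlying abelian presheaf -/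
noncomputable def M0 : (Opens X)ᵒᵖ ⥤ Ab.{u} where
  obj W := AddCommGrpCat.of (D.P W.unop)
  map {W W'} g := AddCommGrpCat.ofHom
    { toFun := fun s => ⟨rs F (leOfHom g.unop) s.1, D.rs_mem _ _ _ s.1 s.2⟩
      map_zero' := Subtype.ext (map_zero _)
      map_add' := fun a b => Subtype.ext (map_add _ _ _) }
  map_id W := by
    apply AddCommGrpCat.hom_ext
    apply AddMonoidHom.ext
    intro s
    exact Subtype.ext (rs_self F _ s.1)
  map_comp g h := by
    apply AddCommGrpCat.hom_ext
    apply AddMonoidHom.ext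
    intro s
    exact Subtype.ext (rs_rs F _ _ s.1).symm

lemma M0_isSheaf : TopCat.Presheaf.IsSheaf D.M0 := by
  rw [TopCat.Presheaf.isSheaf_iff_isSheafUniqueGluing]
  intro κ W sf hsf
  have hk : ∀ k, W k ≤ iSup W := fun k => le_iSup W k
  have hcomp : ∀ (k l : κ) (V : Opens X) (h1 : V ≤ W k) (h2 : V ≤ W l),
      rs F h1 (sf k).1 = rs F h2 (sf l).1 := by
    intro k l V h1 h2
    have h3 : rs F (inf_le_left : W k ⊓ W l ≤ W k) (sf k).1 =
        rs F (inf_le_right : W k ⊓ W l ≤ W l) (sf l).1 := congrArg Subtype.val (hsf k l)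
    have h4 : V ≤ W k ⊓ W l := le_inf h1 h2
    have h5 := congrArg (rs F h4) h3
    rw [rs_rs, rs_rs] at h5
    exact h5
  have uniqP : ∀ (V : Opens X) (hV : V ≤ iSup W) (u u' : Sec F V),
      (∀ k (V' : Opens X) (h1 : V' ≤ V) (h2 : V' ≤ W k), rs F h1 u = rs F h2 (sf k).1) →
      (∀ k (V' : Opens X) (h1 : V' ≤ V) (h2 : V' ≤ W k), rs F h1 u' = rs F h2 (sf k).1) →
      u = u' := by
    intro V hV u u' hP hP'
    refine sec_ext_top F (fun x hx => ?_)
    obtain ⟨k, hk'⟩ := Opens.mem_iSup.1 (hV hx)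
    have hmem : x ∈ V ⊓ W k := ⟨hx, hk'⟩
    exact ⟨V ⊓ W k, inf_le_left, hmem,
      (hP k _ inf_le_left inf_le_right).trans (hP' k _ inf_le_left inf_le_right).symm⟩
  obtain ⟨v, hv⟩ := glue_sec F (iSup W)
    (fun V hV u => ∀ k (V' : Opens X) (h1 : V' ≤ V) (h2 : V' ≤ W k),
      rs F h1 u = rs F h2 (sf k).1)
    (by
      intro V hV u V' h' hP l V'' h1 h2
      rw [rs_rs]
      exact hP l V'' (h1.trans h') h2)
    uniqP
    (by
      intro x hx
      obtain ⟨k, hk'⟩ := Opens.mem_iSup.1 hx
      exact ⟨W k, hk k, hk', (sf k).1, fun l V' h1 h2 => hcomp k l V' h1 h2⟩)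
  have hv' : ∀ k, rs F (hk k) v = (sf k).1 := fun k =>
    hv (W k) (hk k) (sf k).1 (fun l V' h1 h2 => hcomp k l V' h1 h2)
  have hvP : v ∈ D.P (iSup W) := by
    apply D.loc
    intro x hx
    obtain ⟨k, hk'⟩ := Opens.mem_iSup.1 hx
    refine ⟨W k, hk k, hk', ?_⟩
    rw [hv' k]
    exact (sf k).2
  refine ⟨⟨v, hvP⟩, fun k => ?_, fun s' hs' => ?_⟩
  · exact Subtype.ext (hv' k)
  · have hs'' : ∀ k, rs F (hk k) s'.1 = (sf k).1 := fun k => congrArg Subtype.val (hs' k)
    apply Subtype.ext
    refine uniqP _ le_rfl s'.1 v ?_ ?_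
    · intro k V' h1 h2
      rw [← hs'' k, rs_rs]
    · intro k V' h1 h2
      rw [← hv' k, rs_rs]

/-- the presheaf of modules -/
noncomputable def Mval : PresheafOfModules.{u} (ringSh O).obj :=
  letI : ∀ W : (Opens X)ᵒᵖ, Module ((ringSh O).obj.obj W) (D.M0.obj W) :=
    fun W => (D.P W.unop).module
  PresheafOfModules.ofPresheaf D.M0 (fun W W' g b s => by
    apply Subtype.ext
    exact rs_smul F (leOfHom g.unop) b s.1)

/-- the submodule sheaf -/
noncomputable def mod : Mod O := ⟨D.Mval, D.M0_isSheaf⟩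

/-- sections of the submodule sheaf as sections of `F` -/
def ofS (W : Opens X) (m : Sec D.mod W) : Sec F W := (show D.P W from m).1

lemma ofS_mem (W : Opens X) (m : Sec D.mod W) : D.ofS W m ∈ D.P W := (show D.P W from m).2

lemma ofS_injective (W : Opens X) : Function.Injective (D.ofS W) := fun _ _ h => Subtype.ext h

/-- a section of `F` in `P` as a section of the submodule sheaf -/
def toS (W : Opens X) (s : Sec F W) (hs : s ∈ D.P W) : Sec D.mod W := (⟨s, hs⟩ : D.P W)

lemma ofS_toS (W : Opens X) (s : Sec F W) (hs : s ∈ D.P W) : D.ofS W (D.toS W s hs) = s := rfl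

lemma ofS_rs {W W' : Opens X} (h : W' ≤ W) (m : Sec D.mod W) :
    D.ofS W' (rs D.mod h m) = rs F h (D.ofS W m) := rfl

lemma ofS_smul (W : Opens X) (b : O.obj.obj (op W)) (m : Sec D.mod W) :
    D.ofS W (b • m) = b • D.ofS W m := rfl

lemma ofS_add (W : Opens X) (m m' : Sec D.mod W) :
    D.ofS W (m + m') = D.ofS W m + D.ofS W m' := rfl

lemma ofS_zero (W : Opens X) : D.ofS W (0 : Sec D.mod W) = 0 := rfl

/-- the inclusion -/
noncomputable def ι : D.mod ⟶ F :=
  mkHom (fun U => { toFun := D.ofS U, map_zero' := D.ofS_zero U, map_add' := D.ofS_add U })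
    (fun U V h m => D.ofS_rs h m) (fun U a m => D.ofS_smul U a m)

lemma app_ι (U : Opens X) (m : Sec D.mod U) : app D.ι U m = D.ofS U m := rfl

instance mono_ι : Mono D.ι := (mono_iff _).2 (fun U => D.ofS_injective U)

lemma range_app_ι (U : Opens X) : Set.range (app D.ι U) = (D.P U : Set (Sec F U)) := by
  ext s
  constructor
  · rintro ⟨m, rfl⟩
    exact D.ofS_mem U m
  · intro hs
    exact ⟨D.toS U s hs, rfl⟩

end SubData

end Groth.Agent.Lib.SubModTopH2
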