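import Mathlib
import Groth.Prelude
import Groth.Agent.Lib.RSpU_lead
import Groth.Agent.Lib.SubModTop1_helper2

/-!
# Sections of the right adjoint of `i_*` for a closed immersion (helper2)

Ringed spaces: for a closed embedding `i` with locally surjective comorphism and any right adjoint
`R` of `i_*`, the counit `i_* R F ⟶ F` is a monomorphism whose image on sections over `U` is the
set of sections killed (on all smaller opens) by the kernel of `i♯`.
Schemes: **S3669**.
APPEND-ONLY once landed.
-/

set_option autoImplicit false
set_option linter.unusedSimpArgs false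
set_option linter.unusedVariables false
set_option linter.unusedSectionVars false
set_option linter.style.longLine false
set_option linter.unnecessarySimpa false
set_option maxHeartbeats 1600000
set_option backward.isDefEq.respectTransparency false
set_option backward.isDefEq.respectTransparency.types false
set_option backward.defeqAttrib.useBackward true

universe u

open CategoryTheory Limits Opposite ModSite TopologicalSpace

namespace Groth.Agent.Lib.ClAdjSecH2

open Groth.Agent.Lib.ModSiteH8 Groth.Agent.Lib.StalkFlatPt Groth.Agent.Lib.StalkFlatA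
open Groth.Agent.Lib.FreeFactor Groth.Agent.Lib.RSp Groth.Agent.Lib.SubModTopH2

section Closed

variable {Z X : TopCat.{u}} (i : Z ⟶ X) {OZ : TopCat.Sheaf CommRingCat.{u} Z}
  {OX : TopCat.Sheaf CommRingCat.{u} X}
  (c : OX ⟶ ((Opens.map i).sheafPushforwardContinuous CommRingCat.{u}
      (Opens.grothendieckTopology X) (Opens.grothendieckTopology Z)).obj OZ)

/-- the sections of `F` killed by the kernel of `i♯` on all smaller opens -/
def IsKilled (F : Mod OX) (U : Opens X) (s : Sec F U) : Prop :=
  ∀ (W : Opens X) (hW : W ≤ U) (a : OX.obj.obj (op W)), shR (pf i c) W a = 0 → a • rs F hW s = 0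

lemma smul_comm' (F : Mod OX) (W : Opens X) (a b : OX.obj.obj (op W)) (s : Sec F W) :
    a • (b • s) = b • (a • s) := by
  have h1 : a • (b • s) = (a * b) • s := (mul_smul a b s).symm
  have h2 : b • (a • s) = (b * a) • s := (mul_smul b a s).symm
  rw [h1, h2, mul_comm]

/-- the submodule sheaf of sections killed by the kernel of `i♯` -/
def killedSub (F : Mod OX) : SubData F where
  P U :=
    { carrier := {s | IsKilled i c F U s}
      add_mem' := by
        intro s t hs ht W hW a ha
        rw [map_add, smul_add, hs W hW a ha, ht W hW a ha, add_zero]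
      zero_mem' := by
        intro W hW a ha
        rw [map_zero, smul_zero]
      smul_mem' := by
        intro b s hs W hW a ha
        have h1 : rs F hW (b • s) = rsR hW b • rs F hW s := rs_smul F hW b s
        rw [h1, smul_comm', hs W hW a ha, smul_zero] }
  rs_mem := by
    intro U V h s hs W hW a ha
    rw [rs_rs]
    exact hs W (hW.trans h) a ha
  loc := by
    intro U s hloc W hW a ha
    refine sec_ext_top F (fun x hx => ?_)
    obtain ⟨Wx, hWx, hxWx, hP⟩ := hloc x (hW hx)
    refine ⟨W ⊓ Wx, inf_le_left, ⟨hx, hxWx⟩, ?_⟩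
    rw [map_zero, rs_smul, rs_rs]
    have h1 : shR (pf i c) (W ⊓ Wx) (rsR (inf_le_left : W ⊓ Wx ≤ W) a) = 0 := by
      rw [shR_rsR, ha, map_zero]
    have h2 := hP (W ⊓ Wx) inf_le_right _ h1
    rw [rs_rs] at h2
    exact h2

lemma mem_killedSub (F : Mod OX) (U : Opens X) (s : Sec F U) :
    s ∈ (killedSub i c F).P U ↔ IsKilled i c F U s := Iff.rfl

/-- pushforwards are killed by the kernel of `i♯` -/
theorem killed_push (T : Mod OZ) (U : Opens X) (a : OX.obj.obj (op U))
    (ha : shR (pf i c) U a = 0) (s : Sec ((pf i c).push.obj T) U) : a • s = 0 :=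
  kill_of_essImage i c ((pf i c).push.obj_mem_essImage T) U a ha s

variable (hi : Topology.IsClosedEmbedding i) (hc : Sheaf.IsLocallySurjective c)
variable {R : Mod OX ⥤ Mod OZ} (adj : (pf i c).push ⊣ R) (F : Mod OX)

include hi hc in
/-- the counit of any adjunction `i_* ⊣ R` is a monomorphism -/
theorem mono_counit : Mono (adj.counit.app F) := by
  have hK : ∀ (U : Opens X) (a : OX.obj.obj (op U)), shR (pf i c) U a = 0 →
      ∀ s : Sec (kernel (adj.counit.app F)) U, a • s = 0 := by
    intro U a ha s
    have hinj := (mono_iff (kernel.ι (adj.counit.app F))).1 inferInstance U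
    apply hinj
    rw [app_smul, killed_push i c _ U a ha, map_zero]
  obtain ⟨T', ⟨e'⟩⟩ := essImage_of_kill i c hi hc hK
  haveI := push_full i c hi hc
  obtain ⟨φ, hφ⟩ := (pf i c).push.map_surjective (e'.hom ≫ kernel.ι (adj.counit.app F))
  have h0 : (pf i c).push.map φ ≫ adj.counit.app F = 0 := by
    rw [hφ, Category.assoc, kernel.condition, comp_zero]
  have hφ0 : φ = 0 := by
    apply (adj.homEquiv T' F).symm.injective
    rw [Adjunction.homEquiv_counit, h0, Adjunction.homEquiv_counit, Functor.map_zero, zero_comp]
  have hκ : kernel.ι (adj.counit.app F) = 0 := by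
    have h1 : e'.hom ≫ kernel.ι (adj.counit.app F) = 0 := by
      rw [← hφ, hφ0, Functor.map_zero]
    rw [← cancel_epi e'.hom, h1, comp_zero]
  exact Preadditive.mono_of_kernel_zero hκ

include hi hc in
/-- the image of the counit on sections -/
theorem range_counit (U : Opens X) :
    Set.range (app (adj.counit.app F) U) = {s | IsKilled i c F U s} := by
  ext s
  constructor
  · rintro ⟨m, rfl⟩ W hW a ha
    have h1 : rs F hW (app (adj.counit.app F) U m) =
        app (adj.counit.app F) W (rs ((pf i c).push.obj (R.obj F)) hW m) :=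
      (app_rs (adj.counit.app F) hW m).symm
    have h2 : a • app (adj.counit.app F) W (rs ((pf i c).push.obj (R.obj F)) hW m) =
        app (adj.counit.app F) W (a • rs ((pf i c).push.obj (R.obj F)) hW m) :=
      (app_smul (adj.counit.app F) W a _).symm
    rw [h1, h2, killed_push i c (R.obj F) W a ha, map_zero]
  · intro hs
    have hD : ∀ (U : Opens X) (a : OX.obj.obj (op U)), shR (pf i c) U a = 0 →
        ∀ s : Sec (killedSub i c F).mod U, a • s = 0 := by
      intro U a ha s
      apply (killedSub i c F).ofS_injective U
      rw [SubData.ofS_smul, SubData.ofS_zero]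
      have h1 := (killedSub i c F).ofS_mem U s U le_rfl a ha
      rw [rs_self] at h1
      exact h1
    obtain ⟨T, ⟨e⟩⟩ := essImage_of_kill i c hi hc hD
    have h2 : e.hom ≫ (killedSub i c F).ι =
        (pf i c).push.map (adj.homEquiv T F (e.hom ≫ (killedSub i c F).ι)) ≫ adj.counit.app F := by
      have h := adj.homEquiv_counit (X := T) (Y := F)
        (adj.homEquiv T F (e.hom ≫ (killedSub i c F).ι))
      rw [Equiv.symm_apply_apply] at h
      exact h
    have h3 : (killedSub i c F).ι = e.inv ≫
        (pf i c).push.map (adj.homEquiv T F (e.hom ≫ (killedSub i c F).ι)) ≫ adj.counit.app F := by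
      rw [← h2, Iso.inv_hom_id_assoc]
    refine ⟨app ((pf i c).push.map (adj.homEquiv T F (e.hom ≫ (killedSub i c F).ι))) U
      (app e.inv U ((killedSub i c F).toS U s hs)), ?_⟩
    have h4 := congrArg (fun φ => app φ U ((killedSub i c F).toS U s hs)) h3
    exact h4.symm

end Closed

section Sch

open AlgebraicGeometry

variable {Z X : Scheme.{u}} (i : Z ⟶ X)

/-- the comorphism of a morphism of schemes as a morphism of sheaves of rings -/
noncomputable def cOf : X.sheaf ⟶ ((Opens.map i.base).sheafPushforwardContinuous CommRingCat.{u}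
    (Opens.grothendieckTopology X) (Opens.grothendieckTopology Z)).obj Z.sheaf :=
  { hom := i.c }

/-- the adjunction `i_* ⊣ Hom(O_Z, -)` in the language of ringed spaces -/
noncomputable def adjOf [Dual3.HasHomO i] :
    (pf i.base (cOf i)).push ⊣ (Dual3.homO i : ModSite.Mod X.sheaf ⥤ ModSite.Mod Z.sheaf) :=
  Dual3.homOAdj i

variable [IsClosedImmersion i]

theorem isLocallySurjective_cOf : Sheaf.IsLocallySurjective (cOf i) := by
  constructor
  intro U s x hx
  obtain ⟨_, ⟨W, hW : IsAffineOpen W, rfl⟩, hxW, hle⟩ :=
    X.isBasis_affineOpens.exists_subset_of_mem_open hx U.isOpen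
  refine ⟨W, homOfLE hle, ?_, hxW⟩
  obtain ⟨t, ht⟩ := i.app_surjective W hW
    ((((Opens.map i.base).sheafPushforwardContinuous CommRingCat.{u}
      (Opens.grothendieckTopology X) (Opens.grothendieckTopology Z)).obj Z.sheaf).obj.map
        (homOfLE hle).op s)
  exact ⟨t, ht⟩

/-- **S3669** -/
theorem main3669 [Dual3.HasHomO i] (F : X.Modules) (U : X.affineOpens) :
    Function.Injective ⇑(ConcreteCategory.hom
      (((Dual3.homOAdj i).counit.app F).val.app (Opposite.op U.1))) ∧
    Set.range ⇑(ConcreteCategory.hom
      (((Dual3.homOAdj i).counit.app F).val.app (Opposite.op U.1))) =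
      ((LocCoh.torsionBy (i.ker.ideal U) (F.val.obj (Opposite.op U.1)) :
        Submodule Γ(X, U.1) (F.val.obj (Opposite.op U.1))) :
        Set (F.val.obj (Opposite.op U.1))) := by
  have hi : Topology.IsClosedEmbedding i.base := i.isClosedEmbedding
  have hc := isLocallySurjective_cOf i
  have hmono := mono_counit i.base (cOf i) hi hc (adjOf i) F
  have hinj := (mono_iff _).1 hmono U.1
  have hrange := range_counit i.base (cOf i) hi hc (adjOf i) F U.1
  refine ⟨hinj, hrange.trans ?_⟩
  ext t
  constructor
  · intro ht
    refine (Submodule.mem_torsionBySet_iff _ t).2 ?_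
    rintro ⟨a, ha⟩
    have ha' : shR (pf i.base (cOf i)) U.1 a = 0 := by
      rw [SetLike.mem_coe, Scheme.Hom.ker_apply, RingHom.mem_ker] at ha
      exact ha
    have h1 := ht U.1 le_rfl a ha'
    rw [rs_self] at h1
    exact h1
  · intro ht W hW a ha
    replace ht := (Submodule.mem_torsionBySet_iff _ t).1 ht
    refine sec_ext_top F (fun x hx => ?_)
    obtain ⟨f, hfW, hxf⟩ := U.2.exists_basicOpen_le (V := W) ⟨x, hx⟩ (hW hx)
    refine ⟨X.basicOpen f, hfW, hxf, ?_⟩
    rw [map_zero, rs_smul, rs_rs]
    have ha' : rsR hfW a ∈ i.ker.ideal (X.affineBasicOpen f) := by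
      rw [Scheme.Hom.ker_apply, RingHom.mem_ker]
      have h1 := shR_rsR i.base (cOf i) hfW a
      rw [ha, map_zero] at h1
      exact h1
    rw [← i.ker.map_ideal_basicOpen U f] at ha'
    let K : Ideal Γ(X, X.basicOpen f) :=
      { carrier := {y | y • rs F (hfW.trans hW) t = 0}
        add_mem' := by
          intro y z hy hz
          show (y + z) • rs F (hfW.trans hW) t = 0
          rw [add_smul, hy, hz, add_zero]
        zero_mem' := zero_smul _ _
        smul_mem' := by
          intro r y hy
          show (r * y) • rs F (hfW.trans hW) t = 0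
          rw [mul_smul, hy, smul_zero] }
    have hle : Ideal.map (X.presheaf.map (homOfLE (X.basicOpen_le f)).op).hom (i.ker.ideal U) ≤ K := by
      rw [Ideal.map_le_iff_le_comap]
      intro b hb
      show (X.presheaf.map (homOfLE (X.basicOpen_le f)).op).hom b • rs F (hfW.trans hW) t = 0
      have h1 := rs_smul F (hfW.trans hW) b t
      have h2 : b • t = 0 := ht ⟨b, hb⟩
      rw [h2, map_zero] at h1
      exact h1.symm
    exact hle ha'

end Sch

end Groth.Agent.Lib.ClAdjSecH2
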