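import Mathlib
import Groth.Prelude
import Groth.Agent.Lib.DerCoprod_lead

/-!
# The cohomology functors of a derived category commute with direct sums (helper3)

* `isColimit_cofan_of_iso`: transport of colimit cofans along isomorphisms;
* `isColimit_homology_cofan`: for a family of complexes `K j` in an abelian category with exact
  coproducts, `Hⁱ(⨁ K j)` with the maps induced by the inclusions is the coproduct of the `Hⁱ(K j)`;
* `preservesColimit_homologyFunctor`: the functor `Hⁿ : D(A) ⥤ A` preserves coproducts.
-/

set_option autoImplicit false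
set_option linter.all false
set_option maxHeartbeats 1600000
set_option backward.isDefEq.respectTransparency false
set_option backward.isDefEq.respectTransparency.types false
set_option backward.defeqAttrib.useBackward true

open CategoryTheory CategoryTheory.Limits

namespace Groth.Agent.Lib.HomCoprodH3

universe w' w v u

section Transport

variable {C : Type u} [Category.{v} C] {J : Type w}

/-- transport of a colimit cofan along isomorphisms -/
noncomputable def isColimit_cofan_of_iso {a b : J → C} {P P' : C} (inj : ∀ j, b j ⟶ P)
    (inj' : ∀ j, a j ⟶ P') (ε : ∀ j, a j ≅ b j) (φ : P' ≅ P)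
    (h : ∀ j, inj' j ≫ φ.hom = (ε j).hom ≫ inj j) (hc : IsColimit (Cofan.mk P inj)) :
    IsColimit (Cofan.mk P' inj') :=
  mkCofanColimit _ (fun t => φ.hom ≫ Cofan.IsColimit.desc hc (fun j => (ε j).inv ≫ t.inj j))
    (fun t j => by
      have h1 : inj j ≫ Cofan.IsColimit.desc hc (fun j => (ε j).inv ≫ t.inj j) =
          (ε j).inv ≫ t.inj j := Cofan.IsColimit.fac hc _ j
      show inj' j ≫ φ.hom ≫ _ = _
      rw [← Category.assoc, h j, Category.assoc, h1, Iso.hom_inv_id_assoc])
    (fun t m hm => by
      rw [← Iso.inv_comp_eq]
      refine Cofan.IsColimit.hom_ext hc _ _ (fun j => ?_)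
      have h1 : inj j ≫ Cofan.IsColimit.desc hc (fun j => (ε j).inv ≫ t.inj j) =
          (ε j).inv ≫ t.inj j := Cofan.IsColimit.fac hc _ j
      have h2 : inj j ≫ φ.inv = (ε j).inv ≫ inj' j := by
        rw [Iso.comp_inv_eq, Category.assoc, h j, Iso.inv_hom_id_assoc]
      show inj j ≫ φ.inv ≫ m = inj j ≫ _
      rw [h1, ← Category.assoc, h2, Category.assoc]
      exact congrArg (fun x => (ε j).inv ≫ x) (hm j))

/-- the colimit of a functor from a discrete category, as a cofan -/
noncomputable def isColimit_cofan_colimit (G : Discrete J ⥤ C) [HasColimit G] :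
    IsColimit (Cofan.mk (colimit G) (fun j => colimit.ι G ⟨j⟩) :
      Cofan (fun j => G.obj ⟨j⟩)) :=
  mkCofanColimit _
    (fun t => colimit.desc G ⟨t.pt, Discrete.natTrans (fun j => t.inj j.as)⟩)
    (fun t j => by
      show colimit.ι G ⟨j⟩ ≫ colimit.desc G _ = _
      rw [colimit.ι_desc]
      rfl)
    (fun t m hm => by
      have h1 : ∀ (m' : colimit G ⟶ t.pt), (∀ j : J, colimit.ι G ⟨j⟩ ≫ m' = t.inj j) →
          m' = colimit.desc G ⟨t.pt, Discrete.natTrans (fun j => t.inj j.as)⟩ := by
        intro m' hm'
        apply colimit.hom_ext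
        rintro ⟨j⟩
        rw [colimit.ι_desc]
        exact hm' j
      exact h1 m hm)

end Transport

section Chain

variable {A : Type u} [Category.{v} A] [Abelian A] {J : Type w}
  [HasColimitsOfShape (Discrete J) A] (K : J → CochainComplex A ℤ)

/-- the inclusion of the `j`-th value into the colimit, as a natural transformation -/
noncomputable def evToColim (j : J) :
    (evaluation (Discrete J) A).obj ⟨j⟩ ⟶ (colim : (Discrete J ⥤ A) ⥤ A) where
  app F := colimit.ι F ⟨j⟩
  naturality F G η := by
    simp

variable [HasExactColimitsOfShape (Discrete J) A]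

/-- homology of a direct sum of complexes, with the canonical maps -/
theorem isColimit_homology_cofan (i : ℤ) :
    Nonempty (IsColimit (Cofan.mk ((DerCoprod.sigma K).homology i)
      (fun j => HomologicalComplex.homologyMap (DerCoprod.ι K j) i))) := by
  haveI : (colim (J := Discrete J) (C := A)).IsLeftAdjoint := colimConstAdj.isLeftAdjoint
  haveI : PreservesFiniteColimits (colim (J := Discrete J) (C := A)) :=
    ⟨fun _ _ _ => inferInstance⟩
  haveI : ∀ j : Discrete J, PreservesFiniteLimits ((evaluation (Discrete J) A).obj j) :=
    fun j => ⟨fun _ _ _ => inferInstance⟩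
  haveI : ∀ j : Discrete J, PreservesFiniteColimits ((evaluation (Discrete J) A).obj j) :=
    fun j => ⟨fun _ _ _ => inferInstance⟩
  let S := DerCoprod.scF K i
  let G : Discrete J ⥤ A := S.homology
  have hG := isColimit_cofan_colimit G
  refine ⟨isColimit_cofan_of_iso (a := fun j => (K j).homology i) (b := fun j => G.obj ⟨j⟩)
    (P := colimit G) (P' := (DerCoprod.sigma K).homology i)
    (fun j => colimit.ι G ⟨j⟩) _
    (fun j => S.mapHomologyIso ((evaluation (Discrete J) A).obj ⟨j⟩))
    (S.mapHomologyIso colim) ?_ hG⟩
  intro j
  have h1 := NatTrans.app_homology (evToColim (A := A) j) S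
  have h2 : (S.mapHomologyIso ((evaluation (Discrete J) A).obj ⟨j⟩)).hom ≫
      (evToColim (A := A) j).app S.homology =
      ShortComplex.homologyMap (S.mapNatTrans (evToColim (A := A) j)) ≫
        (S.mapHomologyIso colim).hom := by
    rw [h1, Iso.hom_inv_id_assoc]
  exact h2.symm

end Chain

section Derived

variable {A : Type u} [Category.{v} A] [Abelian A] [HasDerivedCategory.{w'} A] {J : Type w}
  [HasColimitsOfShape (Discrete J) A] [HasExactColimitsOfShape (Discrete J) A]
  (hE : ∀ Y : DerivedCategory A, ∃ (I : CochainComplex A ℤ),
    CochainComplex.IsKInjective I ∧ Nonempty (DerivedCategory.Q.obj I ≅ Y))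

include hE in
/-- the cohomology functors on the derived category commute with direct sums -/
theorem preservesColimit_homologyFunctor (K : J → DerivedCategory A) (n : ℤ) :
    PreservesColimit (Discrete.functor K) (DerivedCategory.homologyFunctor A n) := by
  let F : J → CochainComplex A ℤ := fun j => DerivedCategory.Q.objPreimage (K j)
  let e : ∀ j, DerivedCategory.Q.obj (F j) ≅ K j :=
    fun j => DerivedCategory.Q.objObjPreimageIso (K j)
  have hcolim := DerCoprod.isColimitCofan F hE
  obtain ⟨hch⟩ := isColimit_homology_cofan F n
  let fac := DerivedCategory.homologyFunctorFactors A n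
  have hD : IsColimit (Cofan.mk ((DerivedCategory.homologyFunctor A n).obj
      (DerivedCategory.Q.obj (DerCoprod.sigma F)))
      (fun j => (DerivedCategory.homologyFunctor A n).map
        (DerivedCategory.Q.map (DerCoprod.ι F j)))) :=
    isColimit_cofan_of_iso
      (a := fun j => (DerivedCategory.homologyFunctor A n).obj (DerivedCategory.Q.obj (F j)))
      (b := fun j => (F j).homology n)
      (fun j => HomologicalComplex.homologyMap (DerCoprod.ι F j) n) _
      (fun j => fac.app (F j)) (fac.app (DerCoprod.sigma F))
      (fun j => fac.hom.naturality (DerCoprod.ι F j)) hch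
  haveI : PreservesColimit (Discrete.functor (fun j => DerivedCategory.Q.obj (F j)))
      (DerivedCategory.homologyFunctor A n) :=
    preservesColimit_of_preserves_colimit_cocone hcolim
      ((isColimitMapCoconeCofanMkEquiv _ _ _).symm hD)
  exact preservesColimit_of_iso_diagram _
    (Discrete.natIso (F := Discrete.functor (fun j => DerivedCategory.Q.obj (F j)))
      (G := Discrete.functor K) (fun j => e j.as))

end Derived

end Groth.Agent.Lib.HomCoprodH3
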