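import Mathlib
import Groth.Prelude
import Groth.Agent.Lib.HomCoprod1_helper3
import Groth.Agent.Lib.HocolimHomological_helper9

/-!
# Recognising homotopy colimits in a derived category by cohomology (helper3)

* `isColimitOfEventuallyIso` (copied from helper7's `PerfCpt3`);
* `isHocolim_of_eventually_iso`: a compatible system `iₙ : Eₙ ⟶ K` in `D(A)` such that for every
  `j` the maps `Hʲ(iₙ)` are isomorphisms for `n` large exhibits `K` as a homotopy colimit;
* `isIso_truncGE_map_iff`: `τ_{≥a}(φ)` is an isomorphism iff `Hʲ(φ)` is one for all `j ≥ a`.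
-/

set_option autoImplicit false
set_option linter.all false
set_option maxHeartbeats 1600000
set_option backward.isDefEq.respectTransparency false
set_option backward.isDefEq.respectTransparency.types false
set_option backward.defeqAttrib.useBackward true

open CategoryTheory CategoryTheory.Limits CategoryTheory.Pretriangulated DerivedCategory

namespace Groth.Agent.Lib.HocolimPerfH3

universe w' w v u

/-- a cocone over `ℕ` whose legs are eventually isomorphisms is a colimit -/
noncomputable def isColimitOfEventuallyIso {C : Type*} [Category C] {F : ℕ ⥤ C} (s : Cocone F)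
    (N : ℕ) (h : ∀ m, N ≤ m → IsIso (s.ι.app m)) : IsColimit s where
  desc t := (haveI := h N le_rfl; inv (s.ι.app N)) ≫ t.ι.app N
  fac t m := by
    haveI := h N le_rfl
    rcases le_total m N with hm | hm
    · rw [← s.w (homOfLE hm), Category.assoc, IsIso.hom_inv_id_assoc, t.w]
    · haveI := h m hm
      have e1 : inv (s.ι.app N) ≫ F.map (homOfLE hm) = inv (s.ι.app m) := by
        rw [IsIso.inv_comp_eq, ← s.w (homOfLE hm), Category.assoc, IsIso.hom_inv_id,
          Category.comp_id]
      rw [← t.w (homOfLE hm), reassoc_of% e1, IsIso.hom_inv_id_assoc]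
  uniq t m' hm := by
    haveI := h N le_rfl
    rw [← hm N, IsIso.inv_hom_id_assoc]

section Hocolim

variable {A : Type u} [Category.{v} A] [Abelian A] [HasDerivedCategory.{w'} A]
  [HasColimitsOfShape (Discrete ℕ) (DerivedCategory A)]
  [HasColimitsOfShape ℕ A] [HasExactColimitsOfShape ℕ A]
  [∀ j : ℤ, PreservesColimitsOfShape (Discrete ℕ) (homologyFunctor A j)]

theorem isHocolim_of_eventually_iso (E : ℕ → DerivedCategory A) (f : ∀ n, E n ⟶ E (n + 1))
    (K : DerivedCategory A) (i : ∀ n, E n ⟶ K) (hfi : ∀ n, f n ≫ i (n + 1) = i n)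
    (hiso : ∀ j : ℤ, ∃ N : ℕ, ∀ n, N ≤ n → IsIso ((homologyFunctor A j).map (i n))) :
    DerLim.IsHocolim E f K i := by
  obtain ⟨L, π, c, hT⟩ := distinguished_cocone_triangle (𝟙 (∐ E) - DerLim.shiftMap E f)
  have hz : (𝟙 (∐ E) - DerLim.shiftMap E f) ≫ Sigma.desc i = 0 := by
    apply Sigma.hom_ext
    intro n
    rw [Preadditive.sub_comp, Preadditive.comp_sub, Category.id_comp, comp_zero]
    unfold DerLim.shiftMap
    rw [Sigma.ι_desc, Sigma.ι_desc_assoc, Category.assoc, Sigma.ι_desc, hfi, sub_self]
  obtain ⟨φ, hφ⟩ := Triangle.yoneda_exact₂ _ hT (Sigma.desc i) hz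
  have hφ' : ∀ n, Sigma.ι E n ≫ π ≫ φ = i n := by
    intro n
    have h1 : π ≫ φ = Sigma.desc i := hφ.symm
    rw [h1, Sigma.ι_desc]
  have hπ : Sigma.desc (fun n => Sigma.ι E n ≫ π) = π := by
    apply Sigma.hom_ext
    intro n
    rw [Sigma.ι_desc]
  have hL : DerLim.IsHocolim E f L (fun n => Sigma.ι E n ≫ π) := by
    refine ⟨c, ?_⟩
    rw [hπ]
    exact hT
  haveI : IsIso φ := by
    rw [DerivedCategory.isIso_iff]
    intro j
    obtain ⟨e, he⟩ := HocolimHomological.exists_iso (homologyFunctor A j) E f L
      (fun n => Sigma.ι E n ≫ π) hL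
    obtain ⟨N, hN⟩ := hiso j
    let F : ℕ ⥤ A := Functor.ofSequence (fun n => (homologyFunctor A j).map (f n))
    let s : Cocone F :=
      { pt := (homologyFunctor A j).obj K
        ι := NatTrans.ofSequence (fun n => (homologyFunctor A j).map (i n)) (by
          intro n
          show F.map (homOfLE (n.le_add_right 1)) ≫ _ = _ ≫ 𝟙 _
          rw [Functor.ofSequence_map_homOfLE_succ, ← Functor.map_comp, hfi, Category.comp_id]) }
    have hs : IsColimit s := isColimitOfEventuallyIso s N (fun m hm => hN m hm)
    let e' : colimit F ≅ (homologyFunctor A j).obj K := colimit.isoColimitCocone ⟨s, hs⟩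
    have he' : ∀ n, colimit.ι F n ≫ e'.hom = (homologyFunctor A j).map (i n) := by
      intro n
      exact colimit.isoColimitCocone_ι_hom ⟨s, hs⟩ n
    have h2 : e.hom ≫ (homologyFunctor A j).map φ = e'.hom := by
      apply colimit.hom_ext
      intro n
      rw [← Category.assoc, he n, he' n, ← Functor.map_comp, Category.assoc, hφ' n]
    have h3 : (homologyFunctor A j).map φ = e.inv ≫ e'.hom := by
      rw [← h2, Iso.inv_hom_id_assoc]
    rw [h3]
    infer_instance
  refine ⟨inv φ ≫ c, ?_⟩
  refine isomorphic_distinguished _ hT _ ?_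
  refine Triangle.isoMk _ _ (Iso.refl _) (Iso.refl _) (asIso φ).symm ?_ ?_ ?_
  · simp
  · show Sigma.desc i ≫ inv φ = 𝟙 _ ≫ π
    have h1 : π ≫ φ = Sigma.desc i := hφ.symm
    rw [← h1, Category.assoc, IsIso.hom_inv_id, Category.comp_id, Category.id_comp]
  · simp

end Hocolim

section Trunc

variable {A : Type u} [Category.{v} A] [Abelian A] [HasDerivedCategory.{w'} A]

/-- the canonical t-structure -/
noncomputable abbrev tS : Triangulated.TStructure (DerivedCategory A) := DerivedCategory.TStructure.t

lemma isIso_homology_truncGEπ (X : DerivedCategory A) (a i : ℤ) (h : a ≤ i) :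
    IsIso ((homologyFunctor A i).map ((tS.truncGEπ a).app X)) := by
  have hT := (tS (A := A)).triangleLTGE_distinguished a X
  have hz : ∀ j, a ≤ j → IsZero ((homologyFunctor A j).obj ((tS.truncLT a).obj X)) := fun j hj =>
    haveI : (tS (A := A)).IsLE ((tS.truncLT a).obj X) (a - 1) := inferInstance
    DerivedCategory.isZero_of_isLE _ (a - 1) j (by omega)
  haveI : Mono ((homologyFunctor A i).map ((tS.truncGEπ a).app X)) :=
    (HomologySequence.mono_homologyMap_mor₂_iff _ hT i).2 ((hz i h).eq_of_src _ _)
  haveI : Epi ((homologyFunctor A i).map ((tS.truncGEπ a).app X)) :=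
    (HomologySequence.epi_homologyMap_mor₂_iff _ hT i (i + 1) rfl).2
      ((hz (i + 1) (by omega)).eq_of_tgt _ _)
  exact isIso_of_mono_of_epi _

theorem isIso_truncGE_map_iff {X Y : DerivedCategory A} (φ : X ⟶ Y) (a : ℤ) :
    IsIso ((tS.truncGE a).map φ) ↔ ∀ j : ℤ, a ≤ j → IsIso ((homologyFunctor A j).map φ) := by
  have hnat : ∀ j : ℤ, (homologyFunctor A j).map φ ≫
      (homologyFunctor A j).map ((tS.truncGEπ a).app Y) =
      (homologyFunctor A j).map ((tS.truncGEπ a).app X) ≫
        (homologyFunctor A j).map ((tS.truncGE a).map φ) := by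
    intro j
    rw [← Functor.map_comp, ← Functor.map_comp]
    congr 1
    exact (tS.truncGEπ a).naturality φ
  constructor
  · intro h j hj
    haveI := isIso_homology_truncGEπ X a j hj
    haveI := isIso_homology_truncGEπ Y a j hj
    have h1 : (homologyFunctor A j).map φ =
        ((homologyFunctor A j).map ((tS.truncGEπ a).app X) ≫
          (homologyFunctor A j).map ((tS.truncGE a).map φ)) ≫
            inv ((homologyFunctor A j).map ((tS.truncGEπ a).app Y)) := by
      rw [← hnat j, Category.assoc, IsIso.hom_inv_id, Category.comp_id]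
    rw [h1]
    infer_instance
  · intro h
    rw [DerivedCategory.isIso_iff]
    intro j
    by_cases hj : a ≤ j
    · haveI := isIso_homology_truncGEπ X a j hj
      haveI := isIso_homology_truncGEπ Y a j hj
      haveI := h j hj
      have h1 : (homologyFunctor A j).map ((tS.truncGE a).map φ) =
          inv ((homologyFunctor A j).map ((tS.truncGEπ a).app X)) ≫
            (homologyFunctor A j).map φ ≫
              (homologyFunctor A j).map ((tS.truncGEπ a).app Y) := by
        rw [hnat j, IsIso.inv_hom_id_assoc]
      rw [h1]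
      infer_instance
    · have hzX : IsZero ((homologyFunctor A j).obj ((tS.truncGE a).obj X)) :=
        haveI : (tS (A := A)).IsGE ((tS.truncGE a).obj X) a := inferInstance
        DerivedCategory.isZero_of_isGE _ a j (by omega)
      have hzY : IsZero ((homologyFunctor A j).obj ((tS.truncGE a).obj Y)) :=
        haveI : (tS (A := A)).IsGE ((tS.truncGE a).obj Y) a := inferInstance
        DerivedCategory.isZero_of_isGE _ a j (by omega)
      exact ⟨0, hzX.eq_of_src _ _, hzY.eq_of_src _ _⟩

end Trunc

end Groth.Agent.Lib.HocolimPerfH3
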