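import Mathlib
import Groth.Prelude
import Groth.Agent.Lib.HocolimPerf1_helper3
import Groth.Agent.Lib.ApxGlue3_helper3
import Groth.Agent.Lib.RpushPCUnb_helper3
import Groth.Agent.Lib.QCohSigma1_lead

/-!
# Pseudo-coherent complexes are homotopy colimits of perfect complexes (helper3; S7247, S1013)
-/

set_option autoImplicit false
set_option linter.all false
set_option maxHeartbeats 1600000
set_option backward.isDefEq.respectTransparency false
set_option backward.isDefEq.respectTransparency.types false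
set_option backward.defeqAttrib.useBackward true

universe u

open CategoryTheory CategoryTheory.Limits AlgebraicGeometry TopologicalSpace Opposite
open DerivedCategory CategoryTheory.Pretriangulated
open scoped ZeroObject

attribute [local instance] HasDerivedCategory.standard

namespace Groth.Agent.Lib.HocolimPerfH3

open Groth.Agent.Lib Groth.Agent.Lib.DCohLocLead Groth.Agent.Lib.PerfLocL
open Groth.Agent.Lib.HomVanL Groth.Agent.Lib.CompQL Groth.Agent.Lib.SerreHomL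
open Groth.Agent.Lib.TTLiftL Groth.Agent.Lib.TTApxL Groth.Agent.Lib.TTSuppL
open Groth.Agent.Lib.TTGlueL Groth.Agent.Lib.ApxAffH3 Groth.Agent.Lib.ApxGlueH3

noncomputable section

attribute [local instance] rpushI lpullI

/-! ### Instances for `X.Modules` -/

theorem hasExactN (X : Scheme.{u}) : HasExactColimitsOfShape ℕ X.Modules := by
  haveI := MVPushL.grothendieck_modules X
  let e := ULiftHomULiftCategory.equiv.{u, u} ℕ
  haveI : IsFiltered (ULiftHom.{u} (ULift.{u} ℕ)) := IsFiltered.of_equivalence e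
  exact HasExactColimitsOfShape.of_domain_equivalence _ e.symm

theorem hasExactCoprodN (X : Scheme.{u}) : HasExactColimitsOfShape (Discrete ℕ) X.Modules := by
  haveI := MVPushL.grothendieck_modules X
  haveI : AB4OfSize.{u} X.Modules := AB4.of_AB5 X.Modules
  haveI : AB4OfSize.{0} X.Modules := inferInstance
  exact AB4OfSize.ofShape ℕ

theorem preservesCoprodN (X : Scheme.{u}) (j : ℤ) :
    PreservesColimitsOfShape (Discrete ℕ) (homologyFunctor X.Modules j) := by
  haveI := hasExactCoprodN X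
  refine ⟨fun {K} => ?_⟩
  haveI : PreservesColimit (Discrete.functor (K.obj ∘ Discrete.mk))
      (homologyFunctor X.Modules j) :=
    HomCoprodH3.preservesColimit_homologyFunctor (QCohSigmaL.exists_kInj X)
      (K.obj ∘ Discrete.mk) j
  exact preservesColimit_of_iso_diagram _ (Discrete.natIsoFunctor (F := K)).symm

/-! ### Cones -/

theorem approx_of_cone_vanish {X : Scheme.{u}} {P E C : DCoh.D X} (θ : P ⟶ E) (p : E ⟶ C)
    (d : C ⟶ P⟦(1 : ℤ)⟧) (hT : Triangle.mk θ p d ∈ distTriang (DCoh.D X)) (m : ℤ)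
    (hz : ∀ j : ℤ, m ≤ j → IsZero (DCoh.HD C j)) :
    (∀ i : ℤ, m < i → IsIso ((homologyFunctor X.Modules i).map θ)) ∧
      Epi ((homologyFunctor X.Modules m).map θ) := by
  refine ⟨?_, ?_⟩
  · intro i hi
    haveI : Epi ((homologyFunctor X.Modules i).map θ) :=
      (HomologySequence.epi_homologyMap_mor₁_iff _ hT i).2 ((hz i (by omega)).eq_of_tgt _ _)
    haveI : Mono ((homologyFunctor X.Modules i).map θ) :=
      (HomologySequence.mono_homologyMap_mor₁_iff _ hT (i - 1) i (by omega)).2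
        ((hz (i - 1) (by omega)).eq_of_src _ _)
    exact isIso_of_mono_of_epi _
  · exact (HomologySequence.epi_homologyMap_mor₁_iff _ hT m).2 ((hz m le_rfl).eq_of_tgt _ _)

theorem cone_vanish_of_approx {X : Scheme.{u}} {P E C : DCoh.D X} (α : P ⟶ E) (p : E ⟶ C)
    (d : C ⟶ P⟦(1 : ℤ)⟧) (hT : Triangle.mk α p d ∈ distTriang (DCoh.D X)) (m : ℤ)
    (hiso : ∀ i : ℤ, m ≤ i → IsIso ((homologyFunctor X.Modules i).map α)) :
    ∀ j : ℤ, m ≤ j → IsZero (DCoh.HD C j) := by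
  intro j hj
  have hex := DerivedCategory.HomologySequence.exact₃ _ hT j (j + 1) rfl
  haveI := hiso j hj
  haveI := hiso (j + 1) (by omega)
  have hepi' : Epi ((homologyFunctor X.Modules j).map α) := inferInstance
  have hmono' : Mono ((homologyFunctor X.Modules (j + 1)).map α) := inferInstance
  have h1 := (HomologySequence.epi_homologyMap_mor₁_iff _ hT j).1 hepi'
  have h2 := (HomologySequence.mono_homologyMap_mor₁_iff _ hT j (j + 1) rfl).1 hmono'
  exact hex.isZero_of_both_zeros h1 h2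

theorem coneApx_comp' {X : Scheme.{u}} (Tc : X.Opens) {R E E' : DCoh.D X} (β : R ⟶ E)
    (q : E ⟶ E') (δ : E' ⟶ R⟦(1 : ℤ)⟧)
    (hT : Triangle.mk β q δ ∈ distTriang (DCoh.D X)) (hR : DCoh.IsPerfect R)
    (hRz : IsZero ((DD Tc.ι).obj R)) (m : ℤ) (h : ConeApx Tc E' m) :
    ∃ (P : DCoh.D X) (θ : P ⟶ E) (f : R ⟶ P), f ≫ θ = β ∧ DCoh.IsPerfect P ∧
      IsZero ((DD Tc.ι).obj P) ∧
      (∀ i : ℤ, m < i → IsIso ((homologyFunctor X.Modules i).map θ)) ∧
      Epi ((homologyFunctor X.Modules m).map θ) := by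
  obtain ⟨S, C', ξ, q', r, hT₂, hS, hSz, hv⟩ := h
  obtain ⟨P', θ', d', hT₃⟩ := distinguished_cocone_triangle₁ (q ≫ q')
  have o := Triangulated.someOctahedron' (rfl : q ≫ q' = q ≫ q') hT hT₂ hT₃
  have hP' : DCoh.IsPerfect P' :=
    isPerfect_obj₃ _ (inv_rot_of_distTriang _ o.mem) (isPerfect_shift hS (-1)) hR
  have hzero : β ≫ (q ≫ q') = 0 := by
    have h0 : β ≫ q = 0 := comp_distTriang_mor_zero₁₂ _ hT
    rw [← Category.assoc, h0, zero_comp]
  obtain ⟨f, hf⟩ := Triangle.coyoneda_exact₂ _ hT₃ β hzero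
  have happ := approx_of_cone_vanish θ' (q ≫ q') d' hT₃ m hv
  refine ⟨P', θ', f, hf.symm, hP', ?_, happ.1, happ.2⟩
  have hT' := (DD Tc.ι).map_distinguished _ (inv_rot_of_distTriang _ o.mem)
  have hz1 : IsZero ((DD Tc.ι).obj (S⟦(-1 : ℤ)⟧)) :=
    IsZero.of_iso ((shiftFunctor _ (-1 : ℤ)).map_isZero hSz)
      (((DD Tc.ι).commShiftIso (-1 : ℤ)).app S)
  exact (Triangle.isZero₃_iff_isIso₁ _ hT').2 ⟨0, hz1.eq_of_src _ _, hRz.eq_of_src _ _⟩

/-! ### Improving a perfect complex over `K` -/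

/-- the improvement property -/
def Over {X : Scheme.{u}} (K : DCoh.D X) (Tc : X.Opens) : Prop :=
  ∀ (E₀ : DCoh.D X) (i₀ : E₀ ⟶ K), DCoh.IsPerfect E₀ → IsZero ((DD Tc.ι).obj E₀) → ∀ m : ℤ,
    ∃ (E' : DCoh.D X) (i' : E' ⟶ K) (f : E₀ ⟶ E'), f ≫ i' = i₀ ∧ DCoh.IsPerfect E' ∧
      IsZero ((DD Tc.ι).obj E') ∧
      ∀ j : ℤ, m < j → IsIso ((homologyFunctor X.Modules j).map i')

theorem exists_over (X : Scheme.{u}) [CompactSpace X] [QuasiSeparatedSpace X] (T : Set X)
    (hT : IsClosed T) (hTc : IsCompact Tᶜ) (Tc : X.Opens) (hTcdef : (Tc : Set X) = Tᶜ)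
    (K : DCoh.D X) (hKpc : ∀ m : ℤ, DCoh.IsPseudoCoherentD m K)
    (hKz : IsZero ((DD Tc.ι).obj K)) : Over K Tc := by
  intro E₀ i₀ hE₀ hE₀z m
  have hmemTc : ∀ x : X, x ∈ Tc ↔ x ∉ T := by
    intro x
    have : x ∈ (Tc : Set X) ↔ x ∈ Tᶜ := by rw [hTcdef]
    exact this
  obtain ⟨C, q, δ, hTri⟩ := distinguished_cocone_triangle i₀
  have hCpc : ∀ m' : ℤ, DCoh.IsPseudoCoherentD m' C := fun m' =>
    isPC_obj₃ m' _ hTri (isPC_of_isPerfect hE₀ _) (hKpc m')
  have hCq : DCoh.IsQCohD C := RpushPCUnbH3.isQCohD_of_forall_isPC C hCpc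
  have hCz : IsZero ((DD Tc.ι).obj C) := by
    have hT' := (DD Tc.ι).map_distinguished _ hTri
    exact (Triangle.isZero₃_iff_isIso₁ _ hT').2 ⟨0, hE₀z.eq_of_src _ _, hKz.eq_of_src _ _⟩
  have hCsupp : ∀ i : ℤ, CohB1.support (DCoh.HD C i) ⊆ T := by
    intro i
    apply support_subset_of_isZero
    intro x hx
    exact ⟨Tc, (hmemTc x).2 hx, hCz⟩
  obtain ⟨r, hr⟩ := main1103 X T hT hTc
  obtain ⟨P, α, hP, hPs, hiso, hepi⟩ := hr m C hCq (hCpc _) (fun i _ => hCsupp i)
  have hPz : IsZero ((DD Tc.ι).obj P) :=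
    isZero_DD_of_support_subset Tc T (fun x hx => (hmemTc x).1 hx) P hPs
  have hcone : ConeApx Tc C m := ConeApx.of_approx Tc C m P α hP hPz hiso hepi
  obtain ⟨E', θ, f, hfθ, hE', hE'z, hiso', _⟩ := coneApx_comp' Tc i₀ q δ hTri hE₀ hE₀z m hcone
  exact ⟨E', θ, f, hfθ, hE', hE'z, hiso'⟩

/-! ### The sequence -/

/-- a stage of the construction -/
structure Stage {X : Scheme.{u}} (K : DCoh.D X) (Tc : X.Opens) (n : ℕ) where
  E : DCoh.D X
  i : E ⟶ K
  perf : DCoh.IsPerfect E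
  zero : IsZero ((DD Tc.ι).obj E)
  iso : ∀ j : ℤ, -(n : ℤ) ≤ j → IsIso ((homologyFunctor X.Modules j).map i)

variable {X : Scheme.{u}} {K : DCoh.D X} {Tc : X.Opens}

theorem over_zero (hyp : Over K Tc) :
    ∃ (E' : DCoh.D X) (i' : E' ⟶ K), DCoh.IsPerfect E' ∧ IsZero ((DD Tc.ι).obj E') ∧
      ∀ j : ℤ, -((0 : ℕ) : ℤ) ≤ j → IsIso ((homologyFunctor X.Modules j).map i') := by
  obtain ⟨E', i', f, -, h1, h2, h3⟩ := hyp (0 : DerivedCategory X.Modules) 0
    (isPerfect_of_isZero (isZero_zero _)) ((DD Tc.ι).map_isZero (isZero_zero _)) (-1)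
  exact ⟨E', i', h1, h2, fun j hj => h3 j (by push_cast at hj; omega)⟩

def stage0 (hyp : Over K Tc) : Stage K Tc 0 where
  E := (over_zero hyp).choose
  i := (over_zero hyp).choose_spec.choose
  perf := (over_zero hyp).choose_spec.choose_spec.1
  zero := (over_zero hyp).choose_spec.choose_spec.2.1
  iso := (over_zero hyp).choose_spec.choose_spec.2.2

theorem over_succ (hyp : Over K Tc) {n : ℕ} (s : Stage K Tc n) :
    ∃ (E' : DCoh.D X) (i' : E' ⟶ K) (f : s.E ⟶ E'), f ≫ i' = s.i ∧ DCoh.IsPerfect E' ∧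
      IsZero ((DD Tc.ι).obj E') ∧
      ∀ j : ℤ, -((n + 1 : ℕ) : ℤ) ≤ j → IsIso ((homologyFunctor X.Modules j).map i') := by
  obtain ⟨E', i', f, h0, h1, h2, h3⟩ := hyp s.E s.i s.perf s.zero (-(n : ℤ) - 2)
  exact ⟨E', i', f, h0, h1, h2, fun j hj => h3 j (by push_cast at hj; omega)⟩

def next (hyp : Over K Tc) {n : ℕ} (s : Stage K Tc n) : Stage K Tc (n + 1) where
  E := (over_succ hyp s).choose
  i := (over_succ hyp s).choose_spec.choose
  perf := (over_succ hyp s).choose_spec.choose_spec.choose_spec.2.1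
  zero := (over_succ hyp s).choose_spec.choose_spec.choose_spec.2.2.1
  iso := (over_succ hyp s).choose_spec.choose_spec.choose_spec.2.2.2

def nextMap (hyp : Over K Tc) {n : ℕ} (s : Stage K Tc n) : s.E ⟶ (next hyp s).E :=
  (over_succ hyp s).choose_spec.choose_spec.choose

theorem nextMap_comp (hyp : Over K Tc) {n : ℕ} (s : Stage K Tc n) :
    nextMap hyp s ≫ (next hyp s).i = s.i :=
  (over_succ hyp s).choose_spec.choose_spec.choose_spec.1

def seq (hyp : Over K Tc) (n : ℕ) : Stage K Tc n :=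
  Nat.rec (stage0 hyp) (fun _ s => next hyp s) n

theorem exists_seq (hyp : Over K Tc) :
    ∃ (E : ℕ → DCoh.D X) (f : ∀ n, E n ⟶ E (n + 1)) (i : ∀ n, E n ⟶ K),
      (∀ n, DCoh.IsPerfect (E n)) ∧ (∀ n, IsZero ((DD Tc.ι).obj (E n))) ∧
      (∀ n, f n ≫ i (n + 1) = i n) ∧
      ∀ (n : ℕ) (j : ℤ), -(n : ℤ) ≤ j → IsIso ((homologyFunctor X.Modules j).map (i n)) :=
  ⟨fun n => (seq hyp n).E, fun n => nextMap hyp (seq hyp n), fun n => (seq hyp n).i,
    fun n => (seq hyp n).perf, fun n => (seq hyp n).zero,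
    fun n => nextMap_comp hyp (seq hyp n), fun n => (seq hyp n).iso⟩

end

end Groth.Agent.Lib.HocolimPerfH3
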