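import Mathlib
import Groth.Agent.Lib.TotalMap2_helper2

/-!
# Functors commuting with `Tot F(K₁, K₂)`: characterization and naturality (helper3)

For `e : F ⋙ (whiskeringRight).obj G ≅ F''` and `G` commuting with coproducts,
`cmpIso : G(Tot F(K₁, K₂)) ≅ Tot F''(K₁, K₂)`, its description on the summands and its
naturality in `K₁` and `K₂`.
-/

set_option autoImplicit false
open CategoryTheory Limits HomologicalComplex

namespace Groth.Agent.Lib.PjShriekH3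

open Groth.Agent.Lib.TotalMap Groth.Agent.Lib.BifNat

section General

variable {C₁ C₂ D D' : Type*} [Category C₁] [Category C₂] [Category D] [Category D']
  [Preadditive C₁] [Preadditive C₂] [Preadditive D] [Preadditive D']
  (F : C₁ ⥤ C₂ ⥤ D) [F.Additive] [∀ X₁, (F.obj X₁).Additive]
  (G : D ⥤ D') [G.Additive]
  (F'' : C₁ ⥤ C₂ ⥤ D') [F''.Additive] [∀ X₁, (F''.obj X₁).Additive]
  (e : F ⋙ (Functor.whiskeringRight C₂ D D').obj G ≅ F'')
  [∀ J : Type, PreservesColimitsOfShape (Discrete J) G]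

section
variable (K₁ : CochainComplex C₁ ℤ) (K₂ : CochainComplex C₂ ℤ)
  [CochainComplex.HasMapBifunctor K₁ K₂ F]
  [CochainComplex.HasMapBifunctor K₁ K₂ (F ⋙ (Functor.whiskeringRight C₂ D D').obj G)]
  [CochainComplex.HasMapBifunctor K₁ K₂ F'']

/-- `G(Tot F(K₁, K₂)) ≅ Tot F''(K₁, K₂)` -/
noncomputable def cmpIso :
    (G.mapHomologicalComplex (ComplexShape.up ℤ)).obj (CochainComplex.mapBifunctor K₁ K₂ F) ≅
      CochainComplex.mapBifunctor K₁ K₂ F'' :=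
  mapIso₁ F G K₁ K₂ ≪≫ mapNatIso K₁ K₂ e

lemma ι_mapIso₁_inv (p q n : ℤ) (h : p + q = n) :
    CochainComplex.ιMapBifunctor K₁ K₂ (F ⋙ (Functor.whiskeringRight C₂ D D').obj G) p q n h ≫
      (mapIso₁ F G K₁ K₂).inv.f n = G.map (CochainComplex.ιMapBifunctor K₁ K₂ F p q n h) := by
  haveI : (mapBi (((F.mapBifunctorHomologicalComplex (ComplexShape.up ℤ)
      (ComplexShape.up ℤ)).obj K₁).obj K₂) G).HasTotal (ComplexShape.up ℤ) :=
    inferInstanceAs (CochainComplex.HasMapBifunctor K₁ K₂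
      (F ⋙ (Functor.whiskeringRight C₂ D D').obj G))
  exact ι_ψ (((F.mapBifunctorHomologicalComplex (ComplexShape.up ℤ) (ComplexShape.up ℤ)).obj
    K₁).obj K₂) (ComplexShape.up ℤ) G p q n h

@[reassoc]
lemma ι_cmpIso_inv (p q n : ℤ) (h : p + q = n) :
    CochainComplex.ιMapBifunctor K₁ K₂ F'' p q n h ≫ (cmpIso F G F'' e K₁ K₂).inv.f n =
      (e.inv.app (K₁.X p)).app (K₂.X q) ≫
        G.map (CochainComplex.ιMapBifunctor K₁ K₂ F p q n h) := by
  have h1 : (cmpIso F G F'' e K₁ K₂).inv.f n =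
      (mapNat e.inv K₁ K₂).f n ≫ (mapIso₁ F G K₁ K₂).inv.f n := rfl
  rw [h1, ι_mapNat_f_assoc, ι_mapIso₁_inv]
  rfl

end

section Nat₁

variable {K₁ K₁' : CochainComplex C₁ ℤ} (a : K₁ ⟶ K₁') (K₂ : CochainComplex C₂ ℤ)
  [CochainComplex.HasMapBifunctor K₁ K₂ F]
  [CochainComplex.HasMapBifunctor K₁ K₂ (F ⋙ (Functor.whiskeringRight C₂ D D').obj G)]
  [CochainComplex.HasMapBifunctor K₁ K₂ F'']
  [CochainComplex.HasMapBifunctor K₁' K₂ F]
  [CochainComplex.HasMapBifunctor K₁' K₂ (F ⋙ (Functor.whiskeringRight C₂ D D').obj G)]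
  [CochainComplex.HasMapBifunctor K₁' K₂ F'']

lemma cmpIso_inv_natural₁ :
    mapBifunctorMap a (𝟙 K₂) F'' (ComplexShape.up ℤ) ≫ (cmpIso F G F'' e K₁' K₂).inv =
      (cmpIso F G F'' e K₁ K₂).inv ≫
        (G.mapHomologicalComplex (ComplexShape.up ℤ)).map
          (mapBifunctorMap a (𝟙 K₂) F (ComplexShape.up ℤ)) := by
  refine HomologicalComplex.hom_ext _ _ (fun n => ?_)
  apply HomologicalComplex.mapBifunctor.hom_ext
  intro p q hpq
  have hpq' : p + q = n := hpq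
  have h1 : ιMapBifunctor K₁ K₂ F'' (ComplexShape.up ℤ) p q n hpq ≫
      (mapBifunctorMap a (𝟙 K₂) F'' (ComplexShape.up ℤ)).f n =
      (F''.map (a.f p)).app (K₂.X q) ≫
        ιMapBifunctor K₁' K₂ F'' (ComplexShape.up ℤ) p q n hpq := by
    rw [ι_mapBifunctorMap, HomologicalComplex.id_f, CategoryTheory.Functor.map_id, Category.id_comp]
  have h4 : ιMapBifunctor K₁ K₂ F (ComplexShape.up ℤ) p q n hpq ≫
      (mapBifunctorMap a (𝟙 K₂) F (ComplexShape.up ℤ)).f n =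
      (F.map (a.f p)).app (K₂.X q) ≫
        ιMapBifunctor K₁' K₂ F (ComplexShape.up ℤ) p q n hpq := by
    rw [ι_mapBifunctorMap, HomologicalComplex.id_f, CategoryTheory.Functor.map_id, Category.id_comp]
  have h2 := ι_cmpIso_inv F G F'' e K₁' K₂ p q n hpq'
  have h3 := ι_cmpIso_inv F G F'' e K₁ K₂ p q n hpq'
  have hn : (F''.map (a.f p)).app (K₂.X q) ≫ (e.inv.app (K₁'.X p)).app (K₂.X q) =
      (e.inv.app (K₁.X p)).app (K₂.X q) ≫ G.map ((F.map (a.f p)).app (K₂.X q)) :=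
    congrArg (fun t => t.app (K₂.X q)) (e.inv.naturality (a.f p))
  have h4' : G.map (ιMapBifunctor K₁ K₂ F (ComplexShape.up ℤ) p q n hpq) ≫
      G.map ((mapBifunctorMap a (𝟙 K₂) F (ComplexShape.up ℤ)).f n) =
      G.map ((F.map (a.f p)).app (K₂.X q)) ≫
        G.map (ιMapBifunctor K₁' K₂ F (ComplexShape.up ℤ) p q n hpq) := by
    rw [← G.map_comp, h4, G.map_comp]
  calc ιMapBifunctor K₁ K₂ F'' (ComplexShape.up ℤ) p q n hpq ≫
        (mapBifunctorMap a (𝟙 K₂) F'' (ComplexShape.up ℤ) ≫ (cmpIso F G F'' e K₁' K₂).inv).f n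
      = (ιMapBifunctor K₁ K₂ F'' (ComplexShape.up ℤ) p q n hpq ≫
        (mapBifunctorMap a (𝟙 K₂) F'' (ComplexShape.up ℤ)).f n) ≫
          (cmpIso F G F'' e K₁' K₂).inv.f n := (Category.assoc _ _ _).symm
    _ = ((F''.map (a.f p)).app (K₂.X q) ≫
        ιMapBifunctor K₁' K₂ F'' (ComplexShape.up ℤ) p q n hpq) ≫
          (cmpIso F G F'' e K₁' K₂).inv.f n := congrArg (· ≫ _) h1
    _ = (F''.map (a.f p)).app (K₂.X q) ≫ (e.inv.app (K₁'.X p)).app (K₂.X q) ≫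
          G.map (ιMapBifunctor K₁' K₂ F (ComplexShape.up ℤ) p q n hpq) :=
        (Category.assoc _ _ _).trans (congrArg (_ ≫ ·) h2)
    _ = ((e.inv.app (K₁.X p)).app (K₂.X q) ≫ G.map ((F.map (a.f p)).app (K₂.X q))) ≫
          G.map (ιMapBifunctor K₁' K₂ F (ComplexShape.up ℤ) p q n hpq) :=
        (Category.assoc _ _ _).symm.trans (congrArg (· ≫ _) hn)
    _ = (e.inv.app (K₁.X p)).app (K₂.X q) ≫
          G.map (ιMapBifunctor K₁ K₂ F (ComplexShape.up ℤ) p q n hpq) ≫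
          G.map ((mapBifunctorMap a (𝟙 K₂) F (ComplexShape.up ℤ)).f n) :=
        (Category.assoc _ _ _).trans (congrArg (_ ≫ ·) h4'.symm)
    _ = (ιMapBifunctor K₁ K₂ F'' (ComplexShape.up ℤ) p q n hpq ≫
          (cmpIso F G F'' e K₁ K₂).inv.f n) ≫
          G.map ((mapBifunctorMap a (𝟙 K₂) F (ComplexShape.up ℤ)).f n) :=
        (Category.assoc _ _ _).symm.trans (congrArg (· ≫ _) h3.symm)
    _ = _ := Category.assoc _ _ _

end Nat₁

section Nat₂

variable (K₁ : CochainComplex C₁ ℤ) {K₂ K₂' : CochainComplex C₂ ℤ} (b : K₂ ⟶ K₂')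
  [CochainComplex.HasMapBifunctor K₁ K₂ F]
  [CochainComplex.HasMapBifunctor K₁ K₂ (F ⋙ (Functor.whiskeringRight C₂ D D').obj G)]
  [CochainComplex.HasMapBifunctor K₁ K₂ F'']
  [CochainComplex.HasMapBifunctor K₁ K₂' F]
  [CochainComplex.HasMapBifunctor K₁ K₂' (F ⋙ (Functor.whiskeringRight C₂ D D').obj G)]
  [CochainComplex.HasMapBifunctor K₁ K₂' F'']

lemma cmpIso_inv_natural₂ :
    mapBifunctorMap (𝟙 K₁) b F'' (ComplexShape.up ℤ) ≫ (cmpIso F G F'' e K₁ K₂').inv =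
      (cmpIso F G F'' e K₁ K₂).inv ≫
        (G.mapHomologicalComplex (ComplexShape.up ℤ)).map
          (mapBifunctorMap (𝟙 K₁) b F (ComplexShape.up ℤ)) := by
  refine HomologicalComplex.hom_ext _ _ (fun n => ?_)
  apply HomologicalComplex.mapBifunctor.hom_ext
  intro p q hpq
  have hpq' : p + q = n := hpq
  have h1 : ιMapBifunctor K₁ K₂ F'' (ComplexShape.up ℤ) p q n hpq ≫
      (mapBifunctorMap (𝟙 K₁) b F'' (ComplexShape.up ℤ)).f n =
      (F''.obj (K₁.X p)).map (b.f q) ≫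
        ιMapBifunctor K₁ K₂' F'' (ComplexShape.up ℤ) p q n hpq := by
    rw [ι_mapBifunctorMap, HomologicalComplex.id_f, CategoryTheory.Functor.map_id, NatTrans.id_app,
      Category.id_comp]
  have h4 : ιMapBifunctor K₁ K₂ F (ComplexShape.up ℤ) p q n hpq ≫
      (mapBifunctorMap (𝟙 K₁) b F (ComplexShape.up ℤ)).f n =
      (F.obj (K₁.X p)).map (b.f q) ≫
        ιMapBifunctor K₁ K₂' F (ComplexShape.up ℤ) p q n hpq := by
    rw [ι_mapBifunctorMap, HomologicalComplex.id_f, CategoryTheory.Functor.map_id, NatTrans.id_app,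
      Category.id_comp]
  have h2 := ι_cmpIso_inv F G F'' e K₁ K₂' p q n hpq'
  have h3 := ι_cmpIso_inv F G F'' e K₁ K₂ p q n hpq'
  have hn : (F''.obj (K₁.X p)).map (b.f q) ≫ (e.inv.app (K₁.X p)).app (K₂'.X q) =
      (e.inv.app (K₁.X p)).app (K₂.X q) ≫ G.map ((F.obj (K₁.X p)).map (b.f q)) :=
    (e.inv.app (K₁.X p)).naturality (b.f q)
  have h4' : G.map (ιMapBifunctor K₁ K₂ F (ComplexShape.up ℤ) p q n hpq) ≫
      G.map ((mapBifunctorMap (𝟙 K₁) b F (ComplexShape.up ℤ)).f n) =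
      G.map ((F.obj (K₁.X p)).map (b.f q)) ≫
        G.map (ιMapBifunctor K₁ K₂' F (ComplexShape.up ℤ) p q n hpq) := by
    rw [← G.map_comp, h4, G.map_comp]
  calc ιMapBifunctor K₁ K₂ F'' (ComplexShape.up ℤ) p q n hpq ≫
        (mapBifunctorMap (𝟙 K₁) b F'' (ComplexShape.up ℤ) ≫ (cmpIso F G F'' e K₁ K₂').inv).f n
      = (ιMapBifunctor K₁ K₂ F'' (ComplexShape.up ℤ) p q n hpq ≫
        (mapBifunctorMap (𝟙 K₁) b F'' (ComplexShape.up ℤ)).f n) ≫
          (cmpIso F G F'' e K₁ K₂').inv.f n := (Category.assoc _ _ _).symm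
    _ = ((F''.obj (K₁.X p)).map (b.f q) ≫
        ιMapBifunctor K₁ K₂' F'' (ComplexShape.up ℤ) p q n hpq) ≫
          (cmpIso F G F'' e K₁ K₂').inv.f n := congrArg (· ≫ _) h1
    _ = (F''.obj (K₁.X p)).map (b.f q) ≫ (e.inv.app (K₁.X p)).app (K₂'.X q) ≫
          G.map (ιMapBifunctor K₁ K₂' F (ComplexShape.up ℤ) p q n hpq) :=
        (Category.assoc _ _ _).trans (congrArg (_ ≫ ·) h2)
    _ = ((e.inv.app (K₁.X p)).app (K₂.X q) ≫ G.map ((F.obj (K₁.X p)).map (b.f q))) ≫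
          G.map (ιMapBifunctor K₁ K₂' F (ComplexShape.up ℤ) p q n hpq) :=
        (Category.assoc _ _ _).symm.trans (congrArg (· ≫ _) hn)
    _ = (e.inv.app (K₁.X p)).app (K₂.X q) ≫
          G.map (ιMapBifunctor K₁ K₂ F (ComplexShape.up ℤ) p q n hpq) ≫
          G.map ((mapBifunctorMap (𝟙 K₁) b F (ComplexShape.up ℤ)).f n) :=
        (Category.assoc _ _ _).trans (congrArg (_ ≫ ·) h4'.symm)
    _ = (ιMapBifunctor K₁ K₂ F'' (ComplexShape.up ℤ) p q n hpq ≫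
          (cmpIso F G F'' e K₁ K₂).inv.f n) ≫
          G.map ((mapBifunctorMap (𝟙 K₁) b F (ComplexShape.up ℤ)).f n) :=
        (Category.assoc _ _ _).symm.trans (congrArg (· ≫ _) h3.symm)
    _ = _ := Category.assoc _ _ _

end Nat₂

end General

end Groth.Agent.Lib.PjShriekH3
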