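import Mathlib
import Groth.Prelude
import Groth.Agent.Lib.PjShriek1_helper3
import Groth.Agent.Lib.PullTensIso3_helper3
import Groth.Agent.Lib.StalkSky4_lead
import Groth.Agent.Lib.StalkTens3_helper3

/-!
# The projection formula for extension by zero along an open immersion (helper3)

`pfBiIso j : j_!(B ⊗ j^*L) ≅ j_!B ⊗ L`, naturally in `B` and `L` (modules on schemes).
-/

set_option autoImplicit false
set_option linter.all false
set_option maxHeartbeats 1600000
set_option backward.isDefEq.respectTransparency false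
set_option backward.isDefEq.respectTransparency.types false
set_option backward.defeqAttrib.useBackward true

universe u
open CategoryTheory CategoryTheory.Limits AlgebraicGeometry Opposite TopologicalSpace

namespace Groth.Agent.Lib.PjShriekH3

open Groth.Agent.Lib.StalkSkyL Groth.Agent.Lib.StalkTensH3 Groth.Agent.Lib.PullTensIsoH3
open MonoidalCategory

noncomputable section

variable {U X : Scheme.{u}} (j : U ⟶ X) [IsOpenImmersion j]

/-- restriction `j^*` -/
abbrev Rj : X.Modules ⥤ U.Modules := Scheme.Modules.restrictFunctor j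
/-- extension by zero `j_!` -/
abbrev Sj : U.Modules ⥤ X.Modules := CxOX.extZero j

/-- `j^*(M ⊗ N) ≅ j^*M ⊗ j^*N`, as an isomorphism of bifunctors -/
def rtNatIso :
    DCoh.tensorBi (X := X) ⋙ (Functor.whiskeringRight X.Modules X.Modules U.Modules).obj (Rj j) ≅
      Rj j ⋙ DCoh.tensorBi (X := U) ⋙
        (Functor.whiskeringLeft X.Modules U.Modules U.Modules).obj (Rj j) :=
  Functor.isoWhiskerLeft (DCoh.tensorBi (X := X))
      ((Functor.whiskeringRight X.Modules X.Modules U.Modules).mapIso
        (Scheme.Modules.restrictFunctorIsoPullback j)) ≪≫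
    pullTensNatIso j ≪≫
    Functor.isoWhiskerRight (Scheme.Modules.restrictFunctorIsoPullback j).symm
      (DCoh.tensorBi (X := U) ⋙
        (Functor.whiskeringLeft X.Modules U.Modules U.Modules).obj (Scheme.Modules.pullback j)) ≪≫
    Functor.isoWhiskerLeft (Rj j ⋙ DCoh.tensorBi (X := U))
      ((Functor.whiskeringLeft X.Modules U.Modules U.Modules).mapIso
        (Scheme.Modules.restrictFunctorIsoPullback j).symm)

/-- the bifunctor `(B, L) ↦ B ⊗ j^*L` -/
abbrev FU : U.Modules ⥤ X.Modules ⥤ U.Modules :=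
  DCoh.tensorBi (X := U) ⋙ (Functor.whiskeringLeft X.Modules U.Modules U.Modules).obj (Rj j)

instance : (FU j).Additive := by
  constructor
  intro B B' f g
  refine NatTrans.ext (funext fun L => ?_)
  show ((DCoh.tensorBi (X := U)).map (f + g)).app ((Rj j).obj L) = _
  rw [Functor.map_add]
  rfl

instance (B : U.Modules) : ((FU j).obj B).Additive :=
  inferInstanceAs (Rj j ⋙ (DCoh.tensorBi (X := U)).obj B).Additive

/-- `B ⊗ j^*L ⟶ j^*(j_!B ⊗ L)` -/
def phi (B : U.Modules) (L : X.Modules) :
    ((FU j).obj B).obj L ⟶ (Rj j).obj (((DCoh.tensorBi (X := X)).obj ((Sj j).obj B)).obj L) :=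
  ((DCoh.tensorBi (X := U)).map ((CxOX.extZeroAdj j).unit.app B)).app ((Rj j).obj L) ≫
    ((rtNatIso j).inv.app ((Sj j).obj B)).app L

instance isIso_phi (B : U.Modules) (L : X.Modules) : IsIso (phi j B L) := by
  haveI : IsIso ((CxOX.extZeroAdj j).unit.app B) := inferInstance
  haveI : IsIso (((DCoh.tensorBi (X := U)).map ((CxOX.extZeroAdj j).unit.app B)).app
      ((Rj j).obj L)) := inferInstance
  unfold phi
  infer_instance

lemma phi_natural₁ {B B' : U.Modules} (b : B ⟶ B') (L : X.Modules) :
    ((FU j).map b).app L ≫ phi j B' L =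
      phi j B L ≫ (Rj j).map (((DCoh.tensorBi (X := X)).map ((Sj j).map b)).app L) := by
  have h1 : b ≫ (CxOX.extZeroAdj j).unit.app B' =
      (CxOX.extZeroAdj j).unit.app B ≫ (Rj j).map ((Sj j).map b) :=
    (CxOX.extZeroAdj j).unit.naturality b
  have h2 := congrArg (fun t => t.app L) ((rtNatIso j).inv.naturality ((Sj j).map b))
  simp only [NatTrans.comp_app] at h2
  have h2' : ((DCoh.tensorBi (X := U)).map ((Rj j).map ((Sj j).map b))).app ((Rj j).obj L) ≫
      ((rtNatIso j).inv.app ((Sj j).obj B')).app L =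
      ((rtNatIso j).inv.app ((Sj j).obj B)).app L ≫
        (Rj j).map (((DCoh.tensorBi (X := X)).map ((Sj j).map b)).app L) := h2
  show ((DCoh.tensorBi (X := U)).map b).app ((Rj j).obj L) ≫ phi j B' L = _
  unfold phi
  rw [← Category.assoc, ← NatTrans.comp_app, ← Functor.map_comp, h1, Functor.map_comp,
    NatTrans.comp_app, Category.assoc, h2', Category.assoc]

lemma phi_natural₂ (B : U.Modules) {L L' : X.Modules} (l : L ⟶ L') :
    ((FU j).obj B).map l ≫ phi j B L' =
      phi j B L ≫ (Rj j).map (((DCoh.tensorBi (X := X)).obj ((Sj j).obj B)).map l) := by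
  have h2 : ((DCoh.tensorBi (X := U)).obj ((Rj j).obj ((Sj j).obj B))).map ((Rj j).map l) ≫
      ((rtNatIso j).inv.app ((Sj j).obj B)).app L' =
      ((rtNatIso j).inv.app ((Sj j).obj B)).app L ≫
        (Rj j).map (((DCoh.tensorBi (X := X)).obj ((Sj j).obj B)).map l) :=
    ((rtNatIso j).inv.app ((Sj j).obj B)).naturality l
  have h1 : ((DCoh.tensorBi (X := U)).obj B).map ((Rj j).map l) ≫
      ((DCoh.tensorBi (X := U)).map ((CxOX.extZeroAdj j).unit.app B)).app ((Rj j).obj L') =
      ((DCoh.tensorBi (X := U)).map ((CxOX.extZeroAdj j).unit.app B)).app ((Rj j).obj L) ≫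
        ((DCoh.tensorBi (X := U)).obj ((Rj j).obj ((Sj j).obj B))).map ((Rj j).map l) :=
    ((DCoh.tensorBi (X := U)).map ((CxOX.extZeroAdj j).unit.app B)).naturality
      ((Rj j).map l)
  show ((DCoh.tensorBi (X := U)).obj B).map ((Rj j).map l) ≫ phi j B L' = _
  unfold phi
  rw [← Category.assoc, h1, Category.assoc, h2, Category.assoc]

/-- the counit `j_! j^* N ⟶ N` is invertible when `N` is supported in `U` -/
theorem isIso_counit_of_subsingleton (N : X.Modules)
    (h : ∀ x : X, x ∉ Set.range j.base → Subsingleton (N.presheaf.stalk x)) :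
    IsIso ((CxOX.extZeroAdj j).counit.app N) := by
  apply isIso_of_forall_stalk_isIso
  intro x
  by_cases hx : x ∈ Set.range j.base
  · obtain ⟨y, rfl⟩ := hx
    exact isIso_stalk_counit j N y
  · haveI h1 : Subsingleton ↑((DerSch.stalkFunctor X x).obj
        ((Sj j).obj ((Rj j).obj N))) := subsingleton_stalk_extZero j _ x hx
    haveI h2 : Subsingleton ↑((DerSch.stalkFunctor X x).obj N) := h x hx
    have z1 : IsZero ((DerSch.stalkFunctor X x).obj ((Sj j).obj ((Rj j).obj N))) :=
      ModuleCat.isZero_of_subsingleton _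
    have z2 : IsZero ((DerSch.stalkFunctor X x).obj N) := ModuleCat.isZero_of_subsingleton _
    have : (DerSch.stalkFunctor X x).map ((CxOX.extZeroAdj j).counit.app N) = (z1.iso z2).hom :=
      z1.eq_of_src _ _
    rw [this]
    infer_instance

theorem subsingleton_stalk_tensor (M N : X.Modules) (x : X)
    (h : Subsingleton (M.presheaf.stalk x)) :
    Subsingleton ((((DCoh.tensorBi (X := X)).obj M).obj N).presheaf.stalk x) := by
  haveI h1 : Subsingleton ↑((stk x).obj M) := h
  haveI h2 : Subsingleton ↑((stk x).obj M ⊗ (stk x).obj N) :=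
    inferInstanceAs (Subsingleton (TensorProduct (X.presheaf.stalk x) ↑((stk x).obj M)
      ↑((stk x).obj N)))
  have z2 : IsZero ((stk x).obj M ⊗ (stk x).obj N) := ModuleCat.isZero_of_subsingleton _
  have z1 : IsZero ((stk x).obj (CohB1.tensorMod M N)) := z2.of_iso (stalkTensorIso x M N)
  exact ModuleCat.subsingleton_of_isZero z1

/-- the projection formula map `j_!(B ⊗ j^*L) ⟶ j_!B ⊗ L` -/
def pf (B : U.Modules) (L : X.Modules) :
    (Sj j).obj (((FU j).obj B).obj L) ⟶ ((DCoh.tensorBi (X := X)).obj ((Sj j).obj B)).obj L :=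
  (Sj j).map (phi j B L) ≫ (CxOX.extZeroAdj j).counit.app _

instance isIso_pf (B : U.Modules) (L : X.Modules) : IsIso (pf j B L) := by
  haveI : IsIso ((CxOX.extZeroAdj j).counit.app
      (((DCoh.tensorBi (X := X)).obj ((Sj j).obj B)).obj L)) :=
    isIso_counit_of_subsingleton j _ (fun x hx =>
      subsingleton_stalk_tensor _ _ x (subsingleton_stalk_extZero j B x hx))
  unfold pf
  infer_instance

lemma pf_natural₁ {B B' : U.Modules} (b : B ⟶ B') (L : X.Modules) :
    (Sj j).map (((FU j).map b).app L) ≫ pf j B' L =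
      pf j B L ≫ ((DCoh.tensorBi (X := X)).map ((Sj j).map b)).app L := by
  unfold pf
  rw [← Category.assoc, ← Functor.map_comp, phi_natural₁, Functor.map_comp, Category.assoc,
    Category.assoc]
  congr 1
  exact (CxOX.extZeroAdj j).counit.naturality _

lemma pf_natural₂ (B : U.Modules) {L L' : X.Modules} (l : L ⟶ L') :
    (Sj j).map (((FU j).obj B).map l) ≫ pf j B L' =
      pf j B L ≫ ((DCoh.tensorBi (X := X)).obj ((Sj j).obj B)).map l := by
  unfold pf
  rw [← Category.assoc, ← Functor.map_comp, phi_natural₂, Functor.map_comp, Category.assoc,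
    Category.assoc]
  congr 1
  exact (CxOX.extZeroAdj j).counit.naturality _

/-- **the projection formula** `j_!(B ⊗ j^*L) ≅ j_!B ⊗ L`, as an isomorphism of bifunctors -/
def pfBiIso :
    FU j ⋙ (Functor.whiskeringRight X.Modules U.Modules X.Modules).obj (Sj j) ≅
      Sj j ⋙ DCoh.tensorBi (X := X) :=
  NatIso.ofComponents (fun B => NatIso.ofComponents (fun L => asIso (pf j B L))
    (fun l => pf_natural₂ j B l)) (fun b => by
      refine NatTrans.ext (funext fun L => ?_)
      exact pf_natural₁ j b L)

lemma pfBiIso_hom_app_app (B : U.Modules) (L : X.Modules) :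
    ((pfBiIso j).hom.app B).app L = pf j B L := rfl

end

end Groth.Agent.Lib.PjShriekH3
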