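import Mathlib
import Groth.Prelude
import Groth.Agent.Lib.PjShriek2_helper3

/-!
# The projection formula for `j_!` on complexes (helper3)

`pfCxNatIso j K : (- ⊗ K|_U) ⋙ j_! ≅ j_! ⋙ (- ⊗ K)` on cochain complexes.
-/

set_option autoImplicit false
set_option linter.all false
set_option maxHeartbeats 1600000
set_option backward.isDefEq.respectTransparency false
set_option backward.isDefEq.respectTransparency.types false
set_option backward.defeqAttrib.useBackward true

universe u
open CategoryTheory CategoryTheory.Limits AlgebraicGeometry Opposite TopologicalSpace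
open HomologicalComplex

namespace Groth.Agent.Lib.PjShriekH3

noncomputable section

variable {U X : Scheme.{u}} (j : U ⟶ X) [IsOpenImmersion j]

/-- restriction of complexes -/
abbrev RCj : CochainComplex X.Modules ℤ ⥤ CochainComplex U.Modules ℤ :=
  (Rj j).mapHomologicalComplex (ComplexShape.up ℤ)
/-- extension by zero of complexes -/
abbrev SCj : CochainComplex U.Modules ℤ ⥤ CochainComplex X.Modules ℤ :=
  (Sj j).mapHomologicalComplex (ComplexShape.up ℤ)

instance additive_Sj_tensor : (Sj j ⋙ DCoh.tensorBi (X := X)).Additive := inferInstance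
instance additive_Sj_tensor_obj (B : U.Modules) :
    ((Sj j ⋙ DCoh.tensorBi (X := X)).obj B).Additive :=
  inferInstanceAs ((DCoh.tensorBi (X := X)).obj ((Sj j).obj B)).Additive
instance preservesDiscrete_Sj (J : Type) : PreservesColimitsOfShape (Discrete J) (Sj j) :=
  inferInstance

/-- **`j_!(A ⊗ K|_U) ≅ j_!A ⊗ K`** for complexes -/
def pfCxIso (A : CochainComplex U.Modules ℤ) (K : CochainComplex X.Modules ℤ) :
    (SCj j).obj ((DCoh.tensorCx.obj A).obj ((RCj j).obj K)) ≅
      (DCoh.tensorCx.obj ((SCj j).obj A)).obj K :=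
  cmpIso (FU j) (Sj j) (Sj j ⋙ DCoh.tensorBi (X := X)) (pfBiIso j) A K

lemma pfCxIso_inv_natural {A A' : CochainComplex U.Modules ℤ} (a : A ⟶ A')
    (K : CochainComplex X.Modules ℤ) :
    ((DCoh.tensorCx (X := X)).flip.obj K).map ((SCj j).map a) ≫ (pfCxIso j A' K).inv =
      (pfCxIso j A K).inv ≫
        (SCj j).map (((DCoh.tensorCx (X := U)).flip.obj ((RCj j).obj K)).map a) := by
  have h := cmpIso_inv_natural₁ (FU j) (Sj j) (Sj j ⋙ DCoh.tensorBi (X := X)) (pfBiIso j) a K
  have e1 : mapBifunctorMap a (𝟙 K) (Sj j ⋙ DCoh.tensorBi (X := X)) (ComplexShape.up ℤ) =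
      ((DCoh.tensorCx (X := X)).flip.obj K).map ((SCj j).map a) := rfl
  have e2 : mapBifunctorMap a (𝟙 K) (FU j) (ComplexShape.up ℤ) =
      ((DCoh.tensorCx (X := U)).flip.obj ((RCj j).obj K)).map a := by
    show mapBifunctorMap a ((RCj j).map (𝟙 K)) (DCoh.tensorBi (X := U)) (ComplexShape.up ℤ) = _
    rw [CategoryTheory.Functor.map_id]
    rfl
  rw [e1, e2] at h
  exact h

/-- **the projection formula for `j_!` on complexes**, as a natural isomorphism -/
def pfCxNatIso (K : CochainComplex X.Modules ℤ) :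
    (DCoh.tensorCx (X := U)).flip.obj ((RCj j).obj K) ⋙ SCj j ≅
      SCj j ⋙ (DCoh.tensorCx (X := X)).flip.obj K :=
  NatIso.ofComponents (fun A => pfCxIso j A K) (fun {A A'} a => by
    have h := pfCxIso_inv_natural j a K
    rw [← cancel_mono (pfCxIso j A' K).inv, Category.assoc, Iso.hom_inv_id, Category.comp_id,
      Category.assoc]
    erw [h]
    rw [Iso.hom_inv_id_assoc]
    rfl)

lemma pfCxNatIso_hom_app (K : CochainComplex X.Modules ℤ) (A : CochainComplex U.Modules ℤ) :
    (pfCxNatIso j K).hom.app A = (pfCxIso j A K).hom := rfl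

end

end Groth.Agent.Lib.PjShriekH3
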