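import Groth.Agent.Lib.TorFun2_helper2
import Groth.Agent.Lib.KFlatSite13_helper2
import Groth.Agent.Lib.KFlatSite11_helper2

/-!
# `M ↦ H^p(M ⊗^L E)` on a ringed site (helper2)
-/

set_option autoImplicit false
universe u
open CategoryTheory Limits ModSite

namespace Groth.Agent.Lib.TorFunSite

attribute [local instance] HasDerivedCategory.standard

variable {C : Type u} [SmallCategory C] {J : GrothendieckTopology C} (O : Sheaf J CommRingCat.{u})

open Groth.Agent.Lib.ModSiteH8 Groth.Agent.Lib.ResSite Groth.Agent.Lib.KFlatGen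
  Groth.Agent.Lib.KFlatSite Groth.Agent.Lib.TorFun

instance preservesFiniteColimits_tensorBi_obj (M : Mod O) :
    PreservesFiniteColimits ((tensorBi O).obj M) := by
  haveI := preservesColimits_obj O M
  haveI : PreservesColimitsOfSize.{0, 0} ((tensorBi O).obj M) :=
    preservesColimitsOfSize_shrink.{0, u, 0, u} _
  exact PreservesColimitsOfSize.preservesFiniteColimits _

instance preservesFiniteColimits_tensorBi_flip_obj (N : Mod O) :
    PreservesFiniteColimits ((tensorBi O).flip.obj N) := by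
  haveI := preservesColimits_flip O N
  haveI : PreservesColimitsOfSize.{0, 0} ((tensorBi O).flip.obj N) :=
    preservesColimitsOfSize_shrink.{0, u, 0, u} _
  exact PreservesColimitsOfSize.preservesFiniteColimits _

/-- the functor `M ↦ H^p(M ⊗^L E)` -/
noncomputable abbrev HL (E : CochainComplex (Mod O) ℤ) [ModSite.HasLTensorCx E] (p : ℤ) :
    Mod O ⥤ Mod O :=
  DerivedCategory.singleFunctor (Mod O) 0 ⋙ ModSite.LTensorCx E ⋙
    DerivedCategory.homologyFunctor (Mod O) p

/-- `H^p(M ⊗^L E) ≅ H^p(M ⊗ R^•)` for a K-flat resolution `R → E` -/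
theorem nonempty_iso (E R : CochainComplex (Mod O) ℤ) (π : R ⟶ E) [QuasiIso π]
    (hR : ModSite.IsKFlat R) [ModSite.HasLTensorCx E] (p : ℤ) :
    Nonempty (HL O E p ≅ T (tensorBi O) R p) := by
  haveI := hasExactColimitsOfShape_filtered O ℕ
  exact nonempty_singleIso (tensorBi O) (sigmaNatIso O) (flatClass O) (resClass O) E R π
    ((isKFlat_iff_gen O R).1 hR) (ModSite.LTensorCx E) (counitCx O E) p

lemma preservesFiniteColimits_iff {F G : Mod O ⥤ Mod O} (e : F ≅ G) :
    PreservesFiniteColimits F ↔ PreservesFiniteColimits G :=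
  ⟨fun _ => preservesFiniteColimits_of_natIso e, fun _ => preservesFiniteColimits_of_natIso e.symm⟩

lemma preservesFiniteLimits_iff {F G : Mod O ⥤ Mod O} (e : F ≅ G) :
    PreservesFiniteLimits F ↔ PreservesFiniteLimits G :=
  ⟨fun _ => preservesFiniteLimits_of_natIso e, fun _ => preservesFiniteLimits_of_natIso e.symm⟩

/-- **`H^p(- ⊗^L E)` is right exact iff `H^{p+1}(- ⊗^L E)` is left exact**, given a K-flat
resolution with flat terms -/
theorem right_exact_iff_left_exact_succ (E R : CochainComplex (Mod O) ℤ) (π : R ⟶ E) [QuasiIso π]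
    (hflat : ∀ i : ℤ, ModSite.IsFlat (R.X i))
    (hR : ModSite.IsKFlat R) [ModSite.HasLTensorCx E] (p : ℤ) :
    PreservesFiniteColimits (HL O E p) ↔ PreservesFiniteLimits (HL O E (p + 1)) := by
  obtain ⟨e₁⟩ := nonempty_iso O E R π hR p
  obtain ⟨e₂⟩ := nonempty_iso O E R π hR (p + 1)
  rw [preservesFiniteColimits_iff O e₁, preservesFiniteLimits_iff O e₂]
  exact preservesFiniteColimits_T_iff_succ (tensorBi O) R (fun q => (hflat q).1) p (p + 1) rfl

/-- **`H^p(- ⊗^L E)` is right exact iff `coker(R^p → R^{p+1})` is flat**, given a K-flat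
resolution `R` with flat terms -/
theorem right_exact_iff_flat_cokernel (E R : CochainComplex (Mod O) ℤ) (π : R ⟶ E) [QuasiIso π]
    (hflat : ∀ i : ℤ, ModSite.IsFlat (R.X i))
    (hR : ModSite.IsKFlat R) [ModSite.HasLTensorCx E] (p : ℤ) :
    PreservesFiniteColimits (HL O E p) ↔ ModSite.IsFlat (cokernel (R.d p (p + 1))) := by
  obtain ⟨e₁⟩ := nonempty_iso O E R π hR p
  rw [preservesFiniteColimits_iff O e₁,
    preservesFiniteColimits_T_iff_succ (tensorBi O) R (fun q => (hflat q).1) p (p + 1) rfl,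
    preservesFiniteLimits_T_iff (tensorBi O) R (fun q => (hflat q).1) p (p + 1) rfl]
  exact ⟨fun h => ⟨h, inferInstance⟩, fun h => h.1⟩

end Groth.Agent.Lib.TorFunSite
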