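import Mathlib
import Groth.Prelude
import Groth.Agent.Lib.PjShriek3_helper3
import Groth.Agent.Lib.ApproxOpen_lead
import Groth.Agent.Lib.TorFunSite_helper2
import Groth.Agent.Lib.PerfTens1_helper3
import Groth.Agent.Lib.DTorCmp3_helper2

/-!
# `j_!` commutes with derived tensor products; internal `RHom` commutes with restriction (helper3)

* `nonempty_ltNatIso`: `- ⊗^L E` is `- ⊗ R` for a K-flat resolution `R → E`, naturally.
* `nonempty_shriek_ltensor_iso`: `j_!(N ⊗^L K|_U) ≅ j_!N ⊗^L K`, naturally in `N`.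
* `main6515`: `RHom(K, M)|_U ≅ RHom(K|_U, M|_U)`.
-/

set_option autoImplicit false
set_option linter.all false
set_option maxHeartbeats 1600000
set_option backward.isDefEq.respectTransparency false
set_option backward.isDefEq.respectTransparency.types false
set_option backward.defeqAttrib.useBackward true

universe u
open CategoryTheory CategoryTheory.Limits AlgebraicGeometry Opposite TopologicalSpace
open HomologicalComplex

attribute [local instance] HasDerivedCategory.standard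

namespace Groth.Agent.Lib.PjShriekH3

open Groth.Agent.Lib.ModSiteH8 Groth.Agent.Lib.ResSite Groth.Agent.Lib.KFlatGen
  Groth.Agent.Lib.KFlatSite Groth.Agent.Lib.PerfTensH3 Groth.Agent.Lib.ApproxOpenL
  Groth.Agent.Lib.DCohLocLead Groth.Agent.Lib.StalkSkyL

noncomputable section

/-- `- ⊗^L E` is `- ⊗ R` for a K-flat resolution `R → E`, naturally -/
theorem nonempty_ltNatIso {T : Scheme.{u}} (E R : CochainComplex T.Modules ℤ) (π : R ⟶ E)
    [QuasiIso π] (hR : DCoh.IsKFlat R) [DCoh.HasLTensorCx E] :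
    Nonempty (DerivedCategory.Q ⋙ DCoh.LTensorCx E ≅
      (DCoh.tensorCx (X := T)).flip.obj R ⋙ DerivedCategory.Q) := by
  haveI := hasExactColimitsOfShape_filtered T.sheaf ℕ
  haveI : ModSite.HasLTensorCx (O := T.sheaf) E := inferInstanceAs (DCoh.HasLTensorCx E)
  exact nonempty_natIso_of_kflat_resolution (ModSite.tensorBi T.sheaf) (sigmaNatIso T.sheaf)
    (flatClass T.sheaf) (resClass T.sheaf) E R π
    ((isKFlat_iff_gen T.sheaf R).1 hR) (ModSite.LTensorCx (O := T.sheaf) E) (counitCx T.sheaf E)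

variable {X : Scheme.{u}} (U : X.Opens)

/-- **`j_!(N ⊗^L K|_U) ≅ j_!N ⊗^L K`**, naturally in `N` -/
theorem nonempty_shriek_ltensor_iso (K : CochainComplex X.Modules ℤ) [DCoh.HasLTensorCx K]
    [DCoh.HasLTensorCx ((DCoh.restrictCx U).obj K)] :
    Nonempty (DCoh.LTensorCx ((DCoh.restrictCx U).obj K) ⋙ CxOX.extZeroD U.ι ≅
      CxOX.extZeroD U.ι ⋙ DCoh.LTensorCx K) := by
  obtain ⟨K', π, hK', hπ⟩ := Groth.Agent.Lib.DTorCmp.exists_kflat_resolution' K
  haveI := hπ
  haveI : QuasiIso ((RCj U.ι).map π) := inferInstance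
  obtain ⟨e1⟩ := nonempty_ltNatIso K K' π hK'
  obtain ⟨e2⟩ := nonempty_ltNatIso ((RCj U.ι).obj K) ((RCj U.ι).obj K') ((RCj U.ι).map π)
    (isKFlat_RC U.ι K' hK')
  let fac : DerivedCategory.Q ⋙ CxOX.extZeroD U.ι ≅ SCj U.ι ⋙ DerivedCategory.Q :=
    (Sj U.ι).mapDerivedCategoryFactors
  letI L1 : Localization.Lifting (DerivedCategory.Q (C := (U : Scheme.{u}).Modules))
      (HomologicalComplex.quasiIso (U : Scheme.{u}).Modules (ComplexShape.up ℤ))
      (((DCoh.tensorCx (X := (U : Scheme.{u}))).flip.obj ((RCj U.ι).obj K') ⋙ SCj U.ι) ⋙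
        DerivedCategory.Q)
      (DCoh.LTensorCx ((DCoh.restrictCx U).obj K) ⋙ CxOX.extZeroD U.ι) :=
    ⟨(Functor.associator _ _ _).symm ≪≫ Functor.isoWhiskerRight e2 (CxOX.extZeroD U.ι) ≪≫
      Functor.associator _ _ _ ≪≫ Functor.isoWhiskerLeft _ fac ≪≫ (Functor.associator _ _ _).symm⟩
  letI L2 : Localization.Lifting (DerivedCategory.Q (C := (U : Scheme.{u}).Modules))
      (HomologicalComplex.quasiIso (U : Scheme.{u}).Modules (ComplexShape.up ℤ))
      ((SCj U.ι ⋙ (DCoh.tensorCx (X := X)).flip.obj K') ⋙ DerivedCategory.Q)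
      (CxOX.extZeroD U.ι ⋙ DCoh.LTensorCx K) :=
    ⟨(Functor.associator _ _ _).symm ≪≫ Functor.isoWhiskerRight fac (DCoh.LTensorCx K) ≪≫
      Functor.associator _ _ _ ≪≫ Functor.isoWhiskerLeft _ e1 ≪≫ (Functor.associator _ _ _).symm⟩
  exact ⟨Localization.liftNatIso (DerivedCategory.Q (C := (U : Scheme.{u}).Modules))
    (HomologicalComplex.quasiIso (U : Scheme.{u}).Modules (ComplexShape.up ℤ)) _ _ _ _
    (Functor.isoWhiskerRight (pfCxNatIso U.ι K') DerivedCategory.Q)⟩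

/-- **internal `RHom` commutes with restriction to an open**, as an isomorphism of functors -/
theorem nonempty_RSheafHom_restrict_iso (K : CochainComplex X.Modules ℤ)
    [DCoh.HasLTensorCx K] [DCoh.HasRSheafHom K]
    [DCoh.HasLTensorCx ((DCoh.restrictCx U).obj K)]
    [DCoh.HasRSheafHom ((DCoh.restrictCx U).obj K)] :
    Nonempty (DCoh.RSheafHom K ⋙ DCoh.restrictD U.ι ≅
      DCoh.restrictD U.ι ⋙ DCoh.RSheafHom ((DCoh.restrictCx U).obj K)) := by
  obtain ⟨γ⟩ := nonempty_shriek_ltensor_iso U K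
  let adj1 : CxOX.extZeroD U.ι ⋙ DCoh.LTensorCx K ⊣ DCoh.RSheafHom K ⋙ DCoh.restrictD U.ι :=
    (adjShriek U).comp (DCoh.RSheafHomAdj K)
  let adj2 : DCoh.LTensorCx ((DCoh.restrictCx U).obj K) ⋙ CxOX.extZeroD U.ι ⊣
      DCoh.restrictD U.ι ⋙ DCoh.RSheafHom ((DCoh.restrictCx U).obj K) :=
    (DCoh.RSheafHomAdj ((DCoh.restrictCx U).obj K)).comp (adjShriek U)
  exact ⟨Adjunction.rightAdjointUniq (adj1.ofNatIsoLeft γ.symm) adj2⟩

/-- **S6515** -/
theorem main6515 (K : CochainComplex X.Modules ℤ)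
    [DCoh.HasLTensorCx K] [DCoh.HasRSheafHom K]
    [DCoh.HasLTensorCx ((DCoh.restrictCx U).obj K)]
    [DCoh.HasRSheafHom ((DCoh.restrictCx U).obj K)] (M : DCoh.D X) :
    Nonempty ((DCoh.restrictD U.ι).obj ((DCoh.RSheafHom K).obj M) ≅
      (DCoh.RSheafHom ((DCoh.restrictCx U).obj K)).obj ((DCoh.restrictD U.ι).obj M)) := by
  obtain ⟨e⟩ := nonempty_RSheafHom_restrict_iso U K
  exact ⟨e.app M⟩

end

end Groth.Agent.Lib.PjShriekH3
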