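import Mathlib
import Groth.Prelude
import Groth.Agent.Lib.PjShriek4_helper3
import Groth.Agent.Lib.BifColim_helper2
import Groth.Agent.Lib.DerCoprod2B_lead
import Groth.Agent.Lib.HocolimPerf2_helper3

/-!
# The derived tensor product commutes with direct sums (helper3)

* `preservesColimitsOfShape_map₂_flip_obj`: `Tot(F(-, P))` preserves colimits when all `F(-, Y)` do.
* `main11118`: `- ⊗^L D` commutes with direct sums in `D(O_X)`.
-/

set_option autoImplicit false
set_option linter.all false
set_option maxHeartbeats 1600000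
set_option backward.isDefEq.respectTransparency false
set_option backward.isDefEq.respectTransparency.types false
set_option backward.defeqAttrib.useBackward true

universe u
open CategoryTheory CategoryTheory.Limits AlgebraicGeometry
open HomologicalComplex

attribute [local instance] HasDerivedCategory.standard

namespace Groth.Agent.Lib.TensCoprodH3

open Groth.Agent.Lib

section Pres

variable {C₁ C₂ D : Type*} [Category C₁] [Category C₂] [Category D]
  [Preadditive C₁] [Preadditive C₂] [Abelian D]
  (F : C₁ ⥤ C₂ ⥤ D) [F.Additive] [∀ X₁, (F.obj X₁).Additive]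
  [∀ (K₁ : CochainComplex C₁ ℤ) (K₂ : CochainComplex C₂ ℤ),
    CochainComplex.HasMapBifunctor K₁ K₂ F]

lemma ι_nat_flip (P : CochainComplex C₂ ℤ) {K K' : CochainComplex C₁ ℤ} (f : K ⟶ K') (p q n : ℤ)
    (h : p + q = n) :
    (F.map (f.f p)).app (P.X q) ≫
        HomologicalComplex.ιMapBifunctor K' P F (ComplexShape.up ℤ) p q n h =
      HomologicalComplex.ιMapBifunctor K P F (ComplexShape.up ℤ) p q n h ≫
        ((F.map₂CochainComplex.flip.obj P).map f).f n := by
  erw [HomologicalComplex.ι_mapBifunctorMap]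
  rw [HomologicalComplex.id_f, CategoryTheory.Functor.map_id, Category.id_comp]

theorem preservesColimitsOfShape_map₂_flip_obj (J : Type*) [Category J] [HasColimitsOfShape J C₁]
    [∀ Y : C₂, PreservesColimitsOfShape J (F.flip.obj Y)] (P : CochainComplex C₂ ℤ) :
    PreservesColimitsOfShape J (F.map₂CochainComplex.flip.obj P) := by
  apply HomologicalComplex.preservesColimitsOfShape_of_eval
  intro n
  refine ⟨fun {K} => ⟨fun {c} hc => ⟨?_⟩⟩⟩
  let G : BifSES.Idx n → (CochainComplex C₁ ℤ ⥤ D) := fun x =>
    HomologicalComplex.eval C₁ (ComplexShape.up ℤ) x.1.1 ⋙ F.flip.obj (P.X x.1.2)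
  have hG : ∀ x, IsColimit ((G x).mapCocone c) := fun x => isColimitOfPreserves (G x) hc
  let Φ := F.map₂CochainComplex.flip.obj P ⋙ HomologicalComplex.eval D (ComplexShape.up ℤ) n
  let ι : ∀ (x : BifSES.Idx n) (M : CochainComplex C₁ ℤ), (G x).obj M ⟶ Φ.obj M := fun x M =>
    HomologicalComplex.ιMapBifunctor M P F (ComplexShape.up ℤ) x.1.1 x.1.2 n x.2
  have ιnat : ∀ (x : BifSES.Idx n) {M M' : CochainComplex C₁ ℤ} (f : M ⟶ M'),
      (G x).map f ≫ ι x M' = ι x M ≫ Φ.map f := fun x M M' f =>
    ι_nat_flip F P f x.1.1 x.1.2 n x.2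
  let cc : ∀ (s : Cocone (K ⋙ Φ)) (x : BifSES.Idx n), Cocone (K ⋙ G x) := fun s x =>
    { pt := s.pt
      ι := { app := fun j => ι x (K.obj j) ≫ s.ι.app j
             naturality := fun j j' f => by
              dsimp only [Functor.comp_map, Functor.const_obj_obj, Functor.const_obj_map]
              rw [Category.comp_id, ← Category.assoc, ιnat x (K.map f), Category.assoc]
              congr 1
              exact s.w f } }
  have hext : ∀ (M : CochainComplex C₁ ℤ) {Z : D} (a b : Φ.obj M ⟶ Z),
      (∀ x, ι x M ≫ a = ι x M ≫ b) → a = b := fun M Z a b hab =>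
    Cofan.IsColimit.hom_ext (BifSES.isColimitTotCofan F M P n) a b hab
  refine
    { desc := fun s => Cofan.IsColimit.desc (BifSES.isColimitTotCofan F c.pt P n)
        (fun x => (hG x).desc (cc s x))
      fac := fun s j => ?_
      uniq := fun s m hm => ?_ }
  · apply hext
    intro x
    have h1 : ι x c.pt ≫ Cofan.IsColimit.desc (BifSES.isColimitTotCofan F c.pt P n)
        (fun x => (hG x).desc (cc s x)) = (hG x).desc (cc s x) :=
      Cofan.IsColimit.fac (BifSES.isColimitTotCofan F c.pt P n) _ x
    let cj : K.obj j ⟶ c.pt := c.ι.app j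
    have h2 : (G x).map cj ≫ (hG x).desc (cc s x) = ι x (K.obj j) ≫ s.ι.app j :=
      (hG x).fac (cc s x) j
    show ι x (K.obj j) ≫ Φ.map cj ≫ _ = _
    rw [← Category.assoc, ← ιnat x cj, Category.assoc, h1, h2]
  · apply hext
    intro x
    have h1 : ι x c.pt ≫ Cofan.IsColimit.desc (BifSES.isColimitTotCofan F c.pt P n)
        (fun x => (hG x).desc (cc s x)) = (hG x).desc (cc s x) :=
      Cofan.IsColimit.fac (BifSES.isColimitTotCofan F c.pt P n) _ x
    rw [h1]
    apply (hG x).hom_ext
    intro j
    let cj : K.obj j ⟶ c.pt := c.ι.app j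
    have h2 : (G x).map cj ≫ (hG x).desc (cc s x) = ι x (K.obj j) ≫ s.ι.app j :=
      (hG x).fac (cc s x) j
    have h3 : Φ.map cj ≫ m = s.ι.app j := hm j
    show (G x).map cj ≫ ι x c.pt ≫ m = (G x).map cj ≫ (hG x).desc (cc s x)
    rw [h2, ← Category.assoc, ιnat x cj, Category.assoc, h3]

end Pres

noncomputable section

variable {X : Scheme.{u}}

theorem hasExactCoprod (X : Scheme.{u}) (ι : Type u) :
    HasExactColimitsOfShape (Discrete ι) X.Modules := by
  haveI := MVPushL.grothendieck_modules X
  haveI : AB4OfSize.{u} X.Modules := AB4.of_AB5 X.Modules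
  exact AB4OfSize.ofShape ι

instance preservesCoprod_tensorBi_flip_obj (ι : Type u) (N : X.Modules) :
    PreservesColimitsOfShape (Discrete ι) ((DCoh.tensorBi (X := X)).flip.obj N) :=
  (Groth.Agent.Lib.ModSiteH8.preservesColimits_flip (O := X.sheaf) N).preservesColimitsOfShape

/-- `Q` preserves direct sums of complexes of `O_X`-modules -/
theorem preservesColimit_Q_diagram {ι : Type u} (K : Discrete ι ⥤ CochainComplex X.Modules ℤ) :
    PreservesColimit K (DerivedCategory.Q (C := X.Modules)) := by
  haveI := hasExactCoprod X ι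
  haveI := DerCoprodB.preservesColimit_Q (A := X.Modules) (K.obj ∘ Discrete.mk)
  exact preservesColimit_of_iso_diagram _ (Discrete.natIsoFunctor (F := K)).symm

/-- a functor `G` on `D(O_X)` with `Q ⋙ G ≅ T ⋙ Q`, `T` commuting with direct sums of
complexes, commutes with direct sums -/
theorem preservesColimit_of_chain {Y : Scheme.{u}} (G : DCoh.D X ⥤ DCoh.D Y)
    (T : CochainComplex X.Modules ℤ ⥤ CochainComplex Y.Modules ℤ)
    (e : DerivedCategory.Q ⋙ G ≅ T ⋙ DerivedCategory.Q) {ι : Type u}
    [PreservesColimitsOfShape (Discrete ι) T] (C : ι → DCoh.D X) :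
    PreservesColimit (Discrete.functor C) G := by
  let K : ι → CochainComplex X.Modules ℤ := fun i => DerivedCategory.Q.objPreimage (C i)
  let eK : ∀ i, DerivedCategory.Q.obj (K i) ≅ C i :=
    fun i => DerivedCategory.Q.objObjPreimageIso (C i)
  haveI hQ1 := preservesColimit_Q_diagram (Discrete.functor K)
  haveI hQ2 := preservesColimit_Q_diagram (Discrete.functor K ⋙ T)
  haveI h1 : PreservesColimit (Discrete.functor K) (T ⋙ DerivedCategory.Q) :=
    comp_preservesColimit _ _
  haveI h2 : PreservesColimit (Discrete.functor K) (DerivedCategory.Q ⋙ G) :=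
    preservesColimit_of_natIso _ e.symm
  haveI h3 : PreservesColimit (Discrete.functor K ⋙ DerivedCategory.Q) G := by
    refine preservesColimit_of_preserves_colimit_cocone
      (isColimitOfPreserves DerivedCategory.Q (colimit.isColimit (Discrete.functor K))) ?_
    exact (isColimitOfPreserves (DerivedCategory.Q ⋙ G)
      (colimit.isColimit (Discrete.functor K))).ofIsoColimit
        (Functor.mapCoconeMapCocone _).symm
  let eD : Discrete.functor K ⋙ DerivedCategory.Q ≅ Discrete.functor C :=
    Discrete.natIso (fun ⟨j⟩ => eK j)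
  exact preservesColimit_of_iso_diagram G eD

theorem main11118 (X : Scheme.{u}) (D : CochainComplex X.Modules ℤ) [DCoh.HasLTensorCx D]
    {ι : Type u} (C : ι → DCoh.D X) [HasCoproduct C]
    [HasCoproduct (fun i => (DCoh.LTensorCx D).obj (C i))] :
    IsIso (Sigma.desc (fun i => (DCoh.LTensorCx D).map (Sigma.ι C i))) := by
  obtain ⟨R, π, hR, hπ⟩ := Groth.Agent.Lib.DTorCmp.exists_kflat_resolution' D
  haveI := hπ
  obtain ⟨e⟩ := PjShriekH3.nonempty_ltNatIso D R π hR
  haveI : PreservesColimitsOfShape (Discrete ι) ((DCoh.tensorCx (X := X)).flip.obj R) :=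
    preservesColimitsOfShape_map₂_flip_obj (DCoh.tensorBi (X := X)) (Discrete ι) R
  haveI := preservesColimit_of_chain (DCoh.LTensorCx D) _ e C
  exact (inferInstance : IsIso (sigmaComparison (DCoh.LTensorCx D) C))

end

end Groth.Agent.Lib.TensCoprodH3
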