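import Mathlib
import Groth.Prelude
import Groth.Agent.Lib.BrownTr1_helper3
import Groth.Agent.Lib.TensCoprod1_helper3
import Groth.Agent.Lib.WayOut_helper4
import Groth.Agent.Lib.DerAdjPlus_helper9

/-!
# The right adjoint of `i_*` on derived categories, for `i_*` exact with a right adjoint (helper3)

Let `i : Z ⟶ X` be a morphism of schemes such that `i_*` on modules is exact and has a right
adjoint `Hom(O_Z, -)` (e.g. a closed immersion).  Then `i_* : D(O_Z) ⥤ D(O_X)` has a right adjoint
`ix i` (Brown representability), which preserves `D^{≥ n}`, and on `D^+` it agrees with the right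
derived functor `R Hom(O_Z, -)` of Mathlib (`RHomOPlusIso`).
-/

set_option autoImplicit false
set_option linter.all false
set_option maxHeartbeats 1600000
set_option backward.isDefEq.respectTransparency false
set_option backward.isDefEq.respectTransparency.types false
set_option backward.defeqAttrib.useBackward true

universe u
open CategoryTheory CategoryTheory.Limits AlgebraicGeometry Opposite Pretriangulated

attribute [local instance] HasDerivedCategory.standard

namespace Groth.Agent.Lib.ClImmDualH3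

open DerivedCategory Groth.Agent.Lib.BrownTrH3

noncomputable section

section WT

variable {C : Type*} [Category C] [Preadditive C] [HasZeroObject C] [HasShift C ℤ]
  [∀ n : ℤ, (shiftFunctor C n).Additive] [Pretriangulated C]
  {D : Type*} [Category D] [Preadditive D] [HasZeroObject D] [HasShift D ℤ]
  [∀ n : ℤ, (shiftFunctor D n).Additive] [Pretriangulated D]

theorem weakTri_of_isTriangulated (G : C ⥤ D) [G.CommShift ℤ] [G.IsTriangulated] : WeakTri G := by
  intro T hT
  exact ⟨G.map T.mor₃ ≫ (G.commShiftIso (1 : ℤ)).hom.app T.obj₁, G.map_distinguished T hT⟩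

end WT

variable {Z X : Scheme.{u}} (i : Z ⟶ X) [Dual3.HasHomO i]
  [PreservesFiniteLimits (Scheme.Modules.pushforward i)]
  [PreservesFiniteColimits (Scheme.Modules.pushforward i)]

instance additive_pushD : (Dual3.pushD i).Additive := by
  dsimp only [Dual3.pushD]
  infer_instance

theorem preservesCoprod_pushD (ι : Type u) :
    PreservesColimitsOfShape (Discrete ι) (Dual3.pushD i) := by
  haveI : PreservesColimitsOfSize.{u, u} (Scheme.Modules.pushforward i) :=
    (Dual3.homOAdj i).leftAdjoint_preservesColimits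
  haveI : PreservesColimitsOfShape (Discrete ι) (Scheme.Modules.pushforward i) := inferInstance
  constructor
  intro K
  haveI := Groth.Agent.Lib.TensCoprodH3.preservesColimit_of_chain (Dual3.pushD i)
    ((Scheme.Modules.pushforward i).mapHomologicalComplex (ComplexShape.up ℤ))
    (Scheme.Modules.pushforward i).mapDerivedCategoryFactors (K.obj ∘ Discrete.mk)
  exact preservesColimit_of_iso_diagram _ (Discrete.natIsoFunctor (F := K)).symm

instance isLeftAdjoint_pushD : (Dual3.pushD i).IsLeftAdjoint := by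
  haveI := Groth.Agent.Lib.MVPushL.grothendieck_modules Z
  haveI := Groth.Agent.Lib.MVPushL.grothendieck_modules X
  exact isLeftAdjoint_of_weakTri (Dual3.pushD i) (weakTri_of_isTriangulated _)
    (fun ι => preservesCoprod_pushD i ι)

/-- the right adjoint `i^×` of `i_* : D(O_Z) ⥤ D(O_X)` -/
def ix : DCoh.D X ⥤ DCoh.D Z := (Dual3.pushD i).rightAdjoint

/-- the adjunction `i_* ⊣ i^×` -/
def adjD : Dual3.pushD i ⊣ ix i := Adjunction.ofIsLeftAdjoint _

theorem isGE_pushD (V : DCoh.D Z) (n : ℤ) [V.IsGE n] : ((Dual3.pushD i).obj V).IsGE n :=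
  Groth.Agent.Lib.WayOutH4.isGE_mapDerivedCategory (Scheme.Modules.pushforward i) V n inferInstance

theorem isLE_pushD (V : DCoh.D Z) (n : ℤ) [V.IsLE n] : ((Dual3.pushD i).obj V).IsLE n :=
  Groth.Agent.Lib.WayOutH4.isLE_mapDerivedCategory (Scheme.Modules.pushforward i) V n inferInstance

/-- `i^×` preserves `D^{≥ n}` -/
theorem isGE_ix (K : DCoh.D X) (n : ℤ) [K.IsGE n] : ((ix i).obj K).IsGE n := by
  show TStructure.t.IsGE _ n
  rw [TStructure.t.isGE_iff_orthogonal (n - 1) n (by omega)]
  intro V f hV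
  haveI : V.IsLE (n - 1) := hV
  haveI := isLE_pushD i V (n - 1)
  apply ((adjD i).homEquiv V K).symm.injective
  have h1 : ((adjD i).homEquiv V K).symm f = 0 :=
    TStructure.t.zero_of_isLE_of_isGE _ (n - 1) n (by omega) inferInstance inferInstance
  rw [h1, Adjunction.homEquiv_counit, Functor.map_zero, zero_comp]

/-! ### the bounded below level -/

/-- `i_*` on `D^+` -/
def LPlus : DerivedCategory.Plus Z.Modules ⥤ DerivedCategory.Plus X.Modules :=
  (TStructure.t (C := X.Modules)).plus.lift (DerivedCategory.Plus.ι ⋙ Dual3.pushD i) (by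
    rintro ⟨K, n, hn⟩
    haveI : K.IsGE n := hn
    exact ⟨n, isGE_pushD i K n⟩)

/-- `i^×` on `D^+` -/
def ixPlus : DerivedCategory.Plus X.Modules ⥤ DerivedCategory.Plus Z.Modules :=
  (TStructure.t (C := Z.Modules)).plus.lift (DerivedCategory.Plus.ι ⋙ ix i) (by
    rintro ⟨K, n, hn⟩
    haveI : K.IsGE n := hn
    exact ⟨n, isGE_ix i K n⟩)

/-- the adjunction on `D^+` -/
def adjPlus : LPlus i ⊣ ixPlus i :=
  (adjD i).restrictFullyFaithful (TStructure.t (C := Z.Modules)).plus.fullyFaithfulι
    (TStructure.t (C := X.Modules)).plus.fullyFaithfulι (Iso.refl _) (Iso.refl _)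

/-- `Qh⁺ ⋙ i_*⁺ ≅ K⁺(i_*) ⋙ Qh⁺` -/
def LPlusFac : DerivedCategory.Plus.Qh ⋙ LPlus i ≅
    (Scheme.Modules.pushforward i).mapHomotopyCategoryPlus ⋙ DerivedCategory.Plus.Qh :=
  ((TStructure.t (C := X.Modules)).plus.fullyFaithfulι.whiskeringRight _).preimageIso
    (Functor.isoWhiskerLeft (HomotopyCategory.Plus.ι Z.Modules)
      (Scheme.Modules.pushforward i).mapDerivedCategoryFactorsh)

section Inj

variable [EnoughInjectives Z.Modules] [EnoughInjectives X.Modules]

/-- `i_*⁺` is the right derived functor of `i_*` on `D^+` -/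
def LPlusIso : LPlus i ≅ (Scheme.Modules.pushforward i).rightDerivedFunctorPlus :=
  letI h₁ : Localization.Lifting (DerivedCategory.Plus.Qh (C := Z.Modules))
      (HomotopyCategory.Plus.quasiIso Z.Modules)
      ((Scheme.Modules.pushforward i).mapHomotopyCategoryPlus ⋙ DerivedCategory.Plus.Qh)
      (LPlus i) := ⟨LPlusFac i⟩
  letI h₂ : Localization.Lifting (DerivedCategory.Plus.Qh (C := Z.Modules))
      (HomotopyCategory.Plus.quasiIso Z.Modules)
      ((Scheme.Modules.pushforward i).mapHomotopyCategoryPlus ⋙ DerivedCategory.Plus.Qh)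
      (Scheme.Modules.pushforward i).rightDerivedFunctorPlus :=
    ⟨(asIso (Scheme.Modules.pushforward i).rightDerivedFunctorPlusUnit).symm⟩
  Localization.liftNatIso (DerivedCategory.Plus.Qh (C := Z.Modules))
    (HomotopyCategory.Plus.quasiIso Z.Modules)
    ((Scheme.Modules.pushforward i).mapHomotopyCategoryPlus ⋙ DerivedCategory.Plus.Qh)
    ((Scheme.Modules.pushforward i).mapHomotopyCategoryPlus ⋙ DerivedCategory.Plus.Qh)
    (LPlus i) (Scheme.Modules.pushforward i).rightDerivedFunctorPlus (Iso.refl _)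

/-- the adjunction `i_*⁺ ⊣ R Hom(O_Z, -)` on `D^+` -/
def adjRHomO : LPlus i ⊣ Dual3.RHomOPlus i :=
  (DerAdjPlus.derivedAdj (Dual3.homOAdj i)).ofNatIsoLeft (LPlusIso i).symm

/-- **`R Hom(O_Z, -)` is the restriction of `i^×` to `D^+`** -/
def ixPlusIso : ixPlus i ≅ Dual3.RHomOPlus i :=
  (adjPlus i).rightAdjointUniq (adjRHomO i)

/-- **`R Hom(O_Z, -) ⋙ ι ≅ ι ⋙ i^×`** -/
def RHomOPlusIso : Dual3.RHomOPlus i ⋙ DerivedCategory.Plus.ι ≅
    DerivedCategory.Plus.ι ⋙ ix i :=
  Functor.isoWhiskerRight (ixPlusIso i).symm DerivedCategory.Plus.ι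

end Inj

end

end Groth.Agent.Lib.ClImmDualH3
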