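import Groth.Agent.Lib.CxAdj3_helper3
import Groth.Agent.Lib.KFlatSite13_helper2

/-!
# From a chain-level adjunction `(- ⊗ E) ⊣ (- ⊗ D)` to `(- ⊗^L E) ⊣ (- ⊗^L D)` (helper3)

For K-flat `E`, `D` on a ringed site.
-/

set_option autoImplicit false
set_option linter.all false
set_option maxHeartbeats 1600000

universe u
open CategoryTheory Limits ModSite

namespace Groth.Agent.Lib.DualDerH3

open Groth.Agent.Lib.CxAdjH3 Groth.Agent.Lib.KFlatSite

attribute [local instance] HasDerivedCategory.standard

variable {C : Type u} [SmallCategory C] {J : GrothendieckTopology C} (O : Sheaf J CommRingCat.{u})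

/-- for K-flat `K`, `- ⊗^L K` is computed by `- ⊗ K` on all complexes -/
noncomputable def ltIso (K : CochainComplex (Mod O) ℤ) [ModSite.HasLTensorCx K]
    (hK : ModSite.IsKFlat K) :
    DerivedCategory.Q ⋙ ModSite.LTensorCx K ≅ TF K ⋙ DerivedCategory.Q :=
  haveI : ∀ X, IsIso ((counitCx O K).app X) := fun X => isIso_counitCx_right O K X hK
  haveI : IsIso (counitCx O K) := NatIso.isIso_of_isIso_app _
  asIso (counitCx O K)

lemma ltIso_hom_app (K : CochainComplex (Mod O) ℤ) [ModSite.HasLTensorCx K]
    (hK : ModSite.IsKFlat K) (X : CochainComplex (Mod O) ℤ) :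
    (ltIso O K hK).hom.app X = (counitCx O K).app X := rfl

/-- the commutative square of `- ⊗ K` and `- ⊗^L K` -/
@[instance_reducible]
noncomputable def catCommSq (K : CochainComplex (Mod O) ℤ) [ModSite.HasLTensorCx K]
    (hK : ModSite.IsKFlat K) :
    CatCommSq (TF K) DerivedCategory.Q DerivedCategory.Q (ModSite.LTensorCx K) :=
  ⟨(ltIso O K hK).symm⟩

/-- **the derived adjunction** -/
noncomputable def derivedAdj (E D : CochainComplex (Mod O) ℤ) [ModSite.HasLTensorCx E]
    [ModSite.HasLTensorCx D] (hE : ModSite.IsKFlat E) (hD : ModSite.IsKFlat D)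
    (adj : TF E ⊣ TF D) : ModSite.LTensorCx E ⊣ ModSite.LTensorCx D :=
  letI := catCommSq O E hE
  letI := catCommSq O D hD
  adj.localization DerivedCategory.Q
    (HomologicalComplex.quasiIso (Mod O) (ComplexShape.up ℤ)) DerivedCategory.Q
    (HomologicalComplex.quasiIso (Mod O) (ComplexShape.up ℤ)) (ModSite.LTensorCx E)
    (ModSite.LTensorCx D)

lemma derivedAdj_counit_app (E D : CochainComplex (Mod O) ℤ) [ModSite.HasLTensorCx E]
    [ModSite.HasLTensorCx D] (hE : ModSite.IsKFlat E) (hD : ModSite.IsKFlat D)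
    (adj : TF E ⊣ TF D) (M : CochainComplex (Mod O) ℤ) :
    (derivedAdj O E D hE hD adj).counit.app (DerivedCategory.Q.obj M) =
      (ModSite.LTensorCx E).map ((ltIso O D hD).hom.app M) ≫
        (ltIso O E hE).hom.app ((TF D).obj M) ≫ DerivedCategory.Q.map (adj.counit.app M) := by
  letI := catCommSq O E hE
  letI := catCommSq O D hD
  exact Adjunction.localization_counit_app adj DerivedCategory.Q
    (HomologicalComplex.quasiIso (Mod O) (ComplexShape.up ℤ)) DerivedCategory.Q
    (HomologicalComplex.quasiIso (Mod O) (ComplexShape.up ℤ)) (ModSite.LTensorCx E)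
    (ModSite.LTensorCx D) M

end Groth.Agent.Lib.DualDerH3
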