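import Groth.Agent.Lib.DualMod1_helper3

/-!
# The dual complex of a complex of dualizable modules, and its `DualData` (helper3)
-/

set_option autoImplicit false
set_option linter.all false
set_option maxHeartbeats 1600000

universe u
open CategoryTheory Limits ModSite

namespace Groth.Agent.Lib.DualModH3

open Groth.Agent.Lib.ModSiteH8 Groth.Agent.Lib.DualLFH4 Groth.Agent.Lib.TensorAssoc
  Groth.Agent.Lib.CxAdjH3

attribute [local instance] Groth.Agent.Lib.ModSiteH8.hasSheafHom

variable {C : Type u} [SmallCategory C] {J : GrothendieckTopology C} (O : Sheaf J CommRingCat.{u})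
variable (E : CochainComplex (Mod O) ℤ)

/-- the dual complex: `D^b = (E^{-b})^∨` -/
noncomputable def dualCx : CochainComplex (Mod O) ℤ where
  X b := dual O (E.X (-b))
  d i j := if h : i + 1 = j then (-j).negOnePow • dualMap O (E.d (-j) (-i)) else 0
  shape i j hij := dif_neg hij
  d_comp_d' i j k hij hjk := by
    obtain rfl : i + 1 = j := hij
    obtain rfl : i + 1 + 1 = k := hjk
    rw [dif_pos rfl, dif_pos rfl]
    simp only [Linear.units_smul_comp, Linear.comp_units_smul]
    rw [← dualMap_comp, E.d_comp_d, dualMap_zero]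
    simp

lemma dualCx_X (b : ℤ) : (dualCx O E).X b = dual O (E.X (-b)) := rfl

lemma dualCx_d (i j : ℤ) (h : i + 1 = j) :
    (dualCx O E).d i j = (-j).negOnePow • dualMap O (E.d (-j) (-i)) := dif_pos h

lemma FlMap_units_smul {N N' : Mod O} (s : ℤˣ) (φ : N ⟶ N') :
    FlMap O (s • φ) = s • FlMap O φ := by
  refine NatTrans.ext (funext fun A => ?_)
  rw [NatTrans.app_units_zsmul]
  exact Functor.map_units_smul ((tensorBi O).obj A) s φ

lemma smul_aux {A : Type*} [AddCommGroup A] (s : ℤˣ) (x y : A) (h : x = s • y)
    (hs : s * s = 1) : s • x = y := by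
  rw [h, smul_smul, hs, one_smul]

variable [∀ i, IsIso (kappa O (E.X i))]

/-- the termwise adjunctions -/
noncomputable def dualCxAdj (b c : ℤ) (h : b + c = 0) :
    Fl O (E.X c) ⊣ Fl O ((dualCx O E).X b) := by
  have hc : c = -b := by omega
  subst hc
  exact dualAdj O (E.X (-b))

lemma dualCxAdj_self (b : ℤ) :
    dualCxAdj O E b (-b) (by omega) = dualAdj O (E.X (-b)) := rfl

/-- **the duality data of the dual complex** -/
noncomputable def dualData : DualData O E (dualCx O E) where
  adj b c h := dualCxAdj O E b c h
  conj b b' c c' h h' hc := by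
    obtain rfl : c = -b := by omega
    obtain rfl : c' = -b' := by omega
    rw [dualCxAdj_self, dualCxAdj_self]
    have h3 : FlMap O ((dualCx O E).d b' b) =
        (-b).negOnePow • FlMap O (dualMap O (E.d (-b) (-b'))) :=
      (congrArg (fun φ => FlMap O φ) (dualCx_d O E b' b (by omega))).trans
        (FlMap_units_smul O _ _)
    have h2 : (-b).negOnePow • FlMap O ((dualCx O E).d b' b) =
        FlMap O (dualMap O (E.d (-b) (-b'))) :=
      smul_aux _ _ _ h3 (Int.units_mul_self _)
    exact (dualAdj_conj O (E.d (-b) (-b'))).trans h2.symm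

end Groth.Agent.Lib.DualModH3
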