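import Mathlib
import Groth.Agent.Lib.ExtendScalars_helper2

/-!
# Fibre ranks of modules along maps to fields (helper3)

For a ring `R`, a finite `R`-module `M` and a ring map `R → k` to a field, the fibre rank
`dim_k (k ⊗ M)` is upper semicontinuous in the following "family" form: there is `f ∈ R`, not
mapping to zero in `k`, such that for every other map to a field `R → k'` not killing `f` the
fibre rank at `k'` is at most that at `k`.  For finite projective modules it is locally constant.
-/

set_option autoImplicit false
set_option linter.all false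
set_option maxHeartbeats 1600000

universe u

open TensorProduct

namespace Groth.Agent.Lib.FibreRkH3

variable {R : Type u} [CommRing R]

section Tensor

variable (M : Type u) [AddCommGroup M] [Module R M]

theorem span_one_tmul (k : Type u) [Field k] [Algebra R k] :
    Submodule.span k (Set.range fun m : M => (1 : k) ⊗ₜ[R] m) = ⊤ := by
  rw [eq_top_iff]
  rintro x -
  induction x using TensorProduct.induction_on with
  | zero => exact Submodule.zero_mem _
  | tmul a m =>
    have : a ⊗ₜ[R] m = a • ((1 : k) ⊗ₜ[R] m) := by
      rw [TensorProduct.smul_tmul', smul_eq_mul, mul_one]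
    rw [this]
    exact Submodule.smul_mem _ _ (Submodule.subset_span ⟨m, rfl⟩)
  | add x y hx hy => exact Submodule.add_mem _ hx hy

/-- generators of the fibre -/
theorem exists_gen [Module.Finite R M] (k : Type u) [Field k] [Algebra R k] :
    ∃ u : (Fin (Module.finrank k (k ⊗[R] M)) → R) →ₗ[R] M,
      Subsingleton (k ⊗[R] (M ⧸ LinearMap.range u)) := by
  classical
  let s : Set (k ⊗[R] M) := Set.range fun m : M => (1 : k) ⊗ₜ[R] m
  have hs : Submodule.span k s = ⊤ := span_one_tmul M k
  obtain ⟨b, hb, hspan, -⟩ := Submodule.exists_fun_fin_finrank_span_eq k s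
  have hr : Module.finrank k (Submodule.span k s) = Module.finrank k (k ⊗[R] M) := by
    rw [hs]
    exact finrank_top _ _
  obtain ⟨n, hn, b, hb, hspan⟩ : ∃ n, n = Module.finrank k (k ⊗[R] M) ∧
      ∃ b : Fin n → k ⊗[R] M, (∀ i, b i ∈ s) ∧ Submodule.span k (Set.range b) = ⊤ :=
    ⟨_, hr, b, hb, hspan.trans hs⟩
  subst hn
  choose m hm using hb
  let u : (Fin (Module.finrank k (k ⊗[R] M)) → R) →ₗ[R] M := Fintype.linearCombination R m
  refine ⟨u, ?_⟩
  have hπ : Function.Surjective ((LinearMap.range u).mkQ.baseChange k) := by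
    rw [LinearMap.baseChange_eq_ltensor]
    exact LinearMap.lTensor_surjective _ (Submodule.mkQ_surjective _)
  have hzero : (LinearMap.range u).mkQ.baseChange k = 0 := by
    refine LinearMap.ext_on_range hspan fun i => ?_
    rw [← hm i, LinearMap.baseChange_tmul, LinearMap.zero_apply]
    have : (LinearMap.range u).mkQ (m i) = 0 := by
      rw [Submodule.mkQ_apply, Submodule.Quotient.mk_eq_zero]
      exact ⟨Pi.single i 1, by simp [u, Fintype.linearCombination_apply_single]⟩
    rw [this, TensorProduct.tmul_zero]
  refine subsingleton_of_forall_eq 0 fun y => ?_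
  obtain ⟨x, rfl⟩ := hπ y
  rw [hzero, LinearMap.zero_apply]

/-- a finite module with vanishing fibre at `k` is killed by an element not vanishing in `k` -/
theorem exists_ann (N : Type u) [AddCommGroup N] [Module R N] [Module.Finite R N]
    (k : Type u) [Field k] [Algebra R k] [hN : Subsingleton (k ⊗[R] N)] :
    ∃ f : R, f ∈ Module.annihilator R N ∧ algebraMap R k f ≠ 0 := by
  let P : Ideal R := RingHom.ker (algebraMap R k)
  haveI hP : P.IsPrime := RingHom.ker_isPrime _
  let 𝔭 : PrimeSpectrum R := ⟨P, hP⟩
  have h1 : 𝔭 ∉ Module.support R N := by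
    rw [Module.mem_support_iff_nontrivial_residueField_tensorProduct]
    intro hnt
    change Nontrivial (P.ResidueField ⊗[R] N) at hnt
    let g : P.ResidueField →+* k :=
      Ideal.ResidueField.lift P (algebraMap R k) le_rfl (by
        intro x hx
        have hx' : algebraMap R k x ≠ 0 := fun h => hx ((RingHom.mem_ker).2 h)
        exact (isUnit_iff_ne_zero.2 hx'))
    letI : Algebra P.ResidueField k := g.toAlgebra
    haveI : IsScalarTower R P.ResidueField k :=
      IsScalarTower.of_algebraMap_eq (fun r =>
        (Ideal.ResidueField.lift_algebraMap P (algebraMap R k) le_rfl _ r).symm)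
    let e := TensorProduct.AlgebraTensorModule.cancelBaseChange R P.ResidueField k k N
    haveI : Nontrivial (k ⊗[P.ResidueField] (P.ResidueField ⊗[R] N)) :=
      Module.FaithfullyFlat.rTensor_nontrivial _ _ _
    exact not_subsingleton (k ⊗[P.ResidueField] (P.ResidueField ⊗[R] N)) e.toEquiv.subsingleton
  rw [Module.mem_support_iff_of_finite] at h1
  obtain ⟨f, hf, hfp⟩ := SetLike.not_le_iff_exists.mp h1
  exact ⟨f, hf, fun h => hfp ((RingHom.mem_ker).2 h)⟩

variable {M}

theorem subsingleton_tensor_of_ann (N : Type u) [AddCommGroup N] [Module R N] (f : R)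
    (hf : f ∈ Module.annihilator R N) (k' : Type u) [Field k'] [Algebra R k']
    (hf' : algebraMap R k' f ≠ 0) : Subsingleton (k' ⊗[R] N) := by
  have h0 : ∀ x : k' ⊗[R] N, f • x = 0 := by
    intro x
    induction x using TensorProduct.induction_on with
    | zero => exact smul_zero _
    | tmul a n =>
      rw [← TensorProduct.tmul_smul, (Module.mem_annihilator.1 hf) n, TensorProduct.tmul_zero]
    | add x y hx hy => rw [smul_add, hx, hy, add_zero]
  refine subsingleton_of_forall_eq 0 fun x => ?_
  have h1 : algebraMap R k' f • x = 0 := by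
    rw [algebraMap_smul]
    exact h0 x
  rcases smul_eq_zero.1 h1 with h | h
  · exact absurd h hf'
  · exact h

theorem surjective_baseChange_of_ann {n : ℕ} (u : (Fin n → R) →ₗ[R] M) (f : R)
    (hf : f ∈ Module.annihilator R (M ⧸ LinearMap.range u)) (k' : Type u) [Field k']
    [Algebra R k'] (hf' : algebraMap R k' f ≠ 0) :
    Function.Surjective (u.baseChange k') := by
  haveI := subsingleton_tensor_of_ann (M ⧸ LinearMap.range u) f hf k' hf'
  have hex : Function.Exact (u.lTensor k') ((LinearMap.range u).mkQ.lTensor k') :=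
    lTensor_exact _ (LinearMap.exact_map_mkQ_range u) (Submodule.mkQ_surjective _)
  intro y
  obtain ⟨x, hx⟩ := (hex y).1 (Subsingleton.elim _ _)
  refine ⟨x, ?_⟩
  rw [LinearMap.baseChange_eq_ltensor]
  exact hx

lemma finrank_baseChange_fin (n : ℕ) (k' : Type u) [Field k'] [Algebra R k'] :
    Module.finrank k' (k' ⊗[R] (Fin n → R)) = n := by
  haveI : Nontrivial R := RingHom.domain_nontrivial (algebraMap R k')
  rw [Module.finrank_baseChange (R := k') (S := R) (M' := Fin n → R), Module.finrank_fin_fun]

variable (M)

/-- **upper semicontinuity of the fibre rank**, family form -/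
theorem exists_le_tensor [Module.Finite R M] (k : Type u) [Field k] [Algebra R k] :
    ∃ f : R, algebraMap R k f ≠ 0 ∧ ∀ (k' : Type u) [Field k'] [Algebra R k'],
      algebraMap R k' f ≠ 0 →
        Module.finrank k' (k' ⊗[R] M) ≤ Module.finrank k (k ⊗[R] M) := by
  obtain ⟨u, hu⟩ := exists_gen (R := R) M k
  haveI := hu
  obtain ⟨f, hf, hfk⟩ := exists_ann (R := R) (M ⧸ LinearMap.range u) k
  refine ⟨f, hfk, fun k' _ _ hf' => ?_⟩
  have hsurj := surjective_baseChange_of_ann u f hf k' hf'
  have h1 := LinearMap.finrank_range_le (u.baseChange k')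
  rw [LinearMap.range_eq_top.2 hsurj, finrank_top, finrank_baseChange_fin] at h1
  exact h1

/-- the fibre rank as a rank at a stalk -/
theorem finrank_tensor_eq_rankAtStalk [Module.Finite R M] [Module.Projective R M]
    (k : Type u) [Field k] [Algebra R k] :
    Module.finrank k (k ⊗[R] M) =
      Module.rankAtStalk M (PrimeSpectrum.comap (algebraMap R k) ⟨⊥, Ideal.bot_prime⟩) := by
  rw [← Module.rankAtStalk_baseChange, Module.rankAtStalk_eq_finrank_of_free]
  rfl

/-- **local constancy of the fibre rank of a finite projective module**, family form -/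
theorem exists_eq_tensor [Module.Finite R M] [Module.Projective R M]
    (k : Type u) [Field k] [Algebra R k] :
    ∃ f : R, algebraMap R k f ≠ 0 ∧ ∀ (k' : Type u) [Field k'] [Algebra R k'],
      algebraMap R k' f ≠ 0 →
        Module.finrank k' (k' ⊗[R] M) = Module.finrank k (k ⊗[R] M) := by
  let p₀ : PrimeSpectrum R := PrimeSpectrum.comap (algebraMap R k) ⟨⊥, Ideal.bot_prime⟩
  haveI : Module.FinitePresentation R M := Module.finitePresentation_of_projective R M
  have hlc : IsLocallyConstant (Module.rankAtStalk (R := R) M) :=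
    Module.isLocallyConstant_rankAtStalk
  have hopen : IsOpen {q : PrimeSpectrum R | Module.rankAtStalk M q = Module.rankAtStalk M p₀} :=
    hlc.isOpen_fiber _
  obtain ⟨_, ⟨f, rfl⟩, hpf, hfU⟩ :=
    PrimeSpectrum.isTopologicalBasis_basic_opens.exists_subset_of_mem_open
      (show p₀ ∈ {q : PrimeSpectrum R | Module.rankAtStalk M q = Module.rankAtStalk M p₀}
        from rfl) hopen
  refine ⟨f, ?_, fun k' _ _ hf' => ?_⟩
  · intro h
    apply hpf
    show f ∈ Ideal.comap (algebraMap R k) ⊥
    rw [Ideal.mem_comap, Ideal.mem_bot]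
    exact h
  · rw [finrank_tensor_eq_rankAtStalk M k', finrank_tensor_eq_rankAtStalk M k]
    apply hfU
    intro h
    apply hf'
    have : f ∈ Ideal.comap (algebraMap R k') ⊥ := h
    rwa [Ideal.mem_comap, Ideal.mem_bot] at this

end Tensor

end Groth.Agent.Lib.FibreRkH3
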