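import Mathlib
import Groth.Agent.Lib.FibreRk1_helper3

/-!
# Fibre Betti numbers of complexes of finite projective modules (helper3)

`betaC P i ψ = dim_k H^i(k ⊗_R P)` for a ring map `ψ : R → k` to a field, upper semicontinuity
(family form), and the Euler characteristic.
-/

set_option autoImplicit false
set_option linter.all false
set_option maxHeartbeats 1600000

universe u

open TensorProduct CategoryTheory CategoryTheory.Limits

namespace Groth.Agent.Lib.FibreRkH3

variable {R : Type u} [CommRing R]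

/-- fibre rank of `M` along `ψ` -/
noncomputable def fdim (M : ModuleCat.{u} R) {k : Type u} [Field k] (ψ : R →+* k) : ℕ :=
  Module.finrank k ((ModuleCat.extendScalars.{u, u, u} ψ).obj M)

theorem fdim_eq (M : ModuleCat.{u} R) {k : Type u} [Field k] (ψ : R →+* k) :
    letI := ψ.toAlgebra
    fdim M ψ = Module.finrank k (k ⊗[R] M) := by
  letI := ψ.toAlgebra
  exact (Groth.Agent.ExtendScalarsLib.extendScalarsEquivTensor (S := k) M).finrank_eq

theorem finite_extendScalars (M : ModuleCat.{u} R) [Module.Finite R M] {k : Type u} [Field k]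
    (ψ : R →+* k) : Module.Finite k ((ModuleCat.extendScalars.{u, u, u} ψ).obj M) := by
  letI := ψ.toAlgebra
  exact Module.Finite.equiv
    (Groth.Agent.ExtendScalarsLib.extendScalarsEquivTensor (S := k) M).symm

theorem fdim_congr {M N : ModuleCat.{u} R} (e : M ≅ N) {k : Type u} [Field k] (ψ : R →+* k) :
    fdim M ψ = fdim N ψ :=
  ((ModuleCat.extendScalars.{u, u, u} ψ).mapIso e).toLinearEquiv.finrank_eq

theorem fdim_usc (M : ModuleCat.{u} R) [Module.Finite R M] {k : Type u} [Field k]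
    (ψ : R →+* k) :
    ∃ f : R, ψ f ≠ 0 ∧ ∀ (k' : Type u) [Field k'] (ψ' : R →+* k'), ψ' f ≠ 0 →
      fdim M ψ' ≤ fdim M ψ := by
  letI := ψ.toAlgebra
  obtain ⟨f, hf, h⟩ := exists_le_tensor (R := R) M k
  refine ⟨f, hf, fun k' _ ψ' hf' => ?_⟩
  letI := ψ'.toAlgebra
  rw [fdim_eq M ψ', fdim_eq M ψ]
  exact h k' hf'

theorem fdim_lc (M : ModuleCat.{u} R) [Module.Finite R M] [Module.Projective R M]
    {k : Type u} [Field k] (ψ : R →+* k) :
    ∃ f : R, ψ f ≠ 0 ∧ ∀ (k' : Type u) [Field k'] (ψ' : R →+* k'), ψ' f ≠ 0 →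
      fdim M ψ' = fdim M ψ := by
  letI := ψ.toAlgebra
  obtain ⟨f, hf, h⟩ := exists_eq_tensor (R := R) M k
  refine ⟨f, hf, fun k' _ ψ' hf' => ?_⟩
  letI := ψ'.toAlgebra
  rw [fdim_eq M ψ', fdim_eq M ψ]
  exact h k' hf'

theorem fdim_of_isZero (M : ModuleCat.{u} R) (hM : IsZero M) {k : Type u} [Field k]
    (ψ : R →+* k) : fdim M ψ = 0 := by
  have h : IsZero ((ModuleCat.extendScalars.{u, u, u} ψ).obj M) :=
    (ModuleCat.extendScalars.{u, u, u} ψ).map_isZero hM
  haveI : Subsingleton ((ModuleCat.extendScalars.{u, u, u} ψ).obj M) :=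
    ModuleCat.subsingleton_of_isZero h
  exact Module.finrank_zero_of_subsingleton

/-! ### short complexes of finite dimensional vector spaces -/

section SC

variable {k : Type u} [Field k] (S : ShortComplex (ModuleCat.{u} k))

theorem finrank_homology_add_ranges [Module.Finite k S.X₂] :
    Module.finrank k S.homology + Module.finrank k (LinearMap.range S.f.hom) +
      Module.finrank k (LinearMap.range S.g.hom) = Module.finrank k S.X₂ := by
  have a1 : Module.finrank k S.homology =
      Module.finrank k (LinearMap.ker S.g.hom ⧸ LinearMap.range S.moduleCatToCycles) :=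
    S.moduleCatHomologyIso.toLinearEquiv.finrank_eq
  have a2 := Submodule.finrank_quotient_add_finrank (LinearMap.range S.moduleCatToCycles)
  have a3 : Module.finrank k (LinearMap.range S.moduleCatToCycles) =
      Module.finrank k (LinearMap.range S.f.hom) := by
    have h : LinearMap.range S.f.hom =
        Submodule.map (LinearMap.ker S.g.hom).subtype (LinearMap.range S.moduleCatToCycles) := by
      rw [← LinearMap.range_comp]
      congr 1
    rw [h]
    exact (Submodule.equivMapOfInjective _ (Submodule.injective_subtype _) _).finrank_eq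
  have a4 := LinearMap.finrank_range_add_finrank_ker S.g.hom
  omega

theorem finrank_homology_add [Module.Finite k S.X₂] [Module.Finite k S.X₃] :
    Module.finrank k S.homology + Module.finrank k S.X₃ =
      Module.finrank k (cokernel S.f : ModuleCat.{u} k) +
        Module.finrank k (cokernel S.g : ModuleCat.{u} k) := by
  have a0 := finrank_homology_add_ranges S
  have a2 : Module.finrank k (cokernel S.f : ModuleCat.{u} k) =
      Module.finrank k (S.X₂ ⧸ LinearMap.range S.f.hom) :=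
    (ModuleCat.cokernelIsoRangeQuotient S.f).toLinearEquiv.finrank_eq
  have a2' := Submodule.finrank_quotient_add_finrank (LinearMap.range S.f.hom)
  have a3 : Module.finrank k (cokernel S.g : ModuleCat.{u} k) =
      Module.finrank k (S.X₃ ⧸ LinearMap.range S.g.hom) :=
    (ModuleCat.cokernelIsoRangeQuotient S.g).toLinearEquiv.finrank_eq
  have a3' := Submodule.finrank_quotient_add_finrank (LinearMap.range S.g.hom)
  omega

end SC

/-! ### complexes -/

section Cx

variable (P : CochainComplex (ModuleCat.{u} R) ℤ)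

/-- `k ⊗_R P` -/
noncomputable abbrev CES {k : Type u} [Field k] (ψ : R →+* k) :
    CochainComplex (ModuleCat.{u} k) ℤ :=
  ((ModuleCat.extendScalars.{u, u, u} ψ).mapHomologicalComplex (ComplexShape.up ℤ)).obj P

/-- `dim_k H^i(k ⊗_R P)` -/
noncomputable def betaC (i : ℤ) {k : Type u} [Field k] (ψ : R →+* k) : ℕ :=
  Module.finrank k ((CES P ψ).homology i : ModuleCat.{u} k)

theorem finite_cokernel {A B : ModuleCat.{u} R} (d : A ⟶ B) [Module.Finite R B] :
    Module.Finite R (cokernel d : ModuleCat.{u} R) :=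
  Module.Finite.equiv (ModuleCat.cokernelIsoRangeQuotient d).symm.toLinearEquiv

theorem fdim_cokernel {A B : ModuleCat.{u} R} (d : A ⟶ B) {k : Type u} [Field k]
    (ψ : R →+* k) :
    Module.finrank k (cokernel ((ModuleCat.extendScalars.{u, u, u} ψ).map d) : ModuleCat.{u} k) =
      fdim (cokernel d) ψ :=
  (PreservesCokernel.iso (ModuleCat.extendScalars.{u, u, u} ψ) d).symm.toLinearEquiv.finrank_eq

theorem betaC_add (i : ℤ) (hfin : ∀ j, Module.Finite R (P.X j)) {k : Type u} [Field k]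
    (ψ : R →+* k) :
    betaC P i ψ + fdim (P.X ((ComplexShape.up ℤ).next i)) ψ =
      fdim (cokernel (P.d ((ComplexShape.up ℤ).prev i) i)) ψ +
        fdim (cokernel (P.d i ((ComplexShape.up ℤ).next i))) ψ := by
  haveI := hfin
  haveI h2 : Module.Finite k ((CES P ψ).sc i).X₂ := finite_extendScalars (P.X i) ψ
  haveI h3 : Module.Finite k ((CES P ψ).sc i).X₃ :=
    finite_extendScalars (P.X ((ComplexShape.up ℤ).next i)) ψ
  have h := finrank_homology_add ((CES P ψ).sc i)
  rw [← fdim_cokernel, ← fdim_cokernel]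
  exact h

theorem betaC_usc (i : ℤ) (hfin : ∀ j, Module.Finite R (P.X j))
    (hproj : ∀ j, Module.Projective R (P.X j)) {k : Type u} [Field k] (ψ : R →+* k) :
    ∃ f : R, ψ f ≠ 0 ∧ ∀ (k' : Type u) [Field k'] (ψ' : R →+* k'), ψ' f ≠ 0 →
      betaC P i ψ' ≤ betaC P i ψ := by
  haveI := hfin
  haveI := hproj
  haveI := finite_cokernel (P.d ((ComplexShape.up ℤ).prev i) i)
  haveI := finite_cokernel (P.d i ((ComplexShape.up ℤ).next i))
  obtain ⟨f₁, hf₁, H₁⟩ := fdim_usc (cokernel (P.d ((ComplexShape.up ℤ).prev i) i)) ψ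
  obtain ⟨f₂, hf₂, H₂⟩ := fdim_usc (cokernel (P.d i ((ComplexShape.up ℤ).next i))) ψ
  obtain ⟨f₃, hf₃, H₃⟩ := fdim_lc (P.X ((ComplexShape.up ℤ).next i)) ψ
  refine ⟨f₁ * f₂ * f₃, ?_, fun k' _ ψ' hf' => ?_⟩
  · rw [map_mul, map_mul]
    exact mul_ne_zero (mul_ne_zero hf₁ hf₂) hf₃
  · rw [map_mul, map_mul] at hf'
    have g₁ : ψ' f₁ ≠ 0 := fun h => hf' (by rw [h, zero_mul, zero_mul])
    have g₂ : ψ' f₂ ≠ 0 := fun h => hf' (by rw [h, mul_zero, zero_mul])
    have g₃ : ψ' f₃ ≠ 0 := fun h => hf' (by rw [h, mul_zero])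
    have e := betaC_add P i hfin ψ
    have e' := betaC_add P i hfin ψ'
    have c₁ := H₁ k' ψ' g₁
    have c₂ := H₂ k' ψ' g₂
    have c₃ := H₃ k' ψ' g₃
    omega

end Cx

/-! ### the Euler characteristic -/

section Euler

variable {k : Type u} [Field k] (C : CochainComplex (ModuleCat.{u} k) ℤ)

/-- rank of the differential -/
noncomputable def rkd (a b : ℤ) : ℕ := Module.finrank k (LinearMap.range (C.d a b).hom)

theorem rkd_congr {a a' b b' : ℤ} (ha : a = a') (hb : b = b') : rkd C a b = rkd C a' b' := by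
  subst ha hb
  rfl

theorem rkd_eq_zero_of_isZero_left {a b : ℤ} (h : IsZero (C.X a)) : rkd C a b = 0 := by
  have h0 : C.d a b = 0 := h.eq_of_src _ _
  unfold rkd
  rw [h0]
  have : LinearMap.range (0 : C.X a ⟶ C.X b).hom = ⊥ := by
    rw [ModuleCat.hom_zero]
    exact LinearMap.range_zero
  rw [this]
  exact finrank_bot _ _

theorem rkd_eq_zero_of_isZero_right {a b : ℤ} (h : IsZero (C.X b)) : rkd C a b = 0 := by
  have h0 : C.d a b = 0 := h.eq_of_tgt _ _
  unfold rkd
  rw [h0]
  have : LinearMap.range (0 : C.X a ⟶ C.X b).hom = ⊥ := by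
    rw [ModuleCat.hom_zero]
    exact LinearMap.range_zero
  rw [this]
  exact finrank_bot _ _

theorem finrank_homology_eq (hfin : ∀ j, Module.Finite k (C.X j)) (j : ℤ) :
    (Module.finrank k (C.homology j : ModuleCat.{u} k) : ℤ) =
      (Module.finrank k (C.X j) : ℤ) - (rkd C j (j + 1) : ℤ) - (rkd C (j - 1) j : ℤ) := by
  haveI : Module.Finite k (C.sc j).X₂ := hfin j
  have h := finrank_homology_add_ranges (C.sc j)
  have e1 : Module.finrank k (LinearMap.range (C.sc j).f.hom) = rkd C (j - 1) j :=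
    rkd_congr C (CochainComplex.prev ℤ j) rfl
  have e2 : Module.finrank k (LinearMap.range (C.sc j).g.hom) = rkd C j (j + 1) :=
    rkd_congr C rfl (CochainComplex.next ℤ j)
  have e3 : Module.finrank k (C.sc j).homology = Module.finrank k (C.homology j : ModuleCat.{u} k) :=
    rfl
  have e4 : Module.finrank k (C.sc j).X₂ = Module.finrank k (C.X j) := rfl
  omega

theorem euler_eq (hfin : ∀ j, Module.Finite k (C.X j)) (a b : ℤ)
    (hvan : ∀ j : ℤ, j < a ∨ b < j → IsZero (C.X j)) :
    (∑ᶠ j : ℤ, (j.negOnePow : ℤ) * (Module.finrank k (C.homology j : ModuleCat.{u} k) : ℤ)) =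
      ∑ᶠ j : ℤ, (j.negOnePow : ℤ) * (Module.finrank k (C.X j) : ℤ) := by
  let F : ℤ → ℤ := fun j => (j.negOnePow : ℤ) * (Module.finrank k (C.X j) : ℤ)
  let G : ℤ → ℤ := fun j => (j.negOnePow : ℤ) * (rkd C j (j + 1) : ℤ)
  have hx0 : ∀ j : ℤ, j < a ∨ b < j → Module.finrank k (C.X j) = 0 := by
    intro j hj
    haveI : Subsingleton (C.X j) := ModuleCat.subsingleton_of_isZero (hvan j hj)
    exact Module.finrank_zero_of_subsingleton
  have hF : (Function.support F).Finite := by
    refine (Set.finite_Icc a b).subset (fun j hj => ?_)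
    by_contra hcon
    apply hj
    have : j < a ∨ b < j := by
      rw [Set.mem_Icc] at hcon
      omega
    show (j.negOnePow : ℤ) * (Module.finrank k (C.X j) : ℤ) = 0
    rw [hx0 j this]
    simp
  have hG : (Function.support G).Finite := by
    refine (Set.finite_Icc a b).subset (fun j hj => ?_)
    by_contra hcon
    apply hj
    have : j < a ∨ b < j := by
      rw [Set.mem_Icc] at hcon
      omega
    show (j.negOnePow : ℤ) * (rkd C j (j + 1) : ℤ) = 0
    rw [rkd_eq_zero_of_isZero_left C (hvan j this)]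
    simp
  have hG' : (Function.support (fun j : ℤ => G (j - 1))).Finite := by
    have : (fun j : ℤ => G (j - 1)) = G ∘ (Equiv.subRight (1 : ℤ)) := rfl
    rw [this]
    exact hG.preimage ((Equiv.subRight (1 : ℤ)).injective.injOn)
  have hterm : ∀ j : ℤ,
      (j.negOnePow : ℤ) * (Module.finrank k (C.homology j : ModuleCat.{u} k) : ℤ) =
        (F j - G j) + G (j - 1) := by
    intro j
    rw [finrank_homology_eq C hfin j]
    show _ = ((j.negOnePow : ℤ) * (Module.finrank k (C.X j) : ℤ) -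
      (j.negOnePow : ℤ) * (rkd C j (j + 1) : ℤ)) +
      ((j - 1).negOnePow : ℤ) * (rkd C (j - 1) (j - 1 + 1) : ℤ)
    have e1 : ((j - 1).negOnePow : ℤ) = -(j.negOnePow : ℤ) := by
      have := Int.negOnePow_succ (j - 1)
      rw [sub_add_cancel] at this
      rw [this]
      simp
    have e2 : rkd C (j - 1) (j - 1 + 1) = rkd C (j - 1) j := rkd_congr C rfl (sub_add_cancel j 1)
    rw [e1, e2]
    ring
  have hFG : (Function.support (fun j : ℤ => F j - G j)).Finite :=
    (hF.union hG).subset (Function.support_sub F G)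
  calc (∑ᶠ j : ℤ, (j.negOnePow : ℤ) * (Module.finrank k (C.homology j : ModuleCat.{u} k) : ℤ))
      = ∑ᶠ j : ℤ, ((F j - G j) + G (j - 1)) := finsum_congr hterm
    _ = (∑ᶠ j : ℤ, (F j - G j)) + ∑ᶠ j : ℤ, G (j - 1) := finsum_add_distrib hFG hG'
    _ = ((∑ᶠ j : ℤ, F j) - ∑ᶠ j : ℤ, G j) + ∑ᶠ j : ℤ, G (j - 1) := by
        rw [finsum_sub_distrib hF hG]
    _ = ((∑ᶠ j : ℤ, F j) - ∑ᶠ j : ℤ, G j) + ∑ᶠ j : ℤ, G j := by
        congr 1
        exact finsum_comp_equiv (Equiv.subRight (1 : ℤ)) (f := G)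
    _ = ∑ᶠ j : ℤ, F j := by ring

end Euler

section EulerC

variable (P : CochainComplex (ModuleCat.{u} R) ℤ)

/-- the Euler characteristic of the fibre -/
noncomputable def eulerC {k : Type u} [Field k] (ψ : R →+* k) : ℤ :=
  ∑ᶠ j : ℤ, (j.negOnePow : ℤ) * (betaC P j ψ : ℤ)

theorem eulerC_eq (hfin : ∀ j, Module.Finite R (P.X j)) (a b : ℤ)
    (hvan : ∀ j : ℤ, j < a ∨ b < j → IsZero (P.X j)) {k : Type u} [Field k] (ψ : R →+* k) :
    eulerC P ψ = ∑ᶠ j : ℤ, (j.negOnePow : ℤ) * (fdim (P.X j) ψ : ℤ) := by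
  haveI := hfin
  exact euler_eq (CES P ψ) (fun j => finite_extendScalars (P.X j) ψ) a b
    (fun j hj => (ModuleCat.extendScalars.{u, u, u} ψ).map_isZero (hvan j hj))

theorem eulerC_lc (hfin : ∀ j, Module.Finite R (P.X j))
    (hproj : ∀ j, Module.Projective R (P.X j)) (a b : ℤ)
    (hvan : ∀ j : ℤ, j < a ∨ b < j → IsZero (P.X j)) {k : Type u} [Field k] (ψ : R →+* k) :
    ∃ f : R, ψ f ≠ 0 ∧ ∀ (k' : Type u) [Field k'] (ψ' : R →+* k'), ψ' f ≠ 0 →
      eulerC P ψ' = eulerC P ψ := by
  classical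
  haveI := hfin
  haveI := hproj
  have H := fun j : ℤ => fdim_lc (P.X j) ψ
  choose fj hfj Hj using H
  refine ⟨∏ j ∈ Finset.Icc a b, fj j, ?_, fun k' _ ψ' hf' => ?_⟩
  · rw [map_prod]
    exact Finset.prod_ne_zero_iff.2 (fun j _ => hfj j)
  · rw [map_prod] at hf'
    have hf'' := Finset.prod_ne_zero_iff.1 hf'
    rw [eulerC_eq P hfin a b hvan ψ', eulerC_eq P hfin a b hvan ψ]
    refine finsum_congr (fun j => ?_)
    by_cases hj : j ∈ Finset.Icc a b
    · rw [Hj j k' ψ' (hf'' j hj)]
    · have hj' : j < a ∨ b < j := by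
        rw [Finset.mem_Icc] at hj
        omega
      rw [fdim_of_isZero _ (hvan j hj') ψ', fdim_of_isZero _ (hvan j hj') ψ]

end EulerC

end Groth.Agent.Lib.FibreRkH3
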