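import Mathlib
import Groth.Prelude
import Groth.Agent.Lib.FibreRk2_helper3
import Groth.Agent.Lib.FpqcPC_helper3

/-!
# Fibre Betti numbers: the affine computation (helper3)

For `ψ : R → K` (`K` a field) and a bounded above complex `P₀` of projective `R`-modules,
`dim H^i(L(Spec ψ)^* (P₀~))(Spec K) = dim_K H^i(K ⊗_R P₀)`.
-/

set_option autoImplicit false
set_option linter.all false
set_option maxHeartbeats 1600000
set_option backward.isDefEq.respectTransparency false
set_option backward.isDefEq.respectTransparency.types false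
set_option backward.defeqAttrib.useBackward true

universe u
open CategoryTheory CategoryTheory.Limits AlgebraicGeometry Opposite TopologicalSpace
open CategoryTheory.Pretriangulated

attribute [local instance] HasDerivedCategory.standard

namespace Groth.Agent.Lib.FibreRkH3

open Groth.Agent.Lib.DCohLocLead DerivedCategory DRing Groth.Agent.Lib.DMod_helper6
  Groth.Agent.Lib.TildeAmpL Groth.Agent.Lib.TildePCH3 Groth.Agent.Lib.LpullExH3
  Groth.Agent.Lib.LpullLocH3

noncomputable section

section Top

variable {Z : Scheme.{u}}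

/-- the dimension of the global sections -/
def topRank (M : Z.Modules) : ℕ := Module.finrank (Coh.Γtop Z) (M.val.obj (op ⊤))

theorem topRank_congr {M N : Z.Modules} (e : M ≅ N) : topRank M = topRank N :=
  (((SheafOfModules.forget _ ⋙ PresheafOfModules.evaluation _ (op ⊤)).mapIso e).toLinearEquiv).finrank_eq

end Top

section TildeTop

variable (κ : CommRingCat.{u}) (N : ModuleCat.{u} κ)

theorem topRank_tilde : topRank (tilde N) = Module.finrank κ N := by
  let e := tilde.isoTop N
  let j : N ≃+ ((tilde N).val.obj (op ⊤)) := e.toLinearEquiv.toAddEquiv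
  have hbij : Function.Bijective (fun r : κ => ((Scheme.ΓSpecIso κ).inv.hom r : Coh.Γtop (Spec κ))) :=
    ConcreteCategory.bijective_of_isIso (Scheme.ΓSpecIso κ).inv
  have hc : ∀ (r : κ) (n : N), j (r • n) =
      ((Scheme.ΓSpecIso κ).inv.hom r : Coh.Γtop (Spec κ)) • j n := by
    intro r n
    have h1 : j (r • n) = r • (e.hom n) := e.hom.hom.map_smul r n
    rw [h1]
    rfl
  have h := rank_eq_of_equiv_equiv _ j hbij hc
  unfold topRank Module.finrank
  exact (congrArg Cardinal.toNat h).symm

end TildeTop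

section TildeD

variable (κ : CommRingCat.{u}) [PreservesFiniteLimits (tilde.functor κ)]

theorem topRank_HD_tildeD (C : Cx κ) (i : ℤ) :
    topRank (DCoh.HD ((DCoh.tildeD κ).obj (Q.obj C)) i) =
      Module.finrank κ (C.homology i : ModuleCat.{u} κ) := by
  obtain ⟨e2⟩ := nonempty_homology_map_iso (tilde.functor κ) (Q.obj C) i
  let e3 : (tilde.functor κ).obj ((homologyFunctor (ModuleCat.{u} κ) i).obj (Q.obj C)) ≅
      (tilde.functor κ).obj (C.homology i) :=
    (tilde.functor κ).mapIso ((homologyFunctorFactors (ModuleCat.{u} κ) i).app C)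
  rw [topRank_congr (e2 ≪≫ e3)]
  exact topRank_tilde κ (C.homology i)

end TildeD

section Affine

variable {R K : Type u} [CommRing R] [Field K] (ψ : R →+* K)

/-- **the affine computation** -/
theorem topRank_HD_Lpull_tilde [DCoh.HasLpull (Spec.map (CommRingCat.ofHom ψ))]
    (P₀ : Cx R) (b : ℤ) (hva : VanishesAbove P₀ b)
    (hproj : ∀ i, Module.Projective R (P₀.X i)) (i : ℤ) :
    haveI := Groth.Agent.Lib.LpullQCL.preservesFiniteLimits_tilde R
    topRank (DCoh.HD ((DCoh.Lpull (Spec.map (CommRingCat.ofHom ψ))).obj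
      ((DCoh.tildeD (CommRingCat.of R)).obj (Q.obj P₀))) i) = betaC P₀ i ψ := by
  haveI instR : PreservesFiniteLimits (tilde.functor (CommRingCat.of R)) :=
    Groth.Agent.Lib.LpullQCL.preservesFiniteLimits_tilde R
  haveI instK : PreservesFiniteLimits (tilde.functor (CommRingCat.of K)) :=
    Groth.Agent.Lib.LpullQCL.preservesFiniteLimits_tilde K
  haveI := Groth.Agent.Lib.LpullQCL.hasLBaseChange ψ
  haveI : P₀.IsKProjective := isKProjective_of_projective_bounded P₀ b hva hproj
  obtain ⟨c1⟩ := Groth.Agent.Lib.KFTildeL.nonempty_iso_1055 ψ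
  obtain ⟨c2⟩ := nonempty_lBaseChange_iso_of_isKProjective ψ P₀
  let e1 : (DCoh.Lpull (Spec.map (CommRingCat.ofHom ψ))).obj
      ((DCoh.tildeD (CommRingCat.of R)).obj (Q.obj P₀)) ≅
      (DCoh.tildeD (CommRingCat.of K)).obj (Q.obj (CES P₀ ψ)) :=
    (c1.app (Q.obj P₀)).symm ≪≫ (DCoh.tildeD (CommRingCat.of K)).mapIso c2
  rw [topRank_congr ((homologyFunctor _ i).mapIso e1)]
  exact topRank_HD_tildeD (CommRingCat.of K) (CES P₀ ψ) i

end Affine

end

end Groth.Agent.Lib.FibreRkH3
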