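import Mathlib
import Groth.Prelude
import Groth.Agent.Lib.FibreRk3_helper3
import Groth.Agent.Lib.DMod54_helper6
import Groth.Agent.Lib.DMod6_helper6

/-!
# Complexes whose fibres are concentrated in one degree (helper3), ring level

* `fdim_comp`, `betaC_comp`: fibre ranks / fibre Betti numbers are invariant under field extension.
* `betaC_field`: over a field `k`, `betaC P i θ = dim_k H^i(P)`.
* `exists_fp_rep_of_fibres`: helper6's residue field criterion, with the bounds kept.
* `exists_single_rep`: a bounded complex of finite projective modules all of whose fibres have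
  cohomology only in degree `i` is isomorphic in `D(R)` to a finite projective module in degree `i`.
-/

set_option autoImplicit false
set_option linter.all false
set_option maxHeartbeats 1600000
set_option backward.isDefEq.respectTransparency false
set_option backward.isDefEq.respectTransparency.types false
set_option backward.defeqAttrib.useBackward true

universe u

open TensorProduct CategoryTheory CategoryTheory.Limits

attribute [local instance] HasDerivedCategory.standard

namespace Groth.Agent.Lib.FibreLocH3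

open DRing Groth.Agent.Lib.DMod_helper6 Groth.Agent.Lib.FibreRkH3 DerivedCategory

noncomputable section

variable {R : Type u} [CommRing R]

theorem fdim_comp (M : ModuleCat.{u} R) {k k' : Type u} [Field k] [Field k'] (ψ : R →+* k)
    (θ : k →+* k') : fdim M (θ.comp ψ) = fdim M ψ := by
  letI := ψ.toAlgebra
  letI := θ.toAlgebra
  letI : Algebra R k' := (θ.comp ψ).toAlgebra
  haveI : IsScalarTower R k k' := IsScalarTower.of_algebraMap_eq (fun r => rfl)
  have h1 : fdim M (θ.comp ψ) = Module.finrank k' (k' ⊗[R] M) := fdim_eq M (θ.comp ψ)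
  have h2 : fdim M ψ = Module.finrank k (k ⊗[R] M) := fdim_eq M ψ
  have e : k' ⊗[k] (k ⊗[R] M) ≃ₗ[k'] k' ⊗[R] M :=
    TensorProduct.AlgebraTensorModule.cancelBaseChange R k k' k' M
  rw [h1, h2, ← e.finrank_eq, Module.finrank_baseChange]

theorem fdim_field {k k' : Type u} [Field k] [Field k'] (M : ModuleCat.{u} k) (θ : k →+* k') :
    fdim M θ = Module.finrank k M := by
  letI := θ.toAlgebra
  have h1 : fdim M θ = Module.finrank k' (k' ⊗[k] M) := fdim_eq M θ
  rw [h1, Module.finrank_baseChange]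

theorem betaC_comp (P : Cx R) (hfin : ∀ j, Module.Finite R (P.X j)) (i : ℤ)
    {k k' : Type u} [Field k] [Field k'] (ψ : R →+* k) (θ : k →+* k') :
    betaC P i (θ.comp ψ) = betaC P i ψ := by
  have h1 := betaC_add P i hfin (θ.comp ψ)
  have h2 := betaC_add P i hfin ψ
  rw [fdim_comp, fdim_comp, fdim_comp] at h1
  omega

theorem betaC_field {k k' : Type u} [Field k] [Field k'] (P : Cx k)
    (hfin : ∀ j, Module.Finite k (P.X j)) (i : ℤ) (θ : k →+* k') :
    betaC P i θ = Module.finrank k (P.homology i : ModuleCat.{u} k) := by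
  have h1 := betaC_add P i hfin θ
  rw [fdim_field, fdim_field, fdim_field] at h1
  haveI : Module.Finite k (P.sc i).X₂ := hfin i
  haveI : Module.Finite k (P.sc i).X₃ := hfin _
  have h2 := finrank_homology_add (P.sc i)
  have h3 : Module.finrank k (P.homology i : ModuleCat.{u} k) +
      Module.finrank k (P.X ((ComplexShape.up ℤ).next i)) =
      Module.finrank k (cokernel (P.d ((ComplexShape.up ℤ).prev i) i) : ModuleCat.{u} k) +
        Module.finrank k (cokernel (P.d i ((ComplexShape.up ℤ).next i)) : ModuleCat.{u} k) := h2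
  omega

/-- helper6's criterion `isPerfect_of_fibres_vanishing`, keeping the bounds. -/
theorem exists_fp_rep_of_fibres [∀ m : Ideal R, HasLBaseChange (Ideal.Quotient.mk m)]
    (K : Dual.D R) (hK : IsPseudoCoherent' R K) (a b : ℤ)
    (h : ∀ (m : Ideal R), m.IsMaximal → ∀ i : ℤ, (i < a ∨ b < i) →
      Subsingleton (Dual.HD (R ⧸ m) ((LBaseChange (Ideal.Quotient.mk m)).obj K) i)) :
    ∃ T : Cx R, VanishesOutside T a b ∧ TermwiseFiniteProjective T ∧ Nonempty (toD T ≅ K) := by
  obtain ⟨P, b₁, hPb, hPff, ⟨e⟩⟩ := hK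
  haveI : P.IsKProjective := isKProjective_of_projective_bounded P b₁ hPb
    (fun j => by haveI := (hPff j).2; infer_instance)
  have hq : ∀ (m : Ideal R), m.IsMaximal → ∀ i : ℤ, (i < a ∨ b < i) →
      Function.Exact ((P.d (i - 1) i).hom.lTensor (R ⧸ m))
        ((P.d i (i + 1)).hom.lTensor (R ⧸ m)) := by
    intro m hm i hi
    obtain ⟨eL⟩ := nonempty_lBaseChange_iso_of_isKProjective (Ideal.Quotient.mk m) P
    have e1 : toD ((ESc (Ideal.Quotient.mk m)).obj P) ≅
        (LBaseChange (Ideal.Quotient.mk m)).obj K :=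
      eL.symm ≪≫ (LBaseChange (Ideal.Quotient.mk m)).mapIso e
    have hES : ((ESc (Ideal.Quotient.mk m)).obj P).ExactAt i :=
      (exactAt_iff_subsingleton_HD e1 i).2 (h m hm i hi)
    exact (exact_ES_map_iff (A := R) (B := R ⧸ m) (P.d (i - 1) i) (P.d i (i + 1))).1
      (function_exact_of_exactAt _ (i - 1) i (i + 1) (by omega) rfl hES)
  have hcomp : ∀ i, (P.d i (i + 1)).hom ∘ₗ (P.d (i - 1) i).hom = 0 := fun i => by
    rw [← ModuleCat.hom_comp, P.d_comp_d]
    rfl
  haveI : ∀ i, Module.Finite R (P.X i) := fun i => (hPff i).1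
  haveI : ∀ i, Module.Free R (P.X i) := fun i => (hPff i).2
  have hkey : ∀ i : ℤ, (i < a ∨ b < i) →
      Function.Exact (P.d (i - 1) i).hom (P.d i (i + 1)).hom ∧
      Module.Flat R (P.X (i + 1) ⧸ LinearMap.range (P.d i (i + 1)).hom) := fun i hi =>
    exact_and_flat_coker_of_exact_lTensor_quotient_maximal _ _ (hcomp i)
      (fun m hm => hq m hm i hi)
  have hex : ∀ i, (i < a ∨ b < i) → P.ExactAt i := fun i hi =>
    exactAt_of_function_exact P (i - 1) i (i + 1) (by omega) rfl (hkey i hi).1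
  obtain ⟨c, rfl⟩ : ∃ c, a = c + 1 := ⟨a - 1, by ring⟩
  have hflat : TermwiseFlat P := fun i => Module.Flat.of_free
  obtain ⟨T, π, hπ, hT0, hTf, hTz⟩ := exists_flat_trunc P c
    (fun i hi => hex i (Or.inl (by omega))) hflat (hkey c (Or.inl (by omega))).2
  have hamp : HasTorAmplitudeIn R (c + 1) b₁ K :=
    ⟨T, fun i hi => by
      rcases hi with hi | hi
      · exact hT0 i (by omega)
      · exact hTz i (hPb i hi), hTf, ⟨(asIso (Q.map π)).symm ≪≫ e⟩⟩
  obtain ⟨T₂, b₂, hT₂, hT₂fp, ⟨e₂⟩⟩ :=
    exists_finite_projective_of_pc_of_torAmp K ⟨P, b₁, hPb, hPff, ⟨e⟩⟩ (c + 1) b₁ hamp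
  have hex₂ : ∀ i, b < i → T₂.ExactAt i := fun i hi =>
    exactAt_of_iso_toD T₂ P (e₂ ≪≫ e.symm) i (hex i (Or.inr hi))
  obtain ⟨T₃, hT₃, hT₃fp, ⟨e₃⟩⟩ :=
    exists_finite_projective_top_trunc T₂ (c + 1) b₂ b hT₂ hT₂fp hex₂
  exact ⟨T₃, hT₃, hT₃fp, ⟨e₃ ≪≫ e₂⟩⟩

theorem finite_homology {k : Type u} [Field k] (S : ShortComplex (ModuleCat.{u} k))
    [Module.Finite k S.X₂] : Module.Finite k (S.homology : ModuleCat.{u} k) := by
  have e : (S.homology : ModuleCat.{u} k) ≃ₗ[k]
      (LinearMap.ker S.g.hom ⧸ LinearMap.range S.moduleCatToCycles) :=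
    S.moduleCatHomologyIso.toLinearEquiv
  exact Module.Finite.equiv e.symm

/-- A bounded complex of finite projective modules all of whose fibres at maximal ideals have
cohomology only in degree `i` is a finite projective module placed in degree `i`. -/
theorem exists_single_rep (P₀ : Cx R) (a b : ℤ) (hab : VanishesOutside P₀ a b)
    (hfp : TermwiseFiniteProjective P₀) (i : ℤ)
    (h : ∀ (k : Type u) [Field k] (ψ : R →+* k) (j : ℤ), j ≠ i → betaC P₀ j ψ = 0) :
    ∃ M : ModuleCat.{u} R, Module.Finite R M ∧ Module.Projective R M ∧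
      Nonempty (toD P₀ ≅ (DerivedCategory.singleFunctor (ModuleCat.{u} R) i).obj M) := by
  haveI : ∀ m : Ideal R, HasLBaseChange (Ideal.Quotient.mk m) := fun m =>
    Groth.Agent.Lib.LpullQCL.hasLBaseChange _
  have hpc : IsPseudoCoherent' R (toD P₀) :=
    isPseudoCoherent'_of_isPerfect (toD P₀) ⟨P₀, a, b, hab, hfp, ⟨Iso.refl _⟩⟩
  haveI : P₀.IsKProjective := isKProjective_of_projective_bounded P₀ b
    (fun j hj => hab j (Or.inr hj)) (fun j => (hfp j).2)
  obtain ⟨T, hT, hTfp, ⟨eT⟩⟩ := exists_fp_rep_of_fibres (toD P₀) hpc i i (by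
    intro m hm j hj
    letI := Ideal.Quotient.field m
    obtain ⟨eL⟩ := nonempty_lBaseChange_iso_of_isKProjective (Ideal.Quotient.mk m) P₀
    refine (exactAt_iff_subsingleton_HD eL.symm j).1 ?_
    rw [HomologicalComplex.exactAt_iff_isZero_homology]
    have h0 : betaC P₀ j (Ideal.Quotient.mk m) = 0 := h (R ⧸ m) (Ideal.Quotient.mk m) j (by omega)
    haveI : Module.Finite R (P₀.X j) := (hfp j).1
    haveI : Module.Finite (R ⧸ m) (((CES P₀ (Ideal.Quotient.mk m)).sc j).X₂) :=
      finite_extendScalars (P₀.X j) (Ideal.Quotient.mk m)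
    haveI : Module.Finite (R ⧸ m)
        ((CES P₀ (Ideal.Quotient.mk m)).homology j : ModuleCat.{u} (R ⧸ m)) :=
      finite_homology ((CES P₀ (Ideal.Quotient.mk m)).sc j)
    haveI : Subsingleton ((CES P₀ (Ideal.Quotient.mk m)).homology j : ModuleCat.{u} (R ⧸ m)) :=
      (Module.finrank_eq_zero_iff_of_free (R ⧸ m) _).1 h0
    exact ModuleCat.isZero_of_subsingleton _)
  haveI : T.IsStrictlyGE i := by
    rw [CochainComplex.isStrictlyGE_iff]
    exact fun j hj => hT j (Or.inl hj)
  haveI : T.IsStrictlyLE i := by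
    rw [CochainComplex.isStrictlyLE_iff]
    exact fun j hj => hT j (Or.inr hj)
  obtain ⟨M, ⟨eM⟩⟩ := CochainComplex.exists_iso_single T i
  let e2 : T.X i ≅ M :=
    (HomologicalComplex.eval _ _ i).mapIso eM ≪≫
      HomologicalComplex.singleObjXSelf (ComplexShape.up ℤ) i M
  haveI := (hTfp i).1
  haveI := (hTfp i).2
  refine ⟨M, Module.Finite.equiv e2.toLinearEquiv, Module.Projective.of_equiv e2.toLinearEquiv,
    ⟨eT.symm ≪≫ Q.mapIso eM ≪≫
      ((DerivedCategory.singleFunctorIsoCompQ (ModuleCat.{u} R) i).app M).symm⟩⟩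

end

end Groth.Agent.Lib.FibreLocH3
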