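import Mathlib
import Groth.Prelude
import Groth.Agent.Lib.FibreRk3_helper3

/-!
# Semicontinuity of fibre Betti numbers and local constancy of the Euler characteristic (helper3)
-/

set_option autoImplicit false
set_option linter.all false
set_option maxHeartbeats 1600000
set_option backward.isDefEq.respectTransparency false
set_option backward.isDefEq.respectTransparency.types false
set_option backward.defeqAttrib.useBackward true

universe u
open CategoryTheory CategoryTheory.Limits AlgebraicGeometry Opposite TopologicalSpace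
open CategoryTheory.Pretriangulated

attribute [local instance] HasDerivedCategory.standard

namespace Groth.Agent.Lib.FibreRkH3

open Groth.Agent.Lib.DCohLocLead DerivedCategory DRing Groth.Agent.Lib.DMod_helper6
  Groth.Agent.Lib.TildeAmpL Groth.Agent.Lib.TildePCH3 Groth.Agent.Lib.LpullExH3
  Groth.Agent.Lib.LpullLocH3

noncomputable section

variable {X : Scheme.{u}}

theorem fromSpecResidueField_eq (V : X.Opens) (hV : IsAffineOpen V) (y : X) (hy : y ∈ V) :
    X.fromSpecResidueField y = Spec.map (X.evaluation V y hy) ≫ hV.fromSpec := by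
  have h1 : X.fromSpecStalk y = Spec.map (X.presheaf.germ V y hy) ≫ hV.fromSpec :=
    (hV.fromSpecStalk_eq_fromSpecStalk hy).symm
  show Spec.map (X.residue y) ≫ X.fromSpecStalk y = _
  rw [h1, ← Category.assoc, ← Spec.map_comp]
  rfl

/-- **the Betti numbers of the fibres, computed on an affine open** -/
theorem betti_eq [∀ x : X, DCoh.HasLpull (X.fromSpecResidueField x)] (E : DCoh.D X)
    (V : X.Opens) (hV : IsAffineOpen V) (P₀ : Cx Γ(X, V)) (b : ℤ) (hva : VanishesAbove P₀ b)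
    (hproj : ∀ i, Module.Projective Γ(X, V) (P₀.X i)) (m : ℤ)
    [PreservesFiniteLimits (tilde.functor Γ(X, V))]
    (α : (DCoh.tildeD Γ(X, V)).obj (Q.obj P₀) ⟶ (DD hV.fromSpec).obj E) (hα : IsApprox m α)
    (i : ℤ) (hi : m < i) (y : X) (hy : y ∈ V) :
    PerfD.betti E y i = betaC P₀ i (X.evaluation V y hy).hom := by
  haveI h1 : DCoh.HasLpull (Spec.map (X.evaluation V y hy)) := hasLpull _
  haveI h1' : DCoh.HasLpull (Spec.map (CommRingCat.ofHom (X.evaluation V y hy).hom)) := hasLpull _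
  haveI h2 : DCoh.HasLpull hV.fromSpec := hasLpull _
  haveI h3 : DCoh.HasLpull (Spec.map (X.evaluation V y hy) ≫ hV.fromSpec) := hasLpull _
  obtain ⟨c1⟩ := nonempty_Lpull_congr (fromSpecResidueField_eq V hV y hy)
  obtain ⟨c2⟩ := Groth.Agent.Lib.LpullCompH3.nonempty_comp_iso (Spec.map (X.evaluation V y hy))
    hV.fromSpec
  let c3 := restrictDIsoLpull hV.fromSpec
  let e1 : (DCoh.Lpull (X.fromSpecResidueField y)).obj E ≅
      (DCoh.Lpull (Spec.map (X.evaluation V y hy))).obj ((DD hV.fromSpec).obj E) :=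
    c1.app E ≪≫ (c2.app E).symm ≪≫
      (DCoh.Lpull (Spec.map (X.evaluation V y hy))).mapIso (c3.app E).symm
  have hap : IsApprox m ((DCoh.Lpull (Spec.map (X.evaluation V y hy))).map α) :=
    Groth.Agent.Lib.LpullPCH3.isApprox_Lpull_map (Spec.map (X.evaluation V y hy)) α m hα
  haveI := hap.1 i hi
  let e2 := asIso ((homologyFunctor _ i).map
    ((DCoh.Lpull (Spec.map (X.evaluation V y hy))).map α))
  show topRank (DCoh.HD ((DCoh.Lpull (X.fromSpecResidueField y)).obj E) i) = _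
  rw [topRank_congr ((homologyFunctor _ i).mapIso e1 ≪≫ e2.symm)]
  exact topRank_HD_Lpull_tilde (X.evaluation V y hy).hom P₀ b hva hproj i

/-- a pseudo-coherent object is approximated, on an affine neighbourhood of any point, by the tilde
of a bounded complex of finite projective modules -/
theorem exists_affine_approx (E : DCoh.D X) (m : ℤ) (hE : DCoh.IsPseudoCoherentD m E) (x : X) :
    ∃ (V : X.Opens) (hV : IsAffineOpen V) (_ : x ∈ V) (P₀ : Cx Γ(X, V)) (a b : ℤ)
      (_ : PreservesFiniteLimits (tilde.functor Γ(X, V))),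
      VanishesOutside P₀ a b ∧ TermwiseFiniteProjective P₀ ∧
        ∃ α : (DCoh.tildeD Γ(X, V)).obj (Q.obj P₀) ⟶ (DD hV.fromSpec).obj E, IsApprox m α := by
  obtain ⟨V', hxV', hV'⟩ := (isPC_iff m E).mp hE x
  obtain ⟨W, hW, hxW, hWV⟩ := Opens.isBasis_iff_nbhd.mp X.isBasis_affineOpens hxV'
  have hr : Set.range hW.fromSpec ⊆ (V' : Set X) := by
    rw [IsAffineOpen.range_fromSpec]
    exact hWV
  obtain ⟨E', α, hE', hα⟩ := hV'.of_range_le hW.fromSpec hr
  haveI inst : PreservesFiniteLimits (tilde.functor Γ(X, W)) :=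
    Groth.Agent.Lib.LpullQCL.preservesFiniteLimits_tilde Γ(X, W)
  obtain ⟨P₀, a, b, hab, hfp, ⟨e⟩⟩ := exists_tilde_rep Γ(X, W) E' hE'
  exact ⟨W, hW, hxW, P₀, a, b, inst, hab, hfp, (tdFac Γ(X, W) P₀).hom ≫ Q.map e.hom ≫ α,
    (IsApprox.of_isIso _).comp ((IsApprox.of_isIso _).comp hα)⟩

theorem LocRep.of_range_le' {V : X.Opens} {K : DCoh.D X} (h : LocRep SP V.ι K)
    {Z : Scheme.{u}} (l : Z ⟶ X) [IsOpenImmersion l] (hl : Set.range l ⊆ (V : Set X)) :
    LocRep SP l K := by
  have hr : Set.range l ⊆ Set.range V.ι := by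
    rw [Scheme.Opens.range_ι]
    exact hl
  let k : Z ⟶ (V : Scheme.{u}) := IsOpenImmersion.lift V.ι l hr
  have hk : k ≫ V.ι = l := IsOpenImmersion.lift_fac _ _ _
  haveI : IsOpenImmersion (k ≫ V.ι) := by rw [hk]; infer_instance
  haveI : IsOpenImmersion k := IsOpenImmersion.of_comp k V.ι
  exact (h.comp k V.ι (fun P hP => isStrictlyPerfect_RC k hP)).of_eq hk

/-- a perfect object is, on an affine neighbourhood of any point, the tilde of a bounded complex of
finite projective modules -/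
theorem exists_affine_rep (E : DCoh.D X) (hE : DCoh.IsPerfect E) (x : X) :
    ∃ (V : X.Opens) (hV : IsAffineOpen V) (_ : x ∈ V) (P₀ : Cx Γ(X, V)) (a b : ℤ)
      (_ : PreservesFiniteLimits (tilde.functor Γ(X, V))),
      VanishesOutside P₀ a b ∧ TermwiseFiniteProjective P₀ ∧
        Nonempty ((DCoh.tildeD Γ(X, V)).obj (Q.obj P₀) ≅ (DD hV.fromSpec).obj E) := by
  obtain ⟨V', hxV', hV'⟩ := (isPerfect_iff E).mp hE x
  obtain ⟨W, hW, hxW, hWV⟩ := Opens.isBasis_iff_nbhd.mp X.isBasis_affineOpens hxV'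
  have hr : Set.range hW.fromSpec ⊆ (V' : Set X) := by
    rw [IsAffineOpen.range_fromSpec]
    exact hWV
  obtain ⟨E', hE', ⟨ε⟩⟩ := LocRep.of_range_le' hV' hW.fromSpec hr
  haveI inst : PreservesFiniteLimits (tilde.functor Γ(X, W)) :=
    Groth.Agent.Lib.LpullQCL.preservesFiniteLimits_tilde Γ(X, W)
  obtain ⟨P₀, a, b, hab, hfp, ⟨e⟩⟩ := exists_tilde_rep Γ(X, W) E' hE'
  exact ⟨W, hW, hxW, P₀, a, b, inst, hab, hfp,
    ⟨tdFac Γ(X, W) P₀ ≪≫ Q.mapIso e ≪≫ ε.symm⟩⟩

/-- **S6199 / S1060** -/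
theorem main6199 [∀ x : X, DCoh.HasLpull (X.fromSpecResidueField x)] (E : DCoh.D X) (p : ℤ)
    (hE : DCoh.IsPseudoCoherentD (p - 1) E) (n : ℕ) :
    IsOpen {x : X | PerfD.betti E x p < n} := by
  rw [isOpen_iff_forall_mem_open]
  intro x hx
  obtain ⟨V, hV, hxV, P₀, a, b, inst, hab, hfp, α, hα⟩ := exists_affine_approx E (p - 1) hE x
  haveI := inst
  have hb : ∀ (y : X) (hy : y ∈ V),
      PerfD.betti E y p = betaC P₀ p (X.evaluation V y hy).hom := fun y hy =>
    betti_eq E V hV P₀ b (fun i hi => hab i (Or.inr hi)) (fun i => (hfp i).2) (p - 1) α hα p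
      (by omega) y hy
  obtain ⟨f, hf, H⟩ := betaC_usc P₀ p (fun j => (hfp j).1) (fun j => (hfp j).2)
    (X.evaluation V x hxV).hom
  refine ⟨X.basicOpen f, ?_, (X.basicOpen f).2, ?_⟩
  · intro y hyf
    have hyV : y ∈ V := X.basicOpen_le f hyf
    have hψ : (X.evaluation V y hyV).hom f ≠ 0 :=
      (X.evaluation_ne_zero_iff_mem_basicOpen y hyV f).2 hyf
    show PerfD.betti E y p < n
    rw [hb y hyV]
    refine lt_of_le_of_lt (H _ _ hψ) ?_
    rw [← hb x hxV]
    exact hx
  · exact (X.evaluation_ne_zero_iff_mem_basicOpen x hxV f).1 hf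

/-- **S1059** -/
theorem main1059 [∀ x : X, DCoh.HasLpull (X.fromSpecResidueField x)] (E : DCoh.D X)
    (hE : DCoh.IsPerfect E) : IsLocallyConstant (fun x : X => PerfD.eulerChar E x) := by
  rw [IsLocallyConstant.iff_exists_open]
  intro x
  obtain ⟨V, hV, hxV, P₀, a, b, inst, hab, hfp, ⟨ε⟩⟩ := exists_affine_rep E hE x
  haveI := inst
  have hb : ∀ (y : X) (hy : y ∈ V) (i : ℤ),
      PerfD.betti E y i = betaC P₀ i (X.evaluation V y hy).hom := fun y hy i =>
    betti_eq E V hV P₀ b (fun i hi => hab i (Or.inr hi)) (fun i => (hfp i).2) (i - 1) ε.hom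
      (IsApprox.of_isIso _) i (by omega) y hy
  have he : ∀ (y : X) (hy : y ∈ V),
      PerfD.eulerChar E y = eulerC P₀ (X.evaluation V y hy).hom := by
    intro y hy
    unfold PerfD.eulerChar eulerC
    refine finsum_congr (fun i => ?_)
    rw [hb y hy i]
  obtain ⟨f, hf, H⟩ := eulerC_lc P₀ (fun j => (hfp j).1) (fun j => (hfp j).2) a b hab
    (X.evaluation V x hxV).hom
  refine ⟨X.basicOpen f, (X.basicOpen f).2,
    (X.evaluation_ne_zero_iff_mem_basicOpen x hxV f).1 hf, ?_⟩
  intro y hyf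
  have hyV : y ∈ V := X.basicOpen_le f hyf
  have hψ : (X.evaluation V y hyV).hom f ≠ 0 :=
    (X.evaluation_ne_zero_iff_mem_basicOpen y hyV f).2 hyf
  show PerfD.eulerChar E y = PerfD.eulerChar E x
  rw [he y hyV, he x hxV]
  exact H _ _ hψ

end

end Groth.Agent.Lib.FibreRkH3
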