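import Mathlib
import Groth.Prelude
import Groth.Agent.Lib.FibreRk4_helper3
import Groth.Agent.Lib.FibreLoc1_helper3
import Groth.Agent.Lib.PerfEuler1_lead

/-!
# Fibre Betti numbers: base change, single modules (helper3)

* `topRank_HD_Lpull_point`: the fibre of `E` at any field-valued point factoring through an affine
  open on which `E` is represented by a bounded complex of finite projective modules.
* `betti_Lpull`: `β_j(Lg^*E)(y) = β_j(E)(g y)` for `E` perfect.
* `betti_congr`, `betti_single`: Betti numbers of a finite locally free module placed in one degree.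
* `exists_factor_evaluation`: a ring map from the sections over an affine open to a field factors
  through the evaluation at a point.
* `exists_free_nhd_of_restrict`, `isZero_restrict_opensRange`: transport along open immersions.
-/

set_option autoImplicit false
set_option linter.all false
set_option maxHeartbeats 1600000
set_option backward.isDefEq.respectTransparency false
set_option backward.isDefEq.respectTransparency.types false
set_option backward.defeqAttrib.useBackward true

universe u
open CategoryTheory CategoryTheory.Limits AlgebraicGeometry Opposite TopologicalSpace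
open CategoryTheory.Pretriangulated

attribute [local instance] HasDerivedCategory.standard

namespace Groth.Agent.Lib.FibreLocH3

open Groth.Agent.Lib.DCohLocLead DerivedCategory DRing Groth.Agent.Lib.DMod_helper6
  Groth.Agent.Lib.TildeAmpL Groth.Agent.Lib.TildePCH3 Groth.Agent.Lib.LpullExH3
  Groth.Agent.Lib.LpullLocH3 Groth.Agent.Lib.FibreRkH3

noncomputable section

variable {X : Scheme.{u}}

/-- the fibre at a field valued point factoring through an affine open -/
theorem topRank_HD_Lpull_point (E : DCoh.D X) (V : X.Opens) (hV : IsAffineOpen V)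
    (P₀ : Cx Γ(X, V)) (b : ℤ) (hva : VanishesAbove P₀ b)
    (hproj : ∀ i, Module.Projective Γ(X, V) (P₀.X i))
    [PreservesFiniteLimits (tilde.functor Γ(X, V))]
    (ε : (DCoh.tildeD Γ(X, V)).obj (Q.obj P₀) ≅ (DD hV.fromSpec).obj E)
    {K : Type u} [Field K] (ψ : Γ(X, V) →+* K) (h : Spec (CommRingCat.of K) ⟶ X)
    [DCoh.HasLpull h] (hh : h = Spec.map (CommRingCat.ofHom ψ) ≫ hV.fromSpec) (i : ℤ) :
    topRank (DCoh.HD ((DCoh.Lpull h).obj E) i) = betaC P₀ i ψ := by
  haveI h1 : DCoh.HasLpull (Spec.map (CommRingCat.ofHom ψ)) := hasLpull _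
  haveI h2 : DCoh.HasLpull hV.fromSpec := hasLpull _
  haveI h3 : DCoh.HasLpull (Spec.map (CommRingCat.ofHom ψ) ≫ hV.fromSpec) := hasLpull _
  obtain ⟨c1⟩ := nonempty_Lpull_congr hh
  obtain ⟨c2⟩ := Groth.Agent.Lib.LpullCompH3.nonempty_comp_iso (Spec.map (CommRingCat.ofHom ψ))
    hV.fromSpec
  let c3 := restrictDIsoLpull hV.fromSpec
  let e1 : (DCoh.Lpull h).obj E ≅
      (DCoh.Lpull (Spec.map (CommRingCat.ofHom ψ))).obj
        ((DCoh.tildeD Γ(X, V)).obj (Q.obj P₀)) :=
    c1.app E ≪≫ (c2.app E).symm ≪≫
      (DCoh.Lpull (Spec.map (CommRingCat.ofHom ψ))).mapIso ((c3.app E).symm ≪≫ ε.symm)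
  exact (topRank_congr ((homologyFunctor _ i).mapIso e1)).trans
    (topRank_HD_Lpull_tilde ψ P₀ b hva hproj i)

theorem betti_congr [∀ x : X, DCoh.HasLpull (X.fromSpecResidueField x)] {K K' : DCoh.D X}
    (e : K ≅ K') (x : X) (j : ℤ) : PerfD.betti K x j = PerfD.betti K' x j :=
  topRank_congr ((homologyFunctor _ j).mapIso
    ((DCoh.Lpull (X.fromSpecResidueField x)).mapIso e))

/-- **Betti numbers of fibres are compatible with derived pullback** -/
theorem betti_Lpull {Y : Scheme.{u}} (g : Y ⟶ X) [DCoh.HasLpull g]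
    [∀ x : X, DCoh.HasLpull (X.fromSpecResidueField x)]
    [∀ y : Y, DCoh.HasLpull (Y.fromSpecResidueField y)]
    (E : DCoh.D X) (hE : DCoh.IsPerfect E) (y : Y) (j : ℤ) :
    PerfD.betti ((DCoh.Lpull g).obj E) y j = PerfD.betti E (g y) j := by
  obtain ⟨V, hV, hxV, P₀, a, b, inst, hab, hfp, ⟨ε⟩⟩ := exists_affine_rep E hE (g y)
  haveI := inst
  have hva : VanishesAbove P₀ b := fun i hi => hab i (Or.inr hi)
  have hproj : ∀ i, Module.Projective Γ(X, V) (P₀.X i) := fun i => (hfp i).2
  rw [betti_eq E V hV P₀ b hva hproj (j - 1) ε.hom (IsApprox.of_isIso _) j (by omega) (g y) hxV]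
  let K : Type u := ↑(Y.residueField y)
  letI : Field K := inferInstanceAs (Field (Y.residueField y))
  let θ : X.residueField (g y) ⟶ Y.residueField y := g.residueFieldMap y
  let ψ : Γ(X, V) →+* K := θ.hom.comp (X.evaluation V (g y) hxV).hom
  let h : Spec (CommRingCat.of K) ⟶ X := Y.fromSpecResidueField y ≫ g
  haveI : DCoh.HasLpull h := hasLpull _
  haveI : DCoh.HasLpull (Y.fromSpecResidueField y ≫ g) := hasLpull _
  have hh : h = Spec.map (CommRingCat.ofHom ψ) ≫ hV.fromSpec := by
    show Y.fromSpecResidueField y ≫ g = _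
    rw [← Scheme.Hom.SpecMap_residueFieldMap_fromSpecResidueField,
      fromSpecResidueField_eq V hV (g y) hxV, ← Category.assoc, ← Spec.map_comp]
    rfl
  obtain ⟨c⟩ := Groth.Agent.Lib.LpullCompH3.nonempty_comp_iso (Y.fromSpecResidueField y) g
  have h1 := topRank_HD_Lpull_point E V hV P₀ b hva hproj ε ψ h hh j
  have h2 : betaC P₀ j ψ = betaC P₀ j (X.evaluation V (g y) hxV).hom :=
    betaC_comp P₀ (fun j => (hfp j).1) j (X.evaluation V (g y) hxV).hom θ.hom
  exact (topRank_congr ((homologyFunctor _ j).mapIso (c.app E))).trans (h1.trans h2)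

/-- a ring map from the sections over an affine open to a field factors through a point -/
theorem exists_factor_evaluation (V : X.Opens) (hV : IsAffineOpen V) {k : Type u} [Field k]
    (ψ : Γ(X, V) →+* k) :
    ∃ (y : X) (hy : y ∈ V) (θ : X.residueField y →+* k),
      ψ = θ.comp (X.evaluation V y hy).hom := by
  let h : Spec (CommRingCat.of k) ⟶ X := Spec.map (CommRingCat.ofHom ψ) ≫ hV.fromSpec
  let y : X := h (IsLocalRing.closedPoint k)
  have hy : y ∈ V := by
    have h0 : y ∈ Set.range hV.fromSpec :=
      ⟨Spec.map (CommRingCat.ofHom ψ) (IsLocalRing.closedPoint k), rfl⟩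
    rw [hV.range_fromSpec] at h0
    exact h0
  let θ : X.residueField y ⟶ CommRingCat.of k := X.descResidueField (Scheme.stalkClosedPointTo h)
  have h1 : Spec.map θ ≫ X.fromSpecResidueField y = h :=
    Scheme.descResidueField_stalkClosedPointTo_fromSpecResidueField k X h
  rw [fromSpecResidueField_eq V hV y hy, ← Category.assoc, ← Spec.map_comp] at h1
  have h2 : Spec.map (X.evaluation V y hy ≫ θ) = Spec.map (CommRingCat.ofHom ψ) :=
    (cancel_mono hV.fromSpec).1 h1
  have h3 := Spec.map_injective h2
  refine ⟨y, hy, θ.hom, ?_⟩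
  have h4 := congrArg CommRingCat.Hom.hom h3
  exact h4.symm

section Transport

variable {Z Y : Scheme.{u}} (j : Z ⟶ Y) [IsOpenImmersion j]

theorem exists_free_nhd_of_restrict (L : Y.Modules)
    (h : FlatMod.IsFinLocFree ((Scheme.Modules.restrictFunctor j).obj L)) (z : Z) :
    ∃ (U : Y.Opens) (n : ℕ), j z ∈ U ∧ Nonempty (L.restrict U.ι ≅ FlatMod.freeMod (↑U) n) := by
  obtain ⟨U', n, hz, ⟨α⟩⟩ := h z
  let l : (U' : Scheme.{u}) ⟶ Y := U'.ι ≫ j
  let U : Y.Opens := l.opensRange
  let k : (U : Scheme.{u}) ⟶ (U' : Scheme.{u}) := l.isoOpensRange.inv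
  have hk : k ≫ l = U.ι := l.isoOpensRange_inv_comp
  refine ⟨U, n, ⟨⟨z, hz⟩, rfl⟩, ⟨?_⟩⟩
  exact (Scheme.Modules.restrictFunctorCongr hk.symm).app L ≪≫
    (Scheme.Modules.restrictFunctorComp k l).app L ≪≫
    (Scheme.Modules.restrictFunctor k).mapIso
      ((Scheme.Modules.restrictFunctorComp U'.ι j).app L ≪≫ α) ≪≫ restrictFreeIso k n

theorem isZero_restrict_opensRange (M : Y.Modules)
    (h : IsZero ((Scheme.Modules.restrictFunctor j).obj M)) :
    IsZero ((Scheme.Modules.restrictFunctor j.opensRange.ι).obj M) := by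
  have e := (Scheme.Modules.restrictFunctorCongr j.isoOpensRange_inv_comp.symm).app M ≪≫
    (Scheme.Modules.restrictFunctorComp j.isoOpensRange.inv j).app M
  exact IsZero.of_iso ((Scheme.Modules.restrictFunctor j.isoOpensRange.inv).map_isZero h) e

end Transport

/-- **the Betti numbers of a finite locally free module placed in degree `i`** -/
theorem betti_single [∀ x : X, DCoh.HasLpull (X.fromSpecResidueField x)] (L : X.Modules)
    (hL : FlatMod.IsFinLocFree L) (i : ℤ) (x : X) (U : X.Opens) (hx : x ∈ U) (n : ℕ)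
    (α : L.restrict U.ι ≅ FlatMod.freeMod (↑U) n) (l : ℤ) :
    PerfD.betti ((DerivedCategory.singleFunctor X.Modules i).obj L) x l =
      if l = i then n else 0 := by
  let C : CochainComplex X.Modules ℤ :=
    (HomologicalComplex.single X.Modules (ComplexShape.up ℤ) i).obj L
  have hC : DCoh.IsStrictlyPerfect C := by
    refine ⟨⟨i, i, fun k hk => ?_⟩, fun k => ?_⟩
    · exact HomologicalComplex.isZero_single_obj_X (ComplexShape.up ℤ) i L k (by omega)
    · by_cases hk : k = i
      · subst hk
        exact FLFH8.IsFinLocFree.of_iso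
          (HomologicalComplex.singleObjXSelf (ComplexShape.up ℤ) k L).symm hL
      · exact isFinLocFree_of_isZero
          (HomologicalComplex.isZero_single_obj_X (ComplexShape.up ℤ) i L k hk)
  let K : Type u := ↑(X.residueField x)
  letI : Field K := inferInstanceAs (Field (X.residueField x))
  let ix : Spec (CommRingCat.of K) ⟶ X := X.fromSpecResidueField x
  haveI : DCoh.HasLpull ix := hasLpull _
  let N : (Spec (CommRingCat.of K)).Modules := (Scheme.Modules.pullback ix).obj L
  let e0 : (DerivedCategory.singleFunctor X.Modules i).obj L ≅ Q.obj C :=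
    (DerivedCategory.singleFunctorIsoCompQ X.Modules i).app L
  let e1 : (DCoh.Lpull ix).obj (Q.obj C) ≅ Q.obj ((pullCx ix).obj C) :=
    LpullQIso ix C (isKFlat_of_isStrictlyPerfect hC)
  let e2 : (pullCx ix).obj C ≅
      (HomologicalComplex.single (Spec (CommRingCat.of K)).Modules (ComplexShape.up ℤ) i).obj N :=
    (HomologicalComplex.singleMapHomologicalComplex (Scheme.Modules.pullback ix)
      (ComplexShape.up ℤ) i).app L
  let e3 : DCoh.HD ((DCoh.Lpull ix).obj ((DerivedCategory.singleFunctor X.Modules i).obj L)) l ≅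
      ((HomologicalComplex.single (Spec (CommRingCat.of K)).Modules
        (ComplexShape.up ℤ) i).obj N).homology l :=
    (homologyFunctor _ l).mapIso ((DCoh.Lpull ix).mapIso e0 ≪≫ e1 ≪≫ Q.mapIso e2) ≪≫
      (homologyFunctorFactors _ l).app _
  have key : ∀ M : (Spec (CommRingCat.of K)).Modules, topRank M =
      Module.finrank K ((Groth.Agent.Lib.PerfEulerL.GΓ K).obj M) := fun M =>
    Groth.Agent.Lib.PerfEulerL.finrank_sections_spec K M
  have h0 : PerfD.betti ((DerivedCategory.singleFunctor X.Modules i).obj L) x l =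
      topRank (((HomologicalComplex.single (Spec (CommRingCat.of K)).Modules
        (ComplexShape.up ℤ) i).obj N).homology l) := topRank_congr e3
  rw [h0]
  by_cases hl : l = i
  · subst hl
    rw [if_pos rfl, topRank_congr (HomologicalComplex.singleObjHomologySelfIso
      (ComplexShape.up ℤ) l N), key]
    obtain ⟨δ⟩ := Groth.Agent.Lib.PerfEulerL.nonempty_Γ_pullback_iso K ix L U n α
      (fun t => by
        have ht : ix t = x := Scheme.fromSpecResidueField_apply x t
        rw [ht]
        exact hx)
    exact δ.toLinearEquiv.finrank_eq.trans (Module.finrank_fin_fun K)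
  · rw [if_neg hl, key]
    have hz : IsZero (((HomologicalComplex.single (Spec (CommRingCat.of K)).Modules
        (ComplexShape.up ℤ) i).obj N).homology l) :=
      HomologicalComplex.isZero_single_obj_homology (ComplexShape.up ℤ) i N l hl
    haveI := ModuleCat.subsingleton_of_isZero
      ((Groth.Agent.Lib.PerfEulerL.GΓ K).map_isZero hz)
    exact Module.finrank_zero_of_subsingleton

end

end Groth.Agent.Lib.FibreLocH3
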