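import Groth.Agent.Lib.KFlatGen2_helper2
import Groth.Agent.Lib.TensorFlat_helper8

/-!
# K-flat complexes of modules over a commutative ring (helper2)

Instantiation of `KFlatGen` for `F = curriedTensor (ModuleCat R)`.
-/

set_option autoImplicit false
universe u
open CategoryTheory Limits MonoidalCategory

namespace Groth.Agent.Lib.KFlatGen

section Generic

universe v' u'

variable {𝒜 : Type u'} [Category.{v'} 𝒜] (F : 𝒜 ⥤ 𝒜 ⥤ 𝒜)

/-- exactness of `F(-, M)` passes to colimits of exact shape in `M` -/
theorem preservesFiniteLimits_flip_of_isColimit {I : Type} [SmallCategory I]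
    [HasColimitsOfShape I 𝒜] [HasExactColimitsOfShape I 𝒜]
    [∀ G : 𝒜, PreservesColimitsOfShape I (F.obj G)]
    (D : I ⥤ 𝒜) (hD : ∀ i, PreservesFiniteLimits (F.flip.obj (D.obj i))) (c : Cocone D)
    (hc : IsColimit c) : PreservesFiniteLimits (F.flip.obj c.pt) := by
  let Φ : 𝒜 ⥤ (I ⥤ 𝒜) := F ⋙ (Functor.whiskeringLeft I _ _).obj D
  haveI : PreservesFiniteLimits Φ := by
    apply preservesFiniteLimits_of_evaluation
    intro i
    haveI := hD i
    exact preservesFiniteLimits_of_natIso
      (NatIso.ofComponents (fun G => Iso.refl _) :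
        F.flip.obj (D.obj i) ≅ Φ ⋙ (evaluation I 𝒜).obj i)
  haveI : PreservesFiniteLimits (colim : (I ⥤ 𝒜) ⥤ 𝒜) :=
    HasExactColimitsOfShape.preservesFiniteLimits
  let e : Φ ⋙ colim ≅ F.flip.obj c.pt :=
    NatIso.ofComponents (fun G => (colimit.isColimit (Φ.obj G)).coconePointUniqueUpToIso
      (isColimitOfPreserves (F.obj G) hc)) (by
      intro G G' g
      apply colimit.hom_ext
      intro j
      have h1 : ∀ (G : 𝒜) (j : I), colimit.ι (Φ.obj G) j ≫
          ((colimit.isColimit (Φ.obj G)).coconePointUniqueUpToIso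
            (isColimitOfPreserves (F.obj G) hc)).hom =
          (F.obj G).map (c.ι.app j) := fun G j =>
        IsColimit.comp_coconePointUniqueUpToIso_hom (colimit.isColimit (Φ.obj G)) _ j
      simp only [Functor.comp_map, colim_map, ι_colimMap_assoc]
      rw [h1 G', reassoc_of% (h1 G)]
      exact ((F.map g).naturality (c.ι.app j)).symm)
  exact preservesFiniteLimits_of_natIso e

end Generic

end Groth.Agent.Lib.KFlatGen

namespace Groth.Agent.Lib.KFlatMod

open Groth.Agent.Lib.KFlatGen

variable (R : Type u) [CommRing R]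

/-- the tensor bifunctor on `R`-modules -/
abbrev T : ModuleCat.{u} R ⥤ ModuleCat.{u} R ⥤ ModuleCat.{u} R := curriedTensor (ModuleCat.{u} R)

instance : HasExactColimitsOfShape ℕ (ModuleCat.{u} R) := by
  haveI : AB5OfSize.{0, 0} (ModuleCat.{u} R) := AB5OfSize_shrink.{0, 0, u, u} (ModuleCat.{u} R)
  exact AB5OfSize.ofShape ℕ

/-- `(T R).flip.obj M ≅ tensorRight M` -/
noncomputable def flipObjIso (M : ModuleCat.{u} R) : (T R).flip.obj M ≅ tensorRight M :=
  NatIso.ofComponents (fun _ => Iso.refl _)

lemma flat_iff_preservesFiniteLimits (M : ModuleCat.{u} R) :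
    Module.Flat R M ↔ PreservesFiniteLimits ((T R).flip.obj M) := by
  refine Iff.trans (Module.Flat.iff_preservesFiniteLimits_tensorRight M) ⟨?_, ?_⟩
  · intro h
    exact preservesFiniteLimits_of_natIso (flipObjIso R M).symm
  · intro h
    exact preservesFiniteLimits_of_natIso (flipObjIso R M)

lemma tensor_left_shortExact (S : ShortComplex (ModuleCat.{u} R)) (hS : S.ShortExact)
    (h3 : Module.Flat R S.X₃) (G : ModuleCat.{u} R) : (S.map ((T R).obj G)).ShortExact := by
  obtain ⟨hex, hepi⟩ := (Functor.preservesFiniteColimits_iff_forall_exact_map_and_epi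
    ((T R).obj G)).1 inferInstance S hS
  have hf : Function.Injective S.f.hom := (ModuleCat.mono_iff_injective _).1 hS.mono_f
  have hg : Function.Surjective S.g.hom := (ModuleCat.epi_iff_surjective _).1 hS.epi_g
  have hfg : Function.Exact S.f.hom S.g.hom :=
    (ShortComplex.ShortExact.moduleCat_exact_iff_function_exact S).1 hS.exact
  have hinj := LinearMap.lTensor_injective_of_exact_of_flat S.g.hom hg S.f.hom hf hfg G
  have hmono : Mono (((T R).obj G).map S.f) := by
    rw [ModuleCat.mono_iff_injective]
    exact hinj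
  exact { exact := hex, mono_f := hmono, epi_g := hepi }

/-- flat modules form a flat class -/
theorem flatClass : FlatClass (T R) (fun M : ModuleCat.{u} R => Module.Flat R M) where
  tensor_left S hS h3 G := tensor_left_shortExact R S hS h3 G
  preservesFiniteLimits M hM := (flat_iff_preservesFiniteLimits R M).1 hM
  preservesFiniteColimits M _ := by
    haveI : PreservesFiniteColimits (tensorRight M) := inferInstance
    exact preservesFiniteColimits_of_natIso (flipObjIso R M).symm
  of_iso e h := by
    haveI := h
    exact Module.Flat.of_linearEquiv e.toLinearEquiv.symm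
  of_isZero M hM := by
    haveI := ModuleCat.subsingleton_of_isZero hM
    infer_instance

lemma cover_free (X : ModuleCat.{u} R) :
    ∃ (Y : ModuleCat.{u} R) (π : Y ⟶ X), Module.Free R Y ∧ Epi π := by
  refine ⟨ModuleCat.of R (X →₀ R), ModuleCat.ofHom (Finsupp.linearCombination R id), ?_, ?_⟩
  · exact (inferInstance : Module.Free R (X →₀ R))
  · rw [ModuleCat.epi_iff_surjective]
    exact Finsupp.linearCombination_surjective R Function.surjective_id

/-- free modules form a resolution class -/
theorem resClass : ResClass (fun M : ModuleCat.{u} R => Module.Flat R M)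
    (fun M : ModuleCat.{u} R => Module.Free R M) where
  flat X hX := by
    haveI := hX
    infer_instance
  cover X := cover_free R X
  zero := ⟨ModuleCat.of R PUnit.{u + 1}, ModuleCat.isZero_of_subsingleton _,
    (inferInstance : Module.Free R PUnit.{u + 1})⟩
  of_iso e h := by
    haveI := h
    exact Module.Free.of_equiv e.toLinearEquiv
  biprod {X Y} hX hY := by
    haveI := hX
    haveI := hY
    exact Module.Free.of_equiv (ModuleCat.biprodIsoProd X Y).symm.toLinearEquiv
  flat_colim D hD c hc := by
    rw [flat_iff_preservesFiniteLimits]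
    exact preservesFiniteLimits_flip_of_isColimit (T R) D
      (fun n => (flat_iff_preservesFiniteLimits R _).1 (hD n)) c hc
  flat_biprod {X Y} hX hY := by
    rw [flat_iff_preservesFiniteLimits] at hX hY ⊢
    have hS := (ShortComplex.Splitting.ofHasBinaryBiproduct X Y).shortExact
    haveI : ∀ Y : ModuleCat.{u} R, PreservesFiniteColimits ((T R).flip.obj Y) := fun Y => by
      haveI : PreservesFiniteColimits (tensorRight Y) := inferInstance
      exact preservesFiniteColimits_of_natIso (flipObjIso R Y).symm
    haveI : PreservesFiniteLimits ((T R).flip.obj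
        (ShortComplex.mk (biprod.inl : X ⟶ X ⊞ Y) (biprod.snd : X ⊞ Y ⟶ Y) (by simp)).X₃) := hY
    exact (Groth.Agent.Lib.TensorFlatH8.flat_two_of_three (T R)
      (fun Z => (BraidedCategory.curriedBraidingNatIso (ModuleCat.{u} R)).app Z)
      (fun G => by
        obtain ⟨Y', π, hY', hπ⟩ := cover_free R G
        exact ⟨Y', π, hπ, (flat_iff_preservesFiniteLimits R Y').1 (by haveI := hY'; infer_instance)⟩)
      _ hS).1 hX

end Groth.Agent.Lib.KFlatMod
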