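import Mathlib
import Groth.Agent.Lib.KInjGen5_helper7
import Groth.Agent.Lib.KInjLift_helper2

/-!
# The horseshoe lemma for K-injective resolutions (helper3)

* `quasiIso_τ₁`, `quasiIso_τ₂`: two-out-of-three for morphisms of short exact sequences of
  cochain complexes (Mathlib has `quasiIso_τ₃`).
* `pushout_shortExact`: pushing out a short exact sequence along a map from the kernel.
* `horseshoe`: a short exact sequence of complexes in a Grothendieck abelian category admits a
  termwise-monomorphic quasi-isomorphism to a short exact sequence of K-injective complexes with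
  injective terms.
-/

set_option autoImplicit false
set_option linter.all false
set_option maxHeartbeats 1600000

universe v u

open CategoryTheory Limits HomologicalComplex

namespace Groth.Agent.Lib.HorseshoeH3

section TwoOfThree

variable {C : Type*} [Category C] [Abelian C]
  {S₁ S₂ : ShortComplex (CochainComplex C ℤ)} (φ : S₁ ⟶ S₂)
  (hS₁ : S₁.ShortExact) (hS₂ : S₂.ShortExact)

open HomologySequence ComposableArrows

include hS₁ hS₂

lemma mono_homologyMap_τ₂ (i j : ℤ) (hij : (ComplexShape.up ℤ).Rel i j)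
    (h₀ : Epi (homologyMap φ.τ₃ i)) (h₁ : Mono (homologyMap φ.τ₁ j))
    (h₃ : Mono (homologyMap φ.τ₃ j)) : Mono (homologyMap φ.τ₂ j) :=
  Abelian.mono_of_epi_of_mono_of_mono'' (k := 2) (by omega)
    (composableArrows₅_exact hS₁ i j hij) (composableArrows₅_exact hS₂ i j hij)
    (mapComposableArrows₅ φ hS₁ hS₂ i j hij) 2 3 4 5 rfl rfl rfl rfl h₀ h₁ h₃

lemma epi_homologyMap_τ₂ (i j : ℤ) (hij : (ComplexShape.up ℤ).Rel i j)
    (h₀ : Epi (homologyMap φ.τ₁ i)) (h₂ : Epi (homologyMap φ.τ₃ i))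
    (h₃ : Mono (homologyMap φ.τ₁ j)) : Epi (homologyMap φ.τ₂ i) :=
  Abelian.epi_of_epi_of_epi_of_mono'' (k := 0) (by omega)
    (composableArrows₅_exact hS₁ i j hij) (composableArrows₅_exact hS₂ i j hij)
    (mapComposableArrows₅ φ hS₁ hS₂ i j hij) 0 1 2 3 rfl rfl rfl rfl h₀ h₂ h₃

lemma mono_homologyMap_τ₁ (i j : ℤ) (hij : (ComplexShape.up ℤ).Rel i j)
    (h₀ : Epi (homologyMap φ.τ₂ i)) (h₁ : Mono (homologyMap φ.τ₃ i))
    (h₃ : Mono (homologyMap φ.τ₂ j)) : Mono (homologyMap φ.τ₁ j) :=
  Abelian.mono_of_epi_of_mono_of_mono'' (k := 1) (by omega)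
    (composableArrows₅_exact hS₁ i j hij) (composableArrows₅_exact hS₂ i j hij)
    (mapComposableArrows₅ φ hS₁ hS₂ i j hij) 1 2 3 4 rfl rfl rfl rfl h₀ h₁ h₃

lemma epi_homologyMap_τ₁ (i j : ℤ) (hij : (ComplexShape.up ℤ).Rel i j)
    (h₀ : Epi (homologyMap φ.τ₃ i)) (h₂ : Epi (homologyMap φ.τ₂ j))
    (h₃ : Mono (homologyMap φ.τ₃ j)) : Epi (homologyMap φ.τ₁ j) :=
  Abelian.epi_of_epi_of_epi_of_mono'' (k := 2) (by omega)
    (composableArrows₅_exact hS₁ i j hij) (composableArrows₅_exact hS₂ i j hij)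
    (mapComposableArrows₅ φ hS₁ hS₂ i j hij) 2 3 4 5 rfl rfl rfl rfl h₀ h₂ h₃

lemma quasiIso_τ₂ (h₁ : QuasiIso φ.τ₁) (h₃ : QuasiIso φ.τ₃) : QuasiIso φ.τ₂ := by
  rw [quasiIso_iff]
  intro i
  rw [quasiIsoAt_iff_isIso_homologyMap]
  haveI : Mono (homologyMap φ.τ₂ i) :=
    mono_homologyMap_τ₂ φ hS₁ hS₂ (i - 1) i (by simp) inferInstance inferInstance inferInstance
  haveI : Epi (homologyMap φ.τ₂ i) :=
    epi_homologyMap_τ₂ φ hS₁ hS₂ i (i + 1) (by simp) inferInstance inferInstance inferInstance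
  exact isIso_of_mono_of_epi _

lemma quasiIso_τ₁ (h₂ : QuasiIso φ.τ₂) (h₃ : QuasiIso φ.τ₃) : QuasiIso φ.τ₁ := by
  rw [quasiIso_iff]
  intro i
  rw [quasiIsoAt_iff_isIso_homologyMap]
  haveI : Mono (homologyMap φ.τ₁ i) :=
    mono_homologyMap_τ₁ φ hS₁ hS₂ (i - 1) i (by simp) inferInstance inferInstance inferInstance
  haveI : Epi (homologyMap φ.τ₁ i) :=
    epi_homologyMap_τ₁ φ hS₁ hS₂ (i - 1) i (by simp) inferInstance inferInstance inferInstance
  exact isIso_of_mono_of_epi _

end TwoOfThree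

section Pushout

variable {𝒞 : Type*} [Category 𝒞] [Abelian 𝒞] {X₁ X₂ X₃ Y : 𝒞} (f : X₁ ⟶ X₂) (g : X₂ ⟶ X₃)
  (w : f ≫ g = 0) (u : X₁ ⟶ Y)

/-- the induced map from the pushout to the cokernel -/
noncomputable def poπ : pushout f u ⟶ X₃ := pushout.desc g 0 (by rw [w, comp_zero])

@[reassoc (attr := simp)]
lemma inl_poπ : pushout.inl f u ≫ poπ f g w u = g := pushout.inl_desc _ _ _

@[reassoc (attr := simp)]
lemma inr_poπ : pushout.inr f u ≫ poπ f g w u = 0 := pushout.inr_desc _ _ _

variable (hS : (ShortComplex.mk f g w).ShortExact)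

/-- `poπ` is a cokernel of `pushout.inr` -/
noncomputable def isColimitPoπ :
    IsColimit (CokernelCofork.ofπ (poπ f g w u) (inr_poπ f g w u)) :=
  CokernelCofork.IsColimit.ofπ _ _
    (fun {Z} t ht => hS.gIsCokernel.desc (CokernelCofork.ofπ (pushout.inl f u ≫ t) (by
      show f ≫ pushout.inl f u ≫ t = 0
      rw [← Category.assoc, pushout.condition, Category.assoc, ht, comp_zero])))
    (fun {Z} t ht => by
      have h1 : g ≫ hS.gIsCokernel.desc (CokernelCofork.ofπ (pushout.inl f u ≫ t) (by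
          show f ≫ pushout.inl f u ≫ t = 0
          rw [← Category.assoc, pushout.condition, Category.assoc, ht, comp_zero])) =
          pushout.inl f u ≫ t :=
        Cofork.IsColimit.π_desc hS.gIsCokernel
      apply pushout.hom_ext
      · rw [inl_poπ_assoc]
        exact h1
      · rw [inr_poπ_assoc, zero_comp, ht])
    (fun {Z} t ht m hm => by
      haveI := hS.epi_g
      rw [← cancel_epi g]
      have h1 : g ≫ hS.gIsCokernel.desc (CokernelCofork.ofπ (pushout.inl f u ≫ t) (by
          show f ≫ pushout.inl f u ≫ t = 0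
          rw [← Category.assoc, pushout.condition, Category.assoc, ht, comp_zero])) =
          pushout.inl f u ≫ t :=
        Cofork.IsColimit.π_desc hS.gIsCokernel
      rw [h1, ← hm, inl_poπ_assoc])

include hS in
theorem pushout_shortExact :
    (ShortComplex.mk (pushout.inr f u) (poπ f g w u) (inr_poπ f g w u)).ShortExact := by
  haveI : Mono f := hS.mono_f
  haveI : Epi g := hS.epi_g
  exact
    { exact := ShortComplex.exact_of_g_is_cokernel _ (isColimitPoπ f g w u hS)
      mono_f := by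
        show Mono (pushout.inr f u)
        infer_instance
      epi_g := by
        show Epi (poπ f g w u)
        exact epi_of_epi_fac (inl_poπ f g w u) }

end Pushout

section Horseshoe

variable {A : Type u} [Category.{v} A] [Abelian A] [IsGrothendieckAbelian.{v} A]

/-- the cokernel of a degreewise split monomorphism of K-injective complexes is K-injective -/
theorem isKInjective_X₃_of_degreewiseSplit {C : Type*} [Category C] [Abelian C]
    (S : ShortComplex (CochainComplex C ℤ))
    (σ : ∀ n, (S.map (HomologicalComplex.eval C _ n)).Splitting)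
    (h₁ : S.X₁.IsKInjective) (h₂ : S.X₂.IsKInjective) : S.X₃.IsKInjective := by
  rw [CochainComplex.isKInjective_iff_rightOrthogonal] at h₁ h₂ ⊢
  have hT : CochainComplex.trianglehOfDegreewiseSplit S σ ∈ distTriang _ :=
    (HomotopyCategory.distinguished_iff_iso_trianglehOfDegreewiseSplit _).2
      ⟨S, σ, ⟨Iso.refl _⟩⟩
  exact (HomotopyCategory.subcategoryAcyclic C).rightOrthogonal.ext_of_isTriangulatedClosed₃ _
    hT h₁ h₂

/-- **the horseshoe lemma for K-injective resolutions** -/
theorem horseshoe (S : ShortComplex (CochainComplex A ℤ)) (hS : S.ShortExact) :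
    ∃ (T : ShortComplex (CochainComplex A ℤ)) (φ : S ⟶ T), T.ShortExact ∧
      T.X₁.IsKInjective ∧ T.X₂.IsKInjective ∧ T.X₃.IsKInjective ∧
      QuasiIso φ.τ₁ ∧ QuasiIso φ.τ₂ ∧ QuasiIso φ.τ₃ ∧
      (∀ n, Nonempty ((T.map (HomologicalComplex.eval A _ n)).Splitting)) := by
  haveI : Mono S.f := hS.mono_f
  obtain ⟨J', s', hJ', hs', hm', hinj'⟩ := Groth.Agent.Lib.KInjGen5.exists_resolution S.X₁
  -- the pushout
  have hW := pushout_shortExact S.f S.g S.zero s' hS
  let SW : ShortComplex (CochainComplex A ℤ) :=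
    ShortComplex.mk (pushout.inr S.f s') (poπ S.f S.g S.zero s') (inr_poπ S.f S.g S.zero s')
  let ψ₁ : S ⟶ SW :=
    { τ₁ := s'
      τ₂ := pushout.inl S.f s'
      τ₃ := 𝟙 _
      comm₁₂ := pushout.condition.symm
      comm₂₃ := by
        show pushout.inl S.f s' ≫ poπ S.f S.g S.zero s' = S.g ≫ 𝟙 _
        rw [inl_poπ, Category.comp_id] }
  have hinl : QuasiIso (pushout.inl S.f s') :=
    quasiIso_τ₂ ψ₁ hS hW hs' (by show QuasiIso (𝟙 S.X₃); infer_instance)
  obtain ⟨J, sW, hJ, hsW, hmW, hinjJ⟩ :=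
    Groth.Agent.Lib.KInjGen5.exists_resolution (pushout S.f s')
  haveI : Mono sW := HomologicalComplex.mono_of_mono_f sW hmW
  let a : J' ⟶ J := pushout.inr S.f s' ≫ sW
  haveI : Mono a := mono_comp _ _
  let T : ShortComplex (CochainComplex A ℤ) :=
    ShortComplex.mk a (cokernel.π a) (cokernel.condition a)
  have hT : T.ShortExact :=
    { exact := ShortComplex.exact_of_g_is_cokernel _ (cokernelIsCokernel a)
      mono_f := by show Mono a; infer_instance
      epi_g := by show Epi (cokernel.π a); infer_instance }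
  have hz : pushout.inr S.f s' ≫ sW ≫ cokernel.π a = 0 := by
    rw [← Category.assoc]
    exact cokernel.condition a
  let s'' : S.X₃ ⟶ cokernel a :=
    hW.gIsCokernel.desc (CokernelCofork.ofπ (sW ≫ cokernel.π a) hz)
  have hs''c : poπ S.f S.g S.zero s' ≫ s'' = sW ≫ cokernel.π a :=
    Cofork.IsColimit.π_desc hW.gIsCokernel
  let ψ₂ : SW ⟶ T :=
    { τ₁ := 𝟙 _
      τ₂ := sW
      τ₃ := s''
      comm₁₂ := by
        show 𝟙 J' ≫ a = pushout.inr S.f s' ≫ sW
        rw [Category.id_comp]
      comm₂₃ := by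
        show sW ≫ cokernel.π a = poπ S.f S.g S.zero s' ≫ s''
        exact hs''c.symm }
  have hs'' : QuasiIso s'' :=
    HomologySequence.quasiIso_τ₃ ψ₂ hW hT (by show QuasiIso (𝟙 J'); infer_instance) hsW
  -- the splittings
  have hdeg : ∀ n, (T.map (HomologicalComplex.eval A _ n)).ShortExact := fun n =>
    (HomologicalComplex.shortExact_iff_degreewise_shortExact T).1 hT n
  have σ : ∀ n, (T.map (HomologicalComplex.eval A _ n)).Splitting := fun n => by
    haveI : Injective (T.map (HomologicalComplex.eval A _ n)).X₁ := by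
      show Injective (J'.X n)
      exact hinj' n
    exact (hdeg n).splittingOfInjective
  refine ⟨T, ψ₁ ≫ ψ₂, hT, hJ', hJ, isKInjective_X₃_of_degreewiseSplit T σ hJ' hJ, ?_, ?_, ?_,
    fun n => ⟨σ n⟩⟩
  · show QuasiIso (s' ≫ 𝟙 _)
    rw [Category.comp_id]
    exact hs'
  · show QuasiIso (pushout.inl S.f s' ≫ sW)
    haveI := hinl
    haveI := hsW
    infer_instance
  · show QuasiIso (𝟙 _ ≫ s'')
    rw [Category.id_comp]
    exact hs''

end Horseshoe

end Groth.Agent.Lib.HorseshoeH3
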