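import Mathlib
import Groth.Prelude
import Groth.Agent.Lib.ProjFormula3_helper3

/-!
# The projection morphism for complexes (helper3)

For an arbitrary morphism of schemes `f : X ⟶ Y`:

* `pjCx f E P : Tot (f_* E ⊗ P) ⟶ f_* (Tot (E ⊗ f^* P))`, the chain-level projection morphism;
* `ι_pjCx`: its description on the summands;
* `pjCx_natural_right`, `pjCx_natural_left`: naturality.
-/

set_option autoImplicit false
set_option linter.all false
set_option maxHeartbeats 1600000
set_option backward.isDefEq.respectTransparency false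
set_option backward.isDefEq.respectTransparency.types false
set_option backward.defeqAttrib.useBackward true

universe u
open CategoryTheory CategoryTheory.Limits AlgebraicGeometry Opposite

namespace Groth.Agent.Lib.PjCxH3

open Groth.Agent.Lib.ProjFormulaH3 Groth.Agent.Lib.LpullLocH3 Groth.Agent.Lib.TotalMap

noncomputable section

variable {X Y : Scheme.{u}} (f : X ⟶ Y)

/-- the bicomplex `E^p ⊗ f^* P^q` -/
abbrev biCx (E : CochainComplex X.Modules ℤ) (P : CochainComplex Y.Modules ℤ) :
    HomologicalComplex₂ X.Modules (ComplexShape.up ℤ) (ComplexShape.up ℤ) :=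
  (((tensPull f).mapBifunctorHomologicalComplex (ComplexShape.up ℤ) (ComplexShape.up ℤ)).obj
    E).obj P

instance hasTotal_biCx (E : CochainComplex X.Modules ℤ) (P : CochainComplex Y.Modules ℤ) :
    (biCx f E P).HasTotal (ComplexShape.up ℤ) :=
  inferInstanceAs (CochainComplex.HasMapBifunctor E P (tensPull f))

instance hasTotal_mapBi_biCx (E : CochainComplex X.Modules ℤ) (P : CochainComplex Y.Modules ℤ) :
    (mapBi (biCx f E P) (Scheme.Modules.pushforward f)).HasTotal (ComplexShape.up ℤ) :=
  inferInstanceAs (CochainComplex.HasMapBifunctor E P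
    (tensPull f ⋙ (Functor.whiskeringRight Y.Modules _ _).obj (Scheme.Modules.pushforward f)))

/-- the comparison `Tot (f_* (E ⊗ f^* P)) ⟶ f_* (Tot (E ⊗ f^* P))` -/
def cmpCx (E : CochainComplex X.Modules ℤ) (P : CochainComplex Y.Modules ℤ) :
    CochainComplex.mapBifunctor E P
        (tensPull f ⋙ (Functor.whiskeringRight Y.Modules _ _).obj (Scheme.Modules.pushforward f)) ⟶
      (pushCx f).obj ((DCoh.tensorCx.obj E).obj ((pullCx f).obj P)) :=
  ψHom (biCx f E P) (ComplexShape.up ℤ) (Scheme.Modules.pushforward f)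

/-- **the chain-level projection morphism** `Tot (f_* E ⊗ P) ⟶ f_* (Tot (E ⊗ f^* P))` -/
def pjCx (E : CochainComplex X.Modules ℤ) (P : CochainComplex Y.Modules ℤ) :
    (DCoh.tensorCx.obj ((pushCx f).obj E)).obj P ⟶
      (pushCx f).obj ((DCoh.tensorCx.obj E).obj ((pullCx f).obj P)) :=
  Groth.Agent.Lib.BifNat.mapNat (pjNat f) E P ≫ cmpCx f E P

lemma ι_cmpCx (E : CochainComplex X.Modules ℤ) (P : CochainComplex Y.Modules ℤ) (p q n : ℤ)
    (h : p + q = n) :
    CochainComplex.ιMapBifunctor E P
        (tensPull f ⋙ (Functor.whiskeringRight Y.Modules _ _).obj (Scheme.Modules.pushforward f))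
        p q n h ≫ (cmpCx f E P).f n =
      (Scheme.Modules.pushforward f).map
        (CochainComplex.ιMapBifunctor E ((pullCx f).obj P) (DCoh.tensorBi (X := X)) p q n h) :=
  ι_ψ (biCx f E P) (ComplexShape.up ℤ) (Scheme.Modules.pushforward f) p q n h

/-- the chain-level projection morphism on the summands -/
lemma ι_pjCx (E : CochainComplex X.Modules ℤ) (P : CochainComplex Y.Modules ℤ) (p q n : ℤ)
    (h : p + q = n) :
    CochainComplex.ιMapBifunctor ((pushCx f).obj E) P (DCoh.tensorBi (X := Y)) p q n h ≫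
        (pjCx f E P).f n =
      pj f (E.X p) (P.X q) ≫ (Scheme.Modules.pushforward f).map
        (CochainComplex.ιMapBifunctor E ((pullCx f).obj P) (DCoh.tensorBi (X := X)) p q n h) := by
  have h1 := Groth.Agent.Lib.BifNat.ι_mapNat_f (pjNat f) E P p q n h
  show _ ≫ (Groth.Agent.Lib.BifNat.mapNat (pjNat f) E P).f n ≫ (cmpCx f E P).f n = _
  rw [← Category.assoc]
  erw [h1]
  rw [Category.assoc, ι_cmpCx]
  rfl

/-- naturality of the chain-level projection morphism in the second variable -/
lemma pjCx_natural_right (E : CochainComplex X.Modules ℤ) {P P' : CochainComplex Y.Modules ℤ}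
    (ψ : P ⟶ P') :
    (DCoh.tensorCx.obj ((pushCx f).obj E)).map ψ ≫ pjCx f E P' =
      pjCx f E P ≫ (pushCx f).map ((DCoh.tensorCx.obj E).map ((pullCx f).map ψ)) := by
  refine HomologicalComplex.hom_ext _ _ (fun n => ?_)
  apply HomologicalComplex.mapBifunctor.hom_ext
  intro p q hpq
  have hpq' : p + q = n := hpq
  rw [HomologicalComplex.comp_f, HomologicalComplex.comp_f]
  have hL : CochainComplex.ιMapBifunctor ((pushCx f).obj E) P (DCoh.tensorBi (X := Y)) p q n hpq' ≫
      ((DCoh.tensorCx.obj ((pushCx f).obj E)).map ψ).f n =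
      ((DCoh.tensorBi (X := Y)).obj (((pushCx f).obj E).X p)).map (ψ.f q) ≫
        CochainComplex.ιMapBifunctor ((pushCx f).obj E) P' (DCoh.tensorBi (X := Y)) p q n hpq' := by
    erw [HomologicalComplex.ι_mapBifunctorMap]
    rw [HomologicalComplex.id_f, CategoryTheory.Functor.map_id, NatTrans.id_app, Category.id_comp]
  have hR : CochainComplex.ιMapBifunctor E ((pullCx f).obj P) (DCoh.tensorBi (X := X)) p q n hpq' ≫
      ((DCoh.tensorCx.obj E).map ((pullCx f).map ψ)).f n =
      ((DCoh.tensorBi (X := X)).obj (E.X p)).map ((Scheme.Modules.pullback f).map (ψ.f q)) ≫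
        CochainComplex.ιMapBifunctor E ((pullCx f).obj P') (DCoh.tensorBi (X := X)) p q n hpq' := by
    erw [HomologicalComplex.ι_mapBifunctorMap]
    rw [HomologicalComplex.id_f, CategoryTheory.Functor.map_id, NatTrans.id_app, Category.id_comp]
    rfl
  show CochainComplex.ιMapBifunctor ((pushCx f).obj E) P (DCoh.tensorBi (X := Y)) p q n hpq' ≫
      ((DCoh.tensorCx.obj ((pushCx f).obj E)).map ψ).f n ≫ (pjCx f E P').f n =
    CochainComplex.ιMapBifunctor ((pushCx f).obj E) P (DCoh.tensorBi (X := Y)) p q n hpq' ≫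
      (pjCx f E P).f n ≫ ((pushCx f).map ((DCoh.tensorCx.obj E).map ((pullCx f).map ψ))).f n
  have h3 : ((pushCx f).map ((DCoh.tensorCx.obj E).map ((pullCx f).map ψ))).f n =
      (Scheme.Modules.pushforward f).map
        (((DCoh.tensorCx.obj E).map ((pullCx f).map ψ)).f n) := rfl
  have e1 : CochainComplex.ιMapBifunctor ((pushCx f).obj E) P (DCoh.tensorBi (X := Y)) p q n hpq' ≫
      ((DCoh.tensorCx.obj ((pushCx f).obj E)).map ψ).f n ≫ (pjCx f E P').f n =
      (((DCoh.tensorBi (X := Y)).obj ((Scheme.Modules.pushforward f).obj (E.X p))).map (ψ.f q) ≫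
        pj f (E.X p) (P'.X q)) ≫ (Scheme.Modules.pushforward f).map
        (CochainComplex.ιMapBifunctor E ((pullCx f).obj P') (DCoh.tensorBi (X := X)) p q n hpq') := by
    rw [← Category.assoc, hL, Category.assoc, ι_pjCx, ← Category.assoc]
    rfl
  have e2 : CochainComplex.ιMapBifunctor ((pushCx f).obj E) P (DCoh.tensorBi (X := Y)) p q n hpq' ≫
      (pjCx f E P).f n ≫ ((pushCx f).map ((DCoh.tensorCx.obj E).map ((pullCx f).map ψ))).f n =
      (pj f (E.X p) (P.X q) ≫ (Scheme.Modules.pushforward f).map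
        (((DCoh.tensorBi (X := X)).obj (E.X p)).map ((Scheme.Modules.pullback f).map (ψ.f q)))) ≫
        (Scheme.Modules.pushforward f).map
        (CochainComplex.ιMapBifunctor E ((pullCx f).obj P') (DCoh.tensorBi (X := X)) p q n hpq') := by
    rw [← Category.assoc, ι_pjCx, Category.assoc, h3, ← CategoryTheory.Functor.map_comp, hR,
      CategoryTheory.Functor.map_comp, ← Category.assoc]
  rw [e1, e2]
  congr 1
  exact pj_natural_right f (E.X p) (ψ.f q)

/-- naturality of the chain-level projection morphism in the first variable -/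
lemma pjCx_natural_left {E E' : CochainComplex X.Modules ℤ} (φ : E ⟶ E')
    (P : CochainComplex Y.Modules ℤ) :
    (DCoh.tensorCx.map ((pushCx f).map φ)).app P ≫ pjCx f E' P =
      pjCx f E P ≫ (pushCx f).map ((DCoh.tensorCx.map φ).app ((pullCx f).obj P)) := by
  refine HomologicalComplex.hom_ext _ _ (fun n => ?_)
  apply HomologicalComplex.mapBifunctor.hom_ext
  intro p q hpq
  have hpq' : p + q = n := hpq
  rw [HomologicalComplex.comp_f, HomologicalComplex.comp_f]
  have hL : CochainComplex.ιMapBifunctor ((pushCx f).obj E) P (DCoh.tensorBi (X := Y)) p q n hpq' ≫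
      ((DCoh.tensorCx.map ((pushCx f).map φ)).app P).f n =
      ((DCoh.tensorBi (X := Y)).map ((Scheme.Modules.pushforward f).map (φ.f p))).app (P.X q) ≫
        CochainComplex.ιMapBifunctor ((pushCx f).obj E') P (DCoh.tensorBi (X := Y)) p q n hpq' := by
    erw [HomologicalComplex.ι_mapBifunctorMap]
    rw [HomologicalComplex.id_f, CategoryTheory.Functor.map_id, Category.id_comp]
    rfl
  have hR : CochainComplex.ιMapBifunctor E ((pullCx f).obj P) (DCoh.tensorBi (X := X)) p q n hpq' ≫
      ((DCoh.tensorCx.map φ).app ((pullCx f).obj P)).f n =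
      ((DCoh.tensorBi (X := X)).map (φ.f p)).app ((Scheme.Modules.pullback f).obj (P.X q)) ≫
        CochainComplex.ιMapBifunctor E' ((pullCx f).obj P) (DCoh.tensorBi (X := X)) p q n hpq' := by
    erw [HomologicalComplex.ι_mapBifunctorMap]
    rw [HomologicalComplex.id_f, CategoryTheory.Functor.map_id, Category.id_comp]
    rfl
  show CochainComplex.ιMapBifunctor ((pushCx f).obj E) P (DCoh.tensorBi (X := Y)) p q n hpq' ≫
      ((DCoh.tensorCx.map ((pushCx f).map φ)).app P).f n ≫ (pjCx f E' P).f n =
    CochainComplex.ιMapBifunctor ((pushCx f).obj E) P (DCoh.tensorBi (X := Y)) p q n hpq' ≫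
      (pjCx f E P).f n ≫ ((pushCx f).map ((DCoh.tensorCx.map φ).app ((pullCx f).obj P))).f n
  have h3 : ((pushCx f).map ((DCoh.tensorCx.map φ).app ((pullCx f).obj P))).f n =
      (Scheme.Modules.pushforward f).map
        (((DCoh.tensorCx.map φ).app ((pullCx f).obj P)).f n) := rfl
  have e1 : CochainComplex.ιMapBifunctor ((pushCx f).obj E) P (DCoh.tensorBi (X := Y)) p q n hpq' ≫
      ((DCoh.tensorCx.map ((pushCx f).map φ)).app P).f n ≫ (pjCx f E' P).f n =
      (((DCoh.tensorBi (X := Y)).map ((Scheme.Modules.pushforward f).map (φ.f p))).app (P.X q) ≫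
        pj f (E'.X p) (P.X q)) ≫ (Scheme.Modules.pushforward f).map
        (CochainComplex.ιMapBifunctor E' ((pullCx f).obj P) (DCoh.tensorBi (X := X)) p q n hpq') := by
    rw [← Category.assoc, hL, Category.assoc, ι_pjCx, ← Category.assoc]
  have e2 : CochainComplex.ιMapBifunctor ((pushCx f).obj E) P (DCoh.tensorBi (X := Y)) p q n hpq' ≫
      (pjCx f E P).f n ≫ ((pushCx f).map ((DCoh.tensorCx.map φ).app ((pullCx f).obj P))).f n =
      (pj f (E.X p) (P.X q) ≫ (Scheme.Modules.pushforward f).map
        (((DCoh.tensorBi (X := X)).map (φ.f p)).app ((Scheme.Modules.pullback f).obj (P.X q)))) ≫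
        (Scheme.Modules.pushforward f).map
        (CochainComplex.ιMapBifunctor E' ((pullCx f).obj P) (DCoh.tensorBi (X := X)) p q n hpq') := by
    rw [← Category.assoc, ι_pjCx, Category.assoc, h3, ← CategoryTheory.Functor.map_comp, hR,
      CategoryTheory.Functor.map_comp, ← Category.assoc]
  rw [e1, e2]
  congr 1
  exact pj_natural_left f (φ.f p) (P.X q)

end

end Groth.Agent.Lib.PjCxH3
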