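import Mathlib
import Groth.Prelude
import Groth.Agent.Lib.PjCx1_helper3
import Groth.Agent.Lib.BCOpen2_lead
import Groth.Agent.Lib.StalkKFlat3_helper3
import Groth.Agent.Lib.KFlatSite7_helper2

/-!
# The derived projection morphism and its isomorphism criterion (helper3)

* `unitAt g K : Q (g_* K) ⟶ Rg_* (Q K)`, its naturality, `isIso_unitAt` on K-injectives;
* `isIso_comp_unitAt_iff`: `Q φ ≫ unitAt K` is an isomorphism iff `φ ≫ g_* s` is a quasi-isomorphism
  for a K-injective resolution `s : K ⟶ J`;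
* `PF g I P`: the derived projection morphism `Q (g_* I ⊗ P) ⟶ Rg_* (Q (I ⊗ g^* P))` is an
  isomorphism; `PF_iff`; `PF_congr` (invariance under quasi-isomorphisms of K-flat `P`).
-/

set_option autoImplicit false
set_option linter.all false
set_option maxHeartbeats 1600000
set_option backward.isDefEq.respectTransparency false
set_option backward.isDefEq.respectTransparency.types false
set_option backward.defeqAttrib.useBackward true

universe u
open CategoryTheory CategoryTheory.Limits AlgebraicGeometry Opposite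

attribute [local instance] HasDerivedCategory.standard

namespace Groth.Agent.Lib.PjCxH3

open Groth.Agent.Lib.ProjFormulaH3 Groth.Agent.Lib.LpullLocH3 DerivedCategory

noncomputable section

variable {X Y : Scheme.{u}} (g : X ⟶ Y) [DCoh.HasRpush g]

/-- the unit of the right derived functor -/
abbrev rUnit : DCoh.pushKh g ⟶ (Qh : _ ⥤ DCoh.D X) ⋙ DCoh.Rpush g :=
  (DCoh.pushKh g).totalRightDerivedUnit Qh
    (HomotopyCategory.quasiIso X.Modules (ComplexShape.up ℤ))

/-- `Q (g_* K) ≅ pushKh g (quotient K)` -/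
def pushFac : (pushCx g) ⋙ Q ≅
    HomotopyCategory.quotient X.Modules (ComplexShape.up ℤ) ⋙ DCoh.pushKh g :=
  Functor.isoWhiskerLeft (pushCx g) (quotientCompQhIso Y.Modules).symm ≪≫
    (Functor.associator _ _ _).symm ≪≫
    Functor.isoWhiskerRight
      ((Scheme.Modules.pushforward g).mapHomotopyCategoryFactors (ComplexShape.up ℤ)).symm Qh ≪≫
    Functor.associator _ _ _

/-- the canonical natural transformation `Q ∘ g_* ⟶ Rg_* ∘ Q` on complexes -/
def unitNat : pushCx g ⋙ Q ⟶ (Q : _ ⥤ DCoh.D X) ⋙ DCoh.Rpush g :=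
  (pushFac g).hom ≫ Functor.whiskerLeft _ (rUnit g) ≫ (Functor.associator _ _ _).inv ≫
    Functor.whiskerRight (quotientCompQhIso X.Modules).hom (DCoh.Rpush g)

/-- **the canonical map** `Q (g_* K) ⟶ Rg_* (Q K)` -/
def unitAt (K : CochainComplex X.Modules ℤ) :
    Q.obj ((pushCx g).obj K) ⟶ (DCoh.Rpush g).obj (Q.obj K) :=
  (unitNat g).app K

lemma unitAt_naturality {K K' : CochainComplex X.Modules ℤ} (φ : K ⟶ K') :
    Q.map ((pushCx g).map φ) ≫ unitAt g K' = unitAt g K ≫ (DCoh.Rpush g).map (Q.map φ) :=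
  (unitNat g).naturality φ

lemma isIso_rUnit_of_isKInjective (J : CochainComplex X.Modules ℤ) [J.IsKInjective] :
    IsIso ((rUnit g).app ((HomotopyCategory.quotient _ _).obj J)) := by
  haveI := Groth.Agent.Lib.MVPushL.grothendieck_modules X
  exact (OrthDeriv.main (P := HomotopyCategory.subcategoryAcyclic X.Modules)
    (HomotopyCategory.quasiIso X.Modules (ComplexShape.up ℤ))
    (HomotopyCategory.quasiIso_eq_trW_subcategoryAcyclic _)
    Groth.Agent.Lib.KInjGen8.hP (Qh : _ ⥤ DCoh.D X) (DCoh.pushKh g)).2 _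
    (CochainComplex.IsKInjective.rightOrthogonal J)

/-- the canonical map is an isomorphism on K-injective complexes -/
instance isIso_unitAt (J : CochainComplex X.Modules ℤ) [J.IsKInjective] : IsIso (unitAt g J) := by
  haveI := isIso_rUnit_of_isKInjective g J
  unfold unitAt unitNat
  simp only [NatTrans.comp_app, Functor.whiskerLeft_app, Functor.whiskerRight_app,
    Functor.associator_inv_app, Functor.comp_obj]
  infer_instance

/-- **the criterion**: `Q φ ≫ unitAt K` is an isomorphism iff `φ ≫ g_* s` is a quasi-isomorphism,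
for any K-injective resolution `s : K ⟶ J` -/
theorem isIso_comp_unitAt_iff {A : CochainComplex Y.Modules ℤ} {K J : CochainComplex X.Modules ℤ}
    (φ : A ⟶ (pushCx g).obj K) (s : K ⟶ J) [QuasiIso s] [J.IsKInjective] :
    IsIso (Q.map φ ≫ unitAt g K) ↔ QuasiIso (φ ≫ (pushCx g).map s) := by
  have h1 : Q.map (φ ≫ (pushCx g).map s) ≫ unitAt g J =
      (Q.map φ ≫ unitAt g K) ≫ (DCoh.Rpush g).map (Q.map s) := by
    rw [Functor.map_comp, Category.assoc, unitAt_naturality, Category.assoc]
  haveI : IsIso (Q.map s) := inferInstance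
  rw [← isIso_Q_map_iff_quasiIso]
  constructor
  · intro h
    haveI := h
    have h2 : Q.map (φ ≫ (pushCx g).map s) =
        ((Q.map φ ≫ unitAt g K) ≫ (DCoh.Rpush g).map (Q.map s)) ≫ inv (unitAt g J) := by
      rw [← h1, Category.assoc, IsIso.hom_inv_id, Category.comp_id]
    rw [h2]
    infer_instance
  · intro h
    haveI := h
    have h2 : Q.map φ ≫ unitAt g K =
        (Q.map (φ ≫ (pushCx g).map s) ≫ unitAt g J) ≫ inv ((DCoh.Rpush g).map (Q.map s)) := by
      rw [h1, Category.assoc, IsIso.hom_inv_id, Category.comp_id]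
    rw [h2]
    infer_instance

/-- the derived projection morphism `Q (g_* I ⊗ P) ⟶ Rg_* (Q (I ⊗ g^* P))` -/
def Lam (I : CochainComplex X.Modules ℤ) (P : CochainComplex Y.Modules ℤ) :
    Q.obj ((DCoh.tensorCx.obj ((pushCx g).obj I)).obj P) ⟶
      (DCoh.Rpush g).obj (Q.obj ((DCoh.tensorCx.obj I).obj ((pullCx g).obj P))) :=
  Q.map (pjCx g I P) ≫ unitAt g _

/-- the derived projection morphism is an isomorphism -/
def PF (I : CochainComplex X.Modules ℤ) (P : CochainComplex Y.Modules ℤ) : Prop :=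
  IsIso (Lam g I P)

theorem PF_iff (I : CochainComplex X.Modules ℤ) (P : CochainComplex Y.Modules ℤ)
    {J : CochainComplex X.Modules ℤ} (s : (DCoh.tensorCx.obj I).obj ((pullCx g).obj P) ⟶ J)
    [QuasiIso s] [J.IsKInjective] :
    PF g I P ↔ QuasiIso (pjCx g I P ≫ (pushCx g).map s) :=
  isIso_comp_unitAt_iff g (pjCx g I P) s

/-- K-injective resolutions exist -/
theorem exists_kinj_resolution (K : CochainComplex X.Modules ℤ) :
    ∃ (J : CochainComplex X.Modules ℤ) (s : K ⟶ J), J.IsKInjective ∧ QuasiIso s := by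
  haveI := Groth.Agent.Lib.MVPushL.grothendieck_modules X
  obtain ⟨J, s, hJ, hs, -, -⟩ := Groth.Agent.Lib.KInjGen5.exists_resolution K
  exact ⟨J, s, hJ, hs⟩

/-- **invariance of `PF` under quasi-isomorphisms of K-flat complexes** -/
theorem PF_congr (I : CochainComplex X.Modules ℤ) {R R' : CochainComplex Y.Modules ℤ}
    (hR : DCoh.IsKFlat R) (hR' : DCoh.IsKFlat R') (t : R ⟶ R') [QuasiIso t] :
    PF g I R ↔ PF g I R' := by
  obtain ⟨J, s', hJ, hs'⟩ := exists_kinj_resolution
    ((DCoh.tensorCx.obj I).obj ((pullCx g).obj R'))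
  haveI := hJ
  haveI := hs'
  have hpt : QuasiIso ((pullCx g).map t) :=
    Groth.Agent.Lib.StalkTensH3.quasiIso_pullback_of_isKFlat g hR hR' t inferInstance
  haveI := hpt
  haveI h1 : QuasiIso ((DCoh.tensorCx.obj I).map ((pullCx g).map t)) :=
    @Groth.Agent.Lib.KFlatSite.quasiIso_tensor_left_of_kflat _ _ _ X.sheaf _ _
      (Groth.Agent.Lib.StalkTensH3.isKFlat_pullback g R hR) (Groth.Agent.Lib.StalkTensH3.isKFlat_pullback g R' hR') ((pullCx g).map t) hpt I
  haveI h2 : QuasiIso ((DCoh.tensorCx.obj ((pushCx g).obj I)).map t) :=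
    @Groth.Agent.Lib.KFlatSite.quasiIso_tensor_left_of_kflat _ _ _ Y.sheaf _ _
      hR hR' t inferInstance ((pushCx g).obj I)
  haveI : QuasiIso ((DCoh.tensorCx.obj I).map ((pullCx g).map t) ≫ s') := inferInstance
  rw [PF_iff g I R ((DCoh.tensorCx.obj I).map ((pullCx g).map t) ≫ s'), PF_iff g I R' s']
  have h3 : pjCx g I R ≫ (pushCx g).map ((DCoh.tensorCx.obj I).map ((pullCx g).map t) ≫ s') =
      (DCoh.tensorCx.obj ((pushCx g).obj I)).map t ≫ (pjCx g I R' ≫ (pushCx g).map s') := by
    rw [Functor.map_comp, ← Category.assoc, ← pjCx_natural_right, Category.assoc]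
  rw [h3]
  exact quasiIso_iff_comp_left _ _

end

end Groth.Agent.Lib.PjCxH3
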