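import Mathlib
import Groth.Prelude
import Groth.Agent.Lib.PjCx2_helper3

/-!
# Restriction to an open subscheme and the tensor product (helper3)

For an open immersion `k : W ⟶ Z` and `Z`-modules `A`, `B`:

* `rtInv k A B : A|_W ⊗ B|_W ⟶ (A ⊗ B)|_W`, given on pure tensors by `a ⊗ b ↦ a ⊗ b` (`rtInv_tm`);
* `rho_app`: `restrictFunctorIsoPullback` on sections is `cUV`;
* `isIso_rtInv`.
-/

set_option autoImplicit false
set_option linter.all false
set_option maxHeartbeats 1600000
set_option backward.isDefEq.respectTransparency false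
set_option backward.isDefEq.respectTransparency.types false
set_option backward.defeqAttrib.useBackward true

universe u
open CategoryTheory CategoryTheory.Limits AlgebraicGeometry Opposite TopologicalSpace TensorProduct

namespace Groth.Agent.Lib.PjCxH3

open Groth.Agent.Lib.StalkSkyL QcqsLoc MonoidalCategory Groth.Agent.Lib.StalkTensH3 PBH8 QCohExtn
open PFormH9 TensH8 FLFH8 Groth.Agent.Lib.PullTensIsoH3 Groth.Agent.Lib.ProjFormulaH3 PullTensH9

noncomputable section

variable {Z W : Scheme.{u}} (k : W ⟶ Z) [IsOpenImmersion k]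

/-- the bilinear data of `A|_W ⊗ B|_W ⟶ (A ⊗ B)|_W` -/
def rtBilin (A B : Z.Modules) :
    BilinData ((Scheme.Modules.restrictFunctor k).obj A) ((Scheme.Modules.restrictFunctor k).obj B)
      ((Scheme.Modules.restrictFunctor k).obj (CohB1.tensorMod A B)) where
  β O a b := tm A B (k ''ᵁ O) a b
  add_left O a a' b := tm_add_left A B (k ''ᵁ O) a a' b
  smul_left O r a b := tm_smul_left A B (k ''ᵁ O) ((k.appIso O).inv r) a b
  add_right O a b b' := tm_add_right A B (k ''ᵁ O) a b b'
  smul_right O r a b := tm_smul_right A B (k ''ᵁ O) ((k.appIso O).inv r) a b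
  natural {O O'} h a b := rF_tm A B (Scheme.Hom.image_mono k h) a b

/-- `A|_W ⊗ B|_W ⟶ (A ⊗ B)|_W` -/
def rtInv (A B : Z.Modules) :
    CohB1.tensorMod ((Scheme.Modules.restrictFunctor k).obj A)
        ((Scheme.Modules.restrictFunctor k).obj B) ⟶
      (Scheme.Modules.restrictFunctor k).obj (CohB1.tensorMod A B) :=
  (rtBilin k A B).toHom

lemma rtInv_tm (A B : Z.Modules) (O : W.Opens)
    (a : Γ((Scheme.Modules.restrictFunctor k).obj A, O))
    (b : Γ((Scheme.Modules.restrictFunctor k).obj B, O)) :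
    ap (rtInv k A B) O (tm ((Scheme.Modules.restrictFunctor k).obj A)
      ((Scheme.Modules.restrictFunctor k).obj B) O a b) = tm A B (k ''ᵁ O) a b :=
  (rtBilin k A B).toHom_tmul O a b

/-- `restrictFunctorIsoPullback` on sections -/
lemma rho_app (M : Z.Modules) (O : W.Opens)
    (m : Γ((Scheme.Modules.restrictFunctor k).obj M, O)) :
    ap ((Scheme.Modules.restrictFunctorIsoPullback k).hom.app M) O m =
      cUV k M (k.preimage_image_eq O).ge m := by
  have h0 : (Scheme.Modules.restrictAdjunction k).homEquiv _ _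
      ((Scheme.Modules.restrictFunctorIsoPullback k).hom.app M) =
      (Scheme.Modules.pullbackPushforwardAdjunction k).unit.app M :=
    Adjunction.homEquiv_leftAdjointUniq_hom_app _ _ _
  rw [Adjunction.homEquiv_unit] at h0
  have h1 : ap ((Scheme.Modules.restrictAdjunction k).unit.app M ≫
      (Scheme.Modules.pushforward k).map
        ((Scheme.Modules.restrictFunctorIsoPullback k).hom.app M)) (k ''ᵁ O) m =
      ap ((Scheme.Modules.pullbackPushforwardAdjunction k).unit.app M) (k ''ᵁ O) m :=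
    congrArg (fun φ => ap φ (k ''ᵁ O) m) h0
  have h2 : ap ((Scheme.Modules.restrictAdjunction k).unit.app M ≫
      (Scheme.Modules.pushforward k).map
        ((Scheme.Modules.restrictFunctorIsoPullback k).hom.app M)) (k ''ᵁ O) m =
      ap ((Scheme.Modules.restrictFunctorIsoPullback k).hom.app M) (k ⁻¹ᵁ (k ''ᵁ O))
        (rF M (k.image_preimage_le (k ''ᵁ O)) m) := rfl
  show _ = rF ((Scheme.Modules.pullback k).obj M) (k.preimage_image_eq O).ge
    (ap ((Scheme.Modules.pullbackPushforwardAdjunction k).unit.app M) (k ''ᵁ O) m)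
  rw [← h1, h2, ← ap_rF]
  congr 1
  show m = rF M (Scheme.Hom.image_mono k (k.preimage_image_eq O).ge)
    (rF M (k.image_preimage_le (k ''ᵁ O)) m)
  rw [rF_rF, SubExt.rF_self]

lemma rhoInv_cUV (M : Z.Modules) (O : W.Opens)
    (m : Γ((Scheme.Modules.restrictFunctor k).obj M, O)) :
    ap ((Scheme.Modules.restrictFunctorIsoPullback k).inv.app M) O
      (cUV k M (k.preimage_image_eq O).ge m) = m := by
  rw [← rho_app]
  have h : (Scheme.Modules.restrictFunctorIsoPullback k).hom.app M ≫
      (Scheme.Modules.restrictFunctorIsoPullback k).inv.app M = 𝟙 _ :=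
    (Scheme.Modules.restrictFunctorIsoPullback k).hom_inv_id_app M
  have h1 : ap ((Scheme.Modules.restrictFunctorIsoPullback k).inv.app M) O
      (ap ((Scheme.Modules.restrictFunctorIsoPullback k).hom.app M) O m) =
      ap ((Scheme.Modules.restrictFunctorIsoPullback k).hom.app M ≫
      (Scheme.Modules.restrictFunctorIsoPullback k).inv.app M) O m := rfl
  rw [h1, h]
  rfl

section Generic

variable {T : Scheme.{u}}

/-- `M ⊗ g` -/
def tR (M : T.Modules) {N N' : T.Modules} (g : N ⟶ N') :
    CohB1.tensorMod M N ⟶ CohB1.tensorMod M N' :=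
  ((DCoh.tensorBi (X := T)).obj M).map g

/-- `f ⊗ N` -/
def tL {M M' : T.Modules} (f : M ⟶ M') (N : T.Modules) :
    CohB1.tensorMod M N ⟶ CohB1.tensorMod M' N :=
  ((DCoh.tensorBi (X := T)).map f).app N

lemma tR_tm (M : T.Modules) {N N' : T.Modules} (g : N ⟶ N') (U : T.Opens)
    (m : Γ(M, U)) (n : Γ(N, U)) :
    ap (tR M g) U (tm M N U m n) = tm M N' U m (ap g U n) :=
  tensorBi_obj_map_tm M g U m n

lemma tL_tm {M M' : T.Modules} (f : M ⟶ M') (N : T.Modules) (U : T.Opens)
    (m : Γ(M, U)) (n : Γ(N, U)) :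
    ap (tL f N) U (tm M N U m n) = tm M' N U (ap f U m) n :=
  tensorBi_map_app_tm f N U m n

instance isIso_tR (M : T.Modules) {N N' : T.Modules} (g : N ⟶ N') [IsIso g] : IsIso (tR M g) := by
  unfold tR
  infer_instance

instance isIso_tL {M M' : T.Modules} (f : M ⟶ M') [IsIso f] (N : T.Modules) :
    IsIso (tL f N) := by
  unfold tL
  infer_instance

end Generic

/-- `k^*A ⊗ k^*B ⟶ A|_W ⊗ k^*B` -/
def rtF3 (A B : Z.Modules) :
    CohB1.tensorMod ((Scheme.Modules.pullback k).obj A) ((Scheme.Modules.pullback k).obj B) ⟶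
      CohB1.tensorMod ((Scheme.Modules.restrictFunctor k).obj A)
        ((Scheme.Modules.pullback k).obj B) :=
  tL ((Scheme.Modules.restrictFunctorIsoPullback k).inv.app A) _

/-- `A|_W ⊗ k^*B ⟶ A|_W ⊗ B|_W` -/
def rtF4 (A B : Z.Modules) :
    CohB1.tensorMod ((Scheme.Modules.restrictFunctor k).obj A)
        ((Scheme.Modules.pullback k).obj B) ⟶
      CohB1.tensorMod ((Scheme.Modules.restrictFunctor k).obj A)
        ((Scheme.Modules.restrictFunctor k).obj B) :=
  tR _ ((Scheme.Modules.restrictFunctorIsoPullback k).inv.app B)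

instance isIso_rtF3 (A B : Z.Modules) : IsIso (rtF3 k A B) := by
  unfold rtF3
  infer_instance

instance isIso_rtF4 (A B : Z.Modules) : IsIso (rtF4 k A B) := by
  unfold rtF4
  infer_instance

/-- the forward map `(A ⊗ B)|_W ⟶ A|_W ⊗ B|_W`, an isomorphism by construction -/
def rtFwd (A B : Z.Modules) :
    (Scheme.Modules.restrictFunctor k).obj (CohB1.tensorMod A B) ⟶
      CohB1.tensorMod ((Scheme.Modules.restrictFunctor k).obj A)
        ((Scheme.Modules.restrictFunctor k).obj B) :=
  (Scheme.Modules.restrictFunctorIsoPullback k).hom.app (CohB1.tensorMod A B) ≫ ptHom k A B ≫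
    rtF3 k A B ≫ rtF4 k A B

instance isIso_rtFwd (A B : Z.Modules) : IsIso (rtFwd k A B) := by
  haveI := isIso_ptHom k A B
  unfold rtFwd
  infer_instance

lemma cUV_eq_rF (F : Z.Modules) {O : W.Opens} {V : Z.Opens} (h : O ≤ k ⁻¹ᵁ V) (x : Γ(F, V)) :
    cUV k F h x = rF ((Scheme.Modules.pullback k).obj F) h (cUV k F le_rfl x) :=
  (cUV_res k F le_rfl h x).symm

lemma rtFwd_tm (A B : Z.Modules) (O : W.Opens)
    (a : Γ((Scheme.Modules.restrictFunctor k).obj A, O))
    (b : Γ((Scheme.Modules.restrictFunctor k).obj B, O)) :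
    ap (rtFwd k A B) O (tm A B (k ''ᵁ O) a b) =
      tm ((Scheme.Modules.restrictFunctor k).obj A) ((Scheme.Modules.restrictFunctor k).obj B)
        O a b := by
  have hO : O ≤ k ⁻¹ᵁ (k ''ᵁ O) := (k.preimage_image_eq O).ge
  show ap (rtF4 k A B) O (ap (rtF3 k A B) O (ap (ptHom k A B) O
    (ap ((Scheme.Modules.restrictFunctorIsoPullback k).hom.app (CohB1.tensorMod A B)) O
      (tm A B (k ''ᵁ O) a b)))) = _
  rw [rho_app, cUV_eq_rF, ap_rF, ptHom_cUV', rF_tm, ← cUV_eq_rF, ← cUV_eq_rF]
  have h1 : ap (rtF3 k A B) O (tm ((Scheme.Modules.pullback k).obj A)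
      ((Scheme.Modules.pullback k).obj B) O (cUV k A hO a) (cUV k B hO b)) = _ :=
    tL_tm ((Scheme.Modules.restrictFunctorIsoPullback k).inv.app A)
      ((Scheme.Modules.pullback k).obj B) O (cUV k A hO a) (cUV k B hO b)
  rw [h1]
  have h2 : ap (rtF4 k A B) O (tm ((Scheme.Modules.restrictFunctor k).obj A)
      ((Scheme.Modules.pullback k).obj B) O
      (ap ((Scheme.Modules.restrictFunctorIsoPullback k).inv.app A) O (cUV k A hO a))
      (cUV k B hO b)) = _ :=
    tR_tm ((Scheme.Modules.restrictFunctor k).obj A)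
      ((Scheme.Modules.restrictFunctorIsoPullback k).inv.app B) O
      (ap ((Scheme.Modules.restrictFunctorIsoPullback k).inv.app A) O (cUV k A hO a))
      (cUV k B hO b)
  rw [h2, rhoInv_cUV]
  congr 1
  exact rhoInv_cUV k B O b

lemma rtInv_rtFwd (A B : Z.Modules) : rtInv k A B ≫ rtFwd k A B = 𝟙 _ := by
  apply PFormH9.hom_ext_tmul
  intro O a b
  show ap (rtFwd k A B) O (ap (rtInv k A B) O (tm _ _ O a b)) = tm _ _ O a b
  rw [rtInv_tm, rtFwd_tm]

instance isIso_rtInv (A B : Z.Modules) : IsIso (rtInv k A B) := by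
  have h : rtInv k A B = inv (rtFwd k A B) := by
    rw [← cancel_mono (rtFwd k A B), IsIso.inv_hom_id]
    exact rtInv_rtFwd k A B
  rw [h]
  infer_instance

/-- naturality of `rtInv` in the second variable -/
lemma rtInv_natural_right (A : Z.Modules) {B B' : Z.Modules} (g : B ⟶ B') :
    tR ((Scheme.Modules.restrictFunctor k).obj A) ((Scheme.Modules.restrictFunctor k).map g) ≫
        rtInv k A B' =
      rtInv k A B ≫ (Scheme.Modules.restrictFunctor k).map (tR A g) := by
  apply PFormH9.hom_ext_tmul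
  intro O a b
  show ap (rtInv k A B') O (ap (tR ((Scheme.Modules.restrictFunctor k).obj A)
      ((Scheme.Modules.restrictFunctor k).map g)) O (tm _ _ O a b)) =
    ap (tR A g) (k ''ᵁ O) (ap (rtInv k A B) O (tm _ _ O a b))
  rw [tR_tm, rtInv_tm, rtInv_tm, tR_tm]
  rfl

/-- naturality of `rtInv` in the first variable -/
lemma rtInv_natural_left {A A' : Z.Modules} (g : A ⟶ A') (B : Z.Modules) :
    tL ((Scheme.Modules.restrictFunctor k).map g) ((Scheme.Modules.restrictFunctor k).obj B) ≫
        rtInv k A' B =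
      rtInv k A B ≫ (Scheme.Modules.restrictFunctor k).map (tL g B) := by
  apply PFormH9.hom_ext_tmul
  intro O a b
  show ap (rtInv k A' B) O (ap (tL ((Scheme.Modules.restrictFunctor k).map g)
      ((Scheme.Modules.restrictFunctor k).obj B)) O (tm _ _ O a b)) =
    ap (tL g B) (k ''ᵁ O) (ap (rtInv k A B) O (tm _ _ O a b))
  rw [tL_tm, rtInv_tm, rtInv_tm, tL_tm]
  rfl

end

end Groth.Agent.Lib.PjCxH3
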