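import Mathlib
import Groth.Prelude
import Groth.Agent.Lib.LerayBB_helper7
import Groth.Agent.Lib.RpushCons_lead
import Groth.Agent.Lib.RpushRestrict_helper9
import Groth.Agent.Lib.RpushPCUnb_helper3
import Groth.Agent.Lib.RpushCohD_helper3
import Groth.Agent.Lib.ProjFormula3_helper3
import Groth.Agent.Lib.KInjGen5_helper7
import Groth.Agent.Lib.CohOpen2_helper8
import Groth.Agent.Lib.DSect5_lead
import Groth.Agent.Lib.BCOpen2_lead

/-!
# `f_* F ⟶ Rf_* F` is an isomorphism for complexes of `f_*`-acyclic quasi-coherent modules (helper3)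

For `f : X ⟶ S` quasi-compact and quasi-separated and `F` an (unbounded) complex of quasi-coherent
modules which are right acyclic for `f_*`, the unit `Q(f_* F) ⟶ Rf_* (Q F)` is an isomorphism.
-/

set_option autoImplicit false
set_option linter.all false
set_option maxHeartbeats 1600000
set_option backward.isDefEq.respectTransparency false
set_option backward.isDefEq.respectTransparency.types false
set_option backward.defeqAttrib.useBackward true

universe u
open CategoryTheory CategoryTheory.Limits AlgebraicGeometry Opposite TopologicalSpace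
open CategoryTheory.Pretriangulated
attribute [local instance] HasDerivedCategory.standard

namespace Groth.Agent.Lib.PushCxAcycH3

open Groth.Agent.Lib.DCohLocLead DerivedCategory Groth.Agent.Lib.MVPushL
open Groth.Agent.Lib.StalkSkyL

noncomputable section

variable {X S : Scheme.{u}} (f : X ⟶ S)

/-- the push-forward functor on modules -/
abbrev Fp : X.Modules ⥤ S.Modules := Scheme.Modules.pushforward f

/-- push-forward of complexes -/
abbrev PCx : CochainComplex X.Modules ℤ ⥤ CochainComplex S.Modules ℤ :=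
  (Scheme.Modules.pushforward f).mapHomologicalComplex (ComplexShape.up ℤ)

theorem acyc_of_iso {M N : X.Modules} [HasInjectiveResolutions X.Modules] (e : M ≅ N)
    (h : FAcyc.acyc (Fp f) M) : FAcyc.acyc (Fp f) N :=
  fun i hi => (h i hi).of_iso (((Fp f).rightDerived i).mapIso e.symm)

/-- the compact case -/
theorem isIso_unit_of_compact [QuasiCompact f] [QuasiSeparated f] [CompactSpace S]
    [HasInjectiveResolutions X.Modules] [DCoh.HasRpush f]
    (F : CochainComplex X.Modules ℤ) (hq : ∀ n : ℤ, Coh.IsQCoh (F.X n))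
    (hac : ∀ n : ℤ, FAcyc.acyc (Fp f) (F.X n)) :
    IsIso ((LerayBB.α (Fp f)).app
      ((HomotopyCategory.quotient X.Modules (ComplexShape.up ℤ)).obj F)) := by
  haveI := grothendieck_modules X
  obtain ⟨N, hN⟩ := Groth.Agent.Lib.RpushQCL.main0999 f
  rw [DerivedCategory.isIso_iff]
  intro i
  obtain ⟨k, hk⟩ : ∃ k : ℤ, k = i - 1 - max N 0 := ⟨_, rfl⟩
  have hk1 : k < i := by
    have := le_max_right N 0
    omega
  have hk2 : N + (k - 1) ≤ i - 1 := by
    have := le_max_left N 0
    omega
  -- the brutal truncation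
  have hιiso : ∀ j : ℤ, k ≤ j → IsIso ((truncι F k).f j) := fun j hj => isIso_truncι_f F hj
  have hAq : ∀ n : ℤ, Coh.IsQCoh ((trunc F k).X n) := by
    intro n
    by_cases hn : k ≤ n
    · haveI := hιiso n hn
      exact (SheafOfModules.isQuasicoherent X.ringCatSheaf).prop_of_iso
        (asIso ((truncι F k).f n)).symm (hq n)
    · exact Groth.Agent.Lib.FinPushPCH3.isQuasicoherent_of_isZero
        (isZero_trunc_X F (by omega))
  have hAac : ∀ n : ℤ, FAcyc.acyc (Fp f) ((trunc F k).X n) := by
    intro n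
    by_cases hn : k ≤ n
    · haveI := hιiso n hn
      exact acyc_of_iso f (asIso ((truncι F k).f n)).symm (hac n)
    · exact UnbRDer.acyc_of_isZero (Fp f) (isZero_trunc_X F (by omega))
  haveI hA : IsIso ((LerayBB.α (Fp f)).app
      ((HomotopyCategory.quotient X.Modules (ComplexShape.up ℤ)).obj (trunc F k))) :=
    LerayBB.isIso_unit_of_bddBelow (Fp f) (trunc F k) k (fun m hm => isZero_trunc_X F hm) hAac
  have nat := (LerayBB.α (Fp f)).naturality
    ((HomotopyCategory.quotient X.Modules (ComplexShape.up ℤ)).map (truncι F k))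
  -- the top map is an isomorphism on `Hⁱ`
  haveI h1 : IsIso ((homologyFunctor S.Modules i).map
      (((Fp f).mapHomotopyCategory (ComplexShape.up ℤ) ⋙ DerivedCategory.Qh).map
        ((HomotopyCategory.quotient X.Modules (ComplexShape.up ℤ)).map (truncι F k)))) := by
    have := (isApprox_Q_map_of_isIso_f ((PCx f).map (truncι F k)) k (fun j hj => by
      haveI := hιiso j hj
      show IsIso ((Fp f).map ((truncι F k).f j))
      infer_instance)).1 i hk1
    exact this
  -- the bottom map is an isomorphism on `Hⁱ`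
  haveI h2 : IsIso ((homologyFunctor S.Modules i).map
      ((DerivedCategory.Qh ⋙ RDerGE.RF (Fp f)).map
        ((HomotopyCategory.quotient X.Modules (ComplexShape.up ℤ)).map (truncι F k)))) := by
    have hT := DerivedCategory.mappingCone_triangle_distinguished (truncι F k)
    have hLt : Lt k (Q.obj (CochainComplex.mappingCone (truncι F k))) :=
      Lt_of_isApprox k _ hT (isApprox_Q_map_of_isIso_f (truncι F k) k hιiso)
    have hCq : DCoh.IsQCohD (Q.obj (CochainComplex.mappingCone (truncι F k))) := by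
      refine Groth.Agent.Lib.DSectX.qcohD_Q _ (fun n => ?_)
      haveI : ((trunc F k).X (n + 1)).IsQuasicoherent := hAq (n + 1)
      haveI : (F.X n).IsQuasicoherent := hq n
      haveI := CohOpenH8.isQuasicoherent_biprod ((trunc F k).X (n + 1)) (F.X n)
      exact (SheafOfModules.isQuasicoherent X.ringCatSheaf).prop_of_iso
        (HomologicalComplex.homotopyCofiber.XIsoBiprod (truncι F k) n (n + 1) rfl).symm
        (inferInstanceAs (((trunc F k).X (n + 1) ⊞ F.X n).IsQuasicoherent))
    haveI : (Q.obj (CochainComplex.mappingCone (truncι F k))).IsLE (k - 1) :=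
      (DerivedCategory.isLE_iff _ _).2 (fun j hj => hLt j (by omega))
    obtain ⟨T', hT', e₁, e₂, e₃, c₁, -⟩ :=
      Groth.Agent.Lib.RDerTriH3.exists_distTriang (Fp f) _ hT
    have z0 : IsZero ((homologyFunctor S.Modules (i - 1)).obj T'.obj₃) :=
      (Groth.Agent.Lib.RpushPCUnbH3.isZero_HD_Rpush_of_isLE f N hN _ hCq (k - 1) (i - 1)
        (by omega)).of_iso ((homologyFunctor S.Modules (i - 1)).mapIso e₃)
    have z1 : IsZero ((homologyFunctor S.Modules i).obj T'.obj₃) :=
      (Groth.Agent.Lib.RpushPCUnbH3.isZero_HD_Rpush_of_isLE f N hN _ hCq (k - 1) i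
        (by omega)).of_iso ((homologyFunctor S.Modules i).mapIso e₃)
    haveI := Groth.Agent.Lib.RpushPCUnbH3.isIso_homology_mor₁ T' hT' i z0 z1
    have e : (RDerGE.RF (Fp f)).map (Q.map (truncι F k)) = e₁.inv ≫ T'.mor₁ ≫ e₂.hom := by
      rw [c₁, Iso.inv_hom_id_assoc]
      rfl
    show IsIso ((homologyFunctor S.Modules i).map
      ((RDerGE.RF (Fp f)).map (Q.map (truncι F k))))
    rw [e, Functor.map_comp, Functor.map_comp]
    infer_instance
  haveI : IsIso ((homologyFunctor S.Modules i).map
      (((Fp f).mapHomotopyCategory (ComplexShape.up ℤ) ⋙ DerivedCategory.Qh).map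
        ((HomotopyCategory.quotient X.Modules (ComplexShape.up ℤ)).map (truncι F k))) ≫
      (homologyFunctor S.Modules i).map ((LerayBB.α (Fp f)).app
        ((HomotopyCategory.quotient X.Modules (ComplexShape.up ℤ)).obj F))) := by
    rw [← Functor.map_comp, nat, Functor.map_comp]
    infer_instance
  exact IsIso.of_isIso_comp_left ((homologyFunctor S.Modules i).map
      (((Fp f).mapHomotopyCategory (ComplexShape.up ℤ) ⋙ DerivedCategory.Qh).map
        ((HomotopyCategory.quotient X.Modules (ComplexShape.up ℤ)).map (truncι F k)))) _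

/-- base change of the push-forward of complexes along an open immersion of the base -/
def bcCx (V : S.Opens) (K : CochainComplex X.Modules ℤ) :
    (RCx V).obj ((PCx f).obj K) ≅ (PCx (f ∣_ V)).obj ((RCx (f ⁻¹ᵁ V)).obj K) :=
  HomologicalComplex.Hom.isoOfComponents
    (fun n => (Groth.Agent.Lib.BCOpenL.baseChangeIso f V).app (K.X n))
    (fun i j _ => ((Groth.Agent.Lib.BCOpenL.baseChangeIso f V).hom.naturality (K.d i j)).symm)

theorem bcCx_naturality (V : S.Opens) {K L : CochainComplex X.Modules ℤ} (ψ : K ⟶ L) :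
    (RCx V).map ((PCx f).map ψ) ≫ (bcCx f V L).hom =
      (bcCx f V K).hom ≫ (PCx (f ∣_ V)).map ((RCx (f ⁻¹ᵁ V)).map ψ) := by
  refine HomologicalComplex.hom_ext _ _ (fun n => ?_)
  exact (Groth.Agent.Lib.BCOpenL.baseChangeIso f V).hom.naturality (ψ.f n)

/-- the general case -/
theorem isIso_unit [QuasiCompact f] [QuasiSeparated f]
    [HasInjectiveResolutions X.Modules] [DCoh.HasRpush f]
    (F : CochainComplex X.Modules ℤ) (hq : ∀ n : ℤ, Coh.IsQCoh (F.X n))
    (hac : ∀ (n : ℤ) (i : ℕ), 0 < i → IsZero ((Coh.Rpush f i).obj (F.X n))) :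
    IsIso ((LerayBB.α (Fp f)).app
      ((HomotopyCategory.quotient X.Modules (ComplexShape.up ℤ)).obj F)) := by
  haveI := grothendieck_modules X
  obtain ⟨I, ψ, hI, hψ, -, -⟩ := Groth.Agent.Lib.KInjGen5.exists_resolution F
  haveI := hI
  haveI := hψ
  rw [LerayBB.isIso_unit_iff (Fp f) ψ]
  show IsIso (Q.map ((PCx f).map ψ))
  refine Groth.Agent.Lib.RpushConsL.isIso_of_cover _ (fun V : S.affineOpens => V.1)
    (fun x => ?_) (fun V => ?_)
  · have hx : x ∈ (⨆ i : S.affineOpens, (i : S.Opens)) := by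
      rw [iSup_affineOpens_eq_top]; trivial
    obtain ⟨i, hi⟩ := Opens.mem_iSup.mp hx
    exact ⟨i, hi⟩
  · haveI : IsAffine (V.1 : Scheme.{u}) := V.2
    haveI := grothendieck_modules ((f ⁻¹ᵁ V.1 : X.Opens) : Scheme.{u})
    haveI : HasInjectiveResolutions ((f ⁻¹ᵁ V.1 : X.Opens) : Scheme.{u}).Modules :=
      haveI := RpushQC.enoughInjectives_modules ((f ⁻¹ᵁ V.1 : X.Opens) : Scheme.{u})
      inferInstance
    haveI : DCoh.HasRpush (f ∣_ V.1) := Groth.Agent.Lib.BCOpenL.hasRpush _
    haveI := isKInjective_RCx (f ⁻¹ᵁ V.1) I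
    have hc := isIso_unit_of_compact (f ∣_ V.1) ((RCx (f ⁻¹ᵁ V.1)).obj F)
      (fun n => Scheme.Modules.isQuasicoherent_restrictFunctor (f ⁻¹ᵁ V.1).ι (F.X n))
      (fun n i hi => by
        obtain ⟨e⟩ := RpushQC.nonempty_restrict_Rpush_iso f V.1 (F.X n) i
        exact IsZero.of_iso ((Scheme.Modules.restrictFunctor V.1.ι).map_isZero (hac n i hi))
          e.symm)
    have h3 : IsIso (Q.map ((PCx (f ∣_ V.1)).map ((RCx (f ⁻¹ᵁ V.1)).map ψ))) :=
      (LerayBB.isIso_unit_iff (Fp (f ∣_ V.1)) ((RCx (f ⁻¹ᵁ V.1)).map ψ)).1 hc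
    have e : (RCx V.1).map ((PCx f).map ψ) =
        (bcCx f V.1 F).hom ≫ (PCx (f ∣_ V.1)).map ((RCx (f ⁻¹ᵁ V.1)).map ψ) ≫
          (bcCx f V.1 I).inv := by
      rw [← Category.assoc, ← bcCx_naturality, Category.assoc, Iso.hom_inv_id, Category.comp_id]
    have h4 : IsIso (Q.map ((RCx V.1).map ((PCx f).map ψ))) := by
      rw [e, Functor.map_comp, Functor.map_comp]
      infer_instance
    exact (NatIso.isIso_map_iff
      (Scheme.Modules.restrictFunctor V.1.ι).mapDerivedCategoryFactors ((PCx f).map ψ)).2 h4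

/-- **S1035** -/
theorem main1035 [QuasiCompact f] [QuasiSeparated f]
    [HasInjectiveResolutions X.Modules] [DCoh.HasRpush f]
    (F : CochainComplex X.Modules ℤ) (hq : ∀ n : ℤ, Coh.IsQCoh (F.X n))
    (hac : ∀ (n : ℤ) (i : ℕ), 0 < i → IsZero ((Coh.Rpush f i).obj (F.X n))) :
    IsIso (((DCoh.pushKh f).totalRightDerivedUnit DerivedCategory.Qh
      (HomotopyCategory.quasiIso X.Modules (ComplexShape.up ℤ))).app
      ((HomotopyCategory.quotient X.Modules (ComplexShape.up ℤ)).obj F)) :=
  isIso_unit f F hq hac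

end

end Groth.Agent.Lib.PushCxAcycH3
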