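import Mathlib
import Groth.Prelude
import Groth.Agent.Lib.PjCx3_helper3
import Groth.Agent.Lib.PushCxAcyc_helper3

/-!
# The projection morphism commutes with restriction to an open of the base (helper3)

`f : X ⟶ Y`, `V ⊆ Y` open, `U = f⁻¹ V`, `f' = f ∣_ V`.

* `betaV f V : f^* ⋙ (-)|_U ≅ (-)|_V ⋙ f'^*` and `betaV_cUV` (its effect on pulled-back sections);
* `pj_restrict`: the square comparing `(pj f M N)|_V` with `pj f' (M|_U) (N|_V)`.
-/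

set_option autoImplicit false
set_option linter.all false
set_option maxHeartbeats 1600000
set_option backward.isDefEq.respectTransparency false
set_option backward.isDefEq.respectTransparency.types false
set_option backward.defeqAttrib.useBackward true

universe u
open CategoryTheory CategoryTheory.Limits AlgebraicGeometry Opposite TopologicalSpace TensorProduct

namespace Groth.Agent.Lib.PjCxH3

open Groth.Agent.Lib.StalkSkyL QcqsLoc MonoidalCategory Groth.Agent.Lib.StalkTensH3 PBH8 QCohExtn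
open PFormH9 TensH8 FLFH8 Groth.Agent.Lib.PullTensIsoH3 Groth.Agent.Lib.ProjFormulaH3 PullTensH9

noncomputable section

variable {X Y : Scheme.{u}} (f : X ⟶ Y) (V : Y.Opens)

lemma comm_restrict : (f ⁻¹ᵁ V).ι ≫ f = (f ∣_ V) ≫ V.ι := (morphismRestrict_ι f V).symm

/-- `(f^* N)|_U ≅ f'^* (N|_V)` -/
def betaV : Scheme.Modules.pullback f ⋙ Scheme.Modules.restrictFunctor (f ⁻¹ᵁ V).ι ≅
    Scheme.Modules.restrictFunctor V.ι ⋙ Scheme.Modules.pullback (f ∣_ V) :=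
  PBH8.beta f (f ⁻¹ᵁ V).ι V.ι (f ∣_ V) (comm_restrict f V)

lemma image_preimage_le' (O : V.toScheme.Opens) :
    (f ⁻¹ᵁ V).ι ''ᵁ ((f ∣_ V) ⁻¹ᵁ O) ≤ f ⁻¹ᵁ (V.ι ''ᵁ O) :=
  (image_morphismRestrict_preimage f V O).le

/-- the effect of `betaV` on pulled-back sections -/
lemma betaV_cUV (N : Y.Modules) (O : V.toScheme.Opens)
    (n : Γ((Scheme.Modules.restrictFunctor V.ι).obj N, O)) :
    ap ((betaV f V).hom.app N) ((f ∣_ V) ⁻¹ᵁ O) (cUV f N (image_preimage_le' f V O) n) =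
      cUV (f ∣_ V) ((Scheme.Modules.restrictFunctor V.ι).obj N) le_rfl n := by
  have key := congrArg (fun ψ => ψ n)
    (congrArg (fun φ => (ConcreteCategory.hom φ : _ → _))
      (unit_beta_app f (f ⁻¹ᵁ V).ι V.ι (f ∣_ V) (comm_restrict f V) N (V.ι ''ᵁ O)))
  simp only [ConcreteCategory.comp_apply] at key
  -- the opens involved
  have hVO : V.ι ⁻¹ᵁ (V.ι ''ᵁ O) ≤ O := (V.ι.preimage_image_eq O).le
  have h₂ : (f ⁻¹ᵁ V).ι ⁻¹ᵁ (f ⁻¹ᵁ (V.ι ''ᵁ O)) ≤ (f ∣_ V) ⁻¹ᵁ (V.ι ⁻¹ᵁ (V.ι ''ᵁ O)) :=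
    (preimage_comm f (f ⁻¹ᵁ V).ι V.ι (f ∣_ V) (comm_restrict f V) (V.ι ''ᵁ O)).le
  have h₄ : (f ⁻¹ᵁ V).ι ''ᵁ ((f ⁻¹ᵁ V).ι ⁻¹ᵁ (f ⁻¹ᵁ (V.ι ''ᵁ O))) ≤ f ⁻¹ᵁ (V.ι ''ᵁ O) :=
    (f ⁻¹ᵁ V).ι.image_preimage_le _
  have e₂ : (f ∣_ V) ⁻¹ᵁ O ≤ (f ⁻¹ᵁ V).ι ⁻¹ᵁ (f ⁻¹ᵁ (V.ι ''ᵁ O)) := by
    rw [preimage_comm f (f ⁻¹ᵁ V).ι V.ι (f ∣_ V) (comm_restrict f V) (V.ι ''ᵁ O),
      V.ι.preimage_image_eq O]
  -- restate `key`
  have key' : cUV (f ∣_ V) ((Scheme.Modules.restrictFunctor V.ι).obj N) h₂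
      (rF ((Scheme.Modules.restrictFunctor V.ι).obj N) hVO n) =
      ap ((betaV f V).hom.app N) ((f ⁻¹ᵁ V).ι ⁻¹ᵁ (f ⁻¹ᵁ (V.ι ''ᵁ O))) (cUV f N h₄ n) := by
    have hh : (eqToHom (preimage_comm f (f ⁻¹ᵁ V).ι V.ι (f ∣_ V) (comm_restrict f V)
        (V.ι ''ᵁ O))) = homOfLE h₂ := Subsingleton.elim _ _
    rw [hh] at key
    exact key
  -- the left hand side
  have hL : cUV f N (image_preimage_le' f V O) n =
      rF ((Scheme.Modules.restrictFunctor (f ⁻¹ᵁ V).ι).obj ((Scheme.Modules.pullback f).obj N)) e₂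
        (cUV f N h₄ n) :=
    (rF_cUV f N h₄ (Scheme.Hom.image_mono (f ⁻¹ᵁ V).ι e₂) n).symm
  have h5 : ap ((betaV f V).hom.app N) ((f ∣_ V) ⁻¹ᵁ O)
      (rF ((Scheme.Modules.restrictFunctor (f ⁻¹ᵁ V).ι).obj ((Scheme.Modules.pullback f).obj N)) e₂
        (cUV f N h₄ n)) =
      rF ((Scheme.Modules.pullback (f ∣_ V)).obj ((Scheme.Modules.restrictFunctor V.ι).obj N)) e₂
        (ap ((betaV f V).hom.app N) ((f ⁻¹ᵁ V).ι ⁻¹ᵁ (f ⁻¹ᵁ (V.ι ''ᵁ O))) (cUV f N h₄ n)) :=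
    ap_rF ((betaV f V).hom.app N) e₂ (cUV f N h₄ n)
  rw [hL]
  refine h5.trans ?_
  rw [← key', rF_cUV, cUV_resV]

lemma betaVInv_cUV (N : Y.Modules) (O : V.toScheme.Opens)
    (n : Γ((Scheme.Modules.restrictFunctor V.ι).obj N, O)) :
    ap ((betaV f V).inv.app N) ((f ∣_ V) ⁻¹ᵁ O)
      (cUV (f ∣_ V) ((Scheme.Modules.restrictFunctor V.ι).obj N) le_rfl n) =
      cUV f N (image_preimage_le' f V O) n := by
  rw [← betaV_cUV]
  have h : (betaV f V).hom.app N ≫ (betaV f V).inv.app N = 𝟙 _ := (betaV f V).hom_inv_id_app N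
  have h1 : ap ((betaV f V).inv.app N) ((f ∣_ V) ⁻¹ᵁ O)
      (ap ((betaV f V).hom.app N) ((f ∣_ V) ⁻¹ᵁ O) (cUV f N (image_preimage_le' f V O) n)) =
      ap ((betaV f V).hom.app N ≫ (betaV f V).inv.app N) ((f ∣_ V) ⁻¹ᵁ O)
        (cUV f N (image_preimage_le' f V O) n) := rfl
  rw [h1, h]
  rfl

/-- the base change isomorphism `(f_* M)|_V ≅ f'_* (M|_U)` -/
abbrev bcV := Groth.Agent.Lib.BCOpenL.baseChangeIso f V

lemma bcV_app (M : X.Modules) (O : V.toScheme.Opens)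
    (a : Γ((Scheme.Modules.restrictFunctor V.ι).obj ((Scheme.Modules.pushforward f).obj M), O)) :
    ap ((bcV f V).hom.app M) O a = rF M (image_preimage_le' f V O) a := by
  have hh : (eqToHom (image_morphismRestrict_preimage f V O)) =
      homOfLE (image_preimage_le' f V O) := Subsingleton.elim _ _
  show (M.presheaf.map (eqToHom (image_morphismRestrict_preimage f V O)).op).hom a = _
  rw [hh]

/-- **the projection morphism commutes with restriction to an open subscheme of the base** -/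
theorem pj_restrict (M : X.Modules) (N : Y.Modules) :
    rtInv V.ι ((Scheme.Modules.pushforward f).obj M) N ≫
        (Scheme.Modules.restrictFunctor V.ι).map (pj f M N) ≫
        (bcV f V).hom.app (CohB1.tensorMod M ((Scheme.Modules.pullback f).obj N)) =
      tL ((bcV f V).hom.app M) ((Scheme.Modules.restrictFunctor V.ι).obj N) ≫
        pj (f ∣_ V) ((Scheme.Modules.restrictFunctor (f ⁻¹ᵁ V).ι).obj M)
          ((Scheme.Modules.restrictFunctor V.ι).obj N) ≫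
        (Scheme.Modules.pushforward (f ∣_ V)).map
          (tR ((Scheme.Modules.restrictFunctor (f ⁻¹ᵁ V).ι).obj M) ((betaV f V).inv.app N) ≫
            rtInv (f ⁻¹ᵁ V).ι M ((Scheme.Modules.pullback f).obj N)) := by
  apply PFormH9.hom_ext_tmul
  intro O a n
  show ap ((bcV f V).hom.app (CohB1.tensorMod M ((Scheme.Modules.pullback f).obj N))) O
      (ap (pj f M N) (V.ι ''ᵁ O)
        (ap (rtInv V.ι ((Scheme.Modules.pushforward f).obj M) N) O (tm _ _ O a n))) =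
    ap (rtInv (f ⁻¹ᵁ V).ι M ((Scheme.Modules.pullback f).obj N)) ((f ∣_ V) ⁻¹ᵁ O)
      (ap (tR ((Scheme.Modules.restrictFunctor (f ⁻¹ᵁ V).ι).obj M) ((betaV f V).inv.app N))
        ((f ∣_ V) ⁻¹ᵁ O)
      (ap (pj (f ∣_ V) ((Scheme.Modules.restrictFunctor (f ⁻¹ᵁ V).ι).obj M)
          ((Scheme.Modules.restrictFunctor V.ι).obj N)) O
        (ap (tL ((bcV f V).hom.app M) ((Scheme.Modules.restrictFunctor V.ι).obj N)) O
          (tm _ _ O a n))))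
  rw [rtInv_tm, pj_tm, bcV_app, rF_tm, rF_cUV]
  have r1 : ap (tL ((bcV f V).hom.app M) ((Scheme.Modules.restrictFunctor V.ι).obj N)) O
      (tm _ _ O a n) =
      tm ((Scheme.Modules.pushforward (f ∣_ V)).obj
        ((Scheme.Modules.restrictFunctor (f ⁻¹ᵁ V).ι).obj M))
        ((Scheme.Modules.restrictFunctor V.ι).obj N) O (ap ((bcV f V).hom.app M) O a) n :=
    tL_tm ((bcV f V).hom.app M) ((Scheme.Modules.restrictFunctor V.ι).obj N) O a n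
  have r2 := pj_tm (f ∣_ V) ((Scheme.Modules.restrictFunctor (f ⁻¹ᵁ V).ι).obj M)
    ((Scheme.Modules.restrictFunctor V.ι).obj N) O (ap ((bcV f V).hom.app M) O a) n
  have r3 := tR_tm ((Scheme.Modules.restrictFunctor (f ⁻¹ᵁ V).ι).obj M) ((betaV f V).inv.app N)
    ((f ∣_ V) ⁻¹ᵁ O) (ap ((bcV f V).hom.app M) O a)
    (cUV (f ∣_ V) ((Scheme.Modules.restrictFunctor V.ι).obj N) le_rfl n)
  have r4 := rtInv_tm (f ⁻¹ᵁ V).ι M ((Scheme.Modules.pullback f).obj N) ((f ∣_ V) ⁻¹ᵁ O)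
    (ap ((bcV f V).hom.app M) O a)
    (ap ((betaV f V).inv.app N) ((f ∣_ V) ⁻¹ᵁ O)
      (cUV (f ∣_ V) ((Scheme.Modules.restrictFunctor V.ι).obj N) le_rfl n))
  rw [r1]
  refine Eq.trans ?_ (congrArg (fun t => ap (rtInv (f ⁻¹ᵁ V).ι M ((Scheme.Modules.pullback f).obj N))
    ((f ∣_ V) ⁻¹ᵁ O) (ap (tR ((Scheme.Modules.restrictFunctor (f ⁻¹ᵁ V).ι).obj M)
      ((betaV f V).inv.app N)) ((f ∣_ V) ⁻¹ᵁ O) t)) r2.symm)
  refine Eq.trans ?_ (congrArg (fun t => ap (rtInv (f ⁻¹ᵁ V).ι M ((Scheme.Modules.pullback f).obj N))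
    ((f ∣_ V) ⁻¹ᵁ O) t) r3.symm)
  refine Eq.trans ?_ r4.symm
  rw [betaVInv_cUV, bcV_app]

end

end Groth.Agent.Lib.PjCxH3
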