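import Mathlib
import Groth.Prelude
import Groth.Agent.Lib.PjCx2_helper3
import Groth.Agent.Lib.PjCx4_helper3
import Groth.Agent.Lib.TotalMap2_helper2

/-!
# The derived projection morphism: being an isomorphism is local on the base (helper3)

* `rtCxInv k K L : Tot (K|_W ⊗ L|_W) ⟶ (Tot (K ⊗ L))|_W`, an isomorphism, for an open immersion `k`;
* `pjCx_restrict`: the chain-level projection morphism commutes with restriction to an open
  subscheme of the base;
* `PF_of_local`: `PF f I P` holds if it holds locally on the base.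
-/

set_option autoImplicit false
set_option linter.all false
set_option maxHeartbeats 1600000
set_option backward.isDefEq.respectTransparency false
set_option backward.isDefEq.respectTransparency.types false
set_option backward.defeqAttrib.useBackward true

universe u
open CategoryTheory CategoryTheory.Limits AlgebraicGeometry Opposite TopologicalSpace

attribute [local instance] HasDerivedCategory.standard

namespace Groth.Agent.Lib.PjCxH3

open Groth.Agent.Lib.ProjFormulaH3 Groth.Agent.Lib.LpullLocH3 Groth.Agent.Lib.TotalMap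
open Groth.Agent.Lib.StalkSkyL DerivedCategory Groth.Agent.Lib.PushCxAcycH3
open Groth.Agent.Lib.MVPushL

noncomputable section

/-! ### component formulas for `tensorCx` -/

section Comp

variable {T : Scheme.{u}}

lemma ι_tensorCx_map_right (A : CochainComplex T.Modules ℤ) {B B' : CochainComplex T.Modules ℤ}
    (g : B ⟶ B') (p q n : ℤ) (h : p + q = n) :
    CochainComplex.ιMapBifunctor A B (DCoh.tensorBi (X := T)) p q n h ≫
        ((DCoh.tensorCx.obj A).map g).f n =
      tR (A.X p) (g.f q) ≫ CochainComplex.ιMapBifunctor A B' (DCoh.tensorBi (X := T)) p q n h := by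
  erw [HomologicalComplex.ι_mapBifunctorMap]
  rw [HomologicalComplex.id_f, CategoryTheory.Functor.map_id, NatTrans.id_app, Category.id_comp]
  rfl

lemma ι_tensorCx_map_left {A A' : CochainComplex T.Modules ℤ} (g : A ⟶ A')
    (B : CochainComplex T.Modules ℤ) (p q n : ℤ) (h : p + q = n) :
    CochainComplex.ιMapBifunctor A B (DCoh.tensorBi (X := T)) p q n h ≫
        ((DCoh.tensorCx.map g).app B).f n =
      tL (g.f p) (B.X q) ≫ CochainComplex.ιMapBifunctor A' B (DCoh.tensorBi (X := T)) p q n h := by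
  erw [HomologicalComplex.ι_mapBifunctorMap]
  rw [HomologicalComplex.id_f, CategoryTheory.Functor.map_id, Category.id_comp]
  rfl

end Comp

/-! ### restriction of a tensor product of complexes -/

section RtCx

variable {Z W : Scheme.{u}} (k : W ⟶ Z) [IsOpenImmersion k]

/-- the bifunctor `(A, B) ↦ A|_W ⊗ B|_W` -/
abbrev resTens : Z.Modules ⥤ Z.Modules ⥤ W.Modules :=
  Scheme.Modules.restrictFunctor k ⋙ DCoh.tensorBi (X := W) ⋙
    (Functor.whiskeringLeft Z.Modules _ _).obj (Scheme.Modules.restrictFunctor k)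

/-- the bifunctor `(A, B) ↦ (A ⊗ B)|_W` -/
abbrev tensRes : Z.Modules ⥤ Z.Modules ⥤ W.Modules :=
  DCoh.tensorBi (X := Z) ⋙
    (Functor.whiskeringRight Z.Modules _ _).obj (Scheme.Modules.restrictFunctor k)

/-- `rtInv` as a natural transformation of bifunctors -/
def rtInvNat : resTens k ⟶ tensRes k where
  app A := { app := fun B => rtInv k A B
             naturality := fun B B' g => rtInv_natural_right k A g }
  naturality A A' g := by
    refine NatTrans.ext (funext fun B => ?_)
    exact rtInv_natural_left k g B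

instance isIso_rtInvNat : IsIso (rtInvNat k) := by
  haveI : ∀ A, IsIso ((rtInvNat k).app A) := fun A => by
    haveI : ∀ B, IsIso (((rtInvNat k).app A).app B) := fun B => isIso_rtInv k A B
    exact NatIso.isIso_of_isIso_app _
  exact NatIso.isIso_of_isIso_app _

/-- the bicomplex `K^p ⊗ L^q` -/
abbrev biT (K L : CochainComplex Z.Modules ℤ) :
    HomologicalComplex₂ Z.Modules (ComplexShape.up ℤ) (ComplexShape.up ℤ) :=
  (((DCoh.tensorBi (X := Z)).mapBifunctorHomologicalComplex (ComplexShape.up ℤ)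
    (ComplexShape.up ℤ)).obj K).obj L

instance hasTotal_biT (K L : CochainComplex Z.Modules ℤ) :
    (biT K L).HasTotal (ComplexShape.up ℤ) :=
  inferInstanceAs (CochainComplex.HasMapBifunctor K L (DCoh.tensorBi (X := Z)))

instance hasTotal_mapBi_biT (K L : CochainComplex Z.Modules ℤ) :
    (mapBi (biT K L) (Scheme.Modules.restrictFunctor k)).HasTotal (ComplexShape.up ℤ) :=
  inferInstanceAs (CochainComplex.HasMapBifunctor K L (tensRes k))

/-- **`Tot (K|_W ⊗ L|_W) ⟶ (Tot (K ⊗ L))|_W`** -/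
def rtCxInv (K L : CochainComplex Z.Modules ℤ) :
    (DCoh.tensorCx.obj (((Scheme.Modules.restrictFunctor k).mapHomologicalComplex
        (ComplexShape.up ℤ)).obj K)).obj
        (((Scheme.Modules.restrictFunctor k).mapHomologicalComplex (ComplexShape.up ℤ)).obj L) ⟶
      ((Scheme.Modules.restrictFunctor k).mapHomologicalComplex (ComplexShape.up ℤ)).obj
        ((DCoh.tensorCx.obj K).obj L) :=
  Groth.Agent.Lib.BifNat.mapNat (rtInvNat k) K L ≫
    ψHom (biT K L) (ComplexShape.up ℤ) (Scheme.Modules.restrictFunctor k)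

lemma ι_rtCxInv (K L : CochainComplex Z.Modules ℤ) (p q n : ℤ) (h : p + q = n) :
    CochainComplex.ιMapBifunctor
        (((Scheme.Modules.restrictFunctor k).mapHomologicalComplex (ComplexShape.up ℤ)).obj K)
        (((Scheme.Modules.restrictFunctor k).mapHomologicalComplex (ComplexShape.up ℤ)).obj L)
        (DCoh.tensorBi (X := W)) p q n h ≫ (rtCxInv k K L).f n =
      rtInv k (K.X p) (L.X q) ≫ (Scheme.Modules.restrictFunctor k).map
        (CochainComplex.ιMapBifunctor K L (DCoh.tensorBi (X := Z)) p q n h) := by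
  have h1 := Groth.Agent.Lib.BifNat.ι_mapNat_f (rtInvNat k) K L p q n h
  have h2 := ι_ψ (biT K L) (ComplexShape.up ℤ) (Scheme.Modules.restrictFunctor k) p q n h
  show _ ≫ (Groth.Agent.Lib.BifNat.mapNat (rtInvNat k) K L).f n ≫
    (ψHom (biT K L) (ComplexShape.up ℤ) (Scheme.Modules.restrictFunctor k)).f n = _
  rw [← Category.assoc]
  erw [h1]
  rw [Category.assoc]
  erw [h2]
  rfl

instance isIso_rtCxInv (K L : CochainComplex Z.Modules ℤ) : IsIso (rtCxInv k K L) := by
  haveI := (Scheme.Modules.restrictAdjunction k).leftAdjoint_preservesColimits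
  haveI : IsIso (Groth.Agent.Lib.BifNat.mapNat (rtInvNat k) K L) :=
    (Groth.Agent.Lib.BifNat.mapNatIso K L (asIso (rtInvNat k))).isIso_hom
  haveI : IsIso (ψHom (biT K L) (ComplexShape.up ℤ) (Scheme.Modules.restrictFunctor k)) :=
    isIso_ψHom _ _ _
  unfold rtCxInv
  infer_instance

end RtCx

/-! ### the chain-level projection morphism and restriction to an open of the base -/

section Restrict

variable {X Y : Scheme.{u}} (f : X ⟶ Y) (V : Y.Opens)

/-- `f'^* (P|_V) ⟶ (f^* P)|_U` for complexes -/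
def betaCxInv (P : CochainComplex Y.Modules ℤ) :
    (pullCx (f ∣_ V)).obj ((RCx V).obj P) ⟶ (RCx (f ⁻¹ᵁ V)).obj ((pullCx f).obj P) where
  f n := (betaV f V).inv.app (P.X n)
  comm' i j _ := ((betaV f V).inv.naturality (P.d i j)).symm

instance isIso_betaCxInv (P : CochainComplex Y.Modules ℤ) : IsIso (betaCxInv f V P) := by
  haveI : ∀ n, IsIso ((betaCxInv f V P).f n) := fun n => by
    show IsIso ((betaV f V).inv.app (P.X n))
    infer_instance
  exact HomologicalComplex.Hom.isIso_of_components _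

/-- `Tot (I|_U ⊗ f'^* (P|_V)) ⟶ (Tot (I ⊗ f^* P))|_U` -/
def thetaCx (I : CochainComplex X.Modules ℤ) (P : CochainComplex Y.Modules ℤ) :
    (DCoh.tensorCx.obj ((RCx (f ⁻¹ᵁ V)).obj I)).obj
        ((pullCx (f ∣_ V)).obj ((RCx V).obj P)) ⟶
      (RCx (f ⁻¹ᵁ V)).obj ((DCoh.tensorCx.obj I).obj ((pullCx f).obj P)) :=
  (DCoh.tensorCx.obj ((RCx (f ⁻¹ᵁ V)).obj I)).map (betaCxInv f V P) ≫
    rtCxInv (f ⁻¹ᵁ V).ι I ((pullCx f).obj P)

instance isIso_thetaCx (I : CochainComplex X.Modules ℤ) (P : CochainComplex Y.Modules ℤ) :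
    IsIso (thetaCx f V I P) := by
  unfold thetaCx
  infer_instance

lemma ι_thetaCx (I : CochainComplex X.Modules ℤ) (P : CochainComplex Y.Modules ℤ)
    (p q n : ℤ) (h : p + q = n) :
    CochainComplex.ιMapBifunctor ((RCx (f ⁻¹ᵁ V)).obj I)
        ((pullCx (f ∣_ V)).obj ((RCx V).obj P)) (DCoh.tensorBi (X := (f ⁻¹ᵁ V).toScheme))
        p q n h ≫ (thetaCx f V I P).f n =
      (tR ((Scheme.Modules.restrictFunctor (f ⁻¹ᵁ V).ι).obj (I.X p)) ((betaV f V).inv.app (P.X q)) ≫
        rtInv (f ⁻¹ᵁ V).ι (I.X p) ((Scheme.Modules.pullback f).obj (P.X q))) ≫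
        (Scheme.Modules.restrictFunctor (f ⁻¹ᵁ V).ι).map
          (CochainComplex.ιMapBifunctor I ((pullCx f).obj P) (DCoh.tensorBi (X := X)) p q n h) := by
  show _ ≫ ((DCoh.tensorCx.obj ((RCx (f ⁻¹ᵁ V)).obj I)).map (betaCxInv f V P)).f n ≫
    (rtCxInv (f ⁻¹ᵁ V).ι I ((pullCx f).obj P)).f n = _
  rw [← Category.assoc, ι_tensorCx_map_right, Category.assoc]
  have h2 := ι_rtCxInv (f ⁻¹ᵁ V).ι I ((pullCx f).obj P) p q n h
  erw [h2]
  rw [Category.assoc]
  rfl

/-- **the chain-level projection morphism commutes with restriction to an open of the base** -/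
theorem pjCx_restrict (I : CochainComplex X.Modules ℤ) (P : CochainComplex Y.Modules ℤ) :
    rtCxInv V.ι ((pushCx f).obj I) P ≫ (RCx V).map (pjCx f I P) ≫
        (bcCx f V ((DCoh.tensorCx.obj I).obj ((pullCx f).obj P))).hom =
      (DCoh.tensorCx.map (bcCx f V I).hom).app ((RCx V).obj P) ≫
        pjCx (f ∣_ V) ((RCx (f ⁻¹ᵁ V)).obj I) ((RCx V).obj P) ≫
        (pushCx (f ∣_ V)).map (thetaCx f V I P) := by
  refine HomologicalComplex.hom_ext _ _ (fun n => ?_)
  apply HomologicalComplex.mapBifunctor.hom_ext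
  intro p q hpq
  have hpq' : p + q = n := hpq
  -- left hand side
  have eL : CochainComplex.ιMapBifunctor ((RCx V).obj ((pushCx f).obj I)) ((RCx V).obj P)
      (DCoh.tensorBi (X := V.toScheme)) p q n hpq' ≫
      (rtCxInv V.ι ((pushCx f).obj I) P ≫ (RCx V).map (pjCx f I P) ≫
        (bcCx f V ((DCoh.tensorCx.obj I).obj ((pullCx f).obj P))).hom).f n =
      (rtInv V.ι ((Scheme.Modules.pushforward f).obj (I.X p)) (P.X q) ≫
        (Scheme.Modules.restrictFunctor V.ι).map (pj f (I.X p) (P.X q)) ≫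
        (bcV f V).hom.app (CohB1.tensorMod (I.X p) ((Scheme.Modules.pullback f).obj (P.X q)))) ≫
      (Scheme.Modules.pushforward (f ∣_ V)).map
        ((Scheme.Modules.restrictFunctor (f ⁻¹ᵁ V).ι).map
          (CochainComplex.ιMapBifunctor I ((pullCx f).obj P) (DCoh.tensorBi (X := X)) p q n hpq')) := by
    have h1 := ι_rtCxInv V.ι ((pushCx f).obj I) P p q n hpq'
    have h2 := ι_pjCx f I P p q n hpq'
    have h3 := (bcV f V).hom.naturality
      (CochainComplex.ιMapBifunctor I ((pullCx f).obj P) (DCoh.tensorBi (X := X)) p q n hpq')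
    show _ ≫ (rtCxInv V.ι ((pushCx f).obj I) P).f n ≫
      (Scheme.Modules.restrictFunctor V.ι).map ((pjCx f I P).f n) ≫
      (bcV f V).hom.app (((DCoh.tensorCx.obj I).obj ((pullCx f).obj P)).X n) = _
    rw [← Category.assoc]
    erw [h1]
    rw [Category.assoc, ← Category.assoc ((Scheme.Modules.restrictFunctor V.ι).map _),
      ← CategoryTheory.Functor.map_comp]
    erw [h2]
    rw [CategoryTheory.Functor.map_comp, Category.assoc]
    erw [h3]
    simp only [Category.assoc]
    rfl
  -- right hand side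
  have eR : CochainComplex.ιMapBifunctor ((RCx V).obj ((pushCx f).obj I)) ((RCx V).obj P)
      (DCoh.tensorBi (X := V.toScheme)) p q n hpq' ≫
      ((DCoh.tensorCx.map (bcCx f V I).hom).app ((RCx V).obj P) ≫
        pjCx (f ∣_ V) ((RCx (f ⁻¹ᵁ V)).obj I) ((RCx V).obj P) ≫
        (pushCx (f ∣_ V)).map (thetaCx f V I P)).f n =
      (tL ((bcV f V).hom.app (I.X p)) ((Scheme.Modules.restrictFunctor V.ι).obj (P.X q)) ≫
        pj (f ∣_ V) ((Scheme.Modules.restrictFunctor (f ⁻¹ᵁ V).ι).obj (I.X p))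
          ((Scheme.Modules.restrictFunctor V.ι).obj (P.X q)) ≫
        (Scheme.Modules.pushforward (f ∣_ V)).map
          (tR ((Scheme.Modules.restrictFunctor (f ⁻¹ᵁ V).ι).obj (I.X p))
              ((betaV f V).inv.app (P.X q)) ≫
            rtInv (f ⁻¹ᵁ V).ι (I.X p) ((Scheme.Modules.pullback f).obj (P.X q)))) ≫
      (Scheme.Modules.pushforward (f ∣_ V)).map
        ((Scheme.Modules.restrictFunctor (f ⁻¹ᵁ V).ι).map
          (CochainComplex.ιMapBifunctor I ((pullCx f).obj P) (DCoh.tensorBi (X := X)) p q n hpq')) := by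
    have h1 := ι_tensorCx_map_left (bcCx f V I).hom ((RCx V).obj P) p q n hpq'
    have h2 := ι_pjCx (f ∣_ V) ((RCx (f ⁻¹ᵁ V)).obj I) ((RCx V).obj P) p q n hpq'
    have h3 := ι_thetaCx f V I P p q n hpq'
    show _ ≫ ((DCoh.tensorCx.map (bcCx f V I).hom).app ((RCx V).obj P)).f n ≫
      (pjCx (f ∣_ V) ((RCx (f ⁻¹ᵁ V)).obj I) ((RCx V).obj P)).f n ≫
      (Scheme.Modules.pushforward (f ∣_ V)).map ((thetaCx f V I P).f n) = _
    rw [← Category.assoc]
    erw [h1]
    rw [Category.assoc, ← Category.assoc (CochainComplex.ιMapBifunctor _ _ _ p q n hpq')]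
    erw [h2]
    rw [Category.assoc, ← CategoryTheory.Functor.map_comp]
    erw [h3]
    rw [CategoryTheory.Functor.map_comp]
    simp only [Category.assoc]
    rfl
  refine eL.trans (Eq.trans ?_ eR.symm)
  congr 1
  exact pj_restrict f V (I.X p) (P.X q)

end Restrict

/-! ### local to global -/

section Local

variable {X Y : Scheme.{u}} (f : X ⟶ Y) [DCoh.HasRpush f]

/-- **`PF f I P` is local on the base** -/
theorem PF_of_local (I : CochainComplex X.Modules ℤ) (P : CochainComplex Y.Modules ℤ)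
    (H : ∀ y : Y, ∃ V : Y.Opens, y ∈ V ∧ ∀ [DCoh.HasRpush (f ∣_ V)],
      PF (f ∣_ V) ((RCx (f ⁻¹ᵁ V)).obj I) ((RCx V).obj P)) :
    PF f I P := by
  obtain ⟨J, s, hJ, hs⟩ := exists_kinj_resolution ((DCoh.tensorCx.obj I).obj ((pullCx f).obj P))
  haveI := hJ
  haveI := hs
  rw [PF_iff f I P s, ← isIso_Q_map_iff_quasiIso]
  choose V hyV hV using H
  refine Groth.Agent.Lib.RpushConsL.isIso_of_cover _ V (fun y => ⟨y, hyV y⟩) (fun y => ?_)
  refine (NatIso.isIso_map_iff
    (Scheme.Modules.restrictFunctor (V y).ι).mapDerivedCategoryFactors _).2 ?_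
  haveI : DCoh.HasRpush (f ∣_ (V y)) := Groth.Agent.Lib.BCOpenL.hasRpush _
  haveI := isKInjective_RCx (f ⁻¹ᵁ (V y)) J
  haveI : QuasiIso ((RCx (f ⁻¹ᵁ (V y))).map s) := inferInstance
  have hloc := hV y
  haveI : QuasiIso (thetaCx f (V y) I P ≫ (RCx (f ⁻¹ᵁ (V y))).map s) := inferInstance
  rw [PF_iff (f ∣_ (V y)) _ _ (thetaCx f (V y) I P ≫ (RCx (f ⁻¹ᵁ (V y))).map s)] at hloc
  have key : rtCxInv (V y).ι ((pushCx f).obj I) P ≫
      (RCx (V y)).map (pjCx f I P ≫ (pushCx f).map s) ≫ (bcCx f (V y) J).hom =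
      (DCoh.tensorCx.map (bcCx f (V y) I).hom).app ((RCx (V y)).obj P) ≫
        (pjCx (f ∣_ (V y)) ((RCx (f ⁻¹ᵁ (V y))).obj I) ((RCx (V y)).obj P) ≫
          (pushCx (f ∣_ (V y))).map (thetaCx f (V y) I P ≫ (RCx (f ⁻¹ᵁ (V y))).map s)) := by
    have e1 := pjCx_restrict f (V y) I P
    have e2 := bcCx_naturality f (V y) s
    calc rtCxInv (V y).ι ((pushCx f).obj I) P ≫
          (RCx (V y)).map (pjCx f I P ≫ (pushCx f).map s) ≫ (bcCx f (V y) J).hom
        = rtCxInv (V y).ι ((pushCx f).obj I) P ≫ (RCx (V y)).map (pjCx f I P) ≫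
            ((RCx (V y)).map ((PCx f).map s) ≫ (bcCx f (V y) J).hom) := by
          rw [Functor.map_comp]
          simp only [Category.assoc]
      _ = (rtCxInv (V y).ι ((pushCx f).obj I) P ≫ (RCx (V y)).map (pjCx f I P) ≫
            (bcCx f (V y) ((DCoh.tensorCx.obj I).obj ((pullCx f).obj P))).hom) ≫
            (PCx (f ∣_ (V y))).map ((RCx (f ⁻¹ᵁ (V y))).map s) := by
          rw [e2]
          simp only [Category.assoc]
      _ = _ := by
          rw [e1, Functor.map_comp]
          simp only [Category.assoc]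
  haveI := hloc
  haveI : IsIso ((DCoh.tensorCx.map (bcCx f (V y) I).hom).app ((RCx (V y)).obj P)) := inferInstance
  have h5 : IsIso (Q.map (rtCxInv (V y).ι ((pushCx f).obj I) P ≫
      (RCx (V y)).map (pjCx f I P ≫ (pushCx f).map s) ≫ (bcCx f (V y) J).hom)) := by
    rw [key, Functor.map_comp]
    infer_instance
  rw [Functor.map_comp, Functor.map_comp] at h5
  haveI := h5
  have h6 : IsIso (Q.map ((RCx (V y)).map (pjCx f I P ≫ (pushCx f).map s)) ≫
      Q.map (bcCx f (V y) J).hom) := IsIso.of_isIso_comp_left (Q.map (rtCxInv (V y).ι ((pushCx f).obj I) P)) _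
  haveI := h6
  show IsIso (Q.map ((RCx (V y)).map (pjCx f I P ≫ (pushCx f).map s)))
  exact IsIso.of_isIso_comp_right _ (Q.map (bcCx f (V y) J).hom)

end Local

end

end Groth.Agent.Lib.PjCxH3
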