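import Mathlib
import Groth.Agent.Lib.BifCone_helper2
import Groth.Agent.Lib.BifNat_helper2

/-!
# K-injective complexes and degreewise split sequences; small general lemmas (helper3)

* `isKInjective_of_degreewiseSplit`: the middle term of a degreewise split short exact sequence of
  complexes with K-injective ends is K-injective;
* `splittingOfAction`: a functor on complexes acting on cochains preserves degreewise split
  sequences; `isKInjective_of_action`;
* `isKInjective_biproduct`: an additive functor to complexes sends finite biproducts of objects with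
  K-injective image to objects with K-injective image;
* `preservesColimit_discrete_of_finite_support`: an additive functor preserves coproducts with
  finitely many nonzero summands;
* `isIso_mapNat`: a natural transformation of bifunctors which is an isomorphism on the terms of two
  complexes induces an isomorphism on the total complexes.
-/

set_option autoImplicit false
set_option linter.all false
set_option maxHeartbeats 1600000

open CategoryTheory Limits CochainComplex HomComplex

namespace Groth.Agent.Lib.KInjSplitH3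

section A1

variable {C : Type*} [Category C] [Abelian C]

theorem isKInjective_of_degreewiseSplit (S : ShortComplex (CochainComplex C ℤ))
    (σ : ∀ n, (S.map (HomologicalComplex.eval C _ n)).Splitting)
    (h₁ : S.X₁.IsKInjective) (h₃ : S.X₃.IsKInjective) : S.X₂.IsKInjective := by
  rw [isKInjective_iff_rightOrthogonal] at h₁ h₃ ⊢
  have hT : trianglehOfDegreewiseSplit S σ ∈ distTriang _ :=
    (HomotopyCategory.distinguished_iff_iso_trianglehOfDegreewiseSplit _).2
      ⟨S, σ, ⟨Iso.refl _⟩⟩
  exact (HomotopyCategory.subcategoryAcyclic C).rightOrthogonal.ext_of_isTriangulatedClosed₂ _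
    hT h₁ h₃

theorem isKInjective_of_isZero (L : CochainComplex C ℤ) (h : IsZero L) : L.IsKInjective :=
  ⟨fun g _ => ⟨Homotopy.ofEq (h.eq_of_tgt _ _)⟩⟩

theorem isZero_of_forall_isZero (L : CochainComplex C ℤ) (h : ∀ n, IsZero (L.X n)) : IsZero L := by
  rw [IsZero.iff_id_eq_zero]
  ext n
  exact (h n).eq_of_src _ _

end A1

section A2

variable {A B : Type*} [Category A] [Category B] [Preadditive A] [Preadditive B]
  {Φ : CochainComplex A ℤ ⥤ CochainComplex B ℤ} [Φ.PreservesZeroMorphisms]
  (T : Groth.Agent.Lib.BifCone.CochainAction Φ)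

/-- a functor acting on cochains preserves degreewise split sequences -/
noncomputable def splittingOfAction (S : ShortComplex (CochainComplex A ℤ))
    (σ : ∀ n, (S.map (HomologicalComplex.eval A _ n)).Splitting) (n : ℤ) :
    ((S.map Φ).map (HomologicalComplex.eval B _ n)).Splitting where
  r := (T.map (Cochain.ofHoms (fun q => ((σ q).r : S.X₂.X q ⟶ S.X₁.X q)))).v n n (add_zero n)
  s := (T.map (Cochain.ofHoms (fun q => ((σ q).s : S.X₃.X q ⟶ S.X₂.X q)))).v n n (add_zero n)
  f_r := by
    have h : (Cochain.ofHom S.f).comp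
        (Cochain.ofHoms (fun q => ((σ q).r : S.X₂.X q ⟶ S.X₁.X q))) (add_zero 0) =
        Cochain.ofHom (𝟙 S.X₁) := by
      ext p
      rw [Cochain.comp_zero_cochain_v, Cochain.ofHom_v, Cochain.ofHoms_v, Cochain.ofHom_v,
        HomologicalComplex.id_f]
      exact (σ p).f_r
    have h' := congrArg T.map h
    rw [T.map_comp, T.map_ofHom, T.map_ofHom, Φ.map_id] at h'
    have h'' := congrArg (fun z => z.v n n (add_zero n)) h'
    simp only [Cochain.comp_zero_cochain_v, Cochain.ofHom_v, HomologicalComplex.id_f] at h''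
    exact h''
  s_g := by
    have h : (Cochain.ofHoms (fun q => ((σ q).s : S.X₃.X q ⟶ S.X₂.X q))).comp
        (Cochain.ofHom S.g) (add_zero 0) = Cochain.ofHom (𝟙 S.X₃) := by
      ext p
      rw [Cochain.comp_zero_cochain_v, Cochain.ofHom_v, Cochain.ofHoms_v, Cochain.ofHom_v,
        HomologicalComplex.id_f]
      exact (σ p).s_g
    have h' := congrArg T.map h
    rw [T.map_comp, T.map_ofHom, T.map_ofHom, Φ.map_id] at h'
    have h'' := congrArg (fun z => z.v n n (add_zero n)) h'
    simp only [Cochain.comp_zero_cochain_v, Cochain.ofHom_v, HomologicalComplex.id_f] at h''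
    exact h''
  id := by
    have h : (Cochain.ofHoms (fun q => ((σ q).r : S.X₂.X q ⟶ S.X₁.X q))).comp
        (Cochain.ofHom S.f) (add_zero 0) + (Cochain.ofHom S.g).comp
        (Cochain.ofHoms (fun q => ((σ q).s : S.X₃.X q ⟶ S.X₂.X q))) (add_zero 0) =
        Cochain.ofHom (𝟙 S.X₂) := by
      ext p
      rw [Cochain.add_v, Cochain.comp_zero_cochain_v, Cochain.comp_zero_cochain_v,
        Cochain.ofHom_v, Cochain.ofHoms_v, Cochain.ofHom_v, Cochain.ofHoms_v, Cochain.ofHom_v,
        HomologicalComplex.id_f]
      exact (σ p).id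
    have h' := congrArg T.map h
    rw [T.map_add, T.map_comp, T.map_comp, T.map_ofHom, T.map_ofHom, T.map_ofHom, Φ.map_id] at h'
    have h'' := congrArg (fun z => z.v n n (add_zero n)) h'
    simp only [Cochain.add_v, Cochain.comp_zero_cochain_v, Cochain.ofHom_v,
      HomologicalComplex.id_f] at h''
    exact h''

end A2

section A12

variable {A B : Type*} [Category A] [Category B] [Preadditive A] [Abelian B]
  {Φ : CochainComplex A ℤ ⥤ CochainComplex B ℤ} [Φ.PreservesZeroMorphisms]
  (T : Groth.Agent.Lib.BifCone.CochainAction Φ)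

include T in
theorem isKInjective_of_action (S : ShortComplex (CochainComplex A ℤ))
    (σ : ∀ n, (S.map (HomologicalComplex.eval A _ n)).Splitting)
    (h₁ : (Φ.obj S.X₁).IsKInjective) (h₃ : (Φ.obj S.X₃).IsKInjective) :
    (Φ.obj S.X₂).IsKInjective :=
  isKInjective_of_degreewiseSplit (S.map Φ) (splittingOfAction T S σ) h₁ h₃

end A12

section B

variable {C' B : Type*} [Category C'] [Category B] [Preadditive C'] [Abelian B]

theorem isKInjective_biproduct (Ψ : C' ⥤ CochainComplex B ℤ) [Ψ.Additive]
    {J : Type} [Fintype J] (f : J → C') [HasBiproduct f]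
    (h : ∀ j, (Ψ.obj (f j)).IsKInjective) : (Ψ.obj (⨁ f)).IsKInjective := by
  classical
  refine ⟨fun {K} g hK => ?_⟩
  have e : g = ∑ j, (g ≫ Ψ.map (biproduct.π f j)) ≫ Ψ.map (biproduct.ι f j) := by
    simp only [Category.assoc, ← Ψ.map_comp, ← Preadditive.comp_sum, ← Functor.map_sum,
      biproduct.total, Ψ.map_id, Category.comp_id]
  refine ⟨HomotopyCategory.homotopyOfEq _ _ ?_⟩
  rw [e, Functor.map_sum, Functor.map_zero]
  refine Finset.sum_eq_zero (fun j _ => ?_)
  haveI := h j
  rw [Functor.map_comp, HomotopyCategory.eq_of_homotopy _ 0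
    (IsKInjective.homotopyZero (g ≫ Ψ.map (biproduct.π f j)) hK), Functor.map_zero, zero_comp]

end B

section FinSupp

variable {C D : Type*} [Category C] [Category D] [Preadditive C] [Preadditive D]

/-- an additive functor preserves coproducts with finitely many nonzero summands -/
theorem preservesColimit_discrete_of_finite_support (G : C ⥤ D) [G.Additive] {J : Type*}
    (X : J → C) (S : Finset J) (hS : ∀ j, j ∉ S → IsZero (X j)) :
    PreservesColimit (Discrete.functor X) G := by
  classical
  refine ⟨fun {c} hc => ⟨?_⟩⟩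
  -- the projections
  let t : ∀ j i, X i ⟶ X j := fun j i => if h : i = j then eqToHom (by rw [h]) else 0
  let π : ∀ j, c.pt ⟶ X j := fun j => hc.desc (Cofan.mk (X j) (t j))
  have ι_π : ∀ i j, c.ι.app ⟨i⟩ ≫ π j = t j i := by
    intro i j
    exact hc.fac _ ⟨i⟩
  have ι_π_self : ∀ i, c.ι.app ⟨i⟩ ≫ π i = 𝟙 _ := by
    intro i
    rw [ι_π]
    show (if h : i = i then eqToHom _ else 0) = _
    rw [dif_pos rfl]
    rfl
  have ι_π_ne : ∀ i j, i ≠ j → c.ι.app ⟨i⟩ ≫ π j = 0 := by
    intro i j hij
    rw [ι_π]
    show (if h : i = j then eqToHom _ else 0) = _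
    rw [dif_neg hij]
  have total : ∑ j ∈ S, π j ≫ c.ι.app ⟨j⟩ = 𝟙 c.pt := by
    refine hc.hom_ext (fun ⟨i⟩ => ?_)
    by_cases hi : i ∈ S
    · rw [Preadditive.comp_sum, Finset.sum_eq_single i]
      · rw [← Category.assoc, ι_π_self, Category.id_comp, Category.comp_id]
      · intro j _ hji
        rw [← Category.assoc, ι_π_ne i j (Ne.symm hji), zero_comp]
      · intro h
        exact absurd hi h
    · exact (hS i hi).eq_of_src _ _
  exact
    { desc := fun s => ∑ j ∈ S, G.map (π j) ≫ s.ι.app ⟨j⟩
      fac := fun s ⟨i⟩ => by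
        show G.map (c.ι.app ⟨i⟩) ≫ ∑ j ∈ S, G.map (π j) ≫ s.ι.app ⟨j⟩ = s.ι.app ⟨i⟩
        by_cases hi : i ∈ S
        · rw [Preadditive.comp_sum, Finset.sum_eq_single i]
          · rw [← Category.assoc, ← G.map_comp, ι_π_self, G.map_id, Category.id_comp]
          · intro j _ hji
            rw [← Category.assoc, ← G.map_comp, ι_π_ne i j (Ne.symm hji), G.map_zero, zero_comp]
          · intro h
            exact absurd hi h
        · exact (G.map_isZero (hS i hi)).eq_of_src _ _
      uniq := fun s m hm => by
        have h1 : m = G.map (𝟙 c.pt) ≫ m := by rw [G.map_id, Category.id_comp]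
        rw [h1, ← total, Functor.map_sum, Preadditive.sum_comp]
        refine Finset.sum_congr rfl (fun j _ => ?_)
        rw [G.map_comp, Category.assoc]
        congr 1
        exact hm ⟨j⟩ }

end FinSupp

section MapNat

variable {C₁ C₂ D : Type*} [Category C₁] [Category C₂] [Category D]
  [Preadditive C₁] [Preadditive C₂] [Preadditive D]
  {F F' : C₁ ⥤ C₂ ⥤ D} [F.Additive] [∀ X₁, (F.obj X₁).Additive]
  [F'.Additive] [∀ X₁, (F'.obj X₁).Additive]
  (τ : F ⟶ F')
  (K₁ : CochainComplex C₁ ℤ) (K₂ : CochainComplex C₂ ℤ)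
  [CochainComplex.HasMapBifunctor K₁ K₂ F] [CochainComplex.HasMapBifunctor K₁ K₂ F']

theorem isIso_mapNat (h : ∀ p q : ℤ, IsIso ((τ.app (K₁.X p)).app (K₂.X q))) :
    IsIso (Groth.Agent.Lib.BifNat.mapNat τ K₁ K₂) := by
  haveI : ∀ n, IsIso ((Groth.Agent.Lib.BifNat.mapNat τ K₁ K₂).f n) := fun n => by
    refine ⟨HomologicalComplex.mapBifunctorDesc (fun p q hpq =>
      (@inv _ _ _ _ ((τ.app (K₁.X p)).app (K₂.X q)) (h p q)) ≫
        CochainComplex.ιMapBifunctor K₁ K₂ F p q n hpq), ?_, ?_⟩
    · apply HomologicalComplex.mapBifunctor.hom_ext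
      intro p q hpq
      have hpq' : p + q = n := hpq
      haveI := h p q
      rw [← Category.assoc]
      erw [Groth.Agent.Lib.BifNat.ι_mapNat_f τ K₁ K₂ p q n hpq']
      rw [Category.assoc]
      erw [HomologicalComplex.ι_mapBifunctorDesc]
      rw [IsIso.hom_inv_id_assoc, Category.comp_id]
    · apply HomologicalComplex.mapBifunctor.hom_ext
      intro p q hpq
      have hpq' : p + q = n := hpq
      haveI := h p q
      rw [← Category.assoc]
      erw [HomologicalComplex.ι_mapBifunctorDesc]
      rw [Category.assoc]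
      erw [Groth.Agent.Lib.BifNat.ι_mapNat_f τ K₁ K₂ p q n hpq']
      rw [IsIso.inv_hom_id_assoc, Category.comp_id]
  exact HomologicalComplex.Hom.isIso_of_components _

end MapNat

end Groth.Agent.Lib.KInjSplitH3
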