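import Mathlib
import Groth.Prelude
import Groth.Agent.Lib.KInjSplit_helper3
import Groth.Agent.Lib.BrutalTrunc_helper2
import Groth.Agent.Lib.BifSingle_helper2
import Groth.Agent.Lib.KFlatGen4_helper2
import Groth.Agent.Lib.DTorCmp3_helper2

/-!
# `I ⊗ L` is K-injective for `I` K-injective and `L` a bounded complex of finite free modules
(helper3)
-/

set_option autoImplicit false
set_option linter.all false
set_option maxHeartbeats 1600000
set_option backward.isDefEq.respectTransparency false
set_option backward.isDefEq.respectTransparency.types false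
set_option backward.defeqAttrib.useBackward true

universe u
open CategoryTheory CategoryTheory.Limits AlgebraicGeometry Opposite

namespace Groth.Agent.Lib.PjCxH3

open Groth.Agent.Lib.KInjSplitH3 Groth.Agent.Lib.BrutalTrunc CochainComplex

noncomputable section

variable {U : Scheme.{u}}

/-- the cochain action of `I ⊗ -` -/
abbrev actI (I : CochainComplex U.Modules ℤ) :
    Groth.Agent.Lib.BifCone.CochainAction ((DCoh.tensorCx (X := U)).obj I) :=
  Groth.Agent.Lib.BifCone.action₂ (DCoh.tensorBi (X := U)) I

instance additive_tensorCx_obj (I : CochainComplex U.Modules ℤ) :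
    ((DCoh.tensorCx (X := U)).obj I).Additive where
  map_add {K L f g} := by
    apply HomComplex.Cochain.ofHom_injective
    rw [← (actI I).map_ofHom, HomComplex.Cochain.ofHom_add, (actI I).map_add,
      (actI I).map_ofHom, (actI I).map_ofHom, HomComplex.Cochain.ofHom_add]

/-- `M` is such that `I ⊗ M[-a]` is K-injective for all `a` -/
def KS (I : CochainComplex U.Modules ℤ) (M : U.Modules) : Prop :=
  ∀ a : ℤ, ((DCoh.tensorCx.obj I).obj
    ((HomologicalComplex.single U.Modules (ComplexShape.up ℤ) a).obj M)).IsKInjective

variable (I : CochainComplex U.Modules ℤ)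

lemma KS_of_iso {M M' : U.Modules} (e : M ≅ M') (h : KS I M) : KS I M' := by
  intro a
  haveI := h a
  exact isKInjective_of_iso ((DCoh.tensorCx.obj I).mapIso
    ((HomologicalComplex.single U.Modules (ComplexShape.up ℤ) a).mapIso e))

lemma isKInjective_tensorCx_of_isZero (L : CochainComplex U.Modules ℤ) (h : IsZero L) :
    ((DCoh.tensorCx.obj I).obj L).IsKInjective :=
  isKInjective_of_isZero _ ((DCoh.tensorCx.obj I).map_isZero h)

lemma KS_of_isZero {M : U.Modules} (h : IsZero M) : KS I M := by
  intro a
  exact isKInjective_tensorCx_of_isZero I _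
    ((HomologicalComplex.single U.Modules (ComplexShape.up ℤ) a).map_isZero h)

/-- `KS` for the structure sheaf -/
lemma KS_unit [I.IsKInjective] : KS I (Coh.structureModule U) := by
  -- degree 0
  have h0 : ((DCoh.tensorCx.obj I).obj ((HomologicalComplex.single U.Modules
      (ComplexShape.up ℤ) 0).obj (Coh.structureModule U))).IsKInjective := by
    let e : 𝟭 U.Modules ≅ (DCoh.tensorBi (X := U)).flip.obj (Coh.structureModule U) :=
      (Groth.Agent.Lib.DTorCmp.flipGUnitIso (X := U)).symm
    haveI := Groth.Agent.Lib.KFlatGen.isIso_xiApp (DCoh.tensorBi (X := U))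
      (Coh.structureModule U) (𝟭 U.Modules) e I
    let e0 : I ≅ ((𝟭 U.Modules).mapHomologicalComplex (ComplexShape.up ℤ)).obj I :=
      ((Functor.mapHomologicalComplexIdIso U.Modules (ComplexShape.up ℤ)).app I).symm
    have hI0 : CochainComplex.IsKInjective
        (((𝟭 U.Modules).mapHomologicalComplex (ComplexShape.up ℤ)).obj I) :=
      isKInjective_of_iso e0
    haveI := hI0
    exact isKInjective_of_iso (asIso (Groth.Agent.Lib.KFlatGen.xiApp (DCoh.tensorBi (X := U))
      (Coh.structureModule U) (𝟭 U.Modules) e I))
  intro a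
  let S0 : CochainComplex U.Modules ℤ :=
    (HomologicalComplex.single U.Modules (ComplexShape.up ℤ) 0).obj (Coh.structureModule U)
  have h0' : (CochainComplex.mapBifunctor I S0 (DCoh.tensorBi (X := U))).IsKInjective := h0
  haveI := h0'
  have hs : CochainComplex.IsKInjective
      ((CochainComplex.mapBifunctor I S0 (DCoh.tensorBi (X := U)))⟦-a⟧) := inferInstance
  let e1 : S0⟦-a⟧ ≅
      (HomologicalComplex.single U.Modules (ComplexShape.up ℤ) a).obj (Coh.structureModule U) :=
    ((CochainComplex.singleFunctors U.Modules).shiftIso (-a) a 0 (by omega)).app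
      (Coh.structureModule U)
  let e2 : CochainComplex.mapBifunctor I (S0⟦-a⟧) (DCoh.tensorBi (X := U)) ≅
      (CochainComplex.mapBifunctor I S0 (DCoh.tensorBi (X := U)))⟦-a⟧ :=
    CochainComplex.mapBifunctorShift₂Iso I S0 (DCoh.tensorBi (X := U)) (-a)
  haveI := hs
  have h2 : CochainComplex.IsKInjective
      (CochainComplex.mapBifunctor I (S0⟦-a⟧) (DCoh.tensorBi (X := U))) :=
    isKInjective_of_iso e2.symm
  have h2' : CochainComplex.IsKInjective ((DCoh.tensorCx.obj I).obj (S0⟦-a⟧)) := h2
  haveI := h2'
  exact isKInjective_of_iso ((DCoh.tensorCx.obj I).mapIso e1)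

/-- `KS` for finite free modules -/
lemma KS_free [I.IsKInjective] {M : U.Modules} {n : ℕ} (e : M ≅ FlatMod.freeMod U n) :
    KS I M := by
  refine KS_of_iso I (e ≪≫ (biproduct.isoCoproduct _).symm).symm ?_
  intro a
  exact isKInjective_biproduct
    (HomologicalComplex.single U.Modules (ComplexShape.up ℤ) a ⋙ DCoh.tensorCx.obj I)
    (fun _ : Fin n => Coh.structureModule U) (fun _ => KS_unit I a)

/-- a short exact sequence with one zero end splits -/
def splittingOfIsZero {C : Type*} [Category C] [Abelian C] (S : ShortComplex C)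
    (hS : S.ShortExact) (h : IsZero S.X₁ ∨ IsZero S.X₃) : S.Splitting := by
  classical
  exact if h1 : IsZero S.X₁ then
    ShortComplex.Splitting.ofExactOfRetraction S hS.exact 0 (h1.eq_of_src _ _) hS.epi_g
  else
    ShortComplex.Splitting.ofExactOfSection S hS.exact 0 ((h.resolve_left h1).eq_of_src _ _)
      hS.mono_f

/-- the degreewise splitting of the brutal truncation sequence -/
def scSplitting (L : CochainComplex U.Modules ℤ) (m : ℤ) (n : ℤ) :
    ((sc L m (m + 1) rfl).map (HomologicalComplex.eval U.Modules _ n)).Splitting :=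
  splittingOfIsZero _
    ((HomologicalComplex.shortExact_iff_degreewise_shortExact _).1
      (sc_shortExact L m (m + 1) rfl) n) (by
    by_cases h1 : m + 1 ≤ n
    · right
      exact HomologicalComplex.isZero_single_obj_X (ComplexShape.up ℤ) _ _ _ (by omega)
    · left
      exact isZero_sigmaGE_X L h1)

lemma isIso_incl (L : CochainComplex U.Modules ℤ) (a : ℤ)
    (h : ∀ i, i < a → IsZero (L.X i)) : IsIso (incl L a) := by
  haveI : ∀ n, IsIso ((incl L a).f n) := fun n => by
    by_cases hn : a ≤ n
    · exact isIso_ι L hn
    · have h1 : IsZero ((sigmaGE L a).X n) := isZero_sigmaGE_X L hn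
      have h2 : IsZero (L.X n) := h n (by omega)
      exact ⟨0, h1.eq_of_src _ _, h2.eq_of_src _ _⟩
  exact HomologicalComplex.Hom.isIso_of_components _

/-- the induction on the length -/
theorem kinj_induction (N : ℕ) : ∀ (a : ℤ) (L : CochainComplex U.Modules ℤ),
    (∀ i, i < a ∨ a + N ≤ i → IsZero (L.X i)) → (∀ i, KS I (L.X i)) →
    ((DCoh.tensorCx.obj I).obj L).IsKInjective := by
  induction N with
  | zero =>
    intro a L hv _
    refine isKInjective_tensorCx_of_isZero I L (isZero_of_forall_isZero L (fun n => hv n ?_))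
    by_cases h : n < a
    · exact Or.inl h
    · right
      push_cast
      omega
  | succ N ih =>
    intro a L hv hKS
    have h1 : ((DCoh.tensorCx.obj I).obj (sigmaGE L (a + 1))).IsKInjective := by
      refine ih (a + 1) (sigmaGE L (a + 1)) (fun i hi => ?_) (fun i => ?_)
      · by_cases h : a + 1 ≤ i
        · refine isZero_sigmaGE_X' L (a + 1) i (hv i (Or.inr ?_))
          rcases hi with hi | hi
          · omega
          · push_cast
            omega
        · exact isZero_sigmaGE_X L h
      · by_cases h : a + 1 ≤ i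
        · haveI := isIso_ι L h
          exact KS_of_iso I (asIso (ι L (a + 1) i)).symm (hKS i)
        · exact KS_of_isZero I (isZero_sigmaGE_X L h)
    have h3 : ((DCoh.tensorCx.obj I).obj
        ((HomologicalComplex.single U.Modules (ComplexShape.up ℤ) a).obj (L.X a))).IsKInjective :=
      hKS a a
    have h2 : ((DCoh.tensorCx.obj I).obj (sigmaGE L a)).IsKInjective :=
      isKInjective_of_action (actI I) (sc L a (a + 1) rfl) (scSplitting L a) h1 h3
    haveI := h2
    haveI := isIso_incl L a (fun i hi => hv i (Or.inl hi))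
    exact isKInjective_of_iso ((DCoh.tensorCx.obj I).mapIso (asIso (incl L a)))

/-- **`I ⊗ L` is K-injective for `I` K-injective and `L` bounded with finite free terms** -/
theorem isKInjective_tensorCx_of_bounded_free [I.IsKInjective] (L : CochainComplex U.Modules ℤ)
    (a b : ℤ) (hv : DCoh.VanishesOutside L a b)
    (hfree : ∀ i : ℤ, ∃ n : ℕ, Nonempty (L.X i ≅ FlatMod.freeMod U n)) :
    ((DCoh.tensorCx.obj I).obj L).IsKInjective := by
  refine kinj_induction I (b + 1 - a).toNat a L (fun i hi => hv i ?_) (fun i => ?_)
  · rcases hi with hi | hi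
    · exact Or.inl hi
    · right
      have := Int.self_le_toNat (b + 1 - a)
      omega
  · obtain ⟨n, ⟨e⟩⟩ := hfree i
    exact KS_free I e

end

end Groth.Agent.Lib.PjCxH3
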