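import Mathlib
import Groth.Prelude
import Groth.Agent.Lib.PjCx5_helper3
import Groth.Agent.Lib.PjCx6_helper3
import Groth.Agent.Lib.PForm3_helper9
import Groth.Agent.Lib.PB9_helper8
import Groth.Agent.Lib.FLF7_helper8
import Groth.Agent.Lib.DCohLoc3_lead
import Groth.Agent.Lib.LTensQC_lead
import Groth.Agent.Lib.PerfTens1_helper3

/-!
# The projection formula for a perfect complex (helper3; S0961)

`main961 : Rf_* E ⊗^L P ≅ Rf_* (E ⊗^L f^* P)` for an arbitrary morphism `f : X ⟶ Y`, `E ∈ D(O_X)` and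
a K-flat complex `P` on `Y` representing a perfect object.
-/

set_option autoImplicit false
set_option linter.all false
set_option maxHeartbeats 1600000
set_option backward.isDefEq.respectTransparency false
set_option backward.isDefEq.respectTransparency.types false
set_option backward.defeqAttrib.useBackward true

universe u
open CategoryTheory CategoryTheory.Limits AlgebraicGeometry Opposite TopologicalSpace

attribute [local instance] HasDerivedCategory.standard

namespace Groth.Agent.Lib.PjCxH3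

open Groth.Agent.Lib.ProjFormulaH3 Groth.Agent.Lib.LpullLocH3 Groth.Agent.Lib.TotalMap
open Groth.Agent.Lib.StalkSkyL DerivedCategory Groth.Agent.Lib.PushCxAcycH3
open Groth.Agent.Lib.MVPushL Groth.Agent.Lib.StalkTensH3 FLFH8 QCohExtn
open Groth.Agent.Lib.KInjSplitH3

noncomputable section

/-! ### the swap -/

section Swap

variable {T : Scheme.{u}}

/-- the bilinear data of the swap -/
def swBilin (A B : T.Modules) : BilinData A B (CohB1.tensorMod B A) where
  β O a b := tm B A O b a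
  add_left O a a' b := tm_add_right B A O b a a'
  smul_left O r a b := tm_smul_right B A O r b a
  add_right O a b b' := tm_add_left B A O b b' a
  smul_right O r a b := tm_smul_left B A O r b a
  natural {O O'} h a b := rF_tm B A h b a

/-- the swap `A ⊗ B ⟶ B ⊗ A` -/
def sw (A B : T.Modules) : CohB1.tensorMod A B ⟶ CohB1.tensorMod B A := (swBilin A B).toHom

lemma sw_tm (A B : T.Modules) (O : T.Opens) (a : Γ(A, O)) (b : Γ(B, O)) :
    ap (sw A B) O (tm A B O a b) = tm B A O b a :=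
  (swBilin A B).toHom_tmul O a b

lemma sw_sw (A B : T.Modules) : sw A B ≫ sw B A = 𝟙 _ := by
  apply PFormH9.hom_ext_tmul
  intro O a b
  show ap (sw B A) O (ap (sw A B) O (tm A B O a b)) = tm A B O a b
  rw [sw_tm, sw_tm]

instance isIso_sw (A B : T.Modules) : IsIso (sw A B) := ⟨sw B A, sw_sw A B, sw_sw B A⟩

end Swap

section Local

variable {X Y : Scheme.{u}} (f : X ⟶ Y)

lemma pj_eq_projMap (M : X.Modules) (N : Y.Modules) :
    pj f M N = sw ((Scheme.Modules.pushforward f).obj M) N ≫ PFormH9.projMap f N M ≫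
      (Scheme.Modules.pushforward f).map (sw ((Scheme.Modules.pullback f).obj N) M) := by
  apply PFormH9.hom_ext_tmul
  intro V m n
  show ap (pj f M N) V (tm _ _ V m n) =
    ap (sw ((Scheme.Modules.pullback f).obj N) M) (f ⁻¹ᵁ V)
      (ap (PFormH9.projMap f N M) V
        (ap (sw ((Scheme.Modules.pushforward f).obj M) N) V (tm _ _ V m n)))
  rw [pj_tm, sw_tm]
  have h := PFormH9.projMap_tmul f N M V n m
  have h' : ap (PFormH9.projMap f N M) V (tm N ((Scheme.Modules.pushforward f).obj M) V n m) =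
      tm ((Scheme.Modules.pullback f).obj N) M (f ⁻¹ᵁ V)
        (PBH8.cUV f N (le_rfl : f ⁻¹ᵁ V ≤ f ⁻¹ᵁ V) n) m := h
  rw [h', sw_tm]

theorem isIso_pj_of_free (M : X.Modules) {N : Y.Modules} {n : ℕ}
    (e : N ≅ FlatMod.freeMod Y n) : IsIso (pj f M N) := by
  haveI := PFormH9.isIso_projMap f N (FLFH8.isFinLocFree_of_iso_free e) M
  rw [pj_eq_projMap]
  infer_instance

theorem isIso_cmpCx (E : CochainComplex X.Modules ℤ) (P : CochainComplex Y.Modules ℤ)
    (a b : ℤ) (hv : DCoh.VanishesOutside P a b) : IsIso (cmpCx f E P) := by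
  haveI : ∀ n, PreservesColimit (Discrete.functor ((biCx f E P).toGradedObject.mapObjFun
      (ComplexShape.π (ComplexShape.up ℤ) (ComplexShape.up ℤ) (ComplexShape.up ℤ)) n))
      (Scheme.Modules.pushforward f) := fun n => by
    classical
    refine preservesColimit_discrete_of_finite_support _ _
      ((Finset.Icc a b).image (fun q => (⟨(n - q, q), by
        show n - q + q = n
        omega⟩ : ↥((ComplexShape.π (ComplexShape.up ℤ) (ComplexShape.up ℤ)
          (ComplexShape.up ℤ)) ⁻¹' {n})))) ?_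
    rintro ⟨⟨p, q⟩, hpq⟩ hj
    have hpq' : p + q = n := hpq
    have hq : q < a ∨ b < q := by
      by_contra hcon
      push Not at hcon
      apply hj
      refine Finset.mem_image.2 ⟨q, Finset.mem_Icc.2 hcon, ?_⟩
      apply Subtype.ext
      show (n - q, q) = (p, q)
      rw [show n - q = p by omega]
    show IsZero (((DCoh.tensorBi (X := X)).obj (E.X p)).obj
      ((Scheme.Modules.pullback f).obj (P.X q)))
    exact Functor.map_isZero _ (Functor.map_isZero _ (hv q hq))
  unfold cmpCx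
  exact isIso_ψHom _ _ _

theorem isIso_pjCx_of_bounded_free (E : CochainComplex X.Modules ℤ)
    (P : CochainComplex Y.Modules ℤ) (a b : ℤ) (hv : DCoh.VanishesOutside P a b)
    (hfree : ∀ i : ℤ, ∃ n : ℕ, Nonempty (P.X i ≅ FlatMod.freeMod Y n)) :
    IsIso (pjCx f E P) := by
  haveI := isIso_cmpCx f E P a b hv
  haveI : IsIso (Groth.Agent.Lib.BifNat.mapNat (pjNat f) E P) :=
    isIso_mapNat _ _ _ (fun p q => by
      obtain ⟨n, ⟨e⟩⟩ := hfree q
      exact isIso_pj_of_free f (E.X p) e)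
  unfold pjCx
  infer_instance

/-- **the local computation** -/
theorem PF_of_bounded_free [DCoh.HasRpush f] (I : CochainComplex X.Modules ℤ) [I.IsKInjective]
    (P : CochainComplex Y.Modules ℤ) (a b : ℤ) (hv : DCoh.VanishesOutside P a b)
    (hfree : ∀ i : ℤ, ∃ n : ℕ, Nonempty (P.X i ≅ FlatMod.freeMod Y n)) :
    PF f I P := by
  haveI : ((DCoh.tensorCx.obj I).obj ((pullCx f).obj P)).IsKInjective :=
    isKInjective_tensorCx_of_bounded_free I _ a b
      (fun i hi => Functor.map_isZero _ (hv i hi))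
      (fun i => by
        obtain ⟨n, ⟨e⟩⟩ := hfree i
        exact ⟨n, ⟨(Scheme.Modules.pullback f).mapIso e ≪≫ PBH8.pullbackFreeIso f n⟩⟩)
  rw [PF_iff f I P (𝟙 _)]
  haveI := isIso_pjCx_of_bounded_free f I P a b hv hfree
  rw [CategoryTheory.Functor.map_id, Category.comp_id]
  infer_instance

end Local

/-! ### the theorem -/

section Main

variable {X Y : Scheme.{u}} (f : X ⟶ Y) [DCoh.HasRpush f]

/-- `PF f I P` for `I` K-injective and `P` K-flat representing a perfect object -/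
theorem PF_of_isPerfect (I : CochainComplex X.Modules ℤ) [I.IsKInjective]
    (P : CochainComplex Y.Modules ℤ) (hP : DCoh.IsKFlat P)
    (hperf : DCoh.IsPerfect (Q.obj P)) : PF f I P := by
  refine PF_of_local f I P (fun y => ?_)
  obtain ⟨V, hyV, hV⟩ := (Groth.Agent.Lib.DCohLocLead.main923 (Q.obj P)).1 hperf y
  obtain ⟨P', a, b, hv, hfree, ⟨e⟩⟩ := hV P ⟨Iso.refl _⟩
  refine ⟨V, hyV, ?_⟩
  intro _
  haveI := isKInjective_RCx (f ⁻¹ᵁ V) I
  have hR : DCoh.IsKFlat ((RCx V).obj P) := Groth.Agent.Lib.PerfTensH3.isKFlat_RC V.ι P hP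
  have hP' : DCoh.IsKFlat P' := isKFlat_of_isStrictlyPerfect
    ⟨⟨a, b, hv⟩, fun i => by
      obtain ⟨n, ⟨e'⟩⟩ := hfree i
      exact FLFH8.isFinLocFree_of_iso_free e'⟩
  obtain ⟨Z, s, t, hs, ht⟩ := Groth.Agent.Lib.LTensQCL.exists_roof e
  obtain ⟨Z', q, hZ', hq⟩ := Groth.Agent.Lib.DTorCmp.exists_kflat_resolution' Z
  haveI := hs
  haveI := ht
  haveI := hq
  haveI : QuasiIso (q ≫ s) := inferInstance
  haveI : QuasiIso (q ≫ t) := inferInstance
  have h1 := PF_congr (f ∣_ V) ((RCx (f ⁻¹ᵁ V)).obj I) hZ' hR (q ≫ s)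
  have h2 := PF_congr (f ∣_ V) ((RCx (f ⁻¹ᵁ V)).obj I) hZ' hP' (q ≫ t)
  exact h1.1 (h2.2 (PF_of_bounded_free (f ∣_ V) _ P' a b hv hfree))

/-- **S0961: the projection formula for a perfect complex** -/
theorem main961 (P : CochainComplex Y.Modules ℤ) (hP : DCoh.IsKFlat P)
    (hperf : DCoh.IsPerfect (Q.obj P))
    [DCoh.HasLTensorCx P] [DCoh.HasLTensorCx ((pullCx f).obj P)] (E : DCoh.D X) :
    Nonempty ((DCoh.LTensorCx P).obj ((DCoh.Rpush f).obj E) ≅
      (DCoh.Rpush f).obj ((DCoh.LTensorCx ((pullCx f).obj P)).obj E)) := by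
  have hfP := isKFlat_pullback f P hP
  let E₀ := Q.objPreimage E
  obtain ⟨I, s, hI, hs⟩ := exists_kinj_resolution E₀
  haveI := hI
  haveI := hs
  let eE : Q.obj I ≅ E := (asIso (Q.map s)).symm ≪≫ Q.objObjPreimageIso E
  have hPF : IsIso (Lam f I P) := PF_of_isPerfect f I P hP hperf
  haveI := hPF
  let e1 : (DCoh.LTensorCx P).obj ((DCoh.Rpush f).obj E) ≅
      Q.obj ((DCoh.tensorCx.obj ((pushCx f).obj I)).obj P) :=
    (DCoh.LTensorCx P).mapIso ((DCoh.Rpush f).mapIso eE.symm ≪≫ (asIso (unitAt f I)).symm) ≪≫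
      Groth.Agent.Lib.LpullTensH3.ltIsoRight P ((pushCx f).obj I) hP
  let e2 : (DCoh.Rpush f).obj ((DCoh.LTensorCx ((pullCx f).obj P)).obj E) ≅
      (DCoh.Rpush f).obj (Q.obj ((DCoh.tensorCx.obj I).obj ((pullCx f).obj P))) :=
    (DCoh.Rpush f).mapIso ((DCoh.LTensorCx ((pullCx f).obj P)).mapIso eE.symm ≪≫
      Groth.Agent.Lib.LpullTensH3.ltIsoRight ((pullCx f).obj P) I hfP)
  exact ⟨e1 ≪≫ asIso (Lam f I P) ≪≫ e2.symm⟩

end Main

end

end Groth.Agent.Lib.PjCxH3
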