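import Mathlib
import Groth.Prelude
import Groth.Agent.Lib.PjCx7_helper3
import Groth.Agent.Lib.Horseshoe_helper3

/-!
# Two-out-of-three for the projection formula along degreewise split sequences (helper3)

For a degreewise split short exact sequence `0 ⟶ P' ⟶ P ⟶ P'' ⟶ 0` of complexes on `Y`, if the
derived projection morphism `Lam f I -` is an isomorphism for two of the three complexes, it is one
for the third.
-/

set_option autoImplicit false
set_option linter.all false
set_option maxHeartbeats 1600000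
set_option backward.isDefEq.respectTransparency false
set_option backward.isDefEq.respectTransparency.types false
set_option backward.defeqAttrib.useBackward true

universe u
open CategoryTheory CategoryTheory.Limits AlgebraicGeometry Opposite TopologicalSpace

attribute [local instance] HasDerivedCategory.standard

namespace Groth.Agent.Lib.PjCxH3

open Groth.Agent.Lib.ProjFormulaH3 Groth.Agent.Lib.LpullLocH3 Groth.Agent.Lib.TotalMap
open DerivedCategory Groth.Agent.Lib.MVPushL Groth.Agent.Lib.KInjSplitH3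
open Groth.Agent.Lib.HorseshoeH3

noncomputable section

/-- a degreewise split sequence of complexes is short exact -/
lemma shortExact_of_splitting {C : Type*} [Category C] [Abelian C]
    (S : ShortComplex (CochainComplex C ℤ))
    (σ : ∀ n, (S.map (HomologicalComplex.eval C _ n)).Splitting) : S.ShortExact :=
  HomologicalComplex.shortExact_of_degreewise_shortExact S (fun n => (σ n).shortExact)

/-- termwise functors preserve degreewise splittings -/
def splittingMapHC {C D : Type*} [Category C] [Abelian C] [Category D] [Abelian D]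
    (F : C ⥤ D) [F.Additive] (S : ShortComplex (CochainComplex C ℤ))
    (σ : ∀ n, (S.map (HomologicalComplex.eval C _ n)).Splitting) (n : ℤ) :
    ((S.map (F.mapHomologicalComplex (ComplexShape.up ℤ))).map
      (HomologicalComplex.eval D _ n)).Splitting :=
  (σ n).map F

variable {X Y : Scheme.{u}} (f : X ⟶ Y) [DCoh.HasRpush f] (I : CochainComplex X.Modules ℤ)

section

variable (S : ShortComplex (CochainComplex Y.Modules ℤ))
  (σ : ∀ n, (S.map (HomologicalComplex.eval Y.Modules _ n)).Splitting)

/-- the sequence `f_* I ⊗ S` -/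
abbrev scA : ShortComplex (CochainComplex Y.Modules ℤ) :=
  S.map (DCoh.tensorCx.obj ((pushCx f).obj I))

/-- the sequence `I ⊗ f^* S` -/
abbrev scC : ShortComplex (CochainComplex X.Modules ℤ) :=
  (S.map (pullCx f)).map (DCoh.tensorCx.obj I)

include σ in
lemma scA_shortExact : (scA f I S).ShortExact :=
  shortExact_of_splitting _ (splittingOfAction (actI ((pushCx f).obj I)) S σ)

include σ in
lemma scC_shortExact : (scC f I S).ShortExact :=
  shortExact_of_splitting _ (splittingOfAction (actI I) (S.map (pullCx f))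
    (splittingMapHC (Scheme.Modules.pullback f) S σ))

include σ in
/-- the comparison of short exact sequences -/
theorem exists_comparison :
    ∃ (SB : ShortComplex (CochainComplex Y.Modules ℤ)) (lam : scA f I S ⟶ SB), SB.ShortExact ∧
      (PF f I S.X₁ ↔ QuasiIso lam.τ₁) ∧ (PF f I S.X₂ ↔ QuasiIso lam.τ₂) ∧
      (PF f I S.X₃ ↔ QuasiIso lam.τ₃) := by
  haveI := grothendieck_modules X
  obtain ⟨T, φ, hT, hk1, hk2, hk3, hq1, hq2, hq3, hσT⟩ :=
    horseshoe (scC f I S) (scC_shortExact f I S σ)
  have hSB : (T.map (pushCx f)).ShortExact :=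
    shortExact_of_splitting _
      (splittingMapHC (Scheme.Modules.pushforward f) T (fun n => (hσT n).some))
  have c12 : φ.τ₁ ≫ T.f = (DCoh.tensorCx.obj I).map ((pullCx f).map S.f) ≫ φ.τ₂ := φ.comm₁₂
  have c23 : φ.τ₂ ≫ T.g = (DCoh.tensorCx.obj I).map ((pullCx f).map S.g) ≫ φ.τ₃ := φ.comm₂₃
  let lam : scA f I S ⟶ T.map (pushCx f) :=
    { τ₁ := pjCx f I S.X₁ ≫ (pushCx f).map φ.τ₁
      τ₂ := pjCx f I S.X₂ ≫ (pushCx f).map φ.τ₂
      τ₃ := pjCx f I S.X₃ ≫ (pushCx f).map φ.τ₃
      comm₁₂ := by
        show (pjCx f I S.X₁ ≫ (pushCx f).map φ.τ₁) ≫ (pushCx f).map T.f =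
          (DCoh.tensorCx.obj ((pushCx f).obj I)).map S.f ≫ pjCx f I S.X₂ ≫ (pushCx f).map φ.τ₂
        rw [Category.assoc, ← Functor.map_comp, c12, Functor.map_comp,
          ← Category.assoc (pjCx f I S.X₁), ← pjCx_natural_right, Category.assoc]
      comm₂₃ := by
        show (pjCx f I S.X₂ ≫ (pushCx f).map φ.τ₂) ≫ (pushCx f).map T.g =
          (DCoh.tensorCx.obj ((pushCx f).obj I)).map S.g ≫ pjCx f I S.X₃ ≫ (pushCx f).map φ.τ₃
        rw [Category.assoc, ← Functor.map_comp, c23, Functor.map_comp,
          ← Category.assoc (pjCx f I S.X₂), ← pjCx_natural_right, Category.assoc] }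
  refine ⟨T.map (pushCx f), lam, hSB, ?_, ?_, ?_⟩
  · haveI := hk1
    haveI := hq1
    exact PF_iff f I S.X₁ φ.τ₁
  · haveI := hk2
    haveI := hq2
    exact PF_iff f I S.X₂ φ.τ₂
  · haveI := hk3
    haveI := hq3
    exact PF_iff f I S.X₃ φ.τ₃

include σ in
/-- **two-out-of-three for `PF`** -/
theorem PF_two_of_three :
    (PF f I S.X₁ → PF f I S.X₃ → PF f I S.X₂) ∧ (PF f I S.X₁ → PF f I S.X₂ → PF f I S.X₃) ∧
      (PF f I S.X₂ → PF f I S.X₃ → PF f I S.X₁) := by
  obtain ⟨SB, lam, hSB, h1, h2, h3⟩ := exists_comparison f I S σ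
  have hSA := scA_shortExact f I S σ
  refine ⟨fun a c => h2.2 (quasiIso_τ₂ lam hSA hSB (h1.1 a) (h3.1 c)),
    fun a b => h3.2 (HomologicalComplex.HomologySequence.quasiIso_τ₃ lam hSA hSB (h1.1 a) (h2.1 b)),
    fun b c => h1.2 (quasiIso_τ₁ lam hSA hSB (h2.1 b) (h3.1 c))⟩

end

end

end Groth.Agent.Lib.PjCxH3
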