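import Mathlib
import Groth.Prelude
import Groth.Agent.Lib.PjCx8_helper3
import Groth.Agent.Lib.DerCoprod_lead
import Groth.Agent.Lib.ModSite7_helper8

/-!
# Tensor products and pullbacks of complexes commute with coproducts (helper3)

* `sigT A P : ⨁_j Tot (A ⊗ P_j) ⟶ Tot (A ⊗ ⨁_j P_j)` is an isomorphism of complexes;
* `sigPull f P : ⨁_j f^* P_j ⟶ f^* ⨁_j P_j` is an isomorphism of complexes.
-/

set_option autoImplicit false
set_option linter.all false
set_option maxHeartbeats 1600000
set_option backward.isDefEq.respectTransparency false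
set_option backward.isDefEq.respectTransparency.types false
set_option backward.defeqAttrib.useBackward true

universe u
open CategoryTheory CategoryTheory.Limits AlgebraicGeometry Opposite TopologicalSpace

attribute [local instance] HasDerivedCategory.standard

namespace Groth.Agent.Lib.PjCxH3

open Groth.Agent.Lib.ProjFormulaH3 Groth.Agent.Lib.LpullLocH3 Groth.Agent.Lib.TotalMap
open DerivedCategory Groth.Agent.Lib.MVPushL Groth.Agent.Lib.KInjSplitH3

noncomputable section

section Sigma

variable {T : Scheme.{u}} {J : Type u}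

instance preservesCoprod_tensorBi_obj (M : T.Modules) :
    PreservesColimitsOfShape (Discrete J) ((DCoh.tensorBi (X := T)).obj M) :=
  (Groth.Agent.Lib.ModSiteH8.preservesColimits_obj (O := T.sheaf) M).preservesColimitsOfShape

variable (A : CochainComplex T.Modules ℤ) (P : J → CochainComplex T.Modules ℤ)

/-- the canonical map `⨁_j Tot (A ⊗ P_j) ⟶ Tot (A ⊗ ⨁_j P_j)` -/
def sigT : DerCoprod.sigma (fun j => (DCoh.tensorCx.obj A).obj (P j)) ⟶
    (DCoh.tensorCx.obj A).obj (DerCoprod.sigma P) :=
  DerCoprod.desc (fun j => (DCoh.tensorCx.obj A).map (DerCoprod.ι P j))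

@[reassoc]
lemma ι_sigT (j : J) : DerCoprod.ι (fun j => (DCoh.tensorCx.obj A).obj (P j)) j ≫ sigT A P =
    (DCoh.tensorCx.obj A).map (DerCoprod.ι P j) :=
  DerCoprod.ι_desc _ j

/-- `A^p ⊗ ⨁_j P_j^q` is the coproduct of the `A^p ⊗ P_j^q` -/
def cofPQ (p q : ℤ) : IsColimit (Cofan.mk
    (((DCoh.tensorBi (X := T)).obj (A.X p)).obj ((DerCoprod.sigma P).X q))
    (fun j => tR (A.X p) (DerCoprod.ιX P q j))) :=
  isColimitCofanMkObjOfIsColimit ((DCoh.tensorBi (X := T)).obj (A.X p)) _ _
    (coproductIsCoproduct (fun j => (P j).X q))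

/-- components of the inverse -/
def sigTinvPQ (p q n : ℤ) (h : p + q = n) :
    ((DCoh.tensorBi (X := T)).obj (A.X p)).obj ((DerCoprod.sigma P).X q) ⟶
      (DerCoprod.sigma (fun j => (DCoh.tensorCx.obj A).obj (P j))).X n :=
  Cofan.IsColimit.desc (cofPQ A P p q) (fun j =>
    CochainComplex.ιMapBifunctor A (P j) (DCoh.tensorBi (X := T)) p q n h ≫
      DerCoprod.ιX (fun j => (DCoh.tensorCx.obj A).obj (P j)) n j)

lemma tR_sigTinvPQ (p q n : ℤ) (h : p + q = n) (j : J) :
    tR (A.X p) (DerCoprod.ιX P q j) ≫ sigTinvPQ A P p q n h =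
      CochainComplex.ιMapBifunctor A (P j) (DCoh.tensorBi (X := T)) p q n h ≫
        DerCoprod.ιX (fun j => (DCoh.tensorCx.obj A).obj (P j)) n j :=
  Cofan.IsColimit.fac (cofPQ A P p q) _ j

/-- the inverse in degree `n` -/
def sigTinv (n : ℤ) : ((DCoh.tensorCx.obj A).obj (DerCoprod.sigma P)).X n ⟶
    (DerCoprod.sigma (fun j => (DCoh.tensorCx.obj A).obj (P j))).X n :=
  HomologicalComplex.mapBifunctorDesc (fun p q hpq => sigTinvPQ A P p q n hpq)

lemma ι_sigTinv (p q n : ℤ) (h : p + q = n) :
    CochainComplex.ιMapBifunctor A (DerCoprod.sigma P) (DCoh.tensorBi (X := T)) p q n h ≫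
      sigTinv A P n = sigTinvPQ A P p q n h := by
  erw [HomologicalComplex.ι_mapBifunctorDesc]

instance isIso_sigT : IsIso (sigT A P) := by
  haveI : ∀ n, IsIso ((sigT A P).f n) := fun n => by
    refine ⟨sigTinv A P n, ?_, ?_⟩
    · apply DerCoprod.homX_ext
      intro j
      apply HomologicalComplex.mapBifunctor.hom_ext
      intro p q hpq
      have hpq' : p + q = n := hpq
      have h1 : DerCoprod.ιX (fun j => (DCoh.tensorCx.obj A).obj (P j)) n j ≫ (sigT A P).f n =
          ((DCoh.tensorCx.obj A).map (DerCoprod.ι P j)).f n := by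
        rw [← DerCoprod.ι_f, ← HomologicalComplex.comp_f, ι_sigT]
      rw [Category.comp_id, reassoc_of% h1]
      have h2 := ι_tensorCx_map_right A (DerCoprod.ι P j) p q n hpq'
      erw [reassoc_of% h2]
      rw [ι_sigTinv, DerCoprod.ι_f, tR_sigTinvPQ]
    · apply HomologicalComplex.mapBifunctor.hom_ext
      intro p q hpq
      have hpq' : p + q = n := hpq
      erw [reassoc_of% (ι_sigTinv A P p q n hpq'), Category.comp_id]
      apply Cofan.IsColimit.hom_ext (cofPQ A P p q)
      intro j
      show tR (A.X p) (DerCoprod.ιX P q j) ≫ sigTinvPQ A P p q n hpq' ≫ (sigT A P).f n =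
        tR (A.X p) (DerCoprod.ιX P q j) ≫
          CochainComplex.ιMapBifunctor A (DerCoprod.sigma P) (DCoh.tensorBi (X := T)) p q n hpq'
      rw [reassoc_of% (tR_sigTinvPQ A P p q n hpq' j)]
      have h1 : DerCoprod.ιX (fun j => (DCoh.tensorCx.obj A).obj (P j)) n j ≫ (sigT A P).f n =
          ((DCoh.tensorCx.obj A).map (DerCoprod.ι P j)).f n := by
        rw [← DerCoprod.ι_f, ← HomologicalComplex.comp_f, ι_sigT]
      rw [h1]
      have h2 := ι_tensorCx_map_right A (DerCoprod.ι P j) p q n hpq'
      erw [h2]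
      rw [DerCoprod.ι_f]
  exact HomologicalComplex.Hom.isIso_of_components _

end Sigma

section SigmaPull

variable {X Y : Scheme.{u}} (f : X ⟶ Y) {J : Type u} (P : J → CochainComplex Y.Modules ℤ)

instance preservesCoprod_pullback :
    PreservesColimitsOfShape (Discrete J) (Scheme.Modules.pullback f) :=
  ((Scheme.Modules.pullbackPushforwardAdjunction f).leftAdjoint_preservesColimits).preservesColimitsOfShape

/-- the canonical map `⨁_j f^* P_j ⟶ f^* ⨁_j P_j` -/
def sigPull : DerCoprod.sigma (fun j => (pullCx f).obj (P j)) ⟶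
    (pullCx f).obj (DerCoprod.sigma P) :=
  DerCoprod.desc (fun j => (pullCx f).map (DerCoprod.ι P j))

@[reassoc]
lemma ι_sigPull (j : J) : DerCoprod.ι (fun j => (pullCx f).obj (P j)) j ≫ sigPull f P =
    (pullCx f).map (DerCoprod.ι P j) :=
  DerCoprod.ι_desc _ j

instance isIso_sigPull : IsIso (sigPull f P) := by
  haveI : ∀ n, IsIso ((sigPull f P).f n) := fun n => by
    have h : (sigPull f P).f n =
        sigmaComparison (Scheme.Modules.pullback f) (fun j => (P j).X n) := by
      apply DerCoprod.homX_ext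
      intro j
      have h1 : DerCoprod.ιX (fun j => (pullCx f).obj (P j)) n j ≫ (sigPull f P).f n =
          ((pullCx f).map (DerCoprod.ι P j)).f n := DerCoprod.ιX_descX _ n _ j
      rw [h1]
      exact (ι_comp_sigmaComparison (Scheme.Modules.pullback f) (fun j => (P j).X n) j).symm
    rw [h]
    infer_instance
  exact HomologicalComplex.Hom.isIso_of_components _

end SigmaPull

end

end Groth.Agent.Lib.PjCxH3
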