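import Mathlib
import Groth.Prelude
import Groth.Agent.Lib.PjCx9_helper3
import Groth.Agent.Lib.CompQ2_lead
import Groth.Agent.Lib.QCohSigma1_lead
import Groth.Agent.Lib.LpullQC_lead
import Groth.Agent.Lib.LTensQC_lead

/-!
# The projection formula is stable under coproducts (helper3)

`PF_sigma`: for `f` quasi-compact and quasi-separated, `I` with quasi-coherent cohomology and a
family `P_j` of K-flat complexes with quasi-coherent cohomology on `Y`, if `PF f I (P_j)` holds for
all `j` then `PF f I (⨁_j P_j)` holds.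
-/

set_option autoImplicit false
set_option linter.all false
set_option maxHeartbeats 1600000
set_option backward.isDefEq.respectTransparency false
set_option backward.isDefEq.respectTransparency.types false
set_option backward.defeqAttrib.useBackward true

universe u
open CategoryTheory CategoryTheory.Limits AlgebraicGeometry Opposite TopologicalSpace

attribute [local instance] HasDerivedCategory.standard

namespace Groth.Agent.Lib.PjCxH3

open Groth.Agent.Lib.ProjFormulaH3 Groth.Agent.Lib.LpullLocH3 Groth.Agent.Lib.TotalMap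
open Groth.Agent.Lib.StalkSkyL DerivedCategory Groth.Agent.Lib.PushCxAcycH3
open Groth.Agent.Lib.MVPushL Groth.Agent.Lib.StalkTensH3 FLFH8 QCohExtn
open Groth.Agent.Lib.KInjSplitH3

noncomputable section

section Nat

variable {X Y : Scheme.{u}} (f : X ⟶ Y) [DCoh.HasRpush f] (I : CochainComplex X.Modules ℤ)

/-- naturality of the derived projection morphism in the second variable -/
lemma Lam_natural_right {P P' : CochainComplex Y.Modules ℤ} (ψ : P ⟶ P') :
    Q.map ((DCoh.tensorCx.obj ((pushCx f).obj I)).map ψ) ≫ Lam f I P' =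
      Lam f I P ≫ (DCoh.Rpush f).map (Q.map ((DCoh.tensorCx.obj I).map ((pullCx f).map ψ))) := by
  unfold Lam
  rw [← Category.assoc, ← Functor.map_comp, pjCx_natural_right, Functor.map_comp, Category.assoc,
    unitAt_naturality, Category.assoc]

end Nat

section Cofans

variable {T : Scheme.{u}} {J : Type u} (A : CochainComplex T.Modules ℤ)
  (P : J → CochainComplex T.Modules ℤ)

/-- `Q (Tot (A ⊗ ⨁ P_j))` is the coproduct of the `Q (Tot (A ⊗ P_j))` -/
def cofA : IsColimit (Cofan.mk (Q.obj ((DCoh.tensorCx.obj A).obj (DerCoprod.sigma P)))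
    (fun j => Q.map ((DCoh.tensorCx.obj A).map (DerCoprod.ι P j)))) :=
  (DerCoprod.isColimitCofan (fun j => (DCoh.tensorCx.obj A).obj (P j))
    (Groth.Agent.Lib.QCohSigmaL.exists_kInj T)).ofIsoColimit
    (Cofan.ext (Q.mapIso (asIso (sigT A P))) (fun j => by
      show Q.map (DerCoprod.ι (fun j => (DCoh.tensorCx.obj A).obj (P j)) j) ≫ Q.map (sigT A P) =
        Q.map ((DCoh.tensorCx.obj A).map (DerCoprod.ι P j))
      rw [← Functor.map_comp, ι_sigT]))

end Cofans

section Main

variable {X Y : Scheme.{u}} (f : X ⟶ Y) [DCoh.HasRpush f] (I : CochainComplex X.Modules ℤ)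
  {J : Type u} (P : J → CochainComplex Y.Modules ℤ)

/-- `Q (Tot (I ⊗ f^* ⨁ P_j))` is the coproduct of the `Q (Tot (I ⊗ f^* P_j))` -/
def cofC : IsColimit (Cofan.mk
    (Q.obj ((DCoh.tensorCx.obj I).obj ((pullCx f).obj (DerCoprod.sigma P))))
    (fun j => Q.map ((DCoh.tensorCx.obj I).map ((pullCx f).map (DerCoprod.ι P j))))) :=
  (cofA I (fun j => (pullCx f).obj (P j))).ofIsoColimit
    (Cofan.ext (Q.mapIso ((DCoh.tensorCx.obj I).mapIso (asIso (sigPull f P)))) (fun j => by
      show Q.map ((DCoh.tensorCx.obj I).map (DerCoprod.ι (fun j => (pullCx f).obj (P j)) j)) ≫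
          Q.map ((DCoh.tensorCx.obj I).map (sigPull f P)) =
        Q.map ((DCoh.tensorCx.obj I).map ((pullCx f).map (DerCoprod.ι P j)))
      rw [← Functor.map_comp, ← Functor.map_comp, ι_sigPull]))

/-- quasi-coherence of `I ⊗ f^* P` -/
lemma isQCohD_tensor_pull (hI : DCoh.IsQCohD (Q.obj I)) (R : CochainComplex Y.Modules ℤ)
    (hR : DCoh.IsKFlat R) (hRq : DCoh.IsQCohD (Q.obj R)) :
    DCoh.IsQCohD (Q.obj ((DCoh.tensorCx.obj I).obj ((pullCx f).obj R))) := by
  haveI := Groth.Agent.Lib.LpullExH3.hasLpull f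
  have h1 : DCoh.IsQCohD (Q.obj ((pullCx f).obj R)) :=
    Groth.Agent.Lib.DSectX.isQCohD_of_iso (LpullQIso f R hR)
      (Groth.Agent.Lib.LpullQCL.main1054 f _ hRq)
  exact Groth.Agent.Lib.LTensQCL.qc_tensor_symm _ _
    (Groth.Agent.Lib.LTensQCL.qc_tensor _ I (isKFlat_pullback f R hR) h1 hI)

/-- **`PF` is stable under coproducts** -/
theorem PF_sigma [QuasiCompact f] [QuasiSeparated f] (hI : DCoh.IsQCohD (Q.obj I))
    (hP : ∀ j, DCoh.IsKFlat (P j)) (hPq : ∀ j, DCoh.IsQCohD (Q.obj (P j)))
    (h : ∀ j, PF f I (P j)) : PF f I (DerCoprod.sigma P) := by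
  haveI : ∀ j, IsIso (Lam f I (P j)) := h
  have hc' := Groth.Agent.Lib.CompQL.cofanPrecomp (cofA ((pushCx f).obj I) P)
    (fun j => (asIso (Lam f I (P j))).symm)
  refine Groth.Agent.Lib.CompQL.main1000 f
    (fun j => Q.obj ((DCoh.tensorCx.obj I).obj ((pullCx f).obj (P j))))
    (fun j => isQCohD_tensor_pull f I hI (P j) (hP j) (hPq j)) _ _ (cofC f I P) _ _ hc'
    (Lam f I (DerCoprod.sigma P)) (fun j => ?_)
  show (inv (Lam f I (P j)) ≫
      Q.map ((DCoh.tensorCx.obj ((pushCx f).obj I)).map (DerCoprod.ι P j))) ≫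
      Lam f I (DerCoprod.sigma P) = _
  rw [Category.assoc, Lam_natural_right, IsIso.inv_hom_id_assoc]

end Main

end

end Groth.Agent.Lib.PjCxH3
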