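import Mathlib
import Groth.Agent.Lib.DerCoprod_lead
import Groth.Agent.Lib.BrutalTrunc_helper2

/-!
# The telescope sequence of the brutal truncations of a complex (helper3)

* `φ_r`, `s_π`, `r_φ_add`: for a sequence `G 0 ⟶ G 1 ⟶ ⋯` in a preadditive category with
  compatible maps `u n : G n ⟶ M` which are isomorphisms for `n ≥ N`, the `G n` being zero for
  `n < N`, the telescope sequence `∐ G ⟶ ∐ G ⟶ M` is split.
* `telSc L b`: the telescope sequence `⨁ₙ σ_{≥ b - n} L ⟶ ⨁ₙ σ_{≥ b - n} L ⟶ L` of complexes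
  (indexed by `ULift ℕ`), and `telSplitting`: it is degreewise split.
-/

set_option autoImplicit false
set_option linter.all false
set_option maxHeartbeats 1600000

open CategoryTheory Limits

namespace Groth.Agent.Lib.TelescopeH3

section Abstract

variable {𝒜 : Type*} [Category 𝒜] [Preadditive 𝒜] (G : ℕ → 𝒜) {S : 𝒜} (e : ∀ n, G n ⟶ S)
  (hc : IsColimit (Cofan.mk S e))
  (t : ∀ n, G n ⟶ G (n + 1)) {M : 𝒜} (u : ∀ n, G n ⟶ M) (hu : ∀ n, t n ≫ u (n + 1) = u n)
  (N : ℕ) (hz : ∀ n, n < N → IsZero (G n)) (hi : ∀ n, N ≤ n → IsIso (u n))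
  (φ : S ⟶ S) (π : S ⟶ M)
  (hφ : ∀ n, e n ≫ φ = e n - t n ≫ e (n + 1))
  (hπ : ∀ n, e n ≫ π = u n)

open Classical in
/-- the inverses of the `u k` for `k ≥ N` -/
noncomputable def w (k : ℕ) : M ⟶ G k :=
  if h : N ≤ k then @inv _ _ _ _ (u k) (hi k h) else 0

include hi in
lemma u_w (k : ℕ) (h : N ≤ k) : u k ≫ w G u N hi k = 𝟙 _ := by
  haveI := hi k h
  unfold w
  rw [dif_pos h, IsIso.hom_inv_id]

lemma w_u (k : ℕ) (h : N ≤ k) : w G u N hi k ≫ u k = 𝟙 _ := by
  haveI := hi k h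
  unfold w
  rw [dif_pos h, IsIso.inv_hom_id]

include hu in
lemma w_t (k : ℕ) (h : N ≤ k) : w G u N hi k ≫ t k = w G u N hi (k + 1) := by
  haveI := hi (k + 1) (by omega)
  rw [← cancel_mono (u (k + 1)), Category.assoc, hu, w_u G u N hi k h,
    w_u G u N hi (k + 1) (by omega)]

/-- the terms of the retraction -/
noncomputable def a (n j : ℕ) : G n ⟶ S :=
  u n ≫ w G u N hi (N + j) ≫ e (N + j)

/-- the components of the retraction -/
noncomputable def rr (n : ℕ) : G n ⟶ S :=
  - ∑ j ∈ Finset.range (n - N), a G e u N hi n j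

/-- the retraction -/
noncomputable def r : S ⟶ S := Cofan.IsColimit.desc hc (rr G e u N hi)

lemma e_r (n : ℕ) : e n ≫ r G e hc u N hi = rr G e u N hi n :=
  Cofan.IsColimit.fac hc _ n

/-- the section -/
noncomputable def s : M ⟶ S := w G u N hi N ≫ e N

include hπ in
lemma s_π : s G e u N hi ≫ π = 𝟙 _ := by
  unfold s
  rw [Category.assoc, hπ, w_u G u N hi N (le_refl N)]

include hu in
lemma t_a (n j : ℕ) : t n ≫ a G e u N hi (n + 1) j = a G e u N hi n j := by
  unfold a
  rw [reassoc_of% (hu n)]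

include hu hz hφ in
lemma φ_r : φ ≫ r G e hc u N hi = 𝟙 _ := by
  apply Cofan.IsColimit.hom_ext hc
  intro n
  show e n ≫ φ ≫ r G e hc u N hi = e n ≫ 𝟙 _
  rw [reassoc_of% (hφ n), Category.comp_id]
  by_cases h : n < N
  · exact (hz n h).eq_of_src _ _
  · have hN : N ≤ n := by omega
    rw [Preadditive.sub_comp, Category.assoc, e_r, e_r]
    unfold rr
    rw [Preadditive.comp_neg, Preadditive.comp_sum, Nat.succ_sub hN, Finset.sum_range_succ]
    have h1 : ∀ j, t n ≫ a G e u N hi (n + 1) j = a G e u N hi n j := t_a G e t u hu N hi n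
    simp only [h1]
    have h2 : a G e u N hi n (n - N) = e n := by
      unfold a
      have h3 : N + (n - N) = n := by omega
      rw [h3, reassoc_of% (u_w G u N hi n hN)]
    rw [h2]
    abel

include hu hz hφ hπ in
lemma r_φ_add : r G e hc u N hi ≫ φ + π ≫ s G e u N hi = 𝟙 _ := by
  apply Cofan.IsColimit.hom_ext hc
  intro n
  show e n ≫ (r G e hc u N hi ≫ φ + π ≫ s G e u N hi) = e n ≫ 𝟙 _
  rw [Category.comp_id, Preadditive.comp_add, reassoc_of% (hπ n)]
  by_cases h : n < N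
  · exact (hz n h).eq_of_src _ _
  · have hN : N ≤ n := by omega
    rw [reassoc_of% (e_r G e hc u N hi n)]
    unfold rr
    rw [Preadditive.neg_comp, Preadditive.sum_comp]
    have h1 : ∀ j, a G e u N hi n j ≫ φ = a G e u N hi n j - a G e u N hi n (j + 1) := by
      intro j
      unfold a
      rw [Category.assoc, Category.assoc, hφ, Preadditive.comp_sub, Preadditive.comp_sub,
        ← Category.assoc (w G u N hi (N + j)), w_t G t u hu N hi (N + j) (by omega)]
      rfl
    simp only [h1]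
    rw [Finset.sum_range_sub']
    have h2 : a G e u N hi n (n - N) = e n := by
      unfold a
      have h3 : N + (n - N) = n := by omega
      rw [h3, reassoc_of% (u_w G u N hi n hN)]
    have h0 : a G e u N hi n 0 = u n ≫ s G e u N hi := rfl
    rw [h2, h0]
    abel

end Abstract

section Reindex

universe w

variable {𝒜 : Type*} [Category 𝒜] (G : ℕ → 𝒜) [HasCoproduct (fun j : ULift.{w} ℕ => G j.down)]

/-- the coproduct indexed by `ULift ℕ` as a coproduct indexed by `ℕ` -/
noncomputable def isColimitULift : IsColimit (Cofan.mk (∐ fun j : ULift.{w} ℕ => G j.down)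
    (fun n => Sigma.ι (fun j : ULift.{w} ℕ => G j.down) ⟨n⟩)) :=
  mkCofanColimit _
    (fun t => Limits.Sigma.desc (f := fun j : ULift.{w} ℕ => G j.down) (fun j => t.inj j.down))
    (fun t n => Limits.Sigma.ι_desc (f := fun j : ULift.{w} ℕ => G j.down) _ _)
    (fun t m hm => by
      refine Limits.Sigma.hom_ext (f := fun j : ULift.{w} ℕ => G j.down) _ _ (fun j => ?_)
      rw [Limits.Sigma.ι_desc]
      exact hm j.down)

end Reindex

section Cx

universe w

open Groth.Agent.Lib.BrutalTrunc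

variable {A : Type*} [Category A] [Abelian A] [HasCoproducts.{w} A]
  (L : CochainComplex A ℤ) (b : ℤ)

/-- the tower of brutal truncations -/
noncomputable abbrev F (n : ℕ) : CochainComplex A ℤ := sigmaGE L (b - n)

/-- the tower indexed by `ULift ℕ` -/
noncomputable abbrev F' (j : ULift.{w} ℕ) : CochainComplex A ℤ := F L b j.down

/-- the transition maps -/
noncomputable abbrev tF (n : ℕ) : F L b n ⟶ F L b (n + 1) :=
  trans L (show b - ((n + 1 : ℕ) : ℤ) ≤ b - (n : ℤ) by push_cast; omega)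

lemma tF_incl (n : ℕ) : tF L b n ≫ incl L (b - ((n + 1 : ℕ) : ℤ)) = incl L (b - (n : ℤ)) :=
  trans_incl L _

/-- `1 - shift` -/
noncomputable def telφ : DerCoprod.sigma (F'.{w} L b) ⟶ DerCoprod.sigma (F'.{w} L b) :=
  DerCoprod.desc (fun j => DerCoprod.ι (F'.{w} L b) j -
    tF L b j.down ≫ DerCoprod.ι (F'.{w} L b) ⟨j.down + 1⟩)

/-- the canonical map to `L` -/
noncomputable def telπ : DerCoprod.sigma (F'.{w} L b) ⟶ L :=
  DerCoprod.desc (fun j => incl L (b - (j.down : ℤ)))

lemma telφ_π : telφ.{w} L b ≫ telπ.{w} L b = 0 := by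
  apply DerCoprod.hom_ext
  intro j
  unfold telφ telπ
  rw [DerCoprod.ι_desc_assoc, Preadditive.sub_comp, Category.assoc, DerCoprod.ι_desc,
    DerCoprod.ι_desc]
  show incl L (b - (j.down : ℤ)) - tF L b j.down ≫ incl L (b - ((j.down + 1 : ℕ) : ℤ)) = _
  rw [tF_incl, sub_self, comp_zero]

/-- the telescope sequence -/
noncomputable def telSc : ShortComplex (CochainComplex A ℤ) :=
  ShortComplex.mk (telφ.{w} L b) (telπ.{w} L b) (telφ_π L b)

lemma ιX_telφ (i : ℤ) (n : ℕ) :
    Sigma.ι (fun j : ULift.{w} ℕ => (F' L b j).X i) ⟨n⟩ ≫ (telφ.{w} L b).f i =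
      Sigma.ι (fun j : ULift.{w} ℕ => (F' L b j).X i) ⟨n⟩ -
        (tF L b n).f i ≫ Sigma.ι (fun j : ULift.{w} ℕ => (F' L b j).X i) ⟨n + 1⟩ := by
  have h := DerCoprod.ιX_descX (F'.{w} L b) i
    (fun j => (DerCoprod.ι (F'.{w} L b) j -
      tF L b j.down ≫ DerCoprod.ι (F'.{w} L b) ⟨j.down + 1⟩).f i) ⟨n⟩
  exact h

lemma ιX_telπ (i : ℤ) (n : ℕ) :
    Sigma.ι (fun j : ULift.{w} ℕ => (F' L b j).X i) ⟨n⟩ ≫ (telπ.{w} L b).f i =
      (incl L (b - (n : ℤ))).f i :=
  DerCoprod.ιX_descX (F'.{w} L b) i (fun j => (incl L (b - (j.down : ℤ))).f i) ⟨n⟩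

/-- **the telescope sequence is degreewise split** -/
noncomputable def telSplitting (i : ℤ) :
    ((telSc.{w} L b).map (HomologicalComplex.eval A (ComplexShape.up ℤ) i)).Splitting := by
  have hu : ∀ n : ℕ, (tF L b n).f i ≫ (incl L (b - ((n + 1 : ℕ) : ℤ))).f i =
      (incl L (b - (n : ℤ))).f i := fun n => by
    rw [← HomologicalComplex.comp_f, tF_incl]
  have hz : ∀ n : ℕ, n < (b - i).toNat → IsZero ((F L b n).X i) := fun n hn =>
    isZero_sigmaGE_X L (by omega)
  have hi : ∀ n : ℕ, (b - i).toNat ≤ n → IsIso ((incl L (b - (n : ℤ))).f i) := fun n hn =>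
    isIso_ι L (by omega)
  have hc := isColimitULift.{w} (fun n => (F L b n).X i)
  exact
    { r := r (fun n => (F L b n).X i) _ hc (fun n => (incl L (b - (n : ℤ))).f i) (b - i).toNat hi
      s := s (fun n => (F L b n).X i) (fun n => Sigma.ι (fun j : ULift.{w} ℕ => (F' L b j).X i) ⟨n⟩)
        (fun n => (incl L (b - (n : ℤ))).f i) (b - i).toNat hi
      f_r := φ_r (fun n => (F L b n).X i) _ hc (fun n => (tF L b n).f i)
        (fun n => (incl L (b - (n : ℤ))).f i) hu (b - i).toNat hz hi ((telφ.{w} L b).f i)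
        (ιX_telφ L b i)
      s_g := s_π (fun n => (F L b n).X i) _ (fun n => (incl L (b - (n : ℤ))).f i) (b - i).toNat hi
        ((telπ.{w} L b).f i) (ιX_telπ L b i)
      id := r_φ_add (fun n => (F L b n).X i) _ hc (fun n => (tF L b n).f i)
        (fun n => (incl L (b - (n : ℤ))).f i) hu (b - i).toNat hz hi ((telφ.{w} L b).f i)
        ((telπ.{w} L b).f i) (ιX_telφ L b i) (ιX_telπ L b i) }

end Cx

end Groth.Agent.Lib.TelescopeH3
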