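import Mathlib
import Groth.Prelude
import Groth.Agent.Lib.PjCx10_helper3
import Groth.Agent.Lib.Telescope_helper3
import Groth.Agent.Lib.FlatQuot1_lead
import Groth.Agent.Lib.DTorCmp4_helper2
import Groth.Agent.Lib.PerfFlat1_lead

/-!
# The projection formula for bounded above complexes of free modules of arbitrary rank (helper3)

* `IsSF M`: `M` is isomorphic to a coproduct of copies of the structure sheaf.
* `PF_bddAbove`: for `f` quasi-compact and quasi-separated, `I` K-injective with quasi-coherent
  cohomology, and `L` a complex on `Y` whose terms are `IsSF`: `PF f I L`.  (No boundedness is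
  needed: the telescope of the brutal truncations `σ_{≥ b - n} L` handles the passage to the
  limit; each truncation must be bounded above, which is the hypothesis `hb`.)
-/

set_option autoImplicit false
set_option linter.all false
set_option maxHeartbeats 1600000
set_option backward.isDefEq.respectTransparency false
set_option backward.isDefEq.respectTransparency.types false
set_option backward.defeqAttrib.useBackward true

universe u
open CategoryTheory CategoryTheory.Limits AlgebraicGeometry Opposite TopologicalSpace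

attribute [local instance] HasDerivedCategory.standard

namespace Groth.Agent.Lib.PjCxH3

open Groth.Agent.Lib.ProjFormulaH3 Groth.Agent.Lib.LpullLocH3 Groth.Agent.Lib.TotalMap
open Groth.Agent.Lib.StalkSkyL DerivedCategory Groth.Agent.Lib.PushCxAcycH3
open Groth.Agent.Lib.MVPushL Groth.Agent.Lib.StalkTensH3 FLFH8 QCohExtn
open Groth.Agent.Lib.KInjSplitH3 Groth.Agent.Lib.BrutalTrunc Groth.Agent.Lib.TelescopeH3

noncomputable section

/-! ### sum-free modules -/

section SF

variable {Y : Scheme.{u}}

/-- isomorphic to a coproduct of copies of the structure sheaf -/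
def IsSF (M : Y.Modules) : Prop :=
  ∃ J : Type u, Nonempty (M ≅ ∐ fun _ : J => Coh.structureModule Y)

lemma IsSF.of_iso {M N : Y.Modules} (e : M ≅ N) (h : IsSF M) : IsSF N := by
  obtain ⟨J, ⟨a⟩⟩ := h
  exact ⟨J, ⟨e.symm ≪≫ a⟩⟩

lemma isZero_sigma_of_isEmpty {J : Type*} [IsEmpty J] (M : J → Y.Modules) [HasCoproduct M] :
    IsZero (∐ M) := by
  rw [IsZero.iff_id_eq_zero]
  apply Limits.Sigma.hom_ext
  intro j
  exact isEmptyElim j

lemma isSF_of_isZero {M : Y.Modules} (h : IsZero M) : IsSF M :=
  ⟨PEmpty, ⟨h.iso (isZero_sigma_of_isEmpty _)⟩⟩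

lemma isSF_unit : IsSF (Coh.structureModule Y) :=
  ⟨PUnit, ⟨(coproductUniqueIso (fun _ : PUnit.{u + 1} => Coh.structureModule Y)).symm⟩⟩

/-- `O ≅ O^1` -/
def eO1 : Coh.structureModule Y ≅ FlatMod.freeMod Y 1 :=
  (coproductUniqueIso (fun _ : Fin 1 => Coh.structureModule Y)).symm

lemma isFlat_unit : FlatMod.IsFlat (Coh.structureModule Y) :=
  Groth.Agent.Lib.DCohLocLead.isFlat_of_isFinLocFree (isFinLocFree_of_iso_free eO1)

lemma IsSF.isFlat {M : Y.Modules} (h : IsSF M) : FlatMod.IsFlat M := by
  obtain ⟨J, ⟨a⟩⟩ := h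
  exact Groth.Agent.Lib.DTorCmp.flatMod_of_iso a.symm
    (Groth.Agent.Lib.FlatQuotL.isFlat_sigma _ (fun _ => isFlat_unit))

lemma IsSF.isQCoh {M : Y.Modules} (h : IsSF M) : M.IsQuasicoherent := by
  obtain ⟨J, ⟨a⟩⟩ := h
  haveI : ∀ _ : J, (Coh.structureModule Y).IsQuasicoherent :=
    fun _ => TensH8.isQuasicoherent_structureModule
  exact (SheafOfModules.isQuasicoherent Y.ringCatSheaf).prop_of_iso a.symm
    (BModH6.isQuasicoherent_sigma (fun _ : J => Coh.structureModule Y))

lemma isSF_sigmaGE (L : CochainComplex Y.Modules ℤ) (hL : ∀ i, IsSF (L.X i)) (m i : ℤ) :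
    IsSF ((sigmaGE L m).X i) := by
  by_cases h : m ≤ i
  · haveI := isIso_ι L h
    exact (hL i).of_iso (asIso (ι L m i)).symm
  · exact isSF_of_isZero (isZero_sigmaGE_X L h)

end SF

/-! ### coproducts of complexes concentrated in one degree -/

section SigmaSingle

variable {Y : Scheme.{u}} {J : Type u}

/-- `DerCoprod.sigma K` is a coproduct in the category of complexes -/
def isColimitSigmaCx (K : J → CochainComplex Y.Modules ℤ) :
    IsColimit (Cofan.mk (DerCoprod.sigma K) (DerCoprod.ι K)) :=
  mkCofanColimit _ (fun t => DerCoprod.desc t.inj) (fun t j => DerCoprod.ι_desc _ j)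
    (fun t m hm => DerCoprod.hom_ext (fun j => (hm j).trans (DerCoprod.ι_desc _ j).symm))

/-- `⨁_j M_j[-a] ≅ (⨁_j M_j)[-a]` -/
def sigmaSingleIso (M : J → Y.Modules) (a : ℤ) :
    DerCoprod.sigma (fun j => (HomologicalComplex.single Y.Modules (ComplexShape.up ℤ) a).obj (M j)) ≅
      (HomologicalComplex.single Y.Modules (ComplexShape.up ℤ) a).obj (∐ M) :=
  IsColimit.coconePointUniqueUpToIso (isColimitSigmaCx _)
    (isColimitCofanMkObjOfIsColimit (HomologicalComplex.single Y.Modules (ComplexShape.up ℤ) a)
      _ _ (coproductIsCoproduct M))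

end SigmaSingle

/-! ### `PF` and isomorphisms -/

section Basic

variable {X Y : Scheme.{u}} (f : X ⟶ Y) [DCoh.HasRpush f] (I : CochainComplex X.Modules ℤ)

lemma PF_of_iso {P P' : CochainComplex Y.Modules ℤ} (e : P ≅ P') (h : PF f I P) : PF f I P' := by
  haveI : IsIso (Lam f I P) := h
  have h1 := Lam_natural_right f I e.hom
  haveI : IsIso (Q.map ((DCoh.tensorCx.obj ((pushCx f).obj I)).map e.hom)) := inferInstance
  have h2 : Lam f I P' = inv (Q.map ((DCoh.tensorCx.obj ((pushCx f).obj I)).map e.hom)) ≫
      Lam f I P ≫ (DCoh.Rpush f).map (Q.map ((DCoh.tensorCx.obj I).map ((pullCx f).map e.hom))) := by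
    rw [← h1, IsIso.inv_hom_id_assoc]
  show IsIso (Lam f I P')
  rw [h2]
  infer_instance

/-- `PF` holds for all shifts of `M` placed in a single degree -/
def PS (M : Y.Modules) : Prop :=
  ∀ a : ℤ, PF f I ((HomologicalComplex.single Y.Modules (ComplexShape.up ℤ) a).obj M)

variable {f I} in
lemma PS.of_iso {M N : Y.Modules} (e : M ≅ N) (h : PS f I M) : PS f I N := fun a =>
  PF_of_iso f I ((HomologicalComplex.single Y.Modules (ComplexShape.up ℤ) a).mapIso e) (h a)

variable [I.IsKInjective]

lemma PF_of_isZero (P : CochainComplex Y.Modules ℤ) (h : IsZero P) : PF f I P :=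
  PF_of_bounded_free f I P 0 0
    (fun i _ => (HomologicalComplex.eval Y.Modules (ComplexShape.up ℤ) i).map_isZero h)
    (fun i => ⟨0, ⟨((HomologicalComplex.eval Y.Modules (ComplexShape.up ℤ) i).map_isZero h).iso
      (isZero_sigma_of_isEmpty _)⟩⟩)

lemma PS_of_isZero {M : Y.Modules} (h : IsZero M) : PS f I M := fun a =>
  PF_of_isZero f I _ ((HomologicalComplex.single Y.Modules (ComplexShape.up ℤ) a).map_isZero h)

lemma PS_unit : PS f I (Coh.structureModule Y) := fun a =>
  PF_of_bounded_free f I _ a a
    (fun i hi => HomologicalComplex.isZero_single_obj_X (ComplexShape.up ℤ) _ _ _ (by omega))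
    (fun i => by
      by_cases h : i = a
      · subst h
        exact ⟨1, ⟨HomologicalComplex.singleObjXSelf (ComplexShape.up ℤ) i
          (Coh.structureModule Y) ≪≫ eO1⟩⟩
      · exact ⟨0, ⟨(HomologicalComplex.isZero_single_obj_X (ComplexShape.up ℤ) _ _ _ h).iso
          (isZero_sigma_of_isEmpty _)⟩⟩)

end Basic

/-! ### the main results -/

section Main

variable {X Y : Scheme.{u}} (f : X ⟶ Y) [DCoh.HasRpush f] (I : CochainComplex X.Modules ℤ)
  [I.IsKInjective]

lemma isKFlat_single_unit (a : ℤ) : DCoh.IsKFlat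
    ((HomologicalComplex.single Y.Modules (ComplexShape.up ℤ) a).obj (Coh.structureModule Y)) :=
  isKFlat_of_flat_bounded _ a
    (fun i hi => HomologicalComplex.isZero_single_obj_X (ComplexShape.up ℤ) _ _ _ (by omega))
    (fun i => by
      by_cases h : i = a
      · subst h
        exact Groth.Agent.Lib.DTorCmp.flatMod_of_iso
          (HomologicalComplex.singleObjXSelf (ComplexShape.up ℤ) i (Coh.structureModule Y)).symm
          isFlat_unit
      · exact (isSF_of_isZero
          (HomologicalComplex.isZero_single_obj_X (ComplexShape.up ℤ) _ _ _ h)).isFlat)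

lemma isQCohD_of_isSF (L : CochainComplex Y.Modules ℤ) (hL : ∀ i, IsSF (L.X i)) :
    DCoh.IsQCohD (Q.obj L) :=
  Groth.Agent.Lib.DSectX.qcohD_Q L (fun n => (hL n).isQCoh)

lemma isSF_single (M : Y.Modules) (hM : IsSF M) (a i : ℤ) :
    IsSF (((HomologicalComplex.single Y.Modules (ComplexShape.up ℤ) a).obj M).X i) := by
  by_cases h : i = a
  · subst h
    exact hM.of_iso (HomologicalComplex.singleObjXSelf (ComplexShape.up ℤ) i M).symm
  · exact isSF_of_isZero (HomologicalComplex.isZero_single_obj_X (ComplexShape.up ℤ) _ _ _ h)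

variable [QuasiCompact f] [QuasiSeparated f] (hI : DCoh.IsQCohD (Q.obj I))

include hI in
lemma PS_of_isSF {M : Y.Modules} (hM : IsSF M) : PS f I M := by
  obtain ⟨J, ⟨e⟩⟩ := hM
  refine PS.of_iso e.symm (fun a => ?_)
  refine PF_of_iso f I (sigmaSingleIso (fun _ : J => Coh.structureModule Y) a) ?_
  exact PF_sigma f I _ hI (fun _ => isKFlat_single_unit a)
    (fun _ => isQCohD_of_isSF _ (isSF_single _ isSF_unit a)) (fun _ => PS_unit f I a)

/-- the induction on the length -/
theorem PF_induction (N : ℕ) : ∀ (a : ℤ) (L : CochainComplex Y.Modules ℤ),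
    (∀ i, i < a ∨ a + N ≤ i → IsZero (L.X i)) → (∀ i, PS f I (L.X i)) → PF f I L := by
  induction N with
  | zero =>
    intro a L hv _
    refine PF_of_isZero f I L (isZero_of_forall_isZero L (fun n => hv n ?_))
    by_cases h : n < a
    · exact Or.inl h
    · right
      push_cast
      omega
  | succ N ih =>
    intro a L hv hPS
    have h1 : PF f I (sigmaGE L (a + 1)) := by
      refine ih (a + 1) (sigmaGE L (a + 1)) (fun i hi => ?_) (fun i => ?_)
      · by_cases h : a + 1 ≤ i
        · refine isZero_sigmaGE_X' L (a + 1) i (hv i (Or.inr ?_))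
          rcases hi with hi | hi
          · omega
          · push_cast
            omega
        · exact isZero_sigmaGE_X L h
      · by_cases h : a + 1 ≤ i
        · haveI := isIso_ι L h
          exact PS.of_iso (asIso (ι L (a + 1) i)).symm (hPS i)
        · exact PS_of_isZero f I (isZero_sigmaGE_X L h)
    have h3 : PF f I
        ((HomologicalComplex.single Y.Modules (ComplexShape.up ℤ) a).obj (L.X a)) := hPS a a
    have h2 : PF f I (sigmaGE L a) :=
      (PF_two_of_three f I (sc L a (a + 1) rfl) (scSplitting L a)).1 h1 h3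
    haveI := isIso_incl L a (fun i hi => hv i (Or.inl hi))
    exact PF_of_iso f I (asIso (incl L a)) h2

include hI in
/-- **the projection formula for bounded above complexes of sum-free modules** -/
theorem PF_bddAbove (L : CochainComplex Y.Modules ℤ) (b : ℤ) (hb : ∀ i, b < i → IsZero (L.X i))
    (hL : ∀ i, IsSF (L.X i)) : PF f I L := by
  have hF : ∀ j : ULift.{u} ℕ, PF f I (F' L b j) := fun j => by
    refine PF_induction f I (j.down + 1) (b - j.down) _ (fun i hi => ?_) (fun i => ?_)
    · by_cases h : b - (j.down : ℤ) ≤ i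
      · refine isZero_sigmaGE_X' L _ i (hb i ?_)
        rcases hi with hi | hi
        · omega
        · push_cast at hi
          omega
      · exact isZero_sigmaGE_X L h
    · exact PS_of_isSF f I hI (isSF_sigmaGE L hL _ i)
  have hKF : ∀ j : ULift.{u} ℕ, DCoh.IsKFlat (F' L b j) := fun j =>
    isKFlat_of_flat_bounded _ b
      (fun i hi => isZero_sigmaGE_X' L _ i (hb i hi))
      (fun i => (isSF_sigmaGE L hL _ i).isFlat)
  have hQC : ∀ j : ULift.{u} ℕ, DCoh.IsQCohD (Q.obj (F' L b j)) := fun j =>
    isQCohD_of_isSF _ (fun i => isSF_sigmaGE L hL _ i)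
  have hσ : PF f I (DerCoprod.sigma (F'.{u} L b)) := PF_sigma f I _ hI hKF hQC hF
  exact (PF_two_of_three f I (telSc.{u} L b) (telSplitting.{u} L b)).2.1 hσ hσ

end Main

end

end Groth.Agent.Lib.PjCxH3
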