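import Mathlib
import Groth.Prelude
import Groth.Agent.Lib.PjCx11_helper3
import Groth.Agent.Lib.TildePC2_helper3
import Groth.Agent.Lib.LeftResolution_helper2
import Groth.Agent.Lib.KFlatMod_helper2
import Groth.Agent.Lib.RelPCa_helper3

/-!
# Bounded above objects of `D_QCoh` of an affine scheme are represented by complexes of free modules
(helper3)

* `exists_SF_model_spec`, `exists_SF_model`: on an affine scheme `V`, an object `K` of `D(O_V)` with
  quasi-coherent cohomology vanishing in degrees `> b` is represented by a complex `L` whose terms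
  are coproducts of copies of the structure sheaf and vanish in degrees `> b`.
-/

set_option autoImplicit false
set_option linter.all false
set_option maxHeartbeats 1600000
set_option backward.isDefEq.respectTransparency false
set_option backward.isDefEq.respectTransparency.types false
set_option backward.defeqAttrib.useBackward true

universe u
open CategoryTheory CategoryTheory.Limits AlgebraicGeometry Opposite TopologicalSpace

attribute [local instance] HasDerivedCategory.standard

namespace Groth.Agent.Lib.PjCxH3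

open Groth.Agent.Lib.LpullLocH3 DerivedCategory Groth.Agent.Lib.StalkTensH3

noncomputable section

section Spec

variable (A : Type u) [CommRing A]

/-- the tilde of a free module is sum-free -/
lemma isSF_tilde_free (M : ModuleCat.{u} A) (hM : Module.Free A M) :
    IsSF ((tilde.functor (CommRingCat.of A)).obj M) := by
  haveI := hM
  let J := Module.Free.ChooseBasisIndex A M
  let e : M ≅ ModuleCat.of A (J →₀ A) := (Module.Free.chooseBasis A M).repr.toModuleIso
  exact ⟨J, ⟨(tilde.functor (CommRingCat.of A)).mapIso e ≪≫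
    tildeFinsupp (R := CommRingCat.of A) J⟩⟩

theorem exists_SF_model_spec (K : DCoh.D (Spec (CommRingCat.of A))) (hK : DCoh.IsQCohD K) (b : ℤ)
    (hb : ∀ i : ℤ, b < i → IsZero (DCoh.HD K i)) :
    ∃ L : CochainComplex (Spec (CommRingCat.of A)).Modules ℤ,
      (∀ i : ℤ, b < i → IsZero (L.X i)) ∧ (∀ i, IsSF (L.X i)) ∧ Nonempty (Q.obj L ≅ K) := by
  haveI := Groth.Agent.Lib.LpullQCL.preservesFiniteLimits_tilde A
  obtain ⟨N, ⟨e⟩⟩ := ((Groth.Agent.Lib.DSectX.main0997 (CommRingCat.of A)).2.2 K).1 hK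
  haveI hN : N.IsLE b := by
    rw [DerivedCategory.isLE_iff]
    intro i hi
    obtain ⟨c⟩ := Groth.Agent.Lib.TildePCH3.nonempty_homology_map_iso
      (tilde.functor (CommRingCat.of A)) N i
    refine Groth.Agent.Lib.TildePCH3.isZero_of_isZero_tilde (CommRingCat.of A) _ ?_
    refine IsZero.of_iso ?_ c.symm
    exact IsZero.of_iso (hb i hi) ((homologyFunctor _ i).mapIso e)
  obtain ⟨X₀, hX₀, ⟨eX⟩⟩ := exists_iso_Q_obj_of_isLE N b
  obtain ⟨X₁, α, hX₁, hfree, _, hα⟩ := Groth.Agent.Lib.LeftRes.exists_resolution_int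
    (fun M : ModuleCat.{u} A => Module.Free A M)
    (Groth.Agent.Lib.KFlatMod.resClass A).cover (Groth.Agent.Lib.KFlatMod.resClass A).zero X₀ b
  haveI : IsIso (Q.map α) := (isIso_Q_map_iff_quasiIso (C := ModuleCat.{u} A) α).2 hα
  refine ⟨((tilde.functor (CommRingCat.of A)).mapHomologicalComplex (ComplexShape.up ℤ)).obj X₁,
    fun i hi => (tilde.functor (CommRingCat.of A)).map_isZero (X₁.isZero_of_isStrictlyLE b i hi),
    fun i => isSF_tilde_free A _ (hfree i), ⟨?_⟩⟩
  exact ((tilde.functor (CommRingCat.of A)).mapDerivedCategoryFactors.app X₁).symm ≪≫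
    (DCoh.tildeD (CommRingCat.of A)).mapIso (asIso (Q.map α) ≪≫ eX.symm) ≪≫ e

end Spec

section Affine

variable (V : Scheme.{u}) [IsAffine V]

lemma isSF_pullback {X Y : Scheme.{u}} (g : X ⟶ Y) (M : Y.Modules) (hM : IsSF M) :
    IsSF ((Scheme.Modules.pullback g).obj M) := by
  obtain ⟨J, ⟨e⟩⟩ := hM
  exact ⟨J, ⟨(Scheme.Modules.pullback g).mapIso e ≪≫
    (PreservesCoproduct.iso (Scheme.Modules.pullback g) (fun _ : J => Coh.structureModule Y)) ≪≫
    Sigma.mapIso (fun _ => PBH8.pullbackUnitIso g)⟩⟩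

theorem exists_SF_model (K : DCoh.D V) (hK : DCoh.IsQCohD K) (b : ℤ)
    (hb : ∀ i : ℤ, b < i → IsZero (DCoh.HD K i)) :
    ∃ L : CochainComplex V.Modules ℤ,
      (∀ i : ℤ, b < i → IsZero (L.X i)) ∧ (∀ i, IsSF (L.X i)) ∧ Nonempty (Q.obj L ≅ K) := by
  let s : V ⟶ Spec (CommRingCat.of Γ(V, ⊤)) := V.isoSpec.hom
  let r : Spec (CommRingCat.of Γ(V, ⊤)) ⟶ V := V.isoSpec.inv
  have hsr : s ≫ r = 𝟙 V := V.isoSpec.hom_inv_id
  haveI := Groth.Agent.Lib.LpullExH3.hasLpull s
  haveI := Groth.Agent.Lib.LpullExH3.hasLpull r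
  let K' := (DCoh.Lpull r).obj K
  have hK' : DCoh.IsQCohD K' := Groth.Agent.Lib.LpullQCL.main1054 r K hK
  have hb' : ∀ i : ℤ, b < i → IsZero (DCoh.HD K' i) := by
    intro i hi
    haveI : IsOpenImmersion r := inferInstance
    have c1 : (DCoh.restrictD r).obj K ≅ K' := (restrictDIsoLpull r).app K
    obtain ⟨c2⟩ := Groth.Agent.Lib.DCohLocLead.nonempty_homology_mapExact_iso
      (Scheme.Modules.restrictFunctor r) K i
    refine IsZero.of_iso ?_ ((homologyFunctor _ i).mapIso c1.symm)
    exact IsZero.of_iso ((Scheme.Modules.restrictFunctor r).map_isZero (hb i hi)) c2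
  obtain ⟨L', hL'b, hL'sf, ⟨e'⟩⟩ := exists_SF_model_spec Γ(V, ⊤) K' hK' b hb'
  have hKF : DCoh.IsKFlat L' := isKFlat_of_flat_bounded L' b hL'b (fun i => (hL'sf i).isFlat)
  obtain ⟨c⟩ := Groth.Agent.Lib.RelPCaH3.nonempty_Lpull_Lpull_iso s r hsr K
  refine ⟨(pullCx s).obj L', fun i hi => (Scheme.Modules.pullback s).map_isZero (hL'b i hi),
    fun i => isSF_pullback s _ (hL'sf i), ⟨?_⟩⟩
  exact (LpullQIso s L' hKF).symm ≪≫ (DCoh.Lpull s).mapIso e' ≪≫ c

end Affine

end

end Groth.Agent.Lib.PjCxH3
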