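import Mathlib
import Groth.Prelude
import Groth.Agent.Lib.PjCx12_helper3

/-!
# The projection formula for bounded above complexes with quasi-coherent cohomology (helper3)

`PF_qcoh`: for `f : X ⟶ Y` quasi-compact and quasi-separated, `I` a K-injective complex on `X` with
quasi-coherent cohomology and `P` a K-flat complex on `Y` with quasi-coherent cohomology vanishing
in degrees `> b`, the derived projection morphism
`Rf_* I ⊗^L P ⟶ Rf_* (I ⊗^L Lf^* P)` is an isomorphism.
-/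

set_option autoImplicit false
set_option linter.all false
set_option maxHeartbeats 1600000
set_option backward.isDefEq.respectTransparency false
set_option backward.isDefEq.respectTransparency.types false
set_option backward.defeqAttrib.useBackward true

universe u
open CategoryTheory CategoryTheory.Limits AlgebraicGeometry Opposite TopologicalSpace

attribute [local instance] HasDerivedCategory.standard

namespace Groth.Agent.Lib.PjCxH3

open Groth.Agent.Lib.ProjFormulaH3 Groth.Agent.Lib.LpullLocH3 Groth.Agent.Lib.TotalMap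
open Groth.Agent.Lib.StalkSkyL DerivedCategory Groth.Agent.Lib.PushCxAcycH3
open Groth.Agent.Lib.MVPushL Groth.Agent.Lib.StalkTensH3 FLFH8 QCohExtn
open Groth.Agent.Lib.KInjSplitH3 Groth.Agent.Lib.DCohLocLead

noncomputable section

variable {X Y : Scheme.{u}} (f : X ⟶ Y) [DCoh.HasRpush f]

/-- restriction to an open preserves quasi-coherence of the cohomology (complex form) -/
lemma isQCohD_RCx {T : Scheme.{u}} (W : T.Opens) (C : CochainComplex T.Modules ℤ)
    (hC : DCoh.IsQCohD (Q.obj C)) : DCoh.IsQCohD (Q.obj ((RCx W).obj C)) :=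
  Groth.Agent.Lib.DSectX.isQCohD_of_iso (facIso W.ι C)
    (Groth.Agent.Lib.LpullQCL.isQCohD_restrictD W.ι _ hC)

lemma isZero_HD_RCx {T : Scheme.{u}} (W : T.Opens) (C : CochainComplex T.Modules ℤ) (i : ℤ)
    (h : IsZero (DCoh.HD (Q.obj C) i)) : IsZero (DCoh.HD (Q.obj ((RCx W).obj C)) i) := by
  obtain ⟨c2⟩ := nonempty_homology_mapExact_iso (Scheme.Modules.restrictFunctor W.ι) (Q.obj C) i
  refine IsZero.of_iso ?_ ((homologyFunctor _ i).mapIso (facIso W.ι C).symm)
  exact IsZero.of_iso ((Scheme.Modules.restrictFunctor W.ι).map_isZero h) c2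

/-- **the projection formula for bounded above quasi-coherent complexes** -/
theorem PF_qcoh [QuasiCompact f] [QuasiSeparated f] (I : CochainComplex X.Modules ℤ)
    [I.IsKInjective] (hI : DCoh.IsQCohD (Q.obj I))
    (P : CochainComplex Y.Modules ℤ) (hP : DCoh.IsKFlat P) (hPq : DCoh.IsQCohD (Q.obj P)) (b : ℤ)
    (hb : ∀ i : ℤ, b < i → IsZero (DCoh.HD (Q.obj P) i)) : PF f I P := by
  refine PF_of_local f I P (fun y => ?_)
  obtain ⟨V₀, hyV⟩ : ∃ V : Y.affineOpens, y ∈ V.1 := by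
    obtain ⟨V, hV, hyV, -⟩ :=
      Opens.isBasis_iff_nbhd.1 Y.isBasis_affineOpens (Opens.mem_top y)
    exact ⟨⟨V, hV⟩, hyV⟩
  obtain ⟨V, hV⟩ := V₀
  refine ⟨V, hyV, ?_⟩
  intro _
  haveI : IsAffine (V : Scheme.{u}) := hV
  haveI := isKInjective_RCx (f ⁻¹ᵁ V) I
  have hR : DCoh.IsKFlat ((RCx V).obj P) := Groth.Agent.Lib.PerfTensH3.isKFlat_RC V.ι P hP
  obtain ⟨L, hLb, hLsf, ⟨e⟩⟩ := exists_SF_model (V : Scheme.{u}) (Q.obj ((RCx V).obj P))
    (isQCohD_RCx V P hPq) b (fun i hi => isZero_HD_RCx V P i (hb i hi))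
  have hL : DCoh.IsKFlat L := isKFlat_of_flat_bounded L b hLb (fun i => (hLsf i).isFlat)
  obtain ⟨Z, s, t, hs, ht⟩ := Groth.Agent.Lib.LTensQCL.exists_roof e
  obtain ⟨Z', q, hZ', hq⟩ := Groth.Agent.Lib.DTorCmp.exists_kflat_resolution' Z
  haveI := hs
  haveI := ht
  haveI := hq
  haveI : QuasiIso (q ≫ s) := inferInstance
  haveI : QuasiIso (q ≫ t) := inferInstance
  have h1 := PF_congr (f ∣_ V) ((RCx (f ⁻¹ᵁ V)).obj I) hZ' hL (q ≫ s)
  have h2 := PF_congr (f ∣_ V) ((RCx (f ⁻¹ᵁ V)).obj I) hZ' hR (q ≫ t)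
  exact h2.1 (h1.2 (PF_bddAbove (f ∣_ V) _ (isQCohD_RCx (f ⁻¹ᵁ V) I hI) L b hLb hLsf))

end

end Groth.Agent.Lib.PjCxH3
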