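import Mathlib
import Groth.Prelude
import Groth.Agent.Lib.PjCx13_helper3

/-!
# The comparison `Rf_* F ⊗^L P ≅ Rf_*(Lf^* P ⊗^L F)`, naturally in chain maps of `P` (helper3)

* `sym K L : K ⊗ L ≅ L ⊗ K` and its naturality `sym_natural`.
* `cuApp L K : (Q K) ⊗^L L ⟶ Q (K ⊗ L)` and `cuApp_natural`.
* `uMor`, `vMor`, `uMor_natural`, `vMor_natural`.
-/

set_option autoImplicit false
set_option linter.all false
set_option maxHeartbeats 1600000
set_option backward.isDefEq.respectTransparency false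
set_option backward.isDefEq.respectTransparency.types false
set_option backward.defeqAttrib.useBackward true

universe u
open CategoryTheory CategoryTheory.Limits AlgebraicGeometry Opposite TopologicalSpace

attribute [local instance] HasDerivedCategory.standard

namespace Groth.Agent.Lib.PjCxH3

open Groth.Agent.Lib.ProjFormulaH3 Groth.Agent.Lib.LpullLocH3 Groth.Agent.Lib.TotalMap
open Groth.Agent.Lib.StalkSkyL DerivedCategory Groth.Agent.Lib.PushCxAcycH3
open Groth.Agent.Lib.MVPushL Groth.Agent.Lib.StalkTensH3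

noncomputable section

/-! ### naturality of `mapNat` -/

section BifNatNaturality

open HomologicalComplex Groth.Agent.Lib.BifNat

variable {C₁ C₂ D : Type*} [Category C₁] [Category C₂] [Category D]
  [Preadditive C₁] [Preadditive C₂] [Preadditive D]
  {F F' : C₁ ⥤ C₂ ⥤ D} [F.Additive] [∀ X₁, (F.obj X₁).Additive]
  [F'.Additive] [∀ X₁, (F'.obj X₁).Additive] (τ : F ⟶ F')
  {K₁ L₁ : CochainComplex C₁ ℤ} {K₂ L₂ : CochainComplex C₂ ℤ}
  [CochainComplex.HasMapBifunctor K₁ K₂ F] [CochainComplex.HasMapBifunctor K₁ K₂ F']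
  [CochainComplex.HasMapBifunctor L₁ L₂ F] [CochainComplex.HasMapBifunctor L₁ L₂ F']

lemma mapNat_naturality' (φ₁ : K₁ ⟶ L₁) (φ₂ : K₂ ⟶ L₂) :
    HomologicalComplex.mapBifunctorMap φ₁ φ₂ F (ComplexShape.up ℤ) ≫ mapNat τ L₁ L₂ =
      mapNat τ K₁ K₂ ≫ HomologicalComplex.mapBifunctorMap φ₁ φ₂ F' (ComplexShape.up ℤ) := by
  ext n p q hpq
  have hpq' : p + q = n := hpq
  rw [HomologicalComplex.comp_f, HomologicalComplex.comp_f]
  erw [HomologicalComplex.ι_mapBifunctorMap_assoc φ₁ φ₂ F (ComplexShape.up ℤ) p q n hpq',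
    ι_mapNat_f τ L₁ L₂ p q n hpq', ι_mapNat_f_assoc τ K₁ K₂ p q n hpq',
    HomologicalComplex.ι_mapBifunctorMap φ₁ φ₂ F' (ComplexShape.up ℤ) p q n hpq']
  have h1 := (τ.app (L₁.X p)).naturality (φ₂.f q)
  have h2 := congrArg (fun t => t.app (K₂.X q)) (τ.naturality (φ₁.f p))
  simp only [NatTrans.comp_app] at h2
  rw [← Category.assoc ((F.obj (L₁.X p)).map (φ₂.f q)), h1, Category.assoc,
    ← Category.assoc ((F.map (φ₁.f p)).app (K₂.X q)), h2, Category.assoc]

end BifNatNaturality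

/-! ### the symmetry of the tensor product of complexes -/

section Symm

variable {T : Scheme.{u}}

/-- the symmetry `K ⊗ L ≅ L ⊗ K` of the tensor product of complexes -/
def sym (K L : CochainComplex T.Modules ℤ) :
    (DCoh.tensorCx.obj K).obj L ≅ (DCoh.tensorCx.obj L).obj K :=
  Groth.Agent.Lib.KFlatSite.tensorCxSymm (O := T.sheaf) K L

lemma sym_natural {K K' L L' : CochainComplex T.Modules ℤ} (φ : K ⟶ K') (ψ : L ⟶ L') :
    HomologicalComplex.mapBifunctorMap φ ψ (DCoh.tensorBi (X := T)) (ComplexShape.up ℤ) ≫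
        (sym K' L').hom =
      (sym K L).hom ≫
        HomologicalComplex.mapBifunctorMap ψ φ (DCoh.tensorBi (X := T)) (ComplexShape.up ℤ) := by
  haveI : (ModSite.tensorBi T.sheaf).Additive := ModSite.additive_tensorBi T.sheaf
  have h1 := mapNat_naturality' (Groth.Agent.Lib.KFlatSite.sigmaNatIso T.sheaf).hom φ ψ
  have h2 := HomologicalComplex.mapBifunctorFlipIso_hom_naturality (φ₁ := ψ) (φ₂ := φ)
    (F := DCoh.tensorBi (X := T)) (c := ComplexShape.up ℤ)
  show _ ≫ (Groth.Agent.Lib.BifNat.mapNat _ K' L' ≫ _) = (Groth.Agent.Lib.BifNat.mapNat _ K L ≫ _) ≫ _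
  rw [← Category.assoc]
  erw [h1]
  rw [Category.assoc, Category.assoc]
  congr 1

lemma sym_natural_left {K K' : CochainComplex T.Modules ℤ} (φ : K ⟶ K')
    (L : CochainComplex T.Modules ℤ) :
    (DCoh.tensorCx.map φ).app L ≫ (sym K' L).hom =
      (sym K L).hom ≫ (DCoh.tensorCx.obj L).map φ :=
  sym_natural φ (𝟙 L)

lemma sym_natural_right (K : CochainComplex T.Modules ℤ) {L L' : CochainComplex T.Modules ℤ}
    (ψ : L ⟶ L') :
    (DCoh.tensorCx.obj K).map ψ ≫ (sym K L').hom =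
      (sym K L).hom ≫ (DCoh.tensorCx.map ψ).app K :=
  sym_natural (𝟙 K) ψ

end Symm

/-! ### the counit of the derived tensor product -/

section Cu

variable {T : Scheme.{u}} (L : CochainComplex T.Modules ℤ) [DCoh.HasLTensorCx L]

/-- the canonical morphism `(Q K) ⊗^L L ⟶ Q (K ⊗ L)` -/
def cuApp (K : CochainComplex T.Modules ℤ) :
    (DCoh.LTensorCx L).obj (Q.obj K) ⟶ Q.obj ((DCoh.tensorCx.obj K).obj L) :=
  (@Groth.Agent.Lib.KFlatSite.counitCx _ _ _ T.sheaf L (inferInstanceAs (DCoh.HasLTensorCx L))).app K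

lemma cuApp_natural {K K' : CochainComplex T.Modules ℤ} (g : K ⟶ K') :
    (DCoh.LTensorCx L).map (Q.map g) ≫ cuApp L K' =
      cuApp L K ≫ Q.map ((DCoh.tensorCx.map g).app L) :=
  (@Groth.Agent.Lib.KFlatSite.counitCx _ _ _ T.sheaf L
    (inferInstanceAs (DCoh.HasLTensorCx L))).naturality g

lemma isIso_cuApp_of_left (K : CochainComplex T.Modules ℤ) (hK : DCoh.IsKFlat K) :
    IsIso (cuApp L K) :=
  @Groth.Agent.Lib.KFlatSite.isIso_counitCx _ _ _ T.sheaf L K
    (inferInstanceAs (DCoh.HasLTensorCx L)) hK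

lemma isIso_cuApp_of_right (K : CochainComplex T.Modules ℤ) (hL : DCoh.IsKFlat L) :
    IsIso (cuApp L K) :=
  @Groth.Agent.Lib.KFlatSite.isIso_counitCx_right _ _ _ T.sheaf L K
    (inferInstanceAs (DCoh.HasLTensorCx L)) hL

end Cu

/-! ### the two comparison morphisms -/

section UV

variable {X Y : Scheme.{u}} (f : X ⟶ Y) [DCoh.HasRpush f] [DCoh.HasLpull f]
  {F I : CochainComplex X.Modules ℤ} (sF : F ⟶ I) [DCoh.HasLTensorCx F]
  {G : CochainComplex Y.Modules ℤ} [DCoh.HasLTensorCx G] (t : G ⟶ (pushCx f).obj I)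

/-- `Q P ⊗^L G ⟶ Rf_* (f^* P ⊗ I)` for `t : G ⟶ f_* I` -/
def uMor (P : CochainComplex Y.Modules ℤ) :
    (DCoh.LTensorCx G).obj (Q.obj P) ⟶
      (DCoh.Rpush f).obj (Q.obj ((DCoh.tensorCx.obj ((pullCx f).obj P)).obj I)) :=
  cuApp G P ≫ Q.map ((DCoh.tensorCx.obj P).map t) ≫ Q.map (sym P ((pushCx f).obj I)).hom ≫
    Lam f I P ≫ (DCoh.Rpush f).map (Q.map (sym I ((pullCx f).obj P)).hom)

lemma uMor_natural {P P' : CochainComplex Y.Modules ℤ} (g : P ⟶ P') :
    (DCoh.LTensorCx G).map (Q.map g) ≫ uMor f t P' =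
      uMor f t P ≫
        (DCoh.Rpush f).map (Q.map ((DCoh.tensorCx.map ((pullCx f).map g)).app I)) := by
  unfold uMor
  have hnat := (DCoh.tensorCx.map g).naturality t
  rw [← Category.assoc, cuApp_natural, Category.assoc, ← Category.assoc (Q.map _) (Q.map _),
    ← Functor.map_comp, ← hnat, Functor.map_comp, Category.assoc,
    ← Category.assoc (Q.map ((DCoh.tensorCx.map g).app ((pushCx f).obj I))) (Q.map _),
    ← Functor.map_comp, sym_natural_left, Functor.map_comp, Category.assoc,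
    ← Category.assoc (Q.map _) (Lam f I P'), Lam_natural_right, Category.assoc,
    ← Functor.map_comp, ← Functor.map_comp, sym_natural_right, Functor.map_comp,
    Functor.map_comp]
  simp only [Category.assoc]

/-- `Rf_* (Lf^* P ⊗^L F) ⟶ Rf_* (f^* P ⊗ I)` for `P` K-flat -/
def vMor (P : CochainComplex Y.Modules ℤ) (hP : DCoh.IsKFlat P) :
    (DCoh.Rpush f).obj ((DCoh.LTensorCx F).obj ((DCoh.Lpull f).obj (Q.obj P))) ⟶
      (DCoh.Rpush f).obj (Q.obj ((DCoh.tensorCx.obj ((pullCx f).obj P)).obj I)) :=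
  (DCoh.Rpush f).map ((DCoh.LTensorCx F).map (LpullQIso f P hP).hom ≫
    cuApp F ((pullCx f).obj P) ≫ Q.map ((DCoh.tensorCx.obj ((pullCx f).obj P)).map sF))

lemma vMor_natural {P P' : CochainComplex Y.Modules ℤ} (hP : DCoh.IsKFlat P)
    (hP' : DCoh.IsKFlat P') (g : P ⟶ P') :
    (DCoh.Rpush f).map ((DCoh.LTensorCx F).map ((DCoh.Lpull f).map (Q.map g))) ≫
        vMor f sF P' hP' =
      vMor f sF P hP ≫
        (DCoh.Rpush f).map (Q.map ((DCoh.tensorCx.map ((pullCx f).map g)).app I)) := by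
  unfold vMor
  rw [← Functor.map_comp, ← Functor.map_comp]
  congr 1
  rw [← Category.assoc, ← Functor.map_comp, LpullQIso_naturality f hP hP' g, Functor.map_comp,
    Category.assoc, ← Category.assoc ((DCoh.LTensorCx F).map (Q.map _)), cuApp_natural,
    Category.assoc, Category.assoc, Category.assoc, ← Functor.map_comp, ← Functor.map_comp]
  congr 3
  exact ((DCoh.tensorCx.map ((pullCx f).map g)).naturality sF).symm

end UV

end

end Groth.Agent.Lib.PjCxH3
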