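import Mathlib
import Groth.Prelude
import Groth.Agent.Lib.PjCx14_helper3
import Groth.Agent.Lib.PerfTens1_helper3

/-!
# From chain-level naturality to natural transformations on the derived category (helper3)

* `nat_of_roof`: a family of morphisms `Θ_P : G₁ (Q P) ⟶ G₂ (Q P)` indexed by K-flat complexes
  which is natural with respect to chain maps is natural with respect to all morphisms of the
  derived category.
* `thetaNat`: the induced natural transformation `G₁ ⟶ G₂`.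
* `pfNat f sF : - ⊗^L f_* I ⟶ Rf_* (Lf^* - ⊗^L F)` and `isIso_pfNat_app`.
-/

set_option autoImplicit false
set_option linter.all false
set_option maxHeartbeats 1600000
set_option backward.isDefEq.respectTransparency false
set_option backward.isDefEq.respectTransparency.types false
set_option backward.defeqAttrib.useBackward true

universe u
open CategoryTheory CategoryTheory.Limits AlgebraicGeometry Opposite TopologicalSpace

attribute [local instance] HasDerivedCategory.standard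

namespace Groth.Agent.Lib.PjCxH3

open Groth.Agent.Lib.ProjFormulaH3 Groth.Agent.Lib.LpullLocH3 Groth.Agent.Lib.TotalMap
open Groth.Agent.Lib.StalkSkyL DerivedCategory Groth.Agent.Lib.PushCxAcycH3
open Groth.Agent.Lib.MVPushL Groth.Agent.Lib.StalkTensH3

noncomputable section

section Roof

variable {T : Scheme.{u}} {E : Type*} [Category E] (G₁ G₂ : DCoh.D T ⥤ E)
  (Θ : ∀ (P : CochainComplex T.Modules ℤ), DCoh.IsKFlat P →
    (G₁.obj (Q.obj P) ⟶ G₂.obj (Q.obj P)))
  (hΘ : ∀ (P P' : CochainComplex T.Modules ℤ) (hP : DCoh.IsKFlat P) (hP' : DCoh.IsKFlat P')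
    (g : P ⟶ P'), G₁.map (Q.map g) ≫ Θ P' hP' = Θ P hP ≫ G₂.map (Q.map g))

include hΘ in
theorem nat_of_roof (P P' : CochainComplex T.Modules ℤ) (hP : DCoh.IsKFlat P)
    (hP' : DCoh.IsKFlat P') (ψ : Q.obj P ⟶ Q.obj P') :
    G₁.map ψ ≫ Θ P' hP' = Θ P hP ≫ G₂.map ψ := by
  obtain ⟨Z, s, hs, g, rfl⟩ := DerivedCategory.right_fac ψ
  obtain ⟨Z', q, hZ', hq⟩ := Groth.Agent.Lib.DTorCmp.exists_kflat_resolution' Z
  haveI := hs
  haveI := hq
  haveI : IsIso (Q.map q) := by
    rw [DerivedCategory.isIso_Q_map_iff_quasiIso]; exact hq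
  haveI : IsIso (Q.map (q ≫ s)) := by rw [Functor.map_comp]; infer_instance
  have e : inv (Q.map s) ≫ Q.map g = inv (Q.map (q ≫ s)) ≫ Q.map (q ≫ g) := by
    rw [IsIso.eq_inv_comp, Functor.map_comp, Functor.map_comp, Category.assoc,
      IsIso.hom_inv_id_assoc]
  rw [e]
  have h1 := hΘ Z' P hZ' hP (q ≫ s)
  have h2 := hΘ Z' P' hZ' hP' (q ≫ g)
  have key : ∀ (a : Q.obj Z' ⟶ Q.obj P) [IsIso a] (b : Q.obj Z' ⟶ Q.obj P'),
      G₁.map a ≫ Θ P hP = Θ Z' hZ' ≫ G₂.map a →
      G₁.map b ≫ Θ P' hP' = Θ Z' hZ' ≫ G₂.map b →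
      G₁.map (inv a ≫ b) ≫ Θ P' hP' = Θ P hP ≫ G₂.map (inv a ≫ b) := by
    intro a _ b ha hb
    have ha' : G₁.map (inv a) ≫ Θ Z' hZ' = Θ P hP ≫ G₂.map (inv a) := by
      rw [Functor.map_inv, Functor.map_inv, IsIso.inv_comp_eq, ← Category.assoc,
        IsIso.eq_comp_inv]
      exact ha.symm
    rw [Functor.map_comp, Functor.map_comp, Category.assoc, hb, ← Category.assoc, ha',
      Category.assoc]
  exact key _ _ h1 h2

/-- a K-flat representative -/
def rep (K : DCoh.D T) : CochainComplex T.Modules ℤ :=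
  (Groth.Agent.Lib.LpullTensH3.exists_kflat_rep K).choose

lemma rep_isKFlat (K : DCoh.D T) : DCoh.IsKFlat (rep K) :=
  (Groth.Agent.Lib.LpullTensH3.exists_kflat_rep K).choose_spec.1

def repIso (K : DCoh.D T) : Q.obj (rep K) ≅ K :=
  (Groth.Agent.Lib.LpullTensH3.exists_kflat_rep K).choose_spec.2.some

/-- the component at an arbitrary object -/
def thetaOf (K : DCoh.D T) : G₁.obj K ⟶ G₂.obj K :=
  G₁.map (repIso K).inv ≫ Θ (rep K) (rep_isKFlat K) ≫ G₂.map (repIso K).hom

include hΘ in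
lemma thetaOf_natural {K K' : DCoh.D T} (φ : K ⟶ K') :
    G₁.map φ ≫ thetaOf G₁ G₂ Θ K' = thetaOf G₁ G₂ Θ K ≫ G₂.map φ := by
  have h := nat_of_roof G₁ G₂ Θ hΘ (rep K) (rep K') (rep_isKFlat K) (rep_isKFlat K')
    ((repIso K).hom ≫ φ ≫ (repIso K').inv)
  unfold thetaOf
  have e1 : G₁.map φ ≫ G₁.map (repIso K').inv =
      G₁.map (repIso K).inv ≫ G₁.map ((repIso K).hom ≫ φ ≫ (repIso K').inv) := by
    rw [← Functor.map_comp, ← Functor.map_comp, Iso.inv_hom_id_assoc]
  have e2 : G₂.map (repIso K).hom ≫ G₂.map φ =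
      G₂.map ((repIso K).hom ≫ φ ≫ (repIso K').inv) ≫ G₂.map (repIso K').hom := by
    rw [← Functor.map_comp, ← Functor.map_comp, Category.assoc, Category.assoc, Iso.inv_hom_id,
      Category.comp_id]
  rw [← Category.assoc, e1, Category.assoc, ← Category.assoc (G₁.map (_ ≫ _)), h,
    Category.assoc, Category.assoc, Category.assoc, e2]

/-- the natural transformation induced by `Θ` -/
def thetaNat : G₁ ⟶ G₂ where
  app K := thetaOf G₁ G₂ Θ K
  naturality _ _ φ := thetaOf_natural G₁ G₂ Θ hΘ φ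

lemma isIso_thetaNat_app (K : DCoh.D T)
    (h : IsIso (Θ (rep K) (rep_isKFlat K))) : IsIso ((thetaNat G₁ G₂ Θ hΘ).app K) := by
  haveI := h
  show IsIso (G₁.map (repIso K).inv ≫ Θ (rep K) (rep_isKFlat K) ≫ G₂.map (repIso K).hom)
  infer_instance

end Roof

/-! ### the projection formula as a natural transformation -/

section PfNat

variable {X Y : Scheme.{u}} (f : X ⟶ Y) [DCoh.HasRpush f] [DCoh.HasLpull f]
  {F I : CochainComplex X.Modules ℤ} (sF : F ⟶ I) [QuasiIso sF] [DCoh.HasLTensorCx F]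
  {G : CochainComplex Y.Modules ℤ} [DCoh.HasLTensorCx G] (t : G ⟶ (pushCx f).obj I)

lemma isIso_vMor (P : CochainComplex Y.Modules ℤ) (hP : DCoh.IsKFlat P) :
    IsIso (vMor f sF P hP) := by
  unfold vMor
  haveI := isIso_cuApp_of_left F ((pullCx f).obj P) (isKFlat_pullback f P hP)
  haveI := Groth.Agent.Lib.PerfTensH3.quasiIso_tensor_left ((pullCx f).obj P)
    (isKFlat_pullback f P hP) sF
  haveI : IsIso (Q.map ((DCoh.tensorCx.obj ((pullCx f).obj P)).map sF)) := by
    rw [DerivedCategory.isIso_Q_map_iff_quasiIso]; infer_instance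
  infer_instance

/-- the comparison `Q P ⊗^L G ⟶ Rf_* (Lf^* (Q P) ⊗^L F)` for `P` K-flat -/
def ThetaP (P : CochainComplex Y.Modules ℤ) (hP : DCoh.IsKFlat P) :
    (DCoh.LTensorCx G).obj (Q.obj P) ⟶
      (DCoh.Lpull f ⋙ DCoh.LTensorCx F ⋙ DCoh.Rpush f).obj (Q.obj P) :=
  haveI := isIso_vMor f sF P hP
  uMor f t P ≫ inv (vMor f sF P hP)

lemma ThetaP_natural (P P' : CochainComplex Y.Modules ℤ) (hP : DCoh.IsKFlat P)
    (hP' : DCoh.IsKFlat P') (g : P ⟶ P') :
    (DCoh.LTensorCx G).map (Q.map g) ≫ ThetaP f sF t P' hP' =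
      ThetaP f sF t P hP ≫ (DCoh.Lpull f ⋙ DCoh.LTensorCx F ⋙ DCoh.Rpush f).map (Q.map g) := by
  haveI := isIso_vMor f sF P hP
  haveI := isIso_vMor f sF P' hP'
  unfold ThetaP
  have hv := vMor_natural f sF hP hP' g
  have hu := uMor_natural f t g
  have hv' : (DCoh.Rpush f).map (Q.map ((DCoh.tensorCx.map ((pullCx f).map g)).app I)) ≫
      inv (vMor f sF P' hP') =
      inv (vMor f sF P hP) ≫
        (DCoh.Rpush f).map ((DCoh.LTensorCx F).map ((DCoh.Lpull f).map (Q.map g))) := by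
    rw [IsIso.eq_inv_comp, ← Category.assoc, IsIso.comp_inv_eq]
    exact hv.symm
  rw [← Category.assoc, hu, Category.assoc, hv', Category.assoc]
  rfl

/-- the projection formula morphism as a natural transformation
`- ⊗^L G ⟶ Rf_* (Lf^* - ⊗^L F)` (for `G ⟶ f_* I` and `F ⟶ I`) -/
def pfNat : DCoh.LTensorCx G ⟶ DCoh.Lpull f ⋙ DCoh.LTensorCx F ⋙ DCoh.Rpush f :=
  thetaNat _ _ (ThetaP f sF t) (ThetaP_natural f sF t)

theorem isIso_pfNat_app [QuasiIso t] [QuasiCompact f] [QuasiSeparated f] [I.IsKInjective]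
    (hI : DCoh.IsQCohD (Q.obj I)) (K : DCoh.D Y) (hK : DCoh.IsQCohD K) (b : ℤ)
    (hb : ∀ i : ℤ, b < i → IsZero (DCoh.HD K i)) : IsIso ((pfNat f sF t).app K) := by
  refine isIso_thetaNat_app _ _ (ThetaP f sF t) (ThetaP_natural f sF t) K ?_
  have hP := rep_isKFlat K
  haveI := isIso_vMor f sF (rep K) hP
  have hPq : DCoh.IsQCohD (Q.obj (rep K)) :=
    Groth.Agent.Lib.DSectX.isQCohD_of_iso (repIso K).symm hK
  have hPb : ∀ i : ℤ, b < i → IsZero (DCoh.HD (Q.obj (rep K)) i) := fun i hi =>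
    IsZero.of_iso (hb i hi) ((DerivedCategory.homologyFunctor Y.Modules i).mapIso (repIso K))
  have hPF : IsIso (Lam f I (rep K)) := PF_qcoh f I hI (rep K) hP hPq b hPb
  haveI := hPF
  haveI := isIso_cuApp_of_left G (rep K) hP
  haveI := Groth.Agent.Lib.PerfTensH3.quasiIso_tensor_left (rep K) hP t
  haveI : IsIso (Q.map ((DCoh.tensorCx.obj (rep K)).map t)) := by
    rw [DerivedCategory.isIso_Q_map_iff_quasiIso]; infer_instance
  unfold ThetaP uMor
  infer_instance

end PfNat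

end

end Groth.Agent.Lib.PjCxH3
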