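import Mathlib
import Groth.Prelude
import Groth.Agent.Lib.PullTensIso3_helper3
import Groth.Agent.Lib.QcqsLoc_helper9

/-!
# Modules whose tensor product preserves monomorphisms of quasi-coherent modules (helper3)

`QM W`: `- ⊗ W` sends monomorphisms of quasi-coherent modules to monomorphisms.
`QM.pullback`: the property passes to the pullback along a quasi-compact quasi-separated open
immersion.
-/

set_option autoImplicit false
set_option linter.all false
set_option maxHeartbeats 1600000
set_option backward.isDefEq.respectTransparency false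
set_option backward.isDefEq.respectTransparency.types false
set_option backward.defeqAttrib.useBackward true

universe u
open CategoryTheory CategoryTheory.Limits AlgebraicGeometry Opposite TopologicalSpace

namespace Groth.Agent.Lib.QCohFlatH3

open Groth.Agent.Lib.PullTensIsoH3 PullTensH9

noncomputable section

/-- `- ⊗ W` preserves monomorphisms of quasi-coherent modules -/
def QM {X : Scheme.{u}} (W : X.Modules) : Prop :=
  ∀ (M' M : X.Modules), M'.IsQuasicoherent → M.IsQuasicoherent → ∀ f : M' ⟶ M, Mono f →
    Mono ((DCoh.tensorBi.map f).app W)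

theorem mono_of_conj {C : Type*} [Category C] {A B A' B' : C} (g : A ⟶ B) (g' : A' ⟶ B')
    (a : A ⟶ A') (b : B ⟶ B') [IsIso a] [IsIso b] (h : g ≫ b = a ≫ g') [Mono g] : Mono g' := by
  have : g' = inv a ≫ g ≫ b := by rw [h, IsIso.inv_hom_id_assoc]
  rw [this]
  infer_instance

variable {Y X : Scheme.{u}} (j : Y ⟶ X) [IsOpenImmersion j]

/-- `j^* j_* ≅ 𝟭` for an open immersion `j` -/
def pullPushIso : Scheme.Modules.pushforward j ⋙ Scheme.Modules.pullback j ≅ 𝟭 Y.Modules :=
  Functor.isoWhiskerLeft (Scheme.Modules.pushforward j)
    (Scheme.Modules.restrictFunctorIsoPullback j).symm ≪≫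
    asIso (Scheme.Modules.restrictAdjunction j).counit

instance : (Scheme.Modules.pullback j).PreservesMonomorphisms := by
  haveI : PreservesFiniteLimits (Scheme.Modules.pullback j) :=
    preservesFiniteLimits_of_natIso (Scheme.Modules.restrictFunctorIsoPullback j)
  infer_instance

theorem QM.pullback [QuasiCompact j] [QuasiSeparated j] {W : X.Modules} (hW : QM W) :
    QM ((Scheme.Modules.pullback j).obj W) := by
  intro N' N hN' hN φ hφ
  haveI := hN'
  haveI := hN
  haveI := hφ
  let f := (Scheme.Modules.pushforward j).map φ
  haveI : Mono f := inferInstance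
  haveI m1 : Mono ((DCoh.tensorBi.map f).app W) :=
    hW _ _ (QcqsLoc.isQuasicoherent_pushforward_qcqs j N')
      (QcqsLoc.isQuasicoherent_pushforward_qcqs j N) f inferInstance
  haveI m2 : Mono ((Scheme.Modules.pullback j).map ((DCoh.tensorBi.map f).app W)) := inferInstance
  haveI i1 := isIso_ptHom j ((Scheme.Modules.pushforward j).obj N') W
  haveI i2 := isIso_ptHom j ((Scheme.Modules.pushforward j).obj N) W
  haveI m3 : Mono ((DCoh.tensorBi.map ((Scheme.Modules.pullback j).map f)).app
      ((Scheme.Modules.pullback j).obj W)) :=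
    mono_of_conj _ _ (ptHom j ((Scheme.Modules.pushforward j).obj N') W)
      (ptHom j ((Scheme.Modules.pushforward j).obj N) W) (ptHom_natural_left j f W)
  -- conjugate by the counit
  have nat : (Scheme.Modules.pullback j).map f ≫ (pullPushIso j).hom.app N =
      (pullPushIso j).hom.app N' ≫ φ := (pullPushIso j).hom.naturality φ
  have h2 : (DCoh.tensorBi.map ((Scheme.Modules.pullback j).map f)).app
        ((Scheme.Modules.pullback j).obj W) ≫
      (DCoh.tensorBi.map ((pullPushIso j).hom.app N)).app ((Scheme.Modules.pullback j).obj W) =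
      (DCoh.tensorBi.map ((pullPushIso j).hom.app N')).app ((Scheme.Modules.pullback j).obj W) ≫
        (DCoh.tensorBi.map φ).app ((Scheme.Modules.pullback j).obj W) := by
    rw [← NatTrans.comp_app, ← NatTrans.comp_app, ← Functor.map_comp, ← Functor.map_comp, nat]
  haveI : IsIso ((DCoh.tensorBi.map ((pullPushIso j).hom.app N)).app
      ((Scheme.Modules.pullback j).obj W)) :=
    inferInstanceAs (IsIso (((DCoh.tensorBi (X := Y)).flip.obj
      ((Scheme.Modules.pullback j).obj W)).map ((pullPushIso j).hom.app N)))
  haveI : IsIso ((DCoh.tensorBi.map ((pullPushIso j).hom.app N')).app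
      ((Scheme.Modules.pullback j).obj W)) :=
    inferInstanceAs (IsIso (((DCoh.tensorBi (X := Y)).flip.obj
      ((Scheme.Modules.pullback j).obj W)).map ((pullPushIso j).hom.app N')))
  exact mono_of_conj _ _ _ _ h2

end

end Groth.Agent.Lib.QCohFlatH3
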