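import Mathlib
import Groth.Prelude
import Groth.Agent.Lib.QCohFlat1_helper3
import Groth.Agent.Lib.StalkTens3_helper3
import Groth.Agent.Lib.TildeAmp_lead
import Groth.Agent.Lib.LpullQC_lead
import Groth.Agent.Lib.PerfFlat5_lead

/-!
# Flatness from quasi-coherent test modules (helper3)

`isFlat_of_QM`: on a quasi-separated scheme, a module `W` such that `- ⊗ W` preserves
monomorphisms of quasi-coherent modules is flat (stalkwise).
-/

set_option autoImplicit false
set_option linter.all false
set_option maxHeartbeats 1600000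
set_option backward.isDefEq.respectTransparency false
set_option backward.isDefEq.respectTransparency.types false
set_option backward.defeqAttrib.useBackward true

universe u
open CategoryTheory CategoryTheory.Limits AlgebraicGeometry Opposite TopologicalSpace
open scoped TensorProduct ChangeOfRings

namespace Groth.Agent.Lib.QCohFlatH3

open Groth.Agent.ExtendScalarsLib Groth.Agent.Lib.StalkTensH3 Groth.Agent.Lib.TildeAmpL
  Groth.Agent.Lib.DMod_helper6 MonoidalCategory Groth.Agent.Lib.DCohLocLead

section Alg

variable {A B : Type u} [CommRing A] [CommRing B] [Algebra A B] (V : Type u) [AddCommGroup V]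
  [Module A V] [Module B V] [IsScalarTower A B V]

/-- `V ⊗_A N ≃ (B ⊗_A N) ⊗_B V` with the extension of scalars written as `ModuleCat.extendScalars` -/
noncomputable def eN (N : ModuleCat.{u} A) :
    V ⊗[A] N ≃ₗ[B] ((ModuleCat.extendScalars (algebraMap A B)).obj N) ⊗[B] V :=
  (TensorProduct.AlgebraTensorModule.cancelBaseChange A B B V N).symm ≪≫ₗ
    TensorProduct.comm B V (B ⊗[A] N) ≪≫ₗ
    TensorProduct.congr (extendScalarsEquivTensor (S := B) N).symm (LinearEquiv.refl B V)

/-- the element `1 ⊗ n` of the extension of scalars -/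
noncomputable def ot (N : ModuleCat.{u} A) (n : N) : ↑((ModuleCat.extendScalars (algebraMap A B)).obj N) :=
  (1 : B) ⊗ₜ[A,algebraMap A B] n

lemma eN_tmul (N : ModuleCat.{u} A) (v : V) (n : N) :
    eN (B := B) V N (v ⊗ₜ[A] n) = (ot (B := B) N n) ⊗ₜ[B] v := by
  have h : (extendScalarsEquivTensor (S := B) N).symm ((1 : B) ⊗ₜ[A] n) = ot (B := B) N n := by
    rw [LinearEquiv.symm_apply_eq]
    exact (extendScalarsEquivTensor_tmul (S := B) N 1 n).symm
  simp only [eN, LinearEquiv.trans_apply,
    TensorProduct.AlgebraTensorModule.cancelBaseChange_symm_tmul, TensorProduct.comm_tmul,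
    TensorProduct.congr_tmul, LinearEquiv.refl_apply, h]

lemma map_ot {N N' : ModuleCat.{u} A} (g : N ⟶ N') (n : N) :
    ((ModuleCat.extendScalars (algebraMap A B)).map g).hom (ot (B := B) N n) =
      ot (B := B) N' (g.hom n) :=
  ModuleCat.ExtendScalars.map_tmul (algebraMap A B) g (1 : B) n

theorem injective_lTensor_of_injective_rTensor {N N' : ModuleCat.{u} A} (g : N ⟶ N')
    (h : Function.Injective
      (LinearMap.rTensor V ((ModuleCat.extendScalars (algebraMap A B)).map g).hom)) :
    Function.Injective (LinearMap.lTensor V g.hom) := by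
  have key : ∀ x : V ⊗[A] N,
      LinearMap.rTensor V ((ModuleCat.extendScalars (algebraMap A B)).map g).hom
          (eN (B := B) V N x) = eN (B := B) V N' (LinearMap.lTensor V g.hom x) := by
    intro x
    induction x using TensorProduct.induction_on with
    | zero => simp
    | tmul v n =>
      rw [eN_tmul, LinearMap.rTensor_tmul, LinearMap.lTensor_tmul, eN_tmul, map_ot]
    | add x y hx hy => rw [map_add, map_add, hx, hy, map_add, map_add]
  intro x y hxy
  apply (eN (B := B) V N).injective
  apply h
  rw [key, key, hxy]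

end Alg

noncomputable section

theorem mono_of_conj' {C : Type*} [Category C] {A B A' B' : C} (g : A ⟶ B) (g' : A' ⟶ B')
    (a : A ⟶ A') (b : B ⟶ B') [IsIso a] [IsIso b] (h : g ≫ b = a ≫ g') [Mono g'] : Mono g := by
  have : g = a ≫ g' ≫ inv b := by rw [← Category.assoc, ← h, Category.assoc, IsIso.hom_inv_id,
    Category.comp_id]
  rw [this]
  infer_instance

/-- **the affine case** -/
theorem isFlatAt_of_QM_affine (A : Type u) [CommRing A] (W : (XA A).Modules) (hW : QM W)
    (q : PrimeSpectrum A) : FlatMod.IsFlatAt W q := by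
  let V : ModuleCat.{u} (Bq A q) := (stk (X := XA A) q).obj W
  letI : Module A V := Module.compHom V (algebraMap A (Bq A q))
  haveI : IsScalarTower A (Bq A q) V := IsScalarTower.of_algebraMap_smul (fun _ _ => rfl)
  show Module.Flat (Bq A q) V
  rw [Module.flat_iff_of_isLocalization (Bq A q) q.asIdeal.primeCompl V,
    Module.Flat.iff_lTensor_preserves_injective_linearMap]
  intro N N' _ _ _ _ ψ hψ
  let g : ModuleCat.of A N ⟶ ModuleCat.of A N' := ModuleCat.ofHom ψ
  haveI : Mono g := (ModuleCat.mono_iff_injective g).2 hψ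
  haveI := Groth.Agent.Lib.LpullQCL.preservesFiniteLimits_tilde A
  let φ := (tilde.functor (CommRingCat.of A)).map g
  haveI : Mono φ := inferInstance
  have q1 : ((tilde.functor (CommRingCat.of A)).obj (ModuleCat.of A N)).IsQuasicoherent :=
    inferInstanceAs ((tilde (R := CommRingCat.of A) (ModuleCat.of A N)).IsQuasicoherent)
  have q2 : ((tilde.functor (CommRingCat.of A)).obj (ModuleCat.of A N')).IsQuasicoherent :=
    inferInstanceAs ((tilde (R := CommRingCat.of A) (ModuleCat.of A N')).IsQuasicoherent)
  haveI m1 : Mono ((DCoh.tensorBi.map φ).app W) := hW _ _ q1 q2 φ inferInstance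
  haveI m2 : Mono ((stk (X := XA A) q).map ((DCoh.tensorBi.map φ).app W)) := inferInstance
  haveI i1 : IsIso (rho (X := XA A) q ((tilde.functor (CommRingCat.of A)).obj (ModuleCat.of A N)) W) :=
    (stalkTensorIso (X := XA A) q _ W).isIso_hom
  haveI i2 : IsIso (rho (X := XA A) q ((tilde.functor (CommRingCat.of A)).obj (ModuleCat.of A N')) W) :=
    (stalkTensorIso (X := XA A) q _ W).isIso_hom
  haveI m3 : Mono ((stk (X := XA A) q).map φ ▷ V) :=
    mono_of_conj _ _ _ _ (rho_natural_left (X := XA A) q φ W)
  have nat := modIso_natural q g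
  have h2 : ((ES A (Bq A q)).map g ▷ V) ≫ ((modIso q (ModuleCat.of A N')).hom ▷ V) =
      ((modIso q (ModuleCat.of A N)).hom ▷ V) ≫ ((stk (X := XA A) q).map φ ▷ V) := by
    rw [← MonoidalCategory.comp_whiskerRight, ← MonoidalCategory.comp_whiskerRight, nat]
  haveI m4 : Mono ((ES A (Bq A q)).map g ▷ V) := mono_of_conj' _ _ _ _ h2
  have inj : Function.Injective ((ES A (Bq A q)).map g ▷ V).hom :=
    (ModuleCat.mono_iff_injective _).1 m4
  exact injective_lTensor_of_injective_rTensor (B := Bq A q) V g inj

/-- **flatness may be tested on quasi-coherent modules** (quasi-separated schemes) -/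
theorem isFlat_of_QM {X : Scheme.{u}} [QuasiSeparatedSpace X] (W : X.Modules) (hW : QM W) :
    FlatMod.IsFlat W := by
  intro x
  obtain ⟨_, ⟨U, hU : IsAffineOpen U, rfl⟩, hxU, -⟩ :=
    (X.isBasis_affineOpens).exists_subset_of_mem_open (Set.mem_univ x) isOpen_univ
  have hx : x ∈ U := hxU
  let y : PrimeSpectrum Γ(X, U) := hU.primeIdealOf ⟨x, hx⟩
  have hy : hU.fromSpec.base y = x := hU.fromSpec_primeIdealOf ⟨x, hx⟩
  have h1 : QM ((Scheme.Modules.pullback hU.fromSpec).obj W) := hW.pullback hU.fromSpec
  have h2 : FlatMod.IsFlatAt ((Scheme.Modules.pullback hU.fromSpec).obj W) y :=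
    isFlatAt_of_QM_affine Γ(X, U) _ h1 y
  have h3 : FlatMod.IsFlatAt ((Scheme.Modules.restrictFunctor hU.fromSpec).obj W) y :=
    isFlatAt_of_iso ((Scheme.Modules.restrictFunctorIsoPullback hU.fromSpec).app W).symm y h2
  have h4 := isFlatAt_of_restrictFunctor hU.fromSpec y h3
  rw [hy] at h4
  exact h4

end

end Groth.Agent.Lib.QCohFlatH3
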