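import Mathlib
import Groth.Prelude.Def_ModSite
import Groth.Prelude.Def_FlatMod2
import Groth.Agent.Lib.StalkFlatB3_helper2
import Groth.Agent.Lib.StalkFlatSch_helper2

/-!
# Tensor exact ⟹ stalkwise flat (ringed spaces, schemes)
-/

namespace Groth.Agent.Lib.StalkFlatB

open CategoryTheory Limits Opposite MonoidalCategory ModSite TopologicalSpace TopCat
open Groth.Agent.Lib.ModSiteH8 Groth.Agent.Lib.StalkFlatTop Groth.Agent.Lib.StalkFlatA

universe u

variable {X : TopCat.{u}} (O : Sheaf (Opens.grothendieckTopology X) CommRingCat.{u})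

/-- **Tensor-exact implies stalkwise flat** on a ringed space. -/
theorem stalkwise_flat_of_isFlat (F : Mod O) (hF : ModSite.IsFlat F) (x : X) :
    Module.Flat (TopCat.Presheaf.stalk (C := CommRingCat.{u}) O.obj x) (St ((iF O).obj F) x) := by
  classical
  rw [Module.Flat.iff_forall_isTrivialRelation]
  intro l r m hrm
  obtain ⟨U₁, hx₁, r₁, hr₁⟩ := exists_lift_family_ring (R := O.obj) x r
  obtain ⟨U₂, hx₂, m₂, hm₂⟩ := exists_lift_family ((iF O).obj F) x m
  have h01 : U₁ ⊓ U₂ ≤ U₁ := inf_le_left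
  have h02 : U₁ ⊓ U₂ ≤ U₂ := inf_le_right
  have hx₀ : x ∈ U₁ ⊓ U₂ := ⟨hx₁, hx₂⟩
  obtain ⟨U, hU, hxU, hs⟩ := exists_res_eq_zero ((iF O).obj F) x (U₁ ⊓ U₂) hx₀
    (∑ i, resR (R := O.obj) h01 (r₁ i) • res ((iF O).obj F) h02 (m₂ i)) (by
      rw [map_sum, ← hrm]
      refine Finset.sum_congr rfl (fun i _ => ?_)
      rw [gM_smul, gR_resR, gM_res, hr₁ i, hm₂ i])
  have h : ∑ i, resR (R := O.obj) (hU.trans h01) (r₁ i) •
      res ((iF O).obj F) (hU.trans h02) (m₂ i) = 0 := by
    rw [← hs, map_sum]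
    refine Finset.sum_congr rfl (fun i _ => ?_)
    rw [res_smul, resR_resR, res_res]
  obtain ⟨V, hV, hxV, T, a, y, c1, c2⟩ := exists_local_trivial O F hF.1 U l
    (fun i => resR (R := O.obj) (hU.trans h01) (r₁ i))
    (fun i => res ((iF O).obj F) (hU.trans h02) (m₂ i)) h x hxU
  rw [Module.isTrivialRelation_iff_vanishesTrivially]
  refine TensorProduct.VanishesTrivially.of_fintype (κ := T)
    (fun i j => gR (R := O.obj) x V hxV (a i j)) (fun j => gM ((iF O).obj F) x V hxV (y j)) ?_ ?_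
  · intro i
    have e1 := congrArg (gM ((iF O).obj F) x V hxV) (c1 i)
    rw [res_res, gM_res, hm₂ i, map_sum] at e1
    refine e1.trans (Finset.sum_congr rfl (fun j _ => ?_))
    rw [gM_smul]
  · intro j
    have e2 := congrArg (gR (R := O.obj) x V hxV) (c2 j)
    rw [map_sum, map_zero] at e2
    refine (Finset.sum_congr rfl (fun i _ => ?_)).trans e2
    rw [map_mul, resR_resR, gR_resR, hr₁ i, smul_eq_mul, mul_comm]

end Groth.Agent.Lib.StalkFlatB

namespace Groth.Agent.Lib.StalkFlatSch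

open CategoryTheory Limits TopologicalSpace Opposite AlgebraicGeometry

universe u

/-- **Tensor-exact implies stalkwise flat** on a scheme. -/
theorem flatMod_of_isFlat {X : Scheme.{u}} (M : X.Modules)
    (hM : ModSite.IsFlat (O := X.sheaf) M) : FlatMod.IsFlat M := by
  intro x
  exact Groth.Agent.Lib.StalkFlatB.stalkwise_flat_of_isFlat (X := X.toTopCat) X.sheaf M hM x

theorem flatMod_iff_isFlat {X : Scheme.{u}} (M : X.Modules) :
    FlatMod.IsFlat M ↔ ModSite.IsFlat (O := X.sheaf) M :=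
  ⟨isFlat_of_flatMod M, flatMod_of_isFlat M⟩

end Groth.Agent.Lib.StalkFlatSch
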