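import Mathlib
import Groth.Prelude
import Groth.Agent.Lib.TorFunSite_helper2
import Groth.Agent.Lib.StalkFlatB4_helper2
import Groth.Agent.Lib.KFlatSite4_helper2

/-!
# Exactness of `M ↦ H^p(M ⊗^L G)` on a scheme and flatness of cokernels (helper3)

For a complex `G` of modules on a scheme `Y` and a bounded above flat resolution `R → G`:
`M ↦ H^p(M ⊗^L G)` is left exact iff `coker(R^{p-1} → R^p)` is flat, and right exact iff
`coker(R^p → R^{p+1})` is flat.
-/

set_option autoImplicit false
set_option linter.all false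
set_option maxHeartbeats 1600000
set_option backward.isDefEq.respectTransparency false
set_option backward.isDefEq.respectTransparency.types false
set_option backward.defeqAttrib.useBackward true

universe u
open CategoryTheory CategoryTheory.Limits AlgebraicGeometry

attribute [local instance] HasDerivedCategory.standard

namespace Groth.Agent.Lib.TorApproxH3

open Groth.Agent.Lib.TorFun Groth.Agent.Lib.TorFunSite

section Site

open ModSite

variable {C : Type u} [SmallCategory C] {J : GrothendieckTopology C} (O : Sheaf J CommRingCat.{u})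

/-- **`H^p(- ⊗^L E)` is left exact iff `coker(R^{p-1} → R^p)` is flat**, given a K-flat
resolution `R` with flat terms (site version) -/
theorem site_left_exact_iff_flat_cokernel (E R : CochainComplex (Mod O) ℤ) (π : R ⟶ E)
    [QuasiIso π] (hflat : ∀ i : ℤ, ModSite.IsFlat (R.X i))
    (hR : ModSite.IsKFlat R) [ModSite.HasLTensorCx E] (j p : ℤ) (hjp : j + 1 = p) :
    PreservesFiniteLimits (HL O E p) ↔ ModSite.IsFlat (cokernel (R.d j p)) := by
  obtain ⟨e₁⟩ := nonempty_iso O E R π hR p
  rw [preservesFiniteLimits_iff O e₁,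
    preservesFiniteLimits_T_iff (tensorBi O) R (fun q => (hflat q).1) j p hjp]
  exact ⟨fun h => ⟨h, inferInstance⟩, fun h => h.1⟩

/-- **`H^p(- ⊗^L E)` is right exact iff `coker(R^p → R^q)` is flat**, `q = p + 1` -/
theorem site_right_exact_iff_flat_cokernel (E R : CochainComplex (Mod O) ℤ) (π : R ⟶ E)
    [QuasiIso π] (hflat : ∀ i : ℤ, ModSite.IsFlat (R.X i))
    (hR : ModSite.IsKFlat R) [ModSite.HasLTensorCx E] (p q : ℤ) (hpq : p + 1 = q) :
    PreservesFiniteColimits (HL O E p) ↔ ModSite.IsFlat (cokernel (R.d p q)) := by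
  obtain ⟨e₁⟩ := nonempty_iso O E R π hR p
  rw [preservesFiniteColimits_iff O e₁,
    preservesFiniteColimits_T_iff_succ (tensorBi O) R (fun q => (hflat q).1) p q hpq,
    preservesFiniteLimits_T_iff (tensorBi O) R (fun q => (hflat q).1) p q hpq]
  exact ⟨fun h => ⟨h, inferInstance⟩, fun h => h.1⟩

end Site

variable {Y : Scheme.{u}}

/-- the functor `M ↦ H^p(M ⊗^L G)` on a scheme -/
noncomputable abbrev HLs (G : CochainComplex Y.Modules ℤ) [DCoh.HasLTensorCx G] (p : ℤ) :
    Y.Modules ⥤ Y.Modules :=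
  DerivedCategory.singleFunctor Y.Modules 0 ⋙ DCoh.LTensorCx G ⋙
    DerivedCategory.homologyFunctor Y.Modules p

theorem isKFlat_site_of_flat_bounded (R : CochainComplex Y.Modules ℤ) (b : ℤ) [R.IsStrictlyLE b]
    (hR : ∀ i, FlatMod.IsFlat (R.X i)) : ModSite.IsKFlat (O := Y.sheaf) R :=
  @Groth.Agent.Lib.KFlatSite.isKFlat_of_isStrictlyLE _ _ _ Y.sheaf R b inferInstance
    (fun n => Groth.Agent.Lib.StalkFlatSch.isFlat_of_flatMod (R.X n) (hR n))

/-- **left exactness of `H^p(- ⊗^L G)` is flatness of `coker(R^{p-1} → R^p)`** -/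
theorem leftExact_iff_flat_cokernel (G R : CochainComplex Y.Modules ℤ) (π : R ⟶ G) [QuasiIso π]
    (b : ℤ) [R.IsStrictlyLE b] (hR : ∀ i, FlatMod.IsFlat (R.X i)) [DCoh.HasLTensorCx G]
    (j p : ℤ) (hjp : j + 1 = p) :
    PreservesFiniteLimits (HLs G p) ↔ FlatMod.IsFlat (cokernel (R.d j p)) := by
  rw [Groth.Agent.Lib.StalkFlatSch.flatMod_iff_isFlat]
  exact @site_left_exact_iff_flat_cokernel _ _ _ Y.sheaf G R π inferInstance
    (fun q => Groth.Agent.Lib.StalkFlatSch.isFlat_of_flatMod (R.X q) (hR q))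
    (isKFlat_site_of_flat_bounded R b hR) (inferInstanceAs (DCoh.HasLTensorCx G)) j p hjp

/-- **right exactness of `H^p(- ⊗^L G)` is flatness of `coker(R^p → R^{p+1})`** -/
theorem rightExact_iff_flat_cokernel (G R : CochainComplex Y.Modules ℤ) (π : R ⟶ G) [QuasiIso π]
    (b : ℤ) [R.IsStrictlyLE b] (hR : ∀ i, FlatMod.IsFlat (R.X i)) [DCoh.HasLTensorCx G]
    (p q : ℤ) (hpq : p + 1 = q) :
    PreservesFiniteColimits (HLs G p) ↔ FlatMod.IsFlat (cokernel (R.d p q)) := by
  rw [Groth.Agent.Lib.StalkFlatSch.flatMod_iff_isFlat]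
  exact @site_right_exact_iff_flat_cokernel _ _ _ Y.sheaf G R π inferInstance
    (fun q => Groth.Agent.Lib.StalkFlatSch.isFlat_of_flatMod (R.X q) (hR q))
    (isKFlat_site_of_flat_bounded R b hR) (inferInstanceAs (DCoh.HasLTensorCx G)) p q hpq

end Groth.Agent.Lib.TorApproxH3
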