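import Groth.Agent.Lib.TorApprox1_helper3
import Groth.Agent.Lib.DRingLT3_helper2

/-!
# The functors `M ↦ H^i(M ⊗^L G)` over a commutative ring and approximations (helper3)

* `flat_cokernel_iff_of_isApprox`: for an `m`-approximation `a : P ⟶ R` between bounded above
  complexes of flat modules and `i > m`, `coker(P^{i-1} → P^i)` is flat iff
  `coker(R^{i-1} → R^i)` is.
* `flat_cokernel_of_leftExact`, `flat_cokernel_of_rightExact`: if `M ↦ H^p(M ⊗^L G)` is left
  (resp. right) exact and `R → G` is a bounded above flat resolution, then `coker(R^{p-1} → R^p)`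
  (resp. `coker(R^p → R^{p+1})`) is flat.
-/

set_option autoImplicit false
set_option linter.all false
set_option maxHeartbeats 1600000

universe u
open CategoryTheory Limits

attribute [local instance] HasDerivedCategory.standard

namespace Groth.Agent.Lib.TorApproxH3

open Groth.Agent.Lib.KFlatGen Groth.Agent.Lib.KFlatMod Groth.Agent.Lib.DRingLT
  Groth.Agent.Lib.TorFun Groth.Agent.Lib.DCohLocLead DerivedCategory

variable {A : Type u} [CommRing A]

/-- ring level: flatness of the cokernels of the differentials only depends on an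
approximation -/
theorem flat_cokernel_iff_of_isApprox {P R : DRing.Cx A} (a : P ⟶ R) (b : ℤ)
    [P.IsStrictlyLE b] [R.IsStrictlyLE b] (hP : ∀ i, Module.Flat A (P.X i))
    (hR : ∀ i, Module.Flat A (R.X i)) (m : ℤ) (ha : IsApprox m (Q.map a)) (j i : ℤ)
    (hji : j + 1 = i) (hi : m < i) :
    Module.Flat A (cokernel (P.d j i) : ModuleCat.{u} A) ↔
      Module.Flat A (cokernel (R.d j i) : ModuleCat.{u} A) := by
  rw [flat_iff_preservesFiniteLimits, flat_iff_preservesFiniteLimits]
  exact flat_coker_iff (T A) (σ A) (flatClass A) (resClass A)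
    (fun S hS h2 h3 => flat_ker S hS h2 h3) a b hP hR m ha j i hji hi

/-- if `M ↦ H^p(M ⊗^L G)` is left exact then `coker(R^{p-1} → R^p)` is flat, for a bounded above
flat resolution `R → G` -/
theorem flat_cokernel_of_leftExact (G R : DRing.Cx A) (π : R ⟶ G) [QuasiIso π] (b : ℤ)
    [R.IsStrictlyLE b] (hR : ∀ i, Module.Flat A (R.X i)) [DRing.HasLTensorCx A G] (j p : ℤ)
    (hjp : j + 1 = p)
    [PreservesFiniteLimits (singleFunctor (ModuleCat.{u} A) 0 ⋙ DRing.LTensorCx A G ⋙
      homologyFunctor (ModuleCat.{u} A) p)] :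
    Module.Flat A (cokernel (R.d j p) : ModuleCat.{u} A) := by
  have hKF : KF A R := kf_of_vanishesAbove R b (fun i hi => R.isZero_of_isStrictlyLE b i hi) hR
  obtain ⟨e⟩ := nonempty_HL_iso G R π hKF p
  haveI : PreservesFiniteLimits (TorFun.T (T A) R p) := preservesFiniteLimits_of_natIso e
  have hRfl : ∀ q, PreservesFiniteLimits ((T A).flip.obj (R.X q)) :=
    fun q => (flat_iff_preservesFiniteLimits A _).1 (hR q)
  exact (flat_iff_preservesFiniteLimits A _).2
    ((preservesFiniteLimits_T_iff (T A) R hRfl j p hjp).1 inferInstance)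

/-- if `M ↦ H^p(M ⊗^L G)` is right exact then `coker(R^p → R^{p+1})` is flat, for a bounded above
flat resolution `R → G` -/
theorem flat_cokernel_of_rightExact (G R : DRing.Cx A) (π : R ⟶ G) [QuasiIso π] (b : ℤ)
    [R.IsStrictlyLE b] (hR : ∀ i, Module.Flat A (R.X i)) [DRing.HasLTensorCx A G] (p q : ℤ)
    (hpq : p + 1 = q)
    [PreservesFiniteColimits (singleFunctor (ModuleCat.{u} A) 0 ⋙ DRing.LTensorCx A G ⋙
      homologyFunctor (ModuleCat.{u} A) p)] :
    Module.Flat A (cokernel (R.d p q) : ModuleCat.{u} A) := by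
  have hKF : KF A R := kf_of_vanishesAbove R b (fun i hi => R.isZero_of_isStrictlyLE b i hi) hR
  obtain ⟨e⟩ := nonempty_HL_iso G R π hKF p
  haveI : PreservesFiniteColimits (TorFun.T (T A) R p) := preservesFiniteColimits_of_natIso e
  have hRfl : ∀ q, PreservesFiniteLimits ((T A).flip.obj (R.X q)) :=
    fun q => (flat_iff_preservesFiniteLimits A _).1 (hR q)
  have h2 : PreservesFiniteLimits (TorFun.T (T A) R q) :=
    (preservesFiniteColimits_T_iff_succ (T A) R hRfl p q hpq).1 inferInstance
  exact (flat_iff_preservesFiniteLimits A _).2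
    ((preservesFiniteLimits_T_iff (T A) R hRfl p q hpq).1 h2)

end Groth.Agent.Lib.TorApproxH3
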