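import Mathlib
import Groth.Prelude
import Groth.Agent.Lib.TorApprox2_helper3
import Groth.Agent.Lib.PerfFlat6_lead
import Groth.Agent.Lib.PCohStalk1_lead

/-!
# Flatness of the cokernels of the differentials of a pseudo-coherent flat complex spreads out
(helper3)

* `isFlatAt_cokernel_iff`: if `α : E ⟶ R` (in the derived category) is an `m`-approximation of a
  bounded above complex of flat modules by a strictly perfect complex, then for `i > m` and every
  point `y`, `coker(E^{i-1} → E^i)` is flat at `y` iff `coker(R^{i-1} → R^i)` is.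
* `exists_nhd_isFlatAt_cokernel`: for an `m`-pseudo-coherent bounded above complex of flat modules
  `R` and `i > m`, the locus where `coker(R^{i-1} → R^i)` is flat is open.
-/

set_option autoImplicit false
set_option linter.all false
set_option maxHeartbeats 1600000
set_option backward.isDefEq.respectTransparency false
set_option backward.isDefEq.respectTransparency.types false
set_option backward.defeqAttrib.useBackward true

universe u
open CategoryTheory CategoryTheory.Limits AlgebraicGeometry Opposite TopologicalSpace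

attribute [local instance] HasDerivedCategory.standard

namespace Groth.Agent.Lib.TorApproxH3

open Groth.Agent.Lib.DCohLocLead DerivedCategory DerSch Groth.Agent.Lib.TorAmpIdL
  Groth.Agent.Lib.TorAmpPushL

noncomputable section

/-- flatness at a point of the cokernel of a differential, in terms of the complex of stalks -/
theorem isFlatAt_cokernel_iff_stalk {V : Scheme.{u}} (K : CochainComplex V.Modules ℤ) (j i : ℤ)
    (y : V) :
    FlatMod.IsFlatAt (cokernel (K.d j i)) y ↔
      Module.Flat (V.presheaf.stalk y)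
        (cokernel (((stalkCx y).obj K).d j i) : ModuleCat.{u} (V.presheaf.stalk y)) := by
  let e : (stalkFunctor V y).obj (cokernel (K.d j i)) ≅
      cokernel (((stalkCx y).obj K).d j i) :=
    PreservesCokernel.iso (stalkFunctor V y) (K.d j i)
  exact Module.Flat.equiv_iff e.toLinearEquiv

/-- **pointwise comparison of the flatness of the cokernels along an approximation** -/
theorem isFlatAt_cokernel_iff {V : Scheme.{u}} (E R : CochainComplex V.Modules ℤ)
    (hE : DCoh.IsStrictlyPerfect E) (b : ℤ) [R.IsStrictlyLE b]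
    (hR : ∀ i, FlatMod.IsFlat (R.X i)) (m : ℤ) (α : Q.obj E ⟶ Q.obj R) (hα : IsApprox m α)
    (j i : ℤ) (hji : j + 1 = i) (hi : m < i) (y : V) :
    FlatMod.IsFlatAt (cokernel (E.d j i)) y ↔ FlatMod.IsFlatAt (cokernel (R.d j i)) y := by
  obtain ⟨⟨a', b', hab⟩, hflf⟩ := hE
  haveI hEb : ((stalkCx y).obj E).IsStrictlyLE (max b b') := by
    rw [CochainComplex.isStrictlyLE_iff]
    intro k hk
    exact (stalkFunctor V y).map_isZero (hab k (Or.inr (lt_of_le_of_lt (le_max_right _ _) hk)))
  haveI hRb : ((stalkCx y).obj R).IsStrictlyLE (max b b') := by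
    rw [CochainComplex.isStrictlyLE_iff]
    intro k hk
    exact (stalkFunctor V y).map_isZero
      (R.isZero_of_isStrictlyLE b k (lt_of_le_of_lt (le_max_left _ _) hk))
  have hEfree : ∀ k, Module.Free (V.presheaf.stalk y) ((E.X k).presheaf.stalk y) := by
    intro k
    haveI := FLFH8.isQuasicoherent_of_finLocFree _ (hflf k)
    exact FLFH8.free_stalk_of_finLocFree (E.X k) (hflf k) y
  have hEflat : ∀ k, Module.Flat (V.presheaf.stalk y) (((stalkCx y).obj E).X k) := by
    intro k
    haveI := hEfree k
    show Module.Flat (V.presheaf.stalk y) ((E.X k).presheaf.stalk y)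
    infer_instance
  have hRflat : ∀ k, Module.Flat (V.presheaf.stalk y) (((stalkCx y).obj R).X k) :=
    fun k => hR k y
  haveI : ∀ k, Projective (((stalkCx y).obj E).X k) := by
    intro k
    haveI := hEfree k
    have hpr : Module.Projective (V.presheaf.stalk y) ((E.X k).presheaf.stalk y) :=
      inferInstance
    exact (IsProjective.iff_projective (R := V.presheaf.stalk y)
      (P := (E.X k).presheaf.stalk y)).1 hpr
  haveI : ((stalkCx y).obj E).IsKProjective :=
    CochainComplex.isKProjective_of_projective _ (max b b')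
  let αy : Q.obj ((stalkCx y).obj E) ⟶ Q.obj ((stalkCx y).obj R) :=
    (stalkFunctor V y).mapDerivedCategoryFactors.inv.app E ≫
      (stalkFunctor V y).mapDerivedCategory.map α ≫
        (stalkFunctor V y).mapDerivedCategoryFactors.hom.app R
  have hαy : IsApprox m αy :=
    (IsApprox.of_isIso _).comp ((hα.mapExact (stalkFunctor V y)).comp (IsApprox.of_isIso _))
  obtain ⟨ψ, hψ⟩ := exists_chainMap_of_isKProjective ((stalkCx y).obj E) ((stalkCx y).obj R) αy
  have hψa : IsApprox m (Q.map ψ) := by
    rw [hψ]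
    exact hαy
  rw [isFlatAt_cokernel_iff_stalk, isFlatAt_cokernel_iff_stalk]
  exact flat_cokernel_iff_of_isApprox ψ (max b b') hEflat hRflat m hψa j i hji hi

variable {X : Scheme.{u}}

/-- **the flat locus of `coker(R^{i-1} → R^i)` is open** for an `m`-pseudo-coherent bounded above
complex `R` of flat modules and `i > m` -/
theorem exists_nhd_isFlatAt_cokernel (R : CochainComplex X.Modules ℤ) (b : ℤ) [R.IsStrictlyLE b]
    (hR : ∀ i, FlatMod.IsFlat (R.X i)) (m : ℤ) (hpc : DCoh.IsPseudoCoherentD m (Q.obj R))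
    (j i : ℤ) (hji : j + 1 = i) (hi : m < i) (x : X)
    (hx : FlatMod.IsFlatAt (cokernel (R.d j i)) x) :
    ∃ U : X.Opens, x ∈ U ∧ ∀ y : X, y ∈ U → FlatMod.IsFlatAt (cokernel (R.d j i)) y := by
  obtain ⟨V, hxV, E, α, hE, hα⟩ := (isPC_iff m _).mp hpc x
  let RV : CochainComplex (V : Scheme.{u}).Modules ℤ := (RC V.ι).obj R
  let α' : Q.obj E ⟶ Q.obj RV := α ≫ (facIso V.ι R).hom
  have hα' : IsApprox m α' := hα.comp (IsApprox.of_isIso _)
  haveI : RV.IsStrictlyLE b := by
    rw [CochainComplex.isStrictlyLE_iff]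
    intro k hk
    exact (Scheme.Modules.restrictFunctor V.ι).map_isZero (R.isZero_of_isStrictlyLE b k hk)
  have hRV : ∀ k, FlatMod.IsFlat (RV.X k) := fun k => isFlat_restrictFunctor V.ι (hR k)
  have key := fun y => isFlatAt_cokernel_iff E RV hE b hRV m α' hα' j i hji hi y
  let x' : (V : Scheme.{u}) := (⟨x, hxV⟩ : V)
  have hx1 : FlatMod.IsFlatAt (cokernel (RV.d j i)) x' := isFlatAt_cokernel_RC V.ι R j i x' hx
  have hx2 : FlatMod.IsFlatAt (cokernel (E.d j i)) x' := (key x').2 hx1
  -- `coker(E^j → E^i)` is quasi-coherent of finite presentation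
  have hA := hE.2 j
  have hB := hE.2 i
  haveI := FLFH8.isQuasicoherent_of_finLocFree _ hA
  haveI := FLFH8.isQuasicoherent_of_finLocFree _ hB
  haveI := FLFH8.isFinitePresentation_of_finLocFree _ hA
  haveI := FLFH8.isFinitePresentation_of_finLocFree _ hB
  haveI : (cokernel (E.d j i)).IsQuasicoherent := FComplH8.isQuasicoherent_cokernel (E.d j i)
  haveI : SheafOfModules.IsFinitePresentation (R := (V : Scheme.{u}).ringCatSheaf)
      (cokernel (E.d j i)) := Groth.Agent.Lib.StalkInjH6.isFP_cokernel (E.d j i)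
  haveI : Module.Flat ((V : Scheme.{u}).presheaf.stalk x')
      ((cokernel (E.d j i)).presheaf.stalk x') := hx2
  haveI : Module.Finite ((V : Scheme.{u}).presheaf.stalk x')
      ((cokernel (E.d j i)).presheaf.stalk x') := FLFH8.finite_stalk (cokernel (E.d j i)) x'
  obtain ⟨W, n, hxW, ⟨β⟩⟩ :=
    FLFH8.exists_free_nhd (cokernel (E.d j i)) x' Module.free_of_flat_of_isLocalRing
  have hWflat : FlatMod.IsFlat ((Scheme.Modules.restrictFunctor W.ι).obj (cokernel (E.d j i))) :=
    isFlat_of_isFinLocFree (FLFH8.isFinLocFree_of_iso_free β)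
  refine ⟨V.ι ''ᵁ W, ⟨x', hxW, rfl⟩, ?_⟩
  rintro y ⟨y', hy'W, rfl⟩
  have h1 : FlatMod.IsFlatAt (cokernel (E.d j i)) y' :=
    isFlatAt_of_restrictFunctor W.ι (⟨y', hy'W⟩ : W) (hWflat _)
  have h2 : FlatMod.IsFlatAt (cokernel (RV.d j i)) y' := (key y').1 h1
  have h3 : FlatMod.IsFlatAt ((Scheme.Modules.restrictFunctor V.ι).obj (cokernel (R.d j i))) y' :=
    isFlatAt_of_iso (PreservesCokernel.iso (Scheme.Modules.restrictFunctor V.ι) (R.d j i)).symm
      y' h2
  exact isFlatAt_of_restrictFunctor V.ι y' h3

end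

end Groth.Agent.Lib.TorApproxH3
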