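import Mathlib
import Groth.Prelude
import Groth.Agent.Lib.TorApprox3_helper3
import Groth.Agent.Lib.TorApprox4_helper3

/-!
# Exactness of `M ↦ H^p(M ⊗^L F)` spreads out from a stalk (helper3; S6245, S6246)
-/

set_option autoImplicit false
set_option linter.all false
set_option maxHeartbeats 1600000
set_option backward.isDefEq.respectTransparency false
set_option backward.isDefEq.respectTransparency.types false
set_option backward.defeqAttrib.useBackward true

universe u
open CategoryTheory CategoryTheory.Limits AlgebraicGeometry Opposite TopologicalSpace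

attribute [local instance] HasDerivedCategory.standard

namespace Groth.Agent.Lib.TorApproxH3

open Groth.Agent.Lib.DCohLocLead DerivedCategory DerSch Groth.Agent.Lib.TorAmpIdL
  Groth.Agent.Lib.TorAmpPushL

noncomputable section

variable {X : Scheme.{u}}

/-- a bounded above flat resolution of a complex which is cohomologically bounded above -/
theorem exists_flat_resolution (F : CochainComplex X.Modules ℤ) (e : ℤ)
    [(DCoh.toD X F).IsLE e] :
    ∃ (R : CochainComplex X.Modules ℤ) (π : R ⟶ F) (b : ℤ), R.IsStrictlyLE b ∧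
      (∀ i : ℤ, FlatMod.IsFlat (R.X i)) ∧ QuasiIso π := by
  haveI : F.IsLE e := (DerivedCategory.isLE_Q_obj_iff F e).1 (inferInstanceAs ((DCoh.toD X F).IsLE e))
  exact Groth.Agent.Lib.DTorCmp.exists_bounded_flat_resolution F e

/-- restriction of a resolution to an open subscheme -/
theorem restrict_resolution {R F : CochainComplex X.Modules ℤ} (π : R ⟶ F) [QuasiIso π] (b : ℤ)
    [R.IsStrictlyLE b] (hR : ∀ i : ℤ, FlatMod.IsFlat (R.X i)) (U : X.Opens) :
    QuasiIso ((RC U.ι).map π) ∧ ((RC U.ι).obj R).IsStrictlyLE b ∧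
      ∀ i : ℤ, FlatMod.IsFlat (((RC U.ι).obj R).X i) := by
  refine ⟨inferInstance, ?_, fun k => isFlat_restrictFunctor U.ι (hR k)⟩
  rw [CochainComplex.isStrictlyLE_iff]
  intro k hk
  exact (Scheme.Modules.restrictFunctor U.ι).map_isZero (R.isZero_of_isStrictlyLE b k hk)

/-- the complex of stalks of a resolution -/
theorem stalk_resolution {R F : CochainComplex X.Modules ℤ} (π : R ⟶ F) [QuasiIso π] (b : ℤ)
    [R.IsStrictlyLE b] (hR : ∀ i : ℤ, FlatMod.IsFlat (R.X i)) (x : X) :
    QuasiIso ((stalkCx x).map π) ∧ ((stalkCx x).obj R).IsStrictlyLE b ∧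
      ∀ i : ℤ, Module.Flat (X.presheaf.stalk x) (((stalkCx x).obj R).X i) := by
  refine ⟨inferInstance, ?_, fun k => hR k x⟩
  rw [CochainComplex.isStrictlyLE_iff]
  intro k hk
  exact (stalkFunctor X x).map_isZero (R.isZero_of_isStrictlyLE b k hk)

/-- flatness of a cokernel on an open subscheme from pointwise flatness -/
theorem isFlat_cokernel_RC (R : CochainComplex X.Modules ℤ) (j i : ℤ) (U : X.Opens)
    (hU : ∀ y : X, y ∈ U → FlatMod.IsFlatAt (cokernel (R.d j i)) y) :
    FlatMod.IsFlat (cokernel (((RC U.ι).obj R).d j i)) := fun y =>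
  isFlatAt_cokernel_RC U.ι R j i y (hU (U.ι.base y) y.2)

/-- **S6246** -/
theorem main6246 (F : CochainComplex X.Modules ℤ)
    (e : ℤ) [(DCoh.toD X F).IsLE e] (p : ℤ)
    (hE : DCoh.IsPseudoCoherentD (p - 1) (DCoh.toD X F)) (x : X)
    [DRing.HasLTensorCx (X.presheaf.stalk x)
      (((DerSch.stalkFunctor X x).mapHomologicalComplex (ComplexShape.up ℤ)).obj F)]
    [PreservesFiniteLimits (DerivedCategory.singleFunctor (ModuleCat.{u} (X.presheaf.stalk x)) 0 ⋙
      DRing.LTensorCx (X.presheaf.stalk x)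
        (((DerSch.stalkFunctor X x).mapHomologicalComplex (ComplexShape.up ℤ)).obj F) ⋙
      DerivedCategory.homologyFunctor (ModuleCat.{u} (X.presheaf.stalk x)) p)]
    [∀ U : X.Opens, DCoh.HasLTensorCx ((DCoh.restrictCx U).obj F)] :
    ∃ U : X.Opens, x ∈ U ∧ PreservesFiniteLimits
      (DerivedCategory.singleFunctor (U : Scheme.{u}).Modules 0 ⋙
        DCoh.LTensorCx ((DCoh.restrictCx U).obj F) ⋙
        DerivedCategory.homologyFunctor (U : Scheme.{u}).Modules p) := by
  obtain ⟨R, π, b, hb, hR, hπ⟩ := exists_flat_resolution F e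
  haveI := hb
  haveI := hπ
  have hpc : DCoh.IsPseudoCoherentD (p - 1) (Q.obj R) :=
    isPC_of_iso (asIso (Q.map π)).symm hE
  obtain ⟨hq, hbx, hRx⟩ := stalk_resolution π b hR x
  haveI := hq
  haveI := hbx
  have h1 : Module.Flat (X.presheaf.stalk x)
      (cokernel (((stalkCx x).obj R).d (p - 1) p) : ModuleCat.{u} (X.presheaf.stalk x)) :=
    flat_cokernel_of_leftExact ((stalkCx x).obj F) ((stalkCx x).obj R) ((stalkCx x).map π) b hRx
      (p - 1) p (by omega)
  have hx : FlatMod.IsFlatAt (cokernel (R.d (p - 1) p)) x :=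
    (isFlatAt_cokernel_iff_stalk R (p - 1) p x).2 h1
  obtain ⟨U, hxU, hU⟩ := exists_nhd_isFlatAt_cokernel R b hR (p - 1) hpc (p - 1) p (by omega)
    (by omega) x hx
  refine ⟨U, hxU, ?_⟩
  obtain ⟨hqU, hbU, hRU⟩ := restrict_resolution π b hR U
  haveI := hqU
  haveI := hbU
  exact (leftExact_iff_flat_cokernel ((RC U.ι).obj F) ((RC U.ι).obj R) ((RC U.ι).map π) b hRU
    (p - 1) p (by omega)).2 (isFlat_cokernel_RC R (p - 1) p U hU)

/-- **S6245** -/
theorem main6245 (F : CochainComplex X.Modules ℤ)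
    (e : ℤ) [(DCoh.toD X F).IsLE e] (p : ℤ)
    (hE : DCoh.IsPseudoCoherentD p (DCoh.toD X F)) (x : X)
    [DRing.HasLTensorCx (X.presheaf.stalk x)
      (((DerSch.stalkFunctor X x).mapHomologicalComplex (ComplexShape.up ℤ)).obj F)]
    [PreservesFiniteColimits
      (DerivedCategory.singleFunctor (ModuleCat.{u} (X.presheaf.stalk x)) 0 ⋙
      DRing.LTensorCx (X.presheaf.stalk x)
        (((DerSch.stalkFunctor X x).mapHomologicalComplex (ComplexShape.up ℤ)).obj F) ⋙
      DerivedCategory.homologyFunctor (ModuleCat.{u} (X.presheaf.stalk x)) p)]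
    [∀ U : X.Opens, DCoh.HasLTensorCx ((DCoh.restrictCx U).obj F)] :
    ∃ U : X.Opens, x ∈ U ∧ PreservesFiniteColimits
      (DerivedCategory.singleFunctor (U : Scheme.{u}).Modules 0 ⋙
        DCoh.LTensorCx ((DCoh.restrictCx U).obj F) ⋙
        DerivedCategory.homologyFunctor (U : Scheme.{u}).Modules p) := by
  obtain ⟨R, π, b, hb, hR, hπ⟩ := exists_flat_resolution F e
  haveI := hb
  haveI := hπ
  have hpc : DCoh.IsPseudoCoherentD p (Q.obj R) :=
    isPC_of_iso (asIso (Q.map π)).symm hE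
  obtain ⟨hq, hbx, hRx⟩ := stalk_resolution π b hR x
  haveI := hq
  haveI := hbx
  have h1 : Module.Flat (X.presheaf.stalk x)
      (cokernel (((stalkCx x).obj R).d p (p + 1)) : ModuleCat.{u} (X.presheaf.stalk x)) :=
    flat_cokernel_of_rightExact ((stalkCx x).obj F) ((stalkCx x).obj R) ((stalkCx x).map π) b hRx
      p (p + 1) rfl
  have hx : FlatMod.IsFlatAt (cokernel (R.d p (p + 1))) x :=
    (isFlatAt_cokernel_iff_stalk R p (p + 1) x).2 h1
  obtain ⟨U, hxU, hU⟩ := exists_nhd_isFlatAt_cokernel R b hR p hpc p (p + 1) rfl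
    (by omega) x hx
  refine ⟨U, hxU, ?_⟩
  obtain ⟨hqU, hbU, hRU⟩ := restrict_resolution π b hR U
  haveI := hqU
  haveI := hbU
  exact (rightExact_iff_flat_cokernel ((RC U.ι).obj F) ((RC U.ι).obj R) ((RC U.ι).map π) b hRU
    p (p + 1) rfl).2 (isFlat_cokernel_RC R p (p + 1) U hU)

end

end Groth.Agent.Lib.TorApproxH3
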