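import Mathlib
import Groth.Prelude
import Groth.Agent.Lib.TorApprox5_helper3
import Groth.Agent.Lib.FibreRk4_helper3

/-!
# Exactness of `M ↦ H^p(M ⊗^L F)` and local freeness of `H^p(F)` (helper3; S6243)

* `isFinLocFree_cokernel_of_approx`, `isFinLocFree_homology`, `isFinLocFree_HD`: if the cokernels
  `coker(R^{p-1} → R^p)` and `coker(R^p → R^{p+1})` of a `(p-1)`-pseudo-coherent bounded above
  complex of flat modules are flat, then `H^p(R)` is finite locally free.
* `betaC_lc`, `isLocallyConstant_betti`: under the same hypotheses the `p`-th Betti number of the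
  fibres is locally constant.
* `main6243`.
-/

set_option autoImplicit false
set_option linter.all false
set_option maxHeartbeats 1600000
set_option backward.isDefEq.respectTransparency false
set_option backward.isDefEq.respectTransparency.types false
set_option backward.defeqAttrib.useBackward true

universe u
open CategoryTheory CategoryTheory.Limits AlgebraicGeometry Opposite TopologicalSpace

attribute [local instance] HasDerivedCategory.standard

namespace Groth.Agent.Lib.FibreRkH3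

variable {R : Type u} [CommRing R] (P : DRing.Cx R)

/-- local constancy of the fibre Betti number when both neighbouring cokernels are projective -/
theorem betaC_lc (i : ℤ) (hfin : ∀ j, Module.Finite R (P.X j))
    (hproj : ∀ j, Module.Projective R (P.X j))
    (h1 : Module.Projective R
      (cokernel (P.d ((ComplexShape.up ℤ).prev i) i) : ModuleCat.{u} R))
    (h2 : Module.Projective R
      (cokernel (P.d i ((ComplexShape.up ℤ).next i)) : ModuleCat.{u} R))
    {k : Type u} [Field k] (ψ : R →+* k) :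
    ∃ f : R, ψ f ≠ 0 ∧ ∀ (k' : Type u) [Field k'] (ψ' : R →+* k'), ψ' f ≠ 0 →
      betaC P i ψ' = betaC P i ψ := by
  haveI := hfin
  haveI := hproj
  haveI := h1
  haveI := h2
  haveI := finite_cokernel (P.d ((ComplexShape.up ℤ).prev i) i)
  haveI := finite_cokernel (P.d i ((ComplexShape.up ℤ).next i))
  obtain ⟨f₁, hf₁, H₁⟩ := fdim_lc (cokernel (P.d ((ComplexShape.up ℤ).prev i) i)) ψ
  obtain ⟨f₂, hf₂, H₂⟩ := fdim_lc (cokernel (P.d i ((ComplexShape.up ℤ).next i))) ψ
  obtain ⟨f₃, hf₃, H₃⟩ := fdim_lc (P.X ((ComplexShape.up ℤ).next i)) ψ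
  refine ⟨f₁ * f₂ * f₃, ?_, fun k' _ ψ' hf' => ?_⟩
  · rw [map_mul, map_mul]
    exact mul_ne_zero (mul_ne_zero hf₁ hf₂) hf₃
  · rw [map_mul, map_mul] at hf'
    have g₁ : ψ' f₁ ≠ 0 := fun h => hf' (by rw [h, zero_mul, zero_mul])
    have g₂ : ψ' f₂ ≠ 0 := fun h => hf' (by rw [h, mul_zero, zero_mul])
    have g₃ : ψ' f₃ ≠ 0 := fun h => hf' (by rw [h, mul_zero])
    have e := betaC_add P i hfin ψ
    have e' := betaC_add P i hfin ψ'
    have c₁ := H₁ k' ψ' g₁
    have c₂ := H₂ k' ψ' g₂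
    have c₃ := H₃ k' ψ' g₃
    omega

end Groth.Agent.Lib.FibreRkH3

namespace Groth.Agent.Lib.TorApproxH3

open Groth.Agent.Lib.DCohLocLead DerivedCategory DerSch Groth.Agent.Lib.TorAmpIdL
  Groth.Agent.Lib.TorAmpPushL Groth.Agent.Lib.FibreRkH3 Groth.Agent.Lib.TildePCH3

noncomputable section

/-- a flat cokernel of a differential of an approximating strictly perfect complex is finite
locally free -/
theorem isFinLocFree_cokernel_of_approx {V : Scheme.{u}} (E R : CochainComplex V.Modules ℤ)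
    (hE : DCoh.IsStrictlyPerfect E) (b : ℤ) [R.IsStrictlyLE b]
    (hR : ∀ i, FlatMod.IsFlat (R.X i)) (m : ℤ) (α : Q.obj E ⟶ Q.obj R) (hα : IsApprox m α)
    (j i : ℤ) (hji : j + 1 = i) (hi : m < i) (hfl : FlatMod.IsFlat (cokernel (R.d j i))) :
    FlatMod.IsFinLocFree (cokernel (E.d j i)) :=
  isFinLocFree_cokernel_of_isFlat (hE.2 j) (hE.2 i) (E.d j i)
    (fun y => (isFlatAt_cokernel_iff E R hE b hR m α hα j i hji hi y).2 (hfl y))

/-- the cohomology of a complex of finite locally free modules with finite locally free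
neighbouring cokernels is finite locally free -/
theorem isFinLocFree_homology {V : Scheme.{u}} (E : CochainComplex V.Modules ℤ) (j p q : ℤ)
    (hjp : j + 1 = p) (hpq : p + 1 = q) (hE : ∀ i, FlatMod.IsFinLocFree (E.X i))
    (h1 : FlatMod.IsFinLocFree (cokernel (E.d j p)))
    (h2 : FlatMod.IsFinLocFree (cokernel (E.d p q))) :
    FlatMod.IsFinLocFree (E.homology p) := by
  apply flf_of_local
  intro y
  have hprev : (ComplexShape.up ℤ).prev p = j := by
    subst hjp
    simp
  have hnext : (ComplexShape.up ℤ).next p = q := by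
    subst hpq
    simp
  let eA : E.opcycles p ≅ cokernel (E.d j p) :=
    IsColimit.coconePointUniqueUpToIso (E.opcyclesIsCokernel j p hprev)
      (colimit.isColimit (parallelPair (E.d j p) 0))
  let u : E.opcycles p ⟶ E.X q := E.fromOpcycles p q
  have hA : LF (E.opcycles p) y := LF.of_iso eA.symm (LF_of_flf h1 y)
  have hB : LF (E.X q) y := LF_of_flf (hE q) y
  let eC : cokernel (E.d p q) ≅ cokernel u :=
    cokernelIsoOfEq (E.p_fromOpcycles p q).symm ≪≫ cokernelEpiComp (E.pOpcycles p) u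
  have hC : LF (cokernel u) y := LF.of_iso eC (LF_of_flf h2 y)
  have hK : LF (kernel u) y := LF_kernel u y hA hB hC
  let eH : E.homology p ≅ kernel u :=
    IsLimit.conePointUniqueUpToIso (E.homologyIsKernel p q hnext)
      (limit.isLimit (parallelPair u 0))
  exact LF.of_iso eH.symm hK

/-- restriction of a bounded above complex of flat modules along an open immersion -/
theorem RC_bounded_flat {Y X : Scheme.{u}} (j : Y ⟶ X) [IsOpenImmersion j]
    (R : CochainComplex X.Modules ℤ) (b : ℤ) [R.IsStrictlyLE b]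
    (hR : ∀ i : ℤ, FlatMod.IsFlat (R.X i)) :
    ((RC j).obj R).IsStrictlyLE b ∧ ∀ i : ℤ, FlatMod.IsFlat (((RC j).obj R).X i) := by
  refine ⟨?_, fun k => isFlat_restrictFunctor j (hR k)⟩
  rw [CochainComplex.isStrictlyLE_iff]
  intro k hk
  exact (Scheme.Modules.restrictFunctor j).map_isZero (R.isZero_of_isStrictlyLE b k hk)

theorem isFlat_cokernel_RC' {Y X : Scheme.{u}} (j : Y ⟶ X) [IsOpenImmersion j]
    (R : CochainComplex X.Modules ℤ) (k i : ℤ) (h : FlatMod.IsFlat (cokernel (R.d k i))) :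
    FlatMod.IsFlat (cokernel (((RC j).obj R).d k i)) := fun y =>
  isFlatAt_cokernel_RC j R k i y (h (j.base y))

variable {X : Scheme.{u}}

/-- **`H^p(R)` is finite locally free** if `R` is a `(p-1)`-pseudo-coherent bounded above complex
of flat modules with `coker(R^{p-1} → R^p)` and `coker(R^p → R^{p+1})` flat -/
theorem isFinLocFree_HD (R : CochainComplex X.Modules ℤ) (b : ℤ) [R.IsStrictlyLE b]
    (hR : ∀ i, FlatMod.IsFlat (R.X i)) (p : ℤ)
    (hpc : DCoh.IsPseudoCoherentD (p - 1) (Q.obj R))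
    (h1 : FlatMod.IsFlat (cokernel (R.d (p - 1) p)))
    (h2 : FlatMod.IsFlat (cokernel (R.d p (p + 1)))) :
    FlatMod.IsFinLocFree (DCoh.HD (Q.obj R) p) := by
  apply flf_of_local
  intro x
  obtain ⟨V, hxV, E, α, hE, hα⟩ := (isPC_iff (p - 1) _).mp hpc x
  let RV : CochainComplex (V : Scheme.{u}).Modules ℤ := (RC V.ι).obj R
  let α' : Q.obj E ⟶ Q.obj RV := α ≫ (facIso V.ι R).hom
  have hα' : IsApprox (p - 1) α' := hα.comp (IsApprox.of_isIso _)
  obtain ⟨hbV, hRV⟩ := RC_bounded_flat V.ι R b hR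
  haveI := hbV
  have hC1 : FlatMod.IsFinLocFree (cokernel (E.d (p - 1) p)) :=
    isFinLocFree_cokernel_of_approx E RV hE b hRV (p - 1) α' hα' (p - 1) p (by omega) (by omega)
      (isFlat_cokernel_RC' V.ι R (p - 1) p h1)
  have hC2 : FlatMod.IsFinLocFree (cokernel (E.d p (p + 1))) :=
    isFinLocFree_cokernel_of_approx E RV hE b hRV (p - 1) α' hα' p (p + 1) rfl (by omega)
      (isFlat_cokernel_RC' V.ι R p (p + 1) h2)
  have hH : FlatMod.IsFinLocFree (E.homology p) :=
    isFinLocFree_homology E (p - 1) p (p + 1) (by omega) rfl hE.2 hC1 hC2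
  refine ⟨V, hxV, ?_⟩
  obtain ⟨e1⟩ := nonempty_HD_restrict_iso V.ι (Q.obj R) p
  haveI : IsIso ((homologyFunctor (V : Scheme.{u}).Modules p).map α) := hα.1 p (by omega)
  let e2 : DCoh.HD (Q.obj E) p ≅ DCoh.HD ((DD V.ι).obj (Q.obj R)) p :=
    asIso ((homologyFunctor (V : Scheme.{u}).Modules p).map α)
  let e3 : DCoh.HD (Q.obj E) p ≅ E.homology p :=
    (homologyFunctorFactors (V : Scheme.{u}).Modules p).app E
  exact FLFH8.IsFinLocFree.of_iso (e3.symm ≪≫ e2 ≪≫ e1) hH

/-- **the `p`-th Betti number of the fibres is locally constant** under the same hypotheses -/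
theorem isLocallyConstant_betti [∀ x : X, DCoh.HasLpull (X.fromSpecResidueField x)]
    (K : DCoh.D X) (R : CochainComplex X.Modules ℤ) (eK : Q.obj R ≅ K) (b : ℤ)
    [R.IsStrictlyLE b] (hR : ∀ i, FlatMod.IsFlat (R.X i)) (p : ℤ)
    (hpc : DCoh.IsPseudoCoherentD (p - 1) K)
    (h1 : FlatMod.IsFlat (cokernel (R.d (p - 1) p)))
    (h2 : FlatMod.IsFlat (cokernel (R.d p (p + 1)))) :
    IsLocallyConstant (fun x : X => PerfD.betti K x p) := by
  rw [IsLocallyConstant.iff_exists_open]
  intro x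
  obtain ⟨V, hV, hxV, P₀, a, b₀, inst, hab, hfp, α, hα⟩ := exists_affine_approx K (p - 1) hpc x
  haveI := inst
  have hb : ∀ (y : X) (hy : y ∈ V),
      PerfD.betti K y p = betaC P₀ p (X.evaluation V y hy).hom := fun y hy =>
    betti_eq K V hV P₀ b₀ (fun i hi => hab i (Or.inr hi)) (fun i => (hfp i).2) (p - 1) α hα p
      (by omega) y hy
  have hprev : (ComplexShape.up ℤ).prev p = p - 1 := by simp
  have hnext : (ComplexShape.up ℤ).next p = p + 1 := by simp
  -- the approximation on `Spec Γ(X, V)`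
  let RS : CochainComplex (Spec Γ(X, V)).Modules ℤ := (RC hV.fromSpec).obj R
  let ES : CochainComplex (Spec Γ(X, V)).Modules ℤ := (tildeCxR Γ(X, V)).obj P₀
  have hES : DCoh.IsStrictlyPerfect ES := isStrictlyPerfect_tildeCx Γ(X, V) P₀ a b₀ hab hfp
  let αS : Q.obj ES ⟶ Q.obj RS :=
    (tdFac Γ(X, V) P₀).inv ≫ α ≫ (DD hV.fromSpec).map eK.inv ≫ (facIso hV.fromSpec R).hom
  have hαS : IsApprox (p - 1) αS :=
    (IsApprox.of_isIso _).comp (hα.comp ((IsApprox.of_isIso _).comp (IsApprox.of_isIso _)))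
  obtain ⟨hbS, hRS⟩ := RC_bounded_flat hV.fromSpec R b hR
  haveI := hbS
  have hC1 : FlatMod.IsFinLocFree (cokernel (ES.d (p - 1) p)) :=
    isFinLocFree_cokernel_of_approx ES RS hES b hRS (p - 1) αS hαS (p - 1) p (by omega) (by omega)
      (isFlat_cokernel_RC' hV.fromSpec R (p - 1) p h1)
  have hC2 : FlatMod.IsFinLocFree (cokernel (ES.d p (p + 1))) :=
    isFinLocFree_cokernel_of_approx ES RS hES b hRS (p - 1) αS hαS p (p + 1) rfl (by omega)
      (isFlat_cokernel_RC' hV.fromSpec R p (p + 1) h2)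
  have key : ∀ k i : ℤ, FlatMod.IsFinLocFree (cokernel (ES.d k i)) →
      Module.Projective Γ(X, V) (cokernel (P₀.d k i) : ModuleCat.{u} Γ(X, V)) := by
    intro k i h
    let e : (tilde.functor Γ(X, V)).obj (cokernel (P₀.d k i)) ≅ cokernel (ES.d k i) :=
      PreservesCokernel.iso (tilde.functor Γ(X, V)) (P₀.d k i)
    exact ((FLFH8.tilde_finLocFree_iff (R := Γ(X, V)) (cokernel (P₀.d k i))).1
      (FLFH8.IsFinLocFree.of_iso e.symm h)).2
  have hp1 : Module.Projective Γ(X, V)
      (cokernel (P₀.d ((ComplexShape.up ℤ).prev p) p) : ModuleCat.{u} Γ(X, V)) := by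
    rw [hprev]
    exact key (p - 1) p hC1
  have hp2 : Module.Projective Γ(X, V)
      (cokernel (P₀.d p ((ComplexShape.up ℤ).next p)) : ModuleCat.{u} Γ(X, V)) := by
    rw [hnext]
    exact key p (p + 1) hC2
  obtain ⟨f, hf, H⟩ := betaC_lc P₀ p (fun j => (hfp j).1) (fun j => (hfp j).2) hp1 hp2
    (X.evaluation V x hxV).hom
  refine ⟨X.basicOpen f, (X.basicOpen f).2,
    (X.evaluation_ne_zero_iff_mem_basicOpen x hxV f).1 hf, ?_⟩
  intro y hyf
  have hyV : y ∈ V := X.basicOpen_le f hyf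
  have hψ : (X.evaluation V y hyV).hom f ≠ 0 :=
    (X.evaluation_ne_zero_iff_mem_basicOpen y hyV f).2 hyf
  show PerfD.betti K y p = PerfD.betti K x p
  rw [hb y hyV, hb x hxV]
  exact H _ _ hψ

/-- **S6243** -/
theorem main6243 (F : CochainComplex X.Modules ℤ) (e : ℤ)
    [(DCoh.toD X F).IsLE e] (p : ℤ) (hE : DCoh.IsPseudoCoherentD (p - 1) (DCoh.toD X F))
    [DCoh.HasLTensorCx F]
    [PreservesFiniteLimits (DerivedCategory.singleFunctor X.Modules 0 ⋙ DCoh.LTensorCx F ⋙
      DerivedCategory.homologyFunctor X.Modules p)]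
    [PreservesFiniteColimits (DerivedCategory.singleFunctor X.Modules 0 ⋙ DCoh.LTensorCx F ⋙
      DerivedCategory.homologyFunctor X.Modules p)]
    [∀ x : X, DCoh.HasLpull (X.fromSpecResidueField x)] :
    FlatMod.IsFinLocFree (DCoh.HD (DCoh.toD X F) p) ∧
      IsLocallyConstant (fun x : X => PerfD.betti (DCoh.toD X F) x p) := by
  obtain ⟨R, π, b, hb, hR, hπ⟩ := exists_flat_resolution F e
  haveI := hb
  haveI := hπ
  have h1 : FlatMod.IsFlat (cokernel (R.d (p - 1) p)) :=
    (leftExact_iff_flat_cokernel F R π b hR (p - 1) p (by omega)).1 inferInstance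
  have h2 : FlatMod.IsFlat (cokernel (R.d p (p + 1))) :=
    (rightExact_iff_flat_cokernel F R π b hR p (p + 1) rfl).1 inferInstance
  let eQ : Q.obj R ≅ DCoh.toD X F := asIso (Q.map π)
  have hpc : DCoh.IsPseudoCoherentD (p - 1) (Q.obj R) := isPC_of_iso eQ.symm hE
  refine ⟨?_, isLocallyConstant_betti (DCoh.toD X F) R eQ b hR p hE h1 h2⟩
  exact FLFH8.IsFinLocFree.of_iso ((homologyFunctor X.Modules p).mapIso eQ)
    (isFinLocFree_HD R b hR p hpc h1 h2)

end

end Groth.Agent.Lib.TorApproxH3
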