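import Mathlib
import Groth.Prelude
import Groth.Agent.Lib.TorApprox6_helper3
import Groth.Agent.Lib.QCohFinLim_helper3
import Groth.Agent.Lib.CohOpen1_helper8
import Groth.Agent.Lib.FLF2_helper8

/-!
# Local constancy of the fibre Betti number on a reduced scheme and exactness of `T^p` (helper3;
S6250)
-/

set_option autoImplicit false
set_option linter.all false
set_option maxHeartbeats 1600000
set_option backward.isDefEq.respectTransparency false
set_option backward.isDefEq.respectTransparency.types false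
set_option backward.defeqAttrib.useBackward true

universe u
open CategoryTheory CategoryTheory.Limits AlgebraicGeometry Opposite TopologicalSpace
open scoped TensorProduct

attribute [local instance] HasDerivedCategory.standard

namespace Groth.Agent.Lib.FibreRkH3

variable {R : Type u} [CommRing R]

/-- the fibre rank only depends on the kernel of the map to the field -/
theorem fdim_eq_of_ker (M : ModuleCat.{u} R) [Module.Finite R M] {k₁ k₂ : Type u} [Field k₁]
    [Field k₂] (ψ₁ : R →+* k₁) (ψ₂ : R →+* k₂) (h : ∀ f : R, ψ₁ f ≠ 0 ↔ ψ₂ f ≠ 0) :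
    fdim M ψ₁ = fdim M ψ₂ := by
  obtain ⟨f, hf, H⟩ := fdim_usc M ψ₁
  obtain ⟨g, hg, G⟩ := fdim_usc M ψ₂
  have a := H k₂ ψ₂ ((h f).1 hf)
  have b := G k₁ ψ₁ ((h g).2 hg)
  omega

end Groth.Agent.Lib.FibreRkH3

namespace Groth.Agent.Lib.TorApproxH3

open Groth.Agent.Lib.DCohLocLead DerivedCategory DerSch Groth.Agent.Lib.TorAmpIdL
  Groth.Agent.Lib.TorAmpPushL Groth.Agent.Lib.FibreRkH3 Groth.Agent.Lib.TildePCH3
  Groth.Agent.Lib.TildeAmpL Groth.Agent.ExtendScalarsLib

noncomputable section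

section Alg

variable (A : Type u) [CommRing A]

/-- the residue map `A → κ(q)` through the local ring of `Spec A` at `q` -/
def chi (q : PrimeSpectrum A) : A →+* IsLocalRing.ResidueField (Bq A q) :=
  (algebraMap (Bq A q) (IsLocalRing.ResidueField (Bq A q))).comp (algebraMap A (Bq A q))

theorem chi_ne_zero_iff (q : PrimeSpectrum A) (f : A) : chi A q f ≠ 0 ↔ f ∉ q.asIdeal := by
  rw [not_iff_not]
  show IsLocalRing.residue (Bq A q) (algebraMap A (Bq A q) f) = 0 ↔ _
  rw [IsLocalRing.residue_eq_zero_iff]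
  exact IsLocalization.AtPrime.to_map_mem_maximal_iff (Bq A q) q.asIdeal f

/-- **the fibre rank of `N~` at `q`** -/
theorem fibre_rank_tilde (q : PrimeSpectrum A) (N : ModuleCat.{u} A) :
    Module.finrank (IsLocalRing.ResidueField (Bq A q))
      ((IsLocalRing.ResidueField (Bq A q)) ⊗[Bq A q]
        ((tilde (R := CommRingCat.of A) N).presheaf.stalk q)) = fdim N (chi A q) := by
  letI : Algebra A (IsLocalRing.ResidueField (Bq A q)) := (chi A q).toAlgebra
  haveI : IsScalarTower A (Bq A q) (IsLocalRing.ResidueField (Bq A q)) :=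
    IsScalarTower.of_algebraMap_eq (fun _ => rfl)
  rw [fdim_eq N (chi A q)]
  let e₁ : (IsLocalRing.ResidueField (Bq A q)) ⊗[Bq A q]
      ((tilde (R := CommRingCat.of A) N).presheaf.stalk q) ≃ₗ[IsLocalRing.ResidueField (Bq A q)]
      (IsLocalRing.ResidueField (Bq A q)) ⊗[Bq A q] ((Bq A q) ⊗[A] N) :=
    TensorProduct.AlgebraTensorModule.congr
      (LinearEquiv.refl (IsLocalRing.ResidueField (Bq A q)) (IsLocalRing.ResidueField (Bq A q)))
      ((stalkEquiv q N).symm.trans (extendScalarsEquivTensor (S := Bq A q) N))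
  let e₂ : (IsLocalRing.ResidueField (Bq A q)) ⊗[Bq A q] ((Bq A q) ⊗[A] N)
      ≃ₗ[IsLocalRing.ResidueField (Bq A q)] (IsLocalRing.ResidueField (Bq A q)) ⊗[A] N :=
    TensorProduct.AlgebraTensorModule.cancelBaseChange A (Bq A q)
      (IsLocalRing.ResidueField (Bq A q)) (IsLocalRing.ResidueField (Bq A q)) N
  exact (e₁.trans e₂).finrank_eq

/-- **a finite module with locally constant fibre rank near `q` on a reduced affine scheme is flat
at `q`** -/
theorem isFlatAt_tilde_of_rank [IsReduced A] (N : ModuleCat.{u} A) [Module.Finite A N]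
    (q : PrimeSpectrum A) (O : (Spec (CommRingCat.of A)).Opens) (hq : q ∈ O)
    (hO : ∀ y : PrimeSpectrum A, y ∈ O → fdim N (chi A y) = fdim N (chi A q)) :
    FlatMod.IsFlatAt (tilde (R := CommRingCat.of A) N) q := by
  haveI : (tilde (R := CommRingCat.of A) N).IsQuasicoherent := inferInstance
  haveI : SheafOfModules.IsFiniteType (R := (Spec (CommRingCat.of A)).ringCatSheaf)
      (tilde (R := CommRingCat.of A) N) := CohOpenH8.isFiniteType_tilde (CommRingCat.of A) N
  haveI : Module.Finite (Bq A q) ((tilde (R := CommRingCat.of A) N).presheaf.stalk q) :=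
    FLFH8.finite_stalk (tilde (R := CommRingCat.of A) N) q
  obtain ⟨γ, hγ⟩ := FLFH8.exists_span_of_finrank_fibre (R := Bq A q)
    (M := (tilde (R := CommRingCat.of A) N).presheaf.stalk q) (fdim N (chi A q))
    (fibre_rank_tilde A q N)
  obtain ⟨U, hqU, hUO, ⟨α⟩⟩ := FLFH8.exists_free_nhd_of_fibre_rank
    (tilde (R := CommRingCat.of A) N) hq γ hγ (fun y hy => by
      rw [fibre_rank_tilde A y N, hO y hy])
  have h1 : FlatMod.IsFinLocFree ((tilde (R := CommRingCat.of A) N).restrict U.ι) :=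
    FLFH8.isFinLocFree_of_iso_free α
  have h2 := isFlat_of_isFinLocFree h1
  exact isFlatAt_of_restrictFunctor U.ι (⟨q, hqU⟩ : U) (h2 ⟨q, hqU⟩)

end Alg

section Sch

variable {X : Scheme.{u}}

/-- the kernel of the evaluation map at the image of a point of `Spec Γ(X, V)` -/
theorem evaluation_ne_zero_iff (V : X.Opens) (hV : IsAffineOpen V) (y : PrimeSpectrum Γ(X, V))
    (z : X) (hz : z ∈ V) (hyz : hV.fromSpec y = z) (f : Γ(X, V)) :
    (X.evaluation V z hz).hom f ≠ 0 ↔ f ∉ y.asIdeal := by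
  subst hyz
  refine (X.evaluation_ne_zero_iff_mem_basicOpen _ hz f).trans ?_
  have h1 : hV.fromSpec y ∈ X.basicOpen f ↔ y ∈ hV.fromSpec ⁻¹ᵁ X.basicOpen f := Iff.rfl
  rw [h1, hV.fromSpec_preimage_basicOpen]
  exact PrimeSpectrum.mem_basicOpen f y

/-- **on a reduced scheme, local constancy of the `p`-th fibre Betti number of a
`(p-1)`-pseudo-coherent bounded above complex of flat modules forces the flatness of the two
neighbouring cokernels** -/
theorem isFlat_cokernels_of_lc [IsReduced X]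
    [∀ x : X, DCoh.HasLpull (X.fromSpecResidueField x)]
    (K : DCoh.D X) (R : CochainComplex X.Modules ℤ) (eK : Q.obj R ≅ K) (b : ℤ)
    [R.IsStrictlyLE b] (hR : ∀ i, FlatMod.IsFlat (R.X i)) (p : ℤ)
    (hpc : DCoh.IsPseudoCoherentD (p - 1) K)
    (hc : IsLocallyConstant (fun x : X => PerfD.betti K x p)) :
    FlatMod.IsFlat (cokernel (R.d (p - 1) p)) ∧ FlatMod.IsFlat (cokernel (R.d p (p + 1))) := by
  suffices H : ∀ x : X, FlatMod.IsFlatAt (cokernel (R.d (p - 1) p)) x ∧
      FlatMod.IsFlatAt (cokernel (R.d p (p + 1))) x from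
    ⟨fun x => (H x).1, fun x => (H x).2⟩
  intro x
  obtain ⟨V, hV, hxV, P₀, a, b₀, inst, hab, hfp, α, hα⟩ := exists_affine_approx K (p - 1) hpc x
  haveI := inst
  have hb : ∀ (y : X) (hy : y ∈ V),
      PerfD.betti K y p = betaC P₀ p (X.evaluation V y hy).hom := fun y hy =>
    betti_eq K V hV P₀ b₀ (fun i hi => hab i (Or.inr hi)) (fun i => (hfp i).2) (p - 1) α hα p
      (by omega) y hy
  have hprev : (ComplexShape.up ℤ).prev p = p - 1 := by simp
  have hnext : (ComplexShape.up ℤ).next p = p + 1 := by simp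
  have hfin : ∀ j, Module.Finite Γ(X, V) (P₀.X j) := fun j => (hfp j).1
  haveI := hfin
  haveI : ∀ j, Module.Projective Γ(X, V) (P₀.X j) := fun j => (hfp j).2
  haveI := finite_cokernel (P₀.d (p - 1) p)
  haveI := finite_cokernel (P₀.d p (p + 1))
  -- the approximation on `Spec Γ(X, V)`
  let RS : CochainComplex (Spec Γ(X, V)).Modules ℤ := (RC hV.fromSpec).obj R
  let ES : CochainComplex (Spec Γ(X, V)).Modules ℤ := (tildeCxR Γ(X, V)).obj P₀
  have hES : DCoh.IsStrictlyPerfect ES := isStrictlyPerfect_tildeCx Γ(X, V) P₀ a b₀ hab hfp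
  let αS : Q.obj ES ⟶ Q.obj RS :=
    (tdFac Γ(X, V) P₀).inv ≫ α ≫ (DD hV.fromSpec).map eK.inv ≫ (facIso hV.fromSpec R).hom
  have hαS : IsApprox (p - 1) αS :=
    (IsApprox.of_isIso _).comp (hα.comp ((IsApprox.of_isIso _).comp (IsApprox.of_isIso _)))
  obtain ⟨hbS, hRS⟩ := RC_bounded_flat hV.fromSpec R b hR
  haveI := hbS
  -- the point and the neighbourhood
  let q : PrimeSpectrum Γ(X, V) := hV.primeIdealOf ⟨x, hxV⟩
  have hq : hV.fromSpec q = x := hV.fromSpec_primeIdealOf ⟨x, hxV⟩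
  obtain ⟨O, hO, hxO, hOc⟩ := (IsLocallyConstant.iff_exists_open _).1 hc x
  let ψ := (X.evaluation V x hxV).hom
  obtain ⟨f₁, hf₁, H₁⟩ := fdim_usc (cokernel (P₀.d (p - 1) p)) ψ
  obtain ⟨f₂, hf₂, H₂⟩ := fdim_usc (cokernel (P₀.d p (p + 1))) ψ
  obtain ⟨f₃, hf₃, H₃⟩ := fdim_lc (P₀.X (p + 1)) ψ
  let O' : (Spec Γ(X, V)).Opens :=
    (hV.fromSpec ⁻¹ᵁ (⟨O, hO⟩ : X.Opens)) ⊓ PrimeSpectrum.basicOpen (f₁ * f₂ * f₃)
  have hψq : ∀ f : Γ(X, V), ψ f ≠ 0 ↔ f ∉ q.asIdeal := fun f =>
    evaluation_ne_zero_iff V hV q x hxV hq f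
  have hqO' : q ∈ O' := by
    refine ⟨?_, ?_⟩
    · show hV.fromSpec q ∈ O
      rw [hq]
      exact hxO
    · show f₁ * f₂ * f₃ ∉ q.asIdeal
      rw [← hψq, map_mul, map_mul]
      exact mul_ne_zero (mul_ne_zero hf₁ hf₂) hf₃
  -- the ranks on `O'`
  have rank_eq : ∀ y : PrimeSpectrum Γ(X, V), y ∈ O' →
      fdim (cokernel (P₀.d (p - 1) p)) (chi Γ(X, V) y) = fdim (cokernel (P₀.d (p - 1) p)) ψ ∧
      fdim (cokernel (P₀.d p (p + 1))) (chi Γ(X, V) y) = fdim (cokernel (P₀.d p (p + 1))) ψ := by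
    intro y hy
    have hyV : hV.fromSpec y ∈ V := by
      have h1 : hV.fromSpec y ∈ hV.fromSpec.opensRange := ⟨y, rfl⟩
      rwa [hV.opensRange_fromSpec] at h1
    have hyO : hV.fromSpec y ∈ O := hy.1
    have hyf : f₁ * f₂ * f₃ ∉ y.asIdeal := hy.2
    let ψ' := (X.evaluation V (hV.fromSpec y) hyV).hom
    have hψy : ∀ f : Γ(X, V), ψ' f ≠ 0 ↔ f ∉ y.asIdeal := fun f =>
      evaluation_ne_zero_iff V hV y _ hyV rfl f
    have hf' : ψ' (f₁ * f₂ * f₃) ≠ 0 := (hψy _).2 hyf
    rw [map_mul, map_mul] at hf'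
    have g₁ : ψ' f₁ ≠ 0 := fun h => hf' (by rw [h, zero_mul, zero_mul])
    have g₂ : ψ' f₂ ≠ 0 := fun h => hf' (by rw [h, mul_zero, zero_mul])
    have g₃ : ψ' f₃ ≠ 0 := fun h => hf' (by rw [h, mul_zero])
    have e := betaC_add P₀ p hfin ψ
    have e' := betaC_add P₀ p hfin ψ'
    rw [hprev, hnext] at e e'
    have c₁ := H₁ _ ψ' g₁
    have c₂ := H₂ _ ψ' g₂
    have c₃ := H₃ _ ψ' g₃
    have hbe : betaC P₀ p ψ' = betaC P₀ p ψ := by
      rw [← hb (hV.fromSpec y) hyV, ← hb x hxV]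
      exact hOc _ hyO
    have k₁ : fdim (cokernel (P₀.d (p - 1) p)) (chi Γ(X, V) y) =
        fdim (cokernel (P₀.d (p - 1) p)) ψ' :=
      fdim_eq_of_ker _ _ _ (fun f => (chi_ne_zero_iff Γ(X, V) y f).trans (hψy f).symm)
    have k₂ : fdim (cokernel (P₀.d p (p + 1))) (chi Γ(X, V) y) =
        fdim (cokernel (P₀.d p (p + 1))) ψ' :=
      fdim_eq_of_ker _ _ _ (fun f => (chi_ne_zero_iff Γ(X, V) y f).trans (hψy f).symm)
    constructor <;> omega
  -- flatness of the tildes at `q`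
  have fl1 : FlatMod.IsFlatAt
      (tilde (R := CommRingCat.of Γ(X, V)) (cokernel (P₀.d (p - 1) p))) q :=
    isFlatAt_tilde_of_rank Γ(X, V) (cokernel (P₀.d (p - 1) p)) q O' hqO'
      (fun y hy => (rank_eq y hy).1.trans (rank_eq q hqO').1.symm)
  have fl2 : FlatMod.IsFlatAt
      (tilde (R := CommRingCat.of Γ(X, V)) (cokernel (P₀.d p (p + 1)))) q :=
    isFlatAt_tilde_of_rank Γ(X, V) (cokernel (P₀.d p (p + 1))) q O' hqO'
      (fun y hy => (rank_eq y hy).2.trans (rank_eq q hqO').2.symm)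
  -- transfer to `R`
  have step : ∀ k i : ℤ, k + 1 = i → p - 1 < i →
      FlatMod.IsFlatAt (tilde (R := CommRingCat.of Γ(X, V)) (cokernel (P₀.d k i))) q →
      FlatMod.IsFlatAt (cokernel (R.d k i)) x := by
    intro k i hki hi h
    let e : (tilde.functor Γ(X, V)).obj (cokernel (P₀.d k i)) ≅ cokernel (ES.d k i) :=
      PreservesCokernel.iso (tilde.functor Γ(X, V)) (P₀.d k i)
    have t1 : FlatMod.IsFlatAt (cokernel (ES.d k i)) q := isFlatAt_of_iso e q h
    have t2 : FlatMod.IsFlatAt (cokernel (RS.d k i)) q :=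
      (isFlatAt_cokernel_iff ES RS hES b hRS (p - 1) αS hαS k i hki hi q).1 t1
    have t3 : FlatMod.IsFlatAt (cokernel (R.d k i)) (hV.fromSpec.base q) :=
      isFlatAt_of_restrictFunctor hV.fromSpec q
        (isFlatAt_of_iso
          (PreservesCokernel.iso (Scheme.Modules.restrictFunctor hV.fromSpec) (R.d k i)).symm q t2)
    have hq' : hV.fromSpec.base q = x := hq
    rw [hq'] at t3
    exact t3
  exact ⟨step (p - 1) p (by omega) (by omega) fl1, step p (p + 1) rfl (by omega) fl2⟩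

/-- **S6250** -/
theorem main6250 [IsReduced X] (F : CochainComplex X.Modules ℤ) (e : ℤ)
    [(DCoh.toD X F).IsLE e] (p : ℤ) (hE : DCoh.IsPseudoCoherentD (p - 1) (DCoh.toD X F))
    [∀ x : X, DCoh.HasLpull (X.fromSpecResidueField x)] [DCoh.HasLTensorCx F]
    (hc : IsLocallyConstant (fun x : X => PerfD.betti (DCoh.toD X F) x p)) :
    PreservesFiniteLimits ((QCohCat.isQCoh X).ι ⋙ DerivedCategory.singleFunctor X.Modules 0 ⋙
      DCoh.LTensorCx F ⋙ DerivedCategory.homologyFunctor X.Modules p) ∧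
    PreservesFiniteColimits ((QCohCat.isQCoh X).ι ⋙ DerivedCategory.singleFunctor X.Modules 0 ⋙
      DCoh.LTensorCx F ⋙ DerivedCategory.homologyFunctor X.Modules p) := by
  obtain ⟨R, π, b, hb, hR, hπ⟩ := exists_flat_resolution F e
  haveI := hb
  haveI := hπ
  let eQ : Q.obj R ≅ DCoh.toD X F := asIso (Q.map π)
  obtain ⟨h1, h2⟩ := isFlat_cokernels_of_lc (DCoh.toD X F) R eQ b hR p hE hc
  haveI : PreservesFiniteLimits (HLs F p) :=
    (leftExact_iff_flat_cokernel F R π b hR (p - 1) p (by omega)).2 h1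
  haveI : PreservesFiniteColimits (HLs F p) :=
    (rightExact_iff_flat_cokernel F R π b hR p (p + 1) rfl).2 h2
  exact ⟨comp_preservesFiniteLimits (QCohCat.isQCoh X).ι (HLs F p),
    comp_preservesFiniteColimits (QCohCat.isQCoh X).ι (HLs F p)⟩

end Sch

end

end Groth.Agent.Lib.TorApproxH3
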