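import Mathlib
import Groth.Prelude
import Groth.Agent.Lib.TorApprox7_helper3
import Groth.Agent.Lib.QCohAb_helper3
import Groth.Agent.Lib.QCohFlat2_helper3

/-!
# Exactness of `T^p` on quasi-coherent modules (helper3; S6244)

* `Fq Y`: the tensor bifunctor with quasi-coherent first variable; helper2's `TorFun` machinery is
  instantiated on the abelian category `QCoh(Y)`.
* `qcoh_pfl_of_exact`: exactness of `M ↦ H^p(M ⊗^L G)` on quasi-coherent modules gives left
  exactness on quasi-coherent modules of `- ⊗ coker(R^{p-1} → R^p)` and `- ⊗ coker(R^p → R^{p+1})`.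
* `main6244`.
-/

set_option autoImplicit false
set_option linter.all false
set_option maxHeartbeats 1600000
set_option backward.isDefEq.respectTransparency false
set_option backward.isDefEq.respectTransparency.types false
set_option backward.defeqAttrib.useBackward true

universe u
open CategoryTheory CategoryTheory.Limits AlgebraicGeometry Opposite TopologicalSpace
open scoped TensorProduct

attribute [local instance] HasDerivedCategory.standard

namespace Groth.Agent.Lib.TorApproxH3

open Groth.Agent.Lib.TorFun Groth.Agent.Lib.TorFunSite Groth.Agent.Lib.QCohFinLimH3 ModSite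
  Groth.Agent.Lib.QCohFlatH3 Groth.Agent.Lib.DCohLocLead DerivedCategory

noncomputable section

variable {Y : Scheme.{u}}

instance pfc_tensorBi_flip (N : Y.Modules) :
    PreservesFiniteColimits ((DCoh.tensorBi (X := Y)).flip.obj N) :=
  inferInstanceAs (PreservesFiniteColimits ((ModSite.tensorBi Y.sheaf).flip.obj N))

instance pfc_tensorBi_obj (M : Y.Modules) :
    PreservesFiniteColimits ((DCoh.tensorBi (X := Y)).obj M) :=
  inferInstanceAs (PreservesFiniteColimits ((ModSite.tensorBi Y.sheaf).obj M))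

/-- the tensor bifunctor with quasi-coherent first variable -/
abbrev Fq (Y : Scheme.{u}) : QCohCat.QCoh Y ⥤ Y.Modules ⥤ Y.Modules :=
  (QCohCat.isQCoh Y).ι ⋙ DCoh.tensorBi (X := Y)

instance : (Fq Y).Additive := inferInstance
instance (M : QCohCat.QCoh Y) : ((Fq Y).obj M).Additive :=
  inferInstanceAs (((DCoh.tensorBi (X := Y)).obj ((QCohCat.isQCoh Y).ι.obj M)).Additive)

instance pfc_Fq_obj (M : QCohCat.QCoh Y) : PreservesFiniteColimits ((Fq Y).obj M) :=
  inferInstanceAs (PreservesFiniteColimits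
    ((DCoh.tensorBi (X := Y)).obj ((QCohCat.isQCoh Y).ι.obj M)))

instance pfc_Fq_flip (N : Y.Modules) : PreservesFiniteColimits ((Fq Y).flip.obj N) :=
  inferInstanceAs (PreservesFiniteColimits ((QCohCat.isQCoh Y).ι ⋙ (DCoh.tensorBi (X := Y)).flip.obj N))

theorem pfl_Fq_flip (N : Y.Modules)
    (h : PreservesFiniteLimits ((DCoh.tensorBi (X := Y)).flip.obj N)) :
    PreservesFiniteLimits ((Fq Y).flip.obj N) :=
  haveI := h
  inferInstanceAs (PreservesFiniteLimits ((QCohCat.isQCoh Y).ι ⋙ (DCoh.tensorBi (X := Y)).flip.obj N))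

def TqIso (R : CochainComplex Y.Modules ℤ) (p : ℤ) :
    (QCohCat.isQCoh Y).ι ⋙ T (DCoh.tensorBi (X := Y)) R p ≅ T (Fq Y) R p :=
  NatIso.ofComponents (fun M => Iso.refl _) (fun f => by
    rw [Iso.refl_hom, Iso.refl_hom, Category.comp_id, Category.id_comp]
    rfl)

/-- **exactness of `T^p` on quasi-coherent modules gives left exactness, on quasi-coherent
modules, of the tensor products with the two neighbouring cokernels** -/
theorem qcoh_pfl_of_exact (G R : CochainComplex Y.Modules ℤ) (π : R ⟶ G) [QuasiIso π] (b : ℤ)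
    [R.IsStrictlyLE b] (hR : ∀ i, FlatMod.IsFlat (R.X i)) [DCoh.HasLTensorCx G] (p : ℤ)
    [PreservesFiniteLimits ((QCohCat.isQCoh Y).ι ⋙ HLs G p)]
    [PreservesFiniteColimits ((QCohCat.isQCoh Y).ι ⋙ HLs G p)] :
    PreservesFiniteLimits ((Fq Y).flip.obj (cokernel (R.d (p - 1) p))) ∧
      PreservesFiniteLimits ((Fq Y).flip.obj (cokernel (R.d p (p + 1)))) := by
  have hK : ModSite.IsKFlat (O := Y.sheaf) R := isKFlat_site_of_flat_bounded R b hR
  obtain ⟨e₁⟩ := @nonempty_iso _ _ _ Y.sheaf G R π inferInstance hK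
    (inferInstanceAs (DCoh.HasLTensorCx G)) p
  let e₁' : HLs G p ≅ T (DCoh.tensorBi (X := Y)) R p := e₁
  let e₂ : (QCohCat.isQCoh Y).ι ⋙ HLs G p ≅ T (Fq Y) R p :=
    Functor.isoWhiskerLeft _ e₁' ≪≫ TqIso R p
  have hP : ∀ q, PreservesFiniteLimits ((Fq Y).flip.obj (R.X q)) := fun q =>
    pfl_Fq_flip _ (Groth.Agent.Lib.StalkFlatSch.isFlat_of_flatMod (R.X q) (hR q)).1
  haveI : PreservesFiniteLimits (T (Fq Y) R p) := preservesFiniteLimits_of_natIso e₂
  haveI : PreservesFiniteColimits (T (Fq Y) R p) := preservesFiniteColimits_of_natIso e₂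
  constructor
  · exact (preservesFiniteLimits_T_iff (Fq Y) R hP (p - 1) p (by omega)).1 inferInstance
  · have h := (preservesFiniteColimits_T_iff_succ (Fq Y) R hP p (p + 1) rfl).1 inferInstance
    exact (preservesFiniteLimits_T_iff (Fq Y) R hP p (p + 1) rfl).1 h

/-- unfolding: left exactness of `- ⊗ W` on quasi-coherent modules preserves monomorphisms -/
theorem mono_of_pfl_Fq (W : Y.Modules) [PreservesFiniteLimits ((Fq Y).flip.obj W)]
    {M' M : Y.Modules} (hM' : M'.IsQuasicoherent) (hM : M.IsQuasicoherent) (f : M' ⟶ M)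
    [Mono f] : Mono ((DCoh.tensorBi.map f).app W) := by
  let f' : (⟨M', hM'⟩ : QCohCat.QCoh Y) ⟶ ⟨M, hM⟩ := (QCohCat.isQCoh Y).homMk f
  haveI : Mono f' := (QCohCat.isQCoh Y).ι.mono_of_mono_map (inferInstanceAs (Mono f))
  exact inferInstanceAs (Mono (((Fq Y).flip.obj W).map f'))

/-- **S6244** -/
theorem main6244 {X : Scheme.{u}} [QuasiSeparatedSpace X] (F : CochainComplex X.Modules ℤ) (e : ℤ)
    [(DCoh.toD X F).IsLE e] (p : ℤ) (hE : DCoh.IsPseudoCoherentD (p - 1) (DCoh.toD X F))
    [DCoh.HasLTensorCx F]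
    [PreservesFiniteLimits ((QCohCat.isQCoh X).ι ⋙ DerivedCategory.singleFunctor X.Modules 0 ⋙
      DCoh.LTensorCx F ⋙ DerivedCategory.homologyFunctor X.Modules p)]
    [PreservesFiniteColimits ((QCohCat.isQCoh X).ι ⋙ DerivedCategory.singleFunctor X.Modules 0 ⋙
      DCoh.LTensorCx F ⋙ DerivedCategory.homologyFunctor X.Modules p)]
    [∀ x : X, DCoh.HasLpull (X.fromSpecResidueField x)] :
    IsLocallyConstant (fun x : X => PerfD.betti (DCoh.toD X F) x p) ∧
      FlatMod.IsFinLocFree (DCoh.HD (DCoh.toD X F) p) := by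
  obtain ⟨R, π, b, hb, hR, hπ⟩ := exists_flat_resolution F e
  haveI := hb
  haveI := hπ
  obtain ⟨g1, g2⟩ := qcoh_pfl_of_exact F R π b hR p
  have h1 : FlatMod.IsFlat (cokernel (R.d (p - 1) p)) :=
    isFlat_of_QM _ (fun M' M hM' hM f hf => by
      haveI := g1
      haveI := hf
      exact mono_of_pfl_Fq _ hM' hM f)
  have h2 : FlatMod.IsFlat (cokernel (R.d p (p + 1))) :=
    isFlat_of_QM _ (fun M' M hM' hM f hf => by
      haveI := g2
      haveI := hf
      exact mono_of_pfl_Fq _ hM' hM f)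
  let eQ : Q.obj R ≅ DCoh.toD X F := asIso (Q.map π)
  have hpc : DCoh.IsPseudoCoherentD (p - 1) (Q.obj R) := isPC_of_iso eQ.symm hE
  exact ⟨isLocallyConstant_betti (DCoh.toD X F) R eQ b hR p hE h1 h2,
    FLFH8.IsFinLocFree.of_iso ((homologyFunctor X.Modules p).mapIso eQ)
      (isFinLocFree_HD R b hR p hpc h1 h2)⟩

end

end Groth.Agent.Lib.TorApproxH3
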