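import Mathlib
import Groth.Prelude
import Groth.Agent.Lib.PjCx15_helper3
import Groth.Agent.Lib.TorApprox8_helper3
import Groth.Agent.Lib.RelPCProp2_helper3
import Groth.Agent.Lib.FibreLoc2_helper3

/-!
# Exactness of `M ↦ R^p f_*(Lf^* M ⊗^L F)` and local constancy of fibre Betti numbers (helper3)

`main6252`, `main6248`.
-/

set_option autoImplicit false
set_option linter.all false
set_option maxHeartbeats 1600000
set_option backward.isDefEq.respectTransparency false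
set_option backward.isDefEq.respectTransparency.types false
set_option backward.defeqAttrib.useBackward true

universe u
open CategoryTheory CategoryTheory.Limits AlgebraicGeometry Opposite TopologicalSpace

attribute [local instance] HasDerivedCategory.standard

namespace Groth.Agent.Lib.PjCxH3

open Groth.Agent.Lib.ProjFormulaH3 Groth.Agent.Lib.LpullLocH3 Groth.Agent.Lib.TotalMap
open Groth.Agent.Lib.StalkSkyL DerivedCategory Groth.Agent.Lib.PushCxAcycH3
open Groth.Agent.Lib.MVPushL Groth.Agent.Lib.StalkTensH3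

noncomputable section

/-- `- ⊗^L G` exists for `G` K-flat -/
lemma hasLTensorCx_of_isKFlat {T : Scheme.{u}} (G : CochainComplex T.Modules ℤ)
    (hG : DCoh.IsKFlat G) : DCoh.HasLTensorCx G := by
  let L := Localization.lift _ (Groth.Agent.Lib.PerfTensH3.inverts_tensor_right G hG)
    (DerivedCategory.Q (C := T.Modules))
  let fac : DerivedCategory.Q ⋙ L ≅ DCoh.tensorCxQ G := Localization.fac _ _ _
  haveI : L.IsLeftDerivedFunctor fac.hom
      (HomologicalComplex.quasiIso T.Modules (ComplexShape.up ℤ)) :=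
    Functor.isLeftDerivedFunctor_of_inverts _ L fac
  exact Functor.HasLeftDerivedFunctor.mk' L fac.hom

section Main

variable {X Y : Scheme.{u}} (f : X ⟶ Y) [DCoh.HasRpush f] [DCoh.HasLpull f]
  {F I : CochainComplex X.Modules ℤ} (sF : F ⟶ I) [QuasiIso sF] [DCoh.HasLTensorCx F]
  {G : CochainComplex Y.Modules ℤ} [DCoh.HasLTensorCx G] (t : G ⟶ (pushCx f).obj I) [QuasiIso t]
  [QuasiCompact f] [QuasiSeparated f] [I.IsKInjective] (hI : DCoh.IsQCohD (Q.obj I)) (p : ℤ)

/-- the natural isomorphism `H^p(M ⊗^L G) ≅ R^p f_*(Lf^* M ⊗^L F)` on quasi-coherent modules -/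
def natIsoT :
    (QCohCat.isQCoh Y).ι ⋙ DerivedCategory.singleFunctor Y.Modules 0 ⋙ DCoh.LTensorCx G ⋙
        DerivedCategory.homologyFunctor Y.Modules p ≅
      (QCohCat.isQCoh Y).ι ⋙ DerivedCategory.singleFunctor Y.Modules 0 ⋙ DCoh.Lpull f ⋙
        DCoh.LTensorCx F ⋙ DCoh.Rpush f ⋙ DerivedCategory.homologyFunctor Y.Modules p :=
  NatIso.ofComponents (fun M =>
    haveI := isIso_pfNat_app f sF t hI ((DerivedCategory.singleFunctor Y.Modules 0).obj M.obj)
      (Groth.Agent.Lib.RpushCohDH3.isQCohD_inD M.obj M.property) 0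
      (fun i hi => DerivedCategory.isZero_of_isLE (DCoh.inD Y M.obj) 0 i hi)
    asIso ((DerivedCategory.homologyFunctor Y.Modules p).map
      ((pfNat f sF t).app ((DerivedCategory.singleFunctor Y.Modules 0).obj M.obj))))
    (by
      intro M N φ
      dsimp only [Functor.comp_map, asIso_hom]
      rw [← Functor.map_comp, ← Functor.map_comp]
      congr 1
      exact (pfNat f sF t).naturality _)

end Main

section Final

variable {X Y : Scheme.{u}}

/-- common set-up -/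
theorem setup [IsNoetherian Y] (f : X ⟶ Y) [IsProper f] (F : CochainComplex X.Modules ℤ)
    (a b : ℤ) [(DCoh.toD X F).IsGE a] [(DCoh.toD X F).IsLE b] (hF : DerSch.IsPerfectRel f F)
    (p : ℤ) [DCoh.HasLpull f] [DCoh.HasLTensorCx F] [DCoh.HasRpush f] :
    ∃ (G : CochainComplex Y.Modules ℤ) (_ : DCoh.HasLTensorCx G) (c : ℤ),
      (DCoh.toD Y G).IsLE c ∧ DCoh.IsPseudoCoherentD (p - 1) (DCoh.toD Y G) ∧
      Nonempty (DCoh.toD Y G ≅ (DCoh.Rpush f).obj (DCoh.toD X F)) ∧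
      Nonempty ((QCohCat.isQCoh Y).ι ⋙ DerivedCategory.singleFunctor Y.Modules 0 ⋙
          DCoh.LTensorCx G ⋙ DerivedCategory.homologyFunctor Y.Modules p ≅
        (QCohCat.isQCoh Y).ι ⋙ DerivedCategory.singleFunctor Y.Modules 0 ⋙ DCoh.Lpull f ⋙
          DCoh.LTensorCx F ⋙ DCoh.Rpush f ⋙ DerivedCategory.homologyFunctor Y.Modules p) := by
  obtain ⟨I, sF, hI, hs⟩ := exists_kinj_resolution F
  haveI := hI
  haveI := hs
  obtain ⟨G, t, hG, ht⟩ := Groth.Agent.Lib.DTorCmp.exists_kflat_resolution' ((pushCx f).obj I)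
  haveI := ht
  haveI : DCoh.HasLTensorCx G := hasLTensorCx_of_isKFlat G hG
  haveI : IsIso (Q.map t) := by rw [DerivedCategory.isIso_Q_map_iff_quasiIso]; infer_instance
  haveI : IsIso (Q.map sF) := by rw [DerivedCategory.isIso_Q_map_iff_quasiIso]; infer_instance
  let eG : DCoh.toD Y G ≅ (DCoh.Rpush f).obj (DCoh.toD X F) :=
    asIso (Q.map t) ≪≫ asIso (unitAt f I) ≪≫ ((DCoh.Rpush f).mapIso (asIso (Q.map sF))).symm
  have hcoh : DCoh.IsCohD (DCoh.toD X F) :=
    Groth.Agent.Lib.RelPCPropH3.isCohD_of_relPC f _ hF.1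
  obtain ⟨h1, h2, c, h3⟩ := Groth.Agent.Lib.RpushCohDH3.main1001 f (DCoh.toD X F) a b hcoh
    (fun i => Groth.Agent.Lib.RelPCPropH3.isProperOver_support f _ (hcoh i).2)
  have hLE : (DCoh.toD Y G).IsLE c := Groth.Agent.Lib.RelPCPropH3.isLE_of_iso' eG.symm c h3
  have hcohG : DCoh.IsCohD (DCoh.toD Y G) :=
    Groth.Agent.Lib.RelPCPropH3.isCohD_of_iso eG.symm h1
  have hPC : DCoh.IsPseudoCoherentD (p - 1) (DCoh.toD Y G) :=
    Groth.Agent.Lib.DCohLocLead.isPC_of_coh _ c (p - 1) hLE (fun i _ => hcohG i)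
  have hqc : DCoh.IsQCohD (DCoh.toD X F) := Groth.Agent.Lib.RelPCQcH3.main6235 f _ hF.1
  have hIq : DCoh.IsQCohD (Q.obj I) :=
    Groth.Agent.Lib.DSectX.isQCohD_of_iso (asIso (Q.map sF)) hqc
  exact ⟨G, inferInstance, c, hLE, hPC, ⟨eG⟩, ⟨natIsoT f sF t hIq p⟩⟩

/-- **S6252** -/
theorem main6252 [IsNoetherian Y] [IsReduced Y] (f : X ⟶ Y) [IsProper f]
    (F : CochainComplex X.Modules ℤ) (a b : ℤ)
    [(DCoh.toD X F).IsGE a] [(DCoh.toD X F).IsLE b] (hF : DerSch.IsPerfectRel f F) (p : ℤ)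
    [DCoh.HasLpull f] [DCoh.HasLTensorCx F] [DCoh.HasRpush f]
    [∀ y : Y, DCoh.HasLpull (Y.fromSpecResidueField y)]
    (hc : IsLocallyConstant
      (fun y : Y => PerfD.betti ((DCoh.Rpush f).obj (DCoh.toD X F)) y p)) :
    PreservesFiniteLimits ((QCohCat.isQCoh Y).ι ⋙ DerivedCategory.singleFunctor Y.Modules 0 ⋙
      DCoh.Lpull f ⋙ DCoh.LTensorCx F ⋙ DCoh.Rpush f ⋙
        DerivedCategory.homologyFunctor Y.Modules p) ∧
    PreservesFiniteColimits ((QCohCat.isQCoh Y).ι ⋙ DerivedCategory.singleFunctor Y.Modules 0 ⋙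
      DCoh.Lpull f ⋙ DCoh.LTensorCx F ⋙ DCoh.Rpush f ⋙
        DerivedCategory.homologyFunctor Y.Modules p) := by
  obtain ⟨G, hG, c, hLE, hPC, ⟨eG⟩, ⟨eT⟩⟩ := setup f F a b hF p
  haveI := hG
  haveI := hLE
  have hc' : IsLocallyConstant (fun y : Y => PerfD.betti (DCoh.toD Y G) y p) := by
    have : (fun y : Y => PerfD.betti (DCoh.toD Y G) y p) =
        (fun y : Y => PerfD.betti ((DCoh.Rpush f).obj (DCoh.toD X F)) y p) :=
      funext fun y => Groth.Agent.Lib.FibreLocH3.betti_congr eG y p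
    rw [this]
    exact hc
  obtain ⟨g1, g2⟩ := Groth.Agent.Lib.TorApproxH3.main6250 G c p hPC hc'
  haveI := g1
  haveI := g2
  exact ⟨preservesFiniteLimits_of_natIso eT, preservesFiniteColimits_of_natIso eT⟩

/-- **S6248** -/
theorem main6248 [IsNoetherian Y] (f : X ⟶ Y) [IsProper f]
    (F : CochainComplex X.Modules ℤ) (a b : ℤ)
    [(DCoh.toD X F).IsGE a] [(DCoh.toD X F).IsLE b] (hF : DerSch.IsPerfectRel f F) (p : ℤ)
    [DCoh.HasLpull f] [DCoh.HasLTensorCx F] [DCoh.HasRpush f]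
    [PreservesFiniteLimits ((QCohCat.isQCoh Y).ι ⋙ DerivedCategory.singleFunctor Y.Modules 0 ⋙
      DCoh.Lpull f ⋙ DCoh.LTensorCx F ⋙ DCoh.Rpush f ⋙
        DerivedCategory.homologyFunctor Y.Modules p)]
    [PreservesFiniteColimits ((QCohCat.isQCoh Y).ι ⋙ DerivedCategory.singleFunctor Y.Modules 0 ⋙
      DCoh.Lpull f ⋙ DCoh.LTensorCx F ⋙ DCoh.Rpush f ⋙
        DerivedCategory.homologyFunctor Y.Modules p)]
    [∀ y : Y, DCoh.HasLpull (Y.fromSpecResidueField y)] :
    FlatMod.IsFinLocFree (DCoh.HD ((DCoh.Rpush f).obj (DCoh.toD X F)) p) ∧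
      IsLocallyConstant
        (fun y : Y => PerfD.betti ((DCoh.Rpush f).obj (DCoh.toD X F)) y p) := by
  obtain ⟨G, hG, c, hLE, hPC, ⟨eG⟩, ⟨eT⟩⟩ := setup f F a b hF p
  haveI := hG
  haveI := hLE
  haveI : PreservesFiniteLimits ((QCohCat.isQCoh Y).ι ⋙
      DerivedCategory.singleFunctor Y.Modules 0 ⋙ DCoh.LTensorCx G ⋙
        DerivedCategory.homologyFunctor Y.Modules p) := preservesFiniteLimits_of_natIso eT.symm
  haveI : PreservesFiniteColimits ((QCohCat.isQCoh Y).ι ⋙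
      DerivedCategory.singleFunctor Y.Modules 0 ⋙ DCoh.LTensorCx G ⋙
        DerivedCategory.homologyFunctor Y.Modules p) := preservesFiniteColimits_of_natIso eT.symm
  obtain ⟨k1, k2⟩ := Groth.Agent.Lib.TorApproxH3.main6244 G c p hPC
  refine ⟨?_, ?_⟩
  · intro x
    obtain ⟨U, n, hx, ⟨i⟩⟩ := k2 x
    exact ⟨U, n, hx, ⟨(Scheme.Modules.restrictFunctor U.ι).mapIso
      ((DerivedCategory.homologyFunctor Y.Modules p).mapIso eG).symm ≪≫ i⟩⟩
  · have : (fun y : Y => PerfD.betti ((DCoh.Rpush f).obj (DCoh.toD X F)) y p) =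
        (fun y : Y => PerfD.betti (DCoh.toD Y G) y p) :=
      funext fun y => (Groth.Agent.Lib.FibreLocH3.betti_congr eG y p).symm
    rw [this]
    exact k1

end Final

end

end Groth.Agent.Lib.PjCxH3
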