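import Mathlib
import Groth.Prelude
import Groth.Agent.Lib.DualMod2_helper3
import Groth.Agent.Lib.DualDer1_helper3
import Groth.Agent.Lib.HomShDual3_helper2
import Groth.Agent.Lib.PerfFlat1_lead
import Groth.Agent.Lib.LpullLoc_helper3
import Groth.Agent.Lib.PerfTens2_helper3
import Groth.Agent.Lib.PjCx16_helper3

/-!
# Local duality for strictly perfect complexes on a scheme (helper3)

For a strictly perfect complex `E` on a scheme `T`: the dual complex `dualCx E` is strictly perfect,
both are K-flat, and `(- ⊗^L E) ⊣ (- ⊗^L dualCx E)` on `D(O_T)`.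
-/

set_option autoImplicit false
set_option linter.all false
set_option maxHeartbeats 1600000
set_option backward.isDefEq.respectTransparency false
set_option backward.isDefEq.respectTransparency.types false
set_option backward.defeqAttrib.useBackward true

universe u
open CategoryTheory CategoryTheory.Limits AlgebraicGeometry Opposite TopologicalSpace

attribute [local instance] HasDerivedCategory.standard

namespace Groth.Agent.Lib.DualSchH3

open ModSite Groth.Agent.Lib.ModSiteH8 Groth.Agent.Lib.DualLFH4 Groth.Agent.Lib.CxAdjH3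
  Groth.Agent.Lib.DualModH3 Groth.Agent.Lib.DualDerH3

attribute [local instance] Groth.Agent.Lib.ModSiteH8.hasSheafHom

noncomputable section

variable {T : Scheme.{u}}

/-- the dual of a finite locally free module is finite locally free -/
theorem isFinLocFree_dual (F : T.Modules) (hF : FlatMod.IsFinLocFree F) :
    FlatMod.IsFinLocFree (dual T.sheaf F) := by
  obtain ⟨D, hD, ⟨e⟩⟩ := Groth.Agent.Lib.HomShAdjH2.exists_dual (E := F) hF
  have i : dual T.sheaf F ≅ D :=
    e.app (ModSite.unit T.sheaf) ≪≫ (unitorObj T.sheaf).app D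
  exact Groth.Agent.Lib.PerfTensH3.isFinLocFree_of_iso' i.symm hD

theorem isIso_kappa_of_isFinLocFree (F : T.Modules) (hF : FlatMod.IsFinLocFree F) :
    IsIso (kappa T.sheaf F) := by
  haveI : ∀ G, IsIso ((kappa T.sheaf F).app G) := fun G => isIso_kappa F hF G
  exact NatIso.isIso_of_isIso_app _

/-- the dual of a zero module is zero -/
theorem isZero_dual (F : T.Modules) (hF : IsZero F) : IsZero (dual T.sheaf F) := by
  rw [IsZero.iff_id_eq_zero]
  have hz : IsZero (((tensorBi T.sheaf).flip.obj F).obj (dual T.sheaf F)) :=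
    isZero_tensor_right (dual T.sheaf F) F hF
  have h := hz.eq_of_src
    (((sheafHomAdj (O := T.sheaf) F).homEquiv (dual T.sheaf F) (ModSite.unit T.sheaf)).symm
      (𝟙 (dual T.sheaf F)))
    (((sheafHomAdj (O := T.sheaf) F).homEquiv (dual T.sheaf F) (ModSite.unit T.sheaf)).symm 0)
  exact ((sheafHomAdj (O := T.sheaf) F).homEquiv (dual T.sheaf F)
    (ModSite.unit T.sheaf)).symm.injective h

variable (E : CochainComplex T.Modules ℤ)

theorem isStrictlyPerfect_dualCx (hE : DCoh.IsStrictlyPerfect E) :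
    DCoh.IsStrictlyPerfect (dualCx T.sheaf E) := by
  obtain ⟨⟨a, b, hab⟩, hfl⟩ := hE
  refine ⟨⟨-b, -a, fun i hi => ?_⟩, fun i => isFinLocFree_dual _ (hfl (-i))⟩
  have hz : IsZero (E.X (-i)) := hab (-i) (by omega)
  exact isZero_dual _ hz

theorem isKFlat_of_isStrictlyPerfect (hE : DCoh.IsStrictlyPerfect E) : DCoh.IsKFlat E := by
  obtain ⟨⟨a, b, hab⟩, hfl⟩ := hE
  exact Groth.Agent.Lib.LpullLocH3.isKFlat_of_flat_bounded E b (fun i hi => hab i (Or.inr hi))
    (fun i => Groth.Agent.Lib.DCohLocLead.isFlat_of_isFinLocFree (hfl i))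

/-- **local duality**: `(- ⊗^L E) ⊣ (- ⊗^L E^∨)` for `E` strictly perfect -/
theorem nonempty_adj (hE : DCoh.IsStrictlyPerfect E) [DCoh.HasLTensorCx E]
    [DCoh.HasLTensorCx (dualCx T.sheaf E)] :
    Nonempty (DCoh.LTensorCx E ⊣ DCoh.LTensorCx (dualCx T.sheaf E)) := by
  haveI : ∀ i, IsIso (kappa T.sheaf (E.X i)) := fun i => isIso_kappa_of_isFinLocFree _ (hE.2 i)
  have hKE : DCoh.IsKFlat E := isKFlat_of_isStrictlyPerfect E hE
  have hKD : DCoh.IsKFlat (dualCx T.sheaf E) :=
    isKFlat_of_isStrictlyPerfect _ (isStrictlyPerfect_dualCx E hE)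
  obtain ⟨⟨a, b, hab⟩, -⟩ := hE
  have hv : ∀ q : ℤ, (q < a ∨ a + ((b - a + 1).toNat : ℤ) ≤ q) → IsZero (E.X q) := by
    intro q hq
    apply hab q
    rcases hq with h | h
    · exact Or.inl h
    · by_cases hba : 0 ≤ b - a + 1
      · rw [Int.toNat_of_nonneg hba] at h
        exact Or.inr (by omega)
      · have : (b - a + 1).toNat = 0 := Int.toNat_eq_zero.2 (by omega)
        rw [this] at h
        exact Or.inr (by push_cast at h; omega)
  let adj := cxAdj (dualData T.sheaf E) a (b - a + 1).toNat hv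
  haveI : ModSite.HasLTensorCx (O := T.sheaf) E := inferInstanceAs (DCoh.HasLTensorCx E)
  haveI : ModSite.HasLTensorCx (O := T.sheaf) (dualCx T.sheaf E) :=
    inferInstanceAs (DCoh.HasLTensorCx (dualCx T.sheaf E))
  exact ⟨derivedAdj T.sheaf E (dualCx T.sheaf E) hKE hKD adj⟩

end

end Groth.Agent.Lib.DualSchH3
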