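import Mathlib
import Groth.Prelude
import Groth.Agent.Lib.DualSch1_helper3
import Groth.Agent.Lib.PjShriek4_helper3
import Groth.Agent.Lib.LTensQC_lead
import Groth.Agent.Lib.BifSingleL_helper2
import Groth.Agent.Lib.FibreRk4_helper3

/-!
# Internal `RHom` out of a perfect complex, locally (helper3)

* `nonempty_LTensorCx_iso_of_Q_iso`: `- ⊗^L K` only depends on the image of `K` in `D(O_X)`.
* `exists_local_dual`: for `K` perfect, locally `RHom(K, M)|_V ≅ M|_V ⊗^L E^∨` with `E` strictly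
  perfect.
* `main1114`, `isPerfect_RSheafHom_unit`.
-/

set_option autoImplicit false
set_option linter.all false
set_option maxHeartbeats 1600000
set_option backward.isDefEq.respectTransparency false
set_option backward.isDefEq.respectTransparency.types false
set_option backward.defeqAttrib.useBackward true

universe u
open CategoryTheory CategoryTheory.Limits AlgebraicGeometry Opposite TopologicalSpace
open HomologicalComplex

attribute [local instance] HasDerivedCategory.standard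

namespace Groth.Agent.Lib.DualSchH3

open ModSite Groth.Agent.Lib.ModSiteH8 Groth.Agent.Lib.DualLFH4 Groth.Agent.Lib.CxAdjH3
  Groth.Agent.Lib.DualModH3 Groth.Agent.Lib.DualDerH3 Groth.Agent.Lib.PjShriekH3
  Groth.Agent.Lib.DCohLocLead Groth.Agent.Lib.PerfTensH3 DerivedCategory

attribute [local instance] Groth.Agent.Lib.ModSiteH8.hasSheafHom

noncomputable section

/-- `- ⊗^L K` only depends on the image of `K` in the derived category -/
theorem nonempty_LTensorCx_iso_of_Q_iso {T : Scheme.{u}} (K L : CochainComplex T.Modules ℤ)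
    [DCoh.HasLTensorCx K] [DCoh.HasLTensorCx L] (e : Q.obj K ≅ Q.obj L) :
    Nonempty (DCoh.LTensorCx K ≅ DCoh.LTensorCx L) := by
  obtain ⟨Z, s, t, hs, ht⟩ := Groth.Agent.Lib.LTensQCL.exists_roof e
  obtain ⟨Z', r, hZ', hr⟩ := Groth.Agent.Lib.DTorCmp.exists_kflat_resolution' Z
  haveI := hs
  haveI := ht
  haveI := hr
  haveI : QuasiIso (r ≫ s) := inferInstance
  haveI : QuasiIso (r ≫ t) := inferInstance
  obtain ⟨e1⟩ := nonempty_ltNatIso K Z' (r ≫ s) hZ'
  obtain ⟨e2⟩ := nonempty_ltNatIso L Z' (r ≫ t) hZ'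
  letI L1 : Localization.Lifting (DerivedCategory.Q (C := T.Modules))
      (HomologicalComplex.quasiIso T.Modules (ComplexShape.up ℤ))
      (DerivedCategory.Q ⋙ DCoh.LTensorCx K) (DCoh.LTensorCx K) := ⟨Iso.refl _⟩
  letI L2 : Localization.Lifting (DerivedCategory.Q (C := T.Modules))
      (HomologicalComplex.quasiIso T.Modules (ComplexShape.up ℤ))
      (DerivedCategory.Q ⋙ DCoh.LTensorCx L) (DCoh.LTensorCx L) := ⟨Iso.refl _⟩
  exact ⟨Localization.liftNatIso (DerivedCategory.Q (C := T.Modules))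
    (HomologicalComplex.quasiIso T.Modules (ComplexShape.up ℤ)) _ _ _ _ (e1 ≪≫ e2.symm)⟩

/-- `RHom(K, -)` only depends on the image of `K` in the derived category -/
theorem nonempty_RSheafHom_iso_of_Q_iso {T : Scheme.{u}} (K L : CochainComplex T.Modules ℤ)
    [DCoh.HasLTensorCx K] [DCoh.HasLTensorCx L] [DCoh.HasRSheafHom K] [DCoh.HasRSheafHom L]
    (e : Q.obj K ≅ Q.obj L) :
    Nonempty (DCoh.RSheafHom K ≅ DCoh.RSheafHom L) := by
  obtain ⟨γ⟩ := nonempty_LTensorCx_iso_of_Q_iso K L e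
  exact ⟨Adjunction.rightAdjointUniq ((DCoh.RSheafHomAdj K).ofNatIsoLeft γ) (DCoh.RSheafHomAdj L)⟩

theorem hasRSheafHom_of_Q_iso {T : Scheme.{u}} (K L : CochainComplex T.Modules ℤ)
    [DCoh.HasLTensorCx K] [DCoh.HasLTensorCx L] [DCoh.HasRSheafHom K]
    (e : Q.obj K ≅ Q.obj L) : DCoh.HasRSheafHom L := by
  obtain ⟨γ⟩ := nonempty_LTensorCx_iso_of_Q_iso K L e
  exact ((DCoh.RSheafHomAdj K).ofNatIsoLeft γ).isLeftAdjoint

/-- the chain-level left unitor `O[0] ⊗ D ≅ D` -/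
def leftUnitorCx {T : Scheme.{u}} (D : CochainComplex T.Modules ℤ) :
    (DCoh.tensorCx.obj ((HomologicalComplex.single T.Modules (ComplexShape.up ℤ) 0).obj
      (Coh.structureModule T))).obj D ≅ D :=
  (asIso (Groth.Agent.Lib.BifSingleL.xiApp (ModSite.tensorBi T.sheaf)
    (ModSite.unit T.sheaf) D)).symm ≪≫
    (NatIso.mapHomologicalComplex (unitorObj T.sheaf) (ComplexShape.up ℤ)).app D ≪≫
    (Functor.mapHomologicalComplexIdIso T.Modules (ComplexShape.up ℤ)).app D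

/-- `O ⊗^L D ≅ D` for `D` K-flat -/
theorem nonempty_LTensorCx_unit_iso {T : Scheme.{u}} (D : CochainComplex T.Modules ℤ)
    (hD : DCoh.IsKFlat D) [DCoh.HasLTensorCx D] :
    Nonempty ((DCoh.LTensorCx D).obj ((DerivedCategory.singleFunctor T.Modules 0).obj
      (Coh.structureModule T)) ≅ Q.obj D) :=
  ⟨Groth.Agent.Lib.LpullTensH3.ltIsoRight D _ hD ≪≫ Q.mapIso (leftUnitorCx D)⟩

variable {X : Scheme.{u}}

/-- **local description of `RHom(K, -)` for `K` perfect**, inside a given neighbourhood -/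
theorem exists_local_dual' (K : CochainComplex X.Modules ℤ)
    (hK : DCoh.IsPerfect (Q.obj K)) [DCoh.HasLTensorCx K] [DCoh.HasRSheafHom K] (x : X)
    (W : X.Opens) (hxW : x ∈ W) :
    ∃ (V : X.Opens) (_ : x ∈ V) (_ : V ≤ W) (E : CochainComplex (V : Scheme.{u}).Modules ℤ)
      (_ : DCoh.IsStrictlyPerfect E)
      (_ : DCoh.HasLTensorCx (dualCx (V : Scheme.{u}).sheaf E)),
      ∀ M : DCoh.D X, Nonempty ((DCoh.restrictD V.ι).obj ((DCoh.RSheafHom K).obj M) ≅
        (DCoh.LTensorCx (dualCx (V : Scheme.{u}).sheaf E)).obj ((DCoh.restrictD V.ι).obj M)) := by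
  obtain ⟨V₀, hxV₀, hV₀⟩ := (isPerfect_iff (Q.obj K)).1 hK x
  let V : X.Opens := V₀ ⊓ W
  have hxV : x ∈ V := ⟨hxV₀, hxW⟩
  have hVr : Set.range V.ι ⊆ (V₀ : Set X) := by
    rw [Scheme.Opens.range_ι]
    exact fun y hy => hy.1
  obtain ⟨E, hE, ⟨e⟩⟩ := Groth.Agent.Lib.FibreRkH3.LocRep.of_range_le' hV₀ V.ι hVr
  have hE' : DCoh.IsStrictlyPerfect E := hE
  -- K-flat replacement
  obtain ⟨K', π, hK', hπ⟩ := Groth.Agent.Lib.DTorCmp.exists_kflat_resolution' K
  haveI := hπ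
  haveI : IsIso (Q.map π) := by rw [DerivedCategory.isIso_Q_map_iff_quasiIso]; infer_instance
  haveI : DCoh.HasLTensorCx K' := Groth.Agent.Lib.PjCxH3.hasLTensorCx_of_isKFlat K' hK'
  haveI : DCoh.HasRSheafHom K' := hasRSheafHom_of_Q_iso K K' (asIso (Q.map π)).symm
  obtain ⟨ρ⟩ := nonempty_RSheafHom_iso_of_Q_iso K K' (asIso (Q.map π)).symm
  have hKV : DCoh.IsKFlat ((DCoh.restrictCx V).obj K') := isKFlat_RC V.ι K' hK'
  haveI : DCoh.HasLTensorCx ((DCoh.restrictCx V).obj K') :=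
    Groth.Agent.Lib.PjCxH3.hasLTensorCx_of_isKFlat _ hKV
  have hKE : DCoh.IsKFlat E := isKFlat_of_isStrictlyPerfect E hE'
  have hKD : DCoh.IsKFlat (dualCx (V : Scheme.{u}).sheaf E) :=
    isKFlat_of_isStrictlyPerfect _ (isStrictlyPerfect_dualCx E hE')
  haveI : DCoh.HasLTensorCx E := Groth.Agent.Lib.PjCxH3.hasLTensorCx_of_isKFlat E hKE
  haveI hLD : DCoh.HasLTensorCx (dualCx (V : Scheme.{u}).sheaf E) :=
    Groth.Agent.Lib.PjCxH3.hasLTensorCx_of_isKFlat _ hKD
  obtain ⟨adjE⟩ := nonempty_adj E hE'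
  haveI : DCoh.HasRSheafHom E := adjE.isLeftAdjoint
  -- `Q (K'|_V) ≅ Q E`
  let eV : Q.obj ((DCoh.restrictCx V).obj K') ≅ Q.obj E :=
    (facIso V.ι K').symm ≪≫ (DD V.ι).mapIso (asIso (Q.map π)) ≪≫ e
  haveI : DCoh.HasRSheafHom ((DCoh.restrictCx V).obj K') := hasRSheafHom_of_Q_iso E _ eV.symm
  obtain ⟨γ⟩ := nonempty_LTensorCx_iso_of_Q_iso ((DCoh.restrictCx V).obj K') E eV
  let ρV : DCoh.RSheafHom ((DCoh.restrictCx V).obj K') ≅
      DCoh.LTensorCx (dualCx (V : Scheme.{u}).sheaf E) :=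
    Adjunction.rightAdjointUniq (DCoh.RSheafHomAdj ((DCoh.restrictCx V).obj K'))
      (adjE.ofNatIsoLeft γ.symm)
  refine ⟨V, hxV, inf_le_right, E, hE', hLD, fun M => ?_⟩
  obtain ⟨e1⟩ := main6515 V K' M
  exact ⟨(DCoh.restrictD V.ι).mapIso (ρ.app M) ≪≫ e1 ≪≫ ρV.app _⟩

/-- **local description of `RHom(K, -)` for `K` perfect** -/
theorem exists_local_dual (K : CochainComplex X.Modules ℤ)
    (hK : DCoh.IsPerfect (Q.obj K)) [DCoh.HasLTensorCx K] [DCoh.HasRSheafHom K] (x : X) :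
    ∃ (V : X.Opens) (_ : x ∈ V) (E : CochainComplex (V : Scheme.{u}).Modules ℤ)
      (_ : DCoh.IsStrictlyPerfect E)
      (_ : DCoh.HasLTensorCx (dualCx (V : Scheme.{u}).sheaf E)),
      ∀ M : DCoh.D X, Nonempty ((DCoh.restrictD V.ι).obj ((DCoh.RSheafHom K).obj M) ≅
        (DCoh.LTensorCx (dualCx (V : Scheme.{u}).sheaf E)).obj ((DCoh.restrictD V.ι).obj M)) := by
  obtain ⟨V, hxV, -, E, hE, hLD, h⟩ := exists_local_dual' K hK x ⊤ trivial
  exact ⟨V, hxV, E, hE, hLD, h⟩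

end

end Groth.Agent.Lib.DualSchH3
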