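import Groth.Agent.Lib.KFlatSite13_helper2
import Groth.Prelude

/-!
# The derived tensor product with an arbitrary complex exists (helper3)

* `isRightKanExtension_whisker_quotient`: a right Kan extension along `Lh : Quotient r ⥤ D` is also
  a right Kan extension along `functor r ⋙ Lh` (of the whiskered functor).
* `KFlatGen.hasLeftDerivedFunctor_Qh`, `KFlatGen.hasLeftDerivedFunctor_Q`: existence of the left
  derived functor of `X ↦ Tot F(X, N)` for an arbitrary complex `N`.
* `hasLTensorCx_site`, `hasLTensorCx`: `ModSite.HasLTensorCx K`, `DCoh.HasLTensorCx E` always hold.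
-/

set_option autoImplicit false
set_option linter.all false
set_option maxHeartbeats 1600000

universe w v u
open CategoryTheory Limits

namespace Groth.Agent.Lib.LTensExH3

open Groth.Agent.Lib.BifCone Groth.Agent.Lib.KFlatGen

section Transfer

variable {C D H : Type*} [Category C] [Category D] [Category H] (r : HomRel C)
  (Lh : CategoryTheory.Quotient r ⥤ D) (ΦH : CategoryTheory.Quotient r ⥤ H) (LF : D ⥤ H)

/-- a right Kan extension along `Lh` is a right Kan extension along `functor r ⋙ Lh` -/
theorem isRightKanExtension_whisker_quotient (α' : Lh ⋙ LF ⟶ ΦH) [LF.IsRightKanExtension α'] :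
    LF.IsRightKanExtension
      ((Functor.associator _ _ _).hom ≫
        Functor.whiskerLeft (CategoryTheory.Quotient.functor r) α' :
        (CategoryTheory.Quotient.functor r ⋙ Lh) ⋙ LF ⟶
          CategoryTheory.Quotient.functor r ⋙ ΦH) := by
  refine ⟨⟨Limits.IsTerminal.ofUniqueHom (fun E => CostructuredArrow.homMk
    (LF.liftOfIsRightKanExtension α' E.left
      (CategoryTheory.Quotient.natTransLift r ((Functor.associator _ _ _).inv ≫ E.hom)))
    ?_) (fun E m => ?_)⟩⟩
  · ext X
    have h := LF.liftOfIsRightKanExtension_fac_app α' E.left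
      (CategoryTheory.Quotient.natTransLift r ((Functor.associator _ _ _).inv ≫ E.hom))
      ((CategoryTheory.Quotient.functor r).obj X)
    rw [CategoryTheory.Quotient.natTransLift_app] at h
    have h' : (LF.liftOfIsRightKanExtension α' E.left
        (CategoryTheory.Quotient.natTransLift r ((Functor.associator _ _ _).inv ≫ E.hom))).app
          (Lh.obj ((CategoryTheory.Quotient.functor r).obj X)) ≫
        α'.app ((CategoryTheory.Quotient.functor r).obj X) = E.hom.app X :=
      h.trans (by simp)
    change (LF.liftOfIsRightKanExtension α' E.left _).app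
          (Lh.obj ((CategoryTheory.Quotient.functor r).obj X)) ≫
        (𝟙 _ ≫ α'.app ((CategoryTheory.Quotient.functor r).obj X)) = E.hom.app X
    rw [Category.id_comp]
    exact h'
  · apply CostructuredArrow.hom_ext
    apply LF.hom_ext_of_isRightKanExtension α'
    apply CategoryTheory.Quotient.natTrans_ext
    ext X
    have h := LF.liftOfIsRightKanExtension_fac_app α' E.left
      (CategoryTheory.Quotient.natTransLift r ((Functor.associator _ _ _).inv ≫ E.hom))
      ((CategoryTheory.Quotient.functor r).obj X)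
    rw [CategoryTheory.Quotient.natTransLift_app] at h
    have h' : (LF.liftOfIsRightKanExtension α' E.left
        (CategoryTheory.Quotient.natTransLift r ((Functor.associator _ _ _).inv ≫ E.hom))).app
          (Lh.obj ((CategoryTheory.Quotient.functor r).obj X)) ≫
        α'.app ((CategoryTheory.Quotient.functor r).obj X) = E.hom.app X :=
      h.trans (by simp)
    have hm := congrArg (fun t => t.app X) (CostructuredArrow.w m)
    replace hm : m.left.app (Lh.obj ((CategoryTheory.Quotient.functor r).obj X)) ≫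
        α'.app ((CategoryTheory.Quotient.functor r).obj X) = E.hom.app X := by
      simpa using hm
    change m.left.app (Lh.obj ((CategoryTheory.Quotient.functor r).obj X)) ≫
        α'.app ((CategoryTheory.Quotient.functor r).obj X) =
      (LF.liftOfIsRightKanExtension α' E.left _).app
          (Lh.obj ((CategoryTheory.Quotient.functor r).obj X)) ≫
        α'.app ((CategoryTheory.Quotient.functor r).obj X)
    exact hm.trans h'.symm

end Transfer

section Derived

variable {𝒜 : Type u} [Category.{v} 𝒜] [Abelian 𝒜]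
  (F : 𝒜 ⥤ 𝒜 ⥤ 𝒜) [F.Additive] [∀ X, (F.obj X).Additive]
  [∀ (K₁ K₂ : CochainComplex 𝒜 ℤ), CochainComplex.HasMapBifunctor K₁ K₂ F]
variable [HasDerivedCategory.{w} 𝒜]
variable (σ : F ≅ F.flip) {Fl P : 𝒜 → Prop} (hFl : FlatClass F Fl) (hP : ResClass Fl P)
  [HasCoproducts.{0} 𝒜]
  [∀ n : ℤ, HasExactColimitsOfShape (Discrete (BifSES.Idx n)) 𝒜]
  [HasColimitsOfShape ℕ 𝒜] [HasExactColimitsOfShape ℕ 𝒜]
  [∀ X : 𝒜, PreservesColimitsOfShape ℕ (F.obj X)]

include σ hFl hP in
/-- a left derived functor of `Tot F(-, N)` along `Qh`, for an arbitrary complex `N` -/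
theorem exists_isLeftDerivedFunctor_Qh (N : CochainComplex 𝒜 ℤ) :
    ∃ (LG : DerivedCategory 𝒜 ⥤ DerivedCategory 𝒜)
      (α' : DerivedCategory.Qh ⋙ LG ⟶ phiH F N ⋙ DerivedCategory.Qh),
      LG.IsLeftDerivedFunctor α' (HomotopyCategory.quasiIso 𝒜 (ComplexShape.up ℤ)) := by
  obtain ⟨PN, π, hPN, -, hπ, -⟩ := exists_kflat_resolution hFl hP N
  haveI := hπ
  have hdata : Groth.Agent.Lib.DerivedCmp.ResData
      (HomotopyCategory.quasiIso 𝒜 (ComplexShape.up ℤ))
      (Functor.whiskerRight (phiHMap F π) DerivedCategory.Qh)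
      (fun Z => IsKFlat F Z.as) := by
    constructor
    · rintro ⟨Z⟩ hZ
      have hq : QuasiIso (HomologicalComplex.mapBifunctorMap (𝟙 Z) π F (ComplexShape.up ℤ)) :=
        quasiIso_mapBifunctorMap₂ F Z (acyclic_tensor_left_of_isKFlat σ Z hZ) π
      exact isIso_Qh_quotient_map _ hq
    · rintro ⟨Z⟩
      obtain ⟨K, q, hK, -, hq, -⟩ := exists_kflat_resolution hFl hP Z
      exact ⟨(HomotopyCategory.quotient 𝒜 (ComplexShape.up ℤ)).obj K,
        (HomotopyCategory.quotient 𝒜 (ComplexShape.up ℤ)).map q,
        (HomotopyCategory.quotient_map_mem_quasiIso_iff q).2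
          ((HomologicalComplex.mem_quasiIso_iff q).2 hq), hK⟩
  have hG := isInvertedBy_phiH F PN hPN
  exact ⟨Localization.lift (phiH F PN ⋙ DerivedCategory.Qh) hG DerivedCategory.Qh, _,
    Groth.Agent.Lib.DerivedCmp.isLeftDerivedFunctor DerivedCategory.Qh
      (HomotopyCategory.quasiIso 𝒜 (ComplexShape.up ℤ)) hdata _
      (Localization.fac (phiH F PN ⋙ DerivedCategory.Qh) hG DerivedCategory.Qh)⟩

include σ hFl hP in
/-- **a left derived functor of `X ↦ Q (Tot F(X, N))` along `Q` exists, for every complex `N`** -/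
theorem hasLeftDerivedFunctor_Q (N : CochainComplex 𝒜 ℤ) :
    (F.map₂CochainComplex.flip.obj N ⋙ DerivedCategory.Q).HasLeftDerivedFunctor
      (HomologicalComplex.quasiIso 𝒜 (ComplexShape.up ℤ)) := by
  obtain ⟨LG, α', hα'⟩ := exists_isLeftDerivedFunctor_Qh F σ hFl hP N
  haveI := hα'
  have hK : LG.IsRightKanExtension α' :=
    Functor.IsLeftDerivedFunctor.isRightKanExtension LG α'
      (HomotopyCategory.quasiIso 𝒜 (ComplexShape.up ℤ))
  have h := @isRightKanExtension_whisker_quotient _ _ _ _ _ _ (homotopic 𝒜 (ComplexShape.up ℤ))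
    DerivedCategory.Qh (phiH F N ⋙ DerivedCategory.Qh) LG α' hK
  let α₀ : (CategoryTheory.Quotient.functor (homotopic 𝒜 (ComplexShape.up ℤ)) ⋙
        DerivedCategory.Qh) ⋙ LG ⟶
      CategoryTheory.Quotient.functor (homotopic 𝒜 (ComplexShape.up ℤ)) ⋙
        (phiH F N ⋙ DerivedCategory.Qh) :=
    (Functor.associator _ _ _).hom ≫
      Functor.whiskerLeft (CategoryTheory.Quotient.functor (homotopic 𝒜 (ComplexShape.up ℤ))) α'
  let α : DerivedCategory.Q ⋙ LG ⟶ F.map₂CochainComplex.flip.obj N ⋙ DerivedCategory.Q := α₀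
  haveI : LG.IsLeftDerivedFunctor α (HomologicalComplex.quasiIso 𝒜 (ComplexShape.up ℤ)) := ⟨h⟩
  exact Functor.HasLeftDerivedFunctor.mk' LG α

end Derived

end Groth.Agent.Lib.LTensExH3

namespace Groth.Agent.Lib.LTensExH3

attribute [local instance] HasDerivedCategory.standard

open Groth.Agent.Lib.ModSiteH8 Groth.Agent.Lib.ResSite Groth.Agent.Lib.KFlatGen
  Groth.Agent.Lib.KFlatSite ModSite

/-- **`- ⊗^L K` exists for every complex `K` of modules on a ringed site** -/
theorem hasLTensorCx_site {C : Type u} [SmallCategory C] {J : GrothendieckTopology C}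
    (O : Sheaf J CommRingCat.{u}) (K : CochainComplex (Mod O) ℤ) : ModSite.HasLTensorCx K := by
  haveI := hasExactColimitsOfShape_filtered O ℕ
  exact hasLeftDerivedFunctor_Q (tensorBi O) (sigmaNatIso O) (flatClass O) (resClass O) K

open AlgebraicGeometry in
/-- **`- ⊗^L E` exists for every complex `E` of modules on a scheme** -/
theorem hasLTensorCx {T : Scheme.{u}} (E : CochainComplex T.Modules ℤ) : DCoh.HasLTensorCx E :=
  hasLTensorCx_site T.sheaf E

end Groth.Agent.Lib.LTensExH3
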