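import Mathlib
import Groth.Prelude
import Groth.Agent.Lib.BifSingle_helper2
import Groth.Agent.Lib.DualSch2_helper3

/-!
# The right unitor for the tensor product of complexes (helper3)

* `singleNatIso F M`: `F(-, M)` applied degreewise is `Tot F(-, M[0])`, naturally.
* `rightUnitorCx`: `- ⊗ O[0] ≅ 𝟭` on complexes of modules on a scheme.
* `nonempty_LTensorCx_unit_natIso`: `- ⊗^L O[0] ≅ 𝟭` on `D(O_T)`.
-/

set_option autoImplicit false
set_option linter.all false
set_option maxHeartbeats 1600000
set_option backward.isDefEq.respectTransparency false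
set_option backward.isDefEq.respectTransparency.types false
set_option backward.defeqAttrib.useBackward true

universe u
open CategoryTheory CategoryTheory.Limits AlgebraicGeometry Opposite TopologicalSpace
open HomologicalComplex

attribute [local instance] HasDerivedCategory.standard

namespace Groth.Agent.Lib.RUnitCxH3

noncomputable section

section Abstract

variable {C₁ C₂ D : Type*} [Category C₁] [Category C₂] [Category D]
  [Abelian C₁] [Preadditive C₂] [HasZeroObject C₂] [Abelian D]
  (F : C₁ ⥤ C₂ ⥤ D) [F.Additive] [∀ X₁, (F.obj X₁).Additive]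
  [∀ (K₁ : CochainComplex C₁ ℤ) (K₂ : CochainComplex C₂ ℤ),
    CochainComplex.HasMapBifunctor K₁ K₂ F]
  (M : C₂) [(F.flip.obj M).PreservesZeroMorphisms]

open Groth.Agent.Lib.BifSingle

/-- `F(L, M) ≅ Tot F(L, M[0])` -/
def singleIso (L : CochainComplex C₁ ℤ) :
    ((F.flip.obj M).mapHomologicalComplex (ComplexShape.up ℤ)).obj L ≅
      (F.map₂CochainComplex.obj L).obj
        ((HomologicalComplex.single C₂ (ComplexShape.up ℤ) 0).obj M) :=
  HomologicalComplex.Hom.isoOfComponents (fun p => asIso (θ F L M 0 p p (add_zero p))) (by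
    intro p p' hpp'
    have h : p + 1 = p' := hpp'
    exact θ_d F L M 0 p p p' p' (add_zero p) h h)

lemma singleIso_hom_f (L : CochainComplex C₁ ℤ) (p : ℤ) :
    (singleIso F M L).hom.f p = θ F L M 0 p p (add_zero p) := rfl

lemma singleIso_natural {L L' : CochainComplex C₁ ℤ} (g : L ⟶ L') :
    ((F.flip.obj M).mapHomologicalComplex (ComplexShape.up ℤ)).map g ≫ (singleIso F M L').hom =
      (singleIso F M L).hom ≫ (F.map₂CochainComplex.map g).app
        ((HomologicalComplex.single C₂ (ComplexShape.up ℤ) 0).obj M) := by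
  ext p
  rw [HomologicalComplex.comp_f, HomologicalComplex.comp_f, singleIso_hom_f, singleIso_hom_f]
  dsimp only [θ, Functor.mapHomologicalComplex_map_f, Functor.flip_obj_map,
    Functor.map₂HomologicalComplex_map_app]
  rw [Category.assoc, HomologicalComplex.ι_mapBifunctorMap, HomologicalComplex.id_f,
    CategoryTheory.Functor.map_id, Category.id_comp, ← Category.assoc, ← Category.assoc,
    NatTrans.naturality]

/-- the natural isomorphism `F(-, M) ≅ Tot F(-, M[0])` -/
def singleNatIso : (F.flip.obj M).mapHomologicalComplex (ComplexShape.up ℤ) ≅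
    F.map₂CochainComplex.flip.obj ((HomologicalComplex.single C₂ (ComplexShape.up ℤ) 0).obj M) :=
  NatIso.ofComponents (fun L => singleIso F M L) (fun g => singleIso_natural F M g)

end Abstract

section Sch

variable (T : Scheme.{u})

/-- the unit complex `O_T[0]` -/
abbrev unitCx : CochainComplex T.Modules ℤ :=
  (HomologicalComplex.single T.Modules (ComplexShape.up ℤ) 0).obj (Coh.structureModule T)

/-- the right unitor for modules, naturally in the module -/
def rightUnitorMod : (DCoh.tensorBi (X := T)).flip.obj (Coh.structureModule T) ≅ 𝟭 T.Modules :=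
  (Groth.Agent.Lib.ModSiteH8.sigmaIso T.sheaf (ModSite.unit T.sheaf)).symm ≪≫
    Groth.Agent.Lib.ModSiteH8.unitorObj T.sheaf

instance : ((DCoh.tensorBi (X := T)).flip.obj (Coh.structureModule T)).Additive :=
  Functor.additive_of_iso (rightUnitorMod T).symm

/-- the right unitor for complexes, naturally in the complex -/
def rightUnitorCx : (DCoh.tensorCx (X := T)).flip.obj (unitCx T) ≅ 𝟭 (CochainComplex T.Modules ℤ) :=
  (singleNatIso (DCoh.tensorBi (X := T)) (Coh.structureModule T)).symm ≪≫
    NatIso.mapHomologicalComplex (rightUnitorMod T) (ComplexShape.up ℤ) ≪≫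
    Functor.mapHomologicalComplexIdIso T.Modules (ComplexShape.up ℤ)

/-- `- ⊗ O[0]` followed by localization is the localization functor -/
def tensorCxQUnitIso : DerivedCategory.Q ⋙ 𝟭 (DCoh.D T) ≅ DCoh.tensorCxQ (unitCx T) :=
  Functor.rightUnitor _ ≪≫ (Functor.leftUnitor _).symm ≪≫
    Functor.isoWhiskerRight (rightUnitorCx T).symm DerivedCategory.Q

instance isLeftDerived_id : (𝟭 (DCoh.D T)).IsLeftDerivedFunctor (tensorCxQUnitIso T).hom
    (HomologicalComplex.quasiIso T.Modules (ComplexShape.up ℤ)) :=
  Functor.isLeftDerivedFunctor_of_inverts _ _ _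

instance hasLTensorCx_unit : DCoh.HasLTensorCx (unitCx T) :=
  Functor.HasLeftDerivedFunctor.mk' (𝟭 (DCoh.D T)) (tensorCxQUnitIso T).hom

/-- `- ⊗^L O[0] ≅ 𝟭` -/
def LTensorCxUnitIso : DCoh.LTensorCx (unitCx T) ≅ 𝟭 (DCoh.D T) :=
  Functor.leftDerivedUnique (𝟭 (DCoh.D T)) (DCoh.LTensorCx (unitCx T))
    ((DCoh.tensorCxQ (unitCx T)).totalLeftDerivedCounit DerivedCategory.Q
      (HomologicalComplex.quasiIso T.Modules (ComplexShape.up ℤ)))
    (tensorCxQUnitIso T).hom (HomologicalComplex.quasiIso T.Modules (ComplexShape.up ℤ))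

end Sch

end

end Groth.Agent.Lib.RUnitCxH3
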