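import Mathlib
import Groth.Prelude
import Groth.Agent.Lib.LTensEx_helper3
import Groth.Agent.Lib.ProjFormula3_helper3
import Groth.Agent.Lib.RUnitCx_helper3
import Groth.Agent.Lib.LpullAdj_helper3
import Groth.Agent.Lib.BCOpen2_lead
import Groth.Agent.Lib.DualSch2_helper3

/-!
# The Fourier–Mukai functor with kernel the structure sheaf of the diagonal (helper3; S13565)

* `LpullIdIso`, `nonempty_Rpush_id_iso`: `L(𝟙)^* ≅ 𝟭`, `R(𝟙)_* ≅ 𝟭`.
* `thetaCx f`: for a closed immersion `f`, `f_* f^* A ≅ A ⊗ (f_* O_X)[0]` naturally in the complex `A`.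
* `kappaIso f`: `Lf^* ⋙ Rf_* ≅ - ⊗^L (f_* O_X)[0]` for a closed immersion `f`.
* `main13565`.
-/

set_option autoImplicit false
set_option linter.all false
set_option maxHeartbeats 1600000
set_option backward.isDefEq.respectTransparency false
set_option backward.isDefEq.respectTransparency.types false
set_option backward.defeqAttrib.useBackward true

universe u
open CategoryTheory CategoryTheory.Limits AlgebraicGeometry Opposite

attribute [local instance] HasDerivedCategory.standard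

namespace Groth.Agent.Lib.FMDiagH3

open Groth.Agent.Lib.LpullLocH3 Groth.Agent.Lib.LpullExH3 Groth.Agent.Lib.LpullCompH3
  Groth.Agent.Lib.LpullAdjH3 Groth.Agent.Lib.ProjFormulaH3 Groth.Agent.Lib.LpullTensH3

noncomputable section

/-! ### identities -/

section Id

variable (X : Scheme.{u})

/-- `pullKh (𝟙 X) ≅ Qh` -/
def pullKhIdIso : DCoh.pullKh (𝟙 X) ≅ (DerivedCategory.Qh : _ ⥤ DCoh.D X) :=
  CategoryTheory.Quotient.natIsoLift _
    (quotientPullKhIso (𝟙 X) ≪≫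
      Functor.isoWhiskerRight
        (NatIso.mapHomologicalComplex (Scheme.Modules.pullbackId X) (ComplexShape.up ℤ) ≪≫
          Functor.mapHomologicalComplexIdIso X.Modules (ComplexShape.up ℤ)) DerivedCategory.Q ≪≫
      Functor.leftUnitor _ ≪≫ (DerivedCategory.quotientCompQhIso X.Modules).symm)

/-- `L(𝟙)^* ≅ 𝟭` -/
def LpullIdIso [DCoh.HasLpull (𝟙 X)] : DCoh.Lpull (𝟙 X) ≅ 𝟭 (DCoh.D X) := by
  haveI : (𝟭 (DCoh.D X)).IsLeftDerivedFunctor
      (Functor.rightUnitor _ ≪≫ (pullKhIdIso X).symm).hom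
      (HomotopyCategory.quasiIso X.Modules (ComplexShape.up ℤ)) :=
    Functor.isLeftDerivedFunctor_of_inverts _ _ (Functor.rightUnitor _ ≪≫ (pullKhIdIso X).symm)
  exact Functor.leftDerivedUnique (𝟭 (DCoh.D X)) (DCoh.Lpull (𝟙 X))
    ((DCoh.pullKh (𝟙 X)).totalLeftDerivedCounit DerivedCategory.Qh
      (HomotopyCategory.quasiIso X.Modules (ComplexShape.up ℤ)))
    (Functor.rightUnitor _ ≪≫ (pullKhIdIso X).symm).hom
    (HomotopyCategory.quasiIso X.Modules (ComplexShape.up ℤ))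

/-- `R(𝟙)_* ≅ 𝟭` -/
theorem nonempty_Rpush_id_iso [DCoh.HasRpush (𝟙 X)] : Nonempty (DCoh.Rpush (𝟙 X) ≅ 𝟭 (DCoh.D X)) := by
  haveI := hasLpull (𝟙 X)
  obtain ⟨adj⟩ := nonempty_adj (𝟙 X)
  exact ⟨(adj.ofNatIsoLeft (LpullIdIso X)).rightAdjointUniq Adjunction.id⟩

end Id

lemma nonempty_Rpush_congr {X Y : Scheme.{u}} {g g' : X ⟶ Y} (h : g = g') [DCoh.HasRpush g]
    [DCoh.HasRpush g'] : Nonempty (DCoh.Rpush g ≅ DCoh.Rpush g') := by
  subst h
  exact ⟨Iso.refl _⟩

/-! ### the chain-level isomorphism -/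

section Closed

variable {X Y : Scheme.{u}} (f : X ⟶ Y) [IsClosedImmersion f]

/-- `f_* O_X` -/
abbrev pushO : Y.Modules := (Scheme.Modules.pushforward f).obj (Coh.structureModule X)

/-- `N ⊗ f_* O_X ≅ f_* f^* N`, naturally in the module `N` -/
def tensPushO : (DCoh.tensorBi (X := Y)).flip.obj (pushO f) ≅
    Scheme.Modules.pullback f ⋙ Scheme.Modules.pushforward f :=
  (Groth.Agent.Lib.ModSiteH8.sigmaIso Y.sheaf (pushO f)).symm ≪≫
    ((pjNatIso f).app (Coh.structureModule X)).symm ≪≫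
    Functor.isoWhiskerRight
      (Functor.isoWhiskerLeft (Scheme.Modules.pullback f)
        (Groth.Agent.Lib.ModSiteH8.unitorObj X.sheaf) ≪≫ Functor.rightUnitor _)
      (Scheme.Modules.pushforward f)

instance additive_flip_pushO : ((DCoh.tensorBi (X := Y)).flip.obj (pushO f)).Additive :=
  Functor.additive_of_iso (tensPushO f).symm

/-- the complex `(f_* O_X)[0]` -/
abbrev pushOCx : CochainComplex Y.Modules ℤ :=
  (HomologicalComplex.single Y.Modules (ComplexShape.up ℤ) 0).obj (pushO f)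

/-- `f_* f^* A ≅ A ⊗ (f_* O_X)[0]`, naturally in the complex `A` -/
def thetaCx : pullCx f ⋙ pushCx f ≅ (DCoh.tensorCx (X := Y)).flip.obj (pushOCx f) :=
  Functor.mapHomologicalComplexCompIso
      (Iso.refl (Scheme.Modules.pullback f ⋙ Scheme.Modules.pushforward f)) (ComplexShape.up ℤ) ≪≫
    NatIso.mapHomologicalComplex (tensPushO f).symm (ComplexShape.up ℤ) ≪≫
    Groth.Agent.Lib.RUnitCxH3.singleNatIso (DCoh.tensorBi (X := Y)) (pushO f)

end Closed

/-! ### the counit of `Lg^*` along `Q` -/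

section EpsQ

variable {X Y : Scheme.{u}} (g : X ⟶ Y) [DCoh.HasLpull g]

/-- the counit of `Lg^*` along `Q` -/
def epsQ : DerivedCategory.Q ⋙ DCoh.Lpull g ⟶ pullCx g ⋙ DerivedCategory.Q :=
  (show (HomotopyCategory.quotient Y.Modules (ComplexShape.up ℤ) ⋙ DerivedCategory.Qh) ⋙
      DCoh.Lpull g ⟶ pullCx g ⋙ DerivedCategory.Q from
    (Functor.associator _ _ _).hom ≫
      Functor.whiskerLeft (HomotopyCategory.quotient Y.Modules (ComplexShape.up ℤ)) (eps g) ≫
      (quotientPullKhIso g).hom)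

lemma epsQ_app (A : CochainComplex Y.Modules ℤ) :
    (epsQ g).app A = (eps g).app ((HomotopyCategory.quotient _ _).obj A) ≫
      (quotientPullKhIso g).hom.app A := by
  show (𝟙 _ ≫ (eps g).app ((HomotopyCategory.quotient _ _).obj A) ≫
      (quotientPullKhIso g).hom.app A) = _
  rw [Category.id_comp]

lemma isIso_epsQ_app (A : CochainComplex Y.Modules ℤ) (hA : DCoh.IsKFlat A) :
    IsIso ((epsQ g).app A) := by
  rw [epsQ_app]
  haveI : IsIso ((eps g).app ((HomotopyCategory.quotient _ _).obj A)) :=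
    isIso_counit_of_isKFlat g _ _ _ hA
  infer_instance

end EpsQ

/-! ### `Lf^* ⋙ Rf_* ≅ - ⊗^L (f_* O_X)[0]` for a closed immersion -/

section Kappa

variable {X Y : Scheme.{u}} (f : X ⟶ Y) [IsClosedImmersion f] [DCoh.HasLpull f] [DCoh.HasRpush f]

/-- `Q ⋙ Rf_* ≅ f_* ⋙ Q` -/
def rhoIso : DerivedCategory.Q ⋙ DCoh.Rpush f ≅ pushCx f ⋙ DerivedCategory.Q :=
  Functor.isoWhiskerLeft DerivedCategory.Q (RpushIsoMapD f) ≪≫
    (Scheme.Modules.pushforward f).mapDerivedCategoryFactors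

/-- the natural transformation `Rf_* Lf^* Q A ⟶ Q (A ⊗ (f_* O_X)[0])` -/
def gammaQ : DerivedCategory.Q ⋙ (DCoh.Lpull f ⋙ DCoh.Rpush f) ⟶ DCoh.tensorCxQ (pushOCx f) :=
  (Functor.associator _ _ _).inv ≫ Functor.whiskerRight (epsQ f) (DCoh.Rpush f) ≫
    (Functor.associator _ _ _).hom ≫ Functor.whiskerLeft (pullCx f) (rhoIso f).hom ≫
    (Functor.associator _ _ _).inv ≫ Functor.whiskerRight (thetaCx f).hom DerivedCategory.Q

lemma gammaQ_app (A : CochainComplex Y.Modules ℤ) :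
    (gammaQ f).app A = (DCoh.Rpush f).map ((epsQ f).app A) ≫
      (rhoIso f).hom.app ((pullCx f).obj A) ≫ DerivedCategory.Q.map ((thetaCx f).hom.app A) := by
  dsimp only [gammaQ]
  simp only [NatTrans.comp_app, Functor.associator_inv_app, Functor.associator_hom_app,
    Functor.whiskerRight_app, Functor.whiskerLeft_app, Category.id_comp]

lemma isIso_gammaQ_app (A : CochainComplex Y.Modules ℤ) (hA : DCoh.IsKFlat A) :
    IsIso ((gammaQ f).app A) := by
  rw [gammaQ_app]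
  haveI := isIso_epsQ_app f A hA
  infer_instance

variable [DCoh.HasLTensorCx (pushOCx f)]

/-- the counit of `- ⊗^L K` -/
abbrev counitT {T : Scheme.{u}} (K : CochainComplex T.Modules ℤ) [DCoh.HasLTensorCx K] :
    DerivedCategory.Q ⋙ DCoh.LTensorCx K ⟶ DCoh.tensorCxQ K :=
  (DCoh.tensorCxQ K).totalLeftDerivedCounit DerivedCategory.Q
    (HomologicalComplex.quasiIso T.Modules (ComplexShape.up ℤ))

lemma isIso_counitT_app {T : Scheme.{u}} (K : CochainComplex T.Modules ℤ) [DCoh.HasLTensorCx K]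
    (A : CochainComplex T.Modules ℤ) (hA : DCoh.IsKFlat A) : IsIso ((counitT K).app A) :=
  @Groth.Agent.Lib.KFlatSite.isIso_counitCx _ _ _ T.sheaf K A
    (inferInstanceAs (DCoh.HasLTensorCx K)) hA

/-- the comparison `Lf^* ⋙ Rf_* ⟶ - ⊗^L (f_* O_X)[0]` -/
def kappa : DCoh.Lpull f ⋙ DCoh.Rpush f ⟶ DCoh.LTensorCx (pushOCx f) :=
  (DCoh.LTensorCx (pushOCx f)).leftDerivedLift (counitT (pushOCx f))
    (HomologicalComplex.quasiIso Y.Modules (ComplexShape.up ℤ))
    (DCoh.Lpull f ⋙ DCoh.Rpush f) (gammaQ f)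

lemma kappa_fac (A : CochainComplex Y.Modules ℤ) :
    (kappa f).app (DerivedCategory.Q.obj A) ≫ (counitT (pushOCx f)).app A = (gammaQ f).app A :=
  Functor.leftDerived_fac_app (DCoh.LTensorCx (pushOCx f)) (counitT (pushOCx f))
    (HomologicalComplex.quasiIso Y.Modules (ComplexShape.up ℤ))
    (DCoh.Lpull f ⋙ DCoh.Rpush f) (gammaQ f) A

instance isIso_kappa : IsIso (kappa f) := by
  apply (config := { allowSynthFailures := true }) NatIso.isIso_of_isIso_app
  intro M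
  obtain ⟨P, hP, ⟨e⟩⟩ := exists_kflat_rep M
  rw [← NatTrans.isIso_app_iff_of_iso _ e]
  haveI h1 : IsIso ((counitT (pushOCx f)).app P) := isIso_counitT_app _ P hP
  haveI h2 : IsIso ((gammaQ f).app P) := isIso_gammaQ_app f P hP
  exact IsIso.of_isIso_fac_right (kappa_fac f P)

/-- **`Lf^* ⋙ Rf_* ≅ - ⊗^L (f_* O_X)[0]`** -/
def kappaIso : DCoh.Lpull f ⋙ DCoh.Rpush f ≅ DCoh.LTensorCx (pushOCx f) :=
  asIso (kappa f)

end Kappa

/-! ### the main theorem -/

section Main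

variable {S X : Scheme.{u}} (a : X ⟶ S) [IsSeparated a]

/-- **the Fourier–Mukai functor with kernel `Δ_* O_X` is the identity** -/
theorem main13565 (K : CochainComplex (Limits.pullback a a).Modules ℤ)
    (hK : Nonempty (DCoh.toD _ K ≅ FMK.diagO a))
    [DCoh.HasLpull (Limits.pullback.fst a a)] [DCoh.HasLTensorCx K]
    [DCoh.HasRpush (Limits.pullback.snd a a)] :
    Nonempty (FMK.phi a a K ≅ 𝟭 (DCoh.D X)) := by
  obtain ⟨eK⟩ := hK
  haveI : DCoh.HasLTensorCx (pushOCx (pullback.diagonal a)) :=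
    Groth.Agent.Lib.LTensExH3.hasLTensorCx _
  haveI := hasLpull (pullback.diagonal a)
  haveI := Groth.Agent.Lib.BCOpenL.hasRpush (pullback.diagonal a)
  haveI := hasLpull (pullback.diagonal a ≫ pullback.fst a a)
  haveI := Groth.Agent.Lib.BCOpenL.hasRpush (pullback.diagonal a ≫ pullback.snd a a)
  haveI := hasLpull (𝟙 X)
  haveI := Groth.Agent.Lib.BCOpenL.hasRpush (𝟙 X)
  have e₀ : DerivedCategory.Q.obj K ≅ DerivedCategory.Q.obj (pushOCx (pullback.diagonal a)) := eK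
  obtain ⟨e1⟩ := Groth.Agent.Lib.DualSchH3.nonempty_LTensorCx_iso_of_Q_iso K
    (pushOCx (pullback.diagonal a)) e₀
  let e2 := kappaIso (pullback.diagonal a)
  obtain ⟨c1⟩ := nonempty_comp_iso (pullback.diagonal a) (pullback.fst a a)
  obtain ⟨c2⟩ := nonempty_Rpush_comp_iso (pullback.diagonal a) (pullback.snd a a)
  obtain ⟨d1⟩ := nonempty_Lpull_congr (pullback.diagonal_fst a)
  obtain ⟨d2⟩ := nonempty_Rpush_congr (pullback.diagonal_snd a)
  obtain ⟨i2⟩ := nonempty_Rpush_id_iso X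
  let i1 := LpullIdIso X
  let E1 : FMK.phi a a K ≅ DCoh.Lpull (pullback.fst a a) ⋙
      (DCoh.Lpull (pullback.diagonal a) ⋙ DCoh.Rpush (pullback.diagonal a)) ⋙
        DCoh.Rpush (pullback.snd a a) :=
    Functor.isoWhiskerLeft _ (Functor.isoWhiskerRight (e1 ≪≫ e2.symm) _)
  let E2 : DCoh.Lpull (pullback.fst a a) ⋙
      (DCoh.Lpull (pullback.diagonal a) ⋙ DCoh.Rpush (pullback.diagonal a)) ⋙
        DCoh.Rpush (pullback.snd a a) ≅
      (DCoh.Lpull (pullback.fst a a) ⋙ DCoh.Lpull (pullback.diagonal a)) ⋙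
        (DCoh.Rpush (pullback.diagonal a) ⋙ DCoh.Rpush (pullback.snd a a)) :=
    Iso.refl _
  let E3 : (DCoh.Lpull (pullback.fst a a) ⋙ DCoh.Lpull (pullback.diagonal a)) ⋙
        (DCoh.Rpush (pullback.diagonal a) ⋙ DCoh.Rpush (pullback.snd a a)) ≅
      𝟭 (DCoh.D X) ⋙ 𝟭 (DCoh.D X) :=
    Functor.isoWhiskerRight (c1 ≪≫ d1 ≪≫ i1) _ ≪≫
      Functor.isoWhiskerLeft _ (c2 ≪≫ d2 ≪≫ i2)
  exact ⟨E1 ≪≫ E2 ≪≫ E3 ≪≫ Functor.leftUnitor _⟩

end Main

end

end Groth.Agent.Lib.FMDiagH3
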