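import Mathlib
import Groth.Prelude
import Groth.Agent.Lib.ClImmDual1_helper3
import Groth.Agent.Lib.FMDiag_helper3

/-!
# `i_* R Hom(O_Z, -) ≅ RHom(i_* O_Z, -)` for a closed immersion (helper3; S3666)
-/

set_option autoImplicit false
set_option linter.all false
set_option maxHeartbeats 1600000
set_option backward.isDefEq.respectTransparency false
set_option backward.isDefEq.respectTransparency.types false
set_option backward.defeqAttrib.useBackward true

universe u
open CategoryTheory CategoryTheory.Limits AlgebraicGeometry Opposite Pretriangulated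

attribute [local instance] HasDerivedCategory.standard

namespace Groth.Agent.Lib.ClImmDualH3

open DerivedCategory

noncomputable section

variable {Z X : Scheme.{u}} (i : Z ⟶ X) [IsClosedImmersion i] [Dual3.HasHomO i]
  [PreservesFiniteLimits (Scheme.Modules.pushforward i)]
  [PreservesFiniteColimits (Scheme.Modules.pushforward i)]

/-- `RHom(E, -) ≅ i^× ⋙ i_*` for `E` representing `i_* O_Z` -/
theorem nonempty_RSheafHom_iso (E : CochainComplex X.Modules ℤ)
    (hE : Nonempty (DCoh.toD X E ≅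
      DCoh.inD X ((Scheme.Modules.pushforward i).obj (Coh.structureModule Z))))
    [DCoh.HasLTensorCx E] [DCoh.HasRSheafHom E] :
    Nonempty (DCoh.RSheafHom E ≅ ix i ⋙ Dual3.pushD i) := by
  haveI := Groth.Agent.Lib.LpullExH3.hasLpull i
  haveI := Groth.Agent.Lib.BCOpenL.hasRpush i
  obtain ⟨eE⟩ := hE
  haveI : DCoh.HasLTensorCx (Groth.Agent.Lib.FMDiagH3.pushOCx i) :=
    Groth.Agent.Lib.LTensExH3.hasLTensorCx _
  obtain ⟨γ⟩ := Groth.Agent.Lib.DualSchH3.nonempty_LTensorCx_iso_of_Q_iso E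
    (Groth.Agent.Lib.FMDiagH3.pushOCx i)
    (eE ≪≫ (singleFunctorIsoCompQ X.Modules 0).app _)
  obtain ⟨adj1⟩ := Groth.Agent.Lib.LpullAdjH3.nonempty_adj i
  let κ := Groth.Agent.Lib.FMDiagH3.kappaIso i
  let ρ : DCoh.Rpush i ≅ Dual3.pushD i := Groth.Agent.Lib.ProjFormulaH3.RpushIsoMapD i
  let adj2 : DCoh.Lpull i ⋙ Dual3.pushD i ⊣ ix i ⋙ DCoh.Rpush i := adj1.comp (adjD i)
  let φ : DCoh.LTensorCx E ≅ DCoh.Lpull i ⋙ Dual3.pushD i :=
    γ ≪≫ κ.symm ≪≫ Functor.isoWhiskerLeft (DCoh.Lpull i) ρ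
  let θ : DCoh.RSheafHom E ≅ ix i ⋙ DCoh.Rpush i :=
    ((DCoh.RSheafHomAdj E).ofNatIsoLeft φ).rightAdjointUniq adj2
  exact ⟨θ ≪≫ Functor.isoWhiskerLeft (ix i) ρ⟩

/-- **S3666** -/
theorem main3666 [EnoughInjectives X.Modules] (E : CochainComplex X.Modules ℤ)
    (hE : Nonempty (DCoh.toD X E ≅
      DCoh.inD X ((Scheme.Modules.pushforward i).obj (Coh.structureModule Z))))
    [DCoh.HasLTensorCx E] [DCoh.HasRSheafHom E] :
    Nonempty (Dual3.RHomOPlus i ⋙
      (DerivedCategory.Plus.ι : DerivedCategory.Plus Z.Modules ⥤ DCoh.D Z) ⋙ Dual3.pushD i ≅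
      (DerivedCategory.Plus.ι : DerivedCategory.Plus X.Modules ⥤ DCoh.D X) ⋙
        DCoh.RSheafHom E) := by
  haveI := Groth.Agent.Lib.MVPushL.grothendieck_modules Z
  haveI : EnoughInjectives Z.Modules := inferInstance
  obtain ⟨θ⟩ := nonempty_RSheafHom_iso i E hE
  exact ⟨(Functor.associator _ _ _).symm ≪≫
    Functor.isoWhiskerRight (RHomOPlusIso i) (Dual3.pushD i) ≪≫ Functor.associator _ _ _ ≪≫
    Functor.isoWhiskerLeft DerivedCategory.Plus.ι θ.symm⟩

end

end Groth.Agent.Lib.ClImmDualH3
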