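import Mathlib
import Groth.Agent.Lib.DerCoprod_lead

/-!
# Telescope data: a complex presented as the mapping cone of an endomorphism of a countable
coproduct of complexes (helper3)

* `sigH G K : ⨁ G(K_j) ≅ G(⨁ K_j)` for an additive functor `G` preserving coproducts.
* `sigShift K n : ⨁ (K_j⟦n⟧) ≅ (⨁ K_j)⟦n⟧`.
* `TelData`, `TelData.T`, `TelData.map`, `TelData.mapT`.
-/

set_option autoImplicit false
set_option linter.all false
set_option maxHeartbeats 1600000
set_option backward.isDefEq.respectTransparency false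
set_option backward.isDefEq.respectTransparency.types false
set_option backward.defeqAttrib.useBackward true

open CategoryTheory CategoryTheory.Limits

namespace Groth.Agent.Lib.TelDataH3

universe w v v' u u'

noncomputable section

variable {𝒜 : Type u} [Category.{v} 𝒜] [Abelian 𝒜] {ℬ : Type u'} [Category.{v'} ℬ] [Abelian ℬ]

section SigH

variable {J : Type w} [HasColimitsOfShape (Discrete J) 𝒜] [HasColimitsOfShape (Discrete J) ℬ]
  (G : 𝒜 ⥤ ℬ) [G.Additive] [PreservesColimitsOfShape (Discrete J) G]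
  (K : J → CochainComplex 𝒜 ℤ)

/-- the canonical map `⨁_j G (K_j) ⟶ G (⨁_j K_j)` -/
def sigH : DerCoprod.sigma (fun j => (G.mapHomologicalComplex (ComplexShape.up ℤ)).obj (K j)) ⟶
    (G.mapHomologicalComplex (ComplexShape.up ℤ)).obj (DerCoprod.sigma K) :=
  DerCoprod.desc (fun j => (G.mapHomologicalComplex (ComplexShape.up ℤ)).map (DerCoprod.ι K j))

@[reassoc]
lemma ι_sigH (j : J) :
    DerCoprod.ι (fun j => (G.mapHomologicalComplex (ComplexShape.up ℤ)).obj (K j)) j ≫ sigH G K =
      (G.mapHomologicalComplex (ComplexShape.up ℤ)).map (DerCoprod.ι K j) :=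
  DerCoprod.ι_desc _ j

instance isIso_sigH : IsIso (sigH G K) := by
  haveI : ∀ n, IsIso ((sigH G K).f n) := fun n => by
    have h : (sigH G K).f n = sigmaComparison G (fun j => (K j).X n) := by
      apply DerCoprod.homX_ext
      intro j
      have h1 : DerCoprod.ιX (fun j => (G.mapHomologicalComplex (ComplexShape.up ℤ)).obj (K j)) n j ≫
          (sigH G K).f n =
          ((G.mapHomologicalComplex (ComplexShape.up ℤ)).map (DerCoprod.ι K j)).f n :=
        DerCoprod.ιX_descX _ n _ j
      rw [h1]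
      exact (ι_comp_sigmaComparison G (fun j => (K j).X n) j).symm
    rw [h]
    infer_instance
  exact HomologicalComplex.Hom.isIso_of_components _

end SigH

section SigShift

variable {J : Type w} [HasColimitsOfShape (Discrete J) 𝒜] (K : J → CochainComplex 𝒜 ℤ) (n : ℤ)

/-- the canonical map `⨁_j K_j⟦n⟧ ⟶ (⨁_j K_j)⟦n⟧` -/
def sigShift : DerCoprod.sigma (fun j => (K j)⟦n⟧) ⟶ (DerCoprod.sigma K)⟦n⟧ :=
  DerCoprod.desc (fun j => (DerCoprod.ι K j)⟦n⟧')

@[reassoc]
lemma ι_sigShift (j : J) :
    DerCoprod.ι (fun j => (K j)⟦n⟧) j ≫ sigShift K n = (DerCoprod.ι K j)⟦n⟧' :=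
  DerCoprod.ι_desc _ j

/-- the degreewise inverse -/
def sigShiftInvX (i : ℤ) : ((DerCoprod.sigma K)⟦n⟧).X i ⟶
    (DerCoprod.sigma (fun j => (K j)⟦n⟧)).X i :=
  DerCoprod.descX K (i + n) (fun j => DerCoprod.ιX (fun j => (K j)⟦n⟧) i j)

instance isIso_sigShift : IsIso (sigShift K n) := by
  haveI : ∀ i, IsIso ((sigShift K n).f i) := fun i => by
    have h1 : ∀ j, DerCoprod.ιX (fun j => (K j)⟦n⟧) i j ≫ (sigShift K n).f i =
        DerCoprod.ιX K (i + n) j := fun j => by
      have := DerCoprod.ιX_descX (fun j => (K j)⟦n⟧) i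
        (fun j => ((DerCoprod.ι K j)⟦n⟧').f i) j
      exact this
    refine ⟨sigShiftInvX K n i, ?_, ?_⟩
    · apply DerCoprod.homX_ext
      intro j
      rw [reassoc_of% (h1 j), Category.comp_id]
      exact DerCoprod.ιX_descX K (i + n) _ j
    · apply DerCoprod.homX_ext (K := K) (i := i + n)
      intro j
      have h2 : DerCoprod.ιX K (i + n) j ≫ sigShiftInvX K n i =
          DerCoprod.ιX (fun j => (K j)⟦n⟧) i j := DerCoprod.ιX_descX K (i + n) _ j
      rw [reassoc_of% h2, h1 j]
      exact (Category.comp_id _).symm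
  exact HomologicalComplex.Hom.isIso_of_components _

end SigShift

/-- telescope data -/
structure TelData (𝒜 : Type u) [Category.{v} 𝒜] [Abelian 𝒜]
    [HasColimitsOfShape (Discrete (ULift.{w} ℕ)) 𝒜] where
  Kc : ULift.{w} ℕ → CochainComplex 𝒜 ℤ
  S : CochainComplex 𝒜 ℤ
  φ : S ⟶ S
  e : S ≅ DerCoprod.sigma Kc

namespace TelData

variable [HasColimitsOfShape (Discrete (ULift.{w} ℕ)) 𝒜]
  [HasColimitsOfShape (Discrete (ULift.{w} ℕ)) ℬ]

/-- the telescope -/
abbrev T (D : TelData.{w} 𝒜) : CochainComplex 𝒜 ℤ := CochainComplex.mappingCone D.φ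

variable (G : 𝒜 ⥤ ℬ) [G.Additive] [PreservesColimitsOfShape (Discrete (ULift.{w} ℕ)) G]

/-- the image of telescope data under an additive functor preserving countable coproducts -/
def map (D : TelData.{w} 𝒜) : TelData.{w} ℬ where
  Kc j := (G.mapHomologicalComplex (ComplexShape.up ℤ)).obj (D.Kc j)
  S := (G.mapHomologicalComplex (ComplexShape.up ℤ)).obj D.S
  φ := (G.mapHomologicalComplex (ComplexShape.up ℤ)).map D.φ
  e := (G.mapHomologicalComplex (ComplexShape.up ℤ)).mapIso D.e ≪≫ (asIso (sigH G D.Kc)).symm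

/-- the telescope of the image is the image of the telescope -/
def mapT (D : TelData.{w} 𝒜) :
    (G.mapHomologicalComplex (ComplexShape.up ℤ)).obj D.T ≅ (D.map G).T :=
  CochainComplex.mappingCone.mapHomologicalComplexIso D.φ G

end TelData

end

end Groth.Agent.Lib.TelDataH3
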