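import Mathlib
import Groth.Prelude
import Groth.Agent.Lib.PjCx13_helper3
import Groth.Agent.Lib.TelData_helper3

/-!
# The projection formula for telescopes of bounded above complexes of sum-free modules (helper3)

`PF_telData`.
-/

set_option autoImplicit false
set_option linter.all false
set_option maxHeartbeats 1600000
set_option backward.isDefEq.respectTransparency false
set_option backward.isDefEq.respectTransparency.types false
set_option backward.defeqAttrib.useBackward true

universe u
open CategoryTheory CategoryTheory.Limits AlgebraicGeometry Opposite TopologicalSpace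

attribute [local instance] HasDerivedCategory.standard

namespace Groth.Agent.Lib.PjCxH3

open Groth.Agent.Lib.ProjFormulaH3 Groth.Agent.Lib.LpullLocH3 Groth.Agent.Lib.TotalMap
open Groth.Agent.Lib.StalkSkyL DerivedCategory Groth.Agent.Lib.PushCxAcycH3
open Groth.Agent.Lib.MVPushL Groth.Agent.Lib.StalkTensH3 Groth.Agent.Lib.TelDataH3

noncomputable section

variable {X Y : Scheme.{u}} (f : X ⟶ Y) [DCoh.HasRpush f] (I : CochainComplex X.Modules ℤ)
  [I.IsKInjective] [QuasiCompact f] [QuasiSeparated f] (hI : DCoh.IsQCohD (Q.obj I))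

include hI in
/-- `PF` for a coproduct of bounded above complexes of sum-free modules -/
lemma PF_sigma_bddAbove {J : Type u} (P : J → CochainComplex Y.Modules ℤ)
    (hb : ∀ j, ∃ b : ℤ, ∀ i, b < i → IsZero ((P j).X i))
    (hsf : ∀ j i, IsSF ((P j).X i)) : PF f I (DerCoprod.sigma P) := by
  refine PF_sigma f I P hI (fun j => ?_) (fun j => isQCohD_of_isSF _ (hsf j)) (fun j => ?_)
  · obtain ⟨b, hb⟩ := hb j
    exact isKFlat_of_flat_bounded (P j) b hb (fun i => (hsf j i).isFlat)
  · obtain ⟨b, hb⟩ := hb j
    exact PF_bddAbove f I hI (P j) b hb (hsf j)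

include hI in
/-- **the projection formula for a telescope of bounded above complexes of sum-free modules** -/
theorem PF_telData (D : TelData.{u} Y.Modules)
    (hb : ∀ j, ∃ b : ℤ, ∀ i, b < i → IsZero ((D.Kc j).X i))
    (hsf : ∀ j i, IsSF ((D.Kc j).X i)) : PF f I D.T := by
  have h1 : PF f I D.S := PF_of_iso f I D.e.symm (PF_sigma_bddAbove f I hI D.Kc hb hsf)
  have h3' : PF f I (DerCoprod.sigma (fun j => (D.Kc j)⟦(1 : ℤ)⟧)) := by
    refine PF_sigma_bddAbove f I hI _ (fun j => ?_) (fun j i => hsf j (i + 1))
    obtain ⟨b, hb⟩ := hb j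
    exact ⟨b, fun i hi => hb (i + 1) (by omega)⟩
  have h3 : PF f I (D.S⟦(1 : ℤ)⟧) :=
    PF_of_iso f I (asIso (sigShift D.Kc 1) ≪≫
      (shiftFunctor (CochainComplex Y.Modules ℤ) (1 : ℤ)).mapIso D.e.symm) h3'
  exact (PF_two_of_three f I (CochainComplex.mappingCone.triangleRotateShortComplex D.φ)
    (CochainComplex.mappingCone.triangleRotateShortComplexSplitting D.φ)).1 h1 h3

end

end Groth.Agent.Lib.PjCxH3
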