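import Mathlib.Algebra.Homology.Embedding.CochainComplex
import Mathlib.Algebra.Homology.HomologicalComplexLimits
import Mathlib.CategoryTheory.Limits.Constructions.EventuallyConstant
import Mathlib.CategoryTheory.Filtered.Basic

/-!
# The tower of canonical truncations `τ_{≤ n} G` (helper2)

Transition maps `τ_{≤ n} G ⟶ τ_{≤ m} G` for `n ≤ m`, and `G = colim_k τ_{≤ k+1} G`.
-/

open CategoryTheory Limits

namespace HomologicalComplex

variable {ι ι' : Type*} {c : ComplexShape ι} {c' : ComplexShape ι'}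
  {C : Type*} [Category C] [HasZeroMorphisms C] [HasZeroObject C]
  (K : HomologicalComplex C c') (e : c.Embedding c')

set_option backward.isDefEq.respectTransparency false in
lemma isIso_πTruncGE_f' [e.IsTruncGE] [∀ i', K.HasHomology i'] {j : ι} {j' : ι'} (hj : e.f j = j')
    (hb : ¬ e.BoundaryGE j) : IsIso ((K.πTruncGE e).f j') := by
  dsimp [πTruncGE]
  rw [e.isIso_liftExtend_f_iff _ _ hj]
  exact K.isIso_restrictionToTruncGE' e j hb

lemma isIso_ιTruncLE_f' [e.IsTruncLE] [∀ i', K.HasHomology i'] {j : ι} {j' : ι'} (hj : e.f j = j')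
    (hb : ¬ e.BoundaryLE j) : IsIso ((K.ιTruncLE e).f j') := by
  have := K.op.isIso_πTruncGE_f' e.op hj (by simpa)
  exact inferInstanceAs (IsIso ((K.op.πTruncGE e.op).f j').unop)

end HomologicalComplex

namespace Groth.Agent.Lib.TruncTower

variable {A : Type*} [Category A] [Abelian A] (G : CochainComplex A ℤ)

lemma isIso_ιTruncLE_f (n i : ℤ) (hi : i < n) : IsIso ((G.ιTruncLE n).f i) := by
  apply HomologicalComplex.isIso_ιTruncLE_f' G (ComplexShape.embeddingUpIntLE n)
    (j := (n - i).natAbs)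
  · change n - ((n - i).natAbs : ℤ) = i
    omega
  · intro h
    rw [ComplexShape.boundaryLE_embeddingUpIntLE_iff, Int.natAbs_eq_zero] at h
    omega

/-- the transition map `τ_{≤ n} G ⟶ τ_{≤ m} G` for `n ≤ m` -/
noncomputable def tr {n m : ℤ} (h : n ≤ m) : G.truncLE n ⟶ G.truncLE m :=
  haveI : (G.truncLE n).IsStrictlyLE m := CochainComplex.isStrictlyLE_of_le _ n m h
  inv ((G.truncLE n).ιTruncLE m) ≫ CochainComplex.truncLEMap (G.ιTruncLE n) m

@[reassoc (attr := simp)]
lemma tr_ι {n m : ℤ} (h : n ≤ m) : tr G h ≫ G.ιTruncLE m = G.ιTruncLE n := by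
  haveI : (G.truncLE n).IsStrictlyLE m := CochainComplex.isStrictlyLE_of_le _ n m h
  dsimp only [tr]
  rw [Category.assoc, CochainComplex.ιTruncLE_naturality, IsIso.inv_hom_id_assoc]

instance (n : ℤ) : Mono (G.ιTruncLE n) := by
  dsimp [CochainComplex.ιTruncLE]
  infer_instance

lemma tr_refl (n : ℤ) : tr G (le_refl n) = 𝟙 _ := by
  rw [← cancel_mono (G.ιTruncLE n), tr_ι, Category.id_comp]

lemma tr_tr {n m k : ℤ} (h : n ≤ m) (h' : m ≤ k) : tr G h ≫ tr G h' = tr G (h.trans h') := by
  rw [← cancel_mono (G.ιTruncLE k), Category.assoc, tr_ι, tr_ι, tr_ι]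

lemma isIso_tr_f {n m : ℤ} (h : n ≤ m) (i : ℤ) (hi : i < n) : IsIso ((tr G h).f i) := by
  haveI := isIso_ιTruncLE_f G n i hi
  haveI := isIso_ιTruncLE_f G m i (by omega)
  have e : (tr G h).f i ≫ (G.ιTruncLE m).f i = (G.ιTruncLE n).f i := by
    rw [← HomologicalComplex.comp_f, tr_ι]
  haveI : IsIso ((tr G h).f i ≫ (G.ιTruncLE m).f i) := by
    rw [e]
    infer_instance
  exact IsIso.of_isIso_comp_right ((tr G h).f i) ((G.ιTruncLE m).f i)

/-- the tower `k ↦ τ_{≤ k+1} G` -/
noncomputable def tower : ℕ ⥤ CochainComplex A ℤ where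
  obj k := G.truncLE ((k : ℤ) + 1)
  map {k k'} f := tr G (show (k : ℤ) + 1 ≤ (k' : ℤ) + 1 by have := leOfHom f; omega)
  map_id k := tr_refl G _
  map_comp f g := (tr_tr G _ _).symm

@[simp] lemma tower_obj (k : ℕ) : (tower G).obj k = G.truncLE ((k : ℤ) + 1) := rfl

lemma tower_map_succ (k : ℕ) :
    (tower G).map (homOfLE (Nat.le_add_right k 1)) =
      tr G (show (k : ℤ) + 1 ≤ ((k + 1 : ℕ) : ℤ) + 1 by push_cast; omega) := rfl

/-- the cocone with point `G` -/
noncomputable def towerCocone : Cocone (tower G) where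
  pt := G
  ι :=
    { app := fun k => G.ιTruncLE ((k : ℤ) + 1)
      naturality := fun k k' f => by
        dsimp [tower]
        rw [Category.comp_id]
        exact tr_ι G _ }

@[simp] lemma towerCocone_pt : (towerCocone G).pt = G := rfl

@[simp] lemma towerCocone_ι_app (k : ℕ) :
    (towerCocone G).ι.app k = G.ιTruncLE ((k : ℤ) + 1) := rfl

/-- `G` is the colimit of its canonical truncations -/
noncomputable def isColimitTowerCocone : IsColimit (towerCocone G) := by
  apply HomologicalComplex.isColimitOfEval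
  intro i
  have hconst : (tower G ⋙ HomologicalComplex.eval A (ComplexShape.up ℤ) i).IsEventuallyConstantFrom
      i.toNat := by
    intro j f
    have hj := leOfHom f
    exact isIso_tr_f G (show ((i.toNat : ℕ) : ℤ) + 1 ≤ (j : ℤ) + 1 by omega) i (by omega)
  haveI : IsIso (((HomologicalComplex.eval A (ComplexShape.up ℤ) i).mapCocone
      (towerCocone G)).ι.app i.toNat) :=
    isIso_ιTruncLE_f G _ i (by omega)
  exact hconst.isColimitOfIsIso _

end Groth.Agent.Lib.TruncTower
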