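import Groth.Agent.Lib.ResStep_helper2
import Groth.Agent.Lib.TruncTower_helper2
import Groth.Agent.Lib.QisColim_helper2

/-!
# Resolution systems `K_0 ⟶ K_1 ⟶ …` over `τ_{≤ 1} G ⟶ τ_{≤ 2} G ⟶ …` (helper2)
-/

set_option autoImplicit false
universe v u
open CategoryTheory Limits HomologicalComplex CochainComplex

namespace Groth.Agent.Lib.ResSystem
open Groth.Agent.Lib.TruncTower

variable {A : Type u} [Category.{v} A] [Abelian A]

variable (P : A → Prop) (G : CochainComplex A ℤ)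

/-- a stage of the system: a resolution of `τ_{≤ n+1} G` -/
structure Stage (n : ℕ) where
  K : CochainComplex A ℤ
  π : K ⟶ G.truncLE ((n : ℤ) + 1)
  qis : QuasiIso π
  epi : ∀ i, Epi (π.f i)
  bdd : ∃ b : ℤ, K.IsStrictlyLE b
  hP : ∀ i, P (K.X i)

variable (hP : ∀ X : A, ∃ (Y : A) (π : Y ⟶ X), P Y ∧ Epi π)
  (hP0 : ∃ Z : A, IsZero Z ∧ P Z) (hPiso : ∀ {X Y : A}, (X ≅ Y) → P X → P Y)
  (hPsum : ∀ {X Y : A}, P X → P Y → P (X ⊞ Y))

include hP hP0 in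
lemma exists_init : Nonempty (Stage P G 0) := by
  obtain ⟨Q, α, hQb, hQP, hepi, hq⟩ :=
    Groth.Agent.Lib.LeftRes.exists_resolution_int P hP hP0 (G.truncLE (((0 : ℕ) : ℤ) + 1))
      (((0 : ℕ) : ℤ) + 1)
  exact ⟨⟨Q, α, hq, hepi, ⟨_, hQb⟩, hQP⟩⟩

include hP hP0 hPiso hPsum in
lemma exists_next {n : ℕ} (s : Stage P G n) :
    ∃ (s' : Stage P G (n + 1)) (v : s.K ⟶ s'.K),
      v ≫ s'.π = s.π ≫ tr G (show (n : ℤ) + 1 ≤ ((n + 1 : ℕ) : ℤ) + 1 by push_cast; omega) ∧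
      ∀ i, ∃ r : s'.K.X i ⟶ s.K.X i, v.f i ≫ r = 𝟙 _ ∧ P (cokernel (v.f i)) := by
  obtain ⟨b, hb⟩ := s.bdd
  haveI := hb
  obtain ⟨K', v, a', hva, hq, hepi, hbdd, hP', hsplit⟩ :=
    Groth.Agent.Lib.ResStep.exists_step P hP hP0 hPiso hPsum
      (s.π ≫ tr G (show (n : ℤ) + 1 ≤ ((n + 1 : ℕ) : ℤ) + 1 by push_cast; omega)) b
      (((n + 1 : ℕ) : ℤ) + 1) s.hP
  exact ⟨⟨K', a', hq, hepi, hbdd, hP'⟩, v, hva, hsplit⟩

noncomputable def init : Stage P G 0 := (exists_init P G hP hP0).some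

noncomputable def next {n : ℕ} (s : Stage P G n) : Stage P G (n + 1) :=
  (exists_next P G hP hP0 hPiso hPsum s).choose

noncomputable def nextMap {n : ℕ} (s : Stage P G n) :
    s.K ⟶ (next P G hP hP0 hPiso hPsum s).K :=
  (exists_next P G hP hP0 hPiso hPsum s).choose_spec.choose

lemma nextMap_π {n : ℕ} (s : Stage P G n) :
    nextMap P G hP hP0 hPiso hPsum s ≫ (next P G hP hP0 hPiso hPsum s).π =
      s.π ≫ tr G (show (n : ℤ) + 1 ≤ ((n + 1 : ℕ) : ℤ) + 1 by push_cast; omega) :=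
  (exists_next P G hP hP0 hPiso hPsum s).choose_spec.choose_spec.1

lemma nextMap_split {n : ℕ} (s : Stage P G n) (i : ℤ) :
    ∃ r : (next P G hP hP0 hPiso hPsum s).K.X i ⟶ s.K.X i,
      (nextMap P G hP hP0 hPiso hPsum s).f i ≫ r = 𝟙 _ ∧
        P (cokernel ((nextMap P G hP hP0 hPiso hPsum s).f i)) :=
  (exists_next P G hP hP0 hPiso hPsum s).choose_spec.choose_spec.2 i

noncomputable def stage : ∀ n : ℕ, Stage P G n
  | 0 => init P G hP hP0
  | n + 1 => next P G hP hP0 hPiso hPsum (stage n)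

lemma stage_succ (n : ℕ) : stage P G hP hP0 hPiso hPsum (n + 1) =
    next P G hP hP0 hPiso hPsum (stage P G hP hP0 hPiso hPsum n) := rfl

/-- the system of complexes -/
noncomputable def Kc : ℕ ⥤ CochainComplex A ℤ :=
  Functor.ofSequence (X := fun n => (stage P G hP hP0 hPiso hPsum n).K)
    (fun n => nextMap P G hP hP0 hPiso hPsum (stage P G hP hP0 hPiso hPsum n))

lemma Kc_obj (n : ℕ) : (Kc P G hP hP0 hPiso hPsum).obj n = (stage P G hP hP0 hPiso hPsum n).K := rfl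

lemma Kc_map_succ (n : ℕ) : (Kc P G hP hP0 hPiso hPsum).map (homOfLE (Nat.le_succ n)) =
    nextMap P G hP hP0 hPiso hPsum (stage P G hP hP0 hPiso hPsum n) :=
  Functor.ofSequence_map_homOfLE_succ _ n

/-- the natural transformation to the tower of truncations -/
noncomputable def πNat : Kc P G hP hP0 hPiso hPsum ⟶ tower G :=
  NatTrans.ofSequence (fun n => (stage P G hP hP0 hPiso hPsum n).π) (by
    intro n
    have h1 : (Kc P G hP hP0 hPiso hPsum).map (homOfLE (n.le_add_right 1)) =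
        nextMap P G hP hP0 hPiso hPsum (stage P G hP hP0 hPiso hPsum n) :=
      Functor.ofSequence_map_homOfLE_succ _ n
    rw [h1, tower_map_succ]
    exact nextMap_π P G hP hP0 hPiso hPsum (stage P G hP hP0 hPiso hPsum n))

include hP hP0 hPiso hPsum in
theorem exists_system [HasColimitsOfShape ℕ A] [HasExactColimitsOfShape ℕ A] :
    ∃ (Kc : ℕ ⥤ CochainComplex A ℤ) (π : ∀ n : ℕ, Kc.obj n ⟶ G.truncLE ((n : ℤ) + 1)),
      (∀ n : ℕ, Kc.map (homOfLE (Nat.le_succ n)) ≫ π (n + 1) ≫ G.ιTruncLE (((n + 1 : ℕ) : ℤ) + 1) =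
        π n ≫ G.ιTruncLE ((n : ℤ) + 1)) ∧
      (∀ n : ℕ, QuasiIso (π n) ∧ ∀ i : ℤ, Epi ((π n).f i)) ∧
      (∀ n : ℕ, ∃ b : ℤ, (Kc.obj n).IsStrictlyLE b) ∧
      (∀ (n : ℕ) (i : ℤ), P ((Kc.obj n).X i)) ∧
      (∀ (n : ℕ) (i : ℤ), ∃ r : (Kc.obj (n + 1)).X i ⟶ (Kc.obj n).X i,
        (Kc.map (homOfLE (Nat.le_succ n))).f i ≫ r = 𝟙 _ ∧
        P (cokernel ((Kc.map (homOfLE (Nat.le_succ n))).f i))) ∧
      ∃ c : colimit Kc ⟶ G, (∀ n : ℕ, colimit.ι Kc n ≫ c = π n ≫ G.ιTruncLE ((n : ℤ) + 1)) ∧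
        QuasiIso c := by
  refine ⟨Kc P G hP hP0 hPiso hPsum, fun n => (stage P G hP hP0 hPiso hPsum n).π,
    ?_, ?_, ?_, ?_, ?_, ?_⟩
  · intro n
    rw [Kc_map_succ]
    have h := nextMap_π P G hP hP0 hPiso hPsum (stage P G hP hP0 hPiso hPsum n)
    change nextMap P G hP hP0 hPiso hPsum (stage P G hP hP0 hPiso hPsum n) ≫
      (next P G hP hP0 hPiso hPsum (stage P G hP hP0 hPiso hPsum n)).π ≫
        G.ιTruncLE (((n + 1 : ℕ) : ℤ) + 1) =
      (stage P G hP hP0 hPiso hPsum n).π ≫ G.ιTruncLE ((n : ℤ) + 1)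
    rw [reassoc_of% h, tr_ι]
  · intro n
    exact ⟨(stage P G hP hP0 hPiso hPsum n).qis, (stage P G hP hP0 hPiso hPsum n).epi⟩
  · intro n
    exact (stage P G hP hP0 hPiso hPsum n).bdd
  · intro n i
    exact (stage P G hP hP0 hPiso hPsum n).hP i
  · intro n i
    rw [Kc_map_succ]
    exact nextMap_split P G hP hP0 hPiso hPsum (stage P G hP hP0 hPiso hPsum n) i
  · let α := πNat P G hP hP0 hPiso hPsum
    let c : colimit (Kc P G hP hP0 hPiso hPsum) ⟶ G :=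
      colimit.desc (Kc P G hP hP0 hPiso hPsum) ⟨G, α ≫ (towerCocone G).ι⟩
    have hc : ∀ n : ℕ, colimit.ι (Kc P G hP hP0 hPiso hPsum) n ≫ c =
        α.app n ≫ (towerCocone G).ι.app n := by
      intro n
      simp [c]
    refine ⟨c, hc, ?_⟩
    exact Groth.Agent.Lib.QisColim.quasiIso_of_isColimit α
      (fun n => HomologicalComplex.epi_of_epi_f _ (stage P G hP hP0 hPiso hPsum n).epi)
      (fun n => (stage P G hP hP0 hPiso hPsum n).qis)
      (colimit.isColimit _) (isColimitTowerCocone G) c hc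

end Groth.Agent.Lib.ResSystem
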