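import Mathlib
import Groth.Prelude
import Groth.Agent.Lib.PjCx18_helper3
import Groth.Agent.Lib.KProjRes_helper2
import Groth.Agent.Lib.ResSystem_helper2
import Groth.Agent.Lib.QCohSigma1_lead
import Groth.Agent.Lib.PerfTens1_helper3

/-!
# Telescope models of objects of `D_QCoh` of an affine scheme (helper3)

* `isKFlat_sigma`: a coproduct of K-flat complexes is K-flat; `isKFlat_telData`.
* `exists_telData_spec`, `exists_telData`: every object of `D_QCoh(V)`, `V` affine, is represented
  by the telescope of a sequence of bounded above complexes of sum-free modules.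
* `PF_qcoh_unbdd`: the projection formula for K-flat complexes with quasi-coherent cohomology.
-/

set_option autoImplicit false
set_option linter.all false
set_option maxHeartbeats 1600000
set_option backward.isDefEq.respectTransparency false
set_option backward.isDefEq.respectTransparency.types false
set_option backward.defeqAttrib.useBackward true

universe u
open CategoryTheory CategoryTheory.Limits AlgebraicGeometry Opposite TopologicalSpace

attribute [local instance] HasDerivedCategory.standard

namespace Groth.Agent.Lib.PjCxH3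

open Groth.Agent.Lib.ProjFormulaH3 Groth.Agent.Lib.LpullLocH3 Groth.Agent.Lib.TotalMap
open Groth.Agent.Lib.StalkSkyL DerivedCategory Groth.Agent.Lib.PushCxAcycH3
open Groth.Agent.Lib.MVPushL Groth.Agent.Lib.StalkTensH3 Groth.Agent.Lib.TelDataH3

noncomputable section

/-! ### K-flatness -/

section KFlat

variable {T : Scheme.{u}}

lemma isZero_sigma_of_forall {C : Type*} [Category C] [HasZeroMorphisms C] {J : Type*}
    (g : J → C) [HasCoproduct g] (h : ∀ j, IsZero (g j)) : IsZero (∐ g) := by
  rw [IsZero.iff_id_eq_zero]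
  apply Limits.Sigma.hom_ext
  intro j
  exact (h j).eq_of_src _ _

/-- a coproduct of K-flat complexes is K-flat -/
theorem isKFlat_sigma {J : Type u} (P : J → CochainComplex T.Modules ℤ)
    (hP : ∀ j, DCoh.IsKFlat (P j)) : DCoh.IsKFlat (DerCoprod.sigma P) := by
  intro L hL i
  haveI := Groth.Agent.Lib.QCohSigmaL.hasExactCoproducts T J
  have e := (HomologicalComplex.homologyFunctor T.Modules (ComplexShape.up ℤ) i).mapIso
    (asIso (sigT L P))
  refine IsZero.of_iso ?_ e.symm
  refine IsZero.of_iso ?_ (DerCoprod.homologyIso (fun j => (DCoh.tensorCx.obj L).obj (P j)) i)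
  exact isZero_sigma_of_forall _ (fun j => hP j L hL i)

/-- the telescope of bounded above complexes of sum-free modules is K-flat -/
theorem isKFlat_telData (D : TelData.{u} T.Modules)
    (hb : ∀ j, ∃ b : ℤ, ∀ i, b < i → IsZero ((D.Kc j).X i))
    (hsf : ∀ j i, IsSF ((D.Kc j).X i)) : DCoh.IsKFlat D.T := by
  have hS : DCoh.IsKFlat D.S :=
    Groth.Agent.Lib.PerfTensH3.isKFlat_of_iso D.e.symm (isKFlat_sigma _ (fun j => by
      obtain ⟨b, hb⟩ := hb j
      exact isKFlat_of_flat_bounded (D.Kc j) b hb (fun i => (hsf j i).isFlat)))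
  exact Groth.Agent.Lib.StalkTensH3.isKFlat_mappingCone' hS hS D.φ

end KFlat

/-! ### the model over `Spec A` -/

section Spec

variable (A : Type u) [CommRing A]

open Groth.Agent.Lib.KProjRes in
/-- `dsum K` is the coproduct complex -/
def dsumSigmaIso (K : ℕ → CochainComplex (ModuleCat.{u} A) ℤ) :
    dsum K ≅ DerCoprod.sigma (fun j : ULift.{u} ℕ => K j.down) where
  hom := dsumDesc (fun n => DerCoprod.ι (fun j : ULift.{u} ℕ => K j.down) ⟨n⟩)
  inv := DerCoprod.desc (fun j => dsumι K j.down)
  hom_inv_id := dsum_hom_ext (fun n => by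
    rw [dsumι_desc_assoc, Category.comp_id]
    exact DerCoprod.ι_desc (K := fun j : ULift.{u} ℕ => K j.down) _ ⟨n⟩)
  inv_hom_id := DerCoprod.hom_ext (fun j => by
    rw [DerCoprod.ι_desc_assoc, Category.comp_id, dsumι_desc])

open Groth.Agent.Lib.KProjRes in
theorem exists_telData_spec (K : DCoh.D (Spec (CommRingCat.of A))) (hK : DCoh.IsQCohD K) :
    ∃ D : TelData.{u} (Spec (CommRingCat.of A)).Modules,
      (∀ j, ∃ b : ℤ, ∀ i, b < i → IsZero ((D.Kc j).X i)) ∧ (∀ j i, IsSF ((D.Kc j).X i)) ∧
      Nonempty (Q.obj D.T ≅ K) := by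
  haveI := Groth.Agent.Lib.LpullQCL.preservesFiniteLimits_tilde A
  obtain ⟨N, ⟨e⟩⟩ := ((Groth.Agent.Lib.DSectX.main0997 (CommRingCat.of A)).2.2 K).1 hK
  let M₀ : CochainComplex (ModuleCat.{u} A) ℤ := Q.objPreimage N
  let eM : Q.obj M₀ ≅ N := Q.objObjPreimageIso N
  obtain ⟨Kc, π, _, _, hb, hfree, _, c, _, hq⟩ :=
    Groth.Agent.Lib.ResSystem.exists_system (fun M : ModuleCat.{u} A => Module.Free A M) M₀
      (Groth.Agent.Lib.KFlatMod.resClass A).cover (Groth.Agent.Lib.KFlatMod.resClass A).zero
      (fun e h => (Groth.Agent.Lib.KFlatMod.resClass A).of_iso e h)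
      (fun h1 h2 => (Groth.Agent.Lib.KFlatMod.resClass A).biprod h1 h2)
  let D₀ : TelData.{u} (ModuleCat.{u} A) :=
    { Kc := fun j => Kc.obj j.down
      S := dsum Kc.obj
      φ := telMap Kc
      e := dsumSigmaIso A Kc.obj }
  haveI : PreservesColimitsOfShape (Discrete (ULift.{u} ℕ)) (tilde.functor (CommRingCat.of A)) :=
    ((tilde.adjunction (R := CommRingCat.of A)).leftAdjoint_preservesColimits).preservesColimitsOfShape
  haveI := quasiIso_telπ Kc (colimit.cocone Kc) (colimit.isColimit Kc)
  haveI := hq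
  let α : D₀.T ⟶ M₀ := telπ Kc (colimit.cocone Kc) ≫ c
  haveI : QuasiIso α := inferInstance
  haveI : IsIso (Q.map α) := (isIso_Q_map_iff_quasiIso (C := ModuleCat.{u} A) α).2 inferInstance
  refine ⟨D₀.map (tilde.functor (CommRingCat.of A)), ?_, ?_, ⟨?_⟩⟩
  · intro j
    obtain ⟨b, hb'⟩ := hb j.down
    haveI := hb'
    exact ⟨b, fun i hi => (tilde.functor (CommRingCat.of A)).map_isZero
      ((Kc.obj j.down).isZero_of_isStrictlyLE b i hi)⟩
  · intro j i
    exact isSF_tilde_free A _ (hfree j.down i)
  · exact Q.mapIso (D₀.mapT (tilde.functor (CommRingCat.of A))).symm ≪≫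
      ((tilde.functor (CommRingCat.of A)).mapDerivedCategoryFactors.app D₀.T).symm ≪≫
      (DCoh.tildeD (CommRingCat.of A)).mapIso (asIso (Q.map α) ≪≫ eM) ≪≫ e

end Spec

end

end Groth.Agent.Lib.PjCxH3
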