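import Mathlib
import Groth.Prelude
import Groth.Agent.Lib.PjCx19_helper3

/-!
# The projection formula for K-flat complexes with quasi-coherent cohomology (helper3)

* `exists_telData`: telescope models on affine schemes.
* `PF_qcoh_unbdd`: for `f` quasi-compact quasi-separated, `I` K-injective with quasi-coherent
  cohomology and `P` K-flat with quasi-coherent cohomology, the derived projection morphism is an
  isomorphism.
-/

set_option autoImplicit false
set_option linter.all false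
set_option maxHeartbeats 1600000
set_option backward.isDefEq.respectTransparency false
set_option backward.isDefEq.respectTransparency.types false
set_option backward.defeqAttrib.useBackward true

universe u
open CategoryTheory CategoryTheory.Limits AlgebraicGeometry Opposite TopologicalSpace

attribute [local instance] HasDerivedCategory.standard

namespace Groth.Agent.Lib.PjCxH3

open Groth.Agent.Lib.ProjFormulaH3 Groth.Agent.Lib.LpullLocH3 Groth.Agent.Lib.TotalMap
open Groth.Agent.Lib.StalkSkyL DerivedCategory Groth.Agent.Lib.PushCxAcycH3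
open Groth.Agent.Lib.MVPushL Groth.Agent.Lib.StalkTensH3 Groth.Agent.Lib.TelDataH3
open Groth.Agent.Lib.DCohLocLead

noncomputable section

section Affine

variable (V : Scheme.{u}) [IsAffine V]

theorem exists_telData (K : DCoh.D V) (hK : DCoh.IsQCohD K) :
    ∃ D : TelData.{u} V.Modules,
      (∀ j, ∃ b : ℤ, ∀ i, b < i → IsZero ((D.Kc j).X i)) ∧ (∀ j i, IsSF ((D.Kc j).X i)) ∧
      Nonempty (Q.obj D.T ≅ K) := by
  let s : V ⟶ Spec (CommRingCat.of Γ(V, ⊤)) := V.isoSpec.hom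
  let r : Spec (CommRingCat.of Γ(V, ⊤)) ⟶ V := V.isoSpec.inv
  have hsr : s ≫ r = 𝟙 V := V.isoSpec.hom_inv_id
  haveI := Groth.Agent.Lib.LpullExH3.hasLpull s
  haveI := Groth.Agent.Lib.LpullExH3.hasLpull r
  let K' := (DCoh.Lpull r).obj K
  have hK' : DCoh.IsQCohD K' := Groth.Agent.Lib.LpullQCL.main1054 r K hK
  obtain ⟨D', hb', hsf', ⟨e'⟩⟩ := exists_telData_spec Γ(V, ⊤) K' hK'
  have hKF : DCoh.IsKFlat D'.T := isKFlat_telData D' hb' hsf'
  obtain ⟨c⟩ := Groth.Agent.Lib.RelPCaH3.nonempty_Lpull_Lpull_iso s r hsr K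
  refine ⟨D'.map (Scheme.Modules.pullback s), ?_, ?_, ⟨?_⟩⟩
  · intro j
    obtain ⟨b, hb⟩ := hb' j
    exact ⟨b, fun i hi => (Scheme.Modules.pullback s).map_isZero (hb i hi)⟩
  · intro j i
    exact isSF_pullback s _ (hsf' j i)
  · exact Q.mapIso (D'.mapT (Scheme.Modules.pullback s)).symm ≪≫
      (LpullQIso s D'.T hKF).symm ≪≫ (DCoh.Lpull s).mapIso e' ≪≫ c

end Affine

variable {X Y : Scheme.{u}} (f : X ⟶ Y) [DCoh.HasRpush f]

/-- **the projection formula for complexes with quasi-coherent cohomology** -/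
theorem PF_qcoh_unbdd [QuasiCompact f] [QuasiSeparated f] (I : CochainComplex X.Modules ℤ)
    [I.IsKInjective] (hI : DCoh.IsQCohD (Q.obj I))
    (P : CochainComplex Y.Modules ℤ) (hP : DCoh.IsKFlat P) (hPq : DCoh.IsQCohD (Q.obj P)) :
    PF f I P := by
  refine PF_of_local f I P (fun y => ?_)
  obtain ⟨V₀, hyV⟩ : ∃ V : Y.affineOpens, y ∈ V.1 := by
    obtain ⟨V, hV, hyV, -⟩ :=
      Opens.isBasis_iff_nbhd.1 Y.isBasis_affineOpens (Opens.mem_top y)
    exact ⟨⟨V, hV⟩, hyV⟩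
  obtain ⟨V, hV⟩ := V₀
  refine ⟨V, hyV, ?_⟩
  intro _
  haveI : IsAffine (V : Scheme.{u}) := hV
  haveI := isKInjective_RCx (f ⁻¹ᵁ V) I
  have hR : DCoh.IsKFlat ((RCx V).obj P) := Groth.Agent.Lib.PerfTensH3.isKFlat_RC V.ι P hP
  obtain ⟨D, hb, hsf, ⟨e⟩⟩ := exists_telData (V : Scheme.{u}) (Q.obj ((RCx V).obj P))
    (isQCohD_RCx V P hPq)
  have hL : DCoh.IsKFlat D.T := isKFlat_telData D hb hsf
  obtain ⟨Z, s, t, hs, ht⟩ := Groth.Agent.Lib.LTensQCL.exists_roof e
  obtain ⟨Z', q, hZ', hq⟩ := Groth.Agent.Lib.DTorCmp.exists_kflat_resolution' Z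
  haveI := hs
  haveI := ht
  haveI := hq
  haveI : QuasiIso (q ≫ s) := inferInstance
  haveI : QuasiIso (q ≫ t) := inferInstance
  have h1 := PF_congr (f ∣_ V) ((RCx (f ⁻¹ᵁ V)).obj I) hZ' hL (q ≫ s)
  have h2 := PF_congr (f ∣_ V) ((RCx (f ⁻¹ᵁ V)).obj I) hZ' hR (q ≫ t)
  exact h2.1 (h1.2 (PF_telData (f ∣_ V) _ (isQCohD_RCx (f ⁻¹ᵁ V) I hI) D hb hsf))

end

end Groth.Agent.Lib.PjCxH3
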