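import Mathlib
import Groth.Prelude
import Groth.Agent.Lib.PjCx20_helper3

/-!
# The projection formula on `D_QCoh` (helper3; S1118)

`main1118`: for `f : X ⟶ Y` quasi-compact and quasi-separated, `E ∈ D_QCoh(X)` and `K ∈ D_QCoh(Y)`,
`Rf_* E ⊗^L K ≅ Rf_* (E ⊗^L Lf^* K)`.
-/

set_option autoImplicit false
set_option linter.all false
set_option maxHeartbeats 1600000
set_option backward.isDefEq.respectTransparency false
set_option backward.isDefEq.respectTransparency.types false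
set_option backward.defeqAttrib.useBackward true

universe u
open CategoryTheory CategoryTheory.Limits AlgebraicGeometry Opposite TopologicalSpace

attribute [local instance] HasDerivedCategory.standard

namespace Groth.Agent.Lib.PjCxH3

open Groth.Agent.Lib.ProjFormulaH3 Groth.Agent.Lib.LpullLocH3 Groth.Agent.Lib.TotalMap
open Groth.Agent.Lib.StalkSkyL DerivedCategory Groth.Agent.Lib.PushCxAcycH3
open Groth.Agent.Lib.MVPushL Groth.Agent.Lib.StalkTensH3 Groth.Agent.Lib.TelDataH3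
open Groth.Agent.Lib.DCohLocLead Groth.Agent.Lib.PerfTensH3 Groth.Agent.Lib.LpullTensH3

noncomputable section

/-- `(Q A) ⊗^L L ≅ Q (A ⊗ P)` for `P` K-flat with `Q L ≅ Q P` -/
theorem nonempty_ltensor_iso {T : Scheme.{u}} (L : CochainComplex T.Modules ℤ)
    [DCoh.HasLTensorCx L] (A P : CochainComplex T.Modules ℤ) (hP : DCoh.IsKFlat P)
    (eLP : Q.obj L ≅ Q.obj P) :
    Nonempty ((DCoh.LTensorCx L).obj (Q.obj A) ≅ Q.obj ((DCoh.tensorCx.obj A).obj P)) := by
  obtain ⟨A', a, hA', ha⟩ := Groth.Agent.Lib.DTorCmp.exists_kflat_resolution' A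
  haveI := ha
  haveI : IsIso (Q.map a) := by rw [DerivedCategory.isIso_Q_map_iff_quasiIso]; infer_instance
  obtain ⟨e2⟩ := nonempty_Q_tensor_iso_right hA' eLP
  haveI := quasiIso_tensor_right P hP a
  haveI : IsIso (Q.map (((DCoh.tensorCx (X := T)).flip.obj P).map a)) := by
    rw [DerivedCategory.isIso_Q_map_iff_quasiIso]; infer_instance
  exact ⟨(DCoh.LTensorCx L).mapIso (asIso (Q.map a)).symm ≪≫ ltIsoLeft L A' hA' ≪≫ e2 ≪≫
    asIso (Q.map (((DCoh.tensorCx (X := T)).flip.obj P).map a))⟩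

variable {X Y : Scheme.{u}} (f : X ⟶ Y)

/-- **S1118** -/
theorem main1118 [QuasiCompact f] [QuasiSeparated f] [DCoh.HasRpush f] [DCoh.HasLpull f]
    (E : DCoh.D X) (hE : DCoh.IsQCohD E) (K : CochainComplex Y.Modules ℤ)
    (hK : DCoh.IsQCohD (DCoh.toD Y K)) [DCoh.HasLTensorCx K]
    (M : CochainComplex X.Modules ℤ)
    (hM : Nonempty (DCoh.toD X M ≅ (DCoh.Lpull f).obj (DCoh.toD Y K))) [DCoh.HasLTensorCx M] :
    Nonempty ((DCoh.LTensorCx K).obj ((DCoh.Rpush f).obj E) ≅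
      (DCoh.Rpush f).obj ((DCoh.LTensorCx M).obj E)) := by
  obtain ⟨eM⟩ := hM
  -- a K-injective representative of `E`
  let E₀ := Q.objPreimage E
  obtain ⟨I, s, hI, hs⟩ := exists_kinj_resolution E₀
  haveI := hI
  haveI := hs
  haveI : IsIso (Q.map s) := by rw [DerivedCategory.isIso_Q_map_iff_quasiIso]; infer_instance
  let eE : Q.obj I ≅ E := (asIso (Q.map s)).symm ≪≫ Q.objObjPreimageIso E
  have hIq : DCoh.IsQCohD (Q.obj I) := Groth.Agent.Lib.DSectX.isQCohD_of_iso eE.symm hE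
  -- a K-flat resolution of `K`
  obtain ⟨P, qP, hP, hq⟩ := Groth.Agent.Lib.DTorCmp.exists_kflat_resolution' K
  haveI := hq
  haveI : IsIso (Q.map qP) := by rw [DerivedCategory.isIso_Q_map_iff_quasiIso]; infer_instance
  let eP : Q.obj P ≅ Q.obj K := asIso (Q.map qP)
  have hPq : DCoh.IsQCohD (Q.obj P) := Groth.Agent.Lib.DSectX.isQCohD_of_iso eP.symm hK
  have hfP := isKFlat_pullback f P hP
  -- the projection formula
  have hPF : IsIso (Lam f I P) := PF_qcoh_unbdd f I hIq P hP hPq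
  haveI := hPF
  -- the left-hand side
  obtain ⟨c1⟩ := nonempty_ltensor_iso K ((pushCx f).obj I) P hP eP.symm
  let e1 : (DCoh.LTensorCx K).obj ((DCoh.Rpush f).obj E) ≅
      Q.obj ((DCoh.tensorCx.obj ((pushCx f).obj I)).obj P) :=
    (DCoh.LTensorCx K).mapIso ((DCoh.Rpush f).mapIso eE.symm ≪≫ (asIso (unitAt f I)).symm) ≪≫ c1
  -- the right-hand side
  let eMP : Q.obj M ≅ Q.obj ((pullCx f).obj P) :=
    eM ≪≫ (DCoh.Lpull f).mapIso eP.symm ≪≫ LpullQIso f P hP
  obtain ⟨c2⟩ := nonempty_ltensor_iso M I ((pullCx f).obj P) hfP eMP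
  let e2 : (DCoh.Rpush f).obj ((DCoh.LTensorCx M).obj E) ≅
      (DCoh.Rpush f).obj (Q.obj ((DCoh.tensorCx.obj I).obj ((pullCx f).obj P))) :=
    (DCoh.Rpush f).mapIso ((DCoh.LTensorCx M).mapIso eE.symm ≪≫ c2)
  exact ⟨e1 ≪≫ asIso (Lam f I P) ≪≫ e2.symm⟩

end

end Groth.Agent.Lib.PjCxH3
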