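import Mathlib
import Groth.Prelude
import Groth.Agent.Lib.PjCx21_helper3
import Groth.Agent.Lib.RUnitCx_helper3

/-!
# Duality for a finite morphism, I (helper3; towards S3657)

* `nonempty_natIso_of_relative_adjoint`: functorial uniqueness of relative right adjoints.
* `isIso_pfNat_app_unbdd`: the projection formula natural transformation is an isomorphism on
  `D_QCoh` (no boundedness).
-/

set_option autoImplicit false
set_option linter.all false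
set_option maxHeartbeats 1600000
set_option backward.isDefEq.respectTransparency false
set_option backward.isDefEq.respectTransparency.types false
set_option backward.defeqAttrib.useBackward true

universe u
open CategoryTheory CategoryTheory.Limits AlgebraicGeometry Opposite TopologicalSpace

attribute [local instance] HasDerivedCategory.standard

namespace Groth.Agent.Lib.FinDualH3

section Abstract

variable {𝒞 𝒟 ℬ : Type*} [Category 𝒞] [Category 𝒟] [Category ℬ]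

/-- functorial uniqueness of relative right adjoints -/
theorem nonempty_natIso_of_relative_adjoint (F₁ F₂ : 𝒞 ⥤ 𝒟) (c : F₁ ≅ F₂) (H : ℬ ⥤ 𝒟)
    (G₁ G₂ : ℬ ⥤ 𝒞)
    (α : ∀ (T : 𝒞) (K : ℬ), (T ⟶ G₁.obj K) ≃ (F₁.obj T ⟶ H.obj K))
    (hα : ∀ (T T' : 𝒞) (K : ℬ) (g : T' ⟶ T) (k : T ⟶ G₁.obj K),
      α T' K (g ≫ k) = F₁.map g ≫ α T K k)
    (hα' : ∀ (T : 𝒞) (K K' : ℬ) (m : K ⟶ K') (k : T ⟶ G₁.obj K),
      α T K' (k ≫ G₁.map m) = α T K k ≫ H.map m)
    (β : ∀ (T : 𝒞) (K : ℬ), (T ⟶ G₂.obj K) ≃ (F₂.obj T ⟶ H.obj K))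
    (hβ : ∀ (T T' : 𝒞) (K : ℬ) (g : T' ⟶ T) (k : T ⟶ G₂.obj K),
      β T' K (g ≫ k) = F₂.map g ≫ β T K k)
    (hβ' : ∀ (T : 𝒞) (K K' : ℬ) (m : K ⟶ K') (k : T ⟶ G₂.obj K),
      β T K' (k ≫ G₂.map m) = β T K k ≫ H.map m) :
    Nonempty (G₁ ≅ G₂) := by
  let φ : ∀ K : ℬ, G₁.obj K ⟶ G₂.obj K := fun K =>
    (β (G₁.obj K) K).symm (c.inv.app _ ≫ α _ K (𝟙 _))
  let ψ : ∀ K : ℬ, G₂.obj K ⟶ G₁.obj K := fun K =>
    (α (G₂.obj K) K).symm (c.hom.app _ ≫ β _ K (𝟙 _))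
  have hA : ∀ (T : 𝒞) (K : ℬ) (k : T ⟶ G₁.obj K),
      k ≫ φ K = (β T K).symm (c.inv.app T ≫ α T K k) := by
    intro T K k
    apply (β T K).injective
    rw [Equiv.apply_symm_apply, hβ]
    show F₂.map k ≫ β _ K ((β (G₁.obj K) K).symm (c.inv.app _ ≫ α _ K (𝟙 _))) = _
    rw [Equiv.apply_symm_apply, ← Category.assoc, c.inv.naturality k, Category.assoc, ← hα,
      Category.comp_id]
  have hB : ∀ (T : 𝒞) (K : ℬ) (k : T ⟶ G₂.obj K),
      k ≫ ψ K = (α T K).symm (c.hom.app T ≫ β T K k) := by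
    intro T K k
    apply (α T K).injective
    rw [Equiv.apply_symm_apply, hα]
    show F₁.map k ≫ α _ K ((α (G₂.obj K) K).symm (c.hom.app _ ≫ β _ K (𝟙 _))) = _
    rw [Equiv.apply_symm_apply, ← Category.assoc, c.hom.naturality k, Category.assoc, ← hβ,
      Category.comp_id]
  have h1 : ∀ K : ℬ, φ K ≫ ψ K = 𝟙 _ := by
    intro K
    rw [hB]
    show (α _ K).symm (c.hom.app _ ≫ β _ K ((β (G₁.obj K) K).symm (c.inv.app _ ≫ α _ K (𝟙 _)))) = _
    rw [Equiv.apply_symm_apply, Iso.hom_inv_id_app_assoc, Equiv.symm_apply_apply]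
  have h2 : ∀ K : ℬ, ψ K ≫ φ K = 𝟙 _ := by
    intro K
    rw [hA]
    show (β _ K).symm (c.inv.app _ ≫ α _ K ((α (G₂.obj K) K).symm (c.hom.app _ ≫ β _ K (𝟙 _)))) = _
    rw [Equiv.apply_symm_apply, Iso.inv_hom_id_app_assoc, Equiv.symm_apply_apply]
  refine ⟨NatIso.ofComponents (fun K => ⟨φ K, ψ K, h1 K, h2 K⟩) ?_⟩
  intro K K' m
  show G₁.map m ≫ φ K' = φ K ≫ G₂.map m
  rw [hA]
  apply (β _ K').injective
  rw [Equiv.apply_symm_apply, hβ']
  show _ = β _ K ((β (G₁.obj K) K).symm (c.inv.app _ ≫ α _ K (𝟙 _))) ≫ H.map m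
  rw [Equiv.apply_symm_apply, Category.assoc, ← hα', Category.id_comp]

end Abstract

open Groth.Agent.Lib.PjCxH3 DerivedCategory
open Groth.Agent.Lib.ProjFormulaH3 Groth.Agent.Lib.LpullLocH3 Groth.Agent.Lib.TotalMap
open Groth.Agent.Lib.StalkSkyL Groth.Agent.Lib.PushCxAcycH3
open Groth.Agent.Lib.MVPushL Groth.Agent.Lib.StalkTensH3

noncomputable section

section PfNat

variable {X Y : Scheme.{u}} (f : X ⟶ Y) [DCoh.HasRpush f] [DCoh.HasLpull f]
  {F I : CochainComplex X.Modules ℤ} (sF : F ⟶ I) [QuasiIso sF] [DCoh.HasLTensorCx F]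
  {G : CochainComplex Y.Modules ℤ} [DCoh.HasLTensorCx G] (t : G ⟶ (pushCx f).obj I)

theorem isIso_pfNat_app_unbdd [QuasiIso t] [QuasiCompact f] [QuasiSeparated f] [I.IsKInjective]
    (hI : DCoh.IsQCohD (Q.obj I)) (K : DCoh.D Y) (hK : DCoh.IsQCohD K) :
    IsIso ((pfNat f sF t).app K) := by
  refine isIso_thetaNat_app _ _ (ThetaP f sF t) (ThetaP_natural f sF t) K ?_
  have hP := rep_isKFlat K
  haveI := isIso_vMor f sF (rep K) hP
  have hPq : DCoh.IsQCohD (Q.obj (rep K)) :=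
    Groth.Agent.Lib.DSectX.isQCohD_of_iso (repIso K).symm hK
  have hPF : IsIso (Lam f I (rep K)) := PF_qcoh_unbdd f I hI (rep K) hP hPq
  haveI := hPF
  haveI := isIso_cuApp_of_left G (rep K) hP
  haveI := Groth.Agent.Lib.PerfTensH3.quasiIso_tensor_left (rep K) hP t
  haveI : IsIso (Q.map ((DCoh.tensorCx.obj (rep K)).map t)) := by
    rw [DerivedCategory.isIso_Q_map_iff_quasiIso]; infer_instance
  unfold ThetaP uMor
  infer_instance

end PfNat

section ProjO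

open Groth.Agent.Lib.RUnitCxH3 Groth.Agent.Lib.DualSchH3

variable {X Y : Scheme.{u}} (f : X ⟶ Y) [DCoh.HasRpush f] [DCoh.HasLpull f]

/-- `K ⊗^L Rf_* O_X ≅ Rf_* Lf^* K`, naturally in `K ∈ D_QCoh(Y)` -/
theorem nonempty_projO_natIso [QuasiCompact f] [QuasiSeparated f]
    (E : CochainComplex Y.Modules ℤ) [DCoh.HasLTensorCx E]
    (hU : DCoh.IsQCohD (Q.obj (unitCx X)))
    (hE : Nonempty (Q.obj E ≅ (DCoh.Rpush f).obj (Q.obj (unitCx X)))) :
    Nonempty ((DCoh.IsQCohD (X := Y)).ι ⋙ DCoh.LTensorCx E ≅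
      (DCoh.IsQCohD (X := Y)).ι ⋙ (DCoh.Lpull f ⋙ DCoh.Rpush f)) := by
  obtain ⟨eE⟩ := hE
  obtain ⟨I, s, hI, hs⟩ := exists_kinj_resolution (unitCx X)
  haveI := hI
  haveI := hs
  haveI : IsIso (Q.map s) := by rw [DerivedCategory.isIso_Q_map_iff_quasiIso]; infer_instance
  have hIq : DCoh.IsQCohD (Q.obj I) :=
    Groth.Agent.Lib.DSectX.isQCohD_of_iso (asIso (Q.map s)) hU
  obtain ⟨P, t, hP, ht⟩ := Groth.Agent.Lib.DTorCmp.exists_kflat_resolution' ((pushCx f).obj I)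
  haveI := ht
  haveI : IsIso (Q.map t) := by rw [DerivedCategory.isIso_Q_map_iff_quasiIso]; infer_instance
  haveI : DCoh.HasLTensorCx P := hasLTensorCx_of_isKFlat P hP
  let e1 : Q.obj E ≅ Q.obj P :=
    eE ≪≫ (DCoh.Rpush f).mapIso (asIso (Q.map s)) ≪≫ (asIso (unitAt f I)).symm ≪≫
      (asIso (Q.map t)).symm
  obtain ⟨γ⟩ := nonempty_LTensorCx_iso_of_Q_iso E P e1
  let ν : DCoh.LTensorCx P ⟶ DCoh.Lpull f ⋙ DCoh.LTensorCx (unitCx X) ⋙ DCoh.Rpush f :=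
    pfNat f s t
  haveI : ∀ K : DCoh.DQCoh Y, IsIso ((Functor.whiskerLeft (DCoh.IsQCohD (X := Y)).ι ν).app K) :=
    fun K => isIso_pfNat_app_unbdd f s t hIq K.obj K.property
  haveI : IsIso (Functor.whiskerLeft (DCoh.IsQCohD (X := Y)).ι ν) :=
    NatIso.isIso_of_isIso_app _
  exact ⟨Functor.isoWhiskerLeft _ γ ≪≫ asIso (Functor.whiskerLeft (DCoh.IsQCohD (X := Y)).ι ν) ≪≫
    Functor.isoWhiskerLeft _ (Functor.isoWhiskerLeft (DCoh.Lpull f)
      (Functor.isoWhiskerRight (LTensorCxUnitIso X) (DCoh.Rpush f) ≪≫ Functor.leftUnitor _))⟩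

end ProjO

end

end Groth.Agent.Lib.FinDualH3
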