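import Mathlib
import Groth.Prelude
import Groth.Agent.Lib.DualSch2_helper3

/-!
# `RHom(K, -)` for `K` perfect: quasi-coherence and perfectness of the dual (helper3)
-/

set_option autoImplicit false
set_option linter.all false
set_option maxHeartbeats 1600000
set_option backward.isDefEq.respectTransparency false
set_option backward.isDefEq.respectTransparency.types false
set_option backward.defeqAttrib.useBackward true

universe u
open CategoryTheory CategoryTheory.Limits AlgebraicGeometry Opposite TopologicalSpace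
open HomologicalComplex

attribute [local instance] HasDerivedCategory.standard

namespace Groth.Agent.Lib.DualSchH3

open ModSite Groth.Agent.Lib.ModSiteH8 Groth.Agent.Lib.DualLFH4 Groth.Agent.Lib.CxAdjH3
  Groth.Agent.Lib.DualModH3 Groth.Agent.Lib.DualDerH3 Groth.Agent.Lib.PjShriekH3
  Groth.Agent.Lib.DCohLocLead Groth.Agent.Lib.PerfTensH3 DerivedCategory

attribute [local instance] Groth.Agent.Lib.ModSiteH8.hasSheafHom

noncomputable section

variable {X : Scheme.{u}}

theorem isQCohD_of_isStrictlyPerfect {T : Scheme.{u}} (E : CochainComplex T.Modules ℤ)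
    (hE : DCoh.IsStrictlyPerfect E) : DCoh.IsQCohD (Q.obj E) :=
  Groth.Agent.Lib.DSectX.qcohD_Q E (fun n => FLFH8.isQuasicoherent_of_finLocFree _ (hE.2 n))

/-- **S1114** -/
theorem main1114 (K : CochainComplex X.Modules ℤ) (hK : DCoh.IsPerfect (DCoh.toD X K))
    [DCoh.HasLTensorCx K] [DCoh.HasRSheafHom K] (L : DCoh.D X) (hL : DCoh.IsQCohD L) :
    DCoh.IsQCohD ((DCoh.RSheafHom K).obj L) := by
  have key : ∀ x : X, ∃ V : X.Opens, x ∈ V ∧
      DCoh.IsQCohD ((DCoh.restrictD V.ι).obj ((DCoh.RSheafHom K).obj L)) := by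
    intro x
    obtain ⟨V, hxV, E, hE, hLD, hiso⟩ := exists_local_dual K hK x
    obtain ⟨e⟩ := hiso L
    haveI := hLD
    have h1 : DCoh.IsQCohD ((DCoh.restrictD V.ι).obj L) :=
      Groth.Agent.Lib.LpullQCL.isQCohD_restrictD V.ι L hL
    have h2 : DCoh.IsQCohD (DCoh.toD _ (dualCx (V : Scheme.{u}).sheaf E)) :=
      isQCohD_of_isStrictlyPerfect _ (isStrictlyPerfect_dualCx E hE)
    have h3 := Groth.Agent.Lib.LTensQCL.main1062 (V : Scheme.{u}) (dualCx (V : Scheme.{u}).sheaf E)
      h2 ((DCoh.restrictD V.ι).obj L) h1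
    exact ⟨V, hxV, Groth.Agent.Lib.DSectX.isQCohD_of_iso e.symm h3⟩
  refine Groth.Agent.Lib.LpullQCL.isQCohD_of_cover _
    (ι := {V : X.Opens // DCoh.IsQCohD ((DCoh.restrictD V.ι).obj ((DCoh.RSheafHom K).obj L))})
    (fun V => V.1) ?_ (fun V => V.2)
  rw [eq_top_iff]
  intro y _
  obtain ⟨V, hyV, hV⟩ := key y
  exact Opens.mem_iSup.2 ⟨⟨V, hV⟩, hyV⟩

/-- **S0965 (1)**: `RHom(K, O_X)` is perfect for `K` perfect -/
theorem isPerfect_RSheafHom_unit (K : CochainComplex X.Modules ℤ)
    (hK : DCoh.IsPerfect (Q.obj K)) [DCoh.HasLTensorCx K] [DCoh.HasRSheafHom K] :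
    DCoh.IsPerfect ((DCoh.RSheafHom K).obj
      ((DerivedCategory.singleFunctor X.Modules 0).obj (Coh.structureModule X))) := by
  rw [isPerfect_iff]
  intro x
  obtain ⟨V, hxV, E, hE, hLD, hiso⟩ := exists_local_dual K hK x
  haveI := hLD
  obtain ⟨e⟩ := hiso ((DerivedCategory.singleFunctor X.Modules 0).obj (Coh.structureModule X))
  have hD := isStrictlyPerfect_dualCx E hE
  have hKD : DCoh.IsKFlat (dualCx (V : Scheme.{u}).sheaf E) := isKFlat_of_isStrictlyPerfect _ hD
  let e1 : (DD V.ι).obj ((DerivedCategory.singleFunctor X.Modules 0).obj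
      (Coh.structureModule X)) ≅
      (DerivedCategory.singleFunctor (V : Scheme.{u}).Modules 0).obj
        (Coh.structureModule (V : Scheme.{u})) :=
    ((Scheme.Modules.restrictFunctor V.ι).mapDerivedCategorySingleFunctor 0).app _ ≪≫
      (DerivedCategory.singleFunctor _ 0).mapIso (Scheme.Modules.restrictUnitIso V.ι)
  obtain ⟨e2⟩ := nonempty_LTensorCx_unit_iso (dualCx (V : Scheme.{u}).sheaf E) hKD
  exact ⟨V, hxV, dualCx (V : Scheme.{u}).sheaf E, hD,
    ⟨e ≪≫ (DCoh.LTensorCx (dualCx (V : Scheme.{u}).sheaf E)).mapIso e1 ≪≫ e2⟩⟩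

end

end Groth.Agent.Lib.DualSchH3
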