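import Mathlib
import Groth.Prelude
import Groth.Agent.Lib.TensPC2_helper3
import Groth.Agent.Lib.RelPCg_helper3
import Groth.Agent.Lib.RelPCProp2_helper3
import Groth.Agent.Lib.PCohFT3_lead
import Groth.Agent.Lib.StalkSky2_lead
import Groth.Agent.Lib.PB7_helper8
import Groth.Agent.Lib.Fpqc1_helper8
import Groth.Agent.Lib.RpushCohD_helper3
import Groth.Agent.Lib.QCohCrit_helper9

/-!
# Local hypertor sheaves over a flat base are coherent (helper3)

`core`: `f : X ⟶ S` flat, `X` and `Z = X ×_S Y` locally Noetherian, `K ∈ D^-_Coh(X)`, `Q` a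
bounded-above complex on `Y` with (quasi-coherent, finite type) cohomology.  Then
`L pr₁^* K ⊗^L pr₂^* Q ∈ D_Coh(Z)`.
-/

set_option autoImplicit false
set_option linter.all false
set_option maxHeartbeats 1600000
set_option backward.isDefEq.respectTransparency false
set_option backward.isDefEq.respectTransparency.types false
set_option backward.defeqAttrib.useBackward true

universe u
open CategoryTheory CategoryTheory.Limits AlgebraicGeometry Opposite MonoidalCategory

attribute [local instance] HasDerivedCategory.standard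

namespace Groth.Agent.Lib.LocTorCohH3

open Groth.Agent.Lib.DCohLocLead Groth.Agent.Lib.RelPCPropH3 Groth.Agent.Lib.LpullPCH3
  Groth.Agent.Lib.TensPCH3 DerivedCategory

noncomputable section

section Flat

variable {Z Y : Scheme.{u}} (q : Z ⟶ Y) [Flat q]

/-- flat pullback commutes with homology of complexes -/
theorem nonempty_homology_pullCx_iso (Q : CochainComplex Y.Modules ℤ) (i : ℤ) :
    Nonempty ((((Scheme.Modules.pullback q).mapHomologicalComplex (ComplexShape.up ℤ)).obj Q).homology i ≅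
      (Scheme.Modules.pullback q).obj (Q.homology i)) := by
  haveI : PreservesFiniteLimits (Scheme.Modules.pullback q) :=
    Groth.Agent.Lib.StalkSkyL.preservesFiniteLimits_pullback_of_flat q
  haveI : (Scheme.Modules.pullback q).PreservesHomology := inferInstance
  exact ⟨(Q.sc i).mapHomologyIso (Scheme.Modules.pullback q)⟩

theorem isCoh_pullback (M : Y.Modules) (hM : Coh.IsCoh M) :
    Coh.IsCoh ((Scheme.Modules.pullback q).obj M) := by
  haveI := hM.1
  haveI := hM.2
  exact ⟨PBH8.isQuasicoherent_pullback q M,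
    FpqcH8.isFiniteType_pullback q M⟩

theorem isCohD_pullCx (Q : CochainComplex Y.Modules ℤ) (hQ : DCoh.IsCohD (DCoh.toD Y Q)) :
    DCoh.IsCohD (DCoh.toD Z
      (((Scheme.Modules.pullback q).mapHomologicalComplex (ComplexShape.up ℤ)).obj Q)) := by
  intro i
  obtain ⟨e⟩ := nonempty_homology_pullCx_iso q Q i
  have h1 : Coh.IsCoh (Q.homology i) :=
    isCoh_of_iso ((homologyFunctorFactors Y.Modules i).app Q).symm (hQ i)
  exact isCoh_of_iso ((homologyFunctorFactors Z.Modules i).app _ ≪≫ e) (isCoh_pullback q _ h1)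

end Flat

theorem isCoh_of_isZero' {X : Scheme.{u}} {M : X.Modules} (h : IsZero M) : Coh.IsCoh M := by
  haveI : M.IsQuasicoherent := Groth.Agent.Lib.FinPushPCH3.isQuasicoherent_of_isZero h
  refine ⟨inferInstance, QCohCrit.isFiniteType_of_sections_cover M
    (fun V : X.affineOpens => (V : X.Opens)) (fun V => V.2) (iSup_affineOpens_eq_top X)
    (fun V => ?_)⟩
  haveI : Subsingleton Γ(M, (V : X.Opens)) := by
    refine ⟨fun x y => ?_⟩
    have h0 : (𝟙 M : M ⟶ M) = 0 := h.eq_of_src _ _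
    have hx : x = (𝟙 M : M ⟶ M).app (V : X.Opens) x := by simp
    have hy : y = (𝟙 M : M ⟶ M).app (V : X.Opens) y := by simp
    rw [hx, hy, h0]
    simp
  infer_instance

theorem isCohD_inD {X : Scheme.{u}} (G : X.Modules) (hG : Coh.IsCoh G) :
    DCoh.IsCohD (DCoh.inD X G) := by
  intro i
  by_cases hi : i = 0
  · subst hi
    exact isCoh_of_iso ((DerivedCategory.singleFunctorCompHomologyFunctorIso X.Modules 0).app G) hG
  · rcases lt_or_gt_of_ne hi with h | h
    · exact isCoh_of_isZero'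
        (DerivedCategory.isZero_of_isGE (DCoh.inD X G) 0 i h)
    · exact isCoh_of_isZero'
        (DerivedCategory.isZero_of_isLE (DCoh.inD X G) 0 i h)

theorem core {X Y S : Scheme.{u}} (f : X ⟶ S) (g : Y ⟶ S) [Flat f]
    [IsLocallyNoetherian X] [IsLocallyNoetherian (pullback f g)]
    (K : DCoh.D X) (b : ℤ) (hKb : K.IsLE b) (hK : DCoh.IsCohD K)
    (Q : CochainComplex Y.Modules ℤ) (bQ : ∃ b : ℤ, ∀ i : ℤ, b < i → IsZero (Q.X i))
    (hQ : DCoh.IsCohD (DCoh.toD Y Q))
    [DCoh.HasLpull (pullback.fst f g)]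
    [DCoh.HasLTensorCx ((HTor.pullCx (pullback.snd f g)).obj Q)] :
    DCoh.IsCohD ((DCoh.LTensorCx ((HTor.pullCx (pullback.snd f g)).obj Q)).obj
      ((DCoh.Lpull (pullback.fst f g)).obj K)) := by
  haveI : Flat (pullback.snd f g) := inferInstance
  -- the left factor
  have hpc : ∀ m : ℤ, DCoh.IsPseudoCoherentD m K := fun m =>
    Groth.Agent.Lib.DCohLocLead.isPC_of_coh K b m hKb (fun i _ => hK i)
  have hpcL : ∀ m : ℤ, DCoh.IsPseudoCoherentD m ((DCoh.Lpull (pullback.fst f g)).obj K) := fun m =>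
    isPC_Lpull (pullback.fst f g) m K (hpc m)
  have hL : DCoh.IsCohD ((DCoh.Lpull (pullback.fst f g)).obj K) := fun i =>
    isCoh_HD_of_isPC _ hpcL i
  have hLt : Lt (b + 1) K := fun i hi => DerivedCategory.isZero_of_isLE K b i (by omega)
  have hLtL := Groth.Agent.Lib.RelPCaH3.Lt_Lpull (pullback.fst f g) K (b + 1) hLt
  have hLb : ∃ a : ℤ, ∀ i, a < i → IsZero (DCoh.HD ((DCoh.Lpull (pullback.fst f g)).obj K) i) :=
    ⟨b, fun i hi => hLtL i (by omega)⟩
  -- the right factor
  have hE : DCoh.IsCohD (DCoh.toD (pullback f g) ((HTor.pullCx (pullback.snd f g)).obj Q)) :=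
    isCohD_pullCx (pullback.snd f g) Q hQ
  obtain ⟨c, hc⟩ := bQ
  have hEb : ∃ c : ℤ, ∀ i, c < i →
      IsZero (DCoh.HD (DCoh.toD (pullback f g) ((HTor.pullCx (pullback.snd f g)).obj Q)) i) := by
    refine ⟨c, fun i hi => ?_⟩
    refine Lt_Q_of_isZero_X ((HTor.pullCx (pullback.snd f g)).obj Q) (c + 1) (fun j hj => ?_) i (by omega)
    exact (Scheme.Modules.pullback (pullback.snd f g)).map_isZero (hc j (by omega))
  exact (main6498 (pullback f g) _ _ hL hLb hE hEb).1

theorem main3542 (X Y S : Scheme.{u}) (f : X ⟶ S) (g : Y ⟶ S) [Flat f]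
    [IsLocallyNoetherian X] [IsLocallyNoetherian (pullback f g)]
    (P : CochainComplex X.Modules ℤ) (Q : CochainComplex Y.Modules ℤ)
    (hqP : ∀ i : ℤ, Coh.IsQCoh (P.X i)) (hqQ : ∀ i : ℤ, Coh.IsQCoh (Q.X i))
    (bP : ∃ b : ℤ, ∀ i : ℤ, b < i → IsZero (P.X i)) (bQ : ∃ b : ℤ, ∀ i : ℤ, b < i → IsZero (Q.X i))
    (hP : DCoh.IsCohD (DCoh.toD X P)) (hQ : DCoh.IsCohD (DCoh.toD Y Q))
    [DCoh.HasLpull (pullback.fst f g)] [DCoh.HasLTensorCx ((HTor.pullCx (pullback.snd f g)).obj Q)] :
    DCoh.IsCohD ((DCoh.LTensorCx ((HTor.pullCx (pullback.snd f g)).obj Q)).obj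
      ((DCoh.Lpull (pullback.fst f g)).obj (DCoh.toD X P))) := by
  obtain ⟨b, hb⟩ := bP
  have hLt : Lt (b + 1) (DerivedCategory.Q.obj P) := Lt_Q_of_isZero_X P (b + 1) (fun j hj => hb j (by omega))
  have hle : (DCoh.toD X P).IsLE b := by
    rw [DerivedCategory.isLE_iff]
    intro i hi
    exact hLt i (by omega)
  exact core f g (DCoh.toD X P) b hle hP Q bQ hQ

theorem main3533 (X Y S : Scheme.{u}) (f : X ⟶ S) (g : Y ⟶ S) [Flat f]
    [IsLocallyNoetherian X] [IsLocallyNoetherian (pullback f g)] (F : X.Modules) (G : Y.Modules)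
    (hF : Coh.IsCoh F) (hG : Coh.IsCoh G) [DCoh.HasLpull (pullback.fst f g)]
    [DCoh.HasLTensorCx ((HTor.pullCx (pullback.snd f g)).obj
      ((HomologicalComplex.single Y.Modules (ComplexShape.up ℤ) 0).obj G))] (n : ℤ) :
    Coh.IsCoh (DCoh.HD ((DCoh.LTensorCx ((HTor.pullCx (pullback.snd f g)).obj
      ((HomologicalComplex.single Y.Modules (ComplexShape.up ℤ) 0).obj G))).obj
        ((DCoh.Lpull (pullback.fst f g)).obj (DCoh.inD X F))) n) := by
  have hQ : DCoh.IsCohD (DCoh.toD Y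
      ((HomologicalComplex.single Y.Modules (ComplexShape.up ℤ) 0).obj G)) :=
    isCohD_of_iso ((DerivedCategory.singleFunctorIsoCompQ Y.Modules 0).app G).symm
      (isCohD_inD G hG)
  have bQ : ∃ b : ℤ, ∀ i : ℤ, b < i →
      IsZero (((HomologicalComplex.single Y.Modules (ComplexShape.up ℤ) 0).obj G).X i) :=
    ⟨0, fun i hi => HomologicalComplex.isZero_single_obj_X _ _ _ _ (by omega)⟩
  exact core f g (DCoh.inD X F) 0 inferInstance (isCohD_inD F hF) _ bQ hQ n

end

end Groth.Agent.Lib.LocTorCohH3
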