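import Mathlib
import Groth.Prelude

/-!
# Conjugate natural transformations and the t-structure (helper3)

Abstract lemmas used to compare `RHom(K, -)` and `RHom(P, -)` for an approximation `P → K`:

* `homEquiv_symm_comp_conjugate`: compatibility of conjugates with the hom-set bijections.
* `exists_fac_of_hom_zero`, `eq_of_hom_zero`: surjectivity / injectivity of `φ ≫ -` from the
  vanishing of maps out of the cone.
* `isIso_homology_mor₁_of_isGE`: in a distinguished triangle of the derived category, if the cone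
  is `≥ q + 1`, then the first map is an isomorphism on `H^i` for `i ≤ q`.
* `isIso_homology_conjugate`: the main abstract statement.
-/

set_option autoImplicit false
set_option linter.all false
set_option maxHeartbeats 1600000

universe u v w
open CategoryTheory CategoryTheory.Limits Pretriangulated ZeroObject

namespace Groth.Agent.Lib.RHomPCH3

section Conj

variable {A : Type*} {B : Type*} [Category A] [Category B]
  {L₁ L₂ : A ⥤ B} {R₁ R₂ : B ⥤ A} (adj₁ : L₁ ⊣ R₁) (adj₂ : L₂ ⊣ R₂) (σ : L₂ ⟶ L₁)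

theorem homEquiv_symm_comp_conjugate (Z : A) (d : B) (g : Z ⟶ R₁.obj d) :
    (adj₂.homEquiv Z d).symm (g ≫ (conjugateEquiv adj₁ adj₂ σ).app d) =
      σ.app Z ≫ (adj₁.homEquiv Z d).symm g := by
  rw [Adjunction.homEquiv_symm_apply, Adjunction.homEquiv_symm_apply, Functor.map_comp,
    Category.assoc, conjugateEquiv_counit, ← Category.assoc, ← Category.assoc,
    σ.naturality]

end Conj

section Tri

variable {A : Type*} [Category A] [Preadditive A] [HasZeroObject A] [HasShift A ℤ]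
  [∀ n : ℤ, (shiftFunctor A n).Additive] [Pretriangulated A]

/-- injectivity of `T.mor₁ ≫ -` -/
theorem eq_zero_of_hom_zero (T : Triangle A) (hT : T ∈ distTriang A) (G : A)
    (h0 : ∀ h : T.obj₃ ⟶ G, h = 0) (g : T.obj₂ ⟶ G) (hg : T.mor₁ ≫ g = 0) : g = 0 := by
  obtain ⟨h, rfl⟩ := Triangle.yoneda_exact₂ T hT g hg
  rw [h0 h, comp_zero]

/-- surjectivity of `T.mor₁ ≫ -` -/
theorem exists_fac_of_hom_zero (T : Triangle A) (hT : T ∈ distTriang A) (G : A)
    (h0 : ∀ h : T.obj₃⟦(-1 : ℤ)⟧ ⟶ G, h = 0) (f : T.obj₁ ⟶ G) :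
    ∃ g : T.obj₂ ⟶ G, T.mor₁ ≫ g = f := by
  have hT' := inv_rot_of_distTriang T hT
  obtain ⟨g, hg⟩ := Triangle.yoneda_exact₂ T.invRotate hT' f (h0 _)
  exact ⟨g, hg.symm⟩

end Tri

section Der

variable {C : Type u} [Category.{v} C] [Abelian C] [HasDerivedCategory.{w} C]

open DerivedCategory

theorem isIso_homology_mor₁_of_isGE (T : Triangle (DerivedCategory C))
    (hT : T ∈ distTriang (DerivedCategory C)) (q : ℤ) (hW : T.obj₃.IsGE (q + 1)) (i : ℤ)
    (hi : i ≤ q) : IsIso ((homologyFunctor C i).map T.mor₁) := by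
  have hz : ∀ k : ℤ, k ≤ q → IsZero ((homologyFunctor C k).obj T.obj₃) := fun k hk =>
    (DerivedCategory.isGE_iff T.obj₃ (q + 1)).1 hW k (by omega)
  haveI : Epi ((homologyFunctor C i).map T.mor₁) := by
    rw [HomologySequence.epi_homologyMap_mor₁_iff T hT i]
    exact (hz i hi).eq_of_tgt _ _
  haveI : Mono ((homologyFunctor C i).map T.mor₁) := by
    rw [HomologySequence.mono_homologyMap_mor₁_iff T hT (i - 1) i (by omega)]
    exact (hz (i - 1) (by omega)).eq_of_src _ _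
  exact isIso_of_mono_of_epi _

/-- **a morphism inducing bijections on maps from objects `≤ q` is an isomorphism on `H^i`,
`i ≤ q`** -/
theorem isIso_homology_of_hom_bijective {A₁ A₂ : DerivedCategory C} (ρ : A₁ ⟶ A₂) (q : ℤ)
    (hsurj : ∀ Z : DerivedCategory C, Z.IsLE q → ∀ f : Z ⟶ A₂, ∃ g : Z ⟶ A₁, g ≫ ρ = f)
    (hinj : ∀ Z : DerivedCategory C, Z.IsLE (q + 1) → ∀ g g' : Z ⟶ A₁, g ≫ ρ = g' ≫ ρ → g = g')
    (i : ℤ) (hi : i ≤ q) : IsIso ((homologyFunctor C i).map ρ) := by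
  obtain ⟨W, u, v, hT⟩ := distinguished_cocone_triangle ρ
  refine isIso_homology_mor₁_of_isGE (Triangle.mk ρ u v) hT q ?_ i hi
  change TStructure.t.IsGE W (q + 1)
  rw [TStructure.t.isGE_iff_orthogonal q (q + 1) rfl]
  intro Y f hY
  -- step 1: `f ≫ v = 0`
  have h1 : f ≫ v = 0 := by
    let Z : DerivedCategory C := Y⟦(-1 : ℤ)⟧
    have hZ : Z.IsLE (q + 1) := TStructure.t.isLE_shift Y q (-1) (q + 1) (by omega)
    let c : Z⟦(1 : ℤ)⟧ ≅ Y :=
      (shiftFunctorCompIsoId (DerivedCategory C) (-1 : ℤ) 1 (by norm_num)).app Y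
    obtain ⟨h, hh⟩ := (shiftFunctor (DerivedCategory C) (1 : ℤ)).map_surjective
      (c.hom ≫ f ≫ v)
    have h2 : h ≫ ρ = 0 ≫ ρ := by
      apply (shiftFunctor (DerivedCategory C) (1 : ℤ)).map_injective
      rw [Functor.map_comp, hh, zero_comp, Functor.map_zero, Category.assoc, Category.assoc]
      have : v ≫ ρ⟦(1 : ℤ)⟧' = 0 := comp_distTriang_mor_zero₃₁ _ hT
      rw [this, comp_zero, comp_zero]
    have h4 : h = 0 := hinj Z hZ h 0 h2
    rw [h4, Functor.map_zero] at hh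
    have h5 : c.hom ≫ f ≫ v = c.hom ≫ 0 := by rw [← hh, comp_zero]
    exact (cancel_epi c.hom).1 h5
  -- step 2
  obtain ⟨f'', hf'⟩ := Triangle.coyoneda_exact₃ _ hT f h1
  obtain ⟨f', hf''⟩ : ∃ f' : Y ⟶ A₂, f = f' ≫ u := ⟨f'', hf'⟩
  -- step 3
  obtain ⟨g, hg⟩ := hsurj Y hY f'
  have h7 : ρ ≫ u = 0 := comp_distTriang_mor_zero₁₂ _ hT
  calc f = (g ≫ ρ) ≫ u := by rw [hg, hf'']
    _ = g ≫ ρ ≫ u := Category.assoc _ _ _
    _ = 0 := by rw [h7, comp_zero]

variable {B : Type*} [Category B] {L₁ L₂ : DerivedCategory C ⥤ B} {R₁ R₂ : B ⥤ DerivedCategory C}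
  (adj₁ : L₁ ⊣ R₁) (adj₂ : L₂ ⊣ R₂) (σ : L₂ ⟶ L₁)

/-- **the conjugate is an isomorphism in low degrees** -/
theorem isIso_homology_conjugate (d : B) (q : ℤ)
    (hsurj : ∀ Z : DerivedCategory C, Z.IsLE q → ∀ f : L₂.obj Z ⟶ d,
      ∃ g : L₁.obj Z ⟶ d, σ.app Z ≫ g = f)
    (hinj : ∀ Z : DerivedCategory C, Z.IsLE (q + 1) → ∀ g g' : L₁.obj Z ⟶ d,
      σ.app Z ≫ g = σ.app Z ≫ g' → g = g')
    (i : ℤ) (hi : i ≤ q) :
    IsIso ((homologyFunctor C i).map ((conjugateEquiv adj₁ adj₂ σ).app d)) := by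
  refine isIso_homology_of_hom_bijective _ q ?_ ?_ i hi
  · intro Z hZ f'
    obtain ⟨g₀, hg₀⟩ := hsurj Z hZ ((adj₂.homEquiv Z d).symm f')
    refine ⟨adj₁.homEquiv Z d g₀, ?_⟩
    apply (adj₂.homEquiv Z d).symm.injective
    rw [homEquiv_symm_comp_conjugate adj₁ adj₂ σ, Equiv.symm_apply_apply, hg₀]
  · intro Z hZ g g' hgg
    apply (adj₁.homEquiv Z d).symm.injective
    apply hinj Z hZ
    rw [← homEquiv_symm_comp_conjugate adj₁ adj₂ σ, ← homEquiv_symm_comp_conjugate adj₁ adj₂ σ,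
      hgg]

end Der

section Trunc

variable {C₁ : Type*} [Category C₁] [Abelian C₁] [HasDerivedCategory C₁]
  {C₂ : Type*} [Category C₂] [Abelian C₂] [HasDerivedCategory C₂]

open DerivedCategory

/-- a right adjoint of a functor which is right t-exact up to a shift: general form -/
theorem isIso_homology_rightAdjoint_map {T : DerivedCategory C₁ ⥤ DerivedCategory C₂}
    {R : DerivedCategory C₂ ⥤ DerivedCategory C₁} (adj : T ⊣ R) (b : ℤ)
    (hT : ∀ (Z : DerivedCategory C₁) (q : ℤ), Z.IsLE q → (T.obj Z).IsLE (q + b))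
    {M₁ M : DerivedCategory C₂} (φ : M₁ ⟶ M) (N : ℤ)
    (hlift : ∀ (Y : DerivedCategory C₂), Y.IsLE N → ∀ f : Y ⟶ M, ∃ f₁ : Y ⟶ M₁, f₁ ≫ φ = f)
    (hext : ∀ (Y : DerivedCategory C₂), Y.IsLE N → ∀ f₁ f₂ : Y ⟶ M₁, f₁ ≫ φ = f₂ ≫ φ → f₁ = f₂)
    (i : ℤ) (hi : i ≤ N - b - 1) :
    IsIso ((homologyFunctor C₁ i).map (R.map φ)) := by
  refine isIso_homology_of_hom_bijective _ (N - b - 1) ?_ ?_ i hi
  · intro Z hZ f'
    have h1 : (T.obj Z).IsLE (N - b - 1 + b) := hT Z _ hZ
    have h2 : (T.obj Z).IsLE N := by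
      haveI := h1
      exact TStructure.t.isLE_of_le (T.obj Z) (N - b - 1 + b) N (by omega)
    obtain ⟨f₁, hf₁⟩ := hlift _ h2 ((adj.homEquiv _ _).symm f')
    refine ⟨adj.homEquiv _ _ f₁, ?_⟩
    rw [← Adjunction.homEquiv_naturality_right, hf₁, Equiv.apply_symm_apply]
  · intro Z hZ g g' hgg
    have h1 : (T.obj Z).IsLE (N - b - 1 + 1 + b) := hT Z _ hZ
    have h2 : (T.obj Z).IsLE N := by
      haveI := h1
      exact TStructure.t.isLE_of_le (T.obj Z) (N - b - 1 + 1 + b) N (by omega)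
    apply (adj.homEquiv _ _).symm.injective
    apply hext _ h2
    rw [← Adjunction.homEquiv_naturality_right_symm, ← Adjunction.homEquiv_naturality_right_symm,
      hgg]

/-- **a right adjoint of a functor which is right t-exact up to a shift commutes with truncation
in low degrees** -/
theorem isIso_homology_rightAdjoint_truncLEι {T : DerivedCategory C₁ ⥤ DerivedCategory C₂}
    {R : DerivedCategory C₂ ⥤ DerivedCategory C₁} (adj : T ⊣ R) (b : ℤ)
    (hT : ∀ (Z : DerivedCategory C₁) (q : ℤ), Z.IsLE q → (T.obj Z).IsLE (q + b))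
    (M : DerivedCategory C₂) (N : ℤ) (i : ℤ) (hi : i ≤ N - b - 1) :
    IsIso ((homologyFunctor C₁ i).map (R.map ((TStructure.t.truncLEι N).app M))) := by
  refine isIso_homology_rightAdjoint_map adj b hT (M₁ := (TStructure.t.truncLE N).obj M)
    (M := M) ((TStructure.t.truncLEι N).app M) N ?_ ?_ i hi
  · intro Y hY f
    haveI : TStructure.t.IsLE Y N := hY
    exact ⟨TStructure.t.liftTruncLE f N, TStructure.t.liftTruncLE_ι f N⟩
  · intro Y hY f₁ f₂ h
    haveI : TStructure.t.IsLE Y N := hY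
    exact TStructure.t.to_truncLE_obj_ext h

/-- the homology of the truncation -/
theorem isIso_homology_truncLEι (M : DerivedCategory C₂) (N : ℤ) (i : ℤ) (hi : i ≤ N) :
    IsIso ((homologyFunctor C₂ i).map ((TStructure.t.truncLEι N).app M)) := by
  have hT := TStructure.t.triangleLEGT_distinguished N M
  have hW : ((TStructure.t.triangleLEGT N).obj M).obj₃.IsGE (N + 1) := by
    change TStructure.t.IsGE ((TStructure.t.truncGT N).obj M) (N + 1)
    exact TStructure.t.isGE_truncGT_obj M N (N + 1)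
  exact isIso_homology_mor₁_of_isGE _ hT N hW i hi

end Trunc

end Groth.Agent.Lib.RHomPCH3
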