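import Mathlib
import Groth.Prelude
import Groth.Agent.Lib.RHomPC1_helper3
import Groth.Agent.Lib.DualSch2_helper3
import Groth.Agent.Lib.TensPC1_helper3

/-!
# `RHom(K, -)` for `K` approximated by a strictly perfect complex (helper3)

* `exists_tauNat`: a chain map `a : A₀ ⟶ B₀` of K-flat complexes induces a natural transformation
  `- ⊗^L A₀ ⟶ - ⊗^L B₀`, computed by `Z' ⊗ a` on every complex `Z'`.
* `isApprox_tauNat`: if `a` is an `m`-approximation and `Z ≤ q`, then `τ_a Z` is a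
  `(q + m)`-approximation.
* `nonempty_HD_RSheafHom_iso`: the local comparison `H^i(RHom(K, L)|_V) ≅ H^i(L|_V ⊗^L P^∨)`
  for `i < r - m`, where `P → K|_V` is an `m`-approximation by a strictly perfect complex and
  `L ≥ r`.
-/

set_option autoImplicit false
set_option linter.all false
set_option maxHeartbeats 1600000
set_option backward.isDefEq.respectTransparency false
set_option backward.isDefEq.respectTransparency.types false
set_option backward.defeqAttrib.useBackward true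

universe u
open CategoryTheory CategoryTheory.Limits AlgebraicGeometry Opposite TopologicalSpace
open HomologicalComplex Pretriangulated

attribute [local instance] HasDerivedCategory.standard

namespace Groth.Agent.Lib.RHomPCH3

open ModSite Groth.Agent.Lib.ModSiteH8 Groth.Agent.Lib.DualLFH4 Groth.Agent.Lib.CxAdjH3
  Groth.Agent.Lib.DualModH3 Groth.Agent.Lib.DualDerH3 Groth.Agent.Lib.PjShriekH3
  Groth.Agent.Lib.DCohLocLead Groth.Agent.Lib.PerfTensH3 Groth.Agent.Lib.DualSchH3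
  Groth.Agent.Lib.TensPCH3 Groth.Agent.Lib.LpullPCH3 Groth.Agent.Lib.ApproxOpenL DerivedCategory

attribute [local instance] Groth.Agent.Lib.ModSiteH8.hasSheafHom

noncomputable section

/-- a chain map of K-flat complexes induces a natural transformation of derived tensor functors -/
theorem exists_tauNat {T : Scheme.{u}} (A₀ B₀ : CochainComplex T.Modules ℤ)
    (hA : DCoh.IsKFlat A₀) (hB : DCoh.IsKFlat B₀) [DCoh.HasLTensorCx A₀] [DCoh.HasLTensorCx B₀]
    (a : A₀ ⟶ B₀) :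
    ∃ τ : DCoh.LTensorCx A₀ ⟶ DCoh.LTensorCx B₀, ∀ Z' : CochainComplex T.Modules ℤ,
      ∃ (e₁ : (DCoh.LTensorCx A₀).obj (Q.obj Z') ≅ Q.obj ((DCoh.tensorCx.obj Z').obj A₀))
        (e₂ : (DCoh.LTensorCx B₀).obj (Q.obj Z') ≅ Q.obj ((DCoh.tensorCx.obj Z').obj B₀)),
        τ.app (Q.obj Z') = e₁.hom ≫ Q.map (((DCoh.tensorCx (X := T)).obj Z').map a) ≫ e₂.inv := by
  haveI : QuasiIso (𝟙 A₀) := inferInstance
  haveI : QuasiIso (𝟙 B₀) := inferInstance
  obtain ⟨e1⟩ := nonempty_ltNatIso A₀ A₀ (𝟙 A₀) hA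
  obtain ⟨e2⟩ := nonempty_ltNatIso B₀ B₀ (𝟙 B₀) hB
  letI L1 : Localization.Lifting (DerivedCategory.Q (C := T.Modules))
      (HomologicalComplex.quasiIso T.Modules (ComplexShape.up ℤ))
      ((DCoh.tensorCx (X := T)).flip.obj A₀ ⋙ DerivedCategory.Q) (DCoh.LTensorCx A₀) := ⟨e1⟩
  letI L2 : Localization.Lifting (DerivedCategory.Q (C := T.Modules))
      (HomologicalComplex.quasiIso T.Modules (ComplexShape.up ℤ))
      ((DCoh.tensorCx (X := T)).flip.obj B₀ ⋙ DerivedCategory.Q) (DCoh.LTensorCx B₀) := ⟨e2⟩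
  refine ⟨Localization.liftNatTrans (DerivedCategory.Q (C := T.Modules))
    (HomologicalComplex.quasiIso T.Modules (ComplexShape.up ℤ)) _ _ _ _
    (Functor.whiskerRight ((DCoh.tensorCx (X := T)).flip.map a) DerivedCategory.Q), fun Z' => ?_⟩
  refine ⟨e1.app Z', e2.app Z', ?_⟩
  rw [Localization.liftNatTrans_app]
  rfl

/-- `τ_a Z` is an approximation when `a` is one and `Z` is bounded above -/
theorem isApprox_of_tauNat {T : Scheme.{u}} (A₀ B₀ : CochainComplex T.Modules ℤ)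
    (hA : DCoh.IsKFlat A₀) (hB : DCoh.IsKFlat B₀) [DCoh.HasLTensorCx A₀] [DCoh.HasLTensorCx B₀]
    (a : A₀ ⟶ B₀) (m : ℤ) (ha : IsApprox m (Q.map a))
    (τ : DCoh.LTensorCx A₀ ⟶ DCoh.LTensorCx B₀)
    (hτ : ∀ Z' : CochainComplex T.Modules ℤ,
      ∃ (e₁ : (DCoh.LTensorCx A₀).obj (Q.obj Z') ≅ Q.obj ((DCoh.tensorCx.obj Z').obj A₀))
        (e₂ : (DCoh.LTensorCx B₀).obj (Q.obj Z') ≅ Q.obj ((DCoh.tensorCx.obj Z').obj B₀)),
        τ.app (Q.obj Z') = e₁.hom ≫ Q.map (((DCoh.tensorCx (X := T)).obj Z').map a) ≫ e₂.inv)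
    (Z : DCoh.D T) (q : ℤ) (hZ : Z.IsLE q) : IsApprox (q + m) (τ.app Z) := by
  obtain ⟨Z', hZ', ⟨e⟩⟩ := Groth.Agent.Lib.LpullTensH3.exists_kflat_rep Z
  have hLt : Lt (q + 1) (Q.obj Z') := by
    intro i hi
    haveI : (Q.obj Z').IsLE q := TStructure.t.isLE_of_iso e.symm q
    exact (DerivedCategory.isLE_iff (Q.obj Z') q).1 inferInstance i (by omega)
  have h1 := isApprox_tensor_left hA hB a m ha Z' hZ' (q + 1) hLt
  obtain ⟨e₁, e₂, he⟩ := hτ Z'
  have h2 : IsApprox (q + m) (τ.app (Q.obj Z')) := by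
    rw [he]
    exact (IsApprox.of_isIso _).comp ((IsApprox.of_le h1 (by omega)).comp (IsApprox.of_isIso _))
  have hnat := τ.naturality e.hom
  have h3 : τ.app Z = (DCoh.LTensorCx A₀).map e.inv ≫ τ.app (Q.obj Z') ≫
      (DCoh.LTensorCx B₀).map e.hom := by
    rw [← hnat, ← Category.assoc, ← Functor.map_comp, e.inv_hom_id, CategoryTheory.Functor.map_id,
      Category.id_comp]
  rw [h3]
  exact (IsApprox.of_isIso _).comp (h2.comp (IsApprox.of_isIso _))

variable {X : Scheme.{u}}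

theorem isGE_DD {Y : Scheme.{u}} (j : Y ⟶ X) [IsOpenImmersion j] (L : DCoh.D X) (r : ℤ)
    (hL : L.IsGE r) : ((DD j).obj L).IsGE r := by
  rw [DerivedCategory.isGE_iff]
  intro i hi
  obtain ⟨e⟩ := nonempty_HD_restrict_iso j L i
  exact ((Scheme.Modules.restrictFunctor j).map_isZero
    ((DerivedCategory.isGE_iff L r).1 hL i hi)).of_iso e

/-- **local comparison**: `H^i(RHom(K, L)|_V) ≅ H^i(L|_V ⊗^L P^∨)` for `i < r - m` -/
theorem nonempty_HD_RSheafHom_iso (K : CochainComplex X.Modules ℤ) (hK : DCoh.IsKFlat K)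
    [DCoh.HasLTensorCx K] [DCoh.HasRSheafHom K] (V : X.Opens)
    (P : CochainComplex (V : Scheme.{u}).Modules ℤ) (hP : DCoh.IsStrictlyPerfect P)
    [DCoh.HasLTensorCx (dualCx (V : Scheme.{u}).sheaf P)]
    (α : Q.obj P ⟶ (DD V.ι).obj (Q.obj K)) (m : ℤ) (hα : IsApprox m α)
    (L : DCoh.D X) (r : ℤ) (hL : L.IsGE r) (i : ℤ) (hi : i < r - m) :
    Nonempty (DCoh.HD ((DD V.ι).obj ((DCoh.RSheafHom K).obj L)) i ≅
      DCoh.HD ((DCoh.LTensorCx (dualCx (V : Scheme.{u}).sheaf P)).obj ((DD V.ι).obj L)) i) := by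
  -- the restriction of `K`
  have hF : DCoh.IsKFlat ((DCoh.restrictCx V).obj K) := isKFlat_RC V.ι K hK
  haveI : DCoh.HasLTensorCx ((DCoh.restrictCx V).obj K) :=
    Groth.Agent.Lib.PjCxH3.hasLTensorCx_of_isKFlat _ hF
  have hKP : DCoh.IsKFlat P := isKFlat_of_isStrictlyPerfect P hP
  haveI : DCoh.HasLTensorCx P := Groth.Agent.Lib.PjCxH3.hasLTensorCx_of_isKFlat P hKP
  obtain ⟨adjP⟩ := nonempty_adj P hP
  -- represent `α`
  let α' : Q.obj P ⟶ Q.obj ((DCoh.restrictCx V).obj K) := α ≫ (facIso V.ι K).hom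
  have hα' : IsApprox m α' := hα.comp (IsApprox.of_isIso _)
  obtain ⟨A₀, B₀, hA, hB, a, u, v, hfac⟩ := exists_arrow_rep α'
  have ea : Q.map a = u.hom ≫ α' ≫ v.inv := by
    rw [← Category.assoc, hfac, Category.assoc, Iso.hom_inv_id, Category.comp_id]
  have ha : IsApprox m (Q.map a) := by
    rw [ea]
    exact (IsApprox.of_isIso _).comp (hα'.comp (IsApprox.of_isIso _))
  haveI : DCoh.HasLTensorCx A₀ := Groth.Agent.Lib.PjCxH3.hasLTensorCx_of_isKFlat A₀ hA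
  haveI : DCoh.HasLTensorCx B₀ := Groth.Agent.Lib.PjCxH3.hasLTensorCx_of_isKFlat B₀ hB
  obtain ⟨τ, hτ⟩ := exists_tauNat A₀ B₀ hA hB a
  obtain ⟨γA⟩ := nonempty_LTensorCx_iso_of_Q_iso A₀ P u
  obtain ⟨γB⟩ := nonempty_LTensorCx_iso_of_Q_iso B₀ ((DCoh.restrictCx V).obj K) v
  obtain ⟨pf⟩ := nonempty_shriek_ltensor_iso V K
  -- the adjunctions
  let adj₁ : CxOX.extZeroD V.ι ⋙ DCoh.LTensorCx K ⊣ DCoh.RSheafHom K ⋙ DD V.ι :=
    (adjShriek V).comp (DCoh.RSheafHomAdj K)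
  let adj₂ : DCoh.LTensorCx A₀ ⋙ CxOX.extZeroD V.ι ⊣
      DD V.ι ⋙ DCoh.LTensorCx (dualCx (V : Scheme.{u}).sheaf P) :=
    (adjP.ofNatIsoLeft γA.symm).comp (adjShriek V)
  let ι : DCoh.LTensorCx B₀ ⋙ CxOX.extZeroD V.ι ≅ CxOX.extZeroD V.ι ⋙ DCoh.LTensorCx K :=
    Functor.isoWhiskerRight γB (CxOX.extZeroD V.ι) ≪≫ pf
  let σ : DCoh.LTensorCx A₀ ⋙ CxOX.extZeroD V.ι ⟶ CxOX.extZeroD V.ι ⋙ DCoh.LTensorCx K :=
    Functor.whiskerRight τ (CxOX.extZeroD V.ι) ≫ ι.hom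
  have hσ : ∀ Z : DCoh.D (V : Scheme.{u}),
      σ.app Z = (CxOX.extZeroD V.ι).map (τ.app Z) ≫ ι.hom.app Z := fun Z => rfl
  have hGE : ((DD V.ι).obj L).IsGE r := isGE_DD V.ι L r hL
  set q : ℤ := r - m - 1 with hq
  -- the cone of `τ Z`
  have hcone : ∀ (Z : DCoh.D (V : Scheme.{u})) (q' : ℤ), Z.IsLE q' →
      ∃ (W : DCoh.D (V : Scheme.{u})) (f : (DCoh.LTensorCx B₀).obj Z ⟶ W)
        (g : W ⟶ ((DCoh.LTensorCx A₀).obj Z)⟦(1 : ℤ)⟧),
        Triangle.mk (τ.app Z) f g ∈ distTriang (DCoh.D (V : Scheme.{u})) ∧ W.IsLE (q' + m - 1) := by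
    intro Z q' hZ
    obtain ⟨W, f, g, hT⟩ := distinguished_cocone_triangle (τ.app Z)
    refine ⟨W, f, g, hT, ?_⟩
    have h1 := isApprox_of_tauNat A₀ B₀ hA hB a m ha τ hτ Z q' hZ
    have h2 : Lt (q' + m) W := Lt_of_isApprox (q' + m) _ hT h1
    rw [DerivedCategory.isLE_iff]
    intro j hj
    exact h2 j (by omega)
  have key := isIso_homology_conjugate adj₁ adj₂ σ L q ?_ ?_ i (by omega)
  · exact ⟨asIso ((homologyFunctor _ i).map ((conjugateEquiv adj₁ adj₂ σ).app L))⟩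
  · -- surjectivity
    intro Z hZ f
    obtain ⟨W, f₂, g₂, hT, hW⟩ := hcone Z q hZ
    have h0 : ∀ h : W⟦(-1 : ℤ)⟧ ⟶ (DD V.ι).obj L, h = 0 := by
      intro h
      haveI : (W⟦(-1 : ℤ)⟧).IsLE (q + m) :=
        TStructure.t.isLE_shift W (q + m - 1) (-1) (q + m) (by omega)
      exact TStructure.t.zero h (q + m) r (by omega)
    obtain ⟨gb, hgb⟩ := exists_fac_of_hom_zero _ hT ((DD V.ι).obj L) h0
      ((adjShriek V).homEquiv _ _ f)
    refine ⟨ι.inv.app Z ≫ ((adjShriek V).homEquiv _ _).symm gb, ?_⟩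
    rw [hσ, Category.assoc, ← Category.assoc (ι.hom.app Z), Iso.hom_inv_id_app, Category.id_comp,
      ← Adjunction.homEquiv_naturality_left_symm]
    have : τ.app Z ≫ gb = (adjShriek V).homEquiv _ _ f := hgb
    rw [this, Equiv.symm_apply_apply]
  · -- injectivity
    intro Z hZ g g' hgg
    obtain ⟨W, f₂, g₂, hT, hW⟩ := hcone Z (q + 1) hZ
    have h0 : ∀ h : W ⟶ (DD V.ι).obj L, h = 0 := by
      intro h
      haveI : W.IsLE (q + m) := by
        have : q + 1 + m - 1 = q + m := by omega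
        rw [this] at hW
        exact hW
      exact TStructure.t.zero h (q + m) r (by omega)
    rw [hσ, Category.assoc, Category.assoc] at hgg
    have h1 := congrArg ((adjShriek V).homEquiv _ _) hgg
    rw [Adjunction.homEquiv_naturality_left, Adjunction.homEquiv_naturality_left] at h1
    have h2 : τ.app Z ≫ ((adjShriek V).homEquiv _ _ (ι.hom.app Z ≫ g) -
        (adjShriek V).homEquiv _ _ (ι.hom.app Z ≫ g')) = 0 := by
      rw [Preadditive.comp_sub, h1, sub_self]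
    have h3 := eq_zero_of_hom_zero _ hT ((DD V.ι).obj L) h0 _ h2
    have h4 : ι.hom.app Z ≫ g = ι.hom.app Z ≫ g' :=
      ((adjShriek V).homEquiv _ _).injective (sub_eq_zero.1 h3)
    exact (cancel_epi (ι.hom.app Z)).1 h4

end

end Groth.Agent.Lib.RHomPCH3
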