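import Mathlib
import Groth.Prelude
import Groth.Agent.Lib.RHomPC2_helper3
import Groth.Agent.Lib.TensPC2_helper3
import Groth.Agent.Lib.DualSch3_helper3
import Groth.Agent.Lib.LocTorCoh_helper3
import Groth.Agent.Lib.RelPCProp1_helper3
import Groth.Agent.Lib.PerfFlat2_lead
import Groth.Agent.Lib.PCohFT3_lead

/-!
# `RHom(K, L)` for `K` pseudo-coherent and `L` bounded below (helper3)

* `isLE_LTensorCx`: right t-exactness of `- ⊗^L K`.
* `isGE_RSheafHom`: `RHom(K, L) ≥ a - b` for `K ≤ b`, `L ≥ a`.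
* `isCoh_HD_LTensorCx_dual`: `M ⊗^L P^∨` has coherent cohomology for `P` strictly perfect and
  `M ∈ D_Coh` (locally Noetherian).
* `exists_local_HD_iso`: the local comparison.
* `main11112`, `main1115`, `main1116`.
-/

set_option autoImplicit false
set_option linter.all false
set_option maxHeartbeats 1600000
set_option backward.isDefEq.respectTransparency false
set_option backward.isDefEq.respectTransparency.types false
set_option backward.defeqAttrib.useBackward true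

universe u
open CategoryTheory CategoryTheory.Limits AlgebraicGeometry Opposite TopologicalSpace
open HomologicalComplex Pretriangulated

attribute [local instance] HasDerivedCategory.standard

namespace Groth.Agent.Lib.RHomPCH3

open ModSite Groth.Agent.Lib.ModSiteH8 Groth.Agent.Lib.DualLFH4 Groth.Agent.Lib.CxAdjH3
  Groth.Agent.Lib.DualModH3 Groth.Agent.Lib.DualDerH3 Groth.Agent.Lib.PjShriekH3
  Groth.Agent.Lib.DCohLocLead Groth.Agent.Lib.PerfTensH3 Groth.Agent.Lib.DualSchH3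
  Groth.Agent.Lib.TensPCH3 Groth.Agent.Lib.LpullPCH3 Groth.Agent.Lib.ApproxOpenL DerivedCategory

attribute [local instance] Groth.Agent.Lib.ModSiteH8.hasSheafHom

noncomputable section

theorem Lt_of_isLE'' {T : Scheme.{u}} (E : DCoh.D T) (b : ℤ) (h : E.IsLE b) : Lt (b + 1) E := by
  intro i hi
  exact (DerivedCategory.isLE_iff E b).1 h i (by omega)

theorem isLE_of_Lt'' {T : Scheme.{u}} (E : DCoh.D T) (b : ℤ) (h : Lt (b + 1) E) : E.IsLE b := by
  rw [DerivedCategory.isLE_iff]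
  intro i hi
  exact h i (by omega)

/-- **right t-exactness of `- ⊗^L K`** -/
theorem isLE_LTensorCx {T : Scheme.{u}} (K : CochainComplex T.Modules ℤ) [DCoh.HasLTensorCx K]
    (b : ℤ) (hK : (Q.obj K).IsLE b) (Z : DCoh.D T) (q : ℤ) (hZ : Z.IsLE q) :
    ((DCoh.LTensorCx K).obj Z).IsLE (q + b) := by
  obtain ⟨K', π, hK', hπ⟩ := Groth.Agent.Lib.DTorCmp.exists_kflat_resolution' K
  haveI := hπ
  haveI : IsIso (Q.map π) := by rw [DerivedCategory.isIso_Q_map_iff_quasiIso]; infer_instance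
  obtain ⟨e1⟩ := nonempty_ltNatIso K K' π hK'
  obtain ⟨Z', hZ', ⟨e⟩⟩ := Groth.Agent.Lib.LpullTensH3.exists_kflat_rep Z
  have h1 : Lt (q + 1) (Q.obj Z') :=
    Lt_of_isLE'' _ q (TStructure.t.isLE_of_iso e.symm q)
  have h2 : Lt (b + 1) (Q.obj K') :=
    Lt_of_isLE'' _ b (TStructure.t.isLE_of_iso (asIso (Q.map π)).symm b)
  have h3 := Lt_tensorCx Z' K' hZ' hK' (q + 1) (b + 1) h1 h2
  have h4 : (Q.obj ((DCoh.tensorCx.obj Z').obj K')).IsLE (q + b) := by
    apply isLE_of_Lt''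
    have : q + 1 + (b + 1) - 1 = q + b + 1 := by omega
    rw [this] at h3
    exact h3
  let ε : (DCoh.LTensorCx K).obj Z ≅ Q.obj ((DCoh.tensorCx.obj Z').obj K') :=
    (DCoh.LTensorCx K).mapIso e.symm ≪≫ e1.app Z'
  exact TStructure.t.isLE_of_iso ε.symm (q + b)

variable {X : Scheme.{u}}

/-- **`RHom(K, L) ≥ a - b`** for `K ≤ b` and `L ≥ a` -/
theorem isGE_RSheafHom (K : CochainComplex X.Modules ℤ) [DCoh.HasLTensorCx K]
    [DCoh.HasRSheafHom K] (b : ℤ) (hK : (Q.obj K).IsLE b) (L : DCoh.D X) (a : ℤ)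
    (hL : L.IsGE a) : ((DCoh.RSheafHom K).obj L).IsGE (a - b) := by
  change TStructure.t.IsGE _ (a - b)
  rw [TStructure.t.isGE_iff_orthogonal (a - b - 1) (a - b) (by omega)]
  intro Y f hY
  haveI h1 : ((DCoh.LTensorCx K).obj Y).IsLE (a - b - 1 + b) := isLE_LTensorCx K b hK Y _ hY
  apply ((DCoh.RSheafHomAdj K).homEquiv Y L).symm.injective
  haveI : L.IsGE a := hL
  exact (TStructure.t.zero _ (a - b - 1 + b) a (by omega)).trans
    (TStructure.t.zero _ (a - b - 1 + b) a (by omega)).symm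

/-- bound for a strictly perfect complex -/
theorem exists_isLE_of_isStrictlyPerfect {T : Scheme.{u}} (P : CochainComplex T.Modules ℤ)
    (hP : DCoh.IsStrictlyPerfect P) : ∃ b : ℤ, (Q.obj P).IsLE b := by
  obtain ⟨⟨a, b, hv⟩, hfl⟩ := hP
  exact ⟨b, isLE_of_Lt'' _ b (Lt_Q_of_isZero_X P (b + 1) (fun i hi => hv i (Or.inr (by omega))))⟩

theorem isCohD_of_isStrictlyPerfect {T : Scheme.{u}} [IsLocallyNoetherian T]
    (P : CochainComplex T.Modules ℤ) (hP : DCoh.IsStrictlyPerfect P) :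
    DCoh.IsCohD (Q.obj P) := fun i =>
  isCoh_HD_of_isPC (Q.obj P) (fun m => isPC_of_isPerfect (isPerfect_Q_obj P hP) m) i

/-- **`M ⊗^L P^∨` has coherent cohomology** -/
theorem isCoh_HD_LTensorCx_dual {T : Scheme.{u}} [IsLocallyNoetherian T]
    (P : CochainComplex T.Modules ℤ) (hP : DCoh.IsStrictlyPerfect P)
    [DCoh.HasLTensorCx (dualCx T.sheaf P)] (M : DCoh.D T) (hM : DCoh.IsCohD M) (j : ℤ) :
    Coh.IsCoh (DCoh.HD ((DCoh.LTensorCx (dualCx T.sheaf P)).obj M) j) := by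
  have hKP : DCoh.IsKFlat P := isKFlat_of_isStrictlyPerfect P hP
  haveI : DCoh.HasLTensorCx P := Groth.Agent.Lib.PjCxH3.hasLTensorCx_of_isKFlat P hKP
  obtain ⟨adjP⟩ := nonempty_adj P hP
  obtain ⟨b, hb⟩ := exists_isLE_of_isStrictlyPerfect P hP
  have hD := isStrictlyPerfect_dualCx P hP
  obtain ⟨b', hb'⟩ := exists_isLE_of_isStrictlyPerfect _ hD
  set N : ℤ := j + b + 1 with hN
  haveI hiso := isIso_homology_rightAdjoint_truncLEι adjP b
    (fun Z q hZ => isLE_LTensorCx P b hb Z q hZ) M N j (by omega)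
  -- the truncation is in `D^-_Coh`
  have hτ : DCoh.IsCohD ((TStructure.t.truncLE N).obj M) := by
    intro i
    by_cases hi : i ≤ N
    · haveI := isIso_homology_truncLEι M N i hi
      exact Groth.Agent.Lib.RelPCPropH3.isCoh_of_iso
        (asIso ((homologyFunctor _ i).map ((TStructure.t.truncLEι N).app M))) (hM i)
    · haveI : ((TStructure.t.truncLE N).obj M).IsLE N := TStructure.t.isLE_truncLE_obj M N N
      exact Groth.Agent.Lib.LocTorCohH3.isCoh_of_isZero'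
        (DerivedCategory.isZero_of_isLE _ N i (by omega))
  have hτb : ∃ a : ℤ, ∀ i, a < i → IsZero (DCoh.HD ((TStructure.t.truncLE N).obj M) i) := by
    haveI : ((TStructure.t.truncLE N).obj M).IsLE N := TStructure.t.isLE_truncLE_obj M N N
    exact ⟨N, fun i hi => DerivedCategory.isZero_of_isLE _ N i hi⟩
  have hDb : ∃ b : ℤ, ∀ i, b < i → IsZero (DCoh.HD (DCoh.toD T (dualCx T.sheaf P)) i) := by
    haveI := hb'
    exact ⟨b', fun i hi => DerivedCategory.isZero_of_isLE _ b' i hi⟩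
  have h1 := (main6498 T (dualCx T.sheaf P) ((TStructure.t.truncLE N).obj M) hτ hτb
    (isCohD_of_isStrictlyPerfect _ hD) hDb).1 j
  exact Groth.Agent.Lib.RelPCPropH3.isCoh_of_iso
    (asIso ((homologyFunctor _ j).map ((DCoh.LTensorCx (dualCx T.sheaf P)).map
      ((TStructure.t.truncLEι N).app M)))).symm h1

/-- **the local comparison** -/
theorem exists_local_HD_iso (K : CochainComplex X.Modules ℤ) [DCoh.HasLTensorCx K]
    [DCoh.HasRSheafHom K] (m : ℤ) (hK : DCoh.IsPseudoCoherentD m (Q.obj K))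
    (L : DCoh.D X) (r : ℤ) (hL : L.IsGE r) (j : ℤ) (hj : j < r - m) (x : X) :
    ∃ (V : X.Opens) (_ : x ∈ V) (P : CochainComplex (V : Scheme.{u}).Modules ℤ)
      (_ : DCoh.IsStrictlyPerfect P) (_ : DCoh.HasLTensorCx (dualCx (V : Scheme.{u}).sheaf P)),
      Nonempty ((Scheme.Modules.restrictFunctor V.ι).obj (DCoh.HD ((DCoh.RSheafHom K).obj L) j) ≅
        DCoh.HD ((DCoh.LTensorCx (dualCx (V : Scheme.{u}).sheaf P)).obj ((DD V.ι).obj L)) j) := by
  obtain ⟨K', π, hK', hπ⟩ := Groth.Agent.Lib.DTorCmp.exists_kflat_resolution' K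
  haveI := hπ
  haveI : IsIso (Q.map π) := by rw [DerivedCategory.isIso_Q_map_iff_quasiIso]; infer_instance
  haveI : DCoh.HasLTensorCx K' := Groth.Agent.Lib.PjCxH3.hasLTensorCx_of_isKFlat K' hK'
  haveI : DCoh.HasRSheafHom K' := hasRSheafHom_of_Q_iso K K' (asIso (Q.map π)).symm
  obtain ⟨ρ⟩ := nonempty_RSheafHom_iso_of_Q_iso K K' (asIso (Q.map π)).symm
  have hKpc : DCoh.IsPseudoCoherentD m (Q.obj K') := isPC_of_iso (asIso (Q.map π)).symm hK
  obtain ⟨V, hxV, P, α, hP, hα⟩ := (isPC_iff m (Q.obj K')).1 hKpc x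
  have hKD : DCoh.IsKFlat (dualCx (V : Scheme.{u}).sheaf P) :=
    isKFlat_of_isStrictlyPerfect _ (isStrictlyPerfect_dualCx P hP)
  haveI hLD : DCoh.HasLTensorCx (dualCx (V : Scheme.{u}).sheaf P) :=
    Groth.Agent.Lib.PjCxH3.hasLTensorCx_of_isKFlat _ hKD
  obtain ⟨e1⟩ := nonempty_HD_RSheafHom_iso K' hK' V P hP α m hα L r hL j hj
  obtain ⟨e2⟩ := nonempty_HD_restrict_iso V.ι ((DCoh.RSheafHom K).obj L) j
  exact ⟨V, hxV, P, hP, hLD, ⟨e2.symm ≪≫
    (homologyFunctor _ j).mapIso ((DD V.ι).mapIso (ρ.app L)) ≪≫ e1⟩⟩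

/-- **S11112**, general form -/
theorem isQCoh_HD_RSheafHom (K : CochainComplex X.Modules ℤ) [DCoh.HasLTensorCx K]
    [DCoh.HasRSheafHom K] (m : ℤ) (hK : DCoh.IsPseudoCoherentD m (Q.obj K))
    (L : DCoh.D X) (hLq : DCoh.IsQCohD L) (r : ℤ) (hL : L.IsGE r) (j : ℤ) (hj : j < r - m) :
    Coh.IsQCoh (DCoh.HD ((DCoh.RSheafHom K).obj L) j) := by
  have key : ∀ x : X, ∃ V : X.Opens, x ∈ V ∧ ((Scheme.Modules.restrictFunctor V.ι).obj
      (DCoh.HD ((DCoh.RSheafHom K).obj L) j)).IsQuasicoherent := by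
    intro x
    obtain ⟨V, hxV, P, hP, hLD, ⟨e⟩⟩ := exists_local_HD_iso K m hK L r hL j hj x
    haveI := hLD
    have h1 : DCoh.IsQCohD ((DCoh.restrictD V.ι).obj L) :=
      Groth.Agent.Lib.LpullQCL.isQCohD_restrictD V.ι L hLq
    have h2 : DCoh.IsQCohD (DCoh.toD _ (dualCx (V : Scheme.{u}).sheaf P)) :=
      isQCohD_of_isStrictlyPerfect _ (isStrictlyPerfect_dualCx P hP)
    have h3 := Groth.Agent.Lib.LTensQCL.main1062 (V : Scheme.{u}) (dualCx (V : Scheme.{u}).sheaf P)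
      h2 ((DCoh.restrictD V.ι).obj L) h1
    exact ⟨V, hxV,
      (SheafOfModules.isQuasicoherent (V : Scheme.{u}).ringCatSheaf).prop_of_iso e.symm (h3 j)⟩
  refine Groth.Agent.Lib.BModH6.isQuasicoherent_of_restrict_ι _
    (ι := {V : X.Opens // ((Scheme.Modules.restrictFunctor V.ι).obj
      (DCoh.HD ((DCoh.RSheafHom K).obj L) j)).IsQuasicoherent})
    (fun V => V.1) ?_ (fun V => V.2)
  rw [eq_top_iff]
  intro y _
  obtain ⟨V, hyV, hV⟩ := key y
  exact Opens.mem_iSup.2 ⟨⟨V, hV⟩, hyV⟩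

/-- **S1115** -/
theorem main1115 (K : CochainComplex X.Modules ℤ)
    (hK : ∀ m : ℤ, DCoh.IsPseudoCoherentD m (DCoh.toD X K)) [DCoh.HasLTensorCx K]
    [DCoh.HasRSheafHom K] (L : DCoh.D X) (hL : DCoh.IsQCohD L) (a : ℤ) [L.IsGE a] :
    DCoh.IsQCohD ((DCoh.RSheafHom K).obj L) := fun j =>
  isQCoh_HD_RSheafHom K (a - j - 1) (hK _) L hL a inferInstance j (by omega)

/-- coherent variant -/
theorem isCoh_HD_RSheafHom [IsLocallyNoetherian X] (K : CochainComplex X.Modules ℤ)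
    [DCoh.HasLTensorCx K] [DCoh.HasRSheafHom K] (m : ℤ)
    (hK : DCoh.IsPseudoCoherentD m (Q.obj K))
    (L : DCoh.D X) (hLc : DCoh.IsCohD L) (r : ℤ) (hL : L.IsGE r) (j : ℤ) (hj : j < r - m) :
    Coh.IsCoh (DCoh.HD ((DCoh.RSheafHom K).obj L) j) := by
  apply Groth.Agent.Lib.RelPCPropH3.isCoh_of_forall_point
  intro x
  obtain ⟨V, hxV, P, hP, hLD, ⟨e⟩⟩ := exists_local_HD_iso K m hK L r hL j hj x
  haveI := hLD
  haveI : IsLocallyNoetherian (V : Scheme.{u}) := inferInstance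
  have h1 : DCoh.IsCohD ((DD V.ι).obj L) := by
    intro i
    obtain ⟨e'⟩ := nonempty_HD_restrict_iso V.ι L i
    exact Groth.Agent.Lib.RelPCPropH3.isCoh_of_iso e'
      (Groth.Agent.Lib.RelPCPropH3.isCoh_restrict V.ι _ (hLc i))
  exact ⟨V, hxV, Groth.Agent.Lib.RelPCPropH3.isCoh_of_iso e
    (isCoh_HD_LTensorCx_dual P hP ((DD V.ι).obj L) h1 j)⟩

/-- **S1116** -/
theorem main1116 [IsLocallyNoetherian X] (K : CochainComplex X.Modules ℤ) (b : ℤ)
    [(DCoh.toD X K).IsLE b] (hK : DCoh.IsCohD (DCoh.toD X K)) [DCoh.HasLTensorCx K]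
    [DCoh.HasRSheafHom K] (L : DCoh.D X) (a : ℤ) [L.IsGE a] (hL : DCoh.IsCohD L) :
    DCoh.IsCohD ((DCoh.RSheafHom K).obj L) ∧ ∃ a' : ℤ, ((DCoh.RSheafHom K).obj L).IsGE a' := by
  refine ⟨fun j => ?_, ⟨a - b, isGE_RSheafHom K b inferInstance L a inferInstance⟩⟩
  exact isCoh_HD_RSheafHom K (a - j - 1)
    (isPC_of_coh (Q.obj K) b (a - j - 1) inferInstance (fun i _ => hK i)) L hL a inferInstance j
    (by omega)

end

end Groth.Agent.Lib.RHomPCH3
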