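import Mathlib
import Groth.Prelude
import Groth.Agent.Lib.BrownTr1_helper3
import Groth.Agent.Lib.TensCoprod1_helper3
import Groth.Agent.Lib.DualSch2_helper3

/-!
# Existence of the internal `RHom(E, -)` on `D(O_X)` (helper3)

`- ⊗^L E : D(O_X) ⥤ D(O_X)` has a right adjoint for every complex `E` of `O_X`-modules, by Brown
representability for the derived category of the Grothendieck abelian category of `O_X`-modules.
-/

set_option autoImplicit false
set_option linter.all false
set_option maxHeartbeats 1600000
set_option backward.isDefEq.respectTransparency false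
set_option backward.isDefEq.respectTransparency.types false
set_option backward.defeqAttrib.useBackward true

universe u
open CategoryTheory CategoryTheory.Limits AlgebraicGeometry Opposite TopologicalSpace

attribute [local instance] HasDerivedCategory.standard

namespace Groth.Agent.Lib.RSheafHomExH3

open Groth.Agent.Lib Groth.Agent.Lib.BrownTrH3

variable {X : Scheme.{u}}

/-- `- ⊗^L E` preserves direct sums -/
theorem preservesCoprod_LTensorCx (E : CochainComplex X.Modules ℤ) [DCoh.HasLTensorCx E]
    (ι : Type u) : PreservesColimitsOfShape (Discrete ι) (DCoh.LTensorCx E) := by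
  obtain ⟨R, π, hR, hπ⟩ := Groth.Agent.Lib.DTorCmp.exists_kflat_resolution' E
  haveI := hπ
  obtain ⟨e⟩ := PjShriekH3.nonempty_ltNatIso E R π hR
  haveI : PreservesColimitsOfShape (Discrete ι) ((DCoh.tensorCx (X := X)).flip.obj R) :=
    TensCoprodH3.preservesColimitsOfShape_map₂_flip_obj (DCoh.tensorBi (X := X)) (Discrete ι) R
  constructor
  intro K
  haveI := TensCoprodH3.preservesColimit_of_chain (DCoh.LTensorCx E) _ e (K.obj ∘ Discrete.mk)
  exact preservesColimit_of_iso_diagram _ (Discrete.natIsoFunctor (F := K)).symm

/-- **the internal `RHom(E, -)` exists** -/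
theorem hasRSheafHom (E : CochainComplex X.Modules ℤ) [DCoh.HasLTensorCx E] :
    DCoh.HasRSheafHom E := by
  haveI := MVPushL.grothendieck_modules X
  obtain ⟨R, π, hR, hπ⟩ := Groth.Agent.Lib.DTorCmp.exists_kflat_resolution' E
  haveI := hπ
  obtain ⟨γ⟩ := PjShriekH3.nonempty_ltNatIso E R π hR
  let T := BifCone.action₁ (DCoh.tensorBi (X := X)) R
  haveI : (DCoh.LTensorCx E).Additive :=
    additive_of_chain (DerivedCategory.Q (C := X.Modules)) _ T (DCoh.LTensorCx E) γ
  have hW : WeakTri (DCoh.LTensorCx E) :=
    weakTri_of_chain (DerivedCategory.Q (C := X.Modules)) (DerivedCategory.Q (C := X.Modules))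
      _ T (DCoh.LTensorCx E) γ (isModel_Q X.Modules) (isModel_Q X.Modules)
  exact isLeftAdjoint_of_weakTri (DCoh.LTensorCx E) hW (fun ι => preservesCoprod_LTensorCx E ι)

end Groth.Agent.Lib.RSheafHomExH3
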