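import Mathlib
import Groth.Prelude
import Groth.Agent.Lib.ClImmDual2_helper3
import Groth.Agent.Lib.RHomPC3_helper3
import Groth.Agent.Lib.RSheafHomEx1_helper3
import Groth.Agent.Lib.ClFull_helper4
import Groth.Agent.Lib.PB7_helper8
import Groth.Agent.Lib.PerfFlat4_lead
import Groth.Agent.Lib.FinDual1_helper3

/-!
# `i^× ≅ R Hom(O_Z, -)` on `D^+_QCoh` for a closed immersion with `i_* O_Z` pseudo-coherent
(helper3; S3634, S7876)
-/

set_option autoImplicit false
set_option linter.all false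
set_option maxHeartbeats 1600000
set_option backward.isDefEq.respectTransparency false
set_option backward.isDefEq.respectTransparency.types false
set_option backward.defeqAttrib.useBackward true

universe u
open CategoryTheory CategoryTheory.Limits AlgebraicGeometry Opposite Pretriangulated

attribute [local instance] HasDerivedCategory.standard

namespace Groth.Agent.Lib.ClImmDualH3

open DerivedCategory Groth.Agent.Lib.ProjFormulaH3

noncomputable section

variable {Z X : Scheme.{u}} (i : Z ⟶ X) [IsClosedImmersion i]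

/-- `i_*` reflects quasi-coherence, for a closed immersion `i` -/
theorem isQCoh_of_isQCoh_push (M : Z.Modules)
    (h : ((Scheme.Modules.pushforward i).obj M).IsQuasicoherent) : M.IsQuasicoherent := by
  haveI := h
  have h1 : ((Scheme.Modules.pullback i).obj ((Scheme.Modules.pushforward i).obj M)).IsQuasicoherent :=
    PBH8.isQuasicoherent_pullback i _
  haveI := Groth.Agent.Lib.ClFullH4.isIso_counit i M
  exact Groth.Agent.Lib.DCohLocLead.isQCoh_of_iso
    (asIso ((Scheme.Modules.pullbackPushforwardAdjunction i).counit.app M)) h1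

variable [Dual3.HasHomO i]

/-- `i^× K` has quasi-coherent cohomology for `K ∈ D^+_QCoh(X)` when `i_* O_Z` is pseudo-coherent -/
theorem isQCohD_ix
    (hpc : ∀ m : ℤ, DCoh.IsPseudoCoherentD m
      (DCoh.inD X ((Coh.push i).obj (Coh.structureModule Z))))
    (K : DCoh.D X) (hK : DCoh.IsQCohD K) (a : ℤ) [K.IsGE a] :
    DCoh.IsQCohD ((ix i).obj K) := by
  haveI : DCoh.HasLTensorCx (Groth.Agent.Lib.FMDiagH3.pushOCx i) :=
    Groth.Agent.Lib.LTensExH3.hasLTensorCx _
  haveI : DCoh.HasRSheafHom (Groth.Agent.Lib.FMDiagH3.pushOCx i) :=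
    Groth.Agent.Lib.RSheafHomExH3.hasRSheafHom _
  have hE : Nonempty (DCoh.toD X (Groth.Agent.Lib.FMDiagH3.pushOCx i) ≅
      DCoh.inD X ((Scheme.Modules.pushforward i).obj (Coh.structureModule Z))) :=
    ⟨((singleFunctorIsoCompQ X.Modules 0).app _).symm⟩
  obtain ⟨θ⟩ := nonempty_RSheafHom_iso i (Groth.Agent.Lib.FMDiagH3.pushOCx i) hE
  have hpc' : ∀ m : ℤ, DCoh.IsPseudoCoherentD m
      (DCoh.toD X (Groth.Agent.Lib.FMDiagH3.pushOCx i)) := fun m =>
    Groth.Agent.Lib.DCohLocLead.isPC_of_iso ((singleFunctorIsoCompQ X.Modules 0).app _) (hpc m)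
  have h1 := Groth.Agent.Lib.RHomPCH3.main1115 (Groth.Agent.Lib.FMDiagH3.pushOCx i) hpc' K hK a
  intro n
  obtain ⟨e⟩ := Groth.Agent.Lib.WayOutH4.nonempty_homologyIso (Scheme.Modules.pushforward i)
    ((ix i).obj K) n
  have h2 : ((Scheme.Modules.pushforward i).obj (DCoh.HD ((ix i).obj K) n)).IsQuasicoherent :=
    Groth.Agent.Lib.DCohLocLead.isQCoh_of_iso
      ((homologyFunctor X.Modules n).mapIso (θ.app K) ≪≫ e) (h1 n)
  exact isQCoh_of_isQCoh_push i _ h2

/-- **S3634 / S7876** -/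
theorem main7876 [EnoughInjectives X.Modules]
    (hpc : ∀ m : ℤ, DCoh.IsPseudoCoherentD m
      (DCoh.inD X ((Coh.push i).obj (Coh.structureModule Z))))
    [DCoh.HasRpush i] (hf : DCoh.RpushPreservesQCoh i)
    (a : DCoh.DQCoh X ⥤ DCoh.DQCoh Z) (adj : DCoh.RpushQ i hf ⊣ a) :
    Nonempty (Dual3.bddι X ⋙ a ⋙ ObjectProperty.ι _ ≅
      Dual3.bddToPlus X ⋙ Dual3.RHomOPlus i ⋙
        (DerivedCategory.Plus.ι : DerivedCategory.Plus Z.Modules ⥤ DCoh.D Z)) := by
  haveI := Groth.Agent.Lib.MVPushL.grothendieck_modules Z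
  haveI : EnoughInjectives Z.Modules := inferInstance
  let ρ : DCoh.Rpush i ≅ Dual3.pushD i := RpushIsoMapD i
  let adjR : DCoh.Rpush i ⊣ ix i := (adjD i).ofNatIsoLeft ρ.symm
  let G₁ : (Dual3.IsBddBelowQ X).FullSubcategory ⥤ DCoh.DQCoh Z := Dual3.bddι X ⋙ a
  let G₂ : (Dual3.IsBddBelowQ X).FullSubcategory ⥤ DCoh.DQCoh Z :=
    ObjectProperty.lift _ (Dual3.bddι X ⋙ ObjectProperty.ι _ ⋙ ix i)
      (fun K => by
        obtain ⟨n, hn⟩ := K.property
        haveI := hn
        exact isQCohD_ix i hpc K.obj.obj K.obj.property n)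
  let α : ∀ (T : DCoh.DQCoh Z) (K : (Dual3.IsBddBelowQ X).FullSubcategory),
      (T ⟶ G₁.obj K) ≃ ((DCoh.RpushQ i hf).obj T ⟶ (Dual3.bddι X).obj K) := fun T K =>
    (adj.homEquiv T ((Dual3.bddι X).obj K)).symm
  let β : ∀ (T : DCoh.DQCoh Z) (K : (Dual3.IsBddBelowQ X).FullSubcategory),
      (T ⟶ G₂.obj K) ≃ ((DCoh.RpushQ i hf).obj T ⟶ (Dual3.bddι X).obj K) := fun T K =>
    { toFun := fun k => ObjectProperty.homMk ((adjR.homEquiv T.obj K.obj.obj).symm k.hom)
      invFun := fun m => ObjectProperty.homMk (adjR.homEquiv T.obj K.obj.obj m.hom)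
      left_inv := fun k => by
        apply ObjectProperty.hom_ext
        exact (adjR.homEquiv T.obj K.obj.obj).apply_symm_apply k.hom
      right_inv := fun m => by
        apply ObjectProperty.hom_ext
        exact (adjR.homEquiv T.obj K.obj.obj).symm_apply_apply m.hom }
  obtain ⟨e⟩ := Groth.Agent.Lib.FinDualH3.nonempty_natIso_of_relative_adjoint
    (DCoh.RpushQ i hf) (DCoh.RpushQ i hf) (Iso.refl _)
    (Dual3.bddι X) G₁ G₂ α
    (fun T T' K g k => adj.homEquiv_naturality_left_symm g k)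
    (fun T K K' m k => adj.homEquiv_naturality_right_symm k ((Dual3.bddι X).map m))
    β
    (fun T T' K g k => by
      apply ObjectProperty.hom_ext
      exact adjR.homEquiv_naturality_left_symm g.hom k.hom)
    (fun T K K' m k => by
      apply ObjectProperty.hom_ext
      exact adjR.homEquiv_naturality_right_symm k.hom m.hom.hom)
  refine ⟨(Functor.associator _ _ _).symm ≪≫ Functor.isoWhiskerRight e (ObjectProperty.ι _) ≪≫ ?_⟩
  exact Functor.isoWhiskerLeft (Dual3.bddToPlus X) (RHomOPlusIso i).symm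

end

end Groth.Agent.Lib.ClImmDualH3
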