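import Mathlib
import Groth.Prelude.Def_AlgSpOX3
import Groth.Agent.Lib.AlgSpPoints_helper7
import Groth.Agent.Lib.AlgSpPullback_helper7
import Groth.Agent.Lib.AlgSpQC_helper7

/-!
# Étale neighbourhoods of a geometric point of an algebraic space (helper7)

The category of étale neighbourhoods is cofiltered and initially small, and the lifting functor is
a point of the small étale site.
-/

set_option autoImplicit false
set_option backward.isDefEq.respectTransparency false
universe u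
open CategoryTheory CategoryTheory.Limits AlgebraicGeometry Opposite
open AlgSp Groth.Agent.Lib.AlgSpPoints_helper7 Groth.Agent.Lib.AlgSpPullback_helper7
  Groth.Agent.Lib.AlgSpQC_helper7

namespace Groth.Agent.Lib.EtNbhd_helper7

variable {S : Scheme.{u}} {X : Sp S}

/-- Lifting a lift of a separably closed point along a morphism of the small étale site, through a
prescribed point of the fibre. -/
theorem exists_lift_of_map {p : FieldPt X} [IsSepClosed p.K] {E E' : EtOver X} (g : E' ⟶ E)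
    (ū : (FieldPt.liftsTo p).obj E) (y : ↥E'.obj.left.left)
    (hy : g.hom.left.left y = ū.1.left (default : ↥(Spec (CommRingCat.of p.K)))) :
    ∃ ū' : (FieldPt.liftsTo p).obj E', (FieldPt.liftsTo p).map g ū' = ū ∧
      ū'.1.left (default : ↥(Spec (CommRingCat.of p.K))) = y := by
  haveI : Etale g.hom.left.left := EtOver.etale_left g
  obtain ⟨l, hl1, hl2⟩ := Scheme.exists_fac_of_etale_of_isSepClosed (Ω := p.K) g.hom.left.left
    ū.1.left y hy
  have hl : l ≫ E'.obj.left.hom = p.pt.hom := by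
    rw [← Over.w g.hom.left, ← Category.assoc, hl1]; exact Over.w ū.1
  have hcomp : (Over.homMk l hl : p.pt ⟶ E'.obj.left) ≫ g.hom.left = ū.1 := by
    ext; exact hl1
  refine ⟨⟨Over.homMk l hl, ?_⟩, ?_, hl2⟩
  · rw [← EtOver.w g, ← Category.assoc, ← Functor.map_comp, hcomp]; exact ū.2
  · exact Subtype.ext hcomp

/-- A separably closed point lifts to an object of the small étale site through every point of
that object lying over it. -/
theorem exists_lift_of_ofPt_eq (p : FieldPt X) [IsSepClosed p.K] (E : EtOver X)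
    (t : ↥E.obj.left.left) (ht : Points.ofPt E.obj.hom t = Points.mk p) :
    ∃ ū : (FieldPt.liftsTo p).obj E,
      ū.1.left (default : ↥(Spec (CommRingCat.of p.K))) = t := by
  have hE := E.property
  let Q := hE.rep.pullback p.toHom
  let snd : Q ⟶ p.pt := hE.rep.snd p.toHom
  let fst' : Q ⟶ E.obj.left := hE.rep.fst' p.toHom
  have sq : IsPullback ((yon S).map fst') ((yon S).map snd) E.obj.hom p.toHom :=
    hE.rep.isPullback' _
  haveI hsnd : Etale snd.left := hE.property_snd p.toHom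
  have h0 : Points.ofPt E.obj.hom t =
      Points.ofPt p.toHom (default : ↥(Spec (CommRingCat.of p.K))) := by
    rw [ht, Points.ofPt_toHom]
  obtain ⟨v, hv1, hv2⟩ := exists_ofPt_eq_of_isPullback sq t _ h0
  obtain ⟨l, hl1, hl2⟩ := Scheme.exists_fac_of_etale_of_isSepClosed (Ω := p.K) snd.left (𝟙 _) v
    (by rw [hv2]; rfl)
  have hl : l ≫ Q.hom = p.pt.hom := by
    rw [← Over.w snd, ← Category.assoc, hl1, Category.id_comp]
  have hl's : (Over.homMk l hl : p.pt ⟶ Q) ≫ snd = 𝟙 _ := by ext; exact hl1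
  refine ⟨⟨(Over.homMk l hl : p.pt ⟶ Q) ≫ fst', ?_⟩, ?_⟩
  · rw [Functor.map_comp, Category.assoc, sq.w, ← Category.assoc, ← Functor.map_comp, hl's,
      CategoryTheory.Functor.map_id, Category.id_comp]
  · show (l ≫ fst'.left) _ = t
    rw [Scheme.Hom.comp_apply, hl2, hv1]

theorem nonempty_etNbhd (hX : IsAlgSpace X) (p : FieldPt X) [IsSepClosed p.K] :
    Nonempty (EtNbhd p) := by
  obtain ⟨T, a, hae, has⟩ := hX.atlas
  obtain ⟨t, ht⟩ := ofPt_surjective a has (Points.mk p)
  obtain ⟨ū, -⟩ := exists_lift_of_ofPt_eq p (EtOver.mk a hae) t ht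
  exact ⟨⟨EtOver.mk a hae, ū⟩⟩

theorem exists_cone_objs (p : FieldPt X) (N₁ N₂ : EtNbhd p) :
    ∃ (W : EtNbhd p) (_ : W ⟶ N₁) (_ : W ⟶ N₂), True := by
  obtain ⟨E₁, ū₁⟩ := N₁
  obtain ⟨E₂, ū₂⟩ := N₂
  have h₁ := E₁.property
  let Q := h₁.rep.pullback E₂.obj.hom
  let snd : Q ⟶ E₂.obj.left := h₁.rep.snd E₂.obj.hom
  let fst' : Q ⟶ E₁.obj.left := h₁.rep.fst' E₂.obj.hom
  have sq : IsPullback ((yon S).map fst') ((yon S).map snd) E₁.obj.hom E₂.obj.hom :=
    h₁.rep.isPullback' _
  have hf : RepWith @Etale ((yon S).map fst') := repWith_fst_of_isPullback _ sq E₂.property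
  let W : EtOver X := EtOver.mk ((yon S).map fst' ≫ E₁.obj.hom) (repWith_comp _ hf h₁)
  obtain ⟨w, hw⟩ := (yon S).map_surjective
    (sq.lift ((yon S).map ū₁.1) ((yon S).map ū₂.1) (ū₁.2.trans ū₂.2.symm))
  have hw1 : w ≫ fst' = ū₁.1 := (yon S).map_injective (by
    rw [Functor.map_comp, hw, sq.lift_fst])
  have hw2 : w ≫ snd = ū₂.1 := (yon S).map_injective (by
    rw [Functor.map_comp, hw, sq.lift_snd])
  have hwW : (yon S).map w ≫ W.obj.hom = p.toHom := by
    show (yon S).map w ≫ (yon S).map fst' ≫ E₁.obj.hom = _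
    rw [← Category.assoc, ← Functor.map_comp, hw1]; exact ū₁.2
  exact ⟨⟨W, ⟨w, hwW⟩⟩, ⟨EtOver.homMk fst' rfl, Subtype.ext hw1⟩,
    ⟨EtOver.homMk snd sq.w.symm, Subtype.ext hw2⟩, trivial⟩

theorem exists_cone_maps (p : FieldPt X) {N₁ N₂ : EtNbhd p} (f g : N₁ ⟶ N₂) :
    ∃ (W : EtNbhd p) (h : W ⟶ N₁), h ≫ f = h ≫ g := by
  obtain ⟨E₁, ū₁⟩ := N₁
  obtain ⟨E₂, ū₂⟩ := N₂
  obtain ⟨f, hf⟩ := f
  obtain ⟨g, hg⟩ := g
  have hf1 : ū₁.1 ≫ f.hom.left = ū₂.1 := congrArg Subtype.val hf
  have hg1 : ū₁.1 ≫ g.hom.left = ū₂.1 := congrArg Subtype.val hg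
  have h₂ := E₂.property
  let Q := h₂.rep.pullback E₂.obj.hom
  let pr₂ : Q ⟶ E₂.obj.left := h₂.rep.snd E₂.obj.hom
  let pr₁ : Q ⟶ E₂.obj.left := h₂.rep.fst' E₂.obj.hom
  have sq : IsPullback ((yon S).map pr₁) ((yon S).map pr₂) E₂.obj.hom E₂.obj.hom :=
    h₂.rep.isPullback' _
  haveI hpr₁ : Etale pr₁.left :=
    (repWith_yon_map_iff _ _).1 (repWith_fst_of_isPullback _ sq h₂)
  obtain ⟨δ, hδ⟩ := (yon S).map_surjective (sq.lift (𝟙 _) (𝟙 _) rfl)
  have hδ1 : δ ≫ pr₁ = 𝟙 _ := (yon S).map_injective (by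
    rw [Functor.map_comp, hδ, sq.lift_fst, CategoryTheory.Functor.map_id])
  have hδ2 : δ ≫ pr₂ = 𝟙 _ := (yon S).map_injective (by
    rw [Functor.map_comp, hδ, sq.lift_snd, CategoryTheory.Functor.map_id])
  obtain ⟨c, hc⟩ := (yon S).map_surjective
    (sq.lift ((yon S).map f.hom.left) ((yon S).map g.hom.left) (by rw [EtOver.w f, EtOver.w g]))
  have hc1 : c ≫ pr₁ = f.hom.left := (yon S).map_injective (by
    rw [Functor.map_comp, hc, sq.lift_fst])
  have hc2 : c ≫ pr₂ = g.hom.left := (yon S).map_injective (by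
    rw [Functor.map_comp, hc, sq.lift_snd])
  have k1 : δ.left ≫ pr₁.left = 𝟙 _ := by rw [← Over.comp_left, hδ1, Over.id_left]
  have k2 : δ.left ≫ pr₂.left = 𝟙 _ := by rw [← Over.comp_left, hδ2, Over.id_left]
  haveI hδe : Etale δ.left := by
    refine MorphismProperty.HasOfPostcompProperty.of_postcomp (W := @Etale) δ.left pr₁.left hpr₁ ?_
    rw [k1]
    infer_instance
  let e : pullback c.left δ.left ⟶ E₁.obj.left.left := pullback.fst c.left δ.left
  haveI he : Etale e := inferInstance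
  let WO : Over S := Over.mk (e ≫ E₁.obj.left.hom)
  let eO : WO ⟶ E₁.obj.left := Over.homMk e rfl
  have cond : e ≫ c.left = pullback.snd c.left δ.left ≫ δ.left := pullback.condition
  have e1 : e ≫ c.left ≫ pr₁.left = pullback.snd c.left δ.left := by
    rw [← Category.assoc, cond, Category.assoc, k1, Category.comp_id]
  have e2 : e ≫ c.left ≫ pr₂.left = pullback.snd c.left δ.left := by
    rw [← Category.assoc, cond, Category.assoc, k2, Category.comp_id]
  have heq : eO ≫ f.hom.left = eO ≫ g.hom.left := by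
    rw [← hc1, ← hc2]
    ext
    show e ≫ c.left ≫ pr₁.left = e ≫ c.left ≫ pr₂.left
    rw [e1, e2]
  have heO : RepWith @Etale ((yon S).map eO) := (repWith_yon_map_iff _ _).2 he
  let W : EtOver X := EtOver.mk ((yon S).map eO ≫ E₁.obj.hom) (repWith_comp _ heO E₁.property)
  have hcd : ū₁.1 ≫ c = ū₂.1 ≫ δ := by
    apply (yon S).map_injective
    apply sq.hom_ext
    · rw [← Functor.map_comp, ← Functor.map_comp, Category.assoc, Category.assoc, hc1, hδ1, hf1,
        Category.comp_id]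
    · rw [← Functor.map_comp, ← Functor.map_comp, Category.assoc, Category.assoc, hc2, hδ2, hg1,
        Category.comp_id]
  let wl : p.pt.left ⟶ pullback c.left δ.left := pullback.lift ū₁.1.left ū₂.1.left (by
    rw [← Over.comp_left, hcd, Over.comp_left])
  have hwl : wl ≫ e = ū₁.1.left := pullback.lift_fst _ _ _
  let w : p.pt ⟶ WO := Over.homMk wl (by
    show wl ≫ e ≫ E₁.obj.left.hom = p.pt.hom
    rw [← Category.assoc, hwl]; exact Over.w ū₁.1)
  have hw : w ≫ eO = ū₁.1 := by ext; exact hwl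
  have hwW : (yon S).map w ≫ W.obj.hom = p.toHom := by
    show (yon S).map w ≫ (yon S).map eO ≫ E₁.obj.hom = _
    rw [← Category.assoc, ← Functor.map_comp, hw]; exact ū₁.2
  refine ⟨⟨W, ⟨w, hwW⟩⟩, ⟨EtOver.homMk eO rfl, Subtype.ext hw⟩, ?_⟩
  apply Subtype.ext
  apply EtOver.hom_ext
  exact heq

theorem isCofiltered_etNbhd (hX : IsAlgSpace X) (p : FieldPt X) [IsSepClosed p.K] :
    IsCofiltered (EtNbhd p) :=
  { cone_objs := exists_cone_objs p
    cone_maps := fun _ _ f g => exists_cone_maps p f g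
    nonempty := nonempty_etNbhd hX p }

theorem jointly_surjective (hX : IsAlgSpace X) (p : FieldPt X) [IsSepClosed p.K] {E : EtOver X}
    (R : Sieve E) (hR : R ∈ etTop X E) (x : (FieldPt.liftsTo p).obj E) :
    ∃ (Y : EtOver X) (f : Y ⟶ E) (_ : R f) (y : (FieldPt.liftsTo p).obj Y),
      (FieldPt.liftsTo p).map f y = x := by
  haveI := isCofiltered_etNbhd hX p
  have hR' : (etPre X).Saturate E R := hR
  clear hR
  revert x
  induction hR' with
  | of E R hR =>
    intro x
    obtain ⟨α, T, f, rfl⟩ := R.exists_eq_ofArrows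
    obtain ⟨i, y, hy⟩ := (ofArrows_mem_etPre_iff T f).1 hR
      (x.1.left (default : ↥(Spec (CommRingCat.of p.K))))
    obtain ⟨y', hy', -⟩ := exists_lift_of_map (f i) x y hy
    exact ⟨T i, f i, Sieve.ofArrows_mk T f i, y', hy'⟩
  | top E =>
    intro x
    exact ⟨E, 𝟙 E, trivial, x, by simp⟩
  | pullback E R hR Y f ih =>
    intro x
    obtain ⟨Z, g, hg, z, hz⟩ := ih ((FieldPt.liftsTo p).map f x)
    let NY : EtNbhd p := ⟨Y, x⟩
    let NZ : EtNbhd p := ⟨Z, z⟩
    let NE : EtNbhd p := ⟨E, (FieldPt.liftsTo p).map f x⟩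
    let fN : NY ⟶ NE := ⟨f, rfl⟩
    let gN : NZ ⟶ NE := ⟨g, hz⟩
    obtain ⟨W, a, b, hab⟩ := IsCofiltered.cospan fN gN
    refine ⟨W.1, a.1, ?_, W.2, a.2⟩
    show R (a.1 ≫ f)
    have hab' : a.1 ≫ f = b.1 ≫ g := congrArg Subtype.val hab
    rw [hab']
    exact R.downward_closed hg _
  | transitive E R R' hR hR' ih ih' =>
    intro x
    obtain ⟨Y, f, hf, y, hy⟩ := ih x
    obtain ⟨Z, g, hg, z, hz⟩ := ih' hf y
    refine ⟨Z, g ≫ f, hg, z, ?_⟩
    rw [Functor.map_comp]
    show (FieldPt.liftsTo p).map f ((FieldPt.liftsTo p).map g z) = x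
    rw [hz, hy]

theorem initiallySmall_etNbhd (hX : IsAlgSpace X) (p : FieldPt X) [IsSepClosed p.K] :
    InitiallySmall.{u} (EtNbhd p) := by
  haveI := isCofiltered_etNbhd hX p
  obtain ⟨T, a, hae, has⟩ := hX.atlas
  obtain ⟨t, ht⟩ := ofPt_surjective a has (Points.mk p)
  obtain ⟨tb, -⟩ := exists_lift_of_ofPt_eq p (EtOver.mk a hae) t ht
  let F : T.left.AffineEtale ⥤ EtOver X := Scheme.AffineEtale.Spec T.left ⋙ EtOver.ofChart a hae
  refine initiallySmall_of_essentiallySmall_weakly_initial_objectProperty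
    (Functor.Elements.precomp F (FieldPt.liftsTo p)).essImage ?_
  rintro ⟨U, ū⟩
  let Q := hae.rep.pullback U.obj.hom
  let snd : Q ⟶ U.obj.left := hae.rep.snd U.obj.hom
  let fst' : Q ⟶ T := hae.rep.fst' U.obj.hom
  have sq : IsPullback ((yon S).map fst') ((yon S).map snd) a U.obj.hom := hae.rep.isPullback' _
  haveI hfst : Etale fst'.left :=
    (repWith_yon_map_iff _ _).1 (repWith_fst_of_isPullback _ sq U.property)
  obtain ⟨w, hw⟩ := (yon S).map_surjective
    (sq.lift ((yon S).map tb.1) ((yon S).map ū.1) (tb.2.trans ū.2.symm))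
  have hw1 : w ≫ fst' = tb.1 := (yon S).map_injective (by
    rw [Functor.map_comp, hw, sq.lift_fst])
  have hw2 : w ≫ snd = ū.1 := (yon S).map_injective (by
    rw [Functor.map_comp, hw, sq.lift_snd])
  obtain ⟨R, j, hjo, hjx, -⟩ := Scheme.exists_affine_mem_range_and_range_subset
    (x := w.left (default : ↥(Spec (CommRingCat.of p.K)))) (U := ⊤) (by simp)
  have hrange : Set.range w.left ⊆ Set.range j := by
    rintro _ ⟨(s : ↥(Spec (CommRingCat.of p.K))), rfl⟩
    rwa [Subsingleton.elim s (default : ↥(Spec (CommRingCat.of p.K)))]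
  let y' : p.pt.left ⟶ Spec R := IsOpenImmersion.lift j w.left hrange
  have hy' : y' ≫ j = w.left := IsOpenImmersion.lift_fac j w.left hrange
  let V : T.left.AffineEtale := Scheme.AffineEtale.mk (j ≫ fst'.left)
  have hVhom : (F.obj V).obj.left.hom = (j ≫ fst'.left) ≫ T.hom := rfl
  have hVstr : (F.obj V).obj.hom =
      (yon S).map (EtOver.homOfEtale ((Scheme.AffineEtale.Spec T.left).obj V)) ≫ a := rfl
  let jO : (F.obj V).obj.left ⟶ Q := Over.homMk j (by
    rw [hVhom, Category.assoc, Over.w])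
  have hjO1 : jO ≫ fst' = EtOver.homOfEtale ((Scheme.AffineEtale.Spec T.left).obj V) := by
    ext; rfl
  let u₀ : p.pt ⟶ (F.obj V).obj.left := Over.homMk y' (by
    rw [hVhom, ← Category.assoc, ← Category.assoc, hy', Category.assoc, Over.w fst']
    exact Over.w w)
  have hu₀ : u₀ ≫ jO = w := by ext; exact hy'
  have hu₀' : (yon S).map u₀ ≫ (F.obj V).obj.hom = p.toHom := by
    rw [hVstr, ← hjO1, ← Category.assoc, ← Functor.map_comp, ← Category.assoc, hu₀, hw1]
    exact tb.2
  refine ⟨(Functor.Elements.precomp F (FieldPt.liftsTo p)).obj ⟨V, ⟨u₀, hu₀'⟩⟩,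
    Functor.obj_mem_essImage _ _, ⟨⟨EtOver.homMk (jO ≫ snd) ?_, ?_⟩⟩⟩
  · show (yon S).map (jO ≫ snd) ≫ U.obj.hom = (F.obj V).obj.hom
    rw [hVstr, ← hjO1, Functor.map_comp, Functor.map_comp, Category.assoc, Category.assoc, sq.w]
  · apply Subtype.ext
    show u₀ ≫ jO ≫ snd = ū.1
    rw [← Category.assoc, hu₀, hw2]

/-- The point of the small étale site of an algebraic space defined by a separably closed
field-valued point. -/
noncomputable def point (hX : IsAlgSpace X) (p : FieldPt X) [IsSepClosed p.K] :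
    GrothendieckTopology.Point.{u} (etTop X) where
  fiber := FieldPt.liftsTo p
  isCofiltered := isCofiltered_etNbhd hX p
  initiallySmall := initiallySmall_etNbhd hX p
  jointly_surjective R hR x := jointly_surjective hX p R hR x

@[simp] theorem point_fiber (hX : IsAlgSpace X) (p : FieldPt X) [IsSepClosed p.K] :
    (point hX p).fiber = FieldPt.liftsTo p := rfl

end Groth.Agent.Lib.EtNbhd_helper7
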