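import Mathlib
import Groth.Agent.Lib.EtNbhd_helper7

/-!
# Stalks at geometric points of the small étale site of an algebraic space: exactness and
conservativity (helper7)
-/

set_option autoImplicit false
set_option backward.isDefEq.respectTransparency false
universe u
open CategoryTheory CategoryTheory.Limits AlgebraicGeometry Opposite
open AlgSp Groth.Agent.Lib.AlgSpPoints_helper7 Groth.Agent.Lib.EtNbhd_helper7

namespace Groth.Agent.Lib.EtStalkPt_helper7

instance ab5Type : AB5OfSize.{u, u} (Type (u+1)) := AB5OfSize_of_univLE.{u, u, u+1, u+1} _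
instance ab5Ab : AB5OfSize.{u, u} (AddCommGrpCat.{u+1}) := AB5OfSize_of_univLE.{u, u, u+1, u+1} _
instance pfcAb : PreservesFilteredColimitsOfSize.{u, u} (forget AddCommGrpCat.{u+1}) :=
  preservesFilteredColimitsOfSize_shrink.{u, u+1, u, u+1} _

variable {S : Scheme.{u}} {X : Sp S}

/-- Every point of an object of the small étale site is the image of a lift of a geometric
point. -/
theorem exists_geometric_lift (E : EtOver X) (x : ↥E.obj.left.left) :
    ∃ (p : FieldPt X) (_ : IsAlgClosed p.K) (ū : (FieldPt.liftsTo p).obj E),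
      ū.1.left (default : ↥(Spec (CommRingCat.of p.K))) = x := by
  let κ := E.obj.left.left.residueField x
  let K := AlgebraicClosure κ
  let ξ : Spec (CommRingCat.of K) ⟶ E.obj.left.left :=
    Spec.map (CommRingCat.ofHom (algebraMap κ K)) ≫ E.obj.left.left.fromSpecResidueField x
  let ξ' : Over.mk (ξ ≫ E.obj.left.hom) ⟶ E.obj.left := Over.homMk ξ rfl
  refine ⟨ofHom ((yon S).map ξ' ≫ E.obj.hom), (inferInstance : IsAlgClosed K),
    ⟨ξ', (toHom_ofHom _).symm⟩, ?_⟩
  show ξ _ = x
  rw [Scheme.Hom.comp_apply]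
  exact Scheme.fromSpecResidueField_apply _ _

theorem mem_range_of_map_eq {p : FieldPt X} {E' E : EtOver X} (g : E' ⟶ E)
    (y : (FieldPt.liftsTo p).obj E') (ū : (FieldPt.liftsTo p).obj E)
    (h : (FieldPt.liftsTo p).map g y = ū) :
    ū.1.left (default : ↥(Spec (CommRingCat.of p.K))) ∈ Set.range g.hom.left.left := by
  refine ⟨y.1.left (default : ↥(Spec (CommRingCat.of p.K))), ?_⟩
  rw [← h]
  rfl

/-- A sieve containing, around every point, a morphism of the site hitting it is covering. -/
theorem sieve_mem_of_forall_exists {E : EtOver X} (R : Sieve E)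
    (h : ∀ x : ↥E.obj.left.left, ∃ (E' : EtOver X) (f : E' ⟶ E),
      R f ∧ x ∈ Set.range f.hom.left.left) :
    R ∈ etTop X E := by
  choose E' f hf hx using h
  refine (etTop X).superset_covering ?_ (ofArrows_mem_etTop E' f (fun x => ⟨x, hx x⟩))
  rw [Sieve.ofArrows, Sieve.generate_le_iff, Presieve.ofArrows_le_iff]
  exact fun x => hf x

section Concrete

variable {A : Type*} [Category A] [HasColimitsOfSize.{u, u} A]
  {FC : A → A → Type*} {CC : A → Type*} [∀ (X Y : A), FunLike (FC X Y) (CC X) (CC Y)]
  [ConcreteCategory A FC] [PreservesFilteredColimitsOfSize.{u, u} (forget A)]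

theorem isLocallyInjective_of_stalks (hX : IsAlgSpace X) {P Q : (EtOver X)ᵒᵖ ⥤ A} (f : P ⟶ Q)
    (h : ∀ (p : FieldPt X) [IsAlgClosed p.K],
      Function.Injective ((point hX p).presheafFiber.map f)) :
    Presheaf.IsLocallyInjective (etTop X) f := by
  refine ⟨fun {U} x y hxy => ?_⟩
  apply sieve_mem_of_forall_exists
  intro pt
  obtain ⟨p, hp, ū, hū⟩ := exists_geometric_lift U.unop pt
  haveI := hp
  have h1 : (point hX p).toPresheafFiber U.unop ū P x = (point hX p).toPresheafFiber U.unop ū P y := by
    apply h p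
    rw [GrothendieckTopology.Point.toPresheafFiber_naturality_apply,
      GrothendieckTopology.Point.toPresheafFiber_naturality_apply]
    exact congrArg _ hxy
  obtain ⟨Y, g, y', hy', heq⟩ :=
    ((point hX p).toPresheafFiber_eq_iff' U.unop ū x y).1 h1
  refine ⟨Y, g, heq, ?_⟩
  rw [← hū]
  exact mem_range_of_map_eq g y' ū hy'

theorem isLocallySurjective_of_stalks (hX : IsAlgSpace X) {P Q : (EtOver X)ᵒᵖ ⥤ A} (f : P ⟶ Q)
    (h : ∀ (p : FieldPt X) [IsAlgClosed p.K],
      Function.Surjective ((point hX p).presheafFiber.map f)) :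
    Presheaf.IsLocallySurjective (etTop X) f := by
  refine ⟨fun {U} s => ?_⟩
  apply sieve_mem_of_forall_exists
  intro pt
  obtain ⟨p, hp, ū, hū⟩ := exists_geometric_lift U pt
  haveI := hp
  obtain ⟨σ, hσ⟩ := h p ((point hX p).toPresheafFiber U ū Q s)
  obtain ⟨V, v, z, rfl⟩ := (point hX p).toPresheafFiber_jointly_surjective σ
  rw [GrothendieckTopology.Point.toPresheafFiber_naturality_apply] at hσ
  obtain ⟨W, a, b, -⟩ := IsCofilteredOrEmpty.cone_objs (C := (point hX p).fiber.Elements)
    (⟨V, v⟩ : (point hX p).fiber.Elements) (⟨U, ū⟩ : (point hX p).fiber.Elements)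
  have ha : (point hX p).fiber.map a.1 W.2 = v := a.2
  have hb : (point hX p).fiber.map b.1 W.2 = ū := b.2
  have h2 : (point hX p).toPresheafFiber W.1 W.2 Q (Q.map a.1.op (f.app _ z)) =
      (point hX p).toPresheafFiber W.1 W.2 Q (Q.map b.1.op s) := by
    rw [GrothendieckTopology.Point.toPresheafFiber_w_apply,
      GrothendieckTopology.Point.toPresheafFiber_w_apply, ha, hb, hσ]
  obtain ⟨Y, g, y, hy, heq⟩ := ((point hX p).toPresheafFiber_eq_iff' W.1 W.2 _ _).1 h2
  refine ⟨Y, g ≫ b.1, ⟨P.map (g ≫ a.1).op z, ?_⟩, ?_⟩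
  · rw [NatTrans.naturality_apply, op_comp, Functor.map_comp, op_comp, Functor.map_comp,
      ConcreteCategory.comp_apply, ConcreteCategory.comp_apply]
    exact heq
  · rw [← hū]
    refine mem_range_of_map_eq (g ≫ b.1) y ū ?_
    rw [Functor.map_comp]
    show (FieldPt.liftsTo p).map b.1 ((FieldPt.liftsTo p).map g y) = ū
    rw [show (FieldPt.liftsTo p).map g y = W.2 from hy]
    exact hb

end Concrete

/-- An abelian sheaf on the small étale site all of whose stalks at geometric points vanish is
zero. -/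
theorem isZero_of_stalks (hX : IsAlgSpace X) (H : AbEt X)
    (h : ∀ (p : FieldPt X) [IsAlgClosed p.K],
      IsZero ((point hX p).sheafFiber.obj H)) : IsZero H := by
  haveI : Sheaf.IsLocallyInjective (0 : H ⟶ H) := by
    apply isLocallyInjective_of_stalks hX
    intro p _
    haveI : Subsingleton (ToType ((point hX p).presheafFiber.obj H.obj)) :=
      AddCommGrpCat.subsingleton_of_isZero (h p)
    exact Function.injective_of_subsingleton _
  haveI : Mono (0 : H ⟶ H) := Sheaf.mono_of_isLocallyInjective _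
  exact IsZero.of_mono_zero H H

end Groth.Agent.Lib.EtStalkPt_helper7
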