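import Mathlib
import Groth.Prelude.Def_AlgSpOX2
import Groth.Agent.Lib.EtNbhdB_helper8
import Groth.Agent.Lib.EtStalkPt_helper7

/-!
# Closed immersions of algebraic spaces and small étale sites (helper7)

For a closed immersion `f : Z ⟶ X` the base change functor `bc : EtOver X ⥤ EtOver Z` is cover
dense and locally full; hence `f_*` is fully faithful.
* `exists_etale_lift_closedImmersion`: scheme-level lifting of étale morphisms along closed
  immersions (from helper8's lemma);
* `exists_bc_lift`: the same on the small étale sites;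
* `isCoverDense_bc`, `isLocallyFull_bc`;
* `main9983_aux`.
-/

set_option autoImplicit false
set_option backward.isDefEq.respectTransparency false
set_option backward.isDefEq.respectTransparency.types false
set_option linter.style.haveILetI false
set_option linter.unusedSectionVars false
set_option linter.unusedVariables false
set_option maxHeartbeats 1600000

universe u
open CategoryTheory CategoryTheory.Limits AlgebraicGeometry Opposite
open AlgSp Groth.Agent.Lib.AlgSpPoints_helper7 Groth.Agent.Lib.EtStalkPt_helper7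

namespace Groth.Agent.Lib.ClImmEtH7

section Scheme

/-- lifting étale morphisms along a closed immersion, Zariski locally on the source -/
theorem exists_etale_lift_closedImmersion {F X V : Scheme.{u}} (ι : F ⟶ X) [IsClosedImmersion ι]
    (g : V ⟶ F) [Etale g] (v : V) :
    ∃ (U U' : Scheme.{u}) (p : U ⟶ X) (a : U' ⟶ U) (m : U' ⟶ V) (u' : U'),
      Etale p ∧ IsPullback a (m ≫ g) p ι ∧ IsOpenImmersion m ∧ m u' = v := by
  obtain ⟨X₀, hX₀, hx, -⟩ := exists_isAffineOpen_mem_and_subset (x := ι (g v)) (U := ⊤) trivial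
  have hF₀ : IsAffineOpen (ι ⁻¹ᵁ X₀) := hX₀.preimage ι
  have hsurj : Function.Surjective (ι.app X₀) := Scheme.Hom.app_surjective ι X₀ hX₀
  have hφ : Groth.Agent.Lib.EtNbhdH8.FracSurj (ι.app X₀).hom := by
    intro c
    obtain ⟨b, hb⟩ := hsurj c
    exact ⟨1, b, by rw [map_one]; exact isUnit_one, by rw [map_one, mul_one]; exact hb.symm⟩
  exact Groth.Agent.Lib.EtNbhdH8.exists_etale_lift ι hX₀ hF₀ hφ g v hx

end Scheme

variable {S : Scheme.{u}} {Z X : Sp S} {f : Z ⟶ X} (hf : RepWith @IsClosedImmersion f)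

/-- the projection from the base change is a closed immersion -/
theorem isClosedImmersion_bcπ (E : EtOver X) :
    IsClosedImmersion (EtOver.bcπ hf.1 E).left :=
  hf.2 E.obj.hom (hf.1.fst E.obj.hom) (hf.1.snd E.obj.hom) (hf.1.isPullback E.obj.hom)

/-- **Lifting on small étale sites.** An étale `V ⟶ E ×_X Z` is, Zariski locally on `V`, the
base change of an étale `W ⟶ E`. -/
theorem exists_bc_lift (E : EtOver X) (V : EtOver Z) (γ : V ⟶ (EtOver.bc hf.1).obj E)
    (v : ↥V.obj.left.left) :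
    ∃ (W : EtOver X) (q : W ⟶ E) (μ : (EtOver.bc hf.1).obj W ⟶ V),
      μ ≫ γ = (EtOver.bc hf.1).map q ∧ v ∈ Set.range μ.hom.left.left := by
  haveI hι : IsClosedImmersion (EtOver.bcπ hf.1 E).left := isClosedImmersion_bcπ hf E
  haveI hg : Etale γ.hom.left.left := EtOver.etale_left γ
  obtain ⟨U₀, U', p, a, m, u', hp, sq, hm, hmu⟩ :=
    exists_etale_lift_closedImmersion (EtOver.bcπ hf.1 E).left γ.hom.left.left v
  -- the object `W`
  let WO : Over S := Over.mk (p ≫ E.obj.left.hom)
  let pO : WO ⟶ E.obj.left := Over.homMk p rfl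
  have hb : RepWith @Etale ((yon S).map pO ≫ E.obj.hom) :=
    (repWith_isMultiplicative (S := S) @Etale).comp_mem _ _
      ((repWith_yon_map_iff _ _).2 (show Etale pO.left from hp)) E.property
  let W : EtOver X := EtOver.mk ((yon S).map pO ≫ E.obj.hom) hb
  let q : W ⟶ E := EtOver.homMk pO rfl
  -- the comparison of pullbacks
  have sqW : IsPullback (EtOver.bcMap hf.1 q).hom.left.left (hf.1.snd W.obj.hom).left
      (hf.1.snd E.obj.hom).left q.hom.left.left := EtOver.isPullback_bcMap_left hf.1 q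
  have sq' : IsPullback (m ≫ γ.hom.left.left) a (hf.1.snd E.obj.hom).left q.hom.left.left :=
    sq.flip
  obtain ⟨e, he⟩ : ∃ e : ((EtOver.bc hf.1).obj W).obj.left.left ≅ U', e = sqW.isoIsPullback _ _ sq' :=
    ⟨_, rfl⟩
  have he1 : e.hom ≫ (m ≫ γ.hom.left.left) = (EtOver.bcMap hf.1 q).hom.left.left := by
    rw [he]; exact IsPullback.isoIsPullback_hom_fst _ _ sqW sq'
  -- the morphism `μ`
  have hμw : (e.hom ≫ m) ≫ V.obj.left.hom = ((EtOver.bc hf.1).obj W).obj.left.hom := by
    have h1 : V.obj.left.hom =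
        γ.hom.left.left ≫ ((EtOver.bc hf.1).obj E).obj.left.hom := (Over.w γ.hom.left).symm
    rw [h1]
    have h2 : (e.hom ≫ m) ≫ γ.hom.left.left ≫ ((EtOver.bc hf.1).obj E).obj.left.hom =
        (e.hom ≫ (m ≫ γ.hom.left.left)) ≫ ((EtOver.bc hf.1).obj E).obj.left.hom := by
      simp only [Category.assoc]
    rw [h2, he1]
    exact Over.w (EtOver.bcMap hf.1 q).hom.left
  let μO : ((EtOver.bc hf.1).obj W).obj.left ⟶ V.obj.left := Over.homMk (e.hom ≫ m) hμw
  have hμγ : μO ≫ γ.hom.left = (EtOver.bcMap hf.1 q).hom.left := by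
    ext
    show (e.hom ≫ m) ≫ γ.hom.left.left = _
    rw [Category.assoc]
    exact he1
  have hμhom : (yon S).map μO ≫ V.obj.hom = ((EtOver.bc hf.1).obj W).obj.hom := by
    rw [← EtOver.w γ, ← Category.assoc, ← Functor.map_comp, hμγ]
    exact EtOver.w (EtOver.bcMap hf.1 q)
  refine ⟨W, q, EtOver.homMk μO hμhom, ?_, ?_⟩
  · exact EtOver.hom_ext _ _ hμγ
  · refine ⟨e.inv u', ?_⟩
    show (e.hom ≫ m) (e.inv u') = v
    rw [Scheme.Hom.comp_apply, ← Scheme.Hom.comp_apply e.inv e.hom, e.inv_hom_id]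
    exact hmu

/-- base change of a surjective chart is surjective -/
theorem surjective_bc_atlas {T : Over S} (a : (yon S).obj T ⟶ X) (hae : RepWith @Etale a)
    (has : RepWith @Surjective a) :
    RepWith @Surjective ((EtOver.bc hf.1).obj (EtOver.mk a hae)).obj.hom :=
  MorphismProperty.of_isPullback (hf.1.isPullback a).flip has

include hf in
/-- the base change functor along a closed immersion is cover dense -/
theorem isCoverDense_bc (hX : IsAlgSpace X) : (EtOver.bc hf.1).IsCoverDense (etTop Z) := by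
  constructor
  intro V
  apply sieve_mem_of_forall_exists
  intro v
  obtain ⟨T, a, hae, has⟩ := hX.atlas
  let ET : EtOver X := EtOver.mk a hae
  have hs : RepWith @Surjective ((EtOver.bc hf.1).obj ET).obj.hom := surjective_bc_atlas hf a hae has
  -- a point of the product over `v`
  have hsurj : Surjective (((EtOver.bc hf.1).obj ET).property.1.snd V.obj.hom).left :=
    hs.2 V.obj.hom _ _ (((EtOver.bc hf.1).obj ET).property.1.isPullback V.obj.hom)
  obtain ⟨v₁, hv₁⟩ := hsurj.surj v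
  obtain ⟨W, q, μ, hμ, w, hw⟩ := exists_bc_lift hf ET (EtOver.prodObj V ((EtOver.bc hf.1).obj ET))
    (EtOver.prodSnd V ((EtOver.bc hf.1).obj ET)) v₁
  refine ⟨(EtOver.bc hf.1).obj W, μ ≫ EtOver.prodFst V ((EtOver.bc hf.1).obj ET),
    Presieve.in_coverByImage _ _, w, ?_⟩
  show (μ.hom.left.left ≫ (EtOver.prodFst V ((EtOver.bc hf.1).obj ET)).hom.left.left) w = v
  rw [Scheme.Hom.comp_apply, hw]
  exact hv₁

/-- the base change functor along a closed immersion is locally full -/
theorem isLocallyFull_bc : (EtOver.bc hf.1).IsLocallyFull (etTop Z) := by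
  constructor
  intro U' U φ
  apply sieve_mem_of_forall_exists
  intro y
  -- the graph of `φ`
  let P : EtOver X := EtOver.prodObj U' U
  have hβ : (yon S).map (EtOver.bcπ hf.1 U' ≫ 𝟙 _) ≫ U'.obj.hom =
      (yon S).map (φ.hom.left ≫ EtOver.bcπ hf.1 U) ≫ U.obj.hom := by
    rw [Category.comp_id, Functor.map_comp, Category.assoc]
    have hw : (yon S).map φ.hom.left ≫ hf.1.fst U.obj.hom = hf.1.fst U'.obj.hom := EtOver.w φ
    rw [← (hf.1.isPullback U.obj.hom).w, ← Category.assoc, hw]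
    exact (hf.1.isPullback U'.obj.hom).w.symm
  obtain ⟨β, hβdef⟩ : ∃ β : ((EtOver.bc hf.1).obj U').obj.left ⟶ P.obj.left,
      β = U.property.1.lift' (φ.hom.left ≫ EtOver.bcπ hf.1 U) (EtOver.bcπ hf.1 U' ≫ 𝟙 _)
        (by rw [hβ]) := ⟨_, rfl⟩
  have hβ1 : β ≫ (EtOver.prodFst U' U).hom.left = EtOver.bcπ hf.1 U' := by
    rw [hβdef]
    show U.property.1.lift' _ _ _ ≫ U.property.1.snd U'.obj.hom = _
    rw [Functor.relativelyRepresentable.lift'_snd, Category.comp_id]
  have hβ2 : β ≫ (EtOver.prodSnd U' U).hom.left = φ.hom.left ≫ EtOver.bcπ hf.1 U := by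
    rw [hβdef]
    show U.property.1.lift' _ _ _ ≫ U.property.1.fst' U'.obj.hom = _
    rw [Functor.relativelyRepresentable.lift'_fst]
  have hγw : ((EtOver.bc hf.1).obj U').obj.hom ≫ f = (yon S).map β ≫ P.obj.hom := by
    have hP : P.obj.hom = (yon S).map (EtOver.prodFst U' U).hom.left ≫ U'.obj.hom :=
      (EtOver.w (EtOver.prodFst U' U)).symm
    rw [hP, ← Category.assoc, ← Functor.map_comp, hβ1]
    exact (hf.1.isPullback U'.obj.hom).w
  let γO : ((EtOver.bc hf.1).obj U').obj.left ⟶ ((EtOver.bc hf.1).obj P).obj.left :=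
    hf.1.lift ((EtOver.bc hf.1).obj U').obj.hom β hγw
  have hγ1 : (yon S).map γO ≫ hf.1.fst P.obj.hom = ((EtOver.bc hf.1).obj U').obj.hom :=
    hf.1.lift_fst _ _ _
  have hγ2 : γO ≫ hf.1.snd P.obj.hom = β := hf.1.lift_snd _ _ _
  let γ : (EtOver.bc hf.1).obj U' ⟶ (EtOver.bc hf.1).obj P := EtOver.homMk γO hγ1
  obtain ⟨W, q, μ, hμ, hy⟩ := exists_bc_lift hf P ((EtOver.bc hf.1).obj U') γ y
  -- `γ ≫ bc pr₁ = 𝟙` and `γ ≫ bc pr₂ = φ`
  have h1 : γ ≫ (EtOver.bc hf.1).map (EtOver.prodFst U' U) = 𝟙 _ := by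
    apply EtOver.hom_ext
    show γO ≫ (EtOver.bcMap hf.1 (EtOver.prodFst U' U)).hom.left = 𝟙 _
    apply hf.1.hom_ext
    · rw [Functor.map_comp, Category.assoc, EtOver.map_bcMap_fst, hγ1, CategoryTheory.Functor.map_id,
        Category.id_comp]
      rfl
    · rw [Category.assoc, EtOver.bcMap_snd, ← Category.assoc, hγ2, hβ1, Category.id_comp]
  have h2 : γ ≫ (EtOver.bc hf.1).map (EtOver.prodSnd U' U) = φ := by
    apply EtOver.hom_ext
    show γO ≫ (EtOver.bcMap hf.1 (EtOver.prodSnd U' U)).hom.left = φ.hom.left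
    apply hf.1.hom_ext
    · rw [Functor.map_comp, Category.assoc, EtOver.map_bcMap_fst, hγ1]
      exact (EtOver.w φ).symm
    · rw [Category.assoc, EtOver.bcMap_snd, ← Category.assoc, hγ2, hβ2]
  have h3 : (EtOver.bc hf.1).map (q ≫ EtOver.prodFst U' U) = μ := by
    rw [Functor.map_comp, ← hμ, Category.assoc, h1, Category.comp_id]
  have h4 : (EtOver.bc hf.1).map (q ≫ EtOver.prodSnd U' U) = μ ≫ φ := by
    rw [Functor.map_comp, ← hμ, Category.assoc, h2]
  have hmem : (EtOver.bc hf.1).imageSieve φ (q ≫ EtOver.prodFst U' U) :=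
    ⟨q ≫ EtOver.prodSnd U' U, by rw [h4, h3]⟩
  refine ⟨(EtOver.bc hf.1).obj W, (EtOver.bc hf.1).map (q ≫ EtOver.prodFst U' U),
    Sieve.image_mem_functorPushforward _ _ hmem, ?_⟩
  rw [h3]
  exact hy

include hf in
theorem main9983_aux (hX : IsAlgSpace X) :
    ((AlgSp.pushEt hf.1 (Type (u + 1))).Full ∧ (AlgSp.pushEt hf.1 (Type (u + 1))).Faithful) ∧
    ((AlgSp.pushEt hf.1 AddCommGrpCat.{u + 1}).Full ∧
      (AlgSp.pushEt hf.1 AddCommGrpCat.{u + 1}).Faithful) := by
  haveI := isCoverDense_bc hf hX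
  haveI := isLocallyFull_bc hf
  exact ⟨⟨inferInstance, inferInstance⟩, ⟨inferInstance, inferInstance⟩⟩

end Groth.Agent.Lib.ClImmEtH7
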