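import Mathlib
import Groth.Agent.Lib.ClImmEt1_helper7
import Groth.Agent.Lib.EtNbhd_helper7

/-!
# Stalks of the direct image along a closed immersion of algebraic spaces (helper7)

`main9998_aux`: for a closed immersion `f : Z ⟶ X`, a geometric point `z` of `Z` and a sheaf of
sets `F` on `Z_ét`, the stalk of `f_* F` at `f(z)` is the stalk of `F` at `z`.
-/

set_option autoImplicit false
set_option backward.isDefEq.respectTransparency false
set_option backward.isDefEq.respectTransparency.types false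
set_option linter.style.haveILetI false
set_option linter.unusedSectionVars false
set_option linter.unusedVariables false
set_option maxHeartbeats 1600000

universe u
open CategoryTheory CategoryTheory.Limits AlgebraicGeometry Opposite
open AlgSp Groth.Agent.Lib.AlgSpPoints_helper7 Groth.Agent.Lib.EtStalkPt_helper7
  Groth.Agent.Lib.EtNbhd_helper7

namespace Groth.Agent.Lib.ClImmEtH7

variable {S : Scheme.{u}} {Z X : Sp S} {f : Z ⟶ X} (hf : RepWith @IsClosedImmersion f)

/-- the lift of `z` to the base change of an étale neighbourhood of `f(z)` -/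
noncomputable def liftz (z : FieldPt Z) (E : EtOver X) (l : (FieldPt.liftsTo (z.map f)).obj E) :
    (FieldPt.liftsTo z).obj ((EtOver.bc hf.1).obj E) :=
  ⟨hf.1.lift z.toHom l.1 ((l.2.trans (FieldPt.toHom_map f z)).symm), hf.1.lift_fst _ _ _⟩

theorem liftz_snd (z : FieldPt Z) (E : EtOver X) (l : (FieldPt.liftsTo (z.map f)).obj E) :
    (liftz hf z E l).1 ≫ EtOver.bcπ hf.1 E = l.1 :=
  hf.1.lift_snd _ _ _

theorem liftz_map (z : FieldPt Z) {E E' : EtOver X} (g : E ⟶ E')
    (l : (FieldPt.liftsTo (z.map f)).obj E) :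
    (FieldPt.liftsTo z).map ((EtOver.bc hf.1).map g) (liftz hf z E l) =
      liftz hf z E' ((FieldPt.liftsTo (z.map f)).map g l) := by
  apply Subtype.ext
  show (liftz hf z E l).1 ≫ (EtOver.bcMap hf.1 g).hom.left =
    (liftz hf z E' ((FieldPt.liftsTo (z.map f)).map g l)).1
  apply hf.1.hom_ext
  · rw [Functor.map_comp, Category.assoc, EtOver.map_bcMap_fst]
    exact ((liftz hf z E l).2).trans (liftz hf z E' _).2.symm
  · rw [Category.assoc, EtOver.bcMap_snd, ← Category.assoc]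
    have h1 := liftz_snd hf z E l
    have h2 := liftz_snd hf z E' ((FieldPt.liftsTo (z.map f)).map g l)
    show ((liftz hf z E l).1 ≫ EtOver.bcπ hf.1 E) ≫ g.hom.left =
      (liftz hf z E' ((FieldPt.liftsTo (z.map f)).map g l)).1 ≫ EtOver.bcπ hf.1 E'
    rw [h1, h2]
    rfl

/-- every lift of `z` to a base change comes from a lift of `f(z)` -/
theorem exists_liftz_eq (z : FieldPt Z) (E : EtOver X)
    (l' : (FieldPt.liftsTo z).obj ((EtOver.bc hf.1).obj E)) :
    ∃ l : (FieldPt.liftsTo (z.map f)).obj E, liftz hf z E l = l' ∧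
      l.1 = l'.1 ≫ EtOver.bcπ hf.1 E := by
  have h2 : (yon S).map l'.1 ≫ hf.1.fst E.obj.hom = z.toHom := l'.2
  have hl : (yon S).map (l'.1 ≫ EtOver.bcπ hf.1 E) ≫ E.obj.hom = (z.map f).toHom := by
    rw [FieldPt.toHom_map, Functor.map_comp, Category.assoc, ← (hf.1.isPullback E.obj.hom).w,
      ← Category.assoc, h2]
  refine ⟨⟨l'.1 ≫ EtOver.bcπ hf.1 E, hl⟩, ?_, rfl⟩
  apply Subtype.ext
  apply hf.1.hom_ext
  · exact ((liftz hf z E ⟨l'.1 ≫ EtOver.bcπ hf.1 E, hl⟩).2).trans h2.symm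
  · exact liftz_snd hf z E ⟨l'.1 ≫ EtOver.bcπ hf.1 E, hl⟩

variable (z : FieldPt Z) [IsSepClosed z.K]

/-- **Refinement.** An étale neighbourhood of `z` over the base change of an étale neighbourhood
`(E, l)` of `f(z)` is refined by the base change of an étale neighbourhood of `f(z)` over
`(E, l)`. -/
theorem exists_refine (E : EtOver X) (l : (FieldPt.liftsTo (z.map f)).obj E) (V : EtOver Z)
    (y : (FieldPt.liftsTo z).obj V) (g : V ⟶ (EtOver.bc hf.1).obj E)
    (hg : (FieldPt.liftsTo z).map g y = liftz hf z E l) :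
    ∃ (W : EtOver X) (lW : (FieldPt.liftsTo (z.map f)).obj W) (q : W ⟶ E)
      (μ : (EtOver.bc hf.1).obj W ⟶ V),
      (FieldPt.liftsTo (z.map f)).map q lW = l ∧ μ ≫ g = (EtOver.bc hf.1).map q ∧
        (FieldPt.liftsTo z).map μ (liftz hf z W lW) = y := by
  obtain ⟨W, q, μ, hμ, w, hw⟩ := exists_bc_lift hf E V g
    (y.1.left (default : ↥(Spec (CommRingCat.of z.K))))
  obtain ⟨l', hl', -⟩ := exists_lift_of_map μ y w hw
  obtain ⟨lW, hlW, hlW1⟩ := exists_liftz_eq hf z W l'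
  refine ⟨W, lW, q, μ, ?_, hμ, by rw [hlW]; exact hl'⟩
  apply Subtype.ext
  show lW.1 ≫ q.hom.left = l.1
  rw [hlW1, Category.assoc]
  have h3 : EtOver.bcπ hf.1 W ≫ q.hom.left =
      (EtOver.bcMap hf.1 q).hom.left ≫ EtOver.bcπ hf.1 E := (EtOver.bcMap_snd hf.1 q).symm
  rw [h3, ← Category.assoc]
  have h4 : l'.1 ≫ (EtOver.bcMap hf.1 q).hom.left = (liftz hf z E l).1 := by
    have h5 : (FieldPt.liftsTo z).map ((EtOver.bc hf.1).map q) l' = liftz hf z E l := by
      rw [← hμ, Functor.map_comp_apply, hl', hg]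
    exact congrArg Subtype.val h5
  rw [h4]
  exact liftz_snd hf z E l

include hf in
/-- every étale neighbourhood of `z` is refined by the base change of an étale neighbourhood of
`f(z)` -/
theorem exists_nbhd (hX : IsAlgSpace X) (hZ : IsAlgSpace Z) (V : EtOver Z)
    (y : (FieldPt.liftsTo z).obj V) :
    ∃ (W : EtOver X) (lW : (FieldPt.liftsTo (z.map f)).obj W)
      (μ : (EtOver.bc hf.1).obj W ⟶ V), (FieldPt.liftsTo z).map μ (liftz hf z W lW) = y := by
  haveI : IsSepClosed (z.map f).K := (inferInstance : IsSepClosed z.K)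
  haveI hcof := isCofiltered_etNbhd hZ z
  obtain ⟨N₀⟩ := nonempty_etNbhd hX (z.map f)
  let M₁ : EtNbhd z := ⟨V, y⟩
  let M₂ : EtNbhd z := ⟨(EtOver.bc hf.1).obj N₀.1, liftz hf z N₀.1 N₀.2⟩
  let M : EtNbhd z := IsCofiltered.min M₁ M₂
  let m₁ : M ⟶ M₁ := IsCofiltered.minToLeft M₁ M₂
  let m₂ : M ⟶ M₂ := IsCofiltered.minToRight M₁ M₂
  obtain ⟨W, lW, q, μ, -, -, h3⟩ := exists_refine hf z N₀.1 N₀.2 M.1 M.2 m₂.1 m₂.2
  refine ⟨W, lW, μ ≫ m₁.1, ?_⟩
  rw [Functor.map_comp_apply, h3]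
  exact m₁.2

section Main

variable (hX : IsAlgSpace X) (hZ : IsAlgSpace Z) (F : EtSh Z (Type (u + 1)))

include hf hX hZ in
theorem main9998_aux :
    ∃ φ : AlgSp.stalkEt (z.map f) ((AlgSp.pushEt hf.1 (Type (u + 1))).obj F) ≃ AlgSp.stalkEt z F,
      ∀ (N : AlgSp.EtNbhd (z.map f)) (s : F.obj.obj (op ((AlgSp.EtOver.bc hf.1).obj N.1))),
        φ (AlgSp.stalkEtι (z.map f) ((AlgSp.pushEt hf.1 (Type (u + 1))).obj F) N s) =
          AlgSp.stalkEtι z F ⟨(AlgSp.EtOver.bc hf.1).obj N.1,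
            ⟨hf.1.lift z.toHom N.2.1 ((N.2.2.trans (AlgSp.FieldPt.toHom_map f z)).symm),
              hf.1.lift_fst _ _ _⟩⟩ s := by
  haveI : IsSepClosed (z.map f).K := (inferInstance : IsSepClosed z.K)
  let ΦX := point hX (z.map f)
  let ΦZ := point hZ z
  let G : (EtOver X)ᵒᵖ ⥤ Type (u + 1) := ((AlgSp.pushEt hf.1 (Type (u + 1))).obj F).obj
  -- the comparison map
  have hnat : ∀ ⦃E E' : EtOver X⦄ (g : E ⟶ E') (l : ΦX.fiber.obj E),
      G.map g.op ≫ ΦZ.toPresheafFiber ((EtOver.bc hf.1).obj E) (liftz hf z E l) F.obj =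
        ΦZ.toPresheafFiber ((EtOver.bc hf.1).obj E') (liftz hf z E' (ΦX.fiber.map g l)) F.obj := by
    intro E E' g l
    have h1 := ΦZ.toPresheafFiber_w ((EtOver.bc hf.1).map g) (liftz hf z E l) F.obj
    rw [show ΦZ.fiber.map ((EtOver.bc hf.1).map g) (liftz hf z E l) =
      liftz hf z E' (ΦX.fiber.map g l) from liftz_map hf z g l] at h1
    exact h1
  let φ₀ : ΦX.presheafFiber.obj G ⟶ ΦZ.presheafFiber.obj F.obj :=
    ΦX.presheafFiberDesc (P := G)
      (fun E l => ΦZ.toPresheafFiber ((EtOver.bc hf.1).obj E) (liftz hf z E l) F.obj) hnat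
  have hφ₀ : ∀ (E : EtOver X) (l : ΦX.fiber.obj E) (s : G.obj (op E)),
      φ₀ (ΦX.toPresheafFiber E l G s) =
        ΦZ.toPresheafFiber ((EtOver.bc hf.1).obj E) (liftz hf z E l) F.obj s := by
    intro E l s
    exact ConcreteCategory.congr_hom (ΦX.toPresheafFiber_presheafFiberDesc (P := G)
      (fun E l => ΦZ.toPresheafFiber ((EtOver.bc hf.1).obj E) (liftz hf z E l) F.obj) hnat E l) s
  have hbij : Function.Bijective φ₀ := by
    constructor
    · intro t₁ t₂ ht
      obtain ⟨E, l, s₁, s₂, rfl, rfl⟩ := ΦX.toPresheafFiber_jointly_surjective₂ (P := G) t₁ t₂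
      rw [hφ₀, hφ₀] at ht
      obtain ⟨V, g, y, hy, heq⟩ := (ΦZ.toPresheafFiber_eq_iff' (P := F.obj)
        ((EtOver.bc hf.1).obj E) (liftz hf z E l) s₁ s₂).1 ht
      obtain ⟨W, lW, q, μ, h1, h2, h3⟩ := exists_refine hf z E l V y g hy
      have h4 : G.map q.op s₁ = G.map q.op s₂ := by
        show F.obj.map ((EtOver.bc hf.1).map q).op s₁ = F.obj.map ((EtOver.bc hf.1).map q).op s₂
        rw [← h2, op_comp, Functor.map_comp_apply, Functor.map_comp_apply, heq]
      have h5 := ΦX.toPresheafFiber_w_apply q lW G s₁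
      have h6 := ΦX.toPresheafFiber_w_apply q lW G s₂
      rw [show ΦX.fiber.map q lW = l from h1] at h5 h6
      rw [← h5, ← h6, h4]
    · intro t
      obtain ⟨V, y, s, rfl⟩ := ΦZ.toPresheafFiber_jointly_surjective (P := F.obj) t
      obtain ⟨W, lW, μ, hμ⟩ := exists_nbhd hf z hX hZ V y
      refine ⟨ΦX.toPresheafFiber W lW G (F.obj.map μ.op s), ?_⟩
      rw [hφ₀]
      have h7 := ΦZ.toPresheafFiber_w_apply μ (liftz hf z W lW) F.obj s
      rw [show ΦZ.fiber.map μ (liftz hf z W lW) = y from hμ] at h7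
      exact h7
  refine ⟨Equiv.ofBijective φ₀ hbij, ?_⟩
  intro N s
  exact hφ₀ N.1 N.2 s

end Main

end Groth.Agent.Lib.ClImmEtH7
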