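import Mathlib

/-!
# Closed immersions via fibres (helper7)

A proper morphism of finite presentation is a closed immersion iff every fibre is empty or
isomorphic to the spectrum of the residue field.
-/

set_option autoImplicit false
set_option backward.isDefEq.respectTransparency false
universe u
open CategoryTheory AlgebraicGeometry Limits TensorProduct

namespace Groth.Agent.Lib.ClImmFibreH7

/-- a finite algebra all of whose fibres are quotients of the residue field is a quotient -/
theorem surjective_of_fibres {R S : Type u} [CommRing R] [CommRing S] [Algebra R S]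
    [Module.Finite R S]
    (h : ∀ p : PrimeSpectrum R,
      Function.Surjective (algebraMap p.asIdeal.ResidueField (p.asIdeal.Fiber S))) :
    Function.Surjective (algebraMap R S) := by
  let N : Submodule R S := LinearMap.range (Algebra.linearMap R S)
  have hC : Subsingleton (S ⧸ N) := by
    rw [← Module.support_eq_empty_iff (R := R), Set.eq_empty_iff_forall_notMem]
    intro p hp
    rw [Module.mem_support_iff_nontrivial_residueField_tensorProduct] at hp
    have hsub : Subsingleton (p.asIdeal.ResidueField ⊗[R] (S ⧸ N)) := by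
      refine subsingleton_of_forall_eq 0 fun z => ?_
      obtain ⟨w, rfl⟩ :=
        LinearMap.lTensor_surjective p.asIdeal.ResidueField (Submodule.mkQ_surjective N) z
      obtain ⟨a, rfl⟩ := h p w
      rw [Algebra.TensorProduct.algebraMap_apply, LinearMap.lTensor_tmul]
      have h1 : N.mkQ 1 = 0 := (Submodule.Quotient.mk_eq_zero _).mpr ⟨1, by simp⟩
      rw [h1, TensorProduct.tmul_zero]
    exact not_subsingleton _ hsub
  have hN : N = ⊤ := Submodule.Quotient.subsingleton_iff.mp hC
  intro s
  have hs : s ∈ N := hN ▸ Submodule.mem_top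
  obtain ⟨r, hr⟩ := hs
  exact ⟨r, hr⟩

/-- the pointwise fibre condition -/
def P {X Y : Scheme.{u}} (f : X ⟶ Y) (y : Y) : Prop :=
  IsEmpty (f.fiber y) ∨ IsIso (f.fiberToSpecResidueField y)

theorem P_of_isPullback {W X Y Z : Scheme.{u}} {fst : W ⟶ X} {snd : W ⟶ Y} {f : X ⟶ Z}
    {g : Y ⟶ Z} (h : IsPullback fst snd f g) (y : Y) (hy : P f (g y)) : P snd y := by
  obtain ⟨u, hu⟩ : ∃ u : snd.fiber y ⟶ f.fiber (g y),
      IsPullback u (snd.fiberToSpecResidueField y) (f.fiberToSpecResidueField (g y))
        (Spec.map (g.residueFieldMap y)) :=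
    ⟨_, isPullback_fiberToSpecResidueField_of_isPullback h y⟩
  rcases hy with hy | hy
  · left
    exact ⟨fun x => hy.elim (u x)⟩
  · right
    exact hu.isIso_snd_of_isIso

theorem P_of_isClosedImmersion {X Y : Scheme.{u}} (f : X ⟶ Y) [IsClosedImmersion f] (y : Y) :
    P f y := by
  by_cases hne : IsEmpty (f.fiber y)
  · exact Or.inl hne
  · right
    rw [not_isEmpty_iff] at hne
    obtain ⟨x₀⟩ := hne
    have h1 : IsClosedImmersion (f.fiberToSpecResidueField y) :=
      inferInstanceAs (IsClosedImmersion (pullback.snd f (Y.fromSpecResidueField y)))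
    have h2 : Surjective (f.fiberToSpecResidueField y) :=
      ⟨fun z => ⟨x₀, Subsingleton.elim (α := PrimeSpectrum _) _ _⟩⟩
    exact isIso_of_isClosedImmersion_of_surjective (f.fiberToSpecResidueField y)

theorem isClosedImmersion_of_isFinite_of_fibres {X Y : Scheme.{u}} (f : X ⟶ Y) [IsFinite f]
    (H : ∀ y : Y, P f y) : IsClosedImmersion f := by
  wlog hY : ∃ R, Y = Spec R generalizing X Y
  · rw [IsZariskiLocalAtTarget.iff_of_openCover (P := @IsClosedImmersion) Y.affineCover]
    intro i
    dsimp [Scheme.Cover.pullbackHom]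
    refine this _ (fun y => ?_) ⟨_, rfl⟩
    exact P_of_isPullback (IsPullback.of_hasPullback _ _) y (H _)
  obtain ⟨R, rfl⟩ := hY
  wlog hX : ∃ S, X = Spec S generalizing X
  · have haff : IsAffine X := isAffine_of_isAffineHom f
    have h1 := this (X.isoSpec.inv ≫ f) (fun y => ?_) ⟨_, rfl⟩
    · exact (MorphismProperty.cancel_left_of_respectsIso @IsClosedImmersion _ _).mp h1
    · have hpb : IsPullback X.isoSpec.inv (X.isoSpec.inv ≫ f) f (𝟙 _) :=
        IsPullback.of_horiz_isIso ⟨by simp⟩
      exact P_of_isPullback hpb y (by simpa using H y)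
  obtain ⟨S, rfl⟩ := hX
  obtain ⟨φ, rfl⟩ := Spec.map_surjective f
  have hfin : φ.hom.Finite := (IsFinite.SpecMap_iff φ).mp inferInstance
  algebraize [φ.hom]
  refine IsClosedImmersion.spec_of_surjective φ ?_
  refine surjective_of_fibres (R := R) (S := S) fun p => ?_
  let e := Spec.fiberToSpecResidueFieldIso R S p
  rcases H p with hp | hp
  · have hemp : IsEmpty (Spec (CommRingCat.of (p.asIdeal.Fiber S))) :=
      ⟨fun x => hp.elim (e.inv.left x)⟩
    have hsub : Subsingleton (p.asIdeal.Fiber S) :=
      PrimeSpectrum.isEmpty_iff_subsingleton.mp hemp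
    intro b
    exact ⟨0, Subsingleton.elim _ _⟩
  · have hiso : IsIso (Spec.map (CommRingCat.ofHom
        (algebraMap p.asIdeal.ResidueField (p.asIdeal.Fiber S)))) :=
      (MorphismProperty.arrow_mk_iso_iff (MorphismProperty.isomorphisms Scheme.{u}) e).mp hp
    exact (isIso_SpecMap_iff.mp hiso).2

theorem isClosedImmersion_of_fibres {X Y : Scheme.{u}} (f : X ⟶ Y) [IsProper f]
    [LocallyOfFinitePresentation f] (H : ∀ y : Y, P f y) : IsClosedImmersion f := by
  have hlqf : LocallyQuasiFinite f := by
    refine .of_fiberToSpecResidueField f fun y => ?_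
    rcases H y with h | h
    · infer_instance
    · infer_instance
  have hfin : IsFinite f := .of_isProper_of_locallyQuasiFinite f
  exact isClosedImmersion_of_isFinite_of_fibres f H

end Groth.Agent.Lib.ClImmFibreH7
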