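import Mathlib
import Groth.Agent.Lib.ProjClosed_helper3

/-!
# Closed subschemes of a relative `Proj`, part 1: graded algebra  (helper5)
Independence of the saturated ideal from the chosen degree-one generators, and the quotient of a graded
ring (graded by additive subgroups) by a homogeneous ideal.
APPEND-ONLY once landed.
-/

set_option autoImplicit false
open HomogeneousLocalization DirectSum

noncomputable section

namespace Groth.Agent.ClProj

open Groth.Agent.Lib.ProjClosed_helper3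

section Alg
variable {A σ : Type*} [CommRing A] [SetLike σ A] [AddSubgroupClass σ A] (𝒜 : ℕ → σ) [GradedRing 𝒜]
  (J : ∀ f : A, Ideal (Away 𝒜 f))

omit [SetLike σ A] [AddSubgroupClass σ A] in
theorem frac_sum {ι : Type*} (f : A) (n : ℕ) (s : Finset ι) (a : ι → A) :
    ∑ i ∈ s, frac f n (a i) = frac f n (∑ i ∈ s, a i) := by
  classical
  induction s using Finset.induction_on with
  | empty => simp [frac_zero]
  | insert i s hi ih => rw [Finset.sum_insert hi, Finset.sum_insert hi, ih, frac_add]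

omit [SetLike σ A] [AddSubgroupClass σ A] in
theorem frac_self (g : A) : frac g (0 + 1) g = 1 := by
  unfold frac
  rw [← Localization.mk_one (S := Submonoid.powers g), Localization.mk_eq_mk_iff,
    Localization.r_iff_exists]
  refine ⟨1, ?_⟩
  show (1 : A) * (1 * g) = 1 * (g ^ (0 + 1) * 1)
  ring

theorem val_sum {g : A} {ι : Type*} (s : Finset ι) (F : ι → Away 𝒜 g) :
    (∑ t ∈ s, F t).val = ∑ t ∈ s, (F t).val := by
  classical
  induction s using Finset.induction_on with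
  | empty => simp
  | insert i s hi ih =>
    rw [Finset.sum_insert hi, Finset.sum_insert hi, HomogeneousLocalization.val_add, ih]

/-- **Independence of the generators**: if `a / f ^ k ∈ J f` for all `f` in a set `T` of degree-one
elements, then `a / g ^ k ∈ J g` for every degree-one `g` in the `𝒜 0`-span of `T`. -/
theorem inJ_of_gens (hJ : Compat 𝒜 J) (T : Finset A) (hT : ∀ t ∈ T, t ∈ 𝒜 1) {g : A}
    (hg : g ∈ 𝒜 1) (c : A → A) (hc : ∀ t, c t ∈ 𝒜 0) (hgc : g = ∑ t ∈ T, c t * t) {k : ℕ}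
    {a : A} (ha : a ∈ 𝒜 k) (h : ∀ f ∈ T, InJ 𝒜 J f k a) : InJ 𝒜 J g k a := by
  classical
  have ha' : a ∈ 𝒜 (k • 1) := by rwa [smul_eq_mul, mul_one]
  have h2 : ∀ f ∈ T, ∃ m, ∀ N, m ≤ N → InJ 𝒜 J g (k + N) (f ^ N * a) :=
    fun f hf => exists_inJ_of_inJ 𝒜 J hJ (hT f hf) hg ha (h f hf)
  choose! m hm using h2
  obtain ⟨N, hN⟩ : ∃ N, N = T.sup m := ⟨_, rfl⟩
  have hf1 : ∀ f ∈ T, f ∈ 𝒜 (1 • 1) := fun f hf => by
    rw [smul_eq_mul, mul_one]; exact hT f hf
  obtain ⟨u, hu⟩ : ∃ u : A → Away 𝒜 g, ∀ f (hf : f ∈ T), u f = Away.mk 𝒜 hg 1 f (hf1 f hf) :=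
    ⟨fun f => if hf : f ∈ T then Away.mk 𝒜 hg 1 f (hf1 f hf) else 0,
      fun f hf => dif_pos hf⟩
  obtain ⟨z, hz⟩ : ∃ z : Away 𝒜 g, z = Away.mk 𝒜 hg k a ha' := ⟨_, rfl⟩
  have h3 : ∀ f ∈ T, u f ^ N * z ∈ J g := by
    intro f hf
    obtain ⟨w, hw, hw'⟩ := hm f hf N (hN ▸ Finset.le_sup hf)
    have : u f ^ N * z = w := by
      rw [HomogeneousLocalization.ext_iff_val, hw', HomogeneousLocalization.val_mul,
        HomogeneousLocalization.val_pow, hu f hf, hz, val_mk_eq_frac, val_mk_eq_frac, frac_pow,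
        frac_mul]
      apply frac_eq_of
      ring
    rw [this]
    exact hw
  have h4 : Ideal.span (u '' (T : Set A)) = ⊤ := by
    rw [Ideal.eq_top_iff_one]
    have hc0 : ∀ t, c t ∈ 𝒜 (0 • 1) := fun t => by rw [zero_smul]; exact hc t
    have h1 : (1 : Away 𝒜 g) = ∑ t ∈ T, Away.mk 𝒜 hg 0 (c t) (hc0 t) * u t := by
      rw [HomogeneousLocalization.ext_iff_val, HomogeneousLocalization.val_one, val_sum]
      have e : ∀ t ∈ T, (Away.mk 𝒜 hg 0 (c t) (hc0 t) * u t).val = frac g (0 + 1) (c t * t) := by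
        intro t ht
        rw [HomogeneousLocalization.val_mul, hu t ht, val_mk_eq_frac, val_mk_eq_frac, frac_mul]
      rw [Finset.sum_congr rfl e, frac_sum, ← hgc, frac_self]
    rw [h1]
    exact Ideal.sum_mem _ fun t ht =>
      Ideal.mul_mem_left _ _ (Ideal.subset_span ⟨t, Finset.mem_coe.mpr ht, rfl⟩)
  have h5 := Ideal.span_pow_eq_top _ h4 N
  have h6 : Ideal.span ((fun x => x ^ N) '' (u '' (T : Set A))) ≤
      (J g).colon {z} := by
    rw [Ideal.span_le]
    rintro _ ⟨_, ⟨f, hf, rfl⟩, rfl⟩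
    exact Submodule.mem_colon_singleton.mpr (h3 f (Finset.mem_coe.mp hf))
  have h7 : (1 : Away 𝒜 g) ∈ (J g).colon {z} := h6 (h5 ▸ Submodule.mem_top)
  have h8 := Submodule.mem_colon_singleton.mp h7
  rw [smul_eq_mul, one_mul, hz] at h8
  exact inJ_of_mk 𝒜 J hg ha' h8

/-- The saturated ideal: all degree-one elements are used. -/
def satIdeal : Ideal A := bigIdeal 𝒜 J {f | f ∈ 𝒜 1} (fun _ hf => hf)

theorem satIdeal_isHomogeneous : (satIdeal 𝒜 J).IsHomogeneous 𝒜 :=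
  bigIdeal_isHomogeneous _ _ _ _

theorem mem_satIdeal_iff {a : A} :
    a ∈ satIdeal 𝒜 J ↔ ∀ n : ℕ, ∀ f ∈ 𝒜 1, InJ 𝒜 J f n (decompose 𝒜 a n) := Iff.rfl

/-- the saturated ideal can be computed on any finite set of generators of the degree-one part -/
theorem satIdeal_eq_bigIdeal (hJ : Compat 𝒜 J) (T : Finset A)
    (hT : ∀ t ∈ (T : Set A), t ∈ 𝒜 1)
    (hspan : ∀ x ∈ 𝒜 1, ∃ c : A → A, (∀ t, c t ∈ 𝒜 0) ∧ x = ∑ t ∈ T, c t * t) :
    satIdeal 𝒜 J = bigIdeal 𝒜 J (T : Set A) hT := by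
  ext a
  constructor
  · intro ha n f hf
    exact ha n f (hT f hf)
  · intro ha n g hg
    obtain ⟨c, hc, hgc⟩ := hspan g hg
    exact inJ_of_gens 𝒜 J hJ T (fun t ht => hT t (Finset.mem_coe.mpr ht)) hg c hc hgc
      (SetLike.coe_mem _) (fun f hf => ha n f (Finset.mem_coe.mpr hf))

end Alg

section Quot
variable {A σ : Type*} [CommRing A] [SetLike σ A] [AddSubgroupClass σ A] (𝒜 : ℕ → σ)
  (I : Ideal A)

/-- the grading of the quotient by additive subgroups -/
def qGr (n : ℕ) : AddSubgroup (A ⧸ I) :=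
  (AddSubgroup.ofClass (𝒜 n)).map (Ideal.Quotient.mk I).toAddMonoidHom

theorem mk_mem_qGr {n : ℕ} {a : A} (ha : a ∈ 𝒜 n) : Ideal.Quotient.mk I a ∈ qGr 𝒜 I n :=
  ⟨a, ha, rfl⟩

theorem exists_of_mem_qGr {n : ℕ} {b : A ⧸ I} (hb : b ∈ qGr 𝒜 I n) :
    ∃ a ∈ 𝒜 n, Ideal.Quotient.mk I a = b := by
  obtain ⟨a, ha, rfl⟩ := hb
  exact ⟨a, ha, rfl⟩

/-- the quotient map on the pieces -/
def piece (n : ℕ) : 𝒜 n →+ qGr 𝒜 I n where
  toFun x := ⟨Ideal.Quotient.mk I x, mk_mem_qGr 𝒜 I x.2⟩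
  map_zero' := Subtype.ext (map_zero (Ideal.Quotient.mk I))
  map_add' _ _ := Subtype.ext (map_add (Ideal.Quotient.mk I) _ _)

theorem piece_surjective (n : ℕ) : Function.Surjective (piece 𝒜 I n) := by
  rintro ⟨b, hb⟩
  obtain ⟨a, ha, rfl⟩ := exists_of_mem_qGr 𝒜 I hb
  exact ⟨⟨a, ha⟩, rfl⟩

theorem coe_map_piece (x : ⨁ i, 𝒜 i) :
    DirectSum.coeAddMonoidHom (qGr 𝒜 I) (DirectSum.map (piece 𝒜 I) x) =
      Ideal.Quotient.mk I (DirectSum.coeAddMonoidHom 𝒜 x) := by
  classical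
  induction x using DirectSum.induction_on with
  | zero => simp
  | of i x =>
    rw [DirectSum.map_of, DirectSum.coeAddMonoidHom_of, DirectSum.coeAddMonoidHom_of]
    rfl
  | add _ _ hx hy => rw [map_add, map_add, map_add, map_add, hx, hy]

variable [GradedRing 𝒜]

instance qGr_gradedMonoid : SetLike.GradedMonoid (qGr 𝒜 I) where
  one_mem := ⟨1, SetLike.GradedOne.one_mem, map_one (Ideal.Quotient.mk I)⟩
  mul_mem := by
    rintro i j _ _ ⟨a, ha, rfl⟩ ⟨b, hb, rfl⟩
    exact ⟨a * b, SetLike.mul_mem_graded ha hb, map_mul (Ideal.Quotient.mk I) _ _⟩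

variable (hI : I.IsHomogeneous 𝒜)

include hI in
theorem qGr_isInternal : DirectSum.IsInternal (qGr 𝒜 I) := by
  classical
  constructor
  · rw [injective_iff_map_eq_zero]
    intro y hy
    obtain ⟨x, rfl⟩ := (DirectSum.map_surjective (piece 𝒜 I)).mpr (piece_surjective 𝒜 I) y
    rw [coe_map_piece, Ideal.Quotient.eq_zero_iff_mem] at hy
    refine DFinsupp.ext fun i => ?_
    rw [DirectSum.map_apply]
    have h1 := hI i hy
    have h2 : (decompose 𝒜 (DirectSum.coeAddMonoidHom 𝒜 x) i : A) = x i := by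
      have : decompose 𝒜 (DirectSum.coeAddMonoidHom 𝒜 x) = x :=
        (DirectSum.decomposeAddEquiv 𝒜).apply_symm_apply x
      rw [this]
    rw [h2] at h1
    exact Subtype.ext (Ideal.Quotient.eq_zero_iff_mem.mpr h1)
  · intro b
    obtain ⟨a, rfl⟩ := Ideal.Quotient.mk_surjective b
    refine ⟨DirectSum.map (piece 𝒜 I) (decompose 𝒜 a), ?_⟩
    rw [coe_map_piece]
    congr 1
    exact (DirectSum.decomposeAddEquiv 𝒜).symm_apply_apply a

/-- The quotient of a graded ring by a homogeneous ideal is a graded ring. -/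
@[instance_reducible]
def qGr_gradedRing : GradedRing (qGr 𝒜 I) :=
  { qGr_gradedMonoid 𝒜 I with
    toDecomposition := (qGr_isInternal 𝒜 I hI).chooseDecomposition }

/-- The quotient map as a graded ring homomorphism. -/
def qHom : 𝒜 →+*ᵍ qGr 𝒜 I :=
  { Ideal.Quotient.mk I with map_mem := fun ha => mk_mem_qGr 𝒜 I ha }

theorem qHom_apply (a : A) : qHom 𝒜 I a = Ideal.Quotient.mk I a := rfl

theorem qHom_surjective : Function.Surjective (qHom 𝒜 I) := Ideal.Quotient.mk_surjective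

theorem qHom_eq_zero_iff (a : A) : qHom 𝒜 I a = 0 ↔ a ∈ I := Ideal.Quotient.eq_zero_iff_mem

end Quot

end Groth.Agent.ClProj
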