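import Mathlib
import Groth.Prelude

/-!
# Local criteria for quasi-coherent graded algebras  (helper5)
APPEND-ONLY once landed.

Generation in degree one and finite type of a graded piece can be checked on a finite cover of an
affine open by basic opens.
-/

set_option autoImplicit false
universe u
open CategoryTheory AlgebraicGeometry TopologicalSpace Opposite

noncomputable section

namespace Groth.Agent.QCGrLoc

variable {S : Scheme.{u}} (𝒯 : RelProj.QCGrAlg S) {U : S.Opens} (hU : IsAffineOpen U)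

/-- restriction to a basic open -/
def ρ (r : Γ(S, U)) : 𝒯.presheaf.obj (op U) →+* 𝒯.presheaf.obj (op (S.basicOpen r)) :=
  (𝒯.presheaf.map (homOfLE (S.basicOpen_le r)).op).hom

/-- the image of a function in the algebra -/
def cc (r : Γ(S, U)) : 𝒯.presheaf.obj (op U) := (𝒯.str.app (op U)).hom r

theorem cc_mem (r : Γ(S, U)) : cc 𝒯 r ∈ 𝒯.deg U hU 0 := 𝒯.str_mem U hU r

theorem ρ_mem (r : Γ(S, U)) {d : ℕ} {x : 𝒯.presheaf.obj (op U)} (hx : x ∈ 𝒯.deg U hU d) :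
    ρ 𝒯 r x ∈ 𝒯.deg (S.basicOpen r) (hU.basicOpen r) d :=
  𝒯.map_mem hU (hU.basicOpen r) (S.basicOpen_le r) hx

include hU in
theorem exists_pow_mul_eq (r : Γ(S, U)) (y : 𝒯.presheaf.obj (op (S.basicOpen r))) :
    ∃ (n : ℕ) (z : 𝒯.presheaf.obj (op U)), ρ 𝒯 r z = ρ 𝒯 r (cc 𝒯 r) ^ n * y := by
  letI := (𝒯.presheaf.map (homOfLE (S.basicOpen_le r)).op).hom.toAlgebra
  have hloc : IsLocalization.Away (cc 𝒯 r) (𝒯.presheaf.obj (op (S.basicOpen r))) := 𝒯.isQC U hU r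
  obtain ⟨⟨z, s, hs⟩, hzs⟩ := IsLocalization.surj (Submonoid.powers (cc 𝒯 r)) y
  obtain ⟨n, rfl⟩ := (Submonoid.mem_powers_iff _ _).mp hs
  refine ⟨n, z, ?_⟩
  change y * ρ 𝒯 r (cc 𝒯 r ^ n) = ρ 𝒯 r z at hzs
  rw [← hzs, map_pow, mul_comm]

include hU in
theorem exists_pow_mul_eq_zero (r : Γ(S, U)) (w : 𝒯.presheaf.obj (op U)) (hw : ρ 𝒯 r w = 0) :
    ∃ N : ℕ, cc 𝒯 r ^ N * w = 0 := by
  letI := (𝒯.presheaf.map (homOfLE (S.basicOpen_le r)).op).hom.toAlgebra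
  have hloc : IsLocalization.Away (cc 𝒯 r) (𝒯.presheaf.obj (op (S.basicOpen r))) := 𝒯.isQC U hU r
  have h0 : algebraMap (𝒯.presheaf.obj (op U)) (𝒯.presheaf.obj (op (S.basicOpen r))) w = 0 := hw
  obtain ⟨⟨_, N, rfl⟩, hN⟩ :=
    (IsLocalization.map_eq_zero_iff (Submonoid.powers (cc 𝒯 r)) _ w).mp h0
  exact ⟨N, hN⟩

/-- a homogeneous element over `D(r)` is, up to a power of `r`, the restriction of a homogeneous
element of the same degree -/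
theorem exists_homog (r : Γ(S, U)) {e : ℕ} {y : 𝒯.presheaf.obj (op (S.basicOpen r))}
    (hy : y ∈ 𝒯.deg (S.basicOpen r) (hU.basicOpen r) e) :
    ∃ (n : ℕ) (z : 𝒯.presheaf.obj (op U)), z ∈ 𝒯.deg U hU e ∧
      ρ 𝒯 r z = ρ 𝒯 r (cc 𝒯 r) ^ n * y := by
  obtain ⟨n, z₀, hz₀⟩ := exists_pow_mul_eq 𝒯 hU r y
  refine ⟨n, ((DirectSum.decompose (𝒯.deg U hU) z₀ e : 𝒯.deg U hU e) : 𝒯.presheaf.obj (op U)),
    SetLike.coe_mem _, ?_⟩
  have h1 : ρ 𝒯 r ((DirectSum.decompose (𝒯.deg U hU) z₀ e : 𝒯.deg U hU e) :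
      𝒯.presheaf.obj (op U)) =
      ((DirectSum.decompose (𝒯.deg (S.basicOpen r) (hU.basicOpen r)) (ρ 𝒯 r z₀) e :
        𝒯.deg (S.basicOpen r) (hU.basicOpen r) e) : 𝒯.presheaf.obj (op (S.basicOpen r))) :=
    GradedRingHom.map_directSumDecompose (𝒜 := 𝒯.deg U hU)
      (ℬ := 𝒯.deg (S.basicOpen r) (hU.basicOpen r))
      (𝒯.res hU (hU.basicOpen r) (S.basicOpen_le r)) (x := z₀) (i := e)
  rw [h1, hz₀]
  have h2 : ρ 𝒯 r (cc 𝒯 r) ^ n * y ∈ 𝒯.deg (S.basicOpen r) (hU.basicOpen r) e := by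
    have h3 : ρ 𝒯 r (cc 𝒯 r) ^ n ∈ 𝒯.deg (S.basicOpen r) (hU.basicOpen r) 0 := by
      have := SetLike.pow_mem_graded n (ρ_mem 𝒯 hU r (cc_mem 𝒯 hU r))
      rwa [smul_zero] at this
    have := SetLike.GradedMul.mul_mem h3 hy
    rwa [zero_add] at this
  exact DirectSum.decompose_of_mem_same _ h2

/-- membership in a subgroup stable under the functions is local -/
theorem mem_of_span (L : AddSubgroup (𝒯.presheaf.obj (op U)))
    (hL : ∀ (a : Γ(S, U)) (x : 𝒯.presheaf.obj (op U)), x ∈ L → cc 𝒯 a * x ∈ L)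
    (s : Finset Γ(S, U)) (hs : Ideal.span (s : Set Γ(S, U)) = ⊤) (x : 𝒯.presheaf.obj (op U))
    (h : ∀ r ∈ s, ∃ N : ℕ, cc 𝒯 r ^ N * x ∈ L) : x ∈ L := by
  classical
  have hN : ∀ r : Γ(S, U), ∃ N : ℕ, r ∈ s → cc 𝒯 r ^ N * x ∈ L := by
    intro r
    by_cases hr : r ∈ s
    · obtain ⟨N, hN⟩ := h r hr
      exact ⟨N, fun _ => hN⟩
    · exact ⟨0, fun h => absurd h hr⟩
  choose N hN using hN
  obtain ⟨M, hM⟩ : ∃ M : ℕ, ∀ r ∈ s, N r ≤ M := ⟨s.sup N, fun r hr => Finset.le_sup hr⟩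
  have hM' : ∀ r ∈ s, cc 𝒯 r ^ M * x ∈ L := by
    intro r hr
    obtain ⟨k, hk⟩ := Nat.exists_eq_add_of_le (hM r hr)
    have e : cc 𝒯 r ^ M * x = cc 𝒯 (r ^ k) * (cc 𝒯 r ^ N r * x) := by
      unfold cc
      rw [hk, pow_add, map_pow]; ring
    rw [e]
    exact hL _ _ (hN r hr)
  have htop : Ideal.span ((fun r : Γ(S, U) => r ^ M) '' (s : Set Γ(S, U))) = ⊤ :=
    Ideal.span_pow_eq_top _ hs M
  have h1 : (1 : Γ(S, U)) ∈
      Ideal.span ((fun r : Γ(S, U) => r ^ M) '' (s : Set Γ(S, U))) := by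
    rw [htop]; trivial
  have key : ∀ c ∈ Ideal.span ((fun r : Γ(S, U) => r ^ M) '' (s : Set Γ(S, U))),
      cc 𝒯 c * x ∈ L := by
    intro c hc
    induction hc using Submodule.span_induction with
    | mem y hy =>
      obtain ⟨r, hr, rfl⟩ := hy
      show cc 𝒯 (r ^ M) * x ∈ L
      have e : cc 𝒯 (r ^ M) = cc 𝒯 r ^ M := map_pow _ _ _
      rw [e]
      exact hM' r hr
    | zero =>
      have e : cc 𝒯 (0 : Γ(S, U)) = 0 := map_zero _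
      rw [e, zero_mul]; exact zero_mem _
    | add a' b _ _ ha' hb =>
      have e : cc 𝒯 (a' + b) = cc 𝒯 a' + cc 𝒯 b := map_add _ _ _
      rw [e, add_mul]; exact add_mem ha' hb
    | smul a' b _ hb =>
      have e : cc 𝒯 (a' • b) = cc 𝒯 a' * cc 𝒯 b := by
        rw [smul_eq_mul]; exact map_mul _ _ _
      rw [e, mul_assoc]
      exact hL _ _ hb
  have := key 1 h1
  have e : cc 𝒯 (1 : Γ(S, U)) = 1 := map_one _
  rwa [e, one_mul] at this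

/-- **Generation in degrees `0` and `1` is local** on a finite cover by basic opens. -/
theorem gen_of_local (s : Finset Γ(S, U)) (hs : Ideal.span (s : Set Γ(S, U)) = ⊤)
    (h : ∀ r ∈ s, Subring.closure
      ((𝒯.deg (S.basicOpen r) (hU.basicOpen r) 0 : Set (𝒯.presheaf.obj (op (S.basicOpen r)))) ∪
        (𝒯.deg (S.basicOpen r) (hU.basicOpen r) 1 : Set _)) = ⊤) :
    Subring.closure ((𝒯.deg U hU 0 : Set (𝒯.presheaf.obj (op U))) ∪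
      (𝒯.deg U hU 1 : Set _)) = ⊤ := by
  obtain ⟨G, hG⟩ : ∃ G : Subring (𝒯.presheaf.obj (op U)), G = Subring.closure
      ((𝒯.deg U hU 0 : Set (𝒯.presheaf.obj (op U))) ∪ (𝒯.deg U hU 1 : Set _)) := ⟨_, rfl⟩
  rw [← hG, eq_top_iff]
  rintro x -
  have hcc : ∀ a : Γ(S, U), cc 𝒯 a ∈ G := fun a => by
    rw [hG]
    exact Subring.subset_closure (Or.inl (cc_mem 𝒯 hU a))
  have h01 : ∀ z : 𝒯.presheaf.obj (op U), (z ∈ 𝒯.deg U hU 0 ∨ z ∈ 𝒯.deg U hU 1) → z ∈ G := by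
    intro z hz
    rw [hG]
    exact Subring.subset_closure hz
  refine mem_of_span 𝒯 G.toAddSubgroup (fun a y hy => G.mul_mem (hcc a) hy) s hs x (fun r hr => ?_)
  -- every element of the closure over `D(r)` comes from `G`, up to a power of `r`
  have key : ∀ w ∈ Subring.closure
      ((𝒯.deg (S.basicOpen r) (hU.basicOpen r) 0 : Set (𝒯.presheaf.obj (op (S.basicOpen r)))) ∪
        (𝒯.deg (S.basicOpen r) (hU.basicOpen r) 1 : Set _)),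
      ∃ (n : ℕ) (g : 𝒯.presheaf.obj (op U)), g ∈ G ∧ ρ 𝒯 r g = ρ 𝒯 r (cc 𝒯 r) ^ n * w := by
    intro w hw
    refine Subring.closure_induction (p := fun w _ => ∃ (n : ℕ) (g : 𝒯.presheaf.obj (op U)),
      g ∈ G ∧ ρ 𝒯 r g = ρ 𝒯 r (cc 𝒯 r) ^ n * w) ?_ ?_ ?_ ?_ ?_ ?_ hw
    · intro y hy
      rcases hy with hy | hy
      · obtain ⟨n, z, hz, hzy⟩ := exists_homog 𝒯 hU r hy
        exact ⟨n, z, h01 z (Or.inl hz), hzy⟩
      · obtain ⟨n, z, hz, hzy⟩ := exists_homog 𝒯 hU r hy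
        exact ⟨n, z, h01 z (Or.inr hz), hzy⟩
    · exact ⟨0, 0, G.zero_mem, by rw [map_zero, mul_zero]⟩
    · exact ⟨0, 1, G.one_mem, by rw [map_one, pow_zero, one_mul]⟩
    · rintro y z _ _ ⟨n₁, g₁, hg₁, e₁⟩ ⟨n₂, g₂, hg₂, e₂⟩
      refine ⟨n₁ + n₂, cc 𝒯 r ^ n₂ * g₁ + cc 𝒯 r ^ n₁ * g₂,
        G.add_mem (G.mul_mem (G.pow_mem (hcc r) _) hg₁) (G.mul_mem (G.pow_mem (hcc r) _) hg₂), ?_⟩
      rw [map_add, map_mul, map_mul, map_pow, map_pow, e₁, e₂, pow_add]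
      ring
    · rintro y _ ⟨n, g, hg, e⟩
      exact ⟨n, -g, G.neg_mem hg, by rw [map_neg, e, mul_neg]⟩
    · rintro y z _ _ ⟨n₁, g₁, hg₁, e₁⟩ ⟨n₂, g₂, hg₂, e₂⟩
      refine ⟨n₁ + n₂, g₁ * g₂, G.mul_mem hg₁ hg₂, ?_⟩
      rw [map_mul, e₁, e₂, pow_add]
      ring
  obtain ⟨n, g, hg, hgx⟩ := key (ρ 𝒯 r x) (by rw [h r hr]; trivial)
  have h0 : ρ 𝒯 r (g - cc 𝒯 r ^ n * x) = 0 := by
    rw [map_sub, map_mul, map_pow, hgx, sub_self]
  obtain ⟨N, hN⟩ := exists_pow_mul_eq_zero 𝒯 hU r _ h0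
  refine ⟨N + n, ?_⟩
  have e : cc 𝒯 r ^ (N + n) * x = cc 𝒯 r ^ N * g := by
    have : cc 𝒯 r ^ N * g - cc 𝒯 r ^ (N + n) * x = 0 := by
      rw [← hN, pow_add]; ring
    exact (sub_eq_zero.mp this).symm
  show cc 𝒯 r ^ (N + n) * x ∈ G
  rw [e]
  exact G.mul_mem (G.pow_mem (hcc r) _) hg

section FT

/-- the combinations of a set of elements with coefficients in the functions -/
def comb (T : Set (𝒯.presheaf.obj (op U))) : AddSubgroup (𝒯.presheaf.obj (op U)) :=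
  AddSubgroup.closure {y | ∃ (a : Γ(S, U)) (t : 𝒯.presheaf.obj (op U)), t ∈ T ∧ y = cc 𝒯 a * t}

theorem comb_mono {T T' : Set (𝒯.presheaf.obj (op U))} (h : T ⊆ T') : comb 𝒯 T ≤ comb 𝒯 T' :=
  AddSubgroup.closure_mono (fun _ ⟨a, t, ht, e⟩ => ⟨a, t, h ht, e⟩)

theorem mul_mem_comb {T : Set (𝒯.presheaf.obj (op U))} (a : Γ(S, U))
    {t : 𝒯.presheaf.obj (op U)} (ht : t ∈ T) : cc 𝒯 a * t ∈ comb 𝒯 T :=
  AddSubgroup.subset_closure ⟨a, t, ht, rfl⟩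

theorem cc_mul_mem_comb {T : Set (𝒯.presheaf.obj (op U))} (a : Γ(S, U))
    {x : 𝒯.presheaf.obj (op U)} (hx : x ∈ comb 𝒯 T) : cc 𝒯 a * x ∈ comb 𝒯 T := by
  refine AddSubgroup.closure_induction (p := fun x _ => cc 𝒯 a * x ∈ comb 𝒯 T) ?_ ?_ ?_ ?_ hx
  · rintro _ ⟨b, t, ht, rfl⟩
    have e : cc 𝒯 a * (cc 𝒯 b * t) = cc 𝒯 (a * b) * t := by
      have : cc 𝒯 (a * b) = cc 𝒯 a * cc 𝒯 b := map_mul _ _ _
      rw [this, mul_assoc]
    rw [e]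
    exact mul_mem_comb 𝒯 _ ht
  · rw [mul_zero]; exact zero_mem _
  · intro x y _ _ hx hy
    rw [mul_add]; exact add_mem hx hy
  · intro x _ hx
    rw [mul_neg]; exact neg_mem hx

theorem exists_coeff_of_mem_comb (T : Finset (𝒯.presheaf.obj (op U)))
    {x : 𝒯.presheaf.obj (op U)} (hx : x ∈ comb 𝒯 (T : Set (𝒯.presheaf.obj (op U)))) :
    ∃ c : 𝒯.presheaf.obj (op U) → Γ(S, U), x = ∑ t ∈ T, (𝒯.str.app (op U)).hom (c t) * t := by
  classical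
  refine AddSubgroup.closure_induction (p := fun x _ => ∃ c : 𝒯.presheaf.obj (op U) → Γ(S, U),
    x = ∑ t ∈ T, (𝒯.str.app (op U)).hom (c t) * t) ?_ ?_ ?_ ?_ hx
  · rintro _ ⟨a, t, ht, rfl⟩
    refine ⟨fun t' => if t' = t then a else 0, ?_⟩
    rw [Finset.sum_eq_single_of_mem t (Finset.mem_coe.mp ht)]
    · show _ = (𝒯.str.app (op U)).hom (if t = t then a else 0) * t
      rw [if_pos rfl]; rfl
    · intro t' _ hne
      show (𝒯.str.app (op U)).hom (if t' = t then a else 0) * t' = 0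
      rw [if_neg hne, map_zero, zero_mul]
  · exact ⟨fun _ => 0, by simp⟩
  · rintro x y _ _ ⟨c₁, e₁⟩ ⟨c₂, e₂⟩
    refine ⟨fun t => c₁ t + c₂ t, ?_⟩
    rw [e₁, e₂, ← Finset.sum_add_distrib]
    refine Finset.sum_congr rfl (fun t _ => ?_)
    rw [map_add, add_mul]
  · rintro x _ ⟨c, e⟩
    refine ⟨fun t => - c t, ?_⟩
    rw [e, ← Finset.sum_neg_distrib]
    refine Finset.sum_congr rfl (fun t _ => ?_)
    rw [map_neg, neg_mul]

/-- the structure map commutes with restriction -/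
theorem ρ_cc (r a : Γ(S, U)) : ρ 𝒯 r (cc 𝒯 a) =
    (𝒯.str.app (op (S.basicOpen r))).hom
      ((S.presheaf.map (homOfLE (S.basicOpen_le r)).op).hom a) := by
  have h1 := 𝒯.str.naturality (homOfLE (S.basicOpen_le r)).op
  exact (congrArg (fun t => t.hom a) h1).symm

include hU in
/-- one term: `str(a) * t` over `D(r)` comes from `U` up to a power of `r` -/
theorem exists_term (r : Γ(S, U)) (a : Γ(S, S.basicOpen r))
    {t : 𝒯.presheaf.obj (op (S.basicOpen r))} {n : ℕ} {z : 𝒯.presheaf.obj (op U)}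
    (hz : ρ 𝒯 r z = ρ 𝒯 r (cc 𝒯 r) ^ n * t) :
    ∃ (m : ℕ) (b : Γ(S, U)), ρ 𝒯 r (cc 𝒯 b * z) =
      ρ 𝒯 r (cc 𝒯 r) ^ m * ((𝒯.str.app (op (S.basicOpen r))).hom a * t) := by
  letI := (S.presheaf.map (homOfLE (S.basicOpen_le r)).op).hom.toAlgebra
  have hloc : IsLocalization.Away r Γ(S, S.basicOpen r) := hU.isLocalization_basicOpen r
  obtain ⟨⟨b, sden, hsden⟩, hb⟩ := IsLocalization.surj (Submonoid.powers r) a
  obtain ⟨k, rfl⟩ := (Submonoid.mem_powers_iff _ _).mp hsden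
  change a * (S.presheaf.map (homOfLE (S.basicOpen_le r)).op).hom (r ^ k) =
    (S.presheaf.map (homOfLE (S.basicOpen_le r)).op).hom b at hb
  refine ⟨k + n, b, ?_⟩
  rw [map_mul, hz, ρ_cc, ← hb, map_mul, ρ_cc 𝒯 r r, map_pow, map_pow, pow_add]
  ring

end FT

section FT2

theorem cc_pow (r : Γ(S, U)) (k : ℕ) : cc 𝒯 r ^ k = cc 𝒯 (r ^ k) := (map_pow _ _ _).symm

/-- generators of the degree-`d` part over `D(r)` give, up to powers of `r`, generators over `U` -/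
theorem exists_local_gens (d : ℕ) (r : Γ(S, U))
    (T : Finset (𝒯.presheaf.obj (op (S.basicOpen r))))
    (hT : (↑T : Set (𝒯.presheaf.obj (op (S.basicOpen r)))) ⊆
      (𝒯.deg (S.basicOpen r) (hU.basicOpen r) d : Set _))
    (hgen : ∀ x ∈ 𝒯.deg (S.basicOpen r) (hU.basicOpen r) d,
      ∃ c : 𝒯.presheaf.obj (op (S.basicOpen r)) → Γ(S, S.basicOpen r),
        x = ∑ t ∈ T, (𝒯.str.app (op (S.basicOpen r))).hom (c t) * t) :
    ∃ T' : Finset (𝒯.presheaf.obj (op U)),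
      (↑T' : Set (𝒯.presheaf.obj (op U))) ⊆ (𝒯.deg U hU d : Set _) ∧
      ∀ x ∈ 𝒯.deg U hU d, ∃ N : ℕ,
        cc 𝒯 r ^ N * x ∈ comb 𝒯 (↑T' : Set (𝒯.presheaf.obj (op U))) := by
  classical
  have h1 : ∀ t : 𝒯.presheaf.obj (op (S.basicOpen r)), ∃ (n : ℕ) (z : 𝒯.presheaf.obj (op U)),
      t ∈ T → (z ∈ 𝒯.deg U hU d ∧ ρ 𝒯 r z = ρ 𝒯 r (cc 𝒯 r) ^ n * t) := by
    intro t
    by_cases ht : t ∈ T
    · obtain ⟨n, z, hz, hzt⟩ := exists_homog 𝒯 hU r (hT (Finset.mem_coe.mpr ht))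
      exact ⟨n, z, fun _ => ⟨hz, hzt⟩⟩
    · exact ⟨0, 0, fun h => absurd h ht⟩
  choose n z hz using h1
  refine ⟨T.image z, ?_, ?_⟩
  · intro y hy
    obtain ⟨t, ht, rfl⟩ := Finset.mem_image.mp (Finset.mem_coe.mp hy)
    exact (hz t ht).1
  · intro x hx
    obtain ⟨c, hc⟩ := hgen (ρ 𝒯 r x) (ρ_mem 𝒯 hU r hx)
    have h2 : ∀ t : 𝒯.presheaf.obj (op (S.basicOpen r)), ∃ (m : ℕ) (b : Γ(S, U)),
        t ∈ T → ρ 𝒯 r (cc 𝒯 b * z t) =
          ρ 𝒯 r (cc 𝒯 r) ^ m * ((𝒯.str.app (op (S.basicOpen r))).hom (c t) * t) := by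
      intro t
      by_cases ht : t ∈ T
      · obtain ⟨m, b, hmb⟩ := exists_term 𝒯 hU r (c t) (hz t ht).2
        exact ⟨m, b, fun _ => hmb⟩
      · exact ⟨0, 0, fun h => absurd h ht⟩
    choose m b hmb using h2
    obtain ⟨M, hM⟩ : ∃ M : ℕ, ∀ t ∈ T, m t ≤ M := ⟨T.sup m, fun t ht => Finset.le_sup ht⟩
    obtain ⟨w, hw⟩ : ∃ w : 𝒯.presheaf.obj (op U),
        w = ∑ t ∈ T, cc 𝒯 r ^ (M - m t) * (cc 𝒯 (b t) * z t) := ⟨_, rfl⟩
    have hwmem : w ∈ comb 𝒯 (↑(T.image z) : Set (𝒯.presheaf.obj (op U))) := by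
      rw [hw]
      refine sum_mem (fun t ht => ?_)
      rw [cc_pow]
      exact cc_mul_mem_comb 𝒯 _ (mul_mem_comb 𝒯 _
        (Finset.mem_coe.mpr (Finset.mem_image_of_mem z ht)))
    have h3 : ρ 𝒯 r (cc 𝒯 r ^ M * x) = ρ 𝒯 r w := by
      rw [map_mul, map_pow, hc, hw, map_sum, Finset.mul_sum]
      refine Finset.sum_congr rfl (fun t ht => ?_)
      rw [map_mul, map_pow, hmb t ht]
      have e : ρ 𝒯 r (cc 𝒯 r) ^ M = ρ 𝒯 r (cc 𝒯 r) ^ (M - m t) * ρ 𝒯 r (cc 𝒯 r) ^ m t := by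
        rw [← pow_add, Nat.sub_add_cancel (hM t ht)]
      rw [e]
      ring
    have h0 : ρ 𝒯 r (cc 𝒯 r ^ M * x - w) = 0 := by rw [map_sub, h3, sub_self]
    obtain ⟨N, hN⟩ := exists_pow_mul_eq_zero 𝒯 hU r _ h0
    refine ⟨N + M, ?_⟩
    have e : cc 𝒯 r ^ (N + M) * x = cc 𝒯 r ^ N * w := by
      have : cc 𝒯 r ^ (N + M) * x - cc 𝒯 r ^ N * w = 0 := by
        rw [← hN, pow_add]; ring
      exact sub_eq_zero.mp this
    rw [e, cc_pow]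
    exact cc_mul_mem_comb 𝒯 _ hwmem

/-- **Finite type of a graded piece is local** on a finite cover by basic opens. -/
theorem ft_of_local (d : ℕ) (s : Finset Γ(S, U)) (hs : Ideal.span (s : Set Γ(S, U)) = ⊤)
    (h : ∀ r ∈ s, ∃ T : Finset (𝒯.presheaf.obj (op (S.basicOpen r))),
      (↑T : Set (𝒯.presheaf.obj (op (S.basicOpen r)))) ⊆
        (𝒯.deg (S.basicOpen r) (hU.basicOpen r) d : Set _) ∧
      ∀ x ∈ 𝒯.deg (S.basicOpen r) (hU.basicOpen r) d,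
        ∃ c : 𝒯.presheaf.obj (op (S.basicOpen r)) → Γ(S, S.basicOpen r),
          x = ∑ t ∈ T, (𝒯.str.app (op (S.basicOpen r))).hom (c t) * t) :
    ∃ T : Finset (𝒯.presheaf.obj (op U)),
      (↑T : Set (𝒯.presheaf.obj (op U))) ⊆ (𝒯.deg U hU d : Set _) ∧
      ∀ x ∈ 𝒯.deg U hU d, ∃ c : 𝒯.presheaf.obj (op U) → Γ(S, U),
        x = ∑ t ∈ T, (𝒯.str.app (op U)).hom (c t) * t := by
  classical
  have h1 : ∀ r : Γ(S, U), ∃ T' : Finset (𝒯.presheaf.obj (op U)), r ∈ s →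
      ((↑T' : Set (𝒯.presheaf.obj (op U))) ⊆ (𝒯.deg U hU d : Set _) ∧
      ∀ x ∈ 𝒯.deg U hU d, ∃ N : ℕ,
        cc 𝒯 r ^ N * x ∈ comb 𝒯 (↑T' : Set (𝒯.presheaf.obj (op U)))) := by
    intro r
    by_cases hr : r ∈ s
    · obtain ⟨T, hT, hgen⟩ := h r hr
      obtain ⟨T', hT', hT'gen⟩ := exists_local_gens 𝒯 hU d r T hT hgen
      exact ⟨T', fun _ => ⟨hT', hT'gen⟩⟩
    · exact ⟨∅, fun h => absurd h hr⟩
  choose T' hT' using h1
  refine ⟨s.biUnion T', ?_, ?_⟩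
  · intro y hy
    obtain ⟨r, hr, hyr⟩ := Finset.mem_biUnion.mp (Finset.mem_coe.mp hy)
    exact (hT' r hr).1 (Finset.mem_coe.mpr hyr)
  · intro x hx
    refine exists_coeff_of_mem_comb 𝒯 _ ?_
    refine mem_of_span 𝒯 _ (fun a y hy => cc_mul_mem_comb 𝒯 a hy) s hs x (fun r hr => ?_)
    obtain ⟨N, hN⟩ := (hT' r hr).2 x hx
    refine ⟨N, comb_mono 𝒯 ?_ hN⟩
    intro y hy
    exact Finset.mem_coe.mpr (Finset.mem_biUnion.mpr ⟨r, hr, Finset.mem_coe.mp hy⟩)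

end FT2

end Groth.Agent.QCGrLoc
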