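import Mathlib
import Groth.Prelude
import Groth.Agent.Lib.ClProj1_helper5
import Groth.Agent.Lib.ProjKer_helper5
import Groth.Agent.Lib.QCGrLoc_helper5
import Groth.Agent.Lib.GenDegOne_helper3

/-!
# Closed subschemes of a relative `Proj`, part 2: the ideals over the affine opens  (helper5)
APPEND-ONLY once landed.
-/

set_option autoImplicit false
universe u
open CategoryTheory CategoryTheory.Limits AlgebraicGeometry TopologicalSpace Opposite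

noncomputable section

namespace Groth.Agent.ClProj

open Groth.Agent.Lib.ProjClosed_helper3 Groth.Agent.ProjKer Groth.Agent.QCGrLoc

variable {Y : Scheme.{u}} (𝒮 : RelProj.QCGrAlg Y) {P : Scheme.{u}} (p : P ⟶ Y)
  (chart : ∀ (U : Y.Opens) (hU : IsAffineOpen U),
    (((p ⁻¹ᵁ U : P.Opens) : Scheme.{u}) ≅ Proj (𝒮.deg U hU)))
  {X : Scheme.{u}} (i : X ⟶ P)

/-- The structure morphism of `X`. -/
abbrev fmap : X ⟶ Y := i ≫ p

/-- The restriction of `i` over the open `U` of `Y`. -/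
def iU (U : Y.Opens) : (fmap p i ⁻¹ᵁ U).toScheme ⟶ (p ⁻¹ᵁ U).toScheme := i ∣_ (p ⁻¹ᵁ U)

theorem iU_ι (U : Y.Opens) : iU p i U ≫ (p ⁻¹ᵁ U).ι = (fmap p i ⁻¹ᵁ U).ι ≫ i :=
  morphismRestrict_ι i (p ⁻¹ᵁ U)

instance isClosedImmersion_iU [IsClosedImmersion i] (U : Y.Opens) :
    IsClosedImmersion (iU p i U) :=
  inferInstanceAs (IsClosedImmersion (i ∣_ (p ⁻¹ᵁ U)))

theorem iU_res {U V : Y.Opens} (h : V ≤ U) :
    X.homOfLE ((fmap p i).preimage_mono h) ≫ iU p i U =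
      iU p i V ≫ P.homOfLE (p.preimage_mono h) := by
  rw [← cancel_mono (p ⁻¹ᵁ U).ι, Category.assoc, Category.assoc, iU_ι, Scheme.homOfLE_ι,
    iU_ι, Scheme.homOfLE_ι_assoc]

/-- The part of `X` over the affine open `U`, as a subscheme of `Proj 𝒮(U)`. -/
def rP (U : Y.Opens) (hU : IsAffineOpen U) :
    (fmap p i ⁻¹ᵁ U).toScheme ⟶ Proj (𝒮.deg U hU) :=
  iU p i U ≫ (chart U hU).hom

instance isClosedImmersion_rP [IsClosedImmersion i] (U : Y.Opens) (hU : IsAffineOpen U) :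
    IsClosedImmersion (rP 𝒮 p chart i U hU) := by
  unfold rP
  infer_instance

variable {𝒮 p chart}

theorem rP_over (hP : RelProj.IsRelProj 𝒮 p chart) (U : Y.Opens) (hU : IsAffineOpen U) :
    rP 𝒮 p chart i U hU ≫ Proj.toSpecZero (𝒮.deg U hU) ≫ Spec.map (𝒮.strZero U hU) ≫
      hU.fromSpec = (fmap p i ⁻¹ᵁ U).ι ≫ fmap p i := by
  unfold rP
  rw [Category.assoc, hP.chart_over U hU, ← Category.assoc, iU_ι, Category.assoc]

theorem rP_res (hP : RelProj.IsRelProj 𝒮 p chart) (U : Y.Opens) (hU : IsAffineOpen U)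
    (r : Γ(Y, U)) :
    X.homOfLE ((fmap p i).preimage_mono (Y.basicOpen_le r)) ≫ rP 𝒮 p chart i U hU =
      rP 𝒮 p chart i (Y.basicOpen r) (hU.basicOpen r) ≫
        Proj.map (𝒮.res hU (hU.basicOpen r) (Y.basicOpen_le r)) (𝒮.irrelevant_le_map U hU r) := by
  unfold rP
  rw [← Category.assoc, iU_res p i (Y.basicOpen_le r), Category.assoc, hP.chart_res U hU r,
    Category.assoc]

section Ideal
variable [IsClosedImmersion i]
variable (𝒮 p chart)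

/-- The (saturated) homogeneous ideal of `X ∩ p⁻¹U` in `𝒮(U)`. -/
def idealU (U : Y.Opens) (hU : IsAffineOpen U) : Ideal (𝒮.presheaf.obj (op U)) :=
  satIdeal (𝒮.deg U hU) (Jfam (𝒮.deg U hU) (rP 𝒮 p chart i U hU).ker)

theorem compat_J (U : Y.Opens) (hU : IsAffineOpen U) :
    Compat (𝒮.deg U hU) (Jfam (𝒮.deg U hU) (rP 𝒮 p chart i U hU).ker) :=
  fun _ _ _ hf hg hx => Jfam_compat (𝒮.deg U hU) _ hf one_pos hg hx

theorem idealU_isHomogeneous (U : Y.Opens) (hU : IsAffineOpen U) :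
    (idealU 𝒮 p chart i U hU).IsHomogeneous (𝒮.deg U hU) :=
  satIdeal_isHomogeneous _ _

omit [IsClosedImmersion i] in
theorem exists_inv_cc {U : Y.Opens} (hU : IsAffineOpen U) (r : Γ(Y, U)) :
    ∃ w ∈ 𝒮.deg (Y.basicOpen r) (hU.basicOpen r) 0, w * ρ 𝒮 r (cc 𝒮 r) = 1 := by
  have hu : IsUnit ((Y.presheaf.map (homOfLE (Y.basicOpen_le r)).op).hom r) :=
    Y.toRingedSpace.isUnit_res_basicOpen r
  obtain ⟨v, hv⟩ := hu.exists_left_inv
  refine ⟨(𝒮.str.app (op (Y.basicOpen r))).hom v, 𝒮.str_mem _ (hU.basicOpen r) v, ?_⟩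
  rw [ρ_cc, ← map_mul, hv, map_one]

variable {𝒮 p chart}

/-- (N1) for basic opens: the ideals are compatible with restriction. -/
theorem idealU_le_comap_basic (hP : RelProj.IsRelProj 𝒮 p chart) (U : Y.Opens)
    (hU : IsAffineOpen U) (r : Γ(Y, U)) (a : 𝒮.presheaf.obj (op U))
    (ha : a ∈ idealU 𝒮 p chart i U hU) :
    ρ 𝒮 r a ∈ idealU 𝒮 p chart i (Y.basicOpen r) (hU.basicOpen r) := by
  classical
  refine (mem_satIdeal_iff _ _).mpr fun k g hg => ?_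
  obtain ⟨n, z, hz, hzg⟩ := exists_homog 𝒮 hU r hg
  have h1 := (mem_satIdeal_iff _ _).mp ha k z hz
  have h2 := inJ_map (𝒮.res hU (hU.basicOpen r) (Y.basicOpen_le r))
    (𝒮.irrelevant_le_map U hU r) (rP 𝒮 p chart i U hU)
    (rP 𝒮 p chart i (Y.basicOpen r) (hU.basicOpen r))
    (X.homOfLE ((fmap p i).preimage_mono (Y.basicOpen_le r))) (rP_res i hP U hU r) hz one_pos
    (ρ 𝒮 r z) rfl k _ h1
  rw [GradedRingHom.map_directSumDecompose] at h2
  obtain ⟨w, hw, hwu⟩ := exists_inv_cc 𝒮 hU r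
  have hg' : g = ∑ t ∈ ({ρ 𝒮 r z} : Finset (𝒮.presheaf.obj (op (Y.basicOpen r)))),
      (fun _ => w ^ n) t * t := by
    rw [Finset.sum_singleton, hzg, ← mul_assoc, ← mul_pow, hwu, one_pow, one_mul]
  have hwn : w ^ n ∈ 𝒮.deg (Y.basicOpen r) (hU.basicOpen r) 0 := by
    have := SetLike.pow_mem_graded n hw
    rwa [smul_zero] at this
  refine inJ_of_gens _ _ (compat_J 𝒮 p chart i _ _) {ρ 𝒮 r z} (fun t ht => ?_) hg
    (fun _ => w ^ n) (fun _ => hwn) hg' (SetLike.coe_mem _) (fun f hf => ?_)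
  · rw [Finset.mem_singleton.mp ht]
    exact ρ_mem 𝒮 hU r hz
  · rw [Finset.mem_singleton.mp hf]
    exact h2

theorem opensRange_homOfLE_eq (hP : RelProj.IsRelProj 𝒮 p chart) (U : Y.Opens)
    (hU : IsAffineOpen U) (r : Γ(Y, U)) :
    (X.homOfLE ((fmap p i).preimage_mono (Y.basicOpen_le r))).opensRange =
      (rP 𝒮 p chart i U hU ≫ Proj.toSpecZero (𝒮.deg U hU)) ⁻¹ᵁ
        (PrimeSpectrum.basicOpen ((𝒮.strZero U hU).hom r) :
          (Spec (CommRingCat.of (𝒮.deg U hU 0))).Opens) := by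
  rw [Scheme.opensRange_homOfLE]
  have h1 : (fmap p i ⁻¹ᵁ U).ι ≫ fmap p i =
      (rP 𝒮 p chart i U hU ≫ Proj.toSpecZero (𝒮.deg U hU)) ≫
        Spec.map (𝒮.strZero U hU) ≫ hU.fromSpec := by
    rw [← rP_over i hP U hU]
    simp only [Category.assoc]
  show ((fmap p i ⁻¹ᵁ U).ι ≫ fmap p i) ⁻¹ᵁ Y.basicOpen r = _
  rw [h1]
  show (rP 𝒮 p chart i U hU ≫ Proj.toSpecZero (𝒮.deg U hU)) ⁻¹ᵁ
    (Spec.map (𝒮.strZero U hU) ⁻¹ᵁ (hU.fromSpec ⁻¹ᵁ Y.basicOpen r)) = _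
  rw [hU.fromSpec_preimage_basicOpen]
  rfl

/-- (N2) the ideals localise. -/
theorem idealU_loc (hP : RelProj.IsRelProj 𝒮 p chart) (hft : 𝒮.IsFTDeg 1) (U : Y.Opens)
    (hU : IsAffineOpen U) (r : Γ(Y, U)) (a : 𝒮.presheaf.obj (op U))
    (ha : ρ 𝒮 r a ∈ idealU 𝒮 p chart i (Y.basicOpen r) (hU.basicOpen r)) :
    ∃ N : ℕ, cc 𝒮 r ^ N * a ∈ idealU 𝒮 p chart i U hU := by
  obtain ⟨T, hT, hspan⟩ := hft U hU
  have hspan0 : ∀ x ∈ 𝒮.deg U hU 1, ∃ c : 𝒮.presheaf.obj (op U) → 𝒮.presheaf.obj (op U),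
      (∀ t, c t ∈ 𝒮.deg U hU 0) ∧ x = ∑ t ∈ T, c t * t := fun x hx => by
    obtain ⟨c, hc⟩ := hspan x hx
    exact ⟨fun t => (𝒮.str.app (op U)).hom (c t), fun t => 𝒮.str_mem U hU _, hc⟩
  unfold idealU
  rw [satIdeal_eq_bigIdeal _ _ (compat_J 𝒮 p chart i U hU) T hT hspan0]
  refine exists_pow_mul_mem_bigIdeal (𝒮.deg U hU) _ T hT (cc_mem 𝒮 hU r) a (fun k f hf => ?_)
  have hf1 : f ∈ 𝒮.deg U hU 1 := hT (Finset.mem_coe.mpr hf)
  have h1 := (mem_satIdeal_iff _ _).mp ha k (ρ 𝒮 r f) (ρ_mem 𝒮 hU r hf1)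
  have hak : ((DirectSum.decompose (𝒮.deg U hU) a k : 𝒮.deg U hU k) :
      𝒮.presheaf.obj (op U)) ∈ 𝒮.deg U hU (k • 1) := by
    rw [smul_eq_mul, mul_one]
    exact SetLike.coe_mem _
  refine inJ_loc (𝒮.res hU (hU.basicOpen r) (Y.basicOpen_le r))
    (𝒮.irrelevant_le_map U hU r) (rP 𝒮 p chart i U hU)
    (rP 𝒮 p chart i (Y.basicOpen r) (hU.basicOpen r))
    (X.homOfLE ((fmap p i).preimage_mono (Y.basicOpen_le r))) (rP_res i hP U hU r)
    ((𝒮.strZero U hU).hom r) (opensRange_homOfLE_eq i hP U hU r) hf1 one_pos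
    (ρ 𝒮 r f) rfl k _ hak ?_
  rw [GradedRingHom.map_directSumDecompose]
  exact h1

omit [IsClosedImmersion i] in
/-- transport along an equality of opens -/
theorem idealU_transport {U W W' : Y.Opens} (h : W = W') (hW : IsAffineOpen W)
    (hW' : IsAffineOpen W') (hWU : W ≤ U) (hW'U : W' ≤ U) (a : 𝒮.presheaf.obj (op U))
    (ha : (𝒮.presheaf.map (homOfLE hWU).op).hom a ∈ idealU 𝒮 p chart i W hW) :
    (𝒮.presheaf.map (homOfLE hW'U).op).hom a ∈ idealU 𝒮 p chart i W' hW' := by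
  subst h
  exact ha

/-- (N1) the ideals are compatible with restriction to any smaller affine open. -/
theorem idealU_le_comap (hP : RelProj.IsRelProj 𝒮 p chart) (hft : 𝒮.IsFTDeg 1) {U V : Y.Opens}
    (hU : IsAffineOpen U) (hV : IsAffineOpen V) (h : V ≤ U) (a : 𝒮.presheaf.obj (op U))
    (ha : a ∈ idealU 𝒮 p chart i U hU) :
    (𝒮.presheaf.map (homOfLE h).op).hom a ∈ idealU 𝒮 p chart i V hV := by
  obtain ⟨s₀, hs₀⟩ : ∃ s₀ : Set Γ(Y, V), s₀ = {s | ∃ r : Γ(Y, U), Y.basicOpen r ≤ V ∧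
      s = (Y.presheaf.map (homOfLE h).op).hom r} := ⟨_, rfl⟩
  have hspan : Ideal.span s₀ = ⊤ := by
    rw [← hV.self_le_iSup_basicOpen_iff]
    intro x hx
    obtain ⟨r, hr, hxr⟩ := hU.exists_basicOpen_le (V := V) ⟨x, hx⟩ (h hx)
    refine Opens.mem_iSup.mpr ⟨⟨(Y.presheaf.map (homOfLE h).op).hom r, ?_⟩, ?_⟩
    · rw [hs₀]
      exact ⟨r, hr, rfl⟩
    · rw [Scheme.basicOpen_res]
      exact ⟨hx, hxr⟩
  obtain ⟨s, hs, hspan'⟩ := (Ideal.span_eq_top_iff_finite s₀).mp hspan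
  refine mem_of_span 𝒮 (idealU 𝒮 p chart i V hV).toAddSubgroup
    (fun c x hx => Ideal.mul_mem_left _ _ hx) s hspan' _ (fun s' hs' => ?_)
  have hs'' := hs (Finset.mem_coe.mpr hs')
  rw [hs₀] at hs''
  obtain ⟨r, hr, rfl⟩ := hs''
  have hW : Y.basicOpen ((Y.presheaf.map (homOfLE h).op).hom r) = Y.basicOpen r := by
    rw [Scheme.basicOpen_res]
    exact inf_eq_right.mpr hr
  apply idealU_loc i hP hft V hV
  have h1 := idealU_le_comap_basic i hP U hU r a ha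
  have h2 := idealU_transport i hW.symm (hU.basicOpen r) (hV.basicOpen _) (Y.basicOpen_le r)
    (le_trans (Y.basicOpen_le _) h) a h1
  have e : ρ 𝒮 ((Y.presheaf.map (homOfLE h).op).hom r) ((𝒮.presheaf.map (homOfLE h).op).hom a) =
      (𝒮.presheaf.map (homOfLE (le_trans (Y.basicOpen_le
        ((Y.presheaf.map (homOfLE h).op).hom r)) h)).op).hom a := by
    unfold ρ
    rw [← CommRingCat.comp_apply, ← Functor.map_comp]
    rfl
  rw [e]
  exact h2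

end Ideal

end Groth.Agent.ClProj
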