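import Mathlib
import Groth.Prelude
import Groth.Agent.Lib.ClProj2_helper5
import Groth.Agent.Lib.QCQuot_helper5
import Groth.Agent.Lib.QCCons3_helper5

/-!
# Closed subschemes of a relative `Proj`, part 3: the graded quotient algebra  (helper5)
APPEND-ONLY once landed.
-/

set_option autoImplicit false
universe u
open CategoryTheory CategoryTheory.Limits AlgebraicGeometry TopologicalSpace Opposite

noncomputable section

namespace Groth.Agent.ClProj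

open Groth.Agent.Lib.ProjClosed_helper3 Groth.Agent.ProjKer Groth.Agent.QCGrLoc Groth.Agent.QCQuot

theorem sum_image_coeff {R B ι : Type*} [CommRing R] [CommRing B] [DecidableEq B] (φ : R →+* B)
    (T₀ : Finset ι) (m : ι → B) (c : ι → R) :
    ∃ c' : B → R, ∑ t ∈ T₀, φ (c t) * m t = ∑ b ∈ T₀.image m, φ (c' b) * b := by
  refine ⟨fun b => ∑ t ∈ T₀.filter (fun t => m t = b), c t, ?_⟩
  symm
  refine Finset.sum_image' (fun t => φ (c t) * m t) (fun t _ => ?_)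
  rw [map_sum, Finset.sum_mul]
  refine Finset.sum_congr rfl (fun a ha => ?_)
  rw [(Finset.mem_filter.mp ha).2]

variable {Y : Scheme.{u}} (𝒮 : RelProj.QCGrAlg Y) {P : Scheme.{u}} (p : P ⟶ Y)
  (chart : ∀ (U : Y.Opens) (hU : IsAffineOpen U),
    (((p ⁻¹ᵁ U : P.Opens) : Scheme.{u}) ≅ Proj (𝒮.deg U hU)))
  {X : Scheme.{u}} (i : X ⟶ P) [IsClosedImmersion i]

variable (Y) in
/-- The structure presheaf on the affine opens. -/
abbrev OS : Y.AffineZariskiSiteᵒᵖ ⥤ CommRingCat.{u} :=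
  (Scheme.AffineZariskiSite.toOpensFunctor Y).op ⋙ Y.presheaf

/-- `𝒮` on the affine opens. -/
abbrev PS : Y.AffineZariskiSiteᵒᵖ ⥤ CommRingCat.{u} :=
  (Scheme.AffineZariskiSite.toOpensFunctor Y).op ⋙ 𝒮.presheaf

/-- The structure map on the affine opens. -/
def αP : OS Y ⟶ PS 𝒮 where
  app U := 𝒮.str.app ((Scheme.AffineZariskiSite.toOpensFunctor Y).op.obj U)
  naturality _ _ j := 𝒮.str.naturality ((Scheme.AffineZariskiSite.toOpensFunctor Y).op.map j)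

theorem coequifibered_αP : (αP 𝒮).Coequifibered := by
  refine Scheme.AffineZariskiSite.coequifibered_iff_forall_isLocalizationAway.mpr fun U r => ?_
  exact 𝒮.isQC U.1 U.2 r

/-- The family of ideals. -/
def idealJ (j : Y.AffineZariskiSiteᵒᵖ) : Ideal ((PS 𝒮).obj j) :=
  idealU 𝒮 p chart i j.unop.1 j.unop.2

variable {𝒮 p chart}
variable (hP : RelProj.IsRelProj 𝒮 p chart) (hft : 𝒮.IsFTDeg 1)

include hP hft in
theorem idealJ_le {j k : Y.AffineZariskiSiteᵒᵖ} (f : j ⟶ k) :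
    idealJ 𝒮 p chart i j ≤ (idealJ 𝒮 p chart i k).comap ((PS 𝒮).map f).hom := fun a ha =>
  idealU_le_comap i hP hft j.unop.2 k.unop.2
    (Scheme.AffineZariskiSite.toOpens_mono (leOfHom f.unop)) a ha

include hP hft in
theorem idealJ_loc (U : Y.AffineZariskiSite) (r : Γ(Y, U.1)) (a : (PS 𝒮).obj (op U))
    (ha : ((PS 𝒮).map (homOfLE (U.basicOpen_le r)).op).hom a ∈
      idealJ 𝒮 p chart i (op (U.basicOpen r))) :
    ∃ N : ℕ, ((αP 𝒮).app (op U)).hom r ^ N * a ∈ idealJ 𝒮 p chart i (op U) :=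
  idealU_loc i hP hft U.1 U.2 r a ha

/-- The functor `U ↦ 𝒮(U)/I_U`. -/
def FQ : Y.AffineZariskiSiteᵒᵖ ⥤ CommRingCat.{u} :=
  quotFunctor (PS 𝒮) (idealJ 𝒮 p chart i) (fun f => idealJ_le i hP hft f)

/-- The structure map of `FQ`. -/
def αQ : OS Y ⟶ FQ i hP hft :=
  αP 𝒮 ≫ quotNat (PS 𝒮) (idealJ 𝒮 p chart i) (fun f => idealJ_le i hP hft f)

theorem coequifibered_αQ : (αQ i hP hft).Coequifibered :=
  coequifibered_quot (idealJ 𝒮 p chart i) (fun f => idealJ_le i hP hft f) (coequifibered_αP 𝒮)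
    (idealJ_loc i hP hft)

section Grading

/-- The grading of `𝒮(U)/I_U`. -/
def grQ (U : Y.AffineZariskiSite) : ℕ → AddSubgroup ((FQ i hP hft).obj (op U)) :=
  qGr (𝒮.deg U.1 U.2) (idealU 𝒮 p chart i U.1 U.2)

instance grQ_gradedRing (U : Y.AffineZariskiSite) : GradedRing (grQ i hP hft U) :=
  qGr_gradedRing (𝒮.deg U.1 U.2) (idealU 𝒮 p chart i U.1 U.2)
    (idealU_isHomogeneous 𝒮 p chart i U.1 U.2)

/-- The quotient map `𝒮(U) → 𝒮(U)/I_U` as a graded homomorphism. -/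
def qH (U : Y.AffineZariskiSite) : 𝒮.deg U.1 U.2 →+*ᵍ grQ i hP hft U :=
  qHom (𝒮.deg U.1 U.2) (idealU 𝒮 p chart i U.1 U.2)

theorem qH_apply (U : Y.AffineZariskiSite) (a : 𝒮.presheaf.obj (op U.1)) :
    qH i hP hft U a = Ideal.Quotient.mk (idealU 𝒮 p chart i U.1 U.2) a := rfl

theorem qH_surjective (U : Y.AffineZariskiSite) : Function.Surjective (qH i hP hft U) :=
  Ideal.Quotient.mk_surjective

theorem qH_irr (U : Y.AffineZariskiSite) :
    HomogeneousIdeal.irrelevant (grQ i hP hft U) ≤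
      (HomogeneousIdeal.irrelevant (𝒮.deg U.1 U.2)).map (qH i hP hft U) :=
  Groth.Agent.Lib.GradedQuot_helper3.irrelevant_le_map_of_surjective _ (qH_surjective i hP hft U)

theorem grQ_hmap {U V : Y.AffineZariskiSite} (j : V ⟶ U) {d : ℕ}
    {x : (FQ i hP hft).obj (op U)} (hx : x ∈ grQ i hP hft U d) :
    ((FQ i hP hft).map j.op).hom x ∈ grQ i hP hft V d := by
  obtain ⟨a, ha, rfl⟩ := exists_of_mem_qGr (𝒮.deg U.1 U.2) (idealU 𝒮 p chart i U.1 U.2) hx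
  have h1 : ((FQ i hP hft).map j.op).hom (Ideal.Quotient.mk (idealU 𝒮 p chart i U.1 U.2) a) =
      Ideal.Quotient.mk (idealU 𝒮 p chart i V.1 V.2) (((PS 𝒮).map j.op).hom a) :=
    quotFunctor_map_mk (PS 𝒮) (idealJ 𝒮 p chart i) (fun f => idealJ_le i hP hft f) j.op a
  rw [h1]
  exact mk_mem_qGr (𝒮.deg V.1 V.2) (idealU 𝒮 p chart i V.1 V.2)
    (𝒮.map_mem U.2 V.2 (Scheme.AffineZariskiSite.toOpens_mono (leOfHom j)) ha)

theorem grQ_hstr (U : Y.AffineZariskiSite) (r : Γ(Y, U.1)) :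
    ((αQ i hP hft).app (op U)).hom r ∈ grQ i hP hft U 0 :=
  mk_mem_qGr (𝒮.deg U.1 U.2) (idealU 𝒮 p chart i U.1 U.2) (𝒮.str_mem U.1 U.2 r)

/-- The quasi-coherent graded algebra `𝒮/ℐ_X`. -/
def algQ : RelProj.QCGrAlg Y :=
  Groth.Agent.QCCons.grAlg (coequifibered_αQ i hP hft) (grQ i hP hft)
    (fun j _ _ hx => grQ_hmap i hP hft j hx) (grQ_hstr i hP hft)

theorem grQ_gen (hgen : 𝒮.IsGenDegOne) (U : Y.AffineZariskiSite) :
    Subring.closure ((grQ i hP hft U 0 : Set ((FQ i hP hft).obj (op U))) ∪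
      (grQ i hP hft U 1 : Set ((FQ i hP hft).obj (op U)))) = ⊤ := by
  rw [eq_top_iff]
  rintro x -
  obtain ⟨a, rfl⟩ := Ideal.Quotient.mk_surjective
    (I := idealU 𝒮 p chart i U.1 U.2) (x : 𝒮.presheaf.obj (op U.1) ⧸ idealU 𝒮 p chart i U.1 U.2)
  have h2 : a ∈ Subring.closure ((𝒮.deg U.1 U.2 0 : Set (𝒮.presheaf.obj (op U.1))) ∪
      (𝒮.deg U.1 U.2 1 : Set _)) := by
    rw [hgen U.1 U.2]
    trivial
  obtain ⟨K, hK⟩ : ∃ K : Subring (𝒮.presheaf.obj (op U.1) ⧸ idealU 𝒮 p chart i U.1 U.2),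
      K = Subring.closure ((grQ i hP hft U 0 : Set ((FQ i hP hft).obj (op U))) ∪
      (grQ i hP hft U 1 : Set ((FQ i hP hft).obj (op U)))) := ⟨_, rfl⟩
  show Ideal.Quotient.mk (idealU 𝒮 p chart i U.1 U.2) a ∈ _
  rw [← hK]
  refine Subring.closure_induction
    (p := fun y _ => Ideal.Quotient.mk (idealU 𝒮 p chart i U.1 U.2) y ∈ K)
    ?_ ?_ ?_ ?_ ?_ ?_ h2
  · intro y hy
    rw [hK]
    refine Subring.subset_closure ?_
    rcases hy with hy | hy
    · exact Or.inl (mk_mem_qGr (𝒮.deg U.1 U.2) (idealU 𝒮 p chart i U.1 U.2) hy)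
    · exact Or.inr (mk_mem_qGr (𝒮.deg U.1 U.2) (idealU 𝒮 p chart i U.1 U.2) hy)
  · rw [map_zero]; exact zero_mem K
  · rw [map_one]; exact one_mem K
  · intro y z _ _ hy hz
    rw [map_add]; exact add_mem hy hz
  · intro y _ hy
    rw [map_neg]; exact neg_mem hy
  · intro y z _ _ hy hz
    rw [map_mul]; exact mul_mem hy hz

theorem algQ_gen (hgen : 𝒮.IsGenDegOne) : (algQ i hP hft).IsGenDegOne :=
  Groth.Agent.QCCons.isGenDegOne_grAlg _ _ _ _ (grQ_gen i hP hft hgen)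

theorem grQ_ft (U : Y.AffineZariskiSite) :
    ∃ T : Finset ((FQ i hP hft).obj (op U)),
      (↑T : Set ((FQ i hP hft).obj (op U))) ⊆ (grQ i hP hft U 1 : Set _) ∧
        ∀ x ∈ grQ i hP hft U 1, ∃ c : (FQ i hP hft).obj (op U) → Γ(Y, U.1),
          x = ∑ t ∈ T, ((αQ i hP hft).app (op U)).hom (c t) * t := by
  classical
  obtain ⟨T₀, hT₀, hspan⟩ := hft U.1 U.2
  refine ⟨T₀.image (Ideal.Quotient.mk (idealU 𝒮 p chart i U.1 U.2)), ?_, fun x hx => ?_⟩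
  · intro t ht
    obtain ⟨t₀, ht₀, rfl⟩ := Finset.mem_image.mp (Finset.mem_coe.mp ht)
    exact mk_mem_qGr (𝒮.deg U.1 U.2) (idealU 𝒮 p chart i U.1 U.2) (hT₀ (Finset.mem_coe.mpr ht₀))
  · obtain ⟨a, ha, rfl⟩ := exists_of_mem_qGr (𝒮.deg U.1 U.2) (idealU 𝒮 p chart i U.1 U.2) hx
    obtain ⟨c, hc⟩ := hspan a ha
    obtain ⟨c', hc'⟩ := sum_image_coeff ((αQ i hP hft).app (op U)).hom T₀
      (Ideal.Quotient.mk (idealU 𝒮 p chart i U.1 U.2)) c
    refine ⟨c', ?_⟩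
    rw [← hc', hc, map_sum]
    refine Finset.sum_congr rfl (fun t _ => ?_)
    rw [map_mul]
    rfl

theorem algQ_ft : (algQ i hP hft).IsFTDeg 1 :=
  Groth.Agent.QCCons.isFTDeg_grAlg _ _ _ _ 1 (grQ_ft i hP hft)

end Grading

end Groth.Agent.ClProj
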