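import Mathlib
import Groth.Prelude
import Groth.Agent.Lib.ClProj3_helper5

/-!
# Closed subschemes of a relative `Proj`, part 4: a closed subscheme of a projective scheme is projective  (helper5)
APPEND-ONLY once landed.
-/

set_option autoImplicit false
universe u
open CategoryTheory CategoryTheory.Limits AlgebraicGeometry TopologicalSpace Opposite

noncomputable section

namespace Groth.Agent.ClProj

open Groth.Agent.Lib.ProjClosed_helper3 Groth.Agent.ProjKer Groth.Agent.QCGrLoc Groth.Agent.QCQuot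
open Groth.Agent.QCCons

variable {Y : Scheme.{u}} {𝒮 : RelProj.QCGrAlg Y} {P : Scheme.{u}} {p : P ⟶ Y}
  {chart : ∀ (U : Y.Opens) (hU : IsAffineOpen U),
    (((p ⁻¹ᵁ U : P.Opens) : Scheme.{u}) ≅ Proj (𝒮.deg U hU))}
  {X : Scheme.{u}} (i : X ⟶ P) [IsClosedImmersion i]
  (hP : RelProj.IsRelProj 𝒮 p chart) (hft : 𝒮.IsFTDeg 1) (hgen : 𝒮.IsGenDegOne)

include hgen in
theorem exists_chart (U : Y.AffineZariskiSite) :
    ∃ e : (fmap p i ⁻¹ᵁ U.1).toScheme ≅ Proj (grQ i hP hft U),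
      e.hom ≫ Proj.map (qH i hP hft U) (qH_irr i hP hft U) = rP 𝒮 p chart i U.1 U.2 := by
  obtain ⟨T, hT, hspan⟩ := hft U.1 U.2
  have hspan0 : ∀ x ∈ 𝒮.deg U.1 U.2 1,
      ∃ c : 𝒮.presheaf.obj (op U.1) → 𝒮.presheaf.obj (op U.1),
      (∀ t, c t ∈ 𝒮.deg U.1 U.2 0) ∧ x = ∑ t ∈ T, c t * t := fun x hx => by
    obtain ⟨c, hc⟩ := hspan x hx
    exact ⟨fun t => (𝒮.str.app (op U.1)).hom (c t), fun t => 𝒮.str_mem U.1 U.2 _, hc⟩
  have hJ := compat_J 𝒮 p chart i U.1 U.2
  have hirr : (HomogeneousIdeal.irrelevant (𝒮.deg U.1 U.2)).toIdeal =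
      Ideal.span (T : Set (𝒮.presheaf.obj (op U.1))) :=
    Groth.Agent.Lib.GenDegOne_helper3.irrelevant_eq_span_of_genDegOne (𝒮.deg U.1 U.2)
      (𝒮.strZero U.1 U.2).hom T (fun t ht => hT (Finset.mem_coe.mpr ht)) hspan (hgen U.1 U.2)
  have hker : ∀ a, qH i hP hft U a = 0 ↔
      a ∈ bigIdeal (𝒮.deg U.1 U.2) (Jfam (𝒮.deg U.1 U.2) (rP 𝒮 p chart i U.1 U.2).ker)
        (T : Set (𝒮.presheaf.obj (op U.1))) hT := fun a => by
    rw [← satIdeal_eq_bigIdeal _ _ hJ T hT hspan0]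
    exact qHom_eq_zero_iff (𝒮.deg U.1 U.2) (idealU 𝒮 p chart i U.1 U.2) a
  exact exists_iso_of_ker_eq (𝒮.deg U.1 U.2) (grQ i hP hft U) (qH i hP hft U)
    (qH_surjective i hP hft U) (qH_irr i hP hft U) T
    (fun f hf => hT (Finset.mem_coe.mpr hf)) hirr (rP 𝒮 p chart i U.1 U.2)
    (fun f hf => ker_away_map_eq (𝒮.deg U.1 U.2) _ hJ T hT (qH i hP hft U) hker hf)

/-- The chart `f⁻¹U ≅ Proj (𝒮(U)/I_U)`. -/
def chartQ (U : Y.AffineZariskiSite) :
    (fmap p i ⁻¹ᵁ U.1).toScheme ≅ Proj (grQ i hP hft U) :=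
  (exists_chart i hP hft hgen U).choose

theorem chartQ_spec (U : Y.AffineZariskiSite) :
    (chartQ i hP hft hgen U).hom ≫ Proj.map (qH i hP hft U) (qH_irr i hP hft U) =
      rP 𝒮 p chart i U.1 U.2 :=
  (exists_chart i hP hft hgen U).choose_spec

theorem toSpecZero_strZeroF (U : Y.AffineZariskiSite) :
    Proj.toSpecZero (grQ i hP hft U) ≫
        Spec.map (strZeroF (grQ i hP hft) (grQ_hstr i hP hft) U) =
      Proj.map (qH i hP hft U) (qH_irr i hP hft U) ≫ Proj.toSpecZero (𝒮.deg U.1 U.2) ≫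
        Spec.map (𝒮.strZero U.1 U.2) := by
  have h1 := Groth.Agent.Lib.ProjMap_helper3.map_toSpecZero _ _ (qH i hP hft U) (qH_irr i hP hft U)
  have h2 : strZeroF (grQ i hP hft) (grQ_hstr i hP hft) U =
      𝒮.strZero U.1 U.2 ≫ CommRingCat.ofHom (qH i hP hft U).gradedZeroRingHom := by
    ext r
    rfl
  rw [h2]
  refine (congrArg (fun q => Proj.toSpecZero (grQ i hP hft U) ≫ q) (Spec.map_comp _ _)).trans ?_
  refine (Category.assoc _ _ _).symm.trans ?_
  refine (congrArg (fun q => q ≫ Spec.map (𝒮.strZero U.1 U.2)) h1.symm).trans ?_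
  exact Category.assoc _ _ _

theorem chartQ_over (U : Y.AffineZariskiSite) :
    (chartQ i hP hft hgen U).hom ≫ Proj.toSpecZero (grQ i hP hft U) ≫
      Spec.map (strZeroF (grQ i hP hft) (grQ_hstr i hP hft) U) ≫ U.2.fromSpec =
      (fmap p i ⁻¹ᵁ U.1).ι ≫ fmap p i := by
  have h1 := toSpecZero_strZeroF i hP hft U
  have h2 := chartQ_spec i hP hft hgen U
  have h3 := rP_over i hP U.1 U.2
  calc (chartQ i hP hft hgen U).hom ≫ Proj.toSpecZero (grQ i hP hft U) ≫
      Spec.map (strZeroF (grQ i hP hft) (grQ_hstr i hP hft) U) ≫ U.2.fromSpec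
      = (chartQ i hP hft hgen U).hom ≫ (Proj.toSpecZero (grQ i hP hft U) ≫
          Spec.map (strZeroF (grQ i hP hft) (grQ_hstr i hP hft) U)) ≫ U.2.fromSpec := by
        simp only [Category.assoc]
    _ = (chartQ i hP hft hgen U).hom ≫ (Proj.map (qH i hP hft U) (qH_irr i hP hft U) ≫
          Proj.toSpecZero (𝒮.deg U.1 U.2) ≫ Spec.map (𝒮.strZero U.1 U.2)) ≫ U.2.fromSpec := by
        rw [h1]
    _ = ((chartQ i hP hft hgen U).hom ≫ Proj.map (qH i hP hft U) (qH_irr i hP hft U)) ≫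
          Proj.toSpecZero (𝒮.deg U.1 U.2) ≫ Spec.map (𝒮.strZero U.1 U.2) ≫ U.2.fromSpec := by
        simp only [Category.assoc]
    _ = (fmap p i ⁻¹ᵁ U.1).ι ≫ fmap p i := by
        rw [h2]
        exact h3

theorem resF_comp_qH (U : Y.AffineZariskiSite) (r : Γ(Y, U.1))
    (hmap : ∀ {U V : Y.AffineZariskiSite} (j : V ⟶ U) {d : ℕ} {x : (FQ i hP hft).obj (op U)},
      x ∈ grQ i hP hft U d → ((FQ i hP hft).map j.op).hom x ∈ grQ i hP hft V d) :
    (resF (grQ i hP hft) hmap U r).comp (qH i hP hft U) =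
      (qH i hP hft (U.basicOpen r)).comp
        (𝒮.res U.2 (U.2.basicOpen r) (Y.basicOpen_le r)) := by
  refine GradedRingHom.ext fun a => ?_
  exact quotFunctor_map_mk (PS 𝒮) (idealJ 𝒮 p chart i) (fun f => idealJ_le i hP hft f)
    (homOfLE (U.basicOpen_le r)).op a

theorem chartQ_res (U : Y.AffineZariskiSite) (r : Γ(Y, U.1))
    (hmap : ∀ {U V : Y.AffineZariskiSite} (j : V ⟶ U) {d : ℕ} {x : (FQ i hP hft).obj (op U)},
      x ∈ grQ i hP hft U d → ((FQ i hP hft).map j.op).hom x ∈ grQ i hP hft V d)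
    (hirr : HomogeneousIdeal.irrelevant (grQ i hP hft (U.basicOpen r)) ≤
      (HomogeneousIdeal.irrelevant (grQ i hP hft U)).map (resF (grQ i hP hft) hmap U r)) :
    X.homOfLE ((fmap p i).preimage_mono (Y.basicOpen_le r)) ≫ (chartQ i hP hft hgen U).hom =
      (chartQ i hP hft hgen (U.basicOpen r)).hom ≫
        Proj.map (resF (grQ i hP hft) hmap U r) hirr := by
  haveI : IsClosedImmersion (Proj.map (qH i hP hft U) (qH_irr i hP hft U)) :=
    Groth.Agent.Lib.ProjMap_helper3.map_isClosedImmersion _ _ (qH i hP hft U)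
      (qH_surjective i hP hft U) (qH_irr i hP hft U)
  have h2 := chartQ_spec i hP hft hgen U
  have h3 := chartQ_spec i hP hft hgen (U.basicOpen r)
  have h4 := rP_res i hP U.1 U.2 r
  have hc := resF_comp_qH i hP hft U r hmap
  have e1 : (X.homOfLE ((fmap p i).preimage_mono (Y.basicOpen_le r)) ≫
      (chartQ i hP hft hgen U).hom) ≫ Proj.map (qH i hP hft U) (qH_irr i hP hft U) =
      rP 𝒮 p chart i (Y.basicOpen r) (U.2.basicOpen r) ≫
        Proj.map (𝒮.res U.2 (U.2.basicOpen r) (Y.basicOpen_le r))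
          (𝒮.irrelevant_le_map U.1 U.2 r) :=
    (Category.assoc _ _ _).trans
      ((congrArg (fun q => X.homOfLE ((fmap p i).preimage_mono (Y.basicOpen_le r)) ≫ q) h2).trans
        h4)
  have e2 : Proj.map (resF (grQ i hP hft) hmap U r) hirr ≫
      Proj.map (qH i hP hft U) (qH_irr i hP hft U) =
      Proj.map (qH i hP hft (U.basicOpen r)) (qH_irr i hP hft (U.basicOpen r)) ≫
        Proj.map (𝒮.res U.2 (U.2.basicOpen r) (Y.basicOpen_le r))
          (𝒮.irrelevant_le_map U.1 U.2 r) :=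
    (Proj.map_comp (qH i hP hft U) (resF (grQ i hP hft) hmap U r) (qH_irr i hP hft U)
      hirr).symm.trans
      ((Groth.Agent.QCCons.projMap_congr hc _ _).trans
        (Proj.map_comp (𝒮.res U.2 (U.2.basicOpen r) (Y.basicOpen_le r))
          (qH i hP hft (U.basicOpen r)) (𝒮.irrelevant_le_map U.1 U.2 r)
          (qH_irr i hP hft (U.basicOpen r))))
  have e3 : ((chartQ i hP hft hgen (U.basicOpen r)).hom ≫
      Proj.map (resF (grQ i hP hft) hmap U r) hirr) ≫
      Proj.map (qH i hP hft U) (qH_irr i hP hft U) =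
      rP 𝒮 p chart i (Y.basicOpen r) (U.2.basicOpen r) ≫
        Proj.map (𝒮.res U.2 (U.2.basicOpen r) (Y.basicOpen_le r))
          (𝒮.irrelevant_le_map U.1 U.2 r) :=
    (Category.assoc _ _ _).trans
      ((congrArg (fun q => (chartQ i hP hft hgen (U.basicOpen r)).hom ≫ q) e2).trans
        ((Category.assoc _ _ _).symm.trans
          (congrArg (fun q => q ≫
            Proj.map (𝒮.res U.2 (U.2.basicOpen r) (Y.basicOpen_le r))
              (𝒮.irrelevant_le_map U.1 U.2 r)) h3)))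
  exact (cancel_mono (Proj.map (qH i hP hft U) (qH_irr i hP hft U))).mp (e1.trans e3.symm)

include hP hft hgen in
/-- A closed subscheme of a relative `Proj` (generated in degree one, with degree-one part of finite
type) is projective over the base. -/
theorem isProjective_fmap : RelProj.IsProjective (fmap p i) :=
  ⟨algQ i hP hft, X, fmap p i, _, Iso.refl X, algQ_gen i hP hft hgen, algQ_ft i hP hft,
    isRelProj_grAlg _ _ _ _ (fmap p i) (chartQ i hP hft hgen) (chartQ_over i hP hft hgen)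
      (fun U r => chartQ_res i hP hft hgen U r _ _), Category.id_comp _⟩

end Groth.Agent.ClProj

namespace Groth.Agent.ClProj

/-- **A closed immersion followed by a projective morphism is projective.** -/
theorem isProjective_comp_of_isClosedImmersion {X P Y : Scheme.{u}} (i : X ⟶ P)
    [IsClosedImmersion i] (q : P ⟶ Y) (hq : RelProj.IsProjective q) :
    RelProj.IsProjective (i ≫ q) := by
  obtain ⟨𝒮, P₀, p, chart, e, hgen, hft, hP, he⟩ := hq
  have h := isProjective_fmap (i ≫ e.hom) hP hft hgen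
  have e2 : fmap p (i ≫ e.hom) = i ≫ q := by
    show (i ≫ e.hom) ≫ p = i ≫ q
    rw [Category.assoc, he]
  rw [e2] at h
  exact h

end Groth.Agent.ClProj
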