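import Mathlib
import Groth.Prelude

/-!
# Gluing gradings of a sheaf of rings from a basis of charts  (helper5)
APPEND-ONLY once landed.

Given a sheaf of rings `𝓑` on a space, a family of "charts" (opens `o i` forming a basis, with a
refinement relation) and a grading of `𝓑 (o i)` for every chart, compatible with restriction along
refinements, every quasi-compact open `U` acquires a grading of `𝓑 U`: the elements of degree `d`
are the sections all of whose restrictions to charts inside `U` have degree `d`.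
-/

set_option autoImplicit false
universe u
open CategoryTheory TopologicalSpace Opposite

noncomputable section

namespace Groth.Agent.GlueGr

variable {X : TopCat.{u}} (𝓑 : TopCat.Sheaf CommRingCat.{u} X)

/-- restriction of sections -/
def res {U V : Opens X} (h : V ≤ U) : 𝓑.1.obj (op U) →+* 𝓑.1.obj (op V) :=
  (𝓑.1.map (homOfLE h).op).hom

theorem res_res {U V W : Opens X} (h : V ≤ U) (h' : W ≤ V) (x : 𝓑.1.obj (op U)) :
    res 𝓑 h' (res 𝓑 h x) = res 𝓑 (h'.trans h) x := by
  unfold res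
  rw [← CommRingCat.comp_apply, ← Functor.map_comp]
  rfl

theorem res_self {U : Opens X} (h : U ≤ U) (x : 𝓑.1.obj (op U)) : res 𝓑 h x = x := by
  unfold res
  have : (homOfLE h).op = 𝟙 (op U) := Subsingleton.elim _ _
  rw [this, 𝓑.1.map_id]
  rfl

theorem eq_of_cover {ι : Type*} (V : Opens X) (W : ι → Opens X) (hW : ∀ i, W i ≤ V)
    (hcov : V ≤ iSup W) (s t : 𝓑.1.obj (op V)) (h : ∀ i, res 𝓑 (hW i) s = res 𝓑 (hW i) t) :
    s = t :=
  𝓑.eq_of_locally_eq' W V (fun i => homOfLE (hW i)) hcov s t h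

theorem exists_glue {ι : Type*} (V : Opens X) (W : ι → Opens X) (hW : ∀ i, W i ≤ V)
    (hcov : V ≤ iSup W) (sf : ∀ i, 𝓑.1.obj (op (W i)))
    (hsf : ∀ i j, res 𝓑 (inf_le_left : W i ⊓ W j ≤ W i) (sf i) =
      res 𝓑 (inf_le_right : W i ⊓ W j ≤ W j) (sf j)) :
    ∃ s : 𝓑.1.obj (op V), ∀ i, res 𝓑 (hW i) s = sf i := by
  obtain ⟨s, hs, -⟩ := 𝓑.existsUnique_gluing' W V (fun i => homOfLE (hW i)) hcov sf
    (fun i j => hsf i j)
  exact ⟨s, hs⟩

/-- A system of graded charts for the sheaf of rings `𝓑`. -/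
structure Charts where
  /-- the index type -/
  I : Type u
  /-- the open of a chart -/
  o : I → Opens X
  /-- the refinement relation -/
  R : I → I → Prop
  hR : ∀ {i j : I}, R i j → o i ≤ o j
  /-- the grading over a chart -/
  N : ∀ i : I, ℕ → AddSubgroup (𝓑.1.obj (op (o i)))
  gr : ∀ i : I, GradedRing (N i)
  hres : ∀ {i j : I} (h : R i j) {d : ℕ} {x : 𝓑.1.obj (op (o j))},
    x ∈ N j d → res 𝓑 (hR h) x ∈ N i d
  hrefine : ∀ (i j : I) (p : X), p ∈ o i → p ∈ o j → ∃ k, R k i ∧ R k j ∧ p ∈ o k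
  hbasis : ∀ (U : Opens X) (p : X), p ∈ U → ∃ i, p ∈ o i ∧ o i ≤ U

variable {𝓑} (c : Charts 𝓑)

instance (i : c.I) : GradedRing (c.N i) := c.gr i

/-- restriction along a refinement, as a graded ring homomorphism -/
def resG {i j : c.I} (h : c.R i j) : c.N j →+*ᵍ c.N i where
  toRingHom := res 𝓑 (c.hR h)
  map_mem := fun hx => c.hres h hx

theorem res_decompose {i j : c.I} (h : c.R i j) (x : 𝓑.1.obj (op (c.o j))) (d : ℕ) :
    res 𝓑 (c.hR h) ((DirectSum.decompose (c.N j) x d : c.N j d) : 𝓑.1.obj (op (c.o j))) =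
      ((DirectSum.decompose (c.N i) (res 𝓑 (c.hR h) x) d : c.N i d) : 𝓑.1.obj (op (c.o i))) :=
  GradedRingHom.map_directSumDecompose (𝒜 := c.N j) (ℬ := c.N i) (resG c h) (x := x) (i := d)

/-- the refinements of a chart cover it -/
theorem cover_refine (i j : c.I) (hji : c.o j ≤ c.o i) :
    c.o j ≤ ⨆ k : {k : c.I // c.R k i ∧ c.R k j}, c.o k.1 := by
  intro p hp
  obtain ⟨k, hki, hkj, hpk⟩ := c.hrefine i j p (hji hp) hp
  exact Opens.mem_iSup.mpr ⟨⟨k, hki, hkj⟩, hpk⟩

/-- **Local membership**: a section over a chart which is of degree `d` on a family of refinements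
covering the chart is of degree `d`. -/
theorem mem_of_locally (i : c.I) (y : 𝓑.1.obj (op (c.o i))) (d : ℕ)
    (h : ∀ p ∈ c.o i, ∃ k, ∃ hk : c.R k i, p ∈ c.o k ∧ res 𝓑 (c.hR hk) y ∈ c.N k d) :
    y ∈ c.N i d := by
  classical
  have hcomp : ∀ e : ℕ, e ≠ d →
      ((DirectSum.decompose (c.N i) y e : c.N i e) : 𝓑.1.obj (op (c.o i))) = 0 := by
    intro e hed
    let K := {k : c.I // ∃ hk : c.R k i, res 𝓑 (c.hR hk) y ∈ c.N k d}
    refine eq_of_cover 𝓑 (c.o i) (fun k : K => c.o k.1) (fun k => c.hR k.2.choose) ?_ _ _ ?_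
    · intro p hp
      obtain ⟨k, hk, hpk, hyk⟩ := h p hp
      exact Opens.mem_iSup.mpr ⟨⟨k, hk, hyk⟩, hpk⟩
    · intro k
      rw [map_zero]
      have h1 := res_decompose c k.2.choose y e
      rw [h1]
      exact DirectSum.decompose_of_mem_ne _ k.2.choose_spec (Ne.symm hed)
  have hzd : y = ((DirectSum.decompose (c.N i) y d : c.N i d) : 𝓑.1.obj (op (c.o i))) := by
    conv_lhs => rw [← DirectSum.sum_support_decompose (c.N i) y]
    by_cases hmem : d ∈ (DirectSum.decompose (c.N i) y).support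
    · rw [Finset.sum_eq_single_of_mem d hmem]
      intro e _ hed
      exact hcomp e hed
    · rw [Finset.sum_eq_zero]
      · have h0 : DirectSum.decompose (c.N i) y d = 0 := by
          simpa [DFinsupp.mem_support_iff] using hmem
        rw [h0]; rfl
      · intro e he
        have hed : e ≠ d := fun h => hmem (h ▸ he)
        exact hcomp e hed
  rw [hzd]
  exact (DirectSum.decompose (c.N i) y d).2

/-- The glued degree-`d` part of `𝓑 U`. -/
def M (U : Opens X) (d : ℕ) : AddSubgroup (𝓑.1.obj (op U)) where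
  carrier := {x | ∀ (i : c.I) (h : c.o i ≤ U), res 𝓑 h x ∈ c.N i d}
  zero_mem' := fun i h => by rw [map_zero]; exact zero_mem _
  add_mem' := fun {a b} ha hb i h => by rw [map_add]; exact add_mem (ha i h) (hb i h)
  neg_mem' := fun {a} ha i h => by rw [map_neg]; exact neg_mem (ha i h)

theorem mem_M_iff {U : Opens X} {d : ℕ} {x : 𝓑.1.obj (op U)} :
    x ∈ M c U d ↔ ∀ (i : c.I) (h : c.o i ≤ U), res 𝓑 h x ∈ c.N i d := Iff.rfl

theorem res_mem_M {U V : Opens X} (h : V ≤ U) {d : ℕ} {x : 𝓑.1.obj (op U)} (hx : x ∈ M c U d) :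
    res 𝓑 h x ∈ M c V d := by
  intro i hi
  rw [res_res]
  exact hx i (hi.trans h)

/-- on a chart the glued grading is the given one -/
theorem mem_M_chart_iff (i : c.I) {d : ℕ} {x : 𝓑.1.obj (op (c.o i))} :
    x ∈ M c (c.o i) d ↔ x ∈ c.N i d := by
  constructor
  · intro hx
    have := hx i le_rfl
    rwa [res_self] at this
  · intro hx j hji
    refine mem_of_locally c j _ d (fun p hp => ?_)
    obtain ⟨k, hki, hkj, hpk⟩ := c.hrefine i j p (hji hp) hp
    refine ⟨k, hkj, hpk, ?_⟩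
    rw [res_res]
    exact c.hres hki hx

instance gradedMonoid_M (U : Opens X) : SetLike.GradedMonoid (M c U) where
  one_mem := fun i h => by rw [map_one]; exact SetLike.GradedOne.one_mem
  mul_mem := fun {a b x y} hx hy i h => by
    rw [map_mul]
    exact SetLike.GradedMul.mul_mem (hx i h) (hy i h)

/-- the charts inside `U` cover `U` -/
theorem cover_charts (U : Opens X) : U ≤ ⨆ i : {i : c.I // c.o i ≤ U}, c.o i.1 := by
  intro p hp
  obtain ⟨i, hpi, hiU⟩ := c.hbasis U p hp
  exact Opens.mem_iSup.mpr ⟨⟨i, hiU⟩, hpi⟩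

theorem eq_zero_of_charts (U : Opens X) (x : 𝓑.1.obj (op U))
    (h : ∀ (i : c.I) (hi : c.o i ≤ U), res 𝓑 hi x = 0) : x = 0 := by
  refine eq_of_cover 𝓑 U (fun i : {i : c.I // c.o i ≤ U} => c.o i.1) (fun i => i.2)
    (cover_charts c U) _ _ (fun i => ?_)
  rw [map_zero]
  exact h i.1 i.2

/-- independence of the glued pieces -/
theorem eq_zero_of_sum_eq_zero (U : Opens X) (T : Finset ℕ) (y : ℕ → 𝓑.1.obj (op U))
    (hy : ∀ d, y d ∈ M c U d) (hsum : ∑ d ∈ T, y d = 0) : ∀ d ∈ T, y d = 0 := by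
  classical
  intro d hd
  refine eq_zero_of_charts c U _ (fun i hi => ?_)
  have h1 : ∑ e ∈ T, res 𝓑 hi (y e) = 0 := by rw [← map_sum, hsum, map_zero]
  have h2 : ((DirectSum.decompose (c.N i) (∑ e ∈ T, res 𝓑 hi (y e)) d : c.N i d) :
      𝓑.1.obj (op (c.o i))) = res 𝓑 hi (y d) := by
    rw [DirectSum.decompose_sum, DFinsupp.finsetSum_apply, AddSubmonoidClass.coe_finsetSum,
      Finset.sum_eq_single_of_mem d hd]
    · exact DirectSum.decompose_of_mem_same _ (hy d i hi)
    · intro e _ hed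
      exact DirectSum.decompose_of_mem_ne _ (hy e i hi) hed
  rw [← h2, h1, DirectSum.decompose_zero]
  rfl

section Decomp
variable (U : Opens X) (x : 𝓑.1.obj (op U))

/-- the local components of a section -/
def comp (d : ℕ) (i : {i : c.I // c.o i ≤ U}) : 𝓑.1.obj (op (c.o i.1)) :=
  ((DirectSum.decompose (c.N i.1) (res 𝓑 i.2 x) d : c.N i.1 d) : 𝓑.1.obj (op (c.o i.1)))

theorem comp_compat (d : ℕ) (i j : {i : c.I // c.o i ≤ U}) :
    res 𝓑 (inf_le_left : c.o i.1 ⊓ c.o j.1 ≤ c.o i.1) (comp c U x d i) =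
      res 𝓑 (inf_le_right : c.o i.1 ⊓ c.o j.1 ≤ c.o j.1) (comp c U x d j) := by
  let K := {k : c.I // c.R k i.1 ∧ c.R k j.1}
  refine eq_of_cover 𝓑 (c.o i.1 ⊓ c.o j.1) (fun k : K => c.o k.1)
    (fun k => le_inf (c.hR k.2.1) (c.hR k.2.2)) ?_ _ _ ?_
  · intro p hp
    obtain ⟨k, hki, hkj, hpk⟩ := c.hrefine i.1 j.1 p hp.1 hp.2
    exact Opens.mem_iSup.mpr ⟨⟨k, hki, hkj⟩, hpk⟩
  · intro k
    rw [res_res, res_res]
    unfold comp
    have h1 := res_decompose c k.2.1 (res 𝓑 i.2 x) d
    have h2 := res_decompose c k.2.2 (res 𝓑 j.2 x) d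
    rw [res_res] at h1 h2
    exact h1.trans h2.symm

theorem exists_component (d : ℕ) : ∃ y : 𝓑.1.obj (op U), ∀ (i : c.I) (hi : c.o i ≤ U),
    res 𝓑 hi y =
      ((DirectSum.decompose (c.N i) (res 𝓑 hi x) d : c.N i d) : 𝓑.1.obj (op (c.o i))) := by
  obtain ⟨y, hy⟩ := exists_glue 𝓑 U (fun i : {i : c.I // c.o i ≤ U} => c.o i.1) (fun i => i.2)
    (cover_charts c U) (comp c U x d) (comp_compat c U x d)
  exact ⟨y, fun i hi => hy ⟨i, hi⟩⟩

/-- the degree-`d` component of a section -/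
def component (d : ℕ) : 𝓑.1.obj (op U) := (exists_component c U x d).choose

theorem res_component (d : ℕ) (i : c.I) (hi : c.o i ≤ U) :
    res 𝓑 hi (component c U x d) =
      ((DirectSum.decompose (c.N i) (res 𝓑 hi x) d : c.N i d) : 𝓑.1.obj (op (c.o i))) :=
  (exists_component c U x d).choose_spec i hi

theorem component_mem (d : ℕ) : component c U x d ∈ M c U d := by
  intro i hi
  rw [res_component]
  exact SetLike.coe_mem _

theorem exists_finset_sum (hU : IsCompact (U : Set X)) :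
    ∃ T : Finset ℕ, x = ∑ d ∈ T, component c U x d := by
  classical
  obtain ⟨F, hF⟩ := hU.elim_finite_subcover (fun i : {i : c.I // c.o i ≤ U} => (c.o i.1 : Set X))
    (fun i => (c.o i.1).isOpen) (by
      intro p hp
      obtain ⟨i, hpi, hiU⟩ := c.hbasis U p hp
      exact Set.mem_iUnion.mpr ⟨⟨i, hiU⟩, hpi⟩)
  obtain ⟨T, hT⟩ : ∃ T : Finset ℕ, T = F.biUnion
      (fun i => (DirectSum.decompose (c.N i.1) (res 𝓑 i.2 x)).support) := ⟨_, rfl⟩
  have hzero : ∀ d, d ∉ T → component c U x d = 0 := by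
    intro d hd
    refine eq_of_cover 𝓑 U (fun i : {i : {i : c.I // c.o i ≤ U} // i ∈ F} => c.o i.1.1)
      (fun i => i.1.2) ?_ _ _ ?_
    · intro p hp
      obtain ⟨i, hi⟩ := Set.mem_iUnion.mp (hF hp)
      obtain ⟨hiF, hpi⟩ := Set.mem_iUnion.mp hi
      exact Opens.mem_iSup.mpr ⟨⟨i, hiF⟩, hpi⟩
    · intro i
      rw [map_zero, res_component]
      have : d ∉ (DirectSum.decompose (c.N i.1.1) (res 𝓑 i.1.2 x)).support := by
        intro h
        exact hd (hT ▸ Finset.mem_biUnion.mpr ⟨i.1, i.2, h⟩)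
      have h0 : DirectSum.decompose (c.N i.1.1) (res 𝓑 i.1.2 x) d = 0 := by
        simpa [DFinsupp.mem_support_iff] using this
      rw [h0]; rfl
  refine ⟨T, ?_⟩
  refine eq_of_cover 𝓑 U (fun i : {i : c.I // c.o i ≤ U} => c.o i.1) (fun i => i.2)
    (cover_charts c U) _ _ (fun i => ?_)
  rw [map_sum]
  simp only [res_component]
  have hsub : (DirectSum.decompose (c.N i.1) (res 𝓑 i.2 x)).support ⊆ T := by
    intro d hd
    by_contra hdT
    have h1 := hzero d hdT
    have h2 := res_component c U x d i.1 i.2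
    rw [h1, map_zero] at h2
    have h3 : DirectSum.decompose (c.N i.1) (res 𝓑 i.2 x) d = 0 := Subtype.ext h2.symm
    exact (DFinsupp.mem_support_iff.mp hd) h3
  rw [← Finset.sum_subset hsub]
  · exact (DirectSum.sum_support_decompose (c.N i.1) (res 𝓑 i.2 x)).symm
  · intro d _ hd
    have h0 : DirectSum.decompose (c.N i.1) (res 𝓑 i.2 x) d = 0 := by
      simpa [DFinsupp.mem_support_iff] using hd
    rw [h0]; rfl

end Decomp

theorem isInternal_M (U : Opens X) (hU : IsCompact (U : Set X)) :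
    DirectSum.IsInternal (M c U) := by
  classical
  constructor
  · rw [injective_iff_map_eq_zero]
    intro a ha
    rw [DirectSum.coeAddMonoidHom_eq_dfinsuppSum] at ha
    have h1 := eq_zero_of_sum_eq_zero c U a.support (fun d => ((a d : M c U d) : 𝓑.1.obj (op U)))
      (fun d => SetLike.coe_mem _) ha
    refine DFinsupp.ext (fun d => ?_)
    by_cases hd : d ∈ a.support
    · exact Subtype.ext (h1 d hd)
    · simpa [DFinsupp.mem_support_iff] using hd
  · intro x
    obtain ⟨T, hT⟩ := exists_finset_sum c U x hU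
    refine ⟨∑ d ∈ T, DirectSum.of (fun d => M c U d) d ⟨component c U x d, component_mem c U x d⟩,
      ?_⟩
    rw [map_sum]
    simp only [DirectSum.coeAddMonoidHom_of]
    exact hT.symm

/-- **The glued grading** on the sections over a quasi-compact open. -/
@[reducible] def gradedRing_M (U : Opens X) (hU : IsCompact (U : Set X)) : GradedRing (M c U) :=
  { gradedMonoid_M c U with
    toDecomposition := (isInternal_M c U hU).chooseDecomposition }

end Groth.Agent.GlueGr
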