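import Mathlib
import Groth.Prelude

/-!
# Base change of a graded algebra  (helper5)
APPEND-ONLY once landed.

`S` a graded `A`-algebra (structure map in degree `0`), `S' = S ⊗_A A'` (given abstractly by
`Algebra.IsPushout A A' S S'`).  Then `S'` is graded by the `A'`-spans of the images of the graded
pieces of `S`.
-/

set_option autoImplicit false
universe u

noncomputable section

namespace Groth.Agent.GrBC

variable {A A' S S' : Type u} [CommRing A] [CommRing A'] [CommRing S] [CommRing S']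
  [Algebra A A'] [Algebra A S] [Algebra A' S'] [Algebra S S'] [Algebra A S']
  [IsScalarTower A A' S'] [IsScalarTower A S S']
  (𝒜 : ℕ → AddSubgroup S) [GradedRing 𝒜]

variable (A') in
/-- the generators of the degree-`d` part of the base change -/
def gen (d : ℕ) : Set S' :=
  {y | ∃ (a' : A') (s : S), s ∈ 𝒜 d ∧ y = algebraMap A' S' a' * algebraMap S S' s}

variable (A') in
/-- the degree-`d` part of the base change -/
def bcGr (d : ℕ) : AddSubgroup S' := AddSubgroup.closure (gen A' 𝒜 d)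

theorem mul_mem_bcGr (d : ℕ) (a' : A') {s : S} (hs : s ∈ 𝒜 d) :
    algebraMap A' S' a' * algebraMap S S' s ∈ bcGr A' 𝒜 d :=
  AddSubgroup.subset_closure ⟨a', s, hs, rfl⟩

theorem map_mem_bcGr (d : ℕ) {s : S} (hs : s ∈ 𝒜 d) : algebraMap S S' s ∈ bcGr A' 𝒜 d := by
  have := mul_mem_bcGr (A' := A') (S' := S') 𝒜 d 1 hs
  rwa [map_one, one_mul] at this

theorem smul_mem_bcGr (d : ℕ) (a' : A') {y : S'} (hy : y ∈ bcGr A' 𝒜 d) :
    algebraMap A' S' a' * y ∈ bcGr A' 𝒜 d := by
  refine AddSubgroup.closure_induction (p := fun y _ => algebraMap A' S' a' * y ∈ bcGr A' 𝒜 d)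
    ?_ ?_ ?_ ?_ hy
  · rintro _ ⟨b', s, hs, rfl⟩
    rw [← mul_assoc, ← map_mul]
    exact mul_mem_bcGr 𝒜 d _ hs
  · rw [mul_zero]; exact zero_mem _
  · intro x y _ _ hx hy
    rw [mul_add]; exact add_mem hx hy
  · intro x _ hx
    rw [mul_neg]; exact neg_mem hx

instance gradedMonoid_bcGr : SetLike.GradedMonoid (bcGr (S' := S') A' 𝒜) where
  one_mem := by
    have := map_mem_bcGr (A' := A') (S' := S') 𝒜 0 (SetLike.GradedOne.one_mem (A := 𝒜))
    rwa [map_one] at this
  mul_mem := by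
    intro i j x y hx hy
    refine AddSubgroup.closure_induction (p := fun x _ => x * y ∈ bcGr A' 𝒜 (i + j))
      ?_ ?_ ?_ ?_ hx
    · rintro _ ⟨a', s, hs, rfl⟩
      refine AddSubgroup.closure_induction
        (p := fun y _ => algebraMap A' S' a' * algebraMap S S' s * y ∈ bcGr A' 𝒜 (i + j))
        ?_ ?_ ?_ ?_ hy
      · rintro _ ⟨b', t, ht, rfl⟩
        have e : algebraMap A' S' a' * algebraMap S S' s * (algebraMap A' S' b' * algebraMap S S' t) =
            algebraMap A' S' (a' * b') * algebraMap S S' (s * t) := by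
          rw [map_mul, map_mul]; ring
        rw [e]
        exact mul_mem_bcGr 𝒜 (i + j) _ (SetLike.GradedMul.mul_mem hs ht)
      · rw [mul_zero]; exact zero_mem _
      · intro x y _ _ hx hy
        rw [mul_add]; exact add_mem hx hy
      · intro x _ hx
        rw [mul_neg]; exact neg_mem hx
    · rw [zero_mul]; exact zero_mem _
    · intro x z _ _ hx hz
      rw [add_mul]; exact add_mem hx hz
    · intro x _ hx
      rw [neg_mul]; exact neg_mem hx

variable (h0 : ∀ a : A, algebraMap A S a ∈ 𝒜 0) (hP : Algebra.IsPushout A A' S S')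

/-- the projection onto degree `d`, on `S` -/
def pr0 (d : ℕ) : S →ₗ[A] S' where
  toFun s := algebraMap S S' ((DirectSum.decompose 𝒜 s d : 𝒜 d) : S)
  map_add' s t := by
    rw [DirectSum.decompose_add, DirectSum.add_apply, AddSubgroup.coe_add, map_add]
  map_smul' a s := by
    rw [Algebra.smul_def, DirectSum.coe_decompose_mul_of_left_mem_zero 𝒜 (h0 a), map_mul,
      RingHom.id_apply, Algebra.smul_def, IsScalarTower.algebraMap_apply A S S']

/-- the projection onto degree `d` -/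
def pr (d : ℕ) : S' →ₗ[A'] S' := hP.out.lift (pr0 𝒜 h0 d)

theorem pr_map (d : ℕ) (s : S) :
    pr 𝒜 h0 hP d (algebraMap S S' s) = algebraMap S S' ((DirectSum.decompose 𝒜 s d : 𝒜 d) : S) :=
  hP.out.lift_eq (pr0 𝒜 h0 d) s

theorem pr_mul_map (d : ℕ) (a' : A') (s : S) :
    pr 𝒜 h0 hP d (algebraMap A' S' a' * algebraMap S S' s) =
      algebraMap A' S' a' * algebraMap S S' ((DirectSum.decompose 𝒜 s d : 𝒜 d) : S) := by
  rw [← Algebra.smul_def, LinearMap.map_smul, pr_map, Algebra.smul_def]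

theorem pr_mem (d : ℕ) (y : S') : pr 𝒜 h0 hP d y ∈ bcGr A' 𝒜 d := by
  refine hP.out.inductionOn y (fun y => pr 𝒜 h0 hP d y ∈ bcGr A' 𝒜 d) ?_ ?_ ?_ ?_
  · rw [map_zero]; exact zero_mem _
  · intro s
    show pr 𝒜 h0 hP d (algebraMap S S' s) ∈ _
    rw [pr_map]
    exact map_mem_bcGr 𝒜 d (SetLike.coe_mem _)
  · intro a' y hy
    rw [LinearMap.map_smul, Algebra.smul_def]
    exact smul_mem_bcGr 𝒜 d a' hy
  · intro x y hx hy
    rw [map_add]; exact add_mem hx hy

theorem pr_of_mem_same {d : ℕ} {y : S'} (hy : y ∈ bcGr A' 𝒜 d) : pr 𝒜 h0 hP d y = y := by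
  refine AddSubgroup.closure_induction (p := fun y _ => pr 𝒜 h0 hP d y = y) ?_ ?_ ?_ ?_ hy
  · rintro _ ⟨a', s, hs, rfl⟩
    rw [pr_mul_map, DirectSum.decompose_of_mem_same 𝒜 hs]
  · exact map_zero _
  · intro x y _ _ hx hy
    rw [map_add, hx, hy]
  · intro x _ hx
    rw [map_neg, hx]

theorem pr_of_mem_ne {d e : ℕ} (hne : d ≠ e) {y : S'} (hy : y ∈ bcGr A' 𝒜 d) :
    pr 𝒜 h0 hP e y = 0 := by
  refine AddSubgroup.closure_induction (p := fun y _ => pr 𝒜 h0 hP e y = 0) ?_ ?_ ?_ ?_ hy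
  · rintro _ ⟨a', s, hs, rfl⟩
    rw [pr_mul_map, DirectSum.decompose_of_mem_ne 𝒜 hs hne, map_zero, mul_zero]
  · exact map_zero _
  · intro x y _ _ hx hy
    rw [map_add, hx, hy, add_zero]
  · intro x _ hx
    rw [map_neg, hx, neg_zero]

theorem exists_finset (y : S') : ∃ T : Finset ℕ, ∀ T' : Finset ℕ, T ⊆ T' →
    y = ∑ d ∈ T', pr 𝒜 h0 hP d y := by
  classical
  refine hP.out.inductionOn y
    (fun y => ∃ T : Finset ℕ, ∀ T' : Finset ℕ, T ⊆ T' → y = ∑ d ∈ T', pr 𝒜 h0 hP d y) ?_ ?_ ?_ ?_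
  · exact ⟨∅, fun T' _ => by simp⟩
  · intro s
    refine ⟨(DirectSum.decompose 𝒜 s).support, fun T' hT' => ?_⟩
    show algebraMap S S' s = ∑ d ∈ T', pr 𝒜 h0 hP d (algebraMap S S' s)
    simp only [pr_map]
    rw [← map_sum]
    congr 1
    rw [← Finset.sum_subset hT']
    · exact (DirectSum.sum_support_decompose 𝒜 s).symm
    · intro d _ hd
      have h0' : DirectSum.decompose 𝒜 s d = 0 := by
        simpa [DFinsupp.mem_support_iff] using hd
      rw [h0']; rfl
  · rintro a' y ⟨T, hT⟩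
    refine ⟨T, fun T' hT' => ?_⟩
    simp only [LinearMap.map_smul]
    rw [← Finset.smul_sum, ← hT T' hT']
  · rintro x y ⟨T₁, hT₁⟩ ⟨T₂, hT₂⟩
    refine ⟨T₁ ∪ T₂, fun T' hT' => ?_⟩
    simp only [map_add]
    rw [Finset.sum_add_distrib, ← hT₁ T' (Finset.union_subset_left hT'),
      ← hT₂ T' (Finset.union_subset_right hT')]

include h0 hP in
theorem isInternal_bcGr : DirectSum.IsInternal (bcGr (S' := S') A' 𝒜) := by
  classical
  constructor
  · rw [injective_iff_map_eq_zero]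
    intro a ha
    rw [DirectSum.coeAddMonoidHom_eq_dfinsuppSum] at ha
    refine DFinsupp.ext (fun e => ?_)
    have h1 : pr 𝒜 h0 hP e (DFinsupp.sum a fun i => (fun x : bcGr A' 𝒜 i => (x : S'))) = 0 := by
      rw [ha, map_zero]
    unfold DFinsupp.sum at h1
    rw [map_sum] at h1
    by_cases he : e ∈ a.support
    · rw [Finset.sum_eq_single_of_mem e he] at h1
      · rw [pr_of_mem_same 𝒜 h0 hP (SetLike.coe_mem _)] at h1
        exact Subtype.ext h1
      · intro d _ hde
        exact pr_of_mem_ne 𝒜 h0 hP hde (SetLike.coe_mem _)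
    · simpa [DFinsupp.mem_support_iff] using he
  · intro y
    obtain ⟨T, hT⟩ := exists_finset 𝒜 h0 hP y
    refine ⟨∑ d ∈ T, DirectSum.of (fun d => bcGr A' 𝒜 d) d ⟨pr 𝒜 h0 hP d y, pr_mem 𝒜 h0 hP d y⟩,
      ?_⟩
    rw [map_sum]
    simp only [DirectSum.coeAddMonoidHom_of]
    exact (hT T le_rfl).symm

/-- **The base change of a graded algebra is graded.** -/
@[reducible] def gradedRing_bcGr : GradedRing (bcGr (S' := S') A' 𝒜) :=
  { gradedMonoid_bcGr 𝒜 with
    toDecomposition := (isInternal_bcGr 𝒜 h0 hP).chooseDecomposition }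

end Groth.Agent.GrBC
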