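import Mathlib
import Groth.Prelude.Def_RelProj4
import Groth.Agent.S8255
import Groth.Agent.Lib.RelSpecBC_helper5
import Groth.Agent.Lib.RelProj_helper3

/-!
# `Spec(u)` for a `q`-morphism `u : B → q_* B'` of quasi-coherent algebras (helper5)
-/

set_option autoImplicit false
universe u

noncomputable section

namespace Groth.Agent.SpecQ

open CategoryTheory Limits AlgebraicGeometry TopologicalSpace Opposite RelSpec

variable {S S' : Scheme.{u}}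

/-- The inverse of `gammaMap`. -/
def gInv (B' : QCAlg S') : B'.presheaf ⟶ B'.π.base _* B'.spec.presheaf :=
  haveI := Groth.Agent.S8255.result B'
  inv B'.gammaMap

@[reassoc]
theorem gInv_gammaMap (B' : QCAlg S') : gInv B' ≫ B'.gammaMap = 𝟙 _ := by
  haveI := Groth.Agent.S8255.result B'
  exact IsIso.inv_hom_id _

@[reassoc]
theorem gInv_app_gammaMap_app (B' : QCAlg S') (V : S'.Opens) :
    (gInv B').app (op V) ≫ B'.gammaMap.app (op V) = 𝟙 _ := by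
  rw [← NatTrans.comp_app, gInv_gammaMap]
  rfl

variable (q : S' ⟶ S) (B : QCAlg S) (B' : QCAlg S') (u : QHom q B B')

/-- `B(U) → B'(q⁻¹U) ≅ Γ(Spec B', π'⁻¹ q⁻¹ U)`. -/
def rho (U : S.Opens) : B.presheaf.obj (op U) ⟶ Γ(B'.spec, B'.π ⁻¹ᵁ (q ⁻¹ᵁ U)) :=
  u.app U ≫ (gInv B').app (op (q ⁻¹ᵁ U))

theorem rho_naturality {U V : S.Opens} (i : V ≤ U) :
    B.presheaf.map (homOfLE i).op ≫ rho q B B' u V =
      rho q B B' u U ≫ B'.spec.presheaf.map (homOfLE (B'.π.preimage_mono (q.preimage_mono i))).op := by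
  unfold rho
  rw [← Category.assoc, ← u.naturality i, Category.assoc, Category.assoc]
  congr 1
  exact (gInv B').naturality (homOfLE (q.preimage_mono i)).op

/-- The local pieces of `Spec(u)`. -/
def e (U : S.Opens) (hU : IsAffineOpen U) :
    ((B'.π ⁻¹ᵁ (q ⁻¹ᵁ U) : B'.spec.Opens) : Scheme.{u}) ⟶ B.spec :=
  (B'.π ⁻¹ᵁ (q ⁻¹ᵁ U)).toSpecΓ ≫ Spec.map (rho q B B' u U) ≫ B.ι U hU

theorem e_compat (U : S.Opens) (hU : IsAffineOpen U) (r : Γ(S, U)) :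
    B'.spec.homOfLE (B'.π.preimage_mono (q.preimage_mono (S.basicOpen_le r))) ≫ e q B B' u U hU =
      e q B B' u (S.basicOpen r) (hU.basicOpen r) := by
  unfold e
  let UU : S.AffineZariskiSite := ⟨U, hU⟩
  let WW : S.AffineZariskiSite := ⟨S.basicOpen r, hU.basicOpen r⟩
  have hres := B.ι_res (U := UU) (V := WW) (homOfLE (show WW ≤ UU from ⟨r, rfl⟩))
  change Spec.map (B.presheaf.map (homOfLE (S.basicOpen_le r)).op) ≫ B.ι U hU =
    B.ι (S.basicOpen r) (hU.basicOpen r) at hres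
  rw [← hres, ← Spec.map_comp_assoc, rho_naturality q B B' u (S.basicOpen_le r), Spec.map_comp_assoc,
    Scheme.Opens.toSpecΓ_SpecMap_presheaf_map_assoc]

theorem exists_v : ∃ v : B'.spec ⟶ B.spec, ∀ (U : S.Opens) (hU : IsAffineOpen U),
    (B'.π ⁻¹ᵁ (q ⁻¹ᵁ U)).ι ≫ v = e q B B' u U hU :=
  Groth.Agent.Lib.RelProj_helper3.exists_glue (B'.π ≫ q) (e q B B' u) (e_compat q B B' u)

theorem key_ring (U : S.Opens) (U' : S'.Opens) (hU' : IsAffineOpen U') (hle : U' ≤ q ⁻¹ᵁ U)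
    (h : (⊤ : (Spec (B'.presheaf.obj (op U'))).Opens) ≤ B'.ι U' hU' ⁻¹ᵁ (B'.π ⁻¹ᵁ (q ⁻¹ᵁ U))) :
    rho q B B' u U ≫ (B'.ι U' hU').appLE (B'.π ⁻¹ᵁ (q ⁻¹ᵁ U)) ⊤ h ≫
      (Scheme.ΓSpecIso (B'.presheaf.obj (op U'))).hom = u.appLE U U' hle := by
  unfold rho QHom.appLE
  rw [Category.assoc]
  congr 1
  have h1 : (B'.ι U' hU').appLE (B'.π ⁻¹ᵁ (q ⁻¹ᵁ U)) ⊤ h =
      B'.spec.presheaf.map (homOfLE (B'.π.preimage_mono hle)).op ≫
        (B'.ι U' hU').appLE (B'.π ⁻¹ᵁ U') ⊤ (B'.top_le_preimage U' hU') :=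
    (Scheme.Hom.map_appLE _ _ _).symm
  have h2 : (B'.ι U' hU').appLE (B'.π ⁻¹ᵁ U') ⊤ (B'.top_le_preimage U' hU') ≫
      (Scheme.ΓSpecIso (B'.presheaf.obj (op U'))).hom = B'.gammaMap.app (op U') := by
    rw [B'.gammaMap_app U' hU']
    rfl
  have h3 := B'.gammaMap.naturality (homOfLE hle).op
  change B'.spec.presheaf.map (homOfLE (B'.π.preimage_mono hle)).op ≫ B'.gammaMap.app (op U') =
    B'.gammaMap.app (op (q ⁻¹ᵁ U)) ≫ B'.presheaf.map (homOfLE hle).op at h3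
  have h4 : (B'.ι U' hU').appLE (B'.π ⁻¹ᵁ (q ⁻¹ᵁ U)) ⊤ h ≫
      (Scheme.ΓSpecIso (B'.presheaf.obj (op U'))).hom =
      B'.gammaMap.app (op (q ⁻¹ᵁ U)) ≫ B'.presheaf.map (homOfLE hle).op := by
    rw [h1, Category.assoc, h2]
    exact h3
  have h5 : (gInv B').app (op (q ⁻¹ᵁ U)) ≫
      (B'.gammaMap.app (op (q ⁻¹ᵁ U)) ≫ B'.presheaf.map (homOfLE hle).op) =
      B'.presheaf.map (homOfLE hle).op := by
    rw [gInv_app_gammaMap_app_assoc]
  exact (congrArg (fun t => (gInv B').app (op (q ⁻¹ᵁ U)) ≫ t) h4).trans h5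

theorem chart_eq (v : B'.spec ⟶ B.spec)
    (hv : ∀ (U : S.Opens) (hU : IsAffineOpen U), (B'.π ⁻¹ᵁ (q ⁻¹ᵁ U)).ι ≫ v = e q B B' u U hU) :
    IsSpecQMap u v := by
  intro U hU U' hU' hle
  have h : (⊤ : (Spec (B'.presheaf.obj (op U'))).Opens) ≤ B'.ι U' hU' ⁻¹ᵁ (B'.π ⁻¹ᵁ (q ⁻¹ᵁ U)) :=
    (B'.top_le_preimage U' hU').trans
      (Scheme.Hom.preimage_mono _ (B'.π.preimage_mono hle))
  haveI : IsIso (⊤ : (Spec (B'.presheaf.obj (op U'))).Opens).ι :=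
    (Scheme.topIso (Spec (B'.presheaf.obj (op U')))).isIso_hom
  rw [← cancel_epi (⊤ : (Spec (B'.presheaf.obj (op U'))).Opens).ι, ← Category.assoc,
    ← Scheme.Hom.resLE_comp_ι (B'.ι U' hU') h, Category.assoc, hv U hU]
  unfold e
  rw [← Category.assoc, ← Category.assoc, ← Scheme.Opens.toSpecΓ_SpecMap_appLE, Scheme.Opens.toSpecΓ_top,
    ← SpecMap_ΓSpecIso_hom, Category.assoc, Category.assoc, Category.assoc]
  congr 1
  rw [← Spec.map_comp_assoc, ← Spec.map_comp_assoc, key_ring q B B' u U U' hU' hle h]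

theorem exists_isSpecQMap : ∃ v : B'.spec ⟶ B.spec, IsSpecQMap u v := by
  obtain ⟨v, hv⟩ := exists_v q B B' u
  exact ⟨v, chart_eq q B B' u v hv⟩

theorem isSpecQMap_unique (v v' : B'.spec ⟶ B.spec) (hv : IsSpecQMap u v) (hv' : IsSpecQMap u v') :
    v = v' := by
  refine Groth.Agent.RelSpecBC.hom_ext_of_charts _ _ (fun x => ?_)
  obtain ⟨U, hU, hgx, -⟩ := Opens.isBasis_iff_nbhd.mp S.isBasis_affineOpens
    (Opens.mem_top (q (B'.π x)))
  obtain ⟨U', hU', hx, hle⟩ := Opens.isBasis_iff_nbhd.mp S'.isBasis_affineOpens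
    (show B'.π x ∈ q ⁻¹ᵁ U from hgx)
  refine ⟨_, B'.ι U' hU', inferInstance, ?_, ?_⟩
  · rw [← B'.π_preimage U' hU']
    exact hx
  · rw [hv U hU U' hU' hle, hv' U hU U' hU' hle]

end Groth.Agent.SpecQ
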