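import Mathlib
import Groth.Prelude
import Groth.Agent.Lib.SpecQ1_helper5
import Groth.Agent.Lib.GlueGr1_helper5
import Groth.Agent.Lib.GrBC_helper5

/-!
# The inverse image of a quasi-coherent graded algebra, part 1: the algebra  (helper5)
APPEND-ONLY once landed.
-/

set_option autoImplicit false
universe u
open CategoryTheory CategoryTheory.Limits AlgebraicGeometry TopologicalSpace Opposite

noncomputable section

namespace Groth.Agent.PullGr

open RelSpec Groth.Agent.SpecQ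

theorem appLE_of_eq {X Z : Scheme.{u}} {f g : X ⟶ Z} (h : f = g) (V : Z.Opens) (U : X.Opens)
    (e : U ≤ f ⁻¹ᵁ V) (e' : U ≤ g ⁻¹ᵁ V) : f.appLE V U e = g.appLE V U e' := by
  subst h
  rfl

variable {Y Y' : Scheme.{u}} (ψ : Y' ⟶ Y) (A : RelSpec.QCAlg Y)

/-- `Spec(A) ×_Y Y'` -/
def C' : Scheme.{u} := pullback A.π ψ

/-- the projection `Spec(A) ×_Y Y' ⟶ Y'` -/
def π' : C' ψ A ⟶ Y' := pullback.snd A.π ψ

/-- the projection `Spec(A) ×_Y Y' ⟶ Spec(A)` -/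
def q : C' ψ A ⟶ A.spec := pullback.fst A.π ψ

theorem q_π : q ψ A ≫ A.π = π' ψ A ≫ ψ := pullback.condition

theorem isPullback_q : IsPullback (q ψ A) (π' ψ A) A.π ψ := IsPullback.of_hasPullback _ _

instance : IsAffineHom (π' ψ A) := MorphismProperty.pullback_snd _ _ inferInstance

/-- the inverse image algebra `ψ^*A`, as the direct image of `O` of `Spec(A) ×_Y Y'` -/
def B : RelSpec.QCAlg Y' := RelSpec.QCAlg.directImage (π' ψ A)

theorem preimage_le (U : Y.Opens) (U' : Y'.Opens) (hle : U' ≤ ψ ⁻¹ᵁ U) :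
    π' ψ A ⁻¹ᵁ U' ≤ q ψ A ⁻¹ᵁ (A.π ⁻¹ᵁ U) := by
  intro x hx
  have h1 : ψ (π' ψ A x) ∈ U := hle hx
  have h2 : A.π (q ψ A x) = ψ (π' ψ A x) := by
    rw [← Scheme.Hom.comp_apply, ← Scheme.Hom.comp_apply, q_π]
  show A.π (q ψ A x) ∈ U
  rw [h2]; exact h1

/-- the canonical `ψ`-morphism `A ⟶ ψ^*A` -/
def uQ : RelSpec.QHom ψ A (B ψ A) where
  app U := (gInv A).app (op U) ≫
    (q ψ A).appLE (A.π ⁻¹ᵁ U) (π' ψ A ⁻¹ᵁ (ψ ⁻¹ᵁ U)) (preimage_le ψ A U _ le_rfl)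
  naturality {U V} i := by
    show ((gInv A).app (op U) ≫ (q ψ A).appLE (A.π ⁻¹ᵁ U) (π' ψ A ⁻¹ᵁ (ψ ⁻¹ᵁ U)) _) ≫
      (C' ψ A).presheaf.map (homOfLE ((π' ψ A).preimage_mono (ψ.preimage_mono i))).op =
      A.presheaf.map (homOfLE i).op ≫ (gInv A).app (op V) ≫
        (q ψ A).appLE (A.π ⁻¹ᵁ V) (π' ψ A ⁻¹ᵁ (ψ ⁻¹ᵁ V)) _
    have h1 := (gInv A).naturality (homOfLE i).op
    rw [Category.assoc, Scheme.Hom.appLE_map, ← Category.assoc, h1, Category.assoc]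
    congr 1
    exact (Scheme.Hom.map_appLE (q ψ A) _ (homOfLE (A.π.preimage_mono i)).op).symm
  str_app U := by
    show A.str.app (op U) ≫ (gInv A).app (op U) ≫
      (q ψ A).appLE (A.π ⁻¹ᵁ U) (π' ψ A ⁻¹ᵁ (ψ ⁻¹ᵁ U)) _ = ψ.app U ≫ (π' ψ A).app (ψ ⁻¹ᵁ U)
    have h1 : A.str.app (op U) ≫ (gInv A).app (op U) = A.π.app U := by
      have h2 : A.π.app U ≫ A.gammaMap.app (op U) = A.str.app (op U) :=
        NatTrans.congr_app A.π_c_gammaMap (op U)
      haveI := Groth.Agent.S8255.result A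
      have h3 : A.gammaMap.app (op U) ≫ (gInv A).app (op U) = 𝟙 _ := by
        rw [← NatTrans.comp_app]
        unfold gInv
        rw [IsIso.hom_inv_id]
        rfl
      rw [← h2, Category.assoc, h3]
      exact Category.comp_id _
    rw [← Category.assoc, h1, Scheme.Hom.app_eq_appLE, Scheme.Hom.appLE_comp_appLE,
      Scheme.Hom.app_eq_appLE, Scheme.Hom.app_eq_appLE, Scheme.Hom.appLE_comp_appLE]
    exact appLE_of_eq (q_π ψ A) _ _ _ _

theorem uQ_appLE (U : Y.Opens) (U' : Y'.Opens) (hle : U' ≤ ψ ⁻¹ᵁ U) :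
    (uQ ψ A).appLE U U' hle = (gInv A).app (op U) ≫
      (q ψ A).appLE (A.π ⁻¹ᵁ U) (π' ψ A ⁻¹ᵁ U') (preimage_le ψ A U U' hle) := by
  show ((gInv A).app (op U) ≫ (q ψ A).appLE (A.π ⁻¹ᵁ U) (π' ψ A ⁻¹ᵁ (ψ ⁻¹ᵁ U)) _) ≫
    (C' ψ A).presheaf.map (homOfLE ((π' ψ A).preimage_mono hle)).op = _
  rw [Category.assoc, Scheme.Hom.appLE_map]

theorem str_gInv (U : Y.Opens) : A.str.app (op U) ≫ (gInv A).app (op U) = A.π.app U := by
  have h2 : A.π.app U ≫ A.gammaMap.app (op U) = A.str.app (op U) :=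
    NatTrans.congr_app A.π_c_gammaMap (op U)
  haveI := Groth.Agent.S8255.result A
  have h3 : A.gammaMap.app (op U) ≫ (gInv A).app (op U) = 𝟙 _ := by
    rw [← NatTrans.comp_app]
    unfold gInv
    rw [IsIso.hom_inv_id]
    rfl
  rw [← h2, Category.assoc, h3]
  exact Category.comp_id _

instance isIso_gInv_app (U : Y.Opens) : IsIso ((gInv A).app (op U)) := by
  haveI := Groth.Agent.S8255.result A
  unfold gInv
  infer_instance

/-- **`ψ^*A` is the inverse image of `A`**: pushout squares over affine pairs. -/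
theorem isQBaseChange_uQ : RelSpec.IsQBaseChange (uQ ψ A) := by
  intro U hU U' hU' hle
  have hUY : π' ψ A ⁻¹ᵁ U' = q ψ A ⁻¹ᵁ (A.π ⁻¹ᵁ U) ⊓ π' ψ A ⁻¹ᵁ U' :=
    (inf_eq_right.mpr (preimage_le ψ A U U' hle)).symm
  have hUX : IsAffineOpen (A.π ⁻¹ᵁ U) := hU.preimage A.π
  haveI := isIso_pushoutSection_of_isAffineOpen (isPullback_q ψ A) hle
    (le_refl (A.π ⁻¹ᵁ U)) hUY hU hU' hUX
  have h1 := (isIso_pushoutSection_iff (isPullback_q ψ A) hle (le_refl (A.π ⁻¹ᵁ U)) hUY).mp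
    inferInstance
  refine (IsPushout.of_iso h1 (Iso.refl _) (asIso ((gInv A).app (op U))).symm (Iso.refl _)
    (Iso.refl _) ?_ ?_ ?_ ?_).flip
  · rw [Iso.refl_hom, Category.id_comp, Iso.symm_hom, asIso_inv, IsIso.comp_inv_eq, str_gInv,
      Scheme.Hom.app_eq_appLE]
  · rw [Iso.refl_hom, Iso.refl_hom, Category.id_comp, Category.comp_id]
  · rw [Iso.refl_hom, Category.comp_id, Iso.symm_hom, asIso_inv, uQ_appLE, IsIso.inv_hom_id_assoc]
  · rw [Iso.refl_hom, Iso.refl_hom, Category.id_comp, Category.comp_id]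
    show (π' ψ A).appLE U' (π' ψ A ⁻¹ᵁ U') _ = (π' ψ A).app U'
    exact Scheme.Hom.appLE_eq_app _

end Groth.Agent.PullGr
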