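import Mathlib
import Groth.Prelude
import Groth.Agent.Lib.PullGr1_helper5

/-!
# The inverse image of a quasi-coherent graded algebra, part 2: the graded charts  (helper5)
APPEND-ONLY once landed.
-/

set_option autoImplicit false
universe u
open CategoryTheory CategoryTheory.Limits AlgebraicGeometry TopologicalSpace Opposite

noncomputable section

namespace Groth.Agent.PullGr

open RelSpec Groth.Agent.SpecQ Groth.Agent.GlueGr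

variable {Y Y' : Scheme.{u}} (ψ : Y' ⟶ Y) (𝒮 : RelProj.QCGrAlg Y)

/-- the sheaf of rings `ψ^*𝒮` -/
def sh : TopCat.Sheaf CommRingCat.{u} Y'.carrier :=
  ⟨(B ψ 𝒮.toQCAlg).presheaf, (B ψ 𝒮.toQCAlg).isSheaf⟩

/-- affine pairs `U' ⊆ ψ⁻¹ U` -/
def Idx : Type u :=
  {a : Y'.Opens × Y.Opens // IsAffineOpen a.1 ∧ IsAffineOpen a.2 ∧ a.1 ≤ ψ ⁻¹ᵁ a.2}

variable {ψ}

/-- the structure map over a pair -/
def sMap (i : Idx ψ) : Γ(Y', i.1.1) →+* (B ψ 𝒮.toQCAlg).presheaf.obj (op i.1.1) :=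
  ((B ψ 𝒮.toQCAlg).str.app (op i.1.1)).hom

/-- the map `𝒮(U) → (ψ^*𝒮)(U')` over a pair -/
def tMap (i : Idx ψ) : 𝒮.presheaf.obj (op i.1.2) →+* (B ψ 𝒮.toQCAlg).presheaf.obj (op i.1.1) :=
  ((uQ ψ 𝒮.toQCAlg).appLE i.1.2 i.1.1 i.2.2.2).hom

/-- the generators of the degree-`d` part over a pair -/
def Ngen (i : Idx ψ) (d : ℕ) : Set ((B ψ 𝒮.toQCAlg).presheaf.obj (op i.1.1)) :=
  {y | ∃ (a' : Γ(Y', i.1.1)) (s : 𝒮.presheaf.obj (op i.1.2)), s ∈ 𝒮.deg i.1.2 i.2.2.1 d ∧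
    y = sMap 𝒮 i a' * tMap 𝒮 i s}

/-- the degree-`d` part over a pair -/
def N (i : Idx ψ) (d : ℕ) : AddSubgroup ((B ψ 𝒮.toQCAlg).presheaf.obj (op i.1.1)) :=
  AddSubgroup.closure (Ngen 𝒮 i d)

theorem isPushout_pair (i : Idx ψ) :
    IsPushout (ψ.appLE i.1.2 i.1.1 i.2.2.2) (𝒮.str.app (op i.1.2))
      ((B ψ 𝒮.toQCAlg).str.app (op i.1.1)) ((uQ ψ 𝒮.toQCAlg).appLE i.1.2 i.1.1 i.2.2.2) :=
  isQBaseChange_uQ ψ 𝒮.toQCAlg i.1.2 i.2.2.1 i.1.1 i.2.1 i.2.2.2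

/-- the grading over a pair -/
@[reducible] def gradedRing_N (i : Idx ψ) : GradedRing (N 𝒮 i) := by
  letI a1 : Algebra Γ(Y, i.1.2) Γ(Y', i.1.1) := (ψ.appLE i.1.2 i.1.1 i.2.2.2).hom.toAlgebra
  letI a2 : Algebra Γ(Y, i.1.2) (𝒮.presheaf.obj (op i.1.2)) :=
    (𝒮.str.app (op i.1.2)).hom.toAlgebra
  letI a3 : Algebra Γ(Y', i.1.1) ((B ψ 𝒮.toQCAlg).presheaf.obj (op i.1.1)) := (sMap 𝒮 i).toAlgebra
  letI a4 : Algebra (𝒮.presheaf.obj (op i.1.2)) ((B ψ 𝒮.toQCAlg).presheaf.obj (op i.1.1)) :=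
    (tMap 𝒮 i).toAlgebra
  letI a5 : Algebra Γ(Y, i.1.2) ((B ψ 𝒮.toQCAlg).presheaf.obj (op i.1.1)) :=
    ((tMap 𝒮 i).comp (𝒮.str.app (op i.1.2)).hom).toAlgebra
  have hpo := isPushout_pair 𝒮 i
  haveI t1 : IsScalarTower Γ(Y, i.1.2) (𝒮.presheaf.obj (op i.1.2))
      ((B ψ 𝒮.toQCAlg).presheaf.obj (op i.1.1)) := IsScalarTower.of_algebraMap_eq' rfl
  haveI t2 : IsScalarTower Γ(Y, i.1.2) Γ(Y', i.1.1)
      ((B ψ 𝒮.toQCAlg).presheaf.obj (op i.1.1)) := IsScalarTower.of_algebraMap_eq' (by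
    have := congrArg (fun t => t.hom) hpo.w
    exact this.symm)
  have hP : Algebra.IsPushout Γ(Y, i.1.2) Γ(Y', i.1.1) (𝒮.presheaf.obj (op i.1.2))
      ((B ψ 𝒮.toQCAlg).presheaf.obj (op i.1.1)) :=
    CommRingCat.isPushout_iff_isPushout.mp hpo
  exact Groth.Agent.GrBC.gradedRing_bcGr (𝒮.deg i.1.2 i.2.2.1) (𝒮.str_mem i.1.2 i.2.2.1) hP

/-- refinement of pairs -/
def Rel (i j : Idx ψ) : Prop := i.1.1 ≤ j.1.1 ∧ i.1.2 ≤ j.1.2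

theorem res_sMap {i j : Idx ψ} (h : Rel i j) (a' : Γ(Y', j.1.1)) :
    res (sh ψ 𝒮) h.1 (sMap 𝒮 j a') = sMap 𝒮 i ((Y'.presheaf.map (homOfLE h.1).op).hom a') := by
  have h1 := (B ψ 𝒮.toQCAlg).str.naturality (homOfLE h.1).op
  have h2 := congrArg (fun t => t.hom a') h1
  exact h2.symm

theorem res_tMap {i j : Idx ψ} (h : Rel i j) (s : 𝒮.presheaf.obj (op j.1.2)) :
    res (sh ψ 𝒮) h.1 (tMap 𝒮 j s) = tMap 𝒮 i ((𝒮.presheaf.map (homOfLE h.2).op).hom s) := by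
  have h1 := (uQ ψ 𝒮.toQCAlg).appLE_map j.2.2.2 h.1
  have h2 := (uQ ψ 𝒮.toQCAlg).map_appLE h.2 i.2.2.2
  have h3 := congrArg (fun t => t.hom s) (h1.trans h2.symm)
  exact h3

theorem res_mem_N {i j : Idx ψ} (h : Rel i j) {d : ℕ}
    {x : (B ψ 𝒮.toQCAlg).presheaf.obj (op j.1.1)} (hx : x ∈ N 𝒮 j d) :
    res (sh ψ 𝒮) h.1 x ∈ N 𝒮 i d := by
  refine AddSubgroup.closure_induction (p := fun x _ => res (sh ψ 𝒮) h.1 x ∈ N 𝒮 i d)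
    ?_ ?_ ?_ ?_ hx
  · rintro _ ⟨a', s, hs, rfl⟩
    have e : res (sh ψ 𝒮) h.1 (sMap 𝒮 j a' * tMap 𝒮 j s) =
        sMap 𝒮 i ((Y'.presheaf.map (homOfLE h.1).op).hom a') *
          tMap 𝒮 i ((𝒮.presheaf.map (homOfLE h.2).op).hom s) :=
      (map_mul (res (sh ψ 𝒮) h.1) _ _).trans
        (congrArg₂ (· * ·) (res_sMap 𝒮 h a') (res_tMap 𝒮 h s))
    exact e ▸ AddSubgroup.subset_closure ⟨_, _, 𝒮.map_mem j.2.2.1 i.2.2.1 h.2 hs, rfl⟩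
  · exact (map_zero (res (sh ψ 𝒮) h.1)).symm ▸ zero_mem _
  · intro x y _ _ hx hy
    exact (map_add (res (sh ψ 𝒮) h.1) x y).symm ▸ add_mem hx hy
  · intro x _ hx
    exact (map_neg (res (sh ψ 𝒮) h.1) x).symm ▸ neg_mem hx

theorem exists_refine (i j : Idx ψ) (p : Y') (hpi : p ∈ i.1.1) (hpj : p ∈ j.1.1) :
    ∃ k : Idx ψ, Rel k i ∧ Rel k j ∧ p ∈ k.1.1 := by
  have h1 : ψ p ∈ i.1.2 ⊓ j.1.2 := ⟨i.2.2.2 hpi, j.2.2.2 hpj⟩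
  obtain ⟨W, hW, hpW, hWle⟩ := Opens.isBasis_iff_nbhd.mp Y.isBasis_affineOpens h1
  have h2 : p ∈ i.1.1 ⊓ j.1.1 ⊓ ψ ⁻¹ᵁ W := ⟨⟨hpi, hpj⟩, hpW⟩
  obtain ⟨W', hW', hpW', hW'le⟩ := Opens.isBasis_iff_nbhd.mp Y'.isBasis_affineOpens h2
  refine ⟨⟨(W', W), hW', hW, hW'le.trans inf_le_right⟩, ⟨?_, ?_⟩, ⟨?_, ?_⟩, hpW'⟩
  · exact hW'le.trans (inf_le_left.trans inf_le_left)
  · exact hWle.trans inf_le_left
  · exact hW'le.trans (inf_le_left.trans inf_le_right)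
  · exact hWle.trans inf_le_right

theorem exists_chart_le (U : Y'.Opens) (p : Y') (hp : p ∈ U) :
    ∃ i : Idx ψ, p ∈ i.1.1 ∧ i.1.1 ≤ U := by
  obtain ⟨W, hW, hpW, -⟩ := Opens.isBasis_iff_nbhd.mp Y.isBasis_affineOpens
    (Opens.mem_top (ψ p))
  have h2 : p ∈ U ⊓ ψ ⁻¹ᵁ W := ⟨hp, hpW⟩
  obtain ⟨W', hW', hpW', hW'le⟩ := Opens.isBasis_iff_nbhd.mp Y'.isBasis_affineOpens h2
  exact ⟨⟨(W', W), hW', hW, hW'le.trans inf_le_right⟩, hpW', hW'le.trans inf_le_left⟩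

variable (ψ) in
/-- **The graded charts of `ψ^*𝒮`.** -/
def charts : Charts (sh ψ 𝒮) where
  I := Idx ψ
  o i := i.1.1
  R := Rel
  hR h := h.1
  N := N 𝒮
  gr := gradedRing_N 𝒮
  hres h _ _ hx := res_mem_N 𝒮 h hx
  hrefine := exists_refine
  hbasis := exists_chart_le

end Groth.Agent.PullGr
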