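import Mathlib
import Groth.Prelude
import Groth.Agent.Lib.PullGr2_helper5

/-!
# The inverse image of a quasi-coherent graded algebra, part 3: the graded algebra  (helper5)
APPEND-ONLY once landed.
-/

set_option autoImplicit false
universe u
open CategoryTheory CategoryTheory.Limits AlgebraicGeometry TopologicalSpace Opposite

noncomputable section

namespace Groth.Agent.PullGr

open RelSpec Groth.Agent.SpecQ Groth.Agent.GlueGr

variable {Y Y' : Scheme.{u}} (ψ : Y' ⟶ Y) (𝒮 : RelProj.QCGrAlg Y)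

theorem tMap_mem_N (i : Idx ψ) {d : ℕ} {s : 𝒮.presheaf.obj (op i.1.2)}
    (hs : s ∈ 𝒮.deg i.1.2 i.2.2.1 d) : tMap 𝒮 i s ∈ N 𝒮 i d := by
  refine AddSubgroup.subset_closure ⟨1, s, hs, ?_⟩
  rw [map_one, one_mul]

theorem sMap_mem_N (i : Idx ψ) (a' : Γ(Y', i.1.1)) : sMap 𝒮 i a' ∈ N 𝒮 i 0 := by
  refine AddSubgroup.subset_closure ⟨a', 1, SetLike.GradedOne.one_mem, ?_⟩
  rw [map_one, mul_one]

theorem str_mem_M (U' : Y'.Opens) (r : Γ(Y', U')) :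
    ((B ψ 𝒮.toQCAlg).str.app (op U')).hom r ∈ M (charts ψ 𝒮) U' 0 := by
  intro i hi
  have h1 := (B ψ 𝒮.toQCAlg).str.naturality (homOfLE hi).op
  have h2 : res (sh ψ 𝒮) hi (((B ψ 𝒮.toQCAlg).str.app (op U')).hom r) =
      sMap 𝒮 i ((Y'.presheaf.map (homOfLE hi).op).hom r) :=
    (congrArg (fun t => t.hom r) h1).symm
  exact h2 ▸ sMap_mem_N ψ 𝒮 i _

/-- **The inverse image `ψ^*𝒮`** of a quasi-coherent graded algebra. -/
def pullAlg : RelProj.QCGrAlg Y' where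
  toQCAlg := B ψ 𝒮.toQCAlg
  deg U' _ := M (charts ψ 𝒮) U'
  graded U' hU' := gradedRing_M (charts ψ 𝒮) U' hU'.isCompact
  map_mem := fun _ _ i => fun hx => res_mem_M (charts ψ 𝒮) i hx
  str_mem U' _ r := str_mem_M ψ 𝒮 U' r

/-- the pair of an affine open of `Y'` and an affine open of `Y` containing its image -/
def mkIdx (U : Y.Opens) (hU : IsAffineOpen U) (U' : Y'.Opens) (hU' : IsAffineOpen U')
    (hle : U' ≤ ψ ⁻¹ᵁ U) : Idx ψ := ⟨(U', U), hU', hU, hle⟩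

theorem deg_pullAlg_iff (U : Y.Opens) (hU : IsAffineOpen U) (U' : Y'.Opens)
    (hU' : IsAffineOpen U') (hle : U' ≤ ψ ⁻¹ᵁ U) {d : ℕ}
    {x : (B ψ 𝒮.toQCAlg).presheaf.obj (op U')} :
    x ∈ (pullAlg ψ 𝒮).deg U' hU' d ↔ x ∈ N 𝒮 (mkIdx ψ U hU U' hU' hle) d :=
  mem_M_chart_iff (charts ψ 𝒮) (mkIdx ψ U hU U' hU' hle)

/-- **The canonical graded `ψ`-morphism `𝒮 ⟶ ψ^*𝒮`.** -/
def pullHom : RelProj.QGrHom ψ 𝒮 (pullAlg ψ 𝒮) where
  toQHom := uQ ψ 𝒮.toQCAlg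
  map_mem := fun U hU U' hU' hle => fun hx =>
    (deg_pullAlg_iff ψ 𝒮 U hU U' hU' hle).mpr (tMap_mem_N ψ 𝒮 (mkIdx ψ U hU U' hU' hle) hx)

theorem isQBaseChange_pullHom : RelSpec.IsQBaseChange (pullHom ψ 𝒮).toQHom :=
  isQBaseChange_uQ ψ 𝒮.toQCAlg

end Groth.Agent.PullGr
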