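import Mathlib
import Groth.Prelude
import Groth.Agent.Lib.PullGr3_helper5
import Groth.Agent.Lib.QCGrLoc_helper5

/-!
# The inverse image of a quasi-coherent graded algebra, part 4: generation and finiteness  (helper5)
APPEND-ONLY once landed.
-/

set_option autoImplicit false
universe u
open CategoryTheory CategoryTheory.Limits AlgebraicGeometry TopologicalSpace Opposite

noncomputable section

namespace Groth.Agent.PullGr

open RelSpec Groth.Agent.SpecQ Groth.Agent.GlueGr Groth.Agent.QCGrLoc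

variable {Y Y' : Scheme.{u}} (ψ : Y' ⟶ Y) (𝒮 : RelProj.QCGrAlg Y)

/-- an affine open of `Y'` is covered by finitely many basic opens each mapping into an affine
open of `Y` -/
theorem exists_good_cover (U' : Y'.Opens) (hU' : IsAffineOpen U') :
    ∃ s : Finset Γ(Y', U'), Ideal.span (s : Set Γ(Y', U')) = ⊤ ∧
      ∀ r ∈ s, ∃ V : Y.Opens, IsAffineOpen V ∧ Y'.basicOpen r ≤ ψ ⁻¹ᵁ V := by
  obtain ⟨s₀, hs₀⟩ : ∃ s₀ : Set Γ(Y', U'),
      s₀ = {r | ∃ V : Y.Opens, IsAffineOpen V ∧ Y'.basicOpen r ≤ ψ ⁻¹ᵁ V} := ⟨_, rfl⟩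
  have h1 : Ideal.span s₀ = ⊤ := by
    rw [← hU'.self_le_iSup_basicOpen_iff]
    intro p hp
    obtain ⟨V, hV, hpV, -⟩ := Opens.isBasis_iff_nbhd.mp Y.isBasis_affineOpens
      (Opens.mem_top (ψ p))
    obtain ⟨r, hr, hpr⟩ := hU'.exists_basicOpen_le (V := ψ ⁻¹ᵁ V) ⟨p, hpV⟩ hp
    refine Opens.mem_iSup.mpr ⟨⟨r, ?_⟩, hpr⟩
    rw [hs₀]
    exact ⟨V, hV, hr⟩
  obtain ⟨s, hs, hspan⟩ := (Ideal.span_eq_top_iff_finite s₀).mp h1
  refine ⟨s, hspan, fun r hr => ?_⟩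
  have := hs (Finset.mem_coe.mpr hr)
  rw [hs₀] at this
  exact this

section Pair
variable {ψ}

theorem tMap_str (i : Idx ψ) (a : Γ(Y, i.1.2)) :
    tMap 𝒮 i ((𝒮.str.app (op i.1.2)).hom a) = sMap 𝒮 i ((ψ.appLE i.1.2 i.1.1 i.2.2.2).hom a) := by
  have h := (isPushout_pair 𝒮 i).w
  exact (congrArg (fun t => t.hom a) h).symm

/-- generation in degrees `0`, `1` over a pair -/
theorem gen_pair (hgen : 𝒮.IsGenDegOne) (i : Idx ψ) :
    Subring.closure ((N 𝒮 i 0 : Set ((B ψ 𝒮.toQCAlg).presheaf.obj (op i.1.1))) ∪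
      (N 𝒮 i 1 : Set _)) = ⊤ := by
  obtain ⟨G, hG⟩ : ∃ G : Subring ((B ψ 𝒮.toQCAlg).presheaf.obj (op i.1.1)),
      G = Subring.closure ((N 𝒮 i 0 : Set ((B ψ 𝒮.toQCAlg).presheaf.obj (op i.1.1))) ∪
        (N 𝒮 i 1 : Set _)) := ⟨_, rfl⟩
  rw [← hG]
  have h1 := CommRingCat.closure_range_union_range_eq_top_of_isPushout (isPushout_pair 𝒮 i)
  rw [eq_top_iff, ← h1, Subring.closure_le]
  rintro y (⟨a', rfl⟩ | ⟨s, rfl⟩)
  · rw [hG]
    exact Subring.subset_closure (Or.inl (sMap_mem_N ψ 𝒮 i a'))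
  · have hs : s ∈ Subring.closure ((𝒮.deg i.1.2 i.2.2.1 0 : Set (𝒮.presheaf.obj (op i.1.2))) ∪
        (𝒮.deg i.1.2 i.2.2.1 1 : Set _)) := by
      rw [hgen i.1.2 i.2.2.1]; trivial
    show tMap 𝒮 i s ∈ G
    refine Subring.closure_induction (p := fun s _ => tMap 𝒮 i s ∈ G) ?_ ?_ ?_ ?_ ?_ ?_ hs
    · intro s hs
      rw [hG]
      rcases hs with hs | hs
      · exact Subring.subset_closure (Or.inl (tMap_mem_N ψ 𝒮 i hs))
      · exact Subring.subset_closure (Or.inr (tMap_mem_N ψ 𝒮 i hs))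
    · rw [map_zero]; exact G.zero_mem
    · rw [map_one]; exact G.one_mem
    · intro x y _ _ hx hy
      rw [map_add]; exact G.add_mem hx hy
    · intro x _ hx
      rw [map_neg]; exact G.neg_mem hx
    · intro x y _ _ hx hy
      rw [map_mul]; exact G.mul_mem hx hy

end Pair

theorem deg_pullAlg_eq (U : Y.Opens) (hU : IsAffineOpen U) (U' : Y'.Opens)
    (hU' : IsAffineOpen U') (hle : U' ≤ ψ ⁻¹ᵁ U) (d : ℕ) :
    ((pullAlg ψ 𝒮).deg U' hU' d : AddSubgroup ((B ψ 𝒮.toQCAlg).presheaf.obj (op U'))) =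
      N 𝒮 (mkIdx ψ U hU U' hU' hle) d :=
  AddSubgroup.ext fun _ => deg_pullAlg_iff ψ 𝒮 U hU U' hU' hle

/-- **`ψ^*𝒮` is generated in degree one if `𝒮` is.** -/
theorem isGenDegOne_pullAlg (hgen : 𝒮.IsGenDegOne) : (pullAlg ψ 𝒮).IsGenDegOne := by
  intro U' hU'
  obtain ⟨s, hs, hV⟩ := exists_good_cover ψ U' hU'
  refine gen_of_local (pullAlg ψ 𝒮) hU' s hs (fun r hr => ?_)
  obtain ⟨V, hVaff, hle⟩ := hV r hr
  have e0 := deg_pullAlg_eq ψ 𝒮 V hVaff (Y'.basicOpen r) (hU'.basicOpen r) hle 0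
  have e1 := deg_pullAlg_eq ψ 𝒮 V hVaff (Y'.basicOpen r) (hU'.basicOpen r) hle 1
  have h := gen_pair 𝒮 hgen (mkIdx ψ V hVaff (Y'.basicOpen r) (hU'.basicOpen r) hle)
  rw [← e0, ← e1] at h
  exact h

section Pair2
variable {ψ}

/-- finite type of the degree-`d` part over a pair -/
theorem ft_pair (d : ℕ) (hft : 𝒮.IsFTDeg d) (i : Idx ψ) :
    ∃ T : Finset ((B ψ 𝒮.toQCAlg).presheaf.obj (op i.1.1)),
      (↑T : Set ((B ψ 𝒮.toQCAlg).presheaf.obj (op i.1.1))) ⊆ (N 𝒮 i d : Set _) ∧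
      ∀ x ∈ N 𝒮 i d, ∃ c : (B ψ 𝒮.toQCAlg).presheaf.obj (op i.1.1) → Γ(Y', i.1.1),
        x = ∑ t ∈ T, sMap 𝒮 i (c t) * t := by
  classical
  obtain ⟨T₀, hT₀, hgen₀⟩ := hft i.1.2 i.2.2.1
  refine ⟨T₀.image (tMap 𝒮 i), ?_, ?_⟩
  · intro y hy
    obtain ⟨t, ht, rfl⟩ := Finset.mem_image.mp (Finset.mem_coe.mp hy)
    exact tMap_mem_N ψ 𝒮 i (hT₀ (Finset.mem_coe.mpr ht))
  · intro x hx
    refine exists_coeff_of_mem_comb (pullAlg ψ 𝒮) (U := i.1.1) (T₀.image (tMap 𝒮 i)) ?_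
    refine AddSubgroup.closure_induction (p := fun x _ => x ∈ comb (pullAlg ψ 𝒮) (U := i.1.1)
      (↑(T₀.image (tMap 𝒮 i)) : Set ((B ψ 𝒮.toQCAlg).presheaf.obj (op i.1.1)))) ?_ ?_ ?_ ?_ hx
    · rintro _ ⟨a', s, hs, rfl⟩
      obtain ⟨c, hc⟩ := hgen₀ s hs
      have e : sMap 𝒮 i a' * tMap 𝒮 i s = ∑ t ∈ T₀,
          sMap 𝒮 i (a' * (ψ.appLE i.1.2 i.1.1 i.2.2.2).hom (c t)) * tMap 𝒮 i t := by
        rw [hc, map_sum, Finset.mul_sum]
        refine Finset.sum_congr rfl (fun t _ => ?_)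
        rw [map_mul, tMap_str, map_mul, mul_assoc]
      rw [e]
      refine sum_mem (fun t ht => ?_)
      exact mul_mem_comb (pullAlg ψ 𝒮) (U := i.1.1) _
        (Finset.mem_coe.mpr (Finset.mem_image_of_mem _ ht))
    · exact zero_mem _
    · intro x y _ _ hx hy
      exact add_mem hx hy
    · intro x _ hx
      exact neg_mem hx

end Pair2

/-- **The degree-`d` part of `ψ^*𝒮` is of finite type if that of `𝒮` is.** -/
theorem isFTDeg_pullAlg (d : ℕ) (hft : 𝒮.IsFTDeg d) : (pullAlg ψ 𝒮).IsFTDeg d := by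
  intro U' hU'
  obtain ⟨s, hs, hV⟩ := exists_good_cover ψ U' hU'
  refine ft_of_local (pullAlg ψ 𝒮) hU' d s hs (fun r hr => ?_)
  obtain ⟨V, hVaff, hle⟩ := hV r hr
  obtain ⟨T, hT, hgen⟩ := ft_pair 𝒮 d hft
    (mkIdx ψ V hVaff (Y'.basicOpen r) (hU'.basicOpen r) hle)
  refine ⟨T, fun t ht => (deg_pullAlg_iff ψ 𝒮 V hVaff (Y'.basicOpen r) (hU'.basicOpen r) hle).mpr (hT ht), fun x hx => ?_⟩
  exact hgen x ((deg_pullAlg_iff ψ 𝒮 V hVaff (Y'.basicOpen r) (hU'.basicOpen r) hle).mp hx)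

end Groth.Agent.PullGr
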