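import Mathlib
import Groth.Prelude
import Groth.Agent.Lib.PullGr4_helper5
import Groth.Agent.Lib.RelProjEx4_helper5
import Groth.Agent.S12141

/-!
# Base change of projective morphisms  (helper5)
APPEND-ONLY once landed.
-/

set_option autoImplicit false
universe u
open CategoryTheory CategoryTheory.Limits AlgebraicGeometry TopologicalSpace Opposite

noncomputable section

namespace Groth.Agent.PullGr

open Groth.Agent.RelProjEx

/-- **Projective morphisms are stable under base change.** -/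
theorem isProjective_baseChange {X Y Y' : Scheme.{u}} (f : X ⟶ Y) (hf : RelProj.IsProjective f)
    (g : Y' ⟶ Y) : RelProj.IsProjective (pullback.snd f g) := by
  obtain ⟨𝒮, P, p, chart, e, hgen, hft, hP, he⟩ := hf
  obtain ⟨⟨h, hh⟩, hpb⟩ := Groth.Agent.S12141.result g 𝒮 (pullAlg g 𝒮) (pullHom g 𝒮)
    (isQBaseChange_pullHom g 𝒮) p chart hP (pp (pullAlg g 𝒮)) (chartP (pullAlg g 𝒮))
    (isRelProj (pullAlg g 𝒮))
  have h1 : IsPullback h (pp (pullAlg g 𝒮)) p g := hpb h hh
  have h2 : IsPullback (h ≫ e.inv) (pp (pullAlg g 𝒮)) f g := by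
    refine IsPullback.of_iso h1 (Iso.refl _) e.symm (Iso.refl _) (Iso.refl _) ?_ ?_ ?_ ?_
    · simp
    · simp
    · rw [← he]; simp
    · simp
  refine ⟨pullAlg g 𝒮, PP (pullAlg g 𝒮), pp (pullAlg g 𝒮), chartP (pullAlg g 𝒮),
    h2.isoPullback.symm, isGenDegOne_pullAlg g 𝒮 hgen, isFTDeg_pullAlg g 𝒮 1 hft,
    isRelProj (pullAlg g 𝒮), ?_⟩
  rw [Iso.symm_hom]
  exact h2.isoPullback_inv_snd

end Groth.Agent.PullGr
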