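import Mathlib
import Groth.Prelude
import Groth.Agent.Lib.ClProj4_helper5
import Groth.Agent.Lib.PullGr5_helper5

/-!
# Cancellation for projective morphisms  (helper5)
APPEND-ONLY once landed.
-/

set_option autoImplicit false
universe u
open CategoryTheory CategoryTheory.Limits AlgebraicGeometry TopologicalSpace Opposite

noncomputable section

namespace Groth.Agent.ClProj

/-- **If `f ≫ g` is projective and `g` is separated, then `f` is projective.** -/
theorem isProjective_of_comp_isSeparated {X Y Z : Scheme.{u}} (f : X ⟶ Y) (g : Y ⟶ Z)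
    [IsSeparated g] (h : RelProj.IsProjective (f ≫ g)) : RelProj.IsProjective f := by
  have h1 := Groth.Agent.PullGr.isProjective_baseChange (f ≫ g) h g
  have h2 := isProjective_comp_of_isClosedImmersion
    (pullback.lift (𝟙 _) f (Category.id_comp (f ≫ g))) (pullback.snd (f ≫ g) g) h1
  rwa [pullback.lift_snd] at h2

/-- The morphism induced on closed subschemes by a projective morphism is projective. -/
theorem isProjective_of_closedImmersions {X Y X₀ Y₀ : Scheme.{u}} (f : X ⟶ Y)
    (hf : RelProj.IsProjective f) (j : X₀ ⟶ X) [IsClosedImmersion j] (k : Y₀ ⟶ Y)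
    [IsClosedImmersion k] (f₀ : X₀ ⟶ Y₀) (hcomm : j ≫ f = f₀ ≫ k) :
    RelProj.IsProjective f₀ := by
  have h1 : RelProj.IsProjective (j ≫ f) := isProjective_comp_of_isClosedImmersion j f hf
  rw [hcomm] at h1
  exact isProjective_of_comp_isSeparated f₀ k h1

end Groth.Agent.ClProj
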