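import Mathlib
import Groth.Prelude
import Groth.Agent.Lib.QCCons3_helper5

/-!
# Homomorphisms of quasi-coherent algebras into `alg H` from data on the affine opens (helper5).
APPEND-ONLY once landed.
-/

set_option autoImplicit false
universe u
open CategoryTheory CategoryTheory.Limits AlgebraicGeometry TopologicalSpace Opposite

noncomputable section

namespace Groth.Agent.QCCons

section HomTo
variable {S : Scheme.{u}} {F : S.AffineZariskiSiteᵒᵖ ⥤ CommRingCat.{u}}
  {α : (Scheme.AffineZariskiSite.toOpensFunctor S).op ⋙ S.presheaf ⟶ F} (H : α.Coequifibered)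
  (A : RelSpec.QCAlg S)
  (β : (Scheme.AffineZariskiSite.toOpensFunctor S).op ⋙ A.presheaf ⟶ F)

/-- `alg H` as a sheaf of rings. -/
def algSheaf : TopCat.Sheaf CommRingCat.{u} S.carrier := ⟨(alg H).presheaf, (alg H).isSheaf⟩

/-- The inverse of `gammaAff`. -/
def gInv (U : S.AffineZariskiSite) : F.obj (op U) ⟶ Γ(cone H, π H ⁻¹ᵁ U.1) :=
  inv (gammaAff H U)

theorem gInv_gammaAff (U : S.AffineZariskiSite) : gInv H U ≫ gammaAff H U = 𝟙 _ :=
  IsIso.inv_hom_id _

theorem gammaAff_gInv (U : S.AffineZariskiSite) : gammaAff H U ≫ gInv H U = 𝟙 _ :=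
  IsIso.hom_inv_id _

theorem gInv_naturality {U V : S.AffineZariskiSite} (i : V ⟶ U) :
    F.map i.op ≫ gInv H V = gInv H U ≫ (cone H).presheaf.map
      (homOfLE ((π H).preimage_mono (Scheme.AffineZariskiSite.toOpens_mono i.le))).op := by
  have h2 := gammaAff_naturality H i
  unfold gInv
  rw [IsIso.eq_inv_comp, ← Category.assoc, IsIso.comp_inv_eq]
  exact h2.symm

/-- The maps over the affine opens. -/
def homRestrict : (Scheme.AffineZariskiSite.toOpensFunctor S).op ⋙ A.presheaf ⟶
    (Scheme.AffineZariskiSite.toOpensFunctor S).op ⋙ (algSheaf H).1 where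
  app U := β.app U ≫ gInv H U.unop
  naturality U V i := by
    have h1 := β.naturality i
    have h2 := gInv_naturality H i.unop
    rw [← Category.assoc, h1, Category.assoc, Category.assoc]
    congr 1

/-- The induced map of presheaves. -/
def homTo : A.presheaf ⟶ (alg H).presheaf :=
  Functor.IsCoverDense.restrictHomEquivHom (G := Scheme.AffineZariskiSite.toOpensFunctor S)
    (K := Opens.grothendieckTopology S) (ℱ := A.presheaf) (ℱ' := algSheaf H)
    (homRestrict H A β)

theorem homTo_restrict :
    (Scheme.AffineZariskiSite.toOpensFunctor S).op.whiskerLeft (homTo H A β) =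
      homRestrict H A β :=
  (Functor.IsCoverDense.restrictHomEquivHom (G := Scheme.AffineZariskiSite.toOpensFunctor S)
    (K := Opens.grothendieckTopology S) (ℱ := A.presheaf)
    (ℱ' := algSheaf H)).symm_apply_apply _

theorem homTo_app (U : S.AffineZariskiSite) :
    (homTo H A β).app (op U.1) = β.app (op U) ≫ gInv H U :=
  NatTrans.congr_app (homTo_restrict H A β) (op U)

/-- A map of presheaves into a sheaf is determined on affine opens. -/
theorem hom_ext_affine'' {G' : TopCat.Presheaf CommRingCat.{u} S.carrier}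
    (G : TopCat.Sheaf CommRingCat.{u} S.carrier) (a b : G' ⟶ G.1)
    (h : ∀ (U : S.Opens), IsAffineOpen U → a.app (op U) = b.app (op U)) : a = b := by
  apply (Functor.IsCoverDense.restrictHomEquivHom (G := Scheme.AffineZariskiSite.toOpensFunctor S)
    (K := Opens.grothendieckTopology S) (ℱ := G') (ℱ' := G)).symm.injective
  refine NatTrans.ext (funext fun U => ?_)
  exact h U.unop.1 U.unop.2

variable (hβ : ∀ U : S.AffineZariskiSite, A.str.app (op U.1) ≫ β.app (op U) = α.app (op U))

include hβ in
theorem homTo_comm : A.str ≫ homTo H A β = (alg H).str := by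
  refine hom_ext_affine'' (algSheaf H) _ _ (fun U hU => ?_)
  have h1 : (π H).app U ≫ gammaAff H (mkAff U hU) = α.app (op (mkAff U hU)) :=
    π_app_gammaAff H (mkAff U hU)
  have h2 : (π H).app U = α.app (op (mkAff U hU)) ≫ gInv H (mkAff U hU) :=
    (Category.comp_id _).symm.trans
      ((congrArg (fun t => (π H).app U ≫ t) (gammaAff_gInv H (mkAff U hU)).symm).trans
        ((Category.assoc _ _ _).symm.trans
          (congrArg (fun t => t ≫ gInv H (mkAff U hU)) h1)))
  have h3 : (homTo H A β).app (op U) = β.app (op (mkAff U hU)) ≫ gInv H (mkAff U hU) :=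
    homTo_app H A β (mkAff U hU)
  have h4 : A.str.app (op U) ≫ β.app (op (mkAff U hU)) = α.app (op (mkAff U hU)) :=
    hβ (mkAff U hU)
  exact (congrArg (fun t => A.str.app (op U) ≫ t) h3).trans
    ((Category.assoc _ _ _).symm.trans
      ((congrArg (fun t => t ≫ gInv H (mkAff U hU)) h4).trans h2.symm))

/-- **The homomorphism of quasi-coherent algebras `A ⟶ alg H`** attached to compatible maps
`A(U) ⟶ F(U)` over the affine opens. -/
def qcHom : A ⟶ alg H := ⟨homTo H A β, homTo_comm H A β hβ⟩

theorem secEquiv_qcHom (U : S.AffineZariskiSite) (x : A.presheaf.obj (op U.1)) :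
    secEquiv H U (((qcHom H A β hβ).hom.app (op U.1)).hom x) = (β.app (op U)).hom x := by
  have h1 : (homTo H A β).app (op U.1) ≫ gammaAff H U = β.app (op U) :=
    (congrArg (fun t => t ≫ gammaAff H U) (homTo_app H A β U)).trans
      ((Category.assoc _ _ _).trans
        ((congrArg (fun t => β.app (op U) ≫ t) (gInv_gammaAff H U)).trans
          (Category.comp_id _)))
  exact congrArg (fun t => t.hom x) h1

end HomTo

end Groth.Agent.QCCons
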