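import Mathlib
import Groth.Prelude
import Groth.Agent.Lib.ClProj4_helper5
import Groth.Agent.Lib.QCCons4_helper5
import Groth.Agent.Lib.GrTwPull_helper5

/-!
# Closed subschemes of a relative `Proj`, part 6: the quotient homomorphism `𝒮 ⟶ 𝒮/ℐ_X`, the closed
immersion as the induced morphism of relative `Proj`'s, and the twisting sheaves  (helper5)
APPEND-ONLY once landed.
-/

set_option autoImplicit false
universe u
open CategoryTheory CategoryTheory.Limits AlgebraicGeometry TopologicalSpace Opposite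

noncomputable section

namespace Groth.Agent.ClProj

open Groth.Agent.Lib.ProjClosed_helper3 Groth.Agent.ProjKer Groth.Agent.QCGrLoc Groth.Agent.QCQuot
open Groth.Agent.QCCons

variable {Y : Scheme.{u}} {𝒮 : RelProj.QCGrAlg Y} {P : Scheme.{u}} {p : P ⟶ Y}
  {chart : ∀ (U : Y.Opens) (hU : IsAffineOpen U),
    (((p ⁻¹ᵁ U : P.Opens) : Scheme.{u}) ≅ Proj (𝒮.deg U hU))}
  {X : Scheme.{u}} (i : X ⟶ P) [IsClosedImmersion i]
  (hP : RelProj.IsRelProj 𝒮 p chart) (hft : 𝒮.IsFTDeg 1) (hgen : 𝒮.IsGenDegOne)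

/-- The quotient maps over the affine opens. -/
def βQ : PS 𝒮 ⟶ FQ i hP hft :=
  quotNat (PS 𝒮) (idealJ 𝒮 p chart i) (fun f => idealJ_le i hP hft f)

theorem hmapQ {U V : Y.AffineZariskiSite} (j : V ⟶ U) {d : ℕ}
    {x : (FQ i hP hft).obj (op U)} (hx : x ∈ grQ i hP hft U d) :
    ((FQ i hP hft).map j.op).hom x ∈ grQ i hP hft V d := grQ_hmap i hP hft j hx

theorem algQ_eq : algQ i hP hft =
    grAlg (coequifibered_αQ i hP hft) (grQ i hP hft) (fun j _ _ hx => hmapQ i hP hft j hx)
      (grQ_hstr i hP hft) := rfl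

/-- The comparison `(𝒮/ℐ_X)(U) → 𝒮(U)/I_U`. -/
def toFQ (U : Y.Opens) (hU : IsAffineOpen U) :
    (algQ i hP hft).deg U hU →+*ᵍ grQ i hP hft (mkAff U hU) :=
  toF (coequifibered_αQ i hP hft) (grQ i hP hft) (fun j _ _ hx => hmapQ i hP hft j hx)
    (grQ_hstr i hP hft) U hU

theorem toFQ_irr (U : Y.Opens) (hU : IsAffineOpen U) :
    HomogeneousIdeal.irrelevant (grQ i hP hft (mkAff U hU)) ≤
      (HomogeneousIdeal.irrelevant ((algQ i hP hft).deg U hU)).map (toFQ i hP hft U hU) :=
  toF_irr (coequifibered_αQ i hP hft) (grQ i hP hft) (fun j _ _ hx => hmapQ i hP hft j hx)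
    (grQ_hstr i hP hft) U hU

instance isIso_projMap_toFQ (U : Y.Opens) (hU : IsAffineOpen U) :
    IsIso (Proj.map (toFQ i hP hft U hU) (toFQ_irr i hP hft U hU)) :=
  isIso_projMap_toF (coequifibered_αQ i hP hft) (grQ i hP hft)
    (fun j _ _ hx => hmapQ i hP hft j hx) (grQ_hstr i hP hft) U hU

theorem toFQ_bijective (U : Y.Opens) (hU : IsAffineOpen U) :
    Function.Bijective (toFQ i hP hft U hU) :=
  toF_bijective (coequifibered_αQ i hP hft) (grQ i hP hft)
    (fun j _ _ hx => hmapQ i hP hft j hx) (grQ_hstr i hP hft) U hU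

/-- **The quotient homomorphism `𝒮 ⟶ 𝒮/ℐ_X`** of quasi-coherent algebras. -/
def quotHom : 𝒮.toQCAlg ⟶ (algQ i hP hft).toQCAlg :=
  qcHom (coequifibered_αQ i hP hft) 𝒮.toQCAlg (βQ i hP hft) (fun _ => rfl)

theorem secEquiv_quotHom (U : Y.AffineZariskiSite) (x : 𝒮.presheaf.obj (op U.1)) :
    secEquiv (coequifibered_αQ i hP hft) U (((quotHom i hP hft).hom.app (op U.1)).hom x) =
      Ideal.Quotient.mk (idealU 𝒮 p chart i U.1 U.2) x :=
  secEquiv_qcHom (coequifibered_αQ i hP hft) 𝒮.toQCAlg (βQ i hP hft) (fun _ => rfl) U x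

theorem isGradedHom_quotHom : RelProj.IsGradedHom (quotHom i hP hft) := by
  intro U hU d x hx
  show secEquiv (coequifibered_αQ i hP hft) (mkAff U hU) _ ∈ grQ i hP hft (mkAff U hU) d
  have h := secEquiv_quotHom i hP hft (mkAff U hU) x
  exact h ▸ mk_mem_qGr (𝒮.deg U hU) (idealU 𝒮 p chart i U hU) hx

/-- Under the comparison `toF`, the quotient homomorphism is the quotient map `qH`. -/
theorem toF_comp_quotHom (U : Y.Opens) (hU : IsAffineOpen U) :
    (toFQ i hP hft U hU).comp
      (RelProj.gradedHomAt (quotHom i hP hft) (isGradedHom_quotHom i hP hft) U hU) =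
    qH i hP hft (mkAff U hU) := by
  refine GradedRingHom.ext fun x => ?_
  exact secEquiv_quotHom i hP hft (mkAff U hU) x

theorem quotHom_surjective (U : Y.Opens) (hU : IsAffineOpen U) :
    Function.Surjective
      (RelProj.gradedHomAt (quotHom i hP hft) (isGradedHom_quotHom i hP hft) U hU) := by
  intro y
  obtain ⟨x, hx⟩ := qH_surjective i hP hft (mkAff U hU) (toFQ i hP hft U hU y)
  refine ⟨x, ?_⟩
  apply (toFQ_bijective i hP hft U hU).1
  rw [← hx]
  exact congrArg (fun φ : 𝒮.deg U hU →+*ᵍ grQ i hP hft (mkAff U hU) => φ x)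
    (toF_comp_quotHom i hP hft U hU)

theorem quotHom_irr (U : Y.Opens) (hU : IsAffineOpen U) :
    HomogeneousIdeal.irrelevant ((algQ i hP hft).deg U hU) ≤
      (HomogeneousIdeal.irrelevant (𝒮.deg U hU)).map
        (RelProj.gradedHomAt (quotHom i hP hft) (isGradedHom_quotHom i hP hft) U hU) :=
  Groth.Agent.Lib.GradedQuot_helper3.irrelevant_le_map_of_surjective _
    (quotHom_surjective i hP hft U hU)

/-- The charts of `X` as the relative `Proj` of `𝒮/ℐ_X`. -/
def chartA (U : Y.Opens) (hU : IsAffineOpen U) :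
    ((fmap p i ⁻¹ᵁ U : X.Opens) : Scheme.{u}) ≅ Proj ((algQ i hP hft).deg U hU) :=
  chartQ i hP hft hgen (mkAff U hU) ≪≫
    asIso (Proj.map (toFQ i hP hft U hU) (toFQ_irr i hP hft U hU))

theorem isRelProj_algQ :
    RelProj.IsRelProj (algQ i hP hft) (fmap p i) (chartA i hP hft hgen) :=
  isRelProj_grAlg (coequifibered_αQ i hP hft) (grQ i hP hft)
    (fun j _ _ hx => hmapQ i hP hft j hx) (grQ_hstr i hP hft) (fmap p i)
    (chartQ i hP hft hgen) (chartQ_over i hP hft hgen)
    (fun U r => chartQ_res i hP hft hgen U r _ _)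

/-- **The closed immersion is the morphism of relative `Proj`'s induced by the quotient
homomorphism.** -/
theorem isRelProjMap_quotHom :
    RelProj.IsRelProjMap (quotHom i hP hft) (isGradedHom_quotHom i hP hft)
      (quotHom_irr i hP hft) chart (chartA i hP hft hgen) i := by
  intro U hU
  have h1 := chartQ_spec i hP hft hgen (mkAff U hU)
  have h2 : Proj.map (toFQ i hP hft U hU) (toFQ_irr i hP hft U hU) ≫
      Proj.map (RelProj.gradedHomAt (quotHom i hP hft) (isGradedHom_quotHom i hP hft) U hU)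
        (quotHom_irr i hP hft U hU) =
      Proj.map (qH i hP hft (mkAff U hU)) (qH_irr i hP hft (mkAff U hU)) :=
    (Proj.map_comp (RelProj.gradedHomAt (quotHom i hP hft) (isGradedHom_quotHom i hP hft) U hU)
      (toFQ i hP hft U hU) (quotHom_irr i hP hft U hU) (toFQ_irr i hP hft U hU)).symm.trans
      (Groth.Agent.QCCons.projMap_congr (toF_comp_quotHom i hP hft U hU) _ _)
  have h3 : (chartA i hP hft hgen U hU).hom ≫
      Proj.map (RelProj.gradedHomAt (quotHom i hP hft) (isGradedHom_quotHom i hP hft) U hU)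
        (quotHom_irr i hP hft U hU) = iU p i U ≫ (chart U hU).hom := by
    unfold chartA
    rw [Iso.trans_hom, asIso_hom, Category.assoc, h2]
    exact h1
  calc (fmap p i ⁻¹ᵁ U).ι ≫ i = iU p i U ≫ (p ⁻¹ᵁ U).ι := (iU_ι p i U).symm
    _ = iU p i U ≫ ((chart U hU).hom ≫ (chart U hU).inv) ≫ (p ⁻¹ᵁ U).ι := by
        rw [Iso.hom_inv_id, Category.id_comp]
    _ = (iU p i U ≫ (chart U hU).hom) ≫ (chart U hU).inv ≫ (p ⁻¹ᵁ U).ι := by
        simp only [Category.assoc]
    _ = _ := by rw [← h3]; simp only [Category.assoc]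

/-- **The twisting sheaves of a closed subscheme of a relative `Proj` are the restrictions of those
of the ambient `Proj`.** -/
theorem nonempty_iso_pullback_twist {n : ℤ} {LP : P.Modules}
    {lamP : ∀ (U : Y.Opens) (hU : IsAffineOpen U),
      LP ⟶ (Scheme.Modules.pushforward (RelProj.emb p chart U hU)).obj
        (GrTwist.twist (𝒮.deg U hU) n)}
    (hLP : RelProj.IsRelTwist 𝒮 p chart n LP lamP) {LX : X.Modules}
    {lamX : ∀ (U : Y.Opens) (hU : IsAffineOpen U),
      LX ⟶ (Scheme.Modules.pushforward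
        (RelProj.emb (fmap p i) (chartA i hP hft hgen) U hU)).obj
        (GrTwist.twist ((algQ i hP hft).deg U hU) n)}
    (hLX : RelProj.IsRelTwist (algQ i hP hft) (fmap p i) (chartA i hP hft hgen) n LX lamX) :
    Nonempty ((Scheme.Modules.pullback i).obj LP ≅ LX) := by
  have h := Groth.Agent.GrTw.isIso_adj_theta (quotHom i hP hft) (isGradedHom_quotHom i hP hft)
    (quotHom_irr i hP hft) i hgen (isRelProjMap_quotHom i hP hft hgen) hLP hLX
    (isRelProj_algQ i hP hft hgen)
  exact ⟨@asIso _ _ _ _ _ h⟩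

end Groth.Agent.ClProj
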