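import Mathlib
import Groth.Prelude
import Groth.Agent.Lib.PB7_helper8
import Groth.Agent.Lib.GrTwPull_helper5
import Groth.Agent.Lib.LimModDict_helper2
import Groth.Agent.Lib.QCohExtn_helper9

/-!
# When is the adjoint `Φ^* M ⟶ N` of `θ : M ⟶ Φ_* N` an isomorphism? (helper2)

* `bijective_of_isBaseChange_pair`: a semilinear comparison between two base changes of the same
  module is bijective.
* `adj_cUV`: the adjoint of `θ` on a pulled-back section.
* `bijective_adj_app`: if, for affine opens `V ⊆ Φ⁻¹ U`, the map `Γ(M, U) → Γ(N, V)` induced by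
  `θ` is a base change along `Γ(X, U) → Γ(Y, V)`, the adjoint is bijective on sections over `V`.
* `bijective_adj_app_of_bijective`: same when both `Γ(X, U) → Γ(Y, V)` and `Γ(M, U) → Γ(N, V)` are
  bijective.
* `isIso_adj`: the adjoint is an isomorphism if it is bijective on the members of an affine cover.
APPEND-ONLY once landed.
-/

set_option autoImplicit false
universe u
open CategoryTheory CategoryTheory.Limits AlgebraicGeometry TopologicalSpace Opposite TensorProduct

namespace Groth.Agent.Lib.PullAdjH2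

open QcqsLoc QCohExtn

section Alg

variable {R S : Type*} [CommRing R] [CommRing S] [Algebra R S]
  {M P Q : Type*} [AddCommGroup M] [Module R M] [AddCommGroup P] [Module R P] [Module S P]
  [IsScalarTower R S P] [AddCommGroup Q] [Module R Q] [Module S Q] [IsScalarTower R S Q]

/-- a semilinear comparison between two base changes of the same module is bijective -/
theorem bijective_of_isBaseChange_pair {j : M →ₗ[R] P} {k : M →ₗ[R] Q} (hj : IsBaseChange S j)
    (hk : IsBaseChange S k) (l : P →+ Q) (hl : ∀ (s : S) (p : P), l (s • p) = s • l p)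
    (hc : ∀ m, l (j m) = k m) : Function.Bijective l := by
  let L : P →ₗ[S] Q := { toFun := l, map_add' := map_add l, map_smul' := hl }
  have h1 : L ∘ₗ hj.equiv.toLinearMap = hk.equiv.toLinearMap := by
    apply TensorProduct.AlgebraTensorModule.ext
    intro s m
    show l (hj.equiv (s ⊗ₜ m)) = hk.equiv (s ⊗ₜ m)
    rw [IsBaseChange.equiv_tmul, IsBaseChange.equiv_tmul, hl, hc]
  have h2 : (l : P → Q) = hk.equiv ∘ hj.equiv.symm := by
    funext p
    have h3 := LinearMap.congr_fun h1 (hj.equiv.symm p)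
    have h4 : L (hj.equiv (hj.equiv.symm p)) = hk.equiv (hj.equiv.symm p) := h3
    rw [LinearEquiv.apply_symm_apply] at h4
    exact h4
  rw [h2]
  exact hk.equiv.bijective.comp hj.equiv.symm.bijective

/-- a base change along a bijective ring homomorphism is bijective -/
theorem bijective_of_isBaseChange_of_bijective {j : M →ₗ[R] P} (hj : IsBaseChange S j)
    (hb : Function.Bijective (algebraMap R S)) : Function.Bijective j := by
  let e : R ≃ₗ[R] S := LinearEquiv.ofBijective (Algebra.linearMap R S) hb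
  let e2 : M ≃ₗ[R] S ⊗[R] M :=
    (TensorProduct.lid R M).symm ≪≫ₗ TensorProduct.congr e (LinearEquiv.refl R M)
  have h1 : (j : M → P) = hj.equiv ∘ e2 := by
    funext m
    show j m = hj.equiv (e2 m)
    have h2 : e2 m = (1 : S) ⊗ₜ[R] m := by
      show TensorProduct.congr e (LinearEquiv.refl R M) ((TensorProduct.lid R M).symm m) = _
      rw [TensorProduct.lid_symm_apply, TensorProduct.congr_tmul]
      show (algebraMap R S 1) ⊗ₜ[R] m = _
      rw [map_one]
    rw [h2, IsBaseChange.equiv_tmul, one_smul]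
  rw [h1]
  exact hj.equiv.bijective.comp e2.bijective

end Alg

section Geo

variable {X Y : Scheme.{u}} (Φ : Y ⟶ X) {M : X.Modules} {N : Y.Modules}
  (θ : M ⟶ (Scheme.Modules.pushforward Φ).obj N)

/-- the adjoint `Φ^* M ⟶ N` of `θ : M ⟶ Φ_* N` -/
noncomputable abbrev adj : (Scheme.Modules.pullback Φ).obj M ⟶ N :=
  ((Scheme.Modules.pullbackPushforwardAdjunction Φ).homEquiv M N).symm θ

/-- the map `Γ(M, U) → Γ(N, V)` induced by `θ`, for `V ⊆ Φ⁻¹ U` -/
noncomputable def thetaUV {U : X.Opens} {V : Y.Opens} (h : V ≤ Φ ⁻¹ᵁ U) : Γ(M, U) →+ Γ(N, V) :=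
  (rF N h).comp (ap θ U)

theorem thetaUV_apply {U : X.Opens} {V : Y.Opens} (h : V ≤ Φ ⁻¹ᵁ U) (m : Γ(M, U)) :
    thetaUV Φ θ h m = rF N h (ap θ U m) := rfl

theorem thetaUV_smul {U : X.Opens} {V : Y.Opens} (h : V ≤ Φ ⁻¹ᵁ U) (a : Γ(X, U)) (m : Γ(M, U)) :
    thetaUV Φ θ h (a • m) = (Φ.appLE U V h).hom a • thetaUV Φ θ h m := by
  rw [thetaUV_apply, thetaUV_apply, ap_smul]
  exact Scheme.Modules.map_smul N (homOfLE h) ((Φ.app U).hom a) (ap θ U m)

theorem cUV_eq_rF {U : X.Opens} {V : Y.Opens} (h : V ≤ Φ ⁻¹ᵁ U) (m : Γ(M, U)) :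
    PBH8.cUV Φ M h m =
      rF ((Scheme.Modules.pullback Φ).obj M) h (PBH8.cUV Φ M (le_refl (Φ ⁻¹ᵁ U)) m) := by
  have h2 : PBH8.cUV Φ M (le_refl (Φ ⁻¹ᵁ U)) m =
      ((Scheme.Modules.pullbackPushforwardAdjunction Φ).unit.app M).app U m := by
    unfold PBH8.cUV
    exact SubExt.rF_self _ _ _
  rw [h2]
  rfl

/-- the adjoint of `θ` sends the pulled-back section of `m` to `θ m` -/
theorem adj_cUV {U : X.Opens} {V : Y.Opens} (h : V ≤ Φ ⁻¹ᵁ U) (m : Γ(M, U)) :
    ap (adj Φ θ) V (PBH8.cUV Φ M h m) = thetaUV Φ θ h m := by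
  rw [cUV_eq_rF, ap_rF, thetaUV_apply]
  congr 1
  exact Groth.Agent.GrTw.adj_symm_cUV Φ θ U m

theorem bijective_adj_app [M.IsQuasicoherent] {U : X.Opens} {V : Y.Opens} (h : V ≤ Φ ⁻¹ᵁ U)
    (hU : IsAffineOpen U) (hV : IsAffineOpen V) :
    letI := (Φ.appLE U V h).hom.toAlgebra
    letI : Module Γ(X, U) Γ(N, V) := Module.compHom _ (Φ.appLE U V h).hom
    haveI : IsScalarTower Γ(X, U) Γ(Y, V) Γ(N, V) :=
      IsScalarTower.of_algebraMap_smul fun _ _ => rfl
    ∀ θl : Γ(M, U) →ₗ[Γ(X, U)] Γ(N, V), (∀ m, θl m = thetaUV Φ θ h m) →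
      IsBaseChange Γ(Y, V) θl → Function.Bijective (ap (adj Φ θ) V) := by
  letI := (Φ.appLE U V h).hom.toAlgebra
  letI : Module Γ(X, U) Γ(N, V) := Module.compHom _ (Φ.appLE U V h).hom
  haveI : IsScalarTower Γ(X, U) Γ(Y, V) Γ(N, V) :=
    IsScalarTower.of_algebraMap_smul fun _ _ => rfl
  letI : Module Γ(X, U) Γ((Scheme.Modules.pullback Φ).obj M, V) :=
    Module.compHom _ (Φ.appLE U V h).hom
  haveI : IsScalarTower Γ(X, U) Γ(Y, V) Γ((Scheme.Modules.pullback Φ).obj M, V) :=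
    IsScalarTower.of_algebraMap_smul fun _ _ => rfl
  intro θl hθl hbc
  have hbc1 := PBH8.isBaseChange_cUV Φ M h hV hU
  exact bijective_of_isBaseChange_pair hbc1 hbc (ap (adj Φ θ) V) (fun s p => ap_smul _ s p)
    (fun m => by rw [PBH8.cUVLin_apply, adj_cUV, hθl])

theorem bijective_adj_app_of_bijective [M.IsQuasicoherent] {U : X.Opens} {V : Y.Opens}
    (h : V ≤ Φ ⁻¹ᵁ U) (hU : IsAffineOpen U) (hV : IsAffineOpen V)
    (hρ : Function.Bijective (Φ.appLE U V h).hom) (hθ : Function.Bijective (thetaUV Φ θ h)) :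
    Function.Bijective (ap (adj Φ θ) V) := by
  letI := (Φ.appLE U V h).hom.toAlgebra
  letI : Module Γ(X, U) Γ((Scheme.Modules.pullback Φ).obj M, V) :=
    Module.compHom _ (Φ.appLE U V h).hom
  haveI : IsScalarTower Γ(X, U) Γ(Y, V) Γ((Scheme.Modules.pullback Φ).obj M, V) :=
    IsScalarTower.of_algebraMap_smul fun _ _ => rfl
  have hbc1 := PBH8.isBaseChange_cUV Φ M h hV hU
  have hc : Function.Bijective (PBH8.cUVLin Φ M h) :=
    bijective_of_isBaseChange_of_bijective hbc1 hρ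
  have h1 : (thetaUV Φ θ h : Γ(M, U) → Γ(N, V)) =
      (ap (adj Φ θ) V) ∘ (PBH8.cUVLin Φ M h) := by
    funext m
    show _ = ap (adj Φ θ) V (PBH8.cUVLin Φ M h m)
    rw [PBH8.cUVLin_apply, adj_cUV]
  rw [h1] at hθ
  exact (Function.Bijective.of_comp_iff _ hc).mp hθ

theorem isIso_adj [M.IsQuasicoherent] [N.IsQuasicoherent]
    (H : ∀ y : Y, ∃ V : Y.Opens, IsAffineOpen V ∧ y ∈ V ∧ Function.Bijective (ap (adj Φ θ) V)) :
    IsIso (adj Φ θ) :=
  Groth.Agent.Lib.LimMod.isIso_of_affine_cover _ H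

end Geo

end Groth.Agent.Lib.PullAdjH2
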