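import Mathlib
import Groth.Prelude
import Groth.Agent.Lib.GrTiGlue_helper5
import Groth.Agent.Lib.TwistEpi_helper5

/-!
# Morphisms into a module `(𝒩(n))~` on a relative `Proj` from chartwise data (helper5).
APPEND-ONLY once landed.
-/

set_option autoImplicit false
universe u
open CategoryTheory CategoryTheory.Limits AlgebraicGeometry TopologicalSpace Opposite DirectSum
open HomogeneousLocalization

namespace Groth.Agent.GrTi

open Groth.Agent.GrTw

section Hom
variable {Y P : Scheme.{u}} {𝒮 : RelProj.QCGrAlg Y} {p : P ⟶ Y}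
  {chart : ∀ (U : Y.Opens) (hU : IsAffineOpen U),
    (((p ⁻¹ᵁ U : P.Opens) : Scheme.{u}) ≅ Proj (𝒮.deg U hU))}
  {𝒩 : RelProj.GrModule 𝒮} {n : ℤ} {G : P.Modules}
  {lam' : ∀ (U : Y.Opens) (hU : IsAffineOpen U),
    G ⟶ (Scheme.Modules.pushforward (RelProj.emb p chart U hU)).obj
      (GrMod.tilde (𝒮.deg U hU) (𝒩.deg U hU) n)}

theorem chartSec_smul {k : ℤ} {ℳ : RelProj.GrModule 𝒮} {M : P.Modules}
    (μ : ∀ (U : Y.Opens) (hU : IsAffineOpen U),
      M ⟶ (Scheme.Modules.pushforward (RelProj.emb p chart U hU)).obj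
        (GrMod.tilde (𝒮.deg U hU) (ℳ.deg U hU) k))
    (V : Y.Opens) (hV : IsAffineOpen V) (W : P.Opens) (r : Γ(P, W)) (s : Γ(M, W)) :
    chartSec 𝒮 p chart ℳ k M μ V hV W (r • s) =
      (((RelProj.emb p chart V hV).app W).hom r) • chartSec 𝒮 p chart ℳ k M μ V hV W s := by
  refine (QCohExtn.ap_smul (μ V hV) r s).trans ?_
  rfl

theorem chartSec_add {k : ℤ} {ℳ : RelProj.GrModule 𝒮} {M : P.Modules}
    (μ : ∀ (U : Y.Opens) (hU : IsAffineOpen U),
      M ⟶ (Scheme.Modules.pushforward (RelProj.emb p chart U hU)).obj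
        (GrMod.tilde (𝒮.deg U hU) (ℳ.deg U hU) k))
    (V : Y.Opens) (hV : IsAffineOpen V) (W : P.Opens) (s s' : Γ(M, W)) :
    chartSec 𝒮 p chart ℳ k M μ V hV W (s + s') =
      chartSec 𝒮 p chart ℳ k M μ V hV W s + chartSec 𝒮 p chart ℳ k M μ V hV W s' :=
  map_add _ _ _

variable (𝒮 p chart 𝒩 n) in
/-- A natural, additive, semilinear family of compatible chartwise sections of the `𝒩(V)(n)~`
attached to the sections of a module `F` on `P`. -/
structure ChartFamily (F : P.Modules) where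
  t : ∀ (W : P.Opens) (_ : Γ(F, W)) (V : Y.Opens) (hV : IsAffineOpen V),
    Γ(GrMod.tilde (𝒮.deg V hV) (𝒩.deg V hV) n, (RelProj.emb p chart V hV) ⁻¹ᵁ W)
  compat : ∀ (W : P.Opens) (s : Γ(F, W)),
    ChartCompat (𝒮 := 𝒮) (p := p) (chart := chart) (ℳ := 𝒩) (n := n) W (t W s)
  add : ∀ (W : P.Opens) (a b : Γ(F, W)) (V : Y.Opens) (hV : IsAffineOpen V),
    t W (a + b) V hV = t W a V hV + t W b V hV
  smul : ∀ (W : P.Opens) (r : Γ(P, W)) (s : Γ(F, W)) (V : Y.Opens) (hV : IsAffineOpen V),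
    t W (r • s) V hV = (((RelProj.emb p chart V hV).app W).hom r) • t W s V hV
  rF : ∀ {W W' : P.Opens} (hle : W' ≤ W) (s : Γ(F, W)) (V : Y.Opens) (hV : IsAffineOpen V),
    t W' (QcqsLoc.rF F hle s) V hV =
      QcqsLoc.rF (GrMod.tilde (𝒮.deg V hV) (𝒩.deg V hV) n)
        ((RelProj.emb p chart V hV).preimage_mono hle) (t W s V hV)

variable {F : P.Modules}

/-- The section of `G` glued from a chart family. -/
noncomputable def famFun (hG : RelProj.IsRelTilde 𝒮 p chart 𝒩 n G lam')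
    (hP : RelProj.IsRelProj 𝒮 p chart) (T : ChartFamily 𝒮 p chart 𝒩 n F)
    (W : P.Opens) (s : Γ(F, W)) : Γ(G, W) :=
  Classical.choose (exists_glue hG hP W (T.t W s) (T.compat W s))

theorem famFun_spec (hG : RelProj.IsRelTilde 𝒮 p chart 𝒩 n G lam')
    (hP : RelProj.IsRelProj 𝒮 p chart) (T : ChartFamily 𝒮 p chart 𝒩 n F)
    (W : P.Opens) (s : Γ(F, W)) (V : Y.Opens) (hV : IsAffineOpen V) :
    chartSec 𝒮 p chart 𝒩 n G lam' V hV W (famFun hG hP T W s) = T.t W s V hV :=
  Classical.choose_spec (exists_glue hG hP W (T.t W s) (T.compat W s)) V hV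

/-- **The morphism `F ⟶ G` attached to a chart family.** -/
noncomputable def homOfFamily (hG : RelProj.IsRelTilde 𝒮 p chart 𝒩 n G lam')
    (hP : RelProj.IsRelProj 𝒮 p chart) (T : ChartFamily 𝒮 p chart 𝒩 n F) : F ⟶ G :=
  Groth.Agent.FinGG.homOfSections (M := F) (P := G)
    (fun W => AddMonoidHom.mk' (fun s => famFun hG hP T W s) (fun a b => by
      apply ext_chartSec hG
      intro V hV
      rw [chartSec_add, famFun_spec, famFun_spec, famFun_spec, T.add]))
    (fun W r s => by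
      apply ext_chartSec hG
      intro V hV
      show chartSec 𝒮 p chart 𝒩 n G lam' V hV W (famFun hG hP T W (r • s)) =
        chartSec 𝒮 p chart 𝒩 n G lam' V hV W (r • famFun hG hP T W s)
      rw [chartSec_smul, famFun_spec, famFun_spec, T.smul])
    (fun {W W'} hle s => by
      apply ext_chartSec hG
      intro V hV
      show chartSec 𝒮 p chart 𝒩 n G lam' V hV W' (QcqsLoc.rF G hle (famFun hG hP T W s)) =
        chartSec 𝒮 p chart 𝒩 n G lam' V hV W' (famFun hG hP T W' (QcqsLoc.rF F hle s))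
      rw [chartSec_rF, famFun_spec, famFun_spec, T.rF])

theorem chartSec_homOfFamily (hG : RelProj.IsRelTilde 𝒮 p chart 𝒩 n G lam')
    (hP : RelProj.IsRelProj 𝒮 p chart) (T : ChartFamily 𝒮 p chart 𝒩 n F)
    (W : P.Opens) (s : Γ(F, W)) (V : Y.Opens) (hV : IsAffineOpen V) :
    chartSec 𝒮 p chart 𝒩 n G lam' V hV W (QCohExtn.ap (homOfFamily hG hP T) W s) = T.t W s V hV :=
  famFun_spec hG hP T W s V hV

/-- Two morphisms into `G` with the same chart sections agree. -/
theorem hom_ext_chartSec (hG : RelProj.IsRelTilde 𝒮 p chart 𝒩 n G lam') (a b : F ⟶ G)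
    (h : ∀ (W : P.Opens) (s : Γ(F, W)) (V : Y.Opens) (hV : IsAffineOpen V),
      chartSec 𝒮 p chart 𝒩 n G lam' V hV W (QCohExtn.ap a W s) =
        chartSec 𝒮 p chart 𝒩 n G lam' V hV W (QCohExtn.ap b W s)) : a = b := by
  apply Scheme.Modules.hom_ext
  intro W
  apply ConcreteCategory.hom_ext
  intro s
  exact ext_chartSec hG _ _ (fun V hV => h W s V hV)

end Hom

section Iso
variable {Y P : Scheme.{u}} {𝒮 : RelProj.QCGrAlg Y} {p : P ⟶ Y}
  {chart : ∀ (U : Y.Opens) (hU : IsAffineOpen U),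
    (((p ⁻¹ᵁ U : P.Opens) : Scheme.{u}) ≅ Proj (𝒮.deg U hU))}
  {ℳ : RelProj.GrModule 𝒮} {n : ℤ} {F F' : P.Modules}
  {lam : ∀ (U : Y.Opens) (hU : IsAffineOpen U),
    F ⟶ (Scheme.Modules.pushforward (RelProj.emb p chart U hU)).obj
      (GrMod.tilde (𝒮.deg U hU) (ℳ.deg U hU) n)}
  {lam' : ∀ (U : Y.Opens) (hU : IsAffineOpen U),
    F' ⟶ (Scheme.Modules.pushforward (RelProj.emb p chart U hU)).obj
      (GrMod.tilde (𝒮.deg U hU) (ℳ.deg U hU) n)}

/-- The chart family given by the chart sections of a module `(ℳ(n))~`. -/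
noncomputable def idFamily (hF : RelProj.IsRelTilde 𝒮 p chart ℳ n F lam) :
    ChartFamily 𝒮 p chart ℳ n F where
  t W s V hV := chartSec 𝒮 p chart ℳ n F lam V hV W s
  compat W s := chartCompat_chartSec hF W s
  add W a b V hV := chartSec_add lam V hV W a b
  smul W r s V hV := chartSec_smul lam V hV W r s
  rF hle s V hV := chartSec_rF 𝒮 p chart ℳ n F lam V hV hle s

/-- A morphism is compatible with the chart maps iff it is so on chart sections. -/
theorem comp_lam_eq_iff {H : P.Modules} (φ : H ⟶ F') (U : Y.Opens) (hU : IsAffineOpen U)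
    (μ : H ⟶ (Scheme.Modules.pushforward (RelProj.emb p chart U hU)).obj
      (GrMod.tilde (𝒮.deg U hU) (ℳ.deg U hU) n)) :
    φ ≫ lam' U hU = μ ↔ ∀ (W : P.Opens) (s : Γ(H, W)),
      chartSec 𝒮 p chart ℳ n F' lam' U hU W (QCohExtn.ap φ W s) = QCohExtn.ap μ W s := by
  constructor
  · rintro rfl W s
    rfl
  · intro h
    apply Scheme.Modules.hom_ext
    intro W
    apply ConcreteCategory.hom_ext
    intro s
    exact h W s

/-- **Uniqueness of `(ℳ(n))~`**: two chartwise identified modules are related by exactly one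
morphism compatible with the identifications, and it is an isomorphism. -/
theorem existsUnique_iso (hP : RelProj.IsRelProj 𝒮 p chart)
    (hF : RelProj.IsRelTilde 𝒮 p chart ℳ n F lam)
    (hF' : RelProj.IsRelTilde 𝒮 p chart ℳ n F' lam') :
    (∃! φ : F ⟶ F', ∀ (U : Y.Opens) (hU : IsAffineOpen U), φ ≫ lam' U hU = lam U hU) ∧
      ∀ φ : F ⟶ F', (∀ (U : Y.Opens) (hU : IsAffineOpen U), φ ≫ lam' U hU = lam U hU) →
        IsIso φ := by
  have huniq : ∀ φ : F ⟶ F', (∀ (U : Y.Opens) (hU : IsAffineOpen U), φ ≫ lam' U hU = lam U hU) →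
      φ = homOfFamily hF' hP (idFamily hF) := by
    intro φ hφ
    apply hom_ext_chartSec hF'
    intro W s V hV
    rw [chartSec_homOfFamily]
    exact (comp_lam_eq_iff φ V hV (lam V hV)).mp (hφ V hV) W s
  have hspec : ∀ (U : Y.Opens) (hU : IsAffineOpen U),
      homOfFamily hF' hP (idFamily hF) ≫ lam' U hU = lam U hU := by
    intro U hU
    rw [comp_lam_eq_iff]
    intro W s
    exact chartSec_homOfFamily hF' hP (idFamily hF) W s U hU
  have hspec' : ∀ (U : Y.Opens) (hU : IsAffineOpen U),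
      homOfFamily hF hP (idFamily hF') ≫ lam U hU = lam' U hU := by
    intro U hU
    rw [comp_lam_eq_iff]
    intro W s
    exact chartSec_homOfFamily hF hP (idFamily hF') W s U hU
  refine ⟨⟨homOfFamily hF' hP (idFamily hF), hspec, fun φ hφ => huniq φ hφ⟩, ?_⟩
  intro φ hφ
  rw [huniq φ hφ]
  refine ⟨homOfFamily hF hP (idFamily hF'), ?_, ?_⟩
  · apply hom_ext_chartSec hF
    intro W s V hV
    have h1 : (homOfFamily hF' hP (idFamily hF) ≫ homOfFamily hF hP (idFamily hF')) ≫ lam V hV =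
        lam V hV := by
      rw [Category.assoc, hspec', hspec]
    have h2 := (comp_lam_eq_iff (lam' := lam) _ V hV (lam V hV)).mp h1 W s
    exact h2
  · apply hom_ext_chartSec hF'
    intro W s V hV
    have h1 : (homOfFamily hF hP (idFamily hF') ≫ homOfFamily hF' hP (idFamily hF)) ≫ lam' V hV =
        lam' V hV := by
      rw [Category.assoc, hspec, hspec']
    have h2 := (comp_lam_eq_iff (lam' := lam') _ V hV (lam' V hV)).mp h1 W s
    exact h2

end Iso

end Groth.Agent.GrTi
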