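import Mathlib
import Groth.Prelude
import Groth.Agent.Lib.GrTiHom_helper5

/-!
# The morphism `(ℳ(n))~ ⟶ (𝒩(n))~` on a relative `Proj` induced by a homomorphism of graded modules
(helper5).  APPEND-ONLY once landed.
-/

set_option autoImplicit false
universe u
open CategoryTheory CategoryTheory.Limits AlgebraicGeometry TopologicalSpace Opposite DirectSum
open HomogeneousLocalization

namespace Groth.Agent.GrTi

open Groth.Agent.GrTw

section RingLevel
variable {A σ : Type u} [CommRing A] [SetLike σ A] [AddSubgroupClass σ A] {𝒜 : ℕ → σ}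
  [GradedRing 𝒜]
  {B σ' : Type u} [CommRing B] [SetLike σ' B] [AddSubgroupClass σ' B] {ℬ : ℕ → σ'} [GradedRing ℬ]
  {M M' : Type u} [AddCommGroup M] [Module A M] [AddCommGroup M'] [Module A M']
  {N N' : Type u} [AddCommGroup N] [Module B N] [AddCommGroup N'] [Module B N']

/-- The induced maps of localized modules commute. -/
theorem locMap_locModMap (ψ : 𝒜 →+*ᵍ ℬ) (hψ : HomogeneousIdeal.irrelevant ℬ ≤
      (HomogeneousIdeal.irrelevant 𝒜).map ψ)
    (v : M →ₛₗ[ψ.toRingHom] N) (v' : M' →ₛₗ[ψ.toRingHom] N') (a : M →ₗ[A] M') (b : N →ₗ[B] N')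
    (hab : ∀ m, b (v m) = v' (a m)) (y : ProjectiveSpectrum ℬ)
    (q : GrMod.LocMod 𝒜 (M := M) (ProjectiveSpectrum.comap ψ hψ y)) :
    GrMod.locMap b y (GrMod.locModMap ψ hψ v y q) =
      GrMod.locModMap ψ hψ v' y (GrMod.locMap a (ProjectiveSpectrum.comap ψ hψ y) q) := by
  induction q using LocalizedModule.induction_on with
  | h m s =>
    rw [GrMod.locModMap_mk, GrMod.locMap_mk, GrMod.locMap_mk, GrMod.locModMap_mk, hab]

end RingLevel

section MapFamily
variable {Y P : Scheme.{u}} {𝒮 : RelProj.QCGrAlg Y} {p : P ⟶ Y}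
  {chart : ∀ (U : Y.Opens) (hU : IsAffineOpen U),
    (((p ⁻¹ᵁ U : P.Opens) : Scheme.{u}) ≅ Proj (𝒮.deg U hU))}
  {ℳ 𝒩 : RelProj.GrModule 𝒮} {n : ℤ} {F G : P.Modules}
  {lam : ∀ (U : Y.Opens) (hU : IsAffineOpen U),
    F ⟶ (Scheme.Modules.pushforward (RelProj.emb p chart U hU)).obj
      (GrMod.tilde (𝒮.deg U hU) (ℳ.deg U hU) n)}
  {lam' : ∀ (U : Y.Opens) (hU : IsAffineOpen U),
    G ⟶ (Scheme.Modules.pushforward (RelProj.emb p chart U hU)).obj
      (GrMod.tilde (𝒮.deg U hU) (𝒩.deg U hU) n)}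

/-- The component over `V` of a morphism of `𝒮`-modules, as a linear map. -/
noncomputable abbrev uAt (u : ℳ.mod ⟶ 𝒩.mod) (V : Y.Opens) :
    ℳ.mod.val.obj (op V) →ₗ[𝒮.presheaf.obj (op V)] 𝒩.mod.val.obj (op V) :=
  (u.val.app (op V)).hom

theorem uAt_res (u : ℳ.mod ⟶ 𝒩.mod) {U V : Y.Opens} (hU : IsAffineOpen U) (hV : IsAffineOpen V)
    (i : V ≤ U) (m : ℳ.mod.val.obj (op U)) :
    uAt u V (ℳ.res hU hV i m) = 𝒩.res hU hV i (uAt u U m) :=
  PresheafOfModules.naturality_apply u.val (homOfLE i).op m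

/-- The chart family of the morphism induced by a homomorphism of graded modules. -/
noncomputable def mapFamily (hF : RelProj.IsRelTilde 𝒮 p chart ℳ n F lam)
    (u : ℳ.mod ⟶ 𝒩.mod) (hu : RelProj.IsGrModHom u) : ChartFamily 𝒮 p chart 𝒩 n F where
  t W s V hV := QCohExtn.ap (GrMod.map (𝒮.deg V hV) (uAt u V) (hu V hV) n) _
    (chartSec 𝒮 p chart ℳ n F lam V hV W s)
  compat W s := by
    intro V hV r y hy hy'
    refine (GrMod.map_app_val (uAt u (Y.basicOpen r)) (hu _ (hV.basicOpen r)) n _ _ ⟨y, hy⟩).trans ?_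
    refine Eq.trans ?_ (congrArg _ (GrMod.map_app_val (uAt u V) (hu V hV) n _ _ ⟨_, hy'⟩)).symm
    have h1 := hF.compat V hV r W s y hy hy'
    refine (congrArg _ h1).trans ?_
    exact locMap_locModMap _ _ _ _ _ _ (fun m => uAt_res u hV (hV.basicOpen r) _ m) y _
  add W a b V hV := by
    rw [chartSec_add, map_add]
  smul W r s V hV := by
    rw [chartSec_smul]
    exact QCohExtn.ap_smul _ _ _
  rF hle s V hV := by
    rw [chartSec_rF]
    exact QCohExtn.ap_rF _ _ _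

/-- **The induced morphism `ũ`**: existence and uniqueness. -/
theorem existsUnique_map (hP : RelProj.IsRelProj 𝒮 p chart)
    (hF : RelProj.IsRelTilde 𝒮 p chart ℳ n F lam) (hG : RelProj.IsRelTilde 𝒮 p chart 𝒩 n G lam')
    (u : ℳ.mod ⟶ 𝒩.mod) (hu : RelProj.IsGrModHom u) :
    ∃! ut : F ⟶ G, ∀ (U : Y.Opens) (hU : IsAffineOpen U),
      ut ≫ lam' U hU =
        lam U hU ≫ (Scheme.Modules.pushforward (RelProj.emb p chart U hU)).map
          (GrMod.map (𝒮.deg U hU) (uAt u U) (hu U hU) n) := by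
  refine ⟨homOfFamily hG hP (mapFamily hF u hu), fun U hU => ?_, fun ut' h => ?_⟩
  · rw [comp_lam_eq_iff]
    intro W s
    exact chartSec_homOfFamily hG hP (mapFamily hF u hu) W s U hU
  · apply hom_ext_chartSec hG
    intro W s V hV
    rw [chartSec_homOfFamily]
    exact (comp_lam_eq_iff ut' V hV _).mp (h V hV) W s

/-- Chart sections of a morphism compatible with `ũ` chartwise. -/
theorem chartSec_of_comp_eq (u : ℳ.mod ⟶ 𝒩.mod) (hu : RelProj.IsGrModHom u) (ut : F ⟶ G)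
    (U : Y.Opens) (hU : IsAffineOpen U)
    (hut : ut ≫ lam' U hU =
        lam U hU ≫ (Scheme.Modules.pushforward (RelProj.emb p chart U hU)).map
          (GrMod.map (𝒮.deg U hU) (uAt u U) (hu U hU) n)) (W : P.Opens) (s : Γ(F, W)) :
    chartSec 𝒮 p chart 𝒩 n G lam' U hU W (QCohExtn.ap ut W s) =
      QCohExtn.ap (GrMod.map (𝒮.deg U hU) (uAt u U) (hu U hU) n) _
        (chartSec 𝒮 p chart ℳ n F lam U hU W s) :=
  (comp_lam_eq_iff ut U hU _).mp hut W s

end MapFamily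

end Groth.Agent.GrTi
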