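import Mathlib
import Groth.Prelude
import Groth.Agent.Lib.GrTiMap_helper5
import Groth.Agent.Lib.GrTiSect_helper5
import Groth.Agent.Lib.ConormSeq1_helper4
import Groth.Agent.Lib.OmegaCompat2_helper4

/-!
# Exactness properties of `ℳ ↦ (ℳ(n))~` on a relative `Proj` (helper5).  APPEND-ONLY once landed.
-/

set_option autoImplicit false
universe u
open CategoryTheory CategoryTheory.Limits AlgebraicGeometry TopologicalSpace Opposite DirectSum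
open HomogeneousLocalization

namespace Groth.Agent.GrTi

open Groth.Agent.GrTw

section Basic
variable {Y P : Scheme.{u}} (𝒮 : RelProj.QCGrAlg Y) (p : P ⟶ Y)
  (chart : ∀ (U : Y.Opens) (hU : IsAffineOpen U),
    (((p ⁻¹ᵁ U : P.Opens) : Scheme.{u}) ≅ Proj (𝒮.deg U hU)))

/-- The opens of `P` that are chart images of some `D_+(f)`, `f` homogeneous of positive degree. -/
def IsChartBasic (W : P.Opens) : Prop :=
  ∃ (V : Y.Opens) (hV : IsAffineOpen V) (d : ℕ) (f : 𝒮.presheaf.obj (op V)), 0 < d ∧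
    f ∈ 𝒮.deg V hV d ∧ W = (RelProj.emb p chart V hV) ''ᵁ (Proj.basicOpen (𝒮.deg V hV) f)

theorem exists_chartBasic (O : P.Opens) (x : P) (hx : x ∈ O) :
    ∃ W : P.Opens, IsChartBasic 𝒮 p chart W ∧ x ∈ W ∧ W ≤ O := by
  obtain ⟨V, hV, d, f, hd, hf, hxW, hWO⟩ := exists_chart_basicOpen 𝒮 p chart O x hx
  exact ⟨_, ⟨V, hV, d, f, hd, hf, rfl⟩, hxW, hWO⟩

theorem image_le_preimage (V : Y.Opens) (hV : IsAffineOpen V)
    (D : (Proj (𝒮.deg V hV)).Opens) : (RelProj.emb p chart V hV) ''ᵁ D ≤ p ⁻¹ᵁ V := by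
  rw [← opensRange_emb 𝒮 p chart V hV]
  exact Scheme.Hom.image_le_opensRange _ _

end Basic

section ToD
variable {Y P : Scheme.{u}} {𝒮 : RelProj.QCGrAlg Y} {p : P ⟶ Y}
  {chart : ∀ (U : Y.Opens) (hU : IsAffineOpen U),
    (((p ⁻¹ᵁ U : P.Opens) : Scheme.{u}) ≅ Proj (𝒮.deg U hU))}
  {ℳ 𝒩 : RelProj.GrModule 𝒮} {n : ℤ} {F G : P.Modules}
  (lam : ∀ (U : Y.Opens) (hU : IsAffineOpen U),
    F ⟶ (Scheme.Modules.pushforward (RelProj.emb p chart U hU)).obj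
      (GrMod.tilde (𝒮.deg U hU) (ℳ.deg U hU) n))
  (lam' : ∀ (U : Y.Opens) (hU : IsAffineOpen U),
    G ⟶ (Scheme.Modules.pushforward (RelProj.emb p chart U hU)).obj
      (GrMod.tilde (𝒮.deg U hU) (𝒩.deg U hU) n))

/-- Sections of `F` over `W`, read as sections over the open `D = emb⁻¹ W` of the chart. -/
noncomputable def toD (V : Y.Opens) (hV : IsAffineOpen V) {W : P.Opens}
    {D : (Proj (𝒮.deg V hV)).Opens} (hWD : (RelProj.emb p chart V hV) ⁻¹ᵁ W = D) :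
    Γ(F, W) →+ Γ(GrMod.tilde (𝒮.deg V hV) (ℳ.deg V hV) n, D) :=
  (QcqsLoc.rF (GrMod.tilde (𝒮.deg V hV) (ℳ.deg V hV) n) (le_of_eq hWD.symm)).comp
    (QCohExtn.ap (lam V hV) W)

theorem val_toD (V : Y.Opens) (hV : IsAffineOpen V) {W : P.Opens}
    {D : (Proj (𝒮.deg V hV)).Opens} (hWD : (RelProj.emb p chart V hV) ⁻¹ᵁ W = D) (s : Γ(F, W))
    (y : D) :
    GrMod.val (toD lam V hV hWD s) y =
      GrMod.val (chartSec 𝒮 p chart ℳ n F lam V hV W s) ⟨y.1, le_of_eq hWD.symm y.2⟩ := rfl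

variable {lam lam'}

theorem toD_injective (hF : RelProj.IsRelTilde 𝒮 p chart ℳ n F lam) (V : Y.Opens)
    (hV : IsAffineOpen V) {W : P.Opens} (hW : W ≤ p ⁻¹ᵁ V)
    {D : (Proj (𝒮.deg V hV)).Opens} (hWD : (RelProj.emb p chart V hV) ⁻¹ᵁ W = D) :
    Function.Injective (toD lam V hV hWD) := by
  intro s s' h
  apply ext_chart_val hF V hV hW
  intro y
  have h1 := congrArg (fun t : Γ(GrMod.tilde (𝒮.deg V hV) (ℳ.deg V hV) n, D) =>
    GrMod.val t ⟨y.1, le_of_eq hWD y.2⟩) h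
  exact h1

theorem toD_surjective (hF : RelProj.IsRelTilde 𝒮 p chart ℳ n F lam) (V : Y.Opens)
    (hV : IsAffineOpen V) {W : P.Opens} (hW : W ≤ p ⁻¹ᵁ V)
    {D : (Proj (𝒮.deg V hV)).Opens} (hWD : (RelProj.emb p chart V hV) ⁻¹ᵁ W = D) :
    Function.Surjective (toD lam V hV hWD) := by
  intro t
  obtain ⟨s, hs⟩ := (hF.bijective V hV W hW).2
    (QcqsLoc.rF (GrMod.tilde (𝒮.deg V hV) (ℳ.deg V hV) n) (le_of_eq hWD) t)
  refine ⟨s, ?_⟩
  apply ext_val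
  intro y
  rw [val_toD]
  have h1 := congrArg (fun t : Γ(GrMod.tilde (𝒮.deg V hV) (ℳ.deg V hV) n,
    (RelProj.emb p chart V hV) ⁻¹ᵁ W) => GrMod.val t ⟨y.1, le_of_eq hWD.symm y.2⟩) hs
  exact h1

/-- `toD` intertwines a morphism compatible with `ũ` chartwise and `ũ` on the chart. -/
theorem toD_map (u : ℳ.mod ⟶ 𝒩.mod) (hu : RelProj.IsGrModHom u) (ut : F ⟶ G)
    (V : Y.Opens) (hV : IsAffineOpen V)
    (hut : ut ≫ lam' V hV =
        lam V hV ≫ (Scheme.Modules.pushforward (RelProj.emb p chart V hV)).map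
          (GrMod.map (𝒮.deg V hV) (uAt u V) (hu V hV) n)) {W : P.Opens}
    {D : (Proj (𝒮.deg V hV)).Opens} (hWD : (RelProj.emb p chart V hV) ⁻¹ᵁ W = D) (s : Γ(F, W)) :
    toD lam' V hV hWD (QCohExtn.ap ut W s) =
      QCohExtn.ap (GrMod.map (𝒮.deg V hV) (uAt u V) (hu V hV) n) D (toD lam V hV hWD s) := by
  apply ext_val
  intro y
  rw [val_toD, chartSec_of_comp_eq u hu ut V hV hut W s]
  rfl

end ToD

section Exact
variable {Y P : Scheme.{u}} {𝒮 : RelProj.QCGrAlg Y} {p : P ⟶ Y}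
  {chart : ∀ (U : Y.Opens) (hU : IsAffineOpen U),
    (((p ⁻¹ᵁ U : P.Opens) : Scheme.{u}) ≅ Proj (𝒮.deg U hU))}
  {ℳ 𝒩 : RelProj.GrModule 𝒮} {n : ℤ} {F G : P.Modules}
  {lam : ∀ (U : Y.Opens) (hU : IsAffineOpen U),
    F ⟶ (Scheme.Modules.pushforward (RelProj.emb p chart U hU)).obj
      (GrMod.tilde (𝒮.deg U hU) (ℳ.deg U hU) n)}
  {lam' : ∀ (U : Y.Opens) (hU : IsAffineOpen U),
    G ⟶ (Scheme.Modules.pushforward (RelProj.emb p chart U hU)).obj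
      (GrMod.tilde (𝒮.deg U hU) (𝒩.deg U hU) n)}

/-- **A (TN)-injective homomorphism induces a monomorphism.** -/
theorem mono_of_inj_large (hF : RelProj.IsRelTilde 𝒮 p chart ℳ n F lam)
    (u : ℳ.mod ⟶ 𝒩.mod) (hu : RelProj.IsGrModHom u)
    (hinj : ∃ n₀ : ℕ, ∀ (U : Y.Opens) (hU : IsAffineOpen U) (k : ℕ), n₀ ≤ k →
      ∀ m ∈ ℳ.deg U hU k, (u.val.app (op U)).hom m = 0 → m = 0)
    (ut : F ⟶ G)
    (hut : ∀ (U : Y.Opens) (hU : IsAffineOpen U),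
      ut ≫ lam' U hU =
        lam U hU ≫ (Scheme.Modules.pushforward (RelProj.emb p chart U hU)).map
          (GrMod.map (𝒮.deg U hU) (uAt u U) (hu U hU) n)) : Mono ut := by
  obtain ⟨n₀, hn₀⟩ := hinj
  refine Groth.Agent.Lib.OmegaCompat2H4.mono_of_injective_basis ut (IsChartBasic 𝒮 p chart)
    (exists_chartBasic 𝒮 p chart) ?_
  rintro W ⟨V, hV, d, f, hd, hf, rfl⟩
  have hWD := Scheme.Hom.preimage_image_eq (RelProj.emb p chart V hV)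
    (Proj.basicOpen (𝒮.deg V hV) f)
  have hW := image_le_preimage 𝒮 p chart V hV (Proj.basicOpen (𝒮.deg V hV) f)
  rw [injective_iff_map_eq_zero]
  intro s hs
  apply toD_injective hF V hV hW hWD
  rw [map_zero]
  apply map_app_eq_zero_of_inj_large (𝒮.deg V hV) (ℳ.deg V hV) (𝒩.deg V hV) (uAt u V) (hu V hV)
    n₀ (fun k hk m hm h0 => hn₀ V hV k hk m hm h0) n hd hf
  have h1 := toD_map u hu ut V hV (hut V hV) hWD s
  refine h1.symm.trans ?_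
  have h2 : QCohExtn.ap ut _ s = 0 := hs
  rw [h2, map_zero]

/-- **A (TN)-surjective homomorphism induces an epimorphism.** -/
theorem epi_of_surj_large (hF : RelProj.IsRelTilde 𝒮 p chart ℳ n F lam)
    (hG : RelProj.IsRelTilde 𝒮 p chart 𝒩 n G lam')
    (u : ℳ.mod ⟶ 𝒩.mod) (hu : RelProj.IsGrModHom u)
    (hsurj : ∃ n₀ : ℕ, ∀ (U : Y.Opens) (hU : IsAffineOpen U) (k : ℕ), n₀ ≤ k →
      ∀ m' ∈ 𝒩.deg U hU k, ∃ m ∈ ℳ.deg U hU k, (u.val.app (op U)).hom m = m')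
    (ut : F ⟶ G)
    (hut : ∀ (U : Y.Opens) (hU : IsAffineOpen U),
      ut ≫ lam' U hU =
        lam U hU ≫ (Scheme.Modules.pushforward (RelProj.emb p chart U hU)).map
          (GrMod.map (𝒮.deg U hU) (uAt u U) (hu U hU) n)) : Epi ut := by
  obtain ⟨n₀, hn₀⟩ := hsurj
  refine Groth.Agent.Lib.OmegaCompat2H4.epi_of_surjective_basis ut (IsChartBasic 𝒮 p chart)
    (exists_chartBasic 𝒮 p chart) ?_
  rintro W ⟨V, hV, d, f, hd, hf, rfl⟩
  have hWD := Scheme.Hom.preimage_image_eq (RelProj.emb p chart V hV)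
    (Proj.basicOpen (𝒮.deg V hV) f)
  have hW := image_le_preimage 𝒮 p chart V hV (Proj.basicOpen (𝒮.deg V hV) f)
  intro t
  obtain ⟨s', hs'⟩ := map_app_surjective_of_surj_large (𝒮.deg V hV) (ℳ.deg V hV) (𝒩.deg V hV)
    (uAt u V) (hu V hV) n₀ (fun k hk m hm => hn₀ V hV k hk m hm) n hd hf
    (toD lam' V hV hWD t)
  obtain ⟨s, rfl⟩ := toD_surjective hF V hV hW hWD s'
  refine ⟨s, ?_⟩
  apply toD_injective hG V hV hW hWD
  exact (toD_map u hu ut V hV (hut V hV) hWD s).trans hs'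

end Exact

section Exact3
variable {Y P : Scheme.{u}} {𝒮 : RelProj.QCGrAlg Y} {p : P ⟶ Y}
  {chart : ∀ (U : Y.Opens) (hU : IsAffineOpen U),
    (((p ⁻¹ᵁ U : P.Opens) : Scheme.{u}) ≅ Proj (𝒮.deg U hU))}
  {ℳ₁ ℳ₂ ℳ₃ : RelProj.GrModule 𝒮} {n : ℤ} {F₁ F₂ F₃ : P.Modules}
  {lam₁ : ∀ (U : Y.Opens) (hU : IsAffineOpen U),
    F₁ ⟶ (Scheme.Modules.pushforward (RelProj.emb p chart U hU)).obj
      (GrMod.tilde (𝒮.deg U hU) (ℳ₁.deg U hU) n)}
  {lam₂ : ∀ (U : Y.Opens) (hU : IsAffineOpen U),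
    F₂ ⟶ (Scheme.Modules.pushforward (RelProj.emb p chart U hU)).obj
      (GrMod.tilde (𝒮.deg U hU) (ℳ₂.deg U hU) n)}
  {lam₃ : ∀ (U : Y.Opens) (hU : IsAffineOpen U),
    F₃ ⟶ (Scheme.Modules.pushforward (RelProj.emb p chart U hU)).obj
      (GrMod.tilde (𝒮.deg U hU) (ℳ₃.deg U hU) n)}

/-- **Exactness of `ℳ ↦ (ℳ(n))~`.** -/
theorem exact_of_exact (hF₁ : RelProj.IsRelTilde 𝒮 p chart ℳ₁ n F₁ lam₁)
    (hF₂ : RelProj.IsRelTilde 𝒮 p chart ℳ₂ n F₂ lam₂)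
    (u : ℳ₁.mod ⟶ ℳ₂.mod) (hu : RelProj.IsGrModHom u) (v : ℳ₂.mod ⟶ ℳ₃.mod)
    (hv : RelProj.IsGrModHom v)
    (hex : ∀ (U : Y.Opens) (hU : IsAffineOpen U),
      Function.Exact (u.val.app (op U)).hom (v.val.app (op U)).hom)
    (ut : F₁ ⟶ F₂)
    (hut : ∀ (U : Y.Opens) (hU : IsAffineOpen U),
      ut ≫ lam₂ U hU =
        lam₁ U hU ≫ (Scheme.Modules.pushforward (RelProj.emb p chart U hU)).map
          (GrMod.map (𝒮.deg U hU) (uAt u U) (hu U hU) n))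
    (vt : F₂ ⟶ F₃)
    (hvt : ∀ (U : Y.Opens) (hU : IsAffineOpen U),
      vt ≫ lam₃ U hU =
        lam₂ U hU ≫ (Scheme.Modules.pushforward (RelProj.emb p chart U hU)).map
          (GrMod.map (𝒮.deg U hU) (uAt v U) (hv U hU) n))
    (w : ut ≫ vt = 0) : (ShortComplex.mk ut vt w).Exact := by
  refine Groth.Agent.Lib.ConormSeqH4.exact_of_basis (IsChartBasic 𝒮 p chart)
    (exists_chartBasic 𝒮 p chart) ut vt w ?_
  rintro W ⟨V, hV, d, f, hd, hf, rfl⟩ m₂ hm₂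
  have hWD := Scheme.Hom.preimage_image_eq (RelProj.emb p chart V hV)
    (Proj.basicOpen (𝒮.deg V hV) f)
  have hW := image_le_preimage 𝒮 p chart V hV (Proj.basicOpen (𝒮.deg V hV) f)
  have hE := Groth.Agent.Lib.GrModSectH1.sections_exact (𝒮.deg V hV) (ℳ₁.deg V hV) (ℳ₂.deg V hV)
    (ℳ₃.deg V hV) (uAt u V) (hu V hV) (uAt v V) (hv V hV) (hex V hV) n hd f hf
  have h0 : (GrMod.map (𝒮.deg V hV) (uAt v V) (hv V hV) n).app _ (toD lam₂ V hV hWD m₂) = 0 := by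
    refine (toD_map v hv vt V hV (hvt V hV) hWD m₂).symm.trans ?_
    have h2 : QCohExtn.ap vt _ m₂ = 0 := hm₂
    rw [h2, map_zero]
  obtain ⟨t₁, ht₁⟩ := (hE _).mp h0
  obtain ⟨s₁, rfl⟩ := toD_surjective hF₁ V hV hW hWD t₁
  refine ⟨s₁, ?_⟩
  apply toD_injective hF₂ V hV hW hWD
  exact (toD_map u hu ut V hV (hut V hV) hWD s₁).trans ht₁

end Exact3

end Groth.Agent.GrTi
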