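import Mathlib
import Groth.Prelude
import Groth.Agent.Lib.GrTiQC_helper5
import Groth.Agent.Lib.GrTiExact_helper5

/-!
# Quasi-coherence of `(ℳ(n))~` and of `O_P(n)` on a relative `Proj` (helper5).
APPEND-ONLY once landed.
-/

set_option autoImplicit false
universe u
open CategoryTheory CategoryTheory.Limits AlgebraicGeometry TopologicalSpace Opposite DirectSum
open HomogeneousLocalization

namespace Groth.Agent.GrTi

open Groth.Agent.GrTw

section Transfer
variable {X : Scheme.{u}}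

/-- `LocOnU` transfers along a morphism that is bijective on sections over the opens of `U`. -/
theorem locOnU_of_bijective {F G : X.Modules} (φ : F ⟶ G) {U : X.Opens}
    (hb : ∀ W : X.Opens, W ≤ U → Function.Bijective (QCohExtn.ap φ W))
    (H : QCohCrit.LocOnU G U) : QCohCrit.LocOnU F U := by
  intro a
  obtain ⟨h1, -, h3, h4⟩ := H a
  refine ⟨h1, fun x m => Scheme.Modules.map_smul _ _ x m, ?_, ?_⟩
  · intro m'
    obtain ⟨k, g, hg⟩ := h3 (QCohExtn.ap φ _ m')
    obtain ⟨m, rfl⟩ := (hb U le_rfl).2 g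
    refine ⟨k, m, ?_⟩
    apply (hb _ (X.basicOpen_le a)).1
    rw [QCohExtn.ap_smul]
    refine hg.trans ?_
    exact (QCohExtn.ap_rF φ _ m).symm
  · intro m hm
    have h0 : QcqsLoc.rF G (X.basicOpen_le a) (QCohExtn.ap φ U m) = 0 := by
      rw [← QCohExtn.ap_rF]
      refine (congrArg _ hm).trans (map_zero _)
    obtain ⟨k, hk⟩ := h4 _ h0
    refine ⟨k, (hb U le_rfl).1 ?_⟩
    rw [QCohExtn.ap_smul, hk, map_zero]

end Transfer

section Rel
variable {Y P : Scheme.{u}} {𝒮 : RelProj.QCGrAlg Y} {p : P ⟶ Y}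
  {chart : ∀ (U : Y.Opens) (hU : IsAffineOpen U),
    (((p ⁻¹ᵁ U : P.Opens) : Scheme.{u}) ≅ Proj (𝒮.deg U hU))}

/-- A module on `P` which, over each chart, maps bijectively (on sections over opens of the chart)
to the direct image of a quasi-coherent module on the chart, is quasi-coherent. -/
theorem isQuasicoherent_of_charts (F : P.Modules)
    (T : ∀ (U : Y.Opens) (hU : IsAffineOpen U), (Proj (𝒮.deg U hU)).Modules)
    (hT : ∀ (U : Y.Opens) (hU : IsAffineOpen U), (T U hU).IsQuasicoherent)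
    (lam : ∀ (U : Y.Opens) (hU : IsAffineOpen U),
      F ⟶ (Scheme.Modules.pushforward (RelProj.emb p chart U hU)).obj (T U hU))
    (hb : ∀ (U : Y.Opens) (hU : IsAffineOpen U) (W : P.Opens), W ≤ p ⁻¹ᵁ U →
      Function.Bijective ((lam U hU).app W)) : F.IsQuasicoherent := by
  let ι := {q : Σ (V : Y.affineOpens), ℕ × 𝒮.presheaf.obj (op V.1) //
    0 < q.2.1 ∧ q.2.2 ∈ 𝒮.deg q.1.1 q.1.2 q.2.1}
  have haff : ∀ i : ι, IsAffineOpen (Proj.basicOpen (𝒮.deg i.1.1.1 i.1.1.2) i.1.2.2) :=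
    fun i => Proj.isAffineOpen_basicOpen _ i.1.2.2 i.2.2 i.2.1
  refine QCohCrit.isQuasicoherent_of_locOnU_cover F
    (fun i : ι => (RelProj.emb p chart i.1.1.1 i.1.1.2) ''ᵁ
      (Proj.basicOpen (𝒮.deg i.1.1.1 i.1.1.2) i.1.2.2))
    (fun i => (haff i).image_of_isOpenImmersion _) ?_ ?_
  · rw [eq_top_iff]
    intro x _
    obtain ⟨W, ⟨V, hV, d, f, hd, hf, rfl⟩, hxW, -⟩ := exists_chartBasic 𝒮 p chart ⊤ x trivial
    exact Opens.mem_iSup.mpr ⟨⟨⟨⟨V, hV⟩, (d, f)⟩, hd, hf⟩, hxW⟩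
  · rintro ⟨⟨⟨V, hV⟩, ⟨d, f⟩⟩, hd, hf⟩
    haveI := hT V hV
    refine locOnU_of_bijective (lam V hV)
      (fun W hW => hb V hV W (hW.trans (image_le_preimage 𝒮 p chart V hV _))) ?_
    refine QCohCrit.locOnU_pushforward' _ _
      ((Proj.isAffineOpen_basicOpen _ f hf hd).image_of_isOpenImmersion _) ?_
    rw [Scheme.Hom.preimage_image_eq]
    exact Proj.isAffineOpen_basicOpen _ f hf hd

/-- **`(ℳ(n))~` is quasi-coherent.** -/
theorem isQuasicoherent_of_relTilde {ℳ : RelProj.GrModule 𝒮} {n : ℤ} {F : P.Modules}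
    {lam : ∀ (U : Y.Opens) (hU : IsAffineOpen U),
      F ⟶ (Scheme.Modules.pushforward (RelProj.emb p chart U hU)).obj
        (GrMod.tilde (𝒮.deg U hU) (ℳ.deg U hU) n)}
    (hF : RelProj.IsRelTilde 𝒮 p chart ℳ n F lam) : F.IsQuasicoherent :=
  isQuasicoherent_of_charts F _ (fun U hU => isQuasicoherent_tilde (𝒮.deg U hU) (ℳ.deg U hU) n)
    lam hF.bijective

/-- The twisting sheaf `O(n)` on `Proj` of a ring graded by additive subgroups is quasi-coherent
(it is definitionally `GrMod.tilde 𝒜 𝒜 n`). -/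
theorem isQuasicoherent_twist {A σ : Type u} [CommRing A] [SetLike σ A] [AddSubgroupClass σ A]
    (𝒜 : ℕ → σ) [GradedRing 𝒜] (n : ℤ) : (GrTwist.twist 𝒜 n).IsQuasicoherent :=
  isQuasicoherent_tilde 𝒜 𝒜 n

/-- **`O_P(n)` is quasi-coherent.** -/
theorem isQuasicoherent_of_relTwist {n : ℤ} {L : P.Modules}
    {lam : ∀ (U : Y.Opens) (hU : IsAffineOpen U),
      L ⟶ (Scheme.Modules.pushforward (RelProj.emb p chart U hU)).obj
        (GrTwist.twist (𝒮.deg U hU) n)}
    (hL : RelProj.IsRelTwist 𝒮 p chart n L lam) : L.IsQuasicoherent :=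
  isQuasicoherent_of_charts L _ (fun U hU => isQuasicoherent_twist (𝒮.deg U hU) n)
    lam hL.bijective

end Rel

end Groth.Agent.GrTi
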