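import Mathlib
import Groth.Prelude
import Groth.Agent.Lib.GrTiQCRel_helper5

/-!
# Finiteness of `ℳ~` on a relative `Proj` under (TF) (helper5).  APPEND-ONLY once landed.
-/

set_option autoImplicit false
universe u
open CategoryTheory CategoryTheory.Limits AlgebraicGeometry TopologicalSpace Opposite DirectSum
open HomogeneousLocalization

namespace Groth.Agent.GrTi

open Groth.Agent.GrTw Groth.Agent.Lib.GrModSectH1

section Alg

/-- Finiteness transfers along a bijective map semilinear over a surjective ring homomorphism. -/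
theorem finite_of_semilinear {R R' N N' : Type*} [CommRing R] [CommRing R'] [AddCommGroup N]
    [Module R N] [AddCommGroup N'] [Module R' N'] (ρ : R →+* R') (hρ : Function.Surjective ρ)
    (e : N →+ N') (he : Function.Bijective e) (hsl : ∀ (r : R) (s : N), e (r • s) = ρ r • e s)
    [Module.Finite R' N'] : Module.Finite R N := by
  classical
  obtain ⟨T', hT'⟩ := (Module.Finite.fg_top : (⊤ : Submodule R' N').FG)
  let e' : N ≃+ N' := AddEquiv.ofBijective e he
  have key : ∀ z ∈ Submodule.span R' (T' : Set N'),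
      e'.symm z ∈ Submodule.span R ((T'.image e'.symm : Finset N) : Set N) := by
    intro z hz
    induction hz using Submodule.span_induction with
    | mem z h => exact Submodule.subset_span (Finset.mem_coe.mpr (Finset.mem_image_of_mem _ h))
    | zero => rw [map_zero]; exact zero_mem _
    | add a b _ _ ha hb => rw [map_add]; exact add_mem ha hb
    | smul c z _ hz =>
      obtain ⟨r, rfl⟩ := hρ c
      have h1 : e'.symm (ρ r • z) = r • e'.symm z := by
        apply e'.injective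
        rw [AddEquiv.apply_symm_apply]
        show _ = e (r • e'.symm z)
        rw [hsl]
        congr 1
        exact (e'.apply_symm_apply z).symm
      rw [h1]
      exact Submodule.smul_mem _ _ hz
  refine ⟨⟨T'.image e'.symm, ?_⟩⟩
  rw [eq_top_iff]
  intro s _
  have h2 := key (e' s) (hT' ▸ Submodule.mem_top)
  rwa [AddEquiv.symm_apply_apply] at h2

theorem mk_add_same {R M : Type*} [CommSemiring R] {S : Submonoid R} [AddCommMonoid M] [Module R M]
    (m m' : M) (s : S) :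
    (LocalizedModule.mk m s + LocalizedModule.mk m' s : LocalizedModule S M) =
      LocalizedModule.mk (m + m') s := by
  rw [LocalizedModule.mk_add_mk, ← smul_add, LocalizedModule.mk_cancel_common_left]

theorem mk_sum_same {R M ι : Type*} [CommSemiring R] {S : Submonoid R} [AddCommMonoid M]
    [Module R M] (T : Finset ι) (g : ι → M) (s : S) :
    (∑ x ∈ T, LocalizedModule.mk (g x) s : LocalizedModule S M) =
      LocalizedModule.mk (∑ x ∈ T, g x) s := by
  classical
  induction T using Finset.induction_on with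
  | empty => simp
  | insert x T' hx ih => rw [Finset.sum_insert hx, Finset.sum_insert hx, ih, mk_add_same]

end Alg

section RingLevel
variable {A σ : Type u} [CommRing A] [SetLike σ A] [AddSubgroupClass σ A] (𝒜 : ℕ → σ)
  [GradedRing 𝒜]
  {M τ : Type u} [AddCommGroup M] [Module A M] [SetLike τ M] [AddSubgroupClass τ M] (ℳ : ℕ → τ)
  [SetLike.GradedSMul 𝒜 ℳ]

/-- The value at a point, as an additive map. -/
noncomputable def valHom {n : ℤ} {V : (Proj 𝒜).Opens} (y : V) :
    Γ(GrMod.tilde 𝒜 ℳ n, V) →+ GrMod.LocMod 𝒜 (M := M) y.1 where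
  toFun s := GrMod.val s y
  map_zero' := rfl
  map_add' _ _ := rfl

variable [DirectSum.Decomposition ℳ]

/-- Under (TF), the sections of `M~` over `D_+(f)`, `f` of degree one, are a finite module over the
functions on `D_+(f)`. -/
theorem finite_sections_basicOpen {f : A} (hf : f ∈ 𝒜 1)
    (hTF : ∃ k : ℕ, (Submodule.span A (⋃ i ∈ Set.Ici k, (ℳ i : Set M))).FG) :
    Module.Finite Γ(Proj 𝒜, Proj.basicOpen 𝒜 f) Γ(GrMod.tilde 𝒜 ℳ 0, Proj.basicOpen 𝒜 f) := by
  classical
  obtain ⟨n₀, hfg⟩ := hTF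
  obtain ⟨T, hTsub, hTspan⟩ := (Submodule.fg_span_iff_fg_span_finset_subset _).mp hfg
  have hdeg : ∀ x : M, ∃ e : ℕ, x ∈ T → (x ∈ ℳ e ∧ n₀ ≤ e) := by
    intro x
    by_cases hx : x ∈ T
    · have h1 := hTsub (Finset.mem_coe.mpr hx)
      simp only [Set.mem_iUnion, SetLike.mem_coe, Set.mem_Ici, exists_prop] at h1
      obtain ⟨e, he, hxe⟩ := h1
      exact ⟨e, fun _ => ⟨hxe, he⟩⟩
    · exact ⟨0, fun h => absurd h hx⟩
  choose deg hdegT using hdeg
  let E : ℕ := ∑ x ∈ T, deg x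
  have hE : ∀ x ∈ T, deg x ≤ E := fun x hx =>
    Finset.single_le_sum (f := deg) (fun _ _ => Nat.zero_le _) hx
  -- generators
  have hgi : ∀ x : M, ((if x ∈ T then deg x else 0 : ℕ) : ℤ) =
      (((if x ∈ T then deg x else 0) • 1 : ℕ) : ℤ) + 0 := by
    intro x; simp
  let g : M → Γ(GrMod.tilde 𝒜 ℳ 0, Proj.basicOpen 𝒜 f) := fun x =>
    if hx : x ∈ T then
      fracSecM 𝒜 ℳ hf 0 (deg x) (deg x) x (hdegT x hx).1 (by simp)
    else 0
  refine ⟨⟨T.image g, ?_⟩⟩
  rw [eq_top_iff]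
  intro s _
  obtain ⟨k, i, m, hm, hi, hval⟩ := exists_val_eq_mk 𝒜 ℳ 0 one_pos hf s
  have hik : i = k := by
    have : (i : ℤ) = (k : ℤ) := by simpa using hi
    exact_mod_cast this
  subst hik
  -- `f^(n₀+E) • m` lies in the span of `T`
  let D : ℕ := (n₀ + E) + i
  have hfm : f ^ (n₀ + E) • m ∈ ℳ D := by
    have := SetLike.GradedSMul.smul_mem (A := 𝒜) (B := ℳ) (SetLike.pow_mem_graded (n₀ + E) hf) hm
    simpa [vadd_eq_add, D] using this
  have hmemQ : f ^ (n₀ + E) • m ∈ Submodule.span A (T : Set M) := by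
    rw [← hTspan]
    refine Submodule.subset_span ?_
    simp only [Set.mem_iUnion, SetLike.mem_coe, Set.mem_Ici, exists_prop]
    exact ⟨D, by omega, hfm⟩
  obtain ⟨a, -, ha⟩ := Submodule.mem_span_finset.mp hmemQ
  -- take the degree-`D` component
  have hcomp : f ^ (n₀ + E) • m =
      ∑ x ∈ T, (DirectSum.decompose 𝒜 (a x) (D - deg x) : A) • x := by
    have h1 : (DirectSum.decompose ℳ (f ^ (n₀ + E) • m) D : M) = f ^ (n₀ + E) • m :=
      DirectSum.decompose_of_mem_same ℳ hfm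
    rw [← h1, ← ha, DirectSum.decompose_sum, DFinsupp.finsetSum_apply,
      AddSubmonoidClass.coe_finsetSum]
    refine Finset.sum_congr rfl (fun x hx => ?_)
    have h2 := proj_smul 𝒜 ℳ x (deg x) (hdegT x hx).1 (D - deg x) (a x)
    have h3 : D - deg x + deg x = D := by
      have := hE x hx
      omega
    rw [h3] at h2
    exact h2.symm
  -- the coefficients
  let c : M → Γ(Proj 𝒜, Proj.basicOpen 𝒜 f) := fun x =>
    fracO 𝒜 hf (D - deg x) (DirectSum.decompose 𝒜 (a x) (D - deg x) : A)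
      (by simpa using (DirectSum.decompose 𝒜 (a x) (D - deg x)).2)
  have hs : s = ∑ x ∈ T, c x • g x := by
    apply ext_val
    intro y
    rw [hval y]
    show _ = valHom 𝒜 ℳ y (∑ x ∈ T, c x • g x)
    rw [map_sum]
    have h4 : ∀ x ∈ T, valHom 𝒜 ℳ y (c x • g x) =
        LocalizedModule.mk ((DirectSum.decompose 𝒜 (a x) (D - deg x) : A) • x)
          ⟨f ^ D, pow_nin 𝒜 D y⟩ := by
      intro x hx
      show GrMod.val (c x • g x) y = _
      rw [val_smul]
      have h5 : g x = fracSecM 𝒜 ℳ hf 0 (deg x) (deg x) x (hdegT x hx).1 (by simp) := dif_pos hx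
      rw [h5, val_fracSecM, valO_fracO, LocalizedModule.mk_smul_mk]
      congr 1
      apply Subtype.ext
      show f ^ (D - deg x) * f ^ deg x = f ^ D
      rw [← pow_add]
      congr 1
      have := hE x hx
      omega
    rw [Finset.sum_congr rfl h4]
    have h6 : ∑ x ∈ T, (LocalizedModule.mk ((DirectSum.decompose 𝒜 (a x) (D - deg x) : A) • x)
        ⟨f ^ D, pow_nin 𝒜 D y⟩ : GrMod.LocMod 𝒜 (M := M) y.1) =
        LocalizedModule.mk (∑ x ∈ T, (DirectSum.decompose 𝒜 (a x) (D - deg x) : A) • x)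
          ⟨f ^ D, pow_nin 𝒜 D y⟩ := mk_sum_same _ _ _
    rw [h6, ← hcomp, LocalizedModule.mk_eq]
    refine ⟨1, ?_⟩
    simp only [one_smul]
    show f ^ D • m = f ^ i • f ^ (n₀ + E) • m
    rw [smul_smul, ← pow_add]
    congr 2
    omega
  rw [hs]
  refine Submodule.sum_mem _ (fun x hx => Submodule.smul_mem _ _ (Submodule.subset_span ?_))
  exact Finset.mem_coe.mpr (Finset.mem_image_of_mem _ hx)

end RingLevel

section Rel
variable {Y P : Scheme.{u}} {𝒮 : RelProj.QCGrAlg Y} {p : P ⟶ Y}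
  {chart : ∀ (U : Y.Opens) (hU : IsAffineOpen U),
    (((p ⁻¹ᵁ U : P.Opens) : Scheme.{u}) ≅ Proj (𝒮.deg U hU))}
  {ℳ : RelProj.GrModule 𝒮} {n : ℤ} {F : P.Modules}
  {lam : ∀ (U : Y.Opens) (hU : IsAffineOpen U),
    F ⟶ (Scheme.Modules.pushforward (RelProj.emb p chart U hU)).obj
      (GrMod.tilde (𝒮.deg U hU) (ℳ.deg U hU) n)}

variable (p chart) in
/-- Functions on `W`, read as functions on the open `D = emb⁻¹ W` of the chart. -/
noncomputable def toDO (V : Y.Opens) (hV : IsAffineOpen V) {W : P.Opens}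
    {D : (Proj (𝒮.deg V hV)).Opens} (hWD : (RelProj.emb p chart V hV) ⁻¹ᵁ W = D) :
    Γ(P, W) →+* Γ(Proj (𝒮.deg V hV), D) :=
  (QcqsLoc.rX (le_of_eq hWD.symm)).comp ((RelProj.emb p chart V hV).app W).hom

theorem toDO_surjective (V : Y.Opens) (hV : IsAffineOpen V) {W : P.Opens} (hW : W ≤ p ⁻¹ᵁ V)
    {D : (Proj (𝒮.deg V hV)).Opens} (hWD : (RelProj.emb p chart V hV) ⁻¹ᵁ W = D) :
    Function.Surjective (toDO p chart V hV hWD) := by
  subst hWD
  intro c
  haveI : IsIso ((RelProj.emb p chart V hV).app W) :=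
    Scheme.Hom.isIso_app _ W (by rw [opensRange_emb]; exact hW)
  obtain ⟨r, hr⟩ := (ConcreteCategory.bijective_of_isIso ((RelProj.emb p chart V hV).app W)).2 c
  refine ⟨r, ?_⟩
  show QcqsLoc.rX _ (((RelProj.emb p chart V hV).app W).hom r) = c
  have h1 : ((RelProj.emb p chart V hV).app W).hom r = c := hr
  rw [h1]
  have h0 : (homOfLE (le_of_eq (Eq.symm (rfl : (RelProj.emb p chart V hV) ⁻¹ᵁ W = _)))).op =
      𝟙 (op ((RelProj.emb p chart V hV) ⁻¹ᵁ W)) := rfl
  show ((Proj (𝒮.deg V hV)).presheaf.map _).hom c = c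
  rw [h0, CategoryTheory.Functor.map_id]
  rfl

theorem toD_smul (V : Y.Opens) (hV : IsAffineOpen V) {W : P.Opens}
    {D : (Proj (𝒮.deg V hV)).Opens} (hWD : (RelProj.emb p chart V hV) ⁻¹ᵁ W = D)
    (r : Γ(P, W)) (s : Γ(F, W)) :
    toD lam V hV hWD (r • s) = toDO p chart V hV hWD r • toD lam V hV hWD s := by
  show QcqsLoc.rF _ _ (chartSec 𝒮 p chart ℳ n F lam V hV W (r • s)) = _
  rw [chartSec_smul, QcqsLoc.rF_smul]
  rfl

/-- Under (TF), the sections of `ℳ~` over a chart image of `D_+(f)`, `f` of degree one, are a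
finite module. -/
theorem finite_sections_chartBasic {F : P.Modules}
    {lam : ∀ (U : Y.Opens) (hU : IsAffineOpen U),
      F ⟶ (Scheme.Modules.pushforward (RelProj.emb p chart U hU)).obj
        (GrMod.tilde (𝒮.deg U hU) (ℳ.deg U hU) 0)}
    (hF : RelProj.IsRelTilde 𝒮 p chart ℳ 0 F lam) (hTF : ℳ.IsTF)
    (V : Y.Opens) (hV : IsAffineOpen V) (f : 𝒮.presheaf.obj (op V)) (hf : f ∈ 𝒮.deg V hV 1) :
    Module.Finite Γ(P, (RelProj.emb p chart V hV) ''ᵁ (Proj.basicOpen (𝒮.deg V hV) f))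
      Γ(F, (RelProj.emb p chart V hV) ''ᵁ (Proj.basicOpen (𝒮.deg V hV) f)) := by
  obtain ⟨n₀, hn₀⟩ := hTF
  have hWD := Scheme.Hom.preimage_image_eq (RelProj.emb p chart V hV)
    (Proj.basicOpen (𝒮.deg V hV) f)
  have hW := image_le_preimage 𝒮 p chart V hV (Proj.basicOpen (𝒮.deg V hV) f)
  haveI := finite_sections_basicOpen (𝒮.deg V hV) (ℳ.deg V hV) hf ⟨n₀, hn₀ V hV⟩
  exact finite_of_semilinear (toDO p chart V hV hWD) (toDO_surjective V hV hW hWD)
    (toD lam V hV hWD) ⟨toD_injective hF V hV hW hWD, toD_surjective hF V hV hW hWD⟩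
    (toD_smul V hV hWD)

/-- **`ℳ~` is of finite type** when `𝒮` is generated in degree one and `ℳ` satisfies (TF). -/
theorem isFT_of_TF {F : P.Modules}
    {lam : ∀ (U : Y.Opens) (hU : IsAffineOpen U),
      F ⟶ (Scheme.Modules.pushforward (RelProj.emb p chart U hU)).obj
        (GrMod.tilde (𝒮.deg U hU) (ℳ.deg U hU) 0)}
    (hgen : 𝒮.IsGenDegOne) (hTF : ℳ.IsTF)
    (hF : RelProj.IsRelTilde 𝒮 p chart ℳ 0 F lam) : CohB1.IsFT F := by
  haveI := isQuasicoherent_of_relTilde hF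
  let ι := {q : Σ (V : Y.affineOpens), 𝒮.presheaf.obj (op V.1) // q.2 ∈ 𝒮.deg q.1.1 q.1.2 1}
  refine QCohCrit.isFiniteType_of_sections_cover F
    (fun i : ι => (RelProj.emb p chart i.1.1.1 i.1.1.2) ''ᵁ
      (Proj.basicOpen (𝒮.deg i.1.1.1 i.1.1.2) i.1.2))
    (fun i => (Proj.isAffineOpen_basicOpen _ i.1.2 i.2 one_pos).image_of_isOpenImmersion _) ?_
    (fun i => finite_sections_chartBasic hF hTF i.1.1.1 i.1.1.2 i.1.2 i.2)
  rw [eq_top_iff]
  intro x _
  obtain ⟨U, hU, hy, hx⟩ := exists_chart_point 𝒮 p chart x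
  obtain ⟨f, hf, hfz⟩ := exists_deg_one_not_mem (𝒮.deg U hU) (hgen U hU)
    ((chart U hU).hom ⟨x, hy⟩)
  refine Opens.mem_iSup.mpr ⟨⟨⟨⟨U, hU⟩, f⟩, hf⟩, ⟨(chart U hU).hom ⟨x, hy⟩, hfz, hx⟩⟩

end Rel

end Groth.Agent.GrTi
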