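import Mathlib
import Groth.Prelude
import Groth.Agent.Lib.GrTiSect_helper5
import Groth.Agent.Lib.GrTiQC_helper5
import Groth.Agent.Lib.GrTiFT_helper5
import Groth.Agent.Lib.QCohExtn_helper9

/-!
# Fraction sections of `M~` on `Proj` and a morphism `π : M~ ⟶ F`: two transfer lemmas (helper2)

* `app_fs_eq_zero_of_cover`: vanishing of `π (g x' / h^k)` from vanishing of the `π (x' / f'^k')`, `f'`
  running over a cover by standard opens of a fixed degree.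
* `exists_pow_app_eq_zero`: if `π (p / f^k) = 0` then `π (f^m p / f'^(m+k)) = 0` for large `m`
  (`F` quasi-coherent).
APPEND-ONLY once landed.
-/

set_option autoImplicit false
universe u
open CategoryTheory CategoryTheory.Limits AlgebraicGeometry TopologicalSpace Opposite DirectSum
open HomogeneousLocalization

namespace Groth.Agent.Lib.SatQH2

open Groth.Agent.GrTi Groth.Agent.GrTw QcqsLoc QCohExtn

section Sect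
variable {A σ : Type u} [CommRing A] [SetLike σ A] [AddSubgroupClass σ A] (𝒜 : ℕ → σ)
  [GradedRing 𝒜]
  {M τ : Type u} [AddCommGroup M] [Module A M] [SetLike τ M] [AddSubgroupClass τ M] (ℳ : ℕ → τ)
  [SetLike.GradedSMul 𝒜 ℳ]

omit [AddSubgroupClass σ A] [GradedRing 𝒜] [SetLike τ M] [AddSubgroupClass τ M]
  [SetLike.GradedSMul 𝒜 ℳ] in
theorem mk_eq_of_smul_eq {S : Submonoid A} (m m' : M) (s s' : S)
    (h : (s' : A) • m = (s : A) • m') :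
    (LocalizedModule.mk m s : LocalizedModule S M) = LocalizedModule.mk m' s' := by
  rw [LocalizedModule.mk_eq]
  refine ⟨1, ?_⟩
  rw [one_smul, one_smul]
  exact h

theorem fs_add {d : ℕ} {f : A} (hf : f ∈ 𝒜 d) (n : ℤ) (k i : ℕ) (m m' : M) (hm : m ∈ ℳ i)
    (hm' : m' ∈ ℳ i) (hi : (i : ℤ) = ((k • d : ℕ) : ℤ) + n) :
    fracSecM 𝒜 ℳ hf n k i (m + m') (add_mem hm hm') hi =
      fracSecM 𝒜 ℳ hf n k i m hm hi + fracSecM 𝒜 ℳ hf n k i m' hm' hi := by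
  apply Groth.Agent.GrTi.ext_val
  intro y
  rw [Groth.Agent.GrTi.val_add, val_fracSecM, val_fracSecM, val_fracSecM, mk_add_same]

theorem fs_zero {d : ℕ} {f : A} (hf : f ∈ 𝒜 d) (n : ℤ) (k i : ℕ)
    (hi : (i : ℤ) = ((k • d : ℕ) : ℤ) + n) :
    fracSecM 𝒜 ℳ hf n k i 0 (zero_mem _) hi = 0 := by
  apply Groth.Agent.GrTi.ext_val
  intro y
  rw [val_fracSecM, Groth.Agent.GrTi.val_zero, LocalizedModule.zero_mk]

theorem fs_congr {d : ℕ} {f : A} (hf : f ∈ 𝒜 d) (n : ℤ) {k k' i i' : ℕ} {m m' : M} (hm : m ∈ ℳ i)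
    (hm' : m' ∈ ℳ i') (hi : (i : ℤ) = ((k • d : ℕ) : ℤ) + n)
    (hi' : (i' : ℤ) = ((k' • d : ℕ) : ℤ) + n) (hk : k = k') (hii : i = i') (hmm : m = m') :
    fracSecM 𝒜 ℳ hf n k i m hm hi = fracSecM 𝒜 ℳ hf n k' i' m' hm' hi' := by
  subst hk hii hmm
  rfl

/-- General principle: `c • s = s'` from the values. -/
theorem smul_eq_of_val {n : ℤ} {W : (Proj 𝒜).Opens} (c : Γ(Proj 𝒜, W))
    (s s' : Γ(GrMod.tilde 𝒜 ℳ n, W)) (a b : A) (x x' : M) (t t' : A)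
    (hb : ∀ y : W, b ∉ y.1.asHomogeneousIdeal) (ht : ∀ y : W, t ∉ y.1.asHomogeneousIdeal)
    (ht' : ∀ y : W, t' ∉ y.1.asHomogeneousIdeal)
    (hc : ∀ y : W, valO 𝒜 c y = Localization.mk a ⟨b, hb y⟩)
    (hs : ∀ y : W, GrMod.val s y = LocalizedModule.mk x ⟨t, ht y⟩)
    (hs' : ∀ y : W, GrMod.val s' y = LocalizedModule.mk x' ⟨t', ht' y⟩)
    (heq : (b * t) • x' = t' • (a • x)) : c • s = s' := by
  apply Groth.Agent.GrTi.ext_val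
  intro y
  rw [Groth.Agent.GrTi.val_smul, hc y, hs y, hs' y, LocalizedModule.mk_smul_mk]
  apply mk_eq_of_smul_eq
  exact heq.symm

/-- Equality of sections from the values. -/
theorem eq_of_val {n : ℤ} {W : (Proj 𝒜).Opens}
    (s s' : Γ(GrMod.tilde 𝒜 ℳ n, W)) (x x' : M) (t t' : A)
    (ht : ∀ y : W, t ∉ y.1.asHomogeneousIdeal)
    (ht' : ∀ y : W, t' ∉ y.1.asHomogeneousIdeal)
    (hs : ∀ y : W, GrMod.val s y = LocalizedModule.mk x ⟨t, ht y⟩)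
    (hs' : ∀ y : W, GrMod.val s' y = LocalizedModule.mk x' ⟨t', ht' y⟩)
    (heq : t' • x = t • x') : s = s' := by
  apply Groth.Agent.GrTi.ext_val
  intro y
  rw [hs y, hs' y]
  apply mk_eq_of_smul_eq
  exact heq

theorem pow_nin_of_le {f : A} (k : ℕ) {W : (Proj 𝒜).Opens} (hW : W ≤ Proj.basicOpen 𝒜 f) (y : W) :
    f ^ k ∉ y.1.asHomogeneousIdeal :=
  pow_nin 𝒜 k ⟨y.1, hW y.2⟩

/-- `g x' / h^k = (g f'^k' / h^k) • (x' / f'^k')` on `D_+(h) ∩ D_+(f')`. -/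
theorem rF_fs_eq_smul {e D : ℕ} {h f' : A} (hh : h ∈ 𝒜 e) (hf' : f' ∈ 𝒜 D) (n : ℤ)
    (k k' j j' : ℕ) (g : A) (x' : M) (hx' : x' ∈ ℳ j') (hgx : g • x' ∈ ℳ j)
    (hj : (j : ℤ) = ((k • e : ℕ) : ℤ) + n) (hj' : (j' : ℤ) = ((k' • D : ℕ) : ℤ) + n)
    (hgf : g * f' ^ k' ∈ 𝒜 (k • e))
    {W : (Proj 𝒜).Opens} (hW : W ≤ Proj.basicOpen 𝒜 h) (hW' : W ≤ Proj.basicOpen 𝒜 f') :
    rF (GrMod.tilde 𝒜 ℳ n) hW (fracSecM 𝒜 ℳ hh n k j (g • x') hgx hj) =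
      rX hW (fracO 𝒜 hh k (g * f' ^ k') hgf) •
        rF (GrMod.tilde 𝒜 ℳ n) hW' (fracSecM 𝒜 ℳ hf' n k' j' x' hx' hj') := by
  symm
  refine smul_eq_of_val 𝒜 ℳ _ _ _ (g * f' ^ k') (h ^ k) x' (g • x') (f' ^ k') (h ^ k)
    (pow_nin_of_le 𝒜 k hW) (pow_nin_of_le 𝒜 k' hW') (pow_nin_of_le 𝒜 k hW) (fun y => rfl)
    (fun y => rfl) (fun y => rfl) ?_
  simp only [smul_smul]
  congr 1
  ring

/-- `(f/f')^m • (p / f'^k) = f^m p / f'^(m+k)`. -/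
theorem pow_fracO_smul_fs {D : ℕ} {f f' : A} (hf' : f' ∈ 𝒜 D) (hf1 : f ∈ 𝒜 (1 • D)) (n : ℤ)
    (m k j : ℕ) (p : M) (hp : p ∈ ℳ j) (hj : (j : ℤ) = ((k • D : ℕ) : ℤ) + n)
    (hfp : f ^ m • p ∈ ℳ (m • D + j))
    (hj2 : ((m • D + j : ℕ) : ℤ) = (((m + k) • D : ℕ) : ℤ) + n) :
    fracO 𝒜 hf' 1 f hf1 ^ m • fracSecM 𝒜 ℳ hf' n k j p hp hj =
      fracSecM 𝒜 ℳ hf' n (m + k) (m • D + j) (f ^ m • p) hfp hj2 := by
  refine smul_eq_of_val 𝒜 ℳ _ _ _ (f ^ m) (f' ^ m) p (f ^ m • p) (f' ^ k) (f' ^ (m + k))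
    (pow_nin 𝒜 m) (pow_nin 𝒜 k) (pow_nin 𝒜 (m + k)) (fun y => ?_)
    (fun y => rfl) (fun y => rfl) ?_
  · rw [valO_pow, valO_fracO, Localization.mk_pow]
    congr 1
    apply Subtype.ext
    simp
  · rw [pow_add]

/-- `D(f/f') = D_+(f') ∩ D_+(f)`. -/
theorem basicOpen_fracO {D : ℕ} {f f' : A} (hf' : f' ∈ 𝒜 D) (hf1 : f ∈ 𝒜 (1 • D)) :
    (Proj 𝒜).basicOpen (fracO 𝒜 hf' 1 f hf1) = Proj.basicOpen 𝒜 f' ⊓ Proj.basicOpen 𝒜 f := by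
  ext y
  constructor
  · intro hy
    have hy2 : y ∈ (Proj 𝒜).basicOpen (fracO 𝒜 hf' 1 f hf1) := hy
    have hy' : y ∈ Proj.basicOpen 𝒜 f' := (Proj 𝒜).basicOpen_le _ hy2
    refine ⟨hy', ?_⟩
    rw [mem_basicOpen_iff 𝒜 _ _ y hy'] at hy2
    rw [isUnit_iff_of_val 𝒜 (y : ProjectiveSpectrum 𝒜) _ f (f' ^ 1)
      (pow_nin 𝒜 1 ⟨y, hy'⟩) rfl] at hy2
    exact hy2
  · rintro ⟨hy', hy⟩
    show y ∈ (Proj 𝒜).basicOpen (fracO 𝒜 hf' 1 f hf1)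
    rw [mem_basicOpen_iff 𝒜 _ _ y hy',
      isUnit_iff_of_val 𝒜 (y : ProjectiveSpectrum 𝒜) _ f (f' ^ 1) (pow_nin 𝒜 1 ⟨y, hy'⟩) rfl]
    exact hy

variable {F : (Proj 𝒜).Modules} (π : GrMod.tilde 𝒜 ℳ 0 ⟶ F)

/-- **Transfer of vanishing along a cover.** -/
theorem app_fs_eq_zero_of_cover (T : Set A) {D : ℕ} (hT : ∀ f ∈ T, f ∈ 𝒜 D)
    (hcov : ∀ x : Proj 𝒜, ∃ f ∈ T, x ∈ Proj.basicOpen 𝒜 f)
    {e : ℕ} {h : A} (hh : h ∈ 𝒜 e) (k k' j j' l : ℕ) (g : A) (hg : g ∈ 𝒜 l) (x' : M)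
    (hx' : x' ∈ ℳ j') (hgx : g • x' ∈ ℳ j)
    (hj : (j : ℤ) = ((k • e : ℕ) : ℤ) + 0) (hj' : (j' : ℤ) = ((k' • D : ℕ) : ℤ) + 0)
    (hjl : j = l + j')
    (H : ∀ (f' : A) (hf' : f' ∈ T),
      ap π (Proj.basicOpen 𝒜 f') (fracSecM 𝒜 ℳ (hT f' hf') 0 k' j' x' hx' hj') = 0) :
    ap π (Proj.basicOpen 𝒜 h) (fracSecM 𝒜 ℳ hh 0 k j (g • x') hgx hj) = 0 := by
  apply eq_zero_of_cover F
  intro y hy
  obtain ⟨f', hf'T, hyf'⟩ := hcov y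
  have hf' := hT f' hf'T
  have hgf : g * f' ^ k' ∈ 𝒜 (k • e) := by
    have h1 : g * f' ^ k' ∈ 𝒜 (l + k' • D) :=
      SetLike.mul_mem_graded hg (SetLike.pow_mem_graded k' hf')
    have h2 : l + k' • D = k • e := by
      have := hj
      rw [hjl] at this
      push_cast at this hj'
      have h3 : ((l + k' • D : ℕ) : ℤ) = ((k • e : ℕ) : ℤ) := by
        push_cast
        linarith
      exact_mod_cast h3
    rwa [h2] at h1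
  refine ⟨Proj.basicOpen 𝒜 h ⊓ Proj.basicOpen 𝒜 f', inf_le_left, ⟨hy, hyf'⟩, ?_⟩
  rw [← ap_rF, rF_fs_eq_smul 𝒜 ℳ hh hf' 0 k k' j j' g x' hx' hgx hj hj' hgf inf_le_left
    inf_le_right, ap_smul, ap_rF, H f' hf'T, map_zero, smul_zero]

/-- **Killing by a power of `f`.** -/
theorem exists_pow_app_eq_zero [F.IsQuasicoherent] {D : ℕ} (hD : 0 < D) {f f' : A}
    (hf : f ∈ 𝒜 D) (hf' : f' ∈ 𝒜 D) (k j : ℕ) (p : M) (hp : p ∈ ℳ j)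
    (hj : (j : ℤ) = ((k • D : ℕ) : ℤ) + 0)
    (h0 : ap π (Proj.basicOpen 𝒜 f) (fracSecM 𝒜 ℳ hf 0 k j p hp hj) = 0) :
    ∃ m₀ : ℕ, ∀ m : ℕ, m₀ ≤ m → ∀ (hfp : f ^ m • p ∈ ℳ (m • D + j))
      (hj2 : ((m • D + j : ℕ) : ℤ) = (((m + k) • D : ℕ) : ℤ) + 0),
      ap π (Proj.basicOpen 𝒜 f')
        (fracSecM 𝒜 ℳ hf' 0 (m + k) (m • D + j) (f ^ m • p) hfp hj2) = 0 := by
  have hf1 : f ∈ 𝒜 (1 • D) := by rwa [one_smul]
  set a := fracO 𝒜 hf' 1 f hf1 with ha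
  set t := ap π (Proj.basicOpen 𝒜 f') (fracSecM 𝒜 ℳ hf' 0 k j p hp hj) with ht
  have hfk : f ^ k ∈ 𝒜 (k • D) := SetLike.pow_mem_graded k hf
  have hres : rF F (inf_le_left : Proj.basicOpen 𝒜 f' ⊓ Proj.basicOpen 𝒜 f ≤ Proj.basicOpen 𝒜 f')
      t = 0 := by
    have h1 : rF (GrMod.tilde 𝒜 ℳ 0)
        (inf_le_left : Proj.basicOpen 𝒜 f' ⊓ Proj.basicOpen 𝒜 f ≤ Proj.basicOpen 𝒜 f')
        (fracSecM 𝒜 ℳ hf' 0 k j p hp hj) =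
        rX (inf_le_left : Proj.basicOpen 𝒜 f' ⊓ Proj.basicOpen 𝒜 f ≤ Proj.basicOpen 𝒜 f')
          (fracO 𝒜 hf' k (f ^ k) hfk) •
        rF (GrMod.tilde 𝒜 ℳ 0)
          (inf_le_right : Proj.basicOpen 𝒜 f' ⊓ Proj.basicOpen 𝒜 f ≤ Proj.basicOpen 𝒜 f)
          (fracSecM 𝒜 ℳ hf 0 k j p hp hj) := by
      symm
      refine smul_eq_of_val 𝒜 ℳ _ _ _ (f ^ k) (f' ^ k) p p (f ^ k) (f' ^ k)
        (pow_nin_of_le 𝒜 k inf_le_left) (pow_nin_of_le 𝒜 k inf_le_right)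
        (pow_nin_of_le 𝒜 k inf_le_left) (fun y => rfl) (fun y => rfl) (fun y => rfl) ?_
      rw [smul_smul]
    rw [ht, ← ap_rF, h1, ap_smul, ap_rF, h0, map_zero, smul_zero]
  have hc : IsCompact ((Proj.basicOpen 𝒜 f' : (Proj 𝒜).Opens) : Set (Proj 𝒜)) :=
    (Proj.isAffineOpen_basicOpen 𝒜 f' hf' hD).isCompact
  obtain ⟨m₀, hm₀⟩ := ker_of_isCompact F a hc
    (homOfLE (inf_le_left : Proj.basicOpen 𝒜 f' ⊓ Proj.basicOpen 𝒜 f ≤ Proj.basicOpen 𝒜 f'))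
    (basicOpen_fracO 𝒜 hf' hf1).symm t hres
  refine ⟨m₀, fun m hm hfp hj2 => ?_⟩
  rw [← pow_fracO_smul_fs 𝒜 ℳ hf' hf1 0 m k j p hp hj hfp hj2, ap_smul, ← ht, ← ha]
  obtain ⟨r, rfl⟩ := Nat.exists_eq_add_of_le hm
  rw [pow_add, mul_comm, mul_smul, hm₀, smul_zero]

end Sect

end Groth.Agent.Lib.SatQH2
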