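import Mathlib
import Groth.Prelude
import Groth.Agent.Lib.PullAdj1_helper2
import Groth.Agent.Lib.SatQ2_helper2
import Groth.Agent.Lib.GrModSect_helper1

/-!
# Fraction sections on `Proj` under `Proj.map` (helper2)
APPEND-ONLY once landed.
-/

set_option autoImplicit false
universe u
open CategoryTheory CategoryTheory.Limits AlgebraicGeometry TopologicalSpace Opposite DirectSum
open HomogeneousLocalization

namespace Groth.Agent.Lib.TwPullH2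

open Groth.Agent.GrTi Groth.Agent.GrTw QcqsLoc QCohExtn Groth.Agent.Lib.GrModSectH1
  Groth.Agent.Lib.PullAdjH2 Groth.Agent.Lib.SatQH2

section One
variable {A σ : Type u} [CommRing A] [SetLike σ A] [AddSubgroupClass σ A] (𝒜 : ℕ → σ)
  [GradedRing 𝒜]

theorem exists_eq_fracO {d : ℕ} (hd : 0 < d) {f : A} (hf : f ∈ 𝒜 d)
    (a : Γ(Proj 𝒜, Proj.basicOpen 𝒜 f)) :
    ∃ (k : ℕ) (g : A) (hg : g ∈ 𝒜 (k • d)), a = fracO 𝒜 hf k g hg := by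
  have hiso : IsIso (Proj.awayToSection 𝒜 f) := (Proj.basicOpenIsoAway 𝒜 f hf hd).isIso_hom
  have hbij := ConcreteCategory.bijective_of_isIso (Proj.awayToSection 𝒜 f)
  obtain ⟨z, hz⟩ := hbij.2 a
  obtain ⟨j, g, hg, rfl⟩ := Away.mk_surjective 𝒜 hf z
  exact ⟨j, g, hg, hz.symm⟩

theorem fracO_eq_zero_iff {d : ℕ} (hd : 0 < d) {f : A} (hf : f ∈ 𝒜 d) (k : ℕ) (a : A)
    (ha : a ∈ 𝒜 (k • d)) : fracO 𝒜 hf k a ha = 0 ↔ ∃ N : ℕ, f ^ N * a = 0 := by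
  have hiso : IsIso (Proj.awayToSection 𝒜 f) := (Proj.basicOpenIsoAway 𝒜 f hf hd).isIso_hom
  have hbij := ConcreteCategory.bijective_of_isIso (Proj.awayToSection 𝒜 f)
  have h1 : fracO 𝒜 hf k a ha = 0 ↔ Away.mk 𝒜 hf k a ha = 0 := by
    constructor
    · intro h
      apply hbij.1
      rw [map_zero]
      exact h
    · intro h
      show (Proj.awayToSection 𝒜 f).hom (Away.mk 𝒜 hf k a ha) = 0
      rw [h, map_zero]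
  rw [h1, HomogeneousLocalization.ext_iff_val, Away.val_mk, HomogeneousLocalization.val_zero,
    Localization.mk_eq_mk', IsLocalization.mk'_eq_zero_iff]
  constructor
  · rintro ⟨⟨_, N, rfl⟩, h⟩
    exact ⟨N, h⟩
  · rintro ⟨N, h⟩
    exact ⟨⟨_, N, rfl⟩, h⟩

theorem fracO_shift {d : ℕ} {f : A} (hf : f ∈ 𝒜 d) (k N : ℕ) (a : A)
    (ha : a ∈ 𝒜 (k • d)) (ha' : f ^ N * a ∈ 𝒜 ((k + N) • d)) :
    fracO 𝒜 hf (k + N) (f ^ N * a) ha' = fracO 𝒜 hf k a ha := by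
  show (Proj.awayToSection 𝒜 f).hom _ = (Proj.awayToSection 𝒜 f).hom _
  congr 1
  rw [HomogeneousLocalization.ext_iff_val, Away.val_mk, Away.val_mk, Localization.mk_eq_mk_iff]
  apply Localization.r_of_eq
  simp only [pow_add]
  ring

end One

section Two
variable {A σ : Type u} [CommRing A] [SetLike σ A] [AddSubgroupClass σ A] {𝒜 : ℕ → σ}
  [GradedRing 𝒜]
  {M τ : Type u} [AddCommGroup M] [Module A M] [SetLike τ M] [AddSubgroupClass τ M] {ℳ : ℕ → τ}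
  [SetLike.GradedSMul 𝒜 ℳ]
  {B σ' : Type u} [CommRing B] [SetLike σ' B] [AddSubgroupClass σ' B] {ℬ : ℕ → σ'} [GradedRing ℬ]
  {N τ' : Type u} [AddCommGroup N] [Module B N] [SetLike τ' N] [AddSubgroupClass τ' N]
  {𝒩 : ℕ → τ'} [SetLike.GradedSMul ℬ 𝒩]
  (ψ : 𝒜 →+*ᵍ ℬ) (hψ : HomogeneousIdeal.irrelevant ℬ ≤ (HomogeneousIdeal.irrelevant 𝒜).map ψ)
  (v : M →ₛₗ[ψ.toRingHom] N) (hv : ∀ (i : ℕ) (m : M), m ∈ ℳ i → v m ∈ 𝒩 i) (n : ℤ)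

theorem hle (f : A) :
    Proj.basicOpen ℬ (ψ f) ≤ (Proj.map ψ hψ) ⁻¹ᵁ (Proj.basicOpen 𝒜 f) :=
  le_of_eq (Proj.map_preimage_basicOpen ψ hψ f).symm

theorem thetaUV_fracSecM {d : ℕ} {f : A} (hf : f ∈ 𝒜 d) (k i : ℕ) (m : M) (hm : m ∈ ℳ i)
    (hi : (i : ℤ) = ((k • d : ℕ) : ℤ) + n) :
    thetaUV (Proj.map ψ hψ) (GrMod.comap ψ hψ v hv n) (hle ψ hψ f)
      (fracSecM 𝒜 ℳ hf n k i m hm hi) =
      fracSecM ℬ 𝒩 (ψ.map_mem hf) n k i (v m) (hv i m hm) hi := by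
  apply Groth.Agent.GrTi.ext_val
  intro y
  rw [val_fracSecM]
  show GrMod.locModMap ψ hψ v y.1 (GrMod.val (fracSecM 𝒜 ℳ hf n k i m hm hi)
    ⟨ProjectiveSpectrum.comap ψ hψ y.1, hle ψ hψ f y.2⟩) = _
  rw [val_fracSecM, GrMod.locModMap_mk]
  congr 1
  exact Subtype.ext (map_pow ψ f k)

theorem appLE_fracO {d : ℕ} {f : A} (hf : f ∈ 𝒜 d) (k : ℕ) (a : A) (ha : a ∈ 𝒜 (k • d)) :
    ((Proj.map ψ hψ).appLE (Proj.basicOpen 𝒜 f) (Proj.basicOpen ℬ (ψ f)) (hle ψ hψ f)).hom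
      (fracO 𝒜 hf k a ha) = fracO ℬ (ψ.map_mem hf) k (ψ a) (ψ.map_mem ha) := by
  have h1 := Proj.awayToSection_comp_appLE ψ hψ hf
  have h2 := ConcreteCategory.congr_hom h1 (Away.mk 𝒜 hf k a ha)
  refine h2.trans ?_
  show (Proj.awayToSection ℬ (ψ f)).hom (Away.map ψ f (Away.mk 𝒜 hf k a ha)) = _
  rw [Away.map_mk]
  rfl

end Two

section Three
variable {A σ : Type u} [CommRing A] [SetLike σ A] [AddSubgroupClass σ A] (𝒜 : ℕ → σ)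
  [GradedRing 𝒜]
  {M τ : Type u} [AddCommGroup M] [Module A M] [SetLike τ M] [AddSubgroupClass τ M] (ℳ : ℕ → τ)
  [SetLike.GradedSMul 𝒜 ℳ] (n : ℤ)

theorem fracSecM_shift {d : ℕ} {f : A} (hf : f ∈ 𝒜 d) (k N i : ℕ) (m : M) (hm : m ∈ ℳ i)
    (hi : (i : ℤ) = ((k • d : ℕ) : ℤ) + n) (hm' : f ^ N • m ∈ ℳ (N • d + i))
    (hi' : ((N • d + i : ℕ) : ℤ) = (((k + N) • d : ℕ) : ℤ) + n) :
    fracSecM 𝒜 ℳ hf n (k + N) (N • d + i) (f ^ N • m) hm' hi' =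
      fracSecM 𝒜 ℳ hf n k i m hm hi := by
  refine eq_of_val 𝒜 ℳ _ _ (f ^ N • m) m (f ^ (k + N)) (f ^ k) (pow_nin 𝒜 _) (pow_nin 𝒜 _)
    (fun y => rfl) (fun y => rfl) ?_
  rw [smul_smul, pow_add]

theorem fracO_smul_fracSecM {d : ℕ} {f : A} (hf : f ∈ 𝒜 d) (k k' i : ℕ) (a : A)
    (ha : a ∈ 𝒜 (k • d)) (m : M) (hm : m ∈ ℳ i) (hi : (i : ℤ) = ((k' • d : ℕ) : ℤ) + n)
    (ham : a • m ∈ ℳ (k • d + i))
    (hi' : ((k • d + i : ℕ) : ℤ) = (((k + k') • d : ℕ) : ℤ) + n) :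
    fracO 𝒜 hf k a ha • fracSecM 𝒜 ℳ hf n k' i m hm hi =
      fracSecM 𝒜 ℳ hf n (k + k') (k • d + i) (a • m) ham hi' := by
  refine smul_eq_of_val 𝒜 ℳ _ _ _ a (f ^ k) m (a • m) (f ^ k') (f ^ (k + k')) (pow_nin 𝒜 k)
    (pow_nin 𝒜 k') (pow_nin 𝒜 _) (fun y => rfl) (fun y => rfl) (fun y => rfl) ?_
  rw [pow_add]

variable [DirectSum.Decomposition ℳ]

theorem exists_eq_fracSecM {d : ℕ} (hd : 0 < d) {f : A} (hf : f ∈ 𝒜 d)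
    (s : Γ(GrMod.tilde 𝒜 ℳ n, Proj.basicOpen 𝒜 f)) :
    ∃ (k i : ℕ) (m : M) (hm : m ∈ ℳ i) (hi : (i : ℤ) = ((k • d : ℕ) : ℤ) + n),
      s = fracSecM 𝒜 ℳ hf n k i m hm hi := by
  obtain ⟨k, i, m, hm, hi, hs⟩ := exists_val_eq_mk 𝒜 ℳ n hd hf s
  exact ⟨k, i, m, hm, hi, Groth.Agent.GrTi.ext_val 𝒜 ℳ _ _ (fun y => hs y)⟩

theorem fracSecM_eq_zero_iff {d : ℕ} (hd : 0 < d) {f : A} (hf : f ∈ 𝒜 d) (k i : ℕ) (m : M)
    (hm : m ∈ ℳ i) (hi : (i : ℤ) = ((k • d : ℕ) : ℤ) + n) :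
    fracSecM 𝒜 ℳ hf n k i m hm hi = 0 ↔ ∃ N : ℕ, f ^ N • m = 0 := by
  constructor
  · intro h
    apply pow_smul_eq_zero' 𝒜 ℳ hd hf i m hm
    intro P hP
    have h1 : GrMod.val (fracSecM 𝒜 ℳ hf n k i m hm hi) ⟨P, hP⟩ = 0 := by
      rw [h]
      exact Groth.Agent.GrTi.val_zero 𝒜 ℳ _
    rw [val_fracSecM] at h1
    exact (mk_eq_zero_iff 𝒜 P m _).mp h1
  · rintro ⟨N, hN⟩
    apply Groth.Agent.GrTi.ext_val
    intro y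
    rw [val_fracSecM, Groth.Agent.GrTi.val_zero]
    exact (mk_eq_zero_iff 𝒜 y.1 m _).mpr ⟨f ^ N, pow_nin 𝒜 N y, hN⟩

end Three

end Groth.Agent.Lib.TwPullH2
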