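import Mathlib
import Groth.Prelude
import Groth.Agent.Lib.TwPull1_helper2
import Groth.Agent.Lib.ProjPullTw_helper9
import Groth.Agent.Lib.ProjTw_helper5

/-!
# Pull-back of `M(n)~` along `Proj.map`: eventually bijective homomorphisms; twists vs tildes
(helper2)

* `isIso_adj_comap_of_eventually`: if `ψ : 𝒜 → ℬ` and `v : M → N` are bijective in large degrees,
  the adjoint `Φ^* (M(n)~) ⟶ N(n)~` of `GrMod.comap` is an isomorphism.
* `compat`, `isIso_adj_theta_of_tilde`: the canonical map of twisting sheaves `GrTwist.comap` is the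
  map `GrMod.comap` for `v = ψ`, through `O(n) ≅ A(n)~`.
APPEND-ONLY once landed.
-/

set_option autoImplicit false
universe u
open CategoryTheory CategoryTheory.Limits AlgebraicGeometry TopologicalSpace Opposite DirectSum
open HomogeneousLocalization

namespace Groth.Agent.Lib.TwPullH2

open Groth.Agent.GrTi Groth.Agent.GrTw QcqsLoc QCohExtn Groth.Agent.Lib.GrModSectH1
  Groth.Agent.Lib.PullAdjH2 Groth.Agent.Lib.SatQH2

section EvBij
variable {A σ : Type u} [CommRing A] [SetLike σ A] [AddSubgroupClass σ A] {𝒜 : ℕ → σ}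
  [GradedRing 𝒜]
  {M τ : Type u} [AddCommGroup M] [Module A M] [SetLike τ M] [AddSubgroupClass τ M] {ℳ : ℕ → τ}
  [SetLike.GradedSMul 𝒜 ℳ] [DirectSum.Decomposition ℳ]
  {B σ' : Type u} [CommRing B] [SetLike σ' B] [AddSubgroupClass σ' B] {ℬ : ℕ → σ'} [GradedRing ℬ]
  {N τ' : Type u} [AddCommGroup N] [Module B N] [SetLike τ' N] [AddSubgroupClass τ' N]
  {𝒩 : ℕ → τ'} [SetLike.GradedSMul ℬ 𝒩] [DirectSum.Decomposition 𝒩]
  (ψ : 𝒜 →+*ᵍ ℬ) (hψ : HomogeneousIdeal.irrelevant ℬ ≤ (HomogeneousIdeal.irrelevant 𝒜).map ψ)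
  (v : M →ₛₗ[ψ.toRingHom] N) (hv : ∀ (i : ℕ) (m : M), m ∈ ℳ i → v m ∈ 𝒩 i) (n : ℤ)
  (d₀ : ℕ)

omit [DirectSum.Decomposition ℳ] [DirectSum.Decomposition 𝒩] in
theorem v_pow_smul (f : A) (K : ℕ) (m : M) : v (f ^ K • m) = ψ f ^ K • v m := by
  rw [LinearMap.map_smulₛₗ]
  show ψ (f ^ K) • v m = _
  rw [map_pow]

theorem pow_smul_mem {d : ℕ} {f : A} (hf : f ∈ 𝒜 d) (K i : ℕ) {m : M} (hm : m ∈ ℳ i) :
    f ^ K • m ∈ ℳ (K • d + i) := by
  simpa [vadd_eq_add] using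
    SetLike.GradedSMul.smul_mem (A := 𝒜) (B := ℳ) (SetLike.pow_mem_graded K hf) hm

theorem le_smul_add {d : ℕ} (hd : 0 < d) (K i : ℕ) (hK : d₀ ≤ K) : d₀ ≤ K • d + i := by
  have h1 : K ≤ K • d := by
    rw [smul_eq_mul]
    exact Nat.le_mul_of_pos_right K hd
  omega

include d₀ in
theorem thetaUV_bijective_of_eventually
    (hvb : ∀ e : ℕ, d₀ ≤ e → Set.BijOn v (ℳ e) (𝒩 e)) {d : ℕ} (hd : 0 < d) {f : A}
    (hf : f ∈ 𝒜 d) :
    Function.Bijective (thetaUV (Proj.map ψ hψ) (GrMod.comap ψ hψ v hv n) (hle ψ hψ f)) := by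
  constructor
  · rw [injective_iff_map_eq_zero]
    intro s hs
    obtain ⟨k, i, m, hm, hi, rfl⟩ := exists_eq_fracSecM 𝒜 ℳ n hd hf s
    rw [thetaUV_fracSecM, fracSecM_eq_zero_iff ℬ 𝒩 n hd (ψ.map_mem hf)] at hs
    obtain ⟨K, hK⟩ := hs
    replace hK : ψ f ^ K • v m = 0 := hK
    rw [fracSecM_eq_zero_iff 𝒜 ℳ n hd hf]
    refine ⟨d₀ + K, ?_⟩
    have hmem : f ^ (d₀ + K) • m ∈ ℳ ((d₀ + K) • d + i) := pow_smul_mem hf _ i hm
    have hle' : d₀ ≤ (d₀ + K) • d + i := le_smul_add d₀ hd _ i (by omega)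
    apply (hvb _ hle').injOn hmem (zero_mem _)
    rw [map_zero, v_pow_smul, pow_add, mul_smul, hK, smul_zero]
  · intro t
    obtain ⟨k, i, b, hb, hi, rfl⟩ := exists_eq_fracSecM ℬ 𝒩 n hd (ψ.map_mem hf) t
    have hmem : ψ f ^ d₀ • b ∈ 𝒩 (d₀ • d + i) := pow_smul_mem (ψ.map_mem hf) _ i hb
    have hle' : d₀ ≤ d₀ • d + i := le_smul_add d₀ hd _ i le_rfl
    obtain ⟨m, hm, hvm⟩ := (hvb _ hle').surjOn hmem
    have hi' : ((d₀ • d + i : ℕ) : ℤ) = (((k + d₀) • d : ℕ) : ℤ) + n := by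
      push_cast [smul_eq_mul]
      rw [hi]
      push_cast [smul_eq_mul]
      ring
    refine ⟨fracSecM 𝒜 ℳ hf n (k + d₀) (d₀ • d + i) m hm hi', ?_⟩
    rw [thetaUV_fracSecM, ← fracSecM_shift ℬ 𝒩 n (ψ.map_mem hf) k d₀ i b hb hi hmem hi']
    exact fs_congr ℬ 𝒩 _ n _ _ _ _ rfl rfl hvm

include d₀ in
theorem appLE_bijective_of_eventually
    (hψb : ∀ e : ℕ, d₀ ≤ e → Set.BijOn ψ (𝒜 e) (ℬ e)) {d : ℕ} (hd : 0 < d) {f : A}
    (hf : f ∈ 𝒜 d) :
    Function.Bijective ((Proj.map ψ hψ).appLE (Proj.basicOpen 𝒜 f) (Proj.basicOpen ℬ (ψ f))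
      (hle ψ hψ f)).hom := by
  constructor
  · rw [injective_iff_map_eq_zero]
    intro c hc
    obtain ⟨k, a, ha, rfl⟩ := exists_eq_fracO 𝒜 hd hf c
    rw [appLE_fracO, fracO_eq_zero_iff ℬ hd (ψ.map_mem hf)] at hc
    obtain ⟨K, hK⟩ := hc
    replace hK : ψ f ^ K * ψ a = 0 := hK
    rw [fracO_eq_zero_iff 𝒜 hd hf]
    refine ⟨d₀ + K, ?_⟩
    have hmem : f ^ (d₀ + K) * a ∈ 𝒜 ((d₀ + K) • d + k • d) :=
      SetLike.mul_mem_graded (SetLike.pow_mem_graded _ hf) ha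
    have hle' : d₀ ≤ (d₀ + K) • d + k • d := le_smul_add d₀ hd _ _ (by omega)
    apply (hψb _ hle').injOn hmem (zero_mem _)
    rw [map_zero, map_mul, map_pow, pow_add, mul_assoc, hK, mul_zero]
  · intro t
    obtain ⟨k, b, hb, rfl⟩ := exists_eq_fracO ℬ hd (ψ.map_mem hf) t
    have hmem : ψ f ^ d₀ * b ∈ ℬ ((k + d₀) • d) := by
      rw [show (k + d₀) • d = d₀ • d + k • d by rw [add_smul, add_comm]]
      exact SetLike.mul_mem_graded (SetLike.pow_mem_graded _ (ψ.map_mem hf)) hb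
    have hle' : d₀ ≤ (k + d₀) • d := by
      have := le_smul_add d₀ hd (k + d₀) 0 (by omega)
      simpa using this
    obtain ⟨a, ha, hva⟩ := (hψb _ hle').surjOn hmem
    refine ⟨fracO 𝒜 hf (k + d₀) a ha, ?_⟩
    rw [appLE_fracO, ← fracO_shift ℬ (ψ.map_mem hf) k d₀ b hb hmem]
    congr 1

include d₀ in
/-- If `ψ` and `v` are bijective in large degrees, the adjoint of `GrMod.comap` is an
isomorphism. -/
theorem isIso_adj_comap_of_eventually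
    (hψb : ∀ e : ℕ, d₀ ≤ e → Set.BijOn ψ (𝒜 e) (ℬ e))
    (hvb : ∀ e : ℕ, d₀ ≤ e → Set.BijOn v (ℳ e) (𝒩 e)) :
    IsIso (adj (Proj.map ψ hψ) (GrMod.comap ψ hψ v hv n)) := by
  haveI := isQuasicoherent_tilde 𝒜 ℳ n
  haveI := isQuasicoherent_tilde ℬ 𝒩 n
  apply isIso_adj
  intro y
  obtain ⟨d, f, hd, hf, hfy⟩ := exists_pos_homog_not_mem 𝒜 (ProjectiveSpectrum.comap ψ hψ y)
  refine ⟨Proj.basicOpen ℬ (ψ f), Proj.isAffineOpen_basicOpen ℬ (ψ f) (ψ.map_mem hf) hd, hfy, ?_⟩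
  exact bijective_adj_app_of_bijective _ _ (hle ψ hψ f)
    (Proj.isAffineOpen_basicOpen 𝒜 f hf hd)
    (Proj.isAffineOpen_basicOpen ℬ (ψ f) (ψ.map_mem hf) hd)
    (appLE_bijective_of_eventually ψ hψ d₀ hψb hd hf)
    (thetaUV_bijective_of_eventually ψ hψ v hv n d₀ hvb hd hf)

end EvBij

section Compat
variable {R A : Type u} [CommRing R] [CommRing A] [Algebra R A] {𝒜 : ℕ → Submodule R A}
  [GradedAlgebra 𝒜]
  {R' B : Type u} [CommRing R'] [CommRing B] [Algebra R' B] {ℬ : ℕ → Submodule R' B}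
  [GradedAlgebra ℬ]
  (ψ : 𝒜 →+*ᵍ ℬ) (hψ : HomogeneousIdeal.irrelevant ℬ ≤ (HomogeneousIdeal.irrelevant 𝒜).map ψ)
  (n : ℤ)

/-- `ψ` as a `ψ`-semilinear map -/
def psiSL : A →ₛₗ[ψ.toRingHom] B where
  toFun := ψ
  map_add' := map_add ψ
  map_smul' a x := by
    show ψ (a * x) = ψ a * ψ x
    exact map_mul ψ a x

theorem psiSL_apply (a : A) : psiSL ψ a = ψ a := rfl

theorem psiSL_mem (i : ℕ) (m : A) (hm : m ∈ 𝒜 i) : psiSL ψ m ∈ ℬ i := ψ.map_mem hm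

open Groth.Agent.ProjTw in
theorem locModMap_toLM (y : ProjectiveSpectrum ℬ)
    (q : GrTwist.Loc 𝒜 (ProjectiveSpectrum.comap ψ hψ y)) :
    GrMod.locModMap ψ hψ (psiSL ψ) y (toLM _ q) = toLM _ (GrTwist.locMap ψ hψ y q) := by
  induction q using Localization.induction_on with
  | H p =>
    obtain ⟨a, s⟩ := p
    rw [toLM_mk, GrMod.locModMap_mk, GrTwist.locMap_mk, toLM_mk]
    rfl

open Groth.Agent.ProjTw in
/-- `O(n) ≅ A(n)~`, with target written with `GrMod.tilde` -/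
noncomputable def tIso (𝒜 : ℕ → Submodule R A) [GradedAlgebra 𝒜] (n : ℤ) :
    Twist.twist 𝒜 n ≅ GrMod.tilde 𝒜 (M := A) 𝒜 n := twistIso 𝒜 n

open Groth.Agent.ProjTw in
theorem compat :
    (tIso 𝒜 n).hom ≫ GrMod.comap ψ hψ (psiSL ψ) (psiSL_mem ψ) n =
      ProjPullTwH9.theta ψ hψ n ≫
        (Scheme.Modules.pushforward (Proj.map ψ hψ)).map (tIso ℬ n).hom := by
  apply SheafOfModules.hom_ext
  apply PresheafOfModules.hom_ext
  intro U
  apply ModuleCat.hom_ext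
  apply LinearMap.ext
  intro s
  apply Subtype.ext
  funext y
  apply Subtype.ext
  exact locModMap_toLM ψ hψ y.1 _

/-- transfer: if the adjoint of `GrMod.comap` (for `v = ψ`) is an isomorphism, so is the adjoint of
the canonical map of twisting sheaves -/
theorem isIso_adj_theta_of_tilde
    (h : IsIso (adj (Proj.map ψ hψ) (GrMod.comap ψ hψ (psiSL ψ) (psiSL_mem ψ) n))) :
    IsIso (adj (Proj.map ψ hψ) (ProjPullTwH9.theta ψ hψ n)) := by
  have e1 : ((Scheme.Modules.pullbackPushforwardAdjunction (Proj.map ψ hψ)).homEquiv _ _).symm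
      ((tIso 𝒜 n).hom ≫ GrMod.comap ψ hψ (psiSL ψ) (psiSL_mem ψ) n) =
      (Scheme.Modules.pullback (Proj.map ψ hψ)).map (tIso 𝒜 n).hom ≫
        adj (Proj.map ψ hψ) (GrMod.comap ψ hψ (psiSL ψ) (psiSL_mem ψ) n) :=
    Adjunction.homEquiv_naturality_left_symm _ _ _
  have e2 : ((Scheme.Modules.pullbackPushforwardAdjunction (Proj.map ψ hψ)).homEquiv _ _).symm
      (ProjPullTwH9.theta ψ hψ n ≫
        (Scheme.Modules.pushforward (Proj.map ψ hψ)).map (tIso ℬ n).hom) =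
      adj (Proj.map ψ hψ) (ProjPullTwH9.theta ψ hψ n) ≫ (tIso ℬ n).hom :=
    Adjunction.homEquiv_naturality_right_symm _ _ _
  have h1 : (Scheme.Modules.pullback (Proj.map ψ hψ)).map (tIso 𝒜 n).hom ≫
        adj (Proj.map ψ hψ) (GrMod.comap ψ hψ (psiSL ψ) (psiSL_mem ψ) n) =
      adj (Proj.map ψ hψ) (ProjPullTwH9.theta ψ hψ n) ≫ (tIso ℬ n).hom :=
    e1.symm.trans ((congrArg _ (compat ψ hψ n)).trans e2)
  have h2 : adj (Proj.map ψ hψ) (ProjPullTwH9.theta ψ hψ n) =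
      ((Scheme.Modules.pullback (Proj.map ψ hψ)).map (tIso 𝒜 n).hom ≫
        adj (Proj.map ψ hψ) (GrMod.comap ψ hψ (psiSL ψ) (psiSL_mem ψ) n)) ≫
        (tIso ℬ n).inv := by
    rw [h1, Category.assoc, Iso.hom_inv_id, Category.comp_id]
  rw [h2]
  infer_instance

end Compat

end Groth.Agent.Lib.TwPullH2
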