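import Mathlib
import Groth.Prelude
import Groth.Agent.Lib.TwPull2_helper2
import Groth.Agent.Lib.BCSpan1_helper2

/-!
# Pull-back of `O(n)` along `Proj` of a base change of graded algebras, I (helper2)

Arithmetic of the fraction functions `fracO`, the structure homomorphism `algO : R → Γ(D_+(f), O)`,
multiplication by powers of `f` on graded pieces, and: the graded pieces of a base change
`A = R ⊗[R'] B` are base changes (`isBaseChange_piece`).
APPEND-ONLY once landed.
-/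

set_option autoImplicit false
universe u
open CategoryTheory CategoryTheory.Limits AlgebraicGeometry TopologicalSpace Opposite DirectSum
open HomogeneousLocalization

namespace Groth.Agent.Lib.TwPullH2

open Groth.Agent.GrTi Groth.Agent.GrTw QcqsLoc QCohExtn Groth.Agent.Lib.GrModSectH1
  Groth.Agent.Lib.PullAdjH2 Groth.Agent.Lib.SatQH2

section OArith
variable {A σ : Type u} [CommRing A] [SetLike σ A] [AddSubgroupClass σ A] (𝒜 : ℕ → σ)
  [GradedRing 𝒜] {d : ℕ} {f : A} (hf : f ∈ 𝒜 d)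

theorem fracO_congr {k k' : ℕ} {a a' : A} (ha : a ∈ 𝒜 (k • d)) (ha' : a' ∈ 𝒜 (k' • d))
    (hk : k = k') (haa : a = a') : fracO 𝒜 hf k a ha = fracO 𝒜 hf k' a' ha' := by
  subst hk haa
  rfl

theorem fracO_add (k : ℕ) (a a' : A) (ha : a ∈ 𝒜 (k • d)) (ha' : a' ∈ 𝒜 (k • d)) :
    fracO 𝒜 hf k (a + a') (add_mem ha ha') = fracO 𝒜 hf k a ha + fracO 𝒜 hf k a' ha' := by
  unfold fracO
  rw [← map_add]
  congr 1
  rw [HomogeneousLocalization.ext_iff_val, HomogeneousLocalization.val_add, Away.val_mk,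
    Away.val_mk, Away.val_mk, Localization.add_mk_self]

theorem fracO_zero (k : ℕ) : fracO 𝒜 hf k 0 (zero_mem _) = 0 := by
  unfold fracO
  rw [← map_zero (Proj.awayToSection 𝒜 f).hom]
  congr 1
  rw [HomogeneousLocalization.ext_iff_val, HomogeneousLocalization.val_zero, Away.val_mk,
    Localization.mk_zero]

theorem fracO_one (h1 : (1 : A) ∈ 𝒜 (0 • d)) : fracO 𝒜 hf 0 1 h1 = 1 := by
  unfold fracO
  rw [← map_one (Proj.awayToSection 𝒜 f).hom]
  congr 1
  rw [HomogeneousLocalization.ext_iff_val, HomogeneousLocalization.val_one, Away.val_mk]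
  have : (⟨f ^ 0, ⟨0, rfl⟩⟩ : Submonoid.powers f) = 1 := Subtype.ext (pow_zero f)
  rw [this, Localization.mk_one]

theorem fracO_mul (k k' : ℕ) (a a' : A) (ha : a ∈ 𝒜 (k • d)) (ha' : a' ∈ 𝒜 (k' • d))
    (haa : a * a' ∈ 𝒜 ((k + k') • d)) :
    fracO 𝒜 hf k a ha * fracO 𝒜 hf k' a' ha' = fracO 𝒜 hf (k + k') (a * a') haa := by
  unfold fracO
  rw [← map_mul]
  congr 1
  rw [HomogeneousLocalization.ext_iff_val, HomogeneousLocalization.val_mul, Away.val_mk,
    Away.val_mk, Away.val_mk, Localization.mk_mul]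
  congr 1
  exact Subtype.ext (pow_add f k k').symm

end OArith

section AlgO
variable {R A : Type u} [CommRing R] [CommRing A] [Algebra R A] (𝒜 : ℕ → Submodule R A)
  [GradedAlgebra 𝒜] {d : ℕ} {f : A} (hf : f ∈ 𝒜 d)

theorem algebraMap_mem_zero_smul (d : ℕ) (r : R) : algebraMap R A r ∈ 𝒜 (0 • d) := by
  rw [zero_smul]
  exact SetLike.algebraMap_mem_graded 𝒜 r

/-- the structure homomorphism `R → Γ(D_+(f), O)` -/
noncomputable def algO : R →+* Γ(Proj 𝒜, Proj.basicOpen 𝒜 f) where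
  toFun r := fracO 𝒜 hf 0 (algebraMap R A r) (algebraMap_mem_zero_smul 𝒜 d r)
  map_one' := by
    rw [fracO_congr 𝒜 hf (algebraMap_mem_zero_smul 𝒜 d 1)
      (by rw [zero_smul]; exact SetLike.GradedOne.one_mem) rfl (map_one _)]
    exact fracO_one 𝒜 hf _
  map_mul' r s := by
    rw [fracO_mul 𝒜 hf 0 0 _ _ _ _ (by
      rw [← map_mul]; exact algebraMap_mem_zero_smul 𝒜 d (r * s))]
    exact fracO_congr 𝒜 hf _ _ rfl (map_mul _ r s)
  map_zero' := by
    rw [fracO_congr 𝒜 hf (algebraMap_mem_zero_smul 𝒜 d 0) (zero_mem _) rfl (map_zero _)]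
    exact fracO_zero 𝒜 hf 0
  map_add' r s := by
    rw [← fracO_add 𝒜 hf 0 _ _ (algebraMap_mem_zero_smul 𝒜 d r)
      (algebraMap_mem_zero_smul 𝒜 d s)]
    exact fracO_congr 𝒜 hf _ _ rfl (map_add _ r s)

theorem algO_apply (r : R) :
    algO 𝒜 hf r = fracO 𝒜 hf 0 (algebraMap R A r) (algebraMap_mem_zero_smul 𝒜 d r) := rfl

theorem algO_mul_fracO (r : R) (k : ℕ) (a : A) (ha : a ∈ 𝒜 (k • d)) :
    algO 𝒜 hf r * fracO 𝒜 hf k a ha = fracO 𝒜 hf k (r • a) (Submodule.smul_mem _ r ha) := by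
  rw [algO_apply, fracO_mul 𝒜 hf 0 k _ _ _ _ (by
    rw [zero_add, ← Algebra.smul_def]; exact Submodule.smul_mem _ r ha)]
  exact fracO_congr 𝒜 hf _ _ (zero_add k) (Algebra.smul_def r a).symm

variable {M : Type u} [AddCommGroup M] [Module R M] [Module A M] [IsScalarTower R A M]
  (ℳ : ℕ → Submodule R M) [SetLike.GradedSMul 𝒜 ℳ] (n : ℤ)

theorem algO_smul_fracSecM (r : R) (k i : ℕ) (m : M) (hm : m ∈ ℳ i)
    (hi : (i : ℤ) = ((k • d : ℕ) : ℤ) + n) :
    algO 𝒜 hf r • fracSecM 𝒜 ℳ hf n k i m hm hi =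
      fracSecM 𝒜 ℳ hf n k i (r • m) (Submodule.smul_mem _ r hm) hi := by
  have hmem : algebraMap R A r • m ∈ ℳ (0 • d + i) := by
    rw [zero_smul, zero_add, algebraMap_smul]
    exact Submodule.smul_mem _ r hm
  have hi' : ((0 • d + i : ℕ) : ℤ) = (((0 + k) • d : ℕ) : ℤ) + n := by
    rw [zero_smul, zero_add, zero_add]
    exact hi
  rw [algO_apply, fracO_smul_fracSecM 𝒜 ℳ n hf 0 k i _ _ m hm hi hmem hi']
  exact fs_congr 𝒜 ℳ hf n _ _ _ _ (zero_add k) (by rw [zero_smul, zero_add])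
    (algebraMap_smul A r m)

/-- multiplication by `f ^ j` on graded pieces -/
def mulPowL (j i i' : ℕ) (h : i' = j • d + i) : 𝒜 i →ₗ[R] 𝒜 i' where
  toFun b := ⟨f ^ j * b, by
    rw [h]
    exact SetLike.mul_mem_graded (SetLike.pow_mem_graded j hf) b.2⟩
  map_add' b b' := Subtype.ext (by simp [mul_add])
  map_smul' r b := Subtype.ext (by simp)

theorem mulPowL_apply (j i i' : ℕ) (h : i' = j • d + i) (b : 𝒜 i) :
    ((mulPowL 𝒜 hf j i i' h b : 𝒜 i') : A) = f ^ j * b := rfl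

end AlgO

section Piece
variable {R R' A B : Type u} [CommRing R'] [CommRing R] [Algebra R' R]
  [CommRing B] [Algebra R' B] (ℬ : ℕ → Submodule R' B) [GradedAlgebra ℬ]
  [CommRing A] [Algebra R A] [Algebra R' A] [IsScalarTower R' R A] (𝒜 : ℕ → Submodule R A)
  [GradedAlgebra 𝒜] [Algebra B A] [IsScalarTower R' B A]
  (φ : ℬ →+*ᵍ 𝒜) (hφA : ∀ b : B, φ b = algebraMap B A b)

omit [Algebra R' R] [Algebra R' A] [IsScalarTower R' R A] [Algebra B A] [IsScalarTower R' B A] in
theorem phi_proj (i : ℕ) (b : B) :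
    φ (GradedAlgebra.proj ℬ i b) = GradedAlgebra.proj 𝒜 i (φ b) := by
  induction b using DirectSum.Decomposition.inductionOn ℬ with
  | zero => simp
  | @homogeneous l b =>
    have h1 : φ (b : B) ∈ 𝒜 l := φ.map_mem b.2
    by_cases hl : l = i
    · subst hl
      rw [GradedAlgebra.proj_apply, GradedAlgebra.proj_apply,
        DirectSum.decompose_of_mem_same ℬ b.2,
        DirectSum.decompose_of_mem_same 𝒜 h1]
    · rw [GradedAlgebra.proj_apply, GradedAlgebra.proj_apply,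
        DirectSum.decompose_of_mem_ne ℬ b.2 hl,
        DirectSum.decompose_of_mem_ne 𝒜 h1 hl, map_zero]
  | add b b' h h' =>
    rw [map_add (GradedAlgebra.proj ℬ i), map_add φ, h, h', map_add φ,
      map_add (GradedAlgebra.proj 𝒜 i)]

include hφA in
/-- `φ` on the degree `i` pieces, `R'`-linearly -/
def piece (i : ℕ) : ℬ i →ₗ[R'] 𝒜 i where
  toFun b := ⟨φ b, φ.map_mem b.2⟩
  map_add' b b' := Subtype.ext (by simp)
  map_smul' r b := Subtype.ext (by
    show φ (r • (b : B)) = r • φ (b : B)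
    rw [hφA, hφA, Algebra.smul_def, map_mul, ← IsScalarTower.algebraMap_apply,
      Algebra.smul_def])

theorem piece_apply (i : ℕ) (b : ℬ i) : ((piece ℬ 𝒜 φ hφA i b : 𝒜 i) : A) = φ b := rfl

variable [Algebra.IsPushout R' R B A]

/-- the graded pieces of a base change of graded algebras are base changes -/
theorem isBaseChange_piece (i : ℕ) : IsBaseChange R (piece ℬ 𝒜 φ hφA i) := by
  refine Groth.Agent.Lib.BCSpanH2.isBaseChange_of_projection
    (IsScalarTower.toAlgHom R' B A).toLinearMap (Algebra.IsPushout.out)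
    (GradedAlgebra.proj ℬ i) (GradedAlgebra.proj 𝒜 i) ?_ ?_ (ℬ i) (𝒜 i) ?_ ?_
    (piece ℬ 𝒜 φ hφA i) ?_
  · intro b
    rw [GradedAlgebra.proj_apply, GradedAlgebra.proj_apply,
      DirectSum.decompose_of_mem_same ℬ (DirectSum.decompose ℬ b i).2]
  · intro b
    show algebraMap B A (GradedAlgebra.proj ℬ i b) = GradedAlgebra.proj 𝒜 i (algebraMap B A b)
    rw [← hφA, ← hφA]
    exact phi_proj ℬ 𝒜 φ i b
  · intro b
    constructor
    · intro hb
      rw [GradedAlgebra.proj_apply, DirectSum.decompose_of_mem_same ℬ hb]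
    · intro hb
      rw [← hb, GradedAlgebra.proj_apply]
      exact (DirectSum.decompose ℬ b i).2
  · intro a ha
    rw [GradedAlgebra.proj_apply, DirectSum.decompose_of_mem_same 𝒜 ha]
  · intro b
    show φ (b : B) = algebraMap B A (b : B)
    exact hφA _

end Piece

end Groth.Agent.Lib.TwPullH2
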