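import Mathlib
import Groth.Prelude
import Groth.Agent.Lib.ProjUP1_helper5
import Groth.Agent.Lib.VAmpPn1_helper5
import Groth.Agent.Lib.TwPull3_helper2
import Groth.Agent.Lib.ProjMap_helper3

/-!
# A closed subscheme of `Proj` is `Proj` of the quotient by its homogeneous ideal (helper2)
APPEND-ONLY once landed.
-/

set_option autoImplicit false
universe u
open CategoryTheory CategoryTheory.Limits AlgebraicGeometry TopologicalSpace Opposite DirectSum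
open HomogeneousLocalization QcqsLoc GenLocH8 TensH8 PBH8

namespace Groth.Agent.Lib.ClProjIdealH2

open Groth.Agent.GrTw Groth.Agent.ProjUPU Groth.Agent.Lib.TwPullH2

section General
variable {A S : Type u} [CommRing A] [CommRing S] [Algebra A S] (𝒮 : ℕ → Submodule A S)
  [GradedAlgebra 𝒮]

theorem ext_valO {W : (Proj 𝒮).Opens} (c c' : Γ(Proj 𝒮, W))
    (h : ∀ y : W, valO 𝒮 c y = valO 𝒮 c' y) : c = c' := by
  apply Subtype.ext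
  funext y
  exact HomogeneousLocalization.val_injective _ (h y)

theorem mem_smul_one {d : ℕ} {F : S} (hF : F ∈ 𝒮 d) : F ∈ 𝒮 (d • 1) := by
  simpa using hF

/-- `F / f^d` on `D_+(f)`, `f` of degree one, `F` of degree `d`. -/
noncomputable abbrev fr {f : S} (hf : f ∈ 𝒮 1) (d : ℕ) (F : S) (hF : F ∈ 𝒮 d) :
    Γ(Proj 𝒮, Proj.basicOpen 𝒮 f) :=
  fracO 𝒮 hf d F (mem_smul_one 𝒮 hF)

theorem fr_mul {f : S} (hf : f ∈ 𝒮 1) (d d' : ℕ) (F F' : S) (hF : F ∈ 𝒮 d) (hF' : F' ∈ 𝒮 d') :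
    fr 𝒮 hf d F hF * fr 𝒮 hf d' F' hF' =
      fr 𝒮 hf (d + d') (F * F') (SetLike.mul_mem_graded hF hF') :=
  fracO_mul 𝒮 hf d d' F F' _ _ _

theorem pow_mem_deg {g : S} (hg : g ∈ 𝒮 1) (m : ℕ) : g ^ m ∈ 𝒮 m := by
  simpa using SetLike.pow_mem_graded m hg

theorem fr_pow {f : S} (hf : f ∈ 𝒮 1) (g : S) (hg : g ∈ 𝒮 1) (m : ℕ) :
    fr 𝒮 hf 1 g hg ^ m = fr 𝒮 hf m (g ^ m) (pow_mem_deg 𝒮 hg m) := by
  induction m with
  | zero =>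
    rw [pow_zero]
    have h1 : (1 : S) ∈ 𝒮 (0 • 1) := mem_smul_one 𝒮 SetLike.GradedOne.one_mem
    exact (fracO_one 𝒮 hf h1).symm.trans (fracO_congr 𝒮 hf _ _ rfl (pow_zero g).symm)
  | succ m ih =>
    rw [pow_succ, ih, fr_mul]
    exact fracO_congr 𝒮 hf _ _ rfl (pow_succ g m).symm

theorem fr_self {f : S} (hf : f ∈ 𝒮 1) : fr 𝒮 hf 1 f hf = 1 := by
  have h1 : (1 : S) ∈ 𝒮 (0 • 1) := mem_smul_one 𝒮 SetLike.GradedOne.one_mem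
  have h2 := fracO_shift 𝒮 hf 0 1 1 h1 (by simpa using hf)
  rw [fracO_one] at h2
  exact (fracO_congr 𝒮 hf _ _ (by norm_num) (by simp)).trans h2

theorem basicOpen_fr {f g : S} (hf : f ∈ 𝒮 1) (hg : g ∈ 𝒮 1) :
    (Proj 𝒮).basicOpen (fr 𝒮 hf 1 g hg) = Proj.basicOpen 𝒮 f ⊓ Proj.basicOpen 𝒮 g :=
  basicOpen_rat 𝒮 hf hg

theorem fr_chart {f g : S} (hf : f ∈ 𝒮 1) (hg : g ∈ 𝒮 1) (d : ℕ) (F : S) (hF : F ∈ 𝒮 d) :
    rX (inf_le_left : Proj.basicOpen 𝒮 f ⊓ Proj.basicOpen 𝒮 g ≤ Proj.basicOpen 𝒮 f)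
        (fr 𝒮 hf d F hF) =
      rX (inf_le_left : Proj.basicOpen 𝒮 f ⊓ Proj.basicOpen 𝒮 g ≤ Proj.basicOpen 𝒮 f)
        (fr 𝒮 hf 1 g hg) ^ d *
      rX (inf_le_right : Proj.basicOpen 𝒮 f ⊓ Proj.basicOpen 𝒮 g ≤ Proj.basicOpen 𝒮 g)
        (fr 𝒮 hg d F hF) := by
  apply ext_valO
  intro y
  rw [Groth.Agent.GStar.valO_mul, Groth.Agent.GrTi.valO_pow, valO_rX, valO_rX, valO_rX,
    valO_fracO, valO_fracO, valO_fracO, Localization.mk_pow, Localization.mk_mul,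
    Localization.mk_eq_mk_iff, Localization.r_iff_exists]
  refine ⟨1, ?_⟩
  simp only [Submonoid.coe_mul, Submonoid.coe_one, one_mul, SubmonoidClass.coe_pow]
  ring

theorem rF_globalOf {f : S} (hf : f ∈ 𝒮 1) (d : ℕ) (F : S) (hF : F ∈ 𝒮 d) :
    rF (Twist.twist 𝒮 (d : ℤ)) (le_top : Proj.basicOpen 𝒮 f ≤ ⊤) (Twist.globalOf 𝒮 ⟨F, hF⟩) =
      fr 𝒮 hf d F hF • (show Γ(Twist.twist 𝒮 (d : ℤ), Proj.basicOpen 𝒮 f) from
        ProjTw.genSecK 𝒮 hf (d : ℤ) (d : ℤ) (by simp)) := by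
  apply Subtype.ext
  funext y
  apply Subtype.ext
  refine Eq.trans ?_ (ProjTw.smul_valN 𝒮 (d : ℤ) (op (ProjectiveSpectrum.basicOpen 𝒮 f))
    (fr 𝒮 hf d F hF) (ProjTw.genSecK 𝒮 hf (d : ℤ) (d : ℤ) (by simp)) y).symm
  show Localization.mk _ _ = Localization.mk _ _ * Localization.mk _ _
  rw [Localization.mk_mul, Localization.mk_eq_mk_iff, Localization.r_iff_exists]
  refine ⟨1, ?_⟩
  simp only [Submonoid.coe_mul, Submonoid.coe_one, one_mul]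
  simp
  ring

end General

section Pull
variable {A S : Type u} [CommRing A] [CommRing S] [Algebra A S] (𝒮 : ℕ → Submodule A S)
  [GradedAlgebra 𝒮] {X : Scheme.{u}} (r : X ⟶ Proj 𝒮)

/-- The function `r^#(F / f^d)` on `r⁻¹ D_+(f)`. -/
noncomputable def q {f : S} (hf : f ∈ 𝒮 1) (d : ℕ) (F : S) (hF : F ∈ 𝒮 d) :
    Γ(X, r ⁻¹ᵁ Proj.basicOpen 𝒮 f) :=
  (r.app (Proj.basicOpen 𝒮 f)).hom (fr 𝒮 hf d F hF)

theorem q_mul {f : S} (hf : f ∈ 𝒮 1) (d d' : ℕ) (F F' : S) (hF : F ∈ 𝒮 d) (hF' : F' ∈ 𝒮 d') :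
    q 𝒮 r hf d F hF * q 𝒮 r hf d' F' hF' =
      q 𝒮 r hf (d + d') (F * F') (SetLike.mul_mem_graded hF hF') := by
  unfold q
  rw [← map_mul, fr_mul]

theorem q_pow {f : S} (hf : f ∈ 𝒮 1) (g : S) (hg : g ∈ 𝒮 1) (m : ℕ) :
    q 𝒮 r hf 1 g hg ^ m = q 𝒮 r hf m (g ^ m) (pow_mem_deg 𝒮 hg m) := by
  unfold q
  rw [← map_pow, fr_pow]

theorem q_self {f : S} (hf : f ∈ 𝒮 1) : q 𝒮 r hf 1 f hf = 1 := by
  unfold q
  rw [fr_self, map_one]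

theorem q_congr {f : S} (hf : f ∈ 𝒮 1) {d d' : ℕ} {F F' : S} (hF : F ∈ 𝒮 d) (hF' : F' ∈ 𝒮 d')
    (hd : d = d') (hFF : F = F') : q 𝒮 r hf d F hF = q 𝒮 r hf d' F' hF' := by
  subst hd hFF
  rfl

theorem basicOpen_q {f g : S} (hf : f ∈ 𝒮 1) (hg : g ∈ 𝒮 1) :
    X.basicOpen (q 𝒮 r hf 1 g hg) = r ⁻¹ᵁ (Proj.basicOpen 𝒮 f ⊓ Proj.basicOpen 𝒮 g) := by
  unfold q
  rw [← Scheme.preimage_basicOpen, basicOpen_fr]

theorem rX_app {V V' : (Proj 𝒮).Opens} (hV : V' ≤ V) (c : Γ(Proj 𝒮, V)) :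
    rX (show r ⁻¹ᵁ V' ≤ r ⁻¹ᵁ V from fun _ hz => hV hz) ((r.app V).hom c) =
      (r.app V').hom (rX hV c) := by
  have h1 := r.naturality (homOfLE hV).op
  exact (ConcreteCategory.congr_hom h1 c).symm

variable (hcov : ∀ x : Proj 𝒮, ∃ f ∈ 𝒮 1, x ∈ Proj.basicOpen 𝒮 f)

include hcov in
theorem psec_eq_zero_iff {f : S} (hf : f ∈ 𝒮 1) (d : ℕ) (F : S) (hF : F ∈ 𝒮 d) :
    psec r (Twist.twist 𝒮 (d : ℤ)) (Twist.globalOf 𝒮 ⟨F, hF⟩) (r ⁻¹ᵁ Proj.basicOpen 𝒮 f) = 0 ↔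
      q 𝒮 r hf d F hF = 0 := by
  have h : r ⁻¹ᵁ Proj.basicOpen 𝒮 f ≤ r ⁻¹ᵁ Proj.basicOpen 𝒮 f := le_rfl
  have hgen : IsGen ((Scheme.Modules.pullback r).obj (Twist.twist 𝒮 (d : ℤ)))
      (r ⁻¹ᵁ Proj.basicOpen 𝒮 f)
      (cUV r (Twist.twist 𝒮 (d : ℤ)) h (ProjTw.genSecK 𝒮 hf (d : ℤ) (d : ℤ) (by simp))) :=
    isGen_cUV r (ProjTw.isInvertible_twist 𝒮 hcov (d : ℤ))
      (Proj.isAffineOpen_basicOpen 𝒮 f hf one_pos)
      (ProjTw.isGen_genSecK 𝒮 one_pos hf (d : ℤ) (d : ℤ) (by simp))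
  rw [psec_eq_cUV r _ _ h, rF_globalOf 𝒮 hf d F hF, cUV_smul]
  have e : (r.appLE (Proj.basicOpen 𝒮 f) (r ⁻¹ᵁ Proj.basicOpen 𝒮 f) h).hom (fr 𝒮 hf d F hF) =
      q 𝒮 r hf d F hF := by
    unfold q
    rw [Scheme.Hom.app_eq_appLE]
  constructor
  · intro h0
    rw [← e]
    refine (hgen _ le_rfl).2 _ ?_
    rw [SubExt.rF_self]
    exact h0
  · intro h0
    rw [← e] at h0
    exact (congrArg (· • _) h0).trans (zero_smul _ _)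

end Pull

section Fam
variable {A S : Type u} [CommRing A] [CommRing S] [Algebra A S] (𝒮 : ℕ → Submodule A S)
  [GradedAlgebra 𝒮] {X : Scheme.{u}} (r : X ⟶ Proj 𝒮)
  {ι : Type} (g : ι → S) (hg : ∀ i, g i ∈ 𝒮 1)
  (hcovg : ∀ x : Proj 𝒮, ∃ i, x ∈ Proj.basicOpen 𝒮 (g i))

include hg hcovg in
theorem hcov_of_fam : ∀ x : Proj 𝒮, ∃ f ∈ 𝒮 1, x ∈ Proj.basicOpen 𝒮 f := by
  intro x
  obtain ⟨i, hi⟩ := hcovg x
  exact ⟨g i, hg i, hi⟩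

include hcovg in
theorem pullSec_eq_zero_iff (d : ℕ) (F : S) (hF : F ∈ 𝒮 d) :
    ProjUP.pullSec r (Twist.twist 𝒮 (d : ℤ)) (Twist.globalOf 𝒮 ⟨F, hF⟩) = 0 ↔
      ∀ l, q 𝒮 r (hg l) d F hF = 0 := by
  have hcov := hcov_of_fam 𝒮 g hg hcovg
  constructor
  · intro h0 l
    rw [← psec_eq_zero_iff 𝒮 r hcov (hg l) d F hF]
    unfold psec
    rw [h0, map_zero]
  · intro h0
    apply eq_zero_of_cover
    intro x _
    obtain ⟨l, hl⟩ := hcovg (r x)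
    refine ⟨r ⁻¹ᵁ Proj.basicOpen 𝒮 (g l), le_top, hl, ?_⟩
    exact (psec_eq_zero_iff 𝒮 r hcov (hg l) d F hF).2 (h0 l)

theorem exists_pow_mul_eq_zero' {U W : X.Opens} (hU : IsCompact U.1) (x f : Γ(X, U))
    (hW : W ≤ U) (hb : X.basicOpen f = W) (H : rX hW x = 0) : ∃ n : ℕ, f ^ n * x = 0 := by
  subst hb
  exact exists_pow_mul_eq_zero_of_res_basicOpen_eq_zero_of_isCompact X hU x f H

theorem app_eq_zero_iff_appLE {Y : Scheme.{u}} (j : Y ⟶ Proj 𝒮) (V : (Proj 𝒮).Opens)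
    (U : Y.Opens) (e : U = j ⁻¹ᵁ V) (c : Γ(Proj 𝒮, V)) :
    (j.app V).hom c = 0 ↔ (j.appLE V U e.le).hom c = 0 := by
  subst e
  rw [Scheme.Hom.app_eq_appLE]

end Fam

section Ker
variable {A S : Type u} [CommRing A] [CommRing S] [Algebra A S] (𝒮 : ℕ → Submodule A S)
  [GradedAlgebra 𝒮] {X : Scheme.{u}} (r : X ⟶ Proj 𝒮) [QuasiCompact r]
  {ι : Type} [Finite ι] (g : ι → S) (hg : ∀ i, g i ∈ 𝒮 1)
  (hcovg : ∀ x : Proj 𝒮, ∃ i, x ∈ Proj.basicOpen 𝒮 (g i))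

omit [Finite ι] in
/-- Vanishing on the chart `k` propagates to the chart `l` after multiplication by a power of
`g_k / g_l`. -/
theorem exists_pow_q_mul (k l : ι) (d : ℕ) (F : S) (hF : F ∈ 𝒮 d)
    (h0 : q 𝒮 r (hg k) d F hF = 0) :
    ∃ m : ℕ, q 𝒮 r (hg l) 1 (g k) (hg k) ^ m * q 𝒮 r (hg l) d F hF = 0 := by
  have hcomp : IsCompact (r ⁻¹ᵁ Proj.basicOpen 𝒮 (g l)).1 :=
    QuasiCompact.isCompact_preimage (f := r) _ (Proj.basicOpen 𝒮 (g l)).2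
      (Proj.isAffineOpen_basicOpen 𝒮 (g l) (hg l) one_pos).isCompact
  have hW : r ⁻¹ᵁ (Proj.basicOpen 𝒮 (g l) ⊓ Proj.basicOpen 𝒮 (g k)) ≤
      r ⁻¹ᵁ Proj.basicOpen 𝒮 (g l) := fun _ hz => hz.1
  refine exists_pow_mul_eq_zero' hcomp _ _ hW (basicOpen_q 𝒮 r (hg l) (hg k)) ?_
  unfold q
  rw [rX_app 𝒮 r (inf_le_left : Proj.basicOpen 𝒮 (g l) ⊓ Proj.basicOpen 𝒮 (g k) ≤ _),
    fr_chart 𝒮 (hg l) (hg k) d F hF, map_mul,
    ← rX_app 𝒮 r (inf_le_right : Proj.basicOpen 𝒮 (g l) ⊓ Proj.basicOpen 𝒮 (g k) ≤ _)]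
  have : (r.app (Proj.basicOpen 𝒮 (g k))).hom (fr 𝒮 (hg k) d F hF) = 0 := h0
  rw [this, map_zero, mul_zero]

variable {B : Type u} [CommRing B] [Algebra A B] (ℬ : ℕ → Submodule A B)
    [GradedAlgebra ℬ] (φ : 𝒮 →+*ᵍ ℬ)
    (hφ : HomogeneousIdeal.irrelevant ℬ ≤ (HomogeneousIdeal.irrelevant 𝒮).map φ)
    (hker : ∀ (d : ℕ) (F : S) (hF : F ∈ 𝒮 d), φ F = 0 ↔
      ProjUP.pullSec r (Twist.twist 𝒮 (d : ℤ)) (Twist.globalOf 𝒮 ⟨F, hF⟩) = 0)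

include hg hcovg hker in
theorem ker_app_eq (k : ι) :
    RingHom.ker (r.app (Proj.basicOpen 𝒮 (g k))).hom =
      RingHom.ker ((Proj.map φ hφ).app (Proj.basicOpen 𝒮 (g k))).hom := by
  ext x
  rw [RingHom.mem_ker, RingHom.mem_ker]
  obtain ⟨d, F, hF0, rfl⟩ := exists_eq_fracO 𝒮 one_pos (hg k) x
  have hF : F ∈ 𝒮 d := by simpa using hF0
  have hB : ((Proj.map φ hφ).app (Proj.basicOpen 𝒮 (g k))).hom (fracO 𝒮 (hg k) d F hF0) = 0 ↔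
      ∃ N : ℕ, φ (g k ^ N * F) = 0 := by
    rw [app_eq_zero_iff_appLE 𝒮 (Proj.map φ hφ) _ (Proj.basicOpen ℬ (φ (g k)))
      (Proj.map_preimage_basicOpen φ hφ (g k)).symm, appLE_fracO φ hφ (hg k) d F hF0,
      fracO_eq_zero_iff ℬ one_pos (φ.map_mem (hg k))]
    refine exists_congr fun N => ?_
    rw [map_mul, map_pow]
    exact Iff.rfl
  rw [hB]
  have hq : ∀ (N : ℕ) (l : ι), q 𝒮 r (hg l) (N + d) (g k ^ N * F)
      (SetLike.mul_mem_graded (pow_mem_deg 𝒮 (hg k) N) hF) =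
      q 𝒮 r (hg l) 1 (g k) (hg k) ^ N * q 𝒮 r (hg l) d F hF := by
    intro N l
    rw [q_pow, q_mul]
  have hA : (∃ N : ℕ, φ (g k ^ N * F) = 0) ↔
      ∃ N : ℕ, ∀ l, q 𝒮 r (hg l) 1 (g k) (hg k) ^ N * q 𝒮 r (hg l) d F hF = 0 := by
    refine exists_congr fun N => ?_
    rw [hker (N + d) (g k ^ N * F) (SetLike.mul_mem_graded (pow_mem_deg 𝒮 (hg k) N) hF),
      pullSec_eq_zero_iff 𝒮 r g hg hcovg]
    exact forall_congr' fun l => by rw [hq N l]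
  rw [hA]
  show q 𝒮 r (hg k) d F hF = 0 ↔ _
  constructor
  · intro h0
    choose m hm using fun l => exists_pow_q_mul 𝒮 r g hg k l d F hF h0
    cases nonempty_fintype ι
    refine ⟨Finset.univ.sup m, fun l => ?_⟩
    have hle : m l ≤ Finset.univ.sup m := Finset.le_sup (Finset.mem_univ l)
    obtain ⟨c, hc⟩ := Nat.exists_eq_add_of_le hle
    rw [hc, pow_add, mul_comm (_ ^ m l), mul_assoc, hm l, mul_zero]
  · rintro ⟨N, hN⟩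
    have := hN k
    rwa [q_self, one_pow, one_mul] at this

include hg hcovg hker in
theorem ker_eq [QuasiCompact (Proj.map φ hφ)] : r.ker = (Proj.map φ hφ).ker := by
  refine Scheme.IdealSheafData.ext_of_iSup_eq_top
    (fun k : ι => (⟨Proj.basicOpen 𝒮 (g k),
      Proj.isAffineOpen_basicOpen 𝒮 (g k) (hg k) one_pos⟩ : (Proj 𝒮).affineOpens)) ?_
    (fun k => ?_)
  · rw [eq_top_iff]
    intro x _
    obtain ⟨i, hi⟩ := hcovg x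
    exact Opens.mem_iSup.mpr ⟨i, hi⟩
  · rw [Scheme.Hom.ker_apply, Scheme.Hom.ker_apply]
    exact ker_app_eq 𝒮 r g hg hcovg ℬ φ hφ hker k

include hg hcovg hker in
/-- A closed subscheme of `Proj 𝒮` (covered by finitely many degree-one standard opens) is
`Proj` of the quotient of `𝒮` by the homogeneous ideal of forms vanishing on it. -/
theorem exists_iso [IsClosedImmersion r] (hφs : Function.Surjective φ) :
    ∃ e : X ≅ Proj ℬ, e.hom ≫ Proj.map φ hφ = r := by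
  haveI : IsClosedImmersion (Proj.map φ hφ) :=
    Groth.Agent.Lib.ProjMap_helper3.map_isClosedImmersion 𝒮 ℬ φ hφs hφ
  have hk : (Proj.map φ hφ).ker = r.ker := (ker_eq 𝒮 r g hg hcovg ℬ φ hφ hker).symm
  haveI := IsClosedImmersion.isIso_lift (Proj.map φ hφ) r hk
  exact ⟨asIso (IsClosedImmersion.lift (Proj.map φ hφ) r hk.le),
    IsClosedImmersion.lift_fac _ _ _⟩

end Ker

end Groth.Agent.Lib.ClProjIdealH2
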