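import Mathlib
import Groth.Agent.Lib.LimDescFP3_helper7
import Groth.Agent.S9189

/-!
# Finite type ideal sheaves on a cofiltered limit come from a stage (helper7)
-/

set_option autoImplicit false
set_option linter.style.haveILetI false
universe u
open CategoryTheory CategoryTheory.Limits AlgebraicGeometry Topology TopologicalSpace

namespace Groth.Agent.Lib.LimDescFPH7

theorem descendsProp_isClosedImmersion : DescendsProp.{u} @IsClosedImmersion := by
  intro I _ _ D c hc _ i₀ _ _ X₀ Y₀ f₀ g₀ _ _ _ _ _ X Y f g qY qX hY hX hP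
  haveI : IsClosedImmersion f := hP
  exact Groth.Agent.S9189.result D c hc i₀ f₀ g₀ f g qY qX hY hX

lemma fp_stableSource :
    RingHom.StableUnderCompositionWithLocalizationAwaySource @RingHom.FinitePresentation := by
  intro R S T _ _ _ _ r _ f hf
  exact hf.comp (RingHom.finitePresentation_holdsForLocalizationAway S r)

theorem lfp_subschemeι {X : Scheme.{u}} (J : X.IdealSheafData)
    (hJ : ∀ U : X.affineOpens, (J.ideal U).FG) :
    LocallyOfFinitePresentation J.subschemeι := by
  rw [HasRingHomProperty.iff_exists_appLE (P := @LocallyOfFinitePresentation) fp_stableSource]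
  intro x
  obtain ⟨_, ⟨U, hU, rfl⟩, hxU, -⟩ := X.isBasis_affineOpens.exists_subset_of_mem_open
    (Set.mem_univ (J.subschemeι x)) isOpen_univ
  have hU' : IsAffineOpen U := hU
  refine ⟨⟨U, hU⟩, ⟨J.subschemeι ⁻¹ᵁ U, hU'.preimage J.subschemeι⟩, hxU, le_rfl, ?_⟩
  have h1 : J.subschemeι.appLE U (J.subschemeι ⁻¹ᵁ U) le_rfl = J.subschemeι.app U :=
    (Scheme.Hom.app_eq_appLE _).symm
  show RingHom.FinitePresentation (J.subschemeι.appLE U (J.subschemeι ⁻¹ᵁ U) le_rfl).hom
  rw [h1]
  refine RingHom.FinitePresentation.of_surjective _ (J.subschemeι_app_surjective ⟨U, hU⟩) ?_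
  rw [J.ker_subschemeι_app ⟨U, hU⟩]
  exact hJ ⟨U, hU⟩

theorem ideal_fg_of_lfp {X : Scheme.{u}} (J : X.IdealSheafData)
    [LocallyOfFinitePresentation J.subschemeι] (U : X.affineOpens) : (J.ideal U).FG := by
  have hfp : (J.subschemeι.app U).hom.FinitePresentation := by
    have h := J.subschemeι.finitePresentation_appLE U.2 (U.2.preimage J.subschemeι) le_rfl
    rwa [← Scheme.Hom.app_eq_appLE] at h
  rw [← J.ker_subschemeι_app U]
  letI := (J.subschemeι.app U).hom.toAlgebra
  haveI : Algebra.FinitePresentation Γ(X, U) Γ(J.subscheme, J.subschemeι ⁻¹ᵁ U) := hfp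
  have h := Algebra.FinitePresentation.ker_fG_of_surjective
    (Algebra.ofId Γ(X, U) Γ(J.subscheme, J.subschemeι ⁻¹ᵁ U))
    (J.subschemeι_app_surjective U)
  exact h

/-- **S9220**. -/
theorem main9220 {I : Type u} [SmallCategory I] [IsCofiltered I]
    (D : I ⥤ Scheme.{u}) (c : Cone D) (hc : IsLimit c)
    [∀ (i j : I) (f : i ⟶ j), IsAffineHom (D.map f)] [∀ i, CompactSpace (D.obj i)]
    [∀ i, QuasiSeparatedSpace (D.obj i)] (J : c.pt.IdealSheafData)
    (hJ : ∀ U : c.pt.affineOpens, (J.ideal U).FG) :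
    ∃ (i : I) (Ji : (D.obj i).IdealSheafData), (∀ U : (D.obj i).affineOpens, (Ji.ideal U).FG) ∧
      Ji.comap (c.π.app i) = J := by
  obtain ⟨i₀⟩ := IsCofiltered.nonempty (C := I)
  haveI := lfp_subschemeι J hJ
  obtain ⟨j, -, Zj, ιj, q, hlfp, -, -, hcl, hpb⟩ :=
    exists_descend_with descendsProp_isClosedImmersion D c hc i₀ J.subschemeι
      (inferInstance : IsClosedImmersion J.subschemeι)
  haveI := hlfp
  haveI : IsClosedImmersion ιj := hcl
  refine ⟨j, ιj.ker, ?_, ?_⟩
  · intro U
    haveI : LocallyOfFinitePresentation ιj.ker.subschemeι := by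
      have h : ιj.toImage ≫ ιj.ker.subschemeι = ιj := ιj.toImage_imageι
      have h2 : LocallyOfFinitePresentation (ιj.toImage ≫ ιj.ker.subschemeι) := by
        rw [h]
        exact hlfp
      exact (MorphismProperty.cancel_left_of_respectsIso @LocallyOfFinitePresentation
        ιj.toImage _).1 h2
    exact ideal_fg_of_lfp ιj.ker U
  · show (pullback.fst (c.π.app j) ιj.ker.subschemeι).ker = J
    have hpb' : IsPullback J.subschemeι (q ≫ ιj.toImage) (c.π.app j) ιj.ker.subschemeι := by
      refine IsPullback.of_iso hpb.flip (Iso.refl _) (Iso.refl _) (asIso ιj.toImage) (Iso.refl _)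
        (by simp) (by simp) (by simp) ?_
      simp only [Iso.refl_hom, Category.comp_id, asIso_hom]
      exact ιj.toImage_imageι.symm
    calc (pullback.fst (c.π.app j) ιj.ker.subschemeι).ker
        = (hpb'.isoPullback.hom ≫ pullback.fst (c.π.app j) ιj.ker.subschemeι).ker :=
          (Scheme.Hom.ker_comp_of_isIso _ _).symm
      _ = J.subschemeι.ker := by rw [hpb'.isoPullback_hom_fst]
      _ = J := J.ker_subschemeι

end Groth.Agent.Lib.LimDescFPH7
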