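import Mathlib
import Groth.Prelude.Def_ActBC
import Groth.Agent.Lib.OverLim17_helper6
import Groth.Agent.Lib.LimConstr_helper9

/-!
# Quotients by flat equivalence relations over a cofiltered limit: S6091 (helper6)
-/

set_option autoImplicit false
set_option linter.all false
set_option backward.isDefEq.respectTransparency false
universe u
open CategoryTheory CategoryTheory.Limits AlgebraicGeometry MonoidalCategory CartesianMonoidalCategory MonObj

namespace Groth.Agent.Lib.OverLimH6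

section up
variable {S S' S'' : Scheme.{u}} (e : S'' ⟶ S') (f : S' ⟶ S) {d : S'' ⟶ S} (h : e ≫ f = d)
  {R X : Over S}

/-- The quotient-presentation predicate. -/
def QuotRep {S' : Scheme.{u}} (g : S' ⟶ S) (s t : R ⟶ X) : Prop :=
  ∃ (Y : Over S') (p : Red.bc g X ⟶ Y), Flat p.left ∧ Surjective p.left ∧
    LocallyOfFinitePresentation p.left ∧
    IsPullback ((Over.pullback g).map s) ((Over.pullback g).map t) p p

include h in
/-- a presentation over `bc e (bc f X)` gives one over `bc d X`. -/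
lemma quotRep_of_conj (s t : R ⟶ X) {Y'' : Over S''} (q : Red.bc e (Red.bc f X) ⟶ Y'')
    (h1 : Flat q.left) (h2 : Surjective q.left) (h3 : LocallyOfFinitePresentation q.left)
    (hq : IsPullback ((Over.pullback e).map ((Over.pullback f).map s))
      ((Over.pullback e).map ((Over.pullback f).map t)) q q) : QuotRep d s t := by
  refine ⟨Y'', (ActBC.bcCompIso e f X h).inv ≫ q, ?_, ?_, ?_, rep_conj e f h s t q hq⟩
  · rw [Over.comp_left, MorphismProperty.cancel_left_of_respectsIso (P := @Flat)]; exact h1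
  · rw [Over.comp_left, MorphismProperty.cancel_left_of_respectsIso (P := @Surjective)]; exact h2
  · rw [Over.comp_left,
      MorphismProperty.cancel_left_of_respectsIso (P := @LocallyOfFinitePresentation)]
    exact h3

include h in
lemma quotRep_up (s t : R ⟶ X) (hq : QuotRep f s t) : QuotRep d s t := by
  obtain ⟨Y, p, h1, h2, h3, hpb⟩ := hq
  exact quotRep_of_conj e f h s t ((Over.pullback e).map p)
    (MorphismProperty.overPullbackMap (P := @Flat) e p h1)
    (MorphismProperty.overPullbackMap (P := @Surjective) e p h2)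
    (MorphismProperty.overPullbackMap (P := @LocallyOfFinitePresentation) e p h3)
    (hpb.map (Over.pullback e))

end up

section lim
variable {I : Type u} [SmallCategory I] [IsCofiltered I] {D : I ⥤ Scheme.{u}} {c : Cone D}
  [∀ (i i' : I) (f : i ⟶ i'), IsAffineHom (D.map f)]

open Groth.Agent.Lib.LimDescFPH7

/-- the quotient over the limit is of finite presentation. -/
lemma fp_of_quot {S : Scheme.{u}} [CompactSpace S] [QuasiSeparatedSpace S] {R X Y : Over S}
    [LocallyOfFinitePresentation X.hom] [QuasiCompact X.hom] [QuasiSeparated X.hom]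
    [QuasiCompact R.hom] (s t : R ⟶ X) (p : X ⟶ Y) (hfl : Flat p.left) (hsj : Surjective p.left)
    (hlfp : LocallyOfFinitePresentation p.left) (hpb : IsPullback s t p p) :
    LocallyOfFinitePresentation Y.hom ∧ QuasiCompact Y.hom ∧ QuasiSeparated Y.hom := by
  haveI := hfl; haveI := hsj; haveI := hlfp
  haveI : LocallyOfFinitePresentation (p.left ≫ Y.hom) := by rw [Over.w p]; infer_instance
  haveI : QuasiSeparated (p.left ≫ Y.hom) := by rw [Over.w p]; infer_instance
  haveI : CompactSpace X.left := QuasiCompact.compactSpace_of_compactSpace X.hom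
  haveI : CompactSpace Y.left :=
    Function.Surjective.compactSpace (f := p.left) p.left.continuous hsj.surj
  refine ⟨Groth.Agent.S0114.result p.left Y.hom, inferInstance, ?_⟩
  have hsch := hpb.map (Over.forget S)
  have hsch' : IsPullback s.left t.left p.left p.left := hsch
  haveI : QuasiCompact (pullback.fst p.left p.left ≫ p.left ≫ Y.hom) := by
    have e : pullback.fst p.left p.left ≫ p.left ≫ Y.hom = hsch'.isoPullback.inv ≫ R.hom := by
      rw [Iso.eq_inv_comp, reassoc_of% hsch'.isoPullback_hom_fst, Over.w p, Over.w s]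
    rw [e]
    infer_instance
  exact quasiSeparated_of_cover p.left Y.hom

theorem quotRep_descend (hc : IsLimit c) [∀ i, CompactSpace (D.obj i)]
    [∀ i, QuasiSeparatedSpace (D.obj i)] {j : I} {Rj Xj : Over (D.obj j)}
    [LocallyOfFinitePresentation Xj.hom] [QuasiCompact Xj.hom] [QuasiSeparated Xj.hom]
    [LocallyOfFinitePresentation Rj.hom] [QuasiCompact Rj.hom] [QuasiSeparated Rj.hom]
    (s t : Rj ⟶ Xj) [Mono (lift s t)] (hq : QuotRep (c.π.app j) s t) :
    ∃ (i : I) (f : i ⟶ j), QuotRep (D.map f) s t := by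
  obtain ⟨Y, p, hfl, hsj, hlfp, hpb⟩ := hq
  haveI : CompactSpace c.pt := LimConstr.compactSpace_pt D c hc j
  haveI : QuasiSeparatedSpace c.pt := LimConstr.quasiSeparatedSpace_pt D c hc j
  obtain ⟨hY1, hY2, hY3⟩ := fp_of_quot (S := c.pt) _ _ p hfl hsj hlfp hpb
  haveI := hY1; haveI := hY2; haveI := hY3
  -- descend `Y`
  obtain ⟨i₁, Y₁s, y₁, g, hlfp₁, hqc₁, hqs₁, hpbY⟩ := main591 hc Y.left Y.hom
  let Y₁ : Over (D.obj i₁) := Over.mk y₁
  haveI : LocallyOfFinitePresentation Y₁.hom := hlfp₁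
  haveI : QuasiCompact Y₁.hom := hqc₁
  haveI : QuasiSeparated Y₁.hom := hqs₁
  let eY : Y ≅ Red.bc (c.π.app i₁) Y₁ :=
    Over.isoMk hpbY.isoPullback (by exact hpbY.isoPullback_hom_snd)
  -- a common stage
  let i₂ := IsCofiltered.min j i₁
  let a : i₂ ⟶ j := IsCofiltered.minToLeft j i₁
  let b : i₂ ⟶ i₁ := IsCofiltered.minToRight j i₁
  let X₂ : Over (D.obj i₂) := Red.bc (D.map a) Xj
  let R₂ : Over (D.obj i₂) := Red.bc (D.map a) Rj
  let Y₂ : Over (D.obj i₂) := Red.bc (D.map b) Y₁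
  let s₂ : R₂ ⟶ X₂ := (Over.pullback (D.map a)).map s
  let t₂ : R₂ ⟶ X₂ := (Over.pullback (D.map a)).map t
  let βX := ActBC.bcCompIso (c.π.app i₂) (D.map a) Xj (c.w a)
  let βR := ActBC.bcCompIso (c.π.app i₂) (D.map a) Rj (c.w a)
  let βY := ActBC.bcCompIso (c.π.app i₂) (D.map b) Y₁ (c.w b)
  let u : Red.bc (c.π.app i₂) X₂ ⟶ Red.bc (c.π.app i₂) Y₂ := βX.hom ≫ p ≫ eY.hom ≫ βY.inv
  obtain ⟨i₃, f₃, u₃, hu₃⟩ := exists_map_eq_conj hc u
  let X₃ : Over (D.obj i₃) := Red.bc (D.map f₃) X₂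
  let R₃ : Over (D.obj i₃) := Red.bc (D.map f₃) R₂
  let Y₃ : Over (D.obj i₃) := Red.bc (D.map f₃) Y₂
  let s₃ : R₃ ⟶ X₃ := (Over.pullback (D.map f₃)).map s₂
  let t₃ : R₃ ⟶ X₃ := (Over.pullback (D.map f₃)).map t₂
  let γX := ActBC.bcCompIso (c.π.app i₃) (D.map f₃) X₂ (c.w f₃)
  let γR := ActBC.bcCompIso (c.π.app i₃) (D.map f₃) R₂ (c.w f₃)
  let γY := ActBC.bcCompIso (c.π.app i₃) (D.map f₃) Y₂ (c.w f₃)
  let εX : Red.bc (c.π.app i₃) X₃ ≅ Red.bc (c.π.app j) Xj := γX ≪≫ βX
  let εR : Red.bc (c.π.app i₃) R₃ ≅ Red.bc (c.π.app j) Rj := γR ≪≫ βR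
  let εY : Red.bc (c.π.app i₃) Y₃ ≅ Y := γY ≪≫ βY ≪≫ eY.symm
  have hp₃ : (Over.pullback (c.π.app i₃)).map u₃ = εX.hom ≫ p ≫ εY.inv := by
    rw [hu₃]
    simp only [u, εX, εY, Iso.trans_hom, Iso.trans_inv, Iso.symm_inv, Category.assoc]
    rfl
  have hs₃ : (Over.pullback (c.π.app i₃)).map s₃ =
      εR.hom ≫ (Over.pullback (c.π.app j)).map s ≫ εX.inv := by
    change (Over.pullback (c.π.app i₃)).map ((Over.pullback (D.map f₃)).map s₂) = _
    rw [map_map_eq_conj (c.π.app i₃) (D.map f₃) (c.w f₃) s₂]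
    change _ ≫ (Over.pullback (c.π.app i₂)).map ((Over.pullback (D.map a)).map s) ≫ _ = _
    rw [map_map_eq_conj (c.π.app i₂) (D.map a) (c.w a) s]
    simp only [εX, εR, Iso.trans_hom, Iso.trans_inv, Category.assoc]
    rfl
  have ht₃ : (Over.pullback (c.π.app i₃)).map t₃ =
      εR.hom ≫ (Over.pullback (c.π.app j)).map t ≫ εX.inv := by
    change (Over.pullback (c.π.app i₃)).map ((Over.pullback (D.map f₃)).map t₂) = _
    rw [map_map_eq_conj (c.π.app i₃) (D.map f₃) (c.w f₃) t₂]
    change _ ≫ (Over.pullback (c.π.app i₂)).map ((Over.pullback (D.map a)).map t) ≫ _ = _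
    rw [map_map_eq_conj (c.π.app i₂) (D.map a) (c.w a) t]
    simp only [εX, εR, Iso.trans_hom, Iso.trans_inv, Category.assoc]
    rfl
  have hfl₃ : Flat ((Over.pullback (c.π.app i₃)).map u₃).left := by
    rw [hp₃, Over.comp_left, Over.comp_left, MorphismProperty.cancel_left_of_respectsIso (P := @Flat),
      MorphismProperty.cancel_right_of_respectsIso (P := @Flat)]
    exact hfl
  have hsj₃ : Surjective ((Over.pullback (c.π.app i₃)).map u₃).left := by
    rw [hp₃, Over.comp_left, Over.comp_left,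
      MorphismProperty.cancel_left_of_respectsIso (P := @Surjective),
      MorphismProperty.cancel_right_of_respectsIso (P := @Surjective)]
    exact hsj
  have hpb₃ : IsPullback ((Over.pullback (c.π.app i₃)).map s₃) ((Over.pullback (c.π.app i₃)).map t₃)
      ((Over.pullback (c.π.app i₃)).map u₃) ((Over.pullback (c.π.app i₃)).map u₃) := by
    rw [hs₃, ht₃, hp₃]
    refine IsPullback.of_iso hpb εR.symm εX.symm εX.symm εY.symm ?_ ?_ ?_ ?_
    · simp
    · simp
    · simp
    · simp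
  haveI : Mono (lift s₂ t₂) := mono_lift_map (D.map a) s t
  haveI : Mono (lift s₃ t₃) := mono_lift_map (D.map f₃) s₂ t₂
  obtain ⟨i, f, hfl', hsj', hpb'⟩ := exists_quot_stage hc s₃ t₃ u₃ hfl₃ hsj₃ hpb₃
  -- back to a presentation over `bc (D.map _) Xj`
  haveI : LocallyOfFinitePresentation ((Over.pullback (D.map f)).map u₃).left := lfp_left _
  obtain ⟨Q, q', hq1, hq2, hq3, hq4⟩ : QuotRep (D.map (f ≫ f₃)) s₂ t₂ :=
    quotRep_of_conj (D.map f) (D.map f₃) (D.map_comp f f₃).symm s₂ t₂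
      ((Over.pullback (D.map f)).map u₃) hfl' hsj' inferInstance hpb'
  exact ⟨i, (f ≫ f₃) ≫ a, quotRep_of_conj (D.map (f ≫ f₃)) (D.map a)
    (D.map_comp (f ≫ f₃) a).symm s t q' hq1 hq2 hq3 hq4⟩

end lim

end Groth.Agent.Lib.OverLimH6
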