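import Mathlib
import Groth.Prelude.Def_ActBC
import Groth.Agent.Lib.OverLim18_helper6

/-!
# Quotients of group schemes by flat subgroups over a cofiltered limit: S6087 (helper6)
-/

set_option autoImplicit false
set_option linter.all false
set_option backward.isDefEq.respectTransparency false
universe u
open CategoryTheory CategoryTheory.Limits AlgebraicGeometry MonoidalCategory CartesianMonoidalCategory MonObj

namespace Groth.Agent.Lib.OverLimH6

section abstractQ
universe v₁ u₁ v₂ u₂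
variable {C : Type u₁} [Category.{v₁} C] [CartesianMonoidalCategory C] {N G : C} [GrpObj N] [GrpObj G]
  (v : N ⟶ G)

lemma whiskerLeft_comp_mul_eq_comL : (G ◁ v) ≫ μ[G] = comL v := by
  rw [comL, Hom.mul_def]
  congr 1
  apply CartesianMonoidalCategory.hom_ext <;> simp

instance mono_lift_comL [Mono v] : Mono (lift (comL v) (fst G N)) := by
  refine ⟨fun {T} a b hab => ?_⟩
  have h1 : a ≫ fst G N = b ≫ fst G N := by
    have := congrArg (· ≫ snd G G) hab
    simpa using this
  have h2 : a ≫ comL v = b ≫ comL v := by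
    have := congrArg (· ≫ fst G G) hab
    simpa using this
  have ha : a = lift (a ≫ fst G N) (a ≫ snd G N) := by
    apply CartesianMonoidalCategory.hom_ext <;> simp
  have hb : b = lift (b ≫ fst G N) (b ≫ snd G N) := by
    apply CartesianMonoidalCategory.hom_ext <;> simp
  rw [ha, hb, lift_comL, lift_comL, h1] at h2
  have h3 : (a ≫ snd G N) ≫ v = (b ≫ snd G N) ≫ v := mul_left_cancel h2
  have h4 : a ≫ snd G N = b ≫ snd G N := (cancel_mono v).mp h3
  apply CartesianMonoidalCategory.hom_ext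
  · exact h1
  · exact h4

lemma isPullback_iso_comp_iff {P P' X Y Z : C} (e : P' ≅ P) (a : P ⟶ X) (b : P ⟶ Y) (f : X ⟶ Z)
    (g : Y ⟶ Z) : IsPullback (e.hom ≫ a) (e.hom ≫ b) f g ↔ IsPullback a b f g := by
  constructor
  · intro h
    exact IsPullback.of_iso h e (Iso.refl _) (Iso.refl _) (Iso.refl _) (by simp) (by simp) (by simp)
      (by simp)
  · intro h
    exact IsPullback.of_iso h e.symm (Iso.refl _) (Iso.refl _) (Iso.refl _) (by simp) (by simp)
      (by simp) (by simp)

variable {D' : Type u₂} [Category.{v₂} D'] [CartesianMonoidalCategory D'] (F : C ⥤ D') [F.Monoidal]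

open scoped Obj
open Functor.LaxMonoidal Functor.Monoidal

lemma isPullback_grp_iff {Q : D'} (p : F.obj G ⟶ Q) :
    IsPullback ((F.obj G ◁ F.map v) ≫ μ[F.obj G]) (fst (F.obj G) (F.obj N)) p p ↔
      IsPullback (F.map (comL v)) (F.map (fst G N)) p p := by
  rw [← isPullback_iso_comp_iff (μIso F G N) (F.map (comL v)) (F.map (fst G N)) p p]
  have e1 : (μIso F G N).hom ≫ F.map (comL v) = (F.obj G ◁ F.map v) ≫ μ[F.obj G] := by
    rw [whiskerLeft_comp_mul_eq_comL]
    exact μ_map_comL v F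
  have e2 : (μIso F G N).hom ≫ F.map (fst G N) = fst (F.obj G) (F.obj N) := μ_fst F G N
  rw [e1, e2]

end abstractQ

section lim
variable {I : Type u} [SmallCategory I] [IsCofiltered I]

theorem main6087 (D : I ⥤ Scheme.{u}) (c : Limits.Cone D) (hc : Limits.IsLimit c)
    [∀ (i i' : I) (f : i ⟶ i'), IsAffineHom (D.map f)] [∀ i, CompactSpace (D.obj i)] [∀ i, QuasiSeparatedSpace (D.obj i)]
    (j : I) (Gj G'j : Over (D.obj j)) [GrpObj Gj] [GrpObj G'j]
    [LocallyOfFinitePresentation Gj.hom] [QuasiCompact Gj.hom] [QuasiSeparated Gj.hom]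
    [LocallyOfFinitePresentation G'j.hom] [QuasiCompact G'j.hom] [QuasiSeparated G'j.hom]
    (uj : G'j ⟶ Gj) [Mono uj] :
    (∃ (Q : Over c.pt) (p : (Red.bc (c.π.app j) Gj) ⟶ Q), Flat p.left ∧ Surjective p.left ∧ LocallyOfFinitePresentation p.left ∧
        IsPullback (((Red.bc (c.π.app j) Gj) ◁ ((Over.pullback (c.π.app j)).map uj)) ≫ μ[(Red.bc (c.π.app j) Gj)]) (fst (Red.bc (c.π.app j) Gj) (Red.bc (c.π.app j) G'j)) p p) ↔
    ∃ (i : I) (f : i ⟶ j), ∃ (Q : Over (D.obj i)) (p : (Red.bc (D.map f) Gj) ⟶ Q), Flat p.left ∧ Surjective p.left ∧ LocallyOfFinitePresentation p.left ∧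
        IsPullback (((Red.bc (D.map f) Gj) ◁ ((Over.pullback (D.map f)).map uj)) ≫ μ[(Red.bc (D.map f) Gj)]) (fst (Red.bc (D.map f) Gj) (Red.bc (D.map f) G'j)) p p := by
  have key : ∀ {S' : Scheme.{u}} (g : S' ⟶ D.obj j),
      (∃ (Q : Over S') (p : (Red.bc g Gj) ⟶ Q), Flat p.left ∧ Surjective p.left ∧
        LocallyOfFinitePresentation p.left ∧
        IsPullback (((Red.bc g Gj) ◁ ((Over.pullback g).map uj)) ≫ μ[(Red.bc g Gj)])
          (fst (Red.bc g Gj) (Red.bc g G'j)) p p) ↔
      QuotRep g (comL uj) (fst Gj G'j) := by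
    intro S' g
    constructor
    · rintro ⟨Q, p, h1, h2, h3, h4⟩
      exact ⟨Q, p, h1, h2, h3, (isPullback_grp_iff uj (Over.pullback g) p).mp h4⟩
    · rintro ⟨Q, p, h1, h2, h3, h4⟩
      exact ⟨Q, p, h1, h2, h3, (isPullback_grp_iff uj (Over.pullback g) p).mpr h4⟩
  constructor
  · intro h
    obtain ⟨i, f, hq⟩ := quotRep_descend hc (comL uj) (fst Gj G'j) ((key (c.π.app j)).mp h)
    exact ⟨i, f, (key (D.map f)).mpr hq⟩
  · rintro ⟨i, f, h⟩
    exact (key (c.π.app j)).mpr
      (quotRep_up (c.π.app i) (D.map f) (c.w f) _ _ ((key (D.map f)).mp h))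

end lim

end Groth.Agent.Lib.OverLimH6
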