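import Mathlib
import Groth.Prelude.Def_ActBC
import Groth.Agent.Lib.OverLim19_helper6
import Groth.Agent.Lib.LimIdealFG_helper7

/-!
# Closed subgroup schemes over a cofiltered limit spread out (helper6)
-/

set_option autoImplicit false
set_option linter.all false
set_option backward.isDefEq.respectTransparency false
universe u
open CategoryTheory CategoryTheory.Limits AlgebraicGeometry MonoidalCategory CartesianMonoidalCategory MonObj

namespace Groth.Agent.Lib.OverLimH6

section lim
variable {I : Type u} [SmallCategory I] [IsCofiltered I] {D : I ⥤ Scheme.{u}} {c : Cone D}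
  [∀ (i i' : I) (f : i ⟶ i'), IsAffineHom (D.map f)]

open Groth.Agent.Lib.LimDescFPH7 Groth.Agent.Lib.LimBaseChangeH7

/-- A finitely presented closed subscheme of the limit of a base change descends to a stage. -/
theorem exists_closedSub_stage (hc : IsLimit c) (j₀ : I) [CompactSpace (D.obj j₀)]
    [QuasiSeparatedSpace (D.obj j₀)]
    (G₀ : Over (D.obj j₀)) [QuasiCompact G₀.hom] [QuasiSeparated G₀.hom]
    (H : Over c.pt) (i : H ⟶ Red.bc (c.π.app j₀) G₀) [IsClosedImmersion i.left]
    [LocallyOfFinitePresentation i.left] :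
    ∃ (k : I) (a : k ⟶ j₀) (Hk : Over (D.obj k)) (jk : Hk ⟶ Red.bc (D.map a) G₀)
      (θ : H ≅ Red.bc (c.π.app k) Hk), IsClosedImmersion jk.left ∧
      LocallyOfFinitePresentation jk.left ∧
      θ.hom ≫ (Over.pullback (c.π.app k)).map jk ≫
        (ActBC.bcCompIso (c.π.app k) (D.map a) G₀ (c.w a)).hom = i := by
  haveI : CompactSpace G₀.left := QuasiCompact.compactSpace_of_compactSpace G₀.hom
  haveI : QuasiSeparatedSpace G₀.left := quasiSeparatedSpace_of_quasiSeparated G₀.hom
  have hX := IsPullback.of_hasPullback G₀.hom (c.π.app j₀)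
  have hcX := isLimitBcCone c hX hc
  let i' : H.left ⟶ (bcCone c hX).pt := i.left
  haveI : IsClosedImmersion i' := ‹IsClosedImmersion i.left›
  haveI : LocallyOfFinitePresentation i' := ‹LocallyOfFinitePresentation i.left›
  obtain ⟨j, -, Xj, fj, q, hlfp, -, -, hcl, hpb⟩ :=
    exists_descend_with descendsProp_isClosedImmersion (bcDiagram D j₀ G₀.hom) (bcCone c hX) hcX
      (Over.mk (𝟙 j₀)) i' (inferInstance : IsClosedImmersion i')
  let Hk : Over (D.obj j.left) := Over.mk (fj ≫ pullback.snd G₀.hom (D.map j.hom))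
  let jk : Hk ⟶ Red.bc (D.map j.hom) G₀ := Over.homMk fj rfl
  have hpb2 : IsPullback q H.hom Hk.hom (c.π.app j.left) := by
    have h2 := isPullback_bcCone_π c hX j
    have h3 := hpb.paste_vert h2
    have e : i' ≫ pullback.snd G₀.hom (c.π.app j₀) = H.hom := Over.w i
    rw [e] at h3
    exact h3
  let θ : H ≅ Red.bc (c.π.app j.left) Hk :=
    Over.isoMk hpb2.isoPullback (by exact hpb2.isoPullback_hom_snd)
  refine ⟨j.left, j.hom, Hk, jk, θ, hcl, hlfp, ?_⟩
  ext
  apply pullback.hom_ext
  · simp only [Over.comp_left, Category.assoc, ActBC.bcCompIso_hom_left_fst]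
    rw [pb_map_left_fst_assoc]
    have h1 : θ.hom.left ≫ pullback.fst Hk.hom (c.π.app j.left) = q := hpb2.isoPullback_hom_fst
    rw [reassoc_of% h1]
    have h2 : q ≫ jk.left = i' ≫ (bcCone c hX).π.app j := hpb.w
    rw [reassoc_of% h2, bcCone_π_fst]
  · exact (Over.w _).trans (Over.w i).symm

instance bc_isSeparated {S S' : Scheme.{u}} (g : S' ⟶ S) (X : Over S) [IsSeparated X.hom] :
    IsSeparated (Red.bc g X).hom := by
  change IsSeparated (pullback.snd X.hom g); infer_instance

/-- A finitely presented closed subgroup scheme of the limit of a base change descends to a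
stage, as a closed subgroup scheme. -/
theorem exists_closedSubgroup_stage (hc : IsLimit c) (j₀ : I) [CompactSpace (D.obj j₀)]
    [QuasiSeparatedSpace (D.obj j₀)]
    (G₀ : Over (D.obj j₀)) [GrpObj G₀] [IsSeparated G₀.hom] [QuasiCompact G₀.hom]
    [LocallyOfFinitePresentation G₀.hom]
    (H : Over c.pt) [GrpObj H] (i : H ⟶ Red.bc (c.π.app j₀) G₀) [IsMonHom i]
    [IsClosedImmersion i.left] [LocallyOfFinitePresentation i.left] :
    ∃ (k : I) (a : k ⟶ j₀) (Hk : Over (D.obj k)) (_ : GrpObj Hk)
      (jk : Hk ⟶ Red.bc (D.map a) G₀) (θ : H ≅ Red.bc (c.π.app k) Hk),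
      IsMonHom jk ∧ IsClosedImmersion jk.left ∧
      θ.hom ≫ (Over.pullback (c.π.app k)).map jk ≫
        (ActBC.bcCompIso (c.π.app k) (D.map a) G₀ (c.w a)).hom = i := by
  obtain ⟨k, a, Hk, jk, θ, hcl, hlfp, hcomm⟩ := exists_closedSub_stage hc j₀ G₀ H i
  haveI := hcl
  haveI := hlfp
  haveI : CompactSpace (D.obj k) := QuasiCompact.compactSpace_of_compactSpace (D.map a)
  haveI : QuasiSeparatedSpace (D.obj k) := quasiSeparatedSpace_of_quasiSeparated (D.map a)
  let β := ActBC.bcCompIso (c.π.app k) (D.map a) G₀ (c.w a)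
  have hH : ∃ _ : GrpObj (Red.bc (c.π.app k) Hk),
      IsMonHom ((Over.pullback (c.π.app k)).map jk) := by
    letI inst : GrpObj (Red.bc (c.π.app k) Hk) := GrpObj.ofIso θ
    haveI hθ : IsMonHom θ.hom := isMonHom_ofIso θ
    refine ⟨inst, ?_⟩
    have e : (Over.pullback (c.π.app k)).map jk = θ.inv ≫ i ≫ β.inv := by
      rw [← hcomm]
      simp [β]
    rw [e]
    infer_instance
  obtain ⟨⟨k', a', inst', hmon'⟩, -⟩ := main18878 D c hc k (Red.bc (D.map a) G₀) Hk jk hH
  let gam := ActBC.bcCompIso (D.map a') (D.map a) G₀ (D.map_comp a' a).symm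
  let δH := ActBC.bcCompIso (c.π.app k') (D.map a') Hk (c.w a')
  refine ⟨k', a' ≫ a, Red.bc (D.map a') Hk, inst', (Over.pullback (D.map a')).map jk ≫ gam.hom,
    θ ≪≫ δH.symm, ?_, ?_, ?_⟩
  · haveI := hmon'
    infer_instance
  · rw [Over.comp_left]
    haveI : IsClosedImmersion ((Over.pullback (D.map a')).map jk).left :=
      MorphismProperty.overPullbackMap (P := @IsClosedImmersion) (D.map a') jk hcl
    infer_instance
  · have hC := bcCompIso_assoc (c.π.app k') (D.map a') (D.map a) (D.map_comp a' a).symm (c.w a')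
      (c.w (a' ≫ a)) (c.w a) G₀
    have hN := ActBC.bcCompIso_hom_naturality (c.π.app k') (D.map a') (c.w a') jk
    simp only [Iso.trans_hom, Iso.symm_hom, Functor.map_comp, Category.assoc]
    rw [hC, reassoc_of% hN, Iso.inv_hom_id_assoc]
    exact hcomm

end lim

end Groth.Agent.Lib.OverLimH6
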