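import Mathlib
import Groth.Prelude.Def_ActBC
import Groth.Agent.Lib.ClSubgrpLim1_helper6

/-!
# Closed subgroup schemes of the generic fibre spread out: S18029 (helper6)
-/

set_option autoImplicit false
set_option linter.all false
set_option backward.isDefEq.respectTransparency false
universe u
open CategoryTheory CategoryTheory.Limits AlgebraicGeometry MonoidalCategory CartesianMonoidalCategory MonObj

namespace Groth.Agent.Lib.OverLimH6

section transport

/-- Transport of a closed subgroup scheme over the source of an open immersion `io : V ⟶ X` to one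
over the open subscheme `io.opensRange`. -/
theorem transport_open {X S V : Scheme.{u}} (G : Over X) [GrpObj G] (et : S ⟶ X) (Hη : Over S)
    (i : Hη ⟶ Red.bc et G) (io : V ⟶ X) [IsOpenImmersion io] (v : S ⟶ V) (hv : v ≫ io = et)
    (HV : Over V) [GrpObj HV] (jV : HV ⟶ Red.bc io G) [IsMonHom jV] [IsClosedImmersion jV.left]
    (φV : Hη.left ⟶ HV.left) (hpb : IsPullback φV Hη.hom HV.hom v)
    (hφ : φV ≫ jV.left ≫ pullback.fst G.hom io = i.left ≫ pullback.fst G.hom et) :
    ∃ (U : X.Opens) (ηU : S ⟶ (U : Scheme.{u})) (HU : Over (U : Scheme.{u}))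
      (_ : GrpObj HU) (j : HU ⟶ Red.bc U.ι G) (φ : Hη.left ⟶ HU.left),
      ηU ≫ U.ι = et ∧ IsMonHom j ∧ IsClosedImmersion j.left ∧
      IsPullback φ Hη.hom HU.hom ηU ∧
      φ ≫ j.left ≫ pullback.fst G.hom U.ι = i.left ≫ pullback.fst G.hom et := by
  let U : X.Opens := io.opensRange
  let e : V ≅ (U : Scheme.{u}) := io.isoOpensRange
  have he1 : e.hom ≫ U.ι = io := io.isoOpensRange_hom_ι
  have he2 : e.inv ≫ io = U.ι := io.isoOpensRange_inv_comp
  let β := ActBC.bcCompIso e.inv io G he2
  let φ : Hη.left ⟶ (Red.bc e.inv HV).left :=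
    pullback.lift φV (Hη.hom ≫ v ≫ e.hom) (by rw [hpb.w]; simp)
  have hφ1 : φ ≫ pullback.fst HV.hom e.inv = φV := pullback.lift_fst _ _ _
  have hφ2 : φ ≫ pullback.snd HV.hom e.inv = Hη.hom ≫ v ≫ e.hom := pullback.lift_snd _ _ _
  refine ⟨U, v ≫ e.hom, Red.bc e.inv HV, inferInstance, (Over.pullback e.inv).map jV ≫ β.hom, φ,
    ?_, inferInstance, ?_, ?_, ?_⟩
  · rw [Category.assoc, he1, hv]
  · rw [Over.comp_left]
    haveI : IsClosedImmersion ((Over.pullback e.inv).map jV).left :=
      MorphismProperty.overPullbackMap (P := @IsClosedImmersion) e.inv jV inferInstance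
    infer_instance
  · refine IsPullback.of_right ?_ (hφ2.trans (Category.assoc _ _ _).symm)
      (IsPullback.of_hasPullback HV.hom e.inv)
    rw [hφ1]
    have : (v ≫ e.hom) ≫ e.inv = v := by simp
    rw [this]
    exact hpb
  · simp only [Over.comp_left, Category.assoc]
    have h1 : β.hom.left ≫ pullback.fst G.hom U.ι = pullback.fst _ e.inv ≫ pullback.fst G.hom io :=
      ActBC.bcCompIso_hom_left_fst e.inv io G he2
    rw [h1, pb_map_left_fst_assoc, reassoc_of% hφ1, hφ]

end transport

section lfp

/-- A closed immersion into a scheme locally of finite type over a Noetherian base is locally of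
finite presentation. -/
theorem lfp_of_closedImmersion_of_lft {Z Y S : Scheme.{u}} [IsLocallyNoetherian S] (f : Z ⟶ Y)
    [IsClosedImmersion f] (g : Y ⟶ S) [LocallyOfFiniteType g] :
    LocallyOfFinitePresentation f := by
  haveI : IsLocallyNoetherian Y := LocallyOfFiniteType.isLocallyNoetherian g
  rw [HasRingHomProperty.iff_appLE (P := @LocallyOfFinitePresentation)]
  intro U V e
  have h1 := HasRingHomProperty.appLE (P := @LocallyOfFiniteType) f inferInstance U V e
  haveI : IsNoetherianRing Γ(Y, U.1) := IsLocallyNoetherian.component_noetherian U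
  exact RingHom.FinitePresentation.of_finiteType.1 h1

end lfp

end Groth.Agent.Lib.OverLimH6
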