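import Mathlib
import Groth.Prelude.Def_ActBC
import Groth.Agent.Lib.ClSubgrpLim2_helper6

/-!
# Closed subgroup schemes of the generic fibre spread out: S18029 (helper6)

Abstract form: spreading out along a cofiltered system of open subschemes.
-/

set_option autoImplicit false
set_option linter.all false
set_option backward.isDefEq.respectTransparency false
universe u
open CategoryTheory CategoryTheory.Limits AlgebraicGeometry MonoidalCategory CartesianMonoidalCategory MonObj

namespace Groth.Agent.Lib.OverLimH6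

section abs
variable {I : Type u} [SmallCategory I] [IsCofiltered I] {D : I ⥤ Scheme.{u}} {c : Cone D}
  [∀ (i i' : I) (f : i ⟶ i'), IsAffineHom (D.map f)]

/-- Spreading out of a finitely presented closed subgroup scheme over the limit of a cofiltered
system of (quasi-compact quasi-separated) schemes openly immersed in `X`. -/
theorem spread_out_lim (hc : IsLimit c) [∀ k, CompactSpace (D.obj k)]
    [∀ k, QuasiSeparatedSpace (D.obj k)] {X : Scheme.{u}} (io : ∀ k : I, D.obj k ⟶ X)
    [∀ k, IsOpenImmersion (io k)]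
    (hion : ∀ {k k' : I} (a : k ⟶ k'), D.map a ≫ io k' = io k) (j₀ : I)
    (G : Over X) [GrpObj G] [IsSeparated G.hom] [QuasiCompact G.hom]
    [LocallyOfFinitePresentation G.hom]
    (et : c.pt ⟶ X) (hio : ∀ k, c.π.app k ≫ io k = et)
    (H : Over c.pt) [GrpObj H] (i : H ⟶ Red.bc et G) [IsMonHom i]
    [IsClosedImmersion i.left] [LocallyOfFinitePresentation i.left] :
    ∃ (U : X.Opens) (ηU : c.pt ⟶ (U : Scheme.{u}))
      (HU : Over (U : Scheme.{u})) (_ : GrpObj HU) (j : HU ⟶ Red.bc U.ι G)
      (φ : H.left ⟶ HU.left),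
      ηU ≫ U.ι = et ∧ IsMonHom j ∧ IsClosedImmersion j.left ∧
      IsPullback φ H.hom HU.hom ηU ∧
      φ ≫ j.left ≫ pullback.fst G.hom U.ι = i.left ≫ pullback.fst G.hom et := by
  classical
  let G₀ : Over (D.obj j₀) := Red.bc (io j₀) G
  let β₀ := ActBC.bcCompIso (c.π.app j₀) (io j₀) G (hio j₀)
  haveI : IsClosedImmersion (i ≫ β₀.inv).left := by
    change IsClosedImmersion (i.left ≫ β₀.inv.left); infer_instance
  haveI : LocallyOfFinitePresentation (i ≫ β₀.inv).left := by
    change LocallyOfFinitePresentation (i.left ≫ β₀.inv.left); infer_instance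
  obtain ⟨k, a, Hk, instHk, jk, θ, hmon, hcl, hcomm⟩ :=
    exists_closedSubgroup_stage hc j₀ G₀ H (i ≫ β₀.inv)
  haveI := hmon
  haveI := hcl
  have hak : D.map a ≫ io j₀ = io k := hion a
  let gam := ActBC.bcCompIso (D.map a) (io j₀) G hak
  let jV : Hk ⟶ Red.bc (io k) G := jk ≫ gam.hom
  let φV : H.left ⟶ Hk.left := θ.hom.left ≫ pullback.fst Hk.hom (c.π.app k)
  have hpb : IsPullback φV H.hom Hk.hom (c.π.app k) := by
    refine IsPullback.of_iso_pullback ⟨?_⟩ ((Over.forget _).mapIso θ) rfl (Over.w θ.hom)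
    have h1 : θ.hom.left ≫ pullback.snd Hk.hom (c.π.app k) = H.hom := Over.w θ.hom
    rw [← h1]
    simp only [φV, Category.assoc]
    rw [pullback.condition]
  haveI : IsClosedImmersion jV.left := by
    change IsClosedImmersion (jk.left ≫ gam.hom.left); infer_instance
  refine transport_open G et H i (io k) (c.π.app k) (hio k) Hk jV φV hpb ?_
  have h2 := congrArg (fun t => t.left ≫ pullback.fst G₀.hom (c.π.app j₀) ≫
    pullback.fst G.hom (io j₀)) hcomm
  simp only [Over.comp_left, Category.assoc] at h2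
  rw [ActBC.bcCompIso_hom_left_fst_assoc, pb_map_left_fst_assoc] at h2
  have h3 : β₀.inv.left ≫ pullback.fst G₀.hom (c.π.app j₀) ≫
      pullback.fst G.hom (io j₀) = pullback.fst G.hom et := by
    have := ActBC.bcCompIso_hom_left_fst (c.π.app j₀) (io j₀) G (hio j₀)
    rw [← this, ← Over.comp_left_assoc, Iso.inv_hom_id, Over.id_left, Category.id_comp]
  rw [h3] at h2
  rw [← h2]
  simp only [φV, jV, Over.comp_left, Category.assoc]
  rw [ActBC.bcCompIso_hom_left_fst]

end abs

end Groth.Agent.Lib.OverLimH6
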