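import Mathlib
import Groth.Prelude.Def_ActBC
import Groth.Agent.Lib.ClSubgrpLim3_helper6
import Groth.Agent.Lib.LocAwayLim2_helper7

/-!
# Closed subgroup schemes of the generic fibre spread out: S18029 (helper6)
-/

set_option autoImplicit false
set_option linter.all false
set_option backward.isDefEq.respectTransparency false
universe u
open CategoryTheory CategoryTheory.Limits AlgebraicGeometry MonoidalCategory CartesianMonoidalCategory MonObj

namespace Groth.Agent.Lib.OverLimH6

section loc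
open Groth.Agent.Lib.LocAwayLimH7

/-- Spreading out of a finitely presented closed subgroup scheme from `Spec L`, `L` a localization
of `A` at a prime, to a basic open neighbourhood, for an open immersion `Spec A ⟶ X`. -/
theorem spread_out_loc (A : Type u) [CommRing A] (p : Ideal A) [p.IsPrime] (L : Type u) [CommRing L]
    [Algebra A L] [IsLocalization.AtPrime L p] {X : Scheme.{u}}
    (σ : Spec (CommRingCat.of A) ⟶ X) [IsOpenImmersion σ]
    (G : Over X) [GrpObj G] [IsAffineHom G.hom] [LocallyOfFinitePresentation G.hom]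
    (et : Spec (CommRingCat.of L) ⟶ X)
    (het : Spec.map (CommRingCat.ofHom (algebraMap A L)) ≫ σ = et)
    (H : Over (Spec (CommRingCat.of L))) [GrpObj H] (i : H ⟶ Red.bc et G) [IsMonHom i]
    [IsClosedImmersion i.left] [LocallyOfFinitePresentation i.left] :
    ∃ (U : X.Opens) (ηU : Spec (CommRingCat.of L) ⟶ (U : Scheme.{u}))
      (HU : Over (U : Scheme.{u})) (_ : GrpObj HU) (j : HU ⟶ Red.bc U.ι G)
      (φ : H.left ⟶ HU.left),
      ηU ≫ U.ι = et ∧ IsMonHom j ∧ IsClosedImmersion j.left ∧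
      IsPullback φ H.hom HU.hom ηU ∧
      φ ≫ j.left ≫ pullback.fst G.hom U.ι = i.left ≫ pullback.fst G.hom et := by
  classical
  have hc : IsLimit (coneSL A p L) := isLimitConeSL A p L
  let j₀ : (Idx A p)ᵒᵖ := Opposite.op (one A p)
  let tb : ∀ k : (Idx A p)ᵒᵖ, (DS A p).obj k ⟶ Spec (CommRingCat.of A) := fun k => (toBase A p).app k
  have htb : ∀ k, (coneSL A p L).π.app k ≫ tb k =
      Spec.map (CommRingCat.ofHom (algebraMap A L)) := fun k => coneSL_π_toBase A p L k
  have htbn : ∀ {k k' : (Idx A p)ᵒᵖ} (a : k ⟶ k'), (DS A p).map a ≫ tb k' = tb k := by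
    intro k k' a
    have := (toBase A p).naturality a
    exact this.trans (Category.comp_id _)
  haveI : ∀ k, IsOpenImmersion (tb k) := by
    intro k
    change IsOpenImmersion (Spec.map (CommRingCat.ofHom
      (algebraMap A (Localization.Away k.unop.val))))
    infer_instance
  let io : ∀ k : (Idx A p)ᵒᵖ, (DS A p).obj k ⟶ X := fun k => tb k ≫ σ
  haveI : ∀ k, IsOpenImmersion (io k) := fun k => inferInstance
  have hion : ∀ {k k' : (Idx A p)ᵒᵖ} (a : k ⟶ k'), (DS A p).map a ≫ io k' = io k := by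
    intro k k' a
    exact (Category.assoc _ _ _).symm.trans (congrArg (· ≫ σ) (htbn a))
  have hio : ∀ k, (coneSL A p L).π.app k ≫ io k = et := by
    intro k
    rw [← het]
    exact (Category.assoc _ _ _).symm.trans (congrArg (· ≫ σ) (htb k))
  haveI : IsSeparated G.hom := inferInstance
  haveI : QuasiCompact G.hom := inferInstance
  exact spread_out_lim (D := DS A p) (c := coneSL A p L) hc io hion j₀ G et hio H i

/-- Spreading out of a finitely presented closed subgroup scheme of `G ×_X Spec 𝒪_{X,x}` to an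
open neighbourhood of `x`. -/
theorem spread_out_stalk {X : Scheme.{u}} (x : X) (G : Over X) [GrpObj G] [IsAffineHom G.hom]
    [LocallyOfFinitePresentation G.hom]
    (Hx : Over (Spec (X.presheaf.stalk x))) [GrpObj Hx]
    (i : Hx ⟶ Red.bc (X.fromSpecStalk x) G) [IsMonHom i] [IsClosedImmersion i.left]
    [LocallyOfFinitePresentation i.left] :
    ∃ (U : X.Opens) (ηU : Spec (X.presheaf.stalk x) ⟶ (U : Scheme.{u}))
      (HU : Over (U : Scheme.{u})) (_ : GrpObj HU) (j : HU ⟶ Red.bc U.ι G)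
      (φ : Hx.left ⟶ HU.left),
      ηU ≫ U.ι = X.fromSpecStalk x ∧ IsMonHom j ∧ IsClosedImmersion j.left ∧
      IsPullback φ Hx.hom HU.hom ηU ∧
      φ ≫ j.left ≫ pullback.fst G.hom U.ι =
        i.left ≫ pullback.fst G.hom (X.fromSpecStalk x) := by
  obtain ⟨_, ⟨W₀, hW₀, rfl⟩, hxW₀, -⟩ := X.isBasis_affineOpens.exists_subset_of_mem_open
    (Set.mem_univ x) isOpen_univ
  letI : Algebra ↑Γ(X, W₀) ↑(X.presheaf.stalk x) :=
    TopCat.Presheaf.algebra_section_stalk X.presheaf ⟨x, hxW₀⟩
  haveI : IsLocalization.AtPrime ↑(X.presheaf.stalk x) (hW₀.primeIdealOf ⟨x, hxW₀⟩).asIdeal :=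
    hW₀.isLocalization_stalk ⟨x, hxW₀⟩
  have hσeq : Spec.map (CommRingCat.ofHom (algebraMap ↑Γ(X, W₀) ↑(X.presheaf.stalk x))) ≫
      hW₀.fromSpec = X.fromSpecStalk x := hW₀.fromSpecStalk_eq_fromSpecStalk hxW₀
  exact spread_out_loc ↑Γ(X, W₀) (hW₀.primeIdealOf ⟨x, hxW₀⟩).asIdeal ↑(X.presheaf.stalk x)
    hW₀.fromSpec G (X.fromSpecStalk x) hσeq Hx i

end loc

end Groth.Agent.Lib.OverLimH6
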