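import Mathlib
import Groth.Prelude.Def_QuadGrp

/-!
# The Clifford algebra of the split form `x₀² + x₁x₂` on `k³` (helper1)

Explicit computations: the even part is spanned by `1, e₀e₁, e₀e₂, e₁e₂`, it carries a scalar-valued
trace `x + reverse x`, the element `z = e₀ − 2 e₀e₁e₂` is central of square one, and `z · ι(M)` is the
trace-zero part of the even algebra.  Consequently every even unit normalises `ι(M)`.
-/

namespace Groth.Agent.Lib.Cliff3H1

open CliffordAlgebra

universe u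

section Abstract

variable {C : Type*} [Ring C] {e0 e1 e2 : C}

/-- the defining relations of the Clifford algebra of `x₀² + x₁x₂` -/
structure Rel3 (e0 e1 e2 : C) : Prop where
  h00 : e0 * e0 = 1
  h11 : e1 * e1 = 0
  h22 : e2 * e2 = 0
  h10 : e1 * e0 = -(e0 * e1)
  h20 : e2 * e0 = -(e0 * e2)
  h21 : e2 * e1 = 1 - e1 * e2

/-- the central odd element `e₀ − 2 e₀e₁e₂` -/
def zz (e0 e1 e2 : C) : C := e0 - (e0 * (e1 * e2) + e0 * (e1 * e2))

namespace Rel3

variable (h : Rel3 e0 e1 e2)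
include h

theorem h00' (x : C) : e0 * (e0 * x) = x := by rw [← mul_assoc, h.h00, one_mul]
theorem h11' (x : C) : e1 * (e1 * x) = 0 := by rw [← mul_assoc, h.h11, zero_mul]
theorem h22' (x : C) : e2 * (e2 * x) = 0 := by rw [← mul_assoc, h.h22, zero_mul]
theorem h10' (x : C) : e1 * (e0 * x) = -(e0 * (e1 * x)) := by
  rw [← mul_assoc, h.h10, neg_mul, mul_assoc]
theorem h20' (x : C) : e2 * (e0 * x) = -(e0 * (e2 * x)) := by
  rw [← mul_assoc, h.h20, neg_mul, mul_assoc]
theorem h21' (x : C) : e2 * (e1 * x) = x - e1 * (e2 * x) := by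
  rw [← mul_assoc, h.h21, sub_mul, one_mul, mul_assoc]

set_option hygiene false in
/-- normalise words in `e₀, e₁, e₂` -/
local macro "cliff3" : tactic => `(tactic| (
  simp only [zz, mul_assoc, mul_add, add_mul, mul_sub, sub_mul, mul_neg, neg_mul, neg_neg, mul_one,
    one_mul, mul_zero, zero_mul, neg_zero, sub_zero, zero_sub, add_zero, zero_add, sub_self,
    h.h00, h.h11, h.h22, h.h10, h.h20, h.h21, h.h00', h.h11', h.h22', h.h10', h.h20', h.h21']
  try abel))

theorem pp : (e0 * e1) * (e0 * e1) = 0 := by cliff3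
theorem pq : (e0 * e1) * (e0 * e2) = -(e1 * e2) := by cliff3
theorem pr : (e0 * e1) * (e1 * e2) = 0 := by cliff3
theorem qp : (e0 * e2) * (e0 * e1) = e1 * e2 - 1 := by cliff3
theorem qq : (e0 * e2) * (e0 * e2) = 0 := by cliff3
theorem qr : (e0 * e2) * (e1 * e2) = e0 * e2 := by cliff3
theorem rp : (e1 * e2) * (e0 * e1) = e0 * e1 := by cliff3
theorem rq : (e1 * e2) * (e0 * e2) = 0 := by cliff3
theorem rr : (e1 * e2) * (e1 * e2) = e1 * e2 := by cliff3

theorem z_e0 : zz e0 e1 e2 * e0 = 1 - (e1 * e2 + e1 * e2) := by cliff3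
theorem e0_z : e0 * zz e0 e1 e2 = 1 - (e1 * e2 + e1 * e2) := by cliff3
theorem z_e1 : zz e0 e1 e2 * e1 = -(e0 * e1) := by cliff3
theorem e1_z : e1 * zz e0 e1 e2 = -(e0 * e1) := by cliff3
theorem z_e2 : zz e0 e1 e2 * e2 = e0 * e2 := by cliff3
theorem e2_z : e2 * zz e0 e1 e2 = e0 * e2 := by cliff3
theorem z_z : zz e0 e1 e2 * zz e0 e1 e2 = 1 := by cliff3

end Rel3

end Abstract

section Cliff

variable (k : Type u) [Field k]

theorem splitForm3_apply (x : Fin 3 → k) :
    QuadGrp.splitForm k 3 x = x 1 * x 2 + x 0 * x 0 := by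
  unfold QuadGrp.splitForm
  rw [dif_pos (by norm_num : 3 % 2 = 1)]
  simp only [QuadraticMap.add_apply, QuadraticMap.sum_apply, QuadraticMap.linMulLin_apply,
    LinearMap.proj_apply, QuadraticMap.comp_apply, QuadraticMap.sq_apply]
  rw [Fintype.sum_eq_single (⟨0, by omega⟩ : Fin (3 / 2))]
  · rfl
  · intro j hj
    exact absurd (Fin.ext (by have := j.2; simp only []; omega)) hj

/-- the Clifford algebra of the split form on `k³` -/
abbrev C3 := CliffordAlgebra (QuadGrp.splitForm k 3)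

/-- the standard generators -/
noncomputable def ee (i : Fin 3) : C3 k := ι (QuadGrp.splitForm k 3) (Pi.single i 1)

theorem rel3 : Rel3 (ee k 0) (ee k 1) (ee k 2) := by
  refine ⟨?_, ?_, ?_, ?_, ?_, ?_⟩
  · rw [ee, ι_sq_scalar, splitForm3_apply]; simp [Pi.single_apply]
  · rw [ee, ι_sq_scalar, splitForm3_apply]; simp [Pi.single_apply]
  · rw [ee, ι_sq_scalar, splitForm3_apply]; simp [Pi.single_apply]
  · have := ι_mul_ι_add_swap (Q := QuadGrp.splitForm k 3) (Pi.single 1 1) (Pi.single 0 1)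
    rw [show QuadraticMap.polar (QuadGrp.splitForm k 3) (Pi.single 1 1) (Pi.single 0 1) = 0 from by
      simp [QuadraticMap.polar, splitForm3_apply, Pi.single_apply], map_zero] at this
    exact eq_neg_of_add_eq_zero_left this
  · have := ι_mul_ι_add_swap (Q := QuadGrp.splitForm k 3) (Pi.single 2 1) (Pi.single 0 1)
    rw [show QuadraticMap.polar (QuadGrp.splitForm k 3) (Pi.single 2 1) (Pi.single 0 1) = 0 from by
      simp [QuadraticMap.polar, splitForm3_apply, Pi.single_apply], map_zero] at this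
    exact eq_neg_of_add_eq_zero_left this
  · have := ι_mul_ι_add_swap (Q := QuadGrp.splitForm k 3) (Pi.single 2 1) (Pi.single 1 1)
    rw [show QuadraticMap.polar (QuadGrp.splitForm k 3) (Pi.single 2 1) (Pi.single 1 1) = 1 from by
      simp [QuadraticMap.polar, splitForm3_apply, Pi.single_apply], map_one] at this
    exact eq_sub_of_add_eq this

theorem ι_eq_sum (v : Fin 3 → k) :
    ι (QuadGrp.splitForm k 3) v = ∑ i, v i • ee k i := by
  conv_lhs => rw [pi_eq_sum_univ' v]
  simp only [map_sum, map_smul, ee]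

theorem ι_eq (v : Fin 3 → k) :
    ι (QuadGrp.splitForm k 3) v = v 0 • ee k 0 + v 1 • ee k 1 + v 2 • ee k 2 := by
  rw [ι_eq_sum, Fin.sum_univ_three]

/-- the spanning set of the even part -/
noncomputable def SS : Set (C3 k) := {1, ee k 0 * ee k 1, ee k 0 * ee k 2, ee k 1 * ee k 2}

/-- the span of `1, e₀e₁, e₀e₂, e₁e₂` -/
noncomputable def E : Submodule k (C3 k) := Submodule.span k (SS k)

theorem one_mem_E : (1 : C3 k) ∈ E k := Submodule.subset_span (by simp [SS])
theorem p_mem_E : ee k 0 * ee k 1 ∈ E k := Submodule.subset_span (by simp [SS])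
theorem q_mem_E : ee k 0 * ee k 2 ∈ E k := Submodule.subset_span (by simp [SS])
theorem r_mem_E : ee k 1 * ee k 2 ∈ E k := Submodule.subset_span (by simp [SS])

theorem E_mul {x y : C3 k} (hx : x ∈ E k) (hy : y ∈ E k) : x * y ∈ E k := by
  have h := rel3 k
  have h1 := one_mem_E k
  have hp := p_mem_E k
  have hq := q_mem_E k
  have hr := r_mem_E k
  have key : ∀ s ∈ SS k, ∀ t ∈ SS k, s * t ∈ E k := by
    rintro s (rfl | rfl | rfl | rfl) t (rfl | rfl | rfl | rfl)
    · rw [one_mul]; exact h1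
    · rw [one_mul]; exact hp
    · rw [one_mul]; exact hq
    · rw [one_mul]; exact hr
    · rw [mul_one]; exact hp
    · rw [h.pp]; exact zero_mem _
    · rw [h.pq]; exact neg_mem hr
    · rw [h.pr]; exact zero_mem _
    · rw [mul_one]; exact hq
    · rw [h.qp]; exact sub_mem hr h1
    · rw [h.qq]; exact zero_mem _
    · rw [h.qr]; exact hq
    · rw [mul_one]; exact hr
    · rw [h.rp]; exact hp
    · rw [h.rq]; exact zero_mem _
    · rw [h.rr]; exact hr
  have hle : E k * E k ≤ E k := by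
    unfold E
    rw [Submodule.span_mul_span]
    refine Submodule.span_le.mpr ?_
    rintro _ ⟨s, hs, t, ht, rfl⟩
    exact key s hs t ht
  exact hle (Submodule.mul_mem_mul hx hy)

theorem ee_mul_ee_mem (i j : Fin 3) : ee k i * ee k j ∈ E k := by
  have h := rel3 k
  fin_cases i <;> fin_cases j
  · change ee k 0 * ee k 0 ∈ E k; rw [h.h00]; exact one_mem_E k
  · exact p_mem_E k
  · exact q_mem_E k
  · change ee k 1 * ee k 0 ∈ E k; rw [h.h10]; exact neg_mem (p_mem_E k)
  · change ee k 1 * ee k 1 ∈ E k; rw [h.h11]; exact zero_mem _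
  · exact r_mem_E k
  · change ee k 2 * ee k 0 ∈ E k; rw [h.h20]; exact neg_mem (q_mem_E k)
  · change ee k 2 * ee k 1 ∈ E k; rw [h.h21]; exact sub_mem (one_mem_E k) (r_mem_E k)
  · change ee k 2 * ee k 2 ∈ E k; rw [h.h22]; exact zero_mem _

theorem ι_mul_ι_mem_E (m₁ m₂ : Fin 3 → k) :
    ι (QuadGrp.splitForm k 3) m₁ * ι (QuadGrp.splitForm k 3) m₂ ∈ E k := by
  rw [ι_eq_sum, ι_eq_sum, Finset.sum_mul_sum]
  refine Submodule.sum_mem _ fun i _ => Submodule.sum_mem _ fun j _ => ?_
  rw [smul_mul_assoc, mul_smul_comm]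
  exact Submodule.smul_mem _ _ (Submodule.smul_mem _ _ (ee_mul_ee_mem k i j))

theorem even_le_E {x : C3 k} (hx : x ∈ evenOdd (QuadGrp.splitForm k 3) 0) : x ∈ E k := by
  refine even_induction (Q := QuadGrp.splitForm k 3) (motive := fun x _ => x ∈ E k) ?_ ?_ ?_ x hx
  · intro r
    rw [Algebra.algebraMap_eq_smul_one]
    exact Submodule.smul_mem _ _ (one_mem_E k)
  · intro x y _ _ hx hy
    exact Submodule.add_mem _ hx hy
  · intro m₁ m₂ x _ hx
    exact E_mul k (ι_mul_ι_mem_E k m₁ m₂) hx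

/-- the trace `x + reverse x` is a scalar on `E` -/
theorem trace_scalar {x : C3 k} (hx : x ∈ E k) :
    ∃ t : k, x + reverse x = algebraMap k (C3 k) t := by
  have h := rel3 k
  unfold E at hx
  induction hx using Submodule.span_induction with
  | mem x hx =>
    rcases hx with rfl | rfl | rfl | rfl
    · exact ⟨2, by rw [reverse.map_one, map_ofNat, one_add_one_eq_two]⟩
    · refine ⟨0, ?_⟩
      rw [reverse.map_mul, ee, ee, reverse_ι, reverse_ι, map_zero]
      change ee k 0 * ee k 1 + ee k 1 * ee k 0 = 0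
      rw [h.h10, add_neg_cancel]
    · refine ⟨0, ?_⟩
      rw [reverse.map_mul, ee, ee, reverse_ι, reverse_ι, map_zero]
      change ee k 0 * ee k 2 + ee k 2 * ee k 0 = 0
      rw [h.h20, add_neg_cancel]
    · refine ⟨1, ?_⟩
      rw [reverse.map_mul, ee, ee, reverse_ι, reverse_ι, map_one]
      change ee k 1 * ee k 2 + ee k 2 * ee k 1 = 1
      rw [h.h21, add_sub_cancel]
  | zero => exact ⟨0, by simp⟩
  | add x y _ _ hx hy =>
    obtain ⟨s, hs⟩ := hx
    obtain ⟨t, ht⟩ := hy
    refine ⟨s + t, ?_⟩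
    rw [map_add, map_add, ← hs, ← ht]
    abel
  | smul a x _ hx =>
    obtain ⟨s, hs⟩ := hx
    refine ⟨a * s, ?_⟩
    rw [map_smul, ← smul_add, hs, map_mul, Algebra.smul_def]

/-- the trace is symmetric -/
theorem trace_comm {x y : C3 k} (hx : x ∈ E k) (hy : y ∈ E k) :
    x * y + reverse (x * y) = y * x + reverse (y * x) := by
  obtain ⟨s, hs⟩ := trace_scalar k hx
  obtain ⟨t, ht⟩ := trace_scalar k hy
  have hrx : reverse x = algebraMap k (C3 k) s - x := eq_sub_of_add_eq' hs
  have hry : reverse y = algebraMap k (C3 k) t - y := eq_sub_of_add_eq' ht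
  rw [reverse.map_mul, reverse.map_mul, hrx, hry]
  have c1 : ∀ w : C3 k, algebraMap k (C3 k) s * w = w * algebraMap k (C3 k) s :=
    fun w => Algebra.commutes s w
  have c2 : ∀ w : C3 k, algebraMap k (C3 k) t * w = w * algebraMap k (C3 k) t :=
    fun w => Algebra.commutes t w
  simp only [mul_sub, sub_mul]
  rw [c1 y, c2 x, c1 (algebraMap k (C3 k) t)]
  abel

/-- the central element -/
noncomputable def z : C3 k := zz (ee k 0) (ee k 1) (ee k 2)

theorem z_comm_ι (v : Fin 3 → k) :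
    z k * ι (QuadGrp.splitForm k 3) v = ι (QuadGrp.splitForm k 3) v * z k := by
  have h := rel3 k
  rw [ι_eq]
  simp only [mul_add, add_mul, mul_smul_comm, smul_mul_assoc, z]
  rw [h.z_e0, h.e0_z, h.z_e1, h.e1_z, h.z_e2, h.e2_z]

theorem z_central (x : C3 k) : z k * x = x * z k := by
  induction x using CliffordAlgebra.induction with
  | algebraMap r => exact (Algebra.commutes r (z k)).symm
  | ι v => exact z_comm_ι k v
  | mul a b ha hb => rw [← mul_assoc, ha, mul_assoc, hb, mul_assoc]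
  | add a b ha hb => rw [mul_add, add_mul, ha, hb]

theorem z_mul_z : z k * z k = 1 := (rel3 k).z_z

theorem z_mul_ι (v : Fin 3 → k) :
    z k * ι (QuadGrp.splitForm k 3) v =
      v 0 • (1 - (ee k 1 * ee k 2 + ee k 1 * ee k 2)) - v 1 • (ee k 0 * ee k 1) +
        v 2 • (ee k 0 * ee k 2) := by
  have h := rel3 k
  rw [ι_eq]
  simp only [mul_add, mul_smul_comm, z]
  rw [h.z_e0, h.z_e1, h.z_e2, smul_neg]
  abel

theorem z_mul_ι_mem_E (v : Fin 3 → k) : z k * ι (QuadGrp.splitForm k 3) v ∈ E k := by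
  rw [z_mul_ι]
  refine Submodule.add_mem _ (Submodule.sub_mem _ (Submodule.smul_mem _ _ ?_)
    (Submodule.smul_mem _ _ (p_mem_E k))) (Submodule.smul_mem _ _ (q_mem_E k))
  exact Submodule.sub_mem _ (one_mem_E k) (Submodule.add_mem _ (r_mem_E k) (r_mem_E k))

theorem reverse_p : reverse (ee k 0 * ee k 1) = -(ee k 0 * ee k 1) := by
  rw [reverse.map_mul, ee, ee, reverse_ι, reverse_ι]
  exact (rel3 k).h10

theorem reverse_q : reverse (ee k 0 * ee k 2) = -(ee k 0 * ee k 2) := by
  rw [reverse.map_mul, ee, ee, reverse_ι, reverse_ι]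
  exact (rel3 k).h20

theorem reverse_r : reverse (ee k 1 * ee k 2) = 1 - ee k 1 * ee k 2 := by
  rw [reverse.map_mul, ee, ee, reverse_ι, reverse_ι]
  exact (rel3 k).h21

theorem trace_z_mul_ι (v : Fin 3 → k) :
    z k * ι (QuadGrp.splitForm k 3) v + reverse (z k * ι (QuadGrp.splitForm k 3) v) = 0 := by
  rw [z_mul_ι]
  simp only [map_add, map_sub, map_smul, reverse.map_one, reverse_p, reverse_q, reverse_r]
  simp only [smul_sub, smul_add, smul_neg]
  abel

/-- a trace-zero element of `E` is `z · ι v` -/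
theorem exists_of_trace_zero {x : C3 k} (hx : x ∈ E k) (ht : x + reverse x = 0) :
    ∃ v : Fin 3 → k, x = z k * ι (QuadGrp.splitForm k 3) v := by
  unfold E SS at hx
  obtain ⟨a, y1, hy1, rfl⟩ := Submodule.mem_span_insert.mp hx
  obtain ⟨b, y2, hy2, rfl⟩ := Submodule.mem_span_insert.mp hy1
  obtain ⟨c, y3, hy3, rfl⟩ := Submodule.mem_span_insert.mp hy2
  obtain ⟨d, rfl⟩ := Submodule.mem_span_singleton.mp hy3
  have htr : (2 * a + d) • (1 : C3 k) = 0 := by
    rw [← ht]
    simp only [map_add, map_smul, reverse.map_one, reverse_p, reverse_q, reverse_r]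
    simp only [smul_sub, smul_neg, add_smul, mul_smul, two_smul]
    abel
  by_cases h0 : 2 * a + d = 0
  · refine ⟨![a, -b, c], ?_⟩
    rw [z_mul_ι]
    have hd : d = -(2 * a) := by linear_combination h0
    simp only [Matrix.cons_val_zero, Matrix.cons_val_one, Matrix.cons_val_two, Matrix.head_cons,
      Matrix.tail_cons, Matrix.cons_val]
    rw [hd]
    simp only [smul_sub, smul_add, neg_smul, mul_smul, two_smul]
    abel
  · have h10 : (1 : C3 k) = 0 := by
      have := congrArg (fun w => (2 * a + d)⁻¹ • w) htr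
      simpa [smul_smul, inv_mul_cancel₀ h0] using this
    refine ⟨0, ?_⟩
    rw [map_zero, mul_zero, ← mul_one (_ + _), h10, mul_zero]

/-- every even unit normalises `ι(M)` -/
theorem conj_mem_range (u : (C3 k)ˣ) (hu : (u : C3 k) ∈ evenOdd (QuadGrp.splitForm k 3) 0)
    (hu' : (↑u⁻¹ : C3 k) ∈ evenOdd (QuadGrp.splitForm k 3) 0) (v : Fin 3 → k) :
    ∃ v' : Fin 3 → k, (u : C3 k) * ι (QuadGrp.splitForm k 3) v * ↑u⁻¹ =
      ι (QuadGrp.splitForm k 3) v' := by
  set w := z k * ι (QuadGrp.splitForm k 3) v with hw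
  set ui : C3 k := ((u⁻¹ : (C3 k)ˣ) : C3 k) with hui
  have huui : ui * (u : C3 k) = 1 := Units.inv_mul u
  have hwE : w ∈ E k := z_mul_ι_mem_E k v
  have huE := even_le_E k hu
  have hu'E : ui ∈ E k := even_le_E k hu'
  have hxE : (u : C3 k) * (w * ui) ∈ E k := E_mul k huE (E_mul k hwE hu'E)
  have htr : (u : C3 k) * (w * ui) + reverse ((u : C3 k) * (w * ui)) = 0 := by
    rw [trace_comm k huE (E_mul k hwE hu'E), mul_assoc, huui, mul_one]
    exact trace_z_mul_ι k v
  obtain ⟨v', hv'⟩ := exists_of_trace_zero k hxE htr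
  refine ⟨v', ?_⟩
  have e1 : (u : C3 k) * ι (QuadGrp.splitForm k 3) v * ui =
      z k * ((u : C3 k) * (w * ui)) := by
    rw [hw, ← mul_assoc (u : C3 k), ← mul_assoc (u : C3 k), ← z_central k (u : C3 k),
      ← mul_assoc, ← mul_assoc, ← mul_assoc, z_mul_z, one_mul]
  rw [e1, hv', ← mul_assoc, z_mul_z, one_mul]

open scoped Pointwise in
/-- every even unit lies in the naive Clifford group -/
theorem evenUnits_le_GPin' :
    QuadGrp.evenUnits (QuadGrp.splitForm k 3) ≤ QuadGrp.GPin' (QuadGrp.splitForm k 3) := by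
  intro u hu
  rw [QuadGrp.mem_GPin']
  suffices ∀ x ∈ QuadGrp.evenUnits (QuadGrp.splitForm k 3),
      ConjAct.toConjAct x • LinearMap.range (CliffordAlgebra.ι (QuadGrp.splitForm k 3)) ≤
        LinearMap.range (CliffordAlgebra.ι (QuadGrp.splitForm k 3)) by
    apply le_antisymm
    · exact this _ hu
    · have := smul_mono_right (ConjAct.toConjAct u) <| this _ (inv_mem hu)
      refine Eq.trans_le ?_ this
      simp only [map_inv, smul_inv_smul]
  intro x hx
  rw [Submodule.pointwise_smul_def, Submodule.map_le_iff_le_comap]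
  rintro _ ⟨m, rfl⟩
  rw [Submodule.mem_comap]
  change ConjAct.toConjAct x • CliffordAlgebra.ι (QuadGrp.splitForm k 3) m ∈ _
  rw [ConjAct.units_smul_def, ConjAct.ofConjAct_toConjAct]
  obtain ⟨v', hv'⟩ := Groth.Agent.Lib.Cliff3H1.conj_mem_range k x
    (show (x : CliffordAlgebra (QuadGrp.splitForm k 3)) ∈ CliffordAlgebra.evenOdd _ 0 from hx)
    (show ((x⁻¹ : (CliffordAlgebra (QuadGrp.splitForm k 3))ˣ) : CliffordAlgebra (QuadGrp.splitForm k 3)) ∈
      CliffordAlgebra.evenOdd _ 0 from (QuadGrp.evenUnits _).inv_mem hx) m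
  exact ⟨v', hv'.symm⟩

end Cliff

end Groth.Agent.Lib.Cliff3H1
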