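import Mathlib
import Groth.Prelude
import Groth.Agent.Lib.CurveCliff1_helper9
import Groth.Agent.Lib.CurveAmple5_helper9
import Groth.Agent.Lib.CurveTens4_helper9

/-!
# Numerics of pencils on curves of given Clifford index (helper9)
Riemann–Roch bookkeeping, the bound from the Clifford index, and `h⁰` of small tensor powers.
APPEND-ONLY once landed.
-/

set_option autoImplicit false
universe u
open CategoryTheory CategoryTheory.Limits AlgebraicGeometry Opposite TopologicalSpace

namespace Cliff9

open QcqsLoc QCohExtn GenLocH8 TensH8 FLFH8 CohB1 Groth.Agent.HHVan CurveAmple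

section Curve

variable (k : Type u) [Field k] [IsAlgClosed k] (X : Scheme.{u}) [X.Over (Spec (CommRingCat.of k))]
  [IsIntegral X] [IsProper (X ↘ Spec (CommRingCat.of k))]

/-- **Riemann–Roch** (by definition of the degree): `h⁰(L) - h¹(L) = deg L + 1 - g` -/
theorem rr (hdim : topologicalKrullDim X = 1) {L : X.Modules} (hL : PicF.IsInvertible L) :
    (Module.finrank k (Coh.HH X L 0) : ℤ) - (Module.finrank k (Coh.HH X L 1) : ℤ) =
      Curv2.deg k X L 1 + 1 - (Curv2.genus k X : ℤ) := by
  haveI : IsLocallyNoetherian X :=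
    LocallyOfFiniteType.isLocallyNoetherian (X ↘ Spec (CommRingCat.of k))
  have hOc := CohDevH8.isCoh_structureModule X
  have hLc := ProperFinH9.isCoh_of_isInvertible hL
  haveI := hOc.1
  haveI := hLc.1
  have e2 := CurveRR.euler_eq_sub k X hdim.le L
  have e3 := CurveRR.euler_eq_sub k X hdim.le (Coh.structureModule X)
  have e4 := CurveSpec.finrank_HH0_structureModule k X hdim
  have hg : Curv2.genus k X = Module.finrank k (Coh.HH X (Coh.structureModule X) 1) := rfl
  unfold Curv2.deg
  rw [hg]
  rw [e4] at e3
  push_cast at e3 ⊢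
  omega

/-- nontriviality of a `k`-module of positive finrank -/
theorem nontrivial_of_pos {V : Type*} [AddCommGroup V] [Module k V]
    (h : 0 < Module.finrank k V) : Nontrivial V :=
  Module.nontrivial_of_finrank_pos (R := k) h

/-- the bound coming from a lower bound `c` on the Clifford index: an invertible module with
`h⁰ ≥ 2` and `h¹ ≥ 2` has `2 h⁰ + (c - 2) ≤ deg` (restated hypothesis, for uniform use) -/
theorem finrank_HH1_le_one_of_cliff (hdim : topologicalKrullDim X = 1) (c : ℤ)
    (hmin : ∀ M : X.Modules, PicF.IsInvertible M → 2 ≤ Module.finrank k (Coh.HH X M 0) →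
      2 ≤ Module.finrank k (Coh.HH X M 1) →
        2 * (Module.finrank k (Coh.HH X M 0) : ℤ) + c ≤ Curv2.deg k X M 1)
    {L : X.Modules} (hL : PicF.IsInvertible L)
    (h0 : Curv2.deg k X L 1 < 2 * (Module.finrank k (Coh.HH X L 0) : ℤ) + c)
    (h2 : 2 ≤ Module.finrank k (Coh.HH X L 0)) :
    Module.finrank k (Coh.HH X L 1) ≤ 1 := by
  by_contra h
  push_neg at h
  have := hmin L hL h2 (by omega)
  omega

end Curve

end Cliff9
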