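import Mathlib.Topology.Spectral.Prespectral
import Mathlib.Topology.QuasiSeparated
import Mathlib.Topology.Connected.Clopen
import Mathlib.Topology.Clopen

/-!
# Connected components as intersections of clopens in quasi-compact quasi-separated prespectral
spaces (lead)
-/

universe u

namespace Groth.Agent.Lib.ClopenComp_lead

open Set Topology

variable {X : Type u} [TopologicalSpace X] [CompactSpace X] [PrespectralSpace X]
  [QuasiSeparatedSpace X]

omit [CompactSpace X] [PrespectralSpace X] [QuasiSeparatedSpace X] in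
/-- For a compact set `K` disjoint from the intersection of all clopen neighbourhoods of `x`,
some clopen neighbourhood of `x` is disjoint from `K`. -/
theorem exists_isClopen_disjoint_of_isCompact (x : X) {K : Set X} (hK : IsCompact K)
    (hdisj : K ∩ ⋂ s : { s : Set X // IsClopen s ∧ x ∈ s }, (s : Set X) = ∅) :
    ∃ Z : Set X, IsClopen Z ∧ x ∈ Z ∧ K ∩ Z = ∅ := by
  have H1 := hK.inter_iInter_nonempty
    (fun s : { s : Set X // IsClopen s ∧ x ∈ s } => (s : Set X)) fun s => s.2.1.1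
  rw [← not_imp_not] at H1
  have H2 := H1 (by rw [hdisj]; exact Set.not_nonempty_empty)
  push Not at H2
  obtain ⟨si, hsi⟩ := H2
  refine ⟨⋂ U ∈ si, Subtype.val U, isClopen_biInter_finset fun s _ => s.2.1,
    mem_iInter₂.2 fun s _ => s.2.2, ?_⟩
  exact hsi

theorem connectedComponent_eq_iInter_isClopen (x : X) :
    connectedComponent x = ⋂ s : { s : Set X // IsClopen s ∧ x ∈ s }, (s : Set X) := by
  apply Subset.antisymm connectedComponent_subset_iInter_isClopen
  refine IsPreconnected.subset_connectedComponent ?_ (mem_iInter.2 fun s => s.2.2)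
  have hs : IsClosed (⋂ s : { s : Set X // IsClopen s ∧ x ∈ s }, (s : Set X)) :=
    isClosed_iInter fun s => s.2.1.1
  rw [isPreconnected_iff_subset_of_fully_disjoint_closed hs]
  intro a b ha hb hab ab_disj
  set S := ⋂ s : { s : Set X // IsClopen s ∧ x ∈ s }, (s : Set X) with hS
  have hxS : x ∈ S := mem_iInter.2 fun s => s.2.2
  -- quasi-compact opens around `S ∩ a` and `S ∩ b`
  obtain ⟨U, hUc, hUo, hBU, hUb⟩ := PrespectralSpace.exists_isCompact_and_isOpen_between
    (hs.inter ha).isCompact hb.isOpen_compl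
    (fun z hz => fun hzb => Set.disjoint_left.1 ab_disj hz.2 hzb)
  obtain ⟨V, hVc, hVo, hCV, hVa⟩ := PrespectralSpace.exists_isCompact_and_isOpen_between
    (hs.inter hb).isCompact ha.isOpen_compl
    (fun z hz => fun hza => Set.disjoint_left.1 ab_disj hza hz.2)
  have hSUV : S ⊆ U ∪ V := fun z hz => by
    rcases hab hz with h | h
    · exact Or.inl (hBU ⟨hz, h⟩)
    · exact Or.inr (hCV ⟨hz, h⟩)
  have hSUVe : (U ∩ V) ∩ S = ∅ := by
    rw [Set.eq_empty_iff_forall_notMem]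
    rintro z ⟨⟨hzU, hzV⟩, hzS⟩
    rcases hab hzS with h | h
    · exact hVa hzV h
    · exact hUb hzU h
  obtain ⟨Z₀, hZ₀, hxZ₀, hZ₀e⟩ := exists_isClopen_disjoint_of_isCompact x
    (QuasiSeparatedSpace.inter_isCompact U V hUo hUc hVo hVc) hSUVe
  have hcompl : (U ∪ V)ᶜ ∩ S = ∅ := by
    rw [Set.eq_empty_iff_forall_notMem]
    rintro z ⟨hz, hzS⟩
    exact hz (hSUV hzS)
  obtain ⟨Z₁, hZ₁, hxZ₁, hZ₁e⟩ := exists_isClopen_disjoint_of_isCompact x
    (hUo.union hVo).isClosed_compl.isCompact hcompl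
  have hZ : IsClopen (Z₀ ∩ Z₁) := hZ₀.inter hZ₁
  have hxZ : x ∈ Z₀ ∩ Z₁ := ⟨hxZ₀, hxZ₁⟩
  have hZcover : Z₀ ∩ Z₁ ⊆ U ∪ V := by
    intro z hz
    by_contra hzn
    have : z ∈ (U ∪ V)ᶜ ∩ Z₁ := ⟨hzn, hz.2⟩
    rw [hZ₁e] at this
    exact this
  have hZdisj : ∀ z, z ∈ Z₀ ∩ Z₁ → z ∈ U → z ∈ V → False := by
    intro z hz hzU hzV
    have : z ∈ (U ∩ V) ∩ Z₀ := ⟨⟨hzU, hzV⟩, hz.1⟩
    rw [hZ₀e] at this
    exact this
  rcases hab hxS with hxa | hxb
  · left
    have hclopen : IsClopen ((Z₀ ∩ Z₁) ∩ U) := by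
      refine isClopen_inter_of_disjoint_cover_clopen (b := (Z₀ ∩ Z₁) ∩ V) hZ ?_ hUo
        (hZ.2.inter hVo) ?_
      · intro z hz
        rcases hZcover hz with h | h
        · exact Or.inl h
        · exact Or.inr ⟨hz, h⟩
      · rw [Set.disjoint_left]
        rintro z hzU ⟨hz, hzV⟩
        exact hZdisj z hz hzU hzV
    have hSsub : S ⊆ (Z₀ ∩ Z₁) ∩ U :=
      iInter_subset (fun s : { s : Set X // IsClopen s ∧ x ∈ s } => (s : Set X))
        ⟨(Z₀ ∩ Z₁) ∩ U, hclopen, hxZ, hBU ⟨hxS, hxa⟩⟩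
    intro z hz
    rcases hab hz with h | h
    · exact h
    · exact absurd h (hUb (hSsub hz).2)
  · right
    have hclopen : IsClopen ((Z₀ ∩ Z₁) ∩ V) := by
      refine isClopen_inter_of_disjoint_cover_clopen (b := (Z₀ ∩ Z₁) ∩ U) hZ ?_ hVo
        (hZ.2.inter hUo) ?_
      · intro z hz
        rcases hZcover hz with h | h
        · exact Or.inr ⟨hz, h⟩
        · exact Or.inl h
      · rw [Set.disjoint_left]
        rintro z hzV ⟨hz, hzU⟩
        exact hZdisj z hz hzU hzV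
    have hSsub : S ⊆ (Z₀ ∩ Z₁) ∩ V :=
      iInter_subset (fun s : { s : Set X // IsClopen s ∧ x ∈ s } => (s : Set X))
        ⟨(Z₀ ∩ Z₁) ∩ V, hclopen, hxZ, hCV ⟨hxS, hxb⟩⟩
    intro z hz
    rcases hab hz with h | h
    · exact absurd h (hVa (hSsub hz).2)
    · exact h

end Groth.Agent.Lib.ClopenComp_lead
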