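import Mathlib

/-!
# Splitting off a clopen factor (lead)

* `exists_idem_ker_eq`: if `T → T'` is a localization away from `h`, `μ' : T' → A` has kernel generated
  by an idempotent and `T → T' → A` is surjective, then the kernel of the composite is generated by an
  idempotent of `T`.
* `exists_prod_of_etale_surj`: if `E` is an unramified `R`-algebra (ess. of finite type) surjecting onto a
  localization `S[1/g]`, then `E ⊗[R] S ≅ S[1/g] × B` as `E`-algebras.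
-/

set_option autoImplicit false

namespace Groth.Agent.Lib.ClopenFactor

universe u

theorem exists_idem_ker_eq {T T' A : Type*} [CommRing T] [CommRing T'] [CommRing A]
    (loc : T →+* T') (h : T) (hunit : IsUnit (loc h))
    (L2 : ∀ t : T, loc t = 0 → ∃ n : ℕ, h ^ n * t = 0)
    (ε₁ : T') (hε₁ : IsIdempotentElem ε₁)
    (L1 : ∃ (n : ℕ) (c : T), loc c = loc h ^ n * (1 - ε₁))
    (μ' : T' →+* A) (hker : RingHom.ker μ' = Ideal.span {ε₁})
    (hsurj : ∀ y : A, ∃ t : T, μ' (loc t) = y) :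
    ∃ ε : T, IsIdempotentElem ε ∧ μ' (loc ε) = 1 ∧
      ∀ k : T, μ' (loc k) = 0 → k ∈ Ideal.span {1 - ε} := by
  obtain ⟨ε₂, hε₂def⟩ : ∃ ε₂ : T', ε₂ = 1 - ε₁ := ⟨_, rfl⟩
  have hε₂ : IsIdempotentElem ε₂ := by rw [hε₂def]; exact hε₁.one_sub
  have h12 : ε₂ * ε₁ = 0 := by
    rw [hε₂def, sub_mul, one_mul, hε₁.eq, sub_self]
  have hμ'ε₁ : μ' ε₁ = 0 := by
    have : ε₁ ∈ RingHom.ker μ' := by rw [hker]; exact Ideal.subset_span rfl
    exact this
  have hμ'ε₂ : μ' ε₂ = 1 := by rw [hε₂def, map_sub, map_one, hμ'ε₁, sub_zero]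
  have hkill : ∀ y : T', μ' y = 0 → ε₂ * y = 0 := by
    intro y hy
    have : y ∈ Ideal.span {ε₁} := by rw [← hker]; exact hy
    obtain ⟨z, rfl⟩ := Ideal.mem_span_singleton'.mp this
    rw [← mul_assoc, mul_comm ε₂ z, mul_assoc, h12, mul_zero]
  obtain ⟨u, hu⟩ := (hunit.map μ').exists_left_inv
  obtain ⟨a, ha⟩ := hsurj u
  obtain ⟨f, hf⟩ : ∃ f : T, f = a * h := ⟨_, rfl⟩
  have hμf : μ' (loc f) = 1 := by
    rw [hf, map_mul, map_mul, ha]; exact hu
  have hε₂f : ε₂ * loc f = ε₂ := by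
    have h1 : μ' (loc f - 1) = 0 := by rw [map_sub, map_one, hμf, sub_self]
    have := hkill _ h1
    rw [mul_sub, mul_one, sub_eq_zero] at this; exact this
  have hε₂fn : ∀ n : ℕ, ε₂ * loc f ^ n = ε₂ := by
    intro n
    induction n with
    | zero => rw [pow_zero, mul_one]
    | succ n ih => rw [pow_succ, ← mul_assoc, ih, hε₂f]
  obtain ⟨n, c, hc⟩ := L1
  rw [← hε₂def] at hc
  obtain ⟨x, hx⟩ : ∃ x : T, x = c * a ^ n := ⟨_, rfl⟩
  have hlocx : loc x = ε₂ := by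
    rw [hx, map_mul, hc, map_pow]
    have : loc h ^ n * ε₂ * loc a ^ n = ε₂ * loc f ^ n := by
      rw [hf, map_mul, mul_pow]; ring
    rw [this, hε₂fn]
  obtain ⟨m₁, hm₁⟩ := L2 (x * x - x) (by rw [map_sub, map_mul, hlocx, hε₂.eq, sub_self])
  obtain ⟨m₂, hm₂⟩ := L2 (x * (f - 1))
    (by rw [map_mul, map_sub, map_one, hlocx, mul_sub, mul_one, hε₂f, sub_self])
  obtain ⟨M, hM⟩ : ∃ M : ℕ, M = m₁ + m₂ := ⟨_, rfl⟩
  have hM₁ : h ^ M * (x * x - x) = 0 := by
    rw [hM, pow_add, mul_comm (h ^ m₁), mul_assoc, hm₁, mul_zero]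
  have hM₂ : h ^ M * (x * (f - 1)) = 0 := by
    rw [hM, pow_add, mul_assoc, hm₂, mul_zero]
  have hfM : ∀ j : ℕ, f ^ j = a ^ j * h ^ j := fun j => by rw [hf, mul_pow]
  have hstep : x * f ^ M * (f - 1) = 0 := by
    rw [hfM M]
    calc x * (a ^ M * h ^ M) * (f - 1) = a ^ M * (h ^ M * (x * (f - 1))) := by ring
      _ = 0 := by rw [hM₂, mul_zero]
  have hstab : ∀ j : ℕ, x * f ^ (M + j) = x * f ^ M := by
    intro j
    induction j with
    | zero => rfl
    | succ j ih =>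
      rw [← add_assoc, pow_succ, ← mul_assoc, ih]
      have : x * f ^ M * f = x * f ^ M + x * f ^ M * (f - 1) := by ring
      rw [this, hstep, add_zero]
  refine ⟨x * f ^ M, ?_, ?_, ?_⟩
  · show x * f ^ M * (x * f ^ M) = x * f ^ M
    have h1 : x * f ^ M * (x * f ^ M) = (x * x - x) * f ^ (M + M) + x * f ^ (M + M) := by
      rw [pow_add]; ring
    rw [h1, hstab M]
    have h2 : (x * x - x) * f ^ (M + M) = a ^ (M + M) * h ^ M * (h ^ M * (x * x - x)) := by
      rw [hfM (M + M), pow_add h M M]; ring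
    rw [h2, hM₁, mul_zero, zero_add]
  · rw [map_mul, map_mul, map_pow, map_pow, hμf, one_pow, mul_one, hlocx, hμ'ε₂]
  · intro k hk0
    have h1 : loc (x * k) = 0 := by rw [map_mul, hlocx]; exact hkill _ hk0
    obtain ⟨j, hj⟩ := L2 _ h1
    have h2 : x * f ^ M * k = 0 := by
      rw [← hstab j, hfM (M + j)]
      calc x * (a ^ (M + j) * h ^ (M + j)) * k
          = a ^ (M + j) * h ^ M * (h ^ j * (x * k)) := by rw [pow_add h M j]; ring
        _ = 0 := by rw [hj, mul_zero]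
    rw [Ideal.mem_span_singleton']
    refine ⟨k, ?_⟩
    have : k * (1 - x * f ^ M) = k - x * f ^ M * k := by ring
    rw [this, h2, sub_zero]

open TensorProduct KaehlerDifferential

theorem exists_prod_of_etale_surj {R S E Sg : Type u} [CommRing R] [CommRing S] [Algebra R S]
    [CommRing E] [Algebra R E] [Algebra.EssFiniteType R E] [Algebra.FormallyUnramified R E]
    [CommRing Sg] [Algebra S Sg] [Algebra R Sg] [IsScalarTower R S Sg] (g : S)
    [IsLocalization.Away g Sg]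
    [Algebra E Sg] [IsScalarTower R E Sg] (hφ : Function.Surjective (algebraMap E Sg)) :
    ∃ (B : Type u) (_ : CommRing B) (_ : Algebra E B) (e : (E ⊗[R] S) ≃ₐ[E] (Sg × B)),
      ∀ t : E ⊗[R] S, (e t).1 =
        (Algebra.TensorProduct.lift (Algebra.ofId E Sg) (IsScalarTower.toAlgHom R S Sg)
          (fun _ _ => Commute.all _ _) : E ⊗[R] S →ₐ[E] Sg) t := by
  classical
  let locA : E ⊗[R] S →ₐ[E] E ⊗[R] Sg :=
    Algebra.TensorProduct.map (AlgHom.id E E) (IsScalarTower.toAlgHom R S Sg)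
  have hlocA : ∀ (x : E) (s : S), locA (x ⊗ₜ s) = x ⊗ₜ (algebraMap S Sg s) := fun x s => by
    simp [locA]
  letI algTT' : Algebra (E ⊗[R] S) (E ⊗[R] Sg) := locA.toRingHom.toAlgebra
  haveI : IsScalarTower E (E ⊗[R] S) (E ⊗[R] Sg) :=
    IsScalarTower.of_algebraMap_eq' locA.comp_algebraMap.symm
  have hloc := IsLocalization.tensorProduct_tensorProduct_right R E (Submonoid.powers g) Sg
      (by
        ext s
        simp [RingHom.algebraMap_toAlgebra, locA])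
  rw [Submonoid.map_powers] at hloc
  haveI hAway : IsLocalization.Away ((1 : E) ⊗ₜ[R] g) (E ⊗[R] Sg) := by
    simpa using hloc
  have hunit : IsUnit (locA ((1 : E) ⊗ₜ[R] g)) :=
    IsLocalization.Away.algebraMap_isUnit ((1 : E) ⊗ₜ[R] g)
  have L2 : ∀ t : E ⊗[R] S, locA t = 0 → ∃ n : ℕ, ((1 : E) ⊗ₜ[R] g) ^ n * t = 0 := by
    intro t ht
    have h0 : algebraMap (E ⊗[R] S) (E ⊗[R] Sg) t = algebraMap (E ⊗[R] S) (E ⊗[R] Sg) 0 := by
      rw [map_zero]; exact ht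
    obtain ⟨n, hn⟩ := IsLocalization.Away.exists_of_eq ((1 : E) ⊗ₜ[R] g) h0
    exact ⟨n, by rw [hn, mul_zero]⟩
  -- the diagonal idempotent
  obtain ⟨e₀, he₀, hsp⟩ : ∃ e, IsIdempotentElem e ∧
      KaehlerDifferential.ideal R E = Submodule.span (E ⊗[R] E) {e} :=
    (Ideal.isIdempotentElem_iff_of_fg _ (KaehlerDifferential.ideal_fg R E)).mp <|
      (Ideal.cotangent_subsingleton_iff _).mp <| inferInstanceAs <| Subsingleton Ω[E⁄R]
  let idφ : E ⊗[R] E →ₐ[E] E ⊗[R] Sg :=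
    Algebra.TensorProduct.map (AlgHom.id E E) (IsScalarTower.toAlgHom R E Sg)
  let μg : E ⊗[R] Sg →ₐ[E] Sg :=
    Algebra.TensorProduct.lift (Algebra.ofId E Sg) (AlgHom.id R Sg) (fun _ _ => Commute.all _ _)
  have hμg : ∀ (x : E) (s : Sg), μg (x ⊗ₜ s) = algebraMap E Sg x * s := fun x s => by
    simp [μg, Algebra.ofId_apply]
  have hμgidφ : ∀ z : E ⊗[R] E, μg (idφ z) = algebraMap E Sg (Algebra.TensorProduct.lmul' R z) := by
    intro z
    induction z using TensorProduct.induction_on with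
    | zero => simp
    | tmul x y =>
      rw [Algebra.TensorProduct.lmul'_apply_tmul, map_mul]
      simp [idφ, hμg]
    | add a b ha hb => rw [map_add, map_add, ha, hb, map_add, map_add]
  obtain ⟨ε₁, hε₁def⟩ : ∃ ε₁ : E ⊗[R] Sg, ε₁ = idφ e₀ := ⟨_, rfl⟩
  have hε₁ : IsIdempotentElem ε₁ := by rw [hε₁def]; exact he₀.map idφ
  have hμgε₁ : μg ε₁ = 0 := by
    rw [hε₁def, hμgidφ]
    have : e₀ ∈ KaehlerDifferential.ideal R E := by rw [hsp]; exact Submodule.subset_span rfl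
    have h0 : Algebra.TensorProduct.lmul' (S := E) R e₀ = 0 := this
    rw [h0, map_zero]
  have hdiag : ∀ x : E, idφ ((1 : E) ⊗ₜ[R] x - x ⊗ₜ[R] (1 : E)) ∈ Ideal.span {ε₁} := by
    intro x
    have hm : (1 : E) ⊗ₜ[R] x - x ⊗ₜ[R] (1 : E) ∈ KaehlerDifferential.ideal R E :=
      KaehlerDifferential.one_smul_sub_smul_one_mem_ideal R x
    rw [hsp] at hm
    obtain ⟨a, ha⟩ := Ideal.mem_span_singleton'.mp hm
    rw [← ha, map_mul, ← hε₁def]
    exact Ideal.mul_mem_left _ _ (Ideal.subset_span rfl)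
  have hkey : ∀ z : E ⊗[R] Sg, z - (1 : E) ⊗ₜ[R] (μg z) ∈ Ideal.span {ε₁} := by
    intro z
    induction z using TensorProduct.induction_on with
    | zero => simp
    | tmul x s =>
      have : x ⊗ₜ[R] s - (1 : E) ⊗ₜ[R] (μg (x ⊗ₜ[R] s)) =
          -(idφ ((1 : E) ⊗ₜ[R] x - x ⊗ₜ[R] (1 : E)) * ((1 : E) ⊗ₜ[R] s)) := by
        rw [hμg]
        simp only [idφ, map_sub, Algebra.TensorProduct.map_tmul, AlgHom.id_apply,
          IsScalarTower.coe_toAlgHom', map_one, sub_mul, Algebra.TensorProduct.tmul_mul_tmul,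
          one_mul, mul_one, neg_sub]
      rw [this]
      exact neg_mem (Ideal.mul_mem_right _ _ (hdiag x))
    | add a b ha hb =>
      have : a + b - (1 : E) ⊗ₜ[R] (μg (a + b)) =
          (a - (1 : E) ⊗ₜ[R] (μg a)) + (b - (1 : E) ⊗ₜ[R] (μg b)) := by
        rw [map_add, TensorProduct.tmul_add]; ring
      rw [this]; exact add_mem ha hb
  have hker : RingHom.ker μg.toRingHom = Ideal.span {ε₁} := by
    apply le_antisymm
    · intro z hz
      have hz0 : μg z = 0 := hz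
      have := hkey z
      rw [hz0, TensorProduct.tmul_zero, sub_zero] at this
      exact this
    · rw [Ideal.span_le, Set.singleton_subset_iff]
      exact hμgε₁
  have L1 : ∃ (n : ℕ) (c : E ⊗[R] S),
      locA c = locA ((1 : E) ⊗ₜ[R] g) ^ n * (1 - ε₁) := by
    obtain ⟨n, c, hc⟩ := IsLocalization.Away.surj ((1 : E) ⊗ₜ[R] g) (1 - ε₁)
    refine ⟨n, c, ?_⟩
    rw [mul_comm]
    exact hc.symm
  have hsurj : ∀ y : Sg, ∃ t : E ⊗[R] S, μg (locA t) = y := by
    intro y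
    obtain ⟨x, rfl⟩ := hφ y
    refine ⟨x ⊗ₜ 1, ?_⟩
    rw [hlocA, map_one, hμg, mul_one]
  obtain ⟨ε, hε, hμε, hkerε⟩ := exists_idem_ker_eq locA.toRingHom ((1 : E) ⊗ₜ[R] g) hunit L2 ε₁ hε₁
    L1 μg.toRingHom hker hsurj
  -- the isomorphism
  let μ : E ⊗[R] S →ₐ[E] Sg := μg.comp locA
  have hμε' : μ ε = 1 := hμε
  have hμeq : μ = (Algebra.TensorProduct.lift (Algebra.ofId E Sg) (IsScalarTower.toAlgHom R S Sg)
          (fun _ _ => Commute.all _ _) : E ⊗[R] S →ₐ[E] Sg) := by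
    apply Algebra.TensorProduct.ext'
    intro x s
    show μg (locA (x ⊗ₜ s)) = _
    rw [hlocA, hμg]
    simp [Algebra.ofId_apply]
  let Φ : E ⊗[R] S →ₐ[E] Sg × ((E ⊗[R] S) ⧸ Ideal.span {ε}) :=
    μ.prod (Ideal.Quotient.mkₐ E (Ideal.span {ε}))
  have hΦ : ∀ t, Φ t = (μ t, Ideal.Quotient.mk (Ideal.span {ε}) t) := fun t => rfl
  have hinj : Function.Injective Φ := by
    rw [injective_iff_map_eq_zero]
    intro t ht
    rw [hΦ, Prod.mk_eq_zero] at ht
    obtain ⟨h1, h2⟩ := ht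
    have h3 := hkerε t h1
    obtain ⟨a, ha⟩ := Ideal.mem_span_singleton'.mp h3
    rw [Ideal.Quotient.eq_zero_iff_mem] at h2
    obtain ⟨b, hb⟩ := Ideal.mem_span_singleton'.mp h2
    have h4 : t = t * ε := by rw [← hb, mul_assoc, hε.eq]
    rw [h4, ← ha, mul_assoc, sub_mul, one_mul, hε.eq, sub_self, mul_zero]
  have hsurjΦ : Function.Surjective Φ := by
    rintro ⟨a, b⟩
    obtain ⟨t₁, ht₁⟩ := hsurj a
    obtain ⟨t₂, rfl⟩ := Ideal.Quotient.mk_surjective b
    refine ⟨ε * t₁ + (1 - ε) * t₂, ?_⟩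
    rw [hΦ]
    refine Prod.ext ?_ ?_
    · show μ (ε * t₁ + (1 - ε) * t₂) = a
      rw [map_add, map_mul, map_mul, map_sub, map_one, hμε', sub_self, zero_mul, add_zero, one_mul]
      exact ht₁
    · show Ideal.Quotient.mk (Ideal.span {ε}) (ε * t₁ + (1 - ε) * t₂) = Ideal.Quotient.mk _ t₂
      rw [Ideal.Quotient.eq]
      have : ε * t₁ + (1 - ε) * t₂ - t₂ = (t₁ - t₂) * ε := by ring
      rw [this]
      exact Ideal.mul_mem_left _ _ (Ideal.subset_span rfl)
  refine ⟨(E ⊗[R] S) ⧸ Ideal.span {ε}, inferInstance, inferInstance,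
    AlgEquiv.ofBijective Φ ⟨hinj, hsurjΦ⟩, fun t => ?_⟩
  show μ t = _
  rw [hμeq]

end Groth.Agent.Lib.ClopenFactor
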