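import Mathlib
import Groth.Prelude.Def_LocCohZ
import Groth.Agent.Lib.SectSupp_helper2

/-!
# Closed embeddings: `i_*` is fully faithful and left adjoint to `i⁻¹ Γ_Z`
-/

set_option autoImplicit false
universe u
open CategoryTheory Limits TopologicalSpace Opposite

namespace Groth.Agent.Lib.ClosedAdj

open Groth.Agent.Lib.Cech Groth.Agent.Lib.SectSupp

variable {X : TopCat.{u}} (U : Opens X)

/-- the closed complement as a space -/
abbrev Zc : TopCat.{u} := TopCat.of ((U : Set X)ᶜ : Set X)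

/-- trace of an open on `Z` -/
abbrev tr (W : Opens X) : Opens (Zc U) := (Opens.map (CohCx.inclCompl U)).obj W

lemma tr_mono {W W' : Opens X} (h : W ≤ W') : tr U W ≤ tr U W' := fun _ hz => h hz

/-- largest open with given trace -/
def e (V : Opens (Zc U)) : Opens X := sSup {W | tr U W ≤ V}

lemma tr_e_le (V : Opens (Zc U)) : tr U (e U V) ≤ V := by
  intro z hz
  have hz' : (z.1 : X) ∈ e U V := hz
  rw [e, Opens.mem_sSup] at hz'
  obtain ⟨W, hW, hzW⟩ := hz'
  exact hW hzW

lemma le_e_iff {W : Opens X} {V : Opens (Zc U)} : W ≤ e U V ↔ tr U W ≤ V :=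
  ⟨fun h => (tr_mono U h).trans (tr_e_le U V), fun h => le_sSup h⟩

lemma exists_tr_eq (V : Opens (Zc U)) : ∃ W : Opens X, tr U W = V := by
  obtain ⟨t, ht, hV⟩ := isOpen_induced_iff.1 V.isOpen
  exact ⟨⟨t, ht⟩, Opens.ext hV⟩

lemma tr_e (V : Opens (Zc U)) : tr U (e U V) = V := by
  apply le_antisymm (tr_e_le U V)
  obtain ⟨W, rfl⟩ := exists_tr_eq U V
  exact tr_mono U ((le_e_iff U).2 le_rfl)

lemma e_mono {V V' : Opens (Zc U)} (h : V ≤ V') : e U V ≤ e U V' :=
  (le_e_iff U).2 ((tr_e_le U V).trans h)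

lemma U_le_e (V : Opens (Zc U)) : U ≤ e U V := by
  rw [le_e_iff]
  intro z hz
  exact absurd hz z.2

lemma le_e_tr (W : Opens X) : W ≤ e U (tr U W) := (le_e_iff U).2 le_rfl

lemma e_tr_le (W : Opens X) : e U (tr U W) ≤ W ⊔ U := by
  intro x hx
  by_cases hxU : x ∈ U
  · exact Or.inr hxU
  · have h : (⟨x, hxU⟩ : Zc U) ∈ tr U (e U (tr U W)) := hx
    rw [tr_e] at h
    exact Or.inl h

lemma e_inf_le (V V' : Opens (Zc U)) : e U V ⊓ e U V' ≤ e U (V ⊓ V') := by
  rw [le_e_iff]
  intro z hz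
  exact ⟨tr_e_le U V hz.1, tr_e_le U V' hz.2⟩

lemma tr_inf_U_le (W : Opens X) : tr U (W ⊓ U) ≤ ⊥ := by
  intro z hz
  exact absurd hz.2 z.2

/-- pushforward along the inclusion of the closed complement -/
noncomputable abbrev E : CohTop.Ab (Zc U) ⥤ CohTop.Ab X := CohTop.push (CohCx.inclCompl U)

/-- pullback along the inclusion of the closed complement -/
noncomputable abbrev L : CohTop.Ab X ⥤ CohTop.Ab (Zc U) := CohTop.pull (CohCx.inclCompl U)

noncomputable def adjLE : L U ⊣ E U :=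
  TopCat.Sheaf.pullbackPushforwardAdjunction AddCommGrpCat.{u} (CohCx.inclCompl U)

section General

lemma chase_nat {C : Type*} [Category C] {A B M M' N N' D D' : C} (a : A ⟶ B) (a' : B ⟶ M')
    (b : A ⟶ M) (m : M ⟶ M') (ψ' : M' ⟶ N') (ψ : M ⟶ N) (m' : N ⟶ N') (b' : N' ⟶ D')
    (c : N ⟶ D) (f' : D ⟶ D') (e1 : a ≫ a' = b ≫ m) (hn : m ≫ ψ' = ψ ≫ m')
    (e2 : m' ≫ b' = c ≫ f') : a ≫ (a' ≫ ψ' ≫ b') = (b ≫ ψ ≫ c) ≫ f' := by
  rw [reassoc_of% e1, reassoc_of% hn, e2]
  simp only [Category.assoc]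

lemma chase_id {C : Type*} [Category C] {A M N N' : C} (a : A ⟶ M) (m : M ⟶ A) (ψe : M ⟶ N)
    (ψW : A ⟶ N') (m' : N ⟶ N') (hn : m ≫ ψW = ψe ≫ m') (e1 : a ≫ m = 𝟙 _) :
    a ≫ ψe ≫ m' = ψW := by
  rw [← hn, reassoc_of% e1]

lemma chase_lift {C : Type*} [Category C] {A K K' F F' : C} (l : A ⟶ K) (l' : A ⟶ K')
    (γ : K ⟶ K') (i : K ⟶ F) (i' : K' ⟶ F') (f : A ⟶ F) (g : F ⟶ F') [Mono i']
    (h1 : l ≫ i = f) (h2 : l' ≫ i' = f ≫ g) (h3 : γ ≫ i' = i ≫ g) : l' = l ≫ γ := by
  rw [← cancel_mono i', h2, Category.assoc, h3, reassoc_of% h1]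

lemma chase_unit {C : Type*} [Category C] {A K K' T T' : C} (l : A ⟶ K) (l' : A ⟶ K')
    (γ : K ⟶ K') (η : K ⟶ T) (η' : K' ⟶ T') (m : T ⟶ T') (hk : l' = l ≫ γ)
    (hn : γ ≫ η' = η ≫ m) : l' ≫ η' = (l ≫ η) ≫ m := by
  rw [hk, Category.assoc, hn, Category.assoc]

variable {Y : TopCat.{u}}

lemma sec_bot (G : CohTop.Ab Y) (V : Opens Y) (hV : V ≤ ⊥) (s : G.obj.obj (op V)) : s = 0 :=
  ext_of_cover G (fun k : PEmpty.{1} => k.elim) V (fun k => k.elim) (hV.trans bot_le) s 0
    (fun k => k.elim)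

lemma hom_eq_zero_of_app {A B : CohTop.Ab Y} (ψ : A ⟶ B)
    (h : ∀ (W : Opens Y) (s : A.obj.obj (op W)), (ψ.hom.app (op W)).hom s = 0) : ψ = 0 := by
  ext : 2
  funext W
  ext s
  exact h W.unop s

lemma isIso_of_app_bijective {A B : CohTop.Ab Y} (φ : A ⟶ B)
    (h : ∀ W : Opens Y, Function.Bijective (φ.hom.app (op W)).hom) : IsIso φ := by
  haveI : ∀ W, IsIso (φ.hom.app W) := fun W => by
    rw [ConcreteCategory.isIso_iff_bijective]
    exact h W.unop
  haveI : IsIso φ.hom := NatIso.isIso_of_isIso_app _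
  haveI : IsIso ((sheafToPresheaf (Opens.grothendieckTopology Y) AddCommGrpCat.{u}).map φ) :=
    (inferInstance : IsIso φ.hom)
  exact isIso_of_reflects_iso φ (sheafToPresheaf (Opens.grothendieckTopology Y) AddCommGrpCat.{u})

end General

instance : (E U).Faithful where
  map_injective {G G'} φ ψ h := by
    ext : 2
    funext V
    induction V using Opposite.rec with
    | _ V =>
      obtain ⟨W, rfl⟩ := exists_tr_eq U V
      exact congrArg (fun t => t.hom.app (op W)) h

/-- preimage of a morphism under `E` -/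
noncomputable def preimg {G G' : CohTop.Ab (Zc U)} (ψ : (E U).obj G ⟶ (E U).obj G') : G ⟶ G' :=
  ⟨{ app := fun V => G.obj.map (homOfLE (tr_e_le U V.unop)).op ≫ ψ.hom.app (op (e U V.unop)) ≫
        G'.obj.map (homOfLE (le_of_eq (tr_e U V.unop).symm)).op
     naturality := fun V V' f => by
       have hle : V'.unop ≤ V.unop := leOfHom f.unop
       have hn := ψ.hom.naturality (homOfLE (e_mono U hle)).op
       have e1 : G.obj.map f ≫ G.obj.map (homOfLE (tr_e_le U V'.unop)).op =
           G.obj.map (homOfLE (tr_e_le U V.unop)).op ≫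
             ((E U).obj G).obj.map (homOfLE (e_mono U hle)).op := by
         show G.obj.map _ ≫ G.obj.map _ = G.obj.map _ ≫ G.obj.map _
         rw [← G.obj.map_comp, ← G.obj.map_comp]
         rfl
       have e2 : ((E U).obj G').obj.map (homOfLE (e_mono U hle)).op ≫
           G'.obj.map (homOfLE (le_of_eq (tr_e U V'.unop).symm)).op =
           G'.obj.map (homOfLE (le_of_eq (tr_e U V.unop).symm)).op ≫ G'.obj.map f := by
         show G'.obj.map _ ≫ G'.obj.map _ = G'.obj.map _ ≫ G'.obj.map _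
         rw [← G'.obj.map_comp, ← G'.obj.map_comp]
         rfl
       exact chase_nat _ _ _ _ _ _ _ _ _ _ e1 hn e2 }⟩

lemma map_preimg {G G' : CohTop.Ab (Zc U)} (ψ : (E U).obj G ⟶ (E U).obj G') :
    (E U).map (preimg U ψ) = ψ := by
  ext : 2
  funext W
  induction W using Opposite.rec with
  | _ W =>
    have hn := ψ.hom.naturality (homOfLE (le_e_tr U W)).op
    show G.obj.map (homOfLE (tr_e_le U (tr U W))).op ≫ ψ.hom.app (op (e U (tr U W))) ≫
        G'.obj.map (homOfLE (le_of_eq (tr_e U (tr U W)).symm)).op = ψ.hom.app (op W)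
    have e1 : G.obj.map (homOfLE (tr_e_le U (tr U W))).op ≫
        ((E U).obj G).obj.map (homOfLE (le_e_tr U W)).op = 𝟙 _ := by
      show G.obj.map _ ≫ G.obj.map _ = 𝟙 _
      rw [← G.obj.map_comp, ← G.obj.map_id]
      rfl
    exact chase_id _ _ _ _ _ hn e1

instance : (E U).Full where
  map_surjective ψ := ⟨preimg U ψ, map_preimg U ψ⟩

section EI

variable (H : CohTop.Ab X)

/-- the presheaf `V ↦ H(e V)` on `Z` -/
noncomputable def eP : (Opens (Zc U))ᵒᵖ ⥤ AddCommGrpCat.{u} where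
  obj V := H.obj.obj (op (e U V.unop))
  map f := H.obj.map (homOfLE (e_mono U (leOfHom f.unop))).op
  map_id V := by
    rw [← H.obj.map_id]
    rfl
  map_comp f g := by
    rw [← H.obj.map_comp]
    rfl

variable (hH : ∀ W : Opens X, W ≤ U → ∀ s : H.obj.obj (op W), s = 0)

include hH in
lemma eP_isSheaf : TopCat.Presheaf.IsSheaf (eP U H) := by
  rw [TopCat.Presheaf.isSheaf_iff_isSheafUniqueGluing]
  intro κ V sf hsf
  obtain ⟨Wc, hWcdef⟩ : ∃ Wc : Option κ → Opens X, Wc = fun o => Option.elim o U (fun k => e U (V k)) :=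
    ⟨_, rfl⟩
  have hWn : Wc none = U := by rw [hWcdef]; rfl
  have hWs : ∀ k, Wc (some k) = e U (V k) := fun k => by rw [hWcdef]; rfl
  have hWc : ∀ o, Wc o ≤ e U (iSup V) := by
    intro o
    cases o with
    | none => rw [hWn]; exact U_le_e U _
    | some k => rw [hWs]; exact e_mono U (le_iSup V k)
  have hcov : e U (iSup V) ≤ iSup Wc := by
    intro x hx
    by_cases hxU : x ∈ U
    · exact Opens.mem_iSup.2 ⟨none, by rw [hWn]; exact hxU⟩
    · have h1 : (⟨x, hxU⟩ : Zc U) ∈ tr U (e U (iSup V)) := hx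
      rw [tr_e] at h1
      obtain ⟨k, hk⟩ := Opens.mem_iSup.1 h1
      refine Opens.mem_iSup.2 ⟨some k, ?_⟩
      rw [hWs]
      have h2 : (⟨x, hxU⟩ : Zc U) ∈ tr U (e U (V k)) := by rw [tr_e]; exact hk
      exact h2
  subst hWcdef
  obtain ⟨t, htn, hts⟩ : ∃ t : ∀ o : Option κ,
      H.obj.obj (op (Option.elim o U (fun k => e U (V k)))),
      t none = 0 ∧ ∀ k, t (some k) = sf k :=
    ⟨fun o => match o with
      | none => 0
      | some k => sf k, rfl, fun _ => rfl⟩
  have ht : ∀ o o', res H.obj (inf_le_left :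
      Option.elim o U (fun k => e U (V k)) ⊓ Option.elim o' U (fun k => e U (V k)) ≤ _) (t o) =
      res H.obj (inf_le_right :
      Option.elim o U (fun k => e U (V k)) ⊓ Option.elim o' U (fun k => e U (V k)) ≤ _) (t o') := by
    intro o o'
    cases o with
    | none => exact (hH _ inf_le_left _).trans (hH _ inf_le_left _).symm
    | some k =>
      cases o' with
      | none => exact (hH _ inf_le_right _).trans (hH _ inf_le_right _).symm
      | some l =>
        rw [hts, hts]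
        have h1 : res H.obj (e_mono U (inf_le_left : V k ⊓ V l ≤ V k)) (sf k) =
            res H.obj (e_mono U (inf_le_right : V k ⊓ V l ≤ V l)) (sf l) := hsf k l
        have h2 := congrArg (res H.obj (e_inf_le U (V k) (V l))) h1
        rw [res_res, res_res] at h2
        exact h2
  obtain ⟨s, hs⟩ := glue H _ (e U (iSup V)) hWc hcov t ht
  refine ⟨s, fun k => (hs (some k)).trans (hts k), ?_⟩
  intro s' hs'
  apply ext_of_cover H _ (e U (iSup V)) hWc hcov
  intro o
  cases o with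
  | none => exact (hH _ le_rfl _).trans (hH _ le_rfl _).symm
  | some k => exact ((hs' k).trans (hts k).symm).trans (hs (some k)).symm

/-- the sheaf `V ↦ H(e V)` on `Z` -/
noncomputable def eS : CohTop.Ab (Zc U) := ⟨eP U H, eP_isSheaf U H hH⟩

/-- the comparison `i_* (e^* H) ⟶ H` -/
noncomputable def θ : (E U).obj (eS U H hH) ⟶ H :=
  ⟨{ app := fun W => H.obj.map (homOfLE (le_e_tr U W.unop)).op
     naturality := fun W W' f => by
       show H.obj.map _ ≫ H.obj.map _ = H.obj.map _ ≫ H.obj.map _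
       rw [← H.obj.map_comp, ← H.obj.map_comp]
       rfl }⟩

/-- the two-element cover of `e (tr W)` -/
def cov2 (W : Opens X) : Bool → Opens X
  | true => W
  | false => U

lemma cov2_le (W : Opens X) (b : Bool) : cov2 U W b ≤ e U (tr U W) := by
  cases b
  · exact U_le_e U _
  · exact le_e_tr U W

lemma le_cov2 (W : Opens X) : e U (tr U W) ≤ iSup (cov2 U W) := by
  intro x hx
  rcases e_tr_le U W hx with h | h
  · exact Opens.mem_iSup.2 ⟨true, h⟩
  · exact Opens.mem_iSup.2 ⟨false, h⟩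

include hH in
lemma θ_bijective (W : Opens X) : Function.Bijective ((θ U H hH).hom.app (op W)).hom := by
  constructor
  · rw [injective_iff_map_eq_zero]
    intro s hs
    have hs' : res H.obj (le_e_tr U W) s = 0 := hs
    apply ext_of_cover H (cov2 U W) (e U (tr U W)) (cov2_le U W) (le_cov2 U W)
    intro b
    refine Eq.trans ?_ (map_zero _).symm
    cases b
    · exact hH _ le_rfl _
    · exact hs'
  · intro t
    obtain ⟨tt, h1, h2⟩ : ∃ tt : ∀ b : Bool, H.obj.obj (op (cov2 U W b)),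
        tt true = t ∧ tt false = 0 :=
      ⟨fun b => match b with
        | true => t
        | false => 0, rfl, rfl⟩
    obtain ⟨s, hs⟩ := glue H (cov2 U W) (e U (tr U W)) (cov2_le U W) (le_cov2 U W) tt (by
      intro b b'
      cases b <;> cases b'
      · rfl
      · exact (hH _ inf_le_left _).trans (hH _ inf_le_left _).symm
      · exact (hH _ inf_le_right _).trans (hH _ inf_le_right _).symm
      · rfl)
    exact ⟨s, (hs true).trans h1⟩

include hH in
lemma θ_isIso : IsIso (θ U H hH) := isIso_of_app_bijective _ (θ_bijective U H hH)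

end EI

lemma sectSupp_vanish (F : CohTop.Ab X) (W : Opens X) (hW : W ≤ U)
    (s : (CohCx.sectSupp U F).obj.obj (op W)) : s = 0 := by
  apply ι_injective U F W
  refine Eq.trans ?_ (map_zero _).symm
  have h := res_ι U F W s
  have h2 := congrArg (res F.obj (le_inf le_rfl hW : W ≤ W ⊓ U)) h
  rw [res_res, res_self, map_zero] at h2
  exact h2

lemma comp_unit_eq_zero {G : CohTop.Ab (Zc U)} {F : CohTop.Ab X} (φ : (E U).obj G ⟶ F) :
    φ ≫ (pbAdj U).unit.app F = 0 := by
  apply hom_eq_zero_of_app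
  intro W s
  show (((pbAdj U).unit.app F).hom.app (op W)).hom ((φ.hom.app (op W)).hom s) = 0
  rw [unit_app_eq_zero_iff]
  have h1 := res_app _ φ.hom (inf_le_left : W ⊓ U ≤ W) s
  have : res ((E U).obj G).obj (inf_le_left : W ⊓ U ≤ W) s = 0 :=
    sec_bot G (tr U (W ⊓ U)) (tr_inf_U_le U W) _
  rw [← h1, this, map_zero]

instance isIso_unit_sectSupp (F : CohTop.Ab X) :
    IsIso ((adjLE U).unit.app (CohCx.sectSupp U F)) := by
  haveI := θ_isIso U (CohCx.sectSupp U F) (sectSupp_vanish U F)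
  exact (adjLE U).isIso_unit_app_of_iso (asIso (θ U _ (sectSupp_vanish U F))).symm

/-- the hom equivalence, forward direction -/
noncomputable def toF {G : CohTop.Ab (Zc U)} {F : CohTop.Ab X} (φ : (E U).obj G ⟶ F) :
    G ⟶ (L U).obj (CohCx.sectSupp U F) :=
  (E U).preimage (kernel.lift _ φ (comp_unit_eq_zero U φ) ≫
    (adjLE U).unit.app (CohCx.sectSupp U F))

lemma map_toF {G : CohTop.Ab (Zc U)} {F : CohTop.Ab X} (φ : (E U).obj G ⟶ F) :
    (E U).map (toF U φ) = kernel.lift _ φ (comp_unit_eq_zero U φ) ≫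
      (adjLE U).unit.app (CohCx.sectSupp U F) :=
  Functor.map_preimage _ _

/-- the hom equivalence, backward direction -/
noncomputable def invF {G : CohTop.Ab (Zc U)} {F : CohTop.Ab X}
    (ψ : G ⟶ (L U).obj (CohCx.sectSupp U F)) : (E U).obj G ⟶ F :=
  (E U).map ψ ≫ inv ((adjLE U).unit.app (CohCx.sectSupp U F)) ≫ ι U F

lemma invF_toF {G : CohTop.Ab (Zc U)} {F : CohTop.Ab X} (φ : (E U).obj G ⟶ F) :
    invF U (toF U φ) = φ := by
  dsimp only [invF]
  rw [map_toF, Category.assoc, IsIso.hom_inv_id_assoc]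
  exact kernel.lift_ι _ _ _

lemma lift_invF {G : CohTop.Ab (Zc U)} {F : CohTop.Ab X}
    (ψ : G ⟶ (L U).obj (CohCx.sectSupp U F)) :
    kernel.lift _ (invF U ψ) (comp_unit_eq_zero U (invF U ψ)) =
      (E U).map ψ ≫ inv ((adjLE U).unit.app (CohCx.sectSupp U F)) := by
  rw [← cancel_mono (ι U F)]
  refine (kernel.lift_ι _ _ _).trans ?_
  dsimp only [invF]
  rw [Category.assoc]

lemma toF_invF {G : CohTop.Ab (Zc U)} {F : CohTop.Ab X}
    (ψ : G ⟶ (L U).obj (CohCx.sectSupp U F)) : toF U (invF U ψ) = ψ := by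
  apply (E U).map_injective
  rw [map_toF, lift_invF, Category.assoc, IsIso.inv_hom_id, Category.comp_id]

/-- the hom equivalence -/
noncomputable def homEquiv (G : CohTop.Ab (Zc U)) (F : CohTop.Ab X) :
    ((E U).obj G ⟶ F) ≃ (G ⟶ (L U).obj (CohCx.sectSupp U F)) where
  toFun φ := toF U φ
  invFun ψ := invF U ψ
  left_inv φ := invF_toF U φ
  right_inv ψ := toF_invF U ψ

/-- `i_* ⊣ i⁻¹ Γ_Z` -/
noncomputable def adjunction : E U ⊣ LocCohZ.sectSuppF U ⋙ L U :=
  Adjunction.mkOfHomEquiv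
    { homEquiv := fun G F => homEquiv U G F
      homEquiv_naturality_left_symm := by
        intro G' G F f g
        show (E U).map (f ≫ g) ≫ _ = (E U).map f ≫ (E U).map g ≫ _
        rw [Functor.map_comp, Category.assoc]
      homEquiv_naturality_right := by
        intro G F F' f g
        apply (E U).map_injective
        have hn := (adjLE U).unit.naturality ((LocCohZ.sectSuppF U).map g)
        have hk : kernel.lift _ (f ≫ g) (comp_unit_eq_zero U (f ≫ g)) =
            kernel.lift _ f (comp_unit_eq_zero U f) ≫ (LocCohZ.sectSuppF U).map g :=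
          chase_lift _ _ _ (ι U F) (ι U F') f g (kernel.lift_ι _ _ _) (kernel.lift_ι _ _ _)
            (map_ι U g)
        have h1 : (E U).map (toF U (f ≫ g)) = _ := map_toF U (f ≫ g)
        have h2 : (E U).map (toF U f ≫ (LocCohZ.sectSuppF U ⋙ L U).map g) =
            (kernel.lift _ f (comp_unit_eq_zero U f) ≫
              (adjLE U).unit.app (CohCx.sectSupp U F)) ≫
              (E U).map ((L U).map ((LocCohZ.sectSuppF U).map g)) := by
          rw [Functor.map_comp, map_toF]
          rfl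
        exact h1.trans ((chase_unit _ _ _ _ _ _ hk hn).trans h2.symm) }

end Groth.Agent.Lib.ClosedAdj
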