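import Mathlib
import Groth.Prelude.Def_SGA4a

set_option autoImplicit false

/-! The closed complement of a subterminal object `U`: the pushout `U ⨿_{U×X} X` is a reflector,
and the comparison square is cartesian iff the map is an isomorphism over `U`. -/

namespace Groth.Agent.Lib.ClosedComplH8
open CategoryTheory CategoryTheory.Limits

universe v u
variable {E : Type u} [Category.{v} E] [HasBinaryProducts E] [HasPushouts E] (U : E)

/-- the pushout `U ⨿_{U × X} X`. -/
noncomputable abbrev cu (X : E) : E := pushout (prod.fst : U ⨯ X ⟶ U) (prod.snd : U ⨯ X ⟶ X)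

section
variable (hsub : ∀ (T : E) (a b : T ⟶ U), a = b)
include hsub

lemma mono_snd (X : E) : Mono (prod.snd : U ⨯ X ⟶ X) :=
  ⟨fun a b h => Limits.prod.hom_ext (hsub _ _ _) h⟩

/-- `U × Y_CU → U` is an isomorphism when `U` is subterminal and `U × -` preserves pushouts. -/
lemma isIso_fst_pushout (Y : E)
    [PreservesColimitsOfShape WalkingSpan (prod.functor.obj U)] :
    IsIso (prod.fst : U ⨯ pushout (prod.fst : U ⨯ Y ⟶ U) (prod.snd : U ⨯ Y ⟶ Y) ⟶ U) := by
  have HPO : IsPushout (prod.fst : U ⨯ Y ⟶ U) prod.snd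
      (pushout.inl (prod.fst : U ⨯ Y ⟶ U) (prod.snd : U ⨯ Y ⟶ Y))
      (pushout.inr (prod.fst : U ⨯ Y ⟶ U) (prod.snd : U ⨯ Y ⟶ Y)) := IsPushout.of_hasPushout _ _
  have HPO' := HPO.map (prod.functor.obj U)
  have key : (prod.fst : U ⨯ pushout (prod.fst : U ⨯ Y ⟶ U) (prod.snd : U ⨯ Y ⟶ Y) ⟶ U) ≫
      pushout.inl (prod.fst : U ⨯ Y ⟶ U) (prod.snd : U ⨯ Y ⟶ Y) = prod.snd := by
    apply HPO'.hom_ext
    · change prod.map (𝟙 U) (pushout.inl _ _) ≫ (prod.fst ≫ pushout.inl _ _) =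
        prod.map (𝟙 U) (pushout.inl _ _) ≫ prod.snd
      rw [prod.map_fst_assoc, prod.map_snd, Category.id_comp,
        hsub _ (prod.fst : U ⨯ U ⟶ U) prod.snd]
    · change prod.map (𝟙 U) (pushout.inr _ _) ≫ (prod.fst ≫ pushout.inl _ _) =
        prod.map (𝟙 U) (pushout.inr _ _) ≫ prod.snd
      rw [prod.map_fst_assoc, prod.map_snd, Category.id_comp]
      exact pushout.condition
  refine ⟨prod.lift (𝟙 U) (pushout.inl (prod.fst : U ⨯ Y ⟶ U) (prod.snd : U ⨯ Y ⟶ Y)), ?_, ?_⟩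
  · apply Limits.prod.hom_ext
    · rw [Category.assoc, prod.lift_fst, Category.comp_id, Category.id_comp]
    · rw [Category.assoc, prod.lift_snd, key, Category.id_comp]
  · rw [prod.lift_fst]

end

/-- Two maps into an object of the closed complement from an object over `U` agree. -/
lemma hom_ext_of_closed {Y : E} (hY : IsIso (prod.fst : U ⨯ Y ⟶ U)) {T : E} (t : T ⟶ U)
    (a b : T ⟶ Y) : a = b := by
  have h : prod.lift t a = prod.lift t b := by
    rw [← cancel_mono (prod.fst : U ⨯ Y ⟶ U), prod.lift_fst, prod.lift_fst]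
  have h2 := congrArg (fun φ => φ ≫ (prod.snd : U ⨯ Y ⟶ Y)) h
  simp only [prod.lift_snd] at h2
  exact h2

/-- The unique map `U ⟶ Y` for `Y` in the closed complement. -/
noncomputable def toClosed {Y : E} (hY : IsIso (prod.fst : U ⨯ Y ⟶ U)) : U ⟶ Y :=
  inv (prod.fst : U ⨯ Y ⟶ U) ≫ prod.snd

/-- Extension of a map `X ⟶ Y` to `X_CU ⟶ Y`, for `Y` in the closed complement. -/
noncomputable def descClosed {X Y : E} (hY : IsIso (prod.fst : U ⨯ Y ⟶ U)) (f : X ⟶ Y) :
    cu U X ⟶ Y :=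
  pushout.desc (toClosed U hY) f (hom_ext_of_closed U hY prod.fst _ _)

@[simp]
lemma inr_descClosed {X Y : E} (hY : IsIso (prod.fst : U ⨯ Y ⟶ U)) (f : X ⟶ Y) :
    pushout.inr (prod.fst : U ⨯ X ⟶ U) (prod.snd : U ⨯ X ⟶ X) ≫ descClosed U hY f = f :=
  pushout.inr_desc _ _ _

lemma descClosed_uniq {X Y : E} (hY : IsIso (prod.fst : U ⨯ Y ⟶ U)) (g g' : cu U X ⟶ Y)
    (h : pushout.inr (prod.fst : U ⨯ X ⟶ U) (prod.snd : U ⨯ X ⟶ X) ≫ g =
      pushout.inr (prod.fst : U ⨯ X ⟶ U) (prod.snd : U ⨯ X ⟶ X) ≫ g') : g = g' := by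
  apply pushout.hom_ext
  · exact hom_ext_of_closed U hY (𝟙 U) _ _
  · exact h

lemma isPullback_snd_map {X X' : E} (m : X ⟶ X') :
    IsPullback (prod.snd : U ⨯ X ⟶ X) (prod.map (𝟙 U) m) m (prod.snd : U ⨯ X' ⟶ X') := by
  refine ⟨⟨(prod.map_snd _ _).symm⟩, ⟨PullbackCone.IsLimit.mk _
    (fun s => prod.lift (s.snd ≫ prod.fst) s.fst)
    (fun s => prod.lift_snd _ _) (fun s => ?_) (fun s m' h1 h2 => ?_)⟩⟩
  · apply Limits.prod.hom_ext
    · rw [Category.assoc, prod.map_fst, Category.comp_id, prod.lift_fst]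
    · rw [Category.assoc, prod.map_snd, prod.lift_snd_assoc, s.condition]
  · apply Limits.prod.hom_ext
    · rw [prod.lift_fst, ← h2, Category.assoc, prod.map_fst, Category.comp_id]
    · rw [prod.lift_snd, h1]

/-- The comparison square `X → X_CU` over `X' → X'_CU` is cartesian iff `U × m` is an
isomorphism. -/
theorem isPullback_iff [Adhesive E] (hsub : ∀ (T : E) (a b : T ⟶ U), a = b)
    {X X' : E} (m : X ⟶ X') (k : cu U X ⟶ cu U X')
    (hk₁ : pushout.inl (prod.fst : U ⨯ X ⟶ U) (prod.snd : U ⨯ X ⟶ X) ≫ k =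
      pushout.inl (prod.fst : U ⨯ X' ⟶ U) (prod.snd : U ⨯ X' ⟶ X'))
    (hk₂ : pushout.inr (prod.fst : U ⨯ X ⟶ U) (prod.snd : U ⨯ X ⟶ X) ≫ k =
      m ≫ pushout.inr (prod.fst : U ⨯ X' ⟶ U) (prod.snd : U ⨯ X' ⟶ X')) :
    IsPullback m (pushout.inr (prod.fst : U ⨯ X ⟶ U) (prod.snd : U ⨯ X ⟶ X))
        (pushout.inr (prod.fst : U ⨯ X' ⟶ U) (prod.snd : U ⨯ X' ⟶ X')) k ↔
      IsIso (prod.map (𝟙 U) m) := by
  constructor
  · intro h
    have hw : (prod.snd : U ⨯ X' ⟶ X') ≫ pushout.inr (prod.fst : U ⨯ X' ⟶ U) prod.snd =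
        ((prod.fst : U ⨯ X' ⟶ U) ≫ pushout.inl (prod.fst : U ⨯ X ⟶ U) prod.snd) ≫ k := by
      rw [Category.assoc, hk₁]
      exact pushout.condition.symm
    have hr1 : h.lift prod.snd ((prod.fst : U ⨯ X' ⟶ U) ≫ pushout.inl _ _) hw ≫ m = prod.snd :=
      h.lift_fst _ _ _
    have hr2 : h.lift prod.snd ((prod.fst : U ⨯ X' ⟶ U) ≫ pushout.inl _ _) hw ≫
        pushout.inr _ _ = (prod.fst : U ⨯ X' ⟶ U) ≫ pushout.inl _ _ := h.lift_snd _ _ _
    refine ⟨prod.lift prod.fst (h.lift prod.snd ((prod.fst : U ⨯ X' ⟶ U) ≫ pushout.inl _ _) hw),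
      ?_, ?_⟩
    · apply Limits.prod.hom_ext
      · rw [Category.assoc, prod.lift_fst, prod.map_fst, Category.comp_id, Category.id_comp]
      · rw [Category.assoc, prod.lift_snd, Category.id_comp]
        apply h.hom_ext
        · rw [Category.assoc, hr1, prod.map_snd]
        · rw [Category.assoc, hr2, prod.map_fst_assoc, Category.id_comp]
          exact pushout.condition
    · apply Limits.prod.hom_ext
      · rw [Category.assoc, prod.map_fst, Category.comp_id, prod.lift_fst, Category.id_comp]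
      · rw [Category.assoc, prod.map_snd, prod.lift_snd_assoc, hr1, Category.id_comp]
  · intro hiso
    haveI := mono_snd U hsub X'
    have H' : IsPushout (prod.fst : U ⨯ X' ⟶ U) (prod.snd : U ⨯ X' ⟶ X')
        (pushout.inl _ _) (pushout.inr _ _) := IsPushout.of_hasPushout _ _
    have hvk := Adhesive.van_kampen' H'
    have hb1 : IsPullback (prod.fst : U ⨯ X ⟶ U) (prod.map (𝟙 U) m) (𝟙 U)
        (prod.fst : U ⨯ X' ⟶ U) :=
      IsPullback.of_vert_isIso ⟨by rw [prod.map_fst]⟩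
    have hb2 := isPullback_snd_map U m
    have h3 := (hvk (prod.fst : U ⨯ X ⟶ U) (prod.snd : U ⨯ X ⟶ X) (pushout.inl _ _)
      (pushout.inr _ _) (prod.map (𝟙 U) m) (𝟙 U) m k hb1 hb2
      ⟨by rw [hk₁, Category.id_comp]⟩ ⟨hk₂⟩ ⟨pushout.condition⟩).1
      (IsPushout.of_hasPushout _ _)
    exact h3.2.flip


section reflector
variable (hsub : ∀ (T : E) (a b : T ⟶ U), a = b)
  [PreservesColimitsOfShape WalkingSpan (prod.functor.obj U)]

/-- object part of the reflector -/
noncomputable def reflObj (X : E) : (SGA4.closedCompl U).FullSubcategory :=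
  ⟨cu U X, isIso_fst_pushout U hsub X⟩

/-- hom-set bijection of the reflection -/
noncomputable def reflEquiv (X : E) (Y : (SGA4.closedCompl U).FullSubcategory) :
    (reflObj U hsub X ⟶ Y) ≃ (X ⟶ (SGA4.closedCompl U).ι.obj Y) where
  toFun g := pushout.inr (prod.fst : U ⨯ X ⟶ U) (prod.snd : U ⨯ X ⟶ X) ≫ g.hom
  invFun f := ObjectProperty.homMk (descClosed U Y.property f)
  left_inv g := by
    apply ObjectProperty.hom_ext
    exact descClosed_uniq U Y.property _ _ (inr_descClosed U Y.property _)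
  right_inv f := inr_descClosed U Y.property f

/-- the reflector onto the closed complement -/
noncomputable def refl : E ⥤ (SGA4.closedCompl U).FullSubcategory :=
  Adjunction.leftAdjointOfEquiv (G := (SGA4.closedCompl U).ι) (F_obj := reflObj U hsub)
    (reflEquiv U hsub) (fun X Y Y' g h => by
      show pushout.inr _ _ ≫ (h ≫ g).hom = (pushout.inr _ _ ≫ h.hom) ≫ g.hom
      rw [Category.assoc]
      rfl)

/-- the reflection adjunction -/
noncomputable def reflAdj : refl U hsub ⊣ (SGA4.closedCompl U).ι :=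
  Adjunction.adjunctionOfEquivLeft (reflEquiv U hsub) _

lemma refl_map_hom {X X' : E} (m : X ⟶ X') :
    ((refl U hsub).map m).hom = descClosed U (isIso_fst_pushout U hsub X')
      (m ≫ pushout.inr (prod.fst : U ⨯ X' ⟶ U) (prod.snd : U ⨯ X' ⟶ X')) := by
  show ((reflEquiv U hsub X (reflObj U hsub X')).symm
    (m ≫ (reflEquiv U hsub X' (reflObj U hsub X')) (𝟙 _))).hom = _
  show descClosed U _ _ = _
  congr 1
  show m ≫ (pushout.inr _ _ ≫ 𝟙 _) = _
  rw [Category.comp_id]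

lemma inr_refl_map {X X' : E} (m : X ⟶ X') :
    pushout.inr (prod.fst : U ⨯ X ⟶ U) (prod.snd : U ⨯ X ⟶ X) ≫ ((refl U hsub).map m).hom =
      m ≫ pushout.inr (prod.fst : U ⨯ X' ⟶ U) (prod.snd : U ⨯ X' ⟶ X') := by
  rw [refl_map_hom]
  exact inr_descClosed U _ _

lemma inl_refl_map {X X' : E} (m : X ⟶ X') :
    pushout.inl (prod.fst : U ⨯ X ⟶ U) (prod.snd : U ⨯ X ⟶ X) ≫ ((refl U hsub).map m).hom =
      pushout.inl (prod.fst : U ⨯ X' ⟶ U) (prod.snd : U ⨯ X' ⟶ X') :=
  hom_ext_of_closed U (isIso_fst_pushout U hsub X') (𝟙 U) _ _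

include hsub in
/-- joint conservativity of `U × -` and any reflector onto the closed complement. -/
theorem isIso_of_isIso_prod_of_isIso_refl [Adhesive E]
    (L : E ⥤ (SGA4.closedCompl U).FullSubcategory) (adj : L ⊣ (SGA4.closedCompl U).ι)
    {X Y : E} (m : X ⟶ Y) (h1 : IsIso (prod.map (𝟙 U) m)) (h2 : IsIso (L.map m)) : IsIso m := by
  have e : L ≅ refl U hsub := adj.leftAdjointUniq (reflAdj U hsub)
  haveI : IsIso ((refl U hsub).map m) := (NatIso.isIso_map_iff e m).1 h2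
  haveI hk : IsIso ((refl U hsub).map m).hom :=
    (inferInstance : IsIso ((SGA4.closedCompl U).ι.map ((refl U hsub).map m)))
  have hpb := (isPullback_iff U hsub m ((refl U hsub).map m).hom (inl_refl_map U hsub m)
    (inr_refl_map U hsub m)).2 h1
  exact hpb.isIso_fst_of_isIso hk

end reflector

end Groth.Agent.Lib.ClosedComplH8
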