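import Mathlib
import Groth.Prelude.Def_DescFam
import Groth.Agent.Lib.DescIso_helper9
import Groth.Agent.Lib.ClosedDescent_helper7

/-!
# fpqc descent of quasi-coherent ideal sheaves / closed immersions along covering FAMILIES (helper7)
-/

set_option autoImplicit false
set_option backward.isDefEq.respectTransparency false
set_option backward.isDefEq.respectTransparency.types false
universe u
open CategoryTheory CategoryTheory.Limits AlgebraicGeometry

namespace Groth.Agent.Lib.ClosedDescentFam_helper7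

open Scheme
open Groth.Agent.Lib.ClosedDescent_helper7

/-! ### Zariski locality of ideal sheaves -/

theorem eq_iInf_map_comap {X : Scheme.{u}} (K : X.IdealSheafData) (𝒰 : X.OpenCover) :
    K = ⨅ i, (K.comap (𝒰.f i)).map (𝒰.f i) := by
  have h := Scheme.Hom.iInf_ker_openCover_map_comp K.subschemeι (𝒰.pullback₁ K.subschemeι)
  rw [IdealSheafData.ker_subschemeι] at h
  refine h.symm.trans (iInf_congr fun i => ?_)
  show (pullback.fst K.subschemeι (𝒰.f i) ≫ K.subschemeι).ker = _
  rw [pullback.condition, Scheme.Hom.ker_comp, ker_snd_of_isClosedImmersion,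
    IdealSheafData.ker_subschemeι]

theorem le_of_openCover {X : Scheme.{u}} {K₁ K₂ : X.IdealSheafData} (𝒰 : X.OpenCover)
    (h : ∀ i, K₁.comap (𝒰.f i) ≤ K₂.comap (𝒰.f i)) : K₁ ≤ K₂ := by
  refine le_trans ?_ (eq_iInf_map_comap K₂ 𝒰).ge
  exact le_iInf fun i => IdealSheafData.le_map_iff_comap_le.2 (h i)

theorem ext_of_openCover {X : Scheme.{u}} {K₁ K₂ : X.IdealSheafData} (𝒰 : X.OpenCover)
    (h : ∀ i, K₁.comap (𝒰.f i) = K₂.comap (𝒰.f i)) : K₁ = K₂ :=
  le_antisymm (le_of_openCover 𝒰 fun i => (h i).le) (le_of_openCover 𝒰 fun i => (h i).ge)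

/-! ### Finite families -/

theorem quasiCompact_sigmaDesc {n : ℕ} {X : Scheme.{u}} {Y : Fin n → Scheme.{u}}
    (f : ∀ k, Y k ⟶ X) [∀ k, QuasiCompact (f k)] : QuasiCompact (Sigma.desc f) := by
  refine ⟨fun U hU hUc => ?_⟩
  have e : (Sigma.desc f) ⁻¹' U = ⋃ k, (Sigma.ι Y k) '' ((f k) ⁻¹' U) := by
    ext y
    constructor
    · intro hy
      obtain ⟨k, x, rfl⟩ : ∃ k, ∃ x, (sigmaOpenCover Y).f k x = y :=
        ⟨_, (sigmaOpenCover Y).covers y⟩
      refine Set.mem_iUnion.2 ⟨k, x, ?_, rfl⟩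
      have hx : Sigma.desc f (Sigma.ι Y k x) = f k x := by
        rw [← Scheme.Hom.comp_apply, Sigma.ι_desc]
      show f k x ∈ U
      rw [← hx]; exact hy
    · intro hy
      obtain ⟨k, x, hx', rfl⟩ := Set.mem_iUnion.1 hy
      show Sigma.desc f (Sigma.ι Y k x) ∈ U
      rw [← Scheme.Hom.comp_apply, Sigma.ι_desc]; exact hx'
  rw [e]
  exact isCompact_iUnion fun k =>
    (QuasiCompact.isCompact_preimage (f := f k) U hU hUc).image (Sigma.ι Y k).continuous

theorem ker_snd_comp {Z X S Y : Scheme.{u}} (i : Z ⟶ X) [IsClosedImmersion i] (g : X ⟶ S)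
    (g' : Y ⟶ S) :
    (pullback.snd (i ≫ g) g').ker =
      ((i.ker).comap (pullback.fst g g')).map (pullback.snd g g') := by
  rw [← Scheme.Hom.ker_comp_of_isIso (pullbackRightPullbackFstIso g g' i).hom
    (pullback.snd (i ≫ g) g'), pullbackRightPullbackFstIso_hom_snd, Scheme.Hom.ker_comp,
    ker_snd_of_isClosedImmersion]

theorem key_le {X U V Vk Zk : Scheme.{u}} (f : X ⟶ U) (hl : V ⟶ U) (ιk : Zk ⟶ X) (ik : Zk ⟶ Vk)
    [IsClosedImmersion ik] (hk : Vk ⟶ U) (e : ιk ≫ f = ik ≫ hk) (Il : V.IdealSheafData)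
    (hI : (ik.ker).comap (pullback.fst hk hl) = Il.comap (pullback.snd hk hl)) :
    Il ≤ (pullback.fst (pullback.fst f hl) ιk ≫ pullback.snd f hl).ker := by
  have hc : pullback.snd (pullback.fst f hl) ιk ≫ (ik ≫ hk) =
      (pullback.fst (pullback.fst f hl) ιk ≫ pullback.snd f hl) ≫ hl := by
    rw [← e, ← Category.assoc, ← pullback.condition, Category.assoc, pullback.condition,
      Category.assoc]
  have hm : pullback.lift (pullback.snd (pullback.fst f hl) ιk)
      (pullback.fst (pullback.fst f hl) ιk ≫ pullback.snd f hl) hc ≫ pullback.snd (ik ≫ hk) hl =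
      pullback.fst (pullback.fst f hl) ιk ≫ pullback.snd f hl := pullback.lift_snd _ _ _
  calc Il ≤ (Il.comap (pullback.snd hk hl)).map (pullback.snd hk hl) :=
        IdealSheafData.le_map_comap _ _
    _ = (pullback.snd (ik ≫ hk) hl).ker := by rw [ker_snd_comp, hI]
    _ ≤ (pullback.lift (pullback.snd (pullback.fst f hl) ιk)
          (pullback.fst (pullback.fst f hl) ιk ≫ pullback.snd f hl) hc ≫
            pullback.snd (ik ≫ hk) hl).ker := Scheme.Hom.le_ker_comp _ _
    _ = _ := by rw [hm]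

/-- Existence half for a finite flat quasi-compact family (no surjectivity needed). -/
theorem finite_exists {n : ℕ} {U : Scheme.{u}} {V : Fin n → Scheme.{u}} (h : ∀ k, V k ⟶ U)
    [∀ k, Flat (h k)] [∀ k, QuasiCompact (h k)]
    (I : ∀ k, (V k).IdealSheafData)
    (hI : ∀ k l, (I k).comap (pullback.fst (h k) (h l)) = (I l).comap (pullback.snd (h k) (h l)))
    (l : Fin n) : (⨅ k, (I k).map (h k)).comap (h l) = I l := by
  apply le_antisymm (IdealSheafData.le_map_iff_comap_le.1 (iInf_le _ l))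
  obtain ⟨f, hf⟩ : ∃ f : (∐ fun k => (I k).subscheme) ⟶ U,
      f = Sigma.desc (fun k => (I k).subschemeι ≫ h k) := ⟨_, rfl⟩
  have hιf : ∀ k, Sigma.ι (fun k => (I k).subscheme) k ≫ f = (I k).subschemeι ≫ h k := by
    intro k; rw [hf]; exact Sigma.ι_desc _ _
  haveI : QuasiCompact f := by rw [hf]; exact quasiCompact_sigmaDesc _
  have hker : f.ker = ⨅ k, (I k).map (h k) := by
    rw [← Scheme.Hom.iInf_ker_openCover_map_comp f (sigmaOpenCover fun k => (I k).subscheme)]
    refine iInf_congr fun k => ?_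
    show (Sigma.ι (fun k => (I k).subscheme) k ≫ f).ker = _
    rw [hιf k]; rfl
  rw [← hker, ← ker_snd_of_flat f (h l)]
  haveI : QuasiCompact (pullback.snd f (h l)) :=
    MorphismProperty.pullback_snd (P := @QuasiCompact) _ _ inferInstance
  rw [← Scheme.Hom.iInf_ker_openCover_map_comp (pullback.snd f (h l))
    ((sigmaOpenCover fun k => (I k).subscheme).pullback₁ (pullback.fst f (h l)))]
  refine le_iInf fun k => ?_
  exact key_le f (h l) (Sigma.ι (fun k => (I k).subscheme) k) (I k).subschemeι (h k) (hιf k) (I l)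
    (by rw [IdealSheafData.ker_subschemeι]; exact hI k l)

/-- Injectivity half for a finite jointly surjective flat quasi-compact family. -/
theorem finite_inj {n : ℕ} {U : Scheme.{u}} {V : Fin n → Scheme.{u}} (h : ∀ k, V k ⟶ U)
    [∀ k, Flat (h k)] [∀ k, QuasiCompact (h k)] (hs : ∀ x : U, ∃ k, x ∈ Set.range (h k))
    {J₁ J₂ : U.IdealSheafData} (hJ : ∀ k, J₁.comap (h k) = J₂.comap (h k)) : J₁ = J₂ := by
  haveI : QuasiCompact (Sigma.desc h) := quasiCompact_sigmaDesc h
  haveI : Flat (Sigma.desc h) := inferInstance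
  haveI : Surjective (Sigma.desc h) := by
    refine ⟨fun x => ?_⟩
    obtain ⟨k, y, rfl⟩ := hs x
    exact ⟨Sigma.ι V k y, by rw [← Scheme.Hom.comp_apply, Sigma.ι_desc]⟩
  apply comap_injective (Sigma.desc h)
  apply ext_of_openCover (sigmaOpenCover V)
  intro k
  show (J₁.comap (Sigma.desc h)).comap (Sigma.ι V k) = (J₂.comap (Sigma.desc h)).comap (Sigma.ι V k)
  rw [← IdealSheafData.comap_comp, ← IdealSheafData.comap_comp, Sigma.ι_desc]
  exact hJ k

/-! ### Transport of the compatibility condition -/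

theorem compat_transport {P Q₁ Q₂ U W₁ W₂ : Scheme.{u}} (g₁ : Q₁ ⟶ P) (g₂ : Q₂ ⟶ P)
    (I₁ : Q₁.IdealSheafData) (I₂ : Q₂.IdealSheafData)
    (h : I₁.comap (pullback.fst g₁ g₂) = I₂.comap (pullback.snd g₁ g₂))
    (r₁ : W₁ ⟶ U) (r₂ : W₂ ⟶ U) (j₁ : W₁ ⟶ Q₁) (j₂ : W₂ ⟶ Q₂) (j : U ⟶ P)
    (e₁ : r₁ ≫ j = j₁ ≫ g₁) (e₂ : r₂ ≫ j = j₂ ≫ g₂) :
    (I₁.comap j₁).comap (pullback.fst r₁ r₂) = (I₂.comap j₂).comap (pullback.snd r₁ r₂) := by
  have h1 : pullback.map r₁ r₂ g₁ g₂ j₁ j₂ j e₁ e₂ ≫ pullback.fst g₁ g₂ =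
      pullback.fst r₁ r₂ ≫ j₁ := pullback.lift_fst _ _ _
  have h2 : pullback.map r₁ r₂ g₁ g₂ j₁ j₂ j e₁ e₂ ≫ pullback.snd g₁ g₂ =
      pullback.snd r₁ r₂ ≫ j₂ := pullback.lift_snd _ _ _
  rw [← IdealSheafData.comap_comp I₁ (pullback.fst r₁ r₂) j₁,
    ← IdealSheafData.comap_comp I₂ (pullback.snd r₁ r₂) j₂, ← h1, ← h2,
    IdealSheafData.comap_comp, IdealSheafData.comap_comp, h]

/-! ### Local solutions -/

variable {P : Scheme.{u}} {ι : Type u} {Q : ι → Scheme.{u}} (g : ∀ i, Q i ⟶ P)
  (I : ∀ i, (Q i).IdealSheafData)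

/-- `K` on `U'` (mapping to `P` by `j`) is a local solution of the descent problem. -/
def IsLocalSol {U' : Scheme.{u}} (j : U' ⟶ P) (K : U'.IdealSheafData) : Prop :=
  ∀ (i : ι) (W' : Scheme.{u}) (jW : W' ⟶ Q i) (r : W' ⟶ U'), r ≫ j = jW ≫ g i →
    K.comap r = (I i).comap jW

theorem isLocalSol_of_global (J : P.IdealSheafData) (hJ : ∀ i, J.comap (g i) = I i)
    {U' : Scheme.{u}} (j : U' ⟶ P) : IsLocalSol g I j (J.comap j) := by
  intro i W' jW r e
  rw [← IdealSheafData.comap_comp, e, IdealSheafData.comap_comp, hJ i]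

theorem isLocalSol_comap {U' U'' : Scheme.{u}} (j : U' ⟶ P) (K : U'.IdealSheafData)
    (hK : IsLocalSol g I j K) (m : U'' ⟶ U') : IsLocalSol g I (m ≫ j) (K.comap m) := by
  intro i W' jW r e
  rw [← IdealSheafData.comap_comp]
  exact hK i W' jW (r ≫ m) (by rw [Category.assoc]; exact e)

theorem local_core
    (h : ∀ i j, (I i).comap (pullback.fst (g i) (g j)) = (I j).comap (pullback.snd (g i) (g j)))
    {U' : Scheme.{u}} (j : U' ⟶ P) {n : ℕ} (a : Fin n → ι) {V' : Fin n → Scheme.{u}}
    (jV : ∀ k, V' k ⟶ Q (a k)) (hk : ∀ k, V' k ⟶ U') (e : ∀ k, hk k ≫ j = jV k ≫ g (a k))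
    [∀ k, Flat (hk k)] [∀ k, QuasiCompact (hk k)] (hs : ∀ x : U', ∃ k, x ∈ Set.range (hk k)) :
    ∃! K : U'.IdealSheafData, IsLocalSol g I j K := by
  have hI' : ∀ k l, ((I (a k)).comap (jV k)).comap (pullback.fst (hk k) (hk l)) =
      ((I (a l)).comap (jV l)).comap (pullback.snd (hk k) (hk l)) := fun k l =>
    compat_transport (g (a k)) (g (a l)) (I (a k)) (I (a l)) (h (a k) (a l)) (hk k) (hk l)
      (jV k) (jV l) j (e k) (e l)
  have hKk : ∀ l, (⨅ k, ((I (a k)).comap (jV k)).map (hk k)).comap (hk l) =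
      (I (a l)).comap (jV l) :=
    finite_exists hk (fun k => (I (a k)).comap (jV k)) hI'
  refine ⟨⨅ k, ((I (a k)).comap (jV k)).map (hk k), ?_, ?_⟩
  · intro i W' jW r er
    haveI : ∀ k, Flat (pullback.fst r (hk k)) := fun k =>
      MorphismProperty.pullback_fst (P := @Flat) _ _ inferInstance
    haveI : ∀ k, QuasiCompact (pullback.fst r (hk k)) := fun k =>
      MorphismProperty.pullback_fst (P := @QuasiCompact) _ _ inferInstance
    refine finite_inj (fun k => pullback.fst r (hk k)) ?_ ?_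
    · intro w
      obtain ⟨k, v, hv⟩ := hs (r w)
      obtain ⟨t, ht, -⟩ := Scheme.Pullback.exists_preimage_pullback w v hv.symm
      exact ⟨k, t, ht⟩
    · intro k
      show ((⨅ k, ((I (a k)).comap (jV k)).map (hk k)).comap r).comap (pullback.fst r (hk k)) =
        ((I i).comap jW).comap (pullback.fst r (hk k))
      rw [← IdealSheafData.comap_comp _ (pullback.fst r (hk k)) r, pullback.condition,
        IdealSheafData.comap_comp _ (pullback.snd r (hk k)) (hk k), hKk k]
      exact (compat_transport (g i) (g (a k)) (I i) (I (a k)) (h i (a k)) r (hk k) jW (jV k) j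
        er (e k)).symm
  · intro K' hK'
    refine finite_inj hk hs fun k => ?_
    rw [hKk k]
    exact hK' (a k) (V' k) (jV k) (hk k) (e k)

theorem exists_finite_affine (hg : Presieve.ofArrows Q g ∈ Scheme.fpqcPrecoverage P) :
    (∀ i, Flat (g i)) ∧ ∀ (U : P.Opens), IsAffineOpen U →
      ∃ (n : ℕ) (a : Fin n → ι) (V : ∀ k, (Q (a k)).Opens),
        (∀ k, IsAffineOpen (V k)) ∧ ⋃ k, g (a k) '' (V k) = U := by
  obtain ⟨hg1, hg2⟩ := (show Presieve.ofArrows Q g ∈ Scheme.propQCPrecoverage @Flat P from hg)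
  let E : PreZeroHypercover.{u} P := ⟨ι, Q, g⟩
  have hE1 : E.presieve₀ ∈ Scheme.qcPrecoverage P := hg1
  have hE2 : E.presieve₀ ∈ Scheme.precoverage @Flat P := hg2
  haveI hqc : QuasiCompactCover E := Scheme.presieve₀_mem_qcPrecoverage_iff.1 hE1
  obtain ⟨-, hfl⟩ := (Scheme.presieve₀_mem_precoverage_iff E).1 hE2
  exact ⟨hfl, fun U hU => QuasiCompactCover.exists_isAffineOpen_of_isCompact E hU.isCompact⟩

theorem local_existsUnique (hg : Presieve.ofArrows Q g ∈ Scheme.fpqcPrecoverage P)
    (h : ∀ i j, (I i).comap (pullback.fst (g i) (g j)) = (I j).comap (pullback.snd (g i) (g j)))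
    (U : P.Opens) (hU : IsAffineOpen U) :
    ∃! K : (U : Scheme.{u}).IdealSheafData, IsLocalSol g I U.ι K := by
  obtain ⟨hfl, hfin⟩ := exists_finite_affine g hg
  obtain ⟨n, a, V, hV, hUn⟩ := hfin U hU
  have hle : ∀ k, V k ≤ (g (a k)) ⁻¹ᵁ U := by
    intro k x hx
    show g (a k) x ∈ (U : Set P)
    rw [← hUn]
    exact Set.mem_iUnion.2 ⟨k, x, hx, rfl⟩
  haveI : IsAffine U.toScheme := hU
  haveI : ∀ k, IsAffine (V k).toScheme := fun k => hV k
  haveI : ∀ k, Flat (g (a k)) := fun k => hfl (a k)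
  haveI : ∀ k, Flat ((g (a k)).resLE U (V k) (hle k)) := fun k => inferInstance
  haveI : ∀ k, QuasiCompact ((g (a k)).resLE U (V k) (hle k)) := fun k => inferInstance
  refine local_core g I h U.ι a (fun k => (V k).ι) (fun k => (g (a k)).resLE U (V k) (hle k))
    (fun k => Scheme.Hom.resLE_comp_ι _ _) ?_
  intro z
  have hz : (z.1 : P) ∈ ⋃ k, g (a k) '' (V k) := by rw [hUn]; exact z.2
  obtain ⟨k, x, hx, hxz⟩ := Set.mem_iUnion.1 hz
  exact ⟨k, ⟨x, hx⟩, Subtype.ext (by rw [Scheme.Hom.coe_resLE_apply]; exact hxz)⟩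

/-! ### Gluing ideal sheaves along the affine opens -/

theorem exists_glue {P : Scheme.{u}}
    (K : ∀ U : P.affineOpens, (U.1 : Scheme.{u}).IdealSheafData)
    (hK : ∀ (U V : P.affineOpens) (h : U.1 ≤ V.1), (K V).comap (P.homOfLE h) = K U) :
    ∃ J : P.IdealSheafData, ∀ U : P.affineOpens, J.comap U.1.ι = K U := by
  have hmap : ∀ (U V : P.affineOpens) (h : U.1 ≤ V.1), K V ≤ (K U).map (P.homOfLE h) :=
    fun U V h => IdealSheafData.le_map_iff_comap_le.2 (hK U V h).le
  have htr : ∀ {U V : P.directedAffineCover.I₀} (f : U ⟶ V),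
      P.directedAffineCover.functorOfLocallyDirected.map f = P.homOfLE (leOfHom f) := by
    intro U V f
    rw [← cancel_mono V.1.ι, Scheme.homOfLE_ι]
    exact P.directedAffineCover.trans_map f
  let F : P.directedAffineCover.I₀ ⥤ Scheme.{u} :=
    { obj := fun U => (K U).subscheme
      map := fun {U V} f => IdealSheafData.subschemeMap (K U) (K V) (P.homOfLE (leOfHom f))
        (hmap U V (leOfHom f))
      map_id := fun U => by
        rw [← cancel_mono (K U).subschemeι, IdealSheafData.subschemeMap_subschemeι,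
          Category.id_comp]
        exact (congrArg (fun t => (K U).subschemeι ≫ t) (Scheme.homOfLE_rfl P U.1)).trans
          (Category.comp_id _)
      map_comp := fun {U V W} f g => by
        rw [← cancel_mono (K W).subschemeι]
        simp only [Category.assoc, IdealSheafData.subschemeMap_subschemeι,
          IdealSheafData.subschemeMap_subschemeι_assoc, Scheme.homOfLE_homOfLE] }
  let α : F ⟶ P.directedAffineCover.functorOfLocallyDirected :=
    { app := fun U => (K U).subschemeι
      naturality := fun U V f => by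
        rw [htr f]
        exact IdealSheafData.subschemeMap_subschemeι (K U) (K V) (P.homOfLE (leOfHom f))
          (hmap U V (leOfHom f)) }
  have heq : NatTrans.Equifibered α := by
    intro U V f
    have sq := (isPullback_of_isClosedImmersion (K U).subschemeι (K V).subschemeι
      (IdealSheafData.subschemeMap (K U) (K V) (P.homOfLE (leOfHom f)) (hmap U V (leOfHom f)))
      (P.homOfLE (leOfHom f)) (IdealSheafData.subschemeMap_subschemeι _ _ _ _).symm
      (by rw [IdealSheafData.ker_subschemeι, IdealSheafData.ker_subschemeι]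
          exact hK U V _)).flip
    show IsPullback (F.map f) (α.app U) (α.app V)
      (P.directedAffineCover.functorOfLocallyDirected.map f)
    rw [htr f]; exact sq
  let d : Scheme.Cover.RelativeGluingData P.directedAffineCover := ⟨F, α, heq⟩
  haveI : IsClosedImmersion d.toBase := by
    apply IsZariskiLocalAtTarget.of_openCover (P := @IsClosedImmersion) P.directedAffineCover
    intro U
    have sq := (d.isPullback_natTrans_ι_toBase U).flip
    have e : sq.isoPullback.inv ≫ (K U).subschemeι =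
        pullback.snd d.toBase (P.directedAffineCover.f U) := sq.isoPullback_inv_snd
    show IsClosedImmersion (pullback.snd d.toBase (P.directedAffineCover.f U))
    rw [← e]; infer_instance
  refine ⟨d.toBase.ker, fun U => ?_⟩
  have sq := d.isPullback_natTrans_ι_toBase U
  have e1 : (pullback.fst U.1.ι d.toBase).ker = d.toBase.ker.comap U.1.ι :=
    IdealSheafData.ker_fst_of_isClosedImmersion d.toBase U.1.ι
  have e2 : sq.isoPullback.hom ≫ pullback.fst U.1.ι d.toBase = (K U).subschemeι :=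
    sq.isoPullback_hom_fst
  rw [← e1, ← Scheme.Hom.ker_comp_of_isIso sq.isoPullback.hom (pullback.fst U.1.ι d.toBase), e2]
  exact IdealSheafData.ker_subschemeι (K U)

/-! ### The main theorem for ideal sheaves -/

theorem main (hg : Presieve.ofArrows Q g ∈ Scheme.fpqcPrecoverage P)
    (h : ∀ i j, (I i).comap (pullback.fst (g i) (g j)) = (I j).comap (pullback.snd (g i) (g j))) :
    ∃! J : P.IdealSheafData, ∀ i, J.comap (g i) = I i := by
  have hloc : ∀ U : P.affineOpens, ∃ K : (U.1 : Scheme.{u}).IdealSheafData,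
      IsLocalSol g I U.1.ι K ∧ ∀ K', IsLocalSol g I U.1.ι K' → K' = K :=
    fun U => local_existsUnique g I hg h U.1 U.2
  choose K hK hKuniq using hloc
  have hcompat : ∀ (U V : P.affineOpens) (hUV : U.1 ≤ V.1),
      (K V).comap (P.homOfLE hUV) = K U := by
    intro U V hUV
    apply hKuniq U
    have := isLocalSol_comap g I V.1.ι (K V) (hK V) (P.homOfLE hUV)
    rwa [Scheme.homOfLE_ι] at this
  obtain ⟨J, hJ⟩ := exists_glue K hcompat
  have hJloc : ∀ U : P.affineOpens, IsLocalSol g I U.1.ι (J.comap U.1.ι) := fun U =>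
    (hJ U).symm ▸ hK U
  refine ⟨J, fun i => ?_, fun J' hJ' => ?_⟩
  · have hcov : TopologicalSpace.IsOpenCover (fun U : P.affineOpens => (g i) ⁻¹ᵁ U.1) :=
      (g i).iSup_preimage_eq_top (iSup_affineOpens_eq_top P)
    apply ext_of_openCover ((Q i).openCoverOfIsOpenCover _ hcov)
    intro (U : P.affineOpens)
    show (J.comap (g i)).comap ((g i) ⁻¹ᵁ U.1).ι = (I i).comap ((g i) ⁻¹ᵁ U.1).ι
    have e : ((g i) ⁻¹ᵁ U.1).ι ≫ g i =
        (g i).resLE U.1 ((g i) ⁻¹ᵁ U.1) le_rfl ≫ U.1.ι := (Scheme.Hom.resLE_comp_ι _ _).symm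
    rw [← IdealSheafData.comap_comp, e, IdealSheafData.comap_comp]
    exact hJloc U i _ _ _ (Scheme.Hom.resLE_comp_ι _ _)
  · apply ext_of_openCover P.directedAffineCover
    intro U
    show J'.comap U.1.ι = J.comap U.1.ι
    rw [hJ U]
    exact hKuniq U _ (isLocalSol_of_global g I J' hJ' U.1.ι)

/-! ### Closed immersions descend -/

section Closed

variable {S : Scheme.{u}} {X : ι → Scheme.{u}} {f : ∀ i, X i ⟶ S}

theorem compat_closed (D : Desc.SchDDFam f) (hD : ∀ i, IsClosedImmersion (D.obj i).hom)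
    (i j : ι) :
    ((D.obj i).hom.ker).comap (pullback.fst (f i) (f j)) =
      ((D.obj j).hom.ker).comap (pullback.snd (f i) (f j)) := by
  haveI := hD
  rw [← IdealSheafData.ker_fst_of_isClosedImmersion (D.obj i).hom (pullback.fst (f i) (f j)),
    ← IdealSheafData.ker_fst_of_isClosedImmersion (D.obj j).hom (pullback.snd (f i) (f j))]
  apply le_antisymm
  · -- a map from the second pullback to the first
    have h01 : (pullback.fst (pullback.snd (f i) (f j)) (D.obj j).hom ≫ pullback.fst (f i) (f j)) ≫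
        f i = (pullback.fst (pullback.snd (f i) (f j)) (D.obj j).hom ≫
          pullback.snd (f i) (f j)) ≫ f j := by
      rw [Category.assoc, Category.assoc, pullback.condition]
    let v : Desc.Lifts (D.obj j) (pullback.fst (pullback.snd (f i) (f j)) (D.obj j).hom ≫
        pullback.snd (f i) (f j)) :=
      ⟨pullback.snd (pullback.snd (f i) (f j)) (D.obj j).hom, pullback.condition.symm⟩
    let w := (D.φ _ _ h01).symm v
    have hw : w.1 ≫ (D.obj i).hom = pullback.fst (pullback.snd (f i) (f j)) (D.obj j).hom ≫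
        pullback.fst (f i) (f j) := w.2
    have hm : pullback.lift (pullback.fst (pullback.snd (f i) (f j)) (D.obj j).hom) w.1 hw.symm ≫
        pullback.fst (pullback.fst (f i) (f j)) (D.obj i).hom =
        pullback.fst (pullback.snd (f i) (f j)) (D.obj j).hom := pullback.lift_fst _ _ _
    have := Scheme.Hom.le_ker_comp (pullback.lift
      (pullback.fst (pullback.snd (f i) (f j)) (D.obj j).hom) w.1 hw.symm)
      (pullback.fst (pullback.fst (f i) (f j)) (D.obj i).hom)
    rwa [hm] at this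
  · have h01 : (pullback.fst (pullback.fst (f i) (f j)) (D.obj i).hom ≫ pullback.fst (f i) (f j)) ≫
        f i = (pullback.fst (pullback.fst (f i) (f j)) (D.obj i).hom ≫
          pullback.snd (f i) (f j)) ≫ f j := by
      rw [Category.assoc, Category.assoc, pullback.condition]
    let v : Desc.Lifts (D.obj i) (pullback.fst (pullback.fst (f i) (f j)) (D.obj i).hom ≫
        pullback.fst (f i) (f j)) :=
      ⟨pullback.snd (pullback.fst (f i) (f j)) (D.obj i).hom, pullback.condition.symm⟩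
    let w := D.φ _ _ h01 v
    have hw : w.1 ≫ (D.obj j).hom = pullback.fst (pullback.fst (f i) (f j)) (D.obj i).hom ≫
        pullback.snd (f i) (f j) := w.2
    have hm : pullback.lift (pullback.fst (pullback.fst (f i) (f j)) (D.obj i).hom) w.1 hw.symm ≫
        pullback.fst (pullback.snd (f i) (f j)) (D.obj j).hom =
        pullback.fst (pullback.fst (f i) (f j)) (D.obj i).hom := pullback.lift_fst _ _ _
    have := Scheme.Hom.le_ker_comp (pullback.lift
      (pullback.fst (pullback.fst (f i) (f j)) (D.obj i).hom) w.1 hw.symm)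
      (pullback.fst (pullback.snd (f i) (f j)) (D.obj j).hom)
    rwa [hm] at this

theorem main6044 (hf : Presieve.ofArrows X f ∈ Scheme.fpqcPrecoverage S)
    (D : Desc.SchDDFam f) (hD : ∀ i, IsClosedImmersion (D.obj i).hom) : D.IsEffective := by
  haveI := hD
  obtain ⟨J, hJ, -⟩ := main f (fun i => (D.obj i).hom.ker) hf (compat_closed D hD)
  let Z : Over S := Over.mk J.subschemeι
  have hker : ∀ i, (D.obj i).hom.ker = (pullback.fst (f i) J.subschemeι).ker :=
    fun i => (hJ i).symm
  have hiso : ∀ i, IsIso (IsClosedImmersion.lift (pullback.fst (f i) J.subschemeι)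
      (D.obj i).hom (hker i).ge) := fun i =>
    IsClosedImmersion.isIso_of_ker_eq (D.obj i).hom (pullback.fst (f i) J.subschemeι) _
      (IsClosedImmersion.lift_fac _ _ _) (hker i)
  let e : ∀ i, D.obj i ≅ (Desc.canonicalDDFam f Z).obj i := fun i =>
    haveI := hiso i
    Over.isoMk (asIso (IsClosedImmersion.lift (pullback.fst (f i) J.subschemeι)
      (D.obj i).hom (hker i).ge)) (IsClosedImmersion.lift_fac _ _ _)
  show (Desc.toDDFam f).essImage D
  refine ⟨Z, ⟨(Groth.Agent.Lib.DescIso.isoMk e ?_).symm⟩⟩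
  intro T i j x₀ x₁ h v w hw
  haveI : Mono ((Desc.canonicalDDFam f Z).obj j).hom :=
    (inferInstance : Mono (pullback.fst (f j) J.subschemeι))
  rw [← cancel_mono ((Desc.canonicalDDFam f Z).obj j).hom]
  rw [Category.assoc, Over.w (e j).hom]
  exact (((Desc.canonicalDDFam f Z).φ x₀ x₁ h w).2).trans ((D.φ x₀ x₁ h v).2).symm

end Closed

end Groth.Agent.Lib.ClosedDescentFam_helper7
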