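import Mathlib

/-!
# Closed immersions via fibres (finite morphisms)
-/

universe u

open CategoryTheory CategoryTheory.Limits AlgebraicGeometry TensorProduct

namespace Groth.Agent.Lib.ClosedImmFibre

section ring

variable (R S : Type u) [CommRing R] [CommRing S] [Algebra R S]

/-- Nakayama: a finite algebra all of whose fibres are quotients of the residue field is a
quotient. -/
theorem surjective_of_fiber [Module.Finite R S]
    (h : ∀ (p : Ideal R) [p.IsPrime],
      Function.Surjective (algebraMap p.ResidueField (p.Fiber S))) :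
    Function.Surjective (algebraMap R S) := by
  let N : Submodule R S := LinearMap.range (Algebra.linearMap R S)
  have hC : Subsingleton (S ⧸ N) := by
    rw [← Module.support_eq_empty_iff (R := R), Set.eq_empty_iff_forall_notMem]
    intro q
    rw [Module.mem_support_iff_nontrivial_residueField_tensorProduct,
      not_nontrivial_iff_subsingleton]
    refine ⟨fun a b => ?_⟩
    have key : ∀ z : q.asIdeal.ResidueField ⊗[R] (S ⧸ N), z = 0 := by
      intro z
      obtain ⟨y, rfl⟩ := LinearMap.lTensor_surjective q.asIdeal.ResidueField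
        (Submodule.mkQ_surjective N) z
      obtain ⟨k, rfl⟩ := h q.asIdeal y
      have : algebraMap q.asIdeal.ResidueField (q.asIdeal.Fiber S) k = k ⊗ₜ[R] (1 : S) := by
        rw [Algebra.TensorProduct.algebraMap_apply]
        rfl
      rw [this, LinearMap.lTensor_tmul]
      have h1 : N.mkQ (1 : S) = 0 := by
        rw [Submodule.mkQ_apply, Submodule.Quotient.mk_eq_zero]
        exact ⟨1, by simp⟩
      rw [h1, tmul_zero]
    rw [key a, key b]
  intro s
  have : s ∈ N := by
    rw [← Submodule.Quotient.mk_eq_zero]
    exact Subsingleton.elim _ _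
  obtain ⟨r, hr⟩ := this
  exact ⟨r, hr⟩

end ring

section scheme

variable {X Y : Scheme.{u}} (f : X ⟶ Y)

/-- The fibre condition. -/
def FibCond : Prop := ∀ y : Y, IsEmpty (f.fiber y) ∨ IsIso (f.fiberToSpecResidueField y)

lemma fibCond_of_isPullback {P X Y Z : Scheme.{u}} {fst : P ⟶ X} {snd : P ⟶ Y} {f : X ⟶ Z}
    {g : Y ⟶ Z} (h : IsPullback fst snd f g) (hf : FibCond f) : FibCond snd := by
  intro y
  have hp := isPullback_fiberToSpecResidueField_of_isPullback h y
  rcases hf (g y) with h1 | h1
  · left
    let m : snd.fiber y ⟶ f.fiber (g y) :=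
      pullback.map snd (Y.fromSpecResidueField y) f (Z.fromSpecResidueField (g y)) fst
        (Spec.map (g.residueFieldMap y)) g h.w.symm (by simp)
    haveI : IsEmpty ↥(f.fiber (g y)) := h1
    exact Function.isEmpty (fun x => m x)
  · right
    exact MorphismProperty.of_isPullback (P := MorphismProperty.isomorphisms Scheme.{u}) hp h1

set_option backward.isDefEq.respectTransparency false in
lemma fibCond_iso_comp {X' : Scheme.{u}} (e : X' ⟶ X) [IsIso e] (hf : FibCond f) :
    FibCond (e ≫ f) := by
  intro y
  let m : (e ≫ f).fiber y ⟶ f.fiber y :=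
    pullback.map _ _ _ _ e (𝟙 _) (𝟙 _) (by simp) (by simp)
  have hm : m ≫ f.fiberToSpecResidueField y = (e ≫ f).fiberToSpecResidueField y := by
    simp [m, Scheme.Hom.fiberToSpecResidueField]
  rcases hf y with h1 | h1
  · left
    haveI : IsEmpty ↥(f.fiber y) := h1
    exact Function.isEmpty (fun x => m x)
  · right
    haveI : IsIso m := by
      dsimp only [m]
      infer_instance
    rw [← hm]
    infer_instance

set_option backward.isDefEq.respectTransparency false in
theorem isClosedImmersion_of_isFinite_of_fibCond [IsFinite f] (h : FibCond f) :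
    IsClosedImmersion f := by
  wlog hY : ∃ R, Y = Spec R
  · rw [IsZariskiLocalAtTarget.iff_of_openCover (P := @IsClosedImmersion) Y.affineCover]
    intro i
    dsimp [Scheme.Cover.pullbackHom]
    exact this _ (fibCond_of_isPullback (IsPullback.of_hasPullback _ _) h) ⟨_, rfl⟩
  obtain ⟨R, rfl⟩ := hY
  haveI : IsAffine X := isAffine_of_isAffineHom f
  wlog hX : ∃ S, X = Spec S generalizing X
  · have h1 := this (X.isoSpec.inv ≫ f) (fibCond_iso_comp f X.isoSpec.inv h) inferInstance
      ⟨_, rfl⟩
    exact (MorphismProperty.cancel_left_of_respectsIso @IsClosedImmersion X.isoSpec.inv f).mp h1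
  obtain ⟨S, rfl⟩ := hX
  obtain ⟨φ, rfl⟩ := Spec.map_surjective f
  have hfin : φ.hom.Finite := (IsFinite.SpecMap_iff φ).mp inferInstance
  algebraize [φ.hom]
  apply IsClosedImmersion.spec_of_surjective
  show Function.Surjective (algebraMap R S)
  refine surjective_of_fiber R S fun p hp => ?_
  have key := h ⟨p, hp⟩
  have e := Spec.fiberToSpecResidueFieldIso R S ⟨p, hp⟩
  rcases key with h1 | h1
  · haveI : IsEmpty ↥((Spec.map (CommRingCat.ofHom (algebraMap R S))).fiber ⟨p, hp⟩) := h1
    let m : Spec (CommRingCat.of (p.Fiber S)) ⟶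
        (Spec.map (CommRingCat.ofHom (algebraMap R S))).fiber ⟨p, hp⟩ :=
      (Arrow.leftFunc.mapIso e).inv
    have hE : IsEmpty ↥(Spec (CommRingCat.of (p.Fiber S))) := Function.isEmpty (fun x => m x)
    have hsub : Subsingleton (p.Fiber S) := by
      by_contra hne
      rw [not_subsingleton_iff_nontrivial] at hne
      obtain ⟨q, hq⟩ := Ideal.exists_maximal (p.Fiber S)
      exact hE.false ⟨q, hq.isPrime⟩
    intro z
    exact ⟨0, Subsingleton.elim _ _⟩
  · have h2 : IsIso (Spec.map (CommRingCat.ofHom (algebraMap p.ResidueField (p.Fiber S)))) :=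
      (MorphismProperty.arrow_mk_iso_iff (MorphismProperty.isomorphisms Scheme.{u}) e).mp h1
    have h3 : IsIso (CommRingCat.ofHom (algebraMap p.ResidueField (p.Fiber S))) := by
      haveI : IsIso (Scheme.Spec.map
          (CommRingCat.ofHom (algebraMap p.ResidueField (p.Fiber S))).op) := h2
      haveI := isIso_of_reflects_iso
        (CommRingCat.ofHom (algebraMap p.ResidueField (p.Fiber S))).op Scheme.Spec
      exact isIso_of_op _
    exact (ConcreteCategory.bijective_of_isIso
      (CommRingCat.ofHom (algebraMap p.ResidueField (p.Fiber S)))).2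

end scheme

section forward

variable {X Y : Scheme.{u}} (f : X ⟶ Y)

set_option backward.isDefEq.respectTransparency false in
theorem fibCond_of_isClosedImmersion [IsClosedImmersion f] : FibCond f := by
  intro y
  haveI : IsClosedImmersion (f.fiberToSpecResidueField y) :=
    inferInstanceAs (IsClosedImmersion (pullback.snd f (Y.fromSpecResidueField y)))
  obtain ⟨I, e, he⟩ := IsClosedImmersion.Spec_iff.mp
    (inferInstance : IsClosedImmersion (f.fiberToSpecResidueField y))
  rcases Ideal.eq_bot_or_top I with hI | hI
  · right
    rw [he]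
    have hbij : Function.Bijective (Ideal.Quotient.mk I) := by
      subst hI
      exact (RingEquiv.quotientBot (Y.residueField y)).symm.bijective
    haveI : IsIso (CommRingCat.ofHom (Ideal.Quotient.mk I)) :=
      (ConcreteCategory.isIso_iff_bijective _).mpr hbij
    infer_instance
  · left
    haveI : Subsingleton ((Y.residueField y) ⧸ I) := by
      subst hI
      exact Ideal.Quotient.subsingleton_iff.mpr rfl
    haveI : IsEmpty ↥(Spec (CommRingCat.of ((Y.residueField y) ⧸ I))) :=
      inferInstanceAs (IsEmpty (PrimeSpectrum ((Y.residueField y) ⧸ I)))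
    exact Function.isEmpty (fun x => e.hom x)

theorem isClosedImmersion_iff_fibCond [IsProper f] :
    IsClosedImmersion f ↔ FibCond f := by
  refine ⟨fun _ => fibCond_of_isClosedImmersion f, fun h => ?_⟩
  haveI : LocallyQuasiFinite f := by
    refine LocallyQuasiFinite.of_fiberToSpecResidueField f fun y => ?_
    rcases h y with h1 | h1
    · haveI : IsEmpty ↥(f.fiber y) := h1
      haveI : IsClosedImmersion (f.fiberToSpecResidueField y) := inferInstance
      infer_instance
    · infer_instance
  haveI : IsFinite f := IsFinite.of_isProper_of_locallyQuasiFinite f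
  exact isClosedImmersion_of_isFinite_of_fibCond f h

end forward

end Groth.Agent.Lib.ClosedImmFibre
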