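import Mathlib
import Groth.Agent.Lib.ClosedCompl_helper8
import Groth.Agent.Lib.ShRep_helper8

set_option autoImplicit false

namespace Groth.Agent.Lib.ClosedLexH8
open CategoryTheory CategoryTheory.Limits Opposite
universe u
variable {C : Type u} [SmallCategory C]

section Qf
variable (U' : Cᵒᵖ ⥤ Type u)

lemma isEmpty_of_map {V W : Cᵒᵖ} (f : V ⟶ W) (h : IsEmpty (U'.obj W)) : IsEmpty (U'.obj V) :=
  ⟨fun x => h.false (U'.map f x)⟩

/-- `X ↦ (V ↦ (U'(V) = ∅ → X(V)))` -/
def Qobj (X : Cᵒᵖ ⥤ Type u) : Cᵒᵖ ⥤ Type u where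
  obj V := IsEmpty (U'.obj V) → X.obj V
  map {V W} f := ↾(fun q hW => X.map f (q (isEmpty_of_map U' f hW)))
  map_id V := by
    ext q h
    exact CategoryTheory.Functor.map_id_apply X _ (q h)
  map_comp f g := by
    ext q h
    exact CategoryTheory.Functor.map_comp_apply X f g (q _)

/-- the functor `Q` -/
def Qf : (Cᵒᵖ ⥤ Type u) ⥤ (Cᵒᵖ ⥤ Type u) where
  obj := Qobj U'
  map {X X'} α :=
    { app := fun V => ↾(fun (q : IsEmpty (U'.obj V) → X.obj V) h => α.app V (q h))
      naturality := by
        intro V W f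
        ext q
        funext h
        exact NatTrans.naturality_apply α f (q _) }
  map_id X := by
    ext V q
    rfl
  map_comp α β := by
    ext V q
    rfl

/-- the unit `X → Q X` -/
def eta (X : Cᵒᵖ ⥤ Type u) : X ⟶ (Qf U').obj X where
  app V := ↾(fun x _ => x)
  naturality := by
    intro V W f
    ext x
    rfl

lemma eta_naturality {X X' : Cᵒᵖ ⥤ Type u} (α : X ⟶ X') :
    α ≫ eta U' X' = eta U' X ≫ (Qf U').map α := by
  ext V x
  rfl

/-- evaluation of `Q` at `V` is corepresentable-composed-with-evaluation -/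
def evalIso (V : Cᵒᵖ) : Qf U' ⋙ (evaluation Cᵒᵖ (Type u)).obj V ≅
    (evaluation Cᵒᵖ (Type u)).obj V ⋙
      coyoneda.obj (op (ULift.{u} (PLift (IsEmpty (U'.obj V))))) :=
  NatIso.ofComponents (fun X =>
    { hom := ↾(fun (q : IsEmpty (U'.obj V) → X.obj V) =>
        (↾(fun h : ULift.{u} (PLift (IsEmpty (U'.obj V))) => q h.down.down) :
          ULift.{u} (PLift (IsEmpty (U'.obj V))) ⟶ X.obj V))
      inv := ↾(fun (g : ULift.{u} (PLift (IsEmpty (U'.obj V))) ⟶ X.obj V) =>
        (fun h : IsEmpty (U'.obj V) => g ⟨⟨h⟩⟩))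
      hom_inv_id := by
        ext q
        rfl
      inv_hom_id := by
        ext g
        rfl })
    (by
      intro X X' α
      ext q
      rfl)

instance : PreservesLimitsOfSize.{0, 0} (Qf U') := by
  apply preservesLimits_of_evaluation
  intro V
  exact preservesLimits_of_natIso (evalIso U' V).symm

end Qf

section ext
variable (U' : Cᵒᵖ ⥤ Type u) {P Z : Cᵒᵖ ⥤ Type u}
  (hZ : ∀ V : Cᵒᵖ, Nonempty (U'.obj V) → Nonempty (Unique (Z.obj V)))

open Classical in
/-- extension of a map `P ⟶ Z` to `Q P ⟶ Z` when `Z` is trivial wherever `U'` is inhabited. -/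
noncomputable def extend (f : P ⟶ Z) : (Qf U').obj P ⟶ Z where
  app V := ↾(fun (q : IsEmpty (U'.obj V) → P.obj V) =>
    if h : IsEmpty (U'.obj V) then f.app V (q h)
    else (hZ V (not_isEmpty_iff.1 h)).some.default)
  naturality := by
    intro V W g
    ext q
    by_cases hW : IsEmpty (U'.obj W)
    · have hV := isEmpty_of_map U' g hW
      show (if h : IsEmpty (U'.obj W) then f.app W ((((Qf U').obj P).map g q) h) else _) =
        Z.map g (if h : IsEmpty (U'.obj V) then f.app V (q h) else _)
      rw [dif_pos hW, dif_pos hV]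
      exact NatTrans.naturality_apply f g (q hV)
    · haveI := (hZ W (not_isEmpty_iff.1 hW)).some
      exact Subsingleton.elim _ _

open Classical in
lemma eta_extend (f : P ⟶ Z) : eta U' P ≫ extend U' hZ f = f := by
  ext V x
  by_cases h : IsEmpty (U'.obj V)
  · show (if h : IsEmpty (U'.obj V) then f.app V x else _) = _
    rw [dif_pos h]
    rfl
  · haveI := (hZ V (not_isEmpty_iff.1 h)).some
    exact Subsingleton.elim _ _

include hZ in
lemma ext_of_eta (g g' : (Qf U').obj P ⟶ Z) (h : eta U' P ≫ g = eta U' P ≫ g') : g = g' := by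
  ext V q
  by_cases hV : IsEmpty (U'.obj V)
  · have hq : q = (eta U' P).app V (q hV) := by
      funext h'
      rfl
    rw [hq]
    exact congrArg (fun φ => φ.app V (q hV)) h
  · haveI := (hZ V (not_isEmpty_iff.1 hV)).some
    exact Subsingleton.elim _ _

end ext

section sheaf
variable (J : GrothendieckTopology C) (U : Sheaf J (Type u))

/-- sectionwise characterization of the closed complement. -/
lemma closedCompl_iff (Y : Sheaf J (Type u)) :
    SGA4.closedCompl U Y ↔
      ∀ V : C, Nonempty (U.obj.obj (op V)) → Nonempty (Unique (Y.obj.obj (op V))) := by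
  constructor
  · rintro hY V ⟨u0⟩
    have hY' : IsIso (prod.fst : U ⨯ Y ⟶ U) := hY
    refine ⟨{ default := ShRepH8.homEquiv J V Y
                (((ShRepH8.homEquiv J V U).symm u0) ≫ ClosedComplH8.toClosed U hY')
              uniq := fun y => ?_ }⟩
    apply (ShRepH8.homEquiv J V Y).symm.injective
    exact ClosedComplH8.hom_ext_of_closed U hY' ((ShRepH8.homEquiv J V U).symm u0) _ _
  · intro h
    let s : U ⟶ Y := ObjectProperty.homMk
      { app := fun V => ↾(fun u => (h V.unop ⟨u⟩).some.default)
        naturality := by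
          intro V W f
          ext u0
          haveI := (h W.unop ⟨U.obj.map f u0⟩).some
          exact @Subsingleton.elim (Y.obj.obj (op W.unop)) inferInstance _ _ }
    show IsIso (prod.fst : U ⨯ Y ⟶ U)
    refine ⟨prod.lift (𝟙 U) s, ?_, prod.lift_fst _ _⟩
    apply Limits.prod.hom_ext
    · rw [Category.assoc, prod.lift_fst, Category.comp_id, Category.id_comp]
    · rw [Category.assoc, prod.lift_snd, Category.id_comp]
      apply ObjectProperty.hom_ext
      ext V z
      haveI := (h V.unop ⟨(prod.fst : U ⨯ Y ⟶ U).hom.app V z⟩).some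
      exact @Subsingleton.elim (Y.obj.obj (op V.unop)) inferInstance _ _

lemma sheafify_mem (P : Cᵒᵖ ⥤ Type u) :
    SGA4.closedCompl U ((presheafToSheaf J (Type u)).obj ((Qf U.obj).obj P)) := by
  rw [closedCompl_iff]
  rintro V ⟨u0⟩
  have hQ : ∀ (W : C) (g : W ⟶ V) (t t' : ((Qf U.obj).obj P).obj (op W)), t = t' := by
    intro W g t t'
    funext h
    exact (h.false (U.obj.map g.op u0)).elim
  let q0 : ((Qf U.obj).obj P).obj (op V) := fun h => (h.false u0).elim
  refine ⟨{ default := (toSheafify J ((Qf U.obj).obj P)).app (op V) q0, uniq := fun y => ?_ }⟩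
  have hsep := ((isSheaf_iff_isSheaf_of_type J _).1
    ((presheafToSheaf J (Type u)).obj ((Qf U.obj).obj P)).property).isSeparated
  have hS : Presheaf.imageSieve (toSheafify J ((Qf U.obj).obj P)) y ∈ J V :=
    Presheaf.imageSieve_mem J (toSheafify J ((Qf U.obj).obj P)) y
  refine (hsep _ hS).ext (fun W g hg => ?_)
  obtain ⟨t, ht⟩ := hg
  have h1 := NatTrans.naturality_apply (toSheafify J ((Qf U.obj).obj P)) g.op q0
  refine ht.symm.trans (Eq.trans ?_ h1)
  congr 1
  exact hQ W g _ _

/-- the lex reflector -/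
noncomputable def Lq : Sheaf J (Type u) ⥤ (SGA4.closedCompl U).FullSubcategory :=
  (SGA4.closedCompl U).lift
    (sheafToPresheaf J (Type u) ⋙ Qf U.obj ⋙ presheafToSheaf J (Type u))
    (fun X => sheafify_mem J U X.obj)

lemma hZ_of_mem (Y : (SGA4.closedCompl U).FullSubcategory) :
    ∀ V : Cᵒᵖ, Nonempty (U.obj.obj V) → Nonempty (Unique (Y.obj.obj.obj V)) :=
  fun V hV => (closedCompl_iff J U Y.obj).1 Y.property V.unop hV

/-- hom-set bijection for `Lq` -/
noncomputable def LqEquiv (X : Sheaf J (Type u)) (Y : (SGA4.closedCompl U).FullSubcategory) :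
    ((Lq J U).obj X ⟶ Y) ≃ (X ⟶ (SGA4.closedCompl U).ι.obj Y) where
  toFun g := ObjectProperty.homMk (eta U.obj X.obj ≫
    (sheafificationAdjunction J (Type u)).homEquiv ((Qf U.obj).obj X.obj) Y.obj g.hom)
  invFun f := ObjectProperty.homMk
    (((sheafificationAdjunction J (Type u)).homEquiv ((Qf U.obj).obj X.obj) Y.obj).symm
      (extend U.obj (hZ_of_mem J U Y) f.hom))
  left_inv g := by
    apply ObjectProperty.hom_ext
    show ((sheafificationAdjunction J (Type u)).homEquiv ((Qf U.obj).obj X.obj) Y.obj).symm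
      (extend U.obj (hZ_of_mem J U Y) (eta U.obj X.obj ≫
        (sheafificationAdjunction J (Type u)).homEquiv ((Qf U.obj).obj X.obj) Y.obj g.hom)) = g.hom
    rw [Equiv.symm_apply_eq]
    apply ext_of_eta U.obj (hZ_of_mem J U Y)
    rw [eta_extend]
  right_inv f := by
    apply ObjectProperty.hom_ext
    show eta U.obj X.obj ≫
      (sheafificationAdjunction J (Type u)).homEquiv ((Qf U.obj).obj X.obj) Y.obj
        (((sheafificationAdjunction J (Type u)).homEquiv ((Qf U.obj).obj X.obj) Y.obj).symm
          (extend U.obj (hZ_of_mem J U Y) f.hom)) = f.hom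
    rw [Equiv.apply_symm_apply, eta_extend]

/-- the adjunction `Lq ⊣ ι` -/
noncomputable def LqAdj : Lq J U ⊣ (SGA4.closedCompl U).ι :=
  Adjunction.mkOfHomEquiv
    { homEquiv := LqEquiv J U
      homEquiv_naturality_left_symm := by
        intro X' X Y m g
        rw [Equiv.symm_apply_eq]
        apply ObjectProperty.hom_ext
        symm
        show eta U.obj X'.obj ≫
          (sheafificationAdjunction J (Type u)).homEquiv ((Qf U.obj).obj X'.obj) Y.obj
            ((presheafToSheaf J (Type u)).map ((Qf U.obj).map m.hom) ≫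
              ((LqEquiv J U X Y).symm g).hom) = m.hom ≫ g.hom
        rw [Adjunction.homEquiv_naturality_left, ← Category.assoc, ← eta_naturality,
          Category.assoc]
        have := congrArg (fun φ => φ.hom) ((LqEquiv J U X Y).apply_symm_apply g)
        exact congrArg (fun φ => m.hom ≫ φ) this
      homEquiv_naturality_right := by
        intro X Y Y' g β
        apply ObjectProperty.hom_ext
        show eta U.obj X.obj ≫
          (sheafificationAdjunction J (Type u)).homEquiv ((Qf U.obj).obj X.obj) Y'.obj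
            (g.hom ≫ β.hom) = (eta U.obj X.obj ≫
          (sheafificationAdjunction J (Type u)).homEquiv ((Qf U.obj).obj X.obj) Y.obj g.hom) ≫
            β.hom.hom
        rw [Adjunction.homEquiv_naturality_right, Category.assoc]
        rfl }

instance : PreservesFiniteLimits (Lq J U) := by
  haveI h1 : PreservesFiniteLimits (Lq J U ⋙ (SGA4.closedCompl U).ι) :=
    (inferInstance : PreservesFiniteLimits
      (sheafToPresheaf J (Type u) ⋙ Qf U.obj ⋙ presheafToSheaf J (Type u)))
  constructor
  intro K _ _
  haveI := h1.preservesFiniteLimits K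
  exact preservesLimitsOfShape_of_reflects_of_preserves (Lq J U) (SGA4.closedCompl U).ι

/-- the pushout reflector onto the closed complement is left exact. -/
theorem refl_preservesFiniteLimits (hsub : ∀ (T : Sheaf J (Type u)) (a b : T ⟶ U), a = b)
    [PreservesColimitsOfShape WalkingSpan (prod.functor.obj U)] :
    PreservesFiniteLimits (ClosedComplH8.refl U hsub) :=
  preservesFiniteLimits_of_natIso
    ((ClosedComplH8.reflAdj U hsub).leftAdjointUniq (LqAdj J U)).symm

end sheaf

end Groth.Agent.Lib.ClosedLexH8
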