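import Mathlib
import Groth.Agent.Lib.GDomOld_helper8
import Groth.Agent.Lib.DimFT3_helper8
import Groth.Agent.Lib.ResQuot2_helper8
import Groth.Agent.Lib.FibRes2_helper8

universe u
open AlgebraicGeometry CategoryTheory

namespace ClosedPtH8

/-- A closed point of a scheme locally of finite type over a Noetherian ring `A` maps to a prime
`𝔭` with `dim A/𝔭 ≤ 1`. -/
theorem coheight_le_one_of_isClosed {A : Type u} [CommRing A] [IsNoetherianRing A] {X : Scheme.{u}}
    (f : X ⟶ Spec (CommRingCat.of A)) [LocallyOfFiniteType f] (z : X)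
    (hz : IsClosed ({z} : Set X)) :
    @Order.coheight (PrimeSpectrum A) _ (f z) ≤ 1 := by
  obtain ⟨_, ⟨U, hU, rfl⟩, hzU, -⟩ :=
    X.isBasis_affineOpens.exists_subset_of_mem_open (Set.mem_univ z) isOpen_univ
  set q := hU.primeIdealOf ⟨z, hzU⟩ with hq
  haveI hqmax : q.asIdeal.IsMaximal := hU.primeIdealOf_isMaximal_of_isClosed ⟨z, hzU⟩ hz
  obtain ⟨φ, hφ⟩ := Spec.map_surjective (hU.fromSpec ≫ f)
  have hfz : f z = (Spec.map φ) q := by
    rw [hφ, Scheme.Hom.comp_apply, hq, hU.fromSpec_primeIdealOf]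
  haveI : LocallyOfFiniteType (Spec.map φ) := by rw [hφ]; infer_instance
  have hft : φ.hom.FiniteType := (HasRingHomProperty.Spec_iff (P := @LocallyOfFiniteType)).mp
    inferInstance
  set p : Ideal A := q.asIdeal.comap φ.hom with hp
  haveI hpp : p.IsPrime := Ideal.comap_isPrime _ _
  have hfz' : (f z : PrimeSpectrum A) = ⟨p, hpp⟩ := by
    rw [hfz]
    rfl
  have hψft := Groth.Agent.ResQuot2H8.finiteType_quotientMap φ.hom hft q.asIdeal p hp
  letI : Field (Γ(X, U) ⧸ q.asIdeal) := Ideal.Quotient.field q.asIdeal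
  letI alg : Algebra (A ⧸ p) (Γ(X, U) ⧸ q.asIdeal) :=
    (Ideal.quotientMap q.asIdeal φ.hom (le_of_eq hp)).toAlgebra
  haveI : Algebra.FiniteType (A ⧸ p) (Γ(X, U) ⧸ q.asIdeal) := hψft
  have hinj : Function.Injective (algebraMap (A ⧸ p) (Γ(X, U) ⧸ q.asIdeal)) :=
    Ideal.quotientMap_injective' (le_of_eq hp.symm)
  have hdim := GDomH8.ringKrullDim_le_one (D := A ⧸ p) (L := Γ(X, U) ⧸ q.asIdeal) hinj
  rw [Groth.Agent.DimFT3H8.ringKrullDim_quotient_eq_coheight p] at hdim
  rw [hfz']
  exact_mod_cast hdim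

/-- At a closed point the residue field extension has transcendence degree zero. -/
theorem trdeg_eq_zero_of_isClosed {X Y : Scheme.{u}} (f : X ⟶ Y) [LocallyOfFiniteType f] (z : X)
    (hz : IsClosed ({z} : Set X)) :
    @Algebra.trdeg (Y.residueField (f z)) (X.residueField z) _ _
      (f.residueFieldMap z).hom.toAlgebra = 0 := by
  obtain ⟨n, hn, hh⟩ := Groth.Agent.FibRes2H8.height_asFiber f z
  have hmin : IsMin (f.asFiber z) := by
    intro w hw
    have h1 : f.asFiber z ⤳ w := hw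
    rw [Groth.Agent.FibRes2H8.specializes_fiber_iff] at h1
    rw [Scheme.Hom.fiberι_asFiber] at h1
    have h2 : (f.fiberι (f z)) w ∈ closure ({z} : Set X) := h1.mem_closure
    rw [hz.closure_eq, Set.mem_singleton_iff] at h2
    have h3 : w = f.asFiber z := by
      apply (f.fiberι (f z)).isEmbedding.injective
      rw [h2, Scheme.Hom.fiberι_asFiber]
    rw [h3]
  rw [Order.height_eq_zero.mpr hmin] at hh
  have hn0 : n = 0 := by exact_mod_cast hh.symm
  rw [hn, hn0]
  simp

end ClosedPtH8
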