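import Mathlib
import Groth.Agent.Lib.CobarRes_helper7
import Groth.Agent.Lib.CxHomDelta_helper7

/-!
# The cobar resolution as a functor (helper7)

For an adjunction `L ⊣ R` between abelian categories, the cobar complex `K F` of
`CobarRes_helper7` is functorial in `F` (`Kf`), additive, and `Z⁰ ∘ Kf ≅ 𝟭` when `L` is exact and
reflects zero objects.  If the unit `F ⟶ R L F` is a split monomorphism (e.g. `F` injective), the
augmented cobar complex of `F` is contractible, hence stays exact after applying any additive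
functor.
-/

set_option autoImplicit false
set_option backward.isDefEq.respectTransparency false
set_option backward.isDefEq.respectTransparency.types false
set_option linter.style.haveILetI false
set_option linter.unusedSectionVars false
universe v u v' u' v'' u''
open CategoryTheory CategoryTheory.Limits

namespace Groth.Agent.Lib.CobarFunH7

open Groth.Agent.Lib.CobarH7 Groth.Agent.Lib.CxHomDeltaH7

variable {𝒜 : Type u} [Category.{v} 𝒜] [Abelian 𝒜] {𝒜' : Type u'} [Category.{v'} 𝒜'] [Abelian 𝒜']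
  {L : 𝒜 ⥤ 𝒜'} {R : 𝒜' ⥤ 𝒜} (adj : L ⊣ R) [L.Additive] [R.Additive]

/-! ### Functoriality of the iterates -/

variable (L R) in
/-- the action of `Mⁿ` on morphisms -/
noncomputable def Xmap {F G : 𝒜} (φ : F ⟶ G) : ∀ n, X L R F n ⟶ X L R G n
  | 0 => φ
  | n + 1 => (L ⋙ R).map (Xmap φ n)

lemma Xmap_zero_idx {F G : 𝒜} (φ : F ⟶ G) : Xmap L R φ 0 = φ := rfl

lemma Xmap_succ {F G : 𝒜} (φ : F ⟶ G) (n : ℕ) :
    Xmap L R φ (n + 1) = (L ⋙ R).map (Xmap L R φ n) := rfl

lemma Xmap_id (F : 𝒜) : ∀ n, Xmap L R (𝟙 F) n = 𝟙 (X L R F n)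
  | 0 => rfl
  | n + 1 => by
    rw [Xmap_succ, Xmap_id F n]
    exact (L ⋙ R).map_id _

lemma Xmap_comp {F G H : 𝒜} (φ : F ⟶ G) (ψ : G ⟶ H) :
    ∀ n, Xmap L R (φ ≫ ψ) n = Xmap L R φ n ≫ Xmap L R ψ n
  | 0 => rfl
  | n + 1 => by
    rw [Xmap_succ, Xmap_comp φ ψ n]
    exact (L ⋙ R).map_comp _ _

lemma Xmap_add {F G : 𝒜} (φ ψ : F ⟶ G) :
    ∀ n, Xmap L R (φ + ψ) n = Xmap L R φ n + Xmap L R ψ n
  | 0 => rfl
  | n + 1 => by
    rw [Xmap_succ, Xmap_add φ ψ n]
    exact (L ⋙ R).map_add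

lemma Xmap_d {F G : 𝒜} (φ : F ⟶ G) :
    ∀ n, Xmap L R φ n ≫ d adj G n = d adj F n ≫ Xmap L R φ (n + 1)
  | 0 => adj.unit.naturality φ
  | n + 1 => by
    have ih := Xmap_d φ n
    have h1 : Xmap L R φ (n + 1) ≫ η adj G (n + 1) =
        η adj F (n + 1) ≫ Xmap L R φ (n + 1 + 1) :=
      adj.unit.naturality (Xmap L R φ (n + 1))
    have h2 : Xmap L R φ (n + 1) ≫ Mm G (d adj G n) =
        Mm F (d adj F n) ≫ Xmap L R φ (n + 1 + 1) := by
      show (L ⋙ R).map (Xmap L R φ n) ≫ (L ⋙ R).map (d adj G n) =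
        (L ⋙ R).map (d adj F n) ≫ (L ⋙ R).map (Xmap L R φ (n + 1))
      rw [← (L ⋙ R).map_comp, ← (L ⋙ R).map_comp, ih]
    rw [d_succ, d_succ, Preadditive.comp_sub, Preadditive.sub_comp, h1, h2]

/-! ### The cobar functor -/

/-- the morphism of cobar complexes induced by a morphism -/
noncomputable def Kmap {F G : 𝒜} (φ : F ⟶ G) : K adj F ⟶ K adj G :=
  CochainComplex.ofHom (X := K adj F) (Y := K adj G) (fun n => Xmap L R φ (n + 1))
    (fun n => by
      rw [K_d, K_d]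
      exact Xmap_d adj φ (n + 1))

lemma Kmap_f {F G : 𝒜} (φ : F ⟶ G) (n : ℕ) : (Kmap adj φ).f n = Xmap L R φ (n + 1) := rfl

/-- the cobar complex as a functor -/
noncomputable def Kf : 𝒜 ⥤ CochainComplex 𝒜 ℕ where
  obj F := K adj F
  map φ := Kmap adj φ
  map_id F := by
    ext n
    rw [Kmap_f, Xmap_id]
    rfl
  map_comp φ ψ := by
    ext n
    rw [HomologicalComplex.comp_f, Kmap_f, Kmap_f, Kmap_f, Xmap_comp]

lemma Kf_obj (F : 𝒜) : (Kf adj).obj F = K adj F := rfl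

lemma Kf_map_f {F G : 𝒜} (φ : F ⟶ G) (n : ℕ) : ((Kf adj).map φ).f n = Xmap L R φ (n + 1) := rfl

instance : (Kf adj).Additive where
  map_add {F G φ ψ} := by
    ext n
    rw [HomologicalComplex.add_f_apply, Kf_map_f, Kf_map_f, Kf_map_f, Xmap_add]

/-! ### The iterates as functors -/

variable (L R) in
/-- the iterate `Mⁿ` as a functor -/
noncomputable def Xf (n : ℕ) : 𝒜 ⥤ 𝒜 where
  obj F := X L R F n
  map φ := Xmap L R φ n
  map_id F := Xmap_id F n
  map_comp φ ψ := Xmap_comp φ ψ n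

instance additive_Xf (n : ℕ) : (Xf L R n).Additive where
  map_add {F G φ ψ} := Xmap_add φ ψ n

variable (L R) in
/-- `M⁰ = 𝟭` -/
noncomputable def XfZeroIso : Xf L R 0 ≅ 𝟭 𝒜 :=
  NatIso.ofComponents (fun F => Iso.refl _) (fun {F G} φ => by
    show φ ≫ 𝟙 G = 𝟙 F ≫ φ
    rw [Category.comp_id, Category.id_comp])

variable (L R) in
/-- `Mⁿ⁺¹ = Mⁿ ⋙ M` -/
noncomputable def XfSuccIso (n : ℕ) : Xf L R (n + 1) ≅ Xf L R n ⋙ (L ⋙ R) :=
  NatIso.ofComponents (fun F => Iso.refl _) (fun {F G} φ => by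
    show (L ⋙ R).map (Xmap L R φ n) ≫ 𝟙 _ = 𝟙 _ ≫ (L ⋙ R).map (Xmap L R φ n)
    rw [Category.comp_id, Category.id_comp])

/-- the terms of the cobar functor -/
noncomputable def KfEvalIso (p : ℕ) :
    Kf adj ⋙ HomologicalComplex.eval 𝒜 (ComplexShape.up ℕ) p ≅ Xf L R (p + 1) :=
  NatIso.ofComponents (fun F => Iso.refl _) (fun {F G} φ => by
    show Xmap L R φ (p + 1) ≫ 𝟙 _ = 𝟙 _ ≫ Xmap L R φ (p + 1)
    rw [Category.comp_id, Category.id_comp])

section PFL

variable [PreservesFiniteLimits L] [PreservesFiniteLimits R]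

lemma pfl_Xf : ∀ n : ℕ, PreservesFiniteLimits (Xf L R n)
  | 0 => preservesFiniteLimits_of_natIso (XfZeroIso L R).symm
  | n + 1 => by
    haveI := pfl_Xf n
    haveI : PreservesFiniteLimits (L ⋙ R) := comp_preservesFiniteLimits L R
    haveI : PreservesFiniteLimits (Xf L R n ⋙ (L ⋙ R)) := comp_preservesFiniteLimits _ _
    exact preservesFiniteLimits_of_natIso (XfSuccIso L R n).symm

instance pfl_Kf : PreservesFiniteLimits (Kf adj) := by
  constructor
  intro J _ _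
  apply HomologicalComplex.preservesLimitsOfShape_of_eval
  intro p
  haveI := pfl_Xf (L := L) (R := R) (p + 1)
  haveI : PreservesFiniteLimits
      (Kf adj ⋙ HomologicalComplex.eval 𝒜 (ComplexShape.up ℕ) p) :=
    preservesFiniteLimits_of_natIso (KfEvalIso adj p).symm
  infer_instance

end PFL

/-! ### `Z⁰ ∘ Kf ≅ 𝟭` -/

section Cycles

variable [PreservesFiniteLimits L] [PreservesFiniteColimits L]
  (hL : ∀ A : 𝒜, IsZero (L.obj A) → IsZero A)

lemma d0_w (F : 𝒜) : d adj F 0 ≫ (K adj F).d 0 1 = 0 := by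
  rw [K_d]
  exact d_comp adj F 0

include hL in
lemma exact_aug (F : 𝒜) : (ShortComplex.mk (d adj F 0) ((K adj F).d 0 1) (d0_w adj F)).Exact :=
  Groth.Agent.Lib.Horseshoe0.exact_congr rfl (K_d adj F 0) _ _ (exact_d adj hL F 0)

/-- `F ≅ Z⁰(K F)` -/
noncomputable def cyclesIso (F : 𝒜) : F ≅ (K adj F).cycles 0 :=
  haveI : Mono (ShortComplex.mk (d adj F 0) ((K adj F).d 0 1) (d0_w adj F)).f :=
    mono_d_zero adj hL F
  IsLimit.conePointUniqueUpToIso (exact_aug adj hL F).fIsKernel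
    ((K adj F).cyclesIsKernel 0 1 (by simp))

lemma cyclesIso_hom_i (F : 𝒜) :
    (cyclesIso adj hL F).hom ≫ (K adj F).iCycles 0 = d adj F 0 :=
  haveI : Mono (ShortComplex.mk (d adj F 0) ((K adj F).d 0 1) (d0_w adj F)).f :=
    mono_d_zero adj hL F
  IsLimit.conePointUniqueUpToIso_hom_comp (exact_aug adj hL F).fIsKernel
    ((K adj F).cyclesIsKernel 0 1 (by simp)) WalkingParallelPair.zero

/-- the natural isomorphism `𝟭 ≅ Kf ⋙ Z⁰` -/
noncomputable def cyclesNatIso : 𝟭 𝒜 ≅ Kf adj ⋙ Z0 𝒜 :=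
  NatIso.ofComponents (fun F => cyclesIso adj hL F) (fun {F G} φ => by
    rw [← cancel_mono ((K adj G).iCycles 0)]
    show (φ ≫ (cyclesIso adj hL G).hom) ≫ (K adj G).iCycles 0 =
      ((cyclesIso adj hL F).hom ≫ HomologicalComplex.cyclesMap (Kmap adj φ) 0) ≫
        (K adj G).iCycles 0
    rw [Category.assoc, cyclesIso_hom_i, Category.assoc, HomologicalComplex.cyclesMap_i,
      ← Category.assoc, cyclesIso_hom_i]
    exact Xmap_d adj φ 0)

end Cycles

/-! ### Contractibility on objects with split unit -/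

lemma Mm_id' (F : 𝒜) (n : ℕ) : Mm F (𝟙 (X L R F n)) = 𝟙 (X L R F (n + 1)) :=
  (L ⋙ R).map_id _

lemma Mm_add' (F : 𝒜) {m n : ℕ} (f g : X L R F m ⟶ X L R F n) :
    Mm F (f + g) = Mm F f + Mm F g := (L ⋙ R).map_add

lemma unit_nat' (F : 𝒜) {m n : ℕ} (f : X L R F m ⟶ X L R F n) :
    f ≫ η adj F n = η adj F m ≫ Mm F f := adj.unit.naturality f

/-- the contracting homotopy of the augmented cobar complex of `R J` -/
noncomputable def hR (J : 𝒜') : ∀ n, X L R (R.obj J) (n + 1) ⟶ X L R (R.obj J) n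
  | 0 => R.map (adj.counit.app J)
  | n + 1 => - Mm (R.obj J) (hR J n)

lemma hR_succ (J : 𝒜') (n : ℕ) : hR adj J (n + 1) = - Mm (R.obj J) (hR adj J n) := rfl

lemma d_hR_zero (J : 𝒜') : d adj (R.obj J) 0 ≫ hR adj J 0 = 𝟙 _ :=
  adj.right_triangle_components J

lemma hR_spec (J : 𝒜') : ∀ n,
    hR adj J n ≫ d adj (R.obj J) n + d adj (R.obj J) (n + 1) ≫ hR adj J (n + 1) = 𝟙 _
  | 0 => by
    have h1 : Mm (R.obj J) (d adj (R.obj J) 0) ≫ Mm (R.obj J) (hR adj J 0) = 𝟙 _ := by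
      rw [← Mm_comp, d_hR_zero, Mm_id']
    have h0 : d adj (R.obj J) 0 = η adj (R.obj J) 0 := rfl
    have e1 : d adj (R.obj J) (0 + 1) ≫ hR adj J (0 + 1) =
        𝟙 _ - hR adj J 0 ≫ d adj (R.obj J) 0 := by
      rw [d_succ, hR_succ, Preadditive.comp_neg, Preadditive.sub_comp, h1, ← unit_nat', h0]
      abel
    rw [e1]
    abel
  | n + 1 => by
    have ih := hR_spec J n
    have h4 : Mm (R.obj J) (hR adj J n) ≫ Mm (R.obj J) (d adj (R.obj J) n) +
        Mm (R.obj J) (d adj (R.obj J) (n + 1)) ≫ Mm (R.obj J) (hR adj J (n + 1)) = 𝟙 _ := by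
      rw [← Mm_comp, ← Mm_comp, ← Mm_add', ih, Mm_id']
    have e1 : hR adj J (n + 1) ≫ d adj (R.obj J) (n + 1) =
        hR adj J (n + 1) ≫ η adj (R.obj J) (n + 1) +
          Mm (R.obj J) (hR adj J n) ≫ Mm (R.obj J) (d adj (R.obj J) n) := by
      have c : hR adj J (n + 1) ≫ Mm (R.obj J) (d adj (R.obj J) n) =
          -(Mm (R.obj J) (hR adj J n) ≫ Mm (R.obj J) (d adj (R.obj J) n)) := by
        rw [hR_succ, Preadditive.neg_comp]
      rw [d_succ, Preadditive.comp_sub, c, sub_neg_eq_add]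
    have e2 : d adj (R.obj J) (n + 1 + 1) ≫ hR adj J (n + 1 + 1) =
        -(hR adj J (n + 1) ≫ η adj (R.obj J) (n + 1)) +
          Mm (R.obj J) (d adj (R.obj J) (n + 1)) ≫ Mm (R.obj J) (hR adj J (n + 1)) := by
      rw [d_succ adj (R.obj J) (n + 1), hR_succ adj J (n + 1), Preadditive.comp_neg,
        Preadditive.sub_comp, ← unit_nat', neg_sub, sub_eq_neg_add]
    rw [e1, e2, ← h4]
    abel

/-- if the unit of `I` is a split monomorphism, the augmented cobar complex of `I` is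
contractible -/
theorem exists_contraction (I : 𝒜) (r : R.obj (L.obj I) ⟶ I) (hr : adj.unit.app I ≫ r = 𝟙 I) :
    ∃ s : ∀ n, X L R I (n + 1) ⟶ X L R I n,
      ∀ n, s n ≫ d adj I n + d adj I (n + 1) ≫ s (n + 1) = 𝟙 _ := by
  let i : I ⟶ R.obj (L.obj I) := adj.unit.app I
  have hir : ∀ n, Xmap L R i n ≫ Xmap L R r n = 𝟙 _ := fun n => by
    rw [← Xmap_comp]
    have : i ≫ r = 𝟙 I := hr
    rw [this, Xmap_id]
  refine ⟨fun n => Xmap L R i (n + 1) ≫ hR adj (L.obj I) n ≫ Xmap L R r n, fun n => ?_⟩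
  have h1 : (Xmap L R i (n + 1) ≫ hR adj (L.obj I) n ≫ Xmap L R r n) ≫ d adj I n =
      Xmap L R i (n + 1) ≫ (hR adj (L.obj I) n ≫ d adj (R.obj (L.obj I)) n) ≫
        Xmap L R r (n + 1) := by
    rw [Category.assoc, Category.assoc, Xmap_d adj r n, Category.assoc]
  have h2 : d adj I (n + 1) ≫
      (Xmap L R i (n + 1 + 1) ≫ hR adj (L.obj I) (n + 1) ≫ Xmap L R r (n + 1)) =
      Xmap L R i (n + 1) ≫ (d adj (R.obj (L.obj I)) (n + 1) ≫ hR adj (L.obj I) (n + 1)) ≫
        Xmap L R r (n + 1) := by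
    rw [← Category.assoc, ← Xmap_d adj i (n + 1), Category.assoc, Category.assoc]
  rw [h1, h2, ← Preadditive.comp_add, ← Preadditive.add_comp, hR_spec, Category.id_comp, hir]

variable {ℬ : Type u''} [Category.{v''} ℬ] [Abelian ℬ]

/-- after applying an additive functor, the cobar complex of an object with split unit is exact in
positive degrees -/
theorem isZero_homology_map_K (Γ : 𝒜 ⥤ ℬ) [Γ.Additive] (I : 𝒜) (r : R.obj (L.obj I) ⟶ I)
    (hr : adj.unit.app I ≫ r = 𝟙 I) (n : ℕ) :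
    IsZero (((Γ.mapHomologicalComplex (ComplexShape.up ℕ)).obj (K adj I)).homology (n + 1)) := by
  obtain ⟨s, hs⟩ := exists_contraction adj I r hr
  have key : Γ.map (s (n + 1)) ≫ Γ.map (d adj I (n + 1)) +
      Γ.map (d adj I (n + 1 + 1)) ≫ Γ.map (s (n + 1 + 1)) = 𝟙 (Γ.obj (X L R I (n + 1 + 1))) := by
    rw [← Γ.map_comp, ← Γ.map_comp, ← Γ.map_add, hs (n + 1)]
    exact Γ.map_id _
  have e1 : ((Γ.mapHomologicalComplex (ComplexShape.up ℕ)).obj (K adj I)).d n (n + 1) =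
      Γ.map (d adj I (n + 1)) := by
    show Γ.map ((K adj I).d n (n + 1)) = _
    rw [K_d]
  have e2 : ((Γ.mapHomologicalComplex (ComplexShape.up ℕ)).obj (K adj I)).d (n + 1) (n + 1 + 1) =
      Γ.map (d adj I (n + 1 + 1)) := by
    show Γ.map ((K adj I).d (n + 1) (n + 1 + 1)) = _
    rw [K_d]
  rw [← HomologicalComplex.exactAt_iff_isZero_homology]
  refine Groth.Agent.Lib.CxConeH7.exactAt_succ_of_homotopy _ n (Γ.map (s (n + 1)))
    (Γ.map (s (n + 1 + 1))) ?_
  rw [e1, e2]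
  exact key

section Inj

variable [PreservesFiniteLimits L] [PreservesFiniteColimits L]
  (hL : ∀ A : 𝒜, IsZero (L.obj A) → IsZero A)

include hL in
/-- for an injective object, `Γ` of the cobar complex is exact in positive degrees -/
theorem isZero_homology_map_K_of_injective (Γ : 𝒜 ⥤ ℬ) [Γ.Additive] (I : 𝒜) [Injective I]
    (n : ℕ) :
    IsZero (((Γ.mapHomologicalComplex (ComplexShape.up ℕ)).obj (K adj I)).homology (n + 1)) := by
  haveI : Mono (adj.unit.app I) := mono_d_zero adj hL I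
  exact isZero_homology_map_K adj Γ I (Injective.factorThru (𝟙 I) (adj.unit.app I))
    (Injective.comp_factorThru _ _) n

end Inj

end Groth.Agent.Lib.CobarFunH7
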