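import Mathlib
import Groth.Prelude.Def_SpSeq
import Groth.Agent.Lib.CxGrothSS_helper7

/-!
# The spectral sequence of a complex of functors (helper7)

Let `Φ : 𝒜 ⥤ CochainComplex ℬ ℕ` be a left exact additive functor (a complex of left exact
functors `Φ^p = Φ ⋙ eval p`) such that `Φ I` is exact in positive degrees for every injective `I`.
Then for every `F` there is a spectral sequence starting at page one with
`E₁^{p,q} ≅ R^q(Φ^p)(F)` abutting to `Rⁿ(Z⁰ ∘ Φ)(F)`.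
-/

set_option autoImplicit false
set_option backward.isDefEq.respectTransparency false
set_option backward.isDefEq.respectTransparency.types false
set_option linter.style.haveILetI false
set_option linter.unusedSectionVars false
universe v u v' u'
open CategoryTheory CategoryTheory.Limits ZeroObject

namespace Groth.Agent.Lib.FunCxSSH7

open Groth.Agent.Lib.CxConeH7 Groth.Agent.Lib.CxHomDeltaH7

variable {𝒜 : Type u} [Category.{v} 𝒜] [Abelian 𝒜] {ℬ : Type u'} [Category.{v'} ℬ] [Abelian ℬ]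
  (Φ : 𝒜 ⥤ CochainComplex ℬ ℕ) [Φ.Additive] [PreservesFiniteLimits Φ]

variable [EnoughInjectives 𝒜] [EnoughInjectives (CochainComplex ℬ ℕ)]

/-- the `p`-th term of the complex of functors -/
noncomputable abbrev term (p : ℕ) : 𝒜 ⥤ ℬ :=
  Φ ⋙ HomologicalComplex.eval ℬ (ComplexShape.up ℕ) p

theorem nonempty_termwise (p q : ℕ) (F : 𝒜) :
    Nonempty (((Φ.rightDerived q).obj F).X p ≅ ((term Φ p).rightDerived q).obj F) := by
  obtain ⟨e⟩ := Groth.Agent.Lib.DeltaComp.nonempty_rightDerived_baseChange Φ (term Φ p)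
    (𝟭 𝒜) (HomologicalComplex.eval ℬ (ComplexShape.up ℕ) p) (Functor.leftUnitor _).symm
    (fun I hI n => by
      haveI := hI
      exact (term Φ p).isZero_rightDerived_obj_injective_succ n I) q
  exact ⟨e.app F⟩

variable (F : 𝒜)

/-- the rows of the first page -/
noncomputable def Row (q : ℤ) : CochainComplex ℬ ℤ :=
  if 0 ≤ q then ((Φ.rightDerived q.toNat).obj F).extend ComplexShape.embeddingUpNat
  else Groth.Agent.Lib.DegenSS_helper7.zeroCx

/-- the second page -/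
noncomputable def E2 (p q : ℤ) : ℬ :=
  if 0 ≤ p ∧ 0 ≤ q then ((Φ.rightDerived q.toNat).obj F).homology p.toNat else 0

lemma isZero_E2 (p q : ℤ) (h : p < 0 ∨ q < 0) : IsZero (E2 Φ F p q) := by
  unfold E2
  rw [if_neg (by omega)]
  exact isZero_zero ℬ

lemma isZero_Row_X (p q : ℤ) (h : p < 0 ∨ q < 0) : IsZero ((Row Φ F q).X p) := by
  unfold Row
  by_cases hq : 0 ≤ q
  · rw [if_pos hq]
    have hp : p < 0 := by omega
    exact HomologicalComplex.isZero_extend_X _ _ _ (fun j hj => by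
      have h1 : ComplexShape.embeddingUpNat.f j = (j : ℤ) := rfl
      rw [h1] at hj
      omega)
  · rw [if_neg hq]
    exact isZero_zero ℬ

lemma nonempty_Row_XIso (m n : ℕ) :
    Nonempty ((Row Φ F (n : ℤ)).X (m : ℤ) ≅ ((Φ.rightDerived n).obj F).X m) := by
  unfold Row
  rw [if_pos (Int.natCast_nonneg n)]
  exact ⟨HomologicalComplex.extendXIso ((Φ.rightDerived n).obj F)
    ComplexShape.embeddingUpNat (i := m) (i' := (m : ℤ)) rfl⟩

lemma nonempty_Row_homology_iso (p q : ℤ) :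
    Nonempty ((Row Φ F q).homology p ≅ E2 Φ F p q) := by
  by_cases hq : 0 ≤ q
  · by_cases hp : 0 ≤ p
    · obtain ⟨m, rfl⟩ := Int.eq_ofNat_of_zero_le hp
      unfold Row E2
      rw [if_pos hq, if_pos ⟨hp, hq⟩]
      exact ⟨HomologicalComplex.extendHomologyIso ((Φ.rightDerived q.toNat).obj F)
        ComplexShape.embeddingUpNat (j := m) (j' := (m : ℤ)) rfl⟩
    · have hz : IsZero ((Row Φ F q).homology p) :=
        ((HomologicalComplex.exactAt_iff _ _).2 (ShortComplex.exact_of_isZero_X₂ _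
          (isZero_Row_X Φ F p q (Or.inl (by omega))))).isZero_homology
      exact ⟨hz.iso (isZero_E2 Φ F p q (Or.inl (by omega)))⟩
  · have hz : IsZero ((Row Φ F q).homology p) :=
      ((HomologicalComplex.exactAt_iff _ _).2 (ShortComplex.exact_of_isZero_X₂ _
        (isZero_Row_X Φ F p q (Or.inr (by omega))))).isZero_homology
    exact ⟨hz.iso (isZero_E2 Φ F p q (Or.inr (by omega)))⟩

/-- the first page -/
noncomputable def P1 : HomologicalComplex ℬ (ComplexShape.up' ((1 : ℤ), (1 : ℤ) - 1)) :=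
  Groth.Agent.Lib.DegenSS_helper7.assemble (Row Φ F)

lemma P1_X (p q : ℤ) : (P1 Φ F).X (p, q) = (Row Φ F q).X p := rfl

/-- **The spectral sequence of a complex of functors.** -/
theorem exists_ss
    (hΦ : ∀ I : 𝒜, Injective I → ∀ n : ℕ, IsZero ((Φ.obj I).homology (n + 1)))
    (H'' : ℤ → ℬ) (hH : ∀ n : ℕ, Nonempty (((Φ ⋙ Z0 ℬ).rightDerived n).obj F ≅ H'' n))
    (hH0 : ∀ n : ℤ, n < 0 → IsZero (H'' n))
    (E1 : ℤ → ℤ → ℬ)
    (hE1 : ∀ p q : ℕ, Nonempty (((term Φ p).rightDerived q).obj F ≅ E1 p q))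
    (hE10 : ∀ p q : ℤ, (p < 0 ∨ q < 0) → IsZero (E1 p q)) :
    ∃ (E : CohomologicalSpectralSequence ℬ 1) (a : SpSeq.Abutment E H''),
      (∀ n, a.IsFinite n) ∧ SpSeq.IsBounded E ∧
      ∀ p q : ℤ, Nonempty ((E.page 1 le_rfl).X (p, q) ≅ E1 p q) := by
  have hT : ∀ Q : 𝒜, Injective Q → ∀ q : ℕ, 0 < q →
      IsZero (((Z0 ℬ).rightDerived q).obj (Φ.obj Q)) := by
    intro Q hQ q hq
    obtain ⟨q', rfl⟩ : ∃ q', q = q' + 1 := ⟨q - 1, by omega⟩
    obtain ⟨e1⟩ := nonempty_rightDerived_Z0_obj_iso (𝒜 := ℬ) (q' + 1) (Φ.obj Q)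
    exact IsZero.of_iso (hΦ Q hQ q') e1
  obtain ⟨E, a, ha, -, hE2⟩ := Groth.Agent.Lib.GrothSS.grothendieck_ss_flex Φ (Z0 ℬ)
    hT F H'' (E2 Φ F) hH hH0
    (fun p q => by
      obtain ⟨e1⟩ := nonempty_rightDerived_Z0_obj_iso (𝒜 := ℬ) p ((Φ.rightDerived q).obj F)
      have e2 : E2 Φ F (p : ℤ) (q : ℤ) = ((Φ.rightDerived q).obj F).homology p := by
        unfold E2
        rw [if_pos ⟨Int.natCast_nonneg p, Int.natCast_nonneg q⟩]
        rfl
      exact ⟨e1 ≪≫ eqToIso e2.symm⟩)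
    (isZero_E2 Φ F)
  have hP : ∀ pq : ℤ × ℤ, Nonempty ((P1 Φ F).homology pq ≅ (E.page 2 le_rfl).X pq) := by
    rintro ⟨p, q⟩
    obtain ⟨e1⟩ := nonempty_Row_homology_iso Φ F p q
    obtain ⟨e2⟩ := hE2 p q
    exact ⟨Groth.Agent.Lib.DegenSS_helper7.assembleHomologyIso (Row Φ F) p q ≪≫ e1 ≪≫ e2.symm⟩
  obtain ⟨E₁, a₁, ha₁, hE₁⟩ := Groth.Agent.Lib.SSPrependH7.exists_prepend E (P1 Φ F) hP a ha
  refine ⟨E₁, a₁, ha₁, ?_, ?_⟩
  · intro n
    refine (Set.finite_Icc (0 : ℤ) n).subset ?_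
    intro p hp
    by_contra hcon
    apply hp
    rw [hE₁, P1_X]
    apply isZero_Row_X
    simp only [Set.mem_Icc, not_and_or, not_le] at hcon
    omega
  · intro p q
    rw [hE₁, P1_X]
    by_cases h : p < 0 ∨ q < 0
    · exact ⟨(isZero_Row_X Φ F p q h).iso (hE10 p q h)⟩
    · have hp : 0 ≤ p := by omega
      have hq : 0 ≤ q := by omega
      obtain ⟨m, rfl⟩ := Int.eq_ofNat_of_zero_le hp
      obtain ⟨n, rfl⟩ := Int.eq_ofNat_of_zero_le hq
      obtain ⟨e1⟩ := nonempty_Row_XIso Φ F m n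
      obtain ⟨e2⟩ := nonempty_termwise Φ m n F
      obtain ⟨e3⟩ := hE1 m n
      exact ⟨e1 ≪≫ e2 ≪≫ e3⟩

end Groth.Agent.Lib.FunCxSSH7
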