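import Mathlib
import Groth.Prelude.Def_SpSeq
import Groth.Agent.Lib.CobarFun_helper7
import Groth.Agent.Lib.FunCxSS_helper7

/-!
# The descent spectral sequence of an adjunction (helper7)

Let `L ⊣ R` be an adjunction between abelian categories with `L` exact and reflecting zero objects,
`M = L ⋙ R`, and `Γ : 𝒜 ⥤ ℬ` a left exact additive functor.  For every `F` there is a spectral
sequence starting at page one with `E₁^{p,q} ≅ R^q(M^{p+1} ⋙ Γ)(F)` abutting to `RⁿΓ(F)`.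
-/

set_option autoImplicit false
set_option backward.isDefEq.respectTransparency false
set_option backward.isDefEq.respectTransparency.types false
set_option linter.style.haveILetI false
set_option linter.unusedSectionVars false
universe v u v' u' v'' u''
open CategoryTheory CategoryTheory.Limits

namespace Groth.Agent.Lib.CobarSSH7

open Groth.Agent.Lib.CobarH7 Groth.Agent.Lib.CobarFunH7 Groth.Agent.Lib.CxHomDeltaH7

variable {𝒜 : Type u} [Category.{v} 𝒜] [Abelian 𝒜] {𝒜' : Type u'} [Category.{v'} 𝒜'] [Abelian 𝒜']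
  {L : 𝒜 ⥤ 𝒜'} {R : 𝒜' ⥤ 𝒜} (adj : L ⊣ R) [L.Additive] [R.Additive]
  [PreservesFiniteLimits L] [PreservesFiniteColimits L] [PreservesFiniteLimits R]
  (hL : ∀ A : 𝒜, IsZero (L.obj A) → IsZero A)
  {ℬ : Type u''} [Category.{v''} ℬ] [Abelian ℬ]
  (Γ : 𝒜 ⥤ ℬ) [Γ.Additive] [PreservesFiniteLimits Γ]

/-- the complex of functors -/
noncomputable abbrev Φ : 𝒜 ⥤ CochainComplex ℬ ℕ :=
  Kf adj ⋙ Γ.mapHomologicalComplex (ComplexShape.up ℕ)

/-- evaluation commutes with termwise application -/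
noncomputable def evalMapIso (p : ℕ) :
    Γ.mapHomologicalComplex (ComplexShape.up ℕ) ⋙ HomologicalComplex.eval ℬ (ComplexShape.up ℕ) p ≅
      HomologicalComplex.eval 𝒜 (ComplexShape.up ℕ) p ⋙ Γ :=
  NatIso.ofComponents (fun K => Iso.refl _) (fun {K K'} φ => by
    show Γ.map (φ.f p) ≫ 𝟙 _ = 𝟙 _ ≫ Γ.map (φ.f p)
    rw [Category.comp_id, Category.id_comp])

/-- the terms of the complex of functors -/
noncomputable def termIso (p : ℕ) :
    Φ adj Γ ⋙ HomologicalComplex.eval ℬ (ComplexShape.up ℕ) p ≅ Xf L R (p + 1) ⋙ Γ :=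
  Functor.associator _ _ _ ≪≫ Functor.isoWhiskerLeft (Kf adj) (evalMapIso Γ p) ≪≫
    (Functor.associator _ _ _).symm ≪≫ Functor.isoWhiskerRight (KfEvalIso adj p) Γ

/-- the zeroth cohomology of the complex of functors -/
noncomputable def zeroIso : Φ adj Γ ⋙ Z0 ℬ ≅ Γ :=
  Functor.associator _ _ _ ≪≫
    Functor.isoWhiskerLeft (Kf adj) (Groth.Agent.Lib.CxGrothSSH7.φ Γ) ≪≫
    (Functor.associator _ _ _).symm ≪≫
    Functor.isoWhiskerRight (cyclesNatIso adj hL).symm Γ ≪≫ Functor.leftUnitor Γ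

variable [EnoughInjectives 𝒜] [EnoughInjectives (CochainComplex ℬ ℕ)]

include adj hL in
/-- **The descent spectral sequence of an adjunction.** -/
theorem exists_ss (F : 𝒜)
    (H'' : ℤ → ℬ) (hH : ∀ n : ℕ, Nonempty ((Γ.rightDerived n).obj F ≅ H'' n))
    (hH0 : ∀ n : ℤ, n < 0 → IsZero (H'' n))
    (E1 : ℤ → ℤ → ℬ)
    (hE1 : ∀ p q : ℕ, Nonempty (((Xf L R (p + 1) ⋙ Γ).rightDerived q).obj F ≅ E1 p q))
    (hE10 : ∀ p q : ℤ, (p < 0 ∨ q < 0) → IsZero (E1 p q)) :
    ∃ (E : CohomologicalSpectralSequence ℬ 1) (a : SpSeq.Abutment E H''),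
      (∀ n, a.IsFinite n) ∧ SpSeq.IsBounded E ∧
      ∀ p q : ℤ, Nonempty ((E.page 1 le_rfl).X (p, q) ≅ E1 p q) := by
  haveI : PreservesFiniteLimits (Φ adj Γ) := comp_preservesFiniteLimits _ _
  refine Groth.Agent.Lib.FunCxSSH7.exists_ss (Φ adj Γ) F ?_ H'' ?_ hH0 E1 ?_ hE10
  · intro I hI n
    haveI := hI
    exact isZero_homology_map_K_of_injective adj hL Γ I n
  · intro n
    obtain ⟨e⟩ := hH n
    exact ⟨(ExtDer.rightDerivedIso (zeroIso adj hL Γ) n).app F ≪≫ e⟩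
  · intro p q
    obtain ⟨e⟩ := hE1 p q
    exact ⟨(ExtDer.rightDerivedIso (termIso adj Γ p) q).app F ≪≫ e⟩

end Groth.Agent.Lib.CobarSSH7
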