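import Groth.Agent.Lib.NatIntTot_helper7
import Groth.Agent.Lib.CobarFun_helper7
import Groth.Agent.Lib.DerAdjPlus_helper9

/-!
# The total complex of the cobar double complex of a complex (helper7)

Let `L ⊣ R` be an adjunction between abelian categories (`L`, `R` additive) and `F` a cochain
complex in `𝒜` with `F^p = 0` for `p < a`.  Applying the cobar construction to the termwise
adjunction on complexes gives a double complex `KK^{q,p} = M^{q+1} F^p` (`M = L ⋙ R`).  We define

* `φ : F ⟶ Tot KK`, induced by the unit;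
* `pr₀ : Tot KK ⟶ KK^{0,•}`, and `ρ = L(pr₀) ≫ counit : L(Tot KK) ⟶ L F` with `L φ ≫ ρ = 𝟙`;
* a homotopy `𝟙 ≃ ρ ≫ L φ`, hence a homotopy equivalence `L F ≃ L (Tot KK)` (`homotopyEquiv`).
-/

set_option autoImplicit false
set_option backward.isDefEq.respectTransparency false
set_option backward.isDefEq.respectTransparency.types false
set_option linter.style.haveILetI false
set_option linter.unusedSectionVars false

open CategoryTheory CategoryTheory.Limits HomologicalComplex

namespace Groth.Agent.Lib.CobarTotH7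

open Groth.Agent.Lib.CobarH7 Groth.Agent.Lib.NatIntTotH7

universe v u v' u'
variable {𝒜 : Type u} [Category.{v} 𝒜] [Abelian 𝒜] {ℬ : Type u'} [Category.{v'} ℬ] [Abelian ℬ]
  {L : 𝒜 ⥤ ℬ} {R : ℬ ⥤ 𝒜} (adj : L ⊣ R) [L.Additive] [R.Additive]
  (F : CochainComplex 𝒜 ℤ)

/-- the termwise left adjoint -/
abbrev Lc (L : 𝒜 ⥤ ℬ) [L.Additive] : CochainComplex 𝒜 ℤ ⥤ CochainComplex ℬ ℤ :=
  L.mapHomologicalComplex (ComplexShape.up ℤ)

/-- the termwise right adjoint -/
abbrev Rc (R : ℬ ⥤ 𝒜) [R.Additive] : CochainComplex ℬ ℤ ⥤ CochainComplex 𝒜 ℤ :=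
  R.mapHomologicalComplex (ComplexShape.up ℤ)

/-- the termwise adjunction -/
abbrev adjc : Lc L ⊣ Rc R := DerAdjPlus.adjHC adj (ComplexShape.up ℤ)

/-- the iterates -/
noncomputable abbrev XX (q : ℕ) : CochainComplex 𝒜 ℤ := X (Lc L) (Rc R) F q

/-- the cobar differentials -/
noncomputable abbrev dd (q : ℕ) : XX (L := L) (R := R) F q ⟶ XX (L := L) (R := R) F (q + 1) :=
  d (adjc adj) F q

/-- the contraction -/
noncomputable abbrev ss (q : ℕ) :
    (Lc L).obj (XX (L := L) (R := R) F (q + 1)) ⟶ (Lc L).obj (XX (L := L) (R := R) F q) :=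
  s (adjc adj) F q

/-- the cobar double complex -/
noncomputable abbrev KK : NI 𝒜 := K (adjc adj) F

theorem KK_d (q : ℕ) : (KK adj F).d q (q + 1) = dd adj F (q + 1) := K_d (adjc adj) F q

theorem isZero_XX_X (a : ℤ) (hF : ∀ p : ℤ, p < a → IsZero (F.X p)) :
    ∀ (q : ℕ) (p : ℤ), p < a → IsZero ((XX (L := L) (R := R) F q).X p)
  | 0, p, hp => hF p hp
  | q + 1, p, hp => by
    show IsZero (R.obj (L.obj ((XX (L := L) (R := R) F q).X p)))
    exact R.map_isZero (L.map_isZero (isZero_XX_X a hF q p hp))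

theorem bdd_KK (a : ℤ) (hF : ∀ p : ℤ, p < a → IsZero (F.X p)) : Bdd (KK adj F) a :=
  fun q p hp => isZero_XX_X F a hF (q + 1) p hp

variable [(KK adj F).HasTotal (ComplexShape.up ℤ)]

/-- the total complex -/
noncomputable abbrev G : CochainComplex 𝒜 ℤ := (KK adj F).total (ComplexShape.up ℤ)

/-- the inclusions -/
noncomputable abbrev ιG (q : ℕ) (p n : ℤ) (h : (q : ℤ) + p = n) :
    (XX (L := L) (R := R) F (q + 1)).X p ⟶ (G adj F).X n :=
  (KK adj F).ιTotal (ComplexShape.up ℤ) q p n h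

theorem ιG_d (q : ℕ) (p n : ℤ) (h : (q : ℤ) + p = n) :
    ιG adj F q p n h ≫ (G adj F).d n (n + 1) =
      (dd adj F (q + 1)).f p ≫ ιG adj F (q + 1) p (n + 1) (by push_cast; omega) +
      ((q : ℤ).negOnePow : ℤˣ) • ((XX (L := L) (R := R) F (q + 1)).d p (p + 1) ≫
        ιG adj F q (p + 1) (n + 1) (by omega)) := by
  have h1 := ι_total_d (KK adj F) q p n h
  rw [KK_d] at h1
  exact h1

/-! ### The augmentation -/

theorem zero_add_cast (n : ℤ) : ((0 : ℕ) : ℤ) + n = n := by simp

theorem ιG_d_zero (p : ℤ) :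
    ιG adj F 0 p p (zero_add_cast p) ≫ (G adj F).d p (p + 1) =
      (dd adj F 1).f p ≫ ιG adj F 1 p (p + 1) (by push_cast; omega) +
      (XX (L := L) (R := R) F 1).d p (p + 1) ≫
        ιG adj F 0 (p + 1) (p + 1) (zero_add_cast (p + 1)) := by
  have h1 := ιG_d adj F 0 p p (zero_add_cast p)
  have hs : ((((0 : ℕ) : ℤ).negOnePow : ℤˣ)) = 1 := by simp
  rw [hs, one_smul] at h1
  exact h1

/-- the augmentation `F ⟶ Tot KK` -/
noncomputable def φ : F ⟶ G adj F where
  f n := (dd adj F 0).f n ≫ ιG adj F 0 n n (zero_add_cast n)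
  comm' i j hij := by
    have hij' : i + 1 = j := hij
    subst hij'
    have h1 : (dd adj F 0).f i ≫ (dd adj F 1).f i = 0 := by
      rw [← HomologicalComplex.comp_f, d_comp]
      rfl
    have h2 : (dd adj F 0).f i ≫ (XX (L := L) (R := R) F 1).d i (i + 1) =
        F.d i (i + 1) ≫ (dd adj F 0).f (i + 1) := (dd adj F 0).comm i (i + 1)
    rw [Category.assoc, ιG_d_zero adj F i, Preadditive.comp_add,
      ← Category.assoc, h1, zero_comp, zero_add, ← Category.assoc, h2, Category.assoc]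

theorem φ_f (n : ℤ) : (φ adj F).f n = (dd adj F 0).f n ≫ ιG adj F 0 n n (zero_add_cast n) := rfl

/-! ### The projection to the zeroth row -/

/-- the components of the projection to the zeroth row -/
noncomputable def pr₀fam (n : ℤ) : ∀ (q : ℕ) (p : ℤ)
    (_ : ComplexShape.π (ComplexShape.up ℕ) (ComplexShape.up ℤ) (ComplexShape.up ℤ) (q, p) = n),
    ((KK adj F).X q).X p ⟶ (XX (L := L) (R := R) F 1).X n
  | 0, p, h => ((XX (L := L) (R := R) F 1).XIsoOfEq (by
        have h' : ((0 : ℕ) : ℤ) + p = n := h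
        simpa using h' : p = n)).hom
  | _ + 1, _, _ => 0

/-- the projection to the zeroth row, in each degree -/
noncomputable def pr₀f (n : ℤ) : (G adj F).X n ⟶ (XX (L := L) (R := R) F 1).X n :=
  (KK adj F).totalDesc (pr₀fam adj F n)

theorem ι_pr₀f (n : ℤ) (q : ℕ) (p : ℤ) (h : (q : ℤ) + p = n) :
    ιG adj F q p n h ≫ pr₀f adj F n = pr₀fam adj F n q p h :=
  HomologicalComplex₂.ι_totalDesc _ _ _ _ _

theorem ι_pr₀f_zero (n : ℤ) : ιG adj F 0 n n (zero_add_cast n) ≫ pr₀f adj F n = 𝟙 _ :=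
  ι_pr₀f adj F n 0 n (zero_add_cast n)

theorem ι_pr₀f_succ (q : ℕ) (p n : ℤ) (h : ((q + 1 : ℕ) : ℤ) + p = n) :
    ιG adj F (q + 1) p n h ≫ pr₀f adj F n = 0 :=
  ι_pr₀f adj F n (q + 1) p h

/-- the projection `Tot KK ⟶ KK^{0,•}` -/
noncomputable def pr₀ : G adj F ⟶ XX (L := L) (R := R) F 1 where
  f n := pr₀f adj F n
  comm' i j hij := by
    have hij' : i + 1 = j := hij
    subst hij'
    apply HomologicalComplex₂.total.hom_ext (ComplexShape.up ℤ)
    intro q p h
    have h' : (q : ℤ) + p = i := h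
    have e1 : ιG adj F q p i h' ≫ pr₀f adj F i ≫ (XX (L := L) (R := R) F 1).d i (i + 1) =
        ιG adj F q p i h' ≫ (G adj F).d i (i + 1) ≫ pr₀f adj F (i + 1) := by
      cases q with
      | zero =>
        have hp : p = i := by simpa using h'
        subst hp
        have a1 : ιG adj F 0 p p h' ≫ pr₀f adj F p = 𝟙 _ := ι_pr₀f_zero adj F p
        have a2 : ιG adj F 0 p p h' ≫ (G adj F).d p (p + 1) =
            (dd adj F 1).f p ≫ ιG adj F 1 p (p + 1) (by push_cast; omega) +
            (XX (L := L) (R := R) F 1).d p (p + 1) ≫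
              ιG adj F 0 (p + 1) (p + 1) (zero_add_cast (p + 1)) := ιG_d_zero adj F p
        have a3 : ιG adj F 1 p (p + 1) (by push_cast; omega) ≫ pr₀f adj F (p + 1) = 0 :=
          ι_pr₀f_succ adj F 0 p (p + 1) (by push_cast; omega)
        have a4 : ιG adj F 0 (p + 1) (p + 1) (zero_add_cast (p + 1)) ≫ pr₀f adj F (p + 1) = 𝟙 _ :=
          ι_pr₀f_zero adj F (p + 1)
        calc ιG adj F 0 p p h' ≫ pr₀f adj F p ≫ (XX (L := L) (R := R) F 1).d p (p + 1)
            = (ιG adj F 0 p p h' ≫ pr₀f adj F p) ≫ (XX (L := L) (R := R) F 1).d p (p + 1) :=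
              (Category.assoc _ _ _).symm
          _ = (XX (L := L) (R := R) F 1).d p (p + 1) := by rw [a1]; exact Category.id_comp _
          _ = (dd adj F 1).f p ≫ (ιG adj F 1 p (p + 1) (by push_cast; omega) ≫
                pr₀f adj F (p + 1)) +
              (XX (L := L) (R := R) F 1).d p (p + 1) ≫
                (ιG adj F 0 (p + 1) (p + 1) (zero_add_cast (p + 1)) ≫ pr₀f adj F (p + 1)) := by
              rw [a3, a4, comp_zero]
              exact ((zero_add _).trans (Category.comp_id _)).symm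
          _ = (ιG adj F 0 p p h' ≫ (G adj F).d p (p + 1)) ≫ pr₀f adj F (p + 1) := by
              rw [a2, Preadditive.add_comp, Category.assoc, Category.assoc]
          _ = ιG adj F 0 p p h' ≫ (G adj F).d p (p + 1) ≫ pr₀f adj F (p + 1) :=
              Category.assoc _ _ _
      | succ q' =>
        have a1 : ιG adj F (q' + 1) p i h' ≫ pr₀f adj F i = 0 := ι_pr₀f_succ adj F q' p i h'
        have a2 := ιG_d adj F (q' + 1) p i h'
        have a3 : ιG adj F (q' + 1 + 1) p (i + 1) (by push_cast at h' ⊢; omega) ≫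
            pr₀f adj F (i + 1) = 0 :=
          ι_pr₀f_succ adj F (q' + 1) p (i + 1) (by push_cast at h' ⊢; omega)
        have a4 : ιG adj F (q' + 1) (p + 1) (i + 1) (by push_cast at h' ⊢; omega) ≫
            pr₀f adj F (i + 1) = 0 :=
          ι_pr₀f_succ adj F q' (p + 1) (i + 1) (by push_cast at h' ⊢; omega)
        calc ιG adj F (q' + 1) p i h' ≫ pr₀f adj F i ≫ (XX (L := L) (R := R) F 1).d i (i + 1)
            = (ιG adj F (q' + 1) p i h' ≫ pr₀f adj F i) ≫
                (XX (L := L) (R := R) F 1).d i (i + 1) := (Category.assoc _ _ _).symm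
          _ = 0 := by rw [a1, zero_comp]
          _ = (ιG adj F (q' + 1) p i h' ≫ (G adj F).d i (i + 1)) ≫ pr₀f adj F (i + 1) := by
              rw [a2, Preadditive.add_comp, Category.assoc, a3, comp_zero,
                Linear.units_smul_comp, Category.assoc, a4, comp_zero, smul_zero]
              exact (add_zero _).symm
          _ = ιG adj F (q' + 1) p i h' ≫ (G adj F).d i (i + 1) ≫ pr₀f adj F (i + 1) :=
              Category.assoc _ _ _
    exact e1

theorem pr₀_f (n : ℤ) : (pr₀ adj F).f n = pr₀f adj F n := rfl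

theorem φ_pr₀ : φ adj F ≫ pr₀ adj F = dd adj F 0 := by
  refine HomologicalComplex.hom_ext _ _ (fun n => ?_)
  rw [HomologicalComplex.comp_f, φ_f, pr₀_f, Category.assoc, ι_pr₀f_zero, Category.comp_id]

/-! ### The retraction after applying `L` -/

/-- the retraction `L (Tot KK) ⟶ L F` -/
noncomputable def ρ : (Lc L).obj (G adj F) ⟶ (Lc L).obj F :=
  (Lc L).map (pr₀ adj F) ≫ ss adj F 0

theorem map_φ_ρ : (Lc L).map (φ adj F) ≫ ρ adj F = 𝟙 _ := by
  unfold ρ
  rw [← Category.assoc, ← Functor.map_comp, φ_pr₀]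
  exact map_d_zero_s (adjc adj) F

/-! ### Maps out of `L (Tot KK)` -/

theorem ιG_d' (q : ℕ) (p n m : ℤ) (h : (q : ℤ) + p = n) (hm : n + 1 = m) :
    ιG adj F q p n h ≫ (G adj F).d n m =
      (dd adj F (q + 1)).f p ≫ ιG adj F (q + 1) p m (by push_cast; omega) +
      ((q : ℤ).negOnePow : ℤˣ) • ((XX (L := L) (R := R) F (q + 1)).d p (p + 1) ≫
        ιG adj F q (p + 1) m (by omega)) := by
  subst hm
  exact ιG_d adj F q p n h

section DescL

variable {B : ℬ} (n : ℤ)

/-- maps out of `L (Tot KK)^n`, by adjunction -/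
noncomputable def descL
    (f : ∀ (q : ℕ) (p : ℤ) (_ : (q : ℤ) + p = n),
      L.obj ((XX (L := L) (R := R) F (q + 1)).X p) ⟶ B) :
    L.obj ((G adj F).X n) ⟶ B :=
  (adj.homEquiv ((G adj F).X n) B).symm
    ((KK adj F).totalDesc (fun q p h => adj.homEquiv _ _ (f q p h)))

theorem map_ι_descL
    (f : ∀ (q : ℕ) (p : ℤ) (_ : (q : ℤ) + p = n),
      L.obj ((XX (L := L) (R := R) F (q + 1)).X p) ⟶ B)
    (q : ℕ) (p : ℤ) (h : (q : ℤ) + p = n) :
    L.map (ιG adj F q p n h) ≫ descL adj F n f = f q p h := by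
  have h1 : ιG adj F q p n h ≫
      (KK adj F).totalDesc (fun q p h => adj.homEquiv _ _ (f q p h)) =
      adj.homEquiv _ _ (f q p h) := HomologicalComplex₂.ι_totalDesc _ _ _ _ _
  have h2 := Adjunction.homEquiv_naturality_left_symm adj (ιG adj F q p n h)
    ((KK adj F).totalDesc (fun q p h => adj.homEquiv _ _ (f q p h)))
  calc L.map (ιG adj F q p n h) ≫ descL adj F n f
      = (adj.homEquiv _ _).symm (ιG adj F q p n h ≫
          (KK adj F).totalDesc (fun q p h => adj.homEquiv _ _ (f q p h))) := h2.symm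
    _ = (adj.homEquiv _ _).symm (adj.homEquiv _ _ (f q p h)) := by rw [h1]
    _ = f q p h := Equiv.symm_apply_apply _ _

theorem hom_extL {u v : L.obj ((G adj F).X n) ⟶ B}
    (h : ∀ (q : ℕ) (p : ℤ) (hh : (q : ℤ) + p = n),
      L.map (ιG adj F q p n hh) ≫ u = L.map (ιG adj F q p n hh) ≫ v) : u = v := by
  apply (adj.homEquiv _ _).injective
  apply HomologicalComplex₂.total.hom_ext (ComplexShape.up ℤ)
  intro q p hh
  have h1 := Adjunction.homEquiv_naturality_left adj (ιG adj F q p n hh) u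
  have h2 := Adjunction.homEquiv_naturality_left adj (ιG adj F q p n hh) v
  exact (h1.symm.trans (congrArg _ (h q p hh))).trans h2

end DescL

/-! ### The contraction, componentwise -/

/-- the components of the contraction -/
noncomputable def ssf (q : ℕ) (p : ℤ) :
    L.obj ((XX (L := L) (R := R) F (q + 1)).X p) ⟶ L.obj ((XX (L := L) (R := R) F q).X p) :=
  (ss adj F q).f p

/-- the components of the retraction -/
noncomputable def ρf (i : ℤ) : L.obj ((G adj F).X i) ⟶ L.obj (F.X i) := (ρ adj F).f i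

theorem ss_spec_f (q : ℕ) (p : ℤ) :
    ssf adj F q p ≫ L.map ((dd adj F q).f p) +
      L.map ((dd adj F (q + 1)).f p) ≫ ssf adj F (q + 1) p =
    𝟙 (L.obj ((XX (L := L) (R := R) F (q + 1)).X p)) :=
  HomologicalComplex.congr_hom (s_spec (adjc adj) F q) p

theorem ss_comm (q : ℕ) (p : ℤ) :
    ssf adj F q p ≫ L.map ((XX (L := L) (R := R) F q).d p (p + 1)) =
      L.map ((XX (L := L) (R := R) F (q + 1)).d p (p + 1)) ≫ ssf adj F q (p + 1) :=
  (ss adj F q).comm p (p + 1)

/-! ### The homotopy -/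

/-- the components of the homotopy -/
noncomputable def hfam (i j : ℤ) : ∀ (q : ℕ) (p : ℤ) (_ : (q : ℤ) + p = i),
    L.obj ((XX (L := L) (R := R) F (q + 1)).X p) ⟶ L.obj ((G adj F).X j)
  | 0, _, _ => 0
  | q + 1, p, h =>
    if hj : j + 1 = i then
      ssf adj F (q + 1) p ≫ L.map (ιG adj F q p j (by push_cast at h; omega))
    else 0

theorem hfam_zero (i j : ℤ) (p : ℤ) (h : ((0 : ℕ) : ℤ) + p = i) :
    hfam adj F i j 0 p h = 0 := rfl

theorem hfam_succ (i j : ℤ) (q : ℕ) (p : ℤ) (h : ((q + 1 : ℕ) : ℤ) + p = i) (hj : j + 1 = i) :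
    hfam adj F i j (q + 1) p h =
      ssf adj F (q + 1) p ≫ L.map (ιG adj F q p j (by push_cast at h; omega)) :=
  dif_pos hj

theorem hfam_of_not (i j : ℤ) (q : ℕ) (p : ℤ) (h : (q : ℤ) + p = i) (hj : ¬ j + 1 = i) :
    hfam adj F i j q p h = 0 := by
  cases q with
  | zero => rfl
  | succ q' => exact dif_neg hj

/-- the homotopy -/
noncomputable def hh (i j : ℤ) : L.obj ((G adj F).X i) ⟶ L.obj ((G adj F).X j) :=
  descL adj F i (hfam adj F i j)

theorem map_ι_hh (i j : ℤ) (q : ℕ) (p : ℤ) (h : (q : ℤ) + p = i) :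
    L.map (ιG adj F q p i h) ≫ hh adj F i j = hfam adj F i j q p h :=
  map_ι_descL adj F i _ q p h

theorem hh_zero (i j : ℤ) (hj : ¬ j + 1 = i) : hh adj F i j = 0 := by
  apply hom_extL adj F i
  intro q p h
  rw [map_ι_hh, hfam_of_not adj F i j q p h hj, comp_zero]

theorem map_ι_ρ (i : ℤ) (q : ℕ) (p : ℤ) (h : (q : ℤ) + p = i) :
    L.map (ιG adj F q p i h) ≫ ρf adj F i =
      L.map (pr₀fam adj F i q p h) ≫ ssf adj F 0 i := by
  have h1 : ρf adj F i = L.map (pr₀f adj F i) ≫ ssf adj F 0 i := rfl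
  have h2 : ιG adj F q p i h ≫ pr₀f adj F i = pr₀fam adj F i q p h := ι_pr₀f adj F i q p h
  calc L.map (ιG adj F q p i h) ≫ ρf adj F i
      = L.map (ιG adj F q p i h) ≫ L.map (pr₀f adj F i) ≫ ssf adj F 0 i := by rw [h1]
    _ = (L.map (ιG adj F q p i h) ≫ L.map (pr₀f adj F i)) ≫ ssf adj F 0 i :=
        (Category.assoc _ _ _).symm
    _ = L.map (ιG adj F q p i h ≫ pr₀f adj F i) ≫ ssf adj F 0 i := by rw [Functor.map_comp]
    _ = L.map (pr₀fam adj F i q p h) ≫ ssf adj F 0 i := by rw [h2]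

/-- the first half of the homotopy identity, on a summand -/
theorem map_ι_d_hh (i : ℤ) (q : ℕ) (p : ℤ) (h : (q : ℤ) + p = i) :
    L.map (ιG adj F q p i h) ≫ L.map ((G adj F).d i (i + 1)) ≫ hh adj F (i + 1) i =
      L.map ((dd adj F (q + 1)).f p) ≫ ssf adj F (q + 1) p ≫ L.map (ιG adj F q p i h) +
      ((q : ℤ).negOnePow : ℤˣ) •
        (L.map ((XX (L := L) (R := R) F (q + 1)).d p (p + 1)) ≫
          hfam adj F (i + 1) i q (p + 1) (by omega)) := by
  have h1 := ιG_d adj F q p i h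
  have h2 : L.map (ιG adj F (q + 1) p (i + 1) (by push_cast; omega)) ≫ hh adj F (i + 1) i =
      ssf adj F (q + 1) p ≫ L.map (ιG adj F q p i h) :=
    (map_ι_hh adj F (i + 1) i (q + 1) p (by push_cast; omega)).trans
      (hfam_succ adj F (i + 1) i q p (by push_cast; omega) rfl)
  have h3 : L.map (ιG adj F q (p + 1) (i + 1) (by omega)) ≫ hh adj F (i + 1) i =
      hfam adj F (i + 1) i q (p + 1) (by omega) :=
    map_ι_hh adj F (i + 1) i q (p + 1) (by omega)
  calc L.map (ιG adj F q p i h) ≫ L.map ((G adj F).d i (i + 1)) ≫ hh adj F (i + 1) i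
      = L.map (ιG adj F q p i h ≫ (G adj F).d i (i + 1)) ≫ hh adj F (i + 1) i := by
        rw [Functor.map_comp, Category.assoc]
    _ = (L.map ((dd adj F (q + 1)).f p) ≫
          L.map (ιG adj F (q + 1) p (i + 1) (by push_cast; omega)) +
        ((q : ℤ).negOnePow : ℤˣ) • (L.map ((XX (L := L) (R := R) F (q + 1)).d p (p + 1)) ≫
          L.map (ιG adj F q (p + 1) (i + 1) (by omega)))) ≫ hh adj F (i + 1) i := by
        rw [h1, Functor.map_add, Functor.map_comp, Functor.map_units_smul, Functor.map_comp]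
    _ = L.map ((dd adj F (q + 1)).f p) ≫
          (L.map (ιG adj F (q + 1) p (i + 1) (by push_cast; omega)) ≫ hh adj F (i + 1) i) +
        ((q : ℤ).negOnePow : ℤˣ) • (L.map ((XX (L := L) (R := R) F (q + 1)).d p (p + 1)) ≫
          (L.map (ιG adj F q (p + 1) (i + 1) (by omega)) ≫ hh adj F (i + 1) i)) := by
        rw [Preadditive.add_comp, Category.assoc, Linear.units_smul_comp, Category.assoc]
    _ = _ := by rw [h2, h3]

theorem hh_comm_zero (p : ℤ) :
    L.map (ιG adj F 0 p p (zero_add_cast p)) ≫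
        L.map ((G adj F).d p (p + 1)) ≫ hh adj F (p + 1) p +
      L.map (ιG adj F 0 p p (zero_add_cast p)) ≫
        hh adj F p (p - 1) ≫ L.map ((G adj F).d (p - 1) p) +
      L.map (ιG adj F 0 p p (zero_add_cast p)) ≫ ρf adj F p ≫ L.map ((φ adj F).f p) =
    L.map (ιG adj F 0 p p (zero_add_cast p)) := by
  have hA := map_ι_d_hh adj F p 0 p (zero_add_cast p)
  have e0 : hfam adj F (p + 1) p 0 (p + 1) (by simp) = 0 := rfl
  have hA' : L.map (ιG adj F 0 p p (zero_add_cast p)) ≫
        L.map ((G adj F).d p (p + 1)) ≫ hh adj F (p + 1) p =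
      L.map ((dd adj F 1).f p) ≫ ssf adj F 1 p ≫ L.map (ιG adj F 0 p p (zero_add_cast p)) := by
    rw [hA, e0, comp_zero, smul_zero, add_zero]
  have hB : L.map (ιG adj F 0 p p (zero_add_cast p)) ≫
        hh adj F p (p - 1) ≫ L.map ((G adj F).d (p - 1) p) = 0 := by
    rw [← Category.assoc, map_ι_hh, hfam_zero, zero_comp]
  have e2 : L.map (pr₀fam adj F p 0 p (zero_add_cast p)) = 𝟙 _ := L.map_id _
  have hφ : L.map ((φ adj F).f p) =
      L.map ((dd adj F 0).f p) ≫ L.map (ιG adj F 0 p p (zero_add_cast p)) := by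
    rw [φ_f, Functor.map_comp]
  have hC : L.map (ιG adj F 0 p p (zero_add_cast p)) ≫ ρf adj F p ≫ L.map ((φ adj F).f p) =
      ssf adj F 0 p ≫ L.map ((dd adj F 0).f p) ≫
        L.map (ιG adj F 0 p p (zero_add_cast p)) := by
    rw [← Category.assoc, map_ι_ρ, e2, Category.id_comp, hφ]
  have k1 : L.map ((dd adj F 1).f p) ≫ ssf adj F 1 p +
      ssf adj F 0 p ≫ L.map ((dd adj F 0).f p) = 𝟙 _ :=
    (add_comm _ _).trans (ss_spec_f adj F 0 p)
  rw [hA', hB, hC, add_zero, ← Category.assoc, ← Category.assoc (ssf adj F 0 p),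
    ← Preadditive.add_comp, k1, Category.id_comp]

theorem hh_comm_succ (i : ℤ) (q' : ℕ) (p : ℤ) (h : ((q' + 1 : ℕ) : ℤ) + p = i) :
    L.map (ιG adj F (q' + 1) p i h) ≫
        L.map ((G adj F).d i (i + 1)) ≫ hh adj F (i + 1) i +
      L.map (ιG adj F (q' + 1) p i h) ≫
        hh adj F i (i - 1) ≫ L.map ((G adj F).d (i - 1) i) +
      L.map (ιG adj F (q' + 1) p i h) ≫ ρf adj F i ≫ L.map ((φ adj F).f i) =
    L.map (ιG adj F (q' + 1) p i h) := by
  have hA := map_ι_d_hh adj F i (q' + 1) p h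
  have e0 : hfam adj F (i + 1) i (q' + 1) (p + 1) (by push_cast at h ⊢; omega) =
      ssf adj F (q' + 1) (p + 1) ≫
        L.map (ιG adj F q' (p + 1) i (by push_cast at h; omega)) :=
    hfam_succ adj F (i + 1) i q' (p + 1) (by push_cast at h ⊢; omega) rfl
  have hε : ((((q' + 1 : ℕ) : ℤ).negOnePow : ℤˣ)) = -((q' : ℤ).negOnePow : ℤˣ) := by
    push_cast
    rw [Int.negOnePow_succ]
  have hA' : L.map (ιG adj F (q' + 1) p i h) ≫
        L.map ((G adj F).d i (i + 1)) ≫ hh adj F (i + 1) i =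
      L.map ((dd adj F (q' + 1 + 1)).f p) ≫ ssf adj F (q' + 1 + 1) p ≫
          L.map (ιG adj F (q' + 1) p i h) -
        ((q' : ℤ).negOnePow : ℤˣ) •
          (L.map ((XX (L := L) (R := R) F (q' + 1 + 1)).d p (p + 1)) ≫
            ssf adj F (q' + 1) (p + 1) ≫
              L.map (ιG adj F q' (p + 1) i (by push_cast at h; omega))) := by
    rw [hA, e0, hε, Units.neg_smul, sub_eq_add_neg]
  have e1 : hfam adj F i (i - 1) (q' + 1) p h =
      ssf adj F (q' + 1) p ≫ L.map (ιG adj F q' p (i - 1) (by push_cast at h; omega)) :=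
    hfam_succ adj F i (i - 1) q' p h (by omega)
  have e3 := ιG_d' adj F q' p (i - 1) i (by push_cast at h; omega) (by omega)
  have k2 := ss_comm adj F (q' + 1) p
  have hB : L.map (ιG adj F (q' + 1) p i h) ≫
        hh adj F i (i - 1) ≫ L.map ((G adj F).d (i - 1) i) =
      ssf adj F (q' + 1) p ≫ L.map ((dd adj F (q' + 1)).f p) ≫
          L.map (ιG adj F (q' + 1) p i h) +
        ((q' : ℤ).negOnePow : ℤˣ) •
          (L.map ((XX (L := L) (R := R) F (q' + 1 + 1)).d p (p + 1)) ≫
            ssf adj F (q' + 1) (p + 1) ≫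
              L.map (ιG adj F q' (p + 1) i (by push_cast at h; omega))) := by
    calc L.map (ιG adj F (q' + 1) p i h) ≫
          hh adj F i (i - 1) ≫ L.map ((G adj F).d (i - 1) i)
        = (ssf adj F (q' + 1) p ≫ L.map (ιG adj F q' p (i - 1) (by push_cast at h; omega))) ≫
            L.map ((G adj F).d (i - 1) i) := by
          rw [← Category.assoc, map_ι_hh, e1]
      _ = ssf adj F (q' + 1) p ≫ L.map (ιG adj F q' p (i - 1) (by push_cast at h; omega) ≫
            (G adj F).d (i - 1) i) := by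
          rw [Category.assoc, Functor.map_comp]
      _ = ssf adj F (q' + 1) p ≫ (L.map ((dd adj F (q' + 1)).f p) ≫
              L.map (ιG adj F (q' + 1) p i h) +
            ((q' : ℤ).negOnePow : ℤˣ) •
              (L.map ((XX (L := L) (R := R) F (q' + 1)).d p (p + 1)) ≫
                L.map (ιG adj F q' (p + 1) i (by push_cast at h; omega)))) := by
          rw [e3, Functor.map_add, Functor.map_comp, Functor.map_units_smul, Functor.map_comp]
      _ = ssf adj F (q' + 1) p ≫ L.map ((dd adj F (q' + 1)).f p) ≫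
              L.map (ιG adj F (q' + 1) p i h) +
            ((q' : ℤ).negOnePow : ℤˣ) •
              ((ssf adj F (q' + 1) p ≫
                L.map ((XX (L := L) (R := R) F (q' + 1)).d p (p + 1))) ≫
                L.map (ιG adj F q' (p + 1) i (by push_cast at h; omega))) := by
          rw [Preadditive.comp_add, Linear.comp_units_smul, Category.assoc]
      _ = _ := by rw [k2, Category.assoc]
  have e2 : L.map (pr₀fam adj F i (q' + 1) p h) = 0 := L.map_zero _ _
  have hC : L.map (ιG adj F (q' + 1) p i h) ≫ ρf adj F i ≫ L.map ((φ adj F).f i) = 0 := by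
    rw [← Category.assoc, map_ι_ρ, e2, zero_comp, zero_comp]
  have k1 : L.map ((dd adj F (q' + 1 + 1)).f p) ≫ ssf adj F (q' + 1 + 1) p +
      ssf adj F (q' + 1) p ≫ L.map ((dd adj F (q' + 1)).f p) = 𝟙 _ :=
    (add_comm _ _).trans (ss_spec_f adj F (q' + 1) p)
  have k3 : L.map ((dd adj F (q' + 1 + 1)).f p) ≫ ssf adj F (q' + 1 + 1) p ≫
        L.map (ιG adj F (q' + 1) p i h) +
      ssf adj F (q' + 1) p ≫ L.map ((dd adj F (q' + 1)).f p) ≫
        L.map (ιG adj F (q' + 1) p i h) = L.map (ιG adj F (q' + 1) p i h) := by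
    rw [← Category.assoc, ← Category.assoc (ssf adj F (q' + 1) p), ← Preadditive.add_comp,
      k1, Category.id_comp]
  rw [hA', hB, hC, add_zero]
  conv_rhs => rw [← k3]
  abel

/-- the homotopy identity -/
theorem hh_comm (i : ℤ) :
    𝟙 (L.obj ((G adj F).X i)) =
      L.map ((G adj F).d i (i + 1)) ≫ hh adj F (i + 1) i +
      hh adj F i (i - 1) ≫ L.map ((G adj F).d (i - 1) i) +
      ρf adj F i ≫ L.map ((φ adj F).f i) := by
  apply hom_extL adj F i
  intro q p h
  rw [Category.comp_id, Preadditive.comp_add, Preadditive.comp_add]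
  cases q with
  | zero =>
    have hp : p = i := by simpa using h
    subst hp
    exact (hh_comm_zero adj F p).symm
  | succ q' => exact (hh_comm_succ adj F i q' p h).symm

/-! ### The homotopy equivalence -/

/-- the homotopy `𝟙 ≃ ρ ≫ L φ` -/
noncomputable def homotopy :
    Homotopy (𝟙 ((Lc L).obj (G adj F))) (ρ adj F ≫ (Lc L).map (φ adj F)) where
  hom i j := hh adj F i j
  zero i j hij := hh_zero adj F i j hij
  comm i := by
    rw [dNext_eq _ (show (ComplexShape.up ℤ).Rel i (i + 1) from rfl),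
      prevD_eq _ (show (ComplexShape.up ℤ).Rel (i - 1) i by simp)]
    exact hh_comm adj F i

/-- **The homotopy equivalence `L F ≃ L (Tot KK)`.** -/
noncomputable def homotopyEquiv :
    HomotopyEquiv ((Lc L).obj F) ((Lc L).obj (G adj F)) where
  hom := (Lc L).map (φ adj F)
  inv := ρ adj F
  homotopyHomInvId := Homotopy.ofEq (map_φ_ρ adj F)
  homotopyInvHomId := (homotopy adj F).symm

theorem homotopyEquiv_hom : (homotopyEquiv adj F).hom = (Lc L).map (φ adj F) := rfl

instance quasiIso_map_φ : QuasiIso ((Lc L).map (φ adj F)) :=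
  (homotopyEquiv adj F).quasiIso_hom

/-- if `L` is exact and reflects isomorphisms then `φ` is a quasi-isomorphism -/
theorem quasiIso_φ [L.PreservesHomology] [L.ReflectsIsomorphisms] : QuasiIso (φ adj F) :=
  (HomologicalComplex.quasiIso_map_iff_of_preservesHomology (φ adj F) L).1
    (quasiIso_map_φ adj F)

theorem isStrictlyGE_G (a : ℤ) (hF : ∀ p : ℤ, p < a → IsZero (F.X p)) :
    (G adj F).IsStrictlyGE a := by
  rw [CochainComplex.isStrictlyGE_iff]
  intro n hn
  exact isZero_total_X (KK adj F) a (bdd_KK adj F a hF) n hn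

end Groth.Agent.Lib.CobarTotH7
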