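import Groth.Agent.Lib.Subcoalg_helper9

/-!
# The coefficient space of a comodule over a field

`coeffSpace V ⊆ C` is the span of the matrix coefficients `(ψ ⊗ id)ρ(v)`; it is the least subspace
`D` with `ρ(V) ⊆ V ⊗ D`, a subcoalgebra, finite-dimensional when `V` is, and contains the image of
every comodule map `V → C`.
-/

set_option autoImplicit false
universe u v w w'
open TensorProduct

namespace Groth.Agent.Lib.CoeffSpace_helper9

open Groth.Agent.Lib.Comod_helper9 Groth.Agent.Lib.ComodDual_helper9 Groth.Agent.Lib.Subcoalg_helper9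

section Basic

variable {k : Type u} [Field k] {C : Type v} [AddCommGroup C] [Module k C] [Coalgebra k C]
variable {V : Type w} [AddCommGroup V] [Module k V]

/-- the matrix coefficient map `v ↦ (ψ ⊗ id) ρ(v)` -/
noncomputable def coeffMap [c : HopfRep.Comod k C V] (ψ : V →ₗ[k] k) : V →ₗ[k] C :=
  evl C ψ ∘ₗ c.coact

theorem coeffMap_apply [c : HopfRep.Comod k C V] (ψ : V →ₗ[k] k) (v : V) :
    coeffMap (C := C) ψ v = evl C ψ (c.coact v) := rfl

omit [Field k] [Coalgebra k C] in
theorem evl_assoc {k : Type u} [CommRing k] {C : Type v} [AddCommGroup C] [Module k C]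
    {V : Type w} [AddCommGroup V] [Module k V] (ψ : V →ₗ[k] k) (y : (V ⊗[k] C) ⊗[k] C) :
    evl (C ⊗[k] C) ψ (TensorProduct.assoc k V C C y) = (evl C ψ).rTensor C y := by
  induction y using TensorProduct.induction_on with
  | zero => simp
  | add x y hx hy => simp only [map_add, hx, hy]
  | tmul x c' =>
    induction x using TensorProduct.induction_on with
    | zero => simp
    | add x y hx hy => simp only [TensorProduct.add_tmul, map_add, hx, hy]
    | tmul v c => simp [TensorProduct.smul_tmul']

/-- the matrix coefficient maps are comodule maps into the regular comodule -/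
theorem isComodHom_coeffMap [c : HopfRep.Comod k C V] (ψ : V →ₗ[k] k) :
    Hoch.IsComodHom C (coeffMap (C := C) ψ) := by
  apply LinearMap.ext
  intro v
  have hc := LinearMap.congr_fun c.coassoc v
  simp only [LinearMap.coe_comp, Function.comp_apply, LinearEquiv.coe_coe] at hc
  show CoalgebraStruct.comul (R := k) (evl C ψ (c.coact v)) = (coeffMap (C := C) ψ).rTensor C (c.coact v)
  rw [← evl_lTensor, ← hc, evl_assoc]
  unfold coeffMap
  rw [LinearMap.rTensor_comp, LinearMap.comp_apply]

/-- the coefficient space of a comodule -/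
noncomputable def coeffSpace (k : Type u) [Field k] (C : Type v) [AddCommGroup C] [Module k C] [Coalgebra k C]
    (V : Type w) [AddCommGroup V] [Module k V] [HopfRep.Comod k C V] : Submodule k C :=
  ⨆ ψ : V →ₗ[k] k, LinearMap.range (coeffMap (C := C) ψ)

theorem coeffMap_mem_coeffSpace [c : HopfRep.Comod k C V] (ψ : V →ₗ[k] k) (v : V) :
    coeffMap (C := C) ψ v ∈ coeffSpace k C V :=
  Submodule.mem_iSup_of_mem ψ ⟨v, rfl⟩

theorem coact_mem_coeffSpace [c : HopfRep.Comod k C V] (v : V) :
    c.coact v ∈ LinearMap.range ((coeffSpace k C V).subtype.lTensor V) := by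
  apply mem_range_lTensor_subtype_of_evl
  intro ψ
  exact coeffMap_mem_coeffSpace ψ v

theorem coeffSpace_le_of_coact_mem [c : HopfRep.Comod k C V] (D : Submodule k C)
    (h : ∀ v : V, c.coact v ∈ LinearMap.range (D.subtype.lTensor V)) : coeffSpace k C V ≤ D := by
  apply iSup_le
  rintro ψ _ ⟨v, rfl⟩
  exact evl_mem_of_mem_range_lTensor_subtype D _ (h v) ψ

theorem isLeast_coeffSpace [c : HopfRep.Comod k C V] :
    IsLeast {D : Submodule k C | ∀ v : V, c.coact v ∈ LinearMap.range (D.subtype.lTensor V)}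
      (coeffSpace k C V) :=
  ⟨fun v => coact_mem_coeffSpace v, fun D hD => coeffSpace_le_of_coact_mem D hD⟩

theorem eq_coeffSpace_of_isLeast [c : HopfRep.Comod k C V] (D : Submodule k C)
    (hD : IsLeast {D : Submodule k C | ∀ v : V, c.coact v ∈ LinearMap.range (D.subtype.lTensor V)} D) :
    D = coeffSpace k C V :=
  hD.unique isLeast_coeffSpace

/-- the coefficient space is a subcoalgebra -/
theorem isSubcoalg_coeffSpace [c : HopfRep.Comod k C V] : IsSubcoalg (coeffSpace k C V) := by
  rw [isSubcoalg_iff]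
  intro b hb
  refine Submodule.iSup_induction (fun ψ : V →ₗ[k] k => LinearMap.range (coeffMap (C := C) ψ))
    (motive := fun b =>
    (∀ φ : C →ₗ[k] k, ev C φ (CoalgebraStruct.comul (R := k) b) ∈ coeffSpace k C V) ∧
      (∀ χ : C →ₗ[k] k, evl C χ (CoalgebraStruct.comul (R := k) b) ∈ coeffSpace k C V)) hb ?_ ?_ ?_
  · rintro ψ _ ⟨v, rfl⟩
    have hcm := isComodHom_apply (isComodHom_coeffMap (C := C) ψ) v
    have hcm' : CoalgebraStruct.comul (R := k) (coeffMap (C := C) ψ v) =
        (coeffMap (C := C) ψ).rTensor C (c.coact v) := hcm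
    constructor
    · intro φ
      rw [hcm', ev_rTensor]
      exact coeffMap_mem_coeffSpace ψ _
    · intro χ
      rw [hcm', evl_rTensor]
      exact coeffMap_mem_coeffSpace _ v
  · simp
  · intro x y hx hy
    simp only [map_add]
    exact ⟨fun φ => Submodule.add_mem _ (hx.1 φ) (hy.1 φ), fun ψ => Submodule.add_mem _ (hx.2 ψ) (hy.2 ψ)⟩

omit [Coalgebra k C] in
theorem eq_zero_of_mem_range_lTensor_bot (x : V ⊗[k] C)
    (hx : x ∈ LinearMap.range ((⊥ : Submodule k C).subtype.lTensor V)) : x = 0 := by
  apply eq_zero_of_forall_evl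
  intro ψ
  have := evl_mem_of_mem_range_lTensor_subtype ⊥ x hx ψ
  exact (Submodule.mem_bot k).mp this

theorem coeffSpace_ne_bot [c : HopfRep.Comod k C V] [Nontrivial V] : coeffSpace k C V ≠ ⊥ := by
  intro h
  obtain ⟨v, hv⟩ := exists_ne (0 : V)
  apply hv
  apply eq_zero_of_coact_eq_zero (k := k) (C := C)
  apply eq_zero_of_mem_range_lTensor_bot
  have := coact_mem_coeffSpace (k := k) (C := C) v
  rwa [h] at this

/-- the image of any comodule map `V → C` lies in the coefficient space -/
theorem range_le_coeffSpace [c : HopfRep.Comod k C V] (f : V →ₗ[k] C) (hf : Hoch.IsComodHom C f) :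
    LinearMap.range f ≤ coeffSpace k C V := by
  rintro _ ⟨v, rfl⟩
  have h1 : f v = coeffMap (C := C) (Coalgebra.counit (R := k) (A := C) ∘ₗ f) v := by
    rw [coeffMap_apply, ← evl_rTensor]
    have hcm : CoalgebraStruct.comul (R := k) (f v) = f.rTensor C (c.coact v) := isComodHom_apply hf v
    rw [← hcm]
    have := Coalgebra.rTensor_counit_comul (R := k) (f v)
    simp only [evl, LinearMap.comp_apply, LinearEquiv.coe_coe]
    rw [this]
    simp
  rw [h1]
  exact coeffMap_mem_coeffSpace _ v

variable {W : Type w'} [AddCommGroup W] [Module k W]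

theorem coeffMap_comp [c : HopfRep.Comod k C V] [d : HopfRep.Comod k C W] (f : V →ₗ[k] W)
    (hf : Hoch.IsComodHom C f) (ψ : W →ₗ[k] k) (v : V) :
    coeffMap (C := C) ψ (f v) = coeffMap (C := C) (ψ ∘ₗ f) v := by
  rw [coeffMap_apply, coeffMap_apply, isComodHom_apply hf, evl_rTensor]

theorem coeffSpace_le_of_surjective [c : HopfRep.Comod k C V] [d : HopfRep.Comod k C W] (f : V →ₗ[k] W)
    (hf : Hoch.IsComodHom C f) (hs : Function.Surjective f) : coeffSpace k C W ≤ coeffSpace k C V := by
  apply iSup_le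
  rintro ψ _ ⟨w, rfl⟩
  obtain ⟨v, rfl⟩ := hs w
  rw [coeffMap_comp f hf]
  exact coeffMap_mem_coeffSpace _ v

theorem coeffSpace_le_of_injective [c : HopfRep.Comod k C V] [d : HopfRep.Comod k C W] (f : V →ₗ[k] W)
    (hf : Hoch.IsComodHom C f) (hi : Function.Injective f) : coeffSpace k C V ≤ coeffSpace k C W := by
  apply iSup_le
  rintro ψ _ ⟨v, rfl⟩
  obtain ⟨g, hg⟩ := LinearMap.exists_leftInverse_of_injective f (LinearMap.ker_eq_bot.mpr hi)
  have : ψ = (ψ ∘ₗ g) ∘ₗ f := by rw [LinearMap.comp_assoc, hg, LinearMap.comp_id]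
  rw [this, ← coeffMap_comp f hf]
  exact coeffMap_mem_coeffSpace _ _

theorem coeffSpace_eq_of_bijective [c : HopfRep.Comod k C V] [d : HopfRep.Comod k C W] (f : V →ₗ[k] W)
    (hf : Hoch.IsComodHom C f) (hb : Function.Bijective f) : coeffSpace k C V = coeffSpace k C W :=
  le_antisymm (coeffSpace_le_of_injective f hf hb.1) (coeffSpace_le_of_surjective f hf hb.2)

end Basic

section Finite

variable {k : Type u} [Field k] {C : Type v} [AddCommGroup C] [Module k C] [Coalgebra k C]
variable {V : Type w} [AddCommGroup V] [Module k V]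

omit [Coalgebra k C] in
theorem evl_eq_sum_basis {ι : Type*} [Fintype ι] (b : Module.Basis ι k V) (ψ : V →ₗ[k] k) (x : V ⊗[k] C) :
    evl C ψ x = ∑ i, ψ (b i) • evl C (b.coord i) x := by
  induction x using TensorProduct.induction_on with
  | zero => simp
  | add x y hx hy => simp only [map_add, hx, hy, smul_add, Finset.sum_add_distrib]
  | tmul v c =>
    simp only [evl_tmul, Module.Basis.coord_apply, smul_smul]
    rw [← Finset.sum_smul]
    congr 1
    conv_lhs => rw [← b.sum_repr v, map_sum]
    apply Finset.sum_congr rfl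
    intro i _
    rw [map_smul, smul_eq_mul, mul_comm]

/-- the coefficient space of a finite-dimensional comodule is finite-dimensional -/
theorem finite_coeffSpace [c : HopfRep.Comod k C V] [Module.Finite k V] :
    Module.Finite k (coeffSpace k C V) := by
  classical
  let b := Module.finBasis k V
  have hle : coeffSpace k C V ≤ ⨆ i, LinearMap.range (coeffMap (C := C) (b.coord i)) := by
    apply iSup_le
    rintro ψ _ ⟨v, rfl⟩
    rw [coeffMap_apply, evl_eq_sum_basis b]
    apply Submodule.sum_mem
    intro i _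
    apply Submodule.smul_mem
    exact Submodule.mem_iSup_of_mem i ⟨v, rfl⟩
  haveI : Module.Finite k (⨆ i, LinearMap.range (coeffMap (C := C) (b.coord i)) : Submodule k C) :=
    Submodule.finite_iSup _
  exact Submodule.finiteDimensional_of_le hle

end Finite

section Sub

variable {k : Type u} [Field k] {C : Type v} [AddCommGroup C] [Module k C] [Coalgebra k C]

/-- The coefficient space of a subcomodule `E` of the regular comodule, with its induced structure. -/
noncomputable abbrev coeffSpaceSub (E : Submodule k C) (hE : HopfRep.IsSubcomod (k := k) (A := C) E) :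
    Submodule k C :=
  @coeffSpace k _ C _ _ _ E _ _ (ComodSub.Comod.restr (HopfRep.Comod.regular k C) E hE)

theorem evl_comul_eq_coeffMap (E : Submodule k C) (hE : HopfRep.IsSubcomod (k := k) (A := C) E)
    (χ : C →ₗ[k] k) (e : E) :
    evl C χ (CoalgebraStruct.comul (R := k) (e : C)) =
      @coeffMap k _ C _ _ _ E _ _ (ComodSub.Comod.restr (HopfRep.Comod.regular k C) E hE)
        (χ ∘ₗ E.subtype) e := by
  have h := ComodSub.restr_coact_coe (HopfRep.Comod.regular k C) E hE e
  have h' : CoalgebraStruct.comul (R := k) (e : C) =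
      E.subtype.rTensor C ((ComodSub.Comod.restr (HopfRep.Comod.regular k C) E hE).coact e) := h.symm
  rw [h', evl_rTensor]
  rfl

theorem evl_comul_mem_coeffSpaceSub (E : Submodule k C) (hE : HopfRep.IsSubcomod (k := k) (A := C) E)
    (χ : C →ₗ[k] k) (e : C) (he : e ∈ E) :
    evl C χ (CoalgebraStruct.comul (R := k) e) ∈ coeffSpaceSub E hE := by
  have := evl_comul_eq_coeffMap E hE χ ⟨e, he⟩
  rw [this]
  exact @coeffMap_mem_coeffSpace k _ C _ _ _ E _ _ (ComodSub.Comod.restr (HopfRep.Comod.regular k C) E hE) _ _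

theorem coeffSpaceSub_le (E : Submodule k C) (hE : HopfRep.IsSubcomod (k := k) (A := C) E)
    (D : Submodule k C)
    (h : ∀ (χ : C →ₗ[k] k), ∀ e ∈ E, evl C χ (CoalgebraStruct.comul (R := k) e) ∈ D) :
    coeffSpaceSub E hE ≤ D := by
  apply iSup_le
  rintro ψ _ ⟨e, rfl⟩
  obtain ⟨g, hg⟩ := LinearMap.exists_leftInverse_of_injective E.subtype
    (LinearMap.ker_eq_bot.mpr E.injective_subtype)
  have hψ : ψ = (ψ ∘ₗ g) ∘ₗ E.subtype := by rw [LinearMap.comp_assoc, hg, LinearMap.comp_id]
  rw [hψ, ← evl_comul_eq_coeffMap E hE (ψ ∘ₗ g) e]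
  exact h _ _ e.2

/-- a subcomodule contained in a subcoalgebra has its coefficient space inside that subcoalgebra -/
theorem coeffSpaceSub_le_of_le_isSubcoalg (E : Submodule k C)
    (hE : HopfRep.IsSubcomod (k := k) (A := C) E) (B : Submodule k C) (hB : IsSubcoalg B) (hEB : E ≤ B) :
    coeffSpaceSub E hE ≤ B :=
  coeffSpaceSub_le E hE B (fun χ e he => ((isSubcoalg_iff B).mp hB e (hEB he)).2 χ)

/-- `Δ(E) ⊆ E ⊗ coeffSpace(E)` -/
theorem comul_mem_range_map_coeffSpaceSub (E : Submodule k C)
    (hE : HopfRep.IsSubcomod (k := k) (A := C) E) (e : C) (he : e ∈ E) :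
    CoalgebraStruct.comul (R := k) e ∈
      LinearMap.range (TensorProduct.map E.subtype (coeffSpaceSub E hE).subtype) := by
  rw [mem_range_map_subtype_iff]
  constructor
  · intro φ
    exact act_mem_of_isSubcomod E hE φ he
  · intro χ
    exact evl_comul_mem_coeffSpaceSub E hE χ e he

/-- the statement-form `IsLeast` characterisation -/
theorem isLeast_coeffSpaceSub (E : Submodule k C) (hE : HopfRep.IsSubcomod (k := k) (A := C) E) :
    IsLeast {D' : Submodule k C | ∀ e ∈ E, CoalgebraStruct.comul (R := k) e ∈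
      LinearMap.range (TensorProduct.map E.subtype D'.subtype)} (coeffSpaceSub E hE) := by
  refine ⟨fun e he => comul_mem_range_map_coeffSpaceSub E hE e he, fun D' hD' => ?_⟩
  apply coeffSpaceSub_le
  intro χ e he
  exact ((mem_range_map_subtype_iff E D' _).mp (hD' e he)).2 χ

end Sub

end Groth.Agent.Lib.CoeffSpace_helper9
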