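import Mathlib
import Groth.Agent.Lib.CoeffSpace_helper9
import Groth.Agent.Lib.IndHom_helper9
import Groth.Prelude.Def_GLin4

/-!
# Universe-polymorphic copy of `GLnEmbed_helper9` (helper1): `k : Type u`, `A : Type v`
-/

set_option autoImplicit false
universe u v
open TensorProduct

namespace GLnEmbedH1

open Groth.Agent.Lib.Comod_helper9 Groth.Agent.Lib.Subcoalg_helper9 Groth.Agent.Lib.CoeffSpace_helper9

section Matrix

variable {k : Type u} [CommRing k] {A : Type v} [CommRing A] [HopfAlgebra k A]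
variable {n : ℕ} (M : Matrix (Fin n) (Fin n) A)

theorem comul_det (hΔ : ∀ i j, CoalgebraStruct.comul (R := k) (M i j) = ∑ l, M i l ⊗ₜ[k] M l j) :
    CoalgebraStruct.comul (R := k) M.det = M.det ⊗ₜ[k] M.det := by
  change Bialgebra.comulAlgHom k A M.det = _
  rw [AlgHom.map_det]
  have h : (Bialgebra.comulAlgHom k A).mapMatrix M =
      (Algebra.TensorProduct.includeLeft : A →ₐ[k] A ⊗[k] A).mapMatrix M *
      (Algebra.TensorProduct.includeRight : A →ₐ[k] A ⊗[k] A).mapMatrix M := by
    ext i j
    rw [Matrix.mul_apply]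
    simp only [AlgHom.mapMatrix_apply, Matrix.map_apply]
    change CoalgebraStruct.comul (R := k) (M i j) = _
    rw [hΔ]
    simp [Algebra.TensorProduct.tmul_mul_tmul]
  rw [h, Matrix.det_mul, ← AlgHom.map_det, ← AlgHom.map_det]
  simp [Algebra.TensorProduct.tmul_mul_tmul]

theorem counit_det (hε : ∀ i j, CoalgebraStruct.counit (R := k) (M i j) = if i = j then 1 else 0) :
    CoalgebraStruct.counit (R := k) M.det = 1 := by
  change Bialgebra.counitAlgHom k A M.det = 1
  rw [AlgHom.map_det]
  have h : (Bialgebra.counitAlgHom k A).mapMatrix M = 1 := by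
    ext i j
    simp only [AlgHom.mapMatrix_apply, Matrix.map_apply, Matrix.one_apply]
    exact hε i j
  rw [h, Matrix.det_one]

theorem mul_map_antipode (hΔ : ∀ i j, CoalgebraStruct.comul (R := k) (M i j) = ∑ l, M i l ⊗ₜ[k] M l j)
    (hε : ∀ i j, CoalgebraStruct.counit (R := k) (M i j) = if i = j then 1 else 0) :
    M * M.map (HopfAlgebraStruct.antipode (R := k) (A := A)) = 1 := by
  ext i j
  rw [Matrix.mul_apply, Matrix.one_apply]
  have h := HopfAlgebra.mul_antipode_lTensor_comul_apply (R := k) (M i j)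
  have hΔ' : Coalgebra.comul (R := k) (M i j) = ∑ l, M i l ⊗ₜ[k] M l j := hΔ i j
  have hε' : Coalgebra.counit (R := k) (M i j) = if i = j then 1 else 0 := hε i j
  rw [hΔ', map_sum, map_sum, hε'] at h
  simp only [LinearMap.lTensor_tmul, LinearMap.mul'_apply] at h
  simp only [Matrix.map_apply]
  rw [h]
  split_ifs <;> simp

/-- the bialgebra map `O(GL_n) → A` attached to a comatrix -/
theorem exists_bialgHom (hΔ : ∀ i j, CoalgebraStruct.comul (R := k) (M i j) = ∑ l, M i l ⊗ₜ[k] M l j)
    (hε : ∀ i j, CoalgebraStruct.counit (R := k) (M i j) = if i = j then 1 else 0) :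
    ∃ π : CoordGrp.GLn n k →ₐc[k] A, ∀ i j, π (CoordGrp.GLn.X i j) = M i j := by
  set N : Matrix (Fin n) (Fin n) A := M.map (HopfAlgebraStruct.antipode (R := k) (A := A)) with hN
  have hMN : M * N = 1 := mul_map_antipode M hΔ hε
  have hd : M.det * N.det = 1 := by rw [← Matrix.det_mul, hMN, Matrix.det_one]
  let π₀ : CoordGrp.GLn n k →ₐ[k] A := CoordGrp.GLn.pt n k M N.det hd
  have hεd : CoalgebraStruct.counit (R := k) N.det = 1 := by
    have h1 : CoalgebraStruct.counit (R := k) (M.det * N.det) = 1 := by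
      rw [hd]; exact Bialgebra.counit_one
    have h2 : CoalgebraStruct.counit (R := k) (M.det * N.det) =
        CoalgebraStruct.counit (R := k) M.det * CoalgebraStruct.counit (R := k) N.det :=
      Bialgebra.counit_mul _ _
    rw [h2, counit_det M hε, one_mul] at h1
    exact h1
  have hΔd : CoalgebraStruct.comul (R := k) N.det = N.det ⊗ₜ[k] N.det := by
    have h1 : CoalgebraStruct.comul (R := k) (M.det * N.det) = 1 := by
      rw [hd]; exact Bialgebra.comul_one
    have h2 : CoalgebraStruct.comul (R := k) (M.det * N.det) =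
        CoalgebraStruct.comul (R := k) M.det * CoalgebraStruct.comul (R := k) N.det :=
      Bialgebra.comul_mul _ _
    rw [h2, comul_det M hΔ] at h1
    have h3 : (M.det ⊗ₜ[k] M.det : A ⊗[k] A) * (N.det ⊗ₜ[k] N.det) = 1 := by
      rw [Algebra.TensorProduct.tmul_mul_tmul, hd]; rfl
    calc CoalgebraStruct.comul (R := k) N.det
        = ((M.det ⊗ₜ[k] M.det : A ⊗[k] A) * (N.det ⊗ₜ[k] N.det)) *
            CoalgebraStruct.comul (R := k) N.det := by rw [h3, one_mul]
      _ = (N.det ⊗ₜ[k] N.det) * ((M.det ⊗ₜ[k] M.det : A ⊗[k] A) *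
            CoalgebraStruct.comul (R := k) N.det) := by ring
      _ = N.det ⊗ₜ[k] N.det := by rw [h1, mul_one]
  have hc1 : (Bialgebra.counitAlgHom k A).comp π₀ = Bialgebra.counitAlgHom k (CoordGrp.GLn n k) := by
    apply CoordGrp.GLn.algHom_ext
    · intro i j
      show CoalgebraStruct.counit (R := k) (π₀ (CoordGrp.GLn.X i j)) =
        CoalgebraStruct.counit (R := k) (CoordGrp.GLn.X i j : CoordGrp.GLn n k)
      rw [CoordGrp.GLn.pt_X, hε, CoordGrp.GLn.counit_X]
    · show CoalgebraStruct.counit (R := k) (π₀ CoordGrp.GLn.Dinv) =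
        CoalgebraStruct.counit (R := k) (CoordGrp.GLn.Dinv : CoordGrp.GLn n k)
      rw [CoordGrp.GLn.pt_Dinv, hεd, CoordGrp.GLn.counit_Dinv]
  have hc2 : (Algebra.TensorProduct.map π₀ π₀).comp (Bialgebra.comulAlgHom k (CoordGrp.GLn n k)) =
      (Bialgebra.comulAlgHom k A).comp π₀ := by
    apply CoordGrp.GLn.algHom_ext
    · intro i j
      show Algebra.TensorProduct.map π₀ π₀
          (CoalgebraStruct.comul (R := k) (CoordGrp.GLn.X i j : CoordGrp.GLn n k)) =
        CoalgebraStruct.comul (R := k) (π₀ (CoordGrp.GLn.X i j))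
      rw [CoordGrp.GLn.pt_X, hΔ, CoordGrp.GLn.comul_X, map_sum]
      apply Finset.sum_congr rfl
      intro l _
      rw [Algebra.TensorProduct.map_tmul, CoordGrp.GLn.pt_X, CoordGrp.GLn.pt_X]
    · show Algebra.TensorProduct.map π₀ π₀
          (CoalgebraStruct.comul (R := k) (CoordGrp.GLn.Dinv : CoordGrp.GLn n k)) =
        CoalgebraStruct.comul (R := k) (π₀ CoordGrp.GLn.Dinv)
      rw [CoordGrp.GLn.pt_Dinv, hΔd, CoordGrp.GLn.comul_Dinv, Algebra.TensorProduct.map_tmul,
        CoordGrp.GLn.pt_Dinv]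
  refine ⟨BialgHom.ofAlgHom π₀ hc1 hc2, fun i j => ?_⟩
  exact CoordGrp.GLn.pt_X M N.det hd i j

end Matrix

section Main

variable (k : Type u) [Field k] (A : Type v) [CommRing A] [HopfAlgebra k A]

omit [Field k] [CommRing A] [HopfAlgebra k A] in
theorem expand {k : Type u} [Field k] {A : Type v} [AddCommGroup A] [Module k A]
    {W : Type v} [AddCommGroup W] [Module k W] {n : ℕ} (e : Module.Basis (Fin n) k W)
    (x : W ⊗[k] A) : x = ∑ l, e l ⊗ₜ[k] evl A (e.coord l) x := by
  induction x using TensorProduct.induction_on with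
  | zero => simp
  | add x y hx hy =>
    simp only [map_add, TensorProduct.tmul_add, Finset.sum_add_distrib]
    rw [← hx, ← hy]
  | tmul w c =>
    simp only [evl_tmul, Module.Basis.coord_apply]
    conv_lhs => rw [← e.sum_repr w, TensorProduct.sum_tmul]
    apply Finset.sum_congr rfl
    intro l _
    rw [TensorProduct.smul_tmul]

theorem exists_surjective [Algebra.FiniteType k A] :
    ∃ (n : ℕ) (π : CoordGrp.GLn n k →ₐc[k] A), Function.Surjective π := by
  classical
  obtain ⟨s, hs⟩ := (Algebra.FiniteType.out : (⊤ : Subalgebra k A).FG)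
  obtain ⟨W, hW, hMW, hWfg⟩ := Groth.Agent.Lib.IndHom_helper9.exists_fg_subcomod (k := k) (C := A) A
    (Submodule.span k (s : Set A)) ⟨s, rfl⟩
  haveI : Module.Finite k W := Module.Finite.iff_fg.mpr hWfg
  letI cW : HopfRep.Comod k A W := ComodSub.Comod.restr (HopfRep.Comod.regular k A) W hW
  let n := Module.finrank k W
  let e : Module.Basis (Fin n) k W := Module.finBasis k W
  let M : Matrix (Fin n) (Fin n) A := fun i j => coeffMap (C := A) (e.coord i) (e j)
  have hM : ∀ i j, M i j = evl A (e.coord i) (cW.coact (e j)) := fun i j => rfl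
  have hρ : ∀ j, cW.coact (e j) = ∑ l, e l ⊗ₜ[k] M l j := fun j => expand e (cW.coact (e j))
  have hΔ : ∀ i j, CoalgebraStruct.comul (R := k) (M i j) = ∑ l, M i l ⊗ₜ[k] M l j := by
    intro i j
    have h1 := LinearMap.congr_fun (isComodHom_coeffMap (C := A) (e.coord i)) (e j)
    simp only [LinearMap.comp_apply] at h1
    have h2 : CoalgebraStruct.comul (R := k) (M i j) =
        (coeffMap (C := A) (e.coord i)).rTensor A (cW.coact (e j)) := h1
    rw [h2, hρ j, map_sum]
    apply Finset.sum_congr rfl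
    intro l _
    rw [LinearMap.rTensor_tmul]
  have hε : ∀ i j, CoalgebraStruct.counit (R := k) (M i j) = if i = j then 1 else 0 := by
    intro i j
    rw [hM, ← evl_lTensor]
    have h2 := LinearMap.congr_fun cW.counit_comp (e j)
    simp only [LinearMap.comp_apply, LinearMap.flip_apply, TensorProduct.mk_apply] at h2
    rw [h2, evl_tmul, Module.Basis.coord_apply, Module.Basis.repr_self, Finsupp.single_apply]
    simp [eq_comm]
  have he : ∀ j, ((e j : W) : A) = ∑ l, CoalgebraStruct.counit (R := k) ((e l : W) : A) • M l j := by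
    intro j
    have h1 : CoalgebraStruct.comul (R := k) ((e j : W) : A) = W.subtype.rTensor A (cW.coact (e j)) :=
      (ComodSub.restr_coact_coe (HopfRep.Comod.regular k A) W hW (e j)).symm
    have h2 := Coalgebra.rTensor_counit_comul (R := k) ((e j : W) : A)
    have h1' : Coalgebra.comul (R := k) ((e j : W) : A) = W.subtype.rTensor A (cW.coact (e j)) := h1
    rw [h1', hρ j, map_sum, map_sum] at h2
    have h3 := congrArg (TensorProduct.lid k A) h2
    rw [map_sum, TensorProduct.lid_tmul, one_smul] at h3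
    rw [← h3]
    apply Finset.sum_congr rfl
    intro l _
    rw [LinearMap.rTensor_tmul, LinearMap.rTensor_tmul, TensorProduct.lid_tmul]
    rfl
  obtain ⟨π, hπ⟩ := exists_bialgHom M hΔ hε
  refine ⟨n, π, ?_⟩
  have hrange : (π : CoordGrp.GLn n k →ₐ[k] A).range = ⊤ := by
    rw [eq_top_iff, ← hs, Algebra.adjoin_le_iff]
    intro a ha
    have haW : a ∈ W := hMW (Submodule.subset_span ha)
    have hWle : W ≤ Subalgebra.toSubmodule (π : CoordGrp.GLn n k →ₐ[k] A).range := by
      intro w hw
      have hw' := e.sum_repr ⟨w, hw⟩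
      have hw'' : w = ∑ l, e.repr ⟨w, hw⟩ l • ((e l : W) : A) := by
        have h := congrArg (W.subtype) hw'
        rw [map_sum] at h
        simp only [map_smul, Submodule.subtype_apply] at h
        exact h.symm
      rw [hw'']
      apply Submodule.sum_mem
      intro l _
      apply Submodule.smul_mem
      rw [he l]
      apply Submodule.sum_mem
      intro l' _
      apply Submodule.smul_mem
      exact ⟨CoordGrp.GLn.X l' l, hπ l' l⟩
    exact hWle haW
  intro a
  have ha : a ∈ (π : CoordGrp.GLn n k →ₐ[k] A).range := by rw [hrange]; trivial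
  obtain ⟨x, hx⟩ := ha
  exact ⟨x, hx⟩

end Main

end GLnEmbedH1
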