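import Groth.Agent.Lib.UnipFlag_helper9

/-!
# Full flags with trivial one-dimensional quotients for unipotent groups (helper9)
-/

set_option autoImplicit false
universe u v w w'
open TensorProduct

namespace UnipFullFlag9

open Groth.Agent.Lib.Comod_helper9 Groth.Agent.Lib.ComodDual_helper9 Groth.Agent.Lib.ComodFlag_helper9

variable (k : Type u) [Field k] (A : Type v) [CommRing A] [HopfAlgebra k A]

/-- a full flag of subcomodules with trivial one-dimensional steps, indexed by `ℕ` -/
def FullTriv (V : Type w) [AddCommGroup V] [Module k V] [HopfRep.Comod k A V] (n : ℕ)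
    (F : ℕ → Submodule k V) : Prop :=
  F 0 = ⊥ ∧ F n = ⊤ ∧ (∀ i, HopfRep.IsSubcomod (k := k) (A := A) (F i)) ∧
    ∀ i < n, F i ≤ F (i + 1) ∧ Module.finrank k ↥(F (i + 1)) = Module.finrank k ↥(F i) + 1 ∧
      ∀ v ∈ F (i + 1), HopfRep.Comod.coact (k := k) (A := A) v - v ⊗ₜ[k] (1 : A) ∈
        LinearMap.range ((F i).subtype.rTensor A)

theorem exists_fullTriv (hU : HopfRep.IsUnipotent k A) :
    ∀ (n : ℕ) (V : Type v) [AddCommGroup V] [Module k V] [HopfRep.Comod k A V],
      Module.Finite k V → Module.finrank k V = n → ∃ F : ℕ → Submodule k V, FullTriv k A V n F := by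
  intro n
  induction n with
  | zero =>
    intro V _ _ c hfin hn
    have hss : Subsingleton V := by
      by_contra h
      rw [not_subsingleton_iff_nontrivial] at h
      have := Module.finrank_pos (R := k) (M := V)
      omega
    refine ⟨fun _ => ⊥, rfl, Subsingleton.elim _ _, fun _ => isSubcomod_bot, ?_⟩
    intro i hi
    omega
  | succ n ih =>
    intro V _ _ c hfin hn
    haveI hnt : Nontrivial V := by
      rw [← Module.finrank_pos_iff (R := k)]
      omega
    have hne : HopfRep.fixedPts k A V ≠ ⊥ := hU V hfin hnt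
    obtain ⟨q₀, hq₀, hq₀ne⟩ := Submodule.exists_mem_ne_zero_of_ne_bot hne
    have hq₀' : HopfRep.Comod.coact (k := k) (A := A) q₀ = q₀ ⊗ₜ[k] (1 : A) := hq₀
    set L : Submodule k V := Submodule.span k {q₀} with hLdef
    have hLfix : ∀ v ∈ L, HopfRep.Comod.coact (k := k) (A := A) v = v ⊗ₜ[k] (1 : A) := by
      intro v hv
      obtain ⟨a, rfl⟩ := Submodule.mem_span_singleton.mp hv
      rw [map_smul, hq₀', TensorProduct.smul_tmul']
    have hL : HopfRep.IsSubcomod (k := k) (A := A) L := by
      intro v hv
      rw [hLfix v hv]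
      exact ⟨(⟨v, hv⟩ : L) ⊗ₜ[k] (1 : A), by rw [LinearMap.rTensor_tmul]; rfl⟩
    have hLrank : Module.finrank k L = 1 := finrank_span_singleton hq₀ne
    letI cQ : HopfRep.Comod k A (V ⧸ L) := ComodSub.Comod.quot c L hL
    have hmkQ : Hoch.IsComodHom A L.mkQ := ComodSub.isComodHom_mkQ c L hL
    have hQrank : Module.finrank k (V ⧸ L) = n := by
      have h1 := Submodule.finrank_quotient_add_finrank L
      omega
    obtain ⟨F', h0', hn', hsub', hstep'⟩ := ih (V ⧸ L) inferInstance hQrank
    let F : ℕ → Submodule k V := fun i =>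
      match i with
      | 0 => ⊥
      | j + 1 => (F' j).comap L.mkQ
    have hF0 : F 0 = ⊥ := rfl
    have hFs : ∀ j, F (j + 1) = (F' j).comap L.mkQ := fun j => rfl
    refine ⟨F, hF0, ?_, ?_, ?_⟩
    · rw [hFs, hn', Submodule.comap_top]
    · intro i
      cases i with
      | zero => rw [hF0]; exact isSubcomod_bot
      | succ j =>
        rw [hFs]
        exact isSubcomod_comap L.mkQ hmkQ (F' j) (hsub' j)
    · intro i hi
      cases i with
      | zero =>
        refine ⟨by rw [hF0]; exact bot_le, ?_, ?_⟩
        · rw [hFs, finrank_comap_mkQ, h0', hF0, finrank_bot, finrank_bot, hLrank]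
        · intro v hv
          rw [hFs, h0'] at hv
          have hv' : L.mkQ v = 0 := hv
          have hv'' : v ∈ L := by
            rw [← Submodule.ker_mkQ L]; exact hv'
          rw [hLfix v hv'', sub_self]
          exact Submodule.zero_mem _
      | succ j =>
        have hj : j < n := by omega
        obtain ⟨hle, hrk, hgr⟩ := hstep' j hj
        refine ⟨?_, ?_, ?_⟩
        · rw [hFs, hFs]
          exact Submodule.comap_mono hle
        · rw [hFs, hFs, finrank_comap_mkQ, finrank_comap_mkQ, hrk]
          omega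
        · intro v hv
          rw [hFs] at hv
          have hv' : L.mkQ v ∈ F' (j + 1) := hv
          have h1 := hgr (L.mkQ v) hv'
          rw [mem_range_subtype_rTensor_iff] at h1
          have hker : LinearMap.ker ((F' j).mkQ ∘ₗ L.mkQ) = F (j + 1) := by
            rw [LinearMap.ker_comp, Submodule.ker_mkQ]
          have h2 : cQ.coact (L.mkQ v) = L.mkQ.rTensor A (c.coact v) := rfl
          rw [← hker, ← ker_rTensor_eq_range, LinearMap.mem_ker, LinearMap.rTensor_comp,
            LinearMap.comp_apply, map_sub, LinearMap.rTensor_tmul, ← h2]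
          exact h1

end UnipFullFlag9
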