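import Groth.Agent.Lib.UnipExt_helper1
import Groth.Prelude.Def_GLin5

/-!
# Coconnected Hopf algebras are unipotent (helper1)
-/

set_option autoImplicit false
set_option maxHeartbeats 1000000

universe u

open TensorProduct

namespace TrigStrH1

open HopfNrmH1 Groth.Agent.Lib.HopfFFH1 Groth.Agent.Lib.Comod_helper9
  Groth.Agent.Lib.ComodFlag_helper9 Groth.Agent.Lib.ComodDual_helper9 ChevH1

section Coconn

variable {k : Type u} [Field k] {A : Type u} [CommRing A] [HopfAlgebra k A]
  {V : Type u} [AddCommGroup V] [Module k V]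

theorem range_lTensor_mono {P Q : Submodule k A} (h : P ≤ Q) :
    LinearMap.range (LinearMap.lTensor V P.subtype) ≤ LinearMap.range (LinearMap.lTensor V Q.subtype) := by
  rintro _ ⟨y, rfl⟩
  refine ⟨(Submodule.inclusion h).lTensor V y, ?_⟩
  rw [← LinearMap.lTensor_comp_apply, Submodule.subtype_comp_inclusion]

theorem exists_mem_range_lTensor (C : ℕ → Submodule k A) (hmono : Monotone C)
    (htop : (⨆ r, C r) = ⊤) (t : V ⊗[k] A) :
    ∃ r, t ∈ LinearMap.range (LinearMap.lTensor V (C r).subtype) := by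
  induction t using TensorProduct.induction_on with
  | zero => exact ⟨0, Submodule.zero_mem _⟩
  | add x y hx hy =>
    obtain ⟨r₁, h₁⟩ := hx
    obtain ⟨r₂, h₂⟩ := hy
    exact ⟨max r₁ r₂, Submodule.add_mem _
      (range_lTensor_mono (hmono (le_max_left r₁ r₂)) h₁)
      (range_lTensor_mono (hmono (le_max_right r₁ r₂)) h₂)⟩
  | tmul v a =>
    have ha : a ∈ ⨆ r, C r := by
      rw [htop]
      trivial
    obtain ⟨r, hr⟩ := (Submodule.mem_iSup_of_directed C hmono.directed_le).mp ha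
    exact ⟨r, ⟨v ⊗ₜ[k] (⟨a, hr⟩ : C r), rfl⟩⟩

theorem ev_lTensor {M N : Type u} [AddCommGroup M] [Module k M] [AddCommGroup N] [Module k N]
    (q : M →ₗ[k] N) (φ : N →ₗ[k] k) (t : V ⊗[k] M) :
    ev V φ (q.lTensor V t) = ev V (φ ∘ₗ q) t := by
  induction t using TensorProduct.induction_on with
  | zero => simp
  | add x y hx hy => simp only [map_add, hx, hy]
  | tmul v a => simp

theorem mem_range_of_forall_ev (P : Submodule k A) (t : V ⊗[k] A)
    (h : ∀ f : A →ₗ[k] k, (∀ a ∈ P, f a = 0) → ev V f t = 0) :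
    t ∈ LinearMap.range (LinearMap.lTensor V P.subtype) := by
  have hex : Function.Exact P.subtype P.mkQ := by
    intro a
    constructor
    · intro ha
      exact ⟨⟨a, (Submodule.Quotient.mk_eq_zero P).mp ha⟩, rfl⟩
    · rintro ⟨b, rfl⟩
      exact (Submodule.Quotient.mk_eq_zero P).mpr b.2
  have hex2 := lTensor_exact V hex P.mkQ_surjective
  apply (hex2 t).mp
  apply eq_zero_of_forall_ev
  intro φ
  rw [ev_lTensor]
  apply h
  intro a ha
  rw [LinearMap.comp_apply, Submodule.mkQ_apply, (Submodule.Quotient.mk_eq_zero P).mpr ha, map_zero]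

theorem exists_tmul_one (P : Submodule k A) (hP : P = Submodule.span k {(1 : A)}) (t : V ⊗[k] A)
    (ht : t ∈ LinearMap.range (LinearMap.lTensor V P.subtype)) : ∃ v' : V, t = v' ⊗ₜ[k] (1 : A) := by
  obtain ⟨z, rfl⟩ := ht
  induction z using TensorProduct.induction_on with
  | zero => exact ⟨0, by simp⟩
  | add x y hx hy =>
    obtain ⟨v₁, e₁⟩ := hx
    obtain ⟨v₂, e₂⟩ := hy
    exact ⟨v₁ + v₂, by rw [map_add, e₁, e₂, TensorProduct.add_tmul]⟩
  | tmul v c =>
    have hc : (c : A) ∈ Submodule.span k {(1 : A)} := hP ▸ c.2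
    obtain ⟨α, hα⟩ := Submodule.mem_span_singleton.mp hc
    refine ⟨α • v, ?_⟩
    rw [LinearMap.lTensor_tmul, Submodule.subtype_apply, ← hα, TensorProduct.tmul_smul,
      TensorProduct.smul_tmul']

theorem ev_assoc_symm_tmul (f : A →ₗ[k] k) (v : V) (s : A ⊗[k] A) :
    ev (V ⊗[k] A) f ((TensorProduct.assoc k V A A).symm (v ⊗ₜ[k] s)) = v ⊗ₜ[k] ev A f s := by
  induction s using TensorProduct.induction_on with
  | zero => simp
  | add x y hx hy =>
    rw [TensorProduct.tmul_add, map_add, map_add, hx, hy, map_add, TensorProduct.tmul_add]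
  | tmul a b =>
    rw [TensorProduct.assoc_symm_tmul, ev_tmul, ev_tmul, TensorProduct.tmul_smul]

theorem ev_assoc_symm_lTensor (f : A →ₗ[k] k) (g : A →ₗ[k] A ⊗[k] A) (t : V ⊗[k] A) :
    ev (V ⊗[k] A) f ((TensorProduct.assoc k V A A).symm (g.lTensor V t)) =
      (ev A f ∘ₗ g).lTensor V t := by
  induction t using TensorProduct.induction_on with
  | zero => simp
  | add x y hx hy => simp only [map_add, hx, hy]
  | tmul v a =>
    rw [LinearMap.lTensor_tmul, ev_assoc_symm_tmul, LinearMap.lTensor_tmul, LinearMap.comp_apply]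

theorem ev_comul_mem (C : ℕ → Submodule k A) (hmono : Monotone C)
    (hΔ : ∀ r, Submodule.map (CoalgebraStruct.comul (R := k) (A := A)) (C r) ≤
      ⨆ i ∈ Finset.range (r + 1), LinearMap.range (TensorProduct.mapIncl (C i) (C (r - i))))
    (r : ℕ) (f : A →ₗ[k] k) (hf : ∀ a ∈ C r, f a = 0) (c : A) (hc : c ∈ C (r + 1)) :
    ev A f (CoalgebraStruct.comul (R := k) c) ∈ C 0 := by
  have h1 : CoalgebraStruct.comul (R := k) c ∈
      Submodule.map (CoalgebraStruct.comul (R := k) (A := A)) (C (r + 1)) :=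
    Submodule.mem_map_of_mem hc
  have h2 := hΔ (r + 1) h1
  have h3 : (⨆ i ∈ Finset.range (r + 1 + 1),
      LinearMap.range (TensorProduct.mapIncl (C i) (C (r + 1 - i)))) ≤
      Submodule.comap (ev A f) (C 0) := by
    apply iSup₂_le
    intro i hi
    rintro _ ⟨z, rfl⟩
    rw [Submodule.mem_comap]
    induction z using TensorProduct.induction_on with
    | zero => simp
    | add x y hx hy =>
      rw [map_add, map_add]
      exact Submodule.add_mem _ hx hy
    | tmul a b =>
      rw [TensorProduct.mapIncl, TensorProduct.map_tmul, Submodule.subtype_apply,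
        Submodule.subtype_apply, ev_tmul]
      rcases Nat.eq_zero_or_pos i with h0 | hpos
      · subst h0
        exact Submodule.smul_mem _ _ a.2
      · have hb : (b : A) ∈ C r := hmono (by omega) b.2
        rw [hf _ hb, zero_smul]
        exact Submodule.zero_mem _
  exact h3 h2

theorem fixed_of_coact_mem (cV : HopfRep.Comod k A V) (P : Submodule k A)
    (hP : P = Submodule.span k {(1 : A)}) (w : V)
    (hw : cV.coact w ∈ LinearMap.range (LinearMap.lTensor V P.subtype)) :
    cV.coact w = w ⊗ₜ[k] (1 : A) := by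
  obtain ⟨w', hw'⟩ := exists_tmul_one P hP (cV.coact w) hw
  have h1 := LinearMap.congr_fun cV.counit_comp w
  simp only [LinearMap.comp_apply, LinearMap.flip_apply, TensorProduct.mk_apply] at h1
  rw [hw', LinearMap.lTensor_tmul] at h1
  have h2 : (CoalgebraStruct.counit (R := k) (1 : A)) = (1 : k) := Bialgebra.counit_one
  rw [h2] at h1
  have h3 := congrArg (TensorProduct.rid k V) h1
  rw [TensorProduct.rid_tmul, TensorProduct.rid_tmul, one_smul, one_smul] at h3
  rw [hw', h3]

theorem isUnipotent_of_coconnected (C : ℕ → Submodule k A) (hmono : Monotone C)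
    (h0 : C 0 = Submodule.span k {(1 : A)}) (htop : (⨆ r, C r) = ⊤)
    (hΔ : ∀ r, Submodule.map (CoalgebraStruct.comul (R := k) (A := A)) (C r) ≤
      ⨆ i ∈ Finset.range (r + 1), LinearMap.range (TensorProduct.mapIncl (C i) (C (r - i)))) :
    HopfRep.IsUnipotent k A := by
  classical
  intro V _ _ cV hfin hnt
  have hex : ∃ r, ∃ v : V, v ≠ 0 ∧
      cV.coact v ∈ LinearMap.range (LinearMap.lTensor V (C r).subtype) := by
    obtain ⟨v, hv⟩ := exists_ne (0 : V)
    obtain ⟨r, hr⟩ := exists_mem_range_lTensor C hmono htop (cV.coact v)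
    exact ⟨r, v, hv, hr⟩
  have hmin := fun m (hm : m < Nat.find hex) => Nat.find_min hex hm
  obtain ⟨v, hv0, hv⟩ := Nat.find_spec hex
  have hfix0 : ∀ w : V, w ≠ 0 →
      cV.coact w ∈ LinearMap.range (LinearMap.lTensor V (C 0).subtype) →
      HopfRep.fixedPts k A V ≠ ⊥ := by
    intro w hw0 hw hbot
    have hmem : w ∈ HopfRep.fixedPts k A V := fixed_of_coact_mem cV (C 0) h0 w hw
    rw [hbot] at hmem
    exact hw0 ((Submodule.mem_bot k).mp hmem)
  rcases Nat.eq_zero_or_pos (Nat.find hex) with hz | hpos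
  · rw [hz] at hv
    exact hfix0 v hv0 hv
  · exfalso
    obtain ⟨r, hr⟩ : ∃ r, Nat.find hex = r + 1 := ⟨Nat.find hex - 1, by omega⟩
    rw [hr] at hv
    apply hmin r (by omega)
    refine ⟨v, hv0, ?_⟩
    apply mem_range_of_forall_ev
    intro f hf
    by_contra hne
    apply hmin 0 hpos
    refine ⟨ev V f (cV.coact v), hne, ?_⟩
    rw [coact_ev, ev_assoc_symm_lTensor]
    obtain ⟨z, hz⟩ := hv
    rw [← hz, ← LinearMap.lTensor_comp_apply]
    have hg : ∀ c : C (r + 1),
        ((ev A f ∘ₗ CoalgebraStruct.comul (R := k) (A := A)) ∘ₗ (C (r + 1)).subtype) c ∈ C 0 := by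
      intro c
      exact ev_comul_mem C hmono hΔ r f hf c c.2
    have hfac : (ev A f ∘ₗ CoalgebraStruct.comul (R := k) (A := A)) ∘ₗ (C (r + 1)).subtype =
        (C 0).subtype ∘ₗ LinearMap.codRestrict (C 0)
          ((ev A f ∘ₗ CoalgebraStruct.comul (R := k) (A := A)) ∘ₗ (C (r + 1)).subtype) hg := by
      ext c
      rfl
    rw [hfac, LinearMap.lTensor_comp_apply]
    exact ⟨_, rfl⟩

end Coconn

section Prim

variable {k : Type u} [Field k] {A : Type u} [CommRing A] [HopfAlgebra k A]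

theorem exists_fixed_of_isUnipotent (hU : HopfRep.IsUnipotent k A) {W : Type u} [AddCommGroup W]
    [Module k W] (cW : HopfRep.Comod k A W) (w : W) (hw : w ≠ 0) :
    ∃ y : W, y ≠ 0 ∧ cW.coact y = y ⊗ₜ[k] (1 : A) := by
  obtain ⟨F, hFfin, hwF, hFsub⟩ := exists_finite_subcomod_mem (k := k) (C := A) w
  haveI : Nontrivial F := ⟨⟨⟨w, hwF⟩, 0, fun h => hw (congrArg Subtype.val h)⟩⟩
  have hfix := @hU F _ _ (ComodSub.Comod.restr cW F hFsub) hFfin inferInstance
  obtain ⟨y, hy, hy0⟩ := (Submodule.ne_bot_iff _).mp hfix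
  have hy' : (ComodSub.Comod.restr cW F hFsub).coact y = y ⊗ₜ[k] (1 : A) := hy
  refine ⟨(y : W), fun h => hy0 (Subtype.ext h), ?_⟩
  rw [← ComodSub.restr_coact_coe cW F hFsub y, hy', LinearMap.rTensor_tmul, Submodule.subtype_apply]

theorem exists_one_tmul (t : A ⊗[k] A)
    (ht : t ∈ LinearMap.range (LinearMap.rTensor A (Submodule.span k {(1 : A)}).subtype)) :
    ∃ z : A, t = (1 : A) ⊗ₜ[k] z := by
  obtain ⟨w, rfl⟩ := ht
  induction w using TensorProduct.induction_on with
  | zero => exact ⟨0, by simp⟩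
  | add x y hx hy =>
    obtain ⟨z₁, e₁⟩ := hx
    obtain ⟨z₂, e₂⟩ := hy
    exact ⟨z₁ + z₂, by rw [map_add, e₁, e₂, TensorProduct.tmul_add]⟩
  | tmul c b =>
    obtain ⟨α, hα⟩ := Submodule.mem_span_singleton.mp c.2
    refine ⟨α • b, ?_⟩
    rw [LinearMap.rTensor_tmul, Submodule.subtype_apply, ← hα, TensorProduct.smul_tmul]

theorem counit_of_primitive (x : A)
    (hx : CoalgebraStruct.comul (R := k) x = x ⊗ₜ[k] (1 : A) + (1 : A) ⊗ₜ[k] x) :
    CoalgebraStruct.counit (R := k) x = 0 := by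
  have h2 := Coalgebra.rTensor_counit_comul (R := k) x
  have h5 : (CoalgebraStruct.counit (R := k) (A := A)).rTensor A
      (x ⊗ₜ[k] (1 : A) + (1 : A) ⊗ₜ[k] x) = (1 : k) ⊗ₜ[k] x := by
    rw [← hx]
    exact h2
  rw [map_add, LinearMap.rTensor_tmul, LinearMap.rTensor_tmul, Bialgebra.counit_one] at h5
  have h6 := congrArg (TensorProduct.lid k A) h5
  rw [map_add, TensorProduct.lid_tmul, TensorProduct.lid_tmul, one_smul] at h6
  have h7 : CoalgebraStruct.counit (R := k) x • (1 : A) = 0 := by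
    have h := sub_eq_zero.mpr h6
    rwa [add_sub_cancel_right] at h
  have h8 := congrArg (CoalgebraStruct.counit (R := k) (A := A)) h7
  rw [map_smul, Bialgebra.counit_one, smul_eq_mul, mul_one, map_zero] at h8
  exact h8

theorem antipode_of_primitive (x : A)
    (hx : CoalgebraStruct.comul (R := k) x = x ⊗ₜ[k] (1 : A) + (1 : A) ⊗ₜ[k] x) :
    HopfAlgebra.antipode k x = -x := by
  have h := HopfAlgebra.mul_antipode_rTensor_comul_apply (R := k) x
  have hx' : Coalgebra.comul (R := k) x = x ⊗ₜ[k] (1 : A) + (1 : A) ⊗ₜ[k] x := hx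
  have hc : Coalgebra.counit (R := k) x = 0 := counit_of_primitive x hx
  rw [hx', map_add, map_add, LinearMap.rTensor_tmul, LinearMap.rTensor_tmul, LinearMap.mul'_apply,
    LinearMap.mul'_apply, HopfAlgebra.antipode_one, mul_one, one_mul, hc, map_zero] at h
  exact eq_neg_of_add_eq_zero_left h

theorem exists_primitive_of_isUnipotent (hU : HopfRep.IsUnipotent k A) (a : A)
    (ha : a ∉ Submodule.span k {(1 : A)}) :
    ∃ p : A, p ≠ 0 ∧
      CoalgebraStruct.comul (R := k) p = p ⊗ₜ[k] (1 : A) + (1 : A) ⊗ₜ[k] p := by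
  have hS1 : @HopfRep.IsSubcomod k A _ _ _ _ A _ _ (HopfRep.Comod.regular k A)
      (Submodule.span k {(1 : A)}) :=
    isSubcomod_span_eigen (HopfRep.Comod.regular k A) 1 1 (by
      show CoalgebraStruct.comul (R := k) (1 : A) = (1 : A) ⊗ₜ[k] (1 : A)
      rw [Bialgebra.comul_one, Algebra.TensorProduct.one_def])
  have hq : (Submodule.Quotient.mk a : A ⧸ Submodule.span k {(1 : A)}) ≠ 0 := by
    intro h
    exact ha ((Submodule.Quotient.mk_eq_zero _).mp h)
  obtain ⟨ybar, hyne, hyfix⟩ := exists_fixed_of_isUnipotent hU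
    (ComodSub.Comod.quot (HopfRep.Comod.regular k A) _ hS1) _ hq
  obtain ⟨y, rfl⟩ := Submodule.Quotient.mk_surjective _ ybar
  have hyS : y ∉ Submodule.span k {(1 : A)} :=
    fun h => hyne ((Submodule.Quotient.mk_eq_zero _).mpr h)
  rw [ComodSub.quot_coact_mk] at hyfix
  have hcoact : (HopfRep.Comod.regular k A).coact y = CoalgebraStruct.comul (R := k) y := rfl
  rw [hcoact] at hyfix
  have h1 : (Submodule.span k {(1 : A)}).mkQ.rTensor A
      (CoalgebraStruct.comul (R := k) y - y ⊗ₜ[k] (1 : A)) = 0 := by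
    rw [map_sub, hyfix, LinearMap.rTensor_tmul, Submodule.mkQ_apply, sub_self]
  have hex := rTensor_exact A (LinearMap.exact_subtype_mkQ (Submodule.span k {(1 : A)}))
    (Submodule.mkQ_surjective _)
  obtain ⟨z, hz⟩ := exists_one_tmul _ ((hex _).mp h1)
  have h3 : CoalgebraStruct.comul (R := k) y = y ⊗ₜ[k] (1 : A) + (1 : A) ⊗ₜ[k] z := by
    rw [← hz]
    abel
  have h2 := Coalgebra.rTensor_counit_comul (R := k) y
  have h5 : (CoalgebraStruct.counit (R := k) (A := A)).rTensor A
      (y ⊗ₜ[k] (1 : A) + (1 : A) ⊗ₜ[k] z) = (1 : k) ⊗ₜ[k] y := by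
    rw [← h3]
    exact h2
  rw [map_add, LinearMap.rTensor_tmul, LinearMap.rTensor_tmul, Bialgebra.counit_one] at h5
  have h6 := congrArg (TensorProduct.lid k A) h5
  rw [map_add, TensorProduct.lid_tmul, TensorProduct.lid_tmul, TensorProduct.lid_tmul, one_smul,
    one_smul] at h6
  obtain ⟨c, hc⟩ : ∃ c : k, CoalgebraStruct.counit (R := k) y = c := ⟨_, rfl⟩
  rw [hc] at h6
  have hy : y = z + c • (1 : A) := by
    rw [← h6]
    abel
  refine ⟨z, ?_, ?_⟩
  · intro hz0
    apply hyS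
    rw [hy, hz0, zero_add]
    exact Submodule.smul_mem _ _ (Submodule.mem_span_singleton_self 1)
  · have hzy : z = y - c • (1 : A) := by
      rw [hy]
      abel
    have hΔz : CoalgebraStruct.comul (R := k) z =
        CoalgebraStruct.comul (R := k) y - c • CoalgebraStruct.comul (R := k) (1 : A) := by
      conv_lhs => rw [hzy]
      rw [map_sub, map_smul]
    rw [hΔz, h3, Bialgebra.comul_one, Algebra.TensorProduct.one_def]
    have h7 : y ⊗ₜ[k] (1 : A) = z ⊗ₜ[k] (1 : A) + c • ((1 : A) ⊗ₜ[k] (1 : A)) := by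
      conv_lhs => rw [hy]
      rw [TensorProduct.add_tmul, TensorProduct.smul_tmul']
    rw [h7]
    abel

theorem forall_primitive_of_isUnipotent (hU : HopfRep.IsUnipotent k A) (I : Ideal A)
    [I.IsHopfIdeal k] (hne : I ≠ RingHom.ker (Bialgebra.counitAlgHom k A)) :
    ∃ x : A ⧸ I, x ≠ 0 ∧
      CoalgebraStruct.comul (R := k) x = x ⊗ₜ[k] (1 : A ⧸ I) + (1 : A ⧸ I) ⊗ₜ[k] x := by
  have hD : HopfRep.IsUnipotent k (A ⧸ I) :=
    isUnipotent_of_surjective (Bialgebra.Quotient.mkBialgHom I : A →ₐc[k] A ⧸ I)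
      (mkBialgHom_surjective (k := k) I) hU
  have hle : I ≤ RingHom.ker (Bialgebra.counitAlgHom k A) := by
    intro a ha
    rw [RingHom.mem_ker]
    exact Submodule.IsCoideal.counit_eq_zero (I := I.restrictScalars k) ha
  obtain ⟨a, haε, haI⟩ : ∃ a, a ∈ RingHom.ker (Bialgebra.counitAlgHom k A) ∧ a ∉ I := by
    by_contra hcon
    push Not at hcon
    exact hne (le_antisymm hle hcon)
  apply exists_primitive_of_isUnipotent hD (Ideal.Quotient.mk I a)
  intro hmem
  obtain ⟨c, hc⟩ := Submodule.mem_span_singleton.mp hmem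
  have h1 := congrArg (CoalgebraStruct.counit (R := k) (A := A ⧸ I)) hc
  have h2 : CoalgebraStruct.counit (R := k) (Ideal.Quotient.mk I a) =
      CoalgebraStruct.counit (R := k) a :=
    CoalgHomClass.counit_comp_apply (Bialgebra.Quotient.mkBialgHom I : A →ₐc[k] A ⧸ I) a
  have h3 : CoalgebraStruct.counit (R := k) a = 0 := by
    have h4 : Bialgebra.counitAlgHom k A a = 0 := RingHom.mem_ker.mp haε
    exact h4
  rw [map_smul, Bialgebra.counit_one, smul_eq_mul, mul_one, h2, h3] at h1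
  rw [h1, zero_smul] at hc
  exact haI (Ideal.Quotient.eq_zero_iff_mem.mp hc.symm)

end Prim

section PrimExt

variable {k : Type u} [Field k] {E : Type u} [CommRing E] [HopfAlgebra k E]

/-- span of the powers `y^i`, `i ≤ n` -/
def powFilt (k : Type u) [Field k] {E : Type u} [CommRing E] [HopfAlgebra k E] (y : E) (n : ℕ) :
    Submodule k E :=
  Submodule.span k {z | ∃ i ≤ n, z = y ^ i}

theorem isUnipotent_of_adjoin_primitive (y : E)
    (hy : CoalgebraStruct.comul (R := k) y = y ⊗ₜ[k] (1 : E) + (1 : E) ⊗ₜ[k] y)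
    (htop : Algebra.adjoin k {y} = ⊤) : HopfRep.IsUnipotent k E := by
  apply isUnipotent_of_coconnected (powFilt k y)
  · intro m n hmn
    apply Submodule.span_mono
    rintro z ⟨i, hi, rfl⟩
    exact ⟨i, hi.trans hmn, rfl⟩
  · have hset : {z : E | ∃ i ≤ 0, z = y ^ i} = {(1 : E)} := by
      ext z
      constructor
      · rintro ⟨i, hi, rfl⟩
        have hi0 : i = 0 := Nat.le_zero.mp hi
        rw [hi0, pow_zero]
        rfl
      · intro hz
        exact ⟨0, le_refl 0, by rw [pow_zero]; exact hz⟩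
    rw [powFilt, hset]
  · rw [eq_top_iff]
    intro e _
    have he : e ∈ Algebra.adjoin k {y} := by
      rw [htop]
      trivial
    rw [Algebra.adjoin_singleton_eq_range_aeval] at he
    obtain ⟨p, rfl⟩ := (AlgHom.mem_range _).mp he
    rw [Polynomial.aeval_eq_sum_range]
    apply Submodule.sum_mem
    intro i _
    apply Submodule.smul_mem
    exact Submodule.mem_iSup_of_mem i (Submodule.subset_span ⟨i, le_refl i, rfl⟩)
  · intro r
    rw [Submodule.map_le_iff_le_comap, powFilt, Submodule.span_le]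
    rintro z ⟨n, hn, rfl⟩
    show CoalgebraStruct.comul (R := k) (y ^ n) ∈ (⨆ i ∈ Finset.range (r + 1),
      LinearMap.range (TensorProduct.mapIncl (powFilt k y i) (powFilt k y (r - i))))
    have key : ∀ m ≤ n, (y ^ m) ⊗ₜ[k] (y ^ (n - m)) ∈
        ⨆ i ∈ Finset.range (r + 1),
          LinearMap.range (TensorProduct.mapIncl (powFilt k y i) (powFilt k y (r - i))) := by
      intro m hm
      apply Submodule.mem_iSup_of_mem m
      apply Submodule.mem_iSup_of_mem (Finset.mem_range.mpr (by omega))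
      exact ⟨(⟨y ^ m, Submodule.subset_span ⟨m, le_refl m, rfl⟩⟩ : powFilt k y m) ⊗ₜ[k]
        (⟨y ^ (n - m), Submodule.subset_span ⟨n - m, by omega, rfl⟩⟩ : powFilt k y (r - m)), rfl⟩
    rw [Bialgebra.comul_pow, hy, add_pow]
    apply Submodule.sum_mem
    intro m hm
    have hm' : m ≤ n := Nat.lt_succ_iff.mp (Finset.mem_range.mp hm)
    rw [Algebra.TensorProduct.tmul_pow, Algebra.TensorProduct.tmul_pow, one_pow, one_pow,
      Algebra.TensorProduct.tmul_mul_tmul, mul_one, one_mul, mul_comm, ← nsmul_eq_mul]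
    exact nsmul_mem (key m hm') _

theorem isHopfSub_adjoin_primitive (x : E)
    (hx : CoalgebraStruct.comul (R := k) x = x ⊗ₜ[k] (1 : E) + (1 : E) ⊗ₜ[k] x) :
    IsHopfSub (Algebra.adjoin k {x}) where
  comul_mem := by
    intro b hb
    have h : Algebra.adjoin k {x} ≤ Subalgebra.comap (Bialgebra.comulAlgHom k E)
        (Algebra.TensorProduct.map (Algebra.adjoin k {x}).val (Algebra.adjoin k {x}).val).range := by
      apply Algebra.adjoin_le
      intro y hy
      rw [Set.mem_singleton_iff] at hy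
      rw [hy]
      show Bialgebra.comulAlgHom k E x ∈
        (Algebra.TensorProduct.map (Algebra.adjoin k {x}).val (Algebra.adjoin k {x}).val).range
      rw [Bialgebra.comulAlgHom_apply]
      have hx' : Coalgebra.comul (R := k) x = x ⊗ₜ[k] (1 : E) + (1 : E) ⊗ₜ[k] x := hx
      rw [hx']
      refine (AlgHom.mem_range _).mpr
        ⟨(⟨x, Algebra.subset_adjoin rfl⟩ : Algebra.adjoin k {x}) ⊗ₜ[k] 1 +
        1 ⊗ₜ[k] (⟨x, Algebra.subset_adjoin rfl⟩ : Algebra.adjoin k {x}), ?_⟩
      rw [map_add, Algebra.TensorProduct.map_tmul, Algebra.TensorProduct.map_tmul, map_one]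
      rfl
    exact h hb
  antipode_mem := by
    intro b hb
    have h : Algebra.adjoin k {x} ≤
        Subalgebra.comap (HopfAlgebra.antipodeAlgHom k E) (Algebra.adjoin k {x}) := by
      apply Algebra.adjoin_le
      intro y hy
      rw [Set.mem_singleton_iff] at hy
      rw [hy]
      show HopfAlgebra.antipode k x ∈ Algebra.adjoin k {x}
      rw [antipode_of_primitive x hx]
      exact neg_mem (Algebra.subset_adjoin rfl)
    exact h hb

theorem primitive_sub (B : Subalgebra k E) [IsHopfSub B] (x : E) (hxB : x ∈ B)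
    (hx : CoalgebraStruct.comul (R := k) x = x ⊗ₜ[k] (1 : E) + (1 : E) ⊗ₜ[k] x) :
    CoalgebraStruct.comul (R := k) (⟨x, hxB⟩ : ↥B) =
      (⟨x, hxB⟩ : ↥B) ⊗ₜ[k] (1 : ↥B) + (1 : ↥B) ⊗ₜ[k] (⟨x, hxB⟩ : ↥B) := by
  have hinj : Function.Injective B.val.toLinearMap := Subtype.val_injective
  have hinj2 := TensorProduct.map_injective_of_flat_flat _ _ hinj hinj
  apply hinj2
  have h := CoalgHomClass.map_comp_comul_apply (subVal B) (⟨x, hxB⟩ : ↥B)
  rw [map_add, TensorProduct.map_tmul, TensorProduct.map_tmul]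
  exact h.trans hx

end PrimExt

section Main3264

variable {k : Type u} [Field k] {A : Type u} [CommRing A] [HopfAlgebra k A]

theorem isUnipotent_step (I : Ideal A) [I.IsHopfIdeal k]
    (IH : ∀ J > I, ∀ [J.IsHopfIdeal k], HopfRep.IsUnipotent k (A ⧸ J))
    (B : Subalgebra k (A ⧸ I)) [IsHopfSub B] (hBU : HopfRep.IsUnipotent k ↥B) (x : A ⧸ I)
    (hxB : x ∈ B) (hx0 : x ≠ 0) (hεx : CoalgebraStruct.counit (R := k) x = 0) :
    HopfRep.IsUnipotent k (A ⧸ I) := by
  have hinj : Function.Injective (subVal B) := Subtype.val_injective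
  apply isUnipotent_of_extension (subVal B) hinj hBU
  obtain ⟨φ, hφ⟩ : ∃ φ : A →ₐc[k] (A ⧸ I) ⧸ augIdeal (subVal B),
      ∀ a, φ a = Ideal.Quotient.mk (augIdeal (subVal B)) (Ideal.Quotient.mk I a) :=
    ⟨(Bialgebra.Quotient.mkBialgHom (augIdeal (subVal B))).comp
      (Bialgebra.Quotient.mkBialgHom I), fun a => rfl⟩
  have hφsurj : Function.Surjective φ := by
    intro z
    obtain ⟨d, rfl⟩ := Ideal.Quotient.mk_surjective z
    obtain ⟨a, rfl⟩ := Ideal.Quotient.mk_surjective d
    exact ⟨a, hφ a⟩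
  haveI hJ' : (RingHom.ker (φ : A →+* (A ⧸ I) ⧸ augIdeal (subVal B))).IsHopfIdeal k :=
    ChevH1.ker_isHopfIdeal φ
  have hxJ : x ∈ augIdeal (subVal B) := by
    have h1 := sub_counit_mem_augIdeal (subVal B) (⟨x, hxB⟩ : ↥B)
    have h2 : Coalgebra.counit (R := k) (⟨x, hxB⟩ : ↥B) = 0 := by
      have h3 := CoalgHomClass.counit_comp_apply (subVal B) (⟨x, hxB⟩ : ↥B)
      rw [← h3]
      exact hεx
    rw [h2, map_zero, sub_zero] at h1
    exact h1
  have hlt : I < RingHom.ker (φ : A →+* (A ⧸ I) ⧸ augIdeal (subVal B)) := by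
    rw [SetLike.lt_iff_le_and_exists]
    constructor
    · intro a ha
      rw [RingHom.mem_ker]
      show φ a = 0
      rw [hφ, Ideal.Quotient.eq_zero_iff_mem.mpr ha, map_zero]
    · obtain ⟨a, rfl⟩ := Ideal.Quotient.mk_surjective x
      refine ⟨a, ?_, fun ha => hx0 (Ideal.Quotient.eq_zero_iff_mem.mpr ha)⟩
      rw [RingHom.mem_ker]
      show φ a = 0
      rw [hφ]
      exact Ideal.Quotient.eq_zero_iff_mem.mpr hxJ
  have hU' := IH _ hlt
  have hker : ∀ a ∈ RingHom.ker (φ : A →+* (A ⧸ I) ⧸ augIdeal (subVal B)), φ a = 0 :=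
    fun a ha => ha
  refine isUnipotent_of_surjective (CoordGrp.quotBialgHom k _ φ hker) ?_ hU'
  intro z
  obtain ⟨a, rfl⟩ := hφsurj z
  exact ⟨Ideal.Quotient.mk _ a, rfl⟩

theorem isUnipotent_quot_of_forall_primitive [IsNoetherianRing A]
    (h : ∀ (I : Ideal A) [I.IsHopfIdeal k], I ≠ RingHom.ker (Bialgebra.counitAlgHom k A) →
      ∃ x : A ⧸ I, x ≠ 0 ∧ CoalgebraStruct.comul (R := k) x =
        x ⊗ₜ[k] (1 : A ⧸ I) + (1 : A ⧸ I) ⊗ₜ[k] x)
    (I : Ideal A) : ∀ [I.IsHopfIdeal k], HopfRep.IsUnipotent k (A ⧸ I) := by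
  refine IsNoetherian.induction
    (P := fun I : Ideal A => ∀ [I.IsHopfIdeal k], HopfRep.IsUnipotent k (A ⧸ I)) ?_ I
  intro I IH hI
  by_cases hIe : I = RingHom.ker (Bialgebra.counitAlgHom k A)
  · apply isUnipotent_of_adjoin_primitive (0 : A ⧸ I) (by simp)
    rw [eq_top_iff]
    intro d _
    obtain ⟨a, rfl⟩ := Ideal.Quotient.mk_surjective d
    have ha : a - algebraMap k A (CoalgebraStruct.counit (R := k) a) ∈ I := by
      rw [hIe, RingHom.mem_ker, map_sub, sub_eq_zero, AlgHom.commutes]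
      rfl
    have h2 : Ideal.Quotient.mk I a =
        algebraMap k (A ⧸ I) (CoalgebraStruct.counit (R := k) a) := by
      rw [Ideal.Quotient.eq.mpr ha]
      rfl
    rw [h2]
    exact Subalgebra.algebraMap_mem _ _
  · obtain ⟨x, hx0, hx⟩ := h I hIe
    haveI hBH : IsHopfSub (Algebra.adjoin k {x}) := isHopfSub_adjoin_primitive x hx
    have hBU : HopfRep.IsUnipotent k ↥(Algebra.adjoin k {x}) := by
      apply isUnipotent_of_adjoin_primitive (⟨x, Algebra.subset_adjoin rfl⟩ : ↥(Algebra.adjoin k {x}))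
        (primitive_sub _ x _ hx)
      have h1 := Algebra.adjoin_adjoin_coe_preimage (R := k) (s := ({x} : Set (A ⧸ I)))
      have h2 : ((↑) : Algebra.adjoin k ({x} : Set (A ⧸ I)) → A ⧸ I) ⁻¹' {x} =
          {⟨x, Algebra.subset_adjoin rfl⟩} := by
        ext z
        simp only [Set.mem_preimage, Set.mem_singleton_iff]
        constructor
        · intro hz
          exact Subtype.ext hz
        · intro hz
          rw [hz]
      rw [h2] at h1
      exact h1
    exact isUnipotent_step I (fun J hJ => IH J hJ) (Algebra.adjoin k {x}) hBU x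
      (Algebra.subset_adjoin rfl) hx0 (counit_of_primitive x hx)

theorem s3264_same (k : Type u) [Field k] (A : Type u) [CommRing A] [HopfAlgebra k A]
    [Algebra.FiniteType k A] :
    HopfRep.IsUnipotent k A ↔
      ∀ (I : Ideal A) [I.IsHopfIdeal k], I ≠ RingHom.ker (Bialgebra.counitAlgHom k A) →
        ∃ x : A ⧸ I, x ≠ 0 ∧
          CoalgebraStruct.comul (R := k) x = x ⊗ₜ[k] (1 : A ⧸ I) + (1 : A ⧸ I) ⊗ₜ[k] x := by
  constructor
  · intro hU I _ hne
    exact forall_primitive_of_isUnipotent hU I hne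
  · intro h
    haveI : IsNoetherianRing A := Algebra.FiniteType.isNoetherianRing k A
    haveI hI0 : (RingHom.ker ((BialgHom.id k A : A →ₐc[k] A) : A →+* A)).IsHopfIdeal k :=
      ChevH1.ker_isHopfIdeal (BialgHom.id k A)
    have h1 := isUnipotent_quot_of_forall_primitive h
      (RingHom.ker ((BialgHom.id k A : A →ₐc[k] A) : A →+* A))
    refine isUnipotent_of_injective (Bialgebra.Quotient.mkBialgHom _) ?_ h1
    rw [injective_iff_map_eq_zero]
    intro a ha
    have h2 : a ∈ RingHom.ker ((BialgHom.id k A : A →ₐc[k] A) : A →+* A) :=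
      Ideal.Quotient.eq_zero_iff_mem.mp ha
    exact h2

end Main3264

end TrigStrH1
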