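import Mathlib

/-!
# Multi-variable 2-cocycles on a compact abelian group are deviations (helper3)

`dev n φ x = (Δ_{x_0} ⋯ Δ_{x_{n-1}} φ)(0)` with `Δ_a φ (h) = φ h - φ (h + a)`; Haar averaging.
-/

set_option autoImplicit false

namespace Groth.Agent.Lib.CocycleAvg

open MeasureTheory Finset

section dev

variable {G : Type*} [AddCommGroup G]

/-- finite difference `Δ_a φ (h) = φ h - φ (h + a)`. -/
def diff (a : G) (φ : G → ℝ) : G → ℝ := fun h => φ h - φ (h + a)

/-- iterated difference evaluated at `0`. -/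
def dev : (n : ℕ) → (G → ℝ) → (Fin n → G) → ℝ
  | 0, φ, _ => φ 0
  | n + 1, φ, x => dev n (diff (x (Fin.last n)) φ) (Fin.init x)

lemma dev_zero (φ : G → ℝ) (x : Fin 0 → G) : dev 0 φ x = φ 0 := rfl

lemma dev_succ (n : ℕ) (φ : G → ℝ) (x : Fin (n + 1) → G) :
    dev (n + 1) φ x = dev n (diff (x (Fin.last n)) φ) (Fin.init x) := rfl

lemma diff_add (a : G) (φ₁ φ₂ : G → ℝ) : diff a (φ₁ + φ₂) = diff a φ₁ + diff a φ₂ := by
  ext h
  simp only [diff, Pi.add_apply]
  ring

lemma diff_sub (a : G) (φ₁ φ₂ : G → ℝ) : diff a (φ₁ - φ₂) = diff a φ₁ - diff a φ₂ := by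
  ext h
  simp only [diff, Pi.sub_apply]
  ring

lemma diff_neg (a : G) (φ : G → ℝ) : diff a (-φ) = -diff a φ := by
  ext h
  simp only [diff, Pi.neg_apply]
  ring

lemma diff_const (a : G) (c : ℝ) : diff a (fun _ => c) = 0 := by
  ext h
  simp [diff]

lemma diff_zero_fun (a : G) : diff a (0 : G → ℝ) = 0 := by
  ext h
  simp [diff]

lemma dev_zero_fun : ∀ (n : ℕ) (x : Fin n → G), dev n (0 : G → ℝ) x = 0
  | 0, _ => rfl
  | n + 1, x => by rw [dev_succ, diff_zero_fun, dev_zero_fun n]

lemma dev_add : ∀ (n : ℕ) (φ₁ φ₂ : G → ℝ) (x : Fin n → G),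
    dev n (φ₁ + φ₂) x = dev n φ₁ x + dev n φ₂ x
  | 0, _, _, _ => rfl
  | n + 1, φ₁, φ₂, x => by rw [dev_succ, dev_succ, dev_succ, diff_add, dev_add n]

lemma dev_neg : ∀ (n : ℕ) (φ : G → ℝ) (x : Fin n → G), dev n (-φ) x = -dev n φ x
  | 0, _, _ => rfl
  | n + 1, φ, x => by rw [dev_succ, dev_succ, diff_neg, dev_neg n]

lemma dev_sub (n : ℕ) (φ₁ φ₂ : G → ℝ) (x : Fin n → G) :
    dev n (φ₁ - φ₂) x = dev n φ₁ x - dev n φ₂ x := by
  rw [sub_eq_add_neg, dev_add, dev_neg, ← sub_eq_add_neg]

lemma dev_const_succ (n : ℕ) (c : ℝ) (x : Fin (n + 1) → G) : dev (n + 1) (fun _ => c) x = 0 := by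
  rw [dev_succ, diff_const, dev_zero_fun]

lemma diff_diff (a b : G) (φ : G → ℝ) :
    diff a (diff b φ) = diff a φ + diff b φ - diff (a + b) φ := by
  ext h
  simp only [diff, Pi.add_apply, Pi.sub_apply]
  have h1 : h + a + b = h + (a + b) := add_assoc _ _ _
  rw [h1]
  ring

/-- the merge identity. -/
lemma dev_merge (n : ℕ) (φ : G → ℝ) (x : Fin (n + 2) → G) :
    dev (n + 2) φ x = dev (n + 1) φ (Fin.init x) +
      dev (n + 1) φ (Function.update (Fin.init x) (Fin.last n) (x (Fin.last (n + 1)))) -
      dev (n + 1) φ (Function.update (Fin.init x) (Fin.last n)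
        (x (Fin.last n).castSucc + x (Fin.last (n + 1)))) := by
  have hupd : ∀ z : G, dev (n + 1) φ (Function.update (Fin.init x) (Fin.last n) z) =
      dev n (diff z φ) (Fin.init (Fin.init x)) := by
    intro z
    rw [dev_succ, Function.update_self, Fin.init_update_last]
  rw [hupd, hupd, dev_succ (n + 1), dev_succ n, dev_succ n, ← dev_add, ← dev_sub]
  have h1 : Fin.init x (Fin.last n) = x (Fin.last n).castSucc := rfl
  rw [h1, diff_diff]

/-- `dev` as an alternating sum over subsets. -/
lemma dev_eq_sum : ∀ (n : ℕ) (φ : G → ℝ) (x : Fin n → G),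
    dev n φ x = ∑ I ∈ (Finset.univ : Finset (Fin n)).powerset,
      (-1 : ℝ) ^ I.card * φ (∑ i ∈ I, x i)
  | 0, φ, x => by
    rw [dev_zero]
    have : (Finset.univ : Finset (Fin 0)) = ∅ := Finset.univ_eq_empty
    rw [this, Finset.powerset_empty, Finset.sum_singleton]
    simp
  | n + 1, φ, x => by
    classical
    rw [dev_succ, dev_eq_sum n, Fin.univ_castSuccEmb, Finset.cons_eq_insert,
      Finset.sum_powerset_insert (by simp [Finset.map_eq_image]), Finset.map_eq_image,
      Finset.powerset_image,
      Finset.sum_image (fun s _ t _ h => Finset.image_injective Fin.castSuccEmb.injective h),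
      Finset.sum_image (fun s _ t _ h => Finset.image_injective Fin.castSuccEmb.injective h),
      ← Finset.sum_add_distrib]
    apply Finset.sum_congr rfl
    intro J _
    have hnot : Fin.last n ∉ J.image (Fin.castSuccEmb : Fin n → Fin (n + 1)) := by
      simp
    rw [Finset.card_insert_of_notMem hnot, Finset.sum_insert hnot,
      Finset.card_image_of_injective _ Fin.castSuccEmb.injective,
      Finset.sum_image (fun s _ t _ h => Fin.castSuccEmb.injective h)]
    simp only [diff, Fin.init, Fin.coe_castSuccEmb]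
    rw [add_comm (x (Fin.last n))]
    ring

/-- the deviation in the `Θ` form. -/
lemma theta_eq (n : ℕ) (φ : G → ℝ) (x : Fin n → G) :
    ∑ I ∈ ((Finset.univ : Finset (Fin n)).powerset.erase ∅),
      (-1 : ℝ) ^ (n + I.card) * φ (∑ i ∈ I, x i) = (-1 : ℝ) ^ n * (dev n φ x - φ 0) := by
  classical
  rw [dev_eq_sum, Finset.sum_erase_eq_sub (Finset.empty_mem_powerset _)]
  simp only [Finset.card_empty, add_zero, Finset.sum_empty]
  rw [mul_sub, Finset.mul_sum]
  congr 1
  apply Finset.sum_congr rfl
  intro I _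
  rw [pow_add, mul_assoc]

end dev

section meas

variable {G : Type*} [TopologicalSpace G] [CompactSpace G] [T2Space G] [MeasurableSpace G]
  [BorelSpace G]

/-- continuous real functions on a finite power of a compact Hausdorff space are measurable for
the product σ-algebra (Stone–Weierstrass). -/
lemma measurable_of_continuous_pi {n : ℕ} (f : (Fin n → G) → ℝ) (hf : Continuous f) :
    Measurable f := by
  classical
  let gen : Set C(Fin n → G, ℝ) :=
    {F | ∃ (i : Fin n) (h : C(G, ℝ)), F = h.comp ⟨fun x => x i, continuous_apply i⟩}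
  let A : Subalgebra ℝ C(Fin n → G, ℝ) := Algebra.adjoin ℝ gen
  have hsep : A.SeparatesPoints := by
    intro x y hxy
    obtain ⟨i, hi⟩ := Function.ne_iff.mp hxy
    obtain ⟨h, h0, h1, -⟩ := exists_continuous_zero_one_of_isClosed
      (isClosed_singleton (x := x i)) (isClosed_singleton (x := y i))
      (Set.disjoint_singleton.mpr hi)
    refine ⟨_, ⟨h.comp ⟨fun x => x i, continuous_apply i⟩,
      Algebra.subset_adjoin ⟨i, h, rfl⟩, rfl⟩, ?_⟩
    show h (x i) ≠ h (y i)
    rw [h0 (Set.mem_singleton _), h1 (Set.mem_singleton _)]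
    simp
  have hmeas : ∀ F ∈ A, Measurable (F : (Fin n → G) → ℝ) := by
    intro F hF
    induction hF using Algebra.adjoin_induction with
    | mem F hF =>
      obtain ⟨i, h, rfl⟩ := hF
      exact h.continuous.measurable.comp (measurable_pi_apply i)
    | algebraMap r => exact measurable_const
    | add F₁ F₂ _ _ h₁ h₂ => exact h₁.add h₂
    | mul F₁ F₂ _ _ h₁ h₂ => exact h₁.mul h₂
  have hex : ∀ k : ℕ, ∃ g : A, ∀ x, ‖(g : (Fin n → G) → ℝ) x - f x‖ < 1 / ((k : ℝ) + 1) :=
    fun k => ContinuousMap.exists_mem_subalgebra_near_continuous_of_separatesPoints A hsep f hf _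
      (by positivity)
  choose g hg using hex
  refine measurable_of_tendsto_metrizable
    (f := fun k => ((g k : C(Fin n → G, ℝ)) : (Fin n → G) → ℝ)) (fun k => hmeas _ (g k).2) ?_
  rw [tendsto_pi_nhds]
  intro x
  rw [tendsto_iff_norm_sub_tendsto_zero]
  refine squeeze_zero (fun k => norm_nonneg _) (fun k => (hg k x).le) ?_
  exact tendsto_one_div_add_atTop_nhds_zero_nat

/-- continuity of a parametric integral over a compact space. -/
lemma continuous_integral_param {X Y : Type*} [TopologicalSpace X] [TopologicalSpace Y]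
    [CompactSpace Y] [MeasurableSpace Y] (ν : Measure Y) [IsFiniteMeasure ν] (F : X → Y → ℝ)
    (hF : Continuous (Function.uncurry F)) (hm : ∀ x, AEStronglyMeasurable (F x) ν) :
    Continuous (fun x => ∫ y, F x y ∂ν) := by
  let c : C(X, C(Y, ℝ)) := ContinuousMap.curry ⟨Function.uncurry F, hF⟩
  have hc : ∀ x y, c x y = F x y := fun x y => rfl
  have hint : ∀ x, Integrable (F x) ν := fun x =>
    Integrable.of_bound (hm x) ‖c x‖ (Filter.Eventually.of_forall fun y => by
      rw [← hc]
      exact (c x).norm_coe_le_norm y)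
  rw [continuous_iff_continuousAt]
  intro x₀
  rw [ContinuousAt, Metric.tendsto_nhds]
  intro ε hε
  have hpos : 0 ≤ ν.real Set.univ := measureReal_nonneg
  have hδ : 0 < ε / (ν.real Set.univ + 1) := by positivity
  have h1 : ∀ᶠ x in nhds x₀, dist (c x) (c x₀) < ε / (ν.real Set.univ + 1) :=
    (Metric.tendsto_nhds.mp (c.continuous.tendsto x₀)) _ hδ
  filter_upwards [h1] with x hx
  rw [Real.dist_eq, ← integral_sub (hint x) (hint x₀)]
  have h2 : ∀ᵐ y ∂ν, ‖F x y - F x₀ y‖ ≤ ε / (ν.real Set.univ + 1) :=
    Filter.Eventually.of_forall fun y => by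
      have h3 := (c x - c x₀).norm_coe_le_norm y
      rw [← dist_eq_norm] at h3
      simp only [ContinuousMap.sub_apply, hc] at h3
      exact h3.trans hx.le
  have h3 := norm_integral_le_of_norm_le_const h2
  calc |∫ y, (F x y - F x₀ y) ∂ν| = ‖∫ y, (F x y - F x₀ y) ∂ν‖ := (Real.norm_eq_abs _).symm
    _ ≤ ε / (ν.real Set.univ + 1) * ν.real Set.univ := h3
    _ < ε := by
        rw [div_mul_eq_mul_div, div_lt_iff₀ (by positivity)]
        nlinarith

variable (μ : Measure G) [IsProbabilityMeasure μ]

/-- Fubini for the last coordinate. -/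
lemma integral_pi_succ {n : ℕ} (f : (Fin (n + 1) → G) → ℝ) (hf : Continuous f) :
    ∫ u, f u ∂(Measure.pi fun _ : Fin (n + 1) => μ) =
      ∫ u', (∫ v, f (Fin.snoc u' v) ∂μ) ∂(Measure.pi fun _ : Fin n => μ) := by
  have mp : MeasurePreserving (MeasurableEquiv.piFinSuccAbove (fun _ : Fin (n + 1) => G)
      (Fin.last n)).symm (μ.prod (Measure.pi fun _ : Fin n => μ))
      (Measure.pi fun _ : Fin (n + 1) => μ) :=
    (measurePreserving_piFinSuccAbove (fun _ : Fin (n + 1) => μ) (Fin.last n)).symm
  have hsymm : ∀ (v : G) (u' : Fin n → G),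
      (MeasurableEquiv.piFinSuccAbove (fun _ : Fin (n + 1) => G) (Fin.last n)).symm (v, u') =
        Fin.snoc u' v := by
    intro v u'
    show @Fin.insertNth _ (fun _ => G) (Fin.last n) v u' = _
    exact Fin.insertNth_last' v u'
  rw [← mp.integral_comp']
  have hint : Integrable (fun p : G × (Fin n → G) =>
      f ((MeasurableEquiv.piFinSuccAbove (fun _ : Fin (n + 1) => G) (Fin.last n)).symm p))
      (μ.prod (Measure.pi fun _ : Fin n => μ)) := by
    apply Integrable.of_bound ((measurable_of_continuous_pi f hf).comp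
      (MeasurableEquiv.measurable _)).aestronglyMeasurable ‖(⟨f, hf⟩ : C(Fin (n + 1) → G, ℝ))‖
    exact Filter.Eventually.of_forall fun p => ContinuousMap.norm_coe_le_norm ⟨f, hf⟩ _
  rw [integral_prod_symm _ hint]
  congr 1
  ext u'
  congr 1
  ext v
  rw [hsymm]

end meas

section main

variable {G : Type*} [AddCommGroup G] [TopologicalSpace G] [IsTopologicalAddGroup G]
  [CompactSpace G] [T2Space G] [MeasurableSpace G] [BorelSpace G]
  (μ : Measure G) [μ.IsAddHaarMeasure] [IsProbabilityMeasure μ]

/-- the pairwise cocycle condition. -/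
def Cocycle {n : ℕ} (ψ : (Fin n → G) → ℝ) : Prop :=
  ∀ (i j : Fin n), i ≠ j → ∀ (x : Fin n → G) (a b c : G),
    ψ (Function.update (Function.update x i (a + b)) j c) +
        ψ (Function.update (Function.update x i a) j b) =
      ψ (Function.update (Function.update x i a) j (b + c)) +
        ψ (Function.update (Function.update x i b) j c)

/-- average over the last variable. -/
noncomputable def avgLast {n : ℕ} (ψ : (Fin (n + 1) → G) → ℝ) : (Fin n → G) → ℝ :=
  fun y => ∫ v, ψ (Fin.snoc y v) ∂μ

/-- the candidate `φ`. -/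
noncomputable def phiOf (n : ℕ) (ψ : (Fin (n + 1) → G) → ℝ) : G → ℝ :=
  fun g => (-1 : ℝ) ^ n * ∫ u, ψ (Fin.cons g u) ∂(Measure.pi fun _ : Fin n => μ)

omit [AddCommGroup G] [IsTopologicalAddGroup G] [CompactSpace G] [T2Space G]
  [MeasurableSpace G] [BorelSpace G] in
lemma continuous_snoc {n : ℕ} :
    Continuous (fun p : (Fin n → G) × G => (Fin.snoc p.1 p.2 : Fin (n + 1) → G)) := by
  apply continuous_pi
  intro i
  refine Fin.lastCases ?_ (fun j => ?_) i
  · simp only [Fin.snoc_last]
    exact continuous_snd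
  · simp only [Fin.snoc_castSucc]
    exact (continuous_apply j).comp continuous_fst

omit [AddCommGroup G] [IsTopologicalAddGroup G] [CompactSpace G] [T2Space G]
  [MeasurableSpace G] [BorelSpace G] in
lemma continuous_cons {n : ℕ} :
    Continuous (fun p : G × (Fin n → G) => (Fin.cons p.1 p.2 : Fin (n + 1) → G)) := by
  apply continuous_pi
  intro i
  refine Fin.cases ?_ (fun j => ?_) i
  · simp only [Fin.cons_zero]
    exact continuous_fst
  · simp only [Fin.cons_succ]
    exact (continuous_apply j).comp continuous_snd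

omit [AddCommGroup G] [IsTopologicalAddGroup G] [T2Space G] [μ.IsAddHaarMeasure] in
lemma integrable_of_continuous (f : G → ℝ) (hf : Continuous f) : Integrable f μ :=
  Integrable.of_bound hf.aestronglyMeasurable ‖(⟨f, hf⟩ : C(G, ℝ))‖
    (Filter.Eventually.of_forall fun x => ContinuousMap.norm_coe_le_norm ⟨f, hf⟩ x)

omit [AddCommGroup G] [IsTopologicalAddGroup G] [T2Space G] [μ.IsAddHaarMeasure] in
lemma avgLast_continuous {n : ℕ} {ψ : (Fin (n + 1) → G) → ℝ} (hψ : Continuous ψ) :
    Continuous (avgLast μ ψ) :=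
  continuous_integral_param μ (fun y v => ψ (Fin.snoc y v)) (hψ.comp continuous_snoc)
    (fun y => (hψ.comp (continuous_snoc.comp
      (Continuous.prodMk continuous_const continuous_id))).aestronglyMeasurable)

omit [AddCommGroup G] [IsTopologicalAddGroup G] [μ.IsAddHaarMeasure] in
lemma phiOf_continuous {n : ℕ} {ψ : (Fin (n + 1) → G) → ℝ} (hψ : Continuous ψ) :
    Continuous (phiOf μ n ψ) :=
  continuous_const.mul (continuous_integral_param (Measure.pi fun _ : Fin n => μ)
    (fun g u => ψ (Fin.cons g u)) (hψ.comp continuous_cons)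
    (fun g => (measurable_of_continuous_pi _ (hψ.comp (continuous_cons.comp
      (Continuous.prodMk continuous_const continuous_id)))).aestronglyMeasurable))

omit [IsTopologicalAddGroup G] [T2Space G] [μ.IsAddHaarMeasure] in
lemma cocycle_avgLast {n : ℕ} {ψ : (Fin (n + 1) → G) → ℝ} (hψ : Continuous ψ)
    (hc : Cocycle ψ) : Cocycle (avgLast μ ψ) := by
  intro i j hij y a b c
  have hint : ∀ z : Fin n → G, Integrable (fun v => ψ (Fin.snoc z v)) μ := fun z =>
    integrable_of_continuous μ _ (hψ.comp (continuous_snoc.comp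
      (Continuous.prodMk continuous_const continuous_id)))
  simp only [avgLast]
  rw [← integral_add (hint _) (hint _), ← integral_add (hint _) (hint _)]
  congr 1
  ext v
  simp only [Fin.snoc_update]
  exact hc i.castSucc j.castSucc (fun h => hij (Fin.castSucc_injective n h)) (Fin.snoc y v) a b c

omit [AddCommGroup G] [IsTopologicalAddGroup G] [μ.IsAddHaarMeasure] in
lemma phiOf_succ {n : ℕ} {ψ : (Fin (n + 2) → G) → ℝ} (hψ : Continuous ψ) :
    phiOf μ (n + 1) ψ = -phiOf μ n (avgLast μ ψ) := by
  ext g
  simp only [phiOf, avgLast, Pi.neg_apply]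
  rw [integral_pi_succ μ (fun u => ψ (Fin.cons g u)) (hψ.comp (continuous_cons.comp
      (Continuous.prodMk continuous_const continuous_id)))]
  simp_rw [Fin.cons_snoc_eq_snoc_cons]
  rw [pow_succ]
  ring

/-- the key step: a cocycle in the last two variables is the coboundary of its average. -/
lemma step {n : ℕ} {ψ : (Fin (n + 2) → G) → ℝ} (hψ : Continuous ψ) (hc : Cocycle ψ)
    (x : Fin (n + 2) → G) :
    ψ x = avgLast μ ψ (Fin.init x) +
      avgLast μ ψ (Function.update (Fin.init x) (Fin.last n) (x (Fin.last (n + 1)))) -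
      avgLast μ ψ (Function.update (Fin.init x) (Fin.last n)
        (x (Fin.last n).castSucc + x (Fin.last (n + 1)))) := by
  set i : Fin (n + 2) := (Fin.last n).castSucc with hi
  set j : Fin (n + 2) := Fin.last (n + 1) with hj
  have hij : i ≠ j := by
    rw [hi, hj]
    exact (Fin.castSucc_lt_last _).ne
  -- rewriting `snoc`
  have hU : ∀ A B : G, (Fin.snoc (Function.update (Fin.init x) (Fin.last n) A) B :
      Fin (n + 2) → G) = Function.update (Function.update x i A) j B := by
    intro A B
    rw [Fin.snoc_update]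
    have h1 : (Fin.snoc (Fin.init x) B : Fin (n + 2) → G) = Function.update x j B := by
      conv_rhs => rw [← Fin.snoc_init_self x]
      rw [hj, Fin.update_snoc_last]
    rw [h1, Function.update_comm hij.symm]
  have hH : ∀ A : G, avgLast μ ψ (Function.update (Fin.init x) (Fin.last n) A) =
      ∫ v, ψ (Function.update (Function.update x i A) j v) ∂μ := by
    intro A
    simp only [avgLast, hU]
  have hint : ∀ A : G, Integrable (fun v => ψ (Function.update (Function.update x i A) j v)) μ :=
    fun A => integrable_of_continuous μ _ (hψ.comp (continuous_const.update j continuous_id))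
  have hint' : ∀ A b : G,
      Integrable (fun v => ψ (Function.update (Function.update x i A) j (b + v))) μ :=
    fun A b => integrable_of_continuous μ _ (hψ.comp (continuous_const.update j
      (continuous_const.add continuous_id)))
  have key : ∀ a b : G, (∫ v, ψ (Function.update (Function.update x i (a + b)) j v) ∂μ) +
      ψ (Function.update (Function.update x i a) j b) =
      (∫ v, ψ (Function.update (Function.update x i a) j v) ∂μ) +
      ∫ v, ψ (Function.update (Function.update x i b) j v) ∂μ := by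
    intro a b
    have h1 : ∀ c : G, ψ (Function.update (Function.update x i (a + b)) j c) +
        ψ (Function.update (Function.update x i a) j b) =
        ψ (Function.update (Function.update x i a) j (b + c)) +
          ψ (Function.update (Function.update x i b) j c) := fun c => hc i j hij x a b c
    have h2 : ∫ c, (ψ (Function.update (Function.update x i (a + b)) j c) +
        ψ (Function.update (Function.update x i a) j b)) ∂μ =
        ∫ c, (ψ (Function.update (Function.update x i a) j (b + c)) +
          ψ (Function.update (Function.update x i b) j c)) ∂μ := by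
      congr 1
      ext c
      exact h1 c
    rw [integral_add (hint _) (integrable_const _), integral_add (hint' _ _) (hint _),
      integral_const, probReal_univ, one_smul] at h2
    rw [h2]
    congr 1
    exact integral_add_left_eq_self (μ := μ)
      (fun v => ψ (Function.update (Function.update x i a) j v)) b
  have hxx : Function.update (Function.update x i (x i)) j (x j) = x := by
    rw [Function.update_eq_self, Function.update_eq_self]
  have hinit : Function.update (Fin.init x) (Fin.last n) (x i) = Fin.init x := by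
    have : x i = Fin.init x (Fin.last n) := rfl
    rw [this, Function.update_eq_self]
  have hk := key (x i) (x j)
  rw [hxx] at hk
  have e0 : avgLast μ ψ (Fin.init x) =
      ∫ v, ψ (Function.update (Function.update x i (x i)) j v) ∂μ := by
    rw [← hH, hinit]
  rw [e0, hH, hH]
  linarith

/-- the main formula. -/
theorem main_formula : ∀ (n : ℕ) (ψ : (Fin (n + 1) → G) → ℝ), Continuous ψ → Cocycle ψ →
    ∀ x, ψ x = (-1 : ℝ) ^ (n + 1) * (dev (n + 1) (phiOf μ n ψ) x - phiOf μ n ψ 0)
  | 0, ψ, _, _, x => by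
    have hphi : ∀ g, phiOf μ 0 ψ g = ψ (Fin.cons g (default : Fin 0 → G)) := by
      intro g
      simp only [phiOf, pow_zero, one_mul]
      rw [integral_unique]
      simp
    rw [dev_succ, dev_zero]
    simp only [diff]
    rw [hphi, hphi]
    have hx : (Fin.cons (0 + x (Fin.last 0)) (default : Fin 0 → G) : Fin 1 → G) = x := by
      ext i
      have hi : i = 0 := Fin.fin_one_eq_zero i
      subst hi
      simp
    rw [hx]
    ring
  | n + 1, ψ, hψ, hc, x => by
    have ih := main_formula n (avgLast μ ψ) (avgLast_continuous μ hψ) (cocycle_avgLast μ hψ hc)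
    have hphi : phiOf μ (n + 1) ψ = -phiOf μ n (avgLast μ ψ) := phiOf_succ μ hψ
    rw [step μ hψ hc x, ih, ih, ih, hphi, dev_neg,
      dev_merge n (phiOf μ n (avgLast μ ψ)) x]
    simp only [Pi.neg_apply]
    rw [pow_succ _ (n + 1)]
    ring

omit [CompactSpace G] [T2Space G] in
lemma additive_zero (δ : G → ℝ) (hδ : Integrable δ μ) (hadd : ∀ h a, δ (h + a) = δ h + δ a) :
    δ = 0 := by
  ext a
  have h1 : ∫ h, δ (a + h) ∂μ = ∫ h, δ h ∂μ := integral_add_left_eq_self (μ := μ) δ a
  have h2 : ∫ h, δ (a + h) ∂μ = (∫ h, δ h ∂μ) + δ a := by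
    have : (fun h => δ (a + h)) = fun h => δ h + δ a := by
      ext h
      rw [add_comm a h, hadd]
    rw [this, integral_add hδ (integrable_const _), integral_const, probReal_univ, one_smul]
  rw [h1] at h2
  simp only [Pi.zero_apply]
  linarith

include μ in
theorem uniq (m : ℕ) : ∀ (δ : G → ℝ), Continuous δ →
    (∀ x : Fin (m + 1) → G, dev (m + 1) δ x = δ 0) → δ = 0 := by
  induction m with
  | zero =>
    intro δ _ h
    ext g
    have h1 := h (fun _ => g)
    rw [dev_succ, dev_zero] at h1
    simp only [diff, zero_add] at h1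
    simp only [Pi.zero_apply]
    linarith
  | succ m ihm =>
    intro δ hδ h
    have hadd : ∀ h' a, δ (h' + a) = δ h' + δ a := by
      intro h' a
      have hcont : Continuous (diff a δ + fun _ => δ a) := by
        refine Continuous.add ?_ continuous_const
        unfold diff
        exact hδ.sub (hδ.comp (continuous_id.add continuous_const))
      have hf : (diff a δ + fun _ => δ a) = 0 := ihm _ hcont (by
        intro y
        rw [dev_add, dev_const_succ, add_zero]
        have h2 := h (Fin.snoc y a)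
        rw [dev_succ, Fin.snoc_last, Fin.init_snoc] at h2
        rw [h2]
        simp [diff])
      have h3 := congrFun hf h'
      simp only [diff, Pi.add_apply, Pi.zero_apply] at h3
      linarith
    exact additive_zero μ δ (integrable_of_continuous μ δ hδ) hadd

/-- the full statement. -/
theorem full (m : ℕ) (ψ : (Fin (m + 1) → G) → ℝ) (hψc : Continuous ψ) (hψ : Cocycle ψ) :
    (∀ x : Fin (m + 1) → G,
      ψ x = ∑ I ∈ ((Finset.univ : Finset (Fin (m + 1))).powerset.erase ∅),
        (-1 : ℝ) ^ (m + 1 + I.card) * ((-1 : ℝ) ^ m *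
          ∫ u, ψ (Fin.cons (∑ i ∈ I, x i) u) ∂(Measure.pi (fun _ : Fin m => μ)))) ∧
    Continuous (fun g : G => (-1 : ℝ) ^ m *
      ∫ u, ψ (Fin.cons g u) ∂(Measure.pi (fun _ : Fin m => μ))) ∧
    (∀ φ : G → ℝ, Continuous φ → (∀ x : Fin (m + 1) → G,
      ψ x = ∑ I ∈ ((Finset.univ : Finset (Fin (m + 1))).powerset.erase ∅),
        (-1 : ℝ) ^ (m + 1 + I.card) * φ (∑ i ∈ I, x i)) →
      φ = fun g => (-1 : ℝ) ^ m *
        ∫ u, ψ (Fin.cons g u) ∂(Measure.pi (fun _ : Fin m => μ))) := by
  have h1 : ∀ x : Fin (m + 1) → G,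
      ψ x = ∑ I ∈ ((Finset.univ : Finset (Fin (m + 1))).powerset.erase ∅),
        (-1 : ℝ) ^ (m + 1 + I.card) * phiOf μ m ψ (∑ i ∈ I, x i) := by
    intro x
    rw [theta_eq (m + 1) (phiOf μ m ψ) x]
    exact main_formula μ m ψ hψc hψ x
  refine ⟨h1, phiOf_continuous μ hψc, ?_⟩
  intro φ hφ hφψ
  have hδ : φ - phiOf μ m ψ = 0 := by
    apply uniq μ m _ (hφ.sub (phiOf_continuous μ hψc))
    intro x
    have e1 := hφψ x
    have e2 := h1 x
    rw [theta_eq (m + 1) φ x] at e1
    rw [theta_eq (m + 1) (phiOf μ m ψ) x] at e2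
    have hne : ((-1 : ℝ) ^ (m + 1)) ≠ 0 := pow_ne_zero _ (by norm_num)
    have e3 : dev (m + 1) φ x - φ 0 = dev (m + 1) (phiOf μ m ψ) x - phiOf μ m ψ 0 :=
      mul_left_cancel₀ hne (e1.symm.trans e2)
    rw [dev_sub]
    simp only [Pi.sub_apply]
    linarith
  exact sub_eq_zero.mp hδ

end main

end Groth.Agent.Lib.CocycleAvg
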