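import Mathlib
import Groth.Prelude
import Groth.Agent.Lib.AssPt2_helper8
import Groth.Agent.Lib.HartConv1_helper8
import Groth.Agent.Lib.PureCurve2_helper8

set_option autoImplicit false
universe u

open CategoryTheory CategoryTheory.Limits AlgebraicGeometry TopologicalSpace Opposite

/-! Schematic density versus density under (S₁) (helper8). APPEND-ONLY once landed. -/

namespace SchDenseS1H8

variable {X : Scheme.{u}}

/-- specialization from inclusion of primes in an affine open. -/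
theorem specializes_of_le {W : X.Opens} (hW : IsAffineOpen W) {y z : X} (hy : y ∈ W) (hz : z ∈ W)
    (h : (hW.primeIdealOf ⟨y, hy⟩).asIdeal ≤ (hW.primeIdealOf ⟨z, hz⟩).asIdeal) : y ⤳ z := by
  have h1 : hW.primeIdealOf ⟨y, hy⟩ ⤳ hW.primeIdealOf ⟨z, hz⟩ :=
    (PrimeSpectrum.le_iff_specializes _ _).1 h
  have h2 := h1.map hW.fromSpec.continuous
  rw [hW.fromSpec_primeIdealOf, hW.fromSpec_primeIdealOf] at h2
  exact h2

/-- a dense open contains every point without proper generizations (locally Noetherian). -/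
theorem mem_of_dense_of_isMax [IsLocallyNoetherian X] (U : X.Opens) (hU : Dense (U : Set X))
    (y : X) (hy : ∀ z : X, z ⤳ y → z = y) : y ∈ U := by
  classical
  obtain ⟨_, ⟨W, hW : IsAffineOpen W, rfl⟩, hyW', -⟩ :=
    (X.isBasis_affineOpens).exists_subset_of_mem_open (Set.mem_univ y) isOpen_univ
  have hyW : y ∈ W := hyW'
  haveI : IsNoetherianRing Γ(X, W) := IsLocallyNoetherian.component_noetherian ⟨W, hW⟩
  set P := (hW.primeIdealOf ⟨y, hyW⟩).asIdeal with hP
  -- `P` is a minimal prime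
  have hPmin : ∀ Q : Ideal Γ(X, W), Q.IsPrime → Q ≤ P → Q = P := by
    intro Q hQ hQP
    have hzW : hW.fromSpec ⟨Q, hQ⟩ ∈ W := AssPtH8.fromSpec_mem hW ⟨Q, hQ⟩
    have hQ' : (hW.primeIdealOf ⟨hW.fromSpec ⟨Q, hQ⟩, hzW⟩) = ⟨Q, hQ⟩ :=
      AssPtH8.primeIdealOf_fromSpec hW ⟨Q, hQ⟩ hzW
    have hspec : hW.fromSpec ⟨Q, hQ⟩ ⤳ y := by
      refine specializes_of_le hW hzW hyW ?_
      rw [hQ']
      exact hQP
    have hzy := hy _ hspec
    have h3 : hW.primeIdealOf ⟨hW.fromSpec ⟨Q, hQ⟩, hzW⟩ = hW.primeIdealOf ⟨y, hyW⟩ := by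
      congr 1
      exact Subtype.ext hzy
    rw [hQ'] at h3
    exact congrArg PrimeSpectrum.asIdeal h3
  have hfin : (minimalPrimes Γ(X, W)).Finite := minimalPrimes.finite_of_isNoetherianRing _
  set S := hfin.toFinset.erase P with hS
  have hnot : ¬ (S.prod fun Q => Q) ≤ P := by
    intro hle
    obtain ⟨Q, hQS, hQP⟩ := ((hW.primeIdealOf ⟨y, hyW⟩).isPrime.prod_le).1 hle
    have hQmem : Q ∈ minimalPrimes Γ(X, W) := hfin.mem_toFinset.1 (Finset.mem_of_mem_erase hQS)
    have hQprime : Q.IsPrime := hQmem.1.1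
    exact (Finset.ne_of_mem_erase hQS) (hPmin Q hQprime hQP)
  obtain ⟨g, hgI, hgP⟩ := SetLike.not_le_iff_exists.1 hnot
  have hyg : y ∈ X.basicOpen g := HartConvH8.mem_basicOpen_of_notMem_prime hW hyW hgP
  obtain ⟨z, hzg, hzU⟩ := hU.inter_open_nonempty _ (X.basicOpen g).isOpen ⟨y, hyg⟩
  have hzW : z ∈ W := X.basicOpen_le g hzg
  have hgz : g ∉ (hW.primeIdealOf ⟨z, hzW⟩).asIdeal :=
    StalkLocH8.notMem_prime_of_mem_basicOpen hW hzW hzg
  obtain ⟨Q₀, hQ₀min, hQ₀le⟩ := Ideal.exists_minimalPrimes_le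
    (bot_le : (⊥ : Ideal Γ(X, W)) ≤ (hW.primeIdealOf ⟨z, hzW⟩).asIdeal)
  have hQ₀P : Q₀ = P := by
    by_contra hne
    have hQ₀S : Q₀ ∈ S := Finset.mem_erase.2 ⟨hne, hfin.mem_toFinset.2 hQ₀min⟩
    have h1 : (S.prod fun Q => Q) ≤ Q₀ :=
      (Ideal.prod_le_inf).trans (Finset.inf_le hQ₀S)
    exact hgz (hQ₀le (h1 hgI))
  have hPle : P ≤ (hW.primeIdealOf ⟨z, hzW⟩).asIdeal := by
    rw [← hQ₀P]
    exact hQ₀le
  have hspec : y ⤳ z := specializes_of_le hW hyW hzW hPle
  exact hspec.mem_open U.isOpen hzU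

/-- if the maximal ideal of a Noetherian local ring is associated, the depth is zero. -/
theorem not_one_le_depth_of_isAssociatedPrime {R : Type u} [CommRing R] [IsLocalRing R]
    [IsNoetherianRing R] (h : IsAssociatedPrime (IsLocalRing.maximalIdeal R) R) :
    ¬ (1 : ℕ∞) ≤ LocCoh.depth R R := by
  intro hd
  unfold LocCoh.depth at hd
  obtain ⟨_, c, hc⟩ := isAssociatedPrime_iff.1 h
  have hc0 : c ≠ 0 := by
    intro hc0
    have h1m : (1 : R) ∈ IsLocalRing.maximalIdeal R := by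
      rw [hc, Submodule.mem_colon_singleton, hc0, smul_zero]
      exact Submodule.zero_mem _
    exact (Ideal.ne_top_iff_one _).1 (IsLocalRing.maximalIdeal.isMaximal _).ne_top h1m
  rcases (Groth.Agent.DepthLib.one_le_idealDepth_iff _ _).1 hd with htop | ⟨r, hr, hreg⟩
  · have h1 : (1 : R) ∈ IsLocalRing.maximalIdeal R • (⊤ : Submodule R R) := by
      rw [htop]
      trivial
    have h2 : IsLocalRing.maximalIdeal R • (⊤ : Submodule R R) ≤ IsLocalRing.maximalIdeal R := by
      rw [Submodule.smul_le]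
      intro a ha n _
      exact Ideal.mul_mem_right _ _ ha
    exact (Ideal.ne_top_iff_one _).1 (IsLocalRing.maximalIdeal.isMaximal _).ne_top (h2 h1)
  · have hrc : r • c = 0 := by
      have h2 := hr
      rw [hc, Submodule.mem_colon_singleton, Submodule.mem_bot] at h2
      exact h2
    exact hc0 (hreg (show r • c = r • 0 by rw [smul_zero]; exact hrc))

theorem isSchematicallyDense_of_dense [IsLocallyNoetherian X]
    (hS1 : ∀ x : X, min (1 : WithBot ℕ∞) (ringKrullDim (X.presheaf.stalk x)) ≤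
      ((LocCoh.depth (X.presheaf.stalk x) (X.presheaf.stalk x) : ℕ∞) : WithBot ℕ∞))
    (U : X.Opens) (hU : Dense (U : Set X)) : CInt.IsSchematicallyDense U := by
  intro V
  rw [injective_iff_map_eq_zero]
  intro s hs
  refine TopCat.Presheaf.section_ext X.sheaf V s 0 (fun x hx => ?_)
  rw [map_zero]
  obtain ⟨_, ⟨W, hW : IsAffineOpen W, rfl⟩, hxW', hWV⟩ :=
    X.isBasis_affineOpens.exists_subset_of_mem_open hx V.2
  have hxW : x ∈ W := hxW'
  haveI : IsNoetherianRing Γ(X, W) := IsLocallyNoetherian.component_noetherian ⟨W, hW⟩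
  set t : Γ(X, W) := X.presheaf.map (homOfLE hWV).op s with htdef
  have ht0 : X.presheaf.map (homOfLE (inf_le_left : W ⊓ U ≤ W)).op t = 0 := by
    have hWU : W ⊓ U ≤ V ⊓ U := inf_le_inf_right U hWV
    have h1 : X.presheaf.map (homOfLE (inf_le_left : W ⊓ U ≤ W)).op t =
        X.presheaf.map (homOfLE hWU).op
          (X.presheaf.map (homOfLE (inf_le_left : V ⊓ U ≤ V)).op s) := by
      rw [htdef, ← ConcreteCategory.comp_apply, ← ConcreteCategory.comp_apply,
        ← X.presheaf.map_comp, ← X.presheaf.map_comp]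
      rfl
    rw [h1, hs, map_zero]
  suffices ht : t = 0 by
    show X.presheaf.germ V x hx s = 0
    rw [← TopCat.Presheaf.germ_res_apply X.presheaf (homOfLE hWV) x hxW s]
    show X.presheaf.germ W x hxW t = 0
    rw [ht, map_zero]
  by_contra htne
  obtain ⟨P, hP, hle⟩ := exists_le_isAssociatedPrime_of_isNoetherianRing Γ(X, W) t htne
  have hPprime := hP.isPrime
  set y := hW.fromSpec ⟨P, hPprime⟩ with hy
  have hyW : y ∈ W := AssPtH8.fromSpec_mem hW _
  have hPy : hW.primeIdealOf ⟨y, hyW⟩ = ⟨P, hPprime⟩ := AssPtH8.primeIdealOf_fromSpec hW _ hyW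
  have hass : IsAssociatedPrime (IsLocalRing.maximalIdeal (X.presheaf.stalk y))
      (X.presheaf.stalk y) := by
    rw [AssPtH8.isAssociatedPrime_stalk_iff hW hyW, hPy]
    exact hP
  have hdep := not_one_le_depth_of_isAssociatedPrime hass
  have hdim : ringKrullDim (X.presheaf.stalk y) ≤ 0 := by
    apply PureCurveH8.le_zero_of_not_one_le
    intro h1
    apply hdep
    have h2 := hS1 y
    have h3 : (1 : WithBot ℕ∞) ≤ ringKrullDim (X.presheaf.stalk y) := by
      rw [← Nat.cast_one]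
      exact h1
    rw [min_eq_left h3] at h2
    exact ZClosS2H8.one_le_coe.1 h2
  have hmax : ∀ z : X, z ⤳ y → z = y := by
    intro z hz
    rw [ringKrullDim_stalk_eq_coheight] at hdim
    have h0 : Order.coheight y = 0 := le_antisymm (ZClosS2H8.coe_le_zero.1 hdim) bot_le
    rw [Order.coheight_eq_zero] at h0
    have hyz : y ⤳ z := h0 (show y ≤ z from hz)
    exact (hz.antisymm hyz).eq
  have hyU : y ∈ U := mem_of_dense_of_isMax U hU y hmax
  have hgerm : X.presheaf.germ W y hyW t = 0 := by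
    rw [← TopCat.Presheaf.germ_res_apply X.presheaf (homOfLE (inf_le_left : W ⊓ U ≤ W)) y
      ⟨hyW, hyU⟩ t, ht0, map_zero]
  letI := TopCat.Presheaf.algebra_section_stalk X.presheaf (⟨y, hyW⟩ : W)
  haveI : IsLocalization.AtPrime (X.presheaf.stalk y) (hW.primeIdealOf ⟨y, hyW⟩).asIdeal :=
    hW.isLocalization_stalk ⟨y, hyW⟩
  obtain ⟨⟨r, hrn⟩, hr⟩ := (IsLocalization.map_eq_zero_iff
    (hW.primeIdealOf ⟨y, hyW⟩).asIdeal.primeCompl (X.presheaf.stalk y) t).1 hgerm
  have hr' : r * t = 0 := hr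
  have hrP : r ∈ P := hle (Submodule.mem_colon_singleton.2 (by
    rw [smul_eq_mul, hr']
    exact Submodule.zero_mem _))
  have hPeq : (hW.primeIdealOf ⟨y, hyW⟩).asIdeal = P := congrArg PrimeSpectrum.asIdeal hPy
  have hrn' : r ∉ (hW.primeIdealOf ⟨y, hyW⟩).asIdeal := hrn
  rw [hPeq] at hrn'
  exact hrn' hrP

theorem dense_of_isSchematicallyDense (U : X.Opens) (h : CInt.IsSchematicallyDense U) :
    Dense (U : Set X) := by
  rw [dense_iff_inter_open]
  intro O hO hne
  by_contra hemp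
  rw [Set.not_nonempty_iff_eq_empty] at hemp
  set V : X.Opens := ⟨O, hO⟩ with hV
  have hbot : V ⊓ U = ⊥ := by
    ext z
    simp only [Opens.coe_inf, Opens.coe_bot, Set.mem_empty_iff_false, iff_false]
    intro hz
    have : z ∈ O ∩ (U : Set X) := hz
    rw [hemp] at this
    exact this
  have hinj := h V
  haveI : Nonempty V := by
    obtain ⟨z, hz⟩ := hne
    exact ⟨⟨z, hz⟩⟩
  haveI : Nontrivial Γ(X, V) := Scheme.component_nontrivial X V
  haveI : Subsingleton Γ(X, V ⊓ U) := by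
    rw [hbot]
    infer_instance
  exact zero_ne_one (hinj (Subsingleton.elim _ _))

end SchDenseS1H8
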