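import Groth.Agent.Lib.AlgSpQfLocus2_helper7
import Groth.Agent.Lib.FibGen2_helper8
import Groth.Agent.Lib.SchDenseS1_helper8
import Groth.Agent.Lib.LqfLocus_helper8
import Groth.Agent.Lib.AlgSpGor_helper7
import Groth.Agent.Lib.AffDim10_helper8

/-!
# S10455 / S10456: quasi-finiteness at points over points of codimension ≤ 1 (helper7)
-/

set_option autoImplicit false
set_option linter.style.haveILetI false
universe u
open CategoryTheory CategoryTheory.Limits AlgebraicGeometry Opposite MorphismProperty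
open AlgSp Groth.Agent.Lib.AlgSpPoints_helper7 Groth.Agent.Lib.AlgSpPullback_helper7
  Groth.Agent.Lib.AlgSpLocP4_helper7 Groth.Agent.Lib.AlgSpLocP7_helper7
  Groth.Agent.Lib.UnramLocH7 Groth.Agent.Lib.AlgSpQfLocusH7 Groth.Agent.Lib.AlgSpQfLocus2H7

namespace Groth.Agent.Lib.CodimOneQFH7

variable {S : Scheme.{u}}

theorem core {X Y : AlgSp.Space S} (f : X ⟶ Y)
    (hf : AlgSp.LocP @LocallyOfFiniteType f.hom) (hY : AlgSp.IsLocNoethSp Y.obj)
    (y : AlgSp.Points Y.obj)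
    (hy : AlgSp.HasAt (fun U u => ringKrullDim ↥(U.presheaf.stalk u) ≤ 1) Y.obj y)
    (x : AlgSp.Points X.obj) (hx : AlgSp.Points.map f.hom x = y)
    (H : ∀ (U V : Over S) (a : (yon S).obj U ⟶ X.obj) (b : (yon S).obj V ⟶ Y.obj) (g : U ⟶ V),
      RepWith @Etale a → RepWith @Etale b → a ≫ f.hom = (yon S).map g ≫ b →
      IsLocallyNoetherian U.left → LocallyOfFiniteType g.left →
      ∀ ξ : U.left, (∀ ξ' : U.left, ξ' ⤳ ξ → ξ' = ξ) →
        Points.map f.hom (Points.ofPt a ξ) ⤳ y → FlatMor.fibreDimAt g.left ξ = 0) :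
    HasAtMor QQ f.hom x := by
  obtain ⟨V, b, v, hbe, hv, hdim⟩ := hy
  obtain ⟨U₀, a₀, u₀, ha₀e, hu₀⟩ := ResTrdegH8.exists_chart X x
  obtain ⟨U, p, g, w, hpe, hae, cm, hw1, hw2, hwx⟩ :=
    ResTrdegH8.exists_chart_over f.hom a₀ ha₀e u₀ b hbe v (by rw [hv, hu₀, hx])
  haveI : LocallyOfFiniteType g.left := hf _ b g hae hbe cm
  haveI : IsLocallyNoetherian V.left :=
    Groth.Agent.Lib.AlgSpGorH7.locNoeth_of_etale_chart hY b hbe
  haveI : IsLocallyNoetherian U.left := LocallyOfFiniteType.isLocallyNoetherian g.left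
  have hco : Order.coheight (g.left w) ≤ 1 := by
    rw [hw2]
    rw [ringKrullDim_stalk_eq_coheight v] at hdim
    exact_mod_cast hdim
  have key : FlatMor.fibreDimAt g.left w ≤ ((0 : ℕ) : WithBot ℕ∞) := by
    apply FibGenH8.fibreDimAt_le_of_codim_le_one g.left w 0 hco
    intro ξ hξ hsp
    have h3 : Points.map f.hom (Points.ofPt ((yon S).map p ≫ a₀) ξ) ⤳ y := by
      rw [Points.map_ofPt, cm, ofPt_comp]
      have h1 : g.left ξ ⤳ g.left w := hsp.map g.left.continuous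
      rw [hw2] at h1
      have h2 := h1.map (Points.continuous_ofPt b)
      rw [hv] at h2
      exact h2
    have := H U V _ b g hae hbe cm inferInstance inferInstance ξ hξ h3
    rw [this]
    simp
  have h0 : FlatMor.fibreDimAt g.left w = 0 := by
    have := le_antisymm key (Groth.Agent.Lib.AffDimH8.fibreDimAt_nonneg g.left w)
    rw [this]
    simp
  rw [← hu₀, ← hwx]
  exact ⟨U, V, _, b, g, w, hae, hbe, cm, rfl, (LqfLocusH8.exists_opens_lqf_iff g.left w).mpr h0⟩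

theorem main10455 {S : Scheme.{u}} {X Y : AlgSp.Space S} (f : X ⟶ Y)
    (hf : AlgSp.LocP @LocallyOfFiniteType f.hom) (hY : AlgSp.IsLocNoethSp Y.obj) (y : AlgSp.Points Y.obj)
    (hy : AlgSp.HasAt (fun U u => ringKrullDim ↥(U.presheaf.stalk u) ≤ 1) Y.obj y)
    (h : ∀ x : AlgSp.Points X.obj, AlgSp.HasAt (fun U u => ringKrullDim ↥(U.presheaf.stalk u) = 0) X.obj x → AlgSp.Points.map f.hom x ⤳ y →
      AlgSp.HasAtMor (fun _ _ h u => Dual3.resTrdeg h u = 0) f.hom x)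
    (x : AlgSp.Points X.obj) (hx : AlgSp.Points.map f.hom x = y) :
    AlgSp.HasAtMor (fun U _ h u => ∃ W : U.Opens, u ∈ W ∧ LocallyQuasiFinite (W.ι ≫ h) ∧ LocallyOfFiniteType (W.ι ≫ h)) f.hom x := by
  refine core f hf hY y hy x hx ?_
  intro U V a b g hae hbe cm _ _ ξ hξ hsp
  have hstalk : ringKrullDim ↥(U.left.presheaf.stalk ξ) = 0 := by
    rw [ringKrullDim_stalk_eq_coheight ξ]
    have : Order.coheight ξ = 0 := by
      rw [Order.coheight_eq_zero]
      intro b' hb'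
      have hs : b' ⤳ ξ := hb'
      exact (hξ b' hs).le
    rw [this]
    rfl
  have hx' := h (Points.ofPt a ξ) ⟨U, a, ξ, hae, rfl, hstalk⟩ hsp
  have h0 : Dual3.resTrdeg g.left ξ = 0 :=
    ResTrdegH8.hasAtMor_resTrdeg_unique f.hom (Points.ofPt a ξ)
      ⟨U, V, a, b, g, ξ, hae, hbe, cm, rfl, rfl⟩ hx'
  rw [FibGenH8.fibreDimAt_of_isMax g.left ξ hξ, h0]
  simp

theorem main10456 {S : Scheme.{u}} {X Y : AlgSp.Space S} (f : X ⟶ Y)
    (hf : AlgSp.LocP @LocallyOfFiniteType f.hom) (hY : AlgSp.IsLocNoethSp Y.obj) (y : AlgSp.Points Y.obj)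
    (hy : AlgSp.HasAt (fun U u => ringKrullDim ↥(U.presheaf.stalk u) ≤ 1) Y.obj y)
    (h : Dense {x : AlgSp.Points X.obj | AlgSp.HasAtMor (fun U _ h u => ∃ W : U.Opens, u ∈ W ∧ LocallyQuasiFinite (W.ι ≫ h) ∧ LocallyOfFiniteType (W.ι ≫ h)) f.hom x})
    (x : AlgSp.Points X.obj) (hx : AlgSp.Points.map f.hom x = y) :
    AlgSp.HasAtMor (fun U _ h u => ∃ W : U.Opens, u ∈ W ∧ LocallyQuasiFinite (W.ι ≫ h) ∧ LocallyOfFiniteType (W.ι ≫ h)) f.hom x := by
  refine core f hf hY y hy x hx ?_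
  intro U V a b g hae hbe cm _ _ ξ hξ _
  have hD : Dense ((g.left.quasiFiniteLocus : U.left.Opens) : Set U.left) := by
    have h1 : Dense ((Points.ofPt a) ⁻¹' {x | HasAtMor QQ f.hom x}) :=
      h.preimage (isOpenMap_ofPt_of_etale a hae)
    refine h1.mono ?_
    intro ξ' hξ'
    exact (near_pq_iff g.left ξ').mp ((hasAtMor_iff f a b g ξ' hae hbe cm).mp hξ')
  have hmem := SchDenseS1H8.mem_of_dense_of_isMax g.left.quasiFiniteLocus hD ξ hξ
  exact (LqfLocusH8.fibreDimAt_eq_zero_iff_quasiFiniteAt g.left ξ).mpr hmem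

end Groth.Agent.Lib.CodimOneQFH7
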