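import Mathlib
import Groth.Prelude.Def_Flat
import Groth.Agent.S9687
import Groth.Agent.Lib.LqfLocus_helper8
import Groth.Agent.Lib.QFCodim1_helper8
import Groth.Agent.Lib.ResQuot2_helper8
import Groth.Agent.Lib.SchFT_helper8

/-! Quasi-finiteness over points of codimension at most one. -/

universe u
open AlgebraicGeometry CategoryTheory CategoryTheory.Limits

namespace CodimOneH8

theorem fibreDimAt_eq_zero_of_codim_le_one {U V : Scheme.{u}} [IsLocallyNoetherian V] (h : U ⟶ V)
    [LocallyOfFiniteType h] (u : U) (hv : Order.coheight (h u) ≤ 1)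
    (H : ∀ u' : U, Order.coheight u' = 0 → FlatMor.fibreDimAt h u' = 0) :
    FlatMor.fibreDimAt h u = 0 := by
  obtain ⟨n, hn⟩ := Groth.Agent.ResQuot2H8.exists_trdeg_nat h u
  have key := Groth.Agent.S9687.result h u n 0 hn ?_
  swap
  · intro ξ hξ _
    rw [Groth.Agent.SchFTH8.closure_mem_irreducibleComponents_iff] at hξ
    have hmax : Order.coheight ξ = 0 := by
      rw [Order.coheight_eq_zero]
      intro z hz
      have hz' : z ⤳ ξ := hz
      have : z = ξ := hξ z hz'
      rw [this]
    have h2 := ((FibCohH8.fibreDimAt_eq_zero_iff h ξ).mp (H ξ hmax)).2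
    show Dual3.resTrdeg h ξ ≤ _
    rw [h2]; simp
  rw [AlgebraicGeometry.ringKrullDim_stalk_eq_coheight,
    AlgebraicGeometry.ringKrullDim_stalk_eq_coheight] at key
  have key2 : Order.coheight u + (n : ℕ∞) ≤ 1 := by
    have k1 : ((Order.coheight u + (n : ℕ∞) : ℕ∞) : WithBot ℕ∞) ≤
        ((Order.coheight (h u) : ℕ∞) : WithBot ℕ∞) := by
      have := key
      simp only [Nat.cast_zero, add_zero] at this
      exact_mod_cast this
    exact (WithBot.coe_le_coe.mp k1).trans hv
  by_cases hc : Order.coheight u = 0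
  · exact H u hc
  have hc1 : 1 ≤ Order.coheight u := Order.one_le_iff_ne_zero.mpr hc
  have hcu : Order.coheight u = 1 := le_antisymm (le_trans le_self_add key2) hc1
  have hn0 : n = 0 := by
    rw [hcu] at key2
    have : (1 : ℕ∞) + (n : ℕ∞) ≤ 1 + 0 := by simpa using key2
    have h3 : (n : ℕ∞) ≤ 0 := (ENat.add_le_add_iff_left (by simp)).mp this
    have h4 : (n : ℕ∞) = 0 := le_antisymm h3 bot_le
    exact_mod_cast h4
  rw [FibCohH8.fibreDimAt_eq_zero_iff]
  refine ⟨?_, by show @Algebra.trdeg _ _ _ _ (h.residueFieldMap u).hom.toAlgebra = 0; rw [hn, hn0]; rfl⟩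
  unfold FibCohH8.fibCoh
  rw [Order.coheight_eq_zero]
  rintro ⟨b, hb⟩ hle
  have hsp : b ⤳ u := hle
  by_contra hnot
  have hlt : u < b := lt_of_le_not_ge hsp (fun h' => hnot h')
  have h1 : Order.coheight b + 1 ≤ Order.coheight u := Order.coheight_add_one_le hlt
  have hb0 : Order.coheight b = 0 := by
    rw [hcu] at h1
    have : Order.coheight b + 1 ≤ 0 + 1 := by simpa using h1
    have h3 : Order.coheight b ≤ 0 := (ENat.add_le_add_iff_right (by simp)).mp this
    exact le_antisymm h3 bot_le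
  have hqf : h.QuasiFiniteAt b :=
    (LqfLocusH8.fibreDimAt_eq_zero_iff_quasiFiniteAt h b).mp (H b hb0)
  have hub := QFCodim1H8.closed_in_fibre_of_quasiFiniteAt h b hqf u (by rw [hb]) hsp
  apply hnot
  subst hub
  exact le_refl _

end CodimOneH8
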