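import Mathlib
import Groth.Prelude.Def_Algz
import Groth.Agent.Lib.DimFun_helper8

/-! Codimension of points via a dimension function. -/

universe u

namespace Groth.Agent.CodimPtH8

variable {Y : Type u} [TopologicalSpace Y] [T0Space Y] (δ : Y → ℤ)
  (hδ : ∀ x y : Y, x ⤳ y → x ≠ y → δ y < δ x ∧
    ((∀ z : Y, x ⤳ z → z ⤳ y → z = x ∨ z = y) → δ x = δ y + 1))

include hδ

theorem strictMono_spec : StrictMono (fun a : Specialization Y => δ (Specialization.ofEquiv a)) := by
  intro a b hab
  have h1 : Specialization.ofEquiv b ⤳ Specialization.ofEquiv a :=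
    Specialization.ofEquiv_specializes_ofEquiv.mpr hab.le
  have h2 : Specialization.ofEquiv b ≠ Specialization.ofEquiv a := fun e =>
    hab.ne (Specialization.ofEquiv_inj.mp e).symm
  exact (hδ _ _ h1 h2).1

theorem le_of_specializes (w v : Y) (h : w ⤳ v) : δ v ≤ δ w := by
  by_cases e : w = v
  · rw [e]
  · exact (hδ w v h e).1.le

theorem codimPt_le (w v : Y) (h : w ⤳ v) :
    Algz.codimPt w v h ≤ ((δ w - δ v).toNat : ℕ∞) := by
  unfold Algz.codimPt
  rw [Order.height_le_iff']
  intro l hl
  let g : Set.Ici (Specialization.toEquiv v) → ℤ := fun a => δ (Specialization.ofEquiv a.1)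
  have hg : StrictMono g := fun a b hab => strictMono_spec δ hδ hab
  have h1 := Groth.Agent.DimFunH8.add_length_le g hg l
  rw [hl] at h1
  have h2 : δ v ≤ g l.head := by
    have : Specialization.toEquiv v ≤ l.head.1 := l.head.2
    exact le_of_specializes δ hδ _ _ (Specialization.ofEquiv_specializes_ofEquiv.mpr this)
  have h3 : g ⟨Specialization.toEquiv w, Specialization.toEquiv_le_toEquiv.mpr h⟩ = δ w := rfl
  have h5 : l.length ≤ (δ w - δ v).toNat := by omega
  exact_mod_cast h5

theorem le_codimPt (w v : Y) (h : w ⤳ v) :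
    ((δ w - δ v).toNat : ℕ∞) ≤ Algz.codimPt w v h := by
  unfold Algz.codimPt
  let g : Set.Ici (Specialization.toEquiv v) → ℤ := fun a => δ (Specialization.ofEquiv a.1)
  have hg : StrictMono g := fun a b hab => strictMono_spec δ hδ hab
  have hcov : ∀ a b : Set.Ici (Specialization.toEquiv v), a ⋖ b → g b = g a + 1 := by
    intro a b hab
    have h1 : Specialization.ofEquiv b.1 ⤳ Specialization.ofEquiv a.1 :=
      Specialization.ofEquiv_specializes_ofEquiv.mpr hab.le
    have h2 : Specialization.ofEquiv b.1 ≠ Specialization.ofEquiv a.1 := fun e =>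
      hab.lt.ne (Subtype.ext (Specialization.ofEquiv_inj.mp e).symm)
    refine (hδ _ _ h1 h2).2 ?_
    intro z hz1 hz2
    have hz1' : Specialization.toEquiv z ≤ b.1 := hz1
    have hz2' : a.1 ≤ Specialization.toEquiv z := hz2
    let c : Set.Ici (Specialization.toEquiv v) := ⟨Specialization.toEquiv z, le_trans a.2 hz2'⟩
    have hac : a ≤ c := hz2'
    have hcb : c ≤ b := hz1'
    rcases hcb.eq_or_lt with e | hlt
    · left
      have : c.1 = b.1 := congrArg Subtype.val e
      exact congrArg Specialization.ofEquiv this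
    · right
      rcases hac.eq_or_lt with e | hlt'
      · have : a.1 = c.1 := congrArg Subtype.val e
        exact (congrArg Specialization.ofEquiv this).symm
      · exact absurd hlt (hab.2 hlt')
  obtain ⟨l, hlh, hll, hln⟩ := Groth.Agent.DimFunH8.exists_chain g hg hcov _
    (⟨Specialization.toEquiv v, Set.mem_Ici.mpr le_rfl⟩ : Set.Ici (Specialization.toEquiv v))
    ⟨Specialization.toEquiv w, Specialization.toEquiv_le_toEquiv.mpr h⟩
    (Specialization.toEquiv_le_toEquiv.mpr h) rfl
  have h1 := Order.length_le_height_last (p := l)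
  rw [hll] at h1
  refine le_trans ?_ h1
  have h2 : (l.length : ℤ) = δ w - δ v := hln
  have h3 : (δ w - δ v).toNat = l.length := by omega
  rw [h3]

end Groth.Agent.CodimPtH8
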