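import Groth.Agent.Lib.CoeffFieldP_helper3

/-!
# Coefficient fields for local rings with nilpotent maximal ideal in char p, relative version (S7150)
-/

set_option autoImplicit false
set_option maxSynthPendingDepth 3

namespace Groth.Agent.Lib.CoeffFieldRel

universe u

open IsLocalRing

theorem isAdicComplete_of_pow_eq_bot {A : Type*} [CommRing A] (J : Ideal A) (n : ℕ)
    (h : J ^ n = ⊥) : IsAdicComplete J A := by
  refine { haus' := fun x hx => ?_, prec' := fun f hf => ⟨f n, fun k => ?_⟩ }
  · have h1 := hx n
    rw [h, Submodule.bot_smul, SModEq.bot] at h1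
    exact h1
  · rcases le_total k n with hkn | hnk
    · exact hf hkn
    · have h1 := hf hnk
      rw [h, Submodule.bot_smul, SModEq.bot] at h1
      rw [h1]

theorem part1 (p : ℕ) (hp : p.Prime) (A : Type u) [CommRing A]
    [IsLocalRing A] [CharP A p] (hnil : ∃ n : ℕ, maximalIdeal A ^ n = ⊥) :
    ∃ σ : ResidueField A →+* A, (residue A).comp σ = RingHom.id _ := by
  obtain ⟨n, hn⟩ := hnil
  haveI : IsAdicComplete (maximalIdeal A) A := isAdicComplete_of_pow_eq_bot _ n hn
  haveI : Fact p.Prime := ⟨hp⟩
  exact Groth.Agent.Lib.CoeffFieldPH3.exists_section_of_charP p A (CharP.cast_eq_zero A p)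

theorem part2 (A : Type u) [CommRing A] [IsLocalRing A]
    (A' : Type u) [CommRing A'] [IsLocalRing A'] [Algebra A A'] [IsLocalHom (algebraMap A A')]
    (hnil' : ∃ n : ℕ, maximalIdeal A' ^ n = ⊥)
    [Algebra.IsGeometricallyReduced (ResidueField A) (ResidueField A')]
    (σ : ResidueField A →+* A) (hσ : (residue A).comp σ = RingHom.id _) :
    ∃ σ' : ResidueField A' →+* A', (residue A').comp σ' = RingHom.id _ ∧
      σ'.comp (ResidueField.map (algebraMap A A')) = (algebraMap A A').comp σ := by
  obtain ⟨n, hn⟩ := hnil'
  haveI : IsAdicComplete (maximalIdeal A') A' := isAdicComplete_of_pow_eq_bot _ n hn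
  haveI : Algebra.FormallySmooth (ResidueField A) (ResidueField A') :=
    Groth.Agent.Lib.SepSmoothH3.formallySmooth_of_isGeometricallyReduced _ _
  letI : Algebra (ResidueField A) A' := ((algebraMap A A').comp σ).toAlgebra
  have hcompat : ∀ x : ResidueField A,
      residue A' (algebraMap (ResidueField A) A' x) =
        algebraMap (ResidueField A) (ResidueField A') x := by
    intro x
    change residue A' (algebraMap A A' (σ x)) = ResidueField.map (algebraMap A A') x
    have h1 : ResidueField.map (algebraMap A A') (residue A (σ x)) =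
        residue A' (algebraMap A A' (σ x)) := ResidueField.map_residue _ _
    rw [← h1]
    congr 1
    exact RingHom.congr_fun hσ x
  let g : ResidueField A' →ₐ[ResidueField A] A' ⧸ maximalIdeal A' :=
    { (RingHom.id (A' ⧸ maximalIdeal A') : ResidueField A' →+* A' ⧸ maximalIdeal A') with
      commutes' := fun x => (hcompat x).symm }
  obtain ⟨v, hv⟩ := Algebra.FormallySmooth.exists_mkₐ_comp_eq_of_isAdicComplete g
  refine ⟨v.toRingHom, RingHom.ext fun x => ?_, RingHom.ext fun x => ?_⟩
  · exact AlgHom.congr_fun hv x
  · exact v.commutes x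

end Groth.Agent.Lib.CoeffFieldRel
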