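import Mathlib

/-!
# Coefficient fields for square-zero extensions in characteristic `p`, and differentials of a
regular system of parameters (helper3)
-/

namespace Groth.Agent.Lib.CoeffFieldSqH3

open Polynomial

section Section

/-- **Cohen (square-zero case, char p)**: if `π : B → k` is a surjection onto a field, `p = 0` in
`B` and `ker π` has square zero, then `π` has a ring-theoretic section. -/
theorem exists_section_of_sq_zero {B k : Type*} [CommRing B] [Field k] (p : ℕ) [hpf : Fact p.Prime]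
    (hp0 : (p : B) = 0)
    (π : B →+* k) (hπ : Function.Surjective π)
    (hsq : ∀ a b : B, π a = 0 → π b = 0 → a * b = 0) :
    ∃ σ : k →+* B, ∀ x, π (σ x) = x := by
  classical
  have hp := hpf.out
  haveI : Nontrivial B := ⟨⟨0, 1, fun h => by
    have := congrArg π h
    rw [map_zero, map_one] at this
    exact zero_ne_one this⟩⟩
  haveI : CharP B p := by
    obtain ⟨q, hq⟩ := CharP.exists B
    have hqp : q ∣ p := (CharP.cast_eq_zero_iff B q p).1 hp0
    rcases (Nat.dvd_prime hp).1 hqp with h1 | h1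
    · exact absurd h1 (CharP.char_ne_one B q)
    · rw [← h1]
      exact hq
  haveI : CharP k p := by
    obtain ⟨q, hq⟩ := CharP.exists k
    have hp0k : (p : k) = 0 := by
      rw [← map_natCast π, hp0, map_zero]
    have hqp : q ∣ p := (CharP.cast_eq_zero_iff k q p).1 hp0k
    rcases (Nat.dvd_prime hp).1 hqp with h1 | h1
    · exact absurd h1 (CharP.char_ne_one k q)
    · rw [← h1]
      exact hq
  have hp2 : 2 ≤ p := hp.two_le
  -- `p`-th powers of elements of the kernel vanish
  have hker_pow : ∀ y : B, π y = 0 → y ^ p = 0 := by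
    intro y hy
    have h1 : y ^ p = y * y ^ (p - 1) := by
      rw [← pow_succ', Nat.sub_add_cancel (by omega)]
    rw [h1]
    refine hsq _ _ hy ?_
    rw [map_pow, hy, zero_pow (by omega)]
  let F₀ : Subring B := (frobenius B p).range
  let S : Set (Subring B) := {F | F₀ ≤ F ∧ ∀ x ∈ F, π x = 0 → x = 0}
  have hF₀ : F₀ ∈ S := by
    refine ⟨le_rfl, ?_⟩
    rintro x ⟨y, rfl⟩ hx
    rw [frobenius_def] at hx ⊢
    rw [map_pow] at hx
    exact hker_pow y (pow_eq_zero_iff (by omega) |>.1 hx)
  obtain ⟨F, hF₀F, hFmax⟩ := zorn_le_nonempty₀ S (by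
    intro c hcS hc y hy
    refine ⟨sSup c, ⟨?_, ?_⟩, fun z hz => le_sSup hz⟩
    · exact (hcS hy).1.trans (le_sSup hy)
    · intro x hx hπx
      rw [Subring.mem_sSup_of_directedOn ⟨y, hy⟩ hc.directedOn] at hx
      obtain ⟨F', hF'c, hxF'⟩ := hx
      exact (hcS hF'c).2 x hxF' hπx) F₀ hF₀
  have hFS : F ∈ S := hFmax.prop
  have hpowF : ∀ b : B, b ^ p ∈ F := fun b => hF₀F ⟨b, rfl⟩
  -- `F` is a field
  have hFfield : IsField F := by
    refine ⟨⟨0, 1, fun h => zero_ne_one (congrArg Subtype.val h)⟩, mul_comm, ?_⟩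
    intro f hf
    have hπf : π f ≠ 0 := fun h => hf (Subtype.ext (hFS.2 _ f.2 h))
    obtain ⟨g, hg⟩ := hπ (π f)⁻¹
    have hn : π ((f : B) * g - 1) = 0 := by
      rw [map_sub, map_mul, hg, mul_inv_cancel₀ hπf, map_one, sub_self]
    have h1 : ((f : B) * g) ^ p = 1 := by
      have h2 : (f : B) * g = 1 + ((f : B) * g - 1) := by ring
      rw [h2, add_pow_char, one_pow, hker_pow _ hn, add_zero]
    refine ⟨⟨(f : B) ^ (p - 1) * g ^ p, F.mul_mem (F.pow_mem f.2 _) (hpowF g)⟩, ?_⟩
    apply Subtype.ext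
    show (f : B) * ((f : B) ^ (p - 1) * g ^ p) = 1
    rw [← mul_assoc, ← pow_succ', Nat.sub_add_cancel (by omega), ← mul_pow, h1]
  -- surjectivity of `π` on `F`
  have hsurj : ∀ t : k, ∃ f ∈ F, π f = t := by
    by_contra hcon
    push_neg at hcon
    obtain ⟨t, ht⟩ := hcon
    obtain ⟨b, hb⟩ := hπ t
    letI : Field F := hFfield.toField
    letI : Algebra F k := (π.comp F.subtype).toAlgebra
    have halg : ∀ f : F, algebraMap F k f = π f := fun f => rfl
    let cF : F := ⟨b ^ p, hpowF b⟩
    have hirr : Irreducible (X ^ p - C cF : F[X]) := by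
      refine X_pow_sub_C_irreducible_of_prime hp fun f hf => ?_
      have h1 : (π f) ^ p = t ^ p := by
        rw [← hb, ← map_pow, ← map_pow]
        exact congrArg π (congrArg Subtype.val hf)
      have h2 : π f = t := frobenius_inj k p h1
      exact ht f f.2 h2
    have hroot : aeval t (X ^ p - C cF : F[X]) = 0 := by
      rw [map_sub, map_pow, aeval_X, aeval_C, halg]
      show t ^ p - π (b ^ p) = 0
      rw [map_pow, hb, sub_self]
    have hmin : X ^ p - C cF = minpoly F t :=
      minpoly.eq_of_irreducible_of_monic hirr hroot (monic_X_pow_sub_C _ (by omega))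
    let F' : Subring B := (Polynomial.eval₂RingHom F.subtype b).range
    have hFF' : F ≤ F' := by
      intro f hf
      exact ⟨C ⟨f, hf⟩, by simp⟩
    have hbF' : b ∈ F' := ⟨X, by simp⟩
    have hF'S : F' ∈ S := by
      refine ⟨hF₀F.trans hFF', ?_⟩
      rintro x ⟨q, rfl⟩ hx
      have h1 : aeval t q = 0 := by
        rw [aeval_def, ← hb]
        rw [Polynomial.coe_eval₂RingHom, Polynomial.hom_eval₂] at hx
        exact hx
      obtain ⟨r, hr⟩ := minpoly.dvd F t h1
      rw [← hmin] at hr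
      rw [hr, Polynomial.coe_eval₂RingHom, Polynomial.eval₂_mul, Polynomial.eval₂_sub,
        Polynomial.eval₂_pow, Polynomial.eval₂_X, Polynomial.eval₂_C]
      show (b ^ p - b ^ p) * _ = 0
      rw [sub_self, zero_mul]
    have hF'F : F' ≤ F := hFmax.le_of_ge hF'S hFF'
    exact ht b (hF'F hbF') hb
  let φ : F →+* k := π.comp F.subtype
  have hφbij : Function.Bijective φ := by
    refine ⟨?_, fun t => ?_⟩
    · rw [injective_iff_map_eq_zero]
      intro f hf
      exact Subtype.ext (hFS.2 _ f.2 hf)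
    · obtain ⟨f, hfF, hft⟩ := hsurj t
      exact ⟨⟨f, hfF⟩, hft⟩
  let e : F ≃+* k := RingEquiv.ofBijective φ hφbij
  refine ⟨F.subtype.comp e.symm.toRingHom, fun x => ?_⟩
  show φ (e.symm x) = x
  exact e.apply_symm_apply x

end Section

section Deriv

open IsLocalRing

variable {A : Type*} [CommRing A] [IsLocalRing A]

/-- In a local ring with `p = 0`, there is an `A`-linear map `Ω[A⁄ℤ] → 𝔪/𝔪²` sending `dx` to the
class of `x` for all `x ∈ 𝔪`. -/
theorem exists_linearMap_kaehler_cotangent (p : ℕ) [Fact p.Prime] (hp0 : (p : A) = 0) :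
    ∃ L : Ω[A⁄ℤ] →ₗ[A] (maximalIdeal A).Cotangent,
      ∀ (x : A) (hx : x ∈ maximalIdeal A),
        L (KaehlerDifferential.D ℤ A x) = (maximalIdeal A).toCotangent ⟨x, hx⟩ := by
  classical
  let 𝔪 := maximalIdeal A
  let B := A ⧸ 𝔪 ^ 2
  let π : B →+* ResidueField A := Ideal.Quotient.factor (Ideal.pow_le_self two_ne_zero)
  have hπmk : ∀ a : A, π (Ideal.Quotient.mk (𝔪 ^ 2) a) = residue A a := fun a => rfl
  have hπsurj : Function.Surjective π := Ideal.Quotient.factor_surjective _
  have hker : ∀ b : B, π b = 0 → b ∈ 𝔪.cotangentIdeal := by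
    intro b hb
    obtain ⟨a, rfl⟩ := Ideal.Quotient.mk_surjective b
    rw [hπmk, residue_eq_zero_iff] at hb
    exact Ideal.mk_mem_cotangentIdeal.2 hb
  have hsq : ∀ a b : B, π a = 0 → π b = 0 → a * b = 0 := by
    intro a b ha hb
    have h1 : a * b ∈ 𝔪.cotangentIdeal ^ 2 := by
      rw [pow_two 𝔪.cotangentIdeal]
      exact Ideal.mul_mem_mul (hker a ha) (hker b hb)
    rw [Ideal.cotangentIdeal_square] at h1
    exact h1
  have hp0B : (p : B) = 0 := by
    rw [← map_natCast (Ideal.Quotient.mk (𝔪 ^ 2)), hp0, map_zero]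
  obtain ⟨σ, hσ⟩ := exists_section_of_sq_zero p hp0B π hπsurj hsq
  -- the derivation `δ : A → B`
  let δfun : A → B := fun a => Ideal.Quotient.mk (𝔪 ^ 2) a - σ (residue A a)
  have hδker : ∀ a, π (δfun a) = 0 := by
    intro a
    show π (Ideal.Quotient.mk (𝔪 ^ 2) a - σ (residue A a)) = 0
    rw [map_sub, hπmk, hσ, sub_self]
  let δlin : A →ₗ[ℤ] B :=
    { toFun := δfun
      map_add' := fun a b => by
        show Ideal.Quotient.mk (𝔪 ^ 2) (a + b) - σ (residue A (a + b)) =
          (Ideal.Quotient.mk (𝔪 ^ 2) a - σ (residue A a)) +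
            (Ideal.Quotient.mk (𝔪 ^ 2) b - σ (residue A b))
        rw [map_add, map_add, map_add]
        ring
      map_smul' := fun n a => by
        show Ideal.Quotient.mk (𝔪 ^ 2) (n • a) - σ (residue A (n • a)) =
          n • (Ideal.Quotient.mk (𝔪 ^ 2) a - σ (residue A a))
        rw [map_zsmul, map_zsmul, map_zsmul, smul_sub] }
  let δ : Derivation ℤ A B := Derivation.mk' δlin (by
    intro a b
    show Ideal.Quotient.mk (𝔪 ^ 2) (a * b) - σ (residue A (a * b)) =
      a • (Ideal.Quotient.mk (𝔪 ^ 2) b - σ (residue A b)) +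
        b • (Ideal.Quotient.mk (𝔪 ^ 2) a - σ (residue A a))
    have h1 := hsq _ _ (hδker a) (hδker b)
    have h2 : ∀ (c : A) (y : B), c • y = Ideal.Quotient.mk (𝔪 ^ 2) c * y := fun c y => by
      rw [Algebra.smul_def]
      rfl
    rw [h2, h2, map_mul, map_mul, map_mul]
    have h3 : (Ideal.Quotient.mk (𝔪 ^ 2) a - σ (residue A a)) *
        (Ideal.Quotient.mk (𝔪 ^ 2) b - σ (residue A b)) = 0 := h1
    linear_combination (-1 : B) * h3)
  let L₀ : Ω[A⁄ℤ] →ₗ[A] B := δ.liftKaehlerDifferential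
  have hL₀D : ∀ a, L₀ (KaehlerDifferential.D ℤ A a) = δfun a := fun a =>
    Derivation.liftKaehlerDifferential_comp_D δ a
  have hL₀mem : ∀ ω, L₀ ω ∈ (𝔪.cotangentIdeal).restrictScalars A := by
    intro ω
    have hω : ω ∈ Submodule.span A (Set.range (KaehlerDifferential.D ℤ A)) := by
      rw [KaehlerDifferential.span_range_derivation]
      trivial
    induction hω using Submodule.span_induction with
    | mem ω h =>
      obtain ⟨a, rfl⟩ := h
      rw [hL₀D]
      exact hker _ (hδker a)
    | zero => rw [map_zero]; exact Submodule.zero_mem _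
    | add ω₁ ω₂ _ _ h₁ h₂ => rw [map_add]; exact Submodule.add_mem _ h₁ h₂
    | smul a ω _ h => rw [map_smul]; exact Submodule.smul_mem _ _ h
  let L₁ : Ω[A⁄ℤ] →ₗ[A] 𝔪.cotangentIdeal :=
    LinearMap.codRestrict ((𝔪.cotangentIdeal).restrictScalars A) L₀ hL₀mem
  refine ⟨𝔪.cotangentEquivIdeal.symm.toLinearMap ∘ₗ L₁, fun x hx => ?_⟩
  show 𝔪.cotangentEquivIdeal.symm (L₁ (KaehlerDifferential.D ℤ A x)) = _
  rw [LinearEquiv.symm_apply_eq]
  apply Subtype.ext
  show L₀ (KaehlerDifferential.D ℤ A x) = _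
  rw [hL₀D, Ideal.cotangentEquivIdeal_apply, Ideal.toCotangent_to_quotient_square]
  show Ideal.Quotient.mk (𝔪 ^ 2) x - σ (residue A x) = _
  rw [(residue_eq_zero_iff x).2 hx, map_zero, sub_zero]
  rfl

end Deriv

section Main

open IsLocalRing TensorProduct

universe u

theorem main (p : ℕ) [Fact p.Prime] {A : Type u} [CommRing A] [IsRegularLocalRing A] [CharP A p]
    [Module.Free A (KaehlerDifferential ℤ A)] [Module.Finite A (KaehlerDifferential ℤ A)]
    {N : ℕ} (x : Fin N → A) (hx : Ideal.span (Set.range x) = maximalIdeal A)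
    (hN : ringKrullDim A = (N : WithBot ℕ∞)) :
    ∃ (ι : Type u) (b : Module.Basis ι A (KaehlerDifferential ℤ A)) (e : Fin N ↪ ι),
      ∀ i : Fin N, b (e i) = KaehlerDifferential.D ℤ A (x i) := by
  classical
  have hxm : ∀ i, x i ∈ maximalIdeal A := fun i => by
    rw [← hx]
    exact Ideal.subset_span ⟨i, rfl⟩
  obtain ⟨L, hL⟩ := exists_linearMap_kaehler_cotangent (A := A) p (CharP.cast_eq_zero A p)
  let xc : Fin N → CotangentSpace A := fun i => (maximalIdeal A).toCotangent ⟨x i, hxm i⟩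
  have hxc_li : LinearIndependent (ResidueField A) xc := by
    apply linearIndependent_of_top_le_span_of_card_eq_finrank
    · have h1 : Submodule.span A (Set.range (fun i => (⟨x i, hxm i⟩ : maximalIdeal A))) = ⊤ := by
        apply Submodule.map_injective_of_injective (maximalIdeal A).subtype_injective
        rw [Submodule.map_span, ← Set.range_comp, Submodule.map_top, Submodule.range_subtype]
        exact hx
      have h2 := (CotangentSpace.span_image_eq_top_iff (R := A)
        (s := Set.range fun i => (⟨x i, hxm i⟩ : maximalIdeal A))).2 h1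
      rw [← Set.range_comp] at h2
      exact h2.ge
    · rw [Fintype.card_fin]
      have h3 := (IsRegularLocalRing.iff_finrank_cotangentSpace A).1 inferInstance
      rw [hN] at h3
      exact_mod_cast h3.symm
  let Λ : ResidueField A ⊗[A] Ω[A⁄ℤ] →ₗ[ResidueField A] CotangentSpace A :=
    LinearMap.liftBaseChange (ResidueField A) L
  let v₀ : Fin N → ResidueField A ⊗[A] Ω[A⁄ℤ] := fun i =>
    (1 : ResidueField A) ⊗ₜ[A] KaehlerDifferential.D ℤ A (x i)
  have hΛv₀ : Λ ∘ v₀ = xc := by
    funext i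
    show Λ ((1 : ResidueField A) ⊗ₜ[A] KaehlerDifferential.D ℤ A (x i)) = xc i
    rw [LinearMap.liftBaseChange_tmul, one_smul, hL _ (hxm i)]
  have hli₀ : LinearIndependent (ResidueField A) v₀ :=
    LinearIndependent.of_comp Λ (by rw [hΛv₀]; exact hxc_li)
  have hs := hli₀.linearIndepOn_id
  let T : Set (ResidueField A ⊗[A] Ω[A⁄ℤ]) := hs.extend (Set.subset_univ _)
  let bT : Module.Basis T (ResidueField A) (ResidueField A ⊗[A] Ω[A⁄ℤ]) := Module.Basis.extend hs
  have hsT : Set.range v₀ ⊆ T := Module.Basis.subset_extend hs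
  have hsurj : Function.Surjective (TensorProduct.mk A (ResidueField A) Ω[A⁄ℤ] 1) :=
    TensorProduct.mk_surjective A Ω[A⁄ℤ] (ResidueField A) Ideal.Quotient.mk_surjective
  let w : T → Ω[A⁄ℤ] := fun τ =>
    if h : τ.1 ∈ Set.range v₀ then KaehlerDifferential.D ℤ A (x h.choose) else (hsurj τ.1).choose
  have hw : ∀ τ : T, TensorProduct.mk A (ResidueField A) Ω[A⁄ℤ] 1 (w τ) = τ.1 := by
    intro τ
    by_cases h : τ.1 ∈ Set.range v₀
    · simp only [w, dif_pos h]
      exact h.choose_spec
    · simp only [w, dif_neg h]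
      exact (hsurj τ.1).choose_spec
  have hcomp : TensorProduct.mk A (ResidueField A) Ω[A⁄ℤ] 1 ∘ w = bT := by
    funext τ
    rw [Function.comp_apply, hw, Module.Basis.extend_apply_self]
  have hli : LinearIndependent (ResidueField A)
      (TensorProduct.mk A (ResidueField A) Ω[A⁄ℤ] 1 ∘ w) := by
    rw [hcomp]
    exact bT.linearIndependent
  have hsp : Submodule.span (ResidueField A)
      (Set.range (TensorProduct.mk A (ResidueField A) Ω[A⁄ℤ] 1 ∘ w)) = ⊤ := by
    rw [hcomp]
    exact bT.span_eq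
  haveI : Module.FinitePresentation A Ω[A⁄ℤ] := Module.finitePresentation_of_projective A _
  obtain ⟨b, hb⟩ := Module.exists_basis_of_basis_baseChange w hli hsp
    (Module.Flat.rTensor_preserves_injective_linearMap (maximalIdeal A).subtype
      Subtype.val_injective)
  refine ⟨T, b, ⟨fun i => ⟨v₀ i, hsT ⟨i, rfl⟩⟩, fun i j hij => ?_⟩, fun i => ?_⟩
  · exact hli₀.injective (congrArg Subtype.val hij)
  · rw [hb]
    have h : v₀ i ∈ Set.range v₀ := ⟨i, rfl⟩
    show (if h : v₀ i ∈ Set.range v₀ then KaehlerDifferential.D ℤ A (x h.choose)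
      else (hsurj (v₀ i)).choose) = _
    rw [dif_pos h]
    have h2 : h.choose = i := hli₀.injective h.choose_spec
    rw [h2]

end Main

end Groth.Agent.Lib.CoeffFieldSqH3
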