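import Mathlib

/-!
# Coefficient of `x_1 ⋯ x_r` by inclusion–exclusion
-/

namespace Groth.Agent.Lib.CoeffInclExcl

universe u

theorem main (R : Type u) [CommRing R] (r : ℕ)
    (P : MvPolynomial (Fin r) R) (hP : P.totalDegree ≤ r) :
    MvPolynomial.coeff (∑ i : Fin r, Finsupp.single i 1) P =
      ∑ J : Finset (Fin r), (-1 : R) ^ J.card *
        MvPolynomial.eval (fun j => if j ∈ J then (-1 : R) else 0) P := by
  classical
  obtain ⟨one, hone⟩ : ∃ one : Fin r →₀ ℕ, one = ∑ i : Fin r, Finsupp.single i 1 := ⟨_, rfl⟩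
  rw [← hone]
  have hone_apply : ∀ j, one j = 1 := by
    intro j; simp [hone, Finsupp.finset_sum_apply, Finsupp.single_apply]
  have hT : ∀ m : Fin r →₀ ℕ,
      ∑ J : Finset (Fin r), (-1 : R) ^ J.card * ∏ i, (if i ∈ J then (-1 : R) else 0) ^ m i =
        ∏ i : Fin r, (-(-1 : R) ^ m i + (0 : R) ^ m i) := by
    intro m
    rw [Finset.prod_add, Finset.powerset_univ]
    refine Finset.sum_congr rfl fun J _ => ?_
    have h1 : ∏ i, (if i ∈ J then (-1 : R) else 0) ^ m i =
        (∏ i ∈ J, (-1 : R) ^ m i) * ∏ i ∈ Finset.univ \ J, (0 : R) ^ m i := by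
      calc ∏ i, (if i ∈ J then (-1 : R) else 0) ^ m i
          = (∏ i ∈ Finset.univ \ J, (if i ∈ J then (-1 : R) else 0) ^ m i) *
              ∏ i ∈ J, (if i ∈ J then (-1 : R) else 0) ^ m i :=
            (Finset.prod_sdiff (Finset.subset_univ J)).symm
        _ = (∏ i ∈ J, (if i ∈ J then (-1 : R) else 0) ^ m i) *
              ∏ i ∈ Finset.univ \ J, (if i ∈ J then (-1 : R) else 0) ^ m i := mul_comm _ _
        _ = (∏ i ∈ J, (-1 : R) ^ m i) * ∏ i ∈ Finset.univ \ J, (0 : R) ^ m i := by
            congr 1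
            · exact Finset.prod_congr rfl fun i hi => by rw [if_pos hi]
            · exact Finset.prod_congr rfl fun i hi => by
                rw [if_neg (Finset.mem_sdiff.mp hi).2]
    rw [h1, ← mul_assoc]
    congr 1
    rw [← Finset.prod_const, ← Finset.prod_mul_distrib]
    exact Finset.prod_congr rfl fun i _ => by ring
  have hTval : ∀ m : Fin r →₀ ℕ, m ∈ P.support →
      ∏ i : Fin r, (-(-1 : R) ^ m i + (0 : R) ^ m i) = if m = one then 1 else 0 := by
    intro m hm
    have hdeg : (m.sum fun _ e => e) ≤ r := le_trans (MvPolynomial.le_totalDegree hm) hP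
    by_cases hmo : m = one
    · rw [if_pos hmo]
      refine Finset.prod_eq_one fun i _ => ?_
      rw [hmo, hone_apply]; ring
    · rw [if_neg hmo]
      have hex : ∃ i, m i = 0 := by
        by_contra hcon
        push_neg at hcon
        apply hmo
        have hsum : (m.sum fun _ e => e) = ∑ i, m i := Finsupp.sum_fintype _ _ (fun _ => rfl)
        have hge : ∀ i, 1 ≤ m i := fun i => Nat.one_le_iff_ne_zero.mpr (hcon i)
        have hle : ∑ i : Fin r, m i ≤ ∑ _i : Fin r, 1 := by
          rw [← hsum]; simpa using hdeg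
        ext j
        rw [hone_apply]
        by_contra hj
        have hj2 : 2 ≤ m j := by have := hge j; omega
        have hlt : ∑ _i : Fin r, 1 < ∑ i : Fin r, m i :=
          Finset.sum_lt_sum (fun i _ => hge i) ⟨j, Finset.mem_univ j, by omega⟩
        omega
      obtain ⟨i, hi⟩ := hex
      refine Finset.prod_eq_zero (Finset.mem_univ i) ?_
      rw [hi]; simp
  have hRHS : ∀ J : Finset (Fin r),
      MvPolynomial.eval (fun j => if j ∈ J then (-1 : R) else 0) P =
        ∑ m ∈ P.support, P.coeff m * ∏ i, (if i ∈ J then (-1 : R) else 0) ^ m i := fun J =>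
    MvPolynomial.eval_eq' _ P
  simp only [hRHS, Finset.mul_sum]
  rw [Finset.sum_comm]
  have hm : ∀ m ∈ P.support, ∑ J : Finset (Fin r), (-1 : R) ^ J.card *
      (P.coeff m * ∏ i, (if i ∈ J then (-1 : R) else 0) ^ m i) =
        P.coeff m * (if m = one then 1 else 0) := by
    intro m hm
    rw [← hTval m hm, ← hT m, Finset.mul_sum]
    exact Finset.sum_congr rfl fun J _ => by ring
  rw [Finset.sum_congr rfl hm]
  simp only [mul_ite, mul_one, mul_zero]
  rw [Finset.sum_ite_eq']
  split_ifs with h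
  · rfl
  · exact MvPolynomial.notMem_support_iff.mp h

end Groth.Agent.Lib.CoeffInclExcl
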