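import Groth.Agent.Lib.CoeffSpace_helper9
import Groth.Agent.Lib.ComodFlag_helper9
import Mathlib.RingTheory.SimpleModule.Isotypic

/-!
# Simple comodules and their coefficient spaces

* a simple comodule embedded in `C` inside the coefficient space of a simple comodule `E` is
  isomorphic to `E`;
* simple comodules with the same coefficient space are isomorphic;
* the coefficient space of a simple comodule is a simple subcoalgebra.
-/

set_option autoImplicit false
universe u v w w'
open TensorProduct

namespace Groth.Agent.Lib.CoeffIso_helper9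

open Groth.Agent.Lib.Comod_helper9 Groth.Agent.Lib.ComodDual_helper9 Groth.Agent.Lib.Subcoalg_helper9
  Groth.Agent.Lib.CoeffSpace_helper9 Groth.Agent.Lib.ComodFlag_helper9

variable {k : Type u} [Field k] {C : Type v} [AddCommGroup C] [Module k C] [Coalgebra k C]

/-- A nonzero subcomodule contains a minimal nonzero (finite-dimensional) subcomodule. -/
theorem exists_minimal_subcomod_le {V : Type w} [AddCommGroup V] [Module k V] [c : HopfRep.Comod k C V]
    (B : Submodule k V) (hB : HopfRep.IsSubcomod (k := k) (A := C) B) (hB0 : B ≠ ⊥) :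
    ∃ F : Submodule k V, F ≤ B ∧ HopfRep.IsSubcomod (k := k) (A := C) F ∧ F ≠ ⊥ ∧ Module.Finite k F ∧
      ∀ F' : Submodule k V, HopfRep.IsSubcomod (k := k) (A := C) F' → F' ≤ F → F' = ⊥ ∨ F' = F := by
  classical
  obtain ⟨d, hdD, hd0⟩ := (Submodule.ne_bot_iff B).mp hB0
  let P : ℕ → Prop := fun n => ∃ S : Submodule k V, S ≤ B ∧ HopfRep.IsSubcomod (k := k) (A := C) S ∧ S ≠ ⊥ ∧
    Module.Finite k S ∧ Module.finrank k S = n
  have hP : ∃ n, P n := by
    refine ⟨_, cyclicSub (k := k) (C := C) d, ?_, isSubcomod_cyclicSub d, ?_, finite_cyclicSub d, rfl⟩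
    · rintro _ ⟨φ, rfl⟩
      exact act_mem_of_isSubcomod B hB φ hdD
    · intro h
      have := self_mem_cyclicSub (k := k) (C := C) d
      rw [h] at this
      exact hd0 ((Submodule.mem_bot k).mp this)
  obtain ⟨E, hED, hE, hEne, hEfin, hErank⟩ := Nat.find_spec hP
  haveI := hEfin
  refine ⟨E, hED, hE, hEne, hEfin, ?_⟩
  intro E' hE' hle
  by_cases h0 : E' = ⊥
  · left; exact h0
  · right
    haveI : Module.Finite k E' := Submodule.finiteDimensional_of_le hle
    have h1 : Nat.find hP ≤ Module.finrank k E' :=
      Nat.find_min' hP ⟨E', hle.trans hED, hE', h0, inferInstance, rfl⟩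
    exact Submodule.eq_of_le_of_finrank_le hle (hErank ▸ h1)

variable {E : Type w} [AddCommGroup E] [Module k E]

/-- the coefficient space of a simple comodule lies in the isotypic component of `E` in the regular
`C^*`-module -/
theorem coeffSpace_le_isotypicComponent [cE : HopfRep.Comod k C E] (hE : HopfRep.IsSimpleComod k C E) :
    coeffSpace k C E ≤ ofDualSubmodule (HopfRep.Comod.regular k C)
      (letI := dualModule (HopfRep.Comod.regular k C); letI := dualModule cE
       isotypicComponent (Dual k C) C E) := by
  letI := dualModule (HopfRep.Comod.regular k C)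
  letI := dualModule cE
  haveI : IsSimpleModule (Dual k C) E := isSimpleModule_of_isSimpleComod cE hE
  apply iSup_le
  rintro ψ _ ⟨v, rfl⟩
  rw [mem_ofDualSubmodule, ← iSup_range_eq_isotypicComponent]
  exact Submodule.mem_iSup_of_mem
    (toDualLinear cE (HopfRep.Comod.regular k C) (coeffMap (C := C) ψ) (isComodHom_coeffMap ψ)) ⟨v, rfl⟩

variable {F : Type w'} [AddCommGroup F] [Module k F]

/-- A simple comodule embedded in `C` inside the coefficient space of a simple comodule `E` is
isomorphic to `E`. -/
theorem exists_comodIso_of_range_le_coeffSpace [cE : HopfRep.Comod k C E] [cF : HopfRep.Comod k C F]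
    (hE : HopfRep.IsSimpleComod k C E) (hF : HopfRep.IsSimpleComod k C F)
    (f : F →ₗ[k] C) (hf : Hoch.IsComodHom C f)
    (hinj : Function.Injective f) (hle : LinearMap.range f ≤ coeffSpace k C E) :
    ∃ e : E ≃ₗ[k] F, Hoch.IsComodHom C e.toLinearMap := by
  letI mC := dualModule (HopfRep.Comod.regular k C)
  letI mE := dualModule cE
  letI mF := dualModule cF
  haveI := isScalarTower_dual (HopfRep.Comod.regular k C)
  haveI := isScalarTower_dual cE
  haveI := isScalarTower_dual cF
  haveI : IsSimpleModule (Dual k C) E := isSimpleModule_of_isSimpleComod cE hE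
  haveI : IsSimpleModule (Dual k C) F := isSimpleModule_of_isSimpleComod cF hF
  let fR : F →ₗ[Dual k C] C := toDualLinear cF (HopfRep.Comod.regular k C) f hf
  have hfR : Function.Injective fR := hinj
  have h1 : LinearMap.range fR ≤ isotypicComponent (Dual k C) C E := by
    rintro _ ⟨x, rfl⟩
    have hx : f x ∈ coeffSpace k C E := hle ⟨x, rfl⟩
    exact coeffSpace_le_isotypicComponent hE hx
  haveI : IsSimpleModule (Dual k C) (LinearMap.range fR) :=
    IsSimpleModule.congr (LinearEquiv.ofInjective fR hfR).symm
  obtain ⟨e⟩ := isIsotypicOfType_submodule_iff.mp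
    (IsIsotypicOfType.isotypicComponent (Dual k C) C E) _ h1
  let e' : E ≃ₗ[Dual k C] F := (e.symm).trans (LinearEquiv.ofInjective fR hfR).symm
  refine ⟨e'.restrictScalars k, ?_⟩
  exact isComodHom_ofDualLinear cE cF e'.toLinearMap

/-- a simple comodule admits an injective matrix coefficient map into `C` -/
theorem exists_injective_coeffMap [cE : HopfRep.Comod k C E] (hE : HopfRep.IsSimpleComod k C E) :
    ∃ ψ : E →ₗ[k] k, Function.Injective (coeffMap (C := C) ψ) := by
  letI mC := dualModule (HopfRep.Comod.regular k C)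
  letI mE := dualModule cE
  haveI : IsSimpleModule (Dual k C) E := isSimpleModule_of_isSimpleComod cE hE
  haveI := hE.1
  by_contra hcon
  push Not at hcon
  apply coeffSpace_ne_bot (k := k) (C := C) (V := E)
  rw [eq_bot_iff]
  apply iSup_le
  intro ψ
  rcases (toDualLinear cE (HopfRep.Comod.regular k C) (coeffMap (C := C) ψ)
    (isComodHom_coeffMap ψ)).injective_or_eq_zero with h | h
  · exact absurd h (hcon ψ)
  · rintro _ ⟨v, rfl⟩
    have := LinearMap.congr_fun h v
    rw [Submodule.mem_bot]
    exact this

/-- simple comodules with the same coefficient space are isomorphic -/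
theorem exists_comodIso_of_coeffSpace_eq [cE : HopfRep.Comod k C E] [cF : HopfRep.Comod k C F]
    (hE : HopfRep.IsSimpleComod k C E) (hF : HopfRep.IsSimpleComod k C F)
    (h : coeffSpace k C E = coeffSpace k C F) :
    ∃ e : E ≃ₗ[k] F, Hoch.IsComodHom C e.toLinearMap := by
  obtain ⟨ψ, hψ⟩ := exists_injective_coeffMap (C := C) hF
  refine exists_comodIso_of_range_le_coeffSpace hE hF (coeffMap (C := C) ψ) (isComodHom_coeffMap ψ) hψ ?_
  rw [h]
  exact range_le_coeffSpace _ (isComodHom_coeffMap ψ)

/-- the coefficient space of a simple comodule is a simple subcoalgebra -/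
theorem isSimpleSubcoalg_coeffSpace [cE : HopfRep.Comod k C E] (hE : HopfRep.IsSimpleComod k C E) :
    IsSimpleSubcoalg (coeffSpace k C E) := by
  haveI := hE.1
  refine ⟨coeffSpace_ne_bot, isSubcoalg_coeffSpace, ?_⟩
  intro B hBD hB
  by_cases hB0 : B = ⊥
  · left; exact hB0
  · right
    apply le_antisymm hBD
    have hBsub : HopfRep.IsSubcomod (k := k) (A := C) B := isSubcomod_of_isSubcoalg B hB
    obtain ⟨F, hFB, hF, hFne, hFfin, hFmin⟩ := exists_minimal_subcomod_le (C := C) B hBsub hB0
    letI cF : HopfRep.Comod k C F := ComodSub.Comod.restr (HopfRep.Comod.regular k C) F hF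
    have hFs : HopfRep.IsSimpleComod k C F :=
      isSimpleComod_restr_of_minimal (HopfRep.Comod.regular k C) F hF hFne hFmin
    obtain ⟨e, he⟩ := exists_comodIso_of_range_le_coeffSpace hE hFs F.subtype
      (ComodSub.isComodHom_subtype (HopfRep.Comod.regular k C) F hF) F.injective_subtype
      (by rw [Submodule.range_subtype]; exact hFB.trans hBD)
    have heq : coeffSpace k C E = coeffSpace k C F :=
      coeffSpace_eq_of_bijective e.toLinearMap he e.bijective
    rw [heq]
    exact coeffSpaceSub_le_of_le_isSubcoalg F hF B hB hFB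

end Groth.Agent.Lib.CoeffIso_helper9
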