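import Mathlib.Topology.Category.TopCat.Limits.Cofiltered

/-!
# Opens in cofiltered limits of topological spaces (lead)
-/

universe u

set_option linter.unusedSectionVars false

namespace Groth.Agent.Lib.CofLim_lead

open CategoryTheory CategoryTheory.Limits TopologicalSpace Topology Set

variable {J : Type u} [SmallCategory J] [IsCofiltered J] (F : J ⥤ TopCat.{u}) (c : Cone F)
  (hc : IsLimit c)

include hc

/-- Preimages of opens form a basis of a cofiltered limit. -/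
theorem isTopologicalBasis_preimage_opens :
    IsTopologicalBasis
      {U : Set c.pt | ∃ (j : J) (V : Set (F.obj j)), IsOpen V ∧ U = c.π.app j ⁻¹' V} := by
  refine TopCat.isTopologicalBasis_cofiltered_limit F c hc (fun j => {V | IsOpen V})
    (fun j => isTopologicalBasis_opens) (fun i => isOpen_univ)
    (fun i U1 U2 h1 h2 => IsOpen.inter h1 h2) ?_
  intro i j f V hV
  exact hV.preimage (F.map f).hom.continuous

/-- Every point of an open of a cofiltered limit has a basic neighbourhood inside it. -/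
theorem exists_preimage_subset {W : Set c.pt} (hW : IsOpen W) {x : c.pt} (hx : x ∈ W) :
    ∃ (j : J) (V : Set (F.obj j)), IsOpen V ∧ x ∈ c.π.app j ⁻¹' V ∧ c.π.app j ⁻¹' V ⊆ W := by
  obtain ⟨_, ⟨j, V, hV, rfl⟩, hxV, hVW⟩ :=
    (isTopologicalBasis_preimage_opens F c hc).exists_subset_of_mem_open hx hW
  exact ⟨j, V, hV, hxV, hVW⟩

theorem preimage_map_eq {i j : J} (f : i ⟶ j) (V : Set (F.obj j)) :
    c.π.app i ⁻¹' (F.map f ⁻¹' V) = c.π.app j ⁻¹' V := by
  ext x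
  have := c.w f
  simp only [mem_preimage]
  rw [← this]
  rfl

/-- A finite union of basic opens is a basic open. -/
theorem exists_preimage_eq_biUnion (t : Finset (Σ j, Set (F.obj j)))
    (ht : ∀ s ∈ t, IsOpen s.2) :
    ∃ (i : J) (Ui : Set (F.obj i)), IsOpen Ui ∧
      (⋃ s ∈ t, c.π.app s.1 ⁻¹' s.2) = c.π.app i ⁻¹' Ui := by
  classical
  obtain ⟨i, hi⟩ := IsCofiltered.inf_objs_exists (t.image Sigma.fst)
  have hg : ∀ s ∈ t, Nonempty (i ⟶ s.1) := fun s hs =>
    hi (Finset.mem_image.2 ⟨s, hs, rfl⟩)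
  let g : ∀ s ∈ t, i ⟶ s.1 := fun s hs => (hg s hs).some
  refine ⟨i, ⋃ s : t, F.map (g s.1 s.2) ⁻¹' s.1.2, ?_, ?_⟩
  · exact isOpen_iUnion fun s => (ht s.1 s.2).preimage (F.map (g s.1 s.2)).hom.continuous
  · rw [preimage_iUnion]
    ext x
    simp only [mem_iUnion]
    constructor
    · rintro ⟨s, hs, hx⟩
      refine ⟨⟨s, hs⟩, ?_⟩
      rw [preimage_map_eq F c hc]
      exact hx
    · rintro ⟨s, hx⟩
      rw [preimage_map_eq F c hc] at hx
      exact ⟨s.1, s.2, hx⟩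

/-- A compact open of a cofiltered limit is a basic open. -/
theorem exists_preimage_eq_of_isCompact {W : Set c.pt} (hW : IsOpen W) (hWc : IsCompact W) :
    ∃ (i : J) (Ui : Set (F.obj i)), IsOpen Ui ∧ W = c.π.app i ⁻¹' Ui := by
  classical
  let S : Set (Σ j, Set (F.obj j)) := {s | IsOpen s.2 ∧ c.π.app s.1 ⁻¹' s.2 ⊆ W}
  have hcov : W ⊆ ⋃ s : S, c.π.app s.1.1 ⁻¹' s.1.2 := by
    intro x hx
    obtain ⟨j, V, hV, hxV, hVW⟩ := exists_preimage_subset F c hc hW hx
    exact mem_iUnion.2 ⟨⟨⟨j, V⟩, hV, hVW⟩, hxV⟩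
  obtain ⟨t, ht⟩ := hWc.elim_finite_subcover (fun s : S => c.π.app s.1.1 ⁻¹' s.1.2)
    (fun s => s.2.1.preimage (c.π.app s.1.1).hom.continuous) hcov
  obtain ⟨i, Ui, hUi, hUeq⟩ := exists_preimage_eq_biUnion F c hc (t.image Subtype.val)
    (fun s hs => by
      obtain ⟨s', -, rfl⟩ := Finset.mem_image.1 hs
      exact s'.2.1)
  refine ⟨i, Ui, hUi, ?_⟩
  rw [← hUeq]
  apply Subset.antisymm
  · intro x hx
    obtain ⟨s, hs, hxs⟩ := mem_iUnion₂.1 (ht hx)
    exact mem_iUnion₂.2 ⟨s.1, Finset.mem_image.2 ⟨s, hs, rfl⟩, hxs⟩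
  · intro x hx
    obtain ⟨s, hs, hxs⟩ := mem_iUnion₂.1 hx
    obtain ⟨s', -, rfl⟩ := Finset.mem_image.1 hs
    exact s'.2.2 hxs

end Groth.Agent.Lib.CofLim_lead
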