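import Mathlib
import Groth.Prelude.Def_W4c5flasquetoriphsGLat

/-!
# Coflasque resolutions of modules over a finite group (helper3)
-/

namespace Groth.Agent.Lib.CoflasqueH3

/-- The permutation representation on `X →₀ ℤ`. -/
noncomputable def permRep (G X : Type*) [Group G] [MulAction G X] :
    Representation ℤ G (X →₀ ℤ) where
  toFun g := Finsupp.lmapDomain ℤ ℤ (g • ·)
  map_one' := by
    ext x
    simp
  map_mul' g h := by
    ext x
    simp [mul_smul]

section perm

variable {G X : Type*} [Group G] [MulAction G X]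

theorem permRep_single (g : G) (x : X) (r : ℤ) :
    permRep G X g (Finsupp.single x r) = Finsupp.single (g • x) r := by
  show Finsupp.mapDomain (g • ·) (Finsupp.single x r) = _
  rw [Finsupp.mapDomain_single]

theorem permRep_apply (g : G) (m : X →₀ ℤ) (x : X) :
    permRep G X g m x = m (g⁻¹ • x) := by
  show Finsupp.mapDomain (g • ·) m x = _
  have h := Finsupp.mapDomain_apply (MulAction.injective g) m (g⁻¹ • x)
  rw [smul_inv_smul] at h
  exact h

/-- `H¹(H, ℤ[X]) = 0` for a finite subgroup `H`. -/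
theorem h1_perm_trivial [Finite X] (H : Subgroup G) [Finite H] (f : H → (X →₀ ℤ))
    (hf : ∀ a b : H, f (a * b) = f a + permRep G X (a : G) (f b)) :
    ∃ m : X →₀ ℤ, ∀ a : H, f a = permRep G X (a : G) m - m := by
  classical
  have hpt : ∀ (a b : H) (x : X), f (a * b) x = f a x + f b ((a : G)⁻¹ • x) := by
    intro a b x
    rw [hf a b, Finsupp.add_apply, permRep_apply]
  have hone : ∀ x, f 1 x = 0 := by
    intro x
    have h1 := hpt 1 1 x
    simp only [mul_one, OneMemClass.coe_one, inv_one, one_smul] at h1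
    linarith
  have hstab : ∀ (r : X) (k : H), (k : G) • r = r → f k r = 0 := by
    intro r k hk
    have hk' : (k : G) ∈ MulAction.stabilizer G r := hk
    have hpow : ∀ d : ℕ, f (k ^ d) r = d * f k r := by
      intro d
      induction d with
      | zero => simp [hone]
      | succ d ih =>
        have h1 : ((k ^ d : H) : G)⁻¹ ∈ MulAction.stabilizer G r := by
          rw [Subgroup.coe_pow]
          exact inv_mem (pow_mem hk' d)
        have hfix : ((k ^ d : H) : G)⁻¹ • r = r := h1
        rw [pow_succ, hpt, ih, hfix]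
        push_cast
        ring
    have hd : 0 < orderOf k := orderOf_pos k
    have h2 := hpow (orderOf k)
    rw [pow_orderOf_eq_one, hone] at h2
    have h3 : (orderOf k : ℤ) ≠ 0 := by exact_mod_cast hd.ne'
    exact (mul_eq_zero.1 h2.symm).resolve_left h3
  set rep : X → X := fun x => (Quotient.mk'' x : MulAction.orbitRel.Quotient H X).out with hrepdef
  have hrep : ∀ x : X, ∃ c : H, (c : G) • rep x = x := by
    intro x
    have h1 : (MulAction.orbitRel H X) (rep x) x := Quotient.exact' (Quotient.out_eq' _)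
    rw [MulAction.orbitRel_apply, MulAction.mem_orbit_iff] at h1
    obtain ⟨g, hg⟩ := h1
    refine ⟨g⁻¹, ?_⟩
    rw [← hg, Subgroup.smul_def, smul_smul]
    simp
  choose c hc using hrep
  have hrep_smul : ∀ (a : H) (x : X), rep ((a : G)⁻¹ • x) = rep x := by
    intro a x
    have h1 : (Quotient.mk'' ((a : G)⁻¹ • x) : MulAction.orbitRel.Quotient H X) =
        Quotient.mk'' x := by
      apply Quotient.sound'
      show (MulAction.orbitRel H X) ((a : G)⁻¹ • x) x
      rw [MulAction.orbitRel_apply, MulAction.mem_orbit_iff]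
      exact ⟨a⁻¹, by rw [Subgroup.smul_def]; simp⟩
    show (Quotient.mk'' ((a : G)⁻¹ • x) : MulAction.orbitRel.Quotient H X).out =
      (Quotient.mk'' x : MulAction.orbitRel.Quotient H X).out
    rw [h1]
  set n : X → ℤ := fun x => f (c x) x with hn
  have hmain : ∀ (a : H) (x : X), f a x = n x - n ((a : G)⁻¹ • x) := by
    intro a x
    obtain ⟨y, hy⟩ : ∃ y : X, y = (a : G)⁻¹ • x := ⟨_, rfl⟩
    rw [← hy]
    have hrepy : rep y = rep x := by
      rw [hy]
      exact hrep_smul a x
    have hcy : ((c y : H) : G) • rep x = y := by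
      have h0 := hc y
      rwa [hrepy] at h0
    have hcx : ((c x : H) : G) • rep x = x := hc x
    obtain ⟨k, hk⟩ : ∃ k : H, k = (c y)⁻¹ * a⁻¹ * c x := ⟨_, rfl⟩
    have hkr : (k : G) • rep x = rep x := by
      rw [hk]
      simp only [Subgroup.coe_mul, Subgroup.coe_inv, mul_smul]
      rw [hcx, ← hy]
      exact inv_smul_eq_iff.2 hcy.symm
    have hcxk : c x = a * (c y * k) := by
      rw [hk]
      group
    have h1 : f (c x) x = f a x + f (c y * k) y := by
      conv_lhs => rw [hcxk]
      rw [hpt, ← hy]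
    have h2 : f (c y * k) y = f (c y) y + f k (((c y : H) : G)⁻¹ • y) := hpt _ _ _
    have h3 : ((c y : H) : G)⁻¹ • y = rep x := inv_smul_eq_iff.2 hcy.symm
    rw [h3, hstab _ _ hkr, add_zero] at h2
    show f a x = f (c x) x - f (c y) y
    rw [h1, h2]
    ring
  refine ⟨Finsupp.equivFunOnFinite.symm (fun x => - n x), fun a => ?_⟩
  ext x
  rw [Finsupp.sub_apply, permRep_apply]
  rw [Finsupp.coe_equivFunOnFinite_symm]
  rw [hmain a x]
  ring

end perm

section construction

variable (G : Type) [Group G]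

/-- The index set of the permutation basis. -/
def XX (n : Subgroup G → ℕ) : Type := Σ H : Subgroup G, Fin (n H) × (G ⧸ H)

instance (n : Subgroup G → ℕ) : SMul G (XX G n) := ⟨fun g x => ⟨x.1, x.2.1, g • x.2.2⟩⟩

theorem smul_XX_def (n : Subgroup G → ℕ) (g : G) (x : XX G n) :
    g • x = (⟨x.1, x.2.1, g • x.2.2⟩ : XX G n) := rfl

instance (n : Subgroup G → ℕ) : MulAction G (XX G n) where
  one_smul x := by
    rw [smul_XX_def, one_smul]
    rcases x with ⟨H, j, c⟩
    rfl
  mul_smul g h x := by
    show (⟨x.1, x.2.1, (g * h) • x.2.2⟩ : XX G n) = ⟨x.1, x.2.1, g • h • x.2.2⟩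
    rw [mul_smul]

instance [Finite G] (n : Subgroup G → ℕ) : Finite (XX G n) := by
  unfold XX
  infer_instance

variable {G}

/-- Constructor for the index set. -/
def XX.mk {n : Subgroup G → ℕ} (H : Subgroup G) (j : Fin (n H)) (c : G ⧸ H) : XX G n := ⟨H, j, c⟩

theorem smul_XX (n : Subgroup G → ℕ) (g : G) (H : Subgroup G) (j : Fin (n H)) (c : G ⧸ H) :
    g • (XX.mk H j c : XX G n) = XX.mk H j (g • c) := rfl

theorem XX.ind {n : Subgroup G → ℕ} {motive : XX G n → Prop}
    (h : ∀ (H : Subgroup G) (j : Fin (n H)) (c : G ⧸ H), motive (XX.mk H j c)) (x : XX G n) :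
    motive x := by
  rcases x with ⟨H, j, c⟩
  exact h H j c

variable {A : Type} [AddCommGroup A] (ρ : Representation ℤ G A)

/-- The invariants of a subgroup. -/
def inv (H : Subgroup G) : Submodule ℤ A where
  carrier := {a | ∀ h ∈ H, ρ h a = a}
  add_mem' := by
    intro a b ha hb h hh
    rw [map_add, ha h hh, hb h hh]
  zero_mem' := by
    intro h _
    rw [map_zero]
  smul_mem' := by
    intro z a ha h hh
    rw [map_smul, ha h hh]

theorem mem_inv (H : Subgroup G) (a : A) : a ∈ inv ρ H ↔ ∀ h ∈ H, ρ h a = a := Iff.rfl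

/-- The values of the cover on the basis. -/
noncomputable def vv (n : Subgroup G → ℕ) (gen : ∀ H : Subgroup G, Fin (n H) → inv ρ H) :
    XX G n → A := fun x =>
  Quotient.liftOn' x.2.2 (fun g => ρ g (gen x.1 x.2.1 : A)) (by
    intro g g' hgg0
    have hgg' : g⁻¹ * g' ∈ x.1 := QuotientGroup.leftRel_apply.1 hgg0
    have h1 : g' = g * (g⁻¹ * g') := by group
    show ρ g (gen x.1 x.2.1 : A) = ρ g' (gen x.1 x.2.1 : A)
    conv_rhs => rw [h1, map_mul, Module.End.mul_apply]
    rw [(gen x.1 x.2.1).2 _ hgg'])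

theorem vv_mk (n : Subgroup G → ℕ) (gen : ∀ H : Subgroup G, Fin (n H) → inv ρ H)
    (H : Subgroup G) (j : Fin (n H)) (g : G) :
    vv ρ n gen (XX.mk H j (QuotientGroup.mk g : G ⧸ H)) = ρ g (gen H j : A) := rfl

theorem vv_smul (n : Subgroup G → ℕ) (gen : ∀ H : Subgroup G, Fin (n H) → inv ρ H)
    (g : G) (x : XX G n) : vv ρ n gen (g • x) = ρ g (vv ρ n gen x) := by
  refine XX.ind (motive := fun x => vv ρ n gen (g • x) = ρ g (vv ρ n gen x)) (fun H j c => ?_) x
  induction c using QuotientGroup.induction_on with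
  | H g' =>
    rw [smul_XX]
    show vv ρ n gen (XX.mk H j (QuotientGroup.mk (g * g') : G ⧸ H)) = _
    rw [vv_mk, vv_mk, map_mul, Module.End.mul_apply]

theorem main [Finite G] [Module.Finite ℤ A] :
    ∃ (Q : Type) (_ : AddCommGroup Q) (P : Type) (_ : AddCommGroup P)
      (_ : Module.Finite ℤ Q) (_ : Module.Free ℤ Q) (_ : Module.Finite ℤ P) (_ : Module.Free ℤ P)
      (σ : Representation ℤ G Q) (τ : Representation ℤ G P) (i : Q →ₗ[ℤ] P) (π : P →ₗ[ℤ] A),
      GLat.IsEquivariant σ τ i ∧ GLat.IsEquivariant τ ρ π ∧ Function.Injective i ∧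
      Function.Surjective π ∧
      LinearMap.range i = LinearMap.ker π ∧ GLat.IsPermutation τ ∧ GLat.IsCoflasque σ := by
  classical
  haveI : IsNoetherian ℤ A := isNoetherian_of_isNoetherianRing_of_finite ℤ A
  have hfin : ∀ H : Subgroup G, ∃ (n : ℕ) (s : Fin n → inv ρ H),
      Submodule.span ℤ (Set.range s) = ⊤ := fun H => Module.Finite.exists_fin
  choose n gen hgen using hfin
  set v := vv ρ n gen with hv
  set π : (XX G n →₀ ℤ) →ₗ[ℤ] A := Finsupp.linearCombination ℤ v with hπ
  set τ := permRep G (XX G n) with hτ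
  have hπsingle : ∀ (x : XX G n) (r : ℤ), π (Finsupp.single x r) = r • v x := fun x r =>
    Finsupp.linearCombination_single ℤ r x
  have hequiv : ∀ (g : G) (m : XX G n →₀ ℤ), π (τ g m) = ρ g (π m) := by
    intro g m
    have h1 : π ∘ₗ τ g = ρ g ∘ₗ π := by
      apply Finsupp.lhom_ext
      intro x r
      rw [LinearMap.comp_apply, LinearMap.comp_apply, hτ, permRep_single, hπsingle, hπsingle,
        map_smul, hv, vv_smul]
    exact LinearMap.congr_fun h1 m
  have hinvar : ∀ g : G, ∀ m ∈ LinearMap.ker π, τ g m ∈ LinearMap.ker π := by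
    intro g m hm
    rw [LinearMap.mem_ker] at hm ⊢
    rw [hequiv, hm, map_zero]
  let σ : Representation ℤ G (LinearMap.ker π) :=
    { toFun := fun g => (τ g).restrict (hinvar g)
      map_one' := by
        apply LinearMap.ext
        intro m
        apply Subtype.ext
        rw [LinearMap.restrict_coe_apply, map_one]
        rfl
      map_mul' := fun g h => by
        apply LinearMap.ext
        intro m
        apply Subtype.ext
        rw [LinearMap.restrict_coe_apply, map_mul]
        rfl }
  have hσ : ∀ (g : G) (m : LinearMap.ker π), ((σ g m : LinearMap.ker π) : XX G n →₀ ℤ) = τ g m :=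
    fun g m => rfl
  -- invariant lifts
  have hlift : ∀ (H : Subgroup G) (a : A), a ∈ inv ρ H →
      ∃ m1 : XX G n →₀ ℤ, π m1 = a ∧ ∀ h ∈ H, τ h m1 = m1 := by
    intro H a ha
    have h1 : (⟨a, ha⟩ : inv ρ H) ∈ Submodule.span ℤ (Set.range (gen H)) := by
      rw [hgen H]
      exact Submodule.mem_top
    rw [Submodule.mem_span_range_iff_exists_fun] at h1
    obtain ⟨z, hz⟩ := h1
    refine ⟨∑ j, Finsupp.single (XX.mk H j (QuotientGroup.mk 1 : G ⧸ H) : XX G n) (z j), ?_, ?_⟩
    · rw [map_sum]
      have h2 := congrArg (fun w : inv ρ H => (w : A)) hz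
      simp only [Submodule.coe_sum, Submodule.coe_smul] at h2
      rw [← h2]
      refine Finset.sum_congr rfl fun j _ => ?_
      rw [hπsingle, hv, vv_mk, map_one]
      rfl
    · intro h hh
      rw [map_sum]
      refine Finset.sum_congr rfl fun j _ => ?_
      rw [hτ, permRep_single, smul_XX]
      congr 2
      show (QuotientGroup.mk (h * 1) : G ⧸ H) = QuotientGroup.mk 1
      exact QuotientGroup.eq.2 (by simpa using H.inv_mem hh)
  have hsurj : Function.Surjective π := by
    intro a
    obtain ⟨m1, hm1, -⟩ := hlift ⊥ a (by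
      intro h hh
      rw [Subgroup.mem_bot] at hh
      rw [hh, map_one]
      rfl)
    exact ⟨m1, hm1⟩
  refine ⟨LinearMap.ker π, inferInstance, (XX G n →₀ ℤ), inferInstance, inferInstance,
    inferInstance, inferInstance, inferInstance, σ, τ, (LinearMap.ker π).subtype, π,
    fun g m => rfl, hequiv, Subtype.val_injective, hsurj, Submodule.range_subtype _, ?_, ?_⟩
  · refine ⟨XX G n, Finsupp.basisSingleOne, fun g x => ⟨g • x, ?_⟩⟩
    rw [Finsupp.coe_basisSingleOne, hτ, permRep_single]
  · intro H f hf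
    haveI : Finite H := inferInstance
    have hcoc : ∀ a b : H, ((f (a * b) : LinearMap.ker π) : XX G n →₀ ℤ) =
        (f a : XX G n →₀ ℤ) + permRep G (XX G n) (a : G) (f b : XX G n →₀ ℤ) := by
      intro a b
      rw [hf a b, Submodule.coe_add, hσ]
    obtain ⟨m0, hm0⟩ := h1_perm_trivial H (fun a => (f a : XX G n →₀ ℤ)) hcoc
    have hm0inv : π m0 ∈ inv ρ H := by
      intro h hh
      have h1 := hm0 ⟨h, hh⟩
      have h2 : π ((f ⟨h, hh⟩ : LinearMap.ker π) : XX G n →₀ ℤ) = 0 := (f ⟨h, hh⟩).2
      simp only at h1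
      rw [h1, map_sub, ← hτ, hequiv] at h2
      exact sub_eq_zero.1 h2
    obtain ⟨m1, hm1, hm1inv⟩ := hlift H (π m0) hm0inv
    have hmem : m0 - m1 ∈ LinearMap.ker π := by
      rw [LinearMap.mem_ker, map_sub, hm1, sub_self]
    refine ⟨⟨m0 - m1, hmem⟩, fun a => ?_⟩
    apply Subtype.ext
    rw [Submodule.coe_sub, hσ]
    show (f a : XX G n →₀ ℤ) = τ (a : G) (m0 - m1) - (m0 - m1)
    rw [map_sub, hm1inv a a.2, hm0 a]
    simp only [hτ]
    abel

end construction

end Groth.Agent.Lib.CoflasqueH3
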