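import Groth.Agent.Lib.IndHom_helper9
import Groth.Prelude.Def_ComodSub
import Mathlib

/-!
# Comodules: pullbacks of cofree comodules and Serre's `N°` construction (helper1)

General lemmas over a commutative ring `R` and an `R`-coalgebra `C`:
* `dInd M : Ind M → Ind (Ind M)`, whose kernel is the image of the coaction `M → Ind M`;
* for a linear map `θ : L → M` into a comodule, the subcomodule `KK C θ` of the cofree comodule
  `Ind L` (the pullback of `Ind L → Ind M ← M`) and the map `beta C θ : Ind L → M`, which is a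
  comodule map on `KK C θ` with image `{x | ρ x ∈ range (θ ⊗ id)}`;
* `circ N = {v | ρ v ∈ N ⊗ C}` (Serre's `N°`), a subcomodule contained in `N`.
-/

set_option autoImplicit false
set_option maxHeartbeats 1000000
universe u v w w'

open TensorProduct

namespace Groth.Agent.Lib.CofreeResH1

open Groth.Agent.Lib.Comod_helper9 Groth.Agent.Lib.IndHom_helper9

section Basic

variable {R : Type u} [CommRing R] {C : Type v} [AddCommGroup C] [Module R C] [Coalgebra R C]

theorem isComodHom_sub {V : Type w} {W : Type w'} [AddCommGroup V] [Module R V]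
    [HopfRep.Comod R C V] [AddCommGroup W] [Module R W] [HopfRep.Comod R C W] (f g : V →ₗ[R] W)
    (hf : Hoch.IsComodHom C f) (hg : Hoch.IsComodHom C g) : Hoch.IsComodHom C (f - g) := by
  unfold Hoch.IsComodHom at *
  rw [LinearMap.comp_sub, hf, hg, LinearMap.rTensor_sub, LinearMap.sub_comp]

theorem counit_toInd (V : Type w) [AddCommGroup V] [Module R V] [c : HopfRep.Comod R C V] (v : V) :
    Hoch.Ind.counit R C V (Hoch.toInd R C V v) = v := by
  have h1 := LinearMap.congr_fun c.counit_comp v
  simp only [LinearMap.comp_apply, LinearMap.flip_apply, TensorProduct.mk_apply] at h1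
  show (TensorProduct.rid R V) ((Coalgebra.counit (R := R) (A := C)).lTensor V (c.coact v)) = v
  rw [h1, TensorProduct.rid_tmul, one_smul]

theorem counit_indMap {P : Type w} {Q : Type w'} [AddCommGroup P] [Module R P] [AddCommGroup Q]
    [Module R Q] (g : P →ₗ[R] Q) (y : Hoch.Ind R C P) :
    Hoch.Ind.counit R C Q (indMap (C := C) g y) = g (Hoch.Ind.counit R C P y) := by
  obtain ⟨y', rfl⟩ := (Hoch.Ind.equiv R C P).surjective y
  induction y' using TensorProduct.induction_on with
  | zero => simp
  | add a b ha hb => simp only [map_add, ha, hb]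
  | tmul p c =>
    have h : indMap (C := C) g (Hoch.Ind.equiv R C P (p ⊗ₜ[R] c)) =
        Hoch.Ind.equiv R C Q (g p ⊗ₜ[R] c) := rfl
    rw [h, Hoch.Ind.counit_equiv_tmul, Hoch.Ind.counit_equiv_tmul, map_smul]

/-- `(l ⊗ c₀) ⊗ c₁ ↦ ε(c₀) l ⊗ c₁`, on plain tensor products -/
noncomputable def sig (L : Type w) [AddCommGroup L] [Module R L] :
    (L ⊗[R] C) ⊗[R] C →ₗ[R] L ⊗[R] C :=
  ((TensorProduct.rid R L).toLinearMap ∘ₗ
    (Coalgebra.counit (R := R) (A := C)).lTensor L).rTensor C

theorem sig_tmul (L : Type w) [AddCommGroup L] [Module R L] (l : L) (c₀ c₁ : C) :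
    sig (C := C) L ((l ⊗ₜ[R] c₀) ⊗ₜ[R] c₁) =
      Coalgebra.counit (R := R) c₀ • (l ⊗ₜ[R] c₁) := by
  show ((TensorProduct.rid R L).toLinearMap ∘ₗ
    (Coalgebra.counit (R := R) (A := C)).lTensor L).rTensor C ((l ⊗ₜ[R] c₀) ⊗ₜ[R] c₁) = _
  rw [LinearMap.rTensor_tmul, LinearMap.comp_apply, LinearMap.lTensor_tmul, LinearEquiv.coe_coe,
    TensorProduct.rid_tmul, TensorProduct.smul_tmul']

theorem sig_assoc_symm (L : Type w) [AddCommGroup L] [Module R L] (l : L) (t : C ⊗[R] C) :
    sig (C := C) L ((TensorProduct.assoc R L C C).symm (l ⊗ₜ[R] t)) =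
      l ⊗ₜ[R] (TensorProduct.lid R C ((Coalgebra.counit (R := R) (A := C)).rTensor C t)) := by
  induction t using TensorProduct.induction_on with
  | zero => simp
  | add x y hx hy => simp only [TensorProduct.tmul_add, map_add, hx, hy]
  | tmul b c =>
    rw [TensorProduct.assoc_symm_tmul, sig_tmul, LinearMap.rTensor_tmul, TensorProduct.lid_tmul,
      TensorProduct.tmul_smul]

theorem sig_coactAux (L : Type w) [AddCommGroup L] [Module R L] (v : L ⊗[R] C) :
    sig (C := C) L (Hoch.Ind.coactAux R C L v) = v := by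
  induction v using TensorProduct.induction_on with
  | zero => simp
  | add x y hx hy => simp only [map_add, hx, hy]
  | tmul p a =>
    rw [Hoch.Ind.coactAux_tmul, sig_assoc_symm]
    have h2 : (Coalgebra.counit (R := R) (A := C)).rTensor C
        (Coalgebra.comul (R := R) a) = (1 : R) ⊗ₜ[R] a := Coalgebra.rTensor_counit_comul a
    rw [h2, TensorProduct.lid_tmul, one_smul]

theorem counit_rTensor_eq_sig (L : Type w) [AddCommGroup L] [Module R L] :
    (Hoch.Ind.counit R C L).rTensor C = sig (C := C) L := rfl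

theorem counit_rTensor_coact (L : Type w) [AddCommGroup L] [Module R L] (z : Hoch.Ind R C L) :
    (Hoch.Ind.counit R C L).rTensor C (HopfRep.Comod.coact (k := R) (A := C) z) =
      (Hoch.Ind.equiv R C L).symm z := by
  rw [counit_rTensor_eq_sig]
  exact sig_coactAux L z

end Basic

section DInd

variable {R : Type u} [CommRing R] {C : Type v} [AddCommGroup C] [Module R C] [Coalgebra R C]
variable (M : Type w) [AddCommGroup M] [Module R M] [cM : HopfRep.Comod R C M]

/-- the difference of the two comodule maps `Ind M → Ind (Ind M)` -/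
noncomputable def dInd : Hoch.Ind R C M →ₗ[R] Hoch.Ind R C (Hoch.Ind R C M) :=
  indMap (C := C) (Hoch.toInd R C M) - Hoch.toInd R C (Hoch.Ind R C M)

theorem isComodHom_dInd : Hoch.IsComodHom C (dInd (R := R) (C := C) M) :=
  isComodHom_sub _ _ (isComodHom_indMap _) (isComodHom_toInd _)

theorem dInd_toInd (x : M) : dInd (R := R) (C := C) M (Hoch.toInd R C M x) = 0 := by
  rw [dInd, LinearMap.sub_apply, sub_eq_zero]
  have h := isComodHom_apply (isComodHom_toInd (k := R) (C := C) M) x
  exact h.symm

theorem eq_toInd_of_dInd_eq_zero (y : Hoch.Ind R C M) (hy : dInd (R := R) (C := C) M y = 0) :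
    y = Hoch.toInd R C M (Hoch.Ind.counit R C M y) := by
  have h : indMap (C := C) (Hoch.toInd R C M) y = Hoch.toInd R C (Hoch.Ind R C M) y := by
    have h0 := hy
    rw [dInd, LinearMap.sub_apply, sub_eq_zero] at h0
    exact h0
  have h2 := congrArg (Hoch.Ind.counit R C (Hoch.Ind R C M)) h
  rw [counit_indMap, counit_toInd] at h2
  exact h2.symm

end DInd

section KK

variable {R : Type u} [CommRing R] (C : Type v) [AddCommGroup C] [Module R C] [Coalgebra R C]
variable {M : Type w} [AddCommGroup M] [Module R M] [cM : HopfRep.Comod R C M]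
variable {L : Type w'} [AddCommGroup L] [Module R L] (θ : L →ₗ[R] M)

/-- the pullback of `Ind L → Ind M ← M`, as a submodule of `Ind L` -/
noncomputable def KK : Submodule R (Hoch.Ind R C L) :=
  LinearMap.ker (dInd (R := R) (C := C) M ∘ₗ indMap (C := C) θ)

theorem isSubcomod_KK [Module.Flat R C] : HopfRep.IsSubcomod (k := R) (A := C) (KK C θ) :=
  isSubcomod_ker _ (isComodHom_comp _ _ (isComodHom_dInd M) (isComodHom_indMap θ))

/-- the projection of the pullback to `M` (defined on all of `Ind L`) -/
noncomputable def beta : Hoch.Ind R C L →ₗ[R] M := θ ∘ₗ Hoch.Ind.counit R C L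

theorem beta_apply (z : Hoch.Ind R C L) : beta C θ z = θ (Hoch.Ind.counit R C L z) := rfl

theorem toInd_beta (z : Hoch.Ind R C L) (hz : z ∈ KK C θ) :
    Hoch.toInd R C M (beta C θ z) = indMap (C := C) θ z := by
  have hz' : dInd (R := R) (C := C) M (indMap (C := C) θ z) = 0 := by
    have h0 := hz
    rw [KK, LinearMap.mem_ker, LinearMap.comp_apply] at h0
    exact h0
  have h := eq_toInd_of_dInd_eq_zero M (indMap (C := C) θ z) hz'
  rw [counit_indMap] at h
  exact h.symm

theorem beta_rTensor_coact (z : Hoch.Ind R C L) :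
    (beta C θ).rTensor C (HopfRep.Comod.coact (k := R) (A := C) z) =
      θ.rTensor C ((Hoch.Ind.equiv R C L).symm z) := by
  rw [beta, LinearMap.rTensor_comp, LinearMap.comp_apply, counit_rTensor_coact]

/-- `beta` is a comodule map on the pullback -/
theorem coact_beta (z : Hoch.Ind R C L) (hz : z ∈ KK C θ) :
    HopfRep.Comod.coact (k := R) (A := C) (beta C θ z) =
      (beta C θ).rTensor C (HopfRep.Comod.coact (k := R) (A := C) z) := by
  rw [beta_rTensor_coact]
  exact toInd_beta C θ z hz

theorem exists_mem_KK_beta_eq (x : M)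
    (hx : HopfRep.Comod.coact (k := R) (A := C) x ∈ LinearMap.range (θ.rTensor C)) :
    ∃ z ∈ KK C θ, beta C θ z = x := by
  obtain ⟨t, ht⟩ := hx
  have h1 : indMap (C := C) θ (Hoch.Ind.equiv R C L t) = Hoch.toInd R C M x := by
    show Hoch.Ind.equiv R C M (θ.rTensor C t) =
      Hoch.Ind.equiv R C M (HopfRep.Comod.coact (k := R) (A := C) x)
    rw [ht]
  refine ⟨Hoch.Ind.equiv R C L t, ?_, ?_⟩
  · rw [KK, LinearMap.mem_ker, LinearMap.comp_apply, h1]
    exact dInd_toInd M x
  · have h2 := counit_indMap (C := C) θ (Hoch.Ind.equiv R C L t)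
    rw [h1, counit_toInd] at h2
    exact h2.symm

end KK

section Circ

variable {R : Type u} [CommRing R] (C : Type v) [AddCommGroup C] [Module R C] [Coalgebra R C]
variable {V : Type w} [AddCommGroup V] [Module R V] [cV : HopfRep.Comod R C V]

/-- Serre's `N° = {v | ρ v ∈ N ⊗ C}` -/
noncomputable def circ (N : Submodule R V) : Submodule R V :=
  LinearMap.ker (indMap (C := C) N.mkQ ∘ₗ Hoch.toInd R C V)

theorem mem_circ_iff (N : Submodule R V) (v : V) :
    v ∈ circ C N ↔
      HopfRep.Comod.coact (k := R) (A := C) v ∈ LinearMap.range (N.subtype.rTensor C) := by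
  have hex : Function.Exact (N.subtype.rTensor C) (N.mkQ.rTensor C) :=
    rTensor_exact C (LinearMap.exact_subtype_mkQ N) (Submodule.mkQ_surjective N)
  have h : ∀ v : V, (indMap (C := C) N.mkQ ∘ₗ Hoch.toInd R C V) v =
      N.mkQ.rTensor C (HopfRep.Comod.coact (k := R) (A := C) v) := fun v => rfl
  rw [circ, LinearMap.mem_ker, h]
  constructor
  · intro h0
    exact (hex _).mp h0
  · intro h0
    exact (hex _).mpr h0

theorem isSubcomod_circ [Module.Flat R C] (N : Submodule R V) :
    HopfRep.IsSubcomod (k := R) (A := C) (circ C N) :=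
  isSubcomod_ker _ (isComodHom_comp _ _ (isComodHom_indMap _) (isComodHom_toInd V))

theorem circ_le (N : Submodule R V) : circ C N ≤ N := by
  intro v hv
  rw [circ, LinearMap.mem_ker] at hv
  have hv' : N.mkQ.rTensor C (cV.coact v) = (0 : (V ⧸ N) ⊗[R] C) := hv
  have h1 := LinearMap.congr_fun cV.counit_comp v
  simp only [LinearMap.comp_apply, LinearMap.flip_apply, TensorProduct.mk_apply] at h1
  have e : (Coalgebra.counit (R := R) (A := C)).lTensor (V ⧸ N) ∘ₗ N.mkQ.rTensor C =
      N.mkQ.rTensor R ∘ₗ (Coalgebra.counit (R := R) (A := C)).lTensor V := by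
    rw [LinearMap.lTensor_comp_rTensor, LinearMap.rTensor_comp_lTensor]
  have h2 : (Coalgebra.counit (R := R) (A := C)).lTensor (V ⧸ N)
      (N.mkQ.rTensor C (cV.coact v)) =
      N.mkQ.rTensor R ((Coalgebra.counit (R := R) (A := C)).lTensor V (cV.coact v)) :=
    LinearMap.congr_fun e (cV.coact v)
  rw [hv', map_zero, h1, LinearMap.rTensor_tmul] at h2
  have h3 := congrArg (TensorProduct.rid R (V ⧸ N)) h2
  rw [map_zero, TensorProduct.rid_tmul, one_smul] at h3
  exact (Submodule.Quotient.mk_eq_zero N).mp h3.symm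

omit [Coalgebra R C] cV in
theorem range_rTensor_mono {N N' : Submodule R V} (h : N ≤ N') :
    LinearMap.range (N.subtype.rTensor C) ≤ LinearMap.range (N'.subtype.rTensor C) := by
  rintro _ ⟨t, rfl⟩
  refine ⟨(Submodule.inclusion h).rTensor C t, ?_⟩
  rw [← LinearMap.comp_apply, ← LinearMap.rTensor_comp, Submodule.subtype_comp_inclusion]

/-- the first tensor components of the coactions of finitely many elements of a subcomodule
can be taken in the subcomodule -/
theorem exists_finset_components (K : Submodule R V)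
    (hK : HopfRep.IsSubcomod (k := R) (A := C) K) (Z : Finset V) (hZ : (↑Z : Set V) ⊆ K) :
    ∃ T : Finset V, (↑T : Set V) ⊆ K ∧ ∀ z ∈ Z, HopfRep.Comod.coact (k := R) (A := C) z ∈
      LinearMap.range ((Submodule.span R (T : Set V)).subtype.rTensor C) := by
  classical
  have key : ∀ z : V, ∃ T : Finset V, z ∈ K → ((↑T : Set V) ⊆ K ∧
      HopfRep.Comod.coact (k := R) (A := C) z ∈
        LinearMap.range ((Submodule.span R (T : Set V)).subtype.rTensor C)) := by
    intro z
    by_cases hz : z ∈ K
    · obtain ⟨t, ht⟩ := hK z hz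
      obtain ⟨S, hS⟩ := TensorProduct.exists_finset t
      refine ⟨S.image (fun i => ((i.1 : K) : V)), fun _ => ⟨?_, ?_⟩⟩
      · intro x hx
        rw [Finset.coe_image] at hx
        obtain ⟨i, -, rfl⟩ := hx
        exact i.1.2
      · rw [← ht, hS, map_sum]
        refine Submodule.sum_mem _ fun i hi => ?_
        rw [LinearMap.rTensor_tmul, Submodule.subtype_apply]
        have hmem : ((i.1 : K) : V) ∈ Submodule.span R
            (↑(S.image (fun i => ((i.1 : K) : V))) : Set V) := by
          apply Submodule.subset_span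
          rw [Finset.coe_image]
          exact ⟨i, hi, rfl⟩
        refine ⟨(⟨((i.1 : K) : V), hmem⟩ : Submodule.span R
            (↑(S.image (fun i => ((i.1 : K) : V))) : Set V)) ⊗ₜ[R] i.2, ?_⟩
        rw [LinearMap.rTensor_tmul]
        rfl
    · exact ⟨∅, fun h => absurd h hz⟩
  choose Tz hTz using key
  refine ⟨Z.biUnion Tz, ?_, ?_⟩
  · intro x hx
    rw [Finset.coe_biUnion, Set.mem_iUnion₂] at hx
    obtain ⟨z, hz, hxz⟩ := hx
    exact (hTz z (hZ hz)).1 hxz
  · intro z hz
    refine range_rTensor_mono C (Submodule.span_mono ?_) (hTz z (hZ hz)).2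
    intro x hx
    rw [Finset.coe_biUnion, Set.mem_iUnion₂]
    exact ⟨z, hz, hx⟩

end Circ

end Groth.Agent.Lib.CofreeResH1
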