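import Groth.Agent.Lib.RegDimTwo1_helper1
import Groth.Agent.Lib.RegHomField_helper3

/-!
# Finitely generated projective hulls inside flat modules over a regular ring of dimension `≤ 2`
(helper1)
-/

set_option autoImplicit false
set_option maxHeartbeats 1000000
universe u

namespace Groth.Agent.Lib.RegDimTwoH1

open IsLocalRing

section MinPrime

variable {R : Type u} [CommRing R] [IsReduced R]

theorem isField_localization_minimalPrime (p : Ideal R) [p.IsPrime] (hp : p ∈ minimalPrimes R) :
    IsField (Localization.AtPrime p) := by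
  rw [IsLocalRing.isField_iff_maximalIdeal_eq]
  have h := IsLocalization.AtPrime.radical_map_of_mem_minimalPrimes
    (A := Localization.AtPrime p) p ⊥ hp
  rw [Ideal.map_bot, Localization.AtPrime.map_eq_maximalIdeal,
    Ideal.radical_bot_of_isReduced] at h
  exact h.symm

/-- an element killed by all functionals vanishing on a submodule is generically in it -/
theorem exists_smul_mem_of_forall_dual {L : Type u} [AddCommGroup L] [Module R L]
    (W0 : Submodule R L) [Module.FinitePresentation R (L ⧸ W0)]
    (z : L) (hz : ∀ φ : Module.Dual R L, (∀ w ∈ W0, φ w = 0) → φ z = 0)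
    (p : Ideal R) (hp : p ∈ minimalPrimes R) : ∃ s : R, s ∉ p ∧ s • z ∈ W0 := by
  haveI : p.IsPrime := Ideal.minimalPrimes_isPrime hp
  by_contra hcon
  push Not at hcon
  have hF : IsField (Localization.AtPrime p) := isField_localization_minimalPrime p hp
  letI : Field (Localization.AtPrime p) := hF.toField
  have hne : LocalizedModule.mkLinearMap p.primeCompl (L ⧸ W0) (W0.mkQ z) ≠ 0 := by
    intro h0
    obtain ⟨s, hs⟩ := (IsLocalizedModule.eq_zero_iff p.primeCompl
      (LocalizedModule.mkLinearMap p.primeCompl (L ⧸ W0))).mp h0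
    refine hcon s.1 s.2 ((Submodule.Quotient.mk_eq_zero W0).mp ?_)
    rw [Submodule.Quotient.mk_smul]
    exact hs
  obtain ⟨ψ, hψ⟩ : ∃ ψ : Module.Dual (Localization.AtPrime p)
      (LocalizedModule p.primeCompl (L ⧸ W0)),
      ψ (LocalizedModule.mkLinearMap p.primeCompl (L ⧸ W0) (W0.mkQ z)) ≠ 0 := by
    by_contra h
    push Not at h
    exact hne ((Module.forall_dual_apply_eq_zero_iff (Localization.AtPrime p) _).mp h)
  let g : (L ⧸ W0) →ₗ[R] Localization.AtPrime p :=
    (ψ.restrictScalars R) ∘ₗ LocalizedModule.mkLinearMap p.primeCompl (L ⧸ W0)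
  obtain ⟨h, s, hs⟩ := Module.FinitePresentation.exists_lift_of_isLocalizedModule p.primeCompl
    (Algebra.linearMap R (Localization.AtPrime p)) g
  have hφ := hz (h ∘ₗ W0.mkQ) (fun w hw => by
    rw [LinearMap.comp_apply, Submodule.mkQ_apply, (Submodule.Quotient.mk_eq_zero W0).mpr hw,
      map_zero])
  have h2 := LinearMap.congr_fun hs (W0.mkQ z)
  rw [LinearMap.comp_apply] at hφ
  rw [LinearMap.comp_apply, hφ, map_zero, LinearMap.smul_apply] at h2
  have h3 : (s : R) • g (W0.mkQ z) = 0 := h2.symm
  rw [Algebra.smul_def] at h3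
  have hu : IsUnit (algebraMap R (Localization.AtPrime p) (s : R)) :=
    IsLocalization.map_units (Localization.AtPrime p) s
  exact hψ (hu.mul_right_eq_zero.mp h3)

end MinPrime

section Hull

variable (R : Type u) [CommRing R] [IsRegularRing R]

/-- every finitely generated submodule of a flat module over a regular ring of dimension `≤ 2`
is contained in a finitely generated projective submodule -/
theorem exists_projective_hull (hdim : ringKrullDim R ≤ 2)
    (M : Type u) [AddCommGroup M] [Module R M] [Module.Flat R M] (W : Submodule R M) (hW : W.FG) :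
    ∃ N : Submodule R M, W ≤ N ∧ N.FG ∧ Module.Projective R N := by
  haveI : IsReduced R := Groth.Agent.Lib.RegHomFieldH3.isReduced_of_isRegularRing R
  haveI : Module.Finite R W := Module.Finite.iff_fg.mpr hW
  haveI : Module.FinitePresentation R W := Module.finitePresentation_of_finite R W
  obtain ⟨k, h1, h2, h12⟩ := Module.Flat.exists_factorization_of_finitePresentation
    (R := R) (M := M) W.subtype
  obtain ⟨Ann, hAnn⟩ : ∃ Ann : Submodule R (Module.Dual R (Fin k →₀ R)),
      Ann = LinearMap.ker h1.dualMap := ⟨_, rfl⟩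
  have hAnnfg : Ann.FG := IsNoetherian.noetherian Ann
  obtain ⟨n, Φs, hΦs⟩ := Submodule.fg_iff_exists_fin_generating_family.mp hAnnfg
  have hmemAnn : ∀ φ : Module.Dual R (Fin k →₀ R), φ ∈ Ann ↔ ∀ w : W, φ (h1 w) = 0 := by
    intro φ
    rw [hAnn, LinearMap.mem_ker]
    constructor
    · intro h w
      have := LinearMap.congr_fun h w
      rwa [LinearMap.dualMap_apply] at this
    · intro h
      apply LinearMap.ext
      intro w
      rw [LinearMap.dualMap_apply]
      exact h w
  obtain ⟨Φ, hΦ⟩ : ∃ Φ : (Fin k →₀ R) →ₗ[R] (Fin n → R), Φ = LinearMap.pi Φs := ⟨_, rfl⟩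
  have hΦapp : ∀ z i, Φ z i = Φs i z := fun z i => by rw [hΦ]; rfl
  have ha : ∀ w : W, h1 w ∈ LinearMap.ker Φ := by
    intro w
    rw [LinearMap.mem_ker]
    funext i
    rw [hΦapp]
    have h3 : Φs i ∈ Ann := by
      rw [← hΦs]
      exact Submodule.subset_span ⟨i, rfl⟩
    exact (hmemAnn _).mp h3 w
  have hb : ∀ φ ∈ Ann, ∀ z ∈ LinearMap.ker Φ, φ z = 0 := by
    intro φ hφ z hz
    rw [← hΦs] at hφ
    rw [LinearMap.mem_ker] at hz
    induction hφ using Submodule.span_induction with
    | mem x hx =>
      obtain ⟨i, rfl⟩ := hx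
      rw [← hΦapp, hz]
      rfl
    | zero => rfl
    | add x y _ _ hx hy => rw [LinearMap.add_apply, hx, hy, add_zero]
    | smul a x _ hx => rw [LinearMap.smul_apply, hx, smul_zero]
  haveI : Module.Finite R (LinearMap.ker Φ) :=
    Module.Finite.iff_fg.mpr (IsNoetherian.noetherian (LinearMap.ker Φ))
  have hproj : Module.Projective R (LinearMap.ker Φ) :=
    projective_ker_of_flat R hdim (Fin k →₀ R) (Fin n → R) Φ
  haveI : Module.FinitePresentation R ((Fin k →₀ R) ⧸ LinearMap.range h1) :=
    Module.finitePresentation_of_finite R _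
  have hinj : ∀ z ∈ LinearMap.ker Φ, h2 z = 0 → z = 0 := by
    intro z hzP hz2
    have key : ∀ p ∈ minimalPrimes R, ∃ s : R, s ∉ p ∧ s • z = 0 := by
      intro p hp
      obtain ⟨s, hsp, hsz⟩ := exists_smul_mem_of_forall_dual (LinearMap.range h1) z
        (fun φ hφ => hb φ ((hmemAnn φ).mpr fun w => hφ _ ⟨w, rfl⟩) z hzP) p hp
      obtain ⟨w, hw⟩ := hsz
      have h4 : W.subtype w = 0 := by
        rw [h12, LinearMap.comp_apply, hw, map_smul, hz2, smul_zero]
      have hw0 : w = 0 := Subtype.ext h4
      exact ⟨s, hsp, by rw [← hw, hw0, map_zero]⟩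
    ext i
    have hi : z i ∈ sInf (minimalPrimes R) := by
      rw [Ideal.mem_sInf]
      intro p hp
      obtain ⟨s, hsp, hsz⟩ := key p hp
      haveI : p.IsPrime := Ideal.minimalPrimes_isPrime hp
      have h5 : s * z i = 0 := by
        have := DFunLike.congr_fun hsz i
        simpa using this
      have h6 : s * z i ∈ p := by rw [h5]; exact p.zero_mem
      exact (Ideal.IsPrime.mem_or_mem ‹p.IsPrime› h6).resolve_left hsp
    rw [minimalPrimes, Ideal.sInf_minimalPrimes, Ideal.radical_bot_of_isReduced,
      Ideal.mem_bot] at hi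
    rw [hi]
    rfl
  have hinj' : Function.Injective (h2 ∘ₗ (LinearMap.ker Φ).subtype) := by
    refine (injective_iff_map_eq_zero _).mpr ?_
    intro z hz
    exact Subtype.ext (hinj z.1 z.2 hz)
  refine ⟨LinearMap.range (h2 ∘ₗ (LinearMap.ker Φ).subtype), ?_, ?_, ?_⟩
  · intro w hw
    refine ⟨⟨h1 ⟨w, hw⟩, ha ⟨w, hw⟩⟩, ?_⟩
    rw [LinearMap.comp_apply, Submodule.subtype_apply]
    have := LinearMap.congr_fun h12 ⟨w, hw⟩
    rw [LinearMap.comp_apply, Submodule.subtype_apply] at this
    exact this.symm
  · rw [LinearMap.range_eq_map]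
    exact Submodule.FG.map _ Module.Finite.fg_top
  · exact Module.Projective.of_equiv (LinearEquiv.ofInjective _ hinj')

end Hull

end Groth.Agent.Lib.RegDimTwoH1
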