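import Groth.Agent.Lib.CofreeRes1_helper1
import Groth.Agent.Lib.RegDimTwo2_helper1

/-!
# Finitely generated comodules over a projective coalgebra over a regular ring of dimension `≤ 2`
are quotients of finitely generated projective comodules (helper1)
-/

set_option autoImplicit false
set_option maxHeartbeats 1000000
universe u v

namespace Groth.Agent.Lib.CofreeResH1

open TensorProduct
open Groth.Agent.Lib.Comod_helper9 Groth.Agent.Lib.IndHom_helper9
open Groth.Agent.Lib.RegDimTwoH1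

section Tors

/-- an element of a flat module over a reduced Noetherian ring which is killed generically at
every minimal prime is zero -/
theorem eq_zero_of_forall_minimalPrimes_smul {R : Type u} [CommRing R] [IsNoetherianRing R]
    [IsReduced R] {Y : Type v} [AddCommGroup Y] [Module R Y] [Module.Flat R Y] (y : Y)
    (h : ∀ p ∈ minimalPrimes R, ∃ s : R, s ∉ p ∧ s • y = 0) : y = 0 := by
  classical
  obtain ⟨J, hJ⟩ : ∃ J : Ideal R, J = LinearMap.ker (LinearMap.toSpanSingleton R Y y) := ⟨_, rfl⟩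
  have hJmem : ∀ r, r ∈ J ↔ r • y = 0 := by
    intro r
    rw [hJ, LinearMap.mem_ker, LinearMap.toSpanSingleton_apply]
  have hJfg : J.FG := IsNoetherian.noetherian J
  obtain ⟨n, rs, hrs⟩ := Submodule.fg_iff_exists_fin_generating_family.mp hJfg
  have hrsJ : ∀ i, rs i ∈ J := fun i => by
    rw [← hrs]
    exact Submodule.subset_span ⟨i, rfl⟩
  obtain ⟨ν, hνdef⟩ : ∃ ν : R →ₗ[R] (Fin n → R),
      ν = LinearMap.pi (fun i => LinearMap.toSpanSingleton R R (rs i)) := ⟨_, rfl⟩
  have hν : ∀ t i, ν t i = t * rs i := fun t i => by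
    rw [hνdef]
    rfl
  have hνinj : Function.Injective ν := by
    refine (injective_iff_map_eq_zero ν).mpr ?_
    intro t ht
    have h1 : ∀ r ∈ J, t * r = 0 := by
      intro r hr
      rw [← hrs] at hr
      induction hr using Submodule.span_induction with
      | mem x hx =>
        obtain ⟨i, rfl⟩ := hx
        rw [← hν, ht]
        rfl
      | zero => rw [mul_zero]
      | add a b _ _ ha hb => rw [mul_add, ha, hb, add_zero]
      | smul a x _ hx => rw [smul_eq_mul, mul_left_comm, hx, mul_zero]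
    have h2 : t ∈ sInf (minimalPrimes R) := by
      rw [Ideal.mem_sInf]
      intro p hp
      obtain ⟨s, hsp, hsy⟩ := h p hp
      haveI : p.IsPrime := Ideal.minimalPrimes_isPrime hp
      have h3 : t * s ∈ p := by
        rw [h1 s ((hJmem s).mpr hsy)]
        exact p.zero_mem
      exact (Ideal.IsPrime.mem_or_mem ‹p.IsPrime› h3).resolve_right hsp
    rw [minimalPrimes, Ideal.sInf_minimalPrimes, Ideal.radical_bot_of_isReduced,
      Ideal.mem_bot] at h2
    exact h2
  have hinj2 : Function.Injective (ν.rTensor Y) :=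
    Module.Flat.rTensor_preserves_injective_linearMap ν hνinj
  have h0 : ν.rTensor Y ((1 : R) ⊗ₜ[R] y) = 0 := by
    rw [LinearMap.rTensor_tmul, pi_eq_sum_univ (ν 1), TensorProduct.sum_tmul]
    apply Finset.sum_eq_zero
    intro i _
    rw [TensorProduct.smul_tmul, hν, one_mul, (hJmem _).mp (hrsJ i), TensorProduct.tmul_zero]
  have h5 : (1 : R) ⊗ₜ[R] y = 0 := hinj2 (by rw [h0, map_zero])
  have h6 := congrArg (TensorProduct.lid R Y) h5
  rw [TensorProduct.lid_tmul, one_smul, map_zero] at h6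
  exact h6

end Tors

section Hull

variable (R : Type u) [CommRing R] [IsRegularRing R]

/-- every finitely generated submodule `W` of a flat module over a regular ring of dimension `≤ 2`
is contained in a finitely generated projective submodule `N`, with `N/W` generically zero -/
theorem exists_projective_hull' (hdim : ringKrullDim R ≤ 2)
    (M : Type u) [AddCommGroup M] [Module R M] [Module.Flat R M] (W : Submodule R M) (hW : W.FG) :
    ∃ N : Submodule R M, W ≤ N ∧ N.FG ∧ Module.Projective R N ∧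
      ∀ n ∈ N, ∀ p ∈ minimalPrimes R, ∃ s : R, s ∉ p ∧ s • n ∈ W := by
  haveI : IsReduced R := Groth.Agent.Lib.RegHomFieldH3.isReduced_of_isRegularRing R
  haveI : Module.Finite R W := Module.Finite.iff_fg.mpr hW
  haveI : Module.FinitePresentation R W := Module.finitePresentation_of_finite R W
  obtain ⟨k, h1, h2, h12⟩ := Module.Flat.exists_factorization_of_finitePresentation
    (R := R) (M := M) W.subtype
  obtain ⟨Ann, hAnn⟩ : ∃ Ann : Submodule R (Module.Dual R (Fin k →₀ R)),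
      Ann = LinearMap.ker h1.dualMap := ⟨_, rfl⟩
  have hAnnfg : Ann.FG := IsNoetherian.noetherian Ann
  obtain ⟨n, Φs, hΦs⟩ := Submodule.fg_iff_exists_fin_generating_family.mp hAnnfg
  have hmemAnn : ∀ φ : Module.Dual R (Fin k →₀ R), φ ∈ Ann ↔ ∀ w : W, φ (h1 w) = 0 := by
    intro φ
    rw [hAnn, LinearMap.mem_ker]
    constructor
    · intro h w
      have := LinearMap.congr_fun h w
      rwa [LinearMap.dualMap_apply] at this
    · intro h
      apply LinearMap.ext
      intro w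
      rw [LinearMap.dualMap_apply]
      exact h w
  obtain ⟨Φ, hΦ⟩ : ∃ Φ : (Fin k →₀ R) →ₗ[R] (Fin n → R), Φ = LinearMap.pi Φs := ⟨_, rfl⟩
  have hΦapp : ∀ z i, Φ z i = Φs i z := fun z i => by rw [hΦ]; rfl
  have ha : ∀ w : W, h1 w ∈ LinearMap.ker Φ := by
    intro w
    rw [LinearMap.mem_ker]
    funext i
    rw [hΦapp]
    have h3 : Φs i ∈ Ann := by
      rw [← hΦs]
      exact Submodule.subset_span ⟨i, rfl⟩
    exact (hmemAnn _).mp h3 w
  have hb : ∀ φ ∈ Ann, ∀ z ∈ LinearMap.ker Φ, φ z = 0 := by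
    intro φ hφ z hz
    rw [← hΦs] at hφ
    rw [LinearMap.mem_ker] at hz
    induction hφ using Submodule.span_induction with
    | mem x hx =>
      obtain ⟨i, rfl⟩ := hx
      rw [← hΦapp, hz]
      rfl
    | zero => rfl
    | add x y _ _ hx hy => rw [LinearMap.add_apply, hx, hy, add_zero]
    | smul a x _ hx => rw [LinearMap.smul_apply, hx, smul_zero]
  haveI : Module.Finite R (LinearMap.ker Φ) :=
    Module.Finite.iff_fg.mpr (IsNoetherian.noetherian (LinearMap.ker Φ))
  have hproj : Module.Projective R (LinearMap.ker Φ) :=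
    projective_ker_of_flat R hdim (Fin k →₀ R) (Fin n → R) Φ
  haveI : Module.FinitePresentation R ((Fin k →₀ R) ⧸ LinearMap.range h1) :=
    Module.finitePresentation_of_finite R _
  have hgen : ∀ z ∈ LinearMap.ker Φ, ∀ p ∈ minimalPrimes R, ∃ s : R, s ∉ p ∧
      ∃ w : W, h1 w = s • z := by
    intro z hzP p hp
    obtain ⟨s, hsp, hsz⟩ := exists_smul_mem_of_forall_dual (LinearMap.range h1) z
      (fun φ hφ => hb φ ((hmemAnn φ).mpr fun w => hφ _ ⟨w, rfl⟩) z hzP) p hp
    obtain ⟨w, hw⟩ := hsz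
    exact ⟨s, hsp, w, hw⟩
  have h12app : ∀ w : W, (w : M) = h2 (h1 w) := by
    intro w
    have := LinearMap.congr_fun h12 w
    rw [LinearMap.comp_apply, Submodule.subtype_apply] at this
    exact this
  have hinj : ∀ z ∈ LinearMap.ker Φ, h2 z = 0 → z = 0 := by
    intro z hzP hz2
    have key : ∀ p ∈ minimalPrimes R, ∃ s : R, s ∉ p ∧ s • z = 0 := by
      intro p hp
      obtain ⟨s, hsp, w, hw⟩ := hgen z hzP p hp
      have h4 : (w : M) = 0 := by
        rw [h12app, hw, map_smul, hz2, smul_zero]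
      have hw0 : w = 0 := Subtype.ext h4
      exact ⟨s, hsp, by rw [← hw, hw0, map_zero]⟩
    ext i
    have hi : z i ∈ sInf (minimalPrimes R) := by
      rw [Ideal.mem_sInf]
      intro p hp
      obtain ⟨s, hsp, hsz⟩ := key p hp
      haveI : p.IsPrime := Ideal.minimalPrimes_isPrime hp
      have h5 : s * z i = 0 := by
        have := DFunLike.congr_fun hsz i
        simpa using this
      have h6 : s * z i ∈ p := by rw [h5]; exact p.zero_mem
      exact (Ideal.IsPrime.mem_or_mem ‹p.IsPrime› h6).resolve_left hsp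
    rw [minimalPrimes, Ideal.sInf_minimalPrimes, Ideal.radical_bot_of_isReduced,
      Ideal.mem_bot] at hi
    rw [hi]
    rfl
  have hinj' : Function.Injective (h2 ∘ₗ (LinearMap.ker Φ).subtype) := by
    refine (injective_iff_map_eq_zero _).mpr ?_
    intro z hz
    exact Subtype.ext (hinj z.1 z.2 hz)
  refine ⟨LinearMap.range (h2 ∘ₗ (LinearMap.ker Φ).subtype), ?_, ?_, ?_, ?_⟩
  · intro w hw
    refine ⟨⟨h1 ⟨w, hw⟩, ha ⟨w, hw⟩⟩, ?_⟩
    rw [LinearMap.comp_apply, Submodule.subtype_apply]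
    exact (h12app ⟨w, hw⟩).symm
  · rw [LinearMap.range_eq_map]
    exact Submodule.FG.map _ Module.Finite.fg_top
  · exact Module.Projective.of_equiv (LinearEquiv.ofInjective _ hinj')
  · rintro _ ⟨l, rfl⟩ p hp
    obtain ⟨s, hsp, w, hw⟩ := hgen l.1 l.2 p hp
    refine ⟨s, hsp, ?_⟩
    rw [LinearMap.comp_apply, Submodule.subtype_apply, ← map_smul, ← hw, ← h12app]
    exact w.2

end Hull

section CircProj

/-- Serre's `N°` of a finitely generated projective submodule of a flat comodule is finitely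
generated and projective (regular base of dimension `≤ 2`, flat coalgebra) -/
theorem circ_fg_projective (R : Type u) [CommRing R] [IsRegularRing R]
    (hdim : ringKrullDim R ≤ 2)
    (C : Type u) [AddCommGroup C] [Module R C] [Coalgebra R C] [Module.Flat R C]
    (V : Type u) [AddCommGroup V] [Module R V] [cV : HopfRep.Comod R C V] [Module.Flat R V]
    (N : Submodule R V) (hNfg : N.FG) (hNproj : Module.Projective R N) :
    (circ C N).FG ∧ Module.Projective R (circ C N) := by
  have hWN : circ C N ≤ N := circ_le C N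
  have hWfg : (circ C N).FG := Submodule.FG.of_le hNfg hWN
  refine ⟨hWfg, ?_⟩
  obtain ⟨g, hgdef⟩ : ∃ g : ↥N ⊗[R] C →ₗ[R] V ⊗[R] C, g = N.subtype.rTensor C := ⟨_, rfl⟩
  have hg : Function.Injective g := by
    rw [hgdef]
    exact Module.Flat.rTensor_preserves_injective_linearMap _ N.injective_subtype
  obtain ⟨m, hmdef⟩ : ∃ m : V ⊗[R] C →ₗ[R] V, m = (TensorProduct.rid R V).toLinearMap ∘ₗ
      (Coalgebra.counit (R := R) (A := C)).lTensor V := ⟨_, rfl⟩
  have hmΔ : ∀ v : V, m (cV.coact v) = v := by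
    intro v
    have h1 := LinearMap.congr_fun cV.counit_comp v
    simp only [LinearMap.comp_apply, LinearMap.flip_apply, TensorProduct.mk_apply] at h1
    rw [hmdef, LinearMap.comp_apply, h1, LinearEquiv.coe_coe, TensorProduct.rid_tmul, one_smul]
  obtain ⟨φ, hφdef⟩ : ∃ φ : ↥N ⊗[R] C →ₗ[R] V ⊗[R] C,
      φ = g - cV.coact ∘ₗ m ∘ₗ g := ⟨_, rfl⟩
  have hφ : ∀ z, φ z = g z - cV.coact (m (g z)) := by
    intro z
    rw [hφdef]
    rfl
  obtain ⟨ψ, hψdef⟩ : ∃ ψ : LinearMap.ker φ →ₗ[R] V,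
      ψ = m ∘ₗ g ∘ₗ (LinearMap.ker φ).subtype := ⟨_, rfl⟩
  have hψ : ∀ z : LinearMap.ker φ, ψ z = m (g z.1) := by
    intro z
    rw [hψdef]
    rfl
  have hker : ∀ z : LinearMap.ker φ, g z.1 = cV.coact (ψ z) := by
    intro z
    have h := z.2
    rw [LinearMap.mem_ker, hφ, sub_eq_zero] at h
    rw [hψ]
    exact h
  have hψinj : Function.Injective ψ := by
    intro z z' hzz
    apply Subtype.ext
    apply hg
    rw [hker z, hker z', hzz]
  have hrange : LinearMap.range ψ = circ C N := by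
    ext a
    rw [mem_circ_iff]
    constructor
    · rintro ⟨z, rfl⟩
      refine ⟨z.1, ?_⟩
      rw [← hgdef]
      exact hker z
    · rintro ⟨z, hz⟩
      rw [← hgdef] at hz
      have hzk : z ∈ LinearMap.ker φ := by
        rw [LinearMap.mem_ker, hφ, hz]
        show cV.coact a - cV.coact (m (cV.coact a)) = 0
        rw [hmΔ, sub_self]
      refine ⟨⟨z, hzk⟩, ?_⟩
      rw [hψ]
      show m (g z) = a
      rw [hz]
      exact hmΔ a
  obtain ⟨e⟩ : Nonempty (LinearMap.ker φ ≃ₗ[R] circ C N) :=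
    ⟨(LinearEquiv.ofInjective ψ hψinj).trans (LinearEquiv.ofEq _ _ hrange)⟩
  haveI : Module.Finite R (circ C N) := Module.Finite.iff_fg.mpr hWfg
  haveI : Module.Finite R (LinearMap.ker φ) := Module.Finite.equiv e.symm
  haveI : Module.Projective R ↥N := hNproj
  have hKproj : Module.Projective R (LinearMap.ker φ) :=
    projective_ker_of_flat R hdim (↥N ⊗[R] C) (V ⊗[R] C) φ
  exact Module.Projective.of_equiv e

end CircProj

section Main

theorem main6082 (R : Type u) [CommRing R] [IsRegularRing R]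
    (hdim : ringKrullDim R ≤ 2) (C : Type u) [AddCommGroup C] [Module R C] [Coalgebra R C]
    [Module.Projective R C]
    (F : Type u) [AddCommGroup F] [Module R F] [cF : HopfRep.Comod R C F] [Module.Finite R F] :
    ∃ (V : Type u) (_ : AddCommGroup V) (_ : Module R V) (_ : HopfRep.Comod R C V)
      (φ : V →ₗ[R] F),
      Module.Finite R V ∧ Module.Projective R V ∧ Function.Surjective φ ∧
        HopfRep.Comod.coact (k := R) (A := C) ∘ₗ φ =
          φ.rTensor C ∘ₗ HopfRep.Comod.coact (k := R) (A := C) (V := V) := by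
  classical
  haveI : IsReduced R := Groth.Agent.Lib.RegHomFieldH3.isReduced_of_isRegularRing R
  -- Round 1
  obtain ⟨k1, π1, hπ1⟩ := Module.Finite.exists_fin' R F
  haveI hV1flat : Module.Flat R (Hoch.Ind R C (Fin k1 → R)) :=
    inferInstanceAs (Module.Flat R ((Fin k1 → R) ⊗[R] C))
  have hK1sub : HopfRep.IsSubcomod (k := R) (A := C) (KK C π1) := isSubcomod_KK C π1
  have hπ1r : LinearMap.range (π1.rTensor C) = ⊤ :=
    LinearMap.range_eq_top.mpr (LinearMap.rTensor_surjective C hπ1)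
  have hz1 : ∀ x : F, ∃ z ∈ KK C π1, beta C π1 z = x := by
    intro x
    exact exists_mem_KK_beta_eq C π1 x (by rw [hπ1r]; exact Submodule.mem_top)
  choose z1 hz1K hz1b using hz1
  obtain ⟨G1, hG1⟩ := (Module.Finite.fg_top : (⊤ : Submodule R F).FG)
  obtain ⟨T1, hT1K, hT1⟩ := exists_finset_components C (KK C π1) hK1sub (G1.image z1) (by
    intro z hz
    rw [Finset.coe_image] at hz
    obtain ⟨x, -, rfl⟩ := hz
    exact hz1K x)
  obtain ⟨N1, hN1⟩ : ∃ N1 : Submodule R (Hoch.Ind R C (Fin k1 → R)),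
      N1 = Submodule.span R (T1 : Set (Hoch.Ind R C (Fin k1 → R))) := ⟨_, rfl⟩
  have hN1K : N1 ≤ KK C π1 := by
    rw [hN1]
    exact Submodule.span_le.mpr hT1K
  have hN1fg : N1.FG := by
    rw [hN1]
    exact Submodule.fg_span T1.finite_toSet
  obtain ⟨E1, hE1⟩ : ∃ E1 : Submodule R (Hoch.Ind R C (Fin k1 → R)), E1 = circ C N1 := ⟨_, rfl⟩
  have hE1sub : HopfRep.IsSubcomod (k := R) (A := C) E1 := by
    rw [hE1]
    exact isSubcomod_circ C N1
  have hE1N1 : E1 ≤ N1 := by
    rw [hE1]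
    exact circ_le C N1
  have hE1fg : E1.FG := Submodule.FG.of_le hN1fg hE1N1
  have hz1E : ∀ x ∈ G1, z1 x ∈ E1 := by
    intro x hx
    rw [hE1, mem_circ_iff, hN1]
    exact hT1 (z1 x) (Finset.mem_image_of_mem z1 hx)
  -- Round 2
  haveI : Module.Finite R E1 := Module.Finite.iff_fg.mpr hE1fg
  obtain ⟨k2, π2, hπ2⟩ := Module.Finite.exists_fin' R E1
  obtain ⟨θ2, hθ2⟩ : ∃ θ2 : (Fin k2 → R) →ₗ[R] Hoch.Ind R C (Fin k1 → R),
      θ2 = E1.subtype ∘ₗ π2 := ⟨_, rfl⟩
  have hθ2app : ∀ a, θ2 a = (π2 a : Hoch.Ind R C (Fin k1 → R)) := by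
    intro a
    rw [hθ2]
    rfl
  haveI hV2flat : Module.Flat R (Hoch.Ind R C (Fin k2 → R)) :=
    inferInstanceAs (Module.Flat R ((Fin k2 → R) ⊗[R] C))
  have hK2sub : HopfRep.IsSubcomod (k := R) (A := C) (KK C θ2) := isSubcomod_KK C θ2
  have hz2 : ∀ w : Hoch.Ind R C (Fin k1 → R), ∃ z : Hoch.Ind R C (Fin k2 → R),
      w ∈ E1 → (z ∈ KK C θ2 ∧ beta C θ2 z = w) := by
    intro w
    by_cases hw : w ∈ E1
    · have h1 : HopfRep.Comod.coact (k := R) (A := C) w ∈ LinearMap.range (θ2.rTensor C) := by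
        obtain ⟨t, ht⟩ := hE1sub w hw
        obtain ⟨t', ht'⟩ := LinearMap.rTensor_surjective C hπ2 t
        refine ⟨t', ?_⟩
        rw [hθ2, LinearMap.rTensor_comp, LinearMap.comp_apply, ht', ht]
      obtain ⟨z, hzK, hzb⟩ := exists_mem_KK_beta_eq C θ2 w h1
      exact ⟨z, fun _ => ⟨hzK, hzb⟩⟩
    · exact ⟨0, fun h => absurd h hw⟩
  choose z2 hz2 using hz2
  obtain ⟨G2, hG2⟩ := hE1fg
  have hG2E : ∀ w ∈ G2, w ∈ E1 := by
    intro w hw
    rw [← hG2]
    exact Submodule.subset_span hw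
  obtain ⟨T2, hT2K, hT2⟩ := exists_finset_components C (KK C θ2) hK2sub (G2.image z2) (by
    intro z hz
    rw [Finset.coe_image] at hz
    obtain ⟨w, hw, rfl⟩ := hz
    exact (hz2 w (hG2E w hw)).1)
  obtain ⟨N2, hN2le, hN2fg, hN2proj, hN2tors⟩ := exists_projective_hull' R hdim
    (Hoch.Ind R C (Fin k2 → R))
    (Submodule.span R (T2 : Set (Hoch.Ind R C (Fin k2 → R)))) (Submodule.fg_span T2.finite_toSet)
  haveI hflat2 : Module.Flat R (Hoch.Ind R C (Hoch.Ind R C (Fin k1 → R))) :=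
    inferInstanceAs (Module.Flat R ((Hoch.Ind R C (Fin k1 → R)) ⊗[R] C))
  haveI hflat3 : Module.Flat R (Hoch.Ind R C (Hoch.Ind R C (Hoch.Ind R C (Fin k1 → R)))) :=
    inferInstanceAs (Module.Flat R ((Hoch.Ind R C (Hoch.Ind R C (Fin k1 → R))) ⊗[R] C))
  have hN2K : N2 ≤ KK C θ2 := by
    intro n hn
    rw [KK, LinearMap.mem_ker]
    apply eq_zero_of_forall_minimalPrimes_smul (R := R)
    intro p hp
    obtain ⟨s, hsp, hsn⟩ := hN2tors n hn p hp
    refine ⟨s, hsp, ?_⟩
    rw [← map_smul]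
    have h3 : s • n ∈ KK C θ2 := Submodule.span_le.mpr hT2K hsn
    rw [KK, LinearMap.mem_ker] at h3
    exact h3
  obtain ⟨U2, hU2⟩ : ∃ U2 : Submodule R (Hoch.Ind R C (Fin k2 → R)), U2 = circ C N2 := ⟨_, rfl⟩
  have hU2sub : HopfRep.IsSubcomod (k := R) (A := C) U2 := by
    rw [hU2]
    exact isSubcomod_circ C N2
  have hU2N2 : U2 ≤ N2 := by
    rw [hU2]
    exact circ_le C N2
  obtain ⟨hU2fg, hU2proj⟩ : U2.FG ∧ Module.Projective R U2 := by
    rw [hU2]
    exact circ_fg_projective R hdim C (Hoch.Ind R C (Fin k2 → R)) N2 hN2fg hN2proj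
  have hz2U : ∀ w ∈ G2, z2 w ∈ U2 := by
    intro w hw
    rw [hU2, mem_circ_iff]
    exact range_rTensor_mono C hN2le (hT2 (z2 w) (Finset.mem_image_of_mem z2 hw))
  -- assembly
  letI cU2 : HopfRep.Comod R C U2 :=
    ComodSub.Comod.restr (Hoch.Ind.comod R C (Fin k2 → R)) U2 hU2sub
  obtain ⟨φ, hφdef⟩ : ∃ φ : U2 →ₗ[R] F, φ = beta C π1 ∘ₗ beta C θ2 ∘ₗ U2.subtype := ⟨_, rfl⟩
  have hφ : ∀ u : U2, φ u = beta C π1 (beta C θ2 (u : Hoch.Ind R C (Fin k2 → R))) := by
    intro u
    rw [hφdef]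
    rfl
  refine ⟨U2, inferInstance, inferInstance, cU2, φ, Module.Finite.iff_fg.mpr hU2fg, hU2proj,
    ?_, ?_⟩
  · have hrange : E1 ≤ LinearMap.range (beta C θ2 ∘ₗ U2.subtype) := by
      rw [← hG2, Submodule.span_le]
      intro w hw
      exact ⟨⟨z2 w, hz2U w hw⟩, (hz2 w (hG2E w hw)).2⟩
    have htop : (⊤ : Submodule R F) ≤ LinearMap.range φ := by
      rw [← hG1, Submodule.span_le]
      intro x hx
      obtain ⟨u, hu⟩ := hrange (hz1E x hx)
      refine ⟨u, ?_⟩
      rw [hφ]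
      have hu' : beta C θ2 (u : Hoch.Ind R C (Fin k2 → R)) = z1 x := hu
      rw [hu', hz1b]
    exact LinearMap.range_eq_top.mp (top_le_iff.mp htop)
  · apply LinearMap.ext
    intro u
    rw [LinearMap.comp_apply, LinearMap.comp_apply, hφ]
    have huK2 : (u : Hoch.Ind R C (Fin k2 → R)) ∈ KK C θ2 := hN2K (hU2N2 u.2)
    have hbE1 : beta C θ2 (u : Hoch.Ind R C (Fin k2 → R)) ∈ E1 := by
      rw [beta_apply, hθ2app]
      exact (π2 _).2
    have hbK1 : beta C θ2 (u : Hoch.Ind R C (Fin k2 → R)) ∈ KK C π1 := hN1K (hE1N1 hbE1)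
    rw [coact_beta C π1 _ hbK1, coact_beta C θ2 _ huK2,
      ← ComodSub.restr_coact_coe (Hoch.Ind.comod R C (Fin k2 → R)) U2 hU2sub u, hφdef,
      LinearMap.rTensor_comp, LinearMap.rTensor_comp]
    rfl

end Main

end Groth.Agent.Lib.CofreeResH1
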