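import Mathlib
import Groth.Prelude
import Groth.Agent.Lib.TensQC4_helper8
import Groth.Agent.Lib.PForm3_helper9
import Groth.Agent.Lib.PB7_helper8
import Groth.Agent.Lib.BasisHom_helper7

/-!
# The projection formula for an affine morphism and quasi-coherent modules (helper8)
`isIso_projMap_of_isAffineHom`: helper9's `projMap f E G : E ⊗ f_* G ⟶ f_* (f^* E ⊗ G)` is an isomorphism
for `f` affine and `E`, `G` quasi-coherent.  APPEND-ONLY once landed.
-/

set_option autoImplicit false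
universe u
open TensorProduct

namespace Groth.Agent.Lib.ProjAffH8

section Alg

/-- typeclass version -/
theorem exists_addEquiv_baseChange_tensor {R B : Type u} [CommRing R] [CommRing B] [Algebra R B]
    {M M' N : Type u} [AddCommGroup M] [Module R M] [AddCommGroup M'] [Module B M'] [Module R M']
    [IsScalarTower R B M'] [AddCommGroup N] [Module B N] [Module R N] [IsScalarTower R B N]
    (c : M →ₗ[R] M') (hc : IsBaseChange B c) :
    ∃ e : M ⊗[R] N ≃+ M' ⊗[B] N, ∀ m n, e (m ⊗ₜ n) = c m ⊗ₜ n := by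
  let e1 : M ⊗[R] N ≃ₗ[R] N ⊗[R] M := TensorProduct.comm R M N
  let e2 : N ⊗[B] (B ⊗[R] M) ≃ₗ[B] N ⊗[R] M := AlgebraTensorModule.cancelBaseChange R B B N M
  let e3 : B ⊗[R] M ≃ₗ[B] M' := hc.equiv
  let e4 : N ⊗[B] (B ⊗[R] M) ≃ₗ[B] N ⊗[B] M' := TensorProduct.congr (LinearEquiv.refl B N) e3
  let e5 : N ⊗[B] M' ≃ₗ[B] M' ⊗[B] N := TensorProduct.comm B N M'
  refine ⟨e1.toAddEquiv.trans (e2.symm.toAddEquiv.trans (e4.toAddEquiv.trans e5.toAddEquiv)),
    fun m n => ?_⟩
  show e5 (e4 (e2.symm (e1 (m ⊗ₜ n)))) = c m ⊗ₜ n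
  have h1 : e1 (m ⊗ₜ n) = n ⊗ₜ m := rfl
  have h2 : e2.symm (n ⊗ₜ m) = n ⊗ₜ ((1 : B) ⊗ₜ m) := rfl
  have h3 : e4 (n ⊗ₜ ((1 : B) ⊗ₜ m)) = n ⊗ₜ (e3 ((1 : B) ⊗ₜ m)) := rfl
  have h4 : e3 ((1 : B) ⊗ₜ m) = c m := by
    show hc.equiv ((1 : B) ⊗ₜ m) = c m
    rw [IsBaseChange.equiv_tmul, one_smul]
  rw [h1, h2, h3, h4]
  rfl

/-- semilinear version: if `lM` is a base change along `ρ` and `lN` is a semilinear bijection,
the map `m ⊗ n ↦ lM m ⊗ lN n` is bijective. -/
theorem bijective_tensor_of_isBaseChange {A A' : Type u} [CommRing A] [CommRing A'] (ρ : A →+* A')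
    {M N M' N' : Type u} [AddCommGroup M] [Module A M] [AddCommGroup N] [Module A N]
    [AddCommGroup M'] [Module A' M'] [AddCommGroup N'] [Module A' N']
    (lM : M →+ M') (lN : N →+ N')
    (hM : ∀ (x : A) (m : M), lM (x • m) = ρ x • lM m)
    (hN : ∀ (x : A) (n : N), lN (x • n) = ρ x • lN n)
    (hNb : Function.Bijective lN)
    (hbc : letI := ρ.toAlgebra
      letI : Module A M' := Module.compHom M' ρ
      haveI : IsScalarTower A A' M' := IsScalarTower.of_algebraMap_smul fun _ _ => rfl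
      IsBaseChange A' ({ toFun := lM, map_add' := lM.map_add, map_smul' := hM } : M →ₗ[A] M'))
    (r : M ⊗[A] N →+ M' ⊗[A'] N') (hr : ∀ m n, r (m ⊗ₜ n) = lM m ⊗ₜ lN n) :
    Function.Bijective r := by
  letI := ρ.toAlgebra
  letI : Module A M' := Module.compHom M' ρ
  haveI : IsScalarTower A A' M' := IsScalarTower.of_algebraMap_smul fun _ _ => rfl
  letI : Module A N' := Module.compHom N' ρ
  haveI : IsScalarTower A A' N' := IsScalarTower.of_algebraMap_smul fun _ _ => rfl
  let c : M →ₗ[A] M' := { toFun := lM, map_add' := lM.map_add, map_smul' := hM }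
  let lNe : N ≃ₗ[A] N' :=
    { (AddEquiv.ofBijective lN hNb) with
      map_smul' := fun x n => hN x n }
  let e0 : M ⊗[A] N ≃ₗ[A] M ⊗[A] N' := TensorProduct.congr (LinearEquiv.refl A M) lNe
  obtain ⟨e, he⟩ := exists_addEquiv_baseChange_tensor (N := N') c hbc
  have hre : r = (e0.toAddEquiv.trans e).toAddMonoidHom := by
    ext p
    refine TensorProduct.induction_on p ?_ (fun m n => ?_) (fun x y hx hy => ?_)
    · rw [map_zero, map_zero]
    · rw [hr]
      show _ = e (e0 (m ⊗ₜ n))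
      have : e0 (m ⊗ₜ n) = m ⊗ₜ lN n := rfl
      rw [this, he]
      rfl
    · rw [map_add, map_add, hx, hy]
  rw [hre]
  exact (e0.toAddEquiv.trans e).bijective

end Alg

open AlgebraicGeometry CategoryTheory CategoryTheory.Limits TopologicalSpace Opposite
open QcqsLoc MonoidalCategory GenLocH8 FLFH8 QCohExtn TensH8 PBH8 PFormH9 TensQCH8

section Geo

variable {X Y : Scheme.{u}} (f : X ⟶ Y) [IsAffineHom f] (E : Y.Modules) [E.IsQuasicoherent]
  (G : X.Modules) [G.IsQuasicoherent]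

/-- **Projection formula for an affine morphism**: on sections over an affine open, the projection
morphism `E ⊗ f_* G ⟶ f_* (f^* E ⊗ G)` is bijective (`E`, `G` quasi-coherent). -/
theorem projMap_app_bijective {V : Y.Opens} (hV : IsAffineOpen V) :
    Function.Bijective (ap (projMap f E G) V) := by
  have hU : IsAffineOpen (f ⁻¹ᵁ V) := hV.preimage f
  haveI : ((Scheme.Modules.pushforward f).obj G).IsQuasicoherent :=
    QCohCrit.isQuasicoherent_pushforward f G
  haveI : ((Scheme.Modules.pullback f).obj E).IsQuasicoherent :=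
    PBH8.isQuasicoherent_pullback f E
  have ha := TensQCH8.eta_bijective E ((Scheme.Modules.pushforward f).obj G) hV
  have hb := TensQCH8.eta_bijective ((Scheme.Modules.pullback f).obj E) G hU
  let lM : Γ(E, V) →+ Γ((Scheme.Modules.pullback f).obj E, f ⁻¹ᵁ V) :=
    AddMonoidHom.mk' (cUV f E (le_rfl : f ⁻¹ᵁ V ≤ f ⁻¹ᵁ V)) (cUV_add f E le_rfl)
  let lN : Γ((Scheme.Modules.pushforward f).obj G, V) →+ Γ(G, f ⁻¹ᵁ V) := AddMonoidHom.id _
  have hM : ∀ (x : Γ(Y, V)) (m : Γ(E, V)),
      lM (x • m) = (f.appLE V (f ⁻¹ᵁ V) le_rfl).hom x • lM m := fun x m => cUV_smul f E le_rfl x m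
  have hN : ∀ (x : Γ(Y, V)) (n : Γ((Scheme.Modules.pushforward f).obj G, V)),
      lN (x • n) = (f.appLE V (f ⁻¹ᵁ V) le_rfl).hom x • lN n := by
    intro x n
    rw [Scheme.Hom.appLE_eq_app]
    rfl
  obtain ⟨μ, hμ⟩ := TensQCH8.exists_tensor_map (ρ := (f.appLE V (f ⁻¹ᵁ V) le_rfl).hom)
    (lM := lM) (lN := lN) hM hN
  have hμb : Function.Bijective μ :=
    bijective_tensor_of_isBaseChange (f.appLE V (f ⁻¹ᵁ V) le_rfl).hom lM lN hM hN
      Function.bijective_id (isBaseChange_cUV f E le_rfl hU hV) μ hμ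
  have hcomm : ∀ p : PU E ((Scheme.Modules.pushforward f).obj G) V,
      ap (projMap f E G) V (eta E ((Scheme.Modules.pushforward f).obj G) V p) =
        eta ((Scheme.Modules.pullback f).obj E) G (f ⁻¹ᵁ V) (μ p) := by
    intro p
    have key := TensQCH8.addHom_ext E ((Scheme.Modules.pushforward f).obj G)
      ((ap (projMap f E G) V).comp (eta E ((Scheme.Modules.pushforward f).obj G) V))
      (AddMonoidHom.comp (eta ((Scheme.Modules.pullback f).obj E) G (f ⁻¹ᵁ V)) μ)
      (fun m n => by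
        show ap (projMap f E G) V (eta E ((Scheme.Modules.pushforward f).obj G) V (m ⊗ₜ n)) =
          eta ((Scheme.Modules.pullback f).obj E) G (f ⁻¹ᵁ V) (μ (m ⊗ₜ n))
        rw [hμ]
        exact projMap_tmul f E G V m n)
    exact DFunLike.congr_fun key p
  have h1 : Function.Bijective ((ap (projMap f E G) V) ∘
      (eta E ((Scheme.Modules.pushforward f).obj G) V)) := by
    have : ((ap (projMap f E G) V) ∘ (eta E ((Scheme.Modules.pushforward f).obj G) V)) =
        (eta ((Scheme.Modules.pullback f).obj E) G (f ⁻¹ᵁ V)) ∘ μ := funext hcomm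
    rw [this]
    exact hb.comp hμb
  exact (Function.Bijective.of_comp_iff _ ha).mp h1

/-- **Projection formula for an affine morphism**: `E ⊗ f_* G ≅ f_* (f^* E ⊗ G)` for `E`, `G`
quasi-coherent. -/
theorem isIso_projMap_of_isAffineHom : IsIso (projMap f E G) :=
  Groth.Agent.Lib.BasisHomH7.isIso_of_bijective_basis (B := {V : Y.Opens | IsAffineOpen V})
    Y.isBasis_affineOpens (projMap f E G) (fun V hV => projMap_app_bijective f E G hV)

end Geo

end Groth.Agent.Lib.ProjAffH8
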