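import Mathlib
import Groth.Prelude
import Groth.Agent.Lib.ProjAff1_helper8
import Groth.Agent.Lib.PushEdge2_helper7
import Groth.Agent.Lib.TensInv2_helper9
import Groth.Agent.Lib.HHVan_helper9

/-!
# Cohomologically ample families pull back along finite morphisms (helper6)
`main13535`: S13535 (projection formula for affine morphisms + affine pushforward preserves
cohomology).  APPEND-ONLY once landed.
-/

set_option autoImplicit false
set_option linter.style.haveILetI false
universe u
open CategoryTheory CategoryTheory.Limits AlgebraicGeometry TopologicalSpace Opposite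

namespace Groth.Agent.Lib.CohAmpFinH6

/-- Cohomological `d`-ampleness of a family pulls back along a finite morphism. -/
theorem main13535 {X Y : Scheme.{u}} (f : Y ⟶ X) [IsFinite f]
    (d : ℕ) (E : ℕ → X.Modules) (hE : ∀ n, Coh.IsCoh (E n))
    (hamp : ∀ F : X.Modules, Coh.IsCoh F → ∃ n₀ : ℕ, ∀ n : ℕ, n₀ ≤ n → ∀ i : ℕ, d + 1 ≤ i →
        Subsingleton (Coh.HH X (CohB1.tensorMod F (E n)) i)) :
    ∀ F : Y.Modules, Coh.IsCoh F → ∃ n₀ : ℕ, ∀ n : ℕ, n₀ ≤ n → ∀ i : ℕ, d + 1 ≤ i →
        Subsingleton (Coh.HH Y (CohB1.tensorMod F ((Scheme.Modules.pullback f).obj (E n))) i) := by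
  intro F hF
  haveI : F.IsQuasicoherent := hF.1
  haveI hq : ((Scheme.Modules.pushforward f).obj F).IsQuasicoherent :=
    QCohCrit.isQuasicoherent_pushforward f F
  haveI : SheafOfModules.IsFiniteType (R := Y.ringCatSheaf) F := hF.2
  have hc : Coh.IsCoh ((Scheme.Modules.pushforward f).obj F) :=
    ⟨hq, QCohCrit.isFiniteType_pushforward f F⟩
  obtain ⟨n₀, hn₀⟩ := hamp _ hc
  refine ⟨n₀, fun n hn i hi => ?_⟩
  have h1 := hn₀ n hn i hi
  haveI : (E n).IsQuasicoherent := (hE n).1
  haveI := Groth.Agent.Lib.ProjAffH8.isIso_projMap_of_isAffineHom f (E n) F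
  have e : CohB1.tensorMod ((Scheme.Modules.pushforward f).obj F) (E n) ≅
      (Scheme.Modules.pushforward f).obj
        (CohB1.tensorMod F ((Scheme.Modules.pullback f).obj (E n))) :=
    Groth.Agent.TensInv.comm _ _ ≪≫ asIso (PFormH9.projMap f (E n) F) ≪≫
      (Scheme.Modules.pushforward f).mapIso (Groth.Agent.TensInv.comm _ _)
  have h2 := Groth.Agent.HHVan.subsingleton_of_iso e i h1
  haveI : ((Scheme.Modules.pullback f).obj (E n)).IsQuasicoherent := inferInstance
  haveI : (CohB1.tensorMod F ((Scheme.Modules.pullback f).obj (E n))).IsQuasicoherent :=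
    TensQCH8.isQuasicoherent_tensorMod _ _
  have hb := Groth.Agent.Lib.PushEdge2_helper7.pushEdge_bijective_of_isAffineHom f
    (CohB1.tensorMod F ((Scheme.Modules.pullback f).obj (E n))) i
  exact (Equiv.ofBijective _ hb).symm.subsingleton

end Groth.Agent.Lib.CohAmpFinH6
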