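import Mathlib
import Groth.Prelude
import Groth.Agent.Lib.Deligne1_helper8
import Groth.Agent.Lib.SDivGen_helper8

/-!
# The centre of the category of coherent modules on a Noetherian scheme (helper8)
APPEND-ONLY once landed.
-/

set_option autoImplicit false

namespace Groth.Agent.Lib.CohCentreH8

open AlgebraicGeometry CategoryTheory CategoryTheory.Limits TopologicalSpace Opposite
open QcqsLoc QCohExtn CohDevH8 DeligneH8

universe u

variable {X : Scheme.{u}}

/-- The category of coherent modules. -/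
abbrev CohCat (X : Scheme.{u}) :=
  ObjectProperty.FullSubcategory (fun M : X.Modules => Coh.IsCoh M)

variable (φ : 𝟭 (CohCat X) ⟶ 𝟭 (CohCat X))

/-- The component of a natural endomorphism of the identity at a coherent module. -/
noncomputable def eta (M : X.Modules) (hM : Coh.IsCoh M) : M ⟶ M := (φ.app ⟨M, hM⟩).hom

theorem eta_naturality {M N : X.Modules} (hM : Coh.IsCoh M) (hN : Coh.IsCoh N) (g : M ⟶ N) :
    eta φ M hM ≫ g = g ≫ eta φ N hN := by
  have h := φ.naturality (ObjectProperty.homMk g : (⟨M, hM⟩ : CohCat X) ⟶ ⟨N, hN⟩)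
  exact (congrArg (fun k => k.hom) h).symm

theorem eta_app {M N : X.Modules} (hM : Coh.IsCoh M) (hN : Coh.IsCoh N) (g : M ⟶ N)
    (W : X.Opens) (m : Γ(M, W)) :
    ap g W (ap (eta φ M hM) W m) = ap (eta φ N hN) W (ap g W m) := by
  have h := congrArg (fun k => ap k W m) (eta_naturality φ hM hN g)
  exact h

/-- The global function attached to a natural endomorphism of the identity. -/
noncomputable def rr : Γ(X, ⊤) :=
  OmegaSh.fnSect X ⊤ (ap (eta φ _ (isCoh_structureModule X)) ⊤ (OmegaSh.strSect X ⊤ 1))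

theorem eta_structure_one (W : X.Opens) :
    ap (eta φ _ (isCoh_structureModule X)) W (OmegaSh.strSect X W 1) =
      OmegaSh.strSect X W (rX (le_top : W ≤ ⊤) (rr φ)) := by
  have h1 : OmegaSh.strSect X W 1 =
      rF (Coh.structureModule X) (le_top : W ≤ ⊤) (OmegaSh.strSect X ⊤ 1) := by
    exact congrArg (OmegaSh.strSect X W) (map_one (rX (le_top : W ≤ ⊤))).symm
  rw [h1, ap_rF]
  rfl

theorem eta_structure (W : X.Opens) (a : Γ(X, W)) :
    ap (eta φ _ (isCoh_structureModule X)) W (OmegaSh.strSect X W a) =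
      OmegaSh.strSect X W (a * rX (le_top : W ≤ ⊤) (rr φ)) := by
  have h1 : OmegaSh.strSect X W a = a • OmegaSh.strSect X W 1 := by
    change OmegaSh.strSect X W a = OmegaSh.strSect X W (a * 1)
    rw [mul_one]
  rw [h1, ap_smul, eta_structure_one]
  rfl

/-- On a coherent subobject of the structure sheaf, the endomorphism is multiplication by `rr`. -/
theorem eta_sub {J : X.Modules} (hJ : Coh.IsCoh J) (ι : J ⟶ Coh.structureModule X) [Mono ι]
    (W : X.Opens) (a : Γ(J, W)) :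
    ap (eta φ J hJ) W a = rX (le_top : W ≤ ⊤) (rr φ) • a := by
  apply QCohExact.app_injective_of_mono ι W
  rw [eta_app φ hJ (isCoh_structureModule X) ι W a, ap_smul]
  have h3 := eta_structure φ W (OmegaSh.fnSect X W (ap ι W a))
  refine h3.trans ?_
  change OmegaSh.strSect X W (_ * _) = OmegaSh.strSect X W (_ * _)
  rw [mul_comm]
  rfl

/-- On the image of a morphism from a coherent subobject of the structure sheaf, the endomorphism
is multiplication by `rr`. -/
theorem eta_image {J M : X.Modules} (hJ : Coh.IsCoh J) (hM : Coh.IsCoh M)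
    (ι : J ⟶ Coh.structureModule X) [Mono ι] (ψ : J ⟶ M) (W : X.Opens) (a : Γ(J, W)) :
    ap (eta φ M hM) W (ap ψ W a) = rX (le_top : W ≤ ⊤) (rr φ) • ap ψ W a := by
  rw [← eta_app φ hJ hM ψ W a, eta_sub φ hJ ι W a, ap_smul]


section Main

variable [IsNoetherian X]

/-- The ideal of the vanishing ideal sheaf of the complement of `V` is the unit ideal on affine
opens inside `V`. -/
theorem vanishingIdeal_compl_ideal_eq_top (V : X.Opens) {W : X.Opens} (hW : IsAffineOpen W)
    (hWV : W ≤ V) (n : ℕ) :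
    ((Scheme.IdealSheafData.vanishingIdeal
      (⟨(V : Set X)ᶜ, V.isOpen.isClosed_compl⟩ : Closeds X)) ^ n).ideal ⟨W, hW⟩ = ⊤ := by
  have h1 : (Scheme.IdealSheafData.vanishingIdeal
      (⟨(V : Set X)ᶜ, V.isOpen.isClosed_compl⟩ : Closeds X)).ideal ⟨W, hW⟩ = ⊤ := by
    rw [Scheme.IdealSheafData.vanishingIdeal_ideal, eq_top_iff]
    intro f _
    refine (PrimeSpectrum.mem_vanishingIdeal _ _).mpr (fun x hx => ?_)
    exfalso
    have hxW : hW.fromSpec x ∈ W := by
      have h0 : hW.fromSpec x ∈ hW.fromSpec.opensRange := ⟨x, rfl⟩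
      rwa [hW.opensRange_fromSpec] at h0
    exact hx (hWV hxW)
  change (Scheme.IdealSheafData.vanishingIdeal _).ideal ⟨W, hW⟩ ^ n = ⊤
  rw [h1, Ideal.top_pow]

/-- On sections over an affine open (presented as `V.ι ''ᵁ ⊤`), the endomorphism is multiplication
by `rr`. -/
theorem eta_eq_smul_image (M : X.Modules) (hM : Coh.IsCoh M) (V : X.Opens) (hV : IsAffineOpen V)
    (s : Γ(M, V.ι ''ᵁ ⊤)) :
    ap (eta φ M hM) (V.ι ''ᵁ ⊤) s = rX (le_top : V.ι ''ᵁ ⊤ ≤ ⊤) (rr φ) • s := by
  have hWV : V.ι ''ᵁ ⊤ = V := V.ι_image_top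
  have hW : IsAffineOpen (V.ι ''ᵁ ⊤) := by rw [hWV]; exact hV
  let Z : Closeds X := ⟨(V : Set X)ᶜ, V.isOpen.isClosed_compl⟩
  let I := Scheme.IdealSheafData.vanishingIdeal Z
  have hU : (V : Set X) = (I.support : Set X)ᶜ := by
    simp [I, Z]
  let Rf := Scheme.Modules.restrictFunctor V.ι
  let s' : Γ(M.restrict V.ι, ⊤) := s
  let β := Scheme.Modules.restrictUnitIso V.ι
  let φs : Rf.obj (Coh.structureModule X) ⟶ Rf.obj M :=
    β.hom ≫ SDivGenH8.unitHom (M.restrict V.ι) s'
  obtain ⟨n, ψ, hψ⟩ := exists_extension_pow M (Coh.structureModule X) hM.1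
    (isCoh_structureModule X) I V hU φs
  have hJ : Coh.IsCoh ((Dual3.idealMul (I ^ n)).obj (Coh.structureModule X)) :=
    isCoh_idealMul (I ^ n) _ (isCoh_structureModule X)
  have key : ∃ a : Γ((Dual3.idealMul (I ^ n)).obj (Coh.structureModule X), V.ι ''ᵁ ⊤),
      ap ψ (V.ι ''ᵁ ⊤) a = s := by
    have hbij := idealMulι_app_bijective (I ^ n) (Coh.structureModule X) hW
      (vanishingIdeal_compl_ideal_eq_top V hW hWV.le n)
    let one' : Γ(Coh.structureModule (V : Scheme.{u}), ⊤) := OmegaSh.strSect _ ⊤ 1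
    obtain ⟨a, ha⟩ := hbij.2 ((β.inv.app ⊤).hom one')
    refine ⟨a, ?_⟩
    have h1 := congrArg (fun χ => (Scheme.Modules.Hom.app χ ⊤).hom a) hψ
    have h2 : (Scheme.Modules.Hom.app (Rf.map ψ) ⊤).hom a = ap ψ (V.ι ''ᵁ ⊤) a := rfl
    have h3 : (Scheme.Modules.Hom.app (Rf.map (Dual3.idealMulι (I ^ n) (Coh.structureModule X))
        ≫ φs) ⊤).hom a =
        ((SDivGenH8.unitHom (M.restrict V.ι) s').app ⊤).hom
          ((β.hom.app ⊤).hom (ap (Dual3.idealMulι (I ^ n) (Coh.structureModule X))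
            (V.ι ''ᵁ ⊤) a)) := rfl
    rw [← h2, h1, h3, ha]
    have h4 : (β.hom.app ⊤).hom ((β.inv.app ⊤).hom one') = one' := by
      have := congrArg (fun χ => (Scheme.Modules.Hom.app χ ⊤).hom one') β.inv_hom_id
      exact this
    rw [h4]
    have h5 := SDivGenH8.unitHom_app_one (M.restrict V.ι) s' ⊤
    refine h5.trans ?_
    have h6 : (homOfLE (le_top : (⊤ : (V : Scheme.{u}).Opens) ≤ ⊤)).op = 𝟙 _ := rfl
    rw [h6, (M.restrict V.ι).val.map_id]
    rfl
  obtain ⟨a, rfl⟩ := key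
  exact eta_image φ hJ hM (Dual3.idealMulι (I ^ n) (Coh.structureModule X)) ψ _ a

end Main


section Final

variable [IsNoetherian X]

/-- On sections over an affine open, the endomorphism is multiplication by `rr`. -/
theorem eta_eq_smul_affine (M : X.Modules) (hM : Coh.IsCoh M) (V : X.Opens) (hV : IsAffineOpen V)
    (s : Γ(M, V)) :
    ap (eta φ M hM) V s = rX (le_top : V ≤ ⊤) (rr φ) • s := by
  have hP : ∀ s : Γ(M, V.ι ''ᵁ ⊤), ap (eta φ M hM) (V.ι ''ᵁ ⊤) s =
      rX (le_top : V.ι ''ᵁ ⊤ ≤ ⊤) (rr φ) • s := eta_eq_smul_image φ M hM V hV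
  have hWV : V.ι ''ᵁ ⊤ = V := V.ι_image_top
  have key : ∀ (W : X.Opens), W = V → (∀ s : Γ(M, W), ap (eta φ M hM) W s =
      rX (le_top : W ≤ ⊤) (rr φ) • s) → ∀ s : Γ(M, V), ap (eta φ M hM) V s =
      rX (le_top : V ≤ ⊤) (rr φ) • s := by
    intro W h
    subst h
    exact fun h => h
  exact key _ hWV hP s

/-- On all sections, the endomorphism is multiplication by `rr`. -/
theorem eta_eq_smul (M : X.Modules) (hM : Coh.IsCoh M) (U : X.Opens) (s : Γ(M, U)) :
    ap (eta φ M hM) U s = rX (le_top : U ≤ ⊤) (rr φ) • s := by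
  apply eq_of_cover M
  intro x hx
  obtain ⟨_, ⟨V, hV : IsAffineOpen V, rfl⟩, hxV, hVU⟩ :=
    (X.isBasis_affineOpens).exists_subset_of_mem_open hx U.isOpen
  have hle : V ≤ U := hVU
  refine ⟨V, hle, hxV, ?_⟩
  rw [← ap_rF, eta_eq_smul_affine φ M hM V hV, rF_smul, rX_rX]

theorem main13988 (φ : 𝟭 (CohCat X) ⟶ 𝟭 (CohCat X)) :
    ∃! r : Coh.Γtop X, ∀ M : CohCat X,
      (SheafOfModules.toSheaf X.ringCatSheaf).map (φ.app M).hom = Coh.smulAb M.obj r := by
  refine ⟨rr φ, ?_, ?_⟩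
  · intro M
    ext U m
    rw [Coh.smulAb_app]
    exact eta_eq_smul φ M.obj M.property U.unop m
  · intro r hr
    have h1 := hr ⟨Coh.structureModule X, isCoh_structureModule X⟩
    have h2 := congrArg (fun k => k.hom.app (op ⊤) (OmegaSh.strSect X ⊤ 1)) h1
    simp only [Coh.smulAb_app] at h2
    have h3 : Coh.resTop X (op ⊤) r = r := by
      change (X.ringCatSheaf.obj.map (𝟙 _)).hom r = r
      rw [X.ringCatSheaf.obj.map_id]
      rfl
    rw [h3] at h2
    have h4 : (@HSMul.hSMul (X.ringCatSheaf.obj.obj (op ⊤))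
        ((Coh.structureModule X).val.obj (op ⊤)) ((Coh.structureModule X).val.obj (op ⊤)) _ r
        (OmegaSh.strSect X ⊤ 1)) = OmegaSh.strSect X ⊤ ((show Γ(X, ⊤) from r) * 1) := rfl
    rw [h4, mul_one] at h2
    exact h2.symm

end Final

end Groth.Agent.Lib.CohCentreH8
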