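import Mathlib
import Groth.Prelude.Def_KZero
import Groth.Prelude.Def_SGA6
import Groth.Agent.Lib.KZero_helper4

set_option autoImplicit false
set_option linter.style.haveILetI false
set_option linter.unusedSectionVars false

universe v u

open CategoryTheory Limits KZero

namespace Groth.Agent.Lib.ResolK0H4

open Groth.Agent.Lib.KZeroH4

variable {C : Type u} [Category.{v} C] [Abelian C]

/-! ### the map on `K₀` induced by an inclusion of classes -/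

noncomputable def inc (P Q : ObjectProperty C) (h : P ≤ Q) : K0sub P →+ K0sub Q :=
  liftSub P (fun X => clSub Q X)
    (fun S hS h₁ h₂ h₃ => clSub_ses Q S hS (h _ h₁) (h _ h₂) (h _ h₃))

lemma inc_cl (P Q : ObjectProperty C) (h : P ≤ Q) (X : C) (hX : P X) :
    inc P Q h (clSub P X) = clSub Q X :=
  liftSub_clSub P _ _ X hX

lemma inc_comp (P Q R : ObjectProperty C) (h₁ : P ≤ Q) (h₂ : Q ≤ R) :
    (inc Q R h₂).comp (inc P Q h₁) = inc P R (h₁.trans h₂) :=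
  homSub_ext P _ _ (fun X hX => by
    rw [AddMonoidHom.comp_apply, inc_cl P Q h₁ X hX, inc_cl Q R h₂ X (h₁ _ hX),
      inc_cl P R _ X hX])

lemma inc_comp_apply (P Q R : ObjectProperty C) (h₁ : P ≤ Q) (h₂ : Q ≤ R) (x : K0sub P) :
    inc Q R h₂ (inc P Q h₁ x) = inc P R (h₁.trans h₂) x :=
  DFunLike.congr_fun (inc_comp P Q R h₁ h₂) x

lemma inc_self (P : ObjectProperty C) (h : P ≤ P) : inc P P h = AddMonoidHom.id _ :=
  homSub_ext P _ _ (fun X hX => by rw [inc_cl P P h X hX, AddMonoidHom.id_apply])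

lemma inc_bij_of_le (P Q : ObjectProperty C) (h : P ≤ Q) (h' : Q ≤ P) :
    Function.Bijective (inc P Q h) := by
  refine ⟨Function.LeftInverse.injective (g := inc Q P h') (fun x => ?_),
    Function.RightInverse.surjective (g := inc Q P h') (fun y => ?_)⟩
  · rw [inc_comp_apply, inc_self, AddMonoidHom.id_apply]
  · rw [inc_comp_apply, inc_self, AddMonoidHom.id_apply]

/-! ### kernels of composites -/

lemma ses_ker {L A : C} (p : L ⟶ A) [Epi p] :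
    (ShortComplex.mk (kernel.ι p) p (kernel.condition p)).ShortExact :=
  ShortComplex.ShortExact.mk' (ShortComplex.exact_kernel p) inferInstance inferInstance

section KernelSES

variable (S : ShortComplex C) (hS : S.ShortExact) {X : C} (f : X ⟶ S.X₂)

noncomputable def kerA : kernel f ⟶ kernel (f ≫ S.g) :=
  kernel.lift (f ≫ S.g) (kernel.ι f) (by rw [← Category.assoc, kernel.condition, zero_comp])

noncomputable def kerR : kernel (f ≫ S.g) ⟶ S.X₁ :=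
  haveI := hS.mono_f
  hS.exact.lift (kernel.ι (f ≫ S.g) ≫ f) (by rw [Category.assoc]; exact kernel.condition _)

lemma kerR_f : kerR S hS f ≫ S.f = kernel.ι (f ≫ S.g) ≫ f := by
  haveI := hS.mono_f
  exact hS.exact.lift_f _ _

lemma kerA_ι : kerA S f ≫ kernel.ι (f ≫ S.g) = kernel.ι f := kernel.lift_ι _ _ _

lemma kerA_kerR : kerA S f ≫ kerR S hS f = 0 := by
  haveI := hS.mono_f
  rw [← cancel_mono S.f, Category.assoc, kerR_f, ← Category.assoc, kerA_ι, kernel.condition,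
    zero_comp]

noncomputable abbrev kerSC : ShortComplex C :=
  ShortComplex.mk (kerA S f) (kerR S hS f) (kerA_kerR S hS f)

lemma kerSC_shortExact [Epi f] : (kerSC S hS f).ShortExact := by
  haveI := hS.mono_f
  haveI : Mono (kerA S f) := mono_of_mono_fac (kerA_ι S f)
  haveI : Epi (kerR S hS f) := by
    have h1 : pullback.snd S.f f ≫ f ≫ S.g = 0 := by
      rw [← Category.assoc, ← pullback.condition, Category.assoc, S.zero, comp_zero]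
    have h2 : kernel.lift (f ≫ S.g) (pullback.snd S.f f) h1 ≫ kerR S hS f =
        pullback.fst S.f f := by
      rw [← cancel_mono S.f, Category.assoc, kerR_f, ← Category.assoc, kernel.lift_ι,
        pullback.condition]
    exact epi_of_epi_fac h2
  have hlim : IsLimit (KernelFork.ofι (kerA S f) (kerA_kerR S hS f)) :=
    KernelFork.IsLimit.ofι _ _
      (fun k hk => kernel.lift f (k ≫ kernel.ι (f ≫ S.g)) (by
        have h0 : (k ≫ kerR S hS f) ≫ S.f = 0 := by rw [hk, zero_comp]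
        rw [Category.assoc, kerR_f] at h0
        rw [Category.assoc]
        exact h0))
      (fun k hk => by
        rw [← cancel_mono (kernel.ι (f ≫ S.g)), Category.assoc, kerA_ι, kernel.lift_ι])
      (fun k hk m hm => by
        rw [← cancel_mono (kernel.ι f), kernel.lift_ι, ← hm, Category.assoc, kerA_ι])
  exact ShortComplex.ShortExact.mk' (ShortComplex.exact_of_f_is_kernel _ hlim)
    (inferInstance : Mono (kerA S f)) (inferInstance : Epi (kerR S hS f))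

end KernelSES

/-! ### one step -/

structure StepHyp (P₀ P Q P₁ : ObjectProperty C) : Prop where
  h0P : P₀ ≤ P
  hPQ : P ≤ Q
  hQ1 : Q ≤ P₁
  hext₀ : ∀ S : ShortComplex C, S.ShortExact → P₀ S.X₁ → P₀ S.X₃ → P₀ S.X₂
  h1₀ : ∀ S : ShortComplex C, S.ShortExact → P₀ S.X₂ → P₀ S.X₃ → P₀ S.X₁
  h2 : ∀ (A B D : C) (u : A ⟶ B) (v : D ⟶ B), Epi u → P₁ A → P₁ B → P₁ D →
      ∃ (L : C) (u' : L ⟶ D) (v' : L ⟶ A), P₀ L ∧ Epi u' ∧ u' ≫ v = v' ≫ u
  hkQ : ∀ (A L : C) (p : L ⟶ A), Q A → P₀ L → Epi p → P (kernel p)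
  hkP : ∀ (A L : C) (p : L ⟶ A), P A → P₀ L → Epi p → P (kernel p)

section OneStep

variable {P₀ P Q P₁ : ObjectProperty C} (H : StepHyp P₀ P Q P₁)

include H

lemma StepHyp.hle (X : C) (hX : P₀ X) : P₁ X := H.hQ1 _ (H.hPQ _ (H.h0P _ hX))

lemma StepHyp.cover (D : C) (hD : P₁ D) : ∃ (L : C) (u : L ⟶ D), P₀ L ∧ Epi u := by
  obtain ⟨L, u', _, hL, hu', _⟩ := H.h2 D D D (𝟙 D) (𝟙 D) inferInstance hD hD hD
  exact ⟨L, u', hL, hu'⟩

lemma dom {N L A : C} (q : N ⟶ L) (p : L ⟶ A) [Epi q] [Epi p] (hN : P₀ N) (hL : P₀ L)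
    (hA : Q A) (t : N ⟶ A) (ht : t = q ≫ p) :
    clSub P N - clSub P (kernel t) = clSub P L - clSub P (kernel p) := by
  subst ht
  have hK := kerSC_shortExact _ (ses_ker p) q
  have hR : P₀ (kernel q) := H.h1₀ _ (ses_ker q) hN hL
  have e1 : clSub P (kernel (q ≫ p)) = clSub P (kernel q) + clSub P (kernel p) :=
    clSub_ses P _ hK (H.h0P _ hR) (H.hkQ A N (q ≫ p) hA hN inferInstance)
      (H.hkQ A L p hA hL inferInstance)
  have e2 : clSub P N = clSub P (kernel q) + clSub P L :=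
    clSub_ses P _ (ses_ker q) (H.h0P _ hR) (H.h0P _ hN) (H.h0P _ hL)
  rw [e1, e2]
  abel

lemma wd {L L' A : C} (p : L ⟶ A) (p' : L' ⟶ A) [Epi p] [Epi p'] (hL : P₀ L) (hL' : P₀ L')
    (hA : Q A) :
    clSub P L - clSub P (kernel p) = clSub P L' - clSub P (kernel p') := by
  obtain ⟨N₁, u₁, v₁, hN₁, hu₁, c₁⟩ :=
    H.h2 L A L' p p' inferInstance (H.hle L hL) (H.hQ1 _ hA) (H.hle L' hL')
  obtain ⟨N₂, u₂, v₂, hN₂, hu₂, c₂⟩ :=
    H.h2 L' A L p' p inferInstance (H.hle L' hL') (H.hQ1 _ hA) (H.hle L hL)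
  haveI := hu₁
  haveI := hu₂
  have hN : P₀ (N₁ ⊞ N₂) :=
    H.hext₀ _ (ShortComplex.Splitting.ofHasBinaryBiproduct N₁ N₂).shortExact hN₁ hN₂
  have hc : biprod.desc v₁ u₂ ≫ p = biprod.desc u₁ v₂ ≫ p' := by
    apply biprod.hom_ext'
    · rw [biprod.inl_desc_assoc, biprod.inl_desc_assoc]
      exact c₁.symm
    · rw [biprod.inr_desc_assoc, biprod.inr_desc_assoc]
      exact c₂
  have d1 := dom H (biprod.desc v₁ u₂) p hN hL hA (biprod.desc v₁ u₂ ≫ p) rfl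
  have d2 := dom H (biprod.desc u₁ v₂) p' hN hL' hA (biprod.desc v₁ u₂ ≫ p) hc
  exact d1.symm.trans d2

omit H

open Classical in
noncomputable def psiFun (P₀ P P₁ : ObjectProperty C)
    (hcov : ∀ D : C, P₁ D → ∃ (L : C) (u : L ⟶ D), P₀ L ∧ Epi u) (A : C) : K0sub P :=
  if hA : P₁ A then
    clSub P (hcov A hA).choose - clSub P (kernel (hcov A hA).choose_spec.choose)
  else 0

include H

lemma psi_eq {L A : C} (p : L ⟶ A) [Epi p] (hL : P₀ L) (hA : Q A) :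
    psiFun P₀ P P₁ H.cover A = clSub P L - clSub P (kernel p) := by
  unfold psiFun
  rw [dif_pos (H.hQ1 _ hA)]
  haveI := (H.cover A (H.hQ1 _ hA)).choose_spec.choose_spec.2
  exact wd H _ p (H.cover A (H.hQ1 _ hA)).choose_spec.choose_spec.1 hL hA

lemma psi_add (S : ShortComplex C) (hS : S.ShortExact) (h₁ : Q S.X₁) (h₂ : Q S.X₂)
    (h₃ : Q S.X₃) :
    psiFun P₀ P P₁ H.cover S.X₂ = psiFun P₀ P P₁ H.cover S.X₁ + psiFun P₀ P P₁ H.cover S.X₃ := by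
  obtain ⟨L, p, hL, hp⟩ := H.cover S.X₂ (H.hQ1 _ h₂)
  haveI := hp
  haveI := hS.epi_g
  haveI : Epi (p ≫ S.g) := epi_comp _ _
  have hK : P (kernel p) := H.hkQ _ _ p h₂ hL inferInstance
  have hK₂ : P (kernel (p ≫ S.g)) := H.hkQ _ _ (p ≫ S.g) h₃ hL inferInstance
  have hS' := kerSC_shortExact S hS p
  obtain ⟨L', q', hL', hq'⟩ := H.cover (kernel (p ≫ S.g)) (H.hQ1 _ (H.hPQ _ hK₂))
  haveI := hq'
  haveI : Epi (kerR S hS p) := hS'.epi_g
  haveI : Epi (q' ≫ kerR S hS p) := epi_comp _ _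
  have hS'' := kerSC_shortExact (kerSC S hS p) hS' q'
  have hR' : P (kernel q') := H.hkP _ _ q' hK₂ hL' inferInstance
  have hT' : P (kernel (q' ≫ kerR S hS p)) :=
    H.hkQ _ _ (q' ≫ kerR S hS p) h₁ hL' inferInstance
  have e1 : clSub P (kernel (q' ≫ kerR S hS p)) = clSub P (kernel q') + clSub P (kernel p) :=
    clSub_ses P _ hS'' hR' hT' hK
  have e2 : clSub P L' = clSub P (kernel q') + clSub P (kernel (p ≫ S.g)) :=
    clSub_ses P _ (ses_ker q') hR' (H.h0P _ hL') hK₂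
  rw [psi_eq H p hL h₂, psi_eq H (p ≫ S.g) hL h₃, psi_eq H (q' ≫ kerR S hS p) hL' h₁, e1, e2]
  abel

theorem oneStep : Function.Bijective (inc P Q H.hPQ) := by
  obtain ⟨ψ, hψ⟩ : ∃ ψ : K0sub Q →+ K0sub P,
      ∀ (A : C) (_ : Q A), ψ (clSub Q A) = psiFun P₀ P P₁ H.cover A :=
    ⟨liftSub Q (psiFun P₀ P P₁ H.cover) (fun S hS h₁ h₂ h₃ => psi_add H S hS h₁ h₂ h₃),
      fun A hA => liftSub_clSub Q _ _ A hA⟩
  have hl : ψ.comp (inc P Q H.hPQ) = AddMonoidHom.id _ := homSub_ext P _ _ (fun A hA => by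
    obtain ⟨L, p, hL, hp⟩ := H.cover A (H.hQ1 _ (H.hPQ _ hA))
    haveI := hp
    rw [AddMonoidHom.comp_apply, inc_cl P Q _ A hA, hψ A (H.hPQ _ hA),
      psi_eq H p hL (H.hPQ _ hA), AddMonoidHom.id_apply]
    have e : clSub P L = clSub P (kernel p) + clSub P A :=
      clSub_ses P _ (ses_ker p) (H.hkP _ _ p hA hL inferInstance) (H.h0P _ hL) hA
    rw [e]
    abel)
  have hr : (inc P Q H.hPQ).comp ψ = AddMonoidHom.id _ := homSub_ext Q _ _ (fun A hA => by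
    obtain ⟨L, p, hL, hp⟩ := H.cover A (H.hQ1 _ hA)
    haveI := hp
    have hK : P (kernel p) := H.hkQ _ _ p hA hL inferInstance
    rw [AddMonoidHom.comp_apply, hψ A hA, psi_eq H p hL hA, map_sub,
      inc_cl P Q _ L (H.h0P _ hL), inc_cl P Q _ _ hK, AddMonoidHom.id_apply]
    have e : clSub Q L = clSub Q (kernel p) + clSub Q A :=
      clSub_ses Q _ (ses_ker p) (H.hPQ _ hK) (H.hPQ _ (H.h0P _ hL)) hA
    rw [e]
    abel)
  exact ⟨Function.LeftInverse.injective (g := ψ) (fun x => DFunLike.congr_fun hl x),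
    Function.RightInverse.surjective (g := ψ) (fun y => DFunLike.congr_fun hr y)⟩

end OneStep

/-! ### towers -/

structure Tower (P₀ : ObjectProperty C) where
  K : ℕ → C
  L : ℕ → C
  p : ∀ i, L i ⟶ K i
  ι : ∀ i, K (i + 1) ⟶ L i
  hL : ∀ i, P₀ (L i)
  epi : ∀ i, Epi (p i)
  mono : ∀ i, Mono (ι i)
  zero : ∀ i, ι i ≫ p i = 0
  exact : ∀ i, (ShortComplex.mk (ι i) (p i) (zero i)).Exact

lemma exact_of_shape (S : ShortComplex C) {K₂ K₁ : C} (p₂ : S.X₁ ⟶ K₂) (ι₁ : K₂ ⟶ S.X₂)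
    (p₁ : S.X₂ ⟶ K₁) (ι₀ : K₁ ⟶ S.X₃) (hf : S.f = p₂ ≫ ι₁) (hg : S.g = p₁ ≫ ι₀) (hp₂ : Epi p₂)
    (hι₀ : Mono ι₀) (w : ι₁ ≫ p₁ = 0) (hex : (ShortComplex.mk ι₁ p₁ w).Exact) : S.Exact := by
  have w' : ι₁ ≫ p₁ ≫ ι₀ = 0 := by rw [← Category.assoc, w, zero_comp]
  let φ : S ⟶ ShortComplex.mk ι₁ (p₁ ≫ ι₀) w' :=
    { τ₁ := p₂, τ₂ := 𝟙 _, τ₃ := 𝟙 _
      comm₁₂ := by simp [hf]
      comm₂₃ := by simp [hg] }
  let ψ : ShortComplex.mk ι₁ p₁ w ⟶ ShortComplex.mk ι₁ (p₁ ≫ ι₀) w' :=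
    { τ₁ := 𝟙 _, τ₂ := 𝟙 _, τ₃ := ι₀
      comm₁₂ := by simp
      comm₂₃ := by simp }
  haveI : Epi φ.τ₁ := by dsimp [φ]; infer_instance
  haveI : IsIso φ.τ₂ := by dsimp [φ]; infer_instance
  haveI : Mono φ.τ₃ := by dsimp [φ]; infer_instance
  haveI : Epi ψ.τ₁ := by dsimp [ψ]; infer_instance
  haveI : IsIso ψ.τ₂ := by dsimp [ψ]; infer_instance
  haveI : Mono ψ.τ₃ := by dsimp [ψ]; infer_instance
  exact (ShortComplex.exact_iff_of_epi_of_isIso_of_mono φ).2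
    ((ShortComplex.exact_iff_of_epi_of_isIso_of_mono ψ).1 hex)

namespace Tower

variable {P₀ : ObjectProperty C} (T : Tower P₀)

lemma shortExact (i : ℕ) : (ShortComplex.mk (T.ι i) (T.p i) (T.zero i)).ShortExact :=
  ShortComplex.ShortExact.mk' (T.exact i) (T.mono i) (T.epi i)

lemma zero_assoc (i : ℕ) {Z : C} (h : T.K i ⟶ Z) : T.ι i ≫ T.p i ≫ h = 0 := by
  rw [← Category.assoc, T.zero, zero_comp]

noncomputable abbrev cx : ChainComplex C ℕ :=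
  ChainComplex.of T.L (fun i => T.p (i + 1) ≫ T.ι i) (fun i => by
    rw [Category.assoc, T.zero_assoc, comp_zero])

lemma cx_d (i : ℕ) : T.cx.d (i + 1) i = T.p (i + 1) ≫ T.ι i := by
  show ChainComplex.of.d T.L (fun i => T.p (i + 1) ≫ T.ι i) (i + 1) i = _
  exact ChainComplex.of_d _ _ _

lemma cx_exactAt (i : ℕ) : T.cx.ExactAt (i + 1) := by
  rw [T.cx.exactAt_iff' (i + 1 + 1) (i + 1) i (ChainComplex.prev ℕ (i + 1))
    (ChainComplex.next_nat_succ i)]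
  haveI := T.epi (i + 1 + 1)
  haveI := T.mono i
  exact exact_of_shape _ (T.p (i + 1 + 1)) (T.ι (i + 1)) (T.p (i + 1)) (T.ι i)
    (T.cx_d (i + 1)) (T.cx_d i) (T.epi (i + 1 + 1)) (T.mono i) (T.zero (i + 1))
    (T.exact (i + 1))

lemma cx_H0 : Nonempty (T.cx.homology 0 ≅ T.K 0) := by
  haveI := T.epi 0
  haveI := T.epi 1
  haveI : Epi (ShortComplex.mk (T.ι 0) (T.p 0) (T.zero 0)).g := T.epi 0
  have hd : T.cx.d 1 0 = T.p 1 ≫ T.ι 0 := T.cx_d 0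
  have h1 : T.cx.d 1 0 ≫ T.p 0 = 0 := by rw [hd, Category.assoc, T.zero, comp_zero]
  obtain ⟨α, hα⟩ : ∃ α : T.cx.opcycles 0 ⟶ T.K 0, T.cx.pOpcycles 0 ≫ α = T.p 0 :=
    ⟨T.cx.descOpcycles (T.p 0) 1 (ChainComplex.prev ℕ 0) h1, T.cx.p_descOpcycles _ _ _ _⟩
  have h2 : T.ι 0 ≫ T.cx.pOpcycles 0 = 0 := by
    rw [← cancel_epi (T.p 1), ← Category.assoc, ← hd, T.cx.d_pOpcycles, comp_zero]
  obtain ⟨β, hβ⟩ : ∃ β : T.K 0 ⟶ T.cx.opcycles 0, T.p 0 ≫ β = T.cx.pOpcycles 0 :=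
    ⟨(T.exact 0).desc (T.cx.pOpcycles 0) h2, (T.exact 0).g_desc _ _⟩
  refine ⟨T.cx.isoHomologyι₀ ≪≫ ⟨α, β, ?_, ?_⟩⟩
  · rw [← cancel_epi (T.cx.pOpcycles 0), ← Category.assoc, hα, hβ, Category.comp_id]
  · rw [← cancel_epi (T.p 0), ← Category.assoc, hβ, hα, Category.comp_id]

lemma cx_cycles (i : ℕ) : Nonempty (T.cx.cycles (i + 1) ≅ T.K (i + 1 + 1)) := by
  haveI := T.mono i
  haveI := T.mono (i + 1)
  haveI : Mono (ShortComplex.mk (T.ι (i + 1)) (T.p (i + 1)) (T.zero (i + 1))).f := T.mono (i + 1)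
  have hd : T.cx.d (i + 1) i = T.p (i + 1) ≫ T.ι i := T.cx_d i
  have h1 : T.cx.iCycles (i + 1) ≫ T.p (i + 1) = 0 := by
    rw [← cancel_mono (T.ι i), Category.assoc, ← hd, T.cx.iCycles_d, zero_comp]
  obtain ⟨α, hα⟩ : ∃ α : T.cx.cycles (i + 1) ⟶ T.K (i + 1 + 1),
      α ≫ T.ι (i + 1) = T.cx.iCycles (i + 1) :=
    ⟨(T.exact (i + 1)).lift (T.cx.iCycles (i + 1)) h1, (T.exact (i + 1)).lift_f _ _⟩
  have h2 : T.ι (i + 1) ≫ T.cx.d (i + 1) i = 0 := by rw [hd, T.zero_assoc]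
  obtain ⟨β, hβ⟩ : ∃ β : T.K (i + 1 + 1) ⟶ T.cx.cycles (i + 1),
      β ≫ T.cx.iCycles (i + 1) = T.ι (i + 1) :=
    ⟨T.cx.liftCycles (T.ι (i + 1)) i (ChainComplex.next_nat_succ i) h2,
      T.cx.liftCycles_i _ _ _ _⟩
  refine ⟨⟨α, β, ?_, ?_⟩⟩
  · rw [← cancel_mono (T.cx.iCycles (i + 1)), Category.assoc, hβ, hα, Category.id_comp]
  · rw [← cancel_mono (T.ι (i + 1)), Category.assoc, hα, hβ, Category.id_comp]

end Tower

/-! ### prepending a step to a tower -/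

def preK (A : C) (K' : ℕ → C) : ℕ → C
  | 0 => A
  | i + 1 => K' i

def preP (A L₀ : C) (p₀ : L₀ ⟶ A) (K' L' : ℕ → C) (p' : ∀ i, L' i ⟶ K' i) :
    ∀ i, preK L₀ L' i ⟶ preK A K' i
  | 0 => p₀
  | i + 1 => p' i

def preI (A L₀ : C) (K' L' : ℕ → C) (ι₀ : K' 0 ⟶ L₀) (ι' : ∀ i, K' (i + 1) ⟶ L' i) :
    ∀ i, preK A K' (i + 1) ⟶ preK L₀ L' i
  | 0 => ι₀
  | i + 1 => ι' i

lemma exact_iso_kernel {A L₀ K : C} (p₀ : L₀ ⟶ A) (e : K ≅ kernel p₀)
    (w : (e.hom ≫ kernel.ι p₀) ≫ p₀ = 0) :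
    (ShortComplex.mk (e.hom ≫ kernel.ι p₀) p₀ w).Exact := by
  let φ : ShortComplex.mk (e.hom ≫ kernel.ι p₀) p₀ w ⟶
      ShortComplex.mk (kernel.ι p₀) p₀ (kernel.condition p₀) :=
    { τ₁ := e.hom, τ₂ := 𝟙 _, τ₃ := 𝟙 _
      comm₁₂ := by simp
      comm₂₃ := by simp }
  haveI : Epi φ.τ₁ := by dsimp [φ]; infer_instance
  haveI : IsIso φ.τ₂ := by dsimp [φ]; infer_instance
  haveI : Mono φ.τ₃ := by dsimp [φ]; infer_instance
  exact (ShortComplex.exact_iff_of_epi_of_isIso_of_mono φ).2 (ShortComplex.exact_kernel p₀)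

noncomputable def prepend {P₀ : ObjectProperty C} {A L₀ : C} (p₀ : L₀ ⟶ A) (hL₀ : P₀ L₀)
    [Epi p₀] (T' : Tower P₀) (e' : T'.K 0 ≅ kernel p₀) : Tower P₀ where
  K := preK A T'.K
  L := preK L₀ T'.L
  p := preP A L₀ p₀ T'.K T'.L T'.p
  ι := preI A L₀ T'.K T'.L (e'.hom ≫ kernel.ι p₀) T'.ι
  hL := fun i => by
    cases i with
    | zero => exact hL₀
    | succ i => exact T'.hL i
  epi := fun i => by
    cases i with
    | zero => exact (inferInstance : Epi p₀)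
    | succ i => exact T'.epi i
  mono := fun i => by
    cases i with
    | zero => exact (mono_comp e'.hom (kernel.ι p₀))
    | succ i => exact T'.mono i
  zero := fun i => by
    cases i with
    | zero =>
      show (e'.hom ≫ kernel.ι p₀) ≫ p₀ = 0
      rw [Category.assoc, kernel.condition, comp_zero]
    | succ i => exact T'.zero i
  exact := fun i => by
    cases i with
    | zero => exact exact_iso_kernel p₀ e' _
    | succ i => exact T'.exact i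

/-! ### the classes `U n` -/

structure Hyp (P₀ P₁ : ObjectProperty C) : Prop where
  hle : ∀ X, P₀ X → P₁ X
  hext₀ : ∀ S : ShortComplex C, S.ShortExact → P₀ S.X₁ → P₀ S.X₃ → P₀ S.X₂
  h1₀ : ∀ S : ShortComplex C, S.ShortExact → P₀ S.X₂ → P₀ S.X₃ → P₀ S.X₁
  h1₁ : ∀ S : ShortComplex C, S.ShortExact → P₁ S.X₂ → P₁ S.X₃ → P₁ S.X₁
  h2 : ∀ (A B D : C) (u : A ⟶ B) (v : D ⟶ B), Epi u → P₁ A → P₁ B → P₁ D →
      ∃ (L : C) (u' : L ⟶ D) (v' : L ⟶ A), P₀ L ∧ Epi u' ∧ u' ≫ v = v' ≫ u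
  h3 : ∀ A : C, P₁ A → ∃ d : ℕ, ∀ L : ChainComplex C ℕ, (∀ i, P₀ (L.X i)) →
      (∀ i, 1 ≤ i → L.ExactAt i) → Nonempty (L.homology 0 ≅ A) → P₀ (L.cycles (d + 1))

def U (P₀ P₁ : ObjectProperty C) (n : ℕ) : ObjectProperty C :=
  fun A => P₁ A ∧ ∀ T : Tower P₀, Nonempty (T.K 0 ≅ A) → P₀ (T.K n)

section Classes

variable {P₀ P₁ : ObjectProperty C} [P₀.IsClosedUnderIsomorphisms]
  [P₁.IsClosedUnderIsomorphisms] (H : Hyp P₀ P₁)

include H

lemma Tower.K_succ_mem (T : Tower P₀) (i : ℕ) (h : P₀ (T.K i)) : P₀ (T.K (i + 1)) :=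
  H.h1₀ _ (T.shortExact i) (T.hL i) h

lemma Tower.K_mem_of_le (T : Tower P₀) {i j : ℕ} (hij : i ≤ j) (h : P₀ (T.K i)) :
    P₀ (T.K j) := by
  induction j, hij using Nat.le_induction with
  | base => exact h
  | succ j _ ih => exact T.K_succ_mem H j ih

omit H in
lemma U_le_P1 (P₀ P₁ : ObjectProperty C) (n : ℕ) : U P₀ P₁ n ≤ P₁ := fun _ h => h.1

lemma P0_le_U (n : ℕ) : P₀ ≤ U P₀ P₁ n := fun A hA =>
  ⟨H.hle A hA, fun T he => by
    obtain ⟨e⟩ := he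
    exact T.K_mem_of_le H (Nat.zero_le n) (P₀.prop_of_iso e.symm hA)⟩

lemma U_mono {n m : ℕ} (h : n ≤ m) : U P₀ P₁ n ≤ U P₀ P₁ m := fun _ hA =>
  ⟨hA.1, fun T e => T.K_mem_of_le H h (hA.2 T e)⟩

lemma P1_kernel {L A : C} (p : L ⟶ A) [Epi p] (hL : P₁ L) (hA : P₁ A) : P₁ (kernel p) :=
  H.h1₁ _ (ses_ker p) hL hA

lemma U_kernel (n : ℕ) (A L : C) (p : L ⟶ A) (hA : U P₀ P₁ (n + 1) A) (hL : P₀ L)
    (hp : Epi p) : U P₀ P₁ n (kernel p) := by
  haveI := hp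
  refine ⟨P1_kernel H p (H.hle _ hL) hA.1, ?_⟩
  rintro T' ⟨e'⟩
  exact hA.2 (prepend p hL T' e') ⟨Iso.refl _⟩

lemma Hyp.cover (D : C) (hD : P₁ D) : ∃ (L : C) (u : L ⟶ D), P₀ L ∧ Epi u := by
  obtain ⟨L, u', _, hL, hu', _⟩ := H.h2 D D D (𝟙 D) (𝟙 D) inferInstance hD hD hD
  exact ⟨L, u', hL, hu'⟩

noncomputable def nxt (D : {X : C // P₁ X}) : {X : C // P₁ X} :=
  ⟨kernel (H.cover D.1 D.2).choose_spec.choose, by
    haveI := (H.cover D.1 D.2).choose_spec.choose_spec.2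
    exact P1_kernel H _ (H.hle _ (H.cover D.1 D.2).choose_spec.choose_spec.1) D.2⟩

noncomputable def KK (A : {X : C // P₁ X}) : ℕ → {X : C // P₁ X}
  | 0 => A
  | i + 1 => nxt H (KK A i)

noncomputable def towerOf (A : {X : C // P₁ X}) : Tower P₀ where
  K i := (KK H A i).1
  L i := (H.cover (KK H A i).1 (KK H A i).2).choose
  p i := (H.cover (KK H A i).1 (KK H A i).2).choose_spec.choose
  ι i := kernel.ι (H.cover (KK H A i).1 (KK H A i).2).choose_spec.choose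
  hL i := (H.cover (KK H A i).1 (KK H A i).2).choose_spec.choose_spec.1
  epi i := (H.cover (KK H A i).1 (KK H A i).2).choose_spec.choose_spec.2
  mono i := (inferInstance :
    Mono (kernel.ι (H.cover (KK H A i).1 (KK H A i).2).choose_spec.choose))
  zero i := kernel.condition _
  exact i := ShortComplex.exact_kernel _

lemma exists_tower (A : C) (hA : P₁ A) : ∃ T : Tower P₀, Nonempty (T.K 0 ≅ A) :=
  ⟨towerOf H ⟨A, hA⟩, ⟨Iso.refl _⟩⟩

lemma U_zero_le : U P₀ P₁ 0 ≤ P₀ := fun A h => by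
  obtain ⟨T, ⟨e⟩⟩ := exists_tower H A h.1
  exact P₀.prop_of_iso e (h.2 T ⟨e⟩)

lemma exists_U (A : C) (hA : P₁ A) : ∃ n, U P₀ P₁ n A := by
  obtain ⟨d, hd⟩ := H.h3 A hA
  refine ⟨d + 1 + 1, hA, ?_⟩
  rintro T ⟨e⟩
  have h := hd T.cx T.hL (fun i hi => by
    cases i with
    | zero => omega
    | succ j => exact T.cx_exactAt j) (T.cx_H0.map (fun e₀ => e₀ ≪≫ e))
  obtain ⟨ec⟩ := T.cx_cycles d
  exact P₀.prop_of_iso ec h

lemma stepHyp (n : ℕ) : StepHyp P₀ (U P₀ P₁ n) (U P₀ P₁ (n + 1)) P₁ where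
  h0P := P0_le_U H n
  hPQ := U_mono H (Nat.le_succ n)
  hQ1 := U_le_P1 P₀ P₁ (n + 1)
  hext₀ := H.hext₀
  h1₀ := H.h1₀
  h2 := H.h2
  hkQ := fun A L p hA hL hp => U_kernel H n A L p hA hL hp
  hkP := fun A L p hA hL hp => U_kernel H n A L p (U_mono H (Nat.le_succ n) A hA) hL hp

lemma bij : ∀ n : ℕ, Function.Bijective (inc P₀ (U P₀ P₁ n) (P0_le_U H n))
  | 0 => inc_bij_of_le _ _ _ (U_zero_le H)
  | n + 1 => by
    have h := (oneStep (stepHyp H n)).comp (bij n)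
    have e : (⇑(inc (U P₀ P₁ n) (U P₀ P₁ (n + 1)) (stepHyp H n).hPQ) ∘
        ⇑(inc P₀ (U P₀ P₁ n) (P0_le_U H n))) =
        ⇑(inc P₀ (U P₀ P₁ (n + 1)) (P0_le_U H (n + 1))) := by
      funext x
      exact inc_comp_apply _ _ _ _ _ x
    rwa [e] at h

theorem inc_bijective : Function.Bijective (inc P₀ P₁ H.hle) := by
  classical
  have hinj : ∀ n, Function.Injective (inc P₀ (U P₀ P₁ n) (P0_le_U H n)) := fun n => (bij H n).1
  have hsurj : ∀ n, Function.Surjective (inc P₀ (U P₀ P₁ n) (P0_le_U H n)) :=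
    fun n => (bij H n).2
  have key : ∀ A : C, P₁ A → ∃ x : K0sub P₀, ∀ (k : ℕ) (_ : U P₀ P₁ k A),
      inc P₀ (U P₀ P₁ k) (P0_le_U H k) x = clSub (U P₀ P₁ k) A := by
    intro A hA
    obtain ⟨n, hn⟩ := exists_U H A hA
    obtain ⟨x, hx⟩ := hsurj n (clSub (U P₀ P₁ n) A)
    refine ⟨x, fun k hk => ?_⟩
    have hnm : n ≤ max n k := le_max_left _ _
    have hkm : k ≤ max n k := le_max_right _ _
    have e1 : inc P₀ (U P₀ P₁ (max n k)) (P0_le_U H _) x = clSub (U P₀ P₁ (max n k)) A := by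
      have h := inc_comp_apply P₀ (U P₀ P₁ n) (U P₀ P₁ (max n k)) (P0_le_U H n)
        (U_mono H hnm) x
      rw [hx, inc_cl _ _ _ A hn] at h
      exact h.symm
    obtain ⟨y, hy⟩ := hsurj k (clSub (U P₀ P₁ k) A)
    have e2 : inc P₀ (U P₀ P₁ (max n k)) (P0_le_U H _) y = clSub (U P₀ P₁ (max n k)) A := by
      have h := inc_comp_apply P₀ (U P₀ P₁ k) (U P₀ P₁ (max n k)) (P0_le_U H k)
        (U_mono H hkm) y
      rw [hy, inc_cl _ _ _ A hk] at h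
      exact h.symm
    have hxy : x = y := hinj _ (e1.trans e2.symm)
    rw [hxy, hy]
  choose! f hf using key
  have hadd : ∀ S : ShortComplex C, S.ShortExact → P₁ S.X₁ → P₁ S.X₂ → P₁ S.X₃ →
      f S.X₂ = f S.X₁ + f S.X₃ := by
    intro S hS h₁ h₂ h₃
    obtain ⟨n₁, hn₁⟩ := exists_U H _ h₁
    obtain ⟨n₂, hn₂⟩ := exists_U H _ h₂
    obtain ⟨n₃, hn₃⟩ := exists_U H _ h₃
    obtain ⟨k, hk₁, hk₂, hk₃⟩ : ∃ k, n₁ ≤ k ∧ n₂ ≤ k ∧ n₃ ≤ k :=
      ⟨max n₁ (max n₂ n₃), le_max_left _ _, le_trans (le_max_left _ _) (le_max_right _ _),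
        le_trans (le_max_right _ _) (le_max_right _ _)⟩
    have u₁ := U_mono H hk₁ _ hn₁
    have u₂ := U_mono H hk₂ _ hn₂
    have u₃ := U_mono H hk₃ _ hn₃
    apply hinj k
    rw [map_add, hf _ h₁ k u₁, hf _ h₂ k u₂, hf _ h₃ k u₃]
    exact clSub_ses (U P₀ P₁ k) S hS u₁ u₂ u₃
  obtain ⟨ψ, hψ⟩ : ∃ ψ : K0sub P₁ →+ K0sub P₀, ∀ (A : C) (_ : P₁ A), ψ (clSub P₁ A) = f A :=
    ⟨liftSub P₁ f hadd, fun A hA => liftSub_clSub P₁ f hadd A hA⟩
  have hl : ψ.comp (inc P₀ P₁ H.hle) = AddMonoidHom.id _ := homSub_ext P₀ _ _ (fun A hA => by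
    rw [AddMonoidHom.comp_apply, inc_cl _ _ _ A hA, hψ A (H.hle A hA), AddMonoidHom.id_apply]
    apply hinj 0
    rw [hf A (H.hle A hA) 0 (P0_le_U H 0 A hA), inc_cl _ _ _ A hA])
  have hr : (inc P₀ P₁ H.hle).comp ψ = AddMonoidHom.id _ := homSub_ext P₁ _ _ (fun A hA => by
    obtain ⟨n, hn⟩ := exists_U H A hA
    rw [AddMonoidHom.comp_apply, hψ A hA, AddMonoidHom.id_apply]
    have h := inc_comp_apply P₀ (U P₀ P₁ n) P₁ (P0_le_U H n) (U_le_P1 P₀ P₁ n) (f A)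
    rw [hf A hA n hn, inc_cl _ _ _ A hn] at h
    exact h.symm)
  exact ⟨Function.LeftInverse.injective (g := ψ) (fun x => DFunLike.congr_fun hl x),
    Function.RightInverse.surjective (g := ψ) (fun y => DFunLike.congr_fun hr y)⟩

end Classes

theorem main (P₀ P₁ : ObjectProperty C) [P₀.IsClosedUnderIsomorphisms]
    [P₁.IsClosedUnderIsomorphisms] (hle : ∀ X, P₀ X → P₁ X)
    (hext₀ : ∀ S : ShortComplex C, S.ShortExact → P₀ S.X₁ → P₀ S.X₃ → P₀ S.X₂)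
    (_hext₁ : ∀ S : ShortComplex C, S.ShortExact → P₁ S.X₁ → P₁ S.X₃ → P₁ S.X₂)
    (h1₀ : ∀ S : ShortComplex C, S.ShortExact → P₀ S.X₂ → P₀ S.X₃ → P₀ S.X₁)
    (h1₁ : ∀ S : ShortComplex C, S.ShortExact → P₁ S.X₂ → P₁ S.X₃ → P₁ S.X₁)
    (h2 : ∀ (A B D : C) (u : A ⟶ B) (v : D ⟶ B), Epi u → P₁ A → P₁ B → P₁ D →
      ∃ (L : C) (u' : L ⟶ D) (v' : L ⟶ A), P₀ L ∧ Epi u' ∧ u' ≫ v = v' ≫ u)
    (h3 : ∀ A : C, P₁ A → ∃ d : ℕ, ∀ L : ChainComplex C ℕ, (∀ i, P₀ (L.X i)) →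
      (∀ i, 1 ≤ i → L.ExactAt i) → Nonempty (L.homology 0 ≅ A) → P₀ (L.cycles (d + 1))) :
    Function.Bijective (SGA6.mapSub (𝟭 C) P₀ P₁ hle) := by
  have H : Hyp P₀ P₁ := ⟨hle, hext₀, h1₀, h1₁, h2, h3⟩
  have e : SGA6.mapSub (𝟭 C) P₀ P₁ hle = inc P₀ P₁ hle := homSub_ext P₀ _ _ (fun X hX => by
    rw [inc_cl _ _ _ X hX, clSub_eq P₀ X hX, clSub_eq P₁ X (hle X hX)]
    unfold SGA6.mapSub
    rw [QuotientAddGroup.map_mk, FreeAbelianGroup.map_of_apply]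
    rfl)
  rw [e]
  exact inc_bijective H

end Groth.Agent.Lib.ResolK0H4
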