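import Mathlib
import Groth.Prelude.Def_KZero
import Groth.Prelude.Def_SGA6
import Groth.Agent.Lib.ResolK0_helper4

/-!
# Resolutions and towers (helper9)

Pure homological algebra in an abelian category, on top of helper4's `Tower`:
* `LES` : a long exact sequence `… → X 2 → X 1 → X 0 → 0`, and `LES.tower` the associated tower of
  syzygies (`K 0 = X 0`, `K (i+1) = ker (X (i+1) → X i)`, `L i = X (i+1)`);
* `LES.ofComplex` : the long exact sequence of an augmented chain complex exact in positive degrees;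
* `of_quasiIso` : a quasi-isomorphism `L ⟶ single₀ F` gives such an augmentation;
* `Tower.π`, `Tower.quasiIso_π` : the complex of a tower is a resolution of `K 0`;
* `Tower.single` : the one-step tower of an object of `P₀`.
APPEND-ONLY once landed.
-/

set_option autoImplicit false
set_option linter.style.haveILetI false
set_option linter.unusedSectionVars false

universe v u

open CategoryTheory CategoryTheory.Limits ZeroObject

namespace Groth.Agent.KRRRes

open Groth.Agent.Lib.ResolK0H4

variable {C : Type u} [Category.{v} C] [Abelian C]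

/-- A long exact sequence `… → X 2 → X 1 → X 0 → 0`. -/
structure LES (C : Type u) [Category.{v} C] [Abelian C] where
  X : ℕ → C
  d : ∀ i, X (i + 1) ⟶ X i
  w : ∀ i, d (i + 1) ≫ d i = 0
  exact : ∀ i, (ShortComplex.mk (d (i + 1)) (d i) (w i)).Exact
  epi : Epi (d 0)

namespace LES

variable (E : LES C)

/-- the syzygies of a long exact sequence -/
noncomputable def K : ℕ → C
  | 0 => E.X 0
  | i + 1 => kernel (E.d i)

/-- the projections onto the syzygies -/
noncomputable def p : ∀ i, E.X (i + 1) ⟶ E.K i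
  | 0 => E.d 0
  | i + 1 => kernel.lift (E.d i) (E.d (i + 1)) (E.w i)

/-- the inclusions of the syzygies -/
noncomputable def ι (i : ℕ) : E.K (i + 1) ⟶ E.X (i + 1) := kernel.ι (E.d i)

lemma ι_p (i : ℕ) : E.ι i ≫ E.p i = 0 := by
  cases i with
  | zero => exact kernel.condition _
  | succ i =>
    apply (cancel_mono (kernel.ι (E.d i))).1
    show (kernel.ι (E.d (i + 1)) ≫ kernel.lift (E.d i) (E.d (i + 1)) (E.w i)) ≫ kernel.ι (E.d i) =
      0 ≫ kernel.ι (E.d i)
    rw [Category.assoc, kernel.lift_ι, kernel.condition, zero_comp]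

lemma epi_p (i : ℕ) : Epi (E.p i) := by
  cases i with
  | zero => exact E.epi
  | succ i => exact (ShortComplex.exact_iff_epi_kernel_lift _).1 (E.exact i)

lemma exact_ι_p (i : ℕ) : (ShortComplex.mk (E.ι i) (E.p i) (E.ι_p i)).Exact := by
  cases i with
  | zero => exact ShortComplex.exact_kernel (E.d 0)
  | succ i =>
    let φ : ShortComplex.mk (E.ι (i + 1)) (E.p (i + 1)) (E.ι_p (i + 1)) ⟶
        ShortComplex.mk (kernel.ι (E.d (i + 1))) (E.d (i + 1)) (kernel.condition _) :=
      { τ₁ := 𝟙 _, τ₂ := 𝟙 _, τ₃ := kernel.ι (E.d i)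
        comm₁₂ := by
          show 𝟙 _ ≫ kernel.ι (E.d (i + 1)) = E.ι (i + 1) ≫ 𝟙 _
          rw [Category.id_comp, Category.comp_id]
          rfl
        comm₂₃ := by
          show 𝟙 _ ≫ E.d (i + 1) = E.p (i + 1) ≫ kernel.ι (E.d i)
          rw [Category.id_comp]
          exact (kernel.lift_ι _ _ _).symm }
    haveI : Epi φ.τ₁ := (inferInstance : Epi (𝟙 (kernel (E.d (i + 1)))))
    haveI : IsIso φ.τ₂ := (inferInstance : IsIso (𝟙 (E.X (i + 1 + 1))))
    haveI : Mono φ.τ₃ := (inferInstance : Mono (kernel.ι (E.d i)))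
    exact (ShortComplex.exact_iff_of_epi_of_isIso_of_mono φ).2
      (ShortComplex.exact_kernel (E.d (i + 1)))

/-- the tower of syzygies of a long exact sequence -/
noncomputable def tower (P₀ : ObjectProperty C) (hP : ∀ i, P₀ (E.X (i + 1))) : Tower P₀ where
  K := E.K
  L i := E.X (i + 1)
  p := E.p
  ι := E.ι
  hL := hP
  epi := E.epi_p
  mono i := (inferInstance : Mono (kernel.ι (E.d i)))
  zero := E.ι_p
  exact := E.exact_ι_p

end LES

/-- objects of the augmented complex -/
def resX (L : ChainComplex C ℕ) (A : C) : ℕ → C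
  | 0 => A
  | i + 1 => L.X i

/-- differentials of the augmented complex -/
def resD (L : ChainComplex C ℕ) {A : C} (ε : L.X 0 ⟶ A) : ∀ i, resX L A (i + 1) ⟶ resX L A i
  | 0 => ε
  | i + 1 => L.d (i + 1) i

/-- the long exact sequence of an augmented chain complex -/
noncomputable def LES.ofComplex (L : ChainComplex C ℕ) {A : C} (ε : L.X 0 ⟶ A)
    (hε : L.d 1 0 ≫ ε = 0) (h0 : (ShortComplex.mk (L.d 1 0) ε hε).Exact) (hepi : Epi ε)
    (hex : ∀ i, L.ExactAt (i + 1)) : LES C where
  X := resX L A
  d := resD L ε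
  w i := by
    cases i with
    | zero => exact hε
    | succ i => exact L.d_comp_d _ _ _
  exact i := by
    cases i with
    | zero => exact h0
    | succ i =>
      exact (L.exactAt_iff' (i + 1 + 1) (i + 1) i (ChainComplex.prev ℕ (i + 1))
        (ChainComplex.next_nat_succ i)).1 (hex i)
  epi := hepi

/-- A quasi-isomorphism onto `single₀ F` gives an exact augmentation. -/
lemma of_quasiIso (L : ChainComplex C ℕ) (F : C) (π : L ⟶ (ChainComplex.single₀ C).obj F)
    [QuasiIso π] :
    ∃ (hε : L.d 1 0 ≫ π.f 0 = 0), (ShortComplex.mk (L.d 1 0) (π.f 0) hε).Exact ∧ Epi (π.f 0) ∧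
      ∀ i, L.ExactAt (i + 1) := by
  have h0 : QuasiIsoAt π 0 := inferInstance
  rw [ChainComplex.quasiIsoAt₀_iff, ShortComplex.quasiIso_iff_of_zeros' _
    (L.shape 0 0 (by simp)) rfl rfl] at h0
  have hε : L.d 1 0 ≫ π.f 0 = 0 := by
    have := π.comm 1 0
    rw [← this]
    exact comp_zero
  refine ⟨hε, h0.1, h0.2, fun i => ?_⟩
  exact (quasiIsoAt_iff_exactAt' π (i + 1) (ChainComplex.exactAt_succ_single_obj F i)).1
    inferInstance

/-- the cycles of a chain complex in positive degree are the kernel of the differential -/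
noncomputable def cyclesIsoKernel (L : ChainComplex C ℕ) (i : ℕ) :
    L.cycles (i + 1) ≅ kernel (L.d (i + 1) i) :=
  IsLimit.conePointUniqueUpToIso (L.cyclesIsKernel (i + 1) i (ChainComplex.next_nat_succ i))
    (limit.isLimit _)

namespace Tower'

variable {P₀ : ObjectProperty C} (T : Tower P₀)

/-- the augmentation of the complex of a tower -/
noncomputable def π : T.cx ⟶ (ChainComplex.single₀ C).obj (T.K 0) :=
  (ChainComplex.toSingle₀Equiv _ _).symm ⟨T.p 0, by
    rw [T.cx_d 0, Category.assoc, T.zero, comp_zero]⟩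

lemma π_f_zero : (π T).f 0 = T.p 0 :=
  ChainComplex.toSingle₀Equiv_symm_apply_f_zero _ _

lemma quasiIso_π : QuasiIso (π T) := ⟨fun n => by
  cases n with
  | zero =>
    rw [ChainComplex.quasiIsoAt₀_iff, ShortComplex.quasiIso_iff_of_zeros' _
      (T.cx.shape 0 0 (by simp)) rfl rfl]
    have hπ : (π T).f 0 = T.p 0 := π_f_zero T
    have hd : T.cx.d 1 0 = T.p 1 ≫ T.ι 0 := T.cx_d 0
    have hz : T.cx.d 1 0 ≫ (π T).f 0 = 0 := by
      rw [hπ, hd]
      show (T.p 1 ≫ T.ι 0) ≫ T.p 0 = 0
      rw [Category.assoc, T.zero, comp_zero]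
    have hex : (ShortComplex.mk (T.cx.d 1 0) ((π T).f 0) hz).Exact := by
      let φ : ShortComplex.mk (T.cx.d 1 0) ((π T).f 0) hz ⟶
          ShortComplex.mk (T.ι 0) (T.p 0) (T.zero 0) :=
        { τ₁ := T.p 1, τ₂ := 𝟙 _, τ₃ := 𝟙 _
          comm₁₂ := by
            show T.p 1 ≫ T.ι 0 = T.cx.d 1 0 ≫ 𝟙 _
            rw [Category.comp_id, hd]
          comm₂₃ := by
            show 𝟙 _ ≫ T.p 0 = (π T).f 0 ≫ 𝟙 _
            rw [Category.comp_id, Category.id_comp, hπ] }
      haveI : Epi φ.τ₁ := T.epi 1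
      haveI : IsIso φ.τ₂ := (inferInstance : IsIso (𝟙 (T.L 0)))
      haveI : Mono φ.τ₃ := (inferInstance : Mono (𝟙 (T.K 0)))
      exact (ShortComplex.exact_iff_of_epi_of_isIso_of_mono φ).2 (T.exact 0)
    refine ⟨hex, ?_⟩
    show Epi ((π T).f 0)
    rw [hπ]
    exact T.epi 0
  | succ n =>
    rw [quasiIsoAt_iff_exactAt' _ _ (ChainComplex.exactAt_succ_single_obj _ _)]
    exact T.cx_exactAt n⟩

end Tower'

/-- objects of the one-step tower -/
noncomputable def singleK (A : C) : ℕ → C
  | 0 => A
  | _ + 1 => 0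

/-- the one-step tower of an object of `P₀` -/
noncomputable def singleTower (P₀ : ObjectProperty C) (A : C) (hA : P₀ A) (h0 : P₀ (0 : C)) :
    Tower P₀ where
  K := singleK A
  L := singleK A
  p i := 𝟙 _
  ι i := 0
  hL i := by
    cases i with
    | zero => exact hA
    | succ i => exact h0
  epi i := inferInstance
  mono i := (inferInstance : Mono (0 : (0 : C) ⟶ singleK A i))
  zero i := zero_comp
  exact i := by
    rw [ShortComplex.exact_iff_mono _ rfl]
    dsimp
    infer_instance

end Groth.Agent.KRRRes
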