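import Mathlib
import Groth.Prelude
import Groth.Agent.Lib.KRRRes1_helper9
import Groth.Agent.Lib.CohKer_helper8
import Groth.Agent.Lib.CohOpen1_helper8
import Groth.Agent.Lib.CohSerre_helper3
import Groth.Agent.Lib.AmpleK1_helper6
import Groth.Agent.Lib.AmpleK2_helper6

/-!
# Projective dimension of sections and finite locally free resolutions (helper9)

`SecPd d M` : over every affine open the module of sections of `M` has projective dimension `≤ d`.
`Q d M` : `M` is coherent with `SecPd d M`.  On a locally Noetherian scheme: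
* `Q 0 M ↔ M` finite locally free (`Q_zero_of_vb`, `vb_of_Q_zero`);
* dimension shifting along short exact sequences (`Q_X₁`, `Q_X₃`, `vb_X₂`);
* along towers (`tower_down`, `tower_up`);
* `Q_of_isLFRes`, `hasLFRes_of_Q` (with enough locally frees), `cycles_vb`.
APPEND-ONLY once landed.
-/

set_option autoImplicit false
set_option linter.style.haveILetI false
set_option linter.unusedSectionVars false

universe u

open CategoryTheory CategoryTheory.Limits AlgebraicGeometry TopologicalSpace Opposite ZeroObject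

namespace Groth.Agent.KRRRes

open Groth.Agent.Lib.ResolK0H4

variable {X : Scheme.{u}}

/-- Sections of a morphism of modules as a linear map. -/
noncomputable def appₗ {F G : X.Modules} (φ : F ⟶ G) (U : X.Opens) :
    Γ(F, U) →ₗ[Γ(X, U)] Γ(G, U) where
  toFun := φ.app U
  map_add' := map_add _
  map_smul' r x := Scheme.Modules.Hom.app_smul φ r x

/-- sections of a short exact sequence of quasi-coherent modules over an affine open -/
lemma sec_shortExact (S : ShortComplex X.Modules) (hS : S.ShortExact)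
    [S.X₂.IsQuasicoherent] [S.X₃.IsQuasicoherent] (U : X.affineOpens) :
    ∃ (w : (appₗ S.g U.1).comp (appₗ S.f U.1) = 0),
      (ShortComplex.moduleCatMk (appₗ S.f U.1) (appₗ S.g U.1) w).ShortExact := by
  haveI := hS.mono_f
  haveI := hS.epi_g
  have hi : Function.Injective (appₗ S.f U.1) := QCohExact.app_injective_of_mono S.f U.1
  have hp : Function.Surjective (appₗ S.g U.1) := QCohExact.app_surjective_of_epi S.g U.2
  have hex : Function.Exact (appₗ S.f U.1) (appₗ S.g U.1) := by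
    intro y
    constructor
    · intro hy
      exact QCohExact.app_exact S hS.exact U.1 y hy
    · rintro ⟨k, rfl⟩
      have := congrArg (fun χ => (χ.app U.1).hom k) S.zero
      exact this
  exact ⟨hex.linearMap_comp_eq_zero, ModuleCat.shortComplex_shortExact _ hex hi hp⟩

/-- the sections of `M` over every affine open have projective dimension `≤ d` -/
def SecPd (d : ℕ) (M : X.Modules) : Prop :=
  ∀ U : X.affineOpens, HasProjectiveDimensionLT (ModuleCat.of Γ(X, U.1) Γ(M, U.1)) (d + 1)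

/-- coherent, with sections of projective dimension `≤ d` -/
def Q (d : ℕ) (M : X.Modules) : Prop := Coh.IsCoh M ∧ SecPd d M

lemma SecPd.mono {d e : ℕ} (h : d ≤ e) {M : X.Modules} (hM : SecPd d M) : SecPd e M := fun U => by
  haveI := hM U
  exact hasProjectiveDimensionLT_of_ge _ (d + 1) (e + 1) (by omega)

lemma Q.mono {d e : ℕ} (h : d ≤ e) {M : X.Modules} (hM : Q d M) : Q e M := ⟨hM.1, hM.2.mono h⟩

lemma isCoh_of_vb {M : X.Modules} (hM : FlatMod.IsFinLocFree M) : Coh.IsCoh M := by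
  haveI := FLFH8.isQuasicoherent_of_finLocFree M hM
  haveI := FLFH8.isFinitePresentation_of_finLocFree M hM
  exact ⟨inferInstance, inferInstance⟩

lemma secPd_zero_of_vb {M : X.Modules} (hM : FlatMod.IsFinLocFree M) : SecPd 0 M := fun U => by
  haveI := FLFH8.isQuasicoherent_of_finLocFree M hM
  obtain ⟨fp, fl⟩ := FLFH8.fp_flat_sections_of_finLocFree M hM U.2
  haveI := fp
  haveI := fl
  haveI : Module.Projective Γ(X, U.1) Γ(M, U.1) := Module.Flat.projective_of_finitePresentation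
  rw [zero_add, ← projective_iff_hasProjectiveDimensionLT_one, ← IsProjective.iff_projective]
  infer_instance

lemma Q_zero_of_vb {M : X.Modules} (hM : FlatMod.IsFinLocFree M) : Q 0 M :=
  ⟨isCoh_of_vb hM, secPd_zero_of_vb hM⟩

lemma vb_of_Q_zero [IsLocallyNoetherian X] {M : X.Modules} (hM : Q 0 M) :
    FlatMod.IsFinLocFree M := by
  obtain ⟨⟨hq, hf⟩, hpd⟩ := hM
  haveI : M.IsQuasicoherent := hq
  haveI : SheafOfModules.IsFiniteType (R := X.ringCatSheaf) M := hf
  refine FLFH8.finLocFree_of_fp_flat_sections M (fun U => ?_)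
  haveI : IsNoetherianRing Γ(X, U.1) := IsLocallyNoetherian.component_noetherian U
  haveI : Module.Finite Γ(X, U.1) Γ(M, U.1) := QCohFT.finite_of_isFiniteType M U.2
  have h := hpd U
  rw [zero_add, ← projective_iff_hasProjectiveDimensionLT_one, ← IsProjective.iff_projective] at h
  haveI := h
  exact ⟨Module.finitePresentation_of_projective _ _, inferInstance⟩

lemma isCoh_of_iso {M N : X.Modules} (e : M ≅ N) (hM : Coh.IsCoh M) : Coh.IsCoh N := by
  haveI := hM.1
  haveI hNq : N.IsQuasicoherent := CohOpenH8.isQuasicoherent_of_iso e.symm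
  exact ⟨hNq, CohOpenH8.isFiniteType_of_iso e.symm hM.2⟩

lemma secPd_of_iso {M N : X.Modules} (e : M ≅ N) {d : ℕ} (hM : SecPd d M) : SecPd d N := fun U => by
  haveI := hM U
  let f : Γ(M, U.1) ≃ₗ[Γ(X, U.1)] Γ(N, U.1) :=
    { appₗ e.hom U.1 with
      invFun := appₗ e.inv U.1
      left_inv := fun y => by
        have := congrArg (fun χ => (χ.app U.1).hom y) e.hom_inv_id
        exact this
      right_inv := fun y => by
        have := congrArg (fun χ => (χ.app U.1).hom y) e.inv_hom_id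
        exact this }
  exact hasProjectiveDimensionLT_of_iso f.toModuleIso (d + 1)

lemma Q_of_iso {M N : X.Modules} (e : M ≅ N) {d : ℕ} (hM : Q d M) : Q d N :=
  ⟨isCoh_of_iso e hM.1, secPd_of_iso e hM.2⟩

section SES

variable (S : ShortComplex X.Modules) (hS : S.ShortExact)
include hS

lemma secPd_X₁ [S.X₂.IsQuasicoherent] [S.X₃.IsQuasicoherent] (e : ℕ)
    (h₂ : SecPd e S.X₂) (h₃ : SecPd (e + 1) S.X₃) : SecPd e S.X₁ := fun U => by
  obtain ⟨w, hU⟩ := sec_shortExact S hS U
  exact hU.hasProjectiveDimensionLT_X₁ (e + 1) (h₂ U) (h₃ U)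

lemma secPd_X₂ [S.X₂.IsQuasicoherent] [S.X₃.IsQuasicoherent] (e : ℕ)
    (h₁ : SecPd e S.X₁) (h₃ : SecPd e S.X₃) : SecPd e S.X₂ := fun U => by
  obtain ⟨w, hU⟩ := sec_shortExact S hS U
  exact hU.hasProjectiveDimensionLT_X₂ (e + 1) (h₁ U) (h₃ U)

lemma secPd_X₃ [S.X₂.IsQuasicoherent] [S.X₃.IsQuasicoherent] (e : ℕ)
    (h₁ : SecPd e S.X₁) (h₂ : SecPd (e + 1) S.X₂) : SecPd (e + 1) S.X₃ := fun U => by
  obtain ⟨w, hU⟩ := sec_shortExact S hS U
  exact hU.hasProjectiveDimensionLT_X₃ (e + 1) (h₁ U) (h₂ U)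

lemma isCoh_X₁ [IsLocallyNoetherian X] (h₂ : Coh.IsCoh S.X₂) (h₃ : Coh.IsCoh S.X₃) :
    Coh.IsCoh S.X₁ := by
  haveI := hS.mono_f
  let e : S.X₁ ≅ kernel S.g :=
    IsLimit.conePointUniqueUpToIso hS.exact.fIsKernel (limit.isLimit _)
  exact isCoh_of_iso e.symm (CohKerH8.isCoh_kernel h₂ h₃ S.g)

lemma isCoh_X₃ (h₁ : Coh.IsCoh S.X₁) (h₂ : Coh.IsCoh S.X₂) : Coh.IsCoh S.X₃ := by
  haveI := hS.epi_g
  let e : S.X₃ ≅ cokernel S.f :=
    IsColimit.coconePointUniqueUpToIso hS.exact.gIsCokernel (colimit.isColimit _)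
  exact isCoh_of_iso e.symm (CohKerH8.isCoh_cokernel h₁ h₂ S.f)

/-- kernel of an epimorphism from a bundle: the dimension drops -/
lemma Q_X₁ [IsLocallyNoetherian X] (e : ℕ) (h₂ : FlatMod.IsFinLocFree S.X₂) (h₃ : Q e S.X₃) :
    Q (e - 1) S.X₁ := by
  have c₂ := isCoh_of_vb h₂
  haveI := c₂.1
  haveI := h₃.1.1
  refine ⟨isCoh_X₁ S hS c₂ h₃.1, ?_⟩
  cases e with
  | zero => exact secPd_X₁ S hS 0 (secPd_zero_of_vb h₂) (h₃.2.mono (by omega))
  | succ e => exact secPd_X₁ S hS e ((secPd_zero_of_vb h₂).mono (by omega)) h₃.2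

/-- general kernels -/
lemma Q_X₁' [IsLocallyNoetherian X] (e : ℕ) (h₂ : Q e S.X₂) (h₃ : Q e S.X₃) : Q e S.X₁ := by
  haveI := h₂.1.1
  haveI := h₃.1.1
  exact ⟨isCoh_X₁ S hS h₂.1 h₃.1, secPd_X₁ S hS e h₂.2 (h₃.2.mono (by omega))⟩

/-- cokernel of a monomorphism into a bundle: the dimension rises by at most one -/
lemma Q_X₃ (e : ℕ) (h₁ : Q e S.X₁) (h₂ : FlatMod.IsFinLocFree S.X₂) : Q (e + 1) S.X₃ := by
  have c₂ := isCoh_of_vb h₂
  have c₃ := isCoh_X₃ S hS h₁.1 c₂
  haveI := c₂.1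
  haveI := c₃.1
  exact ⟨c₃, secPd_X₃ S hS e h₁.2 ((secPd_zero_of_vb h₂).mono (by omega))⟩

/-- extensions of bundles are bundles -/
lemma vb_X₂ [IsLocallyNoetherian X] (h₁ : FlatMod.IsFinLocFree S.X₁)
    (h₃ : FlatMod.IsFinLocFree S.X₃) : FlatMod.IsFinLocFree S.X₂ := by
  have c₁ := isCoh_of_vb h₁
  have c₃ := isCoh_of_vb h₃
  have c₂ := Groth.Agent.Lib.CohSerreH3.isCoh_of_shortExact S hS c₁ c₃
  haveI := c₂.1
  haveI := c₃.1
  exact vb_of_Q_zero ⟨c₂, secPd_X₂ S hS 0 (secPd_zero_of_vb h₁) (secPd_zero_of_vb h₃)⟩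

end SES

section Towers

variable [IsLocallyNoetherian X] (T : Tower (KRR.vbP X))

lemma tower_down (d : ℕ) (h : Q d (T.K 0)) : ∀ i, Q (d - i) (T.K i)
  | 0 => h
  | i + 1 => by
    have h1 := Q_X₁ _ (T.shortExact i) (d - i) (T.hL i) (tower_down d h i)
    have e : d - (i + 1) = d - i - 1 := by omega
    rw [e]
    exact h1

lemma tower_up (n : ℕ) (hz : ∀ i, n < i → IsZero (T.L i)) (hcoh : Coh.IsCoh (T.K 0)) :
    Q (n + 1) (T.K 0) := by
  have hK : ∀ i, Coh.IsCoh (T.K i) := by
    intro i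
    induction i with
    | zero => exact hcoh
    | succ i ih => exact isCoh_X₁ _ (T.shortExact i) (isCoh_of_vb (T.hL i)) ih
  have hz1 : IsZero (T.K (n + 1)) := by
    haveI := T.epi (n + 1)
    exact IsZero.of_epi (T.p (n + 1)) (hz (n + 1) (by omega))
  have key : ∀ j i, i + j = n + 1 → Q j (T.K i) := by
    intro j
    induction j with
    | zero =>
      intro i hi
      have : i = n + 1 := by omega
      subst this
      exact Q_zero_of_vb (Groth.Agent.Lib.AmpleK.isFinLocFree_of_isZero hz1)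
    | succ j ih =>
      intro i hi
      exact Q_X₃ _ (T.shortExact i) j (ih (i + 1) (by omega)) (T.hL i)
  exact key (n + 1) 0 (by omega)

end Towers

end Groth.Agent.KRRRes
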