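import Mathlib
import Groth.Prelude
import Groth.Agent.Lib.Snap39_helper9
import Groth.Agent.Lib.KRRRes2_helper9

/-!
# Cohomological dimension from vector bundles, given the resolution property (S11375) (helper9).
APPEND-ONLY once landed.
-/

set_option autoImplicit false
universe u
open CategoryTheory CategoryTheory.Limits AlgebraicGeometry Opposite TopologicalSpace TensorProduct

namespace Snap9

open Groth.Agent.TensInv Groth.Agent.Lib.GVanH2 Groth.Agent.ProjFin QcqsLoc QCohExtn GenLocH8 TensH8
  SerreCrit FLFH8

section CohDimRes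

variable (k : Type u) [Field k] (S : Scheme.{u}) [S.Over (Spec (CommRingCat.of k))]
  [IsSeparated (S ↘ Spec (CommRingCat.of k))] [LocallyOfFiniteType (S ↘ Spec (CommRingCat.of k))]
  [QuasiCompact (S ↘ Spec (CommRingCat.of k))]

include k in
/-- **S11375** (given the resolution property): if finite locally free modules have no cohomology
above degree `r`, neither has any coherent module -/
theorem main11375 (hres : PerfAux.HasResolutionProperty S) (r : ℕ)
    (hlf : ∀ E : S.Modules, FlatMod.IsFinLocFree E → ∀ i : ℕ, r < i →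
      Subsingleton (Coh.HH S E i))
    (F : S.Modules) (hF : Coh.IsCoh F) (i : ℕ) (hi : r < i) :
    Subsingleton (Coh.HH S F i) := by
  haveI : IsLocallyNoetherian S :=
    LocallyOfFiniteType.isLocallyNoetherian (S ↘ Spec (CommRingCat.of k))
  haveI : CompactSpace S :=
    QuasiCompact.compactSpace_of_compactSpace (S ↘ Spec (CommRingCat.of k))
  haveI : IsNoetherian S := {}
  haveI : S.IsSeparated := by
    have e : terminal.from S =
        (S ↘ Spec (CommRingCat.of k)) ≫ terminal.from (Spec (CommRingCat.of k)) :=
      terminal.hom_ext _ _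
    refine ⟨?_⟩
    rw [e]
    infer_instance
  haveI : QuasiSeparatedSpace S := inferInstance
  have hfin : topologicalKrullDim S < ⊤ :=
    Groth.Agent.WCF9.topDim_lt_top S (S ↘ Spec (CommRingCat.of k))
  obtain ⟨d, hd⟩ : ∃ d : ℕ, topologicalKrullDim S ≤ (d : WithBot ℕ∞) := by
    induction hD : topologicalKrullDim S using WithBot.recBotCoe with
    | bot => exact ⟨0, bot_le⟩
    | coe a =>
      have h2 : a ≠ ⊤ := by
        rintro rfl
        rw [hD] at hfin
        exact lt_irrefl _ hfin
      obtain ⟨d, rfl⟩ := ENat.ne_top_iff_exists.mp h2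
      exact ⟨d, le_rfl⟩
  suffices key : ∀ j : ℕ, ∀ i : ℕ, r < i → d < i + j → ∀ F : S.Modules, Coh.IsCoh F →
      Subsingleton (Coh.HH S F i) from key (d + 1) i hi (by omega) F hF
  intro j
  induction j with
  | zero =>
    intro i _ hdi F _
    have hd' : dimC (X := S.toTopCat) (⊤ : Closeds S) < ((i : ℕ) : WithBot ℕ∞) := by
      refine lt_of_le_of_lt ((dimC_top_le (X := S.toTopCat)).trans hd) ?_
      exact_mod_cast (by omega : d < i)
    exact subsingleton_HH_of_dimC i ⊤ hd' F (fun _ _ => trivial) i le_rfl
  | succ j IH =>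
    intro i hi hdi F hF
    obtain ⟨E, q, hE, hq⟩ := hres F hF.1 hF.2
    haveI := hq
    have hEc : Coh.IsCoh E := Groth.Agent.KRRRes.isCoh_of_vb hE
    have hKc : Coh.IsCoh (kernel q) := CohKerH8.isCoh_kernel hEc hF q
    have hK : Subsingleton (Coh.HH S (kernel q) (i + 1)) :=
      IH (i + 1) (by omega) (by omega) _ hKc
    have hE' : Subsingleton (Coh.HH S E i) := hlf E hE i hi
    let T : ShortComplex S.Modules := ShortComplex.mk (kernel.ι q) q (kernel.condition q)
    have hT : T.ShortExact := by
      haveI : Mono T.f := inferInstanceAs (Mono (kernel.ι q))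
      haveI : Epi T.g := hq
      exact ShortComplex.ShortExact.mk (ShortComplex.exact_of_f_is_kernel _ (kernelIsKernel q))
    have hsurj := surjective_HHlin_g k T hT i hK
    exact @Function.Surjective.subsingleton _ _ _ hE' hsurj

end CohDimRes

end Snap9
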