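import Mathlib
import Groth.Prelude.Def_Wider
import Groth.Agent.Lib.InjHull_helper3
import Groth.Agent.Lib.InjHull2_helper3
import Groth.Agent.Lib.InjHull4_helper3
import Groth.Agent.Lib.InjHull5_helper3
import Groth.Agent.Lib.InjHull6_helper3
import Groth.Agent.Lib.InjHullLoc_helper5
import Groth.Agent.Lib.Matlis6_helper5

/-!
# Flat base change of injective modules when the fibres at primes are fields (helper2)
-/

universe u

open TensorProduct IsLocalRing

namespace Groth.Agent.Lib.InjFlatBC

lemma injective_of_subsingleton (R : Type u) [CommRing R] (M : Type u) [AddCommGroup M]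
    [Module R M] [Subsingleton M] : Module.Injective R M :=
  ⟨fun X Y _ _ _ _ f hf g => ⟨0, fun x => Subsingleton.elim _ _⟩⟩

lemma essential_comp {R : Type u} [CommRing R] {M N E : Type u} [AddCommGroup M] [Module R M]
    [AddCommGroup N] [Module R N] [AddCommGroup E] [Module R E] (f : M →ₗ[R] N) (g : N →ₗ[R] E)
    (hf : InjHull.IsEssentialInj f) (hg : InjHull.IsEssentialInj g) :
    InjHull.IsEssentialInj (g ∘ₗ f) := by
  refine ⟨hg.injective.comp hf.injective, ?_⟩
  intro K hK
  obtain ⟨y, hy, hy0⟩ := (Submodule.ne_bot_iff _).mp (hg.essential K hK)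
  obtain ⟨hyK, n, rfl⟩ := Submodule.mem_inf.mp hy
  have hK' : K.comap g ≠ ⊥ := by
    rw [Submodule.ne_bot_iff]
    exact ⟨n, hyK, fun h0 => hy0 (by rw [h0, map_zero])⟩
  obtain ⟨z, hz, hz0⟩ := (Submodule.ne_bot_iff _).mp (hf.essential _ hK')
  obtain ⟨hzK, m, rfl⟩ := Submodule.mem_inf.mp hz
  rw [Submodule.ne_bot_iff]
  refine ⟨g (f m), Submodule.mem_inf.mpr ⟨hzK, ⟨m, rfl⟩⟩, fun h0 => hz0 ?_⟩
  exact hg.injective (h0.trans (map_zero g).symm)

/-- local-global criterion for injectivity relative to a multiplicative set acting bijectively -/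
theorem injective_of_localization (B : Type u) [CommRing B] [IsNoetherianRing B] (T : Submonoid B)
    (N : Type u) [AddCommGroup N] [Module B N]
    (hT : ∀ t ∈ T, Function.Bijective (fun x : N => t • x))
    (hloc : ∀ (𝔮 : Ideal B) [𝔮.IsPrime], Disjoint (𝔮 : Set B) (T : Set B) →
      Module.Injective (Localization.AtPrime 𝔮) (LocalizedModule 𝔮.primeCompl N)) :
    Module.Injective B N := by
  obtain ⟨Q, _, _, f, hf⟩ := Groth.Agent.Lib.InjHull6_helper3.exists_injective_hull (R := B) N
  haveI := hf.isInjective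
  have hTQ : ∀ t ∈ T, ∀ y : Q, t • y = 0 → y = 0 := by
    intro t ht y hy
    by_contra hy0
    have hspan : Submodule.span B {y} ≠ ⊥ := by
      rw [Ne, Submodule.span_singleton_eq_bot]; exact hy0
    obtain ⟨w, hw, hw0⟩ := (Submodule.ne_bot_iff _).mp (hf.essential _ hspan)
    obtain ⟨hw1, hw2⟩ := Submodule.mem_inf.mp hw
    obtain ⟨b, rfl⟩ := Submodule.mem_span_singleton.mp hw1
    obtain ⟨m, hm⟩ := LinearMap.mem_range.mp hw2
    have h1 : f (t • m) = 0 := by
      rw [map_smul, hm, smul_comm, hy, smul_zero]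
    have h2 : t • m = 0 := hf.injective (h1.trans (map_zero f).symm)
    have h3 : m = 0 := (hT t ht).1 (by simpa using h2)
    apply hw0
    rw [← hm, h3, map_zero]
  suffices hsurj : Function.Surjective f by
    exact Groth.Agent.Matlis.injective_of_linearEquiv
      (LinearEquiv.ofBijective f ⟨hf.injective, hsurj⟩)
  intro x
  by_contra hx
  let 𝔞 : Ideal B := (LinearMap.range f).comap (LinearMap.toSpanSingleton B Q x)
  have h𝔞 : ∀ b : B, b ∈ 𝔞 ↔ b • x ∈ LinearMap.range f := by
    intro b
    show LinearMap.toSpanSingleton B Q x b ∈ LinearMap.range f ↔ _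
    rw [LinearMap.toSpanSingleton_apply]
  have hdis : Disjoint (𝔞 : Set B) (T : Set B) := by
    rw [Set.disjoint_left]
    intro t ht𝔞 htT
    obtain ⟨n, hn⟩ := (h𝔞 t).mp ht𝔞
    obtain ⟨n', hn'⟩ := (hT t htT).2 n
    have hn'' : t • n' = n := hn'
    have h0 : t • (x - f n') = 0 := by
      rw [smul_sub, ← map_smul, hn'', hn, sub_self]
    have := hTQ t htT _ h0
    exact hx ⟨n', (sub_eq_zero.mp this).symm⟩
  obtain ⟨𝔮, h𝔮, hle, h𝔮T⟩ := Ideal.exists_le_prime_disjoint 𝔞 T hdis
  haveI := h𝔮
  haveI := hloc 𝔮 h𝔮T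
  have hull := Groth.Agent.InjHullLoc.isInjectiveHull_map B 𝔮.primeCompl N Q f hf
  have hinjmap : Function.Injective (LocalizedModule.map 𝔮.primeCompl f) := hull.injective
  haveI : Module.Injective (Localization.AtPrime 𝔮)
      ↥(LinearMap.range (LocalizedModule.map 𝔮.primeCompl f)) :=
    Groth.Agent.Matlis.injective_of_linearEquiv
      (LinearEquiv.ofInjective (LocalizedModule.map 𝔮.primeCompl f) hinjmap).symm
  have htop := Groth.Agent.Lib.InjHull2_helper3.eq_top_of_injective_of_range_le
    hull.toIsEssentialInj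
    (LinearMap.range (LocalizedModule.map 𝔮.primeCompl f)) inferInstance le_rfl
  have hmem : LocalizedModule.mk x (1 : 𝔮.primeCompl) ∈
      LinearMap.range (LocalizedModule.map 𝔮.primeCompl f) := by
    rw [htop]; exact Submodule.mem_top
  obtain ⟨z, hz⟩ := hmem
  induction z using LocalizedModule.induction_on with
  | h n s =>
    rw [LocalizedModule.map_mk, LocalizedModule.mk_eq] at hz
    obtain ⟨v, hv⟩ := hz
    have h1 : (v : B) • f n = (v : B) • (s : B) • x := by
      simpa [Submonoid.smul_def] using hv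
    have hmem : ((v : B) * (s : B)) ∈ 𝔞 := by
      rw [h𝔞]
      refine ⟨(v : B) • n, ?_⟩
      rw [map_smul, mul_smul]
      exact h1
    exact (𝔮.primeCompl.mul_mem v.2 s.2) (hle hmem)

/-- the base change of the injective hull of a residue field -/
theorem injective_tensor_hull (A B : Type u) [CommRing A] [CommRing B] [Algebra A B]
    [IsNoetherianRing A] [IsNoetherianRing B] [Module.Flat A B]
    (h : ∀ (𝔮 : Ideal B) [𝔮.IsPrime], Ideal.map (algebraMap B (Localization.AtPrime 𝔮))
      ((𝔮.comap (algebraMap A B)).map (algebraMap A B)) = maximalIdeal (Localization.AtPrime 𝔮))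
    (p : Ideal A) [p.IsPrime] (E : Type u) [AddCommGroup E] [Module A E]
    (g : p.ResidueField →ₗ[A] E) (hg : InjHull.IsInjectiveHull g) :
    Module.Injective B (B ⊗[A] E) := by
  haveI := hg.isInjective
  let f : (A ⧸ p) →ₗ[A] E :=
    g ∘ₗ ((Algebra.linearMap (A ⧸ p) p.ResidueField).restrictScalars A)
  have hf : InjHull.IsInjectiveHull f :=
    ⟨essential_comp _ _ (Groth.Agent.Lib.InjHull4_helper3.residueField_essential p)
      hg.toIsEssentialInj, hg.isInjective⟩
  apply injective_of_localization B (Algebra.algebraMapSubmonoid B p.primeCompl) (B ⊗[A] E)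
  · rintro t ⟨s, hs, rfl⟩
    have hs' : s ∉ p := hs
    have hinj : ∀ x : E, s • x = 0 → x = 0 := fun x hx =>
      Groth.Agent.InjHullLoc.eq_zero_of_smul_eq_zero A p f hf hs' hx
    have hsurj : ∀ x : E, ∃ z, s • z = x :=
      Groth.Agent.InjHullLoc.exists_smul_eq_of_injective A s hinj
    have hbij : Function.Bijective (LinearMap.lsmul A E s) :=
      ⟨(injective_iff_map_eq_zero _).mpr (fun x hx => hinj x hx), fun x => hsurj x⟩
    let es : E ≃ₗ[A] E := LinearEquiv.ofBijective (LinearMap.lsmul A E s) hbij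
    have key : ∀ x : B ⊗[A] E, (es.lTensor B) x = (algebraMap A B s) • x := by
      intro x
      induction x using TensorProduct.induction_on with
      | zero => rw [map_zero, smul_zero]
      | tmul b e =>
        rw [LinearEquiv.lTensor_tmul, TensorProduct.smul_tmul', smul_eq_mul, ← Algebra.smul_def,
          TensorProduct.smul_tmul]
        rfl
      | add x y hx hy => rw [map_add, hx, hy, smul_add]
    have hfun : (fun x : B ⊗[A] E => (algebraMap A B s) • x) = ⇑(es.lTensor B) :=
      funext (fun x => (key x).symm)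
    rw [hfun]
    exact (es.lTensor B).bijective
  · intro 𝔮 _ hdis
    have hle : 𝔮.comap (algebraMap A B) ≤ p := by
      intro a ha
      by_contra hap
      exact Set.disjoint_left.mp hdis (Ideal.mem_comap.mp ha) ⟨a, hap, rfl⟩
    by_cases hp' : 𝔮.comap (algebraMap A B) = p
    · haveI : 𝔮.LiesOver p := ⟨hp'.symm⟩
      letI := Localization.AtPrime.algebraOfLiesOver p 𝔮
      have h1 : maximalIdeal (Localization.AtPrime p) =
          p.map (algebraMap A (Localization.AtPrime p)) :=
        Localization.AtPrime.map_eq_maximalIdeal.symm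
      have hm : (maximalIdeal (Localization.AtPrime p)).map
          (algebraMap (Localization.AtPrime p) (Localization.AtPrime 𝔮)) =
          maximalIdeal (Localization.AtPrime 𝔮) := by
        rw [h1, Ideal.map_map,
          ← IsScalarTower.algebraMap_eq A (Localization.AtPrime p) (Localization.AtPrime 𝔮),
          IsScalarTower.algebraMap_eq A B (Localization.AtPrime 𝔮), ← Ideal.map_map]
        have := h 𝔮
        rw [hp'] at this
        exact this
      have hdisp : Disjoint (p : Set A) (p.primeCompl : Set A) := by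
        rw [Set.disjoint_left]; intro a ha haS; exact haS ha
      obtain ⟨hbij, g', hg'⟩ :=
        (Groth.Agent.InjHullLoc.loc_hull A p p.primeCompl E f hf).2 hdisp
      have key : ∀ (I : Ideal (Localization.AtPrime p))
          (_ : I = maximalIdeal (Localization.AtPrime p))
          (g₀ : (Localization.AtPrime p ⧸ I) →ₗ[Localization.AtPrime p]
            LocalizedModule p.primeCompl E),
          InjHull.IsInjectiveHull g₀ →
          Module.Injective (Localization.AtPrime 𝔮)
            (Localization.AtPrime 𝔮 ⊗[Localization.AtPrime p] LocalizedModule p.primeCompl E) := by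
        intro I hI
        subst hI
        intro g₀ hg₀
        obtain ⟨g₁, hg₁⟩ := Groth.Agent.Matlis.flat_baseChange_injectiveHull hm g₀ hg₀
        exact hg₁.isInjective
      haveI := key _ h1.symm g' hg'
      let e1 : LocalizedModule 𝔮.primeCompl (B ⊗[A] E) ≃ₗ[Localization.AtPrime 𝔮]
          Localization.AtPrime 𝔮 ⊗[B] (B ⊗[A] E) :=
        LocalizedModule.equivTensorProduct 𝔮.primeCompl (B ⊗[A] E)
      let e2 : Localization.AtPrime 𝔮 ⊗[B] (B ⊗[A] E) ≃ₗ[Localization.AtPrime 𝔮]
          Localization.AtPrime 𝔮 ⊗[A] E :=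
        TensorProduct.AlgebraTensorModule.cancelBaseChange A B (Localization.AtPrime 𝔮)
          (Localization.AtPrime 𝔮) E
      let e3 : Localization.AtPrime 𝔮 ⊗[Localization.AtPrime p] (Localization.AtPrime p ⊗[A] E)
          ≃ₗ[Localization.AtPrime 𝔮] Localization.AtPrime 𝔮 ⊗[A] E :=
        TensorProduct.AlgebraTensorModule.cancelBaseChange A (Localization.AtPrime p)
          (Localization.AtPrime 𝔮) (Localization.AtPrime 𝔮) E
      let e4 : Localization.AtPrime 𝔮 ⊗[Localization.AtPrime p] (Localization.AtPrime p ⊗[A] E)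
          ≃ₗ[Localization.AtPrime 𝔮]
          Localization.AtPrime 𝔮 ⊗[Localization.AtPrime p] (LocalizedModule p.primeCompl E) :=
        TensorProduct.AlgebraTensorModule.congr (LinearEquiv.refl _ _)
          (LocalizedModule.equivTensorProduct p.primeCompl E).symm
      exact Groth.Agent.Matlis.injective_of_linearEquiv (e1 ≪≫ₗ e2 ≪≫ₗ e3.symm ≪≫ₗ e4)
    · have hlt : ∃ t ∈ p, t ∉ 𝔮.comap (algebraMap A B) := by
        by_contra hcon
        push Not at hcon
        exact hp' (le_antisymm hle hcon)
      obtain ⟨t, htp, htq⟩ := hlt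
      have htq' : algebraMap A B t ∉ 𝔮 := htq
      haveI : Subsingleton (LocalizedModule 𝔮.primeCompl (B ⊗[A] E)) := by
        rw [LocalizedModule.subsingleton_iff]
        intro m
        induction m using TensorProduct.induction_on with
        | zero => exact ⟨1, 𝔮.primeCompl.one_mem, smul_zero _⟩
        | tmul b e =>
          obtain ⟨n, hn⟩ := Groth.Agent.InjHullLoc.exists_pow_smul_eq_zero A p f hf htp e
          refine ⟨(algebraMap A B t) ^ n, 𝔮.primeCompl.pow_mem htq' n, ?_⟩
          rw [← map_pow, TensorProduct.smul_tmul', smul_eq_mul, ← Algebra.smul_def,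
            TensorProduct.smul_tmul, hn, TensorProduct.tmul_zero]
        | add x y hx hy =>
          obtain ⟨r1, hr1, h1⟩ := hx
          obtain ⟨r2, hr2, h2⟩ := hy
          refine ⟨r1 * r2, 𝔮.primeCompl.mul_mem hr1 hr2, ?_⟩
          have e1 : (r1 * r2) • x = 0 := by rw [mul_comm, mul_smul, h1, smul_zero]
          have e2 : (r1 * r2) • y = 0 := by rw [mul_smul, h2, smul_zero]
          rw [smul_add, e1, e2, add_zero]
      exact injective_of_subsingleton _ _

/-- S1745 -/
theorem main (A B : Type u) [CommRing A] [CommRing B] [Algebra A B] [IsNoetherianRing A]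
    [IsNoetherianRing B] [Module.Flat A B]
    (h : ∀ q : PrimeSpectrum B, Ideal.map (algebraMap B (Localization.AtPrime q.asIdeal))
      ((q.asIdeal.comap (algebraMap A B)).map (algebraMap A B)) =
        IsLocalRing.maximalIdeal (Localization.AtPrime q.asIdeal))
    (I : Type u) [AddCommGroup I] [Module A I] [hI : Module.Injective A I] :
    Module.Injective B (B ⊗[A] I) := by
  classical
  obtain ⟨ι, E, hint, hE⟩ :=
    Groth.Agent.Lib.InjHull5_helper3.injective_isInternal_indecomposable hI
  have h' : ∀ (𝔮 : Ideal B) [𝔮.IsPrime], Ideal.map (algebraMap B (Localization.AtPrime 𝔮))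
      ((𝔮.comap (algebraMap A B)).map (algebraMap A B)) =
        maximalIdeal (Localization.AtPrime 𝔮) :=
    fun 𝔮 _ => h ⟨𝔮, inferInstance⟩
  have hEi : ∀ i, Module.Injective B (B ⊗[A] ↥(E i)) := by
    intro i
    obtain ⟨p, hp, g, hg⟩ :=
      Groth.Agent.Lib.InjHull4_helper3.indecomposable_injective_eq_hull (hE i).1 (hE i).2
    haveI := hp
    exact injective_tensor_hull A B h' p _ g hg
  haveI := Groth.Agent.Lib.InjHull_helper3.injective_directSum (R := B)
    (fun i => B ⊗[A] ↥(E i)) hEi
  let e : (DirectSum ι fun i => ↥(E i)) ≃ₗ[A] I :=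
    LinearEquiv.ofBijective (DirectSum.coeLinearMap E) hint
  let e1 : B ⊗[A] I ≃ₗ[B] B ⊗[A] (DirectSum ι fun i => ↥(E i)) :=
    TensorProduct.AlgebraTensorModule.congr (LinearEquiv.refl B B) e.symm
  let e2 := TensorProduct.directSumRight A B B (fun i => ↥(E i))
  exact Groth.Agent.Matlis.injective_of_linearEquiv
    (N := DirectSum ι fun i => B ⊗[A] ↥(E i)) (e1 ≪≫ₗ e2)

end Groth.Agent.Lib.InjFlatBC
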