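import Mathlib
import Groth.Prelude
import Groth.Agent.Lib.StalkSky4_lead
import Groth.Agent.Lib.StalkLoc_helper8
import Groth.Agent.Lib.Tens29_helper8
import Groth.Agent.Lib.QCohExact_helper9
import Groth.Agent.Lib.QCohCrit_helper9

/-!
# Jointly epimorphic families of quasi-coherent modules are jointly surjective on affine sections
(helper8)
APPEND-ONLY once landed.
-/

set_option autoImplicit false

namespace Groth.Agent.Lib.GenPushH8

open AlgebraicGeometry CategoryTheory CategoryTheory.Limits TopologicalSpace Opposite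
open QcqsLoc QCohExtn Groth.Agent.Lib.QCohLoc_helper4
open Groth.Agent.Lib.StalkSkyL Groth.Agent.Lib.TorAmpPushL

universe u
variable {X : Scheme.{u}}

theorem exists_point_of_prime {U : X.Opens} (hU : IsAffineOpen U) (q : PrimeSpectrum Γ(X, U)) :
    ∃ (y : X) (hy : y ∈ U), hU.primeIdealOf ⟨y, hy⟩ = q := by
  have hy : hU.fromSpec q ∈ U := by
    have : hU.fromSpec q ∈ Set.range hU.fromSpec := ⟨q, rfl⟩
    rw [hU.range_fromSpec] at this
    exact this
  refine ⟨hU.fromSpec q, hy, ?_⟩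
  apply hU.fromSpec.isOpenEmbedding.injective
  exact hU.fromSpec_primeIdealOf ⟨_, hy⟩

/-- the map on sections over `U`, as a linear map -/
noncomputable def linApp {A B : X.Modules} (φ : A ⟶ B) (U : X.Opens) :
    Γ(A, U) →ₗ[Γ(X, U)] Γ(B, U) :=
  { toFun := fun a => ap φ U a
    map_add' := fun a b => map_add _ a b
    map_smul' := fun r a => ap_smul φ r a }

theorem linApp_apply {A B : X.Modules} (φ : A ⟶ B) (U : X.Opens) (a : Γ(A, U)) :
    linApp φ U a = φ.app U a := rfl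

section Stalk

variable {κ : Type u} (P : κ → X.Modules) (M : X.Modules) (π : (∐ P) ⟶ M) [Epi π]

theorem stalk_jointly_surjective (x : X) :
    (⨆ k, LinearMap.range ((DerSch.stalkFunctor X x).map (Sigma.ι P k ≫ π)).hom) = ⊤ := by
  set S := DerSch.stalkFunctor X x with hS
  set Nx : Submodule (X.presheaf.stalk x) (S.obj M) :=
    ⨆ k, LinearMap.range (S.map (Sigma.ι P k ≫ π)).hom with hNx
  let p : S.obj M ⟶ ModuleCat.of (X.presheaf.stalk x) (S.obj M ⧸ Nx) := ModuleCat.ofHom Nx.mkQ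
  have h0 : S.map π ≫ p = 0 := by
    have hc := isColimitOfPreserves S (coproductIsCoproduct P)
    apply hc.hom_ext
    rintro ⟨k⟩
    show S.map (Sigma.ι P k) ≫ S.map π ≫ p = S.map (Sigma.ι P k) ≫ 0
    rw [comp_zero, ← Category.assoc, ← S.map_comp]
    ext z
    show Nx.mkQ ((S.map (Sigma.ι P k ≫ π)).hom z) = 0
    rw [Submodule.mkQ_apply, Submodule.Quotient.mk_eq_zero]
    exact Submodule.mem_iSup_of_mem k ⟨z, rfl⟩
  haveI : Epi (S.map π) := inferInstance
  have hp : p = 0 := by rw [← cancel_epi (S.map π), h0, comp_zero]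
  rw [eq_top_iff]
  intro z _
  have h1 : Nx.mkQ z = 0 := by
    have := congrArg (fun q => q.hom z) hp
    exact this
  rwa [Submodule.mkQ_apply, Submodule.Quotient.mk_eq_zero] at h1

end Stalk

section Sections

variable {κ : Type u} (P : κ → X.Modules) [∀ k, (P k).IsQuasicoherent]
  (M : X.Modules) [M.IsQuasicoherent] (π : (∐ P) ⟶ M) [Epi π]

theorem sections_jointly_surjective {U : X.Opens} (hU : IsAffineOpen U) :
    (⨆ k, LinearMap.range (linApp (Sigma.ι P k ≫ π) U)) = ⊤ := by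
  classical
  set N : Submodule Γ(X, U) Γ(M, U) := ⨆ k, LinearMap.range (linApp (Sigma.ι P k ≫ π) U) with hN
  rw [eq_top_iff]
  intro m _
  let I : Ideal Γ(X, U) := N.comap (LinearMap.toSpanSingleton Γ(X, U) Γ(M, U) m)
  have hI : ∀ a : Γ(X, U), a ∈ I ↔ a • m ∈ N := fun a => Iff.rfl
  suffices h1 : (1 : Γ(X, U)) ∈ I by
    have := (hI 1).mp h1
    rwa [one_smul] at this
  by_contra hne
  have hItop : I ≠ ⊤ := fun h => hne (h ▸ Submodule.mem_top)
  obtain ⟨Q, hQmax, hIQ⟩ := Ideal.exists_le_maximal I hItop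
  haveI := hQmax.isPrime
  obtain ⟨x, hx, hxQ⟩ := exists_point_of_prime hU ⟨Q, hQmax.isPrime⟩
  have hQ : (hU.primeIdealOf ⟨x, hx⟩).asIdeal = Q := by rw [hxQ]
  letI := StalkLocH8.modSec M hx
  haveI := StalkLocH8.isLocalizedModule_germLin M hU hx
  set pc := (hU.primeIdealOf ⟨x, hx⟩).asIdeal.primeCompl with hpc
  -- the property "lies in the localisation of `N`"
  let C : M.presheaf.stalk x → Prop := fun z =>
    ∃ s : pc, ∃ n ∈ N, (s : Γ(X, U)) • z = StalkLocH8.germLin M hx n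
  have hC0 : C 0 := ⟨1, 0, N.zero_mem, by rw [smul_zero, map_zero]⟩
  have hCadd : ∀ z z', C z → C z' → C (z + z') := by
    rintro z z' ⟨s, n, hn, h⟩ ⟨s', n', hn', h'⟩
    refine ⟨s * s', (s' : Γ(X, U)) • n + (s : Γ(X, U)) • n',
      N.add_mem (N.smul_mem _ hn) (N.smul_mem _ hn'), ?_⟩
    rw [map_add, map_smul, map_smul, ← h, ← h', smul_add]
    show ((s : Γ(X, U)) * (s' : Γ(X, U))) • z + ((s : Γ(X, U)) * (s' : Γ(X, U))) • z' = _
    rw [mul_comm (s : Γ(X, U)) (s' : Γ(X, U)), mul_smul, mul_comm (s' : Γ(X, U)) (s : Γ(X, U)),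
      mul_smul]
  have hCgen : ∀ k (w : (P k).presheaf.stalk x), C (Algz.stalkMapₗ (Sigma.ι P k ≫ π) x w) := by
    intro k w
    letI := StalkLocH8.modSec (P k) hx
    haveI := StalkLocH8.isLocalizedModule_germLin (P k) hU hx
    obtain ⟨⟨p', s⟩, hs⟩ := IsLocalizedModule.surj pc (StalkLocH8.germLin (P k) hx) w
    refine ⟨s, linApp (Sigma.ι P k ≫ π) U p',
      Submodule.mem_iSup_of_mem k ⟨p', rfl⟩, ?_⟩
    have e1 : (s : Γ(X, U)) • Algz.stalkMapₗ (Sigma.ι P k ≫ π) x w =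
        Algz.stalkMapₗ (Sigma.ι P k ≫ π) x ((s : Γ(X, U)) • w) :=
      ((Algz.stalkMapₗ (Sigma.ι P k ≫ π) x).map_smul
        ((X.presheaf.germ U x hx).hom (s : Γ(X, U))) w).symm
    rw [e1]
    have e2 : (s : Γ(X, U)) • w = StalkLocH8.germLin (P k) hx p' := hs
    rw [e2]
    exact DerSch.stalkFunctor_map_germ x (Sigma.ι P k ≫ π) U hx p'
  have htop := stalk_jointly_surjective P M π x
  have hmem : ∀ z : ((DerSch.stalkFunctor X x).obj M : ModuleCat (X.presheaf.stalk x)),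
      z ∈ (⨆ k, LinearMap.range ((DerSch.stalkFunctor X x).map (Sigma.ι P k ≫ π)).hom) → C z := by
    intro z hz
    refine Submodule.iSup_induction _ (motive := C) hz ?_ hC0 hCadd
    rintro k z' ⟨w, rfl⟩
    exact hCgen k w
  obtain ⟨s, n, hn, hsn⟩ : C (StalkLocH8.germLin M hx m) :=
    hmem _ (by rw [htop]; exact Submodule.mem_top)
  -- `s • m - n` dies in the stalk
  have h2 : StalkLocH8.germLin M hx ((s : Γ(X, U)) • m - n) = 0 := by
    rw [map_sub, map_smul, hsn, sub_self]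
  obtain ⟨t, ht⟩ := (IsLocalizedModule.eq_zero_iff pc (StalkLocH8.germLin M hx)).mp h2
  have h3 : ((t : Γ(X, U)) * (s : Γ(X, U))) • m = (t : Γ(X, U)) • n := by
    have : (t : Γ(X, U)) • ((s : Γ(X, U)) • m - n) = 0 := ht
    rw [smul_sub, sub_eq_zero] at this
    rw [mul_smul, this]
  have h4 : (t : Γ(X, U)) * (s : Γ(X, U)) ∈ I := by
    rw [hI, h3]
    exact N.smul_mem _ hn
  have h5 : (t : Γ(X, U)) * (s : Γ(X, U)) ∈ Q := hIQ h4
  rw [← hQ] at h5
  rcases (hU.primeIdealOf ⟨x, hx⟩).isPrime.mem_or_mem h5 with h | h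
  · exact t.2 h
  · exact s.2 h

end Sections

section Epi

variable {Y : Scheme.{u}}

theorem epi_desc_of_sections {κ : Type u} (Q : κ → Y.Modules) (N : Y.Modules) (ψ : ∀ k, Q k ⟶ N)
    (h : ∀ (V : Y.Opens), IsAffineOpen V → (⨆ k, LinearMap.range (linApp (ψ k) V)) = ⊤) :
    Epi (Sigma.desc ψ) := by
  refine TensH8.epi_of_locally_surjective _ (fun U n x hx => ?_)
  obtain ⟨_, ⟨V, hV : IsAffineOpen V, rfl⟩, hxV, hVU⟩ :=
    (Y.isBasis_affineOpens).exists_subset_of_mem_open hx U.2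
  have hVU' : V ≤ U := hVU
  refine ⟨V, hVU', hxV, ?_⟩
  let C : Γ(N, V) → Prop := fun n' => ∃ z : Γ(∐ Q, V), ap (Sigma.desc ψ) V z = n'
  have hmem : rF N hVU' n ∈ (⨆ k, LinearMap.range (linApp (ψ k) V)) := by
    rw [h V hV]; exact Submodule.mem_top
  refine Submodule.iSup_induction _ (motive := C) hmem ?_ ⟨0, map_zero _⟩ ?_
  · rintro k n' ⟨q, rfl⟩
    refine ⟨(Sigma.ι Q k).app V q, ?_⟩
    show (Sigma.desc ψ).app V ((Sigma.ι Q k).app V q) = (ψ k).app V q
    have h1 : Sigma.ι Q k ≫ Sigma.desc ψ = ψ k := Sigma.ι_desc ψ k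
    rw [← h1]
    rfl
  · rintro a b ⟨z, hz⟩ ⟨z', hz'⟩
    exact ⟨z + z', by rw [map_add, hz, hz']⟩

variable (f : X ⟶ Y) [IsAffineHom f]

theorem epi_desc_pushforward {κ : Type u} (P : κ → X.Modules) [∀ k, (P k).IsQuasicoherent]
    (M : X.Modules) [M.IsQuasicoherent] (π : (∐ P) ⟶ M) [Epi π]
    (N : Y.Modules) [N.IsQuasicoherent] (ρ : (Scheme.Modules.pushforward f).obj M ⟶ N) [Epi ρ] :
    Epi (Sigma.desc (fun k => (Scheme.Modules.pushforward f).map (Sigma.ι P k ≫ π) ≫ ρ) :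
      (∐ fun k => (Scheme.Modules.pushforward f).obj (P k)) ⟶ N) := by
  haveI : ((Scheme.Modules.pushforward f).obj M).IsQuasicoherent :=
    QCohCrit.isQuasicoherent_pushforward f M
  apply epi_desc_of_sections
  intro V hV
  rw [eq_top_iff]
  intro n _
  obtain ⟨m, rfl⟩ := QCohExact.app_surjective_of_epi ρ hV n
  have hU : IsAffineOpen (f ⁻¹ᵁ V) := hV.preimage f
  have hm : ∀ m0 : Γ(M, f ⁻¹ᵁ V),
      m0 ∈ (⨆ k, LinearMap.range (linApp (Sigma.ι P k ≫ π) (f ⁻¹ᵁ V))) := fun m0 => by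
    rw [sections_jointly_surjective P M π hU]; exact Submodule.mem_top
  let ρV : Γ(M, f ⁻¹ᵁ V) →+ Γ(N, V) := ap ρ V
  let C : Γ(M, f ⁻¹ᵁ V) → Prop := fun m' =>
    ρV m' ∈ (⨆ k, LinearMap.range
      (linApp ((Scheme.Modules.pushforward f).map (Sigma.ι P k ≫ π) ≫ ρ) V))
  have hC : ∀ m0 : Γ(M, f ⁻¹ᵁ V), C m0 := by
    intro m0
    refine Submodule.iSup_induction _ (motive := C) (hm m0) ?_ ?_ ?_
    · rintro k m' ⟨p', rfl⟩
      exact Submodule.mem_iSup_of_mem k ⟨p', rfl⟩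
    · show ρV 0 ∈ _
      rw [map_zero]
      exact Submodule.zero_mem _
    · intro a b ha hb
      show ρV (a + b) ∈ _
      rw [map_add]
      exact Submodule.add_mem _ ha hb
  exact hC m

end Epi

end Groth.Agent.Lib.GenPushH8
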