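import Mathlib
import Groth.Prelude.Def_ModSite
import Groth.Agent.Lib.BaerFamily_helper9
import Groth.Agent.Lib.SuppSubterm_helper2
import Groth.Agent.Lib.SuppAdj_helper2
import Groth.Agent.Lib.ModSite16_helper8
import Groth.Agent.Lib.ModSite20_helper8
import Groth.Agent.Lib.SheafOfModulesGrothendieck_helper2
import Groth.Agent.Lib.SheafHomLF1_helper9

/-!
# Injectivity of sheaves of modules is local (helper4)
APPEND-ONLY once landed.
-/

set_option autoImplicit false
set_option linter.style.haveILetI false
universe u
open CategoryTheory Limits Opposite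

namespace Groth.Agent.Lib.LocInjH4
open ModSite Groth.Agent.Lib.ModSiteH8 Groth.Agent.Lib.Supp

variable {C : Type u} [SmallCategory C] {J : GrothendieckTopology C}
variable (O : Sheaf J CommRingCat.{u}) (U : C)

section Sub

variable (hU : ∀ V : C, Subsingleton (V ⟶ U))
include hU

/-- the counit at an extension by zero is an isomorphism -/
lemma isIso_counit_extZero (N : Mod (O.over U)) :
    IsIso ((extZeroAdj O U).counit.app ((extZero O U).obj N)) := by
  have := mono_extZero_counit O U hU ((extZero O U).obj N)
  have h1 : (extZero O U).map ((extZeroAdj O U).unit.app N) ≫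
      (extZeroAdj O U).counit.app ((extZero O U).obj N) = 𝟙 _ :=
    (extZeroAdj O U).left_triangle_components N
  refine ⟨(extZero O U).map ((extZeroAdj O U).unit.app N), ?_, h1⟩
  rw [← cancel_mono ((extZeroAdj O U).counit.app ((extZero O U).obj N)), Category.assoc, h1]
  exact (Category.comp_id _).trans (Category.id_comp _).symm

/-- for a subobject `S` of an extension by zero, the counit `j_! j^* S ⟶ S` is a split epi -/
lemma exists_section_counit {S : Mod O} {N : Mod (O.over U)} (m : S ⟶ (extZero O U).obj N)
    [Mono m] : ∃ σ : S ⟶ (extZero O U).obj ((restr O U).obj S),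
      σ ≫ (extZeroAdj O U).counit.app S = 𝟙 S := by
  let T := (extZero O U).obj N
  let F := restr O U ⋙ extZero O U
  let ε := (extZeroAdj O U).counit
  haveI := isIso_counit_extZero O U hU N
  haveI : PreservesFiniteLimits (extZero O U) := extZero_preservesFiniteLimits O U
  haveI : PreservesFiniteLimits (restr O U) := by
    haveI : (restr O U).IsRightAdjoint := inferInstance
    infer_instance
  haveI : PreservesFiniteLimits F := comp_preservesFiniteLimits _ _
  let q := cokernel.π m
  haveI := mono_extZero_counit O U hU (cokernel m)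
  -- `F m` is a kernel of `F q`
  have hker : IsLimit (KernelFork.ofι m (cokernel.condition m)) :=
    Abelian.monoIsKernelOfCokernel _ (colimit.isColimit _)
  have hker' := KernelFork.mapIsLimit _ hker F
  have hz : (m ≫ inv (ε.app T)) ≫ F.map q = 0 := by
    rw [← cancel_mono (ε.app (cokernel m)), Category.assoc, Category.assoc, zero_comp]
    have hn : F.map q ≫ ε.app (cokernel m) = ε.app T ≫ q := ε.naturality q
    rw [hn, IsIso.inv_hom_id_assoc, cokernel.condition]
  refine ⟨hker'.lift (KernelFork.ofι _ hz), ?_⟩
  have hl : hker'.lift (KernelFork.ofι _ hz) ≫ F.map m = m ≫ inv (ε.app T) :=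
    hker'.fac (KernelFork.ofι _ hz) WalkingParallelPair.zero
  rw [← cancel_mono m, Category.id_comp]
  have hn : ε.app S ≫ m = F.map m ≫ ε.app T := (ε.naturality m).symm
  calc (hker'.lift (KernelFork.ofι _ hz) ≫ ε.app S) ≫ m
      = hker'.lift (KernelFork.ofι _ hz) ≫ (ε.app S ≫ m) := Category.assoc _ _ _
    _ = hker'.lift (KernelFork.ofι _ hz) ≫ (F.map m ≫ ε.app T) :=
        congrArg (hker'.lift (KernelFork.ofι _ hz) ≫ ·) hn
    _ = (hker'.lift (KernelFork.ofι _ hz) ≫ F.map m) ≫ ε.app T := (Category.assoc _ _ _).symm
    _ = (m ≫ inv (ε.app T)) ≫ ε.app T := congrArg (· ≫ ε.app T) hl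
    _ = m := by rw [Category.assoc, IsIso.inv_hom_id, Category.comp_id]

/-- extension of morphisms into a locally injective module along subobjects of extensions by
zero -/
lemma exists_extension (M : Mod O) [Injective ((restr O U).obj M)] {S : Mod O}
    {N : Mod (O.over U)} (m : S ⟶ (extZero O U).obj N) [Mono m] (φ : S ⟶ M) :
    ∃ ψ : (extZero O U).obj N ⟶ M, m ≫ ψ = φ := by
  let ε := (extZeroAdj O U).counit
  let T := (extZero O U).obj N
  haveI := isIso_counit_extZero O U hU N
  obtain ⟨σ, hσ⟩ := exists_section_counit O U hU m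
  haveI : Mono ((restr O U).map m) := by
    haveI : (restr O U).IsRightAdjoint := inferInstance
    infer_instance
  let χ : (restr O U).obj T ⟶ (restr O U).obj M :=
    Injective.factorThru ((restr O U).map φ) ((restr O U).map m)
  have hχ : (restr O U).map m ≫ χ = (restr O U).map φ := Injective.comp_factorThru _ _
  refine ⟨inv (ε.app T) ≫ (extZero O U).map χ ≫ ε.app M, ?_⟩
  have h1 : ε.app S ≫ m = (extZero O U).map ((restr O U).map m) ≫ ε.app T :=
    (ε.naturality m).symm
  have h2 : (extZero O U).map ((restr O U).map φ) ≫ ε.app M = ε.app S ≫ φ := ε.naturality φ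
  have key : ε.app S ≫ (m ≫ inv (ε.app T) ≫ (extZero O U).map χ ≫ ε.app M) = ε.app S ≫ φ := by
    rw [← Category.assoc, h1, Category.assoc, IsIso.hom_inv_id_assoc, ← Category.assoc,
      ← Functor.map_comp, hχ, h2]
  calc m ≫ inv (ε.app T) ≫ (extZero O U).map χ ≫ ε.app M
      = σ ≫ ε.app S ≫ (m ≫ inv (ε.app T) ≫ (extZero O U).map χ ≫ ε.app M) := by
        rw [← Category.assoc σ, hσ, Category.id_comp]
    _ = σ ≫ ε.app S ≫ φ := by rw [key]
    _ = φ := by rw [← Category.assoc, hσ, Category.id_comp]

end Sub

/-- **Injectivity is local**, on a ringed site: if `M` restricts to injective modules along a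
family of subterminal objects which jointly detect vanishing of morphisms, `M` is injective. -/
theorem injective_of_family (M : Mod O) (𝒰 : Set C)
    (hsub : ∀ U ∈ 𝒰, ∀ V : C, Subsingleton (V ⟶ U))
    (hinj : ∀ U ∈ 𝒰, Injective ((restr O U).obj M))
    (hcov : ∀ ⦃A B : Mod O⦄ (q : A ⟶ B), (∀ U ∈ 𝒰, (restr O U).map q = 0) → q = 0) :
    Injective M := by
  haveI : IsGrothendieckAbelian.{u} (Mod O) :=
    Groth.Agent.Lib.FunctorialInjective.isGrothendieckAbelian_sheafOfModules J (ringSh O)
  refine Groth.Agent.Lib.BaerFamily.injective_of_extension.{u}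
    (G := fun i : (Σ U : 𝒰, Mod (O.over U.1)) => (extZero O i.1.1).obj i.2) ?_ M ?_
  · intro A B p _ hp
    by_contra hcon
    push Not at hcon
    apply hp
    haveI : Epi p := by
      apply Abelian.epi_of_cokernel_π_eq_zero
      apply hcov
      intro U hU
      rw [restr_map_eq_zero_iff_counit]
      obtain ⟨a, ha⟩ := hcon ⟨⟨U, hU⟩, (restr O U).obj B⟩ ((extZeroAdj O U).counit.app B)
      rw [← ha, Category.assoc, cokernel.condition, comp_zero]
    exact isIso_of_mono_of_epi p
  · intro i S m _ φ
    haveI := hinj i.1.1 i.1.2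
    exact exists_extension O i.1.1 (hsub _ i.1.2) M m φ

section SchemeLevel

open AlgebraicGeometry TopologicalSpace

variable {X : Scheme.{u}}

/-- injectivity of the restriction to an open subscheme, in terms of the localized site -/
theorem injective_restr_iff (U : X.Opens) (F : X.Modules) :
    Injective ((restr X.sheaf U).obj F) ↔
      Injective ((Scheme.Modules.restrictFunctor U.ι).obj F) := by
  have h1 := (Scheme.Modules.overEquiv U).map_injective_iff
    ((SheafOfModules.overFunctor X.ringCatSheaf U).obj F)
  have h2 : Injective ((Scheme.Modules.overEquiv U).functor.obj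
      ((SheafOfModules.overFunctor X.ringCatSheaf U).obj F)) ↔
      Injective ((Scheme.Modules.restrictFunctor U.ι).obj F) :=
    ⟨fun h => Injective.of_iso ((Scheme.Modules.overFunctorEquiv U).app F) h,
      fun h => Injective.of_iso ((Scheme.Modules.overFunctorEquiv U).app F).symm h⟩
  exact h1.symm.trans h2

/-- **Injectivity of `O_X`-modules is local** (site form of the hypothesis). -/
theorem injective_of_locally_injective_restr (F : X.Modules)
    (hF : ∀ x : X, ∃ U : X.Opens, x ∈ U ∧ Injective ((restr X.sheaf U).obj F)) :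
    Injective F := by
  refine injective_of_family X.sheaf F {U : X.Opens | Injective ((restr X.sheaf U).obj F)}
    (fun U _ V => ⟨fun a b => Subsingleton.elim _ _⟩) (fun U hU => hU) ?_
  intro A B q hq
  apply SheafHomLFH9.eq_zero_of_restr
  intro x
  obtain ⟨U, hxU, hU⟩ := hF x
  exact ⟨U, hxU, hq U hU⟩

/-- **Injectivity of `O_X`-modules is local** (S11156). -/
theorem injective_of_locally_injective (F : X.Modules)
    (hF : ∀ x : X, ∃ U : X.Opens, x ∈ U ∧
      Injective ((Scheme.Modules.restrictFunctor U.ι).obj F)) :
    Injective F := by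
  apply injective_of_locally_injective_restr
  intro x
  obtain ⟨U, hxU, hU⟩ := hF x
  exact ⟨U, hxU, (injective_restr_iff U F).2 hU⟩

end SchemeLevel

end Groth.Agent.Lib.LocInjH4
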