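import Mathlib
import Groth.Prelude
import Groth.Agent.Lib.Tens30_helper8
import Groth.Agent.Lib.SecOrd1_helper8

/-!
# Finite local generation of arbitrary sub-`O_X`-modules of `O_X` on a Noetherian scheme (helper8)
APPEND-ONLY once landed.
-/

set_option autoImplicit false

namespace Groth.Agent.Lib.SubIdGenH8

open AlgebraicGeometry CategoryTheory CategoryTheory.Limits TopologicalSpace Opposite
open QcqsLoc QCohExtn SerreCrit SecOrdH8 Groth.Agent.Lib.QCohLoc_helper4

universe u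
variable {X : Scheme.{u}}

section Sat
variable {G : X.Modules} (ι : G ⟶ OO X) (W : X.Opens) (η : X) (hη : η ∈ W)

/-- functions on `W` which, near `η`, are images of sections of `G` -/
def satIdeal : Ideal Γ(X, W) where
  carrier := {a | ∃ (V : X.Opens) (hV : V ≤ W), η ∈ V ∧ ∃ t : Γ(G, V), toFn (ap ι V t) = rX hV a}
  add_mem' := by
    rintro a b ⟨V, hV, hηV, t, ht⟩ ⟨V', hV', hηV', t', ht'⟩
    refine ⟨V ⊓ V', inf_le_left.trans hV, ⟨hηV, hηV'⟩,
      rF G inf_le_left t + rF G inf_le_right t', ?_⟩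
    rw [map_add, ap_rF, ap_rF, map_add]
    have h1 : toFn (rF (OO X) (inf_le_left : V ⊓ V' ≤ V) (ap ι V t)) =
        rX (inf_le_left.trans hV) a := by
      show rX inf_le_left (toFn (ap ι V t)) = _
      rw [ht, rX_rX]
    have h2 : toFn (rF (OO X) (inf_le_right : V ⊓ V' ≤ V') (ap ι V' t')) =
        rX (inf_le_left.trans hV) b := by
      show rX inf_le_right (toFn (ap ι V' t')) = _
      rw [ht', rX_rX]
    show toFn (rF (OO X) (inf_le_left : V ⊓ V' ≤ V) (ap ι V t)) +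
      toFn (rF (OO X) (inf_le_right : V ⊓ V' ≤ V') (ap ι V' t')) = _
    rw [h1, h2]
  zero_mem' := ⟨W, le_rfl, hη, 0, by rw [map_zero, map_zero]; rfl⟩
  smul_mem' := by
    rintro r a ⟨V, hV, hηV, t, ht⟩
    refine ⟨V, hV, hηV, rX hV r • t, ?_⟩
    rw [ap_smul]
    show rX hV r * toFn (ap ι V t) = _
    rw [ht, smul_eq_mul, map_mul]

theorem mem_satIdeal (a : Γ(X, W)) : a ∈ satIdeal ι W η hη ↔
    ∃ (V : X.Opens) (hV : V ≤ W), η ∈ V ∧ ∃ t : Γ(G, V), toFn (ap ι V t) = rX hV a := Iff.rfl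

theorem exists_common (S : Finset Γ(X, W)) (hS : ∀ a ∈ S, a ∈ satIdeal ι W η hη) :
    ∃ (V : X.Opens) (hV : V ≤ W), η ∈ V ∧
      ∀ a ∈ S, ∃ t : Γ(G, V), toFn (ap ι V t) = rX hV a := by
  classical
  induction S using Finset.induction_on with
  | empty => exact ⟨W, le_rfl, hη, fun a ha => absurd ha (Finset.notMem_empty a)⟩
  | insert b S hb ih =>
    obtain ⟨V, hV, hηV, hVS⟩ := ih (fun a ha => hS a (Finset.mem_insert_of_mem ha))
    obtain ⟨V', hV', hηV', t', ht'⟩ := hS b (Finset.mem_insert_self b S)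
    refine ⟨V ⊓ V', inf_le_left.trans hV, ⟨hηV, hηV'⟩, ?_⟩
    intro a ha
    rcases Finset.mem_insert.mp ha with rfl | ha
    · refine ⟨rF G inf_le_right t', ?_⟩
      rw [ap_rF]
      show rX inf_le_right (toFn (ap ι V' t')) = _
      rw [ht', rX_rX]
    · obtain ⟨t, ht⟩ := hVS a ha
      refine ⟨rF G inf_le_left t, ?_⟩
      rw [ap_rF]
      show rX inf_le_left (toFn (ap ι V t)) = _
      rw [ht, rX_rX]

end Sat

section Local

variable {G : X.Modules} (ι : G ⟶ OO X) [Mono ι]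

include ι in
theorem local_step {W : X.Opens} (hW : IsAffineOpen W) [IsNoetherianRing Γ(X, W)] {η : X}
    (hη : η ∈ W) :
    ∃ (W' : X.Opens) (_ : W' ≤ W) (_ : η ∈ W') (T : Finset Γ(G, W')),
      ∀ (x : X) (hx : x ∈ W'), η ⤳ x →
        Submodule.span (X.presheaf.stalk x)
          ((fun t => G.presheaf.germ W' x hx t) '' (T : Set Γ(G, W'))) = ⊤ := by
  classical
  obtain ⟨S, hS⟩ := (isNoetherianRing_iff_ideal_fg Γ(X, W)).mp inferInstance (satIdeal ι W η hη)
  have hSmem : ∀ a ∈ S, a ∈ satIdeal ι W η hη := fun a ha => by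
    rw [← hS]; exact Ideal.subset_span ha
  obtain ⟨W', hW', hηW', hcom⟩ := exists_common ι W η hη S hSmem
  choose! tt htt using hcom
  refine ⟨W', hW', hηW', S.image tt, ?_⟩
  intro x hx hspec
  rw [eq_top_iff]
  rintro γ -
  obtain ⟨O, hxO, t, rfl⟩ := TopCat.Presheaf.exists_germ_eq G.presheaf γ
  -- a basic open of `W` around `x` inside `O ⊓ W'`
  obtain ⟨g, hgle, hxg⟩ := hW.exists_basicOpen_le (V := O ⊓ W') ⟨x, ⟨hxO, hx⟩⟩ (hW' hx)
  have hD : X.basicOpen g ≤ W := X.basicOpen_le g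
  have hDO : X.basicOpen g ≤ O := hgle.trans inf_le_left
  have hDW' : X.basicOpen g ≤ W' := hgle.trans inf_le_right
  have hηD : η ∈ X.basicOpen g := hspec.mem_open (X.basicOpen g).isOpen hxg
  set t₁ : Γ(G, X.basicOpen g) := rF G hDO t with ht₁
  -- write `ι t₁` as a fraction
  letI := (rX hD).toAlgebra
  haveI hloc : IsLocalization.Away g Γ(X, X.basicOpen g) := hW.isLocalization_basicOpen g
  obtain ⟨⟨a, s⟩, has⟩ := IsLocalization.surj (Submonoid.powers g) (toFn (ap ι _ t₁))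
  obtain ⟨n, hn⟩ := s.2
  have has' : toFn (ap ι _ t₁) * rX hD (g ^ n) = rX hD a := by
    have : toFn (ap ι _ t₁) * algebraMap Γ(X, W) Γ(X, X.basicOpen g) (s : Γ(X, W)) =
        algebraMap Γ(X, W) Γ(X, X.basicOpen g) a := has
    rw [← hn] at this
    exact this
  -- hence `a` lies in the saturation ideal
  have haK : a ∈ satIdeal ι W η hη := by
    refine ⟨X.basicOpen g, hD, hηD, rX hD (g ^ n) • t₁, ?_⟩
    rw [ap_smul]
    show rX hD (g ^ n) * toFn (ap ι _ t₁) = _
    rw [mul_comm, has']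
  rw [← hS] at haK
  -- express `a` as a combination of the generators
  obtain ⟨c, -, hc⟩ := (Submodule.mem_span_finset (R := Γ(X, W)) (s := S) (x := a)).mp haK
  -- the key identity in `G(D(g))`
  have hkey : rX hD (g ^ n) • t₁ = ∑ b ∈ S, rX hD (c b) • rF G hDW' (tt b) := by
    apply QCohExact.app_injective_of_mono ι (X.basicOpen g)
    show ap ι _ (rX hD (g ^ n) • t₁) = ap ι _ (∑ b ∈ S, rX hD (c b) • rF G hDW' (tt b))
    rw [ap_smul, map_sum]
    have h1 : ∀ b ∈ S, ap ι (X.basicOpen g) (rX hD (c b) • rF G hDW' (tt b)) =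
        (rX hD (c b * b) : Γ(X, X.basicOpen g)) := by
      intro b hb
      rw [ap_smul, ap_rF]
      show rX hD (c b) * rX hDW' (toFn (ap ι W' (tt b))) = _
      rw [htt b hb, rX_rX, map_mul]
    rw [Finset.sum_congr rfl h1]
    show rX hD (g ^ n) * toFn (ap ι _ t₁) = _
    rw [mul_comm, has']
    have h2 : rX hD a = ∑ b ∈ S, rX hD (c b * b) := by
      rw [← map_sum]
      congr 1
      rw [← hc]
      simp only [smul_eq_mul]
    exact h2
  have hu : IsUnit (rX hD (g ^ n)) := by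
    rw [map_pow]
    exact (X.toRingedSpace.isUnit_res_basicOpen g).pow n
  obtain ⟨v, hv⟩ := hu.exists_left_inv
  have ht₁' : t₁ = ∑ b ∈ S, (v * rX hD (c b)) • rF G hDW' (tt b) := by
    calc t₁ = (v * rX hD (g ^ n)) • t₁ := by rw [hv, one_smul]
      _ = v • ∑ b ∈ S, rX hD (c b) • rF G hDW' (tt b) := by rw [mul_smul, hkey]
      _ = _ := by
        rw [Finset.smul_sum]
        exact Finset.sum_congr rfl (fun b _ => (mul_smul _ _ _).symm)
  have hgerm : G.presheaf.germ O x hxO t = G.presheaf.germ (X.basicOpen g) x hxg t₁ := by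
    rw [ht₁, germ_rF]
  rw [hgerm, ht₁', map_sum]
  refine Submodule.sum_mem _ (fun b hb => ?_)
  rw [germ_smul, germ_rF]
  refine Submodule.smul_mem _ _ (Submodule.subset_span ?_)
  exact ⟨tt b, Finset.mem_coe.mpr (Finset.mem_image_of_mem tt hb), rfl⟩

end Local

section Global

variable {G : X.Modules}

/-- germs at `x` of the members of a finite list of local sections -/
def gens (L : List (Σ U : X.Opens, Γ(G, U))) (x : X) : Set (G.presheaf.stalk x) :=
  {γ | ∃ p ∈ L, ∃ hx : x ∈ p.1, γ = G.presheaf.germ p.1 x hx p.2}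

def Gen (L : List (Σ U : X.Opens, Γ(G, U))) (x : X) : Prop :=
  Submodule.span (X.presheaf.stalk x) (gens L x) = ⊤

theorem gens_mono {L L' : List (Σ U : X.Opens, Γ(G, U))} (h : ∀ p ∈ L, p ∈ L') (x : X) :
    gens L x ⊆ gens L' x := by
  rintro γ ⟨p, hp, hx, rfl⟩
  exact ⟨p, h p hp, hx, rfl⟩

theorem Gen.mono {L L' : List (Σ U : X.Opens, Γ(G, U))} (h : ∀ p ∈ L, p ∈ L') {x : X}
    (hL : Gen L x) : Gen L' x := by
  unfold Gen at hL ⊢
  rw [eq_top_iff, ← hL]
  exact Submodule.span_mono (gens_mono h x)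

variable (ι : G ⟶ OO X) [Mono ι]

include ι in
theorem step [IsNoetherian X] (Z : Closeds X) (hZ : Z ≠ ⊥)
    (hP : ∃ L : List (Σ U : X.Opens, Γ(G, U)), ∀ x, x ∉ Z → Gen L x) :
    ∃ Z' : Closeds X, Z' < Z ∧ ∃ L : List (Σ U : X.Opens, Γ(G, U)), ∀ x, x ∉ Z' → Gen L x := by
  classical
  obtain ⟨L, hL⟩ := hP
  obtain ⟨S, hSf, hSc, hSi, hSU⟩ :=
    NoetherianSpace.exists_finite_set_isClosed_irreducible Z.isClosed
  have hSne : S.Nonempty := by
    by_contra h
    rw [Set.not_nonempty_iff_eq_empty] at h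
    apply hZ
    apply Closeds.ext
    rw [hSU, h]
    simp
  obtain ⟨T, hT⟩ := hSf.exists_maximal hSne
  have hTS : T ∈ S := hT.prop
  set η : X := (hSi T hTS).genericPoint with hη
  have hgen : IsGenericPoint η T := (hSi T hTS).isGenericPoint_genericPoint (hSc T hTS)
  have hηT : η ∈ T := hgen.mem
  have hηZ : η ∈ (Z : Set X) := by rw [hSU]; exact ⟨T, hTS, hηT⟩
  -- the union of the other pieces
  set R : Set X := ⋃₀ (S \ {T}) with hR
  have hRc : IsClosed R := by
    rw [hR, Set.sUnion_eq_biUnion]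
    exact (hSf.sdiff).isClosed_biUnion (fun t ht => hSc t ht.1)
  have hηR : η ∉ R := by
    rintro ⟨T', ⟨hT'S, hT'ne⟩, hηT'⟩
    apply hT'ne
    have hle : T ≤ T' := by
      rw [← hgen.def]
      exact (hSc T' hT'S).closure_subset_iff.mpr (Set.singleton_subset_iff.mpr hηT')
    exact (le_antisymm (hT.le_of_ge hT'S hle) hle)
  -- an affine open neighbourhood of `η` missing `R`
  let W₀ : X.Opens := ⟨Rᶜ, hRc.isOpen_compl⟩
  have hηW₀ : η ∈ W₀ := hηR
  obtain ⟨W, hWaff, hηW, hWW₀⟩ :=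
    Opens.isBasis_iff_nbhd.mp X.isBasis_affineOpens hηW₀
  haveI : IsNoetherianRing Γ(X, W) := IsLocallyNoetherian.component_noetherian ⟨W, hWaff⟩
  obtain ⟨W', hW'W, hηW', T', hT'⟩ := local_step ι hWaff hηW
  refine ⟨⟨(Z : Set X) ∩ (W' : Set X)ᶜ, Z.isClosed.inter W'.isOpen.isClosed_compl⟩, ?_, ?_⟩
  · refine lt_of_le_of_ne (fun x hx => hx.1) ?_
    intro h
    have : η ∈ ((⟨(Z : Set X) ∩ (W' : Set X)ᶜ, Z.isClosed.inter W'.isOpen.isClosed_compl⟩ :
        Closeds X) : Set X) := by rw [h]; exact hηZ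
    exact this.2 hηW'
  · refine ⟨L ++ T'.toList.map (fun t => ⟨W', t⟩), ?_⟩
    intro x hx
    by_cases hxZ : x ∈ (Z : Set X)
    · have hxW' : x ∈ W' := by
        by_contra h
        exact hx ⟨hxZ, h⟩
      -- `x` lies in `T`
      have hxT : x ∈ T := by
        rw [hSU] at hxZ
        obtain ⟨T'', hT''S, hxT''⟩ := hxZ
        by_cases hTT : T'' = T
        · rw [← hTT]; exact hxT''
        · exfalso
          exact hWW₀ (hW'W hxW') ⟨T'', ⟨hT''S, hTT⟩, hxT''⟩
      have hspec : η ⤳ x := by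
        rw [specializes_iff_mem_closure, hgen.def]
        exact hxT
      have h1 := hT' x hxW' hspec
      unfold Gen
      rw [eq_top_iff, ← h1]
      apply Submodule.span_mono
      rintro γ ⟨t, ht, rfl⟩
      refine ⟨⟨W', t⟩, ?_, hxW', rfl⟩
      apply List.mem_append_right
      exact List.mem_map.mpr ⟨t, Finset.mem_toList.mpr (Finset.mem_coe.mp ht), rfl⟩
    · exact (hL x hxZ).mono (fun p hp => List.mem_append_left _ hp)

include ι in
theorem exists_list [IsNoetherian X] :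
    ∃ L : List (Σ U : X.Opens, Γ(G, U)), ∀ x : X, Gen L x := by
  let P : Set (Closeds X) := {Z | ∃ L : List (Σ U : X.Opens, Γ(G, U)), ∀ x, x ∉ Z → Gen L x}
  have hne : P.Nonempty := ⟨⊤, [], fun x hx => absurd (Set.mem_univ x) hx⟩
  obtain ⟨Z, hZP, hmin⟩ := (wellFounded_lt (α := Closeds X)).has_min P hne
  by_cases hZ : Z = ⊥
  · obtain ⟨L, hL⟩ := hZP
    refine ⟨L, fun x => hL x ?_⟩
    rw [hZ]
    exact fun h => h
  · obtain ⟨Z', hlt, hZ'⟩ := step ι Z hZ hZP
    exact absurd hlt (hmin Z' hZ')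

end Global

end Groth.Agent.Lib.SubIdGenH8
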