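import Mathlib
import Groth.Prelude
import Groth.Agent.Lib.SubIdGen1_helper8
import Groth.Agent.Lib.StalkSky4_lead

/-!
# `O_X` is a noetherian object of `Mod(O_X)` on a Noetherian scheme; `j_! O_U` likewise (helper8)
APPEND-ONLY once landed.
-/

set_option autoImplicit false

namespace Groth.Agent.Lib.SubIdGenH8

open AlgebraicGeometry CategoryTheory CategoryTheory.Limits TopologicalSpace Opposite
open QcqsLoc QCohExtn SerreCrit SecOrdH8 Groth.Agent.Lib.QCohLoc_helper4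

universe u
variable {X : Scheme.{u}}

section LocLE

/-- near `x`, the image of `G'` in `O_X` is contained in the image of `G` -/
def LocLE {G G' : X.Modules} (ι : G ⟶ OO X) (ι' : G' ⟶ OO X) (x : X) : Prop :=
  ∀ (O : X.Opens) (_ : x ∈ O) (t' : Γ(G', O)), ∃ (D : X.Opens) (hD : D ≤ O), x ∈ D ∧
    ∃ t : Γ(G, D), toFn (ap ι D t) = rX hD (toFn (ap ι' O t'))

theorem LocLE.trans {G₁ G₂ G₃ : X.Modules} {ι₁ : G₁ ⟶ OO X} {ι₂ : G₂ ⟶ OO X} {ι₃ : G₃ ⟶ OO X}
    {x : X} (h32 : LocLE ι₃ ι₂ x) (h21 : LocLE ι₂ ι₁ x) : LocLE ι₃ ι₁ x := by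
  intro O hxO t₁
  obtain ⟨D, hD, hxD, t₂, ht₂⟩ := h21 O hxO t₁
  obtain ⟨D', hD', hxD', t₃, ht₃⟩ := h32 D hxD t₂
  refine ⟨D', hD'.trans hD, hxD', t₃, ?_⟩
  rw [ht₃, ht₂, rX_rX]

theorem satIdeal_mono_of_locLE {G₁ G₂ : X.Modules} {ι₁ : G₁ ⟶ OO X} {ι₂ : G₂ ⟶ OO X}
    (W : X.Opens) (η : X) (hη : η ∈ W) (h : LocLE ι₂ ι₁ η) :
    satIdeal ι₁ W η hη ≤ satIdeal ι₂ W η hη := by
  rintro a ⟨V, hV, hηV, t, ht⟩
  obtain ⟨D, hD, hηD, t₂, ht₂⟩ := h V hηV t
  refine ⟨D, hD.trans hV, hηD, t₂, ?_⟩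
  rw [ht₂, ht, rX_rX]

theorem local_step' {G : X.Modules} (ι : G ⟶ OO X) {W : X.Opens} (hW : IsAffineOpen W)
    [IsNoetherianRing Γ(X, W)] {η : X} (hη : η ∈ W) :
    ∃ (W' : X.Opens) (_ : W' ≤ W) (_ : η ∈ W'), ∀ {G' : X.Modules} (ι' : G' ⟶ OO X),
      satIdeal ι' W η hη ≤ satIdeal ι W η hη → ∀ x ∈ W', η ⤳ x → LocLE ι ι' x := by
  classical
  obtain ⟨S, hS⟩ := (isNoetherianRing_iff_ideal_fg Γ(X, W)).mp inferInstance (satIdeal ι W η hη)
  have hSmem : ∀ a ∈ S, a ∈ satIdeal ι W η hη := fun a ha => by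
    rw [← hS]; exact Ideal.subset_span ha
  obtain ⟨W', hW', hηW', hcom⟩ := exists_common ι W η hη S hSmem
  choose! tt htt using hcom
  refine ⟨W', hW', hηW', ?_⟩
  intro G' ι' hle x hx hspec O hxO t'
  obtain ⟨g, hgle, hxg⟩ := hW.exists_basicOpen_le (V := O ⊓ W') ⟨x, ⟨hxO, hx⟩⟩ (hW' hx)
  have hD : X.basicOpen g ≤ W := X.basicOpen_le g
  have hDO : X.basicOpen g ≤ O := hgle.trans inf_le_left
  have hDW' : X.basicOpen g ≤ W' := hgle.trans inf_le_right
  have hηD : η ∈ X.basicOpen g := hspec.mem_open (X.basicOpen g).isOpen hxg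
  set t₁ : Γ(G', X.basicOpen g) := rF G' hDO t' with ht₁
  letI := (rX hD).toAlgebra
  haveI hloc : IsLocalization.Away g Γ(X, X.basicOpen g) := hW.isLocalization_basicOpen g
  obtain ⟨⟨a, s⟩, has⟩ := IsLocalization.surj (Submonoid.powers g) (toFn (ap ι' _ t₁))
  obtain ⟨n, hn⟩ := s.2
  have has' : toFn (ap ι' _ t₁) * rX hD (g ^ n) = rX hD a := by
    have : toFn (ap ι' _ t₁) * algebraMap Γ(X, W) Γ(X, X.basicOpen g) (s : Γ(X, W)) =
        algebraMap Γ(X, W) Γ(X, X.basicOpen g) a := has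
    rw [← hn] at this
    exact this
  have haK : a ∈ satIdeal ι W η hη := by
    apply hle
    refine ⟨X.basicOpen g, hD, hηD, rX hD (g ^ n) • t₁, ?_⟩
    rw [ap_smul]
    show rX hD (g ^ n) * toFn (ap ι' _ t₁) = _
    rw [mul_comm, has']
  rw [← hS] at haK
  obtain ⟨c, -, hc⟩ := (Submodule.mem_span_finset (R := Γ(X, W)) (s := S) (x := a)).mp haK
  have hu : IsUnit (rX hD (g ^ n)) := by
    rw [map_pow]
    exact (X.toRingedSpace.isUnit_res_basicOpen g).pow n
  obtain ⟨v, hv⟩ := hu.exists_left_inv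
  refine ⟨X.basicOpen g, hDO, hxg, ∑ b ∈ S, (v * rX hD (c b)) • rF G hDW' (tt b), ?_⟩
  rw [map_sum]
  have h1 : ∀ b ∈ S, ap ι (X.basicOpen g) ((v * rX hD (c b)) • rF G hDW' (tt b)) =
      (v * rX hD (c b * b) : Γ(X, X.basicOpen g)) := by
    intro b hb
    rw [ap_smul, ap_rF]
    show v * rX hD (c b) * rX hDW' (toFn (ap ι W' (tt b))) = _
    rw [htt b hb, rX_rX, map_mul, mul_assoc]
  rw [Finset.sum_congr rfl h1]
  have h2 : (∑ b ∈ S, v * rX hD (c b * b) : Γ(X, X.basicOpen g)) = v * rX hD a := by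
    rw [← Finset.mul_sum, ← map_sum]
    congr 2
  have h3 : rX hDO (toFn (ap ι' O t')) = toFn (ap ι' _ t₁) := by
    rw [ht₁, ap_rF]
    rfl
  show (∑ b ∈ S, v * rX hD (c b * b) : Γ(X, X.basicOpen g)) = _
  rw [h2, h3, ← has', mul_left_comm, hv, mul_one]

end LocLE

section Chain

/-- a generic point of a maximal irreducible piece of a nonempty closed subset, with an affine
neighbourhood meeting the closed subset only in specialisations of it -/
theorem exists_affine_nbhd [IsNoetherian X] (Z : Closeds X) (hZ : Z ≠ ⊥) :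
    ∃ (η : X) (W : X.Opens), η ∈ (Z : Set X) ∧ IsAffineOpen W ∧ η ∈ W ∧
      ∀ x ∈ W, x ∈ (Z : Set X) → η ⤳ x := by
  classical
  obtain ⟨S, hSf, hSc, hSi, hSU⟩ :=
    NoetherianSpace.exists_finite_set_isClosed_irreducible Z.isClosed
  have hSne : S.Nonempty := by
    by_contra h
    rw [Set.not_nonempty_iff_eq_empty] at h
    apply hZ
    apply Closeds.ext
    rw [hSU, h]
    simp
  obtain ⟨T, hT⟩ := hSf.exists_maximal hSne
  have hTS : T ∈ S := hT.prop
  set η : X := (hSi T hTS).genericPoint with hη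
  have hgen : IsGenericPoint η T := (hSi T hTS).isGenericPoint_genericPoint (hSc T hTS)
  have hηT : η ∈ T := hgen.mem
  have hηZ : η ∈ (Z : Set X) := by rw [hSU]; exact ⟨T, hTS, hηT⟩
  set R : Set X := ⋃₀ (S \ {T}) with hR
  have hRc : IsClosed R := by
    rw [hR, Set.sUnion_eq_biUnion]
    exact (hSf.sdiff).isClosed_biUnion (fun t ht => hSc t ht.1)
  have hηR : η ∉ R := by
    rintro ⟨T', ⟨hT'S, hT'ne⟩, hηT'⟩
    apply hT'ne
    have hle : T ≤ T' := by
      rw [← hgen.def]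
      exact (hSc T' hT'S).closure_subset_iff.mpr (Set.singleton_subset_iff.mpr hηT')
    exact (le_antisymm (hT.le_of_ge hT'S hle) hle)
  let W₀ : X.Opens := ⟨Rᶜ, hRc.isOpen_compl⟩
  have hηW₀ : η ∈ W₀ := hηR
  obtain ⟨W, hWaff, hηW, hWW₀⟩ :=
    Opens.isBasis_iff_nbhd.mp X.isBasis_affineOpens hηW₀
  refine ⟨η, W, hηZ, hWaff, hηW, ?_⟩
  intro x hxW hxZ
  have hxT : x ∈ T := by
    rw [hSU] at hxZ
    obtain ⟨T'', hT''S, hxT''⟩ := hxZ
    by_cases hTT : T'' = T
    · rw [← hTT]; exact hxT''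
    · exfalso
      exact hWW₀ hxW ⟨T'', ⟨hT''S, hTT⟩, hxT''⟩
  rw [specializes_iff_mem_closure, hgen.def]
  exact hxT

variable (G : ℕ → X.Modules) (ι : ∀ n, G n ⟶ OO X)

theorem chain_step [IsNoetherian X] (hmono : ∀ n m, n ≤ m → ∀ x, LocLE (ι m) (ι n) x)
    (Z : Closeds X) (hZ : Z ≠ ⊥)
    (hP : ∃ N, ∀ m, N ≤ m → ∀ x, x ∉ Z → LocLE (ι N) (ι m) x) :
    ∃ Z' : Closeds X, Z' < Z ∧ ∃ N, ∀ m, N ≤ m → ∀ x, x ∉ Z' → LocLE (ι N) (ι m) x := by
  classical
  obtain ⟨N₀, hN₀⟩ := hP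
  obtain ⟨η, W, hηZ, hWaff, hηW, hspec⟩ := exists_affine_nbhd Z hZ
  haveI : IsNoetherianRing Γ(X, W) := IsLocallyNoetherian.component_noetherian ⟨W, hWaff⟩
  -- the chain of saturation ideals stabilises
  let K : ℕ →o Ideal Γ(X, W) :=
    ⟨fun n => satIdeal (ι n) W η hηW, fun n m hnm =>
      satIdeal_mono_of_locLE W η hηW (hmono n m hnm η)⟩
  obtain ⟨N₁, hN₁⟩ := (monotone_stabilizes_iff_noetherian (R := Γ(X, W)) (M := Γ(X, W))).mpr
    inferInstance K
  set N := max N₀ N₁ with hN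
  obtain ⟨W', hW'W, hηW', hloc⟩ := local_step' (ι N) hWaff hηW
  refine ⟨⟨(Z : Set X) ∩ (W' : Set X)ᶜ, Z.isClosed.inter W'.isOpen.isClosed_compl⟩, ?_, N, ?_⟩
  · refine lt_of_le_of_ne (fun x hx => hx.1) ?_
    intro h
    have : η ∈ ((⟨(Z : Set X) ∩ (W' : Set X)ᶜ, Z.isClosed.inter W'.isOpen.isClosed_compl⟩ :
        Closeds X) : Set X) := by rw [h]; exact hηZ
    exact this.2 hηW'
  · intro m hm x hx
    by_cases hxZ : x ∈ (Z : Set X)
    · have hxW' : x ∈ W' := by
        by_contra h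
        exact hx ⟨hxZ, h⟩
      refine hloc (ι m) ?_ x hxW' (hspec x (hW'W hxW') hxZ)
      have h1 : K m = K N₁ := (hN₁ m ((le_max_right _ _).trans hm)).symm
      have h2 : K N = K N₁ := (hN₁ N (le_max_right _ _)).symm
      show K m ≤ K N
      rw [h1, h2]
    · exact (hmono N₀ N (le_max_left _ _) x).trans (hN₀ m ((le_max_left _ _).trans hm) x hxZ)

theorem chain_stabilizes [IsNoetherian X] (hmono : ∀ n m, n ≤ m → ∀ x, LocLE (ι m) (ι n) x) :
    ∃ N, ∀ m, N ≤ m → ∀ x, LocLE (ι N) (ι m) x := by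
  let P : Set (Closeds X) := {Z | ∃ N, ∀ m, N ≤ m → ∀ x, x ∉ Z → LocLE (ι N) (ι m) x}
  have hne : P.Nonempty := ⟨⊤, 0, fun m _ x hx => absurd (Set.mem_univ x) hx⟩
  obtain ⟨Z, hZP, hmin⟩ := (wellFounded_lt (α := Closeds X)).has_min P hne
  by_cases hZ : Z = ⊥
  · obtain ⟨N, hN⟩ := hZP
    refine ⟨N, fun m hm x => hN m hm x ?_⟩
    rw [hZ]
    exact fun h => h
  · obtain ⟨Z', hlt, hZ'⟩ := chain_step G ι hmono Z hZ hZP
    exact absurd hlt (hmin Z' hZ')

end Chain

section Noeth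

open Groth.Agent.Lib.StalkSkyL Groth.Agent.Lib.TorAmpPushL

theorem rX_refl' (W : X.Opens) (a : Γ(X, W)) : rX (le_refl W) a = a := by
  have : (homOfLE (le_refl W)).op = 𝟙 (op W) := rfl
  show (X.presheaf.map (homOfLE (le_refl W)).op).hom a = a
  rw [this, CategoryTheory.Functor.map_id]
  rfl

theorem locLE_of_le {A B : Subobject (OO X)} (h : A ≤ B) (x : X) : LocLE B.arrow A.arrow x := by
  intro O hxO t'
  refine ⟨O, le_rfl, hxO, (Subobject.ofLE A B h).app O t', ?_⟩
  rw [rX_refl']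
  have h1 : Subobject.ofLE A B h ≫ B.arrow = A.arrow := Subobject.ofLE_arrow h
  show toFn ((B.arrow.app O) ((Subobject.ofLE A B h).app O t')) = toFn (A.arrow.app O t')
  rw [← h1]
  rfl

theorem isIso_ofLE_of_locLE {A B : Subobject (OO X)} (h : A ≤ B)
    (hloc : ∀ x, LocLE A.arrow B.arrow x) : IsIso (Subobject.ofLE A B h) := by
  apply isIso_of_forall_stalk_isIso
  intro x
  rw [ConcreteCategory.isIso_iff_bijective]
  constructor
  · haveI : Mono (Subobject.ofLE A B h) := inferInstance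
    haveI : Mono ((DerSch.stalkFunctor X x).map (Subobject.ofLE A B h)) := inferInstance
    exact (ModuleCat.mono_iff_injective _).mp this
  · intro γ
    obtain ⟨O, hxO, t', rfl⟩ := TopCat.Presheaf.exists_germ_eq (B : X.Modules).presheaf γ
    obtain ⟨D, hD, hxD, t, ht⟩ := hloc x O hxO t'
    refine ⟨(A : X.Modules).presheaf.germ D x hxD t, ?_⟩
    rw [DerSch.stalkFunctor_map_germ]
    have h1 : Subobject.ofLE A B h ≫ B.arrow = A.arrow := Subobject.ofLE_arrow h
    have h2 : (Subobject.ofLE A B h).app D t = rF (B : X.Modules) hD t' := by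
      apply QCohExact.app_injective_of_mono B.arrow D
      have h3 : B.arrow.app D ((Subobject.ofLE A B h).app D t) = A.arrow.app D t := by
        rw [← h1]
        rfl
      have h4 : B.arrow.app D (rF (B : X.Modules) hD t') = rF (OO X) hD (B.arrow.app O t') :=
        ap_rF B.arrow hD t'
      rw [h3, h4]
      exact ht
    rw [h2]
    exact germ_rF (B : X.Modules) hD x hxD t'

/-- On a Noetherian scheme the structure sheaf is a noetherian object of `Mod(O_X)`. -/
theorem noetherian_OO [IsNoetherian X] (c : ℕ →o Subobject (OO X)) :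
    ∃ n, ∀ m, n ≤ m → c n = c m := by
  obtain ⟨N, hN⟩ := chain_stabilizes (fun n => ((c n : X.Modules))) (fun n => (c n).arrow)
    (fun n m hnm x => locLE_of_le (c.monotone hnm) x)
  refine ⟨N, fun m hm => ?_⟩
  haveI := isIso_ofLE_of_locLE (c.monotone hm) (hN m hm)
  refine le_antisymm (c.monotone hm) ?_
  refine Subobject.le_of_comm (inv (Subobject.ofLE (c N) (c m) (c.monotone hm))) ?_
  rw [IsIso.inv_comp_eq, Subobject.ofLE_arrow]

end Noeth

section ExtZero

open Groth.Agent.Lib.StalkSkyL Groth.Agent.Lib.TorAmpPushL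

variable {U : Scheme.{u}} (j : U ⟶ X) [IsOpenImmersion j]

theorem subsingleton_stalk_of_mono_extZero (A : U.Modules) {M : X.Modules}
    (i : M ⟶ (CxOX.extZero j).obj A) [Mono i] (x : X) (hx : x ∉ Set.range j.base) :
    Subsingleton (M.presheaf.stalk x) := by
  haveI := subsingleton_stalk_extZero j A x hx
  haveI : Mono ((DerSch.stalkFunctor X x).map i) := inferInstance
  have hinj : Function.Injective ((DerSch.stalkFunctor X x).map i) :=
    (ModuleCat.mono_iff_injective _).mp this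
  refine ⟨fun a b => hinj ?_⟩
  exact Subsingleton.elim (α := ((CxOX.extZero j).obj A).presheaf.stalk x) _ _

/-- `j_! O_U` is a noetherian object for `U` a Noetherian scheme, openly immersed in `X`. -/
theorem noetherian_extZeroUnit [IsNoetherian U] (c : ℕ →o Subobject (CxOX.extZeroUnit j)) :
    ∃ n, ∀ m, n ≤ m → c n = c m := by
  let R := Scheme.Modules.restrictFunctor j
  let e : R.obj (CxOX.extZeroUnit j) ≅ OO U :=
    (asIso ((CxOX.extZeroAdj j).unit.app (OO U))).symm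
  haveI hmono : ∀ n, Mono (R.map (c n).arrow ≫ e.hom) := fun n => by
    haveI : Mono (R.map (c n).arrow) := inferInstance
    exact mono_comp _ _
  let d : ℕ →o Subobject (OO U) :=
    ⟨fun n => Subobject.mk (R.map (c n).arrow ≫ e.hom), fun n m hnm => by
      refine Subobject.mk_le_mk_of_comm (R.map (Subobject.ofLE (c n) (c m) (c.monotone hnm))) ?_
      rw [← Category.assoc, ← R.map_comp, Subobject.ofLE_arrow]⟩
  obtain ⟨N, hN⟩ := noetherian_OO d
  refine ⟨N, fun m hm => ?_⟩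
  set f := Subobject.ofLE (c N) (c m) (c.monotone hm) with hf
  -- the restriction of `f` is an isomorphism
  have hRf : IsIso (R.map f) := by
    have hd : Subobject.mk (R.map (c N).arrow ≫ e.hom) = Subobject.mk (R.map (c m).arrow ≫ e.hom) :=
      hN m hm
    have h1 : R.map f = (Subobject.isoOfMkEqMk _ _ hd).hom := by
      rw [← cancel_mono (R.map (c m).arrow ≫ e.hom)]
      rw [← Category.assoc, ← R.map_comp, hf, Subobject.ofLE_arrow]
      exact (Subobject.ofMkLEMk_comp hd.le).symm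
    rw [h1]
    infer_instance
  haveI : IsIso f := by
    apply isIso_of_forall_stalk_isIso
    intro x
    rw [ConcreteCategory.isIso_iff_bijective]
    by_cases hx : x ∈ Set.range j.base
    · obtain ⟨y, rfl⟩ := hx
      rw [← stalk_bijective_iff j y, ← ConcreteCategory.isIso_iff_bijective]
      infer_instance
    · haveI h1 := subsingleton_stalk_of_mono_extZero j (OO U) (c N).arrow x hx
      haveI h2 := subsingleton_stalk_of_mono_extZero j (OO U) (c m).arrow x hx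
      constructor
      · intro a b _
        exact Subsingleton.elim (α := (c N : X.Modules).presheaf.stalk x) a b
      · intro b
        exact ⟨0, Subsingleton.elim (α := (c m : X.Modules).presheaf.stalk x) _ _⟩
  refine le_antisymm (c.monotone hm) ?_
  refine Subobject.le_of_comm (inv f) ?_
  rw [IsIso.inv_comp_eq, hf, Subobject.ofLE_arrow]

end ExtZero

end Groth.Agent.Lib.SubIdGenH8
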