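import Mathlib
import Groth.Prelude
import Groth.Agent.Lib.SubIdGen2_helper8
import Groth.Agent.Lib.GenPush1_helper8
import Groth.Agent.Lib.FlatQuot1_lead
import Groth.Agent.Lib.BaerFamily_helper9
import Groth.Agent.Lib.LocInj1_helper4
import Groth.Agent.Lib.SheafOfModulesGrothendieck_helper2

/-!
# Direct sums of injective `O_X`-modules on a locally Noetherian scheme (helper8)
APPEND-ONLY once landed.
-/

set_option autoImplicit false

namespace Groth.Agent.Lib.InjSumH8

open AlgebraicGeometry CategoryTheory CategoryTheory.Limits TopologicalSpace Opposite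
open Groth.Agent.Lib.StalkSkyL Groth.Agent.Lib.TorAmpPushL

universe u
variable {X : Scheme.{u}} {ι : Type u} (I : ι → X.Modules)

noncomputable section

open Classical in
/-- projection of the coproduct to a finite partial sum -/
def aF (F : Finset ι) : (∐ I) ⟶ ⨁ (fun j : F => I j.1) :=
  Sigma.desc (fun k => if h : k ∈ F then biproduct.ι (fun j : F => I j.1) ⟨k, h⟩ else 0)

/-- inclusion of a finite partial sum -/
def bF (F : Finset ι) : (⨁ (fun j : F => I j.1)) ⟶ ∐ I :=
  biproduct.desc (fun j : F => Sigma.ι I j.1)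

/-- the complementary idempotent -/
def qF (F : Finset ι) : (∐ I) ⟶ ∐ I := 𝟙 _ - aF I F ≫ bF I F

open Classical in
theorem ι_aF_bF (F : Finset ι) (k : ι) :
    Sigma.ι I k ≫ aF I F ≫ bF I F = if k ∈ F then Sigma.ι I k else 0 := by
  unfold aF bF
  rw [Sigma.ι_desc_assoc]
  split_ifs with h
  · rw [biproduct.ι_desc]
  · rw [zero_comp]

open Classical in
theorem ι_qF (F : Finset ι) (k : ι) :
    Sigma.ι I k ≫ qF I F = if k ∈ F then 0 else Sigma.ι I k := by
  unfold qF
  rw [Preadditive.comp_sub, Category.comp_id, ι_aF_bF]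
  split_ifs with h
  · rw [sub_self]
  · rw [sub_zero]

theorem qF_comp {F F' : Finset ι} (h : F ⊆ F') : qF I F ≫ qF I F' = qF I F' := by
  classical
  apply Sigma.hom_ext
  intro k
  rw [← Category.assoc, ι_qF]
  by_cases hk : k ∈ F
  · rw [if_pos hk, zero_comp, ι_qF, if_pos (h hk)]
  · rw [if_neg hk]

theorem exists_finset_stalk (x : X) (y : (DerSch.stalkFunctor X x).obj (∐ I)) :
    ∃ F1 : Finset ι, ∀ F : Finset ι, F1 ⊆ F →
      ((DerSch.stalkFunctor X x).map (qF I F)).hom y = 0 := by
  classical
  have htop := Groth.Agent.Lib.GenPushH8.stalk_jointly_surjective I (∐ I) (𝟙 _) x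
  have hy : y ∈ (⨆ k, LinearMap.range
      ((DerSch.stalkFunctor X x).map (Sigma.ι I k ≫ 𝟙 _)).hom) := by
    rw [htop]; exact Submodule.mem_top
  refine Submodule.iSup_induction _ (motive := fun y => ∃ F1 : Finset ι, ∀ F : Finset ι, F1 ⊆ F →
      ((DerSch.stalkFunctor X x).map (qF I F)).hom y = 0) hy ?_ ?_ ?_
  · rintro k y' ⟨w, rfl⟩
    refine ⟨{k}, fun F hF => ?_⟩
    have hk : k ∈ F := hF (Finset.mem_singleton_self k)
    have h0 : (DerSch.stalkFunctor X x).map (Sigma.ι I k ≫ 𝟙 _) ≫
        (DerSch.stalkFunctor X x).map (qF I F) = 0 := by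
      rw [← Functor.map_comp, Category.comp_id, ι_qF, if_pos hk, Functor.map_zero]
    have h1 := congrArg (fun f => f.hom w) h0
    exact h1
  · exact ⟨∅, fun F _ => map_zero _⟩
  · rintro y1 y2 ⟨F1, h1⟩ ⟨F2, h2⟩
    refine ⟨F1 ∪ F2, fun F hF => ?_⟩
    rw [map_add, h1 F (Finset.union_subset_left hF), h2 F (Finset.union_subset_right hF),
      add_zero]

theorem exists_stalk_kernel {S T : X.Modules} (g : S ⟶ T) (x : X)
    (s : (DerSch.stalkFunctor X x).obj S)
    (hs : ((DerSch.stalkFunctor X x).map g).hom s = 0) :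
    ∃ t : (DerSch.stalkFunctor X x).obj (kernelSubobject g : X.Modules),
      ((DerSch.stalkFunctor X x).map (kernelSubobject g).arrow).hom t = s := by
  let Sx := DerSch.stalkFunctor X x
  let C : ShortComplex X.Modules := ShortComplex.mk (kernel.ι g) g (kernel.condition g)
  have hC : C.Exact := ShortComplex.exact_of_f_is_kernel _ (kernelIsKernel g)
  have hC' : (C.map Sx).Exact :=
    hC.map_of_mono_of_preservesKernel Sx (by show Mono (kernel.ι g); infer_instance) inferInstance
  obtain ⟨t, ht⟩ := (ShortComplex.moduleCat_exact_iff _).1 hC' s hs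
  refine ⟨(Sx.map (kernelSubobjectIso g).inv).hom t, ?_⟩
  have h1 : Sx.map (kernelSubobjectIso g).inv ≫ Sx.map (kernelSubobject g).arrow =
      Sx.map (kernel.ι g) := by
    rw [← Functor.map_comp, kernelSubobject_arrow']
  have h2 := congrArg (fun f => f.hom t) h1
  exact h2.trans ht

section Ext

variable {I}

theorem exists_extension {U : Scheme.{u}} (j : U ⟶ X) [IsOpenImmersion j] [IsNoetherian U]
    (hI : ∀ k, Injective (I k)) {S : X.Modules} (m : S ⟶ CxOX.extZeroUnit j) [Mono m]
    (φ : S ⟶ ∐ I) : ∃ ψ : CxOX.extZeroUnit j ⟶ ∐ I, m ≫ ψ = φ := by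
  classical
  let K : Finset ι → Subobject (CxOX.extZeroUnit j) :=
    fun F => (Subobject.map m).obj (kernelSubobject (φ ≫ qF I F))
  have hmono : ∀ F F' : Finset ι, F ⊆ F' → K F ≤ K F' := by
    intro F F' h
    apply (Subobject.map m).monotone
    have := kernelSubobject_comp_le (φ ≫ qF I F) (qF I F')
    rwa [Category.assoc, qF_comp I h] at this
  haveI : WellFoundedGT (Subobject (CxOX.extZeroUnit j)) :=
    wellFoundedGT_iff_monotone_chain_condition.2
      (Groth.Agent.Lib.SubIdGenH8.noetherian_extZeroUnit j)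
  obtain ⟨_, ⟨F0, rfl⟩, hmax⟩ := WellFounded.has_min
    (wellFounded_gt (α := Subobject (CxOX.extZeroUnit j))) (Set.range K) ⟨_, ⟨∅, rfl⟩⟩
  have hEq : ∀ F, F0 ⊆ F →
      kernelSubobject (φ ≫ qF I F) = kernelSubobject (φ ≫ qF I F0) := by
    intro F hF
    apply Subobject.map_obj_injective m
    have h1 : K F0 ≤ K F := hmono _ _ hF
    have h2 : ¬ (K F > K F0) := hmax (K F) ⟨F, rfl⟩
    exact (eq_of_le_of_not_lt h1 h2).symm
  haveI hepi : Epi (kernelSubobject (φ ≫ qF I F0)).arrow := by
    apply epi_of_forall_stalk_epi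
    intro x
    rw [ModuleCat.epi_iff_surjective]
    intro s
    obtain ⟨F1, hF1⟩ := exists_finset_stalk I x (((DerSch.stalkFunctor X x).map φ).hom s)
    have h0 : ((DerSch.stalkFunctor X x).map (φ ≫ qF I (F0 ∪ F1))).hom s = 0 := by
      rw [Functor.map_comp]
      exact hF1 _ Finset.subset_union_right
    have h1 := exists_stalk_kernel (φ ≫ qF I (F0 ∪ F1)) x s h0
    have h2 : ∀ A : Subobject S, A = kernelSubobject (φ ≫ qF I F0) →
        (∃ t : (DerSch.stalkFunctor X x).obj (A : X.Modules),
          ((DerSch.stalkFunctor X x).map A.arrow).hom t = s) →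
        ∃ t : (DerSch.stalkFunctor X x).obj
            ((kernelSubobject (φ ≫ qF I F0) : Subobject S) : X.Modules),
          ((DerSch.stalkFunctor X x).map (kernelSubobject (φ ≫ qF I F0)).arrow).hom t = s := by
      rintro A rfl h
      exact h
    exact h2 _ (hEq _ Finset.subset_union_left) h1
  have hz : φ ≫ qF I F0 = 0 := by
    rw [← cancel_epi (kernelSubobject (φ ≫ qF I F0)).arrow, kernelSubobject_arrow_comp, comp_zero]
  have hφ : φ = (φ ≫ aF I F0) ≫ bF I F0 := by
    unfold qF at hz
    rw [Preadditive.comp_sub, Category.comp_id, sub_eq_zero] at hz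
    rw [Category.assoc]
    exact hz
  haveI : ∀ j : F0, Injective (I j.1) := fun j => hI j.1
  haveI : Injective (⨁ (fun j : F0 => I j.1)) := inferInstance
  refine ⟨Injective.factorThru (φ ≫ aF I F0) m ≫ bF I F0, ?_⟩
  rw [← Category.assoc, Injective.comp_factorThru]
  exact hφ.symm

variable (I)

theorem injective_sigma_of_isNoetherian [IsNoetherian X] (hI : ∀ k, Injective (I k)) :
    Injective (∐ I) := by
  haveI : IsGrothendieckAbelian.{u} X.Modules :=
    Groth.Agent.Lib.FunctorialInjective.isGrothendieckAbelian_sheafOfModules _ X.ringCatSheaf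
  refine Groth.Agent.Lib.BaerFamily.injective_of_extension.{u}
    (G := fun U : X.Opens => CxOX.extZeroUnit U.ι) ?_ (∐ I) ?_
  · intro A B p _ hp
    by_contra hcon
    push Not at hcon
    apply hp
    obtain ⟨κ, U, π, hπ, -⟩ := Groth.Agent.Lib.FlatQuotL.main11164 B
    choose a ha using fun i => hcon (U i)
      (Sigma.ι (fun i => CxOX.extZeroUnit (U i).ι) i ≫ π)
    haveI : Epi p := by
      have : Sigma.desc a ≫ p = π := by
        apply Sigma.hom_ext
        intro i
        rw [Sigma.ι_desc_assoc, ha]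
      exact epi_of_epi_fac this
    exact isIso_of_mono_of_epi p
  · intro U S m _ φ
    haveI : CompactSpace (U : Scheme.{u}) :=
      isCompact_iff_compactSpace.mp (NoetherianSpace.isCompact U.1)
    haveI : IsNoetherian (U : Scheme.{u}) := { }
    exact exists_extension U.ι hI m φ

theorem injective_sigma [IsLocallyNoetherian X] (hI : ∀ k, Injective (I k)) :
    Injective (∐ I) := by
  apply Groth.Agent.Lib.LocInjH4.injective_of_locally_injective
  intro x
  obtain ⟨U, hU, hxU, -⟩ := exists_isAffineOpen_mem_and_subset (X := X) (x := x) (U := ⊤) trivial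
  refine ⟨U, hxU, ?_⟩
  haveI : IsAffine (U : Scheme.{u}) := hU
  haveI : IsNoetherian (U : Scheme.{u}) := { }
  let R := Scheme.Modules.restrictFunctor U.ι
  haveI : ∀ k, Injective (R.obj (I k)) := fun k => by
    haveI := hI k
    exact injective_restrict U.ι (I k)
  have h := injective_sigma_of_isNoetherian (fun k => R.obj (I k)) inferInstance
  exact Injective.of_iso (PreservesCoproduct.iso R I).symm h

end Ext

end

end Groth.Agent.Lib.InjSumH8
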