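import Mathlib
import Groth.Prelude
import Groth.Agent.Lib.StalkSky2_lead
import Groth.Agent.Lib.TorAmpPush_lead
import Groth.Agent.Lib.QCohCrit2_helper9
import Groth.Agent.S8926
import Groth.Agent.S0311
import Groth.Agent.Lib.QcqsLoc_helper9

set_option autoImplicit false
universe u
open CategoryTheory CategoryTheory.Limits AlgebraicGeometry TopologicalSpace Opposite

namespace Groth.Agent.Lib.InjTildeH2

open Groth.Agent.Lib.StalkSkyL

noncomputable section

/-- skyscraper of an injective module is injective -/
theorem injective_sky {X : Scheme.{u}} (x : X) (E : ModuleCat.{u} (X.presheaf.stalk x))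
    [Injective E] : Injective (sky x E) := by
  have := Injective.injective_of_adjoint (stalkSkyAdj x) E
  exact this

lemma bijective_of_isLocalizedModule {R : Type*} [CommRing R] (S : Submonoid R) {M M' : Type*}
    [AddCommGroup M] [AddCommGroup M'] [Module R M] [Module R M'] (f : M →ₗ[R] M')
    [IsLocalizedModule S f] (h : ∀ s ∈ S, Function.Bijective (fun m : M => s • m)) :
    Function.Bijective f := by
  constructor
  · refine (injective_iff_map_eq_zero f).mpr fun x hx => ?_
    obtain ⟨c, hc⟩ := (IsLocalizedModule.eq_zero_iff S f).mp hx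
    apply (h c c.2).1
    show (c : R) • x = (c : R) • 0
    rw [smul_zero]
    exact hc
  · intro y
    obtain ⟨⟨m, s⟩, hs⟩ := IsLocalizedModule.surj S f y
    obtain ⟨m', hm'⟩ := (h s s.2).2 m
    refine ⟨m', ?_⟩
    apply IsLocalizedModule.smul_injective f s
    simp only at hs hm' ⊢
    rw [hs, ← hm', map_smul]
    rfl

variable {R : CommRingCat.{u}} (M : ModuleCat.{u} R) (p : PrimeSpectrum R)

lemma germ_toOpen (U : (Spec R).Opens) (hp : p ∈ U) (m : M) :
    (tilde M).presheaf.germ U p hp ((tilde.toOpen M U).hom m) = (tilde.toStalk M p).hom m := by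
  have h : (tilde M).presheaf.germ U p hp ((tilde M).presheaf.map (homOfLE le_top : U ⟶ ⊤).op
      ((tilde.toOpen M ⊤).hom m)) = (tilde M).presheaf.germ ⊤ p trivial ((tilde.toOpen M ⊤).hom m) :=
    TopCat.Presheaf.germ_res_apply _ _ _ _ _
  exact h

section Unit

variable (h1 : ∀ s : R, s ∉ p.asIdeal → Function.Bijective (fun e : M => s • e))
  (h2 : ∀ g ∈ p.asIdeal, ∀ e : M, ∃ n : ℕ, g ^ n • e = 0)

include h1 in
lemma bijective_toStalk : Function.Bijective (tilde.toStalk M p).hom :=
  bijective_of_isLocalizedModule p.asIdeal.primeCompl _ (fun s hs => h1 s hs)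

include h1 in
lemma bijective_toOpen (f : R) (hf : f ∉ p.asIdeal) :
    Function.Bijective (tilde.toOpen M (PrimeSpectrum.basicOpen f)).hom := by
  refine bijective_of_isLocalizedModule (Submonoid.powers f) _ ?_
  rintro s ⟨n, rfl⟩
  exact h1 _ (fun h => hf (p.2.mem_of_pow_mem n h))

include h1 in
lemma bijective_germ (f : R) (hf : f ∉ p.asIdeal) :
    Function.Bijective ((tilde M).presheaf.germ (PrimeSpectrum.basicOpen f : (Spec R).Opens) p hf) := by
  have hO := bijective_toOpen M p h1 f hf
  have hS := bijective_toStalk M p h1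
  constructor
  · intro a b hab
    obtain ⟨m, rfl⟩ := hO.2 a
    obtain ⟨m', rfl⟩ := hO.2 b
    have h3 : (tilde.toStalk M p).hom m = (tilde.toStalk M p).hom m' :=
      (germ_toOpen M p _ hf m).symm.trans (hab.trans (germ_toOpen M p _ hf m'))
    rw [hS.1 h3]
  · intro t
    obtain ⟨m, hm⟩ := hS.2 t
    exact ⟨(tilde.toOpen M (PrimeSpectrum.basicOpen f)).hom m, (germ_toOpen M p _ hf m).trans hm⟩

include h2 in
lemma subsingleton_sections (f : R) (hf : f ∈ p.asIdeal) :
    Subsingleton Γ(tilde M, (PrimeSpectrum.basicOpen f : (Spec R).Opens)) := by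
  refine ⟨fun a b => ?_⟩
  suffices H : ∀ y : ↑((modulesSpecToSheaf.obj (tilde M)).presheaf.obj
      (op (PrimeSpectrum.basicOpen f))), y = 0 from (H a).trans (H b).symm
  intro y
  obtain ⟨⟨m, s⟩, hs⟩ := IsLocalizedModule.surj (Submonoid.powers f)
    (tilde.toOpen M (PrimeSpectrum.basicOpen f)).hom y
  obtain ⟨n, hn⟩ := h2 f hf m
  have h0 : (tilde.toOpen M (PrimeSpectrum.basicOpen f)).hom m = 0 := by
    apply IsLocalizedModule.smul_injective (tilde.toOpen M (PrimeSpectrum.basicOpen f)).hom
      (⟨f ^ n, n, rfl⟩ : Submonoid.powers f)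
    show (f ^ n) • ((tilde.toOpen M (PrimeSpectrum.basicOpen f)).hom m) =
      (f ^ n) • (0 : ↑((modulesSpecToSheaf.obj (tilde M)).presheaf.obj
      (op (PrimeSpectrum.basicOpen f))))
    rw [← map_smul, hn, map_zero, smul_zero]
  apply IsLocalizedModule.smul_injective (tilde.toOpen M (PrimeSpectrum.basicOpen f)).hom s
  show s • y = s • 0
  rw [smul_zero]
  exact hs.trans h0

include h1 h2 in
theorem isIso_skyUnit : IsIso (skyUnit (X := Spec R) p (tilde M)) := by
  refine QCohCrit.isIso_of_isIso_app_basis _
    (fun f : R => (PrimeSpectrum.basicOpen f : (Spec R).Opens))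
    PrimeSpectrum.isBasis_basic_opens (fun f => ?_)
  rw [ConcreteCategory.isIso_iff_bijective]
  by_cases hf : f ∈ p.asIdeal
  · haveI := subsingleton_sections M p h2 f hf
    haveI : Subsingleton Γ(sky (X := Spec R) p ((DerSch.stalkFunctor (Spec R) p).obj (tilde M)),
        (PrimeSpectrum.basicOpen f : (Spec R).Opens)) :=
      subsingleton_sky_of_not_mem (X := Spec R) p _ (fun h => h hf)
    exact ⟨fun a b _ => Subsingleton.elim _ _, fun b => ⟨0, Subsingleton.elim _ _⟩⟩
  · have hg := bijective_germ M p h1 f hf
    constructor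
    · intro a b hab
      apply hg.1
      have := congrArg (fun φ => skyFun (X := Spec R) p _ φ ⟨hf⟩) hab
      simp only [skyUnit_app] at this
      exact this
    · intro ψ
      obtain ⟨s, hs⟩ := hg.2 (skyFun (X := Spec R) p _ ψ ⟨hf⟩)
      refine ⟨s, sky_ext (X := Spec R) p _ _ _ (fun k => ?_)⟩
      rw [skyUnit_app]
      exact hs

end Unit

lemma isEpi_of_isLocalization {A B : Type u} [CommRing A] [CommRing B] [Algebra A B]
    (T : Submonoid A) [IsLocalization T B] : Algebra.IsEpi A B := by
  rw [← CommRingCat.epi_iff_epi]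
  exact ⟨fun _ _ h => CommRingCat.hom_ext (IsLocalization.ringHom_ext T
    (CommRingCat.hom_ext_iff.mp h))⟩

section StalkInj

variable (h1 : ∀ s : R, s ∉ p.asIdeal → Function.Bijective (fun e : M => s • e))

include h1 in
theorem moduleInjective_stalk (hM : Module.Injective R M) :
    Module.Injective ((Spec R).presheaf.stalk p) ((tilde M).presheaf.stalk p) := by
  have e : M ≃ₗ[R] ((tilde M).presheaf.stalk p) :=
    LinearEquiv.ofBijective (tilde.toStalk M p).hom (bijective_toStalk M p h1)
  haveI : Module.Injective R ((tilde M).presheaf.stalk p) :=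
    Module.Baer.injective (Module.Baer.of_equiv e (Module.Baer.of_injective hM))
  letI : Algebra R ((Spec R).presheaf.stalk p) :=
    inferInstanceAs (Algebra R ((Spec.structureSheaf R).presheaf.stalk p))
  haveI : IsLocalization p.asIdeal.primeCompl ((Spec R).presheaf.stalk p) :=
    inferInstanceAs (IsLocalization.AtPrime ((Spec.structureSheaf R).presheaf.stalk p) p.asIdeal)
  haveI : Algebra.IsEpi R ((Spec R).presheaf.stalk p) :=
    isEpi_of_isLocalization p.asIdeal.primeCompl
  haveI : IsScalarTower R ((Spec R).presheaf.stalk p) ((tilde M).presheaf.stalk p) :=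
    inferInstanceAs (IsScalarTower R ((structurePresheafInCommRingCat R).stalk p)
      ↑(TopCat.Presheaf.stalk (moduleStructurePresheaf R M).presheaf p))
  exact Groth.Agent.S8926.result R ((Spec R).presheaf.stalk p) ((tilde M).presheaf.stalk p)

end StalkInj

section Main1

variable (h1 : ∀ s : R, s ∉ p.asIdeal → Function.Bijective (fun e : M => s • e))
  (h2 : ∀ g ∈ p.asIdeal, ∀ e : M, ∃ n : ℕ, g ^ n • e = 0)

include h1 h2 in
/-- An injective `R`-module on which the elements outside the prime `p` act bijectively and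
which is `g`-power torsion for every `g ∈ p` has an injective associated sheaf. -/
theorem injective_tilde_of_local (hM : Module.Injective R M) : Injective (tilde M) := by
  haveI := isIso_skyUnit M p h1 h2
  haveI := moduleInjective_stalk M p h1 hM
  haveI : Injective ((DerSch.stalkFunctor (Spec R) p).obj (tilde M)) :=
    Module.injective_object_of_injective_module ((Spec R).presheaf.stalk p)
      ((tilde M).presheaf.stalk p)
  haveI := injective_sky (X := Spec R) p ((DerSch.stalkFunctor (Spec R) p).obj (tilde M))
  exact Injective.of_iso (asIso (skyUnit (X := Spec R) p (tilde M))).symm inferInstance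

end Main1

/-- The canonical morphism from the spectrum of a local ring of a scheme is flat
(copied from `AlgSpOnePt_helper7`). -/
theorem flat_fromSpecStalk (X : Scheme.{u}) (x : X) : Flat (X.fromSpecStalk x) := by
  obtain ⟨_, ⟨U, hU, rfl⟩, hxU, -⟩ :=
    X.isBasis_affineOpens.exists_subset_of_mem_open (Set.mem_univ x) isOpen_univ
  rw [← hU.fromSpecStalk_eq_fromSpecStalk hxU]
  dsimp [IsAffineOpen.fromSpecStalk]
  have : Flat (Spec.map (X.presheaf.germ U x hxU)) := by
    rw [HasRingHomProperty.Spec_iff (P := @Flat)]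
    letI : Algebra Γ(X, U) (X.presheaf.stalk x) := (X.presheaf.germ U x hxU).hom.toAlgebra
    haveI := hU.isLocalization_stalk ⟨x, hxU⟩
    exact IsLocalization.flat (X.presheaf.stalk x) (hU.primeIdealOf ⟨x, hxU⟩).asIdeal.primeCompl
  infer_instance

/-- pushforward along a flat morphism preserves injective modules -/
theorem injective_pushforward_of_flat {X Y : Scheme.{u}} (f : X ⟶ Y) [Flat f] (I : X.Modules)
    [Injective I] : Injective ((Scheme.Modules.pushforward f).obj I) :=
  Injective.injective_of_adjoint (Scheme.Modules.pullbackPushforwardAdjunction f) I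

/-- **S11154**. -/
theorem main11154 {X : Scheme.{u}} [IsLocallyNoetherian X]
    (x : X) (E : Type u) [AddCommGroup E] [Module (X.presheaf.stalk x) E]
    (i : IsLocalRing.ResidueField (X.presheaf.stalk x) →ₗ[X.presheaf.stalk x] E)
    (hi : InjHull.IsInjectiveHull i) :
    Injective ((Scheme.Modules.pushforward (X.fromSpecStalk x)).obj
        (tilde (ModuleCat.of (X.presheaf.stalk x) E))) ∧
      Coh.IsQCoh ((Scheme.Modules.pushforward (X.fromSpecStalk x)).obj
        (tilde (ModuleCat.of (X.presheaf.stalk x) E))) := by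
  haveI : Flat (X.fromSpecStalk x) := flat_fromSpecStalk X x
  have hinj : Injective (tilde (ModuleCat.of (X.presheaf.stalk x) E)) := by
    refine injective_tilde_of_local (ModuleCat.of (X.presheaf.stalk x) E)
      (IsLocalRing.closedPoint (X.presheaf.stalk x)) ?_ ?_ hi.isInjective
    · intro s hs
      have hu : IsUnit s := by
        by_contra h
        exact hs ((IsLocalRing.mem_maximalIdeal s).mpr h)
      obtain ⟨u, rfl⟩ := hu
      exact MulAction.bijective u
    · intro g hg e
      obtain ⟨n, hn⟩ := Groth.Agent.S0311.result (X.presheaf.stalk x) E i hi e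
      exact ⟨n, hn _ (Ideal.pow_mem_pow hg n)⟩
  haveI := hinj
  refine ⟨injective_pushforward_of_flat (X.fromSpecStalk x) _, ?_⟩
  exact QcqsLoc.isQuasicoherent_pushforward_qcqs (X.fromSpecStalk x) _

end

end Groth.Agent.Lib.InjTildeH2
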