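import Mathlib
import Groth.Prelude
import Groth.Agent.Lib.InjTilde1_helper2
import Groth.Agent.Lib.InjSum1_helper8
import Groth.Agent.Lib.InjHullLoc_helper5
import Groth.Agent.Lib.InjHull4_helper3
import Groth.Agent.Lib.InjFlatBC_helper2
import Groth.Agent.S0307
import Groth.Agent.S0306

set_option autoImplicit false
universe u
open CategoryTheory CategoryTheory.Limits AlgebraicGeometry TopologicalSpace Opposite

namespace Groth.Agent.Lib.InjTildeH2

noncomputable section

variable {R : CommRingCat.{u}} [IsNoetherianRing R]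

theorem injective_tilde_of_indecomposable (E : Type u) [AddCommGroup E] [Module R E]
    (hE : InjHull.IsIndecomposable R E) (hinj : Module.Injective R E) :
    Injective (tilde (ModuleCat.of R E)) := by
  obtain ⟨p, hp, g, hg⟩ := Groth.Agent.S0306.result R E hE hinj
  haveI := hp
  let f : (R ⧸ p) →ₗ[R] E :=
    g ∘ₗ ((Algebra.linearMap (R ⧸ p) p.ResidueField).restrictScalars R)
  have hf : InjHull.IsInjectiveHull f :=
    ⟨Groth.Agent.Lib.InjFlatBC.essential_comp _ g
      (Groth.Agent.Lib.InjHull4_helper3.residueField_essential p) hg.toIsEssentialInj, hinj⟩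
  refine injective_tilde_of_local (ModuleCat.of R E) ⟨p, hp⟩ ?_ ?_ hinj
  · intro s hs
    have h0 : ∀ x : E, s • x = 0 → x = 0 := fun x hx =>
      Groth.Agent.InjHullLoc.eq_zero_of_smul_eq_zero R p f hf hs hx
    refine ⟨fun a b hab => ?_, fun b => ?_⟩
    · have := h0 (a - b) (by rw [smul_sub]; exact sub_eq_zero.mpr hab)
      exact sub_eq_zero.mp this
    · haveI := hinj
      exact Groth.Agent.InjHullLoc.exists_smul_eq_of_injective R s h0 b
  · intro t ht e
    exact Groth.Agent.InjHullLoc.exists_pow_smul_eq_zero R p f hf ht e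

/-- **Hartshorne RD II.7.14**: over a Noetherian ring, the sheaf associated with an injective
module is an injective `O`-module. -/
theorem injective_tilde (M : ModuleCat.{u} R) (hM : Module.Injective R M) :
    Injective (tilde M) := by
  classical
  obtain ⟨ι, E, hint, hE⟩ := Groth.Agent.S0307.result R M hM
  let Z : ι → ModuleCat.{u} R := fun i => ModuleCat.of R (E i)
  have hZ : ∀ i, Injective ((tilde.functor R).obj (Z i)) := fun i =>
    injective_tilde_of_indecomposable (E i) (hE i).1 (hE i).2
  have h1 : Injective (∐ fun i => (tilde.functor R).obj (Z i)) :=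
    Groth.Agent.Lib.InjSumH8.injective_sigma _ hZ
  have e1 : (tilde.functor R).obj (∐ Z) ≅ ∐ fun i => (tilde.functor R).obj (Z i) :=
    PreservesCoproduct.iso (tilde.functor R) Z
  have e2 : (∐ Z) ≅ M := (ModuleCat.coprodIsoDirectSum Z) ≪≫
    (LinearEquiv.ofBijective (DirectSum.coeLinearMap E) hint).toModuleIso
  exact Injective.of_iso (e1.symm ≪≫ (tilde.functor R).mapIso e2) h1

end

end Groth.Agent.Lib.InjTildeH2
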