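import Mathlib
import Groth.Prelude
import Groth.Agent.Lib.LocInj1_helper4
import Groth.Agent.Lib.QCohFP_helper9
import Groth.Agent.Lib.LpullQC_lead

/-!
# Stalks of injective `O_X`-modules on locally Noetherian schemes are injective (helper4)

* `injective_restrict_ι`, `injective_restrict_iso`, `injective_restrict_fromSpec` : restriction
  along open immersions preserves injective `O_X`-modules;
* `injective_sections` : for an injective `O_X`-module `I` and an affine open `U`, `Γ(I, U)` is
  an injective `Γ(X, U)`-module;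
* `baer_of_isLocalization`, `exists_smul_eq_of_baer` : commutative algebra;
* `exists_germ_smul_eq`, `stalk_injective` (S11155).

APPEND-ONLY once landed.
-/

set_option autoImplicit false
set_option linter.style.haveILetI false
universe u
open CategoryTheory Limits Opposite AlgebraicGeometry TopologicalSpace

namespace Groth.Agent.Lib.StalkInjH4
open ModSite Groth.Agent.Lib.ModSiteH8

variable {X : Scheme.{u}}

/-- restriction to an open subscheme preserves injective `O_X`-modules -/
theorem injective_restrict_ι (U : X.Opens) (I : X.Modules) [Injective I] :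
    Injective ((Scheme.Modules.restrictFunctor U.ι).obj I) := by
  rw [← Groth.Agent.Lib.LocInjH4.injective_restr_iff]
  haveI : @Injective (ModSite.Mod X.sheaf) _ I := ‹Injective I›
  exact (restr X.sheaf U).injective_obj I

/-- restriction along an isomorphism of schemes, as an equivalence of categories of modules -/
noncomputable def restrictEquivOfIso {Y Y' : Scheme.{u}} (e : Y ≅ Y') : Y.Modules ≌ Y'.Modules :=
  CategoryTheory.Equivalence.mk (Scheme.Modules.restrictFunctor e.inv) (Scheme.Modules.restrictFunctor e.hom)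
    (Scheme.Modules.restrictFunctorId.symm ≪≫
      Scheme.Modules.restrictFunctorCongr (e.hom_inv_id).symm ≪≫
      Scheme.Modules.restrictFunctorComp e.hom e.inv)
    ((Scheme.Modules.restrictFunctorComp e.inv e.hom).symm ≪≫
      Scheme.Modules.restrictFunctorCongr (e.inv_hom_id) ≪≫ Scheme.Modules.restrictFunctorId)

/-- restriction along an isomorphism preserves injectives -/
theorem injective_restrict_iso {Y Y' : Scheme.{u}} (e : Y ≅ Y') (I : Y.Modules) [Injective I] :
    Injective ((Scheme.Modules.restrictFunctor e.inv).obj I) :=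
  ((restrictEquivOfIso e).map_injective_iff I).2 inferInstance

/-- restriction to `Spec Γ(X, U)` for an affine open `U` preserves injectives -/
theorem injective_restrict_fromSpec {U : X.Opens} (hU : IsAffineOpen U) (I : X.Modules)
    [Injective I] : Injective ((Scheme.Modules.restrictFunctor hU.fromSpec).obj I) := by
  haveI := injective_restrict_ι U I
  haveI := injective_restrict_iso hU.isoSpec ((Scheme.Modules.restrictFunctor U.ι).obj I)
  have h : Injective ((Scheme.Modules.restrictFunctor U.ι ⋙
      Scheme.Modules.restrictFunctor hU.isoSpec.inv).obj I) := this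
  exact Injective.of_iso
    (((Scheme.Modules.restrictFunctorComp hU.isoSpec.inv U.ι).symm ≪≫
      Scheme.Modules.restrictFunctorCongr hU.isoSpec_inv_ι).app I) h

/-- global sections on an affine scheme preserve injectives -/
theorem injective_moduleSpecΓ (R : CommRingCat.{u}) (J : (Spec R).Modules) [Injective J] :
    Injective ((moduleSpecΓFunctor (R := R)).obj J) := by
  haveI : PreservesFiniteLimits (tilde.functor R) :=
    Groth.Agent.Lib.LpullQCL.preservesFiniteLimits_tilde R
  haveI : (tilde.functor R).PreservesMonomorphisms := inferInstance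
  exact (tilde.adjunction (R := R)).map_injective J inferInstance

/-- **Sections of an injective `O_X`-module over an affine open form an injective module.** -/
theorem injective_sections {U : X.Opens} (hU : IsAffineOpen U) (I : X.Modules) [Injective I] :
    Module.Injective Γ(X, U) Γ(I, U) := by
  haveI := injective_restrict_fromSpec hU I
  have h1 := injective_moduleSpecΓ Γ(X, U) ((Scheme.Modules.restrictFunctor hU.fromSpec).obj I)
  haveI : Injective (ModuleCat.of Γ(X, U) (QCohFP.secSpec hU I)) := h1
  haveI : Module.Injective Γ(X, U) (QCohFP.secSpec hU I) :=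
    Module.injective_module_of_injective_object _ _
  exact Module.Baer.injective (Module.Baer.of_equiv (QCohFP.secSpecEquiv hU I)
    (Module.Baer.of_injective inferInstance))


section Algebra

/-- Restriction of scalars along a localization preserves Baer modules. -/
theorem baer_of_isLocalization {B : Type u} [CommRing B] (S : Submonoid B) (B' : Type u)
    [CommRing B'] [Algebra B B'] [IsLocalization S B'] (N : Type u) [AddCommGroup N] [Module B N]
    [Module B' N] [IsScalarTower B B' N] (hN : Module.Baer B' N) : Module.Baer B N := by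
  intro 𝔟 g
  have := isLocalizedModule_id S N B'
  let ι := Submodule.toLocalized' B' S (Algebra.linearMap B B') 𝔟
  let g' := IsLocalizedModule.mapExtendScalars S ι (LinearMap.id : N →ₗ[B] N) B' g
  obtain ⟨h, hh⟩ := hN _ g'
  refine ⟨(h.restrictScalars B).comp (Algebra.linearMap B B'), fun x mem => ?_⟩
  have h1 : (Algebra.linearMap B B') x ∈
      Submodule.localized' B' S (Algebra.linearMap B B') 𝔟 := (ι ⟨x, mem⟩).2
  have h2 := hh _ h1
  have h3 : g' (ι ⟨x, mem⟩) = g ⟨x, mem⟩ := by
    simp only [g', IsLocalizedModule.mapExtendScalars_apply_apply, IsLocalizedModule.map_apply,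
      LinearMap.id_coe, id_eq]
  simp only [LinearMap.coe_comp, LinearMap.coe_restrictScalars, Function.comp_apply]
  rw [h2, ← h3]
  rfl

/-- Solving `β j • e = v j` in a Baer module, given that the `v j` satisfy the relations of
the `β j`. -/
theorem exists_smul_eq_of_baer {B N : Type u} [CommRing B] [AddCommGroup N] [Module B N]
    (hN : Module.Baer B N) {n : ℕ} (β : Fin n → B) (v : Fin n → N)
    (h : LinearMap.ker (Fintype.linearCombination B β) ≤
      LinearMap.ker (Fintype.linearCombination B v)) :
    ∃ e : N, ∀ j, β j • e = v j := by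
  let π : (Fin n → B) →ₗ[B] B := Fintype.linearCombination B β
  let ψ : (Fin n → B) →ₗ[B] N := Fintype.linearCombination B v
  let g : LinearMap.range π →ₗ[B] N :=
    ((LinearMap.ker π).liftQ ψ h).comp π.quotKerEquivRange.symm.toLinearMap
  obtain ⟨g', hg'⟩ := hN (LinearMap.range π) g
  refine ⟨g' 1, fun j => ?_⟩
  have h1 : π (Pi.single j 1) = β j := by
    simp [π, Fintype.linearCombination_apply_single]
  have h2 : β j ∈ LinearMap.range π := ⟨_, h1⟩
  have h3 : g ⟨β j, h2⟩ = v j := by
    have : (⟨β j, h2⟩ : LinearMap.range π) = ⟨π (Pi.single j 1), ⟨_, rfl⟩⟩ := by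
      ext; exact h1.symm
    rw [this]
    simp only [g, LinearMap.coe_comp, LinearEquiv.coe_coe, Function.comp_apply]
    rw [LinearMap.quotKerEquivRange_symm_apply_image]
    simp [ψ, Fintype.linearCombination_apply_single]
  rw [← h3, ← hg' _ h2, ← map_smul, smul_eq_mul, mul_one]

end Algebra


theorem mem_finset_inf {ι : Type*} (s : Finset ι) (W : ι → X.Opens) (x : X)
    (h : ∀ i ∈ s, x ∈ W i) : x ∈ s.inf W := by
  classical
  induction s using Finset.induction_on with
  | empty => simp
  | insert a s ha ih =>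
    rw [Finset.inf_insert]
    exact ⟨h a (Finset.mem_insert_self a s), ih fun i hi => h i (Finset.mem_insert_of_mem hi)⟩

/-- finitely many germs of a module are represented on a common open neighbourhood -/
theorem exists_sections_of_germs (I : X.Modules) (x : X) (V : X.Opens) (hx : x ∈ V) {n : ℕ}
    (t : Fin n → I.presheaf.stalk x) :
    ∃ (W : X.Opens) (hxW : x ∈ W) (_ : W ≤ V) (τ : Fin n → Γ(I, W)),
      ∀ j, I.presheaf.germ W x hxW (τ j) = t j := by
  choose U hU s hs using fun j => TopCat.Presheaf.exists_germ_eq I.presheaf (t j)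
  refine ⟨V ⊓ Finset.univ.inf U, ⟨hx, mem_finset_inf _ _ _ fun j _ => hU j⟩, inf_le_left,
    fun j => I.presheaf.map (homOfLE (inf_le_right.trans (Finset.inf_le (Finset.mem_univ j)))).op
      (s j), fun j => ?_⟩
  rw [TopCat.Presheaf.germ_res_apply]
  exact hs j

/-- finitely many sections with zero germ vanish on a common open neighbourhood -/
theorem exists_open_eq_zero (I : X.Modules) (x : X) (W : X.Opens) (hx : x ∈ W) {m : ℕ}
    (σ : Fin m → Γ(I, W)) (hσ : ∀ k, I.presheaf.germ W x hx (σ k) = 0) :
    ∃ (W' : X.Opens) (_ : x ∈ W') (hW' : W' ≤ W),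
      ∀ k, I.presheaf.map (homOfLE hW').op (σ k) = 0 := by
  have h0 : ∀ k, I.presheaf.germ W x hx (σ k) = I.presheaf.germ W x hx 0 := fun k => by
    rw [hσ k, map_zero]
  choose U hU i1 i2 hs using fun k => TopCat.Presheaf.germ_eq I.presheaf x hx hx (σ k) 0 (h0 k)
  refine ⟨Finset.univ.inf U ⊓ W, ⟨mem_finset_inf _ _ _ fun k _ => hU k, hx⟩, inf_le_right,
    fun k => ?_⟩
  have h1 : (homOfLE (inf_le_right : Finset.univ.inf U ⊓ W ≤ W)) =
      (homOfLE (inf_le_left.trans (Finset.inf_le (Finset.mem_univ k)) :
        Finset.univ.inf U ⊓ W ≤ U k)) ≫ i1 k := rfl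
  rw [h1, op_comp, Functor.map_comp, ConcreteCategory.comp_apply, hs k, map_zero, map_zero]


/-- The key local step: on an affine open `V ∋ x` with Noetherian ring of sections, finitely
many elements `β j` of `Γ(X, V)` and germs `t j` of `I` at `x` satisfying the relations of the
`β j` (after passing to germs) admit a common "quotient" germ `s` with `β j • s = t j`. -/
theorem exists_germ_smul_eq (I : X.Modules) [Injective I] {V : X.Opens} (hV : IsAffineOpen V)
    [IsNoetherianRing Γ(X, V)] (x : X) (hx : x ∈ V) {n : ℕ} (β : Fin n → Γ(X, V))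
    (t : Fin n → I.presheaf.stalk x)
    (ht : ∀ c : Fin n → Γ(X, V), ∑ j, c j * β j = 0 →
      ∑ j, (X.presheaf.germ V x hx (c j)) • t j = 0) :
    ∃ s : I.presheaf.stalk x, ∀ j, (X.presheaf.germ V x hx (β j)) • s = t j := by
  classical
  -- relations
  obtain ⟨m, r, hr⟩ := Submodule.fg_iff_exists_fin_generating_family.mp
    (IsNoetherian.noetherian (LinearMap.ker (Fintype.linearCombination Γ(X, V) β)))
  -- represent the germs
  obtain ⟨W, hxW, hWV, τ, hτ⟩ := exists_sections_of_germs I x V hx t
  let σ : Fin m → Γ(I, W) := fun k => ∑ j, (X.presheaf.map (homOfLE hWV).op (r k j)) • τ j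
  have hσ : ∀ k, I.presheaf.germ W x hxW (σ k) = 0 := by
    intro k
    have hk : r k ∈ LinearMap.ker (Fintype.linearCombination Γ(X, V) β) := by
      rw [← hr]; exact Submodule.subset_span ⟨k, rfl⟩
    have hk' : ∑ j, r k j * β j = 0 := by
      simpa [Fintype.linearCombination_apply, smul_eq_mul] using hk
    have := ht (r k) hk'
    simp only [σ, map_sum]
    rw [← this]
    refine Finset.sum_congr rfl fun j _ => ?_
    rw [Mero.germ_smul, hτ j, TopCat.Presheaf.germ_res_apply]
  obtain ⟨W', hxW', hW'W, hσ0⟩ := exists_open_eq_zero I x W hxW σ hσ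
  obtain ⟨f, hfW', hxf⟩ := hV.exists_basicOpen_le ⟨x, hxW'⟩ hx
  have hDW : X.basicOpen f ≤ W := hfW'.trans hW'W
  letI : Module Γ(X, V) Γ(I, X.basicOpen f) :=
    Module.compHom Γ(I, X.basicOpen f) (algebraMap Γ(X, V) Γ(X, X.basicOpen f))
  haveI : IsScalarTower Γ(X, V) Γ(X, X.basicOpen f) Γ(I, X.basicOpen f) :=
    IsScalarTower.of_compHom _ _ _
  haveI := injective_sections (hV.basicOpen f) I
  have hN' : Module.Baer Γ(X, X.basicOpen f) Γ(I, X.basicOpen f) :=
    Module.Baer.of_injective inferInstance
  haveI := hV.isLocalization_basicOpen f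
  have hN : Module.Baer Γ(X, V) Γ(I, X.basicOpen f) :=
    baer_of_isLocalization (Submonoid.powers f) Γ(X, X.basicOpen f) _ hN'
  let v : Fin n → Γ(I, X.basicOpen f) := fun j => I.presheaf.map (homOfLE hDW).op (τ j)
  have hsmul : ∀ (b : Γ(X, V)) (y : Γ(I, X.basicOpen f)),
      b • y = (X.presheaf.map (homOfLE (X.basicOpen_le f)).op b) • y := fun _ _ => rfl
  have hker : LinearMap.ker (Fintype.linearCombination Γ(X, V) β) ≤
      LinearMap.ker (Fintype.linearCombination Γ(X, V) v) := by
    rw [← hr, Submodule.span_le]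
    rintro _ ⟨k, rfl⟩
    rw [SetLike.mem_coe, LinearMap.mem_ker, Fintype.linearCombination_apply]
    have h1 : I.presheaf.map (homOfLE hDW).op (σ k) = 0 := by
      have : (homOfLE hDW) = (homOfLE hfW') ≫ (homOfLE hW'W) := rfl
      rw [this, op_comp, Functor.map_comp, ConcreteCategory.comp_apply, hσ0 k, map_zero]
    rw [← h1]
    simp only [σ, map_sum]
    refine Finset.sum_congr rfl fun j _ => ?_
    rw [Scheme.Modules.map_smul, hsmul]
    congr 1
    rw [← ConcreteCategory.comp_apply, ← Functor.map_comp]
    rfl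
  obtain ⟨e, he⟩ := exists_smul_eq_of_baer hN β v hker
  refine ⟨I.presheaf.germ (X.basicOpen f) x hxf e, fun j => ?_⟩
  rw [← hτ j, ← TopCat.Presheaf.germ_res_apply I.presheaf (homOfLE hDW) x hxf (τ j)]
  change _ = I.presheaf.germ (X.basicOpen f) x hxf (v j)
  rw [← he j, hsmul, Mero.germ_smul, TopCat.Presheaf.germ_res_apply]

/-- **Stalks of an injective `O_X`-module on a locally Noetherian scheme are injective.** -/
theorem stalk_injective [IsLocallyNoetherian X] (I : X.Modules) [Injective I] (x : X) :
    Module.Injective (X.presheaf.stalk x) (I.presheaf.stalk x) := by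
  classical
  apply Module.Baer.injective
  intro 𝔞 φ
  obtain ⟨_, ⟨V, hV : IsAffineOpen V, rfl⟩, hxV, -⟩ :=
    (X.isBasis_affineOpens).exists_subset_of_mem_open (Set.mem_univ x) isOpen_univ
  have hx : x ∈ V := hxV
  letI : Algebra Γ(X, V) (X.presheaf.stalk x) := X.presheaf.algebra_section_stalk ⟨x, hx⟩
  haveI : IsNoetherianRing Γ(X, V) := IsLocallyNoetherian.component_noetherian ⟨V, hV⟩
  haveI : IsLocalization.AtPrime (X.presheaf.stalk x) (hV.primeIdealOf ⟨x, hx⟩).asIdeal :=
    hV.isLocalization_stalk ⟨x, hx⟩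
  have halg : ∀ b : Γ(X, V), algebraMap Γ(X, V) (X.presheaf.stalk x) b =
      X.presheaf.germ V x hx b := fun _ => rfl
  have h𝔟 : Ideal.map (algebraMap Γ(X, V) (X.presheaf.stalk x)) (𝔞.under Γ(X, V)) = 𝔞 :=
    IsLocalization.map_under (hV.primeIdealOf ⟨x, hx⟩).asIdeal.primeCompl _ 𝔞
  obtain ⟨n, β, hβ⟩ := Submodule.fg_iff_exists_fin_generating_family.mp
    (IsNoetherian.noetherian (𝔞.under Γ(X, V)))
  have hβmem : ∀ j, X.presheaf.germ V x hx (β j) ∈ 𝔞 := by
    intro j
    have : β j ∈ 𝔞.under Γ(X, V) := by
      rw [← hβ]; exact Submodule.subset_span ⟨j, rfl⟩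
    exact this
  let t : Fin n → I.presheaf.stalk x := fun j => φ ⟨X.presheaf.germ V x hx (β j), hβmem j⟩
  have ht : ∀ c : Fin n → Γ(X, V), ∑ j, c j * β j = 0 →
      ∑ j, (X.presheaf.germ V x hx (c j)) • t j = 0 := by
    intro c hc
    have h1 : ∑ j, (X.presheaf.germ V x hx (c j)) • t j =
        φ (∑ j, (X.presheaf.germ V x hx (c j)) •
          (⟨X.presheaf.germ V x hx (β j), hβmem j⟩ : 𝔞)) := by
      simp only [t, map_sum, map_smul]
    rw [h1]
    have h2 : (∑ j, (X.presheaf.germ V x hx (c j)) •
        (⟨X.presheaf.germ V x hx (β j), hβmem j⟩ : 𝔞)) = 0 := by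
      apply Subtype.ext
      rw [Submodule.coe_sum]
      simp only [Submodule.coe_smul, smul_eq_mul, Submodule.coe_zero]
      rw [← map_zero (X.presheaf.germ V x hx).hom, ← hc, map_sum]
      simp only [map_mul]
    rw [h2, map_zero]
  obtain ⟨s, hs⟩ := exists_germ_smul_eq I hV x hx β t ht
  refine ⟨LinearMap.toSpanSingleton _ _ s, fun a ha => ?_⟩
  rw [LinearMap.toSpanSingleton_apply]
  have hspan : Submodule.span (X.presheaf.stalk x)
      ((algebraMap Γ(X, V) (X.presheaf.stalk x)) '' (Set.range β)) = 𝔞 := by
    have h1 : Ideal.span (Set.range β) = 𝔞.under Γ(X, V) := hβ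
    change Ideal.span _ = _
    rw [← Ideal.map_span, h1, h𝔟]
  have ha' : a ∈ Submodule.span (X.presheaf.stalk x)
      ((algebraMap Γ(X, V) (X.presheaf.stalk x)) '' (Set.range β)) := by
    rw [hspan]; exact ha
  have key : ∀ (a : X.presheaf.stalk x) (_ : a ∈ Submodule.span (X.presheaf.stalk x)
      ((algebraMap Γ(X, V) (X.presheaf.stalk x)) '' (Set.range β))),
      ∀ ha : a ∈ 𝔞, a • s = φ ⟨a, ha⟩ := by
    intro a hmem
    induction hmem using Submodule.span_induction with
    | mem y hy =>
      obtain ⟨_, ⟨j, rfl⟩, rfl⟩ := hy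
      intro ha
      exact hs j
    | zero =>
      intro ha
      rw [zero_smul]
      exact (map_zero φ).symm
    | add y z hy' hz' hy hz =>
      intro ha
      have hy'' : y ∈ 𝔞 := hspan ▸ hy'
      have hz'' : z ∈ 𝔞 := hspan ▸ hz'
      rw [add_smul, hy hy'', hz hz'', ← map_add]
      rfl
    | smul c y hy' hy =>
      intro ha
      have hy'' : y ∈ 𝔞 := hspan ▸ hy'
      have h1 : (c • y) • s = c • (y • s) := by rw [smul_eq_mul, mul_smul]
      rw [h1, hy hy'', ← map_smul]
      rfl
  exact key a ha' ha

end Groth.Agent.Lib.StalkInjH4
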