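import Mathlib
import Groth.Prelude
import Groth.Agent.Lib.InjTilde2_helper2
import Groth.Agent.Lib.StalkInj1_helper4
import Groth.Agent.Lib.StalkLoc_helper8
import Groth.Agent.Lib.QCohFP_helper9

set_option autoImplicit false
universe u
open CategoryTheory CategoryTheory.Limits AlgebraicGeometry TopologicalSpace Opposite

namespace Groth.Agent.Lib.InjTildeH2

noncomputable section

/-- transfer of injectivity between two models of a localization -/
theorem injective_localization_transfer {A : Type u} [CommRing A] (T : Submonoid A)
    {S S' : Type u} [CommRing S] [CommRing S'] [Algebra A S] [Algebra A S']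
    [IsLocalization T S] [IsLocalization T S']
    {M N N' : Type u} [AddCommGroup M] [Module A M] [AddCommGroup N] [Module A N] [Module S N]
    [IsScalarTower A S N] [AddCommGroup N'] [Module A N'] [Module S' N'] [IsScalarTower A S' N']
    (g : M →ₗ[A] N) [IsLocalizedModule T g] (g' : M →ₗ[A] N') [IsLocalizedModule T g']
    (h : Module.Injective S N) : Module.Injective S' N' := by
  have h1 : Module.Baer A N :=
    Groth.Agent.Lib.StalkInjH4.baer_of_isLocalization T S N (Module.Baer.of_injective h)
  have h2 : Module.Baer A N' := Module.Baer.of_equiv (IsLocalizedModule.linearEquiv T g g') h1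
  haveI : Module.Injective A N' := Module.Baer.injective h2
  haveI : Algebra.IsEpi A S' := isEpi_of_isLocalization T
  exact Groth.Agent.S8926.result A S' N'

variable {X : Scheme.{u}}

/-- if the module of sections over an affine open is injective, the restriction to that open
is an injective sheaf of modules -/
theorem injective_restrict_of_injective_sections [IsLocallyNoetherian X] (F : X.Modules)
    [F.IsQuasicoherent] {U : X.Opens} (hU : IsAffineOpen U)
    (h : Module.Injective Γ(X, U) Γ(F, U)) :
    Injective ((Scheme.Modules.restrictFunctor U.ι).obj F) := by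
  haveI : IsNoetherianRing Γ(X, U) := IsLocallyNoetherian.component_noetherian ⟨U, hU⟩
  have h1 : Module.Injective Γ(X, U) (QCohFP.secSpec hU F) :=
    Module.Baer.injective (Module.Baer.of_equiv (QCohFP.secSpecEquiv hU F).symm
      (Module.Baer.of_injective h))
  have h2 : Injective (tilde (QCohFP.secSpec hU F)) := injective_tilde _ h1
  haveI : (F.restrict hU.fromSpec).IsQuasicoherent := inferInstance
  haveI : IsIso (F.restrict hU.fromSpec).fromTildeΓ :=
    Scheme.Modules.isIso_fromTildeΓ_of_isQuasicoherent _
  haveI h3 : Injective (F.restrict hU.fromSpec) :=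
    Injective.of_iso (asIso (F.restrict hU.fromSpec).fromTildeΓ) h2
  have h4 := Groth.Agent.Lib.StalkInjH4.injective_restrict_iso hU.isoSpec.symm
    (F.restrict hU.fromSpec)
  have h5 : Injective ((Scheme.Modules.restrictFunctor hU.fromSpec ⋙
      Scheme.Modules.restrictFunctor hU.isoSpec.hom).obj F) := h4
  exact Injective.of_iso
    (((Scheme.Modules.restrictFunctorComp hU.isoSpec.hom hU.fromSpec).symm ≪≫
      Scheme.Modules.restrictFunctorCongr hU.isoSpec_hom_fromSpec).app F) h5

theorem injective_sections_of_stalks [IsLocallyNoetherian X] (F : X.Modules)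
    [F.IsQuasicoherent] {U : X.Opens} (hU : IsAffineOpen U)
    (h : ∀ x : X, x ∈ U → Module.Injective (X.presheaf.stalk x) (F.presheaf.stalk x)) :
    Module.Injective Γ(X, U) Γ(F, U) := by
  haveI : IsNoetherianRing Γ(X, U) := IsLocallyNoetherian.component_noetherian ⟨U, hU⟩
  refine Groth.Agent.Lib.InjFlatBC.injective_of_localization Γ(X, U) ⊥ Γ(F, U) ?_ ?_
  · intro t ht
    rw [Submonoid.mem_bot] at ht
    subst ht
    exact ⟨fun a b hab => by simpa using hab, fun b => ⟨b, by simp⟩⟩
  · intro 𝔮 h𝔮 _
    let y : PrimeSpectrum Γ(X, U) := ⟨𝔮, h𝔮⟩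
    let x : U := hU.isoSpec.inv y
    have hxy : hU.primeIdealOf x = y := by
      show hU.isoSpec.hom (hU.isoSpec.inv y) = y
      rw [← Scheme.Hom.comp_apply, Iso.inv_hom_id]
      rfl
    letI := StalkLocH8.modSec F x.2
    letI : Algebra Γ(X, U) (X.presheaf.stalk x.1) :=
      TopCat.Presheaf.algebra_section_stalk X.presheaf x
    haveI : IsLocalization.AtPrime (X.presheaf.stalk x.1) 𝔮 := by
      have := hU.isLocalization_stalk x
      rw [hxy] at this
      exact this
    haveI : IsLocalizedModule 𝔮.primeCompl (StalkLocH8.germLin F x.2) := by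
      have := StalkLocH8.isLocalizedModule_germLin F hU x.2
      rw [show hU.primeIdealOf ⟨x.1, x.2⟩ = y from hxy] at this
      exact this
    haveI : IsScalarTower Γ(X, U) (X.presheaf.stalk x.1) (F.presheaf.stalk x.1) :=
      IsScalarTower.of_algebraMap_smul fun _ _ => rfl
    exact injective_localization_transfer 𝔮.primeCompl (StalkLocH8.germLin F x.2)
      (LocalizedModule.mkLinearMap 𝔮.primeCompl Γ(F, U)) (h x.1 x.2)

/-- **S7768** -/
theorem main7768 [IsLocallyNoetherian X] (F : X.Modules) (hF : Coh.IsQCoh F) :
    Injective F ↔ ∀ x : X, Module.Injective (X.presheaf.stalk x) (F.presheaf.stalk x) := by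
  haveI : F.IsQuasicoherent := hF
  constructor
  · intro h x
    haveI := h
    exact Groth.Agent.Lib.StalkInjH4.stalk_injective F x
  · intro h
    apply Groth.Agent.Lib.LocInjH4.injective_of_locally_injective
    intro x
    obtain ⟨U, hU, hxU, -⟩ :=
      exists_isAffineOpen_mem_and_subset (X := X) (x := x) (U := ⊤) trivial
    exact ⟨U, hxU, injective_restrict_of_injective_sections F hU
      (injective_sections_of_stalks F hU (fun y _ => h y))⟩

end

end Groth.Agent.Lib.InjTildeH2
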