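import Mathlib
import Groth.Prelude
import Groth.Prelude.Def_DCoh2
import Groth.Agent.Lib.InjTilde3_helper2
import Groth.Agent.Lib.InjHull_helper3
import Groth.Agent.Lib.StalkInj1_helper4
import Groth.Agent.Lib.LocInj1_helper4
import Groth.Agent.Lib.StalkInj_helper6
import Groth.Agent.Lib.SubExt_helper9
import Groth.Agent.Lib.QcqsLoc_helper9
import Groth.Agent.Lib.QCohExact_helper9
import Groth.Agent.Lib.QCohExtn_helper9

/-!
# `Γ_Z` of a quasi-coherent injective module on a Noetherian scheme is injective (helper2)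

APPEND-ONLY once landed.
-/

set_option autoImplicit false
universe u
open CategoryTheory CategoryTheory.Limits AlgebraicGeometry TopologicalSpace Opposite
open QcqsLoc QCohExtn

namespace Groth.Agent.Lib.LocCohInjH2

noncomputable section

open Groth.Agent.Lib.InjHull_helper3 in
/-- membership in the power torsion submodule of a finitely generated ideal can be tested on
generators -/
theorem mem_Γ_span_iff {A : Type u} [CommRing A] {M : Type u} [AddCommGroup M] [Module A M]
    (S : Set A) (hfg : (Ideal.span S).FG) (m : M) :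
    m ∈ Γ (Ideal.span S) M ↔ ∀ f ∈ S, ∃ n : ℕ, f ^ n • m = 0 := by
  rw [mem_Γ_iff]
  constructor
  · rintro ⟨n, hn⟩ f hf
    exact ⟨n, hn _ (Ideal.pow_mem_pow (Ideal.subset_span hf) n)⟩
  · intro h
    let J : Ideal A := LinearMap.ker (LinearMap.toSpanSingleton A M m)
    have hJ : ∀ a : A, a ∈ J ↔ a • m = 0 := fun a => by
      simp only [J, LinearMap.mem_ker, LinearMap.toSpanSingleton_apply]
    have hle : Ideal.span S ≤ J.radical := by
      rw [Ideal.span_le]
      intro f hf
      obtain ⟨n, hn⟩ := h f hf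
      exact ⟨n, (hJ _).2 hn⟩
    obtain ⟨n, hn⟩ := Ideal.exists_pow_le_of_le_radical_of_fg hle hfg
    exact ⟨n, fun a ha => (hJ a).1 (hn ha)⟩

variable {X : Scheme.{u}}

/-- the ideal of functions on `V` whose nonvanishing locus lies in `W` -/
def idealOf (V W : X.Opens) : Ideal Γ(X, V) := Ideal.span {f | X.basicOpen f ≤ W}

/-- a section over an affine open `V` vanishes on `W ≤ V` iff it is killed by a power of the
ideal of functions whose nonvanishing locus lies in `W` -/
theorem res_eq_zero_iff_mem_Γ [IsLocallyNoetherian X] (F : X.Modules) [F.IsQuasicoherent]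
    {V W : X.Opens} (hV : IsAffineOpen V) (hWV : W ≤ V) (m : Γ(F, V)) :
    rF F hWV m = 0 ↔ m ∈ Groth.Agent.Lib.InjHull_helper3.Γ (idealOf V W) Γ(F, V) := by
  haveI : IsNoetherianRing Γ(X, V) := IsLocallyNoetherian.component_noetherian ⟨V, hV⟩
  have hfg : (Ideal.span {f : Γ(X, V) | X.basicOpen f ≤ W}).FG :=
    (isNoetherianRing_iff_ideal_fg _).1 inferInstance _
  rw [idealOf, mem_Γ_span_iff _ hfg]
  constructor
  · intro h f hf
    have hfV : X.basicOpen f ≤ V := X.basicOpen_le f
    refine ker_of_isCompact F f hV.isCompact (homOfLE hfV) rfl m ?_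
    have h2 : rF F hf (rF F hWV m) = 0 := by rw [h, map_zero]
    rw [rF_rF] at h2
    exact h2
  · intro h
    apply eq_zero_of_cover
    intro x hx
    obtain ⟨f, hf1, hf2⟩ := hV.exists_basicOpen_le ⟨x, hx⟩ (hWV hx)
    refine ⟨X.basicOpen f, hf1, hf2, ?_⟩
    rw [rF_rF]
    obtain ⟨n, hn⟩ := h f hf1
    have h3 := congrArg (rF F (X.basicOpen_le f)) hn
    rw [rF_pow_smul, map_zero] at h3
    have hu : IsUnit (rX (X.basicOpen_le f) f) := RingedSpace.isUnit_res_basicOpen _ f
    have hu' : IsUnit (rX (X.basicOpen_le f) f ^ n) := hu.pow n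
    obtain ⟨c, hc⟩ := hu'.exists_left_inv
    have h4 := congrArg (fun t => c • t) h3
    simp only [smul_smul, hc, one_smul, smul_zero] at h4
    exact h4

/-- sections over an affine open of the kernel of `F ⟶ j_* j^* F` form an injective module when
`F` is quasi-coherent and injective -/
theorem injective_sections_gammaZ [IsLocallyNoetherian X] {U : Scheme.{u}} (j : U ⟶ X)
    [IsOpenImmersion j] (I : X.Modules) [I.IsQuasicoherent] [Injective I] {V : X.Opens}
    (hV : IsAffineOpen V) :
    Module.Injective Γ(X, V) Γ(kernel ((Scheme.Modules.restrictAdjunction j).unit.app I), V) := by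
  haveI : IsNoetherianRing Γ(X, V) := IsLocallyNoetherian.component_noetherian ⟨V, hV⟩
  set η := (Scheme.Modules.restrictAdjunction j).unit.app I with hη
  have hW : j ''ᵁ j ⁻¹ᵁ V ≤ V := j.image_preimage_le V
  have hM : Module.Injective Γ(X, V) Γ(I, V) := Groth.Agent.Lib.StalkInjH4.injective_sections hV I
  have hΓ := Groth.Agent.Lib.InjHull_helper3.injective_Γ hM (idealOf V (j ''ᵁ j ⁻¹ᵁ V))
  -- the inclusion of sections of the kernel
  let ι := Groth.Agent.Lib.StalkInjH6.apLin (kernel.ι η) V
  have hinj : Function.Injective ι := QCohExact.app_injective_of_mono (kernel.ι η) V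
  have hηapp : ∀ m : Γ(I, V), η.app V m = rF I hW m := fun m => rfl
  have hmem : ∀ k : Γ(kernel η, V),
      ι k ∈ Groth.Agent.Lib.InjHull_helper3.Γ (idealOf V (j ''ᵁ j ⁻¹ᵁ V)) Γ(I, V) := by
    intro k
    rw [← res_eq_zero_iff_mem_Γ I hV hW, ← hηapp]
    have h1 : (kernel.ι η ≫ η).app V k = 0 := by
      rw [kernel.condition]; rfl
    exact h1
  have hsurj : ∀ m : Γ(I, V),
      m ∈ Groth.Agent.Lib.InjHull_helper3.Γ (idealOf V (j ''ᵁ j ⁻¹ᵁ V)) Γ(I, V) →
        ∃ k, ι k = m := by
    intro m hm
    rw [← res_eq_zero_iff_mem_Γ I hV hW, ← hηapp] at hm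
    let E : ShortComplex X.Modules := ShortComplex.mk (kernel.ι η) η (kernel.condition η)
    have hE : E.Exact := ShortComplex.exact_kernel η
    haveI : Mono E.f := by dsimp [E]; infer_instance
    exact QCohExact.app_exact E hE V m hm
  let e : Γ(kernel η, V) ≃ₗ[Γ(X, V)]
      ↥(Groth.Agent.Lib.InjHull_helper3.Γ (idealOf V (j ''ᵁ j ⁻¹ᵁ V)) Γ(I, V)) :=
    LinearEquiv.ofBijective (ι.codRestrict _ hmem)
      ⟨fun a b hab => hinj (congrArg Subtype.val hab),
        fun ⟨m, hm⟩ => by
          obtain ⟨k, hk⟩ := hsurj m hm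
          exact ⟨k, Subtype.ext hk⟩⟩
  exact Module.Baer.injective (Module.Baer.of_equiv e.symm (Module.Baer.of_injective hΓ))

/-- **S17641**: on a Noetherian scheme, `Γ_Z` of a quasi-coherent injective module is
injective. -/
theorem injective_gammaZ {U : Scheme.{u}} [IsNoetherian X] (j : U ⟶ X) [IsOpenImmersion j]
    (I : X.Modules) [I.IsQuasicoherent] [Injective I] :
    Injective ((DCoh.gammaZ j).obj I) := by
  haveI : NoetherianSpace U := j.isOpenEmbedding.isInducing.noetherianSpace
  haveI : QuasiCompact j := inferInstance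
  haveI h1 : ((Scheme.Modules.restrictFunctor j).obj I).IsQuasicoherent := inferInstance
  haveI h2 : ((Scheme.Modules.pushforward j).obj
      ((Scheme.Modules.restrictFunctor j).obj I)).IsQuasicoherent :=
    isQuasicoherent_pushforward_qcqs j _
  haveI h3 : ((𝟭 X.Modules).obj I).IsQuasicoherent := ‹I.IsQuasicoherent›
  haveI h4 : ((Scheme.Modules.restrictFunctor j ⋙ Scheme.Modules.pushforward j).obj
      I).IsQuasicoherent := h2
  haveI hK : (kernel ((Scheme.Modules.restrictAdjunction j).unit.app I)).IsQuasicoherent :=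
    SubExt.isQuasicoherent_kernel _
  change Injective (kernel ((Scheme.Modules.restrictAdjunction j).unit.app I))
  apply Groth.Agent.Lib.LocInjH4.injective_of_locally_injective
  intro x
  obtain ⟨_, ⟨V, hV : IsAffineOpen V, rfl⟩, hxV, -⟩ :=
    (X.isBasis_affineOpens).exists_subset_of_mem_open (Set.mem_univ x) isOpen_univ
  exact ⟨V, hxV, Groth.Agent.Lib.InjTildeH2.injective_restrict_of_injective_sections _ hV
    (injective_sections_gammaZ j I hV)⟩

end

end Groth.Agent.Lib.LocCohInjH2
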