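import Mathlib
import Groth.Prelude.Def_Coh
import Groth.Agent.Lib.QcqsLoc_helper9
import Groth.Agent.Lib.QCohExtn_helper9
import Groth.Agent.Lib.QCohExact_helper9
import Groth.Agent.Lib.SubExt_helper9

/-!
# Submodule sheaves of an `O_X`-module from families of submodules of sections (helper2)

`SubFam P`: a family of submodules `S O ≤ Γ(P, O)` stable under restriction and local.
`SubFam.obj`, `SubFam.ι : T.obj ⟶ P` (a monomorphism), `SubFam.mem_range_ι`.
APPEND-ONLY once landed.
-/

set_option autoImplicit false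
universe u
open CategoryTheory CategoryTheory.Limits AlgebraicGeometry TopologicalSpace Opposite
open QcqsLoc QCohExtn

namespace Groth.Agent.Lib.SubFamH2

noncomputable section

variable {X : Scheme.{u}}

/-- a family of submodules of the sections of `P`, stable under restriction and local -/
structure SubFam (P : X.Modules) where
  S : ∀ O : X.Opens, Submodule Γ(X, O) Γ(P, O)
  res : ∀ {O' O : X.Opens} (h : O' ≤ O) (s : Γ(P, O)), s ∈ S O → rF P h s ∈ S O'
  loc : ∀ (O : X.Opens) (s : Γ(P, O)),
    (∀ x ∈ O, ∃ (O' : X.Opens) (h : O' ≤ O), x ∈ O' ∧ rF P h s ∈ S O') → s ∈ S O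

namespace SubFam

variable {P : X.Modules} (T : SubFam P)

theorem res_map {O O' : X.Opens} (g : O' ⟶ O) (s : Γ(P, O)) (hs : s ∈ T.S O) :
    (P.presheaf.map g.op).hom s ∈ T.S O' := by
  have h1 : g = homOfLE (leOfHom g) := Subsingleton.elim _ _
  rw [h1]
  exact T.res (leOfHom g) s hs

/-- membership is insensitive to replacing the open by an equal one -/
theorem mem_iff_of_le_of_ge {O O' : X.Opens} (h : O' ≤ O) (h' : O ≤ O') (s : Γ(P, O)) :
    rF P h s ∈ T.S O' ↔ s ∈ T.S O := by
  constructor
  · intro hs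
    apply T.loc
    intro x hx
    exact ⟨O', h, h' hx, hs⟩
  · exact T.res h s

/-- the underlying presheaf of abelian groups -/
noncomputable def pre : (Opens X)ᵒᵖ ⥤ Ab.{u} where
  obj W := AddCommGrpCat.of (T.S W.unop)
  map {W W'} g := AddCommGrpCat.ofHom
    { toFun := fun s => ⟨(P.presheaf.map g).hom s.1, T.res_map g.unop s.1 s.2⟩
      map_zero' := Subtype.ext (map_zero _)
      map_add' := fun a b => Subtype.ext (map_add _ _ _) }
  map_id W := by
    ext s
    change (P.presheaf.map (𝟙 W)).hom s.1 = s.1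
    rw [P.presheaf.map_id]
    rfl
  map_comp g h := by
    ext s
    change (P.presheaf.map (g ≫ h)).hom s.1 = (P.presheaf.map h).hom ((P.presheaf.map g).hom s.1)
    rw [P.presheaf.map_comp]
    rfl

theorem pre_map_apply {W W' : (Opens X)ᵒᵖ} (g : W ⟶ W') (s : T.S W.unop) :
    ((pre T).map g s : T.S W'.unop) = ⟨(P.presheaf.map g).hom s.1, T.res_map g.unop s.1 s.2⟩ :=
  rfl

noncomputable instance pre.instModule (W : (Opens X)ᵒᵖ) :
    Module (X.ringCatSheaf.obj.obj W) ((pre T).obj W) :=
  inferInstanceAs (Module Γ(X, W.unop) (T.S W.unop))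

theorem pre_map_smul ⦃W W' : (Opens X)ᵒᵖ⦄ (g : W ⟶ W') (r : X.ringCatSheaf.obj.obj W)
    (m : (pre T).obj W) :
    (pre T).map g (r • m) = X.ringCatSheaf.obj.map g r • (pre T).map g m :=
  Subtype.ext (P.val.map_smul g r (show T.S W.unop from m).1)

/-- the family as a subfunctor of the underlying presheaf of types -/
def subfunctor : Subfunctor (P.val.presheaf ⋙ forget Ab.{u}) where
  obj W := {s | s ∈ T.S W.unop}
  map g _ hs := T.res_map g.unop _ hs

/-- comparison of underlying presheaves of types -/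
noncomputable def preIso : pre T ⋙ forget Ab.{u} ≅ (subfunctor T).toFunctor :=
  NatIso.ofComponents (fun W => Equiv.toIso
    { toFun := fun s => ⟨s.1, s.2⟩
      invFun := fun s => ⟨s.1, s.2⟩
      left_inv := fun _ => rfl
      right_inv := fun _ => rfl }) (fun _ => rfl)

theorem isSheaf_pre : Presheaf.IsSheaf (Opens.grothendieckTopology X) (pre T) := by
  have hM0 : Presheaf.IsSheaf (Opens.grothendieckTopology X) P.val.presheaf := P.isSheaf
  have hM1 : Presheaf.IsSheaf (Opens.grothendieckTopology X) (P.val.presheaf ⋙ forget Ab.{u}) :=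
    (Presheaf.isSheaf_iff_isSheaf_forget (Opens.grothendieckTopology X) P.val.presheaf
      (forget Ab.{u})).1 hM0
  have hM : Presieve.IsSheaf (Opens.grothendieckTopology X) (P.val.presheaf ⋙ forget Ab.{u}) :=
    (isSheaf_iff_isSheaf_of_type (Opens.grothendieckTopology X) _).1 hM1
  rw [Presheaf.isSheaf_iff_isSheaf_forget (Opens.grothendieckTopology X) (pre T) (forget Ab.{u}),
    isSheaf_iff_isSheaf_of_type]
  refine Presieve.isSheaf_iso (Opens.grothendieckTopology X) (preIso T).symm
    (((subfunctor T).isSheaf_iff hM).2 ?_)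
  intro W s hs
  apply T.loc
  intro x hx
  obtain ⟨O', g, hg, hxO'⟩ := hs x hx
  exact ⟨O', leOfHom g, hxO', by
    have h1 : g = homOfLE (leOfHom g) := Subsingleton.elim _ _
    rw [h1] at hg
    exact hg⟩

/-- the submodule sheaf -/
noncomputable def obj : X.Modules :=
  (⟨PresheafOfModules.ofPresheaf (pre T) (pre_map_smul T), isSheaf_pre T⟩ :
    SheafOfModules.{u} X.ringCatSheaf)

/-- the inclusion of the submodule sheaf -/
noncomputable def ι : T.obj ⟶ P :=
  (⟨PresheafOfModules.homMk (M₁ := PresheafOfModules.ofPresheaf (pre T) (pre_map_smul T))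
    (M₂ := P.val)
    { app := fun W => AddCommGrpCat.ofHom (T.S W.unop).subtype.toAddMonoidHom
      naturality := fun _ _ g => by ext s; rfl }
    (fun _ r s => rfl)⟩ : SheafOfModules.Hom (R := X.ringCatSheaf) T.obj P)

/-- sections of the submodule sheaf are elements of the submodules -/
def toSub (O : X.Opens) (z : Γ(T.obj, O)) : T.S O := z

theorem ap_ι (O : X.Opens) (z : Γ(T.obj, O)) : ap T.ι O z = (T.toSub O z).1 := rfl

theorem ι_mem (O : X.Opens) (z : Γ(T.obj, O)) : ap T.ι O z ∈ T.S O := (T.toSub O z).2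

theorem ι_injective (O : X.Opens) : Function.Injective (ap T.ι O) :=
  fun _ _ h => Subtype.ext h

theorem mem_range_ι {O : X.Opens} (s : Γ(P, O)) : (∃ z, ap T.ι O z = s) ↔ s ∈ T.S O := by
  constructor
  · rintro ⟨z, rfl⟩
    exact T.ι_mem O z
  · intro hs
    exact ⟨(⟨s, hs⟩ : T.S O), rfl⟩

/-- a morphism injective on all sections is a monomorphism -/
theorem mono_of_app_injective {M N : X.Modules} (f : M ⟶ N)
    (h : ∀ W : X.Opens, Function.Injective (ap f W)) : Mono f := by
  haveI : Mono ((Scheme.Modules.toPresheaf X).map f) := by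
    haveI : ∀ W, Mono (((Scheme.Modules.toPresheaf X).map f).app W) := fun W =>
      (AddCommGrpCat.mono_iff_injective _).2 (h W.unop)
    exact NatTrans.mono_of_mono_app _
  exact (Scheme.Modules.toPresheaf X).mono_of_mono_map this

instance mono_ι : Mono T.ι := mono_of_app_injective T.ι (fun O => T.ι_injective O)

/-- the full family -/
def top (P : X.Modules) : SubFam P where
  S _ := ⊤
  res _ _ _ := trivial
  loc _ _ _ := trivial

/-- intersection of two families -/
def inf (T T' : SubFam P) : SubFam P where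
  S O := T.S O ⊓ T'.S O
  res h s hs := ⟨T.res h s hs.1, T'.res h s hs.2⟩
  loc O s hs := by
    refine ⟨T.loc O s (fun x hx => ?_), T'.loc O s (fun x hx => ?_)⟩
    · obtain ⟨O', h, hx', h'⟩ := hs x hx
      exact ⟨O', h, hx', h'.1⟩
    · obtain ⟨O', h, hx', h'⟩ := hs x hx
      exact ⟨O', h, hx', h'.2⟩

/-- intersection of a set of families -/
def sInf' (c : Set (SubFam P)) : SubFam P where
  S O := ⨅ a ∈ c, (a : SubFam P).S O
  res h s hs := by
    simp only [Submodule.mem_iInf] at hs ⊢
    exact fun a ha => a.res h s (hs a ha)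
  loc O s hs := by
    simp only [Submodule.mem_iInf] at hs ⊢
    intro a ha
    apply a.loc
    intro x hx
    obtain ⟨O', h, hx', h'⟩ := hs x hx
    exact ⟨O', h, hx', h' a ha⟩

theorem mem_sInf' (c : Set (SubFam P)) {O : X.Opens} (s : Γ(P, O)) :
    s ∈ (sInf' c).S O ↔ ∀ a ∈ c, s ∈ (a : SubFam P).S O := by
  simp only [sInf', Submodule.mem_iInf]

/-- the kernel family of a morphism -/
def ker {Q : X.Modules} (φ : P ⟶ Q) : SubFam P where
  S O :=
    { carrier := {s | ap φ O s = 0}
      zero_mem' := map_zero _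
      add_mem' := fun {a b} ha hb => by
        show ap φ O (a + b) = 0
        rw [map_add, ha, hb, add_zero]
      smul_mem' := fun r a ha => by
        show ap φ O (r • a) = 0
        rw [ap_smul, ha, smul_zero] }
  res h s hs := by
    show ap φ _ (rF P h s) = 0
    rw [ap_rF, hs, map_zero]
  loc O s hs := by
    show ap φ O s = 0
    apply eq_zero_of_cover
    intro x hx
    obtain ⟨O', h, hx', h'⟩ := hs x hx
    refine ⟨O', h, hx', ?_⟩
    rw [← ap_rF]
    exact h'

theorem mem_ker {Q : X.Modules} (φ : P ⟶ Q) {O : X.Opens} (s : Γ(P, O)) :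
    s ∈ (ker φ).S O ↔ ap φ O s = 0 := Iff.rfl

/-- the family of sections in the image of a monomorphism -/
def ofMono {A : X.Modules} (i : A ⟶ P) [Mono i] : SubFam P where
  S O :=
    { carrier := {s | ∃ z, ap i O z = s}
      zero_mem' := ⟨0, map_zero _⟩
      add_mem' := by
        rintro _ _ ⟨z, rfl⟩ ⟨z', rfl⟩
        exact ⟨z + z', map_add _ _ _⟩
      smul_mem' := by
        rintro r _ ⟨z, rfl⟩
        exact ⟨r • z, ap_smul i r z⟩ }
  res h s := by
    rintro ⟨z, rfl⟩
    exact ⟨rF A h z, ap_rF i h z⟩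
  loc O s hs := SubExt.mem_range_of_locally i s (fun x hx => by
    obtain ⟨O', h, hx', z, hz⟩ := hs x hx
    exact ⟨O', h, hx', z, hz⟩)

theorem mem_ofMono {A : X.Modules} (i : A ⟶ P) [Mono i] {O : X.Opens} (s : Γ(P, O)) :
    s ∈ (ofMono i).S O ↔ ∃ z, ap i O z = s := Iff.rfl

end SubFam

end

end Groth.Agent.Lib.SubFamH2
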