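import Mathlib
import Groth.Prelude.Def_Coh
import Groth.Agent.Lib.SubFam1_helper2
import Groth.Agent.Lib.QCohCrit_helper9

/-!
# Quasi-coherent families of submodules of sections (helper2)

* `SubFam.QC`: the family is quasi-coherent (sections over basic opens extend after multiplying by a
  power); `SubFam.isQuasicoherent_obj`.
* `SubFam.qc_of_satOn`: a `V`-saturated family which is quasi-coherent near the points of `V` is
  quasi-coherent (locally Noetherian schemes).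
* `SubFam.genSat N`: the `W`-saturated family generated over `W` by a submodule `N ≤ Γ(P, W)`.
APPEND-ONLY once landed.
-/

set_option autoImplicit false
universe u
open CategoryTheory CategoryTheory.Limits AlgebraicGeometry TopologicalSpace Opposite
open QcqsLoc QCohExtn

namespace Groth.Agent.Lib.SubFamH2

noncomputable section

variable {X : Scheme.{u}}

section QCohFacts

variable (P : X.Modules) [P.IsQuasicoherent] {W : X.Opens} (hW : IsAffineOpen W)

include hW in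
theorem surjP (a : Γ(X, W)) (t : Γ(P, X.basicOpen a)) :
    ∃ (n : ℕ) (p : Γ(P, W)),
      rF P (X.basicOpen_le a) p = rX (X.basicOpen_le a) a ^ n • t := by
  obtain ⟨n, p, hp⟩ := (QCohCrit.locOnU_of_isQuasicoherent P hW a).surj t
  exact ⟨n, p, hp.symm⟩

include hW in
theorem kerP (a : Γ(X, W)) (m : Γ(P, W)) (h : rF P (X.basicOpen_le a) m = 0) :
    ∃ n : ℕ, a ^ n • m = 0 :=
  (QCohCrit.locOnU_of_isQuasicoherent P hW a).ker m h

end QCohFacts

theorem isCompact_inf_of_affine [IsLocallyNoetherian X] {W : X.Opens} (hW : IsAffineOpen W)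
    (V : X.Opens) : IsCompact ((W ⊓ V : X.Opens) : Set X) := by
  haveI : IsNoetherianRing Γ(X, W) := IsLocallyNoetherian.component_noetherian ⟨W, hW⟩
  have hNS := noetherianSpace_of_isAffineOpen W hW
  have h1 := @NoetherianSpace.isCompact _ _ hNS (Subtype.val ⁻¹' (V : Set X))
  have h2 := h1.image continuous_subtype_val
  refine (congrArg IsCompact ?_).mpr h2
  ext x
  constructor
  · rintro ⟨hxW, hxV⟩
    exact ⟨⟨x, hxW⟩, hxV, rfl⟩
  · rintro ⟨⟨y, hyW⟩, hyV, rfl⟩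
    exact ⟨hyW, hyV⟩

namespace SubFam

variable {P : X.Modules} (T : SubFam P)

/-- sections of the family over basic opens of `W` extend to `W` after multiplication by a power -/
def SurjOn (W : X.Opens) : Prop :=
  ∀ (a : Γ(X, W)) (t : Γ(P, X.basicOpen a)), t ∈ T.S (X.basicOpen a) →
    ∃ (n : ℕ) (s : Γ(P, W)), s ∈ T.S W ∧
      rF P (X.basicOpen_le a) s = rX (X.basicOpen_le a) a ^ n • t

/-- the family is quasi-coherent -/
def QC : Prop := ∀ W : X.Opens, IsAffineOpen W → T.SurjOn W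

/-- the family is determined by its restriction to `V` -/
def SatOn (V : X.Opens) : Prop :=
  ∀ (O : X.Opens) (s : Γ(P, O)), rF P (inf_le_left : O ⊓ V ≤ O) s ∈ T.S (O ⊓ V) → s ∈ T.S O

theorem top_qc [P.IsQuasicoherent] : (top P).QC := by
  intro W hW a t _
  obtain ⟨n, p, hp⟩ := surjP P hW a t
  exact ⟨n, p, trivial, hp⟩

theorem top_satOn (V : X.Opens) : (top P).SatOn V := fun _ _ _ => trivial

theorem isQuasicoherent_obj [P.IsQuasicoherent] (h : T.QC) : T.obj.IsQuasicoherent := by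
  apply QCohCrit.isQuasicoherent_of_locOnU
  intro U a
  have hl : X.basicOpen a ≤ U.1 := X.basicOpen_le a
  refine ⟨U.2.isLocalization_basicOpen a, fun x m => Scheme.Modules.map_smul _ _ x m, ?_, ?_⟩
  · intro m'
    obtain ⟨n, s, hs, hres⟩ := h U.1 U.2 a (ap T.ι _ m') (T.ι_mem _ m')
    obtain ⟨z, hz⟩ := (T.mem_range_ι s).2 hs
    refine ⟨n, z, ?_⟩
    apply T.ι_injective
    show ap T.ι _ (rX hl a ^ n • m') = ap T.ι _ (rF T.obj hl z)
    rw [ap_smul, ap_rF, hz, hres]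
  · intro m hm
    have hm' : rF T.obj hl m = 0 := hm
    have h1 : rF P hl (ap T.ι U.1 m) = 0 := by rw [← ap_rF, hm', map_zero]
    obtain ⟨n, hn⟩ := kerP P U.2 a _ h1
    refine ⟨n, T.ι_injective _ ?_⟩
    rw [ap_smul, hn, map_zero]

theorem inf_qc [P.IsQuasicoherent] {T T' : SubFam P} (h : T.QC) (h' : T'.QC) : (T.inf T').QC := by
  intro W hW a t ht
  have hl : X.basicOpen a ≤ W := X.basicOpen_le a
  obtain ⟨n, s, hs, h1⟩ := h W hW a t ht.1
  obtain ⟨n', s', hs', h1'⟩ := h' W hW a t ht.2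
  have h0 : rF P hl (a ^ n' • s - a ^ n • s') = 0 := by
    rw [map_sub, rF_pow_smul, rF_pow_smul, h1, h1', smul_smul, smul_smul, mul_comm, sub_self]
  obtain ⟨l, hl'⟩ := kerP P hW a _ h0
  rw [smul_sub, sub_eq_zero] at hl'
  refine ⟨l + n' + n, a ^ l • a ^ n' • s, ⟨?_, ?_⟩, ?_⟩
  · exact (T.S W).smul_mem _ ((T.S W).smul_mem _ hs)
  · rw [hl']
    exact (T'.S W).smul_mem _ ((T'.S W).smul_mem _ hs')
  · rw [rF_pow_smul, rF_pow_smul, h1, smul_smul, smul_smul, ← pow_add, ← pow_add]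

theorem ker_qc {Q : X.Modules} [P.IsQuasicoherent] [Q.IsQuasicoherent] (φ : P ⟶ Q) :
    (ker φ).QC := by
  intro W hW a t ht
  have hl : X.basicOpen a ≤ W := X.basicOpen_le a
  have ht' : ap φ _ t = 0 := ht
  obtain ⟨n, p, hp⟩ := surjP P hW a t
  have h0 : rF Q hl (ap φ W p) = 0 := by
    rw [← ap_rF, hp, ap_smul, ht', smul_zero]
  obtain ⟨l, hl'⟩ := kerP Q hW a _ h0
  refine ⟨l + n, a ^ l • p, ?_, ?_⟩
  · show ap φ W (a ^ l • p) = 0
    rw [ap_smul, hl']
  · rw [rF_pow_smul, hp, smul_smul, ← pow_add]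

/-- a `V`-saturated family which is quasi-coherent near the points of `V` is quasi-coherent -/
theorem qc_of_satOn [IsLocallyNoetherian X] [P.IsQuasicoherent] (V : X.Opens) (hsat : T.SatOn V)
    (hB : ∀ (W : X.Opens), IsAffineOpen W → ∀ x ∈ W ⊓ V, ∃ g : Γ(X, W),
      x ∈ X.basicOpen g ∧ X.basicOpen g ≤ V ∧ T.SurjOn (X.basicOpen g)) : T.QC := by
  classical
  intro W hW a t ht
  have hl : X.basicOpen a ≤ W := X.basicOpen_le a
  obtain ⟨n₁, p, hp⟩ := surjP P hW a t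
  have key : ∀ x : {x : X // x ∈ W ⊓ V}, ∃ g : Γ(X, W), x.1 ∈ X.basicOpen g ∧ X.basicOpen g ≤ V ∧
      ∃ k : ℕ, ∀ k' ≥ k, rF P (X.basicOpen_le g) (a ^ k' • p) ∈ T.S (X.basicOpen g) := by
    rintro ⟨x, hx⟩
    obtain ⟨g, hxg, hgV, hS⟩ := hB W hW x hx
    refine ⟨g, hxg, hgV, ?_⟩
    have hg : X.basicOpen g ≤ W := X.basicOpen_le g
    have hOaff : IsAffineOpen (X.basicOpen g) := hW.basicOpen g
    set a' : Γ(X, X.basicOpen g) := rX hg a with ha'
    have hl' : X.basicOpen a' ≤ X.basicOpen g := X.basicOpen_le a'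
    have hD : X.basicOpen a' ≤ X.basicOpen a := by
      rw [ha', basicOpen_rX]
      exact inf_le_right
    set p' : Γ(P, X.basicOpen g) := rF P hg p with hp'
    have h1 : rF P hl' p' = rX hl' a' ^ n₁ • rF P hD t := by
      have e1 : rX hl' a' = rX (hl'.trans hg) a := rX_rX hl' hg a
      have e2 : rF P hl' p' = rF P hD (rF P hl p) := by
        rw [rF_rF]
        exact (rF_rF P hD hl p).symm
      rw [e2, hp, rF_pow_smul, rX_rX, e1]
    have h2 : rF P hl' p' ∈ T.S (X.basicOpen a') := by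
      rw [h1]
      exact (T.S _).smul_mem _ (T.res hD t ht)
    obtain ⟨n₂, s, hs, h3⟩ := hS a' _ h2
    have h0 : rF P hl' (s - a' ^ n₂ • p') = 0 := by
      rw [map_sub, rF_pow_smul, h3, sub_self]
    obtain ⟨n₃, hn₃⟩ := kerP P hOaff a' _ h0
    rw [smul_sub, sub_eq_zero] at hn₃
    refine ⟨n₃ + n₂, fun k' hk' => ?_⟩
    obtain ⟨d, rfl⟩ := Nat.exists_eq_add_of_le hk'
    have h4 : rF P hg (a ^ (n₃ + n₂ + d) • p) = a' ^ d • a' ^ n₃ • s := by
      have e3 : rF P hg (a ^ (n₃ + n₂ + d) • p) = a' ^ (n₃ + n₂ + d) • p' :=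
        rF_pow_smul P hg a _ p
      rw [e3, hn₃, smul_smul, smul_smul, ← pow_add, ← pow_add]
      congr 2
      omega
    rw [h4]
    exact (T.S _).smul_mem _ ((T.S _).smul_mem _ hs)
  choose g hxg hgV k hk using key
  have hc := isCompact_inf_of_affine hW V
  obtain ⟨t', ht'⟩ := hc.elim_finite_subcover
    (fun x : {x : X // x ∈ W ⊓ V} => ((X.basicOpen (g x) : X.Opens) : Set X))
    (fun x => (X.basicOpen (g x)).2)
    (fun x hx => Set.mem_iUnion.mpr ⟨⟨x, hx⟩, hxg ⟨x, hx⟩⟩)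
  let K : ℕ := t'.sup k
  have hmem : a ^ K • p ∈ T.S W := by
    apply hsat
    apply T.loc
    intro x hx
    obtain ⟨q, hq, hxq⟩ := Set.mem_iUnion₂.mp (ht' hx)
    have hle : X.basicOpen (g q) ≤ W ⊓ V := le_inf (X.basicOpen_le _) (hgV q)
    refine ⟨X.basicOpen (g q), hle, hxq, ?_⟩
    rw [rF_rF]
    exact hk q K (Finset.le_sup hq)
  refine ⟨K + n₁, a ^ K • p, hmem, ?_⟩
  rw [rF_pow_smul, hp, smul_smul, ← pow_add]

section Gen

variable {W : X.Opens} (N : Submodule Γ(X, W) Γ(P, W))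

/-- span of the restrictions of the elements of `N` -/
def spanRes {O : X.Opens} (hO : O ≤ W) : Submodule Γ(X, O) Γ(P, O) :=
  Submodule.span Γ(X, O) ((fun n : Γ(P, W) => rF P hO n) '' (N : Set Γ(P, W)))

variable {N}

theorem mem_spanRes_of_mem {O : X.Opens} (hO : O ≤ W) {n : Γ(P, W)} (hn : n ∈ N) :
    rF P hO n ∈ spanRes N hO :=
  Submodule.subset_span ⟨n, hn, rfl⟩

theorem spanRes_res {O O' : X.Opens} {hO : O ≤ W} (hO' : O' ≤ O) {s : Γ(P, O)}
    (hs : s ∈ spanRes N hO) : rF P hO' s ∈ spanRes N (hO'.trans hO) := by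
  unfold spanRes at hs ⊢
  induction hs using Submodule.span_induction with
  | mem x hx =>
    obtain ⟨n, hn, rfl⟩ := hx
    refine Submodule.subset_span ⟨n, hn, ?_⟩
    exact (rF_rF P hO' hO n).symm
  | zero => rw [map_zero]; exact Submodule.zero_mem _
  | add x y _ _ hx hy => rw [map_add]; exact Submodule.add_mem _ hx hy
  | smul c x _ hx => rw [rF_smul]; exact Submodule.smul_mem _ _ hx

/-- over a basic open of the affine `W`, an element of the span is, up to a power of the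
function, the restriction of an element of `N` -/
theorem exists_pow_smul_of_mem_spanRes (hW : IsAffineOpen W) (f : Γ(X, W))
    {s : Γ(P, X.basicOpen f)} (hs : s ∈ spanRes N (X.basicOpen_le f)) :
    ∃ (k : ℕ) (n : Γ(P, W)), n ∈ N ∧
      rX (X.basicOpen_le f) f ^ k • s = rF P (X.basicOpen_le f) n := by
  have hf : X.basicOpen f ≤ W := X.basicOpen_le f
  unfold spanRes at hs
  induction hs using Submodule.span_induction with
  | mem x hx =>
    obtain ⟨n, hn, rfl⟩ := hx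
    exact ⟨0, n, hn, by rw [pow_zero, one_smul]⟩
  | zero => exact ⟨0, 0, N.zero_mem, by rw [smul_zero, map_zero]⟩
  | add x y _ _ hx hy =>
    obtain ⟨k₁, n₁, hn₁, e₁⟩ := hx
    obtain ⟨k₂, n₂, hn₂, e₂⟩ := hy
    refine ⟨k₁ + k₂, f ^ k₂ • n₁ + f ^ k₁ • n₂,
      N.add_mem (N.smul_mem _ hn₁) (N.smul_mem _ hn₂), ?_⟩
    rw [map_add, rF_pow_smul, rF_pow_smul, ← e₁, ← e₂, smul_add, smul_smul, smul_smul,
      ← pow_add, ← pow_add, add_comm k₂ k₁]
  | smul c x _ hx =>
    obtain ⟨k, n, hn, e⟩ := hx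
    letI := (rX hf).toAlgebra
    haveI : IsLocalization.Away f Γ(X, X.basicOpen f) := hW.isLocalization_basicOpen f
    obtain ⟨j, a, ha⟩ := IsLocalization.Away.surj f c
    have ha' : c * rX hf f ^ j = rX hf a := ha
    refine ⟨j + k, a • n, N.smul_mem _ hn, ?_⟩
    rw [rF_smul, ← e, ← ha', smul_smul, smul_smul, pow_add]
    congr 1
    ring

variable (N)

/-- the `W`-saturated family generated over `W` by `N` -/
def genSat : SubFam P where
  S O :=
    { carrier := {s | ∀ x ∈ O, x ∈ W → ∃ (O' : X.Opens) (h : O' ≤ O) (hW' : O' ≤ W),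
        x ∈ O' ∧ rF P h s ∈ spanRes N hW'}
      zero_mem' := fun x hx hxW =>
        ⟨O ⊓ W, inf_le_left, inf_le_right, ⟨hx, hxW⟩, by rw [map_zero]; exact zero_mem _⟩
      add_mem' := by
        intro s s' hs hs' x hx hxW
        obtain ⟨O₁, h₁, hW₁, hx₁, m₁⟩ := hs x hx hxW
        obtain ⟨O₂, h₂, hW₂, hx₂, m₂⟩ := hs' x hx hxW
        refine ⟨O₁ ⊓ O₂, inf_le_left.trans h₁, inf_le_left.trans hW₁, ⟨hx₁, hx₂⟩, ?_⟩
        rw [map_add]
        refine add_mem ?_ ?_
        · have := spanRes_res (inf_le_left : O₁ ⊓ O₂ ≤ O₁) m₁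
          rwa [rF_rF] at this
        · have := spanRes_res (inf_le_right : O₁ ⊓ O₂ ≤ O₂) m₂
          rwa [rF_rF] at this
      smul_mem' := by
        intro r s hs x hx hxW
        obtain ⟨O₁, h₁, hW₁, hx₁, m₁⟩ := hs x hx hxW
        refine ⟨O₁, h₁, hW₁, hx₁, ?_⟩
        rw [rF_smul]
        exact Submodule.smul_mem _ _ m₁ }
  res := by
    intro O' O h s hs x hx hxW
    obtain ⟨O₁, h₁, hW₁, hx₁, m₁⟩ := hs x (h hx) hxW
    refine ⟨O₁ ⊓ O', inf_le_right, inf_le_left.trans hW₁, ⟨hx₁, hx⟩, ?_⟩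
    rw [rF_rF]
    have := spanRes_res (inf_le_left : O₁ ⊓ O' ≤ O₁) m₁
    rwa [rF_rF] at this
  loc := by
    intro O s hs x hx hxW
    obtain ⟨O₀, h₀, hx₀, m₀⟩ := hs x hx
    obtain ⟨O₁, h₁, hW₁, hx₁, m₁⟩ := m₀ x hx₀ hxW
    refine ⟨O₁, h₁.trans h₀, hW₁, hx₁, ?_⟩
    rwa [rF_rF] at m₁

theorem mem_genSat {O : X.Opens} (s : Γ(P, O)) :
    s ∈ (genSat N).S O ↔ ∀ x ∈ O, x ∈ W → ∃ (O' : X.Opens) (h : O' ≤ O) (hW' : O' ≤ W),
      x ∈ O' ∧ rF P h s ∈ spanRes N hW' := Iff.rfl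

theorem genSat_satOn : (genSat N).SatOn W := by
  intro O s hs x hx hxW
  obtain ⟨O₁, h₁, hW₁, hx₁, m₁⟩ := hs x ⟨hx, hxW⟩ hxW
  refine ⟨O₁, h₁.trans inf_le_left, hW₁, hx₁, ?_⟩
  rwa [rF_rF] at m₁

variable {N}

theorem mem_genSat_of_mem_spanRes {O : X.Opens} (hO : O ≤ W) {s : Γ(P, O)}
    (hs : s ∈ spanRes N hO) : s ∈ (genSat N).S O := by
  intro x hx _
  refine ⟨O, le_rfl, hO, hx, ?_⟩
  rw [SubExt.rF_self]
  exact hs

theorem mem_genSat_of_mem {n : Γ(P, W)} (hn : n ∈ N) : n ∈ (genSat N).S W := by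
  apply mem_genSat_of_mem_spanRes le_rfl
  have := mem_spanRes_of_mem (le_refl W) hn
  rwa [SubExt.rF_self] at this

/-- local form of the sections of `genSat` on basic opens of the affine `W` -/
theorem genSat_local (hW : IsAffineOpen W) {O : X.Opens} {s : Γ(P, O)}
    (hs : s ∈ (genSat N).S O) (x : X) (hx : x ∈ O) (hxW : x ∈ W) :
    ∃ f : Γ(X, W), x ∈ X.basicOpen f ∧ ∃ hf : X.basicOpen f ≤ O, ∃ (k : ℕ) (n : Γ(P, W)),
      n ∈ N ∧ rX (X.basicOpen_le f) f ^ k • rF P hf s = rF P (X.basicOpen_le f) n := by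
  obtain ⟨O₁, h₁, hW₁, hx₁, m₁⟩ := hs x hx hxW
  obtain ⟨f, hf1, hf2⟩ := hW.exists_basicOpen_le ⟨x, hx₁⟩ hxW
  refine ⟨f, hf2, hf1.trans h₁, ?_⟩
  have h2 := spanRes_res hf1 m₁
  rw [rF_rF] at h2
  exact exists_pow_smul_of_mem_spanRes hW f h2

/-- sections of `genSat` over a basic open of the affine `W` are, up to a power of the function,
restrictions of elements of `N` (partition of unity) -/
theorem genSat_basicOpen [P.IsQuasicoherent] (hW : IsAffineOpen W) (g : Γ(X, W))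
    {t : Γ(P, X.basicOpen g)} (ht : t ∈ (genSat N).S (X.basicOpen g)) :
    ∃ (k : ℕ) (n : Γ(P, W)), n ∈ N ∧
      rX (X.basicOpen_le g) g ^ k • t = rF P (X.basicOpen_le g) n := by
  have hg : X.basicOpen g ≤ W := X.basicOpen_le g
  obtain ⟨m, e, he⟩ := surjP P hW g t
  let 𝔟 : Ideal Γ(X, W) :=
    { carrier := {a | ∃ l : ℕ, (g ^ l * a) • e ∈ N}
      zero_mem' := ⟨0, by rw [mul_zero, zero_smul]; exact N.zero_mem⟩
      add_mem' := by
        rintro a a' ⟨l, hl⟩ ⟨l', hl'⟩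
        refine ⟨l + l', ?_⟩
        have h1 : (g ^ (l + l') * (a + a')) • e =
            g ^ l' • ((g ^ l * a) • e) + g ^ l • ((g ^ l' * a') • e) := by
          rw [smul_smul, smul_smul, ← add_smul]
          congr 1
          ring
        rw [h1]
        exact N.add_mem (N.smul_mem _ hl) (N.smul_mem _ hl')
      smul_mem' := by
        rintro c a ⟨l, hl⟩
        refine ⟨l, ?_⟩
        have h1 : (g ^ l * (c • a)) • e = c • ((g ^ l * a) • e) := by
          rw [smul_smul, smul_eq_mul]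
          congr 1
          ring
        rw [h1]
        exact N.smul_mem _ hl }
  have h𝔟 : ∀ x ∈ X.basicOpen g, ∃ a ∈ 𝔟, x ∈ X.basicOpen a := by
    intro x hx
    obtain ⟨f, hxf, hf, k, n, hn, hfk⟩ := genSat_local hW ht x hx (hg hx)
    have hfW : X.basicOpen f ≤ W := X.basicOpen_le f
    have h0 : rF P hfW (f ^ k • e - g ^ m • n) = 0 := by
      have e1 : rF P hfW e = rX hfW g ^ m • rF P hf t := by
        rw [← rF_rF P hf hg e, he, rF_pow_smul, rX_rX]
      rw [map_sub, rF_pow_smul, rF_pow_smul, e1, ← hfk, smul_smul, smul_smul, mul_comm,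
        sub_self]
    obtain ⟨l, hl⟩ := kerP P hW f _ h0
    rw [smul_sub, sub_eq_zero] at hl
    refine ⟨f ^ (l + k + 1), ⟨0, ?_⟩, ?_⟩
    · have h1 : (g ^ 0 * f ^ (l + k + 1)) • e = f • (f ^ l • g ^ m • n) := by
        rw [← hl, smul_smul, smul_smul, pow_zero, one_mul]
        congr 1
        ring
      rw [h1]
      exact N.smul_mem _ (N.smul_mem _ (N.smul_mem _ hn))
    · rw [Scheme.basicOpen_pow _ _ (Nat.succ_pos _)]
      exact hxf
  have hr : ∃ r : ℕ, g ^ r ∈ 𝔟 := by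
    have hcov : X.basicOpen g ≤ ⨆ a : ((rX hg) '' (𝔟 : Set Γ(X, W)) : Set Γ(X, X.basicOpen g)),
        X.basicOpen a.1 := by
      intro x hx
      obtain ⟨a, ha, hxa⟩ := h𝔟 x hx
      refine Opens.mem_iSup.2 ⟨⟨rX hg a, a, ha, rfl⟩, ?_⟩
      rw [basicOpen_rX]
      exact ⟨hx, hxa⟩
    have hspan := ((hW.basicOpen g).self_le_iSup_basicOpen_iff).1 hcov
    letI := (rX hg).toAlgebra
    haveI : IsLocalization.Away g Γ(X, X.basicOpen g) := hW.isLocalization_basicOpen g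
    have hmap : Ideal.map (algebraMap Γ(X, W) Γ(X, X.basicOpen g)) 𝔟 = ⊤ := hspan
    have hnd : ¬ Disjoint ((Submonoid.powers g : Submonoid Γ(X, W)) : Set Γ(X, W))
        (𝔟 : Set Γ(X, W)) := by
      intro hd
      exact ((IsLocalization.map_algebraMap_ne_top_iff_disjoint (Submonoid.powers g)
        Γ(X, X.basicOpen g) 𝔟).2 hd) hmap
    obtain ⟨y, ⟨r, rfl⟩, hy⟩ := Set.not_disjoint_iff.1 hnd
    exact ⟨r, hy⟩
  obtain ⟨r, l, hl⟩ := hr
  refine ⟨l + r + m, (g ^ l * g ^ r) • e, hl, ?_⟩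
  rw [rF_smul, he, map_mul, map_pow, map_pow, smul_smul, ← pow_add, ← pow_add]

/-- flexible form of `genSat_basicOpen` -/
theorem genSat_basicOpen' [P.IsQuasicoherent] (hW : IsAffineOpen W) (g : Γ(X, W))
    {O : X.Opens} (e : O = X.basicOpen g) (hO : O ≤ W) {t : Γ(P, O)}
    (ht : t ∈ (genSat N).S O) :
    ∃ (k : ℕ) (n : Γ(P, W)), n ∈ N ∧ rX hO g ^ k • t = rF P hO n := by
  subst e
  exact genSat_basicOpen hW g ht

theorem genSat_surjOn_basicOpen [P.IsQuasicoherent] (hW : IsAffineOpen W) (g : Γ(X, W)) :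
    (genSat N).SurjOn (X.basicOpen g) := by
  intro b t ht
  have hg : X.basicOpen g ≤ W := X.basicOpen_le g
  have hb : X.basicOpen b ≤ X.basicOpen g := X.basicOpen_le b
  letI := (rX hg).toAlgebra
  haveI : IsLocalization.Away g Γ(X, X.basicOpen g) := hW.isLocalization_basicOpen g
  obtain ⟨j, x, hx⟩ := IsLocalization.Away.surj g b
  have hx' : b * rX hg g ^ j = rX hg x := hx
  have hu : IsUnit (rX hg g) := RingedSpace.isUnit_res_basicOpen _ g
  obtain ⟨u, hu'⟩ := hu.exists_left_inv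
  -- `f' = g * x` has the same basic open as `b`
  have hD : X.basicOpen b = X.basicOpen (g * x) := by
    have h1 : X.basicOpen (rX hg x) = X.basicOpen g ⊓ X.basicOpen x := basicOpen_rX hg x
    have h2 : X.basicOpen (b * rX hg g ^ j) = X.basicOpen b := by
      rw [Scheme.basicOpen_mul, Scheme.basicOpen_of_isUnit _ (hu.pow j)]
      exact inf_eq_left.mpr hb
    rw [Scheme.basicOpen_mul, ← h1, ← hx', h2]
  obtain ⟨k, n, hn, hk⟩ := genSat_basicOpen' hW (g * x) hD (hb.trans hg) ht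
  have hf' : rX hg (g * x) = rX hg g ^ (j + 1) * b := by
    rw [map_mul, ← hx']
    ring
  refine ⟨k, u ^ ((j + 1) * k) • rF P hg n, ?_, ?_⟩
  · apply (genSat N).S _ |>.smul_mem
    exact mem_genSat_of_mem_spanRes hg (mem_spanRes_of_mem hg hn)
  · have e1 : rX (hb.trans hg) (g * x) = rX hb (rX hg g ^ (j + 1) * b) := by
      rw [← hf', rX_rX]
    have h3 : u ^ ((j + 1) * k) * rX hg g ^ ((j + 1) * k) = 1 := by
      rw [← mul_pow, hu', one_pow]
    have h4 : u ^ ((j + 1) * k) * (rX hg g ^ (j + 1) * b) ^ k = b ^ k := by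
      calc u ^ ((j + 1) * k) * (rX hg g ^ (j + 1) * b) ^ k
          = (u ^ ((j + 1) * k) * rX hg g ^ ((j + 1) * k)) * b ^ k := by
            rw [mul_pow, ← pow_mul]
            ring
        _ = b ^ k := by rw [h3, one_mul]
    have key : rX hb (u ^ ((j + 1) * k)) * rX hb (rX hg g ^ (j + 1) * b) ^ k = rX hb b ^ k := by
      rw [← map_pow, ← map_mul, h4, map_pow]
    rw [rF_smul, rF_rF, ← hk, e1, smul_smul, key]

theorem genSat_qc [IsLocallyNoetherian X] [P.IsQuasicoherent] (hW : IsAffineOpen W) :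
    (genSat N).QC := by
  refine qc_of_satOn _ W (genSat_satOn N) ?_
  intro W₁ hW₁ x hx
  obtain ⟨f, g, efg, hxf⟩ := exists_basicOpen_le_affine_inter hW₁ hW x ⟨hx.1, hx.2⟩
  refine ⟨f, hxf, ?_, ?_⟩
  · rw [efg]
    exact X.basicOpen_le g
  · rw [efg]
    exact genSat_surjOn_basicOpen hW g

/-- if `N` meets the sections over `W` of a quasi-coherent family `H` trivially, then `genSat N`
meets `H` trivially over all opens contained in `W` -/
theorem genSat_disjoint [P.IsQuasicoherent] (hW : IsAffineOpen W) (H : SubFam P)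
    (hH : H.SurjOn W) (hNH : ∀ n ∈ N, n ∈ H.S W → n = 0) {O : X.Opens} (hO : O ≤ W)
    {s : Γ(P, O)} (hs : s ∈ (genSat N).S O) (hs' : s ∈ H.S O) : s = 0 := by
  apply eq_zero_of_cover
  intro x hx
  obtain ⟨f, hxf, hf, k, n, hn, hfk⟩ := genSat_local hW hs x hx (hO hx)
  have hfW : X.basicOpen f ≤ W := X.basicOpen_le f
  refine ⟨X.basicOpen f, hf, hxf, ?_⟩
  have hu : IsUnit (rX hfW f) := RingedSpace.isUnit_res_basicOpen _ f
  -- the restriction of `n` lies in `H`
  have h1 : rF P hfW n ∈ H.S (X.basicOpen f) := by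
    rw [← hfk]
    exact (H.S _).smul_mem _ (H.res hf s hs')
  obtain ⟨l, h, hh, hl⟩ := hH f _ h1
  have h0 : rF P hfW (f ^ l • n - h) = 0 := by
    rw [map_sub, rF_pow_smul, hl, sub_self]
  obtain ⟨l', hl'⟩ := kerP P hW f _ h0
  rw [smul_sub, sub_eq_zero] at hl'
  have h2 : f ^ l' • f ^ l • n = 0 := by
    apply hNH _ (N.smul_mem _ (N.smul_mem _ hn))
    rw [hl']
    exact (H.S W).smul_mem _ hh
  have h3 : rX hfW f ^ (l' + l + k) • rF P hf s = 0 := by
    rw [add_assoc, pow_add, pow_add, mul_smul, mul_smul, hfk, ← rF_pow_smul, ← rF_pow_smul, h2,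
      map_zero]
  obtain ⟨c, hc⟩ := (hu.pow (l' + l + k)).exists_left_inv
  have h4 := congrArg (fun y => c • y) h3
  simp only [smul_smul, hc, one_smul, smul_zero] at h4
  exact h4

end Gen

end SubFam

end

end Groth.Agent.Lib.SubFamH2
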