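import Mathlib
import Groth.Prelude.Def_Coh
import Groth.Agent.Lib.SubFam2_helper2
import Groth.Agent.Lib.GammaZInj1_helper2
import Groth.Agent.Lib.CohDev10_helper8

/-!
# Complements of torsion-type submodules on locally Noetherian schemes (helper2)

`SubFam.exists_complement`: on a locally Noetherian scheme, let `E` be quasi-coherent, `H ⊆ E` a
quasi-coherent family vanishing over an open `U`, with `E / H` locally of finite type.  Then there is
a quasi-coherent family `T ⊆ E` with `T ∩ H = 0` and `T = E` over `U`.  (Zorn's lemma on opens and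
Artin–Rees.)
APPEND-ONLY once landed.
-/

set_option autoImplicit false
universe u
open CategoryTheory CategoryTheory.Limits AlgebraicGeometry TopologicalSpace Opposite
open QcqsLoc QCohExtn

namespace Groth.Agent.Lib.SubFamH2

noncomputable section

section Alg

/-- ambient form of Artin–Rees -/
theorem exists_pow_smul_inf_eq_bot {R M : Type*} [CommRing R] [IsNoetherianRing R]
    [AddCommGroup M] [Module R M] (I : Ideal R) (N₁ K : Submodule R M) (hfg : N₁.FG)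
    (htors : ∀ x ∈ N₁ ⊓ K, ∃ n : ℕ, ∀ a ∈ I ^ n, a • x = 0) :
    ∃ n : ℕ, ∀ y ∈ I ^ n • N₁, y ∈ K → y = 0 := by
  classical
  have hK₁fg : (N₁ ⊓ K).FG := Submodule.FG.of_le hfg inf_le_left
  obtain ⟨S, hS⟩ := hK₁fg
  have hS' : ∀ x ∈ S, x ∈ N₁ ⊓ K := fun x hx => hS ▸ Submodule.subset_span hx
  choose! e he using htors
  let m := S.sup e
  have hm : ∀ a ∈ I ^ m, ∀ x ∈ N₁ ⊓ K, a • x = 0 := by
    intro a ha x hx
    rw [← hS] at hx
    induction hx using Submodule.span_induction with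
    | mem x hx => exact he x (hS' x hx) a (Ideal.pow_le_pow_right (Finset.le_sup hx) ha)
    | zero => exact smul_zero _
    | add x y _ _ hx hy => rw [smul_add, hx, hy, add_zero]
    | smul c x _ hx => rw [smul_comm, hx, smul_zero]
  haveI : Module.Finite R N₁ := Module.Finite.iff_fg.2 hfg
  let K' : Submodule R N₁ := K.comap N₁.subtype
  have hm' : ∀ a ∈ I ^ m, ∀ x ∈ K', a • x = 0 := by
    intro a ha x hx
    apply Subtype.ext
    have h1 : a • (x : M) = 0 := hm a ha x.1 ⟨x.2, hx⟩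
    simpa using h1
  obtain ⟨k, hk⟩ := CohDevH8.exists_pow_smul_top_inf_eq_bot I K' m hm'
  refine ⟨k + m, fun y hy hyK => ?_⟩
  have h1 : I ^ (k + m) • N₁ = (I ^ (k + m) • (⊤ : Submodule R N₁)).map N₁.subtype := by
    rw [Submodule.map_smul'', Submodule.map_subtype_top]
  rw [h1] at hy
  obtain ⟨y', hy', rfl⟩ := hy
  have h2 : y' ∈ (I ^ (k + m) • (⊤ : Submodule R N₁)) ⊓ K' := ⟨hy', hyK⟩
  rw [hk (k + m) le_rfl] at h2
  rw [(Submodule.mem_bot R).1 h2]
  rfl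

end Alg

variable {X : Scheme.{u}}

/-- a partial solution: an open and a family -/
structure Pair (E : X.Modules) where
  V : X.Opens
  T : SubFam E

namespace Pair

variable {E : X.Modules}

instance : Preorder (Pair E) where
  le a b := a.V ≤ b.V ∧ ∀ O : X.Opens, O ≤ a.V → a.T.S O = b.T.S O
  le_refl a := ⟨le_rfl, fun _ _ => rfl⟩
  le_trans a b c hab hbc :=
    ⟨hab.1.trans hbc.1, fun O hO => (hab.2 O hO).trans (hbc.2 O (hO.trans hab.1))⟩

theorem le_def (a b : Pair E) :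
    a ≤ b ↔ a.V ≤ b.V ∧ ∀ O : X.Opens, O ≤ a.V → a.T.S O = b.T.S O := Iff.rfl

/-- the admissible partial solutions -/
def Good (H : SubFam E) : Set (Pair E) :=
  {a | a.T.SatOn a.V ∧ a.T.QC ∧
    ∀ O : X.Opens, O ≤ a.V → ∀ s : Γ(E, O), s ∈ a.T.S O → s ∈ H.S O → s = 0}

theorem chain_bound [IsLocallyNoetherian X] [E.IsQuasicoherent] (H : SubFam E)
    (c : Set (Pair E)) (hc : c ⊆ Good H) (hchain : IsChain (· ≤ ·) c) :
    ∃ ub ∈ Good H, ∀ z ∈ c, z ≤ ub := by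
  let Vs : X.Opens := ⨆ a : c, a.1.V
  let Ts : SubFam E := SubFam.sInf' (Pair.T '' c)
  have hmem : ∀ {O : X.Opens} (s : Γ(E, O)), s ∈ Ts.S O ↔ ∀ a ∈ c, s ∈ (a : Pair E).T.S O := by
    intro O s
    rw [SubFam.mem_sInf']
    constructor
    · intro h a ha
      exact h a.T ⟨a, ha, rfl⟩
    · rintro h _ ⟨a, ha, rfl⟩
      exact h a ha
  have hub : ∀ z ∈ c, z ≤ (⟨Vs, Ts⟩ : Pair E) := by
    intro z hz
    refine ⟨le_iSup (fun a : c => a.1.V) ⟨z, hz⟩, fun O hO => ?_⟩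
    ext s
    rw [hmem]
    constructor
    · intro hs b hb
      rcases hchain.total hz hb with hzb | hbz
      · rw [← hzb.2 O hO]
        exact hs
      · apply (hc hb).1
        rw [hbz.2 (O ⊓ b.V) inf_le_right]
        exact z.T.res _ s hs
    · intro h
      exact h z hz
  refine ⟨⟨Vs, Ts⟩, ⟨?_, ?_, ?_⟩, hub⟩
  · -- saturation
    intro O s hs
    rw [hmem] at hs ⊢
    intro a ha
    apply (hc ha).1
    have hle : O ⊓ a.V ≤ O ⊓ Vs :=
      inf_le_inf_left _ (le_iSup (fun a : c => a.1.V) ⟨a, ha⟩)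
    have h1 := a.T.res hle _ (hs a ha)
    rwa [rF_rF] at h1
  · -- quasi-coherence
    refine SubFam.qc_of_satOn Ts Vs ?_ ?_
    · intro O s hs
      rw [hmem] at hs ⊢
      intro a ha
      apply (hc ha).1
      have hle : O ⊓ a.V ≤ O ⊓ Vs :=
        inf_le_inf_left _ (le_iSup (fun a : c => a.1.V) ⟨a, ha⟩)
      have h1 := a.T.res hle _ (hs a ha)
      rwa [rF_rF] at h1
    · intro W hW x hx
      obtain ⟨⟨a, ha⟩, hxa⟩ := Opens.mem_iSup.1 hx.2
      obtain ⟨g, hg1, hg2⟩ := hW.exists_basicOpen_le (V := W ⊓ a.V) ⟨x, ⟨hx.1, hxa⟩⟩ hx.1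
      have hga : X.basicOpen g ≤ a.V := hg1.trans inf_le_right
      refine ⟨g, hg2, hga.trans (le_iSup (fun a : c => a.1.V) ⟨a, ha⟩), ?_⟩
      intro b t ht
      obtain ⟨n, s, hs, hres⟩ := (hc ha).2.1 _ (hW.basicOpen g) b t ((hmem t).1 ht a ha)
      refine ⟨n, s, ?_, hres⟩
      rw [← (hub a ha).2 _ hga]
      exact hs
  · -- disjointness
    intro O hO s hs hsH
    rw [hmem] at hs
    apply eq_zero_of_cover
    intro x hx
    obtain ⟨⟨a, ha⟩, hxa⟩ := Opens.mem_iSup.1 (hO hx)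
    refine ⟨O ⊓ a.V, inf_le_left, ⟨hx, hxa⟩, ?_⟩
    exact (hc ha).2.2 _ inf_le_right _ (a.T.res _ s (hs a ha)) (H.res _ s hsH)

open Groth.Agent.Lib.LocCohInjH2 in
theorem extend_step [IsLocallyNoetherian X] [E.IsQuasicoherent] (H : SubFam E) (hH : H.QC)
    (hfin : ∀ W : X.Opens, IsAffineOpen W → ∀ N : Submodule Γ(X, W) Γ(E, W),
      ∃ N₁ : Submodule Γ(X, W) Γ(E, W), N₁ ≤ N ∧ N₁.FG ∧ N ≤ N₁ ⊔ H.S W)
    (a : Pair E) (ha : a ∈ Good H) {W : X.Opens} (hW : IsAffineOpen W) :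
    ∃ b ∈ Good H, a ≤ b ∧ W ≤ b.V := by
  obtain ⟨hsat, hqc, hdis⟩ := ha
  haveI : IsNoetherianRing Γ(X, W) := IsLocallyNoetherian.component_noetherian ⟨W, hW⟩
  set V := a.V with hV
  set T := a.T with hT
  have hWV : W ⊓ V ≤ W := inf_le_left
  let N₀ : Submodule Γ(X, W) Γ(E, W) := T.S W
  obtain ⟨N₁, hN₁le, hN₁fg, hN₁sup⟩ := hfin W hW N₀
  let I : Ideal Γ(X, W) := idealOf W (W ⊓ V)
  -- elements of `N₀ ∩ H(W)` vanish on `W ⊓ V`
  have hvan : ∀ s ∈ N₀, s ∈ H.S W → rF E hWV s = 0 := fun s hs hsH =>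
    hdis (W ⊓ V) inf_le_right _ (T.res hWV s hs) (H.res hWV s hsH)
  have htors : ∀ x ∈ N₁ ⊓ H.S W, ∃ n : ℕ, ∀ r ∈ I ^ n, r • x = 0 := by
    intro x hx
    have h1 := (res_eq_zero_iff_mem_Γ E hW hWV x).1 (hvan x (hN₁le hx.1) hx.2)
    exact (Groth.Agent.Lib.InjHull_helper3.mem_Γ_iff _ _).1 h1
  obtain ⟨n, hn⟩ := exists_pow_smul_inf_eq_bot I N₁ (H.S W) hN₁fg htors
  let N₂ : Submodule Γ(X, W) Γ(E, W) := I ^ n • N₁
  let K : SubFam E := SubFam.genSat N₂
  refine ⟨⟨V ⊔ W, T.inf K⟩, ⟨?_, ?_, ?_⟩, ⟨le_sup_left, ?_⟩, le_sup_right⟩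
  · -- saturation
    intro O s hs
    constructor
    · apply hsat
      have hle : O ⊓ V ≤ O ⊓ (V ⊔ W) := inf_le_inf_left _ le_sup_left
      have h1 := T.res hle _ hs.1
      rwa [rF_rF] at h1
    · apply SubFam.genSat_satOn N₂
      have hle : O ⊓ W ≤ O ⊓ (V ⊔ W) := inf_le_inf_left _ le_sup_right
      have h1 := K.res hle _ hs.2
      rwa [rF_rF] at h1
  · exact SubFam.inf_qc hqc (SubFam.genSat_qc hW)
  · -- disjointness
    intro O hO s hs hsH
    apply eq_zero_of_cover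
    intro x hx
    rcases (hO hx : x ∈ (V : Set X) ∪ W) with hxV | hxW
    · refine ⟨O ⊓ V, inf_le_left, ⟨hx, hxV⟩, ?_⟩
      exact hdis _ inf_le_right _ (T.res _ s hs.1) (H.res _ s hsH)
    · refine ⟨O ⊓ W, inf_le_left, ⟨hx, hxW⟩, ?_⟩
      exact SubFam.genSat_disjoint hW H (hH W hW) (fun y hy hyH => hn y hy hyH) inf_le_right
        (K.res _ s hs.2) (H.res _ s hsH)
  · -- agreement over `V`
    intro O hO
    apply le_antisymm
    · intro s hs
      refine ⟨hs, ?_⟩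
      intro x hx hxW
      obtain ⟨f, hf1, hf2⟩ := hW.exists_basicOpen_le (V := O ⊓ W) ⟨x, ⟨hx, hxW⟩⟩ hxW
      have hfO : X.basicOpen f ≤ O := hf1.trans inf_le_left
      have hfW : X.basicOpen f ≤ W := X.basicOpen_le f
      have hfWV : X.basicOpen f ≤ W ⊓ V := le_inf hfW (hfO.trans hO)
      refine ⟨X.basicOpen f, hfO, hfW, hf2, ?_⟩
      obtain ⟨k, n₀, hn₀, hk⟩ := hqc W hW f _ (T.res hfO s hs)
      obtain ⟨n₁, hn₁, h, hh, hsum⟩ := Submodule.mem_sup.1 (hN₁sup hn₀)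
      have hhN₀ : h ∈ N₀ := by
        have : h = n₀ - n₁ := by rw [← hsum]; abel
        rw [this]
        exact N₀.sub_mem hn₀ (hN₁le hn₁)
      have hh0 : rF E hfW h = 0 := by
        rw [← rF_rF E hfWV hWV h, hvan h hhN₀ hh, map_zero]
      have hfI : f ∈ I := Ideal.subset_span hfWV
      have hmem : f ^ n • n₁ ∈ N₂ := Submodule.smul_mem_smul (Ideal.pow_mem_pow hfI n) hn₁
      have hu : IsUnit (rX hfW f) := RingedSpace.isUnit_res_basicOpen _ f
      obtain ⟨c, hc⟩ := (hu.pow (n + k)).exists_left_inv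
      have e1 : rF E hfW (f ^ n • n₁) = rX hfW f ^ (n + k) • rF E hfO s := by
        have e2 : rF E hfW n₁ = rF E hfW n₀ := by
          rw [← hsum, map_add, hh0, add_zero]
        rw [rF_pow_smul, e2, hk, smul_smul, ← pow_add]
      have e3 : rF E hfO s = c • rF E hfW (f ^ n • n₁) := by
        rw [e1, smul_smul, hc, one_smul]
      rw [e3]
      exact Submodule.smul_mem _ _ (SubFam.mem_spanRes_of_mem hfW hmem)
    · exact fun s hs => hs.1

/-- **Complement lemma.**  On a locally Noetherian scheme, let `E` be quasi-coherent and `H ⊆ E` a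
quasi-coherent family vanishing over the open `U`, such that `E / H` is locally of finite type.
Then there is a quasi-coherent family `T ⊆ E` meeting `H` trivially and equal to `E` over `U`. -/
theorem exists_complement [IsLocallyNoetherian X] [E.IsQuasicoherent] (H : SubFam E)
    (hH : H.QC) (U : X.Opens)
    (hHU : ∀ O : X.Opens, O ≤ U → ∀ s : Γ(E, O), s ∈ H.S O → s = 0)
    (hfin : ∀ W : X.Opens, IsAffineOpen W → ∀ N : Submodule Γ(X, W) Γ(E, W),
      ∃ N₁ : Submodule Γ(X, W) Γ(E, W), N₁ ≤ N ∧ N₁.FG ∧ N ≤ N₁ ⊔ H.S W) :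
    ∃ T : SubFam E, T.QC ∧
      (∀ (O : X.Opens) (s : Γ(E, O)), s ∈ T.S O → s ∈ H.S O → s = 0) ∧
      ∀ O : X.Opens, O ≤ U → T.S O = ⊤ := by
  let x₀ : Pair E := ⟨U, SubFam.top E⟩
  have hx₀ : x₀ ∈ Good H :=
    ⟨SubFam.top_satOn U, SubFam.top_qc, fun O hO s _ hs => hHU O hO s hs⟩
  obtain ⟨m, hxm, hm⟩ := zorn_le_nonempty₀ (Good H)
    (fun c hc hchain _ _ => chain_bound H c hc hchain) x₀ hx₀
  have htop : m.V = ⊤ := by
    rw [eq_top_iff]
    intro x _
    obtain ⟨_, ⟨W, hW : IsAffineOpen W, rfl⟩, hxW, -⟩ :=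
      (X.isBasis_affineOpens).exists_subset_of_mem_open (Set.mem_univ x) isOpen_univ
    obtain ⟨b, hb, hmb, hWb⟩ := extend_step H hH hfin m hm.1 hW
    exact (hm.2 hb hmb).1 (hWb hxW)
  refine ⟨m.T, hm.1.2.1, fun O s hs hsH => hm.1.2.2 O (htop ▸ le_top) s hs hsH, fun O hO => ?_⟩
  exact (hxm.2 O hO).symm

end Pair

end

end Groth.Agent.Lib.SubFamH2
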