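import Mathlib
import Groth.Prelude.Def_Coh
import Groth.Agent.Lib.SubFam3_helper2
import Groth.Agent.Lib.InjTilde3_helper2
import Groth.Agent.Lib.LocInj1_helper4
import Groth.Agent.Lib.StalkInj_helper6
import Groth.Agent.Lib.CohOpen2_helper8
import Groth.Agent.Lib.CohDev8_helper8
import Groth.Agent.Lib.SerreCrit1_helper9

/-!
# Injectives of `QCoh(X)` are injective `O_X`-modules on locally Noetherian schemes (helper2)

APPEND-ONLY once landed.
-/

set_option autoImplicit false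
universe u
open CategoryTheory CategoryTheory.Limits AlgebraicGeometry TopologicalSpace Opposite
open QcqsLoc QCohExtn

namespace Groth.Agent.Lib.SubFamH2

noncomputable section

section Alg2

/-- a submodule is generated, modulo the kernel of a map to a Noetherian module, by a finitely
generated submodule -/
theorem exists_fg_le_sup_ker {R M M' : Type*} [Ring R] [AddCommGroup M] [Module R M]
    [AddCommGroup M'] [Module R M'] [IsNoetherian R M'] (l : M →ₗ[R] M') (N : Submodule R M) :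
    ∃ N₁ : Submodule R M, N₁ ≤ N ∧ N₁.FG ∧ N ≤ N₁ ⊔ LinearMap.ker l := by
  classical
  obtain ⟨t, ht⟩ := (IsNoetherian.noetherian (N.map l) : (N.map l).FG)
  have h1 : ∀ y ∈ t, ∃ x ∈ N, l x = y := fun y hy => by
    have h2 : y ∈ N.map l := ht ▸ Submodule.subset_span hy
    exact h2
  choose! x hxN hxy using h1
  refine ⟨Submodule.span R (x '' (t : Set M')), ?_, ?_, ?_⟩
  · rw [Submodule.span_le]
    rintro _ ⟨y, hy, rfl⟩
    exact hxN y hy
  · exact Submodule.fg_span ((t.finite_toSet).image x)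
  · intro n hn
    have h3 : (Submodule.span R (x '' (t : Set M'))).map l = N.map l := by
      rw [Submodule.map_span, Set.image_image, ← ht]
      congr 1
      ext y
      constructor
      · rintro ⟨y', hy', rfl⟩
        show l (x y') ∈ (t : Set M')
        rw [hxy y' hy']
        exact hy'
      · intro hy
        exact ⟨y, hy, hxy y hy⟩
    have h4 : l n ∈ (Submodule.span R (x '' (t : Set M'))).map l := by
      rw [h3]
      exact ⟨n, hn, rfl⟩
    obtain ⟨n₁, hn₁, hn₁'⟩ := h4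
    refine Submodule.mem_sup.2 ⟨n₁, hn₁, n - n₁, ?_, by abel⟩
    rw [LinearMap.mem_ker, map_sub, hn₁', sub_self]

end Alg2

variable {X : Scheme.{u}}

open Groth.Agent.Lib.StalkInjH6 in
/-- Baer's criterion for the sections over an affine open of an injective object of `QCoh(X)`. -/
theorem baer_aux [IsLocallyNoetherian X]
    (J : ObjectProperty.FullSubcategory (fun M : X.Modules => Coh.IsQCoh M)) [Injective J]
    {U : X.Opens} (hU : IsAffineOpen U) (𝔞 : Ideal Γ(X, U))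
    (g : 𝔞 →ₗ[Γ(X, U)] Γ(J.obj, U)) :
    ∃ g' : Γ(X, U) →ₗ[Γ(X, U)] Γ(J.obj, U), ∀ (x : Γ(X, U)) (mem : x ∈ 𝔞), g' x = g ⟨x, mem⟩ := by
  haveI hJq : J.obj.IsQuasicoherent := J.property
  let OX : X.Modules := Coh.structureModule X
  haveI hOq : OX.IsQuasicoherent := SerreCrit.isQuasicoherent_OO
  let P : X.Modules := OX ⊞ J.obj
  haveI hPq : P.IsQuasicoherent := CohOpenH8.isQuasicoherent_biprod OX J.obj
  -- sectionwise identities for the biproduct
  have hfi : ∀ (O : X.Opens) (a : Γ(OX, O)),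
      ap (biprod.fst : P ⟶ OX) O (ap (biprod.inl : OX ⟶ P) O a) = a := fun O a =>
    congrArg (fun χ : OX ⟶ OX => ap χ O a) (biprod.inl_fst : (biprod.inl : OX ⟶ P) ≫ _ = _)
  have hfr : ∀ (O : X.Opens) (b : Γ(J.obj, O)),
      ap (biprod.fst : P ⟶ OX) O (ap (biprod.inr : J.obj ⟶ P) O b) = 0 := fun O b =>
    congrArg (fun χ : J.obj ⟶ OX => ap χ O b) (biprod.inr_fst : (biprod.inr : J.obj ⟶ P) ≫ _ = _)
  have hsi : ∀ (O : X.Opens) (a : Γ(OX, O)),
      ap (biprod.snd : P ⟶ J.obj) O (ap (biprod.inl : OX ⟶ P) O a) = 0 := fun O a =>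
    congrArg (fun χ : OX ⟶ J.obj => ap χ O a) (biprod.inl_snd : (biprod.inl : OX ⟶ P) ≫ _ = _)
  have hsr : ∀ (O : X.Opens) (b : Γ(J.obj, O)),
      ap (biprod.snd : P ⟶ J.obj) O (ap (biprod.inr : J.obj ⟶ P) O b) = b := fun O b =>
    congrArg (fun χ : J.obj ⟶ J.obj => ap χ O b) (biprod.inr_snd : (biprod.inr : J.obj ⟶ P) ≫ _ = _)
  -- the graph of `g`
  let γ : 𝔞 →ₗ[Γ(X, U)] Γ(P, U) :=
    (apLin (biprod.inl : OX ⟶ P) U) ∘ₗ (CohDevH8.sectionsOOEquiv U).toLinearMap ∘ₗ 𝔞.subtype +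
      (apLin (biprod.inr : J.obj ⟶ P) U) ∘ₗ g
  have hγ : ∀ a : 𝔞, γ a = ap (biprod.inl : OX ⟶ P) U (SerreCrit.ofFn a.1) +
      ap (biprod.inr : J.obj ⟶ P) U (g a) := fun a => rfl
  have hγ1 : ∀ a : 𝔞, ap (biprod.fst : P ⟶ OX) U (γ a) = SerreCrit.ofFn a.1 := by
    intro a
    rw [hγ, map_add, hfi, hfr, add_zero]
  have hγ2 : ∀ a : 𝔞, ap (biprod.snd : P ⟶ J.obj) U (γ a) = g a := by
    intro a
    rw [hγ, map_add, hsi, hsr, zero_add]
  let Ng : Submodule Γ(X, U) Γ(P, U) := LinearMap.range γ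
  let K₀ : SubFam P := SubFam.genSat Ng
  have hK₀ : K₀.QC := SubFam.genSat_qc hU
  let E : X.Modules := K₀.obj
  haveI hEq : E.IsQuasicoherent := K₀.isQuasicoherent_obj hK₀
  let p₁ : E ⟶ OX := K₀.ι ≫ biprod.fst
  let p₂ : E ⟶ J.obj := K₀.ι ≫ biprod.snd
  let H : SubFam E := SubFam.ker p₁
  have hH : H.QC := SubFam.ker_qc p₁
  let HP : SubFam P := SubFam.ker (biprod.fst : P ⟶ OX)
  have hHP : HP.QC := SubFam.ker_qc _
  have hNH : ∀ n ∈ Ng, n ∈ HP.S U → n = 0 := by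
    rintro _ ⟨a, rfl⟩ h
    have h1 : ap (biprod.fst : P ⟶ OX) U (γ a) = 0 := h
    rw [hγ1] at h1
    have h2 : a = 0 := Subtype.ext h1
    rw [h2, map_zero]
  have hHU : ∀ O : X.Opens, O ≤ U → ∀ s : Γ(E, O), s ∈ H.S O → s = 0 := by
    intro O hO s hs
    apply K₀.ι_injective O
    rw [map_zero]
    exact SubFam.genSat_disjoint hU HP (hHP U hU) hNH hO (K₀.ι_mem O s) hs
  have hfin : ∀ W : X.Opens, IsAffineOpen W → ∀ N : Submodule Γ(X, W) Γ(E, W),
      ∃ N₁ : Submodule Γ(X, W) Γ(E, W), N₁ ≤ N ∧ N₁.FG ∧ N ≤ N₁ ⊔ H.S W := by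
    intro W hW N
    haveI : IsNoetherianRing Γ(X, W) := IsLocallyNoetherian.component_noetherian ⟨W, hW⟩
    haveI : IsNoetherian Γ(X, W) Γ(OX, W) :=
      isNoetherian_of_linearEquiv (CohDevH8.sectionsOOEquiv W)
    obtain ⟨N₁, h1, h2, h3⟩ := exists_fg_le_sup_ker (apLin p₁ W) N
    refine ⟨N₁, h1, h2, h3.trans (sup_le_sup_left ?_ _)⟩
    intro s hs
    exact hs
  obtain ⟨T, hTqc, hTdis, hTU⟩ := Pair.exists_complement H hH U hHU hfin
  let 𝒦 : X.Modules := T.obj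
  have h𝒦q : 𝒦.IsQuasicoherent := T.isQuasicoherent_obj hTqc
  let κ : 𝒦 ⟶ OX := T.ι ≫ p₁
  let ψ : 𝒦 ⟶ J.obj := T.ι ≫ p₂
  haveI hκ : Mono κ := by
    apply SubFam.mono_of_app_injective
    intro O
    rw [injective_iff_map_eq_zero]
    intro z hz
    apply T.ι_injective O
    rw [map_zero]
    exact hTdis O _ (T.ι_mem O z) hz
  -- use injectivity in `QCoh(X)`
  let 𝒦' : ObjectProperty.FullSubcategory (fun M : X.Modules => Coh.IsQCoh M) := ⟨𝒦, h𝒦q⟩
  let O' : ObjectProperty.FullSubcategory (fun M : X.Modules => Coh.IsQCoh M) := ⟨OX, hOq⟩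
  let κ' : 𝒦' ⟶ O' := ObjectProperty.homMk κ
  haveI : Mono κ' :=
    (ObjectProperty.ι (fun M : X.Modules => Coh.IsQCoh M)).mono_of_mono_map hκ
  let Ψ' : O' ⟶ J := Injective.factorThru (ObjectProperty.homMk ψ : 𝒦' ⟶ J) κ'
  have hΨ : κ ≫ Ψ'.hom = ψ :=
    congrArg (fun χ : 𝒦' ⟶ J => χ.hom)
      (Injective.comp_factorThru (ObjectProperty.homMk ψ : 𝒦' ⟶ J) κ')
  let m : Γ(J.obj, U) := ap Ψ'.hom U (SerreCrit.ofFn (1 : Γ(X, U)))
  refine ⟨LinearMap.toSpanSingleton Γ(X, U) Γ(J.obj, U) m, fun x mem => ?_⟩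
  rw [LinearMap.toSpanSingleton_apply]
  -- the section of `𝒦` over `U` attached to `x`
  have hy : γ ⟨x, mem⟩ ∈ K₀.S U := SubFam.mem_genSat_of_mem ⟨⟨x, mem⟩, rfl⟩
  obtain ⟨e, he⟩ := (K₀.mem_range_ι _).2 hy
  have heT : e ∈ T.S U := by
    rw [hTU U le_rfl]
    trivial
  obtain ⟨z, hz⟩ := (T.mem_range_ι _).2 heT
  have h1 : ap κ U z = SerreCrit.ofFn x := by
    show ap (biprod.fst : P ⟶ OX) U (ap K₀.ι U (ap T.ι U z)) = _
    rw [hz, he, hγ1]
  have h2 : ap ψ U z = g ⟨x, mem⟩ := by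
    show ap (biprod.snd : P ⟶ J.obj) U (ap K₀.ι U (ap T.ι U z)) = _
    rw [hz, he, hγ2]
  have h3 : ap Ψ'.hom U (ap κ U z) = ap ψ U z :=
    congrArg (fun χ : 𝒦 ⟶ J.obj => ap χ U z) hΨ
  rw [h1, h2] at h3
  rw [← h3]
  have h4 : SerreCrit.ofFn x = x • SerreCrit.ofFn (1 : Γ(X, U)) := (mul_one x).symm
  rw [h4, ap_smul]

/-- **S7769**: on a locally Noetherian scheme, an injective object of `QCoh(X)` is an injective
`O_X`-module. -/
theorem injective_of_qcoh_injective [IsLocallyNoetherian X]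
    (J : ObjectProperty.FullSubcategory (fun M : X.Modules => Coh.IsQCoh M)) [Injective J] :
    Injective J.obj := by
  haveI hJq : J.obj.IsQuasicoherent := J.property
  apply Groth.Agent.Lib.LocInjH4.injective_of_locally_injective
  intro x
  obtain ⟨_, ⟨U, hU : IsAffineOpen U, rfl⟩, hxU, -⟩ :=
    (X.isBasis_affineOpens).exists_subset_of_mem_open (Set.mem_univ x) isOpen_univ
  refine ⟨U, hxU, Groth.Agent.Lib.InjTildeH2.injective_restrict_of_injective_sections _ hU ?_⟩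
  apply Module.Baer.injective
  intro 𝔞 g
  exact baer_aux J hU 𝔞 g

end

end Groth.Agent.Lib.SubFamH2
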