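import Mathlib
import Groth.Prelude.Def_Coh
import Groth.Agent.Lib.SubFam3_helper2
import Groth.Agent.Lib.QCohInj1_helper2
import Groth.Agent.Lib.StalkInj_helper6
import Groth.Agent.Lib.CohOpen2_helper8
import Groth.Agent.Lib.CohDev14_helper8
import Groth.Agent.Lib.QCohFT_helper9

/-!
# Extending a morphism from an open to a coherent submodule (helper2)

`exists_extension`: `X` locally Noetherian, `F` coherent, `G` quasi-coherent, `φ : F|_U ⟶ G|_U`.  Then
there are a coherent `F' ⊆ F` with `F'|_U = F|_U` and `φ' : F' ⟶ G` restricting to `φ`.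
APPEND-ONLY once landed.
-/

set_option autoImplicit false
universe u
open CategoryTheory CategoryTheory.Limits AlgebraicGeometry TopologicalSpace Opposite
open QcqsLoc QCohExtn

namespace Groth.Agent.Lib.SubFamH2

noncomputable section

variable {X : Scheme.{u}}

set_option backward.isDefEq.respectTransparency false in
open Groth.Agent.Lib.StalkInjH6 in
/-- **Extension of morphisms from opens** (Stacks 01PJ-style, with quasi-coherent target). -/
theorem exists_extension [IsLocallyNoetherian X] (F G : X.Modules) (hF : Coh.IsCoh F)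
    [G.IsQuasicoherent] (U : X.Opens)
    (φ : (Scheme.Modules.restrictFunctor U.ι).obj F ⟶ (Scheme.Modules.restrictFunctor U.ι).obj G) :
    ∃ (F' : X.Modules) (ι : F' ⟶ F) (φ' : F' ⟶ G), Mono ι ∧ Coh.IsCoh F' ∧
      IsIso ((Scheme.Modules.restrictFunctor U.ι).map ι) ∧
      (Scheme.Modules.restrictFunctor U.ι).map φ' =
        (Scheme.Modules.restrictFunctor U.ι).map ι ≫ φ := by
  haveI hFq : F.IsQuasicoherent := hF.1
  haveI hFt : SheafOfModules.IsFiniteType (R := X.ringCatSheaf) F := hF.2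
  haveI : QuasiCompact U.ι := inferInstance
  haveI hGr : ((Scheme.Modules.restrictFunctor U.ι).obj G).IsQuasicoherent := inferInstance
  let Q : X.Modules :=
    (Scheme.Modules.pushforward U.ι).obj ((Scheme.Modules.restrictFunctor U.ι).obj G)
  haveI hQq : Q.IsQuasicoherent := QcqsLoc.isQuasicoherent_pushforward_qcqs U.ι _
  let ηF : F ⟶ (Scheme.Modules.pushforward U.ι).obj ((Scheme.Modules.restrictFunctor U.ι).obj F) :=
    (Scheme.Modules.restrictAdjunction U.ι).unit.app F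
  let ηG : G ⟶ Q := (Scheme.Modules.restrictAdjunction U.ι).unit.app G
  let φt : F ⟶ Q := ηF ≫ (Scheme.Modules.pushforward U.ι).map φ
  let P : X.Modules := F ⊞ G
  haveI hPq : P.IsQuasicoherent := CohOpenH8.isQuasicoherent_biprod F G
  let ψ : P ⟶ Q := biprod.fst ≫ φt - biprod.snd ≫ ηG
  have hψ : ∀ (O : X.Opens) (s : Γ(P, O)), ap ψ O s =
      ap φt O (ap (biprod.fst : P ⟶ F) O s) - ap ηG O (ap (biprod.snd : P ⟶ G) O s) :=
    fun O s => rfl
  -- sectionwise identities for the biproduct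
  have hfi : ∀ (O : X.Opens) (a : Γ(F, O)),
      ap (biprod.fst : P ⟶ F) O (ap (biprod.inl : F ⟶ P) O a) = a := fun O a =>
    congrArg (fun χ : F ⟶ F => ap χ O a) (biprod.inl_fst : (biprod.inl : F ⟶ P) ≫ _ = _)
  have hfr : ∀ (O : X.Opens) (b : Γ(G, O)),
      ap (biprod.fst : P ⟶ F) O (ap (biprod.inr : G ⟶ P) O b) = 0 := fun O b =>
    congrArg (fun χ : G ⟶ F => ap χ O b) (biprod.inr_fst : (biprod.inr : G ⟶ P) ≫ _ = _)
  have hsi : ∀ (O : X.Opens) (a : Γ(F, O)),
      ap (biprod.snd : P ⟶ G) O (ap (biprod.inl : F ⟶ P) O a) = 0 := fun O a =>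
    congrArg (fun χ : F ⟶ G => ap χ O a) (biprod.inl_snd : (biprod.inl : F ⟶ P) ≫ _ = _)
  have hsr : ∀ (O : X.Opens) (b : Γ(G, O)),
      ap (biprod.snd : P ⟶ G) O (ap (biprod.inr : G ⟶ P) O b) = b := fun O b =>
    congrArg (fun χ : G ⟶ G => ap χ O b) (biprod.inr_snd : (biprod.inr : G ⟶ P) ≫ _ = _)
  have htot : ∀ (O : X.Opens) (s : Γ(P, O)),
      ap (biprod.inl : F ⟶ P) O (ap (biprod.fst : P ⟶ F) O s) +
        ap (biprod.inr : G ⟶ P) O (ap (biprod.snd : P ⟶ G) O s) = s := fun O s =>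
    congrArg (fun χ : P ⟶ P => ap χ O s) (biprod.total : _ = 𝟙 P)
  have hηinj : ∀ (O : X.Opens), O ≤ U → Function.Bijective (ap ηG O) := fun O hO =>
    SubExt.unit_bijective U G O hO
  let K₀ : SubFam P := SubFam.ker ψ
  have hK₀ : K₀.QC := SubFam.ker_qc ψ
  let E : X.Modules := K₀.obj
  haveI hEq : E.IsQuasicoherent := K₀.isQuasicoherent_obj hK₀
  let p₁ : E ⟶ F := K₀.ι ≫ biprod.fst
  let p₂ : E ⟶ G := K₀.ι ≫ biprod.snd
  let H : SubFam E := SubFam.ker p₁
  have hH : H.QC := SubFam.ker_qc p₁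
  have hHU : ∀ O : X.Opens, O ≤ U → ∀ s : Γ(E, O), s ∈ H.S O → s = 0 := by
    intro O hO s hs
    apply K₀.ι_injective O
    rw [map_zero]
    have h1 : ap (biprod.fst : P ⟶ F) O (ap K₀.ι O s) = 0 := hs
    have h2 : ap ψ O (ap K₀.ι O s) = 0 := K₀.ι_mem O s
    rw [hψ, h1, map_zero, zero_sub, neg_eq_zero] at h2
    have h3 : ap (biprod.snd : P ⟶ G) O (ap K₀.ι O s) = 0 :=
      (hηinj O hO).1 (h2.trans (map_zero _).symm)
    rw [← htot O (ap K₀.ι O s), h1, h3, map_zero, map_zero, add_zero]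
  have hfin : ∀ W : X.Opens, IsAffineOpen W → ∀ N : Submodule Γ(X, W) Γ(E, W),
      ∃ N₁ : Submodule Γ(X, W) Γ(E, W), N₁ ≤ N ∧ N₁.FG ∧ N ≤ N₁ ⊔ H.S W := by
    intro W hW N
    haveI : IsNoetherianRing Γ(X, W) := IsLocallyNoetherian.component_noetherian ⟨W, hW⟩
    haveI : Module.Finite Γ(X, W) Γ(F, W) := QCohFT.finite_of_isFiniteType F hW
    haveI : IsNoetherian Γ(X, W) Γ(F, W) := isNoetherian_of_isNoetherianRing_of_finite _ _
    obtain ⟨N₁, h1, h2, h3⟩ := exists_fg_le_sup_ker (apLin p₁ W) N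
    refine ⟨N₁, h1, h2, h3.trans (sup_le_sup_left ?_ _)⟩
    intro s hs
    exact hs
  obtain ⟨T, hTqc, hTdis, hTU⟩ := Pair.exists_complement H hH U hHU hfin
  let F' : X.Modules := T.obj
  have hF'q : F'.IsQuasicoherent := T.isQuasicoherent_obj hTqc
  let ι' : F' ⟶ F := T.ι ≫ p₁
  let φ' : F' ⟶ G := T.ι ≫ p₂
  have hinj : ∀ O : X.Opens, Function.Injective (ap ι' O) := by
    intro O
    rw [injective_iff_map_eq_zero]
    intro z hz
    apply T.ι_injective O
    rw [map_zero]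
    exact hTdis O _ (T.ι_mem O z) hz
  haveI hι' : Mono ι' := SubFam.mono_of_app_injective ι' hinj
  -- the relation satisfied by sections of `F'`
  have hrel : ∀ (O : X.Opens) (z : Γ(F', O)), ap φt O (ap ι' O z) = ap ηG O (ap φ' O z) := by
    intro O z
    have h2 : ap ψ O (ap K₀.ι O (ap T.ι O z)) = 0 := K₀.ι_mem O _
    rw [hψ, sub_eq_zero] at h2
    exact h2
  have hbij : ∀ O : X.Opens, O ≤ U → Function.Bijective (ap ι' O) := by
    intro O hO
    refine ⟨hinj O, fun y => ?_⟩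
    obtain ⟨t, ht⟩ := (hηinj _ hO).2 (ap φt O y)
    let sP : Γ(P, O) := ap (biprod.inl : F ⟶ P) O y + ap (biprod.inr : G ⟶ P) O t
    have hsP : sP = ap (biprod.inl : F ⟶ P) O y + ap (biprod.inr : G ⟶ P) O t := rfl
    have e1 : ap (biprod.fst : P ⟶ F) O sP = y := by
      rw [hsP, map_add, hfi, hfr, add_zero]
    have e2 : ap (biprod.snd : P ⟶ G) O sP = t := by
      rw [hsP, map_add, hsi, hsr, zero_add]
    have h1 : sP ∈ K₀.S O := by
      show ap ψ O sP = 0
      rw [hψ, e1, e2, ht, sub_self]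
    obtain ⟨e, he⟩ := (K₀.mem_range_ι _).2 h1
    have heT : e ∈ T.S O := by
      rw [hTU _ hO]
      trivial
    obtain ⟨z, hz⟩ := (T.mem_range_ι _).2 heT
    refine ⟨z, ?_⟩
    show ap (biprod.fst : P ⟶ F) O (ap K₀.ι O (ap T.ι O z)) = y
    rw [hz, he, e1]
  refine ⟨F', ι', φ', hι', CohDevH8.isCoh_of_mono ι' hF'q hF, ?_, ?_⟩
  · -- isomorphism over `U`
    apply SubExt.isIso_of_bijective
    intro W'
    exact hbij (U.ι ''ᵁ W') (U.ι_image_le W')
  · -- compatibility
    refine Scheme.Modules.hom_ext _ _ (fun W' => ?_)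
    refine ConcreteCategory.hom_ext _ _ (fun s => ?_)
    let O : X.Opens := U.ι ''ᵁ W'
    let y : Γ(F, O) := ap ι' O s
    let t : Γ(G, O) := ap φ' O s
    have hc : ap φ (U.ι ⁻¹ᵁ O) (F.presheaf.map (homOfLE (U.ι.image_preimage_le O)).op y) =
        G.presheaf.map (homOfLE (U.ι.image_preimage_le O)).op t := hrel O s
    let i : W' ⟶ U.ι ⁻¹ᵁ O := eqToHom (U.ι.preimage_image_eq W').symm
    have hnat : ap φ W' ((F.restrict U.ι).presheaf.map i.op
          (F.presheaf.map (homOfLE (U.ι.image_preimage_le O)).op y)) =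
        (G.restrict U.ι).presheaf.map i.op
          (ap φ (U.ι ⁻¹ᵁ O) (F.presheaf.map (homOfLE (U.ι.image_preimage_le O)).op y)) :=
      QCohCrit.app_naturality φ i _
    have h3 : (F.restrict U.ι).presheaf.map i.op
        (F.presheaf.map (homOfLE (U.ι.image_preimage_le O)).op y) = y :=
      SubExt.map_map_self F (homOfLE (U.ι.image_preimage_le O)).op
        (U.ι.opensFunctor.map i).op y
    have h4 : (G.restrict U.ι).presheaf.map i.op
        (G.presheaf.map (homOfLE (U.ι.image_preimage_le O)).op t) = t :=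
      SubExt.map_map_self G (homOfLE (U.ι.image_preimage_le O)).op
        (U.ι.opensFunctor.map i).op t
    show t = ap φ W' y
    rw [h3, hc, h4] at hnat
    exact hnat.symm

end

end Groth.Agent.Lib.SubFamH2
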