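import Mathlib
import Groth.Prelude.Def_DRing2
import Groth.Agent.Lib.DMod20_helper6
import Groth.Agent.S6366

/-!
# Pseudo-coherent complexes over a coherent ring (helper7)

Adaptation of helper6's Noetherian criterion (`DMod12_helper6`) to coherent rings.
-/

set_option autoImplicit false
universe u
open CategoryTheory CategoryTheory.Limits Pretriangulated DerivedCategory ZeroObject
attribute [local instance] HasDerivedCategory.standard

namespace Groth.Agent.Lib.CohPC

open DRing ObjectProperty Groth.Agent.Lib.DMod_helper6 Groth.Agent.Lib.DerivedTrunc_helper2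

variable {R : Type u} [CommRing R]

lemma fp_quot (M : Type u) [AddCommGroup M] [Module R M] [Module.FinitePresentation R M]
    (N : Submodule R M) (hN : N.FG) : Module.FinitePresentation R (M ⧸ N) :=
  Module.finitePresentation_of_surjective N.mkQ (Submodule.mkQ_surjective N) (by
    rw [Submodule.ker_mkQ]
    exact hN)

variable (hR : ∀ I : Ideal R, I.FG → Module.FinitePresentation R I)

include hR

lemma fp_sub (M : Type u) [AddCommGroup M] [Module R M] [Module.FinitePresentation R M]
    (N : Submodule R M) (hN : N.FG) : Module.FinitePresentation R N :=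
  ((Groth.Agent.S6366.result R hR M).2 inferInstance).2 N hN

lemma fp_ker {M M' : Type u} [AddCommGroup M] [Module R M] [AddCommGroup M'] [Module R M']
    [Module.FinitePresentation R M] [Module.FinitePresentation R M'] (f : M →ₗ[R] M') :
    Module.FinitePresentation R (LinearMap.ker f) := by
  haveI : Module.FinitePresentation R (LinearMap.range f) := fp_sub hR M' _ (by
    rw [LinearMap.range_eq_map]
    exact Module.Finite.fg_top.map f)
  have h1 : (LinearMap.ker f.rangeRestrict).FG :=
    Module.FinitePresentation.fg_ker f.rangeRestrict f.surjective_rangeRestrict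
  rw [LinearMap.ker_rangeRestrict] at h1
  exact fp_sub hR M _ h1

lemma fp_homology (S : ShortComplex (ModuleCat.{u} R)) (h₁ : Module.Finite R S.X₁)
    (h₂ : Module.FinitePresentation R S.X₂) (h₃ : Module.FinitePresentation R S.X₃) :
    Module.FinitePresentation R S.homology := by
  haveI : Module.FinitePresentation R (LinearMap.ker S.g.hom) := fp_ker hR S.g.hom
  have h4 : Module.FinitePresentation R S.moduleCatLeftHomologyData.H :=
    fp_quot (LinearMap.ker S.g.hom) (LinearMap.range S.moduleCatToCycles) (by
      rw [LinearMap.range_eq_map]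
      exact Module.Finite.fg_top.map _)
  exact Module.FinitePresentation.of_equiv S.moduleCatHomologyIso.symm.toLinearEquiv

/-- Over a coherent ring a finitely presented module is `m`-pseudo-coherent for all `m`. -/
theorem pc_inD_of_fp (j : ℕ) :
    ∀ (Y : Type u) [AddCommGroup Y] [Module R Y] [Module.FinitePresentation R Y],
      IsPseudoCoherent R (-(j : ℤ)) (Dual.inD R Y) := by
  induction j with
  | zero =>
    intro Y _ _ _
    rw [show (-((0 : ℕ) : ℤ)) = 0 by simp]
    exact isPseudoCoherentModule_zero_of_finite (A := R) Y
  | succ j ih =>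
    intro Y _ _ _
    obtain ⟨n, p, hp⟩ := Module.Finite.exists_fin' R Y
    have hk : (LinearMap.ker p).FG := Module.FinitePresentation.fg_ker p hp
    haveI : Module.FinitePresentation R (LinearMap.ker p) := fp_sub hR _ _ hk
    have hS := shortExact_of_surjective p hp
    have h1 : IsPseudoCoherent R (-((j + 1 : ℕ) : ℤ) + 1) (Dual.inD R (LinearMap.ker p)) := by
      have := ih (LinearMap.ker p)
      rwa [show (-((j + 1 : ℕ) : ℤ) + 1) = -(j : ℤ) by push_cast; ring]
    have h2 : IsPseudoCoherent R (-((j + 1 : ℕ) : ℤ)) (Dual.inD R (Fin n → R)) :=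
      (isPseudoCoherent_iff_pcmP _ _).2
        (bfProp_le_pcmP _ _ (bfProp_single _ inferInstance inferInstance))
    exact (isPseudoCoherent_two_of_three _ hS.singleTriangle_distinguished _).1 h1 h2

theorem pcmP_inD_of_fp (m : ℤ) (Y : ModuleCat.{u} R) [Module.FinitePresentation R Y] :
    pcmP R m ((DerivedCategory.singleFunctor _ 0).obj Y) := by
  have h := pc_inD_of_fp hR (-m).toNat Y
  exact (isPseudoCoherent_iff_pcmP m _).1 (isPseudoCoherent_mono (by omega) _ h)

theorem pcmP_of_homology_coh (n : ℕ) : ∀ (K : Dual.D R) (m : ℤ),
    DerivedCategory.IsLE K (m + n) →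
    Module.Finite R ((DerivedCategory.homologyFunctor (ModuleCat.{u} R) m).obj K) →
    (∀ i : ℤ, m < i → Module.FinitePresentation R
      ((DerivedCategory.homologyFunctor (ModuleCat.{u} R) i).obj K)) →
    pcmP R m K := by
  induction n with
  | zero =>
    intro K m hK hfin _
    haveI : DerivedCategory.IsLE K m := by simpa using hK
    exact pcmP_of_isLE_of_finite K m hfin
  | succ n ih =>
    intro K m hK hfin hfp
    haveI : DerivedCategory.IsLE K (m + n + 1) := by
      have := hK; push_cast at this; rwa [← add_assoc] at this
    have hT := (tt (ModuleCat.{u} R)).triangleLEGT_distinguished (m + n) K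
    have h1 : pcmP R m (((tt (ModuleCat.{u} R)).truncLE (m + n)).obj K) := by
      refine ih _ m inferInstance ?_ (fun i hi => ?_)
      · haveI := isIso_homology_map_truncLEι K (m + n) m (by omega)
        exact finite_of_iso (asIso ((DerivedCategory.homologyFunctor _ m).map
          (((tt _).truncLEι (m + n)).app K))).symm hfin
      · by_cases hi' : i ≤ m + n
        · haveI := isIso_homology_map_truncLEι K (m + n) i hi'
          exact (LinearEquiv.finitePresentation_iff
            (asIso ((DerivedCategory.homologyFunctor _ i).map
              (((tt _).truncLEι (m + n)).app K))).toLinearEquiv).2 (hfp i hi)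
        · haveI : Subsingleton ((DerivedCategory.homologyFunctor (ModuleCat.{u} R) i).obj
              (((tt (ModuleCat.{u} R)).truncLE (m + n)).obj K)) :=
            ModuleCat.subsingleton_of_isZero (isZero_homology_truncLE K (m + n) i (by omega))
          infer_instance
    haveI : DerivedCategory.IsGE (((tt (ModuleCat.{u} R)).truncGT (m + n)).obj K) (m + n + 1) :=
      inferInstance
    haveI : DerivedCategory.IsLE (((tt (ModuleCat.{u} R)).truncGT (m + n)).obj K) (m + n + 1) :=
      isLE_truncGT_of_isLE K (m + n) (m + n + 1) (by omega)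
    obtain ⟨e⟩ := exists_iso_single_homology
      (((tt (ModuleCat.{u} R)).truncGT (m + n)).obj K) (m + n + 1)
    haveI := isIso_homology_map_truncGTπ K (m + n) (m + n + 1) (by omega)
    haveI hfpG : Module.FinitePresentation R
        ((DerivedCategory.homologyFunctor (ModuleCat.{u} R) (m + n + 1)).obj
          (((tt (ModuleCat.{u} R)).truncGT (m + n)).obj K)) :=
      (LinearEquiv.finitePresentation_iff
        (asIso ((DerivedCategory.homologyFunctor _ (m + n + 1)).map
          (((tt _).truncGTπ (m + n)).app K))).toLinearEquiv).1 (hfp (m + n + 1) (by omega))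
    have h3 : pcmP R m (((tt (ModuleCat.{u} R)).truncGT (m + n)).obj K) := by
      refine (pcmP R m).prop_of_iso e.symm
        (pcmP_single _ (m + n + 1) (-(n + 1 : ℤ)) m (by omega) ?_)
      exact pcmP_inD_of_fp hR _ _
    exact pcmP_ext m _ ⟨_, _, _, _, _, hT, h1, h3⟩

theorem main (K : Dual.D R)
    (hb : ∃ b : ℤ, ∀ i : ℤ, b < i → Subsingleton (Dual.HD R K i)) (m : ℤ) :
    IsPseudoCoherent R m K ↔
      Module.Finite R (Dual.HD R K m) ∧
        ∀ i : ℤ, m < i → Module.FinitePresentation R (Dual.HD R K i) := by
  constructor
  · intro hK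
    obtain ⟨E, a, b', α, hab, hff, hiso, hepi⟩ := hK
    have hEX : ∀ j, Module.FinitePresentation R (E.X j) := fun j => by
      haveI := (hff j).1
      haveI := (hff j).2
      exact Module.finitePresentation_of_projective R _
    have hE : ∀ i, Module.FinitePresentation R
        ((DerivedCategory.homologyFunctor (ModuleCat.{u} R) i).obj (toD E)) := by
      intro i
      have hh : Module.FinitePresentation R (E.homology i) :=
        fp_homology hR (E.sc i)
          (by
            haveI := hEX ((ComplexShape.up ℤ).prev i)
            change Module.Finite R (E.X _)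
            infer_instance)
          (hEX _) (hEX _)
      exact (LinearEquiv.finitePresentation_iff
        ((homologyFunctorFactors (ModuleCat.{u} R) i).app E).toLinearEquiv).2 hh
    refine ⟨?_, fun i hi => ?_⟩
    · haveI := hepi
      haveI := hE m
      exact Module.Finite.of_surjective
        ((DerivedCategory.homologyFunctor (ModuleCat.{u} R) m).map α).hom (surjective_of_epi _)
    · haveI := hiso i hi
      haveI := hE i
      exact Module.FinitePresentation.of_equiv
        (asIso ((DerivedCategory.homologyFunctor (ModuleCat.{u} R) i).map α)).toLinearEquiv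
  · rintro ⟨hfin, hfp⟩
    obtain ⟨b, hb⟩ := hb
    haveI hKb : DerivedCategory.IsLE K b := isLE_of_subsingleton_HD K b hb
    rw [isPseudoCoherent_iff_pcmP]
    refine pcmP_of_homology_coh hR (b - m).toNat K m ?_ hfin hfp
    exact TStructure.t.isLE_of_le K b _ (by omega)

theorem main' (K : Dual.D R)
    (hb : ∃ b : ℤ, ∀ i : ℤ, b < i → Subsingleton (Dual.HD R K i)) :
    IsPseudoCoherent' R K ↔ ∀ i : ℤ, Module.FinitePresentation R (Dual.HD R K i) := by
  rw [isPseudoCoherent'_iff_forall]
  constructor
  · intro h i
    exact ((main hR K hb (i - 1)).1 (h (i - 1))).2 i (by omega)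
  · intro h m
    haveI := h m
    exact (main hR K hb m).2 ⟨inferInstance, fun i _ => h i⟩

end Groth.Agent.Lib.CohPC
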