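import Mathlib
import Groth.Agent.Lib.CechPushAcyclic_helper2
import Groth.Agent.Lib.CechSiteInjG_helper2
import Groth.Agent.Lib.ExtCompare_helper2

/-!
# Cohomology of `F ∘ u` for a continuous and cocontinuous functor commuting with fibre products

Version without fibre products in the target category.
-/

set_option autoImplicit false
universe u
open CategoryTheory Limits Opposite Abelian

namespace Groth.Agent.Lib.CohPullCocontG

open Groth.Agent.Lib.CechSite

variable {C D : Type u} [SmallCategory C] [SmallCategory D] [HasPullbacks C]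
  (J : GrothendieckTopology C) (K : GrothendieckTopology D) (u : C ⥤ D)
  [PreservesLimitsOfShape WalkingCospan u] [u.IsContinuous J K]

theorem ext_push_injective_eq_zero (I : Sheaf K AddCommGrpCat.{u}) [Injective I] (U : C) (p : ℕ)
    (ξ : Ext (fr J U) ((u.sheafPushforwardContinuous AddCommGrpCat.{u} J K).obj I) (p + 1)) :
    ξ = 0 := by
  refine ext_eq_zero_of_cech J Set.univ
    (fun U ι Y => Sieve.ofArrows (fun i => (Y i).left) (fun i => (Y i).hom) ∈ J U) ?_ ?_ _ ?_
    U trivial p ξ
  · intro U ι Y hY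
    exact ⟨trivial, hY, fun _ _ => trivial⟩
  · intro U _ T hT
    refine ⟨Σ V : C, {f : V ⟶ U // T.arrows f}, fun i => Over.mk i.2.1, ?_, fun i => i.2.2⟩
    refine J.superset_covering ?_ hT
    intro V f hf
    exact (Sieve.mem_ofArrows_iff _ _ f).2 ⟨⟨V, f, hf⟩, 𝟙 _, (Category.id_comp _).symm⟩
  · intro U ι Y _ p
    haveI := injective_obj K I
    haveI := Groth.Agent.Lib.CechPushAcyclic.preservesFiniteProducts_overPost u U
    exact Groth.Agent.Lib.CechSiteG.isZero_cech_of_injective (Over.post (X := U) u) Y I.obj p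

variable [u.IsCocontinuous J K]

/-- the functor `F ↦ F ∘ u` -/
noncomputable abbrev Φ : Sheaf K AddCommGrpCat.{u} ⥤ Sheaf J AddCommGrpCat.{u} :=
  u.sheafPushforwardContinuous AddCommGrpCat.{u} J K

instance : (Φ J K u).Additive where

lemma Φ_shortExact (S : ShortComplex (Sheaf K AddCommGrpCat.{u})) (hS : S.ShortExact) :
    (S.map (Φ J K u)).ShortExact := by
  haveI : PreservesColimitsOfSize.{u, u} (Φ J K u) :=
    (u.sheafAdjunctionCocontinuous AddCommGrpCat.{u} J K).leftAdjoint_preservesColimits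
  haveI : PreservesLimitsOfSize.{u, u} (Φ J K u) :=
    (u.sheafAdjunctionContinuous AddCommGrpCat.{u} J K).rightAdjoint_preservesLimits
  haveI : PreservesFiniteLimits (Φ J K u) := PreservesLimitsOfSize.preservesFiniteLimits _
  haveI : PreservesFiniteColimits (Φ J K u) := PreservesColimitsOfSize.preservesFiniteColimits _
  exact hS.map_of_exact (Φ J K u)

/-- sections over `u U` as morphisms out of free sheaves, on both sides -/
noncomputable def e (U : C) (F : Sheaf K AddCommGrpCat.{u}) :
    (fr K (u.obj U) ⟶ F) ≃+ (fr J U ⟶ (Φ J K u).obj F) :=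
  (secAddEquiv K (u.obj U) F).trans (secAddEquiv J U ((Φ J K u).obj F)).symm

lemma e_comp (U : C) {F F' : Sheaf K AddCommGrpCat.{u}} (f : fr K (u.obj U) ⟶ F) (φ : F ⟶ F') :
    e J K u U F' (f ≫ φ) = e J K u U F f ≫ (Φ J K u).map φ := by
  unfold e
  show (secAddEquiv J U ((Φ J K u).obj F')).symm (secAddEquiv K (u.obj U) F' (f ≫ φ)) =
    (secAddEquiv J U ((Φ J K u).obj F)).symm (secAddEquiv K (u.obj U) F f) ≫ (Φ J K u).map φ
  rw [secAddEquiv_comp, secAddEquiv_symm_comp]
  rfl

theorem nonempty_ext_addEquiv (F : Sheaf K AddCommGrpCat.{u}) (U : C) (p : ℕ) :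
    Nonempty (Ext (fr K (u.obj U)) F p ≃+ Ext (fr J U) ((Φ J K u).obj F) p) :=
  Groth.Agent.Lib.ExtCompare.nonempty_ext_addEquiv (Φ J K u) (Φ_shortExact J K u)
    (fr K (u.obj U)) (fr J U) (e J K u U) (fun f φ => e_comp J K u U f φ)
    (fun I hI n ξ => by
      haveI := hI
      exact ext_push_injective_eq_zero J K u I U n ξ) p F

end Groth.Agent.Lib.CohPullCocontG
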