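import Mathlib

universe u

namespace CoprimFiltH8

variable {A : Type u} [CommRing A] {M : Type u} [AddCommGroup M] [Module A M]

/-- Descending filtration from `N` to `⊥` whose graded pieces embed into `A ⧸ p`. -/
def DescFilt (p : Ideal A) (N : Submodule A M) : Prop :=
  ∃ (m : ℕ) (F : Fin (m + 1) → Submodule A M), Antitone F ∧ F 0 = N ∧ F (Fin.last m) = ⊥ ∧
    ∀ i : Fin m, ∃ g : (↥(F i.castSucc) ⧸ Submodule.comap (F i.castSucc).subtype (F i.succ)) →ₗ[A]
      (A ⧸ p), Function.Injective g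

theorem descFilt_bot (p : Ideal A) : DescFilt p (⊥ : Submodule A M) :=
  ⟨0, fun _ => ⊥, fun _ _ _ => le_rfl, rfl, rfl, fun i => i.elim0⟩

theorem descFilt_step (p : Ideal A) (N N' : Submodule A M) (h : DescFilt p N) (hle : N ≤ N')
    (hg : ∃ g : (↥N' ⧸ Submodule.comap N'.subtype N) →ₗ[A] (A ⧸ p), Function.Injective g) :
    DescFilt p N' := by
  obtain ⟨m, F, hF, h0, hl, hq⟩ := h
  have key : ∀ P Q : Submodule A M, P = N' → Q = N →
      ∃ g : (↥P ⧸ Submodule.comap P.subtype Q) →ₗ[A] (A ⧸ p), Function.Injective g := by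
    rintro P Q rfl rfl
    exact hg
  refine ⟨m + 1, Fin.cons (α := fun _ => Submodule A M) N' F, ?_, ?_, ?_, ?_⟩
  · rw [Fin.antitone_iff_succ_le]
    intro i
    rw [Fin.cons_succ]
    refine Fin.cases ?_ (fun j => ?_) i
    · rw [Fin.castSucc_zero, Fin.cons_zero, h0]
      exact hle
    · rw [← Fin.succ_castSucc, Fin.cons_succ]
      exact hF (Fin.castSucc_le_succ j)
  · rfl
  · rw [← Fin.succ_last, Fin.cons_succ, hl]
  · intro i
    refine Fin.cases ?_ (fun j => ?_) i
    · exact key _ _ (by rw [Fin.castSucc_zero, Fin.cons_zero]) (by rw [Fin.cons_succ, h0])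
    · have := hq j
      have key2 : ∀ P Q : Submodule A M, P = F j.castSucc → Q = F j.succ →
          ∃ g : (↥P ⧸ Submodule.comap P.subtype Q) →ₗ[A] (A ⧸ p), Function.Injective g := by
        rintro P Q rfl rfl
        exact this
      exact key2 _ _ (by rw [← Fin.succ_castSucc, Fin.cons_succ]) (by rw [Fin.cons_succ])

/-- Key extension step. -/
theorem exists_step [IsNoetherianRing A] [Module.Finite A M] (p : Ideal A)
    (hp : associatedPrimes A M = {p}) (N : Submodule A M)
    (hsat : ∀ a : A, a ∉ p → ∀ y : M, a • y ∈ N → y ∈ N) (hN : N ≠ ⊤) :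
    ∃ N' : Submodule A M, N < N' ∧ (∀ a : A, a ∉ p → ∀ y : M, a • y ∈ N' → y ∈ N') ∧
      ∃ g : (↥N' ⧸ Submodule.comap N'.subtype N) →ₗ[A] (A ⧸ p), Function.Injective g := by
  classical
  haveI : IsNoetherian A M := isNoetherian_of_isNoetherianRing_of_finite A M
  have hpass : IsAssociatedPrime p M := by
    have : p ∈ associatedPrimes A M := by rw [hp]; exact rfl
    exact this
  haveI hpp : p.IsPrime := hpass.isPrime
  haveI : Nontrivial (M ⧸ N) := Submodule.Quotient.nontrivial_iff.mpr hN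
  obtain ⟨q, hq⟩ := associatedPrimes.nonempty A (M ⧸ N)
  have hq' : IsAssociatedPrime q (M ⧸ N) := hq
  haveI hqp : q.IsPrime := hq'.isPrime
  -- q ≤ p
  have hqp1 : q ≤ p := by
    obtain ⟨_, x, hx⟩ := (isAssociatedPrime_iff).mp hq'
    intro a ha
    by_contra hap
    obtain ⟨x, rfl⟩ := Submodule.Quotient.mk_surjective N x
    rw [hx, Submodule.mem_colon_singleton, Submodule.mem_bot, ← Submodule.Quotient.mk_smul,
      Submodule.Quotient.mk_eq_zero] at ha
    have hxN : x ∈ N := hsat a hap x ha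
    apply hqp.ne_top
    rw [hx, Ideal.eq_top_iff_one, Submodule.mem_colon_singleton, Submodule.mem_bot, one_smul,
      Submodule.Quotient.mk_eq_zero]
    exact hxN
  -- p ≤ q
  have hpq : p ≤ q := by
    have h1 : Module.annihilator A M ≤ q := by
      refine le_trans ?_ hq'.annihilator_le
      intro a ha
      rw [Submodule.mem_annihilator]
      intro y _
      obtain ⟨y, rfl⟩ := Submodule.Quotient.mk_surjective N y
      rw [← Submodule.Quotient.mk_smul, Module.mem_annihilator.mp ha y, Submodule.Quotient.mk_zero]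
    obtain ⟨p', hp', hp'q⟩ := Ideal.exists_minimalPrimes_le h1
    have : p' ∈ associatedPrimes A M := Module.associatedPrimes.minimalPrimes_annihilator_subset_associatedPrimes A M hp'
    rw [hp] at this
    rw [Set.mem_singleton_iff.mp this] at hp'q
    exact hp'q
  obtain rfl : q = p := le_antisymm hqp1 hpq
  obtain ⟨_, ψ, hψ⟩ := (isAssociatedPrime_iff_exists_injective_linearMap q (M ⧸ N)).mp hq'
  -- candidates
  let C : A → Submodule A M := fun a => Submodule.comap (a • N.mkQ) (LinearMap.range ψ)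
  have hCmul : ∀ a b : A, C a ≤ C (a * b) := by
    intro a b y hy
    obtain ⟨c, hc⟩ := hy
    refine ⟨b • c, ?_⟩
    rw [map_smul, hc]
    simp only [LinearMap.smul_apply, Submodule.mkQ_apply, smul_smul, mul_comm b a]
  obtain ⟨_, ⟨a0, rfl⟩, hmax⟩ := (wellFounded_gt (α := Submodule A M)).has_min
    (Set.range (fun a : q.primeCompl => C a.1)) ⟨_, ⟨1, rfl⟩⟩
  have ha0 : (a0 : A) ∉ q := a0.2
  have hCeq : ∀ b : A, b ∉ q → C (a0 * b) = C a0 := by
    intro b hb
    by_contra hne
    exact hmax (C (a0 * b)) ⟨⟨a0 * b, q.primeCompl.mul_mem a0.2 hb⟩, rfl⟩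
      (lt_of_le_of_ne (hCmul a0 b) (Ne.symm hne))
  have hNle : N ≤ C a0 := by
    intro y hy
    refine ⟨0, ?_⟩
    simp only [map_zero, LinearMap.smul_apply, Submodule.mkQ_apply]
    rw [(Submodule.Quotient.mk_eq_zero N).mpr hy, smul_zero]
  refine ⟨C a0, ?_, ?_, ?_⟩
  · refine lt_of_le_of_ne hNle ?_
    intro heq
    obtain ⟨x, hx⟩ := Submodule.Quotient.mk_surjective N (ψ 1)
    have hxC : x ∈ C a0 := by
      refine ⟨(a0 : A) • 1, ?_⟩
      rw [map_smul, ← hx]
      rfl
    rw [← heq] at hxC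
    have h0 : ψ 1 = 0 := by rw [← hx]; exact (Submodule.Quotient.mk_eq_zero N).mpr hxC
    have h1 : (1 : A ⧸ q) = 0 := hψ (by rw [h0, map_zero])
    exact one_ne_zero h1
  · intro b hb y hy
    have : y ∈ C (a0 * b) := by
      obtain ⟨c, hc⟩ := hy
      refine ⟨c, ?_⟩
      rw [hc]
      simp only [LinearMap.smul_apply, Submodule.mkQ_apply, Submodule.Quotient.mk_smul, smul_smul]
    rw [hCeq b hb] at this
    exact this
  · let φ : ↥(C a0) →ₗ[A] ↥(LinearMap.range ψ) :=
      (((a0 : A) • N.mkQ).comp (C a0).subtype).codRestrict (LinearMap.range ψ) (fun y => y.2)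
    let φ2 : ↥(C a0) →ₗ[A] (A ⧸ q) := (LinearEquiv.ofInjective ψ hψ).symm.toLinearMap.comp φ
    have hker : LinearMap.ker φ2 = Submodule.comap (C a0).subtype N := by
      ext y
      rw [LinearMap.mem_ker, Submodule.mem_comap]
      simp only [φ2, LinearMap.comp_apply, LinearEquiv.coe_coe,
        LinearEquiv.map_eq_zero_iff]
      rw [← Subtype.coe_inj]
      simp only [φ, LinearMap.codRestrict_apply, LinearMap.comp_apply, Submodule.subtype_apply,
        LinearMap.smul_apply, Submodule.mkQ_apply, ZeroMemClass.coe_zero]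
      rw [← Submodule.Quotient.mk_smul, Submodule.Quotient.mk_eq_zero]
      exact ⟨fun h => hsat _ ha0 _ h, fun h => N.smul_mem _ h⟩
    refine ⟨Submodule.liftQ _ φ2 hker.ge, ?_⟩
    rw [← LinearMap.ker_eq_bot]
    exact Submodule.ker_liftQ_eq_bot _ _ _ hker.le

/-- A finite module over a Noetherian ring with a single associated prime `p` has a finite
filtration with graded pieces embedding into `A ⧸ p`. -/
theorem main [IsNoetherianRing A] [Module.Finite A M] (p : Ideal A)
    (hp : associatedPrimes A M = {p}) : DescFilt p (⊤ : Submodule A M) := by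
  haveI : IsNoetherian A M := isNoetherian_of_isNoetherianRing_of_finite A M
  let S : Set (Submodule A M) := {N | (∀ a : A, a ∉ p → ∀ y : M, a • y ∈ N → y ∈ N) ∧ DescFilt p N}
  have hbot : (⊥ : Submodule A M) ∈ S := by
    refine ⟨?_, descFilt_bot p⟩
    intro a ha y hy
    by_contra hy0
    obtain ⟨P, hP, hle⟩ := exists_le_isAssociatedPrime_of_isNoetherianRing A y hy0
    have hPp : P ∈ associatedPrimes A M := hP
    rw [hp, Set.mem_singleton_iff] at hPp
    subst hPp
    exact ha (hle (Submodule.mem_colon_singleton.mpr hy))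
  obtain ⟨N, ⟨hsat, hfilt⟩, hmax⟩ := (wellFounded_gt (α := Submodule A M)).has_min S ⟨⊥, hbot⟩
  by_cases hN : N = ⊤
  · exact hN ▸ hfilt
  · obtain ⟨N', hlt, hsat', hg⟩ := exists_step p hp N hsat hN
    exact absurd hlt (hmax N' ⟨hsat', descFilt_step p N N' hfilt hlt.le hg⟩)

end CoprimFiltH8
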