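import Mathlib
import Groth.Prelude.Def_Wider
import Groth.Prelude.Def_W4bk5brsh16IT
import Groth.Agent.Lib.LocCohDTExact_helper7
import Groth.Agent.Lib.CoprimFilt_helper8

/-!
# Finiteness of `H^1_I(M)` is detected on the associated primes (helper6, S1763)

`FD I N` says that the ideal transform `D_I(N)` is a finite module.  For finite `N` this is
equivalent to finiteness of `H^1_I(N)`.  `D_I` is left exact, so `FD` passes to submodules and
extensions; a primary decomposition of `0` in `M` together with the filtration of coprimary modules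
(helper8) reduce `FD M` to `FD (A ⧸ p)` for `p ∈ Ass M`.
-/

set_option autoImplicit false
universe u

open CategoryTheory LocCoh

namespace Groth.Agent.Lib.FinH1Ass_helper6

open Groth.Agent.Lib.DT_helper3 Groth.Agent.Lib.LocCohDTH7 Groth.Agent.Lib.LocCohDTExactH7

variable {A : Type u} [CommRing A] [IsNoetherianRing A] (I : Ideal A)

/-- finiteness of the ideal transform -/
def FD (N : Type u) [AddCommGroup N] [Module A N] : Prop := Module.Finite A (DT I N)

section basic

variable {N N' N'' : Type u} [AddCommGroup N] [Module A N] [AddCommGroup N'] [Module A N']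
  [AddCommGroup N''] [Module A N'']

theorem FD_of_injective (f : N →ₗ[A] N') (hf : Function.Injective f) (h : FD I N') : FD I N := by
  unfold FD at h ⊢
  haveI := h
  haveI : IsNoetherian A (DT I N') := isNoetherian_of_isNoetherianRing_of_finite A _
  exact Module.Finite.of_injective ((idealTransform I).map (ModuleCat.ofHom f)).hom
    (D_injective I f hf)

theorem FD_congr (e : N ≃ₗ[A] N') (h : FD I N) : FD I N' :=
  FD_of_injective I e.symm.toLinearMap e.symm.injective h

theorem FD_of_exact (f : N →ₗ[A] N') (g : N' →ₗ[A] N'') (hf : Function.Injective f)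
    (hfg : Function.Exact f g) (h1 : FD I N) (h3 : FD I N'') : FD I N' := by
  unfold FD at h1 h3 ⊢
  haveI := h1
  haveI := h3
  haveI : IsNoetherian A (DT I N) := isNoetherian_of_isNoetherianRing_of_finite A _
  haveI : IsNoetherian A (DT I N'') := isNoetherian_of_isNoetherianRing_of_finite A _
  have hker : LinearMap.range ((idealTransform I).map (ModuleCat.ofHom f)).hom =
      LinearMap.ker ((idealTransform I).map (ModuleCat.ofHom g)).hom := by
    apply le_antisymm
    · rintro _ ⟨w, rfl⟩
      exact D_comp_zero I f g hfg w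
    · intro x hx
      obtain ⟨w, hw⟩ := D_exact I f g hfg hf x hx
      exact ⟨w, hw⟩
  haveI : IsNoetherian A (DT I N') := isNoetherian_of_range_eq_ker _ _ hker
  infer_instance

theorem FD_of_isPowerTorsion (h : IsPowerTorsion I N) : FD I N := by
  unfold FD
  exact Module.Finite.of_surjective (0 : A →ₗ[A] DT I N)
    (fun x => ⟨0, by rw [DT_eq_zero_of_isPowerTorsion I h x, LinearMap.zero_apply]⟩)

theorem FD_of_subsingleton [Subsingleton N] : FD I N :=
  FD_of_isPowerTorsion I (fun m => ⟨0, fun a _ => Subsingleton.elim _ _⟩)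

theorem FD_of_two {C1 C2 : Type u} [AddCommGroup C1] [Module A C1] [AddCommGroup C2]
    [Module A C2] (f1 : N →ₗ[A] C1) (f2 : N →ₗ[A] C2)
    (h : ∀ x, f1 x = 0 → f2 x = 0 → x = 0) (h1 : FD I C1) (h2 : FD I C2) : FD I N := by
  have hK : FD I (LinearMap.ker f1) := by
    refine FD_of_injective I (f2 ∘ₗ (LinearMap.ker f1).subtype) ?_ h2
    rw [injective_iff_map_eq_zero]
    intro x hx
    exact Subtype.ext (h x.1 (LinearMap.mem_ker.1 x.2) hx)
  exact FD_of_exact I (LinearMap.ker f1).subtype f1 (Submodule.subtype_injective _)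
    (LinearMap.exact_subtype_ker_map f1) hK h1

end basic

section decomposition

variable {M : Type u} [AddCommGroup M] [Module A M]

theorem FD_quot_inf (t : Finset (Submodule A M)) (h : ∀ q ∈ t, FD I (M ⧸ q)) :
    FD I (M ⧸ t.inf id) := by
  classical
  induction t using Finset.induction_on with
  | empty =>
    haveI : Subsingleton (M ⧸ (∅ : Finset (Submodule A M)).inf id) := by
      rw [Finset.inf_empty]
      exact Submodule.Quotient.subsingleton_iff.2 rfl
    exact FD_of_subsingleton I
  | insert q t hq ih =>
    have h1 : FD I (M ⧸ q) := h q (Finset.mem_insert_self q t)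
    have h2 : FD I (M ⧸ t.inf id) := ih (fun q' hq' => h q' (Finset.mem_insert_of_mem hq'))
    have he : (insert q t).inf id = q ⊓ t.inf id := by
      rw [Finset.inf_insert]
      rfl
    refine FD_congr I (Submodule.quotEquivOfEq _ _ he.symm) ?_
    refine FD_of_two I
      ((q ⊓ t.inf id).liftQ q.mkQ (by rw [Submodule.ker_mkQ]; exact inf_le_left))
      ((q ⊓ t.inf id).liftQ (t.inf id).mkQ (by rw [Submodule.ker_mkQ]; exact inf_le_right))
      ?_ h1 h2
    intro x hx1 hx2
    obtain ⟨m, rfl⟩ := Submodule.Quotient.mk_surjective _ x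
    rw [Submodule.liftQ_apply, Submodule.mkQ_apply, Submodule.Quotient.mk_eq_zero] at hx1 hx2
    exact (Submodule.Quotient.mk_eq_zero _).2 ⟨hx1, hx2⟩

theorem ass_quot_primary (q : Submodule A M) (hq : q.IsPrimary) :
    associatedPrimes A (M ⧸ q) = {(q.colon Set.univ).radical} := by
  have hsub : ∀ P : Ideal A, IsAssociatedPrime P (M ⧸ q) → P = (q.colon Set.univ).radical := by
    rintro P ⟨hP, xb, hxb⟩
    obtain ⟨x, rfl⟩ := Submodule.Quotient.mk_surjective q xb
    have hcol : (⊥ : Submodule A (M ⧸ q)).colon ({Submodule.Quotient.mk x} : Set (M ⧸ q)) =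
        q.colon ({x} : Set M) := by
      ext r
      rw [Submodule.mem_colon_singleton, Submodule.mem_colon_singleton, Submodule.mem_bot,
        ← Submodule.Quotient.mk_smul, Submodule.Quotient.mk_eq_zero]
    rw [hcol] at hxb
    by_cases hx : x ∈ q
    · exfalso
      apply hP.ne_top
      rw [hxb, Ideal.radical_eq_top, Submodule.colon_eq_top_iff_subset,
        Set.singleton_subset_iff]
      exact hx
    · rw [hxb]
      exact hq.radical_colon_singleton_of_notMem hx
  haveI : Nontrivial (M ⧸ q) := Submodule.Quotient.nontrivial_iff.2 hq.ne_top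
  obtain ⟨P, hP⟩ := associatedPrimes.nonempty A (M ⧸ q)
  ext P'
  rw [Set.mem_singleton_iff]
  constructor
  · intro h
    exact hsub P' h
  · rintro rfl
    rw [← hsub P hP]
    exact hP

theorem FD_of_coprimary [Module.Finite A M] (p : Ideal A) (hp : associatedPrimes A M = {p})
    (hFD : FD I (A ⧸ p)) : FD I M := by
  obtain ⟨m, F, hF, h0, hl, hq⟩ := CoprimFiltH8.main p hp
  have key : ∀ i : Fin (m + 1), FD I ↥(F i) := by
    intro i
    induction i using Fin.reverseInduction with
    | last =>
      haveI : Subsingleton ↥(F (Fin.last m)) := by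
        rw [hl]
        infer_instance
      exact FD_of_subsingleton I
    | cast i ih =>
      obtain ⟨g, hg⟩ := hq i
      have h3 : FD I (↥(F i.castSucc) ⧸ Submodule.comap (F i.castSucc).subtype (F i.succ)) :=
        FD_of_injective I g hg hFD
      have hle : F i.succ ≤ F i.castSucc := hF (Fin.castSucc_le_succ i)
      refine FD_of_exact I (Submodule.inclusion hle)
        (Submodule.comap (F i.castSucc).subtype (F i.succ)).mkQ
        (Submodule.inclusion_injective hle) ?_ ih h3
      intro y
      rw [Submodule.mkQ_apply, Submodule.Quotient.mk_eq_zero, Submodule.mem_comap]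
      constructor
      · intro hy
        exact ⟨⟨y.1, hy⟩, Subtype.ext rfl⟩
      · rintro ⟨x, rfl⟩
        exact x.2
  have h1 := key 0
  rw [h0] at h1
  exact FD_congr I Submodule.topEquiv h1

theorem FD_of_ass [Module.Finite A M] (h : ∀ p ∈ associatedPrimes A M, FD I (A ⧸ p)) :
    FD I M := by
  haveI : IsNoetherian A M := isNoetherian_of_isNoetherianRing_of_finite A M
  obtain ⟨t, ht⟩ := Submodule.IsLasker.exists_isMinimalPrimaryDecomposition
    (Submodule.isLasker A M) (⊥ : Submodule A M)
  have h1 : ∀ q ∈ t, FD I (M ⧸ q) := by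
    intro q hq
    have hmem : (q.colon Set.univ).radical ∈ associatedPrimes A M :=
      ht.mem_associatedPrimes hq
    exact FD_of_coprimary I _ (ass_quot_primary q (ht.primary hq)) (h _ hmem)
  have h2 := FD_quot_inf I t h1
  exact FD_congr I (Submodule.quotEquivOfEqBot _ ht.inf_eq) h2

end decomposition

theorem FD_iff_finite_H1 (N : Type u) [AddCommGroup N] [Module A N] [Module.Finite A N] :
    FD I N ↔ Module.Finite A (LocCoh.H I 1 N) := by
  unfold FD
  constructor
  · intro h
    haveI := h
    exact Module.Finite.of_surjective (ΦD I N).hom (ΦD_surjective I N)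
  · intro h
    haveI := h
    haveI : IsNoetherian A N := isNoetherian_of_isNoetherianRing_of_finite A N
    haveI : IsNoetherian A (LocCoh.H I 1 N) := isNoetherian_of_isNoetherianRing_of_finite A _
    have hker : LinearMap.range (toDT I N) = LinearMap.ker (ΦD I N).hom := by
      apply le_antisymm
      · rintro _ ⟨m, rfl⟩
        exact ΦD_toDT I N m
      · intro x hx
        exact mem_range_of_ΦD_eq_zero I N x hx
    haveI : IsNoetherian A (DT I N) :=
      isNoetherian_of_range_eq_ker (toDT I N) (ΦD I N).hom hker
    infer_instance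

theorem FD_quot_of_le (p : Ideal A) (hIp : I ≤ p) : FD I (A ⧸ p) := by
  apply FD_of_isPowerTorsion
  intro y
  refine ⟨1, fun a ha => ?_⟩
  rw [pow_one] at ha
  obtain ⟨b, rfl⟩ := Ideal.Quotient.mk_surjective y
  rw [Algebra.smul_def, Ideal.Quotient.algebraMap_eq, ← map_mul,
    Ideal.Quotient.eq_zero_iff_mem]
  exact p.mul_mem_right b (hIp ha)

/-- S1763 -/
theorem main1763 (M : Type u) [AddCommGroup M] [Module A M] [Module.Finite A M] :
    Module.Finite A (LocCoh.H I 1 M) ↔
      ∀ p : Ideal A, p ∈ associatedPrimes A M → ¬ I ≤ p →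
        Module.Finite A (LocCoh.H I 1 (A ⧸ p)) := by
  constructor
  · intro h p hp _
    have hM : FD I M := (FD_iff_finite_H1 I M).2 h
    obtain ⟨_, f, hf⟩ := (isAssociatedPrime_iff_exists_injective_linearMap p M).1 hp
    exact (FD_iff_finite_H1 I (A ⧸ p)).1 (FD_of_injective I f hf hM)
  · intro h
    refine (FD_iff_finite_H1 I M).1 (FD_of_ass I fun p hp => ?_)
    by_cases hIp : I ≤ p
    · exact FD_quot_of_le I p hIp
    · exact (FD_iff_finite_H1 I (A ⧸ p)).2 (h p hp hIp)

end Groth.Agent.Lib.FinH1Ass_helper6
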