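import Mathlib
import Groth.Agent.Lib.SerreCore_helper5
import Groth.Agent.Lib.DimEq_helper8
import Groth.Prelude.Def_EGA4b

/-!
# Finiteness of `A^(1)` (helper9)

* `mem_range_of_forall_height_one`: in a Noetherian normal domain, an element of the fraction
  field lying in all localizations at height-one primes lies in the ring.
* `heightOneHull_subset_integralClosure`: for a universally catenary Noetherian domain with finite
  normalization, `A^(1)` is contained in the normalization.
* `heightOneHullFinite_of_finite_integralClosure` (EGA IV 5.10.17-type, S2666).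
APPEND-ONLY once landed.
-/

set_option autoImplicit false
universe u

namespace Groth.Agent.EquiCat9

open IsLocalRing

section Normal

variable (R : Type u) [CommRing R] [IsDomain R] [IsNoetherianRing R] [IsIntegrallyClosed R]
  (L : Type u) [Field L] [Algebra R L] [IsFractionRing R L]

/-- a Noetherian normal domain is the intersection of its localizations at height-one primes -/
theorem mem_range_of_forall_height_one (x : L)
    (hx : ∀ (P : Ideal R) [P.IsPrime], P.height = 1 →
      ∃ s : R, s ∉ P ∧ ∃ a : R, algebraMap R L a = algebraMap R L s * x) :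
    x ∈ Set.range (algebraMap R L) := by
  obtain ⟨a, b, hb, rfl⟩ := IsFractionRing.div_surjective (A := R) x
  have hb0 : b ≠ 0 := nonZeroDivisors.ne_zero hb
  have hbL : algebraMap R L b ≠ 0 := by
    intro h
    exact hb0 ((injective_iff_map_eq_zero (algebraMap R L)).1 (IsFractionRing.injective R L) b h)
  by_cases hab : a ∈ Ideal.span ({b} : Set R)
  · obtain ⟨c, rfl⟩ := Ideal.mem_span_singleton'.1 hab
    refine ⟨c, ?_⟩
    rw [map_mul]
    field_simp
  · exfalso
    have hne : (Ideal.Quotient.mk (Ideal.span ({b} : Set R)) a) ≠ 0 := by
      intro h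
      exact hab (Ideal.Quotient.eq_zero_iff_mem.1 h)
    obtain ⟨P, hP, hle⟩ := exists_le_isAssociatedPrime_of_isNoetherianRing R
      (Ideal.Quotient.mk (Ideal.span ({b} : Set R)) a) hne
    rw [isAssociatedPrime_iff] at hP
    obtain ⟨hPp, y, hy⟩ := hP
    haveI := hPp
    obtain ⟨c, rfl⟩ := Ideal.Quotient.mk_surjective y
    have hPc : ∀ r, r ∈ P ↔ r * c ∈ Ideal.span ({b} : Set R) := by
      intro r
      rw [hy, Submodule.mem_colon_singleton, Submodule.mem_bot, Algebra.smul_def,
        Ideal.Quotient.algebraMap_eq, ← map_mul, Ideal.Quotient.eq_zero_iff_mem]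
    have hht := Groth.Agent.SerreLib.height_eq_one_of_colon R b hb0 c P hPc
    obtain ⟨s, hsP, a', ha'⟩ := hx P hht
    apply hsP
    apply hle
    rw [Submodule.mem_colon_singleton, Submodule.mem_bot, Algebra.smul_def,
      Ideal.Quotient.algebraMap_eq, ← map_mul, Ideal.Quotient.eq_zero_iff_mem,
      Ideal.mem_span_singleton']
    refine ⟨a', ?_⟩
    apply IsFractionRing.injective R L
    rw [map_mul, map_mul, ha']
    field_simp

end Normal

section Hull

variable (A : Type u) [CommRing A] [IsDomain A] [IsNoetherianRing A]

/-- the subalgebra of the fraction field with carrier `A^(1)` -/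
noncomputable def heightOneHullSubalgebra : Subalgebra A (FractionRing A) where
  carrier := EGA4.heightOneHull A
  mul_mem' := by
    intro x y hx hy p hp hht
    obtain ⟨s₁, hs₁, a₁, h₁⟩ := hx p hht
    obtain ⟨s₂, hs₂, a₂, h₂⟩ := hy p hht
    refine ⟨s₁ * s₂, fun h => (hp.mem_or_mem h).elim hs₁ hs₂, a₁ * a₂, ?_⟩
    rw [map_mul, map_mul, h₁, h₂]
    ring
  add_mem' := by
    intro x y hx hy p hp hht
    obtain ⟨s₁, hs₁, a₁, h₁⟩ := hx p hht
    obtain ⟨s₂, hs₂, a₂, h₂⟩ := hy p hht
    refine ⟨s₁ * s₂, fun h => (hp.mem_or_mem h).elim hs₁ hs₂, a₁ * s₂ + a₂ * s₁, ?_⟩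
    rw [map_add, map_mul, map_mul, map_mul, h₁, h₂]
    ring
  algebraMap_mem' := by
    intro r p hp hht
    exact ⟨1, fun h => hp.ne_top ((Ideal.eq_top_iff_one p).2 h), r, by rw [map_one, one_mul]⟩

theorem coe_heightOneHullSubalgebra :
    (heightOneHullSubalgebra A : Set (FractionRing A)) = EGA4.heightOneHull A := rfl

/-- for a universally catenary Noetherian domain with finite normalization, `A^(1)` is contained
in the normalization -/
theorem heightOneHull_subset_integralClosure (hA : CAlg.IsUniversallyCatenary A)
    (hint : Module.Finite A (integralClosure A (FractionRing A))) :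
    heightOneHullSubalgebra A ≤ integralClosure A (FractionRing A) := by
  haveI := hint
  haveI : IsNoetherianRing (integralClosure A (FractionRing A)) :=
    Algebra.FiniteType.isNoetherianRing A _
  haveI : IsIntegrallyClosed (integralClosure A (FractionRing A)) :=
    integralClosure.isIntegrallyClosedOfFiniteExtension (FractionRing A)
  haveI : IsFractionRing (integralClosure A (FractionRing A)) (FractionRing A) :=
    integralClosure.isFractionRing_of_finite_extension (FractionRing A) (FractionRing A)
  have hinj : Function.Injective (algebraMap A (integralClosure A (FractionRing A))) := by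
    intro a b h
    apply IsFractionRing.injective A (FractionRing A)
    exact congrArg Subtype.val h
  haveI : FaithfulSMul A (integralClosure A (FractionRing A)) :=
    (faithfulSMul_iff_algebraMap_injective A _).2 hinj
  intro x hx
  have key := mem_range_of_forall_height_one (integralClosure A (FractionRing A))
    (FractionRing A) x ?_
  · obtain ⟨y, rfl⟩ := key
    exact y.2
  · intro P hP hht
    set p := P.comap (algebraMap A (integralClosure A (FractionRing A))) with hp
    haveI : p.IsPrime := Ideal.comap_isPrime _ _
    haveI : P.LiesOver p := ⟨rfl⟩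
    obtain ⟨a, b, rq, rS, ha, hb, hrq, hrS, hab⟩ :=
      Groth.Agent.DimEqH8.height_add_trdeg_eq A hA (integralClosure A (FractionRing A)) p P
    have h1 : Algebra.trdeg A (integralClosure A (FractionRing A)) = 0 := trdeg_eq_zero
    have h2 : Algebra.trdeg (A ⧸ p) ((integralClosure A (FractionRing A)) ⧸ P) = 0 :=
      trdeg_eq_zero
    rw [h1] at hrS
    rw [h2] at hrq
    have hrS0 : rS = 0 := by exact_mod_cast hrS.symm
    have hrq0 : rq = 0 := by exact_mod_cast hrq.symm
    have hab' : a = b := by omega
    have hpht : p.height = 1 := by rw [hb, ← hab', ← ha, hht]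
    obtain ⟨s, hs, a', ha'⟩ := hx p hpht
    refine ⟨algebraMap A _ s, hs, algebraMap A _ a', ?_⟩
    rw [← IsScalarTower.algebraMap_apply, ← IsScalarTower.algebraMap_apply]
    exact ha'

/-- **S2666**: for a universally catenary Noetherian domain with finite normalization, `A^(1)` is
a finite `A`-algebra -/
theorem heightOneHullFinite_of_finite_integralClosure (hA : CAlg.IsUniversallyCatenary A)
    (hint : Module.Finite A (integralClosure A (FractionRing A))) :
    EGA4.HeightOneHullFinite A := by
  refine ⟨heightOneHullSubalgebra A, rfl, ?_⟩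
  haveI := hint
  haveI : IsNoetherian A (integralClosure A (FractionRing A)) :=
    isNoetherian_of_isNoetherianRing_of_finite A _
  have hle := heightOneHull_subset_integralClosure A hA hint
  exact Module.Finite.of_injective (Subalgebra.inclusion hle).toLinearMap
    (Subalgebra.inclusion_injective hle)

end Hull

end Groth.Agent.EquiCat9
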