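import Mathlib
import Groth.Prelude.Def_Wider
import Groth.Prelude.Def_W4bk5brsh7111920
import Groth.Prelude.Def_Found
import Groth.Agent.Lib.FaltingsAnn_helper6
import Groth.Agent.Lib.HullFinite_helper9
import Groth.Agent.Lib.AnUnram_helper3
import Groth.Agent.S9126

/-!
# Finiteness of the ring of sections outside a closed subset of codimension `≥ 2` (helper6, S4723)

For a Noetherian domain `B` and an ideal `J` of height `≥ 2`, the ring
`Γ(Spec B ∖ V(J), O) = {x ∈ Frac B | x ∈ B_p for all p ⊉ J}` is a finite `B`-algebra when `B` is a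
quotient of a regular ring (via Faltings' annihilator theorem: `J^N H^1_J(B) = 0`) or when `B` is
universally catenary with finite normalization (via the height-one hull).
-/

set_option autoImplicit false
universe u

open CategoryTheory Pointwise

namespace Groth.Agent.Lib.SectionsFinite_helper6

open Groth.Agent.DepthLib Groth.Agent.Lib.InjHull_helper3 Groth.Agent.Lib.LocCohDeltaZeroH7
open Groth.Agent.Lib.LocCohFinDimH7

section Sub

variable (B : Type u) [CommRing B] [IsDomain B] (J : Ideal B)

/-- the elements of the fraction field lying in `B_p` for all primes `p ⊉ J` -/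
def secSet : Set (FractionRing B) :=
  {x | ∀ (p : Ideal B) [p.IsPrime], ¬ J ≤ p →
    ∃ s : B, s ∉ p ∧ ∃ a : B,
      algebraMap B (FractionRing B) a = algebraMap B (FractionRing B) s * x}

/-- the subalgebra with carrier `secSet` -/
noncomputable def secSub : Subalgebra B (FractionRing B) where
  carrier := secSet B J
  mul_mem' := by
    intro x y hx hy p hp hJp
    obtain ⟨s₁, hs₁, a₁, h₁⟩ := hx p hJp
    obtain ⟨s₂, hs₂, a₂, h₂⟩ := hy p hJp
    refine ⟨s₁ * s₂, fun h => (hp.mem_or_mem h).elim hs₁ hs₂, a₁ * a₂, ?_⟩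
    rw [map_mul, map_mul, h₁, h₂]
    ring
  add_mem' := by
    intro x y hx hy p hp hJp
    obtain ⟨s₁, hs₁, a₁, h₁⟩ := hx p hJp
    obtain ⟨s₂, hs₂, a₂, h₂⟩ := hy p hJp
    refine ⟨s₁ * s₂, fun h => (hp.mem_or_mem h).elim hs₁ hs₂, s₂ * a₁ + s₁ * a₂, ?_⟩
    rw [map_add, map_mul, map_mul, map_mul, h₁, h₂]
    ring
  algebraMap_mem' := by
    intro b p hp hJp
    exact ⟨1, fun h => hp.ne_top ((Ideal.eq_top_iff_one p).2 h), b, by rw [map_one, one_mul]⟩

theorem coe_secSub : (secSub B J : Set (FractionRing B)) = secSet B J := rfl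

variable [IsNoetherianRing B]

/-- the universally catenary case -/
theorem finite_case2 (hUC : CAlg.IsUniversallyCatenary B)
    (hint : Module.Finite B (integralClosure B (FractionRing B))) (hJ : (2 : ℕ∞) ≤ J.height) :
    Module.Finite B (secSub B J) := by
  obtain ⟨B'', hB'', hfin⟩ :=
    Groth.Agent.EquiCat9.heightOneHullFinite_of_finite_integralClosure B hUC hint
  haveI := hfin
  haveI : IsNoetherian B B'' := isNoetherian_of_isNoetherianRing_of_finite B _
  have hle : secSub B J ≤ B'' := by
    intro x hx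
    have h1 : x ∈ (B'' : Set (FractionRing B)) := by
      rw [hB'']
      intro p hp hht
      apply hx p
      intro hJp
      have h2 := Ideal.height_mono hJp
      rw [hht] at h2
      have h3 : ((2 : ℕ) : ℕ∞) ≤ ((1 : ℕ) : ℕ∞) := by
        refine le_trans (le_of_eq ?_) (le_trans hJ (le_trans h2 (le_of_eq ?_)))
        · norm_num
        · norm_num
      have h4 : 2 ≤ 1 := by exact_mod_cast h3
      omega
    exact h1
  exact Module.Finite.of_injective (Subalgebra.inclusion hle).toLinearMap
    (Subalgebra.inclusion_injective hle)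

theorem ne_bot_of_two_le_height (hJ : (2 : ℕ∞) ≤ J.height) : J ≠ ⊥ := by
  rintro rfl
  rw [Ideal.height_bot] at hJ
  have h3 : ((2 : ℕ) : ℕ∞) ≤ ((0 : ℕ) : ℕ∞) := by
    refine le_trans (le_of_eq ?_) (le_trans hJ (le_of_eq ?_))
    · norm_num
    · norm_num
  have h4 : 2 ≤ 0 := by exact_mod_cast h3
  omega

/-- bounded denominators: every section has a power of `J` as denominators -/
theorem exists_pow_smul_mem (x : FractionRing B) (hx : x ∈ secSet B J) :
    ∃ n : ℕ, ∀ r ∈ J ^ n, r • x ∈ LinearMap.range (Algebra.linearMap B (FractionRing B)) := by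
  set D : Ideal B := (LinearMap.range (Algebra.linearMap B (FractionRing B))).colon
    ({x} : Set (FractionRing B)) with hD
  have hrad : J ≤ D.radical := by
    rw [Ideal.radical_eq_sInf]
    refine le_sInf ?_
    rintro P ⟨hDP, hPprime⟩
    haveI := hPprime
    by_contra hJP
    obtain ⟨s, hs, a, ha⟩ := hx P hJP
    apply hs
    apply hDP
    rw [hD, Submodule.mem_colon_singleton]
    refine ⟨a, ?_⟩
    rw [Algebra.linearMap_apply, ha, Algebra.smul_def]
  obtain ⟨n, hn⟩ := Ideal.exists_pow_le_of_le_radical_of_fg hrad (IsNoetherian.noetherian J)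
  refine ⟨n, fun r hr => ?_⟩
  have h1 := hn hr
  rw [hD, Submodule.mem_colon_singleton] at h1
  exact h1

/-- the regular-quotient case, given the annihilation of `H^1_J(B)` -/
theorem finite_case1 (hJ : (2 : ℕ∞) ≤ J.height) (N : ℕ)
    (hN : ∀ r ∈ J ^ N, ∀ z : LocCoh.H J 1 B, r • z = 0) :
    Module.Finite B (secSub B J) := by
  classical
  have hJ0 : J ≠ ⊥ := ne_bot_of_two_le_height B J hJ
  set ι : B →ₗ[B] FractionRing B := Algebra.linearMap B (FractionRing B) with hι'
  have hι : Function.Injective ι := IsFractionRing.injective B (FractionRing B)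
  have hg : Function.Surjective (LinearMap.range ι).mkQ := Submodule.mkQ_surjective _
  have hfg : Function.Exact ι (LinearMap.range ι).mkQ := LinearMap.exact_map_mkQ_range ι
  -- `Γ_J(K) = 0`
  have hΓK : ∀ y : FractionRing B, y ∈ Γ J (FractionRing B) → y = 0 := by
    intro y hy
    obtain ⟨m, hm⟩ := (mem_Γ_iff J y).1 hy
    have hne : J ^ m ≠ ⊥ := pow_ne_zero m hJ0
    obtain ⟨s, hs, hs0⟩ := Submodule.exists_mem_ne_zero_of_ne_bot hne
    have h1 := hm s hs
    rw [Algebra.smul_def] at h1
    rcases mul_eq_zero.1 h1 with h2 | h2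
    · exact absurd ((injective_iff_map_eq_zero (algebraMap B (FractionRing B))).1
        (IsFractionRing.injective B (FractionRing B)) s h2) hs0
    · exact h2
  -- uniform denominators
  have hunif : ∀ x : FractionRing B, x ∈ secSet B J → ∀ r ∈ J ^ N,
      r • x ∈ LinearMap.range ι := by
    intro x hx r hr
    obtain ⟨n, hn⟩ := exists_pow_smul_mem B J x hx
    have hxΓ : (LinearMap.range ι).mkQ x ∈ Γ J (FractionRing B ⧸ LinearMap.range ι) := by
      rw [mem_Γ_iff]
      refine ⟨n, fun a ha => ?_⟩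
      rw [← map_smul, Submodule.mkQ_apply, Submodule.Quotient.mk_eq_zero]
      exact hn a ha
    have h1 : cMap J ι (LinearMap.range ι).mkQ hι hg hfg
        (r • (⟨(LinearMap.range ι).mkQ x, hxΓ⟩ : ↥(Γ J (FractionRing B ⧸ LinearMap.range ι)))) =
        0 := by
      rw [map_smul]
      exact hN r hr _
    obtain ⟨y, hyΓ, hy⟩ := (cMap_eq_zero_iff J ι (LinearMap.range ι).mkQ hι hg hfg _).1 h1
    have hy0 : y = 0 := hΓK y hyΓ
    have hy' : (LinearMap.range ι).mkQ y = r • (LinearMap.range ι).mkQ x := hy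
    rw [hy0, map_zero, ← map_smul, Submodule.mkQ_apply] at hy'
    exact (Submodule.Quotient.mk_eq_zero _).1 hy'.symm
  -- embed into `B`
  have hne : J ^ N ≠ ⊥ := pow_ne_zero N hJ0
  obtain ⟨s, hs, hs0⟩ := Submodule.exists_mem_ne_zero_of_ne_bot hne
  let ψ : ↥(secSub B J) →ₗ[B] FractionRing B := s • (secSub B J).val.toLinearMap
  have hψ : ∀ x : ↥(secSub B J), ψ x ∈ LinearMap.range ι := by
    intro x
    exact hunif x.1 x.2 s hs
  let φ : ↥(secSub B J) →ₗ[B] B :=
    (LinearEquiv.ofInjective ι hι).symm.toLinearMap ∘ₗ LinearMap.codRestrict (LinearMap.range ι) ψ hψ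
  have hφ : Function.Injective φ := by
    intro x y hxy
    have h1 : LinearMap.codRestrict (LinearMap.range ι) ψ hψ x =
        LinearMap.codRestrict (LinearMap.range ι) ψ hψ y :=
      (LinearEquiv.ofInjective ι hι).symm.injective hxy
    have h2 : ψ x = ψ y := congrArg Subtype.val h1
    have h3 : s • (x : FractionRing B) = s • (y : FractionRing B) := h2
    rw [Algebra.smul_def, Algebra.smul_def] at h3
    have hsK : algebraMap B (FractionRing B) s ≠ 0 := by
      intro h0
      exact hs0 ((injective_iff_map_eq_zero (algebraMap B (FractionRing B))).1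
        (IsFractionRing.injective B (FractionRing B)) s h0)
    exact Subtype.ext (mul_left_cancel₀ hsK h3)
  exact Module.Finite.of_injective φ hφ

end Sub

section Faltings

variable (R : Type u) [CommRing R] [IsRegularRing R] (B : Type u) [CommRing B] [IsDomain B]
  [IsNoetherianRing B] (π : R →+* B) (hπ : Function.Surjective π) (J : Ideal B)

include hπ in
theorem kb_H1 (hJ : (2 : ℕ∞) ≤ J.height) :
    ∃ N : ℕ, ∀ r ∈ J ^ N, ∀ z : LocCoh.H J 1 B, r • z = 0 := by
  have key : ((2 : ℕ) : ℕ∞) ≤ LocCoh.minAdjDepth J J B := by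
    unfold LocCoh.minAdjDepth
    refine le_iInf₂ fun p hJp => ?_
    unfold LocCoh.adjDepth
    by_cases hp0 : p.asIdeal = ⊥
    · refine le_trans ?_ le_add_self
      have hker : RingHom.ker (RingHom.id B) = p.asIdeal := by
        rw [hp0]
        ext x
        simp [RingHom.mem_ker]
      rw [Groth.Agent.Lib.AdjDepth_helper6.height_quot_eq (RingHom.id B)
        Function.surjective_id J p.asIdeal hker, Ideal.map_id]
      refine le_trans (le_of_eq ?_) hJ
      norm_num
    · have h1 : 1 ≤ ((J ⊔ p.asIdeal).map (Ideal.Quotient.mk p.asIdeal)).height := by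
        rw [ENat.one_le_iff_ne_zero]
        intro h0
        rw [Ideal.height_eq_zero_iff_eq_bot] at h0
        have h2 : J ⊔ p.asIdeal ≤ p.asIdeal := by
          have := (Ideal.map_eq_bot_iff_le_ker (Ideal.Quotient.mk p.asIdeal)).1 h0
          rwa [Ideal.mk_ker] at this
        exact hJp (le_trans le_sup_left h2)
      have h2 : 1 ≤ LocCoh.depth (Localization.AtPrime p.asIdeal)
          (LocalizedModule p.asIdeal.primeCompl B) := by
        rw [depth_locSelf]
        unfold LocCoh.depth
        rw [one_le_idealDepth_iff]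
        right
        obtain ⟨a, ha, ha0⟩ := Submodule.exists_mem_ne_zero_of_ne_bot hp0
        refine ⟨algebraMap B (Localization.AtPrime p.asIdeal) a, ?_, ?_⟩
        · exact (IsLocalization.AtPrime.to_map_mem_maximal_iff _ p.asIdeal a).2 ha
        · haveI : IsDomain (Localization.AtPrime p.asIdeal) :=
            IsLocalization.isDomain_localization p.asIdeal.primeCompl_le_nonZeroDivisors
          have hne : algebraMap B (Localization.AtPrime p.asIdeal) a ≠ 0 := by
            intro h0
            exact ha0 ((injective_iff_map_eq_zero _).1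
              (IsLocalization.injective (Localization.AtPrime p.asIdeal)
                p.asIdeal.primeCompl_le_nonZeroDivisors) a h0)
          exact (isRegular_of_ne_zero hne).left.isSMulRegular
      have h3 : ((2 : ℕ) : ℕ∞) = 1 + 1 := by norm_num
      rw [h3]
      exact add_le_add h2 h1
  have hlt : ((1 : ℕ) : ℕ∞) < LocCoh.finDimRel J J B :=
    lt_of_lt_of_le (lt_of_lt_of_le (by exact_mod_cast Nat.lt_succ_self 1) key)
      (Groth.Agent.Lib.FaltingsAnn_helper6.main R B π hπ J J B)
  have hle : J ≤ (Module.annihilator B (LocCoh.H J 1 B)).radical := by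
    by_contra hne
    have h1 : LocCoh.finDimRel J J B ≤ ((1 : ℕ) : ℕ∞) := by
      unfold LocCoh.finDimRel
      exact iInf₂_le 1 hne
    exact absurd (lt_of_lt_of_le hlt h1) (lt_irrefl _)
  obtain ⟨N, hN⟩ := Ideal.exists_pow_le_of_le_radical_of_fg hle (IsNoetherian.noetherian J)
  exact ⟨N, fun r hr z => Module.mem_annihilator.1 (hN hr) z⟩

end Faltings

/-- S4723 -/
theorem main (A : Type u) [CommRing A] [IsNoetherianRing A]
    (hA : (∃ (R : Type u) (_ : CommRing R), IsNoetherianRing R ∧ IsRegularRing R ∧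
        ∃ f : R →+* A, Function.Surjective f) ∨
      (CAlg.IsUniversallyCatenary A ∧ CAlg.IsUniversallyJapanese A))
    (q : Ideal A) [q.IsPrime] (J : Ideal (A ⧸ q)) (hJ2 : (2 : ℕ∞) ≤ J.height) :
    ∃ B' : Subalgebra (A ⧸ q) (FractionRing (A ⧸ q)),
      (B' : Set (FractionRing (A ⧸ q))) =
          {x | ∀ (p : Ideal (A ⧸ q)) [p.IsPrime], ¬ J ≤ p →
            ∃ s : A ⧸ q, s ∉ p ∧ ∃ a : A ⧸ q,
              algebraMap (A ⧸ q) (FractionRing (A ⧸ q)) a =
                algebraMap (A ⧸ q) (FractionRing (A ⧸ q)) s * x} ∧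
        Module.Finite (A ⧸ q) B' := by
  refine ⟨secSub (A ⧸ q) J, rfl, ?_⟩
  rcases hA with ⟨R, hRring, hRn, hRreg, f, hf⟩ | ⟨hUC, hUJ⟩
  · obtain ⟨N, hN⟩ := kb_H1 R (A ⧸ q) ((Ideal.Quotient.mk q).comp f)
      (Ideal.Quotient.mk_surjective.comp hf) J hJ2
    exact finite_case1 (A ⧸ q) J hJ2 N hN
  · have hUC' : CAlg.IsUniversallyCatenary (A ⧸ q) := Groth.Agent.S9126.result A (A ⧸ q) hUC
    have hN2 : CAlg.IsN2 (A ⧸ q) := hUJ (A ⧸ q) inferInstance
    have hN1 : CAlg.IsN1 (A ⧸ q) := Groth.Agent.Lib.AnUnramH3.isN1_of_isN2 (A ⧸ q) hN2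
    exact finite_case2 (A ⧸ q) J hUC' hN1 hJ2

end Groth.Agent.Lib.SectionsFinite_helper6
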