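import Mathlib
import Groth.Prelude.Def_Wider
import Groth.Prelude.Def_Found
import Groth.Agent.Lib.SectionsFinite_helper6
import Groth.Agent.Lib.FinH1Ass_helper6
import Groth.Agent.Lib.FaltingsCM_helper6
import Groth.Agent.Lib.LocCohFin_helper7
import Groth.Agent.Lib.LocCohBaseIndep_helper7

/-!
# Finiteness of `H^1_I(M)` over Nagata universally catenary rings (helper6, S1771)

For a Noetherian domain `B` and a nonzero ideal `J`, every element of `D_J(B)` is represented by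
a fraction lying in the ring of sections over `Spec B ∖ V(J)`.  If that ring is a finite
`B`-module, some power of `J` kills `H^1_J(B)`.  Together with the reduction to associated primes
(`FinH1Ass_helper6`) this gives the finiteness of `H^1_I(M)`.
-/

set_option autoImplicit false
universe u

open CategoryTheory LocCoh

namespace Groth.Agent.Lib.FinH1Nagata_helper6

open Groth.Agent.Lib.DT_helper3 Groth.Agent.Lib.LocCohDTH7
open Groth.Agent.Lib.SectionsFinite_helper6 Groth.Agent.Lib.InjHull_helper3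

section Domain

variable (B : Type u) [CommRing B] [IsDomain B] [IsNoetherianRing B] (J : Ideal B)

theorem exists_frac (hJ0 : J ≠ ⊥) (n : ℕ) (φ : ↥(J ^ n) →ₗ[B] B) :
    ∃ x ∈ secSet B J, ∀ b : ↥(J ^ n),
      algebraMap B (FractionRing B) (φ b) = algebraMap B (FractionRing B) (b : B) * x := by
  have hne : J ^ n ≠ ⊥ := pow_ne_zero n hJ0
  obtain ⟨a, ha, ha0⟩ := Submodule.exists_mem_ne_zero_of_ne_bot hne
  have hιa : algebraMap B (FractionRing B) a ≠ 0 := by
    intro h0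
    exact ha0 ((injective_iff_map_eq_zero (algebraMap B (FractionRing B))).1
      (IsFractionRing.injective B (FractionRing B)) a h0)
  have hcomm : ∀ b : ↥(J ^ n), φ b * a = (b : B) * φ ⟨a, ha⟩ := by
    intro b
    have e1 : a • b = (b : B) • (⟨a, ha⟩ : ↥(J ^ n)) := by
      apply Subtype.ext
      show a * (b : B) = (b : B) * a
      exact mul_comm _ _
    have e2 := congrArg φ e1
    rw [map_smul, map_smul, smul_eq_mul, smul_eq_mul] at e2
    exact (mul_comm _ _).trans e2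
  have hform : ∀ b : ↥(J ^ n), algebraMap B (FractionRing B) (φ b) =
      algebraMap B (FractionRing B) (b : B) *
        (algebraMap B (FractionRing B) (φ ⟨a, ha⟩) / algebraMap B (FractionRing B) a) := by
    intro b
    rw [← mul_div_assoc, eq_div_iff hιa, ← map_mul, ← map_mul, hcomm b]
  refine ⟨algebraMap B (FractionRing B) (φ ⟨a, ha⟩) / algebraMap B (FractionRing B) a, ?_, hform⟩
  intro P hP hJP
  obtain ⟨s, hsJ, hsP⟩ := SetLike.not_le_iff_exists.1 hJP
  refine ⟨s ^ n, fun h => hsP (hP.mem_of_pow_mem n h), φ ⟨s ^ n, Ideal.pow_mem_pow hsJ n⟩, ?_⟩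
  exact hform ⟨s ^ n, Ideal.pow_mem_pow hsJ n⟩

theorem exists_uniform (hfin : Module.Finite B (secSub B J)) :
    ∃ N : ℕ, ∀ r ∈ J ^ N, ∀ x ∈ secSet B J,
      r • x ∈ LinearMap.range (Algebra.linearMap B (FractionRing B)) := by
  classical
  obtain ⟨k, s, hs⟩ := Module.Finite.exists_fin (R := B) (M := ↥(secSub B J))
  choose n hn using fun i : Fin k => exists_pow_smul_mem B J (s i).1 (s i).2
  refine ⟨∑ i, n i, fun r hr x hx => ?_⟩
  let ψ : ↥(secSub B J) →ₗ[B] FractionRing B := r • (secSub B J).val.toLinearMap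
  have hT : Submodule.span B (Set.range s) ≤
      Submodule.comap ψ (LinearMap.range (Algebra.linearMap B (FractionRing B))) := by
    rw [Submodule.span_le]
    rintro _ ⟨i, rfl⟩
    exact hn i r (Ideal.pow_le_pow_right
      (Finset.single_le_sum (fun _ _ => Nat.zero_le _) (Finset.mem_univ i)) hr)
  have hmem : (⟨x, hx⟩ : ↥(secSub B J)) ∈ Submodule.span B (Set.range s) := by
    rw [hs]
    trivial
  exact hT hmem

theorem kill_H1 (hJ0 : J ≠ ⊥) (hfin : Module.Finite B (secSub B J)) :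
    ∃ N : ℕ, ∀ r ∈ J ^ N, ∀ z : LocCoh.H J 1 B, r • z = 0 := by
  obtain ⟨N, hN⟩ := exists_uniform B J hfin
  refine ⟨N, fun r hr z => ?_⟩
  obtain ⟨w, rfl⟩ := ΦD_surjective J B z
  obtain ⟨n, φ, rfl⟩ := exists_cls J w
  obtain ⟨x, hx, hform⟩ := exists_frac B J hJ0 n φ
  obtain ⟨c, hc⟩ := hN r hr x hx
  have hc' : algebraMap B (FractionRing B) c = algebraMap B (FractionRing B) r * x := by
    rw [← Algebra.linearMap_apply, hc, Algebra.smul_def]
  have hφ : r • φ = smulMap J n c := by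
    apply LinearMap.ext
    intro b
    apply IsFractionRing.injective B (FractionRing B)
    rw [LinearMap.smul_apply, smulMap_apply, smul_eq_mul, smul_eq_mul, map_mul, map_mul,
      hform b, hc']
    ring
  have e1 : r • (ΦD J B).hom (cls J n φ) = (ΦD J B).hom (cls J n (r • φ)) := by
    rw [map_smul (cls J n) r φ, map_smul]
  rw [e1, hφ, ← toDT_eq_cls' J n c]
  exact ΦD_toDT J B c

end Domain

/-- S1771 -/
theorem main1771 (A : Type u) [CommRing A] [IsNoetherianRing A] (hN : CAlg.IsNagata A)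
    (hU : CAlg.IsUniversallyCatenary A) (I : Ideal A) (M : Type u) [AddCommGroup M] [Module A M]
    [Module.Finite A M]
    (h : ∀ (p q : PrimeSpectrum A) (hpq : p ≤ q), p.asIdeal ∈ associatedPrimes A M →
      ¬ I ≤ p.asIdeal → I ≤ q.asIdeal → (2 : ℕ∞) ≤ Order.height (⟨q, hpq⟩ : Set.Ici p)) :
    Module.Finite A (LocCoh.H I 1 M) := by
  rw [Groth.Agent.Lib.FinH1Ass_helper6.main1763 I M]
  intro p hp hIp
  haveI hpp : p.IsPrime := IsAssociatedPrime.isPrime hp
  have hJ2 : (2 : ℕ∞) ≤ (I.map (algebraMap A (A ⧸ p))).height := by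
    rw [Ideal.height_eq_inf_minimalPrimes]
    refine le_iInf₂ fun Q hQ => ?_
    haveI hQp : Q.IsPrime := hQ.1.1
    have hIQ : I ≤ Q.comap (Ideal.Quotient.mk p) := Ideal.map_le_iff_le_comap.1 hQ.1.2
    have hpQ : p ≤ Q.comap (Ideal.Quotient.mk p) := by
      intro a ha
      rw [Ideal.mem_comap, Ideal.Quotient.eq_zero_iff_mem.2 ha]
      exact Q.zero_mem
    have hpq : (⟨p, hpp⟩ : PrimeSpectrum A) ≤ ⟨Q.comap (Ideal.Quotient.mk p), inferInstance⟩ := hpQ
    have h1 := h ⟨p, hpp⟩ ⟨Q.comap (Ideal.Quotient.mk p), inferInstance⟩ hpq hp hIp hIQ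
    rw [Groth.Agent.Lib.FaltingsCM_helper6.height_Ici_eq] at h1
    have h2 : (Q.comap (Ideal.Quotient.mk p)).map (Ideal.Quotient.mk p) = Q :=
      Ideal.map_comap_of_surjective _ Ideal.Quotient.mk_surjective Q
    change (2 : ℕ∞) ≤ ((Q.comap (Ideal.Quotient.mk p)).map (Ideal.Quotient.mk p)).height at h1
    rw [h2] at h1
    exact h1
  have hUC' : CAlg.IsUniversallyCatenary (A ⧸ p) := Groth.Agent.S9126.result A (A ⧸ p) hU
  have hN1 : CAlg.IsN1 (A ⧸ p) :=
    Groth.Agent.Lib.AnUnramH3.isN1_of_isN2 (A ⧸ p) (hN.2 p)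
  have hfin := finite_case2 (A ⧸ p) (I.map (algebraMap A (A ⧸ p))) hUC' hN1 hJ2
  have hJ0 := ne_bot_of_two_le_height (A ⧸ p) (I.map (algebraMap A (A ⧸ p))) hJ2
  obtain ⟨N, hN'⟩ := kill_H1 (A ⧸ p) (I.map (algebraMap A (A ⧸ p))) hJ0 hfin
  obtain ⟨φ, hφ⟩ := Groth.Agent.Lib.LocCohBaseIndepH7.main (R := A) (A ⧸ p) I 1 (A ⧸ p)
  have hk1 : ∀ a ∈ I ^ N, ∀ z : LocCoh.H I 1 (A ⧸ p), a • z = 0 := by
    intro a ha z
    have h1 := hφ a (φ.symm z)
    rw [AddEquiv.apply_symm_apply] at h1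
    have hmem : algebraMap A (A ⧸ p) a ∈ (I.map (algebraMap A (A ⧸ p))) ^ N := by
      rw [← Ideal.map_pow]
      exact Ideal.mem_map_of_mem _ ha
    rw [← h1, hN' _ hmem (φ.symm z), map_zero]
  have hk0 : ∀ z : LocCoh.H I 0 (A ⧸ p), z = 0 := by
    obtain ⟨e⟩ := Groth.Agent.Lib.LocCohDeltaZeroH7.H0_equiv' I (A ⧸ p)
    intro z
    have hz := (e z).2
    obtain ⟨m, hm⟩ := (mem_Γ_iff I _).1 hz
    obtain ⟨s, hsI, hsp⟩ := SetLike.not_le_iff_exists.1 hIp
    have h1 := hm (s ^ m) (Ideal.pow_mem_pow hsI m)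
    obtain ⟨b, hb⟩ := Ideal.Quotient.mk_surjective (e z).1
    rw [← hb, Algebra.smul_def, Ideal.Quotient.algebraMap_eq, ← map_mul,
      Ideal.Quotient.eq_zero_iff_mem] at h1
    have hbp : b ∈ p := (hpp.mem_or_mem h1).resolve_left
      (fun hs => hsp (hpp.mem_of_pow_mem m hs))
    have h2 : (e z).1 = 0 := by
      rw [← hb]
      exact Ideal.Quotient.eq_zero_iff_mem.2 hbp
    have h3 : e z = 0 := Subtype.ext h2
    exact e.map_eq_zero_iff.1 h3
  refine (Groth.Agent.Lib.LocCohFinH7.main I (A ⧸ p) 1).2 ⟨I ^ N, ?_, ?_⟩ 1 le_rfl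
  · intro x hx
    exact ⟨N, Ideal.pow_mem_pow hx N⟩
  · intro i hi a ha x
    interval_cases i
    · rw [hk0 x, smul_zero]
    · exact hk1 a ha x

end Groth.Agent.Lib.FinH1Nagata_helper6
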