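import Mathlib

set_option autoImplicit false
universe u

/-!
# Sections of `M^~` over opens of `Spec R` and power torsion (helper3)
-/

namespace Groth.Agent.Lib.TildeSecH3

open AlgebraicGeometry CategoryTheory TopologicalSpace Opposite PrimeSpectrum

variable {R : CommRingCat.{u}} (M : ModuleCat.{u} R)

/-- Sections of `M^~` over `W`, as an `R`-module. -/
noncomputable abbrev Sec (W : (Spec R).Opens) : ModuleCat.{u} R :=
  (modulesSpecToSheaf.obj (tilde M)).presheaf.obj (op W)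

/-- Restriction of sections, as an `R`-linear map. -/
noncomputable def res {W V : (Spec R).Opens} (h : V ≤ W) : Sec M W →ₗ[R] Sec M V :=
  ((modulesSpecToSheaf.obj (tilde M)).presheaf.map (homOfLE h).op).hom

theorem res_res {W V V' : (Spec R).Opens} (h1 : V ≤ W) (h2 : V' ≤ V) (s : Sec M W) :
    res M h2 (res M h1 s) = res M (h2.trans h1) s := by
  unfold res
  rw [← LinearMap.comp_apply, ← ModuleCat.hom_comp, ← Functor.map_comp]
  rfl

theorem res_self {W : (Spec R).Opens} (s : Sec M W) : res M (le_refl W) s = s := by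
  unfold res
  have : (homOfLE (le_refl W)).op = 𝟙 (op W) := rfl
  rw [this, CategoryTheory.Functor.map_id]
  rfl

theorem res_toOpen {W V : (Spec R).Opens} (h : V ≤ W) (x : M) :
    res M h ((tilde.toOpen M W).hom x) = (tilde.toOpen M V).hom x := rfl

theorem eq_zero_of_locally {W : (Spec R).Opens} (s : Sec M W)
    (h : ∀ p ∈ W, ∃ (V : (Spec R).Opens) (hVW : V ≤ W), p ∈ V ∧ res M hVW s = 0) : s = 0 := by
  choose V hVW hpV hs using h
  refine TopCat.Sheaf.eq_of_locally_eq' (modulesSpecToSheaf.obj (tilde M))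
    (fun p : W => V p.1 p.2) W (fun p => homOfLE (hVW p.1 p.2)) ?_ s 0 ?_
  · intro p hp
    simp only [Opens.mem_iSup]
    exact ⟨⟨p, hp⟩, hpV p hp⟩
  · intro p
    have h1 := hs p.1 p.2
    rw [map_zero]
    exact h1


theorem core (g f : R) (s : Sec M (basicOpen g))
    (hs : res M (basicOpen_mul_le_left g f) s = 0) : ∃ l : ℕ, f ^ l • s = 0 := by
  obtain ⟨⟨m, ⟨_, k, rfl⟩⟩, hm⟩ := IsLocalizedModule.surj (Submonoid.powers g)
    (tilde.toOpen M (basicOpen g)).hom s
  have hm' : g ^ k • s = (tilde.toOpen M (basicOpen g)).hom m := hm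
  have h1 : (tilde.toOpen M (basicOpen (g * f))).hom m = 0 := by
    rw [← res_toOpen M (basicOpen_mul_le_left g f) m, ← hm', map_smul, hs, smul_zero]
  obtain ⟨⟨_, l, rfl⟩, hl⟩ := (IsLocalizedModule.eq_zero_iff (Submonoid.powers (g * f))
    (tilde.toOpen M (basicOpen (g * f))).hom).mp h1
  have hl' : (g * f) ^ l • m = 0 := hl
  refine ⟨l, ?_⟩
  have h2 : g ^ (l + k) • (f ^ l • s) = 0 := by
    calc g ^ (l + k) • (f ^ l • s) = (g * f) ^ l • (g ^ k • s) := by
          rw [smul_smul, smul_smul]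
          congr 1
          ring
      _ = (g * f) ^ l • ((tilde.toOpen M (basicOpen g)).hom m) := by rw [hm']
      _ = (tilde.toOpen M (basicOpen g)).hom ((g * f) ^ l • m) := (map_smul _ _ _).symm
      _ = 0 := by rw [hl', map_zero]
  have hreg : IsSMulRegular (Sec M (basicOpen g)) (g ^ (l + k)) :=
    (Scheme.Modules.isSMulRegular_of_le_basicOpen (M := tilde M) (le_refl _)).pow _
  exact hreg (show g ^ (l + k) • (f ^ l • s) = g ^ (l + k) • (0 : Sec M (basicOpen g)) by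
    rw [h2, smul_zero])

theorem exists_pow_smul_eq_zero {W V : (Spec R).Opens} (T : Finset R)
    (hTW : ∀ g ∈ T, (basicOpen g : (Spec R).Opens) ≤ W)
    (hcov : ∀ p ∈ W, ∃ g ∈ T, p ∈ (basicOpen g : (Spec R).Opens))
    (f : R) (hVW : V ≤ W) (hV : ∀ g ∈ T, (basicOpen (g * f) : (Spec R).Opens) ≤ V)
    (s : Sec M W) (hs : res M hVW s = 0) : ∃ n : ℕ, f ^ n • s = 0 := by
  have h1 : ∀ g : T, ∃ l : ℕ, f ^ l • res M (hTW g.1 g.2) s = 0 := by
    intro g
    apply core M g.1 f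
    rw [res_res]
    have : res M ((hV g.1 g.2).trans hVW) s = res M (hV g.1 g.2) (res M hVW s) :=
      (res_res M hVW (hV g.1 g.2) s).symm
    rw [this, hs, map_zero]
  choose l hl using h1
  refine ⟨T.attach.sup l, ?_⟩
  apply eq_zero_of_locally
  intro p hp
  obtain ⟨g, hg, hpg⟩ := hcov p hp
  refine ⟨basicOpen g, hTW g hg, hpg, ?_⟩
  rw [map_smul]
  have hle : l ⟨g, hg⟩ ≤ T.attach.sup l := Finset.le_sup (Finset.mem_attach T ⟨g, hg⟩)
  have : T.attach.sup l = (T.attach.sup l - l ⟨g, hg⟩) + l ⟨g, hg⟩ :=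
    (Nat.sub_add_cancel hle).symm
  rw [this, pow_add, mul_smul, hl ⟨g, hg⟩, smul_zero]

theorem exists_finset_cover [IsNoetherianRing R] (W : (Spec R).Opens) :
    ∃ T : Finset R, (∀ g ∈ T, (basicOpen g : (Spec R).Opens) ≤ W) ∧
      ∀ p ∈ W, ∃ g ∈ T, p ∈ (basicOpen g : (Spec R).Opens) := by
  have hcl : IsClosed (W.1ᶜ) := W.2.isClosed_compl
  obtain ⟨I, hI⟩ := (PrimeSpectrum.isClosed_iff_zeroLocus_ideal _).mp hcl
  obtain ⟨T, hT⟩ := (IsNoetherian.noetherian I : I.FG)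
  have hmem : ∀ p : PrimeSpectrum R, p ∈ W ↔ ∃ g ∈ T, g ∉ p.asIdeal := by
    intro p
    have h2 : (p ∈ W.1ᶜ) ↔ ((T : Set R) ⊆ p.asIdeal) := by
      have h3 : p ∈ zeroLocus (I : Set R) ↔ (T : Set R) ⊆ p.asIdeal := by
        rw [← hT, PrimeSpectrum.zeroLocus_span, PrimeSpectrum.mem_zeroLocus]
      exact (Eq.to_iff (congrArg (fun Z : Set (PrimeSpectrum R) => p ∈ Z) hI)).trans h3
    constructor
    · intro hp
      by_contra hcon
      push Not at hcon
      exact (h2.2 (fun g hg => hcon g hg)) hp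
    · rintro ⟨g, hg, hgp⟩
      by_contra hp
      exact hgp (h2.1 hp hg)
  refine ⟨T, ?_, ?_⟩
  · intro g hg p hp
    exact (hmem p).2 ⟨g, hg, hp⟩
  · intro p hp
    obtain ⟨g, hg, hgp⟩ := (hmem p).1 hp
    exact ⟨g, hg, hgp⟩

section punctured

variable (a : Ideal R)

/-- The complement of `V(a)`. -/
def pOpen : (Spec R).Opens :=
  ⟨(PrimeSpectrum.zeroLocus (R := R) (a : Set R))ᶜ,
    (PrimeSpectrum.isClosed_zeroLocus _).isOpen_compl⟩

variable {a}

theorem mem_pOpen_iff (p : PrimeSpectrum R) : p ∈ pOpen a ↔ ∃ b ∈ a, b ∉ p.asIdeal := by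
  show p ∈ (PrimeSpectrum.zeroLocus (R := R) (a : Set R))ᶜ ↔ _
  rw [Set.mem_compl_iff, PrimeSpectrum.mem_zeroLocus, Set.not_subset]
  rfl

theorem basicOpen_le_pOpen {b : R} (hb : b ∈ a) : (basicOpen b : (Spec R).Opens) ≤ pOpen a := by
  intro p hp
  exact (mem_pOpen_iff p).2 ⟨b, hb, hp⟩

theorem basicOpen_mul_le_pOpen (g : R) {b : R} (hb : b ∈ a) :
    (basicOpen (g * b) : (Spec R).Opens) ≤ pOpen a :=
  (basicOpen_mul_le_right g b).trans (basicOpen_le_pOpen hb)

theorem exists_mem_span_not_mem {T : Finset R} (hT : Ideal.span (T : Set R) = a)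
    (p : PrimeSpectrum R) (hp : p ∈ pOpen a) : ∃ g ∈ T, p ∈ (basicOpen g : (Spec R).Opens) := by
  by_contra hcon
  push Not at hcon
  obtain ⟨b, hb, hbp⟩ := (mem_pOpen_iff p).1 hp
  apply hbp
  have : a ≤ p.asIdeal := by
    rw [← hT, Ideal.span_le]
    intro g hg
    by_contra h
    exact hcon g hg h
  exact this hb

/-- An ideal containing a power of each generator contains a power of the ideal. -/
theorem exists_pow_le_of_generators {T : Finset R} (hT : Ideal.span (T : Set R) = a) (J : Ideal R)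
    (h : ∀ b ∈ T, ∃ n : ℕ, b ^ n ∈ J) : ∃ n : ℕ, a ^ n ≤ J := by
  apply Ideal.exists_pow_le_of_le_radical_of_fg
  · rw [← hT, Ideal.span_le]
    intro b hb
    exact h b hb
  · exact ⟨T, hT⟩

variable (a)

theorem res_eq_zero_of_pow_smul {W : (Spec R).Opens} (hUW : pOpen a ≤ W) (s : Sec M W) (n : ℕ)
    (h : ∀ r ∈ a ^ n, r • s = 0) : res M hUW s = 0 := by
  apply eq_zero_of_locally
  intro p hp
  obtain ⟨b, hb, hbp⟩ := (mem_pOpen_iff p).1 hp
  refine ⟨basicOpen b, basicOpen_le_pOpen hb, hbp, ?_⟩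
  rw [res_res]
  have hreg : IsSMulRegular (Sec M (basicOpen b)) (b ^ n) :=
    (Scheme.Modules.isSMulRegular_of_le_basicOpen (M := tilde M) (le_refl _)).pow _
  apply hreg
  show b ^ n • res M _ s = b ^ n • 0
  rw [← map_smul, h _ (Ideal.pow_mem_pow hb n), map_zero, smul_zero]

theorem exists_pow_smul_of_res_eq_zero [IsNoetherianRing R] {W : (Spec R).Opens}
    (hUW : pOpen a ≤ W) (s : Sec M W) (h : res M hUW s = 0) :
    ∃ n : ℕ, ∀ r ∈ a ^ n, r • s = 0 := by
  obtain ⟨T, hTW, hcov⟩ := exists_finset_cover W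
  obtain ⟨Ta, hTa⟩ := (IsNoetherian.noetherian a : a.FG)
  let J : Ideal R := LinearMap.ker (LinearMap.toSpanSingleton R (Sec M W) s)
  have hJ : ∀ r : R, r ∈ J ↔ r • s = 0 := fun r => Iff.rfl
  have h1 : ∀ b ∈ Ta, ∃ n : ℕ, b ^ n ∈ J := by
    intro b hb
    have hba : b ∈ a := by
      rw [← hTa]
      exact Ideal.subset_span hb
    obtain ⟨n, hn⟩ := exists_pow_smul_eq_zero M T hTW hcov b hUW
      (fun g _ => basicOpen_mul_le_pOpen g hba) s h
    exact ⟨n, (hJ _).2 hn⟩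
  obtain ⟨n, hn⟩ := exists_pow_le_of_generators hTa J h1
  exact ⟨n, fun r hr => (hJ r).1 (hn hr)⟩

theorem exists_pow_smul_mem_range [IsNoetherianRing R] (t : Sec M (pOpen a)) :
    ∃ n : ℕ, ∀ r ∈ a ^ n, r • t ∈ LinearMap.range (tilde.toOpen M (pOpen a)).hom := by
  obtain ⟨Ta, hTa⟩ := (IsNoetherian.noetherian a : a.FG)
  let J : Ideal R := (LinearMap.range (tilde.toOpen M (pOpen a)).hom).comap
    (LinearMap.toSpanSingleton R (Sec M (pOpen a)) t)
  have hJ : ∀ r : R, r ∈ J ↔ r • t ∈ LinearMap.range (tilde.toOpen M (pOpen a)).hom :=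
    fun r => Iff.rfl
  have h1 : ∀ b ∈ Ta, ∃ n : ℕ, b ^ n ∈ J := by
    intro b hb
    have hba : b ∈ a := by
      rw [← hTa]
      exact Ideal.subset_span hb
    obtain ⟨⟨m, ⟨_, k, rfl⟩⟩, hm⟩ := IsLocalizedModule.surj (Submonoid.powers b)
      (tilde.toOpen M (basicOpen b)).hom (res M (basicOpen_le_pOpen hba) t)
    have hm' : b ^ k • res M (basicOpen_le_pOpen hba) t =
      (tilde.toOpen M (basicOpen b)).hom m := hm
    have hd : res M (basicOpen_le_pOpen hba)
        ((tilde.toOpen M (pOpen a)).hom m - b ^ k • t) = 0 := by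
      rw [map_sub, map_smul, res_toOpen, hm', sub_self]
    obtain ⟨l, hl⟩ := exists_pow_smul_eq_zero M Ta
      (fun g hg => basicOpen_le_pOpen (by rw [← hTa]; exact Ideal.subset_span hg))
      (fun p hp => exists_mem_span_not_mem hTa p hp) b (basicOpen_le_pOpen hba)
      (fun g _ => basicOpen_mul_le_right g b) _ hd
    refine ⟨l + k, (hJ _).2 ⟨b ^ l • m, ?_⟩⟩
    rw [smul_sub, sub_eq_zero] at hl
    rw [map_smul, hl, smul_smul, pow_add]
  obtain ⟨n, hn⟩ := exists_pow_le_of_generators hTa J h1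
  exact ⟨n, fun r hr => (hJ r).1 (hn hr)⟩

theorem directed_torsion (N : Type*) [AddCommGroup N] [Module R N] :
    Directed (· ≤ ·) fun n : ℕ => Submodule.torsionBySet R N ((a ^ n : Ideal R) : Set R) := by
  apply Monotone.directed_le
  intro n m hnm
  apply Submodule.torsionBySet_le_torsionBySet_of_subset
  exact fun r hr => Ideal.pow_le_pow_right hnm hr

theorem mem_iSup_torsion_iff (N : Type*) [AddCommGroup N] [Module R N] (x : N) :
    x ∈ (⨆ n : ℕ, Submodule.torsionBySet R N ((a ^ n : Ideal R) : Set R)) ↔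
      ∃ n : ℕ, ∀ r ∈ a ^ n, r • x = 0 := by
  rw [Submodule.mem_iSup_of_directed _ (directed_torsion a N)]
  constructor
  · rintro ⟨n, hn⟩
    exact ⟨n, fun r hr => (Submodule.mem_torsionBySet_iff _ _).1 hn ⟨r, hr⟩⟩
  · rintro ⟨n, hn⟩
    exact ⟨n, (Submodule.mem_torsionBySet_iff _ _).2 (fun r => hn r.1 r.2)⟩

theorem ker_res [IsNoetherianRing R] {W : (Spec R).Opens} (hUW : pOpen a ≤ W) :
    LinearMap.ker (res M hUW) =
      ⨆ n : ℕ, Submodule.torsionBySet R (Sec M W) ((a ^ n : Ideal R) : Set R) := by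
  ext s
  rw [LinearMap.mem_ker, mem_iSup_torsion_iff]
  constructor
  · intro h
    exact exists_pow_smul_of_res_eq_zero M a hUW s h
  · rintro ⟨n, hn⟩
    exact res_eq_zero_of_pow_smul M a hUW s n hn

theorem isPowerTorsion_coker_res [IsNoetherianRing R] {W : (Spec R).Opens} (hUW : pOpen a ≤ W)
    (q : (Sec M (pOpen a)) ⧸ LinearMap.range (res M hUW)) :
    ∃ n : ℕ, ∀ r ∈ a ^ n, r • q = 0 := by
  obtain ⟨t, rfl⟩ := Submodule.Quotient.mk_surjective _ q
  obtain ⟨n, hn⟩ := exists_pow_smul_mem_range M a t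
  refine ⟨n, fun r hr => ?_⟩
  rw [← Submodule.Quotient.mk_smul, Submodule.Quotient.mk_eq_zero]
  obtain ⟨m, hm⟩ := hn r hr
  exact ⟨(tilde.toOpen M W).hom m, by rw [res_toOpen, hm]⟩

theorem ker_toOpen [IsNoetherianRing R] :
    LinearMap.ker (tilde.toOpen M (pOpen a)).hom =
      ⨆ n : ℕ, Submodule.torsionBySet R M ((a ^ n : Ideal R) : Set R) := by
  ext x
  rw [LinearMap.mem_ker, mem_iSup_torsion_iff]
  constructor
  · intro h
    obtain ⟨Ta, hTa⟩ := (IsNoetherian.noetherian a : a.FG)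
    let J : Ideal R := LinearMap.ker (LinearMap.toSpanSingleton R M x)
    have hJ : ∀ r : R, r ∈ J ↔ r • x = 0 := fun r => Iff.rfl
    have h1 : ∀ b ∈ Ta, ∃ n : ℕ, b ^ n ∈ J := by
      intro b hb
      have hba : b ∈ a := by
        rw [← hTa]
        exact Ideal.subset_span hb
      have h2 : (tilde.toOpen M (basicOpen b)).hom x = 0 := by
        rw [← res_toOpen M (basicOpen_le_pOpen hba) x, h, map_zero]
      obtain ⟨⟨_, l, rfl⟩, hl⟩ := (IsLocalizedModule.eq_zero_iff (Submonoid.powers b)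
        (tilde.toOpen M (basicOpen b)).hom).mp h2
      exact ⟨l, (hJ _).2 hl⟩
    obtain ⟨n, hn⟩ := exists_pow_le_of_generators hTa J h1
    exact ⟨n, fun r hr => (hJ r).1 (hn hr)⟩
  · rintro ⟨n, hn⟩
    have h1 := res_eq_zero_of_pow_smul M a (le_refl (pOpen a))
      ((tilde.toOpen M (pOpen a)).hom x) n (fun r hr => by rw [← map_smul, hn r hr, map_zero])
    rwa [res_self] at h1

theorem torsion_sec_eq_bot :
    (⨆ n : ℕ, Submodule.torsionBySet R (Sec M (pOpen a)) ((a ^ n : Ideal R) : Set R)) = ⊥ := by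
  rw [eq_bot_iff]
  intro s hs
  rw [mem_iSup_torsion_iff] at hs
  obtain ⟨n, hn⟩ := hs
  have h1 := res_eq_zero_of_pow_smul M a (le_refl (pOpen a)) s n hn
  rw [res_self] at h1
  rw [h1]
  exact Submodule.zero_mem _

theorem isPowerTorsion_coker_toOpen [IsNoetherianRing R]
    (q : (Sec M (pOpen a)) ⧸ LinearMap.range (tilde.toOpen M (pOpen a)).hom) :
    ∃ n : ℕ, ∀ r ∈ a ^ n, r • q = 0 := by
  obtain ⟨t, rfl⟩ := Submodule.Quotient.mk_surjective _ q
  obtain ⟨n, hn⟩ := exists_pow_smul_mem_range M a t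
  refine ⟨n, fun r hr => ?_⟩
  rw [← Submodule.Quotient.mk_smul, Submodule.Quotient.mk_eq_zero]
  exact hn r hr

end punctured

end Groth.Agent.Lib.TildeSecH3
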