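import Mathlib
import Groth.Agent.Lib.TildeSec_helper3
import Groth.Agent.Lib.DepthLoc_helper5

set_option autoImplicit false
universe u

/-!
# Sections of `M^~` off `V(a)` and depth (helper3)

`M → Γ(Spec R ∖ V(a), M^~)` is injective iff `depth_a M ≥ 1` and bijective iff `depth_a M ≥ 2`
(finite modules over Noetherian rings).
-/

namespace Groth.Agent.Lib.ZClosedH3

open AlgebraicGeometry CategoryTheory TopologicalSpace Opposite PrimeSpectrum
open Groth.Agent.Lib.TildeSecH3

variable {R : CommRingCat.{u}} (M : ModuleCat.{u} R) (a : Ideal R)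

/-- No `a`-torsion implies no `a`-power torsion. -/
theorem eq_zero_of_pow_torsion (N : Type*) [AddCommGroup N] [Module R N]
    (h : ∀ x : N, (∀ r ∈ a, r • x = 0) → x = 0) (n : ℕ) (x : N)
    (hx : ∀ r ∈ a ^ n, r • x = 0) : x = 0 := by
  induction n generalizing x with
  | zero =>
    have := hx 1 (by rw [pow_zero, Ideal.one_eq_top]; exact Submodule.mem_top)
    rwa [one_smul] at this
  | succ n ih =>
    apply ih
    intro r hr
    apply h
    intro s hs
    rw [smul_smul]
    apply hx
    rw [pow_succ']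
    exact Ideal.mul_mem_mul hs hr

theorem toOpen_injective_iff [IsNoetherianRing R] :
    Function.Injective (tilde.toOpen M (pOpen a)).hom ↔
      ∀ x : M, (∀ r ∈ a, r • x = 0) → x = 0 := by
  rw [← LinearMap.ker_eq_bot, ker_toOpen M a]
  constructor
  · intro h x hx
    have h1 : x ∈ (⨆ n : ℕ, Submodule.torsionBySet R M ((a ^ n : Ideal R) : Set R)) :=
      (mem_iSup_torsion_iff a M x).2 ⟨1, fun r hr => hx r (by rwa [pow_one] at hr)⟩
    rw [h, Submodule.mem_bot] at h1
    exact h1
  · intro h
    rw [eq_bot_iff]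
    intro x hx
    obtain ⟨n, hn⟩ := (mem_iSup_torsion_iff a M x).1 hx
    rw [Submodule.mem_bot]
    exact eq_zero_of_pow_torsion a M h n x hn

/-- An `M`-regular element is regular on all sections of `M^~`. -/
theorem isSMulRegular_sec {x : R} (hx : IsSMulRegular M x) (V : (Spec R).Opens) :
    IsSMulRegular (Sec M V) x := by
  intro s1 s2 h
  have h' : x • s1 = x • s2 := h
  rw [← sub_eq_zero]
  have h0 : x • (s1 - s2) = 0 := by rw [smul_sub, sub_eq_zero]; exact h'
  generalize s1 - s2 = s at h0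
  apply eq_zero_of_locally
  intro p hp
  obtain ⟨_, ⟨_, ⟨g, rfl⟩, rfl⟩, hpg, hgV : (basicOpen g : (Spec R).Opens) ≤ V⟩ :=
    PrimeSpectrum.isBasis_basic_opens.exists_subset_of_mem_open hp V.2
  refine ⟨basicOpen g, hgV, hpg, ?_⟩
  obtain ⟨⟨m, ⟨_, k, rfl⟩⟩, hm⟩ := IsLocalizedModule.surj (Submonoid.powers g)
    (tilde.toOpen M (basicOpen g)).hom (res M hgV s)
  have hm' : g ^ k • res M hgV s = (tilde.toOpen M (basicOpen g)).hom m := hm
  have h1 : (tilde.toOpen M (basicOpen g)).hom (x • m) = 0 := by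
    rw [map_smul, ← hm', smul_comm, ← map_smul, h0, map_zero, smul_zero]
  obtain ⟨⟨_, l, rfl⟩, hl⟩ := (IsLocalizedModule.eq_zero_iff (Submonoid.powers g)
    (tilde.toOpen M (basicOpen g)).hom).mp h1
  have hl' : g ^ l • (x • m) = 0 := hl
  have h2 : g ^ l • m = 0 := by
    apply hx
    show x • (g ^ l • m) = x • 0
    rw [smul_zero, smul_comm, hl']
  have hreg : IsSMulRegular (Sec M (basicOpen g)) (g ^ (l + k)) :=
    (Scheme.Modules.isSMulRegular_of_le_basicOpen (M := tilde M) (le_refl _)).pow _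
  apply hreg
  show g ^ (l + k) • res M hgV s = g ^ (l + k) • 0
  rw [smul_zero, pow_add, mul_smul, hm', ← map_smul, h2, map_zero]

/-- Surjectivity from a regular pair. -/
theorem toOpen_surjective_of_regular [IsNoetherianRing R] {x y : R} (hxa : x ∈ a) (hya : y ∈ a)
    (hx : IsSMulRegular M x)
    (hy : ∀ m : M, (∃ m' : M, y • m = x • m') → ∃ m0 : M, m = x • m0) :
    Function.Surjective (tilde.toOpen M (pOpen a)).hom := by
  have hinj : Function.Injective (tilde.toOpen M (pOpen a)).hom := by
    rw [toOpen_injective_iff]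
    intro m hm
    apply hx
    show x • m = x • 0
    rw [hm x hxa, smul_zero]
  have step1 : ∀ t : Sec M (pOpen a),
      (∀ r ∈ a, r • t ∈ LinearMap.range (tilde.toOpen M (pOpen a)).hom) →
        t ∈ LinearMap.range (tilde.toOpen M (pOpen a)).hom := by
    intro t ht
    obtain ⟨m1, h1⟩ := ht x hxa
    obtain ⟨m2, h2⟩ := ht y hya
    have h3 : y • m1 = x • m2 := by
      apply hinj
      rw [map_smul, map_smul, h1, h2, smul_comm]
    obtain ⟨m0, hm0⟩ := hy m1 ⟨m2, h3⟩
    refine ⟨m0, ?_⟩
    apply isSMulRegular_sec M hx (pOpen a)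
    show x • (tilde.toOpen M (pOpen a)).hom m0 = x • t
    rw [← map_smul, ← hm0, h1]
  have main : ∀ (n : ℕ) (t : Sec M (pOpen a)),
      (∀ r ∈ a ^ n, r • t ∈ LinearMap.range (tilde.toOpen M (pOpen a)).hom) →
        t ∈ LinearMap.range (tilde.toOpen M (pOpen a)).hom := by
    intro n
    induction n with
    | zero =>
      intro t ht
      have := ht 1 (by rw [pow_zero, Ideal.one_eq_top]; exact Submodule.mem_top)
      rwa [one_smul] at this
    | succ n ih =>
      intro t ht
      apply ih
      intro r hr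
      apply step1
      intro s hs
      rw [smul_smul]
      apply ht
      rw [pow_succ']
      exact Ideal.mul_mem_mul hs hr
  intro t
  obtain ⟨n, hn⟩ := exists_pow_smul_mem_range M a t
  exact main n t hn

/-- If `aM = M` the restriction map is bijective. -/
theorem toOpen_bijective_of_smul_top [IsNoetherianRing R] [Module.Finite R M]
    (h : a • (⊤ : Submodule R M) = ⊤) :
    Function.Bijective (tilde.toOpen M (pOpen a)).hom := by
  obtain ⟨r, hr, hrM⟩ := Submodule.exists_sub_one_mem_and_smul_eq_zero_of_fg_of_le_smul a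
    (⊤ : Submodule R M) Module.Finite.fg_top (by rw [h])
  have he : (1 - r) ∈ a := by
    have := a.neg_mem hr
    rwa [neg_sub] at this
  have hem : ∀ m : M, (1 - r) • m = m := by
    intro m
    rw [sub_smul, one_smul, hrM m Submodule.mem_top, sub_zero]
  have hinj : Function.Injective (tilde.toOpen M (pOpen a)).hom := by
    rw [toOpen_injective_iff]
    intro m hm
    rw [← hem m]
    exact hm _ he
  refine ⟨hinj, ?_⟩
  have hes : ∀ s : Sec M (pOpen a), (1 - r) • s = s := by
    intro s
    obtain ⟨k, hk⟩ := exists_pow_smul_mem_range M a s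
    have h1 : ∀ c ∈ a ^ k, c • ((1 - r) • s - s) = 0 := by
      intro c hc
      obtain ⟨m, hm⟩ := hk c hc
      rw [smul_sub, smul_comm, ← hm, ← map_smul, hem, sub_self]
    have h2 : ((1 - r) • s - s) ∈
        (⨆ n : ℕ, Submodule.torsionBySet R (Sec M (pOpen a)) ((a ^ n : Ideal R) : Set R)) :=
      (mem_iSup_torsion_iff a (Sec M (pOpen a)) _).2 ⟨k, h1⟩
    rw [torsion_sec_eq_bot M a, Submodule.mem_bot, sub_eq_zero] at h2
    exact h2
  have hes' : ∀ (n : ℕ) (s : Sec M (pOpen a)), (1 - r) ^ n • s = s := by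
    intro n
    induction n with
    | zero => intro s; rw [pow_zero, one_smul]
    | succ n ih => intro s; rw [pow_succ, mul_smul, hes, ih]
  intro t
  obtain ⟨n, hn⟩ := exists_pow_smul_mem_range M a t
  obtain ⟨m0, hm0⟩ := hn _ (Ideal.pow_mem_pow he n)
  exact ⟨m0, by rw [hm0, hes']⟩

/-- Gluing: if `x` is `M`-regular and `a m ⊆ x M` then `m / x` is a section over `D(a)`. -/
theorem exists_sec_smul_eq {x : R} (hx : IsSMulRegular M x) (m : M)
    (h : ∀ b ∈ a, ∃ mb : M, b • m = x • mb) :
    ∃ t : Sec M (pOpen a), x • t = (tilde.toOpen M (pOpen a)).hom m := by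
  have h' : ∀ b : ↥a, ∃ mb : M, (b : R) • m = x • mb := fun b => h b.1 b.2
  choose mb hmb using h'
  have hsf : ∀ b : ↥a, ∃ s : Sec M (basicOpen (b : R)),
      (b : R) • s = (tilde.toOpen M (basicOpen (b : R))).hom (mb b) := by
    intro b
    have hu := Scheme.Modules.isUnit_algebraMap_end_of_le_basicOpen (M := tilde M)
      (U := basicOpen (b : R)) (b : R) (le_refl _)
    rw [Module.End.isUnit_iff] at hu
    obtain ⟨s, hs⟩ := hu.2 ((tilde.toOpen M (basicOpen (b : R))).hom (mb b))
    exact ⟨s, hs⟩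
  choose sf hsf using hsf
  have hxsf : ∀ b : ↥a, x • sf b = (tilde.toOpen M (basicOpen (b : R))).hom m := by
    intro b
    have hreg : IsSMulRegular (Sec M (basicOpen (b : R))) (b : R) :=
      Scheme.Modules.isSMulRegular_of_le_basicOpen (M := tilde M) (le_refl _)
    apply hreg
    show (b : R) • x • sf b = (b : R) • (tilde.toOpen M (basicOpen (b : R))).hom m
    rw [smul_comm, hsf, ← map_smul, ← map_smul, hmb]
  let F := modulesSpecToSheaf.obj (tilde M)
  let U : ↥a → (Spec R).Opens := fun b => basicOpen (b : R)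
  have hcompat : TopCat.Presheaf.IsCompatible F.1 U sf := by
    intro b c
    apply isSMulRegular_sec M hx (U b ⊓ U c)
    show x • res M inf_le_left (sf b) = x • res M inf_le_right (sf c)
    rw [← map_smul, ← map_smul, hxsf, hxsf, res_toOpen, res_toOpen]
  have hcover : pOpen a ≤ iSup U := by
    intro p hp
    obtain ⟨b, hb, hbp⟩ := (mem_pOpen_iff p).1 hp
    exact Opens.mem_iSup.2 ⟨⟨b, hb⟩, hbp⟩
  obtain ⟨t, ht, -⟩ := TopCat.Sheaf.existsUnique_gluing' F U (pOpen a)
    (fun b => homOfLE (basicOpen_le_pOpen b.2)) hcover sf hcompat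
  have ht' : ∀ b : ↥a, res M (basicOpen_le_pOpen b.2) t = sf b := ht
  refine ⟨t, ?_⟩
  rw [← sub_eq_zero]
  apply eq_zero_of_locally
  intro p hp
  obtain ⟨b, hb, hbp⟩ := (mem_pOpen_iff p).1 hp
  refine ⟨basicOpen b, basicOpen_le_pOpen hb, hbp, ?_⟩
  rw [map_sub, map_smul, ht' ⟨b, hb⟩, hxsf, res_toOpen, sub_self]

section depth

variable [IsNoetherianRing R] [Module.Finite R M]

/-- Injectivity of `M → Γ(D(a), M^~)` is `depth_a M ≥ 1`. -/
theorem toOpen_injective_iff_depth :
    Function.Injective (tilde.toOpen M (pOpen a)).hom ↔ 1 ≤ LocCoh.idealDepth a M := by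
  constructor
  · intro hinj
    rw [toOpen_injective_iff] at hinj
    by_contra hcon
    obtain ⟨q, hq, haq⟩ := Groth.Agent.DepthLib.exists_associatedPrime_of_not_one_le a M hcon
    obtain ⟨hqprime, m₀, hm₀⟩ := isAssociatedPrime_iff.1 hq
    have hmem : ∀ c, c ∈ q ↔ c • m₀ = 0 := by
      intro c
      rw [hm₀, Submodule.mem_colon_singleton, Submodule.mem_bot]
    have h0 : m₀ = 0 := hinj m₀ (fun r hr => (hmem r).1 (haq hr))
    apply hqprime.ne_top
    rw [Ideal.eq_top_iff_one, hmem, h0, smul_zero]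
  · intro h1
    rcases (Groth.Agent.DepthLib.one_le_idealDepth_iff a M).1 h1 with htop | ⟨x, hxa, hreg⟩
    · exact (toOpen_bijective_of_smul_top M a htop).1
    · rw [toOpen_injective_iff]
      intro m hm
      apply hreg
      show x • m = x • 0
      rw [hm x hxa, smul_zero]

/-- Bijectivity of `M → Γ(D(a), M^~)` is `depth_a M ≥ 2`. -/
theorem toOpen_bijective_iff_depth :
    Function.Bijective (tilde.toOpen M (pOpen a)).hom ↔ 2 ≤ LocCoh.idealDepth a M := by
  constructor
  · intro hbij
    by_cases htop : a • (⊤ : Submodule R M) = ⊤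
    · have := (Groth.Agent.DepthLib.le_idealDepth_iff a M 2).2 (Or.inl htop)
      exact_mod_cast this
    have h1 : 1 ≤ LocCoh.idealDepth a M := (toOpen_injective_iff_depth M a).1 hbij.1
    rcases (Groth.Agent.DepthLib.one_le_idealDepth_iff a M).1 h1 with htop' | ⟨x, hxa, hreg⟩
    · exact absurd htop' htop
    have key := (Groth.Agent.DepthLib.le_idealDepth_quotSMulTop_iff a M hxa hreg 1).1 ?_
    · exact_mod_cast key
    by_contra hcon
    have hcon' : ¬ 1 ≤ LocCoh.idealDepth a (QuotSMulTop x M) := by exact_mod_cast hcon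
    obtain ⟨q, hq, haq⟩ :=
      Groth.Agent.DepthLib.exists_associatedPrime_of_not_one_le a (QuotSMulTop x M) hcon'
    obtain ⟨hqprime, m₀, hm₀⟩ := isAssociatedPrime_iff.1 hq
    have hmem : ∀ c, c ∈ q ↔ c • m₀ = 0 := by
      intro c
      rw [hm₀, Submodule.mem_colon_singleton, Submodule.mem_bot]
    obtain ⟨m, rfl⟩ := Submodule.Quotient.mk_surjective _ m₀
    have hcolon : ∀ b ∈ a, ∃ mb : M, b • m = x • mb := by
      intro b hb
      have h2 := (hmem b).1 (haq hb)
      rw [← Submodule.Quotient.mk_smul, Submodule.Quotient.mk_eq_zero] at h2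
      obtain ⟨mb, -, hmb⟩ := (Submodule.mem_smul_pointwise_iff_exists _ _ _).1 h2
      exact ⟨mb, hmb.symm⟩
    obtain ⟨t, ht⟩ := exists_sec_smul_eq M a hreg m hcolon
    obtain ⟨m0, hm0⟩ := hbij.2 t
    have h3 : x • m0 = m := by
      apply hbij.1
      rw [map_smul, hm0, ht]
    apply hqprime.ne_top
    rw [Ideal.eq_top_iff_one, hmem, one_smul, Submodule.Quotient.mk_eq_zero, ← h3]
    exact Submodule.smul_mem_pointwise_smul m0 x ⊤ Submodule.mem_top
  · intro h2
    rcases (Groth.Agent.DepthLib.le_idealDepth_iff a M 2).1 (by exact_mod_cast h2) with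
      htop | ⟨rs, hrs, hmem, hlen⟩
    · exact toOpen_bijective_of_smul_top M a htop
    · match rs, hlen with
      | [x, y], _ =>
        rw [RingTheory.Sequence.isWeaklyRegular_cons_iff] at hrs
        obtain ⟨hx, hrs'⟩ := hrs
        rw [RingTheory.Sequence.isWeaklyRegular_cons_iff] at hrs'
        obtain ⟨hy, -⟩ := hrs'
        have hxa : x ∈ a := hmem x (by simp)
        have hya : y ∈ a := hmem y (by simp)
        have hy' : ∀ m : M, (∃ m' : M, y • m = x • m') → ∃ m0 : M, m = x • m0 := by
          rintro m ⟨m', hm'⟩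
          have h3 : (Submodule.Quotient.mk m : QuotSMulTop x M) = 0 := by
            apply hy
            show y • (Submodule.Quotient.mk m : QuotSMulTop x M) = y • 0
            rw [smul_zero, ← Submodule.Quotient.mk_smul, Submodule.Quotient.mk_eq_zero, hm']
            exact Submodule.smul_mem_pointwise_smul m' x ⊤ Submodule.mem_top
          rw [Submodule.Quotient.mk_eq_zero] at h3
          obtain ⟨m0, -, hm0⟩ := (Submodule.mem_smul_pointwise_iff_exists _ _ _).1 h3
          exact ⟨m0, hm0.symm⟩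
        refine ⟨?_, toOpen_surjective_of_regular M a hxa hya hx hy'⟩
        rw [toOpen_injective_iff]
        intro m hm
        apply hx
        show x • m = x • 0
        rw [hm x hxa, smul_zero]

end depth

end Groth.Agent.Lib.ZClosedH3
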