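import Mathlib
import Groth.Agent.Lib.ZClosed_helper3
import Groth.Agent.Lib.DepthSk_helper5
import Groth.Prelude.Def_EGA4c

set_option autoImplicit false
universe u

/-!
# `Z`-pure and `Z`-closed modules (EGA IV 5.10) via depth (helper3)
-/

namespace Groth.Agent.Lib.ZClosed2H3

open AlgebraicGeometry CategoryTheory TopologicalSpace Opposite PrimeSpectrum
open Groth.Agent.Lib.TildeSecH3 Groth.Agent.Lib.ZClosedH3

variable (A : Type u) [CommRing A] (J : Ideal A) (M : Type u) [AddCommGroup M] [Module A M]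

/-- `M` as an object of `ModuleCat (CommRingCat.of A)`. -/
noncomputable abbrev MM : ModuleCat.{u} (CommRingCat.of A) := ModuleCat.of (CommRingCat.of A) M

theorem toOpen_top_bijective : Function.Bijective (tilde.toOpen (MM A M) ⊤).hom := by
  have := tilde.isIso_toOpen_top (M := MM A M)
  exact ConcreteCategory.bijective_of_isIso (tilde.toOpen (MM A M) ⊤)

theorem toOpen_eq_comp : (tilde.toOpen (MM A M) (pOpen J)).hom =
    (res (MM A M) (le_top : pOpen J ≤ ⊤)) ∘ₗ (tilde.toOpen (MM A M) ⊤).hom := rfl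

theorem bijective_restrCompl_iff :
    Function.Bijective (EGA4.restrCompl A J M) ↔
      Function.Bijective (tilde.toOpen (MM A M) (pOpen J)).hom := by
  have h2 : Function.Bijective (tilde.toOpen (MM A M) (pOpen J)).hom ↔
      Function.Bijective (res (MM A M) (le_top : pOpen J ≤ ⊤)) := by
    rw [toOpen_eq_comp, LinearMap.coe_comp]
    exact Function.Bijective.of_comp_iff _ (toOpen_top_bijective A M)
  rw [h2]
  exact Iff.rfl

theorem injective_restrCompl_iff :
    Function.Injective (EGA4.restrCompl A J M) ↔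
      Function.Injective (tilde.toOpen (MM A M) (pOpen J)).hom := by
  have h2 : Function.Injective (tilde.toOpen (MM A M) (pOpen J)).hom ↔
      Function.Injective (res (MM A M) (le_top : pOpen J ≤ ⊤)) := by
    rw [toOpen_eq_comp, LinearMap.coe_comp]
    exact Function.Injective.of_comp_iff' _ (toOpen_top_bijective A M)
  rw [h2]
  exact Iff.rfl

variable [IsNoetherianRing A]

theorem injective_restrCompl_iff_torsion :
    Function.Injective (EGA4.restrCompl A J M) ↔ ∀ x : M, (∀ r ∈ J, r • x = 0) → x = 0 := by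
  rw [injective_restrCompl_iff]
  exact toOpen_injective_iff (MM A M) J

theorem injective_restrCompl_iff_depth [Module.Finite A M] :
    Function.Injective (EGA4.restrCompl A J M) ↔ 1 ≤ LocCoh.idealDepth J M := by
  rw [injective_restrCompl_iff]
  exact toOpen_injective_iff_depth (MM A M) J

theorem bijective_restrCompl_iff_depth [Module.Finite A M] :
    Function.Bijective (EGA4.restrCompl A J M) ↔ 2 ≤ LocCoh.idealDepth J M := by
  rw [bijective_restrCompl_iff]
  exact toOpen_bijective_iff_depth (MM A M) J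

variable {A}

theorem zeroLocus_subset_of_mem {Z : Set (PrimeSpectrum A)} (hZ : StableUnderSpecialization Z)
    {p : PrimeSpectrum A} (hp : p ∈ Z) : PrimeSpectrum.zeroLocus (p.asIdeal : Set A) ⊆ Z := by
  intro q hq
  rw [PrimeSpectrum.mem_zeroLocus] at hq
  have hle : p ≤ q := hq
  exact hZ ((PrimeSpectrum.le_iff_specializes p q).1 hle) hp

/-- A depth bound at all primes of `Z`, `Z`-locally. -/
theorem depth_along_iff (n : ℕ) {Z : Set (PrimeSpectrum A)} (hZ : StableUnderSpecialization Z)
    [Module.Finite A M] :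
    (∀ J : Ideal A, PrimeSpectrum.zeroLocus (J : Set A) ⊆ Z → (n : ℕ∞) ≤ LocCoh.idealDepth J M) ↔
      ∀ p : PrimeSpectrum A, p ∈ Z → (n : ℕ∞) ≤ LocCoh.depth (Localization.AtPrime p.asIdeal)
        (LocalizedModule p.asIdeal.primeCompl M) := by
  constructor
  · intro h p hp
    exact le_trans (h p.asIdeal (zeroLocus_subset_of_mem hZ hp))
      (Groth.Agent.DepthLib.idealDepth_le_depth_localization p.asIdeal M p.asIdeal le_rfl)
  · intro h J hJ
    apply Groth.Agent.DepthLib.le_idealDepth_of_forall_localization J n M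
    intro q _ hJq
    exact h ⟨q, inferInstance⟩ (hJ ((PrimeSpectrum.mem_zeroLocus _ _).2 hJq))

theorem isClosedAlong_iff {Z : Set (PrimeSpectrum A)} (hZ : StableUnderSpecialization Z)
    [Module.Finite A M] :
    EGA4.IsClosedAlong Z M ↔
      ∀ p : PrimeSpectrum A, p ∈ Z → (2 : ℕ∞) ≤ LocCoh.depth (Localization.AtPrime p.asIdeal)
        (LocalizedModule p.asIdeal.primeCompl M) := by
  have h := depth_along_iff M 2 hZ
  rw [show ((2 : ℕ) : ℕ∞) = 2 from rfl] at h
  rw [← h]
  unfold EGA4.IsClosedAlong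
  constructor
  · intro h1 J hJ
    exact (bijective_restrCompl_iff_depth A J M).1 (h1 J hJ)
  · intro h1 J hJ
    exact (bijective_restrCompl_iff_depth A J M).2 (h1 J hJ)

theorem isPureAlong_iff_depth {Z : Set (PrimeSpectrum A)} (hZ : StableUnderSpecialization Z)
    [Module.Finite A M] :
    EGA4.IsPureAlong Z M ↔
      ∀ p : PrimeSpectrum A, p ∈ Z → (1 : ℕ∞) ≤ LocCoh.depth (Localization.AtPrime p.asIdeal)
        (LocalizedModule p.asIdeal.primeCompl M) := by
  have h := depth_along_iff M 1 hZ
  rw [show ((1 : ℕ) : ℕ∞) = 1 from rfl] at h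
  rw [← h]
  unfold EGA4.IsPureAlong
  constructor
  · intro h1 J hJ
    exact (injective_restrCompl_iff_depth A J M).1 (h1 J hJ)
  · intro h1 J hJ
    exact (injective_restrCompl_iff_depth A J M).2 (h1 J hJ)

theorem isPureAlong_iff_torsion (Z : Set (PrimeSpectrum A)) :
    EGA4.IsPureAlong Z M ↔ ∀ J : Ideal A, PrimeSpectrum.zeroLocus (J : Set A) ⊆ Z →
      ∀ x : M, (∀ r ∈ J, r • x = 0) → x = 0 := by
  unfold EGA4.IsPureAlong
  constructor
  · intro h1 J hJ
    exact (injective_restrCompl_iff_torsion A J M).1 (h1 J hJ)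
  · intro h1 J hJ
    exact (injective_restrCompl_iff_torsion A J M).2 (h1 J hJ)

theorem isPureAlong_iff_ass {Z : Set (PrimeSpectrum A)} (hZ : StableUnderSpecialization Z) :
    EGA4.IsPureAlong Z M ↔
      ∀ p : PrimeSpectrum A, p.asIdeal ∈ associatedPrimes A M → p ∉ Z := by
  rw [isPureAlong_iff_torsion]
  constructor
  · intro h p hp hpZ
    obtain ⟨hqprime, m₀, hm₀⟩ := isAssociatedPrime_iff.1 hp
    have hmem : ∀ c, c ∈ p.asIdeal ↔ c • m₀ = 0 := by
      intro c
      rw [hm₀, Submodule.mem_colon_singleton, Submodule.mem_bot]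
    have h0 : m₀ = 0 := h p.asIdeal (zeroLocus_subset_of_mem hZ hpZ) m₀ (fun r hr => (hmem r).1 hr)
    apply hqprime.ne_top
    rw [Ideal.eq_top_iff_one, hmem, h0, smul_zero]
  · intro h J hJ x hx
    by_contra hx0
    obtain ⟨P, hP, hle⟩ := exists_le_isAssociatedPrime_of_isNoetherianRing A x hx0
    haveI := hP.isPrime
    have hJP : J ≤ P := by
      intro r hr
      apply hle
      rw [Submodule.mem_colon_singleton, Submodule.mem_bot]
      exact hx r hr
    exact h ⟨P, hP.isPrime⟩ hP (hJ ((PrimeSpectrum.mem_zeroLocus _ _).2 hJP))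

end Groth.Agent.Lib.ZClosed2H3
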