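import Mathlib
import Groth.Agent.Lib.ZClosed_helper3

set_option autoImplicit false
universe u

/-!
# The module of sections `Γ(D(a), M^~)` has `a`-depth at least two when it is finite (helper3)
-/

namespace Groth.Agent.Lib.ZClosed4H3

open AlgebraicGeometry CategoryTheory TopologicalSpace Opposite PrimeSpectrum
open Groth.Agent.Lib.TildeSecH3 Groth.Agent.Lib.ZClosedH3

variable {R : CommRingCat.{u}} (M : ModuleCat.{u} R) (a : Ideal R)

/-- Every linear map `a → Γ(D(a), M^~)` is multiplication by a section. -/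
theorem hom_sec_eq_smul (φ : ↥a →ₗ[R] Sec M (pOpen a)) :
    ∃ s : Sec M (pOpen a), ∀ b : ↥a, φ b = (b : R) • s := by
  have hsf : ∀ b : ↥a, ∃ s : Sec M (basicOpen (b : R)),
      (b : R) • s = res M (basicOpen_le_pOpen b.2) (φ b) := by
    intro b
    have hu := Scheme.Modules.isUnit_algebraMap_end_of_le_basicOpen (M := tilde M)
      (U := basicOpen (b : R)) (b : R) (le_refl _)
    rw [Module.End.isUnit_iff] at hu
    obtain ⟨s, hs⟩ := hu.2 (res M (basicOpen_le_pOpen b.2) (φ b))
    exact ⟨s, hs⟩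
  choose sf hsf using hsf
  have hcomm : ∀ b c : ↥a, (c : R) • φ b = (b : R) • φ c := by
    intro b c
    rw [← map_smul, ← map_smul]
    congr 1
    apply Subtype.ext
    show (c : R) * (b : R) = (b : R) * (c : R)
    exact mul_comm _ _
  let F := modulesSpecToSheaf.obj (tilde M)
  let U : ↥a → (Spec R).Opens := fun b => basicOpen (b : R)
  have hcompat : TopCat.Presheaf.IsCompatible F.1 U sf := by
    intro b c
    have hregb : IsSMulRegular (Sec M (U b ⊓ U c)) (b : R) :=
      Scheme.Modules.isSMulRegular_of_le_basicOpen (M := tilde M) inf_le_left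
    have hregc : IsSMulRegular (Sec M (U b ⊓ U c)) (c : R) :=
      Scheme.Modules.isSMulRegular_of_le_basicOpen (M := tilde M) inf_le_right
    have hW : (U b ⊓ U c) ≤ pOpen a := inf_le_left.trans (basicOpen_le_pOpen b.2)
    have e1 : (b : R) • res M (inf_le_left : U b ⊓ U c ≤ U b) (sf b) = res M hW (φ b) := by
      rw [← map_smul, hsf, res_res]
    have e2 : (c : R) • res M (inf_le_right : U b ⊓ U c ≤ U c) (sf c) = res M hW (φ c) := by
      rw [← map_smul, hsf, res_res]
    apply hregb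
    apply hregc
    show (c : R) • (b : R) • res M (inf_le_left : U b ⊓ U c ≤ U b) (sf b) =
      (c : R) • (b : R) • res M (inf_le_right : U b ⊓ U c ≤ U c) (sf c)
    rw [e1, smul_comm (c : R) (b : R), e2, ← LinearMap.map_smul (res M hW),
      ← LinearMap.map_smul (res M hW), hcomm]
  have hcover : pOpen a ≤ iSup U := by
    intro p hp
    obtain ⟨b, hb, hbp⟩ := (mem_pOpen_iff p).1 hp
    exact Opens.mem_iSup.2 ⟨⟨b, hb⟩, hbp⟩
  obtain ⟨s, hs, -⟩ := TopCat.Sheaf.existsUnique_gluing' F U (pOpen a)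
    (fun b => homOfLE (basicOpen_le_pOpen b.2)) hcover sf hcompat
  have hs' : ∀ b : ↥a, res M (basicOpen_le_pOpen b.2) s = sf b := hs
  refine ⟨s, fun c => ?_⟩
  rw [← sub_eq_zero]
  apply eq_zero_of_locally
  intro p hp
  obtain ⟨b, hb, hbp⟩ := (mem_pOpen_iff p).1 hp
  refine ⟨basicOpen b, basicOpen_le_pOpen hb, hbp, ?_⟩
  have hreg : IsSMulRegular (Sec M (basicOpen b)) b :=
    Scheme.Modules.isSMulRegular_of_le_basicOpen (M := tilde M) (le_refl _)
  have e3 : res M (basicOpen_le_pOpen hb) (φ c - (c : R) • s) =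
      res M (basicOpen_le_pOpen hb) (φ c) - (c : R) • sf ⟨b, hb⟩ := by
    rw [map_sub, map_smul, hs' ⟨b, hb⟩]
  have hsf' : b • sf ⟨b, hb⟩ = res M (basicOpen_le_pOpen hb) (φ ⟨b, hb⟩) := hsf ⟨b, hb⟩
  have hcomm' : (c : R) • φ ⟨b, hb⟩ = b • φ c := hcomm ⟨b, hb⟩ c
  apply hreg
  show b • res M (basicOpen_le_pOpen hb) (φ c - (c : R) • s) = b • 0
  rw [e3, smul_zero, smul_sub, smul_comm b (c : R), hsf',
    ← LinearMap.map_smul (res M (basicOpen_le_pOpen hb)),
    ← LinearMap.map_smul (res M (basicOpen_le_pOpen hb)), ← map_sub,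
    hcomm', sub_self, map_zero]

theorem sec_torsion_free (s : Sec M (pOpen a)) (h : ∀ r ∈ a, r • s = 0) : s = 0 := by
  have h2 : s ∈
      (⨆ n : ℕ, Submodule.torsionBySet R (Sec M (pOpen a)) ((a ^ n : Ideal R) : Set R)) :=
    (mem_iSup_torsion_iff a (Sec M (pOpen a)) s).2 ⟨1, fun r hr => h r (by rwa [pow_one] at hr)⟩
  rw [torsion_sec_eq_bot M a, Submodule.mem_bot] at h2
  exact h2

/-- A module with no `a`-torsion in which every map from `a` is a multiplication has `a`-depth at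
least two. -/
theorem two_le_depth_of_hom {N : Type u} [AddCommGroup N] [Module R N] [IsNoetherianRing R]
    [Module.Finite R N] (hT : ∀ s : N, (∀ r ∈ a, r • s = 0) → s = 0)
    (hP : ∀ φ : ↥a →ₗ[R] N, ∃ s : N, ∀ b : ↥a, φ b = (b : R) • s) :
    2 ≤ LocCoh.idealDepth a N := by
  by_cases htop : a • (⊤ : Submodule R N) = ⊤
  · have := (Groth.Agent.DepthLib.le_idealDepth_iff a N 2).2 (Or.inl htop)
    exact_mod_cast this
  have h1 : 1 ≤ LocCoh.idealDepth a N := by
    by_contra hcon
    obtain ⟨q, hq, haq⟩ := Groth.Agent.DepthLib.exists_associatedPrime_of_not_one_le a N hcon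
    obtain ⟨hqprime, m₀, hm₀⟩ := isAssociatedPrime_iff.1 hq
    have hmem : ∀ c, c ∈ q ↔ c • m₀ = 0 := by
      intro c
      rw [hm₀, Submodule.mem_colon_singleton, Submodule.mem_bot]
    have h0 : m₀ = 0 := hT m₀ (fun r hr => (hmem r).1 (haq hr))
    apply hqprime.ne_top
    rw [Ideal.eq_top_iff_one, hmem, h0, smul_zero]
  rcases (Groth.Agent.DepthLib.one_le_idealDepth_iff a N).1 h1 with htop' | ⟨x, hxa, hreg⟩
  · exact absurd htop' htop
  have key := (Groth.Agent.DepthLib.le_idealDepth_quotSMulTop_iff a N hxa hreg 1).1 ?_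
  · exact_mod_cast key
  by_contra hcon
  have hcon' : ¬ 1 ≤ LocCoh.idealDepth a (QuotSMulTop x N) := by exact_mod_cast hcon
  obtain ⟨q, hq, haq⟩ :=
    Groth.Agent.DepthLib.exists_associatedPrime_of_not_one_le a (QuotSMulTop x N) hcon'
  obtain ⟨hqprime, m₀, hm₀⟩ := isAssociatedPrime_iff.1 hq
  have hmem : ∀ c, c ∈ q ↔ c • m₀ = 0 := by
    intro c
    rw [hm₀, Submodule.mem_colon_singleton, Submodule.mem_bot]
  obtain ⟨n, rfl⟩ := Submodule.Quotient.mk_surjective _ m₀
  have hcolon : ∀ b : ↥a, ∃ nb : N, (b : R) • n = x • nb := by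
    intro b
    have h2 := (hmem b).1 (haq b.2)
    rw [← Submodule.Quotient.mk_smul, Submodule.Quotient.mk_eq_zero] at h2
    obtain ⟨nb, -, hnb⟩ := (Submodule.mem_smul_pointwise_iff_exists _ _ _).1 h2
    exact ⟨nb, hnb.symm⟩
  choose nb hnb using hcolon
  let φ : ↥a →ₗ[R] N :=
    { toFun := nb
      map_add' := by
        intro b c
        apply hreg
        show x • nb (b + c) = x • (nb b + nb c)
        rw [smul_add, ← hnb, ← hnb, ← hnb, Submodule.coe_add, add_smul]
      map_smul' := by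
        intro r b
        apply hreg
        show x • nb (r • b) = x • (RingHom.id R r • nb b)
        rw [RingHom.id_apply, smul_comm, ← hnb, ← hnb, Submodule.coe_smul, smul_eq_mul, mul_smul] }
  obtain ⟨s, hs⟩ := hP φ
  have h3 : n = x • s := by
    rw [← sub_eq_zero]
    apply hT
    intro r hr
    have h4 : nb ⟨r, hr⟩ = r • s := hs ⟨r, hr⟩
    have h5 := hnb ⟨r, hr⟩
    rw [h4] at h5
    rw [smul_sub, sub_eq_zero, smul_comm]
    exact h5
  apply hqprime.ne_top
  rw [Ideal.eq_top_iff_one, hmem, one_smul, Submodule.Quotient.mk_eq_zero, h3]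
  exact Submodule.smul_mem_pointwise_smul s x ⊤ Submodule.mem_top

theorem two_le_depth_sec [IsNoetherianRing R] [Module.Finite R (Sec M (pOpen a))] :
    2 ≤ LocCoh.idealDepth a (Sec M (pOpen a)) :=
  two_le_depth_of_hom a (sec_torsion_free M a) (hom_sec_eq_smul M a)

/-- Associated primes of `M` off `V(a)` are associated primes of `Γ(D(a), M^~)`. -/
theorem ass_sec_of_ass [IsNoetherianRing R] (p : Ideal R) (hp : p ∈ associatedPrimes R M)
    (hap : ¬ a ≤ p) : p ∈ associatedPrimes R (Sec M (pOpen a)) := by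
  obtain ⟨hpprime, m₀, hm₀⟩ := isAssociatedPrime_iff.1 hp
  have hmem : ∀ c, c ∈ p ↔ c • m₀ = 0 := by
    intro c
    rw [hm₀, Submodule.mem_colon_singleton, Submodule.mem_bot]
  rw [AssociatedPrimes.mem_iff, isAssociatedPrime_iff]
  refine ⟨hpprime, (tilde.toOpen M (pOpen a)).hom m₀, ?_⟩
  ext c
  rw [Submodule.mem_colon_singleton, Submodule.mem_bot, hmem]
  constructor
  · intro h
    rw [← map_smul, h, map_zero]
  · intro h
    rw [← map_smul] at h
    have h1 : c • m₀ ∈ LinearMap.ker (tilde.toOpen M (pOpen a)).hom := h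
    rw [ker_toOpen M a, mem_iSup_torsion_iff] at h1
    obtain ⟨n, hn⟩ := h1
    obtain ⟨b, hb, hbp⟩ := SetLike.not_le_iff_exists.1 hap
    have h2 : b ^ n • c • m₀ = 0 := hn _ (Ideal.pow_mem_pow hb n)
    rw [smul_smul, ← hmem] at h2
    rcases hpprime.mem_or_mem h2 with h3 | h3
    · exact absurd (hpprime.mem_of_pow_mem n h3) hbp
    · exact (hmem c).1 h3

end Groth.Agent.Lib.ZClosed4H3
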