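import Mathlib
import Groth.Agent.Lib.ZClosed4_helper3
import Groth.Agent.Lib.ZClosed2_helper3
import Groth.Agent.Lib.DepthAss_helper5

set_option autoImplicit false
universe u

/-!
# Coherence of `i_*(M^~|U)` forces codimension two (EGA IV 5.11.1, necessity) (helper3)
-/

namespace Groth.Agent.Lib.ZClosed5H3

open AlgebraicGeometry CategoryTheory TopologicalSpace Opposite PrimeSpectrum
open Groth.Agent.Lib.TildeSecH3 Groth.Agent.Lib.ZClosedH3 Groth.Agent.Lib.ZClosed4H3
  Groth.Agent.Lib.ZClosed2H3

section height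

variable {A : Type u} [CommRing A]

/-- `dim A_q / p A_q ≤ ht (q/p)`. -/
theorem ringKrullDim_quot_loc_le (p : Ideal A) [p.IsPrime] (Q : Ideal (A ⧸ p)) [hQ : Q.IsPrime] :
    ringKrullDim (Localization.AtPrime (Q.comap (Ideal.Quotient.mk p)) ⧸
      p.map (algebraMap A (Localization.AtPrime (Q.comap (Ideal.Quotient.mk p))))) ≤
      ((Q.height : ℕ∞) : WithBot ℕ∞) := by
  set q := Q.comap (Ideal.Quotient.mk p) with hq
  set P := p.map (algebraMap A (Localization.AtPrime q)) with hP
  have hle : p ≤ P.comap (algebraMap A (Localization.AtPrime q)) := Ideal.le_comap_map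
  let φ : A ⧸ p →+* Localization.AtPrime q ⧸ P :=
    Ideal.quotientMap P (algebraMap A (Localization.AtPrime q)) hle
  have hφ : ∀ a : A, φ (Ideal.Quotient.mk p a) =
      Ideal.Quotient.mk P (algebraMap A (Localization.AtPrime q) a) :=
    fun a => Ideal.quotientMap_mk
  have hunit : ∀ a : A, a ∉ q → IsUnit (φ (Ideal.Quotient.mk p a)) := by
    intro a ha
    rw [hφ]
    exact (IsLocalization.map_units (Localization.AtPrime q) (⟨a, ha⟩ : q.primeCompl)).map _
  rw [PrimeSpectrum.height_eq_orderHeight ⟨Q, hQ⟩, Order.height_eq_krullDim_Iic]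
  unfold ringKrullDim
  have hmem : ∀ P'' : PrimeSpectrum (Localization.AtPrime q ⧸ P),
      PrimeSpectrum.comap φ P'' ≤ (⟨Q, hQ⟩ : PrimeSpectrum (A ⧸ p)) := by
    intro P'' b hb
    obtain ⟨a, rfl⟩ := Ideal.Quotient.mk_surjective b
    by_contra hbQ
    have ha : a ∉ q := hbQ
    have h1 : φ (Ideal.Quotient.mk p a) ∈ P''.asIdeal := hb
    exact P''.isPrime.ne_top (Ideal.eq_top_of_isUnit_mem _ h1 (hunit a ha))
  let f : PrimeSpectrum (Localization.AtPrime q ⧸ P) →
      Set.Iic (⟨Q, hQ⟩ : PrimeSpectrum (A ⧸ p)) :=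
    fun P'' => ⟨PrimeSpectrum.comap φ P'', hmem P''⟩
  apply Order.krullDim_le_of_strictMono f
  intro P1 P2 h12
  have h12' : P1.asIdeal < P2.asIdeal := h12
  obtain ⟨hle12, y, hy2, hy1⟩ := SetLike.lt_iff_le_and_exists.1 h12'
  show PrimeSpectrum.comap φ P1 < PrimeSpectrum.comap φ P2
  have hlt : (PrimeSpectrum.comap φ P1).asIdeal < (PrimeSpectrum.comap φ P2).asIdeal := by
    rw [SetLike.lt_iff_le_and_exists]
    refine ⟨Ideal.comap_mono hle12, ?_⟩
    obtain ⟨z, rfl⟩ := Ideal.Quotient.mk_surjective y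
    obtain ⟨⟨a, s⟩, has⟩ := IsLocalization.surj q.primeCompl z
    have has' : z * algebraMap A (Localization.AtPrime q) (s : A) =
        algebraMap A (Localization.AtPrime q) a := has
    have h3 : φ (Ideal.Quotient.mk p a) =
        Ideal.Quotient.mk P z * φ (Ideal.Quotient.mk p (s : A)) := by
      rw [hφ, hφ, ← map_mul, has']
    refine ⟨Ideal.Quotient.mk p a, ?_, ?_⟩
    · show φ (Ideal.Quotient.mk p a) ∈ P2.asIdeal
      rw [h3]
      exact P2.asIdeal.mul_mem_right _ hy2
    · intro hmem1
      have h4 : φ (Ideal.Quotient.mk p a) ∈ P1.asIdeal := hmem1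
      rw [h3] at h4
      rcases P1.isPrime.mem_or_mem h4 with h5 | h5
      · exact hy1 h5
      · exact P1.isPrime.ne_top (Ideal.eq_top_of_isUnit_mem _ h5 (hunit (s : A) s.2))
  exact hlt

variable [IsNoetherianRing A]

/-- If `depth_J N ≥ 2` and `p ∈ Ass N` then `J(A/p)` has height at least two. -/
theorem two_le_height_of_depth (J : Ideal A) (N : Type u) [AddCommGroup N] [Module A N]
    [Module.Finite A N] (hN : 2 ≤ LocCoh.idealDepth J N) (p : Ideal A)
    (hp : p ∈ associatedPrimes A N) :
    (2 : ℕ∞) ≤ (J.map (Ideal.Quotient.mk p)).height := by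
  haveI hpprime : p.IsPrime := hp.isPrime
  rw [Ideal.height_eq_inf_minimalPrimes]
  refine le_iInf₂ (fun Q hQ => ?_)
  haveI hQprime : Q.IsPrime := hQ.1.1
  have hJQ : J.map (Ideal.Quotient.mk p) ≤ Q := hQ.1.2
  set q := Q.comap (Ideal.Quotient.mk p) with hq
  have hJq : J ≤ q := Ideal.map_le_iff_le_comap.1 hJQ
  have hpq : p ≤ q := by
    intro x hx
    show Ideal.Quotient.mk p x ∈ Q
    rw [Ideal.Quotient.eq_zero_iff_mem.2 hx]
    exact Q.zero_mem
  have h1 := Groth.Agent.DepthLib.idealDepth_le_depth_localization J N q hJq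
  have hdisj : Disjoint (q.primeCompl : Set A) p := by
    rw [Set.disjoint_left]
    intro x hx hxp
    exact hx (hpq hxp)
  have hP : p.map (algebraMap A (Localization.AtPrime q)) ∈
      associatedPrimes (Localization.AtPrime q) (LocalizedModule q.primeCompl N) := by
    rw [← Module.associatedPrimes.preimage_comap_associatedPrimes_eq_associatedPrimes_of_isLocalizedModule
      q.primeCompl (Localization.AtPrime q) (LocalizedModule.mkLinearMap q.primeCompl N),
      Set.mem_preimage]
    have := IsLocalization.under_map_of_isPrime_disjoint q.primeCompl (Localization.AtPrime q)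
      hpprime hdisj
    rw [Ideal.under_def] at this
    rw [this]
    exact hp
  have h2 := Groth.Agent.DepthLib.depth_le_ringKrullDim_quotient (Localization.AtPrime q)
    (LocalizedModule q.primeCompl N) _ hP
  have h3 := ringKrullDim_quot_loc_le p Q
  have h4 : ((2 : ℕ∞) : WithBot ℕ∞) ≤ ((Q.height : ℕ∞) : WithBot ℕ∞) :=
    le_trans (WithBot.coe_le_coe.2 (le_trans hN h1)) (le_trans h2 h3)
  exact WithBot.coe_le_coe.1 h4

end height

section coh

variable (A : Type u) [CommRing A] (J : Ideal A) (M : Type u) [AddCommGroup M] [Module A M]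

/-- The module over `Γ(Spec A, ⊤)` appearing in `EGA4.IsCoherentPushCompl`. -/
noncomputable abbrev XX : ModuleCat ((Spec (CommRingCat.of A)).ringCatSheaf.obj.obj (op ⊤)) :=
  (ModuleCat.restrictScalars ((Spec (CommRingCat.of A)).ringCatSheaf.obj.map
      (homOfLE (le_top : EGA4.openCompl A J ≤ ⊤)).op).hom).obj
    ((EGA4.tildeOf A M).val.obj (op (EGA4.openCompl A J)))

/-- The identity, from the `Γ(⊤)`-module to the `A`-module of sections. -/
noncomputable def ee : XX A J M → Sec (MM A M) (pOpen J) := fun x => x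

/-- The inverse identity. -/
noncomputable def ee' : Sec (MM A M) (pOpen J) → XX A J M := fun x => x

theorem ee_ee' (y : Sec (MM A M) (pOpen J)) : ee A J M (ee' A J M y) = y := rfl

theorem ee_add (x y : XX A J M) : ee A J M (x + y) = ee A J M x + ee A J M y := rfl

theorem ee_zero : ee A J M 0 = 0 := rfl

theorem ee_smul (g : (Spec (CommRingCat.of A)).ringCatSheaf.obj.obj (op ⊤)) (x : XX A J M) :
    ee A J M (g • x) = ((Scheme.ΓSpecIso (CommRingCat.of A)).hom.hom g) • ee A J M x := by
  have h1 : (Scheme.ΓSpecIso (CommRingCat.of A)).inv.hom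
      ((Scheme.ΓSpecIso (CommRingCat.of A)).hom.hom g) = g :=
    congrFun (congrArg DFunLike.coe (congrArg CommRingCat.Hom.hom
      (Scheme.ΓSpecIso (CommRingCat.of A)).hom_inv_id)) g
  conv_lhs => rw [← h1]
  rfl

/-- Coherence of the push-forward means the module of sections is finite over `A`. -/
theorem finite_sec_of_isCoherentPushCompl (h : EGA4.IsCoherentPushCompl A J M) :
    Module.Finite A (Sec (MM A M) (pOpen J)) := by
  have h' : Module.Finite ((Spec (CommRingCat.of A)).ringCatSheaf.obj.obj (op ⊤)) (XX A J M) := h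
  obtain ⟨s, hs⟩ := h'.fg_top
  classical
  refine ⟨⟨s.image (ee A J M), ?_⟩⟩
  rw [eq_top_iff]
  intro y _
  have key : ∀ x : XX A J M,
      x ∈ Submodule.span ((Spec (CommRingCat.of A)).ringCatSheaf.obj.obj (op ⊤))
        (s : Set (XX A J M)) →
      ee A J M x ∈ Submodule.span A ((s.image (ee A J M) : Finset _) : Set _) := by
    intro x hx
    refine Submodule.span_induction
      (p := fun x _ => ee A J M x ∈ Submodule.span A ((s.image (ee A J M) : Finset _) : Set _))
      ?_ ?_ ?_ ?_ hx
    · intro z hz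
      apply Submodule.subset_span
      rw [Finset.coe_image]
      exact ⟨z, hz, rfl⟩
    · rw [ee_zero]
      exact Submodule.zero_mem _
    · intro z w _ _ hz hw
      rw [ee_add]
      exact Submodule.add_mem _ hz hw
    · intro g z _ hz
      rw [ee_smul]
      exact Submodule.smul_mem _ _ hz
  have := key (ee' A J M y) (by rw [hs]; exact Submodule.mem_top)
  rwa [ee_ee'] at this

end coh

section main

variable (A : Type u) [CommRing A] [IsNoetherianRing A] (J : Ideal A) (M : Type u)
  [AddCommGroup M] [Module A M] [Module.Finite A M]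

theorem main (h : EGA4.IsCoherentPushCompl A J M) :
    ∀ p ∈ associatedPrimes A M, ¬ J ≤ p → (2 : ℕ∞) ≤ (J.map (Ideal.Quotient.mk p)).height := by
  haveI : Module.Finite A (Sec (MM A M) (pOpen J)) := finite_sec_of_isCoherentPushCompl A J M h
  intro p hp hJp
  have h2 : 2 ≤ LocCoh.idealDepth J (Sec (MM A M) (pOpen J)) := two_le_depth_sec (MM A M) J
  have hp' : p ∈ associatedPrimes A (Sec (MM A M) (pOpen J)) :=
    ass_sec_of_ass (MM A M) J p hp hJp
  exact two_le_height_of_depth J (Sec (MM A M) (pOpen J)) h2 p hp'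

end main

end Groth.Agent.Lib.ZClosed5H3
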