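import Mathlib
import Groth.Prelude.Def_Wider
import Groth.Prelude.Def_Found
import Groth.Prelude.Def_EGA4c
import Groth.Agent.Lib.ZClosed5_helper3
import Groth.Agent.Lib.FinH1Ass_helper6
import Groth.Agent.Lib.FinH1Nagata_helper6

/-!
# Coherence of `i_*(M~|U)` for `U = Spec A ∖ V(J)` (helper6, S2723, S2724)

`Γ(U, M~) ≅ D_J(Γ(U, M~)) ≅ D_J(M)` (Deligne's formula, via helper3's description of sections),
hence `EGA4.IsCoherentPushCompl A J M ↔ FD J M`, where `FD` is finiteness of the ideal transform.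
-/

set_option autoImplicit false
universe u

open CategoryTheory LocCoh AlgebraicGeometry Opposite

namespace Groth.Agent.Lib.CohPush_helper6

open Groth.Agent.Lib Groth.Agent.Lib.TildeSecH3 Groth.Agent.Lib.ZClosedH3 Groth.Agent.Lib.ZClosed2H3
  Groth.Agent.Lib.ZClosed4H3 Groth.Agent.Lib.ZClosed5H3 Groth.Agent.Lib.FinH1Ass_helper6

section Sec

variable {R : CommRingCat.{u}} (M : ModuleCat.{u} R) (a : Ideal R)

theorem pOpen_pow {n : ℕ} (hn : n ≠ 0) : pOpen (a ^ n) = pOpen a := by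
  apply TopologicalSpace.Opens.ext
  show (PrimeSpectrum.zeroLocus (R := R) ((a ^ n : Ideal R) : Set R))ᶜ =
    (PrimeSpectrum.zeroLocus (R := R) (a : Set R))ᶜ
  rw [PrimeSpectrum.zeroLocus_pow a hn]

theorem hom_pow_sec_eq_smul {n : ℕ} (hn : n ≠ 0) (φ : ↥(a ^ n) →ₗ[R] Sec M (pOpen a)) :
    ∃ s : Sec M (pOpen a), ∀ b : ↥(a ^ n), φ b = (b : R) • s := by
  have h := pOpen_pow a hn
  obtain ⟨s', hs'⟩ := hom_sec_eq_smul M (a ^ n) ((res M (le_of_eq h)) ∘ₗ φ)
  refine ⟨res M (le_of_eq h.symm) s', fun b => ?_⟩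
  have h1 : res M (le_of_eq h.symm) (res M (le_of_eq h) (φ b)) = φ b := by
    rw [res_res, res_self]
  rw [← h1]
  have h2 : res M (le_of_eq h) (φ b) = (b : R) • s' := hs' b
  rw [h2, map_smul]

theorem toDT_sec_injective : Function.Injective (toDT a (Sec M (pOpen a))) := by
  rw [injective_iff_map_eq_zero]
  intro s hs
  obtain ⟨n, hn⟩ := (DT_helper3.mem_ker_toDT_iff a s).1 hs
  have h1 : s ∈ (⨆ n : ℕ, Submodule.torsionBySet R (Sec M (pOpen a))
      ((a ^ n : Ideal R) : Set R)) := (mem_iSup_torsion_iff a _ s).2 ⟨n, hn⟩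
  rw [torsion_sec_eq_bot M a] at h1
  exact (Submodule.mem_bot R).1 h1

theorem toDT_sec_surjective : Function.Surjective (toDT a (Sec M (pOpen a))) := by
  intro x
  obtain ⟨n, φ, rfl⟩ := DT_helper3.exists_cls a x
  obtain ⟨s, hs⟩ := hom_pow_sec_eq_smul M a (Nat.succ_ne_zero n)
    (DT_helper3.res a (Nat.le_succ n) φ)
  refine ⟨s, ?_⟩
  rw [DT_helper3.toDT_eq_cls' a (n + 1) s, ← DT_helper3.cls_res a (Nat.le_succ n) φ]
  congr 1
  apply LinearMap.ext
  intro b
  rw [DT_helper3.smulMap_apply]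
  exact (hs b).symm

variable [IsNoetherianRing R]

theorem D_toOpen_bijective :
    Function.Bijective ((idealTransform a).map
      (ModuleCat.ofHom (tilde.toOpen M (pOpen a)).hom)).hom := by
  apply DT_helper3.map_bijective a
  · intro x hx
    rw [ker_toOpen M a] at hx
    exact (mem_iSup_torsion_iff a M x).1 hx
  · intro q
    exact isPowerTorsion_coker_toOpen M a q

theorem finite_sec_iff_FD : Module.Finite R (Sec M (pOpen a)) ↔ FD a M := by
  unfold FD
  constructor
  · intro h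
    haveI := h
    haveI : Module.Finite R (DT a (Sec M (pOpen a))) :=
      Module.Finite.of_surjective (toDT a (Sec M (pOpen a))) (toDT_sec_surjective M a)
    haveI : IsNoetherian R (DT a (Sec M (pOpen a))) :=
      isNoetherian_of_isNoetherianRing_of_finite R _
    exact Module.Finite.of_injective _ (D_toOpen_bijective M a).1
  · intro h
    haveI := h
    haveI : Module.Finite R (DT a (Sec M (pOpen a))) :=
      Module.Finite.of_surjective _ (D_toOpen_bijective M a).2
    haveI : IsNoetherian R (DT a (Sec M (pOpen a))) :=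
      isNoetherian_of_isNoetherianRing_of_finite R _
    exact Module.Finite.of_injective (toDT a (Sec M (pOpen a))) (toDT_sec_injective M a)

end Sec

section coh

variable (A : Type u) [CommRing A] (J : Ideal A) (M : Type u) [AddCommGroup M] [Module A M]

theorem ee'_zero : ee' A J M 0 = 0 := rfl

theorem ee'_add (x y : Sec (MM A M) (pOpen J)) :
    ee' A J M (x + y) = ee' A J M x + ee' A J M y := rfl

theorem ee'_ee (y : XX A J M) : ee' A J M (ee A J M y) = y := rfl

theorem ee'_smul (r : A) (y : Sec (MM A M) (pOpen J)) :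
    ∃ g : (Spec (CommRingCat.of A)).ringCatSheaf.obj.obj (op ⊤),
      ee' A J M (r • y) = g • ee' A J M y := by
  refine ⟨(Scheme.ΓSpecIso (CommRingCat.of A)).inv.hom r, ?_⟩
  have h := ee_smul A J M ((Scheme.ΓSpecIso (CommRingCat.of A)).inv.hom r) (ee' A J M y)
  have h1 : (Scheme.ΓSpecIso (CommRingCat.of A)).hom.hom
      ((Scheme.ΓSpecIso (CommRingCat.of A)).inv.hom r) = r :=
    congrFun (congrArg DFunLike.coe (congrArg CommRingCat.Hom.hom
      (Scheme.ΓSpecIso (CommRingCat.of A)).inv_hom_id)) r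
  rw [h1] at h
  exact h.symm

theorem isCoherentPushCompl_of_finite_sec (h : Module.Finite A (Sec (MM A M) (pOpen J))) :
    EGA4.IsCoherentPushCompl A J M := by
  obtain ⟨s, hs⟩ := h.fg_top
  classical
  show Module.Finite ((Spec (CommRingCat.of A)).ringCatSheaf.obj.obj (op ⊤)) (XX A J M)
  refine ⟨⟨s.image (ee' A J M), ?_⟩⟩
  rw [eq_top_iff]
  intro y _
  have key : ∀ x : Sec (MM A M) (pOpen J),
      x ∈ Submodule.span A (s : Set (Sec (MM A M) (pOpen J))) →
      ee' A J M x ∈ Submodule.span ((Spec (CommRingCat.of A)).ringCatSheaf.obj.obj (op ⊤))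
        ((s.image (ee' A J M) : Finset _) : Set _) := by
    intro x hx
    refine Submodule.span_induction
      (p := fun x _ => ee' A J M x ∈
        Submodule.span ((Spec (CommRingCat.of A)).ringCatSheaf.obj.obj (op ⊤))
          ((s.image (ee' A J M) : Finset _) : Set _))
      ?_ ?_ ?_ ?_ hx
    · intro z hz
      apply Submodule.subset_span
      rw [Finset.coe_image]
      exact ⟨z, hz, rfl⟩
    · rw [ee'_zero]
      exact Submodule.zero_mem _
    · intro z w _ _ hz hw
      rw [ee'_add]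
      exact Submodule.add_mem _ hz hw
    · intro r z _ hz
      obtain ⟨g, hg⟩ := ee'_smul A J M r z
      rw [hg]
      exact Submodule.smul_mem _ _ hz
  have := key (ee A J M y) (by rw [hs]; exact Submodule.mem_top)
  rwa [ee'_ee] at this

end coh

theorem finite_iff_of_semilinear {A B : Type u} [CommRing A] [CommRing B] [Algebra A B]
    (hs : Function.Surjective (algebraMap A B)) {X Y : Type u} [AddCommGroup X] [Module B X]
    [AddCommGroup Y] [Module A Y] (φ : X ≃+ Y)
    (hφ : ∀ (r : A) (x : X), φ (algebraMap A B r • x) = r • φ x) :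
    Module.Finite B X ↔ Module.Finite A Y := by
  letI : Module A X := Module.compHom X (algebraMap A B)
  haveI : IsScalarTower A B X := IsScalarTower.of_algebraMap_smul (fun r x => rfl)
  haveI : Module.Finite A B := Module.Finite.of_surjective (Algebra.linearMap A B) hs
  let ψ : X ≃ₗ[A] Y := φ.toLinearEquiv (fun r x => hφ r x)
  constructor
  · intro h
    haveI := h
    haveI : Module.Finite A X := Module.Finite.trans B X
    exact Module.Finite.equiv ψ
  · intro h
    haveI := h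
    haveI : Module.Finite A X := Module.Finite.equiv ψ.symm
    exact Module.Finite.of_restrictScalars_finite A B X

section main

variable (A : Type u) [CommRing A] [IsNoetherianRing A] (J : Ideal A) (M : Type u)
  [AddCommGroup M] [Module A M]

theorem isCoherentPushCompl_iff_FD : EGA4.IsCoherentPushCompl A J M ↔ FD J M := by
  constructor
  · intro h
    exact (finite_sec_iff_FD (MM A M) J).1 (finite_sec_of_isCoherentPushCompl A J M h)
  · intro h
    exact isCoherentPushCompl_of_finite_sec A J M ((finite_sec_iff_FD (MM A M) J).2 h)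

theorem FD_quot_iff (p : Ideal A) :
    FD J (A ⧸ p) ↔ FD (J.map (algebraMap A (A ⧸ p))) (A ⧸ p) := by
  rw [FD_iff_finite_H1 J (A ⧸ p), FD_iff_finite_H1 (J.map (algebraMap A (A ⧸ p))) (A ⧸ p)]
  obtain ⟨φ, hφ⟩ := Groth.Agent.Lib.LocCohBaseIndepH7.main (R := A) (A ⧸ p) J 1 (A ⧸ p)
  exact (finite_iff_of_semilinear Ideal.Quotient.mk_surjective φ hφ).symm

theorem finite_H1_quot (hU : CAlg.IsUniversallyCatenary A) (I : Ideal A) (p : Ideal A)
    [hpp : p.IsPrime] (hN1 : CAlg.IsN1 (A ⧸ p)) (hIp : ¬ I ≤ p)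
    (hJ2 : (2 : ℕ∞) ≤ (I.map (algebraMap A (A ⧸ p))).height) :
    Module.Finite A (LocCoh.H I 1 (A ⧸ p)) := by
  have hUC' : CAlg.IsUniversallyCatenary (A ⧸ p) := Groth.Agent.S9126.result A (A ⧸ p) hU
  have hfin := Groth.Agent.Lib.SectionsFinite_helper6.finite_case2 (A ⧸ p)
    (I.map (algebraMap A (A ⧸ p))) hUC' hN1 hJ2
  have hJ0 := Groth.Agent.Lib.SectionsFinite_helper6.ne_bot_of_two_le_height (A ⧸ p)
    (I.map (algebraMap A (A ⧸ p))) hJ2
  obtain ⟨N, hN'⟩ := Groth.Agent.Lib.FinH1Nagata_helper6.kill_H1 (A ⧸ p)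
    (I.map (algebraMap A (A ⧸ p))) hJ0 hfin
  obtain ⟨φ, hφ⟩ := Groth.Agent.Lib.LocCohBaseIndepH7.main (R := A) (A ⧸ p) I 1 (A ⧸ p)
  have hk1 : ∀ a ∈ I ^ N, ∀ z : LocCoh.H I 1 (A ⧸ p), a • z = 0 := by
    intro a ha z
    have h1 := hφ a (φ.symm z)
    rw [AddEquiv.apply_symm_apply] at h1
    have hmem : algebraMap A (A ⧸ p) a ∈ (I.map (algebraMap A (A ⧸ p))) ^ N := by
      rw [← Ideal.map_pow]
      exact Ideal.mem_map_of_mem _ ha
    rw [← h1, hN' _ hmem (φ.symm z), map_zero]
  have hk0 : ∀ z : LocCoh.H I 0 (A ⧸ p), z = 0 := by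
    obtain ⟨e⟩ := Groth.Agent.Lib.LocCohDeltaZeroH7.H0_equiv' I (A ⧸ p)
    intro z
    have hz := (e z).2
    obtain ⟨m, hm⟩ := (Groth.Agent.Lib.InjHull_helper3.mem_Γ_iff I _).1 hz
    obtain ⟨s, hsI, hsp⟩ := SetLike.not_le_iff_exists.1 hIp
    have h1 := hm (s ^ m) (Ideal.pow_mem_pow hsI m)
    obtain ⟨b, hb⟩ := Ideal.Quotient.mk_surjective (e z).1
    rw [← hb, Algebra.smul_def, Ideal.Quotient.algebraMap_eq, ← map_mul,
      Ideal.Quotient.eq_zero_iff_mem] at h1
    have hbp : b ∈ p := (hpp.mem_or_mem h1).resolve_left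
      (fun hs => hsp (hpp.mem_of_pow_mem m hs))
    have h2 : (e z).1 = 0 := by
      rw [← hb]
      exact Ideal.Quotient.eq_zero_iff_mem.2 hbp
    have h3 : e z = 0 := Subtype.ext h2
    exact e.map_eq_zero_iff.1 h3
  refine (Groth.Agent.Lib.LocCohFinH7.main I (A ⧸ p) 1).2 ⟨I ^ N, ?_, ?_⟩ 1 le_rfl
  · intro x hx
    exact ⟨N, Ideal.pow_mem_pow hx N⟩
  · intro i hi a ha x
    interval_cases i
    · rw [hk0 x, smul_zero]
    · exact hk1 a ha x

variable [Module.Finite A M]

/-- S2724 -/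
theorem main2724 :
    EGA4.IsCoherentPushCompl A J M ↔
      ∀ p ∈ associatedPrimes A M, ¬ J ≤ p →
        EGA4.IsCoherentPushCompl (A ⧸ p) (J.map (Ideal.Quotient.mk p)) (A ⧸ p) := by
  rw [isCoherentPushCompl_iff_FD]
  constructor
  · intro h p hp _
    rw [isCoherentPushCompl_iff_FD]
    obtain ⟨_, f, hf⟩ := (isAssociatedPrime_iff_exists_injective_linearMap p M).1 hp
    exact (FD_quot_iff A J p).1 (FD_of_injective J f hf h)
  · intro h
    refine FD_of_ass J fun p hp => ?_
    by_cases hJp : J ≤ p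
    · exact FD_quot_of_le J p hJp
    · exact (FD_quot_iff A J p).2
        ((isCoherentPushCompl_iff_FD (A ⧸ p) _ (A ⧸ p)).1 (h p hp hJp))

/-- S2723 -/
theorem main2723 (hA : CAlg.IsUniversallyCatenary A ∧ CAlg.IsUniversallyJapanese A)
    (h : ∀ p ∈ associatedPrimes A M, ¬ J ≤ p →
      (2 : ℕ∞) ≤ (J.map (Ideal.Quotient.mk p)).height) :
    EGA4.IsCoherentPushCompl A J M := by
  rw [isCoherentPushCompl_iff_FD]
  refine FD_of_ass J fun p hp => ?_
  by_cases hJp : J ≤ p
  · exact FD_quot_of_le J p hJp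
  · haveI hpp : p.IsPrime := IsAssociatedPrime.isPrime hp
    have hN2 : CAlg.IsN2 (A ⧸ p) := hA.2 (A ⧸ p) inferInstance
    have hN1 := Groth.Agent.Lib.AnUnramH3.isN1_of_isN2 (A ⧸ p) hN2
    exact (FD_iff_finite_H1 J (A ⧸ p)).2 (finite_H1_quot A hA.1 J p hN1 hJp (h p hp hJp))

end main

end Groth.Agent.Lib.CohPush_helper6
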