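import Mathlib
import Groth.Prelude
import Groth.Agent.Lib.PB7_helper8
import Groth.Agent.Lib.QcqsLoc_helper9

/-!
# Coherators commute with direct images (lead; S5625)

For a morphism `f : X ⟶ Y` of quasi-compact quasi-separated schemes, `Q_Y ∘ f_*` and `f_* ∘ Q_X` are
both right adjoint to `QCoh(Y) ⥤ Mod(X)`, `G ↦ f^* G`.
-/

set_option autoImplicit false
set_option linter.all false
set_option maxHeartbeats 1600000

universe u

open CategoryTheory CategoryTheory.Limits AlgebraicGeometry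

namespace Groth.Agent.Lib.CohQPushL

noncomputable section

theorem main5625 {X Y : Scheme.{u}} [CompactSpace X] [QuasiSeparatedSpace X]
    [CompactSpace Y] [QuasiSeparatedSpace Y] (f : X ⟶ Y)
    (QX : X.Modules ⥤ QCohCat.QCoh X) (adjX : (QCohCat.isQCoh X).ι ⊣ QX)
    (QY : Y.Modules ⥤ QCohCat.QCoh Y) (adjY : (QCohCat.isQCoh Y).ι ⊣ QY) :
    Nonempty ((QX ⋙ (QCohCat.isQCoh X).ι ⋙ Scheme.Modules.pushforward f) ≅
      (Scheme.Modules.pushforward f ⋙ QY ⋙ (QCohCat.isQCoh Y).ι)) := by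
  haveI : QuasiCompact f := inferInstance
  haveI : QuasiSeparated f := inferInstance
  let PQ : QCohCat.QCoh Y ⥤ QCohCat.QCoh X :=
    ObjectProperty.lift _ ((QCohCat.isQCoh Y).ι ⋙ Scheme.Modules.pullback f) (fun M => by
      haveI : M.obj.IsQuasicoherent := M.property
      exact PBH8.isQuasicoherent_pullback f M.obj)
  let FQ : QCohCat.QCoh X ⥤ QCohCat.QCoh Y :=
    ObjectProperty.lift _ ((QCohCat.isQCoh X).ι ⋙ Scheme.Modules.pushforward f) (fun M => by
      haveI : M.obj.IsQuasicoherent := M.property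
      exact QcqsLoc.isQuasicoherent_pushforward_qcqs f M.obj)
  let adjQ : PQ ⊣ FQ :=
    (Scheme.Modules.pullbackPushforwardAdjunction f).restrictFullyFaithful
      (ObjectProperty.fullyFaithfulι _) (ObjectProperty.fullyFaithfulι _)
      (Iso.refl _) (Iso.refl _)
  let adj1 : (QCohCat.isQCoh Y).ι ⋙ Scheme.Modules.pullback f ⊣
      Scheme.Modules.pushforward f ⋙ QY :=
    adjY.comp (Scheme.Modules.pullbackPushforwardAdjunction f)
  let adj2 : PQ ⋙ (QCohCat.isQCoh X).ι ⊣ QX ⋙ FQ := adjQ.comp adjX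
  let adj2' : (QCohCat.isQCoh Y).ι ⋙ Scheme.Modules.pullback f ⊣ QX ⋙ FQ :=
    adj2.ofNatIsoLeft (Iso.refl _)
  let e : Scheme.Modules.pushforward f ⋙ QY ≅ QX ⋙ FQ := adj1.rightAdjointUniq adj2'
  exact ⟨(show (QX ⋙ FQ) ⋙ (QCohCat.isQCoh Y).ι ≅
    (Scheme.Modules.pushforward f ⋙ QY) ⋙ (QCohCat.isQCoh Y).ι from
      Functor.isoWhiskerRight e.symm _)⟩

end

end Groth.Agent.Lib.CohQPushL
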