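import Mathlib

/-!
# A criterion for a functor to be a localization via right fractions (helper8)
APPEND-ONLY once landed.
-/

set_option autoImplicit false
set_option linter.style.haveILetI false

namespace Groth.Agent.Lib.LocCritH8

open CategoryTheory

universe v₁ v₂ u₁ u₂

variable {C : Type u₁} [Category.{v₁} C] {D : Type u₂} [Category.{v₂} D]

section

variable (L : C ⥤ D) (W : MorphismProperty C)
  (hW : ∀ ⦃A B : C⦄ (f : A ⟶ B), W f ↔ IsIso (L.map f))
  (hfull : ∀ (A B : C) (g : L.obj A ⟶ L.obj B),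
    ∃ (A' : C) (s : A' ⟶ A) (f : A' ⟶ B), W s ∧ L.map s ≫ g = L.map f)
  (hfaith : ∀ (A B : C) (f₁ f₂ : A ⟶ B), L.map f₁ = L.map f₂ →
    ∃ (A' : C) (s : A' ⟶ A), W s ∧ s ≫ f₁ = s ≫ f₂)

include hW in
theorem isMultiplicative_of_iff : W.IsMultiplicative where
  id_mem A := by
    rw [hW, L.map_id]
    infer_instance
  comp_mem f g hf hg := by
    rw [hW] at hf hg ⊢
    rw [L.map_comp]
    infer_instance

include hW hfull hfaith in
theorem hasRightCalculusOfFractions_of_fractions : W.HasRightCalculusOfFractions := by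
  haveI := isMultiplicative_of_iff L W hW
  refine { exists_rightFraction := ?_, ext := ?_ }
  · intro X Y φ
    haveI : IsIso (L.map φ.s) := (hW φ.s).mp φ.hs
    obtain ⟨X', t, f', ht, hf'⟩ := hfull X Y (L.map φ.f ≫ inv (L.map φ.s))
    have h1 : L.map (t ≫ φ.f) = L.map (f' ≫ φ.s) := by
      rw [L.map_comp, L.map_comp, ← hf']
      simp
    obtain ⟨X'', u, hu, hu'⟩ := hfaith _ _ _ _ h1
    refine ⟨⟨u ≫ t, W.comp_mem _ _ hu ht, u ≫ f'⟩, ?_⟩
    simpa using hu'
  · intro X Y Y' f₁ f₂ s hs h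
    haveI : IsIso (L.map s) := (hW s).mp hs
    have h1 : L.map f₁ = L.map f₂ := by
      rw [← cancel_mono (L.map s), ← L.map_comp, ← L.map_comp, h]
    obtain ⟨X', t, ht, ht'⟩ := hfaith _ _ _ _ h1
    exact ⟨X', t, ht, ht'⟩

omit hW hfull hfaith in
theorem isEquivalence_aux [W.HasRightCalculusOfFractions] (G : W.Localization ⥤ D)
    (hfac : W.Q ⋙ G = L) (hinv : W.IsInvertedBy L) [L.EssSurj]
    (hfull : ∀ (A B : C) (g : L.obj A ⟶ L.obj B),
      ∃ (A' : C) (s : A' ⟶ A) (f : A' ⟶ B), W s ∧ L.map s ≫ g = L.map f)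
    (hfaith : ∀ (A B : C) (f₁ f₂ : A ⟶ B), L.map f₁ = L.map f₂ →
      ∃ (A' : C) (s : A' ⟶ A), W s ∧ s ≫ f₁ = s ≫ f₂) :
    G.IsEquivalence := by
  subst hfac
  have hsurj : ∀ X : W.Localization, ∃ A : C, W.Q.obj A = X :=
    fun X => (Localization.Construction.objEquiv W).surjective X
  have hfrac : ∀ {A B : C} (z : W.RightFraction A B),
      G.map (z.map W.Q (Localization.inverts W.Q W)) = z.map (W.Q ⋙ G) hinv := by
    intro A B z
    haveI : IsIso ((W.Q ⋙ G).map z.s) := hinv _ z.hs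
    haveI : IsIso (W.Q.map z.s) := Localization.inverts W.Q W _ z.hs
    have h1 : (W.Q ⋙ G).map z.s ≫ G.map (z.map W.Q (Localization.inverts W.Q W)) =
        (W.Q ⋙ G).map z.f := by
      rw [Functor.comp_map, ← G.map_comp, MorphismProperty.RightFraction.map_s_comp_map]
      rfl
    rw [← cancel_epi ((W.Q ⋙ G).map z.s), h1, MorphismProperty.RightFraction.map_s_comp_map]
  haveI : G.Faithful := by
    refine ⟨fun {X Y} φ₁ φ₂ h => ?_⟩
    obtain ⟨A, rfl⟩ := hsurj X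
    obtain ⟨B, rfl⟩ := hsurj Y
    obtain ⟨z₁, rfl⟩ := Localization.exists_rightFraction W.Q W φ₁
    obtain ⟨z₂, rfl⟩ := Localization.exists_rightFraction W.Q W φ₂
    rw [MorphismProperty.RightFraction.map_eq_iff]
    rw [hfrac, hfrac] at h
    -- common denominator
    obtain ⟨ψ, hψ⟩ := (MorphismProperty.LeftFraction.mk z₁.s z₂.s z₂.hs).exists_rightFraction
    dsimp only at hψ
    haveI : IsIso ((W.Q ⋙ G).map z₁.s) := hinv _ z₁.hs
    haveI : IsIso ((W.Q ⋙ G).map z₂.s) := hinv _ z₂.hs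
    have h2 : (W.Q ⋙ G).map (ψ.s ≫ z₁.f) = (W.Q ⋙ G).map (ψ.f ≫ z₂.f) := by
      have e1 : (W.Q ⋙ G).map z₁.f = (W.Q ⋙ G).map z₁.s ≫ z₁.map (W.Q ⋙ G) hinv :=
        (MorphismProperty.RightFraction.map_s_comp_map z₁ (W.Q ⋙ G) hinv).symm
      have e2 : (W.Q ⋙ G).map z₂.f = (W.Q ⋙ G).map z₂.s ≫ z₂.map (W.Q ⋙ G) hinv :=
        (MorphismProperty.RightFraction.map_s_comp_map z₂ (W.Q ⋙ G) hinv).symm
      rw [(W.Q ⋙ G).map_comp, (W.Q ⋙ G).map_comp, e1, e2, ← h, ← Category.assoc,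
        ← Category.assoc, ← (W.Q ⋙ G).map_comp, ← (W.Q ⋙ G).map_comp, hψ]
    obtain ⟨P', u, hu, hu'⟩ := hfaith _ _ _ _ h2
    refine ⟨P', u ≫ ψ.s, u ≫ ψ.f, ?_, ?_, ?_⟩
    · simp [hψ]
    · simpa using hu'
    · rw [Category.assoc]
      exact W.comp_mem _ _ hu (W.comp_mem _ _ ψ.hs z₁.hs)
  haveI : G.Full := by
    refine ⟨fun {X Y} g => ?_⟩
    obtain ⟨A, rfl⟩ := hsurj X
    obtain ⟨B, rfl⟩ := hsurj Y
    change (W.Q ⋙ G).obj A ⟶ (W.Q ⋙ G).obj B at g
    obtain ⟨A', s, f, hs, hsf⟩ := hfull A B g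
    let z : W.RightFraction A B := ⟨s, hs, f⟩
    refine ⟨z.map W.Q (Localization.inverts W.Q W), ?_⟩
    refine (hfrac z).trans ?_
    haveI : IsIso ((W.Q ⋙ G).map s) := hinv _ hs
    rw [← cancel_epi ((W.Q ⋙ G).map s)]
    change (W.Q ⋙ G).map z.s ≫ z.map (W.Q ⋙ G) hinv = _
    rw [MorphismProperty.RightFraction.map_s_comp_map]
    exact hsf.symm
  haveI : G.EssSurj := by
    refine ⟨fun d => ?_⟩
    exact ⟨W.Q.obj ((W.Q ⋙ G).objPreimage d), ⟨(W.Q ⋙ G).objObjPreimageIso d⟩⟩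
  exact { }

include hW hfull hfaith in
/-- A functor `L` is a localization functor for `W = L⁻¹(isomorphisms)` as soon as it is
essentially surjective, "full up to right fractions" and "faithful up to `W`". -/
theorem isLocalization_of_fractions [L.EssSurj] : L.IsLocalization W := by
  have hinv : W.IsInvertedBy L := fun _ _ f hf => (hW f).mp hf
  haveI := hasRightCalculusOfFractions_of_fractions L W hW hfull hfaith
  exact ⟨hinv, isEquivalence_aux L W (Localization.Construction.lift L hinv)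
    (Localization.Construction.fac L hinv) hinv hfull hfaith⟩

end

end Groth.Agent.Lib.LocCritH8
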