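import Mathlib
import Groth.Prelude
import Groth.Agent.Lib.Deligne2_helper8
import Groth.Agent.Lib.CohCentre1_helper8
import Groth.Agent.Lib.LocCrit_helper8
import Groth.Agent.Lib.SubExt4_helper9

/-!
# `Coh(X) → Coh(U)` is a localization (helper8)
APPEND-ONLY once landed.
-/

set_option autoImplicit false
set_option linter.style.haveILetI false
set_option linter.unusedSectionVars false
set_option linter.unusedVariables false

namespace Groth.Agent.Lib.CohQuotH8

open AlgebraicGeometry CategoryTheory CategoryTheory.Limits TopologicalSpace Opposite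
open QcqsLoc QCohExtn CohDevH8 DeligneH8 Groth.Agent.Lib.CohCentreH8

universe u

variable {X : Scheme.{u}}

/-- A morphism bijective on sections over the affine opens inside `U` restricts to an isomorphism
on `U`. -/
theorem isIso_restrict_of_bijective {H T : X.Modules} (p : H ⟶ T) (U : X.Opens)
    (h : ∀ V : X.Opens, IsAffineOpen V → V ≤ U → Function.Bijective (ap p V)) :
    IsIso ((Scheme.Modules.restrictFunctor U.ι).map p) := by
  refine QCohCrit.isIso_of_isIso_app_basis _
    (fun W : (U : Scheme.{u}).affineOpens => (W : (U : Scheme.{u}).Opens)) ?_ (fun W => ?_)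
  · rw [Subtype.range_coe]
    exact (U : Scheme.{u}).isBasis_affineOpens
  · rw [ConcreteCategory.isIso_iff_bijective]
    exact h (U.ι ''ᵁ W) (W.2.image_of_isOpenImmersion U.ι) (U.ι_image_le W)

section Supp

variable [IsNoetherian X]

/-- If the kernel and cokernel of `p` are supported off `U`, then `p` is bijective on sections
over affine opens inside `U`. -/
theorem app_bijective_of_support {H T : X.Modules} (hH : Coh.IsCoh H) (hT : Coh.IsCoh T)
    (p : H ⟶ T) (U : X.Opens) (hk : CohB1.support (kernel p) ⊆ (U : Set X)ᶜ)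
    (hc : CohB1.support (cokernel p) ⊆ (U : Set X)ᶜ) {V : X.Opens} (hV : IsAffineOpen V)
    (hVU : V ≤ U) : Function.Bijective (ap p V) := by
  haveI := hH.1
  haveI := hT.1
  have hQ : Coh.IsCoh (cokernel p) := CohKerH8.isCoh_cokernel hH hT p
  haveI := hQ.1
  haveI : Subsingleton Γ(kernel p, V) := QCohCrit.subsingleton_sections _ V (fun x hx => by
    by_contra hx'
    exact hk hx' (hVU hx))
  haveI : Subsingleton Γ(cokernel p, V) := QCohCrit.subsingleton_sections _ V (fun x hx => by
    by_contra hx'
    exact hc hx' (hVU hx))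
  constructor
  · intro a b hab
    have h0 : ap p V (a - b) = 0 := by rw [map_sub, hab, sub_self]
    let S : ShortComplex X.Modules := ShortComplex.mk (kernel.ι p) p (kernel.condition p)
    haveI : Mono S.f := inferInstanceAs (Mono (kernel.ι p))
    obtain ⟨y, hy⟩ := QCohExact.app_exact S (ShortComplex.exact_kernel p) V (a - b) h0
    have hy0 : y = 0 := Subsingleton.elim _ _
    have h1 : a - b = 0 := by
      rw [← hy, hy0]
      exact map_zero _
    exact sub_eq_zero.mp h1
  · intro t
    have ht : ap (cokernel.π p) V t = 0 := Subsingleton.elim _ _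
    let S : ShortComplex X.Modules :=
      ShortComplex.mk (kernel.ι (cokernel.π p)) (cokernel.π p) (kernel.condition _)
    haveI : Mono S.f := inferInstanceAs (Mono (kernel.ι (cokernel.π p)))
    obtain ⟨y, hy⟩ := QCohExact.app_exact S (ShortComplex.exact_kernel _) V t ht
    haveI : (Abelian.image p).IsQuasicoherent := SubExt.isQuasicoherent_kernel (cokernel.π p)
    obtain ⟨a, ha⟩ := QCohExact.app_surjective_of_epi (Abelian.factorThruImage p) hV y
    refine ⟨a, ?_⟩
    have h1 := congrArg (fun χ => ap χ V a) (Abelian.image.fac p)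
    refine h1.symm.trans ?_
    change ap (Abelian.image.ι p) V (ap (Abelian.factorThruImage p) V a) = t
    rw [← hy]
    exact congrArg _ ha

theorem isIso_restrict_of_support {H T : X.Modules} (hH : Coh.IsCoh H) (hT : Coh.IsCoh T)
    (p : H ⟶ T) (U : X.Opens) (hk : CohB1.support (kernel p) ⊆ (U : Set X)ᶜ)
    (hc : CohB1.support (cokernel p) ⊆ (U : Set X)ᶜ) :
    IsIso ((Scheme.Modules.restrictFunctor U.ι).map p) :=
  isIso_restrict_of_bijective p U (fun _ hV hVU => app_bijective_of_support hH hT p U hk hc hV hVU)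

theorem isIso_restrict_iff {H T : X.Modules} (hH : Coh.IsCoh H) (hT : Coh.IsCoh T)
    (p : H ⟶ T) (U : X.Opens) :
    (CohB1.support (kernel p) ⊆ (U : Set X)ᶜ ∧ CohB1.support (cokernel p) ⊆ (U : Set X)ᶜ) ↔
      IsIso ((Scheme.Modules.restrictFunctor U.ι).map p) := by
  constructor
  · rintro ⟨hk, hc⟩
    exact isIso_restrict_of_support hH hT p U hk hc
  · intro h
    exact ⟨support_kernel_subset_compl' hH hT p U, support_cokernel_subset_compl' hH hT p U⟩

end Supp

section Main

variable [IsNoetherian X] (U : X.Opens)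
  (hres : ∀ M : X.Modules, Coh.IsCoh M → Coh.IsCoh ((Scheme.Modules.restrictFunctor U.ι).obj M))

/-- The restriction functor `Coh(X) ⥤ Coh(U)`. -/
noncomputable abbrev resFun : CohCat X ⥤ CohCat (U : Scheme.{u}) :=
  ObjectProperty.lift (fun N : (↑U : Scheme.{u}).Modules => Coh.IsCoh N)
    (ObjectProperty.ι (fun M : X.Modules => Coh.IsCoh M) ⋙ Scheme.Modules.restrictFunctor U.ι)
    (fun M => hres M.obj M.property)

/-- The morphisms of coherent modules whose kernel and cokernel are supported off `U`. -/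
def Wc : MorphismProperty (CohCat X) := fun _ _ f =>
  CohB1.support (kernel f.hom) ⊆ (↑U : Set X)ᶜ ∧ CohB1.support (cokernel f.hom) ⊆ (↑U : Set X)ᶜ

theorem isIso_resFun_map_iff {A B : CohCat X} (f : A ⟶ B) :
    IsIso ((resFun U hres).map f) ↔ IsIso ((Scheme.Modules.restrictFunctor U.ι).map f.hom) := by
  rw [← isIso_iff_of_reflects_iso _ (ObjectProperty.ι (fun N : (↑U : Scheme.{u}).Modules =>
    Coh.IsCoh N))]
  rfl

theorem Wc_iff {A B : CohCat X} (f : A ⟶ B) : Wc U f ↔ IsIso ((resFun U hres).map f) := by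
  rw [isIso_resFun_map_iff]
  exact isIso_restrict_iff A.property B.property f.hom U

/-- The vanishing ideal of the complement of `U`. -/
noncomputable abbrev Ic : X.IdealSheafData :=
  Scheme.IdealSheafData.vanishingIdeal (⟨(U : Set X)ᶜ, U.isOpen.isClosed_compl⟩ : Closeds X)

theorem coe_eq_support_compl : (U : Set X) = ((Ic U).support : Set X)ᶜ := by
  simp [Ic]

/-- The inclusion `I^n A → A` restricts to an isomorphism on `U`. -/
theorem isIso_restrict_idealMulι (A : X.Modules) (hA : Coh.IsCoh A) (n : ℕ) :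
    IsIso ((Scheme.Modules.restrictFunctor U.ι).map (Dual3.idealMulι (Ic U ^ n) A)) := by
  haveI := hA.1
  refine isIso_restrict_of_bijective _ U (fun V hV hVU => ?_)
  exact idealMulι_app_bijective (Ic U ^ n) A hV (vanishingIdeal_compl_ideal_eq_top U hV hVU n)

include hres in
theorem resFun_isLocalization : (resFun U hres).IsLocalization (Wc U) := by
  haveI : (resFun U hres).EssSurj := by
    refine ⟨fun N => ?_⟩
    have hX : ∀ x : X, ∃ V : X.Opens, x ∈ V ∧ NoetherianSpace (V : Set X) :=
      fun x => ⟨⊤, trivial, inferInstance⟩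
    haveI := N.property.1
    obtain ⟨M, hMq, hMf, ⟨e⟩⟩ := SubExt.extend_ft_module_locNoeth hX U N.obj N.property.2
    exact ⟨⟨M, ⟨hMq, hMf⟩⟩, ⟨(ObjectProperty.ι _).preimageIso e⟩⟩
  refine LocCritH8.isLocalization_of_fractions (resFun U hres) (Wc U)
    (fun A B f => Wc_iff U hres f) ?_ ?_
  · intro A B g
    obtain ⟨n, ψ, hψ⟩ := exists_extension_pow B.obj A.obj B.property.1 A.property (Ic U) U
      (coe_eq_support_compl U) g.hom
    let A' : CohCat X := ⟨(Dual3.idealMul (Ic U ^ n)).obj A.obj,
      isCoh_idealMul (Ic U ^ n) A.obj A.property⟩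
    let s : A' ⟶ A := ObjectProperty.homMk (Dual3.idealMulι (Ic U ^ n) A.obj)
    let f : A' ⟶ B := ObjectProperty.homMk ψ
    refine ⟨A', s, f, ?_, ?_⟩
    · rw [Wc_iff U hres, isIso_resFun_map_iff]
      exact isIso_restrict_idealMulι U A.obj A.property n
    · apply ObjectProperty.hom_ext
      exact hψ.symm
  · intro A B f₁ f₂ h
    have h' : (Scheme.Modules.restrictFunctor U.ι).map f₁.hom =
        (Scheme.Modules.restrictFunctor U.ι).map f₂.hom := congrArg (fun k => k.hom) h
    let ψ : (Dual3.idealMul (Ic U ^ 0)).obj A.obj ⟶ B.obj :=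
      Dual3.idealMulι (Ic U ^ 0) A.obj ≫ (f₁.hom - f₂.hom)
    have hψ : (Scheme.Modules.restrictFunctor U.ι).map ψ = 0 := by
      simp only [ψ, Functor.map_comp, Functor.map_sub, h', sub_self, comp_zero]
    obtain ⟨N, ι, hι, hι0⟩ := exists_pow_comp_eq_zero B.obj A.obj B.property.1 A.property (Ic U) U
      (coe_eq_support_compl U) 0 ψ hψ
    let A' : CohCat X := ⟨(Dual3.idealMul (Ic U ^ N)).obj A.obj,
      isCoh_idealMul (Ic U ^ N) A.obj A.property⟩
    let s : A' ⟶ A := ObjectProperty.homMk (Dual3.idealMulι (Ic U ^ N) A.obj)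
    refine ⟨A', s, ?_, ?_⟩
    · rw [Wc_iff U hres, isIso_resFun_map_iff]
      exact isIso_restrict_idealMulι U A.obj A.property N
    · apply ObjectProperty.hom_ext
      change Dual3.idealMulι (Ic U ^ N) A.obj ≫ f₁.hom = Dual3.idealMulι (Ic U ^ N) A.obj ≫ f₂.hom
      rw [← sub_eq_zero, ← Preadditive.comp_sub, ← hι, Category.assoc]
      exact hι0

end Main

end Groth.Agent.Lib.CohQuotH8
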