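import Mathlib
import Groth.Prelude
import Groth.Agent.Lib.BddGen1_lead
import Groth.Agent.Lib.MVPush3_lead
import Groth.Agent.Lib.Kosz2_lead
import Groth.Agent.Lib.BrownQC1_lead

/-!
# The coreflection `DQ_X : D(O_X) ⥤ D_QCoh(O_X)` has bounded amplitude (lead; S7255)

Let `X` be quasi-compact and quasi-separated, and `DQ` a right adjoint of the inclusion
`D_QCoh(O_X) ⥤ D(O_X)`.

* `cor_lift`, `cor_ext`: the universal property of the counit `DQ K ⟶ K`;
* `lemmaA`: for a quasi-compact open immersion `g : W ⟶ X` and `E ∈ D(O_W)`, the coreflection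
  `L` of `Rg_* E` satisfies `L ≅ Rg_* g^* L`, and `g^* L` receives no more maps from objects of
  `D_QCoh(O_W)` than `E` does;
* `base_case`: the bound for `W` affine;
* `PO`, `PO_sup`, `PO_top`: the Mayer-Vietoris induction over the opens of `X`;
* `main_secvan`: the bound for `X`, under the hypothesis `SecVan K a b` (no maps from the structure
  sheaf of an affine open to the shifts `K[i]`, `i ∉ [a, b]`).
-/

set_option autoImplicit false
set_option linter.all false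
set_option maxHeartbeats 1600000
set_option backward.isDefEq.respectTransparency false
set_option backward.isDefEq.respectTransparency.types false
set_option backward.defeqAttrib.useBackward true

universe u

open CategoryTheory CategoryTheory.Limits AlgebraicGeometry TopologicalSpace Opposite
open DerivedCategory CategoryTheory.Pretriangulated

attribute [local instance] HasDerivedCategory.standard

namespace Groth.Agent.Lib.CoherL

open Groth.Agent.Lib Groth.Agent.Lib.DCohLocLead Groth.Agent.Lib.PerfLocL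
open Groth.Agent.Lib.HomVanL Groth.Agent.Lib.CompQL Groth.Agent.Lib.SerreHomL
open Groth.Agent.Lib.TTLiftL Groth.Agent.Lib.TTApxL Groth.Agent.Lib.TTSuppL
open Groth.Agent.Lib.TTGlueL Groth.Agent.Lib.TTGenL Groth.Agent.Lib.BddGenL

noncomputable section

attribute [local instance] rpushI lpullI

/-! ### generalities -/

theorem isZero_map_biprod {C D : Type*} [Category C] [Category D] [Preadditive C] [Preadditive D]
    (F : C ⥤ D) [F.Additive] (A B : C) [HasBinaryBiproduct A B]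
    (hA : IsZero (F.obj A)) (hB : IsZero (F.obj B)) : IsZero (F.obj (A ⊞ B)) := by
  rw [IsZero.iff_id_eq_zero, ← CategoryTheory.Functor.map_id, ← biprod.total, Functor.map_add,
    Functor.map_comp, Functor.map_comp, hA.eq_of_tgt (F.map biprod.fst) 0,
    hB.eq_of_tgt (F.map biprod.snd) 0, zero_comp, zero_comp, add_zero]

/-! ### the coreflection -/

/-- the inclusion `D_QCoh(O_X) ⥤ D(O_X)` -/
abbrev ιQ (X : Scheme.{u}) : DCoh.DQCoh X ⥤ DCoh.D X :=
  ObjectProperty.ι (DCoh.IsQCohD (X := X))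

variable {X : Scheme.{u}} (DQ : DCoh.D X ⥤ DCoh.DQCoh X) (adj : ιQ X ⊣ DQ)

/-- the coreflection of `K`, as an object of `D(O_X)` -/
abbrev cc (K : DCoh.D X) : DCoh.D X := (DQ.obj K).obj

theorem isQCohD_cc (K : DCoh.D X) : DCoh.IsQCohD (cc DQ K) := (DQ.obj K).property

/-- the counit -/
abbrev eps (K : DCoh.D X) : cc DQ K ⟶ K := adj.counit.app K

include adj in
theorem cor_lift (K M : DCoh.D X) (hM : DCoh.IsQCohD M) (φ : M ⟶ K) :
    ∃ ψ : M ⟶ cc DQ K, ψ ≫ eps DQ adj K = φ := by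
  obtain ⟨Mq, hMq⟩ : ∃ Mq : DCoh.DQCoh X, Mq = ⟨M, hM⟩ := ⟨_, rfl⟩
  subst hMq
  refine ⟨(ιQ X).map ((adj.homEquiv (⟨M, hM⟩ : DCoh.DQCoh X) K) φ), ?_⟩
  have h := adj.homEquiv_counit (X := (⟨M, hM⟩ : DCoh.DQCoh X)) (Y := K)
    ((adj.homEquiv (⟨M, hM⟩ : DCoh.DQCoh X) K) φ)
  rw [Equiv.symm_apply_apply] at h
  exact h.symm

include adj in
theorem cor_ext (K M : DCoh.D X) (hM : DCoh.IsQCohD M) (ψ₁ ψ₂ : M ⟶ cc DQ K)
    (h : ψ₁ ≫ eps DQ adj K = ψ₂ ≫ eps DQ adj K) : ψ₁ = ψ₂ := by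
  obtain ⟨ψ₁', rfl⟩ := (ιQ X).map_surjective (X := (⟨M, hM⟩ : DCoh.DQCoh X)) (Y := DQ.obj K) ψ₁
  obtain ⟨ψ₂', rfl⟩ := (ιQ X).map_surjective (X := (⟨M, hM⟩ : DCoh.DQCoh X)) (Y := DQ.obj K) ψ₂
  congr 1
  apply (adj.homEquiv (⟨M, hM⟩ : DCoh.DQCoh X) K).symm.injective
  rw [adj.homEquiv_counit, adj.homEquiv_counit]
  exact h

/-! ### the coreflection of a direct image from a quasi-compact open -/

section LemmaA

variable {W : Scheme.{u}} (g : W ⟶ X) [IsOpenImmersion g] (E : DCoh.D W)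

/-- `Rg_* E` -/
abbrev RR : DCoh.D X := (DCoh.Rpush g).obj E
/-- the coreflection of `Rg_* E` -/
abbrev LL : DCoh.D X := cc DQ (RR g E)
/-- its restriction to `W` -/
abbrev LL' : DCoh.D W := (DD g).obj (LL DQ g E)
/-- and the direct image of the restriction -/
abbrev RLL' : DCoh.D X := (DCoh.Rpush g).obj (LL' DQ g E)

variable [QuasiCompact g] [QuasiSeparated g] (adjg : DD g ⊣ DCoh.Rpush g) [IsIso adjg.counit]

include adj adjg in
theorem lemmaA :
    Nonempty (LL DQ g E ≅ RLL' DQ g E) ∧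
    ∀ M : DCoh.D W, DCoh.IsQCohD M → NoHom M E → NoHom M (LL' DQ g E) := by
  haveI : (DCoh.Rpush g).Additive := CompQL.additive_of_adj adjg
  haveI : (DD g).Additive := adjg.left_adjoint_additive
  have hLq : DCoh.IsQCohD (LL DQ g E) := isQCohD_cc DQ _
  have hL'q : DCoh.IsQCohD (LL' DQ g E) := LpullQCL.isQCohD_restrictD g _ hLq
  have hRL'q : DCoh.IsQCohD (RLL' DQ g E) := RpushQCL.main0998 g _ hL'q
  obtain ⟨ε, hε⟩ : ∃ ε : LL DQ g E ⟶ RR g E, ε = eps DQ adj (RR g E) := ⟨_, rfl⟩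
  obtain ⟨η, hη⟩ : ∃ η : LL DQ g E ⟶ RLL' DQ g E, η = adjg.unit.app (LL DQ g E) := ⟨_, rfl⟩
  obtain ⟨εb, hεb⟩ : ∃ εb : LL' DQ g E ⟶ E, εb = (adjg.homEquiv (LL DQ g E) E).symm ε :=
    ⟨_, rfl⟩
  obtain ⟨θ, hθ⟩ : ∃ θ : RLL' DQ g E ⟶ RR g E, θ = (DCoh.Rpush g).map εb := ⟨_, rfl⟩
  have hηθ : η ≫ θ = ε := by
    have h := adjg.homEquiv_unit (X := LL DQ g E) (Y := E) (f := εb)
    rw [hεb, Equiv.apply_symm_apply] at h
    rw [hη, hθ, hεb]
    exact h.symm
  obtain ⟨ρ, hρ⟩ := cor_lift DQ adj (RR g E) (RLL' DQ g E) hRL'q θ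
  rw [← hε] at hρ
  have h1 : η ≫ ρ = 𝟙 (LL DQ g E) := by
    apply cor_ext DQ adj (RR g E) (LL DQ g E) hLq
    rw [← hε, Category.assoc, hρ, hηθ, Category.id_comp]
  have htri : (DD g).map η ≫ adjg.counit.app (LL' DQ g E) = 𝟙 (LL' DQ g E) := by
    rw [hη]
    exact adjg.left_triangle_components (LL DQ g E)
  have hgη : IsIso ((DD g).map η) := by
    have h : (DD g).map η = inv (adjg.counit.app (LL' DQ g E)) := by
      rw [← cancel_mono (adjg.counit.app (LL' DQ g E)), htri, IsIso.inv_hom_id]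
    rw [h]
    infer_instance
  have h2' : (DD g).map ρ ≫ (DD g).map η = 𝟙 _ := by
    have h3 : (DD g).map η ≫ (DD g).map ρ = 𝟙 _ := by
      rw [← Functor.map_comp, h1, CategoryTheory.Functor.map_id]
    have h4 : (DD g).map ρ = inv ((DD g).map η) := by
      rw [← cancel_epi ((DD g).map η), h3, IsIso.hom_inv_id]
    rw [h4, IsIso.inv_hom_id]
  have h2 : ρ ≫ η = 𝟙 (RLL' DQ g E) := by
    apply (adjg.homEquiv (RLL' DQ g E) (LL' DQ g E)).symm.injective
    rw [adjg.homEquiv_counit, adjg.homEquiv_counit, Functor.map_comp, h2',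
      CategoryTheory.Functor.map_id]
  refine ⟨⟨⟨η, ρ, h1, h2⟩⟩, ?_⟩
  intro M hM hME ψ
  have hRMq : DCoh.IsQCohD ((DCoh.Rpush g).obj M) := RpushQCL.main0998 g M hM
  have h5 : ((DCoh.Rpush g).map ψ ≫ ρ) ≫ ε = 0 := by
    rw [Category.assoc, hρ, hθ, ← Functor.map_comp, hME (ψ ≫ εb), Functor.map_zero]
  have h6 : (DCoh.Rpush g).map ψ ≫ ρ = 0 := by
    apply cor_ext DQ adj (RR g E) _ hRMq
    rw [← hε, h5, zero_comp]
  have h7 : (DCoh.Rpush g).map ψ = 0 := by
    calc (DCoh.Rpush g).map ψ = ((DCoh.Rpush g).map ψ ≫ ρ) ≫ η := by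
          rw [Category.assoc, h2, Category.comp_id]
      _ = 0 := by rw [h6, zero_comp]
  have h8 : adjg.counit.app M ≫ ψ =
      (DD g).map ((DCoh.Rpush g).map ψ) ≫ adjg.counit.app (LL' DQ g E) :=
    (adjg.counit.naturality ψ).symm
  rw [h7, Functor.map_zero, zero_comp] at h8
  exact (cancel_epi (adjg.counit.app M)).1 (h8.trans comp_zero.symm)

end LemmaA

/-! ### the affine case -/

include adj in
theorem base_case [CompactSpace X] {W : Scheme.{u}} [IsAffine W] (g : W ⟶ X)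
    [IsOpenImmersion g] [QuasiCompact g] [QuasiSeparated g] :
    ∃ N : ℕ, ∀ (E : DCoh.D W) (a b : ℤ),
      (∀ i : ℤ, (i < a ∨ b < i) → NoHom (T0 W) (E⟦i⟧)) →
      ∀ i : ℤ, (i < a ∨ b + (N : ℤ) < i) →
        IsZero (DCoh.HD (cc DQ ((DCoh.Rpush g).obj E)) i) := by
  obtain ⟨N, hN⟩ := RAdjBdH3.exists_bound g
  obtain ⟨adjg⟩ := nonempty_adj_DD g
  obtain ⟨κ⟩ := KoszL.nonempty_Rpush_comp_DD_iso_id g
  haveI : IsIso adjg.counit := adjg.isIso_counit_of_iso κ
  refine ⟨N, fun E a b hE i hi => ?_⟩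
  obtain ⟨⟨eL⟩, hNo⟩ := lemmaA DQ adj g E adjg
  have hL'q : DCoh.IsQCohD (LL' DQ g E) :=
    LpullQCL.isQCohD_restrictD g _ (isQCohD_cc DQ _)
  have hz : ∀ k : ℤ, (k < a ∨ b < k) → IsZero (DCoh.HD (LL' DQ g E) k) := by
    intro k hk
    apply isZero_HD_of_noHom_T0 W _ hL'q k
    have h1 : NoHom ((T0 W)⟦-k⟧) E := KoszL.NoHom.shift_left' (-k) k (by omega) (hE k hk)
    have h2 : NoHom ((T0 W)⟦-k⟧) (LL' DQ g E) :=
      hNo _ (isQCohD_shift _ (isQCohD_of_isPerfect _ (isPerfect_T0 W)) (-k)) h1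
    exact NoHom.shift_right k (-k) (by omega) h2
  haveI : (LL' DQ g E).IsGE a := by
    rw [DerivedCategory.isGE_iff]
    intro k hk
    exact hz k (Or.inl hk)
  haveI : (LL' DQ g E).IsLE b := by
    rw [DerivedCategory.isLE_iff]
    intro k hk
    exact hz k (Or.inr hk)
  haveI := MVPushL.grothendieck_modules W
  haveI h3 : (RLL' DQ g E).IsGE a :=
    Groth.Agent.Lib.RDerGE.isGE (Scheme.Modules.pushforward g) (LL' DQ g E) a
  haveI h4 : (RLL' DQ g E).IsLE (b + N - 1) := hN (LL' DQ g E) b hL'q inferInstance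
  refine IsZero.of_iso ?_ ((DerivedCategory.homologyFunctor X.Modules i).mapIso eL)
  rcases hi with hi | hi
  · exact DerivedCategory.isZero_of_isGE (RLL' DQ g E) a i hi
  · exact DerivedCategory.isZero_of_isLE (RLL' DQ g E) (b + N - 1) i (by omega)

/-! ### the induction over the opens of `X` -/

/-- no maps from the structure sheaf of an affine open of `X` to `K[i]`, `i ∉ [a, b]` -/
def SecVan (K : DCoh.D X) (a b : ℤ) : Prop :=
  ∀ (A : Scheme.{u}) (h : A ⟶ X) [IsOpenImmersion h] [IsAffine A] (i : ℤ),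
    (i < a ∨ b < i) → NoHom (T0 A) (((DD h).obj K)⟦i⟧)

/-- the amplitude bound for the opens immersed in `X` with image `O` -/
def PO (O : X.Opens) : Prop :=
  ∀ (W : Scheme.{u}) (g : W ⟶ X) [IsOpenImmersion g], g.opensRange = O →
    ∃ N : ℕ, ∀ (K : DCoh.D X) (a b : ℤ), SecVan K a b →
      ∀ i : ℤ, (i < a ∨ b + (N : ℤ) < i) →
        IsZero (DCoh.HD (cc DQ ((DCoh.Rpush g).obj ((DD g).obj K))) i)

variable [CompactSpace X] [QuasiSeparatedSpace X]

include adj in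
theorem PO_of_affine (O : X.Opens) (hO : IsAffineOpen O) : PO DQ O := by
  intro W g _ hg
  haveI : IsAffine (g.opensRange : Scheme.{u}) := by
    rw [hg]
    exact hO
  haveI : IsAffine W := IsAffine.of_isIso g.isoOpensRange.hom
  obtain ⟨N, hN⟩ := base_case DQ adj g
  exact ⟨N, fun K a b hK i hi => hN _ a b (fun k hk => hK W g k hk) i hi⟩

include adj in
theorem PO_sup (O₁ O₂ : X.Opens) (h₁ : PO DQ O₁) (h₂ : PO DQ O₂) (h₁₂ : PO DQ (O₁ ⊓ O₂)) :
    PO DQ (O₁ ⊔ O₂) := by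
  intro W g _ hg
  obtain ⟨W₁, hW₁⟩ : ∃ W₁ : W.Opens, W₁ = g ⁻¹ᵁ O₁ := ⟨_, rfl⟩
  obtain ⟨W₂, hW₂⟩ : ∃ W₂ : W.Opens, W₂ = g ⁻¹ᵁ O₂ := ⟨_, rfl⟩
  have hW : W₁ ⊔ W₂ = ⊤ := by
    rw [eq_top_iff]
    intro x _
    have hx : g x ∈ O₁ ⊔ O₂ := by
      rw [← hg]
      exact ⟨x, rfl⟩
    rcases hx with hx | hx
    · exact Or.inl (by rw [hW₁]; exact hx)
    · exact Or.inr (by rw [hW₂]; exact hx)
  have hr₁ : (W₁.ι ≫ g).opensRange = O₁ := by
    rw [Scheme.Hom.opensRange_comp, Scheme.Opens.opensRange_ι, hW₁,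
      Scheme.Hom.image_preimage_eq_opensRange_inf, hg]
    exact inf_eq_right.2 le_sup_left
  have hr₂ : (W₂.ι ≫ g).opensRange = O₂ := by
    rw [Scheme.Hom.opensRange_comp, Scheme.Opens.opensRange_ι, hW₂,
      Scheme.Hom.image_preimage_eq_opensRange_inf, hg]
    exact inf_eq_right.2 le_sup_right
  have hr₁₂ : ((W₁ ⊓ W₂).ι ≫ g).opensRange = O₁ ⊓ O₂ := by
    have e : W₁ ⊓ W₂ = g ⁻¹ᵁ (O₁ ⊓ O₂) := by
      rw [hW₁, hW₂]
      rfl
    rw [Scheme.Hom.opensRange_comp, Scheme.Opens.opensRange_ι, e,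
      Scheme.Hom.image_preimage_eq_opensRange_inf, hg]
    exact inf_eq_right.2 (inf_le_left.trans le_sup_left)
  obtain ⟨N₁, hN₁⟩ := h₁ _ (W₁.ι ≫ g) hr₁
  obtain ⟨N₂, hN₂⟩ := h₂ _ (W₂.ι ≫ g) hr₂
  obtain ⟨N₁₂, hN₁₂⟩ := h₁₂ _ ((W₁ ⊓ W₂).ι ≫ g) hr₁₂
  obtain ⟨N, hN⟩ : ∃ N : ℕ, N = max N₁ (max N₂ (N₁₂ + 1)) := ⟨_, rfl⟩
  have e1 : (N₁ : ℤ) ≤ N := by
    rw [hN]
    exact_mod_cast le_max_left _ _
  have e2 : (N₂ : ℤ) ≤ N := by
    rw [hN]
    exact_mod_cast (le_max_left _ _).trans (le_max_right _ _)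
  have e3 : (N₁₂ : ℤ) + 1 ≤ N := by
    rw [hN]
    exact_mod_cast (le_max_right _ _).trans (le_max_right _ _)
  refine ⟨N, fun K a b hK i hi => ?_⟩
  obtain ⟨α, β, γ, hT⟩ := MVPushL.main6511 g W₁ W₂ hW ((DD g).obj K)
  letI : DQ.CommShift ℤ := adj.rightAdjointCommShift ℤ
  haveI : adj.CommShift ℤ := adj.commShift_of_leftAdjoint ℤ
  haveI : DQ.IsTriangulated := adj.isTriangulated_rightAdjoint
  haveI : DQ.Additive := adj.right_adjoint_additive
  have hT' := (DQ ⋙ ιQ X).map_distinguished _ hT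
  have hex := DerivedCategory.HomologySequence.exact₁ _ hT' (i - 1) i (by omega)
  obtain ⟨c₁⟩ := nonempty_DD_comp_iso W₁.ι g K
  obtain ⟨c₂⟩ := nonempty_DD_comp_iso W₂.ι g K
  obtain ⟨c₁₂⟩ := nonempty_DD_comp_iso (W₁ ⊓ W₂).ι g K
  refine hex.isZero_of_both_isZero ?_ ?_
  · have h := hN₁₂ K a b hK (i - 1) (by omega)
    exact IsZero.of_iso h ((DQ ⋙ ιQ X ⋙ DerivedCategory.homologyFunctor X.Modules (i - 1)).mapIso
      ((DCoh.Rpush ((W₁ ⊓ W₂).ι ≫ g)).mapIso c₁₂.symm))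
  · have ha := hN₁ K a b hK i (by omega)
    have hb := hN₂ K a b hK i (by omega)
    have ha' : IsZero ((DQ ⋙ ιQ X ⋙ DerivedCategory.homologyFunctor X.Modules i).obj
        ((DCoh.Rpush (W₁.ι ≫ g)).obj ((DCoh.restrictD W₁.ι).obj ((DD g).obj K)))) :=
      IsZero.of_iso ha ((DQ ⋙ ιQ X ⋙ DerivedCategory.homologyFunctor X.Modules i).mapIso
        ((DCoh.Rpush (W₁.ι ≫ g)).mapIso c₁.symm))
    have hb' : IsZero ((DQ ⋙ ιQ X ⋙ DerivedCategory.homologyFunctor X.Modules i).obj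
        ((DCoh.Rpush (W₂.ι ≫ g)).obj ((DCoh.restrictD W₂.ι).obj ((DD g).obj K)))) :=
      IsZero.of_iso hb ((DQ ⋙ ιQ X ⋙ DerivedCategory.homologyFunctor X.Modules i).mapIso
        ((DCoh.Rpush (W₂.ι ≫ g)).mapIso c₂.symm))
    exact isZero_map_biprod (DQ ⋙ ιQ X ⋙ DerivedCategory.homologyFunctor X.Modules i) _ _ ha' hb'

/-! ### quasi-compact opens of an affine open -/

include adj in
theorem PO_basic (V : X.Opens) (hV : IsAffineOpen V) :
    ∀ (n : ℕ) (s : Finset Γ(X, V)), s.card ≤ n → PO DQ (s.sup (fun f => X.basicOpen f)) := by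
  classical
  intro n
  induction n with
  | zero =>
    intro s hs
    have hs' : s = ∅ := Finset.card_eq_zero.1 (Nat.le_zero.1 hs)
    rw [hs', Finset.sup_empty]
    exact PO_of_affine DQ adj ⊥ (isAffineOpen_bot X)
  | succ n ih =>
    intro s hs
    rcases s.eq_empty_or_nonempty with hs' | ⟨f, hf⟩
    · rw [hs', Finset.sup_empty]
      exact PO_of_affine DQ adj ⊥ (isAffineOpen_bot X)
    · have hcard : (s.erase f).card ≤ n := by
        rw [Finset.card_erase_of_mem hf]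
        omega
      have hsplit : s.sup (fun f => X.basicOpen f) =
          X.basicOpen f ⊔ (s.erase f).sup (fun f => X.basicOpen f) := by
        rw [← Finset.sup_insert, Finset.insert_erase hf]
      have hinf : X.basicOpen f ⊓ (s.erase f).sup (fun f => X.basicOpen f) =
          ((s.erase f).image (fun f' => f * f')).sup (fun f => X.basicOpen f) := by
        rw [Finset.sup_inf_distrib_left, Finset.sup_image]
        refine Finset.sup_congr rfl (fun f' _ => ?_)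
        exact (Scheme.basicOpen_mul X f f').symm
      rw [hsplit]
      refine PO_sup DQ adj _ _ (PO_of_affine DQ adj _ (hV.basicOpen f)) (ih _ hcard) ?_
      rw [hinf]
      exact ih _ (Finset.card_image_le.trans hcard)

theorem exists_finset_basicOpen (V : X.Opens) (hV : IsAffineOpen V) (O : X.Opens)
    (hO : IsCompact (O : Set X)) (hOV : O ≤ V) :
    ∃ s : Finset Γ(X, V), O = s.sup (fun f => X.basicOpen f) := by
  classical
  have hex : ∀ x : O, ∃ f : Γ(X, V), X.basicOpen f ≤ O ∧ (x : X) ∈ X.basicOpen f :=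
    fun x => hV.exists_basicOpen_le x (hOV x.2)
  choose F hFle hFmem using hex
  obtain ⟨t, ht⟩ := hO.elim_finite_subcover
    (fun x : O => ((X.basicOpen (F x) : X.Opens) : Set X))
    (fun x => (X.basicOpen (F x)).isOpen)
    (fun y hy => Set.mem_iUnion.2 ⟨⟨y, hy⟩, hFmem ⟨y, hy⟩⟩)
  refine ⟨t.image F, le_antisymm ?_ ?_⟩
  · intro y hy
    obtain ⟨x, hxt, hyx⟩ := Set.mem_iUnion₂.1 (ht hy)
    have hle : X.basicOpen (F x) ≤ (t.image F).sup (fun f => X.basicOpen f) :=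
      Finset.le_sup (f := fun f => X.basicOpen f) (Finset.mem_image_of_mem F hxt)
    exact hle hyx
  · refine Finset.sup_le ?_
    intro f hf
    obtain ⟨x, _, rfl⟩ := Finset.mem_image.1 hf
    exact hFle x

/-! ### finite unions of affine opens -/

include adj in
theorem PO_finset (t : Finset X.Opens) (ht : ∀ V ∈ t, IsAffineOpen V) :
    IsCompact ((t.sup id : X.Opens) : Set X) ∧ PO DQ (t.sup id) := by
  classical
  induction t using Finset.induction_on with
  | empty =>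
    refine ⟨?_, ?_⟩
    · rw [Finset.sup_empty]
      simp
    · rw [Finset.sup_empty]
      exact PO_of_affine DQ adj ⊥ (isAffineOpen_bot X)
  | insert V t hVt ih =>
    have hV : IsAffineOpen V := ht V (Finset.mem_insert_self V t)
    obtain ⟨hc, hP⟩ := ih (fun V' hV' => ht V' (Finset.mem_insert_of_mem hV'))
    rw [Finset.sup_insert]
    refine ⟨?_, ?_⟩
    · have : (((id V) ⊔ t.sup id : X.Opens) : Set X) = (V : Set X) ∪ ((t.sup id : X.Opens) : Set X) :=
        rfl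
      rw [this]
      exact hV.isCompact.union hc
    · have hcap : IsCompact (((id V) ⊓ t.sup id : X.Opens) : Set X) := by
        show IsCompact ((V : Set X) ∩ ((t.sup id : X.Opens) : Set X))
        exact QuasiSeparatedSpace.inter_isCompact (V : Set X) ((t.sup id : X.Opens) : Set X)
          V.isOpen hV.isCompact (t.sup id).isOpen hc
      obtain ⟨s, hs⟩ := exists_finset_basicOpen V hV _ hcap inf_le_left
      refine PO_sup DQ adj _ _ (PO_of_affine DQ adj _ hV) hP ?_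
      rw [hs]
      exact PO_basic DQ adj V hV s.card s le_rfl

include adj in
theorem PO_top : PO DQ (⊤ : X.Opens) := by
  classical
  have hcovA : (Set.univ : Set X) ⊆ ⋃ V : X.affineOpens, ((V.1 : X.Opens) : Set X) := by
    intro x _
    have h1 : x ∈ ((⨆ V : X.affineOpens, V.1 : X.Opens) : Set X) := by
      rw [iSup_affineOpens_eq_top]
      trivial
    simpa using h1
  obtain ⟨t, ht⟩ := isCompact_univ.elim_finite_subcover
    (fun V : X.affineOpens => ((V.1 : X.Opens) : Set X)) (fun V => V.1.isOpen) hcovA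
  have htop : (t.image Subtype.val).sup id = (⊤ : X.Opens) := by
    rw [eq_top_iff]
    intro x _
    obtain ⟨V, hV, hxV⟩ := Set.mem_iUnion₂.1 (ht (Set.mem_univ x))
    have hle : V.1 ≤ (t.image Subtype.val).sup id :=
      Finset.le_sup (f := id) (Finset.mem_image_of_mem Subtype.val hV)
    exact hle hxV
  have h := (PO_finset DQ adj (t.image Subtype.val) (fun V hV => by
    obtain ⟨V', _, rfl⟩ := Finset.mem_image.1 hV
    exact V'.2)).2
  rw [htop] at h
  exact h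

/-! ### the bound for `X` -/

include adj in
theorem main_secvan : ∃ N : ℕ, ∀ (K : DCoh.D X) (a b : ℤ), SecVan K a b →
    ∀ i : ℤ, (i < a ∨ b + (N : ℤ) < i) → IsZero (DCoh.HD (cc DQ K) i) := by
  obtain ⟨N, hN⟩ := PO_top DQ adj X (𝟙 X) (Scheme.Hom.opensRange_of_isIso (𝟙 X))
  refine ⟨N, fun K a b hK i hi => ?_⟩
  have h := hN K a b hK i hi
  obtain ⟨κ⟩ := KoszL.nonempty_Rpush_comp_DD_iso_id (𝟙 X)
  obtain ⟨c⟩ := nonempty_DD_id K
  obtain ⟨c'⟩ := nonempty_DD_id ((DCoh.Rpush (𝟙 X)).obj ((DD (𝟙 X)).obj K))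
  let e : (DCoh.Rpush (𝟙 X)).obj ((DD (𝟙 X)).obj K) ≅ K :=
    c'.symm ≪≫ κ.app ((DD (𝟙 X)).obj K) ≪≫ c
  exact IsZero.of_iso h
    ((DQ ⋙ ιQ X ⋙ DerivedCategory.homologyFunctor X.Modules i).mapIso e.symm)

end

end Groth.Agent.Lib.CoherL
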