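import Mathlib
import Groth.Prelude
import Groth.Agent.Lib.Coher1_lead
import Groth.Agent.Lib.AffIso1_lead
import Groth.Agent.Lib.DSect5_lead
import Groth.Agent.Lib.CompQ3_lead
import Groth.Agent.Lib.RDerTri_helper3

/-!
# `DQ_X` has bounded amplitude: conversion of the hypothesis (lead; S7255)

* `noHom_T0_of_isZero_H0`: if `H⁰(RΓ(U, M|_U)) = 0` then there is no nonzero map from the structure
  sheaf of `A` to `h^* M`, for an open immersion `h : A ⟶ X` with image `U`;
* `noHom_T0_shift_of_isZero`: the shifted version;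
* `main7255`.
-/

set_option autoImplicit false
set_option linter.all false
set_option maxHeartbeats 1600000
set_option backward.isDefEq.respectTransparency false
set_option backward.isDefEq.respectTransparency.types false
set_option backward.defeqAttrib.useBackward true

universe u

open CategoryTheory CategoryTheory.Limits AlgebraicGeometry TopologicalSpace Opposite
open DerivedCategory CategoryTheory.Pretriangulated

attribute [local instance] HasDerivedCategory.standard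

namespace Groth.Agent.Lib.CoherL

open Groth.Agent.Lib Groth.Agent.Lib.DCohLocLead Groth.Agent.Lib.PerfLocL
open Groth.Agent.Lib.HomVanL Groth.Agent.Lib.CompQL Groth.Agent.Lib.SerreHomL
open Groth.Agent.Lib.TTLiftL Groth.Agent.Lib.TTApxL Groth.Agent.Lib.TTSuppL
open Groth.Agent.Lib.TTGlueL Groth.Agent.Lib.TTGenL Groth.Agent.Lib.BddGenL
open Groth.Agent.Lib.StalkSkyL Groth.Agent.Lib.MVPushL Groth.Agent.Lib.DSectX
open Groth.Agent.Lib.DSectL

noncomputable section

attribute [local instance] rpushI lpullI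

theorem noHom_T0_of_isZero_H0 {X : Scheme.{u}} (M : DCoh.D X) {A : Scheme.{u}} (h : A ⟶ X)
    [IsOpenImmersion h] (U : X.Opens) (hU : h.opensRange = U) [DCoh.HasRΓ (U : Scheme.{u})]
    (hz : IsZero ((DerivedCategory.homologyFunctor AddCommGrpCat.{u} 0).obj
      ((DCoh.RΓ (U : Scheme.{u})).obj ((DCoh.restrictD U.ι).obj M)))) :
    NoHom (T0 A) ((DD h).obj M) := by
  haveI := grothendieck_modules X
  haveI := grothendieck_modules (U : Scheme.{u})
  haveI := grothendieck_modules A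
  obtain ⟨I, hI, hinj, ⟨eM⟩⟩ := Groth.Agent.Lib.KInjGen8.exists_kInjective_rep M
  haveI := hI
  haveI := isKInjective_RCx U I
  -- Step 1: exactness of the sections of `I` over `U`
  obtain ⟨ΓC, hΓC⟩ : ∃ ΓC : CochainComplex AddCommGrpCat.{u} ℤ,
      ΓC = ((DCoh.gammaAb (U : Scheme.{u})).mapHomologicalComplex (ComplexShape.up ℤ)).obj
        ((RCx U).obj I) := ⟨_, rfl⟩
  have e1 : (DCoh.RΓ (U : Scheme.{u})).obj ((DCoh.restrictD U.ι).obj M) ≅
      DerivedCategory.Q.obj ΓC := by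
    rw [hΓC]
    exact (DCoh.RΓ (U : Scheme.{u})).mapIso (iR U I M eM) ≪≫
      (Groth.Agent.Lib.RDerGE.unitIso (DCoh.gammaAb (U : Scheme.{u})) ((RCx U).obj I)).symm
  have hz' : IsZero ((DerivedCategory.homologyFunctor AddCommGrpCat.{u} 0).obj
      (DerivedCategory.Q.obj ΓC)) :=
    hz.of_iso ((DerivedCategory.homologyFunctor AddCommGrpCat.{u} 0).mapIso e1.symm)
  have hex : ΓC.ExactAt 0 := by
    rw [HomologicalComplex.exactAt_iff_isZero_homology]
    exact hz'.of_iso ((DerivedCategory.homologyFunctorFactors AddCommGrpCat.{u} 0).app ΓC).symm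
  rw [HomologicalComplex.exactAt_iff' _ (-1) 0 1 (by simp) (by simp),
    ShortComplex.ab_exact_iff] at hex
  have hsec : ∀ s : (I.X 0).presheaf.obj (op (U.ι ''ᵁ ⊤)), (I.d 0 1).app (U.ι ''ᵁ ⊤) s = 0 →
      ∃ t : (I.X (-1)).presheaf.obj (op (U.ι ''ᵁ ⊤)), (I.d (-1) 0).app (U.ι ''ᵁ ⊤) t = s := by
    intro s hs
    subst hΓC
    exact hex s hs
  have hV : U.ι ''ᵁ ⊤ = h ''ᵁ ⊤ := by
    rw [Scheme.Opens.ι_image_top, Scheme.Hom.image_top_eq_opensRange, hU]
  rw [hV] at hsec
  -- Step 2: every map from the structure sheaf comes from a cycle, which is a boundary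
  intro σ
  haveI : CochainComplex.IsKInjective ((RC h).obj I) :=
    isKInjective_map_of_adjunction (CxOX.extZeroAdj h) I
  obtain ⟨e3, -⟩ : ∃ e3 : (DD h).obj M ≅ DerivedCategory.Q.obj ((RC h).obj I), True :=
    ⟨(DD h).mapIso eM.symm ≪≫ facIso h I, trivial⟩
  obtain ⟨c, hc, hσ⟩ := exists_cycle_of_isKInjective ((RC h).obj I) (σ ≫ e3.hom)
  obtain ⟨s, hs⟩ : ∃ s : (I.X 0).presheaf.obj (op (h ''ᵁ ⊤)), s = evX A ⊤ _ c := ⟨_, rfl⟩
  have hs0 : (I.d 0 1).app (h ''ᵁ ⊤) s = 0 := by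
    have h1 := evX_comp A ⊤ c (((RC h).obj I).d 0 1)
    rw [hc, map_zero] at h1
    rw [hs]
    exact h1.symm
  obtain ⟨t, ht⟩ := hsec s hs0
  obtain ⟨w, hw⟩ : ∃ w : (PX A).obj ⊤ ⟶ ((RC h).obj I).X (-1),
      w = (evX A ⊤ (((RC h).obj I).X (-1))).symm t :=
    ⟨_, rfl⟩
  have hwc : w ≫ ((RC h).obj I).d (-1) 0 = c := by
    apply (evX A ⊤ _).injective
    rw [evX_comp, hw, AddEquiv.apply_symm_apply, ← hs]
    exact ht
  have h0 := thetaC_eq_zero_of_boundary c hc w hwc
  rw [hσ] at h0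
  exact (cancel_mono e3.hom).1 (h0.trans zero_comp.symm)

theorem noHom_T0_shift_of_isZero {X : Scheme.{u}} (K : DCoh.D X) {A : Scheme.{u}} (h : A ⟶ X)
    [IsOpenImmersion h] (U : X.Opens) (hU : h.opensRange = U) [DCoh.HasRΓ (U : Scheme.{u})]
    (i : ℤ)
    (hz : IsZero ((DerivedCategory.homologyFunctor AddCommGrpCat.{u} i).obj
      ((DCoh.RΓ (U : Scheme.{u})).obj ((DCoh.restrictD U.ι).obj K)))) :
    NoHom (T0 A) (((DD h).obj K)⟦i⟧) := by
  have h0 : NoHom (T0 A) ((DD h).obj (K⟦i⟧)) := by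
    apply noHom_T0_of_isZero_H0 (K⟦i⟧) h U hU
    haveI := grothendieck_modules (U : Scheme.{u})
    obtain ⟨e⟩ := Groth.Agent.Lib.RDerTriH3.nonempty_shift_iso (DCoh.gammaAb (U : Scheme.{u}))
      ((DCoh.restrictD U.ι).obj K) i
    refine IsZero.of_iso hz
      ((DerivedCategory.homologyFunctor AddCommGrpCat.{u} 0).mapIso
        ((DCoh.RΓ (U : Scheme.{u})).mapIso (((DCoh.restrictD U.ι).commShiftIso i).app K) ≪≫ e) ≪≫
        ((DerivedCategory.homologyFunctor AddCommGrpCat.{u} 0).shiftIso i 0 i (add_zero i)).app _)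
  exact h0.of_iso_right (((DD h).commShiftIso i).app K)

/-- **S7255** -/
theorem main7255 (X : Scheme.{u}) [CompactSpace ↥X] [QuasiSeparatedSpace ↥X]
    [(ObjectProperty.ι (DCoh.IsQCohD (X := X))).IsLeftAdjoint]
    [∀ U : X.Opens, DCoh.HasRΓ (U : Scheme.{u})] :
    ∃ N : ℕ, ∀ (K : DCoh.D X) (a b : ℤ),
      (∀ U : X.Opens, IsAffineOpen U → ∀ i : ℤ, (i < a ∨ b < i) →
        IsZero ((DerivedCategory.homologyFunctor AddCommGrpCat.{u} i).obj
          ((DCoh.RΓ (U : Scheme.{u})).obj ((DCoh.restrictD U.ι).obj K)))) →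
      ∀ i : ℤ, (i < a ∨ b + (N : ℤ) < i) →
        IsZero (DCoh.HD (((ObjectProperty.ι (DCoh.IsQCohD (X := X))).rightAdjoint.obj K).obj)
          i) := by
  obtain ⟨N, hN⟩ := main_secvan (ObjectProperty.ι (DCoh.IsQCohD (X := X))).rightAdjoint
    (Adjunction.ofIsLeftAdjoint (ObjectProperty.ι (DCoh.IsQCohD (X := X))))
  refine ⟨N, fun K a b hK i hi => hN K a b ?_ i hi⟩
  intro A h _ _ k hk
  have hU : IsAffineOpen h.opensRange := isAffineOpen_opensRange h
  exact noHom_T0_shift_of_isZero K h h.opensRange rfl k (hK _ hU k hk)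

end

end Groth.Agent.Lib.CoherL
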