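import Mathlib
import Groth.Agent.Lib.FlatExt_helper8
import Groth.Agent.Lib.GenFreeG_helper8

/-! Flatness after localization at an element: extensions, covers, filtrations. -/

open TensorProduct LinearMap

namespace FlatExtH8

variable {R : Type*} [CommRing R]

/-- `C` is flat over `R` after inverting `s`. -/
def LF (s : R) (C : Type*) [AddCommGroup C] [Module R C] : Prop :=
  Module.Flat R (LocalizedModule (Submonoid.powers s) C)

theorem LF.of_exact {s : R} {M₁ M₂ M₃ : Type*} [AddCommGroup M₁] [Module R M₁] [AddCommGroup M₂]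
    [Module R M₂] [AddCommGroup M₃] [Module R M₃] (f : M₁ →ₗ[R] M₂) (g : M₂ →ₗ[R] M₃)
    (hf : Function.Injective f) (hg : Function.Surjective g) (hfg : Function.Exact f g)
    (h₁ : LF s M₁) (h₃ : LF s M₃) : LF s M₂ := by
  unfold LF at *
  let S := Submonoid.powers s
  exact flat_of_exact
    (IsLocalizedModule.map S (LocalizedModule.mkLinearMap S M₁) (LocalizedModule.mkLinearMap S M₂) f)
    (IsLocalizedModule.map S (LocalizedModule.mkLinearMap S M₂) (LocalizedModule.mkLinearMap S M₃) g)
    (IsLocalizedModule.map_injective S _ _ f hf) (IsLocalizedModule.map_surjective S _ _ g hg)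
    (IsLocalizedModule.map_exact S _ _ _ f g hfg)

theorem LF.of_equiv {s : R} {M₁ M₂ : Type*} [AddCommGroup M₁] [Module R M₁] [AddCommGroup M₂]
    [Module R M₂] (e : M₁ ≃ₗ[R] M₂) (h₁ : LF s M₁) : LF s M₂ := by
  unfold LF at *
  let S := Submonoid.powers s
  have hbij : Function.Bijective (IsLocalizedModule.map S (LocalizedModule.mkLinearMap S M₁)
      (LocalizedModule.mkLinearMap S M₂) e.toLinearMap) :=
    ⟨IsLocalizedModule.map_injective S _ _ _ e.injective,
      IsLocalizedModule.map_surjective S _ _ _ e.surjective⟩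
  exact Module.Flat.of_linearEquiv (LinearEquiv.ofBijective _ hbij).symm

theorem LF.of_subsingleton (s : R) (C : Type*) [AddCommGroup C] [Module R C] [Subsingleton C] :
    LF s C := by
  unfold LF
  haveI : Subsingleton (LocalizedModule (Submonoid.powers s) C) := by
    refine ⟨fun x y => ?_⟩
    induction x using LocalizedModule.induction_on with
    | h m t =>
      induction y using LocalizedModule.induction_on with
      | h m' t' =>
        rw [Subsingleton.elim m 0, Subsingleton.elim m' 0, LocalizedModule.zero_mk,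
          LocalizedModule.zero_mk]
  infer_instance

theorem LF.of_cover {s : R} {C : Type*} [AddCommGroup C] [Module R C] (X : ℕ → Type*)
    [∀ i, AddCommGroup (X i)] [∀ i, Module R (X i)] (j : ∀ i, X i →ₗ[R] C)
    (hj : ∀ i, Function.Injective (j i))
    (hmono : ∀ i, LinearMap.range (j i) ≤ LinearMap.range (j (i + 1)))
    (hcov : ∀ c : C, ∃ i, c ∈ LinearMap.range (j i)) (hflat : ∀ i, LF s (X i)) :
    LF s C := by
  unfold LF at *
  let S := Submonoid.powers s
  refine flat_of_cover (fun i => LocalizedModule S (X i))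
    (fun i => IsLocalizedModule.map S (LocalizedModule.mkLinearMap S (X i))
      (LocalizedModule.mkLinearMap S C) (j i))
    (fun i => IsLocalizedModule.map_injective S _ _ _ (hj i)) ?_ ?_ hflat
  · intro i
    rintro _ ⟨x, rfl⟩
    induction x using LocalizedModule.induction_on with
    | h m t =>
      obtain ⟨m', hm'⟩ := hmono i ⟨m, rfl⟩
      refine ⟨LocalizedModule.mk m' t, ?_⟩
      rw [IsLocalizedModule.map_LocalizedModules, IsLocalizedModule.map_LocalizedModules, hm']
  · intro c
    induction c using LocalizedModule.induction_on with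
    | h m t =>
      obtain ⟨i, m', rfl⟩ := hcov m
      refine ⟨i, LocalizedModule.mk m' t, ?_⟩
      rw [IsLocalizedModule.map_LocalizedModules]

end FlatExtH8

namespace FlatExtH8

variable {R : Type*} [CommRing R]

theorem LF.of_filtration {A C : Type*} [CommRing A] [Algebra R A] [AddCommGroup C] [Module R C]
    [Module A C] [IsScalarTower R A C] (s : R) (F : ℕ → Submodule A C) (T : Submodule A C)
    (h0 : F 0 = ⊥) (hmono : ∀ d, F d ≤ F (d + 1)) (hT : ∀ d, F d ≤ T)
    (hcov : ∀ c ∈ T, ∃ d, c ∈ F d)
    (hgr : ∀ d, LF s (↥(F (d + 1)) ⧸ (F d).submoduleOf (F (d + 1)))) : LF s ↥T := by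
  have hF : ∀ d, LF s ↥(F d) := by
    intro d
    induction d with
    | zero =>
      haveI : Subsingleton ↥(F 0) := by rw [h0]; infer_instance
      exact LF.of_subsingleton s _
    | succ d ih =>
      let ι : ↥(F d) →ₗ[R] ↥(F (d + 1)) := (Submodule.inclusion (hmono d)).restrictScalars R
      let π : ↥(F (d + 1)) →ₗ[R] (↥(F (d + 1)) ⧸ (F d).submoduleOf (F (d + 1))) :=
        ((F d).submoduleOf (F (d + 1))).mkQ.restrictScalars R
      have hι : Function.Injective ι := Submodule.inclusion_injective (hmono d)
      have hπ : Function.Surjective π := fun y => by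
        obtain ⟨x, rfl⟩ := Submodule.mkQ_surjective _ y
        exact ⟨x, rfl⟩
      have hex : Function.Exact ι π := by
        intro y
        show ((F d).submoduleOf (F (d + 1))).mkQ y = 0 ↔
          y ∈ Set.range (Submodule.inclusion (hmono d))
        rw [Submodule.mkQ_apply, Submodule.Quotient.mk_eq_zero, ← LinearMap.coe_range,
          Submodule.range_inclusion]
        rfl
      exact LF.of_exact ι π hι hπ hex ih (hgr d)
  refine LF.of_cover (fun d => ↥(F d)) (fun d => (Submodule.inclusion (hT d)).restrictScalars R)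
    (fun d => Submodule.inclusion_injective (hT d)) ?_ ?_ hF
  · intro d
    rintro _ ⟨x, rfl⟩
    exact ⟨⟨x.1, hmono d x.2⟩, rfl⟩
  · rintro ⟨c, hc⟩
    obtain ⟨d, hd⟩ := hcov c hc
    exact ⟨d, ⟨c, hd⟩, rfl⟩

end FlatExtH8
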