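import Mathlib
import Groth.Agent.Lib.FlatExt2_helper8

/-! Generic flatness of cokernels (Stacks 051S / EGA IV 6.9.2), part 1. -/

open TensorProduct LinearMap

universe u

namespace CokerFlatH8

open FlatExtH8 GenFreeH8

variable {R : Type*} [CommRing R]

/-- `C` is generically flat over `R`: flat after inverting any multiple of some nonzero `f`. -/
def GGF (R : Type*) [CommRing R] (C : Type*) [AddCommGroup C] [Module R C] : Prop :=
  ∃ f : R, f ≠ 0 ∧ ∀ g : R, LF (f * g) C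

theorem GGF.of_equiv {C C' : Type*} [AddCommGroup C] [Module R C] [AddCommGroup C'] [Module R C']
    (e : C ≃ₗ[R] C') (h : GGF R C) : GGF R C' := by
  obtain ⟨f, hf, h⟩ := h
  exact ⟨f, hf, fun g => (h g).of_equiv e⟩

theorem GGF.of_exact [NoZeroDivisors R] {M₁ M₂ M₃ : Type*} [AddCommGroup M₁] [Module R M₁]
    [AddCommGroup M₂] [Module R M₂] [AddCommGroup M₃] [Module R M₃] (f : M₁ →ₗ[R] M₂)
    (g : M₂ →ₗ[R] M₃) (hf : Function.Injective f) (hg : Function.Surjective g)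
    (hfg : Function.Exact f g) (h₁ : GGF R M₁) (h₃ : GGF R M₃) : GGF R M₂ := by
  obtain ⟨f₁, hf₁, h₁⟩ := h₁
  obtain ⟨f₃, hf₃, h₃⟩ := h₃
  refine ⟨f₁ * f₃, mul_ne_zero hf₁ hf₃, fun c => ?_⟩
  refine LF.of_exact f g hf hg hfg ?_ ?_
  · rw [mul_assoc]; exact h₁ _
  · rw [mul_comm f₁ f₃, mul_assoc]; exact h₃ _

theorem GGF.of_finite [IsDomain R] (A : Type*) [CommRing A] [Algebra R A] [Algebra.FiniteType R A]
    (C : Type*) [AddCommGroup C] [Module R C] [Module A C] [IsScalarTower R A C]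
    [Module.Finite A C] : GGF R C := by
  obtain ⟨a, ha, hg, -⟩ := GenFreeH8.main (R := R) (S := A) C
  exact ⟨a, ha, fun g => (hg.mono g).flat (LocalizedModule.mkLinearMap _ C)⟩

theorem exists_uniform [IsDomain R] (X : ℕ → Type*) [∀ i, AddCommGroup (X i)]
    [∀ i, Module R (X i)] (h : ∀ i, GGF R (X i)) (D : ℕ) :
    ∃ f : R, f ≠ 0 ∧ ∀ i ≤ D, ∀ g : R, LF (f * g) (X i) := by
  induction D with
  | zero =>
    obtain ⟨f, hf, h0⟩ := h 0
    refine ⟨f, hf, fun i hi g => ?_⟩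
    obtain rfl : i = 0 := Nat.le_zero.mp hi
    exact h0 g
  | succ D ih =>
    obtain ⟨f₁, hf₁, h₁⟩ := ih
    obtain ⟨f₂, hf₂, h₂⟩ := h (D + 1)
    refine ⟨f₁ * f₂, mul_ne_zero hf₁ hf₂, fun i hi g => ?_⟩
    rcases Nat.of_le_succ hi with hi | rfl
    · rw [mul_assoc]; exact h₁ i hi _
    · rw [mul_comm f₁ f₂, mul_assoc]; exact h₂ _

end CokerFlatH8
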