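import Mathlib
import Groth.Agent.Lib.CokerFlat_helper8

/-! Generic flatness of cokernels, part 2: the one-variable step. -/

open TensorProduct LinearMap

namespace CokerFlatH8

open FlatExtH8 GenFreeH8

section Step

variable {R : Type*} [CommRing R] [IsDomain R] [IsNoetherianRing R]
  {A : Type*} [CommRing A] [Algebra R A] [Algebra.FiniteType R A]
  {A' : Type*} [CommRing A'] [Algebra A A']
  {N : Type*} [AddCommGroup N] [Module A' N] [Module A N] [Module R N] [IsScalarTower A A' N]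
  [IsScalarTower R A N]

theorem step (b : A') (hb : Algebra.adjoin A {b} = ⊤) (Mb : Submodule A N) (hfg : Mb.FG)
    (h : GGF R (N ⧸ (Submodule.span A' (Mb : Set N)).restrictScalars A)) : GGF R (N ⧸ Mb) := by
  classical
  haveI : IsNoetherianRing A := Algebra.FiniteType.isNoetherianRing R A
  set M' : Submodule A N := (Submodule.span A' (Mb : Set N)).restrictScalars A with hM'
  have hM'mem : ∀ x, x ∈ M' ↔ x ∈ Submodule.span A' (Mb : Set N) := fun x => Iff.rfl
  let T : N →ₗ[A] N :=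
    { toFun := fun n => b • n
      map_add' := smul_add b
      map_smul' := fun a n => smul_comm b a n }
  have hTk : ∀ (k : ℕ) (n : N), (T ^ k) n = b ^ k • n := by
    intro k
    induction k with
    | zero => intro n; simp
    | succ k ih =>
      intro n
      rw [pow_succ' T k, Module.End.mul_apply, ih, pow_succ' b k, mul_smul]
      rfl
  let Nd : ℕ → Submodule A N := fun d => Nat.rec Mb (fun d Nd => Nd ⊔ Mb.map (T ^ (d + 1))) d
  have hN0 : Nd 0 = Mb := rfl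
  have hNs : ∀ d, Nd (d + 1) = Nd d ⊔ Mb.map (T ^ (d + 1)) := fun d => rfl
  have hmono : ∀ d, Nd d ≤ Nd (d + 1) := fun d => by rw [hNs]; exact le_sup_left
  have hmono' : Monotone Nd := monotone_nat_of_le_succ hmono
  have hMbN : ∀ d, Mb ≤ Nd d := fun d => by
    have := hmono' (Nat.zero_le d)
    rwa [hN0] at this
  have hTN : ∀ d, (Nd d).map T ≤ Nd (d + 1) := by
    intro d
    induction d with
    | zero =>
      rw [hNs, hN0, zero_add, pow_one]; exact le_sup_right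
    | succ d ih =>
      have h1 : (Nd (d + 1)).map T = (Nd d).map T ⊔ Mb.map (T ^ (d + 1 + 1)) := by
        rw [hNs d, Submodule.map_sup, pow_succ' T (d + 1), Module.End.mul_eq_comp,
          Submodule.map_comp]
      rw [h1, hNs (d + 1)]
      exact sup_le_sup_right ih _
  have hMbM' : Mb ≤ M' := fun x hx => (hM'mem x).mpr (Submodule.subset_span hx)
  have hNM' : ∀ d, Nd d ≤ M' := by
    intro d
    induction d with
    | zero => exact hMbM'
    | succ d ih =>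
      rw [hNs]
      refine sup_le ih ?_
      rintro _ ⟨m, hm, rfl⟩
      rw [hTk, hM'mem]
      exact Submodule.smul_mem _ _ (Submodule.subset_span hm)
  have hclos : ∀ a' : A', ∀ (x : N) (d : ℕ), x ∈ Nd d → ∃ d', a' • x ∈ Nd d' := by
    intro a'
    have ha' : a' ∈ Algebra.adjoin A {b} := by rw [hb]; exact Algebra.mem_top
    induction ha' using Algebra.adjoin_induction with
    | mem y hy =>
      intro x d hx
      obtain rfl : y = b := hy
      exact ⟨d + 1, hTN d ⟨x, hx, rfl⟩⟩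
    | algebraMap a =>
      intro x d hx
      exact ⟨d, by rw [algebraMap_smul]; exact Submodule.smul_mem _ _ hx⟩
    | add a₁ a₂ _ _ h₁ h₂ =>
      intro x d hx
      obtain ⟨d₁, hd₁⟩ := h₁ x d hx
      obtain ⟨d₂, hd₂⟩ := h₂ x d hx
      exact ⟨max d₁ d₂, by
        rw [add_smul]
        exact Submodule.add_mem _ (hmono' (le_max_left _ _) hd₁) (hmono' (le_max_right _ _) hd₂)⟩
    | mul a₁ a₂ _ _ h₁ h₂ =>
      intro x d hx
      obtain ⟨d₂, hd₂⟩ := h₂ x d hx
      obtain ⟨d₁, hd₁⟩ := h₁ _ d₂ hd₂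
      exact ⟨d₁, by rw [mul_smul]; exact hd₁⟩
  have hcov : ∀ x ∈ M', ∃ d, x ∈ Nd d := by
    intro x hx
    rw [hM'mem] at hx
    induction hx using Submodule.span_induction with
    | mem x hx => exact ⟨0, hx⟩
    | zero => exact ⟨0, Submodule.zero_mem _⟩
    | add x y _ _ h₁ h₂ =>
      obtain ⟨d₁, hd₁⟩ := h₁
      obtain ⟨d₂, hd₂⟩ := h₂
      exact ⟨max d₁ d₂,
        Submodule.add_mem _ (hmono' (le_max_left _ _) hd₁) (hmono' (le_max_right _ _) hd₂)⟩
    | smul a' x _ h₁ =>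
      obtain ⟨d, hd⟩ := h₁
      exact hclos a' x d hd
  -- the quotient and its filtration
  let π : N →ₗ[A] (N ⧸ Mb) := Mb.mkQ
  let F : ℕ → Submodule A (N ⧸ Mb) := fun d => (Nd d).map π
  let TC : Submodule A (N ⧸ Mb) := M'.map π
  have hπmem : ∀ d x, π x ∈ F d ↔ x ∈ Nd d := by
    intro d x
    constructor
    · rintro ⟨y, hy, hxy⟩
      have h1 : y - x ∈ Mb := (Submodule.Quotient.eq Mb).mp hxy
      have h2 : x = y - (y - x) := by abel
      rw [h2]
      exact Submodule.sub_mem _ hy (hMbN d h1)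
    · intro hx
      exact ⟨x, hx, rfl⟩
  have hF0 : F 0 = ⊥ := by
    show (Nd 0).map Mb.mkQ = ⊥
    rw [hN0, Submodule.mkQ_map_self]
  have hFmono : ∀ d, F d ≤ F (d + 1) := fun d => Submodule.map_mono (hmono d)
  have hFT : ∀ d, F d ≤ TC := fun d => Submodule.map_mono (hNM' d)
  have hFcov : ∀ c ∈ TC, ∃ d, c ∈ F d := by
    rintro _ ⟨x, hx, rfl⟩
    obtain ⟨d, hd⟩ := hcov x hx
    exact ⟨d, x, hd, rfl⟩
  -- the graded pieces
  let ψ : ∀ d : ℕ, ↥Mb →ₗ[A] ↥(F (d + 1)) := fun d =>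
    LinearMap.codRestrict (F (d + 1)) (π ∘ₗ (T ^ (d + 1)) ∘ₗ Mb.subtype) (fun m => by
      refine ⟨(T ^ (d + 1)) m.1, ?_, rfl⟩
      rw [hNs]
      exact Submodule.mem_sup_right ⟨m.1, m.2, rfl⟩)
  let φ : ∀ d : ℕ, ↥Mb →ₗ[A] (↥(F (d + 1)) ⧸ (F d).submoduleOf (F (d + 1))) := fun d =>
    ((F d).submoduleOf (F (d + 1))).mkQ ∘ₗ ψ d
  have hsub : ∀ d (y : ↥(F (d + 1))),
      y ∈ (F d).submoduleOf (F (d + 1)) ↔ (y : N ⧸ Mb) ∈ F d := fun d y => Iff.rfl
  have hφker : ∀ d (m : ↥Mb), φ d m = 0 ↔ (T ^ (d + 1)) m.1 ∈ Nd d := by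
    intro d m
    show ((F d).submoduleOf (F (d + 1))).mkQ (ψ d m) = 0 ↔ _
    rw [Submodule.mkQ_apply, Submodule.Quotient.mk_eq_zero, hsub, ← hπmem]
    rfl
  have hφsurj : ∀ d, Function.Surjective (φ d) := by
    intro d y
    obtain ⟨⟨c, hc⟩, rfl⟩ := Submodule.mkQ_surjective _ y
    have hc' := hc
    obtain ⟨x, hx, rfl⟩ := hc'
    rw [hNs] at hx
    obtain ⟨n, hn, t, ht, rfl⟩ := Submodule.mem_sup.mp hx
    obtain ⟨m, hm, rfl⟩ := ht
    refine ⟨⟨m, hm⟩, ?_⟩
    show ((F d).submoduleOf (F (d + 1))).mkQ (ψ d ⟨m, hm⟩) = _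
    rw [Submodule.mkQ_apply, Submodule.mkQ_apply, Submodule.Quotient.eq, hsub]
    have h1 : ((ψ d ⟨m, hm⟩ - ⟨π (n + (T ^ (d + 1)) m), hc⟩ : ↥(F (d + 1))) : N ⧸ Mb)
        = π (-n) := by
      show π ((T ^ (d + 1)) m) - π (n + (T ^ (d + 1)) m) = π (-n)
      rw [← map_sub]; congr 1; abel
    rw [h1, hπmem]
    exact Submodule.neg_mem _ hn
  have hKmono : ∀ d, LinearMap.ker (φ d) ≤ LinearMap.ker (φ (d + 1)) := by
    intro d m hm
    have hm' : φ d m = 0 := hm
    have hm'' := (hφker d m).mp hm'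
    show φ (d + 1) m = 0
    rw [hφker (d + 1) m]
    have : (T ^ (d + 1 + 1)) m.1 = T ((T ^ (d + 1)) m.1) := by
      rw [pow_succ' T (d + 1), Module.End.mul_apply]
    rw [this]
    exact hTN d ⟨_, hm'', rfl⟩
  let K : ℕ →o Submodule A ↥Mb := ⟨fun d => LinearMap.ker (φ d), monotone_nat_of_le_succ hKmono⟩
  haveI : IsNoetherian A ↥Mb := isNoetherian_of_fg_of_noetherian Mb hfg
  obtain ⟨D, hD⟩ := monotone_stabilizes_iff_noetherian.mpr (inferInstance : IsNoetherian A ↥Mb) K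
  have hX : ∀ d, GGF R (↥Mb ⧸ LinearMap.ker (φ d)) := fun d => GGF.of_finite A _
  obtain ⟨f₁, hf₁, h₁⟩ := exists_uniform (fun d => ↥Mb ⧸ LinearMap.ker (φ d)) hX D
  have h₁' : ∀ d g, LF (f₁ * g) (↥Mb ⧸ LinearMap.ker (φ d)) := by
    intro d g
    by_cases hd : d ≤ D
    · exact h₁ d hd g
    · have e : LinearMap.ker (φ D) = LinearMap.ker (φ d) := hD d (le_of_not_ge hd)
      exact (h₁ D le_rfl g).of_equiv ((Submodule.quotEquivOfEq _ _ e).restrictScalars R)
  have hgr : ∀ g d, LF (f₁ * g) (↥(F (d + 1)) ⧸ (F d).submoduleOf (F (d + 1))) := fun g d =>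
    (h₁' d g).of_equiv (((φ d).quotKerEquivOfSurjective (hφsurj d)).restrictScalars R)
  have hTC : ∀ g, LF (f₁ * g) ↥TC := fun g =>
    LF.of_filtration (f₁ * g) F TC hF0 hFmono hFT hFcov (hgr g)
  let e3 : ((N ⧸ Mb) ⧸ TC) ≃ₗ[A] N ⧸ M' := Submodule.quotientQuotientEquivQuotient Mb M' hMbM'
  obtain ⟨f₂, hf₂, h₂⟩ := h
  refine ⟨f₁ * f₂, mul_ne_zero hf₁ hf₂, fun g => ?_⟩
  let ι : ↥TC →ₗ[R] (N ⧸ Mb) := TC.subtype.restrictScalars R
  let q : (N ⧸ Mb) →ₗ[R] ((N ⧸ Mb) ⧸ TC) := TC.mkQ.restrictScalars R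
  have hι : Function.Injective ι := TC.injective_subtype
  have hq : Function.Surjective q := fun y => by
    obtain ⟨x, rfl⟩ := Submodule.mkQ_surjective _ y
    exact ⟨x, rfl⟩
  have hex : Function.Exact ι q := by
    intro y
    show TC.mkQ y = 0 ↔ y ∈ Set.range TC.subtype
    rw [Submodule.mkQ_apply, Submodule.Quotient.mk_eq_zero, ← LinearMap.coe_range,
      Submodule.range_subtype]
    rfl
  refine LF.of_exact ι q hι hq hex ?_ ?_
  · rw [mul_assoc]; exact hTC _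
  · rw [mul_comm f₁ f₂, mul_assoc]; exact (h₂ _).of_equiv (e3.symm.restrictScalars R)

end Step

end CokerFlatH8
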