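import Mathlib
import Groth.Agent.Lib.CokerFlat2_helper8

/-! Generic flatness of cokernels, part 3: induction on the number of algebra generators. -/

open TensorProduct LinearMap

universe u

namespace CokerFlatH8

open FlatExtH8 GenFreeH8

variable {R : Type u} [CommRing R] [IsDomain R] [IsNoetherianRing R]

theorem claim (m : ℕ) : ∀ (A : Type u) [CommRing A] [Algebra R A] [Algebra.FiniteType R A]
    (B : Type u) [CommRing B] [Algebra A B] (b : Fin m → B)
    (_ : Algebra.adjoin A (Set.range b) = ⊤)
    (N : Type u) [AddCommGroup N] [Module B N] [Module A N] [Module R N] [IsScalarTower A B N]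
    [IsScalarTower R A N] [Module.Finite B N] (Mb : Submodule A N) (_ : Mb.FG),
    GGF R (N ⧸ Mb) := by
  induction m with
  | zero =>
    intro A _ _ _ B _ _ b hb N _ _ _ _ _ _ _ Mb hfg
    have hsurj : Function.Surjective (algebraMap A B) := by
      rw [Algebra.surjective_algebraMap_iff, ← hb]
      have : Set.range b = ∅ := Set.range_eq_empty b
      rw [this, Algebra.adjoin_empty]
    haveI : Module.Finite A N := by
      obtain ⟨s, hs⟩ := (Module.Finite.fg_top (R := B) (M := N))
      refine ⟨⟨s, ?_⟩⟩
      rw [← Submodule.restrictScalars_span A B hsurj, hs]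
      rfl
    exact GGF.of_finite A _
  | succ m ih =>
    intro A _ _ _ B _ _ b hb N _ _ _ _ _ _ _ Mb hfg
    classical
    let A' : Subalgebra A B := Algebra.adjoin A {b 0}
    letI : Algebra R ↥A' := ((algebraMap A ↥A').comp (algebraMap R A)).toAlgebra
    haveI : IsScalarTower R A ↥A' := IsScalarTower.of_algebraMap_eq fun _ => rfl
    haveI : Algebra.FiniteType A ↥A' := by
      rw [← Subalgebra.fg_iff_finiteType]
      have := Subalgebra.fg_adjoin_finset (R := A) ({b 0} : Finset B)
      simpa using this
    haveI : Algebra.FiniteType R ↥A' := Algebra.FiniteType.trans (S := A) inferInstance inferInstance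
    haveI : IsScalarTower R ↥A' N := IsScalarTower.of_algebraMap_smul fun r x => by
      show (algebraMap A ↥A' (algebraMap R A r)) • x = r • x
      rw [algebraMap_smul, algebraMap_smul]
    let b₀ : ↥A' := ⟨b 0, Algebra.subset_adjoin (Set.mem_singleton _)⟩
    have hb₀ : Algebra.adjoin A {b₀} = ⊤ := by
      have h1 := Algebra.adjoin_adjoin_coe_preimage (R := A) (s := ({b 0} : Set B))
      have h2 : ((↑) : ↥(Algebra.adjoin A ({b 0} : Set B)) → B) ⁻¹' {b 0} = {b₀} := by
        ext x
        simp only [Set.mem_preimage, Set.mem_singleton_iff]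
        exact ⟨fun h => Subtype.ext h, fun h => by rw [h]⟩
      rw [h2] at h1
      exact h1
    have hb' : Algebra.adjoin ↥A' (Set.range (b ∘ Fin.succ)) = ⊤ := by
      rw [eq_top_iff]
      intro x hx0
      clear hx0
      have hx : x ∈ Algebra.adjoin A (Set.range b) := by rw [hb]; exact Algebra.mem_top
      induction hx using Algebra.adjoin_induction with
      | mem y hy =>
        obtain ⟨i, rfl⟩ := hy
        refine Fin.cases ?_ (fun j => ?_) i
        · exact Subalgebra.algebraMap_mem _ b₀
        · exact Algebra.subset_adjoin ⟨j, rfl⟩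
      | algebraMap a =>
        exact Subalgebra.algebraMap_mem _ (algebraMap A ↥A' a)
      | add x y _ _ hx hy => exact Subalgebra.add_mem _ hx hy
      | mul x y _ _ hx hy => exact Subalgebra.mul_mem _ hx hy
    let M' : Submodule ↥A' N := Submodule.span ↥A' (Mb : Set N)
    have hfg' : M'.FG := by
      obtain ⟨s, hs⟩ := hfg
      refine ⟨s, ?_⟩
      show _ = Submodule.span ↥A' (Mb : Set N)
      rw [← hs, Submodule.span_span_of_tower]
    have h1 : GGF R (N ⧸ M') := ih ↥A' B (b ∘ Fin.succ) hb' N M' hfg'
    refine step b₀ hb₀ Mb hfg ?_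
    refine h1.of_equiv ?_
    exact ((Submodule.Quotient.restrictScalarsEquiv R M').symm ≪≫ₗ
      (Submodule.Quotient.restrictScalarsEquiv R (M'.restrictScalars A)))

/-- **Generic flatness of cokernels** (Stacks 051S, EGA IV 6.9.2). -/
theorem coker_generic_flat {A B : Type u} [CommRing A] [CommRing B]
    [Algebra R A] [Algebra A B] [Algebra.FiniteType R A] [Algebra.FiniteType A B]
    {M N : Type u} [AddCommGroup M] [Module A M] [Module.Finite A M]
    [AddCommGroup N] [Module B N] [Module A N] [Module R N] [IsScalarTower A B N]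
    [IsScalarTower R A N] [Module.Finite B N] (u : M →ₗ[A] N) :
    ∃ f : R, f ≠ 0 ∧ Module.Flat (Localization.Away f)
      (LocalizedModule (Submonoid.powers f) (N ⧸ (LinearMap.range u).restrictScalars R)) := by
  classical
  obtain ⟨s, hs⟩ := (Algebra.FiniteType.out : (⊤ : Subalgebra A B).FG)
  let b : Fin s.card → B := fun i => (s.equivFin.symm i : B)
  have hb : Algebra.adjoin A (Set.range b) = ⊤ := by
    rw [← hs]
    congr 1
    ext x
    constructor
    · rintro ⟨i, rfl⟩
      exact (s.equivFin.symm i).2
    · intro hx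
      exact ⟨s.equivFin ⟨x, hx⟩, by simp [b]⟩
  have hfg : (LinearMap.range u).FG := by
    rw [LinearMap.range_eq_map]
    exact (Module.Finite.fg_top).map u
  obtain ⟨f, hf, h⟩ := claim (R := R) s.card A B b hb N (LinearMap.range u) hfg
  refine ⟨f, hf, ?_⟩
  have h1 : LF f (N ⧸ LinearMap.range u) := by
    have := h 1
    rwa [mul_one] at this
  have h2 : LF f (N ⧸ (LinearMap.range u).restrictScalars R) :=
    h1.of_equiv (Submodule.Quotient.restrictScalarsEquiv R (LinearMap.range u)).symm
  exact (Module.flat_iff_of_isLocalization (Localization.Away f) (Submonoid.powers f) _).mpr h2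

end CokerFlatH8
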