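import Mathlib

/-!
# Exactness of colimits of short exact sequences (helper2)

* `exact_of_evaluation`, `shortExact_of_evaluation`: exactness in functor categories is pointwise.
* `shortExact_of_isColimit`: colimit of pointwise short exact sequences is short exact if colimits
  of the given shape are exact.
* `shortExact_of_cofans`: the case of coproducts.
* `isIso_inj_of_isZero`: a coproduct with a single nonzero summand.
-/

open CategoryTheory Limits

namespace Groth.Agent.Lib.ColimExact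

universe w w' v u

variable {C : Type u} [Category.{v} C] [Abelian C] {J : Type w} [Category.{w'} J]

lemma exact_of_evaluation (S : ShortComplex (J ⥤ C))
    (h : ∀ j, (S.map ((evaluation J C).obj j)).Exact) : S.Exact := by
  rw [ShortComplex.exact_iff_isZero_homology]
  apply Functor.isZero
  intro j
  exact IsZero.of_iso ((ShortComplex.exact_iff_isZero_homology _).1 (h j))
    (S.mapHomologyIso ((evaluation J C).obj j)).symm

lemma shortExact_of_evaluation (S : ShortComplex (J ⥤ C))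
    (h : ∀ j, (S.map ((evaluation J C).obj j)).ShortExact) : S.ShortExact := by
  haveI : ∀ j, Mono (S.f.app j) := fun j => (h j).mono_f
  haveI : ∀ j, Epi (S.g.app j) := fun j => (h j).epi_g
  exact { exact := exact_of_evaluation S (fun j => (h j).exact)
          mono_f := NatTrans.mono_of_mono_app _
          epi_g := NatTrans.epi_of_epi_app _ }

theorem shortExact_map_colim [HasColimitsOfShape J C] [HasExactColimitsOfShape J C]
    (S : ShortComplex (J ⥤ C))
    (h : ∀ j, (S.map ((evaluation J C).obj j)).ShortExact) : (S.map colim).ShortExact := by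
  haveI : PreservesFiniteLimits (colim : (J ⥤ C) ⥤ C) :=
    HasExactColimitsOfShape.preservesFiniteLimits
  exact (shortExact_of_evaluation S h).map_of_exact colim

theorem exact_map_colim [HasColimitsOfShape J C] [HasExactColimitsOfShape J C]
    (S : ShortComplex (J ⥤ C))
    (h : ∀ j, (S.map ((evaluation J C).obj j)).Exact) : (S.map colim).Exact := by
  haveI : PreservesFiniteLimits (colim : (J ⥤ C) ⥤ C) :=
    HasExactColimitsOfShape.preservesFiniteLimits
  exact (exact_of_evaluation S h).map colim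

theorem shortExact_of_isColimit [HasColimitsOfShape J C] [HasExactColimitsOfShape J C]
    {F₁ F₂ F₃ : J ⥤ C} (α : F₁ ⟶ F₂) (β : F₂ ⟶ F₃)
    (h : ∀ j, ∃ w, (ShortComplex.mk (α.app j) (β.app j) w).ShortExact)
    {c₁ : Cocone F₁} {c₂ : Cocone F₂} {c₃ : Cocone F₃}
    (h₁ : IsColimit c₁) (h₂ : IsColimit c₂) (h₃ : IsColimit c₃)
    (φ : c₁.pt ⟶ c₂.pt) (ψ : c₂.pt ⟶ c₃.pt)
    (hφ : ∀ j, c₁.ι.app j ≫ φ = α.app j ≫ c₂.ι.app j)
    (hψ : ∀ j, c₂.ι.app j ≫ ψ = β.app j ≫ c₃.ι.app j) (w : φ ≫ ψ = 0) :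
    (ShortComplex.mk φ ψ w).ShortExact := by
  have wαβ : α ≫ β = 0 := by
    ext j
    obtain ⟨w', _⟩ := h j
    simpa using w'
  let S : ShortComplex (J ⥤ C) := ShortComplex.mk α β wαβ
  have hS : (S.map colim).ShortExact := by
    apply shortExact_map_colim
    intro j
    obtain ⟨w', hw'⟩ := h j
    exact hw'
  let e₁ := (colimit.isColimit F₁).coconePointUniqueUpToIso h₁
  let e₂ := (colimit.isColimit F₂).coconePointUniqueUpToIso h₂
  let e₃ := (colimit.isColimit F₃).coconePointUniqueUpToIso h₃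
  refine ShortComplex.shortExact_of_iso (ShortComplex.isoMk e₁ e₂ e₃ ?_ ?_) hS
  · apply colimit.hom_ext
    intro j
    have l1 : colimit.ι F₁ j ≫ e₁.hom = c₁.ι.app j :=
      colimit.comp_coconePointUniqueUpToIso_hom h₁ j
    have l2 : colimit.ι F₂ j ≫ e₂.hom = c₂.ι.app j :=
      colimit.comp_coconePointUniqueUpToIso_hom h₂ j
    show colimit.ι F₁ j ≫ e₁.hom ≫ φ = colimit.ι F₁ j ≫ colimMap α ≫ e₂.hom
    rw [reassoc_of% l1, hφ, ι_colimMap_assoc, l2]
  · apply colimit.hom_ext
    intro j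
    have l2 : colimit.ι F₂ j ≫ e₂.hom = c₂.ι.app j :=
      colimit.comp_coconePointUniqueUpToIso_hom h₂ j
    have l3 : colimit.ι F₃ j ≫ e₃.hom = c₃.ι.app j :=
      colimit.comp_coconePointUniqueUpToIso_hom h₃ j
    show colimit.ι F₂ j ≫ e₂.hom ≫ ψ = colimit.ι F₂ j ≫ colimMap β ≫ e₃.hom
    rw [reassoc_of% l2, hψ, ι_colimMap_assoc, l3]

theorem shortExact_of_cofans {I : Type w} [HasColimitsOfShape (Discrete I) C]
    [HasExactColimitsOfShape (Discrete I) C]
    {X₁ X₂ X₃ : I → C} (f : ∀ i, X₁ i ⟶ X₂ i) (g : ∀ i, X₂ i ⟶ X₃ i)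
    (hfg : ∀ i, ∃ w, (ShortComplex.mk (f i) (g i) w).ShortExact)
    {c₁ : Cofan X₁} {c₂ : Cofan X₂} {c₃ : Cofan X₃}
    (h₁ : IsColimit c₁) (h₂ : IsColimit c₂) (h₃ : IsColimit c₃)
    (φ : c₁.pt ⟶ c₂.pt) (ψ : c₂.pt ⟶ c₃.pt)
    (hφ : ∀ i, c₁.inj i ≫ φ = f i ≫ c₂.inj i) (hψ : ∀ i, c₂.inj i ≫ ψ = g i ≫ c₃.inj i)
    (w : φ ≫ ψ = 0) :
    (ShortComplex.mk φ ψ w).ShortExact := by
  refine shortExact_of_isColimit (F₁ := Discrete.functor X₁) (F₂ := Discrete.functor X₂)
    (F₃ := Discrete.functor X₃) (Discrete.natTrans (fun i => f i.as))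
    (Discrete.natTrans (fun i => g i.as)) ?_ h₁ h₂ h₃ φ ψ ?_ ?_ w
  · rintro ⟨i⟩
    exact hfg i
  · rintro ⟨i⟩
    exact hφ i
  · rintro ⟨i⟩
    exact hψ i

section

variable {D : Type*} [Category D] [HasZeroMorphisms D]

/-- In a colimit cofan with all summands but one equal to zero, the remaining injection is an
isomorphism. -/
theorem isIso_inj_of_isZero {I : Type*} {X : I → D} {c : Cofan X} (hc : IsColimit c) (i₀ : I)
    (h : ∀ i, i ≠ i₀ → IsZero (X i)) : IsIso (c.inj i₀) := by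
  classical
  refine ⟨Cofan.IsColimit.desc hc (fun i => if hi : i = i₀ then eqToHom (by rw [hi]) else 0), ?_, ?_⟩
  · rw [Cofan.IsColimit.fac]
    simp
  · apply Cofan.IsColimit.hom_ext hc
    intro i
    rw [Cofan.IsColimit.fac_assoc, Category.comp_id]
    by_cases hi : i = i₀
    · subst hi
      simp
    · exact (h i hi).eq_of_src _ _

end

end Groth.Agent.Lib.ColimExact
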