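import Mathlib
import Groth.Agent.Lib.ColimExt1_helper9

/-!
# A five-lemma for "`Ext^q(Z, -)` commutes with directed colimits" in the first variable (helper7)

Given a short exact sequence `0 ⟶ X₁ ⟶ X₂ ⟶ X₃ ⟶ 0`, if `Ext^•(X₁, -)` and `Ext^•(X₂, -)` commute with
a directed colimit (in the sense of `ColimExt.Surj` and `ColimExt.Inj`), so does `Ext^•(X₃, -)`.
-/

set_option backward.isDefEq.respectTransparency false
set_option backward.isDefEq.respectTransparency.types false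
set_option linter.style.haveILetI false
set_option linter.unusedSectionVars false
set_option linter.unusedVariables false
set_option autoImplicit false
set_option maxHeartbeats 1600000

universe w v u
open CategoryTheory Limits Abelian ColimExt

namespace Groth.Agent.Lib.ColimExtFiveH7

variable {A : Type u} [Category.{v} A] [Abelian A] [HasExt.{w} A]

section ops

variable {Z Z' Y Y' Y'' : A} {q : ℕ}

/-- push forward in the second variable -/
noncomputable def push (x : Ext Z Y q) (g : Y ⟶ Y') : Ext Z Y' q :=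
  x.comp (Ext.mk₀ g) (add_zero q)

/-- pull back in the first variable -/
noncomputable def pull (f : Z' ⟶ Z) (x : Ext Z Y q) : Ext Z' Y q :=
  (Ext.mk₀ f).comp x (zero_add q)

lemma push_push (x : Ext Z Y q) (g : Y ⟶ Y') (g' : Y' ⟶ Y'') :
    push (push x g) g' = push x (g ≫ g') := by
  unfold push
  rw [Ext.comp_assoc_of_third_deg_zero, Ext.mk₀_comp_mk₀]

lemma pull_push (f : Z' ⟶ Z) (x : Ext Z Y q) (g : Y ⟶ Y') :
    pull f (push x g) = push (pull f x) g := by
  unfold push pull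
  rw [Ext.comp_assoc_of_third_deg_zero]

lemma push_zero (g : Y ⟶ Y') : push (0 : Ext Z Y q) g = 0 := by
  unfold push
  rw [Ext.zero_comp]

lemma pull_zero (f : Z' ⟶ Z) : pull f (0 : Ext Z Y q) = 0 := by
  unfold pull
  rw [Ext.comp_zero]

lemma push_add (x x' : Ext Z Y q) (g : Y ⟶ Y') : push (x + x') g = push x g + push x' g := by
  unfold push
  rw [Ext.add_comp]

lemma push_sub (x x' : Ext Z Y q) (g : Y ⟶ Y') : push (x - x') g = push x g - push x' g := by
  unfold push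
  exact sub_comp' x x' _ _

lemma pull_sub (f : Z' ⟶ Z) (x x' : Ext Z Y q) : pull f (x - x') = pull f x - pull f x' := by
  unfold pull
  rw [sub_eq_add_neg, Ext.comp_add, Ext.comp_neg, ← sub_eq_add_neg]

lemma pull_pull {Z'' : A} (f' : Z'' ⟶ Z') (f : Z' ⟶ Z) (x : Ext Z Y q) :
    pull f' (pull f x) = pull (f' ≫ f) x := by
  unfold pull
  exact Ext.mk₀_comp_mk₀_assoc f' f x

lemma pull_zero_hom (x : Ext Z Y q) : pull (0 : Z' ⟶ Z) x = 0 := by
  unfold pull
  rw [Ext.mk₀_zero, Ext.zero_comp]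

end ops

section les

variable {S : ShortComplex A} (hS : S.ShortExact) {Y Y' : A} {n : ℕ}

/-- the connecting map -/
noncomputable def del (x₁ : Ext S.X₁ Y n) : Ext S.X₃ Y (n + 1) :=
  hS.extClass.comp x₁ (add_comm 1 n)

lemma del_push (x₁ : Ext S.X₁ Y n) (g : Y ⟶ Y') : del hS (push x₁ g) = push (del hS x₁) g := by
  unfold del push
  rw [Ext.comp_assoc_of_third_deg_zero]

lemma del_pull_f (x₂ : Ext S.X₂ Y n) : del hS (pull S.f x₂) = 0 := by
  unfold del pull
  exact hS.extClass_comp_assoc x₂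

lemma ex1 (x₁ : Ext S.X₁ Y n) (h : del hS x₁ = 0) : ∃ x₂ : Ext S.X₂ Y n, pull S.f x₂ = x₁ :=
  Ext.contravariant_sequence_exact₁ hS Y x₁ (add_comm 1 n) h

include hS in
lemma ex2 (x₂ : Ext S.X₂ Y n) (h : pull S.f x₂ = 0) : ∃ x₃ : Ext S.X₃ Y n, pull S.g x₃ = x₂ :=
  Ext.contravariant_sequence_exact₂ hS Y x₂ h

lemma ex3 (x₃ : Ext S.X₃ Y (n + 1)) (h : pull S.g x₃ = 0) :
    ∃ x₁ : Ext S.X₁ Y n, del hS x₁ = x₃ :=
  Ext.contravariant_sequence_exact₃ hS Y x₃ h (add_comm 1 n)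

include hS in
lemma ex3_zero (x₃ : Ext S.X₃ Y 0) (h : pull S.g x₃ = 0) : x₃ = 0 := by
  haveI := hS.epi_g
  apply Ext.precomp_mk₀_injective_of_epi Y S.g
  exact h.trans (pull_zero S.g).symm

end les

section main

variable {ι : Type w} [Preorder ι] [IsDirected ι (· ≤ ·)] [Nonempty ι]
  {S : ShortComplex A} (hS : S.ShortExact) (D : ι ⥤ A) (c : Cocone D)

/-- the transition maps -/
abbrev tr {i j : ι} (h : i ≤ j) : D.obj i ⟶ D.obj j := D.map (homOfLE h)

/-- the cocone legs -/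
abbrev leg (i : ι) : D.obj i ⟶ c.pt := c.ι.app i

lemma tr_leg {i j : ι} (h : i ≤ j) : tr D h ≫ leg D c j = leg D c i := c.w (homOfLE h)

lemma tr_tr {i j k : ι} (h : i ≤ j) (h' : j ≤ k) : tr D h ≫ tr D h' = tr D (h.trans h') := by
  unfold tr
  rw [← D.map_comp]
  rfl

lemma surj_iff (Z : A) (q : ℕ) : Surj Z q D c ↔
    ∀ y : Ext Z c.pt q, ∃ (i : ι) (x : Ext Z (D.obj i) q), push x (leg D c i) = y := Iff.rfl

lemma inj_iff (Z : A) (q : ℕ) : Inj Z q D c ↔
    ∀ (i : ι) (x : Ext Z (D.obj i) q), push x (leg D c i) = 0 →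
      ∃ (j : ι) (h : i ≤ j), push x (tr D h) = 0 := Iff.rfl

include hS in
theorem surj_three (q : ℕ) (s2 : Surj S.X₂ q D c) (i1 : Inj S.X₁ q D c)
    (s1 : ∀ n, n + 1 = q → Surj S.X₁ n D c) : Surj S.X₃ q D c := by
  rw [surj_iff] at s2 ⊢
  rw [inj_iff] at i1
  intro y
  obtain ⟨i, x₂, hx₂⟩ := s2 (pull S.g y)
  have h1 : push (pull S.f x₂) (leg D c i) = 0 := by
    rw [← pull_push, hx₂, pull_pull, S.zero, pull_zero_hom]
  obtain ⟨j, hij, hj⟩ := i1 i (pull S.f x₂) h1
  have h2 : pull S.f (push x₂ (tr D hij)) = 0 := by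
    rw [pull_push]
    exact hj
  obtain ⟨x₃, hx₃⟩ := ex2 hS (push x₂ (tr D hij)) h2
  have h3 : pull S.g (y - push x₃ (leg D c j)) = 0 := by
    rw [pull_sub, pull_push, hx₃, push_push, tr_leg, hx₂, sub_self]
  cases q with
  | zero =>
    have h4 := ex3_zero hS _ h3
    exact ⟨j, x₃, (sub_eq_zero.1 h4).symm⟩
  | succ n =>
    obtain ⟨z₁, hz₁⟩ := ex3 hS _ h3
    have s1' := s1 n rfl
    rw [surj_iff] at s1'
    obtain ⟨k, w₁, hw₁⟩ := s1' z₁
    obtain ⟨l, hjl, hkl⟩ := exists_ge_ge j k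
    refine ⟨l, push x₃ (tr D hjl) + push (del hS w₁) (tr D hkl), ?_⟩
    rw [push_add, push_push, push_push, tr_leg, tr_leg, ← del_push, hw₁, hz₁]
    abel

include hS in
theorem inj_three (q : ℕ) (i2 : Inj S.X₂ q D c) (s2 : ∀ n, n + 1 = q → Surj S.X₂ n D c)
    (i1 : ∀ n, n + 1 = q → Inj S.X₁ n D c) : Inj S.X₃ q D c := by
  rw [inj_iff] at i2 ⊢
  intro i x hx
  have h1 : push (pull S.g x) (leg D c i) = 0 := by
    rw [← pull_push, hx, pull_zero]
  obtain ⟨j, hij, hj⟩ := i2 i (pull S.g x) h1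
  have h2 : pull S.g (push x (tr D hij)) = 0 := by
    rw [pull_push]
    exact hj
  cases q with
  | zero => exact ⟨j, hij, ex3_zero hS _ h2⟩
  | succ n =>
    obtain ⟨z₁, hz₁⟩ := ex3 hS _ h2
    have h3 : del hS (push z₁ (leg D c j)) = 0 := by
      rw [del_push, hz₁, push_push, tr_leg, hx]
    obtain ⟨z₂, hz₂⟩ := ex1 hS _ h3
    have s2' := s2 n rfl
    rw [surj_iff] at s2'
    obtain ⟨k, w₂, hw₂⟩ := s2' z₂
    obtain ⟨l, hjl, hkl⟩ := exists_ge_ge j k
    have h4 : push (push z₁ (tr D hjl) - pull S.f (push w₂ (tr D hkl))) (leg D c l) = 0 := by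
      rw [push_sub, push_push, ← pull_push, push_push, tr_leg, tr_leg, hw₂, hz₂, sub_self]
    have i1' := i1 n rfl
    rw [inj_iff] at i1'
    obtain ⟨m, hlm, hm⟩ := i1' l _ h4
    rw [push_sub, push_push, ← pull_push, push_push, tr_tr, tr_tr, sub_eq_zero] at hm
    refine ⟨m, hij.trans (hjl.trans hlm), ?_⟩
    have h5 : push x (tr D (hij.trans (hjl.trans hlm))) =
        push (push x (tr D hij)) (tr D (hjl.trans hlm)) := by
      rw [push_push, tr_tr]
    rw [h5, ← hz₁, ← del_push, hm, del_pull_f]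

end main

end Groth.Agent.Lib.ColimExtFiveH7
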