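import Mathlib

/-!
# Sheaves of modules generated by global sections are locally generated (helper7)

Generic site statement: if `π : free I ⟶ N` attached to sections `s : I → N.sections` is an
epimorphism of sheaves of modules, then every local section of `N` is, locally for the topology,
a linear combination of the `s i`.
-/

set_option backward.isDefEq.respectTransparency false
set_option backward.isDefEq.respectTransparency.types false
set_option linter.style.haveILetI false
set_option linter.unusedSectionVars false
set_option linter.unusedVariables false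
set_option autoImplicit false
set_option maxHeartbeats 1600000
set_option maxSynthPendingDepth 3

universe v

open CategoryTheory Limits Opposite

namespace Groth.Agent.Lib.QCEtH7

variable {C : Type (v + 1)} [Category.{v} C] {J : GrothendieckTopology C}
  {R : Sheaf J RingCat.{v + 1}}
  [HasSheafify J AddCommGrpCat.{v + 1}] [J.WEqualsLocallyBijective AddCommGrpCat.{v + 1}]

section Gen

variable (N : SheafOfModules.{v + 1} R) {I : Type (v + 1)} (s : I → N.sections)

/-- the submodule of sections over `U` generated by the global sections `s i` -/
def genSpan (U : Cᵒᵖ) : Submodule (R.obj.obj U) (N.val.obj U) :=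
  Submodule.span (R.obj.obj U) (Set.range fun i => (s i).val U)

theorem map_mem_genSpan {U V : Cᵒᵖ} (f : U ⟶ V) (n : N.val.obj U) (hn : n ∈ genSpan N s U) :
    N.val.map f n ∈ genSpan N s V := by
  unfold genSpan at hn
  induction hn using Submodule.span_induction with
  | mem x hx =>
    obtain ⟨i, rfl⟩ := hx
    have h := PresheafOfModules.sections_property (s i) f
    rw [h]
    exact Submodule.subset_span ⟨i, rfl⟩
  | zero =>
    rw [map_zero]
    exact zero_mem _
  | add x y _ _ hx hy =>
    rw [map_add]
    exact add_mem hx hy
  | smul a x _ hx =>
    rw [PresheafOfModules.map_smul]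
    exact Submodule.smul_mem _ _ hx

/-- the sieve of those restrictions of `n` which lie in the span of the generators -/
def genSieve (U : C) (n : N.val.obj (op U)) : Sieve U where
  arrows V f := N.val.map f.op n ∈ genSpan N s (op V)
  downward_closed := by
    intro V W f hf g
    show N.val.map (g ≫ f).op n ∈ genSpan N s (op W)
    rw [op_comp, PresheafOfModules.map_comp_apply]
    exact map_mem_genSpan N s g.op _ hf

theorem genSieve_apply (U : C) (n : N.val.obj (op U)) {V : C} (f : V ⟶ U) :
    (genSieve N s U n).arrows f ↔ N.val.map f.op n ∈ genSpan N s (op V) := Iff.rfl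

theorem genSieve_pullback (U : C) (n : N.val.obj (op U)) {V : C} (f : V ⟶ U) :
    (genSieve N s U n).pullback f = genSieve N s V (N.val.map f.op n) := by
  ext W g
  rw [Sieve.pullback_apply, genSieve_apply, genSieve_apply, op_comp,
    PresheafOfModules.map_comp_apply]

/-- the sub-presheaf of locally generated sections -/
def locGen : PresheafOfModules.Submodule N.val where
  obj U :=
    { carrier := {n | genSieve N s U.unop n ∈ J U.unop}
      zero_mem' := by
        show genSieve N s U.unop 0 ∈ J U.unop
        have h : genSieve N s U.unop 0 = ⊤ := by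
          ext V f
          simp only [Sieve.top_apply, iff_true]
          show N.val.map f.op 0 ∈ genSpan N s (op V)
          rw [map_zero]
          exact zero_mem _
        rw [h]
        exact J.top_mem _
      add_mem' := by
        intro a b ha hb
        show genSieve N s U.unop (a + b) ∈ J U.unop
        refine J.superset_covering ?_ (J.intersection_covering ha hb)
        intro V f hf
        show N.val.map f.op (a + b) ∈ genSpan N s (op V)
        rw [map_add]
        exact add_mem hf.1 hf.2
      smul_mem' := by
        intro c a ha
        show genSieve N s U.unop (c • a) ∈ J U.unop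
        refine J.superset_covering ?_ ha
        intro V f hf
        show N.val.map f.op (c • a) ∈ genSpan N s (op V)
        rw [PresheafOfModules.map_smul]
        exact Submodule.smul_mem _ _ hf }
  map := by
    intro U V f n hn
    show genSieve N s V.unop (N.val.map f n) ∈ J V.unop
    have h := genSieve_pullback N s U.unop n f.unop
    have h2 : genSieve N s V.unop (N.val.map f n) = (genSieve N s U.unop n).pullback f.unop := by
      rw [h]
      rfl
    rw [h2]
    exact J.pullback_stable f.unop hn

theorem mem_locGen_iff (U : Cᵒᵖ) (n : N.val.obj U) :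
    n ∈ (locGen N s).obj U ↔ genSieve N s U.unop n ∈ J U.unop := Iff.rfl

end Gen

section Sheaf

variable (N : SheafOfModules.{v + 1} R) {I : Type (v + 1)} (s : I → N.sections)

theorem isSheaf_type_of_sheafOfModules :
    Presieve.IsSheaf J (N.val.presheaf ⋙ forget AddCommGrpCat.{v + 1}) :=
  (isSheaf_iff_isSheaf_of_type _ _).1
    (Presheaf.isSheaf_comp_of_isSheaf J _ (forget AddCommGrpCat.{v + 1}) N.isSheaf)

/-- an element of the type-valued presheaf as an element of the submodule -/
def subOf (V : Cᵒᵖ)
    (z : ((locGen N s).toPresheafOfModules.presheaf ⋙ forget AddCommGrpCat.{v + 1}).obj V) :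
    ↥((locGen N s).obj V) := z

theorem locGen_isSheaf :
    Presheaf.IsSheaf J (locGen N s).toPresheafOfModules.presheaf := by
  apply Presheaf.isSheaf_of_isSheaf_comp J _ (forget AddCommGrpCat.{v + 1})
  rw [isSheaf_iff_isSheaf_of_type]
  intro U T hT x hx
  have hN := isSheaf_type_of_sheafOfModules N
  obtain ⟨y, hy⟩ : ∃ y : Presieve.FamilyOfElements
      (N.val.presheaf ⋙ forget AddCommGrpCat.{v + 1}) T.arrows,
      y = fun V f hf => (subOf N s (op V) (x f hf)).1 := ⟨_, rfl⟩
  have hyc : y.Compatible := by
    intro Y₁ Y₂ Z g₁ g₂ f₁ f₂ h₁ h₂ hcomm
    have h := hx g₁ g₂ h₁ h₂ hcomm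
    rw [hy]
    exact congrArg Subtype.val h
  obtain ⟨n, hn, hnuniq⟩ := hN T hT y hyc
  have hmem : n ∈ (locGen N s).obj (op U) := by
    rw [mem_locGen_iff]
    refine J.transitive hT _ ?_
    intro V f hf
    rw [genSieve_pullback]
    have h1 : N.val.map f.op n = y f hf := hn f hf
    rw [h1, hy]
    exact (subOf N s (op V) (x f hf)).2
  refine ⟨⟨n, hmem⟩, ?_, ?_⟩
  · intro V f hf
    apply Subtype.ext
    have h1 : N.val.map f.op n = y f hf := hn f hf
    rw [hy] at h1
    exact h1
  · intro t ht
    apply Subtype.ext
    apply hnuniq
    intro V f hf
    have h1 := ht f hf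
    rw [hy]
    exact congrArg Subtype.val h1

/-- the sheaf of modules of locally generated sections -/
noncomputable def locGenSheaf : SheafOfModules.{v + 1} R where
  val := (locGen N s).toPresheafOfModules
  isSheaf := locGen_isSheaf N s

/-- the inclusion -/
noncomputable def locGenι : locGenSheaf N s ⟶ N := ⟨(locGen N s).ι⟩

instance mono_locGenι : Mono (locGenι N s) := by
  haveI : Mono ((SheafOfModules.forget R).map (locGenι N s)) := by
    show Mono (locGen N s).ι
    infer_instance
  exact Functor.mono_of_mono_map (SheafOfModules.forget R) this

theorem locGenι_app_apply (U : Cᵒᵖ) (x : (locGenSheaf N s).val.obj U) :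
    ((locGenι N s).val.app U).hom x = (x : ↥((locGen N s).obj U)).1 := rfl

end Sheaf

section Main

variable (N : SheafOfModules.{v + 1} R) {I : Type (v + 1)} (s : I → N.sections)

theorem sec_mem_locGen (i : I) (U : Cᵒᵖ) : (s i).val U ∈ (locGen N s).obj U := by
  rw [mem_locGen_iff]
  have h : genSieve N s U.unop ((s i).val U) = ⊤ := by
    ext V f
    simp only [Sieve.top_apply, iff_true]
    show N.val.map f.op ((s i).val U) ∈ genSpan N s (op V)
    have h := PresheafOfModules.sections_property (s i) f.op
    rw [h]
    exact Submodule.subset_span ⟨i, rfl⟩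
  rw [h]
  exact J.top_mem _

/-- the generating sections as sections of the subsheaf -/
noncomputable def locGenSec (i : I) : (locGenSheaf N s).sections :=
  PresheafOfModules.sectionsMk (M := (locGen N s).toPresheafOfModules)
    (fun U => (⟨(s i).val U, sec_mem_locGen N s i U⟩ : ↥((locGen N s).obj U)))
    (by
      intro U V f
      apply Subtype.ext
      exact PresheafOfModules.sections_property (s i) f)

theorem sectionsMap_locGenSec (i : I) :
    SheafOfModules.sectionsMap (locGenι N s) (locGenSec N s i) = s i := by
  apply PresheafOfModules.sections_ext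
  intro U
  rfl

theorem isIso_locGenι [Epi (N.freeHomEquiv.symm s)] : IsIso (locGenι N s) := by
  have hfac : (locGenSheaf N s).freeHomEquiv.symm (locGenSec N s) ≫ locGenι N s =
      N.freeHomEquiv.symm s := by
    rw [SheafOfModules.freeHomEquiv_symm_comp]
    have h : (fun i => SheafOfModules.sectionsMap (locGenι N s) (locGenSec N s i)) = s := by
      funext i
      exact sectionsMap_locGenSec N s i
    rw [h]
  haveI : Epi ((locGenSheaf N s).freeHomEquiv.symm (locGenSec N s) ≫ locGenι N s) := by
    rw [hfac]
    infer_instance
  haveI : Epi (locGenι N s) :=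
    epi_of_epi ((locGenSheaf N s).freeHomEquiv.symm (locGenSec N s)) (locGenι N s)
  exact isIso_of_mono_of_epi _

/-- **Local generation**: if the sections `s` generate `N` (the morphism `free I ⟶ N` is an
epimorphism) then every section of `N` is locally a linear combination of the `s i`. -/
theorem genSieve_mem [Epi (N.freeHomEquiv.symm s)] (U : C) (n : N.val.obj (op U)) :
    genSieve N s U n ∈ J U := by
  haveI := isIso_locGenι N s
  haveI : IsIso ((SheafOfModules.evaluation R (op U)).map (locGenι N s)) := inferInstance
  have hepi : Epi ((SheafOfModules.evaluation R (op U)).map (locGenι N s)) := inferInstance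
  have hsurj : Function.Surjective ((locGenι N s).val.app (op U)).hom :=
    (ModuleCat.epi_iff_surjective _).1 hepi
  obtain ⟨x, hx⟩ := hsurj n
  rw [locGenι_app_apply] at hx
  rw [← hx]
  exact (x : ↥((locGen N s).obj (op U))).2

end Main

end Groth.Agent.Lib.QCEtH7
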