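import Mathlib
import Groth.Agent.Lib.QCEt1_helper7

/-!
# Jointly epimorphic families of sheaves of modules are locally jointly surjective (helper7)

Generic site statement.  For a sub-presheaf of modules `G` of (the underlying presheaf of) a sheaf
of modules `N` we construct its local closure `locCl N G` (sections lying locally in `G`), which
is a sheaf of modules `locClSheaf N G` with a monomorphism `locClι N G` to `N`.  If a family of
morphisms `φ j : D j ⟶ N` is jointly epimorphic, then every section of `N` is locally a finite
sum of images of sections of the `D j` (`famSieve_mem`).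
-/

set_option backward.isDefEq.respectTransparency false
set_option backward.isDefEq.respectTransparency.types false
set_option linter.style.haveILetI false
set_option linter.unusedSectionVars false
set_option linter.unusedVariables false
set_option autoImplicit false
set_option maxHeartbeats 1600000
set_option maxSynthPendingDepth 3

universe v w

open CategoryTheory Limits Opposite

namespace Groth.Agent.Lib.QCEtH7

variable {C : Type (v + 1)} [Category.{v} C] {J : GrothendieckTopology C}
  {R : Sheaf J RingCat.{v + 1}}
  [HasSheafify J AddCommGrpCat.{v + 1}] [J.WEqualsLocallyBijective AddCommGrpCat.{v + 1}]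

section Closure

variable (N : SheafOfModules.{v + 1} R) (G : PresheafOfModules.Submodule N.val)

/-- the sieve of those restrictions of `n` which lie in `G` -/
def clSieve (U : C) (n : N.val.obj (op U)) : Sieve U where
  arrows V f := N.val.map f.op n ∈ G.obj (op V)
  downward_closed := by
    intro V W f hf g
    show N.val.map (g ≫ f).op n ∈ G.obj (op W)
    rw [op_comp, PresheafOfModules.map_comp_apply]
    exact G.map_mem g.op hf

theorem clSieve_apply (U : C) (n : N.val.obj (op U)) {V : C} (f : V ⟶ U) :
    (clSieve N G U n).arrows f ↔ N.val.map f.op n ∈ G.obj (op V) := Iff.rfl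

theorem clSieve_pullback (U : C) (n : N.val.obj (op U)) {V : C} (f : V ⟶ U) :
    (clSieve N G U n).pullback f = clSieve N G V (N.val.map f.op n) := by
  ext W g
  rw [Sieve.pullback_apply, clSieve_apply, clSieve_apply, op_comp,
    PresheafOfModules.map_comp_apply]

/-- the local closure of a sub-presheaf of modules -/
def locCl : PresheafOfModules.Submodule N.val where
  obj U :=
    { carrier := {n | clSieve N G U.unop n ∈ J U.unop}
      zero_mem' := by
        show clSieve N G U.unop 0 ∈ J U.unop
        have h : clSieve N G U.unop 0 = ⊤ := by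
          ext V f
          simp only [Sieve.top_apply, iff_true]
          show N.val.map f.op 0 ∈ G.obj (op V)
          rw [map_zero]
          exact zero_mem _
        rw [h]
        exact J.top_mem _
      add_mem' := by
        intro a b ha hb
        show clSieve N G U.unop (a + b) ∈ J U.unop
        refine J.superset_covering ?_ (J.intersection_covering ha hb)
        intro V f hf
        show N.val.map f.op (a + b) ∈ G.obj (op V)
        rw [map_add]
        exact add_mem hf.1 hf.2
      smul_mem' := by
        intro c a ha
        show clSieve N G U.unop (c • a) ∈ J U.unop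
        refine J.superset_covering ?_ ha
        intro V f hf
        show N.val.map f.op (c • a) ∈ G.obj (op V)
        rw [PresheafOfModules.map_smul]
        exact Submodule.smul_mem _ _ hf }
  map := by
    intro U V f n hn
    show clSieve N G V.unop (N.val.map f n) ∈ J V.unop
    have h := clSieve_pullback N G U.unop n f.unop
    have h2 : clSieve N G V.unop (N.val.map f n) = (clSieve N G U.unop n).pullback f.unop := by
      rw [h]
      rfl
    rw [h2]
    exact J.pullback_stable f.unop hn

theorem mem_locCl_iff (U : Cᵒᵖ) (n : N.val.obj U) :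
    n ∈ (locCl N G).obj U ↔ clSieve N G U.unop n ∈ J U.unop := Iff.rfl

theorem mem_locCl_of_mem (U : Cᵒᵖ) (n : N.val.obj U) (hn : n ∈ G.obj U) :
    n ∈ (locCl N G).obj U := by
  rw [mem_locCl_iff]
  have h : clSieve N G U.unop n = ⊤ := by
    ext V f
    simp only [Sieve.top_apply, iff_true]
    show N.val.map f.op n ∈ G.obj (op V)
    exact G.map_mem f.op hn
  rw [h]
  exact J.top_mem _

/-- an element of the type-valued presheaf as an element of the submodule -/
def subOfCl (V : Cᵒᵖ)
    (z : ((locCl N G).toPresheafOfModules.presheaf ⋙ forget AddCommGrpCat.{v + 1}).obj V) :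
    ↥((locCl N G).obj V) := z

theorem locCl_isSheaf :
    Presheaf.IsSheaf J (locCl N G).toPresheafOfModules.presheaf := by
  apply Presheaf.isSheaf_of_isSheaf_comp J _ (forget AddCommGrpCat.{v + 1})
  rw [isSheaf_iff_isSheaf_of_type]
  intro U T hT x hx
  have hN := isSheaf_type_of_sheafOfModules N
  obtain ⟨y, hy⟩ : ∃ y : Presieve.FamilyOfElements
      (N.val.presheaf ⋙ forget AddCommGrpCat.{v + 1}) T.arrows,
      y = fun V f hf => (subOfCl N G (op V) (x f hf)).1 := ⟨_, rfl⟩
  have hyc : y.Compatible := by
    intro Y₁ Y₂ Z g₁ g₂ f₁ f₂ h₁ h₂ hcomm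
    have h := hx g₁ g₂ h₁ h₂ hcomm
    rw [hy]
    exact congrArg Subtype.val h
  obtain ⟨n, hn, hnuniq⟩ := hN T hT y hyc
  have hmem : n ∈ (locCl N G).obj (op U) := by
    rw [mem_locCl_iff]
    refine J.transitive hT _ ?_
    intro V f hf
    rw [clSieve_pullback]
    have h1 : N.val.map f.op n = y f hf := hn f hf
    rw [h1, hy]
    exact (subOfCl N G (op V) (x f hf)).2
  refine ⟨⟨n, hmem⟩, ?_, ?_⟩
  · intro V f hf
    apply Subtype.ext
    have h1 : N.val.map f.op n = y f hf := hn f hf
    rw [hy] at h1
    exact h1
  · intro t ht
    apply Subtype.ext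
    apply hnuniq
    intro V f hf
    have h1 := ht f hf
    rw [hy]
    exact congrArg Subtype.val h1

/-- the sheaf of modules of sections lying locally in `G` -/
noncomputable def locClSheaf : SheafOfModules.{v + 1} R where
  val := (locCl N G).toPresheafOfModules
  isSheaf := locCl_isSheaf N G

/-- the inclusion -/
noncomputable def locClι : locClSheaf N G ⟶ N := ⟨(locCl N G).ι⟩

instance mono_locClι : Mono (locClι N G) := by
  haveI : Mono ((SheafOfModules.forget R).map (locClι N G)) := by
    show Mono (locCl N G).ι
    infer_instance
  exact Functor.mono_of_mono_map (SheafOfModules.forget R) this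

theorem locClι_app_apply (U : Cᵒᵖ) (x : (locClSheaf N G).val.obj U) :
    ((locClι N G).val.app U).hom x = (x : ↥((locCl N G).obj U)).1 := rfl

/-- a morphism whose sectionwise images lie in `G` factors through the local closure -/
noncomputable def liftCl {D : SheafOfModules.{v + 1} R} (φ : D ⟶ N)
    (h : ∀ (U : Cᵒᵖ) (m : D.val.obj U), (φ.val.app U).hom m ∈ G.obj U) :
    D ⟶ locClSheaf N G :=
  ⟨PresheafOfModules.homMk (M₂ := (locCl N G).toPresheafOfModules)
    { app := fun U => AddCommGrpCat.ofHom
        ((LinearMap.codRestrict ((locCl N G).obj U) (φ.val.app U).hom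
          (fun m => mem_locCl_of_mem N G U _ (h U m))).toAddMonoidHom)
      naturality := by
        intro U V f
        apply AddCommGrpCat.hom_ext
        apply AddMonoidHom.ext
        intro m
        apply Subtype.ext
        exact PresheafOfModules.naturality_apply φ.val f m }
    (by
      intro U r m
      apply Subtype.ext
      exact map_smul (φ.val.app U).hom r m)⟩

theorem liftCl_comp {D : SheafOfModules.{v + 1} R} (φ : D ⟶ N)
    (h : ∀ (U : Cᵒᵖ) (m : D.val.obj U), (φ.val.app U).hom m ∈ G.obj U) :
    liftCl N G φ h ≫ locClι N G = φ := by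
  apply SheafOfModules.hom_ext
  apply PresheafOfModules.hom_ext
  intro U
  apply ModuleCat.hom_ext
  apply LinearMap.ext
  intro m
  rfl

end Closure

section Family

variable {N : SheafOfModules.{v + 1} R} {β : Type w} {D : β → SheafOfModules.{v + 1} R}
  (φ : ∀ j, D j ⟶ N)

/-- the sub-presheaf of finite sums of images of the `φ j` -/
def famSpan : PresheafOfModules.Submodule N.val where
  obj U := ⨆ j, LinearMap.range ((φ j).val.app U).hom
  map := by
    intro U V f
    apply iSup_le
    intro j
    rintro _ ⟨m, rfl⟩
    show N.val.map f (((φ j).val.app U).hom m) ∈ ⨆ j, LinearMap.range ((φ j).val.app V).hom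
    rw [← PresheafOfModules.naturality_apply (φ j).val f m]
    exact Submodule.mem_iSup_of_mem j ⟨_, rfl⟩

theorem mem_famSpan (j : β) (U : Cᵒᵖ) (m : (D j).val.obj U) :
    ((φ j).val.app U).hom m ∈ (famSpan φ).obj U :=
  Submodule.mem_iSup_of_mem j ⟨m, rfl⟩

/-- **a jointly epimorphic family is locally jointly surjective** -/
theorem famSieve_mem
    (hepi : ∀ (Q : SheafOfModules.{v + 1} R) (g : N ⟶ Q), (∀ j, φ j ≫ g = 0) → g = 0)
    (U : C) (n : N.val.obj (op U)) : clSieve N (famSpan φ) U n ∈ J U := by
  have h0 : cokernel.π (locClι N (famSpan φ)) = 0 := by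
    apply hepi
    intro j
    rw [← liftCl_comp N (famSpan φ) (φ j) (mem_famSpan φ j), Category.assoc, cokernel.condition,
      comp_zero]
  haveI : Epi (locClι N (famSpan φ)) := Abelian.epi_of_cokernel_π_eq_zero _ h0
  haveI : IsIso (locClι N (famSpan φ)) := isIso_of_mono_of_epi _
  haveI : IsIso ((SheafOfModules.evaluation R (op U)).map (locClι N (famSpan φ))) := inferInstance
  have hepi2 : Epi ((SheafOfModules.evaluation R (op U)).map (locClι N (famSpan φ))) :=
    inferInstance
  have hsurj : Function.Surjective ((locClι N (famSpan φ)).val.app (op U)).hom :=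
    (ModuleCat.epi_iff_surjective _).1 hepi2
  obtain ⟨x, hx⟩ := hsurj n
  rw [locClι_app_apply] at hx
  rw [← hx]
  exact (x : ↥((locCl N (famSpan φ)).obj (op U))).2

end Family

end Groth.Agent.Lib.QCEtH7
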