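import Mathlib
import Groth.Agent.Lib.EtStalkPt_helper7
import Groth.Agent.Lib.IdealEtB_helper7

/-!
# Subsheaves of the final object of the small étale topos of an algebraic space are opens
(helper7)
-/

set_option autoImplicit false
set_option backward.isDefEq.respectTransparency false
universe u
open CategoryTheory CategoryTheory.Limits AlgebraicGeometry Opposite
open AlgSp Groth.Agent.Lib.AlgSpPoints_helper7 Groth.Agent.Lib.AlgSpPullback_helper7
  Groth.Agent.Lib.AlgSpQC_helper7 Groth.Agent.Lib.EtNbhd_helper7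
  Groth.Agent.Lib.EtStalkPt_helper7 Groth.Agent.Lib.IdealEtBH7

namespace Groth.Agent.Lib.EtSubTerminal_helper7

variable {S : Scheme.{u}} {X : Sp S}

/-- Fibre products in the small étale site, through a prescribed pair of points. -/
theorem exists_prod (E E' : EtOver X) (e : ↥E.obj.left.left) (e' : ↥E'.obj.left.left)
    (h : Points.ofPt E.obj.hom e = Points.ofPt E'.obj.hom e') :
    ∃ (P : EtOver X) (g : P ⟶ E) (_ : P ⟶ E'), e ∈ Set.range g.hom.left.left := by
  have h₁ := E.property
  let Q := h₁.rep.pullback E'.obj.hom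
  let snd : Q ⟶ E'.obj.left := h₁.rep.snd E'.obj.hom
  let fst' : Q ⟶ E.obj.left := h₁.rep.fst' E'.obj.hom
  have sq : IsPullback ((yon S).map fst') ((yon S).map snd) E.obj.hom E'.obj.hom :=
    h₁.rep.isPullback' _
  have hf : RepWith @Etale ((yon S).map fst') := repWith_fst_of_isPullback _ sq E'.property
  obtain ⟨v, hv1, -⟩ := exists_ofPt_eq_of_isPullback sq e e' h
  exact ⟨EtOver.mk ((yon S).map fst' ≫ E.obj.hom) (repWith_comp _ hf h₁),
    EtOver.homMk fst' rfl, EtOver.homMk snd sq.w.symm, v, hv1⟩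

theorem range_ofPt_chartOpen (E : EtOver X) (D : E.obj.left.left.Opens) :
    Set.range (Points.ofPt (chartOpen E.obj.hom E.property D).obj.hom) =
      Points.ofPt E.obj.hom '' (D : Set _) := by
  ext x
  constructor
  · rintro ⟨d, rfl⟩
    refine ⟨D.ι d, d.2, ?_⟩
    exact (ofPt_comp (openι E.obj.left D) E.obj.hom d).symm
  · rintro ⟨y, hy, rfl⟩
    exact ⟨⟨y, hy⟩, ofPt_comp (openι E.obj.left D) E.obj.hom ⟨y, hy⟩⟩

theorem existsUnique_open (hX : IsAlgSpace X) (F : EtSh X (Type (u + 1)))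
    (hF : ∀ E : EtOver X, Subsingleton (F.obj.obj (op E))) :
    ∃! W : Set (Points X), IsOpen W ∧
      ∀ E : EtOver X, Nonempty (F.obj.obj (op E)) ↔ Set.range (Points.ofPt E.obj.hom) ⊆ W := by
  let W : Set (Points X) := {x | ∃ E : EtOver X, Nonempty (F.obj.obj (op E)) ∧
    x ∈ Set.range (Points.ofPt E.obj.hom)}
  have hW : IsOpen W := by
    rw [isOpen_iff_forall_mem_open]
    rintro x ⟨E, hE, hx⟩
    exact ⟨Set.range (Points.ofPt E.obj.hom), fun y hy => ⟨E, hE, hy⟩,
      (isOpenMap_ofPt_of_etale E.obj.hom E.property).isOpen_range, hx⟩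
  have hWF : ∀ E : EtOver X, Nonempty (F.obj.obj (op E)) ↔
      Set.range (Points.ofPt E.obj.hom) ⊆ W := by
    intro E
    constructor
    · intro hE x hx
      exact ⟨E, hE, hx⟩
    · intro hsub
      let R : Sieve E :=
        { arrows := fun Y _ => Nonempty (F.obj.obj (op Y))
          downward_closed := by
            rintro Y Z g ⟨s⟩ k
            exact ⟨F.obj.map k.op s⟩ }
      have hR : R ∈ etTop X E := by
        apply sieve_mem_of_forall_exists
        intro e
        obtain ⟨E', ⟨s'⟩, e', he'⟩ := hsub ⟨e, rfl⟩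
        obtain ⟨P, g, g', hg⟩ := exists_prod E E' e e' he'.symm
        exact ⟨P, g, ⟨F.obj.map g'.op s'⟩, hg⟩
      have hsh : Presieve.IsSheaf (etTop X) F.obj := (isSheaf_iff_isSheaf_of_type _ _).1 F.2
      let x : Presieve.FamilyOfElements F.obj R.arrows := fun Y g hg => hg.some
      have hx : x.Compatible := by
        intro Y₁ Y₂ Z g₁ g₂ f₁ f₂ h₁ h₂ _
        haveI := hF Z
        exact Subsingleton.elim _ _
      exact ⟨(hsh R hR).amalgamate x hx⟩
  refine ⟨W, ⟨hW, hWF⟩, ?_⟩
  rintro W' ⟨hW', hW'F⟩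
  apply Set.Subset.antisymm
  · intro x hx
    obtain ⟨T, a, hae, has⟩ := hX.atlas
    obtain ⟨t, rfl⟩ := ofPt_surjective a has x
    let D : T.left.Opens := ⟨Points.ofPt a ⁻¹' W', hW'.preimage (Points.continuous_ofPt a)⟩
    let E := chartOpen a hae D
    have key : Set.range (Points.ofPt E.obj.hom) = Points.ofPt a '' (D : Set _) :=
      range_ofPt_chartOpen (EtOver.mk a hae) D
    have hE : Set.range (Points.ofPt E.obj.hom) ⊆ W' := by
      rw [key]
      rintro _ ⟨y, hy, rfl⟩
      exact hy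
    refine ⟨E, (hW'F E).2 hE, ?_⟩
    rw [key]
    exact ⟨t, hx, rfl⟩
  · rintro x ⟨E, hE, hx⟩
    exact (hW'F E).1 hE hx

end Groth.Agent.Lib.EtSubTerminal_helper7
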