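import Mathlib
import Groth.Agent.Lib.EtStalkPt_helper7

/-!
# `EtOver.postcomp` along an étale morphism is continuous and cocontinuous (helper7)
-/

set_option autoImplicit false
set_option backward.isDefEq.respectTransparency false
universe u
open CategoryTheory CategoryTheory.Limits AlgebraicGeometry Opposite
open AlgSp Groth.Agent.Lib.AlgSpPoints_helper7 Groth.Agent.Lib.AlgSpPullback_helper7
  Groth.Agent.Lib.AlgSpQC_helper7 Groth.Agent.Lib.EtNbhd_helper7
  Groth.Agent.Lib.EtStalkPt_helper7

namespace Groth.Agent.Lib.EtPostcomp_helper7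

variable {S : Scheme.{u}} {X Y : Sp S}

/-- Covering sieves of the small étale site of an algebraic space are the sieves containing
jointly surjective families. -/
theorem mem_etTop_iff (hX : IsAlgSpace X) {E : EtOver X} (R : Sieve E) :
    R ∈ etTop X E ↔ ∀ x : ↥E.obj.left.left, ∃ (E' : EtOver X) (f : E' ⟶ E),
      R f ∧ x ∈ Set.range f.hom.left.left := by
  refine ⟨fun hR x => ?_, sieve_mem_of_forall_exists R⟩
  obtain ⟨p, hp, ū, hū⟩ := exists_geometric_lift E x
  haveI := hp
  obtain ⟨E', f, hf, y, hy⟩ := jointly_surjective hX p R hR ū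
  exact ⟨E', f, hf, hū ▸ mem_range_of_map_eq f y ū hy⟩

variable (f : X ⟶ Y) (hf : IsEtaleMor f)

noncomputable def mapPullbackIsLimit {E₁ E₂ E₀ : EtOver X} (g₁ : E₁ ⟶ E₀) (g₂ : E₂ ⟶ E₀) :
    IsLimit (PullbackCone.mk ((EtOver.postcomp f hf).map (EtOver.pullbackFst g₁ g₂))
      ((EtOver.postcomp f hf).map (EtOver.pullbackSnd g₁ g₂))
      (by rw [← Functor.map_comp, ← Functor.map_comp, EtOver.pullback_condition])) :=
  PullbackCone.IsLimit.mk _
    (fun s => EtOver.homMk (pullback.lift s.fst.hom.left s.snd.hom.left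
        (congrArg (fun k => k.hom.left) s.condition)) (by
      change (yon S).map _ ≫ ((yon S).map _ ≫ E₁.obj.hom) ≫ f = s.pt.obj.hom
      rw [Category.assoc, ← Category.assoc, ← Functor.map_comp, pullback.lift_fst]
      exact EtOver.w s.fst))
    (fun s => EtOver.hom_ext _ _ (pullback.lift_fst _ _ _))
    (fun s => EtOver.hom_ext _ _ (pullback.lift_snd _ _ _))
    (fun s m h₁ h₂ => EtOver.hom_ext _ _ (pullback.hom_ext
      ((congrArg (fun k => k.hom.left) h₁).trans (pullback.lift_fst _ _ _).symm)
      ((congrArg (fun k => k.hom.left) h₂).trans (pullback.lift_snd _ _ _).symm)))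

instance preservesLimit_cospan_postcomp {E₁ E₂ E₀ : EtOver X} (g₁ : E₁ ⟶ E₀) (g₂ : E₂ ⟶ E₀) :
    PreservesLimit (cospan g₁ g₂) (EtOver.postcomp f hf) :=
  preservesLimit_of_preserves_limit_cone (EtOver.pullbackIsLimit g₁ g₂)
    ((isLimitMapConePullbackConeEquiv _ _).symm (mapPullbackIsLimit f hf g₁ g₂))

instance preservesPullbacks_postcomp :
    PreservesLimitsOfShape WalkingCospan (EtOver.postcomp f hf) where
  preservesLimit {K} := preservesLimit_of_iso_diagram _ (diagramIsoCospan K).symm

theorem isContinuous_postcomp :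
    (EtOver.postcomp f hf).IsContinuous (etTop X) (etTop Y) := by
  unfold etTop
  refine Functor.isContinuous_toGrothendieck_of_pullbacksPreservedBy (EtOver.postcomp f hf)
    (etPre X) (etPre Y) ?_
  have h : (etPre Y).comap (EtOver.postcomp f hf) = etPre X := by
    show (Scheme.etalePrecoverage.comap (EtOver.toScheme Y)).comap (EtOver.postcomp f hf) =
      Scheme.etalePrecoverage.comap (EtOver.toScheme X)
    rw [← Precoverage.comap_comp]
    rfl
  exact le_of_eq h.symm

theorem isCocontinuous_postcomp (hY : IsAlgSpace Y) :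
    (EtOver.postcomp f hf).IsCocontinuous (etTop X) (etTop Y) := by
  refine ⟨fun {U R} hR => ?_⟩
  apply sieve_mem_of_forall_exists
  intro x
  obtain ⟨V, g, hg, hx⟩ := (mem_etTop_iff hY R).1 hR x
  haveI : Etale g.hom.left.left := EtOver.etale_left g
  have hV : RepWith @Etale ((yon S).map g.hom.left ≫ U.obj.hom) :=
    repWith_comp _ ((repWith_yon_map_iff _ _).2 (EtOver.etale_left g)) U.property
  let V' : EtOver X := EtOver.mk ((yon S).map g.hom.left ≫ U.obj.hom) hV
  let g' : V' ⟶ U := EtOver.homMk g.hom.left rfl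
  let e' : (EtOver.postcomp f hf).obj V' ⟶ V := EtOver.homMk (𝟙 _) (by
    change (yon S).map (𝟙 _) ≫ V.obj.hom = ((yon S).map g.hom.left ≫ U.obj.hom) ≫ f
    rw [CategoryTheory.Functor.map_id, Category.id_comp, Category.assoc]
    exact (EtOver.w g).symm)
  have he : e' ≫ g = (EtOver.postcomp f hf).map g' :=
    EtOver.hom_ext _ _ (Category.id_comp _)
  refine ⟨V', g', ?_, hx⟩
  show R ((EtOver.postcomp f hf).map g')
  rw [← he]
  exact R.downward_closed hg e'

end Groth.Agent.Lib.EtPostcomp_helper7
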