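import Mathlib
import Groth.Agent.Lib.QCEt1_helper7

/-!
# Free sheaves of modules: coordinates, linear combinations, kernels (helper7)
-/

set_option backward.isDefEq.respectTransparency false
set_option backward.isDefEq.respectTransparency.types false
set_option linter.style.haveILetI false
set_option linter.unusedSectionVars false
set_option linter.unusedVariables false
set_option autoImplicit false
set_option maxHeartbeats 1600000
set_option maxSynthPendingDepth 3

universe v

open CategoryTheory Limits Opposite

namespace Groth.Agent.Lib.QCEtH7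

variable {C : Type (v + 1)} [Category.{v} C] {J : GrothendieckTopology C}
  {R : Sheaf J RingCat.{v + 1}}
  [HasSheafify J AddCommGrpCat.{v + 1}] [J.WEqualsLocallyBijective AddCommGrpCat.{v + 1}]

section LC

variable (N : SheafOfModules.{v + 1} R) {I : Type (v + 1)} (s : I → N.sections)

/-- the value of the section `s i` over `U`, typed as an element of the module -/
abbrev secAt (U : Cᵒᵖ) (i : I) : N.val.obj U := (s i).val U

/-- linear combinations of the sections `s i` over `U` -/
noncomputable def lcOf (U : Cᵒᵖ) : (I →₀ R.obj.obj U) →ₗ[R.obj.obj U] N.val.obj U :=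
  Finsupp.linearCombination (R.obj.obj U) (secAt N s U)

theorem lcOf_single (U : Cᵒᵖ) (i : I) (a : R.obj.obj U) :
    lcOf N s U (Finsupp.single i a) = a • secAt N s U i := by
  unfold lcOf
  rw [Finsupp.linearCombination_single]

theorem mem_genSpan_iff (U : Cᵒᵖ) (n : N.val.obj U) :
    n ∈ genSpan N s U ↔ ∃ x : I →₀ R.obj.obj U, lcOf N s U x = n := by
  unfold genSpan lcOf
  rw [← Finsupp.range_linearCombination]
  exact Iff.rfl

/-- restriction of coefficient vectors -/
noncomputable def mapCoef {U V : Cᵒᵖ} (f : U ⟶ V) (x : I →₀ R.obj.obj U) : I →₀ R.obj.obj V :=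
  Finsupp.mapRange (R.obj.map f).hom (map_zero _) x

theorem mapCoef_apply {U V : Cᵒᵖ} (f : U ⟶ V) (x : I →₀ R.obj.obj U) (i : I) :
    mapCoef (R := R) f x i = (R.obj.map f).hom (x i) := by
  unfold mapCoef
  rw [Finsupp.mapRange_apply]

theorem mapCoef_add {U V : Cᵒᵖ} (f : U ⟶ V) (x y : I →₀ R.obj.obj U) :
    mapCoef (R := R) f (x + y) = mapCoef (R := R) f x + mapCoef (R := R) f y := by
  ext i
  rw [Finsupp.add_apply, mapCoef_apply, mapCoef_apply, mapCoef_apply, Finsupp.add_apply, map_add]

theorem mapCoef_zero {U V : Cᵒᵖ} (f : U ⟶ V) :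
    mapCoef (R := R) f (0 : I →₀ R.obj.obj U) = 0 := by
  ext i
  rw [mapCoef_apply, Finsupp.zero_apply, Finsupp.zero_apply, map_zero]

theorem mapCoef_sub {U V : Cᵒᵖ} (f : U ⟶ V) (x y : I →₀ R.obj.obj U) :
    mapCoef (R := R) f (x - y) = mapCoef (R := R) f x - mapCoef (R := R) f y := by
  ext i
  rw [Finsupp.sub_apply, mapCoef_apply, mapCoef_apply, mapCoef_apply, Finsupp.sub_apply, map_sub]

theorem mapCoef_smul {U V : Cᵒᵖ} (f : U ⟶ V) (a : R.obj.obj U) (x : I →₀ R.obj.obj U) :
    mapCoef (R := R) f (a • x) = (R.obj.map f).hom a • mapCoef (R := R) f x := by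
  ext i
  rw [mapCoef_apply, Finsupp.smul_apply, Finsupp.smul_apply, mapCoef_apply, smul_eq_mul,
    smul_eq_mul, map_mul]

theorem mapCoef_single {U V : Cᵒᵖ} (f : U ⟶ V) (i : I) (a : R.obj.obj U) :
    mapCoef (R := R) f (Finsupp.single i a) = Finsupp.single i ((R.obj.map f).hom a) := by
  unfold mapCoef
  rw [Finsupp.mapRange_single]

theorem mapCoef_comp {U V W : Cᵒᵖ} (f : U ⟶ V) (g : V ⟶ W) (x : I →₀ R.obj.obj U) :
    mapCoef (R := R) (f ≫ g) x = mapCoef (R := R) g (mapCoef (R := R) f x) := by
  ext i
  rw [mapCoef_apply, mapCoef_apply, mapCoef_apply, Functor.map_comp]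
  rfl

theorem map_lcOf {U V : Cᵒᵖ} (f : U ⟶ V) (x : I →₀ R.obj.obj U) :
    N.val.map f (lcOf N s U x) = lcOf N s V (mapCoef (R := R) f x) := by
  induction x using Finsupp.induction_linear with
  | zero => rw [map_zero, mapCoef_zero, map_zero, map_zero]
  | add x y hx hy => rw [map_add, map_add, mapCoef_add, map_add, hx, hy]
  | single i a =>
    rw [lcOf_single, mapCoef_single, lcOf_single, PresheafOfModules.map_smul,
      PresheafOfModules.sections_property]

/-- the morphism `free I ⟶ N` attached to the sections, on linear combinations -/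
theorem freeHom_lcOf (U : Cᵒᵖ) (x : I →₀ R.obj.obj U) :
    ((N.freeHomEquiv.symm s).val.app U).hom
        (lcOf (SheafOfModules.free (R := R) I) SheafOfModules.freeSection U x) =
      lcOf N s U x := by
  induction x using Finsupp.induction_linear with
  | zero => rw [map_zero, map_zero, map_zero]
  | add x y hx hy => rw [map_add, map_add, map_add, hx, hy]
  | single i a =>
    rw [lcOf_single, lcOf_single, map_smul]
    congr 1
    have h := SheafOfModules.sectionsMap_freeHomEquiv_symm_freeSection s i
    exact congrArg (fun t : N.sections => t.val U) h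

end LC

section Coord

variable {I : Type (v + 1)}

open Classical in
/-- the section of `unit R` which is `1` if `j = i` and `0` otherwise -/
noncomputable def deltaSec (i j : I) : (SheafOfModules.unit R).sections :=
  PresheafOfModules.sectionsMk (M := PresheafOfModules.unit R.obj)
    (fun U => if j = i then (1 : R.obj.obj U) else 0)
    (by
      intro U V f
      split_ifs
      · exact PresheafOfModules.unit_map_one _ f
      · exact map_zero _)

open Classical in
theorem deltaSec_val (i j : I) (U : Cᵒᵖ) :
    ((deltaSec (R := R) i j).val U : R.obj.obj U) = if j = i then (1 : R.obj.obj U) else 0 := rfl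

/-- the `i`-th coordinate morphism `free I ⟶ unit R` -/
noncomputable def coordHom (i : I) : SheafOfModules.free (R := R) I ⟶ SheafOfModules.unit R :=
  (SheafOfModules.unit R).freeHomEquiv.symm (deltaSec i)

/-- the `i`-th coordinate of a section of the free sheaf -/
noncomputable def coord (i : I) (U : Cᵒᵖ) :
    (SheafOfModules.free (R := R) I).val.obj U →ₗ[R.obj.obj U] R.obj.obj U :=
  ((coordHom (R := R) i).val.app U).hom

open Classical in
theorem coord_freeSection (i j : I) (U : Cᵒᵖ) :
    coord (R := R) i U (secAt (SheafOfModules.free (R := R) I) SheafOfModules.freeSection U j) =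
      if j = i then (1 : R.obj.obj U) else 0 := by
  have h := SheafOfModules.sectionsMap_freeHomEquiv_symm_freeSection
    (M := SheafOfModules.unit R) (deltaSec (R := R) i) j
  have h2 := congrArg (fun t : (SheafOfModules.unit R).sections => t.val U) h
  exact h2

theorem coord_lcOf (i : I) (U : Cᵒᵖ) (x : I →₀ R.obj.obj U) :
    coord (R := R) i U
      (lcOf (SheafOfModules.free (R := R) I) SheafOfModules.freeSection U x) = x i := by
  classical
  induction x using Finsupp.induction_linear with
  | zero => rw [map_zero, map_zero, Finsupp.zero_apply]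
  | add x y hx hy => rw [map_add, map_add, hx, hy, Finsupp.add_apply]
  | single j a =>
    rw [lcOf_single, map_smul, coord_freeSection, Finsupp.single_apply, smul_eq_mul]
    split_ifs
    · rw [mul_one]
    · rw [mul_zero]

theorem lcOf_free_injective (U : Cᵒᵖ) :
    Function.Injective
      (lcOf (SheafOfModules.free (R := R) I) SheafOfModules.freeSection U) := by
  intro x y hxy
  ext i
  rw [← coord_lcOf (R := R) i U x, ← coord_lcOf (R := R) i U y, hxy]

theorem coord_map (i : I) {U V : Cᵒᵖ} (f : U ⟶ V)
    (t : (SheafOfModules.free (R := R) I).val.obj U) :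
    coord (R := R) i V ((SheafOfModules.free (R := R) I).val.map f t) =
      (R.obj.map f).hom (coord (R := R) i U t) := by
  have h := PresheafOfModules.naturality_apply (coordHom (R := R) i).val f t
  exact h

end Coord

section Kernel

theorem exists_kernel_lift {M N : SheafOfModules.{v + 1} R} (π : M ⟶ N) (U : Cᵒᵖ)
    (t : M.val.obj U) (ht : (π.val.app U).hom t = 0) :
    ∃ k : (kernel π).val.obj U, ((kernel.ι π).val.app U).hom k = t := by
  have hex : (ShortComplex.mk (kernel.ι π) π (kernel.condition π)).Exact :=
    ShortComplex.exact_kernel π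
  haveI : Mono (ShortComplex.mk (kernel.ι π) π (kernel.condition π)).f := by
    show Mono (kernel.ι π)
    infer_instance
  have h := hex.map_of_mono_of_preservesKernel (SheafOfModules.evaluation R U)
    inferInstance inferInstance
  exact (ShortComplex.moduleCat_exact_iff _).1 h t ht

end Kernel

section Rel

variable {I : Type (v + 1)}

/-- every section of a free sheaf is locally a combination of the basis sections -/
theorem free_genSieve_mem (U : C) (t : (SheafOfModules.free (R := R) I).val.obj (op U)) :
    genSieve (SheafOfModules.free (R := R) I) SheafOfModules.freeSection U t ∈ J U := by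
  haveI : Epi ((SheafOfModules.free (R := R) I).freeHomEquiv.symm
      SheafOfModules.freeSection) := by
    have h : (SheafOfModules.free (R := R) I).freeHomEquiv.symm SheafOfModules.freeSection =
        𝟙 _ := Equiv.symm_apply_apply _ _
    rw [h]
    infer_instance
  exact genSieve_mem _ _ U t

theorem app_mem_genSpan {M M' : SheafOfModules.{v + 1} R} (φ : M ⟶ M') {K : Type (v + 1)}
    (s : K → M.sections) (U : Cᵒᵖ) (n : M.val.obj U) (hn : n ∈ genSpan M s U) :
    (φ.val.app U).hom n ∈ genSpan M' (fun k => SheafOfModules.sectionsMap φ (s k)) U := by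
  unfold genSpan at hn
  induction hn using Submodule.span_induction with
  | mem x hx =>
    obtain ⟨k, rfl⟩ := hx
    exact Submodule.subset_span ⟨k, rfl⟩
  | zero =>
    rw [map_zero]
    exact zero_mem _
  | add x y _ _ hx hy =>
    rw [map_add]
    exact add_mem hx hy
  | smul a x _ hx =>
    rw [map_smul]
    exact Submodule.smul_mem _ _ hx

/-- coefficient vectors whose combination of basis sections lies in the span of the `ρ j` -/
noncomputable def relSpan {K : Type (v + 1)} (ρ : K → (SheafOfModules.free (R := R) I).sections)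
    (U : Cᵒᵖ) : Submodule (R.obj.obj U) (I →₀ R.obj.obj U) :=
  Submodule.comap (lcOf (SheafOfModules.free (R := R) I) SheafOfModules.freeSection U)
    (genSpan (SheafOfModules.free (R := R) I) ρ U)

theorem mem_relSpan_iff {K : Type (v + 1)} (ρ : K → (SheafOfModules.free (R := R) I).sections)
    (U : Cᵒᵖ) (x : I →₀ R.obj.obj U) :
    x ∈ relSpan ρ U ↔
      lcOf (SheafOfModules.free (R := R) I) SheafOfModules.freeSection U x ∈
        genSpan (SheafOfModules.free (R := R) I) ρ U := Iff.rfl

theorem mapCoef_mem_relSpan {K : Type (v + 1)}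
    (ρ : K → (SheafOfModules.free (R := R) I).sections) {U V : Cᵒᵖ} (f : U ⟶ V)
    (x : I →₀ R.obj.obj U) (hx : x ∈ relSpan ρ U) : mapCoef (R := R) f x ∈ relSpan ρ V := by
  rw [mem_relSpan_iff] at hx ⊢
  rw [← map_lcOf]
  exact map_mem_genSpan _ ρ f _ hx

/-- the sieve of restrictions of a coefficient vector which become relations -/
def relSieve {K : Type (v + 1)} (ρ : K → (SheafOfModules.free (R := R) I).sections) (U : C)
    (x : I →₀ R.obj.obj (op U)) : Sieve U where
  arrows V f := mapCoef (R := R) f.op x ∈ relSpan ρ (op V)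
  downward_closed := by
    intro V W f hf g
    show mapCoef (R := R) (g ≫ f).op x ∈ relSpan ρ (op W)
    rw [op_comp, mapCoef_comp]
    exact mapCoef_mem_relSpan ρ g.op _ hf

theorem relSieve_apply {K : Type (v + 1)} (ρ : K → (SheafOfModules.free (R := R) I).sections)
    (U : C) (x : I →₀ R.obj.obj (op U)) {V : C} (f : V ⟶ U) :
    (relSieve ρ U x).arrows f ↔ mapCoef (R := R) f.op x ∈ relSpan ρ (op V) := Iff.rfl

variable (N : SheafOfModules.{v + 1} R) (s : I → N.sections)

/-- the relation sections inside the free sheaf -/
noncomputable def relSec {K : Type (v + 1)}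
    (r : K → (kernel (N.freeHomEquiv.symm s)).sections) (k : K) :
    (SheafOfModules.free (R := R) I).sections :=
  SheafOfModules.sectionsMap (kernel.ι (N.freeHomEquiv.symm s)) (r k)

/-- **Local relations**: a coefficient vector killed by the generators is locally a
combination of the relations. -/
theorem relSieve_mem {K : Type (v + 1)} (r : K → (kernel (N.freeHomEquiv.symm s)).sections)
    [Epi ((kernel (N.freeHomEquiv.symm s)).freeHomEquiv.symm r)] (U : C)
    (x : I →₀ R.obj.obj (op U)) (hx : lcOf N s (op U) x = 0) :
    relSieve (relSec N s r) U x ∈ J U := by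
  obtain ⟨t, ht⟩ : ∃ t, t = lcOf (SheafOfModules.free (R := R) I)
    SheafOfModules.freeSection (op U) x := ⟨_, rfl⟩
  have h0 : ((N.freeHomEquiv.symm s).val.app (op U)).hom t = 0 := by
    rw [ht, freeHom_lcOf, hx]
  obtain ⟨k, hk⟩ := exists_kernel_lift (N.freeHomEquiv.symm s) (op U) t h0
  have hcov := genSieve_mem (kernel (N.freeHomEquiv.symm s)) r U k
  refine J.superset_covering ?_ hcov
  intro V f hf
  rw [genSieve_apply] at hf
  rw [relSieve_apply, mem_relSpan_iff, ← map_lcOf, ← ht, ← hk]
  have h1 := app_mem_genSpan (kernel.ι (N.freeHomEquiv.symm s)) r (op V) _ hf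
  have h2 := PresheafOfModules.naturality_apply (kernel.ι (N.freeHomEquiv.symm s)).val f.op k
  unfold relSec
  rw [← h2]
  exact h1

end Rel

end Groth.Agent.Lib.QCEtH7
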