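import Mathlib
import Groth.Agent.Lib.AdeqShF_helper4

/-!
# Algebra for base change of presented modules (helper7)
-/

set_option backward.isDefEq.respectTransparency false
set_option backward.isDefEq.respectTransparency.types false
set_option linter.style.haveILetI false
set_option linter.unusedSectionVars false
set_option linter.unusedVariables false
set_option autoImplicit false
set_option maxHeartbeats 1600000
set_option maxSynthPendingDepth 3

open TensorProduct

namespace Groth.Agent.Lib.QCEtH7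

noncomputable section

section Psi

variable {A B : Type*} [CommRing A] [CommRing B] [Algebra A B]
variable {I : Type*} {N : Type*} [AddCommGroup N] [Module A N] (s : I → N)

/-- coefficient change `(I →₀ A) → (I →₀ B)` -/
def mapR (x : I →₀ A) : I →₀ B :=
  Finsupp.mapRange (algebraMap A B) (map_zero _) x

theorem mapR_apply (x : I →₀ A) (i : I) : (mapR (B := B) x) i = algebraMap A B (x i) := by
  unfold mapR
  rw [Finsupp.mapRange_apply]

theorem mapR_single (i : I) (a : A) :
    mapR (B := B) (Finsupp.single i a) = Finsupp.single i (algebraMap A B a) := by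
  unfold mapR
  rw [Finsupp.mapRange_single]

theorem mapR_add (x y : I →₀ A) : mapR (B := B) (x + y) = mapR x + mapR y := by
  ext i
  rw [Finsupp.add_apply, mapR_apply, mapR_apply, mapR_apply, Finsupp.add_apply, map_add]

theorem mapR_zero : mapR (B := B) (0 : I →₀ A) = 0 := by
  ext i
  rw [mapR_apply, Finsupp.zero_apply, Finsupp.zero_apply, map_zero]

/-- `(I →₀ B) → B ⊗ N`, `b e_i ↦ b ⊗ s_i` -/
def psi : (I →₀ B) →ₗ[B] B ⊗[A] N :=
  Finsupp.linearCombination B (fun i => (1 : B) ⊗ₜ[A] s i)

theorem psi_single (i : I) (b : B) : psi (A := A) s (Finsupp.single i b) = b ⊗ₜ[A] s i := by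
  unfold psi
  rw [Finsupp.linearCombination_single, TensorProduct.smul_tmul', smul_eq_mul, mul_one]

theorem psi_mapR (x : I →₀ A) :
    psi (A := A) (B := B) s (mapR x) = (1 : B) ⊗ₜ[A] (Finsupp.linearCombination A s x) := by
  induction x using Finsupp.induction_linear with
  | zero => rw [mapR_zero, map_zero, map_zero, TensorProduct.tmul_zero]
  | add x y hx hy => rw [mapR_add, map_add, map_add, TensorProduct.tmul_add, hx, hy]
  | single i a =>
    rw [mapR_single, psi_single, Finsupp.linearCombination_single, TensorProduct.tmul_smul,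
      Algebra.algebraMap_eq_smul_one, TensorProduct.smul_tmul']

theorem psi_surjective (hs : Function.Surjective (Finsupp.linearCombination A s)) :
    Function.Surjective (psi (A := A) (B := B) s) := by
  intro z
  induction z using TensorProduct.induction_on with
  | zero => exact ⟨0, map_zero _⟩
  | tmul b n =>
    obtain ⟨x, rfl⟩ := hs n
    refine ⟨b • mapR x, ?_⟩
    rw [map_smul, psi_mapR, TensorProduct.smul_tmul', smul_eq_mul, mul_one]
  | add z w hz hw =>
    obtain ⟨x, rfl⟩ := hz
    obtain ⟨y, rfl⟩ := hw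
    exact ⟨x + y, map_add _ _ _⟩

end Psi

section PsiKill

variable {A B : Type*} [CommRing A] [CommRing B] [Algebra A B]
variable {I : Type*} {N : Type*} [AddCommGroup N] [Module A N] (s : I → N)

theorem psi_eq_zero_of_mem_span (T : Set (I →₀ A))
    (hT : ∀ y ∈ T, Finsupp.linearCombination A s y = 0) (x' : I →₀ B)
    (hx' : x' ∈ Submodule.span B (mapR (B := B) '' T)) : psi (A := A) s x' = 0 := by
  induction hx' using Submodule.span_induction with
  | mem x hx =>
    obtain ⟨y, hy, rfl⟩ := hx
    rw [psi_mapR, hT y hy, TensorProduct.tmul_zero]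
  | zero => exact map_zero _
  | add x y _ _ hx hy => rw [map_add, hx, hy, add_zero]
  | smul b x _ hx => rw [map_smul, hx, smul_zero]

end PsiKill

section PresentedBC

variable {A B : Type*} [CommRing A] [CommRing B] [Algebra A B]
variable {I : Type*} {N N' : Type*} [AddCommGroup N] [Module A N] [AddCommGroup N']
  [Module A N'] [Module B N'] [IsScalarTower A B N']

/-- **Base change of presented modules**: if `N` is generated by `s` with relation module
spanned by `T`, and `N'` is generated by `ρ ∘ s` with relation module spanned by the image of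
`T`, then `N' = B ⊗ N`. -/
theorem isBaseChange_of_presented (s : I → N) (ρ : N →ₗ[A] N') (T : Set (I →₀ A))
    (hs : Function.Surjective (Finsupp.linearCombination A s))
    (hs' : Function.Surjective (Finsupp.linearCombination B (fun i => ρ (s i))))
    (hT : ∀ y ∈ T, Finsupp.linearCombination A s y = 0)
    (hker' : ∀ x' : I →₀ B, Finsupp.linearCombination B (fun i => ρ (s i)) x' = 0 →
      x' ∈ Submodule.span B (mapR (B := B) '' T)) :
    IsBaseChange B ρ := by
  have hcomp : ∀ x' : I →₀ B, (ρ.liftBaseChange B) (psi (A := A) s x') =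
      Finsupp.linearCombination B (fun i => ρ (s i)) x' := by
    intro x'
    induction x' using Finsupp.induction_linear with
    | zero => rw [map_zero, map_zero, map_zero]
    | add x y hx hy => rw [map_add, map_add, map_add, hx, hy]
    | single i b =>
      rw [psi_single, LinearMap.liftBaseChange_tmul, Finsupp.linearCombination_single]
  have hkill : ∀ x' ∈ Submodule.span B (mapR (B := B) '' T), psi (A := A) s x' = 0 := by
    intro x' hx'
    induction hx' using Submodule.span_induction with
    | mem x hx =>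
      obtain ⟨y, hy, rfl⟩ := hx
      rw [psi_mapR, hT y hy, TensorProduct.tmul_zero]
    | zero => exact map_zero _
    | add x y _ _ hx hy => rw [map_add, hx, hy, add_zero]
    | smul b x _ hx => rw [map_smul, hx, smul_zero]
  have hinj : Function.Injective (ρ.liftBaseChange B) := by
    rw [injective_iff_map_eq_zero]
    intro z hz
    obtain ⟨x', rfl⟩ := psi_surjective (B := B) s hs z
    rw [hcomp] at hz
    exact hkill x' (hker' x' hz)
  have hsurj : Function.Surjective (ρ.liftBaseChange B) := by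
    intro n'
    obtain ⟨x', rfl⟩ := hs' n'
    exact ⟨psi (A := A) s x', hcomp x'⟩
  exact IsBaseChange.of_equiv (LinearEquiv.ofBijective (ρ.liftBaseChange B) ⟨hinj, hsurj⟩)
    (fun x => by
      rw [LinearEquiv.ofBijective_apply, LinearMap.liftBaseChange_tmul, one_smul])

end PresentedBC

section QT

variable {A : Type*} [CommRing A] {I : Type*} (T : Set (I →₀ A))

/-- the module presented by generators `I` and relations `T` -/
abbrev QT : Type _ := (I →₀ A) ⧸ Submodule.span A T

/-- the generators of `QT` -/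
def sQ (i : I) : QT T := Submodule.Quotient.mk (Finsupp.single i 1)

theorem lc_sQ (x : I →₀ A) :
    Finsupp.linearCombination A (sQ T) x = Submodule.Quotient.mk x := by
  induction x using Finsupp.induction_linear with
  | zero => rw [map_zero, Submodule.Quotient.mk_zero]
  | add x y hx hy => rw [map_add, hx, hy, Submodule.Quotient.mk_add]
  | single i a =>
    rw [Finsupp.linearCombination_single]
    unfold sQ
    rw [← Submodule.Quotient.mk_smul, Finsupp.smul_single, smul_eq_mul, mul_one]

theorem lc_sQ_surjective : Function.Surjective (Finsupp.linearCombination A (sQ T)) := by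
  intro z
  obtain ⟨x, rfl⟩ := Submodule.Quotient.mk_surjective _ z
  exact ⟨x, lc_sQ T x⟩

end QT

section FFZero

variable {A : Type*} [CommRing A] {K : Type*} (Ac : K → Type*) [∀ c, CommRing (Ac c)]
  [∀ c, Algebra A (Ac c)] [∀ c, Module.Flat A (Ac c)]

/-- joint surjectivity on spectra -/
def JointSurj : Prop :=
  ∀ p : Ideal A, p.IsPrime →
    ∃ c, ∃ q : Ideal (Ac c), q.IsPrime ∧ q.comap (algebraMap A (Ac c)) = p

theorem ff_zero (hsurj : JointSurj (A := A) Ac) {Q : Type*} [AddCommGroup Q] [Module A Q] (q : Q)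
    (h : ∀ c, (1 : Ac c) ⊗ₜ[A] q = 0) : q = 0 := by
  by_contra hq
  obtain ⟨𝔞, h𝔞⟩ : ∃ 𝔞 : Ideal A, 𝔞 = LinearMap.ker (LinearMap.toSpanSingleton A Q q) :=
    ⟨_, rfl⟩
  have hne : 𝔞 ≠ ⊤ := by
    intro htop
    apply hq
    have h1 : (1 : A) ∈ 𝔞 := by
      rw [htop]
      trivial
    rw [h𝔞, LinearMap.mem_ker, LinearMap.toSpanSingleton_apply, one_smul] at h1
    exact h1
  obtain ⟨p, hp, hle⟩ := Ideal.exists_le_maximal 𝔞 hne
  obtain ⟨c, 𝔮, h𝔮, hcomap⟩ := hsurj p hp.isPrime
  obtain ⟨f, hf⟩ : ∃ f : (A ⧸ 𝔞) →ₗ[A] Q, f =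
      Submodule.liftQ 𝔞 (LinearMap.toSpanSingleton A Q q) (le_of_eq h𝔞) := ⟨_, rfl⟩
  have hfinj : Function.Injective f := by
    rw [← LinearMap.ker_eq_bot, hf]
    apply Submodule.ker_liftQ_eq_bot
    exact le_of_eq h𝔞.symm
  have hf1 : f (Ideal.Quotient.mk 𝔞 1) = q := by
    rw [hf]
    show Submodule.liftQ 𝔞 _ _ (Submodule.Quotient.mk 1) = q
    rw [Submodule.liftQ_apply, LinearMap.toSpanSingleton_apply, one_smul]
  have hfl := Module.Flat.lTensor_preserves_injective_linearMap (M := Ac c) f hfinj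
  have h1 : (1 : Ac c) ⊗ₜ[A] (Ideal.Quotient.mk 𝔞 1) = 0 := by
    apply hfl
    rw [LinearMap.lTensor_tmul, map_zero, hf1]
    exact h c
  have h2 := congrArg (TensorProduct.tensorQuotEquivQuotSMul (Ac c) 𝔞) h1
  rw [map_zero, TensorProduct.tensorQuotEquivQuotSMul_tmul_mk, one_smul,
    Submodule.Quotient.mk_eq_zero, Ideal.smul_top_eq_map] at h2
  have h3 : (1 : Ac c) ∈ 𝔞.map (algebraMap A (Ac c)) := h2
  have h4 : 𝔞.map (algebraMap A (Ac c)) ≤ 𝔮 := by
    rw [Ideal.map_le_iff_le_comap, hcomap]
    exact hle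
  exact h𝔮.ne_top ((Ideal.eq_top_iff_one _).2 (h4 h3))

end FFZero

section QTBase

variable {A B : Type*} [CommRing A] [CommRing B] [Algebra A B]
variable {I : Type*} (T : Set (I →₀ A))

theorem lc_sQ_eq_zero (y : I →₀ A) (hy : y ∈ T) : Finsupp.linearCombination A (sQ T) y = 0 := by
  rw [lc_sQ, Submodule.Quotient.mk_eq_zero]
  exact Submodule.subset_span hy

/-- `mapR` as an `A`-linear map -/
def mapRL : (I →₀ A) →ₗ[A] (I →₀ B) where
  toFun := mapR (B := B)
  map_add' := mapR_add
  map_smul' := by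
    intro a x
    ext i
    rw [mapR_apply, Finsupp.smul_apply, RingHom.id_apply, Finsupp.smul_apply, mapR_apply,
      smul_eq_mul, map_mul, Algebra.smul_def]

theorem mapRL_apply (x : I →₀ A) : mapRL (B := B) x = mapR (B := B) x := rfl

/-- the comparison `QT T → QT (mapR '' T)` -/
def rhoQ : QT T →ₗ[A] QT (A := B) (mapR (B := B) '' T) :=
  Submodule.liftQ (Submodule.span A T)
    (((Submodule.span B (mapR (B := B) '' T)).mkQ.restrictScalars A).comp (mapRL (B := B)))
    (by
      rw [Submodule.span_le]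
      intro y hy
      rw [SetLike.mem_coe, LinearMap.mem_ker, LinearMap.comp_apply, mapRL_apply]
      show Submodule.Quotient.mk (mapR (B := B) y) = 0
      rw [Submodule.Quotient.mk_eq_zero]
      exact Submodule.subset_span ⟨y, hy, rfl⟩)

theorem rhoQ_mk (x : I →₀ A) :
    rhoQ (B := B) T (Submodule.Quotient.mk x) = Submodule.Quotient.mk (mapR (B := B) x) := rfl

theorem chi_psi (x' : I →₀ B) :
    (rhoQ (B := B) T).liftBaseChange B (psi (A := A) (sQ T) x') = Submodule.Quotient.mk x' := by
  induction x' using Finsupp.induction_linear with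
  | zero => rw [map_zero, map_zero, Submodule.Quotient.mk_zero]
  | add x y hx hy => rw [map_add, map_add, hx, hy, Submodule.Quotient.mk_add]
  | single i b =>
    rw [psi_single, LinearMap.liftBaseChange_tmul]
    unfold sQ
    rw [rhoQ_mk, mapR_single, map_one, ← Submodule.Quotient.mk_smul, Finsupp.smul_single,
      smul_eq_mul, mul_one]

theorem psi_sQ_eq_zero_iff (x' : I →₀ B) :
    psi (A := A) (sQ T) x' = 0 ↔ x' ∈ Submodule.span B (mapR (B := B) '' T) := by
  constructor
  · intro h
    have h1 := chi_psi (B := B) T x'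
    rw [h, map_zero] at h1
    exact (Submodule.Quotient.mk_eq_zero _).1 h1.symm
  · intro h
    exact psi_eq_zero_of_mem_span (sQ T) T (lc_sQ_eq_zero T) x' h

end QTBase

section SpanDescent

variable {A : Type*} [CommRing A] {K : Type*} (Ac : K → Type*) [∀ c, CommRing (Ac c)]
  [∀ c, Algebra A (Ac c)] [∀ c, Module.Flat A (Ac c)]

/-- **Descent of span membership** along a jointly faithfully flat family. -/
theorem span_descent (hsurj : JointSurj (A := A) Ac) {I : Type*} (T : Set (I →₀ A))
    (x : I →₀ A)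
    (h : ∀ c, mapR (B := Ac c) x ∈ Submodule.span (Ac c) (mapR (B := Ac c) '' T)) :
    x ∈ Submodule.span A T := by
  have hq : (Submodule.Quotient.mk x : QT T) = 0 := by
    apply ff_zero Ac hsurj
    intro c
    have h1 := psi_mapR (B := Ac c) (sQ T) x
    rw [lc_sQ] at h1
    rw [← h1]
    exact (psi_sQ_eq_zero_iff (B := Ac c) T _).2 (h c)
  exact (Submodule.Quotient.mk_eq_zero _).1 hq

end SpanDescent

section Amitsur

universe u uK w

variable {K : Type uK} [Fintype K] [DecidableEq K] {A : Type (max u uK)} [CommRing A]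
  (Ac : K → Type (max u uK)) [∀ c, CommRing (Ac c)] [∀ c, Algebra A (Ac c)]
  (Q : Type w) [AddCommGroup Q] [Module A Q]

theorem decomp1 (z : (∀ c, Ac c) ⊗[A] Q) :
    z = ∑ c, (LinearMap.single A Ac c).rTensor Q
      ((LinearMap.proj c : (∀ c, Ac c) →ₗ[A] Ac c).rTensor Q z) := by
  induction z using TensorProduct.induction_on with
  | zero => simp only [map_zero, Finset.sum_const_zero]
  | tmul b q =>
    simp only [LinearMap.rTensor_tmul, LinearMap.proj_apply, LinearMap.coe_single]
    rw [← TensorProduct.sum_tmul]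
    congr 1
    exact (Finset.univ_sum_single b).symm
  | add x y hx hy =>
    simp only [map_add, Finset.sum_add_distrib]
    rw [← hx, ← hy]

theorem eq_zero_of_comp1 (z : (∀ c, Ac c) ⊗[A] Q)
    (h : ∀ c, (LinearMap.proj c : (∀ c, Ac c) →ₗ[A] Ac c).rTensor Q z = 0) : z = 0 := by
  rw [decomp1 Ac Q z]
  apply Finset.sum_eq_zero
  intro c _
  rw [h c, map_zero]

theorem decomp2 (w : ((∀ c, Ac c) ⊗[A] (∀ c, Ac c)) ⊗[A] Q) :
    w = ∑ c, ∑ d, (TensorProduct.map (LinearMap.single A Ac c) (LinearMap.single A Ac d)).rTensor Q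
      ((TensorProduct.map (LinearMap.proj c : (∀ c, Ac c) →ₗ[A] Ac c)
        (LinearMap.proj d : (∀ c, Ac c) →ₗ[A] Ac d)).rTensor Q w) := by
  induction w using TensorProduct.induction_on with
  | zero => simp only [map_zero, Finset.sum_const_zero]
  | tmul bb q =>
    induction bb using TensorProduct.induction_on with
    | zero => simp only [TensorProduct.zero_tmul, map_zero, Finset.sum_const_zero]
    | tmul b b' =>
      simp only [LinearMap.rTensor_tmul, TensorProduct.map_tmul, LinearMap.proj_apply,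
        LinearMap.coe_single]
      simp only [← TensorProduct.sum_tmul, ← TensorProduct.tmul_sum]
      rw [Finset.univ_sum_single b, Finset.univ_sum_single b']
    | add x y hx hy =>
      simp only [TensorProduct.add_tmul, map_add, Finset.sum_add_distrib]
      rw [← hx, ← hy]
  | add x y hx hy =>
    simp only [map_add, Finset.sum_add_distrib]
    rw [← hx, ← hy]

theorem eq_zero_of_comp2 (w : ((∀ c, Ac c) ⊗[A] (∀ c, Ac c)) ⊗[A] Q)
    (h : ∀ c d, (TensorProduct.map (LinearMap.proj c : (∀ c, Ac c) →ₗ[A] Ac c)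
        (LinearMap.proj d : (∀ c, Ac c) →ₗ[A] Ac d)).rTensor Q w = 0) : w = 0 := by
  rw [decomp2 Ac Q w]
  apply Finset.sum_eq_zero
  intro c _
  apply Finset.sum_eq_zero
  intro d _
  rw [h c d, map_zero]

/-- `a ↦ a ⊗ 1` -/
abbrev inclL (c d : K) : Ac c →ₗ[A] Ac c ⊗[A] Ac d :=
  (Algebra.TensorProduct.includeLeft : Ac c →ₐ[A] Ac c ⊗[A] Ac d).toLinearMap

/-- `a ↦ 1 ⊗ a` -/
abbrev inclR (c d : K) : Ac d →ₗ[A] Ac c ⊗[A] Ac d :=
  (Algebra.TensorProduct.includeRight : Ac d →ₐ[A] Ac c ⊗[A] Ac d).toLinearMap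

theorem faithfullyFlat_pi [∀ c, Module.Flat A (Ac c)] (hsurj : JointSurj (A := A) Ac) :
    Module.FaithfullyFlat A (∀ c, Ac c) := by
  haveI : Module.Flat A (∀ c, Ac c) :=
    Module.Flat.of_linearEquiv (DirectSum.linearEquivFunOnFintype A K Ac).symm
  apply Module.FaithfullyFlat.of_comap_surjective
  intro p
  obtain ⟨c, q, hq, hcomap⟩ := hsurj p.asIdeal p.isPrime
  refine ⟨⟨q.comap (Pi.evalRingHom Ac c), inferInstance⟩, ?_⟩
  apply PrimeSpectrum.ext
  rw [PrimeSpectrum.comap_asIdeal]
  show Ideal.comap (algebraMap A (∀ c, Ac c)) (q.comap (Pi.evalRingHom Ac c)) = p.asIdeal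
  rw [Ideal.comap_comap, ← hcomap]
  rfl

/-- **Amitsur exactness for a finite jointly faithfully flat family** -/
theorem amitsur_fam [∀ c, Module.Flat A (Ac c)] (hsurj : JointSurj (A := A) Ac)
    (z : ∀ c, Ac c ⊗[A] Q)
    (hz : ∀ c d, (inclL Ac c d).rTensor Q (z c) = (inclR Ac c d).rTensor Q (z d)) :
    ∃ q : Q, ∀ c, z c = (1 : Ac c) ⊗ₜ[A] q := by
  haveI := faithfullyFlat_pi Ac hsurj
  obtain ⟨Z, hZdef⟩ : ∃ Z : (∀ c, Ac c) ⊗[A] Q,
      Z = ∑ c, (LinearMap.single A Ac c).rTensor Q (z c) := ⟨_, rfl⟩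
  have hZ : ∀ c, (LinearMap.proj c : (∀ c, Ac c) →ₗ[A] Ac c).rTensor Q Z = z c := by
    intro c
    rw [hZdef, map_sum]
    rw [Finset.sum_eq_single c]
    · rw [← LinearMap.comp_apply, ← LinearMap.rTensor_comp, LinearMap.proj_comp_single_same,
        LinearMap.rTensor_id, LinearMap.id_apply]
    · intro d _ hdc
      rw [← LinearMap.comp_apply, ← LinearMap.rTensor_comp,
        LinearMap.proj_comp_single_ne _ _ c d (Ne.symm hdc), LinearMap.rTensor_zero,
        LinearMap.zero_apply]
    · intro hc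
      exact absurd (Finset.mem_univ c) hc
  have ham1 : Groth.Agent.Lib.AdeqShH4.am1 A (∀ c, Ac c) Q Z = 0 := by
    apply eq_zero_of_comp2 Ac Q
    intro c d
    unfold Groth.Agent.Lib.AdeqShH4.am1 Algebra.TensorProduct.includeLeftSubRight
    rw [LinearMap.rTensor_sub, LinearMap.sub_apply, map_sub, sub_eq_zero]
    rw [← LinearMap.comp_apply, ← LinearMap.rTensor_comp, ← LinearMap.comp_apply,
      ← LinearMap.rTensor_comp]
    have hL : (TensorProduct.map (LinearMap.proj c : (∀ c, Ac c) →ₗ[A] Ac c)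
        (LinearMap.proj d : (∀ c, Ac c) →ₗ[A] Ac d)).comp
        (Algebra.TensorProduct.includeLeft :
          (∀ c, Ac c) →ₐ[A] (∀ c, Ac c) ⊗[A] (∀ c, Ac c)).toLinearMap =
        (inclL Ac c d).comp (LinearMap.proj c : (∀ c, Ac c) →ₗ[A] Ac c) := by
      ext b
      simp only [LinearMap.comp_apply, AlgHom.toLinearMap_apply,
        Algebra.TensorProduct.includeLeft_apply, TensorProduct.map_tmul, LinearMap.proj_apply,
        Pi.one_apply]
    have hR : (TensorProduct.map (LinearMap.proj c : (∀ c, Ac c) →ₗ[A] Ac c)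
        (LinearMap.proj d : (∀ c, Ac c) →ₗ[A] Ac d)).comp
        (Algebra.TensorProduct.includeRight :
          (∀ c, Ac c) →ₐ[A] (∀ c, Ac c) ⊗[A] (∀ c, Ac c)).toLinearMap =
        (inclR Ac c d).comp (LinearMap.proj d : (∀ c, Ac c) →ₗ[A] Ac d) := by
      ext b
      simp only [LinearMap.comp_apply, AlgHom.toLinearMap_apply,
        Algebra.TensorProduct.includeRight_apply, TensorProduct.map_tmul, LinearMap.proj_apply,
        Pi.one_apply]
    rw [hL, hR, LinearMap.rTensor_comp, LinearMap.rTensor_comp, LinearMap.comp_apply,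
      LinearMap.comp_apply, hZ c, hZ d]
    exact hz c d
  obtain ⟨q, hq⟩ := (Groth.Agent.Lib.AdeqShH4.amitsur0 A (∀ c, Ac c) Q Z).1 ham1
  refine ⟨q, fun c => ?_⟩
  rw [← hZ c, ← hq]
  unfold Groth.Agent.Lib.AdeqShH4.am0
  rw [TensorProduct.mk_apply, LinearMap.rTensor_tmul, LinearMap.proj_apply, Pi.one_apply]

end Amitsur

section MapH

variable {I : Type*} {B B' : Type*} [CommRing B] [CommRing B']

/-- coefficient change along a ring homomorphism -/
def mapH (φ : B →+* B') (x : I →₀ B) : I →₀ B' := Finsupp.mapRange φ (map_zero φ) x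

theorem mapH_apply (φ : B →+* B') (x : I →₀ B) (i : I) : mapH φ x i = φ (x i) := by
  unfold mapH
  rw [Finsupp.mapRange_apply]

theorem mapH_single (φ : B →+* B') (i : I) (b : B) :
    mapH φ (Finsupp.single i b) = Finsupp.single i (φ b) := by
  unfold mapH
  rw [Finsupp.mapRange_single]

theorem mapH_add (φ : B →+* B') (x y : I →₀ B) : mapH φ (x + y) = mapH φ x + mapH φ y := by
  ext i
  rw [Finsupp.add_apply, mapH_apply, mapH_apply, mapH_apply, Finsupp.add_apply, map_add]

theorem mapH_zero (φ : B →+* B') : mapH φ (0 : I →₀ B) = 0 := by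
  ext i
  rw [mapH_apply, Finsupp.zero_apply, Finsupp.zero_apply, map_zero]

theorem mapH_sub (φ : B →+* B') (x y : I →₀ B) : mapH φ (x - y) = mapH φ x - mapH φ y := by
  ext i
  rw [Finsupp.sub_apply, mapH_apply, mapH_apply, mapH_apply, Finsupp.sub_apply, map_sub]

theorem mapH_smul (φ : B →+* B') (b : B) (x : I →₀ B) :
    mapH φ (b • x) = φ b • mapH φ x := by
  ext i
  rw [mapH_apply, Finsupp.smul_apply, Finsupp.smul_apply, mapH_apply, smul_eq_mul, smul_eq_mul,
    map_mul]

theorem mapH_mapR {A : Type*} [CommRing A] [Algebra A B] [Algebra A B'] (φ : B →+* B')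
    (hφ : ∀ a, φ (algebraMap A B a) = algebraMap A B' a) (x : I →₀ A) :
    mapH φ (mapR (B := B) x) = mapR (B := B') x := by
  ext i
  rw [mapH_apply, mapR_apply, mapR_apply, hφ]

theorem mapH_mem_span {A : Type*} [CommRing A] [Algebra A B] [Algebra A B'] (φ : B →+* B')
    (hφ : ∀ a, φ (algebraMap A B a) = algebraMap A B' a) (T : Set (I →₀ A)) (x : I →₀ B)
    (hx : x ∈ Submodule.span B (mapR (B := B) '' T)) :
    mapH φ x ∈ Submodule.span B' (mapR (B := B') '' T) := by
  induction hx using Submodule.span_induction with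
  | mem x hx =>
    obtain ⟨y, hy, rfl⟩ := hx
    rw [mapH_mapR φ hφ]
    exact Submodule.subset_span ⟨y, hy, rfl⟩
  | zero =>
    rw [mapH_zero]
    exact zero_mem _
  | add x y _ _ hx hy =>
    rw [mapH_add]
    exact add_mem hx hy
  | smul b x _ hx =>
    rw [mapH_smul]
    exact Submodule.smul_mem _ _ hx

/-- an `A`-linear version of a ring homomorphism of `A`-algebras -/
def ringHomL {A : Type*} [CommRing A] [Algebra A B] [Algebra A B'] (φ : B →+* B')
    (hφ : ∀ a, φ (algebraMap A B a) = algebraMap A B' a) : B →ₗ[A] B' where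
  toFun := φ
  map_add' := map_add φ
  map_smul' := by
    intro a b
    rw [RingHom.id_apply, Algebra.smul_def, map_mul, hφ, Algebra.smul_def]

theorem rTensor_psi {A : Type*} [CommRing A] [Algebra A B] [Algebra A B'] (φ : B →+* B')
    (hφ : ∀ a, φ (algebraMap A B a) = algebraMap A B' a)
    {N : Type*} [AddCommGroup N] [Module A N] (s : I → N) (x : I →₀ B) :
    (ringHomL φ hφ).rTensor N (psi (A := A) s x) = psi (A := A) s (mapH φ x) := by
  induction x using Finsupp.induction_linear with
  | zero => rw [map_zero, map_zero, mapH_zero, map_zero]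
  | add x y hx hy => rw [map_add, map_add, mapH_add, map_add, hx, hy]
  | single i b =>
    rw [psi_single, mapH_single, psi_single, LinearMap.rTensor_tmul]
    rfl

end MapH

section FFGlue

universe u uK w

variable {K : Type uK} [Fintype K] [DecidableEq K] {A : Type (max u uK)} [CommRing A]
  (Ac : K → Type (max u uK)) [∀ c, CommRing (Ac c)] [∀ c, Algebra A (Ac c)]
  [∀ c, Module.Flat A (Ac c)]

/-- **Gluing of coefficient vectors modulo relations** along a finite jointly faithfully flat
family. -/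
theorem ff_glue (hsurj : JointSurj (A := A) Ac) {I : Type w} (T : Set (I →₀ A))
    (Acd : K → K → Type*) [∀ c d, CommRing (Acd c d)] [∀ c d, Algebra A (Acd c d)]
    (lam : ∀ c d, Ac c →+* Acd c d) (mu : ∀ c d, Ac d →+* Acd c d)
    (hlam : ∀ c d a, lam c d (algebraMap A (Ac c) a) = algebraMap A (Acd c d) a)
    (hmu : ∀ c d a, mu c d (algebraMap A (Ac d) a) = algebraMap A (Acd c d) a)
    (tau : ∀ c d, Ac c ⊗[A] Ac d →ₗ[A] Acd c d)
    (htau : ∀ c d a b, tau c d (a ⊗ₜ b) = lam c d a * mu c d b)
    (hbij : ∀ c d, Function.Bijective (tau c d))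
    (x : ∀ c, I →₀ Ac c)
    (hx : ∀ c d, mapH (lam c d) (x c) - mapH (mu c d) (x d) ∈
      Submodule.span (Acd c d) (mapR (B := Acd c d) '' T)) :
    ∃ x0 : I →₀ A, ∀ c, mapR (B := Ac c) x0 - x c ∈
      Submodule.span (Ac c) (mapR (B := Ac c) '' T) := by
  obtain ⟨z, hzdef⟩ : ∃ z : ∀ c, Ac c ⊗[A] QT T, z = fun c => psi (A := A) (sQ T) (x c) :=
    ⟨_, rfl⟩
  have hz : ∀ c d, (inclL Ac c d).rTensor (QT T) (z c) = (inclR Ac c d).rTensor (QT T) (z d) := by
    intro c d
    have hinj : Function.Injective ((tau c d).rTensor (QT T)) := by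
      have h := (LinearEquiv.rTensor (QT T) (LinearEquiv.ofBijective (tau c d) (hbij c d))).injective
      exact h
    apply hinj
    rw [← LinearMap.comp_apply, ← LinearMap.rTensor_comp, ← LinearMap.comp_apply,
      ← LinearMap.rTensor_comp]
    have hL : (tau c d).comp (inclL Ac c d) = ringHomL (lam c d) (hlam c d) := by
      ext a
      rw [LinearMap.comp_apply]
      show tau c d (a ⊗ₜ 1) = lam c d a
      rw [htau, map_one, mul_one]
    have hR : (tau c d).comp (inclR Ac c d) = ringHomL (mu c d) (hmu c d) := by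
      ext b
      rw [LinearMap.comp_apply]
      show tau c d (1 ⊗ₜ b) = mu c d b
      rw [htau, map_one, one_mul]
    rw [hL, hR, hzdef]
    show (ringHomL (lam c d) (hlam c d)).rTensor (QT T) (psi (A := A) (sQ T) (x c)) =
      (ringHomL (mu c d) (hmu c d)).rTensor (QT T) (psi (A := A) (sQ T) (x d))
    rw [rTensor_psi, rTensor_psi, ← sub_eq_zero, ← map_sub]
    exact (psi_sQ_eq_zero_iff (B := Acd c d) T _).2 (hx c d)
  obtain ⟨q, hq⟩ := amitsur_fam.{u, uK} Ac (QT T) hsurj z hz
  obtain ⟨x0, rfl⟩ := Submodule.Quotient.mk_surjective _ q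
  refine ⟨x0, fun c => ?_⟩
  rw [← psi_sQ_eq_zero_iff (A := A) (B := Ac c) T, map_sub, sub_eq_zero, psi_mapR, lc_sQ]
  have h := hq c
  rw [hzdef] at h
  exact h.symm

end FFGlue

end

end Groth.Agent.Lib.QCEtH7
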