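import Mathlib
import Groth.Agent.Lib.QCEt3_helper7

/-!
# Base change along ring homomorphisms, ring-hom form (helper7)

`IsBCAlong φ ρ`: the additive map `ρ : N → N'`, semilinear over `φ : A →+* B`, exhibits `N'` as
`B ⊗_A N`.  `IsPO`: a commutative square of rings is a pushout.
-/

set_option backward.isDefEq.respectTransparency false
set_option backward.isDefEq.respectTransparency.types false
set_option linter.style.haveILetI false
set_option linter.unusedSectionVars false
set_option linter.unusedVariables false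
set_option autoImplicit false
set_option maxHeartbeats 1600000
set_option maxSynthPendingDepth 3

open TensorProduct

namespace Groth.Agent.Lib.QCEtH7

noncomputable section

section Along

variable {A B : Type*} [CommRing A] [CommRing B] (φ : A →+* B)
variable {N N' : Type*} [AddCommGroup N] [Module A N] [AddCommGroup N'] [Module B N']

/-- semilinearity of an additive map over a ring homomorphism -/
def IsSemi (ρ : N →+ N') : Prop := ∀ (a : A) (n : N), ρ (a • n) = φ a • ρ n

/-- the module structure on a `B`-module obtained by restriction along `φ` -/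
abbrev modAlong (N' : Type*) [AddCommGroup N'] [Module B N'] : Module A N' := Module.compHom N' φ

theorem towerAlong (N' : Type*) [AddCommGroup N'] [Module B N'] :
    @IsScalarTower A B N' φ.toAlgebra.toSMul _ (modAlong φ N').toSMul :=
  @IsScalarTower.mk A B N' φ.toAlgebra.toSMul _ (modAlong φ N').toSMul (fun a b n => by
    show (φ a * b) • n = φ a • (b • n)
    rw [mul_smul])

/-- a semilinear additive map as a linear map for the restricted module structure -/
def linAlong (ρ : N →+ N') (h : IsSemi φ ρ) :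
    @LinearMap A A _ _ (RingHom.id A) N N' _ _ _ (modAlong φ N') :=
  @LinearMap.mk A A _ _ (RingHom.id A) N N' _ _ _ (modAlong φ N')
    ⟨ρ, map_add ρ⟩ (fun a n => h a n)

theorem linAlong_apply (ρ : N →+ N') (h : IsSemi φ ρ) (n : N) : linAlong φ ρ h n = ρ n := rfl

/-- `ρ` exhibits `N'` as the base change of `N` along `φ` -/
def IsBCAlong (ρ : N →+ N') : Prop :=
  ∃ h : IsSemi φ ρ,
    @IsBaseChange A N N' B _ _ _ _ φ.toAlgebra _ (modAlong φ N') _ (towerAlong φ N')
      (linAlong φ ρ h)

theorem IsBCAlong.isSemi {ρ : N →+ N'} (h : IsBCAlong φ ρ) : IsSemi φ ρ := h.1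

end Along

section InstBased

variable {A A' : Type*} [CommRing A] [CommRing A'] [Algebra A A']

/-- **flat base change of a left exact sequence** (instance form) -/
theorem isBaseChange_of_exact [Module.Flat A A']
    {N P1 P2 N' P1' P2' : Type*} [AddCommGroup N] [Module A N] [AddCommGroup P1] [Module A P1]
    [AddCommGroup P2] [Module A P2]
    [AddCommGroup N'] [Module A N'] [Module A' N'] [IsScalarTower A A' N']
    [AddCommGroup P1'] [Module A P1'] [Module A' P1'] [IsScalarTower A A' P1']
    [AddCommGroup P2'] [Module A P2'] [Module A' P2'] [IsScalarTower A A' P2']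
    (f : N →ₗ[A] P1) (g : P1 →ₗ[A] P2) (f' : N' →ₗ[A'] P1') (g' : P1' →ₗ[A'] P2')
    (hf : Function.Injective f) (hgf : ∀ n, g (f n) = 0) (hex : ∀ p, g p = 0 → ∃ n, f n = p)
    (hf' : Function.Injective f') (hgf' : ∀ n', g' (f' n') = 0)
    (β : N →ₗ[A] N') (β1 : P1 →ₗ[A] P1') (β2 : P2 →ₗ[A] P2')
    (h1 : ∀ n, f' (β n) = β1 (f n)) (h2 : ∀ p, g' (β1 p) = β2 (g p))
    (hb1 : IsBaseChange A' β1) (hb2 : IsBaseChange A' β2) : IsBaseChange A' β := by
  have hexact : Function.Exact f g := by
    intro p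
    constructor
    · intro hp
      exact hex p hp
    · rintro ⟨n, rfl⟩
      exact hgf n
  have hexT := Module.Flat.lTensor_exact A' hexact
  have hinjT := Module.Flat.lTensor_preserves_injective_linearMap (M := A') f hf
  have hi : ∀ z : A' ⊗[A] N, f' (β.liftBaseChange A' z) = hb1.equiv (f.lTensor A' z) := by
    intro z
    induction z using TensorProduct.induction_on with
    | zero => rw [map_zero, map_zero, map_zero, map_zero]
    | tmul a n =>
      rw [LinearMap.liftBaseChange_tmul, map_smul, h1, LinearMap.lTensor_tmul,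
        IsBaseChange.equiv_tmul]
    | add x y hx hy => rw [map_add, map_add, map_add, map_add, hx, hy]
  have hii : ∀ y : A' ⊗[A] P1, g' (hb1.equiv y) = hb2.equiv (g.lTensor A' y) := by
    intro y
    induction y using TensorProduct.induction_on with
    | zero => rw [map_zero, map_zero, map_zero, map_zero]
    | tmul a p =>
      rw [IsBaseChange.equiv_tmul, map_smul, h2, LinearMap.lTensor_tmul,
        IsBaseChange.equiv_tmul]
    | add x y hx hy => rw [map_add, map_add, map_add, map_add, hx, hy]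
  have hinj : Function.Injective (β.liftBaseChange A') := by
    rw [injective_iff_map_eq_zero]
    intro z hz
    have h := hi z
    rw [hz, map_zero] at h
    have h3 : f.lTensor A' z = 0 := by
      apply hb1.equiv.injective
      rw [← h, map_zero]
    apply hinjT
    rw [h3, map_zero]
  have hsurj : Function.Surjective (β.liftBaseChange A') := by
    intro n'
    obtain ⟨y, hy⟩ : ∃ y, y = hb1.equiv.symm (f' n') := ⟨_, rfl⟩
    have hy1 : hb1.equiv y = f' n' := by
      rw [hy, LinearEquiv.apply_symm_apply]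
    have h3 : g.lTensor A' y = 0 := by
      apply hb2.equiv.injective
      rw [← hii, hy1, hgf', map_zero]
    obtain ⟨z, hz⟩ := (hexT y).1 h3
    refine ⟨z, ?_⟩
    apply hf'
    rw [hi, hz, hy1]
  exact IsBaseChange.of_equiv (LinearEquiv.ofBijective (β.liftBaseChange A') ⟨hinj, hsurj⟩)
    (fun x => by
      rw [LinearEquiv.ofBijective_apply, LinearMap.liftBaseChange_tmul, one_smul])

/-- **finite products of base changes** (instance form) -/
theorem isBaseChange_pi {K : Type*} [Fintype K] [DecidableEq K] {Nk N'k : K → Type*}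
    [∀ k, AddCommGroup (Nk k)] [∀ k, Module A (Nk k)] [∀ k, AddCommGroup (N'k k)]
    [∀ k, Module A (N'k k)] [∀ k, Module A' (N'k k)] [∀ k, IsScalarTower A A' (N'k k)]
    (ρ : ∀ k, Nk k →ₗ[A] N'k k) (h : ∀ k, IsBaseChange A' (ρ k)) :
    IsBaseChange A' (LinearMap.pi (fun k => (ρ k).comp (LinearMap.proj k)) :
      (∀ k, Nk k) →ₗ[A] (∀ k, N'k k)) := by
  apply IsBaseChange.of_equiv
    ((TensorProduct.piRight A A' A' Nk).trans (LinearEquiv.piCongrRight (fun k => (h k).equiv)))
  intro x
  funext k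
  rw [LinearEquiv.trans_apply, LinearEquiv.piCongrRight_apply, TensorProduct.piRight_apply,
    TensorProduct.piRightHom_tmul, IsBaseChange.equiv_tmul, one_smul]
  rfl

end InstBased

section Wrappers

variable {A B : Type*} [CommRing A] [CommRing B] (φ : A →+* B)

theorem mapR_eq_mapH {I : Type*} (x : I →₀ A) :
    @mapR A B _ _ φ.toAlgebra I x = mapH φ x := rfl

/-- ring-hom form of `isBaseChange_of_presented` -/
theorem IsBCAlong.of_presented {N N' : Type*} [AddCommGroup N] [Module A N] [AddCommGroup N']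
    [Module B N'] {I : Type*} (s : I → N) (ρ : N →+ N') (hρ : IsSemi φ ρ) (T : Set (I →₀ A))
    (hs : Function.Surjective (Finsupp.linearCombination A s))
    (hs' : Function.Surjective (Finsupp.linearCombination B (fun i => ρ (s i))))
    (hT : ∀ y ∈ T, Finsupp.linearCombination A s y = 0)
    (hker' : ∀ x' : I →₀ B, Finsupp.linearCombination B (fun i => ρ (s i)) x' = 0 →
      x' ∈ Submodule.span B (mapH φ '' T)) :
    IsBCAlong φ ρ := by
  refine ⟨hρ, ?_⟩
  letI := φ.toAlgebra
  letI := modAlong φ N'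
  haveI := towerAlong φ N'
  exact isBaseChange_of_presented s (linAlong φ ρ hρ) T hs hs' hT hker'

/-- the product of additive maps -/
def piAdd {K : Type*} {Nk N'k : K → Type*} [∀ k, AddCommGroup (Nk k)]
    [∀ k, AddCommGroup (N'k k)] (ρ : ∀ k, Nk k →+ N'k k) : (∀ k, Nk k) →+ (∀ k, N'k k) where
  toFun x k := ρ k (x k)
  map_zero' := by
    funext k
    exact map_zero (ρ k)
  map_add' x y := by
    funext k
    exact map_add (ρ k) (x k) (y k)

theorem piAdd_apply {K : Type*} {Nk N'k : K → Type*} [∀ k, AddCommGroup (Nk k)]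
    [∀ k, AddCommGroup (N'k k)] (ρ : ∀ k, Nk k →+ N'k k) (x : ∀ k, Nk k) (k : K) :
    piAdd ρ x k = ρ k (x k) := rfl

/-- ring-hom form of `isBaseChange_pi` -/
theorem IsBCAlong.pi {K : Type*} [Fintype K] [DecidableEq K] {Nk N'k : K → Type*}
    [∀ k, AddCommGroup (Nk k)] [∀ k, Module A (Nk k)] [∀ k, AddCommGroup (N'k k)]
    [∀ k, Module B (N'k k)] (ρ : ∀ k, Nk k →+ N'k k) (h : ∀ k, IsBCAlong φ (ρ k)) :
    IsBCAlong φ (piAdd ρ) := by
  have hsemi : IsSemi φ (piAdd ρ) := by
    intro a x
    funext k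
    exact (h k).1 a (x k)
  refine ⟨hsemi, ?_⟩
  letI := φ.toAlgebra
  letI : ∀ k, Module A (N'k k) := fun k => modAlong φ (N'k k)
  haveI : ∀ k, IsScalarTower A B (N'k k) := fun k => towerAlong φ (N'k k)
  have h0 := isBaseChange_pi (A := A) (A' := B) (fun k => linAlong φ (ρ k) (h k).1)
    (fun k => (h k).2)
  exact h0

/-- ring-hom form of `isBaseChange_of_exact` -/
theorem IsBCAlong.of_exact (hflat : φ.Flat)
    {N P1 P2 N' P1' P2' : Type*} [AddCommGroup N] [Module A N] [AddCommGroup P1] [Module A P1]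
    [AddCommGroup P2] [Module A P2]
    [AddCommGroup N'] [Module B N'] [AddCommGroup P1'] [Module B P1']
    [AddCommGroup P2'] [Module B P2']
    (f : N →ₗ[A] P1) (g : P1 →ₗ[A] P2) (f' : N' →ₗ[B] P1') (g' : P1' →ₗ[B] P2')
    (hf : Function.Injective f) (hgf : ∀ n, g (f n) = 0) (hex : ∀ p, g p = 0 → ∃ n, f n = p)
    (hf' : Function.Injective f') (hgf' : ∀ n', g' (f' n') = 0)
    (β : N →+ N') (β1 : P1 →+ P1') (β2 : P2 →+ P2') (hβ : IsSemi φ β)
    (h1 : ∀ n, f' (β n) = β1 (f n)) (h2 : ∀ p, g' (β1 p) = β2 (g p))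
    (hb1 : IsBCAlong φ β1) (hb2 : IsBCAlong φ β2) : IsBCAlong φ β := by
  refine ⟨hβ, ?_⟩
  letI := φ.toAlgebra
  haveI : Module.Flat A B := hflat
  letI := modAlong φ N'
  haveI := towerAlong φ N'
  letI := modAlong φ P1'
  haveI := towerAlong φ P1'
  letI := modAlong φ P2'
  haveI := towerAlong φ P2'
  exact isBaseChange_of_exact f g f' g' hf hgf hex hf' hgf' (linAlong φ β hβ)
    (linAlong φ β1 hb1.1) (linAlong φ β2 hb2.1) h1 h2 hb1.2 hb2.2

end Wrappers

section PO

variable {R S A B : Type*} [CommRing R] [CommRing S] [CommRing A] [CommRing B]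

/-- the tensor product `S ⊗_R A` formed along two ring homomorphisms -/
abbrev TP (f_RS : R →+* S) (f_RA : R →+* A) : Type _ :=
  @TensorProduct R _ S A _ _ f_RS.toAlgebra.toModule f_RA.toAlgebra.toModule

/-- pure tensors in `TP` -/
abbrev tpmul (f_RS : R →+* S) (f_RA : R →+* A) (s : S) (a : A) : TP f_RS f_RA :=
  @TensorProduct.tmul R _ S A _ _ f_RS.toAlgebra.toModule f_RA.toAlgebra.toModule s a

/-- a commutative square of commutative rings is a pushout -/
def IsPO (f_RS : R →+* S) (f_RA : R →+* A) (f_SB : S →+* B) (f_AB : A →+* B) : Prop :=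
  f_SB.comp f_RS = f_AB.comp f_RA ∧
    ∃ tau : TP f_RS f_RA →+ B,
      (∀ s a, tau (tpmul f_RS f_RA s a) = f_SB s * f_AB a) ∧ Function.Bijective tau

/-- **base change along a pushout square** -/
theorem IsBCAlong.pushout {f_RS : R →+* S} {f_RA : R →+* A} {f_SB : S →+* B} {f_AB : A →+* B}
    (hpo : IsPO f_RS f_RA f_SB f_AB)
    {M M' : Type*} [AddCommGroup M] [Module A M] [AddCommGroup M'] [Module B M'] (ρ : M →+ M')
    (h : IsBCAlong f_AB ρ) :
    @IsBCAlong R S _ _ f_RS M M' _ (modAlong f_RA M) _ (modAlong f_SB M') ρ := by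
  letI aRS : Algebra R S := f_RS.toAlgebra
  letI aRA : Algebra R A := f_RA.toAlgebra
  letI aAB : Algebra A B := f_AB.toAlgebra
  letI aSB : Algebra S B := f_SB.toAlgebra
  letI aRB : Algebra R B := (f_SB.comp f_RS).toAlgebra
  haveI t1 : IsScalarTower R S B := IsScalarTower.of_algebraMap_eq (fun x => rfl)
  haveI t2 : IsScalarTower R A B := IsScalarTower.of_algebraMap_eq (fun x => by
    show (f_SB.comp f_RS) x = f_AB (f_RA x)
    rw [hpo.1]
    rfl)
  haveI hpush : Algebra.IsPushout R S A B := by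
    obtain ⟨tau, htau, hbij⟩ := hpo.2
    have hsmul : ∀ (s' : S) (z : S ⊗[R] A), tau (s' • z) = s' • tau z := by
      intro s' z
      induction z using TensorProduct.induction_on with
      | zero => rw [smul_zero, map_zero, smul_zero]
      | tmul s a =>
        rw [TensorProduct.smul_tmul']
        have h1 := htau (s' • s) a
        have h2 := htau s a
        show tau (tpmul f_RS f_RA (s' • s) a) = s' • tau (tpmul f_RS f_RA s a)
        rw [h1, h2, smul_eq_mul, map_mul, mul_assoc]
        rfl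
      | add x y hx hy => rw [smul_add, map_add, map_add, smul_add, hx, hy]
    obtain ⟨e, he⟩ : ∃ e : S ⊗[R] A ≃ₗ[S] B, ∀ z, e z = tau z :=
      ⟨LinearEquiv.ofBijective
        { toFun := tau, map_add' := map_add tau, map_smul' := hsmul } hbij, fun z => rfl⟩
    rw [Algebra.isPushout_iff]
    apply IsBaseChange.of_equiv e
    intro a
    rw [he]
    have h1 := htau 1 a
    show tau (tpmul f_RS f_RA 1 a) = _
    rw [h1, map_one, one_mul]
    rfl
  letI mRM : Module R M := modAlong f_RA M
  haveI t3 : IsScalarTower R A M := towerAlong f_RA M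
  letI mAM' : Module A M' := modAlong f_AB M'
  haveI t4 : IsScalarTower A B M' := towerAlong f_AB M'
  letI mSM' : Module S M' := modAlong f_SB M'
  haveI t5 : IsScalarTower S B M' := towerAlong f_SB M'
  letI mRM' : Module R M' := @modAlong R S _ _ f_RS M' _ mSM'
  haveI t6 : IsScalarTower R S M' := @towerAlong R S _ _ f_RS M' _ mSM'
  have hsemi : @IsSemi R S _ _ f_RS M M' _ mRM _ mSM' ρ := by
    intro r m
    show ρ (f_RA r • m) = f_SB (f_RS r) • ρ m
    rw [h.1]
    have h1 : f_SB (f_RS r) = f_AB (f_RA r) := by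
      have h2 := congrArg (fun k : R →+* B => k r) hpo.1
      exact h2
    rw [h1]
  refine ⟨hsemi, ?_⟩
  have hB := h.2
  obtain ⟨e1, he1⟩ : ∃ e1 : S ⊗[R] M ≃ₗ[S] B ⊗[A] M,
      e1 = (Algebra.IsPushout.cancelBaseChange R S A B M).symm := ⟨_, rfl⟩
  obtain ⟨e2, he2⟩ : ∃ e2 : B ⊗[A] M ≃ₗ[S] M', ∀ z, e2 z = hB.equiv z :=
    ⟨hB.equiv.restrictScalars S, fun z => rfl⟩
  apply IsBaseChange.of_equiv (e1.trans e2)
  intro m
  rw [LinearEquiv.trans_apply, he1, Algebra.IsPushout.cancelBaseChange_symm_tmul, map_one, he2,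
    IsBaseChange.equiv_tmul, one_smul]
  rfl

end PO

section ULiftPO

universe u v

variable {R S A B : Type u} [CommRing R] [CommRing S] [CommRing A] [CommRing B]
  [Algebra R S] [Algebra R A] [Algebra R B] [Algebra S B] [Algebra A B] [IsScalarTower R S B]
  [IsScalarTower R A B]

theorem up_add' {M : Type u} [Add M] (a b : M) :
    (ULift.up (a + b) : ULift.{v} M) = ULift.up a + ULift.up b := rfl

/-- a pushout square of rings stays a pushout after `ULift` -/
theorem isPO_ulift [h : Algebra.IsPushout R S A B]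
    (f_RS : ULift.{v} R →+* ULift.{v} S) (hRS : ∀ x, (f_RS x).down = algebraMap R S x.down)
    (f_RA : ULift.{v} R →+* ULift.{v} A) (hRA : ∀ x, (f_RA x).down = algebraMap R A x.down)
    (f_SB : ULift.{v} S →+* ULift.{v} B) (hSB : ∀ x, (f_SB x).down = algebraMap S B x.down)
    (f_AB : ULift.{v} A →+* ULift.{v} B) (hAB : ∀ x, (f_AB x).down = algebraMap A B x.down) :
    IsPO f_RS f_RA f_SB f_AB := by
  have hcomm : f_SB.comp f_RS = f_AB.comp f_RA := by
    apply RingHom.ext
    intro x
    apply ULift.ext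
    rw [RingHom.comp_apply, RingHom.comp_apply, hSB, hRS, hAB, hRA,
      ← IsScalarTower.algebraMap_apply, ← IsScalarTower.algebraMap_apply]
  refine ⟨hcomm, ?_⟩
  -- `Θ' : TP → S ⊗ A`
  obtain ⟨F, hF⟩ : ∃ F : ULift.{v} S →+ ULift.{v} A →+ S ⊗[R] A,
      ∀ s a, F s a = s.down ⊗ₜ[R] a.down :=
    ⟨AddMonoidHom.mk' (fun s => AddMonoidHom.mk' (fun a => s.down ⊗ₜ[R] a.down)
      (fun a b => by rw [ULift.add_down, TensorProduct.tmul_add]))
      (fun s t => by
        apply AddMonoidHom.ext
        intro a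
        show (s + t).down ⊗ₜ[R] a.down = s.down ⊗ₜ[R] a.down + t.down ⊗ₜ[R] a.down
        rw [ULift.add_down, TensorProduct.add_tmul]), fun s a => rfl⟩
  obtain ⟨Θ', hΘ'⟩ : ∃ Θ' : TP f_RS f_RA →+ S ⊗[R] A,
      ∀ s a, Θ' (tpmul f_RS f_RA s a) = s.down ⊗ₜ[R] a.down := by
    refine ⟨@TensorProduct.liftAddHom (ULift.{v} R) _ (ULift.{v} S) (ULift.{v} A) (S ⊗[R] A) _ _ _
      f_RS.toAlgebra.toModule f_RA.toAlgebra.toModule F ?_, fun s a => ?_⟩
    · intro r s a
      show F (f_RS r * s) a = F s (f_RA r * a)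
      rw [hF, hF, ULift.mul_down, ULift.mul_down, hRS, hRA, ← Algebra.smul_def,
        ← Algebra.smul_def, TensorProduct.smul_tmul]
    · show F s a = _
      rw [hF]
  -- `Θ : S ⊗ A → TP`
  obtain ⟨G, hG⟩ : ∃ G : S →+ A →+ TP f_RS f_RA,
      ∀ s a, G s a = tpmul f_RS f_RA (ULift.up s) (ULift.up a) :=
    ⟨AddMonoidHom.mk' (fun s => AddMonoidHom.mk'
      (fun a => tpmul f_RS f_RA (ULift.up s) (ULift.up a))
      (fun a b => by
        show tpmul f_RS f_RA (ULift.up s) (ULift.up (a + b)) = _
        rw [up_add']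
        exact @TensorProduct.tmul_add (ULift.{v} R) _ (ULift.{v} S) (ULift.{v} A) _ _
          f_RS.toAlgebra.toModule f_RA.toAlgebra.toModule _ _ _))
      (fun s t => by
        apply AddMonoidHom.ext
        intro a
        show tpmul f_RS f_RA (ULift.up (s + t)) (ULift.up a) =
          tpmul f_RS f_RA (ULift.up s) (ULift.up a) + tpmul f_RS f_RA (ULift.up t) (ULift.up a)
        rw [up_add']
        exact @TensorProduct.add_tmul (ULift.{v} R) _ (ULift.{v} S) (ULift.{v} A) _ _
          f_RS.toAlgebra.toModule f_RA.toAlgebra.toModule _ _ _), fun s a => rfl⟩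
  obtain ⟨Θ, hΘ⟩ : ∃ Θ : S ⊗[R] A →+ TP f_RS f_RA,
      ∀ s a, Θ (s ⊗ₜ[R] a) = tpmul f_RS f_RA (ULift.up s) (ULift.up a) := by
    refine ⟨TensorProduct.liftAddHom G ?_, fun s a => ?_⟩
    · intro r s a
      rw [hG, hG]
      have h1 : (ULift.up (r • s) : ULift.{v} S) = f_RS (ULift.up r) * ULift.up s := by
        apply ULift.ext
        rw [ULift.mul_down, hRS, Algebra.smul_def]
      have h2 : (ULift.up (r • a) : ULift.{v} A) = f_RA (ULift.up r) * ULift.up a := by
        apply ULift.ext
        rw [ULift.mul_down, hRA, Algebra.smul_def]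
      rw [h1, h2]
      exact Quotient.sound' (AddConGen.Rel.of _ _
        (@TensorProduct.Eqv.of_smul (ULift.{v} R) _ (ULift.{v} S) (ULift.{v} A) _ _
          f_RS.toAlgebra.toModule f_RA.toAlgebra.toModule (ULift.up r) (ULift.up s) (ULift.up a)))
    · rw [TensorProduct.liftAddHom_tmul, hG]
  have h1 : ∀ w : TP f_RS f_RA, Θ (Θ' w) = w := by
    intro w
    induction w using TensorProduct.induction_on with
    | zero => rw [map_zero, map_zero]
    | tmul s a =>
      have h := hΘ' s a
      show Θ (Θ' (tpmul f_RS f_RA s a)) = _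
      rw [h, hΘ]
    | add x y hx hy => rw [map_add, map_add, hx, hy]
  have h2 : ∀ z : S ⊗[R] A, Θ' (Θ z) = z := by
    intro z
    induction z using TensorProduct.induction_on with
    | zero => rw [map_zero, map_zero]
    | tmul s a => rw [hΘ, hΘ']
    | add x y hx hy => rw [map_add, map_add, hx, hy]
  obtain ⟨tau, htau⟩ : ∃ tau : TP f_RS f_RA →+ ULift.{v} B,
      ∀ w, tau w = ULift.up (Algebra.IsPushout.equiv R S A B (Θ' w)) :=
    ⟨AddMonoidHom.mk' (fun w => ULift.up (Algebra.IsPushout.equiv R S A B (Θ' w)))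
      (fun x y => by rw [map_add, map_add, up_add']), fun w => rfl⟩
  refine ⟨tau, ?_, ?_, ?_⟩
  · intro s a
    rw [htau, hΘ', Algebra.IsPushout.equiv_tmul]
    apply ULift.ext
    rw [ULift.mul_down, hSB, hAB]
  · intro x y hxy
    rw [htau, htau] at hxy
    have h3 := congrArg ULift.down hxy
    have h4 := (Algebra.IsPushout.equiv R S A B).injective h3
    rw [← h1 x, ← h1 y, h4]
  · intro b
    obtain ⟨z, hz⟩ := (Algebra.IsPushout.equiv R S A B).surjective b.down
    refine ⟨Θ z, ?_⟩
    rw [htau, h2, hz]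

end ULiftPO

section POLinear

variable {R S A B : Type*} [CommRing R] [CommRing S] [CommRing A] [CommRing B]

/-- the comparison map of a pushout square as a linear map -/
theorem IsPO.exists_tau {f_RS : R →+* S} {f_RA : R →+* A} {f_SB : S →+* B} {f_AB : A →+* B}
    (hpo : IsPO f_RS f_RA f_SB f_AB) :
    ∃ tau : @LinearMap R R _ _ (RingHom.id R) (TP f_RS f_RA) B _ _
        (@TensorProduct.instModule R _ S A _ _ f_RS.toAlgebra.toModule f_RA.toAlgebra.toModule)
        (f_SB.comp f_RS).toAlgebra.toModule,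
      (∀ s a, tau (tpmul f_RS f_RA s a) = f_SB s * f_AB a) ∧ Function.Bijective tau := by
  letI aRS : Algebra R S := f_RS.toAlgebra
  letI aRA : Algebra R A := f_RA.toAlgebra
  letI aRB : Algebra R B := (f_SB.comp f_RS).toAlgebra
  obtain ⟨tau, htau, hbij⟩ := hpo.2
  have hsmul : ∀ (r : R) (z : S ⊗[R] A), tau (r • z) = r • tau z := by
    intro r z
    induction z using TensorProduct.induction_on with
    | zero => rw [smul_zero, map_zero, smul_zero]
    | tmul s a =>
      rw [TensorProduct.smul_tmul']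
      have h1 := htau (r • s) a
      have h2 := htau s a
      show tau (tpmul f_RS f_RA (r • s) a) = r • tau (tpmul f_RS f_RA s a)
      rw [h1, h2]
      show f_SB (f_RS r * s) * f_AB a = (f_SB.comp f_RS) r * (f_SB s * f_AB a)
      rw [map_mul, mul_assoc]
      rfl
    | add x y hx hy => rw [smul_add, map_add, map_add, smul_add, hx, hy]
  exact ⟨{ toFun := tau, map_add' := map_add tau, map_smul' := hsmul }, htau, hbij⟩

end POLinear

end

end Groth.Agent.Lib.QCEtH7
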