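import Groth.Agent.Lib.AffLimExists_helper7
import Groth.Agent.Lib.AlgSpPullback_helper7
import Groth.Agent.Lib.AlgSpGlue2_helper7
import Groth.Agent.Lib.AlgSpRepBySp_helper7
import Groth.Prelude.Def_AlgSp3

/-!
# Cofiltered limits of algebraic spaces with affine transition maps (helper7)

* `exists_limit_over`: a cofiltered diagram of schemes over `S` with affine transition maps has a
  limit in `Over S`, which is also a limit of the underlying schemes, with affine projections.
* `tower`: the diagram of schemes representing the base changes of a natural transformation with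
  representable components along a cone of maps from a fixed scheme.
* `isPullback_limit`: the limit of these schemes represents the base change of the map of limits.
* `exists_tower`: the specialisation to the projections of a limit of sheaves with affine
  transition maps.
* `main10004`.
-/

set_option autoImplicit false
set_option linter.style.haveILetI false

universe u

open CategoryTheory CategoryTheory.Limits AlgebraicGeometry Opposite
open AlgSp Groth.Agent.Lib.AlgSpPullback_helper7 Groth.Agent.Lib.AlgSpQC_helper7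
  Groth.Agent.Lib.AlgSpGlue2H7 Groth.Agent.Lib.AlgSpRepBySp_helper7

namespace Groth.Agent.Lib.LimTowerH7

variable {S : Scheme.{u}}

/-! ### Limits of schemes over `S` with affine transition maps -/

theorem exists_limit_over {J : Type u} [SmallCategory J] [IsCofiltered J] (E : J ⥤ Over S)
    (hE : ∀ (j k : J) (φ : j ⟶ k), IsAffineHom (E.map φ).left) :
    ∃ (cE : Cone E), Nonempty (IsLimit cE) ∧ Nonempty (IsLimit ((Over.forget S).mapCone cE)) ∧
      ∀ j, IsAffineHom (cE.π.app j).left := by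
  haveI h1 : ∀ (j k : J) (φ : j ⟶ k), IsAffineHom ((E ⋙ Over.forget S).map φ) :=
    fun j k φ => hE j k φ
  haveI h2 : ∀ {j k : J} (φ : j ⟶ k), IsAffineHom ((E ⋙ Over.forget S).map φ) :=
    fun φ => hE _ _ φ
  obtain ⟨cF, hcF, _⟩ := Groth.Agent.Lib.AffLimExists_helper7.main (E ⋙ Over.forget S)
  haveI : IsConnected J := IsCofiltered.isConnected J
  let cE : Cone E := liftLimit hcF
  have hcE : IsLimit cE := liftedLimitIsLimit hcF
  have iso : (Over.forget S).mapCone cE ≅ cF := liftedLimitMapsToOriginal hcF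
  have hl : IsLimit ((Over.forget S).mapCone cE) := IsLimit.ofIsoLimit hcF iso.symm
  refine ⟨cE, ⟨hcE⟩, ⟨hl⟩, fun j => ?_⟩
  exact isAffineHom_π_app (E ⋙ Over.forget S) _ hl j

/-! ### Affine morphisms of sheaves are representable -/

set_option backward.isDefEq.respectTransparency false in
theorem repWith_isAffineHom_of_isAffineMor {F G : Sp S} (f : F ⟶ G) (hf : IsAffineMor f) :
    RepWith @IsAffineHom f := by
  refine repWith_of_affine_local @IsAffineHom f (fun Z hZ g => ?_)
  obtain ⟨W, i, fst, sq, hW⟩ := hf hZ g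
  haveI := hZ
  haveI := hW
  exact ⟨W, i, fst, sq, inferInstance⟩

/-! ### The tower of base changes -/

section Tower

variable {J : Type u} [SmallCategory J] {DX DY : J ⥤ Sp S} (τ : DX ⟶ DY)
  (hτ : ∀ j, (yon S).relativelyRepresentable (τ.app j)) (cY : Cone DY) {Z : Over S}
  (t : (yon S).obj Z ⟶ cY.pt)

noncomputable def tObj (j : J) : Over S := (hτ j).pullback (t ≫ cY.π.app j)

noncomputable def tP (j : J) : (yon S).obj (tObj τ hτ cY t j) ⟶ DX.obj j :=
  (hτ j).fst (t ≫ cY.π.app j)

noncomputable def tQ (j : J) : tObj τ hτ cY t j ⟶ Z := (hτ j).snd (t ≫ cY.π.app j)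

theorem t_sq (j : J) : IsPullback (tP τ hτ cY t j) ((yon S).map (tQ τ hτ cY t j)) (τ.app j)
    (t ≫ cY.π.app j) := (hτ j).isPullback (t ≫ cY.π.app j)

noncomputable def tMap {j k : J} (φ : j ⟶ k) : tObj τ hτ cY t j ⟶ tObj τ hτ cY t k :=
  (hτ k).lift (tP τ hτ cY t j ≫ DX.map φ) (tQ τ hτ cY t j) (by
    rw [Category.assoc, τ.naturality, ← Category.assoc, (t_sq τ hτ cY t j).w, Category.assoc,
      Category.assoc, cY.w φ])

@[reassoc]
theorem tMap_p {j k : J} (φ : j ⟶ k) :
    (yon S).map (tMap τ hτ cY t φ) ≫ tP τ hτ cY t k = tP τ hτ cY t j ≫ DX.map φ :=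
  (hτ k).lift_fst _ _ _

@[reassoc]
theorem tMap_q {j k : J} (φ : j ⟶ k) :
    tMap τ hτ cY t φ ≫ tQ τ hτ cY t k = tQ τ hτ cY t j :=
  (hτ k).lift_snd _ _ _

theorem t_hom_ext {T : Over S} {j : J} (a b : T ⟶ tObj τ hτ cY t j)
    (h₁ : (yon S).map a ≫ tP τ hτ cY t j = (yon S).map b ≫ tP τ hτ cY t j)
    (h₂ : a ≫ tQ τ hτ cY t j = b ≫ tQ τ hτ cY t j) : a = b :=
  (hτ j).hom_ext h₁ h₂

noncomputable def tower : J ⥤ Over S where
  obj j := tObj τ hτ cY t j
  map φ := tMap τ hτ cY t φ
  map_id j := by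
    apply t_hom_ext τ hτ cY t
    · rw [tMap_p, DX.map_id, Category.comp_id, (yon S).map_id, Category.id_comp]
    · rw [tMap_q, Category.id_comp]
  map_comp {j k l} φ ψ := by
    apply t_hom_ext τ hτ cY t
    · rw [tMap_p, DX.map_comp, (yon S).map_comp, Category.assoc, tMap_p, tMap_p_assoc]
    · rw [tMap_q, Category.assoc, tMap_q, tMap_q]

end Tower

/-! ### The limit of the tower represents the base change of the map of limits -/

theorem isPullback_limit {J : Type u} [SmallCategory J] {DX DY : J ⥤ Sp S} (τ : DX ⟶ DY)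
    (cX : Cone DX) (hcX : IsLimit cX) (cY : Cone DY)
    (hmono : ∀ {Q : Sp S} (a b : Q ⟶ cY.pt), (∀ j, a ≫ cY.π.app j = b ≫ cY.π.app j) → a = b)
    (g : cX.pt ⟶ cY.pt) (hg : ∀ j, g ≫ cY.π.app j = cX.π.app j ≫ τ.app j)
    {Z : Over S} (t : (yon S).obj Z ⟶ cY.pt)
    (E : J ⥤ Over S) (p : ∀ j, (yon S).obj (E.obj j) ⟶ DX.obj j) (q : ∀ j, E.obj j ⟶ Z)
    (sq : ∀ j, IsPullback (p j) ((yon S).map (q j)) (τ.app j) (t ≫ cY.π.app j))
    (hp : ∀ (j k : J) (φ : j ⟶ k), (yon S).map (E.map φ) ≫ p k = p j ≫ DX.map φ)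
    (hq : ∀ (j k : J) (φ : j ⟶ k), E.map φ ≫ q k = q j)
    (cE : Cone E) (hcE : IsLimit cE) (w : cE.pt ⟶ Z) (hw : ∀ j, cE.π.app j ≫ q j = w)
    (j₀ : J) :
    ∃ fst : (yon S).obj cE.pt ⟶ cX.pt,
      (∀ j, fst ≫ cX.π.app j = (yon S).map (cE.π.app j) ≫ p j) ∧
      IsPullback fst ((yon S).map w) g t := by
  let s : Cone DX :=
    { pt := (yon S).obj cE.pt
      π :=
        { app := fun j => (yon S).map (cE.π.app j) ≫ p j
          naturality := fun j k φ => by
            simp only [Functor.const_obj_obj, Functor.const_obj_map, Category.id_comp,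
              Category.assoc]
            rw [← hp j k φ, ← Category.assoc, ← (yon S).map_comp, cE.w φ] } }
  have hfst : ∀ j, hcX.lift s ≫ cX.π.app j = (yon S).map (cE.π.app j) ≫ p j :=
    fun j => hcX.fac s j
  refine ⟨hcX.lift s, hfst, ?_⟩
  have hcomm : hcX.lift s ≫ g = (yon S).map w ≫ t := by
    apply hmono
    intro j
    simp only [Category.assoc]
    rw [hg j, ← Category.assoc, hfst j, Category.assoc, (sq j).w, ← hw j, (yon S).map_comp,
      Category.assoc]
  refine isPullback_of_forall_yon hcomm ?_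
  intro T a b hab
  obtain ⟨b', rfl⟩ := (yon S).map_surjective b
  have hj : ∀ j, (a ≫ cX.π.app j) ≫ τ.app j = (yon S).map b' ≫ (t ≫ cY.π.app j) := fun j => by
    rw [Category.assoc, ← hg j, ← Category.assoc, hab, Category.assoc]
  have hex : ∀ j, ∃ l : T ⟶ E.obj j,
      (yon S).map l ≫ p j = a ≫ cX.π.app j ∧ l ≫ q j = b' := fun j => by
    refine ⟨(yon S).preimage ((sq j).lift (a ≫ cX.π.app j) ((yon S).map b') (hj j)), ?_, ?_⟩
    · rw [(yon S).map_preimage]
      exact (sq j).lift_fst _ _ _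
    · apply (yon S).map_injective
      rw [(yon S).map_comp, (yon S).map_preimage]
      exact (sq j).lift_snd _ _ _
  choose ℓ hℓp hℓq using hex
  have hℓnat : ∀ (j k : J) (φ : j ⟶ k), ℓ j ≫ E.map φ = ℓ k := fun j k φ => by
    apply (yon S).map_injective
    apply (sq k).hom_ext
    · rw [(yon S).map_comp, Category.assoc, hp j k φ, ← Category.assoc, hℓp j, Category.assoc,
        cX.w φ, hℓp k]
    · rw [← (yon S).map_comp, ← (yon S).map_comp, Category.assoc, hq j k φ, hℓq j, hℓq k]
  let sT : Cone E :=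
    { pt := T
      π :=
        { app := ℓ
          naturality := fun j k φ => by
            simp only [Functor.const_obj_obj, Functor.const_obj_map, Category.id_comp]
            exact (hℓnat j k φ).symm } }
  have hl : ∀ j, hcE.lift sT ≫ cE.π.app j = ℓ j := fun j => hcE.fac sT j
  refine ⟨(yon S).map (hcE.lift sT), ⟨?_, ?_⟩, ?_⟩
  · apply hcX.hom_ext
    intro j
    rw [Category.assoc, hfst j, ← Category.assoc, ← (yon S).map_comp, hl j, hℓp j]
  · rw [← (yon S).map_comp, ← hw j₀, ← Category.assoc, hl j₀, hℓq j₀]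
  · rintro m ⟨hm1, hm2⟩
    obtain ⟨m', rfl⟩ := (yon S).map_surjective m
    apply congrArg
    apply hcE.hom_ext
    intro j
    rw [hl j]
    apply (yon S).map_injective
    apply (sq j).hom_ext
    · rw [(yon S).map_comp, Category.assoc, ← hfst j, ← Category.assoc, hm1, hℓp j]
    · rw [← (yon S).map_comp, ← (yon S).map_comp, Category.assoc, hw j, hℓq j,
        (yon S).map_comp]
      exact hm2

/-! ### The tower over a projection of a limit with affine transition maps -/

section OverTower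

variable {I : Type u} [SmallCategory I] (D : I ⥤ Sp S) (i : I)

/-- The natural transformation from the restriction of `D` to `Over i` to the constant diagram. -/
noncomputable def τOver : (Over.forget i ⋙ D) ⟶ (Functor.const (Over i)).obj (D.obj i) where
  app j := D.map j.hom
  naturality j k φ := by
    simp only [Functor.comp_obj, Over.forget_obj, Functor.comp_map, Over.forget_map,
      Functor.const_obj_obj, Functor.const_obj_map, Category.comp_id]
    rw [← D.map_comp, Over.w φ]

/-- The constant cone. -/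
noncomputable def cConst : Cone ((Functor.const (Over i)).obj (D.obj i)) where
  pt := D.obj i
  π := 𝟙 _

end OverTower

theorem exists_tower {I : Type u} [SmallCategory I] [IsCofiltered I] (D : I ⥤ Sp S)
    (hDa : ∀ (i j : I) (φ : i ⟶ j), IsAffineMor (D.map φ)) (c : Cone D) (hc : IsLimit c)
    (i : I) {Z : Over S} (g : (yon S).obj Z ⟶ D.obj i) :
    ∃ (E : Over i ⥤ Over S) (p : ∀ j, (yon S).obj (E.obj j) ⟶ D.obj j.left)
      (q : ∀ j, E.obj j ⟶ Z) (cE : Cone E) (fst : (yon S).obj cE.pt ⟶ c.pt) (w : cE.pt ⟶ Z),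
      (∀ j, IsPullback (p j) ((yon S).map (q j)) (D.map j.hom) g) ∧
      (∀ (j k : Over i) (φ : j ⟶ k), (yon S).map (E.map φ) ≫ p k = p j ≫ D.map φ.left) ∧
      (∀ (j k : Over i) (φ : j ⟶ k), E.map φ ≫ q k = q j) ∧
      (∀ (j k : Over i) (φ : j ⟶ k), IsAffineHom (E.map φ).left) ∧
      (∀ j, IsAffineHom (q j).left) ∧
      Nonempty (IsLimit cE) ∧ Nonempty (IsLimit ((Over.forget S).mapCone cE)) ∧
      (∀ j, IsAffineHom (cE.π.app j).left) ∧
      (∀ j, cE.π.app j ≫ q j = w) ∧
      (∀ j, fst ≫ c.π.app j.left = (yon S).map (cE.π.app j) ≫ p j) ∧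
      IsPullback fst ((yon S).map w) (c.π.app i) g ∧ IsAffineHom w.left := by
  have hA : ∀ (a b : I) (φ : a ⟶ b), RepWith @IsAffineHom (D.map φ) := fun a b φ =>
    repWith_isAffineHom_of_isAffineMor _ (hDa a b φ)
  have hτ : ∀ j : Over i, (yon S).relativelyRepresentable ((τOver D i).app j) := fun j =>
    (hA _ _ j.hom).rep
  let E : Over i ⥤ Over S := tower (τOver D i) hτ (cConst D i) g
  let p : ∀ j, (yon S).obj (E.obj j) ⟶ D.obj j.left := fun j => tP (τOver D i) hτ (cConst D i) g j
  let q : ∀ j, E.obj j ⟶ Z := fun j => tQ (τOver D i) hτ (cConst D i) g j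
  have sq' : ∀ j, IsPullback (p j) ((yon S).map (q j)) ((τOver D i).app j)
      (g ≫ (cConst D i).π.app j) := fun j => t_sq (τOver D i) hτ (cConst D i) g j
  have hgc : ∀ j : Over i, g ≫ (cConst D i).π.app j = g := fun j => Category.comp_id g
  have sq : ∀ j, IsPullback (p j) ((yon S).map (q j)) (D.map j.hom) g := fun j => by
    have := sq' j
    rw [hgc j] at this
    exact this
  have hp : ∀ (j k : Over i) (φ : j ⟶ k), (yon S).map (E.map φ) ≫ p k = p j ≫ D.map φ.left :=
    fun j k φ => tMap_p (τOver D i) hτ (cConst D i) g φ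
  have hq : ∀ (j k : Over i) (φ : j ⟶ k), E.map φ ≫ q k = q j :=
    fun j k φ => tMap_q (τOver D i) hτ (cConst D i) g φ
  have hqaff : ∀ j, IsAffineHom (q j).left := fun j => (hA _ _ j.hom).property _ _ _ (sq j)
  have hEaff : ∀ (j k : Over i) (φ : j ⟶ k), IsAffineHom (E.map φ).left := fun j k φ => by
    have outer : IsPullback ((yon S).map (E.map φ) ≫ (yon S).map (q k)) (p j) g
        (D.map φ.left ≫ D.map k.hom) := by
      rw [← (yon S).map_comp, hq j k φ, ← D.map_comp, Over.w φ]
      exact (sq j).flip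
    have left := IsPullback.of_right outer (hp j k φ) (sq k).flip
    exact (hA _ _ φ.left).property _ _ _ left.flip
  obtain ⟨cE, ⟨hcE⟩, ⟨hl⟩, hπaff⟩ := exists_limit_over E hEaff
  let j₀ : Over i := Over.mk (𝟙 i)
  let toJ₀ : ∀ j : Over i, j ⟶ j₀ := fun j => Over.homMk j.hom (by simp [j₀])
  let w : cE.pt ⟶ Z := cE.π.app j₀ ≫ q j₀
  have hw : ∀ j, cE.π.app j ≫ q j = w := fun j => by
    rw [← hq j j₀ (toJ₀ j), ← Category.assoc, cE.w]
  have hcX : IsLimit (c.whisker (Over.forget i)) :=
    (Functor.Initial.isLimitWhiskerEquiv (Over.forget i) c).symm hc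
  obtain ⟨fst, hfst, pb⟩ := isPullback_limit (τOver D i) (c.whisker (Over.forget i)) hcX
    (cConst D i)
    (fun a b h => (Category.comp_id a).symm.trans ((h j₀).trans (Category.comp_id b)))
    (c.π.app i)
    (fun j => by
      show c.π.app i ≫ 𝟙 _ = c.π.app j.left ≫ D.map j.hom
      rw [Category.comp_id, c.w])
    g E p q sq' hp hq cE hcE w hw j₀
  refine ⟨E, p, q, cE, fst, w, sq, hp, hq, hEaff, hqaff, ⟨hcE⟩, ⟨hl⟩, hπaff, hw, hfst, pb, ?_⟩
  haveI := hπaff j₀
  haveI := hqaff j₀
  show IsAffineHom ((cE.π.app j₀).left ≫ (q j₀).left)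
  infer_instance

/-- The squares relating the limit of the tower to its stages are pullbacks. -/
theorem isPullback_stage {I : Type u} [SmallCategory I] (D : I ⥤ Sp S) (c : Cone D) (i : I)
    {Z : Over S} (g : (yon S).obj Z ⟶ D.obj i) {E : Over i ⥤ Over S}
    (p : ∀ j, (yon S).obj (E.obj j) ⟶ D.obj j.left) (q : ∀ j, E.obj j ⟶ Z) (cE : Cone E)
    (fst : (yon S).obj cE.pt ⟶ c.pt) (w : cE.pt ⟶ Z)
    (sq : ∀ j, IsPullback (p j) ((yon S).map (q j)) (D.map j.hom) g)
    (hw : ∀ j, cE.π.app j ≫ q j = w)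
    (hfst : ∀ j, fst ≫ c.π.app j.left = (yon S).map (cE.π.app j) ≫ p j)
    (pb : IsPullback fst ((yon S).map w) (c.π.app i) g) (j : Over i) :
    IsPullback fst ((yon S).map (cE.π.app j)) (c.π.app j.left) (p j) := by
  have outer : IsPullback ((yon S).map (cE.π.app j) ≫ (yon S).map (q j)) fst g
      (c.π.app j.left ≫ D.map j.hom) := by
    rw [← (yon S).map_comp, hw j, c.w]
    exact pb.flip
  exact (IsPullback.of_right outer (hfst j).symm (sq j).flip).flip

/-! ### S10004 -/

theorem main10004 {I : Type u} [SmallCategory I] [IsCofiltered I]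
    (D : I ⥤ Sp S) (hD : ∀ i, IsAlgSpace (D.obj i))
    (hDa : ∀ (i j : I) (φ : i ⟶ j), IsAffineMor (D.map φ))
    (c : Cone D) (hc : IsLimit c) :
    IsAlgSpace c.pt ∧ ∀ i, IsAffineMor (c.π.app i) := by
  have haff : ∀ i, IsAffineMor (c.π.app i) := by
    intro i Z hZ g
    obtain ⟨E, p, q, cE, fst, w, -, -, -, -, -, -, -, -, -, -, pb, hwaff⟩ :=
      exists_tower D hDa c hc i g
    haveI := hZ
    haveI := hwaff
    exact ⟨cE.pt, w, fst, pb, isAffine_of_isAffineHom w.left⟩
  refine ⟨?_, haff⟩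
  obtain ⟨i₀⟩ := IsCofiltered.nonempty (C := I)
  have hrep : (yon S).relativelyRepresentable (c.π.app i₀) :=
    (repWith_isAffineHom_of_isAffineMor _ (haff i₀)).rep
  refine isAlgSpace_of_repBySp (c.π.app i₀) ((repBySp_hom_iff _).2 ?_) (hD i₀)
  intro U ξ F' fst snd sq
  exact (IsAlgSpace.yon_obj (hrep.pullback ξ)).of_iso
    ((hrep.isPullback ξ).isoIsPullback _ _ sq)

end Groth.Agent.Lib.LimTowerH7
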