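import Groth.Agent.Lib.WeakAssEt2_helper7
import Groth.Agent.Lib.LimTower1_helper7
import Groth.Prelude.Def_AlgSpOX2

/-!
# Weakly associated points on the small étale site of an algebraic space, part 3 (helper7)
Direct images along affine morphisms.
APPEND-ONLY once landed.
-/

set_option backward.isDefEq.respectTransparency false
set_option backward.isDefEq.respectTransparency.types false
set_option linter.style.haveILetI false
set_option linter.unusedSectionVars false
set_option linter.unusedVariables false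
set_option autoImplicit false
set_option maxHeartbeats 1600000
universe u
open CategoryTheory CategoryTheory.Limits AlgebraicGeometry Opposite

namespace Groth.Agent.Lib.WeakAssEtH7

open AlgSp Groth.Agent.Lib.AlgSpPoints_helper7 Groth.Agent.Lib.AlgSpPullback_helper7
  Groth.Agent.Lib.IdealEtBH7 Groth.Agent.Lib.EtLocRinged_helper7
  Groth.Agent.Lib.EtStalkPt_helper7

section Affine

theorem mem_primeAtPt_iff (U : Scheme.{u}) (u : U) (a : Γ(U, ⊤)) :
    a ∈ primeAtPt U u ↔ u ∉ U.basicOpen a := by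
  rw [Scheme.mem_basicOpen_top]
  show (U.presheaf.germ ⊤ u trivial).hom a ∈ IsLocalRing.maximalIdeal (U.presheaf.stalk u) ↔ _
  rw [IsLocalRing.mem_maximalIdeal, mem_nonunits_iff]

theorem primeAtPt_comap {W V : Scheme.{u}} (g : W ⟶ V) (w : W) :
    Ideal.comap g.appTop.hom (primeAtPt W w) = primeAtPt V (g w) := by
  ext a
  rw [Ideal.mem_comap, mem_primeAtPt_iff, mem_primeAtPt_iff, ← Scheme.preimage_basicOpen_top]
  rfl

theorem primeAtPt_injective (U : Scheme.{u}) [IsAffine U] {u₁ u₂ : U}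
    (h : primeAtPt U u₁ = primeAtPt U u₂) : u₁ = u₂ := by
  rw [primeAtPt_eq_primeIdealOf, primeAtPt_eq_primeIdealOf] at h
  have h' : (isAffineOpen_top U).primeIdealOf ⟨u₁, trivial⟩ =
      (isAffineOpen_top U).primeIdealOf ⟨u₂, trivial⟩ := PrimeSpectrum.ext h
  have e1 := (isAffineOpen_top U).fromSpec_primeIdealOf ⟨u₁, trivial⟩
  have e2 := (isAffineOpen_top U).fromSpec_primeIdealOf ⟨u₂, trivial⟩
  rw [h'] at e1
  exact e1.symm.trans e2

end Affine

variable {S : Scheme.{u}}

/-- S10818 -/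
theorem main10818 (X Y : AlgSp.Space S) (f : X ⟶ Y) (hf : AlgSp.Representable f.hom)
    (haff : AlgSp.IsAffineMor f.hom) (M : AlgSp.ModEt X.obj) :
    AlgSp.WeakAssEt ((AlgSp.pushModEt hf).obj M) ⊆
      AlgSp.Points.map f.hom '' AlgSp.WeakAssEt M := by
  rintro y ⟨E, hE, v, hv, s, hs⟩
  haveI := hE
  have haffH : RepWith @IsAffineHom f.hom :=
    Groth.Agent.Lib.LimTowerH7.repWith_isAffineHom_of_isAffineMor f.hom haff
  haveI hah : IsAffineHom (hf.snd E.obj.hom).left :=
    haffH.2 E.obj.hom (hf.fst E.obj.hom) (hf.snd E.obj.hom) (hf.isPullback E.obj.hom)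
  have hE' : IsAffine ((EtOver.bc hf).obj E).obj.left.left :=
    isAffine_of_isAffineHom (hf.snd E.obj.hom).left
  obtain ⟨s', hs'⟩ : ∃ s' : sectModEt M ((EtOver.bc hf).obj E), s' = s := ⟨s, rfl⟩
  have hann : annSect s = Ideal.comap (hf.snd E.obj.hom).left.appTop.hom (annSect s') := by
    subst hs'
    ext b
    exact Iff.rfl
  rw [hann] at hs
  obtain ⟨q, hq, hqp⟩ := Ideal.exists_minimalPrimes_comap_eq _ _ hs
  haveI := hq.1.1
  haveI := hE'
  obtain ⟨u', hu'⟩ := exists_primeAtPt_eq ((EtOver.bc hf).obj E).obj.left.left q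
  refine ⟨Points.ofPt ((EtOver.bc hf).obj E).obj.hom u',
    ⟨(EtOver.bc hf).obj E, hE', u', rfl, s', by rw [hu']; exact hq⟩, ?_⟩
  rw [Points.map_ofPt]
  show Points.ofPt (hf.fst E.obj.hom ≫ f.hom) u' = y
  rw [(hf.isPullback E.obj.hom).w, ofPt_comp, ← hv]
  congr 1
  apply primeAtPt_injective E.obj.left.left
  have h1 := primeAtPt_comap (hf.snd E.obj.hom).left u'
  have h2 : primeAtPt (hf.pullback E.obj.hom).left u' = q := hu'
  rw [← h1, h2]
  exact hqp

end Groth.Agent.Lib.WeakAssEtH7
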