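import Mathlib
import Groth.Agent.Lib.QCEt2_helper7
import Groth.Agent.Lib.QCEt4_helper7
import Groth.Agent.Lib.WeakAssEt3_helper7
import Groth.Agent.Lib.EtPostcomp_helper7

/-!
# The small étale site of an algebraic space: rings of functions, sections, covers (helper7)
-/

set_option backward.isDefEq.respectTransparency false
set_option backward.isDefEq.respectTransparency.types false
set_option linter.style.haveILetI false
set_option linter.unusedSectionVars false
set_option linter.unusedVariables false
set_option autoImplicit false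
set_option maxHeartbeats 1600000
set_option maxSynthPendingDepth 3

universe u

open CategoryTheory Limits Opposite AlgebraicGeometry AlgSp TensorProduct

namespace Groth.Agent.Lib.QCEtH7

open Groth.Agent.Lib.WeakAssEtH7 Groth.Agent.Lib.IdealEtBH7 Groth.Agent.Lib.EtPostcomp_helper7
  Groth.Agent.Lib.EtStalkPt_helper7

variable {S : Scheme.{u}} {X : Sp S}

/-- the ring of functions on an object of the site, lifted one universe -/
abbrev Rg (E : EtOver X) : Type (u + 1) := ULift.{u + 1} Γ(E.obj.left.left, ⊤)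

/-- restriction of functions -/
noncomputable def resRing {E' E : EtOver X} (g : E' ⟶ E) : Rg E →+* Rg E' :=
  ((OEtRing X).obj.map g.op).hom

theorem resRing_down {E' E : EtOver X} (g : E' ⟶ E) (x : Rg E) :
    (resRing g x).down = g.hom.left.left.appTop.hom x.down := rfl

theorem resRing_comp {E'' E' E : EtOver X} (g : E'' ⟶ E') (h : E' ⟶ E) :
    resRing (g ≫ h) = (resRing g).comp (resRing h) := by
  apply RingHom.ext
  intro x
  apply ULift.ext
  rw [RingHom.comp_apply, resRing_down, resRing_down, resRing_down]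
  show (g.hom.left.left ≫ h.hom.left.left).appTop.hom x.down = _
  rw [Scheme.Hom.comp_appTop]
  rfl

theorem resRing_comp_apply {E'' E' E : EtOver X} (g : E'' ⟶ E') (h : E' ⟶ E) (x : Rg E) :
    resRing (g ≫ h) x = resRing g (resRing h x) := by
  rw [resRing_comp]
  rfl

/-- sections of a module over an object -/
abbrev Sec (M : ModEt X) (E : EtOver X) : Type (u + 1) := M.val.obj (op E)

noncomputable instance secModule (M : ModEt X) (E : EtOver X) : Module (Rg E) (Sec M E) :=
  (M.val.obj (op E)).isModule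

/-- restriction of sections -/
noncomputable def resAdd (M : ModEt X) {E' E : EtOver X} (g : E' ⟶ E) : Sec M E →+ Sec M E' :=
  AddMonoidHom.mk' (fun n => M.val.map g.op n) (fun a b => map_add _ a b)

theorem resAdd_apply (M : ModEt X) {E' E : EtOver X} (g : E' ⟶ E) (n : Sec M E) :
    resAdd M g n = M.val.map g.op n := rfl

theorem resAdd_semi (M : ModEt X) {E' E : EtOver X} (g : E' ⟶ E) :
    IsSemi (resRing g) (resAdd M g) := by
  intro a n
  exact PresheafOfModules.map_smul M.val g.op a n

theorem resAdd_comp (M : ModEt X) {E'' E' E : EtOver X} (g : E'' ⟶ E') (h : E' ⟶ E)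
    (n : Sec M E) : resAdd M (g ≫ h) n = resAdd M g (resAdd M h n) := by
  rw [resAdd_apply, resAdd_apply, resAdd_apply, op_comp, PresheafOfModules.map_comp_apply]

/-- base change property of the sections of `M` along `g` -/
def BC (M : ModEt X) {E' E : EtOver X} (g : E' ⟶ E) : Prop :=
  IsBCAlong (resRing g) (resAdd M g)

section Flat

theorem flat_appTop {E' E : EtOver X} (g : E' ⟶ E) [IsAffine E'.obj.left.left]
    [IsAffine E.obj.left.left] : g.hom.left.left.appTop.hom.Flat := by
  haveI : Etale g.hom.left.left := EtOver.etale_left g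
  haveI : Flat g.hom.left.left := inferInstance
  exact (HasRingHomProperty.iff_of_isAffine (P := @Flat)).1 inferInstance

theorem flat_resRing {E' E : EtOver X} (g : E' ⟶ E) [IsAffine E'.obj.left.left]
    [IsAffine E.obj.left.left] : (resRing g).Flat := by
  have h := flat_appTop g
  have h1 : resRing g = ((ULift.ringEquiv.{u, u + 1}
      (R := Γ(E'.obj.left.left, ⊤))).symm.toRingHom.comp g.hom.left.left.appTop.hom).comp
      (ULift.ringEquiv.{u, u + 1} (R := Γ(E.obj.left.left, ⊤))).toRingHom := by
    apply RingHom.ext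
    intro x
    rfl
  rw [h1]
  apply RingHom.Flat.comp
  · exact RingHom.Flat.of_bijective (ULift.ringEquiv).bijective
  · apply RingHom.Flat.comp h
    exact RingHom.Flat.of_bijective (ULift.ringEquiv).symm.bijective

end Flat

section Primes

/-- the prime ideal of `Rg E` of functions vanishing at a point -/
noncomputable def primeUp (E : EtOver X) (e : E.obj.left.left) : Ideal (Rg E) :=
  (primeAtPt E.obj.left.left e).comap (ULift.ringEquiv.{u, u + 1}).toRingHom

instance primeUp_isPrime (E : EtOver X) (e : E.obj.left.left) : (primeUp E e).IsPrime := by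
  unfold primeUp
  infer_instance

theorem mem_primeUp_iff (E : EtOver X) (e : E.obj.left.left) (a : Rg E) :
    a ∈ primeUp E e ↔ a.down ∈ primeAtPt E.obj.left.left e := Iff.rfl

theorem primeUp_comap {E' E : EtOver X} (g : E' ⟶ E) (e' : E'.obj.left.left) :
    (primeUp E' e').comap (resRing g) = primeUp E (g.hom.left.left e') := by
  ext a
  rw [Ideal.mem_comap, mem_primeUp_iff, mem_primeUp_iff, resRing_down,
    ← primeAtPt_comap g.hom.left.left e']
  exact Iff.rfl

theorem exists_primeUp_eq (E : EtOver X) [IsAffine E.obj.left.left] (p : Ideal (Rg E))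
    [hp : p.IsPrime] : ∃ e : E.obj.left.left, primeUp E e = p := by
  obtain ⟨q, hq⟩ : ∃ q : Ideal Γ(E.obj.left.left, ⊤),
      q = p.comap (ULift.ringEquiv.{u, u + 1}).symm.toRingHom := ⟨_, rfl⟩
  haveI : q.IsPrime := by
    rw [hq]
    infer_instance
  obtain ⟨e, he⟩ := exists_primeAtPt_eq E.obj.left.left q
  refine ⟨e, ?_⟩
  ext a
  rw [mem_primeUp_iff, he, hq, Ideal.mem_comap]
  exact Iff.rfl

/-- a jointly surjective family of morphisms to an affine object is jointly surjective on
spectra -/
theorem jointSurj_of_cover {E : EtOver X} [IsAffine E.obj.left.left] {K : Type*}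
    (W : K → EtOver X) (g : ∀ k, W k ⟶ E)
    (hcov : ∀ x : E.obj.left.left, ∃ k, x ∈ Set.range (g k).hom.left.left) :
    @JointSurj (Rg E) _ K (fun k => Rg (W k)) _ (fun k => (resRing (g k)).toAlgebra) := by
  intro p hp
  obtain ⟨e, he⟩ := exists_primeUp_eq E p
  obtain ⟨k, w, hw⟩ := hcov e
  refine ⟨k, primeUp (W k) w, inferInstance, ?_⟩
  show (primeUp (W k) w).comap (resRing (g k)) = p
  rw [primeUp_comap, hw, he]

end Primes

section Pullback

variable {E₁ E₂ E₀ : EtOver X} (g₁ : E₁ ⟶ E₀) (g₂ : E₂ ⟶ E₀)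

theorem isPullback_scheme :
    IsPullback (EtOver.pullbackFst g₁ g₂).hom.left.left (EtOver.pullbackSnd g₁ g₂).hom.left.left
      g₁.hom.left.left g₂.hom.left.left :=
  (IsPullback.of_hasPullback g₁.hom.left g₂.hom.left).map (Over.forget S)

theorem isAffine_pullbackObj [IsAffine E₁.obj.left.left] [IsAffine E₂.obj.left.left]
    [IsAffine E₀.obj.left.left] : IsAffine (EtOver.pullbackObj g₁ g₂).obj.left.left := by
  haveI : IsAffineHom g₂.hom.left.left := inferInstance
  exact IsAffine.of_isPullback (isPullback_scheme g₁ g₂)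

/-- functions on a fibre product of affine objects form a pushout -/
theorem isPO_pullback [IsAffine E₁.obj.left.left] [IsAffine E₂.obj.left.left]
    [IsAffine E₀.obj.left.left] :
    IsPO (resRing g₁) (resRing g₂) (resRing (EtOver.pullbackFst g₁ g₂))
      (resRing (EtOver.pullbackSnd g₁ g₂)) := by
  have hpo := isPushout_appTop_of_isPullback (isPullback_scheme g₁ g₂)
  letI a01 : Algebra Γ(E₀.obj.left.left, ⊤) Γ(E₁.obj.left.left, ⊤) :=
    g₁.hom.left.left.appTop.hom.toAlgebra
  letI a02 : Algebra Γ(E₀.obj.left.left, ⊤) Γ(E₂.obj.left.left, ⊤) :=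
    g₂.hom.left.left.appTop.hom.toAlgebra
  letI a1P : Algebra Γ(E₁.obj.left.left, ⊤) Γ((EtOver.pullbackObj g₁ g₂).obj.left.left, ⊤) :=
    (EtOver.pullbackFst g₁ g₂).hom.left.left.appTop.hom.toAlgebra
  letI a2P : Algebra Γ(E₂.obj.left.left, ⊤) Γ((EtOver.pullbackObj g₁ g₂).obj.left.left, ⊤) :=
    (EtOver.pullbackSnd g₁ g₂).hom.left.left.appTop.hom.toAlgebra
  letI a0P : Algebra Γ(E₀.obj.left.left, ⊤) Γ((EtOver.pullbackObj g₁ g₂).obj.left.left, ⊤) :=
    ((EtOver.pullbackFst g₁ g₂).hom.left.left.appTop.hom.comp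
      g₁.hom.left.left.appTop.hom).toAlgebra
  haveI t1 : IsScalarTower Γ(E₀.obj.left.left, ⊤) Γ(E₁.obj.left.left, ⊤)
      Γ((EtOver.pullbackObj g₁ g₂).obj.left.left, ⊤) :=
    IsScalarTower.of_algebraMap_eq (fun x => rfl)
  haveI t2 : IsScalarTower Γ(E₀.obj.left.left, ⊤) Γ(E₂.obj.left.left, ⊤)
      Γ((EtOver.pullbackObj g₁ g₂).obj.left.left, ⊤) :=
    IsScalarTower.of_algebraMap_eq (fun x => by
      have h := congrArg (fun k => k.hom x) hpo.w
      exact h)
  haveI hpush : Algebra.IsPushout Γ(E₀.obj.left.left, ⊤) Γ(E₁.obj.left.left, ⊤)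
      Γ(E₂.obj.left.left, ⊤) Γ((EtOver.pullbackObj g₁ g₂).obj.left.left, ⊤) :=
    CommRingCat.isPushout_iff_isPushout.1 hpo
  exact isPO_ulift.{u, u + 1} (resRing g₁) (fun x => rfl) (resRing g₂) (fun x => rfl)
    (resRing (EtOver.pullbackFst g₁ g₂)) (fun x => rfl)
    (resRing (EtOver.pullbackSnd g₁ g₂)) (fun x => rfl)

end Pullback

end Groth.Agent.Lib.QCEtH7
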