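import Mathlib
import Groth.Agent.Lib.QCEt5_helper7

/-!
# Finite affine refinements of coverings, separatedness and gluing of sections (helper7)
-/

set_option backward.isDefEq.respectTransparency false
set_option backward.isDefEq.respectTransparency.types false
set_option linter.style.haveILetI false
set_option linter.unusedSectionVars false
set_option linter.unusedVariables false
set_option autoImplicit false
set_option maxHeartbeats 1600000
set_option maxSynthPendingDepth 3

universe u

open CategoryTheory Limits Opposite AlgebraicGeometry AlgSp TensorProduct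

namespace Groth.Agent.Lib.QCEtH7

open Groth.Agent.Lib.WeakAssEtH7 Groth.Agent.Lib.IdealEtBH7 Groth.Agent.Lib.EtPostcomp_helper7
  Groth.Agent.Lib.EtStalkPt_helper7

variable {S : Scheme.{u}} {X : Sp S}

section Refine

/-- an affine open piece of an object of the site, around a given point -/
theorem exists_affine_piece (E' : EtOver X) (y : E'.obj.left.left) :
    ∃ (W : EtOver X) (ι : W ⟶ E'), IsAffine W.obj.left.left ∧
      y ∈ Set.range ι.hom.left.left := by
  obtain ⟨i, z, hz⟩ := E'.obj.left.left.affineCover.exists_eq y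
  obtain ⟨V, hV⟩ : ∃ V : E'.obj.left.left.Opens,
      V = (E'.obj.left.left.affineCover.f i).opensRange := ⟨_, rfl⟩
  have hVaff : IsAffineOpen V := by
    rw [hV]
    exact isAffineOpen_opensRange (E'.obj.left.left.affineCover.f i)
  have hyV : y ∈ V := by
    rw [hV, ← hz]
    exact ⟨z, rfl⟩
  refine ⟨chartOpen E'.obj.hom E'.property V, EtOver.homMk (openι E'.obj.left V) rfl, hVaff, ?_⟩
  show y ∈ Set.range V.ι
  rw [Scheme.Opens.range_ι]
  exact hyV

/-- every covering sieve of an affine object contains a finite jointly surjective family of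
affine objects -/
theorem exists_finite_affine_refinement (hX : IsAlgSpace X) {E : EtOver X}
    [IsAffine E.obj.left.left] (T : Sieve E) (hT : T ∈ etTop X E) :
    ∃ (n : ℕ) (W : Fin n → EtOver X) (g : ∀ k, W k ⟶ E),
      (∀ k, IsAffine (W k).obj.left.left) ∧ (∀ k, T.arrows (g k)) ∧
      ∀ x : E.obj.left.left, ∃ k, x ∈ Set.range (g k).hom.left.left := by
  have h := (mem_etTop_iff hX T).1 hT
  choose E' f hf hx using h
  choose y hy using hx
  choose W ι hW hι using fun x => exists_affine_piece (E' x) (y x)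
  choose z hz using hι
  obtain ⟨O, hO⟩ : ∃ O : E.obj.left.left → Set E.obj.left.left,
      O = fun x => Set.range (ι x ≫ f x).hom.left.left := ⟨_, rfl⟩
  have hOopen : ∀ x, IsOpen (O x) := by
    intro x
    rw [hO]
    haveI : Etale (ι x ≫ f x).hom.left.left := EtOver.etale_left _
    exact (ι x ≫ f x).hom.left.left.isOpenMap.isOpen_range
  have hmem : ∀ x, x ∈ O x := by
    intro x
    rw [hO]
    refine ⟨z x, ?_⟩
    show (f x).hom.left.left ((ι x).hom.left.left (z x)) = x
    rw [hz x, hy x]
  haveI : CompactSpace E.obj.left.left := inferInstance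
  obtain ⟨t, ht⟩ := isCompact_univ.elim_finite_subcover O hOopen
    (fun x _ => Set.mem_iUnion.2 ⟨x, hmem x⟩)
  refine ⟨t.card, fun k => W (t.equivFin.symm k).1, fun k => ι _ ≫ f _, fun k => hW _,
    fun k => T.downward_closed (hf _) _, ?_⟩
  intro x
  have hx := ht (Set.mem_univ x)
  rw [Set.mem_iUnion₂] at hx
  obtain ⟨x0, hx0, hxO⟩ := hx
  refine ⟨t.equivFin ⟨x0, hx0⟩, ?_⟩
  rw [hO] at hxO
  have h1 : (t.equivFin.symm (t.equivFin ⟨x0, hx0⟩)) = ⟨x0, hx0⟩ := Equiv.symm_apply_apply _ _
  show x ∈ Set.range (ι (t.equivFin.symm (t.equivFin ⟨x0, hx0⟩)).1 ≫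
    f (t.equivFin.symm (t.equivFin ⟨x0, hx0⟩)).1).hom.left.left
  rw [h1]
  exact hxO

end Refine

section Glue

variable (M : ModEt X)

theorem resAdd_injective_of_cover {E : EtOver X} {K : Type*} (W : K → EtOver X)
    (g : ∀ k, W k ⟶ E) (hcov : ∀ x : E.obj.left.left, ∃ k, x ∈ Set.range (g k).hom.left.left)
    (n n' : Sec M E) (h : ∀ k, resAdd M (g k) n = resAdd M (g k) n') : n = n' := by
  rw [← sub_eq_zero]
  apply sect_eq_zero_of_cover
  intro x
  obtain ⟨k, hk⟩ := hcov x
  refine ⟨W k, g k, hk, ?_⟩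
  have h1 := h k
  rw [resAdd_apply, resAdd_apply] at h1
  rw [map_sub, h1, sub_self]

/-- gluing of sections along a jointly surjective family -/
theorem exists_glue {E : EtOver X} {K : Type*} (W : K → EtOver X)
    (g : ∀ k, W k ⟶ E) (hcov : ∀ x : E.obj.left.left, ∃ k, x ∈ Set.range (g k).hom.left.left)
    (n : ∀ k, Sec M (W k))
    (hcompat : ∀ k l, resAdd M (EtOver.pullbackFst (g k) (g l)) (n k) =
      resAdd M (EtOver.pullbackSnd (g k) (g l)) (n l)) :
    ∃ n0 : Sec M E, ∀ k, resAdd M (g k) n0 = n k := by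
  have hsh := isSheaf_type_of_sheafOfModules (J := etTop X) (R := OEtRing X) M
  have hmem : Sieve.ofArrows W g ∈ etTop X E := ofArrows_mem_etTop W g hcov
  have h1 : Presieve.IsSheafFor (M.val.presheaf ⋙ forget AddCommGrpCat.{u + 1})
      (Presieve.ofArrows W g) := by
    rw [Presieve.isSheafFor_iff_generate]
    exact hsh _ hmem
  rw [Presieve.isSheafFor_arrows_iff] at h1
  have hc : Presieve.Arrows.Compatible (M.val.presheaf ⋙ forget AddCommGrpCat.{u + 1}) g n := by
    intro k l Z gk gl hkl
    obtain ⟨l0, hl1, hl2⟩ : ∃ l0 : Z ⟶ EtOver.pullbackObj (g k) (g l),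
        l0 ≫ EtOver.pullbackFst (g k) (g l) = gk ∧ l0 ≫ EtOver.pullbackSnd (g k) (g l) = gl :=
      ⟨(EtOver.pullbackIsLimit (g k) (g l)).lift (PullbackCone.mk gk gl hkl),
        (EtOver.pullbackIsLimit (g k) (g l)).fac _ WalkingCospan.left,
        (EtOver.pullbackIsLimit (g k) (g l)).fac _ WalkingCospan.right⟩
    show resAdd M gk (n k) = resAdd M gl (n l)
    rw [← hl1, ← hl2, resAdd_comp, resAdd_comp, hcompat k l]
  obtain ⟨n0, hn0, _⟩ := h1 n hc
  exact ⟨n0, hn0⟩

end Glue

end Groth.Agent.Lib.QCEtH7
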