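import Mathlib
import Groth.Agent.Lib.QCEt6_helper7

/-!
# Sections of a module with a global presentation over affine objects, part 1 (helper7)
-/

set_option backward.isDefEq.respectTransparency false
set_option backward.isDefEq.respectTransparency.types false
set_option linter.style.haveILetI false
set_option linter.unusedSectionVars false
set_option linter.unusedVariables false
set_option autoImplicit false
set_option maxHeartbeats 1600000
set_option maxSynthPendingDepth 3

universe u v

open CategoryTheory Limits Opposite AlgebraicGeometry AlgSp TensorProduct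

namespace Groth.Agent.Lib.QCEtH7

open Groth.Agent.Lib.WeakAssEtH7 Groth.Agent.Lib.IdealEtBH7 Groth.Agent.Lib.EtPostcomp_helper7
  Groth.Agent.Lib.EtStalkPt_helper7

section Generic

variable {C : Type (v + 1)} [Category.{v} C] {J : GrothendieckTopology C}
  {R : Sheaf J RingCat.{v + 1}}
  [HasSheafify J AddCommGrpCat.{v + 1}] [J.WEqualsLocallyBijective AddCommGrpCat.{v + 1}]

theorem lcOf_eq_zero_of_mem_relSpan (N : SheafOfModules.{v + 1} R) {I K : Type (v + 1)}
    (s : I → N.sections) (r : K → (kernel (N.freeHomEquiv.symm s)).sections) (U : Cᵒᵖ)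
    (x : I →₀ R.obj.obj U) (hx : x ∈ relSpan (relSec N s r) U) : lcOf N s U x = 0 := by
  rw [← freeHom_lcOf]
  rw [mem_relSpan_iff] at hx
  have key : ∀ y ∈ genSpan (SheafOfModules.free (R := R) I) (relSec N s r) U,
      ((N.freeHomEquiv.symm s).val.app U).hom y = 0 := by
    intro y hy
    unfold genSpan at hy
    induction hy using Submodule.span_induction with
    | mem y hy =>
      obtain ⟨k, rfl⟩ := hy
      have h := kernel.condition (N.freeHomEquiv.symm s)
      have h2 := congrArg (fun φ : kernel (N.freeHomEquiv.symm s) ⟶ N =>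
        (φ.val.app U).hom ((r k).val U)) h
      exact h2
    | zero => exact map_zero _
    | add a b _ _ ha hb => rw [map_add, ha, hb, add_zero]
    | smul c a _ ha => rw [map_smul, ha, smul_zero]
  exact key _ hx

/-- separatedness of a sheaf of modules -/
theorem eq_zero_of_sieve (N : SheafOfModules.{v + 1} R) (U : C) (n : N.val.obj (op U))
    (T : Sieve U) (hT : T ∈ J U)
    (h : ∀ (V : C) (f : V ⟶ U), T.arrows f → N.val.map f.op n = 0) : n = 0 := by
  have hsh := isSheaf_type_of_sheafOfModules N
  have hsep := (hsh T hT).isSeparatedFor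
  apply hsep (fun V f hf => (0 : N.val.obj (op V))) n 0
  · intro V f hf
    exact h V f hf
  · intro V f hf
    show N.val.map f.op 0 = 0
    exact map_zero _

end Generic

section Site

variable {S : Scheme.{u}} {X : Sp S} (M : ModEt X) (Y : EtOver X) (P : (M.over Y).Presentation)

/-- the morphism of `Over Y` induced by a morphism of the site -/
abbrev ovHom {E' E : EtOver X} (g : E' ⟶ E) (a : E ⟶ Y) : Over.mk (g ≫ a) ⟶ Over.mk a :=
  Over.homMk g rfl

/-- the generators over an object of the site lying over `Y` -/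
noncomputable def gen {E : EtOver X} (a : E ⟶ Y) (i : P.generators.I) : Sec M E :=
  (P.generators.s i).val (op (Over.mk a))

/-- linear combinations of the generators -/
noncomputable def lcE {E : EtOver X} (a : E ⟶ Y) :
    (P.generators.I →₀ Rg E) →ₗ[Rg E] Sec M E :=
  lcOf (M.over Y) P.generators.s (op (Over.mk a))

theorem lcE_eq {E : EtOver X} (a : E ⟶ Y) (x : P.generators.I →₀ Rg E) :
    lcE M Y P a x = Finsupp.linearCombination (Rg E) (gen M Y P a) x := rfl

/-- the relation submodule -/
noncomputable def relE {E : EtOver X} (a : E ⟶ Y) :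
    Submodule (Rg E) (P.generators.I →₀ Rg E) :=
  relSpan (relSec (M.over Y) P.generators.s P.relations.s) (op (Over.mk a))

theorem mapCoef_eq_mapH {E' E : EtOver X} (g : E' ⟶ E) (a : E ⟶ Y)
    (x : P.generators.I →₀ Rg E) :
    mapCoef (R := (OEtRing X).over Y) (ovHom Y g a).op x = mapH (resRing g) x := rfl

theorem gen_res {E' E : EtOver X} (g : E' ⟶ E) (a : E ⟶ Y) (i : P.generators.I) :
    resAdd M g (gen M Y P a i) = gen M Y P (g ≫ a) i :=
  PresheafOfModules.sections_property (P.generators.s i) (ovHom Y g a).op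

theorem lcE_mapH {E' E : EtOver X} (g : E' ⟶ E) (a : E ⟶ Y) (x : P.generators.I →₀ Rg E) :
    resAdd M g (lcE M Y P a x) = lcE M Y P (g ≫ a) (mapH (resRing g) x) :=
  map_lcOf (M.over Y) P.generators.s (ovHom Y g a).op x

theorem relE_mapH {E' E : EtOver X} (g : E' ⟶ E) (a : E ⟶ Y) (x : P.generators.I →₀ Rg E)
    (hx : x ∈ relE M Y P a) : mapH (resRing g) x ∈ relE M Y P (g ≫ a) :=
  mapCoef_mem_relSpan (relSec (M.over Y) P.generators.s P.relations.s) (ovHom Y g a).op x hx

theorem lcE_eq_zero_of_mem_relE {E : EtOver X} (a : E ⟶ Y) (x : P.generators.I →₀ Rg E)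
    (hx : x ∈ relE M Y P a) : lcE M Y P a x = 0 :=
  lcOf_eq_zero_of_mem_relSpan (M.over Y) P.generators.s P.relations.s (op (Over.mk a)) x hx

theorem lcE_congr {E : EtOver X} {a a' : E ⟶ Y} (h : a = a') (x : P.generators.I →₀ Rg E) :
    lcE M Y P a x = lcE M Y P a' x := by
  subst h
  rfl

theorem relE_congr {E : EtOver X} {a a' : E ⟶ Y} (h : a = a') :
    relE M Y P a = relE M Y P a' := by
  subst h
  rfl

/-- transfer of covering sieves of the over-site to finite affine families -/
theorem exists_refinement_over (hX : IsAlgSpace X) {E : EtOver X} [IsAffine E.obj.left.left]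
    (a : E ⟶ Y) (T : Sieve (Over.mk a)) (hT : T ∈ ((etTop X).over Y) (Over.mk a)) :
    ∃ (n : ℕ) (W : Fin n → EtOver X) (g : ∀ k, W k ⟶ E),
      (∀ k, IsAffine (W k).obj.left.left) ∧ (∀ k, T.arrows (ovHom Y (g k) a)) ∧
      ∀ x : E.obj.left.left, ∃ k, x ∈ Set.range (g k).hom.left.left := by
  have h1 : Sieve.overEquiv (Over.mk a) T ∈ etTop X E :=
    (GrothendieckTopology.mem_over_iff (etTop X) T).1 hT
  obtain ⟨n, W, g, hW, hg, hcov⟩ := exists_finite_affine_refinement hX _ h1
  refine ⟨n, W, g, hW, fun k => ?_, hcov⟩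
  exact (Sieve.overEquiv_iff T (g k)).1 (hg k)

end Site

end Groth.Agent.Lib.QCEtH7
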