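import Mathlib
import Groth.Agent.Lib.QCEt7_helper7

/-!
# Sections of a module with a global presentation over affine objects, part 2 (helper7)
-/

set_option backward.isDefEq.respectTransparency false
set_option backward.isDefEq.respectTransparency.types false
set_option linter.style.haveILetI false
set_option linter.unusedSectionVars false
set_option linter.unusedVariables false
set_option autoImplicit false
set_option maxHeartbeats 1600000
set_option maxSynthPendingDepth 3

universe u v

open CategoryTheory Limits Opposite AlgebraicGeometry AlgSp TensorProduct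

namespace Groth.Agent.Lib.QCEtH7

open Groth.Agent.Lib.WeakAssEtH7 Groth.Agent.Lib.IdealEtBH7 Groth.Agent.Lib.EtPostcomp_helper7
  Groth.Agent.Lib.EtStalkPt_helper7

variable {S : Scheme.{u}} {X : Sp S} (M : ModEt X) (Y : EtOver X) (P : (M.over Y).Presentation)

/-- separatedness on the over-site, for a jointly surjective family -/
theorem eq_zero_of_cover_over {E : EtOver X} (a : E ⟶ Y)
    (N : SheafOfModules.{u + 1} ((OEtRing X).over Y)) (n : N.val.obj (op (Over.mk a)))
    {K : Type*} (W : K → EtOver X) (g : ∀ k, W k ⟶ E)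
    (hcov : ∀ x : E.obj.left.left, ∃ k, x ∈ Set.range (g k).hom.left.left)
    (h : ∀ k, N.val.map (ovHom Y (g k) a).op n = 0) : n = 0 := by
  obtain ⟨T, hT⟩ : ∃ T : Sieve (Over.mk a), T =
      { arrows := fun V f => N.val.map f.op n = 0
        downward_closed := by
          intro V V' f hf k
          show N.val.map (k ≫ f).op n = 0
          rw [op_comp, PresheafOfModules.map_comp_apply, hf, map_zero] } := ⟨_, rfl⟩
  have hTmem : T ∈ ((etTop X).over Y) (Over.mk a) := by
    rw [GrothendieckTopology.mem_over_iff]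
    apply sieve_mem_of_forall_exists
    intro x
    obtain ⟨k, hk⟩ := hcov x
    refine ⟨W k, g k, ?_, hk⟩
    rw [Sieve.overEquiv_iff, hT]
    exact h k
  apply eq_zero_of_sieve N (Over.mk a) n T hTmem
  intro V f hf
  rw [hT] at hf
  exact hf

/-- every section is locally a combination of the generators -/
theorem exists_local_lc (hX : IsAlgSpace X) {E : EtOver X} [IsAffine E.obj.left.left]
    (a : E ⟶ Y) (n : Sec M E) :
    ∃ (m : ℕ) (W : Fin m → EtOver X) (g : ∀ k, W k ⟶ E),
      (∀ k, IsAffine (W k).obj.left.left) ∧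
      (∀ x : E.obj.left.left, ∃ k, x ∈ Set.range (g k).hom.left.left) ∧
      ∀ k, ∃ x : P.generators.I →₀ Rg (W k), lcE M Y P (g k ≫ a) x = resAdd M (g k) n := by
  have hmem := genSieve_mem (M.over Y) P.generators.s (Over.mk a) n
  obtain ⟨m, W, g, hW, hg, hcov⟩ := exists_refinement_over Y hX a _ hmem
  refine ⟨m, W, g, hW, hcov, fun k => ?_⟩
  have h1 := hg k
  rw [genSieve_apply, mem_genSpan_iff] at h1
  obtain ⟨x, hx⟩ := h1
  exact ⟨x, hx⟩

/-- every coefficient vector killed by the generators is locally a relation -/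
theorem exists_local_rel (hX : IsAlgSpace X) {E : EtOver X} [IsAffine E.obj.left.left]
    (a : E ⟶ Y) (x : P.generators.I →₀ Rg E) (hx : lcE M Y P a x = 0) :
    ∃ (m : ℕ) (W : Fin m → EtOver X) (g : ∀ k, W k ⟶ E),
      (∀ k, IsAffine (W k).obj.left.left) ∧
      (∀ x : E.obj.left.left, ∃ k, x ∈ Set.range (g k).hom.left.left) ∧
      ∀ k, mapH (resRing (g k)) x ∈ relE M Y P (g k ≫ a) := by
  have hmem := relSieve_mem (M.over Y) P.generators.s P.relations.s (Over.mk a) x hx
  obtain ⟨m, W, g, hW, hg, hcov⟩ := exists_refinement_over Y hX a _ hmem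
  refine ⟨m, W, g, hW, hcov, fun k => ?_⟩
  have h1 := hg k
  rw [relSieve_apply] at h1
  exact h1

/-- over an affine object, sections of a free module are finite combinations of the basis -/
theorem freeE_surjective (hX : IsAlgSpace X) {I : Type (u + 1)} {E : EtOver X}
    [IsAffine E.obj.left.left] (a : E ⟶ Y)
    (t : (SheafOfModules.free (R := (OEtRing X).over Y) I).val.obj (op (Over.mk a))) :
    ∃ x : I →₀ Rg E, lcOf (SheafOfModules.free (R := (OEtRing X).over Y) I)
      SheafOfModules.freeSection (op (Over.mk a)) x = t := by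
  classical
  have hmem := free_genSieve_mem (R := (OEtRing X).over Y) (I := I) (Over.mk a) t
  obtain ⟨m, W, g, hW, hg, hcov⟩ := exists_refinement_over Y hX a _ hmem
  have hg' : ∀ k, ∃ xc : I →₀ Rg (W k),
      lcOf (SheafOfModules.free (R := (OEtRing X).over Y) I) SheafOfModules.freeSection
        (op (Over.mk (g k ≫ a))) xc =
      (SheafOfModules.free (R := (OEtRing X).over Y) I).val.map (ovHom Y (g k) a).op t := by
    intro k
    have h1 := hg k
    rw [genSieve_apply, mem_genSpan_iff] at h1
    exact h1
  choose xc hxc using hg'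
  obtain ⟨F, hF⟩ : ∃ F : Finset I, F = Finset.univ.biUnion (fun k => (xc k).support) :=
    ⟨_, rfl⟩
  obtain ⟨x, hx⟩ : ∃ x : I →₀ Rg E, ∀ i, x i =
      if i ∈ F then coord (R := (OEtRing X).over Y) i (op (Over.mk a)) t else 0 := by
    refine ⟨Finsupp.onFinset F
      (fun i => if i ∈ F then coord (R := (OEtRing X).over Y) i (op (Over.mk a)) t else 0) ?_,
      fun i => rfl⟩
    intro i hi
    by_contra hcon
    apply hi
    rw [if_neg hcon]
  refine ⟨x, ?_⟩
  rw [← sub_eq_zero]
  apply eq_zero_of_cover_over Y a _ _ W g hcov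
  intro k
  rw [map_sub, map_lcOf, ← hxc k, sub_eq_zero]
  congr 1
  ext i
  show resRing (g k) (x i) = (xc k) i
  rw [hx i]
  have h2 : (xc k) i = resRing (g k)
      (coord (R := (OEtRing X).over Y) i (op (Over.mk a)) t) := by
    have h5 := coord_lcOf (R := (OEtRing X).over Y) i (op (Over.mk (g k ≫ a))) (xc k)
    rw [hxc k, coord_map] at h5
    exact h5.symm
  by_cases hi : i ∈ F
  · rw [if_pos hi, h2]
  · rw [if_neg hi, map_zero]
    have h3 : i ∉ (xc k).support := by
      intro h4
      apply hi
      rw [hF, Finset.mem_biUnion]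
      exact ⟨k, Finset.mem_univ k, h4⟩
    rw [Finsupp.notMem_support_iff] at h3
    exact h3.symm

end Groth.Agent.Lib.QCEtH7
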