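import Mathlib
import Groth.Agent.Lib.QCEt8_helper7

/-!
# Sections of a module with a global presentation over affine objects, part 3 (helper7)

Typed wrappers for the free sheaf on the over-site, and the comparison of relation modules.
-/

set_option backward.isDefEq.respectTransparency false
set_option backward.isDefEq.respectTransparency.types false
set_option linter.style.haveILetI false
set_option linter.unusedSectionVars false
set_option linter.unusedVariables false
set_option autoImplicit false
set_option maxHeartbeats 1600000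
set_option maxSynthPendingDepth 3

universe u v

open CategoryTheory Limits Opposite AlgebraicGeometry AlgSp TensorProduct

namespace Groth.Agent.Lib.QCEtH7

open Groth.Agent.Lib.WeakAssEtH7 Groth.Agent.Lib.IdealEtBH7 Groth.Agent.Lib.EtPostcomp_helper7
  Groth.Agent.Lib.EtStalkPt_helper7

variable {S : Scheme.{u}} {X : Sp S} (M : ModEt X) (Y : EtOver X) (P : (M.over Y).Presentation)

section FreeWrap

variable (I : Type (u + 1))

/-- sections of the free sheaf on the over-site -/
def FreeSec {E : EtOver X} (a : E ⟶ Y) : Type (u + 1) :=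
  (SheafOfModules.free (R := (OEtRing X).over Y) I).val.obj (op (Over.mk a))

noncomputable instance freeSecAddCommGroup {E : EtOver X} (a : E ⟶ Y) :
    AddCommGroup (FreeSec Y I a) :=
  inferInstanceAs (AddCommGroup
    ((SheafOfModules.free (R := (OEtRing X).over Y) I).val.obj (op (Over.mk a))))

noncomputable instance freeSecModule {E : EtOver X} (a : E ⟶ Y) :
    Module (Rg E) (FreeSec Y I a) :=
  ((SheafOfModules.free (R := (OEtRing X).over Y) I).val.obj (op (Over.mk a))).isModule

/-- linear combinations of the basis sections -/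
noncomputable def freeE {E : EtOver X} (a : E ⟶ Y) : (I →₀ Rg E) →ₗ[Rg E] FreeSec Y I a :=
  lcOf (SheafOfModules.free (R := (OEtRing X).over Y) I) SheafOfModules.freeSection
    (op (Over.mk a))

theorem freeE_injective {E : EtOver X} (a : E ⟶ Y) : Function.Injective (freeE Y I a) :=
  lcOf_free_injective (R := (OEtRing X).over Y) (op (Over.mk a))

theorem freeE_surjective' (hX : IsAlgSpace X) {E : EtOver X} [IsAffine E.obj.left.left]
    (a : E ⟶ Y) : Function.Surjective (freeE Y I a) :=
  fun t => freeE_surjective Y hX a t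

/-- restriction of sections of the free sheaf -/
noncomputable def freeRes {E' E : EtOver X} (g : E' ⟶ E) (a : E ⟶ Y) :
    FreeSec Y I a →+ FreeSec Y I (g ≫ a) :=
  AddMonoidHom.mk'
    (fun t => (SheafOfModules.free (R := (OEtRing X).over Y) I).val.map (ovHom Y g a).op t)
    (fun s t => map_add _ s t)

theorem freeRes_freeE {E' E : EtOver X} (g : E' ⟶ E) (a : E ⟶ Y) (x : I →₀ Rg E) :
    freeRes Y I g a (freeE Y I a x) = freeE Y I (g ≫ a) (mapH (resRing g) x) :=
  map_lcOf (SheafOfModules.free (R := (OEtRing X).over Y) I) SheafOfModules.freeSection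
    (ovHom Y g a).op x

end FreeWrap

section Rho

/-- the relation sections inside the free sheaf, over an object -/
noncomputable def rho {E : EtOver X} (a : E ⟶ Y) (j : P.relations.I) :
    FreeSec Y P.generators.I a :=
  (relSec (M.over Y) P.generators.s P.relations.s j).val (op (Over.mk a))

theorem freeRes_rho {E' E : EtOver X} (g : E' ⟶ E) (a : E ⟶ Y) (j : P.relations.I) :
    freeRes Y P.generators.I g a (rho M Y P a j) = rho M Y P (g ≫ a) j :=
  PresheafOfModules.sections_property (relSec (M.over Y) P.generators.s P.relations.s j)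
    (ovHom Y g a).op

theorem mem_relE_iff {E : EtOver X} (a : E ⟶ Y) (x : P.generators.I →₀ Rg E) :
    x ∈ relE M Y P a ↔
      freeE Y P.generators.I a x ∈ Submodule.span (Rg E) (Set.range (rho M Y P a)) :=
  Iff.rfl

end Rho

section Claim

/-- relations over `E'` come from relations over an affine `E` -/
theorem relE_le_span (hX : IsAlgSpace X) {E' E : EtOver X} [IsAffine E.obj.left.left]
    (g : E' ⟶ E) (a : E ⟶ Y) (x' : P.generators.I →₀ Rg E') (hx' : x' ∈ relE M Y P (g ≫ a)) :
    x' ∈ Submodule.span (Rg E') (mapH (resRing g) '' (relE M Y P a : Set _)) := by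
  have hy : ∀ j, ∃ y : P.generators.I →₀ Rg E, freeE Y P.generators.I a y = rho M Y P a j :=
    fun j => freeE_surjective' Y P.generators.I hX a _
  choose y hy using hy
  have hyrel : ∀ j, y j ∈ relE M Y P a := by
    intro j
    rw [mem_relE_iff, hy j]
    exact Submodule.subset_span ⟨j, rfl⟩
  obtain ⟨yy, hyy⟩ : ∃ yy : P.relations.I → (P.generators.I →₀ Rg E'),
      yy = fun j => mapH (resRing g) (y j) := ⟨_, rfl⟩
  have hy' : ∀ j, freeE Y P.generators.I (g ≫ a) (yy j) = rho M Y P (g ≫ a) j := by
    intro j
    rw [hyy, ← freeRes_freeE, hy j, freeRes_rho]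
  rw [mem_relE_iff, ← Finsupp.range_linearCombination] at hx'
  obtain ⟨b, hb⟩ := hx'
  obtain ⟨z, hz⟩ : ∃ z : P.generators.I →₀ Rg E',
      z = Finsupp.linearCombination (Rg E') yy b := ⟨_, rfl⟩
  have hzx : z = x' := by
    apply freeE_injective Y P.generators.I (g ≫ a)
    have h5 : (⇑(freeE Y P.generators.I (g ≫ a)) ∘ yy) = rho M Y P (g ≫ a) := by
      funext j
      exact hy' j
    have e1 : freeE Y P.generators.I (g ≫ a) (Finsupp.linearCombination (Rg E') yy b) =
        Finsupp.linearCombination (Rg E') (⇑(freeE Y P.generators.I (g ≫ a)) ∘ yy) b :=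
      Finsupp.apply_linearCombination (Rg E') (freeE Y P.generators.I (g ≫ a)) yy b
    have e2 : Finsupp.linearCombination (Rg E') (⇑(freeE Y P.generators.I (g ≫ a)) ∘ yy) b =
        Finsupp.linearCombination (Rg E') (rho M Y P (g ≫ a)) b :=
      congrArg (fun v => Finsupp.linearCombination (Rg E') v b) h5
    have e0 : freeE Y P.generators.I (g ≫ a) z =
        freeE Y P.generators.I (g ≫ a) (Finsupp.linearCombination (Rg E') yy b) :=
      congrArg _ hz
    exact e0.trans (e1.trans (e2.trans hb))
  rw [← hzx, hz]
  have h6 : Finsupp.linearCombination (Rg E') yy b ∈ Submodule.span (Rg E') (Set.range yy) :=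
    Finsupp.mem_span_range_iff_exists_finsupp.2 ⟨b, rfl⟩
  refine Submodule.span_mono ?_ h6
  rintro _ ⟨j, rfl⟩
  rw [hyy]
  exact ⟨y j, hyrel j, rfl⟩

theorem relE_eq_span (hX : IsAlgSpace X) {E' E : EtOver X} [IsAffine E.obj.left.left]
    (g : E' ⟶ E) (a : E ⟶ Y) :
    relE M Y P (g ≫ a) = Submodule.span (Rg E') (mapH (resRing g) '' (relE M Y P a : Set _)) := by
  apply le_antisymm
  · intro x' hx'
    exact relE_le_span M Y P hX g a x' hx'
  · rw [Submodule.span_le]
    rintro _ ⟨x, hx, rfl⟩
    exact relE_mapH M Y P g a x hx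

end Claim

end Groth.Agent.Lib.QCEtH7
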