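import Mathlib
import Groth.Agent.Lib.QCEt9_helper7

/-!
# Sections of a module with a global presentation over affine objects, part 4 (helper7)

`ker_lcE_iff`, `lcE_surjective` and the base change theorem `bc_of_presentation`.
-/

set_option backward.isDefEq.respectTransparency false
set_option backward.isDefEq.respectTransparency.types false
set_option linter.style.haveILetI false
set_option linter.unusedSectionVars false
set_option linter.unusedVariables false
set_option autoImplicit false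
set_option maxHeartbeats 1600000
set_option maxSynthPendingDepth 3

universe u v

open CategoryTheory Limits Opposite AlgebraicGeometry AlgSp TensorProduct

namespace Groth.Agent.Lib.QCEtH7

open Groth.Agent.Lib.WeakAssEtH7 Groth.Agent.Lib.IdealEtBH7 Groth.Agent.Lib.EtPostcomp_helper7
  Groth.Agent.Lib.EtStalkPt_helper7

variable {S : Scheme.{u}} {X : Sp S} (M : ModEt X) (Y : EtOver X) (P : (M.over Y).Presentation)

/-- over an affine object the kernel of the generators is the relation module -/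
theorem ker_lcE_iff (hX : IsAlgSpace X) {E : EtOver X} [IsAffine E.obj.left.left] (a : E ⟶ Y)
    (x : P.generators.I →₀ Rg E) : lcE M Y P a x = 0 ↔ x ∈ relE M Y P a := by
  refine ⟨fun hx => ?_, fun hx => lcE_eq_zero_of_mem_relE M Y P a x hx⟩
  obtain ⟨m, W, g, hW, hcov, hrel⟩ := exists_local_rel M Y P hX a x hx
  letI algc : ∀ c, Algebra (Rg E) (Rg (W c)) := fun c => (resRing (g c)).toAlgebra
  haveI flatc : ∀ c, Module.Flat (Rg E) (Rg (W c)) := fun c => by
    haveI := hW c
    exact flat_resRing (g c)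
  have hJ := jointSurj_of_cover W g hcov
  have h1 := span_descent (fun c => Rg (W c)) hJ (relE M Y P a : Set _) x (fun c => by
    have h2 := hrel c
    have h3 := relE_eq_span M Y P hX (g c) a
    have h4 : mapH (resRing (g c)) x ∈
        Submodule.span (Rg (W c)) (mapH (resRing (g c)) '' (relE M Y P a : Set _)) :=
      h3 ▸ h2
    exact h4)
  have h5 : Submodule.span (Rg E) (relE M Y P a : Set _) = relE M Y P a := Submodule.span_eq _
  exact h5 ▸ h1

/-- compatibility on overlaps of local coefficient vectors representing a section -/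
theorem compat_aux (hX : IsAlgSpace X) {E W₁ W₂ : EtOver X} [IsAffine E.obj.left.left]
    [IsAffine W₁.obj.left.left] [IsAffine W₂.obj.left.left]
    (a : E ⟶ Y) (g₁ : W₁ ⟶ E) (g₂ : W₂ ⟶ E) (n : Sec M E)
    (x₁ : P.generators.I →₀ Rg W₁) (x₂ : P.generators.I →₀ Rg W₂)
    (h₁ : lcE M Y P (g₁ ≫ a) x₁ = resAdd M g₁ n) (h₂ : lcE M Y P (g₂ ≫ a) x₂ = resAdd M g₂ n) :
    mapH (resRing (EtOver.pullbackFst g₁ g₂)) x₁ - mapH (resRing (EtOver.pullbackSnd g₁ g₂)) x₂ ∈
      Submodule.span (Rg (EtOver.pullbackObj g₁ g₂))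
        (mapH ((resRing (EtOver.pullbackFst g₁ g₂)).comp (resRing g₁)) ''
          (relE M Y P a : Set (P.generators.I →₀ Rg E))) := by
  haveI : IsAffine (EtOver.pullbackObj g₁ g₂).obj.left.left := isAffine_pullbackObj g₁ g₂
  have hcond : EtOver.pullbackFst g₁ g₂ ≫ g₁ = EtOver.pullbackSnd g₁ g₂ ≫ g₂ :=
    EtOver.pullback_condition g₁ g₂
  have h12 : EtOver.pullbackSnd g₁ g₂ ≫ (g₂ ≫ a) = EtOver.pullbackFst g₁ g₂ ≫ (g₁ ≫ a) := by
    rw [← Category.assoc, ← Category.assoc, hcond]
  have e1 : lcE M Y P (EtOver.pullbackFst g₁ g₂ ≫ (g₁ ≫ a))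
      (mapH (resRing (EtOver.pullbackFst g₁ g₂)) x₁) =
      resAdd M (EtOver.pullbackFst g₁ g₂ ≫ g₁) n := by
    have h := lcE_mapH M Y P (EtOver.pullbackFst g₁ g₂) (g₁ ≫ a) x₁
    rw [h₁] at h
    rw [← h]
    exact (resAdd_comp M _ _ n).symm
  have e2 : lcE M Y P (EtOver.pullbackFst g₁ g₂ ≫ (g₁ ≫ a))
      (mapH (resRing (EtOver.pullbackSnd g₁ g₂)) x₂) =
      resAdd M (EtOver.pullbackFst g₁ g₂ ≫ g₁) n := by
    have h := lcE_mapH M Y P (EtOver.pullbackSnd g₁ g₂) (g₂ ≫ a) x₂
    rw [h₂] at h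
    have h' := lcE_congr M Y P h12 (mapH (resRing (EtOver.pullbackSnd g₁ g₂)) x₂)
    rw [← h', ← h, hcond]
    exact (resAdd_comp M _ _ n).symm
  have e3 : lcE M Y P (EtOver.pullbackFst g₁ g₂ ≫ (g₁ ≫ a))
      (mapH (resRing (EtOver.pullbackFst g₁ g₂)) x₁ -
        mapH (resRing (EtOver.pullbackSnd g₁ g₂)) x₂) = 0 := by
    rw [map_sub, e1, e2, sub_self]
  have e4 := (ker_lcE_iff M Y P hX (EtOver.pullbackFst g₁ g₂ ≫ (g₁ ≫ a)) _).1 e3
  have e5 : relE M Y P (EtOver.pullbackFst g₁ g₂ ≫ (g₁ ≫ a)) =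
      relE M Y P ((EtOver.pullbackFst g₁ g₂ ≫ g₁) ≫ a) :=
    relE_congr M Y P (Category.assoc _ _ _).symm
  have e6 := relE_eq_span M Y P hX (EtOver.pullbackFst g₁ g₂ ≫ g₁) a
  have e7 : mapH (resRing (EtOver.pullbackFst g₁ g₂)) x₁ -
      mapH (resRing (EtOver.pullbackSnd g₁ g₂)) x₂ ∈
      Submodule.span (Rg (EtOver.pullbackObj g₁ g₂))
        (mapH (resRing (EtOver.pullbackFst g₁ g₂ ≫ g₁)) ''
          (relE M Y P a : Set (P.generators.I →₀ Rg E))) :=
    e6 ▸ e5 ▸ e4
  have e8 : resRing (EtOver.pullbackFst g₁ g₂ ≫ g₁) =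
      (resRing (EtOver.pullbackFst g₁ g₂)).comp (resRing g₁) := resRing_comp _ _
  exact e8 ▸ e7

/-- over an affine object the generators generate the module of sections -/
theorem lcE_surjective (hX : IsAlgSpace X) {E : EtOver X} [IsAffine E.obj.left.left]
    (a : E ⟶ Y) : Function.Surjective (lcE M Y P a) := by
  intro n
  obtain ⟨m, W, g, hW, hcov, hx⟩ := exists_local_lc M Y P hX a n
  choose xc hxc using hx
  haveI affW : ∀ c, IsAffine (W c).obj.left.left := hW
  letI algc : ∀ c, Algebra (Rg E) (Rg (W c)) := fun c => (resRing (g c)).toAlgebra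
  haveI flatc : ∀ c, Module.Flat (Rg E) (Rg (W c)) := fun c => flat_resRing (g c)
  have hJ := jointSurj_of_cover W g hcov
  letI algcd : ∀ c d, Algebra (Rg E) (Rg (EtOver.pullbackObj (g c) (g d))) := fun c d =>
    ((resRing (EtOver.pullbackFst (g c) (g d))).comp (resRing (g c))).toAlgebra
  have hpo : ∀ c d, IsPO (resRing (g c)) (resRing (g d))
      (resRing (EtOver.pullbackFst (g c) (g d))) (resRing (EtOver.pullbackSnd (g c) (g d))) :=
    fun c d => isPO_pullback (g c) (g d)
  choose tau htau hbij using fun c d => (hpo c d).exists_tau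
  have hcompat := fun c d => compat_aux M Y P hX a (g c) (g d) n (xc c) (xc d) (hxc c) (hxc d)
  obtain ⟨x0, hx0⟩ := ff_glue (fun c => Rg (W c)) hJ
    (relE M Y P a : Set (P.generators.I →₀ Rg E))
    (fun c d => Rg (EtOver.pullbackObj (g c) (g d)))
    (fun c d => resRing (EtOver.pullbackFst (g c) (g d)))
    (fun c d => resRing (EtOver.pullbackSnd (g c) (g d)))
    (fun c d r => rfl)
    (fun c d r => by
      have h := congrArg (fun k : Rg E →+* Rg (EtOver.pullbackObj (g c) (g d)) => k r) (hpo c d).1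
      exact h.symm)
    tau htau hbij xc hcompat
  refine ⟨x0, ?_⟩
  apply resAdd_injective_of_cover M W g hcov
  intro c
  have h3 := lcE_mapH M Y P (g c) a x0
  rw [h3, ← hxc c, ← sub_eq_zero, ← map_sub]
  apply lcE_eq_zero_of_mem_relE
  have h1 := hx0 c
  have h2 : Submodule.span (Rg (W c)) (mapH (resRing (g c)) ''
      (relE M Y P a : Set (P.generators.I →₀ Rg E))) ≤ relE M Y P (g c ≫ a) := by
    rw [Submodule.span_le]
    rintro _ ⟨y, hy, rfl⟩
    exact relE_mapH M Y P (g c) a y hy
  exact h2 h1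

include P in
/-- **Base change over an object with a global presentation**: for affine objects `E' ⟶ E`
lying over `Y`, sections over `E'` are the base change of the sections over `E`. -/
theorem bc_of_presentation (hX : IsAlgSpace X) {E' E : EtOver X} [IsAffine E.obj.left.left]
    [IsAffine E'.obj.left.left] (g : E' ⟶ E) (a : E ⟶ Y) : BC M g := by
  have hgen : (fun i => resAdd M g (gen M Y P a i)) = gen M Y P (g ≫ a) := by
    funext i
    exact gen_res M Y P g a i
  have hlc' : ∀ x' : P.generators.I →₀ Rg E',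
      Finsupp.linearCombination (Rg E') (fun i => resAdd M g (gen M Y P a i)) x' =
        lcE M Y P (g ≫ a) x' := by
    intro x'
    rw [lcE_eq]
    exact congrArg (fun v => Finsupp.linearCombination (Rg E') v x') hgen
  apply IsBCAlong.of_presented (resRing g) (gen M Y P a) (resAdd M g) (resAdd_semi M g)
    (relE M Y P a : Set (P.generators.I →₀ Rg E))
  · intro n
    obtain ⟨x, hx⟩ := lcE_surjective M Y P hX a n
    exact ⟨x, hx⟩
  · intro n'
    obtain ⟨x', hx'⟩ := lcE_surjective M Y P hX (g ≫ a) n'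
    exact ⟨x', (hlc' x').trans hx'⟩
  · intro y hy
    exact lcE_eq_zero_of_mem_relE M Y P a y hy
  · intro x' hx'
    have h1 : lcE M Y P (g ≫ a) x' = 0 := (hlc' x').symm.trans hx'
    have h2 := (ker_lcE_iff M Y P hX (g ≫ a) x').1 h1
    exact relE_le_span M Y P hX g a x' h2

end Groth.Agent.Lib.QCEtH7
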