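import Mathlib
import Groth.Agent.Lib.QCEt4_helper7

/-!
# Base change along a ring homomorphism, descent along a finite cover (abstract form) (helper7)
-/

set_option backward.isDefEq.respectTransparency false
set_option backward.isDefEq.respectTransparency.types false
set_option linter.style.haveILetI false
set_option linter.unusedSectionVars false
set_option linter.unusedVariables false
set_option autoImplicit false
set_option maxHeartbeats 1600000
set_option maxSynthPendingDepth 3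

open TensorProduct

namespace Groth.Agent.Lib.QCEtH7

noncomputable section

section Cover

variable {A B : Type*} [CommRing A] [CommRing B] (φ : A →+* B)

/-- a semilinear map between restricted modules, as a linear map over the base -/
def linAlong2 {A1 A2 : Type*} [CommRing A1] [CommRing A2] (φ1 : A →+* A1) (φ2 : A →+* A2)
    (ψ : A1 →+* A2) (hψ : ∀ a, ψ (φ1 a) = φ2 a) {N1 N2 : Type*} [AddCommGroup N1] [Module A1 N1]
    [AddCommGroup N2] [Module A2 N2] (ρ : N1 →+ N2) (h : IsSemi ψ ρ) :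
    @LinearMap A A _ _ (RingHom.id A) N1 N2 _ _ (modAlong φ1 N1) (modAlong φ2 N2) :=
  @LinearMap.mk A A _ _ (RingHom.id A) N1 N2 _ _ (modAlong φ1 N1) (modAlong φ2 N2)
    ⟨ρ, map_add ρ⟩ (fun a n => by
      show ρ (φ1 a • n) = φ2 a • ρ n
      rw [h, hψ])

theorem linAlong2_apply {A1 A2 : Type*} [CommRing A1] [CommRing A2] (φ1 : A →+* A1)
    (φ2 : A →+* A2) (ψ : A1 →+* A2) (hψ : ∀ a, ψ (φ1 a) = φ2 a) {N1 N2 : Type*}
    [AddCommGroup N1] [Module A1 N1] [AddCommGroup N2] [Module A2 N2] (ρ : N1 →+ N2)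
    (h : IsSemi ψ ρ) (n : N1) : linAlong2 φ1 φ2 ψ hψ ρ h n = ρ n := rfl

/-- **base change descends along a finite cover** (abstract form): `N`, `N'` are the equalizers
of `∏ Nk ⇉ ∏ Nl`, `∏ N'k ⇉ ∏ N'l`, and the maps `Nk → N'k`, `Nl → N'l` are base changes along
the flat map `φ`. -/
theorem IsBCAlong.of_cover (hflat : φ.Flat)
    {K L : Type*} [Fintype K] [DecidableEq K] [Fintype L] [DecidableEq L] (s t : L → K)
    {N N' : Type*} [AddCommGroup N] [Module A N] [AddCommGroup N'] [Module B N']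
    {Nk N'k : K → Type*} {Nl N'l : L → Type*}
    [∀ k, AddCommGroup (Nk k)] [∀ k, Module A (Nk k)]
    [∀ k, AddCommGroup (N'k k)] [∀ k, Module B (N'k k)]
    [∀ l, AddCommGroup (Nl l)] [∀ l, Module A (Nl l)]
    [∀ l, AddCommGroup (N'l l)] [∀ l, Module B (N'l l)]
    (r : ∀ k, N →ₗ[A] Nk k) (d1 : ∀ l, Nk (s l) →ₗ[A] Nl l) (d2 : ∀ l, Nk (t l) →ₗ[A] Nl l)
    (r' : ∀ k, N' →ₗ[B] N'k k) (d1' : ∀ l, N'k (s l) →ₗ[B] N'l l)
    (d2' : ∀ l, N'k (t l) →ₗ[B] N'l l)
    (hinj : ∀ n n', (∀ k, r k n = r k n') → n = n')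
    (hcomp : ∀ l n, d1 l (r (s l) n) = d2 l (r (t l) n))
    (hglue : ∀ p : ∀ k, Nk k, (∀ l, d1 l (p (s l)) = d2 l (p (t l))) → ∃ n, ∀ k, r k n = p k)
    (hinj' : ∀ n n', (∀ k, r' k n = r' k n') → n = n')
    (hcomp' : ∀ l n, d1' l (r' (s l) n) = d2' l (r' (t l) n))
    (β : N →+ N') (hβ : IsSemi φ β) (βk : ∀ k, Nk k →+ N'k k) (βl : ∀ l, Nl l →+ N'l l)
    (h1 : ∀ k n, r' k (β n) = βk k (r k n))
    (h21 : ∀ l p, d1' l (βk (s l) p) = βl l (d1 l p))
    (h22 : ∀ l p, d2' l (βk (t l) p) = βl l (d2 l p))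
    (hbk : ∀ k, IsBCAlong φ (βk k)) (hbl : ∀ l, IsBCAlong φ (βl l)) : IsBCAlong φ β := by
  obtain ⟨f, hf⟩ : ∃ f : N →ₗ[A] (∀ k, Nk k), ∀ n k, f n k = r k n :=
    ⟨LinearMap.pi r, fun n k => rfl⟩
  obtain ⟨gd, hgd⟩ : ∃ gd : (∀ k, Nk k) →ₗ[A] (∀ l, Nl l),
      ∀ p l, gd p l = d1 l (p (s l)) - d2 l (p (t l)) :=
    ⟨LinearMap.pi (fun l => (d1 l).comp (LinearMap.proj (s l)) -
      (d2 l).comp (LinearMap.proj (t l))), fun p l => rfl⟩
  obtain ⟨f', hf'⟩ : ∃ f' : N' →ₗ[B] (∀ k, N'k k), ∀ n k, f' n k = r' k n :=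
    ⟨LinearMap.pi r', fun n k => rfl⟩
  obtain ⟨gd', hgd'⟩ : ∃ gd' : (∀ k, N'k k) →ₗ[B] (∀ l, N'l l),
      ∀ p l, gd' p l = d1' l (p (s l)) - d2' l (p (t l)) :=
    ⟨LinearMap.pi (fun l => (d1' l).comp (LinearMap.proj (s l)) -
      (d2' l).comp (LinearMap.proj (t l))), fun p l => rfl⟩
  have hfinj : Function.Injective f := by
    intro n n' hnn'
    apply hinj
    intro k
    rw [← hf, ← hf, hnn']
  have hgf : ∀ n, gd (f n) = 0 := by
    intro n
    funext l
    rw [hgd, hf, hf, hcomp, sub_self]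
    rfl
  have hex : ∀ p, gd p = 0 → ∃ n, f n = p := by
    intro p hp
    obtain ⟨n, hn⟩ := hglue p (fun l => by
      have h := congrFun hp l
      rw [hgd] at h
      exact sub_eq_zero.1 h)
    refine ⟨n, ?_⟩
    funext k
    rw [hf, hn]
  have hf'inj : Function.Injective f' := by
    intro n n' hnn'
    apply hinj'
    intro k
    rw [← hf', ← hf', hnn']
  have hgf' : ∀ n', gd' (f' n') = 0 := by
    intro n
    funext l
    rw [hgd', hf', hf', hcomp', sub_self]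
    rfl
  have h1' : ∀ n, f' (β n) = piAdd βk (f n) := by
    intro n
    funext k
    rw [hf', piAdd_apply, hf, h1]
  have h2' : ∀ p, gd' (piAdd βk p) = piAdd βl (gd p) := by
    intro p
    funext l
    rw [hgd', piAdd_apply, piAdd_apply, piAdd_apply, hgd, map_sub, h21, h22]
  exact IsBCAlong.of_exact φ hflat f gd f' gd' hfinj hgf hex hf'inj hgf' β (piAdd βk)
    (piAdd βl) hβ h1' h2' (IsBCAlong.pi φ βk hbk) (IsBCAlong.pi φ βl hbl)

end Cover

end

end Groth.Agent.Lib.QCEtH7
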