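import Mathlib
import Groth.Agent.Lib.QCEt10_helper7
import Groth.Agent.Lib.QCEt12_helper7

/-!
# Base change for sections of quasi-coherent modules along members of affine covers (helper7)
-/

set_option backward.isDefEq.respectTransparency false
set_option backward.isDefEq.respectTransparency.types false
set_option linter.style.haveILetI false
set_option linter.unusedSectionVars false
set_option linter.unusedVariables false
set_option autoImplicit false
set_option maxHeartbeats 1600000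
set_option maxSynthPendingDepth 3

universe u v

open CategoryTheory Limits Opposite AlgebraicGeometry AlgSp TensorProduct

namespace Groth.Agent.Lib.QCEtH7

open Groth.Agent.Lib.WeakAssEtH7 Groth.Agent.Lib.IdealEtBH7 Groth.Agent.Lib.EtPostcomp_helper7
  Groth.Agent.Lib.EtStalkPt_helper7

variable {S : Scheme.{u}} {X : Sp S}

theorem exists_point_pullbackObj {E₁ E₂ E₀ : EtOver X} (g₁ : E₁ ⟶ E₀) (g₂ : E₂ ⟶ E₀)
    (x₁ : E₁.obj.left.left) (x₂ : E₂.obj.left.left)
    (h : g₁.hom.left.left x₁ = g₂.hom.left.left x₂) :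
    ∃ z : (EtOver.pullbackObj g₁ g₂).obj.left.left,
      (EtOver.pullbackFst g₁ g₂).hom.left.left z = x₁ ∧
        (EtOver.pullbackSnd g₁ g₂).hom.left.left z = x₂ := by
  obtain ⟨w, hw1, hw2⟩ := Scheme.Pullback.exists_preimage_pullback x₁ x₂ h
  have hP := isPullback_scheme g₁ g₂
  refine ⟨hP.isoPullback.inv w, ?_, ?_⟩
  · rw [← Scheme.Hom.comp_apply, IsPullback.isoPullback_inv_fst]
    exact hw1
  · rw [← Scheme.Hom.comp_apply, IsPullback.isoPullback_inv_snd]
    exact hw2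

/-- the base change of a jointly surjective family is jointly surjective -/
theorem cover_pullback {E W : EtOver X} (g : W ⟶ E) {K : Type*} (Wk : K → EtOver X)
    (gk : ∀ k, Wk k ⟶ E)
    (hcov : ∀ x : E.obj.left.left, ∃ k, x ∈ Set.range (gk k).hom.left.left)
    (w : W.obj.left.left) :
    ∃ k, w ∈ Set.range (EtOver.pullbackFst g (gk k)).hom.left.left := by
  obtain ⟨k, y, hy⟩ := hcov (g.hom.left.left w)
  obtain ⟨z, hz1, hz2⟩ := exists_point_pullbackObj g (gk k) w y hy.symm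
  exact ⟨k, z, hz1⟩

variable (M : ModEt X)

/-- **Step B1**: base change of sections from an affine `T` with a presentation to `W ×_E T`,
over the ring of functions of `W` -/
theorem bc_pullback_snd (hX : IsAlgSpace X) (Y : EtOver X) (P : (M.over Y).Presentation)
    {E W T : EtOver X} [IsAffine E.obj.left.left] [IsAffine W.obj.left.left]
    [IsAffine T.obj.left.left] (g₁ : W ⟶ E) (g₂ : T ⟶ E) (a : T ⟶ Y) :
    @IsBCAlong (Rg E) (Rg W) _ _ (resRing g₁) (Sec M T) (Sec M (EtOver.pullbackObj g₁ g₂)) _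
      (modAlong (resRing g₂) (Sec M T)) _
      (modAlong (resRing (EtOver.pullbackFst g₁ g₂)) (Sec M (EtOver.pullbackObj g₁ g₂)))
      (resAdd M (EtOver.pullbackSnd g₁ g₂)) := by
  haveI : IsAffine (EtOver.pullbackObj g₁ g₂).obj.left.left := isAffine_pullbackObj g₁ g₂
  have hpo := isPO_pullback g₁ g₂
  have hbc : BC M (EtOver.pullbackSnd g₁ g₂) :=
    bc_of_presentation M Y P hX (EtOver.pullbackSnd g₁ g₂) a
  exact IsBCAlong.pushout hpo (resAdd M (EtOver.pullbackSnd g₁ g₂)) hbc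

/-- **Step B2, abstract data form**: base change along `gm : E' ⟶ E` from base change of the
members of a cover and of their overlaps -/
theorem bc_of_cover_data {E E' : EtOver X} (gm : E' ⟶ E) [IsAffine E.obj.left.left]
    [IsAffine E'.obj.left.left] {K : Type} [Fintype K] [DecidableEq K]
    (W : K → EtOver X) (g : ∀ k, W k ⟶ E)
    (Wl : K × K → EtOver X) (f1 : ∀ l, Wl l ⟶ W l.1) (f2 : ∀ l, Wl l ⟶ W l.2)
    (hl : ∀ l, Wl l ⟶ E) (hf1 : ∀ l, f1 l ≫ g l.1 = hl l) (hf2 : ∀ l, f2 l ≫ g l.2 = hl l)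
    (V : K → EtOver X) (p1 : ∀ k, V k ⟶ E') (p2 : ∀ k, V k ⟶ W k)
    (hp : ∀ k, p1 k ≫ gm = p2 k ≫ g k)
    (Vl : K × K → EtOver X) (q1 : ∀ l, Vl l ⟶ E') (q2 : ∀ l, Vl l ⟶ Wl l)
    (α : ∀ l, Vl l ⟶ V l.1) (β : ∀ l, Vl l ⟶ V l.2)
    (hα1 : ∀ l, α l ≫ p1 l.1 = q1 l) (hα2 : ∀ l, α l ≫ p2 l.1 = q2 l ≫ f1 l)
    (hβ1 : ∀ l, β l ≫ p1 l.2 = q1 l) (hβ2 : ∀ l, β l ≫ p2 l.2 = q2 l ≫ f2 l)
    (hinj : ∀ n n' : Sec M E, (∀ k, resAdd M (g k) n = resAdd M (g k) n') → n = n')
    (hglue : ∀ p : ∀ k, Sec M (W k),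
      (∀ l : K × K, resAdd M (f1 l) (p l.1) = resAdd M (f2 l) (p l.2)) →
        ∃ n, ∀ k, resAdd M (g k) n = p k)
    (hinj' : ∀ n n' : Sec M E', (∀ k, resAdd M (p1 k) n = resAdd M (p1 k) n') → n = n')
    (hbk : ∀ k, @IsBCAlong (Rg E) (Rg E') _ _ (resRing gm) (Sec M (W k)) (Sec M (V k)) _
      (modAlong (resRing (g k)) (Sec M (W k))) _ (modAlong (resRing (p1 k)) (Sec M (V k)))
      (resAdd M (p2 k)))
    (hbl : ∀ l, @IsBCAlong (Rg E) (Rg E') _ _ (resRing gm) (Sec M (Wl l)) (Sec M (Vl l)) _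
      (modAlong (resRing (hl l)) (Sec M (Wl l))) _ (modAlong (resRing (q1 l)) (Sec M (Vl l)))
      (resAdd M (q2 l))) :
    BC M gm := by
  letI i1 : ∀ k, Module (Rg E) (Sec M (W k)) := fun k => modAlong (resRing (g k)) _
  letI i2 : ∀ l, Module (Rg E) (Sec M (Wl l)) := fun l => modAlong (resRing (hl l)) _
  letI i1' : ∀ k, Module (Rg E') (Sec M (V k)) := fun k => modAlong (resRing (p1 k)) _
  letI i2' : ∀ l, Module (Rg E') (Sec M (Vl l)) := fun l => modAlong (resRing (q1 l)) _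
  exact IsBCAlong.of_cover (resRing gm) (flat_resRing gm) (K := K) (L := K × K) Prod.fst Prod.snd
    (Nk := fun k => Sec M (W k)) (N'k := fun k => Sec M (V k))
    (Nl := fun l => Sec M (Wl l)) (N'l := fun l => Sec M (Vl l))
    (fun k => linAlong (resRing (g k)) (resAdd M (g k)) (resAdd_semi M (g k)))
    (fun l => linAlong2 (resRing (g l.1)) (resRing (hl l)) (resRing (f1 l))
      (fun a => by rw [← hf1 l, resRing_comp_apply]) (resAdd M (f1 l)) (resAdd_semi M (f1 l)))
    (fun l => linAlong2 (resRing (g l.2)) (resRing (hl l)) (resRing (f2 l))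
      (fun a => by rw [← hf2 l, resRing_comp_apply]) (resAdd M (f2 l)) (resAdd_semi M (f2 l)))
    (fun k => linAlong (resRing (p1 k)) (resAdd M (p1 k)) (resAdd_semi M (p1 k)))
    (fun l => linAlong2 (resRing (p1 l.1)) (resRing (q1 l)) (resRing (α l))
      (fun a => by rw [← hα1 l, resRing_comp_apply]) (resAdd M (α l)) (resAdd_semi M (α l)))
    (fun l => linAlong2 (resRing (p1 l.2)) (resRing (q1 l)) (resRing (β l))
      (fun a => by rw [← hβ1 l, resRing_comp_apply]) (resAdd M (β l)) (resAdd_semi M (β l)))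
    hinj
    (fun l n => by
      show resAdd M (f1 l) (resAdd M (g l.1) n) = resAdd M (f2 l) (resAdd M (g l.2) n)
      rw [← resAdd_comp, ← resAdd_comp, hf1 l, hf2 l])
    hglue hinj'
    (fun l n => by
      show resAdd M (α l) (resAdd M (p1 l.1) n) = resAdd M (β l) (resAdd M (p1 l.2) n)
      rw [← resAdd_comp, ← resAdd_comp, hα1 l, hβ1 l])
    (resAdd M gm) (resAdd_semi M gm) (fun k => resAdd M (p2 k)) (fun l => resAdd M (q2 l))
    (fun k n => by
      show resAdd M (p1 k) (resAdd M gm n) = resAdd M (p2 k) (resAdd M (g k) n)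
      rw [← resAdd_comp, ← resAdd_comp, hp k])
    (fun l p => by
      show resAdd M (α l) (resAdd M (p2 l.1) p) = resAdd M (q2 l) (resAdd M (f1 l) p)
      rw [← resAdd_comp, ← resAdd_comp, hα2 l])
    (fun l p => by
      show resAdd M (β l) (resAdd M (p2 l.2) p) = resAdd M (q2 l) (resAdd M (f2 l) p)
      rw [← resAdd_comp, ← resAdd_comp, hβ2 l])
    hbk hbl

/-- **Step B2**: base change along any morphism `gm : E' ⟶ E` of affine objects, given a finite
affine covering family of `E` all of whose members lie over objects with global presentations -/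
theorem bc_of_cover (hX : IsAlgSpace X) {E E' : EtOver X} [IsAffine E.obj.left.left]
    [IsAffine E'.obj.left.left] (gm : E' ⟶ E)
    {K : Type} [Fintype K] [DecidableEq K] (W : K → EtOver X)
    [hWaff : ∀ k, IsAffine (W k).obj.left.left] (g : ∀ k, W k ⟶ E)
    (hcov : ∀ x : E.obj.left.left, ∃ k, x ∈ Set.range (g k).hom.left.left)
    (Y : K → EtOver X) (P : ∀ k, (M.over (Y k)).Presentation) (a : ∀ k, W k ⟶ Y k) :
    BC M gm := by
  -- the overlaps
  obtain ⟨Wl, f1, f2, hl, hf1, hf2, hWlaff, hglue⟩ : ∃ (Wl : K × K → EtOver X)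
      (f1 : ∀ l, Wl l ⟶ W l.1) (f2 : ∀ l, Wl l ⟶ W l.2) (hl : ∀ l, Wl l ⟶ E),
      (∀ l, f1 l ≫ g l.1 = hl l) ∧ (∀ l, f2 l ≫ g l.2 = hl l) ∧
      (∀ l, IsAffine (Wl l).obj.left.left) ∧
      (∀ p : ∀ k, Sec M (W k),
        (∀ l : K × K, resAdd M (f1 l) (p l.1) = resAdd M (f2 l) (p l.2)) →
          ∃ n, ∀ k, resAdd M (g k) n = p k) :=
    ⟨fun l => EtOver.pullbackObj (g l.1) (g l.2), fun l => EtOver.pullbackFst (g l.1) (g l.2),
      fun l => EtOver.pullbackSnd (g l.1) (g l.2),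
      fun l => EtOver.pullbackFst (g l.1) (g l.2) ≫ g l.1, fun l => rfl,
      fun l => (EtOver.pullback_condition (g l.1) (g l.2)).symm,
      fun l => isAffine_pullbackObj (g l.1) (g l.2),
      fun p hp => exists_glue M W g hcov p (fun k l => hp (k, l))⟩
  -- the base changes to `E'`
  obtain ⟨V, p1, p2, hp, hVaff, hVlim, hVcov, hbk⟩ : ∃ (V : K → EtOver X) (p1 : ∀ k, V k ⟶ E')
      (p2 : ∀ k, V k ⟶ W k), (∀ k, p1 k ≫ gm = p2 k ≫ g k) ∧
      (∀ k, IsAffine (V k).obj.left.left) ∧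
      (∀ (k : K) (Z : EtOver X) (z1 : Z ⟶ E') (z2 : Z ⟶ W k), z1 ≫ gm = z2 ≫ g k →
        ∃ z : Z ⟶ V k, z ≫ p1 k = z1 ∧ z ≫ p2 k = z2) ∧
      (∀ w : E'.obj.left.left, ∃ k, w ∈ Set.range (p1 k).hom.left.left) ∧
      (∀ k, @IsBCAlong (Rg E) (Rg E') _ _ (resRing gm) (Sec M (W k)) (Sec M (V k)) _
        (modAlong (resRing (g k)) (Sec M (W k))) _ (modAlong (resRing (p1 k)) (Sec M (V k)))
        (resAdd M (p2 k))) :=
    ⟨fun k => EtOver.pullbackObj gm (g k), fun k => EtOver.pullbackFst gm (g k),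
      fun k => EtOver.pullbackSnd gm (g k), fun k => EtOver.pullback_condition gm (g k),
      fun k => isAffine_pullbackObj gm (g k),
      fun k Z z1 z2 hz => ⟨(EtOver.pullbackIsLimit gm (g k)).lift (PullbackCone.mk z1 z2 hz),
        (EtOver.pullbackIsLimit gm (g k)).fac _ WalkingCospan.left,
        (EtOver.pullbackIsLimit gm (g k)).fac _ WalkingCospan.right⟩,
      fun w => cover_pullback gm W g hcov w,
      fun k => bc_pullback_snd M hX (Y k) (P k) gm (g k) (a k)⟩
  haveI := hWlaff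
  obtain ⟨Vl, q1, q2, hq, hbl⟩ : ∃ (Vl : K × K → EtOver X) (q1 : ∀ l, Vl l ⟶ E')
      (q2 : ∀ l, Vl l ⟶ Wl l), (∀ l, q1 l ≫ gm = q2 l ≫ hl l) ∧
      (∀ l, @IsBCAlong (Rg E) (Rg E') _ _ (resRing gm) (Sec M (Wl l)) (Sec M (Vl l)) _
        (modAlong (resRing (hl l)) (Sec M (Wl l))) _ (modAlong (resRing (q1 l)) (Sec M (Vl l)))
        (resAdd M (q2 l))) :=
    ⟨fun l => EtOver.pullbackObj gm (hl l), fun l => EtOver.pullbackFst gm (hl l),
      fun l => EtOver.pullbackSnd gm (hl l), fun l => EtOver.pullback_condition gm (hl l),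
      fun l => bc_pullback_snd M hX (Y l.1) (P l.1) gm (hl l) (f1 l ≫ a l.1)⟩
  have hα : ∀ l : K × K, ∃ z : Vl l ⟶ V l.1, z ≫ p1 l.1 = q1 l ∧ z ≫ p2 l.1 = q2 l ≫ f1 l := by
    intro l
    apply hVlim
    rw [hq l, ← hf1 l, Category.assoc]
  have hβ : ∀ l : K × K, ∃ z : Vl l ⟶ V l.2, z ≫ p1 l.2 = q1 l ∧ z ≫ p2 l.2 = q2 l ≫ f2 l := by
    intro l
    apply hVlim
    rw [hq l, ← hf2 l, Category.assoc]
  choose α hα1 hα2 using hα
  choose β hβ1 hβ2 using hβ
  exact bc_of_cover_data M gm W g Wl f1 f2 hl hf1 hf2 V p1 p2 hp Vl q1 q2 α β hα1 hα2 hβ1 hβ2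
    (resAdd_injective_of_cover M W g hcov) hglue
    (resAdd_injective_of_cover M V p1 hVcov) hbk hbl

/-- **Base change for quasi-coherent modules**: for every morphism `g : E' ⟶ E` of affine objects
of the small étale site, the sections of a quasi-coherent module `M` over `E'` are the base change
of its sections over `E`. -/
theorem bc_qc (hX : IsAlgSpace X) [hM : M.IsQuasicoherent] {E E' : EtOver X}
    [IsAffine E.obj.left.left] [IsAffine E'.obj.left.left] (g : E' ⟶ E) : BC M g := by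
  obtain ⟨q⟩ := SheafOfModules.IsQuasicoherent.nonempty_quasicoherentData (M := M)
  obtain ⟨n, W, gk, hW, hT, hcov⟩ := exists_finite_affine_refinement hX
    (Sieve.ofObjects q.X E) (q.coversTop E)
  have h1 : ∀ k, ∃ i, Nonempty (W k ⟶ q.X i) := fun k => (Sieve.mem_ofObjects_iff _ _).1 (hT k)
  choose i hi using h1
  haveI := hW
  exact bc_of_cover M hX g W gk hcov (fun k => q.X (i k)) (fun k => q.presentation (i k))
    (fun k => (hi k).some)

end Groth.Agent.Lib.QCEtH7
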