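import Groth.Agent.Lib.WeakAss_helper4

/-!
# Weakly associated primes and localization (helper4)
-/

set_option autoImplicit false
universe u v

namespace Groth.Agent.Lib.WeakAssLoc_helper4

open FlatCA Groth.Agent.Lib.WeakAss_helper4

variable {R : Type u} [CommRing R] (S : Submonoid R) {M : Type v} [AddCommGroup M] [Module R M]

/-- `mk m s = 0` iff some `u ∈ S` kills `m`. -/
theorem mk_eq_zero_iff (m : M) (s : S) :
    LocalizedModule.mk m s = 0 ↔ ∃ u : S, (u : R) • m = 0 := by
  rw [← LocalizedModule.zero_mk (1 : S), LocalizedModule.mk_eq]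
  constructor
  · rintro ⟨u, hu⟩
    refine ⟨u, ?_⟩
    simpa [Submonoid.smul_def] using hu
  · rintro ⟨u, hu⟩
    refine ⟨u, ?_⟩
    simp only [one_smul, smul_zero]
    exact hu

/-- The `R`-annihilator of `mk m s` consists of the `r` with `u r m = 0` for some `u ∈ S`. -/
theorem mem_ann_mk_iff (m : M) (s : S) (r : R) :
    r ∈ ann R (LocalizedModule.mk m s) ↔ ∃ u : S, ((u : R) * r) • m = 0 := by
  rw [mem_ann, LocalizedModule.smul'_mk, mk_eq_zero_iff]
  simp only [mul_smul]

/-- The annihilator of `mk m s` over the localized ring is the extension of `ann m`. -/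
theorem ann_mk (m : M) (s : S) :
    ann (Localization S) (LocalizedModule.mk m s) =
      (ann R m).map (algebraMap R (Localization S)) := by
  ext z
  obtain ⟨a, t, rfl⟩ := IsLocalization.exists_mk'_eq S z
  rw [IsLocalization.mk'_mem_map_algebraMap_iff, mem_ann, ← Localization.mk_eq_mk',
    LocalizedModule.mk_smul_mk, mk_eq_zero_iff]
  constructor
  · rintro ⟨u, hu⟩
    exact ⟨u, u.2, mem_ann.mpr (by rw [mul_smul]; exact hu)⟩
  · rintro ⟨u, hu, h⟩
    exact ⟨⟨u, hu⟩, by rw [← mul_smul]; exact mem_ann.mp h⟩

/-- The `R`-annihilator of an element of the localized module is the contraction of its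
annihilator over the localized ring. -/
theorem ann_eq_comap (z : LocalizedModule S M) :
    ann R z = (ann (Localization S) z).comap (algebraMap R (Localization S)) := by
  ext r
  rw [Ideal.mem_comap, mem_ann, mem_ann, algebraMap_smul]


/-- A prime disjoint from `S` is weakly associated to `M` iff its extension is weakly associated
to the localized module over the localized ring. -/
theorem map_mem_weakAss_iff (p : Ideal R) [hp : p.IsPrime] (hS : Disjoint (S : Set R) (p : Set R)) :
    p.map (algebraMap R (Localization S)) ∈ weakAss (Localization S) (LocalizedModule S M) ↔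
      p ∈ weakAss R M := by
  have hunder : (p.map (algebraMap R (Localization S))).under R = p :=
    IsLocalization.under_map_of_isPrime_disjoint S (Localization S) hp hS
  constructor
  · rintro ⟨z, hz⟩
    induction z using LocalizedModule.induction_on with
    | h m s =>
      have hz' : p.map (algebraMap R (Localization S)) ∈
          (ann (Localization S) (LocalizedModule.mk m s)).minimalPrimes := hz
      rw [ann_mk, IsLocalization.minimalPrimes_map S (Localization S), Set.mem_preimage,
        hunder] at hz'
      exact ⟨m, hz'⟩
  · rintro ⟨m, hm⟩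
    refine ⟨LocalizedModule.mk m 1, ?_⟩
    show p.map (algebraMap R (Localization S)) ∈
      (ann (Localization S) (LocalizedModule.mk m (1 : S))).minimalPrimes
    rw [ann_mk, IsLocalization.minimalPrimes_map S (Localization S), Set.mem_preimage, hunder]
    exact hm

/-- Weakly associated primes of the localized module as an `R`-module are the contractions of
those over the localized ring. -/
theorem weakAss_localizedModule_eq :
    weakAss R (LocalizedModule S M) =
      Ideal.comap (algebraMap R (Localization S)) ''
        weakAss (Localization S) (LocalizedModule S M) := by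
  ext p
  constructor
  · rintro ⟨z, hz⟩
    have hz' : p ∈ (ann R z).minimalPrimes := hz
    rw [ann_eq_comap, IsLocalization.minimalPrimes_comap S (Localization S)] at hz'
    obtain ⟨q, hq, rfl⟩ := hz'
    exact ⟨q, ⟨z, hq⟩, rfl⟩
  · rintro ⟨q, ⟨z, hq⟩, rfl⟩
    refine ⟨z, ?_⟩
    show Ideal.comap (algebraMap R (Localization S)) q ∈ (ann R z).minimalPrimes
    rw [ann_eq_comap, IsLocalization.minimalPrimes_comap S (Localization S)]
    exact ⟨q, hq, rfl⟩

/-- If `S` acts by nonzerodivisors on `M`, the `R`-annihilator of `mk m s` is `ann m`. -/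
theorem ann_mk_of_regular (hS : ∀ s ∈ S, IsSMulRegular M s) (m : M) (s : S) :
    ann R (LocalizedModule.mk m s) = ann R m := by
  ext r
  rw [mem_ann_mk_iff, mem_ann]
  constructor
  · rintro ⟨u, hu⟩
    rw [mul_smul] at hu
    exact hS u u.2 (by show (u : R) • (r • m) = (u : R) • (0 : M); rw [hu, smul_zero])
  · intro h
    exact ⟨1, by rw [mul_smul, h, smul_zero]⟩

theorem mkLinearMap_injective_of_regular (hS : ∀ s ∈ S, IsSMulRegular M s) :
    Function.Injective (LocalizedModule.mkLinearMap S M) := by
  rw [injective_iff_map_eq_zero]
  intro m hm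
  rw [LocalizedModule.mkLinearMap_apply, mk_eq_zero_iff] at hm
  obtain ⟨u, hu⟩ := hm
  exact hS u u.2 (by show (u : R) • m = (u : R) • (0 : M); rw [hu, smul_zero])

/-- If `S` acts by nonzerodivisors on `M`, then `M` and `S⁻¹M` have the same weakly associated
primes over `R`. -/
theorem weakAss_eq_of_regular (hS : ∀ s ∈ S, IsSMulRegular M s) :
    weakAss R M = weakAss R (LocalizedModule S M) := by
  apply subset_antisymm
  · exact weakAss_subset_of_injective _ (mkLinearMap_injective_of_regular S hS)
  · rintro p ⟨z, hz⟩
    induction z using LocalizedModule.induction_on with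
    | h m s =>
      have hz' : p ∈ (ann R (LocalizedModule.mk m s)).minimalPrimes := hz
      rw [ann_mk_of_regular S hS] at hz'
      exact ⟨m, hz'⟩

/-- If `S` acts by nonzerodivisors on `M`, then `M` and `S⁻¹M` have the same associated
primes over `R`. -/
theorem ass_eq_of_regular (hS : ∀ s ∈ S, IsSMulRegular M s) :
    ass R M = ass R (LocalizedModule S M) := by
  apply subset_antisymm
  · exact ass_subset_of_injective _ (mkLinearMap_injective_of_regular S hS)
  · rintro p ⟨hp, z, hz⟩
    induction z using LocalizedModule.induction_on with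
    | h m s =>
      have hz' : p = ann R (LocalizedModule.mk m s) := hz
      rw [ann_mk_of_regular S hS] at hz'
      exact ⟨hp, m, hz'⟩

end Groth.Agent.Lib.WeakAssLoc_helper4
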