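import Mathlib
import Groth.Agent.Lib.QCEt11_helper7
import Groth.Agent.Lib.EtSubTerminal_helper7
import Groth.Agent.Lib.WeakAss_helper4
import Groth.Agent.S1233

/-!
# Weakly associated points of quasi-coherent modules on the small étale site: independence of
the chart (helper7)
-/

set_option backward.isDefEq.respectTransparency false
set_option backward.isDefEq.respectTransparency.types false
set_option linter.style.haveILetI false
set_option linter.unusedSectionVars false
set_option linter.unusedVariables false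
set_option autoImplicit false
set_option maxHeartbeats 1600000
set_option maxSynthPendingDepth 3

universe u v

open CategoryTheory Limits Opposite AlgebraicGeometry AlgSp TensorProduct

namespace Groth.Agent.Lib.QCEtH7

open Groth.Agent.Lib.WeakAssEtH7 Groth.Agent.Lib.IdealEtBH7 Groth.Agent.Lib.EtPostcomp_helper7
  Groth.Agent.Lib.EtStalkPt_helper7 Groth.Agent.Lib.AlgSpPoints_helper7
  Groth.Agent.Lib.AlgSpPullback_helper7 Groth.Agent.Lib.AlgSpQC_helper7
  Groth.Agent.Lib.EtNbhd_helper7 Groth.Agent.Lib.WeakAss_helper4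

section Algebra

theorem mem_minimalPrimes_comap_equiv {A B : Type*} [CommRing A] [CommRing B] (e : A ≃+* B)
    (I : Ideal B) (P : Ideal A) :
    P ∈ (I.comap e.toRingHom).minimalPrimes ↔ P.comap e.symm.toRingHom ∈ I.minimalPrimes := by
  have h := Ideal.comap_minimalPrimes_eq_of_surjective (f := e.toRingHom) e.surjective I
  rw [h]
  constructor
  · rintro ⟨Q, hQ, rfl⟩
    have h1 : (Q.comap e.toRingHom).comap e.symm.toRingHom = Q := by
      ext b
      rw [Ideal.mem_comap, Ideal.mem_comap]
      show e (e.symm b) ∈ Q ↔ b ∈ Q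
      rw [RingEquiv.apply_symm_apply]
    rw [h1]
    exact hQ
  · intro hP
    refine ⟨P.comap e.symm.toRingHom, hP, ?_⟩
    ext a
    rw [Ideal.mem_comap, Ideal.mem_comap]
    show e.symm (e a) ∈ P ↔ a ∈ P
    rw [RingEquiv.symm_apply_apply]

theorem weakAss_congr {R : Type*} [CommRing R] {N N' : Type*} [AddCommGroup N] [Module R N]
    [AddCommGroup N'] [Module R N'] (e : N ≃ₗ[R] N') (p : Ideal R) :
    p ∈ FlatCA.weakAss R N ↔ p ∈ FlatCA.weakAss R N' :=
  ⟨fun h => weakAss_subset_of_injective e.toLinearMap e.injective h,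
    fun h => weakAss_subset_of_injective e.symm.toLinearMap e.symm.injective h⟩

end Algebra

variable {S : Scheme.{u}} {X : Sp S}

/-- weak associatedness on a chart, in terms of the module of sections over the lifted ring -/
theorem isWeakAssOn_iff (M : ModEt X) (E : EtOver X) [IsAffine E.obj.left.left]
    (e : E.obj.left.left) :
    IsWeakAssOn M E e ↔ primeUp E e ∈ FlatCA.weakAss (Rg E) (Sec M E) := by
  have key : ∀ s : Sec M E, primeAtPt E.obj.left.left e ∈ (annSect s).minimalPrimes ↔
      primeUp E e ∈ (Submodule.span (Rg E) {s}).annihilator.minimalPrimes := by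
    intro s
    have h1 : annSect s = ((Submodule.span (Rg E) {s}).annihilator).comap
        (ULift.ringEquiv.{u, u + 1} (R := Γ(E.obj.left.left, ⊤))).symm.toRingHom := by
      ext a
      rw [mem_annSect_iff, Ideal.mem_comap, Submodule.mem_annihilator_span_singleton]
      exact Iff.rfl
    rw [h1, mem_minimalPrimes_comap_equiv]
    exact Iff.rfl
  constructor
  · rintro ⟨s, hs⟩
    exact ⟨s, (key s).1 hs⟩
  · rintro ⟨s, hs⟩
    exact ⟨s, (key s).2 hs⟩

theorem etale_resRing {E' E : EtOver X} (g : E' ⟶ E) [IsAffine E'.obj.left.left]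
    [IsAffine E.obj.left.left] : (resRing g).Etale := by
  haveI : Etale g.hom.left.left := EtOver.etale_left g
  have h : g.hom.left.left.appTop.hom.Etale :=
    (HasRingHomProperty.iff_of_isAffine (P := @Etale)).1 inferInstance
  have h1 : resRing g = ((ULift.ringEquiv.{u, u + 1}
      (R := Γ(E'.obj.left.left, ⊤))).symm.toRingHom.comp g.hom.left.left.appTop.hom).comp
      (ULift.ringEquiv.{u, u + 1} (R := Γ(E.obj.left.left, ⊤))).toRingHom := by
    apply RingHom.ext
    intro x
    rfl
  have hb1 : Function.Bijective (ULift.ringEquiv.{u, u + 1}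
      (R := Γ(E.obj.left.left, ⊤))).toRingHom := (ULift.ringEquiv).bijective
  have hb2 : Function.Bijective (ULift.ringEquiv.{u, u + 1}
      (R := Γ(E'.obj.left.left, ⊤))).symm.toRingHom := (ULift.ringEquiv).symm.bijective
  rw [RingHom.Etale.iff_flat_and_formallyUnramified] at h ⊢
  refine ⟨flat_resRing g, ?_, ?_⟩
  · rw [h1]
    exact ((RingHom.FormallyUnramified.of_surjective hb1.2).comp h.2.1).comp
      (RingHom.FormallyUnramified.of_surjective hb2.2)
  · rw [h1]
    exact ((RingHom.FinitePresentation.of_bijective hb2).comp h.2.2).comp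
      (RingHom.FinitePresentation.of_bijective hb1)

/-- **weak associatedness is insensitive to étale localization** (quasi-coherent modules) -/
theorem weakAss_transfer (hX : IsAlgSpace X) (M : ModEt X) [M.IsQuasicoherent] {W E : EtOver X}
    [IsAffine W.obj.left.left] [IsAffine E.obj.left.left] (g : W ⟶ E) (w : W.obj.left.left) :
    primeUp W w ∈ FlatCA.weakAss (Rg W) (Sec M W) ↔
      primeUp E (g.hom.left.left w) ∈ FlatCA.weakAss (Rg E) (Sec M E) := by
  obtain ⟨hsemi, hbc⟩ := bc_qc M hX g
  letI alg : Algebra (Rg E) (Rg W) := (resRing g).toAlgebra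
  haveI het : Algebra.Etale (Rg E) (Rg W) := etale_resRing g
  letI := modAlong (resRing g) (Sec M W)
  haveI := towerAlong (resRing g) (Sec M W)
  haveI : (primeUp W w).LiesOver (primeUp E (g.hom.left.left w)) :=
    ⟨(primeUp_comap g w).symm⟩
  have h1 := Groth.Agent.S1233.result (A := Rg E) (B := Rg W) (Sec M E)
    (primeUp E (g.hom.left.left w)) (primeUp W w)
  rw [← h1]
  exact (weakAss_congr hbc.equiv (primeUp W w)).symm

/-- fibre products in the small étale site through a prescribed pair of points -/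
theorem exists_prod' (E E' : EtOver X) (e : ↥E.obj.left.left) (e' : ↥E'.obj.left.left)
    (h : Points.ofPt E.obj.hom e = Points.ofPt E'.obj.hom e') :
    ∃ (P : EtOver X) (g : P ⟶ E) (g' : P ⟶ E') (v : P.obj.left.left),
      g.hom.left.left v = e ∧ g'.hom.left.left v = e' := by
  have h₁ := E.property
  let Q := h₁.rep.pullback E'.obj.hom
  let snd : Q ⟶ E'.obj.left := h₁.rep.snd E'.obj.hom
  let fst' : Q ⟶ E.obj.left := h₁.rep.fst' E'.obj.hom
  have sq : IsPullback ((yon S).map fst') ((yon S).map snd) E.obj.hom E'.obj.hom :=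
    h₁.rep.isPullback' _
  have hf : RepWith @Etale ((yon S).map fst') := repWith_fst_of_isPullback _ sq E'.property
  obtain ⟨v, hv1, hv2⟩ := exists_ofPt_eq_of_isPullback sq e e' h
  exact ⟨EtOver.mk ((yon S).map fst' ≫ E.obj.hom) (repWith_comp _ hf h₁),
    EtOver.homMk fst' rfl, EtOver.homMk snd sq.w.symm, v, hv1, hv2⟩

/-- every point of an algebraic space lies on an affine étale chart -/
theorem exists_affine_chart (hX : IsAlgSpace X) (x : Points X) :
    ∃ (E : EtOver X) (_ : IsAffine E.obj.left.left) (u : E.obj.left.left),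
      Points.ofPt E.obj.hom u = x := by
  obtain ⟨T, a, hae, has⟩ := hX.atlas
  obtain ⟨t, ht⟩ := ofPt_surjective a has x
  obtain ⟨W, ι, hW, z, hz⟩ := exists_affine_piece (EtOver.mk a hae) t
  refine ⟨W, hW, z, ?_⟩
  rw [← ht, ← hz]
  have h1 := ofPt_comp ι.hom.left (EtOver.mk a hae).obj.hom z
  rw [EtOver.w ι] at h1
  exact h1

/-- **S10809** -/
theorem main10809 (X : AlgSp.Space S) (M : AlgSp.ModEt X.obj) [M.IsQuasicoherent]
    (x : AlgSp.Points X.obj) :
    x ∈ AlgSp.WeakAssEt M ↔
      ∀ (E : AlgSp.EtOver X.obj) [IsAffine E.obj.left.left] (u : ↥E.obj.left.left),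
        AlgSp.Points.ofPt E.obj.hom u = x → AlgSp.IsWeakAssOn M E u := by
  have hX : IsAlgSpace X.obj := X.property
  constructor
  · rintro ⟨E₀, hE₀, u₀, hu₀, hw₀⟩ E hE u hu
    haveI := hE₀
    obtain ⟨P, g₀, g, v, hv0, hv⟩ := exists_prod' E₀ E u₀ u (hu₀.trans hu.symm)
    obtain ⟨W, ι, hW, z, hz⟩ := exists_affine_piece P v
    haveI := hW
    have h0 : (ι ≫ g₀).hom.left.left z = u₀ := by
      show g₀.hom.left.left (ι.hom.left.left z) = u₀
      rw [hz, hv0]
    have h1 : (ι ≫ g).hom.left.left z = u := by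
      show g.hom.left.left (ι.hom.left.left z) = u
      rw [hz, hv]
    have t0 := weakAss_transfer hX M (ι ≫ g₀) z
    have t1 := weakAss_transfer hX M (ι ≫ g) z
    rw [h0] at t0
    rw [h1] at t1
    rw [isWeakAssOn_iff] at hw₀ ⊢
    exact t1.1 (t0.2 hw₀)
  · intro h
    obtain ⟨E, hE, u, hu⟩ := exists_affine_chart hX x
    haveI := hE
    exact ⟨E, hE, u, hu, h E u hu⟩

end Groth.Agent.Lib.QCEtH7
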