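import Mathlib
import Groth.Agent.Lib.QCEt13_helper7

/-!
# Sections of quasi-coherent modules on the small étale site are detected on a chart containing
the weakly associated points (helper7)
-/

set_option backward.isDefEq.respectTransparency false
set_option backward.isDefEq.respectTransparency.types false
set_option linter.style.haveILetI false
set_option linter.unusedSectionVars false
set_option linter.unusedVariables false
set_option autoImplicit false
set_option maxHeartbeats 1600000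
set_option maxSynthPendingDepth 3

universe u v

open CategoryTheory Limits Opposite AlgebraicGeometry AlgSp TensorProduct

namespace Groth.Agent.Lib.QCEtH7

open Groth.Agent.Lib.WeakAssEtH7 Groth.Agent.Lib.IdealEtBH7 Groth.Agent.Lib.EtPostcomp_helper7
  Groth.Agent.Lib.EtStalkPt_helper7 Groth.Agent.Lib.AlgSpPoints_helper7
  Groth.Agent.Lib.AlgSpPullback_helper7 Groth.Agent.Lib.AlgSpQC_helper7
  Groth.Agent.Lib.EtNbhd_helper7 Groth.Agent.Lib.WeakAss_helper4

section Algebra

/-- over a flat algebra `B`, the element `1 ⊗ t` is nonzero as soon as some prime of `B`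
contracts to a prime containing the annihilator of `t` -/
theorem tmul_ne_zero_of_flat {A B : Type*} [CommRing A] [CommRing B] [Algebra A B]
    [Module.Flat A B] {N : Type*} [AddCommGroup N] [Module A N] (t : N) (q : Ideal B)
    [hq : q.IsPrime]
    (h : (Submodule.span A {t}).annihilator ≤ q.comap (algebraMap A B)) :
    (1 : B) ⊗ₜ[A] t ≠ 0 := by
  intro h0
  obtain ⟨I, hI⟩ : ∃ I : Ideal A, I = (Submodule.span A {t}).annihilator := ⟨_, rfl⟩
  have hle : I ≤ LinearMap.ker (LinearMap.toSpanSingleton A N t) := by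
    intro a ha
    rw [hI, Submodule.mem_annihilator_span_singleton] at ha
    rw [LinearMap.mem_ker, LinearMap.toSpanSingleton_apply]
    exact ha
  obtain ⟨f, hf⟩ : ∃ f : (A ⧸ I) →ₗ[A] N, ∀ a, f (Ideal.Quotient.mk I a) = a • t :=
    ⟨Submodule.liftQ I (LinearMap.toSpanSingleton A N t) hle, fun a => rfl⟩
  have hfinj : Function.Injective f := by
    rw [injective_iff_map_eq_zero]
    intro x hx
    obtain ⟨a, rfl⟩ := Ideal.Quotient.mk_surjective x
    rw [hf] at hx
    rw [Ideal.Quotient.eq_zero_iff_mem, hI, Submodule.mem_annihilator_span_singleton]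
    exact hx
  have hT := Module.Flat.lTensor_preserves_injective_linearMap (M := B) f hfinj
  have h1 : (1 : B) ⊗ₜ[A] (Ideal.Quotient.mk I 1) = 0 := by
    apply hT
    rw [LinearMap.lTensor_tmul, hf, one_smul, h0, map_zero]
  have hIq : ∀ a ∈ I, (Algebra.ofId A (B ⧸ q)) a = 0 := by
    intro a ha
    show algebraMap A (B ⧸ q) a = 0
    rw [IsScalarTower.algebraMap_apply A B (B ⧸ q), Ideal.Quotient.algebraMap_eq,
      Ideal.Quotient.eq_zero_iff_mem]
    exact h (hI ▸ ha)
  obtain ⟨g, hg⟩ : ∃ g : A ⧸ I →ₐ[A] B ⧸ q, g = Ideal.Quotient.liftₐ I (Algebra.ofId A (B ⧸ q)) hIq :=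
    ⟨_, rfl⟩
  obtain ⟨F, hF⟩ : ∃ F : B ⊗[A] (A ⧸ I) →ₐ[A] B ⧸ q,
      F = Algebra.TensorProduct.productMap (Ideal.Quotient.mkₐ A q) g := ⟨_, rfl⟩
  have h2 : F ((1 : B) ⊗ₜ[A] (Ideal.Quotient.mk I 1)) = 1 := by
    rw [hF, Algebra.TensorProduct.productMap_apply_tmul, map_one, map_one, map_one, one_mul]
  rw [h1, map_zero] at h2
  haveI : Nontrivial (B ⧸ q) := Ideal.Quotient.nontrivial_iff.2 hq.ne_top
  exact zero_ne_one h2

end Algebra

variable {S : Scheme.{u}}

/-- **S10817** -/
theorem main10817 (X : AlgSp.Space S) (M : AlgSp.ModEt X.obj) [M.IsQuasicoherent]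
    (E : AlgSp.EtOver X.obj)
    (hE : AlgSp.WeakAssEt M ⊆ Set.range (AlgSp.Points.ofPt E.obj.hom)) :
    Function.Injective
      (fun s : M.sections => PresheafOfModules.sections.eval s (Opposite.op E)) := by
  have hX : IsAlgSpace X.obj := X.property
  intro s s' hss'
  obtain ⟨d, hd⟩ : ∃ d : ∀ U : (EtOver X.obj)ᵒᵖ, M.val.obj U, ∀ U, d U = s.val U - s'.val U :=
    ⟨_, fun U => rfl⟩
  have hdmap : ∀ {U V : EtOver X.obj} (f : V ⟶ U), resAdd M f (d (op U)) = d (op V) := by
    intro U V f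
    rw [hd, hd, map_sub, resAdd_apply, resAdd_apply]
    have h1 := PresheafOfModules.sections_property s f.op
    have h2 := PresheafOfModules.sections_property s' f.op
    rw [h1, h2]
  have hdE : d (op E) = 0 := by
    rw [hd]
    exact sub_eq_zero.2 hss'
  apply PresheafOfModules.sections_ext
  intro U
  by_contra hne
  obtain ⟨E', rfl⟩ : ∃ E' : EtOver X.obj, U = op E' := ⟨U.unop, rfl⟩
  have hdne : d (op E') ≠ 0 := by
    rw [hd]
    intro h0
    exact hne (sub_eq_zero.1 h0)
  obtain ⟨W, g, hW, hgne⟩ := exists_affine_restrict_ne_zero (d (op E')) hdne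
  haveI := hW
  obtain ⟨t, ht⟩ : ∃ t : Sec M W, t = d (op W) := ⟨_, rfl⟩
  have htne : t ≠ 0 := by
    rw [ht, ← hdmap g]
    exact hgne
  obtain ⟨p, hp, hannp⟩ := exists_mem_weakAss_of_ne_zero (R := Rg W) htne
  haveI hpp : p.IsPrime := isPrime_of_mem_weakAss hp
  obtain ⟨w, hw⟩ := exists_primeUp_eq W p
  have hwass : IsWeakAssOn M W w := by
    rw [isWeakAssOn_iff, hw]
    exact hp
  have hx : Points.ofPt W.obj.hom w ∈ WeakAssEt M := ⟨W, hW, w, rfl, hwass⟩
  obtain ⟨e, he⟩ := hE hx
  obtain ⟨P, g₁, g₂, v, hv1, hv2⟩ := exists_prod' W E w e he.symm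
  obtain ⟨V, ι, hV, z, hz⟩ := exists_affine_piece P v
  haveI := hV
  have hhz : (ι ≫ g₁).hom.left.left z = w := by
    show g₁.hom.left.left (ι.hom.left.left z) = w
    rw [hz, hv1]
  have hdV : d (op V) = 0 := by
    rw [← hdmap (ι ≫ g₂), hdE, map_zero]
  have hres : resAdd M (ι ≫ g₁) t = 0 := by
    rw [ht, hdmap, hdV]
  obtain ⟨hsemi, hbc⟩ := bc_qc M hX (ι ≫ g₁)
  letI alg : Algebra (Rg W) (Rg V) := (resRing (ι ≫ g₁)).toAlgebra
  haveI hflat : Module.Flat (Rg W) (Rg V) := flat_resRing (ι ≫ g₁)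
  letI := modAlong (resRing (ι ≫ g₁)) (Sec M V)
  haveI := towerAlong (resRing (ι ≫ g₁)) (Sec M V)
  have hle : (Submodule.span (Rg W) {t}).annihilator ≤
      (primeUp V z).comap (algebraMap (Rg W) (Rg V)) := by
    have h1 : (primeUp V z).comap (algebraMap (Rg W) (Rg V)) = p := by
      show (primeUp V z).comap (resRing (ι ≫ g₁)) = p
      rw [primeUp_comap, hhz, hw]
    rw [h1]
    exact hannp
  have hne1 := tmul_ne_zero_of_flat (A := Rg W) (B := Rg V) t (primeUp V z) hle
  apply hne1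
  apply hbc.equiv.injective
  rw [IsBaseChange.equiv_tmul, map_zero, one_smul]
  exact hres

end Groth.Agent.Lib.QCEtH7
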