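import Mathlib
import Groth.Agent.Lib.QCEt14_helper7
import Groth.Agent.Lib.AlgSpNoethDesc_helper7

/-!
# Weakly associated points of pushforwards of quasi-coherent modules along affine morphisms
(helper7)
-/

set_option backward.isDefEq.respectTransparency false
set_option backward.isDefEq.respectTransparency.types false
set_option linter.style.haveILetI false
set_option linter.unusedSectionVars false
set_option linter.unusedVariables false
set_option autoImplicit false
set_option maxHeartbeats 1600000
set_option maxSynthPendingDepth 3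

universe u v

open CategoryTheory Limits Opposite AlgebraicGeometry AlgSp TensorProduct

namespace Groth.Agent.Lib.QCEtH7

open Groth.Agent.Lib.WeakAssEtH7 Groth.Agent.Lib.IdealEtBH7 Groth.Agent.Lib.EtPostcomp_helper7
  Groth.Agent.Lib.EtStalkPt_helper7 Groth.Agent.Lib.AlgSpPoints_helper7
  Groth.Agent.Lib.AlgSpPullback_helper7 Groth.Agent.Lib.AlgSpQC_helper7
  Groth.Agent.Lib.EtNbhd_helper7 Groth.Agent.Lib.WeakAss_helper4

variable {S : Scheme.{u}}

theorem locNoeth_of_etale_chart' {P : Sp S} (hP : IsLocNoethSp P) {T : Over S}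
    (p : (yon S).obj T ⟶ P) (hp : RepWith @Etale p) : IsLocallyNoetherian T.left := by
  obtain ⟨W, c, hce, hcs, hWn⟩ := hP
  have sq := hce.rep.isPullback' p
  haveI : Etale (hce.rep.fst' p).left := hp.property c _ _ sq.flip
  haveI : Etale (hce.rep.snd p).left := hce.property_snd p
  haveI : Surjective (hce.rep.snd p).left := hcs.property _ _ _ (hce.rep.isPullback p)
  haveI : IsLocallyNoetherian W.left := hWn
  haveI : IsLocallyNoetherian (hce.rep.pullback p).left :=
    LocallyOfFiniteType.isLocallyNoetherian (hce.rep.fst' p).left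
  exact Groth.Agent.Lib.AlgSpNoethDesc_helper7.isLocallyNoetherian_of_flat_of_surjective
    (hce.rep.snd p).left (hce.rep.snd p).left.isOpenMap

theorem isNoetherianRing_of_chart {X : Sp S} (hX : IsLocNoethSp X) (E : EtOver X)
    [IsAffine E.obj.left.left] : IsNoetherianRing Γ(E.obj.left.left, ⊤) := by
  haveI := locNoeth_of_etale_chart' hX E.obj.hom E.property
  exact IsLocallyNoetherian.component_noetherian ⟨⊤, isAffineOpen_top _⟩

/-- points of the base change of a chart -/
theorem exists_lift_pt {X Y : Sp S} (f : X ⟶ Y) (hf : AlgSp.Representable f) (V : EtOver Y)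
    (v : V.obj.left.left) (x : Points X) (h : Points.ofPt V.obj.hom v = Points.map f x) :
    ∃ u' : ((EtOver.bc hf).obj V).obj.left.left,
      Points.ofPt ((EtOver.bc hf).obj V).obj.hom u' = x ∧ (hf.snd V.obj.hom).left u' = v := by
  have sq := EtOver.isPullback_bcObj hf V
  have h' : Points.map f x = Points.map V.obj.hom (Points.ofScheme V.obj.left v) := by
    rw [← Points.ofPt_eq_map_ofScheme]
    exact h.symm
  obtain ⟨z, hz1, hz2⟩ := exists_of_isPullback sq x _ h'
  obtain ⟨u', rfl⟩ := (Points.schemeEquiv _).surjective z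
  refine ⟨u', ?_, ?_⟩
  · rw [Points.ofPt_eq_map_ofScheme]
    exact hz1
  · apply (Points.schemeEquiv V.obj.left).injective
    change Points.ofScheme _ _ = Points.ofScheme _ _
    rw [← hz2]
    change _ = Points.map _ (Points.ofScheme _ u')
    rw [← Points.ofPt_eq_map_ofScheme, ofPt_yon_map]
    rfl

/-- the key reduction for the inclusion `f(WeakAss M) ⊆ WeakAss(f_* M)`: over an affine chart `V`
of `Y` through `f(x)` with affine base change `U`, some point of `U` over `x` and `v` is weakly
associated on `U`. -/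
theorem exists_lift_weakAss (X Y : AlgSp.Space S) (f : X ⟶ Y) (hf : AlgSp.Representable f.hom)
    (M : AlgSp.ModEt X.obj) [M.IsQuasicoherent] (x : Points X.obj) (hx : x ∈ WeakAssEt M)
    (V : EtOver Y.obj) (v : V.obj.left.left)
    (hv : Points.ofPt V.obj.hom v = Points.map f.hom x)
    [IsAffine ((EtOver.bc hf).obj V).obj.left.left] :
    ∃ u' : ((EtOver.bc hf).obj V).obj.left.left,
      (hf.snd V.obj.hom).left u' = v ∧ IsWeakAssOn M ((EtOver.bc hf).obj V) u' := by
  obtain ⟨u', hu'x, hu'v⟩ := exists_lift_pt f.hom hf V v x hv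
  exact ⟨u', hu'v, (main10809 X M x).1 hx _ u' hu'x⟩

/-- a section of `M` over the base change of `V`, seen as a section of `f_* M` over `V` -/
theorem annSect_push (X Y : AlgSp.Space S) (f : X ⟶ Y) (hf : AlgSp.Representable f.hom)
    (M : AlgSp.ModEt X.obj) (V : EtOver Y.obj) (s : sectModEt M ((EtOver.bc hf).obj V)) :
    ∃ t : sectModEt ((AlgSp.pushModEt hf).obj M) V,
      annSect t = Ideal.comap (hf.snd V.obj.hom).left.appTop.hom (annSect s) := by
  refine ⟨s, ?_⟩
  ext b
  exact Iff.rfl

/-- **S10816** -/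
theorem main10816 (X Y : AlgSp.Space S) (f : X ⟶ Y) (hf : AlgSp.Representable f.hom)
    (haff : AlgSp.IsAffineMor f.hom) (hX : AlgSp.IsLocNoethSp X.obj)
    (M : AlgSp.ModEt X.obj) [M.IsQuasicoherent] :
    AlgSp.WeakAssEt ((AlgSp.pushModEt hf).obj M) =
      AlgSp.Points.map f.hom '' AlgSp.WeakAssEt M := by
  apply Set.Subset.antisymm (main10818 X Y f hf haff M)
  rintro y ⟨x, hx, rfl⟩
  obtain ⟨V, hV, v, hv⟩ := exists_affine_chart Y.property (Points.map f.hom x)
  haveI := hV
  have haffH : RepWith @IsAffineHom f.hom :=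
    Groth.Agent.Lib.LimTowerH7.repWith_isAffineHom_of_isAffineMor f.hom haff
  haveI hah : IsAffineHom (hf.snd V.obj.hom).left :=
    haffH.2 V.obj.hom (hf.fst V.obj.hom) (hf.snd V.obj.hom) (hf.isPullback V.obj.hom)
  haveI hU : IsAffine ((EtOver.bc hf).obj V).obj.left.left :=
    isAffine_of_isAffineHom (hf.snd V.obj.hom).left
  obtain ⟨u', hu'v, s', hs'⟩ := exists_lift_weakAss X Y f hf M x hx V v hv
  haveI hN : IsNoetherianRing Γ(((EtOver.bc hf).obj V).obj.left.left, ⊤) :=
    isNoetherianRing_of_chart hX _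
  obtain ⟨s'', hs''⟩ : ∃ s'' : sectModEt M ((EtOver.bc hf).obj V),
      primeAtPt ((EtOver.bc hf).obj V).obj.left.left u' = annSect s'' := by
    letI : Module Γ(((EtOver.bc hf).obj V).obj.left.left, ⊤)
        (sectModEt M ((EtOver.bc hf).obj V)) :=
      Module.compHom _ (upΓ ((EtOver.bc hf).obj V))
    have h1 : ∀ s : sectModEt M ((EtOver.bc hf).obj V), annSect s =
        (⊥ : Submodule Γ(((EtOver.bc hf).obj V).obj.left.left, ⊤)
          (sectModEt M ((EtOver.bc hf).obj V))).colon {s} := by
      intro s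
      ext a
      rw [mem_annSect_iff, Submodule.mem_colon_singleton, Submodule.mem_bot]
      exact Iff.rfl
    rw [h1] at hs'
    obtain ⟨x', hx'⟩ := Submodule.exists_eq_colon_of_mem_minimalPrimes hs'
    exact ⟨x', hx'.trans (h1 x').symm⟩
  obtain ⟨t, ht⟩ := annSect_push X Y f hf M V s''
  refine ⟨V, hV, v, hv, t, ?_⟩
  have h2 : Ideal.comap (hf.snd V.obj.hom).left.appTop.hom
      (primeAtPt ((EtOver.bc hf).obj V).obj.left.left u') = primeAtPt V.obj.left.left v := by
    have h3 := primeAtPt_comap (hf.snd V.obj.hom).left u'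
    rw [hu'v] at h3
    exact h3
  rw [ht, ← hs'', h2, Ideal.minimalPrimes_eq_subsingleton_self]
  exact Set.mem_singleton _

end Groth.Agent.Lib.QCEtH7
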