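import Mathlib
import Groth.Agent.Lib.QCEt4_helper7

/-!
# Descent of generation and finiteness along a jointly faithfully flat family (helper7)
-/

set_option backward.isDefEq.respectTransparency false
set_option backward.isDefEq.respectTransparency.types false
set_option linter.style.haveILetI false
set_option linter.unusedSectionVars false
set_option linter.unusedVariables false
set_option autoImplicit false
set_option maxHeartbeats 1600000
set_option maxSynthPendingDepth 3

open TensorProduct

namespace Groth.Agent.Lib.QCEtH7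

noncomputable section

section LocalSpan

variable {A : Type*} [CommRing A] {K : Type*} (Ac : K → Type*) [∀ c, CommRing (Ac c)]
  (φ : ∀ c, A →+* Ac c)

/-- **descent of span membership for modules**: if after every base change of a jointly
faithfully flat family the image of `n` lies in the span of the image of `T`, then `n` lies in
the span of `T`. -/
theorem mem_span_of_local (hflat : ∀ c, (φ c).Flat)
    (hJ : @JointSurj A _ K Ac _ (fun c => (φ c).toAlgebra))
    {N : Type*} [AddCommGroup N] [Module A N] {N' : K → Type*} [∀ c, AddCommGroup (N' c)]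
    [∀ c, Module (Ac c) (N' c)] (ρ : ∀ c, N →+ N' c) (hρ : ∀ c, IsBCAlong (φ c) (ρ c))
    (T : Set N) (n : N) (h : ∀ c, ρ c n ∈ Submodule.span (Ac c) (ρ c '' T)) :
    n ∈ Submodule.span A T := by
  letI alg : ∀ c, Algebra A (Ac c) := fun c => (φ c).toAlgebra
  haveI flat : ∀ c, Module.Flat A (Ac c) := fun c => hflat c
  letI mods : ∀ c, Module A (N' c) := fun c => modAlong (φ c) (N' c)
  haveI tows : ∀ c, IsScalarTower A (Ac c) (N' c) := fun c => towerAlong (φ c) (N' c)
  have hq : (Submodule.Quotient.mk n : N ⧸ Submodule.span A T) = 0 := by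
    apply ff_zero Ac hJ
    intro c
    obtain ⟨hsemi, hb⟩ := hρ c
    obtain ⟨Ψ, hΨ⟩ : ∃ Ψ : N' c →ₗ[Ac c] Ac c ⊗[A] (N ⧸ Submodule.span A T),
        ∀ m : N, Ψ (ρ c m) = (1 : Ac c) ⊗ₜ[A] (Submodule.Quotient.mk m) := by
      refine ⟨(TensorProduct.AlgebraTensorModule.lTensor (Ac c) (Ac c)
        (Submodule.mkQ (Submodule.span A T))).comp hb.equiv.symm.toLinearMap, fun m => ?_⟩
      rw [LinearMap.comp_apply]
      have h1 : hb.equiv.symm (ρ c m) = (1 : Ac c) ⊗ₜ[A] m := hb.equiv_symm_apply m
      show (TensorProduct.AlgebraTensorModule.lTensor (Ac c) (Ac c)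
        (Submodule.mkQ (Submodule.span A T))) (hb.equiv.symm (ρ c m)) = _
      rw [h1, TensorProduct.AlgebraTensorModule.lTensor_tmul]
      rfl
    rw [← hΨ]
    have hker : Submodule.span (Ac c) (ρ c '' T) ≤ LinearMap.ker Ψ := by
      rw [Submodule.span_le]
      rintro _ ⟨t, ht, rfl⟩
      rw [SetLike.mem_coe, LinearMap.mem_ker, hΨ]
      have h2 : (Submodule.Quotient.mk t : N ⧸ Submodule.span A T) = 0 :=
        (Submodule.Quotient.mk_eq_zero _).2 (Submodule.subset_span ht)
      rw [h2, TensorProduct.tmul_zero]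
    exact hker (h c)
  exact (Submodule.Quotient.mk_eq_zero _).1 hq

/-- **descent of finiteness** along a finite jointly faithfully flat family -/
theorem finite_of_local [Finite K] (hflat : ∀ c, (φ c).Flat)
    (hJ : @JointSurj A _ K Ac _ (fun c => (φ c).toAlgebra))
    {N : Type*} [AddCommGroup N] [Module A N] {N' : K → Type*} [∀ c, AddCommGroup (N' c)]
    [∀ c, Module (Ac c) (N' c)] (ρ : ∀ c, N →+ N' c) (hρ : ∀ c, IsBCAlong (φ c) (ρ c))
    (hfin : ∀ c, Module.Finite (Ac c) (N' c)) : Module.Finite A N := by
  classical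
  letI alg : ∀ c, Algebra A (Ac c) := fun c => (φ c).toAlgebra
  letI mods : ∀ c, Module A (N' c) := fun c => modAlong (φ c) (N' c)
  haveI tows : ∀ c, IsScalarTower A (Ac c) (N' c) := fun c => towerAlong (φ c) (N' c)
  -- finite subsets of `N` whose images generate
  have hT : ∀ c, ∃ Tc : Finset N, Submodule.span (Ac c) (ρ c '' (Tc : Set N)) = ⊤ := by
    intro c
    obtain ⟨hsemi, hb⟩ := hρ c
    have hb' : IsBaseChange (Ac c) (linAlong (φ c) (ρ c) hsemi) := hb
    have hspan : Submodule.span (Ac c) (Set.range (ρ c)) = ⊤ := by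
      rw [eq_top_iff]
      intro x hx
      clear hx
      induction x using hb'.inductionOn with
      | zero => exact Submodule.zero_mem _
      | tmul m => exact Submodule.subset_span ⟨m, rfl⟩
      | smul s n hn => exact Submodule.smul_mem _ s hn
      | add n₁ n₂ h₁ h₂ => exact Submodule.add_mem _ h₁ h₂
    have hfg : (Submodule.span (Ac c) (Set.range (ρ c))).FG := by
      rw [hspan]
      exact (hfin c).fg_top
    obtain ⟨s', hs', hs'eq⟩ := (Submodule.fg_span_iff_fg_span_finset_subset _).1 hfg
    have hpre : ∀ y ∈ s', ∃ m : N, ρ c m = y := fun y hy => hs' hy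
    choose! pre hpre' using hpre
    refine ⟨s'.image pre, ?_⟩
    rw [← hspan, hs'eq]
    apply le_antisymm
    · rw [Submodule.span_le]
      rintro _ ⟨t, ht, rfl⟩
      rw [Finset.coe_image] at ht
      obtain ⟨y, hy, rfl⟩ := ht
      rw [hpre' y hy]
      exact Submodule.subset_span hy
    · rw [Submodule.span_le]
      intro y hy
      apply Submodule.subset_span
      refine ⟨pre y, ?_, hpre' y hy⟩
      rw [Finset.coe_image]
      exact ⟨y, hy, rfl⟩
  choose Tc hTc using hT
  haveI := Fintype.ofFinite K
  obtain ⟨T, hTdef⟩ : ∃ T : Finset N, T = Finset.univ.biUnion Tc := ⟨_, rfl⟩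
  have hspanT : Submodule.span A (T : Set N) = ⊤ := by
    rw [eq_top_iff]
    intro n _
    apply mem_span_of_local Ac φ hflat hJ ρ hρ (T : Set N) n
    intro c
    have h1 : Submodule.span (Ac c) (ρ c '' (Tc c : Set N)) ≤
        Submodule.span (Ac c) (ρ c '' (T : Set N)) := by
      apply Submodule.span_mono
      apply Set.image_mono
      intro t ht
      rw [hTdef, Finset.coe_biUnion]
      exact Set.mem_iUnion₂.2 ⟨c, Finset.mem_univ c, ht⟩
    apply h1
    rw [hTc c]
    trivial
  exact ⟨⟨T, hspanT⟩⟩

end LocalSpan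

end

end Groth.Agent.Lib.QCEtH7
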