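import Mathlib
import Groth.Agent.Lib.QCEt13_helper7
import Groth.Agent.Lib.QCEt18_helper7

/-!
# Sections of quasi-coherent modules of finite type over affine objects are finite modules
(helper7)
-/

set_option backward.isDefEq.respectTransparency false
set_option backward.isDefEq.respectTransparency.types false
set_option linter.style.haveILetI false
set_option linter.unusedSectionVars false
set_option linter.unusedVariables false
set_option autoImplicit false
set_option maxHeartbeats 1600000
set_option maxSynthPendingDepth 3

universe u v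

open CategoryTheory Limits Opposite AlgebraicGeometry AlgSp TensorProduct

namespace Groth.Agent.Lib.QCEtH7

open Groth.Agent.Lib.WeakAssEtH7 Groth.Agent.Lib.IdealEtBH7 Groth.Agent.Lib.EtPostcomp_helper7
  Groth.Agent.Lib.EtStalkPt_helper7

variable {S : Scheme.{u}} {X : Sp S} (M : ModEt X)

/-- the value of a global section of `M.over Y` on an object over `Y` -/
noncomputable def secOver (Y : EtOver X) (s : (M.over Y).sections) {E : EtOver X} (a : E ⟶ Y) :
    Sec M E :=
  s.val (op (Over.mk a))

theorem secOver_res (Y : EtOver X) (s : (M.over Y).sections) {E' E : EtOver X} (g : E' ⟶ E)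
    (a : E ⟶ Y) : resAdd M g (secOver M Y s a) = secOver M Y s (g ≫ a) :=
  PresheafOfModules.sections_property s (ovHom Y g a).op

/-- over an affine object lying over `Y`, global generating sections of `M.over Y` span the module
of sections of a quasi-coherent module -/
theorem span_gen_eq_top (hX : IsAlgSpace X) [M.IsQuasicoherent] (Y : EtOver X)
    (G : (M.over Y).GeneratingSections) {E : EtOver X} [IsAffine E.obj.left.left] (a : E ⟶ Y) :
    Submodule.span (Rg E) (Set.range fun i => secOver M Y (G.s i) a) = ⊤ := by
  rw [eq_top_iff]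
  intro n _
  have hmem := genSieve_mem (M.over Y) G.s (Over.mk a) n
  obtain ⟨m, W, g, hW, hg, hcov⟩ := exists_refinement_over Y hX a _ hmem
  haveI := hW
  apply mem_span_of_local (fun k => Rg (W k)) (fun k => resRing (g k))
    (fun k => flat_resRing (g k)) (jointSurj_of_cover W g hcov) (fun k => resAdd M (g k))
    (fun k => bc_qc M hX (g k)) _ n
  intro k
  have h1 := hg k
  rw [genSieve_apply] at h1
  have h2 : (Set.range fun i => (G.s i).val (op (Over.mk (g k ≫ a)))) =
      (resAdd M (g k)) '' (Set.range fun i => secOver M Y (G.s i) a) := by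
    ext y
    constructor
    · rintro ⟨i, rfl⟩
      exact ⟨secOver M Y (G.s i) a, ⟨i, rfl⟩, secOver_res M Y (G.s i) (g k) a⟩
    · rintro ⟨_, ⟨i, rfl⟩, rfl⟩
      exact ⟨i, (secOver_res M Y (G.s i) (g k) a).symm⟩
  unfold genSpan at h1
  exact h2 ▸ h1

theorem finite_sec_over (hX : IsAlgSpace X) [M.IsQuasicoherent] (Y : EtOver X)
    (G : (M.over Y).GeneratingSections) [hG : G.IsFiniteType] {E : EtOver X}
    [IsAffine E.obj.left.left] (a : E ⟶ Y) : Module.Finite (Rg E) (Sec M E) := by
  have h := span_gen_eq_top M hX Y G a
  refine ⟨⟨(Set.finite_range fun i => secOver M Y (G.s i) a).toFinset, ?_⟩⟩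
  rw [Set.Finite.coe_toFinset]
  exact h

/-- **sections of a quasi-coherent module of finite type over an affine object form a finite
module** -/
theorem finite_sec (hX : IsAlgSpace X) [M.IsQuasicoherent] [M.IsFiniteType] (E : EtOver X)
    [IsAffine E.obj.left.left] : Module.Finite (Rg E) (Sec M E) := by
  obtain ⟨σ, hσ⟩ := SheafOfModules.IsFiniteType.exists_localGeneratorsData M
  obtain ⟨n, W, gk, hW, hT, hcov⟩ := exists_finite_affine_refinement hX
    (Sieve.ofObjects σ.X E) (σ.coversTop E)
  have h1 : ∀ k, ∃ i, Nonempty (W k ⟶ σ.X i) := fun k => (Sieve.mem_ofObjects_iff _ _).1 (hT k)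
  choose i hi using h1
  haveI := hW
  apply finite_of_local (fun k => Rg (W k)) (fun k => resRing (gk k))
    (fun k => flat_resRing (gk k)) (jointSurj_of_cover W gk hcov) (fun k => resAdd M (gk k))
    (fun k => bc_qc M hX (gk k))
  intro k
  haveI := hσ.isFiniteType (i k)
  exact finite_sec_over M hX (σ.X (i k)) (σ.generators (i k)) (hi k).some

end Groth.Agent.Lib.QCEtH7
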