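import Mathlib
import Groth.Agent.Lib.QCEt15_helper7
import Groth.Agent.Lib.QCEt19_helper7

/-!
# Finiteness of the associated points of a coherent module in a quasi-compact open (helper7)
-/

set_option backward.isDefEq.respectTransparency false
set_option backward.isDefEq.respectTransparency.types false
set_option linter.style.haveILetI false
set_option linter.unusedSectionVars false
set_option linter.unusedVariables false
set_option autoImplicit false
set_option maxHeartbeats 1600000
set_option maxSynthPendingDepth 3

universe u v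

open CategoryTheory Limits Opposite AlgebraicGeometry AlgSp TensorProduct

namespace Groth.Agent.Lib.QCEtH7

open Groth.Agent.Lib.WeakAssEtH7 Groth.Agent.Lib.IdealEtBH7 Groth.Agent.Lib.EtPostcomp_helper7
  Groth.Agent.Lib.EtStalkPt_helper7 Groth.Agent.Lib.AlgSpPoints_helper7
  Groth.Agent.Lib.AlgSpPullback_helper7 Groth.Agent.Lib.AlgSpQC_helper7
  Groth.Agent.Lib.EtNbhd_helper7 Groth.Agent.Lib.WeakAss_helper4

section Algebra

/-- over a Noetherian ring the weakly associated primes of a finite module are finite in number -/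
theorem weakAss_finite {R : Type*} [CommRing R] [IsNoetherianRing R] {N : Type*} [AddCommGroup N]
    [Module R N] [Module.Finite R N] : (FlatCA.weakAss R N).Finite := by
  apply (associatedPrimes.finite R N).subset
  rintro p ⟨m, hm⟩
  have h1 : (Submodule.span R {m}).annihilator = (⊥ : Submodule R N).colon {m} := by
    ext a
    rw [Submodule.mem_annihilator_span_singleton, Submodule.mem_colon_singleton,
      Submodule.mem_bot]
  rw [h1] at hm
  obtain ⟨x', hx'⟩ := Submodule.exists_eq_colon_of_mem_minimalPrimes hm
  exact isAssociatedPrime_iff.2 ⟨hm.1.1, x', hx'⟩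

end Algebra

variable {S : Scheme.{u}} {X : Sp S}

theorem primeUp_injective (E : EtOver X) [IsAffine E.obj.left.left] :
    Function.Injective (primeUp E) := by
  intro u₁ u₂ h
  apply primeAtPt_injective E.obj.left.left
  ext a
  have h1 := congrArg (fun I : Ideal (Rg E) => (ULift.up a : Rg E) ∈ I) h
  exact Iff.of_eq h1

/-- on an affine chart of a locally Noetherian algebraic space, a quasi-coherent module of finite
type has finitely many weakly associated points -/
theorem finite_weakAssOn (hX : IsAlgSpace X) (hN : IsLocNoethSp X) (M : ModEt X)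
    [M.IsQuasicoherent] [M.IsFiniteType] (E : EtOver X) [IsAffine E.obj.left.left] :
    {u : E.obj.left.left | IsWeakAssOn M E u}.Finite := by
  haveI h0 : IsNoetherianRing Γ(E.obj.left.left, ⊤) := isNoetherianRing_of_chart hN E
  haveI h1 : IsNoetherianRing (Rg E) :=
    isNoetherianRing_of_ringEquiv _ (ULift.ringEquiv.{u, u + 1} (R := Γ(E.obj.left.left, ⊤))).symm
  haveI h2 : Module.Finite (Rg E) (Sec M E) := finite_sec M hX E
  have h3 : {u : E.obj.left.left | IsWeakAssOn M E u} =
      (primeUp E) ⁻¹' (FlatCA.weakAss (Rg E) (Sec M E)) := by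
    ext u
    exact isWeakAssOn_iff M E u
  rw [h3]
  exact Set.Finite.preimage ((primeUp_injective E).injOn) weakAss_finite

variable {S : Scheme.{u}}

/-- **S10812** -/
theorem main10812 (X : AlgSp.Space S) (hX : AlgSp.IsLocNoethSp X.obj) (M : AlgSp.ModEt X.obj)
    [M.IsQuasicoherent] [M.IsFiniteType] (W : Set (AlgSp.Points X.obj)) (hWo : IsOpen W)
    (hWc : IsCompact W) : (AlgSp.WeakAssEt M ∩ W).Finite := by
  have hAS : IsAlgSpace X.obj := X.property
  choose E hE u hu using fun x : Points X.obj => exists_affine_chart hAS x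
  have hopen : ∀ x, IsOpen (Set.range (Points.ofPt (E x).obj.hom)) := fun x =>
    (isOpenMap_ofPt_of_etale (E x).obj.hom (E x).property).isOpen_range
  obtain ⟨t, ht⟩ := hWc.elim_finite_subcover (fun x => Set.range (Points.ofPt (E x).obj.hom))
    hopen (fun x _ => Set.mem_iUnion.2 ⟨x, u x, hu x⟩)
  have hfin : ∀ x, ((Points.ofPt (E x).obj.hom) ''
      {v : (E x).obj.left.left | @IsWeakAssOn _ _ M (E x) (hE x) v}).Finite := by
    intro x
    haveI := hE x
    exact (finite_weakAssOn hAS hX M (E x)).image _
  apply (Set.Finite.biUnion t.finite_toSet (fun x _ => hfin x)).subset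
  rintro y ⟨hy1, hy2⟩
  have h1 := ht hy2
  rw [Set.mem_iUnion₂] at h1
  obtain ⟨x, hxt, v, hv⟩ := h1
  rw [Set.mem_iUnion₂]
  refine ⟨x, hxt, v, ?_, hv⟩
  haveI := hE x
  exact (main10809 X M y).1 hy1 (E x) v hv

end Groth.Agent.Lib.QCEtH7
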