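import Mathlib
import Groth.Agent.Lib.QCEt7_helper7

/-!
# Converse local criteria for generators and relations of sheaves of modules (helper7)
-/

set_option backward.isDefEq.respectTransparency false
set_option backward.isDefEq.respectTransparency.types false
set_option linter.style.haveILetI false
set_option linter.unusedSectionVars false
set_option linter.unusedVariables false
set_option autoImplicit false
set_option maxHeartbeats 1600000
set_option maxSynthPendingDepth 3

universe u v

open CategoryTheory Limits Opposite

namespace Groth.Agent.Lib.QCEtH7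

variable {C : Type (v + 1)} [Category.{v} C] {J : GrothendieckTopology C}
  {R : Sheaf J RingCat.{v + 1}}
  [HasSheafify J AddCommGrpCat.{v + 1}] [J.WEqualsLocallyBijective AddCommGrpCat.{v + 1}]

section Epi

variable (N : SheafOfModules.{v + 1} R) {I : Type (v + 1)} (s : I → N.sections)

/-- **local generation implies generation** -/
theorem epi_of_genSieve_mem
    (h : ∀ (U : C) (n : N.val.obj (op U)), genSieve N s U n ∈ J U) :
    Epi (N.freeHomEquiv.symm s) := by
  apply Preadditive.epi_of_cancel_zero
  intro Q g hg
  apply SheafOfModules.hom_ext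
  apply PresheafOfModules.hom_ext
  intro U
  apply ModuleCat.hom_ext
  apply LinearMap.ext
  intro n
  show (g.val.app U).hom n = 0
  obtain ⟨U0, rfl⟩ : ∃ U0, U = op U0 := ⟨U.unop, rfl⟩
  apply eq_zero_of_sieve Q U0 _ (genSieve N s U0 n) (h U0 n)
  intro V f hf
  rw [genSieve_apply, mem_genSpan_iff] at hf
  obtain ⟨x, hx⟩ := hf
  have h1 := PresheafOfModules.naturality_apply g.val f.op n
  have h2 := congrArg (fun φ : SheafOfModules.free (R := R) I ⟶ Q => (φ.val.app (op V)).hom
    (lcOf (SheafOfModules.free (R := R) I) SheafOfModules.freeSection (op V) x)) hg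
  have h3 : (g.val.app (op V)).hom (((N.freeHomEquiv.symm s).val.app (op V)).hom
      (lcOf (SheafOfModules.free (R := R) I) SheafOfModules.freeSection (op V) x)) = 0 := h2
  rw [freeHom_lcOf, hx] at h3
  exact h1.symm.trans h3

end Epi

section KernelSections

variable {M N : SheafOfModules.{v + 1} R} (π : M ⟶ N)

theorem unitHomEquiv_symm_eq_zero (t : N.sections) (ht : ∀ U, t.val U = 0) :
    N.unitHomEquiv.symm t = 0 := by
  apply N.unitHomEquiv.injective
  rw [Equiv.apply_symm_apply]
  apply PresheafOfModules.sections_ext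
  intro U
  rw [ht U]
  rfl

/-- a global section killed by `π` lifts to the kernel -/
noncomputable def kerSec (ρ : M.sections) (h : ∀ U, (π.val.app U).hom (ρ.val U) = 0) :
    (kernel π).sections :=
  (kernel π).unitHomEquiv (kernel.lift π (M.unitHomEquiv.symm ρ) (by
    rw [SheafOfModules.unitHomEquiv_symm_comp]
    exact unitHomEquiv_symm_eq_zero _ (fun U => h U)))

theorem sectionsMap_kerSec (ρ : M.sections) (h : ∀ U, (π.val.app U).hom (ρ.val U) = 0) :
    SheafOfModules.sectionsMap (kernel.ι π) (kerSec π ρ h) = ρ := by
  unfold kerSec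
  rw [← SheafOfModules.unitHomEquiv_comp_apply, kernel.lift_ι, Equiv.apply_symm_apply]

theorem app_injective_of_mono' {M' N' : SheafOfModules.{v + 1} R} (f : M' ⟶ N') [Mono f]
    (U : Cᵒᵖ) : Function.Injective (f.val.app U).hom := by
  haveI : Mono ((SheafOfModules.evaluation R U).map f) := inferInstance
  exact (ModuleCat.mono_iff_injective _).1 this

end KernelSections

section Rel

variable {I : Type (v + 1)}

theorem app_lcOf {M M' : SheafOfModules.{v + 1} R} (φ : M ⟶ M') {K : Type (v + 1)}
    (r : K → M.sections) (U : Cᵒᵖ) (c : K →₀ R.obj.obj U) :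
    (φ.val.app U).hom (lcOf M r U c) =
      lcOf M' (fun k => SheafOfModules.sectionsMap φ (r k)) U c := by
  induction c using Finsupp.induction_linear with
  | zero => rw [map_zero, map_zero, map_zero]
  | add x y hx hy => rw [map_add, map_add, map_add, hx, hy]
  | single i a =>
    rw [lcOf_single, lcOf_single, map_smul]
    rfl

theorem mem_genSpan_of_app_mem {M M' : SheafOfModules.{v + 1} R} (φ : M ⟶ M') [Mono φ]
    {K : Type (v + 1)} (r : K → M.sections) (U : Cᵒᵖ) (y : M.val.obj U)
    (hy : (φ.val.app U).hom y ∈ genSpan M' (fun k => SheafOfModules.sectionsMap φ (r k)) U) :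
    y ∈ genSpan M r U := by
  rw [mem_genSpan_iff] at hy ⊢
  obtain ⟨c, hc⟩ := hy
  refine ⟨c, ?_⟩
  apply app_injective_of_mono' φ U
  rw [app_lcOf, hc]

variable (N : SheafOfModules.{v + 1} R) (s : I → N.sections)

/-- **local relations imply relations**: if every coefficient vector killed by the generators is
locally a combination of the relations `r`, then `r` generates the kernel. -/
theorem epi_kernel_of_relSieve_mem {K : Type (v + 1)}
    (r : K → (kernel (N.freeHomEquiv.symm s)).sections)
    (h : ∀ (U : C) (x : I →₀ R.obj.obj (op U)), lcOf N s (op U) x = 0 →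
      relSieve (relSec N s r) U x ∈ J U) :
    Epi ((kernel (N.freeHomEquiv.symm s)).freeHomEquiv.symm r) := by
  apply epi_of_genSieve_mem
  intro U k
  obtain ⟨t, ht⟩ : ∃ t, t = ((kernel.ι (N.freeHomEquiv.symm s)).val.app (op U)).hom k :=
    ⟨_, rfl⟩
  have hS1 := free_genSieve_mem (R := R) (I := I) U t
  refine J.transitive hS1 _ ?_
  intro V f hf
  rw [genSieve_pullback]
  rw [genSieve_apply, mem_genSpan_iff] at hf
  obtain ⟨x, hx⟩ := hf
  have hnat := PresheafOfModules.naturality_apply (kernel.ι (N.freeHomEquiv.symm s)).val f.op k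
  have hx0 : lcOf N s (op V) x = 0 := by
    rw [← freeHom_lcOf, hx, ht, ← hnat]
    have hc := kernel.condition (N.freeHomEquiv.symm s)
    have hc2 := congrArg (fun φ : kernel (N.freeHomEquiv.symm s) ⟶ N =>
      (φ.val.app (op V)).hom ((kernel (N.freeHomEquiv.symm s)).val.map f.op k)) hc
    exact hc2
  refine J.superset_covering ?_ (h V x hx0)
  intro W g hg
  rw [relSieve_apply, mem_relSpan_iff, ← map_lcOf, hx, ht, ← hnat] at hg
  rw [genSieve_apply]
  apply mem_genSpan_of_app_mem (kernel.ι (N.freeHomEquiv.symm s)) r (op W)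
  have hnat2 := PresheafOfModules.naturality_apply (kernel.ι (N.freeHomEquiv.symm s)).val g.op
    ((kernel (N.freeHomEquiv.symm s)).val.map f.op k)
  rw [← hnat2] at hg
  exact hg

end Rel

end Groth.Agent.Lib.QCEtH7
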