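import Mathlib
import Groth.Agent.Lib.QCEt18_helper7

/-!
# Generators and relations of a base change (helper7)
-/

set_option backward.isDefEq.respectTransparency false
set_option backward.isDefEq.respectTransparency.types false
set_option linter.style.haveILetI false
set_option linter.unusedSectionVars false
set_option linter.unusedVariables false
set_option autoImplicit false
set_option maxHeartbeats 1600000
set_option maxSynthPendingDepth 3

open TensorProduct

namespace Groth.Agent.Lib.QCEtH7

noncomputable section

section InstForm

variable {A B : Type*} [CommRing A] [CommRing B] [Algebra A B]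
variable {I : Type*} {N : Type*} [AddCommGroup N] [Module A N] (s : I → N)

/-- the kernel of `(I →₀ B) → B ⊗ N` is spanned by the relations of `N` -/
theorem mem_span_of_psi_eq_zero (T : Set (I →₀ A))
    (hs : Function.Surjective (Finsupp.linearCombination A s))
    (hT : Submodule.span A T = LinearMap.ker (Finsupp.linearCombination A s))
    (x' : I →₀ B) (hx' : psi (A := A) s x' = 0) :
    x' ∈ Submodule.span B (mapR (B := B) '' T) := by
  obtain ⟨e, he⟩ : ∃ e : QT T →ₗ[A] N, ∀ x, e (Submodule.Quotient.mk x) =
      Finsupp.linearCombination A s x :=
    ⟨Submodule.liftQ (Submodule.span A T) (Finsupp.linearCombination A s) (le_of_eq hT),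
      fun x => rfl⟩
  have hinj : Function.Injective e := by
    rw [injective_iff_map_eq_zero]
    intro z hz
    obtain ⟨x, rfl⟩ := Submodule.Quotient.mk_surjective _ z
    rw [he] at hz
    rw [Submodule.Quotient.mk_eq_zero, hT]
    exact hz
  have hsurj : Function.Surjective e := by
    intro n
    obtain ⟨x, rfl⟩ := hs n
    exact ⟨Submodule.Quotient.mk x, he x⟩
  obtain ⟨e', he'⟩ : ∃ e' : QT T ≃ₗ[A] N, ∀ z, e' z = e z :=
    ⟨LinearEquiv.ofBijective e ⟨hinj, hsurj⟩, fun z => rfl⟩
  have hes : ∀ i, e' (sQ T i) = s i := by
    intro i
    rw [he']
    unfold sQ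
    rw [he, Finsupp.linearCombination_single, one_smul]
  have hcomp : ∀ y : I →₀ B, (LinearEquiv.lTensor B e') (psi (A := A) (sQ T) y) =
      psi (A := A) s y := by
    intro y
    induction y using Finsupp.induction_linear with
    | zero => rw [map_zero, map_zero, map_zero]
    | add x y hx hy => rw [map_add, map_add, map_add, hx, hy]
    | single i b =>
      rw [psi_single, psi_single, LinearEquiv.lTensor_tmul, hes]
  rw [← psi_sQ_eq_zero_iff]
  apply (LinearEquiv.lTensor B e').injective
  rw [hcomp, hx', map_zero]

end InstForm

section HomForm

variable {A B : Type*} [CommRing A] [CommRing B] (φ : A →+* B)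
variable {N N' : Type*} [AddCommGroup N] [Module A N] [AddCommGroup N'] [Module B N']

/-- the image of a generating set generates the base change -/
theorem IsBCAlong.span_image_eq_top {ρ : N →+ N'} (h : IsBCAlong φ ρ) (T : Set N)
    (hT : Submodule.span A T = ⊤) : Submodule.span B (ρ '' T) = ⊤ := by
  obtain ⟨hsemi, hb⟩ := h
  letI := φ.toAlgebra
  letI := modAlong φ N'
  haveI := towerAlong φ N'
  have hb' : IsBaseChange B (linAlong φ ρ hsemi) := hb
  have hρ : ∀ m : N, ρ m ∈ Submodule.span B (ρ '' T) := by
    intro m
    have hm : m ∈ Submodule.span A T := by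
      rw [hT]
      trivial
    induction hm using Submodule.span_induction with
    | mem x hx => exact Submodule.subset_span ⟨x, hx, rfl⟩
    | zero =>
      rw [map_zero]
      exact Submodule.zero_mem _
    | add x y _ _ hx hy =>
      rw [map_add]
      exact Submodule.add_mem _ hx hy
    | smul a x _ hx =>
      rw [hsemi a x]
      exact Submodule.smul_mem _ _ hx
  rw [eq_top_iff]
  intro x hx
  clear hx
  induction x using hb'.inductionOn with
  | zero => exact Submodule.zero_mem _
  | tmul m => exact hρ m
  | smul s n hn => exact Submodule.smul_mem _ s hn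
  | add n₁ n₂ h₁ h₂ => exact Submodule.add_mem _ h₁ h₂

/-- **relations of a base change**: a coefficient vector over `B` killed by the images of the
generators is a `B`-combination of the images of the relations -/
theorem IsBCAlong.mem_span_of_lc_eq_zero {ρ : N →+ N'} (h : IsBCAlong φ ρ) {I : Type*}
    (s : I → N) (T : Set (I →₀ A))
    (hs : Function.Surjective (Finsupp.linearCombination A s))
    (hT : Submodule.span A T = LinearMap.ker (Finsupp.linearCombination A s))
    (x' : I →₀ B) (hx' : Finsupp.linearCombination B (fun i => ρ (s i)) x' = 0) :
    x' ∈ Submodule.span B (mapH φ '' T) := by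
  obtain ⟨hsemi, hb⟩ := h
  letI := φ.toAlgebra
  letI := modAlong φ N'
  haveI := towerAlong φ N'
  have hb' : IsBaseChange B (linAlong φ ρ hsemi) := hb
  have hcomp : ∀ y : I →₀ B, hb'.equiv (psi (A := A) s y) =
      Finsupp.linearCombination B (fun i => ρ (s i)) y := by
    intro y
    induction y using Finsupp.induction_linear with
    | zero => rw [map_zero, map_zero, map_zero]
    | add x y hx hy => rw [map_add, map_add, map_add, hx, hy]
    | single i b =>
      rw [psi_single, IsBaseChange.equiv_tmul, Finsupp.linearCombination_single]
      rfl
  have h0 : psi (A := A) s x' = 0 := by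
    apply hb'.equiv.injective
    rw [hcomp, hx', map_zero]
  exact mem_span_of_psi_eq_zero s T hs hT x' h0

end HomForm

end

end Groth.Agent.Lib.QCEtH7
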