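import Mathlib
import Groth.Agent.Lib.QCEt19_helper7
import Groth.Agent.Lib.QCEt21_helper7
import Groth.Agent.Lib.QCEt22_helper7

/-!
# From module presentations over affine charts to presentations of sheaves of modules on the
small étale site (helper7)
-/

set_option backward.isDefEq.respectTransparency false
set_option backward.isDefEq.respectTransparency.types false
set_option linter.style.haveILetI false
set_option linter.unusedSectionVars false
set_option linter.unusedVariables false
set_option autoImplicit false
set_option maxHeartbeats 1600000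
set_option maxSynthPendingDepth 3

universe u v

open CategoryTheory Limits Opposite AlgebraicGeometry AlgSp TensorProduct

namespace Groth.Agent.Lib.QCEtH7

open Groth.Agent.Lib.WeakAssEtH7 Groth.Agent.Lib.IdealEtBH7 Groth.Agent.Lib.EtPostcomp_helper7
  Groth.Agent.Lib.EtStalkPt_helper7

section Terminal

variable {C : Type (v + 1)} [Category.{v} C] {J : GrothendieckTopology C}
  {R : Sheaf J RingCat.{v + 1}}
  [HasSheafify J AddCommGrpCat.{v + 1}] [J.WEqualsLocallyBijective AddCommGrpCat.{v + 1}]
  {T : C} (hT : IsTerminal T)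

/-- a section over a terminal object extends to a global section -/
noncomputable def termSec (F : SheafOfModules.{v + 1} R) (t : F.val.obj (op T)) : F.sections :=
  PresheafOfModules.sectionsMk (M := F.val) (fun U => F.val.map (hT.from U.unop).op t) (by
    intro U V f
    have h : (hT.from U.unop).op ≫ f = (hT.from V.unop).op := by
      apply Quiver.Hom.unop_inj
      exact hT.hom_ext _ _
    rw [← PresheafOfModules.map_comp_apply, h])

theorem termSec_val (F : SheafOfModules.{v + 1} R) (t : F.val.obj (op T)) (U : Cᵒᵖ) :
    (termSec hT F t).val U = F.val.map (hT.from U.unop).op t := rfl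

theorem sectionsMap_termSec {F G : SheafOfModules.{v + 1} R} (φ : F ⟶ G) (t : F.val.obj (op T)) :
    SheafOfModules.sectionsMap φ (termSec hT F t) = termSec hT G ((φ.val.app (op T)).hom t) := by
  apply PresheafOfModules.sections_ext
  intro U
  exact PresheafOfModules.naturality_apply φ.val (hT.from U.unop).op t

end Terminal

variable {S : Scheme.{u}} {X : Sp S} (M : ModEt X)

/-- the terminal object of the over-site -/
noncomputable def ovTerm (E : EtOver X) : IsTerminal (Over.mk (𝟙 E)) := Over.mkIdTerminal

theorem ovTerm_from_left (E : EtOver X) {E' : EtOver X} (a : E' ⟶ E) :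
    ((ovTerm E).from (Over.mk a)).left = a :=
  Over.mkIdTerminal_from_left (Over.mk a)

/-- the global section of `M.over E` defined by a section of `M` over `E` -/
noncomputable def gsec (E : EtOver X) (m : Sec M E) : (M.over E).sections :=
  termSec (ovTerm E) (M.over E) m

theorem gsec_val (E : EtOver X) (m : Sec M E) {E' : EtOver X} (a : E' ⟶ E) :
    secOver M E (gsec M E m) a = resAdd M a m := by
  show M.val.map ((ovTerm E).from (Over.mk a)).left.op m = M.val.map a.op m
  rw [ovTerm_from_left]
  rfl

section Gens

variable (hX : IsAlgSpace X) [hM : M.IsQuasicoherent] (E : EtOver X) [IsAffine E.obj.left.left]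
  {I : Type (u + 1)} (s : I → Sec M E) (hs : Submodule.span (Rg E) (Set.range s) = ⊤)

include hX hs in
theorem genSpan_gsec_eq_top {W : EtOver X} [IsAffine W.obj.left.left] (b : W ⟶ E) :
    genSpan (M.over E) (fun i => gsec M E (s i)) (op (Over.mk b)) = ⊤ := by
  have h1 := IsBCAlong.span_image_eq_top (resRing b) (bc_qc M hX b) (Set.range s) hs
  have h2 : (Set.range fun i => (gsec M E (s i)).val (op (Over.mk b))) =
      (resAdd M b) '' (Set.range s) := by
    ext y
    constructor
    · rintro ⟨i, rfl⟩
      exact ⟨s i, ⟨i, rfl⟩, (gsec_val M E (s i) b).symm⟩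
    · rintro ⟨_, ⟨i, rfl⟩, rfl⟩
      exact ⟨i, gsec_val M E (s i) b⟩
  unfold genSpan
  exact h2 ▸ h1

include hX hs in
/-- the sections `gsec (s i)` generate `M.over E` locally -/
theorem genSieve_gsec_mem (U : Over E) (n : (M.over E).val.obj (op U)) :
    genSieve (M.over E) (fun i => gsec M E (s i)) U n ∈ ((etTop X).over E) U := by
  rw [GrothendieckTopology.mem_over_iff]
  apply sieve_mem_of_forall_exists
  intro x
  obtain ⟨W, ι, hW, hx⟩ := exists_affine_piece U.left x
  haveI := hW
  refine ⟨W, ι, ?_, hx⟩
  rw [Sieve.overEquiv_iff, genSieve_apply, genSpan_gsec_eq_top M hX E s hs (ι ≫ U.hom)]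
  trivial

end Gens

section Rels

variable (hX : IsAlgSpace X) [hM : M.IsQuasicoherent] (E : EtOver X) [IsAffine E.obj.left.left]
  {I : Type (u + 1)} (s : I → Sec M E)

theorem lcOf_gsec_top (x : I →₀ Rg E) :
    lcOf (M.over E) (fun i => gsec M E (s i)) (op (Over.mk (𝟙 E))) x =
      Finsupp.linearCombination (Rg E) s x := by
  have h : (fun i => (gsec M E (s i)).val (op (Over.mk (𝟙 E)))) = s := by
    funext i
    have h1 := gsec_val M E (s i) (𝟙 E)
    rw [resAdd_apply] at h1
    have h2 : M.val.map (𝟙 E).op (s i) = s i := by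
      rw [op_id, PresheafOfModules.map_id]
      rfl
    exact h1.trans h2
  exact congrArg (fun v => Finsupp.linearCombination (Rg E) v x) h

/-- the relation sections attached to relations between the `s i` -/
theorem exists_relSec {K : Type (u + 1)} (r : K → (I →₀ Rg E))
    (hr : ∀ k, Finsupp.linearCombination (Rg E) s (r k) = 0) :
    ∃ rs : K → (kernel ((M.over E).freeHomEquiv.symm (fun i => gsec M E (s i)))).sections,
      ∀ k, relSec (M.over E) (fun i => gsec M E (s i)) rs k =
        termSec (ovTerm E) (SheafOfModules.free (R := (OEtRing X).over E) I)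
          (lcOf (SheafOfModules.free (R := (OEtRing X).over E) I) SheafOfModules.freeSection
            (op (Over.mk (𝟙 E))) (r k)) := by
  have hlift : ∀ k, ∃ y : (kernel ((M.over E).freeHomEquiv.symm
      (fun i => gsec M E (s i)))).val.obj (op (Over.mk (𝟙 E))),
      ((kernel.ι ((M.over E).freeHomEquiv.symm (fun i => gsec M E (s i)))).val.app
        (op (Over.mk (𝟙 E)))).hom y =
      lcOf (SheafOfModules.free (R := (OEtRing X).over E) I) SheafOfModules.freeSection
        (op (Over.mk (𝟙 E))) (r k) := by
    intro k
    apply exists_kernel_lift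
    rw [freeHom_lcOf, lcOf_gsec_top, hr k]
  choose y hy using hlift
  refine ⟨fun k => termSec (ovTerm E) _ (y k), fun k => ?_⟩
  unfold relSec
  rw [sectionsMap_termSec, hy k]

include hX in
/-- a coefficient vector killed by the generators is locally a combination of the relations -/
theorem relSieve_mem_of_bc (hs : Submodule.span (Rg E) (Set.range s) = ⊤) {K : Type (u + 1)}
    (r : K → (I →₀ Rg E))
    (hr : Submodule.span (Rg E) (Set.range r) =
      LinearMap.ker (Finsupp.linearCombination (Rg E) s))
    (rs : K → (kernel ((M.over E).freeHomEquiv.symm (fun i => gsec M E (s i)))).sections)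
    (hrs : ∀ k, relSec (M.over E) (fun i => gsec M E (s i)) rs k =
        termSec (ovTerm E) (SheafOfModules.free (R := (OEtRing X).over E) I)
          (lcOf (SheafOfModules.free (R := (OEtRing X).over E) I) SheafOfModules.freeSection
            (op (Over.mk (𝟙 E))) (r k)))
    (U : Over E) (x : I →₀ ((OEtRing X).over E).obj.obj (op U))
    (hx : lcOf (M.over E) (fun i => gsec M E (s i)) (op U) x = 0) :
    relSieve (relSec (M.over E) (fun i => gsec M E (s i)) rs) U x ∈ ((etTop X).over E) U := by
  rw [GrothendieckTopology.mem_over_iff]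
  apply sieve_mem_of_forall_exists
  intro pt
  obtain ⟨W, ι, hW, hpt⟩ := exists_affine_piece U.left pt
  haveI := hW
  refine ⟨W, ι, ?_, hpt⟩
  rw [Sieve.overEquiv_iff, relSieve_apply]
  obtain ⟨fU, hfU⟩ : ∃ fU : Over.mk (ι ≫ U.hom) ⟶ U, fU = Over.homMk ι rfl := ⟨_, rfl⟩
  rw [← hfU]
  obtain ⟨xW, hxW⟩ : ∃ xW : I →₀ Rg W, xW = mapCoef (R := (OEtRing X).over E) fU.op x :=
    ⟨_, rfl⟩
  rw [← hxW]
  -- `xW` is killed by the images of the generators
  have h0 : Finsupp.linearCombination (Rg W) (fun i => resAdd M (ι ≫ U.hom) (s i)) xW = 0 := by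
    have h1 := map_lcOf (M.over E) (fun i => gsec M E (s i)) fU.op x
    rw [hx, map_zero, ← hxW] at h1
    have h2 : (fun i => (gsec M E (s i)).val (op (Over.mk (ι ≫ U.hom)))) =
        fun i => resAdd M (ι ≫ U.hom) (s i) := by
      funext i
      exact gsec_val M E (s i) (ι ≫ U.hom)
    have h3 : lcOf (M.over E) (fun i => gsec M E (s i)) (op (Over.mk (ι ≫ U.hom))) xW =
        Finsupp.linearCombination (Rg W) (fun i => resAdd M (ι ≫ U.hom) (s i)) xW :=
      congrArg (fun v => Finsupp.linearCombination (Rg W) v xW) h2
    rw [← h3]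
    exact h1.symm
  have hsurj : Function.Surjective (Finsupp.linearCombination (Rg E) s) := by
    rw [← LinearMap.range_eq_top, Finsupp.range_linearCombination]
    exact hs
  have h4 := IsBCAlong.mem_span_of_lc_eq_zero (resRing (ι ≫ U.hom)) (bc_qc M hX (ι ≫ U.hom)) s
    (Set.range r) hsurj hr xW h0
  -- the values of the relation sections
  have hval : ∀ k, (relSec (M.over E) (fun i => gsec M E (s i)) rs k).val
      (op (Over.mk (ι ≫ U.hom))) =
      lcOf (SheafOfModules.free (R := (OEtRing X).over E) I) SheafOfModules.freeSection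
        (op (Over.mk (ι ≫ U.hom))) (mapH (resRing (ι ≫ U.hom)) (r k) : I →₀ Rg W) := by
    intro k
    rw [hrs k, termSec_val, map_lcOf]
    have hm : (mapCoef (R := (OEtRing X).over E) ((ovTerm E).from (Over.mk (ι ≫ U.hom))).op
        (r k) : I →₀ Rg W) =
        mapH (resRing ((ovTerm E).from (Over.mk (ι ≫ U.hom))).left) (r k) := rfl
    have hm2 : mapH (resRing ((ovTerm E).from (Over.mk (ι ≫ U.hom))).left) (r k) =
        mapH (resRing (ι ≫ U.hom)) (r k) :=
      congrArg (fun g : W ⟶ E => mapH (resRing g) (r k)) (ovTerm_from_left E (ι ≫ U.hom))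
    exact congrArg (fun z => lcOf (SheafOfModules.free (R := (OEtRing X).over E) I)
      SheafOfModules.freeSection (op (Over.mk (ι ≫ U.hom))) z) (hm.trans hm2)
  obtain ⟨G, hG⟩ : ∃ G : Submodule (Rg W) (I →₀ Rg W),
      G = relSpan (relSec (M.over E) (fun i => gsec M E (s i)) rs)
        (op (Over.mk (ι ≫ U.hom))) := ⟨_, rfl⟩
  have h5 : Submodule.span (Rg W) (mapH (resRing (ι ≫ U.hom)) '' Set.range r) ≤ G := by
    rw [Submodule.span_le]
    rintro _ ⟨_, ⟨k, rfl⟩, rfl⟩
    rw [hG]
    show mapH (resRing (ι ≫ U.hom)) (r k) ∈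
      relSpan (relSec (M.over E) (fun i => gsec M E (s i)) rs) (op (Over.mk (ι ≫ U.hom)))
    rw [mem_relSpan_iff, ← hval k]
    exact Submodule.subset_span ⟨k, rfl⟩
  have h6 := h5 h4
  rw [hG] at h6
  exact h6

end Rels

section Assemble

variable (hX : IsAlgSpace X) [hM : M.IsQuasicoherent]

include hX in
/-- a finite presentation of the module of sections over an affine object induces a finite
presentation of the restriction of the sheaf -/
theorem exists_finite_presentation (E : EtOver X) [IsAffine E.obj.left.left]
    (hfp : Module.FinitePresentation (Rg E) (Sec M E)) :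
    ∃ P : (M.over E).Presentation, P.IsFinite := by
  obtain ⟨s0, hs0, hker⟩ := hfp.out
  obtain ⟨t0, ht0⟩ := hker
  obtain ⟨s, hsdef⟩ : ∃ s : {y // y ∈ s0} → Sec M E, s = Subtype.val := ⟨_, rfl⟩
  have hs : Submodule.span (Rg E) (Set.range s) = ⊤ := by
    rw [hsdef, Subtype.range_coe]
    exact hs0
  obtain ⟨r, hrdef⟩ : ∃ r : {z // z ∈ t0} → ({y // y ∈ s0} →₀ Rg E), r = Subtype.val :=
    ⟨_, rfl⟩
  have hr : Submodule.span (Rg E) (Set.range r) =
      LinearMap.ker (Finsupp.linearCombination (Rg E) s) := by
    rw [hrdef, Subtype.range_coe, hsdef]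
    exact ht0
  have hr0 : ∀ k, Finsupp.linearCombination (Rg E) s (r k) = 0 := by
    intro k
    have h1 : r k ∈ Submodule.span (Rg E) (Set.range r) := Submodule.subset_span ⟨k, rfl⟩
    rw [hr] at h1
    exact h1
  obtain ⟨rs, hrs⟩ := exists_relSec M E s r hr0
  haveI hepi1 : Epi ((M.over E).freeHomEquiv.symm (fun i => gsec M E (s i))) :=
    epi_of_genSieve_mem (M.over E) (fun i => gsec M E (s i))
      (fun U n => genSieve_gsec_mem M hX E s hs U n)
  haveI hepi2 : Epi ((kernel ((M.over E).freeHomEquiv.symm
      (fun i => gsec M E (s i)))).freeHomEquiv.symm rs) :=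
    epi_kernel_of_relSieve_mem (M.over E) (fun i => gsec M E (s i)) rs
      (fun U x hx => relSieve_mem_of_bc M hX E s hs r hr rs hrs U x hx)
  refine ⟨{ generators := { I := {y // y ∈ s0}, s := fun i => gsec M E (s i), epi := hepi1 }
            relations := { I := {z // z ∈ t0}, s := rs, epi := hepi2 } }, ?_⟩
  exact { isFiniteType_generators := ⟨inferInstance⟩
          isFiniteType_relations := ⟨inferInstance⟩ }

/-- affine objects cover the small étale site -/
theorem coversTop_affine :
    (etTop X).CoversTop (fun i : {E : EtOver X // IsAffine E.obj.left.left} => i.1) := by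
  intro E₀
  apply sieve_mem_of_forall_exists
  intro x
  obtain ⟨W, ι, hW, hx⟩ := exists_affine_piece E₀ x
  exact ⟨W, ι, (Sieve.mem_ofObjects_iff _ _).2 ⟨⟨W, hW⟩, ⟨𝟙 W⟩⟩, hx⟩

/-- quasi-coherent data from presentations over all affine objects -/
noncomputable def qcDataOfAffine
    (P : ∀ i : {E : EtOver X // IsAffine E.obj.left.left}, (M.over i.1).Presentation) :
    SheafOfModules.QuasicoherentData.{u + 1} (R := OEtRing X) M where
  I := {E : EtOver X // IsAffine E.obj.left.left}
  X := fun i => i.1
  coversTop := coversTop_affine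
  presentation := P

theorem qcDataOfAffine_isFinitePresentation
    (P : ∀ i : {E : EtOver X // IsAffine E.obj.left.left}, (M.over i.1).Presentation)
    (hP : ∀ i, (P i).IsFinite) : (qcDataOfAffine M P).IsFinitePresentation := by
  constructor
  intro i
  exact hP i

include hX in
/-- **a quasi-coherent module whose modules of sections over affine objects are finitely
presented is of finite presentation** -/
theorem isFinitePresentation_of_sections
    (h : ∀ (E : EtOver X) [IsAffine E.obj.left.left],
      Module.FinitePresentation (Rg E) (Sec M E)) :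
    M.IsFinitePresentation := by
  have hP : ∀ i : {E : EtOver X // IsAffine E.obj.left.left},
      ∃ P : (M.over i.1).Presentation, P.IsFinite := by
    intro i
    haveI := i.2
    exact exists_finite_presentation M hX i.1 (h i.1)
  choose P hPfin using hP
  constructor
  exact ⟨qcDataOfAffine M P, qcDataOfAffine_isFinitePresentation M P hPfin⟩

end Assemble

end Groth.Agent.Lib.QCEtH7
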