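import Mathlib
import Groth.Agent.Lib.QCEt20_helper7
import Groth.Agent.Lib.QCEt23_helper7

/-!
# Coherent modules on a locally Noetherian algebraic space (helper7): S10741, S10744
-/

set_option backward.isDefEq.respectTransparency false
set_option backward.isDefEq.respectTransparency.types false
set_option linter.style.haveILetI false
set_option linter.unusedSectionVars false
set_option linter.unusedVariables false
set_option autoImplicit false
set_option maxHeartbeats 1600000
set_option maxSynthPendingDepth 3

universe u v

open CategoryTheory Limits Opposite AlgebraicGeometry AlgSp TensorProduct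

namespace Groth.Agent.Lib.QCEtH7

open Groth.Agent.Lib.WeakAssEtH7 Groth.Agent.Lib.IdealEtBH7 Groth.Agent.Lib.EtPostcomp_helper7
  Groth.Agent.Lib.EtStalkPt_helper7

variable {S : Scheme.{u}} {X : Sp S}

theorem isNoetherianRing_Rg (hN : IsLocNoethSp X) (E : EtOver X) [IsAffine E.obj.left.left] :
    IsNoetherianRing (Rg E) := by
  haveI h0 : IsNoetherianRing Γ(E.obj.left.left, ⊤) := isNoetherianRing_of_chart hN E
  exact isNoetherianRing_of_ringEquiv _
    (ULift.ringEquiv.{u, u + 1} (R := Γ(E.obj.left.left, ⊤))).symm

/-- on a locally Noetherian algebraic space, a quasi-coherent module whose modules of sections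
over affine objects are finite is of finite presentation -/
theorem isFinitePresentation_of_finite_sections (hX : IsAlgSpace X) (hN : IsLocNoethSp X)
    (M : ModEt X) [M.IsQuasicoherent]
    (h : ∀ (E : EtOver X) [IsAffine E.obj.left.left], Module.Finite (Rg E) (Sec M E)) :
    M.IsFinitePresentation := by
  apply isFinitePresentation_of_sections M hX
  intro E hE
  haveI := isNoetherianRing_Rg hN E
  haveI := h E
  exact Module.finitePresentation_of_finite (Rg E) (Sec M E)

/-- **S10741** -/
theorem main10741 (X : AlgSp.Space S) (hX : AlgSp.IsLocNoethSp X.obj) (M : AlgSp.ModEt X.obj)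
    [M.IsQuasicoherent] [M.IsFiniteType] : M.IsFinitePresentation :=
  isFinitePresentation_of_finite_sections X.property hX M
    (fun E _ => finite_sec M X.property E)

/-- the map on sections as a linear map -/
noncomputable def secLin {M N : ModEt X} (f : M ⟶ N) (E : EtOver X) :
    Sec M E →ₗ[Rg E] Sec N E :=
  (f.val.app (op E)).hom

theorem secLin_apply {M N : ModEt X} (f : M ⟶ N) (E : EtOver X) (m : Sec M E) :
    secLin f E m = (f.val.app (op E)).hom m := rfl

/-- **S10744** -/
theorem main10744 (X : AlgSp.Space S) (hX : AlgSp.IsLocNoethSp X.obj) {M N : AlgSp.ModEt X.obj}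
    [M.IsFinitePresentation] (ι : N ⟶ M) [Mono ι] [N.IsQuasicoherent] :
    N.IsFinitePresentation := by
  apply isFinitePresentation_of_finite_sections X.property hX N
  intro E hE
  haveI := isNoetherianRing_Rg hX E
  haveI : Module.Finite (Rg E) (Sec M E) := finite_sec M X.property E
  exact Module.Finite.of_injective (secLin ι E) (app_injective_of_mono ι E)

end Groth.Agent.Lib.QCEtH7
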