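import Mathlib
import Groth.Agent.Lib.QCEt24_helper7

/-!
# Quotients of modules of finite type on the small étale site (helper7): S10745
-/

set_option backward.isDefEq.respectTransparency false
set_option backward.isDefEq.respectTransparency.types false
set_option linter.style.haveILetI false
set_option linter.unusedSectionVars false
set_option linter.unusedVariables false
set_option autoImplicit false
set_option maxHeartbeats 1600000
set_option maxSynthPendingDepth 3

universe u v

open CategoryTheory Limits Opposite AlgebraicGeometry AlgSp TensorProduct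

namespace Groth.Agent.Lib.QCEtH7

variable {S : Scheme.{u}} {X : Sp S}

/-- restriction to an object of the site preserves epimorphisms -/
theorem epi_over {M Q : ModEt X} (π : M ⟶ Q) [Epi π] (E : EtOver X) : Epi (π.over E) := by
  show Epi ((resModEt E).map π)
  infer_instance

/-- local generators of a quotient -/
noncomputable def localGensOfEpi {M Q : ModEt X} (π : M ⟶ Q) [Epi π]
    (σ : SheafOfModules.LocalGeneratorsData.{u + 1} (R := OEtRing X) M) :
    SheafOfModules.LocalGeneratorsData.{u + 1} (R := OEtRing X) Q where
  I := σ.I
  X := σ.X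
  coversTop := σ.coversTop
  generators i :=
    haveI := epi_over π (σ.X i)
    (σ.generators i).ofEpi (π.over (σ.X i))

theorem localGensOfEpi_isFiniteType {M Q : ModEt X} (π : M ⟶ Q) [Epi π]
    (σ : SheafOfModules.LocalGeneratorsData.{u + 1} (R := OEtRing X) M) [hσ : σ.IsFiniteType] :
    (localGensOfEpi π σ).IsFiniteType := by
  constructor
  intro i
  haveI := epi_over π (σ.X i)
  haveI := hσ.isFiniteType i
  exact inferInstanceAs (((σ.generators i).ofEpi (π.over (σ.X i))).IsFiniteType)

/-- a quotient of a module of finite type is of finite type -/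
theorem isFiniteType_of_epi {M Q : ModEt X} (π : M ⟶ Q) [Epi π] [hM : M.IsFiniteType] :
    Q.IsFiniteType := by
  obtain ⟨σ, hσ⟩ := hM.exists_localGeneratorsData
  constructor
  exact ⟨localGensOfEpi π σ, localGensOfEpi_isFiniteType π σ⟩

/-- **S10745** -/
theorem main10745 (X : AlgSp.Space S) (hX : AlgSp.IsLocNoethSp X.obj) {M Q : AlgSp.ModEt X.obj}
    [M.IsFinitePresentation] (π : M ⟶ Q) [Epi π] [Q.IsQuasicoherent] :
    Q.IsFinitePresentation := by
  haveI : Q.IsFiniteType := isFiniteType_of_epi π
  exact main10741 X hX Q

end Groth.Agent.Lib.QCEtH7
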