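import Mathlib
import Groth.Agent.Lib.QCEt21_helper7

/-!
# Epimorphisms of sheaves of modules on a site are locally surjective (helper7)

Generic site version of `EpiLoc_helper9` (whose proof of `epi_toSheaf` is followed here).
-/

set_option backward.isDefEq.respectTransparency false
set_option backward.isDefEq.respectTransparency.types false
set_option linter.style.haveILetI false
set_option linter.unusedSectionVars false
set_option linter.unusedVariables false
set_option autoImplicit false
set_option maxHeartbeats 1600000
set_option maxSynthPendingDepth 3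

universe v

open CategoryTheory Limits Opposite

namespace Groth.Agent.Lib.QCEtH7

variable {C : Type (v + 1)} [Category.{v} C] {J : GrothendieckTopology C}
  {R : Sheaf J RingCat.{v + 1}}
  [HasSheafify J AddCommGrpCat.{v + 1}] [J.WEqualsLocallyBijective AddCommGrpCat.{v + 1}]

section EpiLoc

/-- the forgetful functor to sheaves of abelian groups preserves epimorphisms -/
theorem epi_toSheaf {F G : SheafOfModules.{v + 1} R} (p : F ⟶ G) [Epi p] :
    Epi ((SheafOfModules.toSheaf.{v + 1} R).map p) := by
  let α := 𝟙 R.obj
  let L := PresheafOfModules.sheafification.{v + 1} α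
  let i := SheafOfModules.forget.{v + 1} R ⋙ PresheafOfModules.restrictScalars α
  let adj : L ⊣ i := PresheafOfModules.sheafificationAdjunction α
  let T := SheafOfModules.toSheaf.{v + 1} R
  let e := Abelian.factorThruImage (i.map p)
  let m := Abelian.image.ι (i.map p)
  have hfac : e ≫ m = i.map p := Abelian.image.fac _
  haveI : Epi e := inferInstance
  haveI : Mono m := inferInstance
  haveI : IsIso (adj.counit.app F) := inferInstance
  haveI : IsIso (adj.counit.app G) := inferInstance
  have hnat : L.map (i.map p) ≫ adj.counit.app G = adj.counit.app F ≫ p :=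
    adj.counit.naturality p
  haveI : Epi (L.map (i.map p)) := by
    have h2 : L.map (i.map p) = (adj.counit.app F ≫ p) ≫ inv (adj.counit.app G) := by
      rw [← hnat, Category.assoc, IsIso.hom_inv_id, Category.comp_id]
    rw [h2]
    infer_instance
  have hLfac : L.map e ≫ L.map m = L.map (i.map p) := by rw [← L.map_comp, hfac]
  haveI : Epi (L.map m) := by
    haveI : Epi (L.map e ≫ L.map m) := by rw [hLfac]; infer_instance
    exact epi_of_epi (L.map e) (L.map m)
  haveI : Mono (L.map m) := inferInstance
  haveI : IsIso (L.map m) := isIso_of_mono_of_epi _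
  haveI : Epi ((PresheafOfModules.toPresheaf _).map e) := inferInstance
  haveI : Epi (T.map (L.map e)) := by
    show Epi ((presheafToSheaf _ _).map ((PresheafOfModules.toPresheaf _).map e))
    infer_instance
  have h3 : p = inv (adj.counit.app F) ≫ (L.map e ≫ L.map m) ≫ adj.counit.app G := by
    rw [hLfac, hnat, IsIso.inv_hom_id_assoc]
  have h4 : T.map p = T.map (inv (adj.counit.app F)) ≫ (T.map (L.map e) ≫ T.map (L.map m)) ≫
      T.map (adj.counit.app G) := by
    conv_lhs => rw [h3]
    simp only [Functor.map_comp]
  show Epi (T.map p)
  rw [h4]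
  infer_instance

/-- the sieve of those restrictions of `n` which lie in the image of `π` -/
def imSieve {M N : SheafOfModules.{v + 1} R} (π : M ⟶ N) (U : C) (n : N.val.obj (op U)) :
    Sieve U where
  arrows V f := ∃ m : M.val.obj (op V), (π.val.app (op V)).hom m = N.val.map f.op n
  downward_closed := by
    rintro V W f ⟨m, hm⟩ g
    refine ⟨M.val.map g.op m, ?_⟩
    have h1 := PresheafOfModules.naturality_apply π.val g.op m
    rw [h1, hm, op_comp, PresheafOfModules.map_comp_apply]

theorem imSieve_apply {M N : SheafOfModules.{v + 1} R} (π : M ⟶ N) (U : C)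
    (n : N.val.obj (op U)) {V : C} (f : V ⟶ U) :
    (imSieve π U n).arrows f ↔
      ∃ m : M.val.obj (op V), (π.val.app (op V)).hom m = N.val.map f.op n := Iff.rfl

/-- **an epimorphism of sheaves of modules is locally surjective** -/
theorem imSieve_mem_of_epi {M N : SheafOfModules.{v + 1} R} (π : M ⟶ N) [Epi π] (U : C)
    (n : N.val.obj (op U)) : imSieve π U n ∈ J U := by
  haveI := epi_toSheaf π
  have h1 : Sheaf.IsLocallySurjective ((SheafOfModules.toSheaf.{v + 1} R).map π) :=
    (Sheaf.isLocallySurjective_iff_epi' AddCommGrpCat.{v + 1}
      ((SheafOfModules.toSheaf.{v + 1} R).map π)).2 inferInstance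
  have h2 := Presheaf.imageSieve_mem J ((SheafOfModules.toSheaf.{v + 1} R).map π).hom
    (U := op U) n
  refine J.superset_covering ?_ h2
  rintro V f ⟨t, ht⟩
  exact ⟨t, ht⟩

end EpiLoc

end Groth.Agent.Lib.QCEtH7
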