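import Mathlib
import Groth.Agent.Lib.QCEt23_helper7

/-!
# Presentations of a sheaf of modules on the small étale site from local data (helper7)

`exists_presentation_of_local`: generators `s i` over an affine object `E` (whose attached global
sections of `M.over E` generate) and relations `r k` between them present `M.over E` as soon as
every coefficient vector over an affine object killed by the generators is, locally, a combination
of the relations.  No quasi-coherence hypothesis.
-/

set_option backward.isDefEq.respectTransparency false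
set_option backward.isDefEq.respectTransparency.types false
set_option linter.style.haveILetI false
set_option linter.unusedSectionVars false
set_option linter.unusedVariables false
set_option autoImplicit false
set_option maxHeartbeats 1600000
set_option maxSynthPendingDepth 3

universe u v

open CategoryTheory Limits Opposite AlgebraicGeometry AlgSp TensorProduct

namespace Groth.Agent.Lib.QCEtH7

open Groth.Agent.Lib.WeakAssEtH7 Groth.Agent.Lib.IdealEtBH7 Groth.Agent.Lib.EtPostcomp_helper7
  Groth.Agent.Lib.EtStalkPt_helper7

section Generic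

variable {C : Type (v + 1)} [Category.{v} C] {J : GrothendieckTopology C}
  {R : Sheaf J RingCat.{v + 1}}
  [HasSheafify J AddCommGrpCat.{v + 1}] [J.WEqualsLocallyBijective AddCommGrpCat.{v + 1}]
  {I K : Type (v + 1)}

theorem relSieve_pullback (ρ : K → (SheafOfModules.free (R := R) I).sections) (U : C)
    (x : I →₀ R.obj.obj (op U)) {V : C} (f : V ⟶ U) :
    (relSieve ρ U x).pullback f = relSieve ρ V (mapCoef (R := R) f.op x) := by
  ext W g
  rw [Sieve.pullback_apply, relSieve_apply, relSieve_apply, op_comp, mapCoef_comp]

end Generic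

variable {S : Scheme.{u}} {X : Sp S} (M : ModEt X)

section Core

variable (E : EtOver X) [IsAffine E.obj.left.left] {I : Type (u + 1)} (s : I → Sec M E)

theorem lcOf_gsec_top' (x : I →₀ Rg E) :
    lcOf (M.over E) (fun i => gsec M E (s i)) (op (Over.mk (𝟙 E))) x =
      Finsupp.linearCombination (Rg E) s x := by
  have h : (fun i => (gsec M E (s i)).val (op (Over.mk (𝟙 E)))) = s := by
    funext i
    have h1 := gsec_val M E (s i) (𝟙 E)
    rw [resAdd_apply] at h1
    have h2 : M.val.map (𝟙 E).op (s i) = s i := by
      rw [op_id, PresheafOfModules.map_id]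
      rfl
    exact h1.trans h2
  exact congrArg (fun v => Finsupp.linearCombination (Rg E) v x) h

theorem lcOf_gsec_mk {W : EtOver X} (b : W ⟶ E) (x : I →₀ Rg W) :
    lcOf (M.over E) (fun i => gsec M E (s i)) (op (Over.mk b)) x =
      Finsupp.linearCombination (Rg W) (fun i => resAdd M b (s i)) x := by
  have h2 : (fun i => (gsec M E (s i)).val (op (Over.mk b))) =
      fun i => resAdd M b (s i) := by
    funext i
    exact gsec_val M E (s i) b
  exact congrArg (fun v => Finsupp.linearCombination (Rg W) v x) h2

/-- the relation sections attached to relations between the `s i` -/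
theorem exists_relSec' {K : Type (u + 1)} (r : K → (I →₀ Rg E))
    (hr : ∀ k, Finsupp.linearCombination (Rg E) s (r k) = 0) :
    ∃ rs : K → (kernel ((M.over E).freeHomEquiv.symm (fun i => gsec M E (s i)))).sections,
      ∀ k, relSec (M.over E) (fun i => gsec M E (s i)) rs k =
        termSec (ovTerm E) (SheafOfModules.free (R := (OEtRing X).over E) I)
          (lcOf (SheafOfModules.free (R := (OEtRing X).over E) I) SheafOfModules.freeSection
            (op (Over.mk (𝟙 E))) (r k)) := by
  have hlift : ∀ k, ∃ y : (kernel ((M.over E).freeHomEquiv.symm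
      (fun i => gsec M E (s i)))).val.obj (op (Over.mk (𝟙 E))),
      ((kernel.ι ((M.over E).freeHomEquiv.symm (fun i => gsec M E (s i)))).val.app
        (op (Over.mk (𝟙 E)))).hom y =
      lcOf (SheafOfModules.free (R := (OEtRing X).over E) I) SheafOfModules.freeSection
        (op (Over.mk (𝟙 E))) (r k) := by
    intro k
    apply exists_kernel_lift
    rw [freeHom_lcOf, lcOf_gsec_top', hr k]
  choose y hy using hlift
  refine ⟨fun k => termSec (ovTerm E) _ (y k), fun k => ?_⟩
  unfold relSec
  rw [sectionsMap_termSec, hy k]

variable {K : Type (u + 1)} (r : K → (I →₀ Rg E))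
  (rs : K → (kernel ((M.over E).freeHomEquiv.symm (fun i => gsec M E (s i)))).sections)
  (hrs : ∀ k, relSec (M.over E) (fun i => gsec M E (s i)) rs k =
      termSec (ovTerm E) (SheafOfModules.free (R := (OEtRing X).over E) I)
        (lcOf (SheafOfModules.free (R := (OEtRing X).over E) I) SheafOfModules.freeSection
          (op (Over.mk (𝟙 E))) (r k)))

include hrs in
/-- the values of the relation sections -/
theorem relSec_val {W : EtOver X} (b : W ⟶ E) (k : K) :
    (relSec (M.over E) (fun i => gsec M E (s i)) rs k).val (op (Over.mk b)) =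
      lcOf (SheafOfModules.free (R := (OEtRing X).over E) I) SheafOfModules.freeSection
        (op (Over.mk b)) (mapH (resRing b) (r k) : I →₀ Rg W) := by
  rw [hrs k, termSec_val, map_lcOf]
  have hm : (mapCoef (R := (OEtRing X).over E) ((ovTerm E).from (Over.mk b)).op
      (r k) : I →₀ Rg W) =
      mapH (resRing ((ovTerm E).from (Over.mk b)).left) (r k) := rfl
  have hm2 : mapH (resRing ((ovTerm E).from (Over.mk b)).left) (r k) =
      mapH (resRing b) (r k) :=
    congrArg (fun g : W ⟶ E => mapH (resRing g) (r k)) (ovTerm_from_left E b)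
  exact congrArg (fun z => lcOf (SheafOfModules.free (R := (OEtRing X).over E) I)
    SheafOfModules.freeSection (op (Over.mk b)) z) (hm.trans hm2)

include hrs in
theorem span_le_relSpan {W : EtOver X} (b : W ⟶ E) :
    Submodule.span (Rg W) (mapH (resRing b) '' Set.range r) ≤
      relSpan (relSec (M.over E) (fun i => gsec M E (s i)) rs) (op (Over.mk b)) := by
  rw [Submodule.span_le]
  rintro _ ⟨_, ⟨k, rfl⟩, rfl⟩
  show mapH (resRing b) (r k) ∈
    relSpan (relSec (M.over E) (fun i => gsec M E (s i)) rs) (op (Over.mk b))
  rw [mem_relSpan_iff, ← relSec_val M E s r rs hrs b k]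
  exact Submodule.subset_span ⟨k, rfl⟩

/-- the local relation hypothesis -/
def LocalRel : Prop :=
  ∀ (W : EtOver X) (hW : IsAffine W.obj.left.left) (b : W ⟶ E) (x : I →₀ Rg W),
    Finsupp.linearCombination (Rg W) (fun i => resAdd M b (s i)) x = 0 →
    ∀ pt : W.obj.left.left, ∃ (W' : EtOver X) (ι : W' ⟶ W), IsAffine W'.obj.left.left ∧
      pt ∈ Set.range ι.hom.left.left ∧
      mapH (resRing ι) x ∈ Submodule.span (Rg W') (mapH (resRing (ι ≫ b)) '' Set.range r)

include hrs in
/-- the affine case -/
theorem relSieve_mem_affine (hrel : LocalRel M E s r) {W : EtOver X}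
    [hW : IsAffine W.obj.left.left] (b : W ⟶ E) (x : I →₀ Rg W)
    (hx : lcOf (M.over E) (fun i => gsec M E (s i)) (op (Over.mk b)) x = 0) :
    relSieve (relSec (M.over E) (fun i => gsec M E (s i)) rs) (Over.mk b) x ∈
      ((etTop X).over E) (Over.mk b) := by
  rw [GrothendieckTopology.mem_over_iff]
  apply sieve_mem_of_forall_exists
  intro pt
  have h0 : Finsupp.linearCombination (Rg W) (fun i => resAdd M b (s i)) x = 0 :=
    (lcOf_gsec_mk M E s b x).symm.trans hx
  obtain ⟨W', ι, hW', hpt, hmem⟩ := hrel W hW b x h0 pt
  refine ⟨W', ι, ?_, hpt⟩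
  rw [Sieve.overEquiv_iff, relSieve_apply]
  exact span_le_relSpan M E s r rs hrs (ι ≫ b) hmem

include hrs in
/-- a coefficient vector killed by the generators is locally a combination of the relations -/
theorem relSieve_mem_of_local (hrel : LocalRel M E s r)
    (U : Over E) (x : I →₀ ((OEtRing X).over E).obj.obj (op U))
    (hx : lcOf (M.over E) (fun i => gsec M E (s i)) (op U) x = 0) :
    relSieve (relSec (M.over E) (fun i => gsec M E (s i)) rs) U x ∈ ((etTop X).over E) U := by
  -- the sieve of arrows factoring through an affine piece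
  let A : Sieve U :=
    { arrows := fun V g => ∃ (W : EtOver X) (hW : IsAffine W.obj.left.left) (ι : W ⟶ U.left)
        (c : V ⟶ Over.mk (ι ≫ U.hom)), g = c ≫ Over.homMk ι rfl
      downward_closed := by
        rintro V V' g ⟨W, hW, ι, c, rfl⟩ g'
        exact ⟨W, hW, ι, g' ≫ c, (Category.assoc _ _ _).symm⟩ }
  have hA : A ∈ ((etTop X).over E) U := by
    rw [GrothendieckTopology.mem_over_iff]
    apply sieve_mem_of_forall_exists
    intro pt
    obtain ⟨W, ι, hW, hpt⟩ := exists_affine_piece U.left pt
    refine ⟨W, ι, ?_, hpt⟩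
    rw [Sieve.overEquiv_iff]
    exact ⟨W, hW, ι, 𝟙 _, (Category.id_comp _).symm⟩
  refine ((etTop X).over E).transitive hA _ ?_
  rintro V g ⟨W, hW, ι, c, rfl⟩
  rw [Sieve.pullback_comp]
  apply ((etTop X).over E).pullback_stable
  rw [relSieve_pullback]
  haveI := hW
  apply relSieve_mem_affine M E s r rs hrs hrel (ι ≫ U.hom)
  have h1 := map_lcOf (M.over E) (fun i => gsec M E (s i))
    (Over.homMk ι rfl : Over.mk (ι ≫ U.hom) ⟶ U).op x
  rw [hx, map_zero] at h1
  exact h1.symm

end Core

section Assemble

variable (E : EtOver X) [IsAffine E.obj.left.left] {I K : Type (u + 1)} (s : I → Sec M E)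
  (r : K → (I →₀ Rg E))

/-- **presentations from local data** -/
theorem exists_presentation_of_local
    (hepi : Epi ((M.over E).freeHomEquiv.symm (fun i => gsec M E (s i))))
    (hr0 : ∀ k, Finsupp.linearCombination (Rg E) s (r k) = 0)
    (hrel : LocalRel M E s r) :
    ∃ P : (M.over E).Presentation, (Finite I → Finite K → P.IsFinite) := by
  obtain ⟨rs, hrs⟩ := exists_relSec' M E s r hr0
  haveI := hepi
  haveI hepi2 : Epi ((kernel ((M.over E).freeHomEquiv.symm
      (fun i => gsec M E (s i)))).freeHomEquiv.symm rs) :=
    epi_kernel_of_relSieve_mem (M.over E) (fun i => gsec M E (s i)) rs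
      (fun U x hx => relSieve_mem_of_local M E s r rs hrs hrel U x hx)
  refine ⟨{ generators := { I := I, s := fun i => gsec M E (s i), epi := hepi }
            relations := { I := K, s := rs, epi := hepi2 } }, ?_⟩
  intro hI hK
  exact { isFiniteType_generators := ⟨hI⟩
          isFiniteType_relations := ⟨hK⟩ }

/-- generation from exact generation over affine objects -/
theorem epi_gsec_of_span
    (hgen : ∀ (W : EtOver X) (hW : IsAffine W.obj.left.left) (b : W ⟶ E),
      Submodule.span (Rg W) (Set.range fun i => resAdd M b (s i)) = ⊤) :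
    Epi ((M.over E).freeHomEquiv.symm (fun i => gsec M E (s i))) := by
  apply epi_of_genSieve_mem
  intro U n
  rw [GrothendieckTopology.mem_over_iff]
  apply sieve_mem_of_forall_exists
  intro x
  obtain ⟨W, ι, hW, hx⟩ := exists_affine_piece U.left x
  refine ⟨W, ι, ?_, hx⟩
  rw [Sieve.overEquiv_iff, genSieve_apply]
  have h2 : (Set.range fun i => (gsec M E (s i)).val (op (Over.mk (ι ≫ U.hom)))) =
      Set.range fun i => resAdd M (ι ≫ U.hom) (s i) := by
    congr 1
    funext i
    exact gsec_val M E (s i) (ι ≫ U.hom)
  have h3 : genSpan (M.over E) (fun i => gsec M E (s i)) (op (Over.mk (ι ≫ U.hom))) = ⊤ := by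
    unfold genSpan
    exact h2 ▸ hgen W hW (ι ≫ U.hom)
  rw [h3]
  trivial

end Assemble

end Groth.Agent.Lib.QCEtH7
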