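import Mathlib
import Groth.Agent.Lib.QCEt24_helper7
import Groth.Agent.Lib.QCEt27_helper7

/-!
# Quasi-coherence from the base change property; kernels (helper7)

* `HasBC M`: the sections of `M` satisfy base change along all morphisms of affine objects.
* `isQuasicoherent_of_hasBC`: such a module is quasi-coherent (converse of `bc_qc`).
* `hasBC_kernel`, `isQuasicoherent_kernel`: kernels of morphisms of quasi-coherent modules.
-/

set_option backward.isDefEq.respectTransparency false
set_option backward.isDefEq.respectTransparency.types false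
set_option linter.style.haveILetI false
set_option linter.unusedSectionVars false
set_option linter.unusedVariables false
set_option autoImplicit false
set_option maxHeartbeats 1600000
set_option maxSynthPendingDepth 3

universe u v

open CategoryTheory Limits Opposite AlgebraicGeometry AlgSp TensorProduct

namespace Groth.Agent.Lib.QCEtH7

open Groth.Agent.Lib.WeakAssEtH7 Groth.Agent.Lib.IdealEtBH7 Groth.Agent.Lib.EtPostcomp_helper7
  Groth.Agent.Lib.EtStalkPt_helper7

variable {S : Scheme.{u}} {X : Sp S}

theorem resRing_id (E : EtOver X) (x : Rg E) : resRing (𝟙 E) x = x := by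
  apply ULift.ext
  rw [resRing_down]
  show (𝟙 E.obj.left.left : E.obj.left.left ⟶ E.obj.left.left).appTop.hom x.down = x.down
  simp

theorem mapH_resRing_id (E : EtOver X) {I : Type*} (x : I →₀ Rg E) :
    mapH (resRing (𝟙 E)) x = x := by
  ext i
  rw [mapH_apply, resRing_id]

/-- the base change property for all morphisms between affine objects -/
def HasBC (M : ModEt X) : Prop :=
  ∀ (E' E : EtOver X) (hE' : IsAffine E'.obj.left.left) (hE : IsAffine E.obj.left.left)
    (g : E' ⟶ E), BC M g

theorem hasBC_of_qc (hX : IsAlgSpace X) (M : ModEt X) [M.IsQuasicoherent] : HasBC M := by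
  intro E' E hE' hE g
  exact bc_qc M hX g

section Criterion

variable (M : ModEt X)

theorem localRel_of_hasBC (hbc : HasBC M) (E : EtOver X) [hE : IsAffine E.obj.left.left]
    {I K : Type (u + 1)} (s : I → Sec M E)
    (hs : Function.Surjective (Finsupp.linearCombination (Rg E) s))
    (r : K → (I →₀ Rg E))
    (hr : Submodule.span (Rg E) (Set.range r) =
      LinearMap.ker (Finsupp.linearCombination (Rg E) s)) : LocalRel M E s r := by
  intro W hW b x hx pt
  refine ⟨W, 𝟙 W, hW, ⟨pt, rfl⟩, ?_⟩
  have h4 := IsBCAlong.mem_span_of_lc_eq_zero (resRing b) (hbc W E hW hE b) s (Set.range r) hs hr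
    x hx
  rw [mapH_resRing_id]
  exact (Category.id_comp b).symm ▸ h4

theorem epi_gsec_of_hasBC (hbc : HasBC M) (E : EtOver X) [hE : IsAffine E.obj.left.left]
    {I : Type (u + 1)} (s : I → Sec M E) (hs : Submodule.span (Rg E) (Set.range s) = ⊤) :
    Epi ((M.over E).freeHomEquiv.symm (fun i => gsec M E (s i))) := by
  apply epi_gsec_of_span
  intro W hW b
  have h1 := IsBCAlong.span_image_eq_top (resRing b) (hbc W E hW hE b) (Set.range s) hs
  have h2 : (Set.range fun i => resAdd M b (s i)) = (resAdd M b) '' (Set.range s) := by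
    ext y
    constructor
    · rintro ⟨i, rfl⟩
      exact ⟨s i, ⟨i, rfl⟩, rfl⟩
    · rintro ⟨_, ⟨i, rfl⟩, rfl⟩
      exact ⟨i, rfl⟩
  rw [h2]
  exact h1

/-- a presentation of the restriction to an affine object, from the base change property -/
theorem exists_presentation_of_hasBC (hbc : HasBC M) (E : EtOver X)
    [hE : IsAffine E.obj.left.left] : Nonempty (M.over E).Presentation := by
  obtain ⟨s, hsdef⟩ : ∃ s : Sec M E → Sec M E, s = id := ⟨_, rfl⟩
  have hs : Submodule.span (Rg E) (Set.range s) = ⊤ := by
    rw [hsdef, Set.range_id]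
    exact Submodule.span_univ
  have hsurj : Function.Surjective (Finsupp.linearCombination (Rg E) s) := by
    rw [← LinearMap.range_eq_top, Finsupp.range_linearCombination]
    exact hs
  obtain ⟨r, hrdef⟩ : ∃ r : ↥(LinearMap.ker (Finsupp.linearCombination (Rg E) s)) →
      (Sec M E →₀ Rg E), r = Subtype.val := ⟨_, rfl⟩
  have hr : Submodule.span (Rg E) (Set.range r) =
      LinearMap.ker (Finsupp.linearCombination (Rg E) s) := by
    rw [hrdef, Subtype.range_coe]
    exact Submodule.span_eq _
  have hr0 : ∀ k, Finsupp.linearCombination (Rg E) s (r k) = 0 := by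
    intro k
    rw [hrdef]
    exact k.2
  obtain ⟨P, -⟩ := exists_presentation_of_local M E s r (epi_gsec_of_hasBC M hbc E s hs) hr0
    (localRel_of_hasBC M hbc E s hsurj r hr)
  exact ⟨P⟩

/-- **a module on the small étale site with the base change property is quasi-coherent** -/
theorem isQuasicoherent_of_hasBC (hbc : HasBC M) : M.IsQuasicoherent := by
  have hP : ∀ i : {E : EtOver X // IsAffine E.obj.left.left},
      Nonempty (M.over i.1).Presentation := by
    intro i
    haveI := i.2
    exact exists_presentation_of_hasBC M hbc i.1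
  exact (qcDataOfAffine M (fun i => (hP i).some)).isQuasicoherent

end Criterion

section Kernel

variable {M N : ModEt X} (φ : M ⟶ N)

theorem hasBC_kernel (hM : HasBC M) (hN : HasBC N) : HasBC (kernel φ) := by
  intro E' E hE' hE g
  haveI := hE'
  haveI := hE
  have hc := kernel.condition φ
  refine IsBCAlong.of_exact (resRing g) (flat_resRing g)
    (secLin (kernel.ι φ) E) (secLin φ E) (secLin (kernel.ι φ) E') (secLin φ E')
    (app_injective_of_mono (kernel.ι φ) E) ?_ ?_ (app_injective_of_mono (kernel.ι φ) E') ?_
    (resAdd (kernel φ) g) (resAdd M g) (resAdd N g) (resAdd_semi (kernel φ) g) ?_ ?_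
    (hM E' E hE' hE g) (hN E' E hE' hE g)
  · intro n
    exact congrArg (fun ψ : kernel φ ⟶ N => (ψ.val.app (op E)).hom n) hc
  · intro p hp
    exact exists_kernel_lift φ (op E) p hp
  · intro n
    exact congrArg (fun ψ : kernel φ ⟶ N => (ψ.val.app (op E')).hom n) hc
  · intro n
    exact PresheafOfModules.naturality_apply (kernel.ι φ).val g.op n
  · intro p
    exact PresheafOfModules.naturality_apply φ.val g.op p

/-- the kernel of a morphism of quasi-coherent modules is quasi-coherent -/
theorem isQuasicoherent_kernel (hX : IsAlgSpace X) [M.IsQuasicoherent] [N.IsQuasicoherent] :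
    (kernel φ).IsQuasicoherent :=
  isQuasicoherent_of_hasBC _ (hasBC_kernel φ (hasBC_of_qc hX M) (hasBC_of_qc hX N))

end Kernel

end Groth.Agent.Lib.QCEtH7
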