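import Mathlib
import Groth.Agent.Lib.QCEt25_helper7
import Groth.Agent.Lib.QCEt26_helper7
import Groth.Agent.Lib.QCEt28_helper7

/-!
# Cokernels of morphisms of quasi-coherent modules on the small étale site (helper7)
-/

set_option backward.isDefEq.respectTransparency false
set_option backward.isDefEq.respectTransparency.types false
set_option linter.style.haveILetI false
set_option linter.unusedSectionVars false
set_option linter.unusedVariables false
set_option autoImplicit false
set_option maxHeartbeats 1600000
set_option maxSynthPendingDepth 3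

universe u v

open CategoryTheory Limits Opposite AlgebraicGeometry AlgSp TensorProduct

namespace Groth.Agent.Lib.QCEtH7

open Groth.Agent.Lib.WeakAssEtH7 Groth.Agent.Lib.IdealEtBH7 Groth.Agent.Lib.EtPostcomp_helper7
  Groth.Agent.Lib.EtStalkPt_helper7

variable {S : Scheme.{u}} {X : Sp S}

section Lin

/-- restriction of a linear combination -/
theorem resAdd_lc (M : ModEt X) {E' E : EtOver X} (g : E' ⟶ E) {I : Type*} (v : I → Sec M E)
    (x : I →₀ Rg E) :
    resAdd M g (Finsupp.linearCombination (Rg E) v x) =
      Finsupp.linearCombination (Rg E') (fun i => resAdd M g (v i)) (mapH (resRing g) x) := by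
  induction x using Finsupp.induction_linear with
  | zero => rw [map_zero, map_zero, mapH_zero, map_zero]
  | add x y hx hy => rw [map_add, map_add, mapH_add, map_add, hx, hy]
  | single i a =>
    rw [Finsupp.linearCombination_single, mapH_single, Finsupp.linearCombination_single]
    exact resAdd_semi M g a (v i)

/-- a morphism applied to a linear combination -/
theorem secLin_lc {M N : ModEt X} (f : M ⟶ N) (E : EtOver X) {I : Type*} (v : I → Sec M E)
    (x : I →₀ Rg E) :
    secLin f E (Finsupp.linearCombination (Rg E) v x) =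
      Finsupp.linearCombination (Rg E) (fun i => secLin f E (v i)) x := by
  induction x using Finsupp.induction_linear with
  | zero => rw [map_zero, map_zero, map_zero]
  | add x y hx hy => rw [map_add, map_add, map_add, hx, hy]
  | single i a =>
    rw [Finsupp.linearCombination_single, Finsupp.linearCombination_single, map_smul]

theorem secLin_resAdd {M N : ModEt X} (f : M ⟶ N) {E' E : EtOver X} (g : E' ⟶ E) (m : Sec M E) :
    secLin f E' (resAdd M g m) = resAdd N g (secLin f E m) :=
  PresheafOfModules.naturality_apply f.val g.op m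

theorem secLin_comp {M N P : ModEt X} (f : M ⟶ N) (g : N ⟶ P) (E : EtOver X) (m : Sec M E) :
    secLin (f ≫ g) E m = secLin g E (secLin f E m) := rfl

end Lin

section Coker

variable {M N : ModEt X} (φ : M ⟶ N)

theorem secLin_cokernel_condition (E : EtOver X) (m : Sec M E) :
    secLin (cokernel.π φ) E (secLin φ E m) = 0 := by
  have hc := cokernel.condition φ
  exact congrArg (fun ψ : M ⟶ cokernel φ => (ψ.val.app (op E)).hom m) hc

/-- sections killed by the cokernel projection come locally from `M` -/
theorem exists_local_preimage (hX : IsAlgSpace X) (W : EtOver X) (n₀ : Sec N W)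
    (h0 : secLin (cokernel.π φ) W n₀ = 0) (pt : W.obj.left.left) :
    ∃ (W' : EtOver X) (ι : W' ⟶ W) (m' : Sec M W'), IsAffine W'.obj.left.left ∧
      pt ∈ Set.range ι.hom.left.left ∧ secLin φ W' m' = resAdd N ι n₀ := by
  obtain ⟨z, hz⟩ := exists_kernel_lift (cokernel.π φ) (op W) n₀ h0
  have hS := imSieve_mem_of_epi (Abelian.factorThruImage φ) W z
  obtain ⟨V, f, ⟨m, hm⟩, v, hv⟩ := (mem_etTop_iff hX _).1 hS pt
  obtain ⟨W', ι', hW', w', hw'⟩ := exists_affine_piece V v
  refine ⟨W', ι' ≫ f, resAdd M ι' m, hW', ⟨w', ?_⟩, ?_⟩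
  · rw [← hv, ← hw']
    rfl
  · have hfac : Abelian.factorThruImage φ ≫ Abelian.image.ι φ = φ := Abelian.image.fac φ
    have h1 : secLin φ V m = resAdd N f n₀ := by
      have h2 : secLin φ V m =
          secLin (Abelian.image.ι φ) V (secLin (Abelian.factorThruImage φ) V m) :=
        congrArg (fun ψ : M ⟶ N => secLin ψ V m) hfac.symm
      have h3 : secLin (Abelian.factorThruImage φ) V m =
          resAdd (Abelian.image φ) f z := hm
      rw [h2, h3, secLin_resAdd]
      exact congrArg (resAdd N f) hz
    rw [secLin_resAdd, h1, resAdd_comp]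

variable (hX : IsAlgSpace X) (hM : HasBC M) (hN : HasBC N) (E : EtOver X)
  [hE : IsAffine E.obj.left.left]

/-- the generators of the cokernel over an affine object -/
noncomputable def cokGen : Sec N E → Sec (cokernel φ) E := fun n => secLin (cokernel.π φ) E n

/-- the relations of the cokernel over an affine object -/
noncomputable def cokRel :
    (↥(LinearMap.ker (Finsupp.linearCombination (Rg E) (id : Sec N E → Sec N E))) ⊕ Sec M E) →
      (Sec N E →₀ Rg E)
  | Sum.inl k => k.1
  | Sum.inr t => Finsupp.single (secLin φ E t) 1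

theorem cokRel_zero (k : ↥(LinearMap.ker (Finsupp.linearCombination (Rg E)
    (id : Sec N E → Sec N E))) ⊕ Sec M E) :
    Finsupp.linearCombination (Rg E) (cokGen φ E) (cokRel φ E k) = 0 := by
  have h1 : ∀ y : Sec N E →₀ Rg E, Finsupp.linearCombination (Rg E) (cokGen φ E) y =
      secLin (cokernel.π φ) E (Finsupp.linearCombination (Rg E) id y) := by
    intro y
    exact (secLin_lc (cokernel.π φ) E id y).symm
  rcases k with k | t
  · rw [h1]
    show secLin (cokernel.π φ) E (Finsupp.linearCombination (Rg E) id k.1) = 0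
    have hk : Finsupp.linearCombination (Rg E) id k.1 = 0 := k.2
    rw [hk, map_zero]
  · show Finsupp.linearCombination (Rg E) (cokGen φ E) (Finsupp.single (secLin φ E t) 1) = 0
    rw [Finsupp.linearCombination_single, one_smul]
    exact secLin_cokernel_condition φ E t

include hN in
theorem epi_cokGen :
    Epi (((cokernel φ).over E).freeHomEquiv.symm (fun n => gsec (cokernel φ) E (cokGen φ E n))) := by
  haveI h1 : Epi ((N.over E).freeHomEquiv.symm (fun n : Sec N E => gsec N E n)) := by
    have h := epi_gsec_of_hasBC N hN E (id : Sec N E → Sec N E)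
      (by rw [Set.range_id]; exact Submodule.span_univ)
    exact h
  haveI h2 : Epi ((cokernel.π φ).over E) := epi_over (cokernel.π φ) E
  have h3 : (N.over E).freeHomEquiv.symm (fun n : Sec N E => gsec N E n) ≫ (cokernel.π φ).over E =
      ((cokernel φ).over E).freeHomEquiv.symm
        (fun n => gsec (cokernel φ) E (cokGen φ E n)) := by
    rw [SheafOfModules.freeHomEquiv_symm_comp]
    congr 1
    funext n
    exact sectionsMap_termSec (ovTerm E) ((cokernel.π φ).over E) n
  rw [← h3]
  infer_instance

include hX hM hN in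
theorem localRel_cok : LocalRel (cokernel φ) E (cokGen φ E) (cokRel φ E) := by
  intro W hW b x hx pt
  -- the section of `N` over `W` defined by `x`
  obtain ⟨n₀, hn₀⟩ : ∃ n₀ : Sec N W,
      n₀ = Finsupp.linearCombination (Rg W) (fun n : Sec N E => resAdd N b n) x := ⟨_, rfl⟩
  have h0 : secLin (cokernel.π φ) W n₀ = 0 := by
    rw [hn₀, secLin_lc]
    have h1 : (fun n : Sec N E => secLin (cokernel.π φ) W (resAdd N b n)) =
        fun n => resAdd (cokernel φ) b (cokGen φ E n) := by
      funext n
      exact secLin_resAdd (cokernel.π φ) b n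
    rw [h1]
    exact hx
  obtain ⟨W', ι, m', hW', hpt, hm'⟩ := exists_local_preimage φ hX W n₀ h0 pt
  refine ⟨W', ι, hW', hpt, ?_⟩
  haveI := hW'
  obtain ⟨G, hG⟩ : ∃ G : Submodule (Rg W') (Sec N E →₀ Rg W'),
      G = Submodule.span (Rg W') (mapH (resRing (ι ≫ b)) '' Set.range (cokRel φ E)) := ⟨_, rfl⟩
  rw [← hG]
  -- sections of `M` over `W'` are combinations of restrictions of sections over `E`
  have hspan : Submodule.span (Rg W') ((resAdd M (ι ≫ b)) '' Set.univ) = ⊤ :=
    IsBCAlong.span_image_eq_top (resRing (ι ≫ b)) (hM W' E hW' hE (ι ≫ b)) Set.univ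
      Submodule.span_univ
  have hP : ∀ m'' ∈ Submodule.span (Rg W') ((resAdd M (ι ≫ b)) '' Set.univ),
      ∃ y ∈ G, Finsupp.linearCombination (Rg W') (fun n : Sec N E => resAdd N (ι ≫ b) n) y =
        secLin φ W' m'' := by
    intro m'' hm''
    induction hm'' using Submodule.span_induction with
    | mem a ha =>
      obtain ⟨t, -, rfl⟩ := ha
      refine ⟨Finsupp.single (secLin φ E t) 1, ?_, ?_⟩
      · rw [hG]
        apply Submodule.subset_span
        refine ⟨cokRel φ E (Sum.inr t), ⟨Sum.inr t, rfl⟩, ?_⟩
        show mapH (resRing (ι ≫ b)) (Finsupp.single (secLin φ E t) 1) = _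
        rw [mapH_single, map_one]
      · rw [Finsupp.linearCombination_single, one_smul]
        exact (secLin_resAdd φ (ι ≫ b) t).symm
    | zero => exact ⟨0, zero_mem _, by rw [map_zero, map_zero]⟩
    | add a a' _ _ ha ha' =>
      obtain ⟨y, hy, hy2⟩ := ha
      obtain ⟨y', hy', hy2'⟩ := ha'
      exact ⟨y + y', add_mem hy hy', by rw [map_add, map_add, hy2, hy2']⟩
    | smul c a _ ha =>
      obtain ⟨y, hy, hy2⟩ := ha
      exact ⟨c • y, Submodule.smul_mem _ _ hy, by rw [map_smul, map_smul, hy2]⟩
  obtain ⟨y, hyG, hy⟩ := hP m' (hspan ▸ Submodule.mem_top)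
  -- the difference is a relation of `N`
  have hx' : Finsupp.linearCombination (Rg W') (fun n : Sec N E => resAdd N (ι ≫ b) n)
      (mapH (resRing ι) x) = resAdd N ι n₀ := by
    rw [hn₀, resAdd_lc]
    have h1 : (fun n : Sec N E => resAdd N ι (resAdd N b n)) =
        fun n => resAdd N (ι ≫ b) n := by
      funext n
      exact (resAdd_comp N ι b n).symm
    rw [h1]
  have hdiff : Finsupp.linearCombination (Rg W') (fun n : Sec N E => resAdd N (ι ≫ b) (id n))
      (mapH (resRing ι) x - y) = 0 := by
    show Finsupp.linearCombination (Rg W') (fun n : Sec N E => resAdd N (ι ≫ b) n)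
      (mapH (resRing ι) x - y) = 0
    rw [map_sub, hx', hy, hm', sub_self]
  have hsurj : Function.Surjective (Finsupp.linearCombination (Rg E)
      (id : Sec N E → Sec N E)) := by
    intro n
    exact ⟨Finsupp.single n 1, by rw [Finsupp.linearCombination_single, one_smul]; rfl⟩
  have h4 := IsBCAlong.mem_span_of_lc_eq_zero (resRing (ι ≫ b)) (hN W' E hW' hE (ι ≫ b))
    (id : Sec N E → Sec N E)
    ((LinearMap.ker (Finsupp.linearCombination (Rg E) (id : Sec N E → Sec N E)) :
      Submodule (Rg E) (Sec N E →₀ Rg E)) : Set (Sec N E →₀ Rg E))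
    hsurj (Submodule.span_eq _) (mapH (resRing ι) x - y) hdiff
  have h5 : Submodule.span (Rg W') (mapH (resRing (ι ≫ b)) ''
      ((LinearMap.ker (Finsupp.linearCombination (Rg E) (id : Sec N E → Sec N E)) :
      Submodule (Rg E) (Sec N E →₀ Rg E)) : Set (Sec N E →₀ Rg E))) ≤ G := by
    rw [hG]
    apply Submodule.span_mono
    apply Set.image_mono
    intro k hk
    exact ⟨Sum.inl ⟨k, hk⟩, rfl⟩
  have h6 : mapH (resRing ι) x = (mapH (resRing ι) x - y) + y := (sub_add_cancel _ _).symm
  rw [h6]
  exact add_mem (h5 h4) hyG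

include hX hM hN in
/-- a presentation of the cokernel over an affine object -/
theorem exists_presentation_cokernel : Nonempty ((cokernel φ).over E).Presentation := by
  obtain ⟨P, -⟩ := exists_presentation_of_local (cokernel φ) E (cokGen φ E) (cokRel φ E)
    (epi_cokGen φ hN E) (cokRel_zero φ E) (localRel_cok φ hX hM hN E)
  exact ⟨P⟩

end Coker

section Main

variable {M N : ModEt X} (φ : M ⟶ N)

/-- **the cokernel of a morphism of quasi-coherent modules is quasi-coherent** -/
theorem isQuasicoherent_cokernel (hX : IsAlgSpace X) [M.IsQuasicoherent] [N.IsQuasicoherent] :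
    (cokernel φ).IsQuasicoherent := by
  have hP : ∀ i : {E : EtOver X // IsAffine E.obj.left.left},
      Nonempty ((cokernel φ).over i.1).Presentation := by
    intro i
    haveI := i.2
    exact exists_presentation_cokernel φ hX (hasBC_of_qc hX M) (hasBC_of_qc hX N) i.1
  exact (qcDataOfAffine (cokernel φ) (fun i => (hP i).some)).isQuasicoherent

variable {S' : Scheme.{u}}

/-- **S10742** -/
theorem main10742 (X : AlgSp.Space S') (hX : AlgSp.IsLocNoethSp X.obj)
    {M N : AlgSp.ModEt X.obj} [M.IsFinitePresentation] [N.IsFinitePresentation] (φ : M ⟶ N) :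
    (kernel φ).IsFinitePresentation ∧ (cokernel φ).IsFinitePresentation := by
  haveI h1 : (kernel φ).IsQuasicoherent := isQuasicoherent_kernel φ X.property
  haveI h2 : (cokernel φ).IsQuasicoherent := isQuasicoherent_cokernel φ X.property
  exact ⟨main10744 X hX (kernel.ι φ), main10745 X hX (cokernel.π φ)⟩

end Main

end Groth.Agent.Lib.QCEtH7
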