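import Mathlib
import Groth.Agent.Lib.QCEt29_helper7
import Groth.Agent.Lib.JointEpi_helper7

/-!
# Coproducts of quasi-coherent modules on the small étale site are quasi-coherent (helper7)

* `secLin_ι_π_same`, `secLin_ι_π_ne`: sections of the inclusions and projections of a coproduct.
* `coGen`, `coRel`: generators and relations of the coproduct over an affine object.
* `exists_presentation_coprod`, `isQuasicoherent_coprod`.
-/

set_option backward.isDefEq.respectTransparency false
set_option backward.isDefEq.respectTransparency.types false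
set_option linter.style.haveILetI false
set_option linter.unusedSectionVars false
set_option linter.unusedVariables false
set_option autoImplicit false
set_option maxHeartbeats 1600000
set_option maxSynthPendingDepth 3

universe u v

open CategoryTheory Limits Opposite AlgebraicGeometry AlgSp TensorProduct

namespace Groth.Agent.Lib.QCEtH7

open Groth.Agent.Lib.WeakAssEtH7 Groth.Agent.Lib.IdealEtBH7 Groth.Agent.Lib.EtPostcomp_helper7
  Groth.Agent.Lib.EtStalkPt_helper7

variable {S : Scheme.{u}} {X : Sp S}

section Alg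

theorem mapH_mapDomain {A B : Type*} [CommRing A] [CommRing B] (φ : A →+* B) {α γ : Type*}
    (f : α → γ) (k : α →₀ A) :
    mapH φ (Finsupp.mapDomain f k) = Finsupp.mapDomain f (mapH φ k) := by
  unfold mapH
  exact (Finsupp.mapDomain_mapRange f k φ (map_zero _) (fun a a' => map_add _ a a')).symm

theorem mapDomain_mem_span_gen {A B : Type*} [CommRing A] [CommRing B] (φ : A →+* B)
    {α γ : Type*} (f : α → γ) (T : Set (α →₀ A)) (T' : Set (γ →₀ A))
    (hT : ∀ k ∈ T, Finsupp.mapDomain f k ∈ T') (y : α →₀ B)
    (hy : y ∈ Submodule.span B (mapH φ '' T)) :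
    Finsupp.mapDomain f y ∈ Submodule.span B (mapH φ '' T') := by
  induction hy using Submodule.span_induction with
  | mem a ha =>
    obtain ⟨k, hk, rfl⟩ := ha
    apply Submodule.subset_span
    exact ⟨Finsupp.mapDomain f k, hT k hk, mapH_mapDomain φ f k⟩
  | zero =>
    rw [Finsupp.mapDomain_zero]
    exact zero_mem _
  | add a a' _ _ ha ha' =>
    rw [Finsupp.mapDomain_add]
    exact add_mem ha ha'
  | smul c a _ ha =>
    rw [Finsupp.mapDomain_smul]
    exact Submodule.smul_mem _ _ ha

end Alg

section Coprod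

variable {β : Type u} [DecidableEq β] (F : β → ModEt X) [HasCoproduct F]

theorem secLin_ι_π_same (j : β) (E : EtOver X) (m : Sec (F j) E) :
    secLin (Sigma.π F j) E (secLin (Sigma.ι F j) E m) = m :=
  congrArg (fun ψ : F j ⟶ F j => (ψ.val.app (op E)).hom m) (Sigma.ι_π_eq_id F j)

theorem secLin_ι_π_ne {j j' : β} (h : j ≠ j') (E : EtOver X) (m : Sec (F j) E) :
    secLin (Sigma.π F j') E (secLin (Sigma.ι F j) E m) = 0 :=
  congrArg (fun ψ : F j ⟶ F j' => (ψ.val.app (op E)).hom m) (Sigma.ι_π_of_ne F h)

/-- the inclusions of a coproduct are jointly epimorphic -/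
theorem coprod_jointly_epi (Q : ModEt X) (g : ∐ F ⟶ Q) (h : ∀ j, Sigma.ι F j ≫ g = 0) : g = 0 := by
  apply Sigma.hom_ext
  intro j
  rw [h j, comp_zero]

variable (E : EtOver X)

/-- the index type of the generators -/
abbrev CI : Type (u + 1) := Σ j : β, Sec (F j) E

/-- the generators of the coproduct over an affine object -/
noncomputable def coGen : CI F E → Sec (∐ F) E := fun i => secLin (Sigma.ι F i.1) E i.2

/-- the index type of the relations -/
abbrev CK : Type (u + 1) :=
  Σ j : β, ↥(LinearMap.ker (Finsupp.linearCombination (Rg E) (id : Sec (F j) E → Sec (F j) E)))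

/-- the relations of the coproduct over an affine object -/
noncomputable def coRel : CK F E → (CI F E →₀ Rg E) :=
  fun k => Finsupp.mapDomain (Sigma.mk k.1) k.2.1

theorem coRel_zero (k : CK F E) :
    Finsupp.linearCombination (Rg E) (coGen F E) (coRel F E k) = 0 := by
  unfold coRel
  rw [Finsupp.linearCombination_mapDomain]
  have h1 : (coGen F E ∘ Sigma.mk k.1) = fun m => secLin (Sigma.ι F k.1) E (id m) := rfl
  rw [h1, ← secLin_lc]
  have hk : Finsupp.linearCombination (Rg E) id k.2.1 = 0 := k.2.2
  rw [hk, map_zero]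

variable (hX : IsAlgSpace X) (hbc : ∀ j, HasBC (F j)) [hE : IsAffine E.obj.left.left]

include hbc in
theorem famSpan_le_span {W : EtOver X} (hW : IsAffine W.obj.left.left) (b : W ⟶ E) :
    (famSpan (fun j => Sigma.ι F j)).obj (op W) ≤
      Submodule.span (Rg W) (Set.range fun i => resAdd (∐ F) b (coGen F E i)) := by
  apply iSup_le
  intro j
  rintro _ ⟨m, rfl⟩
  have hspan : Submodule.span (Rg W) ((resAdd (F j) b) '' Set.univ) = ⊤ :=
    IsBCAlong.span_image_eq_top (resRing b) (hbc j W E hW hE b) Set.univ Submodule.span_univ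
  have hm : m ∈ Submodule.span (Rg W) ((resAdd (F j) b) '' Set.univ) := hspan ▸ Submodule.mem_top
  show secLin (Sigma.ι F j) W m ∈ _
  induction hm using Submodule.span_induction with
  | mem a ha =>
    obtain ⟨m₀, -, rfl⟩ := ha
    rw [secLin_resAdd]
    exact Submodule.subset_span ⟨⟨j, m₀⟩, rfl⟩
  | zero =>
    rw [map_zero]
    exact zero_mem _
  | add a a' _ _ ha ha' =>
    rw [map_add]
    exact add_mem ha ha'
  | smul c a _ ha =>
    rw [map_smul]
    exact Submodule.smul_mem _ _ ha

include hX hbc in
theorem epi_coGen :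
    Epi (((∐ F).over E).freeHomEquiv.symm (fun i => gsec (∐ F) E (coGen F E i))) := by
  apply epi_of_genSieve_mem
  intro U n
  rw [GrothendieckTopology.mem_over_iff]
  apply sieve_mem_of_forall_exists
  intro x
  obtain ⟨n', hn'⟩ : ∃ n' : Sec (∐ F) U.left, n' = n := ⟨_, rfl⟩
  have hS := famSieve_mem (fun j => Sigma.ι F j) (coprod_jointly_epi F) U.left n'
  obtain ⟨V, f, hf, v, hv⟩ := (mem_etTop_iff hX _).1 hS x
  obtain ⟨W, ι, hW, w, hw⟩ := exists_affine_piece V v
  refine ⟨W, ι ≫ f, ?_, ⟨w, ?_⟩⟩
  · rw [Sieve.overEquiv_iff, genSieve_apply]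
    have h2 : (Set.range fun i => (gsec (∐ F) E (coGen F E i)).val
        (op (Over.mk ((ι ≫ f) ≫ U.hom)))) =
        Set.range fun i => resAdd (∐ F) ((ι ≫ f) ≫ U.hom) (coGen F E i) := by
      congr 1
      funext i
      exact gsec_val (∐ F) E (coGen F E i) ((ι ≫ f) ≫ U.hom)
    unfold genSpan
    rw [h2]
    -- the restriction of `n` to `W` is a finite sum of images
    have h3 : resAdd (∐ F) (ι ≫ f) n' ∈
        (famSpan (fun j => Sigma.ι F j)).obj (op W) := by
      rw [resAdd_comp]
      exact (famSpan (fun j => Sigma.ι F j)).map_mem ι.op hf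
    have h5 := famSpan_le_span F E hbc hW ((ι ≫ f) ≫ U.hom) h3
    rw [hn'] at h5
    exact h5
  · rw [← hv, ← hw]
    rfl

/-- the `j`-th component of a relation among the generators is a relation of `F j` -/
theorem lc_split_eq_zero {W : EtOver X} (b : W ⟶ E) (x : CI F E →₀ Rg W)
    (hx : Finsupp.linearCombination (Rg W) (fun i => resAdd (∐ F) b (coGen F E i)) x = 0)
    (j : β) :
    Finsupp.linearCombination (Rg W) (fun m : Sec (F j) E => resAdd (F j) b (id m))
      (x.split j) = 0 := by
  by_cases hj : j ∈ x.splitSupport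
  · have h1 : secLin (Sigma.π F j) W
        (Finsupp.linearCombination (Rg W) (fun i => resAdd (∐ F) b (coGen F E i)) x) = 0 := by
      rw [hx, map_zero]
    rw [secLin_lc, Finsupp.linearCombination_apply, Finsupp.sigma_sum] at h1
    rw [Finset.sum_eq_single_of_mem j hj] at h1
    · rw [Finsupp.linearCombination_apply]
      refine Eq.trans ?_ h1
      apply Finsupp.sum_congr
      intro m _
      show x.split j m • resAdd (F j) b m = x.split j m •
        secLin (Sigma.π F j) W (resAdd (∐ F) b (secLin (Sigma.ι F j) E m))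
      rw [← secLin_resAdd, secLin_ι_π_same]
    · intro j' _ hne
      apply Finset.sum_eq_zero
      intro m _
      show x.split j' m •
        secLin (Sigma.π F j) W (resAdd (∐ F) b (secLin (Sigma.ι F j') E m)) = 0
      rw [← secLin_resAdd, secLin_ι_π_ne F hne, smul_zero]
  · have h0 : x.split j = 0 := by
      by_contra h
      exact hj ((Finsupp.mem_splitSupport_iff_nonzero x j).2 h)
    rw [h0, map_zero]

theorem eq_sum_mapDomain_split {A : Type*} [AddCommMonoid A] (x : CI F E →₀ A) :
    x = ∑ j ∈ x.splitSupport, Finsupp.mapDomain (Sigma.mk j) (x.split j) := by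
  conv_lhs => rw [← Finsupp.sum_single x]
  rw [Finsupp.sigma_sum]
  rfl

theorem mapDomain_mem_span {W : EtOver X} (b : W ⟶ E) (j : β) (y : Sec (F j) E →₀ Rg W)
    (hy : y ∈ Submodule.span (Rg W) (mapH (resRing b) ''
      ((LinearMap.ker (Finsupp.linearCombination (Rg E) (id : Sec (F j) E → Sec (F j) E)) :
        Submodule (Rg E) (Sec (F j) E →₀ Rg E)) : Set (Sec (F j) E →₀ Rg E)))) :
    Finsupp.mapDomain (Sigma.mk j) y ∈
      Submodule.span (Rg W) (mapH (resRing b) '' Set.range (coRel F E)) := by
  have hT : ∀ k ∈ ((LinearMap.ker (Finsupp.linearCombination (Rg E)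
      (id : Sec (F j) E → Sec (F j) E)) :
      Submodule (Rg E) (Sec (F j) E →₀ Rg E)) : Set (Sec (F j) E →₀ Rg E)),
      Finsupp.mapDomain (@Sigma.mk β (fun j => Sec (F j) E) j) k ∈ Set.range (coRel F E) := by
    intro k hk
    exact ⟨⟨j, ⟨k, hk⟩⟩, rfl⟩
  exact mapDomain_mem_span_gen (resRing b) (@Sigma.mk β (fun j => Sec (F j) E) j) _
    (Set.range (coRel F E)) hT y hy

include hbc in
theorem localRel_coprod : LocalRel (∐ F) E (coGen F E) (coRel F E) := by
  intro W hW b x hx pt
  refine ⟨W, 𝟙 W, hW, ⟨pt, rfl⟩, ?_⟩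
  rw [mapH_resRing_id]
  have key : x ∈ Submodule.span (Rg W) (mapH (resRing b) '' Set.range (coRel F E)) := by
    rw [eq_sum_mapDomain_split F E x]
    apply Submodule.sum_mem
    intro j _
    apply mapDomain_mem_span F E b j
    have hsurj : Function.Surjective (Finsupp.linearCombination (Rg E)
        (id : Sec (F j) E → Sec (F j) E)) := by
      intro n
      exact ⟨Finsupp.single n 1, by rw [Finsupp.linearCombination_single, one_smul]; rfl⟩
    exact IsBCAlong.mem_span_of_lc_eq_zero (resRing b) (hbc j W E hW hE b)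
      (id : Sec (F j) E → Sec (F j) E)
      ((LinearMap.ker (Finsupp.linearCombination (Rg E) (id : Sec (F j) E → Sec (F j) E)) :
        Submodule (Rg E) (Sec (F j) E →₀ Rg E)) : Set (Sec (F j) E →₀ Rg E))
      hsurj (Submodule.span_eq _) (x.split j) (lc_split_eq_zero F E b x hx j)
  exact (Category.id_comp b).symm ▸ key

include hX hbc in
/-- a presentation of the coproduct over an affine object -/
theorem exists_presentation_coprod : Nonempty ((∐ F).over E).Presentation := by
  obtain ⟨P, -⟩ := exists_presentation_of_local (∐ F) E (coGen F E) (coRel F E)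
    (epi_coGen F E hX hbc) (coRel_zero F E) (localRel_coprod F E hbc)
  exact ⟨P⟩

end Coprod

section Main

variable {β : Type u} (F : β → ModEt X) [HasCoproduct F]

/-- **a coproduct of quasi-coherent modules is quasi-coherent** -/
theorem isQuasicoherent_coprod (hX : IsAlgSpace X) (hF : ∀ j, (F j).IsQuasicoherent) :
    (∐ F).IsQuasicoherent := by
  classical
  have hP : ∀ i : {E : EtOver X // IsAffine E.obj.left.left},
      Nonempty ((∐ F).over i.1).Presentation := by
    intro i
    haveI := i.2
    exact exists_presentation_coprod F i.1 hX (fun j => hasBC_of_qc hX (F j))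
  exact (qcDataOfAffine (∐ F) (fun i => (hP i).some)).isQuasicoherent

end Main

end Groth.Agent.Lib.QCEtH7
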