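import Mathlib
import Groth.Agent.Lib.CoprodQC1_helper7

/-!
# Colimits of quasi-coherent modules on the small étale site are quasi-coherent (helper7)

A colimit is the cokernel of a morphism between two coproducts.
-/

set_option backward.isDefEq.respectTransparency false
set_option backward.isDefEq.respectTransparency.types false
set_option linter.style.haveILetI false
set_option linter.unusedSectionVars false
set_option linter.unusedVariables false
set_option autoImplicit false
set_option maxHeartbeats 1600000
set_option maxSynthPendingDepth 3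

universe u v

open CategoryTheory Limits Opposite AlgebraicGeometry AlgSp TensorProduct

namespace Groth.Agent.Lib.QCEtH7

variable {S : Scheme.{u}} {X : Sp S}

section Iso

theorem isQuasicoherent_of_iso {M N : ModEt X} (e : M ≅ N) (hM : M.IsQuasicoherent) :
    N.IsQuasicoherent :=
  (SheafOfModules.isQuasicoherent (OEtRing X)).prop_of_iso e hM

end Iso

section Colim

variable {J : Type u} [SmallCategory J] (D : J ⥤ ModEt X)

/-- the source family -/
abbrev srcFam : (Σ p : J × J, p.1 ⟶ p.2) → ModEt X := fun f => D.obj f.1.1

/-- the first map between the coproducts -/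
noncomputable def colS : ∐ (srcFam D) ⟶ ∐ D.obj :=
  Sigma.desc (fun f : (Σ p : J × J, p.1 ⟶ p.2) => D.map f.2 ≫ Sigma.ι D.obj f.1.2)

/-- the second map between the coproducts -/
noncomputable def colT : ∐ (srcFam D) ⟶ ∐ D.obj :=
  Sigma.desc (fun f : (Σ p : J × J, p.1 ⟶ p.2) => Sigma.ι D.obj f.1.1)

/-- the colimit cocone with point the cokernel of `colS - colT` -/
noncomputable def colCocone : Cocone D :=
  HasColimitOfHasCoproductsOfHasCoequalizers.buildColimit
    (c₁ := Cofan.mk (∐ (srcFam D)) (Sigma.ι (srcFam D)))
    (c₂ := Cofan.mk (∐ D.obj) (Sigma.ι D.obj)) (colS D) (colT D)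
    (fun f => by
      show Sigma.ι (srcFam D) f ≫ colS D = _
      unfold colS
      rw [Sigma.ι_desc]
      rfl)
    (fun f => by
      show Sigma.ι (srcFam D) f ≫ colT D = _
      unfold colT
      rw [Sigma.ι_desc]
      rfl)
    (Preadditive.coforkOfCokernelCofork
      (CokernelCofork.ofπ (cokernel.π (colS D - colT D)) (cokernel.condition _)))

noncomputable def colIsColimit : IsColimit (colCocone D) :=
  HasColimitOfHasCoproductsOfHasCoequalizers.buildIsColimit _ _ _ _
    (coproductIsCoproduct (srcFam D)) (coproductIsCoproduct D.obj)
    (Preadditive.isColimitCoforkOfCokernelCofork (cokernelIsCokernel (colS D - colT D)))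

theorem colCocone_pt : (colCocone D).pt = cokernel (colS D - colT D) := rfl

/-- **a colimit of quasi-coherent modules is quasi-coherent** -/
theorem isQuasicoherent_colimit (hX : IsAlgSpace X) [HasColimit D]
    (hD : ∀ j, (D.obj j).IsQuasicoherent) : (colimit D).IsQuasicoherent := by
  haveI h1 : (∐ (srcFam D)).IsQuasicoherent :=
    isQuasicoherent_coprod (srcFam D) hX (fun f => hD f.1.1)
  haveI h2 : (∐ D.obj).IsQuasicoherent := isQuasicoherent_coprod D.obj hX hD
  have h3 : (cokernel (colS D - colT D)).IsQuasicoherent :=
    isQuasicoherent_cokernel (colS D - colT D) hX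
  exact isQuasicoherent_of_iso
    ((colIsColimit D).coconePointUniqueUpToIso (colimit.isColimit D)) h3

end Colim

end Groth.Agent.Lib.QCEtH7
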