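import Mathlib
import Groth.Prelude.Def_CohCx
import Groth.Agent.Lib.CechSiteSheaf_helper2

/-!
# Sections of filtered colimits of abelian sheaves on a site (helper7)

* `loc_surj`, `loc_inj`: for a filtered colimit `c` of abelian sheaves on a small site, every section
  of `c.pt` locally comes from a stage and a section of a stage which dies in `c.pt` locally dies at
  a later stage.
* `sec_inj`, `sec_surj`: with a class `B` of objects and a class `Cov` of finite covering families as
  in S0862, sections over members of `B` commute with directed colimits.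
-/

set_option backward.isDefEq.respectTransparency false
set_option backward.isDefEq.respectTransparency.types false
set_option linter.style.haveILetI false
set_option linter.unusedSectionVars false
set_option linter.unusedVariables false
set_option autoImplicit false
set_option maxHeartbeats 1600000

universe u
open CategoryTheory Limits Opposite

namespace Groth.Agent.Lib.ColimSiteH7

open Groth.Agent.Lib.CechSite

variable {C : Type u} [SmallCategory C] (J : GrothendieckTopology C)

section Loc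

variable {K : Type u} [SmallCategory K] [IsFiltered K]
  (D : K ⥤ Sheaf J AddCommGrpCat.{u})

/-- the pointwise colimit cocone of presheaves -/
noncomputable abbrev EE : Cocone (D ⋙ sheafToPresheaf J AddCommGrpCat.{u}) := colimit.cocone _

/-- evaluated at an object, it is a colimit of abelian groups -/
noncomputable def hEV (V : C) :
    IsColimit (((evaluation Cᵒᵖ AddCommGrpCat.{u}).obj (op V)).mapCocone (EE J D)) :=
  isColimitOfPreserves _ (colimit.isColimit _)

lemma E_rep (V : C) (x : (EE J D).pt.obj (op V)) :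
    ∃ (i : K) (s : (D.obj i).obj.obj (op V)), (((EE J D).ι.app i).app (op V)).hom s = x := by
  obtain ⟨i, s, hs⟩ := Concrete.isColimit_exists_rep _ (hEV J D V) x
  exact ⟨i, s, hs⟩

lemma E_eq_zero (V : C) (i : K) (s : (D.obj i).obj.obj (op V))
    (h : (((EE J D).ι.app i).app (op V)).hom s = 0) :
    ∃ (j : K) (f : i ⟶ j), ((D.map f).hom.app (op V)).hom s = 0 := by
  have h0 : (((EE J D).ι.app i).app (op V)).hom (0 : (D.obj i).obj.obj (op V)) = 0 := map_zero _
  have h' : (((EE J D).ι.app i).app (op V)).hom s =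
      (((EE J D).ι.app i).app (op V)).hom (0 : (D.obj i).obj.obj (op V)) := h.trans h0.symm
  obtain ⟨k, f, g, hfg⟩ := (Concrete.isColimit_rep_eq_iff_exists _ (hEV J D V) s
    (0 : (D.obj i).obj.obj (op V))).1 h'
  refine ⟨k, f, ?_⟩
  have h1 : ((D.map f).hom.app (op V)).hom s =
      ((D.map g).hom.app (op V)).hom (0 : (D.obj i).obj.obj (op V)) := hfg
  rw [h1]
  exact map_zero _

variable (c : Cocone D) (hc : IsColimit c)

include hc in
/-- every section of a filtered colimit of abelian sheaves locally comes from a stage -/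
lemma loc_surj (V : C) (t : c.pt.obj.obj (op V)) :
    ∃ T ∈ J V, ∀ (W : C) (g : W ⟶ V), T.arrows g →
      ∃ (i : K) (s : (D.obj i).obj.obj (op W)),
        ((c.ι.app i).hom.app (op W)).hom s = rs c.pt.obj g t := by
  let E := EE J D
  let c' := Sheaf.sheafifyCocone E
  have hc' : IsColimit c' := Sheaf.isColimitSheafifyCocone E (colimit.isColimit _)
  let e := hc'.coconePointUniqueUpToIso hc
  have he : ∀ i, c'.ι.app i ≫ e.hom = c.ι.app i :=
    fun i => hc'.comp_coconePointUniqueUpToIso_hom hc i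
  have hι : ∀ i, (c'.ι.app i).hom = E.ι.app i ≫ toSheafify J E.pt :=
    fun i => Sheaf.sheafifyCocone_ι_app_val E i
  let t' : (sheafify J E.pt).obj (op V) := (e.inv.hom.app (op V)).hom t
  have hT := Presheaf.imageSieve_mem J (toSheafify J E.pt) t'
  refine ⟨_, hT, ?_⟩
  intro W g hg
  obtain ⟨x, hx⟩ := hg
  have hx' : ((toSheafify J E.pt).app (op W)).hom x = rs (sheafify J E.pt) g t' := hx
  obtain ⟨i, s, hs⟩ := E_rep J D W x
  refine ⟨i, s, ?_⟩
  have e1 : (e.hom.hom.app (op W)).hom (((c'.ι.app i).hom.app (op W)).hom s) =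
      ((c.ι.app i).hom.app (op W)).hom s :=
    congrArg (fun φ => (φ.hom.app (op W)).hom s) (he i)
  have e2 : ((c'.ι.app i).hom.app (op W)).hom s =
      ((toSheafify J E.pt).app (op W)).hom (((E.ι.app i).app (op W)).hom s) :=
    congrArg (fun φ => (φ.app (op W)).hom s) (hι i)
  have e3 : (e.hom.hom.app (op W)).hom (rs (sheafify J E.pt) g t') =
      rs c.pt.obj g ((e.hom.hom.app (op V)).hom t') :=
    rs_app (P := sheafify J E.pt) (P' := c.pt.obj) e.hom.hom g t'
  have e4 : (e.hom.hom.app (op V)).hom t' = t :=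
    congrArg (fun φ => (φ.hom.app (op V)).hom t) e.inv_hom_id
  rw [← e1, e2, hs, hx', e3, e4]

include hc in
/-- a section of a stage dying in the colimit locally dies at a later stage -/
lemma loc_inj (V : C) (i : K) (s : (D.obj i).obj.obj (op V))
    (h : ((c.ι.app i).hom.app (op V)).hom s = 0) :
    ∃ T ∈ J V, ∀ (W : C) (g : W ⟶ V), T.arrows g →
      ∃ (j : K) (f : i ⟶ j), ((D.map f).hom.app (op W)).hom (rs (D.obj i).obj g s) = 0 := by
  let E := EE J D
  let c' := Sheaf.sheafifyCocone E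
  have hc' : IsColimit c' := Sheaf.isColimitSheafifyCocone E (colimit.isColimit _)
  let e := hc'.coconePointUniqueUpToIso hc
  have he : ∀ i, c'.ι.app i ≫ e.hom = c.ι.app i :=
    fun i => hc'.comp_coconePointUniqueUpToIso_hom hc i
  have hι : ∀ i, (c'.ι.app i).hom = E.ι.app i ≫ toSheafify J E.pt :=
    fun i => Sheaf.sheafifyCocone_ι_app_val E i
  let x : E.pt.obj (op V) := ((E.ι.app i).app (op V)).hom s
  have e1 : (e.hom.hom.app (op V)).hom (((c'.ι.app i).hom.app (op V)).hom s) =
      ((c.ι.app i).hom.app (op V)).hom s :=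
    congrArg (fun φ => (φ.hom.app (op V)).hom s) (he i)
  have e2 : ((c'.ι.app i).hom.app (op V)).hom s =
      ((toSheafify J E.pt).app (op V)).hom x :=
    congrArg (fun φ => (φ.app (op V)).hom s) (hι i)
  have e3 : ((toSheafify J E.pt).app (op V)).hom x = 0 := by
    have h5 : (e.inv.hom.app (op V)).hom ((e.hom.hom.app (op V)).hom
        (((c'.ι.app i).hom.app (op V)).hom s)) = ((c'.ι.app i).hom.app (op V)).hom s :=
      congrArg (fun φ => (φ.hom.app (op V)).hom (((c'.ι.app i).hom.app (op V)).hom s))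
        e.hom_inv_id
    rw [← e2, ← h5, e1, h]
    exact map_zero _
  have e4 : ((toSheafify J E.pt).app (op V)).hom x =
      ((toSheafify J E.pt).app (op V)).hom (0 : E.pt.obj (op V)) :=
    e3.trans (map_zero _).symm
  have hT := Presheaf.equalizerSieve_mem J (toSheafify J E.pt) (X := op V) x 0 e4
  refine ⟨_, hT, ?_⟩
  intro W g hg
  have hg' : rs E.pt g x = rs E.pt g 0 := hg
  have e5 : rs E.pt g x = ((E.ι.app i).app (op W)).hom (rs (D.obj i).obj g s) :=
    (rs_app (P := (D.obj i).obj) (P' := E.pt) (E.ι.app i) g s).symm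
  have e6 : ((E.ι.app i).app (op W)).hom (rs (D.obj i).obj g s) = 0 := by
    rw [← e5, hg']
    exact map_zero _
  exact E_eq_zero J D W i _ e6

end Loc

section Dir

variable [HasPullbacks C] (B : Set C) (Cov : ∀ (U : C) (ι : Type u), (ι → Over U) → Prop)
  (h1 : ∀ (U : C) (ι : Type u) (Y : ι → Over U), Cov U ι Y → Finite ι ∧ U ∈ B ∧
    Sieve.ofArrows (fun i => (Y i).left) (fun i => (Y i).hom) ∈ J U ∧
    ∀ (p : ℕ) (a : Fin (p + 1) → ι), (∏ᶜ fun k => Y (a k)).left ∈ B)
  (h2 : ∀ U ∈ B, ∀ T ∈ J U, ∃ (ι : Type u) (Y : ι → Over U), Cov U ι Y ∧ ∀ i, T.arrows (Y i).hom)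
  {κ : Type u} [Preorder κ] [IsDirected κ (· ≤ ·)] [Nonempty κ]
  (D : κ ⥤ Sheaf J AddCommGrpCat.{u}) (c : Cocone D) (hc : IsColimit c)

/-- transition maps on sections -/
noncomputable def tr {i j : κ} (h : i ≤ j) (V : C) :
    (D.obj i).obj.obj (op V) →+ (D.obj j).obj.obj (op V) :=
  ((D.map (homOfLE h)).hom.app (op V)).hom

lemma tr_tr {i j k : κ} (h : i ≤ j) (h' : j ≤ k) (V : C) (s : (D.obj i).obj.obj (op V)) :
    tr J D h' V (tr J D h V s) = tr J D (h.trans h') V s := by
  have e : D.map (homOfLE h) ≫ D.map (homOfLE h') = D.map (homOfLE (h.trans h')) :=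
    (D.map_comp (homOfLE h) (homOfLE h')).symm
  exact congrArg (fun φ => (φ.hom.app (op V)).hom s) e

lemma tr_rs {i j : κ} (h : i ≤ j) {V W : C} (g : W ⟶ V) (s : (D.obj i).obj.obj (op V)) :
    tr J D h W (rs (D.obj i).obj g s) = rs (D.obj j).obj g (tr J D h V s) :=
  rs_app (P := (D.obj i).obj) (P' := (D.obj j).obj) (D.map (homOfLE h)).hom g s

/-- the structure maps of the cocone on sections -/
noncomputable def inn (i : κ) (V : C) : (D.obj i).obj.obj (op V) →+ c.pt.obj.obj (op V) :=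
  ((c.ι.app i).hom.app (op V)).hom

lemma inn_tr {i j : κ} (h : i ≤ j) (V : C) (s : (D.obj i).obj.obj (op V)) :
    inn J D c j V (tr J D h V s) = inn J D c i V s := by
  have e : D.map (homOfLE h) ≫ c.ι.app j = c.ι.app i := c.w (homOfLE h)
  exact congrArg (fun φ => (φ.hom.app (op V)).hom s) e

lemma inn_rs (i : κ) {V W : C} (g : W ⟶ V) (s : (D.obj i).obj.obj (op V)) :
    inn J D c i W (rs (D.obj i).obj g s) = rs c.pt.obj g (inn J D c i V s) :=
  rs_app (P := (D.obj i).obj) (P' := c.pt.obj) (c.ι.app i).hom g s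

lemma map_eq_tr {i j : κ} (f : i ⟶ j) (V : C) (s : (D.obj i).obj.obj (op V)) :
    ((D.map f).hom.app (op V)).hom s = tr J D (leOfHom f) V s := by
  have : f = homOfLE (leOfHom f) := Subsingleton.elim _ _
  rw [this]
  rfl

include h1 h2 hc in
/-- over a member of `B`, a section of a stage dying in the colimit dies at a later stage -/
theorem sec_inj (V : C) (hV : V ∈ B) (i : κ) (s : (D.obj i).obj.obj (op V))
    (h : inn J D c i V s = 0) : ∃ (j : κ) (hij : i ≤ j), tr J D hij V s = 0 := by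
  obtain ⟨S, hS, hloc⟩ := loc_inj J D c hc V i s h
  obtain ⟨ι', Y, hCov, hYT⟩ := h2 V hV S hS
  obtain ⟨hfin, -, hcov, -⟩ := h1 V ι' Y hCov
  haveI := hfin
  have hex : ∀ a : ι', ∃ (j : κ) (hij : i ≤ j),
      tr J D hij (Y a).left (rs (D.obj i).obj (Y a).hom s) = 0 := by
    intro a
    obtain ⟨j, f, hf⟩ := hloc _ (Y a).hom (hYT a)
    refine ⟨j, leOfHom f, ?_⟩
    rw [← map_eq_tr]
    exact hf
  choose ja hja hz using hex
  obtain ⟨M, hM⟩ := Finite.exists_le ja
  obtain ⟨N, hiN, hMN⟩ := exists_ge_ge i M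
  refine ⟨N, hiN, ?_⟩
  apply ext_of_cover Y (D.obj N) hcov
  intro a
  rw [← tr_rs, map_zero]
  have e : tr J D hiN (Y a).left (rs (D.obj i).obj (Y a).hom s) =
      tr J D ((hM a).trans hMN) (Y a).left
        (tr J D (hja a) (Y a).left (rs (D.obj i).obj (Y a).hom s)) :=
    (tr_tr J D (hja a) ((hM a).trans hMN) _ _).symm
  rw [e, hz a, map_zero]

include h1 h2 hc in
/-- over a member of `B`, every section of the colimit comes from a stage -/
theorem sec_surj (V : C) (hV : V ∈ B) (t : c.pt.obj.obj (op V)) :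
    ∃ (i : κ) (s : (D.obj i).obj.obj (op V)), inn J D c i V s = t := by
  obtain ⟨S, hS, hloc⟩ := loc_surj J D c hc V t
  obtain ⟨ι', Y, hCov, hYT⟩ := h2 V hV S hS
  obtain ⟨hfin, -, hcov, hB⟩ := h1 V ι' Y hCov
  haveI := hfin
  have hex : ∀ a : ι', ∃ (i : κ) (s : (D.obj i).obj.obj (op (Y a).left)),
      inn J D c i (Y a).left s = rs c.pt.obj (Y a).hom t := fun a => hloc _ (Y a).hom (hYT a)
  choose ia sa hsa using hex
  obtain ⟨M, hM⟩ := Finite.exists_le ia
  -- sections at the common stage `M`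
  let s' : ∀ a, (D.obj M).obj.obj (op (Y a).left) := fun a => tr J D (hM a) _ (sa a)
  have hs' : ∀ a, inn J D c M (Y a).left (s' a) = rs c.pt.obj (Y a).hom t := by
    intro a
    rw [inn_tr]
    exact hsa a
  -- differences on the double fibre products
  let d : ∀ σ : Fin 2 → ι', (D.obj M).obj.obj (op (T Y σ).left) := fun σ =>
    rs (D.obj M).obj (pr Y σ 0) (s' (σ 0)) - rs (D.obj M).obj (pr Y σ 1) (s' (σ 1))
  have hd : ∀ σ, inn J D c M (T Y σ).left (d σ) = 0 := by
    intro σ
    show inn J D c M (T Y σ).left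
      (rs (D.obj M).obj (pr Y σ 0) (s' (σ 0)) - rs (D.obj M).obj (pr Y σ 1) (s' (σ 1))) = 0
    rw [map_sub, inn_rs, inn_rs, hs', hs', rs_rs, rs_rs, pr_hom, pr_hom, sub_self]
  have hex2 : ∀ σ : Fin 2 → ι', ∃ (j : κ) (hMj : M ≤ j), tr J D hMj (T Y σ).left (d σ) = 0 :=
    fun σ => sec_inj J B Cov h1 h2 D c hc (T Y σ).left (hB 1 σ) M (d σ) (hd σ)
  choose jσ hjσ hzσ using hex2
  obtain ⟨N₀, hN₀⟩ := Finite.exists_le jσ
  obtain ⟨N, hMN, hN₀N⟩ := exists_ge_ge M N₀
  let x : ∀ a, (D.obj N).obj.obj (op (Y a).left) := fun a => tr J D hMN _ (s' a)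
  have hpair : ∀ σ : Fin 2 → ι', rs (D.obj N).obj (pr Y σ 0) (x (σ 0)) =
      rs (D.obj N).obj (pr Y σ 1) (x (σ 1)) := by
    intro σ
    have e0 : tr J D hMN (T Y σ).left (d σ) = 0 := by
      have e : tr J D hMN (T Y σ).left (d σ) =
          tr J D ((hN₀ σ).trans hN₀N) (T Y σ).left (tr J D (hjσ σ) (T Y σ).left (d σ)) :=
        (tr_tr J D (hjσ σ) ((hN₀ σ).trans hN₀N) _ _).symm
      rw [e, hzσ σ, map_zero]
    have e1 : tr J D hMN (T Y σ).left (d σ) =
        rs (D.obj N).obj (pr Y σ 0) (x (σ 0)) - rs (D.obj N).obj (pr Y σ 1) (x (σ 1)) := by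
      show tr J D hMN (T Y σ).left
        (rs (D.obj M).obj (pr Y σ 0) (s' (σ 0)) - rs (D.obj M).obj (pr Y σ 1) (s' (σ 1))) = _
      rw [map_sub, tr_rs, tr_rs]
    rw [e1] at e0
    exact sub_eq_zero.1 e0
  obtain ⟨t₀, ht₀, -⟩ := existsUnique_glue Y (D.obj N) hcov x
    (compat_of_pair Y (D.obj N).obj x hpair)
  refine ⟨N, t₀, ?_⟩
  apply ext_of_cover Y c.pt hcov
  intro a
  rw [← inn_rs, ht₀ a]
  show inn J D c N (Y a).left (tr J D hMN _ (s' a)) = _
  rw [inn_tr]
  exact hs' a

end Dir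

end Groth.Agent.Lib.ColimSiteH7
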