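import Mathlib
import Groth.Prelude.Def_CohCx
import Groth.Agent.Lib.ColimSite1_helper7
import Groth.Agent.Lib.CechSiteLeray_helper2
import Groth.Agent.Lib.ColimExt1_helper9
import Groth.Agent.Lib.FunctorialInjective_helper2

/-!
# Cohomology over members of a collection `B` commutes with filtered colimits (helper7)

Setting of S0862: a small site with fibre products, a class `B` of objects and a class `Cov` of
finite covering families.
* `cech_vanish`: a directed colimit of sheaves which are Čech-acyclic for a `Cov`-family is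
  Čech-acyclic for this family.
* `surj_inj`: `Ext^q(ℤ_V, -)` commutes with directed colimits for `V ∈ B` (in the `Surj`/`Inj` form
  of `ColimExt`).
* `main`: the statement for filtered colimits.
-/

set_option backward.isDefEq.respectTransparency false
set_option backward.isDefEq.respectTransparency.types false
set_option linter.style.haveILetI false
set_option linter.unusedSectionVars false
set_option linter.unusedVariables false
set_option autoImplicit false
set_option maxHeartbeats 1600000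

universe u
open CategoryTheory Limits Opposite Abelian

namespace Groth.Agent.Lib.ColimSiteH7

open Groth.Agent.Lib.CechSite Groth.Agent.Lib.FreeSheaf ColimExt

section final

universe v₁ v₂ v₃ v₄ u₁ u₂ u₃ u₄

variable {α : Type u₁} [Category.{v₁} α] {K : Type u₂} [Category.{v₂} K]
  {A : Type u₃} [Category.{v₃} A] {E : Type u₄} [Category.{v₄} E]

theorem preservesColimit_of_final (Φ : α ⥤ K) [Φ.Final] (D : K ⥤ A) (G : A ⥤ E)
    [PreservesColimit (Φ ⋙ D) G] : PreservesColimit D G := by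
  constructor
  intro c hc
  have h1 : IsColimit (c.whisker Φ) := (Functor.Final.isColimitWhiskerEquiv Φ c).symm hc
  have h2 : IsColimit (G.mapCocone (c.whisker Φ)) := isColimitOfPreserves G h1
  have h3 : IsColimit ((G.mapCocone c).whisker Φ) := h2
  exact ⟨Functor.Final.isColimitWhiskerEquiv Φ _ h3⟩

end final

variable {C : Type u} [SmallCategory C] [HasPullbacks C] (J : GrothendieckTopology C)
  (B : Set C) (Cov : ∀ (U : C) (ι : Type u), (ι → Over U) → Prop)
  (h1 : ∀ (U : C) (ι : Type u) (Y : ι → Over U), Cov U ι Y → Finite ι ∧ U ∈ B ∧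
    Sieve.ofArrows (fun i => (Y i).left) (fun i => (Y i).hom) ∈ J U ∧
    ∀ (p : ℕ) (a : Fin (p + 1) → ι), (∏ᶜ fun k => Y (a k)).left ∈ B)
  (h2 : ∀ U ∈ B, ∀ T ∈ J U, ∃ (ι : Type u) (Y : ι → Over U), Cov U ι Y ∧ ∀ i, T.arrows (Y i).hom)

section Cech

variable {κ : Type u} [Preorder κ] [IsDirected κ (· ≤ ·)] [Nonempty κ]
  (D : κ ⥤ Sheaf J AddCommGrpCat.{u}) (c : Cocone D) (hc : IsColimit c)

/-- the structure maps of the cocone, with the expected type -/
noncomputable abbrev cι (i : κ) : D.obj i ⟶ c.pt := c.ι.app i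

include h1 h2 hc in
/-- a directed colimit of sheaves which are Čech-acyclic for a family in `Cov` is Čech-acyclic
for this family -/
theorem cech_vanish (V : C) (ι' : Type u) (Y : ι' → Over V) (hCov : Cov V ι' Y)
    (hD : ∀ (i : κ) (p : ℕ),
      IsZero (((cechComplexFunctor Y).obj (Qr (D.obj i).obj)).homology (p + 1)))
    (p : ℕ) : IsZero (((cechComplexFunctor Y).obj (Qr c.pt.obj)).homology (p + 1)) := by
  obtain ⟨hfin, -, hcov, hB⟩ := h1 V ι' Y hCov
  haveI := hfin
  rw [isZero_homology_succ_iff]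
  intro α hα
  -- lift `α` to a stage
  have hex : ∀ σ : Fin (p + 2) → ι', ∃ (i : κ) (s : (D.obj i).obj.obj (op (T Y σ).left)),
      inn J D c i (T Y σ).left s = α σ :=
    fun σ => sec_surj J B Cov h1 h2 D c hc (T Y σ).left (hB (p + 1) σ) (α σ)
  choose iσ sσ hsσ using hex
  obtain ⟨M, hM⟩ := Finite.exists_le iσ
  let αM : Coch (Qr (D.obj M).obj) Y (p + 1) := fun σ => tr J D (hM σ) (T Y σ).left (sσ σ)
  have hαM : mapC (qr (cι J D c M).hom) Y (p + 1) αM = α := by
    funext σ
    rw [mapC_qr_apply]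
    show inn J D c M (T Y σ).left (tr J D (hM σ) (T Y σ).left (sσ σ)) = α σ
    rw [inn_tr]
    exact hsσ σ
  -- the differential of `αM` dies in the colimit, hence at a later stage
  have hd : ∀ τ : Fin (p + 3) → ι',
      inn J D c M (T Y τ).left (Dd (Qr (D.obj M).obj) Y (p + 1) αM τ) = 0 := by
    intro τ
    have e := congrFun (mapC_Dd (qr (cι J D c M).hom) Y (p + 1) αM) τ
    rw [hαM, hα, mapC_qr_apply] at e
    exact e.symm
  have hex2 : ∀ τ : Fin (p + 3) → ι', ∃ (j : κ) (hMj : M ≤ j),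
      tr J D hMj (T Y τ).left (Dd (Qr (D.obj M).obj) Y (p + 1) αM τ) = 0 :=
    fun τ => sec_inj J B Cov h1 h2 D c hc (T Y τ).left (hB (p + 2) τ) M _ (hd τ)
  choose jτ hjτ hzτ using hex2
  obtain ⟨N₀, hN₀⟩ := Finite.exists_le jτ
  obtain ⟨N, hMN, hN₀N⟩ := exists_ge_ge M N₀
  let αN : Coch (Qr (D.obj N).obj) Y (p + 1) :=
    mapC (qr (D.map (homOfLE hMN)).hom) Y (p + 1) αM
  have hαN : Dd (Qr (D.obj N).obj) Y (p + 1) αN = 0 := by
    show Dd (Qr (D.obj N).obj) Y (p + 1) (mapC (qr (D.map (homOfLE hMN)).hom) Y (p + 1) αM) = 0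
    rw [mapC_Dd]
    funext τ
    rw [mapC_qr_apply]
    show tr J D hMN (T Y τ).left (Dd (Qr (D.obj M).obj) Y (p + 1) αM τ) = 0
    have e : tr J D hMN (T Y τ).left (Dd (Qr (D.obj M).obj) Y (p + 1) αM τ) =
        tr J D ((hN₀ τ).trans hN₀N) (T Y τ).left
          (tr J D (hjτ τ) (T Y τ).left (Dd (Qr (D.obj M).obj) Y (p + 1) αM τ)) :=
      (tr_tr J D (hjτ τ) ((hN₀ τ).trans hN₀N) _ _).symm
    rw [e, hzτ τ, map_zero]
  obtain ⟨βN, hβN⟩ := (isZero_homology_succ_iff (Qr (D.obj N).obj) Y p).1 (hD N p) αN hαN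
  refine ⟨mapC (qr (cι J D c N).hom) Y p βN, ?_⟩
  rw [mapC_Dd, hβN, ← hαM]
  funext σ
  rw [mapC_qr_apply, mapC_qr_apply]
  show inn J D c N (T Y σ).left (tr J D hMN (T Y σ).left (αM σ)) = inn J D c M (T Y σ).left (αM σ)
  rw [inn_tr]

end Cech

section Induction

variable (G : Sheaf J AddCommGrpCat.{u} ⥤ Sheaf J AddCommGrpCat.{u}) (η : 𝟭 _ ⟶ G)
  (hG : ∀ F, Injective (G.obj F) ∧ Mono (η.app F))
  {κ : Type u} [Preorder κ]

/-- the natural embedding `D ⟶ D ⋙ G` -/
noncomputable def injNat (D : κ ⥤ Sheaf J AddCommGrpCat.{u}) : D ⟶ D ⋙ G where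
  app i := η.app (D.obj i)
  naturality _ _ f := η.naturality (D.map f)

include hG in
lemma mono_injNat (D : κ ⥤ Sheaf J AddCommGrpCat.{u}) : Mono (injNat J G η D) := by
  haveI : ∀ i, Mono ((injNat J G η D).app i) := fun i => (hG (D.obj i)).2
  exact NatTrans.mono_of_mono_app _

/-- the short complex of diagrams `D ⟶ D ⋙ G ⟶ coker` -/
noncomputable def injSC (D : κ ⥤ Sheaf J AddCommGrpCat.{u}) :
    ShortComplex (κ ⥤ Sheaf J AddCommGrpCat.{u}) :=
  ShortComplex.mk (injNat J G η D) (cokernel.π (injNat J G η D)) (cokernel.condition _)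

include hG in
lemma injSC_shortExact (D : κ ⥤ Sheaf J AddCommGrpCat.{u}) : (injSC J G η D).ShortExact := by
  haveI : Mono (injSC J G η D).f := mono_injNat J G η hG D
  haveI : Epi (injSC J G η D).g := (inferInstance : Epi (cokernel.π (injNat J G η D)))
  exact ShortComplex.ShortExact.mk' (ShortComplex.exact_cokernel (injNat J G η D)) inferInstance
    inferInstance

variable [IsDirected κ (· ≤ ·)] [Nonempty κ]

include h1 h2 in
theorem surj_zero (D : κ ⥤ Sheaf J AddCommGrpCat.{u}) (c : Cocone D) (hc : IsColimit c)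
    (V : C) (hV : V ∈ B) : Surj (fr J V) 0 D c := by
  intro y
  obtain ⟨t, rfl⟩ := (ext0_bijective J V c.pt).2 y
  obtain ⟨i, s, hs⟩ := sec_surj J B Cov h1 h2 D c hc V hV t
  refine ⟨i, ext0 J V (D.obj i) s, ?_⟩
  rw [ext0_comp]
  exact congrArg _ hs

include h1 h2 in
theorem inj_zero (D : κ ⥤ Sheaf J AddCommGrpCat.{u}) (c : Cocone D) (hc : IsColimit c)
    (V : C) (hV : V ∈ B) : Inj (fr J V) 0 D c := by
  intro i x hx
  obtain ⟨s, rfl⟩ := (ext0_bijective J V (D.obj i)).2 x
  rw [ext0_comp] at hx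
  have hs : inn J D c i V s = 0 := by
    apply (ext0_bijective J V c.pt).1
    rw [map_zero]
    exact hx
  obtain ⟨j, hij, hj⟩ := sec_inj J B Cov h1 h2 D c hc V hV i s hs
  refine ⟨j, hij, ?_⟩
  rw [ext0_comp]
  have : ((D.map (homOfLE hij)).hom.app (op V)).hom s = 0 := hj
  rw [this, map_zero]

include h1 h2 hG in
theorem surj_inj (q : ℕ) : ∀ (D : κ ⥤ Sheaf J AddCommGrpCat.{u}) (c : Cocone D) (_ : IsColimit c)
    (V : C) (_ : V ∈ B), Surj (fr J V) q D c ∧ Inj (fr J V) q D c := by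
  induction q with
  | zero =>
    intro D c hc V hV
    exact ⟨surj_zero J B Cov h1 h2 D c hc V hV, inj_zero J B Cov h1 h2 D c hc V hV⟩
  | succ q ih =>
    intro D c hc V hV
    let S := injSC J G η D
    have hS : S.ShortExact := injSC_shortExact J G η hG D
    let c₂ := colimit.cocone S.X₂
    have hc₂ : IsColimit c₂ := colimit.isColimit _
    let c₃ := colimit.cocone S.X₃
    have hc₃ : IsColimit c₃ := colimit.isColimit _
    have h2a : ∀ (i : κ) (x : Ext (fr J V) (S.X₂.obj i) (q + 1)), x = 0 := by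
      intro i x
      haveI : Injective (S.X₂.obj i) := (hG (D.obj i)).1
      exact Ext.eq_zero_of_injective x
    have h2' : ∀ x : Ext (fr J V) c₂.pt (q + 1), x = 0 := by
      intro x
      refine ext_eq_zero_of_cech J B Cov
        (fun U ι Y h => ⟨(h1 U ι Y h).2.1, (h1 U ι Y h).2.2.1, (h1 U ι Y h).2.2.2⟩) h2 c₂.pt ?_
        V hV q x
      intro U ι' Y hCov p
      refine cech_vanish J B Cov h1 h2 S.X₂ c₂ hc₂ U ι' Y hCov ?_ p
      intro i p'
      haveI : Injective (S.X₂.obj i) := (hG (D.obj i)).1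
      haveI : Injective (S.X₂.obj i).obj := injective_obj J (S.X₂.obj i)
      exact isZero_cech_of_injective Y (S.X₂.obj i).obj p'
    have ih₂ := ih S.X₂ c₂ hc₂ V hV
    have ih₃ := ih S.X₃ c₃ hc₃ V hV
    exact ⟨surj_succ _ q S hS (c₁ := c) hc hc₂ hc₃ h2' ih₃.1,
      inj_succ _ q S hS (c₁ := c) hc hc₂ hc₃ h2a ih₂.1 ih₃.2⟩

include h1 h2 hG in
theorem preservesColimit_ext (q : ℕ) (V : C) (hV : V ∈ B) (D : κ ⥤ Sheaf J AddCommGrpCat.{u}) :
    PreservesColimit D (Abelian.extFunctorObj (fr J V) q) := by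
  constructor
  intro c hc
  obtain ⟨s1, s2⟩ := surj_inj J B Cov h1 h2 G η hG q D c hc V hV
  exact isColimit_mapCocone s1 s2

end Induction

include h1 h2 in
/-- the statement of S0862 -/
theorem main (U : C) (hU : U ∈ B) (p : ℕ) (I : Type u) [SmallCategory I] [IsFiltered I]
    (F : I ⥤ Sheaf J AddCommGrpCat.{u}) :
    PreservesColimit F ((Sheaf.cohomologyPresheafFunctor J p).flip.obj (op U)) := by
  obtain ⟨G, η, hG⟩ := Groth.Agent.Lib.FunctorialInjective.exists_functorial_injective_embedding.{u}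
    (A := Sheaf J AddCommGrpCat.{u})
  obtain ⟨α, _, _, _, Φ, _⟩ := IsFiltered.exists_directed I
  haveI : PreservesColimit (Φ ⋙ F) (Abelian.extFunctorObj (fr J U) p) :=
    preservesColimit_ext J B Cov h1 h2 G η hG p U hU (Φ ⋙ F)
  exact preservesColimit_of_final Φ F (Abelian.extFunctorObj (fr J U) p)

end Groth.Agent.Lib.ColimSiteH7
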