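import Mathlib
import Groth.Prelude.Def_CohDer
import Groth.Agent.Lib.CompactBB_helper7
import Groth.Agent.Lib.ColimExt1_helper9

/-!
# Compactness for bounded below sums from a finiteness statement on `Ext` (helper7)

Variant of `CompactBB`: instead of assuming that `Ext^p(Z, -)` preserves coproducts, we assume that
every class in `Ext^p(Z, ∐ N)` is a finite sum of classes coming from the summands (`FinC`).  This
follows from the `Surj` part of commutation of `Ext^p(Z, -)` with the directed colimit of finite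
subcoproducts.
-/

set_option backward.isDefEq.respectTransparency false
set_option backward.isDefEq.respectTransparency.types false
set_option linter.style.haveILetI false
set_option linter.unusedSectionVars false
set_option linter.unusedVariables false
set_option autoImplicit false
set_option maxHeartbeats 1600000
universe t w' w v u
open CategoryTheory Limits Pretriangulated

namespace Groth.Agent.Lib.CompactBB

section Idem

variable {D : Type u} [Category.{v} D] [Preadditive D] {I : Type t}

/-- the idempotent of a coproduct attached to a finite set of indices -/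
noncomputable def idem {X : I → D} {c : Cofan X} (hc : IsColimit c) (s : Finset I) : c.pt ⟶ c.pt :=
  ∑ l ∈ s, pr hc l ≫ c.inj l

lemma inj_idem {X : I → D} {c : Cofan X} (hc : IsColimit c) {s : Finset I} {k : I} (hk : k ∈ s) :
    c.inj k ≫ idem hc s = c.inj k := by
  classical
  unfold idem
  rw [Preadditive.comp_sum, Finset.sum_eq_single k]
  · rw [← Category.assoc, inj_pr_self, Category.id_comp]
  · intro l _ hl
    rw [← Category.assoc, inj_pr_ne hc (Ne.symm hl), zero_comp]
  · intro h
    exact absurd hk h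

end Idem

section Der

open DerivedCategory CoproductsFromFiniteFiltered

variable {A : Type u} [Category.{v} A] [Abelian A] [HasDerivedCategory.{w} A]
  {I : Type w'} [HasColimitsOfShape (Discrete I) A] [HasExactColimitsOfShape (Discrete I) A]
  [HasExt.{w'} A] (Z : A)

/-- the structure maps of the cocone of finite subcoproducts -/
lemma ι_finiteSub (N : I → A) (s : Finset (Discrete I)) (j : { x // x ∈ s }) :
    Sigma.ι (fun x : { x // x ∈ s } => (Discrete.functor N).obj x.1) j ≫
      (finiteSubcoproductsCocone N).ι.app s = Sigma.ι N j.1.as := by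
  simp [finiteSubcoproductsCocone]

theorem finC_single_of_surj (N : I → A) (p : ℕ)
    (hs : ColimExt.Surj Z p (liftToFinsetObj (Discrete.functor N)) (finiteSubcoproductsCocone N)) :
    FinC ((DerivedCategory.singleFunctor A 0).obj Z) (c₀ N p) := by
  classical
  intro φ
  obtain ⟨x, hx⟩ : ∃ x : Abelian.Ext Z (∐ N) p, x.hom = φ :=
    ⟨Abelian.Ext.homEquiv.symm φ, Abelian.Ext.homEquiv.apply_symm_apply φ⟩
  subst hx
  obtain ⟨s, xs, hxs⟩ := hs x
  let s' : Finset I := s.image Discrete.as
  let hcN := coproductIsCoproduct N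
  let e : ∐ N ⟶ ∐ N := idem hcN s'
  let a : (liftToFinsetObj (Discrete.functor N)).obj s ⟶ ∐ N :=
    (finiteSubcoproductsCocone N).ι.app s
  have hae : a ≫ e = a := by
    apply Sigma.hom_ext
    intro j
    have h1 : Sigma.ι (fun x : { x // x ∈ s } => (Discrete.functor N).obj x.1) j ≫ a =
        Sigma.ι N j.1.as := ι_finiteSub N s j
    have hmem : j.1.as ∈ s' := Finset.mem_image.2 ⟨j.1, j.2, rfl⟩
    have h2 : Sigma.ι N j.1.as ≫ e = Sigma.ι N j.1.as :=
      inj_idem (c := Cofan.mk (∐ N) (Sigma.ι N)) hcN hmem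
    calc Sigma.ι (fun x : { x // x ∈ s } => (Discrete.functor N).obj x.1) j ≫ a ≫ e
        = (Sigma.ι (fun x : { x // x ∈ s } => (Discrete.functor N).obj x.1) j ≫ a) ≫ e :=
          (Category.assoc _ _ _).symm
      _ = Sigma.ι N j.1.as ≫ e := by rw [h1]
      _ = Sigma.ι N j.1.as := h2
      _ = _ := h1.symm
  have hxe : x.comp (Abelian.Ext.mk₀ e) (add_zero p) = x := by
    have h1 : xs.comp (Abelian.Ext.mk₀ a) (add_zero p) = x := hxs
    rw [← h1, Abelian.Ext.comp_assoc_of_third_deg_zero, Abelian.Ext.mk₀_comp_mk₀, hae]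
  have hkey : x.hom = x.hom ≫ ((DerivedCategory.singleFunctor A 0).map e)⟦(p : ℤ)⟧' := by
    rw [← ext_key Z e p x, hxe]
  have hsum : ((DerivedCategory.singleFunctor A 0).map e)⟦(p : ℤ)⟧' =
      ∑ l ∈ s', ((DerivedCategory.singleFunctor A 0).map (pr hcN l))⟦(p : ℤ)⟧' ≫
        ((DerivedCategory.singleFunctor A 0).map (Sigma.ι N l))⟦(p : ℤ)⟧' := by
    show ((DerivedCategory.singleFunctor A 0).map (∑ l ∈ s', pr hcN l ≫ Sigma.ι N l))⟦(p : ℤ)⟧' = _
    rw [Functor.map_sum, Functor.map_sum]
    refine Finset.sum_congr rfl (fun l _ => ?_)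
    rw [Functor.map_comp, Functor.map_comp]
  obtain ⟨φ, hφ⟩ : ∃ φ : (DerivedCategory.singleFunctor A 0).obj Z ⟶
      ((DerivedCategory.singleFunctor A 0).obj (∐ N))⟦(p : ℤ)⟧, φ = x.hom := ⟨_, rfl⟩
  refine ⟨s', fun l => φ ≫ ((DerivedCategory.singleFunctor A 0).map (pr hcN l))⟦(p : ℤ)⟧', ?_⟩
  have h3 : x.hom = φ ≫ ∑ l ∈ s',
      ((DerivedCategory.singleFunctor A 0).map (pr hcN l))⟦(p : ℤ)⟧' ≫
        ((DerivedCategory.singleFunctor A 0).map (Sigma.ι N l))⟦(p : ℤ)⟧' := by
    rw [← hsum, hφ]
    exact hkey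
  rw [h3, Preadditive.comp_sum]
  exact Finset.sum_congr rfl (fun l _ => (Category.assoc _ _ _).symm)

variable (Hfin : ∀ (N : I → A) (p : ℕ), FinC ((DerivedCategory.singleFunctor A 0).obj Z) (c₀ N p))

include Hfin in
theorem main' (k : ℕ) : ∀ (X : I → DerivedCategory A), (∀ i, (X i).IsGE (1 - (k : ℤ))) →
    ∀ (c : Cofan X), IsColimit c → FinC ((DerivedCategory.singleFunctor A 0).obj Z) c := by
  induction k with
  | zero =>
    intro X hX c hc φ
    have hX1 : ∀ i, (X i).IsGE 1 := fun i => by
      have := hX i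
      simpa using this
    haveI : c.pt.IsGE 1 := isGE_pt 1 hX1 hc
    refine ⟨∅, fun _ => 0, ?_⟩
    rw [Finset.sum_empty]
    exact (tt A).zero_of_isLE_of_isGE φ 0 1 (by omega) inferInstance inferInstance
  | succ k ih =>
    intro X hX c hc
    have hX' : ∀ i, (X i).IsGE (-(k : ℤ)) := fun i => by
      have := hX i
      have e : (1 : ℤ) - ((k + 1 : ℕ) : ℤ) = -(k : ℤ) := by push_cast; ring
      rwa [e] at this
    haveI : HasColimitsOfShape (Discrete I) (DerivedCategory A) := DerCoprod.hasColimitsOfShape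
    let X' : I → DerivedCategory A := fun i => ((tt A).truncLE (-(k : ℤ))).obj (X i)
    let X'' : I → DerivedCategory A := fun i => ((tt A).truncGE (-(k : ℤ) + 1)).obj (X i)
    have h'' : FinC ((DerivedCategory.singleFunctor A 0).obj Z) (Cofan.mk (∐ X'') (Sigma.ι X'')) := by
      refine ih X'' (fun i => ?_) _ (coproductIsCoproduct X'')
      have e : (1 : ℤ) - (k : ℤ) = -(k : ℤ) + 1 := by ring
      rw [e]
      change (tt A).IsGE (((tt A).truncGE (-(k : ℤ) + 1)).obj (X i)) (-(k : ℤ) + 1)
      infer_instance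
    have hN : ∀ i, ∃ N : A,
        Nonempty (((DerivedCategory.singleFunctor A 0).obj N)⟦(k : ℤ)⟧ ≅ X' i) := by
      intro i
      haveI := hX' i
      haveI : (tt A).IsGE (X' i) (-(k : ℤ)) := by
        change (tt A).IsGE (((tt A).truncLE (-(k : ℤ))).obj (X i)) (-(k : ℤ))
        infer_instance
      haveI : (tt A).IsLE (X' i) (-(k : ℤ)) := by
        change (tt A).IsLE (((tt A).truncLE (-(k : ℤ))).obj (X i)) (-(k : ℤ))
        infer_instance
      obtain ⟨N, ⟨e⟩⟩ := DerivedCategory.exists_iso_singleFunctor_obj_of_isGE_of_isLE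
        (X' i) (-(k : ℤ))
      exact ⟨N, ⟨((DerivedCategory.singleFunctors A).shiftIso (k : ℤ) (-(k : ℤ)) 0
        (by omega)).app N ≪≫ e.symm⟩⟩
    choose N eN using hN
    have h' : FinC ((DerivedCategory.singleFunctor A 0).obj Z) (Cofan.mk (∐ X') (Sigma.ι X')) :=
      finC_of_iso _ (fun i => (eN i).some) (isColimit_c₀ N k) (coproductIsCoproduct X')
        (Hfin N k)
    exact finC_mid _ (X' := X') (X := X) (X'' := X'')
      (fun i => ((tt A).truncLEι (-(k : ℤ))).app (X i))
      (fun i => ((tt A).truncGEπ (-(k : ℤ) + 1)).app (X i))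
      (fun i => ((tt A).truncGEδLE (-(k : ℤ)) (-(k : ℤ) + 1) rfl).app (X i))
      (fun i => (tt A).triangleLEGE_distinguished (-(k : ℤ)) (-(k : ℤ) + 1) rfl (X i))
      (coproductIsCoproduct X') hc (coproductIsCoproduct X'') h' h''

end Der

section Result

open DerivedCategory

variable {A : Type u} [Category.{v} A] [Abelian A] [HasDerivedCategory.{w} A]
  {I : Type w} [HasColimitsOfShape (Discrete I) A] [HasExactColimitsOfShape (Discrete I) A]
  [HasExt.{w} A] (Z : A)
  (Hfin : ∀ (N : I → A) (p : ℕ), FinC ((DerivedCategory.singleFunctor A 0).obj Z) (c₀ N p))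

include Hfin in
theorem bijective' (M : I → DerivedCategory A) [HasCoproduct M] (a : ℤ)
    (hM : ∀ i, (M i).IsGE a) :
    Function.Bijective
      (CohDer.homSumToHomCoprod ((DerivedCategory.singleFunctor A 0).obj Z) M) := by
  obtain ⟨k, hk⟩ : ∃ k : ℕ, 1 - (k : ℤ) ≤ a := by
    refine ⟨(1 - a).toNat, ?_⟩
    have := Int.self_le_toNat (1 - a)
    omega
  have hM' : ∀ i, (M i).IsGE (1 - (k : ℤ)) := fun i => by
    haveI := hM i
    exact (tt A).isGE_of_ge _ _ _ hk
  exact bijective_of_finC _ M (main' Z Hfin k M hM' _ (coproductIsCoproduct M))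

end Result

end Groth.Agent.Lib.CompactBB
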