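import Mathlib
import Groth.Prelude.Def_CohCx
import Groth.Agent.Lib.ModFreeExt_helper2

/-!
# `Ext^n_R(R[K], M) ≃ H^n(K, M_ab)` for a sheaf of sets `K`
-/

set_option autoImplicit false
universe u
open CategoryTheory Limits Opposite Abelian

namespace Groth.Agent.Lib.ModFree
open Groth.Agent.Lib.FunctorialInjective Groth.Agent.Lib.LerayHU

variable {C : Type u} [SmallCategory C] {J : GrothendieckTopology C}

/-- totally acyclic abelian sheaves are acyclic for `Hom(ℤ[K], -)` -/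
lemma acyclic_homL₂_of_totallyAcyclic (K : Sheaf J (Type u)) (F : Sheaf J AddCommGrpCat.{u})
    (hF : CohCx.IsTotallyAcyclic F) :
    LerayDer.Acyclic (ExtDer.hom ((L₂ (J := J)).obj K.obj)) F := by
  intro i hi
  obtain ⟨k, rfl⟩ : ∃ k, i = k + 1 := ⟨i - 1, by omega⟩
  apply isZero_of_subsingleton_ext
  exact hF K k

variable (R : Sheaf J RingCat.{u})

/-- `Hom_R(R[P], -) ≅ Hom_ℤ(ℤ[P], (-)_ab)` -/
noncomputable def homL₁Iso (P : Cᵒᵖ ⥤ Type u) :
    ExtDer.hom ((L₁ R).obj P) ≅ SheafOfModules.toSheaf R ⋙ ExtDer.hom ((L₂ (J := J)).obj P) :=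
  NatIso.ofComponents (fun M => (E R P M).toAddCommGrpIso) (by
    intro M M' k
    ext g
    exact E₀_comp R P g k)

attribute [local instance] HasDerivedCategory.standard in
theorem ext_free_addEquiv [HasExt.{u} (SheafOfModules.{u} R)] (K : Sheaf J (Type u))
    (M : SheafOfModules.{u} R) (n : ℕ) :
    Nonempty (Abelian.Ext ((L₁ R).obj K.obj) M n ≃+
      CohCx.HK K ((SheafOfModules.toSheaf R).obj M) n) := by
  haveI := isGrothendieckAbelian_sheafOfModules J R
  haveI := Groth.Agent.Lib.ModSiteH8.toSheaf_preservesColimitsOfSize R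
  haveI : PreservesFiniteColimits (SheafOfModules.toSheaf R) := ⟨fun _ _ _ => inferInstance⟩
  obtain ⟨e⟩ := Bridge.comp_acyclic (SheafOfModules.toSheaf R)
    (ExtDer.hom ((L₂ (J := J)).obj K.obj))
    (fun I hI => acyclic_homL₂_of_totallyAcyclic K _ (totallyAcyclic_toSheaf_of_injective R I)) M
    (acyclic_of_exact _ M) n
  let e1 := (ExtDer.natIso ((L₁ R).obj K.obj) n).app M
  let e2 := (ExtDer.rightDerivedIso (homL₁Iso R K.obj) n).app M
  let e3 := (ExtDer.natIso ((L₂ (J := J)).obj K.obj) n).app ((SheafOfModules.toSheaf R).obj M)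
  exact ⟨(e1.symm ≪≫ e2 ≪≫ e.symm ≪≫ e3).addCommGroupIsoToAddEquiv⟩

end Groth.Agent.Lib.ModFree
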