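import Mathlib
import Groth.Prelude.Def_CohCx
import Groth.Prelude.Def_FreeSh
import Groth.Agent.Lib.ModFreeExtK_helper2
import Groth.Agent.Lib.TotAcyc_helper8
import Groth.Agent.Lib.SiteCmpC1b_helper7

/-!
# Test objects in sheaves of modules on a small site (helper7)

`PM R U` is the free sheaf of `R`-modules on the representable presheaf of `U`; maps out of it are the
sections over `U` of the underlying abelian sheaf, naturally.  Epimorphisms of sheaves of modules admit
local liftings from these objects, and `Ext^n(PM R U, M) ≃ H^n(U, M_ab)`.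
-/

set_option backward.isDefEq.respectTransparency false
set_option backward.isDefEq.respectTransparency.types false
set_option linter.style.haveILetI false
set_option linter.unusedSectionVars false
set_option linter.unusedVariables false
set_option autoImplicit false
set_option maxHeartbeats 1600000
universe u
open CategoryTheory Limits Opposite Abelian

namespace Groth.Agent.Lib.ModTestH7

open Groth.Agent.Lib Groth.Agent.Lib.ModFree Groth.Agent.Lib.FunctorialInjective
  Groth.Agent.Lib.LerayHU Groth.Agent.Lib.SiteCmpLoc_helper7 Groth.Agent.Lib.SiteCmpC1b_helper7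

variable {C : Type u} [SmallCategory C] {J : GrothendieckTopology C} (R : Sheaf J RingCat.{u})

/-- the free sheaf of modules on the representable presheaf of `U`, functorially in `U` -/
noncomputable abbrev PM : C ⥤ SheafOfModules.{u} R := yoneda ⋙ L₁ R

/-- the underlying abelian sheaf -/
noncomputable abbrev ab (N : SheafOfModules.{u} R) : Sheaf J AddCommGrpCat.{u} :=
  (SheafOfModules.toSheaf R).obj N

/-- maps from the test object to the underlying abelian sheaf maps -/
noncomputable def toZ (U : C) (N : SheafOfModules.{u} R) :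
    ((PM R).obj U ⟶ N) ≃+ (Z J U ⟶ ab R N) :=
  E R (yoneda.obj U) N

lemma toZ_comp (U : C) {N N' : SheafOfModules.{u} R} (g : (PM R).obj U ⟶ N) (k : N ⟶ N') :
    toZ R U N' (g ≫ k) = toZ R U N g ≫ (SheafOfModules.toSheaf R).map k :=
  E₀_comp R (yoneda.obj U) g k

lemma toZ_map_comp {U V : C} (f : V ⟶ U) (N : SheafOfModules.{u} R) (g : (PM R).obj U ⟶ N) :
    toZ R V N ((PM R).map f ≫ g) = (RpushSite.frF J).map f ≫ toZ R U N g :=
  E₀_map_comp R (yoneda.map f) N g

/-- sections of the underlying abelian sheaf as maps out of the test object -/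
noncomputable def evM (U : C) (N : SheafOfModules.{u} R) :
    ((PM R).obj U ⟶ N) ≃+ (ab R N).obj.obj (op U) :=
  (toZ R U N).trans (CohFree.homEquivSect J U (ab R N))

lemma evM_apply (U : C) (N : SheafOfModules.{u} R) (g : (PM R).obj U ⟶ N) :
    evM R U N g = CohFree.evalGen J U (ab R N) (toZ R U N g) := rfl

lemma evM_comp (U : C) {N N' : SheafOfModules.{u} R} (g : (PM R).obj U ⟶ N) (k : N ⟶ N') :
    evM R U N' (g ≫ k) =
      (((SheafOfModules.toSheaf R).map k).hom.app (op U)).hom (evM R U N g) := by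
  rw [evM_apply, evM_apply, toZ_comp]
  exact evalGen_comp (toZ R U N g) ((SheafOfModules.toSheaf R).map k)

lemma evM_map_comp {U V : C} (f : V ⟶ U) (N : SheafOfModules.{u} R) (g : (PM R).obj U ⟶ N) :
    evM R V N ((PM R).map f ≫ g) = ((ab R N).obj.map f.op).hom (evM R U N g) := by
  rw [evM_apply, evM_apply, toZ_map_comp]
  exact CohFree.evalGen_freeSheafMap_comp J f (ab R N) (toZ R U N g)

lemma hom_ext_evM {U : C} {N : SheafOfModules.{u} R} (y y' : (PM R).obj U ⟶ N)
    (h : evM R U N y = evM R U N y') : y = y' :=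
  (evM R U N).injective h

/-- the map from the test object with a given section -/
noncomputable def ofSectM (U : C) (N : SheafOfModules.{u} R) (s : (ab R N).obj.obj (op U)) :
    (PM R).obj U ⟶ N :=
  (evM R U N).symm s

lemma evM_ofSectM (U : C) (N : SheafOfModules.{u} R) (s : (ab R N).obj.obj (op U)) :
    evM R U N (ofSectM R U N s) = s :=
  (evM R U N).apply_symm_apply s

instance epi_toSheaf_map {A B : SheafOfModules.{u} R} (π : A ⟶ B) [Epi π] :
    Epi ((SheafOfModules.toSheaf R).map π) := by
  haveI := Groth.Agent.Lib.ModSiteH8.toSheaf_preservesColimitsOfSize R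
  haveI : PreservesFiniteColimits (SheafOfModules.toSheaf R) := ⟨fun _ _ _ => inferInstance⟩
  infer_instance

/-- local lifting along an epimorphism of sheaves of modules -/
lemma locLiftM {A B : SheafOfModules.{u} R} (π : A ⟶ B) [Epi π] {U : C}
    (s : (PM R).obj U ⟶ B) :
    ∃ S : Sieve U, S ∈ J U ∧ ∀ ⦃V : C⦄ (g : V ⟶ U), S g →
      ∃ t : (PM R).obj V ⟶ A, (PM R).map g ≫ s = t ≫ π := by
  haveI : Presheaf.IsLocallySurjective J ((SheafOfModules.toSheaf R).map π).hom :=
    (Sheaf.isLocallySurjective_iff_epi' _ _).2 inferInstance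
  obtain ⟨S, hS, hS'⟩ := locLift J ((SheafOfModules.toSheaf R).map π) (toZ R U B s)
  refine ⟨S, hS, fun V g hg => ?_⟩
  obtain ⟨t₀, ht₀⟩ := hS' g hg
  refine ⟨(toZ R V A).symm t₀, ?_⟩
  apply (toZ R V B).injective
  rw [toZ_map_comp, toZ_comp, AddEquiv.apply_symm_apply]
  exact ht₀

/-- sections of a sheaf of modules vanishing on a cover vanish -/
lemma eq_zero_of_coverM (N : SheafOfModules.{u} R) {V : C} (S : Sieve V) (hS : S ∈ J V)
    (s : (ab R N).obj.obj (op V))
    (h : ∀ ⦃W : C⦄ (g : W ⟶ V), S g → ((ab R N).obj.map g.op).hom s = 0) : s = 0 := by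
  have h1 : Presheaf.IsSheaf J ((ab R N).obj ⋙ forget AddCommGrpCat.{u}) :=
    (Presheaf.isSheaf_iff_isSheaf_forget J (ab R N).obj (forget AddCommGrpCat.{u})).1
      (ab R N).property
  have h2 : Presieve.IsSheaf J ((ab R N).obj ⋙ forget AddCommGrpCat.{u}) :=
    (isSheaf_iff_isSheaf_of_type _ _).1 h1
  refine (h2 S hS).isSeparatedFor.ext (fun W g hg => ?_)
  exact (h g hg).trans (map_zero ((ab R N).obj.map g.op).hom).symm

/-! ### Ext comparison -/

/-- totally acyclic abelian sheaves are acyclic for `Hom(ℤ_U, -)` -/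
lemma acyclic_homL₂_yoneda (U : C) (F : Sheaf J AddCommGrpCat.{u})
    (hF : CohCx.IsTotallyAcyclic F) :
    LerayDer.Acyclic (ExtDer.hom ((L₂ (J := J)).obj (yoneda.obj U))) F := by
  intro i hi
  obtain ⟨k, rfl⟩ : ∃ k, i = k + 1 := ⟨i - 1, by omega⟩
  apply isZero_of_subsingleton_ext
  exact Groth.Agent.Lib.TotAcycH8.subsingleton_HU_of_totallyAcyclic F hF U k

attribute [local instance] HasDerivedCategory.standard in
theorem ext_rep_addEquiv [HasExt.{u} (SheafOfModules.{u} R)] (U : C)
    (M : SheafOfModules.{u} R) (n : ℕ) :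
    Nonempty (Abelian.Ext ((PM R).obj U) M n ≃+ CohSite.HU (ab R M) n U) := by
  haveI := isGrothendieckAbelian_sheafOfModules J R
  haveI := Groth.Agent.Lib.ModSiteH8.toSheaf_preservesColimitsOfSize R
  haveI : PreservesFiniteColimits (SheafOfModules.toSheaf R) := ⟨fun _ _ _ => inferInstance⟩
  obtain ⟨e⟩ := Bridge.comp_acyclic (SheafOfModules.toSheaf R)
    (ExtDer.hom ((L₂ (J := J)).obj (yoneda.obj U)))
    (fun I hI => acyclic_homL₂_yoneda U _ (totallyAcyclic_toSheaf_of_injective R I)) M
    (acyclic_of_exact _ M) n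
  let e1 := (ExtDer.natIso ((L₁ R).obj (yoneda.obj U)) n).app M
  let e2 := (ExtDer.rightDerivedIso (homL₁Iso R (yoneda.obj U)) n).app M
  let e3 := (ExtDer.natIso ((L₂ (J := J)).obj (yoneda.obj U)) n).app
    ((SheafOfModules.toSheaf R).obj M)
  exact ⟨(e1.symm ≪≫ e2 ≪≫ e.symm ≪≫ e3).addCommGroupIsoToAddEquiv⟩

theorem subsingleton_ext_of_HU [HasExt.{u} (SheafOfModules.{u} R)] (U : C)
    (M : SheafOfModules.{u} R) (n : ℕ) (h : Subsingleton (CohSite.HU (ab R M) n U)) :
    Subsingleton (Abelian.Ext.{u} ((PM R).obj U) M n) := by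
  obtain ⟨e⟩ := ext_rep_addEquiv R U M n
  exact e.toEquiv.subsingleton

end Groth.Agent.Lib.ModTestH7
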