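import Mathlib
import Groth.Prelude.Def_CohCx
import Groth.Agent.Lib.ColimSite2_helper7
import Groth.Agent.Lib.ModTest_helper7
import Groth.Agent.Lib.CompactBB2_helper7
import Groth.Agent.Lib.SheafOfModulesGrothendieck_helper2
import Groth.Agent.Lib.ModSite7_helper8

/-!
# `Ext` out of the free module on a member of a collection `B` commutes with directed colimits
(helper7)

Module version of `ColimSite2`: for a sheaf of rings `R` on a small site with fibre products, a class
`B` of objects and a class `Cov` of finite covering families as in S0862/S9047, and `V ∈ B`, the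
functors `Ext^q(R[h_V], -)` on sheaves of `R`-modules commute with directed colimits
(`surj_inj_mod`), hence every class in `Ext^q(R[h_V], ∐ N)` is a finite sum of classes from the
summands (`finC_single_mod`).
-/

set_option backward.isDefEq.respectTransparency false
set_option backward.isDefEq.respectTransparency.types false
set_option linter.style.haveILetI false
set_option linter.unusedSectionVars false
set_option linter.unusedVariables false
set_option autoImplicit false
set_option maxHeartbeats 1600000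

universe u
open CategoryTheory Limits Opposite Abelian

namespace Groth.Agent.Lib.ColimSiteH7

open Groth.Agent.Lib.CechSite Groth.Agent.Lib.FreeSheaf ColimExt Groth.Agent.Lib.ModTestH7
  Groth.Agent.Lib.ModFree

section GenericEmb

variable {A : Type*} [Category A] [Abelian A] (G : A ⥤ A) (η : 𝟭 A ⟶ G)
  (hG : ∀ F, Injective (G.obj F) ∧ Mono (η.app F)) {κ : Type*} [Category κ]

/-- the natural embedding `D ⟶ D ⋙ G` -/
noncomputable def injNatG (D : κ ⥤ A) : D ⟶ D ⋙ G where
  app i := η.app (D.obj i)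
  naturality _ _ f := η.naturality (D.map f)

include hG in
lemma mono_injNatG (D : κ ⥤ A) : Mono (injNatG G η D) := by
  haveI : ∀ i, Mono ((injNatG G η D).app i) := fun i => (hG (D.obj i)).2
  exact NatTrans.mono_of_mono_app _

/-- the short complex of diagrams `D ⟶ D ⋙ G ⟶ coker` -/
noncomputable def injSCG (D : κ ⥤ A) : ShortComplex (κ ⥤ A) :=
  ShortComplex.mk (injNatG G η D) (cokernel.π (injNatG G η D)) (cokernel.condition _)

include hG in
lemma injSCG_shortExact (D : κ ⥤ A) : (injSCG G η D).ShortExact := by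
  haveI : Mono (injSCG G η D).f := mono_injNatG G η hG D
  haveI : Epi (injSCG G η D).g := (inferInstance : Epi (cokernel.π (injNatG G η D)))
  exact ShortComplex.ShortExact.mk' (ShortComplex.exact_cokernel (injNatG G η D)) inferInstance
    inferInstance

end GenericEmb

variable {C : Type u} [SmallCategory C] [HasPullbacks C] {J : GrothendieckTopology C}

/-- totally acyclic abelian sheaves are Čech-acyclic for covering families -/
theorem cech_of_totallyAcyclic (F : Sheaf J AddCommGrpCat.{u}) (hF : CohCx.IsTotallyAcyclic F)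
    {U : C} {ι' : Type u} (Y : ι' → Over U)
    (hY : Sieve.ofArrows (fun i => (Y i).left) (fun i => (Y i).hom) ∈ J U) (p : ℕ) :
    IsZero (((cechComplexFunctor Y).obj (Qr F.obj)).homology (p + 1)) := by
  have hv : ∀ (W : C) (q : ℕ) (ξ : Ext (fr J W) F (q + 1)), ξ = 0 := by
    intro W q ξ
    have hs : Subsingleton (CohSite.HU F (q + 1) W) :=
      Groth.Agent.Lib.TotAcycH8.subsingleton_HU_of_totallyAcyclic F hF W q
    exact hs.elim (α := Ext (fr J W) F (q + 1)) ξ 0
  obtain ⟨e⟩ := leray J Y hY (p + 1) F (fun n σ q ξ => hv _ q ξ)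
  haveI : Subsingleton (((cechComplexFunctor Y).obj (Qr F.obj)).homology (p + 1)) :=
    ⟨fun a b => e.injective ((hv U p (e a)).trans (hv U p (e b)).symm)⟩
  exact AddCommGrpCat.isZero_of_subsingleton _

variable (R : Sheaf J RingCat.{u}) [HasExt.{u} (SheafOfModules.{u} R)]

section Ext0

/-- sections give classes in `Ext^0` out of the free module -/
noncomputable def ext0M (V : C) (N : SheafOfModules.{u} R) :
    (ab R N).obj.obj (op V) →+ Ext ((PM R).obj V) N 0 :=
  AddMonoidHom.mk' (fun s => Ext.mk₀ ((evM R V N).symm s)) (by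
    intro s t
    rw [map_add, Ext.mk₀_add])

lemma ext0M_apply (V : C) (N : SheafOfModules.{u} R) (s : (ab R N).obj.obj (op V)) :
    ext0M R V N s = Ext.mk₀ ((evM R V N).symm s) := rfl

lemma ext0M_bijective (V : C) (N : SheafOfModules.{u} R) : Function.Bijective (ext0M R V N) :=
  (Ext.mk₀_bijective ((PM R).obj V) N).comp (evM R V N).symm.bijective

lemma ext0M_comp (V : C) {N N' : SheafOfModules.{u} R} (s : (ab R N).obj.obj (op V))
    (k : N ⟶ N') :
    (ext0M R V N s).comp (Ext.mk₀ k) (add_zero 0) =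
      ext0M R V N' ((((SheafOfModules.toSheaf R).map k).hom.app (op V)).hom s) := by
  rw [ext0M_apply, ext0M_apply, Ext.mk₀_comp_mk₀]
  congr 1
  apply (evM R V N').injective
  rw [evM_comp, AddEquiv.apply_symm_apply, AddEquiv.apply_symm_apply]

end Ext0

variable (B : Set C) (Cov : ∀ (U : C) (ι : Type u), (ι → Over U) → Prop)
  (h1 : ∀ (U : C) (ι : Type u) (Y : ι → Over U), Cov U ι Y → Finite ι ∧ U ∈ B ∧
    Sieve.ofArrows (fun i => (Y i).left) (fun i => (Y i).hom) ∈ J U ∧
    ∀ (p : ℕ) (a : Fin (p + 1) → ι), (∏ᶜ fun k => Y (a k)).left ∈ B)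
  (h2 : ∀ U ∈ B, ∀ T ∈ J U, ∃ (ι : Type u) (Y : ι → Over U), Cov U ι Y ∧ ∀ i, T.arrows (Y i).hom)

section Induction

variable {κ : Type u} [Preorder κ] [IsDirected κ (· ≤ ·)] [Nonempty κ]

/-- the image in abelian sheaves of a colimit cocone of sheaves of modules is a colimit -/
noncomputable def isColimitAb (D : κ ⥤ SheafOfModules.{u} R) (c : Cocone D) (hc : IsColimit c) :
    IsColimit ((SheafOfModules.toSheaf R).mapCocone c) := by
  haveI := Groth.Agent.Lib.ModSiteH8.toSheaf_preservesColimitsOfSize R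
  exact isColimitOfPreserves (SheafOfModules.toSheaf R) hc

include h1 h2 in
theorem surj_zeroM (D : κ ⥤ SheafOfModules.{u} R) (c : Cocone D) (hc : IsColimit c)
    (V : C) (hV : V ∈ B) : Surj ((PM R).obj V) 0 D c := by
  intro y
  obtain ⟨t, rfl⟩ := (ext0M_bijective R V c.pt).2 y
  obtain ⟨i, s, hs⟩ := sec_surj J B Cov h1 h2 (D ⋙ SheafOfModules.toSheaf R)
    ((SheafOfModules.toSheaf R).mapCocone c) (isColimitAb R D c hc) V hV t
  refine ⟨i, ext0M R V (D.obj i) s, ?_⟩
  rw [ext0M_comp]
  exact congrArg _ hs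

include h1 h2 in
theorem inj_zeroM (D : κ ⥤ SheafOfModules.{u} R) (c : Cocone D) (hc : IsColimit c)
    (V : C) (hV : V ∈ B) : Inj ((PM R).obj V) 0 D c := by
  intro i x hx
  obtain ⟨s, rfl⟩ := (ext0M_bijective R V (D.obj i)).2 x
  rw [ext0M_comp] at hx
  have hs : inn J (D ⋙ SheafOfModules.toSheaf R) ((SheafOfModules.toSheaf R).mapCocone c) i V s
      = 0 := by
    apply (ext0M_bijective R V c.pt).1
    rw [map_zero]
    exact hx
  obtain ⟨j, hij, hj⟩ := sec_inj J B Cov h1 h2 (D ⋙ SheafOfModules.toSheaf R)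
    ((SheafOfModules.toSheaf R).mapCocone c) (isColimitAb R D c hc) V hV i s hs
  refine ⟨j, hij, ?_⟩
  rw [ext0M_comp]
  have : (((SheafOfModules.toSheaf R).map (D.map (homOfLE hij))).hom.app (op V)).hom s = 0 := hj
  rw [this, map_zero]

variable (G : SheafOfModules.{u} R ⥤ SheafOfModules.{u} R) (η : 𝟭 _ ⟶ G)
  (hG : ∀ F, Injective (G.obj F) ∧ Mono (η.app F))

include h1 h2 hG in
theorem surj_inj_mod (q : ℕ) : ∀ (D : κ ⥤ SheafOfModules.{u} R) (c : Cocone D) (_ : IsColimit c)
    (V : C) (_ : V ∈ B), Surj ((PM R).obj V) q D c ∧ Inj ((PM R).obj V) q D c := by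
  haveI := Groth.Agent.Lib.FunctorialInjective.isGrothendieckAbelian_sheafOfModules J R
  haveI : HasExactColimitsOfShape κ (SheafOfModules.{u} R) :=
    Groth.Agent.Lib.ModSiteH8.hasExactColimitsOfShape_sheafOfModules R κ
  induction q with
  | zero =>
    intro D c hc V hV
    exact ⟨surj_zeroM R B Cov h1 h2 D c hc V hV, inj_zeroM R B Cov h1 h2 D c hc V hV⟩
  | succ q ih =>
    intro D c hc V hV
    let S := injSCG G η D
    have hS : S.ShortExact := injSCG_shortExact G η hG D
    let c₂ := colimit.cocone S.X₂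
    have hc₂ : IsColimit c₂ := colimit.isColimit _
    let c₃ := colimit.cocone S.X₃
    have hc₃ : IsColimit c₃ := colimit.isColimit _
    have h2a : ∀ (i : κ) (x : Ext ((PM R).obj V) (S.X₂.obj i) (q + 1)), x = 0 := by
      intro i x
      haveI : Injective (S.X₂.obj i) := (hG (D.obj i)).1
      exact Ext.eq_zero_of_injective x
    have h2' : ∀ x : Ext ((PM R).obj V) c₂.pt (q + 1), x = 0 := by
      intro x
      have h3 : ∀ (U : C) (ι' : Type u) (Y : ι' → Over U), Cov U ι' Y → ∀ p : ℕ,
          IsZero (((cechComplexFunctor Y).obj (Qr (ab R c₂.pt).obj)).homology (p + 1)) := by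
        intro U ι' Y hCov p
        refine cech_vanish J B Cov h1 h2 (S.X₂ ⋙ SheafOfModules.toSheaf R)
          ((SheafOfModules.toSheaf R).mapCocone c₂) (isColimitAb R S.X₂ c₂ hc₂) U ι' Y hCov ?_ p
        intro i p'
        haveI : Injective (S.X₂.obj i) := (hG (D.obj i)).1
        exact cech_of_totallyAcyclic _ (totallyAcyclic_toSheaf_of_injective R (S.X₂.obj i)) Y
          (h1 U ι' Y hCov).2.2.1 p'
      have hHU : Subsingleton (CohSite.HU (ab R c₂.pt) (q + 1) V) :=
        ⟨fun a b => (ext_eq_zero_of_cech J B Cov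
          (fun U ι Y h => ⟨(h1 U ι Y h).2.1, (h1 U ι Y h).2.2.1, (h1 U ι Y h).2.2.2⟩) h2
          (ab R c₂.pt) h3 V hV q a).trans (ext_eq_zero_of_cech J B Cov
          (fun U ι Y h => ⟨(h1 U ι Y h).2.1, (h1 U ι Y h).2.2.1, (h1 U ι Y h).2.2.2⟩) h2
          (ab R c₂.pt) h3 V hV q b).symm⟩
      haveI := subsingleton_ext_of_HU R V c₂.pt (q + 1) hHU
      exact Subsingleton.elim _ _
    have ih₂ := ih S.X₂ c₂ hc₂ V hV
    have ih₃ := ih S.X₃ c₃ hc₃ V hV
    exact ⟨surj_succ _ q S hS (c₁ := c) hc hc₂ hc₃ h2' ih₃.1,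
      inj_succ _ q S hS (c₁ := c) hc hc₂ hc₃ h2a ih₂.1 ih₃.2⟩

end Induction

section Coprod

open CoproductsFromFiniteFiltered Groth.Agent.Lib.CompactBB

variable [HasDerivedCategory.{u} (SheafOfModules.{u} R)]

include h1 h2 in
/-- every class in `Ext^p(R[h_V], ∐ N)` is a finite sum of classes from the summands -/
theorem finC_single_mod (V : C) (hV : V ∈ B) {I : Type u}
    [HasColimitsOfShape (Discrete I) (SheafOfModules.{u} R)]
    [HasExactColimitsOfShape (Discrete I) (SheafOfModules.{u} R)]
    (N : I → SheafOfModules.{u} R) (p : ℕ) :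
    FinC ((DerivedCategory.singleFunctor (SheafOfModules.{u} R) 0).obj ((PM R).obj V))
      (c₀ N p) := by
  haveI := Groth.Agent.Lib.FunctorialInjective.isGrothendieckAbelian_sheafOfModules J R
  obtain ⟨G, η, hG⟩ :=
    Groth.Agent.Lib.FunctorialInjective.exists_functorial_injective_embedding.{u}
      (A := SheafOfModules.{u} R)
  apply finC_single_of_surj
  exact (surj_inj_mod R B Cov h1 h2 G η hG p (liftToFinsetObj (Discrete.functor N))
    (finiteSubcoproductsCocone N) (isColimitFiniteSubproductsCocone N) V hV).1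

end Coprod

end Groth.Agent.Lib.ColimSiteH7
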