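import Mathlib
import Groth.Prelude.Def_ModSite
import Groth.Prelude.Def_CohDer
import Groth.Agent.Lib.ColimSite3_helper7
import Groth.Agent.Lib.ModSite9_helper8

/-!
# `j_{U!} O_U` is compact in `D^+(O)` for `U` in a collection `B` (helper7, S9047)
-/

set_option backward.isDefEq.respectTransparency false
set_option backward.isDefEq.respectTransparency.types false
set_option linter.style.haveILetI false
set_option linter.unusedSectionVars false
set_option linter.unusedVariables false
set_option autoImplicit false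
set_option maxHeartbeats 1600000

universe u
open CategoryTheory Limits Opposite Abelian

namespace Groth.Agent.Lib.ColimSiteH7

open Groth.Agent.Lib.ModTestH7 Groth.Agent.Lib.CompactBB

variable {C : Type u} [SmallCategory C] [HasPullbacks C] {J : GrothendieckTopology C}

/-- `j_{U!} O_U` is the free module on the representable presheaf -/
noncomputable def freeOnIsoPM (O : Sheaf J CommRingCat.{u}) (U : C) :
    ModSite.freeOn O U ≅ (PM (ModSite.ringSh O)).obj U :=
  (Groth.Agent.Lib.ModSiteH8.freeOnIso O U).symm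

theorem main9047 (O : Sheaf J CommRingCat.{u})
    (B : Set C) (Cov : ∀ (U : C) (ι : Type u), (ι → Over U) → Prop)
    (h1 : ∀ (U : C) (ι : Type u) (Y : ι → Over U), Cov U ι Y → Finite ι ∧ U ∈ B ∧
      Sieve.ofArrows (fun i => (Y i).left) (fun i => (Y i).hom) ∈ J U ∧
      ∀ (p : ℕ) (a : Fin (p + 1) → ι), (∏ᶜ fun k => Y (a k)).left ∈ B)
    (h2 : ∀ U ∈ B, ∀ T ∈ J U, ∃ (ι : Type u) (Y : ι → Over U), Cov U ι Y ∧ ∀ i, T.arrows (Y i).hom)
    [HasDerivedCategory.{u} (ModSite.Mod O)]
    (U : C) (hU : U ∈ B) {I : Type u} (M : I → DerivedCategory (ModSite.Mod O)) [HasCoproduct M]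
    (a : ℤ) (hM : ∀ i, (M i).IsGE a) :
    Function.Bijective (CohDer.homSumToHomCoprod
      ((DerivedCategory.singleFunctor (ModSite.Mod O) 0).obj (ModSite.freeOn O U)) M) := by
  haveI : IsGrothendieckAbelian.{u} (ModSite.Mod O) :=
    Groth.Agent.Lib.FunctorialInjective.isGrothendieckAbelian_sheafOfModules J (ModSite.ringSh O)
  haveI : HasExt.{u} (ModSite.Mod O) := hasExt_of_hasDerivedCategory _
  haveI : HasFiniteBiproducts (ModSite.Mod O) := HasFiniteBiproducts.of_hasFiniteProducts
  haveI : AB4OfSize.{u} (ModSite.Mod O) := AB4.of_AB5 _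
  obtain ⟨k, hk⟩ : ∃ k : ℕ, 1 - (k : ℤ) ≤ a := by
    refine ⟨(1 - a).toNat, ?_⟩
    have := Int.self_le_toNat (1 - a)
    omega
  have hM' : ∀ i, (M i).IsGE (1 - (k : ℤ)) := fun i => by
    haveI := hM i
    exact (tt (ModSite.Mod O)).isGE_of_ge _ _ _ hk
  have hfin : FinC ((DerivedCategory.singleFunctor (ModSite.Mod O) 0).obj
      ((PM (ModSite.ringSh O)).obj U)) (Cofan.mk (∐ M) (Sigma.ι M)) :=
    main' (A := ModSite.Mod O) ((PM (ModSite.ringSh O)).obj U)
      (fun N p => finC_single_mod (ModSite.ringSh O) B Cov h1 h2 U hU N p) k M hM' _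
      (coproductIsCoproduct M)
  let e := freeOnIsoPM O U
  apply bijective_of_finC
  intro φ
  obtain ⟨s, g, hg⟩ := hfin ((DerivedCategory.singleFunctor (ModSite.Mod O) 0).map e.inv ≫ φ)
  refine ⟨s, fun i => (DerivedCategory.singleFunctor (ModSite.Mod O) 0).map e.hom ≫ g i, ?_⟩
  have h3 : φ = (DerivedCategory.singleFunctor (ModSite.Mod O) 0).map e.hom ≫
      ((DerivedCategory.singleFunctor (ModSite.Mod O) 0).map e.inv ≫ φ) := by
    rw [← Category.assoc, ← CategoryTheory.Functor.map_comp, e.hom_inv_id, CategoryTheory.Functor.map_id, Category.id_comp]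
  rw [h3, hg, Preadditive.comp_sum]
  exact Finset.sum_congr rfl (fun i _ => (Category.assoc _ _ _).symm)

end Groth.Agent.Lib.ColimSiteH7
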