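import Mathlib
import Groth.Agent.Lib.Cart7_helper8
import Groth.Agent.Lib.StrictCl1_helper8
set_option autoImplicit false
open AlgebraicGeometry CategoryTheory CategoryTheory.Limits TopologicalSpace Opposite
open QcqsLoc
universe u
namespace ComaxH8

theorem inf_eq_mul_of_sup_eq_top {X : Scheme.{u}} (I₁ I₂ : X.IdealSheafData) (h : I₁ ⊔ I₂ = ⊤) :
    I₁ ⊓ I₂ = I₁ * I₂ := by
  ext U : 2
  show I₁.ideal U ⊓ I₂.ideal U = I₁.ideal U * I₂.ideal U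
  apply Ideal.inf_eq_mul_of_isCoprime
  rw [Ideal.isCoprime_iff_sup_eq]
  have h1 : (I₁ ⊔ I₂).ideal U = (⊤ : X.IdealSheafData).ideal U := by rw [h]
  exact h1

theorem notMem_support_of_sup_eq_top {X : Scheme.{u}} (I₁ I₂ : X.IdealSheafData)
    (h : I₁ ⊔ I₂ = ⊤) (x : X) (hx : x ∈ I₁.support) : x ∉ I₂.support := by
  intro hx2
  have h1 : x ∈ (I₁ ⊔ I₂).support := by
    rw [Scheme.IdealSheafData.support_sup]
    exact ⟨hx, hx2⟩
  rw [h, Scheme.IdealSheafData.support_top] at h1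
  exact h1

theorem cartier_of_inf {X T : Scheme.{u}} (I₁ I₂ : X.IdealSheafData) (h : I₁ ⊔ I₂ = ⊤)
    (g : T ⟶ X) (hg : BlowUp.IsEffCartierIdeal ((I₁ ⊓ I₂).comap g)) :
    BlowUp.IsEffCartierIdeal (I₁.comap g) ∧ BlowUp.IsEffCartierIdeal (I₂.comap g) := by
  rw [inf_eq_mul_of_sup_eq_top I₁ I₂ h, CartH8.comap_mul] at hg
  refine ⟨CartH8.isEffCartier_of_mul _ _ hg, ?_⟩
  rw [mul_comm] at hg
  exact CartH8.isEffCartier_of_mul _ _ hg

theorem isIso_fst_restrict {X S T : Scheme.{u}} (g : T ⟶ S) (s : X ⟶ S) (S₀ : S.Opens)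
    (T₀ : T.Opens) (hle : T₀ ≤ g ⁻¹ᵁ S₀) [IsIso (s ∣_ S₀)] :
    IsIso (pullback.fst g s ∣_ T₀) := by
  haveI := CartH8.isIso_snd_restrict s g S₀ T₀ hle
  have h1 : pullback.fst g s = (pullbackSymmetry g s).hom ≫ pullback.snd s g :=
    (pullbackSymmetry_hom_comp_snd g s).symm
  rw [h1, morphismRestrict_comp]
  have hA : IsIso ((pullbackSymmetry g s).hom ∣_ pullback.snd s g ⁻¹ᵁ T₀) := inferInstance
  have hB : IsIso (pullback.snd s g ∣_ T₀) := inferInstance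
  exact IsIso.comp_isIso' hA hB

/-- Pulling back along a morphism which is an isomorphism over an open `W`. -/
theorem cartier_comap_of_isIso_restrict {P B X : Scheme.{u}} (p : P ⟶ B) (s : B ⟶ X)
    (D : X.IdealSheafData) (hD : BlowUp.IsEffCartierIdeal (D.comap s)) (W : B.Opens)
    [IsIso (p ∣_ W)] :
    BlowUp.IsEffCartierIdeal ((D.comap (p ≫ s)).comap (p ⁻¹ᵁ W).ι) := by
  rw [← Scheme.IdealSheafData.comap_comp, ← Category.assoc, ← morphismRestrict_ι, Category.assoc,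
    Scheme.IdealSheafData.comap_comp, Scheme.IdealSheafData.comap_comp]
  exact CartH8.isEffCartier_comap_of_flat _ _ (CartH8.isEffCartier_comap_of_flat _ _ hD)

theorem cartier_local {P X : Scheme.{u}} (π : P ⟶ X) (D : X.IdealSheafData)
    (h : ∀ z : P, π z ∈ D.support → ∃ O : P.Opens, z ∈ O ∧
      BlowUp.IsEffCartierIdeal ((D.comap π).comap O.ι)) :
    BlowUp.IsEffCartierIdeal (D.comap π) := by
  apply CartH8.isEffCartier_of_comap_openCover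
  intro z
  by_cases hz : π z ∈ D.support
  · obtain ⟨O, hzO, hO⟩ := h z hz
    refine ⟨O, O.ι, inferInstance, ?_, hO⟩
    rw [Scheme.Opens.range_ι]
    exact hzO
  · refine ⟨(π ⁻¹ᵁ D.support.compl : P.Opens), (π ⁻¹ᵁ D.support.compl).ι, inferInstance, ?_, ?_⟩
    · rw [Scheme.Opens.range_ι]
      exact hz
    · rw [← Scheme.IdealSheafData.comap_comp, BlowIsoH8.comap_eq_top]
      · exact BlowIsoH8.isEffCartier_top
      · intro y
        exact y.2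

theorem blowUp_inf {X B₁ B₂ : Scheme.{u}} (I₁ I₂ : X.IdealSheafData) (hdisj : I₁ ⊔ I₂ = ⊤)
    (σ₁ : B₁ ⟶ X) (hσ₁ : BlowUp.IsBlowUp σ₁ I₁) (σ₂ : B₂ ⟶ X) (hσ₂ : BlowUp.IsBlowUp σ₂ I₂) :
    BlowUp.IsBlowUp (pullback.fst σ₁ σ₂ ≫ σ₁) (I₁ ⊓ I₂) := by
  have hP₁ : BlowUp.IsEffCartierIdeal (I₁.comap (pullback.fst σ₁ σ₂ ≫ σ₁)) := by
    apply cartier_local
    intro z hz
    have hz2 := notMem_support_of_sup_eq_top I₁ I₂ hdisj _ hz
    have : IsIso (σ₂ ∣_ I₂.support.compl) := BlowIsoH8.isIso_restrict I₂ σ₂ hσ₂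
    have : IsIso (pullback.fst σ₁ σ₂ ∣_ (σ₁ ⁻¹ᵁ I₂.support.compl)) :=
      isIso_fst_restrict σ₁ σ₂ I₂.support.compl _ le_rfl
    exact ⟨pullback.fst σ₁ σ₂ ⁻¹ᵁ (σ₁ ⁻¹ᵁ I₂.support.compl), hz2,
      cartier_comap_of_isIso_restrict _ σ₁ I₁ hσ₁.1 _⟩
  have hP₂ : BlowUp.IsEffCartierIdeal (I₂.comap (pullback.fst σ₁ σ₂ ≫ σ₁)) := by
    rw [pullback.condition]
    apply cartier_local
    intro z hz
    have hz1 : (pullback.snd σ₁ σ₂ ≫ σ₂) z ∉ I₁.support := fun h1 =>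
      notMem_support_of_sup_eq_top I₁ I₂ hdisj _ h1 hz
    have : IsIso (σ₁ ∣_ I₁.support.compl) := BlowIsoH8.isIso_restrict I₁ σ₁ hσ₁
    have : IsIso (pullback.snd σ₁ σ₂ ∣_ (σ₂ ⁻¹ᵁ I₁.support.compl)) :=
      CartH8.isIso_snd_restrict σ₁ σ₂ I₁.support.compl _ le_rfl
    exact ⟨pullback.snd σ₁ σ₂ ⁻¹ᵁ (σ₂ ⁻¹ᵁ I₁.support.compl), hz1,
      cartier_comap_of_isIso_restrict _ σ₂ I₂ hσ₂.1 _⟩
  refine ⟨?_, ?_⟩
  · rw [inf_eq_mul_of_sup_eq_top I₁ I₂ hdisj, CartH8.comap_mul]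
    exact CartH8.isEffCartier_mul _ _ hP₁ hP₂
  · intro T g hg
    obtain ⟨hg₁, hg₂⟩ := cartier_of_inf I₁ I₂ hdisj g hg
    obtain ⟨h₁, hh₁, hu₁⟩ := hσ₁.2 T g hg₁
    obtain ⟨h₂, hh₂, hu₂⟩ := hσ₂.2 T g hg₂
    have hh₁' : h₁ ≫ σ₁ = g := hh₁
    have hh₂' : h₂ ≫ σ₂ = g := hh₂
    refine ⟨pullback.lift h₁ h₂ (by rw [hh₁', hh₂']), ?_, ?_⟩
    · show pullback.lift h₁ h₂ _ ≫ pullback.fst σ₁ σ₂ ≫ σ₁ = g
      rw [pullback.lift_fst_assoc, hh₁']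
    · intro c hc
      have hc' : c ≫ pullback.fst σ₁ σ₂ ≫ σ₁ = g := hc
      apply pullback.hom_ext
      · rw [pullback.lift_fst]
        apply hu₁
        show (c ≫ pullback.fst σ₁ σ₂) ≫ σ₁ = g
        rw [Category.assoc, hc']
      · rw [pullback.lift_snd]
        apply hu₂
        show (c ≫ pullback.snd σ₁ σ₂) ≫ σ₂ = g
        rw [Category.assoc, ← pullback.condition, hc']

end ComaxH8
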