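import Mathlib
import Groth.Prelude.Def_AlgGrp
import Groth.Prelude.Def_Red
import Groth.Agent.Lib.AMonDense_lead
import Groth.Agent.Lib.MultGa_lead

/-! # Commutativity spreads from a schematically dense fibre (lead) -/

set_option backward.isDefEq.respectTransparency false
set_option backward.isDefEq.respectTransparency.types false
set_option linter.unusedSimpArgs false
set_option linter.unusedVariables false
set_option linter.unusedSectionVars false
set_option linter.style.longLine false
set_option linter.style.haveILetI false
set_option maxHeartbeats 800000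

universe u

open CategoryTheory CategoryTheory.Limits MonoidalCategory CartesianMonoidalCategory MonObj GrpObj
  AlgebraicGeometry Opposite Topology

namespace Groth.Agent.Lib.CommFibre

open Groth.Agent.Lib.MultGa

theorem map_comm {S U : Scheme.{u}} (g : U ⟶ S) (G : Over S) [GrpObj G]
    [IsCommMonObj (Red.bc g G)] :
    (Over.pullback g).map ((β_ G G).hom ≫ μ[G]) = (Over.pullback g).map μ[G] := by
  have h1 : (μ[Red.bc g G] : Red.bc g G ⊗ Red.bc g G ⟶ Red.bc g G) =
      Functor.LaxMonoidal.μ (Over.pullback g) G G ≫ (Over.pullback g).map μ[G] := rfl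
  have h2 := IsCommMonObj.mul_comm (Red.bc g G)
  rw [h1] at h2
  have h3 := Functor.LaxBraided.braided (F := Over.pullback g) G G
  rw [← cancel_epi (Functor.LaxMonoidal.μ (Over.pullback g) G G), Functor.map_comp,
    ← Category.assoc, h3, Category.assoc]
  exact h2

theorem comm_of_dense {S U : Scheme.{u}} (g : U ⟶ S) [IsSchemeTheoreticallyDominant g]
    [QuasiCompact g] (G : Over S) [GrpObj G] [Flat G.hom] [IsSeparated G.hom]
    [IsCommMonObj (Red.bc g G)] : IsCommMonObj G := by
  refine ⟨?_⟩
  haveI : Flat (G ⊗ G).hom := by
    rw [Over.tensorObj_hom]; infer_instance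
  haveI : IsSchemeTheoreticallyDominant (eps g (G ⊗ G)).left := by
    rw [eps_left]; infer_instance
  apply Groth.Agent.Lib.AMonDense.eq_of_dense (eps g (G ⊗ G))
  rw [← eps_nat, ← eps_nat, map_comm]

theorem dominant_frac (A : Type u) [CommRing A] [IsDomain A]
    (K : Type u) [Field K] [Algebra A K] [IsFractionRing A K] :
    IsSchemeTheoreticallyDominant (Spec.map (CommRingCat.ofHom (algebraMap A K))) := by
  haveI : IsDominant (Spec.map (CommRingCat.ofHom (algebraMap A K))) := by
    rw [isDominant_iff]
    have h : DenseRange (PrimeSpectrum.comap (algebraMap A K)) := by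
      rw [PrimeSpectrum.denseRange_comap_iff_ker_le_nilRadical]
      rw [(RingHom.injective_iff_ker_eq_bot _).mp (IsFractionRing.injective A K)]
      exact bot_le
    exact h
  exact .of_isDominant _

theorem main18063 (A : Type u) [CommRing A] [IsDomain A]
    (K : Type u) [Field K] [Algebra A K] [IsFractionRing A K]
    {U : Scheme.{u}} (s : U ⟶ Spec (CommRingCat.of A))
    (G : Over (Spec (CommRingCat.of A))) [GrpObj G] [Flat G.hom]
    [IsSeparated G.hom] [IsCommMonObj (Red.bc (Spec.map (CommRingCat.ofHom (algebraMap A K))) G)] :
    IsCommMonObj (Red.bc s G) := by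
  haveI := dominant_frac A K
  haveI : IsCommMonObj G := comm_of_dense (Spec.map (CommRingCat.ofHom (algebraMap A K))) G
  exact Functor.isCommMonObj_obj (F := Over.pullback s) (M := G)

end Groth.Agent.Lib.CommFibre
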