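import Mathlib

namespace Groth.Agent.Lib.CommonCompl

open Module

section
variable {k V : Type*} [Field k] [AddCommGroup V] [Module k V] [FiniteDimensional k V]

theorem exists_notMem_two (U W : Submodule k V) (hU : U ≠ ⊤) (hW : W ≠ ⊤) :
    ∃ v, v ∉ U ∧ v ∉ W := by
  obtain ⟨u, -, hu⟩ := SetLike.exists_of_lt (lt_top_iff_ne_top.mpr hU)
  obtain ⟨w, -, hw⟩ := SetLike.exists_of_lt (lt_top_iff_ne_top.mpr hW)
  by_cases h1 : u ∈ W
  · by_cases h2 : w ∈ U
    · refine ⟨u + w, fun h => hu ?_, fun h => hw ?_⟩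
      · have := U.sub_mem h h2; rwa [add_sub_cancel_right] at this
      · have := W.sub_mem h h1; rwa [add_sub_cancel_left] at this
    · exact ⟨w, h2, hw⟩
  · exact ⟨u, hu, h1⟩

theorem finrank_sup_span (U : Submodule k V) (v : V) (hv : v ∉ U) :
    finrank k ↥(U ⊔ k ∙ v) = finrank k U + 1 := by
  have hv0 : v ≠ 0 := fun h => hv (h ▸ U.zero_mem)
  have h1 := Submodule.finrank_sup_add_finrank_inf_eq U (k ∙ v)
  have h2 : U ⊓ (k ∙ v) = ⊥ := by
    rw [← disjoint_iff]; exact (Submodule.disjoint_span_singleton' hv0).mpr hv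
  rw [h2, finrank_bot, add_zero, finrank_span_singleton hv0] at h1
  exact h1

theorem key (U C' : Submodule k V) (v : V) (hv : v ∉ U) (h : IsCompl (U ⊔ k ∙ v) C') :
    IsCompl U (C' ⊔ k ∙ v) := by
  have hv0 : v ≠ 0 := fun h => hv (h ▸ U.zero_mem)
  have hcod : U ⊔ (C' ⊔ k ∙ v) = ⊤ := by
    rw [sup_comm C', ← sup_assoc]; exact h.sup_eq_top
  have h1 := finrank_sup_span U v hv
  have h2 := Submodule.finrank_add_eq_of_isCompl h
  have h3 := Submodule.finrank_sup_add_finrank_inf_eq U (C' ⊔ k ∙ v)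
  have h4 := Submodule.finrank_add_le_finrank_add_finrank C' (k ∙ v)
  have h5 : finrank k ↥(k ∙ v) = 1 := finrank_span_singleton hv0
  rw [hcod, finrank_top] at h3
  have h6 : finrank k ↥(U ⊓ (C' ⊔ k ∙ v)) = 0 := by omega
  exact ⟨disjoint_iff.mpr (Submodule.finrank_eq_zero.mp h6), codisjoint_iff.mpr hcod⟩

theorem common_compl : ∀ (c : ℕ) (U W : Submodule k V), finrank k U = finrank k W →
    finrank k U + c = finrank k V → ∃ C : Submodule k V, IsCompl U C ∧ IsCompl W C := by
  intro c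
  induction c with
  | zero =>
    intro U W hUW hU
    have hU' : U = ⊤ := Submodule.eq_top_of_finrank_eq (by omega)
    have hW' : W = ⊤ := Submodule.eq_top_of_finrank_eq (by omega)
    exact ⟨⊥, hU' ▸ isCompl_top_bot, hW' ▸ isCompl_top_bot⟩
  | succ c ih =>
    intro U W hUW hU
    have hUne : U ≠ ⊤ := by
      intro h; rw [h, finrank_top] at hU; omega
    have hWne : W ≠ ⊤ := by
      intro h; rw [h, finrank_top] at hUW; omega
    obtain ⟨v, hvU, hvW⟩ := exists_notMem_two U W hUne hWne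
    have h1 := finrank_sup_span U v hvU
    have h2 := finrank_sup_span W v hvW
    obtain ⟨C', hC1, hC2⟩ := ih (U ⊔ k ∙ v) (W ⊔ k ∙ v) (by omega) (by omega)
    exact ⟨C' ⊔ k ∙ v, key U C' v hvU hC1, key W C' v hvW hC2⟩

end

universe u

theorem rank_exact {k X Y Z : Type*} [Field k] [AddCommGroup X] [Module k X]
    [AddCommGroup Y] [Module k Y] [AddCommGroup Z] [Module k Z] [FiniteDimensional k Y]
    (ι : X →ₗ[k] Y) (f : Y →ₗ[k] Z)
    (hι : Function.Injective ι) (hex : LinearMap.ker f = LinearMap.range ι) :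
    finrank k (LinearMap.range f) + finrank k X = finrank k Y := by
  have h := LinearMap.finrank_range_add_finrank_ker f
  rw [hex, LinearMap.finrank_range_of_inj hι] at h
  exact h

theorem L1 (k V : Type u) [Field k] [AddCommGroup V] [Module k V]
    (T : Submodule k (V × Module.Dual k V)) :
    ∃ f : T →ₗ[k] Module.Dual k V, ∀ t : T, f t = (t : V × Module.Dual k V).2 :=
  ⟨(LinearMap.snd k V (Module.Dual k V)).comp T.subtype, fun _ => rfl⟩

theorem L2 (k V : Type u) [Field k] [AddCommGroup V] [Module k V]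
    (T : Submodule k (V × Module.Dual k V)) (V₁ : Submodule k V)
    (memV₁ : ∀ v : V, v ∈ V₁ ↔ (v, (0 : Module.Dual k V)) ∈ T) :
    ∃ ι : V₁ →ₗ[k] T, ∀ x : V₁, (ι x : V × Module.Dual k V) = ((x : V), 0) :=
  ⟨(LinearMap.inl k V (Module.Dual k V)).restrict
    (fun x hx => by rw [memV₁] at hx; exact hx), fun _ => rfl⟩

theorem L3 (k V : Type u) [Field k] [AddCommGroup V] [Module k V]
    (T : Submodule k (V × Module.Dual k V)) (V₁ : Submodule k V)
    (memV₁ : ∀ v : V, v ∈ V₁ ↔ (v, (0 : Module.Dual k V)) ∈ T)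
    (f : T →ₗ[k] Module.Dual k V) (hf : ∀ t : T, f t = (t : V × Module.Dual k V).2)
    (ι : V₁ →ₗ[k] T) (hι : ∀ x : V₁, (ι x : V × Module.Dual k V) = ((x : V), 0)) :
    Function.Injective ι ∧ LinearMap.ker f = LinearMap.range ι := by
  constructor
  · intro x y h
    have h1 : (ι x : V × Module.Dual k V) = ι y := congrArg Subtype.val h
    rw [hι, hι] at h1
    exact Subtype.ext (congrArg Prod.fst h1)
  · ext t
    rw [LinearMap.mem_ker, LinearMap.mem_range, hf]
    constructor
    · intro h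
      have ht : ((t : V × Module.Dual k V).1, (0 : Module.Dual k V)) ∈ T := by
        have : ((t : V × Module.Dual k V).1, (0 : Module.Dual k V)) = (t : V × Module.Dual k V) :=
          Prod.ext rfl h.symm
        rw [this]; exact t.2
      refine ⟨⟨(t : V × Module.Dual k V).1, (memV₁ _).mpr ht⟩, ?_⟩
      apply Subtype.ext
      rw [hι]
      exact Prod.ext rfl h.symm
    · rintro ⟨x, hx⟩
      have h2 : (ι x : V × Module.Dual k V) = t := congrArg Subtype.val hx
      rw [hι] at h2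
      rw [← h2]

theorem rank_exact' {k M N Z : Type*} [Field k] [AddCommGroup M] [Module k M]
    [AddCommGroup N] [Module k N] [AddCommGroup Z] [Module k Z]
    (P : Submodule k M) (S : Submodule k N) [FiniteDimensional k S]
    (ι : P →ₗ[k] S) (f : S →ₗ[k] Z)
    (hι : Function.Injective ι) (hex : LinearMap.ker f = LinearMap.range ι) :
    finrank k (LinearMap.range f) + finrank k P = finrank k S := by
  have h := LinearMap.finrank_range_add_finrank_ker f
  rw [hex, LinearMap.finrank_range_of_inj hι] at h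
  exact h

theorem L4 (k V : Type u) [Field k] [AddCommGroup V] [Module k V]
    [FiniteDimensional k V] (T : Submodule k (V × Module.Dual k V)) (V₁ : Submodule k V)
    (f : T →ₗ[k] Module.Dual k V) (ι : V₁ →ₗ[k] T)
    (hιinj : Function.Injective ι) (hker : LinearMap.ker f = LinearMap.range ι) :
    finrank k (LinearMap.range f) + finrank k V₁ = finrank k T := by
  haveI h1 : FiniteDimensional k (Module.Dual k V) := by
    first | exact Subspace.instModuleDualFiniteDimensional | infer_instance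
  haveI h2 : FiniteDimensional k (V × Module.Dual k V) := by
    first | exact Module.Finite.prod | infer_instance
  haveI h3 : FiniteDimensional k T := by
    first | exact FiniteDimensional.finiteDimensional_submodule T | infer_instance
  exact rank_exact' V₁ T ι f hιinj hker

theorem L5 (k V : Type u) [Field k] [AddCommGroup V] [Module k V]
    (T : Submodule k (V × Module.Dual k V))
    (f : T →ₗ[k] Module.Dual k V) (hf : ∀ t : T, f t = (t : V × Module.Dual k V).2)
    (v : V) (φ : Module.Dual k V) (hvT : (v, φ) ∈ T) : φ ∈ LinearMap.range f :=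
  LinearMap.mem_range.mpr ⟨⟨(v, φ), hvT⟩, by rw [hf]⟩

theorem lemmaA1 (k V : Type u) [Field k] [AddCommGroup V] [Module k V]
    [FiniteDimensional k V] (T : Submodule k (V × Module.Dual k V)) (V₁ : Submodule k V)
    (memV₁ : ∀ v : V, v ∈ V₁ ↔ (v, (0 : Module.Dual k V)) ∈ T) :
    ∃ Q : Submodule k (Module.Dual k V),
      (∀ (v : V) (φ : Module.Dual k V), (v, φ) ∈ T → φ ∈ Q) ∧
      finrank k Q + finrank k V₁ = finrank k T := by
  obtain ⟨f, hf⟩ := L1 k V T
  obtain ⟨ι, hι⟩ := L2 k V T V₁ memV₁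
  obtain ⟨hιinj, hker⟩ := L3 k V T V₁ memV₁ f hf ι hι
  exact ⟨LinearMap.range f, fun v φ hvT => L5 k V T f hf v φ hvT,
    L4 k V T V₁ f ι hιinj hker⟩

theorem lemmaA (k V : Type u) [Field k] [AddCommGroup V] [Module k V]
    [FiniteDimensional k V] (T : Submodule k (V × Module.Dual k V))
    (hT : Module.finrank k T = Module.finrank k V) (V₁ : Submodule k V)
    (memV₁ : ∀ v : V, v ∈ V₁ ↔ (v, (0 : Module.Dual k V)) ∈ T) :
    ∃ V₂ K : Submodule k V, IsCompl V₁ V₂ ∧ IsCompl K V₂ ∧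
      ∀ (v : V) (φ : Module.Dual k V), (v, φ) ∈ T → ∀ x ∈ K, φ x = 0 := by
  obtain ⟨Q, hQ, hdim1⟩ := lemmaA1 k V T V₁ memV₁
  have hdim2 := Subspace.finrank_add_finrank_dualCoannihilator_eq Q
  have hV₁le : finrank k V₁ ≤ finrank k V := Submodule.finrank_le V₁
  obtain ⟨V₂, hc1, hc2⟩ := common_compl (finrank k V - finrank k V₁) V₁
    Q.dualCoannihilator (by omega) (by omega)
  refine ⟨V₂, Q.dualCoannihilator, hc1, hc2, ?_⟩
  intro v φ hvT x hx
  exact (Submodule.mem_dualCoannihilator _).mp hx φ (hQ v φ hvT)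

theorem lemmaB (k V : Type u) [Field k] [AddCommGroup V] [Module k V]
    (T : Submodule k (V × Module.Dual k V)) (V₁ V₂ K : Submodule k V)
    (memV₁ : ∀ v : V, v ∈ V₁ ↔ (v, (0 : Module.Dual k V)) ∈ T)
    (hc1 : IsCompl V₁ V₂) (hc2 : IsCompl K V₂)
    (hK : ∀ (v : V) (φ : Module.Dual k V), (v, φ) ∈ T → ∀ x ∈ K, φ x = 0)
    (A₁ : V₁ →ₗ[k] Module.Dual k V₁) (hA₁ : Function.Injective A₁) :
    LinearMap.graph ((Submodule.projectionOnto V₁ V₂ hc1).dualMap ∘ₗ A₁ ∘ₗ
      Submodule.projectionOnto V₁ V₂ hc1) ⊓ T = ⊥ := by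
  rw [eq_bot_iff]
  intro p hp
  obtain ⟨hg, hvT⟩ := Submodule.mem_inf.mp hp
  obtain ⟨v, φ⟩ := p
  rw [LinearMap.mem_graph_iff] at hg
  have hg' : ∀ x : V, φ x = A₁ (Submodule.projectionOnto V₁ V₂ hc1 v)
      (Submodule.projectionOnto V₁ V₂ hc1 x) := by
    intro x
    have h2 : φ = ((Submodule.projectionOnto V₁ V₂ hc1).dualMap ∘ₗ A₁ ∘ₗ
      Submodule.projectionOnto V₁ V₂ hc1) v := hg
    rw [h2, LinearMap.comp_apply, LinearMap.comp_apply, LinearMap.dualMap_apply]
  have hφV₂ : ∀ x ∈ V₂, φ x = 0 := by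
    intro x hx
    have hπx : Submodule.projectionOnto V₁ V₂ hc1 x = 0 :=
      (Submodule.projectionOnto_apply_eq_zero_iff hc1).mpr hx
    rw [hg' x, hπx, map_zero]
  have hφ0 : φ = 0 := by
    apply LinearMap.ext
    intro x
    have hx : x ∈ K ⊔ V₂ := by
      rw [hc2.sup_eq_top]; exact Submodule.mem_top
    obtain ⟨a, ha, b, hb, rfl⟩ := Submodule.mem_sup.mp hx
    rw [map_add, hK v φ hvT a ha, hφV₂ b hb, add_zero, LinearMap.zero_apply]
  have hv₁ : v ∈ V₁ := by rw [memV₁, ← hφ0]; exact hvT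
  have hA0 : A₁ ⟨v, hv₁⟩ = 0 := by
    apply LinearMap.ext
    intro y
    have h1 : Submodule.projectionOnto V₁ V₂ hc1 (y : V) = y :=
      Submodule.projectionOnto_apply_left hc1 y
    have h2 : Submodule.projectionOnto V₁ V₂ hc1 v = ⟨v, hv₁⟩ :=
      Submodule.projectionOnto_apply_left hc1 ⟨v, hv₁⟩
    have h3 := hg' (y : V)
    rw [h1, h2, hφ0, LinearMap.zero_apply] at h3
    rw [← h3, LinearMap.zero_apply]
  have hv0 : (⟨v, hv₁⟩ : V₁) = 0 := hA₁ (by rw [hA0, map_zero])
  have hv00 : v = 0 := congrArg Subtype.val hv0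
  rw [hv00, hφ0]
  exact Submodule.zero_mem _

theorem main (k V : Type u) [Field k] [AddCommGroup V] [Module k V]
    [FiniteDimensional k V] (T : Submodule k (V × Module.Dual k V))
    (hT : Module.finrank k T = Module.finrank k V) :
    ∃ (V₂ : Submodule k V) (h : IsCompl (T.comap (LinearMap.inl k V (Module.Dual k V))) V₂),
      ∀ A₁ : T.comap (LinearMap.inl k V (Module.Dual k V)) →ₗ[k]
          Module.Dual k (T.comap (LinearMap.inl k V (Module.Dual k V))),
        Function.Injective A₁ →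
          LinearMap.graph ((Submodule.projectionOnto _ V₂ h).dualMap ∘ₗ A₁ ∘ₗ
              Submodule.projectionOnto _ V₂ h) ⊓ T = ⊥ := by
  have memV₁ : ∀ v : V, v ∈ T.comap (LinearMap.inl k V (Module.Dual k V)) ↔
      (v, (0 : Module.Dual k V)) ∈ T := by
    intro v; rw [Submodule.mem_comap]; rfl
  obtain ⟨V₂, K, hc1, hc2, hK⟩ := lemmaA k V T hT _ memV₁
  exact ⟨V₂, hc1, fun A₁ hA₁ => lemmaB k V T _ V₂ K memV₁ hc1 hc2 hK A₁ hA₁⟩

end Groth.Agent.Lib.CommonCompl
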