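import Groth.Prelude.Def_ComodTens
import Groth.Prelude.Def_ComodDual
import Groth.Prelude.Def_Hoch
import Mathlib

set_option autoImplicit false
set_option maxHeartbeats 1000000

open TensorProduct

namespace ComodHomFixH1

universe u v w w'

section LemmaA

variable (k : Type u) [CommRing k] (M : Type w') [AddCommGroup M] [Module k M]
  (N : Type w) [AddCommGroup N] [Module k N]

/-- For `M` finitely presented and `N` flat, `M^* ⊗ N → Hom(M, N)` is bijective. -/
theorem dualTensorHom_bijective_of_flat [Module.FinitePresentation k M] [Module.Flat k N] :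
    Function.Bijective (dualTensorHom k M N) := by
  obtain ⟨n, m, π, σ, hπ, hex⟩ := Module.FinitePresentation.exists_fin' k M
  have hdex : Function.Exact π.dualMap σ.dualMap := by
    rw [LinearMap.exact_iff, LinearMap.ker_dualMap_eq_dualAnnihilator_range,
      LinearMap.range_dualMap_eq_dualAnnihilator_ker_of_surjective π hπ,
      LinearMap.exact_iff.mp hex]
  have hdinj : Function.Injective π.dualMap := LinearMap.dualMap_injective_of_surjective hπ
  have hTex : Function.Exact (π.dualMap.rTensor N) (σ.dualMap.rTensor N) :=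
    Module.Flat.rTensor_exact N hdex
  have hTinj : Function.Injective (π.dualMap.rTensor N) :=
    Module.Flat.rTensor_preserves_injective_linearMap _ hdinj
  have hL : Function.Bijective (dualTensorHom k (Fin n → k) N) := dualTensorHom_bijective
  have hL' : Function.Bijective (dualTensorHom k (Fin m → k) N) := dualTensorHom_bijective
  have nat1 : ∀ x l, dualTensorHom k (Fin n → k) N (π.dualMap.rTensor N x) l =
      dualTensorHom k M N x (π l) := by
    intro x l
    have := LinearMap.congr_fun (LinearMap.congr_fun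
      (dualTensorHom_comp_rTensor_dualMap (R := k) (P := N) π) x) l
    simpa using this
  have nat2 : ∀ y l, dualTensorHom k (Fin m → k) N (σ.dualMap.rTensor N y) l =
      dualTensorHom k (Fin n → k) N y (σ l) := by
    intro y l
    have := LinearMap.congr_fun (LinearMap.congr_fun
      (dualTensorHom_comp_rTensor_dualMap (R := k) (P := N) σ) y) l
    simpa using this
  constructor
  · rw [injective_iff_map_eq_zero]
    intro x hx
    apply hTinj
    rw [map_zero]
    apply hL.1
    apply LinearMap.ext
    intro l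
    rw [nat1, hx, map_zero]
    rfl
  · intro h
    obtain ⟨y, hy⟩ := hL.2 (h ∘ₗ π)
    have hy0 : σ.dualMap.rTensor N y = 0 := by
      apply hL'.1
      apply LinearMap.ext
      intro l
      rw [nat2, hy, map_zero, LinearMap.comp_apply, hex.apply_apply_eq_zero, map_zero]
      rfl
    obtain ⟨x, hx⟩ := (hTex y).mp hy0
    refine ⟨x, ?_⟩
    apply LinearMap.ext
    intro mm
    obtain ⟨l, rfl⟩ := hπ mm
    rw [← nat1, hx, hy, LinearMap.comp_apply]

end LemmaA

section Act

variable {k : Type u} [CommRing k] {A : Type v} [CommRing A] [Algebra k A]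
  (B : Type w) [AddCommGroup B] [Module k B]

/-- Right multiplication by `a` on the second factor of `B ⊗ A`. -/
noncomputable def act (a : A) : B ⊗[k] A →ₗ[k] B ⊗[k] A := (LinearMap.mulRight k a).lTensor B

@[simp] theorem act_tmul (a : A) (b : B) (a' : A) : act B a (b ⊗ₜ[k] a') = b ⊗ₜ[k] (a' * a) := by
  simp [act]

theorem act_one (y : B ⊗[k] A) : act B (1 : A) y = y := by
  induction y using TensorProduct.induction_on with
  | zero => simp
  | add x y hx hy => rw [map_add, hx, hy]
  | tmul b a => simp

theorem act_act (a a' : A) (y : B ⊗[k] A) : act B a' (act B a y) = act B (a * a') y := by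
  induction y using TensorProduct.induction_on with
  | zero => simp
  | add x y hx hy => rw [map_add, map_add, map_add, hx, hy]
  | tmul b c => simp [mul_assoc]

theorem act_algebraMap (r : k) (y : B ⊗[k] A) : act B (algebraMap k A r) y = r • y := by
  induction y using TensorProduct.induction_on with
  | zero => simp
  | add x y hx hy => rw [map_add, hx, hy, smul_add]
  | tmul b c =>
    rw [act_tmul, ← Algebra.commutes, ← Algebra.smul_def, TensorProduct.tmul_smul]

/-- `(B ⊗ A) ⊗ A → B ⊗ A`, multiplying the two algebra components. -/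
noncomputable def mulR : (B ⊗[k] A) ⊗[k] A →ₗ[k] B ⊗[k] A :=
  (LinearMap.mul' k A).lTensor B ∘ₗ (TensorProduct.assoc k B A A).toLinearMap

theorem mulR_tmul (y : B ⊗[k] A) (a : A) : mulR (k := k) (A := A) B (y ⊗ₜ[k] a) = act B a y := by
  induction y using TensorProduct.induction_on with
  | zero => simp
  | add x y hx hy => rw [TensorProduct.add_tmul, map_add, map_add, hx, hy]
  | tmul b c => simp [mulR]

end Act

section Main

variable {k : Type u} [CommRing k] {A : Type v} [CommRing A] [HopfAlgebra k A]
  {B : Type w} [AddCommGroup B] [Module k B] {M : Type w'} [AddCommGroup M] [Module k M]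

variable (k A B M) in
/-- `b ⊗ φ ↦ (m ↦ φ m • b)`. -/
noncomputable def Phi : B ⊗[k] Module.Dual k M →ₗ[k] (M →ₗ[k] B) :=
  dualTensorHom k M B ∘ₗ (TensorProduct.comm k B (Module.Dual k M)).toLinearMap

@[simp] theorem Phi_tmul (b : B) (φ : Module.Dual k M) (m : M) :
    Phi k B M (b ⊗ₜ[k] φ) m = φ m • b := by
  simp [Phi]

variable (k A B M) in
/-- `(b ⊗ φ) ⊗ a ↦ (m ↦ φ m • (b ⊗ a))`. -/
noncomputable def Psi : (B ⊗[k] Module.Dual k M) ⊗[k] A →ₗ[k] (M →ₗ[k] B ⊗[k] A) :=
  dualTensorHom k M (B ⊗[k] A) ∘ₗ (TensorProduct.assoc k (Module.Dual k M) B A).toLinearMap ∘ₗ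
    ((TensorProduct.comm k B (Module.Dual k M)).toLinearMap.rTensor A)

@[simp] theorem Psi_tmul (b : B) (φ : Module.Dual k M) (a : A) (m : M) :
    Psi k A B M ((b ⊗ₜ[k] φ) ⊗ₜ[k] a) m = φ m • (b ⊗ₜ[k] a) := by
  simp [Psi]

theorem Psi_injective [Module.Flat k A] [Module.Flat k B] [Module.FinitePresentation k M] :
    Function.Injective (Psi k A B M) := by
  have h1 := (dualTensorHom_bijective_of_flat k M (B ⊗[k] A)).1
  have h2 : Function.Injective ((TensorProduct.comm k B (Module.Dual k M)).toLinearMap.rTensor A) := by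
    have : (TensorProduct.comm k B (Module.Dual k M)).toLinearMap.rTensor A =
        ((TensorProduct.comm k B (Module.Dual k M)).rTensor A).toLinearMap := rfl
    rw [this]
    exact LinearEquiv.injective _
  unfold Psi
  rw [LinearMap.coe_comp, LinearMap.coe_comp]
  exact h1.comp ((LinearEquiv.injective _).comp h2)

theorem Psi_tmul_one (x : B ⊗[k] Module.Dual k M) (m : M) :
    Psi k A B M (x ⊗ₜ[k] (1 : A)) m = Phi k B M x m ⊗ₜ[k] (1 : A) := by
  induction x using TensorProduct.induction_on with
  | zero => simp
  | add x y hx hy =>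
    rw [TensorProduct.add_tmul, map_add, map_add, LinearMap.add_apply, LinearMap.add_apply, hx, hy,
      TensorProduct.add_tmul]
  | tmul b φ => rw [Psi_tmul, Phi_tmul, TensorProduct.smul_tmul']

/-- Key computation: the tensor product coaction, read through `Psi`. -/
theorem Psi_prod (m : M) (y : B ⊗[k] A) (z : Module.Dual k M ⊗[k] A) :
    Psi k A B M (TensorProduct.map LinearMap.id (LinearMap.mul' k A)
      (AlgebraTensorModule.tensorTensorTensorComm k k k k B A (Module.Dual k M) A (y ⊗ₜ[k] z))) m =
    mulR B (y ⊗ₜ[k] (dualTensorHom k M A z m)) := by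
  have key : (LinearMap.applyₗ m : (M →ₗ[k] B ⊗[k] A) →ₗ[k] B ⊗[k] A) ∘ₗ Psi k A B M ∘ₗ
      (TensorProduct.map LinearMap.id (LinearMap.mul' k A)) ∘ₗ
      (AlgebraTensorModule.tensorTensorTensorComm k k k k B A (Module.Dual k M) A).toLinearMap =
      mulR B ∘ₗ (((LinearMap.applyₗ m : (M →ₗ[k] A) →ₗ[k] A) ∘ₗ dualTensorHom k M A).lTensor (B ⊗[k] A)) := by
    apply TensorProduct.ext_fourfold'
    intro b a φ a'
    simp [mulR_tmul, TensorProduct.tmul_smul]
  exact LinearMap.congr_fun key (y ⊗ₜ[k] z)

end Main

section Main2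

variable {k : Type u} [CommRing k] {A : Type v} [CommRing A] [HopfAlgebra k A]
  {B : Type w} [AddCommGroup B] [Module k B] {M : Type w'} [AddCommGroup M] [Module k M]
  (cB : HopfRep.Comod k A B) (cM : HopfRep.Comod k A M) (d : HopfRep.Comod k A (Module.Dual k M))

/-- `m' ⊗ a ↦ ρ_B (h m') · S a`. -/
noncomputable def E (h : M →ₗ[k] B) : M ⊗[k] A →ₗ[k] B ⊗[k] A :=
  mulR B ∘ₗ TensorProduct.map (cB.coact ∘ₗ h) (HopfAlgebraStruct.antipode (R := k) (A := A))

theorem E_tmul (h : M →ₗ[k] B) (m' : M) (a : A) :
    E cB h (m' ⊗ₜ[k] a) =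
      act B (HopfAlgebraStruct.antipode (R := k) (A := A) a) (cB.coact (h m')) := by
  simp [E, mulR_tmul]

theorem E_add (h h' : M →ₗ[k] B) : E cB (h + h') = E cB h + E cB h' := by
  unfold E
  rw [LinearMap.comp_add, TensorProduct.map_add_left, LinearMap.comp_add]

theorem E_zero : E cB (0 : M →ₗ[k] B) = 0 := by
  unfold E
  rw [LinearMap.comp_zero, TensorProduct.map_zero_left, LinearMap.comp_zero]

theorem Psi_coact (hd : ComodTens.Comod.IsDual cM d) (x : B ⊗[k] Module.Dual k M) (m : M) :
    Psi k A B M ((ComodTens.Comod.tensor cB d).coact x) m =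
      E cB (Phi k B M x) (cM.coact m) := by
  induction x using TensorProduct.induction_on with
  | zero => simp [E_zero]
  | add x y hx hy =>
    rw [map_add, map_add, LinearMap.add_apply, hx, hy, map_add, E_add, LinearMap.add_apply]
  | tmul b φ =>
    rw [ComodTens.tensor_coact_tmul, Psi_prod, hd φ, ComodTens.dualCoactFun_apply]
    have key : ∀ w : M ⊗[k] A, mulR B (cB.coact b ⊗ₜ[k] (TensorProduct.lid k A
        (TensorProduct.map φ (HopfAlgebraStruct.antipode (R := k) (A := A)) w))) =
        E cB (Phi k B M (b ⊗ₜ[k] φ)) w := by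
      intro w
      induction w using TensorProduct.induction_on with
      | zero => simp
      | add w w' hw hw' => rw [map_add, map_add, TensorProduct.tmul_add, map_add, hw, hw', map_add]
      | tmul m' a =>
        simp only [E_tmul, Phi_tmul, TensorProduct.map_tmul, TensorProduct.lid_tmul,
          TensorProduct.tmul_smul, map_smul, mulR_tmul]
    exact key _

theorem coassoc_symm (m : M) :
    cM.coact.rTensor A (cM.coact m) = (TensorProduct.assoc k M A A).symm
      ((CoalgebraStruct.comul (R := k) (A := A)).lTensor M (cM.coact m)) := by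
  rw [LinearEquiv.eq_symm_apply]
  exact LinearMap.congr_fun cM.coassoc m

theorem counit_apply (m : M) :
    (CoalgebraStruct.counit (R := k) (A := A)).lTensor M (cM.coact m) = m ⊗ₜ[k] (1 : k) := by
  have := LinearMap.congr_fun cM.counit_comp m
  simpa using this

theorem E_of_comodHom (h : M →ₗ[k] B) (hh : cB.coact ∘ₗ h = h.rTensor A ∘ₗ cM.coact) (m : M) :
    E cB h (cM.coact m) = h m ⊗ₜ[k] (1 : A) := by
  have h1 : ∀ w : M ⊗[k] A, E cB h w = mulR B (TensorProduct.map (h.rTensor A)
      (HopfAlgebraStruct.antipode (R := k) (A := A)) (cM.coact.rTensor A w)) := by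
    intro w
    induction w using TensorProduct.induction_on with
    | zero => simp
    | add w w' hw hw' => simp only [map_add, hw, hw']
    | tmul m' a =>
      simp only [E, LinearMap.comp_apply, TensorProduct.map_tmul, LinearMap.rTensor_tmul]
      rw [← LinearMap.comp_apply cB.coact h, hh]
      rfl
  have h2 : ∀ t : M ⊗[k] (A ⊗[k] A), mulR B (TensorProduct.map (h.rTensor A)
      (HopfAlgebraStruct.antipode (R := k) (A := A)) ((TensorProduct.assoc k M A A).symm t)) =
      TensorProduct.map h (LinearMap.mul' k A ∘ₗ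
        (HopfAlgebraStruct.antipode (R := k) (A := A)).lTensor A) t := by
    intro t
    have : mulR B ∘ₗ TensorProduct.map (h.rTensor A) (HopfAlgebraStruct.antipode (R := k) (A := A)) ∘ₗ
        (TensorProduct.assoc k M A A).symm.toLinearMap =
        TensorProduct.map h (LinearMap.mul' k A ∘ₗ
          (HopfAlgebraStruct.antipode (R := k) (A := A)).lTensor A) := by
      apply TensorProduct.ext_threefold'
      intro m' a a'
      simp [mulR_tmul]
    exact LinearMap.congr_fun this t
  have h3 : ∀ w : M ⊗[k] A, TensorProduct.map h (LinearMap.mul' k A ∘ₗ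
      (HopfAlgebraStruct.antipode (R := k) (A := A)).lTensor A)
      ((CoalgebraStruct.comul (R := k) (A := A)).lTensor M w) =
      TensorProduct.map h (Algebra.linearMap k A)
        ((CoalgebraStruct.counit (R := k) (A := A)).lTensor M w) := by
    intro w
    induction w using TensorProduct.induction_on with
    | zero => simp
    | add w w' hw hw' => simp only [map_add, hw, hw']
    | tmul m' a =>
      simp only [LinearMap.lTensor_tmul, TensorProduct.map_tmul, LinearMap.comp_apply]
      rw [HopfAlgebra.mul_antipode_lTensor_comul_apply]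
      rfl
  rw [h1, coassoc_symm, h2, h3, counit_apply, TensorProduct.map_tmul, Algebra.linearMap_apply, map_one]

theorem comodHom_of_E (h : M →ₗ[k] B) (hE : ∀ m, E cB h (cM.coact m) = h m ⊗ₜ[k] (1 : A)) :
    cB.coact ∘ₗ h = h.rTensor A ∘ₗ cM.coact := by
  apply LinearMap.ext
  intro m
  have hEl : E cB h ∘ₗ cM.coact = (TensorProduct.mk k B A).flip 1 ∘ₗ h := by
    apply LinearMap.ext
    intro m'
    simp [hE]
  have w1 : ∀ w : M ⊗[k] A, mulR B ((E cB h).rTensor A (cM.coact.rTensor A w)) = h.rTensor A w := by
    intro w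
    rw [← LinearMap.comp_apply ((E cB h).rTensor A), ← LinearMap.rTensor_comp, hEl]
    induction w using TensorProduct.induction_on with
    | zero => simp
    | add w w' hw hw' => simp only [map_add, hw, hw']
    | tmul m' a => simp [mulR_tmul]
  have w2 : ∀ t : M ⊗[k] (A ⊗[k] A),
      mulR B ((E cB h).rTensor A ((TensorProduct.assoc k M A A).symm t)) =
      mulR B (TensorProduct.map (cB.coact ∘ₗ h) (LinearMap.mul' k A ∘ₗ
        (HopfAlgebraStruct.antipode (R := k) (A := A)).rTensor A) t) := by
    intro t
    have : mulR B ∘ₗ (E cB h).rTensor A ∘ₗ (TensorProduct.assoc k M A A).symm.toLinearMap =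
        mulR B ∘ₗ TensorProduct.map (cB.coact ∘ₗ h) (LinearMap.mul' k A ∘ₗ
          (HopfAlgebraStruct.antipode (R := k) (A := A)).rTensor A) := by
      apply TensorProduct.ext_threefold'
      intro m' a a'
      simp [mulR_tmul, E_tmul, act_act]
    exact LinearMap.congr_fun this t
  have w3 : ∀ w : M ⊗[k] A, mulR B (TensorProduct.map (cB.coact ∘ₗ h) (LinearMap.mul' k A ∘ₗ
      (HopfAlgebraStruct.antipode (R := k) (A := A)).rTensor A)
      ((CoalgebraStruct.comul (R := k) (A := A)).lTensor M w)) =
      mulR B (TensorProduct.map (cB.coact ∘ₗ h) (Algebra.linearMap k A)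
        ((CoalgebraStruct.counit (R := k) (A := A)).lTensor M w)) := by
    intro w
    induction w using TensorProduct.induction_on with
    | zero => simp
    | add w w' hw hw' => simp only [map_add, hw, hw']
    | tmul m' a =>
      simp only [LinearMap.lTensor_tmul, TensorProduct.map_tmul, LinearMap.comp_apply]
      rw [HopfAlgebra.mul_antipode_rTensor_comul_apply]
      rfl
  have key := w1 (cM.coact m)
  rw [coassoc_symm, w2, w3, counit_apply, TensorProduct.map_tmul, mulR_tmul,
    Algebra.linearMap_apply, map_one, act_one] at key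
  exact key

theorem mem_fixed_iff [Module.Flat k A] [Module.Flat k B] [Module.FinitePresentation k M]
    (hd : ComodTens.Comod.IsDual cM d) (x : B ⊗[k] Module.Dual k M) :
    (ComodTens.Comod.tensor cB d).coact x = x ⊗ₜ[k] (1 : A) ↔
      cB.coact ∘ₗ Phi k B M x = (Phi k B M x).rTensor A ∘ₗ cM.coact := by
  constructor
  · intro hx
    apply comodHom_of_E cB cM
    intro m
    rw [← Psi_coact cB cM d hd, hx, Psi_tmul_one]
  · intro hh
    apply Psi_injective (k := k) (A := A) (B := B) (M := M)
    apply LinearMap.ext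
    intro m
    rw [Psi_coact cB cM d hd, E_of_comodHom cB cM _ hh, Psi_tmul_one]

theorem Phi_bijective [Module.Flat k B] [Module.FinitePresentation k M] :
    Function.Bijective (Phi k B M) := by
  unfold Phi
  rw [LinearMap.coe_comp]
  exact (dualTensorHom_bijective_of_flat k M B).comp (LinearEquiv.bijective _)

theorem s16691 [Module.Flat k A] [Module.Flat k B] [Module.FinitePresentation k M]
    (hd : ComodTens.Comod.IsDual cM d) :
    Set.BijOn
      (fun x : B ⊗[k] Module.Dual k M =>
        dualTensorHom k M B (TensorProduct.comm k B (Module.Dual k M) x))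
      ((@HopfRep.fixedPts k A _ _ _ (B ⊗[k] Module.Dual k M) _ _ (ComodTens.Comod.tensor cB d)) :
        Set (B ⊗[k] Module.Dual k M))
      {h : M →ₗ[k] B | @Hoch.IsComodHom k _ A _ _ _ M _ _ cM B _ _ cB h} := by
  refine ⟨?_, ?_, ?_⟩
  · intro x hx
    exact (mem_fixed_iff cB cM d hd x).mp hx
  · intro x _ y _ hxy
    exact (Phi_bijective (k := k) (B := B) (M := M)).1 hxy
  · intro h hh
    obtain ⟨x, rfl⟩ := (Phi_bijective (k := k) (B := B) (M := M)).2 h
    exact ⟨x, (mem_fixed_iff cB cM d hd x).mpr hh, rfl⟩

end Main2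

end ComodHomFixH1
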