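import Mathlib

set_option maxSynthPendingDepth 3

universe u

noncomputable section
open Classical

namespace Groth.Agent.Lib.EqLocus

variable {ι : Type u} [Fintype ι] (D : ι → Type u) [∀ i, CommRing (D i)] [∀ i, IsDomain (D i)]

/-- The support idempotent of an element of a product of domains. -/
def supp (a : Π i, D i) : Π i, D i := fun i => if a i = 0 then 0 else 1

theorem supp_apply_zero {a : Π i, D i} {i : ι} (h : a i = 0) : supp D a i = 0 := by
  simp [supp, h]

theorem supp_apply_one {a : Π i, D i} {i : ι} (h : a i ≠ 0) : supp D a i = 1 := by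
  simp [supp, h]

theorem mul_supp (a : Π i, D i) : a * supp D a = a := by
  funext i
  by_cases h : a i = 0
  · simp [Pi.mul_apply, supp_apply_zero D h, h]
  · simp [Pi.mul_apply, supp_apply_one D h]

theorem supp_idem (a : Π i, D i) : IsIdempotentElem (supp D a) := by
  show supp D a * supp D a = supp D a
  funext i
  by_cases h : a i = 0
  · simp [Pi.mul_apply, supp_apply_zero D h]
  · simp [Pi.mul_apply, supp_apply_one D h]

theorem mem_nonZeroDivisors_pi {s : Π i, D i} (hs : ∀ i, s i ≠ 0) :
    s ∈ nonZeroDivisors (Π i, D i) := by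
  rw [mem_nonZeroDivisors_iff_right]
  intro x hx
  funext i
  have h : x i * s i = 0 := congrFun hx i
  exact (mul_eq_zero.1 h).resolve_right (hs i)

theorem idem_coord {e : Π i, D i} (he : IsIdempotentElem e) (i : ι) : e i = 0 ∨ e i = 1 := by
  have h : e i * e i = e i := congrFun he i
  have h' : e i * (e i - 1) = 0 := by rw [mul_sub, h, mul_one, sub_self]
  rcases mul_eq_zero.1 h' with h0 | h1
  · exact Or.inl h0
  · exact Or.inr (sub_eq_zero.1 h1)

variable (A : Subring (Π i, D i))

/-- Two indices are related if no idempotent of `A` separates them. -/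
def rel : Setoid ι where
  r i i' := ∀ e ∈ A, IsIdempotentElem e → (e i = 0 ↔ e i' = 0)
  iseqv := ⟨fun _ _ _ _ => Iff.rfl, fun h e he hi => (h e he hi).symm,
    fun h1 h2 e he hi => (h1 e he hi).trans (h2 e he hi)⟩

def blockIdem (j : Quotient (rel D A)) : Π i, D i :=
  fun i => if Quotient.mk (rel D A) i = j then 1 else 0

abbrev Blk (j : Quotient (rel D A)) : Type u := {i : ι // Quotient.mk (rel D A) i = j}

def resHom (j : Quotient (rel D A)) : (Π i, D i) →+* (Π i : Blk D A j, D i.1) :=
  Pi.ringHom (fun i => Pi.evalRingHom D i.1)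

theorem resHom_apply (j : Quotient (rel D A)) (a : Π i, D i) (i : Blk D A j) :
    resHom D A j a i = a i.1 := rfl

def E (j : Quotient (rel D A)) : Subring (Π i : Blk D A j, D i.1) :=
  ((resHom D A j).comp A.subtype).range

theorem blockIdem_mem (j : Quotient (rel D A)) : blockIdem D A j ∈ A := by
  obtain ⟨i₀, rfl⟩ := Quotient.exists_rep j
  have hex : ∀ i' : ι, ∃ g : Π i, D i, g ∈ A ∧ IsIdempotentElem g ∧ g i₀ = 1 ∧
      (¬ (rel D A).r i₀ i' → g i' = 0) := by
    intro i'
    by_cases hr : (rel D A).r i₀ i'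
    · exact ⟨1, A.one_mem, IsIdempotentElem.one, rfl, fun h => absurd hr h⟩
    · have hex' : ∃ e ∈ A, IsIdempotentElem e ∧ ¬ (e i₀ = 0 ↔ e i' = 0) := by
        by_contra hcon
        apply hr
        intro e he hi
        by_contra hne
        exact hcon ⟨e, he, hi, hne⟩
      obtain ⟨e, he, hi, hne⟩ := hex'
      have h01 : ∀ i, e i = 0 ∨ e i = 1 := idem_coord D hi
      by_cases h0 : e i₀ = 0
      · have h1 : e i' = 1 := (h01 i').resolve_left (fun h => hne ⟨fun _ => h, fun _ => h0⟩)
        refine ⟨1 - e, A.sub_mem A.one_mem he, hi.one_sub, ?_, fun _ => ?_⟩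
        · simp [h0]
        · simp [h1]
      · have h1 : e i₀ = 1 := (h01 i₀).resolve_left h0
        have h2 : e i' = 0 := by
          by_contra h
          exact hne ⟨fun h' => absurd h' h0, fun h' => absurd h' h⟩
        exact ⟨e, he, hi, h1, fun _ => h2⟩
  choose g hgA hgI hg1 hg0 using hex
  have hprod : blockIdem D A (Quotient.mk (rel D A) i₀) = ∏ i', g i' := by
    funext i
    rw [Finset.prod_apply]
    unfold blockIdem
    by_cases hr : Quotient.mk (rel D A) i = Quotient.mk (rel D A) i₀
    · rw [if_pos hr]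
      have hr' : (rel D A).r i i₀ := Quotient.exact hr
      symm
      apply Finset.prod_eq_one
      intro i' _
      refine (idem_coord D (hgI i') i).resolve_left (fun h => ?_)
      have h2 := (hr' (g i') (hgA i') (hgI i')).1 h
      rw [hg1 i'] at h2
      exact one_ne_zero h2
    · rw [if_neg hr]
      symm
      apply Finset.prod_eq_zero (Finset.mem_univ i)
      apply hg0 i
      intro h
      exact hr (Quotient.sound ((rel D A).symm h))
  rw [hprod]
  exact Subring.prod_mem A (fun i' _ => hgA i')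

section main

variable {R : Type u} [CommRing R] (F : Set ((Π i, D i) →+* R))
  (hF : ∀ f ∈ F, ∀ s ∈ nonZeroDivisors (Π i, D i), f s ∈ nonZeroDivisors R)
  (hA : ∀ a, a ∈ A ↔ ∀ f ∈ F, ∀ f' ∈ F, f a = f' a)
include hF hA

theorem supp_mem {a : Π i, D i} (ha : a ∈ A) : supp D a ∈ A := by
  rw [hA]
  intro f hf f' hf'
  have h1 : a * supp D a = a := mul_supp D a
  have h2 : supp D a * supp D a = supp D a := supp_idem D a
  have hs : a + (1 - supp D a) ∈ nonZeroDivisors (Π i, D i) := by
    apply mem_nonZeroDivisors_pi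
    intro i
    by_cases h : a i = 0
    · simp [Pi.add_apply, Pi.sub_apply, supp_apply_zero D h, h]
    · simpa [Pi.add_apply, Pi.sub_apply, supp_apply_one D h] using h
  have hfa : f a = f' a := (hA a).1 ha f hf f' hf'
  have e1 : f a * f (supp D a) = f a := by rw [← map_mul, h1]
  have e2 : f a * f' (supp D a) = f a := by rw [hfa, ← map_mul, h1]
  have e3 : f (supp D a) * f (supp D a) = f (supp D a) := by rw [← map_mul, h2]
  have e4 : f' (supp D a) * f' (supp D a) = f' (supp D a) := by rw [← map_mul, h2]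
  have hfs : f (a + (1 - supp D a)) ∈ nonZeroDivisors R := hF f hf _ hs
  have hfs' : f' (a + (1 - supp D a)) ∈ nonZeroDivisors R := hF f' hf' _ hs
  have key : (f (supp D a) - f' (supp D a)) * f (a + (1 - supp D a)) *
      f' (a + (1 - supp D a)) = 0 := by
    simp only [map_add, map_sub, map_one]
    rw [← hfa]
    linear_combination (f a + (1 - f' (supp D a)) + (1 - f (supp D a))) * e1 -
      (f a + (1 - f' (supp D a)) + (1 - f (supp D a))) * e2 -
      (1 - f' (supp D a)) * e3 + (1 - f (supp D a)) * e4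
  have k1 := (mul_right_mem_nonZeroDivisors_eq_zero_iff hfs').1 key
  have k2 := (mul_right_mem_nonZeroDivisors_eq_zero_iff hfs).1 k1
  exact sub_eq_zero.1 k2

theorem eq_zero_of_rel {a : Π i, D i} (ha : a ∈ A) {i₀ i₁ : ι} (hr : (rel D A).r i₀ i₁)
    (h0 : a i₀ = 0) : a i₁ = 0 := by
  have hs := supp_mem D A F hF hA ha
  have h1 : supp D a i₀ = 0 := supp_apply_zero D h0
  have h2 := (hr _ hs (supp_idem D a)).1 h1
  by_contra hne
  rw [supp_apply_one D hne] at h2
  exact one_ne_zero h2

theorem mem_of_mul_mem {s c : Π i, D i} (hs : s ∈ A) (hs' : s ∈ nonZeroDivisors (Π i, D i))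
    (hsc : s * c ∈ A) : c ∈ A := by
  rw [hA]
  intro f hf f' hf'
  have h1 : f s = f' s := (hA s).1 hs f hf f' hf'
  have h2 : f (s * c) = f' (s * c) := (hA _).1 hsc f hf f' hf'
  rw [map_mul, map_mul, ← h1] at h2
  exact (mul_cancel_left_mem_nonZeroDivisors (hF f hf s hs')).1 h2

theorem eq_zero_of_blk {j : Quotient (rel D A)} {a : Π i, D i} (ha : a ∈ A)
    (i₀ i₁ : Blk D A j) (h0 : a i₀.1 = 0) : a i₁.1 = 0 :=
  eq_zero_of_rel D A F hF hA ha (Quotient.exact (i₀.2.trans i₁.2.symm)) h0

theorem E_eq_zero_of_coord {j : Quotient (rel D A)} (x : E D A j) (i₀ : Blk D A j)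
    (h0 : x.1 i₀ = 0) : x = 0 := by
  have hx : (x : Π i : Blk D A j, D i.1) ∈ ((resHom D A j).comp A.subtype).range := x.2
  obtain ⟨a, ha⟩ := hx
  apply Subtype.ext
  funext i₁
  have h0' : a.1 i₀.1 = 0 := by rw [← ha] at h0; exact h0
  have h1 := eq_zero_of_blk D A F hF hA a.2 i₀ i₁ h0'
  rw [← ha]
  exact h1

theorem isDomain_E (j : Quotient (rel D A)) : IsDomain (E D A j) := by
  obtain ⟨i₀, rfl⟩ := Quotient.exists_rep j
  let i₀' : Blk D A (Quotient.mk (rel D A) i₀) := ⟨i₀, rfl⟩
  haveI : Nontrivial (E D A (Quotient.mk (rel D A) i₀)) := ⟨⟨0, 1, fun h => by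
    have h' : (0 : D i₀) = 1 := congrFun (congrArg Subtype.val h) i₀'
    exact zero_ne_one h'⟩⟩
  haveI : NoZeroDivisors (E D A (Quotient.mk (rel D A) i₀)) := ⟨fun {x y} hxy => by
    by_contra hcon
    push_neg at hcon
    have hx : x.1 i₀' ≠ 0 := fun h => hcon.1 (E_eq_zero_of_coord D A F hF hA x i₀' h)
    have hy : y.1 i₀' ≠ 0 := fun h => hcon.2 (E_eq_zero_of_coord D A F hF hA y i₀' h)
    have h' : x.1 i₀' * y.1 i₀' = 0 := congrFun (congrArg Subtype.val hxy) i₀'
    exact mul_ne_zero hx hy h'⟩
  exact NoZeroDivisors.to_isDomain _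

theorem isIntegrallyClosed_E [∀ i, IsIntegrallyClosed (D i)] (j : Quotient (rel D A)) :
    IsIntegrallyClosed (E D A j) := by
  haveI := isDomain_E D A F hF hA j
  rw [isIntegrallyClosed_iff (FractionRing (E D A j))]
  intro y hy
  obtain ⟨a, b, hb, rfl⟩ := IsFractionRing.div_surjective (A := E D A j) y
  have hb0 : b ≠ 0 := nonZeroDivisors.ne_zero hb
  let π : ∀ i : Blk D A j, (E D A j) →+* D i.1 := fun i =>
    (Pi.evalRingHom (fun i : Blk D A j => D i.1) i).comp (E D A j).subtype
  have hπinj : ∀ i, Function.Injective (π i) := fun i => by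
    rw [injective_iff_map_eq_zero]
    intro x hx
    exact E_eq_zero_of_coord D A F hF hA x i hx
  let g : ∀ i : Blk D A j, (E D A j) →+* FractionRing (D i.1) := fun i =>
    (algebraMap (D i.1) (FractionRing (D i.1))).comp (π i)
  have hginj : ∀ i, Function.Injective (g i) := fun i =>
    (IsFractionRing.injective (D i.1) (FractionRing (D i.1))).comp (hπinj i)
  have hc : ∀ i : Blk D A j, ∃ c : D i.1, c * π i b = π i a := by
    intro i
    let ψ : FractionRing (E D A j) →+* FractionRing (D i.1) := IsFractionRing.lift (hginj i)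
    have hint : IsIntegral (D i.1) (ψ (algebraMap _ _ a / algebraMap _ _ b)) := by
      obtain ⟨p, hp, hpy⟩ := hy
      refine ⟨p.map (π i), hp.map _, ?_⟩
      rw [Polynomial.eval₂_map]
      have hcomp : (algebraMap (D i.1) (FractionRing (D i.1))).comp (π i) =
          ψ.comp (algebraMap (E D A j) (FractionRing (E D A j))) := by
        ext x
        simp only [RingHom.comp_apply]
        exact (IsFractionRing.lift_algebraMap (hginj i) x).symm
      rw [hcomp, ← Polynomial.hom_eval₂, hpy, map_zero]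
    obtain ⟨c, hc⟩ := IsIntegrallyClosed.algebraMap_eq_of_integral hint
    refine ⟨c, ?_⟩
    have hgb : g i b ≠ 0 := fun h => hb0 ((injective_iff_map_eq_zero (g i)).1 (hginj i) b h)
    have h1 : ψ (algebraMap _ _ a / algebraMap _ _ b) = g i a / g i b := by
      rw [map_div₀, IsFractionRing.lift_algebraMap, IsFractionRing.lift_algebraMap]
    rw [h1, eq_div_iff hgb] at hc
    apply IsFractionRing.injective (D i.1) (FractionRing (D i.1))
    rw [map_mul]
    exact hc
  choose c hc using hc
  have ha' : (a : Π i : Blk D A j, D i.1) ∈ ((resHom D A j).comp A.subtype).range := a.2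
  have hb' : (b : Π i : Blk D A j, D i.1) ∈ ((resHom D A j).comp A.subtype).range := b.2
  obtain ⟨α, hα⟩ := ha'
  obtain ⟨β, hβ⟩ := hb'
  have hαi : ∀ i : Blk D A j, α.1 i.1 = π i a := fun i => by
    show α.1 i.1 = a.1 i
    rw [← hα]; rfl
  have hβi : ∀ i : Blk D A j, β.1 i.1 = π i b := fun i => by
    show β.1 i.1 = b.1 i
    rw [← hβ]; rfl
  let γ : Π i, D i := fun i => if h : Quotient.mk (rel D A) i = j then c ⟨i, h⟩ else 0
  have heA : blockIdem D A j ∈ A := blockIdem_mem D A j
  have hsA : blockIdem D A j * β.1 + (1 - blockIdem D A j) ∈ A :=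
    A.add_mem (A.mul_mem heA β.2) (A.sub_mem A.one_mem heA)
  have hs : blockIdem D A j * β.1 + (1 - blockIdem D A j) ∈ nonZeroDivisors (Π i, D i) := by
    apply mem_nonZeroDivisors_pi
    intro i
    by_cases h : Quotient.mk (rel D A) i = j
    · have he : blockIdem D A j i = 1 := by simp [blockIdem, h]
      have hsi : (blockIdem D A j * β.1 + (1 - blockIdem D A j)) i = β.1 i := by
        simp [Pi.add_apply, Pi.mul_apply, Pi.sub_apply, he]
      rw [hsi]
      intro h0
      apply hb0
      apply hπinj ⟨i, h⟩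
      rw [map_zero, ← hβi ⟨i, h⟩]
      exact h0
    · have he : blockIdem D A j i = 0 := by simp [blockIdem, h]
      have hsi : (blockIdem D A j * β.1 + (1 - blockIdem D A j)) i = 1 := by
        simp [Pi.add_apply, Pi.mul_apply, Pi.sub_apply, he]
      rw [hsi]
      exact one_ne_zero
  have hsγ : (blockIdem D A j * β.1 + (1 - blockIdem D A j)) * γ = blockIdem D A j * α.1 := by
    funext i
    by_cases h : Quotient.mk (rel D A) i = j
    · have he : blockIdem D A j i = 1 := by simp [blockIdem, h]
      have hγ : γ i = c ⟨i, h⟩ := by simp [γ, h]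
      simp only [Pi.mul_apply, Pi.add_apply, Pi.sub_apply, Pi.one_apply, he, hγ]
      have e1 := hαi ⟨i, h⟩
      have e2 := hβi ⟨i, h⟩
      have e3 := hc ⟨i, h⟩
      simp only at e1 e2
      rw [e1, e2, ← e3]
      ring
    · have he : blockIdem D A j i = 0 := by simp [blockIdem, h]
      have hγ : γ i = 0 := by simp [γ, h]
      simp [Pi.mul_apply, he, hγ]
  have hγA : γ ∈ A := mem_of_mul_mem D A F hF hA hsA hs
    (by rw [hsγ]; exact A.mul_mem heA α.2)
  refine ⟨⟨resHom D A j γ, ⟨⟨γ, hγA⟩, rfl⟩⟩, ?_⟩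
  have hbK : algebraMap (E D A j) (FractionRing (E D A j)) b ≠ 0 :=
    (map_ne_zero_iff _ (IsFractionRing.injective _ _)).2 hb0
  rw [eq_div_iff hbK, ← map_mul]
  congr 1
  apply Subtype.ext
  funext i
  show γ i.1 * b.1 i = a.1 i
  have hγ : γ i.1 = c i := by simp [γ, i.2]
  rw [hγ]
  exact hc i

theorem main_S11135 [∀ i, IsIntegrallyClosed (D i)] :
    ∃ (κ : Type u) (_ : Fintype κ) (E : κ → Type u) (_ : ∀ j, CommRing (E j))
      (_ : ∀ j, IsDomain (E j)) (_ : ∀ j, IsIntegrallyClosed (E j)),
      Nonempty (A ≃+* Π j, E j) := by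
  haveI : Fintype (Quotient (rel D A)) := Fintype.ofFinite _
  let Φ : A →+* Π j, E D A j :=
    Pi.ringHom (fun j => ((resHom D A j).comp A.subtype).rangeRestrict)
  have hinj : Function.Injective Φ := by
    rw [injective_iff_map_eq_zero]
    intro a ha
    apply Subtype.ext
    funext i
    have h1 := congrFun ha (Quotient.mk (rel D A) i)
    have h2 := congrFun (congrArg Subtype.val h1) ⟨i, rfl⟩
    exact h2
  have hsurj : Function.Surjective Φ := by
    intro x
    have hx : ∀ j, ∃ a : A, ((resHom D A j).comp A.subtype) a = (x j).1 := fun j => (x j).2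
    choose a ha using hx
    have hb : (∑ j, blockIdem D A j * (a j).1) ∈ A :=
      A.sum_mem (fun j _ => A.mul_mem (blockIdem_mem D A j) (a j).2)
    refine ⟨⟨∑ j, blockIdem D A j * (a j).1, hb⟩, ?_⟩
    funext j
    apply Subtype.ext
    funext i
    show (∑ j', blockIdem D A j' * (a j').1) i.1 = (x j).1 i
    rw [← ha j]
    show (∑ j', blockIdem D A j' * (a j').1) i.1 = (a j).1 i.1
    rw [Finset.sum_apply, Finset.sum_eq_single j]
    · simp [blockIdem, i.2]
    · intro j' _ hne
      have h0 : blockIdem D A j' i.1 = 0 := by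
        simp only [blockIdem]
        rw [if_neg]
        rw [i.2]
        exact fun h => hne h.symm
      simp [Pi.mul_apply, h0]
    · intro h
      exact absurd (Finset.mem_univ j) h
  exact ⟨Quotient (rel D A), inferInstance, fun j => ↥(E D A j), fun j => inferInstance,
    fun j => isDomain_E D A F hF hA j, fun j => isIntegrallyClosed_E D A F hF hA j,
    ⟨RingEquiv.ofBijective Φ ⟨hinj, hsurj⟩⟩⟩

end main

end Groth.Agent.Lib.EqLocus
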