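import Mathlib
import Groth.Prelude.Def_HopfRep
import Groth.Agent.S11135

/-! The shear automorphism `x ⊗ h ↦ ρ(x)(1 ⊗ h)` of `S ⊗ H` for a comodule algebra `S` over a
commutative Hopf algebra `H`; the coaction carries nonzerodivisors to nonzerodivisors; invariants
of a finite product of normal domains (helper1). -/

set_option autoImplicit false
set_option maxHeartbeats 400000

namespace Groth.Agent.Lib.ComodInvNormalH1

open TensorProduct

universe u

section shear

variable (k : Type u) [Field k] (H : Type u) [CommRing H] [HopfAlgebra k H]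
  (S : Type u) [CommRing S] [Algebra k S]

/-- `(y, a) ↦ y * (1 ⊗ a)` -/
noncomputable def mulR : (S ⊗[k] H) ⊗[k] H →ₗ[k] S ⊗[k] H :=
  LinearMap.mul' k (S ⊗[k] H) ∘ₗ
    (Algebra.TensorProduct.includeRight : H →ₐ[k] S ⊗[k] H).toLinearMap.lTensor (S ⊗[k] H)

theorem mulR_tmul (y : S ⊗[k] H) (a : H) :
    mulR k H S (y ⊗ₜ[k] a) = y * ((1 : S) ⊗ₜ[k] a) := by
  simp [mulR]

theorem I1 (t : S ⊗[k] (H ⊗[k] H)) :
    mulR k H S (((HopfAlgebra.antipode k (A := H)).lTensor S).rTensor H
      ((TensorProduct.assoc k S H H).symm t)) =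
    ((LinearMap.mul' k H ∘ₗ (HopfAlgebra.antipode k (A := H)).rTensor H).lTensor S) t := by
  induction t using TensorProduct.induction_on with
  | zero => simp
  | tmul x w =>
    induction w using TensorProduct.induction_on with
    | zero => simp
    | tmul a b =>
      simp [mulR_tmul, Algebra.TensorProduct.tmul_mul_tmul]
    | add w1 w2 h1 h2 =>
      simp only [TensorProduct.tmul_add, map_add, h1, h2]
  | add t1 t2 h1 h2 => simp only [map_add, h1, h2]

theorem I2 (t : S ⊗[k] (H ⊗[k] H)) :
    mulR k H S ((HopfAlgebra.antipode k (A := H)).lTensor (S ⊗[k] H)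
      ((TensorProduct.assoc k S H H).symm t)) =
    ((LinearMap.mul' k H ∘ₗ (HopfAlgebra.antipode k (A := H)).lTensor H).lTensor S) t := by
  induction t using TensorProduct.induction_on with
  | zero => simp
  | tmul x w =>
    induction w using TensorProduct.induction_on with
    | zero => simp
    | tmul a b =>
      simp [mulR_tmul, Algebra.TensorProduct.tmul_mul_tmul]
    | add w1 w2 h1 h2 =>
      simp only [TensorProduct.tmul_add, map_add, h1, h2]
  | add t1 t2 h1 h2 => simp only [map_add, h1, h2]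

theorem tmul_one_mem_nzd (s : S) (hs : s ∈ nonZeroDivisors S) :
    (s ⊗ₜ[k] (1 : H)) ∈ nonZeroDivisors (S ⊗[k] H) := by
  rw [mem_nonZeroDivisors_iff_right]
  intro z hz
  have hinj0 : Function.Injective (LinearMap.mulRight k s) := by
    rw [injective_iff_map_eq_zero]
    intro a ha
    exact (mem_nonZeroDivisors_iff_right.1 hs) a ha
  have hinj : Function.Injective ((LinearMap.mulRight k s).rTensor H) :=
    Module.Flat.rTensor_preserves_injective_linearMap _ hinj0
  have hmul : ∀ z : S ⊗[k] H, (LinearMap.mulRight k s).rTensor H z = z * (s ⊗ₜ[k] (1 : H)) := by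
    intro z
    induction z using TensorProduct.induction_on with
    | zero => simp
    | tmul a b => simp [Algebra.TensorProduct.tmul_mul_tmul]
    | add z1 z2 h1 h2 => rw [map_add, add_mul, h1, h2]
  apply hinj
  rw [hmul, hz, map_zero]

variable [HopfRep.Comod k H S]

/-- the coaction -/
noncomputable abbrev co : S →ₗ[k] S ⊗[k] H := HopfRep.Comod.coact (k := k) (A := H)

theorem coassoc_apply (x : S) :
    (co k H S).rTensor H (co k H S x) =
      (TensorProduct.assoc k S H H).symm
        ((Coalgebra.comul (R := k) (A := H)).lTensor S (co k H S x)) := by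
  have h := LinearMap.congr_fun (HopfRep.Comod.coassoc (k := k) (A := H) (V := S)) x
  simp only [LinearMap.comp_apply, LinearEquiv.coe_coe] at h
  rw [← h, LinearEquiv.symm_apply_apply]

theorem counit_apply (x : S) :
    (Coalgebra.counit (R := k) (A := H)).lTensor S (co k H S x) = x ⊗ₜ[k] (1 : k) := by
  have h := LinearMap.congr_fun (HopfRep.Comod.counit_comp (k := k) (A := H) (V := S)) x
  simpa using h

theorem keyA (x : S) :
    mulR k H S (((HopfAlgebra.antipode k (A := H)).lTensor S).rTensor H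
      ((co k H S).rTensor H (co k H S x))) = x ⊗ₜ[k] (1 : H) := by
  rw [coassoc_apply, I1, ← LinearMap.lTensor_comp_apply]
  have h : (LinearMap.mul' k H ∘ₗ (HopfAlgebra.antipode k (A := H)).rTensor H) ∘ₗ
      Coalgebra.comul = Algebra.linearMap k H ∘ₗ Coalgebra.counit := by
    rw [LinearMap.comp_assoc]
    exact HopfAlgebra.mul_antipode_rTensor_comul
  rw [h, LinearMap.lTensor_comp_apply, counit_apply, LinearMap.lTensor_tmul,
    Algebra.linearMap_apply, map_one]

theorem keyB (x : S) :
    mulR k H S ((co k H S).rTensor H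
      ((HopfAlgebra.antipode k (A := H)).lTensor S (co k H S x))) = x ⊗ₜ[k] (1 : H) := by
  have h0 : (co k H S).rTensor H ((HopfAlgebra.antipode k (A := H)).lTensor S (co k H S x)) =
      (HopfAlgebra.antipode k (A := H)).lTensor (S ⊗[k] H)
        ((co k H S).rTensor H (co k H S x)) :=
    LinearMap.congr_fun ((LinearMap.rTensor_comp_lTensor (f := co k H S)
      (g := HopfAlgebra.antipode k (A := H))).trans
      (LinearMap.lTensor_comp_rTensor (f := co k H S)
        (g := HopfAlgebra.antipode k (A := H))).symm)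
      (co k H S x)
  rw [h0, coassoc_apply, I2, ← LinearMap.lTensor_comp_apply]
  have h : (LinearMap.mul' k H ∘ₗ (HopfAlgebra.antipode k (A := H)).lTensor H) ∘ₗ
      Coalgebra.comul = Algebra.linearMap k H ∘ₗ Coalgebra.counit := by
    rw [LinearMap.comp_assoc]
    exact HopfAlgebra.mul_antipode_lTensor_comul
  rw [h, LinearMap.lTensor_comp_apply, counit_apply, LinearMap.lTensor_tmul,
    Algebra.linearMap_apply, map_one]

variable (hmul : ∀ x y : S, co k H S (x * y) = co k H S x * co k H S y)
  (hone : co k H S 1 = 1)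

/-- the coaction as an algebra homomorphism -/
noncomputable def rho : S →ₐ[k] S ⊗[k] H := AlgHom.ofLinearMap (co k H S) hone hmul

theorem rho_apply (x : S) : rho k H S hmul hone x = co k H S x := rfl

/-- the coaction followed by the antipode -/
noncomputable def rho' : S →ₐ[k] S ⊗[k] H :=
  (Algebra.TensorProduct.map (AlgHom.id k S) (HopfAlgebra.antipodeAlgHom k H)).comp
    (rho k H S hmul hone)

theorem map_antipode_apply (y : S ⊗[k] H) :
    Algebra.TensorProduct.map (AlgHom.id k S) (HopfAlgebra.antipodeAlgHom k H) y =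
      (HopfAlgebra.antipode k (A := H)).lTensor S y := by
  induction y using TensorProduct.induction_on with
  | zero => simp
  | tmul a b => simp
  | add y1 y2 h1 h2 => rw [map_add, map_add, h1, h2]

theorem rho'_apply (x : S) :
    rho' k H S hmul hone x = (HopfAlgebra.antipode k (A := H)).lTensor S (co k H S x) :=
  map_antipode_apply k H S _

/-- the shear map -/
noncomputable def psi : S ⊗[k] H →ₐ[k] S ⊗[k] H :=
  Algebra.TensorProduct.productMap (rho k H S hmul hone) Algebra.TensorProduct.includeRight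

/-- the inverse shear map -/
noncomputable def psi' : S ⊗[k] H →ₐ[k] S ⊗[k] H :=
  Algebra.TensorProduct.productMap (rho' k H S hmul hone) Algebra.TensorProduct.includeRight

theorem psi_tmul (a : S) (b : H) :
    psi k H S hmul hone (a ⊗ₜ[k] b) = co k H S a * ((1 : S) ⊗ₜ[k] b) := rfl

theorem psi'_tmul (a : S) (b : H) :
    psi' k H S hmul hone (a ⊗ₜ[k] b) = rho' k H S hmul hone a * ((1 : S) ⊗ₜ[k] b) := rfl

theorem psi_eq (y : S ⊗[k] H) :
    psi k H S hmul hone y = mulR k H S ((co k H S).rTensor H y) := by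
  induction y using TensorProduct.induction_on with
  | zero => simp
  | tmul a b => rw [LinearMap.rTensor_tmul, mulR_tmul, psi_tmul]
  | add y1 y2 h1 h2 => rw [map_add, map_add, map_add, h1, h2]

theorem psi'_eq (y : S ⊗[k] H) :
    psi' k H S hmul hone y =
      mulR k H S (((HopfAlgebra.antipode k (A := H)).lTensor S ∘ₗ co k H S).rTensor H y) := by
  induction y using TensorProduct.induction_on with
  | zero => simp
  | tmul a b =>
    rw [LinearMap.rTensor_tmul, mulR_tmul, psi'_tmul, rho'_apply, LinearMap.comp_apply]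
  | add y1 y2 h1 h2 => rw [map_add, map_add, map_add, h1, h2]

theorem psi'_co (x : S) : psi' k H S hmul hone (co k H S x) = x ⊗ₜ[k] (1 : H) := by
  rw [psi'_eq, LinearMap.rTensor_comp_apply]
  exact keyA k H S x

theorem psi_rho' (x : S) : psi k H S hmul hone (rho' k H S hmul hone x) = x ⊗ₜ[k] (1 : H) := by
  rw [psi_eq, rho'_apply]
  exact keyB k H S x

theorem psi_psi' (y : S ⊗[k] H) : psi k H S hmul hone (psi' k H S hmul hone y) = y := by
  induction y using TensorProduct.induction_on with
  | zero => simp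
  | tmul a b =>
    have h3 : psi k H S hmul hone ((1 : S) ⊗ₜ[k] b) = (1 : S) ⊗ₜ[k] b := by
      rw [psi_tmul, hone, one_mul]
    rw [psi'_tmul, map_mul, psi_rho', h3, Algebra.TensorProduct.tmul_mul_tmul, mul_one, one_mul]
  | add y1 y2 h1 h2 => rw [map_add, map_add, h1, h2]

include hmul hone in
theorem coact_mem_nzd (s : S) (hs : s ∈ nonZeroDivisors S) :
    co k H S s ∈ nonZeroDivisors (S ⊗[k] H) := by
  rw [mem_nonZeroDivisors_iff_right]
  intro z hz
  have h1 : psi' k H S hmul hone z * psi' k H S hmul hone (co k H S s) = 0 := by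
    rw [← map_mul, hz, map_zero]
  rw [psi'_co] at h1
  have h3 : psi' k H S hmul hone z = 0 :=
    (mem_nonZeroDivisors_iff_right.1 (tmul_one_mem_nzd k H S s hs)) _ h1
  rw [← psi_psi' k H S hmul hone z, h3, map_zero]

end shear

/-! ### the main theorem -/

theorem main11141 (k : Type u) [Field k]
    (H : Type u) [CommRing H] [HopfAlgebra k H]
    (S : Type u) [CommRing S] [Algebra k S] [HopfRep.Comod k H S]
    (hmul : ∀ x y : S, HopfRep.Comod.coact (k := k) (A := H) (x * y) =
        HopfRep.Comod.coact (k := k) (A := H) x * HopfRep.Comod.coact (k := k) (A := H) y)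
    (hone : HopfRep.Comod.coact (k := k) (A := H) (1 : S) = 1)
    {ι : Type u} [Fintype ι] (D : ι → Type u) [∀ i, CommRing (D i)] [∀ i, IsDomain (D i)]
    [∀ i, IsIntegrallyClosed (D i)] (e : S ≃+* Π i, D i)
    (A : Subalgebra k S)
    (hA : ∀ a : S, a ∈ A ↔ HopfRep.Comod.coact (k := k) (A := H) a = a ⊗ₜ[k] (1 : H)) :
    ∃ (κ : Type u) (_ : Fintype κ) (E : κ → Type u) (_ : ∀ j, CommRing (E j))
      (_ : ∀ j, IsDomain (E j)) (_ : ∀ j, IsIntegrallyClosed (E j)),
      Nonempty (A ≃+* Π j, E j) := by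
  classical
  obtain ⟨f₁, hf₁⟩ : ∃ f₁ : (Π i, D i) →+* S ⊗[k] H, ∀ a, f₁ a = co k H S (e.symm a) :=
    ⟨((rho k H S hmul hone).toRingHom).comp e.symm.toRingHom, fun a => rfl⟩
  obtain ⟨f₂, hf₂⟩ : ∃ f₂ : (Π i, D i) →+* S ⊗[k] H, ∀ a, f₂ a = (e.symm a) ⊗ₜ[k] (1 : H) :=
    ⟨((Algebra.TensorProduct.includeLeft : S →ₐ[k] S ⊗[k] H).toRingHom).comp e.symm.toRingHom,
      fun a => rfl⟩
  obtain ⟨A', hA'mem⟩ : ∃ A' : Subring (Π i, D i), ∀ a, a ∈ A' ↔ e.symm a ∈ A :=
    ⟨A.toSubring.comap e.symm.toRingHom, fun a => Iff.rfl⟩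
  have hnzd : ∀ s ∈ nonZeroDivisors (Π i, D i), e.symm s ∈ nonZeroDivisors S := by
    intro s hs
    rw [mem_nonZeroDivisors_iff_right] at hs ⊢
    intro x hx
    have h1 : e x = 0 := by
      apply hs (e x)
      rw [← e.apply_symm_apply s, ← map_mul, hx, map_zero]
    apply e.injective
    rw [h1, map_zero]
  have hF : ∀ f ∈ ({f₁, f₂} : Set ((Π i, D i) →+* S ⊗[k] H)),
      ∀ s ∈ nonZeroDivisors (Π i, D i), f s ∈ nonZeroDivisors (S ⊗[k] H) := by
    intro f hf s hs
    rcases hf with rfl | rfl
    · rw [hf₁]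
      exact coact_mem_nzd k H S hmul hone _ (hnzd s hs)
    · rw [hf₂]
      exact tmul_one_mem_nzd k H S _ (hnzd s hs)
  have hA' : ∀ a, a ∈ A' ↔ ∀ f ∈ ({f₁, f₂} : Set ((Π i, D i) →+* S ⊗[k] H)),
      ∀ f' ∈ ({f₁, f₂} : Set ((Π i, D i) →+* S ⊗[k] H)), f a = f' a := by
    intro a
    have h0 : a ∈ A' ↔ f₁ a = f₂ a := by
      rw [hA'mem, hA, hf₁, hf₂]
    rw [h0]
    constructor
    · intro h f hf f' hf'
      rcases hf with rfl | rfl <;> rcases hf' with rfl | rfl
      · rfl
      · exact h
      · exact h.symm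
      · rfl
    · intro h
      exact h f₁ (Set.mem_insert _ _) f₂ (Set.mem_insert_of_mem _ rfl)
  obtain ⟨κ, hκ, E, i1, i2, i3, ⟨φ⟩⟩ :=
    Groth.Agent.S11135.result D (S ⊗[k] H) ({f₁, f₂} : Set ((Π i, D i) →+* S ⊗[k] H)) hF A' hA'
  refine ⟨κ, hκ, E, i1, i2, i3, ⟨RingEquiv.trans ?_ φ⟩⟩
  exact
    { toFun := fun x => ⟨e x.1, (hA'mem _).2 (by rw [e.symm_apply_apply]; exact x.2)⟩
      invFun := fun y => ⟨e.symm y.1, (hA'mem _).1 y.2⟩
      left_inv := fun x => Subtype.ext (e.symm_apply_apply _)
      right_inv := fun y => Subtype.ext (e.apply_symm_apply _)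
      map_mul' := fun x y => Subtype.ext (map_mul e _ _)
      map_add' := fun x y => Subtype.ext (map_add e _ _) }

end Groth.Agent.Lib.ComodInvNormalH1
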