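import Groth.Prelude.Def_ComodTens
import Groth.Prelude.Def_Hoch
import Groth.Agent.Lib.ComodDual_helper9
import Groth.Agent.Lib.Cosemisimple_helper9

/-!
# A kit for comodule maps between explicitly given comodule structures (helper1)

`CH c d f`: `f` intertwines the coactions `c`, `d`.  Closure properties (composition, sums,
transport along equivalences, projections from direct sums, products into the regular comodule,
twists), and splitting lemmas for semisimple comodules (retraction of an injection, lifting
through a map whose range contains the range of the given one).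
-/

set_option autoImplicit false
set_option maxHeartbeats 1000000

open TensorProduct

namespace Groth.Agent.Lib.ComodKitH1

open ComodTens Groth.Agent.Lib.ComodDual_helper9

universe u v w w' w''

section Generic

variable {k : Type u} [CommRing k] {A : Type v} [AddCommGroup A] [Module k A] [Coalgebra k A]
  {V : Type w} [AddCommGroup V] [Module k V] {W : Type w'} [AddCommGroup W] [Module k W]
  {X : Type w''} [AddCommGroup X] [Module k X]

/-- `f` is a comodule map from `(V, c)` to `(W, d)` -/
def CH (c : HopfRep.Comod k A V) (d : HopfRep.Comod k A W) (f : V →ₗ[k] W) : Prop :=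
  ∀ v, d.coact (f v) = f.rTensor A (c.coact v)

theorem CH_iff (c : HopfRep.Comod k A V) (d : HopfRep.Comod k A W) (f : V →ₗ[k] W) :
    CH c d f ↔ @Hoch.IsComodHom k _ A _ _ _ V _ _ c W _ _ d f := by
  unfold CH Hoch.IsComodHom
  constructor
  · intro h; exact LinearMap.ext fun v => h v
  · intro h v; exact LinearMap.congr_fun h v

theorem CH.comp {c : HopfRep.Comod k A V} {d : HopfRep.Comod k A W} {e : HopfRep.Comod k A X}
    {f : V →ₗ[k] W} {g : W →ₗ[k] X} (hf : CH c d f) (hg : CH d e g) : CH c e (g ∘ₗ f) := by
  intro v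
  rw [LinearMap.comp_apply, hg, hf, LinearMap.rTensor_comp, LinearMap.comp_apply]

theorem CH.zero (c : HopfRep.Comod k A V) (d : HopfRep.Comod k A W) :
    CH c d (0 : V →ₗ[k] W) := by
  intro v; simp

theorem CH.add {c : HopfRep.Comod k A V} {d : HopfRep.Comod k A W} {f g : V →ₗ[k] W}
    (hf : CH c d f) (hg : CH c d g) : CH c d (f + g) := by
  intro v
  rw [LinearMap.add_apply, map_add, hf, hg, LinearMap.rTensor_add, LinearMap.add_apply]

theorem CH.sum {ι : Type*} (s : Finset ι) {c : HopfRep.Comod k A V} {d : HopfRep.Comod k A W}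
    (f : ι → V →ₗ[k] W) (h : ∀ i ∈ s, CH c d (f i)) : CH c d (∑ i ∈ s, f i) := by
  classical
  induction s using Finset.induction_on with
  | empty => simpa using CH.zero c d
  | insert a s ha ih =>
    rw [Finset.sum_insert ha]
    exact (h a (Finset.mem_insert_self a s)).add
      (ih fun i hi => h i (Finset.mem_insert_of_mem hi))

theorem CH_ofEquiv_symm (e : V ≃ₗ[k] W) (c : HopfRep.Comod k A V) (d : HopfRep.Comod k A X)
    (g : V →ₗ[k] X) (hg : CH c d g) :
    CH (Comod.ofEquiv e c) d (g ∘ₗ (e.symm : W →ₗ[k] V)) := by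
  intro w
  have h : (g ∘ₗ (e.symm : W →ₗ[k] V)) ∘ₗ (e : V →ₗ[k] W) = g := by ext x; simp
  rw [LinearMap.comp_apply, LinearEquiv.coe_coe, hg, ofEquiv_coact, ← LinearMap.rTensor_comp_apply, h]

theorem CH_proj {ι : Type w'} [Fintype ι] [DecidableEq ι] {Y : ι → Type w}
    [∀ i, AddCommGroup (Y i)] [∀ i, Module k (Y i)] (c : ∀ i, HopfRep.Comod k A (Y i)) (i : ι) :
    CH (Comod.pi c) (c i) (LinearMap.proj i) := by
  intro f
  rw [pi_coact, map_sum, Finset.sum_eq_single i]
  · have : (LinearMap.proj i : (∀ j, Y j) →ₗ[k] Y i) ∘ₗ LinearMap.single k Y i = LinearMap.id := by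
      ext x; simp
    rw [← LinearMap.rTensor_comp_apply, this, LinearMap.rTensor_id, LinearMap.id_apply]; rfl
  · intro j _ hj
    have : (LinearMap.proj i : (∀ j, Y j) →ₗ[k] Y i) ∘ₗ LinearMap.single k Y j = 0 := by
      ext x; simp [Pi.single_eq_of_ne (Ne.symm hj)]
    rw [← LinearMap.rTensor_comp_apply, this, LinearMap.rTensor_zero, LinearMap.zero_apply]
  · intro h; exact absurd (Finset.mem_univ i) h

end Generic

section Bialg

variable {k : Type u} [CommRing k] {A : Type v} [CommRing A] [Bialgebra k A]
  {V : Type w} [AddCommGroup V] [Module k V] {W : Type w'} [AddCommGroup W] [Module k W]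

/-- the regular comodule structure as a term -/
abbrev reg (k : Type u) [CommRing k] (A : Type v) [CommRing A] [Bialgebra k A] :
    HopfRep.Comod k A A := HopfRep.Comod.regular k A

theorem reg_coact (a : A) : (reg k A).coact a = CoalgebraStruct.comul (R := k) a := rfl

theorem CH_algebraMap : CH (HopfRep.Comod.trivial k A k) (reg k A) (Algebra.linearMap k A) := by
  intro c
  rw [reg_coact]
  show CoalgebraStruct.comul (R := k) (algebraMap k A c) =
    (Algebra.linearMap k A).rTensor A (c ⊗ₜ[k] (1 : A))
  rw [LinearMap.rTensor_tmul, Algebra.linearMap_apply, Algebra.algebraMap_eq_smul_one, map_smul,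
    Bialgebra.comul_one, Algebra.TensorProduct.one_def, TensorProduct.smul_tmul']

theorem CH_mul (c : HopfRep.Comod k A V) (d : HopfRep.Comod k A W) (φ : V →ₗ[k] A)
    (ψ : W →ₗ[k] A) (hφ : CH c (reg k A) φ) (hψ : CH d (reg k A) ψ) :
    CH (Comod.tensor c d) (reg k A) (LinearMap.mul' k A ∘ₗ TensorProduct.map φ ψ) := by
  have key : ∀ (s : V ⊗[k] A) (t : W ⊗[k] A),
      (LinearMap.mul' k A ∘ₗ TensorProduct.map φ ψ).rTensor A
        (TensorProduct.map LinearMap.id (LinearMap.mul' k A)
          (AlgebraTensorModule.tensorTensorTensorComm k k k k V A W A (s ⊗ₜ[k] t))) =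
      φ.rTensor A s * ψ.rTensor A t := by
    intro s t
    induction s using TensorProduct.induction_on with
    | zero => simp
    | add s₁ s₂ h₁ h₂ => simp only [TensorProduct.add_tmul, map_add, add_mul, h₁, h₂]
    | tmul v a =>
      induction t using TensorProduct.induction_on with
      | zero => simp
      | add t₁ t₂ h₁ h₂ => simp only [TensorProduct.tmul_add, map_add, mul_add, h₁, h₂]
      | tmul w b =>
        simp only [AlgebraTensorModule.tensorTensorTensorComm_tmul, TensorProduct.map_tmul,
          LinearMap.id_apply, LinearMap.mul'_apply, LinearMap.rTensor_tmul, LinearMap.comp_apply,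
          Algebra.TensorProduct.tmul_mul_tmul]
  intro x
  induction x using TensorProduct.induction_on with
  | zero => simp
  | add x y hx hy => simp only [map_add, hx, hy]
  | tmul v w =>
    rw [tensor_coact_tmul, key, ← hφ, ← hψ, reg_coact, reg_coact, reg_coact, LinearMap.comp_apply,
      TensorProduct.map_tmul, LinearMap.mul'_apply, Bialgebra.comul_mul]

theorem CH_twist (c : HopfRep.Comod k A V) (g : V →ₗ[k] A) (hg : CH c (reg k A) g) (γ : A)
    (hγ : IsGroupLikeElem k γ) :
    CH (Comod.twist c γ hγ) (reg k A) (LinearMap.mulRight k γ ∘ₗ g) := by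
  have key : ∀ s : V ⊗[k] A,
      (LinearMap.mulRight k γ ∘ₗ g).rTensor A ((LinearMap.mulRight k γ).lTensor V s) =
      g.rTensor A s * (γ ⊗ₜ[k] γ) := by
    intro s
    induction s using TensorProduct.induction_on with
    | zero => simp
    | add s₁ s₂ h₁ h₂ => simp only [map_add, add_mul, h₁, h₂]
    | tmul v a =>
      simp only [LinearMap.lTensor_tmul, LinearMap.rTensor_tmul, LinearMap.comp_apply,
        LinearMap.mulRight_apply, Algebra.TensorProduct.tmul_mul_tmul]
  intro v
  rw [twist_coact, key, ← hg, reg_coact, reg_coact, LinearMap.comp_apply, LinearMap.mulRight_apply,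
    Bialgebra.comul_mul, hγ.comul_eq_tmul_self]

end Bialg

section Split

variable {k : Type u} [Field k] {C : Type v} [AddCommGroup C] [Module k C] [Coalgebra k C]
  {V : Type w} [AddCommGroup V] [Module k V] {E : Type w'} [AddCommGroup E] [Module k E]
  {F : Type w''} [AddCommGroup F] [Module k F]

/-- an injective comodule map into a semisimple comodule has a comodule retraction -/
theorem exists_retraction (c : HopfRep.Comod k C V) (d : HopfRep.Comod k C E)
    (hE : @HopfRep.IsSemisimpleComod k C _ _ _ _ E _ _ d) (i : V →ₗ[k] E) (hi : CH c d i)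
    (hinj : Function.Injective i) :
    ∃ p : E →ₗ[k] V, CH d c p ∧ p ∘ₗ i = LinearMap.id := by
  letI := c
  letI := d
  letI := dualModule c
  letI := dualModule d
  haveI := isSemisimpleModule_of_isSemisimpleComod d hE
  obtain ⟨p, hp⟩ := IsSemisimpleModule.extension_property
    (toDualLinear c d i ((CH_iff c d i).mp hi)) hinj (LinearMap.id : V →ₗ[Dual k C] V)
  refine ⟨ofDualLinear d c p, (CH_iff d c _).mpr (isComodHom_ofDualLinear d c p), ?_⟩
  ext v
  exact LinearMap.congr_fun hp v

/-- lifting a comodule map through a comodule map from a semisimple comodule -/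
theorem exists_lift (c : HopfRep.Comod k C V) (d : HopfRep.Comod k C E) (e : HopfRep.Comod k C F)
    (hE : @HopfRep.IsSemisimpleComod k C _ _ _ _ E _ _ d) (Θ : E →ₗ[k] F) (hΘ : CH d e Θ)
    (κ : V →ₗ[k] F) (hκ : CH c e κ) (hr : LinearMap.range κ ≤ LinearMap.range Θ) :
    ∃ i : V →ₗ[k] E, CH c d i ∧ Θ ∘ₗ i = κ := by
  letI := c
  letI := d
  letI := e
  letI := dualModule c
  letI := dualModule d
  letI := dualModule e
  haveI := isSemisimpleModule_of_isSemisimpleComod d hE
  let ΘD := toDualLinear d e Θ ((CH_iff d e Θ).mp hΘ)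
  let κD := toDualLinear c e κ ((CH_iff c e κ).mp hκ)
  have hr' : ∀ v, κD v ∈ LinearMap.range ΘD := by
    intro v
    obtain ⟨x, hx⟩ := hr ⟨v, rfl⟩
    exact ⟨x, hx⟩
  obtain ⟨i, hi⟩ := IsSemisimpleModule.lifting_property (M := E) (N := LinearMap.range ΘD) (P := V)
    ΘD.rangeRestrict (LinearMap.surjective_rangeRestrict _) (κD.codRestrict _ hr')
  refine ⟨ofDualLinear c d i, (CH_iff c d _).mpr (isComodHom_ofDualLinear c d i), ?_⟩
  ext v
  have := congrArg Subtype.val (LinearMap.congr_fun hi v)
  exact this

end Split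

end Groth.Agent.Lib.ComodKitH1
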