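import Groth.Agent.Lib.ComodHomFix_helper1
import Groth.Prelude.Def_ComodSub

set_option autoImplicit false
set_option maxHeartbeats 1000000

open TensorProduct

namespace ComodLDualH1

open ComodHomFixH1

universe u v w

variable {k : Type u} [CommRing k] {A : Type v} [AddCommGroup A] [Module k A] [Coalgebra k A]
  {M : Type w} [AddCommGroup M] [Module k M]

/-- `g ↦ ldualFun c g` as a linear map. -/
noncomputable def L (c : HopfRep.Comod k A M) : Module.Dual k M →ₗ[k] (M →ₗ[k] A) where
  toFun g := ComodSub.ldualFun c g
  map_add' g g' := by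
    apply LinearMap.ext
    intro m
    simp [ComodSub.ldualFun_apply, LinearMap.rTensor_add]
  map_smul' r g := by
    apply LinearMap.ext
    intro m
    simp [ComodSub.ldualFun_apply, LinearMap.rTensor_smul]

theorem L_apply (c : HopfRep.Comod k A M) (g : Module.Dual k M) : L c g = ComodSub.ldualFun c g := rfl

variable [Module.Flat k A] [Module.FinitePresentation k M]

/-- The equivalence `A ⊗ M^* ≃ Hom(M, A)`. -/
noncomputable def Theta : A ⊗[k] Module.Dual k M ≃ₗ[k] (M →ₗ[k] A) :=
  LinearEquiv.ofBijective (Phi k A M) (Phi_bijective (k := k) (B := A) (M := M))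

theorem Theta_apply (t : A ⊗[k] Module.Dual k M) : Theta (k := k) (A := A) (M := M) t = Phi k A M t := rfl

/-- The left coaction on the dual. -/
noncomputable def lco (c : HopfRep.Comod k A M) : Module.Dual k M →ₗ[k] A ⊗[k] Module.Dual k M :=
  (Theta (k := k) (A := A) (M := M)).symm.toLinearMap ∘ₗ L c

theorem Phi_lco (c : HopfRep.Comod k A M) (g : Module.Dual k M) :
    Phi k A M (lco c g) = ComodSub.ldualFun c g := by
  rw [← Theta_apply, lco, LinearMap.comp_apply, LinearEquiv.coe_coe, LinearEquiv.apply_symm_apply, L_apply]

omit [Module.Flat k A] [Module.FinitePresentation k M] [Coalgebra k A] in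
theorem Phi2_assoc_symm (a : A) (s : A ⊗[k] Module.Dual k M) (m : M) :
    Phi k (A ⊗[k] A) M ((TensorProduct.assoc k A A (Module.Dual k M)).symm (a ⊗ₜ[k] s)) m =
      a ⊗ₜ[k] (Phi k A M s m) := by
  induction s using TensorProduct.induction_on with
  | zero => simp
  | add s s' hs hs' =>
    rw [TensorProduct.tmul_add, map_add, map_add, LinearMap.add_apply, hs, hs', map_add,
      LinearMap.add_apply, TensorProduct.tmul_add]
  | tmul a' ψ => simp [TensorProduct.tmul_smul]

omit [Module.Flat k A] [Module.FinitePresentation k M] in
theorem side_a (c : HopfRep.Comod k A M) (co : Module.Dual k M →ₗ[k] A ⊗[k] Module.Dual k M)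
    (hco : ∀ g, Phi k A M (co g) = ComodSub.ldualFun c g)
    (t : A ⊗[k] Module.Dual k M) (m : M) :
    Phi k (A ⊗[k] A) M ((TensorProduct.assoc k A A (Module.Dual k M)).symm (co.lTensor A t)) m =
      (Phi k A M t).rTensor A (c.coact m) := by
  induction t using TensorProduct.induction_on with
  | zero => simp
  | add t t' ht ht' =>
    rw [map_add, map_add, map_add, LinearMap.add_apply, ht, ht', map_add, LinearMap.rTensor_add,
      LinearMap.add_apply]
  | tmul a φ =>
    rw [LinearMap.lTensor_tmul, Phi2_assoc_symm, hco, ComodSub.ldualFun_apply]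
    have key : ∀ w : M ⊗[k] A, a ⊗ₜ[k] (TensorProduct.lid k A (φ.rTensor A w)) =
        (Phi k A M (a ⊗ₜ[k] φ)).rTensor A w := by
      intro w
      induction w using TensorProduct.induction_on with
      | zero => simp
      | add w w' hw hw' => rw [map_add, map_add, TensorProduct.tmul_add, hw, hw', map_add]
      | tmul m' a'' =>
        simp [TensorProduct.tmul_smul, TensorProduct.smul_tmul']
    exact key _

omit [Module.Flat k A] [Module.FinitePresentation k M] in
theorem side_b (t : A ⊗[k] Module.Dual k M) (m : M) :
    Phi k (A ⊗[k] A) M ((CoalgebraStruct.comul (R := k) (A := A)).rTensor (Module.Dual k M) t) m =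
      CoalgebraStruct.comul (R := k) (A := A) (Phi k A M t m) := by
  induction t using TensorProduct.induction_on with
  | zero => simp
  | add t t' ht ht' =>
    rw [map_add, map_add, LinearMap.add_apply, ht, ht', map_add, LinearMap.add_apply, map_add]
  | tmul a φ => simp

omit [Module.Flat k A] [Module.FinitePresentation k M] in
theorem coassoc_fun (c : HopfRep.Comod k A M) (g : Module.Dual k M) (m : M) :
    (ComodSub.ldualFun c g).rTensor A (c.coact m) =
      CoalgebraStruct.comul (R := k) (A := A) (ComodSub.ldualFun c g m) := by
  have e1 : (ComodSub.ldualFun c g).rTensor A =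
      (TensorProduct.lid k A).toLinearMap.rTensor A ∘ₗ (g.rTensor A).rTensor A ∘ₗ c.coact.rTensor A := by
    unfold ComodSub.ldualFun
    rw [LinearMap.rTensor_comp, LinearMap.rTensor_comp]
  have hco : c.coact.rTensor A (c.coact m) = (TensorProduct.assoc k M A A).symm
      ((CoalgebraStruct.comul (R := k) (A := A)).lTensor M (c.coact m)) := by
    rw [LinearEquiv.eq_symm_apply]
    exact LinearMap.congr_fun c.coassoc m
  have e2 : ∀ u : M ⊗[k] (A ⊗[k] A), (TensorProduct.lid k A).toLinearMap.rTensor A
      ((g.rTensor A).rTensor A ((TensorProduct.assoc k M A A).symm u)) =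
      TensorProduct.lid k (A ⊗[k] A) (g.rTensor (A ⊗[k] A) u) := by
    intro u
    have : (TensorProduct.lid k A).toLinearMap.rTensor A ∘ₗ (g.rTensor A).rTensor A ∘ₗ
        (TensorProduct.assoc k M A A).symm.toLinearMap =
        (TensorProduct.lid k (A ⊗[k] A)).toLinearMap ∘ₗ g.rTensor (A ⊗[k] A) := by
      apply TensorProduct.ext_threefold'
      intro m' a a'
      simp [TensorProduct.smul_tmul']
    exact LinearMap.congr_fun this u
  have e3 : ∀ w : M ⊗[k] A, TensorProduct.lid k (A ⊗[k] A) (g.rTensor (A ⊗[k] A)
      ((CoalgebraStruct.comul (R := k) (A := A)).lTensor M w)) =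
      CoalgebraStruct.comul (R := k) (A := A) (TensorProduct.lid k A (g.rTensor A w)) := by
    intro w
    induction w using TensorProduct.induction_on with
    | zero => simp
    | add w w' hw hw' => simp only [map_add, hw, hw']
    | tmul m' a => simp
  rw [e1, LinearMap.comp_apply, LinearMap.comp_apply, hco, e2, e3, ComodSub.ldualFun_apply]

/-- The left dual comodule structure. -/
noncomputable def ldual (c : HopfRep.Comod k A M) : ComodSub.LComod k A (Module.Dual k M) where
  coact := lco c
  coassoc := by
    apply LinearMap.ext
    intro g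
    have hinj : Function.Injective (fun x : A ⊗[k] (A ⊗[k] Module.Dual k M) =>
        Phi k (A ⊗[k] A) M ((TensorProduct.assoc k A A (Module.Dual k M)).symm x)) :=
      (Phi_bijective (k := k) (B := A ⊗[k] A) (M := M)).1.comp (LinearEquiv.injective _)
    apply hinj
    apply LinearMap.ext
    intro m
    simp only [LinearMap.comp_apply, LinearEquiv.coe_coe, LinearEquiv.symm_apply_apply]
    rw [side_a c (lco c) (Phi_lco c), side_b, Phi_lco, coassoc_fun]
  counit_comp := by
    apply LinearMap.ext
    intro g
    apply (TensorProduct.lid k (Module.Dual k M)).injective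
    apply LinearMap.ext
    intro m
    have key : ∀ t : A ⊗[k] Module.Dual k M,
        TensorProduct.lid k (Module.Dual k M)
          ((CoalgebraStruct.counit (R := k) (A := A)).rTensor (Module.Dual k M) t) m =
        CoalgebraStruct.counit (R := k) (A := A) (Phi k A M t m) := by
      intro t
      induction t using TensorProduct.induction_on with
      | zero => simp
      | add t t' ht ht' =>
        rw [map_add, map_add, LinearMap.add_apply, ht, ht', map_add, LinearMap.add_apply, map_add]
      | tmul a φ => simp [mul_comm]
    rw [LinearMap.comp_apply, key, Phi_lco, ComodSub.ldualFun_apply]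
    have hc := LinearMap.congr_fun c.counit_comp m
    simp only [LinearMap.comp_apply, LinearMap.flip_apply, TensorProduct.mk_apply] at hc
    have e : ∀ w : M ⊗[k] A, CoalgebraStruct.counit (R := k) (A := A)
        (TensorProduct.lid k A (g.rTensor A w)) =
        TensorProduct.lid k k (g.rTensor k ((CoalgebraStruct.counit (R := k) (A := A)).lTensor M w)) := by
      intro w
      induction w using TensorProduct.induction_on with
      | zero => simp
      | add w w' hw hw' => simp only [map_add, hw, hw']
      | tmul m' a => simp
    rw [e, hc]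
    simp

theorem isLDual_ldual (c : HopfRep.Comod k A M) : ComodSub.LComod.IsLDual c (ldual c) := by
  intro g
  exact Phi_lco c g

theorem s16690 (c : HopfRep.Comod k A M) :
    ∃ l : ComodSub.LComod k A (Module.Dual k M), ComodSub.LComod.IsLDual c l :=
  ⟨ldual c, isLDual_ldual c⟩

end ComodLDualH1
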