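import Groth.Prelude.Def_HopfRep
import Groth.Prelude.Def_Hoch
import Mathlib.RingTheory.Flat.Basic
import Mathlib.LinearAlgebra.TensorProduct.RightExactness
import Mathlib.Algebra.Exact.Basic
import Groth.Prelude.Def_ComodTens

set_option autoImplicit false
universe u v w w'
open TensorProduct

namespace Groth.Agent.Lib.Comod_helper9

variable {k : Type u} [CommRing k] {C : Type v} [AddCommGroup C] [Module k C]

/-- kernel of `f ⊗ id` is the image of `ker f ⊗ C` when `C` is flat. -/
theorem ker_rTensor_eq_range [Module.Flat k C] {V : Type w} {W : Type w'} [AddCommGroup V] [Module k V]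
    [AddCommGroup W] [Module k W] (f : V →ₗ[k] W) :
    LinearMap.ker (f.rTensor C) = LinearMap.range ((LinearMap.ker f).subtype.rTensor C) := by
  have h : Function.Exact (LinearMap.ker f).subtype f := f.exact_subtype_ker_map
  have h2 := Module.Flat.rTensor_exact C h
  exact (LinearMap.exact_iff.mp h2)

variable [Coalgebra k C]

theorem isSubcomod_ker [Module.Flat k C] {V : Type w} {W : Type w'} [AddCommGroup V] [Module k V]
    [HopfRep.Comod k C V] [AddCommGroup W] [Module k W] [HopfRep.Comod k C W]
    (f : V →ₗ[k] W) (hf : Hoch.IsComodHom C f) :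
    HopfRep.IsSubcomod (k := k) (A := C) (LinearMap.ker f) := by
  intro v hv
  rw [← ker_rTensor_eq_range, LinearMap.mem_ker]
  have := LinearMap.congr_fun hf v
  simp only [LinearMap.comp_apply] at this
  rw [← this, LinearMap.mem_ker.mp hv, map_zero]

theorem isSubcomod_range {V : Type w} {W : Type w'} [AddCommGroup V] [Module k V]
    [HopfRep.Comod k C V] [AddCommGroup W] [Module k W] [HopfRep.Comod k C W]
    (f : V →ₗ[k] W) (hf : Hoch.IsComodHom C f) :
    HopfRep.IsSubcomod (k := k) (A := C) (LinearMap.range f) := by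
  rintro w ⟨v, rfl⟩
  have := LinearMap.congr_fun hf v
  simp only [LinearMap.comp_apply] at this
  rw [this]
  have hfac : f = (LinearMap.range f).subtype ∘ₗ f.rangeRestrict := by
    ext x; simp
  refine ⟨f.rangeRestrict.rTensor C (HopfRep.Comod.coact (k := k) (A := C) v), ?_⟩
  rw [← LinearMap.comp_apply, ← LinearMap.rTensor_comp, ← hfac]

theorem isSubcomod_bot {V : Type w} [AddCommGroup V] [Module k V] [HopfRep.Comod k C V] :
    HopfRep.IsSubcomod (k := k) (A := C) (⊥ : Submodule k V) := by
  intro w hw
  rw [(Submodule.mem_bot k).mp hw, map_zero]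
  exact Submodule.zero_mem _

theorem isSubcomod_top {V : Type w} [AddCommGroup V] [Module k V] [HopfRep.Comod k C V] :
    HopfRep.IsSubcomod (k := k) (A := C) (⊤ : Submodule k V) := by
  intro w _
  have hs : Function.Surjective ((⊤ : Submodule k V).subtype.rTensor C) := by
    apply LinearMap.rTensor_surjective
    intro x; exact ⟨⟨x, trivial⟩, rfl⟩
  exact LinearMap.mem_range.mpr (hs _)

end Groth.Agent.Lib.Comod_helper9

namespace Groth.Agent.Lib.Comod_helper9

/-- membership in the image of `W ⊗ C → V ⊗ C` is the vanishing in `(V/W) ⊗ C`. -/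
theorem mem_range_subtype_rTensor_iff {k : Type u} [CommRing k] (C : Type v) [AddCommGroup C] [Module k C]
    {V : Type w} [AddCommGroup V] [Module k V] (W : Submodule k V) (x : V ⊗[k] C) :
    x ∈ LinearMap.range (W.subtype.rTensor C) ↔ W.mkQ.rTensor C x = 0 := by
  have h := rTensor_exact C (LinearMap.exact_subtype_mkQ W) (Submodule.mkQ_surjective W)
  rw [← LinearMap.mem_ker, LinearMap.exact_iff.mp h]

end Groth.Agent.Lib.Comod_helper9

namespace Groth.Agent.Lib.Comod_helper9

/-- Descent of a `D`-coaction along an injective coalgebra map `i : C → D` over a field: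
given a linear `ρ : V → V ⊗ C` whose composite with `id ⊗ i` is the coaction of `D`, `ρ` is a
`C`-comodule structure. -/
@[reducible] noncomputable def comodOfLTensorEq {k : Type u} [Field k]
    {C : Type v} [AddCommGroup C] [Module k C] [Coalgebra k C]
    {D : Type w'} [AddCommGroup D] [Module k D] [Coalgebra k D]
    (i : C →ₗc[k] D) (hi : Function.Injective i)
    {V : Type w} [AddCommGroup V] [Module k V] (d : HopfRep.Comod k D V)
    (ρ : V →ₗ[k] V ⊗[k] C) (hρ : (i : C →ₗ[k] D).lTensor V ∘ₗ ρ = d.coact) :
    HopfRep.Comod k C V where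
  coact := ρ
  coassoc := by
    apply LinearMap.ext; intro v
    have hii : Function.Injective ((TensorProduct.map (i : C →ₗ[k] D) (i : C →ₗ[k] D)).lTensor V) :=
      Module.Flat.lTensor_preserves_injective_linearMap _
        (TensorProduct.map_injective_of_flat_flat _ _ hi hi)
    apply hii
    have hρv : ∀ v, (i : C →ₗ[k] D).lTensor V (ρ v) = d.coact v := fun v => LinearMap.congr_fun hρ v
    have hc := LinearMap.congr_fun d.coassoc v
    simp only [LinearMap.coe_comp, Function.comp_apply, LinearEquiv.coe_coe] at hc ⊢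
    rw [← ComodTens.assoc_rTensor_lTensor_lTensor, ComodTens.lTensor_rTensor_comm, hρv,
      ← LinearMap.comp_apply (((i : C →ₗ[k] D).lTensor V).rTensor D), ← LinearMap.rTensor_comp, hρ, hc,
      ← LinearMap.comp_apply ((TensorProduct.map _ _).lTensor V), ← LinearMap.lTensor_comp,
      CoalgHomClass.map_comp_comul i, LinearMap.lTensor_comp, LinearMap.comp_apply, hρv]
  counit_comp := by
    apply LinearMap.ext; intro v
    have hρv : ∀ v, (i : C →ₗ[k] D).lTensor V (ρ v) = d.coact v := fun v => LinearMap.congr_fun hρ v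
    have hc := LinearMap.congr_fun d.counit_comp v
    simp only [LinearMap.coe_comp, Function.comp_apply] at hc ⊢
    rw [← CoalgHomClass.counit_comp i, LinearMap.lTensor_comp, LinearMap.comp_apply, hρv, hc]

end Groth.Agent.Lib.Comod_helper9

namespace Groth.Agent.Lib.Comod_helper9

section Push

variable {k : Type u} [CommRing k]
    {C : Type v} [AddCommGroup C] [Module k C] [Coalgebra k C]
    {D : Type w'} [AddCommGroup D] [Module k D] [Coalgebra k D]
    {V : Type w} [AddCommGroup V] [Module k V]

/-- Push a `C`-comodule structure forward along a coalgebra map `i : C → D`. -/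
@[reducible] def comodPush (i : C →ₗc[k] D) (c : HopfRep.Comod k C V) : HopfRep.Comod k D V where
  coact := (i : C →ₗ[k] D).lTensor V ∘ₗ c.coact
  coassoc := by
    apply LinearMap.ext; intro v
    have hc := LinearMap.congr_fun c.coassoc v
    simp only [LinearMap.coe_comp, Function.comp_apply, LinearEquiv.coe_coe] at hc ⊢
    rw [LinearMap.rTensor_comp, LinearMap.comp_apply, ← ComodTens.lTensor_rTensor_comm,
      ComodTens.assoc_rTensor_lTensor_lTensor, hc,
      ← LinearMap.comp_apply ((TensorProduct.map _ _).lTensor V), ← LinearMap.lTensor_comp,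
      CoalgHomClass.map_comp_comul i, LinearMap.lTensor_comp, LinearMap.comp_apply]
  counit_comp := by
    apply LinearMap.ext; intro v
    have hc := LinearMap.congr_fun c.counit_comp v
    simp only [LinearMap.coe_comp, Function.comp_apply] at hc ⊢
    rw [← LinearMap.comp_apply (LinearMap.lTensor V _), ← LinearMap.lTensor_comp,
      CoalgHomClass.counit_comp i, hc]

theorem comodPush_coact (i : C →ₗc[k] D) (c : HopfRep.Comod k C V) (v : V) :
    (comodPush i c).coact v = (i : C →ₗ[k] D).lTensor V (c.coact v) := rfl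

/-- A `C`-subcomodule is a `D`-subcomodule for the pushed-forward structure. -/
theorem isSubcomod_push (i : C →ₗc[k] D) (c : HopfRep.Comod k C V) (W : Submodule k V)
    (hW : @HopfRep.IsSubcomod k C _ _ _ _ V _ _ c W) :
    @HopfRep.IsSubcomod k D _ _ _ _ V _ _ (comodPush i c) W := by
  intro w hw
  obtain ⟨y, hy⟩ := hW w hw
  refine ⟨(i : C →ₗ[k] D).lTensor W y, ?_⟩
  rw [comodPush_coact, ← hy, ComodTens.lTensor_rTensor_comm]

end Push

/-- A `D`-subcomodule of a `C`-comodule (whose `D`-structure is induced through an injective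
coalgebra map) is a `C`-subcomodule. -/
theorem isSubcomod_of_lTensor_injective {k : Type u} [Field k]
    {C : Type v} [AddCommGroup C] [Module k C] [Coalgebra k C]
    {D : Type w'} [AddCommGroup D] [Module k D] [Coalgebra k D]
    (i : C →ₗc[k] D) (hi : Function.Injective i)
    {V : Type w} [AddCommGroup V] [Module k V] (c : HopfRep.Comod k C V) (d : HopfRep.Comod k D V)
    (hcd : (i : C →ₗ[k] D).lTensor V ∘ₗ c.coact = d.coact)
    (W : Submodule k V) (hW : @HopfRep.IsSubcomod k D _ _ _ _ V _ _ d W) :
    @HopfRep.IsSubcomod k C _ _ _ _ V _ _ c W := by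
  intro w hw
  rw [mem_range_subtype_rTensor_iff]
  have hinj : Function.Injective ((i : C →ₗ[k] D).lTensor (V ⧸ W)) :=
    Module.Flat.lTensor_preserves_injective_linearMap (i : C →ₗ[k] D) hi
  apply hinj
  rw [map_zero, ComodTens.lTensor_rTensor_comm]
  have h1 := LinearMap.congr_fun hcd w
  simp only [LinearMap.comp_apply] at h1
  rw [h1]
  exact (mem_range_subtype_rTensor_iff D W _).mp (hW w hw)

section Hom

variable {k : Type u} [CommRing k] {C : Type v} [AddCommGroup C] [Module k C] [Coalgebra k C]

theorem isComodHom_comp {U : Type*} {V : Type*} {W : Type*}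
    [AddCommGroup U] [Module k U] [HopfRep.Comod k C U]
    [AddCommGroup V] [Module k V] [HopfRep.Comod k C V]
    [AddCommGroup W] [Module k W] [HopfRep.Comod k C W]
    (g : V →ₗ[k] W) (f : U →ₗ[k] V) (hg : Hoch.IsComodHom C g) (hf : Hoch.IsComodHom C f) :
    Hoch.IsComodHom C (g ∘ₗ f) := by
  unfold Hoch.IsComodHom at *
  rw [← LinearMap.comp_assoc, hg, LinearMap.comp_assoc, hf, ← LinearMap.comp_assoc,
    LinearMap.rTensor_comp]

theorem isComodHom_apply {V : Type*} {W : Type*}
    [AddCommGroup V] [Module k V] [HopfRep.Comod k C V]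
    [AddCommGroup W] [Module k W] [HopfRep.Comod k C W]
    {f : V →ₗ[k] W} (hf : Hoch.IsComodHom C f) (v : V) :
    HopfRep.Comod.coact (k := k) (A := C) (f v) = f.rTensor C (HopfRep.Comod.coact (k := k) (A := C) v) :=
  LinearMap.congr_fun hf v

/-- Schur's lemma for simple comodules over a flat coalgebra. -/
theorem schur [Module.Flat k C] {V : Type w} {W : Type w'}
    [AddCommGroup V] [Module k V] [HopfRep.Comod k C V] (hV : HopfRep.IsSimpleComod k C V)
    [AddCommGroup W] [Module k W] [HopfRep.Comod k C W] (hW : HopfRep.IsSimpleComod k C W)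
    (f : V →ₗ[k] W) (hf : Hoch.IsComodHom C f) :
    f = 0 ∨ Function.Bijective f := by
  rcases hV.2 _ (isSubcomod_ker f hf) with h | h
  · rcases hW.2 _ (isSubcomod_range f hf) with h' | h'
    · left; exact LinearMap.range_eq_bot.mp h'
    · right; exact ⟨LinearMap.ker_eq_bot.mp h, LinearMap.range_eq_top.mp h'⟩
  · left; exact LinearMap.ker_eq_top.mp h

/-- A nonzero comodule map out of a simple comodule is injective. -/
theorem injective_of_simple [Module.Flat k C] {V : Type w} {W : Type w'}
    [AddCommGroup V] [Module k V] [HopfRep.Comod k C V] (hV : HopfRep.IsSimpleComod k C V)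
    [AddCommGroup W] [Module k W] [HopfRep.Comod k C W]
    (f : V →ₗ[k] W) (hf : Hoch.IsComodHom C f) (h0 : f ≠ 0) : Function.Injective f := by
  rcases hV.2 _ (isSubcomod_ker f hf) with h | h
  · exact LinearMap.ker_eq_bot.mp h
  · exact absurd (LinearMap.ker_eq_top.mp h) h0

end Hom

end Groth.Agent.Lib.Comod_helper9
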