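import Mathlib
import Groth.Prelude

set_option autoImplicit false
set_option linter.style.haveILetI false
set_option linter.unusedVariables false

universe u

open CategoryTheory CategoryTheory.Limits AlgebraicGeometry TopologicalSpace Opposite Topology

namespace Groth.Agent.Lib.CompDecompH4

/-- Algebraic spreading-out of a `K`-point: `B` finitely presented over `A`, `χ : B → K` an
`A`-algebra map to a field all of whose elements are fractions of elements of `A`.  Then `χ`
factors through `B → A_g / J → K` for some `g` and a finitely generated ideal `J`. -/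
theorem exists_section_alg {A B K : Type u} [CommRing A] [CommRing B] [Field K] [Algebra A B]
    [Algebra A K] [Algebra.FinitePresentation A B] (χ : B →ₐ[A] K)
    (hK : ∀ k : K, ∃ a s : A, algebraMap A K s ≠ 0 ∧ k * algebraMap A K s = algebraMap A K a) :
    ∃ (g : A) (J : Ideal (Localization.Away g)), J.FG ∧
      Nonempty (B →ₐ[A] (Localization.Away g ⧸ J)) ∧
      Nonempty ((Localization.Away g ⧸ J) →ₐ[A] K) := by
  classical
  obtain ⟨n, φ, hφ, hker⟩ := Algebra.FinitePresentation.out (R := A) (A := B)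
  choose a s hs ha using fun i : Fin n => hK (χ (φ (MvPolynomial.X i)))
  obtain ⟨g, hg⟩ : ∃ g : A, g = ∏ i, s i := ⟨_, rfl⟩
  have hgK : algebraMap A K g ≠ 0 := by
    rw [hg, map_prod]
    exact Finset.prod_ne_zero_iff.mpr (fun i _ => hs i)
  have hunit : ∀ i, IsUnit (algebraMap A (Localization.Away g) (s i)) := by
    intro i
    have hgs : g = s i * ∏ x ∈ Finset.univ.erase i, s x := by
      rw [hg, Finset.mul_prod_erase Finset.univ s (Finset.mem_univ i)]
    have h1 : IsUnit (algebraMap A (Localization.Away g)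
        (s i * ∏ x ∈ Finset.univ.erase i, s x)) := by
      rw [← hgs]
      exact IsLocalization.Away.algebraMap_isUnit g
    rw [map_mul] at h1
    exact isUnit_of_mul_isUnit_left h1
  obtain ⟨ψ, hψ⟩ : ∃ ψ : Localization.Away g →+* K,
      ∀ r : A, ψ (algebraMap A (Localization.Away g) r) = algebraMap A K r :=
    ⟨IsLocalization.Away.lift g (g := algebraMap A K) (isUnit_iff_ne_zero.mpr hgK),
      fun r => IsLocalization.Away.lift_eq g _ r⟩
  obtain ⟨τ, hτ⟩ : ∃ τ : Fin n → Localization.Away g,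
      ∀ i, τ i * algebraMap A (Localization.Away g) (s i) =
        algebraMap A (Localization.Away g) (a i) :=
    ⟨fun i => algebraMap A _ (a i) * ↑(hunit i).unit⁻¹, fun i => by
      rw [mul_assoc, IsUnit.val_inv_mul, mul_one]⟩
  have hψτ : ∀ i, ψ (τ i) = χ (φ (MvPolynomial.X i)) := by
    intro i
    have h1 := congrArg ψ (hτ i)
    rw [map_mul, hψ, hψ] at h1
    exact mul_right_cancel₀ (hs i) (h1.trans (ha i).symm)
  have hcomp : ∀ p : MvPolynomial (Fin n) A, ψ (MvPolynomial.aeval τ p) = χ (φ p) := by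
    have h2 : ψ.comp (MvPolynomial.aeval (R := A) τ).toRingHom =
        χ.toRingHom.comp φ.toRingHom := by
      refine MvPolynomial.ringHom_ext (fun r => ?_) (fun i => ?_)
      · show ψ (MvPolynomial.aeval τ (MvPolynomial.C r)) = χ (φ (MvPolynomial.C r))
        rw [MvPolynomial.aeval_C, hψ, ← MvPolynomial.algebraMap_eq, φ.commutes, χ.commutes]
      · show ψ (MvPolynomial.aeval τ (MvPolynomial.X i)) = χ (φ (MvPolynomial.X i))
        rw [MvPolynomial.aeval_X, hψτ]
    exact fun p => RingHom.congr_fun h2 p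
  refine ⟨g, Ideal.map (MvPolynomial.aeval (R := A) τ).toRingHom (RingHom.ker φ.toRingHom),
    hker.map _, ⟨?_⟩, ⟨?_⟩⟩
  · refine AlgHom.liftOfSurjective φ hφ ((Ideal.Quotient.mkₐ A _).comp (MvPolynomial.aeval τ)) ?_
    intro p hp
    rw [RingHom.mem_ker]
    exact Ideal.Quotient.eq_zero_iff_mem.mpr (Ideal.mem_map_of_mem _ hp)
  · refine Ideal.Quotient.liftₐ _ (AlgHom.mk ψ hψ) (fun x hx => ?_)
    have hJ : Ideal.map (MvPolynomial.aeval (R := A) τ).toRingHom (RingHom.ker φ.toRingHom) ≤
        RingHom.ker ψ := by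
      refine Ideal.map_le_iff_le_comap.mpr (fun p hp => ?_)
      rw [Ideal.mem_comap, RingHom.mem_ker]
      show ψ (MvPolynomial.aeval τ p) = 0
      rw [hcomp p, (RingHom.mem_ker.mp hp : φ p = 0), map_zero]
    exact RingHom.mem_ker.mp (hJ hx)

/-- Elements of the residue field at a point of an affine open are fractions of sections. -/
theorem exists_frac (Y : Scheme.{u}) (V : Y.Opens) (hV : IsAffineOpen V) (p : V)
    (k : Y.residueField p.1) :
    ∃ a s : Γ(Y, V), (Y.evaluation V p.1 p.2).hom s ≠ 0 ∧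
      k * (Y.evaluation V p.1 p.2).hom s = (Y.evaluation V p.1 p.2).hom a := by
  obtain ⟨t, rfl⟩ := Y.residue_surjective p.1 k
  haveI := hV.isLocalization_stalk p
  obtain ⟨a, s, hs⟩ := IsLocalization.exists_mk'_eq
    ((hV.primeIdealOf p).asIdeal.primeCompl) t
  refine ⟨a, s.1, ?_, ?_⟩
  · have hu : IsUnit (algebraMap Γ(Y, V) (Y.presheaf.stalk p.1) s.1) :=
      IsLocalization.map_units _ s
    have h2 : IsUnit ((Y.residue p.1).hom (algebraMap Γ(Y, V) (Y.presheaf.stalk p.1) s.1)) :=
      hu.map _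
    exact h2.ne_zero
  · have h1 := IsLocalization.mk'_spec (Y.presheaf.stalk p.1) a s
    rw [hs] at h1
    have h2 := congrArg (Y.residue p.1).hom h1
    rw [map_mul] at h2
    exact h2

/-- Local construction: through the image of a point with trivial residue field extension there
is a finitely presented immersion from an affine scheme over which `f` has a section, and whose
image is open in the constructible topology. -/
theorem exists_local {X Y : Scheme.{u}} (f : X ⟶ Y) [LocallyOfFinitePresentation f] (x : X)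
    (hx : Function.Bijective (f.residueFieldMap x)) :
    ∃ (Z : Scheme.{u}) (z : Z ⟶ Y), f x ∈ Set.range z ∧ IsAffine Z ∧ IsImmersion z ∧
      LocallyOfFinitePresentation z ∧ IsOpen[constructibleTopology Y] (Set.range z) ∧
      ∃ s : Z ⟶ pullback f z, s ≫ pullback.snd f z = 𝟙 Z := by
  obtain ⟨V, hV, hyV⟩ : ∃ V : Y.Opens, IsAffineOpen V ∧ f x ∈ V := by
    obtain ⟨_, ⟨V, hV, rfl⟩, hyV, -⟩ :=
      Y.isBasis_affineOpens.exists_subset_of_mem_open (Set.mem_univ (f x)) isOpen_univ
    exact ⟨V, hV, hyV⟩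
  obtain ⟨U, hU, hxU, hUV⟩ : ∃ U : X.Opens, IsAffineOpen U ∧ x ∈ U ∧ U ≤ f ⁻¹ᵁ V := by
    obtain ⟨_, ⟨U, hU, rfl⟩, hxU, hUV⟩ :=
      X.isBasis_affineOpens.exists_subset_of_mem_open
        (show x ∈ ((f ⁻¹ᵁ V : X.Opens) : Set X) from hyV) (f ⁻¹ᵁ V).isOpen
    exact ⟨U, hU, hxU, hUV⟩
  letI instAB : Algebra Γ(Y, V) Γ(X, U) := (f.appLE V U hUV).hom.toAlgebra
  letI instAK : Algebra Γ(Y, V) (Y.residueField (f x)) :=
    (Y.evaluation V (f x) hyV).hom.toAlgebra
  haveI hfp : Algebra.FinitePresentation Γ(Y, V) Γ(X, U) :=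
    f.finitePresentation_appLE hV hU hUV
  -- the `K`-point
  obtain ⟨χ⟩ : Nonempty (Γ(X, U) →ₐ[Γ(Y, V)] (Y.residueField (f x))) := by
    refine ⟨AlgHom.mk ((RingEquiv.ofBijective (f.residueFieldMap x).hom hx).symm.toRingHom.comp
      (X.evaluation U x hxU).hom) (fun a => ?_)⟩
    show (RingEquiv.ofBijective (f.residueFieldMap x).hom hx).symm
      ((X.evaluation U x hxU).hom ((f.appLE V U hUV).hom a)) = (Y.evaluation V (f x) hyV).hom a
    rw [RingEquiv.symm_apply_eq]
    show _ = (f.residueFieldMap x).hom ((Y.evaluation V (f x) hyV).hom a)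
    rw [Scheme.evaluation_naturality_apply]
    show (X.residue x).hom ((X.presheaf.germ U x hxU).hom
      ((X.presheaf.map (homOfLE hUV).op).hom ((f.app V).hom a))) =
      (X.residue x).hom ((X.presheaf.germ (f ⁻¹ᵁ V) x hyV).hom ((f.app V).hom a))
    rw [TopCat.Presheaf.germ_res_apply]
  have hK : ∀ k : Y.residueField (f x), ∃ a s : Γ(Y, V),
      algebraMap Γ(Y, V) (Y.residueField (f x)) s ≠ 0 ∧
      k * algebraMap Γ(Y, V) (Y.residueField (f x)) s =
        algebraMap Γ(Y, V) (Y.residueField (f x)) a :=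
    fun k => exists_frac Y V hV ⟨f x, hyV⟩ k
  obtain ⟨g, J, hJ, ⟨σ⟩, ⟨ρ⟩⟩ := exists_section_alg χ hK
  -- the schemes and morphisms
  obtain ⟨c, hc⟩ : ∃ c : Spec (CommRingCat.of (Localization.Away g ⧸ J)) ⟶
      Spec (CommRingCat.of (Localization.Away g)),
      c = Spec.map (CommRingCat.ofHom (Ideal.Quotient.mk J)) := ⟨_, rfl⟩
  obtain ⟨j, hj⟩ : ∃ j : Spec (CommRingCat.of (Localization.Away g)) ⟶ Y,
      j = Spec.map (CommRingCat.ofHom (algebraMap Γ(Y, V) (Localization.Away g))) ≫
        hV.fromSpec := ⟨_, rfl⟩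
  haveI hcci : IsClosedImmersion c := by
    rw [hc]
    exact IsClosedImmersion.spec_of_surjective _ Ideal.Quotient.mk_surjective
  haveI hcfp : LocallyOfFinitePresentation c := by
    rw [hc]
    refine (HasRingHomProperty.Spec_iff (P := @LocallyOfFinitePresentation)).mpr ?_
    refine RingHom.FinitePresentation.of_surjective _ Ideal.Quotient.mk_surjective ?_
    show (RingHom.ker (Ideal.Quotient.mk J)).FG
    rw [Ideal.mk_ker]
    exact hJ
  haveI hjoi : IsOpenImmersion j := by
    rw [hj]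
    haveI : IsOpenImmersion (Spec.map (CommRingCat.ofHom
        (algebraMap Γ(Y, V) (Localization.Away g)))) := IsOpenImmersion.of_isLocalization g
    infer_instance
  -- the range of `c`
  have hrc : Set.range c = PrimeSpectrum.zeroLocus (J : Set (Localization.Away g)) := by
    have h1 := range_comap_of_surjective (Localization.Away g ⧸ J) (Ideal.Quotient.mk J)
      Ideal.Quotient.mk_surjective
    rw [Ideal.mk_ker] at h1
    rw [hc]
    exact h1
  have hQ : IsCompact ((PrimeSpectrum.zeroLocus (J : Set (Localization.Away g)))ᶜ) ∧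
      IsOpen ((PrimeSpectrum.zeroLocus (J : Set (Localization.Away g)))ᶜ) :=
    PrimeSpectrum.isCompact_isOpen_iff_ideal.mpr ⟨J, hJ, rfl⟩
  have hrange : Set.range (c ≫ j) = Set.range j ∩
      (j '' ((PrimeSpectrum.zeroLocus (J : Set (Localization.Away g)))ᶜ))ᶜ := by
    ext y
    constructor
    · rintro ⟨w, rfl⟩
      refine ⟨⟨c w, rfl⟩, ?_⟩
      rintro ⟨w', hw', hw'eq⟩
      have h2 : w' = c w := j.isOpenEmbedding.injective hw'eq
      rw [h2] at hw'
      apply hw'
      have h3 : c w ∈ Set.range c := ⟨w, rfl⟩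
      rw [hrc] at h3
      exact h3
    · rintro ⟨⟨w, rfl⟩, hw⟩
      have hwJ : w ∈ PrimeSpectrum.zeroLocus (J : Set (Localization.Away g)) := by
        by_contra h
        exact hw ⟨w, h, rfl⟩
      rw [← hrc] at hwJ
      obtain ⟨w₀, rfl⟩ := hwJ
      exact ⟨w₀, rfl⟩
  have hcons : IsOpen[constructibleTopology Y] (Set.range (c ≫ j)) := by
    rw [hrange]
    refine @IsOpen.inter Y (constructibleTopology Y) _ _ ?_ ?_
    · exact (isCompact_range j.continuous).isOpen_constructibleTopology_of_isOpen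
        j.isOpenEmbedding.isOpen_range
    · refine IsCompact.isOpen_constructibleTopology_of_isClosed ?_ ?_
      · rw [compl_compl]
        exact hQ.1.image j.continuous
      · exact (j.isOpenEmbedding.isOpenMap _ hQ.2).isClosed_compl
  -- the section
  obtain ⟨σ', hσ'⟩ : ∃ σ' : Spec (CommRingCat.of (Localization.Away g ⧸ J)) ⟶ X,
      σ' ≫ f = c ≫ j := by
    refine ⟨Spec.map (CommRingCat.ofHom σ.toRingHom) ≫ hU.fromSpec, ?_⟩
    have hσ : f.appLE V U hUV ≫ CommRingCat.ofHom σ.toRingHom =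
        CommRingCat.ofHom (algebraMap Γ(Y, V) (Localization.Away g)) ≫
          CommRingCat.ofHom (Ideal.Quotient.mk J) := by
      ext a
      exact σ.commutes a
    rw [Category.assoc, ← IsAffineOpen.SpecMap_appLE_fromSpec f hV hU hUV, ← Category.assoc,
      ← Spec.map_comp, hσ, Spec.map_comp, Category.assoc, hc, hj]
  -- the point
  have hpt : f x ∈ Set.range (c ≫ j) := by
    obtain ⟨ρc, hρc⟩ : ∃ ρc : CommRingCat.of (Localization.Away g ⧸ J) ⟶ Y.residueField (f x),
        CommRingCat.ofHom (algebraMap Γ(Y, V) (Localization.Away g)) ≫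
          CommRingCat.ofHom (Ideal.Quotient.mk J) ≫ ρc = Y.evaluation V (f x) hyV := by
      refine ⟨CommRingCat.ofHom ρ.toRingHom, ?_⟩
      ext a
      exact ρ.commutes a
    have h1 : Spec.map ρc ≫ c ≫ j = Y.fromSpecResidueField (f x) := by
      rw [hc, hj, ← Category.assoc, ← Category.assoc, ← Spec.map_comp, ← Spec.map_comp, hρc]
      show Spec.map (Y.presheaf.germ V (f x) hyV ≫ Y.residue (f x)) ≫ hV.fromSpec = _
      rw [Spec.map_comp, Category.assoc]
      show Spec.map (Y.residue (f x)) ≫ hV.fromSpecStalk hyV = _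
      rw [IsAffineOpen.fromSpecStalk_eq_fromSpecStalk]
      rfl
    refine ⟨Spec.map ρc default, ?_⟩
    have h2 := congrArg (fun m : Spec (Y.residueField (f x)) ⟶ Y => m default) h1
    simp only [Scheme.fromSpecResidueField_apply] at h2
    exact h2
  refine ⟨_, c ≫ j, hpt, inferInstance, inferInstance, inferInstance, hcons,
    pullback.lift σ' (𝟙 _) (by rw [hσ', Category.id_comp]), pullback.lift_snd _ _ _⟩

theorem main1440 {X Y : Scheme.{u}} (f : X ⟶ Y) [LocallyOfFinitePresentation f] [CompactSpace ↑Y]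
    [QuasiSeparatedSpace ↑Y]
    (hcd : ∀ y : Y, ∃ x : X, f x = y ∧ Function.Bijective (f.residueFieldMap x)) :
    ∃ (n : ℕ) (Z : Fin n → Scheme.{u}) (z : ∀ i, Z i ⟶ Y), (∀ y : Y, ∃ i, y ∈ Set.range ⇑(z i)) ∧
      ∀ i, IsImmersion (z i) ∧ LocallyOfFinitePresentation (z i) ∧ QuasiCompact (z i) ∧
        QuasiSeparated (z i) ∧
        ∃ s : Z i ⟶ pullback f (z i), s ≫ pullback.snd f (z i) = 𝟙 (Z i) := by
  classical
  have hloc : ∀ y : Y, ∃ (Z : Scheme.{u}) (z : Z ⟶ Y), y ∈ Set.range z ∧ IsAffine Z ∧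
      IsImmersion z ∧ LocallyOfFinitePresentation z ∧
      IsOpen[constructibleTopology Y] (Set.range z) ∧
      ∃ s : Z ⟶ pullback f z, s ≫ pullback.snd f z = 𝟙 Z := by
    intro y
    obtain ⟨x, rfl, hx⟩ := hcd y
    exact exists_local f x hx
  choose Z z hy hZaff hzimm hzfp hzopen hzsec using hloc
  obtain ⟨t, ht⟩ := (isCompact_univ (X := WithConstructibleTopology Y)).elim_finite_subcover
    (fun y : Y => WithTopology.ofTopology ⁻¹' (Set.range (z y)))
    (fun y => WithConstructibleTopology.isOpen_iff.mpr (hzopen y))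
    (fun w _ => Set.mem_iUnion.mpr ⟨WithTopology.ofTopology w, hy _⟩)
  refine ⟨t.card, fun k => Z (t.equivFin.symm k).1, fun k => z (t.equivFin.symm k).1,
    fun y => ?_, fun k => ?_⟩
  · obtain ⟨i, hi, hyi⟩ := Set.mem_iUnion₂.mp
      (ht (Set.mem_univ (WithTopology.toTopology (constructibleTopology Y) y)))
    refine ⟨t.equivFin ⟨i, hi⟩, ?_⟩
    show y ∈ Set.range (z (t.equivFin.symm (t.equivFin ⟨i, hi⟩)).1)
    rw [Equiv.symm_apply_apply]
    exact hyi
  · haveI := hZaff (t.equivFin.symm k).1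
    haveI := hzimm (t.equivFin.symm k).1
    exact ⟨hzimm _, hzfp _, inferInstance, inferInstance, hzsec _⟩

end Groth.Agent.Lib.CompDecompH4
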