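import Mathlib
import Groth.Prelude.Def_SixF1
import Groth.Agent.S12541

/-!
# The composition morphism `R⁺H ⟶ R⁺F ⋙ R⁺G` is an isomorphism (helper9)

For `θ : H ≅ F ⋙ G` with `F`, `G` left exact and `F` sending injectives to `G`-acyclic objects,
`EtSix.rPlusDesc₂ θ.hom` is an isomorphism.
-/

open CategoryTheory CategoryTheory.Limits

attribute [local instance] HasDerivedCategory.standard

namespace CompDer

universe v u

variable {A B C : Type u} [Category.{v} A] [Category.{v} B] [Category.{v} C]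
  [Abelian A] [Abelian B] [Abelian C]

/-- `NatTrans.mapHomotopyCategory` of an isomorphism -/
lemma isIso_mapHomotopyCategory {F G : A ⥤ B} [F.Additive] [G.Additive] (θ : F ⟶ G) [IsIso θ]
    {ι : Type*} (c : ComplexShape ι) : IsIso (NatTrans.mapHomotopyCategory θ c) := by
  refine ⟨NatTrans.mapHomotopyCategory (inv θ) c, ?_, ?_⟩
  · rw [← NatTrans.mapHomotopyCategory_comp, IsIso.hom_inv_id, NatTrans.mapHomotopyCategory_id]
  · rw [← NatTrans.mapHomotopyCategory_comp, IsIso.inv_hom_id, NatTrans.mapHomotopyCategory_id]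

instance isIso_plusNatTrans {F G : A ⥤ B} [F.Additive] [G.Additive] (θ : F ⟶ G) [IsIso θ] :
    IsIso (EtSix.plusNatTrans θ) := by
  haveI := isIso_mapHomotopyCategory θ (ComplexShape.up ℤ)
  have h : IsIso (((Functor.whiskeringRight (HomotopyCategory.Plus A) _ _).obj
      (HomotopyCategory.plus B).ι).map (EtSix.plusNatTrans θ)) := by
    dsimp only [EtSix.plusNatTrans]
    rw [Functor.FullyFaithful.map_preimage]
    exact (inferInstance : IsIso (((Functor.whiskeringLeft _ _ _).obj
      (HomotopyCategory.Plus.ι A)).map (NatTrans.mapHomotopyCategory θ (ComplexShape.up ℤ))))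
  exact ((HomotopyCategory.plus B).fullyFaithfulι.whiskeringRight
    (HomotopyCategory.Plus A)).isIso_of_isIso_map _

variable [EnoughInjectives A] [EnoughInjectives B]

theorem isIso_rPlusDesc₂ (F : A ⥤ B) [F.Additive] [PreservesFiniteLimits F] (G : B ⥤ C)
    [G.Additive] [PreservesFiniteLimits G] (H : A ⥤ C) [H.Additive] (θ : H ⟶ F ⋙ G) [IsIso θ]
    (hFG : ∀ I : A, Injective I →
      IsIso (G.rightDerivedFunctorPlusUnit.app
        ((HomotopyCategory.Plus.singleFunctor B 0).obj (F.obj I)))) :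
    IsIso (EtSix.rPlusDesc₂ θ) := by
  let α₀ : (F ⋙ G).mapHomotopyCategoryPlus ⋙ DerivedCategory.Plus.Qh ⟶
      DerivedCategory.Plus.Qh ⋙ (F.rightDerivedFunctorPlus ⋙ G.rightDerivedFunctorPlus) :=
    Functor.whiskerRight (Functor.mapHomotopyCategoryPlusCompIso (Iso.refl (F ⋙ G))).inv
        DerivedCategory.Plus.Qh
      ≫ (Functor.associator _ _ _).hom
      ≫ Functor.whiskerLeft F.mapHomotopyCategoryPlus G.rightDerivedFunctorPlusUnit
      ≫ (Functor.associator _ _ _).inv
      ≫ Functor.whiskerRight F.rightDerivedFunctorPlusUnit G.rightDerivedFunctorPlus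
      ≫ (Functor.associator _ _ _).hom
  haveI h : (F.rightDerivedFunctorPlus ⋙ G.rightDerivedFunctorPlus).IsRightDerivedFunctor α₀
      (HomotopyCategory.Plus.quasiIso A) := Groth.Agent.S12541.result F G hFG
  let τ : H.mapHomotopyCategoryPlus ⋙ DerivedCategory.Plus.Qh ≅
      (F ⋙ G).mapHomotopyCategoryPlus ⋙ DerivedCategory.Plus.Qh :=
    Functor.isoWhiskerRight (asIso (EtSix.plusNatTrans θ)) DerivedCategory.Plus.Qh
  have e : EtSix.rPlusUnit₂ θ = τ.hom ≫ α₀ := by
    dsimp only [EtSix.rPlusUnit₂, τ, α₀]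
    rw [Functor.whiskerRight_comp, Category.assoc]
    rfl
  have e2 : EtSix.rPlusDesc₂ θ =
      (Functor.rightDerivedNatIso H.rightDerivedFunctorPlus
        (F.rightDerivedFunctorPlus ⋙ G.rightDerivedFunctorPlus) H.rightDerivedFunctorPlusUnit α₀
        (HomotopyCategory.Plus.quasiIso A) τ).hom := by
    dsimp only [EtSix.rPlusDesc₂, Functor.rightDerivedNatIso, Functor.rightDerivedNatTrans]
    rw [e]
  rw [e2]
  infer_instance

end CompDer
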