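import Mathlib
import Groth.Prelude.Def_EGA43
import Groth.Agent.Lib.OpenAtComp_helper8
import Groth.Agent.Lib.FieldExt3_helper8
import Groth.Agent.Lib.EquidimIrr2_helper8

/-! Generization of fibre-maximal points at which a morphism is open (EGA IV 14.2.1-type). -/

universe u
open AlgebraicGeometry CategoryTheory TopologicalSpace Limits

namespace OpenGenH8

/-- openness at a point passes to a base change whose first projection is inducing. -/
theorem isOpenAt_snd {X Y Y' : Scheme.{u}} (f : X ⟶ Y) (ι : Y' ⟶ Y)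
    (hfst : Topology.IsInducing (pullback.fst f ι).base)
    (p : ↥(pullback f ι)) (hopen : EGA43.IsOpenAt f.base ((pullback.fst f ι).base p)) :
    EGA43.IsOpenAt (pullback.snd f ι).base p := by
  intro N hN
  rw [hfst.nhds_eq_comap] at hN
  obtain ⟨N', hN', hsub⟩ := hN
  have h1 := hopen N' hN'
  have hcomm : ι.base ((pullback.snd f ι).base p) = f.base ((pullback.fst f ι).base p) := by
    rw [← Scheme.Hom.comp_apply, ← Scheme.Hom.comp_apply, pullback.condition]
  have h2 : ι.base ⁻¹' (f.base '' N') ∈ nhds ((pullback.snd f ι).base p) := by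
    apply ι.continuous.continuousAt
    rw [hcomm]; exact h1
  refine Filter.mem_of_superset h2 ?_
  rintro y' ⟨x', hx'N, hx'⟩
  obtain ⟨q, hq1, hq2⟩ := Scheme.Pullback.exists_preimage_pullback (f := f) (g := ι) x' y' hx'
  refine ⟨q, hsub ?_, hq2⟩
  change (pullback.fst f ι).base q ∈ N'
  rw [hq1]; exact hx'N

variable {X Y : Scheme.{u}} (f : X ⟶ Y)

/-- **Lemma M**. -/
theorem exists_gen [IsLocallyNoetherian Y] [LocallyOfFiniteType f] (ζ : X)
    (hopen : EGA43.IsOpenAt f.base ζ)
    (hmax : ∀ x'' : X, f.base x'' = f.base ζ → x'' ⤳ ζ → x'' = ζ) (z : Y) (hz : z ⤳ f.base ζ) :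
    ∃ ξ' : X, f.base ξ' = z ∧ ξ' ⤳ ζ ∧ FlatMor.fibreDimAt f ξ' = FlatMor.fibreDimAt f ζ := by
  let C : Closeds Y := ⟨closure {z}, isClosed_closure⟩
  obtain ⟨z', hz', hgen⟩ := EquidimIrrH8.exists_generic_subscheme C z rfl
  set ι := (Scheme.IdealSheafData.vanishingIdeal C).subschemeι with hι
  haveI : IrreducibleSpace ↥(Scheme.IdealSheafData.vanishingIdeal C).subscheme :=
    QSecH8.irreducibleSpace_of_forall_specializes z' hgen
  haveI : IsLocallyNoetherian (Scheme.IdealSheafData.vanishingIdeal C).subscheme :=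
    LocallyOfFiniteType.isLocallyNoetherian ι
  have hgp : genericPoint ↥(Scheme.IdealSheafData.vanishingIdeal C).subscheme = z' := by
    have h1 : IsGenericPoint z' (Set.univ : Set ↥(Scheme.IdealSheafData.vanishingIdeal C).subscheme) := by
      apply Set.eq_univ_of_univ_subset
      intro a _
      exact (hgen a).mem_closure
    exact ((genericPoint_spec _).eq h1)
  have hrange := EquidimSubH8.range_vanishingIdeal_subschemeι C
  obtain ⟨y', hy'⟩ : f.base ζ ∈ Set.range ι.base := by rw [hrange]; exact hz.mem_closure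
  obtain ⟨ζ', hζ'1, hζ'2⟩ :=
    Scheme.Pullback.exists_preimage_pullback (f := f) (g := ι) ζ y' hy'.symm
  have hsq : IsPullback (pullback.fst f ι) (pullback.snd f ι) f ι := IsPullback.of_hasPullback f ι
  have hfstemb : Topology.IsEmbedding (pullback.fst f ι).base := (pullback.fst f ι).isEmbedding
  have hcomm : ∀ p : ↥(pullback f ι),
      ι.base ((pullback.snd f ι).base p) = f.base ((pullback.fst f ι).base p) := by
    intro p
    rw [← Scheme.Hom.comp_apply, ← Scheme.Hom.comp_apply, pullback.condition]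
  have hopen' : EGA43.IsOpenAt (pullback.snd f ι).base ζ' :=
    isOpenAt_snd f ι hfstemb.isInducing ζ' (by rw [hζ'1]; exact hopen)
  have hmax' : ∀ p : ↥(pullback f ι), (pullback.snd f ι).base p = (pullback.snd f ι).base ζ' →
      p ⤳ ζ' → p = ζ' := by
    intro p hp hsp
    apply hfstemb.injective
    rw [hζ'1]
    apply hmax
    · rw [← hcomm p, hp, hcomm ζ', hζ'1]
    · have := hsp.map (pullback.fst f ι).continuous
      rwa [hζ'1] at this
  obtain ⟨ξ₁, hξ₁max, hξ₁ζ', hξ₁gen, htr⟩ := OpenAtCompH8.core (pullback.snd f ι) ζ' hopen' hmax'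
  refine ⟨(pullback.fst f ι).base ξ₁, ?_, ?_, ?_⟩
  · rw [← hcomm ξ₁, hξ₁gen, hgp, hz']
  · have := hξ₁ζ'.map (pullback.fst f ι).continuous
    rwa [hζ'1] at this
  · rw [← FieldExtH8.fibreDimAt_baseChange f ι _ _ hsq ξ₁,
      FibGenH8.fibreDimAt_of_isMax (pullback.snd f ι) ξ₁ hξ₁max, htr]
    have h1 := FieldExtH8.fibreDimAt_baseChange f ι _ _ hsq ζ'
    rw [hζ'1] at h1
    rw [← h1, FibCohH8.fibreDimAt_eq (pullback.snd f ι) ζ',
      OpenAtEqH8.fibCoh_eq_zero_of_isMax (pullback.snd f ι) ζ' hmax']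
    simp


/-- fibre dimension at a point is at most the dimension of the fibre. -/
theorem fibreDimAt_le_dim_fiber (x : X) (z : Y) (h : f.base x = z) :
    FlatMor.fibreDimAt f x ≤ topologicalKrullDim ↥(f.fiber z) := by
  subst h
  exact TopDimLocH8.localDim_le_topDim _ _

/-- local dimension in the fibre at a point `p` equals `fibreDimAt` of its image. -/
theorem localDim_fiber_eq (y : Y) (p : f.fiber y) :
    FlatMor.localDim ↥(f.fiber y) p = FlatMor.fibreDimAt f ((f.fiberι y).base p) := by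
  have key : ∀ (t : X) (y' : Y) (hy : f.base t = y') (p' : f.fiber y'),
      (f.fiberι y').base p' = t → FlatMor.localDim ↥(f.fiber y') p' = FlatMor.fibreDimAt f t := by
    rintro t _ rfl p' hp'
    have : p' = f.asFiber t := by
      apply (f.fiberι (f.base t)).isEmbedding.injective
      rw [hp', Scheme.Hom.fiberι_asFiber]
    rw [this]; rfl
  exact key _ y (Groth.Agent.FibRes2H8.fiberι_mem f y p) p rfl

/-- **M1**: the fibre dimension does not drop under generization of a point over which `f` is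
open at every point of the fibre. -/
theorem dim_fiber_le_of_specializes [IsLocallyNoetherian Y] [LocallyOfFiniteType f] (y z : Y)
    (hz : z ⤳ y) (hopen : ∀ x : X, f.base x = y → EGA43.IsOpenAt f.base x) :
    topologicalKrullDim ↥(f.fiber y) ≤ topologicalKrullDim ↥(f.fiber z) := by
  rw [TopDimLocH8.topDim_le_iff_forall_localDim]
  intro p
  rw [localDim_fiber_eq]
  have hx : f.base ((f.fiberι y).base p) = y := Groth.Agent.FibRes2H8.fiberι_mem f y p
  generalize (f.fiberι y).base p = x at hx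
  obtain ⟨ζ, hζf, hζx, hζmax, hζdim⟩ := EquidimIrrH8.exists_fibre_max_dim f x
  have hζy : f.base ζ = y := hζf.trans hx
  have hζmax' : ∀ x'' : X, f.base x'' = f.base ζ → x'' ⤳ ζ → x'' = ζ :=
    fun x'' h1 h2 => hζmax x'' (h1.trans hζf) h2
  have h1 : FlatMor.fibreDimAt f ζ =
      ((Cardinal.toENat (Dual3.resTrdeg f ζ) : ℕ∞) : WithBot ℕ∞) := by
    rw [FibCohH8.fibreDimAt_eq f ζ, OpenAtEqH8.fibCoh_eq_zero_of_isMax f ζ hζmax']; simp
  obtain ⟨ξ', hξ'z, -, hξ'dim⟩ := exists_gen f ζ (hopen ζ hζy) hζmax' z (hζy ▸ hz)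
  calc FlatMor.fibreDimAt f x ≤ _ := hζdim
    _ = FlatMor.fibreDimAt f ζ := h1.symm
    _ = FlatMor.fibreDimAt f ξ' := hξ'dim.symm
    _ ≤ _ := fibreDimAt_le_dim_fiber f ξ' z hξ'z

end OpenGenH8
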