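import Mathlib
import Groth.Prelude.Def_EGA43

/-! Formal properties of "open at a point" / "universally open at a point". -/

universe u
open AlgebraicGeometry CategoryTheory CategoryTheory.Limits TopologicalSpace

namespace UnivOpenAtH8

theorem isOpenAt_comp {α β γ : Type*} [TopologicalSpace α] [TopologicalSpace β]
    [TopologicalSpace γ] {φ : α → β} {ψ : β → γ} {a : α}
    (h1 : EGA43.IsOpenAt φ a) (h2 : EGA43.IsOpenAt ψ (φ a)) : EGA43.IsOpenAt (ψ ∘ φ) a := by
  intro U hU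
  rw [Set.image_comp]
  exact h2 _ (h1 U hU)

theorem isOpenAt_of_isOpenMap {α β : Type*} [TopologicalSpace α] [TopologicalSpace β]
    {φ : α → β} (h : IsOpenMap φ) (a : α) : EGA43.IsOpenAt φ a :=
  fun U hU => h.image_mem_nhds hU

/-- if `ψ ∘ φ` is open at `a` and `φ` is continuous at `a`, then `ψ` is open at `φ a`. -/
theorem isOpenAt_of_comp {α β γ : Type*} [TopologicalSpace α] [TopologicalSpace β]
    [TopologicalSpace γ] {φ : α → β} {ψ : β → γ} {a : α} (hφ : ContinuousAt φ a)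
    (h : EGA43.IsOpenAt (ψ ∘ φ) a) : EGA43.IsOpenAt ψ (φ a) := by
  intro V hV
  have h1 := h (φ ⁻¹' V) (hφ hV)
  refine Filter.mem_of_superset h1 ?_
  rintro _ ⟨w, hw, rfl⟩
  exact ⟨φ w, hw, rfl⟩

variable {X Y : Scheme.{u}}

theorem isOpenAt_comp_hom {P Q T : Scheme.{u}} (a : P ⟶ Q) (b : Q ⟶ T) (p : P)
    (h1 : EGA43.IsOpenAt a.base p) (h2 : EGA43.IsOpenAt b.base (a.base p)) :
    EGA43.IsOpenAt (a ≫ b).base p := by
  have : ((a ≫ b).base : P → T) = b.base ∘ a.base := by
    ext q; rfl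
  rw [this]
  exact isOpenAt_comp h1 h2

theorem isOpenAt_of_isIso {P Q : Scheme.{u}} (a : P ⟶ Q) [IsIso a] (p : P) :
    EGA43.IsOpenAt a.base p :=
  isOpenAt_of_isOpenMap a.isOpenEmbedding.isOpenMap p

/-- If `(fst', snd')` is a pullback of `(f, h)` and `f` is universally open at `x`, then `snd'` is
open at every point over `x`. -/
theorem isOpenAt_of_isPullback {P X Y Y' : Scheme.{u}} {fst' : P ⟶ X} {snd' : P ⟶ Y'}
    {f : X ⟶ Y} {h : Y' ⟶ Y} (sq : IsPullback fst' snd' f h) {x : X}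
    (hf : EGA43.IsUnivOpenAt f x) (p : P) (hp : fst'.base p = x) :
    EGA43.IsOpenAt snd'.base p := by
  have e1 : sq.isoPullback.hom ≫ pullback.fst f h = fst' := sq.isoPullback_hom_fst
  have e2 : sq.isoPullback.hom ≫ pullback.snd f h = snd' := sq.isoPullback_hom_snd
  rw [← e2]
  refine isOpenAt_comp_hom _ _ p (isOpenAt_of_isIso _ p) ?_
  refine hf Y' h _ ?_
  rw [← hp]
  exact congrArg (fun φ => φ.base p) e1

/-- base change of universal openness at a point. -/
theorem isUnivOpenAt_of_isPullback {P X Y Y' : Scheme.{u}} {fst' : P ⟶ X} {snd' : P ⟶ Y'}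
    {f : X ⟶ Y} {h : Y' ⟶ Y} (sq : IsPullback fst' snd' f h) {x : X}
    (hf : EGA43.IsUnivOpenAt f x) (p : P) (hp : fst'.base p = x) :
    EGA43.IsUnivOpenAt snd' p := by
  intro T k q hq
  -- paste
  have sq2 : IsPullback (pullback.fst snd' k ≫ fst') (pullback.snd snd' k) f (k ≫ h) :=
    (IsPullback.of_hasPullback snd' k).paste_horiz sq
  refine isOpenAt_of_isPullback sq2 hf q ?_
  rw [← hp, ← hq]
  rfl

end UnivOpenAtH8
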