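import Mathlib
import Groth.Prelude.Def_EGA43
import Groth.Agent.Lib.OpenGen_helper8
import Groth.Agent.Lib.ConsNhds_helper8
import Groth.Agent.Lib.FibDimCons_helper8
import Groth.Agent.Lib.UnivOpenAt_helper8

/-! EGA IV 14.2.5-type: an open neighbourhood of the fibre with locally constant fibre dimension. -/

universe u
open AlgebraicGeometry CategoryTheory TopologicalSpace Limits

namespace OpenGenH8

variable {X Y : Scheme.{u}} (f : X ⟶ Y)

theorem dim_fiber_restrict (U : X.Opens) (z : Y) :
    topologicalKrullDim ↥((U.ι ≫ f).fiber z) =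
      topologicalKrullDim ↥((U : Set X) ∩ f.base ⁻¹' {z}) := by
  have h1 := ((U.ι ≫ f).fiberHomeo z).isHomeomorph.topologicalKrullDim_eq
  let ψ := U.ι.isEmbedding.homeomorphImage ((U.ι ≫ f).base ⁻¹' {z})
  have h2 := ψ.isHomeomorph.topologicalKrullDim_eq
  have hset : U.ι.base '' ((U.ι ≫ f).base ⁻¹' {z}) = (U : Set X) ∩ f.base ⁻¹' {z} := by
    ext a
    constructor
    · rintro ⟨b, hb, rfl⟩
      exact ⟨b.2, hb⟩
    · rintro ⟨ha1, ha2⟩
      exact ⟨⟨a, ha1⟩, ha2, rfl⟩
  rw [h1, h2]
  exact congrArg (fun S : Set X => topologicalKrullDim ↥S) hset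

theorem main [IsLocallyNoetherian Y] [LocallyOfFiniteType f] [QuasiCompact f]
    (hf : IsOpenMap f.base) (y : Y) :
    ∃ U : X.Opens, f.base ⁻¹' {y} ⊆ (U : Set X) ∧ ∃ V ∈ nhds y, ∀ z ∈ V,
      topologicalKrullDim ↥((U : Set X) ∩ f.base ⁻¹' {z}) =
        topologicalKrullDim ↥((U : Set X) ∩ f.base ⁻¹' {y}) := by
  obtain ⟨N, hN⟩ := FibDimConsH8.dim_fiber_lt_top f y
  generalize hd : topologicalKrullDim ↥(f.fiber y) = d at hN
  induction d with
  | bot =>
    refine ⟨⊥, ?_, Set.univ, Filter.univ_mem, ?_⟩
    · intro x hx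
      exfalso
      exact TopDimLocH8.topDim_ne_bot (f.fiber y) ((f.fiberHomeo y).symm ⟨x, hx⟩) hd
    · intro z _
      rw [TopologicalSpace.Opens.coe_bot, Set.empty_inter, Set.empty_inter]
  | coe d =>
    induction d with
    | top =>
      exfalso
      have : (⊤ : ℕ∞) ≤ (N : ℕ∞) := by exact_mod_cast hN
      exact absurd (top_le_iff.mp this) (ENat.natCast_ne_top N)
    | coe n =>
      haveI : IsLocallyNoetherian X := LocallyOfFiniteType.isLocallyNoetherian f
      let U : X.Opens := ⟨{x | FlatMor.fibreDimAt f x ≤ (n : WithBot ℕ∞)},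
        ChevH8.isOpen_fibreDimAt_le f n⟩
      have hyU : f.base ⁻¹' {y} ⊆ (U : Set X) := by
        intro x hx
        have := fibreDimAt_le_dim_fiber f x y hx
        rw [hd] at this
        exact this
      refine ⟨U, hyU, ?_⟩
      let g : (U : Scheme.{u}) ⟶ Y := U.ι ≫ f
      have hrest : ∀ u : ↥(U : Scheme.{u}),
          FlatMor.fibreDimAt g u = FlatMor.fibreDimAt f (U.ι.base u) :=
        fun u => OpenAtEqH8.fibreDimAt_restrict f U u
      haveI : LocallyOfFinitePresentation g :=
        AlgebraicGeometry.LocallyOfFinitePresentation.iff_locallyOfFiniteType.mpr inferInstance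
      have hgopen : IsOpenMap g.base := by
        have : g.base = f.base ∘ U.ι.base := by
          ext a; rfl
        rw [this]
        exact hf.comp U.ι.isOpenEmbedding.isOpenMap
      -- (i)
      have hi : ∀ z : Y, topologicalKrullDim ↥(g.fiber z) ≤ (n : WithBot ℕ∞) := by
        intro z
        rw [TopDimLocH8.topDim_le_iff_forall_localDim]
        intro p
        rw [localDim_fiber_eq, hrest]
        exact ((g.fiberι z).base p).2
      -- (ii)
      have hii : topologicalKrullDim ↥(g.fiber y) = (n : WithBot ℕ∞) := by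
        apply le_antisymm (hi y)
        have hd' : topologicalKrullDim ↥(f.fiber y) = (n : WithBot ℕ∞) := hd
        rw [← hd', TopDimLocH8.topDim_le_iff_forall_localDim]
        intro p
        rw [localDim_fiber_eq]
        have hx : f.base ((f.fiberι y).base p) = y := Groth.Agent.FibRes2H8.fiberι_mem f y p
        generalize (f.fiberι y).base p = x at hx
        have hxU : x ∈ U := hyU hx
        have h1 := fibreDimAt_le_dim_fiber g ⟨x, hxU⟩ y hx
        rw [hrest] at h1
        exact h1
      have hcons := FibDimConsH8.isLocallyConstructible_dim_eq g (topologicalKrullDim ↥(g.fiber y))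
      refine ⟨{z | topologicalKrullDim ↥(g.fiber z) = topologicalKrullDim ↥(g.fiber y)}, ?_, ?_⟩
      · apply ConsNhdsH8.mem_nhds_of_isLocallyConstructible hcons y
        intro z hz
        apply le_antisymm
        · change topologicalKrullDim ↥(g.fiber z) ≤ topologicalKrullDim ↥(g.fiber y)
          rw [hii]; exact hi z
        · exact dim_fiber_le_of_specializes g y z hz
            (fun x _ => UnivOpenAtH8.isOpenAt_of_isOpenMap hgopen x)
      · intro z hz
        rw [← dim_fiber_restrict f U z, ← dim_fiber_restrict f U y]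
        exact hz

end OpenGenH8
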