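import Mathlib
import Groth.Prelude.Def_EGA43
import Groth.Agent.Lib.OpenGen2_helper8
import Groth.Agent.Lib.FibComp_helper8

/-! The set of dimensions of irreducible components of fibres (EGA IV 14.2.5-type). -/

universe u
open AlgebraicGeometry CategoryTheory TopologicalSpace Limits Topology

namespace CompDimsH8

variable {X Y : Scheme.{u}} (f : X ⟶ Y)

/-- fibre dimension at a point is attained at a generization maximal in the fibre. -/
theorem exists_fibre_max_eq [LocallyOfFiniteType f] (x : X) :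
    ∃ ζ : X, f.base ζ = f.base x ∧ ζ ⤳ x ∧
      (∀ x'' : X, f.base x'' = f.base x → x'' ⤳ ζ → x'' = ζ) ∧
      FlatMor.fibreDimAt f ζ = FlatMor.fibreDimAt f x := by
  obtain ⟨ζ, hζf, hζx, hζmax, hζdim⟩ := EquidimIrrH8.exists_fibre_max_dim f x
  have hζmax' : ∀ x'' : X, f.base x'' = f.base ζ → x'' ⤳ ζ → x'' = ζ :=
    fun x'' h1 h2 => hζmax x'' (h1.trans hζf) h2
  have h1 : FlatMor.fibreDimAt f ζ =
      ((Cardinal.toENat (Dual3.resTrdeg f ζ) : ℕ∞) : WithBot ℕ∞) := by
    rw [FibCohH8.fibreDimAt_eq f ζ, OpenAtEqH8.fibCoh_eq_zero_of_isMax f ζ hζmax']; simp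
  refine ⟨ζ, hζf, hζx, hζmax, le_antisymm (FibGenH8.fibreDimAt_le_of_specializes f hζx) ?_⟩
  rw [h1]; exact hζdim

/-- the set of dimensions of irreducible components of a fibre is the set of local fibre
dimensions. -/
theorem dims_eq [LocallyOfFiniteType f] (z : Y) :
    (fun Z : Set ↥(f.fiber z) => topologicalKrullDim ↥Z) '' irreducibleComponents ↥(f.fiber z) =
      {d | ∃ x : X, f.base x = z ∧ FlatMor.fibreDimAt f x = d} := by
  ext d
  constructor
  · rintro ⟨Z, hZ, rfl⟩
    obtain ⟨z', -, hdim⟩ := FibCompH8.dim_component_fiber f z Z hZ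
    exact ⟨_, Groth.Agent.FibRes2H8.fiberι_mem f z z', hdim.symm⟩
  · rintro ⟨x, hx, rfl⟩
    obtain ⟨ζ, hζf, hζx, hζmax, hζdim⟩ := exists_fibre_max_eq f x
    have hζz : f.base ζ = z := hζf.trans hx
    let p : ↥(f.fiber z) := (f.fiberHomeo z).symm ⟨ζ, hζz⟩
    have hp : (f.fiberι z).base p = ζ := f.fiberι_fiberHomeo_symm z ⟨ζ, hζz⟩
    have hind := (f.fiberι z).isEmbedding.isInducing
    have hpmax : ∀ q : ↥(f.fiber z), q ⤳ p → q = p := by
      intro q hq
      apply (f.fiberι z).isEmbedding.injective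
      rw [hp]
      apply hζmax
      · rw [Groth.Agent.FibRes2H8.fiberι_mem f z q, hx]
      · have := hq.map (f.fiberι z).continuous
        rwa [hp] at this
    have hcomp : closure ({p} : Set ↥(f.fiber z)) ∈ irreducibleComponents ↥(f.fiber z) :=
      (SubCompH8.closure_mem_irreducibleComponents_iff p).mpr hpmax
    obtain ⟨z', hz', hdim⟩ := FibCompH8.dim_component_fiber f z _ hcomp
    have hpz' : z' = p := by
      apply hpmax
      rw [specializes_iff_mem_closure, ← hz']
      exact subset_closure rfl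
    refine ⟨closure {p}, hcomp, ?_⟩
    change topologicalKrullDim ↥(closure ({p} : Set ↥(f.fiber z))) = _
    rw [hdim, hpz', hp, hζdim]

/-- monotonicity of the set of fibre dimensions under generization. -/
theorem dims_subset_of_specializes [IsLocallyNoetherian Y] [LocallyOfFiniteType f] (y z : Y)
    (hz : z ⤳ y) (hopen : ∀ x : X, f.base x = y → EGA43.IsOpenAt f.base x) :
    {d | ∃ x : X, f.base x = y ∧ FlatMor.fibreDimAt f x = d} ⊆
      {d | ∃ x : X, f.base x = z ∧ FlatMor.fibreDimAt f x = d} := by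
  rintro d ⟨x, hx, rfl⟩
  obtain ⟨ζ, hζf, hζx, hζmax, hζdim⟩ := exists_fibre_max_eq f x
  have hζy : f.base ζ = y := hζf.trans hx
  have hζmax' : ∀ x'' : X, f.base x'' = f.base ζ → x'' ⤳ ζ → x'' = ζ :=
    fun x'' h1 h2 => hζmax x'' (h1.trans hζf) h2
  obtain ⟨ξ', hξ'z, -, hξ'dim⟩ :=
    OpenGenH8.exists_gen f ζ (hopen ζ hζy) hζmax' z (hζy ▸ hz)
  exact ⟨ξ', hξ'z, hξ'dim.trans hζdim⟩

/-- uniform bound of fibre dimensions near a point. -/
theorem exists_nhds_bound [LocallyOfFiniteType f] [QuasiCompact f] (y : Y) :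
    ∃ V ∈ nhds y, ∃ N : ℕ, ∀ x : X, f.base x ∈ V → FlatMor.fibreDimAt f x ≤ (N : WithBot ℕ∞) := by
  obtain ⟨_, ⟨V, hV, rfl⟩, hyV, -⟩ :=
    Y.isBasis_affineOpens.exists_subset_of_mem_open (Set.mem_univ y) isOpen_univ
  have hV' : IsAffineOpen V := hV
  have hK : IsCompact (f.base ⁻¹' (V : Set Y)) :=
    QuasiCompact.isCompact_preimage _ V.2 hV'.isCompact
  have hcover : f.base ⁻¹' (V : Set Y) ⊆
      ⋃ n : ℕ, {x : X | FlatMor.fibreDimAt f x ≤ (n : WithBot ℕ∞)} := by
    intro x _
    obtain ⟨D, hD⟩ := EquidimIrrH8.exists_nat_fibreDimAt f x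
    exact Set.mem_iUnion.mpr ⟨D, hD.le⟩
  obtain ⟨t, ht⟩ := hK.elim_finite_subcover _ (fun n => ChevH8.isOpen_fibreDimAt_le f n) hcover
  refine ⟨V, V.2.mem_nhds hyV, t.sup id, ?_⟩
  intro x hx
  have := ht hx
  simp only [Set.mem_iUnion, Set.mem_ofPred_eq, exists_prop] at this
  obtain ⟨n, hn, hle⟩ := this
  refine hle.trans ?_
  have : n ≤ t.sup id := Finset.le_sup (f := id) hn
  exact_mod_cast this


/-- the locus where `n` is a local fibre dimension is locally constructible. -/
theorem isLocallyConstructible_mem_dims [LocallyOfFinitePresentation f] [QuasiCompact f] (n : ℕ) :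
    IsLocallyConstructible
      {z : Y | ∃ x : X, f.base x = z ∧ FlatMor.fibreDimAt f x = (n : WithBot ℕ∞)} := by
  have himg : {z : Y | ∃ x : X, f.base x = z ∧ FlatMor.fibreDimAt f x = (n : WithBot ℕ∞)} =
      f.base '' {x | FlatMor.fibreDimAt f x = (n : WithBot ℕ∞)} := by
    ext z
    constructor
    · rintro ⟨x, hx, h⟩; exact ⟨x, h, hx⟩
    · rintro ⟨x, h, hx⟩; exact ⟨x, hx, h⟩
  rw [himg]
  apply f.isLocallyConstructible_image
  have hle : ∀ m : ℕ, IsLocallyConstructible {x : X | FlatMor.fibreDimAt f x ≤ (m : WithBot ℕ∞)} :=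
    fun m => (RetroH8.isRetrocompact_fibreDimAt_le f m).isLocallyConstructible
      (ChevH8.isOpen_fibreDimAt_le f m)
  cases n with
  | zero =>
    have : {x : X | FlatMor.fibreDimAt f x = ((0 : ℕ) : WithBot ℕ∞)} =
        {x | FlatMor.fibreDimAt f x ≤ ((0 : ℕ) : WithBot ℕ∞)} := by
      ext x
      constructor
      · intro h; exact le_of_eq h
      · intro h
        obtain ⟨D, hD⟩ := EquidimIrrH8.exists_nat_fibreDimAt f x
        change FlatMor.fibreDimAt f x ≤ _ at h
        change FlatMor.fibreDimAt f x = _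
        rw [hD] at h ⊢
        have h' : D ≤ 0 := by exact_mod_cast h
        have : D = 0 := by omega
        rw [this]
    rw [this]; exact hle 0
  | succ m =>
    have : {x : X | FlatMor.fibreDimAt f x = ((m + 1 : ℕ) : WithBot ℕ∞)} =
        {x | FlatMor.fibreDimAt f x ≤ ((m + 1 : ℕ) : WithBot ℕ∞)} ∩
          {x | FlatMor.fibreDimAt f x ≤ (m : WithBot ℕ∞)}ᶜ := by
      ext x
      obtain ⟨D, hD⟩ := EquidimIrrH8.exists_nat_fibreDimAt f x
      simp only [Set.mem_ofPred_eq, Set.mem_inter_iff, Set.mem_compl_iff]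
      rw [hD]
      constructor
      · intro h
        have h' : D = m + 1 := by exact_mod_cast h
        constructor
        · exact_mod_cast h'.le
        · intro hcon
          have : D ≤ m := by exact_mod_cast hcon
          omega
      · rintro ⟨h1, h2⟩
        have h1' : D ≤ m + 1 := by exact_mod_cast h1
        have h2' : ¬ D ≤ m := by
          intro hcon; apply h2; exact_mod_cast hcon
        have : D = m + 1 := by omega
        rw [this]
    rw [this]
    exact (hle (m + 1)).inter (FibDimConsH8.isLocallyConstructible_compl (hle m))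

/-- **EGA IV 14.2.5-type, for the set of fibre dimensions.** -/
theorem main [IsLocallyNoetherian Y] [LocallyOfFiniteType f] [QuasiCompact f]
    (hf : IsOpenMap f.base) (y : Y)
    (h : ∀ η : Y, y ∈ closure {η} → closure {η} ∈ irreducibleComponents (Y : Type u) →
      {d | ∃ x : X, f.base x = y ∧ FlatMor.fibreDimAt f x = d} =
        {d | ∃ x : X, f.base x = η ∧ FlatMor.fibreDimAt f x = d}) :
    ∃ V ∈ nhds y, ∀ z ∈ V, {d | ∃ x : X, f.base x = z ∧ FlatMor.fibreDimAt f x = d} =
      {d | ∃ x : X, f.base x = y ∧ FlatMor.fibreDimAt f x = d} := by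
  haveI : LocallyOfFinitePresentation f :=
    AlgebraicGeometry.LocallyOfFinitePresentation.iff_locallyOfFiniteType.mpr inferInstance
  have hopen : ∀ w : Y, ∀ x : X, f.base x = w → EGA43.IsOpenAt f.base x :=
    fun w x _ => UnivOpenAtH8.isOpenAt_of_isOpenMap hf x
  have hgen : ∀ z : Y, z ⤳ y → {d | ∃ x : X, f.base x = z ∧ FlatMor.fibreDimAt f x = d} =
      {d | ∃ x : X, f.base x = y ∧ FlatMor.fibreDimAt f x = d} := by
    intro z hz
    apply Set.Subset.antisymm
    · obtain ⟨η, hηcomp, hηz⟩ :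
          ∃ η : Y, closure {η} ∈ irreducibleComponents (Y : Type u) ∧ η ⤳ z := by
        obtain ⟨η, hη, -, -⟩ :=
          Groth.Agent.FlatFibDimH8.exists_generic_of_mem_irreducibleComponents Y
            (irreducibleComponent z) (irreducibleComponent_mem_irreducibleComponents z)
        refine ⟨η, hη ▸ irreducibleComponent_mem_irreducibleComponents z, ?_⟩
        rw [specializes_iff_mem_closure, ← hη]; exact mem_irreducibleComponent
      rw [h η (hηz.trans hz).mem_closure hηcomp]
      exact dims_subset_of_specializes f z η hηz (hopen z)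
    · exact dims_subset_of_specializes f y z hz (hopen y)
  obtain ⟨V₀, hV₀, N, hN⟩ := exists_nhds_bound f y
  have hG : ∀ n : ℕ,
      {z : Y | (∃ x : X, f.base x = z ∧ FlatMor.fibreDimAt f x = (n : WithBot ℕ∞)) ↔
        (∃ x : X, f.base x = y ∧ FlatMor.fibreDimAt f x = (n : WithBot ℕ∞))} ∈ nhds y := by
    intro n
    apply ConsNhdsH8.mem_nhds_of_isLocallyConstructible
    · by_cases hn : ∃ x : X, f.base x = y ∧ FlatMor.fibreDimAt f x = (n : WithBot ℕ∞)
      · have : {z : Y | (∃ x : X, f.base x = z ∧ FlatMor.fibreDimAt f x = (n : WithBot ℕ∞)) ↔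
            (∃ x : X, f.base x = y ∧ FlatMor.fibreDimAt f x = (n : WithBot ℕ∞))} =
            {z : Y | ∃ x : X, f.base x = z ∧ FlatMor.fibreDimAt f x = (n : WithBot ℕ∞)} := by
          ext z
          simp only [Set.mem_ofPred_eq]
          exact ⟨fun hh => hh.mpr hn, fun hh => ⟨fun _ => hn, fun _ => hh⟩⟩
        rw [this]; exact isLocallyConstructible_mem_dims f n
      · have : {z : Y | (∃ x : X, f.base x = z ∧ FlatMor.fibreDimAt f x = (n : WithBot ℕ∞)) ↔
            (∃ x : X, f.base x = y ∧ FlatMor.fibreDimAt f x = (n : WithBot ℕ∞))} =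
            {z : Y | ∃ x : X, f.base x = z ∧ FlatMor.fibreDimAt f x = (n : WithBot ℕ∞)}ᶜ := by
          ext z
          simp only [Set.mem_ofPred_eq, Set.mem_compl_iff]
          exact ⟨fun hh hz => hn (hh.mp hz), fun hh => ⟨fun hz => absurd hz hh, fun hy => absurd hy hn⟩⟩
        rw [this]
        exact FibDimConsH8.isLocallyConstructible_compl (isLocallyConstructible_mem_dims f n)
    · intro z hz
      have := hgen z hz
      simp only [Set.mem_ofPred_eq]
      have h1 := Set.ext_iff.mp this (n : WithBot ℕ∞)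
      exact h1
  refine ⟨V₀ ∩ ⋂ n ∈ Finset.range (N + 1),
      {z : Y | (∃ x : X, f.base x = z ∧ FlatMor.fibreDimAt f x = (n : WithBot ℕ∞)) ↔
        (∃ x : X, f.base x = y ∧ FlatMor.fibreDimAt f x = (n : WithBot ℕ∞))},
    Filter.inter_mem hV₀ ((Filter.biInter_finset_mem _).mpr fun n _ => hG n), ?_⟩
  rintro z ⟨hzV₀, hzG⟩
  have hyV₀ : y ∈ V₀ := mem_of_mem_nhds hV₀
  ext d
  constructor
  · rintro ⟨x, hx, rfl⟩
    obtain ⟨D', hD'⟩ := EquidimIrrH8.exists_nat_fibreDimAt f x
    have hle : D' ≤ N := by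
      have := hN x (hx ▸ hzV₀)
      rw [hD'] at this
      exact_mod_cast this
    have := Set.mem_iInter₂.mp hzG D' (Finset.mem_range.mpr (by omega))
    change _ ∈ {d | ∃ x : X, f.base x = y ∧ FlatMor.fibreDimAt f x = d}
    rw [hD']
    exact this.mp ⟨x, hx, hD'⟩
  · rintro ⟨x, hx, rfl⟩
    obtain ⟨D', hD'⟩ := EquidimIrrH8.exists_nat_fibreDimAt f x
    have hle : D' ≤ N := by
      have := hN x (hx ▸ hyV₀)
      rw [hD'] at this
      exact_mod_cast this
    have := Set.mem_iInter₂.mp hzG D' (Finset.mem_range.mpr (by omega))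
    change _ ∈ {d | ∃ x : X, f.base x = z ∧ FlatMor.fibreDimAt f x = d}
    rw [hD']
    exact this.mpr ⟨x, hx, hD'⟩

end CompDimsH8
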