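import Mathlib
import Groth.Agent.Lib.LanExact_helper7

/-!
# Colimits over a small category with pushouts and coequalizers are exact in abelian groups;
`g_!` of abelian sheaves is exact (helper7)
-/

set_option autoImplicit false
universe u
open CategoryTheory CategoryTheory.Limits Opposite

namespace Groth.Agent.Lib.CompExact_helper7

open Groth.Agent.Lib.LanExact_helper7

section Shape

variable (J : Type u) [SmallCategory J]

/-- the functor to the discrete category of connected components -/
abbrev p : J ⥤ Discrete (ConnectedComponents J) := ConnectedComponents.functorToDiscrete _ id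

variable {J}

theorem exists_cospan_of_zigzag [HasPushouts J] {j j' : J} (h : Zigzag j j') :
    ∃ (k : J) (_ : j ⟶ k) (_ : j' ⟶ k), True := by
  induction h with
  | refl => exact ⟨j, 𝟙 j, 𝟙 j, trivial⟩
  | tail _ hz ih =>
    obtain ⟨k, a, b, -⟩ := ih
    rcases hz with ⟨⟨f⟩⟩ | ⟨⟨f⟩⟩
    · exact ⟨pushout b f, a ≫ pushout.inl b f, pushout.inr b f, trivial⟩
    · exact ⟨k, a, f ≫ b, trivial⟩

variable (J)

instance isFiltered_costructuredArrow [HasPushouts J] [HasCoequalizers J]
    (c : Discrete (ConnectedComponents J)) : IsFiltered (CostructuredArrow (p J) c) := by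
  haveI : Nonempty (CostructuredArrow (p J) c) := by
    obtain ⟨j, hj⟩ := Quotient.exists_rep c.as
    exact ⟨CostructuredArrow.mk (Y := j) (Discrete.eqToHom hj)⟩
  haveI : IsFilteredOrEmpty (CostructuredArrow (p J) c) :=
    { cocone_objs := by
        intro Y Y'
        have hY : Quotient.mk (Zigzag.setoid J) Y.left = c.as := Discrete.eq_of_hom Y.hom
        have hY' : Quotient.mk (Zigzag.setoid J) Y'.left = c.as := Discrete.eq_of_hom Y'.hom
        have hz : Zigzag Y.left Y'.left := Quotient.exact (hY.trans hY'.symm)
        obtain ⟨k, a, b, -⟩ := exists_cospan_of_zigzag hz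
        have hk : Quotient.mk (Zigzag.setoid J) k = c.as :=
          (Quotient.sound (Zigzag.of_hom a)).symm.trans hY
        exact ⟨CostructuredArrow.mk (Y := k) (Discrete.eqToHom hk),
          CostructuredArrow.homMk a (Subsingleton.elim _ _),
          CostructuredArrow.homMk b (Subsingleton.elim _ _), trivial⟩
      cocone_maps := by
        intro Y Y' f g
        have hk : Quotient.mk (Zigzag.setoid J) (coequalizer f.left g.left) = c.as :=
          (Quotient.sound (Zigzag.of_hom (coequalizer.π f.left g.left))).symm.trans
            (Discrete.eq_of_hom Y'.hom)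
        refine ⟨CostructuredArrow.mk (Y := coequalizer f.left g.left) (Discrete.eqToHom hk),
          CostructuredArrow.homMk (coequalizer.π f.left g.left) (Subsingleton.elim _ _), ?_⟩
        exact CostructuredArrow.hom_ext _ _ (coequalizer.condition _ _) }
  exact {}

theorem lan_p_exact [HasPushouts J] [HasCoequalizers J] :
    PreservesFiniteLimits ((p J).lan :
      (J ⥤ AddCommGrpCat.{u}) ⥤ (Discrete (ConnectedComponents J) ⥤ AddCommGrpCat.{u})) := by
  constructor
  intro K _ _
  apply preservesLimitsOfShape_of_evaluation _ K
  intro c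
  exact preservesLimitsOfShape_of_natIso (Groth.Agent.Lib.LanExact_helper7.lanEvaluationIsoColim AddCommGrpCat.{u} (p J) c).symm

theorem hasExactColimits [HasPushouts J] [HasCoequalizers J] :
    HasExactColimitsOfShape J AddCommGrpCat.{u} := by
  haveI := lan_p_exact J
  exact ⟨preservesFiniteLimits_of_natIso
    (Functor.lanCompColimIso (p J) (H := AddCommGrpCat.{u}))⟩

end Shape

section Sites

variable {C D : Type u} [SmallCategory C] [SmallCategory D]
  (J : GrothendieckTopology C) (K : GrothendieckTopology D) (F : C ⥤ D)

theorem hasExact_costructuredArrow [HasPullbacks C] [HasEqualizers C]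
    [PreservesLimitsOfShape WalkingCospan F] [PreservesLimitsOfShape WalkingParallelPair F]
    (X : Dᵒᵖ) : HasExactColimitsOfShape (CostructuredArrow F.op X) AddCommGrpCat.{u} := by
  haveI : HasPullbacks (StructuredArrow X.unop F) := inferInstance
  haveI : HasEqualizers (StructuredArrow X.unop F) := inferInstance
  haveI : HasPushouts (StructuredArrow X.unop F)ᵒᵖ := inferInstance
  haveI : HasCoequalizers (StructuredArrow X.unop F)ᵒᵖ := inferInstance
  haveI := hasExactColimits (StructuredArrow X.unop F)ᵒᵖ
  exact HasExactColimitsOfShape.of_domain_equivalence AddCommGrpCat.{u}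
    (structuredArrowOpEquivalence F X.unop)

theorem sheafPullback_exact [F.IsContinuous J K] [HasPullbacks C] [HasEqualizers C]
    [PreservesLimitsOfShape WalkingCospan F] [PreservesLimitsOfShape WalkingParallelPair F] :
    PreservesFiniteLimits (F.sheafPullback AddCommGrpCat.{u} J K) := by
  haveI : ∀ X : Dᵒᵖ, HasExactColimitsOfShape (CostructuredArrow F.op X) AddCommGrpCat.{u} :=
    fun X => hasExact_costructuredArrow F X
  haveI : PreservesFiniteLimits (F.op.lan : (Cᵒᵖ ⥤ AddCommGrpCat.{u}) ⥤ Dᵒᵖ ⥤ AddCommGrpCat.{u}) :=
    lan_preservesFiniteLimits_of_exact AddCommGrpCat.{u} F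
  haveI : PreservesFiniteLimits
      (Functor.sheafPullbackConstruction.sheafPullback F AddCommGrpCat.{u} J K) := by
    have : PreservesFiniteLimits (F.op.lan ⋙ presheafToSheaf K AddCommGrpCat.{u}) :=
      comp_preservesFiniteLimits _ _
    exact comp_preservesFiniteLimits _ _
  exact preservesFiniteLimits_of_natIso
    (Functor.sheafPullbackConstruction.sheafPullbackIso F AddCommGrpCat.{u} J K).symm

end Sites

end Groth.Agent.Lib.CompExact_helper7
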