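import Mathlib

/-!
# Lattice index computations (S14805, S14806)

Index calculus for additive subgroups of `ℤ^n`.
-/

namespace Groth.Agent.Lib.CompLat

open Finset

section abstract
variable {R L Z : Type*} [CommRing R] [AddCommGroup L] [Module R L] [AddCommGroup Z] [Module R Z]

lemma card_quot_eq_relIndex (K N : Submodule R L) :
    Nat.card (↥K ⧸ N.comap K.subtype) = N.toAddSubgroup.relIndex K.toAddSubgroup := by
  have h1 : Nat.card (↥K ⧸ N.comap K.subtype) = (N.comap K.subtype).toAddSubgroup.index := rfl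
  have h2 : (N.comap K.subtype).toAddSubgroup
      = N.toAddSubgroup.comap K.subtype.toAddMonoidHom := rfl
  rw [h1, h2, AddSubgroup.index_comap]
  congr 1
  ext x
  constructor
  · rintro ⟨y, rfl⟩
    exact y.2
  · intro hx
    exact ⟨⟨x, hx⟩, rfl⟩

theorem abstract_index (s : L →ₗ[R] Z) (D A : L →ₗ[R] L) (hD : Function.Injective D)
    (h0 : s ∘ₗ D ∘ₗ A = 0) :
    Nat.card (↥(LinearMap.ker (s ∘ₗ D)) ⧸
        (LinearMap.range A).comap (LinearMap.ker (s ∘ₗ D)).subtype)
      * (LinearMap.range D).toAddSubgroup.index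
    = (LinearMap.ker s ⊔ LinearMap.range D).toAddSubgroup.index
      * Nat.card (↥(LinearMap.ker s) ⧸
        (LinearMap.range (D ∘ₗ A)).comap (LinearMap.ker s).subtype) := by
  rw [card_quot_eq_relIndex, card_quot_eq_relIndex, Submodule.sup_toAddSubgroup]
  have hD' : Function.Injective D.toAddMonoidHom := hD
  have hMK : (LinearMap.range A).toAddSubgroup ≤ (LinearMap.ker (s ∘ₗ D)).toAddSubgroup := by
    intro x hx
    obtain ⟨y, rfl⟩ := LinearMap.mem_range.mp (show x ∈ LinearMap.range A from hx)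
    show A y ∈ LinearMap.ker (s ∘ₗ D)
    rw [LinearMap.mem_ker, LinearMap.comp_apply]
    exact LinearMap.congr_fun h0 y
  have hi : (LinearMap.range (D ∘ₗ A)).toAddSubgroup
      = (LinearMap.range A).toAddSubgroup.map D.toAddMonoidHom := by
    ext x
    constructor
    · intro hx
      obtain ⟨y, rfl⟩ := LinearMap.mem_range.mp (show x ∈ LinearMap.range (D ∘ₗ A) from hx)
      exact AddSubgroup.mem_map.mpr ⟨A y, LinearMap.mem_range.mpr ⟨y, rfl⟩, rfl⟩
    · intro hx
      obtain ⟨z, hz, rfl⟩ := AddSubgroup.mem_map.mp hx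
      obtain ⟨y, rfl⟩ := LinearMap.mem_range.mp (show z ∈ LinearMap.range A from hz)
      exact LinearMap.mem_range.mpr ⟨y, rfl⟩
  have hii : (LinearMap.ker (s ∘ₗ D)).toAddSubgroup.map D.toAddMonoidHom
      = (LinearMap.range D).toAddSubgroup ⊓ (LinearMap.ker s).toAddSubgroup := by
    ext x
    constructor
    · intro hx
      obtain ⟨y, hy, rfl⟩ := AddSubgroup.mem_map.mp hx
      refine AddSubgroup.mem_inf.mpr ⟨LinearMap.mem_range.mpr ⟨y, rfl⟩, ?_⟩
      have hy' : (s ∘ₗ D) y = 0 := LinearMap.mem_ker.mp hy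
      exact LinearMap.mem_ker.mpr hy'
    · intro hx
      obtain ⟨h1, h2⟩ := AddSubgroup.mem_inf.mp hx
      obtain ⟨y, rfl⟩ := LinearMap.mem_range.mp (show x ∈ LinearMap.range D from h1)
      have h2' : s (D y) = 0 := LinearMap.mem_ker.mp h2
      exact AddSubgroup.mem_map.mpr ⟨y, LinearMap.mem_ker.mpr h2', rfl⟩
  have e1 : (LinearMap.range A).toAddSubgroup.relIndex (LinearMap.ker (s ∘ₗ D)).toAddSubgroup
      = (LinearMap.range (D ∘ₗ A)).toAddSubgroup.relIndex
        ((LinearMap.range D).toAddSubgroup ⊓ (LinearMap.ker s).toAddSubgroup) := by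
    rw [hi, ← hii, AddSubgroup.relIndex_map_map_of_injective _ _ hD']
  have hle1 : (LinearMap.range (D ∘ₗ A)).toAddSubgroup
      ≤ (LinearMap.range D).toAddSubgroup ⊓ (LinearMap.ker s).toAddSubgroup := by
    rw [hi, ← hii]
    exact AddSubgroup.map_mono hMK
  have e2 := AddSubgroup.relIndex_mul_relIndex _ _ _ hle1
    (inf_le_right : (LinearMap.range D).toAddSubgroup ⊓ (LinearMap.ker s).toAddSubgroup
      ≤ (LinearMap.ker s).toAddSubgroup)
  have e3 : ((LinearMap.range D).toAddSubgroup ⊓ (LinearMap.ker s).toAddSubgroup).relIndex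
      (LinearMap.ker s).toAddSubgroup
      = (LinearMap.range D).toAddSubgroup.relIndex
        ((LinearMap.ker s).toAddSubgroup ⊔ (LinearMap.range D).toAddSubgroup) := by
    rw [AddSubgroup.inf_relIndex_right, AddSubgroup.relIndex_sup_right]
  have e4 := AddSubgroup.relIndex_mul_index
    (le_sup_right : (LinearMap.range D).toAddSubgroup
      ≤ (LinearMap.ker s).toAddSubgroup ⊔ (LinearMap.range D).toAddSubgroup)
  rw [e1, ← e4, ← e2, e3]
  ring

theorem abstract_index2 (B E : L →ₗ[R] L) (K : Submodule R L) (hBK : LinearMap.range B ≤ K) :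
    Nat.card (↥K ⧸ (LinearMap.range (B ∘ₗ E)).comap K.subtype)
      * (LinearMap.range E).toAddSubgroup.relIndex (LinearMap.ker B).toAddSubgroup
    = (LinearMap.range E).toAddSubgroup.index
      * Nat.card (↥K ⧸ (LinearMap.range B).comap K.subtype) := by
  rw [card_quot_eq_relIndex, card_quot_eq_relIndex]
  have h1 : (LinearMap.range (B ∘ₗ E)).toAddSubgroup
      = (LinearMap.range E).toAddSubgroup.map B.toAddMonoidHom := by
    ext x
    constructor
    · intro hx
      obtain ⟨y, rfl⟩ := LinearMap.mem_range.mp (show x ∈ LinearMap.range (B ∘ₗ E) from hx)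
      exact AddSubgroup.mem_map.mpr ⟨E y, LinearMap.mem_range.mpr ⟨y, rfl⟩, rfl⟩
    · intro hx
      obtain ⟨z, hz, rfl⟩ := AddSubgroup.mem_map.mp hx
      obtain ⟨y, rfl⟩ := LinearMap.mem_range.mp (show z ∈ LinearMap.range E from hz)
      exact LinearMap.mem_range.mpr ⟨y, rfl⟩
  have h2 : (LinearMap.range B).toAddSubgroup = (⊤ : AddSubgroup L).map B.toAddMonoidHom := by
    ext x
    constructor
    · intro hx
      obtain ⟨y, rfl⟩ := LinearMap.mem_range.mp (show x ∈ LinearMap.range B from hx)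
      exact AddSubgroup.mem_map.mpr ⟨y, AddSubgroup.mem_top y, rfl⟩
    · intro hx
      obtain ⟨z, -, rfl⟩ := AddSubgroup.mem_map.mp hx
      exact LinearMap.mem_range.mpr ⟨z, rfl⟩
  have h3 : B.toAddMonoidHom.ker = (LinearMap.ker B).toAddSubgroup := by
    ext x
    exact Iff.rfl
  have e1 : (LinearMap.range (B ∘ₗ E)).toAddSubgroup.relIndex (LinearMap.range B).toAddSubgroup
      = ((LinearMap.range E).toAddSubgroup ⊔ (LinearMap.ker B).toAddSubgroup).index := by
    rw [h1, h2, AddSubgroup.relIndex_map_map, h3, top_sup_eq, AddSubgroup.relIndex_top_right]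
  have hle : (LinearMap.range (B ∘ₗ E)).toAddSubgroup ≤ (LinearMap.range B).toAddSubgroup := by
    rw [h1, h2]
    exact AddSubgroup.map_mono le_top
  have e2 := AddSubgroup.relIndex_mul_relIndex _ _ _ hle
    (show (LinearMap.range B).toAddSubgroup ≤ K.toAddSubgroup from hBK)
  have e3 := AddSubgroup.relIndex_mul_index
    (le_sup_left : (LinearMap.range E).toAddSubgroup
      ≤ (LinearMap.range E).toAddSubgroup ⊔ (LinearMap.ker B).toAddSubgroup)
  have e4 : (LinearMap.range E).toAddSubgroup.relIndex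
      ((LinearMap.range E).toAddSubgroup ⊔ (LinearMap.ker B).toAddSubgroup)
      = (LinearMap.range E).toAddSubgroup.relIndex (LinearMap.ker B).toAddSubgroup :=
    AddSubgroup.relIndex_sup_left _ _
  rw [← e2, e1, ← e3, e4]
  ring

end abstract

section concrete
variable (n : ℕ) (δ : Fin n → ℤ)

/-- the sum map -/
abbrev sL : (Fin n → ℤ) →ₗ[ℤ] ℤ := ∑ i : Fin n, (LinearMap.proj i : (Fin n → ℤ) →ₗ[ℤ] ℤ)

/-- the diagonal map -/
abbrev DLin : (Fin n → ℤ) →ₗ[ℤ] (Fin n → ℤ) := Matrix.mulVecLin (Matrix.diagonal δ)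

lemma sL_apply (x : Fin n → ℤ) : sL n x = ∑ i, x i := by
  simp [sL, LinearMap.sum_apply]

lemma DLin_apply (x : Fin n → ℤ) (i : Fin n) : DLin n δ x i = δ i * x i := by
  simp [DLin, Matrix.mulVec_diagonal]

lemma DLin_injective (hδ : ∀ i, δ i ≠ 0) : Function.Injective (DLin n δ) := by
  intro x y h
  funext i
  have := congrFun h i
  rw [DLin_apply, DLin_apply] at this
  exact mul_left_cancel₀ (hδ i) this

lemma range_D_eq_pi :
    (LinearMap.range (DLin n δ)).toAddSubgroup
      = AddSubgroup.pi Set.univ (fun i => AddSubgroup.zmultiples (δ i)) := by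
  ext x
  rw [AddSubgroup.mem_pi]
  constructor
  · intro hx i _
    obtain ⟨y, rfl⟩ := LinearMap.mem_range.mp (show x ∈ LinearMap.range (DLin n δ) from hx)
    rw [DLin_apply, Int.mem_zmultiples_iff]
    exact dvd_mul_right _ _
  · intro hx
    have : ∀ i, ∃ m : ℤ, δ i * m = x i := fun i => by
      have := hx i (Set.mem_univ i)
      rw [Int.mem_zmultiples_iff] at this
      obtain ⟨m, hm⟩ := this
      exact ⟨m, hm.symm⟩
    choose m hm using this
    exact LinearMap.mem_range.mpr ⟨m, funext fun i => by rw [DLin_apply, hm]⟩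

lemma index_range_D :
    (LinearMap.range (DLin n δ)).toAddSubgroup.index = (∏ i, δ i).natAbs := by
  rw [range_D_eq_pi, AddSubgroup.index_pi]
  simp only [Int.index_zmultiples]
  exact (map_prod Int.natAbsHom δ Finset.univ).symm

lemma index_sup (hn : 0 < n) :
    (LinearMap.ker (sL n) ⊔ LinearMap.range (DLin n δ)).toAddSubgroup.index
      = (Finset.univ.gcd δ).natAbs := by
  have h : (LinearMap.ker (sL n) ⊔ LinearMap.range (DLin n δ)).toAddSubgroup
      = (AddSubgroup.zmultiples (Finset.univ.gcd δ)).comap (sL n).toAddMonoidHom := by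
    ext x
    rw [Submodule.mem_toAddSubgroup, AddSubgroup.mem_comap, Int.mem_zmultiples_iff,
      LinearMap.toAddMonoidHom_coe, sL_apply]
    constructor
    · intro hx
      obtain ⟨y, hy, z, hz, rfl⟩ := Submodule.mem_sup.mp hx
      obtain ⟨w, rfl⟩ := LinearMap.mem_range.mp hz
      have hy' : ∑ i, y i = 0 := by
        rw [← sL_apply]
        exact LinearMap.mem_ker.mp hy
      simp only [Pi.add_apply, Finset.sum_add_distrib, hy', zero_add, DLin_apply]
      exact Finset.dvd_sum (fun i _ => Dvd.dvd.mul_right (Finset.gcd_dvd (Finset.mem_univ i)) _)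
    · rintro ⟨m, hm⟩
      obtain ⟨c, hc⟩ := Finset.gcd_eq_sum_mul Finset.univ δ
      refine Submodule.mem_sup.mpr
        ⟨x - DLin n δ (m • c), ?_, DLin n δ (m • c), LinearMap.mem_range.mpr ⟨_, rfl⟩, by abel⟩
      rw [LinearMap.mem_ker, map_sub, sL_apply, sL_apply, hm]
      simp only [DLin_apply, Pi.smul_apply, smul_eq_mul]
      rw [hc, Finset.sum_mul, sub_eq_zero]
      exact Finset.sum_congr rfl (fun i _ => by ring)
  rw [h, AddSubgroup.index_comap_of_surjective, Int.index_zmultiples]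
  intro m
  refine ⟨Pi.single ⟨0, hn⟩ m, ?_⟩
  rw [LinearMap.toAddMonoidHom_coe, sL_apply]
  simp [Finset.sum_pi_single']

theorem main1 (hn : 0 < n) (hδ : ∀ i, δ i ≠ 0)
    (A : Matrix (Fin n) (Fin n) ℤ)
    (hSDA : (sL n) ∘ₗ (DLin n δ) ∘ₗ (Matrix.mulVecLin A) = 0) :
    (Nat.card (↥(LinearMap.ker ((sL n) ∘ₗ (DLin n δ))) ⧸
          (LinearMap.range (Matrix.mulVecLin A)).comap
            (LinearMap.ker ((sL n) ∘ₗ (DLin n δ))).subtype) : ℤ) * |∏ i, δ i| =
      (Finset.univ.gcd δ) * Nat.card (↥(LinearMap.ker (sL n)) ⧸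
        (LinearMap.range ((DLin n δ) ∘ₗ (Matrix.mulVecLin A))).comap
          (LinearMap.ker (sL n)).subtype) := by
  have key := abstract_index (sL n) (DLin n δ) (Matrix.mulVecLin A) (DLin_injective n δ hδ) hSDA
  rw [index_range_D, index_sup n δ hn] at key
  have hg : ((Finset.univ.gcd δ).natAbs : ℤ) = Finset.univ.gcd δ :=
    Int.natAbs_of_nonneg (Int.nonneg_of_normalize_eq_self Finset.normalize_gcd)
  rw [← hg, ← Int.natCast_natAbs (∏ i, δ i)]
  exact_mod_cast key

lemma finrank_ker (hn : 0 < n) (A : Matrix (Fin n) (Fin n) ℤ) (hA : A.rank = n - 1) :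
    Module.finrank ℤ (LinearMap.ker A.mulVecLin) = 1 := by
  have h1 : Module.finrank ℤ (LinearMap.range A.mulVecLin)
      + Module.finrank ℤ (LinearMap.ker A.mulVecLin) = Module.finrank ℤ (Fin n → ℤ) := by
    rw [← A.mulVecLin.quotKerEquivRange.finrank_eq]
    exact Submodule.finrank_quotient_add_finrank _
  have h2 : Module.finrank ℤ (LinearMap.range A.mulVecLin) = n - 1 := hA
  rw [h2, Module.finrank_fin_fun] at h1
  omega

lemma ker_eq_zmultiples (hn : 0 < n) (A : Matrix (Fin n) (Fin n) ℤ) (hA : A.rank = n - 1)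
    (δ' v : Fin n → ℤ) (g : ℤ) (hg : g ≠ 0) (hv : ∀ i, δ' i = g * v i) (hδ' : ∀ i, δ' i ≠ 0)
    (e : Fin n → ℤ) (he : ∑ i, v i * e i = 1)
    (hAδ : A.mulVecLin δ' = 0) :
    (LinearMap.ker A.mulVecLin).toAddSubgroup = AddSubgroup.zmultiples v := by
  have hrk := finrank_ker n hn A hA
  have hδ0 : δ' ≠ 0 := fun h => hδ' ⟨0, hn⟩ (by rw [h]; rfl)
  have hδmem : δ' ∈ LinearMap.ker A.mulVecLin := LinearMap.mem_ker.mpr hAδ
  have hvmem : v ∈ LinearMap.ker A.mulVecLin := by
    rw [LinearMap.mem_ker]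
    have h1 : δ' = g • v := funext fun i => by rw [hv i]; rfl
    rw [h1, map_smul] at hAδ
    exact (smul_eq_zero.mp hAδ).resolve_left hg
  ext x
  rw [Submodule.mem_toAddSubgroup, AddSubgroup.mem_zmultiples_iff]
  constructor
  · intro hx
    have hdep : ¬ LinearIndependent ℤ
        ![(⟨x, hx⟩ : LinearMap.ker A.mulVecLin), ⟨δ', hδmem⟩] := by
      intro hli
      have := hli.fintype_card_le_finrank
      rw [hrk, Fintype.card_fin] at this
      omega
    have hdep' : ∃ s t : ℤ, s • (⟨x, hx⟩ : LinearMap.ker A.mulVecLin) + t • ⟨δ', hδmem⟩ = 0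
        ∧ ¬ (s = 0 ∧ t = 0) := by
      by_contra hcon
      apply hdep
      rw [LinearIndependent.pair_iff]
      intro s t hst
      by_contra hne
      exact hcon ⟨s, t, hst, hne⟩
    obtain ⟨s, t, hst, hne⟩ := hdep'
    have hst' : s • x + t • δ' = 0 := by
      have := congrArg Subtype.val hst
      simpa using this
    have hs : s ≠ 0 := by
      intro hs0
      rw [hs0, zero_smul, zero_add] at hst'
      have ht : t = 0 := (smul_eq_zero.mp hst').resolve_right hδ0
      exact hne ⟨hs0, ht⟩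
    have hcoord : ∀ i, s * x i = -(t * g) * v i := by
      intro i
      have := congrFun hst' i
      simp only [Pi.add_apply, Pi.smul_apply, smul_eq_mul, Pi.zero_apply] at this
      rw [hv i] at this
      linear_combination this
    have hsT : s * (∑ i, x i * e i) = -(t * g) := by
      rw [Finset.mul_sum]
      calc ∑ i, s * (x i * e i) = ∑ i, -(t * g) * (v i * e i) := by
            refine Finset.sum_congr rfl (fun i _ => ?_)
            rw [← mul_assoc, hcoord i, mul_assoc]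
        _ = -(t * g) * ∑ i, v i * e i := by rw [Finset.mul_sum]
        _ = -(t * g) := by rw [he, mul_one]
    refine ⟨∑ i, x i * e i, ?_⟩
    funext i
    have : s * ((∑ j, x j * e j) * v i) = s * x i := by
      rw [← mul_assoc, hsT, hcoord i]
    show (∑ j, x j * e j) • v i = x i
    rw [smul_eq_mul]
    exact mul_left_cancel₀ hs this
  · rintro ⟨m, rfl⟩
    exact (LinearMap.ker A.mulVecLin).toAddSubgroup.zsmul_mem hvmem m

lemma relIndex_range_D_zmultiples (hn : 0 < n) (δ' v : Fin n → ℤ) (g : ℤ)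
    (hv : ∀ i, δ' i = g * v i) (hδ' : ∀ i, δ' i ≠ 0) :
    (LinearMap.range (DLin n δ')).toAddSubgroup.relIndex (AddSubgroup.zmultiples v)
      = g.natAbs := by
  rw [← AddSubgroup.range_zmultiplesHom, AddMonoidHom.range_eq_map, ← AddSubgroup.relIndex_comap,
    AddSubgroup.relIndex_top_right]
  have h : (LinearMap.range (DLin n δ')).toAddSubgroup.comap (zmultiplesHom (Fin n → ℤ) v)
      = AddSubgroup.zmultiples g := by
    ext m
    rw [AddSubgroup.mem_comap, range_D_eq_pi, AddSubgroup.mem_pi, Int.mem_zmultiples_iff]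
    constructor
    · intro h
      have h0 := h ⟨0, hn⟩ (Set.mem_univ _)
      rw [Int.mem_zmultiples_iff, zmultiplesHom_apply, Pi.smul_apply, smul_eq_mul, hv] at h0
      have hv0 : v ⟨0, hn⟩ ≠ 0 := fun h' => hδ' ⟨0, hn⟩ (by rw [hv, h', mul_zero])
      exact (mul_dvd_mul_iff_right hv0).mp h0
    · intro h i _
      rw [Int.mem_zmultiples_iff, zmultiplesHom_apply, Pi.smul_apply, smul_eq_mul, hv]
      exact mul_dvd_mul_right h _
  rw [h, Int.index_zmultiples]

lemma relIndex_ker (hn : 0 < n) (δ' : Fin n → ℤ) (hδ : ∀ i, δ i ≠ 0) (hδ' : ∀ i, δ' i ≠ 0)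
    (A : Matrix (Fin n) (Fin n) ℤ) (hA : A.rank = n - 1) (hAδ : A.mulVecLin δ' = 0) :
    (LinearMap.range (DLin n δ')).toAddSubgroup.relIndex
      (LinearMap.ker ((DLin n δ) ∘ₗ A.mulVecLin)).toAddSubgroup
      = (Finset.univ.gcd δ').natAbs := by
  have hg'ne : Finset.univ.gcd δ' ≠ 0 := by
    intro h0
    rw [Finset.gcd_eq_zero_iff] at h0
    exact hδ' ⟨0, hn⟩ (h0 _ (Finset.mem_univ _))
  have hv : ∀ i, δ' i = Finset.univ.gcd δ' * (δ' i / Finset.univ.gcd δ') := fun i =>
    (Int.mul_ediv_cancel' (Finset.gcd_dvd (Finset.mem_univ i))).symm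
  obtain ⟨e, he⟩ := Finset.gcd_eq_sum_mul Finset.univ δ'
  have he' : ∑ i, (δ' i / Finset.univ.gcd δ') * e i = 1 := by
    apply mul_left_cancel₀ hg'ne
    rw [mul_one, Finset.mul_sum]
    conv_rhs => rw [he]
    exact Finset.sum_congr rfl (fun i _ => by rw [← mul_assoc, ← hv i])
  rw [LinearMap.ker_comp_of_ker_eq_bot _ (LinearMap.ker_eq_bot.mpr (DLin_injective n δ hδ)),
    ker_eq_zmultiples n hn A hA δ' (fun i => δ' i / Finset.univ.gcd δ') (Finset.univ.gcd δ')
      hg'ne hv hδ' e he' hAδ]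
  exact relIndex_range_D_zmultiples n hn δ' _ _ hv hδ'

theorem main2 (hn : 0 < n) (δ' : Fin n → ℤ) (hδ : ∀ i, δ i ≠ 0) (hδ' : ∀ i, δ' i ≠ 0)
    (A : Matrix (Fin n) (Fin n) ℤ) (hA : A.rank = n - 1)
    (hSDA : (sL n) ∘ₗ (DLin n δ) ∘ₗ (Matrix.mulVecLin A) = 0)
    (hADΔ : (Matrix.mulVecLin A) ∘ₗ (DLin n δ') ∘ₗ
        (LinearMap.pi fun _ : Fin n => (LinearMap.id : ℤ →ₗ[ℤ] ℤ)) = 0) :
    (Nat.card (↥(LinearMap.ker ((sL n) ∘ₗ (DLin n δ))) ⧸
          (LinearMap.range (Matrix.mulVecLin A)).comap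
            (LinearMap.ker ((sL n) ∘ₗ (DLin n δ))).subtype) : ℤ) * |∏ i, δ i| * |∏ i, δ' i| =
      (Finset.univ.gcd δ) * (Finset.univ.gcd δ') * Nat.card (↥(LinearMap.ker (sL n)) ⧸
        (LinearMap.range ((DLin n δ) ∘ₗ (Matrix.mulVecLin A) ∘ₗ (DLin n δ'))).comap
          (LinearMap.ker (sL n)).subtype) := by
  have h1 := main1 n δ hn hδ A hSDA
  have hBK : LinearMap.range ((DLin n δ) ∘ₗ (Matrix.mulVecLin A)) ≤ LinearMap.ker (sL n) := by
    rintro x ⟨y, rfl⟩
    exact LinearMap.mem_ker.mpr (LinearMap.congr_fun hSDA y)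
  have hAδ : (Matrix.mulVecLin A) δ' = 0 := by
    have := LinearMap.congr_fun hADΔ 1
    have h1' : DLin n δ' ((LinearMap.pi fun _ : Fin n => (LinearMap.id : ℤ →ₗ[ℤ] ℤ)) 1) = δ' := by
      funext i
      rw [DLin_apply]
      simp
    rw [LinearMap.comp_apply, LinearMap.comp_apply, h1', LinearMap.zero_apply] at this
    exact this
  have h2 : Nat.card (↥(LinearMap.ker (sL n)) ⧸
        (LinearMap.range ((DLin n δ) ∘ₗ (Matrix.mulVecLin A) ∘ₗ (DLin n δ'))).comap
          (LinearMap.ker (sL n)).subtype)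
      * (LinearMap.range (DLin n δ')).toAddSubgroup.relIndex
          (LinearMap.ker ((DLin n δ) ∘ₗ (Matrix.mulVecLin A))).toAddSubgroup
      = (LinearMap.range (DLin n δ')).toAddSubgroup.index
      * Nat.card (↥(LinearMap.ker (sL n)) ⧸
        (LinearMap.range ((DLin n δ) ∘ₗ (Matrix.mulVecLin A))).comap
          (LinearMap.ker (sL n)).subtype) :=
    abstract_index2 ((DLin n δ) ∘ₗ (Matrix.mulVecLin A)) (DLin n δ') (LinearMap.ker (sL n)) hBK
  rw [relIndex_ker n δ hn δ' hδ hδ' A hA hAδ, index_range_D] at h2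
  have hg' : ((Finset.univ.gcd δ').natAbs : ℤ) = Finset.univ.gcd δ' :=
    Int.natAbs_of_nonneg (Int.nonneg_of_normalize_eq_self Finset.normalize_gcd)
  have h2' : (Nat.card (↥(LinearMap.ker (sL n)) ⧸
        (LinearMap.range ((DLin n δ) ∘ₗ (Matrix.mulVecLin A) ∘ₗ (DLin n δ'))).comap
          (LinearMap.ker (sL n)).subtype) : ℤ) * Finset.univ.gcd δ'
      = |∏ i, δ' i| * Nat.card (↥(LinearMap.ker (sL n)) ⧸
        (LinearMap.range ((DLin n δ) ∘ₗ (Matrix.mulVecLin A))).comap
          (LinearMap.ker (sL n)).subtype) := by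
    rw [← hg', ← Int.natCast_natAbs (∏ i, δ' i)]
    exact_mod_cast h2
  linear_combination |∏ i, δ' i| * h1 - Finset.univ.gcd δ * h2'

end concrete

end Groth.Agent.Lib.CompLat
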