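import Mathlib

/-!
# Comparison theorem for a complex of projectives mapping to a resolution (helper7)

Generalisation of `ProjectiveResolution.lift` / `liftHomotopy`: the source complex need not be
exact, the target complex need not consist of projectives.
-/

set_option autoImplicit false
set_option backward.isDefEq.respectTransparency false
universe v u
open CategoryTheory Category Limits Projective HomologicalComplex ChainComplex

namespace Groth.Agent.Lib.CompThmH7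

noncomputable section

variable {C : Type u} [Category.{v} C] [Abelian C]

section Res

variable (Q : ChainComplex C ℕ) {Z : C} (π : Q ⟶ (ChainComplex.single₀ C).obj Z)

lemma d_comp_π : Q.d 1 0 ≫ π.f 0 = 0 := by
  rw [← π.comm 1 0, single_obj_d, comp_zero]

variable [QuasiIso π]

include π in
lemma exactAt_succ (n : ℕ) : Q.ExactAt (n + 1) := by
  rw [← quasiIsoAt_iff_exactAt' π (n + 1) (exactAt_succ_single_obj _ _)]
  infer_instance

include π in
lemma exact_succ (n : ℕ) : (ShortComplex.mk _ _ (Q.d_comp_d (n + 2) (n + 1) n)).Exact :=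
  ((HomologicalComplex.exactAt_iff' _ (n + 2) (n + 1) n) (by simp only [ChainComplex.prev]; rfl)
    (by simp)).1 (exactAt_succ Q π n)

/-- cokernel cofork -/
def cokernelCofork : CokernelCofork (Q.d 1 0) := CokernelCofork.ofπ _ (d_comp_π Q π)

set_option backward.isDefEq.respectTransparency.types false in
set_option backward.defeqAttrib.useBackward true in
/-- `Z` is the cokernel of `Q.X 1 ⟶ Q.X 0`. -/
def isColimitCokernelCofork : IsColimit (cokernelCofork Q π) := by
  refine IsColimit.ofIsoColimit (Q.opcyclesIsCokernel 1 0 (by simp)) ?_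
  refine Cofork.ext (Q.isoHomologyι₀.symm ≪≫ isoOfQuasiIsoAt π 0 ≪≫
    singleObjHomologySelfIso _ _ _) ?_
  rw [← cancel_mono (singleObjHomologySelfIso (ComplexShape.down ℕ) 0 _).inv,
    ← cancel_mono (isoHomologyι₀ _).hom]
  dsimp [cokernelCofork]
  simp only [isoHomologyι₀_inv_naturality_assoc, p_opcyclesMap_assoc, single₀_obj_zero, assoc,
    Iso.hom_inv_id, comp_id, isoHomologyι_inv_hom_id, singleObjHomologySelfIso_inv_homologyι,
    singleObjOpcyclesSelfIso_hom, single₀ObjXSelf, Iso.refl_inv, id_comp]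

lemma exact₀ : (ShortComplex.mk _ _ (d_comp_π Q π)).Exact :=
  ShortComplex.exact_of_g_is_cokernel _ (isColimitCokernelCofork Q π)

lemma epi_π_zero : Epi (π.f 0) := epi_of_isColimit_cofork (isColimitCokernelCofork Q π)

end Res

section Lift

variable {Y Z : C} (f : Y ⟶ Z) (P : ChainComplex C ℕ) [∀ n, Projective (P.X n)]
  (πP : P ⟶ (ChainComplex.single₀ C).obj Y)
  (Q : ChainComplex C ℕ) (πQ : Q ⟶ (ChainComplex.single₀ C).obj Z) [QuasiIso πQ]

/-- degree zero -/
def liftFZero : P.X 0 ⟶ Q.X 0 :=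
  haveI := epi_π_zero Q πQ
  Projective.factorThru (πP.f 0 ≫ f) (πQ.f 0)

lemma liftFZero_comp : liftFZero f P πP Q πQ ≫ πQ.f 0 = πP.f 0 ≫ f := by
  haveI := epi_π_zero Q πQ
  exact Projective.factorThru_comp _ _

/-- degree one -/
def liftFOne : P.X 1 ⟶ Q.X 1 :=
  (exact₀ Q πQ).liftFromProjective (P.d 1 0 ≫ liftFZero f P πP Q πQ) (by
    show (P.d 1 0 ≫ liftFZero f P πP Q πQ) ≫ πQ.f 0 = 0
    rw [assoc, liftFZero_comp, ← assoc, d_comp_π, zero_comp])

lemma liftFOne_zero_comm :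
    liftFOne f P πP Q πQ ≫ Q.d 1 0 = P.d 1 0 ≫ liftFZero f P πP Q πQ :=
  (exact₀ Q πQ).liftFromProjective_comp _ _

include πQ in
/-- successor step -/
def liftFSucc (n : ℕ) (g : P.X n ⟶ Q.X n) (g' : P.X (n + 1) ⟶ Q.X (n + 1))
    (w : g' ≫ Q.d (n + 1) n = P.d (n + 1) n ≫ g) :
    Σ' g'' : P.X (n + 2) ⟶ Q.X (n + 2), g'' ≫ Q.d (n + 2) (n + 1) = P.d (n + 2) (n + 1) ≫ g' :=
  ⟨(exact_succ Q πQ n).liftFromProjective (P.d (n + 2) (n + 1) ≫ g') (by simp [w]),
    (exact_succ Q πQ n).liftFromProjective_comp _ _⟩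

/-- the lift -/
def lift : P ⟶ Q :=
  ChainComplex.mkHom _ _ (liftFZero f P πP Q πQ) (liftFOne f P πP Q πQ)
    (liftFOne_zero_comm f P πP Q πQ)
    fun n ⟨g, g', w⟩ => ⟨(liftFSucc P Q πQ n g g' w).1, (liftFSucc P Q πQ n g g' w).2⟩

theorem lift_commutes : lift f P πP Q πQ ≫ πQ = πP ≫ (ChainComplex.single₀ C).map f := by
  apply HomologicalComplex.to_single_hom_ext
  rw [HomologicalComplex.comp_f, HomologicalComplex.comp_f]
  have h1 : (lift f P πP Q πQ).f 0 = liftFZero f P πP Q πQ := by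
    simp [lift]
  rw [h1, liftFZero_comp]
  simp

end Lift

section Homotopy

variable {P : ChainComplex C ℕ} [∀ n, Projective (P.X n)]
  {Z : C} {Q : ChainComplex C ℕ} (πQ : Q ⟶ (ChainComplex.single₀ C).obj Z) [QuasiIso πQ]

/-- An auxiliary definition for `liftHomotopyZero`. -/
def liftHomotopyZeroZero (f : P ⟶ Q) (comm : f ≫ πQ = 0) : P.X 0 ⟶ Q.X 1 :=
  (exact₀ Q πQ).liftFromProjective (f.f 0)
    (congr_fun (congr_arg HomologicalComplex.Hom.f comm) 0)

@[reassoc (attr := simp)]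
lemma liftHomotopyZeroZero_comp (f : P ⟶ Q) (comm : f ≫ πQ = 0) :
    liftHomotopyZeroZero πQ f comm ≫ Q.d 1 0 = f.f 0 :=
  (exact₀ Q πQ).liftFromProjective_comp _ _

/-- An auxiliary definition for `liftHomotopyZero`. -/
def liftHomotopyZeroOne (f : P ⟶ Q) (comm : f ≫ πQ = 0) : P.X 1 ⟶ Q.X 2 :=
  (exact_succ Q πQ 0).liftFromProjective (f.f 1 - P.d 1 0 ≫ liftHomotopyZeroZero πQ f comm)
    (by rw [Preadditive.sub_comp, assoc, HomologicalComplex.Hom.comm,
              liftHomotopyZeroZero_comp, sub_self])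

@[reassoc (attr := simp)]
lemma liftHomotopyZeroOne_comp (f : P ⟶ Q) (comm : f ≫ πQ = 0) :
    liftHomotopyZeroOne πQ f comm ≫ Q.d 2 1 =
      f.f 1 - P.d 1 0 ≫ liftHomotopyZeroZero πQ f comm :=
  (exact_succ Q πQ 0).liftFromProjective_comp _ _

include πQ in
/-- An auxiliary definition for `liftHomotopyZero`. -/
def liftHomotopyZeroSucc (f : P ⟶ Q) (n : ℕ) (g : P.X n ⟶ Q.X (n + 1))
    (g' : P.X (n + 1) ⟶ Q.X (n + 2))
    (w : f.f (n + 1) = P.d (n + 1) n ≫ g + g' ≫ Q.d (n + 2) (n + 1)) :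
    P.X (n + 2) ⟶ Q.X (n + 3) :=
  (exact_succ Q πQ (n + 1)).liftFromProjective (f.f (n + 2) - P.d _ _ ≫ g') (by simp [w])

lemma liftHomotopyZeroSucc_comp (f : P ⟶ Q) (n : ℕ) (g : P.X n ⟶ Q.X (n + 1))
    (g' : P.X (n + 1) ⟶ Q.X (n + 2))
    (w : f.f (n + 1) = P.d (n + 1) n ≫ g + g' ≫ Q.d (n + 2) (n + 1)) :
    liftHomotopyZeroSucc πQ f n g g' w ≫ Q.d (n + 3) (n + 2) =
      f.f (n + 2) - P.d _ _ ≫ g' :=
  (exact_succ Q πQ (n + 1)).liftFromProjective_comp _ _

/-- Any lift of the zero morphism is homotopic to zero. -/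
def liftHomotopyZero (f : P ⟶ Q) (comm : f ≫ πQ = 0) : Homotopy f 0 :=
  Homotopy.mkInductive _ (liftHomotopyZeroZero πQ f comm) (by simp)
    (liftHomotopyZeroOne πQ f comm) (by simp) fun n ⟨g, g', w⟩ =>
    ⟨liftHomotopyZeroSucc πQ f n g g' w, by simp [liftHomotopyZeroSucc_comp]⟩

/-- Two lifts with the same composite to the augmentation are homotopic. -/
def liftHomotopy {W : ChainComplex C ℕ} (t : P ⟶ W) (π' : Q ⟶ W) (g h : P ⟶ Q)
    (hπ : ∀ k : P ⟶ Q, k ≫ π' = 0 → k ≫ πQ = 0)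
    (g_comm : g ≫ π' = t) (h_comm : h ≫ π' = t) : Homotopy g h :=
  Homotopy.equivSubZero.invFun (liftHomotopyZero πQ _ (hπ _ (by simp [g_comm, h_comm])))

end Homotopy

end

end Groth.Agent.Lib.CompThmH7
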