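import Mathlib
import Groth.Prelude.Def_CohDer
import Groth.Agent.Lib.FinFactor_helper9

/-!
# Maps from compact objects into cell towers factor through finite envelopes (helper9)
-/

open CategoryTheory CategoryTheory.Limits Pretriangulated

namespace EnvFactor

open FinFactor

universe w v u

variable {D : Type u} [Category.{v} D] [Preadditive D] [HasZeroObject D] [HasShift D ℤ]
  [∀ n : ℤ, (shiftFunctor D n).Additive] [Pretriangulated D] [IsTriangulated D]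
  {ι : Type v} (E : ι → D)

/-- the triangulated envelope of a finite subfamily -/
abbrev Env (s : Finset ι) : ObjectProperty D :=
  ObjectProperty.triangEnvelope (fun Y : D => ∃ i ∈ s, Y = E i)

lemma env_mono {s s' : Finset ι} (h : s ⊆ s') : Env E s ≤ Env E s' :=
  ObjectProperty.monotone_triangEnvelope (fun _ ⟨i, hi, e⟩ => ⟨i, h hi, e⟩)

lemma env_gen {s : Finset ι} {i : ι} (hi : i ∈ s) (m : ℤ) :
    Env E s ((shiftFunctor D m).obj (E i)) :=
  (Env E s).le_shift m _ (ObjectProperty.le_triangEnvelope _ _ ⟨i, hi, rfl⟩)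

lemma env_isTriangulated {s : Finset ι} (hs : s.Nonempty) : (Env E s).IsTriangulated := by
  haveI : ObjectProperty.Nonempty (fun Y : D => ∃ i ∈ s, Y = E i) :=
    ⟨⟨E hs.choose, hs.choose, hs.choose_spec, rfl⟩⟩
  infer_instance

lemma env_finite_coprod {s : Finset ι} (hs : s.Nonempty) {J : Type w} [Finite J] (Z : J → D)
    [HasCoproduct Z] (hZ : ∀ j, Env E s (Z j)) : Env E s (∐ Z) := by
  haveI := env_isTriangulated E hs
  haveI : HasBiproduct Z := HasBiproductsOfShape.has_biproduct Z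
  have h1 : Env E s (⨁ Z) := (Env E s).prop_of_isLimit_fan (biproduct.isLimit Z) hZ
  exact (Env E s).prop_of_iso (biproduct.isoCoproduct Z) h1

lemma env_biprod {s : Finset ι} (hs : s.Nonempty) {A B : D} (hA : Env E s A) (hB : Env E s B) :
    Env E s (A ⊞ B) := by
  haveI := env_isTriangulated E hs
  exact (Env E s).ext_of_isTriangulatedClosed₂ _ (binaryBiproductTriangle_distinguished A B) hA hB

lemma env_shift {s : Finset ι} {A : D} (hA : Env E s A) (m : ℤ) :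
    Env E s ((shiftFunctor D m).obj A) :=
  (Env E s).le_shift m _ hA

section Main

variable [HasCoproducts.{v} D] [Nonempty ι] (hc : ∀ i, FF (E i))

include hc

/-- the finite subsums of cells are `FF` and lie in the envelope -/
lemma sub_cells {κ : Type v} (a : κ → ι) (m : κ → ℤ) (t : Finset κ) :
    FF (sub (fun k => (shiftFunctor D (m k)).obj (E (a k))) t) ∧
      ∀ s : Finset ι, s.Nonempty → (∀ k ∈ t, a k ∈ s) →
        Env E s (sub (fun k => (shiftFunctor D (m k)).obj (E (a k))) t) := by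
  constructor
  · exact ff_finite_coprod _ (fun k => ff_shift (hc _) _)
  · intro s hs hst
    exact env_finite_coprod E hs _ (fun k => env_gen E (hst k.1 k.2) _)

/-- base case -/
lemma base {κ : Type v} (a : κ → ι) (m : κ → ℤ) {C : D} (hC : FF C)
    (φ : C ⟶ ∐ (fun k => (shiftFunctor D (m k)).obj (E (a k)))) :
    ∃ (s : Finset ι) (E' : D) (g : C ⟶ E')
      (h : E' ⟶ ∐ (fun k => (shiftFunctor D (m k)).obj (E (a k)))),
      Env E s E' ∧ g ≫ h = φ := by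
  classical
  obtain ⟨i₀⟩ := ‹Nonempty ι›
  obtain ⟨t, ht⟩ := hC κ _ φ
  refine ⟨insert i₀ (t.image a), sub _ t, φ ≫ subπ _ t, subι _ t, ?_, ?_⟩
  · refine (sub_cells E hc a m t).2 _ (Finset.insert_nonempty _ _) (fun k hk => ?_)
    exact Finset.mem_insert_of_mem (Finset.mem_image_of_mem a hk)
  · rw [Category.assoc, subπ_subι, ht]

/-- inductive step -/
lemma step {κ : Type v} (a : κ → ι) (m : κ → ℤ) {Kn Kn1 : D}
    (y : (∐ fun k => (shiftFunctor D (m k)).obj (E (a k))) ⟶ Kn) (fn : Kn ⟶ Kn1)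
    (z : Kn1 ⟶ (shiftFunctor D (1 : ℤ)).obj (∐ fun k => (shiftFunctor D (m k)).obj (E (a k))))
    (hT : Triangle.mk y fn z ∈ distTriang D)
    (IH : ∀ (C : D), FF C → ∀ φ : C ⟶ Kn, ∃ (s : Finset ι) (E' : D) (g : C ⟶ E') (h : E' ⟶ Kn),
      Env E s E' ∧ g ≫ h = φ)
    {C : D} (hC : FF C) (φ : C ⟶ Kn1) :
    ∃ (s : Finset ι) (E' : D) (g : C ⟶ E') (h : E' ⟶ Kn1), Env E s E' ∧ g ≫ h = φ := by
  classical
  obtain ⟨i₀⟩ := ‹Nonempty ι›
  let X : κ → D := fun k => (shiftFunctor D (m k)).obj (E (a k))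
  let σ := PreservesCoproduct.iso (shiftFunctor D (1 : ℤ)) X
  obtain ⟨t, ht⟩ := hC κ (fun k => (shiftFunctor D (1 : ℤ)).obj (X k)) (φ ≫ z ≫ σ.hom)
  let Y' : D := sub X t
  let j : Y' ⟶ ∐ X := subι X t
  let r : ∐ X ⟶ Y' := subπ X t
  have hrj : r ≫ j = e X (t : Set κ) := subπ_subι X t
  have h1 : φ ≫ z ≫ (shiftFunctor D (1 : ℤ)).map (r ≫ j) = φ ≫ z := by
    have h2 : (shiftFunctor D (1 : ℤ)).map (e X (t : Set κ)) =
        σ.hom ≫ e (fun k => (shiftFunctor D (1 : ℤ)).obj (X k)) (t : Set κ) ≫ σ.inv := by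
      rw [e_shift, σ.hom_inv_id_assoc]
    rw [hrj, h2]
    have h3 := congrArg (fun x => x ≫ σ.inv) ht
    simp only [Category.assoc, σ.hom_inv_id] at h3
    rw [Category.comp_id] at h3
    exact h3
  let ψ : C ⟶ (shiftFunctor D (1 : ℤ)).obj Y' := φ ≫ z ≫ (shiftFunctor D (1 : ℤ)).map r
  have hψ : ψ ≫ (shiftFunctor D (1 : ℤ)).map j = φ ≫ z := by
    dsimp only [ψ]
    rw [Category.assoc, Category.assoc, ← Functor.map_comp]
    exact h1
  obtain ⟨C'', α, β, hT₁⟩ := distinguished_cocone_triangle₁ ψ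
  have hY' := sub_cells E hc a m t
  have hC'' : FF C'' := ff_triangle₁ _ hT₁ hC (ff_shift hY'.1 1)
  obtain ⟨θ, hθ₁, hθ₂⟩ : ∃ θ : C'' ⟶ Kn, α ≫ φ = θ ≫ fn ∧
      β ≫ (shiftFunctor D (1 : ℤ)).map θ =
        (shiftFunctor D (1 : ℤ)).map j ≫ (-(shiftFunctor D (1 : ℤ)).map y) :=
    complete_distinguished_triangle_morphism₁ _ _ hT₁
      (rot_of_distTriang _ hT) φ ((shiftFunctor D (1 : ℤ)).map j) hψ
  obtain ⟨s'', E'', g'', h'', hE'', hθ⟩ := IH C'' hC'' θ
  obtain ⟨E', p, q, hT₃⟩ := distinguished_cocone_triangle₂ (β ≫ (shiftFunctor D (1 : ℤ)).map g'')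
  obtain ⟨γ, hγ₁, hγ₂⟩ : ∃ γ : C ⟶ E', α ≫ γ = g'' ≫ p ∧ ψ ≫ 𝟙 _ = γ ≫ q :=
    complete_distinguished_triangle_morphism₂ _ _ hT₁ hT₃ g'' (𝟙 _)
      (Category.id_comp _).symm
  have comm : (β ≫ (shiftFunctor D (1 : ℤ)).map g'') ≫ (shiftFunctor D (1 : ℤ)).map h'' =
      (shiftFunctor D (1 : ℤ)).map j ≫ (-(shiftFunctor D (1 : ℤ)).map y) := by
    rw [Category.assoc, ← Functor.map_comp, hθ]
    exact hθ₂
  obtain ⟨ρ, hρ₁, hρ₂⟩ : ∃ ρ : E' ⟶ Kn1, p ≫ ρ = h'' ≫ fn ∧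
      q ≫ (shiftFunctor D (1 : ℤ)).map j = ρ ≫ z :=
    complete_distinguished_triangle_morphism₂ _ _ hT₃
      (rot_of_distTriang _ hT) h'' ((shiftFunctor D (1 : ℤ)).map j) comm
  have hδ : α ≫ (φ - γ ≫ ρ) = 0 := by
    rw [Preadditive.comp_sub, hθ₁, ← Category.assoc, hγ₁, Category.assoc, hρ₁, ← Category.assoc,
      hθ, sub_self]
  obtain ⟨ψ', hψ'⟩ := Triangle.yoneda_exact₂ _ hT₁ (φ - γ ≫ ρ) hδ
  have hψ'' : φ - γ ≫ ρ = ψ ≫ ψ' := hψ'
  let s : Finset ι := insert i₀ (s'' ∪ t.image a)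
  have hs : s.Nonempty := Finset.insert_nonempty _ _
  have hY's : Env E s ((shiftFunctor D (1 : ℤ)).obj Y') := by
    refine env_shift E (hY'.2 s hs (fun k hk => ?_)) 1
    exact Finset.mem_insert_of_mem (Finset.mem_union_right _ (Finset.mem_image_of_mem a hk))
  have hE''s : Env E s E'' :=
    env_mono E (fun i hi => Finset.mem_insert_of_mem (Finset.mem_union_left _ hi)) _ hE''
  have hE's : Env E s E' := by
    haveI := env_isTriangulated E hs
    exact (Env E s).ext_of_isTriangulatedClosed₂ _ hT₃ hE''s hY's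
  refine ⟨s, E' ⊞ (shiftFunctor D (1 : ℤ)).obj Y', biprod.lift γ ψ, biprod.desc ρ ψ',
    env_biprod E hs hE's hY's, ?_⟩
  rw [biprod.lift_desc, ← hψ'']
  abel

theorem factor (K : ℕ → D) (f : ∀ n, K n ⟶ K (n + 1))
    (h0 : ∃ (κ : Type v) (a : κ → ι) (m : κ → ℤ),
      Nonempty (K 0 ≅ ∐ (fun k => (shiftFunctor D (m k)).obj (E (a k)))))
    (hstep : ∀ n, ∃ (κ : Type v) (a : κ → ι) (m : κ → ℤ)
      (y : (∐ fun k => (shiftFunctor D (m k)).obj (E (a k))) ⟶ K n)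
      (z : K (n + 1) ⟶
        (shiftFunctor D (1 : ℤ)).obj (∐ fun k => (shiftFunctor D (m k)).obj (E (a k)))),
      Triangle.mk y (f n) z ∈ distTriang D) (n : ℕ) :
    ∀ (C : D), FF C → ∀ φ : C ⟶ K n, ∃ (s : Finset ι) (E' : D) (g : C ⟶ E') (h : E' ⟶ K n),
      Env E s E' ∧ g ≫ h = φ := by
  induction n with
  | zero =>
    intro C hC φ
    obtain ⟨κ, a, m, ⟨e0⟩⟩ := h0
    obtain ⟨s, E', g, h, hE', hgh⟩ := base E hc a m hC (φ ≫ e0.hom)
    refine ⟨s, E', g, h ≫ e0.inv, hE', ?_⟩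
    rw [← Category.assoc, hgh, Category.assoc, e0.hom_inv_id, Category.comp_id]
  | succ n ih =>
    intro C hC φ
    obtain ⟨κ, a, m, y, z, hT⟩ := hstep n
    exact step E hc a m y (f n) z hT ih hC φ

end Main

end EnvFactor
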