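import Mathlib
import Groth.Prelude.Def_DerLim
import Groth.Prelude.Def_CohDer
import Groth.Agent.Lib.EnvFactor_helper9
import Groth.Agent.Lib.CellPres_helper9
import Groth.Agent.S6585

/-!
# A compact object generates iff it classically generates the compact objects (helper9)
-/

open CategoryTheory CategoryTheory.Limits Pretriangulated

namespace CompactGen

universe v u

variable {D : Type u} [Category.{v} D] [Preadditive D] [HasZeroObject D] [HasShift D ℤ]
  [∀ n : ℤ, (shiftFunctor D n).Additive] [Pretriangulated D] [IsTriangulated D]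
  [HasCoproducts.{v} D] [HasColimitsOfShape (Discrete ℕ) D]

/-- compact objects lie in the envelope of a family of compact generators -/
theorem compact_mem_envelope {ι : Type v} [Nonempty ι] (E : ι → D)
    (hc : ∀ i, CohDer.IsCompactObject (E i)) (hg : CohDer.Generates E) (X : D)
    (hX : CohDer.IsCompactObject X) :
    ∃ s : Finset ι, ObjectProperty.triangEnvelope (fun Y : D => ∃ i ∈ s, Y = E i) X := by
  obtain ⟨K, f, i, hL, h0, hstep⟩ := CellPres.exists_presentation E hc hg X
  obtain ⟨n, g', hg'⟩ := CompactH9.factor_of_presCoprod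
    (CompactH9.presCoprod_of_isCompactObject hX) K f X i hL (𝟙 X)
  obtain ⟨s, E', g, h, hE', hgh⟩ := EnvFactor.factor E
    (fun i => FinFactor.ff_of_isCompactObject (hc i)) K f h0 hstep n X
    (FinFactor.ff_of_isCompactObject hX) g'
  refine ⟨s, ?_⟩
  have r : Retract X E' :=
    { i := g
      r := h ≫ i n
      retract := by rw [← Category.assoc, hgh, ← hg'] }
  exact ObjectProperty.prop_of_retract _ r hE'

theorem generates_iff (E : D) (hE : CohDer.IsCompactObject E) :
    CohDer.Generates (fun _ : Unit => E) ↔
      (CohDer.IsCompactlyGenerated D ∧ ∀ X : D, CohDer.IsCompactObject X →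
        ObjectProperty.triangEnvelope (fun Y : D => Y = E) X) := by
  constructor
  · intro hgen
    have hgen' : CohDer.Generates (fun _ : PUnit.{v + 1} => E) :=
      fun K hK => hgen K (fun _ n f => hK PUnit.unit n f)
    refine ⟨⟨PUnit.{v + 1}, fun _ => E, fun _ => hE, hgen'⟩, fun X hX => ?_⟩
    obtain ⟨s, hs⟩ := compact_mem_envelope (fun _ : PUnit.{v + 1} => E) (fun _ => hE) hgen' X hX
    exact ObjectProperty.monotone_triangEnvelope (fun Y ⟨_, _, e⟩ => e) _ hs
  · rintro ⟨⟨ι, E', hc', hg'⟩, henv⟩
    intro K hK
    apply hg'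
    intro i n f
    have h1 := (Groth.Agent.S6585.result E ((shiftFunctor D n).obj K)).1 (fun m f' => by
      have h2 := hK () (n + m) (f' ≫ ((shiftFunctorAdd' D n m (n + m) rfl).app K).inv)
      have h3 := congrArg (fun x => x ≫ ((shiftFunctorAdd' D n m (n + m) rfl).app K).hom) h2
      simpa using h3)
    refine h1 (E' i) ?_ f
    exact ObjectProperty.monotone_triangEnvelope
      (fun Y (e : Y = E) => (ObjectProperty.singleton_iff E Y).2 e.symm) _ (henv (E' i) (hc' i))

end CompactGen
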