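import Mathlib.Tactic
import Mathlib.Topology.Algebra.Group.Basic
import Mathlib.Topology.Compactness.Compact

/-! Inverse limits of nonempty compact sets are nonempty; application to divisibility in limits (lead). -/

namespace Groth.Agent.Lib.CompactLim_lead

universe u v

theorem exists_compatible {ι : Type u} [Preorder ι] [IsDirected ι (· ≤ ·)]
    (G : ι → Type v) [∀ i, TopologicalSpace (G i)] [∀ i, CompactSpace (G i)] [∀ i, T2Space (G i)]
    (f : ∀ ⦃i j : ι⦄, i ≤ j → (G j → G i)) (hf : ∀ i j (h : i ≤ j), Continuous (f h))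
    (hcomp : ∀ i j k (hij : i ≤ j) (hjk : j ≤ k) (x : G k), f hij (f hjk x) = f (hij.trans hjk) x)
    (K : ∀ i, Set (G i)) (hKc : ∀ i, IsClosed (K i)) (hKn : ∀ i, (K i).Nonempty)
    (hKf : ∀ i j (h : i ≤ j), ∀ x ∈ K j, f h x ∈ K i) :
    ∃ z : ∀ i, G i, (∀ i j (h : i ≤ j), f h (z j) = z i) ∧ ∀ i, z i ∈ K i := by
  classical
  rcases isEmpty_or_nonempty ι with hι | hι
  · exact ⟨fun i => isEmptyElim i, fun i => isEmptyElim i, fun i => isEmptyElim i⟩
  let T : ι × ι → Set (∀ i, G i) := fun p =>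
    {z | z p.1 ∈ K p.1} ∩ {z | ∀ h : p.1 ≤ p.2, f h (z p.2) = z p.1}
  have hTc : ∀ p, IsClosed (T p) := by
    intro p
    refine IsClosed.inter ((hKc p.1).preimage (continuous_apply p.1)) ?_
    by_cases h : p.1 ≤ p.2
    · have : {z : ∀ i, G i | ∀ h : p.1 ≤ p.2, f h (z p.2) = z p.1} =
          {z | f h (z p.2) = z p.1} := by
        ext z
        exact ⟨fun H => H h, fun H _ => H⟩
      rw [this]
      exact isClosed_eq ((hf _ _ h).comp (continuous_apply p.2)) (continuous_apply p.1)
    · have : {z : ∀ i, G i | ∀ h : p.1 ≤ p.2, f h (z p.2) = z p.1} = Set.univ := by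
        ext z
        simp only [Set.mem_ofPred_eq, Set.mem_univ, iff_true]
        intro h'
        exact absurd h' h
      rw [this]
      exact isClosed_univ
  have hne : (Set.univ ∩ ⋂ p, T p).Nonempty := by
    apply IsCompact.inter_iInter_nonempty isCompact_univ T hTc
    intro u
    obtain ⟨k, hk⟩ := Finset.exists_le (u.image Prod.fst ∪ u.image Prod.snd)
    obtain ⟨w, hw⟩ := hKn k
    let z : ∀ i, G i := fun i => if h : i ≤ k then f h w else (hKn i).some
    refine ⟨z, Set.mem_univ _, Set.mem_iInter₂.mpr fun p hp => ?_⟩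
    have h1 : p.1 ≤ k := hk _ (Finset.mem_union_left _ (Finset.mem_image_of_mem _ hp))
    have h2 : p.2 ≤ k := hk _ (Finset.mem_union_right _ (Finset.mem_image_of_mem _ hp))
    have e1 : z p.1 = f h1 w := dif_pos h1
    have e2 : z p.2 = f h2 w := dif_pos h2
    refine ⟨?_, fun h => ?_⟩
    · show z p.1 ∈ K p.1
      rw [e1]
      exact hKf _ _ h1 w hw
    · rw [e1, e2]
      exact hcomp _ _ _ h h2 w
  obtain ⟨z, -, hz⟩ := hne
  refine ⟨z, fun i j h => ?_, fun i => ?_⟩
  · exact (Set.mem_iInter.mp hz (i, j)).2 h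
  · exact (Set.mem_iInter.mp hz (i, i)).1

theorem main {ι : Type u} [Preorder ι] [IsDirected ι (· ≤ ·)]
    (G : ι → Type v) [∀ i, AddCommGroup (G i)] [∀ i, TopologicalSpace (G i)]
    [∀ i, IsTopologicalAddGroup (G i)] [∀ i, CompactSpace (G i)] [∀ i, T2Space (G i)]
    (f : ∀ ⦃i j : ι⦄, i ≤ j → (G j →+ G i)) (hf : ∀ i j (h : i ≤ j), Continuous (f h))
    (hcomp : ∀ i j k (hij : i ≤ j) (hjk : j ≤ k) (x : G k), f hij (f hjk x) = f (hij.trans hjk) x)
    (m : ℕ) :
    (∀ x : ∀ i, G i, (∀ i j (h : i ≤ j), f h (x j) = x i) → (∀ i, ∃ y : G i, m • y = x i) →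
        ∃ z : ∀ i, G i, (∀ i j (h : i ≤ j), f h (z j) = z i) ∧ ∀ i, m • z i = x i) ∧
    (∀ y : ∀ i, G i, (∀ i j (h : i ≤ j), ∃ w : G i, f h (y j) - y i = m • w) →
        ∃ x : ∀ i, G i, (∀ i j (h : i ≤ j), f h (x j) = x i) ∧ ∀ i, ∃ w : G i, x i - y i = m • w) := by
  constructor
  · intro x hx hdiv
    obtain ⟨z, hz1, hz2⟩ := exists_compatible G (fun i j h => ⇑(f h)) hf hcomp
      (fun i => {y | m • y = x i})
      (fun i => isClosed_eq (continuous_nsmul m) continuous_const)
      (fun i => hdiv i)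
      (fun i j h y hy => by
        show m • f h y = x i
        rw [← map_nsmul, show m • y = x j from hy, hx])
    exact ⟨z, hz1, hz2⟩
  · intro y hy
    obtain ⟨z, hz1, hz2⟩ := exists_compatible G (fun i j h => ⇑(f h)) hf hcomp
      (fun i => {x | ∃ w : G i, x - y i = m • w})
      (fun i => by
        have : {x | ∃ w : G i, x - y i = m • w} = Set.range (fun w : G i => y i + m • w) := by
          ext x
          constructor
          · rintro ⟨w, hw⟩
            refine ⟨w, ?_⟩
            show y i + m • w = x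
            rw [← hw]; abel
          · rintro ⟨w, rfl⟩
            refine ⟨w, ?_⟩
            show y i + m • w - y i = m • w
            abel
        rw [this]
        exact (isCompact_range (continuous_const.add (continuous_nsmul m))).isClosed)
      (fun i => ⟨y i, 0, by simp⟩)
      (fun i j h x hx => by
        obtain ⟨w, hw⟩ := hx
        obtain ⟨w', hw'⟩ := hy i j h
        refine ⟨f h w + w', ?_⟩
        rw [smul_add, ← map_nsmul, ← hw, ← hw', map_sub]
        abel)
    exact ⟨z, hz1, hz2⟩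

end Groth.Agent.Lib.CompactLim_lead
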