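import Mathlib
import Groth.Prelude

set_option autoImplicit false
set_option linter.style.haveILetI false
set_option linter.unusedVariables false

universe u

open CategoryTheory CategoryTheory.Limits AlgebraicGeometry TopologicalSpace

namespace Groth.Agent.Lib.CompactifPreH4

theorem main {X S : Scheme.{u}} {Y Y' : Scheme.{u}} (j : X ⟶ Y) (q : Y ⟶ S) [IsOpenImmersion j]
    (j' : X ⟶ Y') (q' : Y' ⟶ S) [IsOpenImmersion j'] [IsSeparated q'] (f : Y' ⟶ Y)
    (hf : f ≫ q = q') (hfj : j' ≫ f = j) (hd : Dense (Set.range j'.base)) :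
    f ⁻¹ᵁ j.opensRange = j'.opensRange := by
  haveI : IsSeparated (f ≫ q) := by rw [hf]; infer_instance
  haveI : IsSeparated f := IsSeparated.of_comp f q
  let σ : X ⟶ pullback f j := pullback.lift j' (𝟙 X) (by rw [hfj, Category.id_comp])
  have hσ1 : σ ≫ pullback.fst f j = j' := pullback.lift_fst _ _ _
  have hσ2 : σ ≫ pullback.snd f j = 𝟙 X := pullback.lift_snd _ _ _
  haveI : IsSeparated (pullback.snd f j) :=
    MorphismProperty.pullback_snd (P := @IsSeparated) f j inferInstance
  haveI : IsClosedImmersion (σ ≫ pullback.snd f j) := by rw [hσ2]; infer_instance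
  haveI : IsClosedImmersion σ := IsClosedImmersion.of_comp σ (pullback.snd f j)
  have hcl : IsClosed (Set.range σ) := σ.isClosedEmbedding.isClosed_range
  have hopen : IsOpenMap (pullback.fst f j) := (pullback.fst f j).isOpenEmbedding.isOpenMap
  have hinj : Function.Injective (pullback.fst f j) :=
    (pullback.fst f j).isOpenEmbedding.injective
  have hfst : ∀ x : X, pullback.fst f j (σ x) = j' x := by
    intro x
    rw [← Scheme.Hom.comp_apply, hσ1]
  ext y
  constructor
  · intro hy
    obtain ⟨x, hx⟩ : ∃ x, j x = f y := hy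
    obtain ⟨z, hz1, hz2⟩ :=
      Scheme.Pullback.exists_preimage_pullback (f := f) (g := j) y x hx.symm
    have hzσ : z ∈ Set.range σ := by
      by_contra hz
      have hO : IsOpen (pullback.fst f j '' (Set.range σ)ᶜ) := hopen _ hcl.isOpen_compl
      have hne : (pullback.fst f j '' (Set.range σ)ᶜ).Nonempty := ⟨_, z, hz, rfl⟩
      obtain ⟨w, hwO, x', hx'⟩ := hd.inter_open_nonempty _ hO hne
      obtain ⟨z', hz', hz'w⟩ := hwO
      have hx'' : j' x' = w := hx'
      apply hz'
      refine ⟨x', ?_⟩
      apply hinj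
      rw [hfst x', hz'w, hx'']
    obtain ⟨x'', hx''⟩ := hzσ
    refine ⟨x'', ?_⟩
    rw [← hfst x'', hx'', hz1]
  · rintro ⟨x, rfl⟩
    refine ⟨x, ?_⟩
    rw [← Scheme.Hom.comp_apply, hfj]

end Groth.Agent.Lib.CompactifPreH4
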