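import Mathlib
import Groth.Agent.Lib.FilKInj1_helper7

/-!
# Extending chain maps into termwise injective complexes (helper7)

`exists_extension`: if `j : D ⟶ C` is a degreewise monomorphism of `ℕ`-indexed cochain complexes
which are exact in positive degrees, `I` is termwise injective, `φ : D ⟶ I` is a chain map and
`g : H⁰(C) ⟶ H⁰(I)` is compatible with `H⁰(φ)`, then `φ` extends to `f : C ⟶ I` inducing `g`.
-/

set_option autoImplicit false
universe v u
open CategoryTheory Limits ZeroObject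

namespace Groth.Agent.Lib.CompatLift

variable {V : Type u} [Category.{v} V] [Abelian V]

lemma exists_ext {X Y Z J : V} [Injective J] (a : X ⟶ Z) (b : Y ⟶ Z) (α : X ⟶ J) (β : Y ⟶ J)
    (h : ∀ (T : V) (x : T ⟶ X) (y : T ⟶ Y), x ≫ a + y ≫ b = 0 → x ≫ α + y ≫ β = 0) :
    ∃ e : Z ⟶ J, a ≫ e = α ∧ b ≫ e = β := by
  let f : X ⊞ Y ⟶ Z := biprod.desc a b
  let ψ : X ⊞ Y ⟶ J := biprod.desc α β
  have hk : kernel.ι f ≫ ψ = 0 := by
    have e1 : (kernel.ι f ≫ biprod.fst) ≫ a + (kernel.ι f ≫ biprod.snd) ≫ b = 0 := by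
      have : (kernel.ι f ≫ biprod.fst) ≫ a + (kernel.ι f ≫ biprod.snd) ≫ b = kernel.ι f ≫ f := by
        simp only [f, biprod.desc_eq, Preadditive.comp_add, Category.assoc]
      rw [this, kernel.condition]
    have e2 := h _ _ _ e1
    have : (kernel.ι f ≫ biprod.fst) ≫ α + (kernel.ι f ≫ biprod.snd) ≫ β = kernel.ι f ≫ ψ := by
      simp only [ψ, biprod.desc_eq, Preadditive.comp_add, Category.assoc]
    rw [← this, e2]
  let ψ' : Abelian.coimage f ⟶ J := cokernel.desc (kernel.ι f) ψ hk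
  let e : Z ⟶ J := Injective.factorThru ψ' (Abelian.factorThruCoimage f)
  have he : f ≫ e = ψ := by
    have h1 : Abelian.coimage.π f ≫ Abelian.factorThruCoimage f = f := Abelian.coimage.fac f
    have h2 : Abelian.factorThruCoimage f ≫ e = ψ' := Injective.comp_factorThru _ _
    have h3 : Abelian.coimage.π f ≫ ψ' = ψ := cokernel.π_desc _ _ _
    rw [← h1, Category.assoc, h2, h3]
  refine ⟨e, ?_, ?_⟩
  · have := congrArg (fun t => biprod.inl ≫ t) he
    simpa [f, ψ] using this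
  · have := congrArg (fun t => biprod.inr ≫ t) he
    simpa [f, ψ] using this

section Ext

variable {C D I : CochainComplex V ℕ} (j : D ⟶ C) (φ : D ⟶ I)

/-- the invariant in degree `n` -/
def Inv (n : ℕ) (f : C.X n ⟶ I.X n) : Prop :=
  j.f n ≫ f = φ.f n ∧ C.iCycles n ≫ f ≫ I.d n (n + 1) = 0

lemma exists_base [∀ n, Mono (j.f n)] [Injective (I.X 0)] (γ : C.cycles 0 ⟶ I.cycles 0)
    (hγ : HomologicalComplex.cyclesMap j 0 ≫ γ = HomologicalComplex.cyclesMap φ 0) :
    ∃ f : C.X 0 ⟶ I.X 0, j.f 0 ≫ f = φ.f 0 ∧ C.iCycles 0 ≫ f = γ ≫ I.iCycles 0 := by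
  apply exists_ext
  intro T x y hxy
  have hxj : x ≫ j.f 0 = -(y ≫ C.iCycles 0) := eq_neg_of_add_eq_zero_left hxy
  have hx : x ≫ D.d 0 1 = 0 := by
    rw [← cancel_mono (j.f 1), Category.assoc, ← j.comm 0 1, zero_comp, ← Category.assoc, hxj,
      Preadditive.neg_comp, Category.assoc, C.iCycles_d, comp_zero, neg_zero]
  let x' : T ⟶ D.cycles 0 := D.liftCycles x 1 (by simp) hx
  have hx' : x' ≫ D.iCycles 0 = x := D.liftCycles_i _ _ _ _
  have h1 : x' ≫ HomologicalComplex.cyclesMap j 0 = -y := by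
    rw [← cancel_mono (C.iCycles 0), Category.assoc, HomologicalComplex.cyclesMap_i,
      ← Category.assoc, hx', Preadditive.neg_comp]
    exact hxj
  have h2 : x ≫ φ.f 0 = x' ≫ HomologicalComplex.cyclesMap φ 0 ≫ I.iCycles 0 := by
    rw [HomologicalComplex.cyclesMap_i, ← Category.assoc, hx']
  have h3 : x' ≫ (HomologicalComplex.cyclesMap j 0 ≫ γ) ≫ I.iCycles 0 =
      -(y ≫ γ ≫ I.iCycles 0) := by
    rw [Category.assoc, ← Category.assoc, h1, Preadditive.neg_comp]
  rw [h2, ← hγ, h3, neg_add_cancel]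

lemma exists_step [∀ n, Mono (j.f n)] (n : ℕ) [Injective (I.X (n + 1))]
    (hC : C.ExactAt (n + 1)) (hD : D.ExactAt (n + 1))
    (f : C.X n ⟶ I.X n) (hf : Inv j φ n f) :
    ∃ f' : C.X (n + 1) ⟶ I.X (n + 1), Inv j φ (n + 1) f' ∧
      C.d n (n + 1) ≫ f' = f ≫ I.d n (n + 1) := by
  obtain ⟨f', h1, h2⟩ := exists_ext (j.f (n + 1)) (C.d n (n + 1)) (φ.f (n + 1))
    (f ≫ I.d n (n + 1)) (by
    intro T x y hxy
    have hxj : x ≫ j.f (n + 1) = -(y ≫ C.d n (n + 1)) := eq_neg_of_add_eq_zero_left hxy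
    have hx : x ≫ D.d (n + 1) (n + 1 + 1) = 0 := by
      rw [← cancel_mono (j.f (n + 1 + 1)), Category.assoc, ← j.comm (n + 1) (n + 1 + 1),
        zero_comp, ← Category.assoc, hxj, Preadditive.neg_comp, Category.assoc, C.d_comp_d,
        comp_zero, neg_zero]
    have hDex := (HomologicalComplex.exactAt_iff' D n (n + 1) (n + 1 + 1) (by simp)
      (by simp)).1 hD
    obtain ⟨T₁, π₁, hπ₁, y', hy''⟩ : ∃ (T₁ : V) (π₁ : T₁ ⟶ T) (_ : Epi π₁) (y' : T₁ ⟶ D.X n),
        π₁ ≫ x = y' ≫ D.d n (n + 1) := hDex.exact_up_to_refinements x hx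
    let w : T₁ ⟶ C.X n := π₁ ≫ y + y' ≫ j.f n
    have hw : w ≫ C.d n (n + 1) = 0 := by
      calc w ≫ C.d n (n + 1)
          = π₁ ≫ y ≫ C.d n (n + 1) + y' ≫ j.f n ≫ C.d n (n + 1) := by
            simp only [w, Preadditive.add_comp, Category.assoc]
        _ = π₁ ≫ y ≫ C.d n (n + 1) + (y' ≫ D.d n (n + 1)) ≫ j.f (n + 1) := by
            rw [j.comm n (n + 1), Category.assoc]
        _ = π₁ ≫ (x ≫ j.f (n + 1) + y ≫ C.d n (n + 1)) := by
            rw [← hy'', Preadditive.comp_add, Category.assoc]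
            exact add_comm _ _
        _ = 0 := by rw [hxy, comp_zero]
    have hw2 : w ≫ f ≫ I.d n (n + 1) = 0 := by
      have : w = C.liftCycles w (n + 1) (by simp) hw ≫ C.iCycles n :=
        (C.liftCycles_i _ _ _ _).symm
      rw [this, Category.assoc, hf.2, comp_zero]
    have key : π₁ ≫ (x ≫ φ.f (n + 1) + y ≫ f ≫ I.d n (n + 1)) = 0 := by
      calc π₁ ≫ (x ≫ φ.f (n + 1) + y ≫ f ≫ I.d n (n + 1))
          = (y' ≫ D.d n (n + 1)) ≫ φ.f (n + 1) + π₁ ≫ y ≫ f ≫ I.d n (n + 1) := by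
            rw [Preadditive.comp_add, ← hy'', Category.assoc]
        _ = y' ≫ (j.f n ≫ f) ≫ I.d n (n + 1) + π₁ ≫ y ≫ f ≫ I.d n (n + 1) := by
            rw [hf.1, φ.comm n (n + 1), Category.assoc]
        _ = w ≫ f ≫ I.d n (n + 1) := by
            simp only [w, Preadditive.add_comp, Category.assoc]
            exact add_comm _ _
        _ = 0 := hw2
    exact (cancel_epi π₁).1 (key.trans comp_zero.symm))
  refine ⟨f', ⟨h1, ?_⟩, h2⟩
  have hCex := (HomologicalComplex.exactAt_iff' C n (n + 1) (n + 1 + 1) (by simp)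
    (by simp)).1 hC
  obtain ⟨T₁, π₁, hπ₁, z, hz'⟩ : ∃ (T₁ : V) (π₁ : T₁ ⟶ C.cycles (n + 1)) (_ : Epi π₁)
      (z : T₁ ⟶ C.X n), π₁ ≫ C.iCycles (n + 1) = z ≫ C.d n (n + 1) :=
    hCex.exact_up_to_refinements (C.iCycles (n + 1)) (C.iCycles_d _ _)
  rw [← cancel_epi π₁, comp_zero, ← Category.assoc, hz', Category.assoc,
    ← Category.assoc (C.d n (n + 1)), h2, Category.assoc, I.d_comp_d, comp_zero, comp_zero]

theorem exists_extension [∀ n, Mono (j.f n)] (hI : ∀ n, Injective (I.X n))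
    (hC : ∀ n, 0 < n → C.ExactAt n) (hD : ∀ n, 0 < n → D.ExactAt n)
    (g : C.homology 0 ⟶ I.homology 0)
    (hg : HomologicalComplex.homologyMap j 0 ≫ g = HomologicalComplex.homologyMap φ 0) :
    ∃ f : C ⟶ I, j ≫ f = φ ∧ HomologicalComplex.homologyMap f 0 = g := by
  haveI := hI
  haveI : IsIso (C.homologyπ 0) := C.isIso_homologyπ 0 0 (by simp) (C.shape _ _ (by simp))
  haveI : IsIso (I.homologyπ 0) := I.isIso_homologyπ 0 0 (by simp) (I.shape _ _ (by simp))
  let γ : C.cycles 0 ⟶ I.cycles 0 := C.homologyπ 0 ≫ g ≫ inv (I.homologyπ 0)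
  have hγ : HomologicalComplex.cyclesMap j 0 ≫ γ = HomologicalComplex.cyclesMap φ 0 := by
    calc HomologicalComplex.cyclesMap j 0 ≫ γ
        = (HomologicalComplex.cyclesMap j 0 ≫ C.homologyπ 0) ≫ g ≫ inv (I.homologyπ 0) := by
          simp only [γ, Category.assoc]
      _ = (D.homologyπ 0 ≫ HomologicalComplex.homologyMap j 0) ≫ g ≫ inv (I.homologyπ 0) := by
          rw [HomologicalComplex.homologyπ_naturality]
      _ = D.homologyπ 0 ≫ HomologicalComplex.homologyMap φ 0 ≫ inv (I.homologyπ 0) := by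
          rw [Category.assoc, ← Category.assoc (HomologicalComplex.homologyMap j 0), hg]
      _ = HomologicalComplex.cyclesMap φ 0 := by
          rw [← Category.assoc, HomologicalComplex.homologyπ_naturality, Category.assoc,
            IsIso.hom_inv_id, Category.comp_id]
  obtain ⟨f0, hf0, hf0'⟩ := exists_base j φ γ hγ
  have hinv0 : Inv j φ 0 f0 :=
    ⟨hf0, by rw [← Category.assoc, hf0', Category.assoc, I.iCycles_d, comp_zero]⟩
  let F : ∀ n, {f : C.X n ⟶ I.X n // Inv j φ n f} := fun n =>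
    Nat.rec (motive := fun n => {f : C.X n ⟶ I.X n // Inv j φ n f}) ⟨f0, hinv0⟩
      (fun n f => ⟨(exists_step j φ n (hC (n + 1) (Nat.succ_pos n))
          (hD (n + 1) (Nat.succ_pos n)) f.1 f.2).choose,
        (exists_step j φ n (hC (n + 1) (Nat.succ_pos n))
          (hD (n + 1) (Nat.succ_pos n)) f.1 f.2).choose_spec.1⟩) n
  have hF : ∀ n, C.d n (n + 1) ≫ (F (n + 1)).1 = (F n).1 ≫ I.d n (n + 1) := fun n =>
    (exists_step j φ n (hC (n + 1) (Nat.succ_pos n))
      (hD (n + 1) (Nat.succ_pos n)) (F n).1 (F n).2).choose_spec.2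
  let f : C ⟶ I :=
    { f := fun n => (F n).1
      comm' := by
        rintro i k (rfl : i + 1 = k)
        exact (hF i).symm }
  refine ⟨f, ?_, ?_⟩
  · ext n
    exact (F n).2.1
  · have h1 : HomologicalComplex.cyclesMap f 0 = γ := by
      rw [← cancel_mono (I.iCycles 0), HomologicalComplex.cyclesMap_i]
      exact hf0'
    rw [← cancel_epi (C.homologyπ 0), HomologicalComplex.homologyπ_naturality, h1]
    simp only [γ, Category.assoc, IsIso.inv_hom_id, Category.comp_id]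

end Ext

theorem main (C' C C'' I' I I'' : CochainComplex V ℕ)
    (jC : C' ⟶ C) (πC : C ⟶ C'') (jI : I' ⟶ I) (πI : I ⟶ I'')
    (mC : ∀ n, Mono (jC.f n)) (wC : ∀ n, jC.f n ≫ πC.f n = 0)
    (exC : ∀ n, (ShortComplex.mk (jC.f n) (πC.f n) (wC n)).Exact)
    (wI : ∀ n, jI.f n ≫ πI.f n = 0)
    (hC' : ∀ n, 0 < n → C'.ExactAt n) (hC : ∀ n, 0 < n → C.ExactAt n)
    (hC'' : ∀ n, 0 < n → C''.ExactAt n)
    (injI' : ∀ n, Injective (I'.X n)) (injI : ∀ n, Injective (I.X n))
    (injI'' : ∀ n, Injective (I''.X n))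
    (g' : C'.homology 0 ⟶ I'.homology 0) (g : C.homology 0 ⟶ I.homology 0)
    (g'' : C''.homology 0 ⟶ I''.homology 0)
    (hg1 : HomologicalComplex.homologyMap jC 0 ≫ g = g' ≫ HomologicalComplex.homologyMap jI 0)
    (hg2 : HomologicalComplex.homologyMap πC 0 ≫ g'' = g ≫ HomologicalComplex.homologyMap πI 0) :
    ∃ (f' : C' ⟶ I') (f : C ⟶ I) (f'' : C'' ⟶ I''),
      jC ≫ f = f' ≫ jI ∧ πC ≫ f'' = f ≫ πI ∧
      HomologicalComplex.homologyMap f' 0 = g' ∧ HomologicalComplex.homologyMap f 0 = g ∧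
      HomologicalComplex.homologyMap f'' 0 = g'' := by
  -- Stage 0
  have hz : ∀ n, IsZero ((0 : CochainComplex V ℕ).X n) := fun n =>
    Functor.map_isZero (HomologicalComplex.eval V (ComplexShape.up ℕ) n) (isZero_zero _)
  haveI : ∀ n, Mono ((0 : (0 : CochainComplex V ℕ) ⟶ C').f n) := fun n => (hz n).mono _
  have hzex : ∀ n, (0 : CochainComplex V ℕ).ExactAt n := fun n =>
    ShortComplex.exact_of_isZero_X₂ _ (hz n)
  obtain ⟨f', -, hf'⟩ := exists_extension (0 : (0 : CochainComplex V ℕ) ⟶ C')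
    (0 : (0 : CochainComplex V ℕ) ⟶ I') injI' hC' (fun n _ => hzex n) g'
    (((HomologicalComplex.exactAt_iff_isZero_homology _ _).1 (hzex 0)).eq_of_src _ _)
  -- Stage 1
  haveI : ∀ n, Mono (jC.f n) := mC
  obtain ⟨f, hf1, hf2⟩ := exists_extension jC (f' ≫ jI) injI hC hC' g (by
    rw [HomologicalComplex.homologyMap_comp, hf', hg1])
  -- Stage 2
  have wC' : jC ≫ πC = 0 := by
    ext n
    exact wC n
  have wI' : jI ≫ πI = 0 := by
    ext n
    exact wI n
  haveI : Mono jC := HomologicalComplex.mono_of_mono_f _ mC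
  have hex : (ShortComplex.mk jC πC wC').Exact :=
    HomologicalComplex.exact_of_degreewise_exact _ (fun n => exC n)
  let p : C ⟶ Abelian.image πC := Abelian.factorThruImage πC
  let ι : Abelian.image πC ⟶ C'' := Abelian.image.ι πC
  have hpι : p ≫ ι = πC := Abelian.image.fac πC
  have wp : jC ≫ p = 0 := by
    rw [← cancel_mono ι, Category.assoc, hpι, wC', zero_comp]
  have hex' : (ShortComplex.mk jC p wp).Exact := by
    let τ : ShortComplex.mk jC p wp ⟶ ShortComplex.mk jC πC wC' :=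
      { τ₁ := 𝟙 _, τ₂ := 𝟙 _, τ₃ := ι, comm₁₂ := by simp, comm₂₃ := by simp [hpι] }
    haveI : Epi τ.τ₁ := inferInstanceAs (Epi (𝟙 _))
    haveI : IsIso τ.τ₂ := inferInstanceAs (IsIso (𝟙 _))
    haveI : Mono τ.τ₃ := inferInstanceAs (Mono (Abelian.image.ι πC))
    exact (ShortComplex.exact_iff_of_epi_of_isIso_of_mono τ).2 hex
  haveI : Epi p := inferInstanceAs (Epi (Abelian.factorThruImage πC))
  have hSE : (ShortComplex.mk jC p wp).ShortExact :=
    ShortComplex.ShortExact.mk' hex' ‹Mono jC› ‹Epi p›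
  have hĈ : ∀ n, 0 < n → (Abelian.image πC).ExactAt n := by
    intro n hn
    rw [HomologicalComplex.exactAt_iff_isZero_homology]
    have h3 := hSE.homology_exact₃ n (n + 1) rfl
    have z1 : IsZero (C.homology n) :=
      (HomologicalComplex.exactAt_iff_isZero_homology _ _).1 (hC n hn)
    have z3 : IsZero (C'.homology (n + 1)) :=
      (HomologicalComplex.exactAt_iff_isZero_homology _ _).1 (hC' (n + 1) (Nat.succ_pos n))
    exact h3.isZero_X₂ (z1.eq_of_src _ _) (z3.eq_of_tgt _ _)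
  have hk : jC ≫ (f ≫ πI) = 0 := by
    rw [← Category.assoc, hf1, Category.assoc, wI', comp_zero]
  haveI : Epi (ShortComplex.mk jC p wp).g := ‹Epi p›
  let φ' : Abelian.image πC ⟶ I'' := hex'.desc (f ≫ πI) hk
  have hφ' : p ≫ φ' = f ≫ πI := hex'.g_desc (f ≫ πI) hk
  haveI : ∀ n, Mono (ι.f n) := fun n =>
    ((FilKInj1.shortExact_cokernel ι).map_of_exact
      (HomologicalComplex.eval V (ComplexShape.up ℕ) n)).mono_f
  have hepi : Epi (HomologicalComplex.homologyMap p 0) := by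
    have h3 := hSE.homology_exact₃ 0 1 rfl
    have z3 : IsZero (C'.homology 1) :=
      (HomologicalComplex.exactAt_iff_isZero_homology _ _).1 (hC' 1 Nat.one_pos)
    exact (ShortComplex.exact_iff_epi _ (z3.eq_of_tgt _ _)).1 h3
  obtain ⟨f'', hf1'', hf2''⟩ := exists_extension ι φ' injI'' hC'' hĈ g'' (by
    rw [← cancel_epi (HomologicalComplex.homologyMap p 0)]
    calc HomologicalComplex.homologyMap p 0 ≫ HomologicalComplex.homologyMap ι 0 ≫ g''
        = HomologicalComplex.homologyMap (p ≫ ι) 0 ≫ g'' := by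
          rw [HomologicalComplex.homologyMap_comp, Category.assoc]
      _ = HomologicalComplex.homologyMap πC 0 ≫ g'' := by rw [hpι]
      _ = HomologicalComplex.homologyMap f 0 ≫ HomologicalComplex.homologyMap πI 0 := by
          rw [hg2, hf2]
      _ = HomologicalComplex.homologyMap (p ≫ φ') 0 := by
          rw [hφ', HomologicalComplex.homologyMap_comp]
      _ = HomologicalComplex.homologyMap p 0 ≫ HomologicalComplex.homologyMap φ' 0 :=
          HomologicalComplex.homologyMap_comp _ _ _)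
  refine ⟨f', f, f'', hf1, ?_, hf', hf2, hf2''⟩
  calc πC ≫ f'' = (p ≫ ι) ≫ f'' := by rw [hpι]
    _ = p ≫ φ' := by rw [Category.assoc, hf1'']
    _ = f ≫ πI := hφ'

end Groth.Agent.Lib.CompatLift
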