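import Mathlib

/-!
# An algebra map inducing bijections on all truncations induces an isomorphism of adic completions
(helper5)
-/

set_option autoImplicit false
set_option linter.unusedVariables false

universe u

namespace Groth.Agent.Lib.ComplIsoH5

variable {A R S : Type*} [CommRing A] [CommRing R] [CommRing S] [Algebra A R] [Algebra A S]

theorem pow_le_comap (f : R →ₐ[A] S) (IR : Ideal R) (IS : Ideal S) (h : IR.map f ≤ IS) (n : ℕ) :
    IR ^ n ≤ (IS ^ n).comap f := by
  rw [← Ideal.map_le_iff_le_comap, Ideal.map_pow]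
  exact Ideal.pow_right_mono h n

/-- the map on the `n`-th truncations -/
noncomputable def lvl (f : R →ₐ[A] S) (IR : Ideal R) (IS : Ideal S) (h : IR.map f ≤ IS) (n : ℕ) :
    (R ⧸ IR ^ n) →ₐ[A] (S ⧸ IS ^ n) :=
  Ideal.quotientMapₐ (IS ^ n) f (pow_le_comap f IR IS h n)

theorem lvl_mk (f : R →ₐ[A] S) (IR : Ideal R) (IS : Ideal S) (h : IR.map f ≤ IS) (n : ℕ) (x : R) :
    lvl f IR IS h n (Ideal.Quotient.mk _ x) = Ideal.Quotient.mk _ (f x) := rfl

theorem factor_evalₐ {B : Type*} [CommRing B] (I : Ideal B) {a b : ℕ} (hab : a ≤ b)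
    (x : AdicCompletion I B) :
    Ideal.Quotient.factor (Ideal.pow_le_pow_right hab) (AdicCompletion.evalₐ I b x) =
      AdicCompletion.evalₐ I a x := by
  obtain ⟨y, rfl⟩ := AdicCompletion.mk_surjective I B x
  rw [AdicCompletion.evalₐ_mk, AdicCompletion.evalₐ_mk, Ideal.Quotient.factor_mk]
  exact AdicCompletion.Ideal.mk_eq_mk I hab y

theorem factor_lvl (f : R →ₐ[A] S) (IR : Ideal R) (IS : Ideal S) (h : IR.map f ≤ IS)
    {m n : ℕ} (hmn : m ≤ n) (x : R ⧸ IR ^ n) :
    Ideal.Quotient.factor (Ideal.pow_le_pow_right hmn) (lvl f IR IS h n x) =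
      lvl f IR IS h m (Ideal.Quotient.factor (Ideal.pow_le_pow_right hmn) x) := by
  obtain ⟨y, rfl⟩ := Ideal.Quotient.mk_surjective x
  rw [lvl_mk, Ideal.Quotient.factor_mk, Ideal.Quotient.factor_mk, lvl_mk]

theorem compat_fwd (f : R →ₐ[A] S) (IR : Ideal R) (IS : Ideal S) (h : IR.map f ≤ IS)
    {m n : ℕ} (hle : m ≤ n) :
    (Ideal.Quotient.factorₐ A (Ideal.pow_le_pow_right hle)).comp
      ((lvl f IR IS h n).comp ((AdicCompletion.evalₐ IR n).restrictScalars A)) =
    (lvl f IR IS h m).comp ((AdicCompletion.evalₐ IR m).restrictScalars A) := by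
  refine AlgHom.ext fun x => ?_
  show Ideal.Quotient.factor (Ideal.pow_le_pow_right hle)
    (lvl f IR IS h n (AdicCompletion.evalₐ IR n x)) = lvl f IR IS h m (AdicCompletion.evalₐ IR m x)
  rw [factor_lvl f IR IS h hle, factor_evalₐ IR hle]

/-- the induced map of completions -/
noncomputable def complMap (f : R →ₐ[A] S) (IR : Ideal R) (IS : Ideal S) (h : IR.map f ≤ IS) :
    AdicCompletion IR R →ₐ[A] AdicCompletion IS S :=
  AdicCompletion.liftAlgHom IS
    (fun n => (lvl f IR IS h n).comp ((AdicCompletion.evalₐ IR n).restrictScalars A))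
    (fun {m n} hle => compat_fwd f IR IS h hle)

theorem evalₐ_complMap (f : R →ₐ[A] S) (IR : Ideal R) (IS : Ideal S) (h : IR.map f ≤ IS) (n : ℕ)
    (x : AdicCompletion IR R) :
    AdicCompletion.evalₐ IS n (complMap f IR IS h x) = lvl f IR IS h n (AdicCompletion.evalₐ IR n x) :=
  AdicCompletion.evalₐ_liftAlgHom IS
    (fun n => (lvl f IR IS h n).comp ((AdicCompletion.evalₐ IR n).restrictScalars A))
    (fun {m n} hle => compat_fwd f IR IS h hle) n x

theorem complMap_of (f : R →ₐ[A] S) (IR : Ideal R) (IS : Ideal S) (h : IR.map f ≤ IS) (x : R) :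
    complMap f IR IS h (AdicCompletion.of IR R x) = AdicCompletion.of IS S (f x) := by
  apply AdicCompletion.ext_evalₐ
  intro n
  rw [evalₐ_complMap, AdicCompletion.evalₐ_of, AdicCompletion.evalₐ_of, lvl_mk]

/-- If all truncations of `f` are bijective, the completions are isomorphic as `A`-algebras,
compatibly with `f`. -/
theorem exists_algEquiv (f : R →ₐ[A] S) (IR : Ideal R) (IS : Ideal S) (h : IR.map f ≤ IS)
    (hb : ∀ n, Function.Bijective (lvl f IR IS h n)) :
    ∃ e : AdicCompletion IR R ≃ₐ[A] AdicCompletion IS S,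
      ∀ x : R, e (AdicCompletion.of IR R x) = AdicCompletion.of IS S (f x) := by
  let g : ∀ n, (S ⧸ IS ^ n) ≃ₐ[A] (R ⧸ IR ^ n) := fun n =>
    (AlgEquiv.ofBijective (lvl f IR IS h n) (hb n)).symm
  have hg : ∀ n (y : S ⧸ IS ^ n), lvl f IR IS h n (g n y) = y := fun n y =>
    (AlgEquiv.ofBijective (lvl f IR IS h n) (hb n)).apply_symm_apply y
  have hg' : ∀ n (x : R ⧸ IR ^ n), g n (lvl f IR IS h n x) = x := fun n x =>
    (AlgEquiv.ofBijective (lvl f IR IS h n) (hb n)).symm_apply_apply x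
  have hfac : ∀ {m n : ℕ} (hmn : m ≤ n) (y : S ⧸ IS ^ n),
      Ideal.Quotient.factor (Ideal.pow_le_pow_right hmn) (g n y) =
        g m (Ideal.Quotient.factor (Ideal.pow_le_pow_right hmn) y) := by
    intro m n hmn y
    apply (hb m).1
    rw [hg, ← factor_lvl f IR IS h hmn, hg]
  have hcompat : ∀ {m n : ℕ} (hle : m ≤ n),
      (Ideal.Quotient.factorₐ A (Ideal.pow_le_pow_right hle)).comp
        ((g n : (S ⧸ IS ^ n) →ₐ[A] (R ⧸ IR ^ n)).comp
          ((AdicCompletion.evalₐ IS n).restrictScalars A)) =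
      (g m : (S ⧸ IS ^ m) →ₐ[A] (R ⧸ IR ^ m)).comp
          ((AdicCompletion.evalₐ IS m).restrictScalars A) := by
    intro m n hle
    refine AlgHom.ext fun x => ?_
    show Ideal.Quotient.factor (Ideal.pow_le_pow_right hle)
      (g n (AdicCompletion.evalₐ IS n x)) = g m (AdicCompletion.evalₐ IS m x)
    rw [hfac hle, factor_evalₐ IS hle]
  let G : AdicCompletion IS S →ₐ[A] AdicCompletion IR R :=
    AdicCompletion.liftAlgHom IR
      (fun n => (g n : (S ⧸ IS ^ n) →ₐ[A] (R ⧸ IR ^ n)).comp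
        ((AdicCompletion.evalₐ IS n).restrictScalars A))
      (fun {m n} hle => hcompat hle)
  have hG : ∀ n (y : AdicCompletion IS S),
      AdicCompletion.evalₐ IR n (G y) = g n (AdicCompletion.evalₐ IS n y) := fun n y =>
    AdicCompletion.evalₐ_liftAlgHom IR
      (fun n => (g n : (S ⧸ IS ^ n) →ₐ[A] (R ⧸ IR ^ n)).comp
        ((AdicCompletion.evalₐ IS n).restrictScalars A))
      (fun {m n} hle => hcompat hle) n y
  refine ⟨AlgEquiv.ofAlgHom (complMap f IR IS h) G ?_ ?_, fun x => complMap_of f IR IS h x⟩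
  · refine AlgHom.ext fun y => ?_
    apply AdicCompletion.ext_evalₐ
    intro n
    show AdicCompletion.evalₐ IS n (complMap f IR IS h (G y)) = AdicCompletion.evalₐ IS n y
    rw [evalₐ_complMap, hG, hg]
  · refine AlgHom.ext fun x => ?_
    apply AdicCompletion.ext_evalₐ
    intro n
    show AdicCompletion.evalₐ IR n (G (complMap f IR IS h x)) = AdicCompletion.evalₐ IR n x
    rw [hG, evalₐ_complMap, hg']

end Groth.Agent.Lib.ComplIsoH5
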