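import Mathlib
import Groth.Agent.Lib.ArtinApx_helper5
import Groth.Agent.Lib.ComplIso_helper5

set_option autoImplicit false
set_option linter.style.haveILetI false
set_option linter.unusedVariables false
set_option maxHeartbeats 1600000
universe u

open TensorProduct IsLocalRing

namespace Groth.Agent.Lib.ComplBCH5

open Groth.Agent.Lib.ArtinApxH5 Groth.Agent.Lib.ComplIsoH5

section rho
variable {R Rs A₀ Kx : Type u} [CommRing R] [CommRing Rs] [Algebra R Rs] (𝔭s : Ideal R)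
  [𝔭s.IsPrime] [IsLocalization.AtPrime Rs 𝔭s] [IsLocalRing Rs]
  [CommRing A₀] [Algebra R A₀] (𝔭 : Ideal A₀) [𝔭.IsPrime]
  [CommRing Kx] [Algebra A₀ Kx] [IsLocalization.AtPrime Kx 𝔭] [IsLocalRing Kx]

/-- the local homomorphism of localizations induced by `R → A₀`. -/
theorem exists_rho (h𝔭 : 𝔭.comap (algebraMap R A₀) = 𝔭s) :
    ∃ ρ : Rs →+* Kx, (∀ r, ρ (algebraMap R Rs r) = algebraMap A₀ Kx (algebraMap R A₀ r)) ∧
      (maximalIdeal Rs).map ρ ≤ maximalIdeal Kx := by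
  have hunit : ∀ s : 𝔭s.primeCompl, IsUnit (((algebraMap A₀ Kx).comp (algebraMap R A₀)) s) := by
    intro s
    apply IsLocalization.map_units Kx (⟨algebraMap R A₀ s, ?_⟩ : 𝔭.primeCompl)
    intro h
    have h2 : (s : R) ∈ 𝔭.comap (algebraMap R A₀) := h
    rw [h𝔭] at h2
    exact s.2 h2
  let ρ : Rs →+* Kx := IsLocalization.lift (M := 𝔭s.primeCompl) hunit
  have hρ : ∀ r, ρ (algebraMap R Rs r) = algebraMap A₀ Kx (algebraMap R A₀ r) := fun r =>
    IsLocalization.lift_eq _ r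
  refine ⟨ρ, hρ, ?_⟩
  rw [← IsLocalization.AtPrime.map_eq_maximalIdeal 𝔭s Rs, Ideal.map_map, Ideal.map_le_iff_le_comap]
  intro r hr
  rw [Ideal.mem_comap]
  show ρ (algebraMap R Rs r) ∈ _
  rw [hρ, ← IsLocalization.AtPrime.map_eq_maximalIdeal 𝔭 Kx]
  apply Ideal.mem_map_of_mem
  have : r ∈ 𝔭.comap (algebraMap R A₀) := by rw [h𝔭]; exact hr
  exact this

end rho

section gmap
variable {R Rs A₀ Kx : Type u} [CommRing R] [CommRing Rs] [Algebra R Rs]
  [IsLocalRing Rs] [CommRing A₀] [Algebra R A₀]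
  [CommRing Kx] [Algebra A₀ Kx] [IsLocalRing Kx]
  (ρ : Rs →+* Kx)
  (hρ : ∀ r, ρ (algebraMap R Rs r) = algebraMap A₀ Kx (algebraMap R A₀ r))
  (hloc : (maximalIdeal Rs).map ρ ≤ maximalIdeal Kx)

include hloc in
theorem pow_le_comap_rho (n : ℕ) : maximalIdeal Rs ^ n ≤ (maximalIdeal Kx ^ n).comap ρ := by
  rw [← Ideal.map_le_iff_le_comap, Ideal.map_pow]
  exact Ideal.pow_right_mono hloc n

/-- the map of truncations induced by `ρ` -/
noncomputable def qmap (n : ℕ) : Rs ⧸ maximalIdeal Rs ^ n →+* Kx ⧸ maximalIdeal Kx ^ n :=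
  Ideal.quotientMap (maximalIdeal Kx ^ n) ρ (pow_le_comap_rho ρ hloc n)

@[simp] theorem qmap_mk (n : ℕ) (r : Rs) :
    qmap ρ hloc n (Ideal.Quotient.mk _ r) = Ideal.Quotient.mk _ (ρ r) := rfl

/-- the map `L ⊗[R] A₀ → Kx / 𝔪ⁿ` -/
noncomputable def gmap (n : ℕ) :
    AdicCompletion (maximalIdeal Rs) Rs ⊗[R] A₀ →+* Kx ⧸ maximalIdeal Kx ^ n :=
  letI : Algebra R (Kx ⧸ maximalIdeal Kx ^ n) :=
    ((Ideal.Quotient.mk (maximalIdeal Kx ^ n)).comp
      ((algebraMap A₀ Kx).comp (algebraMap R A₀))).toAlgebra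
  (Algebra.TensorProduct.lift
    (⟨(qmap ρ hloc n).comp (AdicCompletion.evalₐ (maximalIdeal Rs) n).toRingHom, fun r => by
      show qmap ρ hloc n (AdicCompletion.evalₐ (maximalIdeal Rs) n
        (algebraMap R (AdicCompletion (maximalIdeal Rs) Rs) r)) = _
      rw [IsScalarTower.algebraMap_apply R Rs (AdicCompletion (maximalIdeal Rs) Rs),
        AlgHom.commutes]
      show Ideal.Quotient.mk _ (ρ (algebraMap R Rs r)) = _
      rw [hρ]
      rfl⟩ : AdicCompletion (maximalIdeal Rs) Rs →ₐ[R] Kx ⧸ maximalIdeal Kx ^ n)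
    (⟨(Ideal.Quotient.mk (maximalIdeal Kx ^ n)).comp (algebraMap A₀ Kx), fun r => rfl⟩ :
      A₀ →ₐ[R] Kx ⧸ maximalIdeal Kx ^ n)
    (fun _ _ => Commute.all _ _)).toRingHom

theorem gmap_tmul (n : ℕ) (l : AdicCompletion (maximalIdeal Rs) Rs) (a : A₀) :
    gmap ρ hρ hloc n (l ⊗ₜ a) =
      qmap ρ hloc n (AdicCompletion.evalₐ (maximalIdeal Rs) n l) *
        Ideal.Quotient.mk _ (algebraMap A₀ Kx a) := by
  simp [gmap]

end gmap

section gmap2
variable {R Rs A₀ Kx : Type u} [CommRing R] [CommRing Rs] [Algebra R Rs]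
  [IsLocalRing Rs] [CommRing A₀] [Algebra R A₀]
  [CommRing Kx] [Algebra A₀ Kx] [IsLocalRing Kx]
  (ρ : Rs →+* Kx)
  (hρ : ∀ r, ρ (algebraMap R Rs r) = algebraMap A₀ Kx (algebraMap R A₀ r))
  (hloc : (maximalIdeal Rs).map ρ ≤ maximalIdeal Kx)

theorem factor_qmap {m n : ℕ} (hmn : m ≤ n) (z : Rs ⧸ maximalIdeal Rs ^ n) :
    Ideal.Quotient.factor (Ideal.pow_le_pow_right hmn) (qmap ρ hloc n z) =
      qmap ρ hloc m (Ideal.Quotient.factor (Ideal.pow_le_pow_right hmn) z) := by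
  obtain ⟨r, rfl⟩ := Ideal.Quotient.mk_surjective z
  simp

theorem factor_gmap {m n : ℕ} (hmn : m ≤ n)
    (z : AdicCompletion (maximalIdeal Rs) Rs ⊗[R] A₀) :
    Ideal.Quotient.factor (Ideal.pow_le_pow_right hmn) (gmap ρ hρ hloc n z) =
      gmap ρ hρ hloc m z := by
  induction z with
  | zero => simp
  | add x y hx hy => rw [map_add, map_add, map_add, hx, hy]
  | tmul l a =>
    rw [gmap_tmul, gmap_tmul, map_mul, factor_qmap ρ hloc hmn,
      factor_evalₐ (maximalIdeal Rs) hmn, Ideal.Quotient.factor_mk]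

end gmap2

section prime
variable {R Rs A₀ Kx : Type u} [CommRing R] [CommRing Rs] [Algebra R Rs]
  [IsLocalRing Rs] [CommRing A₀] [Algebra R A₀]
  [CommRing Kx] [Algebra A₀ Kx] [IsLocalRing Kx]
  (ρ : Rs →+* Kx)
  (hρ : ∀ r, ρ (algebraMap R Rs r) = algebraMap A₀ Kx (algebraMap R A₀ r))
  (hloc : (maximalIdeal Rs).map ρ ≤ maximalIdeal Kx)

/-- the prime of `L ⊗[R] A₀` over the closed point and `𝔭` -/
noncomputable def primeBC : Ideal (AdicCompletion (maximalIdeal Rs) Rs ⊗[R] A₀) :=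
  RingHom.ker (gmap ρ hρ hloc 1)

instance : (primeBC ρ hρ hloc).IsPrime := by
  haveI : (maximalIdeal Kx ^ 1).IsPrime := by rw [pow_one]; infer_instance
  exact RingHom.ker_isPrime _

theorem mem_primeBC_iff (z : AdicCompletion (maximalIdeal Rs) Rs ⊗[R] A₀) (k : Kx) (n : ℕ)
    (hn : 1 ≤ n) (hk : gmap ρ hρ hloc n z = Ideal.Quotient.mk _ k) :
    z ∈ primeBC ρ hρ hloc ↔ k ∈ maximalIdeal Kx := by
  have h1 := factor_gmap ρ hρ hloc hn z
  rw [hk, Ideal.Quotient.factor_mk] at h1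
  show gmap ρ hρ hloc 1 z = 0 ↔ _
  rw [← h1, Ideal.Quotient.eq_zero_iff_mem, pow_one]

theorem isUnit_gmap_of_notMem (z : AdicCompletion (maximalIdeal Rs) Rs ⊗[R] A₀)
    (hz : z ∉ primeBC ρ hρ hloc) (n : ℕ) : IsUnit (gmap ρ hρ hloc n z) := by
  rcases Nat.eq_zero_or_pos n with rfl | hn
  · haveI : Subsingleton (Kx ⧸ maximalIdeal Kx ^ 0) := by
      rw [pow_zero, Ideal.one_eq_top]
      exact Ideal.Quotient.subsingleton_iff.mpr rfl
    exact isUnit_of_subsingleton _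
  · obtain ⟨k, hk⟩ := Ideal.Quotient.mk_surjective (gmap ρ hρ hloc n z)
    have h1 := (mem_primeBC_iff ρ hρ hloc z k n hn hk.symm).not.mp hz
    have hu : IsUnit k := by
      by_contra h
      exact h1 h
    rw [← hk]
    exact hu.map _

theorem gmap_mem_of_mem (z : AdicCompletion (maximalIdeal Rs) Rs ⊗[R] A₀)
    (hz : z ∈ primeBC ρ hρ hloc) (n : ℕ) :
    gmap ρ hρ hloc n z ∈ (maximalIdeal Kx).map (Ideal.Quotient.mk (maximalIdeal Kx ^ n)) := by
  rcases Nat.eq_zero_or_pos n with rfl | hn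
  · haveI : Subsingleton (Kx ⧸ maximalIdeal Kx ^ 0) := by
      rw [pow_zero, Ideal.one_eq_top]
      exact Ideal.Quotient.subsingleton_iff.mpr rfl
    rw [Subsingleton.elim (gmap ρ hρ hloc 0 z) 0]
    exact Ideal.zero_mem _
  · obtain ⟨k, hk⟩ := Ideal.Quotient.mk_surjective (gmap ρ hρ hloc n z)
    have h1 := (mem_primeBC_iff ρ hρ hloc z k n hn hk.symm).mp hz
    rw [← hk]
    exact Ideal.mem_map_of_mem _ h1

theorem one_tmul_mem_primeBC_iff (𝔭 : Ideal A₀) [𝔭.IsPrime] [IsLocalization.AtPrime Kx 𝔭]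
    (a : A₀) : (1 : AdicCompletion (maximalIdeal Rs) Rs) ⊗ₜ[R] a ∈ primeBC ρ hρ hloc ↔ a ∈ 𝔭 := by
  have h1 : gmap ρ hρ hloc 1 ((1 : AdicCompletion (maximalIdeal Rs) Rs) ⊗ₜ[R] a) =
      Ideal.Quotient.mk _ (algebraMap A₀ Kx a) := by
    rw [gmap_tmul, map_one, map_one, one_mul]
  rw [mem_primeBC_iff ρ hρ hloc _ _ 1 le_rfl h1,
    IsLocalization.AtPrime.to_map_mem_maximal_iff Kx 𝔭]

theorem tmul_one_mem_primeBC [IsNoetherianRing Rs] (l : AdicCompletion (maximalIdeal Rs) Rs)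
    (hl : l ∈ maximalIdeal (AdicCompletion (maximalIdeal Rs) Rs)) :
    l ⊗ₜ[R] (1 : A₀) ∈ primeBC ρ hρ hloc := by
  show gmap ρ hρ hloc 1 (l ⊗ₜ 1) = 0
  rw [gmap_tmul, map_one, map_one, mul_one]
  have h1 : AdicCompletion.evalₐ (maximalIdeal Rs) 1 l = 0 := by
    rw [AdicCompletion.maximalIdeal_eq_map] at hl
    have hle : (maximalIdeal Rs).map (algebraMap Rs (AdicCompletion (maximalIdeal Rs) Rs)) ≤
        RingHom.ker (AdicCompletion.evalₐ (maximalIdeal Rs) 1).toRingHom := by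
      rw [Ideal.map_le_iff_le_comap]
      intro a ha
      rw [Ideal.mem_comap, RingHom.mem_ker]
      show AdicCompletion.evalₐ (maximalIdeal Rs) 1 (algebraMap Rs _ a) = 0
      rw [AlgHom.commutes]
      show Ideal.Quotient.mk _ a = 0
      rw [Ideal.Quotient.eq_zero_iff_mem, pow_one]
      exact ha
    exact hle hl
  rw [h1, map_zero]

end prime

section iso
variable {R Rs A₀ Kx : Type u} [CommRing R] [CommRing Rs] [Algebra R Rs]
  [IsLocalRing Rs] [IsNoetherianRing Rs] [CommRing A₀] [Algebra R A₀]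
  [CommRing Kx] [Algebra A₀ Kx] [IsLocalRing Kx]
  (ρ : Rs →+* Kx)
  (hρ : ∀ r, ρ (algebraMap R Rs r) = algebraMap A₀ Kx (algebraMap R A₀ r))
  (hloc : (maximalIdeal Rs).map ρ ≤ maximalIdeal Kx)
  (𝔭 : Ideal A₀) [𝔭.IsPrime] [IsLocalization.AtPrime Kx 𝔭]
  (K : Type u) [CommRing K] [Algebra (AdicCompletion (maximalIdeal Rs) Rs ⊗[R] A₀) K]
  [IsLocalRing K]

include 𝔭 in
omit [IsNoetherianRing Rs] in
theorem exists_fmap [IsLocalization.AtPrime K (primeBC ρ hρ hloc)] :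
    ∃ f : Kx →+* K, (∀ a, f (algebraMap A₀ Kx a) =
        algebraMap (AdicCompletion (maximalIdeal Rs) Rs ⊗[R] A₀) K (1 ⊗ₜ a)) ∧
      (maximalIdeal Kx).map f ≤ maximalIdeal K := by
  have hunit : ∀ s : 𝔭.primeCompl,
      IsUnit (((algebraMap (AdicCompletion (maximalIdeal Rs) Rs ⊗[R] A₀) K).comp
        (Algebra.TensorProduct.includeRight :
          A₀ →ₐ[R] AdicCompletion (maximalIdeal Rs) Rs ⊗[R] A₀).toRingHom) s) := by
    intro s
    apply IsLocalization.map_units K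
      (⟨(1 : AdicCompletion (maximalIdeal Rs) Rs) ⊗ₜ[R] (s : A₀), ?_⟩ :
        (primeBC ρ hρ hloc).primeCompl)
    intro h
    exact s.2 ((one_tmul_mem_primeBC_iff ρ hρ hloc 𝔭 _).mp h)
  let f : Kx →+* K := IsLocalization.lift (M := 𝔭.primeCompl) hunit
  have hf : ∀ a, f (algebraMap A₀ Kx a) =
      algebraMap (AdicCompletion (maximalIdeal Rs) Rs ⊗[R] A₀) K (1 ⊗ₜ a) := fun a =>
    IsLocalization.lift_eq _ a
  refine ⟨f, hf, ?_⟩
  rw [← IsLocalization.AtPrime.map_eq_maximalIdeal 𝔭 Kx, Ideal.map_map, Ideal.map_le_iff_le_comap]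
  intro a ha
  rw [Ideal.mem_comap]
  show f (algebraMap A₀ Kx a) ∈ _
  rw [hf, IsLocalization.AtPrime.to_map_mem_maximal_iff K (primeBC ρ hρ hloc)]
  exact (one_tmul_mem_primeBC_iff ρ hρ hloc 𝔭 _).mpr ha

end iso

section iso2
variable {R Rs A₀ Kx : Type u} [CommRing R] [CommRing Rs] [Algebra R Rs]
  [IsLocalRing Rs] [IsNoetherianRing Rs] [CommRing A₀] [Algebra R A₀]
  [CommRing Kx] [Algebra A₀ Kx] [IsLocalRing Kx]
  (ρ : Rs →+* Kx)
  (hρ : ∀ r, ρ (algebraMap R Rs r) = algebraMap A₀ Kx (algebraMap R A₀ r))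
  (hloc : (maximalIdeal Rs).map ρ ≤ maximalIdeal Kx)
  (𝔭s : Ideal R) [𝔭s.IsPrime] [IsLocalization.AtPrime Rs 𝔭s]
  (𝔭 : Ideal A₀) [𝔭.IsPrime] [IsLocalization.AtPrime Kx 𝔭]
  (K : Type u) [CommRing K] [Algebra (AdicCompletion (maximalIdeal Rs) Rs ⊗[R] A₀) K]
  [IsLocalRing K]

include 𝔭 𝔭s in
/-- **The completion of the local ring of the base change to the completion of the base.** -/
theorem exists_complIso [IsLocalization.AtPrime K (primeBC ρ hρ hloc)] :
    ∃ e : AdicCompletion (maximalIdeal Kx) Kx ≃+* AdicCompletion (maximalIdeal K) K,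
      ∀ a : A₀, e (algebraMap Kx (AdicCompletion (maximalIdeal Kx) Kx) (algebraMap A₀ Kx a)) =
        algebraMap K (AdicCompletion (maximalIdeal K) K)
          (algebraMap (AdicCompletion (maximalIdeal Rs) Rs ⊗[R] A₀) K (1 ⊗ₜ a)) := by
  classical
  obtain ⟨f, hf, hfm⟩ := exists_fmap ρ hρ hloc 𝔭 K
  have hmapdef : ∀ n, ∃ h : K →+* Kx ⧸ maximalIdeal Kx ^ n,
      ∀ z, h (algebraMap (AdicCompletion (maximalIdeal Rs) Rs ⊗[R] A₀) K z) =
        gmap ρ hρ hloc n z := fun n =>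
    ⟨IsLocalization.lift (M := (primeBC ρ hρ hloc).primeCompl) (g := gmap ρ hρ hloc n)
      (fun y => isUnit_gmap_of_notMem ρ hρ hloc y.1 y.2 n), fun z => IsLocalization.lift_eq _ z⟩
  choose hm hhm using hmapdef
  have hkill : ∀ n, ∀ y ∈ maximalIdeal K ^ n, hm n y = 0 := by
    intro n
    have h1 : (maximalIdeal K).map (hm n) ≤
        (maximalIdeal Kx).map (Ideal.Quotient.mk (maximalIdeal Kx ^ n)) := by
      rw [← IsLocalization.AtPrime.map_eq_maximalIdeal (primeBC ρ hρ hloc) K, Ideal.map_map,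
        Ideal.map_le_iff_le_comap]
      intro z hz
      rw [Ideal.mem_comap]
      show hm n (algebraMap _ K z) ∈ _
      rw [hhm]
      exact gmap_mem_of_mem ρ hρ hloc z hz n
    have h2 : (maximalIdeal K ^ n).map (hm n) ≤ ⊥ := by
      rw [Ideal.map_pow]
      refine (Ideal.pow_right_mono h1 n).trans ?_
      rw [← Ideal.map_pow, Ideal.map_quotient_self]
    intro y hy
    have := h2 (Ideal.mem_map_of_mem _ hy)
    simpa using this
  let hb : ∀ n, K ⧸ maximalIdeal K ^ n →+* Kx ⧸ maximalIdeal Kx ^ n := fun n =>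
    Ideal.Quotient.lift _ (hm n) (hkill n)
  have hb_mk : ∀ n y, hb n (Ideal.Quotient.mk _ y) = hm n y := fun n y => rfl
  let fA : Kx →ₐ[ℤ] K := f.toIntAlgHom
  have hfA : ∀ x, fA x = f x := fun x => rfl
  have hfm' : (maximalIdeal Kx).map fA ≤ maximalIdeal K := hfm
  -- `hm n ∘ f = mk`
  have hmf : ∀ n x, hm n (f x) = Ideal.Quotient.mk _ x := by
    intro n
    have : (hm n).comp f = Ideal.Quotient.mk (maximalIdeal Kx ^ n) := by
      apply IsLocalization.ringHom_ext 𝔭.primeCompl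
      refine RingHom.ext fun a => ?_
      show hm n (f (algebraMap A₀ Kx a)) = Ideal.Quotient.mk _ (algebraMap A₀ Kx a)
      rw [hf, hhm, gmap_tmul, map_one, map_one, one_mul]
    exact fun x => RingHom.congr_fun this x
  -- the map `Rs → K`
  have hμ : ∀ r' : Rs, f (ρ r') = algebraMap (AdicCompletion (maximalIdeal Rs) Rs ⊗[R] A₀) K
      (algebraMap Rs (AdicCompletion (maximalIdeal Rs) Rs) r' ⊗ₜ 1) := by
    have : f.comp ρ = ((algebraMap (AdicCompletion (maximalIdeal Rs) Rs ⊗[R] A₀) K).comp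
        (Algebra.TensorProduct.includeLeftRingHom)).comp
          (algebraMap Rs (AdicCompletion (maximalIdeal Rs) Rs)) := by
      apply IsLocalization.ringHom_ext 𝔭s.primeCompl
      refine RingHom.ext fun r => ?_
      show f (ρ (algebraMap R Rs r)) = algebraMap _ K
        (algebraMap Rs (AdicCompletion (maximalIdeal Rs) Rs) (algebraMap R Rs r) ⊗ₜ 1)
      rw [hρ, hf, ← IsScalarTower.algebraMap_apply R Rs (AdicCompletion (maximalIdeal Rs) Rs)]
      congr 1
      rw [Algebra.algebraMap_eq_smul_one, Algebra.algebraMap_eq_smul_one, TensorProduct.smul_tmul]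
    exact fun r' => RingHom.congr_fun this r'
  -- `𝔪ⁿ L ⊗ 1` goes into `𝔪_Kⁿ`
  have hμm : ∀ (n : ℕ) (l : AdicCompletion (maximalIdeal Rs) Rs),
      l ∈ (maximalIdeal Rs ^ n).map (algebraMap Rs (AdicCompletion (maximalIdeal Rs) Rs)) →
      algebraMap (AdicCompletion (maximalIdeal Rs) Rs ⊗[R] A₀) K (l ⊗ₜ 1) ∈ maximalIdeal K ^ n := by
    intro n l hl
    let ν : AdicCompletion (maximalIdeal Rs) Rs →+* K :=
      (algebraMap (AdicCompletion (maximalIdeal Rs) Rs ⊗[R] A₀) K).comp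
        Algebra.TensorProduct.includeLeftRingHom
    have h1 : (maximalIdeal Rs).map
        (ν.comp (algebraMap Rs (AdicCompletion (maximalIdeal Rs) Rs))) ≤ maximalIdeal K := by
      rw [Ideal.map_le_iff_le_comap]
      intro r' hr'
      rw [Ideal.mem_comap]
      show algebraMap _ K (algebraMap Rs (AdicCompletion (maximalIdeal Rs) Rs) r' ⊗ₜ 1) ∈ _
      rw [IsLocalization.AtPrime.to_map_mem_maximal_iff K (primeBC ρ hρ hloc)]
      apply tmul_one_mem_primeBC
      rw [AdicCompletion.maximalIdeal_eq_map]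
      exact Ideal.mem_map_of_mem _ hr'
    have h2 : ((maximalIdeal Rs ^ n).map
        (algebraMap Rs (AdicCompletion (maximalIdeal Rs) Rs))).map ν ≤ maximalIdeal K ^ n := by
      rw [Ideal.map_map, Ideal.map_pow]
      exact Ideal.pow_right_mono h1 n
    exact h2 (Ideal.mem_map_of_mem ν hl)
  have hbij : ∀ n, Function.Bijective (lvl fA (maximalIdeal Kx) (maximalIdeal K) hfm' n) := by
    intro n
    have hleft : ∀ x, hb n (lvl fA _ _ hfm' n x) = x := by
      intro x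
      obtain ⟨x, rfl⟩ := Ideal.Quotient.mk_surjective x
      rw [lvl_mk, hb_mk, hfA, hmf]
    have hright : ∀ y, lvl fA _ _ hfm' n (hb n y) = y := by
      intro y
      obtain ⟨y, rfl⟩ := Ideal.Quotient.mk_surjective y
      rw [hb_mk]
      have : ((lvl fA _ _ hfm' n).toRingHom.comp (hm n)) =
          Ideal.Quotient.mk (maximalIdeal K ^ n) := by
        apply IsLocalization.ringHom_ext (primeBC ρ hρ hloc).primeCompl
        refine RingHom.ext fun z => ?_
        show lvl fA _ _ hfm' n (hm n (algebraMap _ K z)) =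
          Ideal.Quotient.mk _ (algebraMap _ K z)
        rw [hhm]
        induction z with
        | zero => simp
        | add x y hx hy => rw [map_add, map_add, map_add, map_add, hx, hy]
        | tmul l a =>
          have e0 : l ⊗ₜ[R] a = (l ⊗ₜ[R] (1 : A₀)) *
              ((1 : AdicCompletion (maximalIdeal Rs) Rs) ⊗ₜ[R] a) := by simp
          rw [e0, map_mul, map_mul, map_mul, map_mul]
          congr 1
          · obtain ⟨r', hr'⟩ := Ideal.Quotient.mk_surjective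
              (AdicCompletion.evalₐ (maximalIdeal Rs) n l)
            rw [gmap_tmul, map_one, map_one, mul_one, ← hr', qmap_mk, lvl_mk, hfA, hμ]
            rw [Ideal.Quotient.eq, ← map_sub, ← TensorProduct.sub_tmul]
            apply hμm
            apply mem_map_of_evalₐ_eq_zero _ (IsNoetherian.noetherian _) n
            rw [map_sub, AlgHom.commutes, ← hr']
            exact sub_self _
          · rw [gmap_tmul, map_one, map_one, one_mul, lvl_mk, hfA, hf]
      exact RingHom.congr_fun this y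
    exact ⟨Function.LeftInverse.injective hleft, Function.RightInverse.surjective hright⟩
  obtain ⟨e, he⟩ := exists_algEquiv fA _ _ hfm' hbij
  refine ⟨e.toRingEquiv, fun a => ?_⟩
  have h1 := he (algebraMap A₀ Kx a)
  rw [hfA, hf] at h1
  exact h1

end iso2

end Groth.Agent.Lib.ComplBCH5
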