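import Mathlib
import Groth.Prelude.Def_FSch3
import Groth.Agent.Lib.ClImmNhd_helper4

/-! Completed morphisms whose levels are closed immersions (helper5).
APPEND-ONLY once landed. -/

set_option autoImplicit false
universe u

open CategoryTheory CategoryTheory.Limits AlgebraicGeometry TopologicalSpace

namespace Groth.Agent.Lib.ComplClImm

open Groth.Agent.Lib.ClImmNhdH4 Scheme.IdealSheafData

theorem isIso_residueFieldMap_of_isClosedImmersion {S S' : Scheme.{u}} (i : S ⟶ S')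
    [IsClosedImmersion i] (s : S) : IsIso (i.residueFieldMap s) := by
  rw [ConcreteCategory.isIso_iff_bijective]
  refine ⟨RingHom.injective _, ?_⟩
  intro r
  obtain ⟨a, rfl⟩ := IsLocalRing.residue_surjective (R := S.presheaf.stalk s) r
  obtain ⟨b, rfl⟩ := i.stalkMap_surjective s a
  refine ⟨S'.residue (i s) b, ?_⟩
  have := congrArg (fun φ => CommRingCat.Hom.hom φ b) (Scheme.residue_residueFieldMap i s)
  exact this

theorem exists_lift_fromSpecResidueField {S S' : Scheme.{u}} (i : S ⟶ S') [IsClosedImmersion i]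
    (s : S) : ∃ σ : Spec (S'.residueField (i s)) ⟶ S, σ ≫ i = S'.fromSpecResidueField (i s) := by
  haveI := isIso_residueFieldMap_of_isClosedImmersion i s
  refine ⟨Spec.map (inv (i.residueFieldMap s)) ≫ S.fromSpecResidueField s, ?_⟩
  rw [Category.assoc, ← Scheme.Hom.SpecMap_residueFieldMap_fromSpecResidueField,
    ← Spec.map_comp_assoc, IsIso.hom_inv_id, Spec.map_id, Category.id_comp]

/-- If the base change of `f` along a closed immersion `j` is a closed immersion, then the fibres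
of `f` over points of the closed subscheme are empty or a reduced point. -/
theorem fibre_cond_of_isPullback {P X Y Y' : Scheme.{u}} {fst : P ⟶ X} {snd : P ⟶ Y'}
    {f : X ⟶ Y} {j : Y' ⟶ Y} (sq : IsPullback fst snd f j) [IsClosedImmersion j]
    [hsnd : IsClosedImmersion snd] (y' : Y') :
    IsEmpty ↥(f.fiber (j y')) ∨ IsIso (f.fiberToSpecResidueField (j y')) := by
  obtain ⟨σ, hσ⟩ := exists_lift_fromSpecResidueField j y'
  have s : IsPullback (f.fiberι (j y')) (f.fiberToSpecResidueField (j y')) f (σ ≫ j) := by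
    rw [hσ]; exact IsPullback.of_hasPullback _ _
  have r := IsPullback.of_right' s sq
  haveI : IsClosedImmersion (f.fiberToSpecResidueField (j y')) :=
    MorphismProperty.of_isPullback (P := @IsClosedImmersion) r hsnd
  exact isEmpty_or_isIso_of_isClosedImmersion (Field.toIsField _)
    (f.fiberToSpecResidueField (j y'))

theorem exists_nhd_of_closed_set {P : MorphismProperty Scheme.{u}} [IsZariskiLocalAtTarget P]
    {X Y S : Scheme.{u}} (f : X ⟶ Y) (h : Y ⟶ S) [UniversallyClosed h]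
    (A : Set S) (H : ∀ y : Y, h y ∈ A → ∃ V : Y.Opens, y ∈ V ∧ P (f ∣_ V)) :
    ∃ U : S.Opens, A ⊆ U ∧ P (f ∣_ (h ⁻¹ᵁ U)) := by
  let T : Set Y := {y | ∃ V : Y.Opens, y ∈ V ∧ P (f ∣_ V)}
  have hT : IsOpen T := by
    refine isOpen_iff_forall_mem_open.mpr ?_
    rintro y ⟨V, hyV, hV⟩
    exact ⟨V, fun y' hy' => ⟨V, hy', hV⟩, V.2, hyV⟩
  have hcl : IsClosed (h '' Tᶜ) := h.isClosedMap _ hT.isClosed_compl
  refine ⟨⟨(h '' Tᶜ)ᶜ, hcl.isOpen_compl⟩, ?_, ?_⟩
  · rintro s hs ⟨y, hy, rfl⟩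
    exact hy (H y hs)
  · refine restrict_of_forall_exists f _ fun a ha => ?_
    have ha' : h a ∉ h '' Tᶜ := ha
    by_contra hnot
    exact ha' ⟨a, hnot, rfl⟩

theorem exists_open_of_level_zero {X Y Z : Scheme.{u}} (h : Y ⟶ Z) [UniversallyClosed h]
    (f : X ⟶ Y) [LocallyOfFiniteType f] [UniversallyClosed f] (𝓙 : Z.IdealSheafData)
    (hc0 : (𝓙.comap h) ^ (0 + 1) ≤ ((𝓙.comap (f ≫ h)) ^ (0 + 1)).map f)
    [H : IsClosedImmersion (subschemeMap _ _ f hc0)] :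
    ∃ U : Z.Opens, (𝓙.support : Set Z) ⊆ U ∧ IsClosedImmersion (f ∣_ h ⁻¹ᵁ U) := by
  have sq : IsPullback ((𝓙.comap (f ≫ h)) ^ (0 + 1)).subschemeι (subschemeMap _ _ f hc0) f
      ((𝓙.comap h) ^ (0 + 1)).subschemeι := by
    refine isPullback_of_isClosedImmersion _ _ _ _ (subschemeMap_subschemeι _ _ _ _).symm ?_
    rw [ker_subschemeι, ker_subschemeι, zero_add, pow_one, pow_one, comap_comp]
  refine exists_nhd_of_closed_set (P := @IsClosedImmersion) f h _ fun y hy => ?_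
  have hy' : y ∈ Set.range ((𝓙.comap h) ^ (0 + 1)).subschemeι := by
    rw [range_subschemeι, support_pow_succ, support_comap]
    exact hy
  obtain ⟨y', rfl⟩ := hy'
  refine (main2803 f _).mpr ⟨fibre_cond_of_isPullback sq y', ⊤, trivial, ?_⟩
  exact IsZariskiLocalAtTarget.restrict (P := @UniversallyClosed) inferInstance _

theorem isClosedImmersion_level {X Y Z : Scheme.{u}} (h : Y ⟶ Z) (f : X ⟶ Y)
    (𝓙 : Z.IdealSheafData) (U : Z.Opens) (hU : (𝓙.support : Set Z) ⊆ U)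
    [hcl : IsClosedImmersion (f ∣_ h ⁻¹ᵁ U)] (n : ℕ)
    (hcn : (𝓙.comap h) ^ (n + 1) ≤ ((𝓙.comap (f ≫ h)) ^ (n + 1)).map f) :
    IsClosedImmersion (subschemeMap _ _ f hcn) := by
  have hfac : subschemeMap _ _ f hcn ≫ ((𝓙.comap h) ^ (n + 1)).subschemeι =
      ((𝓙.comap (f ≫ h)) ^ (n + 1)).subschemeι ≫ f := subschemeMap_subschemeι _ _ _ _
  have hrj : Set.range ((𝓙.comap h) ^ (n + 1)).subschemeι ⊆ Set.range (h ⁻¹ᵁ U).ι := by
    rw [range_subschemeι, support_pow_succ, support_comap, Scheme.Opens.range_ι]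
    intro y hy
    exact hU hy
  have hri : Set.range ((𝓙.comap (f ≫ h)) ^ (n + 1)).subschemeι ⊆
      Set.range (f ⁻¹ᵁ h ⁻¹ᵁ U).ι := by
    rw [range_subschemeι, support_pow_succ, support_comap, Scheme.Opens.range_ι]
    intro x hx
    exact hU hx
  obtain ⟨j', hj'⟩ : ∃ j' : ((𝓙.comap h) ^ (n + 1)).subscheme ⟶ (h ⁻¹ᵁ U).toScheme,
      j' ≫ (h ⁻¹ᵁ U).ι = ((𝓙.comap h) ^ (n + 1)).subschemeι :=
    ⟨IsOpenImmersion.lift _ _ hrj, IsOpenImmersion.lift_fac _ _ _⟩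
  obtain ⟨i', hi'⟩ : ∃ i' : ((𝓙.comap (f ≫ h)) ^ (n + 1)).subscheme ⟶
      (f ⁻¹ᵁ h ⁻¹ᵁ U).toScheme,
      i' ≫ (f ⁻¹ᵁ h ⁻¹ᵁ U).ι = ((𝓙.comap (f ≫ h)) ^ (n + 1)).subschemeι :=
    ⟨IsOpenImmersion.lift _ _ hri, IsOpenImmersion.lift_fac _ _ _⟩
  haveI : IsClosedImmersion i' := by
    haveI : IsClosedImmersion (i' ≫ (f ⁻¹ᵁ h ⁻¹ᵁ U).ι) := by rw [hi']; infer_instance
    exact IsClosedImmersion.of_comp i' (f ⁻¹ᵁ h ⁻¹ᵁ U).ι
  haveI : IsClosedImmersion j' := by
    haveI : IsClosedImmersion (j' ≫ (h ⁻¹ᵁ U).ι) := by rw [hj']; infer_instance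
    exact IsClosedImmersion.of_comp j' (h ⁻¹ᵁ U).ι
  have hsq : subschemeMap _ _ f hcn ≫ j' = i' ≫ (f ∣_ h ⁻¹ᵁ U) := by
    rw [← cancel_mono (h ⁻¹ᵁ U).ι, Category.assoc, hj', Category.assoc, morphismRestrict_ι,
      ← Category.assoc, hi', hfac]
  haveI : IsClosedImmersion (subschemeMap _ _ f hcn ≫ j') := by rw [hsq]; infer_instance
  exact IsClosedImmersion.of_comp (subschemeMap _ _ f hcn) j'

theorem main {X Y Z : Scheme.{u}}
    (g : X ⟶ Z) (h : Y ⟶ Z) [IsProper g] [IsProper h] (f : X ⟶ Y) (w : f ≫ h = g)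
    (𝓙 : Z.IdealSheafData) (hc : FSch.PowCompat f (𝓙.comap g) (𝓙.comap h)) :
    (∀ n : ℕ, IsClosedImmersion
        ((FSch.completionMap f (𝓙.comap g) (𝓙.comap h) hc : FSch.Hom _ _).app n)) ↔
      ∃ U : Z.Opens, (𝓙.support : Set Z) ⊆ U ∧ IsClosedImmersion (f ∣_ h ⁻¹ᵁ U) := by
  subst w
  haveI : IsProper f := IsProper.of_comp f h
  constructor
  · intro H
    have H0 := H 0
    rw [FSch.completionMap_app] at H0
    exact exists_open_of_level_zero h f 𝓙 _ (H := H0)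
  · rintro ⟨U, hU, hcl⟩ n
    rw [FSch.completionMap_app]
    exact isClosedImmersion_level h f 𝓙 U hU n _ (hcl := hcl)

end Groth.Agent.Lib.ComplClImm
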