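import Mathlib
import Groth.Prelude.Def_FSch3
import Groth.Agent.Lib.ComplClImm1_helper5
import Groth.Agent.Lib.ComapIdeal_helper4

/-! Completed morphisms whose levels are isomorphisms (helper5).
APPEND-ONLY once landed. -/

set_option autoImplicit false
universe u

open CategoryTheory CategoryTheory.Limits AlgebraicGeometry TopologicalSpace

namespace Groth.Agent.Lib.ComplClImm

open Groth.Agent.Lib.ClImmNhdH4 Scheme.IdealSheafData

theorem exists_affine_pair {X Y : Scheme.{u}} (p : Y ⟶ X) (y : Y) :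
    ∃ (V : X.affineOpens) (U : Y.affineOpens), y ∈ U.1 ∧ U.1 ≤ p ⁻¹ᵁ V.1 := by
  obtain ⟨_, ⟨V, hV : IsAffineOpen V, rfl⟩, hyV, -⟩ :=
    (X.isBasis_affineOpens).exists_subset_of_mem_open (Set.mem_univ (p y)) isOpen_univ
  obtain ⟨_, ⟨U, hU : IsAffineOpen U, rfl⟩, hyU, hUV⟩ :=
    (Y.isBasis_affineOpens).exists_subset_of_mem_open
      (show y ∈ ((p ⁻¹ᵁ V : Y.Opens) : Set Y) from hyV) (p ⁻¹ᵁ V).2
  exact ⟨⟨V, hV⟩, ⟨U, hU⟩, hyU, hUV⟩

/-- Inverse image of ideal sheaves commutes with products. -/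
theorem comap_mul {X Y : Scheme.{u}} (p : Y ⟶ X) (I J : X.IdealSheafData) :
    (I * J).comap p = I.comap p * J.comap p := by
  let ι := {U : Y.affineOpens // ∃ V : X.affineOpens, (U : Y.Opens) ≤ p ⁻¹ᵁ (V : X.Opens)}
  refine Scheme.IdealSheafData.ext_of_iSup_eq_top (ι := ι) (fun i => i.1) ?_ ?_
  · rw [eq_top_iff]
    intro y _
    obtain ⟨V, U, hyU, hUV⟩ := exists_affine_pair p y
    exact TopologicalSpace.Opens.mem_iSup.mpr ⟨⟨U, V, hUV⟩, hyU⟩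
  · rintro ⟨U, V, hUV⟩
    show ((I * J).comap p).ideal U = (I.comap p).ideal U * (J.comap p).ideal U
    rw [ComapIdeal_helper4.comap_ideal_eq p _ V U hUV, ComapIdeal_helper4.comap_ideal_eq p _ V U hUV,
      ComapIdeal_helper4.comap_ideal_eq p _ V U hUV]
    show Ideal.map _ (I.ideal V * J.ideal V) = _
    rw [Ideal.map_mul]

theorem comap_pow {X Y : Scheme.{u}} (p : Y ⟶ X) (I : X.IdealSheafData) (n : ℕ) :
    (I ^ n).comap p = (I.comap p) ^ n := by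
  induction n with
  | zero =>
    rw [pow_zero, pow_zero, Scheme.IdealSheafData.one_eq_top, Scheme.IdealSheafData.one_eq_top,
      Scheme.IdealSheafData.comap_top]
  | succ k ih => rw [pow_succ, comap_mul, ih, pow_succ]

/-- Every level of the completed morphism is the base change of `f`. -/
theorem level_isPullback {X Y Z : Scheme.{u}} (h : Y ⟶ Z) (f : X ⟶ Y)
    (𝓙 : Z.IdealSheafData) (n : ℕ)
    (hcn : (𝓙.comap h) ^ (n + 1) ≤ ((𝓙.comap (f ≫ h)) ^ (n + 1)).map f) :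
    IsPullback ((𝓙.comap (f ≫ h)) ^ (n + 1)).subschemeι (subschemeMap _ _ f hcn) f
      ((𝓙.comap h) ^ (n + 1)).subschemeι := by
  refine isPullback_of_isClosedImmersion _ _ _ _ (subschemeMap_subschemeι _ _ _ _).symm ?_
  rw [ker_subschemeι, ker_subschemeι, comap_pow, comap_comp]

theorem isIso_level {X Y Z : Scheme.{u}} (h : Y ⟶ Z) (f : X ⟶ Y)
    (𝓙 : Z.IdealSheafData) (U : Z.Opens) (hU : (𝓙.support : Set Z) ⊆ U)
    [hiso : IsIso (f ∣_ h ⁻¹ᵁ U)] (n : ℕ)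
    (hcn : (𝓙.comap h) ^ (n + 1) ≤ ((𝓙.comap (f ≫ h)) ^ (n + 1)).map f) :
    IsIso (subschemeMap _ _ f hcn) := by
  have hrj : Set.range ((𝓙.comap h) ^ (n + 1)).subschemeι ⊆ Set.range (h ⁻¹ᵁ U).ι := by
    rw [range_subschemeι, support_pow_succ, support_comap, Scheme.Opens.range_ι]
    intro y hy
    exact hU hy
  obtain ⟨j', hj'⟩ : ∃ j' : ((𝓙.comap h) ^ (n + 1)).subscheme ⟶ (h ⁻¹ᵁ U).toScheme,
      j' ≫ (h ⁻¹ᵁ U).ι = ((𝓙.comap h) ^ (n + 1)).subschemeι :=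
    ⟨IsOpenImmersion.lift _ _ hrj, IsOpenImmersion.lift_fac _ _ _⟩
  have s : IsPullback ((𝓙.comap (f ≫ h)) ^ (n + 1)).subschemeι (subschemeMap _ _ f hcn) f
      (j' ≫ (h ⁻¹ᵁ U).ι) := by
    rw [hj']; exact level_isPullback h f 𝓙 n hcn
  have t : IsPullback (f ⁻¹ᵁ h ⁻¹ᵁ U).ι (f ∣_ h ⁻¹ᵁ U) f (h ⁻¹ᵁ U).ι :=
    (isPullback_morphismRestrict f (h ⁻¹ᵁ U)).flip
  have r := IsPullback.of_right' s t
  exact r.isIso_snd_of_isIso

theorem ker_le_pow {X Y Z : Scheme.{u}} (h : Y ⟶ Z) (f : X ⟶ Y)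
    (𝓙 : Z.IdealSheafData) (n : ℕ)
    (hcn : (𝓙.comap h) ^ (n + 1) ≤ ((𝓙.comap (f ≫ h)) ^ (n + 1)).map f)
    [IsIso (subschemeMap _ _ f hcn)] : f.ker ≤ (𝓙.comap h) ^ (n + 1) := by
  have h1 : (subschemeMap _ _ f hcn ≫ ((𝓙.comap h) ^ (n + 1)).subschemeι).ker =
      (𝓙.comap h) ^ (n + 1) := by
    rw [Scheme.Hom.ker_comp_of_isIso, ker_subschemeι]
  rw [subschemeMap_subschemeι] at h1
  rw [← h1]
  exact Scheme.Hom.le_ker_comp _ _

/-- Krull intersection: if the kernel of `f` lies in all powers of `𝓚` and `f` is a closed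
immersion near `y ∈ V(𝓚)`, then `f` is an isomorphism near `y`. -/
theorem exists_isIso_nhd {X Y : Scheme.{u}} [IsLocallyNoetherian Y] (f : X ⟶ Y) [QuasiCompact f]
    (𝓚 : Y.IdealSheafData) (hker : ∀ n : ℕ, f.ker ≤ 𝓚 ^ (n + 1)) (y : Y) (hy : y ∈ 𝓚.support)
    (V1 : Y.Opens) (hyV1 : y ∈ V1) (hV1 : IsClosedImmersion (f ∣_ V1)) :
    ∃ D : Y.Opens, y ∈ D ∧ IsIso (f ∣_ D) := by
  obtain ⟨_, ⟨V, hV : IsAffineOpen V, rfl⟩, hyV, hVV1⟩ :=
    (Y.isBasis_affineOpens).exists_subset_of_mem_open hyV1 V1.2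
  haveI : IsNoetherianRing Γ(Y, V) := IsLocallyNoetherian.component_noetherian ⟨V, hV⟩
  obtain ⟨𝔞, h𝔞⟩ : ∃ 𝔞 : Ideal Γ(Y, V), 𝔞 = f.ker.ideal ⟨V, hV⟩ := ⟨_, rfl⟩
  obtain ⟨K, hK⟩ : ∃ K : Ideal Γ(Y, V), K = 𝓚.ideal ⟨V, hV⟩ := ⟨_, rfl⟩
  have hle : ∀ n : ℕ, 𝔞 ≤ K ^ (n + 1) := fun n => by
    rw [h𝔞, hK]; exact hker n ⟨V, hV⟩
  have hsub : 𝔞 ≤ K • 𝔞 := by
    intro x hx
    have hx' : x ∈ (⨅ i : ℕ, K ^ i • ⊤ : Submodule Γ(Y, V) Γ(Y, V)) := by
      rw [Submodule.mem_iInf]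
      intro i
      cases i with
      | zero => simp
      | succ i =>
        have h1 := hle i hx
        rw [smul_eq_mul, Ideal.mul_top]
        exact h1
    obtain ⟨r, hr⟩ := (K.mem_iInf_smul_pow_eq_bot_iff x).mp hx'
    rw [← hr]
    exact Submodule.smul_mem_smul r.2 hx
  obtain ⟨s, hs1, hs0⟩ := Submodule.exists_sub_one_mem_and_smul_eq_zero_of_fg_of_le_smul K 𝔞
    (IsNoetherian.noetherian 𝔞) hsub
  have hs1' : 1 - s ∈ K := by
    have := K.neg_mem hs1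
    rwa [neg_sub] at this
  have hys : y ∈ Y.basicOpen s := by
    have h1 : y ∉ Y.basicOpen (1 - s) := by
      have h2 := (Scheme.IdealSheafData.mem_support_iff_of_mem (U := ⟨V, hV⟩) hyV).mp hy
      rw [Scheme.mem_zeroLocus_iff] at h2
      exact h2 _ (hK ▸ hs1')
    rw [Scheme.mem_basicOpen _ _ y hyV] at h1 ⊢
    have h3 : IsUnit ((Y.presheaf.germ V y hyV).hom s + (Y.presheaf.germ V y hyV).hom (1 - s)) := by
      rw [← map_add, add_sub_cancel, map_one]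
      exact isUnit_one
    rcases IsLocalRing.isUnit_or_isUnit_of_isUnit_add h3 with h4 | h4
    · exact h4
    · exact absurd h4 h1
  have hD0 : f.ker.ideal (Y.affineBasicOpen (U := ⟨V, hV⟩) s) = ⊥ := by
    rw [← Scheme.IdealSheafData.map_ideal_basicOpen, ← h𝔞]
    refine (Ideal.map_eq_bot_iff_le_ker _).mpr ?_
    intro x hx
    rw [RingHom.mem_ker]
    have hu : IsUnit ((Y.presheaf.map (homOfLE (Y.basicOpen_le s)).op).hom s) :=
      Y.toRingedSpace.isUnit_res_basicOpen s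
    have h5 : (Y.presheaf.map (homOfLE (Y.basicOpen_le s)).op).hom s *
        (Y.presheaf.map (homOfLE (Y.basicOpen_le s)).op).hom x = 0 := by
      rw [← map_mul, ← smul_eq_mul, hs0 x hx, map_zero]
    exact (hu.mul_right_eq_zero).mp h5
  have hDV1 : Y.basicOpen s ≤ V1 := (Y.basicOpen_le s).trans hVV1
  have hcl : IsClosedImmersion (f ∣_ Y.basicOpen s) :=
    restrict_of_le (P := @IsClosedImmersion) f hDV1 hV1
  refine ⟨Y.basicOpen s, hys, ?_⟩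
  rw [IsClosedImmersion.isIso_iff_ker_eq_bot]
  haveI : IsAffine (Y.basicOpen s).toScheme := hV.basicOpen s
  refine Scheme.IdealSheafData.ext_of_isAffine ?_
  rw [Scheme.ker_morphismRestrict_ideal]
  have e : (⟨(Y.basicOpen s).ι ''ᵁ ⊤, (isAffineOpen_top _).image_of_isOpenImmersion _⟩ :
      Y.affineOpens) = Y.affineBasicOpen (U := ⟨V, hV⟩) s :=
    Subtype.ext (Scheme.Opens.ι_image_top _)
  have hgen : ∀ W : Y.affineOpens, W = Y.affineBasicOpen (U := ⟨V, hV⟩) s →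
      f.ker.ideal W = ⊥ := by
    rintro W rfl; exact hD0
  exact hgen _ e

theorem exists_open_isIso {X Y Z : Scheme.{u}} [IsLocallyNoetherian Y] (h : Y ⟶ Z)
    [UniversallyClosed h] (f : X ⟶ Y) [IsProper f] (𝓙 : Z.IdealSheafData)
    (hc : ∀ n : ℕ, (𝓙.comap h) ^ (n + 1) ≤ ((𝓙.comap (f ≫ h)) ^ (n + 1)).map f)
    (H : ∀ n : ℕ, IsIso (subschemeMap _ _ f (hc n))) :
    ∃ U : Z.Opens, (𝓙.support : Set Z) ⊆ U ∧ IsIso (f ∣_ h ⁻¹ᵁ U) := by
  haveI : IsClosedImmersion (subschemeMap _ _ f (hc 0)) := by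
    haveI := H 0; infer_instance
  obtain ⟨U1, hU1, hcl1⟩ := exists_open_of_level_zero h f 𝓙 (hc 0)
  have hker : ∀ n : ℕ, f.ker ≤ (𝓙.comap h) ^ (n + 1) := fun n => by
    haveI := H n; exact ker_le_pow h f 𝓙 n (hc n)
  obtain ⟨U, hU, hP⟩ := exists_nhd_of_closed_set (P := MorphismProperty.isomorphisms Scheme) f h
    (𝓙.support : Set Z) (fun y hy => by
      have hy' : y ∈ (𝓙.comap h).support := by rw [support_comap]; exact hy
      obtain ⟨D, hyD, hD⟩ := exists_isIso_nhd f (𝓙.comap h) hker y hy' (h ⁻¹ᵁ U1) (hU1 hy) hcl1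
      exact ⟨D, hyD, hD⟩)
  exact ⟨U, hU, hP⟩

theorem main_iso {X Y Z : Scheme.{u}} [IsLocallyNoetherian Z]
    (g : X ⟶ Z) (h : Y ⟶ Z) [IsProper g] [IsProper h] (f : X ⟶ Y) (w : f ≫ h = g)
    (𝓙 : Z.IdealSheafData) (hc : FSch.PowCompat f (𝓙.comap g) (𝓙.comap h)) :
    (∀ n : ℕ, IsIso ((FSch.completionMap f (𝓙.comap g) (𝓙.comap h) hc : FSch.Hom _ _).app n)) ↔
      ∃ U : Z.Opens, (𝓙.support : Set Z) ⊆ U ∧ IsIso (f ∣_ h ⁻¹ᵁ U) := by
  subst w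
  haveI : IsProper f := IsProper.of_comp f h
  haveI : IsLocallyNoetherian Y := LocallyOfFiniteType.isLocallyNoetherian h
  constructor
  · intro H
    exact exists_open_isIso h f 𝓙
      (fun n => Scheme.IdealSheafData.le_map_iff_comap_le.mpr (hc n)) H
  · rintro ⟨U, hU, hiso⟩ n
    rw [FSch.completionMap_app]
    exact isIso_level h f 𝓙 U hU n _ (hiso := hiso)

end Groth.Agent.Lib.ComplClImm
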