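import Mathlib
import Groth.Prelude.Def_FSRel

set_option autoImplicit false
set_option linter.unusedVariables false
set_option linter.unusedTactic false
set_option linter.unreachableTactic false
set_option linter.unusedSectionVars false
set_option linter.style.haveILetI false
set_option maxHeartbeats 800000

universe u

open TensorProduct KaehlerDifferential AdicCompletion

namespace Groth.Agent.Lib.ComplDerH4

section Completed

variable {A₀ A : Type u} [CommRing A₀] [CommRing A] [Algebra A₀ A] (I : Ideal A)
variable {M : Type u} [AddCommGroup M] [Module A M] [Module A₀ M] [IsScalarTower A₀ A M]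
variable (D : Derivation A₀ A M)

/-- A derivation maps `I^(n+1)` into `I^n M`. -/
theorem D_mem (n : ℕ) : ∀ a ∈ I ^ (n + 1), D a ∈ (I ^ n • ⊤ : Submodule A M) := by
  induction n with
  | zero =>
    intro a _
    rw [pow_zero, Ideal.one_eq_top, Submodule.top_smul]
    exact Submodule.mem_top
  | succ n ih =>
    intro a ha
    rw [pow_succ] at ha
    refine Submodule.mul_induction_on ha ?_ ?_
    · intro b hb c hc
      rw [D.leibniz]
      refine Submodule.add_mem _ (Submodule.smul_mem_smul hb Submodule.mem_top) ?_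
      have h1 : c • D b ∈ I • (I ^ n • ⊤ : Submodule A M) :=
        Submodule.smul_mem_smul hc (ih b hb)
      rwa [← Submodule.mul_smul, ← pow_succ'] at h1
    · intro x y hx hy
      rw [map_add]
      exact Submodule.add_mem _ hx hy

theorem cauchy_sub_mem (f : AdicCauchySequence I A) {m n : ℕ} (h : m ≤ n) :
    f m - f n ∈ I ^ m :=
  Submodule.smul_induction_on (SModEq.sub_mem.mp (f.2 h))
    (fun r hr x _ => (I ^ m).mul_mem_right x hr) (fun x y hx hy => (I ^ m).add_mem hx hy)

/-- The sequence `n ↦ D (f (n+1))`. -/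
noncomputable def dSeq (f : AdicCauchySequence I A) : AdicCauchySequence I M :=
  AdicCauchySequence.mk I M (fun n => D (f (n + 1))) (fun n => by
    rw [SModEq.sub_mem, ← map_sub]
    exact D_mem I D n _ (cauchy_sub_mem I f (Nat.le_succ (n + 1))))

theorem mk_dSeq_congr (f g : AdicCauchySequence I A)
    (h : AdicCompletion.mk I A f = AdicCompletion.mk I A g) :
    AdicCompletion.mk I M (dSeq I D f) = AdicCompletion.mk I M (dSeq I D g) := by
  ext n
  show Submodule.Quotient.mk (D (f (n + 1))) = Submodule.Quotient.mk (D (g (n + 1)))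
  rw [Submodule.Quotient.eq, ← map_sub]
  refine D_mem I D n _ ?_
  have h1 : Submodule.Quotient.mk (f (n + 1)) = Submodule.Quotient.mk (g (n + 1)) :=
    congrArg (fun z => z.val (n + 1)) h
  have h2 := (Submodule.Quotient.eq _).mp h1
  exact Submodule.smul_induction_on h2
    (fun r hr x _ => (I ^ (n + 1)).mul_mem_right x hr)
    (fun x y hx hy => (I ^ (n + 1)).add_mem hx hy)

/-- The completed derivation, as a function. -/
noncomputable def dHatFun (x : AdicCompletion I A) : AdicCompletion I M :=
  AdicCompletion.mk I M (dSeq I D (Classical.choose (AdicCompletion.mk_surjective I A x)))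

theorem dHatFun_mk (f : AdicCauchySequence I A) :
    dHatFun I D (AdicCompletion.mk I A f) = AdicCompletion.mk I M (dSeq I D f) :=
  mk_dSeq_congr I D _ _
    (Classical.choose_spec (AdicCompletion.mk_surjective I A (AdicCompletion.mk I A f)))

theorem dSeq_add (f g : AdicCauchySequence I A) :
    dSeq I D (f + g) = dSeq I D f + dSeq I D g := by
  apply AdicCauchySequence.ext
  intro n
  show D ((f + g) (n + 1)) = D (f (n + 1)) + D (g (n + 1))
  rw [AdicCauchySequence.add_apply, map_add]

theorem dHatFun_add (x y : AdicCompletion I A) :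
    dHatFun I D (x + y) = dHatFun I D x + dHatFun I D y := by
  obtain ⟨f, rfl⟩ := AdicCompletion.mk_surjective I A x
  obtain ⟨g, rfl⟩ := AdicCompletion.mk_surjective I A y
  rw [← map_add, dHatFun_mk, dHatFun_mk, dHatFun_mk, dSeq_add, map_add]

theorem dSeq_smul (c : A₀) (f : AdicCauchySequence I A) :
    dSeq I D (algebraMap A₀ A c • f) = algebraMap A₀ A c • dSeq I D f := by
  apply AdicCauchySequence.ext
  intro n
  show D ((algebraMap A₀ A c • f) (n + 1)) = algebraMap A₀ A c • D (f (n + 1))
  rw [AdicCauchySequence.smul_apply, smul_eq_mul, D.leibniz, D.map_algebraMap, smul_zero,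
    add_zero]

theorem dHatFun_smul (c : A₀) (x : AdicCompletion I A) :
    dHatFun I D (c • x) = c • dHatFun I D x := by
  obtain ⟨f, rfl⟩ := AdicCompletion.mk_surjective I A x
  have h1 : c • AdicCompletion.mk I A f = AdicCompletion.mk I A (algebraMap A₀ A c • f) := by
    rw [← algebraMap_smul A c (AdicCompletion.mk I A f)]
    exact (map_smul (AdicCompletion.mk I A) (algebraMap A₀ A c) f).symm
  have h2 : c • AdicCompletion.mk I M (dSeq I D f) =
      AdicCompletion.mk I M (algebraMap A₀ A c • dSeq I D f) := by
    rw [← algebraMap_smul A c (AdicCompletion.mk I M (dSeq I D f))]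
    exact (map_smul (AdicCompletion.mk I M) (algebraMap A₀ A c) (dSeq I D f)).symm
  rw [h1, dHatFun_mk, dHatFun_mk, h2, dSeq_smul]

theorem dHatFun_mul (x y : AdicCompletion I A) :
    dHatFun I D (x * y) = x • dHatFun I D y + y • dHatFun I D x := by
  obtain ⟨f, rfl⟩ := AdicCompletion.mk_surjective I A x
  obtain ⟨g, rfl⟩ := AdicCompletion.mk_surjective I A y
  have hmul : AdicCompletion.mk I A f * AdicCompletion.mk I A g =
      AdicCompletion.mk I A (f * g) := by
    ext n
    rfl
  rw [hmul, dHatFun_mk, dHatFun_mk, dHatFun_mk]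
  ext n
  show (Submodule.Quotient.mk (D ((f * g) (n + 1))) : M ⧸ (I ^ n • ⊤ : Submodule A M)) =
    Submodule.Quotient.mk (f n • D (g (n + 1))) + Submodule.Quotient.mk (g n • D (f (n + 1)))
  rw [← Submodule.Quotient.mk_add, Submodule.Quotient.eq, AdicCompletion.mul_apply, D.leibniz]
  have hf : f (n + 1) - f n ∈ I ^ n := by
    have := cauchy_sub_mem I f (Nat.le_succ n)
    rw [← neg_sub]
    exact (I ^ n).neg_mem this
  have hg : g (n + 1) - g n ∈ I ^ n := by
    have := cauchy_sub_mem I g (Nat.le_succ n)
    rw [← neg_sub]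
    exact (I ^ n).neg_mem this
  have e1 : (f (n + 1) • D (g (n + 1)) + g (n + 1) • D (f (n + 1))) -
      (f n • D (g (n + 1)) + g n • D (f (n + 1))) =
      (f (n + 1) - f n) • D (g (n + 1)) + (g (n + 1) - g n) • D (f (n + 1)) := by
    rw [sub_smul, sub_smul]
    abel
  rw [e1]
  exact Submodule.add_mem _ (Submodule.smul_mem_smul hf Submodule.mem_top)
    (Submodule.smul_mem_smul hg Submodule.mem_top)

instance towerCompl : IsScalarTower A₀ (AdicCompletion I A) (AdicCompletion I M) :=
  IsScalarTower.of_algebraMap_smul fun c x => by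
    rw [IsScalarTower.algebraMap_apply A₀ A (AdicCompletion I A), algebraMap_smul,
      algebraMap_smul]

/-- The completed derivation `Â → M̂`. -/
noncomputable def dHat : Derivation A₀ (AdicCompletion I A) (AdicCompletion I M) :=
  Derivation.mk'
    { toFun := dHatFun I D
      map_add' := dHatFun_add I D
      map_smul' := fun c x => dHatFun_smul I D c x }
    (dHatFun_mul I D)

theorem dHat_algebraMap (a : A) :
    dHat I D (algebraMap A (AdicCompletion I A) a) = AdicCompletion.of I M (D a) := by
  have h1 : algebraMap A (AdicCompletion I A) a =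
      AdicCompletion.mk I A (AdicCauchySequence.mk I A (fun _ => a) (fun _ => rfl)) := by
    rw [AdicCompletion.algebraMap_apply, Algebra.algebraMap_self_apply]
    ext n
    rfl
  show dHatFun I D _ = _
  rw [h1, dHatFun_mk]
  ext n
  rfl

end Completed

section Extension

variable {A₀ A : Type u} [CommRing A₀] [CommRing A] [Algebra A₀ A] (I : Ideal A)

/-- Derivations into modules over the completion extend to the completion, when `Ω` is finite. -/
theorem exists_derivation_extension [IsNoetherianRing A] [Module.Finite A Ω[A⁄A₀]]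
    (N : Type u) [AddCommGroup N] [Module A₀ N] [Module A N] [Module (AdicCompletion I A) N]
    [IsScalarTower A₀ A N] [IsScalarTower A (AdicCompletion I A) N]
    [IsScalarTower A₀ (AdicCompletion I A) N] (D : Derivation A₀ A N) :
    ∃ δ : Derivation A₀ (AdicCompletion I A) N,
      ∀ a : A, δ (algebraMap A (AdicCompletion I A) a) = D a := by
  obtain ⟨g, hg⟩ : ∃ g : AdicCompletion I Ω[A⁄A₀] →ₗ[AdicCompletion I A] N,
      ∀ ω : Ω[A⁄A₀], g (AdicCompletion.of I Ω[A⁄A₀] ω) = D.liftKaehlerDifferential ω := by
    refine ⟨(LinearMap.liftBaseChange (AdicCompletion I A) D.liftKaehlerDifferential) ∘ₗ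
      (AdicCompletion.ofTensorProductEquivOfFiniteNoetherian I Ω[A⁄A₀]).symm.toLinearMap,
      fun ω => ?_⟩
    rw [LinearMap.comp_apply, LinearEquiv.coe_coe,
      AdicCompletion.ofTensorProductEquivOfFiniteNoetherian_symm_of,
      LinearMap.liftBaseChange_tmul, one_smul]
  refine ⟨g.compDer (dHat I (KaehlerDifferential.D A₀ A)), fun a => ?_⟩
  show g (dHat I (KaehlerDifferential.D A₀ A) (algebraMap A (AdicCompletion I A) a)) = D a
  rw [dHat_algebraMap, hg, Derivation.liftKaehlerDifferential_comp_D]

end Extension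

/-- The adic completion of a module-finite algebra over a Noetherian ring is formally smooth
relative to the base (EGA 0_IV 19.?). -/
theorem main {A₀ A : Type u} [CommRing A₀] [IsNoetherianRing A₀] [CommRing A] [Algebra A₀ A]
    [Module.Finite A₀ A] (I : Ideal A) :
    EGA41.IsFormallySmoothRel A₀ A (AdicCompletion I A) := by
  intro C _ _ _ _ J hJ u₀ hex
  obtain ⟨u, hu⟩ := hex
  haveI : IsNoetherianRing A := Algebra.FiniteType.isNoetherianRing A₀ A
  have hmk : ∀ x, Ideal.Quotient.mk J (u x) = u₀ x := fun x => AlgHom.congr_fun hu x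
  have key : ∀ p q : C, p ∈ J → q ∈ J → p * q = 0 := by
    intro p q hp hq
    have h1 : p * q ∈ J ^ 2 := by
      rw [pow_two]
      exact Ideal.mul_mem_mul hp hq
    rwa [hJ, Ideal.mem_bot] at h1
  have e : (Ideal.Quotient.mkₐ A₀ J).comp
      (u.comp (IsScalarTower.toAlgHom A₀ A (AdicCompletion I A))) =
      IsScalarTower.toAlgHom A₀ A (C ⧸ J) := by
    apply AlgHom.ext
    intro a
    show Ideal.Quotient.mk J (u (algebraMap A (AdicCompletion I A) a)) = algebraMap A (C ⧸ J) a
    rw [hmk, u₀.commutes]
  obtain ⟨D, hD⟩ : ∃ D : Derivation A₀ A J,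
      ∀ a, (D a : C) = u (algebraMap A (AdicCompletion I A) a) - algebraMap A C a :=
    ⟨derivationToSquareZeroOfLift J hJ _ e, fun a => rfl⟩
  letI algÂC : Algebra (AdicCompletion I A) C := (u : AdicCompletion I A →+* C).toAlgebra
  have halg : ∀ x, algebraMap (AdicCompletion I A) C x = u x := fun x => rfl
  haveI tw1 : IsScalarTower A₀ (AdicCompletion I A) C :=
    IsScalarTower.of_algebraMap_eq (fun r => (u.commutes r).symm)
  haveI tw2 : IsScalarTower A₀ (AdicCompletion I A) J :=
    ⟨fun c x j => Subtype.ext (smul_assoc c x (j : C))⟩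
  haveI tw3 : IsScalarTower A (AdicCompletion I A) J :=
    ⟨fun a x j => Subtype.ext (by
      show (a • x) • (j : C) = a • (x • (j : C))
      have h0 : (u (algebraMap A (AdicCompletion I A) a) - algebraMap A C a) *
          (u x * (j : C)) = 0 := by
        rw [← hD a]
        exact key _ _ (D a).2 (J.mul_mem_left _ j.2)
      rw [sub_mul, sub_eq_zero] at h0
      calc (a • x) • (j : C) = u (algebraMap A (AdicCompletion I A) a * x) * j := by
            rw [Algebra.smul_def, halg, Algebra.smul_def]
        _ = u (algebraMap A (AdicCompletion I A) a) * (u x * j) := by rw [map_mul, mul_assoc]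
        _ = algebraMap A C a * (u x * j) := h0
        _ = a • (x • (j : C)) := by rw [Algebra.smul_def, Algebra.smul_def, halg])⟩
  obtain ⟨δ, hδ⟩ := exists_derivation_extension I J D
  obtain ⟨v₀, hv₀⟩ : ∃ v₀ : AdicCompletion I A →ₐ[A₀] C, ∀ x, v₀ x = -(δ x : C) + u x :=
    ⟨liftOfDerivationToSquareZero J hJ (-δ), fun x => by
      rw [liftOfDerivationToSquareZero_apply]
      rfl⟩
  refine ⟨{ (v₀ : AdicCompletion I A →+* C) with commutes' := fun a => ?_ }, ?_⟩
  · show v₀ (algebraMap A (AdicCompletion I A) a) = algebraMap A C a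
    rw [hv₀, hδ, hD]
    ring
  · apply AlgHom.ext
    intro x
    show Ideal.Quotient.mk J (v₀ x) = u₀ x
    rw [hv₀, map_add, map_neg, Ideal.Quotient.eq_zero_iff_mem.mpr (δ x).2, neg_zero, zero_add,
      hmk]

end Groth.Agent.Lib.ComplDerH4
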