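import Mathlib
import Groth.Agent.Lib.IAdicRegular_helper3
import Groth.Agent.Lib.Dev12231_lead
import Groth.Agent.Lib.FSNilp_helper3
import Groth.Agent.Lib.ComplReg_helper3

/-!
# Dimension of modules under `I`-adic completion, `I` in the Jacobson radical (helper3)

For a flat ring map `R → S` with `S` Noetherian such that every maximal ideal `𝔫` of `S` is
generated by its contraction and every maximal ideal of `R` is the contraction of a prime of `S`,
`dim S/JS = dim R/J` for all ideals `J`, and `dim_S (S ⊗ M) = dim_R M` for finite `M`.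
This applies to `A → Â` (`I`-adic completion, `I ⊆ rad A`, `A` Noetherian).
APPEND-ONLY once landed.
-/

set_option autoImplicit false
universe u

namespace Groth.Agent.Lib.ComplDimH3

open TensorProduct

section General

variable (R S : Type*) [CommRing R] [CommRing S] [Algebra R S]

theorem ringKrullDim_eq_of_goingDown [IsNoetherianRing R] [IsNoetherianRing S]
    [Algebra.HasGoingDown R S]
    (h1 : ∀ 𝔫 : Ideal S, 𝔫.IsMaximal → (𝔫.under R).map (algebraMap R S) = 𝔫)
    (h2 : ∀ 𝔪 : Ideal R, 𝔪.IsMaximal → ∃ P : Ideal S, P.IsPrime ∧ P.LiesOver 𝔪) :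
    ringKrullDim S = ringKrullDim R := by
  apply le_antisymm
  · rw [ringKrullDim_le_iff_isMaximal_height_le]
    intro 𝔫 h𝔫
    haveI := h𝔫.isPrime
    haveI : 𝔫.LiesOver (𝔫.under R) := ⟨rfl⟩
    have h := Ideal.height_le_height_add_of_liesOver (𝔫.under R) 𝔫
    have h0 : (𝔫.map (Ideal.Quotient.mk ((𝔫.under R).map (algebraMap R S)))).height = 0 := by
      have hb : 𝔫.map (Ideal.Quotient.mk ((𝔫.under R).map (algebraMap R S))) = ⊥ := by
        rw [Ideal.map_eq_bot_iff_le_ker, Ideal.mk_ker, h1 𝔫 h𝔫]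
      rw [hb]
      haveI : Nontrivial (S ⧸ ((𝔫.under R).map (algebraMap R S))) :=
        Ideal.Quotient.nontrivial_iff.mpr (by rw [h1 𝔫 h𝔫]; exact h𝔫.ne_top)
      exact Ideal.height_bot
    rw [h0, add_zero] at h
    exact (WithBot.coe_le_coe.mpr h).trans
      (Ideal.height_le_ringKrullDim_of_ne_top (Ideal.IsPrime.ne_top inferInstance))
  · rw [ringKrullDim_le_iff_isMaximal_height_le]
    intro 𝔪 h𝔪
    obtain ⟨P, hP, hPo⟩ := h2 𝔪 h𝔪
    haveI := h𝔪.isPrime
    have h := Ideal.height_eq_height_add_of_liesOver_of_hasGoingDown 𝔪 P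
    have h' : 𝔪.height ≤ P.height := by rw [h]; exact le_self_add
    exact (WithBot.coe_le_coe.mpr h').trans (Ideal.height_le_ringKrullDim_of_ne_top hP.ne_top)

variable {R S}

theorem quotient_h1 (J : Ideal R)
    (h1 : ∀ 𝔫 : Ideal S, 𝔫.IsMaximal → (𝔫.under R).map (algebraMap R S) = 𝔫)
    (𝔫' : Ideal (S ⧸ J.map (algebraMap R S))) (h𝔫' : 𝔫'.IsMaximal) :
    (𝔫'.under (R ⧸ J)).map (algebraMap (R ⧸ J) (S ⧸ J.map (algebraMap R S))) = 𝔫' := by
  apply le_antisymm Ideal.map_comap_le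
  have h𝔫 : (𝔫'.comap (Ideal.Quotient.mk (J.map (algebraMap R S)))).IsMaximal :=
    Ideal.comap_isMaximal_of_surjective _ Ideal.Quotient.mk_surjective
  have e1 := h1 _ h𝔫
  have e2 : 𝔫' = (𝔫'.comap (Ideal.Quotient.mk (J.map (algebraMap R S)))).map
      (Ideal.Quotient.mk (J.map (algebraMap R S))) :=
    (Ideal.map_comap_of_surjective _ Ideal.Quotient.mk_surjective 𝔫').symm
  refine e2.le.trans ?_
  rw [Ideal.map_le_iff_le_comap, ← e1, Ideal.map_le_iff_le_comap]
  intro x hx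
  rw [Ideal.mem_comap, Ideal.mem_comap]
  have hx' : Ideal.Quotient.mk J x ∈ 𝔫'.under (R ⧸ J) := by
    rw [Ideal.mem_comap]
    rw [Ideal.Quotient.algebraMap_quotient_map_quotient]
    exact hx
  have := Ideal.mem_map_of_mem (algebraMap (R ⧸ J) (S ⧸ J.map (algebraMap R S))) hx'
  rwa [Ideal.Quotient.algebraMap_quotient_map_quotient] at this

theorem quotient_h2 (J : Ideal R)
    (h2 : ∀ 𝔪 : Ideal R, 𝔪.IsMaximal → ∃ P : Ideal S, P.IsPrime ∧ P.LiesOver 𝔪)
    (𝔪' : Ideal (R ⧸ J)) (h𝔪' : 𝔪'.IsMaximal) :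
    ∃ P : Ideal (S ⧸ J.map (algebraMap R S)), P.IsPrime ∧ P.LiesOver 𝔪' := by
  have h𝔪 : (𝔪'.comap (Ideal.Quotient.mk J)).IsMaximal :=
    Ideal.comap_isMaximal_of_surjective _ Ideal.Quotient.mk_surjective
  obtain ⟨P, hP, hPo⟩ := h2 _ h𝔪
  have hJ : J ≤ 𝔪'.comap (Ideal.Quotient.mk J) := by
    intro x hx
    rw [Ideal.mem_comap, Ideal.Quotient.eq_zero_iff_mem.mpr hx]
    exact 𝔪'.zero_mem
  have hJP : J.map (algebraMap R S) ≤ P := by
    rw [Ideal.map_le_iff_le_comap]
    have := hPo.over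
    rw [Ideal.under_def] at this
    rw [← this]
    exact hJ
  have hP' : (P.map (Ideal.Quotient.mk (J.map (algebraMap R S)))).IsPrime :=
    Ideal.map_isPrime_of_surjective Ideal.Quotient.mk_surjective (by rwa [Ideal.mk_ker])
  refine ⟨_, hP', ⟨?_⟩⟩
  haveI := hP'
  refine (h𝔪'.eq_of_le (Ideal.IsPrime.ne_top inferInstance) ?_)
  intro x' hx'
  obtain ⟨x, rfl⟩ := Ideal.Quotient.mk_surjective x'
  rw [Ideal.under_def, Ideal.mem_comap, Ideal.Quotient.algebraMap_quotient_map_quotient]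
  apply Ideal.mem_map_of_mem
  have hx : x ∈ 𝔪'.comap (Ideal.Quotient.mk J) := hx'
  rw [hPo.over] at hx
  exact hx

theorem ringKrullDim_quotient_eq [IsNoetherianRing R] [IsNoetherianRing S] [Module.Flat R S]
    (h1 : ∀ 𝔫 : Ideal S, 𝔫.IsMaximal → (𝔫.under R).map (algebraMap R S) = 𝔫)
    (h2 : ∀ 𝔪 : Ideal R, 𝔪.IsMaximal → ∃ P : Ideal S, P.IsPrime ∧ P.LiesOver 𝔪)
    (J : Ideal R) :
    ringKrullDim (S ⧸ J.map (algebraMap R S)) = ringKrullDim (R ⧸ J) := by
  haveI : Module.Flat (R ⧸ J) (S ⧸ J.map (algebraMap R S)) :=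
    Groth.Agent.Lib.FSNilpH3.flat_quot J
  exact ringKrullDim_eq_of_goingDown (R ⧸ J) (S ⧸ J.map (algebraMap R S))
    (quotient_h1 J h1) (quotient_h2 J h2)

end General

section Module

variable {R S : Type u} [CommRing R] [CommRing S] [Algebra R S]

theorem supportDim_baseChange [IsNoetherianRing R] [IsNoetherianRing S] [Module.Flat R S]
    (h1 : ∀ 𝔫 : Ideal S, 𝔫.IsMaximal → (𝔫.under R).map (algebraMap R S) = 𝔫)
    (h2 : ∀ 𝔪 : Ideal R, 𝔪.IsMaximal → ∃ P : Ideal S, P.IsPrime ∧ P.LiesOver 𝔪)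
    (M : Type u) [AddCommGroup M] [Module R M] [Module.Finite R M] :
    Module.supportDim S (S ⊗[R] M) = Module.supportDim R M := by
  rw [Module.supportDim_eq_ringKrullDim_quotient_annihilator (R := R),
    ← ringKrullDim_quotient_eq h1 h2, ringKrullDim_quotient, Module.supportDim,
    Groth.Agent.Lib.Dev12231.support_baseChange, Module.support_eq_zeroLocus,
    PrimeSpectrum.preimage_comap_zeroLocus, Ideal.map, PrimeSpectrum.zeroLocus_span]

end Module

section Compl

variable (A : Type u) [CommRing A] [IsNoetherianRing A] (I : Ideal A)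

theorem compl_h1 (𝔫 : Ideal (AdicCompletion I A)) (h𝔫 : 𝔫.IsMaximal) :
    (𝔫.under A).map (algebraMap A (AdicCompletion I A)) = 𝔫 :=
  Groth.Agent.Lib.IAdicRegularH3.map_comap_eq A I 𝔫

theorem compl_h2 (hI : I ≤ Ring.jacobson A) (𝔪 : Ideal A) (h𝔪 : 𝔪.IsMaximal) :
    ∃ P : Ideal (AdicCompletion I A), P.IsPrime ∧ P.LiesOver 𝔪 := by
  have hle : I ≤ 𝔪 := by
    refine hI.trans ?_
    have := Ideal.ringJacobson_le_jacobson (I := 𝔪)
    rwa [Ideal.jacobson_eq_self_of_isMaximal] at this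
  have hmax := AdicCompletion.isMaximal_map_of_le I 𝔪 hle (IsNoetherian.noetherian I)
  refine ⟨_, hmax.isPrime, ⟨?_⟩⟩
  exact h𝔪.eq_of_le (Ideal.IsPrime.ne_top (hmax.isPrime.comap _)) Ideal.le_comap_map

theorem supportDim_adicCompletion (hI : I ≤ Ring.jacobson A)
    (M : Type u) [AddCommGroup M] [Module A M] [Module.Finite A M] :
    Module.supportDim (AdicCompletion I A) (AdicCompletion I M) = Module.supportDim A M := by
  haveI := Groth.Agent.Lib.ComplRegH3.isNoetherianRing_adicCompletion A I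
  rw [← Module.supportDim_eq_of_equiv (AdicCompletion.ofTensorProductEquivOfFiniteNoetherian I M)]
  exact supportDim_baseChange (compl_h1 A I) (compl_h2 A I hI) M

end Compl

end Groth.Agent.Lib.ComplDimH3
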