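import Mathlib

set_option autoImplicit false
universe u

namespace ComplUnrH8

open IsLocalRing

/-- Separability transfers along compatible field isomorphisms. -/
theorem isSeparable_of_bijective {K L K' L' : Type*} [Field K] [Field L] [Field K'] [Field L']
    [Algebra K L] [Algebra K' L'] (i : K →+* K') (j : L →+* L') (hi : Function.Bijective i)
    (hcomm : j.comp (algebraMap K L) = (algebraMap K' L').comp i)
    [Algebra.IsSeparable K' L'] : Algebra.IsSeparable K L := by
  refine ⟨fun x => ?_⟩
  let e : K ≃+* K' := RingEquiv.ofBijective i hi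
  have hsep : (minpoly K' (j x)).Separable := Algebra.IsSeparable.isSeparable K' (j x)
  let q : Polynomial K := (minpoly K' (j x)).map (e.symm : K' →+* K)
  have hqsep : q.Separable := hsep.map
  have hq0 : Polynomial.aeval x q = 0 := by
    apply j.injective
    rw [map_zero, Polynomial.aeval_def, Polynomial.hom_eval₂, hcomm]
    show Polynomial.eval₂ ((algebraMap K' L').comp i) (j x)
      ((minpoly K' (j x)).map (e.symm : K' →+* K)) = 0
    rw [Polynomial.eval₂_map]
    have : ((algebraMap K' L').comp i).comp (e.symm : K' →+* K) = algebraMap K' L' := by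
      ext y
      show algebraMap K' L' (e (e.symm y)) = _
      rw [RingEquiv.apply_symm_apply]
    rw [this, ← Polynomial.aeval_def, minpoly.aeval]
  exact hqsep.of_dvd (minpoly.dvd K x hq0)

/-- Finite products of precomplete modules. -/
theorem isPrecomplete_pi {R : Type*} [CommRing R] (I : Ideal R) [IsPrecomplete I R] (n : ℕ) :
    IsPrecomplete I (Fin n → R) := by
  refine ⟨fun {f} hf => ?_⟩
  have hcomp : ∀ (m : ℕ) (x : Fin n → R), x ∈ (I ^ m • ⊤ : Submodule R (Fin n → R)) →
      ∀ i, x i ∈ (I ^ m • ⊤ : Submodule R R) := by
    intro m x hx i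
    refine Submodule.smul_induction_on hx ?_ ?_
    · intro r hr y _
      exact Submodule.smul_mem_smul hr Submodule.mem_top
    · intro y z hy hz
      exact Submodule.add_mem _ hy hz
  have hcauchy : ∀ i, ∀ {m k : ℕ}, m ≤ k → (fun l => f l i) m ≡ (fun l => f l i) k
      [SMOD (I ^ m • ⊤ : Submodule R R)] := by
    intro i m k hmk
    rw [SModEq.sub_mem]
    have := hf hmk
    rw [SModEq.sub_mem] at this
    exact hcomp m _ this i
  choose L hL using fun i => IsPrecomplete.prec ‹IsPrecomplete I R› (hcauchy i)
  refine ⟨L, fun k => ?_⟩
  rw [SModEq.sub_mem]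
  have hx : ∀ i, (f k - L) i ∈ (I ^ k • ⊤ : Submodule R R) := by
    intro i
    have := hL i k
    rw [SModEq.sub_mem] at this
    exact this
  have hsum : f k - L = ∑ i, ((f k - L) i) • (Pi.single i (1 : R) : Fin n → R) := by
    ext j
    simp [Finset.sum_apply, Pi.single_apply]
  rw [hsum]
  refine Submodule.sum_mem _ fun i _ => ?_
  have h1 : (f k - L) i ∈ I ^ k := by
    have := hx i
    rwa [smul_eq_mul, Ideal.mul_top] at this
  exact Submodule.smul_mem_smul h1 Submodule.mem_top

section abstract

variable {A B A' B' : Type u} [CommRing A] [CommRing B] [CommRing A'] [CommRing B']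
    [IsLocalRing A] [IsLocalRing B] [IsLocalRing A'] [IsLocalRing B']
    [Algebra A B] [Algebra A A'] [Algebra B B'] [Algebra A' B'] [Algebra A B']
    [IsScalarTower A B B'] [IsScalarTower A A' B']
    [IsLocalHom (algebraMap A B)] [IsLocalHom (algebraMap A A')] [IsLocalHom (algebraMap B B')]
    [IsLocalHom (algebraMap A' B')]

omit [IsScalarTower A B B'] [IsScalarTower A A' B'] in
theorem residue_comm (h : (algebraMap A' B').comp (algebraMap A A') =
      (algebraMap B B').comp (algebraMap A B)) :
    (ResidueField.map (algebraMap B B')).comp (algebraMap (ResidueField A) (ResidueField B)) =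
      (algebraMap (ResidueField A') (ResidueField B')).comp
        (ResidueField.map (algebraMap A A')) := by
  ext x
  obtain ⟨a, rfl⟩ := IsLocalRing.residue_surjective x
  show ResidueField.map (algebraMap B B') (ResidueField.map (algebraMap A B) (residue A a)) =
    ResidueField.map (algebraMap A' B') (ResidueField.map (algebraMap A A') (residue A a))
  rw [ResidueField.map_residue, ResidueField.map_residue, ResidueField.map_residue,
    ResidueField.map_residue]
  congr 1
  exact (congrArg (fun φ => φ a) h).symm

theorem formallyUnramified_descend [Algebra.EssFiniteType A B] [Algebra.EssFiniteType A' B']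
    [Algebra.FormallyUnramified A' B']
    (hA : maximalIdeal A' = (maximalIdeal A).map (algebraMap A A'))
    (hB : maximalIdeal B' = (maximalIdeal B).map (algebraMap B B'))
    (hAres : Function.Bijective (ResidueField.map (algebraMap A A')))
    [Module.FaithfullyFlat B B'] : Algebra.FormallyUnramified A B := by
  have hcomm : (algebraMap A' B').comp (algebraMap A A') =
      (algebraMap B B').comp (algebraMap A B) := by
    rw [← IsScalarTower.algebraMap_eq, ← IsScalarTower.algebraMap_eq]
  haveI : Algebra.IsSeparable (ResidueField A) (ResidueField B) :=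
    isSeparable_of_bijective (ResidueField.map (algebraMap A A'))
      (ResidueField.map (algebraMap B B')) hAres (residue_comm hcomm)
  apply Algebra.FormallyUnramified.of_map_maximalIdeal
  have h1 : (maximalIdeal A').map (algebraMap A' B') = maximalIdeal B' :=
    Algebra.FormallyUnramified.map_maximalIdeal
  have h2 : ((maximalIdeal A).map (algebraMap A B)).map (algebraMap B B') =
      (maximalIdeal B).map (algebraMap B B') := by
    rw [Ideal.map_map, ← IsScalarTower.algebraMap_eq, ← hB, ← h1, hA, Ideal.map_map,
      ← IsScalarTower.algebraMap_eq]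
  have := congrArg (Ideal.comap (algebraMap B B')) h2
  rwa [Ideal.comap_map_eq_self_of_faithfullyFlat, Ideal.comap_map_eq_self_of_faithfullyFlat]
    at this

theorem finite_formallyUnramified_ascend [Algebra.EssFiniteType A B]
    [Algebra.FormallyUnramified A B]
    (hA : maximalIdeal A' = (maximalIdeal A).map (algebraMap A A'))
    (hB : maximalIdeal B' = (maximalIdeal B).map (algebraMap B B'))
    (hBres : Function.Surjective (ResidueField.map (algebraMap B B')))
    [IsPrecomplete (maximalIdeal A') A'] [IsHausdorff (maximalIdeal B') B'] :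
    Module.Finite A' B' ∧ Algebra.FormallyUnramified A' B' := by
  have h0 : (maximalIdeal A).map (algebraMap A B) = maximalIdeal B :=
    Algebra.FormallyUnramified.map_maximalIdeal
  have hmax : (maximalIdeal A').map (algebraMap A' B') = maximalIdeal B' := by
    rw [hA, Ideal.map_map, ← IsScalarTower.algebraMap_eq, hB, ← h0, Ideal.map_map,
      ← IsScalarTower.algebraMap_eq]
  obtain ⟨n, s, hs⟩ := Module.Finite.exists_fin (R := ResidueField A) (M := ResidueField B)
  choose b hb using fun i => IsLocalRing.residue_surjective (s i)
  let f : (Fin n → A') →ₗ[A'] B' := Fintype.linearCombination A' (fun i => algebraMap B B' (b i))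
  have hsmul : (maximalIdeal A' • ⊤ : Submodule A' B') =
      (maximalIdeal B').restrictScalars A' := by
    rw [Ideal.smul_top_eq_map, hmax]
  have hsurj : Function.Surjective ((Submodule.mkQ (maximalIdeal A' • ⊤ : Submodule A' B')) ∘ₗ f) := by
    intro z
    obtain ⟨y, rfl⟩ := Submodule.mkQ_surjective _ z
    obtain ⟨rb, hrb⟩ := hBres (residue B' y)
    obtain ⟨b0, rfl⟩ := IsLocalRing.residue_surjective rb
    rw [ResidueField.map_residue] at hrb
    have hy : y - algebraMap B B' b0 ∈ maximalIdeal B' := by
      rw [← IsLocalRing.residue_eq_zero_iff, map_sub, hrb, sub_self]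
    have hmem : residue B b0 ∈ Submodule.span (ResidueField A) (Set.range s) := by
      rw [hs]; exact Submodule.mem_top
    obtain ⟨c, hc⟩ := (Submodule.mem_span_range_iff_exists_fun (ResidueField A)).mp hmem
    choose a ha using fun i => IsLocalRing.residue_surjective (c i)
    have hb0 : b0 - ∑ i, a i • b i ∈ maximalIdeal B := by
      rw [← IsLocalRing.residue_eq_zero_iff, map_sub, map_sum, ← hc, sub_eq_zero]
      refine Finset.sum_congr rfl fun i _ => ?_
      have : residue B (a i • b i) = c i • s i := by
        rw [Algebra.smul_def (a i) (b i), map_mul, hb i, Algebra.smul_def (c i) (s i), ← ha i]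
        rfl
      exact this.symm
    refine ⟨fun i => algebraMap A A' (a i), ?_⟩
    show Submodule.mkQ _ (f fun i => algebraMap A A' (a i)) = Submodule.mkQ _ y
    rw [eq_comm, ← sub_eq_zero, ← map_sub, Submodule.mkQ_apply, Submodule.Quotient.mk_eq_zero,
      hsmul, Submodule.restrictScalars_mem]
    have hf : f (fun i => algebraMap A A' (a i)) = algebraMap B B' (∑ i, a i • b i) := by
      show Fintype.linearCombination A' _ _ = _
      rw [Fintype.linearCombination_apply, map_sum]
      refine Finset.sum_congr rfl fun i _ => ?_
      rw [Algebra.smul_def, Algebra.smul_def, map_mul, ← IsScalarTower.algebraMap_apply,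
        ← IsScalarTower.algebraMap_apply, IsScalarTower.algebraMap_apply A B B']
    rw [hf]
    have h3 : algebraMap B B' (b0 - ∑ i, a i • b i) ∈ maximalIdeal B' := by
      rw [hB]
      exact Ideal.mem_map_of_mem _ hb0
    have : y - algebraMap B B' (∑ i, a i • b i) =
        (y - algebraMap B B' b0) + algebraMap B B' (b0 - ∑ i, a i • b i) := by
      rw [map_sub]; ring
    rw [this]
    exact Ideal.add_mem _ hy h3
  haveI : IsHausdorff (maximalIdeal A') B' := by
    rw [← IsHausdorff.map_algebraMap_iff (S := B'), hmax]
    infer_instance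
  haveI : IsPrecomplete (maximalIdeal A') (Fin n → A') := isPrecomplete_pi _ n
  have hfsurj : Function.Surjective f := surjective_of_mkQ_comp_surjective hsurj
  refine ⟨Module.Finite.of_surjective f hfsurj, ⟨?_⟩⟩
  suffices (⊤ : Submodule B' Ω[B'⁄A']) ≤ ⊥ from
    (subsingleton_iff_forall_eq 0).mpr fun y ↦ this trivial
  rw [← KaehlerDifferential.span_range_derivation, Submodule.span_le]
  rintro _ ⟨y, rfl⟩
  obtain ⟨c, rfl⟩ := hfsurj y
  show KaehlerDifferential.D A' B' (Fintype.linearCombination A' _ c) ∈ _
  rw [Fintype.linearCombination_apply, map_sum]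
  refine Submodule.sum_mem _ fun i _ => ?_
  rw [Derivation.map_smul]
  have h4 : KaehlerDifferential.D A' B' (algebraMap B B' (b i)) = 0 := by
    rw [← KaehlerDifferential.map_D A A' B B']
    have : KaehlerDifferential.D A B (b i) = 0 := Subsingleton.elim _ _
    rw [this, map_zero]
  rw [h4, smul_zero]
  exact Submodule.zero_mem _

end abstract

end ComplUnrH8
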