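import Mathlib
import Groth.Agent.Lib.ComplUnr1_helper8

set_option autoImplicit false
universe u

namespace ComplUnrH8

open IsLocalRing

theorem main (A B : Type u) [CommRing A] [CommRing B] [IsLocalRing A] [IsLocalRing B]
    [IsNoetherianRing A] [IsNoetherianRing B] [Algebra A B] [IsLocalHom (algebraMap A B)]
    [Algebra.EssFiniteType A B]
    (ψ : AdicCompletion (maximalIdeal A) A →+* AdicCompletion (maximalIdeal B) B)
    (hψ : ψ.comp (algebraMap A (AdicCompletion (maximalIdeal A) A)) =
      (algebraMap B (AdicCompletion (maximalIdeal B) B)).comp (algebraMap A B)) :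
    ((maximalIdeal A).map (algebraMap A B) = maximalIdeal B ∧
        Module.Finite (ResidueField A) (ResidueField B) ∧
        Algebra.IsSeparable (ResidueField A) (ResidueField B)) ↔
      (ψ.FiniteType ∧ ψ.FormallyUnramified) := by
  letI := ψ.toAlgebra
  haveI : IsScalarTower A (AdicCompletion (maximalIdeal A) A) (AdicCompletion (maximalIdeal B) B) :=
    .of_algebraMap_eq' (by
      rw [IsScalarTower.algebraMap_eq A B (AdicCompletion (maximalIdeal B) B)]
      exact hψ.symm)
  haveI : IsLocalHom (algebraMap (AdicCompletion (maximalIdeal A) A)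
      (AdicCompletion (maximalIdeal B) B)) := by
    apply ((IsLocalRing.local_hom_TFAE _).out 0 2).mpr
    rw [AdicCompletion.maximalIdeal_eq_map (R := A), Ideal.map_map]
    show Ideal.map (ψ.comp _) _ ≤ _
    rw [hψ, ← Ideal.map_map, AdicCompletion.maximalIdeal_eq_map (R := B)]
    exact Ideal.map_mono (IsLocalRing.map_maximalIdeal_le (algebraMap A B))
  haveI : Module.FaithfullyFlat B (AdicCompletion (maximalIdeal B) B) :=
    Module.FaithfullyFlat.of_flat_of_isLocalHom
  constructor
  · rintro ⟨h1, h2, h3⟩
    haveI : Algebra.FormallyUnramified A B := Algebra.FormallyUnramified.of_map_maximalIdeal h1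
    obtain ⟨hfin, hunr⟩ := finite_formallyUnramified_ascend (A := A) (B := B)
      (A' := AdicCompletion (maximalIdeal A) A) (B' := AdicCompletion (maximalIdeal B) B)
      AdicCompletion.maximalIdeal_eq_map AdicCompletion.maximalIdeal_eq_map
      (AdicCompletion.residueField_map_bijective B).2
    refine ⟨?_, hunr⟩
    have : ψ.Finite := hfin
    exact this.finiteType
  · rintro ⟨hft, hunr⟩
    haveI : Algebra.FiniteType (AdicCompletion (maximalIdeal A) A)
      (AdicCompletion (maximalIdeal B) B) := hft
    haveI : Algebra.FormallyUnramified (AdicCompletion (maximalIdeal A) A)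
      (AdicCompletion (maximalIdeal B) B) := hunr
    haveI := formallyUnramified_descend (A := A) (B := B)
      (A' := AdicCompletion (maximalIdeal A) A) (B' := AdicCompletion (maximalIdeal B) B)
      AdicCompletion.maximalIdeal_eq_map AdicCompletion.maximalIdeal_eq_map
      (AdicCompletion.residueField_map_bijective A)
    exact ⟨Algebra.FormallyUnramified.map_maximalIdeal, inferInstance, inferInstance⟩

end ComplUnrH8
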