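import Mathlib
import Groth.Agent.Lib.ComplUnr2_helper8

set_option autoImplicit false
universe u

namespace ComplEtH8

open IsLocalRing

theorem free_of_etale (A B : Type u) [CommRing A] [CommRing B] [IsLocalRing A] [IsLocalRing B]
    [IsNoetherianRing A] [IsNoetherianRing B] [Algebra A B] [IsLocalHom (algebraMap A B)]
    [Algebra.EssFiniteType A B]
    (ψ : AdicCompletion (maximalIdeal A) A →+* AdicCompletion (maximalIdeal B) B)
    (hψ : ψ.comp (algebraMap A (AdicCompletion (maximalIdeal A) A)) =
      (algebraMap B (AdicCompletion (maximalIdeal B) B)).comp (algebraMap A B))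
    (h1 : (maximalIdeal A).map (algebraMap A B) = maximalIdeal B)
    [Module.Finite (ResidueField A) (ResidueField B)]
    [Algebra.IsSeparable (ResidueField A) (ResidueField B)]
    (hfl : ψ.Flat) :
    letI := ψ.toAlgebra
    ∃ n : ℕ, 0 < n ∧
      Nonempty ((Fin n → AdicCompletion (maximalIdeal A) A) ≃ₗ[AdicCompletion (maximalIdeal A) A]
        AdicCompletion (maximalIdeal B) B) := by
  letI := ψ.toAlgebra
  haveI : IsScalarTower A (AdicCompletion (maximalIdeal A) A) (AdicCompletion (maximalIdeal B) B) :=
    .of_algebraMap_eq' (by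
      rw [IsScalarTower.algebraMap_eq A B (AdicCompletion (maximalIdeal B) B)]
      exact hψ.symm)
  haveI : IsLocalHom (algebraMap (AdicCompletion (maximalIdeal A) A)
      (AdicCompletion (maximalIdeal B) B)) := by
    apply ((IsLocalRing.local_hom_TFAE _).out 0 2).mpr
    rw [AdicCompletion.maximalIdeal_eq_map (R := A), Ideal.map_map]
    show Ideal.map (ψ.comp _) _ ≤ _
    rw [hψ, ← Ideal.map_map, AdicCompletion.maximalIdeal_eq_map (R := B)]
    exact Ideal.map_mono (IsLocalRing.map_maximalIdeal_le (algebraMap A B))
  haveI : Algebra.FormallyUnramified A B := Algebra.FormallyUnramified.of_map_maximalIdeal h1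
  obtain ⟨hfin, _⟩ := ComplUnrH8.finite_formallyUnramified_ascend (A := A) (B := B)
    (A' := AdicCompletion (maximalIdeal A) A) (B' := AdicCompletion (maximalIdeal B) B)
    AdicCompletion.maximalIdeal_eq_map AdicCompletion.maximalIdeal_eq_map
    (AdicCompletion.residueField_map_bijective B).2
  haveI : Module.Flat (AdicCompletion (maximalIdeal A) A) (AdicCompletion (maximalIdeal B) B) := hfl
  haveI : Module.Free (AdicCompletion (maximalIdeal A) A) (AdicCompletion (maximalIdeal B) B) :=
    Module.free_of_flat_of_isLocalRing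
  refine ⟨Module.finrank (AdicCompletion (maximalIdeal A) A) (AdicCompletion (maximalIdeal B) B),
    ?_, ⟨(Module.finBasis _ _).equivFun.symm⟩⟩
  exact (Module.finrank_pos_iff_of_free _ _).mpr inferInstance
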