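import Groth.Agent.Lib.FlatBC3_helper8
import Mathlib
set_option autoImplicit false
open CategoryTheory AlgebraicGeometry Opposite TopologicalSpace TensorProduct
open AlgebraicGeometry.Scheme.Modules
universe u
namespace FlatBC2H8

section Geom
variable {X S X' S' : Scheme.{u}} {f : X ⟶ S} {f' : X' ⟶ S'} {g' : X' ⟶ X} {g : S' ⟶ S}
  (hc : IsPullback g' f' f g)

include hc in
/-- **Pointwise flat base change**: in a cartesian square, if `g` is flat at `f' x'` then `g'` is
flat at `x'`. -/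
theorem flat_stalkMap_of_isPullback (x' : X') (hg : (g.stalkMap (f' x')).hom.Flat) :
    (g'.stalkMap x').hom.Flat := by
  obtain ⟨_, ⟨W, hW : IsAffineOpen W, rfl⟩, hsW, -⟩ :=
    (S.isBasis_affineOpens).exists_subset_of_mem_open (Set.mem_univ (f (g' x'))) isOpen_univ
  obtain ⟨_, ⟨U, hU : IsAffineOpen U, rfl⟩, hxU, hUW⟩ :=
    (X.isBasis_affineOpens).exists_subset_of_mem_open (show g' x' ∈ f ⁻¹ᵁ W from hsW)
      (f ⁻¹ᵁ W).isOpen
  have hs' : g (f' x') ∈ W := by
    have : g (f' x') = f (g' x') := by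
      rw [← Scheme.Hom.comp_apply, ← Scheme.Hom.comp_apply, hc.w]
    rw [this]; exact hsW
  obtain ⟨_, ⟨W', hW' : IsAffineOpen W', rfl⟩, hs'W', hW'W⟩ :=
    (S'.isBasis_affineOpens).exists_subset_of_mem_open (show f' x' ∈ g ⁻¹ᵁ W from hs')
      (g ⁻¹ᵁ W).isOpen
  obtain ⟨hU', hpo⟩ := affine_pushout hc hW hU hW' hUW hW'W
  set U' : X'.Opens := g' ⁻¹ᵁ U ⊓ f' ⁻¹ᵁ W' with hU'def
  have hx'U' : x' ∈ U' := ⟨hxU, hs'W'⟩
  have hU'U : U' ≤ g' ⁻¹ᵁ U := inf_le_left
  have hU'W' : U' ≤ f' ⁻¹ᵁ W' := inf_le_right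
  -- algebra instances
  letI algAB : Algebra Γ(S, W) Γ(X, U) := (f.appLE W U hUW).hom.toAlgebra
  letI algAA' : Algebra Γ(S, W) Γ(S', W') := (g.appLE W W' hW'W).hom.toAlgebra
  letI algBB' : Algebra Γ(X, U) Γ(X', U') := (g'.appLE U U' hU'U).hom.toAlgebra
  letI algA'B' : Algebra Γ(S', W') Γ(X', U') := (f'.appLE W' U' hU'W').hom.toAlgebra
  letI algAB' : Algebra Γ(S, W) Γ(X', U') :=
    ((g'.appLE U U' hU'U).hom.comp (f.appLE W U hUW).hom).toAlgebra
  haveI : IsScalarTower Γ(S, W) Γ(X, U) Γ(X', U') := IsScalarTower.of_algebraMap_eq' rfl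
  haveI : IsScalarTower Γ(S, W) Γ(S', W') Γ(X', U') := by
    refine IsScalarTower.of_algebraMap_eq' ?_
    change (g'.appLE U U' hU'U).hom.comp (f.appLE W U hUW).hom =
      (f'.appLE W' U' hU'W').hom.comp (g.appLE W W' hW'W).hom
    rw [← CommRingCat.hom_comp, ← CommRingCat.hom_comp]
    congr 1
    exact hpo.w
  haveI : Algebra.IsPushout Γ(S, W) Γ(X, U) Γ(S', W') Γ(X', U') :=
    CommRingCat.isPushout_iff_isPushout.mp hpo
  -- stalks as algebras over sections
  letI algA'L : Algebra Γ(S', W') (S'.presheaf.stalk (f' x')) :=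
    TopCat.Presheaf.algebra_section_stalk S'.presheaf (⟨f' x', hs'W'⟩ : W')
  haveI : IsLocalization.AtPrime (S'.presheaf.stalk (f' x'))
      (hW'.primeIdealOf ⟨f' x', hs'W'⟩).asIdeal := hW'.isLocalization_stalk ⟨f' x', hs'W'⟩
  letI algB'D : Algebra Γ(X', U') (X'.presheaf.stalk x') :=
    TopCat.Presheaf.algebra_section_stalk X'.presheaf (⟨x', hx'U'⟩ : U')
  haveI : IsLocalization.AtPrime (X'.presheaf.stalk x')
      (hU'.primeIdealOf ⟨x', hx'U'⟩).asIdeal := hU'.isLocalization_stalk ⟨x', hx'U'⟩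
  -- `O_{S',s'}` as a module over `Γ(S, W)`
  letI mAL : Module Γ(S, W) (S'.presheaf.stalk (f' x')) :=
    Module.compHom _ ((algebraMap Γ(S', W') (S'.presheaf.stalk (f' x'))).comp
      (g.appLE W W' hW'W).hom)
  haveI : IsScalarTower Γ(S, W) Γ(S', W') (S'.presheaf.stalk (f' x')) :=
    IsScalarTower.of_algebraMap_smul fun _ _ => rfl
  haveI : Module.Flat Γ(S, W) (S'.presheaf.stalk (f' x')) := by
    letI algAAq : Algebra Γ(S, W) (S.presheaf.stalk (g (f' x'))) :=
      TopCat.Presheaf.algebra_section_stalk S.presheaf (⟨g (f' x'), hs'⟩ : W)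
    haveI : IsLocalization.AtPrime (S.presheaf.stalk (g (f' x')))
        (hW.primeIdealOf ⟨g (f' x'), hs'⟩).asIdeal := hW.isLocalization_stalk ⟨_, hs'⟩
    letI algAqL : Algebra (S.presheaf.stalk (g (f' x'))) (S'.presheaf.stalk (f' x')) :=
      (g.stalkMap (f' x')).hom.toAlgebra
    haveI : IsScalarTower Γ(S, W) (S.presheaf.stalk (g (f' x'))) (S'.presheaf.stalk (f' x')) := by
      refine IsScalarTower.of_algebraMap_smul fun a l => ?_
      show (g.stalkMap (f' x')).hom ((S.presheaf.germ W _ hs').hom a) * l =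
        (S'.presheaf.germ W' _ hs'W').hom ((g.appLE W W' hW'W).hom a) * l
      rw [GenFlatSchH8.stalkMap_germ_appLE g hW'W hs'W' a]
    have hfl : Module.Flat (S.presheaf.stalk (g (f' x'))) (S'.presheaf.stalk (f' x')) := hg
    exact (Module.flat_iff_of_isLocalization (S.presheaf.stalk (g (f' x')))
      (hW.primeIdealOf ⟨_, hs'⟩).asIdeal.primeCompl _).mp hfl
  -- `O_{X',x'}` as a module over `Γ(X, U)`
  letI mBD : Module Γ(X, U) (X'.presheaf.stalk x') :=
    Module.compHom _ ((algebraMap Γ(X', U') (X'.presheaf.stalk x')).comp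
      (g'.appLE U U' hU'U).hom)
  haveI : IsScalarTower Γ(X, U) Γ(X', U') (X'.presheaf.stalk x') :=
    IsScalarTower.of_algebraMap_smul fun _ _ => rfl
  have hSS' : Algebra.algebraMapSubmonoid Γ(X', U')
      (hW'.primeIdealOf ⟨f' x', hs'W'⟩).asIdeal.primeCompl ≤
      (hU'.primeIdealOf ⟨x', hx'U'⟩).asIdeal.primeCompl := by
    rintro _ ⟨b, hb, rfl⟩
    have hcm := IsAffineOpen.comap_primeIdealOf_appLE (f := f') W' hW' U' hU' hU'W' hx'U'
    intro hmem
    apply hb
    rw [← hcm]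
    exact hmem
  have key : Module.Flat Γ(X, U) (X'.presheaf.stalk x') :=
    flat_of_flat_localized (A := Γ(S, W)) (A' := Γ(X, U)) (B := Γ(S', W')) (B' := Γ(X', U'))
      (hW'.primeIdealOf ⟨f' x', hs'W'⟩).asIdeal.primeCompl
      (hU'.primeIdealOf ⟨x', hx'U'⟩).asIdeal.primeCompl hSS'
      (Algebra.linearMap Γ(S', W') Γ(X', U')) (IsBaseChange.linearMap _ _)
      (Algebra.linearMap Γ(S', W') (S'.presheaf.stalk (f' x')))
      (Algebra.linearMap Γ(X', U') (X'.presheaf.stalk x'))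
  -- pass to the local ring of `X`
  letI algBBp : Algebra Γ(X, U) (X.presheaf.stalk (g' x')) :=
    TopCat.Presheaf.algebra_section_stalk X.presheaf (⟨g' x', hxU⟩ : U)
  haveI : IsLocalization.AtPrime (X.presheaf.stalk (g' x'))
      (hU.primeIdealOf ⟨g' x', hxU⟩).asIdeal := hU.isLocalization_stalk ⟨_, hxU⟩
  letI algBpD : Algebra (X.presheaf.stalk (g' x')) (X'.presheaf.stalk x') :=
    (g'.stalkMap x').hom.toAlgebra
  haveI : IsScalarTower Γ(X, U) (X.presheaf.stalk (g' x')) (X'.presheaf.stalk x') := by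
    refine IsScalarTower.of_algebraMap_smul fun b d => ?_
    show (g'.stalkMap x').hom ((X.presheaf.germ U _ hxU).hom b) * d =
      (X'.presheaf.germ U' _ hx'U').hom ((g'.appLE U U' hU'U).hom b) * d
    rw [GenFlatSchH8.stalkMap_germ_appLE g' hU'U hx'U' b]
  exact (Module.flat_iff_of_isLocalization (X.presheaf.stalk (g' x'))
    (hU.primeIdealOf ⟨_, hxU⟩).asIdeal.primeCompl _).mpr key

include hc in
/-- **Descent of flatness over the base along a base change that is flat at the point.** -/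
theorem isFlatOverAt_of_pullback (F : X.Modules) [F.IsQuasicoherent] (x' : X')
    (hg : (g.stalkMap (f' x')).hom.Flat)
    (h : FlatMod.IsFlatOverAt f' ((Scheme.Modules.pullback g').obj F) x') :
    FlatMod.IsFlatOverAt f F (g' x') := by
  have hg' := flat_stalkMap_of_isPullback hc x' hg
  obtain ⟨_, ⟨W, hW : IsAffineOpen W, rfl⟩, hsW, -⟩ :=
    (S.isBasis_affineOpens).exists_subset_of_mem_open (Set.mem_univ (f (g' x'))) isOpen_univ
  obtain ⟨_, ⟨U, hU : IsAffineOpen U, rfl⟩, hxU, hUW⟩ :=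
    (X.isBasis_affineOpens).exists_subset_of_mem_open (show g' x' ∈ f ⁻¹ᵁ W from hsW)
      (f ⁻¹ᵁ W).isOpen
  have hs' : g (f' x') ∈ W := by
    have : g (f' x') = f (g' x') := by
      rw [← Scheme.Hom.comp_apply, ← Scheme.Hom.comp_apply, hc.w]
    rw [this]; exact hsW
  obtain ⟨_, ⟨W', hW' : IsAffineOpen W', rfl⟩, hs'W', hW'W⟩ :=
    (S'.isBasis_affineOpens).exists_subset_of_mem_open (show f' x' ∈ g ⁻¹ᵁ W from hs')
      (g ⁻¹ᵁ W).isOpen
  obtain ⟨hU', hpo⟩ := affine_pushout hc hW hU hW' hUW hW'W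
  set U' : X'.Opens := g' ⁻¹ᵁ U ⊓ f' ⁻¹ᵁ W' with hU'def
  have hx'U' : x' ∈ U' := ⟨hxU, hs'W'⟩
  have hU'U : U' ≤ g' ⁻¹ᵁ U := inf_le_left
  have hU'W' : U' ≤ f' ⁻¹ᵁ W' := inf_le_right
  have hcomm : (g'.appLE U U' hU'U).hom.comp (f.appLE W U hUW).hom =
      (f'.appLE W' U' hU'W').hom.comp (g.appLE W W' hW'W).hom := by
    rw [← CommRingCat.hom_comp, ← CommRingCat.hom_comp]
    congr 1
    exact hpo.w
  rw [FlatSecH8.isFlatOverAt_iff_flat_stalk f F hW hUW hxU]
  set F' := (Scheme.Modules.pullback g').obj F with hF'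
  -- rings
  set ρ : Γ(S, W) →+* X'.presheaf.stalk x' :=
    (X'.presheaf.germ U' x' hx'U').hom.comp
      ((g'.appLE U U' hU'U).hom.comp (f.appLE W U hUW).hom) with hρ
  letI algABp : Algebra Γ(S, W) (X.presheaf.stalk (g' x')) :=
    ((X.presheaf.germ U (g' x') hxU).hom.comp (f.appLE W U hUW).hom).toAlgebra
  letI algBpD : Algebra (X.presheaf.stalk (g' x')) (X'.presheaf.stalk x') :=
    (g'.stalkMap x').hom.toAlgebra
  letI algAD : Algebra Γ(S, W) (X'.presheaf.stalk x') := ρ.toAlgebra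
  haveI : IsScalarTower Γ(S, W) (X.presheaf.stalk (g' x')) (X'.presheaf.stalk x') := by
    refine IsScalarTower.of_algebraMap_eq fun a => ?_
    show ρ a = (g'.stalkMap x').hom ((X.presheaf.germ U (g' x') hxU).hom
      ((f.appLE W U hUW).hom a))
    rw [GenFlatSchH8.stalkMap_germ_appLE g' hU'U hx'U']
    rfl
  letI mAL : Module Γ(S, W) (F.presheaf.stalk (g' x')) :=
    Module.compHom _ ((X.presheaf.germ U (g' x') hxU).hom.comp (f.appLE W U hUW).hom)
  haveI : IsScalarTower Γ(S, W) (X.presheaf.stalk (g' x')) (F.presheaf.stalk (g' x')) :=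
    IsScalarTower.of_algebraMap_smul fun _ _ => rfl
  haveI : Module.Flat (X.presheaf.stalk (g' x')) (X'.presheaf.stalk x') := hg'
  haveI : IsLocalHom (algebraMap (X.presheaf.stalk (g' x')) (X'.presheaf.stalk x')) :=
    inferInstanceAs (IsLocalHom (g'.stalkMap x').hom)
  haveI : Module.FaithfullyFlat (X.presheaf.stalk (g' x')) (X'.presheaf.stalk x') :=
    Module.FaithfullyFlat.of_flat_of_isLocalHom
  -- the stalk of `F'` over `Γ(S, W)`
  letI mAL' : Module Γ(S, W) (F'.presheaf.stalk x') := Module.compHom _ ρ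
  haveI : IsScalarTower Γ(S, W) (X'.presheaf.stalk x') (F'.presheaf.stalk x') :=
    IsScalarTower.of_algebraMap_smul fun _ _ => rfl
  haveI hflatA : Module.Flat Γ(S, W) (F'.presheaf.stalk x') := by
    letI algAL₀ : Algebra Γ(S, W) (S'.presheaf.stalk (f' x')) :=
      ((S'.presheaf.germ W' (f' x') hs'W').hom.comp (g.appLE W W' hW'W).hom).toAlgebra
    letI mL₀ : Module (S'.presheaf.stalk (f' x')) (F'.presheaf.stalk x') :=
      FlatMod.moduleStalkOver f' F' x'
    haveI : IsScalarTower Γ(S, W) (S'.presheaf.stalk (f' x')) (F'.presheaf.stalk x') := by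
      refine IsScalarTower.of_algebraMap_smul fun a m => ?_
      show (f'.stalkMap x').hom ((S'.presheaf.germ W' (f' x') hs'W').hom
        ((g.appLE W W' hW'W).hom a)) • m = ρ a • m
      rw [GenFlatSchH8.stalkMap_germ_appLE f' hU'W' hx'U']
      have : (f'.appLE W' U' hU'W').hom ((g.appLE W W' hW'W).hom a) =
          (g'.appLE U U' hU'U).hom ((f.appLE W U hUW).hom a) :=
        (congrArg (fun φ => φ a) hcomm).symm
      rw [this]; rfl
    haveI : Module.Flat Γ(S, W) (S'.presheaf.stalk (f' x')) := by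
      letI algAAq : Algebra Γ(S, W) (S.presheaf.stalk (g (f' x'))) :=
        TopCat.Presheaf.algebra_section_stalk S.presheaf (⟨g (f' x'), hs'⟩ : W)
      haveI : IsLocalization.AtPrime (S.presheaf.stalk (g (f' x')))
          (hW.primeIdealOf ⟨g (f' x'), hs'⟩).asIdeal := hW.isLocalization_stalk ⟨_, hs'⟩
      letI algAqL : Algebra (S.presheaf.stalk (g (f' x'))) (S'.presheaf.stalk (f' x')) :=
        (g.stalkMap (f' x')).hom.toAlgebra
      haveI : IsScalarTower Γ(S, W) (S.presheaf.stalk (g (f' x')))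
          (S'.presheaf.stalk (f' x')) := by
        refine IsScalarTower.of_algebraMap_smul fun a l => ?_
        show (g.stalkMap (f' x')).hom ((S.presheaf.germ W _ hs').hom a) * l =
          (S'.presheaf.germ W' _ hs'W').hom ((g.appLE W W' hW'W).hom a) * l
        rw [GenFlatSchH8.stalkMap_germ_appLE g hW'W hs'W' a]
      have hfl : Module.Flat (S.presheaf.stalk (g (f' x'))) (S'.presheaf.stalk (f' x')) := hg
      exact (Module.flat_iff_of_isLocalization (S.presheaf.stalk (g (f' x')))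
        (hW.primeIdealOf ⟨_, hs'⟩).asIdeal.primeCompl _).mp hfl
    haveI : Module.Flat (S'.presheaf.stalk (f' x')) (F'.presheaf.stalk x') := h
    exact Module.Flat.trans Γ(S, W) (S'.presheaf.stalk (f' x')) (F'.presheaf.stalk x')
  -- transfer along the base change equivalence
  letI mBpL' : Module (X.presheaf.stalk (g' x')) (F'.presheaf.stalk x') :=
    Module.compHom _ (g'.stalkMap x').hom
  haveI : IsScalarTower (X.presheaf.stalk (g' x')) (X'.presheaf.stalk x')
      (F'.presheaf.stalk x') := IsScalarTower.of_algebraMap_smul fun _ _ => rfl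
  have bc := PBH8.isBaseChange_cStalk g' F x'
  have h' : Module.Flat Γ(S, W)
      (X'.presheaf.stalk x' ⊗[X.presheaf.stalk (g' x')] F.presheaf.stalk (g' x')) :=
    Module.Flat.of_linearEquiv (bc.equiv.restrictScalars Γ(S, W))
  exact PBH8.flat_of_flat_tensor (R := Γ(S, W)) (A := X.presheaf.stalk (g' x'))
    (B := X'.presheaf.stalk x') h'

end Geom
end FlatBC2H8
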