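import Mathlib
import Groth.Agent.Lib.FlatBC4_helper8
import Groth.Agent.Lib.FlatUnramPt_helper4
import Groth.Agent.Lib.SmoothFib_helper4

/-!
# Flatness at a point and flat base change (helper4)
-/

set_option autoImplicit false
set_option linter.style.haveILetI false

namespace Groth.Agent.Lib.ComplFibH4

universe u

open CategoryTheory CategoryTheory.Limits AlgebraicGeometry

/-- equal morphisms have the same stalk properties -/
theorem stalk_congr_hom {P : ∀ {R S : Type u} [CommRing R] [CommRing S], (R →+* S) → Prop}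
    {X Y : Scheme.{u}} {φ ψ : X ⟶ Y} (h : φ = ψ) (x : X) :
    P (φ.stalkMap x).hom ↔ P (ψ.stalkMap x).hom := by
  subst h; rfl

/-- Flatness at a point ascends and descends along a flat base change. -/
theorem flat_stalk_iff_of_isPullback_of_flat {X Y X' Y' : Scheme.{u}} {f : X ⟶ Y} {g : Y' ⟶ Y}
    {f' : X' ⟶ Y'} {g' : X' ⟶ X} (sq : IsPullback g' f' f g) [Flat g] (x' : X') :
    (f'.stalkMap x').hom.Flat ↔ (f.stalkMap (g'.base x')).hom.Flat := by
  have hg' : (g'.stalkMap x').hom.Flat :=
    FlatBC2H8.flat_stalkMap_of_isPullback sq x' (Flat.stalkMap g _)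
  constructor
  · intro h
    have hcomp : ((f' ≫ g).stalkMap x').hom.Flat := by
      rw [Scheme.Hom.stalkMap_comp]
      exact RingHom.Flat.comp (Flat.stalkMap g _) h
    have hcomp' : ((g' ≫ f).stalkMap x').hom.Flat :=
      (stalk_congr_hom (P := RingHom.Flat) sq.w x').mpr hcomp
    rw [Scheme.Hom.stalkMap_comp] at hcomp'
    letI a1 : Algebra (Y.presheaf.stalk (f.base (g'.base x'))) (X.presheaf.stalk (g'.base x')) :=
      (f.stalkMap (g'.base x')).hom.toAlgebra
    letI a2 : Algebra (X.presheaf.stalk (g'.base x')) (X'.presheaf.stalk x') :=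
      (g'.stalkMap x').hom.toAlgebra
    letI a3 : Algebra (Y.presheaf.stalk (f.base (g'.base x'))) (X'.presheaf.stalk x') :=
      (f.stalkMap (g'.base x') ≫ g'.stalkMap x').hom.toAlgebra
    haveI : IsScalarTower (Y.presheaf.stalk (f.base (g'.base x')))
        (X.presheaf.stalk (g'.base x')) (X'.presheaf.stalk x') :=
      IsScalarTower.of_algebraMap_eq (fun _ => rfl)
    haveI : Module.Flat (X.presheaf.stalk (g'.base x')) (X'.presheaf.stalk x') := hg'
    haveI : IsLocalHom (algebraMap (X.presheaf.stalk (g'.base x')) (X'.presheaf.stalk x')) :=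
      inferInstanceAs (IsLocalHom (g'.stalkMap x').hom)
    haveI : Module.FaithfullyFlat (X.presheaf.stalk (g'.base x')) (X'.presheaf.stalk x') :=
      Module.FaithfullyFlat.of_flat_of_isLocalHom
    haveI : Module.Flat (Y.presheaf.stalk (f.base (g'.base x'))) (X'.presheaf.stalk x') := hcomp'
    exact Groth.Agent.Lib.FlatUnramPtH4.flat_of_faithfullyFlat_comp
      (Y.presheaf.stalk (f.base (g'.base x'))) (X.presheaf.stalk (g'.base x'))
      (X'.presheaf.stalk x')
  · intro h
    exact FlatBC2H8.flat_stalkMap_of_isPullback sq.flip x' h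

end Groth.Agent.Lib.ComplFibH4
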