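import Mathlib

/-!
# The spectrum of an adic completion and the closed fibre (helper4)

For a finitely generated ideal `I` of `A`: every point of `V(I)` is in the image of
`Spec Â → Spec A`, and every point of `Spec Â` specializes to a point lying over `V(I)`.  Hence a
closed subset of `Spec A` disjoint from `V(I)` does not meet the image of `Spec Â`.
-/

set_option autoImplicit false
set_option linter.style.haveILetI false

namespace Groth.Agent.Lib.ComplFibH4

universe u

open CategoryTheory CategoryTheory.Limits AlgebraicGeometry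

section Ring

variable {A : Type u} [CommRing A] (I : Ideal A)

/-- `V(I)` is contained in the image of the spectrum of the completion -/
theorem exists_comap_eq_of_le (p : PrimeSpectrum A) (hp : I ≤ p.asIdeal) :
    ∃ p' : PrimeSpectrum (AdicCompletion I A),
      PrimeSpectrum.comap (algebraMap A (AdicCompletion I A)) p' = p := by
  have hq : (p.asIdeal.map (Ideal.Quotient.mk I)).IsPrime :=
    Ideal.map_isPrime_of_surjective Ideal.Quotient.mk_surjective (by rwa [Ideal.mk_ker])
  refine ⟨⟨Ideal.comap (AdicCompletion.evalOneₐ I).toRingHom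
    (p.asIdeal.map (Ideal.Quotient.mk I)), Ideal.comap_isPrime _ _⟩, ?_⟩
  apply PrimeSpectrum.ext
  show Ideal.comap (algebraMap A (AdicCompletion I A))
    (Ideal.comap (AdicCompletion.evalOneₐ I).toRingHom (p.asIdeal.map (Ideal.Quotient.mk I))) =
    p.asIdeal
  rw [Ideal.comap_comap, AdicCompletion.evalOneₐ_comp_algebraMap_eq_mk,
    Ideal.comap_map_of_surjective _ Ideal.Quotient.mk_surjective, ← RingHom.ker_eq_comap_bot,
    Ideal.mk_ker]
  exact sup_eq_left.mpr hp

/-- every point of the spectrum of the completion specializes to a point over `V(I)` -/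
theorem exists_specializes_le (hfg : I.FG) (q' : PrimeSpectrum (AdicCompletion I A)) :
    ∃ n' : PrimeSpectrum (AdicCompletion I A), q' ⤳ n' ∧
      I ≤ (PrimeSpectrum.comap (algebraMap A (AdicCompletion I A)) n').asIdeal := by
  obtain ⟨M, hM, hqM⟩ := Ideal.exists_le_maximal q'.asIdeal q'.2.ne_top
  refine ⟨⟨M, hM.isPrime⟩, (PrimeSpectrum.le_iff_specializes _ _).mp hqM, ?_⟩
  haveI := AdicCompletion.isAdicComplete_self I hfg
  have hjac : I.map (algebraMap A (AdicCompletion I A)) ≤ M :=
    (IsAdicComplete.le_jacobson_bot _).trans (sInf_le ⟨bot_le, hM⟩)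
  intro a ha
  show algebraMap A (AdicCompletion I A) a ∈ M
  exact hjac (Ideal.mem_map_of_mem _ ha)

/-- a closed subset disjoint from `V(I)` does not meet the image of the completion -/
theorem comap_notMem_of_isClosed (hfg : I.FG) (Z : Set (PrimeSpectrum A)) (hZ : IsClosed Z)
    (hdis : ∀ p ∈ Z, ¬ I ≤ p.asIdeal) (q' : PrimeSpectrum (AdicCompletion I A)) :
    PrimeSpectrum.comap (algebraMap A (AdicCompletion I A)) q' ∉ Z := by
  intro hq
  obtain ⟨n', hspec, hn'⟩ := exists_specializes_le I hfg q'
  have hmem : PrimeSpectrum.comap (algebraMap A (AdicCompletion I A)) n' ∈ Z :=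
    (hspec.map (PrimeSpectrum.continuous_comap (algebraMap A (AdicCompletion I A)))).mem_closed
      hZ hq
  exact hdis _ hmem hn'

end Ring

section Sch

variable {A : Type u} [CommRing A] (I : Ideal A) {X : Scheme.{u}}
  (h : X ⟶ Spec (CommRingCat.of A))

/-- the completion morphism -/
noncomputable abbrev gCompl : Spec (CommRingCat.of (AdicCompletion I A)) ⟶ Spec (CommRingCat.of A) :=
  Spec.map (CommRingCat.ofHom (algebraMap A (AdicCompletion I A)))

/-- If an open `L` of `X` contains `h⁻¹ V(I)` and `h` is closed, every point of the base change to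
the completion maps into `L`. -/
theorem fst_mem_of_forall_le (hfg : I.FG) (hcl : IsClosedMap h.base) (L : X.Opens)
    (hL : ∀ x : X, I ≤ (h.base x).asIdeal → x ∈ L) (x' : ↥(pullback h (gCompl I))) :
    (pullback.fst h (gCompl I)).base x' ∈ L := by
  by_contra hx
  let Z : Set (PrimeSpectrum A) := h.base '' (L : Set X)ᶜ
  have hZ : IsClosed Z := hcl _ L.isOpen.isClosed_compl
  have hdis : ∀ p ∈ Z, ¬ I ≤ p.asIdeal := by
    rintro _ ⟨x, hxL, rfl⟩ hle
    exact hxL (hL x hle)
  have hmem : h.base ((pullback.fst h (gCompl I)).base x') ∈ Z := ⟨_, hx, rfl⟩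
  have heq : h.base ((pullback.fst h (gCompl I)).base x') =
      (gCompl I).base ((pullback.snd h (gCompl I)).base x') := by
    rw [← Scheme.Hom.comp_apply, ← Scheme.Hom.comp_apply, pullback.condition]
  rw [heq] at hmem
  exact comap_notMem_of_isClosed I hfg Z hZ hdis _ hmem

/-- Conversely a subset containing the image of the base change contains `h⁻¹ V(I)`. -/
theorem mem_of_forall_fst_mem (L : Set X)
    (hL : ∀ x' : ↥(pullback h (gCompl I)), (pullback.fst h (gCompl I)).base x' ∈ L) (x : X)
    (hx : I ≤ (h.base x).asIdeal) : x ∈ L := by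
  obtain ⟨p', hp'⟩ := exists_comap_eq_of_le I (h.base x) hx
  obtain ⟨x', hx'1, -⟩ := Scheme.Pullback.exists_preimage_pullback (f := h) (g := gCompl I) x p'
    hp'.symm
  rw [← hx'1]
  exact hL x'

end Sch

end Groth.Agent.Lib.ComplFibH4
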