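import Groth.Agent.Lib.AlgSpFibreFlat2_helper7

/-!
# Pointwise fibrewise criterion of flatness (lead)

The pointwise form of helper7's `flat_of_fibrewise_flat'`: flatness of the fibre morphism over the
image point gives flatness of the stalk map.  The proof is the `key` step of helper7's theorem.
-/

set_option autoImplicit false
universe u
open CategoryTheory CategoryTheory.Limits AlgebraicGeometry Opposite TensorProduct
open AlgSp Groth.Agent.Lib.AlgSpPoints_helper7 Groth.Agent.Lib.AlgSpPullback_helper7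
  Groth.Agent.Lib.AlgSpQC_helper7 Groth.Agent.Lib.AlgSpLocP4_helper7
  Groth.Agent.Lib.FibreFlatH7 Groth.Agent.Lib.AlgSpFibreFlatH7

namespace Groth.Agent.Lib.FibreFlatPt

theorem stalk_flat_of_fibre_flat {U V W : Scheme.{u}} (g : U ⟶ V) (k : V ⟶ W) [Flat (g ≫ k)]
    [LocallyOfFinitePresentation (g ≫ k)] [LocallyOfFiniteType k] (u : U)
    (hfib : ∃ (Uw Vw : Scheme.{u}) (p1 : Uw ⟶ U) (p2 : Uw ⟶ Spec (W.residueField (k (g u))))
      (q1 : Vw ⟶ V) (q2 : Vw ⟶ Spec (W.residueField (k (g u)))) (gw : Uw ⟶ Vw),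
      IsPullback p1 p2 (g ≫ k) (W.fromSpecResidueField (k (g u))) ∧
      IsPullback q1 q2 k (W.fromSpecResidueField (k (g u))) ∧ gw ≫ q1 = p1 ≫ g ∧ gw ≫ q2 = p2 ∧
      Flat gw) :
    (g.stalkMap u).hom.Flat := by
  obtain ⟨Uw, Vw, p1, p2, q1, q2, gw, hU, hV, c1, c2, hgw⟩ := hfib
  letI algRS : Algebra (W.presheaf.stalk (k (g u))) (V.presheaf.stalk (g u)) :=
    (k.stalkMap (g u)).hom.toAlgebra
  letI algSS' : Algebra (V.presheaf.stalk (g u)) (U.presheaf.stalk u) :=
    (g.stalkMap u).hom.toAlgebra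
  letI algRS' : Algebra (W.presheaf.stalk (k (g u))) (U.presheaf.stalk u) :=
    (k.stalkMap (g u) ≫ g.stalkMap u).hom.toAlgebra
  haveI : IsScalarTower (W.presheaf.stalk (k (g u))) (V.presheaf.stalk (g u))
      (U.presheaf.stalk u) := IsScalarTower.of_algebraMap_eq (fun _ => rfl)
  haveI : IsLocalHom (algebraMap (W.presheaf.stalk (k (g u))) (V.presheaf.stalk (g u))) :=
    inferInstanceAs (IsLocalHom (k.stalkMap (g u)).hom)
  haveI : IsLocalHom (algebraMap (V.presheaf.stalk (g u)) (U.presheaf.stalk u)) :=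
    inferInstanceAs (IsLocalHom (g.stalkMap u).hom)
  haveI : Module.Flat (W.presheaf.stalk (k (g u))) (U.presheaf.stalk u) := by
    have h1 := Flat.stalkMap (g ≫ k) u
    rw [Scheme.Hom.stalkMap_comp] at h1
    exact h1
  have hsch := flat_pullback_fst_stalk g k u p1 p2 q1 q2 gw hU hV c1 c2 hgw
    (A := CommRingCat.of (V.presheaf.stalk (g u) ⧸
      mIdeal (W.presheaf.stalk (k (g u))) (V.presheaf.stalk (g u))))
    (CommRingCat.ofHom (Ideal.Quotient.mk _))
    (CommRingCat.ofHom (Ideal.Quotient.lift _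
      ((Ideal.Quotient.mk (mIdeal (W.presheaf.stalk (k (g u))) (V.presheaf.stalk (g u)))).comp
        (algebraMap _ _))
      (fun a ha => Ideal.Quotient.eq_zero_iff_mem.mpr (Ideal.mem_map_of_mem _ ha))))
    (by ext x; rfl)
  have H := flat_tensor_of_flat_pullback_fst (V.presheaf.stalk (g u))
    (V.presheaf.stalk (g u) ⧸ mIdeal (W.presheaf.stalk (k (g u))) (V.presheaf.stalk (g u)))
    (U.presheaf.stalk u) hsch
  haveI : Algebra.EssFiniteType (W.presheaf.stalk (k (g u))) (V.presheaf.stalk (g u)) :=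
    LocallyOfFiniteType.stalkMap k (g u)
  have hS' : CAlgX.IsEssFinitePresentation (W.presheaf.stalk (k (g u)))
      (U.presheaf.stalk u) := by
    have h1 := Groth.Agent.Lib.FibInjH6.isEssFinitePresentation_stalkMap (g ≫ k) u
    rw [Scheme.Hom.stalkMap_comp] at h1
    exact h1
  haveI := H
  have hfib' : Module.Flat (V.presheaf.stalk (g u) ⧸
      mIdeal (W.presheaf.stalk (k (g u))) (V.presheaf.stalk (g u)))
      (U.presheaf.stalk u ⧸ mIdeal (W.presheaf.stalk (k (g u))) (V.presheaf.stalk (g u)) •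
        (⊤ : Submodule (V.presheaf.stalk (g u)) (U.presheaf.stalk u))) :=
    Module.Flat.of_linearEquiv
      ((TensorProduct.quotTensorEquivQuotSMul (U.presheaf.stalk u)
        (mIdeal (W.presheaf.stalk (k (g u))) (V.presheaf.stalk (g u)))).extendScalarsOfSurjective
          Ideal.Quotient.mk_surjective).symm
  have res := Groth.Agent.Lib.FibCritH6.fibre_criterion_essFiniteType
    (R := W.presheaf.stalk (k (g u)))
    (S := V.presheaf.stalk (g u)) (S' := U.presheaf.stalk u) (M := U.presheaf.stalk u) hS' hfib'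
  exact res.2

end Groth.Agent.Lib.FibreFlatPt
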