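import Mathlib
import Groth.Prelude
import Groth.Agent.Lib.SmoothFib_helper4

set_option autoImplicit false
set_option linter.style.haveILetI false
set_option linter.unusedVariables false
universe u
open CategoryTheory CategoryTheory.Limits AlgebraicGeometry TopologicalSpace Opposite

namespace Groth.Agent.Lib.SmoothFibOpenH4

theorem smooth_fibre_iff {X Y : Scheme.{u}} (f : X ⟶ Y) [Flat f]
    [LocallyOfFinitePresentation f] (y : Y) :
    Smooth (f.fiberToSpecResidueField y) ↔ ∀ x : X, f.base x = y → x ∈ f.smoothLocus := by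
  have hlfp : ∀ y : Y, LocallyOfFinitePresentation (f.fiberToSpecResidueField y) := fun y =>
    MorphismProperty.pullback_snd (P := @LocallyOfFinitePresentation) _ _ inferInstance
  constructor
  · intro hs x hfx
    subst hfx
    haveI := hlfp (f.base x)
    haveI := hs
    rw [Groth.Agent.Lib.UnramLocH4.main2156 f x]
    refine ⟨(Flat.iff_flat_stalkMap f).mp inferInstance x, ?_⟩
    rw [Scheme.Hom.smoothLocus_eq_top]
    trivial
  · intro h
    haveI := hlfp y
    rw [← Scheme.Hom.smoothLocus_eq_top_iff]
    refine top_le_iff.mp ?_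
    intro z _
    have sq : IsPullback (f.fiberι y) (f.fiberToSpecResidueField y) f
        (Y.fromSpecResidueField y) := IsPullback.of_hasPullback _ _
    have hfz : f.base ((f.fiberι y).base z) = y := (f.range_fiberι y).le ⟨z, rfl⟩
    have hx : (f.fiberι y).base z ∈ f.smoothLocus := h _ hfz
    exact Groth.Agent.Lib.UnramLocH4.stalk_smooth_baseChange sq z hx

theorem main5934 {X Y : Scheme.{u}} (f : X ⟶ Y) [IsProper f] [Flat f]
    [LocallyOfFinitePresentation f] :
    IsOpen {y : Y | Smooth (f.fiberToSpecResidueField y)} := by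
  have hset : {y : Y | Smooth (f.fiberToSpecResidueField y)} =
      (f.base '' ((f.smoothLocus : Set X)ᶜ))ᶜ := by
    ext y
    constructor
    · intro hs
      rintro ⟨x, hx, hfx⟩
      exact hx ((smooth_fibre_iff f y).mp hs x hfx)
    · intro h
      refine (smooth_fibre_iff f y).mpr (fun x hfx => ?_)
      by_contra hnot
      exact h ⟨x, hnot, hfx⟩
  rw [hset]
  have hcl : IsClosed (f.base '' ((f.smoothLocus : Set X)ᶜ)) :=
    f.isClosedMap _ f.smoothLocus.isOpen.isClosed_compl
  exact hcl.isOpen_compl

end Groth.Agent.Lib.SmoothFibOpenH4
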