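import Mathlib

/-!
# An injective local algebra map from a one-dimensional formally smooth local domain
to a power series ring (helper4)
-/

set_option autoImplicit false
set_option linter.style.haveILetI false

namespace Groth.Agent.Lib.SmoothingPSH4

universe u v

open IsLocalRing

/-- Transfer of adic completeness to a smaller ideal defining the same topology
(same statement as `SmoothSectionH3.isAdicComplete_of_le_of_pow_le`, repeated here to keep the
import closure small). -/
theorem isAdicComplete_of_le_of_pow_le {A : Type*} [CommRing A] (I J : Ideal A) (n : ℕ)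
    (h1 : J ≤ I) (h2 : I ^ n ≤ J) [IsAdicComplete I A] : IsAdicComplete J A := by
  have hJI : ∀ k, (J ^ k • ⊤ : Submodule A A) ≤ I ^ k • ⊤ := fun k =>
    Submodule.smul_mono_left (Ideal.pow_right_mono h1 k)
  have hIJ : ∀ k, (I ^ (n * k) • ⊤ : Submodule A A) ≤ J ^ k • ⊤ := fun k => by
    rw [pow_mul]
    exact Submodule.smul_mono_left (Ideal.pow_right_mono h2 k)
  refine { haus' := ?_, prec' := ?_ }
  · intro x hx
    exact IsHausdorff.haus (inferInstance : IsHausdorff I A) x
      (fun k => SModEq.mono (hJI k) (hx k))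
  · intro f hf
    obtain ⟨L, hL⟩ := IsPrecomplete.prec (inferInstance : IsPrecomplete I A) (f := f) (by
        intro k l hkl
        exact SModEq.mono (hJI k) (hf hkl))
    refine ⟨L, fun k => ?_⟩
    have hN1 : k ≤ max k (n * k) := le_max_left _ _
    have hN2 : n * k ≤ max k (n * k) := le_max_right _ _
    have e1 := hf hN1
    have e2 := hL (max k (n * k))
    have e3 : f (max k (n * k)) ≡ L [SMOD (J ^ k • ⊤ : Submodule A A)] :=
      SModEq.mono ((Submodule.smul_mono_left (Ideal.pow_le_pow_right hN2)).trans (hIJ k)) e2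
    exact e1.trans e3

/-- a "derivation at the rational point" which does not vanish on the maximal ideal -/
theorem exists_derivation (k : Type u) [Field k] (R : Type v) [CommRing R]
    [IsLocalRing R] [IsNoetherianRing R] [Algebra k R]
    (hR : ¬ IsField R) (ρ : R →ₐ[k] k) :
    ∃ (D : R → k) (u : R), u ∈ maximalIdeal R ∧ D u ≠ 0 ∧ (∀ a : k, D (algebraMap k R a) = 0) ∧
      (∀ r s : R, D (r + s) = D r + D s) ∧ (∀ r s : R, D (r * s) = ρ r * D s + ρ s * D r) := by
  classical
  have hρsurj : Function.Surjective ρ := fun a => ⟨algebraMap k R a, by simp⟩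
  have hker : RingHom.ker ρ.toRingHom = maximalIdeal R :=
    IsLocalRing.eq_maximalIdeal (RingHom.ker_isMaximal_of_surjective ρ.toRingHom hρsurj)
  have hmem : ∀ r : R, r ∈ maximalIdeal R ↔ ρ r = 0 := fun r => by
    rw [← hker, RingHom.mem_ker]; rfl
  have hsub : ∀ r : R, r - algebraMap k R (ρ r) ∈ maximalIdeal R := fun r => by
    rw [hmem, map_sub, AlgHom.commutes, Algebra.algebraMap_self_apply, sub_self]
  -- a nonzero cotangent vector and a functional not vanishing on it
  have hnt : Nontrivial (CotangentSpace R) := by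
    rw [← not_subsingleton_iff_nontrivial, subsingleton_cotangentSpace_iff]
    exact hR
  obtain ⟨v, hv⟩ := exists_ne (0 : CotangentSpace R)
  obtain ⟨⟨u, hu⟩, rfl⟩ := (maximalIdeal R).toCotangent_surjective v
  obtain ⟨ℓ, hℓ⟩ : ∃ ℓ : (maximalIdeal R).Cotangent →ₗ[k] k,
      ℓ ((maximalIdeal R).toCotangent ⟨u, hu⟩) ≠ 0 := by
    by_contra hcon
    push Not at hcon
    exact hv ((Module.forall_dual_apply_eq_zero_iff k _).mp hcon)
  -- the derivation
  let D : R → k := fun r => ℓ ((maximalIdeal R).toCotangent ⟨r - algebraMap k R (ρ r), hsub r⟩)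
  refine ⟨D, u, hu, ?_, ?_, ?_, ?_⟩
  · have : (⟨u - algebraMap k R (ρ u), hsub u⟩ : maximalIdeal R) = ⟨u, hu⟩ := by
      apply Subtype.ext
      show u - algebraMap k R (ρ u) = u
      rw [(hmem u).mp hu, map_zero, sub_zero]
    show ℓ _ ≠ 0
    rw [this]
    exact hℓ
  · intro a
    have : (⟨algebraMap k R a - algebraMap k R (ρ (algebraMap k R a)), hsub _⟩ : maximalIdeal R)
        = 0 := by
      apply Subtype.ext
      show algebraMap k R a - algebraMap k R (ρ (algebraMap k R a)) = 0
      rw [AlgHom.commutes, Algebra.algebraMap_self_apply, sub_self]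
    show ℓ _ = 0
    rw [this, map_zero, map_zero]
  · intro r s
    have : (⟨r + s - algebraMap k R (ρ (r + s)), hsub _⟩ : maximalIdeal R) =
        ⟨r - algebraMap k R (ρ r), hsub r⟩ + ⟨s - algebraMap k R (ρ s), hsub s⟩ := by
      apply Subtype.ext
      show r + s - algebraMap k R (ρ (r + s)) =
        (r - algebraMap k R (ρ r)) + (s - algebraMap k R (ρ s))
      rw [map_add, map_add]; ring
    show ℓ _ = ℓ _ + ℓ _
    rw [this, map_add, map_add]
  · intro r s
    have : (⟨r * s - algebraMap k R (ρ (r * s)), hsub _⟩ : maximalIdeal R) =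
        (r - algebraMap k R (ρ r)) • ⟨s - algebraMap k R (ρ s), hsub s⟩ +
        (algebraMap k R (ρ r)) • ⟨s - algebraMap k R (ρ s), hsub s⟩ +
        (algebraMap k R (ρ s)) • ⟨r - algebraMap k R (ρ r), hsub r⟩ := by
      apply Subtype.ext
      show r * s - algebraMap k R (ρ (r * s)) =
        (r - algebraMap k R (ρ r)) * (s - algebraMap k R (ρ s)) +
        (algebraMap k R (ρ r)) * (s - algebraMap k R (ρ s)) +
        (algebraMap k R (ρ s)) * (r - algebraMap k R (ρ r))
      rw [map_mul, map_mul]; ring
    have hcot : (maximalIdeal R).toCotangent ⟨r * s - algebraMap k R (ρ (r * s)), hsub _⟩ =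
        ρ r • (maximalIdeal R).toCotangent ⟨s - algebraMap k R (ρ s), hsub s⟩ +
        ρ s • (maximalIdeal R).toCotangent ⟨r - algebraMap k R (ρ r), hsub r⟩ := by
      rw [this, map_add, map_add, LinearMap.map_smul, LinearMap.map_smul, LinearMap.map_smul,
        Ideal.Cotangent.smul_eq_zero_of_mem (hsub r), zero_add, algebraMap_smul, algebraMap_smul]
    show ℓ _ = ρ r * ℓ _ + ρ s * ℓ _
    rw [hcot, map_add, LinearMap.map_smul, LinearMap.map_smul, smul_eq_mul, smul_eq_mul]

/-- lifting a first order datum to a power series valued algebra map -/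
theorem exists_lift_of_derivation (k : Type u) [Field k] (R : Type v) [CommRing R]
    [Algebra k R] [Algebra.FormallySmooth k R] (ρ : R →ₐ[k] k) (D : R → k)
    (hDalg : ∀ a : k, D (algebraMap k R a) = 0)
    (hDadd : ∀ r s : R, D (r + s) = D r + D s)
    (hDmul : ∀ r s : R, D (r * s) = ρ r * D s + ρ s * D r) :
    ∃ g : R →ₐ[k] PowerSeries k, ∀ r, PowerSeries.coeff 0 (g r) = ρ r ∧
      PowerSeries.coeff 1 (g r) = D r := by
  classical
  let I : Ideal (PowerSeries k) := Ideal.span {(PowerSeries.X : PowerSeries k)} ^ 2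
  have hX2 : (PowerSeries.X : PowerSeries k) ^ 2 ∈ I :=
    Ideal.pow_mem_pow (Ideal.subset_span (Set.mem_singleton _)) 2
  have hIdvd : ∀ f : PowerSeries k, f ∈ I → (PowerSeries.X : PowerSeries k) ^ 2 ∣ f := by
    intro f hf
    have : I = Ideal.span {(PowerSeries.X : PowerSeries k) ^ 2} := Ideal.span_singleton_pow _ _
    rw [this] at hf
    exact Ideal.mem_span_singleton.mp hf
  let F : R → PowerSeries k := fun r => PowerSeries.C (ρ r) + PowerSeries.C (D r) * PowerSeries.X
  have hF1 : F 1 = 1 := by
    have h1 : D 1 = 0 := by simpa using hDalg 1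
    show PowerSeries.C (ρ 1) + PowerSeries.C (D 1) * PowerSeries.X = 1
    rw [h1, map_one, map_zero, zero_mul, add_zero, map_one]
  have hF0 : F 0 = 0 := by
    have h0 : D 0 = 0 := by simpa using hDalg 0
    show PowerSeries.C (ρ 0) + PowerSeries.C (D 0) * PowerSeries.X = 0
    rw [h0, map_zero, map_zero, zero_mul, add_zero]
  have hFadd : ∀ r s, F (r + s) = F r + F s := fun r s => by
    show PowerSeries.C (ρ (r + s)) + PowerSeries.C (D (r + s)) * PowerSeries.X =
      (PowerSeries.C (ρ r) + PowerSeries.C (D r) * PowerSeries.X) +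
      (PowerSeries.C (ρ s) + PowerSeries.C (D s) * PowerSeries.X)
    rw [hDadd, map_add, map_add, map_add]; ring
  have hFmul : ∀ r s, F (r * s) - F r * F s ∈ I := fun r s => by
    have : F (r * s) - F r * F s =
        (-(PowerSeries.C (D r) * PowerSeries.C (D s))) * (PowerSeries.X : PowerSeries k) ^ 2 := by
      show PowerSeries.C (ρ (r * s)) + PowerSeries.C (D (r * s)) * PowerSeries.X -
        (PowerSeries.C (ρ r) + PowerSeries.C (D r) * PowerSeries.X) *
        (PowerSeries.C (ρ s) + PowerSeries.C (D s) * PowerSeries.X) = _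
      rw [hDmul, map_mul, map_add, map_mul, map_mul, map_mul]; ring
    rw [this]
    exact Ideal.mul_mem_left _ _ hX2
  have hFalg : ∀ a : k, F (algebraMap k R a) = algebraMap k (PowerSeries k) a := fun a => by
    show PowerSeries.C (ρ (algebraMap k R a)) + PowerSeries.C (D (algebraMap k R a)) *
      PowerSeries.X = _
    rw [hDalg, AlgHom.commutes, map_zero, zero_mul, add_zero]
    rfl
  let φ₂ : R →ₐ[k] PowerSeries k ⧸ I :=
    { toFun := fun r => Ideal.Quotient.mk I (F r)
      map_one' := by rw [hF1, map_one]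
      map_mul' := fun r s => by
        rw [← RingHom.map_mul]
        exact Ideal.Quotient.eq.mpr (hFmul r s)
      map_zero' := by rw [hF0, map_zero]
      map_add' := fun r s => by rw [hFadd, RingHom.map_add]
      commutes' := fun a => by
        rw [hFalg]
        rfl }
  haveI : IsAdicComplete I (PowerSeries k) :=
    isAdicComplete_of_le_of_pow_le
      (Ideal.span {(PowerSeries.X : PowerSeries k)}) I 2 (Ideal.pow_le_self two_ne_zero) le_rfl
  obtain ⟨g, hg⟩ := Algebra.FormallySmooth.exists_mkₐ_comp_eq_of_isAdicComplete (I := I) φ₂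
  have hgr : ∀ r : R, (PowerSeries.X : PowerSeries k) ^ 2 ∣ g r - F r := fun r => by
    apply hIdvd
    rw [← Ideal.Quotient.eq]
    exact AlgHom.congr_fun hg r
  refine ⟨g, fun r => ⟨?_, ?_⟩⟩
  · have h := (PowerSeries.X_pow_dvd_iff.mp (hgr r)) 0 (by norm_num)
    rw [map_sub, sub_eq_zero] at h
    rw [h]
    show PowerSeries.coeff 0 (PowerSeries.C (ρ r) + PowerSeries.C (D r) * PowerSeries.X) = _
    simp
  · have h := (PowerSeries.X_pow_dvd_iff.mp (hgr r)) 1 (by norm_num)
    rw [map_sub, sub_eq_zero] at h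
    rw [h]
    show PowerSeries.coeff 1 (PowerSeries.C (ρ r) + PowerSeries.C (D r) * PowerSeries.X) = _
    simp

/-- Let `R` be a Noetherian local domain of dimension `≤ 1` which is not a field, formally smooth
over a field `k`, with a `k`-rational residue map `ρ`. Then `ρ` lifts to an injective `k`-algebra
map `R → k⟦X⟧`. -/
theorem exists_injective_algHom_powerSeries (k : Type u) [Field k] (R : Type v) [CommRing R]
    [IsDomain R] [IsLocalRing R] [IsNoetherianRing R] [Algebra k R] [Algebra.FormallySmooth k R]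
    [Ring.KrullDimLE 1 R] (hR : ¬ IsField R) (ρ : R →ₐ[k] k) :
    ∃ φ : R →ₐ[k] PowerSeries k, Function.Injective φ ∧
      ∀ r, PowerSeries.constantCoeff (φ r) = ρ r := by
  classical
  obtain ⟨D, u, hu, hDu, hDalg, hDadd, hDmul⟩ := exists_derivation k R hR ρ
  obtain ⟨g, hg⟩ := exists_lift_of_derivation k R ρ D hDalg hDadd hDmul
  refine ⟨g, ?_, fun r => ?_⟩
  · rw [← AlgHom.coe_toRingHom, RingHom.injective_iff_ker_eq_bot]
    by_contra hne
    haveI : (RingHom.ker g.toRingHom).IsPrime := RingHom.ker_isPrime _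
    have hmax : (RingHom.ker g.toRingHom).IsMaximal :=
      Ideal.isMaximal_of_isPrime_of_ne_bot _ hne
    have : u ∈ RingHom.ker g.toRingHom := by
      rw [IsLocalRing.eq_maximalIdeal hmax]; exact hu
    have h0 : g u = 0 := this
    apply hDu
    rw [← (hg u).2, h0, map_zero]
  · rw [← PowerSeries.coeff_zero_eq_constantCoeff_apply]
    exact (hg r).1

end Groth.Agent.Lib.SmoothingPSH4
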