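import Mathlib
import Groth.Agent.Lib.SmoothingPS1_helper4

/-!
# From a geometric smoothing over a curve to a smoothing over `k⟦t⟧` (helper4)
-/

set_option autoImplicit false
set_option linter.style.haveILetI false

namespace Groth.Agent.Lib.SmoothingPSH4

universe u

open CategoryTheory CategoryTheory.Limits AlgebraicGeometry IsLocalRing TopologicalSpace

section Dim

/-- the local rings of a scheme have dimension at most the dimension of the scheme -/
theorem ringKrullDim_stalk_le' (X : Scheme.{u}) (x : X) :
    ringKrullDim (X.presheaf.stalk x) ≤ topologicalKrullDim X := by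
  obtain ⟨V, hV, hxV, -⟩ := exists_isAffineOpen_mem_and_subset (x := x) (U := ⊤) trivial
  letI := X.presheaf.algebra_section_stalk ⟨x, hxV⟩
  haveI := hV.isLocalization_stalk ⟨x, hxV⟩
  rw [IsLocalization.AtPrime.ringKrullDim_eq_height (hV.primeIdealOf ⟨x, hxV⟩).asIdeal]
  have h1 : ((hV.primeIdealOf ⟨x, hxV⟩).asIdeal.height : WithBot ℕ∞) ≤ ringKrullDim Γ(X, V) :=
    Ideal.height_le_ringKrullDim_of_ne_top (Ideal.IsPrime.ne_top inferInstance)
  have h2 : ringKrullDim Γ(X, V) ≤ topologicalKrullDim X := by
    rw [← PrimeSpectrum.topologicalKrullDim_eq_ringKrullDim]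
    exact hV.fromSpec.isOpenEmbedding.isInducing.topologicalKrullDim_le
  exact h1.trans h2

end Dim

section Closed

/-- a section of a morphism to the spectrum of a field hits a closed point -/
theorem isClosed_singleton_of_section {k : Type u} [Field k] {C : Scheme.{u}}
    (qC : C ⟶ Spec (CommRingCat.of k)) (c : Spec (CommRingCat.of k) ⟶ C)
    (hc : c ≫ qC = 𝟙 (Spec (CommRingCat.of k))) :
    IsClosed ({c.base (closedPoint k)} : Set C) := by
  haveI : Subsingleton (Spec (CommRingCat.of k)) :=
    inferInstanceAs (Subsingleton (PrimeSpectrum k))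
  rw [← closure_subset_iff_isClosed]
  intro z hz
  obtain ⟨W, hW, hzW, -⟩ := exists_isAffineOpen_mem_and_subset (X := C) (x := z) (U := ⊤) trivial
  have hx₀W : c.base (closedPoint k) ∈ W := by
    rw [mem_closure_iff] at hz
    obtain ⟨z', hz'W, hz'⟩ := hz W W.isOpen hzW
    rwa [Set.mem_singleton_iff.mp hz'] at hz'W
  have hrange : Set.range c.base ⊆ Set.range W.ι.base := by
    rw [Scheme.Opens.range_ι]
    rintro _ ⟨t, rfl⟩
    have : t = closedPoint k := Subsingleton.elim _ _
    rw [this]; exact hx₀W
  let c' : Spec (CommRingCat.of k) ⟶ W.toScheme := IsOpenImmersion.lift W.ι c hrange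
  have hc' : c' ≫ W.ι = c := IsOpenImmersion.lift_fac _ _ _
  haveI : IsAffine W.toScheme := hW
  haveI : UniversallyClosed (c' ≫ (W.ι ≫ qC)) := by
    rw [← Category.assoc, hc', hc]; infer_instance
  haveI : UniversallyClosed c' := UniversallyClosed.of_comp_of_isSeparated c' (W.ι ≫ qC)
  have hcl : IsClosed (Set.range c'.base) := c'.isClosedMap.isClosed_range
  obtain ⟨K, hK, hKeq⟩ := W.ι.isOpenEmbedding.isInducing.isClosed_iff.mp hcl
  have hx₀K : c.base (closedPoint k) ∈ K := by
    have h2 : c'.base (closedPoint k) ∈ W.ι.base ⁻¹' K := by rw [hKeq]; exact ⟨_, rfl⟩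
    have h3 : W.ι.base (c'.base (closedPoint k)) = c.base (closedPoint k) := by
      rw [← hc']; rfl
    rw [← h3]
    exact h2
  have hzK : z ∈ K := (hK.closure_subset_iff.mpr (Set.singleton_subset_iff.mpr hx₀K)) hz
  have h4 : (⟨z, hzW⟩ : W) ∈ W.ι.base ⁻¹' K := hzK
  rw [hKeq] at h4
  obtain ⟨t, ht⟩ := h4
  have ht' : t = closedPoint k := Subsingleton.elim _ _
  rw [ht'] at ht
  show z = c.base (closedPoint k)
  have h5 : W.ι.base (c'.base (closedPoint k)) = z := by rw [ht]; rfl
  rw [← h5, ← hc']
  rfl

/-- on an integral scheme of dimension one a closed point is not the generic point, so its local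
ring is not a field -/
theorem not_isField_stalk_of_isClosed {C : Scheme.{u}} [IsIntegral C]
    (hC : topologicalKrullDim C = 1) (x : C) (hx : IsClosed ({x} : Set C)) :
    ¬ IsField (C.presheaf.stalk x) := by
  intro hf
  -- `Spec` of the stalk is a point, hence every generization of `x` equals `x`
  have hgen : genericPoint C = x := by
    have h1 : genericPoint C ∈ Set.range (C.fromSpecStalk x).base := by
      rw [Scheme.range_fromSpecStalk]
      exact genericPoint_specializes x
    obtain ⟨q, hq⟩ := h1
    have hq' : q = closedPoint (C.presheaf.stalk x) := by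
      apply PrimeSpectrum.ext
      show q.asIdeal = maximalIdeal (C.presheaf.stalk x)
      have hm := IsLocalRing.isField_iff_maximalIdeal_eq.mp hf
      rw [hm]
      exact le_bot_iff.mp ((IsLocalRing.le_maximalIdeal q.2.ne_top).trans_eq hm)
    rw [← hq, hq']
    exact Scheme.fromSpecStalk_closedPoint
  have huniv : (Set.univ : Set C) = {x} := by
    rw [← (genericPoint_spec C).def, hgen, hx.closure_eq]
  haveI : Subsingleton C := by
    refine ⟨fun a b => ?_⟩
    have ha : a ∈ ({x} : Set C) := huniv ▸ Set.mem_univ a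
    have hb : b ∈ ({x} : Set C) := huniv ▸ Set.mem_univ b
    rw [Set.mem_singleton_iff.mp ha, Set.mem_singleton_iff.mp hb]
  have h0 := topologicalKrullDim_zero_of_discreteTopology C
  rw [hC] at h0
  exact absurd h0 (by norm_num)

end Closed

end Groth.Agent.Lib.SmoothingPSH4
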