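import Mathlib
import Groth.Agent.Lib.SmoothingPS1_helper4
import Groth.Agent.Lib.SmoothingPS2_helper4

/-!
# From a geometric smoothing over a curve to a smoothing over `k⟦t⟧`: main theorem (helper4)
-/

set_option autoImplicit false
set_option linter.style.haveILetI false

namespace Groth.Agent.Lib.SmoothingPSH4

universe u

open CategoryTheory CategoryTheory.Limits AlgebraicGeometry IsLocalRing TopologicalSpace

section Aux

/-- the canonical map from a field to the stalk of its spectrum is bijective -/
theorem bijective_toStalk_Spec_field (k : Type u) [Field k] (y : Spec (CommRingCat.of k)) :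
    Function.Bijective ((Scheme.ΓSpecIso (CommRingCat.of k)).inv ≫
      (Spec (CommRingCat.of k)).presheaf.germ ⊤ y trivial).hom := by
  haveI : Subsingleton (Spec (CommRingCat.of k)) :=
    inferInstanceAs (Subsingleton (PrimeSpectrum k))
  obtain rfl : y = closedPoint k := Subsingleton.elim _ _
  have : (Scheme.ΓSpecIso (CommRingCat.of k)).inv ≫
      (Spec (CommRingCat.of k)).presheaf.germ ⊤ (closedPoint k) trivial =
      (stalkClosedPointIso (CommRingCat.of k)).inv := by
    rw [← ΓSpecIso_hom_stalkClosedPointIso_inv, Iso.inv_hom_id_assoc]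
  rw [this]
  exact ConcreteCategory.bijective_of_isIso _

/-- a morphism from the spectrum of a field factors through the residue field of the image -/
theorem exists_factor_fromSpecResidueField {K : Type u} [Field K] {C : Scheme.{u}}
    (f : Spec (CommRingCat.of K) ⟶ C) (y : C) (hy : f.base (closedPoint K) = y) :
    ∃ ψ : C.residueField y ⟶ CommRingCat.of K, Spec.map ψ ≫ C.fromSpecResidueField y = f := by
  subst hy
  exact ⟨_, Scheme.descResidueField_stalkClosedPointTo_fromSpecResidueField K C f⟩

/-- the zero ideal of a local ring of an integral scheme maps to the generic point -/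
theorem fromSpecStalk_bot {C : Scheme.{u}} [IsIntegral C] (x : C)
    (q : Spec (C.presheaf.stalk x)) (hq : q.asIdeal = ⊥) :
    (C.fromSpecStalk x).base q = genericPoint C := by
  have h1 : genericPoint C ∈ Set.range (C.fromSpecStalk x).base := by
    rw [Scheme.range_fromSpecStalk]; exact genericPoint_specializes x
  obtain ⟨q', hq'⟩ := h1
  have h2 : q ⤳ q' := (PrimeSpectrum.le_iff_specializes q q').mp (by
    show q.asIdeal ≤ q'.asIdeal
    rw [hq]; exact bot_le)
  have h3 : (C.fromSpecStalk x).base q ⤳ genericPoint C := by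
    rw [← hq']; exact h2.map (C.fromSpecStalk x).continuous
  exact (h3.antisymm (genericPoint_specializes _)).eq

/-- an injective map to a field sends the point of its spectrum to the zero ideal -/
theorem SpecMap_closedPoint_asIdeal {R : CommRingCat.{u}} {K : Type u} [Field K]
    (θ : R ⟶ CommRingCat.of K) (hθ : Function.Injective θ.hom) :
    ((Spec.map θ).base (closedPoint K)).asIdeal = ⊥ := by
  show Ideal.comap θ.hom (maximalIdeal K) = ⊥
  rw [IsLocalRing.maximalIdeal_eq_bot, ← RingHom.ker_eq_comap_bot]
  exact (RingHom.injective_iff_ker_eq_bot _).mp hθ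

end Aux

section Ring

/-- the injective local map from the local ring of a smooth curve at a rational point to the
power series ring -/
theorem exists_ring_map {k : Type u} [Field k] {C : Scheme.{u}}
    (qC : C ⟶ Spec (CommRingCat.of k)) (c : Spec (CommRingCat.of k) ⟶ C)
    (hc : c ≫ qC = 𝟙 (Spec (CommRingCat.of k))) [IsIntegral C] [Smooth qC]
    (hC : topologicalKrullDim C = 1) :
    ∃ φ : C.presheaf.stalk (c.base (closedPoint k)) ⟶ CommRingCat.of (PowerSeries k),
      Function.Injective φ.hom ∧
      φ ≫ CommRingCat.ofHom (PowerSeries.constantCoeff (R := k)) =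
        Scheme.stalkClosedPointTo c := by
  classical
  set x₀ : C := c.base (closedPoint k) with hx₀
  let ρ : C.presheaf.stalk x₀ ⟶ CommRingCat.of k := Scheme.stalkClosedPointTo c
  let a₁ : CommRingCat.of k ⟶ (Spec (CommRingCat.of k)).presheaf.stalk (qC.base x₀) :=
    (Scheme.ΓSpecIso (CommRingCat.of k)).inv ≫
      (Spec (CommRingCat.of k)).presheaf.germ ⊤ (qC.base x₀) trivial
  let a : CommRingCat.of k ⟶ C.presheaf.stalk x₀ := a₁ ≫ qC.stalkMap x₀
  have ha : a = (Scheme.ΓSpecIso (CommRingCat.of k)).inv ≫ qC.appTop ≫
      C.presheaf.germ ⊤ x₀ trivial := by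
    simp only [a, a₁, Category.assoc]
    rw [Scheme.Hom.germ_stalkMap]
    rfl
  have haρ : a ≫ ρ = 𝟙 _ := by
    rw [ha, Category.assoc, Category.assoc]
    simp only [ρ]
    rw [Scheme.germ_stalkClosedPointTo c ⊤ trivial]
    have h1 : qC.appTop ≫ c.appTop = 𝟙 _ := by
      rw [← Scheme.Hom.comp_appTop, hc]
      rfl
    have h2 : qC.appTop ≫ c.app ⊤ = 𝟙 _ := h1
    rw [reassoc_of% h2]
    simp
  letI : Algebra k (C.presheaf.stalk x₀) := a.hom.toAlgebra
  have hFS : Algebra.FormallySmooth k (C.presheaf.stalk x₀) := by
    have h1 : a₁.hom.FormallySmooth :=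
      RingHom.FormallySmooth.of_bijective (bijective_toStalk_Spec_field k _)
    have h2 : (qC.stalkMap x₀).hom.FormallySmooth := by
      have := qC.smoothLocus_eq_top
      exact Scheme.Hom.mem_smoothLocus.mp (this ▸ (trivial : x₀ ∈ (⊤ : C.Opens)))
    exact RingHom.FormallySmooth.comp h1 h2
  haveI : IsLocallyNoetherian C := LocallyOfFiniteType.isLocallyNoetherian qC
  have hcl : IsClosed ({x₀} : Set C) := isClosed_singleton_of_section qC c hc
  have hnf : ¬ IsField (C.presheaf.stalk x₀) := not_isField_stalk_of_isClosed hC x₀ hcl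
  haveI : Ring.KrullDimLE 1 (C.presheaf.stalk x₀) := by
    rw [Ring.krullDimLE_iff]
    have := ringKrullDim_stalk_le' C x₀
    rw [hC] at this
    exact_mod_cast this
  let ρ' : C.presheaf.stalk x₀ →ₐ[k] k :=
    { ρ.hom with
      commutes' := fun r => by
        show ρ.hom (a.hom r) = r
        have := congr(($haρ).hom r)
        simpa using this }
  obtain ⟨φ, hφinj, hφρ⟩ :=
    exists_injective_algHom_powerSeries k (C.presheaf.stalk x₀) hnf ρ'
  refine ⟨CommRingCat.ofHom φ.toRingHom, hφinj, ?_⟩
  ext r
  exact hφρ r

end Ring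

section Main

theorem main (k : Type u) [Field k]
    (X : Scheme.{u}) (pX : X ⟶ Spec (CommRingCat.of k))
    (C : Scheme.{u}) (qC : C ⟶ Spec (CommRingCat.of k)) (c : Spec (CommRingCat.of k) ⟶ C)
    (hc : c ≫ qC = 𝟙 (Spec (CommRingCat.of k))) [IsIntegral C] [Smooth qC]
    (hC : topologicalKrullDim C = 1)
    (Y : Scheme.{u}) (π : Y ⟶ C) [Flat π] [IsProper π] (j : X ⟶ Y) (hsq : IsPullback j pX π c)
    (hgen : Smooth (π.fiberToSpecResidueField (genericPoint C))) :
    ∃ (P : Scheme.{u}) (p : P ⟶ Spec (CommRingCat.of (PowerSeries k))) (_ : Flat p)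
      (_ : IsProper p) (i : X ⟶ P),
      IsPullback i pX p (Spec.map (CommRingCat.ofHom (PowerSeries.constantCoeff (R := k)))) ∧
      Smooth (pullback.snd p
        (Spec.map (CommRingCat.ofHom
          (algebraMap (PowerSeries k) (FractionRing (PowerSeries k)))))) := by
  classical
  obtain ⟨φ, hφinj, hφρ⟩ := exists_ring_map qC c hc hC
  let x₀ : C := c.base (closedPoint k)
  let g : Spec (CommRingCat.of (PowerSeries k)) ⟶ C := Spec.map φ ≫ C.fromSpecStalk x₀
  let s : Spec (CommRingCat.of k) ⟶ Spec (CommRingCat.of (PowerSeries k)) :=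
    Spec.map (CommRingCat.ofHom (PowerSeries.constantCoeff (R := k)))
  have hsg : s ≫ g = c := by
    simp only [s, g]
    rw [← Spec.map_comp_assoc, hφρ]
    exact Scheme.Spec_stalkClosedPointTo_fromSpecStalk c
  refine ⟨pullback π g, pullback.snd π g, inferInstance, inferInstance,
    pullback.lift j (pX ≫ s) (by rw [hsq.w, Category.assoc, hsg]), ?_, ?_⟩
  · refine IsPullback.of_right ?_ (pullback.lift_snd _ _ _) (IsPullback.of_hasPullback π g)
    rw [pullback.lift_fst, hsg]
    exact hsq
  · -- generic fibre
    let K := FractionRing (PowerSeries k)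
    let h : Spec (CommRingCat.of K) ⟶ Spec (CommRingCat.of (PowerSeries k)) :=
      Spec.map (CommRingCat.ofHom (algebraMap (PowerSeries k) K))
    have hpt : (h ≫ g).base (closedPoint K) = genericPoint C := by
      have e : h ≫ g = Spec.map (φ ≫ CommRingCat.ofHom (algebraMap (PowerSeries k) K)) ≫
          C.fromSpecStalk x₀ := by
        simp only [h, g]; rw [Spec.map_comp, Category.assoc]
      rw [e, Scheme.Hom.comp_base]
      apply fromSpecStalk_bot
      apply SpecMap_closedPoint_asIdeal
      show Function.Injective ((algebraMap (PowerSeries k) K) ∘ φ.hom)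
      exact (IsFractionRing.injective (PowerSeries k) K).comp hφinj
    obtain ⟨ψ, hψ⟩ := exists_factor_fromSpecResidueField (h ≫ g) (genericPoint C) hpt
    have big : IsPullback (pullback.fst (pullback.snd π g) h ≫ pullback.fst π g)
        (pullback.snd (pullback.snd π g) h) π (h ≫ g) :=
      (IsPullback.of_hasPullback (pullback.snd π g) h).paste_horiz (IsPullback.of_hasPullback π g)
    rw [← hψ] at big
    have hfib : IsPullback (π.fiberι (genericPoint C))
        (π.fiberToSpecResidueField (genericPoint C)) π
        (C.fromSpecResidueField (genericPoint C)) := IsPullback.of_hasPullback _ _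
    let l : pullback (pullback.snd π g) h ⟶ π.fiber (genericPoint C) :=
      hfib.lift (pullback.fst (pullback.snd π g) h ≫ pullback.fst π g)
        (pullback.snd (pullback.snd π g) h ≫ Spec.map ψ) (by rw [Category.assoc]; exact big.w)
    have hl : IsPullback l (pullback.snd (pullback.snd π g) h)
        (π.fiberToSpecResidueField (genericPoint C)) (Spec.map ψ) := by
      refine IsPullback.of_right ?_ (hfib.lift_snd _ _ _) hfib
      rw [hfib.lift_fst]
      exact big
    exact MorphismProperty.of_isPullback (P := @Smooth) hl hgen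

end Main

end Groth.Agent.Lib.SmoothingPSH4
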