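import Mathlib
import Groth.Agent.Lib.ComplFib1_helper4
import Groth.Agent.Lib.FibreFlatPt_lead
import Groth.Agent.Lib.SmoothFibOpen_helper4
import Groth.Agent.Lib.SmoothingPS3_helper4

/-!
# Flatness / smoothness along the closed fibre of a scheme over a local base (helper4)
-/

set_option autoImplicit false
set_option linter.style.haveILetI false

namespace Groth.Agent.Lib.ComplFibH4

universe u

open CategoryTheory CategoryTheory.Limits AlgebraicGeometry IsLocalRing

section FactorQuot

/-- a morphism to `Spec A` whose global sections kill `I` factors through `Spec (A/I)` -/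
theorem exists_factor_quotient {T : Scheme.{u}} {A : Type u} [CommRing A] (I : Ideal A)
    (φ : T ⟶ Spec (CommRingCat.of A))
    (hI : ∀ a ∈ I, φ.appTop.hom ((Scheme.ΓSpecIso (CommRingCat.of A)).inv.hom a) = 0) :
    ∃ j : T ⟶ Spec (CommRingCat.of (A ⧸ I)),
      j ≫ Spec.map (CommRingCat.ofHom (Ideal.Quotient.mk I)) = φ := by
  let ψ : CommRingCat.of A ⟶ Γ(T, ⊤) := (Scheme.ΓSpecIso (CommRingCat.of A)).inv ≫ φ.appTop
  have hker : ∀ a ∈ I, ψ.hom a = 0 := fun a ha => hI a ha
  let ψ' : CommRingCat.of (A ⧸ I) ⟶ Γ(T, ⊤) :=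
    CommRingCat.ofHom (Ideal.Quotient.lift I ψ.hom hker)
  have hψ : CommRingCat.ofHom (Ideal.Quotient.mk I) ≫ ψ' = ψ := by
    ext a
    exact Ideal.Quotient.lift_mk I ψ.hom hker
  refine ⟨T.toSpecΓ ≫ Spec.map ψ', ?_⟩
  rw [Category.assoc, ← Spec.map_comp, hψ]
  show T.toSpecΓ ≫ Spec.map ((Scheme.ΓSpecIso (CommRingCat.of A)).inv ≫ φ.appTop) = φ
  rw [Spec.map_comp, ← Scheme.toSpecΓ_naturality_assoc, toSpecΓ_SpecMap_ΓSpecIso_inv,
    Category.comp_id]

end FactorQuot

section ResField

/-- on an affine scheme the residue field morphism is `Spec` of evaluation -/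
theorem fromSpecResidueField_Spec (R : CommRingCat.{u}) (w : Spec R) :
    (Spec R).fromSpecResidueField w =
      Spec.map ((Scheme.ΓSpecIso R).inv ≫ (Spec R).Γevaluation w) := by
  dsimp only [Scheme.fromSpecResidueField]
  rw [Spec.fromSpecStalk_eq, ← Spec.map_comp, Category.assoc]
  rfl

theorem Γevaluation_Spec_eq_zero (R : CommRingCat.{u}) (w : Spec R) (v : R)
    (hv : v ∈ w.asIdeal) :
    ((Scheme.ΓSpecIso R).inv ≫ (Spec R).Γevaluation w).hom v = 0 := by
  have h := (Scheme.evaluation_eq_zero_iff_notMem_basicOpen (Spec R) (U := ⊤) w trivial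
    ((Scheme.ΓSpecIso R).inv.hom v)).mpr (by
      rw [basicOpen_eq_of_affine]
      exact fun h => h hv)
  exact h

/-- a ring map out of a field is flat -/
theorem flat_of_isField {R S : Type u} [CommRing R] [CommRing S] (f : R →+* S) (hR : IsField R) :
    f.Flat := by
  letI := hR.toField
  letI := f.toAlgebra
  show Module.Flat R S
  infer_instance

/-- the local ring of `Spec V` (`V` a domain) at the zero ideal is a field -/
theorem isField_stalk_of_asIdeal_eq_bot (V : Type u) [CommRing V] [IsDomain V]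
    (w : Spec (CommRingCat.of V)) (hw : w.asIdeal = ⊥) :
    IsField ((Spec (CommRingCat.of V)).presheaf.stalk w) := by
  have : w = genericPoint (Spec (CommRingCat.of V)) := by
    rw [genericPoint_eq_bot_of_affine]; exact PrimeSpectrum.ext hw
  subst this
  exact (inferInstance : Field (Spec (CommRingCat.of V)).functionField).toIsField

end ResField

section FiberMap

variable {V A : Type u} [CommRing V] [CommRing A] [Algebra V A] (𝔪 : Ideal V)
  {X : Scheme.{u}} (h : X ⟶ Spec (CommRingCat.of A))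

variable (V A) in
/-- the structure morphism `Spec A ⟶ Spec V` -/
noncomputable abbrev sigma : Spec (CommRingCat.of A) ⟶ Spec (CommRingCat.of V) :=
  Spec.map (CommRingCat.ofHom (algebraMap V A))

variable (A) in
/-- the inclusion of the closed fibre `Spec (A/𝔪A) ⟶ Spec A` -/
noncomputable abbrev iota :
    Spec (CommRingCat.of (A ⧸ 𝔪.map (algebraMap V A))) ⟶ Spec (CommRingCat.of A) :=
  Spec.map (CommRingCat.ofHom (Ideal.Quotient.mk (𝔪.map (algebraMap V A))))

/-- the scheme-theoretic fibre of `Spec A` over a point of `V(𝔪)` factors through `Spec (A/𝔪A)` -/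
theorem exists_fiber_factor (w : Spec (CommRingCat.of V)) (hw : 𝔪 ≤ w.asIdeal) :
    ∃ j : (sigma V A).fiber w ⟶ Spec (CommRingCat.of (A ⧸ 𝔪.map (algebraMap V A))),
      j ≫ iota A 𝔪 = (sigma V A).fiberι w := by
  apply exists_factor_quotient
  let ψ : A →+* Γ((sigma V A).fiber w, ⊤) :=
    (((sigma V A).fiberι w).appTop.hom).comp (Scheme.ΓSpecIso (CommRingCat.of A)).inv.hom
  suffices hle : 𝔪.map (algebraMap V A) ≤ RingHom.ker ψ from fun a ha => hle ha
  rw [Ideal.map_le_iff_le_comap]
  intro v hv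
  show ((sigma V A).fiberι w).appTop.hom
    ((Scheme.ΓSpecIso (CommRingCat.of A)).inv.hom (algebraMap V A v)) = 0
  have h1 : (Scheme.ΓSpecIso (CommRingCat.of A)).inv.hom (algebraMap V A v) =
      (sigma V A).appTop.hom ((Scheme.ΓSpecIso (CommRingCat.of V)).inv.hom v) := by
    have := Scheme.ΓSpecIso_inv_naturality (CommRingCat.ofHom (algebraMap V A))
    exact congr($(this).hom v)
  rw [h1]
  have h2 : ((sigma V A).fiberι w).appTop.hom
      ((sigma V A).appTop.hom ((Scheme.ΓSpecIso (CommRingCat.of V)).inv.hom v)) =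
      (((sigma V A).fiberι w ≫ sigma V A)).appTop.hom
        ((Scheme.ΓSpecIso (CommRingCat.of V)).inv.hom v) := by
    rw [Scheme.Hom.comp_appTop]; rfl
  rw [h2, (sigma V A).fiber_fac w, Scheme.Hom.comp_appTop, fromSpecResidueField_Spec]
  have h3 := Scheme.ΓSpecIso_inv_naturality
    ((Scheme.ΓSpecIso (CommRingCat.of V)).inv ≫ (Spec (CommRingCat.of V)).Γevaluation w)
  have h4 := congr($(h3).hom v)
  have h5 := Γevaluation_Spec_eq_zero (CommRingCat.of V) w v (hw hv)
  have h6 : (Scheme.Hom.appTop (Spec.map ((Scheme.ΓSpecIso (CommRingCat.of V)).inv ≫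
      (Spec (CommRingCat.of V)).Γevaluation w))).hom
      ((Scheme.ΓSpecIso (CommRingCat.of V)).inv.hom v) =
      (Scheme.ΓSpecIso ((Spec (CommRingCat.of V)).residueField w)).inv.hom
        (((Scheme.ΓSpecIso (CommRingCat.of V)).inv ≫
          (Spec (CommRingCat.of V)).Γevaluation w).hom v) := h4.symm
  show ((sigma V A).fiberToSpecResidueField w).appTop.hom
    ((Scheme.Hom.appTop (Spec.map ((Scheme.ΓSpecIso (CommRingCat.of V)).inv ≫
      (Spec (CommRingCat.of V)).Γevaluation w))).hom
      ((Scheme.ΓSpecIso (CommRingCat.of V)).inv.hom v)) = 0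
  rw [h6, h5, map_zero, map_zero]

/-- the morphism between the fibres over a point of `V(𝔪)` is flat when the base change to
`Spec (A/𝔪A)` is flat -/
theorem flat_fiberMap [hfl : Flat (pullback.snd h (iota A 𝔪))] (w : Spec (CommRingCat.of V))
    (hw : 𝔪 ≤ w.asIdeal) :
    ∃ gw : (h ≫ sigma V A).fiber w ⟶ (sigma V A).fiber w,
      gw ≫ (sigma V A).fiberι w = (h ≫ sigma V A).fiberι w ≫ h ∧
      gw ≫ (sigma V A).fiberToSpecResidueField w = (h ≫ sigma V A).fiberToSpecResidueField w ∧
      Flat gw := by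
  obtain ⟨j, hj⟩ := exists_fiber_factor (A := A) 𝔪 w hw
  have hV : IsPullback ((sigma V A).fiberι w) ((sigma V A).fiberToSpecResidueField w) (sigma V A)
      ((Spec (CommRingCat.of V)).fromSpecResidueField w) := IsPullback.of_hasPullback _ _
  have hU : IsPullback ((h ≫ sigma V A).fiberι w) ((h ≫ sigma V A).fiberToSpecResidueField w)
      (h ≫ sigma V A) ((Spec (CommRingCat.of V)).fromSpecResidueField w) :=
    IsPullback.of_hasPullback _ _
  let gw : (h ≫ sigma V A).fiber w ⟶ (sigma V A).fiber w :=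
    hV.lift ((h ≫ sigma V A).fiberι w ≫ h) ((h ≫ sigma V A).fiberToSpecResidueField w)
      (by rw [Category.assoc]; exact (h ≫ sigma V A).fiber_fac w)
  have c1 : gw ≫ (sigma V A).fiberι w = (h ≫ sigma V A).fiberι w ≫ h := hV.lift_fst _ _ _
  have c2 : gw ≫ (sigma V A).fiberToSpecResidueField w =
      (h ≫ sigma V A).fiberToSpecResidueField w := hV.lift_snd _ _ _
  have S1 : IsPullback ((h ≫ sigma V A).fiberι w) gw h ((sigma V A).fiberι w) :=
    IsPullback.of_bot (by rw [c2]; exact hU) c1.symm hV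
  refine ⟨gw, c1, c2, ?_⟩
  have sq0 : IsPullback (pullback.fst h (iota A 𝔪)) (pullback.snd h (iota A 𝔪)) h (iota A 𝔪) :=
    IsPullback.of_hasPullback _ _
  let l : (h ≫ sigma V A).fiber w ⟶ pullback h (iota A 𝔪) :=
    sq0.lift ((h ≫ sigma V A).fiberι w) (gw ≫ j) (by rw [Category.assoc, hj, c1])
  have hl : IsPullback l gw (pullback.snd h (iota A 𝔪)) j := by
    refine IsPullback.of_right ?_ (sq0.lift_snd _ _ _) sq0
    rw [sq0.lift_fst, hj]
    exact S1
  exact MorphismProperty.of_isPullback (P := @Flat) hl hfl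

/-- **fibre criterion along the closed fibre**: if `X` is flat over `V` and the base change of `h`
to `Spec (A/𝔪A)` is flat then `h` is flat at every point over `V(𝔪)`. -/
theorem flat_stalk_of_closedFibre_flat [Flat (h ≫ sigma V A)]
    [LocallyOfFinitePresentation (h ≫ sigma V A)] [LocallyOfFiniteType (sigma V A)]
    [Flat (pullback.snd h (iota A 𝔪))] (x : X)
    (hx : 𝔪 ≤ ((sigma V A).base (h.base x)).asIdeal) : (h.stalkMap x).hom.Flat := by
  obtain ⟨gw, c1, c2, hgw⟩ := flat_fiberMap 𝔪 h _ hx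
  exact Groth.Agent.Lib.FibreFlatPt.stalk_flat_of_fibre_flat h (sigma V A) x
    ⟨_, _, _, _, _, _, gw, IsPullback.of_hasPullback _ _, IsPullback.of_hasPullback _ _, c1, c2,
      hgw⟩

/-- the base change of `h` to the closed fibre is flat when `h` is flat at the points over it -/
theorem flat_closedFibre_of_flat_stalk
    (hfl : ∀ x : X, 𝔪.map (algebraMap V A) ≤ (h.base x).asIdeal → (h.stalkMap x).hom.Flat) :
    Flat (pullback.snd h (iota A 𝔪)) := by
  apply Flat.of_stalkMap
  intro x₀
  have sq : IsPullback (pullback.fst h (iota A 𝔪)) (pullback.snd h (iota A 𝔪)) h (iota A 𝔪) :=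
    IsPullback.of_hasPullback _ _
  refine FlatBC2H8.flat_stalkMap_of_isPullback sq.flip x₀ (hfl _ ?_)
  have heq : h.base ((pullback.fst h (iota A 𝔪)).base x₀) =
      (iota A 𝔪).base ((pullback.snd h (iota A 𝔪)).base x₀) := by
    rw [← Scheme.Hom.comp_apply, ← Scheme.Hom.comp_apply, pullback.condition]
  rw [heq]
  intro a ha
  show Ideal.Quotient.mk (𝔪.map (algebraMap V A)) a ∈
    ((pullback.snd h (iota A 𝔪)).base x₀).asIdeal
  rw [Ideal.Quotient.eq_zero_iff_mem.mpr ha]
  exact Ideal.zero_mem _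

/-- `X` is flat over a discrete valuation ring `V` when `h` is flat at the points over the closed
point -/
theorem flat_over_dvr_of_flat_stalk [IsDomain V] [IsDiscreteValuationRing V] [Module.Flat V A]
    (hfl : ∀ x : X, (maximalIdeal V).map (algebraMap V A) ≤ (h.base x).asIdeal →
      (h.stalkMap x).hom.Flat) : Flat (h ≫ sigma V A) := by
  haveI : Flat (sigma V A) := by
    rw [Flat.SpecMap_iff]
    exact RingHom.flat_algebraMap_iff.mpr inferInstance
  apply Flat.of_stalkMap
  intro x
  by_cases hw : ((sigma V A).base (h.base x)).asIdeal = ⊥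
  · exact flat_of_isField _ (isField_stalk_of_asIdeal_eq_bot V _ hw)
  · have hmax : ((sigma V A).base (h.base x)).asIdeal = maximalIdeal V :=
      IsLocalRing.eq_maximalIdeal (Ideal.IsPrime.isMaximal inferInstance hw)
    have hI : (maximalIdeal V).map (algebraMap V A) ≤ (h.base x).asIdeal := by
      rw [Ideal.map_le_iff_le_comap, ← hmax]
      exact le_rfl
    rw [Scheme.Hom.stalkMap_comp]
    exact RingHom.Flat.comp (Flat.stalkMap (sigma V A) _) (hfl x hI)

end FiberMap

end Groth.Agent.Lib.ComplFibH4
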