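import Mathlib
import Groth.Agent.Lib.ComplFib2_helper4
import Groth.Agent.Lib.ComplFib3_helper4
import Groth.Agent.S0386

/-!
# Proper schemes over a smooth algebra over a DVR: the closed fibre versus the completion (helper4)
-/

set_option autoImplicit false
set_option linter.style.haveILetI false

namespace Groth.Agent.Lib.ComplFibH4

universe u

open CategoryTheory CategoryTheory.Limits AlgebraicGeometry IsLocalRing

section SmoothFibre

/-- a morphism whose base change to a field-valued point is smooth has a smooth fibre there -/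
theorem smooth_fiber_of_smooth_baseChange {X S : Scheme.{u}} (h : X ⟶ S)
    [LocallyOfFinitePresentation h] {K : Type u} [Field K] (t : Spec (CommRingCat.of K) ⟶ S)
    {Q : Scheme.{u}} (a : Q ⟶ X) (b : Q ⟶ Spec (CommRingCat.of K)) (sq : IsPullback a b h t)
    [Smooth b] : Smooth (h.fiberToSpecResidueField (t.base (closedPoint K))) := by
  obtain ⟨ψ, hψ⟩ := Groth.Agent.Lib.SmoothingPSH4.exists_factor_fromSpecResidueField t (t.base (closedPoint K)) rfl
  have hfib : IsPullback (h.fiberι (t.base (closedPoint K)))
      (h.fiberToSpecResidueField (t.base (closedPoint K))) h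
      (S.fromSpecResidueField (t.base (closedPoint K))) := IsPullback.of_hasPullback _ _
  rw [← hψ] at sq
  let l : Q ⟶ h.fiber (t.base (closedPoint K)) :=
    hfib.lift a (b ≫ Spec.map ψ) (by rw [Category.assoc]; exact sq.w)
  have hl : IsPullback l b (h.fiberToSpecResidueField (t.base (closedPoint K))) (Spec.map ψ) := by
    refine IsPullback.of_right ?_ (hfib.lift_snd _ _ _) hfib
    rw [hfib.lift_fst]
    exact sq
  haveI : LocallyOfFinitePresentation (h.fiberToSpecResidueField (t.base (closedPoint K))) :=
    MorphismProperty.pullback_snd (P := @LocallyOfFinitePresentation) _ _ inferInstance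
  haveI : Subsingleton (Spec (S.residueField (t.base (closedPoint K)))) :=
    inferInstanceAs (Subsingleton (PrimeSpectrum (S.residueField (t.base (closedPoint K)))))
  rw [← Scheme.Hom.smoothLocus_eq_top_iff]
  refine top_le_iff.mp ?_
  intro z _
  -- a point of `Q` over `z`
  obtain ⟨y, hy, -⟩ := Scheme.Pullback.exists_preimage_pullback
    (f := h.fiberToSpecResidueField (t.base (closedPoint K))) (g := Spec.map ψ) z (closedPoint K)
    (Subsingleton.elim _ _)
  have hz' : l.base (hl.isoPullback.inv.base y) = z := by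
    rw [← Scheme.Hom.comp_apply, hl.isoPullback_inv_fst]
    exact hy
  have hb : (b.stalkMap (hl.isoPullback.inv.base y)).hom.FormallySmooth := by
    have : hl.isoPullback.inv.base y ∈ b.smoothLocus := by
      rw [Scheme.Hom.smoothLocus_eq_top]; trivial
    exact this
  have := (Groth.Agent.Lib.UnramLocH4.stalk_smooth_iff_of_isPullback_of_flat hl
    (hl.isoPullback.inv.base y)).mp hb
  rw [hz'] at this
  exact this

end SmoothFibre

section ClosedFibreSmooth

variable {V A : Type u} [CommRing V] [CommRing A] [Algebra V A] (𝔪 : Ideal V)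
  {X : Scheme.{u}} (h : X ⟶ Spec (CommRingCat.of A))

/-- every point of `V(𝔪A)` comes from `Spec (A/𝔪A)` -/
theorem exists_iota_eq (p : Spec (CommRingCat.of A)) (hp : 𝔪.map (algebraMap V A) ≤ p.asIdeal) :
    ∃ p₀ : Spec (CommRingCat.of (A ⧸ 𝔪.map (algebraMap V A))), (iota A 𝔪).base p₀ = p := by
  have hq : (p.asIdeal.map (Ideal.Quotient.mk (𝔪.map (algebraMap V A)))).IsPrime :=
    Ideal.map_isPrime_of_surjective Ideal.Quotient.mk_surjective (by rwa [Ideal.mk_ker])
  refine ⟨⟨_, hq⟩, ?_⟩
  apply PrimeSpectrum.ext
  show Ideal.comap (Ideal.Quotient.mk (𝔪.map (algebraMap V A)))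
    (p.asIdeal.map (Ideal.Quotient.mk (𝔪.map (algebraMap V A)))) = p.asIdeal
  rw [Ideal.comap_map_of_surjective _ Ideal.Quotient.mk_surjective, ← RingHom.ker_eq_comap_bot,
    Ideal.mk_ker]
  exact sup_eq_left.mpr hp

/-- the points of the base change to the closed fibre lie over `V(𝔪A)` -/
theorem le_asIdeal_fst (x₀ : ↥(pullback h (iota A 𝔪))) :
    𝔪.map (algebraMap V A) ≤ (h.base ((pullback.fst h (iota A 𝔪)).base x₀)).asIdeal := by
  have heq : h.base ((pullback.fst h (iota A 𝔪)).base x₀) =
      (iota A 𝔪).base ((pullback.snd h (iota A 𝔪)).base x₀) := by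
    rw [← Scheme.Hom.comp_apply, ← Scheme.Hom.comp_apply, pullback.condition]
  rw [heq]
  intro a ha
  show Ideal.Quotient.mk (𝔪.map (algebraMap V A)) a ∈
    ((pullback.snd h (iota A 𝔪)).base x₀).asIdeal
  rw [Ideal.Quotient.eq_zero_iff_mem.mpr ha]
  exact Ideal.zero_mem _

/-- if the base change of `h` to `Spec (A/𝔪A)` is smooth and `h` is flat at a point over `V(𝔪A)`
then `h` is smooth at that point -/
theorem mem_smoothLocus_of_closedFibre_smooth [LocallyOfFinitePresentation h]
    [Smooth (pullback.snd h (iota A 𝔪))] (x : X)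
    (hI : 𝔪.map (algebraMap V A) ≤ (h.base x).asIdeal) (hflat : (h.stalkMap x).hom.Flat) :
    x ∈ h.smoothLocus := by
  obtain ⟨p₀, hp₀⟩ := exists_iota_eq 𝔪 (h.base x) hI
  have sq : IsPullback
      (pullback.fst (pullback.snd h (iota A 𝔪))
        ((Spec (CommRingCat.of (A ⧸ 𝔪.map (algebraMap V A)))).fromSpecResidueField p₀) ≫
        pullback.fst h (iota A 𝔪))
      (pullback.snd (pullback.snd h (iota A 𝔪))
        ((Spec (CommRingCat.of (A ⧸ 𝔪.map (algebraMap V A)))).fromSpecResidueField p₀))
      h
      ((Spec (CommRingCat.of (A ⧸ 𝔪.map (algebraMap V A)))).fromSpecResidueField p₀ ≫ iota A 𝔪) :=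
    (IsPullback.of_hasPullback _ _).paste_horiz (IsPullback.of_hasPullback h (iota A 𝔪))
  have hpt : ((Spec (CommRingCat.of (A ⧸ 𝔪.map (algebraMap V A)))).fromSpecResidueField p₀ ≫
      iota A 𝔪).base (closedPoint
        ↑((Spec (CommRingCat.of (A ⧸ 𝔪.map (algebraMap V A)))).residueField p₀)) = h.base x := by
    rw [Scheme.Hom.comp_apply, Scheme.fromSpecResidueField_apply, hp₀]
  have hsm := smooth_fiber_of_smooth_baseChange h
    (K := ↑((Spec (CommRingCat.of (A ⧸ 𝔪.map (algebraMap V A)))).residueField p₀))
    ((Spec (CommRingCat.of (A ⧸ 𝔪.map (algebraMap V A)))).fromSpecResidueField p₀ ≫ iota A 𝔪)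
    _ _ sq
  rw [hpt] at hsm
  haveI : LocallyOfFinitePresentation (h.fiberToSpecResidueField (h.base x)) :=
    MorphismProperty.pullback_snd (P := @LocallyOfFinitePresentation) _ _ inferInstance
  rw [Groth.Agent.Lib.UnramLocH4.main2156 h x]
  refine ⟨hflat, ?_⟩
  rw [Scheme.Hom.smoothLocus_eq_top]
  trivial

/-- the base change of `h` to the closed fibre is smooth when `h` is smooth at the points over it -/
theorem smooth_closedFibre_of_mem_smoothLocus [LocallyOfFinitePresentation h]
    (hsm : ∀ x : X, 𝔪.map (algebraMap V A) ≤ (h.base x).asIdeal → x ∈ h.smoothLocus) :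
    Smooth (pullback.snd h (iota A 𝔪)) := by
  haveI : LocallyOfFinitePresentation (pullback.snd h (iota A 𝔪)) :=
    MorphismProperty.pullback_snd (P := @LocallyOfFinitePresentation) _ _ inferInstance
  rw [← Scheme.Hom.smoothLocus_eq_top_iff]
  refine top_le_iff.mp ?_
  intro x₀ _
  have sq : IsPullback (pullback.fst h (iota A 𝔪)) (pullback.snd h (iota A 𝔪)) h (iota A 𝔪) :=
    IsPullback.of_hasPullback _ _
  exact Groth.Agent.Lib.UnramLocH4.stalk_smooth_baseChange sq x₀ (hsm _ (le_asIdeal_fst 𝔪 h x₀))

end ClosedFibreSmooth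

section Main

variable (V : Type u) [CommRing V] [IsDomain V] [IsDiscreteValuationRing V]
  (A : Type u) [CommRing A] [Algebra V A] [Algebra.Smooth V A]
  (X : Scheme.{u}) (h : X ⟶ Spec (CommRingCat.of A)) [IsProper h]

include V in
theorem main_instances :
    IsNoetherianRing A ∧ ((maximalIdeal V).map (algebraMap V A)).FG ∧
      LocallyOfFiniteType (sigma V A) ∧ LocallyOfFinitePresentation (sigma V A) ∧
      Flat (gCompl ((maximalIdeal V).map (algebraMap V A))) := by
  haveI : IsNoetherianRing A := Algebra.FiniteType.isNoetherianRing V A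
  refine ⟨inferInstance, IsNoetherian.noetherian _, ?_, ?_, ?_⟩
  · rw [HasRingHomProperty.Spec_iff (P := @LocallyOfFiniteType)]
    exact RingHom.finiteType_algebraMap.mpr inferInstance
  · rw [HasRingHomProperty.Spec_iff (P := @LocallyOfFinitePresentation)]
    exact RingHom.finitePresentation_algebraMap.mpr inferInstance
  · rw [Flat.SpecMap_iff]
    exact RingHom.flat_algebraMap_iff.mpr inferInstance

theorem main19381 :
    (Flat (h ≫ Spec.map (CommRingCat.ofHom (algebraMap V A))) ∧
        Flat (pullback.snd h (Spec.map (CommRingCat.ofHom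
          (Ideal.Quotient.mk ((IsLocalRing.maximalIdeal V).map (algebraMap V A))))))) ↔
      Flat (pullback.snd h (Spec.map (CommRingCat.ofHom
        (algebraMap A
          (AdicCompletion ((IsLocalRing.maximalIdeal V).map (algebraMap V A)) A))))) := by
  obtain ⟨hA, hfg, i1, i2, i3⟩ := main_instances V A
  haveI := hA; haveI := i1; haveI := i2; haveI := i3
  have sqc : IsPullback (pullback.fst h (gCompl ((maximalIdeal V).map (algebraMap V A))))
      (pullback.snd h (gCompl ((maximalIdeal V).map (algebraMap V A)))) h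
      (gCompl ((maximalIdeal V).map (algebraMap V A))) := IsPullback.of_hasPullback _ _
  constructor
  · rintro ⟨hX, h0⟩
    haveI : Flat (h ≫ sigma V A) := hX
    haveI : Flat (pullback.snd h (iota A (maximalIdeal V))) := h0
    let L : X.Opens := ⟨{x | (h.stalkMap x).hom.Flat}, Groth.Agent.S0386.result h⟩
    have hL : ∀ x : X, (maximalIdeal V).map (algebraMap V A) ≤ (h.base x).asIdeal → x ∈ L := by
      intro x hx
      exact flat_stalk_of_closedFibre_flat (maximalIdeal V) h x (Ideal.map_le_iff_le_comap.mp hx)
    apply Flat.of_stalkMap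
    intro x'
    rw [flat_stalk_iff_of_isPullback_of_flat sqc x']
    exact fst_mem_of_forall_le _ h hfg h.isClosedMap L hL x'
  · intro hc
    have hstalk : ∀ x : X, (maximalIdeal V).map (algebraMap V A) ≤ (h.base x).asIdeal →
        (h.stalkMap x).hom.Flat := by
      apply mem_of_forall_fst_mem _ h {x | (h.stalkMap x).hom.Flat}
      intro x'
      exact (flat_stalk_iff_of_isPullback_of_flat sqc x').mp (Flat.stalkMap _ x')
    exact ⟨flat_over_dvr_of_flat_stalk h hstalk,
      flat_closedFibre_of_flat_stalk (maximalIdeal V) h hstalk⟩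

theorem main19382 :
    (Flat (h ≫ Spec.map (CommRingCat.ofHom (algebraMap V A))) ∧
        Smooth (pullback.snd h (Spec.map (CommRingCat.ofHom
          (Ideal.Quotient.mk ((IsLocalRing.maximalIdeal V).map (algebraMap V A))))))) ↔
      Smooth (pullback.snd h (Spec.map (CommRingCat.ofHom
        (algebraMap A
          (AdicCompletion ((IsLocalRing.maximalIdeal V).map (algebraMap V A)) A))))) := by
  obtain ⟨hA, hfg, i1, i2, i3⟩ := main_instances V A
  haveI := hA; haveI := i1; haveI := i2; haveI := i3
  have sqc : IsPullback (pullback.fst h (gCompl ((maximalIdeal V).map (algebraMap V A))))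
      (pullback.snd h (gCompl ((maximalIdeal V).map (algebraMap V A)))) h
      (gCompl ((maximalIdeal V).map (algebraMap V A))) := IsPullback.of_hasPullback _ _
  haveI : LocallyOfFinitePresentation
      (pullback.snd h (gCompl ((maximalIdeal V).map (algebraMap V A)))) :=
    MorphismProperty.pullback_snd (P := @LocallyOfFinitePresentation) _ _ inferInstance
  constructor
  · rintro ⟨hX, h0⟩
    haveI : Flat (h ≫ sigma V A) := hX
    haveI : Smooth (pullback.snd h (iota A (maximalIdeal V))) := h0
    have hL : ∀ x : X, (maximalIdeal V).map (algebraMap V A) ≤ (h.base x).asIdeal →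
        x ∈ h.smoothLocus := by
      intro x hx
      exact mem_smoothLocus_of_closedFibre_smooth (maximalIdeal V) h x hx
        (flat_stalk_of_closedFibre_flat (maximalIdeal V) h x (Ideal.map_le_iff_le_comap.mp hx))
    rw [← Scheme.Hom.smoothLocus_eq_top_iff]
    refine top_le_iff.mp ?_
    intro x' _
    exact Groth.Agent.Lib.UnramLocH4.stalk_smooth_baseChange sqc x'
      (fst_mem_of_forall_le _ h hfg h.isClosedMap h.smoothLocus hL x')
  · intro hc
    haveI := hc
    have hsm : ∀ x : X, (maximalIdeal V).map (algebraMap V A) ≤ (h.base x).asIdeal →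
        x ∈ h.smoothLocus := by
      apply mem_of_forall_fst_mem _ h (h.smoothLocus : Set X)
      intro x'
      have hx' : x' ∈ (pullback.snd h (gCompl ((maximalIdeal V).map (algebraMap V A)))).smoothLocus := by
        rw [Scheme.Hom.smoothLocus_eq_top]; trivial
      exact (Groth.Agent.Lib.UnramLocH4.stalk_smooth_iff_of_isPullback_of_flat sqc x').mp hx'
    have hstalk : ∀ x : X, (maximalIdeal V).map (algebraMap V A) ≤ (h.base x).asIdeal →
        (h.stalkMap x).hom.Flat := by
      intro x hx
      haveI := Groth.Agent.Lib.UnramLocH4.smooth_smoothLocus h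
      exact Groth.Agent.Lib.UnramLocH4.flat_stalk_of_nhd h x h.smoothLocus (hsm x hx)
    exact ⟨flat_over_dvr_of_flat_stalk h hstalk,
      smooth_closedFibre_of_mem_smoothLocus (maximalIdeal V) h hsm⟩

end Main

end Groth.Agent.Lib.ComplFibH4
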