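import Mathlib
import Groth.Prelude

/-!
# `q B_q` generates a maximal ideal in `B_q ⊗_A Â_p` (helper4)
-/

set_option autoImplicit false
set_option linter.style.haveILetI false

universe u

open IsLocalRing TensorProduct

namespace Groth.Agent.Lib.ComplFibMaxH4

section generic

variable {A R S C : Type u} [CommRing A] [CommRing R] [CommRing S] [CommRing C]
  [IsLocalRing R] [IsLocalRing S] [Algebra A R] [Algebra A S] [Algebra R C] [Algebra A C]
  [IsScalarTower A R C]

/-- the two maps `R → S ⊗[A] C` agree when `R` is a localization of `A`. -/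
lemma tmul_comm_of_isLocalization (M : Submonoid A) [IsLocalization M R] (ρ : R →ₐ[A] S) (r : R) :
    ((1 : S) ⊗ₜ[A] (algebraMap R C r) : S ⊗[A] C) = (ρ r) ⊗ₜ[A] (1 : C) := by
  haveI : Subsingleton (R →ₐ[A] S ⊗[A] C) := IsLocalization.algHom_subsingleton M
  have h : ((Algebra.TensorProduct.includeRight : C →ₐ[A] S ⊗[A] C).comp
      (IsScalarTower.toAlgHom A R C)) =
      ((Algebra.TensorProduct.includeLeft : S →ₐ[A] S ⊗[A] C).comp ρ) := Subsingleton.elim _ _
  exact AlgHom.congr_fun h r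

/-- the map `R/m → κ(S)` induced by `ρ`. -/
noncomputable def lft (ρ : R →ₐ[A] S) (hρ : ∀ r ∈ maximalIdeal R, ρ r ∈ maximalIdeal S) :
    R ⧸ maximalIdeal R →+* ResidueField S :=
  Ideal.Quotient.lift (maximalIdeal R) ((residue S).comp ρ.toRingHom)
    (fun r hr => (residue_eq_zero_iff _).mpr (hρ r hr))

lemma lft_mk (ρ : R →ₐ[A] S) (hρ : ∀ r ∈ maximalIdeal R, ρ r ∈ maximalIdeal S) (r : R) :
    lft ρ hρ (Ideal.Quotient.mk (maximalIdeal R) r) = residue S (ρ r) := rfl

lemma gHom_commutes (ρ : R →ₐ[A] S) (hρ : ∀ r ∈ maximalIdeal R, ρ r ∈ maximalIdeal S)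
    (ev : C →ₐ[R] R ⧸ maximalIdeal R) (a : A) :
    lft ρ hρ (ev (algebraMap A C a)) = algebraMap A (ResidueField S) a := by
  rw [IsScalarTower.algebraMap_apply A R C a, ev.commutes, Ideal.Quotient.algebraMap_eq, lft_mk,
    ρ.commutes, IsScalarTower.algebraMap_apply A S (ResidueField S) a]
  rfl

/-- the map `C → κ(S)` as an `A`-algebra hom. -/
noncomputable def gHom (ρ : R →ₐ[A] S) (hρ : ∀ r ∈ maximalIdeal R, ρ r ∈ maximalIdeal S)
    (ev : C →ₐ[R] R ⧸ maximalIdeal R) : C →ₐ[A] ResidueField S :=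
  { toRingHom := (lft ρ hρ).comp ev.toRingHom
    commutes' := fun a => gHom_commutes ρ hρ ev a }

/-- the map `S ⊗[A] C → κ(S)`. -/
noncomputable def psi (ρ : R →ₐ[A] S) (hρ : ∀ r ∈ maximalIdeal R, ρ r ∈ maximalIdeal S)
    (ev : C →ₐ[R] R ⧸ maximalIdeal R) : S ⊗[A] C →ₐ[A] ResidueField S :=
  Algebra.TensorProduct.lift (IsScalarTower.toAlgHom A S (ResidueField S)) (gHom ρ hρ ev)
    (fun _ _ => Commute.all _ _)

lemma psi_tmul_one (ρ : R →ₐ[A] S) (hρ : ∀ r ∈ maximalIdeal R, ρ r ∈ maximalIdeal S)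
    (ev : C →ₐ[R] R ⧸ maximalIdeal R) (s : S) :
    psi ρ hρ ev (s ⊗ₜ[A] (1 : C)) = residue S s := by
  unfold psi
  rw [Algebra.TensorProduct.lift_tmul, map_one, mul_one]
  rfl

lemma ne_top (ρ : R →ₐ[A] S) (hρ : ∀ r ∈ maximalIdeal R, ρ r ∈ maximalIdeal S)
    (ev : C →ₐ[R] R ⧸ maximalIdeal R) :
    (maximalIdeal S).map
      (Algebra.TensorProduct.includeLeftRingHom : S →+* S ⊗[A] C) ≠ ⊤ := by
  have hψJ : (maximalIdeal S).map
      (Algebra.TensorProduct.includeLeftRingHom : S →+* S ⊗[A] C) ≤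
        RingHom.ker (psi ρ hρ ev).toRingHom := by
    rw [Ideal.map_le_iff_le_comap]
    intro s hs
    rw [Ideal.mem_comap, RingHom.mem_ker]
    show psi ρ hρ ev (s ⊗ₜ[A] (1 : C)) = 0
    rw [psi_tmul_one]
    exact (residue_eq_zero_iff s).mpr hs
  intro htop
  have h1 : (1 : S ⊗[A] C) ∈ RingHom.ker (psi ρ hρ ev).toRingHom := by
    apply hψJ
    rw [htop]
    exact Submodule.mem_top
  have h2 : psi ρ hρ ev 1 = 0 := RingHom.mem_ker.mp h1
  rw [map_one] at h2
  exact one_ne_zero h2

theorem generic (M : Submonoid A) [IsLocalization M R] (ρ : R →ₐ[A] S)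
    (hρ : ∀ r ∈ maximalIdeal R, ρ r ∈ maximalIdeal S)
    (ev : C →ₐ[R] R ⧸ maximalIdeal R)
    (hev : RingHom.ker ev.toRingHom = (maximalIdeal R).map (algebraMap R C)) :
    ((maximalIdeal S).map
      (Algebra.TensorProduct.includeLeftRingHom : S →+* S ⊗[A] C)).IsMaximal := by
  have B3 := ne_top (C := C) ρ hρ ev
  generalize hJ : (maximalIdeal S).map
      (Algebra.TensorProduct.includeLeftRingHom : S →+* S ⊗[A] C) = J at B3 ⊢
  let π : S ⊗[A] C →+* (S ⊗[A] C) ⧸ J := Ideal.Quotient.mk J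
  let γ : S →+* (S ⊗[A] C) ⧸ J := π.comp Algebra.TensorProduct.includeLeftRingHom
  let θ : C →+* (S ⊗[A] C) ⧸ J :=
    π.comp (Algebra.TensorProduct.includeRight : C →ₐ[A] S ⊗[A] C).toRingHom
  have hγ_apply : ∀ s : S, γ s = π (s ⊗ₜ[A] (1 : C)) := fun s => rfl
  have hθ_apply : ∀ c : C, θ c = π ((1 : S) ⊗ₜ[A] c) := fun c => rfl
  have B1 : maximalIdeal S ≤ RingHom.ker γ := by
    intro s hs
    rw [RingHom.mem_ker]
    refine Ideal.Quotient.eq_zero_iff_mem.mpr ?_
    rw [← hJ]
    exact Ideal.mem_map_of_mem _ hs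
  have hθm : (maximalIdeal R).map (algebraMap R C) ≤ RingHom.ker θ := by
    rw [Ideal.map_le_iff_le_comap]
    intro r hr
    rw [Ideal.mem_comap, RingHom.mem_ker, hθ_apply, tmul_comm_of_isLocalization M ρ r,
      ← hγ_apply]
    exact RingHom.mem_ker.mp (B1 (hρ r hr))
  have hθ_range : ∀ c : C, θ c ∈ γ.range := by
    intro c
    obtain ⟨r, hr⟩ := Ideal.Quotient.mk_surjective (ev c)
    have hδ : c - algebraMap R C r ∈ RingHom.ker θ := by
      apply hθm
      rw [← hev, RingHom.mem_ker]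
      show ev (c - algebraMap R C r) = 0
      rw [map_sub, ev.commutes, Ideal.Quotient.algebraMap_eq, hr, sub_self]
    have h1 : θ c = θ (algebraMap R C r) := by
      have h2 := RingHom.mem_ker.mp hδ
      rw [map_sub, sub_eq_zero] at h2
      exact h2
    rw [h1, hθ_apply, tmul_comm_of_isLocalization M ρ r, ← hγ_apply]
    exact ⟨ρ r, rfl⟩
  have hall : ∀ t : S ⊗[A] C, π t ∈ γ.range := by
    intro t
    induction t using TensorProduct.induction_on with
    | zero => rw [map_zero]; exact γ.range.zero_mem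
    | tmul s c =>
      have e : (s ⊗ₜ[A] c : S ⊗[A] C) = (s ⊗ₜ[A] (1 : C)) * ((1 : S) ⊗ₜ[A] c) := by
        rw [Algebra.TensorProduct.tmul_mul_tmul, mul_one, one_mul]
      rw [e, map_mul]
      exact γ.range.mul_mem ⟨s, rfl⟩ (hθ_range c)
    | add x y hx hy => rw [map_add]; exact γ.range.add_mem hx hy
  have B2 : Function.Surjective γ := by
    intro y
    obtain ⟨t, rfl⟩ := Ideal.Quotient.mk_surjective y
    exact RingHom.mem_range.mp (hall t)
  haveI : Nontrivial ((S ⊗[A] C) ⧸ J) := Ideal.Quotient.nontrivial_iff.mpr B3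
  have hk : RingHom.ker γ = maximalIdeal S :=
    le_antisymm (le_maximalIdeal (RingHom.ker_ne_top γ)) B1
  have hmax : (RingHom.ker γ).IsMaximal := by
    rw [hk]
    exact maximalIdeal.isMaximal S
  have hF : IsField (S ⧸ RingHom.ker γ) :=
    (Ideal.Quotient.maximal_ideal_iff_isField_quotient _).mp hmax
  have e : S ⧸ RingHom.ker γ ≃+* (S ⊗[A] C) ⧸ J := RingHom.quotientKerEquivOfSurjective B2
  exact Ideal.Quotient.maximal_of_isField J (MulEquiv.isField hF e.symm.toMulEquiv)

end generic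

theorem main (A B : Type u) [CommRing A] [CommRing B] [Algebra A B] [IsNoetherianRing A]
    (q : Ideal B) [q.IsPrime] :
    ((maximalIdeal (Localization.AtPrime q)).map
      (Algebra.TensorProduct.includeLeftRingHom :
        Localization.AtPrime q →+* TensorProduct A (Localization.AtPrime q)
          (AdicCompletion (maximalIdeal (Localization.AtPrime (q.under A)))
            (Localization.AtPrime (q.under A))))).IsMaximal := by
  let ρ : Localization.AtPrime (q.under A) →ₐ[A] Localization.AtPrime q :=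
    { toRingHom := Localization.localRingHom (q.under A) q (algebraMap A B) rfl
      commutes' := fun a => (Localization.localRingHom_to_map _ _ _ _ a).trans
        (IsScalarTower.algebraMap_apply A B (Localization.AtPrime q) a).symm }
  haveI : IsNoetherianRing (Localization.AtPrime (q.under A)) :=
    IsLocalization.isNoetherianRing (q.under A).primeCompl _ inferInstance
  refine generic (q.under A).primeCompl ρ (fun r hr => ?_)
    (AdicCompletion.evalOneₐ _) (AdicCompletion.ker_evalOneₐ_eq_map _ (IsNoetherian.noetherian _))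
  exact _root_.map_nonunit (Localization.localRingHom (q.under A) q (algebraMap A B) rfl) r hr

end Groth.Agent.Lib.ComplFibMaxH4
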