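import Mathlib
import Groth.Agent.Lib.ComplIso_helper5

/-!
# Completion of a finite algebra as a tensor product (helper5)

* `tensorEquiv`: for a Noetherian ring `B`, an ideal `I` and a module-finite `B`-algebra `C`,
  `AdicCompletion I B ⊗[B] C ≃ₐ[B] AdicCompletion (I C) C` (ring completion of `C`).
APPEND-ONLY once landed.
-/

set_option autoImplicit false
universe u
open scoped TensorProduct

namespace Groth.Agent.Lib.ComplFinAlgH5

variable (B C : Type u) [CommRing B] [CommRing C] [Algebra B C] (I : Ideal B)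

theorem mem_smul_top_iff (n : ℕ) (c : C) :
    c ∈ (I ^ n • ⊤ : Submodule B C) ↔ c ∈ (I.map (algebraMap B C)) ^ n := by
  rw [Ideal.smul_top_eq_map, Submodule.restrictScalars_mem, Ideal.map_pow]

/-- the map of completions `B̂ → Ĉ` -/
noncomputable def κ : AdicCompletion I B →ₐ[B] AdicCompletion (I.map (algebraMap B C)) C :=
  Groth.Agent.Lib.ComplIsoH5.complMap (Algebra.ofId B C) I (I.map (algebraMap B C)) le_rfl

theorem evalₐ_κ (n : ℕ) (x : AdicCompletion.AdicCauchySequence I B) :
    AdicCompletion.evalₐ (I.map (algebraMap B C)) n (κ B C I (AdicCompletion.mk I B x)) =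
      Ideal.Quotient.mk _ (algebraMap B C (x n)) := by
  unfold κ
  rw [Groth.Agent.Lib.ComplIsoH5.evalₐ_complMap, AdicCompletion.evalₐ_mk,
    Groth.Agent.Lib.ComplIsoH5.lvl_mk]
  rfl

/-- `C → Ĉ` as a `B`-algebra map -/
noncomputable def ι : C →ₐ[B] AdicCompletion (I.map (algebraMap B C)) C :=
  { algebraMap C (AdicCompletion (I.map (algebraMap B C)) C) with
    commutes' := fun b => by
      change algebraMap C _ (algebraMap B C b) = algebraMap B _ b
      rw [AdicCompletion.algebraMap_apply, AdicCompletion.algebraMap_apply]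
      rfl }

theorem evalₐ_ι (n : ℕ) (c : C) :
    AdicCompletion.evalₐ (I.map (algebraMap B C)) n (ι B C I c) = Ideal.Quotient.mk _ c := by
  change AdicCompletion.evalₐ _ n (algebraMap C _ c) = _
  rw [AdicCompletion.algebraMap_apply, AdicCompletion.evalₐ_of]
  rfl

/-- the comparison map `B̂ ⊗ C → Ĉ` -/
noncomputable def φ : AdicCompletion I B ⊗[B] C →ₐ[B] AdicCompletion (I.map (algebraMap B C)) C :=
  Algebra.TensorProduct.productMap (κ B C I) (ι B C I)

theorem rel (t : AdicCompletion I B ⊗[B] C) (n : ℕ) :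
    ∃ c : C, (AdicCompletion.ofTensorProduct I C t).val n =
        Submodule.Quotient.mk (p := (I ^ n • ⊤ : Submodule B C)) c ∧
      AdicCompletion.evalₐ (I.map (algebraMap B C)) n (φ B C I t) = Ideal.Quotient.mk _ c := by
  induction t using TensorProduct.induction_on with
  | zero => exact ⟨0, by simp, by simp⟩
  | add x y hx hy =>
    obtain ⟨c, hc1, hc2⟩ := hx
    obtain ⟨d, hd1, hd2⟩ := hy
    refine ⟨c + d, ?_, ?_⟩
    · rw [map_add, AdicCompletion.val_add_apply, hc1, hd1, Submodule.Quotient.mk_add]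
    · rw [map_add, map_add, hc2, hd2, map_add]
  | tmul b c =>
    obtain ⟨f, rfl⟩ := AdicCompletion.mk_surjective I B b
    refine ⟨f n • c, ?_, ?_⟩
    · rw [AdicCompletion.ofTensorProduct_tmul, AdicCompletion.smul_eval]
      rfl
    · unfold φ
      rw [Algebra.TensorProduct.productMap_apply_tmul, map_mul, evalₐ_κ, evalₐ_ι, ← map_mul,
        Algebra.smul_def]

theorem φ_injective [IsNoetherianRing B] [Module.Finite B C] :
    Function.Injective (φ B C I) := by
  rw [injective_iff_map_eq_zero]
  intro t ht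
  apply (AdicCompletion.ofTensorProduct_bijective_of_finite_of_isNoetherian I C).1
  rw [map_zero]
  apply AdicCompletion.ext
  intro n
  obtain ⟨c, hc1, hc2⟩ := rel B C I t n
  rw [ht, map_zero] at hc2
  rw [hc1, AdicCompletion.val_zero_apply, Submodule.Quotient.mk_eq_zero, mem_smul_top_iff]
  exact Ideal.Quotient.eq_zero_iff_mem.1 hc2.symm

theorem φ_surjective [IsNoetherianRing B] [Module.Finite B C] :
    Function.Surjective (φ B C I) := by
  intro y
  obtain ⟨f, rfl⟩ := AdicCompletion.mk_surjective (I.map (algebraMap B C)) C y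
  -- the same Cauchy sequence for the `B`-module structure
  have hf : AdicCompletion.IsAdicCauchy I C (fun n => f n) := by
    intro m n hmn
    have h1 := f.2 hmn
    rw [SModEq.sub_mem] at h1 ⊢
    rw [mem_smul_top_iff]
    simpa using h1
  obtain ⟨t, ht⟩ := (AdicCompletion.ofTensorProduct_bijective_of_finite_of_isNoetherian I C).2
    (AdicCompletion.mk I C ⟨fun n => f n, hf⟩)
  refine ⟨t, ?_⟩
  apply AdicCompletion.ext_evalₐ
  intro n
  obtain ⟨c, hc1, hc2⟩ := rel B C I t n
  rw [hc2, AdicCompletion.evalₐ_mk, Ideal.Quotient.mk_eq_mk_iff_sub_mem]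
  rw [ht, AdicCompletion.mk_apply_coe, Submodule.mkQ_apply, eq_comm,
    Submodule.Quotient.eq, mem_smul_top_iff] at hc1
  exact hc1

/-- `B̂ ⊗[B] C ≃ Ĉ` for a finite algebra `C` over a Noetherian ring `B`. -/
noncomputable def tensorEquiv [IsNoetherianRing B] [Module.Finite B C] :
    AdicCompletion I B ⊗[B] C ≃ₐ[B] AdicCompletion (I.map (algebraMap B C)) C :=
  AlgEquiv.ofBijective (φ B C I) ⟨φ_injective B C I, φ_surjective B C I⟩

end Groth.Agent.Lib.ComplFinAlgH5
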