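import Mathlib
import Groth.Agent.Lib.ComplFlat_helper3

/-!
# The stalk ring `A_{S}` inside `A{S⁻¹}` (helper3)
-/

set_option autoImplicit false

namespace Groth.Agent.Lib.StalkSubH3

universe u

open AdicCompletion

section Units

variable {R : Type u} [CommRing R] (I : Ideal R)

theorem evalOneₐ_mk (c : AdicCauchySequence I R) :
    evalOneₐ I (AdicCompletion.mk I R c) = Ideal.Quotient.mk I (c.val 1) := by
  rw [← factorₐ_evalₐ_one, evalₐ_mk]
  rfl

/-- An element of the completion is a unit as soon as its image in `R ⧸ I` is. -/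
theorem isUnit_of_isUnit_evalOneₐ (x : AdicCompletion I R) (hx : IsUnit (evalOneₐ I x)) :
    IsUnit x := by
  obtain ⟨c, rfl⟩ := AdicCompletion.mk_surjective I R x
  rw [evalOneₐ_mk] at hx
  have hcau : ∀ {m n : ℕ}, m ≤ n → Ideal.Quotient.mk (I ^ m) (c.val m) =
      Ideal.Quotient.mk (I ^ m) (c.val n) := by
    intro m n hmn
    have := c.2 hmn
    rw [SModEq.sub_mem] at this
    simp only [smul_eq_mul, Ideal.mul_top] at this
    exact Ideal.Quotient.eq.2 this
  have hu : ∀ n : ℕ, IsUnit (Ideal.Quotient.mk (I ^ n) (c.val n)) := by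
    intro n
    rcases Nat.eq_zero_or_pos n with rfl | hn
    · haveI : Subsingleton (R ⧸ I ^ 0) := by
        rw [pow_zero, Ideal.one_eq_top]; exact Ideal.Quotient.subsingleton_iff.2 rfl
      exact isUnit_of_subsingleton _
    · rw [Ideal.Quotient.isUnit_mk_pow_iff_isUnit_mk I hn.ne']
      have h1 : Ideal.Quotient.mk I (c.val n) = Ideal.Quotient.mk I (c.val 1) := by
        have := hcau (m := 1) (n := n) hn
        rw [pow_one] at this
        exact this.symm
      rw [h1]; exact hx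
  choose y hy using fun n => (hu n).exists_right_inv
  choose z hz using fun n => Ideal.Quotient.mk_surjective (y n)
  have hzc : ∀ n, Ideal.Quotient.mk (I ^ n) (c.val n * z n) = 1 := by
    intro n; rw [map_mul, hz, hy]
  have hz_cau : ∀ {m n : ℕ}, m ≤ n → z m ≡ z n [SMOD (I ^ m • ⊤ : Submodule R R)] := by
    intro m n hmn
    rw [SModEq.sub_mem]
    simp only [smul_eq_mul, Ideal.mul_top]
    rw [← Ideal.Quotient.eq]
    -- both are inverses of `mk (c m)` in `R ⧸ I ^ m`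
    have h1 : Ideal.Quotient.mk (I ^ m) (c.val m) * Ideal.Quotient.mk (I ^ m) (z m) = 1 := by
      rw [← map_mul]; exact hzc m
    have h2 : Ideal.Quotient.mk (I ^ m) (c.val m) * Ideal.Quotient.mk (I ^ m) (z n) = 1 := by
      rw [hcau hmn, ← map_mul]
      have h3 := hzc n
      rw [← map_one (Ideal.Quotient.mk (I ^ n)), Ideal.Quotient.eq] at h3
      rw [← map_one (Ideal.Quotient.mk (I ^ m)), Ideal.Quotient.eq]
      exact Ideal.pow_le_pow_right hmn h3
    calc Ideal.Quotient.mk (I ^ m) (z m)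
        = Ideal.Quotient.mk (I ^ m) (z m) *
          (Ideal.Quotient.mk (I ^ m) (c.val m) * Ideal.Quotient.mk (I ^ m) (z n)) := by
          rw [h2, mul_one]
      _ = (Ideal.Quotient.mk (I ^ m) (c.val m) * Ideal.Quotient.mk (I ^ m) (z m)) *
          Ideal.Quotient.mk (I ^ m) (z n) := by ring
      _ = Ideal.Quotient.mk (I ^ m) (z n) := by rw [h1, one_mul]
  refine IsUnit.of_mul_eq_one (AdicCompletion.mk I R ⟨z, hz_cau⟩) ?_
  apply AdicCompletion.ext_evalₐ
  intro n
  rw [map_mul, evalₐ_mk, evalₐ_mk, map_one, ← map_mul]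
  exact hzc n

theorem isUnit_iff_isUnit_evalOneₐ (x : AdicCompletion I R) :
    IsUnit x ↔ IsUnit (evalOneₐ I x) :=
  ⟨fun h => h.map _, isUnit_of_isUnit_evalOneₐ I x⟩

theorem isLocalRing_adicCompletion [IsLocalRing R] (hI : I ≠ ⊤) :
    IsLocalRing (AdicCompletion I R) := by
  haveI : Nontrivial (R ⧸ I) := Ideal.Quotient.nontrivial_iff.2 hI
  haveI : IsLocalRing (R ⧸ I) :=
    IsLocalRing.of_surjective' (Ideal.Quotient.mk I) Ideal.Quotient.mk_surjective
  haveI : IsLocalHom (evalOneₐ I).toRingHom :=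
    ⟨fun x hx => isUnit_of_isUnit_evalOneₐ I x hx⟩
  exact RingHom.domain_isLocalRing (evalOneₐ I).toRingHom

end Units

section ComplMap

variable {S T U : Type u} [CommRing S] [CommRing T] [CommRing U] (I : Ideal S) (K : Ideal T)
  (L : Ideal U)

set_option backward.isDefEq.respectTransparency false in
theorem evalₐ_complMap (g : S →+* T) (h : I.map g ≤ K) (n : ℕ) (x : AdicCompletion I S) :
    evalₐ K n (FSch.complMap I K g h x) =
      Ideal.quotientMap (K ^ n) g (FSch.pow_le_comap_pow_of_map_le I K g h n) (evalₐ I n x) := by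
  rw [FSch.complMap, AdicCompletion.evalₐ_liftRingHom]
  · rfl
  · intro m n hle
    apply RingHom.ext
    intro x
    obtain ⟨y, rfl⟩ := AdicCompletion.mk_surjective I S x
    simp only [RingHom.coe_comp, Function.comp_apply, AlgHom.toRingHom_eq_coe,
      AlgHom.coe_toRingHom, AdicCompletion.evalₐ_mk, Ideal.quotientMap_mk,
      Ideal.Quotient.factorPow, Ideal.Quotient.factor_mk]
    rw [Ideal.Quotient.eq]
    have hy := y.2 hle
    rw [SModEq.sub_mem] at hy
    simp only [smul_eq_mul, Ideal.mul_top] at hy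
    rw [← map_sub]
    have hy' : (y : ℕ → S) n - (y : ℕ → S) m ∈ I ^ m := by
      rw [← neg_sub]; exact (I ^ m).neg_mem hy
    exact FSch.pow_le_comap_pow_of_map_le I K g h m hy'

theorem complMap_comp (g₁ : S →+* T) (g₂ : T →+* U) (g₃ : S →+* U) (hg : g₂.comp g₁ = g₃)
    (h₁ : I.map g₁ ≤ K) (h₂ : K.map g₂ ≤ L) (h₃ : I.map g₃ ≤ L) (x : AdicCompletion I S) :
    FSch.complMap K L g₂ h₂ (FSch.complMap I K g₁ h₁ x) = FSch.complMap I L g₃ h₃ x := by
  subst hg
  apply AdicCompletion.ext_evalₐ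
  intro n
  rw [evalₐ_complMap, evalₐ_complMap, evalₐ_complMap]
  obtain ⟨r, hr⟩ := Ideal.Quotient.mk_surjective (evalₐ I n x)
  rw [← hr]
  simp [Ideal.quotientMap_mk]

theorem evalOneₐ_complMap (g : S →+* T) (h : I.map g ≤ K) (x : AdicCompletion I S) :
    evalOneₐ K (FSch.complMap I K g h x) =
      Ideal.quotientMap K g (Ideal.map_le_iff_le_comap.1 h) (evalOneₐ I x) := by
  obtain ⟨c, rfl⟩ := AdicCompletion.mk_surjective I S x
  rw [evalOneₐ_mk, ← factorₐ_evalₐ_one, evalₐ_complMap, evalₐ_mk]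
  simp [Ideal.quotientMap_mk]

end ComplMap

section Stalk

variable (A : Type u) [CommRing A] (J 𝔭 : Ideal A) [𝔭.IsPrime]

theorem isUnit_algebraMap_of_dvd {f h : A} (hd : f ∣ h) :
    IsUnit (algebraMap A (Localization.Away h) f) :=
  isUnit_of_dvd_unit (map_dvd _ hd) (IsLocalization.Away.algebraMap_isUnit h)

/-- `A_f → A_h` for `f ∣ h`. -/
noncomputable def awayToAway {f h : A} (hd : f ∣ h) : Localization.Away f →+* Localization.Away h :=
  IsLocalization.Away.lift f (g := algebraMap A (Localization.Away h))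
    (isUnit_algebraMap_of_dvd A hd)

theorem awayToAway_algebraMap {f h : A} (hd : f ∣ h) (a : A) :
    awayToAway A hd (algebraMap A (Localization.Away f) a) = algebraMap A (Localization.Away h) a :=
  IsLocalization.Away.lift_eq _ _ _

theorem awayToAway_comp_algebraMap {f h : A} (hd : f ∣ h) :
    (awayToAway A hd).comp (algebraMap A (Localization.Away f)) =
      algebraMap A (Localization.Away h) :=
  RingHom.ext fun a => awayToAway_algebraMap A hd a

theorem awayToAtPrime_algebraMap {f : A} (hf : f ∉ 𝔭) (a : A) :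
    FSch.awayToAtPrime A 𝔭 f hf (algebraMap A (Localization.Away f) a) =
      algebraMap A (Localization.AtPrime 𝔭) a :=
  IsLocalization.Away.lift_eq _ _ _

theorem awayToAtPrime_comp_awayToAway {f h : A} (hd : f ∣ h) (hf : f ∉ 𝔭) (hh : h ∉ 𝔭) :
    (FSch.awayToAtPrime A 𝔭 h hh).comp (awayToAway A hd) = FSch.awayToAtPrime A 𝔭 f hf := by
  apply IsLocalization.ringHom_ext (Submonoid.powers f)
  ext a
  simp [awayToAway_algebraMap, awayToAtPrime_algebraMap]

theorem map_awayToAway_le {f h : A} (hd : f ∣ h) :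
    (J.map (algebraMap A (Localization.Away f))).map (awayToAway A hd) ≤
      J.map (algebraMap A (Localization.Away h)) := by
  rw [Ideal.map_map, awayToAway_comp_algebraMap]

/-- `A_{f} → A_{h}` for `f ∣ h`. -/
noncomputable def cAwayToAway {f h : A} (hd : f ∣ h) : FSch.cAway A J f →+* FSch.cAway A J h :=
  FSch.complMap _ _ (awayToAway A hd) (map_awayToAway_le A J hd)

theorem cAwayToAtPrime_cAwayToAway {f h : A} (hd : f ∣ h) (hf : f ∉ 𝔭) (hh : h ∉ 𝔭)
    (x : FSch.cAway A J f) :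
    FSch.cAwayToAtPrime A J 𝔭 h hh (cAwayToAway A J hd x) = FSch.cAwayToAtPrime A J 𝔭 f hf x := by
  unfold FSch.cAwayToAtPrime cAwayToAway
  exact complMap_comp _ _ _ _ _ _ (awayToAtPrime_comp_awayToAway A 𝔭 hd hf hh) _ _ _ x

theorem range_le_of_dvd {f h : A} (hd : f ∣ h) (hf : f ∉ 𝔭) (hh : h ∉ 𝔭) :
    (FSch.cAwayToAtPrime A J 𝔭 f hf).range ≤ (FSch.cAwayToAtPrime A J 𝔭 h hh).range := by
  rintro _ ⟨x, rfl⟩
  exact ⟨cAwayToAway A J hd x, cAwayToAtPrime_cAwayToAway A J 𝔭 hd hf hh x⟩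

theorem directed_range :
    Directed (· ≤ ·) fun f : {f : A // f ∉ 𝔭} => (FSch.cAwayToAtPrime A J 𝔭 f.1 f.2).range := by
  intro f g
  have hfg : f.1 * g.1 ∉ 𝔭 := fun h => (Ideal.IsPrime.mem_or_mem ‹𝔭.IsPrime› h).elim f.2 g.2
  exact ⟨⟨f.1 * g.1, hfg⟩, range_le_of_dvd A J 𝔭 (dvd_mul_right _ _) f.2 hfg,
    range_le_of_dvd A J 𝔭 (dvd_mul_left _ _) g.2 hfg⟩

theorem mem_stalkSubring_iff (t : FSch.cAtPrime A J 𝔭) :
    t ∈ FSch.stalkSubring A J 𝔭 ↔
      ∃ (f : A) (hf : f ∉ 𝔭) (x : FSch.cAway A J f), FSch.cAwayToAtPrime A J 𝔭 f hf x = t := by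
  haveI : Nonempty {f : A // f ∉ 𝔭} :=
    ⟨⟨1, fun h => (Ideal.IsPrime.ne_top ‹𝔭.IsPrime›) ((Ideal.eq_top_iff_one _).2 h)⟩⟩
  unfold FSch.stalkSubring
  rw [Subring.mem_iSup_of_directed (directed_range A J 𝔭)]
  constructor
  · rintro ⟨f, x, rfl⟩; exact ⟨f.1, f.2, x, rfl⟩
  · rintro ⟨f, hf, x, rfl⟩; exact ⟨⟨f, hf⟩, x, rfl⟩

theorem map_le_maximalIdeal (hJ : J ≤ 𝔭) :
    J.map (algebraMap A (Localization.AtPrime 𝔭)) ≤
      IsLocalRing.maximalIdeal (Localization.AtPrime 𝔭) := by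
  rw [← Localization.AtPrime.map_eq_maximalIdeal]
  exact Ideal.map_mono hJ

theorem isLocalRing_cAtPrime (hJ : J ≤ 𝔭) : IsLocalRing (FSch.cAtPrime A J 𝔭) := by
  apply isLocalRing_adicCompletion
  intro h
  have := map_le_maximalIdeal A J 𝔭 hJ
  rw [h] at this
  exact (IsLocalRing.maximalIdeal.isMaximal (Localization.AtPrime 𝔭)).ne_top (top_le_iff.1 this)

/-- Key: a unit of `A{S⁻¹}` coming from some `A_{f}` has its inverse coming from some `A_{h}`. -/
theorem exists_inverse (hJ : J ≤ 𝔭) {f : A} (hf : f ∉ 𝔭) (x : FSch.cAway A J f)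
    (hx : IsUnit (FSch.cAwayToAtPrime A J 𝔭 f hf x)) :
    ∃ (h : A) (hh : h ∉ 𝔭) (y : FSch.cAway A J h),
      FSch.cAwayToAtPrime A J 𝔭 f hf x * FSch.cAwayToAtPrime A J 𝔭 h hh y = 1 := by
  obtain ⟨b, hb⟩ := Ideal.Quotient.mk_surjective
    (evalOneₐ (J.map (algebraMap A (Localization.Away f))) x)
  -- the image of `b` in `A_𝔭` is a unit
  have h1 : IsUnit (evalOneₐ (J.map (algebraMap A (Localization.AtPrime 𝔭)))
      (FSch.cAwayToAtPrime A J 𝔭 f hf x)) := hx.map _
  unfold FSch.cAwayToAtPrime at h1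
  rw [evalOneₐ_complMap, ← hb, Ideal.quotientMap_mk] at h1
  haveI := isLocalHom_of_le_jacobson_bot (J.map (algebraMap A (Localization.AtPrime 𝔭)))
    ((map_le_maximalIdeal A J 𝔭 hJ).trans (IsLocalRing.maximalIdeal_le_jacobson ⊥))
  have h2 : IsUnit (FSch.awayToAtPrime A 𝔭 f hf b) := isUnit_of_map_unit _ _ h1
  obtain ⟨m, a, hma⟩ := IsLocalization.Away.surj f b
  have h3 : FSch.awayToAtPrime A 𝔭 f hf b * (algebraMap A (Localization.AtPrime 𝔭) f) ^ m =
      algebraMap A (Localization.AtPrime 𝔭) a := by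
    have := congrArg (FSch.awayToAtPrime A 𝔭 f hf) hma
    rwa [map_mul, map_pow, awayToAtPrime_algebraMap, awayToAtPrime_algebraMap] at this
  have hfu : IsUnit (algebraMap A (Localization.AtPrime 𝔭) f) :=
    (IsLocalization.AtPrime.isUnit_to_map_iff (Localization.AtPrime 𝔭) 𝔭 f).2 hf
  have ha : a ∉ 𝔭 := by
    have : IsUnit (algebraMap A (Localization.AtPrime 𝔭) a) := by
      rw [← h3]; exact h2.mul (hfu.pow m)
    exact (IsLocalization.AtPrime.isUnit_to_map_iff (Localization.AtPrime 𝔭) 𝔭 a).1 this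
  have hh : f * a ∉ 𝔭 := fun h => (Ideal.IsPrime.mem_or_mem ‹𝔭.IsPrime› h).elim hf ha
  have hd : f ∣ f * a := dvd_mul_right _ _
  -- the image of `x` in `A_{fa}` is a unit
  have h4 : awayToAway A hd b * (algebraMap A (Localization.Away (f * a)) f) ^ m =
      algebraMap A (Localization.Away (f * a)) a := by
    have := congrArg (awayToAway A hd) hma
    rwa [map_mul, map_pow, awayToAway_algebraMap, awayToAway_algebraMap] at this
  have h5 : IsUnit (awayToAway A hd b) := by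
    have hau : IsUnit (algebraMap A (Localization.Away (f * a)) a) :=
      isUnit_algebraMap_of_dvd A (dvd_mul_left _ _)
    rw [← h4] at hau
    exact isUnit_of_mul_isUnit_left hau
  have h6 : IsUnit (cAwayToAway A J hd x) := by
    apply isUnit_of_isUnit_evalOneₐ
    unfold cAwayToAway
    rw [evalOneₐ_complMap, ← hb, Ideal.quotientMap_mk]
    exact h5.map _
  obtain ⟨y, hy⟩ := h6.exists_right_inv
  refine ⟨f * a, hh, y, ?_⟩
  rw [← cAwayToAtPrime_cAwayToAway A J 𝔭 hd hf hh x, ← map_mul, hy, map_one]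

theorem isLocalHom_subtype (hJ : J ≤ 𝔭) : IsLocalHom (FSch.stalkSubring A J 𝔭).subtype := by
  refine ⟨fun t ht => ?_⟩
  obtain ⟨f, hf, x, hx⟩ := (mem_stalkSubring_iff A J 𝔭 t.1).1 t.2
  have ht' : IsUnit (FSch.cAwayToAtPrime A J 𝔭 f hf x) := by rw [hx]; exact ht
  obtain ⟨h, hh, y, hy⟩ := exists_inverse A J 𝔭 hJ hf x ht'
  have hy' : FSch.cAwayToAtPrime A J 𝔭 h hh y ∈ FSch.stalkSubring A J 𝔭 :=
    (mem_stalkSubring_iff A J 𝔭 _).2 ⟨h, hh, y, rfl⟩
  refine IsUnit.of_mul_eq_one ⟨_, hy'⟩ (Subtype.ext ?_)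
  rw [Subring.coe_mul, Subring.coe_one, ← hx]
  exact hy

theorem main_S3869 (hJ : J ≤ 𝔭) :
    IsLocalRing (FSch.stalkSubring A J 𝔭) ∧ IsLocalHom (FSch.stalkSubring A J 𝔭).subtype := by
  haveI := isLocalRing_cAtPrime A J 𝔭 hJ
  haveI := isLocalHom_subtype A J 𝔭 hJ
  exact ⟨RingHom.domain_isLocalRing (FSch.stalkSubring A J 𝔭).subtype, inferInstance⟩

end Stalk

end Groth.Agent.Lib.StalkSubH3
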