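import Mathlib
import Groth.Agent.Lib.StalkSub_helper3
import Groth.Agent.Lib.CompleteNoeth_lead

/-!
# Completion of a local homomorphism with finite closed fibre (helper3)

* `complMap_id_bijective`: if `I ≤ K` and `K ^ N ≤ I` then the canonical map from the `I`-adic
  completion to the `K`-adic completion is bijective.
* `finite_quotient`, `exists_pow_le`: for a local homomorphism `R → S` with finite closed fibre,
  `S ⧸ 𝔪S` is a finite `R`-module and `𝔫 ^ N ≤ 𝔪S` for some `N`.
* `complMap_finite`: then `R̂ → Ŝ` is finite.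
APPEND-ONLY once landed.
-/

set_option autoImplicit false

namespace Groth.Agent.Lib.ComplFinFibH3

universe u

open AdicCompletion Groth.Agent.Lib.StalkSubH3

section TwoIdeals

variable {S : Type u} [CommRing S] (I K : Ideal S)

theorem cauchy_mem {c : AdicCauchySequence I S} {m n : ℕ} (hmn : m ≤ n) :
    c.val m - c.val n ∈ I ^ m := by
  have := c.2 hmn
  rw [SModEq.sub_mem] at this
  simpa only [smul_eq_mul, Ideal.mul_top] using this

theorem complMap_id_bijective (h' : I.map (RingHom.id S) ≤ K) (N : ℕ) (hN : K ^ N ≤ I) :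
    Function.Bijective (FSch.complMap I K (RingHom.id S) h') := by
  have hN1 : K ^ (N + 1) ≤ I := (Ideal.pow_le_pow_right (Nat.le_succ N)).trans hN
  have hpow : ∀ n, K ^ (n * (N + 1)) ≤ I ^ n := by
    intro n
    rw [mul_comm, pow_mul]
    exact Ideal.pow_right_mono hN1 n
  have hle : ∀ n, n ≤ n * (N + 1) := fun n => Nat.le_mul_of_pos_right n (Nat.succ_pos N)
  have hev : ∀ (c : AdicCauchySequence I S) (n : ℕ),
      evalₐ K n (FSch.complMap I K (RingHom.id S) h' (AdicCompletion.mk I S c)) =
        Ideal.Quotient.mk (K ^ n) (c.val n) := by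
    intro c n
    rw [evalₐ_complMap, evalₐ_mk, Ideal.quotientMap_mk]
    rfl
  constructor
  · rw [injective_iff_map_eq_zero]
    intro x hx
    obtain ⟨c, rfl⟩ := AdicCompletion.mk_surjective I S x
    apply AdicCompletion.ext_evalₐ
    intro n
    rw [evalₐ_mk, _root_.map_zero, Ideal.Quotient.eq_zero_iff_mem]
    have h1 : c.val (n * (N + 1)) ∈ K ^ (n * (N + 1)) := by
      have := hev c (n * (N + 1))
      rw [hx, _root_.map_zero] at this
      exact Ideal.Quotient.eq_zero_iff_mem.1 this.symm
    have h2 := cauchy_mem I (c := c) (hle n)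
    have : c.val n = (c.val n - c.val (n * (N + 1))) + c.val (n * (N + 1)) := by ring
    rw [this]
    exact (I ^ n).add_mem h2 (hpow n h1)
  · intro y
    obtain ⟨d, rfl⟩ := AdicCompletion.mk_surjective K S y
    have hc : ∀ {m n : ℕ}, m ≤ n →
        d.val (m * (N + 1)) ≡ d.val (n * (N + 1)) [SMOD (I ^ m • ⊤ : Submodule S S)] := by
      intro m n hmn
      rw [SModEq.sub_mem]
      simp only [smul_eq_mul, Ideal.mul_top]
      exact hpow m (cauchy_mem K (c := d) (Nat.mul_le_mul_right _ hmn))
    refine ⟨AdicCompletion.mk I S ⟨fun n => d.val (n * (N + 1)), hc⟩, ?_⟩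
    apply AdicCompletion.ext_evalₐ
    intro n
    rw [hev, evalₐ_mk]
    show Ideal.Quotient.mk (K ^ n) (d.val (n * (N + 1))) = _
    rw [Ideal.Quotient.eq]
    have := cauchy_mem K (c := d) (hle n)
    rw [← neg_sub]; exact (K ^ n).neg_mem this

end TwoIdeals

section Eval

variable {A : Type u} [CommRing A] (I : Ideal A)

theorem evalₐ_eq_zero_of_mem_map_pow (n : ℕ) (r : AdicCompletion I A)
    (hr : r ∈ (I.map (algebraMap A (AdicCompletion I A))) ^ n) : evalₐ I n r = 0 := by
  rw [← Ideal.map_pow] at hr
  have hle : (I ^ n).map (algebraMap A (AdicCompletion I A)) ≤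
      RingHom.ker (evalₐ I n).toRingHom := by
    rw [Ideal.map_le_iff_le_comap]
    intro a ha
    rw [Ideal.mem_comap, RingHom.mem_ker]
    show evalₐ I n (algebraMap A _ a) = 0
    rw [AlgHom.commutes, Ideal.Quotient.algebraMap_eq, Ideal.Quotient.eq_zero_iff_mem]
    exact ha
  exact hle hr

theorem mem_map_of_evalₐ_eq_zero (fg : I.FG) (n : ℕ) (x : AdicCompletion I A)
    (hx : evalₐ I n x = 0) : x ∈ (I ^ n).map (algebraMap A (AdicCompletion I A)) := by
  have h1 : x ∈ (I ^ n • ⊤ : Submodule A (AdicCompletion I A)) := by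
    rw [AdicCompletion.pow_smul_top_eq_ker_eval fg, LinearMap.mem_ker,
      ← factor_evalₐ_eq_eval I x (le_of_eq (Ideal.mul_top _).symm), hx, _root_.map_zero]
  rw [Ideal.smul_top_eq_map] at h1
  exact h1

end Eval

section Local

variable {R S : Type u} [CommRing R] [CommRing S] [IsLocalRing R] [IsLocalRing S] [Algebra R S]
  [IsLocalHom (algebraMap R S)]

open IsLocalRing TensorProduct

theorem finite_quotient
    (hfib : Module.Finite (maximalIdeal R).ResidueField ((maximalIdeal R).Fiber S)) :
    Module.Finite R (S ⧸ (maximalIdeal R).map (algebraMap R S)) := by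
  haveI := hfib
  haveI : Module.Finite R ((maximalIdeal R).Fiber S) :=
    Module.Finite.trans (maximalIdeal R).ResidueField _
  let e1 : (R ⧸ maximalIdeal R) ≃ₗ[R] (maximalIdeal R).ResidueField :=
    LinearEquiv.ofBijective
      (IsScalarTower.toAlgHom R (R ⧸ maximalIdeal R) (maximalIdeal R).ResidueField).toLinearMap
      (Ideal.bijective_algebraMap_quotient_residueField (maximalIdeal R))
  let e2 : (maximalIdeal R).Fiber S ≃ₗ[R] (R ⧸ maximalIdeal R) ⊗[R] S :=
    TensorProduct.congr e1.symm (LinearEquiv.refl R S)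
  let e3 := TensorProduct.quotTensorEquivQuotSMul S (maximalIdeal R)
  let e4 : (S ⧸ (maximalIdeal R • ⊤ : Submodule R S)) ≃ₗ[R]
      (S ⧸ ((maximalIdeal R).map (algebraMap R S)).restrictScalars R) :=
    Submodule.quotEquivOfEq _ _ (Ideal.smul_top_eq_map (maximalIdeal R))
  let e5 := Submodule.Quotient.restrictScalarsEquiv R ((maximalIdeal R).map (algebraMap R S))
  exact Module.Finite.equiv (e2.trans (e3.trans (e4.trans e5)))

theorem exists_pow_le
    (hfib : Module.Finite (maximalIdeal R).ResidueField ((maximalIdeal R).Fiber S)) :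
    ∃ N : ℕ, maximalIdeal S ^ N ≤ (maximalIdeal R).map (algebraMap R S) := by
  haveI := finite_quotient hfib
  set J := (maximalIdeal R).map (algebraMap R S) with hJ
  haveI : Module.Finite (R ⧸ maximalIdeal R) (S ⧸ J) :=
    Module.Finite.of_restrictScalars_finite R (R ⧸ maximalIdeal R) (S ⧸ J)
  letI : Field (R ⧸ maximalIdeal R) := Ideal.Quotient.field (maximalIdeal R)
  haveI : IsArtinianRing (S ⧸ J) := IsArtinianRing.of_finite (R ⧸ maximalIdeal R) (S ⧸ J)
  obtain ⟨N, hN⟩ := IsArtinianRing.isNilpotent_jacobson_bot (R := S ⧸ J)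
  refine ⟨N, ?_⟩
  have hle : (maximalIdeal S).map (Ideal.Quotient.mk J) ≤ Ideal.jacobson ⊥ := by
    rw [Ideal.map_le_iff_le_comap]
    intro x hx
    rw [Ideal.mem_comap, Ideal.mem_jacobson_bot]
    intro y
    obtain ⟨y, rfl⟩ := Ideal.Quotient.mk_surjective y
    rw [← map_mul, ← map_one (Ideal.Quotient.mk J), ← map_add]
    apply IsUnit.map
    have hxy : x * y ∈ maximalIdeal S := Ideal.mul_mem_right _ _ hx
    by_contra hu
    have h1 : x * y + 1 ∈ maximalIdeal S := (IsLocalRing.mem_maximalIdeal _).2 hu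
    have h2 : (1 : S) ∈ maximalIdeal S := by
      have := (maximalIdeal S).sub_mem h1 hxy
      simpa using this
    exact (Ideal.ne_top_iff_one (maximalIdeal S)).1
      (IsLocalRing.maximalIdeal.isMaximal S).ne_top h2
  have h3 : ((maximalIdeal S) ^ N).map (Ideal.Quotient.mk J) = ⊥ := by
    rw [Ideal.map_pow, ← le_bot_iff, ← Ideal.zero_eq_bot, ← hN]
    exact Ideal.pow_right_mono hle N
  rw [Ideal.map_eq_bot_iff_le_ker, Ideal.mk_ker] at h3
  exact h3

theorem complMap_finite (hm : (maximalIdeal R).FG) (hn : (maximalIdeal S).FG)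
    (hfib : Module.Finite (maximalIdeal R).ResidueField ((maximalIdeal R).Fiber S))
    (h : (maximalIdeal R).map (algebraMap R S) ≤ maximalIdeal S) :
    (FSch.complMap (maximalIdeal R) (maximalIdeal S) (algebraMap R S) h).Finite := by
  classical
  set φ := FSch.complMap (maximalIdeal R) (maximalIdeal S) (algebraMap R S) h with hφ
  letI : Algebra (AdicCompletion (maximalIdeal R) R) (AdicCompletion (maximalIdeal S) S) :=
    φ.toAlgebra
  suffices key : Module.Finite (AdicCompletion (maximalIdeal R) R)
      (AdicCompletion (maximalIdeal S) S) from key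
  set I : Ideal (AdicCompletion (maximalIdeal R) R) :=
    (maximalIdeal R).map (algebraMap R (AdicCompletion (maximalIdeal R) R)) with hI
  haveI : IsAdicComplete I (AdicCompletion (maximalIdeal R) R) :=
    AdicCompletion.isAdicComplete_self (maximalIdeal R) hm
  have hφof : ∀ a : R, φ (algebraMap R _ a) =
      algebraMap S (AdicCompletion (maximalIdeal S) S) (algebraMap R S a) := by
    intro a
    apply AdicCompletion.ext_evalₐ
    intro n
    rw [hφ, evalₐ_complMap, AlgHom.commutes, AlgHom.commutes]
    rfl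
  have hJ : I.map φ = ((maximalIdeal R).map (algebraMap R S)).map
      (algebraMap S (AdicCompletion (maximalIdeal S) S)) := by
    rw [hI, Ideal.map_map, Ideal.map_map]
    exact congrArg (fun f => Ideal.map f (maximalIdeal R)) (RingHom.ext hφof)
  obtain ⟨N, hN⟩ := exists_pow_le hfib
  haveI : IsHausdorff I (AdicCompletion (maximalIdeal S) S) := by
    refine ⟨fun x hx => ?_⟩
    apply AdicCompletion.ext_evalₐ
    intro n
    rw [_root_.map_zero]
    have h1 := hx n
    rw [SModEq.zero] at h1
    refine Submodule.smul_induction_on h1 ?_ ?_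
    · intro r hr y _
      rw [Algebra.smul_def, map_mul]
      have : evalₐ (maximalIdeal S) n (algebraMap _ _ r) = 0 := by
        show evalₐ (maximalIdeal S) n (φ r) = 0
        rw [hφ, evalₐ_complMap, evalₐ_eq_zero_of_mem_map_pow (maximalIdeal R) n r hr, _root_.map_zero]
      rw [this, zero_mul]
    · intro y z hy hz
      rw [map_add, hy, hz, add_zero]
  apply Groth.Agent.Lib.CompleteNoethLead.finite_of_hausdorff I
  haveI hfin := finite_quotient hfib
  obtain ⟨k, q, hq⟩ := Module.Finite.exists_fin (R := R)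
    (M := S ⧸ (maximalIdeal R).map (algebraMap R S))
  choose s hs using fun i => Ideal.Quotient.mk_surjective (q i)
  have hS : ∀ t : S, ∃ c : Fin k → R,
      t - ∑ i, algebraMap R S (c i) * s i ∈ (maximalIdeal R).map (algebraMap R S) := by
    intro t
    have : Ideal.Quotient.mk ((maximalIdeal R).map (algebraMap R S)) t ∈
        Submodule.span R (Set.range q) := by rw [hq]; trivial
    obtain ⟨c, hc⟩ := (Submodule.mem_span_range_iff_exists_fun R).1 this
    refine ⟨c, ?_⟩
    rw [← Ideal.Quotient.eq, ← hc, map_sum]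
    refine Finset.sum_congr rfl fun i _ => ?_
    rw [map_mul, hs, Algebra.smul_def]
    rfl
  have hI' : (I • ⊤ : Submodule (AdicCompletion (maximalIdeal R) R)
      (AdicCompletion (maximalIdeal S) S)) = (I.map φ).restrictScalars _ :=
    Ideal.smul_top_eq_map I
  have hmemJ : ∀ x : AdicCompletion (maximalIdeal S) S, x ∈ I.map φ →
      x ∈ (I • ⊤ : Submodule (AdicCompletion (maximalIdeal R) R)
        (AdicCompletion (maximalIdeal S) S)) := by
    intro x hx; rw [hI']; exact hx
  refine ⟨⟨Finset.univ.image fun i => Submodule.mkQ _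
    (algebraMap S (AdicCompletion (maximalIdeal S) S) (s i)), ?_⟩⟩
  rw [Finset.coe_image, Finset.coe_univ, Set.image_univ, eq_top_iff]
  rintro x -
  obtain ⟨y, rfl⟩ := Submodule.mkQ_surjective _ x
  obtain ⟨t, ht⟩ := Ideal.Quotient.mk_surjective (evalₐ (maximalIdeal S) N y)
  have e1 : y - algebraMap S _ t ∈ (I • ⊤ : Submodule (AdicCompletion (maximalIdeal R) R)
      (AdicCompletion (maximalIdeal S) S)) := by
    apply hmemJ
    rw [hJ]
    have h0 : evalₐ (maximalIdeal S) N (y - algebraMap S _ t) = 0 := by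
      rw [map_sub, AlgHom.commutes, ← ht, Ideal.Quotient.algebraMap_eq, sub_self]
    exact Ideal.map_mono hN (mem_map_of_evalₐ_eq_zero (maximalIdeal S) hn N _ h0)
  obtain ⟨c, hc⟩ := hS t
  have e2 : algebraMap S (AdicCompletion (maximalIdeal S) S)
      (t - ∑ i, algebraMap R S (c i) * s i) ∈
      (I • ⊤ : Submodule (AdicCompletion (maximalIdeal R) R)
        (AdicCompletion (maximalIdeal S) S)) := by
    apply hmemJ; rw [hJ]; exact Ideal.mem_map_of_mem _ hc
  have e3 : algebraMap S (AdicCompletion (maximalIdeal S) S)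
      (∑ i, algebraMap R S (c i) * s i) =
      ∑ i, (algebraMap R (AdicCompletion (maximalIdeal R) R) (c i)) •
        algebraMap S (AdicCompletion (maximalIdeal S) S) (s i) := by
    rw [map_sum]
    refine Finset.sum_congr rfl fun i _ => ?_
    rw [map_mul, ← hφof, Algebra.smul_def]
    rfl
  have e4 : y = (y - algebraMap S _ t) + algebraMap S (AdicCompletion (maximalIdeal S) S)
      (t - ∑ i, algebraMap R S (c i) * s i) +
      ∑ i, (algebraMap R (AdicCompletion (maximalIdeal R) R) (c i)) •
        algebraMap S (AdicCompletion (maximalIdeal S) S) (s i) := by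
    rw [← e3, map_sub]; ring
  rw [e4, map_add, map_add, Submodule.mkQ_apply, Submodule.mkQ_apply,
    (Submodule.Quotient.mk_eq_zero _).2 e1, (Submodule.Quotient.mk_eq_zero _).2 e2, zero_add,
    zero_add, map_sum]
  refine Submodule.sum_mem _ fun i _ => ?_
  rw [map_smul]
  exact Submodule.smul_mem _ _ (Submodule.subset_span ⟨i, rfl⟩)

end Local

end Groth.Agent.Lib.ComplFinFibH3
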