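import Mathlib
import Groth.Prelude.Def_W4c5adicflatcomplDec
import Groth.Agent.Lib.Decaying2_helper3

/-!
Helper library (helper3): flatness of decaying functions; adic generation.
-/

set_option autoImplicit false

namespace Groth.Agent.Lib.Decaying3_helper3

open W4c5adicflatcompl Groth.Agent.Lib.Decaying_helper3 Groth.Agent.Lib.Decaying2_helper3

section flat

variable {A : Type*} [CommRing A] {I : Ideal A} {Z : Type*}

theorem flat_decaying [IsNoetherianRing A] [IsAdicComplete I A] :
    Module.Flat A (decaying I Z A) := by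
  classical
  apply Module.Flat.of_forall_isTrivialRelation
  intro l f x hfx
  let dot : (Fin l → A) →ₗ[A] A := ∑ i, f i • LinearMap.proj i
  have hdot : ∀ v : Fin l → A, dot v = ∑ i, f i * v i := by
    intro v
    simp [dot, LinearMap.sum_apply]
  have hxz : ∀ z, ∑ i, f i * (x i : Z → A) z = 0 := by
    intro z
    have h1 := congrArg (fun g : decaying I Z A => (g : Z → A) z) hfx
    simp only [coe_sum_apply] at h1
    simpa using h1
  let d : Z → LinearMap.ker dot := fun z => ⟨fun i => (x i : Z → A) z, by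
    rw [LinearMap.mem_ker, hdot]
    exact hxz z⟩
  have hd : (fun z => ((d z : LinearMap.ker dot) : Fin l → A)) ∈ decaying I Z (Fin l → A) := by
    intro n
    refine (Set.finite_iUnion fun i => (x i).2 n).subset ?_
    intro z hz
    by_contra hcon
    apply hz
    have hall : ∀ i, (x i : Z → A) z ∈ (I ^ n • ⊤ : Submodule A A) := by
      intro i
      by_contra h
      exact hcon (Set.mem_iUnion.mpr ⟨i, h⟩)
    have h2 : ((d z : LinearMap.ker dot) : Fin l → A) =
        ∑ i, (x i : Z → A) z • (Pi.single i 1 : Fin l → A) := by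
      funext j
      simp [d, Finset.sum_apply, Pi.single_apply]
    show ((d z : LinearMap.ker dot) : Fin l → A) ∈ (I ^ n • ⊤ : Submodule A (Fin l → A))
    rw [h2]
    exact Submodule.sum_mem _ fun i _ => smul_mem_smul_top_of_mem _ (hall i) _
  have hd' : d ∈ decaying I Z (LinearMap.ker dot) :=
    (mem_decaying_submodule_iff (LinearMap.ker dot) d).mpr hd
  obtain ⟨s, φ, hφ⟩ := Module.Finite.exists_fin' A (LinearMap.ker dot)
  obtain ⟨c, hc, hcd⟩ := exists_decaying_lift φ hφ d hd'
  let e : Fin s → (Fin s → A) := fun j k => if j = k then 1 else 0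
  refine ⟨s, fun i j => ((φ (e j) : LinearMap.ker dot) : Fin l → A) i,
    fun j => ⟨fun z => c z j, comp_mem_decaying (LinearMap.proj j) hc⟩, ?_, ?_⟩
  · intro i
    apply Subtype.ext
    funext z
    rw [coe_sum_apply]
    have h1 : (x i : Z → A) z = ((φ (c z) : LinearMap.ker dot) : Fin l → A) i := by
      rw [hcd z]
    rw [h1, LinearMap.pi_apply_eq_sum_univ φ (c z), Submodule.coe_sum, Finset.sum_apply]
    refine Finset.sum_congr rfl fun j _ => ?_
    simp only [Submodule.coe_smul, Pi.smul_apply, smul_eq_mul]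
    exact mul_comm _ _
  · intro j
    have := (φ (e j)).2
    rw [LinearMap.mem_ker, hdot] at this
    exact this

end flat

section gen

variable {A : Type*} [CommRing A] {I : Ideal A} {Z : Type*} {M : Type*} [AddCommGroup M]
  [Module A M]

theorem HasDSum.sub_sum_mem {u : Z → M} {x : M} (hx : HasDSum I u x) (n : ℕ) (T : Finset Z)
    (hT : ∀ z, z ∉ T → u z ∈ (I ^ n • ⊤ : Submodule A M)) :
    x - ∑ z ∈ T, u z ∈ (I ^ n • ⊤ : Submodule A M) := by
  classical
  obtain ⟨S, hS⟩ := hx n
  have h1 := hS (S ∪ T) Finset.subset_union_left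
  have h2 : ∑ z ∈ S ∪ T, u z - ∑ z ∈ T, u z ∈ (I ^ n • ⊤ : Submodule A M) := by
    rw [← Finset.sum_sdiff (Finset.subset_union_right : T ⊆ S ∪ T), add_sub_cancel_right]
    exact Submodule.sum_mem _ fun z hz => hT z (Finset.mem_sdiff.mp hz).2
  have : x - ∑ z ∈ T, u z = (x - ∑ z ∈ S ∪ T, u z) + (∑ z ∈ S ∪ T, u z - ∑ z ∈ T, u z) := by
    abel
  rw [this]
  exact Submodule.add_mem _ h1 h2

theorem pow_smul_top_le_of_span_sup (m : Z → M)
    (h : Submodule.span A (Set.range m) ⊔ I • ⊤ = ⊤) (n : ℕ) :
    (I ^ n • ⊤ : Submodule A M) ≤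
      I ^ n • Submodule.span A (Set.range m) ⊔ I ^ (n + 1) • ⊤ := by
  conv_lhs => rw [← h]
  rw [Submodule.smul_sup, ← Submodule.mul_smul, ← pow_succ]

theorem exists_finsupp_approx (m : Z → M)
    (h : Submodule.span A (Set.range m) ⊔ I • ⊤ = ⊤) (n : ℕ) (y : M)
    (hy : y ∈ (I ^ n • ⊤ : Submodule A M)) :
    ∃ c : Z →₀ A, (∀ z, c z ∈ I ^ n) ∧
      y - (c.sum fun z a => a • m z) ∈ (I ^ (n + 1) • ⊤ : Submodule A M) := by
  have h1 := pow_smul_top_le_of_span_sup m h n hy
  obtain ⟨y1, hy1, y2, hy2, rfl⟩ := Submodule.mem_sup.mp h1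
  obtain ⟨c, hc, hcy⟩ := (Submodule.mem_ideal_smul_span_iff_exists_sum _ m y1).mp hy1
  refine ⟨c, hc, ?_⟩
  rw [hcy, add_sub_cancel_left]
  exact hy2

/-- Adic generation: the family generates modulo `I` iff every element is an adically
convergent combination with decaying coefficients. -/
theorem span_sup_eq_top_iff [IsAdicComplete I A] [IsAdicComplete I M] (m : Z → M) :
    Submodule.span A (Set.range m) ⊔ I • ⊤ = ⊤ ↔
      ∀ x : M, ∃ g : Z → A, g ∈ decaying I Z A ∧ HasDSum I (fun z => g z • m z) x := by
  classical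
  constructor
  · intro h x
    choose c hc1 hc2 using exists_finsupp_approx m h
    let Y : ∀ n, {y : M // y ∈ (I ^ n • ⊤ : Submodule A M)} := fun n =>
      Nat.rec (motive := fun n => {y : M // y ∈ (I ^ n • ⊤ : Submodule A M)})
        ⟨x, by simp⟩
        (fun n yn => ⟨yn.1 - ((c n yn.1 yn.2).sum fun z a => a • m z), hc2 n yn.1 yn.2⟩) n
    let C : ℕ → (Z →₀ A) := fun n => c n (Y n).1 (Y n).2
    have hY0 : (Y 0).1 = x := rfl
    have hYsucc : ∀ n, (Y (n + 1)).1 = (Y n).1 - ((C n).sum fun z a => a • m z) := fun n => rfl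
    have hC : ∀ n z, C n z ∈ I ^ n := fun n z => hc1 n _ _ z
    have hxY : ∀ n, x - (Y n).1 = ∑ k ∈ Finset.range n, ((C k).sum fun z a => a • m z) := by
      intro n
      induction n with
      | zero => simp [hY0]
      | succ n ih =>
        rw [Finset.sum_range_succ, ← ih, hYsucc]
        abel
    -- the coefficient function
    have hdecN : ∀ z, (fun n => C n z) ∈ decaying I ℕ A := by
      intro z k
      refine (Finset.range k).finite_toSet.subset ?_
      intro n hn
      simp only [Finset.coe_range, Set.mem_Iio]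
      by_contra hge
      push Not at hge
      apply hn
      rw [mem_smul_top_self_iff]
      exact Ideal.pow_le_pow_right hge (hC n z)
    let g : Z → A := fun z => dsum I ℕ A ⟨fun n => C n z, hdecN z⟩
    have hg : ∀ z n, g z - ∑ k ∈ Finset.range n, C k z ∈ I ^ n := by
      intro z n
      have h1 := HasDSum.sub_sum_mem (hasDSum_dsum (I := I) ⟨fun n => C n z, hdecN z⟩) n
        (Finset.range n) (by
          intro k hk
          simp only [Finset.mem_range, not_lt] at hk
          rw [mem_smul_top_self_iff]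
          exact Ideal.pow_le_pow_right hk (hC k z))
      exact (mem_smul_top_self_iff _ _).mp h1
    let S : ℕ → Finset Z := fun n => (Finset.range n).biUnion fun k => (C k).support
    have hS : ∀ n z, z ∉ S n → ∀ k, k < n → C k z = 0 := by
      intro n z hz k hk
      by_contra hne
      apply hz
      rw [Finset.mem_biUnion]
      exact ⟨k, Finset.mem_range.mpr hk, Finsupp.mem_support_iff.mpr hne⟩
    have hgS : ∀ n z, z ∉ S n → g z ∈ I ^ n := by
      intro n z hz
      have h1 := hg z n
      have h2 : ∑ k ∈ Finset.range n, C k z = 0 :=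
        Finset.sum_eq_zero fun k hk => hS n z hz k (Finset.mem_range.mp hk)
      rwa [h2, sub_zero] at h1
    have hgdec : g ∈ decaying I Z A := by
      intro n
      refine (S n).finite_toSet.subset ?_
      intro z hz
      by_contra hzS
      apply hz
      rw [mem_smul_top_self_iff]
      exact hgS n z hzS
    refine ⟨g, hgdec, HasDSum.of_tail fun n => ⟨S n, fun z hz => ?_, ?_⟩⟩
    · exact smul_mem_smul_top_of_mem _ ((mem_smul_top_self_iff _ _).mpr (hgS n z hz)) _
    · have h1 : ∑ z ∈ S n, (∑ k ∈ Finset.range n, C k z) • m z = x - (Y n).1 := by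
        rw [hxY n]
        simp_rw [Finset.sum_smul]
        rw [Finset.sum_comm]
        refine Finset.sum_congr rfl fun k hk => ?_
        have hsub : (C k).support ⊆ S n := by
          intro z hz
          rw [Finset.mem_biUnion]
          exact ⟨k, hk, hz⟩
        exact (Finsupp.sum_of_support_subset (C k) hsub (fun z a => a • m z)
          (fun z _ => zero_smul _ _)).symm
      have h2 : x - ∑ z ∈ S n, g z • m z =
          (Y n).1 - ∑ z ∈ S n, (g z - ∑ k ∈ Finset.range n, C k z) • m z := by
        simp_rw [sub_smul]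
        rw [Finset.sum_sub_distrib, h1]
        abel
      rw [h2]
      refine Submodule.sub_mem _ (Y n).2 (Submodule.sum_mem _ fun z _ => ?_)
      exact smul_mem_smul_top_of_mem _ ((mem_smul_top_self_iff _ _).mpr (hg z n)) _
  · intro h
    rw [eq_top_iff]
    intro x _
    obtain ⟨g, _, hgx⟩ := h x
    obtain ⟨S, _, hS2⟩ := hgx.tail 1
    rw [pow_one] at hS2
    have : x = ∑ z ∈ S, g z • m z + (x - ∑ z ∈ S, g z • m z) := by abel
    rw [this]
    refine Submodule.add_mem_sup (Submodule.sum_mem _ fun z _ => ?_) hS2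
    exact Submodule.smul_mem _ _ (Submodule.subset_span ⟨z, rfl⟩)

end gen

end Groth.Agent.Lib.Decaying3_helper3
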