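import Mathlib
import Groth.Prelude.Def_W4c5adicflatcomplDec
import Groth.Agent.Lib.Decaying3_helper3

/-!
Helper library (helper3): tensor product description of decaying functions into a finite module.
-/

set_option autoImplicit false

namespace Groth.Agent.Lib.Decaying4_helper3

open W4c5adicflatcompl Groth.Agent.Lib.Decaying_helper3 Groth.Agent.Lib.Decaying2_helper3
  Groth.Agent.Lib.Decaying3_helper3

open scoped TensorProduct

section tensor

variable {A : Type*} [CommRing A] {I : Ideal A} {Z : Type*} {M : Type*} [AddCommGroup M]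
  [Module A M]

theorem pi_mem_decaying {r : ℕ} (v : Z → (Fin r → A))
    (hv : ∀ j, (fun z => v z j) ∈ decaying I Z A) : v ∈ decaying I Z (Fin r → A) := by
  classical
  intro n
  refine (Set.finite_iUnion fun j => hv j n).subset ?_
  intro z hz
  by_contra hcon
  apply hz
  have hall : ∀ j, v z j ∈ (I ^ n • ⊤ : Submodule A A) := by
    intro j
    by_contra h
    exact hcon (Set.mem_iUnion.mpr ⟨j, h⟩)
  have h2 : v z = ∑ j, v z j • (Pi.single j 1 : Fin r → A) := by
    funext k
    simp [Finset.sum_apply, Pi.single_apply]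
  rw [h2]
  exact Submodule.sum_mem _ fun j _ => smul_mem_smul_top_of_mem _ (hall j) _

variable (I Z M) in
/-- The canonical map `M ⊗ decaying(Z, A) → (Z → M)`. -/
noncomputable def tensorMap : M ⊗[A] (decaying I Z A) →ₗ[A] (Z → M) :=
  (TensorProduct.piScalarRightHom A A M Z) ∘ₗ ((decaying I Z A).subtype.lTensor M)

theorem tensorMap_tmul (m : M) (c : decaying I Z A) :
    tensorMap I Z M (m ⊗ₜ c) = fun z => (c : Z → A) z • m := by
  simp [tensorMap, TensorProduct.piScalarRightHom_tmul]

theorem tensorMap_sum_tmul {r : ℕ} (mm : Fin r → M) (c : Fin r → decaying I Z A) (z : Z) :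
    tensorMap I Z M (∑ j, mm j ⊗ₜ c j) z = ∑ j, (c j : Z → A) z • mm j := by
  rw [map_sum, Finset.sum_apply]
  refine Finset.sum_congr rfl fun j _ => ?_
  rw [tensorMap_tmul]

theorem exists_eq_sum_tmul {r : ℕ} (π : (Fin r → A) →ₗ[A] M) (hπ : Function.Surjective π)
    (t : M ⊗[A] (decaying I Z A)) :
    ∃ c : Fin r → decaying I Z A,
      t = ∑ j, π (fun k => if j = k then 1 else 0) ⊗ₜ c j := by
  induction t using TensorProduct.induction_on with
  | zero => exact ⟨fun _ => 0, by simp⟩
  | tmul m d =>
    obtain ⟨v, rfl⟩ := hπ m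
    refine ⟨fun j => v j • d, ?_⟩
    rw [LinearMap.pi_apply_eq_sum_univ π v, TensorProduct.sum_tmul]
    refine Finset.sum_congr rfl fun j _ => ?_
    rw [TensorProduct.smul_tmul]
  | add t t' ht ht' =>
    obtain ⟨c, rfl⟩ := ht
    obtain ⟨c', rfl⟩ := ht'
    refine ⟨fun j => c j + c' j, ?_⟩
    rw [← Finset.sum_add_distrib]
    refine Finset.sum_congr rfl fun j _ => ?_
    rw [TensorProduct.tmul_add]

theorem tensorMap_injective_and_range [IsNoetherianRing A] [IsAdicComplete I A]
    [Module.Finite A M] :
    Function.Injective (tensorMap I Z M) ∧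
      LinearMap.range (tensorMap I Z M) = decaying I Z M := by
  classical
  obtain ⟨r, π, hπ⟩ := Module.Finite.exists_fin' A M
  let mm : Fin r → M := fun j => π (fun k => if j = k then 1 else 0)
  have hπv : ∀ v : Fin r → A, π v = ∑ j, v j • mm j := fun v =>
    LinearMap.pi_apply_eq_sum_univ π v
  constructor
  · rw [injective_iff_map_eq_zero]
    intro t ht
    obtain ⟨c, rfl⟩ := exists_eq_sum_tmul π hπ t
    have hz : ∀ z, π (fun j => (c j : Z → A) z) = 0 := by
      intro z
      rw [hπv]
      have := congrFun ht z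
      rw [tensorMap_sum_tmul] at this
      exact this
    let d : Z → LinearMap.ker π := fun z => ⟨fun j => (c j : Z → A) z, by
      rw [LinearMap.mem_ker]; exact hz z⟩
    have hd : (fun z => ((d z : LinearMap.ker π) : Fin r → A)) ∈ decaying I Z (Fin r → A) :=
      pi_mem_decaying _ fun j => (c j).2
    have hd' : d ∈ decaying I Z (LinearMap.ker π) :=
      (mem_decaying_submodule_iff (LinearMap.ker π) d).mpr hd
    obtain ⟨s, φ, hφ⟩ := Module.Finite.exists_fin' A (LinearMap.ker π)
    obtain ⟨b, hb, hbd⟩ := exists_decaying_lift φ hφ d hd'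
    let kk : Fin s → LinearMap.ker π := fun l => φ (fun k => if l = k then 1 else 0)
    let B : Fin s → decaying I Z A := fun l =>
      ⟨fun z => b z l, comp_mem_decaying (LinearMap.proj l) hb⟩
    have hc : ∀ j, c j = ∑ l, ((kk l : LinearMap.ker π) : Fin r → A) j • B l := by
      intro j
      apply Subtype.ext
      funext z
      rw [coe_sum_apply]
      have h1 : (c j : Z → A) z = ((φ (b z) : LinearMap.ker π) : Fin r → A) j := by
        rw [hbd z]
      rw [h1, LinearMap.pi_apply_eq_sum_univ φ (b z), Submodule.coe_sum, Finset.sum_apply]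
      refine Finset.sum_congr rfl fun l _ => ?_
      simp only [Submodule.coe_smul, Pi.smul_apply, smul_eq_mul]
      exact mul_comm _ _
    have hkk : ∀ l, ∑ j, ((kk l : LinearMap.ker π) : Fin r → A) j • mm j = 0 := by
      intro l
      rw [← hπv]
      exact (kk l).2
    calc ∑ j, mm j ⊗ₜ[A] c j
        = ∑ j, ∑ l, (((kk l : LinearMap.ker π) : Fin r → A) j • mm j) ⊗ₜ[A] B l := by
          refine Finset.sum_congr rfl fun j _ => ?_
          rw [hc j, TensorProduct.tmul_sum]
          refine Finset.sum_congr rfl fun l _ => ?_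
          rw [TensorProduct.smul_tmul]
      _ = ∑ l, (∑ j, ((kk l : LinearMap.ker π) : Fin r → A) j • mm j) ⊗ₜ[A] B l := by
          rw [Finset.sum_comm]
          refine Finset.sum_congr rfl fun l _ => ?_
          rw [TensorProduct.sum_tmul]
      _ = 0 := by
          refine Finset.sum_eq_zero fun l _ => ?_
          rw [hkk l, TensorProduct.zero_tmul]
  · apply le_antisymm
    · rintro _ ⟨t, rfl⟩
      obtain ⟨c, rfl⟩ := exists_eq_sum_tmul π hπ t
      have : tensorMap I Z M (∑ j, mm j ⊗ₜ c j) =
          ((∑ j, smulFamily I (fun _ => mm j) (c j) : decaying I Z M) : Z → M) := by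
        funext z
        rw [tensorMap_sum_tmul, coe_sum_apply]
        rfl
      show tensorMap I Z M (∑ j, mm j ⊗ₜ c j) ∈ decaying I Z M
      rw [this]
      exact Subtype.property _
    · intro g hg
      obtain ⟨v, hv, hvg⟩ := exists_decaying_lift π hπ g hg
      refine ⟨∑ j, mm j ⊗ₜ (⟨fun z => v z j, comp_mem_decaying (LinearMap.proj j) hv⟩ :
        decaying I Z A), ?_⟩
      funext z
      rw [tensorMap_sum_tmul, ← hvg z, hπv]

end tensor

end Groth.Agent.Lib.Decaying4_helper3
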