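import Mathlib
import Groth.Prelude.Def_W4c5adicflatcomplDec
import Groth.Prelude.Def_CAlgX
import Groth.Agent.Lib.ComplFree_helper3
import Groth.Agent.Lib.Decaying4_helper3

set_option autoImplicit false
universe u v

/-!
# Universal injectivity of `(⊕ R)^ → ∏ R` over a complete Noetherian ring (helper3)
-/

namespace Groth.Agent.Lib.ComplFreeUIH3

open AdicCompletion W4c5adicflatcompl Groth.Agent.Lib.ComplFreeH3
  Groth.Agent.Lib.Decaying4_helper3

open scoped TensorProduct

section A

variable {R : Type u} [CommRing R] (I : Ideal R) (α : Type v)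

theorem tensorMap_rTensor_subtype {Q : Type*} [AddCommGroup Q] [Module R Q]
    (Q' : Submodule R Q) (t' : Q' ⊗[R] (decaying I α R)) (z : α) :
    tensorMap I α Q (Q'.subtype.rTensor (decaying I α R) t') z =
      ((tensorMap I α Q' t' z : Q') : Q) := by
  induction t' using TensorProduct.induction_on with
  | zero => simp
  | tmul q c =>
    rw [LinearMap.rTensor_tmul, tensorMap_tmul, tensorMap_tmul]
    rfl
  | add x y hx hy =>
    rw [map_add, map_add, map_add, Pi.add_apply, Pi.add_apply, hx, hy]
    rfl

theorem tensorMap_injective [IsNoetherianRing R] [IsAdicComplete I R]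
    (Q : Type*) [AddCommGroup Q] [Module R Q] :
    Function.Injective (tensorMap I α Q) := by
  rw [injective_iff_map_eq_zero]
  intro t ht
  obtain ⟨Q', hQ', hsub⟩ :=
    TensorProduct.exists_finite_submodule_left_of_setFinite ({t} : Set _) (Set.finite_singleton t)
  obtain ⟨t', rfl⟩ := hsub (Set.mem_singleton t)
  have h1 : tensorMap I α Q' t' = 0 := by
    funext z
    apply Subtype.ext
    rw [← tensorMap_rTensor_subtype, ht]
    rfl
  have h2 : t' = 0 :=
    (tensorMap_injective_and_range (I := I) (Z := α) (M := Q')).1
      (h1.trans (_root_.map_zero _).symm)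
  rw [h2, _root_.map_zero]

theorem lTensor_subtype_injective [IsNoetherianRing R] [IsAdicComplete I R]
    (Q : Type*) [AddCommGroup Q] [Module R Q] :
    Function.Injective ((decaying I α R).subtype.lTensor Q) := by
  have h := tensorMap_injective I α Q
  unfold tensorMap at h
  rw [LinearMap.coe_comp] at h
  exact Function.Injective.of_comp h

end A

section B

variable {R : Type u} [CommRing R] (I : Ideal R) [IsAdicComplete I R] (α : Type v)

theorem of_val_eq_zero_iff (r : R) (n : ℕ) :
    (AdicCompletion.of I R r).val n = 0 ↔ r ∈ (I ^ n • ⊤ : Submodule R R) := by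
  rw [AdicCompletion.of_apply, Submodule.mkQ_apply, Submodule.Quotient.mk_eq_zero]

/-- Coordinates in `R`. -/
noncomputable def psi : AdicCompletion I (α →₀ R) →ₗ[R] decaying I α R :=
  LinearMap.codRestrict _
    (LinearMap.pi fun a => (AdicCompletion.ofLinearEquiv I R).symm.toLinearMap ∘ₗ
      (coord I α a).restrictScalars R) (by
    intro x n
    refine (finite_coord_ne I α x n).subset ?_
    intro a ha
    simp only [Set.mem_setOf_eq] at ha ⊢
    intro h0
    apply ha
    rw [← of_val_eq_zero_iff]
    show (AdicCompletion.of I R ((AdicCompletion.ofLinearEquiv I R).symm (coord I α a x))).val n = 0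
    rw [AdicCompletion.of_ofLinearEquiv_symm]
    exact h0)

theorem of_psi_apply (x : AdicCompletion I (α →₀ R)) (a : α) :
    AdicCompletion.of I R (((psi I α x : decaying I α R) : α → R) a) = coord I α a x := by
  show AdicCompletion.of I R ((AdicCompletion.ofLinearEquiv I R).symm (coord I α a x)) = _
  rw [AdicCompletion.of_ofLinearEquiv_symm]

theorem psi_bijective : Function.Bijective (psi I α) := by
  constructor
  · rw [injective_iff_map_eq_zero]
    intro x hx
    apply eq_zero_of_coord_eq_zero
    intro a
    rw [← of_psi_apply, hx]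
    exact _root_.map_zero _
  · intro d
    have hd : ∀ n, {a | (AdicCompletion.of I R ((d : α → R) a)).val n ≠ 0}.Finite := by
      intro n
      refine (d.2 n).subset ?_
      intro a ha
      simp only [Set.mem_setOf_eq] at ha ⊢
      intro h0
      exact ha ((of_val_eq_zero_iff I _ n).2 h0)
    obtain ⟨x, hx⟩ := exists_of_finite I α (fun a => AdicCompletion.of I R ((d : α → R) a)) hd
    refine ⟨x, Subtype.ext (funext fun a => ?_)⟩
    have h1 := of_psi_apply I α x a
    rw [hx a] at h1
    exact (AdicCompletion.of_bijective I R).1 h1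

theorem universallyInjective [IsNoetherianRing R] (α : Type u) :
    CAlgX.UniversallyInjective R
      (LinearMap.pi fun a : α => AdicCompletion.map I (Finsupp.lapply a : (α →₀ R) →ₗ[R] R) :
        AdicCompletion I (α →₀ R) →ₗ[R] (α → AdicCompletion I R)) := by
  intro Q _ _
  set Φ : AdicCompletion I (α →₀ R) →ₗ[R] (α → AdicCompletion I R) :=
    (LinearMap.pi fun a : α => AdicCompletion.map I (Finsupp.lapply a : (α →₀ R) →ₗ[R] R) :
        AdicCompletion I (α →₀ R) →ₗ[R] (α → AdicCompletion I R)) with hΦ
  let κ : (α → AdicCompletion I R) →ₗ[R] (α → R) :=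
    (AdicCompletion.ofLinearEquiv I R).symm.toLinearMap.compLeft α
  let Ψ : AdicCompletion I (α →₀ R) ≃ₗ[R] decaying I α R :=
    LinearEquiv.ofBijective (psi I α) (psi_bijective I α)
  have h1 : κ ∘ₗ Φ = (decaying I α R).subtype ∘ₗ Ψ.toLinearMap := by
    apply LinearMap.ext
    intro x
    rfl
  have h2 : Function.Injective (((decaying I α R).subtype ∘ₗ Ψ.toLinearMap).rTensor Q) := by
    rw [LinearMap.rTensor_comp, LinearMap.coe_comp]
    refine Function.Injective.comp ?_ ?_
    · rw [← LinearMap.lTensor_inj_iff_rTensor_inj]
      exact lTensor_subtype_injective I α Q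
    · exact (LinearEquiv.rTensor Q Ψ).injective
  rw [← h1, LinearMap.rTensor_comp, LinearMap.coe_comp] at h2
  exact Function.Injective.of_comp h2

end B

end Groth.Agent.Lib.ComplFreeUIH3
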