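import Mathlib
import Groth.Agent.Lib.CompletionRegular_helper5
import Groth.Agent.Lib.Regular_helper5
import Groth.Agent.Lib.RegPS_helper3

set_option autoImplicit false
set_option linter.unusedVariables false
set_option linter.unusedTactic false
set_option linter.unreachableTactic false
set_option linter.unusedSectionVars false
set_option linter.style.haveILetI false
set_option maxHeartbeats 800000

universe u

open IsLocalRing

namespace Groth.Agent.Lib.ComplIsoRegH4

/-- A local map from a regular local ring, with trivial residue extension, equal dimensions and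
surjective cotangent map, induces an isomorphism on completions. -/
theorem main (A B : Type u) [CommRing A]
    [CommRing B] [IsRegularLocalRing A] [IsLocalRing B] [IsNoetherianRing B] (φ : A →+* B)
    [IsLocalHom φ]
    (hk : Function.Bijective (IsLocalRing.ResidueField.map φ))
    (hdim : ringKrullDim B = ringKrullDim A)
    (hcot : maximalIdeal B ≤ Ideal.map φ (maximalIdeal A) ⊔ maximalIdeal B ^ 2)
    (ψ : AdicCompletion (maximalIdeal A) A →+* AdicCompletion (maximalIdeal B) B)
    (hψ : ψ.comp (algebraMap A (AdicCompletion (maximalIdeal A) A)) =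
      (algebraMap B (AdicCompletion (maximalIdeal B) B)).comp φ) :
    Function.Bijective ψ := by
  have hAtop : maximalIdeal A ≠ ⊤ := Ideal.IsPrime.ne_top'
  have hBtop : maximalIdeal B ≠ ⊤ := Ideal.IsPrime.ne_top'
  have fgA : (maximalIdeal A).FG := IsNoetherian.noetherian _
  have fgB : (maximalIdeal B).FG := IsNoetherian.noetherian _
  haveI hlA : IsLocalRing (AdicCompletion (maximalIdeal A) A) :=
    Groth.Agent.RegularLib.isLocalRing_adicCompletion A _ hAtop
  haveI hnA : IsNoetherianRing (AdicCompletion (maximalIdeal A) A) :=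
    Groth.Agent.RegularLib.isNoetherianRing_adicCompletion A _
  haveI hlB : IsLocalRing (AdicCompletion (maximalIdeal B) B) :=
    Groth.Agent.RegularLib.isLocalRing_adicCompletion B _ hBtop
  haveI hnB : IsNoetherianRing (AdicCompletion (maximalIdeal B) B) :=
    Groth.Agent.RegularLib.isNoetherianRing_adicCompletion B _
  have hrA : IsRegularLocalRing (AdicCompletion (maximalIdeal A) A) :=
    (Groth.Agent.RegularLib.isRegularLocalRing_adicCompletion_iff A _ hAtop).mp inferInstance
  haveI hdA : IsDomain (AdicCompletion (maximalIdeal A) A) :=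
    @Groth.Agent.RegularLib.isDomain _ _ hrA
  have hmapA := Groth.Agent.RegularLib.map_maximalIdeal_adicCompletion A (maximalIdeal A) hAtop
  have hmapB := Groth.Agent.RegularLib.map_maximalIdeal_adicCompletion B (maximalIdeal B) hBtop
  have hmB : maximalIdeal B = Ideal.map φ (maximalIdeal A) := by
    apply le_antisymm
    · refine Submodule.le_of_le_smul_of_le_jacobson_bot fgB
        (IsLocalRing.jacobson_eq_maximalIdeal ⊥ bot_ne_top).ge ?_
      rw [smul_eq_mul, ← sq]
      exact hcot
    · have hloc : IsLocalHom φ := inferInstance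
      exact ((IsLocalRing.local_hom_TFAE φ).out 0 2).mp hloc
  have hmapψ : Ideal.map ψ (maximalIdeal (AdicCompletion (maximalIdeal A) A)) =
      maximalIdeal (AdicCompletion (maximalIdeal B) B) := by
    rw [← hmapA, Ideal.map_map, hψ, ← Ideal.map_map, ← hmB, hmapB]
  haveI hcA : IsAdicComplete (maximalIdeal (AdicCompletion (maximalIdeal A) A))
      (AdicCompletion (maximalIdeal A) A) := by
    rw [← hmapA]
    exact AdicCompletion.isAdicComplete_self _ fgA
  haveI hcB : IsAdicComplete (maximalIdeal (AdicCompletion (maximalIdeal B) B))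
      (AdicCompletion (maximalIdeal B) B) := by
    rw [← hmapB]
    exact AdicCompletion.isAdicComplete_self _ fgB
  haveI hH : IsHausdorff (Ideal.map ψ (maximalIdeal (AdicCompletion (maximalIdeal A) A)))
      (AdicCompletion (maximalIdeal B) B) := by
    rw [hmapψ]
    infer_instance
  have hsurjq : Function.Surjective ((Ideal.Quotient.mk
      (Ideal.map ψ (maximalIdeal (AdicCompletion (maximalIdeal A) A)))).comp ψ) := by
    intro z
    obtain ⟨y, rfl⟩ := Ideal.Quotient.mk_surjective z
    obtain ⟨abar, habar⟩ := hk.2 (AdicCompletion.evalOneₐ (maximalIdeal B) y)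
    obtain ⟨a, rfl⟩ := IsLocalRing.residue_surjective abar
    refine ⟨algebraMap A _ a, ?_⟩
    rw [RingHom.comp_apply, Ideal.Quotient.eq, hmapψ, ← hmapB,
      ← AdicCompletion.ker_evalOneₐ_eq_map _ fgB, RingHom.mem_ker, map_sub]
    have h1 : ψ (algebraMap A _ a) = algebraMap B _ (φ a) := RingHom.congr_fun hψ a
    rw [h1, sub_eq_zero]
    rw [IsLocalRing.ResidueField.map_residue] at habar
    show (AdicCompletion.evalOneₐ (maximalIdeal B)) (algebraMap B _ (φ a)) =
      (AdicCompletion.evalOneₐ (maximalIdeal B)) y
    rw [← habar, AlgHom.commutes]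
    rfl
  have hsurj : Function.Surjective ψ := surjective_of_mk_map_comp_surjective ψ hsurjq
  have hd : (((maximalIdeal A).spanFinrank : ℕ) : WithBot ℕ∞) = ringKrullDim A :=
    IsRegularLocalRing.spanFinrank_maximalIdeal
  have hdimA : ringKrullDim (AdicCompletion (maximalIdeal A) A) = ringKrullDim A :=
    Groth.Agent.RegularLib.ringKrullDim_adicCompletion A _ hAtop
  have hdimB : ringKrullDim (AdicCompletion (maximalIdeal B) B) = ringKrullDim B :=
    Groth.Agent.RegularLib.ringKrullDim_adicCompletion B _ hBtop
  refine ⟨Groth.Agent.Lib.RegPSH3.injective_of_surjective_of_dim ψ hsurj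
    (maximalIdeal A).spanFinrank ?_ ?_, hsurj⟩
  · exact (hdimA.trans hd.symm).le
  · exact (hd.trans (hdim.symm.trans hdimB.symm)).le

end Groth.Agent.Lib.ComplIsoRegH4
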