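import Mathlib
import Groth.Agent.Lib.PSEval_helper1
import Groth.Agent.Lib.AdicRetract_helper9

/-!
# Tools for rings of invariants in complete local rings (helper3)

* `exists_algHom_X'` : universe-polymorphic existence of `Λ[[T]] → R`, `T_i ↦ x_i ∈ 𝔪_R`;
* `algHom_ext_of_hausdorff` : such a map is determined by the images of the variables;
* `isIntegrallyClosed_fixedPoints` : invariants of a normal domain are normal;
* `isAdicComplete_of_finite` : finite modules over complete Noetherian rings are complete;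
* `isAdicComplete_of_le_of_pow_le` : completeness only depends on the topology.
-/

set_option autoImplicit false
universe u v

namespace Groth.Agent.Lib.InvCompleteH3

open IsLocalRing MvPowerSeries

section PS

variable {Λ : Type*} {R : Type*} [CommRing Λ] [CommRing R] [IsLocalRing R] [Algebra Λ R]

/-- existence of the `Λ`-algebra map `Λ[[T]] → R`, `T_i ↦ x_i ∈ 𝔪_R` -/
theorem exists_algHom_X' [IsAdicComplete (maximalIdeal R) R] (n : ℕ) (x : Fin n → R)
    (hxm : ∀ i, x i ∈ maximalIdeal R) :
    ∃ f : MvPowerSeries (Fin n) Λ →ₐ[Λ] R, ∀ i, f (X i) = x i := by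
  classical
  let a : ∀ k : ℕ, Fin n → R ⧸ maximalIdeal R ^ k := fun k i => Ideal.Quotient.mk _ (x i)
  have ha : ∀ k i, IsNilpotent (a k i) := fun k i =>
    ⟨k, by
      show (Ideal.Quotient.mk (maximalIdeal R ^ k) (x i)) ^ k = 0
      rw [← map_pow, Ideal.Quotient.eq_zero_iff_mem]
      exact Ideal.pow_mem_pow (hxm i) k⟩
  let ε : ∀ k : ℕ, MvPowerSeries (Fin n) Λ →ₐ[Λ] R ⧸ maximalIdeal R ^ k := fun k =>
    Groth.Agent.Lib.PSEvalH1.evalNil (R := Λ) (a k) (ha k)
  have hεX : ∀ k i, ε k (X i) = a k i := fun k i =>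
    Groth.Agent.Lib.PSEvalH1.evalNil_X (a k) (ha k) i
  have hcompat : ∀ {k l : ℕ} (hle : k ≤ l),
      (Ideal.Quotient.factorₐ Λ (Ideal.pow_le_pow_right hle)).comp (ε l) = ε k := by
    intro k l hle
    apply Groth.Agent.Lib.PSEvalH1.algHom_ext_of_nilpotent
    · intro i
      rw [AlgHom.comp_apply, hεX, hεX]
      rfl
    · intro i
      rw [AlgHom.comp_apply, hεX]
      exact ha k i
  refine ⟨IsAdicComplete.liftAlgHom (maximalIdeal R) ε hcompat, fun i => ?_⟩
  rw [← sub_eq_zero]
  apply IsHausdorff.haus (inferInstance : IsHausdorff (maximalIdeal R) R)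
  intro k
  rw [SModEq.zero, smul_eq_mul, Ideal.mul_top, ← Ideal.Quotient.eq,
    IsAdicComplete.mk_liftAlgHom, hεX]

/-- a `Λ`-algebra map `Λ[[T]] → R` to a separated local ring is determined by the images of the
variables, if these lie in the maximal ideal -/
theorem algHom_ext_of_hausdorff [IsHausdorff (maximalIdeal R) R] {n : ℕ}
    (φ ψ : MvPowerSeries (Fin n) Λ →ₐ[Λ] R) (h : ∀ i, φ (X i) = ψ (X i))
    (hm : ∀ i, φ (X i) ∈ maximalIdeal R) : φ = ψ := by
  apply AlgHom.ext
  intro f
  rw [← sub_eq_zero]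
  apply IsHausdorff.haus (inferInstance : IsHausdorff (maximalIdeal R) R)
  intro j
  rw [SModEq.zero, smul_eq_mul, Ideal.mul_top, ← Ideal.Quotient.eq]
  have key := Groth.Agent.Lib.PSEvalH1.algHom_ext_of_nilpotent
    ((Ideal.Quotient.mkₐ Λ (maximalIdeal R ^ j)).comp φ)
    ((Ideal.Quotient.mkₐ Λ (maximalIdeal R ^ j)).comp ψ)
    (fun i => by rw [AlgHom.comp_apply, AlgHom.comp_apply, h i])
    (fun i => ⟨j, by
      rw [AlgHom.comp_apply, ← map_pow]
      exact Ideal.Quotient.eq_zero_iff_mem.2 (Ideal.pow_mem_pow (hm i) j)⟩)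
  exact AlgHom.congr_fun key f

end PS

section Normal

/-- The ring of invariants of a normal domain is normal. -/
theorem isIntegrallyClosed_fixedPoints (A : Type*) [CommRing A] [IsDomain A]
    [IsIntegrallyClosed A] (G : Type*) [Group G] [MulSemiringAction G A] :
    IsIntegrallyClosed (FixedPoints.subring A G) := by
  have hfa : FaithfulSMul (FixedPoints.subring A G) (FractionRing A) := by
    rw [faithfulSMul_iff_algebraMap_injective,
      IsScalarTower.algebraMap_eq (FixedPoints.subring A G) A (FractionRing A)]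
    exact (FaithfulSMul.algebraMap_injective A (FractionRing A)).comp Subtype.val_injective
  letI : Algebra (FractionRing (FixedPoints.subring A G)) (FractionRing A) :=
    FractionRing.liftAlgebra (FixedPoints.subring A G) (FractionRing A)
  haveI : IsScalarTower (FixedPoints.subring A G) (FractionRing (FixedPoints.subring A G))
      (FractionRing A) :=
    FractionRing.isScalarTower_liftAlgebra (FixedPoints.subring A G) (FractionRing A)
  refine (isIntegrallyClosed_iff (FractionRing (FixedPoints.subring A G))).2 fun {x} hx => ?_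
  obtain ⟨b₁, b₂, hb₂, rfl⟩ := IsFractionRing.div_surjective (A := FixedPoints.subring A G) x
  have hb₂0 : b₂ ≠ 0 := nonZeroDivisors.ne_zero hb₂
  have hb₂A : (b₂ : A) ≠ 0 := fun h => hb₂0 (Subtype.ext h)
  have hb₂K : algebraMap (FixedPoints.subring A G) (FractionRing (FixedPoints.subring A G)) b₂
      ≠ 0 := by
    rw [Ne, map_eq_zero_iff _ (IsFractionRing.injective _ _)]
    exact hb₂0
  have hb₂L : algebraMap A (FractionRing A) (b₂ : A) ≠ 0 := by
    rw [Ne, map_eq_zero_iff _ (IsFractionRing.injective _ _)]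
    exact hb₂A
  have hy : IsIntegral A (algebraMap (FractionRing (FixedPoints.subring A G)) (FractionRing A)
      (algebraMap _ _ b₁ / algebraMap _ _ b₂)) :=
    (hx.map (IsScalarTower.toAlgHom (FixedPoints.subring A G)
      (FractionRing (FixedPoints.subring A G)) (FractionRing A))).tower_top
  obtain ⟨a, ha⟩ := IsIntegrallyClosed.algebraMap_eq_of_integral hy
  have hrel : a * (b₂ : A) = (b₁ : A) := by
    apply IsFractionRing.injective A (FractionRing A)
    rw [map_mul, ha, map_div₀,
      ← IsScalarTower.algebraMap_apply (FixedPoints.subring A G)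
        (FractionRing (FixedPoints.subring A G)) (FractionRing A),
      ← IsScalarTower.algebraMap_apply (FixedPoints.subring A G)
        (FractionRing (FixedPoints.subring A G)) (FractionRing A),
      IsScalarTower.algebraMap_apply (FixedPoints.subring A G) A (FractionRing A) b₁,
      IsScalarTower.algebraMap_apply (FixedPoints.subring A G) A (FractionRing A) b₂]
    exact div_mul_cancel₀ _ hb₂L
  have hainv : ∀ σ : G, σ • a = a := by
    intro σ
    have h1 : σ • a * (b₂ : A) = a * (b₂ : A) := by
      have h2 := congrArg (fun t => σ • t) hrel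
      simp only [smul_mul'] at h2
      rw [b₂.2 σ, b₁.2 σ] at h2
      rw [h2, hrel]
    exact mul_right_cancel₀ hb₂A h1
  refine ⟨⟨a, hainv⟩, ?_⟩
  rw [eq_div_iff hb₂K, ← map_mul]
  congr 1
  exact Subtype.ext hrel

end Normal

section Complete

open TensorProduct AdicCompletion

/-- finite modules over complete Noetherian rings are complete (same universe) -/
theorem isAdicComplete_of_finite_aux {R : Type u} [CommRing R] [IsNoetherianRing R] (I : Ideal R)
    [IsAdicComplete I R] (M : Type u) [AddCommGroup M] [Module R M] [Module.Finite R M] :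
    IsAdicComplete I M := by
  rw [← AdicCompletion.of_bijective_iff]
  let e0 : R ≃ₗ[R] AdicCompletion I R :=
    LinearEquiv.ofBijective (AdicCompletion.of I R) (AdicCompletion.of_bijective I R)
  let e1 : M ≃ₗ[R] AdicCompletion I R ⊗[R] M :=
    (TensorProduct.lid R M).symm ≪≫ₗ (LinearEquiv.rTensor M e0)
  have h : ⇑(AdicCompletion.of I M) = (ofTensorProduct I M) ∘ e1 := by
    funext x
    show _ = ofTensorProduct I M (e1 x)
    have : e1 x = (AdicCompletion.of I R 1) ⊗ₜ[R] x := by
      simp [e1, e0]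
    rw [this, ofTensorProduct_tmul]
    have h1 : AdicCompletion.of I R 1 = 1 := rfl
    rw [h1, one_smul]
  rw [h]
  exact (ofTensorProduct_bijective_of_finite_of_isNoetherian I M).comp e1.bijective

/-- finite modules over complete Noetherian rings are complete -/
theorem isAdicComplete_of_finite {R : Type u} [CommRing R] [IsNoetherianRing R] (I : Ideal R)
    [IsAdicComplete I R] (M : Type v) [AddCommGroup M] [Module R M] [Module.Finite R M] :
    IsAdicComplete I M := by
  obtain ⟨r, f, hf⟩ := Module.Finite.exists_fin' R M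
  haveI : IsAdicComplete I ((Fin r → R) ⧸ LinearMap.ker f) := isAdicComplete_of_finite_aux I _
  let e : ((Fin r → R) ⧸ LinearMap.ker f) ≃ₗ[R] M := f.quotKerEquivOfSurjective hf
  exact Groth.Agent.Lib.AdicRetract.isAdicComplete_of_retract I e.symm.toLinearMap e.toLinearMap
    (by ext x; simp)

/-- completeness depends only on the topology -/
theorem isAdicComplete_of_le_of_pow_le {R : Type*} [CommRing R] (J K : Ideal R) (M : Type*)
    [AddCommGroup M] [Module R M] (N' : ℕ) (hJK : J ^ N' ≤ K) (N : ℕ) (hN : K ^ N ≤ J)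
    [IsAdicComplete J M] : IsAdicComplete K M := by
  -- wlog `N, N' ≥ 1`
  obtain ⟨N, hN0, hN⟩ : ∃ N, 0 < N ∧ K ^ N ≤ J :=
    ⟨N + 1, Nat.succ_pos _, (Ideal.pow_le_pow_right (Nat.le_succ N)).trans hN⟩
  obtain ⟨N', hN'0, hJK⟩ : ∃ N', 0 < N' ∧ J ^ N' ≤ K :=
    ⟨N' + 1, Nat.succ_pos _, (Ideal.pow_le_pow_right (Nat.le_succ N')).trans hJK⟩
  have hpow : ∀ j : ℕ, K ^ (N * j) ≤ J ^ j := fun j => by
    rw [pow_mul]
    exact Ideal.pow_right_mono hN j
  have hpow' : ∀ j : ℕ, J ^ (N' * j) ≤ K ^ j := fun j => by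
    rw [pow_mul]
    exact Ideal.pow_right_mono hJK j
  have hsm : ∀ j : ℕ, (K ^ (N * j) • ⊤ : Submodule R M) ≤ J ^ j • ⊤ := fun j =>
    Submodule.smul_mono_left (hpow j)
  have hsm' : ∀ j : ℕ, (J ^ (N' * j) • ⊤ : Submodule R M) ≤ K ^ j • ⊤ := fun j =>
    Submodule.smul_mono_left (hpow' j)
  have hjle : ∀ j : ℕ, j ≤ N * (N' * j) := fun j =>
    (Nat.le_mul_of_pos_left j hN'0).trans (Nat.le_mul_of_pos_left _ hN0)
  haveI : IsHausdorff K M := by
    refine ⟨fun x hx => ?_⟩
    apply IsHausdorff.haus (inferInstance : IsHausdorff J M)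
    intro j
    have := hx (N * j)
    rw [SModEq.zero] at this ⊢
    exact hsm j this
  haveI : IsPrecomplete K M := by
    refine ⟨fun f hf => ?_⟩
    have hg : ∀ {m n : ℕ}, m ≤ n → f (N * m) ≡ f (N * n) [SMOD (J ^ m • ⊤ : Submodule R M)] := by
      intro m n hmn
      have := hf (Nat.mul_le_mul_left N hmn)
      rw [SModEq.sub_mem] at this ⊢
      exact hsm m this
    obtain ⟨L, hL⟩ := IsPrecomplete.prec' (I := J) (fun j => f (N * j)) hg
    refine ⟨L, fun j => ?_⟩
    have h1 : f j ≡ f (N * (N' * j)) [SMOD (K ^ j • ⊤ : Submodule R M)] := hf (hjle j)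
    have h2 : f (N * (N' * j)) ≡ L [SMOD (K ^ j • ⊤ : Submodule R M)] := by
      have := hL (N' * j)
      rw [SModEq.sub_mem] at this ⊢
      exact hsm' j this
    exact h1.trans h2
  exact {}

end Complete

end Groth.Agent.Lib.InvCompleteH3
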