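import Mathlib
import Groth.Agent.Lib.ComplKaehler_helper3
import Groth.Agent.Lib.InvComplete_helper3

/-!
# The completed first fundamental sequence for a finite map of complete local algebras (helper3)

`R → S` finite, complete Noetherian local `k`-algebras, `Ω_{κ_S/k}` finite-dimensional.  Then
`Ω_{S/R}` is complete and `(S ⊗_R Ω_{R/k})^ → (Ω_{S/k})^ → (Ω_{S/R})^ → 0` is exact.
APPEND-ONLY once landed.
-/

set_option autoImplicit false

namespace Groth.Agent.Lib.ComplKaehlerSeqH3

open IsLocalRing KaehlerDifferential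

universe u

section Closed

variable {S : Type*} [CommRing S] [IsLocalRing S] [IsNoetherianRing S] {M : Type*}
  [AddCommGroup M] [Module S M] [Module.Finite S M]

/-- submodules of finite modules over Noetherian local rings are closed -/
theorem mem_of_forall_mem_sup (N : Submodule S M) (ξ : M)
    (h : ∀ n : ℕ, ξ ∈ N ⊔ (maximalIdeal S ^ n • ⊤ : Submodule S M)) : ξ ∈ N := by
  have h0 : (⨅ i : ℕ, maximalIdeal S ^ i • ⊤ : Submodule S (M ⧸ N)) = ⊥ :=
    Ideal.iInf_pow_smul_eq_bot_of_isLocalRing _ (maximalIdeal.isMaximal S).ne_top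
  have h1 : N.mkQ ξ ∈ (⨅ i : ℕ, maximalIdeal S ^ i • ⊤ : Submodule S (M ⧸ N)) := by
    rw [Submodule.mem_iInf]
    intro i
    obtain ⟨ν, hν, μ, hμ, hξ⟩ := Submodule.mem_sup.1 (h i)
    have h2 : N.mkQ ξ = N.mkQ μ := by
      rw [← hξ, map_add, Submodule.mkQ_apply, (Submodule.Quotient.mk_eq_zero N).2 hν, zero_add]
    rw [h2]
    have h3 : N.mkQ μ ∈ Submodule.map N.mkQ (maximalIdeal S ^ i • ⊤ : Submodule S M) :=
      Submodule.mem_map_of_mem hμ
    rw [Submodule.map_smul''] at h3
    exact Submodule.smul_mono le_rfl le_top h3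
  rw [h0, Submodule.mem_bot] at h1
  exact (Submodule.Quotient.mk_eq_zero N).1 h1

end Closed

section Exact

variable {S : Type u} [CommRing S] [IsLocalRing S] [IsNoetherianRing S]
  {M₁ M₂ M₃ : Type u} [AddCommGroup M₁] [Module S M₁] [AddCommGroup M₂] [Module S M₂]
  [AddCommGroup M₃] [Module S M₃]

/-- Completion preserves exactness in the middle of a right exact sequence when the completion
of the middle term is finite. -/
theorem range_map_eq_ker_map (f : M₁ →ₗ[S] M₂) (g : M₂ →ₗ[S] M₃) (hfg : Function.Exact f g)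
    (hg : Function.Surjective g)
    [Module.Finite S (AdicCompletion (maximalIdeal S) M₂)] :
    LinearMap.range (AdicCompletion.map (maximalIdeal S) f) =
      LinearMap.ker (AdicCompletion.map (maximalIdeal S) g) := by
  have hfg0 : g ∘ₗ f = 0 := by
    ext x
    exact hfg.apply_apply_eq_zero x
  have hfgS : (maximalIdeal S).FG := IsNoetherian.noetherian _
  apply le_antisymm
  · rintro _ ⟨y, rfl⟩
    rw [LinearMap.mem_ker, AdicCompletion.map_comp_apply, hfg0, AdicCompletion.map_zero,
      LinearMap.zero_apply]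
  · intro ξ hξ
    rw [LinearMap.mem_ker] at hξ
    -- the range as an `S`-submodule
    let N : Submodule S (AdicCompletion (maximalIdeal S) M₂) :=
      LinearMap.range ((AdicCompletion.map (maximalIdeal S) f).restrictScalars S)
    have key : ∀ n : ℕ, ξ ∈ N ⊔ (maximalIdeal S ^ n • ⊤ :
        Submodule S (AdicCompletion (maximalIdeal S) M₂)) := by
      intro n
      obtain ⟨m₂, hm₂⟩ : ∃ m₂ : M₂, AdicCompletion.eval (maximalIdeal S) M₂ n ξ =
          Submodule.mkQ _ m₂ := by
        obtain ⟨m₂, hm₂⟩ := Submodule.mkQ_surjective _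
          (AdicCompletion.eval (maximalIdeal S) M₂ n ξ)
        exact ⟨m₂, hm₂.symm⟩
      have h1 : ξ - AdicCompletion.of (maximalIdeal S) M₂ m₂ ∈
          (maximalIdeal S ^ n • ⊤ : Submodule S (AdicCompletion (maximalIdeal S) M₂)) := by
        rw [AdicCompletion.pow_smul_top_eq_ker_eval hfgS, LinearMap.mem_ker, map_sub, hm₂,
          AdicCompletion.eval_of, sub_self]
      -- `g m₂ ∈ 𝔪^n M₃`
      have h2 : AdicCompletion.of (maximalIdeal S) M₃ (g m₂) ∈
          (maximalIdeal S ^ n • ⊤ : Submodule S (AdicCompletion (maximalIdeal S) M₃)) := by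
        have h3 : AdicCompletion.of (maximalIdeal S) M₃ (g m₂) =
            - (AdicCompletion.map (maximalIdeal S) g).restrictScalars S
              (ξ - AdicCompletion.of (maximalIdeal S) M₂ m₂) := by
          rw [LinearMap.restrictScalars_apply, map_sub, hξ, zero_sub, neg_neg,
            AdicCompletion.map_of]
        rw [h3]
        apply Submodule.neg_mem
        have h4 := Submodule.mem_map_of_mem
          (f := (AdicCompletion.map (maximalIdeal S) g).restrictScalars S) h1
        rw [Submodule.map_smul''] at h4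
        exact Submodule.smul_mono le_rfl le_top h4
      have h5 : g m₂ ∈ (maximalIdeal S ^ n • ⊤ : Submodule S M₃) := by
        rw [AdicCompletion.pow_smul_top_eq_ker_eval hfgS, LinearMap.mem_ker,
          AdicCompletion.eval_of] at h2
        exact (Submodule.Quotient.mk_eq_zero _).1 h2
      have h6 : (maximalIdeal S ^ n • ⊤ : Submodule S M₃) =
          Submodule.map g (maximalIdeal S ^ n • ⊤ : Submodule S M₂) := by
        rw [Submodule.map_smul'', Submodule.map_top, LinearMap.range_eq_top.2 hg]
      rw [h6] at h5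
      obtain ⟨m₂', hm₂', hgm⟩ := h5
      have h7 : g (m₂ - m₂') = 0 := by rw [map_sub, hgm, sub_self]
      obtain ⟨m₁, hm₁⟩ := (hfg (m₂ - m₂')).1 h7
      have h8 : AdicCompletion.of (maximalIdeal S) M₂ m₂' ∈
          (maximalIdeal S ^ n • ⊤ : Submodule S (AdicCompletion (maximalIdeal S) M₂)) := by
        rw [AdicCompletion.pow_smul_top_eq_ker_eval hfgS, LinearMap.mem_ker,
          AdicCompletion.eval_of]
        exact (Submodule.Quotient.mk_eq_zero _).2 hm₂'
      have h9 : AdicCompletion.of (maximalIdeal S) M₂ (m₂ - m₂') ∈ N := by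
        refine ⟨AdicCompletion.of (maximalIdeal S) M₁ m₁, ?_⟩
        rw [LinearMap.restrictScalars_apply, AdicCompletion.map_of, hm₁]
      have h10 : ξ = AdicCompletion.of (maximalIdeal S) M₂ (m₂ - m₂') +
          (AdicCompletion.of (maximalIdeal S) M₂ m₂' +
            (ξ - AdicCompletion.of (maximalIdeal S) M₂ m₂)) := by
        rw [map_sub]
        abel
      rw [h10]
      exact Submodule.add_mem_sup h9 (Submodule.add_mem _ h8 h1)
    obtain ⟨y, hy⟩ := mem_of_forall_mem_sup N ξ key
    exact ⟨y, hy⟩

end Exact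

section Main

variable (k R S : Type u) [Field k] [CommRing R] [IsNoetherianRing R]
    [IsLocalRing R] [Algebra k R] [IsAdicComplete (maximalIdeal R) R]
    [CommRing S] [IsNoetherianRing S] [IsLocalRing S] [Algebra k S]
    [IsAdicComplete (maximalIdeal S) S] [Algebra R S] [IsScalarTower k R S]
    [Module.Finite R S] [Module.Finite (ResidueField S) (Ω[ResidueField S⁄k])]

theorem main5991 :
    IsAdicComplete (maximalIdeal S) (Ω[S⁄R]) ∧
      Function.Surjective (AdicCompletion.map (maximalIdeal S) (KaehlerDifferential.map k R S S)) ∧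
      LinearMap.range (AdicCompletion.map (maximalIdeal S)
          (KaehlerDifferential.mapBaseChange k R S)) =
        LinearMap.ker (AdicCompletion.map (maximalIdeal S) (KaehlerDifferential.map k R S S)) := by
  haveI : Module.Finite S Ω[S⁄R] := inferInstance
  haveI h1 : Module.Finite (S ⧸ maximalIdeal S) (Ω[S ⧸ maximalIdeal S⁄k]) :=
    ‹Module.Finite (ResidueField S) (Ω[ResidueField S⁄k])›
  haveI h2 : Module.Finite (S ⧸ maximalIdeal S) (maximalIdeal S).Cotangent :=
    (inferInstance : FiniteDimensional (ResidueField S) (CotangentSpace S))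
  haveI h3 : Module.Finite S (AdicCompletion (maximalIdeal S) (Ω[S⁄k])) :=
    ComplKaehlerH3.finite_completedKaehler (A := k) (maximalIdeal S)
  refine ⟨InvCompleteH3.isAdicComplete_of_finite (maximalIdeal S) _, ?_, ?_⟩
  · exact AdicCompletion.map_surjective _ (KaehlerDifferential.map_surjective k R S)
  · exact range_map_eq_ker_map _ _ (KaehlerDifferential.exact_mapBaseChange_map k R S)
      (KaehlerDifferential.map_surjective k R S)

end Main

end Groth.Agent.Lib.ComplKaehlerSeqH3
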