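import Mathlib
import Groth.Agent.Lib.ComplKaehlerSeq_helper3

/-!
# Generating the localized completed differentials by `d(uᵢ xᵢ)` (helper3)

`A` complete Noetherian local `k`-algebra with `κ_A` finite over `k`, `p ≠ 𝔪` a prime, `Ω̂_p`
generated by `M` elements, `x₁ … x_M ∈ 𝔪 ∖ p`.  Then there are units `uᵢ` of `A` with
`d(uᵢ xᵢ)` generating `Ω̂_p`.  APPEND-ONLY once landed.
-/

set_option autoImplicit false

namespace Groth.Agent.Lib.ComplKaehlerGenH3

open IsLocalRing

section Field

variable {A κ V : Type*} [CommRing A] [IsLocalRing A] [Field κ] [AddCommGroup V] [Module κ V]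
  (ρ : A →+* κ) (δ : A → V)

/-- `δ 1 = 0` for a "derivation" -/
theorem delta_one (hmul : ∀ a b, δ (a * b) = ρ a • δ b + ρ b • δ a) : δ 1 = 0 := by
  have h := hmul 1 1
  rw [mul_one, map_one, one_smul] at h
  exact (add_eq_left (a := δ 1)).1 h.symm

/-- `V` is spanned by `δ t`, `t ∈ 𝔪`. -/
theorem span_image_maximalIdeal (hmul : ∀ a b, δ (a * b) = ρ a • δ b + ρ b • δ a)
    (hspan : Submodule.span κ (Set.range δ) = ⊤)
    (x₀ : A) (hx₀ : x₀ ∈ maximalIdeal A) (hρ : ρ x₀ ≠ 0) :
    Submodule.span κ (δ '' (maximalIdeal A : Set A)) = ⊤ := by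
  rw [← top_le_iff, ← hspan, Submodule.span_le]
  rintro _ ⟨a, rfl⟩
  have h1 : δ (a * x₀) = ρ a • δ x₀ + ρ x₀ • δ a := hmul a x₀
  have h2 : δ a = (ρ x₀)⁻¹ • (δ (a * x₀) - ρ a • δ x₀) := by
    rw [h1, add_sub_cancel_left, smul_smul, inv_mul_cancel₀ hρ, one_smul]
  rw [h2]
  refine Submodule.smul_mem _ _ (Submodule.sub_mem _ ?_ (Submodule.smul_mem _ _ ?_))
  · exact Submodule.subset_span ⟨a * x₀, Ideal.mul_mem_left _ _ hx₀, rfl⟩
  · exact Submodule.subset_span ⟨x₀, hx₀, rfl⟩

/-- span of the first `j` vectors `δ (uᵢ xᵢ)` -/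
def Wspan {M : ℕ} (δ : A → V) (x : Fin M → A) (j : ℕ) (u : Fin M → Aˣ) : Submodule κ V :=
  Submodule.span κ ((fun i => δ ((u i : A) * x i)) '' {i : Fin M | i.val < j})

theorem Wspan_mono {M : ℕ} (x : Fin M → A) (j : ℕ) (u : Fin M → Aˣ) :
    Wspan (κ := κ) δ x j u ≤ Wspan δ x (j + 1) u :=
  Submodule.span_mono (Set.image_mono (fun i (hi : i.val < j) => Nat.lt_succ_of_lt hi))

theorem Wspan_update {M : ℕ} (x : Fin M → A) (j : ℕ) (hj : j < M) (u : Fin M → Aˣ) (v : Aˣ) :
    Wspan (κ := κ) δ x (j + 1) (Function.update u ⟨j, hj⟩ v) =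
      Wspan δ x j u ⊔ Submodule.span κ {δ ((v : A) * x ⟨j, hj⟩)} := by
  classical
  have hset : {i : Fin M | i.val < j + 1} = {i : Fin M | i.val < j} ∪ {⟨j, hj⟩} := by
    ext i
    simp only [Set.mem_setOf_eq, Set.mem_union, Set.mem_singleton_iff, Fin.ext_iff]
    omega
  unfold Wspan
  rw [hset, Set.image_union, Submodule.span_union, Set.image_singleton, Function.update_self]
  congr 2
  apply Set.image_congr
  intro i hi
  have hne : i ≠ ⟨j, hj⟩ := by
    intro h
    rw [h] at hi
    have hi' : j < j := hi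
    exact lt_irrefl _ hi'
  simp only [Function.update_of_ne hne]

theorem exists_units_span_field [FiniteDimensional κ V]
    (hadd : ∀ a b, δ (a + b) = δ a + δ b)
    (hmul : ∀ a b, δ (a * b) = ρ a • δ b + ρ b • δ a)
    (hspan : Submodule.span κ (Set.range δ) = ⊤)
    (M : ℕ) (hM : Module.finrank κ V ≤ M) (x : Fin M → A)
    (hx : ∀ i, x i ∈ maximalIdeal A ∧ ρ (x i) ≠ 0)
    (hex : ∃ x₀ ∈ maximalIdeal A, ρ x₀ ≠ 0) :
    ∃ u : Fin M → Aˣ, Submodule.span κ (Set.range fun i => δ ((u i : A) * x i)) = ⊤ := by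
  classical
  obtain ⟨x₀, hx₀, hρ₀⟩ := hex
  have hm := span_image_maximalIdeal ρ δ hmul hspan x₀ hx₀ hρ₀
  have h1 := delta_one ρ δ hmul
  have key : ∀ j, j ≤ M → ∃ u : Fin M → Aˣ,
      Wspan (κ := κ) δ x j u = ⊤ ∨ j ≤ Module.finrank κ (Wspan (κ := κ) δ x j u) := by
    intro j
    induction j with
    | zero => intro _; exact ⟨fun _ => 1, Or.inr (Nat.zero_le _)⟩
    | succ j ih =>
      intro hj
      obtain ⟨u, hu⟩ := ih (Nat.le_of_succ_le hj)
      by_cases htop : Wspan (κ := κ) δ x j u = ⊤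
      · refine ⟨u, Or.inl ?_⟩
        rw [← top_le_iff, ← htop]
        exact Wspan_mono δ x j u
      · have hu' : j ≤ Module.finrank κ (Wspan (κ := κ) δ x j u) := hu.resolve_left htop
        obtain ⟨v, hv⟩ : ∃ v : Aˣ, δ ((v : A) * x ⟨j, hj⟩) ∉ Wspan (κ := κ) δ x j u := by
          by_cases h2 : δ (x ⟨j, hj⟩) ∈ Wspan (κ := κ) δ x j u
          · obtain ⟨τ, hτ, hτW⟩ : ∃ τ ∈ maximalIdeal A, δ τ ∉ Wspan (κ := κ) δ x j u := by
              by_contra hcon
              push_neg at hcon
              apply htop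
              rw [← top_le_iff, ← hm, Submodule.span_le]
              rintro _ ⟨t, ht, rfl⟩
              exact hcon t ht
            have hunit : IsUnit (1 + τ) := by
              by_contra hnu
              have h3 : (1 + τ) ∈ maximalIdeal A := (IsLocalRing.mem_maximalIdeal _).2 hnu
              have h4 : (1 : A) ∈ maximalIdeal A := by
                have h5 := Ideal.sub_mem _ h3 hτ
                rwa [add_sub_cancel_right] at h5
              exact (Ideal.ne_top_iff_one _).1 (maximalIdeal.isMaximal A).ne_top h4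
            refine ⟨hunit.unit, ?_⟩
            rw [IsUnit.unit_spec, hmul, hadd, h1, zero_add]
            intro hmem
            have h6 : ρ (x ⟨j, hj⟩) • δ τ ∈ Wspan (κ := κ) δ x j u := by
              have h7 := Submodule.sub_mem _ hmem (Submodule.smul_mem _ (ρ (1 + τ)) h2)
              rwa [add_sub_cancel_left] at h7
            have h8 := Submodule.smul_mem _ (ρ (x ⟨j, hj⟩))⁻¹ h6
            rw [smul_smul, inv_mul_cancel₀ (hx ⟨j, hj⟩).2, one_smul] at h8
            exact hτW h8
          · exact ⟨1, by rwa [Units.val_one, one_mul]⟩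
        refine ⟨Function.update u ⟨j, hj⟩ v, Or.inr ?_⟩
        have hlt : Wspan (κ := κ) δ x j u <
            Wspan (κ := κ) δ x (j + 1) (Function.update u ⟨j, hj⟩ v) := by
          rw [Wspan_update δ x j hj u v]
          refine lt_of_le_of_ne le_sup_left ?_
          intro heq
          apply hv
          have h9 : δ ((v : A) * x ⟨j, hj⟩) ∈
              Wspan (κ := κ) δ x j u ⊔ Submodule.span κ {δ ((v : A) * x ⟨j, hj⟩)} :=
            (le_sup_right : _ ≤ Wspan (κ := κ) δ x j u ⊔ _) (Submodule.mem_span_singleton_self _)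
          rwa [← heq] at h9
        have h10 := Submodule.finrank_lt_finrank_of_lt hlt
        omega
  obtain ⟨u, hu⟩ := key M le_rfl
  refine ⟨u, ?_⟩
  have hW : Wspan (κ := κ) δ x M u =
      Submodule.span κ (Set.range fun i => δ ((u i : A) * x i)) := by
    unfold Wspan
    have : {i : Fin M | i.val < M} = Set.univ := by
      ext i
      simp only [Set.mem_setOf_eq, Set.mem_univ, iff_true]
      exact i.isLt
    rw [this, Set.image_univ]
  rw [← hW]
  rcases hu with hu | hu
  · exact hu
  · apply Submodule.eq_top_of_finrank_eq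
    have := Submodule.finrank_le (Wspan (κ := κ) δ x M u)
    omega

end Field

section Local

variable {B N : Type*} [CommRing B] [IsLocalRing B] [AddCommGroup N] [Module B N]

theorem span_mk_eq_top_iff [Module.Finite B N] {ι : Type*} (g : ι → N) :
    Submodule.span (B ⧸ maximalIdeal B) (Set.range fun i =>
      (Submodule.Quotient.mk (g i) : N ⧸ (maximalIdeal B • ⊤ : Submodule B N))) = ⊤ ↔
      Submodule.span B (Set.range g) = ⊤ := by
  have h1 : Submodule.span B (Set.range g) = ⊤ ↔
      (Submodule.span B (Set.range g)).map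
        (Submodule.mkQ (maximalIdeal B • ⊤ : Submodule B N)) = ⊤ :=
    IsLocalRing.map_mkQ_eq_top.symm
  rw [h1, Submodule.map_span, ← Submodule.restrictScalars_eq_top_iff B (R := B ⧸ maximalIdeal B),
    Submodule.restrictScalars_span B (B ⧸ maximalIdeal B) Ideal.Quotient.mk_surjective,
    ← Set.range_comp]
  rfl

theorem exists_units_span {A : Type*} [CommRing A] [IsLocalRing A]
    (φ : A →+* B) (p : Ideal A)
    (hpm : ∃ x₀ ∈ maximalIdeal A, x₀ ∉ p)
    (hφ : ∀ a, a ∉ p → IsUnit (φ a))
    (δ : A → N) (hadd : ∀ a b, δ (a + b) = δ a + δ b)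
    (hmul : ∀ a b, δ (a * b) = φ a • δ b + φ b • δ a)
    (hspan : Submodule.span B (Set.range δ) = ⊤)
    (M : ℕ) (s : Fin M → N) (hs : Submodule.span B (Set.range s) = ⊤)
    (x : Fin M → A) (hx : ∀ i, x i ∈ maximalIdeal A ∧ x i ∉ p) :
    ∃ u : Fin M → Aˣ, Submodule.span B (Set.range fun i => δ ((u i : A) * x i)) = ⊤ := by
  haveI : Module.Finite B N :=
    Module.Finite.of_surjective (Fintype.linearCombination B s)
      (by rw [← LinearMap.range_eq_top, Fintype.range_linearCombination, hs])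
  letI : Field (B ⧸ maximalIdeal B) := Ideal.Quotient.field _
  haveI hVfin : Module.Finite (B ⧸ maximalIdeal B)
      (N ⧸ (maximalIdeal B • ⊤ : Submodule B N)) :=
    Module.Finite.of_restrictScalars_finite B _ _
  have hne : ∀ a, a ∉ p → (Ideal.Quotient.mk (maximalIdeal B)).comp φ a ≠ 0 := by
    intro a ha h0
    rw [RingHom.comp_apply, Ideal.Quotient.eq_zero_iff_mem] at h0
    exact (IsLocalRing.mem_maximalIdeal _).1 h0 (hφ a ha)
  have hfr : Module.finrank (B ⧸ maximalIdeal B)
      (N ⧸ (maximalIdeal B • ⊤ : Submodule B N)) ≤ M := by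
    have h2 := finrank_range_le_card (R := B ⧸ maximalIdeal B) (fun i =>
      (Submodule.Quotient.mk (s i) : N ⧸ (maximalIdeal B • ⊤ : Submodule B N)))
    rw [Set.finrank, (span_mk_eq_top_iff s).2 hs, finrank_top, Fintype.card_fin] at h2
    exact h2
  obtain ⟨u, hu⟩ := exists_units_span_field (κ := B ⧸ maximalIdeal B)
    (V := N ⧸ (maximalIdeal B • ⊤ : Submodule B N))
    ((Ideal.Quotient.mk (maximalIdeal B)).comp φ)
    (fun a => Submodule.Quotient.mk (δ a))
    (fun a b => by rw [hadd, Submodule.Quotient.mk_add])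
    (fun a b => by
      rw [hmul, Submodule.Quotient.mk_add, RingHom.comp_apply, RingHom.comp_apply,
        Module.Quotient.mk_smul_mk, Module.Quotient.mk_smul_mk])
    ((span_mk_eq_top_iff δ).2 hspan) M hfr x
    (fun i => ⟨(hx i).1, hne _ (hx i).2⟩)
    (by obtain ⟨x₀, h1, h2⟩ := hpm; exact ⟨x₀, h1, hne _ h2⟩)
  exact ⟨u, (span_mk_eq_top_iff _).1 hu⟩

end Local

section Main

open KaehlerDifferential

variable (k A : Type*) [Field k] [CommRing A] [IsLocalRing A] [IsNoetherianRing A] [Algebra k A]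
  [IsAdicComplete (maximalIdeal A) A] [Module.Finite k (ResidueField A)]

/-- the completed module of differentials is finite -/
theorem finite_completed : Module.Finite A (AdicCompletion (maximalIdeal A) (Ω[A⁄k])) := by
  haveI h0 : Module.Finite (ResidueField A) (Ω[ResidueField A⁄k]) := inferInstance
  haveI h1 : Module.Finite (A ⧸ maximalIdeal A) (Ω[A ⧸ maximalIdeal A⁄k]) := h0
  haveI h2 : Module.Finite (A ⧸ maximalIdeal A) (maximalIdeal A).Cotangent :=
    (inferInstance : FiniteDimensional (ResidueField A) (CotangentSpace A))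
  exact ComplKaehlerH3.finite_completedKaehler (A := k) (maximalIdeal A)

/-- the completed module of differentials is generated by the `d a` -/
theorem span_of_D : Submodule.span A (Set.range fun a : A =>
    AdicCompletion.of (maximalIdeal A) (Ω[A⁄k]) (D k A a)) = ⊤ := by
  haveI := finite_completed k A
  have hfgS : (maximalIdeal A).FG := IsNoetherian.noetherian _
  rw [← top_le_iff]
  rintro ξ -
  apply ComplKaehlerSeqH3.mem_of_forall_mem_sup
  intro n
  obtain ⟨ω, hω⟩ := Submodule.mkQ_surjective _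
    (AdicCompletion.eval (maximalIdeal A) (Ω[A⁄k]) n ξ)
  have h1 : ξ - AdicCompletion.of (maximalIdeal A) (Ω[A⁄k]) ω ∈
      (maximalIdeal A ^ n • ⊤ :
        Submodule A (AdicCompletion (maximalIdeal A) (Ω[A⁄k]))) := by
    rw [AdicCompletion.pow_smul_top_eq_ker_eval hfgS, LinearMap.mem_ker, map_sub, ← hω,
      AdicCompletion.eval_of, sub_self]
  have h2 : AdicCompletion.of (maximalIdeal A) (Ω[A⁄k]) ω ∈ Submodule.span A (Set.range fun a : A =>
      AdicCompletion.of (maximalIdeal A) (Ω[A⁄k]) (D k A a)) := by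
    have h3 : ω ∈ Submodule.span A (Set.range (D k A)) := by
      rw [KaehlerDifferential.span_range_derivation]; trivial
    have h4 := Submodule.mem_map_of_mem (f := AdicCompletion.of (maximalIdeal A) (Ω[A⁄k])) h3
    rw [Submodule.map_span, ← Set.range_comp] at h4
    exact h4
  rw [show ξ = AdicCompletion.of (maximalIdeal A) (Ω[A⁄k]) ω +
    (ξ - AdicCompletion.of (maximalIdeal A) (Ω[A⁄k]) ω) by abel]
  exact Submodule.add_mem_sup h2 h1

theorem main5080 (p : Ideal A) [p.IsPrime] (hp : p ≠ maximalIdeal A)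
    (M : ℕ) (hgen : ∃ s : Fin M → (LocalizedModule p.primeCompl
      (AdicCompletion (maximalIdeal A) (Ω[A⁄k]))),
      Submodule.span (Localization.AtPrime p) (Set.range s) = ⊤)
    (x : Fin M → A) (hx : ∀ i, x i ∈ maximalIdeal A ∧ x i ∉ p) :
    ∃ u : Fin M → Aˣ, Submodule.span (Localization.AtPrime p)
      (Set.range (fun i => LocalizedModule.mkLinearMap p.primeCompl
        (AdicCompletion (maximalIdeal A) (Ω[A⁄k]))
        (AdicCompletion.of (maximalIdeal A) (Ω[A⁄k]) (D k A ((u i : A) * x i))))) = ⊤ := by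
  obtain ⟨s, hs⟩ := hgen
  have hpm : ∃ x₀ ∈ maximalIdeal A, x₀ ∉ p := by
    by_contra hcon
    push_neg at hcon
    exact hp (le_antisymm (IsLocalRing.le_maximalIdeal (Ideal.IsPrime.ne_top inferInstance)) hcon)
  refine exists_units_span (B := Localization.AtPrime p)
    (N := LocalizedModule p.primeCompl (AdicCompletion (maximalIdeal A) (Ω[A⁄k])))
    (algebraMap A (Localization.AtPrime p)) p hpm
    (fun a ha => IsLocalization.map_units (M := p.primeCompl) _ ⟨a, ha⟩)
    (fun a => LocalizedModule.mkLinearMap p.primeCompl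
        (AdicCompletion (maximalIdeal A) (Ω[A⁄k]))
        (AdicCompletion.of (maximalIdeal A) (Ω[A⁄k]) (D k A a)))
    (fun a b => by simp only [map_add])
    (fun a b => by
      rw [Derivation.leibniz, map_add, map_add, map_smul, map_smul, map_smul, map_smul,
        algebraMap_smul, algebraMap_smul])
    ?_ M s hs x hx
  have h1 := span_eq_top_of_isLocalizedModule (Localization.AtPrime p) p.primeCompl
    (LocalizedModule.mkLinearMap p.primeCompl (AdicCompletion (maximalIdeal A) (Ω[A⁄k])))
    (span_of_D k A)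
  rw [← Set.range_comp] at h1
  exact h1

end Main

end Groth.Agent.Lib.ComplKaehlerGenH3
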