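import Mathlib
import Groth.Agent.Lib.ComplKaehlerGen_helper3
import Groth.Agent.Lib.ComplKaehlerRank_helper3
import Groth.Agent.Lib.InvComplete_helper3

/-!
# Rank of completed differentials ≥ dimension, part 1: general lemmas (helper3)

* `exists_lift_derivation`: derivations of a complete Noetherian local ring into finite modules
  factor through the completed module of differentials.
* `finrank_tensor_le_residueField`: fibre rank at `p` bounds the rank after tensoring with any field
  in which `A ∖ p` becomes invertible.
* `isFred_mapBaseChange_of_finite`: `K ⊗_P Ω_P → Ω_K` has index `0` for `K = Frac A`, `A` finite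
  over the domain `P`.
APPEND-ONLY once landed.
-/

set_option autoImplicit false

namespace Groth.Agent.Lib.ComplKaehlerDimH3

open IsLocalRing KaehlerDifferential TensorProduct

universe u

section Lift

variable {k A : Type*} [CommRing k] [CommRing A] [Algebra k A] [IsLocalRing A]
  [IsNoetherianRing A] [IsAdicComplete (maximalIdeal A) A]
  {N : Type*} [AddCommGroup N] [Module A N] [Module k N] [IsScalarTower k A N]
  [Module.Finite A N]

/-- derivations into finite modules factor through the completed differentials -/
theorem exists_lift_derivation (E : Derivation k A N) :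
    ∃ Ê : AdicCompletion (maximalIdeal A) (Ω[A⁄k]) →ₗ[A] N,
      ∀ a, Ê (AdicCompletion.of (maximalIdeal A) (Ω[A⁄k]) (D k A a)) = E a := by
  haveI : IsAdicComplete (maximalIdeal A) N :=
    InvCompleteH3.isAdicComplete_of_finite (maximalIdeal A) N
  refine ⟨((AdicCompletion.ofLinearEquiv (maximalIdeal A) N).symm : _ →ₗ[A] _) ∘ₗ
    (AdicCompletion.map (maximalIdeal A) E.liftKaehlerDifferential).restrictScalars A,
    fun a => ?_⟩
  rw [LinearMap.comp_apply, LinearMap.restrictScalars_apply, AdicCompletion.map_of,
    LinearEquiv.coe_coe, AdicCompletion.ofLinearEquiv_symm_of,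
    Derivation.liftKaehlerDifferential_comp_D]

end Lift

section Factor

variable {K V W U : Type*} [Field K] [AddCommGroup V] [Module K V] [AddCommGroup W] [Module K W]
  [AddCommGroup U] [Module K U]

theorem exists_comp_eq_of_ker_le (α : V →ₗ[K] W) (Λ : V →ₗ[K] U)
    (h : LinearMap.ker α ≤ LinearMap.ker Λ) : ∃ μ : W →ₗ[K] U, ∀ v, μ (α v) = Λ v := by
  have hinj : LinearMap.ker ((LinearMap.ker α).liftQ α le_rfl) = ⊥ :=
    Submodule.ker_liftQ_eq_bot _ _ _ le_rfl
  obtain ⟨ρ, hρ⟩ := ((LinearMap.ker α).liftQ α le_rfl).exists_leftInverse_of_injective hinj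
  refine ⟨((LinearMap.ker α).liftQ Λ h) ∘ₗ ρ, fun v => ?_⟩
  have h1 : ρ (α v) = Submodule.Quotient.mk v := by
    have h2 := LinearMap.congr_fun hρ (Submodule.Quotient.mk v)
    rw [LinearMap.comp_apply, LinearMap.id_apply] at h2
    rw [← h2]
    rfl
  rw [LinearMap.comp_apply, h1]
  rfl

end Factor

section LocalRank

variable {R : Type*} [CommRing R] [IsLocalRing R] {M : Type*} [AddCommGroup M] [Module R M]
  [Module.Finite R M]

theorem finrank_tensor_le_of_isLocalRing (K' : Type*) [Field K'] [Algebra R K'] :
    Module.finrank K' (K' ⊗[R] M) ≤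
      Module.finrank (ResidueField R) (ResidueField R ⊗[R] M) := by
  classical
  let b := Module.finBasis (ResidueField R) (ResidueField R ⊗[R] M)
  choose m hm using fun i =>
    TensorProduct.mk_surjective R M (ResidueField R) residue_surjective (b i)
  have hspan : Submodule.span R (Set.range m) = ⊤ :=
    IsLocalRing.span_eq_top_of_tmul_eq_basis m b hm
  have h2 : Submodule.span K' (Set.range fun i => (1 : K') ⊗ₜ[R] m i) = ⊤ := by
    have h3 := Submodule.baseChange_span (R := R) (A := K') (Set.range m)
    rw [hspan, Submodule.baseChange_top, ← Set.range_comp] at h3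
    exact h3.symm
  have h4 := finrank_range_le_card (R := K') (fun i => (1 : K') ⊗ₜ[R] m i)
  rw [Set.finrank, h2, finrank_top, Fintype.card_fin] at h4
  exact h4

end LocalRank

section PrimeRank

variable {A : Type*} [CommRing A] (p : Ideal A) [p.IsPrime] (N : Type*) [AddCommGroup N]
  [Module A N] [Module.Finite A N]

theorem finrank_tensor_le_residueField (K' : Type*) [Field K'] [Algebra A K']
    (hK : ∀ a : A, a ∉ p → algebraMap A K' a ≠ 0) :
    Module.finrank K' (K' ⊗[A] N) ≤
      Module.finrank p.ResidueField (p.ResidueField ⊗[A] N) := by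
  letI : Algebra (Localization.AtPrime p) K' :=
    (IsLocalization.lift (M := p.primeCompl) (g := algebraMap A K')
      (fun y => IsUnit.mk0 _ (hK y y.2))).toAlgebra
  haveI : IsScalarTower A (Localization.AtPrime p) K' :=
    IsScalarTower.of_algebraMap_eq (fun a => (IsLocalization.lift_eq _ a).symm)
  have e₁ := AlgebraTensorModule.cancelBaseChange A (Localization.AtPrime p) K' K' N
  have e₂ := AlgebraTensorModule.cancelBaseChange A (Localization.AtPrime p)
    p.ResidueField p.ResidueField N
  rw [← e₁.finrank_eq, ← e₂.finrank_eq]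
  exact finrank_tensor_le_of_isLocalRing (R := Localization.AtPrime p)
    (M := Localization.AtPrime p ⊗[A] N) K'

end PrimeRank

section Surj

variable {A A' : Type*} [CommRing A] [CommRing A'] [Algebra A A']
  {N N' : Type*} [AddCommGroup N] [Module A N] [AddCommGroup N'] [Module A N'] [Module A' N']
  [IsScalarTower A A' N'] (K' : Type*) [Field K'] [Algebra A K'] [Algebra A' K']
  [IsScalarTower A A' K']

theorem finrank_tensor_le_of_surjective (φ : N →ₗ[A] N') (hφ : Function.Surjective φ)
    [Module.Finite K' (K' ⊗[A] N)] :
    Module.finrank K' (K' ⊗[A'] N') ≤ Module.finrank K' (K' ⊗[A] N) := by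
  have e₁ := AlgebraTensorModule.cancelBaseChange A A' K' K' N
  haveI : Module.Finite K' (K' ⊗[A'] (A' ⊗[A] N)) := Module.Finite.equiv e₁.symm
  rw [← e₁.finrank_eq]
  have hs : Function.Surjective (φ.liftBaseChange A') := by
    intro y
    obtain ⟨x, rfl⟩ := hφ y
    exact ⟨1 ⊗ₜ x, by rw [LinearMap.liftBaseChange_tmul, one_smul]⟩
  have hs2 : Function.Surjective ((φ.liftBaseChange A').baseChange K') := by
    rw [LinearMap.baseChange_eq_ltensor]
    exact LinearMap.lTensor_surjective _ hs
  have h1 := LinearMap.finrank_range_le ((φ.liftBaseChange A').baseChange K')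
  rw [LinearMap.range_eq_top.2 hs2, finrank_top] at h1
  exact h1

end Surj

section Fred

open Groth.Agent.Lib.FredholmH3 Groth.Agent.Lib.CartierH3

variable {P A K : Type u} [CommRing P] [IsDomain P] [CommRing A] [IsDomain A] [Field K]
  [Algebra P A] [Algebra A K] [IsFractionRing A K] [Algebra P K] [IsScalarTower P A K]
  [Module.Finite P A]

omit [Algebra A K] [IsFractionRing A K] [IsScalarTower P A K] [Module.Finite P A] [IsDomain A] in
theorem isFred_aux (L : Type u) [Field L] [Algebra P L] [IsFractionRing P L] [Algebra L K]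
    [IsScalarTower P L K] [Algebra.IsAlgebraic L K] [Algebra.EssFiniteType L K] :
    IsFred (mapBaseChange ℤ P K) 0 := by
  have h₂ : IsFred (mapBaseChange ℤ L K) 0 := by
    obtain ⟨d, hd, hf⟩ := Groth.Agent.Lib.ComplKaehlerH3.cartierProp_of_essFiniteType
      (K := L) (L := K)
    rw [trdeg_eq_zero] at hd
    have hd0 : d = 0 := by exact_mod_cast hd.symm
    subst hd0
    exact_mod_cast hf
  haveI : Algebra.FormallyEtale P L :=
    Algebra.FormallyEtale.of_isLocalization (nonZeroDivisors P)
  have h₁ : IsFred ((mapBaseChange ℤ P L).baseChange K) 0 := by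
    have hb : Function.Bijective (mapBaseChange ℤ P L) :=
      (tensorKaehlerEquivOfFormallyEtale ℤ P L).bijective
    have hb2 : Function.Bijective ((mapBaseChange ℤ P L).baseChange K) :=
      ((LinearEquiv.ofBijective _ hb).baseChange L K _ _).bijective
    exact IsFred.of_bijective hb2
  have h := isFred_tower ℤ (A := P) (B := L) (L := K) h₁ h₂
  rwa [zero_add] at h

/-- `K ⊗_P Ω_P → Ω_K` has index `0`. -/
theorem isFred_mapBaseChange_of_finite (hinj : Function.Injective (algebraMap P A)) :
    IsFred (mapBaseChange ℤ P K) 0 := by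
  haveI : FaithfulSMul P K := by
    rw [faithfulSMul_iff_algebraMap_injective, IsScalarTower.algebraMap_eq P A K]
    exact (IsFractionRing.injective A K).comp hinj
  letI := FractionRing.liftAlgebra P K
  haveI : IsScalarTower P (FractionRing P) K := FractionRing.isScalarTower_liftAlgebra P K
  haveI : Algebra.IsIntegral P A := Algebra.IsIntegral.of_finite P A
  haveI : Algebra.IsAlgebraic (FractionRing P) K :=
    isAlgebraic_of_isFractionRing P A (FractionRing P) K
  haveI : Algebra.EssFiniteType A K := Algebra.EssFiniteType.of_isLocalization K (nonZeroDivisors A)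
  haveI : Algebra.EssFiniteType P K := Algebra.EssFiniteType.comp P A K
  haveI : Algebra.EssFiniteType (FractionRing P) K := Algebra.EssFiniteType.of_comp P _ K
  exact isFred_aux (FractionRing P)

end Fred

end Groth.Agent.Lib.ComplKaehlerDimH3
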