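import Mathlib
import Groth.Agent.Lib.ComplKaehlerDim1_helper3

/-!
# Rank of completed differentials ≥ dimension, part 2: the domain case (helper3)

`A` a complete Noetherian local domain, finite and injective over `P = k[[X_1..X_n]]`,
`K = Frac A`.  Then `n ≤ dim_K (K ⊗_A Ω̂_{A/k})`.  APPEND-ONLY once landed.
-/

set_option autoImplicit false

namespace Groth.Agent.Lib.ComplKaehlerDimH3

open IsLocalRing KaehlerDifferential TensorProduct MvPowerSeries

universe u

section Domain

variable (k : Type u) [Field k] (n : ℕ) {PS : Type u} [CommRing PS] [IsDomain PS] [Algebra k PS]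
  (der : Fin n → Derivation k PS PS) (X : Fin n → PS)

variable (K : Type u) [Field K] [Algebra PS K]

/-- partial derivatives as a linear map on absolute differentials -/
noncomputable def pd : Ω[PS⁄ℤ] →ₗ[PS] (Fin n → K) :=
  LinearMap.pi fun i => (Algebra.linearMap PS K) ∘ₗ
    ((der i).restrictScalars ℤ).liftKaehlerDifferential

noncomputable def pdK : K ⊗[PS] Ω[PS⁄ℤ] →ₗ[K] (Fin n → K) := (pd k n der K).liftBaseChange K

theorem pdK_one_tmul_D (c : PS) (i : Fin n) :
    pdK k n der K ((1 : K) ⊗ₜ[PS] D ℤ PS c) i = algebraMap PS K (der i c) := by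
  rw [pdK, LinearMap.liftBaseChange_tmul, one_smul, pd, LinearMap.pi_apply, LinearMap.comp_apply,
    Derivation.liftKaehlerDifferential_comp_D]
  rfl

theorem exists_derivation (lam : Fin n → K)
    (h : ∀ ξ ∈ LinearMap.ker (mapBaseChange ℤ PS K), ∑ i, lam i * pdK k n der K ξ i = 0) :
    ∃ D' : Derivation ℤ K K, ∀ c : PS, D' (algebraMap PS K c) =
      ∑ i, lam i * algebraMap PS K (der i c) := by
  let Λ : K ⊗[PS] Ω[PS⁄ℤ] →ₗ[K] K :=
    (∑ i, lam i • (LinearMap.proj i : (Fin n → K) →ₗ[K] K)) ∘ₗ pdK k n der K
  have hΛ : ∀ ξ, Λ ξ = ∑ i, lam i * pdK k n der K ξ i := by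
    intro ξ
    simp only [Λ, LinearMap.comp_apply, LinearMap.sum_apply, LinearMap.smul_apply,
      LinearMap.proj_apply, smul_eq_mul]
  obtain ⟨μ, hμ⟩ := exists_comp_eq_of_ker_le (mapBaseChange ℤ PS K) Λ (by
    intro ξ hξ
    rw [LinearMap.mem_ker, hΛ]
    exact h ξ hξ)
  refine ⟨μ.compDer (D ℤ K), fun c => ?_⟩
  have h1 : mapBaseChange ℤ PS K ((1 : K) ⊗ₜ[PS] D ℤ PS c) = D ℤ K (algebraMap PS K c) := by
    rw [mapBaseChange_tmul, one_smul, map_D]
  have h2 : (μ.compDer (D ℤ K)) (algebraMap PS K c) = μ (D ℤ K (algebraMap PS K c)) := rfl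
  rw [h2, ← h1, hμ, hΛ]
  refine Finset.sum_congr rfl (fun i _ => ?_)
  rw [pdK_one_tmul_D]

variable (A : Type u) [CommRing A] [IsDomain A] [IsLocalRing A] [IsNoetherianRing A]
  [IsAdicComplete (maximalIdeal A) A] [Algebra k A] [Algebra PS A]
  [IsScalarTower k PS A]
  [Module.Finite PS A] [Algebra A K]
  [IsScalarTower PS A K] [Algebra k K]
  [IsScalarTower k A K] [IsScalarTower k PS K]

theorem exists_functional (lam : Fin n → K) (D' : Derivation ℤ K K)
    (hD' : ∀ c : PS, D' (algebraMap PS K c) =
      ∑ i, lam i * algebraMap PS K (der i c)) :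
    ∃ Ê : K ⊗[A] AdicCompletion (maximalIdeal A) (Ω[A⁄k]) →ₗ[K] K,
      ∀ a : A, Ê ((1 : K) ⊗ₜ[A] AdicCompletion.of (maximalIdeal A) (Ω[A⁄k]) (D k A a)) =
        D' (algebraMap A K a) := by
  classical
  obtain ⟨t, g, hg⟩ := Module.Finite.exists_fin (R := PS) (M := A)
  let T₀ : Submodule A K := Submodule.span A
    (Set.range lam ∪ Set.range (fun j => D' (algebraMap A K (g j))))
  have hmem : ∀ a : A, D' (algebraMap A K a) ∈ T₀ := by
    intro a
    have ha : a ∈ Submodule.span PS (Set.range g) := by rw [hg]; trivial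
    induction ha using Submodule.span_induction with
    | mem x hx =>
      obtain ⟨j, rfl⟩ := hx
      exact Submodule.subset_span (Or.inr ⟨j, rfl⟩)
    | zero => rw [map_zero, map_zero]; exact zero_mem _
    | add x y _ _ hx hy => rw [map_add, map_add]; exact add_mem hx hy
    | smul c x _ hx =>
      have h1 : algebraMap A K (c • x) = algebraMap PS K c * algebraMap A K x := by
        rw [Algebra.smul_def, map_mul, ← IsScalarTower.algebraMap_apply]
      rw [h1, Derivation.leibniz, hD']
      refine add_mem ?_ ?_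
      · have h2 : algebraMap PS K c • D' (algebraMap A K x) =
            (algebraMap PS A c) • D' (algebraMap A K x) := by
          rw [Algebra.smul_def (algebraMap PS A c), ← IsScalarTower.algebraMap_apply, smul_eq_mul]
        rw [h2]
        exact Submodule.smul_mem _ _ hx
      · rw [Finset.smul_sum]
        refine Submodule.sum_mem _ (fun i _ => ?_)
        have h3 : algebraMap A K x • (lam i * algebraMap PS K (der i c)) =
            (x * algebraMap PS A (der i c)) • lam i := by
          rw [Algebra.smul_def (x * _), map_mul, ← IsScalarTower.algebraMap_apply, smul_eq_mul]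
          ring
        rw [h3]
        exact Submodule.smul_mem _ _ (Submodule.subset_span (Or.inl ⟨i, rfl⟩))
  haveI : Module.Finite A T₀ :=
    Module.Finite.span_of_finite A ((Set.finite_range _).union (Set.finite_range _))
  have hk : ∀ c : k, D' (algebraMap k K c) = 0 := by
    intro c
    rw [IsScalarTower.algebraMap_apply k PS K, hD']
    refine Finset.sum_eq_zero (fun i _ => ?_)
    rw [Derivation.map_algebraMap, map_zero, mul_zero]
  let E : Derivation k A T₀ := Derivation.mk'
    { toFun := fun a => ⟨D' (algebraMap A K a), hmem a⟩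
      map_add' := fun a b => by
        apply Subtype.ext
        simp only [map_add, Submodule.coe_add]
      map_smul' := fun c a => by
        apply Subtype.ext
        have h1 : algebraMap A K (c • a) = algebraMap k K c * algebraMap A K a := by
          rw [Algebra.smul_def, map_mul, ← IsScalarTower.algebraMap_apply]
        simp only [RingHom.id_apply, Submodule.coe_smul_of_tower]
        rw [h1, Derivation.leibniz, hk, smul_zero, add_zero, smul_eq_mul, Algebra.smul_def] }
    (fun a b => by
      apply Subtype.ext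
      simp only [LinearMap.coe_mk, AddHom.coe_mk, Submodule.coe_add, Submodule.coe_smul_of_tower]
      rw [map_mul, Derivation.leibniz, Algebra.smul_def a, Algebra.smul_def b, smul_eq_mul,
        smul_eq_mul])
  obtain ⟨Ê, hÊ⟩ := exists_lift_derivation E
  refine ⟨(T₀.subtype ∘ₗ Ê).liftBaseChange K, fun a => ?_⟩
  rw [LinearMap.liftBaseChange_tmul, one_smul, LinearMap.comp_apply, hÊ]
  rfl

variable [IsFractionRing A K]

theorem exists_gamma :
    ∃ γ : K ⊗[A] AdicCompletion (maximalIdeal A) (Ω[A⁄k]) →ₗ[K] Ω[K⁄PS],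
      Function.Surjective γ ∧
      ∀ a : A, γ ((1 : K) ⊗ₜ[A] AdicCompletion.of (maximalIdeal A) (Ω[A⁄k]) (D k A a)) =
        D PS K (algebraMap A K a) := by
  haveI : Module.Finite A Ω[A⁄PS] := inferInstance
  obtain ⟨Ê₂, h₂⟩ := exists_lift_derivation
    ((KaehlerDifferential.map k PS A A).compDer (D k A))
  have hform : ∀ a : A, (((KaehlerDifferential.map PS PS A K) ∘ₗ Ê₂).liftBaseChange K)
      ((1 : K) ⊗ₜ[A] AdicCompletion.of (maximalIdeal A) (Ω[A⁄k]) (D k A a)) =
        D PS K (algebraMap A K a) := by
    intro a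
    rw [LinearMap.liftBaseChange_tmul, one_smul, LinearMap.comp_apply, h₂]
    have h3 : ((KaehlerDifferential.map k PS A A).compDer (D k A)) a =
        KaehlerDifferential.map k PS A A (D k A a) := rfl
    rw [h3, map_D, map_D]
    rfl
  refine ⟨((KaehlerDifferential.map PS PS A K) ∘ₗ Ê₂).liftBaseChange K, ?_, hform⟩
  rw [← LinearMap.range_eq_top, ← top_le_iff,
    ← span_range_map_derivation_of_isLocalization PS (S := A) K (nonZeroDivisors A),
    Submodule.span_le]
  rintro _ ⟨a, rfl⟩
  refine ⟨(1 : K) ⊗ₜ[A] AdicCompletion.of (maximalIdeal A) (Ω[A⁄k]) (D k A a), ?_⟩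
  rw [hform, Function.comp_apply, map_D]

variable [Module.Finite k (ResidueField A)]

open Groth.Agent.Lib.FredholmH3 in
theorem le_finrank (hder : ∀ i j, der i (X j) = if i = j then 1 else 0)
    (hinj : Function.Injective (algebraMap PS A)) :
    n ≤ Module.finrank K (K ⊗[A] AdicCompletion (maximalIdeal A) (Ω[A⁄k])) := by
  classical
  haveI := ComplKaehlerGenH3.finite_completed k A
  haveI : Module.Finite K (K ⊗[A] AdicCompletion (maximalIdeal A) (Ω[A⁄k])) := inferInstance
  have hF := isFred_mapBaseChange_of_finite (P := PS) (A := A) (K := K) hinj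
  obtain ⟨γ, hγs, hγ⟩ := exists_gamma k K A (PS := PS)
  let v : Fin n → K ⊗[A] AdicCompletion (maximalIdeal A) (Ω[A⁄k]) := fun i =>
    (1 : K) ⊗ₜ[A] AdicCompletion.of (maximalIdeal A) (Ω[A⁄k])
      (D k A (algebraMap PS A (X i)))
  let θ := Fintype.linearCombination K v
  have ha : LinearMap.range θ ≤ LinearMap.ker γ := by
    rw [Fintype.range_linearCombination, Submodule.span_le]
    rintro _ ⟨i, rfl⟩
    rw [SetLike.mem_coe, LinearMap.mem_ker, hγ, ← IsScalarTower.algebraMap_apply,
      Derivation.map_algebraMap]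
  haveI := hF.finite_ker
  haveI := hF.finite_coker
  have hr : Module.finrank K (LinearMap.ker (mapBaseChange ℤ PS K)) =
      Module.finrank K (Ω[K⁄PS]) := by
    let e : (Ω[K⁄ℤ] ⧸ LinearMap.range (mapBaseChange ℤ PS K)) ≃ₗ[K] Ω[K⁄PS] :=
      (KaehlerDifferential.exact_mapBaseChange_map ℤ PS K).linearEquivOfSurjective
        (KaehlerDifferential.map_surjective ℤ PS K)
    have h1 := hF.index_eq
    rw [e.finrank_eq] at h1
    omega
  have hb : Module.finrank K (LinearMap.ker θ) ≤ Module.finrank K (Ω[K⁄PS]) := by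
    have h1 : LinearMap.ker θ ≤
        Submodule.map (pdK k n der K) (LinearMap.ker (mapBaseChange ℤ PS K)) := by
      intro x hx
      by_contra hnot
      obtain ⟨φ, hφx, hφ⟩ := Submodule.exists_le_ker_of_notMem hnot
      let lam : Fin n → K := fun i => φ (Pi.single i 1)
      have hφ_eq : ∀ y : Fin n → K, φ y = ∑ i, lam i * y i := by
        intro y
        rw [LinearMap.pi_apply_eq_sum_univ φ y]
        refine Finset.sum_congr rfl (fun i _ => ?_)
        rw [smul_eq_mul, mul_comm]
        have hs : (fun j => if i = j then (1 : K) else 0) = Pi.single i 1 := by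
          funext j
          rw [Pi.single_apply]
          simp only [eq_comm]
        rw [hs]
      obtain ⟨D', hD'⟩ := exists_derivation k n der K lam (fun ξ hξ => by
        rw [← hφ_eq]
        exact hφ (Submodule.mem_map_of_mem hξ))
      obtain ⟨Ê, hÊ⟩ := exists_functional k n der K A lam D' hD'
      have h2 : Ê (θ x) = φ x := by
        rw [Fintype.linearCombination_apply, map_sum, hφ_eq]
        refine Finset.sum_congr rfl (fun i _ => ?_)
        rw [map_smul, hÊ, ← IsScalarTower.algebraMap_apply, hD', smul_eq_mul]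
        rw [Finset.sum_eq_single i]
        · rw [hder, if_pos rfl, map_one, mul_one, mul_comm]
        · intro j _ hji
          rw [hder, if_neg hji, map_zero, mul_zero]
        · intro hi
          exact absurd (Finset.mem_univ i) hi
      rw [LinearMap.mem_ker.1 hx, map_zero] at h2
      exact hφx h2.symm
    calc Module.finrank K (LinearMap.ker θ)
        ≤ Module.finrank K (Submodule.map (pdK k n der K)
            (LinearMap.ker (mapBaseChange ℤ PS K))) := Submodule.finrank_mono h1
      _ ≤ Module.finrank K (LinearMap.ker (mapBaseChange ℤ PS K)) :=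
          Submodule.finrank_map_le _ _
      _ = Module.finrank K (Ω[K⁄PS]) := hr
  have h3 := LinearMap.finrank_range_add_finrank_ker θ
  have h4 := LinearMap.finrank_range_add_finrank_ker γ
  have h5 : Module.finrank K (LinearMap.range γ) = Module.finrank K (Ω[K⁄PS]) := by
    rw [LinearMap.range_eq_top.2 hγs, finrank_top]
  have h6 : Module.finrank K (LinearMap.range θ) ≤ Module.finrank K (LinearMap.ker γ) :=
    Submodule.finrank_mono ha
  rw [Module.finrank_fin_fun] at h3
  omega

end Domain

end Groth.Agent.Lib.ComplKaehlerDimH3
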