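import Mathlib
import Groth.Agent.Lib.ComplKaehlerDim2_helper3
import Groth.Agent.Lib.FinitePS_helper3
import Groth.Agent.Lib.MonomialCharP_helper3

/-!
# Rank of completed differentials ≥ dimension, part 3: assembly (helper3)

EGA 0_IV 21.9-type statement: for a complete Noetherian local `k`-algebra `A` with `κ_A` finite
over `k`, a prime `p` and a minimal prime `q ⊆ p`: `dim A/q ≤ rank_{κ(p)} Ω̂_{A/k} ⊗ κ(p)`.
APPEND-ONLY once landed.
-/

set_option autoImplicit false

namespace Groth.Agent.Lib.ComplKaehlerDimH3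

open IsLocalRing KaehlerDifferential TensorProduct

universe u

section Assembly

variable (k A : Type u) [Field k] [CommRing A] [IsLocalRing A] [IsNoetherianRing A] [Algebra k A]
  [IsAdicComplete (maximalIdeal A) A] [Module.Finite k (ResidueField A)]

/-- the residue field of a quotient is still finite over `k` -/
theorem finite_residueField_quotient (q : Ideal A) [IsLocalRing (A ⧸ q)] :
    Module.Finite k (ResidueField (A ⧸ q)) := by
  let f : A →ₐ[k] ResidueField (A ⧸ q) :=
    (IsScalarTower.toAlgHom k (A ⧸ q) (ResidueField (A ⧸ q))).comp (Ideal.Quotient.mkₐ k q)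
  have hf : ∀ a ∈ maximalIdeal A, f a = 0 := by
    intro a ha
    have h1 : Ideal.Quotient.mk q a ∈ maximalIdeal (A ⧸ q) := by
      rw [← MonomialCharPH3.map_mk_maximalIdeal A q]
      exact Ideal.mem_map_of_mem _ ha
    exact (residue_eq_zero_iff _).2 h1
  let g : (A ⧸ maximalIdeal A) →ₐ[k] ResidueField (A ⧸ q) :=
    Ideal.Quotient.liftₐ (maximalIdeal A) f hf
  have hg : Function.Surjective g := by
    intro y
    obtain ⟨b, rfl⟩ := residue_surjective y
    obtain ⟨a, rfl⟩ := Ideal.Quotient.mk_surjective b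
    exact ⟨Ideal.Quotient.mk _ a, rfl⟩
  haveI : Module.Finite k (A ⧸ maximalIdeal A) := ‹Module.Finite k (ResidueField A)›
  exact Module.Finite.of_surjective g.toLinearMap hg

/-- domain case with `K = Frac A`: `dim A ≤ dim_K K ⊗ Ω̂`. -/
theorem dim_le_finrank_fractionRing [IsDomain A] :
    ∃ n : ℕ, ringKrullDim A = n ∧ n ≤ Module.finrank (FractionRing A)
      (FractionRing A ⊗[A] AdicCompletion (maximalIdeal A) (Ω[A⁄k])) := by
  classical
  obtain ⟨n, w, hwinj, -, hwfin, hdim⟩ :=
    Groth.Agent.Lib.FinitePSH3.exists_powerSeries_finite (k₀ := k) (A := A)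
  refine ⟨n, hdim, ?_⟩
  letI : Algebra (MvPowerSeries (Fin n) k) A := w.toRingHom.toAlgebra
  haveI : IsScalarTower k (MvPowerSeries (Fin n) k) A :=
    IsScalarTower.of_algebraMap_eq (fun c => (w.commutes c).symm)
  haveI : Module.Finite (MvPowerSeries (Fin n) k) A := hwfin
  haveI : IsDomain (MvPowerSeries (Fin n) k) := NoZeroDivisors.to_isDomain _
  exact le_finrank k n (MvPowerSeries.pderiv k) MvPowerSeries.X (FractionRing A) A
    (fun i j => by
      by_cases h : i = j
      · subst h
        rw [MvPowerSeries.pderiv_X_self, if_pos rfl]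
      · rw [MvPowerSeries.pderiv_X_of_ne (Ne.symm h), if_neg h])
    hwinj

theorem main3847 (p q : Ideal A) [p.IsPrime] (hq : q ∈ minimalPrimes A) (hqp : q ≤ p) :
    ringKrullDim (A ⧸ q) ≤
      (Cardinal.toENat (Module.rank p.ResidueField
        (TensorProduct A p.ResidueField
          (AdicCompletion (maximalIdeal A) (KaehlerDifferential k A)))) : WithBot ℕ∞) := by
  haveI : q.IsPrime := Ideal.minimalPrimes_isPrime hq
  haveI : IsLocalRing (A ⧸ q) :=
    IsLocalRing.of_surjective' (Ideal.Quotient.mk q) Ideal.Quotient.mk_surjective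
  haveI : IsAdicComplete (maximalIdeal (A ⧸ q)) (A ⧸ q) :=
    MonomialCharPH3.isAdicComplete_quotient A q
  haveI : Module.Finite k (ResidueField (A ⧸ q)) := finite_residueField_quotient k A q
  obtain ⟨n, hdim, hn⟩ := dim_le_finrank_fractionRing k (A ⧸ q)
  haveI : Module.Finite (A ⧸ q) (AdicCompletion (maximalIdeal (A ⧸ q)) (Ω[(A ⧸ q)⁄k])) :=
    ComplKaehlerGenH3.finite_completed k (A ⧸ q)
  haveI : Module.Finite A (AdicCompletion (maximalIdeal (A ⧸ q)) (Ω[(A ⧸ q)⁄k])) :=
    Module.Finite.trans (A ⧸ q) _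
  obtain ⟨φ, hφ⟩ := exists_lift_derivation
    ((((AdicCompletion.of (maximalIdeal (A ⧸ q)) (Ω[(A ⧸ q)⁄k])).compDer
      (D k (A ⧸ q))).compAlgebraMap A))
  have hφs : Function.Surjective φ := by
    rw [← LinearMap.range_eq_top, ← top_le_iff]
    have h1 := ComplKaehlerGenH3.span_of_D k (A ⧸ q)
    have h2 := Submodule.restrictScalars_span A (A ⧸ q) Ideal.Quotient.mk_surjective
      (Set.range fun a : A ⧸ q =>
        AdicCompletion.of (maximalIdeal (A ⧸ q)) (Ω[(A ⧸ q)⁄k]) (D k (A ⧸ q) a))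
    rw [h1, Submodule.restrictScalars_top] at h2
    rw [h2, Submodule.span_le]
    rintro _ ⟨b, rfl⟩
    obtain ⟨a, rfl⟩ := Ideal.Quotient.mk_surjective b
    exact ⟨AdicCompletion.of (maximalIdeal A) (Ω[A⁄k]) (D k A a), hφ a⟩
  haveI := ComplKaehlerGenH3.finite_completed k A
  have h3 := finrank_tensor_le_of_surjective (A := A) (A' := A ⧸ q) (FractionRing (A ⧸ q)) φ hφs
  have h4 := finrank_tensor_le_residueField p (AdicCompletion (maximalIdeal A) (Ω[A⁄k]))
    (FractionRing (A ⧸ q)) (fun a ha h0 => by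
      rw [IsScalarTower.algebraMap_apply A (A ⧸ q) (FractionRing (A ⧸ q)),
        map_eq_zero_iff _ (IsFractionRing.injective (A ⧸ q) (FractionRing (A ⧸ q)))] at h0
      exact ha (hqp (Ideal.Quotient.eq_zero_iff_mem.1 h0)))
  have h5 : n ≤ Module.finrank p.ResidueField
      (p.ResidueField ⊗[A] AdicCompletion (maximalIdeal A) (Ω[A⁄k])) := hn.trans (h3.trans h4)
  rw [hdim, ← Module.finrank_eq_rank, Cardinal.toENat_nat]
  exact_mod_cast h5

end Assembly

end Groth.Agent.Lib.ComplKaehlerDimH3
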