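import Mathlib
import Groth.Agent.Lib.CIInv_helper8
import Groth.Agent.Lib.FlatUnramPt_helper4
import Groth.Agent.Lib.FlatRegSeq_helper5
import Groth.Agent.Lib.Serre_helper5
import Groth.Agent.Lib.PSNormal_helper3
import Groth.Agent.Lib.RegPS_helper3

/-!
# Finite over a regular normal local ring + unramified at `p` on a full-dimensional component
  ⇒ étale at `p` (helper3)

APPEND-ONLY once landed.
-/

set_option autoImplicit false
set_option maxSynthPendingDepth 3

namespace Groth.Agent.Lib.ComplKaehlerEtaleH3

open IsLocalRing

universe u

section RS

open Groth.Agent.DepthLib RingTheory.Sequence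

/-- in a regular local ring, `dim` many generators of the maximal ideal form a regular sequence -/
theorem isWeaklyRegular_of_length_eq (B : Type u) [CommRing B] [IsRegularLocalRing B]
    (ys : List B) (hof : Ideal.ofList ys = maximalIdeal B)
    (hlen : ((ys.length : ℕ) : WithBot ℕ∞) = ringKrullDim B) : IsWeaklyRegular B ys := by
  have hCM : LocCoh.IsCohenMacaulayModule B B := _root_.RegUCH8.isCM_of_regular B
  have hmem : ∀ x ∈ ys, x ∈ maximalIdeal B := fun x hx => hof ▸ Ideal.subset_span hx
  rw [(isCM_list ys B hCM hmem).1, supportDim_quot_smul_top_self,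
    Module.supportDim_self_eq_ringKrullDim, hof, ← hlen]
  have : ringKrullDim (B ⧸ maximalIdeal B) = 0 :=
    ringKrullDim_eq_zero_of_isField
      ((Ideal.Quotient.maximal_ideal_iff_isField_quotient _).1 (maximalIdeal.isMaximal B))
  rw [this, zero_add]

end RS

section Height

theorem height_le_height_comap {A S : Type*} [CommRing A] [CommRing S] (f : A →+* S)
    (hf : Function.Surjective f) (P' : Ideal S) [P'.IsPrime] :
    P'.height ≤ (P'.comap f).height := by
  have h1 := PrimeSpectrum.height_eq_orderHeight (⟨P', inferInstance⟩ : PrimeSpectrum S)
  have h2 := PrimeSpectrum.height_eq_orderHeight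
    (PrimeSpectrum.comap f (⟨P', inferInstance⟩ : PrimeSpectrum S))
  have h3 := Order.height_le_height_apply_of_strictMono _
    (RingHom.strictMono_comap_of_surjective hf) (⟨P', inferInstance⟩ : PrimeSpectrum S)
  rw [← h1, ← h2] at h3
  exact h3

end Height

section Main

variable {PS A : Type u} [CommRing PS] [IsDomain PS] [IsRegularLocalRing PS] [IsIntegrallyClosed PS]
  [CommRing A] [IsNoetherianRing A] [Algebra PS A] [Module.Finite PS A]

open RingTheory.Sequence in
/-- finite over regular normal, unramified at `p ⊇ q` with `PS → A/q` injective ⇒ étale at `p` -/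
theorem isEtaleAt_of_isUnramifiedAt (p q : Ideal A) [p.IsPrime] [q.IsPrime] (hqp : q ≤ p)
    (hinj : Function.Injective (algebraMap PS (A ⧸ q)))
    (hunr : Algebra.IsUnramifiedAt PS p) : Algebra.IsEtaleAt PS p := by
  classical
  -- the prime below
  haveI : (p.under PS).IsPrime := inferInstance
  haveI : p.LiesOver (p.under PS) := ⟨rfl⟩
  letI := Localization.AtPrime.algebraOfLiesOver (p.under PS) p
  haveI hreg : IsRegularLocalRing (Localization.AtPrime (p.under PS)) :=
    Groth.Agent.Serre.localization_regular PS (p.under PS)
  haveI hloc : IsLocalHom (algebraMap (Localization.AtPrime (p.under PS))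
      (Localization.AtPrime p)) :=
    Localization.isLocalHom_localRingHom (p.under PS) p (algebraMap PS A) Ideal.LiesOver.over
  haveI hunr' : Algebra.FormallyUnramified PS (Localization.AtPrime p) := hunr
  haveI : Algebra.FormallyUnramified (Localization.AtPrime (p.under PS))
      (Localization.AtPrime p) :=
    Algebra.FormallyUnramified.of_restrictScalars PS _ _
  haveI : Algebra.EssFiniteType A (Localization.AtPrime p) :=
    Algebra.EssFiniteType.of_isLocalization _ p.primeCompl
  haveI : Algebra.EssFiniteType PS (Localization.AtPrime p) :=
    Algebra.EssFiniteType.comp PS A _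
  haveI : Algebra.EssFiniteType (Localization.AtPrime (p.under PS)) (Localization.AtPrime p) :=
    Algebra.EssFiniteType.of_comp PS _ _
  have hmax : (maximalIdeal (Localization.AtPrime (p.under PS))).map
      (algebraMap (Localization.AtPrime (p.under PS)) (Localization.AtPrime p)) =
      maximalIdeal (Localization.AtPrime p) :=
    Algebra.FormallyUnramified.map_maximalIdeal
  -- heights
  have hht : (p.under PS).height ≤ p.height := by
    haveI : IsDomain (A ⧸ q) := inferInstance
    haveI : FaithfulSMul PS (A ⧸ q) := (faithfulSMul_iff_algebraMap_injective PS (A ⧸ q)).2 hinj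
    haveI : Module.Finite PS (A ⧸ q) :=
      Module.Finite.of_surjective (Ideal.Quotient.mkₐ PS q).toLinearMap
        (Ideal.Quotient.mkₐ_surjective PS q)
    haveI : Algebra.IsIntegral PS (A ⧸ q) := Algebra.IsIntegral.of_finite PS (A ⧸ q)
    haveI hP' : (p.map (Ideal.Quotient.mk q)).IsPrime :=
      Ideal.map_isPrime_of_surjective Ideal.Quotient.mk_surjective
        (by rwa [Ideal.mk_ker])
    have hcomap : (p.map (Ideal.Quotient.mk q)).comap (Ideal.Quotient.mk q) = p := by
      rw [Ideal.comap_map_of_surjective _ Ideal.Quotient.mk_surjective, ← RingHom.ker_eq_comap_bot,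
        Ideal.mk_ker, sup_eq_left]
      exact hqp
    haveI : (p.map (Ideal.Quotient.mk q)).LiesOver (p.under PS) := by
      refine ⟨?_⟩
      rw [Ideal.under_def, Ideal.under_def, IsScalarTower.algebraMap_eq PS A (A ⧸ q),
        ← Ideal.comap_comap, Ideal.Quotient.algebraMap_eq, hcomap]
    have h1 := Ideal.height_eq_height_add_of_liesOver_of_hasGoingDown (p.under PS)
      (p.map (Ideal.Quotient.mk q))
    have h2 := height_le_height_comap (Ideal.Quotient.mk q) Ideal.Quotient.mk_surjective
      (p.map (Ideal.Quotient.mk q))
    rw [hcomap] at h2
    calc (p.under PS).height ≤ (p.map (Ideal.Quotient.mk q)).height := by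
          rw [h1]; exact le_self_add
      _ ≤ p.height := h2
  have hdimR : ringKrullDim (Localization.AtPrime (p.under PS)) = (p.under PS).height :=
    IsLocalization.AtPrime.ringKrullDim_eq_height (p.under PS) _
  have hdimB : ringKrullDim (Localization.AtPrime p) = p.height :=
    IsLocalization.AtPrime.ringKrullDim_eq_height p _
  -- regular system of parameters
  obtain ⟨xs, hxs, hlen, hxsreg⟩ :=
    Groth.Agent.Lib.CIInvH8.exists_rsop (Localization.AtPrime (p.under PS))
  have hys : Ideal.ofList (xs.map (algebraMap (Localization.AtPrime (p.under PS))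
      (Localization.AtPrime p))) = maximalIdeal (Localization.AtPrime p) := by
    rw [← Ideal.map_ofList, hxs, hmax]
  have hle : ((xs.length : ℕ) : WithBot ℕ∞) ≤ ringKrullDim (Localization.AtPrime p) := by
    rw [hlen, hdimR, hdimB]
    exact_mod_cast hht
  haveI hregB : IsRegularLocalRing (Localization.AtPrime p) := by
    apply IsRegularLocalRing.of_spanFinrank_maximalIdeal_le
    refine le_trans ?_ hle
    have h1 : (maximalIdeal (Localization.AtPrime p)).spanFinrank ≤ xs.length := by
      rw [← hys, Ideal.ofList]
      have hfin : {r | r ∈ xs.map (algebraMap (Localization.AtPrime (p.under PS))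
          (Localization.AtPrime p))}.Finite := List.finite_toSet _
      refine (Submodule.spanFinrank_span_le_ncard_of_finite hfin).trans ?_
      have h2 : {r | r ∈ xs.map (algebraMap (Localization.AtPrime (p.under PS))
          (Localization.AtPrime p))}.ncard ≤ (xs.map (algebraMap (Localization.AtPrime (p.under PS))
          (Localization.AtPrime p))).length := by
        have h3 : {r | r ∈ xs.map (algebraMap (Localization.AtPrime (p.under PS))
            (Localization.AtPrime p))} = ((xs.map (algebraMap (Localization.AtPrime (p.under PS))
            (Localization.AtPrime p))).toFinset : Set (Localization.AtPrime p)) := by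
          ext r; simp
        rw [h3, Set.ncard_coe_finset]
        exact List.toFinset_card_le _
      rwa [List.length_map] at h2
    exact_mod_cast h1
  have hlenB : (((xs.map (algebraMap (Localization.AtPrime (p.under PS))
      (Localization.AtPrime p))).length : ℕ) : WithBot ℕ∞) =
      ringKrullDim (Localization.AtPrime p) := by
    rw [List.length_map]
    refine le_antisymm hle ?_
    rw [← IsRegularLocalRing.spanFinrank_maximalIdeal]
    have h1 : (maximalIdeal (Localization.AtPrime p)).spanFinrank ≤ xs.length := by
      rw [← hys, Ideal.ofList]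
      have hfin : {r | r ∈ xs.map (algebraMap (Localization.AtPrime (p.under PS))
          (Localization.AtPrime p))}.Finite := List.finite_toSet _
      refine (Submodule.spanFinrank_span_le_ncard_of_finite hfin).trans ?_
      have h3 : {r | r ∈ xs.map (algebraMap (Localization.AtPrime (p.under PS))
          (Localization.AtPrime p))} = ((xs.map (algebraMap (Localization.AtPrime (p.under PS))
          (Localization.AtPrime p))).toFinset : Set (Localization.AtPrime p)) := by
        ext r; simp
      rw [h3, Set.ncard_coe_finset]
      exact (List.toFinset_card_le _).trans (by rw [List.length_map])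
    exact_mod_cast h1
  have hysreg := isWeaklyRegular_of_length_eq (Localization.AtPrime p) _ hys hlenB
  rw [isWeaklyRegular_map_algebraMap_iff] at hysreg
  haveI hflat : Module.Flat (Localization.AtPrime (p.under PS)) (Localization.AtPrime p) :=
    Groth.Agent.FlatRegSeq.flat_of_isWeaklyRegular (A := Localization.AtPrime (p.under PS))
      (B := Localization.AtPrime p) (Localization.AtPrime p) xs hxs hysreg
  -- flat + unramified ⇒ smooth
  have hfp : (algebraMap PS A).FinitePresentation := by
    rw [← RingHom.FinitePresentation.of_finiteType]
    exact RingHom.FiniteType.of_finite (RingHom.finite_algebraMap.2 inferInstance)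
  have hsm := Groth.Agent.Lib.FlatUnramPtH4.formallySmooth_localRingHom (algebraMap PS A) hfp
    (p.under PS) p Ideal.LiesOver.over
    (RingHom.flat_algebraMap_iff.2 hflat)
    (RingHom.formallyUnramified_algebraMap.2 inferInstance)
  haveI : Algebra.FormallySmooth (Localization.AtPrime (p.under PS)) (Localization.AtPrime p) :=
    RingHom.formallySmooth_algebraMap.1 hsm
  haveI : Algebra.FormallyEtale PS (Localization.AtPrime (p.under PS)) :=
    Algebra.FormallyEtale.of_isLocalization (p.under PS).primeCompl
  haveI : Algebra.FormallySmooth PS (Localization.AtPrime p) :=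
    Algebra.FormallySmooth.comp PS (Localization.AtPrime (p.under PS)) _
  exact Algebra.FormallyEtale.of_formallyUnramified_and_formallySmooth

end Main

end Groth.Agent.Lib.ComplKaehlerEtaleH3
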