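import Mathlib
import Groth.Agent.Lib.ComplKaehlerDim3_helper3
import Groth.Agent.Lib.ComplKaehlerSeq_helper3
import Groth.Agent.Lib.ComplKaehlerPS_helper3

/-!
# Generators of `Ω̂_p` versus finite maps from power series rings unramified at `p` (helper3)

EGA-type statement: for a complete Noetherian local `k`-algebra `A` (residue field finite over `k`)
and a prime `p ≠ 𝔪` on a component of maximal dimension, `Ω̂_p` is generated by `m` elements iff
there is a finite local `k`-map `k[[T_1..T_m]] → A` unramified at `p`.  APPEND-ONLY once landed.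
-/

set_option autoImplicit false
set_option maxSynthPendingDepth 3

namespace Groth.Agent.Lib.ComplKaehlerUnramH3

open IsLocalRing KaehlerDifferential TensorProduct MvPowerSeries
open Groth.Agent.Lib.ComplKaehlerDimH3

universe u

section FinitePS

open Groth.Agent.Lib.FinitePSH3 in
theorem exists_algHom_finite {k₀ A : Type u} [Field k₀] [CommRing A] [IsLocalRing A]
    [IsNoetherianRing A] [IsAdicComplete (maximalIdeal A) A] [Algebra k₀ A]
    [Module.Finite k₀ (ResidueField A)] (n : ℕ) (x : Fin n → A)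
    (hxm : ∀ i, x i ∈ maximalIdeal A)
    (hrad : maximalIdeal A ≤ (Ideal.span (Set.range x)).radical) :
    ∃ w : MvPowerSeries (Fin n) k₀ →ₐ[k₀] A, (∀ i, w (MvPowerSeries.X i) = x i) ∧
      IsLocalHom w.toRingHom ∧ w.toRingHom.Finite := by
  classical
  haveI hfin𝔪 : Module.Finite k₀ (A ⧸ maximalIdeal A) := ‹Module.Finite k₀ (ResidueField A)›
  obtain ⟨I, hI⟩ : ∃ I : Ideal A, I = Ideal.span (Set.range x) := ⟨_, rfl⟩
  have hI𝔪 : I ≤ maximalIdeal A := by
    rw [hI, Ideal.span_le]
    rintro _ ⟨i, rfl⟩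
    exact hxm i
  rw [← hI] at hrad
  obtain ⟨N, hN⟩ := Ideal.exists_pow_le_of_le_radical_of_fg hrad
    (IsNoetherian.noetherian (maximalIdeal A))
  haveI : Module.Finite k₀ (A ⧸ maximalIdeal A ^ N) := finite_quotient_pow N
  haveI hfinI : Module.Finite k₀ (A ⧸ I) :=
    Module.Finite.of_surjective ((Submodule.factor hN).restrictScalars k₀)
      (Submodule.factor_surjective hN)
  haveI : IsAdicComplete (maximalIdeal k₀) k₀ := by
    rw [IsLocalRing.maximalIdeal_eq_bot]
    infer_instance
  obtain ⟨w, hw⟩ := Groth.Agent.Lib.RegPSH3.exists_algHom_X (Λ := k₀) n x hxm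
  have hmap : (maximalIdeal (MvPowerSeries (Fin n) k₀)).map w.toRingHom = I := by
    rw [Groth.Agent.Lib.ComplKaehlerH3.maximalIdeal_eq_span_X, Ideal.map_span, hI]
    congr 1
    ext a
    constructor
    · rintro ⟨_, ⟨i, rfl⟩, rfl⟩
      exact ⟨i, (hw i).symm⟩
    · rintro ⟨i, rfl⟩
      exact ⟨_, ⟨i, rfl⟩, hw i⟩
  have hlocal : IsLocalHom w.toRingHom := by
    refine ⟨fun b hb => ?_⟩
    by_contra hnu
    have hb𝔪 : b ∈ maximalIdeal (MvPowerSeries (Fin n) k₀) := (IsLocalRing.mem_maximalIdeal b).2 hnu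
    have h1 : w.toRingHom b ∈ maximalIdeal A := hI𝔪 (hmap ▸ Ideal.mem_map_of_mem _ hb𝔪)
    exact (IsLocalRing.mem_maximalIdeal _).1 h1 hb
  have hfinite : w.toRingHom.Finite := by
    letI : Algebra (MvPowerSeries (Fin n) k₀) A := w.toRingHom.toAlgebra
    haveI : IsScalarTower k₀ (MvPowerSeries (Fin n) k₀) A :=
      IsScalarTower.of_algebraMap_eq fun c => (w.commutes c).symm
    show Module.Finite (MvPowerSeries (Fin n) k₀) A
    have htop : ∀ (m : ℕ) (a : A),
        a ∈ (maximalIdeal (MvPowerSeries (Fin n) k₀) ^ m •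
          (⊤ : Submodule (MvPowerSeries (Fin n) k₀) A)) ↔ a ∈ I ^ m := by
      intro m a
      rw [Ideal.smul_top_eq_map, Submodule.restrictScalars_mem, Ideal.map_pow]
      rw [show Ideal.map (algebraMap (MvPowerSeries (Fin n) k₀) A)
        (maximalIdeal (MvPowerSeries (Fin n) k₀)) = I from hmap]
    haveI : IsHausdorff (maximalIdeal (MvPowerSeries (Fin n) k₀)) A := by
      refine ⟨fun a ha => ?_⟩
      refine IsHausdorff.haus (inferInstance : IsHausdorff (maximalIdeal A) A) a fun m => ?_
      rw [SModEq.zero, smul_eq_mul, Ideal.mul_top]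
      exact Ideal.pow_right_mono hI𝔪 m ((htop m a).1 (SModEq.zero.1 (ha m)))
    obtain ⟨t, c, hc⟩ := exists_span_mod (k₀ := k₀) I
    haveI := Groth.Agent.Lib.ComplKaehlerH3.isPrecomplete_pi (A := MvPowerSeries (Fin n) k₀)
      (r := t) (maximalIdeal (MvPowerSeries (Fin n) k₀))
    have h1 : Function.Surjective
        ((Submodule.mkQ (maximalIdeal (MvPowerSeries (Fin n) k₀) •
            (⊤ : Submodule (MvPowerSeries (Fin n) k₀) A))) ∘ₗ
          (Fintype.linearCombination (MvPowerSeries (Fin n) k₀) c)) := by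
      intro y
      obtain ⟨a, rfl⟩ := Submodule.mkQ_surjective _ y
      obtain ⟨l, hl⟩ := hc a
      refine ⟨fun i => MvPowerSeries.C (l i), ?_⟩
      rw [LinearMap.comp_apply, Submodule.mkQ_apply, Submodule.mkQ_apply, Submodule.Quotient.eq,
        Fintype.linearCombination_apply]
      have e1 : ∀ i, (MvPowerSeries.C (l i) : MvPowerSeries (Fin n) k₀) • c i = l i • c i := by
        intro i
        rw [Algebra.smul_def, Algebra.smul_def]
        show w (MvPowerSeries.C (l i)) * c i = _
        rw [MvPowerSeries.c_eq_algebraMap, w.commutes]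
      simp only [e1]
      have h2 := (htop 1 (a - ∑ i, l i • c i)).2 (by rw [pow_one]; exact hl)
      rw [pow_one] at h2
      rw [← neg_sub]
      exact Submodule.neg_mem _ h2
    exact Module.Finite.of_surjective _
      (surjective_of_mkQ_comp_surjective
        (I := maximalIdeal (MvPowerSeries (Fin n) k₀)) h1)
  exact ⟨w, hw, hlocal, hfinite⟩

end FinitePS

section Params

theorem exists_params_not_mem {A : Type*} [CommRing A] [IsLocalRing A] [IsNoetherianRing A]
    (p : Ideal A) [p.IsPrime] (hp : p ≠ maximalIdeal A) (m : ℕ) (hm : ringKrullDim A ≤ m) :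
    ∃ y : Fin m → A, (∀ i, y i ∈ maximalIdeal A ∧ y i ∉ p) ∧
      maximalIdeal A ≤ (Ideal.span (Set.range y)).radical := by
  classical
  obtain ⟨s, hsmin, hscard⟩ :=
    Ideal.exists_finset_card_eq_height_of_isNoetherianRing (maximalIdeal A)
  have hI𝔪 : Ideal.span (s : Set A) ≤ maximalIdeal A := hsmin.1.2
  have hrad : maximalIdeal A ≤ (Ideal.span (s : Set A)).radical := by
    rw [← Ideal.sInf_minimalPrimes]
    refine le_sInf fun P hP => ?_
    exact hsmin.2 ⟨hP.1.1, hP.1.2⟩ (IsLocalRing.le_maximalIdeal hP.1.1.ne_top)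
  have hcard : s.card ≤ m := by
    have h1 : ((s.card : ℕ∞) : WithBot ℕ∞) ≤ m := by
      rw [hscard, IsLocalRing.maximalIdeal_height_eq_ringKrullDim]
      exact hm
    exact_mod_cast h1
  obtain ⟨z₀, hz₀s, hz₀p⟩ : ∃ z₀ ∈ s, z₀ ∉ p := by
    by_contra hcon
    push_neg at hcon
    have h1 : Ideal.span (s : Set A) ≤ p := Ideal.span_le.2 hcon
    have h2 : maximalIdeal A ≤ p := by
      refine hrad.trans ?_
      rw [← Ideal.IsPrime.radical (I := p) inferInstance]
      exact Ideal.radical_mono h1
    exact hp (le_antisymm (IsLocalRing.le_maximalIdeal (Ideal.IsPrime.ne_top inferInstance)) h2)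
  let f : Fin m → A := fun i =>
    if h : i.val < s.card then (s.equivFin.symm ⟨i.val, h⟩ : A) else z₀
  have hfs : ∀ i, f i ∈ s := by
    intro i
    simp only [f]
    split_ifs with h
    · exact (s.equivFin.symm ⟨i.val, h⟩).2
    · exact hz₀s
  have hsf : ∀ z ∈ s, ∃ i, f i = z := by
    intro z hz
    refine ⟨⟨(s.equivFin ⟨z, hz⟩).val, lt_of_lt_of_le (s.equivFin ⟨z, hz⟩).isLt hcard⟩, ?_⟩
    simp only [f]
    rw [dif_pos (s.equivFin ⟨z, hz⟩).isLt]
    simp
  let y : Fin m → A := fun i => if f i ∈ p then f i + z₀ else f i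
  have hz₀𝔪 : z₀ ∈ maximalIdeal A := hI𝔪 (Ideal.subset_span hz₀s)
  have hf𝔪 : ∀ i, f i ∈ maximalIdeal A := fun i => hI𝔪 (Ideal.subset_span (hfs i))
  refine ⟨y, fun i => ⟨?_, ?_⟩, ?_⟩
  · simp only [y]
    split_ifs
    · exact Ideal.add_mem _ (hf𝔪 i) hz₀𝔪
    · exact hf𝔪 i
  · simp only [y]
    split_ifs with h
    · intro h2
      exact hz₀p ((Ideal.add_mem_iff_right p h).1 h2)
    · exact h
  · refine hrad.trans (Ideal.radical_mono ?_)
    have hz₀y : z₀ ∈ Ideal.span (Set.range y) := by
      obtain ⟨i₀, hi₀⟩ := hsf z₀ hz₀s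
      have : y i₀ = z₀ := by
        simp only [y]
        rw [hi₀, if_neg hz₀p]
      rw [← this]
      exact Ideal.subset_span ⟨i₀, rfl⟩
    rw [Ideal.span_le]
    intro z hz
    obtain ⟨i, hi⟩ := hsf z hz
    by_cases h : f i ∈ p
    · have h1 : y i = z + z₀ := by
        simp only [y]
        rw [if_pos h, hi]
      have h2 : z = y i - z₀ := by rw [h1, add_sub_cancel_right]
      rw [SetLike.mem_coe, h2]
      exact Ideal.sub_mem _ (Ideal.subset_span ⟨i, rfl⟩) hz₀y
    · have h1 : y i = z := by
        simp only [y]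
        rw [if_neg h, hi]
      rw [SetLike.mem_coe, ← h1]
      exact Ideal.subset_span ⟨i, rfl⟩

end Params

section Loc

variable {A : Type*} [CommRing A] (p : Ideal A) [p.IsPrime] (N : Type*) [AddCommGroup N]
  [Module A N]

theorem finrank_tensor_le_of_span (m : ℕ) (s : Fin m → LocalizedModule p.primeCompl N)
    (hs : Submodule.span (Localization.AtPrime p) (Set.range s) = ⊤) :
    Module.finrank p.ResidueField (p.ResidueField ⊗[A] N) ≤ m := by
  have hbc : IsBaseChange (Localization.AtPrime p) (LocalizedModule.mkLinearMap p.primeCompl N) :=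
    IsLocalizedModule.isBaseChange p.primeCompl (Localization.AtPrime p) _
  have e₁ := AlgebraTensorModule.cancelBaseChange A (Localization.AtPrime p)
    p.ResidueField p.ResidueField N
  have e₂ : p.ResidueField ⊗[Localization.AtPrime p] (Localization.AtPrime p ⊗[A] N)
      ≃ₗ[p.ResidueField] p.ResidueField ⊗[Localization.AtPrime p]
        LocalizedModule p.primeCompl N :=
    hbc.equiv.baseChange (Localization.AtPrime p) p.ResidueField _ _
  rw [← e₁.finrank_eq, e₂.finrank_eq]
  have h2 : Submodule.span p.ResidueField (Set.range fun i =>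
      (1 : p.ResidueField) ⊗ₜ[Localization.AtPrime p] s i) = ⊤ := by
    have h3 := Submodule.baseChange_span (R := Localization.AtPrime p) (A := p.ResidueField)
      (Set.range s)
    rw [hs, Submodule.baseChange_top, ← Set.range_comp] at h3
    exact h3.symm
  have h4 := finrank_range_le_card (R := p.ResidueField)
    (fun i => (1 : p.ResidueField) ⊗ₜ[Localization.AtPrime p] s i)
  rw [Set.finrank, h2, finrank_top, Fintype.card_fin] at h4
  exact h4

variable {N}

/-- generation of the localization in terms of elements -/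
theorem span_localized_eq_top_iff (G : Set N) :
    Submodule.span (Localization.AtPrime p)
        ((LocalizedModule.mkLinearMap p.primeCompl N) '' G) = ⊤ ↔
      ∀ ξ : N, ∃ s : A, s ∉ p ∧ s • ξ ∈ Submodule.span A G := by
  rw [← Submodule.localized'_span (Localization.AtPrime p) p.primeCompl
    (LocalizedModule.mkLinearMap p.primeCompl N)]
  constructor
  · intro h ξ
    have h1 : LocalizedModule.mkLinearMap p.primeCompl N ξ ∈
        (Submodule.span A G).localized' (Localization.AtPrime p) p.primeCompl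
          (LocalizedModule.mkLinearMap p.primeCompl N) := by
      rw [h]; trivial
    obtain ⟨n₀, hn₀, s, hs⟩ := h1
    rw [IsLocalizedModule.mk'_eq_iff] at hs
    have hs' : LocalizedModule.mkLinearMap p.primeCompl N n₀ =
        LocalizedModule.mkLinearMap p.primeCompl N ((s : A) • ξ) := by
      rw [hs, map_smul]
      rfl
    obtain ⟨c, hc⟩ := IsLocalizedModule.exists_of_eq (S := p.primeCompl) hs'
    refine ⟨(c : A) * (s : A), (c * s).2, ?_⟩
    rw [mul_smul]
    have h2 : (c : A) • ((s : A) • ξ) = c • ((s : A) • ξ) := rfl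
    rw [h2, ← hc]
    exact Submodule.smul_mem _ _ hn₀
  · intro h
    rw [eq_top_iff]
    rintro y -
    obtain ⟨⟨ξ, t⟩, hy⟩ := IsLocalizedModule.surj p.primeCompl
      (LocalizedModule.mkLinearMap p.primeCompl N) y
    obtain ⟨s, hs, hsξ⟩ := h ξ
    refine ⟨s • ξ, hsξ, ⟨s, hs⟩ * t, ?_⟩
    rw [IsLocalizedModule.mk'_eq_iff, mul_smul, hy, map_smul]
    rfl

end Loc

section Kaehler

variable {R A : Type*} [CommRing R] [CommRing A] [Algebra R A] (p : Ideal A) [p.IsPrime]

theorem subsingleton_kaehler_localization_iff :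
    Subsingleton (Ω[Localization.AtPrime p⁄R]) ↔
      ∀ ω : Ω[A⁄R], ∃ s : A, s ∉ p ∧ s • ω = 0 := by
  haveI : IsLocalizedModule p.primeCompl (KaehlerDifferential.map R R A (Localization.AtPrime p)) :=
    KaehlerDifferential.isLocalizedModule_map R A (Localization.AtPrime p) p.primeCompl
  constructor
  · intro h ω
    have h1 : KaehlerDifferential.map R R A (Localization.AtPrime p) ω =
        KaehlerDifferential.map R R A (Localization.AtPrime p) 0 := Subsingleton.elim _ _
    obtain ⟨c, hc⟩ := IsLocalizedModule.exists_of_eq (S := p.primeCompl) h1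
    refine ⟨c, c.2, ?_⟩
    rw [smul_zero] at hc
    exact hc
  · intro h
    refine ⟨fun y₁ y₂ => ?_⟩
    suffices H : ∀ y : Ω[Localization.AtPrime p⁄R], y = 0 from (H y₁).trans (H y₂).symm
    intro y
    obtain ⟨⟨ω, s⟩, hy⟩ := IsLocalizedModule.surj p.primeCompl
      (KaehlerDifferential.map R R A (Localization.AtPrime p)) y
    obtain ⟨t, ht, htω⟩ := h ω
    obtain ⟨t', ht'⟩ : ∃ t' : p.primeCompl, (t' : A) = t := ⟨⟨t, ht⟩, rfl⟩
    have h1 : (t' * s) • y = 0 := by
      rw [mul_smul, hy]
      show (t' : A) • (KaehlerDifferential.map R R A (Localization.AtPrime p)) ω = 0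
      rw [ht', ← map_smul, htω, map_zero]
    have h2 : (t' * s) • y = (t' * s) • (0 : Ω[Localization.AtPrime p⁄R]) := by
      rw [h1, smul_zero]
    exact IsLocalizedModule.smul_injective
      (KaehlerDifferential.map R R A (Localization.AtPrime p)) (t' * s) h2

end Kaehler

end Groth.Agent.Lib.ComplKaehlerUnramH3
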