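import Mathlib
import Groth.Agent.Lib.ComplKaehlerUnram_helper3

/-!
# Generators of `Ω̂_p` versus finite maps from power series rings unramified at `p`, part 2 (helper3)

APPEND-ONLY once landed.
-/

set_option autoImplicit false
set_option maxSynthPendingDepth 3

namespace Groth.Agent.Lib.ComplKaehlerUnramH3

open IsLocalRing KaehlerDifferential TensorProduct MvPowerSeries
open Groth.Agent.Lib.ComplKaehlerDimH3

universe u

section Main

variable (k A : Type u) [Field k] [CommRing A] [IsLocalRing A] [IsNoetherianRing A] [Algebra k A]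
  [IsAdicComplete (maximalIdeal A) A] [Module.Finite k (ResidueField A)]
  (p : Ideal A) [p.IsPrime] (m : ℕ)

theorem span_of_unramifiedAt [Algebra (MvPowerSeries (Fin m) k) A]
    [IsScalarTower k (MvPowerSeries (Fin m) k) A] [Module.Finite (MvPowerSeries (Fin m) k) A]
    (hloc : IsLocalHom (algebraMap (MvPowerSeries (Fin m) k) A))
    (hunr : Algebra.IsUnramifiedAt (MvPowerSeries (Fin m) k) p) :
    Submodule.span (Localization.AtPrime p) (Set.range fun i : Fin m =>
      LocalizedModule.mkLinearMap p.primeCompl (AdicCompletion (maximalIdeal A) (Ω[A⁄k]))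
        (AdicCompletion.of (maximalIdeal A) (Ω[A⁄k])
          (D k A (algebraMap (MvPowerSeries (Fin m) k) A (MvPowerSeries.X i))))) = ⊤ := by
  classical
  haveI : Module.Finite (ResidueField A) (Ω[ResidueField A⁄k]) := inferInstance
  obtain ⟨hcompl, -, hex⟩ := ComplKaehlerSeqH3.main5991 k (MvPowerSeries (Fin m) k) A
  have hloc_mem : ∀ t ∈ maximalIdeal (MvPowerSeries (Fin m) k),
      algebraMap (MvPowerSeries (Fin m) k) A t ∈ maximalIdeal A := by
    intro t ht
    rw [mem_maximalIdeal, mem_nonunits_iff]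
    intro hu
    exact (mem_nonunits_iff.1 ((mem_maximalIdeal t).1 ht)) (hloc.map_nonunit t hu)
  -- generation of `A ⊗ Ω_P` modulo `𝔪`
  have hsup : Submodule.span A (Set.range fun i : Fin m =>
      (1 : A) ⊗ₜ[MvPowerSeries (Fin m) k] D k (MvPowerSeries (Fin m) k) (MvPowerSeries.X i)) ⊔
      maximalIdeal A • (⊤ : Submodule A (A ⊗[MvPowerSeries (Fin m) k]
        Ω[MvPowerSeries (Fin m) k⁄k])) = ⊤ := by
    have h1 : ∀ ω : Ω[MvPowerSeries (Fin m) k⁄k],
        (1 : A) ⊗ₜ[MvPowerSeries (Fin m) k] ω ∈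
        Submodule.span A (Set.range fun i : Fin m =>
          (1 : A) ⊗ₜ[MvPowerSeries (Fin m) k]
            D k (MvPowerSeries (Fin m) k) (MvPowerSeries.X i)) ⊔
        maximalIdeal A • (⊤ : Submodule A (A ⊗[MvPowerSeries (Fin m) k]
          Ω[MvPowerSeries (Fin m) k⁄k])) := by
      intro ω
      have hω : ω ∈ Submodule.span (MvPowerSeries (Fin m) k)
          (Set.range (ComplKaehlerH3.dX k m)) ⊔
          maximalIdeal (MvPowerSeries (Fin m) k) • ⊤ := by
        rw [ComplKaehlerH3.span_dX_sup]; trivial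
      obtain ⟨a, ha, b, hb, rfl⟩ := Submodule.mem_sup.1 hω
      clear hω
      rw [TensorProduct.tmul_add]
      refine Submodule.add_mem _ ?_ ?_
      · induction ha using Submodule.span_induction with
        | mem x hx =>
          obtain ⟨i, rfl⟩ := hx
          exact Submodule.mem_sup_left (Submodule.subset_span ⟨i, rfl⟩)
        | zero => rw [tmul_zero]; exact zero_mem _
        | add x y _ _ hx hy => rw [tmul_add]; exact add_mem hx hy
        | smul c x _ hx =>
          rw [TensorProduct.tmul_smul, ← algebraMap_smul A c]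
          exact Submodule.smul_mem _ _ hx
      · refine Submodule.smul_induction_on hb ?_ ?_
        · intro t ht ω' _
          rw [TensorProduct.tmul_smul, ← algebraMap_smul A t]
          exact Submodule.mem_sup_right (Submodule.smul_mem_smul (hloc_mem t ht) trivial)
        · intro x y hx hy
          rw [tmul_add]
          exact add_mem hx hy
    rw [eq_top_iff]
    rintro z -
    induction z using TensorProduct.induction_on with
    | zero => exact zero_mem _
    | tmul a ω =>
      have h2 : a ⊗ₜ[MvPowerSeries (Fin m) k] ω =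
          a • ((1 : A) ⊗ₜ[MvPowerSeries (Fin m) k] ω) := by
        rw [TensorProduct.smul_tmul', smul_eq_mul, mul_one]
      rw [h2]
      exact Submodule.smul_mem _ a (h1 ω)
    | add x y hx hy => exact add_mem hx hy
  have hsurj := ComplKaehlerH3.surjective_of_span_sup (maximalIdeal A)
    (fun i : Fin m => (1 : A) ⊗ₜ[MvPowerSeries (Fin m) k]
      D k (MvPowerSeries (Fin m) k) (MvPowerSeries.X i)) hsup
  have hrange : (Set.range fun i : Fin m =>
      LocalizedModule.mkLinearMap p.primeCompl (AdicCompletion (maximalIdeal A) (Ω[A⁄k]))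
        (AdicCompletion.of (maximalIdeal A) (Ω[A⁄k])
          (D k A (algebraMap (MvPowerSeries (Fin m) k) A (MvPowerSeries.X i))))) =
      (LocalizedModule.mkLinearMap p.primeCompl (AdicCompletion (maximalIdeal A) (Ω[A⁄k]))) ''
        (Set.range fun i : Fin m => AdicCompletion.of (maximalIdeal A) (Ω[A⁄k])
          (D k A (algebraMap (MvPowerSeries (Fin m) k) A (MvPowerSeries.X i)))) := by
    rw [← Set.range_comp]
    rfl
  rw [hrange, span_localized_eq_top_iff]
  intro ξ
  have hbij := (AdicCompletion.of_bijective_iff (I := maximalIdeal A)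
    (M := Ω[A⁄MvPowerSeries (Fin m) k])).2 hcompl
  obtain ⟨ω, hω⟩ := hbij.2 (AdicCompletion.map (maximalIdeal A)
    (KaehlerDifferential.map k (MvPowerSeries (Fin m) k) A A) ξ)
  obtain ⟨s, hs, hsω⟩ := (subsingleton_kaehler_localization_iff p).1
    hunr.subsingleton_kaehlerDifferential ω
  refine ⟨s, hs, ?_⟩
  have h1 : s • ξ ∈ LinearMap.ker (AdicCompletion.map (maximalIdeal A)
      (KaehlerDifferential.map k (MvPowerSeries (Fin m) k) A A)) := by
    rw [LinearMap.mem_ker]
    have h2 := ((AdicCompletion.map (maximalIdeal A)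
      (KaehlerDifferential.map k (MvPowerSeries (Fin m) k) A A)).restrictScalars A).map_smul s ξ
    rw [LinearMap.restrictScalars_apply, LinearMap.restrictScalars_apply] at h2
    rw [h2, ← hω, ← map_smul, hsω, map_zero]
  rw [← hex] at h1
  obtain ⟨ζ, hζ⟩ := h1
  obtain ⟨v, hv⟩ := hsurj ζ
  rw [← hζ, ← hv, LinearMap.comp_apply, AdicCompletion.map_of, Fintype.linearCombination_apply,
    map_sum, map_sum]
  refine Submodule.sum_mem _ (fun i _ => ?_)
  rw [map_smul, map_smul, mapBaseChange_tmul, one_smul, map_D]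
  exact Submodule.smul_mem _ _ (Submodule.subset_span ⟨i, rfl⟩)

theorem exists_algebra_of_span (hp : p ≠ maximalIdeal A)
    (hq : ∃ q ∈ minimalPrimes A, q ≤ p ∧ ringKrullDim (A ⧸ q) = ringKrullDim A)
    (hs : ∃ s : Fin m → (LocalizedModule p.primeCompl
      (AdicCompletion (maximalIdeal A) (Ω[A⁄k]))),
      Submodule.span (Localization.AtPrime p) (Set.range s) = ⊤) :
    ∃ (_ : Algebra (MvPowerSeries (Fin m) k) A) (_ : IsScalarTower k (MvPowerSeries (Fin m) k) A),
      IsLocalHom (algebraMap (MvPowerSeries (Fin m) k) A) ∧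
        Module.Finite (MvPowerSeries (Fin m) k) A ∧
          Algebra.IsUnramifiedAt (MvPowerSeries (Fin m) k) p := by
  classical
  obtain ⟨q, hqmin, hqp, hqdim⟩ := hq
  haveI := ComplKaehlerGenH3.finite_completed k A
  have hdim : ringKrullDim A ≤ m := by
    obtain ⟨s, hs'⟩ := hs
    have h1 := main3847 k A p q hqmin hqp
    have h2 := finrank_tensor_le_of_span p (AdicCompletion (maximalIdeal A) (Ω[A⁄k])) m s hs'
    rw [hqdim, ← Module.finrank_eq_rank, Cardinal.toENat_nat] at h1
    refine h1.trans ?_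
    exact_mod_cast h2
  obtain ⟨y, hy, hyrad⟩ := exists_params_not_mem p hp m hdim
  obtain ⟨u, hu⟩ := ComplKaehlerGenH3.main5080 k A p hp m hs y hy
  obtain ⟨x, hx⟩ : ∃ x : Fin m → A, x = fun i => (u i : A) * y i := ⟨_, rfl⟩
  have hxm : ∀ i, x i ∈ maximalIdeal A := fun i => by
    rw [hx]
    exact Ideal.mul_mem_left _ _ (hy i).1
  have hxrad : maximalIdeal A ≤ (Ideal.span (Set.range x)).radical := by
    refine hyrad.trans (Ideal.radical_mono ?_)
    rw [Ideal.span_le]
    rintro _ ⟨i, rfl⟩
    have h1 : y i = (((u i)⁻¹ : Aˣ) : A) * x i := by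
      rw [hx, ← mul_assoc, Units.inv_mul, one_mul]
    rw [SetLike.mem_coe, h1]
    exact Ideal.mul_mem_left _ _ (Ideal.subset_span ⟨i, rfl⟩)
  obtain ⟨w, hwX, hwloc, hwfin⟩ := exists_algHom_finite (k₀ := k) m x hxm hxrad
  letI alg : Algebra (MvPowerSeries (Fin m) k) A := w.toRingHom.toAlgebra
  haveI tow : IsScalarTower k (MvPowerSeries (Fin m) k) A :=
    IsScalarTower.of_algebraMap_eq (fun c => (w.commutes c).symm)
  haveI fin : Module.Finite (MvPowerSeries (Fin m) k) A := hwfin
  refine ⟨alg, tow, hwloc, fin, ?_⟩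
  refine ⟨(subsingleton_kaehler_localization_iff p).2 (fun ω => ?_)⟩
  haveI : Module.Finite A Ω[A⁄MvPowerSeries (Fin m) k] := inferInstance
  obtain ⟨γ₀, hγ₀⟩ := exists_lift_derivation
    ((KaehlerDifferential.map k (MvPowerSeries (Fin m) k) A A).compDer (D k A))
  have hγ₀' : ∀ a, γ₀ (AdicCompletion.of (maximalIdeal A) (Ω[A⁄k]) (D k A a)) =
      D (MvPowerSeries (Fin m) k) A a := fun a => by
    rw [hγ₀]
    show KaehlerDifferential.map k (MvPowerSeries (Fin m) k) A A (D k A a) = _
    rw [map_D]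
    rfl
  have hγs : Function.Surjective γ₀ := by
    rw [← LinearMap.range_eq_top, ← top_le_iff,
      ← KaehlerDifferential.span_range_derivation (MvPowerSeries (Fin m) k) A, Submodule.span_le]
    rintro _ ⟨a, rfl⟩
    exact ⟨_, hγ₀' a⟩
  obtain ⟨ξ, rfl⟩ := hγs ω
  have hu' : Submodule.span (Localization.AtPrime p)
      ((LocalizedModule.mkLinearMap p.primeCompl (AdicCompletion (maximalIdeal A) (Ω[A⁄k]))) ''
        (Set.range fun i : Fin m => AdicCompletion.of (maximalIdeal A) (Ω[A⁄k])
          (D k A (x i)))) = ⊤ := by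
    rw [← hu, ← Set.range_comp, hx]
    rfl
  obtain ⟨s, hs, hsξ⟩ := (span_localized_eq_top_iff p _).1 hu' ξ
  refine ⟨s, hs, ?_⟩
  rw [← map_smul]
  have h1 : Submodule.span A (Set.range fun i : Fin m =>
      AdicCompletion.of (maximalIdeal A) (Ω[A⁄k]) (D k A (x i))) ≤ LinearMap.ker γ₀ := by
    rw [Submodule.span_le]
    rintro _ ⟨i, rfl⟩
    rw [SetLike.mem_coe, LinearMap.mem_ker, hγ₀', ← hwX i]
    exact Derivation.map_algebraMap _ _
  exact h1 hsξ

theorem main5054 (hp : p ≠ maximalIdeal A)
    (hq : ∃ q ∈ minimalPrimes A, q ≤ p ∧ ringKrullDim (A ⧸ q) = ringKrullDim A) :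
    (∃ s : Fin m → (LocalizedModule p.primeCompl
      (AdicCompletion (maximalIdeal A) (KaehlerDifferential k A))),
      Submodule.span (Localization.AtPrime p) (Set.range s) = ⊤) ↔
    ∃ (_ : Algebra (MvPowerSeries (Fin m) k) A) (_ : IsScalarTower k (MvPowerSeries (Fin m) k) A),
      IsLocalHom (algebraMap (MvPowerSeries (Fin m) k) A) ∧
        Module.Finite (MvPowerSeries (Fin m) k) A ∧
          Algebra.IsUnramifiedAt (MvPowerSeries (Fin m) k) p := by
  constructor
  · exact exists_algebra_of_span k A p m hp hq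
  · rintro ⟨alg, tow, hloc, hfin, hunr⟩
    exact ⟨_, span_of_unramifiedAt k A p m hloc hunr⟩

end Main

end Groth.Agent.Lib.ComplKaehlerUnramH3
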