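import Mathlib
import Groth.Agent.Lib.ComplKaehlerEtale_helper3
import Groth.Agent.Lib.ComplKaehlerUnram2_helper3

/-!
# `Ω̂_p` free of rank `dim A` ⇔ finite map from `k[[T_1..T_n]]` étale at `p` (helper3)

APPEND-ONLY once landed.
-/

set_option autoImplicit false
set_option maxSynthPendingDepth 3

namespace Groth.Agent.Lib.ComplKaehlerEtaleH3

open IsLocalRing KaehlerDifferential TensorProduct MvPowerSeries
open Groth.Agent.Lib.ComplKaehlerDimH3 Groth.Agent.Lib.ComplKaehlerUnramH3

universe u

section Normal

/-- power series rings over a field are integrally closed domains -/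
theorem isIntegrallyClosed_mvPowerSeries_field (k : Type u) [Field k] (r : ℕ) :
    ∃ (_ : IsDomain (MvPowerSeries (Fin r) k)), IsIntegrallyClosed (MvPowerSeries (Fin r) k) := by
  induction r with
  | zero =>
    let e : k ≃+* MvPowerSeries (Fin 0) k :=
      (MvPowerSeries.isEmptyEquiv (Fin 0) k).toRingEquiv.symm
    haveI hd : IsDomain (MvPowerSeries (Fin 0) k) := e.symm.toMulEquiv.isDomain k
    exact ⟨hd, IsIntegrallyClosed.of_equiv e⟩
  | succ r ih =>
    obtain ⟨hd, hic⟩ := ih
    haveI := hd
    haveI := hic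
    let e : PowerSeries (MvPowerSeries (Fin r) k) ≃+* MvPowerSeries (Fin (r + 1)) k :=
      (MvPowerSeries.finSuccEquiv k r).toRingEquiv.symm
    haveI hd' : IsDomain (MvPowerSeries (Fin (r + 1)) k) :=
      e.symm.toMulEquiv.isDomain (PowerSeries (MvPowerSeries (Fin r) k))
    haveI := PSNormalH3.isIntegrallyClosed_powerSeries (MvPowerSeries (Fin r) k)
    exact ⟨hd', IsIntegrallyClosed.of_equiv e⟩

end Normal

section EF

variable {k PS A B : Type*} [CommRing k] [CommRing PS] [CommRing A] [CommRing B] [Algebra k A]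
  [Algebra PS A] [Module.Finite PS A] [IsLocalRing A] [IsNoetherianRing A]
  [IsAdicComplete (maximalIdeal A) A] [Algebra A B] [Algebra k B] [IsScalarTower k A B]

theorem exists_linearMap_of_derivation (E : Derivation k A B) (T₁ : Submodule A B) (hT₁ : T₁.FG)
    (hE : ∀ c : PS, E (algebraMap PS A c) ∈ T₁) :
    ∃ f : AdicCompletion (maximalIdeal A) (Ω[A⁄k]) →ₗ[A] B,
      ∀ a, f (AdicCompletion.of (maximalIdeal A) (Ω[A⁄k]) (D k A a)) = E a := by
  classical
  obtain ⟨t, g, hg⟩ := Module.Finite.exists_fin (R := PS) (M := A)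
  let T₀ : Submodule A B := T₁ ⊔ Submodule.span A (Set.range fun j => E (g j))
  have hmem : ∀ a, E a ∈ T₀ := by
    intro a
    have ha : a ∈ Submodule.span PS (Set.range g) := by rw [hg]; trivial
    induction ha using Submodule.span_induction with
    | mem x hx =>
      obtain ⟨j, rfl⟩ := hx
      exact Submodule.mem_sup_right (Submodule.subset_span ⟨j, rfl⟩)
    | zero => rw [map_zero]; exact zero_mem _
    | add x y _ _ hx hy => rw [map_add]; exact add_mem hx hy
    | smul c x _ hx =>
      rw [Algebra.smul_def, Derivation.leibniz]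
      exact add_mem (Submodule.smul_mem _ _ hx)
        (Submodule.smul_mem _ _ (Submodule.mem_sup_left (hE c)))
  haveI : Module.Finite A T₀ :=
    Module.Finite.iff_fg.2 (hT₁.sup (Submodule.fg_span (Set.finite_range _)))
  let E' : Derivation k A T₀ := Derivation.mk'
    { toFun := fun a => ⟨E a, hmem a⟩
      map_add' := fun a b => by
        apply Subtype.ext
        simp only [map_add, Submodule.coe_add]
      map_smul' := fun c a => by
        apply Subtype.ext
        simp only [RingHom.id_apply, Submodule.coe_smul_of_tower]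
        exact Derivation.map_smul E c a }
    (fun a b => by
      apply Subtype.ext
      simp only [LinearMap.coe_mk, AddHom.coe_mk, Submodule.coe_add, Submodule.coe_smul_of_tower]
      rw [Derivation.leibniz])
  obtain ⟨Ê, hÊ⟩ := exists_lift_derivation E'
  exact ⟨T₀.subtype ∘ₗ Ê, fun a => by rw [LinearMap.comp_apply, hÊ]; rfl⟩

end EF

section Main

variable (k A : Type u) [Field k] [CommRing A] [IsLocalRing A] [IsNoetherianRing A] [Algebra k A]
  [IsAdicComplete (maximalIdeal A) A] [Module.Finite k (ResidueField A)]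
  (p : Ideal A) [p.IsPrime] (n : ℕ)

theorem free_of_isEtaleAt [Algebra (MvPowerSeries (Fin n) k) A]
    [IsScalarTower k (MvPowerSeries (Fin n) k) A] [Module.Finite (MvPowerSeries (Fin n) k) A]
    (hloc : IsLocalHom (algebraMap (MvPowerSeries (Fin n) k) A))
    (het : Algebra.IsEtaleAt (MvPowerSeries (Fin n) k) p) :
    Module.Free (Localization.AtPrime p)
        (LocalizedModule p.primeCompl (AdicCompletion (maximalIdeal A) (Ω[A⁄k]))) ∧
      Module.finrank (Localization.AtPrime p)
        (LocalizedModule p.primeCompl (AdicCompletion (maximalIdeal A) (Ω[A⁄k]))) = n := by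
  classical
  haveI hfe : Algebra.FormallyEtale (MvPowerSeries (Fin n) k) (Localization.AtPrime p) := het
  have hunr : Algebra.IsUnramifiedAt (MvPowerSeries (Fin n) k) p :=
    (inferInstance : Algebra.FormallyUnramified (MvPowerSeries (Fin n) k) (Localization.AtPrime p))
  have hspan := span_of_unramifiedAt k A p n hloc hunr
  haveI : IsScalarTower k (MvPowerSeries (Fin n) k) (Localization.AtPrime p) :=
    IsScalarTower.of_algebraMap_eq (fun c => by
      rw [IsScalarTower.algebraMap_apply k A (Localization.AtPrime p),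
        IsScalarTower.algebraMap_apply (MvPowerSeries (Fin n) k) A (Localization.AtPrime p),
        ← IsScalarTower.algebraMap_apply k (MvPowerSeries (Fin n) k) A])
  have hΛ : ∀ i : Fin n, ∃ Λ : LocalizedModule p.primeCompl
      (AdicCompletion (maximalIdeal A) (Ω[A⁄k])) →ₗ[Localization.AtPrime p] Localization.AtPrime p,
      ∀ j : Fin n, Λ (LocalizedModule.mkLinearMap p.primeCompl
        (AdicCompletion (maximalIdeal A) (Ω[A⁄k]))
        (AdicCompletion.of (maximalIdeal A) (Ω[A⁄k])
          (D k A (algebraMap (MvPowerSeries (Fin n) k) A (MvPowerSeries.X j))))) =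
        if i = j then 1 else 0 := by
    intro i
    let g : Ω[MvPowerSeries (Fin n) k⁄k] →ₗ[MvPowerSeries (Fin n) k] Localization.AtPrime p :=
      (Algebra.linearMap (MvPowerSeries (Fin n) k) (Localization.AtPrime p)) ∘ₗ
        (MvPowerSeries.pderiv k i).liftKaehlerDifferential
    let ℓ : Ω[Localization.AtPrime p⁄k] →ₗ[Localization.AtPrime p] Localization.AtPrime p :=
      (g.liftBaseChange (Localization.AtPrime p)) ∘ₗ
        (tensorKaehlerEquivOfFormallyEtale k (MvPowerSeries (Fin n) k)
          (Localization.AtPrime p)).symm.toLinearMap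
    let Di : Derivation k (Localization.AtPrime p) (Localization.AtPrime p) :=
      ℓ.compDer (D k (Localization.AtPrime p))
    have hDi : ∀ c : MvPowerSeries (Fin n) k,
        Di (algebraMap (MvPowerSeries (Fin n) k) (Localization.AtPrime p) c) =
          algebraMap (MvPowerSeries (Fin n) k) (Localization.AtPrime p)
            (MvPowerSeries.pderiv k i c) := by
      intro c
      show ℓ (D k (Localization.AtPrime p)
        (algebraMap (MvPowerSeries (Fin n) k) (Localization.AtPrime p) c)) = _
      simp only [ℓ, LinearMap.comp_apply, LinearEquiv.coe_coe]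
      rw [tensorKaehlerEquivOfFormallyEtale_symm_D_algebraMap, LinearMap.liftBaseChange_tmul,
        one_smul]
      simp only [g, LinearMap.comp_apply, Derivation.liftKaehlerDifferential_comp_D]
      rfl
    let E : Derivation k A (Localization.AtPrime p) := Di.compAlgebraMap A
    have hEa : ∀ a : A, E a = Di (algebraMap A (Localization.AtPrime p) a) := fun a => rfl
    have hE : ∀ c : MvPowerSeries (Fin n) k, E (algebraMap (MvPowerSeries (Fin n) k) A c) ∈
        Submodule.span A {(1 : Localization.AtPrime p)} := by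
      intro c
      have h1 : E (algebraMap (MvPowerSeries (Fin n) k) A c) =
          algebraMap (MvPowerSeries (Fin n) k) A (MvPowerSeries.pderiv k i c) •
            (1 : Localization.AtPrime p) := by
        rw [hEa, ← IsScalarTower.algebraMap_apply, hDi, Algebra.smul_def, mul_one,
          ← IsScalarTower.algebraMap_apply]
      rw [h1]
      exact Submodule.smul_mem _ _ (Submodule.subset_span rfl)
    obtain ⟨f, hf⟩ := exists_linearMap_of_derivation (PS := MvPowerSeries (Fin n) k) E _
      (Submodule.fg_span_singleton 1) hE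
    let Λ₀ := IsLocalizedModule.lift p.primeCompl
      (LocalizedModule.mkLinearMap p.primeCompl (AdicCompletion (maximalIdeal A) (Ω[A⁄k]))) f
      (fun x => IsLocalizedModule.map_units (Algebra.linearMap A (Localization.AtPrime p)) x)
    refine ⟨Λ₀.extendScalarsOfIsLocalization p.primeCompl (Localization.AtPrime p), fun j => ?_⟩
    rw [LinearMap.extendScalarsOfIsLocalization_apply', IsLocalizedModule.lift_apply, hf, hEa,
      ← IsScalarTower.algebraMap_apply, hDi]
    by_cases h : i = j
    · subst h
      rw [MvPowerSeries.pderiv_X_self, map_one, if_pos rfl]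
    · rw [MvPowerSeries.pderiv_X_of_ne (Ne.symm h), map_zero, if_neg h]
  choose Λ hΛ' using hΛ
  have hli : LinearIndependent (Localization.AtPrime p) (fun j : Fin n =>
      LocalizedModule.mkLinearMap p.primeCompl (AdicCompletion (maximalIdeal A) (Ω[A⁄k]))
        (AdicCompletion.of (maximalIdeal A) (Ω[A⁄k])
          (D k A (algebraMap (MvPowerSeries (Fin n) k) A (MvPowerSeries.X j))))) := by
    rw [Fintype.linearIndependent_iff]
    intro c hc i
    have h1 := congrArg (Λ i) hc
    rw [map_sum, map_zero] at h1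
    simp only [map_smul, hΛ', smul_eq_mul, mul_ite, mul_one, mul_zero, Finset.sum_ite_eq,
      Finset.mem_univ, if_true] at h1
    exact h1
  let bas := Module.Basis.mk hli hspan.ge
  exact ⟨Module.Free.of_basis bas, by rw [Module.finrank_eq_card_basis bas, Fintype.card_fin]⟩

theorem main3850 (hn : ringKrullDim A = n) (hp : p ≠ maximalIdeal A)
    (hq : ∃ q ∈ minimalPrimes A, q ≤ p ∧ ringKrullDim (A ⧸ q) = n) :
    (Module.Free (Localization.AtPrime p)
        (LocalizedModule p.primeCompl (AdicCompletion (maximalIdeal A) (KaehlerDifferential k A))) ∧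
      Module.finrank (Localization.AtPrime p)
        (LocalizedModule p.primeCompl
          (AdicCompletion (maximalIdeal A) (KaehlerDifferential k A))) = n) ↔
      ∃ (_ : Algebra (MvPowerSeries (Fin n) k) A) (_ : IsScalarTower k (MvPowerSeries (Fin n) k) A),
        IsLocalHom (algebraMap (MvPowerSeries (Fin n) k) A) ∧
          Module.Finite (MvPowerSeries (Fin n) k) A ∧
          Algebra.IsEtaleAt (MvPowerSeries (Fin n) k) p := by
  constructor
  · rintro ⟨hfree, hrank⟩
    obtain ⟨q, hqmin, hqp, hqdim⟩ := hq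
    haveI := ComplKaehlerGenH3.finite_completed k A
    let bas := Module.finBasisOfFinrankEq (Localization.AtPrime p)
      (LocalizedModule p.primeCompl (AdicCompletion (maximalIdeal A) (Ω[A⁄k]))) hrank
    obtain ⟨alg, tow, hloc, hfin, hunr⟩ := exists_algebra_of_span k A p n hp
      ⟨q, hqmin, hqp, by rw [hqdim, hn]⟩ ⟨bas, bas.span_eq⟩
    refine ⟨alg, tow, hloc, hfin, ?_⟩
    haveI : q.IsPrime := Ideal.minimalPrimes_isPrime hqmin
    obtain ⟨hd, hic⟩ := isIntegrallyClosed_mvPowerSeries_field k n
    haveI : IsRegularLocalRing (MvPowerSeries (Fin n) k) :=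
      Groth.Agent.Lib.RegPSH3.isRegularLocalRing_mvPowerSeries k n
    refine isEtaleAt_of_isUnramifiedAt p q hqp ?_ hunr
    rw [injective_iff_map_eq_zero]
    intro g hg
    by_contra hne
    have h1 : ringKrullDim (MvPowerSeries (Fin n) k ⧸
        RingHom.ker (algebraMap (MvPowerSeries (Fin n) k) (A ⧸ q))) + 1 ≤
        ringKrullDim (MvPowerSeries (Fin n) k) :=
      ringKrullDim_succ_le_of_surjective
        (Ideal.Quotient.mk (RingHom.ker (algebraMap (MvPowerSeries (Fin n) k) (A ⧸ q))))
        Ideal.Quotient.mk_surjective (mem_nonZeroDivisors_of_ne_zero hne)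
        (Ideal.Quotient.eq_zero_iff_mem.2 (RingHom.mem_ker.2 hg))
    letI : Algebra (MvPowerSeries (Fin n) k ⧸
        RingHom.ker (algebraMap (MvPowerSeries (Fin n) k) (A ⧸ q))) (A ⧸ q) :=
      (RingHom.kerLift (algebraMap (MvPowerSeries (Fin n) k) (A ⧸ q))).toAlgebra
    haveI : IsScalarTower (MvPowerSeries (Fin n) k)
        (MvPowerSeries (Fin n) k ⧸ RingHom.ker (algebraMap (MvPowerSeries (Fin n) k) (A ⧸ q)))
        (A ⧸ q) := IsScalarTower.of_algebraMap_eq fun b => rfl
    haveI : Module.Finite (MvPowerSeries (Fin n) k) (A ⧸ q) :=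
      Module.Finite.of_surjective (Ideal.Quotient.mkₐ (MvPowerSeries (Fin n) k) q).toLinearMap
        (Ideal.Quotient.mkₐ_surjective (MvPowerSeries (Fin n) k) q)
    haveI : Module.Finite (MvPowerSeries (Fin n) k ⧸
        RingHom.ker (algebraMap (MvPowerSeries (Fin n) k) (A ⧸ q))) (A ⧸ q) :=
      Module.Finite.of_restrictScalars_finite (MvPowerSeries (Fin n) k) _ _
    have h2 : ringKrullDim (A ⧸ q) ≤ ringKrullDim (MvPowerSeries (Fin n) k ⧸
        RingHom.ker (algebraMap (MvPowerSeries (Fin n) k) (A ⧸ q))) :=
      Groth.Agent.Lib.FinitePSH3.ringKrullDim_le_of_isIntegral _ (A ⧸ q)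
    have h3 := Groth.Agent.Lib.RegPSH3.ringKrullDim_mvPowerSeries_field_le k n
    have h4 : (n : WithBot ℕ∞) + 1 ≤ n := by
      calc (n : WithBot ℕ∞) + 1 = ringKrullDim (A ⧸ q) + 1 := by rw [hqdim]
        _ ≤ ringKrullDim (MvPowerSeries (Fin n) k ⧸
            RingHom.ker (algebraMap (MvPowerSeries (Fin n) k) (A ⧸ q))) + 1 :=
          add_le_add_left h2 1
        _ ≤ ringKrullDim (MvPowerSeries (Fin n) k) := h1
        _ ≤ n := h3
    have h5 : ((n + 1 : ℕ) : WithBot ℕ∞) ≤ (n : ℕ) := by
      rw [Nat.cast_add, Nat.cast_one]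
      exact h4
    have h6 : n + 1 ≤ n := by exact_mod_cast h5
    omega
  · rintro ⟨alg, tow, hloc, hfin, het⟩
    exact free_of_isEtaleAt k A p n hloc het

end Main

end Groth.Agent.Lib.ComplKaehlerEtaleH3
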