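import Mathlib
import Groth.Agent.Lib.NagataJac1_helper3
import Groth.Agent.Lib.Regular4_helper5

/-!
# Freeness of completed differentials at geometrically regular primes, part 1: glue (helper3)

* `free_of_finrank_le`: a finite module over a local ring `B` whose fibre dimension at the closed
  point is `≤ n` and whose dimension after base change to a field containing `B` is `≥ n` is free
  of rank `n`.
* `ker_algebraMap_eq`, `exists_algebra_residueField`: if `A_P` is a domain and `q ⊆ P` is a minimal
  prime then `q = ker (A → A_P)` and `A_P ↪ κ(q)`.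
* `ringKrullDim_add_le`: `dim A_P + dim A/P ≤ dim A/q`.
* `exists_generators`: generators of `P A_P` coming from `P` when `A_P` is regular.
APPEND-ONLY once landed.
-/

set_option autoImplicit false

namespace Groth.Agent.Lib.ComplKaehlerFreeH3

open IsLocalRing TensorProduct

universe u

section LemmaF

variable {B : Type u} [CommRing B] [IsLocalRing B]
  (N : Type u) [AddCommGroup N] [Module B N] [Module.Finite B N]
  (L : Type u) [Field L] [Algebra B L]

theorem free_of_finrank_le (hL : Function.Injective (algebraMap B L)) (n : ℕ)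
    (h1 : Module.finrank (ResidueField B) (ResidueField B ⊗[B] N) ≤ n)
    (h2 : n ≤ Module.finrank L (L ⊗[B] N)) :
    Module.Free B N ∧ Module.finrank B N = n := by
  classical
  obtain ⟨d, hd⟩ : ∃ d : ℕ, Module.finrank (ResidueField B) (ResidueField B ⊗[B] N) = d :=
    ⟨_, rfl⟩
  rw [hd] at h1
  let b : Module.Basis (Fin d) (ResidueField B) (ResidueField B ⊗[B] N) :=
    Module.finBasisOfFinrankEq _ _ hd
  have hsurj : Function.Surjective (TensorProduct.mk B (ResidueField B) N 1) :=
    TensorProduct.mk_surjective B N (ResidueField B) IsLocalRing.residue_surjective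
  choose f hf using fun i => hsurj (b i)
  have hspan : Submodule.span B (Set.range f) = ⊤ :=
    IsLocalRing.span_eq_top_of_tmul_eq_basis f b hf
  let φ : (Fin d → B) →ₗ[B] N := Fintype.linearCombination B f
  have hφs : Function.Surjective φ := by
    rw [← LinearMap.range_eq_top, Fintype.range_linearCombination, hspan]
  have hspanL : Submodule.span L (Set.range fun i => (1 : L) ⊗ₜ[B] f i) = ⊤ := by
    have h3 := Submodule.baseChange_span (R := B) (A := L) (Set.range f)
    rw [hspan, Submodule.baseChange_top, ← Set.range_comp] at h3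
    exact h3.symm
  let ψ : (Fin d → L) →ₗ[L] L ⊗[B] N :=
    Fintype.linearCombination L (fun i => (1 : L) ⊗ₜ[B] f i)
  have hψs : Function.Surjective ψ := by
    rw [← LinearMap.range_eq_top, Fintype.range_linearCombination, hspanL]
  have hle := LinearMap.finrank_le_finrank_of_surjective hψs
  rw [Module.finrank_fin_fun] at hle
  have hdn : d = n := by omega
  have hψi : Function.Injective ψ := by
    rw [LinearMap.injective_iff_surjective_of_finrank_eq_finrank]
    · exact hψs
    · rw [Module.finrank_fin_fun]
      omega
  have hφi : Function.Injective φ := by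
    rw [← LinearMap.ker_eq_bot, LinearMap.ker_eq_bot']
    intro x hx
    have h3 : ψ (fun i => algebraMap B L (x i)) = (1 : L) ⊗ₜ[B] (φ x) := by
      simp only [ψ, φ, Fintype.linearCombination_apply, tmul_sum]
      refine Finset.sum_congr rfl fun i _ => ?_
      rw [tmul_smul, algebraMap_smul]
    rw [hx, tmul_zero] at h3
    have h4 := hψi (h3.trans (map_zero ψ).symm)
    funext i
    have := congrFun h4 i
    exact hL (this.trans (map_zero _).symm)
  let e : (Fin d → B) ≃ₗ[B] N := LinearEquiv.ofBijective φ ⟨hφi, hφs⟩
  refine ⟨Module.Free.of_equiv e, ?_⟩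
  rw [← e.finrank_eq, Module.finrank_fin_fun, hdn]

end LemmaF

section Frac

/-- the dimension of the generic fibre of a module does not depend on the model of the fraction
field -/
theorem finrank_tensor_eq_of_isFractionRing (C : Type u) [CommRing C] [IsDomain C]
    (N : Type u) [AddCommGroup N] [Module C N]
    (L₁ L₂ : Type u) [Field L₁] [Field L₂] [Algebra C L₁] [Algebra C L₂]
    [IsFractionRing C L₁] [IsFractionRing C L₂] :
    Module.finrank L₁ (L₁ ⊗[C] N) = Module.finrank L₂ (L₂ ⊗[C] N) := by
  let e : L₁ ≃ₐ[C] L₂ := IsLocalization.algEquiv (nonZeroDivisors C) L₁ L₂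
  letI : Algebra L₁ L₂ := (e : L₁ →+* L₂).toAlgebra
  haveI : IsScalarTower C L₁ L₂ := IsScalarTower.of_algebraMap_eq (fun c => (e.commutes c).symm)
  have e₁ := AlgebraTensorModule.cancelBaseChange C L₁ L₂ L₂ N
  rw [← e₁.finrank_eq]
  exact (Module.finrank_baseChange (R := L₂) (S := L₁) (M' := L₁ ⊗[C] N)).symm

end Frac

section Loc

variable {A : Type u} [CommRing A] (P : Ideal A) [P.IsPrime]

theorem finrank_tensor_localizedModule (M : Type u) [AddCommGroup M] [Module A M]
    (K' : Type u) [Field K'] [Algebra A K'] [Algebra (Localization.AtPrime P) K']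
    [IsScalarTower A (Localization.AtPrime P) K'] :
    Module.finrank K' (K' ⊗[Localization.AtPrime P] LocalizedModule P.primeCompl M) =
      Module.finrank K' (K' ⊗[A] M) := by
  have hbc : IsBaseChange (Localization.AtPrime P) (LocalizedModule.mkLinearMap P.primeCompl M) :=
    IsLocalizedModule.isBaseChange P.primeCompl (Localization.AtPrime P) _
  have e₁ := AlgebraTensorModule.cancelBaseChange A (Localization.AtPrime P) K' K' M
  have e₂ : K' ⊗[Localization.AtPrime P] (Localization.AtPrime P ⊗[A] M)
      ≃ₗ[K'] K' ⊗[Localization.AtPrime P] LocalizedModule P.primeCompl M :=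
    hbc.equiv.baseChange (Localization.AtPrime P) K' _ _
  rw [← e₁.finrank_eq, e₂.finrank_eq]

variable [IsDomain (Localization.AtPrime P)] (q : Ideal A) (hq : q ∈ minimalPrimes A) (hqP : q ≤ P)

include hq hqP in
theorem ker_algebraMap_eq : RingHom.ker (algebraMap A (Localization.AtPrime P)) = q := by
  haveI : q.IsPrime := Ideal.minimalPrimes_isPrime hq
  have hprime : (RingHom.ker (algebraMap A (Localization.AtPrime P))).IsPrime :=
    RingHom.ker_isPrime _
  have hle : RingHom.ker (algebraMap A (Localization.AtPrime P)) ≤ q := by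
    intro a ha
    rw [RingHom.mem_ker, IsLocalization.map_eq_zero_iff P.primeCompl] at ha
    obtain ⟨m, hm⟩ := ha
    have h1 : (m : A) * a ∈ q := by rw [hm]; exact q.zero_mem
    rcases Ideal.IsPrime.mem_or_mem inferInstance h1 with h | h
    · exact absurd (hqP h) m.2
    · exact h
  exact le_antisymm hle (hq.2 ⟨hprime, bot_le⟩ hle)

include hq hqP in
theorem exists_algebra_residueField [q.IsPrime] :
    ∃ (_ : Algebra (Localization.AtPrime P) q.ResidueField),
      IsScalarTower A (Localization.AtPrime P) q.ResidueField ∧
      Function.Injective (algebraMap (Localization.AtPrime P) q.ResidueField) := by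
  have hunit : ∀ y : P.primeCompl, IsUnit (algebraMap A q.ResidueField y) := by
    intro y
    apply IsUnit.mk0
    rw [Ne, Ideal.algebraMap_residueField_eq_zero]
    exact fun h => y.2 (hqP h)
  let φ : Localization.AtPrime P →+* q.ResidueField :=
    IsLocalization.lift (M := P.primeCompl) (g := algebraMap A q.ResidueField) hunit
  letI : Algebra (Localization.AtPrime P) q.ResidueField := φ.toAlgebra
  have hφ : ∀ a : A, φ (algebraMap A (Localization.AtPrime P) a) = algebraMap A q.ResidueField a :=
    fun a => IsLocalization.lift_eq hunit a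
  refine ⟨inferInstance, IsScalarTower.of_algebraMap_eq (fun a => (hφ a).symm), ?_⟩
  show Function.Injective φ
  rw [injective_iff_map_eq_zero]
  intro b hb
  obtain ⟨a, s, rfl⟩ := IsLocalization.exists_mk'_eq P.primeCompl b
  have h1 : φ (IsLocalization.mk' (Localization.AtPrime P) a s) *
      φ (algebraMap A (Localization.AtPrime P) s) = φ (algebraMap A (Localization.AtPrime P) a) := by
    rw [← map_mul, IsLocalization.mk'_spec]
  rw [hb, zero_mul, hφ] at h1
  have h2 : a ∈ q := (Ideal.algebraMap_residueField_eq_zero).1 h1.symm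
  have h3 : algebraMap A (Localization.AtPrime P) a = 0 := by
    rw [← RingHom.mem_ker, ker_algebraMap_eq P q hq hqP]
    exact h2
  rw [IsLocalization.mk'_eq_zero_iff]
  exact (IsLocalization.map_eq_zero_iff P.primeCompl _ a).1 h3

end Loc

section Dim

variable {A : Type u} [CommRing A] (P : Ideal A) [P.IsPrime]
  [IsDomain (Localization.AtPrime P)] (q : Ideal A) (hq : q ∈ minimalPrimes A) (hqP : q ≤ P)

include hq hqP in
theorem ringKrullDim_add_le :
    ringKrullDim (Localization.AtPrime P) + ringKrullDim (A ⧸ P) ≤ ringKrullDim (A ⧸ q) := by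
  haveI : q.IsPrime := Ideal.minimalPrimes_isPrime hq
  have hsurj : Function.Surjective (Ideal.Quotient.mk q) := Ideal.Quotient.mk_surjective
  haveI hJ : (P.map (Ideal.Quotient.mk q)).IsPrime :=
    Ideal.map_isPrime_of_surjective hsurj (by rw [Ideal.mk_ker]; exact hqP)
  have hcomap : P = (P.map (Ideal.Quotient.mk q)).comap (Ideal.Quotient.mk q) := by
    rw [Ideal.comap_map_of_surjective _ hsurj, ← RingHom.ker_eq_comap_bot, Ideal.mk_ker,
      sup_eq_left.2 hqP]
  obtain ⟨hs, hk⟩ := Groth.Agent.Lib.NagataJacH3.localRingHom_surjective_ker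
    (Ideal.Quotient.mk q) hsurj P (P.map (Ideal.Quotient.mk q)) hcomap
  have hker : RingHom.ker (Localization.localRingHom P (P.map (Ideal.Quotient.mk q))
      (Ideal.Quotient.mk q) hcomap) = ⊥ := by
    rw [hk, Ideal.mk_ker, Ideal.map_eq_bot_iff_le_ker, ker_algebraMap_eq P q hq hqP]
  have hinj := (RingHom.injective_iff_ker_eq_bot _).2 hker
  let e : Localization.AtPrime P ≃+* Localization.AtPrime (P.map (Ideal.Quotient.mk q)) :=
    RingEquiv.ofBijective _ ⟨hinj, hs⟩
  rw [ringKrullDim_eq_of_ringEquiv e,
    IsLocalization.AtPrime.ringKrullDim_eq_height (P.map (Ideal.Quotient.mk q))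
      (Localization.AtPrime (P.map (Ideal.Quotient.mk q))),
    ← ringKrullDim_eq_of_ringEquiv (DoubleQuot.quotQuotEquivQuotOfLE hqP)]
  exact Groth.Agent.RegularLib.height_add_ringKrullDim_quotient_le (P.map (Ideal.Quotient.mk q))

end Dim

section Gen

variable {A : Type u} [CommRing A] (P : Ideal A) [P.IsPrime]
  [IsRegularLocalRing (Localization.AtPrime P)]

theorem exists_generators (h : ℕ) (hh : ringKrullDim (Localization.AtPrime P) = h) :
    ∃ x : Fin h → A, (∀ i, x i ∈ P) ∧
      Ideal.span (Set.range fun i => algebraMap A (Localization.AtPrime P) (x i)) =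
        maximalIdeal (Localization.AtPrime P) := by
  classical
  have hfg : (maximalIdeal (Localization.AtPrime P)).FG := IsNoetherian.noetherian _
  obtain ⟨s, hscard, hsspan⟩ := Submodule.FG.exists_span_finset_card_eq_spanFinrank hfg
  have hreg := IsRegularLocalRing.spanFinrank_maximalIdeal (R := Localization.AtPrime P)
  rw [hh] at hreg
  have hcard : s.card = h := by
    rw [hscard]
    exact_mod_cast hreg
  let e : s ≃ Fin h := Finset.equivFinOfCardEq hcard
  have hmem : ∀ i : Fin h, ((e.symm i : s) : Localization.AtPrime P) ∈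
      maximalIdeal (Localization.AtPrime P) := by
    intro i
    rw [← hsspan]
    exact Submodule.subset_span (e.symm i).2
  choose a t hat using fun i : Fin h =>
    IsLocalization.exists_mk'_eq P.primeCompl ((e.symm i : s) : Localization.AtPrime P)
  have hspec : ∀ i, ((e.symm i : s) : Localization.AtPrime P) *
      algebraMap A (Localization.AtPrime P) (t i) = algebraMap A (Localization.AtPrime P) (a i) := by
    intro i
    rw [← hat i, IsLocalization.mk'_spec]
  have hunit : ∀ i, IsUnit (algebraMap A (Localization.AtPrime P) (t i)) := fun i =>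
    IsLocalization.map_units _ (t i)
  refine ⟨a, fun i => ?_, ?_⟩
  · rw [← IsLocalization.AtPrime.to_map_mem_maximal_iff (Localization.AtPrime P) P, ← hspec i]
    exact Ideal.mul_mem_right _ _ (hmem i)
  · rw [← hsspan]
    apply le_antisymm
    · rw [Ideal.span_le]
      rintro _ ⟨i, rfl⟩
      show algebraMap A (Localization.AtPrime P) (a i) ∈ _
      rw [← hspec i]
      exact Ideal.mul_mem_right _ _ (Submodule.subset_span (e.symm i).2)
    · rw [Submodule.span_le]
      intro y hy
      obtain ⟨i, hi⟩ : ∃ i, ((e.symm i : s) : Localization.AtPrime P) = y :=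
        ⟨e ⟨y, hy⟩, by rw [Equiv.symm_apply_apply]⟩
      obtain ⟨u, hu⟩ := hunit i
      have h1 : y = algebraMap A (Localization.AtPrime P) (a i) * ((u⁻¹ : (Localization.AtPrime P)ˣ) :
          Localization.AtPrime P) := by
        rw [← hspec i, ← hu, mul_assoc, Units.mul_inv, mul_one, hi]
      rw [h1]
      exact Ideal.mul_mem_right _ _ (Ideal.subset_span ⟨i, rfl⟩)

end Gen

end Groth.Agent.Lib.ComplKaehlerFreeH3
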