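import Mathlib
import Groth.Agent.Lib.ComplKaehlerUnram2_helper3

/-!
# Generic rank of `Ω̂_{A/k}` for `A` finite, generically separable over `k[[T_1..T_r]]` (helper3)

APPEND-ONLY once landed.
-/

set_option autoImplicit false
set_option maxSynthPendingDepth 3

namespace Groth.Agent.Lib.ComplKaehlerSepH3

open IsLocalRing KaehlerDifferential TensorProduct MvPowerSeries
open Groth.Agent.Lib.ComplKaehlerDimH3 Groth.Agent.Lib.ComplKaehlerUnramH3

universe u

section Torsion

variable {R A : Type*} [CommRing R] [IsDomain R] [CommRing A] [IsDomain A] [Algebra R A]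

/-- generically separable ⇒ `Ω[A⁄R]` is torsion -/
theorem exists_ne_zero_smul_eq_zero
    (L₀ K : Type*) [Field L₀] [Algebra R L₀] [IsFractionRing R L₀] [Field K] [Algebra A K]
    [IsFractionRing A K] [Algebra R K] [IsScalarTower R A K]
    (hinj : Function.Injective (algebraMap R A))
    (hsep : ∀ a : A, ∃ P : Polynomial R, Polynomial.aeval a P = 0 ∧
      (P.map (algebraMap R L₀)).Separable) (ω : Ω[A⁄R]) :
    ∃ s : A, s ≠ 0 ∧ s • ω = 0 := by
  have hD : ∀ a : A, ∃ s : A, s ≠ 0 ∧ s • D R A a = 0 := by
    intro a
    obtain ⟨P, hP, hPsep⟩ := hsep a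
    refine ⟨Polynomial.aeval a (Polynomial.derivative P), ?_, ?_⟩
    · intro h0
      have hinjK : Function.Injective (algebraMap R K) := by
        rw [IsScalarTower.algebraMap_eq R A K]
        exact (IsFractionRing.injective A K).comp hinj
      let φ : L₀ →+* K := IsFractionRing.lift hinjK
      have hφ : φ.comp (algebraMap R L₀) = algebraMap R K := by
        ext x
        exact IsFractionRing.lift_algebraMap hinjK x
      have hsepK : (P.map (algebraMap R K)).Separable := by
        have := hPsep.map (f := φ)
        rwa [Polynomial.map_map, hφ] at this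
      obtain ⟨u, v, huv⟩ := hsepK
      have h1 := congrArg (Polynomial.eval (algebraMap A K a)) huv
      rw [Polynomial.eval_add, Polynomial.eval_mul, Polynomial.eval_mul, Polynomial.eval_one,
        Polynomial.derivative_map, Polynomial.eval_map_algebraMap, Polynomial.eval_map_algebraMap,
        Polynomial.aeval_algebraMap_apply, Polynomial.aeval_algebraMap_apply, hP, h0, map_zero,
        mul_zero, mul_zero, add_zero] at h1
      exact zero_ne_one h1
    · have h1 := Derivation.map_aeval (D R A) P a
      rw [hP, map_zero] at h1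
      exact h1.symm
  have hω : ω ∈ Submodule.span A (Set.range (D R A)) := by
    rw [KaehlerDifferential.span_range_derivation]; trivial
  induction hω using Submodule.span_induction with
  | mem x hx =>
    obtain ⟨a, rfl⟩ := hx
    exact hD a
  | zero => exact ⟨1, one_ne_zero, smul_zero _⟩
  | add x y _ _ hx hy =>
    obtain ⟨s, hs, hsx⟩ := hx
    obtain ⟨t, ht, hty⟩ := hy
    refine ⟨s * t, mul_ne_zero hs ht, ?_⟩
    rw [smul_add, mul_smul s t y, hty, smul_zero, mul_comm s t, mul_smul t s x, hsx, smul_zero,
      add_zero]
  | smul c x _ hx =>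
    obtain ⟨s, hs, hsx⟩ := hx
    exact ⟨s, hs, by rw [smul_comm, hsx, smul_zero]⟩

end Torsion

section Res

variable (k : Type u) [Field k] (r : ℕ) (A : Type u) [CommRing A] [IsLocalRing A]
  [Algebra (MvPowerSeries (Fin r) k) A] [Algebra k A] [IsScalarTower k (MvPowerSeries (Fin r) k) A]
  [Module.Finite (MvPowerSeries (Fin r) k) A]

theorem finite_residueField_of_finite
    (hloc : IsLocalHom (algebraMap (MvPowerSeries (Fin r) k) A)) :
    Module.Finite k (ResidueField A) := by
  classical
  obtain ⟨t, g, hg⟩ := Module.Finite.exists_fin (R := MvPowerSeries (Fin r) k) (M := A)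
  have hres : ∀ c : MvPowerSeries (Fin r) k,
      residue A (algebraMap (MvPowerSeries (Fin r) k) A c) =
        algebraMap k (ResidueField A) (MvPowerSeries.constantCoeff c) := by
    intro c
    have h1 : c - MvPowerSeries.C (MvPowerSeries.constantCoeff c) ∈
        maximalIdeal (MvPowerSeries (Fin r) k) := by
      rw [mem_maximalIdeal, mem_nonunits_iff, MvPowerSeries.isUnit_iff_constantCoeff]
      simp
    have h2 : algebraMap (MvPowerSeries (Fin r) k) A
        (c - MvPowerSeries.C (MvPowerSeries.constantCoeff c)) ∈ maximalIdeal A := by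
      rw [mem_maximalIdeal, mem_nonunits_iff]
      intro hu
      exact (mem_nonunits_iff.1 ((mem_maximalIdeal _).1 h1)) (hloc.map_nonunit _ hu)
    have h3 := (residue_eq_zero_iff _).2 h2
    rw [map_sub, map_sub, sub_eq_zero] at h3
    rw [h3, IsScalarTower.algebraMap_apply k A (ResidueField A),
      IsScalarTower.algebraMap_apply k (MvPowerSeries (Fin r) k) A, MvPowerSeries.algebraMap_apply]
    rfl
  refine Module.Finite.of_surjective (Fintype.linearCombination k (fun j => residue A (g j)))
    (fun y => ?_)
  obtain ⟨a, rfl⟩ := residue_surjective y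
  have ha : a ∈ Submodule.span (MvPowerSeries (Fin r) k) (Set.range g) := by rw [hg]; trivial
  obtain ⟨c, rfl⟩ := (Submodule.mem_span_range_iff_exists_fun _).1 ha
  refine ⟨fun j => MvPowerSeries.constantCoeff (c j), ?_⟩
  rw [Fintype.linearCombination_apply, map_sum]
  refine Finset.sum_congr rfl (fun j _ => ?_)
  rw [Algebra.smul_def (c j), map_mul, hres, Algebra.smul_def]

end Res

section Main

variable (k : Type u) [Field k] (r : ℕ) (A : Type u) [CommRing A]
  [IsDomain A] [IsLocalRing A] [IsNoetherianRing A] [IsAdicComplete (maximalIdeal A) A]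
  [Algebra (MvPowerSeries (Fin r) k) A] [Algebra k A] [IsScalarTower k (MvPowerSeries (Fin r) k) A]
  [Module.Finite (MvPowerSeries (Fin r) k) A]

theorem main4557 (hinj : Function.Injective (algebraMap (MvPowerSeries (Fin r) k) A))
    (hsep : ∀ a : A, ∃ P : Polynomial (MvPowerSeries (Fin r) k), Polynomial.aeval a P = 0 ∧
      (P.map (algebraMap (MvPowerSeries (Fin r) k)
        (FractionRing (MvPowerSeries (Fin r) k)))).Separable) :
    Module.finrank (FractionRing A)
      (FractionRing A ⊗[A] AdicCompletion (maximalIdeal A) (Ω[A⁄k])) = r := by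
  classical
  haveI : IsDomain (MvPowerSeries (Fin r) k) := NoZeroDivisors.to_isDomain _
  haveI : FaithfulSMul (MvPowerSeries (Fin r) k) A :=
    (faithfulSMul_iff_algebraMap_injective _ _).2 hinj
  haveI : Algebra.IsIntegral (MvPowerSeries (Fin r) k) A := Algebra.IsIntegral.of_finite _ _
  have hloc : IsLocalHom (algebraMap (MvPowerSeries (Fin r) k) A) := inferInstance
  haveI : Module.Finite k (ResidueField A) := finite_residueField_of_finite k r A hloc
  refine le_antisymm ?_ ?_
  · -- upper bound
    have hunr : Algebra.IsUnramifiedAt (MvPowerSeries (Fin r) k) (⊥ : Ideal A) := by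
      refine ⟨(subsingleton_kaehler_localization_iff (⊥ : Ideal A)).2 (fun ω => ?_)⟩
      obtain ⟨s, hs, hsω⟩ := exists_ne_zero_smul_eq_zero (FractionRing (MvPowerSeries (Fin r) k)) (FractionRing A) hinj hsep ω
      exact ⟨s, by simpa using hs, hsω⟩
    have hspan := span_of_unramifiedAt k A (⊥ : Ideal A) r hloc hunr
    have hrange : (Set.range fun i : Fin r =>
        LocalizedModule.mkLinearMap (⊥ : Ideal A).primeCompl
          (AdicCompletion (maximalIdeal A) (Ω[A⁄k]))
          (AdicCompletion.of (maximalIdeal A) (Ω[A⁄k])
            (D k A (algebraMap (MvPowerSeries (Fin r) k) A (MvPowerSeries.X i))))) =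
        (LocalizedModule.mkLinearMap (⊥ : Ideal A).primeCompl
          (AdicCompletion (maximalIdeal A) (Ω[A⁄k]))) ''
          (Set.range fun i : Fin r => AdicCompletion.of (maximalIdeal A) (Ω[A⁄k])
            (D k A (algebraMap (MvPowerSeries (Fin r) k) A (MvPowerSeries.X i)))) := by
      rw [← Set.range_comp]
      rfl
    rw [hrange, span_localized_eq_top_iff] at hspan
    have hK : Submodule.span (FractionRing A) (Set.range fun i : Fin r =>
        (1 : FractionRing A) ⊗ₜ[A] AdicCompletion.of (maximalIdeal A) (Ω[A⁄k])
          (D k A (algebraMap (MvPowerSeries (Fin r) k) A (MvPowerSeries.X i)))) = ⊤ := by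
      have hmem : ∀ η ∈ Submodule.span A (Set.range fun i : Fin r =>
          AdicCompletion.of (maximalIdeal A) (Ω[A⁄k])
            (D k A (algebraMap (MvPowerSeries (Fin r) k) A (MvPowerSeries.X i)))),
          (1 : FractionRing A) ⊗ₜ[A] η ∈ Submodule.span (FractionRing A)
            (Set.range fun i : Fin r =>
              (1 : FractionRing A) ⊗ₜ[A] AdicCompletion.of (maximalIdeal A) (Ω[A⁄k])
                (D k A (algebraMap (MvPowerSeries (Fin r) k) A (MvPowerSeries.X i)))) := by
        intro η hη
        induction hη using Submodule.span_induction with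
        | mem x hx =>
          obtain ⟨i, rfl⟩ := hx
          exact Submodule.subset_span ⟨i, rfl⟩
        | zero => rw [tmul_zero]; exact zero_mem _
        | add x y _ _ hx hy => rw [tmul_add]; exact add_mem hx hy
        | smul c x _ hx =>
          rw [TensorProduct.tmul_smul, ← algebraMap_smul (FractionRing A) c]
          exact Submodule.smul_mem _ _ hx
      rw [eq_top_iff]
      rintro z -
      induction z using TensorProduct.induction_on with
      | zero => exact zero_mem _
      | add x y hx hy => exact add_mem hx hy
      | tmul c ξ =>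
        obtain ⟨s, hs, hsξ⟩ := hspan ξ
        have hs0 : algebraMap A (FractionRing A) s ≠ 0 := by
          intro h0
          apply hs
          have := (IsFractionRing.injective A (FractionRing A)) (h0.trans (map_zero _).symm)
          rw [this]
          exact Ideal.zero_mem _
        have h1 : c ⊗ₜ[A] ξ = (c * (algebraMap A (FractionRing A) s)⁻¹) •
            ((1 : FractionRing A) ⊗ₜ[A] (s • ξ)) := by
          rw [TensorProduct.tmul_smul, ← algebraMap_smul (FractionRing A) s, smul_smul,
            mul_assoc, inv_mul_cancel₀ hs0, mul_one, TensorProduct.smul_tmul', smul_eq_mul,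
            mul_one]
        rw [h1]
        exact Submodule.smul_mem _ _ (hmem _ hsξ)
    have h4 := finrank_range_le_card (R := FractionRing A) (fun i : Fin r =>
      (1 : FractionRing A) ⊗ₜ[A] AdicCompletion.of (maximalIdeal A) (Ω[A⁄k])
        (D k A (algebraMap (MvPowerSeries (Fin r) k) A (MvPowerSeries.X i))))
    rw [Set.finrank, hK, finrank_top, Fintype.card_fin] at h4
    exact h4
  · exact le_finrank k r (MvPowerSeries.pderiv k) MvPowerSeries.X (FractionRing A) A
      (fun i j => by
        by_cases h : i = j
        · subst h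
          rw [MvPowerSeries.pderiv_X_self, if_pos rfl]
        · rw [MvPowerSeries.pderiv_X_of_ne (Ne.symm h), if_neg h])
      hinj

end Main

end Groth.Agent.Lib.ComplKaehlerSepH3
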