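import Mathlib
import Groth.Prelude.Def_CAlgX
import Groth.Agent.Lib.NagataJac1_helper3
import Groth.Agent.Lib.ComplKaehlerSep_helper3
import Groth.Agent.Lib.ComplKaehlerEtale2_helper3
import Groth.Agent.Lib.Serre_helper5
import Groth.Agent.Lib.Regular3_helper5
import Groth.Agent.Lib.Regular4_helper5
import Groth.Agent.Lib.IntegralHeight_helper5
import Groth.Agent.Lib.RegPS_helper3

/-!
# Nagata's Jacobian criterion for quotients of power series rings, part 2 (helper3)

* `pdk` : the map `Ω[P/k] → K^r` given by "partial derivatives mod `p`".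
* `le_finrank_add` : `r ≤ dim V + rank Ω̂_{(P/p)/k}` for `V ⊇ pdk(d p)`.
* `jacobian_of_regular` : regular quotient of `P_p` ⇒ Jacobian condition.

APPEND-ONLY once landed.
-/

set_option autoImplicit false
set_option maxSynthPendingDepth 3

namespace Groth.Agent.Lib.NagataJacH3

open IsLocalRing KaehlerDifferential TensorProduct Matrix

universe u

section PD

variable {k P : Type u} [Field k] [CommRing P] [Algebra k P] {r : ℕ}
  (der : Fin r → Derivation k P P)
  (K : Type u) [Field K] [Algebra P K]

/-- partial derivatives followed by `P → K` -/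
noncomputable def pdk : Ω[P⁄k] →ₗ[P] (Fin r → K) :=
  LinearMap.pi fun l => (Algebra.linearMap P K) ∘ₗ (der l).liftKaehlerDifferential

theorem pdk_D (a : P) (l : Fin r) : pdk der K (D k P a) l = algebraMap P K (der l a) := by
  simp [pdk]

end PD

section Rank

variable {k P : Type u} [Field k] [CommRing P] [Algebra k P] {r : ℕ}
  (der : Fin r → Derivation k P P) (X : Fin r → P) (p : Ideal P) [p.IsPrime]
  (K : Type u) [Field K] [Algebra P K] [Algebra (P ⧸ p) K] [IsScalarTower P (P ⧸ p) K]
  [Algebra k K] [IsScalarTower k P K] [IsScalarTower k (P ⧸ p) K]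
  [IsLocalRing (P ⧸ p)] [IsNoetherianRing (P ⧸ p)]
  [IsAdicComplete (maximalIdeal (P ⧸ p)) (P ⧸ p)] [Module.Finite k (ResidueField (P ⧸ p))]

theorem le_finrank_add (hder : ∀ l j, der j (X l) = if l = j then 1 else 0)
    (V : Submodule K (Fin r → K)) (hV : ∀ a ∈ p, pdk der K (D k P a) ∈ V) :
    r ≤ Module.finrank K V + Module.finrank K
      (K ⊗[P ⧸ p] AdicCompletion (maximalIdeal (P ⧸ p)) (Ω[(P ⧸ p)⁄k])) := by
  classical
  haveI := ComplKaehlerGenH3.finite_completed k (P ⧸ p)
  haveI : Module.Finite K
      (K ⊗[P ⧸ p] AdicCompletion (maximalIdeal (P ⧸ p)) (Ω[(P ⧸ p)⁄k])) := inferInstance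
  have hsum : Module.finrank K V + Module.finrank K V.dualAnnihilator = r := by
    have h := Subspace.finrank_add_finrank_dualAnnihilator_eq V
    rw [Module.finrank_fin_fun] at h
    exact h
  suffices h : Module.finrank K V.dualAnnihilator ≤ Module.finrank K
      (K ⊗[P ⧸ p] AdicCompletion (maximalIdeal (P ⧸ p)) (Ω[(P ⧸ p)⁄k])) by omega
  let b := Module.finBasis K V.dualAnnihilator
  have hg : ∀ i : Fin (Module.finrank K V.dualAnnihilator),
      ∃ g : Module.Dual K (K ⊗[P ⧸ p] AdicCompletion (maximalIdeal (P ⧸ p)) (Ω[(P ⧸ p)⁄k])),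
      ∀ x : P, g ((1 : K) ⊗ₜ[P ⧸ p] AdicCompletion.of (maximalIdeal (P ⧸ p)) (Ω[(P ⧸ p)⁄k])
        (D k (P ⧸ p) (Ideal.Quotient.mk p x))) =
        (b i : Module.Dual K (Fin r → K)) (pdk der K (D k P x)) := by
    intro i
    let lam : Module.Dual K (Fin r → K) := (b i : Module.Dual K (Fin r → K))
    have hlam : ∀ v ∈ V, lam v = 0 := fun v hv =>
      (Submodule.mem_dualAnnihilator _).1 (b i).2 v hv
    let D0 : Derivation k P K := ((lam.restrictScalars P) ∘ₗ pdk der K).compDer (D k P)
    have hD0 : ∀ x, D0 x = lam (pdk der K (D k P x)) := fun x => rfl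
    obtain ⟨Dq, hDq⟩ := exists_derivation_quotient p D0
      (fun x hx => by rw [hD0]; exact hlam _ (hV x hx))
    let T₁ : Submodule (P ⧸ p) K := Submodule.span (P ⧸ p)
      (Set.range fun l : Fin r => lam (fun j => if l = j then 1 else 0))
    obtain ⟨f, hf⟩ := ComplKaehlerEtaleH3.exists_linearMap_of_derivation (PS := P) Dq T₁
      (Submodule.fg_span (Set.finite_range _)) (fun c => by
        rw [Ideal.Quotient.algebraMap_eq, hDq, hD0, LinearMap.pi_apply_eq_sum_univ]
        refine Submodule.sum_mem _ fun l _ => ?_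
        have h1 : pdk der K (D k P c) l • lam (fun j => if l = j then 1 else 0) =
            (Ideal.Quotient.mk p (der l c)) • lam (fun j => if l = j then 1 else 0) := by
          rw [pdk_D, Algebra.smul_def (Ideal.Quotient.mk p (der l c)), smul_eq_mul,
            ← Ideal.Quotient.algebraMap_eq, ← IsScalarTower.algebraMap_apply]
        rw [h1]
        exact Submodule.smul_mem _ _ (Submodule.subset_span ⟨l, rfl⟩))
    refine ⟨f.liftBaseChange K, fun x => ?_⟩
    rw [LinearMap.liftBaseChange_tmul, one_smul, hf, hDq, hD0]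
  choose g hg using hg
  have hli : LinearIndependent K g := by
    rw [Fintype.linearIndependent_iff]
    intro c hc
    have h1 : ∑ i, c i • b i = 0 := by
      apply Subtype.ext
      rw [Submodule.coe_sum, Submodule.coe_zero]
      apply LinearMap.ext
      intro v
      rw [LinearMap.pi_apply_eq_sum_univ, LinearMap.zero_apply]
      refine Finset.sum_eq_zero fun l _ => ?_
      have h4 : (fun j => if l = j then (1 : K) else 0) = pdk der K (D k P (X l)) := by
        funext j
        rw [pdk_D, hder]
        split_ifs <;> simp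
      have h5 := LinearMap.congr_fun hc ((1 : K) ⊗ₜ[P ⧸ p]
        AdicCompletion.of (maximalIdeal (P ⧸ p)) (Ω[(P ⧸ p)⁄k])
          (D k (P ⧸ p) (Ideal.Quotient.mk p (X l))))
      rw [LinearMap.sum_apply, LinearMap.zero_apply] at h5
      rw [h4, LinearMap.sum_apply]
      have h6 : ∑ i, ((c i • b i : V.dualAnnihilator) : Module.Dual K (Fin r → K))
          (pdk der K (D k P (X l))) = 0 := by
        rw [← h5]
        refine Finset.sum_congr rfl fun i _ => ?_
        rw [Submodule.coe_smul, LinearMap.smul_apply, LinearMap.smul_apply, hg]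
      rw [h6, smul_zero]
    intro i
    exact Fintype.linearIndependent_iff.1 b.linearIndependent c h1 i
  have h7 := hli.fintype_card_le_finrank
  rw [Fintype.card_fin, Subspace.dual_finrank_eq] at h7
  exact h7

end Rank

section Jac

variable {k P : Type u} [Field k] [CommRing P] [IsRegularLocalRing P] [Algebra k P]
  {r : ℕ} (der : Fin r → Derivation k P P) (X : Fin r → P) (p : Ideal P) [p.IsPrime] (q : Ideal P)
  (K : Type u) [Field K] [Algebra P K] [Algebra (P ⧸ p) K] [IsScalarTower P (P ⧸ p) K]
  [Algebra k K] [IsScalarTower k P K] [IsScalarTower k (P ⧸ p) K]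
  [IsLocalRing (P ⧸ p)] [IsNoetherianRing (P ⧸ p)]
  [IsAdicComplete (maximalIdeal (P ⧸ p)) (P ⧸ p)] [Module.Finite k (ResidueField (P ⧸ p))]
  [Algebra (Localization.AtPrime p) K] [IsScalarTower P (Localization.AtPrime p) K]
  [IsScalarTower k (Localization.AtPrime p) K]

theorem jacobian_of_regular (hder : ∀ l j, der j (X l) = if l = j then 1 else 0)
    (hkillK : ∀ z ∈ maximalIdeal (Localization.AtPrime p),
      algebraMap (Localization.AtPrime p) K z = 0)
    (s : ℕ) (hrank : Module.finrank K
      (K ⊗[P ⧸ p] AdicCompletion (maximalIdeal (P ⧸ p)) (Ω[(P ⧸ p)⁄k])) = s)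
    (hdim : ringKrullDim (Localization.AtPrime p) + (s : WithBot ℕ∞) ≤ (r : WithBot ℕ∞))
    [IsRegularLocalRing (Localization.AtPrime p ⧸ q.map (algebraMap P (Localization.AtPrime p)))] :
    ∃ (m : ℕ) (D : Fin m → Derivation k P P) (f : Fin m → P), (∀ i, f i ∈ q) ∧
      q.map (algebraMap P (Localization.AtPrime p)) =
        Ideal.span (Set.range fun i => algebraMap P (Localization.AtPrime p) (f i)) ∧
      Matrix.det (Matrix.of fun i j => D i (f j)) ∉ p := by
  classical
  haveI : IsRegularLocalRing (Localization.AtPrime p) := Groth.Agent.Serre.localization_regular P p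
  obtain ⟨l₁, l₂, hlen, hmax, hI⟩ := Groth.Agent.RegularLib.exists_lists (Localization.AtPrime p)
    (q.map (algebraMap P (Localization.AtPrime p)))
  haveI : Algebra.FormallyEtale P (Localization.AtPrime p) :=
    Algebra.FormallyEtale.of_isLocalization p.primeCompl
  let δS : Derivation k (Localization.AtPrime p) (Fin r → K) :=
    (((pdk der K).liftBaseChange (Localization.AtPrime p)) ∘ₗ
      (tensorKaehlerEquivOfFormallyEtale k P (Localization.AtPrime p)).symm.toLinearMap).compDer
      (D k (Localization.AtPrime p))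
  have hδS : ∀ a : P, δS (algebraMap P (Localization.AtPrime p) a) = pdk der K (D k P a) := by
    intro a
    show ((pdk der K).liftBaseChange (Localization.AtPrime p))
      ((tensorKaehlerEquivOfFormallyEtale k P (Localization.AtPrime p)).symm
        (D k (Localization.AtPrime p) (algebraMap P (Localization.AtPrime p) a))) = _
    rw [tensorKaehlerEquivOfFormallyEtale_symm_D_algebraMap, LinearMap.liftBaseChange_tmul,
      one_smul]
  have hkill : ∀ z ∈ maximalIdeal (Localization.AtPrime p), ∀ v : Fin r → K, z • v = 0 := by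
    intro z hz v
    funext l
    rw [Pi.smul_apply, Algebra.smul_def, hkillK z hz, zero_mul, Pi.zero_apply]
  let V : Submodule K (Fin r → K) := Submodule.span K
    (Set.range fun i : Fin (l₁ ++ l₂).length => δS ((l₁ ++ l₂).get i))
  have hV : ∀ a ∈ p, pdk der K (D k P a) ∈ V := by
    intro a ha
    rw [← hδS]
    have h1 : algebraMap P (Localization.AtPrime p) a ∈ Ideal.span {x | x ∈ l₁ ++ l₂} := by
      have h2 : Ideal.span {x | x ∈ l₁ ++ l₂} = maximalIdeal (Localization.AtPrime p) := hmax
      rw [h2]
      exact (IsLocalization.AtPrime.to_map_mem_maximal_iff (Localization.AtPrime p) p a).2 ha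
    have h2 := derivation_mem_span δS {x | x ∈ l₁ ++ l₂} (fun z hz v => hkill z (by
      have h2 : Ideal.span {x | x ∈ l₁ ++ l₂} = maximalIdeal (Localization.AtPrime p) := hmax
      rwa [h2] at hz) v) _ h1
    have h3 : Submodule.span (Localization.AtPrime p) (δS '' {x | x ∈ l₁ ++ l₂}) ≤
        V.restrictScalars (Localization.AtPrime p) := by
      rw [Submodule.span_le]
      rintro _ ⟨x, hx, rfl⟩
      obtain ⟨i, rfl⟩ := List.mem_iff_get.1 hx
      exact Submodule.subset_span ⟨i, rfl⟩
    exact h3 h2
  have hle := le_finrank_add der X p K hder V hV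
  rw [hrank] at hle
  have hh : (maximalIdeal (Localization.AtPrime p)).spanFinrank + s ≤ r := by
    have h1 := hdim
    rw [← IsRegularLocalRing.spanFinrank_maximalIdeal] at h1
    exact_mod_cast h1
  have hcard : Module.finrank K V ≤ (l₁ ++ l₂).length := by
    have h1 := finrank_range_le_card (R := K)
      (fun i : Fin (l₁ ++ l₂).length => δS ((l₁ ++ l₂).get i))
    rwa [Fintype.card_fin] at h1
  have hlen' : (l₁ ++ l₂).length = (maximalIdeal (Localization.AtPrime p)).spanFinrank := by
    rw [List.length_append, hlen]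
  have hliAll : LinearIndependent K
      (fun i : Fin (l₁ ++ l₂).length => δS ((l₁ ++ l₂).get i)) := by
    rw [linearIndependent_iff_card_eq_finrank_span, Fintype.card_fin]
    show (l₁ ++ l₂).length = Module.finrank K V
    omega
  have hlen1 : l₁.length ≤ (l₁ ++ l₂).length := by
    rw [List.length_append]; omega
  have hxy : ∀ i : Fin l₁.length, (l₁ ++ l₂).get (Fin.castLE hlen1 i) = l₁.get i := by
    intro i
    simp [List.get_eq_getElem, List.getElem_append_left]
  have hli1 : LinearIndependent K (fun i : Fin l₁.length => δS (l₁.get i)) := by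
    have h1 := hliAll.comp (Fin.castLE hlen1) (Fin.castLE_injective hlen1)
    convert h1 using 1
    funext i
    rw [Function.comp_apply, hxy]
  have hex : ∀ i : Fin l₁.length, ∃ (fi : P) (ui : P), fi ∈ q ∧ ui ∉ p ∧
      l₁.get i * algebraMap P (Localization.AtPrime p) ui =
        algebraMap P (Localization.AtPrime p) fi := by
    intro i
    have h1 : l₁.get i ∈ q.map (algebraMap P (Localization.AtPrime p)) := by
      rw [← hI]; exact Ideal.subset_span (List.get_mem _ _)
    obtain ⟨⟨a, b⟩, hab⟩ :=
      (IsLocalization.mem_map_algebraMap_iff p.primeCompl (Localization.AtPrime p)).1 h1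
    exact ⟨a.1, b.1, a.2, b.2, hab⟩
  choose f u hfq hup hfu using hex
  have hunitS : ∀ i, IsUnit (algebraMap P (Localization.AtPrime p) (u i)) := fun i =>
    IsLocalization.map_units (Localization.AtPrime p) (⟨u i, hup i⟩ : p.primeCompl)
  have hunitK : ∀ i, IsUnit (algebraMap P K (u i)) := fun i => by
    rw [IsScalarTower.algebraMap_apply P (Localization.AtPrime p) K]
    exact (hunitS i).map _
  have hmemmax : ∀ i : Fin l₁.length, l₁.get i ∈ maximalIdeal (Localization.AtPrime p) := by
    intro i
    rw [← hmax]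
    exact Ideal.subset_span (List.mem_append_left _ (List.get_mem _ _))
  have hδf : ∀ i, pdk der K (D k P (f i)) = (hunitK i).unit • δS (l₁.get i) := by
    intro i
    rw [← hδS, ← hfu, Derivation.leibniz, hkill _ (hmemmax i), zero_add, algebraMap_smul,
      Units.smul_def, IsUnit.unit_spec, algebraMap_smul]
  have hliF : LinearIndependent K (fun i : Fin l₁.length => pdk der K (D k P (f i))) := by
    have h1 := hli1.units_smul (fun i => (hunitK i).unit)
    convert h1 using 1
    funext i
    rw [hδf]
    rfl
  let M : Matrix (Fin l₁.length) (Fin r) K := Matrix.of fun i l => pdk der K (D k P (f i)) l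
  obtain ⟨cols, hcols⟩ := Groth.Agent.Lib.JacCrit2H1.exists_cols_det_ne_zero M hliF
  refine ⟨l₁.length, fun i => der (cols i), f, hfq, ?_, ?_⟩
  · apply le_antisymm
    · rw [← hI, Ideal.span_le]
      intro x hx
      obtain ⟨i, rfl⟩ := List.mem_iff_get.1 hx
      rw [SetLike.mem_coe, ← Ideal.mul_unit_mem_iff_mem _ (hunitS i), hfu]
      exact Ideal.subset_span ⟨i, rfl⟩
    · rw [Ideal.span_le]
      rintro _ ⟨i, rfl⟩
      exact Ideal.mem_map_of_mem _ (hfq i)
  · intro hmem
    apply hcols
    have h1 : algebraMap P K (Matrix.det (Matrix.of fun i j => der (cols i) (f j))) = 0 := by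
      rw [IsScalarTower.algebraMap_apply P (P ⧸ p) K, Ideal.Quotient.algebraMap_eq,
        Ideal.Quotient.eq_zero_iff_mem.2 hmem, map_zero]
    rw [RingHom.map_det] at h1
    rw [← Matrix.det_transpose, ← h1]
    congr 1
    ext i j
    simp only [Matrix.transpose_apply, Matrix.submatrix_apply, id_eq, M, Matrix.of_apply,
      RingHom.mapMatrix_apply, Matrix.map_apply, pdk_D]

end Jac

end Groth.Agent.Lib.NagataJacH3
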