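import Mathlib
import Groth.Agent.Lib.ComplKaehlerFree1_helper3
import Groth.Agent.Lib.NagataJac2_helper3
import Groth.Agent.Lib.ComplKaehlerSep_helper3
import Groth.Agent.Lib.ComplKaehlerDim3_helper3
import Groth.Agent.Lib.ComplKaehlerEtale2_helper3

/-!
# Freeness of completed differentials at geometrically regular primes, part 2 (helper3)

The completed conormal bound `dim K ⊗ Ω̂_A ≤ dim W + dim K ⊗ Ω̂_{A/p}` and the upper bound for the
fibre dimension of `Ω̂_{A/k}` at a regular prime in characteristic zero.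
APPEND-ONLY once landed.
-/

set_option autoImplicit false
set_option maxSynthPendingDepth 3

namespace Groth.Agent.Lib.ComplKaehlerFreeH3

open IsLocalRing KaehlerDifferential TensorProduct

universe u

section CN

variable (k A : Type u) [Field k] [CommRing A] [IsLocalRing A] [IsNoetherianRing A] [Algebra k A]
  [IsAdicComplete (maximalIdeal A) A] [Module.Finite k (ResidueField A)]
  (p : Ideal A) [p.IsPrime]
  (K : Type u) [Field K] [Algebra A K] [Algebra (A ⧸ p) K] [IsScalarTower A (A ⧸ p) K]
  [Algebra k K] [IsScalarTower k A K] [IsScalarTower k (A ⧸ p) K]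

/-- `K ⊗ Ω̂` is spanned by the `1 ⊗ d a` -/
theorem span_one_tmul_D : Submodule.span K (Set.range fun a : A =>
    (1 : K) ⊗ₜ[A] AdicCompletion.of (maximalIdeal A) (Ω[A⁄k]) (D k A a)) = ⊤ := by
  rw [eq_top_iff]
  rintro v -
  set S := Submodule.span K (Set.range fun a : A =>
    (1 : K) ⊗ₜ[A] AdicCompletion.of (maximalIdeal A) (Ω[A⁄k]) (D k A a)) with hS
  have h1 : ∀ m : AdicCompletion (maximalIdeal A) (Ω[A⁄k]), (1 : K) ⊗ₜ[A] m ∈ S := by
    intro m
    have hm : m ∈ Submodule.span A (Set.range fun a : A =>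
        AdicCompletion.of (maximalIdeal A) (Ω[A⁄k]) (D k A a)) := by
      rw [ComplKaehlerGenH3.span_of_D]; trivial
    induction hm using Submodule.span_induction with
    | mem x hx =>
      obtain ⟨a, rfl⟩ := hx
      exact Submodule.subset_span ⟨a, rfl⟩
    | zero => rw [tmul_zero]; exact zero_mem _
    | add x y _ _ hx hy => rw [tmul_add]; exact add_mem hx hy
    | smul c x _ hx =>
      rw [tmul_smul, ← algebraMap_smul K c ((1 : K) ⊗ₜ[A] x)]
      exact Submodule.smul_mem _ _ hx
  induction v using TensorProduct.induction_on with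
  | zero => exact zero_mem _
  | tmul c m =>
    have h2 : c ⊗ₜ[A] m = c • ((1 : K) ⊗ₜ[A] m) := by
      rw [TensorProduct.smul_tmul', smul_eq_mul, mul_one]
    rw [h2]
    exact Submodule.smul_mem _ _ (h1 m)
  | add x y hx hy => exact add_mem hx hy

variable [IsLocalRing (A ⧸ p)] [IsAdicComplete (maximalIdeal (A ⧸ p)) (A ⧸ p)]
  [Module.Finite k (ResidueField (A ⧸ p))]

/-- the completed conormal bound -/
theorem finrank_le_add
    (W : Submodule K (K ⊗[A] AdicCompletion (maximalIdeal A) (Ω[A⁄k])))
    (hW : ∀ a ∈ p, (1 : K) ⊗ₜ[A] AdicCompletion.of (maximalIdeal A) (Ω[A⁄k]) (D k A a) ∈ W) :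
    Module.finrank K (K ⊗[A] AdicCompletion (maximalIdeal A) (Ω[A⁄k])) ≤
      Module.finrank K W + Module.finrank K
        (K ⊗[A ⧸ p] AdicCompletion (maximalIdeal (A ⧸ p)) (Ω[(A ⧸ p)⁄k])) := by
  classical
  haveI := ComplKaehlerGenH3.finite_completed k A
  haveI := ComplKaehlerGenH3.finite_completed k (A ⧸ p)
  haveI : Module.Finite K (K ⊗[A] AdicCompletion (maximalIdeal A) (Ω[A⁄k])) := inferInstance
  haveI : Module.Finite K
      (K ⊗[A ⧸ p] AdicCompletion (maximalIdeal (A ⧸ p)) (Ω[(A ⧸ p)⁄k])) := inferInstance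
  have hsum := Subspace.finrank_add_finrank_dualAnnihilator_eq W
  suffices h : Module.finrank K W.dualAnnihilator ≤ Module.finrank K
      (K ⊗[A ⧸ p] AdicCompletion (maximalIdeal (A ⧸ p)) (Ω[(A ⧸ p)⁄k])) by omega
  let b := Module.finBasis K W.dualAnnihilator
  obtain ⟨t, gen, hgen⟩ := Module.Finite.exists_fin (R := A)
    (M := AdicCompletion (maximalIdeal A) (Ω[A⁄k]))
  have hg : ∀ i : Fin (Module.finrank K W.dualAnnihilator),
      ∃ g : Module.Dual K (K ⊗[A ⧸ p] AdicCompletion (maximalIdeal (A ⧸ p)) (Ω[(A ⧸ p)⁄k])),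
      ∀ x : A, g ((1 : K) ⊗ₜ[A ⧸ p] AdicCompletion.of (maximalIdeal (A ⧸ p)) (Ω[(A ⧸ p)⁄k])
        (D k (A ⧸ p) (Ideal.Quotient.mk p x))) =
        (b i : Module.Dual K (K ⊗[A] AdicCompletion (maximalIdeal A) (Ω[A⁄k])))
          ((1 : K) ⊗ₜ[A] AdicCompletion.of (maximalIdeal A) (Ω[A⁄k]) (D k A x)) := by
    intro i
    let lam : Module.Dual K (K ⊗[A] AdicCompletion (maximalIdeal A) (Ω[A⁄k])) :=
      (b i : Module.Dual K (K ⊗[A] AdicCompletion (maximalIdeal A) (Ω[A⁄k])))
    have hlam : ∀ v ∈ W, lam v = 0 := fun v hv =>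
      (Submodule.mem_dualAnnihilator _).1 (b i).2 v hv
    let lin : AdicCompletion (maximalIdeal A) (Ω[A⁄k]) →ₗ[A] K :=
      (lam.restrictScalars A) ∘ₗ
        (TensorProduct.mk A K (AdicCompletion (maximalIdeal A) (Ω[A⁄k])) 1)
    let dhat : Derivation k A (AdicCompletion (maximalIdeal A) (Ω[A⁄k])) :=
      (AdicCompletion.of (maximalIdeal A) (Ω[A⁄k])).compDer (D k A)
    let D0 : Derivation k A K := lin.compDer dhat
    have hD0 : ∀ x, D0 x =
        lam ((1 : K) ⊗ₜ[A] AdicCompletion.of (maximalIdeal A) (Ω[A⁄k]) (D k A x)) := fun x => rfl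
    obtain ⟨Dq, hDq⟩ := Groth.Agent.Lib.NagataJacH3.exists_derivation_quotient p D0
      (fun x hx => by rw [hD0]; exact hlam _ (hW x hx))
    let T₁ : Submodule (A ⧸ p) K := Submodule.span (A ⧸ p)
      (Set.range fun j => lam ((1 : K) ⊗ₜ[A] gen j))
    have hT : ∀ m : AdicCompletion (maximalIdeal A) (Ω[A⁄k]), lam ((1 : K) ⊗ₜ[A] m) ∈ T₁ := by
      intro m
      have hm : m ∈ Submodule.span A (Set.range gen) := by rw [hgen]; trivial
      induction hm using Submodule.span_induction with
      | mem x hx =>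
        obtain ⟨j, rfl⟩ := hx
        exact Submodule.subset_span ⟨j, rfl⟩
      | zero => rw [tmul_zero, map_zero]; exact zero_mem _
      | add x y _ _ hx hy => rw [tmul_add, map_add]; exact add_mem hx hy
      | smul c x _ hx =>
        rw [tmul_smul, LinearMap.map_smul_of_tower,
          ← algebraMap_smul (A ⧸ p) c (lam ((1 : K) ⊗ₜ[A] x))]
        exact Submodule.smul_mem _ _ hx
    obtain ⟨f, hf⟩ := ComplKaehlerEtaleH3.exists_linearMap_of_derivation (PS := A) Dq T₁
      (Submodule.fg_span (Set.finite_range _)) (fun c => by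
        rw [Ideal.Quotient.algebraMap_eq, hDq, hD0]
        exact hT _)
    refine ⟨f.liftBaseChange K, fun x => ?_⟩
    rw [LinearMap.liftBaseChange_tmul, one_smul, hf, hDq, hD0]
  choose g hg using hg
  have hli : LinearIndependent K g := by
    rw [Fintype.linearIndependent_iff]
    intro c hc
    have h1 : ∑ i, c i • b i = 0 := by
      apply Subtype.ext
      rw [Submodule.coe_sum, Submodule.coe_zero]
      apply LinearMap.ext_on (span_one_tmul_D k A K)
      rintro _ ⟨x, rfl⟩
      have h5 := LinearMap.congr_fun hc ((1 : K) ⊗ₜ[A ⧸ p]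
        AdicCompletion.of (maximalIdeal (A ⧸ p)) (Ω[(A ⧸ p)⁄k])
          (D k (A ⧸ p) (Ideal.Quotient.mk p x)))
      rw [LinearMap.sum_apply, LinearMap.zero_apply] at h5
      rw [LinearMap.sum_apply, LinearMap.zero_apply, ← h5]
      refine Finset.sum_congr rfl fun i _ => ?_
      rw [Submodule.coe_smul, LinearMap.smul_apply, LinearMap.smul_apply, hg]
    intro i
    exact Fintype.linearIndependent_iff.1 b.linearIndependent c h1 i
  have h7 := hli.fintype_card_le_finrank
  rw [Fintype.card_fin, Subspace.dual_finrank_eq] at h7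
  exact h7

end CN

section W

variable (k A : Type u) [Field k] [CommRing A] [IsLocalRing A] [IsNoetherianRing A] [Algebra k A]
  (p : Ideal A) [p.IsPrime]
  (K : Type u) [Field K] [Algebra A K] [Algebra (A ⧸ p) K] [IsScalarTower A (A ⧸ p) K]
  [Algebra k K] [IsScalarTower k A K]

/-- the differentials of elements of `p` are, at `κ(p)`, in the span of the differentials of
generators of `p A_p` -/
theorem one_tmul_mem_span (hKinj : Function.Injective (algebraMap (A ⧸ p) K)) {h : ℕ}
    (x : Fin h → A)
    (hx : Ideal.span (Set.range fun i => algebraMap A (Localization.AtPrime p) (x i)) =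
      maximalIdeal (Localization.AtPrime p)) (a : A) (ha : a ∈ p) :
    (1 : K) ⊗ₜ[A] AdicCompletion.of (maximalIdeal A) (Ω[A⁄k]) (D k A a) ∈
      Submodule.span K (Set.range fun i =>
        (1 : K) ⊗ₜ[A] AdicCompletion.of (maximalIdeal A) (Ω[A⁄k]) (D k A (x i))) := by
  classical
  have hzero : ∀ y ∈ p, algebraMap A K y = 0 := by
    intro y hy
    rw [IsScalarTower.algebraMap_apply A (A ⧸ p) K, Ideal.Quotient.algebraMap_eq,
      Ideal.Quotient.eq_zero_iff_mem.2 hy, map_zero]
  have hne : ∀ y ∉ p, algebraMap A K y ≠ 0 := by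
    intro y hy h0
    rw [IsScalarTower.algebraMap_apply A (A ⧸ p) K, Ideal.Quotient.algebraMap_eq,
      map_eq_zero_iff _ hKinj, Ideal.Quotient.eq_zero_iff_mem] at h0
    exact hy h0
  have hxp : ∀ i, x i ∈ p := by
    intro i
    rw [← IsLocalization.AtPrime.to_map_mem_maximal_iff (Localization.AtPrime p) p, ← hx]
    exact Ideal.subset_span ⟨i, rfl⟩
  have h1 : algebraMap A (Localization.AtPrime p) a ∈ maximalIdeal (Localization.AtPrime p) :=
    (IsLocalization.AtPrime.to_map_mem_maximal_iff (Localization.AtPrime p) p a).2 ha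
  rw [← hx] at h1
  obtain ⟨c, hc⟩ := Ideal.mem_span_range_iff_exists_fun.1 h1
  obtain ⟨s, hs⟩ := IsLocalization.exist_integer_multiples_of_finite p.primeCompl c
  choose c' hc' using hs
  have h2 : algebraMap A (Localization.AtPrime p) ((s : A) * a - ∑ i, c' i * x i) = 0 := by
    rw [map_sub, map_mul, map_sum, ← hc, Finset.mul_sum, sub_eq_zero]
    refine Finset.sum_congr rfl fun i _ => ?_
    rw [map_mul]
    rw [hc' i, Algebra.smul_def, mul_assoc]
  obtain ⟨t, ht⟩ := (IsLocalization.map_eq_zero_iff p.primeCompl (Localization.AtPrime p) _).1 h2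
  have h3 : ((t : A) * s) * a = ∑ i, ((t : A) * c' i) * x i := by
    rw [mul_sub, sub_eq_zero, Finset.mul_sum] at ht
    rw [mul_assoc, ht]
    exact Finset.sum_congr rfl fun i _ => (mul_assoc _ _ _).symm
  let dK : Derivation k A (K ⊗[A] AdicCompletion (maximalIdeal A) (Ω[A⁄k])) :=
    (TensorProduct.mk A K (AdicCompletion (maximalIdeal A) (Ω[A⁄k])) 1).compDer
      ((AdicCompletion.of (maximalIdeal A) (Ω[A⁄k])).compDer (D k A))
  have hdK : ∀ y, dK y =
      (1 : K) ⊗ₜ[A] AdicCompletion.of (maximalIdeal A) (Ω[A⁄k]) (D k A y) := fun y => rfl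
  have hsmul : ∀ (y : A) (v : K ⊗[A] AdicCompletion (maximalIdeal A) (Ω[A⁄k])), y ∈ p →
      y • v = 0 := by
    intro y v hy
    rw [← algebraMap_smul K y v, hzero y hy, zero_smul]
  have h4 := congrArg dK h3
  rw [Derivation.leibniz, hsmul a _ ha, add_zero, map_sum] at h4
  have h5 : ∀ i, dK ((t : A) * c' i * x i) = ((t : A) * c' i) • dK (x i) := by
    intro i
    rw [Derivation.leibniz, hsmul (x i) _ (hxp i), add_zero]
  simp only [h5] at h4
  have hu : algebraMap A K ((t : A) * s) ≠ 0 :=
    hne _ (fun hmem => (p.primeCompl.mul_mem t.2 s.2) hmem)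
  have h6 : dK a = (algebraMap A K ((t : A) * s))⁻¹ •
      ∑ i, algebraMap A K ((t : A) * c' i) • dK (x i) := by
    have h7 : ∑ i, algebraMap A K ((t : A) * c' i) • dK (x i) =
        algebraMap A K ((t : A) * s) • dK a := by
      rw [algebraMap_smul, h4]
      exact Finset.sum_congr rfl fun i _ => algebraMap_smul K _ _
    rw [h7, smul_smul, inv_mul_cancel₀ hu, one_smul]
  rw [← hdK a, h6]
  refine Submodule.smul_mem _ _ (Submodule.sum_mem _ fun i _ => Submodule.smul_mem _ _ ?_)
  exact Submodule.subset_span ⟨i, rfl⟩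

end W

section CharZero

variable (k : Type u) [Field k] [CharZero k]

/-- in characteristic zero the rank of the completed differentials of a complete local domain
with residue field finite over `k` is its dimension -/
theorem finrank_of_charZero (C : Type u) [CommRing C] [IsDomain C] [IsLocalRing C]
    [IsNoetherianRing C] [Algebra k C] [IsAdicComplete (maximalIdeal C) C]
    [Module.Finite k (ResidueField C)] (K : Type u) [Field K] [Algebra C K] [IsFractionRing C K]
    (e : ℕ) (he : ringKrullDim C = e) :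
    Module.finrank K (K ⊗[C] AdicCompletion (maximalIdeal C) (Ω[C⁄k])) = e := by
  classical
  obtain ⟨n, w, hwinj, -, hwfin, hdim⟩ :=
    Groth.Agent.Lib.FinitePSH3.exists_powerSeries_finite (k₀ := k) (A := C)
  have hne : n = e := by
    rw [hdim] at he
    exact_mod_cast he
  subst hne
  letI : Algebra (MvPowerSeries (Fin n) k) C := w.toRingHom.toAlgebra
  haveI : IsScalarTower k (MvPowerSeries (Fin n) k) C :=
    IsScalarTower.of_algebraMap_eq (fun c => (w.commutes c).symm)
  haveI : Module.Finite (MvPowerSeries (Fin n) k) C := hwfin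
  have hinj : Function.Injective (algebraMap (MvPowerSeries (Fin n) k) C) := hwinj
  obtain ⟨hdom, hic⟩ :=
    Groth.Agent.Lib.ComplKaehlerEtaleH3.isIntegrallyClosed_mvPowerSeries_field k n
  haveI := hdom
  haveI := hic
  haveI : Algebra.IsIntegral (MvPowerSeries (Fin n) k) C := Algebra.IsIntegral.of_finite _ _
  haveI : FaithfulSMul (MvPowerSeries (Fin n) k) (FractionRing C) := by
    rw [faithfulSMul_iff_algebraMap_injective,
      IsScalarTower.algebraMap_eq (MvPowerSeries (Fin n) k) C (FractionRing C)]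
    exact (IsFractionRing.injective C (FractionRing C)).comp hinj
  letI := FractionRing.liftAlgebra (MvPowerSeries (Fin n) k) (FractionRing C)
  haveI : IsScalarTower (MvPowerSeries (Fin n) k) (FractionRing (MvPowerSeries (Fin n) k))
      (FractionRing C) := FractionRing.isScalarTower_liftAlgebra _ _
  haveI : CharZero (MvPowerSeries (Fin n) k) :=
    charZero_of_injective_algebraMap (R := k) (MvPowerSeries.C_injective (σ := Fin n) (R := k))
  haveI : CharZero (FractionRing (MvPowerSeries (Fin n) k)) :=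
    charZero_of_injective_algebraMap
      (IsFractionRing.injective (MvPowerSeries (Fin n) k) (FractionRing (MvPowerSeries (Fin n) k)))
  have hsep : ∀ a : C, ∃ Pl : Polynomial (MvPowerSeries (Fin n) k),
      Polynomial.aeval a Pl = 0 ∧ (Pl.map (algebraMap (MvPowerSeries (Fin n) k)
        (FractionRing (MvPowerSeries (Fin n) k)))).Separable := by
    intro a
    have hint : IsIntegral (MvPowerSeries (Fin n) k) a := Algebra.IsIntegral.isIntegral a
    refine ⟨minpoly (MvPowerSeries (Fin n) k) a, minpoly.aeval _ _, ?_⟩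
    have hint' : IsIntegral (FractionRing (MvPowerSeries (Fin n) k))
        (algebraMap C (FractionRing C) a) :=
      (hint.map (IsScalarTower.toAlgHom (MvPowerSeries (Fin n) k) C (FractionRing C))).tower_top
    have h1 : (minpoly (FractionRing (MvPowerSeries (Fin n) k))
        (algebraMap C (FractionRing C) a)).Separable := (minpoly.irreducible hint').separable
    rw [minpoly.isIntegrallyClosed_eq_field_fractions (FractionRing (MvPowerSeries (Fin n) k))
      (FractionRing C) hint] at h1
    exact h1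
  have hrank := Groth.Agent.Lib.ComplKaehlerSepH3.main4557 k n C hinj hsep
  rw [finrank_tensor_eq_of_isFractionRing C _ K (FractionRing C), hrank]

end CharZero

section UpperZero

variable (k A : Type u) [Field k] [CharZero k] [CommRing A] [IsLocalRing A] [IsNoetherianRing A]
  [Algebra k A] [IsAdicComplete (maximalIdeal A) A] [Module.Finite k (ResidueField A)]
  (P : Ideal A) [P.IsPrime] [IsRegularLocalRing (Localization.AtPrime P)]

/-- the upper bound for the fibre dimension in characteristic zero -/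
theorem finrank_le_of_charZero (h e : ℕ) (hh : ringKrullDim (Localization.AtPrime P) = h)
    (he : ringKrullDim (A ⧸ P) = e) :
    Module.finrank P.ResidueField
      (P.ResidueField ⊗[A] AdicCompletion (maximalIdeal A) (Ω[A⁄k])) ≤ h + e := by
  classical
  haveI : IsLocalRing (A ⧸ P) :=
    IsLocalRing.of_surjective' (Ideal.Quotient.mk P) Ideal.Quotient.mk_surjective
  haveI : IsAdicComplete (maximalIdeal (A ⧸ P)) (A ⧸ P) :=
    Groth.Agent.Lib.MonomialCharPH3.isAdicComplete_quotient A P
  haveI : Module.Finite k (ResidueField (A ⧸ P)) :=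
    Groth.Agent.Lib.ComplKaehlerDimH3.finite_residueField_quotient k A P
  obtain ⟨x, -, hx⟩ := exists_generators P h hh
  let W : Submodule P.ResidueField
      (P.ResidueField ⊗[A] AdicCompletion (maximalIdeal A) (Ω[A⁄k])) :=
    Submodule.span P.ResidueField (Set.range fun i =>
      (1 : P.ResidueField) ⊗ₜ[A] AdicCompletion.of (maximalIdeal A) (Ω[A⁄k]) (D k A (x i)))
  have hW : ∀ a ∈ P, (1 : P.ResidueField) ⊗ₜ[A]
      AdicCompletion.of (maximalIdeal A) (Ω[A⁄k]) (D k A a) ∈ W := fun a ha =>
    one_tmul_mem_span k A P P.ResidueField (IsFractionRing.injective (A ⧸ P) P.ResidueField)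
      x hx a ha
  have h1 := finrank_le_add k A P P.ResidueField W hW
  have h2 : Module.finrank P.ResidueField W ≤ h := by
    have h4 := finrank_range_le_card (R := P.ResidueField) (fun i : Fin h =>
      (1 : P.ResidueField) ⊗ₜ[A] AdicCompletion.of (maximalIdeal A) (Ω[A⁄k]) (D k A (x i)))
    rw [Fintype.card_fin] at h4
    exact h4
  have h3 := finrank_of_charZero k (A ⧸ P) P.ResidueField e he
  omega

end UpperZero

end Groth.Agent.Lib.ComplKaehlerFreeH3
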