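import Mathlib
import Groth.Agent.Lib.CohenLift_helper3
import Groth.Agent.Lib.PerfectGR_helper3

/-!
# `k((T_1..T_r))` is separable over `k` (helper3)
-/

set_option autoImplicit false
set_option maxSynthPendingDepth 3

namespace Groth.Agent.Lib.PSSepH3

universe u

open MvPowerSeries

section

variable (p : ℕ) [hp : Fact p.Prime] {k : Type u} [Field k] [CharP k p] {σ : Type*}

include hp in
theorem coeff_smul_pow (f : MvPowerSeries σ k) (m : σ →₀ ℕ) :
    coeff (p • m) (f ^ p) = (coeff m f) ^ p := by
  haveI : ExpChar k p := ExpChar.prime hp.out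
  rw [← MvPowerSeries.map_frobenius_expand p hp.out.ne_zero, coeff_map, coeff_expand_smul,
    frobenius_def]

include hp in
/-- MacLane in `k[[T]]`: `p`-th powers of `k`-independent power series are `k`-independent. -/
theorem linearIndependent_pow_ps {J : Type*} [Fintype J] (f : J → MvPowerSeries σ k)
    (hf : LinearIndependent k f) : LinearIndependent k (fun j => f j ^ p) := by
  classical
  rw [Fintype.linearIndependent_iff] at hf ⊢
  intro c hc
  -- the `p`-semilinear form
  let W : Submodule k (J → k) :=
    { carrier := {v | ∑ j, c j * (v j) ^ p = 0}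
      zero_mem' := by
        show ∑ j, c j * ((0 : J → k) j) ^ p = 0
        simp [zero_pow hp.out.ne_zero]
      add_mem' := by
        intro v w hv hw
        show ∑ j, c j * ((v + w) j) ^ p = 0
        have hv' : ∑ j, c j * (v j) ^ p = 0 := hv
        have hw' : ∑ j, c j * (w j) ^ p = 0 := hw
        simp only [Pi.add_apply, add_pow_char, mul_add, Finset.sum_add_distrib, hv', hw', add_zero]
      smul_mem' := by
        intro a v hv
        show ∑ j, c j * ((a • v) j) ^ p = 0
        have hv' : ∑ j, c j * (v j) ^ p = 0 := hv
        have : ∀ j, c j * ((a • v) j) ^ p = a ^ p * (c j * (v j) ^ p) := fun j => by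
          rw [Pi.smul_apply, smul_eq_mul, mul_pow]; ring
        simp only [this, ← Finset.mul_sum, hv', mul_zero] }
  have hW : ∀ v, v ∈ W ↔ ∑ j, c j * (v j) ^ p = 0 := fun v => Iff.rfl
  have hrow : ∀ m : σ →₀ ℕ, (fun j => coeff m (f j)) ∈ W := by
    intro m
    rw [hW]
    have := congrArg (coeff (p • m)) hc
    rw [map_sum, map_zero] at this
    rw [← this]
    refine Finset.sum_congr rfl fun j _ => ?_
    rw [MvPowerSeries.coeff_smul, coeff_smul_pow]
  have htop : W = ⊤ := by
    by_contra hne
    obtain ⟨lam, hlam0, hlam⟩ := Submodule.exists_le_ker_of_lt_top W (lt_top_iff_ne_top.2 hne)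
    apply hlam0
    have hsum : ∑ j, lam (Pi.single j 1) • f j = 0 := by
      ext m
      rw [map_sum, map_zero]
      have h1 : lam (fun j => coeff m (f j)) = 0 := hlam (hrow m)
      rw [← h1]
      have h2 : (fun j => coeff m (f j)) = ∑ j, coeff m (f j) • (Pi.single j (1 : k) : J → k) := by
        funext i
        simp [Finset.sum_apply, Pi.single_apply]
      rw [h2, map_sum]
      refine Finset.sum_congr rfl fun j _ => ?_
      rw [MvPowerSeries.coeff_smul, map_smul, smul_eq_mul, mul_comm]
    have h3 := hf _ hsum
    apply LinearMap.pi_ext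
    intro j a
    have : (Pi.single j a : J → k) = a • Pi.single j (1 : k) := by
      funext i
      simp [Pi.single_apply]
    rw [this, map_smul, h3 j, smul_zero, LinearMap.zero_apply]
  intro j
  have hj : (Pi.single j (1 : k) : J → k) ∈ W := by rw [htop]; trivial
  rw [hW] at hj
  rw [Finset.sum_eq_single j] at hj
  · simpa using hj
  · intro i _ hi
    rw [Pi.single_eq_of_ne hi, zero_pow hp.out.ne_zero, mul_zero]
  · intro h; exact absurd (Finset.mem_univ j) h

end

section Frac

variable (p : ℕ) [hp : Fact p.Prime] (k : Type u) [Field k] [CharP k p] (r : ℕ)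

local notation "PS" => MvPowerSeries (Fin r) k
local notation "KK" => FractionRing (MvPowerSeries (Fin r) k)

include hp in
theorem linearIndependent_pow_frac {J : Type*} (s : J → KK) (hs : LinearIndependent k s) :
    LinearIndependent k (fun j => s j ^ p) := by
  classical
  rw [linearIndependent_iff'] at hs ⊢
  intro t g hg
  obtain ⟨b, hb⟩ := IsLocalization.exist_integer_multiples (nonZeroDivisors PS) t s
  have hbunit : IsUnit (algebraMap PS KK (b : PS)) := IsLocalization.map_units KK b
  have hinj : Function.Injective (algebraMap PS KK) := IsFractionRing.injective PS KK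
  choose! f hf using hb
  -- `f j ↦ b • s j`
  have hf' : ∀ j ∈ t, algebraMap PS KK (f j) = algebraMap PS KK (b : PS) * s j := fun j hj => by
    rw [hf j hj, Algebra.smul_def]
  -- independence of the numerators
  have hli : LinearIndependent k (fun j : t => f j) := by
    rw [Fintype.linearIndependent_iff]
    intro c hc
    have h1 := congrArg (algebraMap PS KK) hc
    rw [map_sum, map_zero] at h1
    have h2 : ∑ j ∈ t, (if hj : j ∈ t then c ⟨j, hj⟩ else 0) • s j = 0 := by
      apply hbunit.mul_left_cancel
      rw [mul_zero, Finset.mul_sum, ← h1, ← Finset.sum_coe_sort t]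
      refine Finset.sum_congr rfl fun j _ => ?_
      rw [dif_pos j.2, Algebra.smul_def, Algebra.smul_def, map_mul, hf' j j.2,
        ← IsScalarTower.algebraMap_apply]
      ring
    intro j
    have h3 := hs t _ h2 j j.2
    rwa [dif_pos j.2] at h3
  have hli' := linearIndependent_pow_ps p (fun j : t => f j) hli
  rw [Fintype.linearIndependent_iff] at hli'
  have h4 : ∑ j : t, g j • (f j) ^ p = 0 := by
    apply hinj
    rw [map_sum, map_zero]
    have h5 : ∑ j ∈ t, algebraMap PS KK (b : PS) ^ p * (g j • s j ^ p) = 0 := by
      rw [← Finset.mul_sum, hg, mul_zero]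
    rw [← h5, ← Finset.sum_coe_sort t]
    refine Finset.sum_congr rfl fun j _ => ?_
    rw [Algebra.smul_def, Algebra.smul_def, map_mul, map_pow, hf' j j.2, mul_pow,
      ← IsScalarTower.algebraMap_apply]
    ring
  intro j hj
  exact hli' (fun j : t => g j) h4 ⟨j, hj⟩

end Frac

/-- `k((T_1, …, T_r))` is geometrically reduced over `k`. -/
theorem isGeometricallyReduced_frac (k : Type u) [Field k] (r : ℕ) :
    Algebra.IsGeometricallyReduced k (FractionRing (MvPowerSeries (Fin r) k)) := by
  haveI : IsDomain (MvPowerSeries (Fin r) k) := NoZeroDivisors.to_isDomain _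
  obtain ⟨p, hp⟩ := CharP.exists k
  rcases CharP.char_is_prime_or_zero k p with hpp | rfl
  · haveI : Fact p.Prime := ⟨hpp⟩
    exact Groth.Agent.Lib.CohenLiftH3.isGeometricallyReduced_of_linearIndependent_pow p k _
      fun s hs => linearIndependent_pow_frac p k r s hs
  · haveI : CharZero k := CharP.charP_to_charZero k
    exact Groth.Agent.Lib.PerfectGRH3.isGeometricallyReduced_of_perfectField k _

end Groth.Agent.Lib.PSSepH3
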