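import Mathlib
import Groth.Agent.Lib.FinitePS_helper3
import Groth.Agent.Lib.Admissible_helper3
import Groth.Agent.Lib.PSSep_helper3
import Groth.Agent.Lib.ComplKaehlerRank_helper3

/-!
# Differentials of the fraction field of a complete local domain (EGA 0_IV 21.9.x / IV 18 use)
-/

set_option autoImplicit false
set_option maxSynthPendingDepth 3

namespace Groth.Agent.Lib.FracDiffH3

universe u

open TensorProduct KaehlerDifferential IsLocalRing Groth.Agent.Lib.FredholmH3
  Groth.Agent.Lib.AdmissibleH3 Groth.Agent.Lib.ComplKaehlerH3 Groth.Agent.Lib.FinitePSH3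

section LinAlg

/-- If `α` is injective and `β` has kernel and cokernel of the same rank, then
`rank coker (β ∘ α) = rank coker α + rank ker (β ∘ α)`. -/
theorem rank_coker_comp {F : Type*} [Field F] {V W U : Type u} [AddCommGroup V] [Module F V]
    [AddCommGroup W] [Module F W] [AddCommGroup U] [Module F U] (α : V →ₗ[F] W) (β : W →ₗ[F] U)
    (hα : Function.Injective α)
    (hβ : Module.rank F (LinearMap.ker β) = Module.rank F (U ⧸ LinearMap.range β)) :
    Module.rank F (U ⧸ LinearMap.range (β ∘ₗ α)) =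
      Module.rank F (W ⧸ LinearMap.range α) + Module.rank F (LinearMap.ker (β ∘ₗ α)) := by
  have h1 : LinearMap.range α ≤ (LinearMap.range (β ∘ₗ α)).comap β := by
    rintro _ ⟨v, rfl⟩
    exact ⟨v, rfl⟩
  let βb : (W ⧸ LinearMap.range α) →ₗ[F] (U ⧸ LinearMap.range (β ∘ₗ α)) :=
    Submodule.mapQ _ _ β h1
  have hβb : ∀ w : W, βb (Submodule.mkQ _ w) = Submodule.mkQ _ (β w) := fun w => rfl
  have h2 : LinearMap.range (β ∘ₗ α) ≤ LinearMap.range β := by
    rintro _ ⟨v, rfl⟩
    exact ⟨α v, rfl⟩
  let q : (U ⧸ LinearMap.range (β ∘ₗ α)) →ₗ[F] (U ⧸ LinearMap.range β) := Submodule.factor h2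
  let θ : LinearMap.ker β →ₗ[F] (W ⧸ LinearMap.range α) :=
    (Submodule.mkQ _) ∘ₗ (LinearMap.ker β).subtype
  have hθ : ∀ t : LinearMap.ker β, θ t = Submodule.mkQ _ (t : W) := fun t => rfl
  let ψ : LinearMap.ker (β ∘ₗ α) →ₗ[F] LinearMap.ker β :=
    LinearMap.codRestrict (LinearMap.ker β) (α ∘ₗ (LinearMap.ker (β ∘ₗ α)).subtype)
      (fun v => LinearMap.mem_ker.2 (LinearMap.mem_ker.1 v.2))
  have hψ : ∀ v : LinearMap.ker (β ∘ₗ α), ((ψ v : LinearMap.ker β) : W) = α v := fun v => rfl
  have hC1 : LinearMap.ker q = LinearMap.range βb := by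
    ext x
    obtain ⟨u, rfl⟩ := Submodule.mkQ_surjective _ x
    rw [LinearMap.mem_ker, Submodule.factor_mk, Submodule.mkQ_apply,
      Submodule.Quotient.mk_eq_zero]
    constructor
    · rintro ⟨w, rfl⟩
      exact ⟨Submodule.mkQ _ w, hβb w⟩
    · rintro ⟨y, hy⟩
      obtain ⟨w, rfl⟩ := Submodule.mkQ_surjective _ y
      rw [hβb, Submodule.mkQ_apply, Submodule.mkQ_apply, Submodule.Quotient.eq] at hy
      obtain ⟨v, hv⟩ := hy
      refine ⟨w - α v, ?_⟩
      rw [map_sub, ← LinearMap.comp_apply, hv, sub_sub_cancel]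
  have hC2 : LinearMap.range θ = LinearMap.ker βb := by
    ext y
    obtain ⟨w, rfl⟩ := Submodule.mkQ_surjective _ y
    constructor
    · rintro ⟨t, ht⟩
      rw [hθ, Submodule.mkQ_apply, Submodule.mkQ_apply, Submodule.Quotient.eq] at ht
      obtain ⟨v, hv⟩ := ht
      rw [LinearMap.mem_ker, hβb, Submodule.mkQ_apply, Submodule.Quotient.mk_eq_zero]
      refine ⟨-v, ?_⟩
      have hw : β w = - β (α v) := by
        have hw' : w = (t : W) - α v := by
          rw [hv]
          abel
        rw [hw', map_sub, LinearMap.mem_ker.1 t.2, zero_sub]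
      rw [LinearMap.comp_apply, map_neg, map_neg, hw]
    · intro hy
      rw [LinearMap.mem_ker, hβb, Submodule.mkQ_apply, Submodule.Quotient.mk_eq_zero] at hy
      obtain ⟨v, hv⟩ := hy
      have hmem : w - α v ∈ LinearMap.ker β := by
        rw [LinearMap.mem_ker, map_sub, ← LinearMap.comp_apply, hv, sub_self]
      refine ⟨⟨w - α v, hmem⟩, ?_⟩
      rw [hθ, Submodule.mkQ_apply, Submodule.mkQ_apply, Submodule.Quotient.eq]
      refine ⟨-v, ?_⟩
      rw [map_neg]
      show -α v = w - α v - w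
      abel
  have hψinj : Function.Injective ψ := by
    intro a b hab
    apply Subtype.ext
    apply hα
    have := congrArg (fun z : LinearMap.ker β => (z : W)) hab
    simpa only [hψ] using this
  have hC3 : LinearMap.ker θ = LinearMap.range ψ := by
    ext t
    constructor
    · intro ht
      rw [LinearMap.mem_ker, hθ, Submodule.mkQ_apply, Submodule.Quotient.mk_eq_zero] at ht
      obtain ⟨v, hv⟩ := ht
      have hv' : v ∈ LinearMap.ker (β ∘ₗ α) := by
        rw [LinearMap.mem_ker, LinearMap.comp_apply, hv]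
        exact LinearMap.mem_ker.1 t.2
      exact ⟨⟨v, hv'⟩, Subtype.ext hv⟩
    · rintro ⟨v, rfl⟩
      rw [LinearMap.mem_ker, hθ, hψ, Submodule.mkQ_apply, Submodule.Quotient.mk_eq_zero]
      exact ⟨v.1, rfl⟩
  have R1 := LinearMap.rank_range_add_rank_ker βb
  have R2 := LinearMap.rank_eq_of_surjective (f := q) (Submodule.factor_surjective h2)
  have R3 := LinearMap.rank_range_add_rank_ker θ
  have R4 : Module.rank F (LinearMap.range ψ) = Module.rank F (LinearMap.ker (β ∘ₗ α)) :=
    rank_range_of_injective ψ hψinj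
  rw [hC1] at R2
  rw [← hC2] at R1
  rw [hC3, R4] at R3
  rw [R2, ← R1, ← hβ, ← R3]
  ring

end LinAlg

section Tower

/-- Main rank identity for a tower of fields `k ⊆ L₀ ⊆ L` with `L₀/k` "separable"
(`Υ_{L₀/k} = 0`) and `Ω_{L₀} ⊗ L → Ω_L` of index `0`. -/
theorem rank_kaehler_tower {k L₀ L : Type u} [Field k] [Field L₀] [Field L] [Algebra k L₀]
    [Algebra L₀ L] [Algebra k L] [IsScalarTower k L₀ L]
    (hinj : Function.Injective (mapBaseChange ℤ k L₀))
    (hF : IsFred (mapBaseChange ℤ L₀ L) 0) :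
    Module.Finite L (LinearMap.ker (mapBaseChange ℤ k L)) ∧
      Module.rank L (Ω[L⁄k]) =
        Module.rank L₀ (Ω[L₀⁄k]) + Module.rank L (LinearMap.ker (mapBaseChange ℤ k L)) := by
  let α : L ⊗[L₀] (L₀ ⊗[k] Ω[k⁄ℤ]) →ₗ[L] L ⊗[L₀] Ω[L₀⁄ℤ] := (mapBaseChange ℤ k L₀).baseChange L
  let β : L ⊗[L₀] Ω[L₀⁄ℤ] →ₗ[L] Ω[L⁄ℤ] := mapBaseChange ℤ L₀ L
  let γ : L ⊗[k] Ω[k⁄ℤ] →ₗ[L] Ω[L⁄ℤ] := mapBaseChange ℤ k L
  let c := AlgebraTensorModule.cancelBaseChange k L₀ L L Ω[k⁄ℤ]
  have htower : γ ∘ₗ c.toLinearMap = β ∘ₗ α :=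
    Groth.Agent.Lib.CartierH3.mbc_tower ℤ (A := k) (B := L₀) (C := L)
  have hαinj : Function.Injective α :=
    Module.Flat.lTensor_preserves_injective_linearMap (M := L) _ hinj
  haveI := hF.finite_ker
  haveI := hF.finite_coker
  have hβ : Module.rank L (LinearMap.ker β) = Module.rank L (Ω[L⁄ℤ] ⧸ LinearMap.range β) := by
    rw [← Module.finrank_eq_rank, ← Module.finrank_eq_rank]
    have h0 := hF.index_eq
    have h2 : Module.finrank L (LinearMap.ker β) =
        Module.finrank L (Ω[L⁄ℤ] ⧸ LinearMap.range β) := by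
      have h3 : (Module.finrank L (Ω[L⁄ℤ] ⧸ LinearMap.range β) : ℤ) =
          Module.finrank L (LinearMap.ker β) := by
        have h4 : (Module.finrank L (Ω[L⁄ℤ] ⧸ LinearMap.range (mapBaseChange ℤ L₀ L)) : ℤ) -
          Module.finrank L (LinearMap.ker (mapBaseChange ℤ L₀ L)) = 0 := h0
        exact sub_eq_zero.1 h4
      exact_mod_cast h3.symm
    rw [h2]
  have key := rank_coker_comp α β hαinj hβ
  rw [← htower] at key
  have hr : LinearMap.range (γ ∘ₗ c.toLinearMap) = LinearMap.range γ := by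
    rw [LinearMap.range_comp, LinearEquiv.range, Submodule.map_top]
  have hk : Module.rank L (LinearMap.ker (γ ∘ₗ c.toLinearMap)) =
      Module.rank L (LinearMap.ker γ) := by
    rw [LinearMap.ker_comp]
    exact (c.ofSubmodule' (LinearMap.ker γ)).rank_eq
  rw [hr, hk] at key
  let e : (Ω[L⁄ℤ] ⧸ LinearMap.range γ) ≃ₗ[L] Ω[L⁄k] :=
    (exact_mapBaseChange_map ℤ k L).linearEquivOfSurjective (map_surjective ℤ k L)
  have hexα := exact_baseChange L (exact_mapBaseChange_map ℤ k L₀) (map_surjective ℤ k L₀)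
  let e' : ((L ⊗[L₀] Ω[L₀⁄ℤ]) ⧸ LinearMap.range α) ≃ₗ[L] L ⊗[L₀] Ω[L₀⁄k] :=
    hexα.linearEquivOfSurjective (LinearMap.lTensor_surjective L (map_surjective ℤ k L₀))
  rw [e.rank_eq, e'.rank_eq, Module.rank_baseChange, Cardinal.lift_id] at key
  refine ⟨?_, key⟩
  -- finiteness of `ker γ`
  let ψ : LinearMap.ker (β ∘ₗ α) →ₗ[L] LinearMap.ker β :=
    LinearMap.codRestrict (LinearMap.ker β) (α ∘ₗ (LinearMap.ker (β ∘ₗ α)).subtype)
      (fun v => LinearMap.mem_ker.2 (LinearMap.mem_ker.1 v.2))
  have hψinj : Function.Injective ψ := by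
    intro a b hab
    apply Subtype.ext
    apply hαinj
    exact congrArg (fun z : LinearMap.ker β => (z : L ⊗[L₀] Ω[L₀⁄ℤ])) hab
  haveI : Module.Finite L (LinearMap.ker (β ∘ₗ α)) := Module.Finite.of_injective ψ hψinj
  haveI : Module.Finite L (LinearMap.ker (γ ∘ₗ c.toLinearMap)) := by
    rw [htower]
    infer_instance
  haveI : Module.Finite L ((LinearMap.ker γ).comap c.toLinearMap) := by
    rw [← LinearMap.ker_comp]
    infer_instance
  exact Module.Finite.equiv (c.ofSubmodule' (LinearMap.ker γ))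

end Tower

section PS

variable (k : Type u) [Field k] (n : ℕ)

theorem le_rank_kaehler_frac :
    (n : Cardinal.{u}) ≤ Module.rank (FractionRing (MvPowerSeries (Fin n) k))
      (Ω[FractionRing (MvPowerSeries (Fin n) k)⁄k]) := by
  classical
  haveI : IsDomain (MvPowerSeries (Fin n) k) := NoZeroDivisors.to_isDomain _
  have hP : Function.Surjective (partials k n) := by
    intro v
    refine ⟨∑ j, v j • dX k n j, ?_⟩
    rw [map_sum]
    simp only [map_smul, partials_dX]
    funext i
    simp [Finset.sum_apply, Pi.single_apply]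
  haveI : Algebra.FormallyEtale (MvPowerSeries (Fin n) k)
      (FractionRing (MvPowerSeries (Fin n) k)) :=
    Algebra.FormallyEtale.of_isLocalization (nonZeroDivisors (MvPowerSeries (Fin n) k))
  let e := tensorKaehlerEquivOfFormallyEtale k (MvPowerSeries (Fin n) k)
    (FractionRing (MvPowerSeries (Fin n) k))
  let g : Ω[FractionRing (MvPowerSeries (Fin n) k)⁄k] →ₗ[FractionRing (MvPowerSeries (Fin n) k)]
      FractionRing (MvPowerSeries (Fin n) k) ⊗[MvPowerSeries (Fin n) k]
        (Fin n → MvPowerSeries (Fin n) k) :=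
    ((partials k n).baseChange (FractionRing (MvPowerSeries (Fin n) k))) ∘ₗ e.symm.toLinearMap
  have hg : Function.Surjective g :=
    (LinearMap.lTensor_surjective (FractionRing (MvPowerSeries (Fin n) k)) hP).comp
      e.symm.surjective
  have h1 := LinearMap.rank_le_of_surjective g hg
  rw [Module.rank_baseChange, rank_fin_fun] at h1
  simpa using h1

end PS

section Main

theorem mbc_injective_of_gr {k L₀ : Type u} [Field k] [Field L₀] [Algebra k L₀]
    [Algebra.IsGeometricallyReduced k L₀] : Function.Injective (mapBaseChange ℤ k L₀) := by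
  haveI : Algebra.FormallySmooth k L₀ :=
    Groth.Agent.Lib.SepSmoothH3.formallySmooth_of_isGeometricallyReduced k L₀
  exact mapBaseChange_injective_of_formallySmooth ℤ k L₀

/-- The rank identity for the fraction field of a domain finite over a power series ring. -/
theorem main_of_finite {k C L : Type u} [Field k] [CommRing C] [IsDomain C] [Algebra k C]
    [Field L] [Algebra C L] [IsFractionRing C L] [Algebra k L] [IsScalarTower k C L]
    (n : ℕ) (w : MvPowerSeries (Fin n) k →ₐ[k] C) (hinj : Function.Injective w)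
    (hfin : w.toRingHom.Finite) :
    Module.Finite L (LinearMap.ker (mapBaseChange ℤ k L)) ∧
      Module.rank L (Ω[L⁄k]) =
        Module.rank (FractionRing (MvPowerSeries (Fin n) k))
            (Ω[FractionRing (MvPowerSeries (Fin n) k)⁄k]) +
          Module.rank L (LinearMap.ker (mapBaseChange ℤ k L)) := by
  haveI : IsDomain (MvPowerSeries (Fin n) k) := NoZeroDivisors.to_isDomain _
  letI : Algebra (MvPowerSeries (Fin n) k) C := w.toRingHom.toAlgebra
  haveI : IsScalarTower k (MvPowerSeries (Fin n) k) C :=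
    IsScalarTower.of_algebraMap_eq fun c => (w.commutes c).symm
  letI : Algebra (MvPowerSeries (Fin n) k) L :=
    ((algebraMap C L).comp (algebraMap (MvPowerSeries (Fin n) k) C)).toAlgebra
  haveI : IsScalarTower (MvPowerSeries (Fin n) k) C L := IsScalarTower.of_algebraMap_eq fun _ => rfl
  haveI : IsScalarTower k (MvPowerSeries (Fin n) k) L := IsScalarTower.of_algebraMap_eq fun c => by
    rw [IsScalarTower.algebraMap_apply k C L, IsScalarTower.algebraMap_apply k (MvPowerSeries (Fin n) k) C,
      ← IsScalarTower.algebraMap_apply (MvPowerSeries (Fin n) k) C L]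
  have hBL : Function.Injective (algebraMap (MvPowerSeries (Fin n) k) L) :=
    (IsFractionRing.injective C L).comp hinj
  haveI : FaithfulSMul (MvPowerSeries (Fin n) k) L :=
    (faithfulSMul_iff_algebraMap_injective _ _).2 hBL
  letI : Algebra (FractionRing (MvPowerSeries (Fin n) k)) L :=
    FractionRing.liftAlgebra (MvPowerSeries (Fin n) k) L
  haveI : IsScalarTower (MvPowerSeries (Fin n) k) (FractionRing (MvPowerSeries (Fin n) k)) L :=
    FractionRing.isScalarTower_liftAlgebra (MvPowerSeries (Fin n) k) L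
  haveI : IsScalarTower k (FractionRing (MvPowerSeries (Fin n) k)) L :=
    IsScalarTower.of_algebraMap_eq fun c => by
      rw [IsScalarTower.algebraMap_apply k (MvPowerSeries (Fin n) k)
          (FractionRing (MvPowerSeries (Fin n) k)),
        ← IsScalarTower.algebraMap_apply (MvPowerSeries (Fin n) k)
          (FractionRing (MvPowerSeries (Fin n) k)) L,
        ← IsScalarTower.algebraMap_apply k (MvPowerSeries (Fin n) k) L]
  haveI : Module.Finite (MvPowerSeries (Fin n) k) C := hfin
  haveI : Algebra.IsAlgebraic (MvPowerSeries (Fin n) k) C := Algebra.IsIntegral.isAlgebraic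
  haveI : Module.IsTorsionFree (MvPowerSeries (Fin n) k) L :=
    Module.isTorsionFree_iff_algebraMap_injective.2 hBL
  haveI : Algebra.IsAlgebraic (MvPowerSeries (Fin n) k) L :=
    (IsFractionRing.isAlgebraic_iff' (MvPowerSeries (Fin n) k) C L).1 inferInstance
  haveI : Algebra.IsAlgebraic (FractionRing (MvPowerSeries (Fin n) k)) L :=
    (IsFractionRing.comap_isAlgebraic_iff (A := MvPowerSeries (Fin n) k)
      (K := FractionRing (MvPowerSeries (Fin n) k)) (C := L)).1 inferInstance
  haveI : Algebra.EssFiniteType C L := Algebra.EssFiniteType.of_isLocalization L (nonZeroDivisors C)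
  haveI : Algebra.EssFiniteType (MvPowerSeries (Fin n) k) L :=
    Algebra.EssFiniteType.comp (MvPowerSeries (Fin n) k) C L
  haveI : Algebra.EssFiniteType (FractionRing (MvPowerSeries (Fin n) k)) L :=
    Algebra.EssFiniteType.of_comp (MvPowerSeries (Fin n) k) _ L
  obtain ⟨d, hd, hF⟩ := cartierProp_of_essFiniteType
    (K := FractionRing (MvPowerSeries (Fin n) k)) (L := L)
  have hd0 : d = 0 := by
    rw [trdeg_eq_zero] at hd
    exact_mod_cast hd.symm
  subst hd0
  haveI := Groth.Agent.Lib.PSSepH3.isGeometricallyReduced_frac k n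
  exact rank_kaehler_tower (mbc_injective_of_gr (k := k)
    (L₀ := FractionRing (MvPowerSeries (Fin n) k))) (by simpa using hF)

end Main

end Groth.Agent.Lib.FracDiffH3
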