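import Mathlib
import Groth.Agent.Lib.FracDiff_helper3

/-!
# `k[[T]]` over a field with `[k : k^p] < ∞`: Frobenius is finite, `Ω` is spanned by the `dT_i`
-/

set_option autoImplicit false
set_option maxSynthPendingDepth 3

namespace Groth.Agent.Lib.FracDiffH3

universe u

open TensorProduct KaehlerDifferential IsLocalRing MvPowerSeries Groth.Agent.Lib.ComplKaehlerH3
  Groth.Agent.Lib.FinitePSH3

section Frob

/-- `B` regarded as a `B`-algebra through the Frobenius. -/
def Fr (p : ℕ) (B : Type*) : Type _ := B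

instance (p : ℕ) (B : Type*) [CommRing B] : CommRing (Fr p B) := inferInstanceAs (CommRing B)

noncomputable instance frAlgebra (p : ℕ) (B : Type*) [CommRing B] [ExpChar B p] :
    Algebra B (Fr p B) :=
  RingHom.toAlgebra (show B →+* Fr p B from frobenius B p)

variable (p : ℕ) [Fact p.Prime] (k : Type u) [Field k] [CharP k p] (n : ℕ)

local notation "PSn" => MvPowerSeries (Fin n) k

theorem exists_frobenius_generators (hk : (frobenius k p).Finite) :
    ∃ (t : ℕ) (g : Fin t → PSn), ∀ f : PSn, ∃ h : Fin t → PSn, f = ∑ l, (h l) ^ p * g l := by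
  classical
  haveI : CharP PSn p := charP_of_injective_algebraMap (algebraMap k PSn).injective p
  haveI : IsAdicComplete (maximalIdeal k) k := by
    rw [IsLocalRing.maximalIdeal_eq_bot]
    infer_instance
  have hk' : Module.Finite k (Fr p k) := hk
  obtain ⟨t₂, b, hb⟩ := Module.Finite.exists_fin (R := k) (M := Fr p k)
  have hbk : ∀ c : k, ∃ μ : Fin t₂ → k, c = ∑ i, (μ i) ^ p * (show k from b i) := by
    intro c
    have hc : (show Fr p k from c) ∈ Submodule.span k (Set.range b) := by
      rw [hb]
      trivial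
    obtain ⟨μ, hμ⟩ := (Submodule.mem_span_range_iff_exists_fun k).1 hc
    exact ⟨μ, hμ.symm⟩
  have hJfin : Module.Finite k (PSn ⧸ (maximalIdeal PSn).map (frobenius PSn p)) := by
    have hrad : maximalIdeal PSn ≤ ((maximalIdeal PSn).map (frobenius PSn p)).radical := by
      intro x hx
      rw [maximalIdeal_eq_span_X] at hx
      induction hx using Submodule.span_induction with
      | mem x hx =>
        obtain ⟨j, rfl⟩ := hx
        refine ⟨p, ?_⟩
        have hX : (X j : PSn) ∈ maximalIdeal PSn := by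
          rw [maximalIdeal_eq_span_X]
          exact Ideal.subset_span ⟨j, rfl⟩
        exact Ideal.mem_map_of_mem (frobenius PSn p) hX
      | zero => exact Ideal.zero_mem _
      | add x y _ _ hx hy => exact Ideal.add_mem _ hx hy
      | smul a x _ hx => exact Ideal.mul_mem_left _ a hx
    obtain ⟨N, hN⟩ := Ideal.exists_pow_le_of_le_radical_of_fg hrad (IsNoetherian.noetherian _)
    haveI : Module.Finite k (PSn ⧸ maximalIdeal PSn) := by
      refine Module.Finite.of_surjective
        ((Ideal.Quotient.mkₐ k (maximalIdeal PSn)).toLinearMap ∘ₗ (Algebra.linearMap k PSn)) ?_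
      intro y
      obtain ⟨c, hc⟩ := Groth.Agent.Lib.RegPSH3.residue_comp_C_surjective (Λ := k) n y
      exact ⟨c, hc⟩
    haveI : Module.Finite k (PSn ⧸ maximalIdeal PSn ^ N) := finite_quotient_pow N
    exact Module.Finite.of_surjective ((Submodule.factor hN).restrictScalars k)
      (Submodule.factor_surjective hN)
  obtain ⟨t₁, c, hc⟩ := exists_span_mod (k₀ := k) ((maximalIdeal PSn).map (frobenius PSn p))
  have hmapeq : ∀ (m : ℕ) (a : Fr p PSn),
      a ∈ (maximalIdeal PSn ^ m • (⊤ : Submodule PSn (Fr p PSn))) ↔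
        (show PSn from a) ∈ (maximalIdeal PSn ^ m).map (frobenius PSn p) := by
    intro m a
    rw [Ideal.smul_top_eq_map, Submodule.restrictScalars_mem]
    rfl
  have hfrobmap : ∀ m : ℕ,
      (maximalIdeal PSn ^ m).map (frobenius PSn p) ≤ maximalIdeal PSn ^ m := by
    intro m
    rw [Ideal.map_le_iff_le_comap]
    intro x hx
    show x ^ p ∈ maximalIdeal PSn ^ m
    obtain ⟨q, hq⟩ : ∃ q, p = q + 1 :=
      ⟨p - 1, (Nat.succ_pred_eq_of_pos (Fact.out : p.Prime).pos).symm⟩
    rw [hq, pow_succ]
    exact Ideal.mul_mem_left _ _ hx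
  haveI : IsHausdorff (maximalIdeal PSn) (Fr p PSn) := by
    refine ⟨fun a ha => ?_⟩
    have h0 : (show PSn from a) = 0 := by
      refine IsHausdorff.haus (inferInstance : IsHausdorff (maximalIdeal PSn) PSn) _ fun m => ?_
      rw [SModEq.zero, smul_eq_mul, Ideal.mul_top]
      exact hfrobmap m ((hmapeq m a).1 (SModEq.zero.1 (ha m)))
    exact h0
  let g : Fin t₁ × Fin t₂ → Fr p PSn := fun x =>
    (show Fr p PSn from (C (show k from b x.2) : PSn) * c x.1)
  let ε : Fin (t₁ * t₂) ≃ Fin t₁ × Fin t₂ := finProdFinEquiv.symm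
  haveI := isPrecomplete_pi (A := PSn) (r := t₁ * t₂) (maximalIdeal PSn)
  have h1 : Function.Surjective
      ((Submodule.mkQ (maximalIdeal PSn • (⊤ : Submodule PSn (Fr p PSn)))) ∘ₗ
        (Fintype.linearCombination PSn (g ∘ ε))) := by
    intro y
    obtain ⟨a, rfl⟩ := Submodule.mkQ_surjective _ y
    obtain ⟨lam, hlam⟩ := hc (show PSn from a)
    choose μ hμ using fun j => hbk (lam j)
    refine ⟨fun l => C (μ (ε l).1 (ε l).2), ?_⟩
    rw [LinearMap.comp_apply, Submodule.mkQ_apply, Submodule.mkQ_apply, Submodule.Quotient.eq,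
      Fintype.linearCombination_apply]
    have hsum : (∑ l, (C (μ (ε l).1 (ε l).2) : PSn) • (g ∘ ε) l) =
        (show Fr p PSn from ∑ j, lam j • c j) := by
      rw [Fintype.sum_equiv ε (fun l => (C (μ (ε l).1 (ε l).2) : PSn) • (g ∘ ε) l)
        (fun x : Fin t₁ × Fin t₂ => (C (μ x.1 x.2) : PSn) • g x) (fun l => rfl),
        Fintype.sum_prod_type]
      show (∑ j, ∑ i, ((C (μ j i) : PSn) ^ p * ((C (show k from b i) : PSn) * c j)) : PSn) =
        ∑ j, lam j • c j
      refine Finset.sum_congr rfl fun j _ => ?_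
      conv_rhs => rw [hμ j, Finset.sum_smul]
      refine Finset.sum_congr rfl fun i _ => ?_
      rw [Algebra.smul_def, ← c_eq_algebraMap, map_mul, map_pow, mul_assoc]
    rw [hsum, Ideal.smul_top_eq_map, Submodule.restrictScalars_mem]
    have h2 := Ideal.neg_mem_iff _ |>.2 hlam
    rw [neg_sub] at h2
    exact h2
  have hsurj := surjective_of_mkQ_comp_surjective (I := maximalIdeal PSn) h1
  refine ⟨t₁ * t₂, fun l => (show PSn from g (ε l)), fun f => ?_⟩
  obtain ⟨h, hh⟩ := hsurj (show Fr p PSn from f)
  refine ⟨h, ?_⟩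
  rw [Fintype.linearCombination_apply] at hh
  exact hh.symm

theorem finite_kaehler_ps (hk : (frobenius k p).Finite) : Module.Finite PSn (Ω[PSn⁄k]) := by
  classical
  obtain ⟨t, g, hg⟩ := exists_frobenius_generators p k n hk
  haveI : CharP PSn p := charP_of_injective_algebraMap (algebraMap k PSn).injective p
  refine ⟨⟨Finset.univ.image (fun l => D k PSn (g l)), ?_⟩⟩
  rw [Finset.coe_image, Finset.coe_univ, Set.image_univ]
  refine eq_top_iff.2 ((span_range_derivation k PSn).symm.le.trans (Submodule.span_le.2 ?_))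
  rintro _ ⟨f, rfl⟩
  obtain ⟨h, rfl⟩ := hg f
  rw [SetLike.mem_coe, map_sum]
  refine Submodule.sum_mem _ fun l _ => ?_
  rw [Derivation.leibniz, Derivation.leibniz_pow, ← Nat.cast_smul_eq_nsmul PSn,
    CharP.cast_eq_zero, zero_smul, smul_zero, add_zero]
  exact Submodule.smul_mem _ _ (Submodule.subset_span ⟨l, rfl⟩)

theorem span_dX_eq_top (hk : (frobenius k p).Finite) :
    Submodule.span PSn (Set.range (dX k n)) = ⊤ := by
  haveI := finite_kaehler_ps p k n hk
  refine top_le_iff.1 (Submodule.le_of_le_smul_of_le_jacobson_bot Module.Finite.fg_top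
    (IsLocalRing.maximalIdeal_le_jacobson ⊥) ?_)
  exact (span_dX_sup k n).ge

theorem rank_kaehler_frac_le (hk : (frobenius k p).Finite) :
    Module.rank (FractionRing PSn) (Ω[FractionRing PSn⁄k]) ≤ n := by
  classical
  haveI : IsDomain PSn := NoZeroDivisors.to_isDomain _
  have hlc : Function.Surjective (Fintype.linearCombination PSn (dX k n)) := by
    rw [← LinearMap.range_eq_top, Fintype.range_linearCombination, span_dX_eq_top p k n hk]
  haveI : Algebra.FormallyEtale PSn (FractionRing PSn) :=
    Algebra.FormallyEtale.of_isLocalization (nonZeroDivisors PSn)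
  let e := tensorKaehlerEquivOfFormallyEtale k PSn (FractionRing PSn)
  let g : FractionRing PSn ⊗[PSn] (Fin n → PSn) →ₗ[FractionRing PSn] Ω[FractionRing PSn⁄k] :=
    e.toLinearMap ∘ₗ (Fintype.linearCombination PSn (dX k n)).baseChange (FractionRing PSn)
  have hg : Function.Surjective g :=
    e.surjective.comp (LinearMap.lTensor_surjective (FractionRing PSn) hlc)
  have h1 := LinearMap.rank_le_of_surjective g hg
  rw [Module.rank_baseChange, rank_fin_fun] at h1
  simpa using h1

theorem finite_kaehler_of_finite (hk : (frobenius k p).Finite) {C : Type u} [CommRing C]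
    [Algebra k C] (w : PSn →ₐ[k] C) (hfin : w.toRingHom.Finite) : Module.Finite C (Ω[C⁄k]) := by
  letI : Algebra PSn C := w.toRingHom.toAlgebra
  haveI : IsScalarTower k PSn C := IsScalarTower.of_algebraMap_eq fun c => (w.commutes c).symm
  haveI : Module.Finite PSn C := hfin
  haveI := finite_kaehler_ps p k n hk
  exact finite_of_exact (mapBaseChange k PSn C) (KaehlerDifferential.map k PSn C C)
    (exact_mapBaseChange_map k PSn C) (map_surjective k PSn C)

end Frob

end Groth.Agent.Lib.FracDiffH3
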