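import Mathlib
import Groth.Agent.Lib.ComplKaehlerFree1_helper3
import Groth.Agent.Lib.AdicFSRel_helper3
import Groth.Agent.Lib.FracDiff2_helper3
import Groth.Agent.Lib.ComplKaehlerDim3_helper3
import Groth.Agent.Lib.GRingFS_helper3

/-!
# Freeness of completed differentials at geometrically regular primes, part 3: char. `p` (helper3)

* `map_bijective_of_D_eq_zero`: `Ω[S⁄ℤ] ≃ Ω[S⁄Λ]` when the differentials of `Λ` vanish in `Ω[S⁄ℤ]`.
* `finrank_kaehler_residue_le`: for a local `k`-algebra `B`, adically formally smooth over `k`,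
  `dim κ ⊗ Ω_{B/k} + dim Ω_{k/Λ} ≤ emb.dim B + dim Ω_{κ/Λ}`.
* `finrank_kaehler_fraction_le`: for a domain `C` finite over `k[[X_1..X_n]]`, `[k : k^p] < ∞`:
  `dim Ω_{Frac C/ℤ} ≤ dim Ω_{k/ℤ} + n`.
APPEND-ONLY once landed.
-/

set_option autoImplicit false
set_option maxSynthPendingDepth 3

namespace Groth.Agent.Lib.ComplKaehlerFreeH3

open IsLocalRing KaehlerDifferential TensorProduct

universe u

section Transfer

variable (Λ S : Type*) [CommRing Λ] [CommRing S] [Algebra Λ S]

theorem map_bijective_of_D_eq_zero (h : ∀ l : Λ, D ℤ S (algebraMap Λ S l) = 0) :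
    Function.Bijective (KaehlerDifferential.map ℤ Λ S S) := by
  refine ⟨?_, KaehlerDifferential.map_surjective ℤ Λ S⟩
  have h1 : ∀ ω : Ω[Λ⁄ℤ], KaehlerDifferential.map ℤ ℤ Λ S ω = 0 := by
    intro ω
    have hω : ω ∈ Submodule.span Λ (Set.range (D ℤ Λ)) := by
      rw [KaehlerDifferential.span_range_derivation]; trivial
    induction hω using Submodule.span_induction with
    | mem x hx =>
      obtain ⟨l, rfl⟩ := hx
      rw [KaehlerDifferential.map_D, h]
    | zero => rw [map_zero]
    | add x y _ _ hx hy => rw [map_add, hx, hy, add_zero]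
    | smul c x _ hx => rw [map_smul, hx, smul_zero]
  have h2 : ∀ y : S ⊗[Λ] Ω[Λ⁄ℤ], KaehlerDifferential.mapBaseChange ℤ Λ S y = 0 := by
    intro y
    induction y using TensorProduct.induction_on with
    | zero => rw [map_zero]
    | tmul x ω => rw [KaehlerDifferential.mapBaseChange_tmul, h1, smul_zero]
    | add x y hx hy => rw [map_add, hx, hy, add_zero]
  rw [injective_iff_map_eq_zero]
  intro ω hω
  obtain ⟨y, rfl⟩ := (KaehlerDifferential.exact_mapBaseChange_map ℤ Λ S ω).1 hω
  exact h2 y

/-- `p`-th powers have zero differential -/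
theorem D_pow_char (p : ℕ) [CharP S p] (R : Type*) [CommRing R] [Algebra R S] (a : S) :
    D R S (a ^ p) = 0 := by
  rw [Derivation.leibniz_pow, ← Nat.cast_smul_eq_nsmul S, CharP.cast_eq_zero, zero_smul]

end Transfer

section TransferField

variable (p : ℕ) [Fact p.Prime] (k : Type u) [Field k] [CharP k p]
  (K : Type u) [Field K] [Algebra k K]

/-- Kähler differentials of a field over `k^p` and over `ℤ` -/
theorem finite_finrank_fieldRange [Module.Finite K Ω[K⁄ℤ]] :
    Module.Finite K Ω[K⁄(frobenius k p).fieldRange] ∧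
      Module.finrank K Ω[K⁄(frobenius k p).fieldRange] = Module.finrank K Ω[K⁄ℤ] := by
  haveI : CharP K p := charP_of_injective_algebraMap (algebraMap k K).injective p
  have h : ∀ l : (frobenius k p).fieldRange,
      D ℤ K (algebraMap (frobenius k p).fieldRange K l) = 0 := by
    rintro ⟨l, a, rfl⟩
    have h1 : algebraMap (frobenius k p).fieldRange K ⟨frobenius k p a, a, rfl⟩ =
        (algebraMap k K a) ^ p := by
      rw [← map_pow]
      rfl
    rw [h1]
    exact D_pow_char K p ℤ _
  let e : Ω[K⁄ℤ] ≃ₗ[K] Ω[K⁄(frobenius k p).fieldRange] :=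
    LinearEquiv.ofBijective _ (map_bijective_of_D_eq_zero (frobenius k p).fieldRange K h)
  exact ⟨Module.Finite.equiv e, e.finrank_eq.symm⟩

end TransferField

section CP1

variable {Λ k B : Type u} [CommRing Λ] [Field k] [CommRing B] [IsLocalRing B] [Algebra Λ k]
  [Algebra k B] [Algebra Λ B] [IsScalarTower Λ k B]
  [Algebra Λ (ResidueField B)] [IsScalarTower Λ B (ResidueField B)]

/-- the kernel of `κ ⊗ Ω_{B/Λ} → Ω_{κ/Λ}` is spanned by the differentials of generators of the
maximal ideal -/
theorem ker_mapBaseChange_le {h : ℕ} (x : Fin h → B)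
    (hx : Ideal.span (Set.range x) = maximalIdeal B) :
    LinearMap.ker (KaehlerDifferential.mapBaseChange Λ B (ResidueField B)) ≤
      Submodule.span (ResidueField B) (Set.range fun i =>
        (1 : ResidueField B) ⊗ₜ[B] D Λ B (x i)) := by
  intro v hv
  have hsurj : Function.Surjective (algebraMap B (ResidueField B)) := residue_surjective
  have hv' : v ∈ (LinearMap.ker (KaehlerDifferential.mapBaseChange Λ B
      (ResidueField B))).restrictScalars B := hv
  rw [← KaehlerDifferential.range_kerCotangentToTensor Λ B (ResidueField B) hsurj] at hv'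
  obtain ⟨c, rfl⟩ := hv'
  obtain ⟨⟨y, hy⟩, rfl⟩ := Ideal.toCotangent_surjective _ c
  rw [KaehlerDifferential.kerCotangentToTensor_toCotangent]
  have hy' : y ∈ maximalIdeal B := by
    rw [RingHom.mem_ker] at hy
    exact (residue_eq_zero_iff y).1 hy
  have hres : ∀ z ∈ maximalIdeal B, algebraMap B (ResidueField B) z = 0 := fun z hz =>
    (residue_eq_zero_iff z).2 hz
  rw [← hx] at hy'
  obtain ⟨b, rfl⟩ := Ideal.mem_span_range_iff_exists_fun.1 hy'
  show (1 : ResidueField B) ⊗ₜ[B] D Λ B (∑ i, b i * x i) ∈ _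
  rw [map_sum, tmul_sum]
  refine Submodule.sum_mem _ fun i _ => ?_
  have hxi : x i ∈ maximalIdeal B := by
    rw [← hx]; exact Ideal.subset_span ⟨i, rfl⟩
  rw [Derivation.leibniz, tmul_add, tmul_smul, tmul_smul,
    ← algebraMap_smul (ResidueField B) (x i), hres _ hxi, zero_smul, add_zero,
    ← algebraMap_smul (ResidueField B) (b i)]
  exact Submodule.smul_mem _ _ (Submodule.subset_span ⟨i, rfl⟩)

theorem finrank_kaehler_residue_le
    (hS : CAlgX.IsAdicFormallySmooth k B (maximalIdeal B)) {h : ℕ} (x : Fin h → B)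
    (hx : Ideal.span (Set.range x) = maximalIdeal B) [Module.Finite k Ω[k⁄Λ]]
    [Module.Finite (ResidueField B) Ω[ResidueField B⁄Λ]] :
    Module.Finite (ResidueField B) (ResidueField B ⊗[B] Ω[B⁄k]) ∧
      Module.finrank (ResidueField B) (ResidueField B ⊗[B] Ω[B⁄k]) + Module.finrank k Ω[k⁄Λ] ≤
        h + Module.finrank (ResidueField B) Ω[ResidueField B⁄Λ] := by
  classical
  -- the three spaces
  let α : ResidueField B ⊗[B] (B ⊗[k] Ω[k⁄Λ]) →ₗ[ResidueField B] ResidueField B ⊗[B] Ω[B⁄Λ] :=
    (KaehlerDifferential.mapBaseChange Λ k B).baseChange (ResidueField B)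
  let β : ResidueField B ⊗[B] Ω[B⁄Λ] →ₗ[ResidueField B] ResidueField B ⊗[B] Ω[B⁄k] :=
    (KaehlerDifferential.map Λ k B B).baseChange (ResidueField B)
  have hex : Function.Exact α β :=
    Groth.Agent.Lib.AdicFSRelH3.exact_baseChange (Λ := Λ) (A := k) (B := B) (maximalIdeal B)
  have hβs : Function.Surjective β :=
    Groth.Agent.Lib.AdicFSRelH3.surjective_baseChange (Λ := Λ) (A := k) (B := B) (maximalIdeal B)
  obtain ⟨r, hr⟩ := Groth.Agent.Lib.AdicFSRelH3.exists_leftInverse (Λ := Λ) (A := k) (B := B)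
    (maximalIdeal B) hS
  have hαi : Function.Injective α := by
    intro a b hab
    have h1 := congrArg r hab
    have h2 : ∀ z, r (α z) = z := fun z => LinearMap.congr_fun hr z
    rwa [h2, h2] at h1
  -- the conormal sequence
  let γ : ResidueField B ⊗[B] Ω[B⁄Λ] →ₗ[ResidueField B] Ω[ResidueField B⁄Λ] :=
    KaehlerDifferential.mapBaseChange Λ B (ResidueField B)
  have hγs : Function.Surjective γ :=
    KaehlerDifferential.mapBaseChange_surjective Λ B (ResidueField B) residue_surjective
  have hker := ker_mapBaseChange_le (Λ := Λ) x hx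
  have hfinspan : Module.Finite (ResidueField B) (Submodule.span (ResidueField B)
      (Set.range fun i : Fin h => (1 : ResidueField B) ⊗ₜ[B] D Λ B (x i))) :=
    Module.Finite.span_of_finite _ (Set.finite_range _)
  haveI hfinker : Module.Finite (ResidueField B) (LinearMap.ker γ) := by
    haveI := hfinspan
    exact Submodule.finiteDimensional_of_le hker
  have hkerle : Module.finrank (ResidueField B) (LinearMap.ker γ) ≤ h := by
    have h1 := Submodule.finrank_mono hker
    have h4 := finrank_range_le_card (R := ResidueField B) (fun i : Fin h =>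
      (1 : ResidueField B) ⊗ₜ[B] D Λ B (x i))
    rw [Fintype.card_fin] at h4
    exact h1.trans h4
  haveI hfin2 : Module.Finite (ResidueField B) (ResidueField B ⊗[B] Ω[B⁄Λ]) := by
    haveI : Module.Finite (ResidueField B) ((ResidueField B ⊗[B] Ω[B⁄Λ]) ⧸ LinearMap.ker γ) :=
      Module.Finite.equiv (γ.quotKerEquivOfSurjective hγs).symm
    exact Module.Finite.of_submodule_quotient (LinearMap.ker γ)
  have h2 : Module.finrank (ResidueField B) (ResidueField B ⊗[B] Ω[B⁄Λ]) ≤
      h + Module.finrank (ResidueField B) Ω[ResidueField B⁄Λ] := by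
    have h3 := LinearMap.finrank_range_add_finrank_ker γ
    rw [LinearMap.range_eq_top.2 hγs, finrank_top] at h3
    omega
  haveI hfin3 : Module.Finite (ResidueField B) (ResidueField B ⊗[B] Ω[B⁄k]) :=
    Module.Finite.of_surjective β hβs
  refine ⟨hfin3, ?_⟩
  have h5 := LinearMap.finrank_range_add_finrank_ker β
  rw [LinearMap.range_eq_top.2 hβs, finrank_top, LinearMap.exact_iff.1 hex,
    LinearMap.finrank_range_of_inj hαi] at h5
  have e₁ := AlgebraTensorModule.cancelBaseChange k B (ResidueField B) (ResidueField B) Ω[k⁄Λ]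
  have h6 : Module.finrank (ResidueField B) (ResidueField B ⊗[B] (B ⊗[k] Ω[k⁄Λ])) =
      Module.finrank k Ω[k⁄Λ] := by
    rw [e₁.finrank_eq]
    exact Module.finrank_baseChange
  omega

end CP1

section Fred

open Groth.Agent.Lib.FredholmH3

variable {L : Type*} [Field L] {V W : Type*} [AddCommGroup V] [Module L V]
  [AddCommGroup W] [Module L W]

theorem IsFred.finite_finrank_eq {f : V →ₗ[L] W} (hf : IsFred f 0) [Module.Finite L V] :
    Module.Finite L W ∧ Module.finrank L W = Module.finrank L V := by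
  haveI := hf.finite_ker
  haveI := hf.finite_coker
  haveI : Module.Finite L (LinearMap.range f) := Module.Finite.range f
  haveI : Module.Finite L W := Module.Finite.of_submodule_quotient (LinearMap.range f)
  refine ⟨inferInstance, ?_⟩
  have h1 := LinearMap.finrank_range_add_finrank_ker f
  have h2 := Submodule.finrank_quotient_add_finrank (LinearMap.range f)
  have h3 := hf.index_eq
  omega

end Fred

section CP2

variable (k : Type u) [Field k] {n : ℕ}
  (PS : Type u) [CommRing PS] [Algebra k PS] (X : Fin n → PS)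

theorem finite_kaehler_int (p : ℕ) [Fact p.Prime] [CharP k p] (hk : (frobenius k p).Finite) :
    Module.Finite k Ω[k⁄ℤ] := by
  classical
  have hk' : Module.Finite k (Groth.Agent.Lib.FracDiffH3.Fr p k) := hk
  obtain ⟨t₂, b, hb⟩ := Module.Finite.exists_fin (R := k) (M := Groth.Agent.Lib.FracDiffH3.Fr p k)
  have hbk : ∀ c : k, ∃ μ : Fin t₂ → k, c = ∑ i, (μ i) ^ p * (show k from b i) := by
    intro c
    have hc : (show Groth.Agent.Lib.FracDiffH3.Fr p k from c) ∈
        Submodule.span k (Set.range b) := by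
      rw [hb]
      trivial
    obtain ⟨μ, hμ⟩ := (Submodule.mem_span_range_iff_exists_fun k).1 hc
    exact ⟨μ, hμ.symm⟩
  refine ⟨⟨Finset.univ.image (fun l => D ℤ k (show k from b l)), ?_⟩⟩
  rw [Finset.coe_image, Finset.coe_univ, Set.image_univ]
  refine eq_top_iff.2 ((span_range_derivation ℤ k).symm.le.trans (Submodule.span_le.2 ?_))
  rintro _ ⟨f, rfl⟩
  obtain ⟨μ, hμ⟩ := hbk f
  rw [SetLike.mem_coe, hμ, map_sum]
  refine Submodule.sum_mem _ fun l _ => ?_
  rw [Derivation.leibniz, D_pow_char k p ℤ, smul_zero, add_zero]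
  exact Submodule.smul_mem _ _ (Submodule.subset_span ⟨l, rfl⟩)

theorem span_kaehler_int (hdX : Submodule.span PS (Set.range fun i => D k PS (X i)) = ⊤)
    {s : ℕ} (ω : Fin s → Ω[k⁄ℤ]) (hω : Submodule.span k (Set.range ω) = ⊤) :
    Submodule.span PS (Set.range (Sum.elim (fun j => KaehlerDifferential.map ℤ ℤ k PS (ω j))
      (fun i => D ℤ PS (X i)))) = ⊤ := by
  classical
  rw [eq_top_iff]
  rintro η -
  set T := Submodule.span PS (Set.range (Sum.elim
    (fun j => KaehlerDifferential.map ℤ ℤ k PS (ω j))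
    (fun i : Fin n => D ℤ PS (X i)))) with hT
  have hT1 : ∀ j, KaehlerDifferential.map ℤ ℤ k PS (ω j) ∈ T := fun j =>
    Submodule.subset_span ⟨Sum.inl j, rfl⟩
  have hT2 : ∀ i, D ℤ PS (X i) ∈ T := fun i =>
    Submodule.subset_span ⟨Sum.inr i, rfl⟩
  have h1 : ∀ ω₀ : Ω[k⁄ℤ], KaehlerDifferential.map ℤ ℤ k PS ω₀ ∈ T := by
    intro ω₀
    have hω₀ : ω₀ ∈ Submodule.span k (Set.range ω) := by rw [hω]; trivial
    induction hω₀ using Submodule.span_induction with
    | mem x hx =>
      obtain ⟨j, rfl⟩ := hx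
      exact hT1 j
    | zero => rw [map_zero]; exact zero_mem _
    | add x y _ _ hx hy => rw [map_add]; exact add_mem hx hy
    | smul c x _ hx =>
      rw [map_smul, ← algebraMap_smul PS c]
      exact Submodule.smul_mem _ _ hx
  have h2 : ∀ y : PS ⊗[k] Ω[k⁄ℤ], KaehlerDifferential.mapBaseChange ℤ k PS y ∈ T := by
    intro y
    induction y using TensorProduct.induction_on with
    | zero => rw [map_zero]; exact zero_mem _
    | tmul r ω₀ =>
      rw [KaehlerDifferential.mapBaseChange_tmul]
      exact Submodule.smul_mem _ _ (h1 ω₀)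
    | add x y hx hy => rw [map_add]; exact add_mem hx hy
  have h4 : KaehlerDifferential.map ℤ k PS PS η ∈
      Submodule.span PS (Set.range fun i => D k PS (X i)) := by
    rw [hdX]; trivial
  obtain ⟨a, ha⟩ := (Submodule.mem_span_range_iff_exists_fun PS).1 h4
  have h5 : KaehlerDifferential.map ℤ k PS PS (η - ∑ i, a i • D ℤ PS (X i)) = 0 := by
    rw [map_sub, ← ha, map_sum, sub_eq_zero]
    refine Finset.sum_congr rfl fun i _ => ?_
    rw [map_smul, KaehlerDifferential.map_D]
    rfl
  obtain ⟨y, hy⟩ := (KaehlerDifferential.exact_mapBaseChange_map ℤ k PS _).1 h5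
  have h6 : η = KaehlerDifferential.mapBaseChange ℤ k PS y + ∑ i, a i • D ℤ PS (X i) := by
    rw [hy, sub_add_cancel]
  rw [h6]
  exact add_mem (h2 y) (Submodule.sum_mem _ fun i _ => Submodule.smul_mem _ _ (hT2 i))

theorem finrank_kaehler_fraction_le [IsDomain PS]
    (hdX : Submodule.span PS (Set.range fun i => D k PS (X i)) = ⊤)
    (C : Type u) [CommRing C] [IsDomain C] [Algebra PS C] [Module.Finite PS C]
    (hinj : Function.Injective (algebraMap PS C))
    (K : Type u) [Field K] [Algebra C K] [IsFractionRing C K] [Algebra PS K]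
    [IsScalarTower PS C K] [Module.Finite k Ω[k⁄ℤ]] :
    Module.Finite K Ω[K⁄ℤ] ∧ Module.finrank K Ω[K⁄ℤ] ≤ Module.finrank k Ω[k⁄ℤ] + n := by
  classical
  have hF := Groth.Agent.Lib.ComplKaehlerDimH3.isFred_mapBaseChange_of_finite
    (P := PS) (A := C) (K := K) hinj
  let ω := Module.finBasis k Ω[k⁄ℤ]
  have hspan := span_kaehler_int k PS X hdX ω ω.span_eq
  let gen : Fin (Module.finrank k Ω[k⁄ℤ]) ⊕ Fin n → Ω[PS⁄ℤ] :=
    Sum.elim (fun j => KaehlerDifferential.map ℤ ℤ k PS (ω j)) (fun i => D ℤ PS (X i))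
  have hspanK : Submodule.span K (Set.range fun j => (1 : K) ⊗ₜ[PS] gen j) = ⊤ := by
    have h3 := Submodule.baseChange_span (R := PS) (A := K) (Set.range gen)
    rw [hspan, Submodule.baseChange_top, ← Set.range_comp] at h3
    exact h3.symm
  haveI : Module.Finite K (K ⊗[PS] Ω[PS⁄ℤ]) :=
    ⟨⟨Finset.univ.image (fun j => (1 : K) ⊗ₜ[PS] gen j), by
      rw [Finset.coe_image, Finset.coe_univ, Set.image_univ]
      exact hspanK⟩⟩
  have hle : Module.finrank K (K ⊗[PS] Ω[PS⁄ℤ]) ≤ Module.finrank k Ω[k⁄ℤ] + n := by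
    have h4 := finrank_range_le_card (R := K) (fun j => (1 : K) ⊗ₜ[PS] gen j)
    rw [Set.finrank, hspanK, finrank_top, Fintype.card_sum, Fintype.card_fin,
      Fintype.card_fin] at h4
    exact h4
  obtain ⟨h7, h8⟩ := IsFred.finite_finrank_eq hF
  exact ⟨h7, h8 ▸ hle⟩

end CP2

end Groth.Agent.Lib.ComplKaehlerFreeH3
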