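import Mathlib
import Groth.Agent.Lib.ComplKaehlerFree2_helper3
import Groth.Agent.Lib.ComplKaehlerFree3_helper3
import Groth.Agent.Lib.RegFlat_helper3

/-!
# Freeness of completed differentials at geometrically regular primes, part 4: assembly (helper3)

`main5074`: for a complete Noetherian local `k`-algebra `A` with residue field finite over `k`
(`[k : k^p] < ∞`), a prime `P` with `A_P` geometrically regular over `k` and a minimal prime
`q ⊆ P`, the module `(Ω̂_{A/k})_P` is free of rank `dim A/q`.
APPEND-ONLY once landed.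
-/

set_option autoImplicit false
set_option maxSynthPendingDepth 3

namespace Groth.Agent.Lib.ComplKaehlerFreeH3

open IsLocalRing KaehlerDifferential TensorProduct

universe u

section Pow

theorem finite_finrank_of_pow (p : ℕ) (Λ K : Type u) [CommRing Λ] [Field K] [CharP K p]
    [Algebra Λ K] (hΛ : ∀ l : Λ, ∃ a : K, algebraMap Λ K l = a ^ p) [Module.Finite K Ω[K⁄ℤ]] :
    Module.Finite K Ω[K⁄Λ] ∧ Module.finrank K Ω[K⁄Λ] = Module.finrank K Ω[K⁄ℤ] := by
  have h : ∀ l : Λ, D ℤ K (algebraMap Λ K l) = 0 := by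
    intro l
    obtain ⟨a, ha⟩ := hΛ l
    rw [ha]
    exact D_pow_char K p ℤ a
  let e : Ω[K⁄ℤ] ≃ₗ[K] Ω[K⁄Λ] :=
    LinearEquiv.ofBijective _ (map_bijective_of_D_eq_zero Λ K h)
  exact ⟨Module.Finite.equiv e, e.finrank_eq.symm⟩

theorem expChar_cases (k : Type*) [Field k] (p : ℕ) [ExpChar k p] :
    (p = 1 ∧ CharZero k) ∨ (p.Prime ∧ CharP k p) := by
  rcases ‹ExpChar k p› with _ | ⟨hprime⟩
  · exact Or.inl ⟨rfl, inferInstance⟩
  · exact Or.inr ⟨hprime, inferInstance⟩

end Pow

section UpperP

variable (p : ℕ) [Fact p.Prime] (k A : Type u) [Field k] [CharP k p] [CommRing A] [IsLocalRing A]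
  [IsNoetherianRing A] [Algebra k A] [IsAdicComplete (maximalIdeal A) A]
  [Module.Finite k (ResidueField A)]
  (P : Ideal A) [P.IsPrime] [IsRegularLocalRing (Localization.AtPrime P)]

/-- the upper bound for the fibre dimension in characteristic `p` -/
theorem finrank_le_of_charP (hk : (frobenius k p).Finite)
    (hS : CAlgX.IsAdicFormallySmooth k (Localization.AtPrime P)
      (maximalIdeal (Localization.AtPrime P)))
    (h e : ℕ) (hh : ringKrullDim (Localization.AtPrime P) = h)
    (he : ringKrullDim (A ⧸ P) = e) :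
    Module.finrank P.ResidueField
      (P.ResidueField ⊗[A] AdicCompletion (maximalIdeal A) (Ω[A⁄k])) ≤ h + e := by
  classical
  haveI : IsLocalRing (A ⧸ P) :=
    IsLocalRing.of_surjective' (Ideal.Quotient.mk P) Ideal.Quotient.mk_surjective
  haveI : IsAdicComplete (maximalIdeal (A ⧸ P)) (A ⧸ P) :=
    Groth.Agent.Lib.MonomialCharPH3.isAdicComplete_quotient A P
  haveI : Module.Finite k (ResidueField (A ⧸ P)) :=
    Groth.Agent.Lib.ComplKaehlerDimH3.finite_residueField_quotient k A P
  obtain ⟨n, w, hwinj, -, hwfin, hdim⟩ :=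
    Groth.Agent.Lib.FinitePSH3.exists_powerSeries_finite (k₀ := k) (A := A ⧸ P)
  have hne : n = e := by
    rw [hdim] at he
    exact_mod_cast he
  subst hne
  letI : Algebra (MvPowerSeries (Fin n) k) (A ⧸ P) := w.toRingHom.toAlgebra
  haveI : Module.Finite (MvPowerSeries (Fin n) k) (A ⧸ P) := hwfin
  have hinj : Function.Injective (algebraMap (MvPowerSeries (Fin n) k) (A ⧸ P)) := hwinj
  letI : Algebra (MvPowerSeries (Fin n) k) P.ResidueField :=
    ((algebraMap (A ⧸ P) P.ResidueField).comp
      (algebraMap (MvPowerSeries (Fin n) k) (A ⧸ P))).toAlgebra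
  haveI : IsScalarTower (MvPowerSeries (Fin n) k) (A ⧸ P) P.ResidueField :=
    IsScalarTower.of_algebraMap_eq (fun _ => rfl)
  haveI : IsDomain (MvPowerSeries (Fin n) k) := NoZeroDivisors.to_isDomain _
  haveI hfk := finite_kaehler_int k p hk
  obtain ⟨hfK, hK⟩ := finrank_kaehler_fraction_le k (MvPowerSeries (Fin n) k) MvPowerSeries.X
    (Groth.Agent.Lib.FracDiffH3.span_dX_eq_top p k n hk) (A ⧸ P) hinj P.ResidueField
  haveI := hfK
  haveI : CharP P.ResidueField p :=
    charP_of_injective_algebraMap (algebraMap k P.ResidueField).injective p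
  -- transfer to `Λ = k^p`
  have hpow : ∀ l : (frobenius k p).fieldRange, ∃ a : k, ((l : k)) = a ^ p := by
    intro l
    obtain ⟨a, ha⟩ := RingHom.mem_fieldRange.1 l.2
    exact ⟨a, ha.symm⟩
  obtain ⟨hfk', hk'⟩ := finite_finrank_of_pow p (frobenius k p).fieldRange k (fun l => by
    obtain ⟨a, ha⟩ := hpow l
    exact ⟨a, ha⟩)
  obtain ⟨hfK', hK'⟩ := finite_finrank_of_pow p (frobenius k p).fieldRange P.ResidueField
    (fun l => by
      obtain ⟨a, ha⟩ := hpow l
      refine ⟨algebraMap k P.ResidueField a, ?_⟩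
      rw [← map_pow, ← ha]
      rfl)
  haveI := hfk'
  haveI := hfK'
  -- the bound for `κ ⊗ Ω_{B/k}`
  obtain ⟨x, -, hx⟩ := exists_generators P h hh
  obtain ⟨hfin3, h3⟩ := finrank_kaehler_residue_le (Λ := (frobenius k p).fieldRange) (k := k)
    (B := Localization.AtPrime P) hS (fun i => algebraMap A (Localization.AtPrime P) (x i)) hx
  haveI := hfin3
  haveI : Algebra.FormallyEtale A (Localization.AtPrime P) :=
    Algebra.FormallyEtale.of_isLocalization P.primeCompl
  have e₁ := AlgebraTensorModule.cancelBaseChange A (Localization.AtPrime P)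
    P.ResidueField P.ResidueField Ω[A⁄k]
  have e₂ : P.ResidueField ⊗[Localization.AtPrime P] (Localization.AtPrime P ⊗[A] Ω[A⁄k])
      ≃ₗ[P.ResidueField] P.ResidueField ⊗[Localization.AtPrime P] Ω[Localization.AtPrime P⁄k] :=
    (tensorKaehlerEquivOfFormallyEtale k A (Localization.AtPrime P)).baseChange
      (Localization.AtPrime P) P.ResidueField _ _
  haveI : Module.Finite P.ResidueField (P.ResidueField ⊗[A] Ω[A⁄k]) :=
    Module.Finite.equiv (e₂.symm.trans e₁)
  have h4 : Module.finrank P.ResidueField (P.ResidueField ⊗[A] Ω[A⁄k]) =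
      Module.finrank P.ResidueField
        (P.ResidueField ⊗[Localization.AtPrime P] Ω[Localization.AtPrime P⁄k]) :=
    (e₂.symm.trans e₁).finrank_eq.symm
  have hof : Function.Surjective (AdicCompletion.of (maximalIdeal A) (Ω[A⁄k])) := by
    rw [← LinearMap.range_eq_top, eq_top_iff, ← ComplKaehlerGenH3.span_of_D k A, Submodule.span_le]
    rintro _ ⟨a, rfl⟩
    exact ⟨D k A a, rfl⟩
  have hs : Function.Surjective
      ((AdicCompletion.of (maximalIdeal A) (Ω[A⁄k])).baseChange P.ResidueField) :=
    LinearMap.lTensor_surjective P.ResidueField hof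
  have h5 := LinearMap.finrank_le_finrank_of_surjective hs
  have h3' : Module.finrank P.ResidueField
      (P.ResidueField ⊗[Localization.AtPrime P] Ω[Localization.AtPrime P⁄k]) +
      Module.finrank k Ω[k⁄(frobenius k p).fieldRange] ≤
      h + Module.finrank P.ResidueField Ω[P.ResidueField⁄(frobenius k p).fieldRange] := h3
  omega

end UpperP

section Main

theorem main5074 (p : ℕ) (k A : Type u) [Field k] [ExpChar k p]
    (hk : (frobenius k p).Finite) [CommRing A] [IsLocalRing A] [IsNoetherianRing A] [Algebra k A]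
    [IsAdicComplete (maximalIdeal A) A] [Module.Finite k (ResidueField A)]
    (P : Ideal A) [P.IsPrime] (hP : CAlg.IsGeometricallyRegular k (Localization.AtPrime P))
    (q : Ideal A) (hq : q ∈ minimalPrimes A) (hqP : q ≤ P) (n : ℕ)
    (hn : ringKrullDim (A ⧸ q) = n) :
    Module.Free (Localization.AtPrime P)
        (LocalizedModule P.primeCompl (AdicCompletion (maximalIdeal A) (Ω[A⁄k]))) ∧
      Module.finrank (Localization.AtPrime P)
        (LocalizedModule P.primeCompl (AdicCompletion (maximalIdeal A) (Ω[A⁄k]))) = n := by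
  classical
  haveI : q.IsPrime := Ideal.minimalPrimes_isPrime hq
  haveI hreg : IsRegularRing (Localization.AtPrime P) :=
    Groth.Agent.Lib.RegFlatH3.isRegularRing_of_isGeometricallyRegular k _ hP
  haveI : IsRegularLocalRing (Localization.AtPrime P) :=
    IsRegularLocalRing.of_isRegularRing_of_isLocalRing _
  haveI : IsDomain (Localization.AtPrime P) := Groth.Agent.RegularLib.isDomain _
  have hS := Groth.Agent.Lib.GRingFSH3.adic_of_isGeometricallyRegular_local k _ hP
  haveI := ComplKaehlerGenH3.finite_completed k A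
  obtain ⟨h, hh⟩ : ∃ h : ℕ, ringKrullDim (Localization.AtPrime P) = h :=
    ⟨_, (IsRegularLocalRing.spanFinrank_maximalIdeal (R := Localization.AtPrime P)).symm⟩
  haveI : IsLocalRing (A ⧸ P) :=
    IsLocalRing.of_surjective' (Ideal.Quotient.mk P) Ideal.Quotient.mk_surjective
  haveI : IsAdicComplete (maximalIdeal (A ⧸ P)) (A ⧸ P) :=
    Groth.Agent.Lib.MonomialCharPH3.isAdicComplete_quotient A P
  haveI : Module.Finite k (ResidueField (A ⧸ P)) :=
    Groth.Agent.Lib.ComplKaehlerDimH3.finite_residueField_quotient k A P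
  obtain ⟨e, -, -, -, -, he⟩ :=
    Groth.Agent.Lib.FinitePSH3.exists_powerSeries_finite (k₀ := k) (A := A ⧸ P)
  have hdim := ringKrullDim_add_le P q hq hqP
  rw [hh, he, hn] at hdim
  have hhe : h + e ≤ n := by exact_mod_cast hdim
  have hU : Module.finrank P.ResidueField
      (P.ResidueField ⊗[A] AdicCompletion (maximalIdeal A) (Ω[A⁄k])) ≤ h + e := by
    rcases expChar_cases k p with ⟨rfl, hz⟩ | ⟨hp, hc⟩
    · haveI := hz
      exact finrank_le_of_charZero k A P h e hh he
    · haveI := Fact.mk hp
      haveI := hc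
      exact finrank_le_of_charP p k A P hk hS h e hh he
  have hL := Groth.Agent.Lib.ComplKaehlerDimH3.main3847 k A q q hq le_rfl
  rw [hn, ← Module.finrank_eq_rank, Cardinal.toENat_nat] at hL
  have hL' : n ≤ Module.finrank q.ResidueField
      (q.ResidueField ⊗[A] AdicCompletion (maximalIdeal A) (Ω[A⁄k])) := by exact_mod_cast hL
  obtain ⟨alg, htower, hinj⟩ := exists_algebra_residueField P q hq hqP
  letI := alg
  haveI := htower
  refine free_of_finrank_le (LocalizedModule P.primeCompl
    (AdicCompletion (maximalIdeal A) (Ω[A⁄k]))) q.ResidueField hinj n ?_ ?_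
  · rw [finrank_tensor_localizedModule P (AdicCompletion (maximalIdeal A) (Ω[A⁄k]))
      P.ResidueField]
    omega
  · rw [finrank_tensor_localizedModule P (AdicCompletion (maximalIdeal A) (Ω[A⁄k]))
      q.ResidueField]
    exact hL'

end Main

end Groth.Agent.Lib.ComplKaehlerFreeH3
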