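import Mathlib
import Groth.Prelude.Def_Found
import Groth.Agent.Lib.ComplKaehlerEtale2_helper3
import Groth.Agent.Lib.EtStalk_helper8
import Groth.Agent.Lib.NagataCrit_helper3

/-!
# `Ω̂_p` generated by `dim A` elements ⇒ free and `A_p` geometrically regular (helper3)

* `isRegularRing_of_flat_of_formallyUnramified` : flat + formally unramified + ess. of finite type
  over a regular ring ⇒ regular.
* `isRegularRing_tensor` : `P` regular local `k`-algebra with residue field `k`, `k'/k` finite
  ⇒ `P ⊗[k] k'` is a regular ring.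
* `flat_of_isEtaleAt` : étale at `p` (finite presentation) ⇒ `A_p` flat.
* `isGeometricallyRegular_of_isEtaleAt`.
* `main5055`.

APPEND-ONLY once landed.
-/

set_option autoImplicit false
set_option maxSynthPendingDepth 3

namespace Groth.Agent.Lib.ComplKaehlerGeomRegH3

open IsLocalRing TensorProduct

universe u

section FlatUnram

/-- flat + formally unramified + ess. finite type over a regular ring ⇒ regular -/
theorem isRegularRing_of_flat_of_formallyUnramified (R S : Type u) [CommRing R] [CommRing S]
    [Algebra R S] [IsRegularRing R] [Module.Flat R S] [Algebra.FormallyUnramified R S]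
    [Algebra.EssFiniteType R S] : IsRegularRing S := by
  haveI : IsNoetherianRing S := Algebra.EssFiniteType.isNoetherianRing R S
  rw [isRegularRing_iff]
  intro Q hQ
  haveI : (Q.under R).IsPrime := inferInstance
  haveI : Q.LiesOver (Q.under R) := ⟨rfl⟩
  letI := Localization.AtPrime.algebraOfLiesOver (Q.under R) Q
  haveI hreg : IsRegularLocalRing (Localization.AtPrime (Q.under R)) :=
    (isRegularRing_iff (R := R)).1 inferInstance (Q.under R)
  haveI hloc : IsLocalHom (algebraMap (Localization.AtPrime (Q.under R))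
      (Localization.AtPrime Q)) :=
    Localization.isLocalHom_localRingHom (Q.under R) Q (algebraMap R S) Ideal.LiesOver.over
  haveI : Algebra.FormallyUnramified S (Localization.AtPrime Q) :=
    Algebra.FormallyUnramified.of_isLocalization Q.primeCompl
  haveI : Algebra.FormallyUnramified R (Localization.AtPrime Q) :=
    Algebra.FormallyUnramified.comp R S _
  haveI : Algebra.FormallyUnramified (Localization.AtPrime (Q.under R))
      (Localization.AtPrime Q) :=
    Algebra.FormallyUnramified.of_restrictScalars R _ _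
  haveI : Algebra.EssFiniteType S (Localization.AtPrime Q) :=
    Algebra.EssFiniteType.of_isLocalization _ Q.primeCompl
  haveI : Algebra.EssFiniteType R (Localization.AtPrime Q) :=
    Algebra.EssFiniteType.comp R S _
  haveI : Algebra.EssFiniteType (Localization.AtPrime (Q.under R)) (Localization.AtPrime Q) :=
    Algebra.EssFiniteType.of_comp R _ _
  have hmax : (maximalIdeal (Localization.AtPrime (Q.under R))).map
      (algebraMap (Localization.AtPrime (Q.under R)) (Localization.AtPrime Q)) =
      maximalIdeal (Localization.AtPrime Q) :=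
    Algebra.FormallyUnramified.map_maximalIdeal
  haveI : Module.Flat S (Localization.AtPrime Q) := IsLocalization.flat _ Q.primeCompl
  haveI : Module.Flat R (Localization.AtPrime Q) := Module.Flat.trans R S _
  haveI : Module.Flat (Localization.AtPrime (Q.under R)) (Localization.AtPrime Q) := by
    rw [Module.flat_iff_of_isLocalization (Localization.AtPrime (Q.under R))
      (Q.under R).primeCompl]
    infer_instance
  haveI : IsNoetherianRing (Localization.AtPrime Q) :=
    IsLocalization.isNoetherianRing Q.primeCompl _ inferInstance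
  exact (Groth.Agent.EtStalk.isRegularLocalRing_iff_of_flat hmax).2 hreg

end FlatUnram

section Tensor

variable (k P k' : Type u) [Field k] [CommRing P] [IsLocalRing P] [Algebra k P] [Field k']
  [Algebra k k']

theorem isMaximal_map_tensor
    (hres : Function.Surjective (algebraMap k (P ⧸ maximalIdeal P))) :
    ((maximalIdeal P).map (algebraMap P (P ⊗[k] k'))).IsMaximal := by
  haveI : Nontrivial (P ⧸ maximalIdeal P) :=
    Ideal.Quotient.nontrivial_iff.2 (maximalIdeal.isMaximal P).ne_top
  have hbij : Function.Bijective (algebraMap k (P ⧸ maximalIdeal P)) :=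
    ⟨(algebraMap k (P ⧸ maximalIdeal P)).injective, hres⟩
  let e0 : k ≃ₐ[k] (P ⧸ maximalIdeal P) := AlgEquiv.ofBijective (Algebra.ofId k _) hbij
  let e1 : (P ⧸ maximalIdeal P) ⊗[k] k' ≃ₐ[k] k ⊗[k] k' :=
    Algebra.TensorProduct.congr e0.symm AlgEquiv.refl
  let e2 : k ⊗[k] k' ≃ₐ[k] k' := Algebra.TensorProduct.lid k k'
  let e3 : (P ⧸ maximalIdeal P) ⊗[k] k' ≃ₐ[k]
      (P ⊗[k] k') ⧸ (maximalIdeal P).map (algebraMap P (P ⊗[k] k')) :=
    Algebra.TensorProduct.quotientTensorEquiv (R := k) k k' P (maximalIdeal P)
  have hfield : IsField ((P ⊗[k] k') ⧸ (maximalIdeal P).map (algebraMap P (P ⊗[k] k'))) :=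
    MulEquiv.isField (Field.toIsField k') ((e3.symm.trans (e1.trans e2)).toMulEquiv)
  exact Ideal.Quotient.maximal_of_isField _ hfield

theorem isLocalRing_tensor [Module.Finite k k']
    (hres : Function.Surjective (algebraMap k (P ⧸ maximalIdeal P))) :
    IsLocalRing (P ⊗[k] k') := by
  have hmax := isMaximal_map_tensor k P k' hres
  haveI : Module.Finite P (P ⊗[k] k') := inferInstance
  haveI : Algebra.IsIntegral P (P ⊗[k] k') := Algebra.IsIntegral.of_finite P _
  refine IsLocalRing.of_unique_max_ideal ⟨_, hmax, fun M hM => ?_⟩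
  have h1 : (M.comap (algebraMap P (P ⊗[k] k'))).IsMaximal :=
    Ideal.isMaximal_comap_of_isIntegral_of_isMaximal M
  have h2 := IsLocalRing.eq_maximalIdeal h1
  have h3 : (maximalIdeal P).map (algebraMap P (P ⊗[k] k')) ≤ M := by
    rw [Ideal.map_le_iff_le_comap, h2]
  exact (hmax.eq_of_le hM.ne_top h3).symm

theorem isRegularRing_tensor [Module.Finite k k'] [IsRegularLocalRing P]
    (hres : Function.Surjective (algebraMap k (P ⧸ maximalIdeal P))) :
    IsRegularRing (P ⊗[k] k') := by
  haveI := isLocalRing_tensor k P k' hres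
  have hmax := isMaximal_map_tensor k P k' hres
  have hm : (maximalIdeal P).map (algebraMap P (P ⊗[k] k')) = maximalIdeal (P ⊗[k] k') :=
    IsLocalRing.eq_maximalIdeal hmax
  haveI : Module.Finite P (P ⊗[k] k') := inferInstance
  haveI : IsNoetherianRing (P ⊗[k] k') := IsNoetherianRing.of_finite P _
  haveI : IsLocalHom (algebraMap P (P ⊗[k] k')) :=
    ((IsLocalRing.local_hom_TFAE (algebraMap P (P ⊗[k] k'))).out 0 2).2 hm.le
  haveI : Module.Flat P (P ⊗[k] k') := inferInstance
  haveI : IsRegularLocalRing (P ⊗[k] k') :=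
    (Groth.Agent.EtStalk.isRegularLocalRing_iff_of_flat hm).2 inferInstance
  exact Groth.Agent.Lib.NagataCritH3.isRegularRing_of_isRegularLocalRing _

end Tensor

section Flat

theorem flat_of_isEtaleAt (R A : Type u) [CommRing R] [CommRing A] [Algebra R A]
    [Algebra.FinitePresentation R A] (p : Ideal A) [p.IsPrime] (het : Algebra.IsEtaleAt R p) :
    Module.Flat R (Localization.AtPrime p) := by
  haveI : Algebra.IsEtaleAt R p := het
  obtain ⟨f, hf, het'⟩ := Algebra.exists_etale_of_isEtaleAt (R := R) p
  haveI := het'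
  haveI : Module.Flat R (Localization.Away f) := inferInstance
  have hle : Submonoid.powers f ≤ p.primeCompl := Submonoid.powers_le.2 hf
  letI : Algebra (Localization.Away f) (Localization.AtPrime p) :=
    IsLocalization.localizationAlgebraOfSubmonoidLe _ _ (Submonoid.powers f) p.primeCompl hle
  haveI : IsScalarTower A (Localization.Away f) (Localization.AtPrime p) :=
    IsLocalization.localization_isScalarTower_of_submonoid_le _ _ _ _ hle
  haveI : IsLocalization (p.primeCompl.map (algebraMap A (Localization.Away f)))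
      (Localization.AtPrime p) :=
    IsLocalization.isLocalization_of_submonoid_le _ _ _ _ hle
  haveI : Module.Flat (Localization.Away f) (Localization.AtPrime p) :=
    IsLocalization.flat _ (p.primeCompl.map (algebraMap A (Localization.Away f)))
  haveI : IsScalarTower R (Localization.Away f) (Localization.AtPrime p) :=
    IsScalarTower.of_algebraMap_eq (fun x => by
      rw [IsScalarTower.algebraMap_apply R A (Localization.AtPrime p),
        IsScalarTower.algebraMap_apply A (Localization.Away f) (Localization.AtPrime p),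
        ← IsScalarTower.algebraMap_apply R A (Localization.Away f)])
  exact Module.Flat.trans R (Localization.Away f) (Localization.AtPrime p)

end Flat

section GeomReg

theorem isGeometricallyRegular_of_isEtaleAt (k P A : Type u) [Field k] [CommRing P] [Algebra k P]
    [IsRegularLocalRing P] (hres : Function.Surjective (algebraMap k (P ⧸ maximalIdeal P)))
    [CommRing A] [Algebra P A] [Algebra k A] [IsScalarTower k P A] [Algebra.FiniteType P A]
    (p : Ideal A) [p.IsPrime] (het : Algebra.IsEtaleAt P p) :
    CAlg.IsGeometricallyRegular k (Localization.AtPrime p) := by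
  intro k' _ _ hfin
  haveI := hfin
  haveI : Algebra.FinitePresentation P A := Algebra.FinitePresentation.of_finiteType.1 inferInstance
  haveI hflat := flat_of_isEtaleAt P A p het
  haveI hfe : Algebra.FormallyEtale P (Localization.AtPrime p) := het
  haveI : Algebra.EssFiniteType A (Localization.AtPrime p) :=
    Algebra.EssFiniteType.of_isLocalization _ p.primeCompl
  haveI : Algebra.EssFiniteType P (Localization.AtPrime p) := Algebra.EssFiniteType.comp P A _
  haveI hQ : IsRegularRing (P ⊗[k] k') := isRegularRing_tensor k P k' hres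
  haveI : IsRegularRing ((P ⊗[k] k') ⊗[P] Localization.AtPrime p) :=
    isRegularRing_of_flat_of_formallyUnramified (P ⊗[k] k') _
  haveI : IsScalarTower k P (Localization.AtPrime p) :=
    IsScalarTower.of_algebraMap_eq (fun x => by
      rw [IsScalarTower.algebraMap_apply k A (Localization.AtPrime p),
        IsScalarTower.algebraMap_apply k P A,
        ← IsScalarTower.algebraMap_apply P A (Localization.AtPrime p)])
  let e1 : (P ⊗[k] k') ⊗[P] Localization.AtPrime p ≃ₐ[P]
      Localization.AtPrime p ⊗[P] (P ⊗[k] k') := Algebra.TensorProduct.comm P _ _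
  let e2 : Localization.AtPrime p ⊗[P] (P ⊗[k] k') ≃ₐ[P] Localization.AtPrime p ⊗[k] k' :=
    Algebra.TensorProduct.cancelBaseChange k P P (Localization.AtPrime p) k'
  let e3 : Localization.AtPrime p ⊗[k] k' ≃ₐ[k] k' ⊗[k] Localization.AtPrime p :=
    Algebra.TensorProduct.comm k _ _
  exact IsRegularRing.of_ringEquiv
    ((e1.toRingEquiv.trans e2.toRingEquiv).trans e3.toRingEquiv)

end GeomReg

section Main

open KaehlerDifferential MvPowerSeries
open Groth.Agent.Lib.ComplKaehlerDimH3 Groth.Agent.Lib.ComplKaehlerUnramH3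
  Groth.Agent.Lib.ComplKaehlerEtaleH3

theorem residue_surjective (k : Type u) [Field k] (n : ℕ) :
    Function.Surjective (algebraMap k
      (MvPowerSeries (Fin n) k ⧸ maximalIdeal (MvPowerSeries (Fin n) k))) := by
  intro x
  obtain ⟨f, rfl⟩ := Ideal.Quotient.mk_surjective x
  refine ⟨MvPowerSeries.constantCoeff f, ?_⟩
  rw [IsScalarTower.algebraMap_apply k (MvPowerSeries (Fin n) k) _, Ideal.Quotient.algebraMap_eq,
    Ideal.Quotient.eq, mem_maximalIdeal, mem_nonunits_iff, MvPowerSeries.isUnit_iff_constantCoeff]
  simp [MvPowerSeries.algebraMap_apply]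

variable (k A : Type u) [Field k] [CommRing A] [IsLocalRing A] [IsNoetherianRing A] [Algebra k A]
  [IsAdicComplete (maximalIdeal A) A] [Module.Finite k (ResidueField A)]
  (p : Ideal A) [p.IsPrime] (n : ℕ)

/-- the `(⇒)` part of `main3850` from generators only -/
theorem exists_algebra_etale (hn : ringKrullDim A = n) (hp : p ≠ maximalIdeal A)
    (hq : ∃ q ∈ minimalPrimes A, q ≤ p ∧ ringKrullDim (A ⧸ q) = n)
    (hgen : ∃ s : Fin n → (LocalizedModule p.primeCompl
      (AdicCompletion (maximalIdeal A) (Ω[A⁄k]))),
      Submodule.span (Localization.AtPrime p) (Set.range s) = ⊤) :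
    ∃ (_ : Algebra (MvPowerSeries (Fin n) k) A) (_ : IsScalarTower k (MvPowerSeries (Fin n) k) A),
      IsLocalHom (algebraMap (MvPowerSeries (Fin n) k) A) ∧
        Module.Finite (MvPowerSeries (Fin n) k) A ∧
        Algebra.IsEtaleAt (MvPowerSeries (Fin n) k) p := by
  obtain ⟨q, hqmin, hqp, hqdim⟩ := hq
  obtain ⟨alg, tow, hloc, hfin, hunr⟩ := exists_algebra_of_span k A p n hp
    ⟨q, hqmin, hqp, by rw [hqdim, hn]⟩ hgen
  refine ⟨alg, tow, hloc, hfin, ?_⟩
  haveI : q.IsPrime := Ideal.minimalPrimes_isPrime hqmin
  obtain ⟨hd, hic⟩ := isIntegrallyClosed_mvPowerSeries_field k n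
  haveI : IsRegularLocalRing (MvPowerSeries (Fin n) k) :=
    Groth.Agent.Lib.RegPSH3.isRegularLocalRing_mvPowerSeries k n
  refine isEtaleAt_of_isUnramifiedAt p q hqp ?_ hunr
  rw [injective_iff_map_eq_zero]
  intro g hg
  by_contra hne
  have h1 : ringKrullDim (MvPowerSeries (Fin n) k ⧸
      RingHom.ker (algebraMap (MvPowerSeries (Fin n) k) (A ⧸ q))) + 1 ≤
      ringKrullDim (MvPowerSeries (Fin n) k) :=
    ringKrullDim_succ_le_of_surjective
      (Ideal.Quotient.mk (RingHom.ker (algebraMap (MvPowerSeries (Fin n) k) (A ⧸ q))))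
      Ideal.Quotient.mk_surjective (mem_nonZeroDivisors_of_ne_zero hne)
      (Ideal.Quotient.eq_zero_iff_mem.2 (RingHom.mem_ker.2 hg))
  letI : Algebra (MvPowerSeries (Fin n) k ⧸
      RingHom.ker (algebraMap (MvPowerSeries (Fin n) k) (A ⧸ q))) (A ⧸ q) :=
    (RingHom.kerLift (algebraMap (MvPowerSeries (Fin n) k) (A ⧸ q))).toAlgebra
  haveI : IsScalarTower (MvPowerSeries (Fin n) k)
      (MvPowerSeries (Fin n) k ⧸ RingHom.ker (algebraMap (MvPowerSeries (Fin n) k) (A ⧸ q)))
      (A ⧸ q) := IsScalarTower.of_algebraMap_eq fun b => rfl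
  haveI : Module.Finite (MvPowerSeries (Fin n) k) (A ⧸ q) :=
    Module.Finite.of_surjective (Ideal.Quotient.mkₐ (MvPowerSeries (Fin n) k) q).toLinearMap
      (Ideal.Quotient.mkₐ_surjective (MvPowerSeries (Fin n) k) q)
  haveI : Module.Finite (MvPowerSeries (Fin n) k ⧸
      RingHom.ker (algebraMap (MvPowerSeries (Fin n) k) (A ⧸ q))) (A ⧸ q) :=
    Module.Finite.of_restrictScalars_finite (MvPowerSeries (Fin n) k) _ _
  have h2 : ringKrullDim (A ⧸ q) ≤ ringKrullDim (MvPowerSeries (Fin n) k ⧸
      RingHom.ker (algebraMap (MvPowerSeries (Fin n) k) (A ⧸ q))) :=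
    Groth.Agent.Lib.FinitePSH3.ringKrullDim_le_of_isIntegral _ (A ⧸ q)
  have h3 := Groth.Agent.Lib.RegPSH3.ringKrullDim_mvPowerSeries_field_le k n
  have h4 : (n : WithBot ℕ∞) + 1 ≤ n := by
    calc (n : WithBot ℕ∞) + 1 = ringKrullDim (A ⧸ q) + 1 := by rw [hqdim]
      _ ≤ ringKrullDim (MvPowerSeries (Fin n) k ⧸
          RingHom.ker (algebraMap (MvPowerSeries (Fin n) k) (A ⧸ q))) + 1 :=
        add_le_add_left h2 1
      _ ≤ ringKrullDim (MvPowerSeries (Fin n) k) := h1
      _ ≤ n := h3
  have h5 : ((n + 1 : ℕ) : WithBot ℕ∞) ≤ (n : ℕ) := by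
    rw [Nat.cast_add, Nat.cast_one]
    exact h4
  have h6 : n + 1 ≤ n := by exact_mod_cast h5
  omega

theorem main5055 (hn : ringKrullDim A = n) (hp : p ≠ maximalIdeal A)
    (hq : ∃ q ∈ minimalPrimes A, q ≤ p ∧ ringKrullDim (A ⧸ q) = n)
    (hgen : ∃ s : Fin n → (LocalizedModule p.primeCompl
      (AdicCompletion (maximalIdeal A) (KaehlerDifferential k A))),
      Submodule.span (Localization.AtPrime p) (Set.range s) = ⊤) :
    (Module.Free (Localization.AtPrime p)
        (LocalizedModule p.primeCompl
          (AdicCompletion (maximalIdeal A) (KaehlerDifferential k A))) ∧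
      Module.finrank (Localization.AtPrime p)
        (LocalizedModule p.primeCompl
          (AdicCompletion (maximalIdeal A) (KaehlerDifferential k A))) = n) ∧
      CAlg.IsGeometricallyRegular k (Localization.AtPrime p) := by
  obtain ⟨alg, tow, hloc, hfin, het⟩ := exists_algebra_etale k A p n hn hp hq hgen
  letI := alg
  haveI := tow
  haveI := hfin
  haveI : IsRegularLocalRing (MvPowerSeries (Fin n) k) :=
    Groth.Agent.Lib.RegPSH3.isRegularLocalRing_mvPowerSeries k n
  exact ⟨free_of_isEtaleAt k A p n hloc het,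
    isGeometricallyRegular_of_isEtaleAt k (MvPowerSeries (Fin n) k) A (residue_surjective k n) p
      het⟩

end Main

end Groth.Agent.Lib.ComplKaehlerGeomRegH3
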