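import Mathlib
import Groth.Agent.Lib.CompleteNoeth_lead

/-!
Helper lemmas (helper3): rig-closed primes of adic Noetherian rings.
APPEND-ONLY once landed.
-/

set_option autoImplicit false
universe u

namespace Groth.Agent.Lib.RigClosedH3

open Ideal

section D1
variable {D : Type*} [CommRing D] [IsDomain D] [IsNoetherianRing D]

theorem two_false (P₁ P₂ : Ideal D) [P₁.IsPrime] [P₂.IsPrime] (h1 : P₁ ≠ ⊥) (h12 : P₁ < P₂)
    (hh : P₂.height ≤ 1) : False := by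
  have hb : (⊥ : Ideal D) < P₁ := bot_lt_iff_ne_bot.2 h1
  have e1 := Ideal.height_add_one_le_of_lt_of_isPrime hb
  have e2 := Ideal.height_add_one_le_of_lt_of_isPrime h12
  have h3 : (⊥ : Ideal D).height + 1 + 1 ≤ 1 := (add_le_add_left e1 1).trans (e2.trans hh)
  rw [Ideal.height_bot] at h3
  norm_num at h3

/-- In a Noetherian domain in which all nonzero primes contain a fixed nonzero ideal, all nonzero
primes are maximal. -/
theorem isMaximal_of_forall_le (J : Ideal D) (hJ : J ≠ ⊥)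
    (h : ∀ P : Ideal D, P.IsPrime → P ≠ ⊥ → J ≤ P) (P : Ideal D) [hP : P.IsPrime] (hP0 : P ≠ ⊥) :
    P.IsMaximal := by
  classical
  obtain ⟨M, hM, hPM⟩ := Ideal.exists_le_maximal P hP.ne_top
  by_contra hcon
  have hne : P ≠ M := fun e => hcon (e ▸ hM)
  have hlt : P < M := lt_of_le_of_ne hPM hne
  haveI : M.IsPrime := hM.isPrime
  have hfin : (J.minimalPrimes).Finite := Ideal.finite_minimalPrimes_of_isNoetherianRing D J
  set T : Finset (Ideal D) := hfin.toFinset.filter (fun Q => ¬ M ≤ Q) with hT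
  have hTmem : ∀ Q, Q ∈ T ↔ Q ∈ J.minimalPrimes ∧ ¬ M ≤ Q := by
    intro Q; simp [hT]
  have havoid : ¬ ((M : Set D) ⊆ ⋃ Q ∈ (↑T : Set (Ideal D)), (Q : Set D)) := by
    intro hsub
    have hp : ∀ Q ∈ T, Q ≠ (⊥ : Ideal D) → Q ≠ (⊥ : Ideal D) → Ideal.IsPrime ((fun Q => Q) Q) := by
      intro Q hQ _ _
      exact ((hTmem Q).1 hQ).1.1.1
    obtain ⟨Q, hQ, hMQ⟩ := (Ideal.subset_union_prime (s := T) (f := fun Q => Q) ⊥ ⊥ hp).1 hsub
    exact ((hTmem Q).1 hQ).2 hMQ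
  obtain ⟨x, hxM, hx⟩ := Set.not_subset.1 havoid
  have hxT : ∀ Q ∈ T, x ∉ Q := by
    intro Q hQ hxQ
    apply hx
    simp only [Set.mem_iUnion]
    exact ⟨Q, hQ, hxQ⟩
  obtain ⟨Q0, hQ0, hQ0P⟩ := Ideal.exists_minimalPrimes_le (h P hP hP0)
  have hQ0T : Q0 ∈ T := (hTmem Q0).2 ⟨hQ0, fun hMQ => not_le_of_gt hlt (hMQ.trans hQ0P)⟩
  have hx0 : x ≠ 0 := by
    rintro rfl
    exact hxT Q0 hQ0T Q0.zero_mem
  have hxM' : Ideal.span {x} ≤ M := (Ideal.span_singleton_le_iff_mem _).2 hxM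
  obtain ⟨P', hP', hP'M⟩ := Ideal.exists_minimalPrimes_le hxM'
  haveI : P'.IsPrime := hP'.1.1
  have hht : P'.height ≤ 1 :=
    Ideal.height_le_one_of_isPrincipal_of_mem_minimalPrimes (Ideal.span {x}) P' hP'
  have hxP' : x ∈ P' := hP'.1.2 (Ideal.mem_span_singleton_self x)
  have hP'0 : P' ≠ ⊥ := by
    intro e
    rw [e] at hxP'
    exact hx0 ((Ideal.mem_bot).1 hxP')
  obtain ⟨Q', hQ', hQ'P'⟩ := Ideal.exists_minimalPrimes_le (h P' inferInstance hP'0)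
  haveI : Q'.IsPrime := hQ'.1.1
  have hQ'0 : Q' ≠ ⊥ := by
    intro e
    apply hJ
    exact le_bot_iff.1 (e ▸ hQ'.1.2)
  have hQ'eq : Q' = P' := by
    by_contra hne'
    exact two_false Q' P' hQ'0 (lt_of_le_of_ne hQ'P' hne') hht
  have hP'T : P' ∈ T := by
    rw [hTmem]
    refine ⟨hQ'eq ▸ hQ', fun hMP' => ?_⟩
    have hMeq : M = P' := le_antisymm hMP' hP'M
    exact two_false P P' hP0 (hMeq ▸ hlt) hht
  exact hxT P' hP'T hxP'

end D1

section FL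

/-- A Noetherian algebra all of whose prime quotients are finite over the base is finite. -/
theorem finite_quotient_of_forall_prime (R₀ : Type*) {D : Type*} [CommRing R₀] [CommRing D]
    [Algebra R₀ D] [IsNoetherianRing D] (𝔞₀ : Ideal D)
    (h : ∀ P : Ideal D, P.IsPrime → 𝔞₀ ≤ P → Module.Finite R₀ (D ⧸ P)) (𝔞 : Ideal D)
    (h𝔞 : 𝔞₀ ≤ 𝔞) : Module.Finite R₀ (D ⧸ 𝔞) := by
  revert h𝔞
  refine IsNoetherian.induction (P := fun 𝔞 : Ideal D => 𝔞₀ ≤ 𝔞 → Module.Finite R₀ (D ⧸ 𝔞)) ?_ 𝔞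
  intro (𝔞 : Ideal D) ih h𝔞
  by_cases htop : 𝔞 = ⊤
  · haveI : Subsingleton (D ⧸ 𝔞) := Ideal.Quotient.subsingleton_iff.2 htop
    infer_instance
  by_cases hpr : 𝔞.IsPrime
  · exact h 𝔞 hpr h𝔞
  rcases Ideal.not_isPrime_iff.1 hpr with h1 | ⟨x, hx, y, hy, hxy⟩
  · exact absurd h1 htop
  let μ : D →ₗ[D] D ⧸ 𝔞 := (Submodule.mkQ 𝔞) ∘ₗ (LinearMap.mulLeft D x)
  have hμ : ∀ d, μ d = Ideal.Quotient.mk 𝔞 (x * d) := fun d => rfl
  let 𝔠 : Ideal D := LinearMap.ker μ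
  have mem_𝔠 : ∀ d, d ∈ 𝔠 ↔ x * d ∈ 𝔞 := by
    intro d
    show μ d = 0 ↔ _
    rw [hμ, Ideal.Quotient.eq_zero_iff_mem]
  have hac : 𝔞 < 𝔠 := by
    refine lt_of_le_of_ne (fun a ha => (mem_𝔠 a).2 (𝔞.mul_mem_left x ha)) ?_
    intro e
    apply hy
    rw [e, mem_𝔠]
    exact hxy
  set 𝔟 : Ideal D := 𝔞 ⊔ Ideal.span {x} with h𝔟
  have hab : 𝔞 < 𝔟 := by
    refine lt_of_le_of_ne le_sup_left ?_
    intro e
    apply hx
    rw [e]
    exact Ideal.mem_sup_right (Ideal.mem_span_singleton_self x)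
  haveI hfb : Module.Finite R₀ (D ⧸ 𝔟) := ih 𝔟 hab (h𝔞.trans hab.le)
  haveI hfc : Module.Finite R₀ (D ⧸ 𝔠) := ih 𝔠 hac (h𝔞.trans hac.le)
  let ν : D ⧸ 𝔠 →ₗ[R₀] D ⧸ 𝔞 := (Submodule.liftQ 𝔠 μ le_rfl).restrictScalars R₀
  have hν : ∀ c, ν (Ideal.Quotient.mk 𝔠 c) = Ideal.Quotient.mk 𝔞 (x * c) := fun c => rfl
  let f : D ⧸ 𝔞 →ₗ[R₀] D ⧸ 𝔟 :=
    (Submodule.mapQ 𝔞 𝔟 LinearMap.id (by simpa using hab.le)).restrictScalars R₀
  have hf : ∀ d, f (Ideal.Quotient.mk 𝔞 d) = Ideal.Quotient.mk 𝔟 d := fun d => rfl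
  have hfsurj : Function.Surjective f := by
    intro z
    obtain ⟨d, rfl⟩ := Ideal.Quotient.mk_surjective z
    exact ⟨Ideal.Quotient.mk 𝔞 d, hf d⟩
  have hker : LinearMap.ker f = LinearMap.range ν := by
    ext z
    obtain ⟨d, rfl⟩ := Ideal.Quotient.mk_surjective z
    rw [LinearMap.mem_ker, hf, Ideal.Quotient.eq_zero_iff_mem, LinearMap.mem_range]
    constructor
    · intro hd
      obtain ⟨a, ha, b, hb, rfl⟩ := Submodule.mem_sup.1 hd
      obtain ⟨c, rfl⟩ := Ideal.mem_span_singleton'.1 hb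
      refine ⟨Ideal.Quotient.mk 𝔠 c, ?_⟩
      rw [hν, Ideal.Quotient.eq]
      have : x * c - (a + c * x) = -a := by ring
      rw [this]
      exact 𝔞.neg_mem ha
    · rintro ⟨w, hw⟩
      obtain ⟨c, rfl⟩ := Ideal.Quotient.mk_surjective w
      rw [hν, Ideal.Quotient.eq] at hw
      have : d = -(x * c - d) + c * x := by ring
      rw [this]
      exact Submodule.add_mem_sup (𝔞.neg_mem hw)
        (Ideal.mem_span_singleton'.2 ⟨c, rfl⟩)
  rw [Module.finite_def]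
  apply Submodule.fg_of_fg_map_of_fg_inf_ker f
  · rw [Submodule.map_top, LinearMap.range_eq_top.2 hfsurj]
    exact Module.Finite.fg_top
  · rw [top_inf_eq, hker, LinearMap.range_eq_map]
    exact (Module.Finite.fg_top).map ν

end FL

end Groth.Agent.Lib.RigClosedH3
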