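import Mathlib
import Groth.Agent.Lib.RigClosed_helper3

/-!
Helper lemmas (helper3): rig-closed primes of adic Noetherian rings, part 2.
APPEND-ONLY once landed.
-/

set_option autoImplicit false
universe u

namespace Groth.Agent.Lib.RigClosedH3

open Ideal

/-- rig-closed w.r.t. `K` -/
def IsRigClosed {R : Type*} [CommRing R] (K : Ideal R) (q : PrimeSpectrum R) : Prop :=
  ¬ K ≤ q.asIdeal ∧ ∀ y : PrimeSpectrum R, q ≤ y → ¬ K ≤ y.asIdeal → y = q

section RC
variable {R : Type*} [CommRing R] {K : Ideal R} {q : PrimeSpectrum R}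

theorem le_of_lt_of_rigClosed (hq : IsRigClosed K q) (P : Ideal R) [P.IsPrime]
    (hqP : q.asIdeal < P) : K ≤ P := by
  by_contra hK
  have h1 := hq.2 ⟨P, inferInstance⟩ hqP.le hK
  have e : P = q.asIdeal := congrArg PrimeSpectrum.asIdeal h1
  exact hqP.ne' e

theorem isMaximal_of_lt [IsNoetherianRing R] (hq : IsRigClosed K q) (P : Ideal R) [hP : P.IsPrime]
    (hqP : q.asIdeal < P) : P.IsMaximal := by
  haveI : q.asIdeal.IsPrime := q.isPrime
  let mk : R →+* R ⧸ q.asIdeal := Ideal.Quotient.mk q.asIdeal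
  have hmk : Function.Surjective mk := Ideal.Quotient.mk_surjective
  set J : Ideal (R ⧸ q.asIdeal) := K.map mk with hJdef
  have hJ : J ≠ ⊥ := by
    intro e
    apply hq.1
    intro k hk
    have : mk k ∈ J := Ideal.mem_map_of_mem _ hk
    rw [e, Ideal.mem_bot, Ideal.Quotient.eq_zero_iff_mem] at this
    exact this
  have hall : ∀ P' : Ideal (R ⧸ q.asIdeal), P'.IsPrime → P' ≠ ⊥ → J ≤ P' := by
    intro P' hP' hP'0
    rw [hJdef, Ideal.map_le_iff_le_comap]
    haveI : (P'.comap mk).IsPrime := Ideal.comap_isPrime mk P'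
    apply le_of_lt_of_rigClosed hq
    refine lt_of_le_of_ne ?_ ?_
    · intro a ha
      rw [Ideal.mem_comap]
      have : mk a = 0 := Ideal.Quotient.eq_zero_iff_mem.2 ha
      rw [this]
      exact P'.zero_mem
    · intro e
      apply hP'0
      rw [← Ideal.map_comap_of_surjective mk hmk P', ← e]
      exact Ideal.map_quotient_self _
  haveI : (P.map mk).IsPrime :=
    Ideal.map_isPrime_of_surjective hmk (by rw [Ideal.mk_ker]; exact hqP.le)
  have hP0 : P.map mk ≠ ⊥ := by
    intro e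
    obtain ⟨a, haP, haq⟩ := SetLike.exists_of_lt hqP
    have : mk a ∈ P.map mk := Ideal.mem_map_of_mem _ haP
    rw [e, Ideal.mem_bot, Ideal.Quotient.eq_zero_iff_mem] at this
    exact haq this
  have hmax := isMaximal_of_forall_le J hJ hall (P.map mk) hP0
  have hcm : (P.map mk).comap mk = P := by
    rw [Ideal.comap_map_of_surjective mk hmk, ← RingHom.ker_eq_comap_bot, Ideal.mk_ker]
    exact sup_eq_left.2 hqP.le
  rw [← hcm]
  exact Ideal.comap_isMaximal_of_surjective mk hmk

end RC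

section Zr

theorem finite_of_jacobson_quotient {R₀ F : Type*} [CommRing R₀] [Field F] [Algebra R₀ F]
    [hft : Algebra.FiniteType R₀ F] (𝔞 : Ideal R₀) [IsJacobsonRing (R₀ ⧸ 𝔞)]
    (h : 𝔞 ≤ RingHom.ker (algebraMap R₀ F)) : Module.Finite R₀ F := by
  let φ : R₀ ⧸ 𝔞 →+* F := Ideal.Quotient.lift 𝔞 (algebraMap R₀ F) (fun a ha => h ha)
  have hcomp : φ.comp (Ideal.Quotient.mk 𝔞) = algebraMap R₀ F := by
    ext a
    rfl
  have hft' : (algebraMap R₀ F).FiniteType := RingHom.finiteType_algebraMap.2 hft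
  have h1 : φ.FiniteType := by
    apply RingHom.FiniteType.of_comp_finiteType (f := Ideal.Quotient.mk 𝔞)
    rw [hcomp]
    exact hft'
  have h2 : φ.Finite := RingHom.finite_iff_finiteType_of_isJacobsonRing.2 h1
  have h3 : (Ideal.Quotient.mk 𝔞).Finite :=
    RingHom.Finite.of_surjective _ Ideal.Quotient.mk_surjective
  have h4 : (algebraMap R₀ F).Finite := by
    rw [← hcomp]
    exact h2.comp h3
  exact RingHom.finite_algebraMap.1 h4

end Zr

section Main
variable {A B : Type u} [CommRing A] [CommRing B] [Algebra A B]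

theorem finite_quotient_of_residue_finite (I : Ideal A) [IsAdicComplete I A]
    [IsNoetherianRing B] [IsAdicComplete (I.map (algebraMap A B)) B] (q : PrimeSpectrum B)
    (hq : IsRigClosed (I.map (algebraMap A B)) q)
    (h1 : ∀ m : Ideal B, m.IsMaximal → q.asIdeal ≤ m → Module.Finite A (B ⧸ m)) :
    Module.Finite A (B ⧸ q.asIdeal) := by
  set K : Ideal B := I.map (algebraMap A B) with hK
  haveI : q.asIdeal.IsPrime := q.isPrime
  have hfin : Module.Finite A (B ⧸ (q.asIdeal ⊔ K)) := by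
    refine finite_quotient_of_forall_prime A (q.asIdeal ⊔ K) ?_ _ le_rfl
    intro P hP hle
    have hqP : q.asIdeal < P := by
      refine lt_of_le_of_ne (le_sup_left.trans hle) ?_
      intro e
      apply hq.1
      rw [e]
      exact le_sup_right.trans hle
    haveI := hP
    exact h1 P (isMaximal_of_lt hq P hqP) hqP.le
  let M := B ⧸ q.asIdeal
  let g : B →ₗ[A] M ⧸ (I • ⊤ : Submodule A M) :=
    (Submodule.mkQ (I • ⊤ : Submodule A M)) ∘ₗ ((Submodule.mkQ q.asIdeal).restrictScalars A)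
  have hg : ((q.asIdeal ⊔ K).restrictScalars A) ≤ LinearMap.ker g := by
    intro d hd
    rw [Submodule.restrictScalars_mem] at hd
    obtain ⟨d₁, hd₁, d₂, hd₂, rfl⟩ := Submodule.mem_sup.1 hd
    rw [LinearMap.mem_ker, map_add]
    have e1 : g d₁ = 0 := by
      show Submodule.mkQ _ (Submodule.mkQ q.asIdeal d₁) = 0
      rw [Submodule.mkQ_apply q.asIdeal, (Submodule.Quotient.mk_eq_zero _).2 hd₁, map_zero]
    have e2 : g d₂ = 0 := by
      show Submodule.mkQ _ (Submodule.mkQ q.asIdeal d₂) = 0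
      rw [Submodule.mkQ_apply (I • ⊤ : Submodule A M), Submodule.Quotient.mk_eq_zero]
      have hd₂' : d₂ ∈ (I • ⊤ : Submodule A B) := by
        rw [Ideal.smul_top_eq_map]
        exact hd₂
      have h3 := Submodule.mem_map_of_mem (f := (Submodule.mkQ q.asIdeal).restrictScalars A) hd₂'
      rw [Submodule.map_smul''] at h3
      exact Submodule.smul_mono le_rfl le_top h3
    rw [e1, e2, add_zero]
  let ψ : B ⧸ (q.asIdeal ⊔ K) →ₗ[A] M ⧸ (I • ⊤ : Submodule A M) :=
    (Submodule.liftQ _ g hg) ∘ₗ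
      (Submodule.Quotient.restrictScalarsEquiv A (q.asIdeal ⊔ K)).symm.toLinearMap
  have hψ : Function.Surjective ψ := by
    refine Function.Surjective.comp (g := ⇑(Submodule.liftQ _ g hg)) ?_ (LinearEquiv.surjective _)
    rw [← LinearMap.range_eq_top, Submodule.range_liftQ, LinearMap.range_eq_top]
    exact (Submodule.mkQ_surjective _).comp (Submodule.mkQ_surjective _)
  haveI hfinq : Module.Finite A (M ⧸ (I • ⊤ : Submodule A M)) := Module.Finite.of_surjective ψ hψ
  have hKj : K ≤ Ideal.jacobson ⊥ := IsAdicComplete.le_jacobson_bot K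
  haveI hH : IsHausdorff K M := IsHausdorff.of_le_jacobson K M hKj
  haveI : IsHausdorff I M := (IsHausdorff.map_algebraMap_iff (I := I) (M := M) (S := B)).1 hH
  exact Groth.Agent.Lib.CompleteNoethLead.finite_of_hausdorff I M hfinq

theorem rigClosed_comap_of_finite (I : Ideal A) (q : PrimeSpectrum B)
    (hq : IsRigClosed (I.map (algebraMap A B)) q) (h3 : Module.Finite A (B ⧸ q.asIdeal)) :
    IsRigClosed I (PrimeSpectrum.comap (algebraMap A B) q) := by
  haveI : q.asIdeal.IsPrime := q.isPrime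
  constructor
  · intro hI
    apply hq.1
    rw [Ideal.map_le_iff_le_comap]
    exact hI
  · intro y hy hIy
    haveI : Algebra.IsIntegral A (B ⧸ q.asIdeal) := Algebra.IsIntegral.of_finite A _
    haveI := y.isPrime
    have hker : (⊥ : Ideal (B ⧸ q.asIdeal)).comap (algebraMap A (B ⧸ q.asIdeal)) ≤ y.asIdeal := by
      intro a ha
      rw [Ideal.mem_comap, Ideal.mem_bot] at ha
      have h4 : algebraMap A B a ∈ q.asIdeal := by
        rw [← Ideal.Quotient.eq_zero_iff_mem]
        exact ha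
      exact hy h4
    obtain ⟨Q, -, hQ, hQy⟩ := Ideal.exists_ideal_over_prime_of_isIntegral y.asIdeal
      (⊥ : Ideal (B ⧸ q.asIdeal)) hker
    haveI := hQ
    let Qt : PrimeSpectrum B := ⟨Q.comap (Ideal.Quotient.mk q.asIdeal), inferInstance⟩
    have hqQ : q ≤ Qt := by
      intro b hb
      show Ideal.Quotient.mk q.asIdeal b ∈ Q
      rw [Ideal.Quotient.eq_zero_iff_mem.2 hb]
      exact Q.zero_mem
    have hcomap : Qt.asIdeal.comap (algebraMap A B) = y.asIdeal := by
      rw [← hQy]
      rfl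
    have hK : ¬ I.map (algebraMap A B) ≤ Qt.asIdeal := by
      intro hle
      apply hIy
      rw [← hcomap]
      exact Ideal.map_le_iff_le_comap.1 hle
    have h5 := hq.2 Qt hqQ hK
    apply PrimeSpectrum.ext
    rw [← hcomap, h5]
    rfl

theorem residue_finite_of_jacobson (I : Ideal A) [IsAdicComplete (I.map (algebraMap A B)) B]
    (hft : Algebra.FiniteType A (B ⧸ I.map (algebraMap A B))) (𝔞 : Ideal A)
    [IsJacobsonRing (A ⧸ 𝔞)] (m : Ideal B) (hm : m.IsMaximal)
    (h𝔞 : 𝔞 ≤ m.comap (algebraMap A B)) : Module.Finite A (B ⧸ m) := by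
  set K : Ideal B := I.map (algebraMap A B) with hK
  have hKm : K ≤ m :=
    (IsAdicComplete.le_jacobson_bot K).trans (sInf_le ⟨bot_le, hm⟩)
  haveI : Algebra.FiniteType A (B ⧸ m) :=
    Algebra.FiniteType.of_surjective (Ideal.Quotient.factorₐ A hKm)
      (Ideal.Quotient.factor_surjective hKm)
  letI : Field (B ⧸ m) := Ideal.Quotient.field m
  refine finite_of_jacobson_quotient 𝔞 ?_
  intro a ha
  rw [RingHom.mem_ker]
  exact Ideal.Quotient.eq_zero_iff_mem.2 (h𝔞 ha)

theorem residue_finite_of_rigClosed_comap [IsNoetherianRing A] (I : Ideal A)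
    [IsAdicComplete (I.map (algebraMap A B)) B]
    (hft : Algebra.FiniteType A (B ⧸ I.map (algebraMap A B))) (q : PrimeSpectrum B)
    (h2 : IsRigClosed I (PrimeSpectrum.comap (algebraMap A B) q))
    (m : Ideal B) (hm : m.IsMaximal) (hqm : q.asIdeal ≤ m) : Module.Finite A (B ⧸ m) := by
  set K : Ideal B := I.map (algebraMap A B) with hK
  have hKm : K ≤ m :=
    (IsAdicComplete.le_jacobson_bot K).trans (sInf_le ⟨bot_le, hm⟩)
  haveI : m.IsPrime := hm.isPrime
  set 𝔫 : Ideal A := m.comap (algebraMap A B) with h𝔫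
  haveI : 𝔫.IsPrime := Ideal.comap_isPrime _ m
  have hI𝔫 : I ≤ 𝔫 := Ideal.map_le_iff_le_comap.1 hKm
  have hlt : (PrimeSpectrum.comap (algebraMap A B) q).asIdeal < 𝔫 := by
    refine lt_of_le_of_ne (Ideal.comap_mono hqm) ?_
    intro e
    apply h2.1
    rw [e]
    exact hI𝔫
  have hmax : 𝔫.IsMaximal := isMaximal_of_lt h2 𝔫 hlt
  haveI : IsJacobsonRing (A ⧸ 𝔫) := by
    letI := Ideal.Quotient.field 𝔫
    infer_instance
  exact residue_finite_of_jacobson I hft 𝔫 m hm le_rfl

end Main

end Groth.Agent.Lib.RigClosedH3
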