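import Mathlib
import Groth.Agent.Lib.RigClosed2_helper3

/-!
Helper lemmas (helper3): rig-closed primes, part 3 (existence of rig-closed primes over a given one
for flat maps).  APPEND-ONLY once landed.
-/

set_option autoImplicit false
universe u

namespace Groth.Agent.Lib.RigClosedH3

open Ideal TensorProduct

section Exists
variable {A B : Type u} [CommRing A] [CommRing B] [Algebra A B]

theorem exists_rigClosed_over [IsNoetherianRing B] [Module.Flat A B] (I : Ideal A)
    (p : PrimeSpectrum A) (hp : IsRigClosed I p)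
    (hne : p.asIdeal.map (algebraMap A B) ≠ ⊤) :
    ∃ q : PrimeSpectrum B, IsRigClosed (I.map (algebraMap A B)) q ∧
      PrimeSpectrum.comap (algebraMap A B) q = p := by
  haveI := p.isPrime
  obtain ⟨a, haI, hap⟩ := SetLike.not_le_iff_exists.1 hp.1
  set P : Ideal B := p.asIdeal.map (algebraMap A B) with hP
  set α : B := algebraMap A B a with hα
  have hreg0 : IsSMulRegular (A ⧸ p.asIdeal) a := by
    intro x y hxy
    simp only at hxy
    rw [Algebra.smul_def, Algebra.smul_def] at hxy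
    have hne : algebraMap A (A ⧸ p.asIdeal) a ≠ 0 := by
      rw [Ideal.Quotient.algebraMap_eq, Ne, Ideal.Quotient.eq_zero_iff_mem]
      exact hap
    exact mul_left_cancel₀ hne hxy
  have hreg1 : IsSMulRegular (B ⊗[A] (A ⧸ p.asIdeal)) a := IsSMulRegular.lTensor B hreg0
  have hreg2 : IsSMulRegular (B ⧸ (p.asIdeal • ⊤ : Submodule A B)) a :=
    (LinearEquiv.isSMulRegular_congr (TensorProduct.tensorQuotEquivQuotSMul B p.asIdeal) a).1 hreg1
  have key : ∀ b : B, α * b ∈ P → b ∈ P := by
    intro b hb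
    have h1 : a • b ∈ (p.asIdeal • ⊤ : Submodule A B) := by
      rw [Ideal.smul_top_eq_map, Algebra.smul_def]
      exact hb
    have h2 : a • (Submodule.Quotient.mk b : B ⧸ (p.asIdeal • ⊤ : Submodule A B)) = 0 := by
      rw [← Submodule.Quotient.mk_smul, Submodule.Quotient.mk_eq_zero]
      exact h1
    have h3 := hreg2.right_eq_zero_of_smul h2
    rw [Submodule.Quotient.mk_eq_zero, Ideal.smul_top_eq_map] at h3
    exact h3
  have hpow : ∀ n : ℕ, α ^ n ∉ P := by
    intro n
    induction n with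
    | zero =>
      rw [pow_zero]
      exact fun h => hne ((Ideal.eq_top_iff_one _).2 h)
    | succ n ih =>
      intro h
      rw [pow_succ'] at h
      exact ih (key _ h)
  let S : Submonoid B := Submonoid.powers α
  have hdisj : Disjoint (P : Set B) S := by
    rw [Set.disjoint_left]
    rintro x hx ⟨n, rfl⟩
    exact hpow n hx
  let 𝒮 : Set (Ideal B) := {J | P ≤ J ∧ Disjoint (J : Set B) S}
  obtain ⟨q', ⟨hPq', hqd'⟩, hqmax'⟩ :=
    set_has_maximal_iff_noetherian.2 inferInstance 𝒮 ⟨P, le_rfl, hdisj⟩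
  obtain ⟨q, hqq'⟩ : ∃ q : Ideal B, q = q' := ⟨q', rfl⟩
  have hPq : P ≤ q := hqq' ▸ hPq'
  have hqd : Disjoint (q : Set B) S := hqq' ▸ hqd'
  have hqmax : ∀ J ∈ 𝒮, ¬ q < J := hqq' ▸ hqmax'
  have hqprime : q.IsPrime := Ideal.isPrime_of_maximally_disjoint q S hqd
    (fun J hJ hJd => hqmax J ⟨hPq.trans hJ.le, hJd⟩ hJ)
  have hαq : α ∉ q := fun h => Set.disjoint_left.1 hqd h (Submonoid.mem_powers α)
  have hcomap_gen : ∀ y : PrimeSpectrum B, P ≤ y.asIdeal →
      ¬ I.map (algebraMap A B) ≤ y.asIdeal →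
      y.asIdeal.comap (algebraMap A B) = p.asIdeal := by
    intro y hPy hKy
    have h1 : p ≤ PrimeSpectrum.comap (algebraMap A B) y := Ideal.map_le_iff_le_comap.1 hPy
    have h2 : ¬ I ≤ (PrimeSpectrum.comap (algebraMap A B) y).asIdeal :=
      fun h => hKy (Ideal.map_le_iff_le_comap.2 h)
    exact congrArg PrimeSpectrum.asIdeal (hp.2 _ h1 h2)
  have hKq : ¬ I.map (algebraMap A B) ≤ q := fun h => hαq (h (Ideal.mem_map_of_mem _ haI))
  refine ⟨⟨q, hqprime⟩, ⟨hKq, ?_⟩, ?_⟩
  · intro y hy hKy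
    have hyc := hcomap_gen y (hPq.trans hy) hKy
    have hαy : α ∉ y.asIdeal := by
      intro h
      have h' : a ∈ y.asIdeal.comap (algebraMap A B) := h
      rw [hyc] at h'
      exact hap h'
    have hyd : Disjoint (y.asIdeal : Set B) S := by
      rw [Set.disjoint_left]
      rintro x hx ⟨n, rfl⟩
      exact hαy (y.isPrime.mem_of_pow_mem n hx)
    by_contra hne'
    have hlt : q < y.asIdeal := lt_of_le_of_ne hy (fun e => hne' (PrimeSpectrum.ext e.symm))
    exact hqmax y.asIdeal ⟨hPq.trans hy, hyd⟩ hlt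
  · apply PrimeSpectrum.ext
    exact hcomap_gen ⟨q, hqprime⟩ hPq hKq

end Exists

end Groth.Agent.Lib.RigClosedH3
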