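import Mathlib
import Groth.Agent.Lib.RigClosed3_helper3

/-!
Helper lemmas (helper3): rig-closed primes, part 4 (étale reduction ⇒ `pB_q = qB_q`).
APPEND-ONLY once landed.
-/

set_option autoImplicit false
universe u

namespace Groth.Agent.Lib.RigClosedH3

open Ideal TensorProduct KaehlerDifferential IsLocalRing

section LemmaU

/-- Formal unramifiedness can be checked modulo an ideal of the base contained in the Jacobson
radical, when the module of differentials is finite. -/
theorem formallyUnramified_of_quotient {R S : Type*} [CommRing R] [CommRing S] [Algebra R S]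
    (I : Ideal R) [Module.Finite S Ω[S⁄R]]
    (hJ : I.map (algebraMap R S) ≤ Ideal.jacobson ⊥)
    [Algebra.FormallyUnramified R (S ⧸ I.map (algebraMap R S))] :
    Algebra.FormallyUnramified R S := by
  set J : Ideal S := I.map (algebraMap R S) with hJdef
  constructor
  have h1 : Subsingleton ((S ⧸ J) ⊗[S] Ω[S⁄R]) := by
    refine subsingleton_of_forall_eq 0 fun x ↦ ?_
    obtain ⟨x, rfl⟩ := (KaehlerDifferential.exact_kerCotangentToTensor_mapBaseChange R S
      (S ⧸ J) Ideal.Quotient.mk_surjective x).mp (Subsingleton.elim _ _)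
    obtain ⟨⟨x, hx⟩, rfl⟩ := Ideal.toCotangent_surjective _ x
    simp only [KaehlerDifferential.kerCotangentToTensor_toCotangent]
    replace hx : x ∈ Ideal.map (algebraMap R S) I := by
      rw [Ideal.Quotient.algebraMap_eq, Ideal.mk_ker] at hx
      exact hx
    induction hx using Submodule.span_induction with
    | zero => simp
    | mem x h => obtain ⟨x, hx, rfl⟩ := h; simp
    | add x y hx hy _ _ => simp [*, TensorProduct.tmul_add]
    | smul a x hx _ =>
      have : (Ideal.Quotient.mk J) x = 0 := Ideal.Quotient.eq_zero_iff_mem.2 hx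
      simp [*, TensorProduct.tmul_add, TensorProduct.smul_tmul', ← Algebra.algebraMap_eq_smul_one]
  have h2 : Subsingleton (Ω[S⁄R] ⧸ (J • ⊤ : Submodule S Ω[S⁄R])) :=
    (TensorProduct.quotTensorEquivQuotSMul Ω[S⁄R] J).symm.toEquiv.subsingleton
  have h3 : (J • ⊤ : Submodule S Ω[S⁄R]) = ⊤ := Submodule.Quotient.subsingleton_iff.1 h2
  have h4 : (⊤ : Submodule S Ω[S⁄R]) = ⊥ :=
    Submodule.eq_bot_of_le_smul_of_le_jacobson_bot J ⊤ Module.Finite.fg_top (h3.symm.le) hJ
  exact (Submodule.subsingleton_iff S).1 (subsingleton_of_bot_eq_top h4.symm)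

end LemmaU

section Main
variable {A B : Type u} [CommRing A] [CommRing B] [Algebra A B]

theorem finite_quotient_of_finite_sup (I : Ideal A) [IsAdicComplete I A]
    [IsNoetherianRing B] [IsAdicComplete (I.map (algebraMap A B)) B] (Q₀ : Ideal B)
    (hfin : Module.Finite A (B ⧸ (Q₀ ⊔ I.map (algebraMap A B)))) :
    Module.Finite A (B ⧸ Q₀) := by
  set K : Ideal B := I.map (algebraMap A B) with hK
  let M := B ⧸ Q₀
  let g : B →ₗ[A] M ⧸ (I • ⊤ : Submodule A M) :=
    (Submodule.mkQ (I • ⊤ : Submodule A M)) ∘ₗ ((Submodule.mkQ Q₀).restrictScalars A)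
  have hg : ((Q₀ ⊔ K).restrictScalars A) ≤ LinearMap.ker g := by
    intro d hd
    rw [Submodule.restrictScalars_mem] at hd
    obtain ⟨d₁, hd₁, d₂, hd₂, rfl⟩ := Submodule.mem_sup.1 hd
    rw [LinearMap.mem_ker, map_add]
    have e1 : g d₁ = 0 := by
      show Submodule.mkQ _ (Submodule.mkQ Q₀ d₁) = 0
      rw [Submodule.mkQ_apply Q₀, (Submodule.Quotient.mk_eq_zero _).2 hd₁, map_zero]
    have e2 : g d₂ = 0 := by
      show Submodule.mkQ _ (Submodule.mkQ Q₀ d₂) = 0
      rw [Submodule.mkQ_apply (I • ⊤ : Submodule A M), Submodule.Quotient.mk_eq_zero]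
      have hd₂' : d₂ ∈ (I • ⊤ : Submodule A B) := by
        rw [Ideal.smul_top_eq_map]
        exact hd₂
      have h3 := Submodule.mem_map_of_mem (f := (Submodule.mkQ Q₀).restrictScalars A) hd₂'
      rw [Submodule.map_smul''] at h3
      exact Submodule.smul_mono le_rfl le_top h3
    rw [e1, e2, add_zero]
  let ψ : B ⧸ (Q₀ ⊔ K) →ₗ[A] M ⧸ (I • ⊤ : Submodule A M) :=
    (Submodule.liftQ _ g hg) ∘ₗ
      (Submodule.Quotient.restrictScalarsEquiv A (Q₀ ⊔ K)).symm.toLinearMap
  have hψ : Function.Surjective ψ := by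
    refine Function.Surjective.comp (g := ⇑(Submodule.liftQ _ g hg)) ?_ (LinearEquiv.surjective _)
    rw [← LinearMap.range_eq_top, Submodule.range_liftQ, LinearMap.range_eq_top]
    exact (Submodule.mkQ_surjective _).comp (Submodule.mkQ_surjective _)
  haveI hfinq : Module.Finite A (M ⧸ (I • ⊤ : Submodule A M)) := Module.Finite.of_surjective ψ hψ
  have hKj : K ≤ Ideal.jacobson ⊥ := IsAdicComplete.le_jacobson_bot K
  haveI hH : IsHausdorff K M := IsHausdorff.of_le_jacobson K M hKj
  haveI : IsHausdorff I M := (IsHausdorff.map_algebraMap_iff (I := I) (M := M) (S := B)).1 hH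
  exact Groth.Agent.Lib.CompleteNoethLead.finite_of_hausdorff I M hfinq

theorem finite_quotient_prime_of_unramified (I : Ideal A)
    (hft : Algebra.FiniteType A (B ⧸ I.map (algebraMap A B)))
    [Algebra.FormallyUnramified A (B ⧸ I.map (algebraMap A B))] (y : Ideal B) [y.IsPrime]
    (hKy : I.map (algebraMap A B) ≤ y) (hmax : (y.comap (algebraMap A B)).IsMaximal) :
    Module.Finite A (B ⧸ y) := by
  letI : Field (A ⧸ y.comap (algebraMap A B)) := Ideal.Quotient.field _
  haveI : Algebra.FormallyUnramified A (B ⧸ y) :=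
    Algebra.FormallyUnramified.of_surjective (Ideal.Quotient.factorₐ A hKy)
      (Ideal.Quotient.factor_surjective hKy)
  haveI : Algebra.FiniteType A (B ⧸ y) :=
    Algebra.FiniteType.of_surjective (Ideal.Quotient.factorₐ A hKy)
      (Ideal.Quotient.factor_surjective hKy)
  haveI : IsScalarTower A (A ⧸ y.comap (algebraMap A B)) (B ⧸ y) :=
    IsScalarTower.of_algebraMap_eq (fun x => rfl)
  haveI : Algebra.FormallyUnramified (A ⧸ y.comap (algebraMap A B)) (B ⧸ y) :=
    Algebra.FormallyUnramified.of_restrictScalars A _ _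
  haveI : Algebra.EssFiniteType (A ⧸ y.comap (algebraMap A B)) (B ⧸ y) := .of_comp A _ _
  haveI : Module.Finite (A ⧸ y.comap (algebraMap A B)) (B ⧸ y) :=
    Algebra.FormallyUnramified.finite_of_free _ _
  exact Module.Finite.trans (A ⧸ y.comap (algebraMap A B)) (B ⧸ y)

theorem map_map_eq_maximalIdeal [IsNoetherianRing A] (I : Ideal A) [IsAdicComplete I A]
    [IsNoetherianRing B] [IsAdicComplete (I.map (algebraMap A B)) B]
    (hft : Algebra.FiniteType A (B ⧸ I.map (algebraMap A B)))
    [Algebra.FormallyUnramified A (B ⧸ I.map (algebraMap A B))]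
    (q : PrimeSpectrum B)
    (hp : IsRigClosed I (PrimeSpectrum.comap (algebraMap A B) q)) :
    ((PrimeSpectrum.comap (algebraMap A B) q).asIdeal.map (algebraMap A B)).map
      (algebraMap B (Localization.AtPrime q.asIdeal)) =
      IsLocalRing.maximalIdeal (Localization.AtPrime q.asIdeal) := by
  haveI := q.isPrime
  set K : Ideal B := I.map (algebraMap A B) with hK
  set p : Ideal A := (PrimeSpectrum.comap (algebraMap A B) q).asIdeal with hpdef
  haveI hpprime : p.IsPrime := (PrimeSpectrum.comap (algebraMap A B) q).isPrime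
  have hpq : p = q.asIdeal.comap (algebraMap A B) := rfl
  set P : Ideal B := p.map (algebraMap A B) with hP
  have hPq : P ≤ q.asIdeal := Ideal.map_le_iff_le_comap.2 hpq.le
  -- finiteness of `B ⧸ P`
  have hfinP : Module.Finite A (B ⧸ P) := by
    refine finite_quotient_of_finite_sup I P ?_
    refine finite_quotient_of_forall_prime A (P ⊔ K) ?_ _ le_rfl
    intro y hy hle
    haveI := hy
    haveI : (y.comap (algebraMap A B)).IsPrime := Ideal.comap_isPrime _ y
    have hKy : K ≤ y := le_sup_right.trans hle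
    have hlt : p < y.comap (algebraMap A B) := by
      refine lt_of_le_of_ne (Ideal.map_le_iff_le_comap.1 (le_sup_left.trans hle)) ?_
      intro e
      apply hp.1
      show I ≤ p
      rw [e]
      exact Ideal.map_le_iff_le_comap.1 hKy
    exact finite_quotient_prime_of_unramified I hft y hKy (isMaximal_of_lt hp _ hlt)
  -- unramifiedness of `B ⧸ P`
  have hJeq : K.map (Ideal.Quotient.mk P) = I.map (algebraMap A (B ⧸ P)) := by
    rw [hK, Ideal.map_map]
    rfl
  have hJjac : I.map (algebraMap A (B ⧸ P)) ≤ Ideal.jacobson ⊥ := by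
    rw [← hJeq, Ideal.map_le_iff_le_comap]
    refine (IsAdicComplete.le_jacobson_bot K).trans ?_
    intro x hx
    rw [Ideal.mem_comap, Ideal.mem_jacobson_bot]
    intro z
    obtain ⟨z, rfl⟩ := Ideal.Quotient.mk_surjective z
    rw [← map_mul, ← map_one (Ideal.Quotient.mk P), ← map_add]
    exact (Ideal.mem_jacobson_bot.1 hx z).map _
  haveI : Algebra.FormallyUnramified A ((B ⧸ P) ⧸ I.map (algebraMap A (B ⧸ P))) := by
    have hker : ∀ a ∈ K, ((Ideal.Quotient.mkₐ A (I.map (algebraMap A (B ⧸ P)))).comp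
        (Ideal.Quotient.mkₐ A P)) a = 0 := by
      intro a ha
      rw [AlgHom.comp_apply, Ideal.Quotient.mkₐ_eq_mk, Ideal.Quotient.mkₐ_eq_mk,
        Ideal.Quotient.eq_zero_iff_mem, ← hJeq]
      exact Ideal.mem_map_of_mem _ ha
    refine Algebra.FormallyUnramified.of_surjective (Ideal.Quotient.liftₐ K _ hker) ?_
    intro z
    obtain ⟨z, rfl⟩ := Ideal.Quotient.mk_surjective z
    obtain ⟨z, rfl⟩ := Ideal.Quotient.mk_surjective z
    exact ⟨Ideal.Quotient.mk K z, rfl⟩
  haveI : Module.Finite A (B ⧸ P) := hfinP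
  haveI hUB : Algebra.FormallyUnramified A (B ⧸ P) := formallyUnramified_of_quotient I hJjac
  -- the prime `q̄`
  set qb : Ideal (B ⧸ P) := q.asIdeal.map (Ideal.Quotient.mk P) with hqb
  haveI hqbprime : qb.IsPrime :=
    Ideal.map_isPrime_of_surjective Ideal.Quotient.mk_surjective (by rw [Ideal.mk_ker]; exact hPq)
  have hqbcomap : qb.comap (Ideal.Quotient.mk P) = q.asIdeal := by
    rw [hqb, Ideal.comap_map_of_surjective _ Ideal.Quotient.mk_surjective,
      ← RingHom.ker_eq_comap_bot, Ideal.mk_ker]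
    exact sup_eq_left.2 hPq
  haveI : qb.LiesOver p := by
    constructor
    show p = qb.comap (algebraMap A (B ⧸ P))
    have : qb.comap (algebraMap A (B ⧸ P)) = (qb.comap (Ideal.Quotient.mk P)).comap (algebraMap A B) :=
      rfl
    rw [this, hqbcomap]
    exact hpq
  letI := Localization.AtPrime.algebraOfLiesOver p qb
  haveI : Algebra.IsUnramifiedAt A qb :=
    Algebra.FormallyUnramified.comp A (B ⧸ P) (Localization.AtPrime qb)
  have h7 := ((Algebra.isUnramifiedAt_iff_map_eq A p qb).1 inferInstance).2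
  have h8 : IsLocalRing.maximalIdeal (Localization.AtPrime qb) = ⊥ := by
    rw [← h7, eq_bot_iff, Ideal.map_le_iff_le_comap]
    intro a ha
    rw [Ideal.mem_comap, Ideal.mem_bot,
      IsScalarTower.algebraMap_apply A (B ⧸ P) (Localization.AtPrime qb)]
    have h0 : algebraMap A (B ⧸ P) a = 0 :=
      Ideal.Quotient.eq_zero_iff_mem.2 (Ideal.mem_map_of_mem _ ha)
    rw [h0, map_zero]
  have hstar : ∀ x ∈ q.asIdeal, ∃ s, s ∉ q.asIdeal ∧ s * x ∈ P := by
    intro x hx
    have h9 : algebraMap (B ⧸ P) (Localization.AtPrime qb) (Ideal.Quotient.mk P x) ∈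
        IsLocalRing.maximalIdeal (Localization.AtPrime qb) := by
      rw [← Localization.AtPrime.map_eq_maximalIdeal]
      exact Ideal.mem_map_of_mem _ (Ideal.mem_map_of_mem _ hx)
    rw [h8, Ideal.mem_bot, IsLocalization.map_eq_zero_iff qb.primeCompl] at h9
    obtain ⟨⟨sb, hsb⟩, hs⟩ := h9
    obtain ⟨s, rfl⟩ := Ideal.Quotient.mk_surjective sb
    refine ⟨s, fun hsq => hsb (Ideal.mem_map_of_mem _ hsq), ?_⟩
    rw [← Ideal.Quotient.eq_zero_iff_mem, map_mul]
    exact hs
  apply le_antisymm
  · rw [← Localization.AtPrime.map_eq_maximalIdeal]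
    exact Ideal.map_mono hPq
  · rw [← Localization.AtPrime.map_eq_maximalIdeal, Ideal.map_le_iff_le_comap]
    intro x hx
    obtain ⟨s, hs, hsx⟩ := hstar x hx
    rw [Ideal.mem_comap]
    have hu : IsUnit (algebraMap B (Localization.AtPrime q.asIdeal) s) :=
      IsLocalization.map_units _ (⟨s, hs⟩ : q.asIdeal.primeCompl)
    have h10 : algebraMap B (Localization.AtPrime q.asIdeal) (s * x) ∈
        P.map (algebraMap B (Localization.AtPrime q.asIdeal)) := Ideal.mem_map_of_mem _ hsx
    rw [map_mul] at h10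
    exact (Ideal.unit_mul_mem_iff_mem _ hu).1 h10

end Main

end Groth.Agent.Lib.RigClosedH3
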