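import Mathlib
import Groth.Agent.Lib.RigClosed4_helper3

/-!
Helper lemmas (helper3): rig-closed primes, part 5 (the quotient by a rig-closed prime is a
complete local domain; a field of finite type over `A` is finite over some `A_f`).
APPEND-ONLY once landed.
-/

set_option autoImplicit false
universe u

namespace Groth.Agent.Lib.RigClosedH3

open Ideal Polynomial

section Complete

/-- a quotient of a Noetherian adically complete ring is adically complete -/
theorem isAdicComplete_quotient {R : Type*} [CommRing R] [IsNoetherianRing R] (K : Ideal R)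
    [IsAdicComplete K R] (Q : Ideal R) :
    IsAdicComplete (K.map (Ideal.Quotient.mk Q)) (R ⧸ Q) := by
  have hKj : K ≤ Ideal.jacobson ⊥ := IsAdicComplete.le_jacobson_bot K
  haveI hH : IsHausdorff K (R ⧸ Q) := IsHausdorff.of_le_jacobson K (R ⧸ Q) hKj
  haveI : IsPrecomplete K R := inferInstance
  have h1 : IsPrecomplete K (R ⧸ Q) := by
    rw [← AdicCompletion.of_surjective_iff]
    intro y
    obtain ⟨x, rfl⟩ := AdicCompletion.map_surjective K
      (f := Submodule.mkQ Q) (Submodule.mkQ_surjective Q) y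
    obtain ⟨s, rfl⟩ := AdicCompletion.of_surjective K R x
    exact ⟨Submodule.mkQ Q s, (AdicCompletion.map_of _ _ _).symm⟩
  have h2 : IsAdicComplete K (R ⧸ Q) := { toIsHausdorff := hH, toIsPrecomplete := h1 }
  exact (IsAdicComplete.map_algebraMap_iff K (R ⧸ Q)).2 h2

end Complete

section Local

/-- A Noetherian domain, complete for a nonzero ideal `J` contained in all nonzero primes, is
local. -/
theorem isLocalRing_of_complete_domain {D : Type*} [CommRing D] [IsDomain D] [IsNoetherianRing D]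
    (J : Ideal D) [IsAdicComplete J D] (hJ : J ≠ ⊥)
    (h : ∀ P : Ideal D, P.IsPrime → P ≠ ⊥ → J ≤ P) : IsLocalRing D := by
  classical
  have hmaxJ : ∀ m : Ideal D, m.IsMaximal → J ≤ m := fun m hm =>
    (IsAdicComplete.le_jacobson_bot J).trans (sInf_le ⟨bot_le, hm⟩)
  have hJtop : J ≠ ⊤ := by
    intro e
    obtain ⟨m, hm⟩ := Ideal.exists_maximal D
    exact hm.ne_top (top_le_iff.1 (e ▸ hmaxJ m hm))
  -- maximal ideals are minimal primes of `J`
  have hmin : ∀ m : Ideal D, m.IsMaximal → m ∈ J.minimalPrimes := by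
    intro m hm
    refine ⟨⟨hm.isPrime, hmaxJ m hm⟩, ?_⟩
    rintro P ⟨hP, hJP⟩ hPm
    have hP0 : P ≠ ⊥ := fun e => hJ (le_bot_iff.1 (e ▸ hJP))
    haveI := hP
    have hPmax : P.IsMaximal := isMaximal_of_forall_le J hJ h P hP0
    exact (hPmax.eq_of_le hm.ne_top hPm).ge
  have hfin : (J.minimalPrimes).Finite := Ideal.finite_minimalPrimes_of_isNoetherianRing D J
  obtain ⟨m₁, hm₁⟩ := Ideal.exists_maximal D
  apply IsLocalRing.of_unique_max_ideal
  refine ⟨m₁, hm₁, ?_⟩
  intro m₂ hm₂
  by_contra hne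
  -- the other minimal primes
  set T : Finset (Ideal D) := hfin.toFinset.erase m₁ with hT
  have hTmem : ∀ Q, Q ∈ T ↔ Q ≠ m₁ ∧ Q ∈ J.minimalPrimes := by
    intro Q
    simp [hT]
  have hTmax : ∀ Q ∈ T, Q.IsMaximal := by
    intro Q hQ
    have hQ' := ((hTmem Q).1 hQ).2
    haveI := hQ'.1.1
    have hQ0 : Q ≠ ⊥ := fun e => hJ (le_bot_iff.1 (e ▸ hQ'.1.2))
    exact isMaximal_of_forall_le J hJ h Q hQ0
  have hcop : m₁ ⊔ ⨅ Q ∈ T, Q = ⊤ := by
    apply Ideal.sup_iInf_eq_top
    intro Q hQ
    have hQmax := hTmax Q hQ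
    by_contra hcon
    have h1 : m₁ = m₁ ⊔ Q := hm₁.eq_of_le hcon le_sup_left
    have hQle : Q ≤ m₁ := h1.symm ▸ le_sup_right
    exact ((hTmem Q).1 hQ).1 (hQmax.eq_of_le hm₁.ne_top hQle)
  obtain ⟨a, ha, b, hb, hab⟩ := Submodule.mem_sup.1 ((Ideal.eq_top_iff_one _).1 hcop)
  have hm₂T : m₂ ∈ T := (hTmem m₂).2 ⟨hne, hmin m₂ hm₂⟩
  have hbm₂ : b ∈ m₂ := by
    have := (Submodule.mem_iInf _).1 hb m₂
    exact (Submodule.mem_iInf _).1 this hm₂T
  -- `a * b` lies in the radical of `J`
  have habrad : a * b ∈ J.radical := by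
    rw [← Ideal.sInf_minimalPrimes, Ideal.mem_sInf]
    intro Q hQ
    by_cases hQ1 : Q = m₁
    · rw [hQ1]
      exact Ideal.mul_mem_right _ _ ha
    · have hQT : Q ∈ T := (hTmem Q).2 ⟨hQ1, hQ⟩
      have := (Submodule.mem_iInf _).1 hb Q
      exact Ideal.mul_mem_left _ _ ((Submodule.mem_iInf _).1 this hQT)
  obtain ⟨N, hN⟩ := habrad
  -- coprime powers
  have hcopN : IsCoprime (a ^ N) (b ^ N) := by
    have : IsCoprime a b := ⟨1, 1, by rw [one_mul, one_mul, hab]⟩
    exact this.pow
  obtain ⟨u, v, huv⟩ := hcopN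
  set e₀ : D := u * a ^ N with he₀
  have h1e₀ : 1 - e₀ = v * b ^ N := by rw [he₀, ← huv]; ring
  have he₀J : e₀ * (1 - e₀) ∈ J := by
    rw [h1e₀, he₀]
    have : u * a ^ N * (v * b ^ N) = (u * v) * (a * b) ^ N := by ring
    rw [this]
    exact Ideal.mul_mem_left _ _ hN
  -- Hensel
  haveI : HenselianRing D J := inferInstance
  let p : D[X] := X ^ 2 - X
  have hpmonic : p.Monic := by
    apply Polynomial.monic_X_pow_sub
    rw [Polynomial.degree_X]
    norm_num
  have hpeval : p.eval e₀ ∈ J := by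
    have : p.eval e₀ = -(e₀ * (1 - e₀)) := by
      simp only [p, eval_sub, eval_pow, eval_X]
      ring
    rw [this]
    exact J.neg_mem he₀J
  have hpder : IsUnit (Ideal.Quotient.mk J (p.derivative.eval e₀)) := by
    have hd : p.derivative.eval e₀ = 2 * e₀ - 1 := by
      simp only [p, derivative_sub, derivative_X_pow, derivative_X, eval_sub, eval_mul, eval_pow,
        eval_X, eval_one]
      simp
    rw [hd]
    apply IsUnit.of_mul_eq_one (Ideal.Quotient.mk J (2 * e₀ - 1))
    rw [← map_mul, ← map_one (Ideal.Quotient.mk J), Ideal.Quotient.eq]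
    have : (2 * e₀ - 1) * (2 * e₀ - 1) - 1 = -(4 * (e₀ * (1 - e₀))) := by ring
    rw [this]
    exact J.neg_mem (Ideal.mul_mem_left _ _ he₀J)
  obtain ⟨e, heroot, heJ⟩ := HenselianRing.is_henselian p hpmonic e₀ hpeval hpder
  have hee : e * (e - 1) = 0 := by
    have : p.eval e = 0 := heroot
    simp only [p, eval_sub, eval_pow, eval_X] at this
    rw [← this]
    ring
  rcases mul_eq_zero.1 hee with h0 | h1
  · -- `e = 0`
    rw [h0, zero_sub] at heJ
    have he₀J' : e₀ ∈ J := by simpa using J.neg_mem heJ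
    have h1m₂ : (1 : D) ∈ m₂ := by
      have hx : 1 - e₀ ∈ m₂ := by rw [h1e₀]; exact Ideal.mul_mem_left _ _ (Ideal.pow_mem_of_mem _ hbm₂ N (by
        by_contra hN0
        have hN0' : N = 0 := by omega
        rw [hN0', pow_zero] at hN
        exact hJtop ((Ideal.eq_top_iff_one _).2 hN)))
      have : (1 : D) = (1 - e₀) + e₀ := by ring
      rw [this]
      exact m₂.add_mem hx (hmaxJ m₂ hm₂ he₀J')
    exact hm₂.ne_top ((Ideal.eq_top_iff_one _).2 h1m₂)
  · -- `e = 1`
    have he1 : e = 1 := by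
      have := sub_eq_zero.1 h1
      exact this
    rw [he1] at heJ
    have h1m₁ : (1 : D) ∈ m₁ := by
      have hx : e₀ ∈ m₁ := by rw [he₀]; exact Ideal.mul_mem_left _ _ (Ideal.pow_mem_of_mem _ ha N (by
        by_contra hN0
        have hN0' : N = 0 := by omega
        rw [hN0', pow_zero] at hN
        exact hJtop ((Ideal.eq_top_iff_one _).2 hN)))
      have : (1 : D) = (1 - e₀) + e₀ := by ring
      rw [this]
      exact m₁.add_mem (hmaxJ m₁ hm₁ heJ) hx
    exact hm₁.ne_top ((Ideal.eq_top_iff_one _).2 h1m₁)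

/-- The quotient of a complete Noetherian ring by a rig-closed prime is local. -/
theorem isLocalRing_quotient_of_rigClosed {R : Type*} [CommRing R] [IsNoetherianRing R]
    (K : Ideal R) [IsAdicComplete K R] (q : PrimeSpectrum R) (hq : IsRigClosed K q) :
    IsLocalRing (R ⧸ q.asIdeal) := by
  haveI : q.asIdeal.IsPrime := q.isPrime
  haveI := isAdicComplete_quotient K q.asIdeal
  let mk : R →+* R ⧸ q.asIdeal := Ideal.Quotient.mk q.asIdeal
  have hmk : Function.Surjective mk := Ideal.Quotient.mk_surjective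
  have hJ : K.map mk ≠ ⊥ := by
    intro e
    apply hq.1
    intro k hk
    have : mk k ∈ K.map mk := Ideal.mem_map_of_mem _ hk
    rw [e, Ideal.mem_bot, Ideal.Quotient.eq_zero_iff_mem] at this
    exact this
  refine isLocalRing_of_complete_domain (K.map mk) hJ ?_
  intro P' hP' hP'0
  rw [Ideal.map_le_iff_le_comap]
  haveI : (P'.comap mk).IsPrime := Ideal.comap_isPrime mk P'
  apply le_of_lt_of_rigClosed hq
  refine lt_of_le_of_ne ?_ ?_
  · intro a ha
    rw [Ideal.mem_comap]
    have : mk a = 0 := Ideal.Quotient.eq_zero_iff_mem.2 ha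
    rw [this]
    exact P'.zero_mem
  · intro e
    apply hP'0
    rw [← Ideal.map_comap_of_surjective mk hmk P', ← e]
    exact Ideal.map_quotient_self _

end Local

end Groth.Agent.Lib.RigClosedH3
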