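import Mathlib
import Groth.Agent.Lib.RigClosed5_helper3

/-!
Helper lemmas (helper3): rig-closed primes, part 6 (a field of finite type over `A` is finite over
some principal localization `A_f`).
APPEND-ONLY once landed.
-/

set_option autoImplicit false
universe u

namespace Groth.Agent.Lib.RigClosedH3

open Ideal Polynomial

section AT

/-- A field which is an algebra of finite type over `A` is finite over `A_f` for some `f` mapping
to a unit. -/
theorem exists_finite_away {A κ : Type*} [CommRing A] [Field κ] [Algebra A κ]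
    [hft : Algebra.FiniteType A κ] :
    ∃ f : A, ∃ hu : IsUnit (algebraMap A κ f),
      (IsLocalization.Away.lift (S := Localization.Away f) f hu).Finite := by
  classical
  -- the image domain
  let 𝔫 : Ideal A := RingHom.ker (algebraMap A κ)
  haveI h𝔫 : 𝔫.IsPrime := RingHom.ker_isPrime _
  let φ : A ⧸ 𝔫 →+* κ := RingHom.kerLift (algebraMap A κ)
  have hφ : Function.Injective φ := RingHom.kerLift_injective _
  letI : Algebra (A ⧸ 𝔫) κ := φ.toAlgebra
  haveI : IsScalarTower A (A ⧸ 𝔫) κ := IsScalarTower.of_algebraMap_eq (fun x => rfl)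
  have hinj : Function.Injective (algebraMap (A ⧸ 𝔫) κ) := hφ
  -- the fraction field
  let F := FractionRing (A ⧸ 𝔫)
  letI : Algebra F κ := (IsFractionRing.lift hinj).toAlgebra
  haveI : IsScalarTower (A ⧸ 𝔫) F κ :=
    IsScalarTower.of_algebraMap_eq (fun x => (IsFractionRing.lift_algebraMap hinj x).symm)
  haveI : IsScalarTower A F κ := by
    refine IsScalarTower.of_algebraMap_eq (fun x => ?_)
    rw [IsScalarTower.algebraMap_apply A (A ⧸ 𝔫) F, ← IsScalarTower.algebraMap_apply (A ⧸ 𝔫) F κ,
      ← IsScalarTower.algebraMap_apply A (A ⧸ 𝔫) κ]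
  haveI : Algebra.FiniteType F κ := Algebra.FiniteType.of_restrictScalars_finiteType A F κ
  haveI : Module.Finite F κ := finite_of_finite_type_of_isJacobsonRing F κ
  haveI : Algebra.IsAlgebraic F κ := Algebra.IsAlgebraic.of_finite F κ
  haveI : Algebra.IsAlgebraic (A ⧸ 𝔫) κ := IsFractionRing.comap_isAlgebraic_iff.2 ‹_›
  obtain ⟨s, hs⟩ := hft.out
  obtain ⟨y, hy0, hyint⟩ := Algebra.IsAlgebraic.exists_integral_multiples (A ⧸ 𝔫) s
  obtain ⟨f, rfl⟩ := Ideal.Quotient.mk_surjective y
  have hfne : algebraMap A κ f ≠ 0 := by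
    intro h0
    apply hy0
    apply hφ
    rw [map_zero]
    exact h0
  have hu : IsUnit (algebraMap A κ f) := isUnit_iff_ne_zero.2 hfne
  refine ⟨f, hu, ?_⟩
  set ψ : Localization.Away f →+* κ := IsLocalization.Away.lift (S := Localization.Away f) f hu
    with hψ
  letI : Algebra (Localization.Away f) κ := ψ.toAlgebra
  haveI : IsScalarTower A (Localization.Away f) κ :=
    IsScalarTower.of_algebraMap_eq (fun x => (IsLocalization.Away.lift_eq f hu x).symm)
  change Module.Finite (Localization.Away f) κ
  haveI : Algebra.IsIntegral A (A ⧸ 𝔫) :=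
    Algebra.isIntegral_of_surjective Ideal.Quotient.mk_surjective
  have hint : ∀ z ∈ (s : Set κ), IsIntegral (Localization.Away f) z := by
    intro z hz
    have h1 : IsIntegral (A ⧸ 𝔫) ((Ideal.Quotient.mk 𝔫 f) • z) := hyint z hz
    have h2 : IsIntegral A ((Ideal.Quotient.mk 𝔫 f) • z) := isIntegral_trans _ h1
    have h3 : IsIntegral (Localization.Away f) ((Ideal.Quotient.mk 𝔫 f) • z) := h2.tower_top
    have h4 : (Ideal.Quotient.mk 𝔫 f) • z = algebraMap A κ f * z := by
      rw [Algebra.smul_def]
      rfl
    have h5 : z = algebraMap (Localization.Away f) κ (IsLocalization.Away.invSelf f) *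
        ((Ideal.Quotient.mk 𝔫 f) • z) := by
      rw [h4, ← mul_assoc, IsScalarTower.algebraMap_apply A (Localization.Away f) κ, ← map_mul,
        mul_comm (IsLocalization.Away.invSelf f), IsLocalization.Away.mul_invSelf, map_one, one_mul]
    rw [h5]
    exact IsIntegral.mul isIntegral_algebraMap h3
  have hfg := fg_adjoin_of_finite (R := Localization.Away f) s.finite_toSet hint
  have htop : Algebra.adjoin (Localization.Away f) (s : Set κ) = ⊤ := by
    rw [eq_top_iff]
    intro x _
    have hx : x ∈ Algebra.adjoin A (s : Set κ) := by rw [hs]; trivial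
    have hle : Algebra.adjoin A (s : Set κ) ≤
        (Algebra.adjoin (Localization.Away f) (s : Set κ)).restrictScalars A :=
      Algebra.adjoin_le (fun z hz => Algebra.subset_adjoin hz)
    exact hle hx
  rw [htop] at hfg
  exact ⟨by simpa using hfg⟩

end AT

end Groth.Agent.Lib.RigClosedH3
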