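import Mathlib
import Groth.Agent.Lib.RigClosed6_helper3
import Groth.Agent.Lib.FSAdicCompl_helper3
import Groth.Agent.Lib.ComplReg_helper3

/-!
Helper lemmas (helper3): rig-closed primes, part 7 (extending a ring map to the adic completion of
the source when the target is complete; its kernel).
APPEND-ONLY once landed.
-/

set_option autoImplicit false
universe u

namespace Groth.Agent.Lib.RigClosedH3

open Ideal

section Theta
variable {S D : Type*} [CommRing S] [CommRing D] (J : Ideal S) (θ₀ : S →+* D)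

theorem pow_le_comap_map_pow (n : ℕ) : J ^ n ≤ ((J.map θ₀) ^ n).comap θ₀ := by
  rw [← Ideal.map_le_iff_le_comap, Ideal.map_pow]

/-- stage maps -/
noncomputable def thetaStage (n : ℕ) : AdicCompletion J S →+* D ⧸ (J.map θ₀) ^ n :=
  (Ideal.quotientMap ((J.map θ₀) ^ n) θ₀ (pow_le_comap_map_pow J θ₀ n)).comp
    (AdicCompletion.evalₐ J n).toRingHom

theorem thetaStage_mk (n : ℕ) (a : AdicCompletion.AdicCauchySequence J S) :
    thetaStage J θ₀ n (AdicCompletion.mk J S a) = Ideal.Quotient.mk _ (θ₀ (a.val n)) := by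
  unfold thetaStage
  rw [RingHom.comp_apply]
  have h1 : (AdicCompletion.evalₐ J n).toRingHom (AdicCompletion.mk J S a) =
      Ideal.Quotient.mk (J ^ n) (a.val n) := AdicCompletion.evalₐ_mk J n a
  rw [h1, Ideal.quotientMap_mk]

theorem thetaStage_of (n : ℕ) (s : S) :
    thetaStage J θ₀ n (algebraMap S (AdicCompletion J S) s) = Ideal.Quotient.mk _ (θ₀ s) := by
  unfold thetaStage
  rw [RingHom.comp_apply]
  have h1 : (AdicCompletion.evalₐ J n).toRingHom (algebraMap S (AdicCompletion J S) s) =
      Ideal.Quotient.mk (J ^ n) s := AdicCompletion.evalₐ_of J n s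
  rw [h1, Ideal.quotientMap_mk]

theorem thetaStage_compat {m n : ℕ} (hle : m ≤ n) :
    (Ideal.Quotient.factorPow (J.map θ₀) hle).comp (thetaStage J θ₀ n) = thetaStage J θ₀ m := by
  refine RingHom.ext fun x => ?_
  obtain ⟨a, rfl⟩ := AdicCompletion.mk_surjective J S x
  rw [RingHom.comp_apply, thetaStage_mk, thetaStage_mk]
  show Ideal.Quotient.factor _ (Ideal.Quotient.mk _ _) = _
  rw [Ideal.Quotient.factor_mk, Ideal.Quotient.eq, ← map_sub]
  apply pow_le_comap_map_pow J θ₀ m
  rw [← Ideal.Quotient.eq]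
  exact AdicCompletion.Ideal.mk_eq_mk J hle a

variable [IsAdicComplete (J.map θ₀) D]

/-- the extension of `θ₀` to the completion -/
noncomputable def theta : AdicCompletion J S →+* D :=
  IsAdicComplete.liftRingHom (J.map θ₀) (thetaStage J θ₀) (thetaStage_compat J θ₀)

theorem mk_theta (n : ℕ) (x : AdicCompletion J S) :
    Ideal.Quotient.mk ((J.map θ₀) ^ n) (theta J θ₀ x) = thetaStage J θ₀ n x :=
  IsAdicComplete.mk_liftRingHom _ _ _ n x

theorem theta_of (s : S) : theta J θ₀ (algebraMap S (AdicCompletion J S) s) = θ₀ s := by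
  have hH : IsHausdorff (J.map θ₀) D := inferInstance
  rw [← sub_eq_zero]
  apply hH.haus'
  intro n
  rw [SModEq.zero, smul_eq_mul, Ideal.mul_top, ← Ideal.Quotient.eq, mk_theta, thetaStage_of]

theorem theta_comp : (theta J θ₀).comp (algebraMap S (AdicCompletion J S)) = θ₀ :=
  RingHom.ext (theta_of J θ₀)

theorem theta_surjective (h : Function.Surjective θ₀) : Function.Surjective (theta J θ₀) := by
  intro d
  obtain ⟨s, rfl⟩ := h d
  exact ⟨_, theta_of J θ₀ s⟩

/-- the kernel of the extension -/
theorem ker_theta [IsNoetherianRing S] (h : Function.Surjective θ₀) :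
    RingHom.ker (theta J θ₀) = (RingHom.ker θ₀).map (algebraMap S (AdicCompletion J S)) := by
  have fg : J.FG := IsNoetherian.noetherian J
  haveI : IsNoetherianRing (AdicCompletion J S) :=
    Groth.Agent.Lib.ComplRegH3.isNoetherianRing_adicCompletion S J
  haveI := AdicCompletion.isAdicComplete_self J fg
  set S' := AdicCompletion J S
  set J' : Ideal S' := J.map (algebraMap S S') with hJ'
  set Q : Ideal S' := (RingHom.ker θ₀).map (algebraMap S S') with hQ
  apply le_antisymm
  · intro x hx
    rw [RingHom.mem_ker] at hx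
    have hstep : ∀ n : ℕ, x ∈ Q ⊔ J' ^ n := by
      intro n
      obtain ⟨s, hs⟩ := Ideal.Quotient.mk_surjective (AdicCompletion.evalₐ J n x)
      have h1 : thetaStage J θ₀ n x = Ideal.Quotient.mk _ (θ₀ s) := by
        unfold thetaStage
        rw [RingHom.comp_apply]
        have : (AdicCompletion.evalₐ J n).toRingHom x = Ideal.Quotient.mk (J ^ n) s := hs.symm
        rw [this, Ideal.quotientMap_mk]
      have h2 : θ₀ s ∈ (J.map θ₀) ^ n := by
        rw [← Ideal.Quotient.eq_zero_iff_mem, ← h1, ← mk_theta, hx, map_zero]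
      rw [← Ideal.map_pow] at h2
      obtain ⟨t, ht, hts⟩ := (Ideal.mem_map_iff_of_surjective θ₀ h).1 h2
      have h3 : s - t ∈ RingHom.ker θ₀ := by
        rw [RingHom.mem_ker, map_sub, hts, sub_self]
      have h4 : x - algebraMap S S' s ∈ J' ^ n := by
        rw [hJ', ← Ideal.map_pow]
        apply Groth.Agent.Lib.FSAdicComplH3.ker_evalₐ_le_map_pow J fg n
        rw [RingHom.mem_ker, map_sub]
        have e1 : (AdicCompletion.evalₐ J n).toRingHom x = Ideal.Quotient.mk (J ^ n) s := hs.symm
        have e2 : (AdicCompletion.evalₐ J n).toRingHom (algebraMap S S' s) =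
            Ideal.Quotient.mk (J ^ n) s := AdicCompletion.evalₐ_of J n s
        rw [e1, e2, sub_self]
      have h5 : algebraMap S S' t ∈ J' ^ n := by
        rw [hJ', ← Ideal.map_pow]
        exact Ideal.mem_map_of_mem _ ht
      have e : x = algebraMap S S' (s - t) + (algebraMap S S' t + (x - algebraMap S S' s)) := by
        rw [map_sub]; ring
      rw [e]
      exact Submodule.add_mem_sup (Ideal.mem_map_of_mem _ h3) (Ideal.add_mem _ h5 h4)
    have hJ'jac : J' ≤ Ideal.jacobson ⊥ := IsAdicComplete.le_jacobson_bot J'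
    haveI hH : IsHausdorff J' (S' ⧸ Q) := IsHausdorff.of_le_jacobson J' (S' ⧸ Q) hJ'jac
    have h0 : Ideal.Quotient.mk Q x = 0 := by
      apply hH.haus'
      intro n
      rw [SModEq.zero]
      obtain ⟨y, hy, z, hz, hyz⟩ := Submodule.mem_sup.1 (hstep n)
      have e : Ideal.Quotient.mk Q x = z • (Ideal.Quotient.mk Q 1 : S' ⧸ Q) := by
        rw [← hyz, map_add, Ideal.Quotient.eq_zero_iff_mem.2 hy, zero_add]
        show _ = Ideal.Quotient.mk Q (z * 1)
        rw [mul_one]
      rw [e]
      exact Submodule.smul_mem_smul hz Submodule.mem_top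
    exact Ideal.Quotient.eq_zero_iff_mem.1 h0
  · rw [hQ, Ideal.map_le_iff_le_comap]
    intro s hs
    rw [Ideal.mem_comap, RingHom.mem_ker, theta_of]
    exact hs

end Theta

end Groth.Agent.Lib.RigClosedH3
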