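import Mathlib
import Groth.Agent.Lib.RigClosed7_helper3

/-!
Helper lemmas (helper3): rig-closed primes, part 8 (after a completed principal localization the
contraction of a rig-closed prime becomes rig-closed).
APPEND-ONLY once landed.
-/

set_option autoImplicit false
universe u

namespace Groth.Agent.Lib.RigClosedH3

open Ideal

section FQ

theorem finite_quotient_smul_top {R S : Type*} [CommRing R] [CommRing S] [Algebra R S]
    (J : Ideal R) (h : Module.Finite R (S ⧸ J.map (algebraMap R S))) :
    Module.Finite R (S ⧸ (J • ⊤ : Submodule R S)) := by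
  have e1 : (J • ⊤ : Submodule R S) = (J.map (algebraMap R S)).restrictScalars R :=
    Ideal.smul_top_eq_map J
  let e := (Submodule.quotEquivOfEq _ _ e1).trans
    (Submodule.Quotient.restrictScalarsEquiv R (J.map (algebraMap R S)))
  exact Module.Finite.equiv e.symm

theorem map_le_of_ne_bot {R : Type*} [CommRing R] {K : Ideal R} {q : PrimeSpectrum R}
    (hq : IsRigClosed K q) (P' : Ideal (R ⧸ q.asIdeal)) [P'.IsPrime] (hP'0 : P' ≠ ⊥) :
    K.map (Ideal.Quotient.mk q.asIdeal) ≤ P' := by
  let mk : R →+* R ⧸ q.asIdeal := Ideal.Quotient.mk q.asIdeal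
  have hmk : Function.Surjective mk := Ideal.Quotient.mk_surjective
  rw [Ideal.map_le_iff_le_comap]
  haveI : (P'.comap mk).IsPrime := Ideal.comap_isPrime mk P'
  apply le_of_lt_of_rigClosed hq
  refine lt_of_le_of_ne ?_ ?_
  · intro a ha
    rw [Ideal.mem_comap]
    have : mk a = 0 := Ideal.Quotient.eq_zero_iff_mem.2 ha
    rw [this]
    exact P'.zero_mem
  · intro e
    apply hP'0
    rw [← Ideal.map_comap_of_surjective mk hmk P', ← e]
    exact Ideal.map_quotient_self _

theorem map_ne_bot {R : Type*} [CommRing R] {K : Ideal R} {q : PrimeSpectrum R}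
    (hq : IsRigClosed K q) : K.map (Ideal.Quotient.mk q.asIdeal) ≠ ⊥ := by
  intro e
  apply hq.1
  intro k hk
  have : Ideal.Quotient.mk q.asIdeal k ∈ K.map (Ideal.Quotient.mk q.asIdeal) :=
    Ideal.mem_map_of_mem _ hk
  rw [e, Ideal.mem_bot, Ideal.Quotient.eq_zero_iff_mem] at this
  exact this

end FQ

section AwayKer

theorem ker_away_lift {B D : Type*} [CommRing B] [CommRing D] (g : B) (Q : Ideal B)
    (π : B →+* D) (hπ : RingHom.ker π = Q) (hu : IsUnit (π g)) :
    RingHom.ker (IsLocalization.Away.lift (S := Localization.Away g) g hu) =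
      Q.map (algebraMap B (Localization.Away g)) := by
  apply le_antisymm
  · intro x hx
    rw [RingHom.mem_ker] at hx
    obtain ⟨n, b, hb⟩ := IsLocalization.Away.surj g x
    have h1 : π b = 0 := by
      have := congrArg (IsLocalization.Away.lift (S := Localization.Away g) g hu) hb
      rw [map_mul, hx, zero_mul, IsLocalization.Away.lift_eq] at this
      exact this.symm
    have hbQ : b ∈ Q := by rw [← hπ]; exact h1
    have h2 : x = algebraMap B (Localization.Away g) b *
        (IsLocalization.Away.invSelf (S := Localization.Away g) g) ^ n := by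
      rw [← hb, mul_assoc, ← mul_pow, IsLocalization.Away.mul_invSelf, one_pow, mul_one]
    rw [h2]
    exact Ideal.mul_mem_right _ _ (Ideal.mem_map_of_mem _ hbQ)
  · rw [Ideal.map_le_iff_le_comap]
    intro b hb
    rw [Ideal.mem_comap, RingHom.mem_ker, IsLocalization.Away.lift_eq]
    rw [← hπ] at hb
    exact hb

end AwayKer

section Main
variable {A B : Type u} [CommRing A] [CommRing B] [Algebra A B]

set_option maxHeartbeats 800000 in
theorem exists_away_rigClosed [IsNoetherianRing A] (I : Ideal A) [IsAdicComplete I A]
    [IsNoetherianRing B] [IsAdicComplete (I.map (algebraMap A B)) B]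
    (hft : Algebra.FiniteType A (B ⧸ (I.map (algebraMap A B)))) (q : PrimeSpectrum B)
    (hq : IsRigClosed (I.map (algebraMap A B)) q) :
    ∃ f : A, IsUnit (Ideal.Quotient.mk q.asIdeal (algebraMap A B f)) ∧
      ∀ ψ : (AdicCompletion (I.map (algebraMap A (Localization.Away f))) (Localization.Away f)) →+*
        (AdicCompletion ((I.map (algebraMap A B)).map
          (algebraMap B (Localization.Away (algebraMap A B f))))
          (Localization.Away (algebraMap A B f))),
        ψ.comp (algebraMap (Localization.Away f)
          (AdicCompletion (I.map (algebraMap A (Localization.Away f))) (Localization.Away f))) =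
        (algebraMap (Localization.Away (algebraMap A B f))
          (AdicCompletion ((I.map (algebraMap A B)).map
            (algebraMap B (Localization.Away (algebraMap A B f))))
            (Localization.Away (algebraMap A B f)))).comp
          (Localization.awayMap (algebraMap A B) f) →
        (((q.asIdeal.map (algebraMap B (AdicCompletion ((I.map (algebraMap A B)).map
          (algebraMap B (Localization.Away (algebraMap A B f))))
          (Localization.Away (algebraMap A B f))))).comap ψ).IsPrime ∧
        ¬ (I.map (algebraMap A (AdicCompletion (I.map (algebraMap A (Localization.Away f)))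
          (Localization.Away f)))) ≤
          ((q.asIdeal.map (algebraMap B (AdicCompletion ((I.map (algebraMap A B)).map
            (algebraMap B (Localization.Away (algebraMap A B f))))
            (Localization.Away (algebraMap A B f))))).comap ψ) ∧
        ∀ y : PrimeSpectrum (AdicCompletion (I.map (algebraMap A (Localization.Away f)))
          (Localization.Away f)),
          ((q.asIdeal.map (algebraMap B (AdicCompletion ((I.map (algebraMap A B)).map
            (algebraMap B (Localization.Away (algebraMap A B f))))
            (Localization.Away (algebraMap A B f))))).comap ψ) ≤ y.asIdeal →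
          ¬ (I.map (algebraMap A (AdicCompletion (I.map (algebraMap A (Localization.Away f)))
            (Localization.Away f)))) ≤ y.asIdeal →
          y.asIdeal = ((q.asIdeal.map (algebraMap B (AdicCompletion ((I.map (algebraMap A B)).map
            (algebraMap B (Localization.Away (algebraMap A B f))))
            (Localization.Away (algebraMap A B f))))).comap ψ)) := by
  classical
  haveI := q.isPrime
  set K : Ideal B := I.map (algebraMap A B) with hK
  haveI hDloc : IsLocalRing (B ⧸ q.asIdeal) := isLocalRing_quotient_of_rigClosed K q hq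
  haveI hDcompl : IsAdicComplete (K.map (Ideal.Quotient.mk q.asIdeal)) (B ⧸ q.asIdeal) :=
    isAdicComplete_quotient K q.asIdeal
  set JD : Ideal (B ⧸ q.asIdeal) := K.map (Ideal.Quotient.mk q.asIdeal) with hJD
  have hJDne : JD ≠ ⊥ := map_ne_bot hq
  have hJDle : JD ≤ IsLocalRing.maximalIdeal (B ⧸ q.asIdeal) :=
    (IsAdicComplete.le_jacobson_bot JD).trans
      (sInf_le ⟨bot_le, IsLocalRing.maximalIdeal.isMaximal _⟩)
  have hJDeq : JD = I.map (algebraMap A (B ⧸ q.asIdeal)) := by
    rw [hJD, hK, Ideal.map_map]
    rfl
  -- the residue field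
  let κ := (B ⧸ q.asIdeal) ⧸ IsLocalRing.maximalIdeal (B ⧸ q.asIdeal)
  letI : Field κ := Ideal.Quotient.field _
  have hKker : ∀ a ∈ K, ((IsScalarTower.toAlgHom A (B ⧸ q.asIdeal) κ).comp
      (Ideal.Quotient.mkₐ A q.asIdeal)) a = 0 := by
    intro a ha
    rw [AlgHom.comp_apply, Ideal.Quotient.mkₐ_eq_mk]
    show Ideal.Quotient.mk _ (Ideal.Quotient.mk q.asIdeal a) = 0
    rw [Ideal.Quotient.eq_zero_iff_mem]
    exact hJDle (Ideal.mem_map_of_mem _ ha)
  haveI hftκ : Algebra.FiniteType A κ := by
    refine Algebra.FiniteType.of_surjective (Ideal.Quotient.liftₐ K _ hKker) ?_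
    intro z
    obtain ⟨z, rfl⟩ := Ideal.Quotient.mk_surjective z
    obtain ⟨z, rfl⟩ := Ideal.Quotient.mk_surjective z
    exact ⟨Ideal.Quotient.mk K z, rfl⟩
  obtain ⟨f, hu, hfin⟩ := exists_finite_away (A := A) (κ := κ)
  have hfD : IsUnit (Ideal.Quotient.mk q.asIdeal (algebraMap A B f)) := by
    rw [← IsLocalRing.notMem_maximalIdeal]
    intro hmem
    have : algebraMap A κ f = 0 := by
      show Ideal.Quotient.mk _ (Ideal.Quotient.mk q.asIdeal (algebraMap A B f)) = 0
      exact Ideal.Quotient.eq_zero_iff_mem.2 hmem
    rw [this] at hu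
    exact not_isUnit_zero hu
  refine ⟨f, hfD, ?_⟩
  -- notation
  set g : B := algebraMap A B f with hg
  set Jf : Ideal (Localization.Away g) := K.map (algebraMap B (Localization.Away g)) with hJf
  set If : Ideal (Localization.Away f) := I.map (algebraMap A (Localization.Away f)) with hIf
  intro ψ hψ
  -- the map `θ₀`
  let θ₀ : Localization.Away g →+* B ⧸ q.asIdeal :=
    IsLocalization.Away.lift (S := Localization.Away g) g hfD
  have hθ₀comp : θ₀.comp (algebraMap B (Localization.Away g)) = Ideal.Quotient.mk q.asIdeal :=
    IsLocalization.Away.lift_comp g hfD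
  have hθ₀eq : ∀ b, θ₀ (algebraMap B (Localization.Away g) b) = Ideal.Quotient.mk q.asIdeal b :=
    fun b => IsLocalization.Away.lift_eq g hfD b
  have hJfmap : Jf.map θ₀ = JD := by
    rw [hJf, Ideal.map_map, hθ₀comp]
  haveI : IsAdicComplete (Jf.map θ₀) (B ⧸ q.asIdeal) := by
    rw [hJfmap]
    exact hDcompl
  have hθ₀surj : Function.Surjective θ₀ := by
    intro d
    obtain ⟨b, rfl⟩ := Ideal.Quotient.mk_surjective d
    exact ⟨_, hθ₀eq b⟩
  have hkerθ₀ : RingHom.ker θ₀ = q.asIdeal.map (algebraMap B (Localization.Away g)) :=
    ker_away_lift g q.asIdeal (Ideal.Quotient.mk q.asIdeal) Ideal.mk_ker hfD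
  let θ : AdicCompletion Jf (Localization.Away g) →+* B ⧸ q.asIdeal := theta Jf θ₀
  have hθof : ∀ s, θ (algebraMap (Localization.Away g) (AdicCompletion Jf (Localization.Away g)) s)
      = θ₀ s := theta_of Jf θ₀
  have hkerθ : RingHom.ker θ =
      q.asIdeal.map (algebraMap B (AdicCompletion Jf (Localization.Away g))) := by
    have h1 := ker_theta Jf θ₀ hθ₀surj
    rw [hkerθ₀, Ideal.map_map] at h1
    exact h1
  -- the algebra structure
  letI algA'D : Algebra (AdicCompletion If (Localization.Away f)) (B ⧸ q.asIdeal) :=
    (θ.comp ψ).toAlgebra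
  have halg : ∀ a : A, algebraMap (AdicCompletion If (Localization.Away f)) (B ⧸ q.asIdeal)
      (algebraMap A (AdicCompletion If (Localization.Away f)) a) =
      algebraMap A (B ⧸ q.asIdeal) a := by
    intro a
    show θ (ψ (algebraMap (Localization.Away f) (AdicCompletion If (Localization.Away f))
      (algebraMap A (Localization.Away f) a))) = _
    have h1 := congrArg (fun φ => φ (algebraMap A (Localization.Away f) a)) hψ
    simp only [RingHom.comp_apply] at h1
    rw [h1]
    have h2 : Localization.awayMap (algebraMap A B) f (algebraMap A (Localization.Away f) a) =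
        algebraMap B (Localization.Away g) (algebraMap A B a) := by
      simp only [Localization.awayMap, IsLocalization.Away.map, IsLocalization.map_eq]
      rfl
    rw [h2, hθof, hθ₀eq]
    rfl
  haveI : IsScalarTower A (AdicCompletion If (Localization.Away f)) (B ⧸ q.asIdeal) :=
    IsScalarTower.of_algebraMap_eq (fun a => (halg a).symm)
  have hp' : (q.asIdeal.map (algebraMap B (AdicCompletion Jf (Localization.Away g)))).comap ψ =
      RingHom.ker (algebraMap (AdicCompletion If (Localization.Away f)) (B ⧸ q.asIdeal)) := by
    rw [← hkerθ]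
    rfl
  rw [hp']
  set IA' : Ideal (AdicCompletion If (Localization.Away f)) :=
    I.map (algebraMap A (AdicCompletion If (Localization.Away f))) with hIA'
  have hIA'map : IA'.map (algebraMap (AdicCompletion If (Localization.Away f)) (B ⧸ q.asIdeal))
      = JD := by
    rw [hIA', Ideal.map_map, hJDeq]
    congr 1
    exact RingHom.ext halg
  -- finiteness
  have fgIf : If.FG := IsNoetherian.noetherian If
  haveI hA'compl : IsAdicComplete IA' (AdicCompletion If (Localization.Away f)) := by
    have h1 := AdicCompletion.isAdicComplete_self If fgIf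
    have h2 : If.map (algebraMap (Localization.Away f) (AdicCompletion If (Localization.Away f)))
        = IA' := by
      show (I.map (algebraMap A (Localization.Away f))).map _ = _
      rw [Ideal.map_map]
      rfl
    rw [h2] at h1
    exact h1
  haveI hHausK : IsHausdorff K (B ⧸ q.asIdeal) :=
    IsHausdorff.of_le_jacobson K (B ⧸ q.asIdeal) (IsAdicComplete.le_jacobson_bot K)
  haveI hHausI : IsHausdorff I (B ⧸ q.asIdeal) :=
    (IsHausdorff.map_algebraMap_iff (I := I) (M := B ⧸ q.asIdeal) (S := B)).1 hHausK
  haveI hHausIA' : IsHausdorff IA' (B ⧸ q.asIdeal) :=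
    (IsHausdorff.map_algebraMap_iff (I := I) (M := B ⧸ q.asIdeal)
      (S := AdicCompletion If (Localization.Away f))).2 hHausI
  have hfinκ : Module.Finite (AdicCompletion If (Localization.Away f)) κ := by
    letI : Algebra (Localization.Away f) κ :=
      (IsLocalization.Away.lift (S := Localization.Away f) f hu).toAlgebra
    haveI : Module.Finite (Localization.Away f) κ := hfin
    haveI : IsScalarTower (Localization.Away f) (AdicCompletion If (Localization.Away f)) κ := by
      refine IsScalarTower.of_algebraMap_eq' ?_
      apply IsLocalization.ringHom_ext (Submonoid.powers f)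
      refine RingHom.ext fun a => ?_
      rw [RingHom.comp_apply, RingHom.comp_apply, RingHom.comp_apply]
      have e1 : algebraMap (Localization.Away f) κ (algebraMap A (Localization.Away f) a) =
          algebraMap A κ a := IsLocalization.Away.lift_eq f hu a
      rw [e1]
      show _ = Ideal.Quotient.mk _
        (algebraMap (AdicCompletion If (Localization.Away f)) (B ⧸ q.asIdeal)
          (algebraMap A (AdicCompletion If (Localization.Away f)) a))
      rw [halg]
      rfl
    exact Module.Finite.of_restrictScalars_finite (Localization.Away f) _ κ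
  have hfinJD : Module.Finite (AdicCompletion If (Localization.Away f))
      ((B ⧸ q.asIdeal) ⧸ JD) := by
    refine finite_quotient_of_forall_prime (AdicCompletion If (Localization.Away f)) JD ?_ JD le_rfl
    intro P hP hle
    haveI := hP
    have hP0 : P ≠ ⊥ := fun e => hJDne (le_bot_iff.1 (e ▸ hle))
    have hPmax : P.IsMaximal :=
      isMaximal_of_forall_le JD hJDne (fun P' hP' h0 => by haveI := hP'; exact map_le_of_ne_bot hq P' h0) P hP0
    have hPeq : P = IsLocalRing.maximalIdeal (B ⧸ q.asIdeal) := IsLocalRing.eq_maximalIdeal hPmax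
    rw [hPeq]
    exact hfinκ
  have hfinD : Module.Finite (AdicCompletion If (Localization.Away f)) (B ⧸ q.asIdeal) := by
    refine Groth.Agent.Lib.CompleteNoethLead.finite_of_hausdorff IA' (B ⧸ q.asIdeal) ?_
    apply finite_quotient_smul_top
    rw [hIA'map]
    exact hfinJD
  haveI : Algebra.IsIntegral (AdicCompletion If (Localization.Away f)) (B ⧸ q.asIdeal) :=
    Algebra.IsIntegral.of_finite _ _
  refine ⟨RingHom.ker_isPrime _, ?_, ?_⟩
  · intro hle
    apply hq.1
    rw [Ideal.map_le_iff_le_comap]
    intro i hi
    have h1 : algebraMap A (AdicCompletion If (Localization.Away f)) i ∈ IA' :=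
      Ideal.mem_map_of_mem _ hi
    have h2 := hle h1
    rw [RingHom.mem_ker, halg] at h2
    rw [Ideal.mem_comap]
    exact Ideal.Quotient.eq_zero_iff_mem.1 h2
  · intro y hy hIy
    haveI := y.isPrime
    have hker : (⊥ : Ideal (B ⧸ q.asIdeal)).comap
        (algebraMap (AdicCompletion If (Localization.Away f)) (B ⧸ q.asIdeal)) ≤ y.asIdeal := by
      intro a ha
      rw [Ideal.mem_comap, Ideal.mem_bot] at ha
      exact hy ha
    obtain ⟨Q, -, hQ, hQy⟩ := Ideal.exists_ideal_over_prime_of_isIntegral y.asIdeal
      (⊥ : Ideal (B ⧸ q.asIdeal)) hker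
    haveI := hQ
    have hQ0 : Q = ⊥ := by
      by_contra hne
      apply hIy
      have hJQ : JD ≤ Q := map_le_of_ne_bot hq Q hne
      rw [← hQy, Ideal.map_le_iff_le_comap]
      intro i hi
      rw [Ideal.mem_comap, Ideal.mem_comap, halg]
      apply hJQ
      rw [hJDeq]
      exact Ideal.mem_map_of_mem _ hi
    rw [← hQy, hQ0]
    rfl

end Main

end Groth.Agent.Lib.RigClosedH3
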