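import Mathlib
import Groth.Agent.Lib.RigClosed8_helper3
import Groth.Agent.Lib.LocalCrit3_helper9

/-!
Helper lemmas (helper3): rig-closed primes, part 9 (generic lemmas for transferring flatness to a
completed principal localization: tensoring over a ring vs. over a ring surjecting onto a quotient,
the local criterion of flatness in "transfer" form, units and integral extensions).
APPEND-ONLY once landed.
-/

set_option autoImplicit false
universe u

namespace Groth.Agent.Lib.RigClosedH3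

open Ideal TensorProduct

section LemmaF

variable {R₁ R₂ : Type*} [CommRing R₁] [CommRing R₂] [Algebra R₁ R₂]
  (M : Type*) [AddCommGroup M] [Module R₂ M] [Module R₁ M] [IsScalarTower R₁ R₂ M]
  (J : Ideal R₂) (𝔞 : Ideal R₁)

theorem tmul_smul_eq_zero_of_mem (hJ : J = 𝔞.map (algebraMap R₁ R₂)) (j : R₂) (hj : j ∈ J) :
    ∀ (c : R₂ ⧸ J) (m : M), c ⊗ₜ[R₁] (j • m) = 0 := by
  have hj' : j ∈ Ideal.span ((algebraMap R₁ R₂) '' (𝔞 : Set R₁)) := by
    rw [hJ] at hj
    exact hj
  refine Submodule.span_induction (p := fun j _ => ∀ (c : R₂ ⧸ J) (m : M), c ⊗ₜ[R₁] (j • m) = 0)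
    ?_ ?_ ?_ ?_ hj'
  · rintro x ⟨a, ha, rfl⟩ c m
    rw [algebraMap_smul, ← TensorProduct.smul_tmul]
    have h0 : a • c = 0 := by
      obtain ⟨c₀, rfl⟩ := Ideal.Quotient.mk_surjective c
      have e : a • (Ideal.Quotient.mk J c₀) = Ideal.Quotient.mk J (algebraMap R₁ R₂ a * c₀) := by
        rw [← algebraMap_smul R₂ a (Ideal.Quotient.mk J c₀)]
        rfl
      rw [e]
      apply Ideal.Quotient.eq_zero_iff_mem.2
      apply Ideal.mul_mem_right
      rw [hJ]
      exact Ideal.mem_map_of_mem _ ha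
    rw [h0, TensorProduct.zero_tmul]
  · intro c m
    rw [zero_smul, TensorProduct.tmul_zero]
  · intro x y _ _ hx hy c m
    rw [add_smul, TensorProduct.tmul_add, hx, hy, add_zero]
  · intro r x _ hx c m
    rw [smul_eq_mul, mul_comm, mul_smul]
    exact hx c (r • m)

theorem compatibleSMul_quot (hJ : J = 𝔞.map (algebraMap R₁ R₂))
    (hsurj : ∀ x : R₂, ∃ a : R₁, x - algebraMap R₁ R₂ a ∈ J) :
    TensorProduct.CompatibleSMul R₁ R₂ (R₂ ⧸ J) M where
  smul_tmul r c m := by
    obtain ⟨a, ha⟩ := hsurj r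
    obtain ⟨j, hj⟩ : ∃ j, j = r - algebraMap R₁ R₂ a := ⟨_, rfl⟩
    rw [← hj] at ha
    have hr : r = algebraMap R₁ R₂ a + j := by rw [hj]; ring
    subst hr
    have h1 : j • c = 0 := by
      obtain ⟨c₀, rfl⟩ := Ideal.Quotient.mk_surjective c
      have e : j • (Ideal.Quotient.mk J c₀) = Ideal.Quotient.mk J (j * c₀) := rfl
      rw [e]
      exact Ideal.Quotient.eq_zero_iff_mem.2 (Ideal.mul_mem_right _ _ ha)
    rw [add_smul, add_smul, h1, add_zero, TensorProduct.tmul_add,
      tmul_smul_eq_zero_of_mem M J 𝔞 hJ j ha c m, add_zero, algebraMap_smul, algebraMap_smul,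
      TensorProduct.smul_tmul]

theorem flat_quot_tensor (hJ : J = 𝔞.map (algebraMap R₁ R₂))
    (hsurj : ∀ x : R₂, ∃ a : R₁, x - algebraMap R₁ R₂ a ∈ J) [Module.Flat R₁ M] :
    Module.Flat (R₂ ⧸ J) ((R₂ ⧸ J) ⊗[R₂] M) := by
  haveI := compatibleSMul_quot M J 𝔞 hJ hsurj
  let e : (R₂ ⧸ J) ⊗[R₂] M ≃ₗ[R₂ ⧸ J] (R₂ ⧸ J) ⊗[R₁] M :=
    TensorProduct.equivOfCompatibleSMul R₁ R₂ (R₂ ⧸ J) (R₂ ⧸ J) M
  exact Module.Flat.of_linearEquiv e

end LemmaF

section TheoremH

/-- Transfer form of the local criterion of flatness. -/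
theorem flat_of_flat_comp_of_surjective_quot {R₁ R₂ S : Type u} [CommRing R₁] [CommRing R₂]
    [CommRing S] [IsNoetherianRing R₂] [IsNoetherianRing S] (φ : R₁ →+* R₂) (χ : R₂ →+* S)
    (𝔭 : Ideal R₁) (hjac : (𝔭.map φ).map χ ≤ Ideal.jacobson ⊥)
    (hsurj : ∀ (n : ℕ) (x : R₂), ∃ a : R₁, x - φ a ∈ (𝔭.map φ) ^ (n + 1))
    (hflat : (χ.comp φ).Flat) : χ.Flat := by
  letI : Algebra R₁ R₂ := φ.toAlgebra
  letI : Algebra R₂ S := χ.toAlgebra
  letI : Algebra R₁ S := (χ.comp φ).toAlgebra
  haveI : IsScalarTower R₁ R₂ S := IsScalarTower.of_algebraMap_eq (fun _ => rfl)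
  haveI : Module.Flat R₁ S := hflat
  show Module.Flat R₂ S
  refine Groth.Agent.Lib.LocalCrit3.flat_of_forall_flat_quot_pow (S := S) (𝔭.map φ) hjac S
    (fun n => ?_)
  exact flat_quot_tensor S ((𝔭.map φ) ^ (n + 1)) (𝔭 ^ (n + 1))
    (by rw [Ideal.map_pow]; rfl) (hsurj n)

end TheoremH

section LemmaG

theorem flat_comp_of_flat_localization {A B N : Type*} [CommRing A] [CommRing B] [CommRing N]
    (ρ : A →+* B) (q : Ideal B) [q.IsPrime]
    (hflat : ((algebraMap B (Localization.AtPrime q)).comp ρ).Flat)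
    (μ : B →+* N) (hμ : μ.Flat) (hu : ∀ b : B, b ∉ q → IsUnit (μ b)) : (μ.comp ρ).Flat := by
  let lam : Localization.AtPrime q →+* N :=
    IsLocalization.lift (M := q.primeCompl) (g := μ) (fun y => hu y.1 y.2)
  have hlam : lam.comp (algebraMap B (Localization.AtPrime q)) = μ := IsLocalization.lift_comp _
  have hlamflat : lam.Flat := by
    letI : Algebra B N := μ.toAlgebra
    letI : Algebra (Localization.AtPrime q) N := lam.toAlgebra
    haveI : IsScalarTower B (Localization.AtPrime q) N :=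
      IsScalarTower.of_algebraMap_eq' hlam.symm
    haveI : Module.Flat B N := hμ
    show Module.Flat (Localization.AtPrime q) N
    exact (Module.flat_iff_of_isLocalization (Localization.AtPrime q) q.primeCompl N).2
      inferInstance
  have e : μ.comp ρ = lam.comp ((algebraMap B (Localization.AtPrime q)).comp ρ) := by
    rw [← RingHom.comp_assoc, hlam]
  rw [e]
  exact RingHom.Flat.comp hflat hlamflat

end LemmaG

section LemmaU

theorem isUnit_mk_comap_of_finite {R S : Type*} [CommRing R] [CommRing S] [Algebra R S]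
    (Q : Ideal S) [Module.Finite R (S ⧸ Q)] (x : R)
    (hu : IsUnit (Ideal.Quotient.mk Q (algebraMap R S x))) :
    IsUnit (Ideal.Quotient.mk (Q.comap (algebraMap R S)) x) := by
  let ι : R ⧸ Q.comap (algebraMap R S) →+* S ⧸ Q := Ideal.quotientMap Q (algebraMap R S) le_rfl
  have hinj : Function.Injective ι := Ideal.quotientMap_injective
  have hint : ι.IsIntegral := by
    apply RingHom.IsIntegral.tower_top (Ideal.Quotient.mk (Q.comap (algebraMap R S))) ι
    have e : ι.comp (Ideal.Quotient.mk (Q.comap (algebraMap R S))) = algebraMap R (S ⧸ Q) := by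
      ext a
      rfl
    rw [e]
    exact algebraMap_isIntegral_iff.2 (Algebra.IsIntegral.of_finite R (S ⧸ Q))
  haveI := hint.isLocalHom hinj
  refine isUnit_of_map_unit ι _ ?_
  rw [Ideal.quotientMap_mk]
  exact hu

theorem isUnit_mk_pow_of_isUnit_mk {A : Type*} [CommRing A] (𝔞 : Ideal A) (f : A)
    (hf : IsUnit (Ideal.Quotient.mk 𝔞 f)) (n : ℕ) :
    IsUnit (Ideal.Quotient.mk (𝔞 ^ (n + 1)) f) := by
  obtain ⟨u, hu⟩ := hf
  obtain ⟨b, hb⟩ := Ideal.Quotient.mk_surjective (↑u⁻¹ : A ⧸ 𝔞)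
  have h1 : f * b - 1 ∈ 𝔞 := by
    rw [← Ideal.Quotient.eq_zero_iff_mem, map_sub, map_mul, map_one, hb, ← hu, Units.mul_inv,
      sub_self]
  have h2 : (f * b - 1) ^ (n + 1) ∈ 𝔞 ^ (n + 1) := Ideal.pow_mem_pow h1 _
  have h3 : IsNilpotent (Ideal.Quotient.mk (𝔞 ^ (n + 1)) (f * b - 1)) :=
    ⟨n + 1, by rw [← map_pow]; exact Ideal.Quotient.eq_zero_iff_mem.2 h2⟩
  have h4 : IsUnit (Ideal.Quotient.mk (𝔞 ^ (n + 1)) (f * b)) := by
    have e : Ideal.Quotient.mk (𝔞 ^ (n + 1)) (f * b) =
        Ideal.Quotient.mk (𝔞 ^ (n + 1)) (f * b - 1) + 1 := by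
      rw [map_sub, map_one, sub_add_cancel]
    rw [e]
    exact h3.isUnit_add_one
  rw [map_mul] at h4
  exact isUnit_of_mul_isUnit_left h4

end LemmaU

section Compl

variable (S : Type u) [CommRing S] [IsNoetherianRing S] (J : Ideal S)

theorem isAdicComplete_map_adicCompletion :
    IsAdicComplete (J.map (algebraMap S (AdicCompletion J S))) (AdicCompletion J S) :=
  AdicCompletion.isAdicComplete_self J (IsNoetherian.noetherian J)

theorem exists_sub_mem_map_adicCompletion (x : AdicCompletion J S) :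
    ∃ s : S, x - algebraMap S (AdicCompletion J S) s ∈
      J.map (algebraMap S (AdicCompletion J S)) := by
  have fg : J.FG := IsNoetherian.noetherian J
  obtain ⟨s, hs⟩ := Ideal.Quotient.mk_surjective (AdicCompletion.evalOneₐ J x)
  refine ⟨s, ?_⟩
  rw [← AdicCompletion.ker_evalOneₐ_eq_map J fg, RingHom.mem_ker, map_sub, sub_eq_zero]
  have h1 : (AdicCompletion.evalOneₐ J).toRingHom (algebraMap S (AdicCompletion J S) s) =
      Ideal.Quotient.mk J s :=
    congrArg (fun φ => φ s) (AdicCompletion.evalOneₐ_comp_algebraMap_eq_mk J)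
  rw [h1, hs]
  rfl

end Compl

section Jac

theorem isJacobsonRing_quotient_map {A B : Type*} [CommRing A] [CommRing B] [Algebra A B]
    (I : Ideal A) [IsJacobsonRing (A ⧸ I)]
    (hft : Algebra.FiniteType A (B ⧸ I.map (algebraMap A B))) :
    IsJacobsonRing (B ⧸ I.map (algebraMap A B)) := by
  let φ : A ⧸ I →+* B ⧸ I.map (algebraMap A B) :=
    Ideal.quotientMap (I.map (algebraMap A B)) (algebraMap A B) Ideal.le_comap_map
  have hφ : φ.FiniteType := by
    apply RingHom.FiniteType.of_comp_finiteType (f := Ideal.Quotient.mk I)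
    have e : φ.comp (Ideal.Quotient.mk I) = algebraMap A (B ⧸ I.map (algebraMap A B)) := by
      ext a
      rfl
    rw [e]
    exact RingHom.finiteType_algebraMap.2 hft
  exact hφ.isJacobsonRing

variable {A B : Type u} [CommRing A] [CommRing B] [Algebra A B]

theorem finite_and_rigClosed_comap_of_jacobson (I : Ideal A) [IsAdicComplete I A]
    [IsNoetherianRing B] [IsAdicComplete (I.map (algebraMap A B)) B]
    (hft : Algebra.FiniteType A (B ⧸ I.map (algebraMap A B))) [IsJacobsonRing (A ⧸ I)]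
    (q : PrimeSpectrum B) (hq : IsRigClosed (I.map (algebraMap A B)) q) :
    Module.Finite A (B ⧸ q.asIdeal) ∧
      IsRigClosed I (PrimeSpectrum.comap (algebraMap A B) q) := by
  have h1 : ∀ m : Ideal B, m.IsMaximal → q.asIdeal ≤ m → Module.Finite A (B ⧸ m) := by
    intro m hm _
    have hKm : I.map (algebraMap A B) ≤ m :=
      (IsAdicComplete.le_jacobson_bot _).trans (sInf_le ⟨bot_le, hm⟩)
    exact residue_finite_of_jacobson I hft I m hm (Ideal.map_le_iff_le_comap.1 hKm)
  have h2 := finite_quotient_of_residue_finite I q hq h1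
  exact ⟨h2, rigClosed_comap_of_finite I q hq h2⟩

end Jac

section Surj

theorem exists_sub_mem_map_of_isUnit {A : Type u} [CommRing A] [IsNoetherianRing A] (I : Ideal A)
    [IsAdicComplete I A] (f : A) (𝔞 : Ideal A) (hf : IsUnit (Ideal.Quotient.mk 𝔞 f)) :
    ∀ x : AdicCompletion (I.map (algebraMap A (Localization.Away f))) (Localization.Away f),
    ∃ a : A, x - algebraMap A
        (AdicCompletion (I.map (algebraMap A (Localization.Away f))) (Localization.Away f)) a ∈
      𝔞.map (algebraMap A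
        (AdicCompletion (I.map (algebraMap A (Localization.Away f))) (Localization.Away f))) := by
  set If := I.map (algebraMap A (Localization.Away f)) with hIf
  let θ₀ : Localization.Away f →+* A ⧸ 𝔞 :=
    IsLocalization.Away.lift (S := Localization.Away f) f hf
  have hθ₀eq : ∀ a, θ₀ (algebraMap A (Localization.Away f) a) = Ideal.Quotient.mk 𝔞 a :=
    fun a => IsLocalization.Away.lift_eq f hf a
  have hθ₀comp : θ₀.comp (algebraMap A (Localization.Away f)) = Ideal.Quotient.mk 𝔞 :=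
    IsLocalization.Away.lift_comp f hf
  have hmap : If.map θ₀ = I.map (Ideal.Quotient.mk 𝔞) := by
    rw [hIf, Ideal.map_map, hθ₀comp]
  haveI : IsAdicComplete (If.map θ₀) (A ⧸ 𝔞) := by
    rw [hmap]
    exact isAdicComplete_quotient I 𝔞
  have hθ₀surj : Function.Surjective θ₀ := by
    intro d
    obtain ⟨a, rfl⟩ := Ideal.Quotient.mk_surjective d
    exact ⟨_, hθ₀eq a⟩
  have hkerθ₀ : RingHom.ker θ₀ = 𝔞.map (algebraMap A (Localization.Away f)) :=
    ker_away_lift f 𝔞 (Ideal.Quotient.mk 𝔞) Ideal.mk_ker hf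
  have hker := ker_theta If θ₀ hθ₀surj
  rw [hkerθ₀, Ideal.map_map] at hker
  intro x
  obtain ⟨a, ha⟩ := Ideal.Quotient.mk_surjective (theta If θ₀ x)
  refine ⟨a, ?_⟩
  have hmem : x - algebraMap A (AdicCompletion If (Localization.Away f)) a ∈
      RingHom.ker (theta If θ₀) := by
    rw [RingHom.mem_ker, map_sub, sub_eq_zero, ← ha]
    have e : algebraMap A (AdicCompletion If (Localization.Away f)) a =
        algebraMap (Localization.Away f) (AdicCompletion If (Localization.Away f))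
          (algebraMap A (Localization.Away f) a) := rfl
    rw [e, theta_of, hθ₀eq]
  rw [hker] at hmem
  exact hmem

end Surj

end Groth.Agent.Lib.RigClosedH3
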