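import Mathlib
import Groth.Agent.Lib.RigClosed9_helper3

/-!
Helper lemmas (helper3): rig-closed primes, part 10 (naively rig-flat + Jacobson ⇒ rig-flat).
APPEND-ONLY once landed.
-/

set_option autoImplicit false
universe u

namespace Groth.Agent.Lib.RigClosedH3

open Ideal TensorProduct

section Abs

variable {A B : Type u} [CommRing A] [CommRing B] [Algebra A B]

set_option maxHeartbeats 800000 in
/-- Abstract form: `A'`, `B'` stand for the completed principal localizations. -/
theorem flat_of_naive_abstract (I : Ideal A) [IsAdicComplete I A]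
    [IsNoetherianRing B] [IsAdicComplete (I.map (algebraMap A B)) B]
    (hft : Algebra.FiniteType A (B ⧸ (I.map (algebraMap A B)))) (hJ : IsJacobsonRing (A ⧸ I))
    (hnaive : ∀ q : PrimeSpectrum B, IsRigClosed (I.map (algebraMap A B)) q →
      (algebraMap A (Localization.AtPrime q.asIdeal)).Flat)
    (A' B' : Type u) [CommRing A'] [CommRing B'] [Algebra A A'] [Algebra B B']
    [IsNoetherianRing A'] [IsNoetherianRing B'] [Module.Flat B B']
    [IsAdicComplete ((I.map (algebraMap A B)).map (algebraMap B B')) B']
    (hft' : Algebra.FiniteType B (B' ⧸ ((I.map (algebraMap A B)).map (algebraMap B B'))))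
    (f : A) (hg : IsUnit (algebraMap B B' (algebraMap A B f)))
    (hA' : ∀ 𝔞 : Ideal A, IsUnit (Ideal.Quotient.mk 𝔞 f) → ∀ x : A',
      ∃ a : A, x - algebraMap A A' a ∈ 𝔞.map (algebraMap A A'))
    (ψ : A' →+* B') (hψ : ψ.comp (algebraMap A A') = (algebraMap B B').comp (algebraMap A B))
    (q' : PrimeSpectrum B')
    (hq' : IsRigClosed ((I.map (algebraMap A B)).map (algebraMap B B')) q') :
    ((algebraMap B' (Localization.AtPrime q'.asIdeal)).comp ψ).Flat := by
  haveI := hJ
  set K : Ideal B := I.map (algebraMap A B) with hK
  haveI : IsJacobsonRing (B ⧸ K) := isJacobsonRing_quotient_map I hft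
  obtain ⟨hfinB, hq⟩ := finite_and_rigClosed_comap_of_jacobson (A := B) (B := B') K hft' q' hq'
  obtain ⟨q, hqdef⟩ : ∃ q : PrimeSpectrum B, q = PrimeSpectrum.comap (algebraMap B B') q' :=
    ⟨_, rfl⟩
  rw [← hqdef] at hq
  have hqI : q.asIdeal = q'.asIdeal.comap (algebraMap B B') := by rw [hqdef]; rfl
  obtain ⟨hfinA, -⟩ := finite_and_rigClosed_comap_of_jacobson I hft q hq
  haveI : q.asIdeal.IsPrime := q.isPrime
  haveI : q'.asIdeal.IsPrime := q'.isPrime
  -- units
  have hgD : IsUnit (Ideal.Quotient.mk q.asIdeal (algebraMap A B f)) := by
    haveI := hfinB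
    rw [hqI]
    exact isUnit_mk_comap_of_finite q'.asIdeal (algebraMap A B f)
      (hg.map (Ideal.Quotient.mk q'.asIdeal))
  obtain ⟨p, hp⟩ : ∃ p : Ideal A, p = q.asIdeal.comap (algebraMap A B) := ⟨_, rfl⟩
  have hfE : IsUnit (Ideal.Quotient.mk p f) := by
    haveI := hfinA
    rw [hp]
    exact isUnit_mk_comap_of_finite q.asIdeal f hgD
  -- flatness over `A`
  have h1 : ((algebraMap B (Localization.AtPrime q.asIdeal)).comp (algebraMap A B)).Flat := by
    have := hnaive q hq
    rwa [IsScalarTower.algebraMap_eq A B (Localization.AtPrime q.asIdeal)] at this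
  have hμ : ((algebraMap B' (Localization.AtPrime q'.asIdeal)).comp (algebraMap B B')).Flat :=
    RingHom.Flat.comp (RingHom.flat_algebraMap_iff.2 inferInstance)
      (RingHom.flat_algebraMap_iff.2 inferInstance)
  have hu : ∀ b : B, b ∉ q.asIdeal →
      IsUnit (((algebraMap B' (Localization.AtPrime q'.asIdeal)).comp (algebraMap B B')) b) := by
    intro b hb
    rw [hqI] at hb
    exact IsLocalization.map_units (Localization.AtPrime q'.asIdeal)
      (⟨algebraMap B B' b, hb⟩ : q'.asIdeal.primeCompl)
  have h2 := flat_comp_of_flat_localization (algebraMap A B) q.asIdeal h1 _ hμ hu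
  have h3 : (((algebraMap B' (Localization.AtPrime q'.asIdeal)).comp ψ).comp
      (algebraMap A A')).Flat := by
    rw [RingHom.comp_assoc, hψ, ← RingHom.comp_assoc]
    exact h2
  -- local criterion
  refine flat_of_flat_comp_of_surjective_quot (algebraMap A A')
    ((algebraMap B' (Localization.AtPrime q'.asIdeal)).comp ψ) p ?_ ?_ h3
  · rw [Ideal.map_map, Ideal.map_le_iff_le_comap]
    intro a ha
    rw [Ideal.mem_comap]
    apply IsLocalRing.maximalIdeal_le_jacobson ⊥
    have e : (((algebraMap B' (Localization.AtPrime q'.asIdeal)).comp ψ).comp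
        (algebraMap A A')) a =
        algebraMap B' (Localization.AtPrime q'.asIdeal) (algebraMap B B' (algebraMap A B a)) := by
      rw [RingHom.comp_assoc, hψ]
      rfl
    rw [e, IsLocalization.AtPrime.to_map_mem_maximal_iff (Localization.AtPrime q'.asIdeal)
      q'.asIdeal]
    rw [hp, Ideal.mem_comap, hqI, Ideal.mem_comap] at ha
    exact ha
  · intro n x
    have hu' := isUnit_mk_pow_of_isUnit_mk p f hfE n
    obtain ⟨a, ha⟩ := hA' (p ^ (n + 1)) hu' x
    refine ⟨a, ?_⟩
    rw [← Ideal.map_pow]
    exact ha

end Abs

section Concrete

variable {A B : Type u} [CommRing A] [CommRing B] [Algebra A B]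

theorem finiteType_adicCompletion_quotient {R S : Type u} [CommRing R] [CommRing S] [Algebra R S]
    [IsNoetherianRing S] [Algebra.FiniteType R S] (J : Ideal S) :
    Algebra.FiniteType R (AdicCompletion J S ⧸ J.map (algebraMap S (AdicCompletion J S))) := by
  let φ : S →ₐ[R] (AdicCompletion J S ⧸ J.map (algebraMap S (AdicCompletion J S))) :=
    (Ideal.Quotient.mkₐ R _).comp (IsScalarTower.toAlgHom R S (AdicCompletion J S))
  refine Algebra.FiniteType.of_surjective φ ?_
  intro y
  obtain ⟨x, rfl⟩ := Ideal.Quotient.mk_surjective y
  obtain ⟨s, hs⟩ := exists_sub_mem_map_adicCompletion S J x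
  refine ⟨s, ?_⟩
  show Ideal.Quotient.mk _ (algebraMap S (AdicCompletion J S) s) = Ideal.Quotient.mk _ x
  rw [eq_comm, Ideal.Quotient.eq]
  exact hs

set_option maxHeartbeats 1600000 in
theorem flat_completed_localization [IsNoetherianRing A] (I : Ideal A) [IsAdicComplete I A]
    [IsNoetherianRing B] [IsAdicComplete (I.map (algebraMap A B)) B]
    (hft : Algebra.FiniteType A (B ⧸ (I.map (algebraMap A B)))) (hJ : IsJacobsonRing (A ⧸ I))
    (hnaive : ∀ q : PrimeSpectrum B, IsRigClosed (I.map (algebraMap A B)) q →
      (algebraMap A (Localization.AtPrime q.asIdeal)).Flat)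
    (f : A) :
    ∀ (ψ : (AdicCompletion (I.map (algebraMap A (Localization.Away f))) (Localization.Away f)) →+*
      (AdicCompletion ((I.map (algebraMap A B)).map
        (algebraMap B (Localization.Away (algebraMap A B f))))
        (Localization.Away (algebraMap A B f))))
    (_ : ψ.comp (algebraMap (Localization.Away f)
        (AdicCompletion (I.map (algebraMap A (Localization.Away f))) (Localization.Away f))) =
      (algebraMap (Localization.Away (algebraMap A B f))
        (AdicCompletion ((I.map (algebraMap A B)).map
          (algebraMap B (Localization.Away (algebraMap A B f))))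
          (Localization.Away (algebraMap A B f)))).comp
        (Localization.awayMap (algebraMap A B) f))
    (q' : PrimeSpectrum (AdicCompletion ((I.map (algebraMap A B)).map
      (algebraMap B (Localization.Away (algebraMap A B f))))
      (Localization.Away (algebraMap A B f))))
    (_ : IsRigClosed ((((I.map (algebraMap A B))).map
      (algebraMap B (Localization.Away (algebraMap A B f)))).map
      (algebraMap (Localization.Away (algebraMap A B f))
        (AdicCompletion ((I.map (algebraMap A B)).map
          (algebraMap B (Localization.Away (algebraMap A B f))))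
          (Localization.Away (algebraMap A B f))))) q'),
    ((algebraMap (AdicCompletion ((I.map (algebraMap A B)).map
      (algebraMap B (Localization.Away (algebraMap A B f))))
      (Localization.Away (algebraMap A B f))) (Localization.AtPrime q'.asIdeal)).comp ψ).Flat := by
  set K : Ideal B := I.map (algebraMap A B) with hK
  set g : B := algebraMap A B f with hg
  set Jf : Ideal (Localization.Away g) := K.map (algebraMap B (Localization.Away g)) with hJf
  set If : Ideal (Localization.Away f) := I.map (algebraMap A (Localization.Away f)) with hIf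
  intro ψ hψ q' hq'
  haveI : IsNoetherianRing (AdicCompletion If (Localization.Away f)) :=
    Groth.Agent.Lib.ComplRegH3.isNoetherianRing_adicCompletion _ If
  haveI : IsNoetherianRing (AdicCompletion Jf (Localization.Away g)) :=
    Groth.Agent.Lib.ComplRegH3.isNoetherianRing_adicCompletion _ Jf
  haveI : Module.Flat B (Localization.Away g) := IsLocalization.flat _ (Submonoid.powers g)
  haveI : Module.Flat B (AdicCompletion Jf (Localization.Away g)) :=
    Module.Flat.trans B (Localization.Away g) _
  have hmapeq : K.map (algebraMap B (AdicCompletion Jf (Localization.Away g))) =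
      Jf.map (algebraMap (Localization.Away g) (AdicCompletion Jf (Localization.Away g))) :=
    (Ideal.map_map (algebraMap B (Localization.Away g))
      (algebraMap (Localization.Away g) (AdicCompletion Jf (Localization.Away g)))).symm
  haveI : IsAdicComplete (K.map (algebraMap B (AdicCompletion Jf (Localization.Away g))))
      (AdicCompletion Jf (Localization.Away g)) := by
    rw [hmapeq]
    exact isAdicComplete_map_adicCompletion _ Jf
  have hft' : Algebra.FiniteType B (AdicCompletion Jf (Localization.Away g) ⧸
      K.map (algebraMap B (AdicCompletion Jf (Localization.Away g)))) := by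
    haveI : Algebra.FiniteType B (Localization.Away g) :=
      IsLocalization.finiteType_of_monoid_fg (Submonoid.powers g) _
    rw [hmapeq]
    exact finiteType_adicCompletion_quotient Jf
  have hgu : IsUnit (algebraMap B (AdicCompletion Jf (Localization.Away g)) g) := by
    have h1 : IsUnit (algebraMap B (Localization.Away g) g) :=
      IsLocalization.map_units (Localization.Away g)
        (⟨g, Submonoid.mem_powers g⟩ : Submonoid.powers g)
    exact h1.map (algebraMap (Localization.Away g) (AdicCompletion Jf (Localization.Away g)))
  have hψ' : ψ.comp (algebraMap A (AdicCompletion If (Localization.Away f))) =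
      (algebraMap B (AdicCompletion Jf (Localization.Away g))).comp (algebraMap A B) := by
    refine RingHom.ext fun a => ?_
    have h1 := congrArg (fun φ => φ (algebraMap A (Localization.Away f) a)) hψ
    simp only [RingHom.comp_apply] at h1
    have h2 : Localization.awayMap (algebraMap A B) f (algebraMap A (Localization.Away f) a) =
        algebraMap B (Localization.Away g) (algebraMap A B a) := by
      simp only [Localization.awayMap, IsLocalization.Away.map, IsLocalization.map_eq]
      rfl
    rw [h2] at h1
    exact h1
  have hq'' : IsRigClosed (K.map (algebraMap B (AdicCompletion Jf (Localization.Away g)))) q' := by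
    rw [hmapeq]
    exact hq'
  exact flat_of_naive_abstract I hft hJ hnaive (AdicCompletion If (Localization.Away f))
    (AdicCompletion Jf (Localization.Away g)) hft' f hgu
    (fun 𝔞 h𝔞 => exists_sub_mem_map_of_isUnit I f 𝔞 h𝔞) ψ hψ' q' hq''

end Concrete

end Groth.Agent.Lib.RigClosedH3
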