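import Mathlib
import Groth.Agent.Lib.RigClosed10_helper3

/-!
Helper lemmas (helper3): rig-flat homomorphisms of adic Noetherian rings (composition).
APPEND-ONLY once landed.
-/

set_option autoImplicit false
universe u

namespace Groth.Agent.Lib.RigClosedH3

open Ideal

section Above

theorem exists_rigClosed_ge {R : Type*} [CommRing R] [IsNoetherianRing R] (K : Ideal R)
    (p : Ideal R) [hp : p.IsPrime] (hK : ¬ K ≤ p) :
    ∃ q : PrimeSpectrum R, p ≤ q.asIdeal ∧ IsRigClosed K q := by
  let T : Set (Ideal R) := {P | P.IsPrime ∧ p ≤ P ∧ ¬ K ≤ P}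
  have hne : T.Nonempty := ⟨p, hp, le_rfl, hK⟩
  obtain ⟨Q', hQT', hQmax'⟩ :=
    (set_has_maximal_iff_noetherian (R := R) (M := R)).2 inferInstance T hne
  obtain ⟨Q, hQQ'⟩ : ∃ Q : Ideal R, Q = Q' := ⟨Q', rfl⟩
  rw [← hQQ'] at hQT' hQmax'
  obtain ⟨hQp, hpQ, hKQ⟩ := hQT'
  refine ⟨⟨Q, hQp⟩, hpQ, hKQ, ?_⟩
  intro y hy hKy
  have hyT : y.asIdeal ∈ T := ⟨y.isPrime, hpQ.trans hy, hKy⟩
  have h1 := hQmax' y.asIdeal hyT
  apply PrimeSpectrum.ext
  by_contra hne'
  exact h1 (lt_of_le_of_ne hy (fun e => hne' e.symm))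

end Above

section Uniq

theorem adicCompletion_ringHom_ext {S D : Type*} [CommRing S] [CommRing D] (J : Ideal S)
    (fg : J.FG) (ψ₁ ψ₂ : AdicCompletion J S →+* D)
    (h : ψ₁.comp (algebraMap S (AdicCompletion J S)) =
      ψ₂.comp (algebraMap S (AdicCompletion J S)))
    (hH : IsHausdorff (J.map (ψ₁.comp (algebraMap S (AdicCompletion J S)))) D) : ψ₁ = ψ₂ := by
  refine RingHom.ext fun x => ?_
  rw [← sub_eq_zero]
  apply hH.haus'
  intro n
  rw [SModEq.zero, smul_eq_mul, Ideal.mul_top]
  obtain ⟨a, rfl⟩ := AdicCompletion.mk_surjective J S x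
  have h1 : AdicCompletion.mk J S a - algebraMap S (AdicCompletion J S) (a.val n) ∈
      RingHom.ker (AdicCompletion.evalₐ J n).toRingHom := by
    rw [RingHom.mem_ker, map_sub, sub_eq_zero]
    show AdicCompletion.evalₐ J n (AdicCompletion.mk J S a) =
      AdicCompletion.evalₐ J n (AdicCompletion.of J S (a.val n))
    rw [AdicCompletion.evalₐ_mk, AdicCompletion.evalₐ_of]
  have h2 := Groth.Agent.Lib.FSAdicComplH3.ker_evalₐ_le_map_pow J fg n h1
  have e : ψ₁ (AdicCompletion.mk J S a) - ψ₂ (AdicCompletion.mk J S a) =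
      ψ₁ (AdicCompletion.mk J S a - algebraMap S (AdicCompletion J S) (a.val n)) -
      ψ₂ (AdicCompletion.mk J S a - algebraMap S (AdicCompletion J S) (a.val n)) := by
    have h3 := congrArg (fun φ => φ (a.val n)) h
    simp only [RingHom.comp_apply] at h3
    rw [map_sub, map_sub, h3]
    ring
  rw [e]
  refine sub_mem ?_ ?_
  · have h4 := Ideal.mem_map_of_mem ψ₁ h2
    rwa [Ideal.map_map, Ideal.map_pow] at h4
  · have h4 := Ideal.mem_map_of_mem ψ₂ h2
    rwa [Ideal.map_map, ← h, Ideal.map_pow] at h4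

theorem exists_adicCompletion_map {S : Type*} {S' : Type u} [CommRing S] [CommRing S']
    [IsNoetherianRing S'] (ρ : S →+* S') (J : Ideal S) (J' : Ideal S') (hJ : J.map ρ = J') :
    ∃ ψ : AdicCompletion J S →+* AdicCompletion J' S',
      ψ.comp (algebraMap S (AdicCompletion J S)) =
        (algebraMap S' (AdicCompletion J' S')).comp ρ := by
  obtain ⟨θ₀, hθ₀⟩ : ∃ θ₀ : S →+* AdicCompletion J' S',
      θ₀ = (algebraMap S' (AdicCompletion J' S')).comp ρ := ⟨_, rfl⟩
  haveI : IsAdicComplete (J.map θ₀) (AdicCompletion J' S') := by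
    rw [hθ₀, ← Ideal.map_map, hJ]
    exact isAdicComplete_map_adicCompletion S' J'
  refine ⟨theta J θ₀, ?_⟩
  rw [theta_comp J θ₀, hθ₀]

end Uniq

section Core

theorem flat_comp_of_rigFlat {A₁ B₁ C₁ : Type*} [CommRing A₁] [CommRing B₁] [CommRing C₁]
    [IsNoetherianRing B₁] (ψAB : A₁ →+* B₁) (ψBC : B₁ →+* C₁) (JB : Ideal B₁) (JC : Ideal C₁)
    (hJ : JC ≤ JB.map ψBC)
    (hAB : ∀ p : PrimeSpectrum B₁, IsRigClosed JB p →
      ((algebraMap B₁ (Localization.AtPrime p.asIdeal)).comp ψAB).Flat)
    (q : PrimeSpectrum C₁) (hq : ¬ JC ≤ q.asIdeal)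
    (hBC : ((algebraMap C₁ (Localization.AtPrime q.asIdeal)).comp ψBC).Flat) :
    ((algebraMap C₁ (Localization.AtPrime q.asIdeal)).comp (ψBC.comp ψAB)).Flat := by
  haveI := q.isPrime
  haveI : (q.asIdeal.comap ψBC).IsPrime := Ideal.comap_isPrime _ _
  have h1 : ¬ JB ≤ q.asIdeal.comap ψBC :=
    fun h => hq (hJ.trans (Ideal.map_le_iff_le_comap.2 h))
  obtain ⟨p₂, hp₂, hrc⟩ := exists_rigClosed_ge JB (q.asIdeal.comap ψBC) h1
  haveI := p₂.isPrime
  have hu : ∀ b : B₁, b ∉ p₂.asIdeal →
      IsUnit (((algebraMap C₁ (Localization.AtPrime q.asIdeal)).comp ψBC) b) := by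
    intro b hb
    have hb' : ψBC b ∉ q.asIdeal := fun h => hb (hp₂ h)
    exact IsLocalization.map_units (Localization.AtPrime q.asIdeal)
      (⟨ψBC b, hb'⟩ : q.asIdeal.primeCompl)
  have h2 := flat_comp_of_flat_localization ψAB p₂.asIdeal (hAB p₂ hrc) _ hBC hu
  rw [RingHom.comp_assoc] at h2
  exact h2

end Core

section Def

/-- The rig-flatness statement at one element, in the shape used in the milestones, with the target
element, ideal and map of localizations generalized. -/
def RigFlatAt {B C : Type u} [CommRing B] [CommRing C] (K : Ideal B) (g : B) (J : Ideal C) (c : C)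
    (ρ : Localization.Away g →+* Localization.Away c) : Prop :=
  ∀ ψ : AdicCompletion (K.map (algebraMap B (Localization.Away g))) (Localization.Away g) →+*
      AdicCompletion (J.map (algebraMap C (Localization.Away c))) (Localization.Away c),
    ψ.comp (algebraMap (Localization.Away g)
      (AdicCompletion (K.map (algebraMap B (Localization.Away g))) (Localization.Away g))) =
    (algebraMap (Localization.Away c)
      (AdicCompletion (J.map (algebraMap C (Localization.Away c))) (Localization.Away c))).comp ρ →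
    ∀ q : PrimeSpectrum
        (AdicCompletion (J.map (algebraMap C (Localization.Away c))) (Localization.Away c)),
      IsRigClosed ((J.map (algebraMap C (Localization.Away c))).map
        (algebraMap (Localization.Away c)
          (AdicCompletion (J.map (algebraMap C (Localization.Away c))) (Localization.Away c)))) q →
      ((algebraMap
        (AdicCompletion (J.map (algebraMap C (Localization.Away c))) (Localization.Away c))
        (Localization.AtPrime q.asIdeal)).comp ψ).Flat

theorem RigFlatAt.congr {B C : Type u} [CommRing B] [CommRing C] (φ : B →+* C) (K : Ideal B) (g : B)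
    (J J' : Ideal C) (c c' : C) (hJ : J = J') (hc : c = c')
    (ρ : Localization.Away g →+* Localization.Away c)
    (ρ' : Localization.Away g →+* Localization.Away c')
    (hρ : ρ.comp (algebraMap B (Localization.Away g)) =
      (algebraMap C (Localization.Away c)).comp φ)
    (hρ' : ρ'.comp (algebraMap B (Localization.Away g)) =
      (algebraMap C (Localization.Away c')).comp φ)
    (h : RigFlatAt K g J c ρ) : RigFlatAt K g J' c' ρ' := by
  subst hJ
  subst hc
  have e : ρ = ρ' := IsLocalization.ringHom_ext (Submonoid.powers g) (hρ.trans hρ'.symm)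
  subst e
  exact h

end Def

end Groth.Agent.Lib.RigClosedH3
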