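import Mathlib
import Groth.Agent.Lib.RigFlat_helper3

/-!
Helper lemmas (helper3): rig-flat homomorphisms of adic Noetherian rings (composition, glue).
APPEND-ONLY once landed.
-/

set_option autoImplicit false
universe u

namespace Groth.Agent.Lib.RigClosedH3

open Ideal

section CompAt

variable {A B C : Type u} [CommRing A] [CommRing B] [CommRing C]

set_option maxHeartbeats 800000 in
theorem RigFlatAt.comp [IsNoetherianRing A] [IsNoetherianRing B] [IsNoetherianRing C]
    (I : Ideal A) (e : A) (K : Ideal B) (eB : B) (JC : Ideal C) (eC : C)
    (ρAB : Localization.Away e →+* Localization.Away eB)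
    (ρBC : Localization.Away eB →+* Localization.Away eC)
    (ρAC : Localization.Away e →+* Localization.Away eC) (hcomp : ρBC.comp ρAB = ρAC)
    (h1 : (I.map (algebraMap A (Localization.Away e))).map ρAB =
      K.map (algebraMap B (Localization.Away eB)))
    (h2 : (K.map (algebraMap B (Localization.Away eB))).map ρBC =
      JC.map (algebraMap C (Localization.Away eC)))
    (hAB : RigFlatAt I e K eB ρAB) (hBC : RigFlatAt K eB JC eC ρBC) :
    RigFlatAt I e JC eC ρAC := by
  intro ψe hψe qe hqe
  haveI : IsNoetherianRing (AdicCompletion (K.map (algebraMap B (Localization.Away eB)))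
      (Localization.Away eB)) :=
    Groth.Agent.Lib.ComplRegH3.isNoetherianRing_adicCompletion _ _
  obtain ⟨ψAB, hψAB⟩ := exists_adicCompletion_map ρAB
    (I.map (algebraMap A (Localization.Away e))) (K.map (algebraMap B (Localization.Away eB))) h1
  obtain ⟨ψBC, hψBC⟩ := exists_adicCompletion_map ρBC
    (K.map (algebraMap B (Localization.Away eB))) (JC.map (algebraMap C (Localization.Away eC))) h2
  have h3 : (I.map (algebraMap A (Localization.Away e))).map ρAC =
      JC.map (algebraMap C (Localization.Away eC)) := by
    rw [← hcomp, ← Ideal.map_map, h1, h2]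
  have hcompl := isAdicComplete_map_adicCompletion (Localization.Away eC)
    (JC.map (algebraMap C (Localization.Away eC)))
  have huniq : ψe = ψBC.comp ψAB := by
    refine adicCompletion_ringHom_ext _ (IsNoetherian.noetherian _) ψe (ψBC.comp ψAB) ?_ ?_
    · rw [hψe, RingHom.comp_assoc, hψAB, ← RingHom.comp_assoc, hψBC, RingHom.comp_assoc, hcomp]
    · rw [hψe, ← Ideal.map_map, h3]
      exact hcompl.toIsHausdorff
  rw [huniq]
  refine flat_comp_of_rigFlat ψAB ψBC
    ((K.map (algebraMap B (Localization.Away eB))).map (algebraMap (Localization.Away eB) _))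
    ((JC.map (algebraMap C (Localization.Away eC))).map (algebraMap (Localization.Away eC) _))
    ?_ (fun p hp => hAB ψAB hψAB p hp) qe hqe.1 (hBC ψBC hψBC qe hqe)
  have h4 : ((K.map (algebraMap B (Localization.Away eB))).map
      (algebraMap (Localization.Away eB) (AdicCompletion (K.map (algebraMap B
        (Localization.Away eB))) (Localization.Away eB)))).map ψBC =
      (JC.map (algebraMap C (Localization.Away eC))).map
        (algebraMap (Localization.Away eC) (AdicCompletion (JC.map (algebraMap C
          (Localization.Away eC))) (Localization.Away eC))) := by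
    rw [Ideal.map_map, hψBC, ← Ideal.map_map, h2]
  exact le_of_eq h4.symm

end CompAt

section Glue

variable {A B C : Type u} [CommRing A] [CommRing B] [CommRing C] [Algebra A B] [Algebra A C]
  [Algebra B C] [IsScalarTower A B C]

theorem awayMap_comp_algebraMap {R S : Type*} [CommRing R] [CommRing S] (φ : R →+* S) (r : R) :
    (Localization.awayMap φ r).comp (algebraMap R (Localization.Away r)) =
      (algebraMap S (Localization.Away (φ r))).comp φ := by
  refine RingHom.ext fun a => ?_
  simp only [RingHom.comp_apply, Localization.awayMap, IsLocalization.Away.map,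
    IsLocalization.map_eq]

set_option maxHeartbeats 800000 in
theorem rigFlat_comp [IsNoetherianRing A] (I : Ideal A) [IsNoetherianRing B] [IsNoetherianRing C]
    (hAB : ∀ f : A, RigFlatAt I f (I.map (algebraMap A B)) (algebraMap A B f)
      (Localization.awayMap (algebraMap A B) f))
    (hBC : ∀ g : B, RigFlatAt (I.map (algebraMap A B)) g
      ((I.map (algebraMap A B)).map (algebraMap B C)) (algebraMap B C g)
      (Localization.awayMap (algebraMap B C) g)) :
    ∀ e : A, RigFlatAt I e (I.map (algebraMap A C)) (algebraMap A C e)
      (Localization.awayMap (algebraMap A C) e) := by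
  intro e
  have hKC : (I.map (algebraMap A B)).map (algebraMap B C) = I.map (algebraMap A C) := by
    rw [Ideal.map_map, ← IsScalarTower.algebraMap_eq]
  have heBC : algebraMap B C (algebraMap A B e) = algebraMap A C e :=
    (IsScalarTower.algebraMap_apply A B C e).symm
  have hu : IsUnit (((algebraMap C (Localization.Away (algebraMap A C e))).comp (algebraMap B C))
      (algebraMap A B e)) := by
    rw [RingHom.comp_apply, heBC]
    exact IsLocalization.map_units (Localization.Away (algebraMap A C e))
      (⟨algebraMap A C e, Submonoid.mem_powers _⟩ : Submonoid.powers (algebraMap A C e))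
  let ρ' : Localization.Away (algebraMap A B e) →+* Localization.Away (algebraMap A C e) :=
    IsLocalization.Away.lift (S := Localization.Away (algebraMap A B e)) (algebraMap A B e) hu
  have hρ' : ρ'.comp (algebraMap B (Localization.Away (algebraMap A B e))) =
      (algebraMap C (Localization.Away (algebraMap A C e))).comp (algebraMap B C) :=
    IsLocalization.Away.lift_comp (algebraMap A B e) hu
  have hBC' : RigFlatAt (I.map (algebraMap A B)) (algebraMap A B e) (I.map (algebraMap A C))
      (algebraMap A C e) ρ' :=
    RigFlatAt.congr (algebraMap B C) (I.map (algebraMap A B)) (algebraMap A B e) _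
      (I.map (algebraMap A C)) _ (algebraMap A C e) hKC heBC
      (Localization.awayMap (algebraMap B C) (algebraMap A B e)) ρ'
      (awayMap_comp_algebraMap _ _) hρ' (hBC (algebraMap A B e))
  have hcomp : ρ'.comp (Localization.awayMap (algebraMap A B) e) =
      Localization.awayMap (algebraMap A C) e := by
    apply IsLocalization.ringHom_ext (Submonoid.powers e)
    rw [RingHom.comp_assoc, awayMap_comp_algebraMap, ← RingHom.comp_assoc, hρ',
      RingHom.comp_assoc, ← IsScalarTower.algebraMap_eq, awayMap_comp_algebraMap]
  refine RigFlatAt.comp I e (I.map (algebraMap A B)) (algebraMap A B e) (I.map (algebraMap A C))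
    (algebraMap A C e) (Localization.awayMap (algebraMap A B) e) ρ' _ hcomp ?_ ?_ (hAB e) hBC'
  · rw [Ideal.map_map, awayMap_comp_algebraMap, ← Ideal.map_map]
  · rw [Ideal.map_map, hρ', ← Ideal.map_map, hKC]

end Glue

end Groth.Agent.Lib.RigClosedH3
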