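import Mathlib
import Groth.Agent.Lib.RigFlat2_helper3

/-!
Helper lemmas (helper3): rig-flat homomorphisms of adic Noetherian rings (descent along a
faithfully flat map; flatness of maps of adic completions).
APPEND-ONLY once landed.
-/

set_option autoImplicit false
universe u

namespace Groth.Agent.Lib.RigClosedH3

open Ideal

section ComplMap

theorem exists_sub_mem_map_pow_adicCompletion {S : Type*} [CommRing S] (J : Ideal S) (fg : J.FG)
    (n : ℕ) (x : AdicCompletion J S) :
    ∃ s : S, x - algebraMap S (AdicCompletion J S) s ∈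
      (J.map (algebraMap S (AdicCompletion J S))) ^ n := by
  obtain ⟨a, rfl⟩ := AdicCompletion.mk_surjective J S x
  refine ⟨a.val n, ?_⟩
  have h1 : AdicCompletion.mk J S a - algebraMap S (AdicCompletion J S) (a.val n) ∈
      RingHom.ker (AdicCompletion.evalₐ J n).toRingHom := by
    rw [RingHom.mem_ker, map_sub, sub_eq_zero]
    show AdicCompletion.evalₐ J n (AdicCompletion.mk J S a) =
      AdicCompletion.evalₐ J n (AdicCompletion.of J S (a.val n))
    rw [AdicCompletion.evalₐ_mk, AdicCompletion.evalₐ_of]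
  have h2 := Groth.Agent.Lib.FSAdicComplH3.ker_evalₐ_le_map_pow J fg n h1
  rwa [Ideal.map_pow] at h2

variable {S S' : Type u} [CommRing S] [CommRing S'] [IsNoetherianRing S] [IsNoetherianRing S']

theorem flat_adicCompletion_map (ρ : S →+* S') (hρ : ρ.Flat) (J : Ideal S) (J' : Ideal S')
    (hJ : J.map ρ = J') (ψ : AdicCompletion J S →+* AdicCompletion J' S')
    (hψ : ψ.comp (algebraMap S (AdicCompletion J S)) =
      (algebraMap S' (AdicCompletion J' S')).comp ρ) : ψ.Flat := by
  haveI : IsNoetherianRing (AdicCompletion J S) :=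
    Groth.Agent.Lib.ComplRegH3.isNoetherianRing_adicCompletion _ _
  haveI : IsNoetherianRing (AdicCompletion J' S') :=
    Groth.Agent.Lib.ComplRegH3.isNoetherianRing_adicCompletion _ _
  haveI := isAdicComplete_map_adicCompletion S' J'
  refine flat_of_flat_comp_of_surjective_quot (algebraMap S (AdicCompletion J S)) ψ J ?_ ?_ ?_
  · rw [Ideal.map_map, hψ, ← Ideal.map_map, hJ]
    exact IsAdicComplete.le_jacobson_bot _
  · intro n x
    exact exists_sub_mem_map_pow_adicCompletion J (IsNoetherian.noetherian J) (n + 1) x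
  · rw [hψ]
    exact RingHom.Flat.comp hρ (RingHom.flat_algebraMap_iff.2 inferInstance)

theorem eq_top_of_sup_eq_top_of_le_jacobson {R : Type*} [CommRing R] (X K : Ideal R)
    (hK : K ≤ Ideal.jacobson ⊥) (h : X ⊔ K = ⊤) : X = ⊤ := by
  have h1 : (1 : R) ∈ X ⊔ K := by rw [h]; exact Submodule.mem_top
  obtain ⟨i, hi, k, hk, hik⟩ := Submodule.mem_sup.1 h1
  have h2 : IsUnit (k * (-1) + 1) := (Ideal.mem_jacobson_bot.1 (hK hk)) (-1)
  have h3 : i = k * (-1) + 1 := by linear_combination hik
  rw [← h3] at h2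
  exact Ideal.eq_top_of_isUnit_mem _ hi h2

theorem faithfullyFlat_adicCompletion_map (ρ : S →+* S') (hρ : ρ.FaithfullyFlat) (J : Ideal S)
    (J' : Ideal S') (hJ : J.map ρ = J') (ψ : AdicCompletion J S →+* AdicCompletion J' S')
    (hψ : ψ.comp (algebraMap S (AdicCompletion J S)) =
      (algebraMap S' (AdicCompletion J' S')).comp ρ) : ψ.FaithfullyFlat := by
  have hflat : ψ.Flat := flat_adicCompletion_map ρ hρ.flat J J' hJ ψ hψ
  haveI hc := isAdicComplete_map_adicCompletion S J
  haveI hc' := isAdicComplete_map_adicCompletion S' J'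
  letI : Algebra (AdicCompletion J S) (AdicCompletion J' S') := ψ.toAlgebra
  haveI : Module.Flat (AdicCompletion J S) (AdicCompletion J' S') := hflat
  show Module.FaithfullyFlat (AdicCompletion J S) (AdicCompletion J' S')
  refine ⟨fun m hm => ?_⟩
  rw [Ideal.smul_top_eq_map]
  refine (Submodule.restrictScalars_eq_top_iff _ _ _).ne.mpr ?_
  show m.map ψ ≠ ⊤
  intro htop
  -- notation
  obtain ⟨φ, hφ⟩ : ∃ φ : S →+* AdicCompletion J S, φ = algebraMap S (AdicCompletion J S) :=
    ⟨_, rfl⟩
  obtain ⟨φ', hφ'⟩ : ∃ φ' : S' →+* AdicCompletion J' S',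
      φ' = algebraMap S' (AdicCompletion J' S') := ⟨_, rfl⟩
  rw [← hφ, ← hφ'] at hψ
  have hK₁m : J.map φ ≤ m := by
    rw [hφ]
    exact (IsAdicComplete.le_jacobson_bot _).trans (sInf_le ⟨bot_le, hm⟩)
  obtain ⟨n, hn⟩ : ∃ n : Ideal S, n = m.comap φ := ⟨_, rfl⟩
  have hnt : n ≠ ⊤ := by
    intro e
    apply hm.ne_top
    rw [Ideal.eq_top_iff_one]
    have : (1 : S) ∈ n := by rw [e]; exact Submodule.mem_top
    rw [hn, Ideal.mem_comap, map_one] at this
    exact this
  have hJn : J ≤ n := by
    rw [hn, ← Ideal.map_le_iff_le_comap]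
    exact hK₁m
  have hmle : m ≤ n.map φ ⊔ J.map φ := by
    intro x hx
    obtain ⟨s, hs⟩ := exists_sub_mem_map_adicCompletion S J x
    rw [← hφ] at hs
    have hs' : φ s ∈ m := by
      have : φ s = x - (x - φ s) := by ring
      rw [this]
      exact sub_mem hx (hK₁m hs)
    have hsn : s ∈ n := by rw [hn]; exact hs'
    have : x = φ s + (x - φ s) := by ring
    rw [this]
    exact Submodule.add_mem_sup (Ideal.mem_map_of_mem _ hsn) hs
  have h1 : (n.map ρ).map φ' ⊔ J'.map φ' = ⊤ := by
    rw [eq_top_iff, ← htop]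
    refine (Ideal.map_mono hmle).trans ?_
    rw [Ideal.map_sup, Ideal.map_map, Ideal.map_map, hψ, ← Ideal.map_map, ← Ideal.map_map, hJ]
  have h2 : (n.map ρ).map φ' = ⊤ := by
    refine eq_top_of_sup_eq_top_of_le_jacobson _ _ ?_ h1
    rw [hφ']
    exact IsAdicComplete.le_jacobson_bot _
  -- apply the evaluation
  have h3 : ((n.map ρ).map φ').map (AdicCompletion.evalOneₐ J').toRingHom = ⊤ := by
    rw [h2]
    exact Ideal.map_top _
  rw [hφ', Ideal.map_map, AdicCompletion.evalOneₐ_comp_algebraMap_eq_mk] at h3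
  have h4 : n.map ρ ⊔ J' = ⊤ := by
    have := congrArg (Ideal.comap (Ideal.Quotient.mk J')) h3
    rw [Ideal.comap_map_of_surjective _ Ideal.Quotient.mk_surjective, Ideal.comap_top,
      ← RingHom.ker_eq_comap_bot, Ideal.mk_ker] at this
    exact this
  have h5 : n.map ρ = ⊤ := by
    rw [← h4, eq_comm, sup_eq_left, ← hJ]
    exact Ideal.map_mono hJn
  -- faithful flatness of ρ
  letI : Algebra S S' := ρ.toAlgebra
  haveI : Module.FaithfullyFlat S S' := hρ
  have h6 := Ideal.comap_map_eq_self_of_faithfullyFlat (B := S') n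
  have h7 : n.map (algebraMap S S') = ⊤ := h5
  rw [h7, Ideal.comap_top] at h6
  exact hnt h6.symm

end ComplMap

section Descent

theorem flat_of_comp_faithfullyFlat {R S T : Type u} [CommRing R] [CommRing S] [CommRing T]
    (f : R →+* S) (g : S →+* T) (hg : g.FaithfullyFlat) (h : (g.comp f).Flat) : f.Flat := by
  letI : Algebra R S := f.toAlgebra
  letI : Algebra S T := g.toAlgebra
  letI : Algebra R T := (g.comp f).toAlgebra
  haveI : IsScalarTower R S T := IsScalarTower.of_algebraMap_eq (fun _ => rfl)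
  haveI : Module.Flat R T := h
  haveI : Module.FaithfullyFlat S T := hg
  show Module.Flat R S
  exact Groth.Agent.Lib.LocalCrit2.flat_of_faithfullyFlat_of_flat (A := R) (B := S) (M := T)

end Descent

end Groth.Agent.Lib.RigClosedH3
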