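import Mathlib
import Groth.Agent.Lib.RigFlat3_helper3

/-!
Helper lemmas (helper3): rig-flat homomorphisms of adic Noetherian rings (descent, glue).
APPEND-ONLY once landed.
-/

set_option autoImplicit false
universe u

namespace Groth.Agent.Lib.RigClosedH3

open Ideal

section DescentAt

variable {A A' B B' : Type u} [CommRing A] [CommRing A'] [CommRing B] [CommRing B']

set_option maxHeartbeats 1600000 in
theorem RigFlatAt.descent [IsNoetherianRing A] [IsNoetherianRing A'] [IsNoetherianRing B]
    [IsNoetherianRing B']
    (I : Ideal A) (e : A) (IA' : Ideal A') (eA' : A') (K : Ideal B) (eB : B) (K' : Ideal B')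
    (eB' : B')
    (ρAB : Localization.Away e →+* Localization.Away eB)
    (ρAA' : Localization.Away e →+* Localization.Away eA')
    (ρBB' : Localization.Away eB →+* Localization.Away eB')
    (ρA'B' : Localization.Away eA' →+* Localization.Away eB')
    (hsq : ρBB'.comp ρAB = ρA'B'.comp ρAA')
    (h1 : (I.map (algebraMap A (Localization.Away e))).map ρAB =
      K.map (algebraMap B (Localization.Away eB)))
    (h2 : (I.map (algebraMap A (Localization.Away e))).map ρAA' =
      IA'.map (algebraMap A' (Localization.Away eA')))
    (h3 : (K.map (algebraMap B (Localization.Away eB))).map ρBB' =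
      K'.map (algebraMap B' (Localization.Away eB')))
    (h4 : (IA'.map (algebraMap A' (Localization.Away eA'))).map ρA'B' =
      K'.map (algebraMap B' (Localization.Away eB')))
    (hflatA : ρAA'.Flat) (hffB : ρBB'.FaithfullyFlat)
    (hA'B' : RigFlatAt IA' eA' K' eB' ρA'B') : RigFlatAt I e K eB ρAB := by
  intro ψ hψ q hq
  obtain ⟨α₁, hα₁⟩ := exists_adicCompletion_map ρAA' _ _ h2
  obtain ⟨β₁, hβ₁⟩ := exists_adicCompletion_map ρBB' _ _ h3
  obtain ⟨ψ', hψ'⟩ := exists_adicCompletion_map ρA'B' _ _ h4
  have hcompl' := isAdicComplete_map_adicCompletion (Localization.Away eB')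
    (K'.map (algebraMap B' (Localization.Away eB')))
  have hsq₁ : β₁.comp ψ = ψ'.comp α₁ := by
    have hc1 : (β₁.comp ψ).comp (algebraMap (Localization.Away e) _) =
        (algebraMap (Localization.Away eB') _).comp (ρBB'.comp ρAB) := by
      rw [RingHom.comp_assoc, hψ, ← RingHom.comp_assoc, hβ₁, RingHom.comp_assoc]
    have hc2 : (ψ'.comp α₁).comp (algebraMap (Localization.Away e) _) =
        (algebraMap (Localization.Away eB') _).comp (ρBB'.comp ρAB) := by
      rw [RingHom.comp_assoc, hα₁, ← RingHom.comp_assoc, hψ', RingHom.comp_assoc, hsq]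
    refine adicCompletion_ringHom_ext _ (IsNoetherian.noetherian _) _ _ (hc1.trans hc2.symm) ?_
    rw [hc1, ← Ideal.map_map, ← Ideal.map_map, h1, h3]
    exact hcompl'.toIsHausdorff
  have hα₁flat : α₁.Flat := flat_adicCompletion_map ρAA' hflatA _ _ h2 α₁ hα₁
  have hβ₁ff : β₁.FaithfullyFlat := faithfullyFlat_adicCompletion_map ρBB' hffB _ _ h3 β₁ hβ₁
  have hK₁ : ((K.map (algebraMap B (Localization.Away eB))).map
      (algebraMap (Localization.Away eB) (AdicCompletion (K.map (algebraMap B
        (Localization.Away eB))) (Localization.Away eB)))).map β₁ =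
      (K'.map (algebraMap B' (Localization.Away eB'))).map
        (algebraMap (Localization.Away eB') (AdicCompletion (K'.map (algebraMap B'
          (Localization.Away eB'))) (Localization.Away eB'))) := by
    rw [Ideal.map_map, hβ₁, ← Ideal.map_map, h3]
  -- a prime above `q`
  haveI : IsNoetherianRing (AdicCompletion (K'.map (algebraMap B' (Localization.Away eB')))
      (Localization.Away eB')) :=
    Groth.Agent.Lib.ComplRegH3.isNoetherianRing_adicCompletion _ _
  obtain ⟨q'₀, hq'₀⟩ := (RingHom.FaithfullyFlat.iff_flat_and_comap_surjective.1 hβ₁ff).2 q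
  haveI := q'₀.isPrime
  have hq'₀I : q'₀.asIdeal.comap β₁ = q.asIdeal := by rw [← hq'₀]; rfl
  have hnot : ¬ (K'.map (algebraMap B' (Localization.Away eB'))).map
      (algebraMap (Localization.Away eB') (AdicCompletion (K'.map (algebraMap B'
        (Localization.Away eB'))) (Localization.Away eB'))) ≤ q'₀.asIdeal := by
    intro hle
    apply hq.1
    rw [← hq'₀I, ← Ideal.map_le_iff_le_comap, hK₁]
    exact hle
  obtain ⟨q', hq'ge, hq'rc⟩ := exists_rigClosed_ge _ q'₀.asIdeal hnot
  haveI := q'.isPrime
  haveI := q.isPrime
  have hq'comap : q.asIdeal = q'.asIdeal.comap β₁ := by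
    have hprime : (q'.asIdeal.comap β₁).IsPrime := Ideal.comap_isPrime _ _
    have hle : q.asIdeal ≤ q'.asIdeal.comap β₁ := by
      rw [← hq'₀I]
      exact Ideal.comap_mono hq'ge
    have hnot' : ¬ (K.map (algebraMap B (Localization.Away eB))).map
        (algebraMap (Localization.Away eB) (AdicCompletion (K.map (algebraMap B
          (Localization.Away eB))) (Localization.Away eB))) ≤ q'.asIdeal.comap β₁ := by
      intro hle'
      apply hq'rc.1
      rw [← hK₁, Ideal.map_le_iff_le_comap]
      exact hle'
    have h5 := hq.2 ⟨_, hprime⟩ hle hnot'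
    exact (congrArg PrimeSpectrum.asIdeal h5).symm
  -- flatness upstairs
  have hup := hA'B' ψ' hψ' q' hq'rc
  have hup2 : (((algebraMap _ (Localization.AtPrime q'.asIdeal)).comp ψ').comp α₁).Flat :=
    RingHom.Flat.comp hα₁flat hup
  rw [RingHom.comp_assoc, ← hsq₁, ← RingHom.comp_assoc] at hup2
  -- the local ring hom
  obtain ⟨lam, hlamdef⟩ : ∃ lam, lam = Localization.localRingHom q.asIdeal q'.asIdeal β₁
    hq'comap := ⟨_, rfl⟩
  have hlam : lam.comp (algebraMap _ (Localization.AtPrime q.asIdeal)) =
      (algebraMap _ (Localization.AtPrime q'.asIdeal)).comp β₁ := by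
    refine RingHom.ext fun x => ?_
    rw [hlamdef]
    exact Localization.localRingHom_to_map q.asIdeal q'.asIdeal β₁ hq'comap x
  have hlamflat : lam.Flat := by
    rw [hlamdef]
    exact RingHom.Flat.localRingHom hβ₁ff.flat q'.asIdeal q.asIdeal hq'comap
  have hlamloc : IsLocalHom lam := by
    rw [hlamdef]
    exact Localization.isLocalHom_localRingHom q.asIdeal q'.asIdeal β₁ hq'comap
  have hlamff : lam.FaithfullyFlat := by
    letI : Algebra (Localization.AtPrime q.asIdeal) (Localization.AtPrime q'.asIdeal) :=
      lam.toAlgebra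
    haveI : Module.Flat (Localization.AtPrime q.asIdeal) (Localization.AtPrime q'.asIdeal) :=
      hlamflat
    haveI : IsLocalHom (algebraMap (Localization.AtPrime q.asIdeal)
      (Localization.AtPrime q'.asIdeal)) := hlamloc
    show Module.FaithfullyFlat _ _
    exact Module.FaithfullyFlat.of_flat_of_isLocalHom
  rw [← hlam, RingHom.comp_assoc] at hup2
  exact flat_of_comp_faithfullyFlat _ lam hlamff hup2

end DescentAt

section Glue2

variable {A B A' B' : Type u} [CommRing A] [CommRing B] [CommRing A'] [CommRing B']
  [Algebra A B] [Algebra A A'] [Algebra A B'] [Algebra B B'] [Algebra A' B']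
  [IsScalarTower A B B'] [IsScalarTower A A' B']

set_option maxHeartbeats 1600000 in
theorem rigFlat_descent [IsNoetherianRing A] (I : Ideal A) [IsNoetherianRing B]
    [IsNoetherianRing A'] [IsNoetherianRing B'] [Module.Flat A A'] [Module.FaithfullyFlat B B']
    (hA'B' : ∀ f' : A', RigFlatAt (I.map (algebraMap A A')) f'
      ((I.map (algebraMap A A')).map (algebraMap A' B')) (algebraMap A' B' f')
      (Localization.awayMap (algebraMap A' B') f')) :
    ∀ f : A, RigFlatAt I f (I.map (algebraMap A B)) (algebraMap A B f)
      (Localization.awayMap (algebraMap A B) f) := by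
  intro f
  have heq : algebraMap B B' (algebraMap A B f) = algebraMap A' B' (algebraMap A A' f) := by
    rw [← IsScalarTower.algebraMap_apply A B B', ← IsScalarTower.algebraMap_apply A A' B']
  haveI : IsLocalization.Away (algebraMap B B' (algebraMap A B f))
      (Localization.Away (algebraMap A' B' (algebraMap A A' f))) := by
    rw [heq]
    infer_instance
  obtain ⟨ρBB', hρBB'def⟩ : ∃ ρ, ρ = IsLocalization.Away.map
      (Localization.Away (algebraMap A B f))
      (Localization.Away (algebraMap A' B' (algebraMap A A' f))) (algebraMap B B')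
      (algebraMap A B f) := ⟨_, rfl⟩
  have hffB : ρBB'.FaithfullyFlat := by
    rw [hρBB'def]
    exact RingHom.FaithfullyFlat.isStableUnderBaseChange.localizationPreserves.away
      (algebraMap B B') (algebraMap A B f) _ _
      (RingHom.faithfullyFlat_algebraMap_iff.2 inferInstance)
  have hρBB' : ρBB'.comp (algebraMap B (Localization.Away (algebraMap A B f))) =
      (algebraMap B' (Localization.Away (algebraMap A' B' (algebraMap A A' f)))).comp
        (algebraMap B B') := by
    rw [hρBB'def]
    exact IsLocalization.map_comp _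
  have hflatA : (Localization.awayMap (algebraMap A A') f).Flat :=
    RingHom.Flat.isStableUnderBaseChange.localizationPreserves.away (algebraMap A A') f _ _
      (RingHom.flat_algebraMap_iff.2 inferInstance)
  refine RigFlatAt.descent I f (I.map (algebraMap A A')) (algebraMap A A' f)
    (I.map (algebraMap A B)) (algebraMap A B f) ((I.map (algebraMap A A')).map (algebraMap A' B'))
    (algebraMap A' B' (algebraMap A A' f)) (Localization.awayMap (algebraMap A B) f)
    (Localization.awayMap (algebraMap A A') f) ρBB'
    (Localization.awayMap (algebraMap A' B') (algebraMap A A' f)) ?_ ?_ ?_ ?_ ?_ hflatA hffB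
    (hA'B' (algebraMap A A' f))
  · apply IsLocalization.ringHom_ext (Submonoid.powers f)
    have e1 : (ρBB'.comp (Localization.awayMap (algebraMap A B) f)).comp
        (algebraMap A (Localization.Away f)) =
        (algebraMap B' (Localization.Away (algebraMap A' B' (algebraMap A A' f)))).comp
          (algebraMap A B') := by
      rw [RingHom.comp_assoc, awayMap_comp_algebraMap, ← RingHom.comp_assoc, hρBB',
        RingHom.comp_assoc, ← IsScalarTower.algebraMap_eq A B B']
    have e2 : ((Localization.awayMap (algebraMap A' B') (algebraMap A A' f)).comp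
        (Localization.awayMap (algebraMap A A') f)).comp (algebraMap A (Localization.Away f)) =
        (algebraMap B' (Localization.Away (algebraMap A' B' (algebraMap A A' f)))).comp
          (algebraMap A B') := by
      rw [RingHom.comp_assoc, awayMap_comp_algebraMap, ← RingHom.comp_assoc,
        awayMap_comp_algebraMap, RingHom.comp_assoc, ← IsScalarTower.algebraMap_eq A A' B']
    exact e1.trans e2.symm
  · rw [Ideal.map_map, awayMap_comp_algebraMap, ← Ideal.map_map]
  · rw [Ideal.map_map, awayMap_comp_algebraMap, ← Ideal.map_map]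
  · rw [Ideal.map_map, hρBB', ← Ideal.map_map]
    congr 1
    rw [Ideal.map_map, Ideal.map_map, ← IsScalarTower.algebraMap_eq A B B',
      ← IsScalarTower.algebraMap_eq A A' B']
  · rw [Ideal.map_map, awayMap_comp_algebraMap, ← Ideal.map_map]

end Glue2

end Groth.Agent.Lib.RigClosedH3
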