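import Mathlib
import Groth.Agent.Lib.RigFlat4_helper3

/-!
Helper lemmas (helper3): rig-flat homomorphisms of adic Noetherian rings (base change along a flat
map which is étale modulo the ideal of definition; the fibre criterion at a rig-closed prime).
APPEND-ONLY once landed.
-/

set_option autoImplicit false
universe u

namespace Groth.Agent.Lib.RigClosedH3

open Ideal TensorProduct

section FC

/-- Fibre criterion of flatness when the fibre ring is a field, in ring hom form. -/
theorem flat_of_flat_comp_of_isMaximal_map {R₀ R S : Type u} [CommRing R₀] [CommRing R]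
    [CommRing S] [IsNoetherianRing R] [IsNoetherianRing S] (φ₀ : R₀ →+* R) (χ : R →+* S)
    (𝔭 : Ideal R₀) (hmax : (𝔭.map φ₀).IsMaximal) (hjac : (𝔭.map φ₀).map χ ≤ Ideal.jacobson ⊥)
    (hflat : (χ.comp φ₀).Flat) : χ.Flat := by
  letI : Algebra R₀ R := φ₀.toAlgebra
  letI : Algebra R S := χ.toAlgebra
  letI : Algebra R₀ S := (χ.comp φ₀).toAlgebra
  haveI : IsScalarTower R₀ R S := IsScalarTower.of_algebraMap_eq (fun _ => rfl)
  haveI : Module.Flat R₀ S := hflat
  show Module.Flat R S
  haveI : (𝔭.map (algebraMap R₀ R)).IsMaximal := hmax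
  letI : Field (R ⧸ 𝔭.map (algebraMap R₀ R)) := Ideal.Quotient.field _
  haveI : Module.Flat (R ⧸ 𝔭.map (algebraMap R₀ R)) ((R ⧸ 𝔭.map (algebraMap R₀ R)) ⊗[R] S) :=
    inferInstance
  exact Groth.Agent.Lib.LocalCrit3.flat_of_tor_of_flat_quot (𝔭.map (algebraMap R₀ R)) hjac S
    (Groth.Agent.Lib.LocalCrit2.rTensor_map_injective 𝔭 S)

end FC

section ThmN

variable {A B A' B' : Type u} [CommRing A] [CommRing B] [CommRing A'] [CommRing B']
  [Algebra A B] [Algebra A A'] [Algebra A B'] [Algebra B B'] [Algebra A' B']
  [IsScalarTower A B B'] [IsScalarTower A A' B']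

set_option maxHeartbeats 1600000 in
theorem flat_of_rigClosed_contraction [IsNoetherianRing A] (I : Ideal A) [IsAdicComplete I A]
    [IsNoetherianRing B] [IsNoetherianRing A'] [IsAdicComplete (I.map (algebraMap A A')) A']
    (hftA' : Algebra.FiniteType A (A' ⧸ I.map (algebraMap A A')))
    [IsNoetherianRing B'] [IsAdicComplete (I.map (algebraMap A B')) B']
    (hftB' : Algebra.FiniteType A (B' ⧸ I.map (algebraMap A B')))
    [Module.Flat B B'] [Algebra.FormallyUnramified A (A' ⧸ I.map (algebraMap A A'))]
    (hnaive : ∀ q : PrimeSpectrum B, IsRigClosed (I.map (algebraMap A B)) q →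
      (algebraMap A (Localization.AtPrime q.asIdeal)).Flat)
    (q' : PrimeSpectrum B') (hq' : IsRigClosed (I.map (algebraMap A B')) q')
    (hp : IsRigClosed I (PrimeSpectrum.comap (algebraMap A B') q')) :
    ((algebraMap B' (Localization.AtPrime q'.asIdeal)).comp (algebraMap A' B')).Flat := by
  haveI := q'.isPrime
  -- finiteness
  have hfinA : Module.Finite A (B' ⧸ q'.asIdeal) :=
    finite_quotient_of_residue_finite I q' hq'
      (fun m hm hqm => residue_finite_of_rigClosed_comap I hftB' q' hp m hm hqm)
  have hfinB : Module.Finite B (B' ⧸ q'.asIdeal) := Module.Finite.of_restrictScalars_finite A B _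
  -- `q`
  have hKK : (I.map (algebraMap A B)).map (algebraMap B B') = I.map (algebraMap A B') := by
    rw [Ideal.map_map, ← IsScalarTower.algebraMap_eq]
  have hq'' : IsRigClosed ((I.map (algebraMap A B)).map (algebraMap B B')) q' := by
    rw [hKK]
    exact hq'
  obtain ⟨q, hqdef⟩ : ∃ q : PrimeSpectrum B, q = PrimeSpectrum.comap (algebraMap B B') q' :=
    ⟨_, rfl⟩
  have hq : IsRigClosed (I.map (algebraMap A B)) q := by
    rw [hqdef]
    exact rigClosed_comap_of_finite (I.map (algebraMap A B)) q' hq'' hfinB
  have hqI : q.asIdeal = q'.asIdeal.comap (algebraMap B B') := by rw [hqdef]; rfl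
  haveI := q.isPrime
  -- flatness over `A`
  have h1 : ((algebraMap B (Localization.AtPrime q.asIdeal)).comp (algebraMap A B)).Flat := by
    have := hnaive q hq
    rwa [IsScalarTower.algebraMap_eq A B (Localization.AtPrime q.asIdeal)] at this
  have hμ : ((algebraMap B' (Localization.AtPrime q'.asIdeal)).comp (algebraMap B B')).Flat :=
    RingHom.Flat.comp (RingHom.flat_algebraMap_iff.2 inferInstance)
      (RingHom.flat_algebraMap_iff.2 inferInstance)
  have hu : ∀ b : B, b ∉ q.asIdeal →
      IsUnit (((algebraMap B' (Localization.AtPrime q'.asIdeal)).comp (algebraMap B B')) b) := by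
    intro b hb
    rw [hqI] at hb
    exact IsLocalization.map_units (Localization.AtPrime q'.asIdeal)
      (⟨algebraMap B B' b, hb⟩ : q'.asIdeal.primeCompl)
  have h2 := flat_comp_of_flat_localization (algebraMap A B) q.asIdeal h1 _ hμ hu
  -- the prime `p'`
  obtain ⟨p', hp'def⟩ : ∃ p' : PrimeSpectrum A', p' = PrimeSpectrum.comap (algebraMap A' B') q' :=
    ⟨_, rfl⟩
  haveI := p'.isPrime
  have hp'I : p'.asIdeal = q'.asIdeal.comap (algebraMap A' B') := by rw [hp'def]; rfl
  have hcc : PrimeSpectrum.comap (algebraMap A A') p' = PrimeSpectrum.comap (algebraMap A B') q' := by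
    apply PrimeSpectrum.ext
    show Ideal.comap (algebraMap A A') p'.asIdeal = Ideal.comap (algebraMap A B') q'.asIdeal
    rw [hp'I, Ideal.comap_comap, ← IsScalarTower.algebraMap_eq]
  have hp'' : IsRigClosed I (PrimeSpectrum.comap (algebraMap A A') p') := by
    rw [hcc]
    exact hp
  have hmaxeq := map_map_eq_maximalIdeal I hftA' p' hp''
  -- the local ring hom
  obtain ⟨lam, hlamdef⟩ : ∃ lam, lam = Localization.localRingHom p'.asIdeal q'.asIdeal
    (algebraMap A' B') hp'I := ⟨_, rfl⟩
  have hlam : lam.comp (algebraMap A' (Localization.AtPrime p'.asIdeal)) =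
      (algebraMap B' (Localization.AtPrime q'.asIdeal)).comp (algebraMap A' B') := by
    refine RingHom.ext fun x => ?_
    rw [hlamdef]
    exact Localization.localRingHom_to_map p'.asIdeal q'.asIdeal (algebraMap A' B') hp'I x
  haveI hlamloc : IsLocalHom lam := by
    rw [hlamdef]
    exact Localization.isLocalHom_localRingHom p'.asIdeal q'.asIdeal (algebraMap A' B') hp'I
  have hlamflat : lam.Flat := by
    refine flat_of_flat_comp_of_isMaximal_map
      ((algebraMap A' (Localization.AtPrime p'.asIdeal)).comp (algebraMap A A')) lam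
      (PrimeSpectrum.comap (algebraMap A A') p').asIdeal ?_ ?_ ?_
    · rw [← Ideal.map_map, hmaxeq]
      exact IsLocalRing.maximalIdeal.isMaximal _
    · rw [← Ideal.map_map, hmaxeq]
      exact (IsLocalRing.map_maximalIdeal_le lam).trans (IsLocalRing.maximalIdeal_le_jacobson ⊥)
    · rw [← RingHom.comp_assoc, hlam, RingHom.comp_assoc, ← IsScalarTower.algebraMap_eq A A' B',
        IsScalarTower.algebraMap_eq A B B', ← RingHom.comp_assoc]
      exact h2
  rw [← hlam]
  exact RingHom.Flat.comp (RingHom.flat_algebraMap_iff.2 inferInstance) hlamflat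

end ThmN

end Groth.Agent.Lib.RigClosedH3
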