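import Mathlib
import Groth.Agent.Lib.RigFlat5_helper3

/-!
Helper lemmas (helper3): completed principal localizations — finite type and formal unramifiedness
of the reduction, the extension of a rig-closed prime, maps between completed localizations.
APPEND-ONLY once landed.
-/

set_option autoImplicit false
universe u

namespace Groth.Agent.Lib.RigClosedH3

open Ideal

section FT

theorem finiteType_of_quotient {R S T : Type*} [CommRing R] [CommRing S] [CommRing T]
    [Algebra R S] [Algebra S T] [Algebra R T] [IsScalarTower R S T] (J : Ideal S)
    (hJ : J ≤ RingHom.ker (algebraMap S T)) (h1 : Algebra.FiniteType R (S ⧸ J))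
    (h2 : Algebra.FiniteType S T) : Algebra.FiniteType R T := by
  letI : Algebra (S ⧸ J) T := (Ideal.Quotient.lift J (algebraMap S T) (fun a ha => hJ ha)).toAlgebra
  haveI : IsScalarTower S (S ⧸ J) T := IsScalarTower.of_algebraMap_eq (fun s => rfl)
  haveI : IsScalarTower R (S ⧸ J) T := by
    refine IsScalarTower.of_algebraMap_eq (fun r => ?_)
    rw [IsScalarTower.algebraMap_apply R S T, IsScalarTower.algebraMap_apply R S (S ⧸ J)]
    rfl
  haveI : Algebra.FiniteType (S ⧸ J) T := Algebra.FiniteType.of_restrictScalars_finiteType S _ T
  exact Algebra.FiniteType.trans h1 inferInstance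

variable {R R' : Type u} [CommRing R] [CommRing R'] [Algebra R R'] [IsNoetherianRing R']

/-- `R'₁/J₁` is of finite type over `R` when `R'/J'` is, `R'₁` the completed localization. -/
theorem finiteType_completed_localization (J' : Ideal R')
    (hft : Algebra.FiniteType R (R' ⧸ J')) (r' : R') :
    Algebra.FiniteType R
      (AdicCompletion (J'.map (algebraMap R' (Localization.Away r'))) (Localization.Away r') ⧸
        (J'.map (algebraMap R' (Localization.Away r'))).map
          (algebraMap (Localization.Away r')
            (AdicCompletion (J'.map (algebraMap R' (Localization.Away r')))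
              (Localization.Away r')))) := by
  haveI : Algebra.FiniteType R' (Localization.Away r') :=
    IsLocalization.finiteType_of_monoid_fg (Submonoid.powers r') _
  have h2 := finiteType_adicCompletion_quotient (R := R') (S := Localization.Away r')
    (J'.map (algebraMap R' (Localization.Away r')))
  refine finiteType_of_quotient J' ?_ hft h2
  intro a ha
  rw [RingHom.mem_ker]
  have e : algebraMap R' (AdicCompletion (J'.map (algebraMap R' (Localization.Away r')))
      (Localization.Away r') ⧸ (J'.map (algebraMap R' (Localization.Away r'))).map
        (algebraMap (Localization.Away r') (AdicCompletion (J'.map (algebraMap R'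
          (Localization.Away r'))) (Localization.Away r')))) a =
      Ideal.Quotient.mk _ (algebraMap (Localization.Away r') (AdicCompletion (J'.map
        (algebraMap R' (Localization.Away r'))) (Localization.Away r'))
        (algebraMap R' (Localization.Away r') a)) := rfl
  rw [e, Ideal.Quotient.eq_zero_iff_mem]
  exact Ideal.mem_map_of_mem _ (Ideal.mem_map_of_mem _ ha)

end FT

section FU

variable {R R' : Type u} [CommRing R] [CommRing R'] [Algebra R R'] [IsNoetherianRing R']

set_option maxHeartbeats 800000 in
/-- `R'₁/J₁` is formally unramified over `R` when `R'/J'` is. -/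
theorem formallyUnramified_completed_localization (J' : Ideal R')
    [Algebra.FormallyUnramified R (R' ⧸ J')] (r' : R') :
    Algebra.FormallyUnramified R
      (AdicCompletion (J'.map (algebraMap R' (Localization.Away r'))) (Localization.Away r') ⧸
        (J'.map (algebraMap R' (Localization.Away r'))).map
          (algebraMap (Localization.Away r')
            (AdicCompletion (J'.map (algebraMap R' (Localization.Away r')))
              (Localization.Away r')))) := by
  obtain ⟨Jf, hJf⟩ : ∃ Jf : Ideal (Localization.Away r'),
      Jf = J'.map (algebraMap R' (Localization.Away r')) := ⟨_, rfl⟩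
  rw [← hJf]
  -- the ring map `R'/J' → T`
  have hker : ∀ a ∈ J', (algebraMap R' (AdicCompletion Jf (Localization.Away r') ⧸
      Jf.map (algebraMap (Localization.Away r') (AdicCompletion Jf (Localization.Away r'))))) a
      = 0 := by
    intro a ha
    have e : algebraMap R' (AdicCompletion Jf (Localization.Away r') ⧸
        Jf.map (algebraMap (Localization.Away r') (AdicCompletion Jf (Localization.Away r')))) a =
        Ideal.Quotient.mk _ (algebraMap (Localization.Away r') (AdicCompletion Jf
          (Localization.Away r')) (algebraMap R' (Localization.Away r') a)) := rfl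
    rw [e, Ideal.Quotient.eq_zero_iff_mem]
    refine Ideal.mem_map_of_mem _ ?_
    rw [hJf]
    exact Ideal.mem_map_of_mem _ ha
  let g : R' ⧸ J' →ₐ[R] (AdicCompletion Jf (Localization.Away r') ⧸
      Jf.map (algebraMap (Localization.Away r') (AdicCompletion Jf (Localization.Away r')))) :=
    Ideal.Quotient.liftₐ J' (IsScalarTower.toAlgHom R R' _) hker
  have hg : ∀ a : R', g (Ideal.Quotient.mk J' a) = Ideal.Quotient.mk _
      (algebraMap (Localization.Away r') (AdicCompletion Jf (Localization.Away r'))
        (algebraMap R' (Localization.Away r') a)) := fun a => rfl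
  have hu : IsUnit (g (Ideal.Quotient.mk J' r')) := by
    rw [hg]
    have h1 : IsUnit (algebraMap R' (Localization.Away r') r') :=
      IsLocalization.map_units (Localization.Away r')
        (⟨r', Submonoid.mem_powers r'⟩ : Submonoid.powers r')
    exact (h1.map (algebraMap (Localization.Away r') (AdicCompletion Jf
      (Localization.Away r')))).map (Ideal.Quotient.mk _)
  let lift₀ : Localization.Away (Ideal.Quotient.mk J' r') →+*
      (AdicCompletion Jf (Localization.Away r') ⧸
        Jf.map (algebraMap (Localization.Away r') (AdicCompletion Jf (Localization.Away r')))) :=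
    IsLocalization.Away.lift (S := Localization.Away (Ideal.Quotient.mk J' r'))
      (Ideal.Quotient.mk J' r') (g := (g : R' ⧸ J' →+* _)) hu
  have hlift₀ : ∀ x, lift₀ (algebraMap (R' ⧸ J') _ x) = g x :=
    fun x => IsLocalization.Away.lift_eq (Ideal.Quotient.mk J' r') hu x
  let liftA : Localization.Away (Ideal.Quotient.mk J' r') →ₐ[R]
      (AdicCompletion Jf (Localization.Away r') ⧸
        Jf.map (algebraMap (Localization.Away r') (AdicCompletion Jf (Localization.Away r')))) :=
    { lift₀ with
      commutes' := by
        intro r
        show lift₀ (algebraMap R _ r) = _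
        rw [IsScalarTower.algebraMap_apply R (R' ⧸ J')
          (Localization.Away (Ideal.Quotient.mk J' r')), hlift₀, AlgHom.commutes] }
  refine Algebra.FormallyUnramified.of_surjective liftA ?_
  intro x
  obtain ⟨y, rfl⟩ := Ideal.Quotient.mk_surjective x
  obtain ⟨z, hz⟩ := exists_sub_mem_map_adicCompletion (Localization.Away r') Jf y
  obtain ⟨n, a, ha⟩ := IsLocalization.Away.surj r' z
  -- `z * r'^n = a`
  have h1 : Ideal.Quotient.mk (Jf.map (algebraMap (Localization.Away r')
      (AdicCompletion Jf (Localization.Away r')))) y =
      Ideal.Quotient.mk _ (algebraMap (Localization.Away r') (AdicCompletion Jf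
        (Localization.Away r')) z) := by
    rw [Ideal.Quotient.eq]
    exact hz
  have h2 : lift₀ (algebraMap (R' ⧸ J') _ (Ideal.Quotient.mk J' a) *
      (IsLocalization.Away.invSelf (S := Localization.Away (Ideal.Quotient.mk J' r'))
        (Ideal.Quotient.mk J' r')) ^ n) =
      Ideal.Quotient.mk _ (algebraMap (Localization.Away r') (AdicCompletion Jf
        (Localization.Away r')) z) := by
    have hinv : lift₀ (IsLocalization.Away.invSelf
        (S := Localization.Away (Ideal.Quotient.mk J' r')) (Ideal.Quotient.mk J' r')) *
        g (Ideal.Quotient.mk J' r') = 1 := by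
      rw [← hlift₀, ← map_mul, mul_comm, IsLocalization.Away.mul_invSelf, map_one]
    rw [map_mul, map_pow, hlift₀, hg, ← ha, map_mul, map_mul, map_pow, map_pow]
    have e3 : Ideal.Quotient.mk (Jf.map (algebraMap (Localization.Away r')
        (AdicCompletion Jf (Localization.Away r')))) (algebraMap (Localization.Away r')
        (AdicCompletion Jf (Localization.Away r')) (algebraMap R' (Localization.Away r') r')) =
        g (Ideal.Quotient.mk J' r') := (hg r').symm
    rw [e3, mul_assoc, ← mul_pow, mul_comm (g _), hinv, one_pow, mul_one]
  exact ⟨_, h2.trans h1.symm⟩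

end FU

end Groth.Agent.Lib.RigClosedH3
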