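import Mathlib
import Groth.Agent.Lib.RigFlat6_helper3

/-!
Helper lemmas (helper3): completed principal localizations — the extension of a rig-closed prime,
maps between completed localizations and their uniqueness.
APPEND-ONLY once landed.
-/

set_option autoImplicit false
universe u

namespace Groth.Agent.Lib.RigClosedH3

open Ideal

section LemmaQ

variable {B : Type u} [CommRing B] [IsNoetherianRing B]

set_option maxHeartbeats 800000 in
/-- If `g` is a unit modulo the rig-closed prime `q`, then `q B_{g}` is a rig-closed prime of the
completed localization, and it contracts to `q`. -/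
theorem map_rigClosed_completed_localization (K : Ideal B) [IsAdicComplete K B]
    (q : PrimeSpectrum B) (hq : IsRigClosed K q) (g : B)
    (hg : IsUnit (Ideal.Quotient.mk q.asIdeal g)) :
    (q.asIdeal.map (algebraMap B (AdicCompletion (K.map (algebraMap B (Localization.Away g)))
      (Localization.Away g)))).IsPrime ∧
    (q.asIdeal.map (algebraMap B (AdicCompletion (K.map (algebraMap B (Localization.Away g)))
      (Localization.Away g)))).comap (algebraMap B _) = q.asIdeal ∧
    ∀ Q : PrimeSpectrum (AdicCompletion (K.map (algebraMap B (Localization.Away g)))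
      (Localization.Away g)),
      Q.asIdeal = q.asIdeal.map (algebraMap B (AdicCompletion (K.map (algebraMap B
        (Localization.Away g))) (Localization.Away g))) →
      IsRigClosed ((K.map (algebraMap B (Localization.Away g))).map
        (algebraMap (Localization.Away g) (AdicCompletion (K.map (algebraMap B
          (Localization.Away g))) (Localization.Away g)))) Q := by
  haveI := q.isPrime
  obtain ⟨Jf, hJf⟩ : ∃ Jf : Ideal (Localization.Away g),
      Jf = K.map (algebraMap B (Localization.Away g)) := ⟨_, rfl⟩
  rw [← hJf]
  haveI hDcompl : IsAdicComplete (K.map (Ideal.Quotient.mk q.asIdeal)) (B ⧸ q.asIdeal) :=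
    isAdicComplete_quotient K q.asIdeal
  let θ₀ : Localization.Away g →+* B ⧸ q.asIdeal :=
    IsLocalization.Away.lift (S := Localization.Away g) g hg
  have hθ₀comp : θ₀.comp (algebraMap B (Localization.Away g)) = Ideal.Quotient.mk q.asIdeal :=
    IsLocalization.Away.lift_comp g hg
  have hθ₀eq : ∀ b, θ₀ (algebraMap B (Localization.Away g) b) = Ideal.Quotient.mk q.asIdeal b :=
    fun b => IsLocalization.Away.lift_eq g hg b
  have hJfmap : Jf.map θ₀ = K.map (Ideal.Quotient.mk q.asIdeal) := by
    rw [hJf, Ideal.map_map, hθ₀comp]
  haveI : IsAdicComplete (Jf.map θ₀) (B ⧸ q.asIdeal) := by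
    rw [hJfmap]
    exact hDcompl
  have hθ₀surj : Function.Surjective θ₀ := by
    intro d
    obtain ⟨b, rfl⟩ := Ideal.Quotient.mk_surjective d
    exact ⟨_, hθ₀eq b⟩
  have hkerθ₀ : RingHom.ker θ₀ = q.asIdeal.map (algebraMap B (Localization.Away g)) :=
    ker_away_lift g q.asIdeal (Ideal.Quotient.mk q.asIdeal) Ideal.mk_ker hg
  obtain ⟨θ, hθdef⟩ : ∃ θ : AdicCompletion Jf (Localization.Away g) →+* B ⧸ q.asIdeal,
      θ = theta Jf θ₀ := ⟨_, rfl⟩
  have hθof : ∀ b : B, θ (algebraMap B (AdicCompletion Jf (Localization.Away g)) b) =
      Ideal.Quotient.mk q.asIdeal b := by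
    intro b
    have e : algebraMap B (AdicCompletion Jf (Localization.Away g)) b =
        algebraMap (Localization.Away g) (AdicCompletion Jf (Localization.Away g))
          (algebraMap B (Localization.Away g) b) := rfl
    rw [e, hθdef, theta_of, hθ₀eq]
  have hθsurj : Function.Surjective θ := by
    rw [hθdef]
    exact theta_surjective Jf θ₀ hθ₀surj
  have hkerθ : RingHom.ker θ =
      q.asIdeal.map (algebraMap B (AdicCompletion Jf (Localization.Away g))) := by
    have h1 := ker_theta Jf θ₀ hθ₀surj
    rw [hkerθ₀, Ideal.map_map] at h1
    rw [hθdef]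
    exact h1
  rw [← hkerθ]
  refine ⟨RingHom.ker_isPrime θ, ?_, ?_⟩
  · ext b
    rw [Ideal.mem_comap, RingHom.mem_ker, hθof, Ideal.Quotient.eq_zero_iff_mem]
  · intro Q hQ
    haveI := Q.isPrime
    have hKmap : (Jf.map (algebraMap (Localization.Away g)
        (AdicCompletion Jf (Localization.Away g)))).map θ =
        K.map (Ideal.Quotient.mk q.asIdeal) := by
      rw [Ideal.map_map]
      have e : θ.comp (algebraMap (Localization.Away g)
          (AdicCompletion Jf (Localization.Away g))) = θ₀ := by
        rw [hθdef]
        exact theta_comp Jf θ₀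
      rw [e, hJfmap]
    constructor
    · intro hle
      apply map_ne_bot hq
      rw [← hKmap, eq_bot_iff, Ideal.map_le_iff_le_comap]
      refine hle.trans ?_
      rw [hQ]
      intro x hx
      rw [Ideal.mem_comap, Ideal.mem_bot]
      exact hx
    · intro y hy hKy
      haveI := y.isPrime
      have hQy : RingHom.ker θ ≤ y.asIdeal := by
        rw [← hQ]
        exact hy
      haveI hprime : (y.asIdeal.map θ).IsPrime := Ideal.map_isPrime_of_surjective hθsurj hQy
      have hcm : (y.asIdeal.map θ).comap θ = y.asIdeal := by
        rw [Ideal.comap_map_of_surjective θ hθsurj, ← RingHom.ker_eq_comap_bot]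
        exact sup_eq_left.2 hQy
      have hbot : y.asIdeal.map θ = ⊥ := by
        by_contra hne
        apply hKy
        have h1 := map_le_of_ne_bot hq (y.asIdeal.map θ) hne
        rw [← hKmap, Ideal.map_le_iff_le_comap, hcm] at h1
        exact h1
      apply PrimeSpectrum.ext
      rw [hQ]
      apply le_antisymm
      · rw [← hcm, hbot]
        intro x hx
        rw [RingHom.mem_ker]
        exact hx
      · exact hQy

end LemmaQ

section Maps

variable {R R' : Type u} [CommRing R] [CommRing R']

theorem exists_completed_map [IsNoetherianRing R'] (φ : R →+* R') (J : Ideal R) (J' : Ideal R')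
    (hJ : J.map φ = J') (r : R) (r' : R') (hr : φ r = r') :
    ∃ ρ : Localization.Away r →+* Localization.Away r',
      ρ.comp (algebraMap R (Localization.Away r)) = (algebraMap R' (Localization.Away r')).comp φ ∧
      (J.map (algebraMap R (Localization.Away r))).map ρ =
        J'.map (algebraMap R' (Localization.Away r')) ∧
      ∃ ψ : AdicCompletion (J.map (algebraMap R (Localization.Away r))) (Localization.Away r) →+*
          AdicCompletion (J'.map (algebraMap R' (Localization.Away r'))) (Localization.Away r'),
        ψ.comp (algebraMap (Localization.Away r)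
          (AdicCompletion (J.map (algebraMap R (Localization.Away r))) (Localization.Away r))) =
        (algebraMap (Localization.Away r')
          (AdicCompletion (J'.map (algebraMap R' (Localization.Away r')))
            (Localization.Away r'))).comp ρ := by
  have hu : IsUnit (((algebraMap R' (Localization.Away r')).comp φ) r) := by
    rw [RingHom.comp_apply, hr]
    exact IsLocalization.map_units (Localization.Away r')
      (⟨r', Submonoid.mem_powers r'⟩ : Submonoid.powers r')
  obtain ⟨ρ, hρdef⟩ : ∃ ρ : Localization.Away r →+* Localization.Away r',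
      ρ = IsLocalization.Away.lift (S := Localization.Away r) r hu := ⟨_, rfl⟩
  have hρ : ρ.comp (algebraMap R (Localization.Away r)) =
      (algebraMap R' (Localization.Away r')).comp φ := by
    rw [hρdef]
    exact IsLocalization.Away.lift_comp r hu
  have hJρ : (J.map (algebraMap R (Localization.Away r))).map ρ =
      J'.map (algebraMap R' (Localization.Away r')) := by
    rw [Ideal.map_map, hρ, ← Ideal.map_map, hJ]
  obtain ⟨ψ, hψ⟩ := exists_adicCompletion_map ρ (J.map (algebraMap R (Localization.Away r)))
    (J'.map (algebraMap R' (Localization.Away r'))) hJρ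
  exact ⟨ρ, hρ, hJρ, ψ, hψ⟩

/-- Ring maps out of a completed localization into a Hausdorff ring are determined by their
restriction to the base ring. -/
theorem completed_ringHom_ext [IsNoetherianRing R] {T : Type*} [CommRing T] (J : Ideal R) (r : R)
    (ψ₁ ψ₂ : AdicCompletion (J.map (algebraMap R (Localization.Away r))) (Localization.Away r)
      →+* T)
    (h : ψ₁.comp (algebraMap R _) = ψ₂.comp (algebraMap R _))
    (hH : IsHausdorff (J.map (ψ₁.comp (algebraMap R (AdicCompletion
      (J.map (algebraMap R (Localization.Away r))) (Localization.Away r))))) T) : ψ₁ = ψ₂ := by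
  have e : (algebraMap R (AdicCompletion (J.map (algebraMap R (Localization.Away r)))
      (Localization.Away r))) = (algebraMap (Localization.Away r) _).comp
        (algebraMap R (Localization.Away r)) := rfl
  rw [e] at h hH
  have h' : ψ₁.comp (algebraMap (Localization.Away r) _) =
      ψ₂.comp (algebraMap (Localization.Away r) _) := by
    apply IsLocalization.ringHom_ext (Submonoid.powers r)
    rw [RingHom.comp_assoc, RingHom.comp_assoc]
    exact h
  refine adicCompletion_ringHom_ext _ (IsNoetherian.noetherian _) ψ₁ ψ₂ h' ?_
  rw [Ideal.map_map, RingHom.comp_assoc]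
  exact hH

end Maps

end Groth.Agent.Lib.RigClosedH3
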