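import Mathlib
import Groth.Agent.Lib.RigFlat7_helper3

/-!
Helper lemmas (helper3): rig-flatness is preserved by base change along a flat map which is
formally unramified modulo the ideal of definition (abstract naive form).
APPEND-ONLY once landed.
-/

set_option autoImplicit false
universe u

namespace Groth.Agent.Lib.RigClosedH3

open Ideal

section BaseCompat

variable {R R' : Type u} [CommRing R] [CommRing R']

theorem completed_base_compat (φ : R →+* R') (J : Ideal R) (J' : Ideal R') (r : R) (r' : R')
    (ρ : Localization.Away r →+* Localization.Away r')
    (hρ : ρ.comp (algebraMap R (Localization.Away r)) =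
      (algebraMap R' (Localization.Away r')).comp φ)
    (ψ : AdicCompletion (J.map (algebraMap R (Localization.Away r))) (Localization.Away r) →+*
      AdicCompletion (J'.map (algebraMap R' (Localization.Away r'))) (Localization.Away r'))
    (hψ : ψ.comp (algebraMap (Localization.Away r)
        (AdicCompletion (J.map (algebraMap R (Localization.Away r))) (Localization.Away r))) =
      (algebraMap (Localization.Away r')
        (AdicCompletion (J'.map (algebraMap R' (Localization.Away r')))
          (Localization.Away r'))).comp ρ) :
    ψ.comp (algebraMap R
      (AdicCompletion (J.map (algebraMap R (Localization.Away r))) (Localization.Away r))) =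
    (algebraMap R' (AdicCompletion (J'.map (algebraMap R' (Localization.Away r')))
      (Localization.Away r'))).comp φ := by
  show ψ.comp ((algebraMap (Localization.Away r) _).comp (algebraMap R (Localization.Away r))) =
    ((algebraMap (Localization.Away r') _).comp (algebraMap R' (Localization.Away r'))).comp φ
  rw [← RingHom.comp_assoc, hψ, RingHom.comp_assoc, hρ, ← RingHom.comp_assoc]

theorem map_algebraMap_completed (J : Ideal R) (r : R) :
    J.map (algebraMap R (AdicCompletion (J.map (algebraMap R (Localization.Away r)))
      (Localization.Away r))) =
    (J.map (algebraMap R (Localization.Away r))).map (algebraMap (Localization.Away r)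
      (AdicCompletion (J.map (algebraMap R (Localization.Away r))) (Localization.Away r))) :=
  (Ideal.map_map (algebraMap R (Localization.Away r)) (algebraMap (Localization.Away r)
    (AdicCompletion (J.map (algebraMap R (Localization.Away r))) (Localization.Away r)))).symm

end BaseCompat

section ThmR

variable {A B A' B' : Type u} [CommRing A] [CommRing B] [CommRing A'] [CommRing B']
  [Algebra A B] [Algebra A A'] [Algebra A B'] [Algebra B B'] [Algebra A' B']
  [IsScalarTower A B B'] [IsScalarTower A A' B']

set_option maxHeartbeats 3200000 in
theorem flat_of_rigFlat_of_unramified_mod [IsNoetherianRing A] (I : Ideal A) [IsAdicComplete I A]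
    [IsNoetherianRing B] [IsNoetherianRing A'] [IsNoetherianRing B']
    [IsAdicComplete (I.map (algebraMap A B')) B']
    (hftA' : Algebra.FiniteType A (A' ⧸ I.map (algebraMap A A')))
    (hftB' : Algebra.FiniteType A (B' ⧸ I.map (algebraMap A B')))
    [Module.Flat A A'] [Module.Flat B B']
    [Algebra.FormallyUnramified A (A' ⧸ I.map (algebraMap A A'))]
    (hAB : ∀ f : A, RigFlatAt I f (I.map (algebraMap A B)) (algebraMap A B f)
      (Localization.awayMap (algebraMap A B) f))
    (q' : PrimeSpectrum B') (hq' : IsRigClosed (I.map (algebraMap A B')) q') :
    ((algebraMap B' (Localization.AtPrime q'.asIdeal)).comp (algebraMap A' B')).Flat := by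
  haveI := q'.isPrime
  obtain ⟨f, hfu, hf⟩ := exists_away_rigClosed I hftB' q' hq'
  -- abbreviations (as `obtain`ed variables with defining equations, for the ideals only)
  have heBB' : algebraMap B B' (algebraMap A B f) = algebraMap A B' f :=
    (IsScalarTower.algebraMap_apply A B B' f).symm
  have heA'B' : algebraMap A' B' (algebraMap A A' f) = algebraMap A B' f :=
    (IsScalarTower.algebraMap_apply A A' B' f).symm
  have hIBB' : (I.map (algebraMap A B)).map (algebraMap B B') = I.map (algebraMap A B') := by
    rw [Ideal.map_map, ← IsScalarTower.algebraMap_eq]
  have hIA'B' : (I.map (algebraMap A A')).map (algebraMap A' B') = I.map (algebraMap A B') := by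
    rw [Ideal.map_map, ← IsScalarTower.algebraMap_eq]
  -- Noetherian instances
  haveI : IsNoetherianRing (AdicCompletion (I.map (algebraMap A (Localization.Away f)))
      (Localization.Away f)) := Groth.Agent.Lib.ComplRegH3.isNoetherianRing_adicCompletion _ _
  haveI : IsNoetherianRing (AdicCompletion ((I.map (algebraMap A B)).map
      (algebraMap B (Localization.Away (algebraMap A B f))))
      (Localization.Away (algebraMap A B f))) :=
    Groth.Agent.Lib.ComplRegH3.isNoetherianRing_adicCompletion _ _
  haveI : IsNoetherianRing (AdicCompletion ((I.map (algebraMap A A')).map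
      (algebraMap A' (Localization.Away (algebraMap A A' f))))
      (Localization.Away (algebraMap A A' f))) :=
    Groth.Agent.Lib.ComplRegH3.isNoetherianRing_adicCompletion _ _
  haveI : IsNoetherianRing (AdicCompletion ((I.map (algebraMap A B')).map
      (algebraMap B' (Localization.Away (algebraMap A B' f))))
      (Localization.Away (algebraMap A B' f))) :=
    Groth.Agent.Lib.ComplRegH3.isNoetherianRing_adicCompletion _ _
  -- the maps of localizations and of completions
  have hJAB : (I.map (algebraMap A (Localization.Away f))).map
      (Localization.awayMap (algebraMap A B) f) =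
      (I.map (algebraMap A B)).map (algebraMap B (Localization.Away (algebraMap A B f))) := by
    rw [Ideal.map_map, awayMap_comp_algebraMap, ← Ideal.map_map]
  obtain ⟨ψAB, hψAB⟩ := exists_adicCompletion_map (Localization.awayMap (algebraMap A B) f) _ _ hJAB
  have hJAA' : (I.map (algebraMap A (Localization.Away f))).map
      (Localization.awayMap (algebraMap A A') f) =
      (I.map (algebraMap A A')).map (algebraMap A' (Localization.Away (algebraMap A A' f))) := by
    rw [Ideal.map_map, awayMap_comp_algebraMap, ← Ideal.map_map]
  obtain ⟨ψAA', hψAA'⟩ :=
    exists_adicCompletion_map (Localization.awayMap (algebraMap A A') f) _ _ hJAA'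
  have hJAB' : (I.map (algebraMap A (Localization.Away f))).map
      (Localization.awayMap (algebraMap A B') f) =
      (I.map (algebraMap A B')).map (algebraMap B' (Localization.Away (algebraMap A B' f))) := by
    rw [Ideal.map_map, awayMap_comp_algebraMap, ← Ideal.map_map]
  obtain ⟨ψAB', hψAB'⟩ :=
    exists_adicCompletion_map (Localization.awayMap (algebraMap A B') f) _ _ hJAB'
  obtain ⟨ρBB', hρBB', hJBB', ψBB', hψBB'⟩ := exists_completed_map (algebraMap B B')
    (I.map (algebraMap A B)) (I.map (algebraMap A B')) hIBB' (algebraMap A B f)
    (algebraMap A B' f) heBB'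
  obtain ⟨ρA'B', hρA'B', hJA'B', ψA'B', hψA'B'⟩ := exists_completed_map (algebraMap A' B')
    (I.map (algebraMap A A')) (I.map (algebraMap A B')) hIA'B' (algebraMap A A' f)
    (algebraMap A B' f) heA'B'
  -- base compatibilities
  have hbAB := completed_base_compat (algebraMap A B) I (I.map (algebraMap A B)) f
    (algebraMap A B f) _ (awayMap_comp_algebraMap _ _) ψAB hψAB
  have hbAA' := completed_base_compat (algebraMap A A') I (I.map (algebraMap A A')) f
    (algebraMap A A' f) _ (awayMap_comp_algebraMap _ _) ψAA' hψAA'
  have hbAB' := completed_base_compat (algebraMap A B') I (I.map (algebraMap A B')) f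
    (algebraMap A B' f) _ (awayMap_comp_algebraMap _ _) ψAB' hψAB'
  have hbBB' := completed_base_compat (algebraMap B B') (I.map (algebraMap A B))
    (I.map (algebraMap A B')) (algebraMap A B f) (algebraMap A B' f) ρBB' hρBB' ψBB' hψBB'
  have hbA'B' := completed_base_compat (algebraMap A' B') (I.map (algebraMap A A'))
    (I.map (algebraMap A B')) (algebraMap A A' f) (algebraMap A B' f) ρA'B' hρA'B' ψA'B' hψA'B'
  -- completeness of `B'₁`
  have hcB' := isAdicComplete_map_adicCompletion (Localization.Away (algebraMap A B' f))
    ((I.map (algebraMap A B')).map (algebraMap B' (Localization.Away (algebraMap A B' f))))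
  have hcA' := isAdicComplete_map_adicCompletion (Localization.Away (algebraMap A A' f))
    ((I.map (algebraMap A A')).map (algebraMap A' (Localization.Away (algebraMap A A' f))))
  have hcA := isAdicComplete_map_adicCompletion (Localization.Away f)
    (I.map (algebraMap A (Localization.Away f)))
  -- the two squares
  have hsq1 : ψBB'.comp ψAB = ψAB' := by
    have hc : (ψBB'.comp ψAB).comp (algebraMap A _) = ψAB'.comp (algebraMap A _) := by
      rw [RingHom.comp_assoc, hbAB, ← RingHom.comp_assoc, hbBB', RingHom.comp_assoc,
        ← IsScalarTower.algebraMap_eq A B B', hbAB']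
    refine completed_ringHom_ext I f _ _ hc ?_
    rw [hc, hbAB', ← Ideal.map_map, map_algebraMap_completed]
    exact hcB'.toIsHausdorff
  have hsq2 : ψA'B'.comp ψAA' = ψAB' := by
    have hc : (ψA'B'.comp ψAA').comp (algebraMap A _) = ψAB'.comp (algebraMap A _) := by
      rw [RingHom.comp_assoc, hbAA', ← RingHom.comp_assoc, hbA'B', RingHom.comp_assoc,
        ← IsScalarTower.algebraMap_eq A A' B', hbAB']
    refine completed_ringHom_ext I f _ _ hc ?_
    rw [hc, hbAB', ← Ideal.map_map, map_algebraMap_completed]
    exact hcB'.toIsHausdorff
  -- algebra structures
  letI algAB : Algebra (AdicCompletion (I.map (algebraMap A (Localization.Away f)))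
      (Localization.Away f)) (AdicCompletion ((I.map (algebraMap A B)).map
      (algebraMap B (Localization.Away (algebraMap A B f))))
      (Localization.Away (algebraMap A B f))) := ψAB.toAlgebra
  letI algAA' : Algebra (AdicCompletion (I.map (algebraMap A (Localization.Away f)))
      (Localization.Away f)) (AdicCompletion ((I.map (algebraMap A A')).map
      (algebraMap A' (Localization.Away (algebraMap A A' f))))
      (Localization.Away (algebraMap A A' f))) := ψAA'.toAlgebra
  letI algAB' : Algebra (AdicCompletion (I.map (algebraMap A (Localization.Away f)))
      (Localization.Away f)) (AdicCompletion ((I.map (algebraMap A B')).map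
      (algebraMap B' (Localization.Away (algebraMap A B' f))))
      (Localization.Away (algebraMap A B' f))) := ψAB'.toAlgebra
  letI algBB' : Algebra (AdicCompletion ((I.map (algebraMap A B)).map
      (algebraMap B (Localization.Away (algebraMap A B f))))
      (Localization.Away (algebraMap A B f))) (AdicCompletion ((I.map (algebraMap A B')).map
      (algebraMap B' (Localization.Away (algebraMap A B' f))))
      (Localization.Away (algebraMap A B' f))) := ψBB'.toAlgebra
  letI algA'B' : Algebra (AdicCompletion ((I.map (algebraMap A A')).map
      (algebraMap A' (Localization.Away (algebraMap A A' f))))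
      (Localization.Away (algebraMap A A' f))) (AdicCompletion ((I.map (algebraMap A B')).map
      (algebraMap B' (Localization.Away (algebraMap A B' f))))
      (Localization.Away (algebraMap A B' f))) := ψA'B'.toAlgebra
  haveI tw1 : IsScalarTower (AdicCompletion (I.map (algebraMap A (Localization.Away f)))
      (Localization.Away f)) (AdicCompletion ((I.map (algebraMap A B)).map
      (algebraMap B (Localization.Away (algebraMap A B f))))
      (Localization.Away (algebraMap A B f))) (AdicCompletion ((I.map (algebraMap A B')).map
      (algebraMap B' (Localization.Away (algebraMap A B' f))))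
      (Localization.Away (algebraMap A B' f))) := IsScalarTower.of_algebraMap_eq' hsq1.symm
  haveI tw2 : IsScalarTower (AdicCompletion (I.map (algebraMap A (Localization.Away f)))
      (Localization.Away f)) (AdicCompletion ((I.map (algebraMap A A')).map
      (algebraMap A' (Localization.Away (algebraMap A A' f))))
      (Localization.Away (algebraMap A A' f))) (AdicCompletion ((I.map (algebraMap A B')).map
      (algebraMap B' (Localization.Away (algebraMap A B' f))))
      (Localization.Away (algebraMap A B' f))) := IsScalarTower.of_algebraMap_eq' hsq2.symm
  -- towers over `A`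
  haveI tw3 : IsScalarTower A (AdicCompletion (I.map (algebraMap A (Localization.Away f)))
      (Localization.Away f)) (AdicCompletion ((I.map (algebraMap A A')).map
      (algebraMap A' (Localization.Away (algebraMap A A' f))))
      (Localization.Away (algebraMap A A' f))) := by
    refine IsScalarTower.of_algebraMap_eq' ?_
    show _ = ψAA'.comp _
    rw [hbAA']
    exact IsScalarTower.algebraMap_eq A A' _
  haveI tw4 : IsScalarTower A (AdicCompletion (I.map (algebraMap A (Localization.Away f)))
      (Localization.Away f)) (AdicCompletion ((I.map (algebraMap A B')).map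
      (algebraMap B' (Localization.Away (algebraMap A B' f))))
      (Localization.Away (algebraMap A B' f))) := by
    refine IsScalarTower.of_algebraMap_eq' ?_
    show _ = ψAB'.comp _
    rw [hbAB']
    rfl
  -- the ideal `I₁` and its extensions
  obtain ⟨I₁, hI₁⟩ : ∃ I₁ : Ideal (AdicCompletion (I.map (algebraMap A (Localization.Away f)))
      (Localization.Away f)), I₁ = (I.map (algebraMap A (Localization.Away f))).map
      (algebraMap (Localization.Away f) _) := ⟨_, rfl⟩
  have hI₁B : I₁.map ψAB = ((I.map (algebraMap A B)).map
      (algebraMap B (Localization.Away (algebraMap A B f)))).map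
      (algebraMap (Localization.Away (algebraMap A B f)) _) := by
    rw [hI₁, Ideal.map_map (algebraMap (Localization.Away f) _) ψAB, hψAB, ← Ideal.map_map, hJAB]
  have hI₁A' : I₁.map ψAA' = ((I.map (algebraMap A A')).map
      (algebraMap A' (Localization.Away (algebraMap A A' f)))).map
      (algebraMap (Localization.Away (algebraMap A A' f)) _) := by
    rw [hI₁, Ideal.map_map (algebraMap (Localization.Away f) _) ψAA', hψAA', ← Ideal.map_map, hJAA']
  have hI₁B' : I₁.map ψAB' = ((I.map (algebraMap A B')).map
      (algebraMap B' (Localization.Away (algebraMap A B' f)))).map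
      (algebraMap (Localization.Away (algebraMap A B' f)) _) := by
    rw [hI₁, Ideal.map_map (algebraMap (Localization.Away f) _) ψAB', hψAB', ← Ideal.map_map, hJAB']
  haveI hc1 : IsAdicComplete I₁ (AdicCompletion (I.map (algebraMap A (Localization.Away f)))
      (Localization.Away f)) := by
    rw [hI₁]
    exact hcA
  haveI hc2 : IsAdicComplete (I₁.map (algebraMap (AdicCompletion (I.map (algebraMap A
      (Localization.Away f))) (Localization.Away f)) (AdicCompletion ((I.map
      (algebraMap A A')).map (algebraMap A' (Localization.Away (algebraMap A A' f))))
      (Localization.Away (algebraMap A A' f))))) (AdicCompletion ((I.map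
      (algebraMap A A')).map (algebraMap A' (Localization.Away (algebraMap A A' f))))
      (Localization.Away (algebraMap A A' f))) := by
    show IsAdicComplete (I₁.map ψAA') _
    rw [hI₁A']
    exact hcA'
  haveI hc3 : IsAdicComplete (I₁.map (algebraMap (AdicCompletion (I.map (algebraMap A
      (Localization.Away f))) (Localization.Away f)) (AdicCompletion ((I.map
      (algebraMap A B')).map (algebraMap B' (Localization.Away (algebraMap A B' f))))
      (Localization.Away (algebraMap A B' f))))) (AdicCompletion ((I.map
      (algebraMap A B')).map (algebraMap B' (Localization.Away (algebraMap A B' f))))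
      (Localization.Away (algebraMap A B' f))) := by
    show IsAdicComplete (I₁.map ψAB') _
    rw [hI₁B']
    exact hcB'
  -- finite type
  have hftA'₁ : Algebra.FiniteType (AdicCompletion (I.map (algebraMap A (Localization.Away f)))
      (Localization.Away f)) (AdicCompletion ((I.map (algebraMap A A')).map
      (algebraMap A' (Localization.Away (algebraMap A A' f))))
      (Localization.Away (algebraMap A A' f)) ⧸ I₁.map ψAA') := by
    have h := finiteType_completed_localization (R := A) (R' := A') (I.map (algebraMap A A'))
      hftA' (algebraMap A A' f)
    rw [← hI₁A'] at h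
    haveI := h
    exact Algebra.FiniteType.of_restrictScalars_finiteType A _ _
  have hftB'₁ : Algebra.FiniteType (AdicCompletion (I.map (algebraMap A (Localization.Away f)))
      (Localization.Away f)) (AdicCompletion ((I.map (algebraMap A B')).map
      (algebraMap B' (Localization.Away (algebraMap A B' f))))
      (Localization.Away (algebraMap A B' f)) ⧸ I₁.map ψAB') := by
    have h := finiteType_completed_localization (R := A) (R' := B') (I.map (algebraMap A B'))
      hftB' (algebraMap A B' f)
    rw [← hI₁B'] at h
    haveI := h
    exact Algebra.FiniteType.of_restrictScalars_finiteType A _ _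
  haveI hunr : Algebra.FormallyUnramified (AdicCompletion (I.map (algebraMap A
      (Localization.Away f))) (Localization.Away f)) (AdicCompletion ((I.map (algebraMap A A')).map
      (algebraMap A' (Localization.Away (algebraMap A A' f))))
      (Localization.Away (algebraMap A A' f)) ⧸ I₁.map ψAA') := by
    have h := formallyUnramified_completed_localization (R := A) (R' := A')
      (I.map (algebraMap A A')) (algebraMap A A' f)
    rw [← hI₁A'] at h
    haveI := h
    exact Algebra.FormallyUnramified.of_restrictScalars A _ _
  -- flatness of `B₁ → B'₁`
  haveI hflatBB' : Module.Flat (AdicCompletion ((I.map (algebraMap A B)).map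
      (algebraMap B (Localization.Away (algebraMap A B f))))
      (Localization.Away (algebraMap A B f))) (AdicCompletion ((I.map (algebraMap A B')).map
      (algebraMap B' (Localization.Away (algebraMap A B' f))))
      (Localization.Away (algebraMap A B' f))) := by
    have hρflat : ρBB'.Flat := by
      haveI : IsLocalization.Away (algebraMap B B' (algebraMap A B f))
          (Localization.Away (algebraMap A B' f)) := by
        rw [heBB']
        infer_instance
      have h1 : (IsLocalization.Away.map (Localization.Away (algebraMap A B f))
          (Localization.Away (algebraMap A B' f)) (algebraMap B B') (algebraMap A B f)).Flat :=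
        RingHom.Flat.isStableUnderBaseChange.localizationPreserves.away (algebraMap B B')
          (algebraMap A B f) _ _ (RingHom.flat_algebraMap_iff.2 inferInstance)
      have e : ρBB' = IsLocalization.Away.map (Localization.Away (algebraMap A B f))
          (Localization.Away (algebraMap A B' f)) (algebraMap B B') (algebraMap A B f) := by
        apply IsLocalization.ringHom_ext (Submonoid.powers (algebraMap A B f))
        rw [hρBB']
        exact (IsLocalization.map_comp _).symm
      rw [e]
      exact h1
    exact flat_adicCompletion_map ρBB' hρflat _ _ hJBB' ψBB' hψBB'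
  -- naive rig-flatness of `A₁ → B₁`
  have hnaive₁ : ∀ q : PrimeSpectrum (AdicCompletion ((I.map (algebraMap A B)).map
      (algebraMap B (Localization.Away (algebraMap A B f))))
      (Localization.Away (algebraMap A B f))),
      IsRigClosed (I₁.map ψAB) q →
      (algebraMap (AdicCompletion (I.map (algebraMap A (Localization.Away f)))
        (Localization.Away f)) (Localization.AtPrime q.asIdeal)).Flat := by
    intro q hq
    have hq2 : IsRigClosed (((I.map (algebraMap A B)).map
        (algebraMap B (Localization.Away (algebraMap A B f)))).map
        (algebraMap (Localization.Away (algebraMap A B f)) _)) q := by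
      rw [← hI₁B]
      exact hq
    have h := hAB f ψAB hψAB q hq2
    rw [IsScalarTower.algebraMap_eq (AdicCompletion (I.map (algebraMap A (Localization.Away f)))
      (Localization.Away f)) (AdicCompletion ((I.map (algebraMap A B)).map
      (algebraMap B (Localization.Away (algebraMap A B f))))
      (Localization.Away (algebraMap A B f))) (Localization.AtPrime q.asIdeal)]
    exact h
  -- the prime `q'₁`
  obtain ⟨hprime, hcomap, hrc⟩ := map_rigClosed_completed_localization (I.map (algebraMap A B'))
    q' hq' (algebraMap A B' f) hfu
  obtain ⟨q'₁, hq'₁def⟩ : ∃ q'₁ : PrimeSpectrum (AdicCompletion ((I.map (algebraMap A B')).map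
      (algebraMap B' (Localization.Away (algebraMap A B' f))))
      (Localization.Away (algebraMap A B' f))), q'₁.asIdeal = q'.asIdeal.map (algebraMap B' _) :=
    ⟨⟨_, hprime⟩, rfl⟩
  haveI := q'₁.isPrime
  have hq'₁ : IsRigClosed (I₁.map ψAB') q'₁ := by
    rw [hI₁B']
    exact hrc q'₁ hq'₁def
  have hI₁eq : I₁ = I.map (algebraMap A _) := by
    rw [hI₁]
    exact (map_algebraMap_completed I f).symm
  have hp₁ : IsRigClosed I₁ (PrimeSpectrum.comap ψAB' q'₁) := by
    obtain ⟨-, h2, h3⟩ := hf ψAB' hψAB'
    have hcm : (PrimeSpectrum.comap ψAB' q'₁).asIdeal =
        (q'.asIdeal.map (algebraMap B' _)).comap ψAB' := by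
      show q'₁.asIdeal.comap ψAB' = _
      rw [hq'₁def]
    constructor
    · rw [hcm, hI₁eq]
      exact h2
    · intro y hy hIy
      apply PrimeSpectrum.ext
      rw [hcm]
      apply h3 y
      · rw [← hcm]
        exact hy
      · rw [← hI₁eq]
        exact hIy
  -- apply the naive theorem
  have hN := flat_of_rigClosed_contraction I₁ hftA'₁ hftB'₁ hnaive₁ q'₁ hq'₁ hp₁
  -- descent to `B'_{q'}`
  have hβflat : (algebraMap B' (AdicCompletion ((I.map (algebraMap A B')).map
      (algebraMap B' (Localization.Away (algebraMap A B' f))))
      (Localization.Away (algebraMap A B' f)))).Flat := by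
    rw [RingHom.flat_algebraMap_iff]
    haveI : Module.Flat B' (Localization.Away (algebraMap A B' f)) :=
      IsLocalization.flat _ (Submonoid.powers (algebraMap A B' f))
    exact Module.Flat.trans B' (Localization.Away (algebraMap A B' f)) _
  have hα'flat : (algebraMap A' (AdicCompletion ((I.map (algebraMap A A')).map
      (algebraMap A' (Localization.Away (algebraMap A A' f))))
      (Localization.Away (algebraMap A A' f)))).Flat := by
    rw [RingHom.flat_algebraMap_iff]
    haveI : Module.Flat A' (Localization.Away (algebraMap A A' f)) :=
      IsLocalization.flat _ (Submonoid.powers (algebraMap A A' f))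
    exact Module.Flat.trans A' (Localization.Away (algebraMap A A' f)) _
  obtain ⟨β, hβdef⟩ : ∃ β : B' →+* (AdicCompletion ((I.map (algebraMap A B')).map
      (algebraMap B' (Localization.Away (algebraMap A B' f))))
      (Localization.Away (algebraMap A B' f))), β = algebraMap B' _ := ⟨_, rfl⟩
  rw [← hβdef] at hβflat hcomap hq'₁def hbA'B'
  have hcomap' : q'.asIdeal = q'₁.asIdeal.comap β := by
    rw [hq'₁def]
    exact hcomap.symm
  obtain ⟨lam, hlamdef⟩ : ∃ lam, lam = Localization.localRingHom q'.asIdeal q'₁.asIdeal
    β hcomap' := ⟨_, rfl⟩
  have hlam : lam.comp (algebraMap B' (Localization.AtPrime q'.asIdeal)) =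
      (algebraMap _ (Localization.AtPrime q'₁.asIdeal)).comp β := by
    refine RingHom.ext fun x => ?_
    rw [hlamdef]
    exact Localization.localRingHom_to_map q'.asIdeal q'₁.asIdeal β hcomap' x
  have hlamflat : lam.Flat := by
    rw [hlamdef]
    exact RingHom.Flat.localRingHom hβflat q'₁.asIdeal q'.asIdeal hcomap'
  have hlamloc : IsLocalHom lam := by
    rw [hlamdef]
    exact Localization.isLocalHom_localRingHom q'.asIdeal q'₁.asIdeal β hcomap'
  have hlamff : lam.FaithfullyFlat := by
    letI : Algebra (Localization.AtPrime q'.asIdeal) (Localization.AtPrime q'₁.asIdeal) :=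
      lam.toAlgebra
    haveI : Module.Flat (Localization.AtPrime q'.asIdeal) (Localization.AtPrime q'₁.asIdeal) :=
      hlamflat
    haveI : IsLocalHom (algebraMap (Localization.AtPrime q'.asIdeal)
      (Localization.AtPrime q'₁.asIdeal)) := hlamloc
    show Module.FaithfullyFlat _ _
    exact Module.FaithfullyFlat.of_flat_of_isLocalHom
  refine flat_of_comp_faithfullyFlat _ lam hlamff ?_
  rw [← RingHom.comp_assoc, hlam, RingHom.comp_assoc, ← hbA'B', ← RingHom.comp_assoc]
  exact RingHom.Flat.comp hα'flat hN

end ThmR

end Groth.Agent.Lib.RigClosedH3
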