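import Mathlib
import Groth.Agent.Lib.RigFlat8_helper3

/-!
Helper lemmas (helper3): rig-flatness is preserved by base change along a flat map which is
formally unramified modulo the ideal of definition (milestone form).
APPEND-ONLY once landed.
-/

set_option autoImplicit false
universe u

namespace Groth.Agent.Lib.RigClosedH3

open Ideal

section Glue3

variable {A B A' B' : Type u} [CommRing A] [CommRing B] [CommRing A'] [CommRing B']
  [Algebra A B] [Algebra A A'] [Algebra A B'] [Algebra B B'] [Algebra A' B']
  [IsScalarTower A B B'] [IsScalarTower A A' B']

set_option maxHeartbeats 3200000 in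
theorem rigFlat_baseChange [IsNoetherianRing A] (I : Ideal A) [IsAdicComplete I A]
    [IsNoetherianRing B] [IsNoetherianRing A'] [IsNoetherianRing B']
    (hftB : Algebra.FiniteType A (B ⧸ I.map (algebraMap A B)))
    (hftA' : Algebra.FiniteType A (A' ⧸ I.map (algebraMap A A')))
    (hftB'B : Algebra.FiniteType B (B' ⧸ I.map (algebraMap A B')))
    [Module.Flat A A'] [Module.Flat B B']
    [Algebra.FormallyUnramified A (A' ⧸ I.map (algebraMap A A'))]
    (hAB : ∀ f : A, RigFlatAt I f (I.map (algebraMap A B)) (algebraMap A B f)
      (Localization.awayMap (algebraMap A B) f)) :
    ∀ f' : A', RigFlatAt (I.map (algebraMap A A')) f'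
      ((I.map (algebraMap A A')).map (algebraMap A' B')) (algebraMap A' B' f')
      (Localization.awayMap (algebraMap A' B') f') := by
  intro f' ψ hψ q hq
  -- instances on the completed localizations
  haveI : IsNoetherianRing (AdicCompletion ((I.map (algebraMap A A')).map
      (algebraMap A' (Localization.Away f'))) (Localization.Away f')) :=
    Groth.Agent.Lib.ComplRegH3.isNoetherianRing_adicCompletion _ _
  haveI : IsNoetherianRing (AdicCompletion (((I.map (algebraMap A A')).map
      (algebraMap A' B')).map (algebraMap B' (Localization.Away (algebraMap A' B' f'))))
      (Localization.Away (algebraMap A' B' f'))) :=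
    Groth.Agent.Lib.ComplRegH3.isNoetherianRing_adicCompletion _ _
  letI algψ : Algebra (AdicCompletion ((I.map (algebraMap A A')).map
      (algebraMap A' (Localization.Away f'))) (Localization.Away f'))
      (AdicCompletion (((I.map (algebraMap A A')).map
      (algebraMap A' B')).map (algebraMap B' (Localization.Away (algebraMap A' B' f'))))
      (Localization.Away (algebraMap A' B' f'))) := ψ.toAlgebra
  have hb := completed_base_compat (algebraMap A' B') (I.map (algebraMap A A'))
    ((I.map (algebraMap A A')).map (algebraMap A' B')) f' (algebraMap A' B' f') _
    (awayMap_comp_algebraMap _ _) ψ hψ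
  haveI tw : IsScalarTower A (AdicCompletion ((I.map (algebraMap A A')).map
      (algebraMap A' (Localization.Away f'))) (Localization.Away f'))
      (AdicCompletion (((I.map (algebraMap A A')).map
      (algebraMap A' B')).map (algebraMap B' (Localization.Away (algebraMap A' B' f'))))
      (Localization.Away (algebraMap A' B' f'))) := by
    refine IsScalarTower.of_algebraMap_eq' ?_
    show _ = ψ.comp _
    rw [IsScalarTower.algebraMap_eq A A' (AdicCompletion ((I.map (algebraMap A A')).map
      (algebraMap A' (Localization.Away f'))) (Localization.Away f')), ← RingHom.comp_assoc, hb,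
      RingHom.comp_assoc, ← IsScalarTower.algebraMap_eq A A' B']
    exact IsScalarTower.algebraMap_eq A B' _
  -- ideal identities
  have hIA'₀ : I.map (algebraMap A (AdicCompletion ((I.map (algebraMap A A')).map
      (algebraMap A' (Localization.Away f'))) (Localization.Away f'))) =
      ((I.map (algebraMap A A')).map (algebraMap A' (Localization.Away f'))).map
        (algebraMap (Localization.Away f') _) := by
    rw [Ideal.map_map, Ideal.map_map]
    rfl
  have hIB'₀ : I.map (algebraMap A (AdicCompletion (((I.map (algebraMap A A')).map
      (algebraMap A' B')).map (algebraMap B' (Localization.Away (algebraMap A' B' f'))))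
      (Localization.Away (algebraMap A' B' f')))) =
      (((I.map (algebraMap A A')).map (algebraMap A' B')).map
        (algebraMap B' (Localization.Away (algebraMap A' B' f')))).map
        (algebraMap (Localization.Away (algebraMap A' B' f')) _) := by
    rw [Ideal.map_map, Ideal.map_map, Ideal.map_map]
    congr 1
    refine RingHom.ext fun a => ?_
    show _ = algebraMap (Localization.Away (algebraMap A' B' f')) _
      (algebraMap B' (Localization.Away (algebraMap A' B' f'))
        (algebraMap A' B' (algebraMap A A' a)))
    rw [← IsScalarTower.algebraMap_apply A A' B']
    rfl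
  haveI hc : IsAdicComplete (I.map (algebraMap A (AdicCompletion (((I.map (algebraMap A A')).map
      (algebraMap A' B')).map (algebraMap B' (Localization.Away (algebraMap A' B' f'))))
      (Localization.Away (algebraMap A' B' f'))))) (AdicCompletion (((I.map
      (algebraMap A A')).map (algebraMap A' B')).map (algebraMap B' (Localization.Away
      (algebraMap A' B' f')))) (Localization.Away (algebraMap A' B' f'))) := by
    rw [hIB'₀]
    exact isAdicComplete_map_adicCompletion _ _
  -- finite type
  have hftA'₀ : Algebra.FiniteType A (AdicCompletion ((I.map (algebraMap A A')).map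
      (algebraMap A' (Localization.Away f'))) (Localization.Away f') ⧸
      I.map (algebraMap A (AdicCompletion ((I.map (algebraMap A A')).map
      (algebraMap A' (Localization.Away f'))) (Localization.Away f')))) := by
    rw [hIA'₀]
    exact finiteType_completed_localization (R := A) (R' := A') (I.map (algebraMap A A')) hftA' f'
  have hIA'B' : (I.map (algebraMap A A')).map (algebraMap A' B') = I.map (algebraMap A B') := by
    rw [Ideal.map_map, ← IsScalarTower.algebraMap_eq]
  have hftB' : Algebra.FiniteType A (B' ⧸ (I.map (algebraMap A A')).map (algebraMap A' B')) := by
    rw [hIA'B']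
    refine finiteType_of_quotient (R := A) (S := B) (I.map (algebraMap A B)) ?_ hftB hftB'B
    rw [Ideal.map_le_iff_le_comap]
    intro a ha
    rw [Ideal.mem_comap, RingHom.mem_ker]
    have e : algebraMap B (B' ⧸ I.map (algebraMap A B')) (algebraMap A B a) =
        Ideal.Quotient.mk _ (algebraMap B B' (algebraMap A B a)) := rfl
    rw [e, Ideal.Quotient.eq_zero_iff_mem, ← IsScalarTower.algebraMap_apply A B B']
    exact Ideal.mem_map_of_mem _ ha
  have hftB'₀ : Algebra.FiniteType A (AdicCompletion (((I.map (algebraMap A A')).map
      (algebraMap A' B')).map (algebraMap B' (Localization.Away (algebraMap A' B' f'))))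
      (Localization.Away (algebraMap A' B' f')) ⧸
      I.map (algebraMap A (AdicCompletion (((I.map (algebraMap A A')).map
      (algebraMap A' B')).map (algebraMap B' (Localization.Away (algebraMap A' B' f'))))
      (Localization.Away (algebraMap A' B' f'))))) := by
    rw [hIB'₀]
    exact finiteType_completed_localization (R := A) (R' := B')
      ((I.map (algebraMap A A')).map (algebraMap A' B')) hftB' (algebraMap A' B' f')
  -- flatness
  haveI : Module.Flat A' (Localization.Away f') := IsLocalization.flat _ (Submonoid.powers f')
  haveI : Module.Flat A (Localization.Away f') := Module.Flat.trans A A' _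
  haveI : Module.Flat A (AdicCompletion ((I.map (algebraMap A A')).map
      (algebraMap A' (Localization.Away f'))) (Localization.Away f')) :=
    Module.Flat.trans A (Localization.Away f') _
  haveI : Module.Flat B' (Localization.Away (algebraMap A' B' f')) :=
    IsLocalization.flat _ (Submonoid.powers (algebraMap A' B' f'))
  haveI : Module.Flat B (Localization.Away (algebraMap A' B' f')) := Module.Flat.trans B B' _
  haveI : Module.Flat B (AdicCompletion (((I.map (algebraMap A A')).map
      (algebraMap A' B')).map (algebraMap B' (Localization.Away (algebraMap A' B' f'))))
      (Localization.Away (algebraMap A' B' f'))) :=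
    Module.Flat.trans B (Localization.Away (algebraMap A' B' f')) _
  -- unramified
  haveI : Algebra.FormallyUnramified A (AdicCompletion ((I.map (algebraMap A A')).map
      (algebraMap A' (Localization.Away f'))) (Localization.Away f') ⧸
      I.map (algebraMap A (AdicCompletion ((I.map (algebraMap A A')).map
      (algebraMap A' (Localization.Away f'))) (Localization.Away f')))) := by
    rw [hIA'₀]
    exact formallyUnramified_completed_localization (R := A) (R' := A')
      (I.map (algebraMap A A')) f'
  have hq₀ : IsRigClosed (I.map (algebraMap A (AdicCompletion (((I.map (algebraMap A A')).map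
      (algebraMap A' B')).map (algebraMap B' (Localization.Away (algebraMap A' B' f'))))
      (Localization.Away (algebraMap A' B' f'))))) q := by
    rw [hIB'₀]
    exact hq
  exact flat_of_rigFlat_of_unramified_mod I hftA'₀ hftB'₀ hAB q hq₀

end Glue3

end Groth.Agent.Lib.RigClosedH3
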