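import Mathlib
import Groth.Agent.Lib.RigFlat9_helper3

/-!
Helper lemmas (helper3): the local ring of an adic completion at a rig-closed prime lying over a
rig-closed prime has the same completion as the local ring of the original ring.
APPEND-ONLY once landed.
-/

set_option autoImplicit false
universe u

namespace Groth.Agent.Lib.RigClosedH3

open Ideal

section Dense

variable {A P B : Type u} [CommRing A] [CommRing P] [CommRing B]
  [Algebra A P] [Algebra P B] [Algebra A B] [IsScalarTower A P B]

/-- density modulo powers of `q` -/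
theorem exists_sub_mem_pow_of_dense [IsNoetherianRing A] (I : Ideal A) [IsAdicComplete I A]
    [IsNoetherianRing B]
    (hdense : ∀ y : B, ∃ s : P, y - algebraMap P B s ∈ I.map (algebraMap A B))
    (q : Ideal B) [q.IsPrime] (hfin : Module.Finite A (B ⧸ q)) (k : ℕ) (hk : k ≠ 0) (y : B) :
    ∃ s : P, y - algebraMap P B s ∈ q ^ k := by
  have hfink : Module.Finite A (B ⧸ q ^ k) := by
    refine finite_quotient_of_forall_prime A (q ^ k) ?_ _ le_rfl
    intro Q hQ hle
    haveI := hQ
    have hqQ : q ≤ Q := (Ideal.IsPrime.pow_le_iff hk).1 hle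
    exact Module.Finite.of_surjective (Ideal.Quotient.factorₐ A hqQ).toLinearMap
      (Ideal.Quotient.factor_surjective hqQ)
  let f : P →ₗ[A] (B ⧸ q ^ k) :=
    (Ideal.Quotient.mkₐ A (q ^ k)).toLinearMap ∘ₗ (IsScalarTower.toAlgHom A P B).toLinearMap
  have hf : ∀ s, f s = Ideal.Quotient.mk (q ^ k) (algebraMap P B s) := fun s => rfl
  have hNN : (⊤ : Submodule A (B ⧸ q ^ k)) ≤ LinearMap.range f ⊔ I • ⊤ := by
    intro z _
    obtain ⟨y, rfl⟩ := Ideal.Quotient.mk_surjective z
    obtain ⟨s, hs⟩ := hdense y
    have e : Ideal.Quotient.mk (q ^ k) y = f s + Ideal.Quotient.mk (q ^ k) (y - algebraMap P B s) := by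
      rw [hf, ← map_add]
      congr 1
      ring
    rw [e]
    refine Submodule.add_mem_sup ⟨s, rfl⟩ ?_
    rw [Ideal.smul_top_eq_map]
    show Ideal.Quotient.mk (q ^ k) (y - algebraMap P B s) ∈ I.map (algebraMap A (B ⧸ q ^ k))
    have h1 := Ideal.mem_map_of_mem (Ideal.Quotient.mk (q ^ k)) hs
    rw [Ideal.map_map] at h1
    exact h1
  have htop : (⊤ : Submodule A (B ⧸ q ^ k)) ≤ LinearMap.range f :=
    Submodule.le_of_le_smul_of_le_jacobson_bot Module.Finite.fg_top
      (IsAdicComplete.le_jacobson_bot I) hNN
  obtain ⟨s, hs⟩ := htop (Submodule.mem_top : Ideal.Quotient.mk (q ^ k) y ∈ ⊤)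
  refine ⟨s, ?_⟩
  rw [← Ideal.Quotient.eq, ← hs, hf]

set_option maxHeartbeats 1600000 in
theorem localRingHom_pow_of_dense_aux [IsNoetherianRing A] (I : Ideal A) [IsAdicComplete I A]
    [IsNoetherianRing B] [IsAdicComplete (I.map (algebraMap A B)) B]
    (hft : Algebra.FiniteType A (B ⧸ I.map (algebraMap A B))) [Module.Flat P B]
    (hdense : ∀ y : B, ∃ s : P, y - algebraMap P B s ∈ I.map (algebraMap A B))
    (q : PrimeSpectrum B) (hq : IsRigClosed (I.map (algebraMap A B)) q)
    (hp : IsRigClosed I (PrimeSpectrum.comap (algebraMap A B) q)) (m : ℕ) (hm : 1 ≤ m)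
    (q' : Ideal P) [q'.IsPrime] (hq' : q' = q.asIdeal.comap (algebraMap P B)) :
    (∀ x : Localization.AtPrime q',
      Localization.localRingHom q' q.asIdeal (algebraMap P B) hq' x ∈
        (IsLocalRing.maximalIdeal (Localization.AtPrime q.asIdeal)) ^ m →
      x ∈ (IsLocalRing.maximalIdeal (Localization.AtPrime q')) ^ m) ∧
    (∀ y : Localization.AtPrime q.asIdeal, ∃ x : Localization.AtPrime q',
      y - Localization.localRingHom q' q.asIdeal (algebraMap P B) hq' x ∈
        (IsLocalRing.maximalIdeal (Localization.AtPrime q.asIdeal)) ^ m) := by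
  haveI := q.isPrime
  have hfinq : Module.Finite A (B ⧸ q.asIdeal) :=
    finite_quotient_of_residue_finite I q hq
      (fun 𝔪 h𝔪 hq𝔪 => residue_finite_of_rigClosed_comap I hft q hp 𝔪 h𝔪 hq𝔪)
  have hB := fun k hk y => exists_sub_mem_pow_of_dense (P := P) I hdense q.asIdeal hfinq k hk y
  obtain ⟨lam, hlamdef⟩ : ∃ lam, lam = Localization.localRingHom q' q.asIdeal (algebraMap P B)
    hq' := ⟨_, rfl⟩
  rw [← hlamdef]
  have hlam : ∀ s : P, lam (algebraMap P (Localization.AtPrime q') s) =
      algebraMap B (Localization.AtPrime q.asIdeal) (algebraMap P B s) := by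
    intro s
    rw [hlamdef]
    exact Localization.localRingHom_to_map q' q.asIdeal (algebraMap P B) hq' s
  haveI hlamloc : IsLocalHom lam := by
    rw [hlamdef]
    exact Localization.isLocalHom_localRingHom q' q.asIdeal (algebraMap P B) hq'
  have hlamflat : lam.Flat := by
    rw [hlamdef]
    exact RingHom.Flat.localRingHom (RingHom.flat_algebraMap_iff.2 inferInstance) q.asIdeal q' hq'
  -- maximal ideals
  have hmS : IsLocalRing.maximalIdeal (Localization.AtPrime q.asIdeal) =
      q.asIdeal.map (algebraMap B (Localization.AtPrime q.asIdeal)) :=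
    (Localization.AtPrime.map_eq_maximalIdeal).symm
  have hmR : IsLocalRing.maximalIdeal (Localization.AtPrime q') =
      q'.map (algebraMap P (Localization.AtPrime q')) :=
    (Localization.AtPrime.map_eq_maximalIdeal).symm
  have hpowS : ∀ k, (IsLocalRing.maximalIdeal (Localization.AtPrime q.asIdeal)) ^ k =
      (q.asIdeal ^ k).map (algebraMap B (Localization.AtPrime q.asIdeal)) := by
    intro k
    rw [hmS, Ideal.map_pow]
  -- Step C
  have hle : IsLocalRing.maximalIdeal (Localization.AtPrime q.asIdeal) ≤
      (IsLocalRing.maximalIdeal (Localization.AtPrime q')).map lam := by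
    refine Submodule.le_of_le_smul_of_le_jacobson_bot (I := IsLocalRing.maximalIdeal
      (Localization.AtPrime q.asIdeal)) (IsNoetherian.noetherian _)
      (IsLocalRing.maximalIdeal_le_jacobson ⊥) ?_
    intro y hy
    rw [hmS, IsLocalization.mem_map_algebraMap_iff q.asIdeal.primeCompl] at hy
    obtain ⟨⟨b, t⟩, hbt⟩ := hy
    obtain ⟨s, hs⟩ := hB 2 (by norm_num) b.1
    have hsq' : s ∈ q' := by
      rw [hq', Ideal.mem_comap]
      have : algebraMap P B s = b.1 - (b.1 - algebraMap P B s) := by ring
      rw [this]
      exact sub_mem b.2 (Ideal.pow_le_self (by norm_num) hs)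
    have hu : IsUnit (algebraMap B (Localization.AtPrime q.asIdeal) t.1) :=
      IsLocalization.map_units _ t
    obtain ⟨u, hu'⟩ := hu
    have hy' : y = (lam (algebraMap P (Localization.AtPrime q') s)) * ↑u⁻¹ +
        (algebraMap B (Localization.AtPrime q.asIdeal) (b.1 - algebraMap P B s)) * ↑u⁻¹ := by
      rw [hlam, ← add_mul, ← map_add]
      have e2 : algebraMap P B s + (b.1 - algebraMap P B s) = b.1 := by ring
      rw [e2]
      simp only at hbt
      rw [← hbt, ← hu', mul_assoc, Units.mul_inv, mul_one]
    rw [hy']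
    refine Submodule.add_mem_sup ?_ ?_
    · refine Ideal.mul_mem_right _ _ (Ideal.mem_map_of_mem _ ?_)
      rw [hmR]
      exact Ideal.mem_map_of_mem _ hsq'
    · rw [smul_eq_mul, ← pow_two]
      refine Ideal.mul_mem_right _ _ ?_
      rw [hpowS 2]
      exact Ideal.mem_map_of_mem _ hs
  have hmeq : IsLocalRing.maximalIdeal (Localization.AtPrime q.asIdeal) =
      (IsLocalRing.maximalIdeal (Localization.AtPrime q')).map lam :=
    le_antisymm hle (IsLocalRing.map_maximalIdeal_le lam)
  constructor
  · -- injectivity
    intro x hx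
    letI : Algebra (Localization.AtPrime q') (Localization.AtPrime q.asIdeal) := lam.toAlgebra
    haveI : Module.Flat (Localization.AtPrime q') (Localization.AtPrime q.asIdeal) := hlamflat
    haveI : IsLocalHom (algebraMap (Localization.AtPrime q') (Localization.AtPrime q.asIdeal)) :=
      hlamloc
    haveI : Module.FaithfullyFlat (Localization.AtPrime q') (Localization.AtPrime q.asIdeal) :=
      Module.FaithfullyFlat.of_flat_of_isLocalHom
    have h1 := Ideal.comap_map_eq_self_of_faithfullyFlat
      (B := Localization.AtPrime q.asIdeal)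
      ((IsLocalRing.maximalIdeal (Localization.AtPrime q')) ^ m)
    rw [← h1, Ideal.mem_comap, Ideal.map_pow]
    show lam x ∈ ((IsLocalRing.maximalIdeal (Localization.AtPrime q')).map lam) ^ m
    rw [← hmeq]
    exact hx
  · -- surjectivity
    intro y
    have hm0 : m ≠ 0 := by omega
    obtain ⟨⟨b, t⟩, hbt⟩ := IsLocalization.surj q.asIdeal.primeCompl y
    simp only at hbt
    obtain ⟨s, hs⟩ := hB m hm0 b
    obtain ⟨u, hu⟩ := hB m hm0 t.1
    have huq' : u ∉ q' := by
      intro hmem
      rw [hq', Ideal.mem_comap] at hmem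
      apply t.2
      have : t.1 = algebraMap P B u + (t.1 - algebraMap P B u) := by ring
      rw [this]
      exact add_mem hmem (Ideal.pow_le_self hm0 hu)
    refine ⟨IsLocalization.mk' (Localization.AtPrime q') s (⟨u, huq'⟩ : q'.primeCompl), ?_⟩
    have hU : IsUnit (algebraMap B (Localization.AtPrime q.asIdeal) t.1) :=
      IsLocalization.map_units _ t
    have hV : IsUnit (lam (algebraMap P (Localization.AtPrime q') u)) :=
      (IsLocalization.map_units (Localization.AtPrime q') (⟨u, huq'⟩ : q'.primeCompl)).map lam
    rw [← Ideal.mul_unit_mem_iff_mem _ (hU.mul hV)]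
    have e1 : lam (IsLocalization.mk' (Localization.AtPrime q') s (⟨u, huq'⟩ : q'.primeCompl)) *
        lam (algebraMap P (Localization.AtPrime q') u) =
        lam (algebraMap P (Localization.AtPrime q') s) := by
      rw [← map_mul]
      congr 1
      exact IsLocalization.mk'_spec (Localization.AtPrime q') s (⟨u, huq'⟩ : q'.primeCompl)
    have e2 : (y - lam (IsLocalization.mk' (Localization.AtPrime q') s
        (⟨u, huq'⟩ : q'.primeCompl))) *
        (algebraMap B (Localization.AtPrime q.asIdeal) t.1 *
          lam (algebraMap P (Localization.AtPrime q') u)) =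
        algebraMap B (Localization.AtPrime q.asIdeal)
          ((b - algebraMap P B s) * algebraMap P B u -
            algebraMap P B s * (t.1 - algebraMap P B u)) := by
      have e3 : (y - lam (IsLocalization.mk' (Localization.AtPrime q') s
          (⟨u, huq'⟩ : q'.primeCompl))) *
          (algebraMap B (Localization.AtPrime q.asIdeal) t.1 *
            lam (algebraMap P (Localization.AtPrime q') u)) =
          (y * algebraMap B (Localization.AtPrime q.asIdeal) t.1) *
            lam (algebraMap P (Localization.AtPrime q') u) -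
          (lam (IsLocalization.mk' (Localization.AtPrime q') s (⟨u, huq'⟩ : q'.primeCompl)) *
            lam (algebraMap P (Localization.AtPrime q') u)) *
            algebraMap B (Localization.AtPrime q.asIdeal) t.1 := by ring
      rw [e3, hbt, e1, hlam, hlam, ← map_mul, ← map_mul, ← map_sub]
      congr 1
      ring
    rw [e2, hpowS m]
    refine Ideal.mem_map_of_mem _ ?_
    exact sub_mem (Ideal.mul_mem_right _ _ hs) (Ideal.mul_mem_left _ _ hu)

end Dense

section Concrete

variable {A P : Type u} [CommRing A] [CommRing P] [Algebra A P]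

set_option maxHeartbeats 1600000 in
theorem localRingHom_pow_adicCompletion [IsNoetherianRing A] (I : Ideal A) [IsAdicComplete I A]
    [IsNoetherianRing P] [Algebra.FiniteType A P]
    (q : PrimeSpectrum (AdicCompletion (I.map (algebraMap A P)) P))
    (hq : IsRigClosed (I.map (algebraMap A (AdicCompletion (I.map (algebraMap A P)) P))) q)
    (hp : IsRigClosed I (PrimeSpectrum.comap
      (algebraMap A (AdicCompletion (I.map (algebraMap A P)) P)) q)) (m : ℕ) (hm : 1 ≤ m) :
    (∀ x : Localization.AtPrime (PrimeSpectrum.comap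
        (algebraMap P (AdicCompletion (I.map (algebraMap A P)) P)) q).asIdeal,
      Localization.localRingHom (PrimeSpectrum.comap
        (algebraMap P (AdicCompletion (I.map (algebraMap A P)) P)) q).asIdeal q.asIdeal
        (algebraMap P (AdicCompletion (I.map (algebraMap A P)) P)) rfl x ∈
        (IsLocalRing.maximalIdeal (Localization.AtPrime q.asIdeal)) ^ m →
      x ∈ (IsLocalRing.maximalIdeal (Localization.AtPrime (PrimeSpectrum.comap
        (algebraMap P (AdicCompletion (I.map (algebraMap A P)) P)) q).asIdeal)) ^ m) ∧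
    (∀ y : Localization.AtPrime q.asIdeal, ∃ x : Localization.AtPrime (PrimeSpectrum.comap
        (algebraMap P (AdicCompletion (I.map (algebraMap A P)) P)) q).asIdeal,
      y - Localization.localRingHom (PrimeSpectrum.comap
        (algebraMap P (AdicCompletion (I.map (algebraMap A P)) P)) q).asIdeal q.asIdeal
        (algebraMap P (AdicCompletion (I.map (algebraMap A P)) P)) rfl x ∈
        (IsLocalRing.maximalIdeal (Localization.AtPrime q.asIdeal)) ^ m) := by
  haveI : IsNoetherianRing (AdicCompletion (I.map (algebraMap A P)) P) :=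
    Groth.Agent.Lib.ComplRegH3.isNoetherianRing_adicCompletion _ _
  have hIeq : I.map (algebraMap A (AdicCompletion (I.map (algebraMap A P)) P)) =
      (I.map (algebraMap A P)).map (algebraMap P (AdicCompletion (I.map (algebraMap A P)) P)) := by
    rw [Ideal.map_map]
    rfl
  haveI : IsAdicComplete (I.map (algebraMap A (AdicCompletion (I.map (algebraMap A P)) P)))
      (AdicCompletion (I.map (algebraMap A P)) P) := by
    rw [hIeq]
    exact isAdicComplete_map_adicCompletion P _
  have hft : Algebra.FiniteType A (AdicCompletion (I.map (algebraMap A P)) P ⧸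
      I.map (algebraMap A (AdicCompletion (I.map (algebraMap A P)) P))) := by
    rw [hIeq]
    exact finiteType_adicCompletion_quotient (R := A) (S := P) (I.map (algebraMap A P))
  have hdense : ∀ y : AdicCompletion (I.map (algebraMap A P)) P, ∃ s : P,
      y - algebraMap P (AdicCompletion (I.map (algebraMap A P)) P) s ∈
        I.map (algebraMap A (AdicCompletion (I.map (algebraMap A P)) P)) := by
    intro y
    rw [hIeq]
    exact exists_sub_mem_map_adicCompletion P _ y
  exact localRingHom_pow_of_dense_aux (P := P) I hft hdense q hq hp m hm _ rfl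

end Concrete

end Groth.Agent.Lib.RigClosedH3
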