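import Mathlib
import Groth.Agent.Lib.NoethApprox_helper3
import Groth.Agent.Lib.AdicLift_helper2

set_option autoImplicit false
universe u
open scoped TensorProduct
open IsLocalRing

namespace Groth.Agent.Lib.ComplLocFamH6

/-- Completion of the localization at a prime. -/
abbrev CL (R : Type u) [CommRing R] (P : Ideal R) [P.IsPrime] : Type u :=
  AdicCompletion (maximalIdeal (Localization.AtPrime P)) (Localization.AtPrime P)

section
variable (R : Type u) [CommRing R] [IsNoetherianRing R] (P : Ideal R) [P.IsPrime]

instance : IsNoetherianRing (Localization.AtPrime P) :=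
  IsLocalization.isNoetherianRing P.primeCompl _ inferInstance

instance instNoethCL : IsNoetherianRing (CL R P) :=
  Groth.Agent.Lib.NoethApproxH3.isNoetherianRing_adicCompletion_of_fg (Localization.AtPrime P)
    (IsNoetherian.noetherian _)

instance instFFCL : Module.FaithfullyFlat (Localization.AtPrime P) (CL R P) :=
  Module.FaithfullyFlat.of_flat_of_isLocalHom

variable (A : Type u) [CommRing A] [Algebra A R] 

theorem flat_CL [Module.Flat A R] : Module.Flat A (CL R P) := by
  have : Module.Flat R (Localization.AtPrime P) := IsLocalization.flat _ P.primeCompl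
  have : Module.Flat A (Localization.AtPrime P) := Module.Flat.trans A R _
  exact Module.Flat.trans A (Localization.AtPrime P) _

/-- The local ring hom `A_p → R_P → CL R P`. -/
noncomputable def phi [IsNoetherianRing A] (p : Ideal A) [p.IsPrime] (h : p = P.comap (algebraMap A R)) :
    Localization.AtPrime p →+* CL R P :=
  (algebraMap (Localization.AtPrime P) (CL R P)).comp
    (Localization.localRingHom p P (algebraMap A R) h)

theorem phi_map_le [IsNoetherianRing A] (p : Ideal A) [p.IsPrime] (h : p = P.comap (algebraMap A R)) :
    (maximalIdeal (Localization.AtPrime p)).map (phi R P A p h) ≤ maximalIdeal (CL R P) := by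
  have hloc : IsLocalHom (phi R P A p h) := by
    unfold phi
    have := Localization.isLocalHom_localRingHom p P (algebraMap A R) h
    exact RingHom.isLocalHom_comp _ _
  exact ((IsLocalRing.local_hom_TFAE (phi R P A p h)).out 0 2).mp hloc

/-- The induced `A`-algebra map on completions. -/
noncomputable def fromCL [IsNoetherianRing A] (p : Ideal A) [p.IsPrime] (h : p = P.comap (algebraMap A R)) :
    CL A p →ₐ[A] CL R P :=
  { Groth.Agent.Lib.AdicLift.ext (maximalIdeal (Localization.AtPrime p)) (maximalIdeal (CL R P))
      (phi R P A p h) (phi_map_le R P A p h) with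
    commutes' := by
      intro a
      have h1 : algebraMap A (CL A p) a = AdicCompletion.of _ _ (algebraMap A (Localization.AtPrime p) a) := by
        rw [IsScalarTower.algebraMap_apply A (Localization.AtPrime p) (CL A p)]
        rfl
      simp only [RingHom.toMonoidHom_eq_coe, OneHom.toFun_eq_coe, MonoidHom.toOneHom_coe,
        MonoidHom.coe_coe]
      rw [h1, Groth.Agent.Lib.AdicLift.ext_of]
      unfold phi
      rw [RingHom.comp_apply, Localization.localRingHom_to_map,
        ← IsScalarTower.algebraMap_apply A R (Localization.AtPrime P),
        ← IsScalarTower.algebraMap_apply A (Localization.AtPrime P) (CL R P)] }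

end

end Groth.Agent.Lib.ComplLocFamH6
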