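import Mathlib
import Groth.Agent.Lib.ComplLocFam1_helper6
import Groth.Agent.Lib.CAlgMisc2_helper1

/-!
# Compatible families over complete Noetherian local flat algebras (helper6)

Toward S11181: `M → lim_B B ⊗ M` is bijective for finite `M` over Noetherian `A`.
-/

set_option autoImplicit false
set_option linter.unusedSectionVars false
universe u
open scoped TensorProduct
open IsLocalRing

namespace Groth.Agent.Lib.ComplLocFamH6


/-- An element whose annihilator is inside `P` stays nonzero in the completed localization. -/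
theorem tmul_ne_zero_of_colon_le (R : Type u) [CommRing R] [IsNoetherianRing R] (P : Ideal R)
    [P.IsPrime] (T : Type u) [AddCommGroup T] [Module R T] (t : T)
    (ht : (⊥ : Submodule R T).colon {t} ≤ P) : (1 : CL R P) ⊗ₜ[R] t ≠ 0 := by
  intro h1
  have hinj := Module.FaithfullyFlat.tensorProduct_mk_injective (A := Localization.AtPrime P)
    (B := CL R P) (Localization.AtPrime P ⊗[R] T)
  have h2 : (1 : Localization.AtPrime P) ⊗ₜ[R] t = 0 := by
    apply hinj
    rw [map_zero]
    apply (TensorProduct.AlgebraTensorModule.cancelBaseChange R (Localization.AtPrime P)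
      (Localization.AtPrime P) (CL R P) T).injective
    rw [map_zero]
    change (TensorProduct.AlgebraTensorModule.cancelBaseChange R (Localization.AtPrime P)
      (Localization.AtPrime P) (CL R P) T) ((1 : CL R P) ⊗ₜ ((1 : Localization.AtPrime P) ⊗ₜ t))
      = 0
    rw [TensorProduct.AlgebraTensorModule.cancelBaseChange_tmul, one_smul]
    exact h1
  have h3 : TensorProduct.mk R (Localization.AtPrime P) T 1 t = 0 := h2
  rw [IsLocalizedModule.eq_zero_iff P.primeCompl] at h3
  obtain ⟨s, hs⟩ := h3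
  refine s.2 (ht ?_)
  rw [Submodule.mem_colon_singleton, Submodule.mem_bot]
  exact hs

/-- `rTensor` along `B → B'` as `1 ⊗ -` followed by `cancelBaseChange`. -/
theorem cancelBaseChange_one_tmul (A : Type u) [CommRing A] (B B' : Type u) [CommRing B]
    [CommRing B'] [Algebra A B] [Algebra A B'] [Algebra B B'] [IsScalarTower A B B']
    (N : Type u) [AddCommGroup N] [Module A N] (t : B ⊗[A] N) :
    TensorProduct.AlgebraTensorModule.cancelBaseChange A B B' B' N ((1 : B') ⊗ₜ[B] t) =
      LinearMap.rTensor N (IsScalarTower.toAlgHom A B B').toLinearMap t := by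
  induction t using TensorProduct.induction_on with
  | zero => simp
  | tmul b n =>
    rw [TensorProduct.AlgebraTensorModule.cancelBaseChange_tmul, LinearMap.rTensor_tmul]
    simp [Algebra.smul_def]
  | add x y hx hy => rw [TensorProduct.tmul_add, map_add, map_add, hx, hy]



/-- Compatible families over complete Noetherian local flat algebras. -/
structure Fam (A : Type u) [CommRing A] (M : Type u) [AddCommGroup M] [Module A M] where
  x : ∀ (B : Type u) [CommRing B] [Algebra A B] [IsNoetherianRing B] [IsLocalRing B],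
      IsAdicComplete (maximalIdeal B) B → Module.Flat A B → B ⊗[A] M
  hx : ∀ (B : Type u) [CommRing B] [Algebra A B] [IsNoetherianRing B] [IsLocalRing B]
      (hB : IsAdicComplete (maximalIdeal B) B) (hBf : Module.Flat A B)
      (B' : Type u) [CommRing B'] [Algebra A B'] [IsNoetherianRing B'] [IsLocalRing B']
      (hB' : IsAdicComplete (maximalIdeal B') B') (hB'f : Module.Flat A B') (g : B →ₐ[A] B'),
      LinearMap.rTensor M g.toLinearMap (x B hB hBf) = x B' hB' hB'f

/-- The family is constant with value `m`. -/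
def Fam.IsConst {A : Type u} [CommRing A] {M : Type u} [AddCommGroup M] [Module A M]
    (F : Fam A M) (m : M) : Prop :=
  ∀ (B : Type u) [CommRing B] [Algebra A B] [IsNoetherianRing B] [IsLocalRing B]
    (hB : IsAdicComplete (maximalIdeal B) B) (hBf : Module.Flat A B),
    F.x B hB hBf = (1 : B) ⊗ₜ[A] m

/-- Every compatible family is constant. -/
def Surj (A : Type u) [CommRing A] (M : Type u) [AddCommGroup M] [Module A M] : Prop :=
  ∀ F : Fam A M, ∃ m : M, F.IsConst m

section quot
variable {A : Type u} [CommRing A] 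

theorem smul_eq_zero_of_mem (B : Type u) [CommRing B] [Algebra A B] (I : Ideal A) (r : A)
    (hr : r ∈ I) (t : B ⊗[A] (A ⧸ I)) : r • t = 0 := by
  induction t using TensorProduct.induction_on with
  | zero => simp
  | tmul b y =>
    obtain ⟨a', rfl⟩ := Ideal.Quotient.mk_surjective y
    rw [TensorProduct.smul_tmul', TensorProduct.smul_tmul]
    have : r • (Ideal.Quotient.mk I a') = 0 := by
      rw [Algebra.smul_def, Ideal.Quotient.algebraMap_eq, ← map_mul, Ideal.Quotient.eq_zero_iff_mem]
      exact I.mul_mem_right _ hr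
    rw [this, TensorProduct.tmul_zero]
  | add x y hx hy => rw [smul_add, hx, hy, add_zero]

theorem smul_injective_of_notMem (B : Type u) [CommRing B] [Algebra A B] (hBf : Module.Flat A B)
    (p : Ideal A) [p.IsPrime] (s : A) (hs : s ∉ p) (t : B ⊗[A] (A ⧸ p)) (h : s • t = 0) :
    t = 0 := by
  have hinj : Function.Injective (LinearMap.lsmul A (A ⧸ p) s) := by
    rw [injective_iff_map_eq_zero]
    intro y hy
    obtain ⟨a', rfl⟩ := Ideal.Quotient.mk_surjective y
    rw [LinearMap.lsmul_apply, Algebra.smul_def, Ideal.Quotient.algebraMap_eq, ← map_mul,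
      Ideal.Quotient.eq_zero_iff_mem] at hy
    rw [Ideal.Quotient.eq_zero_iff_mem]
    exact (Ideal.IsPrime.mem_or_mem inferInstance hy).resolve_left hs
  have h2 := Module.Flat.lTensor_preserves_injective_linearMap (M := B)
    (LinearMap.lsmul A (A ⧸ p) s) hinj
  apply h2
  rw [map_zero]
  have : LinearMap.lsmul A (A ⧸ p) s = s • LinearMap.id := by
    ext; simp
  rw [this, LinearMap.lTensor_smul, LinearMap.lTensor_id]
  simpa using h

end quot



section quot
variable (A : Type u) [CommRing A] [IsNoetherianRing A] (p : Ideal A) [p.IsPrime]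

theorem exists_eq_tmul_one (B : Type u) [CommRing B] [Algebra A B] (I : Ideal A)
    (t : B ⊗[A] (A ⧸ I)) : ∃ b : B, t = b ⊗ₜ[A] (1 : A ⧸ I) := by
  induction t using TensorProduct.induction_on with
  | zero => exact ⟨0, by simp⟩
  | tmul b y =>
    obtain ⟨a', rfl⟩ := Ideal.Quotient.mk_surjective y
    refine ⟨a' • b, ?_⟩
    rw [TensorProduct.smul_tmul]
    congr 1
    rw [Algebra.smul_def, mul_one]; rfl
  | add x y hx hy =>
    obtain ⟨b1, rfl⟩ := hx
    obtain ⟨b2, rfl⟩ := hy
    exact ⟨b1 + b2, by rw [TensorProduct.add_tmul]⟩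

theorem tmul_one_eq_zero_of_mem_map (B : Type u) [CommRing B] [Algebra A B] (I : Ideal A)
    (c : B) (hc : c ∈ I.map (algebraMap A B)) : c ⊗ₜ[A] (1 : A ⧸ I) = 0 := by
  unfold Ideal.map at hc
  induction hc using Submodule.span_induction with
  | mem x hx =>
    obtain ⟨a', ha', rfl⟩ := hx
    rw [Algebra.algebraMap_eq_smul_one, TensorProduct.smul_tmul]
    have : a' • (1 : A ⧸ I) = 0 := by
      rw [Algebra.smul_def, mul_one, Ideal.Quotient.algebraMap_eq, Ideal.Quotient.eq_zero_iff_mem]
      exact ha'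
    rw [this, TensorProduct.tmul_zero]
  | zero => simp
  | add x y _ _ hx hy => rw [TensorProduct.add_tmul, hx, hy, add_zero]
  | smul b x _ hx =>
    have : (b • x) ⊗ₜ[A] (1 : A ⧸ I) = b • (x ⊗ₜ[A] (1 : A ⧸ I)) := by
      rw [TensorProduct.smul_tmul']
    rw [this, hx, smul_zero]

theorem map_maximalIdeal_eq :
    (maximalIdeal (Localization.AtPrime p)).map (algebraMap (Localization.AtPrime p) (CL A p)) =
      p.map (algebraMap A (CL A p)) := by
  have h1 : maximalIdeal (Localization.AtPrime p) = p.map (algebraMap A (Localization.AtPrime p)) :=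
    (Localization.AtPrime.map_eq_maximalIdeal).symm
  refine (congrArg (Ideal.map (algebraMap (Localization.AtPrime p) (CL A p))) h1).trans ?_
  rw [Ideal.map_map, ← IsScalarTower.algebraMap_eq]

theorem exists_smul_eq (t : CL A p ⊗[A] (A ⧸ p)) :
    ∃ s : A, s ∉ p ∧ ∃ a : A, s • t = (1 : CL A p) ⊗ₜ[A] (Ideal.Quotient.mk p a) := by
  obtain ⟨b, rfl⟩ := exists_eq_tmul_one A (CL A p) p t
  obtain ⟨r, hr⟩ := Ideal.Quotient.mk_surjective
    (AdicCompletion.evalOneₐ (maximalIdeal (Localization.AtPrime p)) b)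
  have hker : b - algebraMap (Localization.AtPrime p) (CL A p) r ∈
      RingHom.ker (AdicCompletion.evalOneₐ (maximalIdeal (Localization.AtPrime p))).toRingHom := by
    rw [RingHom.mem_ker]
    change (AdicCompletion.evalOneₐ (maximalIdeal (Localization.AtPrime p)))
      (b - algebraMap (Localization.AtPrime p) (CL A p) r) = 0
    rw [map_sub, AlgHom.commutes, ← hr]
    simp
  rw [AdicCompletion.ker_evalOneₐ_eq_map _ (IsNoetherian.noetherian _),
    map_maximalIdeal_eq A p] at hker
  have h0 := tmul_one_eq_zero_of_mem_map A (CL A p) p _ hker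
  rw [TensorProduct.sub_tmul, sub_eq_zero] at h0
  obtain ⟨a, s, rfl⟩ := IsLocalization.exists_mk'_eq p.primeCompl r
  refine ⟨s.1, s.2, a, ?_⟩
  rw [h0, TensorProduct.smul_tmul', ← IsScalarTower.algebraMap_smul (Localization.AtPrime p) s.1,
    Algebra.smul_def, ← map_mul, IsLocalization.mk'_spec', 
    ← IsScalarTower.algebraMap_apply, Algebra.algebraMap_eq_smul_one, TensorProduct.smul_tmul]
  congr 1
  rw [Algebra.smul_def, mul_one]; rfl

end quot




section quot
variable (A : Type u) [CommRing A] [IsNoetherianRing A] (p : Ideal A) [p.IsPrime]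

theorem smul_eq_of_smul_eq (F : Fam A (A ⧸ p)) (s : A) (a : A)
    (h0 : s • F.x (CL A p) inferInstance (flat_CL A p A) =
      (1 : CL A p) ⊗ₜ[A] (Ideal.Quotient.mk p a))
    (B : Type u) [CommRing B] [Algebra A B] [IsNoetherianRing B] [IsLocalRing B]
    (hB : IsAdicComplete (maximalIdeal B) B) (hBf : Module.Flat A B) :
    s • F.x B hB hBf = (1 : B) ⊗ₜ[A] (Ideal.Quotient.mk p a) := by
  by_contra hne
  have ht0 : s • F.x B hB hBf - (1 : B) ⊗ₜ[A] (Ideal.Quotient.mk p a) ≠ 0 := sub_ne_zero.mpr hne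
  obtain ⟨P, hP, hle⟩ := exists_le_isAssociatedPrime_of_isNoetherianRing B _ ht0
  rw [isAssociatedPrime_iff] at hP
  obtain ⟨hPprime, t', hPt'⟩ := hP
  have := hPprime
  have ht'0 : t' ≠ 0 := by
    rintro rfl
    apply hPprime.ne_top
    rw [hPt']
    ext r
    simp [Submodule.mem_colon_singleton]
  have hcomap : p = P.comap (algebraMap A B) := by
    ext r
    rw [Ideal.mem_comap, hPt', Submodule.mem_colon_singleton, Submodule.mem_bot, algebraMap_smul]
    constructor
    · intro hr
      exact smul_eq_zero_of_mem B p r hr t'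
    · intro hr
      by_contra hrp
      exact ht'0 (smul_injective_of_notMem B hBf p r hrp t' hr)
  have hflat' : Module.Flat A (CL B P) := flat_CL B P A
  have e1 := F.hx B hB hBf (CL B P) inferInstance hflat' (IsScalarTower.toAlgHom A B (CL B P))
  have e2 := F.hx (CL A p) inferInstance (flat_CL A p A) (CL B P) inferInstance hflat'
    (fromCL B P A p hcomap)
  have h3 : LinearMap.rTensor (A ⧸ p) (IsScalarTower.toAlgHom A B (CL B P)).toLinearMap
      (s • F.x B hB hBf - (1 : B) ⊗ₜ[A] (Ideal.Quotient.mk p a)) = 0 := by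
    rw [map_sub, map_smul, e1, ← e2, ← map_smul, h0, LinearMap.rTensor_tmul,
      LinearMap.rTensor_tmul]
    simp
  have h4 : (1 : CL B P) ⊗ₜ[B] (s • F.x B hB hBf - (1 : B) ⊗ₜ[A] (Ideal.Quotient.mk p a)) = 0 := by
    have h5 := cancelBaseChange_one_tmul A B (CL B P) (A ⧸ p)
      (s • F.x B hB hBf - (1 : B) ⊗ₜ[A] (Ideal.Quotient.mk p a))
    rw [h3] at h5
    exact (LinearEquiv.map_eq_zero_iff _).mp h5
  exact tmul_ne_zero_of_colon_le B P _ _ hle h4

end quot




section quot
variable (A : Type u) [CommRing A] [IsNoetherianRing A] (p : Ideal A) [p.IsPrime]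

theorem exists_sub_mul_mem (F : Fam A (A ⧸ p)) (s : A) (a : A)
    (h : ∀ (B : Type u) [CommRing B] [Algebra A B] [IsNoetherianRing B] [IsLocalRing B]
      (hB : IsAdicComplete (maximalIdeal B) B) (hBf : Module.Flat A B),
      s • F.x B hB hBf = (1 : B) ⊗ₜ[A] (Ideal.Quotient.mk p a)) :
    ∃ c : A, a - s * c ∈ p := by
  set I : Ideal A := p ⊔ Ideal.span {s} with hI
  have hle : p ≤ I := le_sup_left
  have hsI : s ∈ I := Ideal.mem_sup_right (Ideal.subset_span rfl)
  have hz : Ideal.Quotient.mk I a = 0 := by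
    apply Groth.Agent.Lib.CAlgMisc2H1.zero_of_complete_local A (A ⧸ I)
    intro B _ _ _ _ hB hBf
    have h1 := congrArg (LinearMap.lTensor B (Ideal.Quotient.factorₐ A hle).toLinearMap)
      (h B hB hBf)
    rw [map_smul, LinearMap.lTensor_tmul] at h1
    rw [smul_eq_zero_of_mem B I s hsI] at h1
    rw [h1]
    rfl
  rw [Ideal.Quotient.eq_zero_iff_mem, hI, Submodule.mem_sup] at hz
  obtain ⟨q, hq, y, hy, hqy⟩ := hz
  rw [Ideal.mem_span_singleton'] at hy
  obtain ⟨c, rfl⟩ := hy
  refine ⟨c, ?_⟩
  have : a - s * c = q := by rw [← hqy]; ring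
  rw [this]
  exact hq

theorem surj_quot : Surj A (A ⧸ p) := by
  intro F
  obtain ⟨s, hs, a, h0⟩ := exists_smul_eq A p (F.x (CL A p) inferInstance (flat_CL A p A))
  have h := smul_eq_of_smul_eq A p F s a h0
  obtain ⟨c, hc⟩ := exists_sub_mul_mem A p F s a h
  refine ⟨Ideal.Quotient.mk p c, ?_⟩
  intro B _ _ _ _ hB hBf
  rw [← sub_eq_zero]
  apply smul_injective_of_notMem B hBf p s hs
  rw [smul_sub, h B hB hBf, sub_eq_zero, TensorProduct.smul_tmul', TensorProduct.smul_tmul]
  congr 1
  rw [Algebra.smul_def, Ideal.Quotient.algebraMap_eq, ← map_mul, Ideal.Quotient.eq]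
  exact hc

end quot




section dev
variable (A : Type u) [CommRing A] [IsNoetherianRing A]

theorem surj_of_subsingleton (N : Type u) [AddCommGroup N] [Module A N] [Subsingleton N] :
    Surj A N := by
  intro F
  refine ⟨0, ?_⟩
  intro B _ _ _ _ hB hBf
  exact Subsingleton.elim _ _

/-- push a family forward along a linear map -/
def Fam.map {N₂ N₃ : Type u} [AddCommGroup N₂] [Module A N₂] [AddCommGroup N₃] [Module A N₃]
    (F : Fam A N₂) (g : N₂ →ₗ[A] N₃) : Fam A N₃ where
  x := fun B _ _ _ _ hB hBf => LinearMap.lTensor B g (F.x B hB hBf)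
  hx := by
    intro B _ _ _ _ hB hBf B' _ _ _ _ hB' hB'f φ
    rw [← F.hx B hB hBf B' hB' hB'f φ]
    rw [← LinearMap.comp_apply, ← LinearMap.comp_apply, LinearMap.rTensor_comp_lTensor,
      LinearMap.lTensor_comp_rTensor]

/-- subtract a constant family -/
def Fam.subConst {N₂ : Type u} [AddCommGroup N₂] [Module A N₂]
    (F : Fam A N₂) (n : N₂) : Fam A N₂ where
  x := fun B _ _ _ _ hB hBf => F.x B hB hBf - (1 : B) ⊗ₜ[A] n
  hx := by
    intro B _ _ _ _ hB hBf B' _ _ _ _ hB' hB'f φ
    rw [map_sub, F.hx B hB hBf B' hB' hB'f φ, LinearMap.rTensor_tmul]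
    simp

theorem surj_of_exact (N₁ N₂ N₃ : Type u) [AddCommGroup N₁] [Module A N₁]
    [AddCommGroup N₂] [Module A N₂] [AddCommGroup N₃] [Module A N₃]
    (f : N₁ →ₗ[A] N₂) (g : N₂ →ₗ[A] N₃) (hf : Function.Injective f)
    (hg : Function.Surjective g) (hfg : Function.Exact f g)
    (h1 : Surj A N₁) (h3 : Surj A N₃) : Surj A N₂ := by
  intro F
  obtain ⟨n₃, hn₃⟩ := h3 (F.map A g)
  obtain ⟨n₂, rfl⟩ := hg n₃
  -- z = F - const n₂ is killed by g
  have hz : ∀ (B : Type u) [CommRing B] [Algebra A B] [IsNoetherianRing B] [IsLocalRing B]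
      (hB : IsAdicComplete (maximalIdeal B) B) (hBf : Module.Flat A B),
      ∃ w : B ⊗[A] N₁, LinearMap.lTensor B f w = (F.subConst A n₂).x B hB hBf := by
    intro B _ _ _ _ hB hBf
    have hex := lTensor_exact B hfg hg
    apply (hex _).mp
    change LinearMap.lTensor B g (F.x B hB hBf - (1 : B) ⊗ₜ[A] n₂) = 0
    rw [map_sub, LinearMap.lTensor_tmul, sub_eq_zero]
    exact hn₃ B hB hBf
  have hinj : ∀ (B : Type u) [CommRing B] [Algebra A B] (hBf : Module.Flat A B),
      Function.Injective (LinearMap.lTensor B f) := by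
    intro B _ _ hBf
    exact Module.Flat.lTensor_preserves_injective_linearMap f hf
  let G : Fam A N₁ :=
    { x := fun B _ _ _ _ hB hBf => (hz B hB hBf).choose
      hx := by
        intro B _ _ _ _ hB hBf B' _ _ _ _ hB' hB'f φ
        apply hinj B' hB'f
        rw [(hz B' hB' hB'f).choose_spec, ← LinearMap.comp_apply, LinearMap.lTensor_comp_rTensor,
          ← LinearMap.rTensor_comp_lTensor, LinearMap.comp_apply, (hz B hB hBf).choose_spec]
        exact (F.subConst A n₂).hx B hB hBf B' hB' hB'f φ }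
  obtain ⟨n₁, hn₁⟩ := h1 G
  refine ⟨n₂ + f n₁, ?_⟩
  intro B _ _ _ _ hB hBf
  have e1 := (hz B hB hBf).choose_spec
  have e2 : (hz B hB hBf).choose = (1 : B) ⊗ₜ[A] n₁ := hn₁ B hB hBf
  rw [e2, LinearMap.lTensor_tmul] at e1
  have e3 : (F.subConst A n₂).x B hB hBf = F.x B hB hBf - (1 : B) ⊗ₜ[A] n₂ := rfl
  rw [e3] at e1
  rw [TensorProduct.tmul_add, e1]
  abel

theorem surj_of_finite (M : Type u) [AddCommGroup M] [Module A M] [Module.Finite A M] :
    Surj A M := by
  induction ‹Module.Finite A M› using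
    IsNoetherianRing.induction_on_isQuotientEquivQuotientPrime A with
  | subsingleton N => exact surj_of_subsingleton A N
  | quotient N p e =>
    have h1 : Surj A (A ⧸ p.1) := surj_quot A p.1
    exact surj_of_exact A (A ⧸ p.1) N PUnit.{u+1} e.symm.toLinearMap 0 e.symm.injective
      (Function.surjective_to_subsingleton _)
      ((e.symm.exact_zero_iff_surjective _).2 e.symm.surjective) h1 (surj_of_subsingleton A _)
  | exact N₁ N₂ N₃ f g hf hg hfg h₁ h₃ => exact surj_of_exact A N₁ N₂ N₃ f g hf hg hfg h₁ h₃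

end dev


end Groth.Agent.Lib.ComplLocFamH6
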