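import Mathlib

/-!
# Quotients of completions by extended ideals (helper3)

For a Noetherian ring `B`, ideals `J`, `q` with `B ⧸ q` `J`-adically complete, the quotient of the
`J`-adic completion `B̂` by `q B̂` is `B ⧸ q`.  Application: completed principal localization
modulo a prime in which the element is invertible.
-/

namespace Groth.Agent.Lib.ComplLocH3

universe u

open AdicCompletion

section L

variable {B : Type u} [CommRing B] [IsNoetherianRing B] (J q : Ideal B)

theorem map_mkQ_eq_zero_iff (x : AdicCompletion J B) :
    AdicCompletion.map J (Submodule.mkQ q) x = 0 ↔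
      x ∈ q.map (algebraMap B (AdicCompletion J B)) := by
  constructor
  · intro hx
    have hex : Function.Exact (AdicCompletion.map J q.subtype)
        (AdicCompletion.map J (Submodule.mkQ q)) :=
      AdicCompletion.map_exact (Submodule.injective_subtype q) (LinearMap.exact_subtype_mkQ q)
        (Submodule.mkQ_surjective q)
    obtain ⟨y, rfl⟩ := (hex x).1 hx
    obtain ⟨t, rfl⟩ := AdicCompletion.ofTensorProduct_surjective_of_finite J q y
    clear hx
    induction t using TensorProduct.induction_on with
    | zero => simp
    | tmul r m =>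
      rw [AdicCompletion.ofTensorProduct_tmul, map_smul, AdicCompletion.map_of, smul_eq_mul]
      apply Ideal.mul_mem_left
      have : of J B (q.subtype m) = algebraMap B (AdicCompletion J B) (m : B) := by
        rw [AdicCompletion.algebraMap_apply]; rfl
      rw [this]
      exact Ideal.mem_map_of_mem _ m.2
    | add a b ha hb =>
      rw [map_add, map_add]; exact Ideal.add_mem _ ha hb
  · intro hx
    refine Submodule.span_induction ?_ ?_ ?_ ?_ hx
    · rintro _ ⟨b, hb, rfl⟩
      rw [AdicCompletion.algebraMap_apply, AdicCompletion.map_of]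
      have : Submodule.mkQ q (algebraMap B B b) = 0 :=
        (Submodule.Quotient.mk_eq_zero q).2 hb
      rw [this, _root_.map_zero]
    · simp
    · intro a b _ _ ha hb; rw [map_add, ha, hb, add_zero]
    · intro r a _ ha; rw [map_smul, ha, smul_zero]

variable [IsAdicComplete J (B ⧸ q)]

theorem exists_sub_mem (x : AdicCompletion J B) :
    ∃ b : B, x - algebraMap B (AdicCompletion J B) b ∈
      q.map (algebraMap B (AdicCompletion J B)) := by
  obtain ⟨c, hc⟩ := AdicCompletion.of_surjective J (B ⧸ q)
    (AdicCompletion.map J (Submodule.mkQ q) x)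
  obtain ⟨b, rfl⟩ := Submodule.mkQ_surjective q c
  refine ⟨b, ?_⟩
  rw [← map_mkQ_eq_zero_iff, map_sub, AdicCompletion.algebraMap_apply, AdicCompletion.map_of,
    ← hc]
  simp

theorem mem_of_algebraMap_mem (b : B)
    (hb : algebraMap B (AdicCompletion J B) b ∈ q.map (algebraMap B (AdicCompletion J B))) :
    b ∈ q := by
  rw [← map_mkQ_eq_zero_iff, AdicCompletion.algebraMap_apply, AdicCompletion.map_of] at hb
  have h0 : Submodule.mkQ q (algebraMap B B b) = 0 :=
    (AdicCompletion.of_bijective J (B ⧸ q)).1 (by rw [hb, _root_.map_zero])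
  exact (Submodule.Quotient.mk_eq_zero q).1 h0

end L

section Main

variable (A : Type u) [CommRing A] [IsNoetherianRing A] (I : Ideal A) [IsAdicComplete I A]
  (p : Ideal A) [p.IsPrime] (f : A)

theorem main (hf : IsUnit (Ideal.Quotient.mk p f)) :
    (p.map (algebraMap A (AdicCompletion (I.map (algebraMap A (Localization.Away f)))
      (Localization.Away f)))).IsPrime ∧
    Function.Bijective (Ideal.quotientMap (p.map (algebraMap A (AdicCompletion (I.map
      (algebraMap A (Localization.Away f))) (Localization.Away f))))
      (algebraMap A (AdicCompletion (I.map (algebraMap A (Localization.Away f)))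
        (Localization.Away f))) Ideal.le_comap_map) := by
  set B := Localization.Away f with hB
  set J : Ideal B := I.map (algebraMap A B) with hJ
  set q : Ideal B := p.map (algebraMap A B) with hq
  -- f is a unit modulo p
  obtain ⟨g'', hg''⟩ := hf.exists_right_inv
  obtain ⟨g', rfl⟩ := Ideal.Quotient.mk_surjective g''
  have hfg : f * g' - 1 ∈ p := by
    rw [← Ideal.Quotient.eq, map_mul, hg'', map_one]
  have hfp : f ∉ p := by
    intro hfp
    have : (1 : A) ∈ p := by
      have h1 : f * g' ∈ p := Ideal.mul_mem_right _ _ hfp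
      have := Ideal.sub_mem _ h1 hfg
      simpa using this
    exact (Ideal.IsPrime.ne_top ‹p.IsPrime›) ((Ideal.eq_top_iff_one p).2 this)
  -- the ring map A → B ⧸ q is surjective
  let φ : A →+* B ⧸ q := (Ideal.Quotient.mk q).comp (algebraMap A B)
  have hφ1 : φ f * φ g' = 1 := by
    rw [← map_mul, ← sub_eq_zero, ← map_one φ, ← map_sub]
    exact Ideal.Quotient.eq_zero_iff_mem.2 (Ideal.mem_map_of_mem _ hfg)
  have hφsurj : Function.Surjective φ := by
    intro y
    obtain ⟨b, rfl⟩ := Ideal.Quotient.mk_surjective y
    obtain ⟨n, a, hna⟩ := IsLocalization.Away.surj f b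
    refine ⟨a * g' ^ n, ?_⟩
    have h1 : Ideal.Quotient.mk q b * φ f ^ n = φ a := by
      show Ideal.Quotient.mk q b * (Ideal.Quotient.mk q (algebraMap A B f)) ^ n =
        Ideal.Quotient.mk q (algebraMap A B a)
      rw [← hna, map_mul, map_pow]
    calc φ (a * g' ^ n) = φ a * φ g' ^ n := by rw [map_mul, map_pow]
      _ = Ideal.Quotient.mk q b * (φ f * φ g') ^ n := by rw [← h1, mul_pow]; ring
      _ = Ideal.Quotient.mk q b := by rw [hφ1, one_pow, mul_one]
  let g : A →ₗ[A] B ⧸ q := ((Submodule.mkQ q).restrictScalars A).comp (Algebra.linearMap A B)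
  have hg : Function.Surjective g := hφsurj
  haveI : Module.Finite A (B ⧸ q) := Module.Finite.of_surjective g hg
  haveI hcA : IsAdicComplete I (B ⧸ q) :=
    { toIsHausdorff := IsHausdorff.of_le_jacobson I (B ⧸ q) (IsAdicComplete.le_jacobson_bot I)
      toIsPrecomplete := by
        rw [← AdicCompletion.of_surjective_iff]
        intro y
        obtain ⟨x, rfl⟩ := AdicCompletion.map_surjective I hg y
        obtain ⟨a, rfl⟩ := AdicCompletion.of_surjective I A x
        exact ⟨g a, (AdicCompletion.map_of _ _ _).symm⟩ }
  haveI hcB : IsAdicComplete J (B ⧸ q) := (IsAdicComplete.map_algebraMap_iff I (B ⧸ q)).2 hcA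
  have hcomp : (algebraMap B (AdicCompletion J B)).comp (algebraMap A B) =
      algebraMap A (AdicCompletion J B) := by
    ext a
    simp [AdicCompletion.algebraMap_apply]
  have hideal : p.map (algebraMap A (AdicCompletion J B)) =
      q.map (algebraMap B (AdicCompletion J B)) := by
    rw [hq, Ideal.map_map, hcomp]
  have hinj : Function.Injective (Ideal.quotientMap (p.map (algebraMap A (AdicCompletion J B)))
      (algebraMap A (AdicCompletion J B)) Ideal.le_comap_map) := by
    apply Ideal.quotientMap_injective'
    intro a ha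
    rw [Ideal.mem_comap, hideal, ← hcomp, RingHom.comp_apply] at ha
    have h1 : algebraMap A B a ∈ q := mem_of_algebraMap_mem J q _ ha
    have h2 := IsLocalization.under_map_of_isPrime_disjoint (Submonoid.powers f) B ‹p.IsPrime›
      (by
        rw [Set.disjoint_left]
        rintro _ ⟨n, rfl⟩ hn
        exact hfp (Ideal.IsPrime.mem_of_pow_mem ‹p.IsPrime› n hn))
    rw [← h2]
    exact h1
  have hsurj : Function.Surjective (Ideal.quotientMap (p.map (algebraMap A (AdicCompletion J B)))
      (algebraMap A (AdicCompletion J B)) Ideal.le_comap_map) := by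
    intro y
    obtain ⟨x, rfl⟩ := Ideal.Quotient.mk_surjective y
    obtain ⟨b, hb⟩ := exists_sub_mem J q x
    obtain ⟨a, ha⟩ := hφsurj (Ideal.Quotient.mk q b)
    refine ⟨Ideal.Quotient.mk p a, ?_⟩
    rw [Ideal.quotientMap_mk, Ideal.Quotient.eq, hideal]
    have h1 : algebraMap A B a - b ∈ q := Ideal.Quotient.eq.1 ha
    have h2 : algebraMap B (AdicCompletion J B) (algebraMap A B a - b) ∈
        q.map (algebraMap B (AdicCompletion J B)) := Ideal.mem_map_of_mem _ h1
    have h3 : algebraMap A (AdicCompletion J B) a - x =
        algebraMap B (AdicCompletion J B) (algebraMap A B a - b) -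
          (x - algebraMap B (AdicCompletion J B) b) := by
      rw [← hcomp, RingHom.comp_apply, map_sub]; ring
    rw [h3]
    exact Ideal.sub_mem _ h2 hb
  refine ⟨?_, hinj, hsurj⟩
  let e := RingEquiv.ofBijective _ (⟨hinj, hsurj⟩ : Function.Bijective
    (Ideal.quotientMap (p.map (algebraMap A (AdicCompletion J B)))
      (algebraMap A (AdicCompletion J B)) Ideal.le_comap_map))
  haveI : IsDomain (A ⧸ p) := (Ideal.Quotient.isDomain_iff_prime p).2 ‹_›
  haveI : IsDomain (AdicCompletion J B ⧸ p.map (algebraMap A (AdicCompletion J B))) :=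
    e.symm.injective.isDomain e.symm.toRingHom
  exact (Ideal.Quotient.isDomain_iff_prime _).1 this

end Main

end Groth.Agent.Lib.ComplLocH3
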