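import Mathlib
import Groth.Prelude.Def_Found
import Groth.Agent.Lib.ComplReduced_helper3
import Groth.Agent.Lib.FFIffDomains_helper3
import Groth.Agent.Lib.FFNagata_helper3

/-!
# Geometrically reduced formal fibres and reducedness of completions of finite algebras (helper3)
APPEND-ONLY once landed.
-/

set_option autoImplicit false
universe u

namespace Groth.Agent.Lib.ComplReduced2H3

open IsLocalRing TensorProduct

variable (A : Type u) [CommRing A] [IsNoetherianRing A] [IsLocalRing A]

theorem forall_isReduced_iff_hasGeomReducedFormalFibres :
    (∀ (C : Type u) [CommRing C] [Algebra A C], Module.Finite A C → IsReduced C →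
        IsReduced (AdicCompletion ((⊥ : Ideal C).jacobson) C)) ↔
      EGA4.HasGeomReducedFormalFibres A := by
  constructor
  · intro H
    rw [FFIffDomainsH3.hasGeomReducedFormalFibres_iff]
    intro B _ _ _ _ q _ _
    obtain ⟨e, -⟩ := ComplTensorH3.exists_ringEquiv_jacobson A B
    haveI := H B inferInstance inferInstance
    haveI : IsReduced (B ⊗[A] EGA4.Cpl A) :=
      isReduced_of_injective e.symm.toRingHom e.symm.injective
    infer_instance
  · intro hA C _ _ hfin hred
    haveI := hfin
    haveI := hred
    obtain ⟨hloc, hC⟩ := AnUnramNagataH3.inC_completion A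
    haveI : IsNoetherianRing C := IsNoetherianRing.of_finite A C
    haveI := hC.flat
    haveI : IsReduced (C ⊗[A] AdicCompletion (maximalIdeal A) A) := by
      apply ComplReducedH3.isReduced_tensor_of_minimalPrimes
      intro q hq
      haveI : q.IsPrime := hq.1.1
      exact FFNagataH3.isReduced_tensor_completion A (C ⧸ q) hA
    obtain ⟨e, -⟩ := ComplTensorH3.exists_ringEquiv_jacobson A C
    exact isReduced_of_injective e.toRingHom e.injective

end Groth.Agent.Lib.ComplReduced2H3
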