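import Mathlib

set_option autoImplicit false
universe u

/-!
# Completion along a principal ideal and bounded torsion (helper3)

For `I = (a)` and a short exact sequence `0 → M' → M → M'' → 0` with `M''` of bounded `a`-power
torsion, the completed sequence is exact.  Application to weakly regular sequences.
-/

namespace Groth.Agent.Lib.ComplRegSeqH3

open AdicCompletion

variable {A : Type u} [CommRing A] (a : A)

section modules

variable {M' M M'' : Type u} [AddCommGroup M'] [Module A M'] [AddCommGroup M] [Module A M]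
  [AddCommGroup M''] [Module A M'']

theorem mem_span_pow_smul_top_iff (n : ℕ) (x : M) :
    x ∈ ((Ideal.span {a}) ^ n • ⊤ : Submodule A M) ↔ ∃ y : M, a ^ n • y = x := by
  rw [Ideal.span_singleton_pow, Submodule.ideal_span_singleton_smul,
    Submodule.mem_smul_pointwise_iff_exists]
  simp

theorem exists_of_exists_add {f : M' →ₗ[A] M} {g : M →ₗ[A] M''} (hf : Function.Injective f)
    (hfg : Function.Exact f g) {c : ℕ}
    (hc : ∀ x : M'', (∃ m : ℕ, a ^ m • x = 0) → a ^ c • x = 0) (n : ℕ) (x : M') (y : M)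
    (hy : a ^ (n + c) • y = f x) : ∃ z : M', a ^ n • z = x := by
  have h1 : a ^ c • g y = 0 :=
    hc (g y) ⟨n + c, by rw [← map_smul, hy, hfg.apply_apply_eq_zero]⟩
  rw [← map_smul] at h1
  obtain ⟨z, hz⟩ := (hfg _).1 h1
  refine ⟨z, hf ?_⟩
  rw [map_smul, hz, smul_smul, ← pow_add, hy]

theorem map_injective_of_bounded {f : M' →ₗ[A] M} {g : M →ₗ[A] M''}
    (hf : Function.Injective f) (hfg : Function.Exact f g)
    (hbd : ∃ c : ℕ, ∀ x : M'', (∃ m : ℕ, a ^ m • x = 0) → a ^ c • x = 0) :
    Function.Injective (AdicCompletion.map (Ideal.span {a}) f) := by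
  obtain ⟨c, hc⟩ := hbd
  rw [injective_iff_map_eq_zero]
  intro x hx
  obtain ⟨s, rfl⟩ := AdicCompletion.mk_surjective _ _ x
  rw [AdicCompletion.map_mk] at hx
  have h1 : ∀ n, f (s n) ∈ ((Ideal.span {a}) ^ n • ⊤ : Submodule A M) := by
    intro n
    have h := congrArg (fun y => y.val n) hx
    simpa using h
  apply AdicCompletion.ext
  intro n
  rw [AdicCompletion.mk_apply_coe, AdicCompletion.val_zero]
  simp only [Pi.zero_apply, Submodule.mkQ_apply, Submodule.Quotient.mk_eq_zero]
  have h2 : s (n + c) ∈ ((Ideal.span {a}) ^ n • ⊤ : Submodule A M') := by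
    obtain ⟨y, hy⟩ := (mem_span_pow_smul_top_iff a (n + c) _).1 (h1 (n + c))
    obtain ⟨z, hz⟩ := exists_of_exists_add a hf hfg hc n (s (n + c)) y hy
    exact (mem_span_pow_smul_top_iff a n _).2 ⟨z, hz⟩
  have h3 : s n - s (n + c) ∈ ((Ideal.span {a}) ^ n • ⊤ : Submodule A M') := by
    have h := s.2 (Nat.le_add_right n c)
    rwa [SModEq.sub_mem] at h
  have h4 : s n = (s n - s (n + c)) + s (n + c) := by abel
  rw [h4]
  exact add_mem h3 h2

theorem map_exact_of_bounded {f : M' →ₗ[A] M} {g : M →ₗ[A] M''}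
    (hf : Function.Injective f) (hfg : Function.Exact f g) (hg : Function.Surjective g)
    (hbd : ∃ c : ℕ, ∀ x : M'', (∃ m : ℕ, a ^ m • x = 0) → a ^ c • x = 0) :
    Function.Exact (AdicCompletion.map (Ideal.span {a}) f)
      (AdicCompletion.map (Ideal.span {a}) g) := by
  obtain ⟨c, hc⟩ := hbd
  intro y
  constructor
  · intro hy
    obtain ⟨s, rfl⟩ := AdicCompletion.mk_surjective _ _ y
    rw [AdicCompletion.map_mk] at hy
    have h1 : ∀ n, g (s n) ∈ ((Ideal.span {a}) ^ n • ⊤ : Submodule A M'') := by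
      intro n
      have h := congrArg (fun y => y.val n) hy
      simpa using h
    have h2 : ∀ n, ∃ x' : M', ∃ w : M, s n = f x' + a ^ n • w := by
      intro n
      obtain ⟨v, hv⟩ := (mem_span_pow_smul_top_iff a n _).1 (h1 n)
      obtain ⟨w, rfl⟩ := hg v
      have h : g (s n - a ^ n • w) = 0 := by rw [map_sub, map_smul, hv, sub_self]
      obtain ⟨x', hx'⟩ := (hfg _).1 h
      exact ⟨x', w, by rw [hx']; abel⟩
    choose x' w hxw using h2
    have h3 : ∀ n, ∃ z : M', a ^ n • z = x' (n + c) - x' (n + c + 1) := by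
      intro n
      obtain ⟨u, hu⟩ := (mem_span_pow_smul_top_iff a (n + c) (s (n + c) - s (n + c + 1))).1 (by
        have h := s.2 (Nat.le_succ (n + c))
        rwa [SModEq.sub_mem] at h)
      apply exists_of_exists_add a hf hfg hc n _ (u - w (n + c) + a • w (n + c + 1))
      have e1 : f (x' (n + c)) = s (n + c) - a ^ (n + c) • w (n + c) := by
        rw [hxw (n + c)]; abel
      have e2 : f (x' (n + c + 1)) = s (n + c + 1) - a ^ (n + c + 1) • w (n + c + 1) := by
        rw [hxw (n + c + 1)]; abel
      rw [map_sub, e1, e2, smul_add, smul_sub, hu, smul_smul, ← pow_succ]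
      abel
    let t : AdicCauchySequence (Ideal.span {a}) M' :=
      AdicCauchySequence.mk (Ideal.span {a}) M' (fun n => x' (n + c)) (fun n => by
        rw [SModEq.sub_mem]
        have h := h3 n
        rw [show n + c + 1 = n + 1 + c by omega] at h
        exact (mem_span_pow_smul_top_iff a n _).2 h)
    refine ⟨AdicCompletion.mk (Ideal.span {a}) M' t, ?_⟩
    rw [AdicCompletion.map_mk]
    apply AdicCompletion.ext
    intro n
    rw [AdicCompletion.mk_apply_coe, AdicCompletion.mk_apply_coe]
    simp only [Submodule.mkQ_apply]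
    rw [Submodule.Quotient.eq]
    show f (x' (n + c)) - s n ∈ _
    have e1 : f (x' (n + c)) - s n = (s (n + c) - s n) - a ^ (n + c) • w (n + c) := by
      rw [hxw (n + c)]; abel
    rw [e1]
    refine sub_mem ?_ ?_
    · have h := (s.2 (Nat.le_add_right n c)).symm
      rwa [SModEq.sub_mem] at h
    · refine (mem_span_pow_smul_top_iff a n _).2 ⟨a ^ c • w (n + c), ?_⟩
      rw [smul_smul, ← pow_add]
  · rintro ⟨x, rfl⟩
    rw [AdicCompletion.map_comp_apply]
    have h : g ∘ₗ f = 0 := LinearMap.ext fun z => hfg.apply_apply_eq_zero z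
    rw [h, AdicCompletion.map_zero]
    rfl

end modules

section ring

open RingTheory.Sequence

theorem map_lsmul {M : Type u} [AddCommGroup M] [Module A M] (r : A)
    (z : AdicCompletion (Ideal.span {a}) M) :
    AdicCompletion.map (Ideal.span {a}) (LinearMap.lsmul A M r) z =
      algebraMap A (AdicCompletion (Ideal.span {a}) A) r • z := by
  rw [algebraMap_smul]
  obtain ⟨s, rfl⟩ := AdicCompletion.mk_surjective _ _ z
  rw [AdicCompletion.map_mk, ← map_smul]
  apply AdicCompletion.ext
  intro n
  rw [AdicCompletion.mk_apply_coe, AdicCompletion.mk_apply_coe]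
  rfl

theorem smul_eq_zero_of_mem (J : Ideal A) (r : A) (hr : r ∈ J)
    (z : AdicCompletion (Ideal.span {a}) (A ⧸ J)) : r • z = 0 := by
  obtain ⟨s, rfl⟩ := AdicCompletion.mk_surjective _ _ z
  rw [← map_smul]
  apply AdicCompletion.ext
  intro n
  rw [AdicCompletion.mk_apply_coe, AdicCompletion.val_zero]
  simp only [Pi.zero_apply, Submodule.mkQ_apply]
  have h : (r • s) n = 0 := by
    show r • s n = 0
    obtain ⟨b, hb⟩ := Submodule.Quotient.mk_surjective _ (s n)
    rw [← hb, ← Submodule.Quotient.mk_smul, Submodule.Quotient.mk_eq_zero]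
    exact J.mul_mem_right _ hr
  rw [h]
  simp

theorem map_le_ker (J : Ideal A) :
    J.map (algebraMap A (AdicCompletion (Ideal.span {a}) A)) ≤
      LinearMap.ker (AdicCompletion.map (Ideal.span {a}) J.mkQ) := by
  rw [Ideal.map_le_iff_le_comap]
  intro r hr
  rw [Ideal.mem_comap]
  show _ ∈ LinearMap.ker _
  rw [LinearMap.mem_ker]
  have h : algebraMap A (AdicCompletion (Ideal.span {a}) A) r =
      algebraMap A (AdicCompletion (Ideal.span {a}) A) r •
        (1 : AdicCompletion (Ideal.span {a}) A) := by rw [smul_eq_mul, mul_one]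
  rw [h, map_smul, algebraMap_smul]
  exact smul_eq_zero_of_mem a J r hr _

theorem step (J J' : Ideal A) (r : A) (hJ' : J' = J ⊔ Ideal.span {r})
    (hreg : ∀ x : A, r * x ∈ J → x ∈ J)
    (hbd : ∃ c : ℕ, ∀ x : A ⧸ J', (∃ m : ℕ, a ^ m • x = 0) → a ^ c • x = 0) :
    (∀ z : AdicCompletion (Ideal.span {a}) (A ⧸ J),
      algebraMap A (AdicCompletion (Ideal.span {a}) A) r • z = 0 → z = 0) ∧
    (LinearMap.ker (AdicCompletion.map (Ideal.span {a}) J.mkQ) =
        J.map (algebraMap A (AdicCompletion (Ideal.span {a}) A)) →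
      LinearMap.ker (AdicCompletion.map (Ideal.span {a}) J'.mkQ) =
        J'.map (algebraMap A (AdicCompletion (Ideal.span {a}) A))) := by
  have hle : J ≤ J' := hJ' ▸ le_sup_left
  have hrJ' : r ∈ J' := hJ' ▸ Ideal.mem_sup_right (Ideal.mem_span_singleton_self r)
  let f : (A ⧸ J) →ₗ[A] (A ⧸ J) := LinearMap.lsmul A (A ⧸ J) r
  let g : (A ⧸ J) →ₗ[A] (A ⧸ J') := Submodule.factor hle
  have hf : Function.Injective f := by
    rw [injective_iff_map_eq_zero]
    intro x hx
    obtain ⟨b, rfl⟩ := Submodule.Quotient.mk_surjective _ x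
    have h1 : r • (Submodule.Quotient.mk b : A ⧸ J) = 0 := hx
    rw [← Submodule.Quotient.mk_smul, Submodule.Quotient.mk_eq_zero] at h1
    rw [Submodule.Quotient.mk_eq_zero]
    exact hreg b h1
  have hg : Function.Surjective g := Submodule.factor_surjective hle
  have hfg : Function.Exact f g := by
    intro y
    obtain ⟨b, rfl⟩ := Submodule.Quotient.mk_surjective _ y
    constructor
    · intro hy
      have h1 : (Submodule.Quotient.mk b : A ⧸ J') = 0 := hy
      rw [Submodule.Quotient.mk_eq_zero, hJ'] at h1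
      obtain ⟨j, hj, t', ht', hb⟩ := Submodule.mem_sup.1 h1
      obtain ⟨t, rfl⟩ := Ideal.mem_span_singleton'.1 ht'
      refine ⟨Submodule.Quotient.mk t, ?_⟩
      show r • (Submodule.Quotient.mk t : A ⧸ J) = _
      rw [← Submodule.Quotient.mk_smul, Submodule.Quotient.eq]
      have h2 : r • t - b = -j := by rw [← hb, smul_eq_mul]; ring
      rw [h2]
      exact J.neg_mem hj
    · rintro ⟨z, hz⟩
      obtain ⟨t, rfl⟩ := Submodule.Quotient.mk_surjective _ z
      rw [← hz]
      show (Submodule.Quotient.mk (r • t) : A ⧸ J') = 0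
      rw [Submodule.Quotient.mk_eq_zero]
      exact J'.mul_mem_right _ hrJ'
  have inj := map_injective_of_bounded a hf hfg hbd
  have ex := map_exact_of_bounded a hf hfg hg hbd
  refine ⟨fun z hz => ?_, fun hker => ?_⟩
  · rw [← map_lsmul] at hz
    exact inj (hz.trans (_root_.map_zero _).symm)
  · refine le_antisymm ?_ (map_le_ker a J')
    intro x hx
    rw [LinearMap.mem_ker] at hx
    have h1 : AdicCompletion.map (Ideal.span {a}) J'.mkQ x =
        AdicCompletion.map (Ideal.span {a}) g
          (AdicCompletion.map (Ideal.span {a}) J.mkQ x) := by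
      rw [AdicCompletion.map_comp_apply]
      rfl
    rw [h1] at hx
    obtain ⟨z, hz⟩ := (ex _).1 hx
    obtain ⟨y, rfl⟩ := AdicCompletion.map_surjective (Ideal.span {a})
      (Submodule.mkQ_surjective J) z
    rw [map_lsmul, ← map_smul] at hz
    have h2 : x - algebraMap A (AdicCompletion (Ideal.span {a}) A) r • y ∈
        LinearMap.ker (AdicCompletion.map (Ideal.span {a}) J.mkQ) := by
      rw [LinearMap.mem_ker, map_sub, hz, sub_self]
    rw [hker] at h2
    have h3 : x = (x - algebraMap A (AdicCompletion (Ideal.span {a}) A) r • y) +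
        algebraMap A (AdicCompletion (Ideal.span {a}) A) r • y := by abel
    rw [h3]
    refine Ideal.add_mem _ (Ideal.map_mono hle h2) ?_
    rw [smul_eq_mul]
    exact Ideal.mul_mem_right _ _ (Ideal.mem_map_of_mem _ hrJ')

theorem ker_eq_of_eq_bot (J : Ideal A) (hJ : J = ⊥) :
    LinearMap.ker (AdicCompletion.map (Ideal.span {a}) J.mkQ) =
      J.map (algebraMap A (AdicCompletion (Ideal.span {a}) A)) := by
  subst hJ
  rw [Ideal.map_bot]
  let e : A ≃ₗ[A] A ⧸ (⊥ : Ideal A) := LinearEquiv.ofBijective (⊥ : Ideal A).mkQ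
    ⟨by rw [← LinearMap.ker_eq_bot, Submodule.ker_mkQ], Submodule.mkQ_surjective _⟩
  have h : Function.Injective (AdicCompletion.map (Ideal.span {a}) (⊥ : Ideal A).mkQ) :=
    (AdicCompletion.congr (Ideal.span {a}) e).injective
  exact LinearMap.ker_eq_bot.2 h

theorem isWeaklyRegular_of_forall {S : Type*} [CommRing S] (l : List S)
    (h : ∀ (i : ℕ) (hi : i < l.length) (x : S),
      l[i] * x ∈ Ideal.ofList (l.take i) → x ∈ Ideal.ofList (l.take i)) :
    IsWeaklyRegular S l := by
  refine ⟨fun i hi => ?_⟩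
  rw [isSMulRegular_quotient_iff_mem_of_smul_mem]
  intro x hx
  simp only [smul_eq_mul, Ideal.mul_top] at hx ⊢
  exact h i hi x hx

theorem forall_of_isWeaklyRegular {S : Type*} [CommRing S] (l : List S)
    (h : IsWeaklyRegular S l) (i : ℕ) (hi : i < l.length) (x : S)
    (hx : l[i] * x ∈ Ideal.ofList (l.take i)) : x ∈ Ideal.ofList (l.take i) := by
  have h1 := (isSMulRegular_quotient_iff_mem_of_smul_mem _ _).1 (h.regular_mod_prev i hi) x
  simp only [smul_eq_mul, Ideal.mul_top] at h1
  exact h1 hx

theorem main (rs : List A) (hreg : IsWeaklyRegular A rs)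
    (hbd : ∀ i ≤ rs.length, ∃ N : ℕ, ∀ x : A ⧸ Ideal.ofList (rs.take i),
      (∃ m : ℕ, a ^ m • x = 0) → a ^ N • x = 0) :
    IsWeaklyRegular (AdicCompletion (Ideal.span {a}) A)
        (rs.map (algebraMap A (AdicCompletion (Ideal.span {a}) A))) ∧
      Function.Surjective (AdicCompletion.map (Ideal.span {a}) (Ideal.ofList rs).mkQ) ∧
      LinearMap.ker (AdicCompletion.map (Ideal.span {a}) (Ideal.ofList rs).mkQ) =
        (Ideal.ofList rs).map (algebraMap A (AdicCompletion (Ideal.span {a}) A)) := by
  have hJ' : ∀ (i : ℕ) (hi : i < rs.length), Ideal.ofList (rs.take (i + 1)) =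
      Ideal.ofList (rs.take i) ⊔ Ideal.span {rs[i]} := by
    intro i hi
    rw [List.take_succ_eq_append_getElem hi, Ideal.ofList_append, Ideal.ofList_singleton]
  have hstep := fun (i : ℕ) (hi : i < rs.length) =>
    step a (Ideal.ofList (rs.take i)) (Ideal.ofList (rs.take (i + 1))) rs[i] (hJ' i hi)
      (forall_of_isWeaklyRegular rs hreg i hi) (hbd (i + 1) hi)
  have K3 : ∀ i, i ≤ rs.length →
      LinearMap.ker (AdicCompletion.map (Ideal.span {a}) (Ideal.ofList (rs.take i)).mkQ) =
        (Ideal.ofList (rs.take i)).map (algebraMap A (AdicCompletion (Ideal.span {a}) A)) := by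
    intro i
    induction i with
    | zero =>
      intro _
      exact ker_eq_of_eq_bot a _ (by rw [List.take_zero, Ideal.ofList_nil])
    | succ i ih =>
      intro hi
      exact (hstep i hi).2 (ih (Nat.le_of_succ_le hi))
  refine ⟨?_, AdicCompletion.map_surjective _ (Submodule.mkQ_surjective _), ?_⟩
  · apply isWeaklyRegular_of_forall
    intro i hi x hx
    have hi' : i < rs.length := by simpa using hi
    rw [List.getElem_map, ← List.map_take, ← Ideal.map_ofList, ← K3 i hi'.le] at hx
    rw [← List.map_take, ← Ideal.map_ofList, ← K3 i hi'.le]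
    have hx' : AdicCompletion.map (Ideal.span {a}) (Ideal.ofList (rs.take i)).mkQ
        (algebraMap A (AdicCompletion (Ideal.span {a}) A) rs[i] * x) = 0 := hx
    show AdicCompletion.map (Ideal.span {a}) (Ideal.ofList (rs.take i)).mkQ x = 0
    rw [← smul_eq_mul, map_smul] at hx'
    exact (hstep i hi').1 _ hx'
  · have h := K3 rs.length le_rfl
    rw [List.take_length] at h
    exact h

end ring

end Groth.Agent.Lib.ComplRegSeqH3
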