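import Mathlib
import Groth.Prelude.Def_Wider

open TensorProduct

namespace Groth.Agent.Lib.ComplTorsH7

universe u

variable {A : Type u} [CommRing A] (J : Ideal A)

lemma exists_pow_kill (N : Type u) [AddCommGroup N] [Module A N] [hfin : Module.Finite A N]
    (hN : LocCoh.IsPowerTorsion J N) : ∃ n : ℕ, (J ^ n • ⊤ : Submodule A N) = ⊥ := by
  obtain ⟨S, hS⟩ := Module.finite_def.mp hfin
  choose k hk using hN
  refine ⟨S.sup k, ?_⟩
  rw [eq_bot_iff, Submodule.smul_le]
  intro a ha x hxt
  clear hxt
  rw [Submodule.mem_bot]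
  have hx : x ∈ Submodule.span A (S : Set N) := hS ▸ Submodule.mem_top
  induction hx using Submodule.span_induction with
  | mem y hy => exact hk y a (Ideal.pow_le_pow_right (Finset.le_sup hy) ha)
  | zero => exact smul_zero a
  | add y z _ _ hy hz => rw [smul_add, hy, hz, add_zero]
  | smul r y _ hy => rw [smul_comm, hy, smul_zero]

lemma isAdicComplete_of_pow_kill (N : Type u) [AddCommGroup N] [Module A N] (n : ℕ)
    (hn : (J ^ n • ⊤ : Submodule A N) = ⊥) : IsAdicComplete J N := by
  refine { haus' := ?_, prec' := ?_ }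
  · intro x hx
    have := hx n
    rw [hn, SModEq.bot] at this
    exact this
  · intro f hf
    refine ⟨f n, fun k => ?_⟩
    rcases le_total k n with h | h
    · exact hf h
    · have h2 := hf h
      rw [hn, SModEq.bot] at h2
      rw [SModEq.sub_mem, h2, sub_self]
      exact Submodule.zero_mem _

theorem bijective_of_finite [IsNoetherianRing A] (N : Type u) [AddCommGroup N] [Module A N]
    [Module.Finite A N] (hN : LocCoh.IsPowerTorsion J N) :
    Function.Bijective (TensorProduct.mk A (AdicCompletion J A) N 1) := by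
  obtain ⟨n, hn⟩ := exists_pow_kill J N hN
  haveI := isAdicComplete_of_pow_kill J N n hn
  have h1 : Function.Bijective (AdicCompletion.of J N) := AdicCompletion.of_bijective J N
  have h2 := AdicCompletion.ofTensorProduct_bijective_of_finite_of_isNoetherian J N
  have h3 : (AdicCompletion.ofTensorProduct J N) ∘ (TensorProduct.mk A (AdicCompletion J A) N 1)
      = AdicCompletion.of J N := by
    funext x
    show AdicCompletion.ofTensorProduct J N (1 ⊗ₜ x) = _
    rw [AdicCompletion.ofTensorProduct_tmul, one_smul]
  exact (Function.Bijective.of_comp_iff' h2 _).mp (by rw [h3]; exact h1)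

theorem main [IsNoetherianRing A] (I : Type u) [AddCommGroup I] [Module A I]
    (hI : LocCoh.IsPowerTorsion J I) :
    Function.Bijective (TensorProduct.mk A (AdicCompletion J A) I 1) := by
  have key : ∀ x : I, ∃ (N : Submodule A I) (_ : x ∈ N),
      Function.Bijective (TensorProduct.mk A (AdicCompletion J A) N 1) := by
    intro x
    refine ⟨Submodule.span A {x}, Submodule.mem_span_singleton_self x, ?_⟩
    haveI : Module.Finite A (Submodule.span A {x}) :=
      Module.Finite.iff_fg.mpr (Submodule.fg_span_singleton x)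
    apply bijective_of_finite
    intro y
    obtain ⟨n, hn⟩ := hI y.1
    exact ⟨n, fun a ha => Subtype.ext (hn a ha)⟩
  constructor
  · rw [injective_iff_map_eq_zero]
    intro x hx
    obtain ⟨N, hxN, hb⟩ := key x
    have hinj : Function.Injective (LinearMap.lTensor (AdicCompletion J A) N.subtype) :=
      Module.Flat.lTensor_preserves_injective_linearMap N.subtype N.injective_subtype
    let x' : N := ⟨x, hxN⟩
    have h0 : LinearMap.lTensor (AdicCompletion J A) N.subtype ((1 : AdicCompletion J A) ⊗ₜ x')
        = 0 := by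
      rw [LinearMap.lTensor_tmul]; exact hx
    have h1 : (1 : AdicCompletion J A) ⊗ₜ[A] x' = 0 := hinj (by rw [h0, map_zero])
    have h2 : x' = 0 := hb.1 (by
      show (1 : AdicCompletion J A) ⊗ₜ[A] x' = (1 : AdicCompletion J A) ⊗ₜ[A] (0 : N)
      rw [h1, tmul_zero])
    exact congrArg Subtype.val h2
  · intro t
    induction t using TensorProduct.induction_on with
    | zero => exact ⟨0, map_zero _⟩
    | tmul a x =>
      obtain ⟨N, hxN, hb⟩ := key x
      obtain ⟨y, hy⟩ := hb.2 (a ⊗ₜ (⟨x, hxN⟩ : N))
      refine ⟨(y : I), ?_⟩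
      have := congrArg (LinearMap.lTensor (AdicCompletion J A) N.subtype) hy
      simpa using this
    | add t s ht hs =>
      obtain ⟨y, rfl⟩ := ht
      obtain ⟨z, rfl⟩ := hs
      exact ⟨y + z, map_add _ _ _⟩

end Groth.Agent.Lib.ComplTorsH7
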