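import Mathlib
import Groth.Agent.Lib.HenselPairOps_lead

/-!
# `A` Noetherian, `I`-adically complete, `A/I` complete along `J` ⇒ `A` complete along `J`
-/

namespace Groth.Agent.Lib.CompleteTwoIdealsLead

variable {A : Type*} [CommRing A]

lemma pow_smul_top (K : Ideal A) (n : ℕ) : (K ^ n • ⊤ : Submodule A A) = K ^ n := by
  rw [Ideal.smul_eq_mul, Ideal.mul_top]

lemma exists_sum_smul {M : Type*} [AddCommGroup M] [Module A M] {r : ℕ} (a : Fin r → A)
    (N : Submodule A M) {z : M} (hz : z ∈ Ideal.span (Set.range a) • N) :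
    ∃ y : Fin r → M, (∀ i, y i ∈ N) ∧ z = ∑ i, a i • y i := by
  refine Submodule.smul_induction_on hz ?_ ?_
  · intro c hc n hn
    obtain ⟨c', rfl⟩ := (Ideal.mem_span_range_iff_exists_fun).1 hc
    refine ⟨fun i => c' i • n, fun i => N.smul_mem _ hn, ?_⟩
    rw [Finset.sum_smul]
    refine Finset.sum_congr rfl fun i _ => ?_
    rw [smul_smul, mul_comm]
  · rintro x y ⟨y1, h1, rfl⟩ ⟨y2, h2, rfl⟩
    exact ⟨fun i => y1 i + y2 i, fun i => N.add_mem (h1 i) (h2 i), by
      simp [smul_add, Finset.sum_add_distrib]⟩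

/-- Krull intersection, in the form: `L` is closed in the `K`-adic topology when `K ≤ rad A`. -/
lemma krull_mem [IsNoetherianRing A] {K L : Ideal A} (hK : K ≤ Ideal.jacobson ⊥) {x : A}
    (hx : ∀ n, x ∈ L ⊔ K ^ n) : x ∈ L := by
  haveI : Module.Finite A (A ⧸ L) :=
    Module.Finite.of_surjective (Ideal.Quotient.mkₐ A L).toLinearMap (Ideal.Quotient.mkₐ_surjective A L)
  have h := Ideal.iInf_pow_smul_eq_bot_of_le_jacobson (M := A ⧸ L) K hK
  have hmem : Ideal.Quotient.mk L x ∈ (⨅ i : ℕ, K ^ i • ⊤ : Submodule A (A ⧸ L)) := by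
    rw [Submodule.mem_iInf]
    intro n
    obtain ⟨l, hl, κ, hκ, rfl⟩ := Submodule.mem_sup.1 (hx n)
    have e : Ideal.Quotient.mk L (l + κ) = κ • (1 : A ⧸ L) := by
      rw [map_add, Ideal.Quotient.eq_zero_iff_mem.2 hl, zero_add, Algebra.smul_def, mul_one]; rfl
    rw [e]
    exact Submodule.smul_mem_smul hκ Submodule.mem_top
  rw [h] at hmem
  exact Ideal.Quotient.eq_zero_iff_mem.1 ((Submodule.mem_bot A).1 hmem)

lemma precomplete_mod (I J : Ideal A) [IsPrecomplete (J.map (Ideal.Quotient.mk I)) (A ⧸ I)]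
    (w : ℕ → A) (hw : ∀ n, w (n + 1) - w n ∈ J ^ n ⊔ I) : ∃ t, ∀ n, w n - t ∈ J ^ n ⊔ I := by
  have hmn : ∀ m n, m ≤ n → w n - w m ∈ J ^ m ⊔ I := by
    intro m n hmn
    induction n, hmn using Nat.le_induction with
    | base => simp
    | succ n hmn ih =>
      have e : w (n + 1) - w m = (w (n + 1) - w n) + (w n - w m) := by ring
      rw [e]
      exact Ideal.add_mem _ (sup_le_sup_right (Ideal.pow_le_pow_right hmn) I (hw n)) ih
  have hkey : ∀ (m : ℕ) (a : A), Ideal.Quotient.mk I a ∈
      ((J.map (Ideal.Quotient.mk I)) ^ m • ⊤ : Submodule (A ⧸ I) (A ⧸ I)) ↔ a ∈ J ^ m ⊔ I := by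
    intro m a
    rw [pow_smul_top, ← Ideal.map_pow, Ideal.mem_quotient_iff_mem_sup]
  obtain ⟨L, hL⟩ := IsPrecomplete.prec
    (inferInstance : IsPrecomplete (J.map (Ideal.Quotient.mk I)) (A ⧸ I))
    (f := fun n => Ideal.Quotient.mk I (w n)) (by
      intro m n hmn'
      refine (SModEq.sub_mem.2 ?_).symm
      rw [← map_sub, hkey]
      exact hmn m n hmn')
  obtain ⟨t, rfl⟩ := Ideal.Quotient.mk_surjective L
  refine ⟨t, fun n => ?_⟩
  have := SModEq.sub_mem.1 (hL n)
  rw [← map_sub, hkey] at this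
  exact this

lemma step [IsNoetherianRing A] (I J : Ideal A)
    [IsPrecomplete (J.map (Ideal.Quotient.mk I)) (A ⧸ I)]
    (x : ℕ → A) (hx : ∀ m n, m ≤ n → x n - x m ∈ J ^ m) (k : ℕ) (y : A)
    (hy : ∀ n, x n - y ∈ J ^ n ⊔ I ^ k) : ∃ y', ∀ n, x n - y' ∈ J ^ n ⊔ I ^ (k + 1) := by
  classical
  have hdec : ∀ n, ∃ j ∈ J ^ n, ∃ m ∈ I ^ k, j + m = x n - y := fun n =>
    Submodule.mem_sup.1 (hy n)
  choose j hj m hm hjm using hdec
  obtain ⟨c, hc⟩ := Ideal.exists_pow_inf_eq_pow_smul J (I ^ k : Submodule A A)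
  have hAR : ∀ l, m (c + l + 1) - m (c + l) ∈ I ^ k * J ^ l := by
    intro l
    have h1 : m (c + l + 1) - m (c + l) ∈
        (J ^ (c + l) • ⊤ ⊓ (I ^ k : Submodule A A) : Submodule A A) := by
      refine Submodule.mem_inf.2 ⟨?_, Ideal.sub_mem _ (hm _) (hm _)⟩
      have e : m (c + l + 1) - m (c + l) =
          (x (c + l + 1) - x (c + l)) - (j (c + l + 1) - j (c + l)) := by
        have h2 := hjm (c + l + 1)
        have h3 := hjm (c + l)
        linear_combination h2 - h3
      rw [e, pow_smul_top]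
      exact Ideal.sub_mem _ (hx _ _ (Nat.le_succ _))
        (Ideal.sub_mem _ (Ideal.pow_le_pow_right (Nat.le_succ _) (hj _)) (hj _))
    rw [hc (c + l) (Nat.le_add_right c l)] at h1
    have h4 : c + l - c = l := by omega
    rw [h4] at h1
    have h5 : (J ^ l • (J ^ c • ⊤ ⊓ (I ^ k : Submodule A A)) : Submodule A A) ≤ I ^ k * J ^ l := by
      rw [mul_comm]
      exact Submodule.smul_mono le_rfl inf_le_right
    exact h5 h1
  obtain ⟨r, g, hg⟩ := Submodule.fg_iff_exists_fin_generating_family.1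
    ((isNoetherianRing_iff_ideal_fg A).1 inferInstance (I ^ k))
  have hg' : Ideal.span (Set.range g) = I ^ k := hg
  have hrep : ∀ l, ∃ v : Fin r → A, (∀ i, v i ∈ J ^ l) ∧
      m (c + l + 1) - m (c + l) = ∑ i, g i • v i := by
    intro l
    apply exists_sum_smul g (J ^ l)
    rw [hg']; exact hAR l
  choose v hvJ hv using hrep
  let s : ℕ → Fin r → A := fun l i => ∑ l' ∈ Finset.range l, v l' i
  have hlim : ∀ i, ∃ t, ∀ l, s l i - t ∈ J ^ l ⊔ I := by
    intro i
    apply precomplete_mod I J (fun l => s l i)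
    intro l
    have e : s (l + 1) i - s l i = v l i := by
      simp only [s, Finset.sum_range_succ]; ring
    rw [e]; exact Ideal.mem_sup_left (hvJ l i)
  choose t ht using hlim
  have htel : ∀ l, ∑ i, g i • s l i = m (c + l) - m c := by
    intro l
    induction l with
    | zero => simp [s]
    | succ l ih =>
      have e : ∀ i, s (l + 1) i = s l i + v l i := fun i => by
        simp only [s, Finset.sum_range_succ]
      simp only [e, smul_add, Finset.sum_add_distrib, ih, ← hv l]
      show m (c + l) - m c + (m (c + l + 1) - m (c + l)) = m (c + l + 1) - m c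
      ring
  have hgi : ∀ i, g i ∈ I ^ k := fun i => hg' ▸ Ideal.subset_span (Set.mem_range_self i)
  have hshift : ∀ l, x (c + l) - (y + m c + ∑ i, g i • t i) ∈ J ^ l ⊔ I ^ (k + 1) := by
    intro l
    have e : x (c + l) - (y + m c + ∑ i, g i • t i) =
        j (c + l) + ∑ i, g i • (s l i - t i) := by
      simp only [smul_sub, Finset.sum_sub_distrib, htel l]
      have := hjm (c + l)
      linear_combination -this
    rw [e]
    refine Ideal.add_mem _ (Ideal.mem_sup_left
      (Ideal.pow_le_pow_right (Nat.le_add_left l c) (hj _))) (Ideal.sum_mem _ fun i _ => ?_)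
    obtain ⟨a, ha, b, hb, hab⟩ := Submodule.mem_sup.1 (ht i l)
    rw [← hab, smul_eq_mul, mul_add]
    exact Ideal.add_mem _ (Ideal.mem_sup_left (Ideal.mul_mem_left _ _ ha))
      (Ideal.mem_sup_right (by rw [pow_succ]; exact Ideal.mul_mem_mul (hgi i) hb))
  refine ⟨y + m c + ∑ i, g i • t i, fun n => ?_⟩
  have e : x n - (y + m c + ∑ i, g i • t i) =
      (x (c + n) - (y + m c + ∑ i, g i • t i)) - (x (c + n) - x n) := by ring
  rw [e]
  exact Ideal.sub_mem _ (hshift n) (Ideal.mem_sup_left (hx n (c + n) (Nat.le_add_left n c)))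

theorem isAdicComplete_of_quotient [IsNoetherianRing A] (I J : Ideal A) [IsAdicComplete I A]
    [IsAdicComplete (J.map (Ideal.Quotient.mk I)) (A ⧸ I)] : IsAdicComplete J A := by
  have hIrad : I ≤ Ideal.jacobson ⊥ := IsAdicComplete.le_jacobson_bot I
  have hJ'rad : J.map (Ideal.Quotient.mk I) ≤ Ideal.jacobson ⊥ := IsAdicComplete.le_jacobson_bot _
  have hJrad : J ≤ Ideal.jacobson ⊥ := by
    intro a ha
    rw [Ideal.mem_jacobson_bot]
    intro b
    apply HenselPairOpsLead.isUnit_of_isUnit_mk I hIrad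
    have := Ideal.mem_jacobson_bot.1 (hJ'rad (Ideal.mem_map_of_mem _ ha)) (Ideal.Quotient.mk I b)
    simpa using this
  have hH : IsHausdorff J A := by
    refine ⟨fun x hx => ?_⟩
    have hx0 : x ∈ (⊥ : Ideal A) := by
      apply krull_mem hJrad
      intro n
      have := hx n
      rw [SModEq.zero, pow_smul_top] at this
      exact Ideal.mem_sup_right this
    simpa using hx0
  have hP : IsPrecomplete J A := by
    refine ⟨fun {f} hf => ?_⟩
    have hx : ∀ m n, m ≤ n → f n - f m ∈ J ^ m := by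
      intro m n hmn
      have := SModEq.sub_mem.1 (hf hmn).symm
      rwa [pow_smul_top] at this
    have claim : ∀ k, ∃ y, ∀ n, f n - y ∈ J ^ n ⊔ I ^ k := by
      intro k
      induction k with
      | zero => exact ⟨0, fun n => by simp⟩
      | succ k ih => obtain ⟨y, hy⟩ := ih; exact step I J f hx k y hy
    choose y hy using claim
    have hcompat : ∀ k, y (k + 1) - y k ∈ I ^ k := by
      intro k
      apply krull_mem hJrad
      intro n
      have e : y (k + 1) - y k = (f n - y k) - (f n - y (k + 1)) := by ring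
      rw [e]
      have h1 : f n - y k ∈ I ^ k ⊔ J ^ n := by rw [sup_comm]; exact hy k n
      have h2 : f n - y (k + 1) ∈ I ^ k ⊔ J ^ n := by
        have := hy (k + 1) n
        rw [sup_comm] at this
        exact (sup_le_sup_right (Ideal.pow_le_pow_right (Nat.le_succ k)) (J ^ n) :
          I ^ (k + 1) ⊔ J ^ n ≤ I ^ k ⊔ J ^ n) this
      exact Ideal.sub_mem _ h1 h2
    have hcompat' : ∀ k l, k ≤ l → y l - y k ∈ I ^ k := by
      intro k l hkl
      induction l, hkl using Nat.le_induction with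
      | base => simp
      | succ l hkl ih =>
        have e : y (l + 1) - y k = (y (l + 1) - y l) + (y l - y k) := by ring
        rw [e]
        exact Ideal.add_mem _ (Ideal.pow_le_pow_right hkl (hcompat l)) ih
    obtain ⟨Y, hY⟩ := IsPrecomplete.prec (inferInstance : IsPrecomplete I A) (f := y) (by
      intro k l hkl
      refine (SModEq.sub_mem.2 ?_).symm
      rw [pow_smul_top]; exact hcompat' k l hkl)
    refine ⟨Y, fun n => ?_⟩
    refine SModEq.sub_mem.2 ?_
    rw [pow_smul_top]
    apply krull_mem hIrad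
    intro k
    have h1 := hy k n
    have h2 := SModEq.sub_mem.1 (hY k)
    rw [pow_smul_top] at h2
    have e3 : f n - Y = (f n - y k) + (y k - Y) := by ring
    rw [e3]
    exact Ideal.add_mem _ h1 (Ideal.mem_sup_right h2)
  exact { toIsHausdorff := hH, toIsPrecomplete := hP }

end Groth.Agent.Lib.CompleteTwoIdealsLead
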