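import Mathlib
import Groth.Agent.S11277

/-!
# Unique factorisation lifts from the homogeneous localisation at a prime of degree one (helper9)
APPEND-ONLY once landed.
-/

set_option autoImplicit false
set_option maxHeartbeats 400000
universe u v

namespace Groth.Agent.Cone9

section Nagata

variable {R : Type u} [CommRing R] [IsDomain R] [IsNoetherianRing R]

/-- **Nagata's criterion**: if `s` is a prime element of a Noetherian domain `R` and `R[1/s]` is a
UFD then `R` is a UFD. -/
theorem ufd_of_prime_of_ufd_away (s : R) (hs : Prime s) (L : Type v) [CommRing L] [Algebra R L]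
    [IsLocalization.Away s L] [IsDomain L] (h : UniqueFactorizationMonoid L) :
    UniqueFactorizationMonoid R := by
  have hinj : Function.Injective (algebraMap R L) :=
    IsLocalization.injective L (powers_le_nonZeroDivisors_of_noZeroDivisors hs.ne_zero)
  have hunit : ∀ n : ℕ, IsUnit (algebraMap R L (s ^ n)) := fun n =>
    IsLocalization.map_units L (⟨s ^ n, n, rfl⟩ : Submonoid.powers s)
  apply UniqueFactorizationMonoid.iff_exists_prime_mem_of_isPrime.2
  intro P hP0 hP
  by_cases hsP : s ∈ P
  · exact ⟨s, hsP, hs⟩
  have hdisj : Disjoint (Submonoid.powers s : Set R) (P : Set R) := by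
    rw [Set.disjoint_left]
    rintro x ⟨n, rfl⟩ hx
    exact hsP (hP.mem_of_pow_mem n hx)
  have hP' : (P.map (algebraMap R L)).IsPrime :=
    IsLocalization.isPrime_of_isPrime_disjoint (Submonoid.powers s) L P hP hdisj
  have hcomap : (P.map (algebraMap R L)).comap (algebraMap R L) = P :=
    IsLocalization.comap_map_of_isPrime_disjoint (Submonoid.powers s) L hP hdisj
  have hP'0 : P.map (algebraMap R L) ≠ ⊥ := by
    intro hbot
    apply hP0
    rw [eq_bot_iff]
    intro x hx
    have h1 : algebraMap R L x ∈ P.map (algebraMap R L) := Ideal.mem_map_of_mem _ hx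
    rw [hbot, Ideal.mem_bot] at h1
    rw [Ideal.mem_bot]
    exact hinj (by rw [h1, map_zero])
  obtain ⟨π, hπP, hπ⟩ :=
    (UniqueFactorizationMonoid.iff_exists_prime_mem_of_isPrime.1 h) _ hP'0 hP'
  obtain ⟨a, ⟨_, n, rfl⟩, rfl⟩ := IsLocalization.exists_mk'_eq (Submonoid.powers s) π
  -- `a/1` is prime and lies in `P`
  have ha1 : algebraMap R L a = IsLocalization.mk' L a (⟨s ^ n, n, rfl⟩ : Submonoid.powers s) *
      algebraMap R L (s ^ n) := by
    rw [IsLocalization.mk'_spec]
  have haprime : Prime (algebraMap R L a) := by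
    rw [ha1]
    exact (Associated.prime_iff (associated_mul_unit_right _ _ (hunit n))).1 hπ
  have haP : a ∈ P := by
    rw [← hcomap, Ideal.mem_comap, ha1]
    exact Ideal.mul_mem_right _ _ hπP
  have ha0 : a ≠ 0 := by
    rintro rfl
    rw [map_zero] at haprime
    exact haprime.ne_zero rfl
  obtain ⟨m, b, hsb, rfl⟩ := WfDvdMonoid.max_power_factor ha0 hs.irreducible
  have hbP : b ∈ P := by
    rcases hP.mem_or_mem haP with h1 | h1
    · exact absurd (hP.mem_of_pow_mem m h1) hsP
    · exact h1
  have hbprime : Prime (algebraMap R L b) := by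
    rw [map_mul] at haprime
    exact (Associated.prime_iff (associated_unit_mul_right _ _ (hunit m))).2 haprime
  refine ⟨b, hbP, ?_, ?_, ?_⟩
  · rintro rfl
    exact ha0 (mul_zero _)
  · intro hu
    exact hP.ne_top (Ideal.eq_top_of_isUnit_mem _ hbP hu)
  · intro x y hxy
    have key : ∀ x : R, algebraMap R L b ∣ algebraMap R L x → b ∣ x := by
      intro x hx
      obtain ⟨z, hz⟩ := hx
      obtain ⟨c, ⟨_, j, rfl⟩, rfl⟩ := IsLocalization.exists_mk'_eq (Submonoid.powers s) z
      have h1 : algebraMap R L (x * s ^ j) = algebraMap R L (b * c) := by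
        rw [map_mul, map_mul, hz, mul_assoc, IsLocalization.mk'_spec]
      have h2 : x * s ^ j = b * c := hinj h1
      have h3 : s ^ j ∣ b * c := ⟨x, by rw [← h2, mul_comm]⟩
      obtain ⟨c', rfl⟩ := hs.pow_dvd_of_dvd_mul_left j hsb h3
      refine ⟨c', ?_⟩
      have h4 : x * s ^ j = (b * c') * s ^ j := by rw [h2]; ring
      exact mul_right_cancel₀ (pow_ne_zero j hs.ne_zero) h4
    have h5 : algebraMap R L b ∣ algebraMap R L x * algebraMap R L y := by
      rw [← map_mul]
      exact map_dvd _ hxy
    rcases hbprime.dvd_or_dvd h5 with h6 | h6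
    · exact Or.inl (key x h6)
    · exact Or.inr (key y h6)

end Nagata

section Laurent

variable (K : Type u) [Field K] (R : Type v) [CommRing R] [IsDomain R] [Algebra K R]
  (𝒜 : ℕ → Submodule K R) [GradedAlgebra 𝒜] (s : R) (hs : s ∈ 𝒜 1)

include hs in
/-- every element of `R` is a polynomial in `s` with coefficients in the homogeneous localisation -/
theorem exists_aeval_eq (r : R) : ∃ p : Polynomial (HomogeneousLocalization.Away 𝒜 s),
    Polynomial.aeval (algebraMap R (Localization.Away s) s) p =
      algebraMap R (Localization.Away s) r := by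
  classical
  have key : ∀ (i : ℕ) (x : R), x ∈ 𝒜 i → ∃ p : Polynomial (HomogeneousLocalization.Away 𝒜 s),
      Polynomial.aeval (algebraMap R (Localization.Away s) s) p =
        algebraMap R (Localization.Away s) x := by
    intro i x hx
    have hx' : x ∈ 𝒜 (i • 1) := by rwa [smul_eq_mul, mul_one]
    refine ⟨Polynomial.C (HomogeneousLocalization.Away.mk 𝒜 hs i x hx') * Polynomial.X ^ i, ?_⟩
    rw [map_mul, Polynomial.aeval_C, map_pow, Polynomial.aeval_X,
      HomogeneousLocalization.algebraMap_apply, HomogeneousLocalization.Away.val_mk,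
      Localization.mk_eq_mk', ← map_pow]
    exact IsLocalization.mk'_spec _ x (⟨s ^ i, i, rfl⟩ : Submonoid.powers s)
  rw [← DirectSum.sum_support_decompose 𝒜 r]
  choose! p hp using key
  refine ⟨∑ i ∈ (DirectSum.decompose 𝒜 r).support, p i (DirectSum.decompose 𝒜 r i), ?_⟩
  rw [map_sum, map_sum]
  exact Finset.sum_congr rfl fun i _ => hp i _ (SetLike.coe_mem _)

include hs in
/-- `R[1/s]` is a UFD when the homogeneous localisation is -/
theorem ufd_away (hs0 : s ≠ 0)
    (h : UniqueFactorizationMonoid (HomogeneousLocalization.Away 𝒜 s)) :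
    UniqueFactorizationMonoid (Localization.Away s) := by
  have htr : Transcendental (HomogeneousLocalization.Away 𝒜 s)
      (algebraMap R (Localization.Away s) s) :=
    Groth.Agent.S11277.result K R 𝒜 1 one_pos s hs
  have hinj := transcendental_iff_injective.1 htr
  haveI : IsDomain (Localization.Away s) :=
    IsLocalization.isDomain_localization (powers_le_nonZeroDivisors_of_noZeroDivisors hs0)
  haveI : IsDomain (HomogeneousLocalization.Away 𝒜 s) :=
    Function.Injective.isDomain (algebraMap (HomogeneousLocalization.Away 𝒜 s)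
      (Localization.Away s)) (HomogeneousLocalization.val_injective _)
  letI : Algebra (Polynomial (HomogeneousLocalization.Away 𝒜 s)) (Localization.Away s) :=
    (Polynomial.aeval (algebraMap R (Localization.Away s) s) :
      Polynomial (HomogeneousLocalization.Away 𝒜 s) →ₐ[HomogeneousLocalization.Away 𝒜 s]
        Localization.Away s).toRingHom.toAlgebra
  have hmap : ∀ p : Polynomial (HomogeneousLocalization.Away 𝒜 s),
      algebraMap (Polynomial (HomogeneousLocalization.Away 𝒜 s)) (Localization.Away s) p =
        Polynomial.aeval (algebraMap R (Localization.Away s) s) p := fun p => rfl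
  have hunit : ∀ n : ℕ, IsUnit (algebraMap R (Localization.Away s) (s ^ n)) := fun n =>
    IsLocalization.map_units (Localization.Away s) (⟨s ^ n, n, rfl⟩ : Submonoid.powers s)
  haveI : IsLocalization (Submonoid.powers
      (Polynomial.X : Polynomial (HomogeneousLocalization.Away 𝒜 s))) (Localization.Away s) := by
    rw [isLocalization_iff]
    refine ⟨?_, ?_, ?_⟩
    · rintro ⟨_, n, rfl⟩
      rw [hmap, map_pow, Polynomial.aeval_X, ← map_pow]
      exact hunit n
    · intro z
      obtain ⟨⟨r, ⟨_, n, rfl⟩⟩, hr⟩ := IsLocalization.surj (Submonoid.powers s) z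
      obtain ⟨p, hp⟩ := exists_aeval_eq K R 𝒜 s hs r
      refine ⟨(p, ⟨Polynomial.X ^ n, n, rfl⟩), ?_⟩
      simp only [hmap, map_pow, Polynomial.aeval_X]
      rw [hp, ← map_pow]
      exact hr
    · intro x y hxy
      rw [hmap, hmap] at hxy
      exact ⟨1, by rw [hinj hxy]⟩
  exact UniqueFactorizationMonoid.of_isLocalization
    (Submonoid.powers (Polynomial.X : Polynomial (HomogeneousLocalization.Away 𝒜 s)))
    (Localization.Away s)

end Laurent

section Main

variable (K : Type u) [Field K] (R : Type v) [CommRing R] [IsDomain R] [IsNoetherianRing R]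
  [Algebra K R] (𝒜 : ℕ → Submodule K R) [GradedAlgebra 𝒜]

/-- **S11278** -/
theorem ufd_of_ufd_homogeneousLocalization (s : R) (hs : s ∈ 𝒜 1) (hp : Prime s)
    (h : UniqueFactorizationMonoid (HomogeneousLocalization.Away 𝒜 s)) :
    UniqueFactorizationMonoid R := by
  haveI : IsDomain (Localization.Away s) :=
    IsLocalization.isDomain_localization (powers_le_nonZeroDivisors_of_noZeroDivisors hp.ne_zero)
  exact ufd_of_prime_of_ufd_away s hp (Localization.Away s) (ufd_away K R 𝒜 s hs hp.ne_zero h)

end Main

end Groth.Agent.Cone9
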