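import Mathlib

/-!
# `A_f = A_(f)[T, T⁻¹]` for `f ∈ A_1`  (helper5)
-/

universe u

open HomogeneousLocalization DirectSum

namespace Groth.Agent.ConeAlg

section Laurent

open LaurentPolynomial

variable {R S : Type*} [CommRing R] [CommRing S] (f : R →+* S) (x : Sˣ)

theorem laurent_eval₂_injective (h : Function.Injective (Polynomial.eval₂ f (x : S))) :
    Function.Injective (LaurentPolynomial.eval₂ f x) := by
  rw [injective_iff_map_eq_zero]
  intro Q hQ
  obtain ⟨n, P, hP⟩ := LaurentPolynomial.exists_T_pow Q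
  have h1 : Polynomial.eval₂ f (x : S) P = 0 := by
    rw [← LaurentPolynomial.eval₂_toLaurent, hP, map_mul, hQ, zero_mul]
  have h2 : P = 0 := h (by rw [h1, Polynomial.eval₂_zero])
  rw [h2, map_zero] at hP
  exact ((LaurentPolynomial.isUnit_T (R := R) (n : ℤ)).mul_left_eq_zero).mp hP.symm

theorem laurent_eval₂_surjective
    (h : ∀ s : S, ∃ (n : ℕ) (P : Polynomial R), Polynomial.eval₂ f (x : S) P = s * (x : S) ^ n) :
    Function.Surjective (LaurentPolynomial.eval₂ f x) := by
  intro s
  obtain ⟨n, P, hP⟩ := h s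
  refine ⟨Polynomial.toLaurent P * T (-(n : ℤ)), ?_⟩
  rw [map_mul, LaurentPolynomial.eval₂_toLaurent, hP, LaurentPolynomial.eval₂_T_neg_n, mul_assoc,
    ← mul_pow, Units.mul_inv, one_pow, mul_one]

end Laurent

section Away

variable {R A : Type u} [CommRing R] [CommRing A] [Algebra R A] {𝒜 : ℕ → Submodule R A}
  [GradedAlgebra 𝒜] {f : A} (hf : f ∈ 𝒜 1)

theorem mem_smul_one {n : ℕ} {b : A} (hb : b ∈ 𝒜 n) : b ∈ 𝒜 (n • 1) := by
  simpa using hb

/-- `s ^ m` as an element of the submonoid of powers. -/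
def pw (s : A) (m : ℕ) : Submonoid.powers s := ⟨s ^ m, ⟨m, rfl⟩⟩

@[simp] theorem coe_pw (s : A) (m : ℕ) : ((pw s m : Submonoid.powers s) : A) = s ^ m := rfl

theorem algebraMap_eq_mk (a : A) :
    algebraMap A (Localization.Away f) a = Localization.mk a (pw f 0) := by
  rw [← Localization.mk_one_eq_algebraMap]
  congr 1
  apply Subtype.ext
  simp

theorem term_eq {m j : ℕ} {a : A} (ha : a ∈ 𝒜 (m • 1)) :
    algebraMap (Away 𝒜 f) (Localization.Away f) (Away.mk 𝒜 hf m a ha) *
        algebraMap A (Localization.Away f) f ^ j =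
      Localization.mk (a * f ^ j) (pw f m) := by
  rw [HomogeneousLocalization.algebraMap_apply, Away.val_mk, algebraMap_eq_mk, Localization.mk_pow,
    Localization.mk_mul]
  congr 1
  apply Subtype.ext
  simp [Submonoid.coe_mul]

include hf in
theorem ev_exists (s : Localization.Away f) :
    ∃ (n : ℕ) (P : Polynomial (Away 𝒜 f)),
      Polynomial.eval₂ (algebraMap (Away 𝒜 f) (Localization.Away f))
        (algebraMap A (Localization.Away f) f) P = s * algebraMap A (Localization.Away f) f ^ n := by
  classical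
  obtain ⟨a, ⟨_, n, rfl⟩, rfl⟩ := IsLocalization.exists_mk'_eq (Submonoid.powers f) s
  refine ⟨n, ∑ i ∈ (decompose 𝒜 a).support,
    Polynomial.C (Away.mk 𝒜 hf i (decompose 𝒜 a i : A) (mem_smul_one (SetLike.coe_mem _))) *
      Polynomial.X ^ i, ?_⟩
  rw [Polynomial.eval₂_finsetSum]
  simp only [Polynomial.eval₂_mul, Polynomial.eval₂_C, Polynomial.eval₂_pow, Polynomial.eval₂_X]
  have h1 : IsLocalization.mk' (Localization.Away f) a (⟨f ^ n, ⟨n, rfl⟩⟩ : Submonoid.powers f) *
      algebraMap A (Localization.Away f) f ^ n = algebraMap A (Localization.Away f) a := by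
    rw [← map_pow]
    exact IsLocalization.mk'_spec _ a (⟨f ^ n, ⟨n, rfl⟩⟩ : Submonoid.powers f)
  refine Eq.trans ?_ h1.symm
  conv_rhs => rw [← sum_support_decompose 𝒜 a, map_sum]
  refine Finset.sum_congr rfl fun i _ => ?_
  rw [term_eq, Localization.mk_eq_mk', IsLocalization.mk'_eq_iff_eq_mul, coe_pw, ← map_mul]

include hf in
theorem ev_injective :
    Function.Injective (Polynomial.eval₂ (algebraMap (Away 𝒜 f) (Localization.Away f))
      (algebraMap A (Localization.Away f) f)) := by
  rw [← Polynomial.coe_eval₂RingHom, injective_iff_map_eq_zero]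
  intro Q hQ
  rw [Polynomial.coe_eval₂RingHom] at hQ
  choose nn aa haa hQc using fun j => Away.mk_surjective 𝒜 hf (Q.coeff j)
  have haa' : ∀ j, aa j ∈ 𝒜 (nn j) := fun j => by simpa using haa j
  set D := Q.natDegree with hD
  set M := ∑ j ∈ Finset.range (D + 1), nn j with hM
  have hle : ∀ j ∈ Finset.range (D + 1), nn j ≤ M := fun j hj =>
    Finset.single_le_sum (f := fun j => nn j) (fun _ _ => Nat.zero_le _) hj
  have h1 : ∑ j ∈ Finset.range (D + 1),
      algebraMap (Away 𝒜 f) (Localization.Away f) (Q.coeff j) *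
        algebraMap A (Localization.Away f) f ^ j = 0 := by
    rw [← Polynomial.eval₂_eq_sum_range, hQ]
  have h2 : ∀ j ∈ Finset.range (D + 1),
      algebraMap (Away 𝒜 f) (Localization.Away f) (Q.coeff j) *
        algebraMap A (Localization.Away f) f ^ j =
        Localization.mk (aa j * f ^ (M - nn j + j)) (pw f M) := by
    intro j hj
    rw [← hQc j, term_eq, Localization.mk_eq_mk_iff, Localization.r_iff_exists]
    refine ⟨1, ?_⟩
    simp only [OneMemClass.coe_one, one_mul, coe_pw]
    have : f ^ M = f ^ (M - nn j) * f ^ nn j := by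
      rw [← pow_add, Nat.sub_add_cancel (hle j hj)]
    rw [this, pow_add]
    ring
  rw [Finset.sum_congr rfl h2, ← Localization.mk_sum, Localization.mk_eq_mk',
    IsLocalization.mk'_eq_zero_iff] at h1
  obtain ⟨⟨_, k, rfl⟩, hk⟩ := h1
  have hk' : ∑ j ∈ Finset.range (D + 1), f ^ k * (aa j * f ^ (M - nn j + j)) = 0 := by
    rw [← Finset.mul_sum]; exact hk
  -- the terms have different degrees
  have hdeg : ∀ j ∈ Finset.range (D + 1),
      f ^ k * (aa j * f ^ (M - nn j + j)) ∈ 𝒜 (k + M + j) := by
    intro j hj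
    have h3 : f ^ k ∈ 𝒜 k := by simpa using SetLike.pow_mem_graded k hf
    have h4 : f ^ (M - nn j + j) ∈ 𝒜 (M - nn j + j) := by
      simpa using SetLike.pow_mem_graded (M - nn j + j) hf
    have h5 := SetLike.mul_mem_graded h3 (SetLike.mul_mem_graded (haa' j) h4)
    have h6 : k + (nn j + (M - nn j + j)) = k + M + j := by
      have := hle j hj
      omega
    rwa [h6] at h5
  have h5 : ∀ j ∈ Finset.range (D + 1), f ^ k * (aa j * f ^ (M - nn j + j)) = 0 := by
    intro j hj
    have h6 := congrArg (GradedRing.proj 𝒜 (k + M + j)) hk'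
    rw [map_sum, map_zero, Finset.sum_eq_single j] at h6
    · rwa [GradedRing.proj_apply, decompose_of_mem_same 𝒜 (hdeg j hj)] at h6
    · intro i hi hij
      rw [GradedRing.proj_apply, decompose_of_mem_ne 𝒜 (hdeg i hi)]
      omega
    · intro h; exact absurd hj h
  refine Polynomial.ext fun j => ?_
  rw [Polynomial.coeff_zero]
  by_cases hj : j ∈ Finset.range (D + 1)
  · rw [← hQc j]
    apply HomogeneousLocalization.val_injective
    rw [Away.val_mk, val_zero, Localization.mk_eq_mk', IsLocalization.mk'_eq_zero_iff]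
    refine ⟨⟨f ^ (k + (M - nn j + j)), ⟨_, rfl⟩⟩, ?_⟩
    have := h5 j hj
    show f ^ (k + (M - nn j + j)) * aa j = 0
    rw [pow_add, ← this]
    ring
  · apply Polynomial.coeff_eq_zero_of_natDegree_lt
    by_contra hcon
    exact hj (Finset.mem_range.mpr (Nat.lt_succ_iff.mpr (not_lt.mp hcon)))

/-- The unit `f / 1` of `A_f`. -/
noncomputable def uu (f : A) : (Localization.Away f)ˣ :=
  (IsLocalization.map_units (Localization.Away f) (⟨f, Submonoid.mem_powers f⟩ : Submonoid.powers f)).unit

@[simp] theorem coe_uu (f : A) : ((uu f : (Localization.Away f)ˣ) : Localization.Away f) =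
    algebraMap A (Localization.Away f) f := rfl

include hf in
theorem laurent_bijective :
    Function.Bijective (LaurentPolynomial.eval₂ (algebraMap (Away 𝒜 f) (Localization.Away f))
      (uu f)) :=
  ⟨laurent_eval₂_injective _ _ (by rw [coe_uu]; exact ev_injective hf),
    laurent_eval₂_surjective _ _ (by rw [coe_uu]; exact ev_exists hf)⟩

end Away

end Groth.Agent.ConeAlg
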