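import Mathlib
import Groth.Prelude.Def_RelSpec2

/-!
# The pointed affine cone: chart independence  (helper5)

A point `ι_U d` of `C = Spec(𝒮)` lies in the pointed cone `E` iff the prime `d` of `𝒮(U)` does not contain the
irrelevant ideal — for every affine open `U` carrying the point.
-/

set_option autoImplicit false
universe u
open AlgebraicGeometry CategoryTheory CategoryTheory.Limits Opposite TopologicalSpace
open scoped HomogeneousIdeal

namespace Groth.Agent.ConeImm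

section
variable {Y : Scheme.{u}} (𝒮 : RelProj.QCGrAlg Y)

theorem irrelevant_le_comap_res {U V : Y.Opens} (hU : IsAffineOpen U) (hV : IsAffineOpen V)
    (i : V ≤ U) (w : Spec (𝒮.presheaf.obj (op V)))
    (h : ((𝒮.deg V hV)₊).toIdeal ≤ w.asIdeal) :
    ((𝒮.deg U hU)₊).toIdeal ≤
      ((Spec.map (𝒮.presheaf.map (homOfLE i).op)).base w).asIdeal := by
  rw [HomogeneousIdeal.toIdeal_irrelevant_le]
  intro k hk f hf
  show (𝒮.presheaf.map (homOfLE i).op).hom f ∈ w.asIdeal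
  exact h (HomogeneousIdeal.mem_irrelevant_of_mem _ hk (𝒮.map_mem hU hV i hf))

theorem irrelevant_le_of_comap_res_basic (U : Y.Opens) (hU : IsAffineOpen U) (r : Γ(Y, U))
    (w : Spec (𝒮.presheaf.obj (op (Y.basicOpen r))))
    (h : ((𝒮.deg U hU)₊).toIdeal ≤
      ((Spec.map (𝒮.presheaf.map (homOfLE (Y.basicOpen_le r)).op)).base w).asIdeal) :
    ((𝒮.deg (Y.basicOpen r) (hU.basicOpen r))₊).toIdeal ≤ w.asIdeal := by
  have h1 := 𝒮.irrelevant_le_map U hU r
  have h2 : ((𝒮.deg (Y.basicOpen r) (hU.basicOpen r))₊).toIdeal ≤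
      (((𝒮.deg U hU)₊).map (𝒮.res hU (hU.basicOpen r) (Y.basicOpen_le r))).toIdeal := h1
  refine h2.trans ?_
  rw [HomogeneousIdeal.toIdeal_map, Ideal.map_le_iff_le_comap]
  exact h

/-- The chart `ι_U` is injective on points. -/
theorem ι_injective (U : Y.Opens) (hU : IsAffineOpen U) :
    Function.Injective (𝒮.toQCAlg.ι U hU).base :=
  (𝒮.toQCAlg.ι U hU).isOpenEmbedding.injective

theorem π_ι_mem (U : Y.Opens) (hU : IsAffineOpen U) (d : Spec (𝒮.presheaf.obj (op U))) :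
    𝒮.toQCAlg.π.base ((𝒮.toQCAlg.ι U hU).base d) ∈ U := by
  have h : (𝒮.toQCAlg.ι U hU).base d ∈ 𝒮.toQCAlg.π ⁻¹ᵁ U := by
    rw [𝒮.toQCAlg.π_preimage U hU]; exact ⟨d, rfl⟩
  exact h

/-- Chart independence of the pointed affine cone. -/
theorem mem_pointedCone_iff (U : Y.Opens) (hU : IsAffineOpen U)
    (d : Spec (𝒮.presheaf.obj (op U))) :
    (𝒮.toQCAlg.ι U hU).base d ∈ RelCone.pointedCone 𝒮 ↔
      ¬ (((𝒮.deg U hU)₊).toIdeal ≤ d.asIdeal) := by
  constructor
  · intro h hle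
    obtain ⟨⟨V, hV⟩, e, he, hce⟩ := Opens.mem_iSup.mp h
    -- `he : e ∈ vertexCompl`, `hce : ι_V e = ι_U d`
    have he' : ¬ (((𝒮.deg V hV)₊).toIdeal ≤ e.asIdeal) := fun hc =>
      he ((PrimeSpectrum.mem_zeroLocus _ _).mpr hc)
    set c := (𝒮.toQCAlg.ι U hU).base d with hc
    have hsU : 𝒮.toQCAlg.π.base c ∈ U := π_ι_mem 𝒮 U hU d
    have hsV : 𝒮.toQCAlg.π.base c ∈ V := by
      have := π_ι_mem 𝒮 V hV e
      rw [show (𝒮.toQCAlg.ι V hV).base e = c from hce] at this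
      exact this
    obtain ⟨f, g, hfg, hs⟩ := exists_basicOpen_le_affine_inter hU hV _ ⟨hsU, hsV⟩
    have hcW : c ∈ 𝒮.toQCAlg.π ⁻¹ᵁ (Y.basicOpen f) := hs
    rw [𝒮.toQCAlg.π_preimage _ (hU.basicOpen f)] at hcW
    obtain ⟨w, hw⟩ := hcW
    -- relate `w` to `d`
    let WW : Y.AffineZariskiSite := ⟨Y.basicOpen f, hU.basicOpen f⟩
    let UU : Y.AffineZariskiSite := ⟨U, hU⟩
    let VV : Y.AffineZariskiSite := ⟨V, hV⟩
    have iU : WW ⟶ UU := homOfLE (show WW ≤ UU from ⟨f, rfl⟩)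
    have iV : WW ⟶ VV := homOfLE (show WW ≤ VV from ⟨g, hfg.symm⟩)
    have hd : (Spec.map (𝒮.presheaf.map (homOfLE (Y.basicOpen_le f)).op)).base w = d := by
      apply ι_injective 𝒮 U hU
      have := congrArg (fun m => m.base w) (𝒮.toQCAlg.ι_res iU)
      exact this.trans hw
    have hleV : Y.basicOpen f ≤ V := hfg ▸ Y.basicOpen_le g
    have heq : (Spec.map (𝒮.presheaf.map (homOfLE hleV).op)).base w = e := by
      apply ι_injective 𝒮 V hV
      have := congrArg (fun m => m.base w) (𝒮.toQCAlg.ι_res iV)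
      exact this.trans (hw.trans hce.symm)
    apply he'
    rw [← heq]
    apply irrelevant_le_comap_res 𝒮 hV (hU.basicOpen f) hleV w
    apply irrelevant_le_of_comap_res_basic 𝒮 U hU f w
    rw [hd]
    exact hle
  · intro h
    refine Opens.mem_iSup.mpr ⟨⟨U, hU⟩, d, ?_, rfl⟩
    intro hd
    exact h ((PrimeSpectrum.mem_zeroLocus _ _).mp hd)

end

end Groth.Agent.ConeImm
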