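import Mathlib
import Groth.Prelude.Def_RelSpec2
import Groth.Agent.Lib.ConeImm11_helper5
import Groth.Agent.Lib.RelProjTN4_helper5

/-!
# Morphisms of affine cones and the pointed cones  (helper5)
-/

set_option autoImplicit false
universe u
open AlgebraicGeometry CategoryTheory CategoryTheory.Limits Opposite TopologicalSpace
open scoped HomogeneousIdeal

namespace Groth.Agent.ConeImm

section
variable {Y Y' : Scheme.{u}} (q : Y' ⟶ Y) (𝒮 : RelProj.QCGrAlg Y) (𝒮' : RelProj.QCGrAlg Y')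
  (u : 𝒮.presheaf ⟶ q.base _* 𝒮'.presheaf)
  (φ : ∀ (U : Y.Opens) (hU : IsAffineOpen U) (U' : Y'.Opens) (hU' : IsAffineOpen U')
    (_ : U' ≤ q ⁻¹ᵁ U), 𝒮.deg U hU →+*ᵍ 𝒮'.deg U' hU')
  (hφ : ∀ (U : Y.Opens) (hU : IsAffineOpen U) (U' : Y'.Opens) (hU' : IsAffineOpen U')
    (hle : U' ≤ q ⁻¹ᵁ U),
    (φ U hU U' hU' hle).toRingHom =
      ((u.app (op U) : 𝒮.presheaf.obj (op U) ⟶ 𝒮'.presheaf.obj (op (q ⁻¹ᵁ U))) ≫
        𝒮'.presheaf.map (homOfLE hle).op).hom)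
  (Φ : 𝒮'.toQCAlg.spec ⟶ 𝒮.toQCAlg.spec)
  (hΦ : ∀ (U : Y.Opens) (hU : IsAffineOpen U) (U' : Y'.Opens) (hU' : IsAffineOpen U')
    (hle : U' ≤ q ⁻¹ᵁ U),
    𝒮'.toQCAlg.ι U' hU' ≫ Φ =
      Spec.map ((u.app (op U) : 𝒮.presheaf.obj (op U) ⟶ 𝒮'.presheaf.obj (op (q ⁻¹ᵁ U))) ≫
        𝒮'.presheaf.map (homOfLE hle).op) ≫ 𝒮.toQCAlg.ι U hU)

/-- Every point of `C'` lies in a chart `Spec 𝒮'(U')` with `U' ⊆ q⁻¹(U)`, `U` affine. -/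
theorem exists_chart_pair (c' : 𝒮'.toQCAlg.spec) :
    ∃ (U : Y.Opens) (hU : IsAffineOpen U) (U' : Y'.Opens) (hU' : IsAffineOpen U')
      (_ : U' ≤ q ⁻¹ᵁ U) (d' : Spec (𝒮'.presheaf.obj (op U'))),
      (𝒮'.toQCAlg.ι U' hU').base d' = c' := by
  obtain ⟨_, ⟨U, hU : IsAffineOpen U, rfl⟩, hxU, -⟩ :=
    (Y.isBasis_affineOpens).exists_subset_of_mem_open
      (Set.mem_univ (q.base (𝒮'.toQCAlg.π.base c'))) isOpen_univ
  have hy' : 𝒮'.toQCAlg.π.base c' ∈ q ⁻¹ᵁ U := hxU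
  obtain ⟨_, ⟨U', hU' : IsAffineOpen U', rfl⟩, hxU', hle⟩ :=
    (Y'.isBasis_affineOpens).exists_subset_of_mem_open hy' (q ⁻¹ᵁ U).2
  have hc : c' ∈ 𝒮'.toQCAlg.π ⁻¹ᵁ U' := hxU'
  rw [𝒮'.toQCAlg.π_preimage U' hU'] at hc
  obtain ⟨d', hd'⟩ := hc
  exact ⟨U, hU, U', hU', hle, d', hd'⟩

include hΦ in
theorem Φ_ι_apply (U : Y.Opens) (hU : IsAffineOpen U) (U' : Y'.Opens) (hU' : IsAffineOpen U')
    (hle : U' ≤ q ⁻¹ᵁ U) (d' : Spec (𝒮'.presheaf.obj (op U'))) :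
    Φ.base ((𝒮'.toQCAlg.ι U' hU').base d') =
      (𝒮.toQCAlg.ι U hU).base
        ((Spec.map ((u.app (op U) : 𝒮.presheaf.obj (op U) ⟶ 𝒮'.presheaf.obj (op (q ⁻¹ᵁ U))) ≫
          𝒮'.presheaf.map (homOfLE hle).op)).base d') := by
  have := congrArg (fun m => m.base d') (hΦ U hU U' hU' hle)
  exact this

include hφ in
theorem mem_comap_iff (U : Y.Opens) (hU : IsAffineOpen U) (U' : Y'.Opens) (hU' : IsAffineOpen U')
    (hle : U' ≤ q ⁻¹ᵁ U) (d' : Spec (𝒮'.presheaf.obj (op U'))) (f : 𝒮.presheaf.obj (op U)) :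
    f ∈ ((Spec.map ((u.app (op U) : 𝒮.presheaf.obj (op U) ⟶ 𝒮'.presheaf.obj (op (q ⁻¹ᵁ U))) ≫
          𝒮'.presheaf.map (homOfLE hle).op)).base d').asIdeal ↔
      φ U hU U' hU' hle f ∈ d'.asIdeal := by
  have h1 : φ U hU U' hU' hle f = (φ U hU U' hU' hle).toRingHom f := rfl
  rw [h1, hφ U hU U' hU' hle]
  exact Iff.rfl

include hφ hΦ in
/-- `Φ c' ∈ E` read in a chart pair. -/
theorem Φ_mem_pointedCone_iff (U : Y.Opens) (hU : IsAffineOpen U) (U' : Y'.Opens)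
    (hU' : IsAffineOpen U') (hle : U' ≤ q ⁻¹ᵁ U) (d' : Spec (𝒮'.presheaf.obj (op U'))) :
    Φ.base ((𝒮'.toQCAlg.ι U' hU').base d') ∈ RelCone.pointedCone 𝒮 ↔
      ∃ (k : ℕ) (_ : 0 < k) (f : 𝒮.presheaf.obj (op U)) (_ : f ∈ 𝒮.deg U hU k),
        φ U hU U' hU' hle f ∉ d'.asIdeal := by
  rw [Φ_ι_apply q 𝒮 𝒮' u Φ hΦ U hU U' hU' hle d', mem_pointedCone_iff,
    HomogeneousIdeal.toIdeal_irrelevant_le]
  constructor
  · intro h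
    by_contra hcon
    push Not at hcon
    apply h
    intro k hk f hf
    exact (mem_comap_iff q 𝒮 𝒮' u φ hφ U hU U' hU' hle d' f).mpr (hcon k hk f hf)
  · rintro ⟨k, hk, f, hf, hfd⟩ h
    exact hfd ((mem_comap_iff q 𝒮 𝒮' u φ hφ U hU U' hU' hle d' f).mp (h k hk hf))

include hφ hΦ in
theorem preimage_pointedCone_le : Φ ⁻¹ᵁ RelCone.pointedCone 𝒮 ≤ RelCone.pointedCone 𝒮' := by
  intro c' hc'
  obtain ⟨U, hU, U', hU', hle, d', rfl⟩ := exists_chart_pair q 𝒮' c'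
  have h1 : Φ.base ((𝒮'.toQCAlg.ι U' hU').base d') ∈ RelCone.pointedCone 𝒮 := hc'
  rw [Φ_mem_pointedCone_iff q 𝒮 𝒮' u φ hφ Φ hΦ U hU U' hU' hle d'] at h1
  obtain ⟨k, hk, f, hf, hfd⟩ := h1
  show (𝒮'.toQCAlg.ι U' hU').base d' ∈ RelCone.pointedCone 𝒮'
  rw [mem_pointedCone_iff]
  intro hle'
  exact hfd (hle' (HomogeneousIdeal.mem_irrelevant_of_mem _ hk ((φ U hU U' hU' hle).map_mem hf)))

end

end Groth.Agent.ConeImm
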