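import Mathlib
import Groth.Prelude.Def_RelProj4
import Groth.Agent.Lib.ConeFun2_helper5
import Groth.Agent.Lib.ConeImm13_helper5

/-!
# Functoriality of projective cones for graded `q`-morphisms: the affine cones  (helper5)
-/

set_option autoImplicit false
universe u
open AlgebraicGeometry CategoryTheory CategoryTheory.Limits HomogeneousLocalization Opposite TopologicalSpace
open scoped HomogeneousIdeal

noncomputable section

namespace Groth.Agent.ConeFun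

open Groth.Agent.ConeImm Groth.Agent.RelProjTN Groth.Agent.ProjQ RelProj

section gen
variable {Y Y' P P' : Scheme.{u}} {g : Y' ⟶ Y} {𝒮 : RelProj.QCGrAlg Y} {𝒮' : RelProj.QCGrAlg Y'}
  (u : RelProj.QGrHom g 𝒮 𝒮')
  {p : P ⟶ Y}
  {chart : ∀ (U : Y.Opens) (hU : IsAffineOpen U), (((p ⁻¹ᵁ U : P.Opens) : Scheme.{u}) ≅ Proj (𝒮.deg U hU))}
  {p' : P' ⟶ Y'}
  {chart' : ∀ (U : Y'.Opens) (hU : IsAffineOpen U),
    (((p' ⁻¹ᵁ U : P'.Opens) : Scheme.{u}) ≅ Proj (𝒮'.deg U hU))}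

/-- The chart equation of `Proj(u)` on the standard chart at an element propositionally equal to `u f`. -/
theorem chart_transport' (v : ((RelProj.domQ u p' chart' : P'.Opens) : Scheme.{u}) ⟶ P)
    (hv : RelProj.IsProjQMapOn u p chart p' chart' (RelProj.domQ u p' chart') v)
    (U : Y.Opens) (hU : IsAffineOpen U) (U' : Y'.Opens) (hU' : IsAffineOpen U') (hle : U' ≤ g ⁻¹ᵁ U)
    {d : ℕ} (hd : 0 < d) (f : 𝒮.presheaf.obj (op U)) (hf : f ∈ 𝒮.deg U hU d)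
    (f' : 𝒮'.presheaf.obj (op U')) (hf' : u.gradedAt U hU U' hU' hle f = f')
    (hf'd : f' ∈ 𝒮'.deg U' hU' d)
    {T₀ : Scheme.{u}} (a₀ : T₀ ⟶ Spec (CommRingCat.of (Away (𝒮'.deg U' hU') f')))
    (γ₀ : T₀ ⟶ ((RelProj.domQ u p' chart' : P'.Opens) : Scheme.{u}))
    (h : γ₀ ≫ (RelProj.domQ u p' chart').ι =
      a₀ ≫ Proj.awayι (𝒮'.deg U' hU') f' hf'd hd ≫ RelProj.emb p' chart' U' hU') :
    γ₀ ≫ v = a₀ ≫ Spec.map (CommRingCat.ofHom (awayMapTo (u.gradedAt U hU U' hU' hle) f f' hf')) ≫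
      Proj.awayι (𝒮.deg U hU) f hf hd ≫ RelProj.emb p chart U hU := by
  subst hf'
  exact chart_transport u v hv U hU U' hU' hle hd f hf _ rfl a₀ γ₀ h

end gen

section main
variable {Y Y' PC PC' : Scheme.{u}} {q : Y' ⟶ Y}
  {𝒮 : RelProj.QCGrAlg Y} {𝒮' : RelProj.QCGrAlg Y'} (u : RelProj.QGrHom q 𝒮 𝒮')
  {𝒮h : RelProj.QCGrAlg Y} {ι : 𝒮.toQCAlg ⟶ 𝒮h.toQCAlg} {z : 𝒮h.presheaf.obj (op ⊤)}
  (hz : RelCone.IsPolyOver 𝒮 𝒮h ι z)
  {pC : PC ⟶ Y}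
  {chartC : ∀ (U : Y.Opens) (hU : IsAffineOpen U),
    (((pC ⁻¹ᵁ U : PC.Opens) : Scheme.{u}) ≅ Proj (𝒮h.deg U hU))}
  {𝒮h' : RelProj.QCGrAlg Y'} {ι' : 𝒮'.toQCAlg ⟶ 𝒮h'.toQCAlg} {z' : 𝒮h'.presheaf.obj (op ⊤)}
  (hz' : RelCone.IsPolyOver 𝒮' 𝒮h' ι' z')
  {pC' : PC' ⟶ Y'}
  {chartC' : ∀ (U : Y'.Opens) (hU : IsAffineOpen U),
    (((pC' ⁻¹ᵁ U : PC'.Opens) : Scheme.{u}) ≅ Proj (𝒮h'.deg U hU))}
  (uh : RelProj.QGrHom q 𝒮h 𝒮h')
  (huh : ∀ U : Y.Opens, ι.hom.app (op U) ≫ uh.app U = u.app U ≫ ι'.hom.app (op (q ⁻¹ᵁ U)))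
  (huhz : (uh.app ⊤).hom z = RelCone.restrictTop 𝒮h' z' (q ⁻¹ᵁ ⊤))

include huh huhz in
/-- "`z = 1`" commutes with `φ̂` and `φ`. -/
theorem evalOne_compat (U : Y.Opens) (hU : IsAffineOpen U) (U' : Y'.Opens) (hU' : IsAffineOpen U')
    (hle : U' ≤ q ⁻¹ᵁ U) (s : 𝒮h.presheaf.obj (op U)) :
    hz'.evalOne U' hU' (uh.gradedAt U hU U' hU' hle s) =
      u.gradedAt U hU U' hU' hle (hz.evalOne U hU s) := by
  have key : ((hz'.evalOne U' hU').comp (uh.gradedAt U hU U' hU' hle).toRingHom).comp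
        (Polynomial.eval₂RingHom (ι.hom.app (op U)).hom (RelCone.restrictTop 𝒮h z U)) =
      ((u.gradedAt U hU U' hU' hle).toRingHom.comp (hz.evalOne U hU)).comp
        (Polynomial.eval₂RingHom (ι.hom.app (op U)).hom (RelCone.restrictTop 𝒮h z U)) := by
    apply Polynomial.ringHom_ext
    · intro a
      simp only [RingHom.comp_apply, Polynomial.coe_eval₂RingHom, Polynomial.eval₂_C]
      show hz'.evalOne U' hU' (uh.gradedAt U hU U' hU' hle ((ι.hom.app (op U)).hom a)) =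
        u.gradedAt U hU U' hU' hle (hz.evalOne U hU ((ι.hom.app (op U)).hom a))
      rw [uh_iota u uh huh U hU U' hU' hle a, hz'.evalOne_ι, hz.evalOne_ι]
    · simp only [RingHom.comp_apply, Polynomial.coe_eval₂RingHom, Polynomial.eval₂_X]
      show hz'.evalOne U' hU' (uh.gradedAt U hU U' hU' hle (zU 𝒮h z U)) =
        u.gradedAt U hU U' hU' hle (hz.evalOne U hU (zU 𝒮h z U))
      rw [uh_z uh huhz U hU U' hU' hle, hz'.evalOne_z, hz.evalOne_z, map_one]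
  obtain ⟨Q, rfl⟩ := (hz.bij U hU).2 s
  exact RingHom.congr_fun key Q

include huh huhz in
/-- The identifications `Ŝ(U)_(z) ≅ 𝒮(U)` commute with `φ̂` and `φ`. -/
theorem thz_compat (U : Y.Opens) (hU : IsAffineOpen U) (U' : Y'.Opens) (hU' : IsAffineOpen U')
    (hle : U' ≤ q ⁻¹ᵁ U) :
    CommRingCat.ofHom (awayMapTo (uh.gradedAt U hU U' hU' hle) (zU 𝒮h z U) (zU 𝒮h' z' U')
        (uh_z uh huhz U hU U' hU' hle)) ≫ thz hz' U' hU' =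
      thz hz U hU ≫ u.appLE U U' hle := by
  ext x
  obtain ⟨n, a, ha, rfl⟩ := Away.mk_surjective (𝒮h.deg U hU) (hz.deg_z U hU) x
  simp only [CommRingCat.hom_comp, RingHom.comp_apply, CommRingCat.hom_ofHom]
  rw [awayMapTo_mk (uh.gradedAt U hU U' hU' hle) _ _ (uh_z uh huhz U hU U' hU' hle) (hz.deg_z U hU)
    (hz'.deg_z U' hU')]
  unfold thz
  rw [CommRingCat.hom_ofHom, CommRingCat.hom_ofHom,
    hz'.awayZToBase_of_val U' hU' _ (uh.gradedAt U hU U' hU' hle a) n (Away.val_mk _ _ _ _ _),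
    hz.awayZToBase_of_val U hU _ a n (Away.val_mk _ _ _ _ _)]
  exact evalOne_compat u hz hz' uh huh huhz U hU U' hU' hle a

include hz huhz in
/-- **(1)** `i'(C') ⊆ G(φ̂)`. -/
theorem coneImm_range (i' : 𝒮'.toQCAlg.spec ⟶ PC') (hi' : RelCone.IsConeImm 𝒮' hz' pC' chartC' i') :
    Set.range i'.base ⊆ ((RelProj.domQ uh pC' chartC' : PC'.Opens) : Set PC') := by
  rintro _ ⟨c', rfl⟩
  obtain ⟨U, hU, U', hU', hle, d', rfl⟩ := exists_chart_pair q 𝒮' c'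
  rw [i_ι_apply hz' i' hi' U' hU' d']
  refine Opens.mem_iSup.mpr ⟨⟨(⟨U, hU⟩, ⟨U', hU'⟩), hle⟩, ⟨_, ?_, rfl⟩⟩
  have h1 := ptOf_mem_basicOpen_z hz' U' hU' d'
  rw [← uh_z uh huhz U hU U' hU' hle] at h1
  exact mem_domOpen_of_mem_basicOpen _ one_pos (hz.deg_z U hU) _ h1

include huh huhz in
/-- **(2)** `Φ̂ ∘ i' = i ∘ Spec(φ)`. -/
theorem coneImm_compat
    (Φh : ((RelProj.domQ uh pC' chartC' : PC'.Opens) : Scheme.{u}) ⟶ PC)
    (hΦh : RelProj.IsProjQMapOn uh pC chartC pC' chartC' (RelProj.domQ uh pC' chartC') Φh)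
    (Φc : 𝒮'.toQCAlg.spec ⟶ 𝒮.toQCAlg.spec) (hΦc : RelSpec.IsSpecQMap u.toQHom Φc)
    (i : 𝒮.toQCAlg.spec ⟶ PC) (hi : RelCone.IsConeImm 𝒮 hz pC chartC i)
    (i' : 𝒮'.toQCAlg.spec ⟶ PC') (hi' : RelCone.IsConeImm 𝒮' hz' pC' chartC' i')
    (i'' : 𝒮'.toQCAlg.spec ⟶ ((RelProj.domQ uh pC' chartC' : PC'.Opens) : Scheme.{u}))
    (hi'' : i'' ≫ (RelProj.domQ uh pC' chartC').ι = i') : i'' ≫ Φh = Φc ≫ i := by
  refine hom_ext_of_charts _ _ (fun c' => ?_)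
  obtain ⟨U, hU, U', hU', hle, d', rfl⟩ := exists_chart_pair q 𝒮' c'
  refine ⟨_, 𝒮'.toQCAlg.ι U' hU', inferInstance, ⟨d', rfl⟩, ?_⟩
  have hL := chart_transport' uh Φh hΦh U hU U' hU' hle one_pos (zU 𝒮h z U) (hz.deg_z U hU)
    (zU 𝒮h' z' U') (uh_z uh huhz U hU U' hU' hle) (hz'.deg_z U' hU')
    (Spec.map (thz hz' U' hU')) (𝒮'.toQCAlg.ι U' hU' ≫ i'') (by
      rw [Category.assoc, hi'']
      exact hi' U' hU')
  rw [← Category.assoc, hL, ← Category.assoc (𝒮'.toQCAlg.ι U' hU'), hΦc U hU U' hU' hle,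
    Category.assoc, hi U hU, ← Spec.map_comp_assoc, thz_compat u hz hz' uh huh huhz U hU U' hU' hle,
    Spec.map_comp_assoc]
  rfl

end main

end Groth.Agent.ConeFun
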