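import Mathlib

/-!
# `B = A[z]` graded with `deg z = 1`: `B_(f) = A_(f)[z/f]` for `f ∈ A_1`  (helper5)
-/

universe u

open HomogeneousLocalization DirectSum

namespace Groth.Agent.PConeAlg

variable {R A B : Type u} [CommRing R] [CommRing A] [Algebra R A] {𝒜 : ℕ → Submodule R A}
  [GradedAlgebra 𝒜] [CommRing B] [Algebra R B] {ℬ : ℕ → Submodule R B} [GradedAlgebra ℬ]
  [Algebra A B] (φ : 𝒜 →+*ᵍ ℬ)

omit [Algebra A B] in
theorem zpow_mem {z : B} (hz : z ∈ ℬ 1) (j : ℕ) : z ^ j ∈ ℬ j := by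
  have := SetLike.pow_mem_graded j hz
  simpa using this

/-- Decomposition of a homogeneous element of `B = A[z]`. -/
theorem exists_coef (hφ : ∀ a : A, φ a = algebraMap A B a) {z : B} (hz : z ∈ ℬ 1)
    (hsurj : Function.Surjective (Polynomial.aeval (R := A) z)) {n : ℕ} {b : B} (hb : b ∈ ℬ n) :
    ∃ c : ℕ → A, (∀ j, c j ∈ 𝒜 (n - j)) ∧ b = ∑ j ∈ Finset.range (n + 1), φ (c j) * z ^ j := by
  obtain ⟨P, rfl⟩ := hsurj b
  refine ⟨fun j => (decompose 𝒜 (P.coeff j) (n - j) : A), fun j => SetLike.coe_mem _, ?_⟩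
  set N := max (P.natDegree + 1) (n + 1) with hN
  have h1 : Polynomial.aeval z P = ∑ j ∈ Finset.range N, φ (P.coeff j) * z ^ j := by
    rw [Polynomial.aeval_eq_sum_range' (lt_of_lt_of_le (Nat.lt_succ_self _) (le_max_left _ _))]
    refine Finset.sum_congr rfl fun j _ => ?_
    rw [Algebra.smul_def, hφ]
  have h2 : GradedRing.proj ℬ n (Polynomial.aeval z P) = Polynomial.aeval z P := by
    rw [GradedRing.proj_apply, decompose_of_mem_same ℬ hb]
  rw [← h2, h1, map_sum]
  rw [← Finset.sum_subset (Finset.range_subset_range.2 (le_max_right (P.natDegree + 1) (n + 1)))]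
  · refine Finset.sum_congr rfl fun j hj => ?_
    have hj' : j ≤ n := Nat.lt_succ_iff.mp (Finset.mem_range.mp hj)
    rw [GradedRing.proj_apply, coe_decompose_mul_of_right_mem_of_le ℬ (zpow_mem hz j) hj',
      ← φ.map_directSumDecompose]
  · intro j _ hj
    have hj' : ¬ j ≤ n := fun h => hj (Finset.mem_range.mpr (Nat.lt_succ_iff.mpr h))
    rw [GradedRing.proj_apply, coe_decompose_mul_of_right_mem_of_not_le ℬ (zpow_mem hz j) hj']

variable {φ} {f : A} (hf : f ∈ 𝒜 1) {z : B} (hz : z ∈ ℬ 1)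

omit [Algebra A B] in
theorem mem_smul_one {n : ℕ} {b : B} (hb : b ∈ ℬ n) : b ∈ ℬ (n • 1) := by
  simpa using hb

/-- `s ^ m` as an element of the submonoid of powers. -/
def pw (s : B) (m : ℕ) : Submonoid.powers s := ⟨s ^ m, ⟨m, rfl⟩⟩

omit [Algebra A B] in
@[simp] theorem coe_pw (s : B) (m : ℕ) : ((pw s m : Submonoid.powers s) : B) = s ^ m := rfl

/-- The element `z / φ f` of `B_(φ f)`. -/
noncomputable def tt : Away ℬ (φ f) := Away.mk ℬ (φ.2 hf) 1 z (mem_smul_one hz)

omit [Algebra A B] in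
theorem val_tt : (tt hf hz).val = Localization.mk z (pw (φ f) 1) := rfl

omit [Algebra A B] in
/-- val as a ring hom -/
theorem val_sum {ι : Type*} (s : Finset ι) (g : ι → Away ℬ (φ f)) :
    (∑ i ∈ s, g i).val = ∑ i ∈ s, (g i).val := by
  simp only [← HomogeneousLocalization.algebraMap_apply]
  exact map_sum _ _ _

omit [Algebra A B] in
theorem val_term {m j : ℕ} {a : A} (ha : a ∈ 𝒜 (m • 1)) :
    (Away.map φ f (Away.mk 𝒜 hf m a ha) * tt hf hz ^ j).val =
      Localization.mk (φ a * z ^ j) (pw (φ f) (m + j)) := by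
  rw [val_mul, val_pow, Away.map_mk, Away.val_mk, val_tt, Localization.mk_pow, Localization.mk_mul]
  congr 1
  apply Subtype.ext
  simp [pow_add, Submonoid.coe_mul]

theorem ev_surjective (hφ : ∀ a : A, φ a = algebraMap A B a)
    (hsurj : Function.Surjective (Polynomial.aeval (R := A) z)) :
    Function.Surjective (Polynomial.eval₂ (Away.map φ f) (tt hf hz)) := by
  intro x
  obtain ⟨n, b, hb, rfl⟩ := Away.mk_surjective ℬ (φ.2 hf) x
  have hb' : b ∈ ℬ n := by simpa using hb
  obtain ⟨c, hc, hbc⟩ := exists_coef φ hφ hz hsurj hb'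
  refine ⟨∑ j ∈ Finset.range (n + 1),
    Polynomial.C (Away.mk 𝒜 hf (n - j) (c j) (mem_smul_one (hc j))) * Polynomial.X ^ j, ?_⟩
  rw [Polynomial.eval₂_finsetSum]
  simp only [Polynomial.eval₂_mul, Polynomial.eval₂_C, Polynomial.eval₂_pow, Polynomial.eval₂_X]
  apply HomogeneousLocalization.val_injective
  rw [val_sum, Away.val_mk]
  have h1 : ∀ j ∈ Finset.range (n + 1),
      (Away.map φ f (Away.mk 𝒜 hf (n - j) (c j) (mem_smul_one (hc j))) * tt hf hz ^ j).val =
        Localization.mk (φ (c j) * z ^ j) (pw (φ f) n) := by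
    intro j hj
    have hj' : j ≤ n := Nat.lt_succ_iff.mp (Finset.mem_range.mp hj)
    rw [val_term]
    congr 1
    apply Subtype.ext
    simp [Nat.sub_add_cancel hj']
  rw [Finset.sum_congr rfl h1, ← Localization.mk_sum, ← hbc]
  rfl

theorem ev_injective (hφ : ∀ a : A, φ a = algebraMap A B a)
    (hinj : Function.Injective (Polynomial.aeval (R := A) z)) :
    Function.Injective (Polynomial.eval₂ (Away.map φ f) (tt hf hz)) := by
  rw [← Polynomial.coe_eval₂RingHom, injective_iff_map_eq_zero]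
  intro Q hQ
  rw [Polynomial.coe_eval₂RingHom] at hQ
  choose nn aa haa hQc using fun j => Away.mk_surjective 𝒜 hf (Q.coeff j)
  set D := Q.natDegree with hD
  set M := ∑ j ∈ Finset.range (D + 1), (nn j + j) with hM
  have hle : ∀ j ∈ Finset.range (D + 1), nn j + j ≤ M := fun j hj =>
    Finset.single_le_sum (f := fun j => nn j + j) (fun _ _ => Nat.zero_le _) hj
  -- the relation in the localization
  have h1 : (∑ j ∈ Finset.range (D + 1), Away.map φ f (Q.coeff j) * tt hf hz ^ j).val = 0 := by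
    rw [← Polynomial.eval₂_eq_sum_range, hQ, val_zero]
  rw [val_sum] at h1
  have h2 : ∀ j ∈ Finset.range (D + 1),
      (Away.map φ f (Q.coeff j) * tt hf hz ^ j).val =
        Localization.mk (φ (aa j * f ^ (M - (nn j + j))) * z ^ j) (pw (φ f) M) := by
    intro j hj
    rw [← hQc j, val_term, Localization.mk_eq_mk_iff, Localization.r_iff_exists]
    refine ⟨1, ?_⟩
    simp only [OneMemClass.coe_one, one_mul, map_mul, map_pow, coe_pw]
    have : φ f ^ M = φ f ^ (M - (nn j + j)) * φ f ^ (nn j + j) := by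
      rw [← pow_add, Nat.sub_add_cancel (hle j hj)]
    rw [this]
    ring
  rw [Finset.sum_congr rfl h2, ← Localization.mk_sum, Localization.mk_eq_mk', 
    IsLocalization.mk'_eq_zero_iff] at h1
  obtain ⟨⟨_, k, rfl⟩, hk⟩ := h1
  -- a polynomial relation over `A`
  set P' : Polynomial A := ∑ j ∈ Finset.range (D + 1),
    Polynomial.C (f ^ k * (aa j * f ^ (M - (nn j + j)))) * Polynomial.X ^ j with hP'
  have h3 : Polynomial.aeval z P' = 0 := by
    rw [hP', map_sum, ← hk, Finset.mul_sum]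
    refine Finset.sum_congr rfl fun j _ => ?_
    rw [map_mul, Polynomial.aeval_C, map_pow, Polynomial.aeval_X, ← hφ, map_mul, map_pow]
    ring
  have h4 : P' = 0 := hinj (by rw [h3, map_zero])
  have h5 : ∀ j ∈ Finset.range (D + 1), f ^ k * (aa j * f ^ (M - (nn j + j))) = 0 := by
    intro j hj
    have := congrArg (fun P => Polynomial.coeff P j) h4
    simp only [hP', Polynomial.finsetSum_coeff, Polynomial.coeff_C_mul, Polynomial.coeff_X_pow,
      Polynomial.coeff_zero, mul_ite, mul_one, mul_zero] at this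
    rw [Finset.sum_ite_eq (Finset.range (D + 1)) j, if_pos hj] at this
    exact this
  refine Polynomial.ext fun j => ?_
  rw [Polynomial.coeff_zero]
  by_cases hj : j ∈ Finset.range (D + 1)
  · rw [← hQc j]
    apply HomogeneousLocalization.val_injective
    rw [Away.val_mk, val_zero, Localization.mk_eq_mk', IsLocalization.mk'_eq_zero_iff]
    refine ⟨⟨f ^ (k + (M - (nn j + j))), ⟨_, rfl⟩⟩, ?_⟩
    have := h5 j hj
    show f ^ (k + (M - (nn j + j))) * aa j = 0
    rw [pow_add]
    rw [← this]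
    ring
  · apply Polynomial.coeff_eq_zero_of_natDegree_lt
    by_contra hcon
    exact hj (Finset.mem_range.mpr (Nat.lt_succ_iff.mpr (not_lt.mp hcon)))

theorem ev_bijective (hφ : ∀ a : A, φ a = algebraMap A B a)
    (hhat : Function.Bijective (Polynomial.aeval (R := A) z)) :
    Function.Bijective (Polynomial.eval₂ (Away.map φ f) (tt hf hz)) :=
  ⟨ev_injective hf hz hφ hhat.1, ev_surjective hf hz hφ hhat.2⟩

end Groth.Agent.PConeAlg
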