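import Mathlib
import Groth.Prelude
import Groth.Agent.Lib.ProjPB1_helper5
import Groth.Agent.Lib.ProjUP2_helper5

/-!
# `Φ^*(O(n)) ≅ O(n)|G(φ)` for the morphism induced by a graded ring map (helper5)
APPEND-ONLY once landed.
-/

set_option autoImplicit false
universe u
open CategoryTheory CategoryTheory.Limits AlgebraicGeometry TopologicalSpace Opposite DirectSum
open HomogeneousLocalization QcqsLoc GenLocH8 TensH8 PBH8

namespace Groth.Agent.ProjPB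

section ClaimA
variable {R A B : Type u} [CommRing R] [CommRing A] [Algebra R A] {𝒜 : ℕ → Submodule R A}
  [GradedAlgebra 𝒜] [CommRing B] [Algebra R B] {ℬ : ℕ → Submodule R B} [GradedAlgebra ℬ]
  {φ : 𝒜 →+*ᵍ ℬ} {p : (PCone.dom φ : Scheme.{u}) ⟶ Proj 𝒜}

theorem top_le_chart {d : ℕ} {f : A} (hf : f ∈ 𝒜 d) (hd : 0 < d) :
    (⊤ : (Spec (CommRingCat.of (Away ℬ (φ f)))).Opens) ≤ PCone.chart φ hf hd ⁻¹ᵁ Of φ f := by
  intro y _
  show PCone.chart φ hf hd y ∈ Of φ f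
  rw [← opensRange_chart φ hf hd]
  exact ⟨y, rfl⟩

theorem awayToSection_appLE_p {d : ℕ} {f : A} {hf : f ∈ 𝒜 d} {hd : 0 < d} (hp : HP φ p hf hd) :
    Proj.awayToSection 𝒜 f ≫ p.appLE (Proj.basicOpen 𝒜 f) (Of φ f) (Of_le hp) =
      CommRingCat.ofHom (HomogeneousLocalization.Away.map φ f) ≫ Proj.awayToSection ℬ (φ f) ≫
        (PCone.dom φ).ι.appLE (Proj.basicOpen ℬ (φ f)) (Of φ f) le_rfl := by
  haveI := isIso_appLE_top (PCone.chart φ hf hd) (Of φ f) (top_le_chart hf hd)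
    (opensRange_chart φ hf hd).ge
  rw [← cancel_mono ((PCone.chart φ hf hd).appLE (Of φ f) ⊤ (top_le_chart hf hd))]
  simp only [Category.assoc]
  rw [Scheme.Hom.appLE_comp_appLE, Scheme.Hom.appLE_comp_appLE]
  rw [appLE_of_eq hp, appLE_of_eq (chart_ι φ hf hd)]
  have e1 := top_le_awayι 𝒜 hf hd
  have e2 : (⊤ : (Spec (CommRingCat.of (Away ℬ (φ f)))).Opens) ≤
      Spec.map (CommRingCat.ofHom (HomogeneousLocalization.Away.map φ f)) ⁻¹ᵁ ⊤ := le_top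
  have h1 := Scheme.Hom.appLE_comp_appLE
    (Spec.map (CommRingCat.ofHom (HomogeneousLocalization.Away.map φ f)))
    (Proj.awayι 𝒜 f hf hd) (Proj.basicOpen 𝒜 f) ⊤ ⊤ e1 e2
  rw [← h1, ← Category.assoc, awayToSection_appLE 𝒜 hf hd, appLE_top_top]
  have h2 := awayToSection_appLE ℬ (φ.2 hf) hd
  refine Eq.trans (Scheme.ΓSpecIso_inv_naturality _).symm ?_
  exact congrArg (fun z => CommRingCat.ofHom (HomogeneousLocalization.Away.map φ f) ≫ z) h2.symm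

theorem appLE_ratio {f f' : A} {hf : f ∈ 𝒜 1} (hf' : f' ∈ 𝒜 1) (hp : HP φ p hf one_pos) :
    (p.appLE (Proj.basicOpen 𝒜 f) (Of φ f) (Of_le hp)).hom (ProjTw.ratio 𝒜 hf hf') =
      ((PCone.dom φ).ι.appLE (Proj.basicOpen ℬ (φ f)) (Of φ f) le_rfl).hom
        (ProjTw.ratio ℬ (φ.2 hf) (φ.2 hf')) := by
  have h := congrArg (fun q => q.hom (Away.mk 𝒜 hf 1 f' (by simpa using hf')))
    (awayToSection_appLE_p hp)
  simp only [CommRingCat.hom_comp, RingHom.coe_comp, Function.comp_apply,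
    CommRingCat.hom_ofHom] at h
  rw [Away.map_mk] at h
  exact h

theorem image_le_of_le {f : A} {U' : (PCone.dom φ).toScheme.Opens} (hU' : U' ≤ Of φ f) :
    (PCone.dom φ).ι ''ᵁ U' ≤ Proj.basicOpen ℬ (φ f) := by
  rintro _ ⟨x, hx, rfl⟩
  exact hU' hx

theorem appIso_inv_appLE_ratio {f f' : A} {hf : f ∈ 𝒜 1} (hf' : f' ∈ 𝒜 1)
    (hp : HP φ p hf one_pos) {U' : (PCone.dom φ).toScheme.Opens} (hU' : U' ≤ Of φ f) :
    ((PCone.dom φ).ι.appIso U').inv.hom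
      ((p.appLE (Proj.basicOpen 𝒜 f) U' (hU'.trans (Of_le hp))).hom (ProjTw.ratio 𝒜 hf hf')) =
      rX (image_le_of_le hU') (ProjTw.ratio ℬ (φ.2 hf) (φ.2 hf')) := by
  have h1 : p.appLE (Proj.basicOpen 𝒜 f) U' (hU'.trans (Of_le hp)) =
      p.appLE (Proj.basicOpen 𝒜 f) (Of φ f) (Of_le hp) ≫
        (PCone.dom φ).toScheme.presheaf.map (homOfLE hU').op :=
    (Scheme.Hom.appLE_map _ _ _).symm
  rw [h1, CommRingCat.hom_comp, RingHom.comp_apply, appLE_ratio hf' hp]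
  have h2 : ((PCone.dom φ).ι.appLE (Proj.basicOpen ℬ (φ f)) (Of φ f) le_rfl ≫
      (PCone.dom φ).toScheme.presheaf.map (homOfLE hU').op) ≫ ((PCone.dom φ).ι.appIso U').inv =
      (Proj ℬ).presheaf.map (homOfLE (image_le_of_le hU')).op := by
    rw [Scheme.Hom.appLE_map, Scheme.Hom.appLE_appIso_inv]
  exact congrArg (fun q => q.hom (ProjTw.ratio ℬ (φ.2 hf) (φ.2 hf'))) h2



end ClaimA

section Frame
variable {R A B : Type u} [CommRing R] [CommRing A] [Algebra R A] {𝒜 : ℕ → Submodule R A}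
  [GradedAlgebra 𝒜] [CommRing B] [Algebra R B] {ℬ : ℕ → Submodule R B} [GradedAlgebra ℬ]
  {φ : 𝒜 →+*ᵍ ℬ} {p : (PCone.dom φ : Scheme.{u}) ⟶ Proj 𝒜} (n : ℤ)

/-- The pulled-back generator `Φ^*(f^n)` over `D_+(φ f) ∩ G(φ)`. -/
noncomputable def eF {f : A} {hf : f ∈ 𝒜 1} (hp : HP φ p hf one_pos) :
    Γ((Scheme.Modules.pullback p).obj (Twist.twist 𝒜 n), Of φ f) :=
  cUV p (Twist.twist 𝒜 n) (Of_le hp) (ProjTw.genSecK 𝒜 hf n n (by simp))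

theorem isGen_eF (hcov : ∀ x : Proj 𝒜, ∃ f ∈ 𝒜 1, x ∈ Proj.basicOpen 𝒜 f) {f : A} {hf : f ∈ 𝒜 1}
    (hp : HP φ p hf one_pos) :
    IsGen ((Scheme.Modules.pullback p).obj (Twist.twist 𝒜 n)) (Of φ f) (eF n hp) := by
  have h1 := (isGen_cUV p (ProjTw.isInvertible_twist 𝒜 hcov n)
    (Proj.isAffineOpen_basicOpen 𝒜 f hf one_pos)
    (ProjTw.isGen_genSecK 𝒜 one_pos hf n n (by simp))).res (Of_le hp)
  rw [rF_cUV] at h1
  exact h1

/-- The generator `(φ f)^n` of `O(n)|G(φ)` over `D_+(φ f) ∩ G(φ)`. -/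
noncomputable def mF {f : A} (hf : f ∈ 𝒜 1) :
    Γ((Twist.twist ℬ n).restrict (PCone.dom φ).ι, Of φ f) :=
  show Γ(Twist.twist ℬ n, (PCone.dom φ).ι ''ᵁ Of φ f) from
    rF (Twist.twist ℬ n) (image_le_of_le (le_refl (Of φ f)))
      (ProjTw.genSecK ℬ (φ.2 hf) n n (by simp))

theorem isGen_mF {f : A} (hf : f ∈ 𝒜 1) :
    IsGen ((Twist.twist ℬ n).restrict (PCone.dom φ).ι) (Of φ f) (mF (φ := φ) n hf) :=
  isGen_restrict (PCone.dom φ).ι (Twist.twist ℬ n)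
    ((ProjTw.isGen_genSecK ℬ one_pos (φ.2 hf) n n (by simp)).res _)

theorem coef_eq (hcov : ∀ x : Proj 𝒜, ∃ f ∈ 𝒜 1, x ∈ Proj.basicOpen 𝒜 f) {f f' : A}
    {hf : f ∈ 𝒜 1} {hf' : f' ∈ 𝒜 1} (hp : HP φ p hf one_pos) (hp' : HP φ p hf' one_pos)
    (c : Γ((PCone.dom φ).toScheme, Of φ f ⊓ Of φ f'))
    (h : rF _ (inf_le_left : Of φ f ⊓ Of φ f' ≤ Of φ f) (eF n hp) =
      c • rF _ (inf_le_right : Of φ f ⊓ Of φ f' ≤ Of φ f') (eF n hp')) :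
    c = (p.appLE (Proj.basicOpen 𝒜 f ⊓ Proj.basicOpen 𝒜 f') (Of φ f ⊓ Of φ f')
      (fun x hx => ⟨Of_le hp hx.1, Of_le hp' hx.2⟩)).hom
        (trans 𝒜 hf hf' n inf_le_left inf_le_right) := by
  have hUW : Of φ f ⊓ Of φ f' ≤ p ⁻¹ᵁ (Proj.basicOpen 𝒜 f ⊓ Proj.basicOpen 𝒜 f') :=
    fun x hx => ⟨Of_le hp hx.1, Of_le hp' hx.2⟩
  have h1 : rF _ (inf_le_left : Of φ f ⊓ Of φ f' ≤ Of φ f) (eF n hp) =
      cUV p (Twist.twist 𝒜 n) hUW (rF (Twist.twist 𝒜 n)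
        (inf_le_left : Proj.basicOpen 𝒜 f ⊓ Proj.basicOpen 𝒜 f' ≤ Proj.basicOpen 𝒜 f)
        (ProjTw.genSecK 𝒜 hf n n (by simp))) := by
    unfold eF
    rw [rF_cUV, cUV_resV]
  have h2 : rF _ (inf_le_right : Of φ f ⊓ Of φ f' ≤ Of φ f') (eF n hp') =
      cUV p (Twist.twist 𝒜 n) hUW (rF (Twist.twist 𝒜 n)
        (inf_le_right : Proj.basicOpen 𝒜 f ⊓ Proj.basicOpen 𝒜 f' ≤ Proj.basicOpen 𝒜 f')
        (ProjTw.genSecK 𝒜 hf' n n (by simp))) := by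
    unfold eF
    rw [rF_cUV, cUV_resV]
  have h3 : rF _ (inf_le_left : Of φ f ⊓ Of φ f' ≤ Of φ f) (eF n hp) =
      (p.appLE _ _ hUW).hom (trans 𝒜 hf hf' n inf_le_left inf_le_right) •
        rF _ (inf_le_right : Of φ f ⊓ Of φ f' ≤ Of φ f') (eF n hp') := by
    rw [h1, h2, rF_genSecK_eq 𝒜 hf hf' n inf_le_left inf_le_right, cUV_smul]
  have hg := (isGen_eF n hcov hp').res (inf_le_right : Of φ f ⊓ Of φ f' ≤ Of φ f')
  exact IsGen.coef_ext hg (h.symm.trans h3)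


theorem mF_compat (hcov : ∀ x : Proj 𝒜, ∃ f ∈ 𝒜 1, x ∈ Proj.basicOpen 𝒜 f) {f f' : A}
    {hf : f ∈ 𝒜 1} {hf' : f' ∈ 𝒜 1} (hp : HP φ p hf one_pos) (hp' : HP φ p hf' one_pos)
    (c : Γ((PCone.dom φ).toScheme, Of φ f ⊓ Of φ f'))
    (h : rF _ (inf_le_left : Of φ f ⊓ Of φ f' ≤ Of φ f) (eF n hp) =
      c • rF _ (inf_le_right : Of φ f ⊓ Of φ f' ≤ Of φ f') (eF n hp')) :
    rF ((Twist.twist ℬ n).restrict (PCone.dom φ).ι)
        (inf_le_left : Of φ f ⊓ Of φ f' ≤ Of φ f) (mF (φ := φ) n hf) =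
      c • rF ((Twist.twist ℬ n).restrict (PCone.dom φ).ι)
        (inf_le_right : Of φ f ⊓ Of φ f' ≤ Of φ f') (mF (φ := φ) n hf') := by
  have hUW : Of φ f ⊓ Of φ f' ≤ p ⁻¹ᵁ (Proj.basicOpen 𝒜 f ⊓ Proj.basicOpen 𝒜 f') :=
    fun x hx => ⟨Of_le hp hx.1, Of_le hp' hx.2⟩
  have hc := coef_eq n hcov hp hp' c h
  have hl : Of φ f ⊓ Of φ f' ≤ Of φ f := inf_le_left
  have hr : Of φ f ⊓ Of φ f' ≤ Of φ f' := inf_le_right
  have e1 : (p.appLE _ _ hUW).hom (rX (inf_le_right :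
      Proj.basicOpen 𝒜 f ⊓ Proj.basicOpen 𝒜 f' ≤ Proj.basicOpen 𝒜 f') (ProjTw.ratio 𝒜 hf' hf)) =
      (p.appLE (Proj.basicOpen 𝒜 f') (Of φ f ⊓ Of φ f') (hr.trans (Of_le hp'))).hom
        (ProjTw.ratio 𝒜 hf' hf) :=
    congrArg (fun q => q.hom (ProjTw.ratio 𝒜 hf' hf))
      (Scheme.Hom.map_appLE p hUW (homOfLE (inf_le_right :
        Proj.basicOpen 𝒜 f ⊓ Proj.basicOpen 𝒜 f' ≤ Proj.basicOpen 𝒜 f')).op)
  have e2 : (p.appLE _ _ hUW).hom (rX (inf_le_left :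
      Proj.basicOpen 𝒜 f ⊓ Proj.basicOpen 𝒜 f' ≤ Proj.basicOpen 𝒜 f) (ProjTw.ratio 𝒜 hf hf')) =
      (p.appLE (Proj.basicOpen 𝒜 f) (Of φ f ⊓ Of φ f') (hl.trans (Of_le hp))).hom
        (ProjTw.ratio 𝒜 hf hf') :=
    congrArg (fun q => q.hom (ProjTw.ratio 𝒜 hf hf'))
      (Scheme.Hom.map_appLE p hUW (homOfLE (inf_le_left :
        Proj.basicOpen 𝒜 f ⊓ Proj.basicOpen 𝒜 f' ≤ Proj.basicOpen 𝒜 f)).op)
  have hc' : ((PCone.dom φ).ι.appIso (Of φ f ⊓ Of φ f')).inv.hom c =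
      trans ℬ (φ.2 hf) (φ.2 hf') n (image_le_of_le hl) (image_le_of_le hr) := by
    rw [hc]
    unfold trans
    rw [map_mul, map_mul, map_pow, map_pow, map_pow, map_pow, e1, e2,
      appIso_inv_appLE_ratio hf hp' hr, appIso_inv_appLE_ratio hf' hp hl]
  rw [restrict_rF, restrict_rF, restrict_smul]
  show rF (Twist.twist ℬ n) _ (rF (Twist.twist ℬ n) _ _) =
    ((PCone.dom φ).ι.appIso (Of φ f ⊓ Of φ f')).inv.hom c •
      rF (Twist.twist ℬ n) _ (rF (Twist.twist ℬ n) _ _)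
  rw [rF_rF, rF_rF, hc']
  exact rF_genSecK_eq ℬ (φ.2 hf) (φ.2 hf') n (image_le_of_le hl) (image_le_of_le hr)


theorem cover_Of (hgen : (HomogeneousIdeal.irrelevant 𝒜).toIdeal = Ideal.span (𝒜 1 : Set A))
    (x : (PCone.dom φ).toScheme) : ∃ f ∈ 𝒜 1, x ∈ Of φ f := by
  obtain ⟨⟨g, d, hd, hg⟩, hx⟩ := Opens.mem_iSup.mp x.2
  have hx' : φ g ∉ x.1.asHomogeneousIdeal := hx
  by_contra hcon
  push Not at hcon
  apply hx'
  have h1 : g ∈ (HomogeneousIdeal.irrelevant 𝒜).toIdeal :=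
    HomogeneousIdeal.mem_irrelevant_of_mem _ hd hg
  rw [hgen] at h1
  have h2 : Ideal.span (𝒜 1 : Set A) ≤ Ideal.comap φ x.1.asHomogeneousIdeal.toIdeal := by
    rw [Ideal.span_le]
    intro f hf
    have h3 : ¬ (x ∈ Of φ f) := hcon f hf
    have h4 : ¬ (φ f ∉ x.1.asHomogeneousIdeal) := h3
    exact not_not.mp h4
  exact h2 h1

theorem hcov_of_hgen (hgen : (HomogeneousIdeal.irrelevant 𝒜).toIdeal = Ideal.span (𝒜 1 : Set A))
    (x : Proj 𝒜) : ∃ f ∈ 𝒜 1, x ∈ Proj.basicOpen 𝒜 f := by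
  by_contra hcon
  push Not at hcon
  apply x.not_irrelevant_le
  show (HomogeneousIdeal.irrelevant 𝒜).toIdeal ≤ x.asHomogeneousIdeal.toIdeal
  rw [hgen, Ideal.span_le]
  intro f hf
  have h3 : ¬ (f ∉ x.asHomogeneousIdeal) := hcon f hf
  exact not_not.mp h3

/-- **`Φ^*(O(n)) ≅ O(n)|G(φ)`** when the source algebra is generated in degree one. -/
theorem pullback_twist_iso
    (hgen : (HomogeneousIdeal.irrelevant 𝒜).toIdeal = Ideal.span (𝒜 1 : Set A))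
    (hp : ∀ (d : ℕ) (f : A) (hd : 0 < d) (hf : f ∈ 𝒜 d), HP φ p hf hd) :
    Nonempty ((Scheme.Modules.pullback p).obj (Twist.twist 𝒜 n) ≅
      (Twist.twist ℬ n).restrict (PCone.dom φ).ι) := by
  have hcov := hcov_of_hgen hgen
  let D : TensH8.LocalFrame ((Scheme.Modules.pullback p).obj (Twist.twist 𝒜 n))
      ((Twist.twist ℬ n).restrict (PCone.dom φ).ι) 1 :=
    { ι := {f : A // f ∈ 𝒜 1}
      O := fun k => Of φ k.1
      e := fun k => eF n (hp 1 k.1 one_pos k.2)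
      m := fun k => mF (φ := φ) n k.2
      he := fun k => isGen_eF n hcov (hp 1 k.1 one_pos k.2)
      hm := fun k => isGen_mF n k.2
      cover := fun x => by
        obtain ⟨f, hf, hx⟩ := cover_Of (φ := φ) hgen x
        exact ⟨⟨f, hf⟩, hx⟩
      compat := fun k l c h => by
        rw [pow_one]
        exact mF_compat n hcov (hp 1 k.1 one_pos k.2) (hp 1 l.1 one_pos l.2) c h }
  obtain ⟨θ, -⟩ := Groth.Agent.ProjUPE.exists_iso D
  exact ⟨θ⟩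

end Frame

end Groth.Agent.ProjPB
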