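import Mathlib
import Groth.Prelude
import Groth.Agent.Lib.ProjPB2_helper5

/-!
# The morphism induced by a graded ring map: preimages of standard opens, bijectivity of the
# chart maps when it is an isomorphism (helper5).  APPEND-ONLY once landed.
-/

set_option autoImplicit false
universe u
open CategoryTheory CategoryTheory.Limits AlgebraicGeometry TopologicalSpace Opposite DirectSum
open HomogeneousLocalization QcqsLoc GenLocH8 TensH8 PBH8

namespace Groth.Agent.ProjPB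

section BasicOpen
variable {R A : Type u} [CommRing R] [CommRing A] [Algebra R A] (𝒜 : ℕ → Submodule R A)
  [GradedAlgebra 𝒜]

theorem mem_basicOpen_awayToSection {d : ℕ} {g : A} (hg : g ∈ 𝒜 d) (k : ℕ) (a : A)
    (ha : a ∈ 𝒜 (k • d)) (y : Proj 𝒜) (hy : y ∈ Proj.basicOpen 𝒜 g) :
    y ∈ (Proj 𝒜).basicOpen ((Proj.awayToSection 𝒜 g).hom (Away.mk 𝒜 hg k a ha)) ↔
      a ∉ y.asHomogeneousIdeal := by
  rw [Groth.Agent.ProjQC.mem_basicOpen_iff 𝒜 _ _ y hy]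
  exact Groth.Agent.ProjQC.isUnit_iff_of_val 𝒜 y _ a (g ^ k)
    (fun h => hy (y.isPrime.mem_of_pow_mem _ h)) rfl

end BasicOpen

section Preimage
variable {R A B : Type u} [CommRing R] [CommRing A] [Algebra R A] {𝒜 : ℕ → Submodule R A}
  [GradedAlgebra 𝒜] [CommRing B] [Algebra R B] {ℬ : ℕ → Submodule R B} [GradedAlgebra ℬ]
  {φ : 𝒜 →+*ᵍ ℬ} {p : (PCone.dom φ : Scheme.{u}) ⟶ Proj 𝒜}

theorem preimage_le_Of (hp : ∀ (d : ℕ) (f : A) (hd : 0 < d) (hf : f ∈ 𝒜 d), HP φ p hf hd)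
    {e : ℕ} {f : A} (hf : f ∈ 𝒜 e) : p ⁻¹ᵁ Proj.basicOpen 𝒜 f ≤ Of φ f := by
  intro x hx
  obtain ⟨⟨g, d, hd, hg⟩, hxg⟩ := Opens.mem_iSup.mp x.2
  have hxg' : x ∈ Of φ g := hxg
  have hpg : p x ∈ Proj.basicOpen 𝒜 g := Of_le (hp d g hd hg) hxg'
  have hfd : f ^ d ∈ 𝒜 (e • d) := by
    have := SetLike.pow_mem_graded d hf
    rw [smul_eq_mul] at this ⊢
    rwa [mul_comm] at this
  set z : Away 𝒜 g := Away.mk 𝒜 hg e (f ^ d) hfd with hz
  -- `p x` lies in the basic open of `s = f^d / g^e`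
  have h1 : p x ∈ (Proj 𝒜).basicOpen ((Proj.awayToSection 𝒜 g).hom z) := by
    rw [mem_basicOpen_awayToSection 𝒜 hg e _ hfd _ hpg]
    intro h
    exact hx ((p x).isPrime.mem_of_pow_mem _ h)
  -- transport along `p`
  have h2 : x ∈ (PCone.dom φ).toScheme.basicOpen
      ((p.appLE (Proj.basicOpen 𝒜 g) (Of φ g) (Of_le (hp d g hd hg))).hom
        ((Proj.awayToSection 𝒜 g).hom z)) := by
    rw [Scheme.Hom.appLE, CommRingCat.hom_comp, RingHom.comp_apply, Scheme.basicOpen_res]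
    refine ⟨hxg', ?_⟩
    rw [← Scheme.preimage_basicOpen]
    exact h1
  have h3 := congrArg (fun q => q.hom z) (awayToSection_appLE_p (hp d g hd hg))
  simp only [CommRingCat.hom_comp, RingHom.coe_comp, Function.comp_apply,
    CommRingCat.hom_ofHom] at h3
  rw [h3, hz, Away.map_mk] at h2
  rw [Scheme.Hom.appLE, CommRingCat.hom_comp, RingHom.comp_apply, Scheme.basicOpen_res,
    ← Scheme.preimage_basicOpen] at h2
  have h4 : (PCone.dom φ).ι x ∈ (Proj ℬ).basicOpen ((Proj.awayToSection ℬ (φ g)).hom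
      (Away.mk ℬ (φ.2 hg) e (φ (f ^ d)) (φ.2 hfd))) := h2.2
  have h5 := (mem_basicOpen_awayToSection ℬ (φ.2 hg) e _ (φ.2 hfd) _ hxg).mp h4
  show φ f ∉ x.1.asHomogeneousIdeal
  intro h
  apply h5
  rw [map_pow]
  exact Ideal.pow_mem_of_mem _ h d hd

end Preimage


section Bij
variable {R A B : Type u} [CommRing R] [CommRing A] [Algebra R A] {𝒜 : ℕ → Submodule R A}
  [GradedAlgebra 𝒜] [CommRing B] [Algebra R B] {ℬ : ℕ → Submodule R B} [GradedAlgebra ℬ]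
  {φ : 𝒜 →+*ᵍ ℬ} {p : (PCone.dom φ : Scheme.{u}) ⟶ Proj 𝒜}

theorem isIso_appLE_of_eq {X Y : Scheme.{u}} (q : X ⟶ Y) [IsIso q] (U : Y.Opens) (V : X.Opens)
    (e : V ≤ q ⁻¹ᵁ U) (h : V = q ⁻¹ᵁ U) : IsIso (q.appLE U V e) := by
  subst h
  unfold Scheme.Hom.appLE
  have : (homOfLE e).op = 𝟙 _ := Subsingleton.elim _ _
  rw [this, CategoryTheory.Functor.map_id, Category.comp_id]
  infer_instance

theorem basicOpen_le_dom {d : ℕ} {f : A} (hf : f ∈ 𝒜 d) (hd : 0 < d) :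
    Proj.basicOpen ℬ (φ f) ≤ PCone.dom φ := by
  intro x hx
  exact Opens.mem_iSup.mpr ⟨⟨f, d, hd, hf⟩, hx⟩

theorem awayMap_bijective [IsIso p]
    (hp : ∀ (d : ℕ) (f : A) (hd : 0 < d) (hf : f ∈ 𝒜 d), HP φ p hf hd)
    {e : ℕ} (he : 0 < e) {f : A} (hf : f ∈ 𝒜 e) :
    Function.Bijective (HomogeneousLocalization.Away.map φ f) := by
  have eq := awayToSection_appLE_p (hp e f he hf)
  haveI h1 : IsIso (Proj.awayToSection 𝒜 f) := (Proj.basicOpenIsoAway 𝒜 f hf he).isIso_hom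
  haveI h2 : IsIso (Proj.awayToSection ℬ (φ f)) :=
    (Proj.basicOpenIsoAway ℬ (φ f) (φ.2 hf) he).isIso_hom
  haveI h3 : IsIso (p.appLE (Proj.basicOpen 𝒜 f) (Of φ f) (Of_le (hp e f he hf))) :=
    isIso_appLE_of_eq p _ _ _ (le_antisymm (Of_le (hp e f he hf)) (preimage_le_Of hp hf))
  haveI h4 : IsIso ((PCone.dom φ).ι.appLE (Proj.basicOpen ℬ (φ f)) (Of φ f) le_rfl) := by
    haveI : IsIso ((PCone.dom φ).ι.app (Proj.basicOpen ℬ (φ f))) :=
      (PCone.dom φ).ι.isIso_app _ (by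
        rw [Scheme.Opens.opensRange_ι]; exact basicOpen_le_dom hf he)
    unfold Scheme.Hom.appLE
    have : (homOfLE (le_refl (Of φ f))).op = 𝟙 _ := Subsingleton.elim _ _
    rw [this, CategoryTheory.Functor.map_id, Category.comp_id]
    infer_instance
  have h5 : IsIso (CommRingCat.ofHom (HomogeneousLocalization.Away.map φ f) ≫
      Proj.awayToSection ℬ (φ f) ≫
        (PCone.dom φ).ι.appLE (Proj.basicOpen ℬ (φ f)) (Of φ f) le_rfl) := by
    rw [← eq]; infer_instance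
  have h6 : IsIso (CommRingCat.ofHom (HomogeneousLocalization.Away.map φ f)) :=
    IsIso.of_isIso_comp_right _ (Proj.awayToSection ℬ (φ f) ≫
        (PCone.dom φ).ι.appLE (Proj.basicOpen ℬ (φ f)) (Of φ f) le_rfl)
  exact ConcreteCategory.bijective_of_isIso
    (CommRingCat.ofHom (HomogeneousLocalization.Away.map φ f))

end Bij


section Extract
variable {R A B : Type u} [CommRing R] [CommRing A] [Algebra R A] {𝒜 : ℕ → Submodule R A}
  [GradedAlgebra 𝒜] [CommRing B] [Algebra R B] {ℬ : ℕ → Submodule R B} [GradedAlgebra ℬ]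
  {φ : 𝒜 →+*ᵍ ℬ}

theorem exists_pow_mul_eq_of_surjective {f : A} (hf : f ∈ 𝒜 1)
    (hs : Function.Surjective (HomogeneousLocalization.Away.map φ f)) {m : ℕ} {b : B}
    (hb : b ∈ ℬ m) : ∃ (N : ℕ) (a : A), a ∈ 𝒜 (N + m) ∧ φ a = φ f ^ N * b := by
  have hb' : b ∈ ℬ (m • 1) := by simpa using hb
  obtain ⟨z, hz⟩ := hs (Away.mk ℬ (φ.2 hf) m b hb')
  obtain ⟨k, a, ha, rfl⟩ := Away.mk_surjective 𝒜 hf z
  rw [Away.map_mk] at hz
  have hv := congrArg HomogeneousLocalization.val hz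
  rw [Away.val_mk, Away.val_mk, Localization.mk_eq_mk_iff, Localization.r_iff_exists] at hv
  obtain ⟨⟨c, t, rfl⟩, hc⟩ := hv
  simp only at hc
  refine ⟨t + k, f ^ (t + m) * a, ?_, ?_⟩
  · have h1 : f ^ (t + m) ∈ 𝒜 ((t + m) • 1) := SetLike.pow_mem_graded _ hf
    have h2 := SetLike.mul_mem_graded h1 ha
    have e : (t + m) • 1 + k • 1 = t + k + m := by simp only [smul_eq_mul, mul_one]; ring
    rwa [e] at h2
  · rw [map_mul, map_pow, pow_add, pow_add, mul_assoc, hc]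
    ring

end Extract


section Rad
variable {R A B : Type u} [CommRing R] [CommRing A] [Algebra R A] {𝒜 : ℕ → Submodule R A}
  [GradedAlgebra 𝒜] [CommRing B] [Algebra R B] {ℬ : ℕ → Submodule R B} [GradedAlgebra ℬ]
  {φ : 𝒜 →+*ᵍ ℬ}

theorem map_mem_span_of_pow (hgen : ∀ n : ℕ, 1 ≤ n → 𝒜 n = 𝒜 1 ^ n) {d : ℕ} (hd : 0 < d) {g : A}
    (hg : g ∈ 𝒜 d) : φ g ∈ Ideal.span (ℬ 1 : Set B) := by
  obtain ⟨d', rfl⟩ : ∃ d', d = d' + 1 := ⟨d - 1, by omega⟩
  rw [hgen _ (by omega), pow_succ'] at hg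
  induction hg using Submodule.mul_induction_on' with
  | mem_mul_mem m hm n hn =>
    rw [map_mul]
    exact Ideal.mul_mem_right _ _ (Ideal.subset_span (φ.2 hm))
  | add x hx y hy hx' hy' =>
    rw [map_add]
    exact add_mem hx' hy'

theorem mem_radical_of_dom_top (hdom : PCone.dom φ = ⊤)
    (hgen : ∀ n : ℕ, 1 ≤ n → 𝒜 n = 𝒜 1 ^ n) {m : ℕ} (hm : 0 < m) {b : B} (hb : b ∈ ℬ m) :
    b ∈ (Ideal.span (ℬ 1 : Set B)).radical := by
  have hI : (Ideal.span (ℬ 1 : Set B)).IsHomogeneous ℬ :=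
    Ideal.homogeneous_span ℬ _ (fun x hx => ⟨1, hx⟩)
  rw [hI.radical_eq, Ideal.mem_sInf]
  rintro J ⟨hJh, hIJ, hJp⟩
  by_contra hbJ
  let x : ProjectiveSpectrum ℬ :=
    { asHomogeneousIdeal := ⟨J, hJh⟩
      isPrime := hJp
      not_irrelevant_le := fun hle =>
        hbJ (hle (HomogeneousIdeal.mem_irrelevant_of_mem _ hm hb)) }
  have hx : (x : Proj ℬ) ∈ PCone.dom φ := by rw [hdom]; trivial
  obtain ⟨⟨g, d, hd, hg⟩, hxg⟩ := Opens.mem_iSup.mp hx
  have hxg' : φ g ∉ J := hxg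
  exact hxg' (hIJ (map_mem_span_of_pow hgen hd hg))

end Rad

end Groth.Agent.ProjPB
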