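import Mathlib
import Groth.Agent.Lib.PConeAlg1_helper5
import Groth.Agent.Lib.ProjPB3_helper5

/-!
# Morphisms given on affine charts: finite type, quasi-compactness, fibres  (helper5)
-/

universe u

open CategoryTheory CategoryTheory.Limits AlgebraicGeometry TopologicalSpace Opposite

namespace Groth.Agent.PConeGeo

section General

variable {E X : Scheme.{u}} (p : E ⟶ X)

/-- Fibre of a morphism which over an affine chart `Spec A0 ⊆ X` is `Spec B0 → Spec A0`, when the
base change of `B0` along every `A0 → κ(x)` is a fixed `κ(x)`-algebra `T`. -/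
theorem fibre_iso_of_chart {A0 B0 : CommRingCat.{u}} (c : Spec B0 ⟶ E) (i : Spec A0 ⟶ X)
    [IsOpenImmersion c] [IsOpenImmersion i] (ψ : A0 ⟶ B0) (H : c ≫ p = Spec.map ψ ≫ i)
    (H' : p ⁻¹ᵁ i.opensRange = c.opensRange) (x : X) (hx : x ∈ i.opensRange) (T : CommRingCat.{u})
    (inl : X.residueField x ⟶ T)
    (hpush : ∀ γ : A0 ⟶ X.residueField x, ∃ inr : B0 ⟶ T, IsPushout γ ψ inl inr) :
    ∃ e : pullback p (X.fromSpecResidueField x) ≅ Spec T,
      e.hom ≫ Spec.map inl = pullback.snd p (X.fromSpecResidueField x) := by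
  have hrange : Set.range (X.fromSpecResidueField x) ⊆ Set.range i := by
    rw [Scheme.range_fromSpecResidueField]
    intro y hy
    rw [Set.mem_singleton_iff] at hy
    subst hy
    exact hx
  set g := IsOpenImmersion.lift i (X.fromSpecResidueField x) hrange with hg
  have hgi : g ≫ i = X.fromSpecResidueField x := IsOpenImmersion.lift_fac _ _ _
  obtain ⟨γ, hγ⟩ : ∃ γ : A0 ⟶ X.residueField x, Spec.map γ = g :=
    ⟨Spec.preimage g, Spec.map_preimage g⟩
  obtain ⟨inr, hpo⟩ := hpush γ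
  have h1 := isPullback_SpecMap_of_isPushout γ ψ inl inr hpo
  have h2 : IsPullback c (Spec.map ψ) p i :=
    (IsOpenImmersion.isPullback (Spec.map ψ) c i p H H').flip
  have h3 := h1.flip.paste_horiz h2
  rw [hγ, hgi] at h3
  exact ⟨h3.isoPullback.symm, h3.isoPullback_inv_snd⟩

variable {ι : Type*} {A0 B0 : ι → CommRingCat.{u}} (c : ∀ k, Spec (B0 k) ⟶ E)
  (j : ∀ k, Spec (A0 k) ⟶ X) [∀ k, IsOpenImmersion (c k)] [∀ k, IsOpenImmersion (j k)]
  (ψ : ∀ k, A0 k ⟶ B0 k)

theorem locallyOfFiniteType_of_charts (H : ∀ k, c k ≫ p = Spec.map (ψ k) ≫ j k)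
    (hcov : ∀ y : E, ∃ k, y ∈ (c k).opensRange) (hft : ∀ k, (ψ k).hom.FiniteType) :
    LocallyOfFiniteType p := by
  have hU : iSup (fun k => (c k).opensRange) = ⊤ := by
    rw [eq_top_iff]
    intro y _
    obtain ⟨k, hk⟩ := hcov y
    exact Opens.mem_iSup.mpr ⟨k, hk⟩
  refine IsZariskiLocalAtSource.of_iSup_eq_top (P := @LocallyOfFiniteType) _ hU fun k => ?_
  have h1 : (c k).opensRange.ι ≫ p = (c k).isoOpensRange.inv ≫ (Spec.map (ψ k) ≫ j k) := by
    rw [← H k, ← Category.assoc]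
    congr 1
    rw [Iso.eq_inv_comp]
    exact (c k).isoOpensRange_hom_ι
  rw [h1]
  haveI : LocallyOfFiniteType (Spec.map (ψ k)) :=
    (HasRingHomProperty.Spec_iff (P := @LocallyOfFiniteType)).mpr (hft k)
  infer_instance

theorem quasiCompact_of_charts (H' : ∀ k, p ⁻¹ᵁ (j k).opensRange = (c k).opensRange)
    (hcov : ∀ x : X, ∃ k, x ∈ (j k).opensRange) : QuasiCompact p := by
  have hU : iSup (fun k => (j k).opensRange) = ⊤ := by
    rw [eq_top_iff]
    intro y _
    obtain ⟨k, hk⟩ := hcov y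
    exact Opens.mem_iSup.mpr ⟨k, hk⟩
  refine IsZariskiLocalAtTarget.of_iSup_eq_top (P := @QuasiCompact) _ hU fun k => ?_
  have ha : IsAffineOpen (j k).opensRange := isAffineOpen_opensRange (j k)
  haveI : IsAffine ((j k).opensRange : Scheme.{u}) := ha
  rw [HasAffineProperty.iff_of_isAffine (P := @QuasiCompact)]
  have hc : IsAffineOpen (p ⁻¹ᵁ (j k).opensRange) := by
    rw [H' k]
    exact isAffineOpen_opensRange (c k)
  exact isCompact_iff_compactSpace.mp hc.isCompact

end General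

end Groth.Agent.PConeGeo

namespace Groth.Agent.PConeGeo

section Poly

attribute [local instance] Polynomial.algebra

theorem isPushout_poly {A0 B0 K : Type u} [CommRing A0] [CommRing B0] [CommRing K] (ψ : A0 →+* B0)
    (t : B0) (hbij : Function.Bijective (Polynomial.eval₂ ψ t)) (γ : A0 →+* K) :
    ∃ inr : CommRingCat.of B0 ⟶ CommRingCat.of (Polynomial K),
      IsPushout (CommRingCat.ofHom γ) (CommRingCat.ofHom ψ)
        (CommRingCat.ofHom (algebraMap K (Polynomial K))) inr := by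
  letI : Algebra A0 K := γ.toAlgebra
  have h0 := CommRingCat.isPushout_of_isPushout A0 K (Polynomial A0) (Polynomial K)
  let E : Polynomial A0 ≃+* B0 := RingEquiv.ofBijective (Polynomial.eval₂RingHom ψ t) hbij
  refine ⟨E.toCommRingCatIso.inv ≫
    CommRingCat.ofHom (algebraMap (Polynomial A0) (Polynomial K)), ?_⟩
  refine h0.of_iso (Iso.refl _) (Iso.refl _) E.toCommRingCatIso (Iso.refl _) ?_ ?_ ?_ ?_
  · simp only [Iso.refl_hom, Category.comp_id, Category.id_comp]
  · ext a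
    simp [E]
  · simp
  · rw [Iso.refl_hom, Category.comp_id, Iso.hom_inv_id_assoc]

theorem finiteType_of_ev_surjective {A0 B0 : Type u} [CommRing A0] [CommRing B0] (ψ : A0 →+* B0)
    (t : B0) (hsurj : Function.Surjective (Polynomial.eval₂ ψ t)) : ψ.FiniteType := by
  have h1 : ψ = (Polynomial.eval₂RingHom ψ t).comp (Polynomial.C) := by
    ext a
    simp
  rw [h1]
  refine RingHom.FiniteType.comp (RingHom.FiniteType.of_surjective _ hsurj) ?_
  have : (Polynomial.C : A0 →+* Polynomial A0) = algebraMap A0 (Polynomial A0) := rfl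
  rw [this, RingHom.finiteType_algebraMap]
  infer_instance

end Poly

section PCone

open HomogeneousLocalization Groth.Agent.ProjPB Groth.Agent.PConeAlg

variable {R A B : Type u} [CommRing R] [CommRing A] [Algebra R A] {𝒜 : ℕ → Submodule R A}
  [GradedAlgebra 𝒜] [CommRing B] [Algebra R B] {ℬ : ℕ → Submodule R B} [GradedAlgebra ℬ]
  {φ : 𝒜 →+*ᵍ ℬ} {p : (PCone.dom φ : Scheme.{u}) ⟶ Proj 𝒜}

theorem preimage_opensRange (hp : ∀ (d : ℕ) (f : A) (hd : 0 < d) (hf : f ∈ 𝒜 d), HP φ p hf hd)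
    {e : ℕ} {f : A} (hf : f ∈ 𝒜 e) (he : 0 < e) :
    p ⁻¹ᵁ (Proj.awayι 𝒜 f hf he).opensRange = (PCone.chart φ hf he).opensRange := by
  rw [Proj.opensRange_awayι, opensRange_chart]
  exact le_antisymm (preimage_le_Of hp hf) (Of_le (hp e f he hf))

theorem locallyOfFiniteType_pcone
    (hgen : (HomogeneousIdeal.irrelevant 𝒜).toIdeal = Ideal.span (𝒜 1 : Set A))
    (hp : ∀ (d : ℕ) (f : A) (hd : 0 < d) (hf : f ∈ 𝒜 d), HP φ p hf hd)
    (hft : ∀ f ∈ 𝒜 1, (Away.map φ f).FiniteType) : LocallyOfFiniteType p := by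
  refine locallyOfFiniteType_of_charts p (ι := {f : A // f ∈ 𝒜 1})
    (A0 := fun k => CommRingCat.of (Away 𝒜 k.1)) (B0 := fun k => CommRingCat.of (Away ℬ (φ k.1)))
    (fun k => PCone.chart φ k.2 one_pos) (fun k => Proj.awayι 𝒜 k.1 k.2 one_pos)
    (fun k => CommRingCat.ofHom (Away.map φ k.1)) (fun k => hp 1 k.1 one_pos k.2) ?_
    (fun k => hft k.1 k.2)
  intro y
  obtain ⟨f, hf, hy⟩ := cover_Of hgen y
  refine ⟨⟨f, hf⟩, ?_⟩
  rw [opensRange_chart]
  exact hy

theorem quasiCompact_pcone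
    (hgen : (HomogeneousIdeal.irrelevant 𝒜).toIdeal = Ideal.span (𝒜 1 : Set A))
    (hp : ∀ (d : ℕ) (f : A) (hd : 0 < d) (hf : f ∈ 𝒜 d), HP φ p hf hd) : QuasiCompact p := by
  refine quasiCompact_of_charts p (ι := {f : A // f ∈ 𝒜 1})
    (A0 := fun k => CommRingCat.of (Away 𝒜 k.1)) (B0 := fun k => CommRingCat.of (Away ℬ (φ k.1)))
    (fun k => PCone.chart φ k.2 one_pos) (fun k => Proj.awayι 𝒜 k.1 k.2 one_pos)
    (fun k => preimage_opensRange hp k.2 one_pos) ?_
  intro x
  obtain ⟨f, hf, hx⟩ := hcov_of_hgen hgen x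
  refine ⟨⟨f, hf⟩, ?_⟩
  rw [Proj.opensRange_awayι]
  exact hx

/-- The pointed projective cone retraction: finite type, fibres are affine lines. -/
theorem pcone_result [Algebra A B] (hφ : ∀ a : A, φ a = algebraMap A B a)
    (z : B) (hz : z ∈ ℬ 1) (hhat : Function.Bijective (Polynomial.aeval (R := A) z))
    (hgen : (HomogeneousIdeal.irrelevant 𝒜).toIdeal = Ideal.span (𝒜 1 : Set A))
    (hp : ∀ (d : ℕ) (f : A) (hd : 0 < d) (hf : f ∈ 𝒜 d),
        PCone.chart φ hf hd ≫ p =
          Spec.map (CommRingCat.ofHom (HomogeneousLocalization.Away.map φ f)) ≫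
            Proj.awayι 𝒜 f hf hd) (x : Proj 𝒜) :
    LocallyOfFiniteType p ∧ QuasiCompact p ∧
      ∃ e : pullback p ((Proj 𝒜).fromSpecResidueField x) ≅
          Spec (CommRingCat.of (Polynomial ((Proj 𝒜).residueField x))),
        e.hom ≫ Spec.map (CommRingCat.ofHom (algebraMap ((Proj 𝒜).residueField x)
          (Polynomial ((Proj 𝒜).residueField x)))) =
            pullback.snd p ((Proj 𝒜).fromSpecResidueField x) := by
  have hp' : ∀ (d : ℕ) (f : A) (hd : 0 < d) (hf : f ∈ 𝒜 d), HP φ p hf hd := hp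
  refine ⟨locallyOfFiniteType_pcone hgen hp' fun f hf =>
    finiteType_of_ev_surjective _ (tt hf hz) (ev_surjective hf hz hφ hhat.2),
    quasiCompact_pcone hgen hp', ?_⟩
  obtain ⟨f, hf, hxf⟩ := hcov_of_hgen hgen x
  refine fibre_iso_of_chart p (PCone.chart φ hf one_pos) (Proj.awayι 𝒜 f hf one_pos)
    (CommRingCat.ofHom (Away.map φ f)) (hp 1 f one_pos hf) (preimage_opensRange hp' hf one_pos) x
    (by rw [Proj.opensRange_awayι]; exact hxf)
    (CommRingCat.of (Polynomial ((Proj 𝒜).residueField x)))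
    (CommRingCat.ofHom (algebraMap ((Proj 𝒜).residueField x)
      (Polynomial ((Proj 𝒜).residueField x))))
    (fun γ => isPushout_poly (Away.map φ f) (tt hf hz) (ev_bijective hf hz hφ hhat) γ.hom)

end PCone

end Groth.Agent.PConeGeo
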