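import Mathlib
import Groth.Prelude
import Groth.Agent.Lib.ConeAlg1_helper5
import Groth.Agent.Lib.PConeGeo1_helper5

/-!
# The pointed affine cone and its retraction onto `Proj`  (helper5)
-/

set_option autoImplicit false
universe u

open CategoryTheory CategoryTheory.Limits AlgebraicGeometry TopologicalSpace Opposite
open HomogeneousLocalization

namespace Groth.Agent.ConeGeo

section Laurent

open scoped AlgebraMonoidAlgebra

theorem isPushout_laurent {A0 B0 K : Type u} [CommRing A0] [CommRing B0] [CommRing K]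
    (ψ : A0 →+* B0) (t : B0ˣ) (hbij : Function.Bijective (LaurentPolynomial.eval₂ ψ t))
    (γ : A0 →+* K) :
    ∃ inr : CommRingCat.of B0 ⟶ CommRingCat.of (LaurentPolynomial K),
      IsPushout (CommRingCat.ofHom γ) (CommRingCat.ofHom ψ)
        (CommRingCat.ofHom (algebraMap K (LaurentPolynomial K))) inr := by
  letI : Algebra A0 K := γ.toAlgebra
  have h0 := CommRingCat.isPushout_of_isPushout A0 K (LaurentPolynomial A0) (LaurentPolynomial K)
  let E : LaurentPolynomial A0 ≃+* B0 := RingEquiv.ofBijective (LaurentPolynomial.eval₂ ψ t) hbij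
  refine ⟨E.toCommRingCatIso.inv ≫
    CommRingCat.ofHom (algebraMap (LaurentPolynomial A0) (LaurentPolynomial K)), ?_⟩
  refine h0.of_iso (Iso.refl _) (Iso.refl _) E.toCommRingCatIso (Iso.refl _) ?_ ?_ ?_ ?_
  · simp only [Iso.refl_hom, Category.comp_id, Category.id_comp]
  · ext a
    simp [E]
  · simp
  · rw [Iso.refl_hom, Category.comp_id, Iso.hom_inv_id_assoc]

theorem finiteType_of_laurent_surjective {A0 B0 : Type u} [CommRing A0] [CommRing B0]
    (ψ : A0 →+* B0) (t : B0ˣ) (hsurj : Function.Surjective (LaurentPolynomial.eval₂ ψ t)) :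
    ψ.FiniteType := by
  have h1 : ψ = (LaurentPolynomial.eval₂ ψ t).comp (LaurentPolynomial.C) := by
    ext a
    simp
  rw [h1]
  refine RingHom.FiniteType.comp (RingHom.FiniteType.of_surjective _ hsurj) ?_
  have : (LaurentPolynomial.C : A0 →+* LaurentPolynomial A0) =
      algebraMap A0 (LaurentPolynomial A0) := by
    ext a : 1
    exact LaurentPolynomial.C_eq_algebraMap a
  rw [this, RingHom.finiteType_algebraMap]
  infer_instance

end Laurent

section AwayPoint

variable {R A : Type u} [CommRing R] [CommRing A] [Algebra R A] (𝒜 : ℕ → Submodule R A)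
  [GradedAlgebra 𝒜]

theorem pow_mem_smul {d e : ℕ} {f : A} (hf : f ∈ 𝒜 e) : f ^ d ∈ 𝒜 (e • d) := by
  have := SetLike.pow_mem_graded d hf
  rw [smul_eq_mul] at this ⊢
  rwa [mul_comm] at this

/-- The point of `Proj` corresponding to a prime `y'` of `A_(g)` lies in `D_+(f)` iff
`f^d / g^e ∉ y'`. -/
theorem awayι_mem_basicOpen_iff {d e : ℕ} {g f : A} (hg : g ∈ 𝒜 d) (hd : 0 < d) (hf : f ∈ 𝒜 e)
    (y' : Spec (CommRingCat.of (Away 𝒜 g))) :
    Proj.awayι 𝒜 g hg hd y' ∈ Proj.basicOpen 𝒜 f ↔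
      Away.mk 𝒜 hg e (f ^ d) (pow_mem_smul 𝒜 hf) ∉ y'.asIdeal := by
  have hP : Proj.awayι 𝒜 g hg hd y' ∈ Proj.basicOpen 𝒜 g := by
    rw [← Proj.opensRange_awayι 𝒜 g hg hd]
    exact ⟨y', rfl⟩
  set s : Away 𝒜 g := Away.mk 𝒜 hg e (f ^ d) (pow_mem_smul 𝒜 hf) with hs
  have h1 := Groth.Agent.ProjPB.mem_basicOpen_awayToSection 𝒜 hg e (f ^ d) (pow_mem_smul 𝒜 hf)
    (Proj.awayι 𝒜 g hg hd y') hP
  have h2 : f ^ d ∉ (Proj.awayι 𝒜 g hg hd y').asHomogeneousIdeal ↔
      Proj.awayι 𝒜 g hg hd y' ∈ Proj.basicOpen 𝒜 f := by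
    constructor
    · intro h h'
      exact h (Ideal.pow_mem_of_mem _ h' d hd)
    · intro h h'
      exact h ((Proj.awayι 𝒜 g hg hd y').isPrime.mem_of_pow_mem _ h')
  rw [← h2, ← h1]
  have h3 : y' ∈ (Spec (CommRingCat.of (Away 𝒜 g))).basicOpen
      (((Proj.awayι 𝒜 g hg hd).appLE (Proj.basicOpen 𝒜 g) ⊤
        (Groth.Agent.ProjPB.top_le_awayι 𝒜 hg hd)).hom ((Proj.awayToSection 𝒜 g).hom s)) ↔
      Proj.awayι 𝒜 g hg hd y' ∈ (Proj 𝒜).basicOpen ((Proj.awayToSection 𝒜 g).hom s) := by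
    rw [Scheme.Hom.appLE, CommRingCat.hom_comp, RingHom.comp_apply, Scheme.basicOpen_res,
      ← Scheme.preimage_basicOpen]
    constructor
    · intro h; exact h.2
    · intro h; exact ⟨trivial, h⟩
  rw [← h3]
  have h4 := congrArg (fun q => q.hom s) (Groth.Agent.ProjPB.awayToSection_appLE 𝒜 hg hd)
  simp only [CommRingCat.hom_comp, RingHom.coe_comp, Function.comp_apply] at h4
  rw [h4, basicOpen_eq_of_affine]
  exact Iff.rfl

end AwayPoint

section Cone

variable {R A : Type u} [CommRing R] [CommRing A] [Algebra R A] {𝒜 : ℕ → Submodule R A}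
  [GradedAlgebra 𝒜]

theorem chart_ι {d : ℕ} {f : A} (hf : f ∈ 𝒜 d) (hd : 0 < d) :
    Cone.chart hf hd ≫ (Cone.pointed 𝒜).ι =
      Spec.map (CommRingCat.ofHom (algebraMap A (Localization.Away f))) :=
  IsOpenImmersion.lift_fac _ _ _

instance {d : ℕ} {f : A} (hf : f ∈ 𝒜 d) (hd : 0 < d) : IsOpenImmersion (Cone.chart hf hd) := by
  haveI : IsOpenImmersion (Cone.chart hf hd ≫ (Cone.pointed 𝒜).ι) := by
    rw [chart_ι]; infer_instance
  exact IsOpenImmersion.of_comp _ (Cone.pointed 𝒜).ι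

theorem ι_chart_apply {d : ℕ} {f : A} (hf : f ∈ 𝒜 d) (hd : 0 < d)
    (y : Spec (CommRingCat.of (Localization.Away f))) :
    (Cone.pointed 𝒜).ι (Cone.chart hf hd y) =
      Spec.map (CommRingCat.ofHom (algebraMap A (Localization.Away f))) y := by
  rw [← chart_ι hf hd]
  rfl

theorem mem_opensRange_chart_iff {d : ℕ} {f : A} (hf : f ∈ 𝒜 d) (hd : 0 < d)
    (x : (Cone.pointed 𝒜).toScheme) :
    x ∈ (Cone.chart hf hd).opensRange ↔ f ∉ ((Cone.pointed 𝒜).ι x).asIdeal := by
  have hr := PrimeSpectrum.localization_away_comap_range (Localization.Away f) f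
  constructor
  · rintro ⟨y, rfl⟩
    rw [ι_chart_apply]
    have : (Spec.map (CommRingCat.ofHom (algebraMap A (Localization.Away f)))) y ∈
        (PrimeSpectrum.basicOpen f : Set (PrimeSpectrum A)) := by
      rw [← hr]; exact ⟨y, rfl⟩
    exact this
  · intro hx
    have : (Cone.pointed 𝒜).ι x ∈ (PrimeSpectrum.basicOpen f : Set (PrimeSpectrum A)) := hx
    rw [← hr] at this
    obtain ⟨y, hy⟩ := this
    refine ⟨y, ?_⟩
    apply (Cone.pointed 𝒜).ι.isOpenEmbedding.injective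
    rw [ι_chart_apply]
    exact hy

theorem cover_cone (hgen : (HomogeneousIdeal.irrelevant 𝒜).toIdeal = Ideal.span (𝒜 1 : Set A))
    (x : (Cone.pointed 𝒜).toScheme) : ∃ f, ∃ hf : f ∈ 𝒜 1, x ∈ (Cone.chart hf one_pos).opensRange := by
  by_contra hcon
  push Not at hcon
  have hx : (Cone.pointed 𝒜).ι x ∉
      PrimeSpectrum.zeroLocus ((HomogeneousIdeal.irrelevant 𝒜).toIdeal : Set A) := x.2
  apply hx
  refine (PrimeSpectrum.mem_zeroLocus _ _).mpr ?_
  rw [hgen, SetLike.coe_subset_coe, Ideal.span_le]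
  intro f hf
  have h1 := hcon f hf
  rw [mem_opensRange_chart_iff] at h1
  exact not_not.mp h1

variable {π : (Cone.pointed 𝒜 : Scheme.{u}) ⟶ Proj 𝒜}

/-- The chart condition. -/
def HC (π : (Cone.pointed 𝒜 : Scheme.{u}) ⟶ Proj 𝒜) : Prop :=
  ∀ (d : ℕ) (f : A) (hd : 0 < d) (hf : f ∈ 𝒜 d),
    Cone.chart hf hd ≫ π =
      Spec.map (CommRingCat.ofHom (algebraMap (Away 𝒜 f) (Localization.Away f))) ≫
        Proj.awayι 𝒜 f hf hd

theorem π_chart_apply (hπ : HC π) {d : ℕ} {f : A} (hf : f ∈ 𝒜 d) (hd : 0 < d)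
    (y : Spec (CommRingCat.of (Localization.Away f))) :
    π (Cone.chart hf hd y) = Proj.awayι 𝒜 f hf hd
      (Spec.map (CommRingCat.ofHom (algebraMap (Away 𝒜 f) (Localization.Away f))) y) := by
  have h1 : π (Cone.chart hf hd y) = (Cone.chart hf hd ≫ π) y := rfl
  rw [h1, hπ d f hd hf]
  rfl

theorem preimage_opensRange_cone
    (hgen : (HomogeneousIdeal.irrelevant 𝒜).toIdeal = Ideal.span (𝒜 1 : Set A)) (hπ : HC π)
    {e : ℕ} {f : A} (hf : f ∈ 𝒜 e) (he : 0 < e) :
    π ⁻¹ᵁ (Proj.awayι 𝒜 f hf he).opensRange = (Cone.chart hf he).opensRange := by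
  apply le_antisymm
  · intro x hx
    rw [mem_opensRange_chart_iff]
    have hx' : π x ∈ Proj.basicOpen 𝒜 f := by
      rw [← Proj.opensRange_awayι 𝒜 f hf he]; exact hx
    obtain ⟨g, hg, y, rfl⟩ := cover_cone hgen x
    rw [π_chart_apply hπ hg one_pos, awayι_mem_basicOpen_iff 𝒜 hg one_pos hf] at hx'
    rw [ι_chart_apply]
    intro hfy
    apply hx'
    -- `f^1/g^e = (f/1)^1 * (1/g^e)` lies in the prime
    show algebraMap (Away 𝒜 g) (Localization.Away g)
      (Away.mk 𝒜 hg e (f ^ 1) (pow_mem_smul 𝒜 hf)) ∈ y.asIdeal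
    have hfy' : algebraMap A (Localization.Away g) f ∈ y.asIdeal := hfy
    rw [HomogeneousLocalization.algebraMap_apply, Away.val_mk, Localization.mk_eq_mk',
      IsLocalization.mk'_eq_mul_mk'_one, pow_one]
    exact Ideal.mul_mem_right _ _ hfy'
  · rintro _ ⟨y, rfl⟩
    show π (Cone.chart hf he y) ∈ (Proj.awayι 𝒜 f hf he).opensRange
    rw [π_chart_apply hπ hf he]
    exact ⟨_, rfl⟩

/-- The pointed affine cone retraction: finite type, fibres are `G_m`. -/
theorem cone_result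
    (hgen : (HomogeneousIdeal.irrelevant 𝒜).toIdeal = Ideal.span (𝒜 1 : Set A))
    (hπ : ∀ (d : ℕ) (f : A) (hd : 0 < d) (hf : f ∈ 𝒜 d),
        Cone.chart hf hd ≫ π =
          Spec.map (CommRingCat.ofHom (algebraMap (HomogeneousLocalization.Away 𝒜 f)
            (Localization.Away f))) ≫ Proj.awayι 𝒜 f hf hd)
    (x : Proj 𝒜) :
    LocallyOfFiniteType π ∧ QuasiCompact π ∧
      ∃ e : pullback π ((Proj 𝒜).fromSpecResidueField x) ≅
          Spec (CommRingCat.of (LaurentPolynomial ((Proj 𝒜).residueField x))),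
        e.hom ≫ Spec.map (CommRingCat.ofHom (algebraMap ((Proj 𝒜).residueField x)
          (LaurentPolynomial ((Proj 𝒜).residueField x)))) =
            pullback.snd π ((Proj 𝒜).fromSpecResidueField x) := by
  have hπ' : HC π := hπ
  refine ⟨?_, ?_, ?_⟩
  · refine Groth.Agent.PConeGeo.locallyOfFiniteType_of_charts π (ι := {f : A // f ∈ 𝒜 1})
      (A0 := fun k => CommRingCat.of (Away 𝒜 k.1))
      (B0 := fun k => CommRingCat.of (Localization.Away k.1))
      (fun k => Cone.chart k.2 one_pos) (fun k => Proj.awayι 𝒜 k.1 k.2 one_pos)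
      (fun k => CommRingCat.ofHom (algebraMap (Away 𝒜 k.1) (Localization.Away k.1)))
      (fun k => hπ 1 k.1 one_pos k.2) ?_
      (fun k => finiteType_of_laurent_surjective _ (Groth.Agent.ConeAlg.uu k.1)
        (Groth.Agent.ConeAlg.laurent_bijective k.2).2)
    intro y
    obtain ⟨f, hf, hy⟩ := cover_cone hgen y
    exact ⟨⟨f, hf⟩, hy⟩
  · refine Groth.Agent.PConeGeo.quasiCompact_of_charts π (ι := {f : A // f ∈ 𝒜 1})
      (A0 := fun k => CommRingCat.of (Away 𝒜 k.1))
      (B0 := fun k => CommRingCat.of (Localization.Away k.1))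
      (fun k => Cone.chart k.2 one_pos) (fun k => Proj.awayι 𝒜 k.1 k.2 one_pos)
      (fun k => preimage_opensRange_cone hgen hπ' k.2 one_pos) ?_
    intro x
    obtain ⟨f, hf, hx⟩ := Groth.Agent.ProjPB.hcov_of_hgen hgen x
    refine ⟨⟨f, hf⟩, ?_⟩
    rw [Proj.opensRange_awayι]
    exact hx
  · obtain ⟨f, hf, hxf⟩ := Groth.Agent.ProjPB.hcov_of_hgen hgen x
    exact Groth.Agent.PConeGeo.fibre_iso_of_chart π (Cone.chart hf one_pos)
      (Proj.awayι 𝒜 f hf one_pos)
      (CommRingCat.ofHom (algebraMap (Away 𝒜 f) (Localization.Away f))) (hπ 1 f one_pos hf)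
      (preimage_opensRange_cone hgen hπ' hf one_pos) x
      (by rw [Proj.opensRange_awayι]; exact hxf)
      (CommRingCat.of (LaurentPolynomial ((Proj 𝒜).residueField x)))
      (CommRingCat.ofHom (algebraMap ((Proj 𝒜).residueField x)
        (LaurentPolynomial ((Proj 𝒜).residueField x))))
      (fun γ => isPushout_laurent _ (Groth.Agent.ConeAlg.uu f)
        (Groth.Agent.ConeAlg.laurent_bijective hf) γ.hom)

end Cone

end Groth.Agent.ConeGeo
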