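import Mathlib
import Groth.Prelude.Def_RelSpec2
import Groth.Agent.Lib.ConeImm8_helper5

/-!
# The pointed projective cone is the complement of the vertex section  (helper5)
-/

set_option autoImplicit false
universe u
open AlgebraicGeometry CategoryTheory CategoryTheory.Limits HomogeneousLocalization Opposite TopologicalSpace

namespace Groth.Agent.ConeImm

section
variable {Y PC : Scheme.{u}} {𝒮 𝒮h : RelProj.QCGrAlg Y}
  {ι : 𝒮.toQCAlg ⟶ 𝒮h.toQCAlg} {z : 𝒮h.presheaf.obj (op ⊤)} (hz : RelCone.IsPolyOver 𝒮 𝒮h ι z)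
  {pC : PC ⟶ Y}
  {chartC : ∀ (U : Y.Opens) (hU : IsAffineOpen U),
    (((pC ⁻¹ᵁ U : PC.Opens) : Scheme.{u}) ≅ Proj (𝒮h.deg U hU))}

theorem comp_pC (hPC : RelProj.IsRelProj 𝒮h pC chartC) (i : 𝒮.toQCAlg.spec ⟶ PC)
    (hi : RelCone.IsConeImm 𝒮 hz pC chartC i) : i ≫ pC = 𝒮.toQCAlg.π :=
  comp_p hPC (strC_cone 𝒮 𝒮h ι z (thz hz) (thz_spec hz)) i (chartMor_of_isConeImm hz i hi)

variable (aug : 𝒮.toQCAlg ⟶ RelSpec.QCAlg.unit Y)

theorem aug_str (U : Y.Opens) (r : Γ(Y, U)) :
    (aug.hom.app (op U)).hom ((𝒮.str.app (op U)).hom r) = r := by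
  have := congrArg (fun m => (m.app (op U)).hom r) aug.comm
  exact this

variable {aug}

theorem irrelevant_le_ker (haug : RelCone.IsAugmentation 𝒮 aug) (U : Y.Opens)
    (hU : IsAffineOpen U) :
    (HomogeneousIdeal.irrelevant (𝒮.deg U hU)).toIdeal ≤ RingHom.ker (aug.hom.app (op U)).hom := by
  rw [HomogeneousIdeal.toIdeal_irrelevant_le]
  intro d hd f hf
  obtain ⟨e, rfl⟩ := Nat.exists_eq_succ_of_ne_zero hd.ne'
  exact haug U hU e f hf

theorem ker_le_irrelevant (h0 : RelCone.StrZeroBij 𝒮) (haug : RelCone.IsAugmentation 𝒮 aug)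
    (U : Y.Opens) (hU : IsAffineOpen U) :
    RingHom.ker (aug.hom.app (op U)).hom ≤ (HomogeneousIdeal.irrelevant (𝒮.deg U hU)).toIdeal := by
  classical
  intro a ha
  rw [RingHom.mem_ker] at ha
  set a0 : 𝒮.presheaf.obj (op U) := ((DirectSum.decompose (𝒮.deg U hU) a 0 : 𝒮.deg U hU 0) :
    𝒮.presheaf.obj (op U)) with ha0
  have hirr : a - a0 ∈ (HomogeneousIdeal.irrelevant (𝒮.deg U hU)).toIdeal := by
    show a - a0 ∈ HomogeneousIdeal.irrelevant (𝒮.deg U hU)
    rw [HomogeneousIdeal.mem_irrelevant_iff, GradedRing.proj_apply, DirectSum.decompose_sub,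
      DirectSum.sub_apply, AddSubgroupClass.coe_sub, ha0,
      DirectSum.decompose_coe, DirectSum.of_eq_same, sub_self]
  have h1 : (aug.hom.app (op U)).hom (a - a0) = 0 := irrelevant_le_ker haug U hU hirr
  have h2 : (aug.hom.app (op U)).hom a0 = 0 := by
    rw [map_sub, ha, zero_sub, neg_eq_zero] at h1; exact h1
  obtain ⟨r, hr⟩ := (h0 U hU).2 (DirectSum.decompose (𝒮.deg U hU) a 0)
  have hr' : (𝒮.str.app (op U)).hom r = a0 := by
    rw [ha0, ← hr]; rfl
  rw [← hr', aug_str] at h2
  have hr0 : a0 = 0 := by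
    rw [← hr']
    have : (𝒮.str.app (op U)).hom r = (𝒮.str.app (op U)).hom 0 := congrArg _ h2
    rw [this, map_zero]
  rw [hr0, sub_zero] at hirr
  exact hirr

/-- A prime of `𝒮(U)` containing the irrelevant ideal comes from a point of `U` through the augmentation. -/
theorem exists_of_irrelevant_le (h0 : RelCone.StrZeroBij 𝒮) (haug : RelCone.IsAugmentation 𝒮 aug)
    (U : Y.Opens) (hU : IsAffineOpen U) (c : Spec (𝒮.presheaf.obj (op U)))
    (hc : (HomogeneousIdeal.irrelevant (𝒮.deg U hU)).toIdeal ≤ c.asIdeal) :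
    ∃ s' : Spec Γ(Y, U), (Spec.map (aug.hom.app (op U))).base s' = c := by
  have hsurj : Function.Surjective (aug.hom.app (op U)).hom := fun r =>
    ⟨(𝒮.str.app (op U)).hom r, aug_str aug U r⟩
  have hmem : (show PrimeSpectrum (𝒮.presheaf.obj (op U)) from c) ∈
      Set.range (PrimeSpectrum.comap (aug.hom.app (op U)).hom) := by
    rw [range_comap_of_surjective _ _ hsurj, PrimeSpectrum.mem_zeroLocus]
    exact fun a ha => hc (ker_le_irrelevant h0 haug U hU ha)
  obtain ⟨s', hs'⟩ := hmem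
  exact ⟨s', hs'⟩

theorem irrelevant_le_of_aug (haug : RelCone.IsAugmentation 𝒮 aug) (U : Y.Opens)
    (hU : IsAffineOpen U) (s' : Spec Γ(Y, U)) :
    (HomogeneousIdeal.irrelevant (𝒮.deg U hU)).toIdeal ≤
      ((Spec.map (aug.hom.app (op U))).base s').asIdeal := by
  intro f hf
  have h1 := irrelevant_le_ker haug U hU hf
  rw [RingHom.mem_ker] at h1
  show (aug.hom.app (op U)).hom f ∈ s'.asIdeal
  rw [h1]
  exact Ideal.zero_mem _

/-- The pointed projective cone is the complement of the image of the vertex section. -/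
theorem pointedProjCone_eq_compl (h0 : RelCone.StrZeroBij 𝒮)
    (hPC : RelProj.IsRelProj 𝒮h pC chartC) (haug : RelCone.IsAugmentation 𝒮 aug)
    (ε : Y ⟶ 𝒮.toQCAlg.spec) (hε : RelCone.IsVertex 𝒮 aug ε)
    (i : 𝒮.toQCAlg.spec ⟶ PC) (hi : RelCone.IsConeImm 𝒮 hz pC chartC i) :
    ((RelCone.pointedProjCone 𝒮 hz pC chartC : PC.Opens) : Set PC) =
      (Set.range (ε ≫ i).base)ᶜ := by
  ext x
  obtain ⟨_, ⟨U, hU : IsAffineOpen U, rfl⟩, hxU, -⟩ :=
    (Y.isBasis_affineOpens).exists_subset_of_mem_open (Set.mem_univ (pC.base x)) isOpen_univ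
  have hx : x ∈ pC ⁻¹ᵁ U := hxU
  set y := Groth.Agent.RelProjTN.zpt pC chartC U hU x hx with hy
  have hembd : (RelProj.emb pC chartC U hU).base y = x :=
    Groth.Agent.RelProjTN.emb_zpt U hU x hx
  have hA : x ∈ RelCone.pointedProjCone 𝒮 hz pC chartC ↔
      y ∈ RelCone.domOpen (RelProj.gradedHomAt ι hz.graded U hU) := by
    constructor
    · intro h
      have hmem : x ∈ RelCone.pointedProjCone 𝒮 hz pC chartC ⊓ pC ⁻¹ᵁ U := ⟨h, hx⟩
      rw [pointedProjCone_inf hz hPC U hU] at hmem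
      obtain ⟨y', hy', hxy'⟩ := hmem
      have : y' = y := by
        apply (RelProj.emb pC chartC U hU).isOpenEmbedding.injective
        rw [hembd]; exact hxy'
      rw [← this]; exact hy'
    · intro h
      have hmem : x ∈ RelProj.emb pC chartC U hU ''ᵁ
          RelCone.domOpen (RelProj.gradedHomAt ι hz.graded U hU) := ⟨y, h, hembd⟩
      rw [← pointedProjCone_inf hz hPC U hU] at hmem
      exact hmem.1
  have hip := comp_pC hz hPC i hi
  have hB : x ∈ Set.range (ε ≫ i).base ↔
      y ∉ RelCone.domOpen (RelProj.gradedHomAt ι hz.graded U hU) := by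
    constructor
    · rintro ⟨s, hs⟩
      have hs1 : (ε ≫ i ≫ pC).base s = pC.base x := by rw [← hs]; rfl
      rw [hip, hε.comp_π] at hs1
      have hsU : s ∈ U := by
        have : pC.base x ∈ U := hx
        rw [← hs1] at this; exact this
      have hrange : s ∈ Set.range hU.fromSpec.base := by
        rw [hU.range_fromSpec]; exact hsU
      obtain ⟨s', rfl⟩ := hrange
      have h1 : ε.base (hU.fromSpec.base s') =
          (𝒮.toQCAlg.ι U hU).base ((Spec.map (aug.hom.app (op U))).base s') := by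
        have := congrArg (fun m => m.base s') (hε.chart U hU)
        exact this
      have h2 : x = (RelProj.emb pC chartC U hU).base
          (ptOf hz U hU ((Spec.map (aug.hom.app (op U))).base s')) := by
        rw [← i_ι_apply hz i hi U hU, ← h1, ← hs]; rfl
      have h3 : y = ptOf hz U hU ((Spec.map (aug.hom.app (op U))).base s') := by
        apply (RelProj.emb pC chartC U hU).isOpenEmbedding.injective
        rw [hembd]; exact h2
      rw [h3, ptOf_mem_domOpen_iff, not_not]
      exact irrelevant_le_of_aug haug U hU s'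
    · intro hy'
      obtain ⟨c, hc⟩ := exists_ptOf hz U hU y (mem_basicOpen_z_of_not_mem_domOpen hz U hU y hy')
      rw [← hc, ptOf_mem_domOpen_iff, not_not] at hy'
      obtain ⟨s', hs'⟩ := exists_of_irrelevant_le h0 haug U hU c hy'
      refine ⟨hU.fromSpec.base s', ?_⟩
      have h1 : ε.base (hU.fromSpec.base s') =
          (𝒮.toQCAlg.ι U hU).base ((Spec.map (aug.hom.app (op U))).base s') := by
        have := congrArg (fun m => m.base s') (hε.chart U hU)
        exact this
      show i.base (ε.base (hU.fromSpec.base s')) = x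
      rw [h1, hs', i_ι_apply hz i hi U hU, hc, hembd]
  show x ∈ RelCone.pointedProjCone 𝒮 hz pC chartC ↔ x ∉ Set.range (ε ≫ i).base
  rw [hA, hB, not_not]

end

end Groth.Agent.ConeImm
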