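import Mathlib
import Groth.Prelude.Def_RelSpec2
import Groth.Agent.Lib.ConeImm9_helper5
import Groth.Agent.Lib.ConeImm11_helper5

/-!
# The pointed affine cone is the complement of the vertex section  (helper5)
-/

set_option autoImplicit false
universe u
open AlgebraicGeometry CategoryTheory CategoryTheory.Limits Opposite TopologicalSpace
open scoped HomogeneousIdeal

namespace Groth.Agent.ConeImm

section
variable {Y : Scheme.{u}} {𝒮 : RelProj.QCGrAlg Y} {aug : 𝒮.toQCAlg ⟶ RelSpec.QCAlg.unit Y}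

/-- Membership in the vertex section, read in the chart over `U`. -/
theorem mem_range_vertex_iff (h0 : RelCone.StrZeroBij 𝒮) (haug : RelCone.IsAugmentation 𝒮 aug)
    (ε : Y ⟶ 𝒮.toQCAlg.spec) (hε : RelCone.IsVertex 𝒮 aug ε) (U : Y.Opens) (hU : IsAffineOpen U)
    (d : Spec (𝒮.presheaf.obj (op U))) :
    (𝒮.toQCAlg.ι U hU).base d ∈ Set.range ε.base ↔ ((𝒮.deg U hU)₊).toIdeal ≤ d.asIdeal := by
  constructor
  · rintro ⟨t, ht⟩
    have ht1 : (ε ≫ 𝒮.toQCAlg.π).base t = 𝒮.toQCAlg.π.base ((𝒮.toQCAlg.ι U hU).base d) := by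
      rw [← ht]; rfl
    rw [hε.comp_π] at ht1
    have htU : t ∈ U := by
      have := π_ι_mem 𝒮 U hU d
      rw [← ht1] at this; exact this
    have hrange : t ∈ Set.range hU.fromSpec.base := by
      rw [hU.range_fromSpec]; exact htU
    obtain ⟨t', rfl⟩ := hrange
    have h1 : ε.base (hU.fromSpec.base t') =
        (𝒮.toQCAlg.ι U hU).base ((Spec.map (aug.hom.app (op U))).base t') := by
      have := congrArg (fun m => m.base t') (hε.chart U hU)
      exact this
    have h2 : d = (Spec.map (aug.hom.app (op U))).base t' := by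
      apply ι_injective 𝒮 U hU
      rw [← h1, ht]
    rw [h2]
    exact irrelevant_le_of_aug haug U hU t'
  · intro hle
    obtain ⟨t', ht'⟩ := exists_of_irrelevant_le h0 haug U hU d hle
    refine ⟨hU.fromSpec.base t', ?_⟩
    have h1 : ε.base (hU.fromSpec.base t') =
        (𝒮.toQCAlg.ι U hU).base ((Spec.map (aug.hom.app (op U))).base t') := by
      have := congrArg (fun m => m.base t') (hε.chart U hU)
      exact this
    rw [h1, ht']

theorem exists_chart_spec (c : 𝒮.toQCAlg.spec) :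
    ∃ (U : Y.Opens) (hU : IsAffineOpen U) (d : Spec (𝒮.presheaf.obj (op U))),
      (𝒮.toQCAlg.ι U hU).base d = c := by
  obtain ⟨_, ⟨U, hU : IsAffineOpen U, rfl⟩, hxU, -⟩ :=
    (Y.isBasis_affineOpens).exists_subset_of_mem_open (Set.mem_univ (𝒮.toQCAlg.π.base c)) isOpen_univ
  have hc : c ∈ 𝒮.toQCAlg.π ⁻¹ᵁ U := hxU
  rw [𝒮.toQCAlg.π_preimage U hU] at hc
  obtain ⟨d, hd⟩ := hc
  exact ⟨U, hU, d, hd⟩

theorem pointedCone_eq_compl (h0 : RelCone.StrZeroBij 𝒮) (haug : RelCone.IsAugmentation 𝒮 aug)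
    (ε : Y ⟶ 𝒮.toQCAlg.spec) (hε : RelCone.IsVertex 𝒮 aug ε) :
    ((RelCone.pointedCone 𝒮 : 𝒮.toQCAlg.spec.Opens) : Set 𝒮.toQCAlg.spec) =
      (Set.range ε.base)ᶜ := by
  ext c
  obtain ⟨U, hU, d, rfl⟩ := exists_chart_spec (𝒮 := 𝒮) c
  show (𝒮.toQCAlg.ι U hU).base d ∈ RelCone.pointedCone 𝒮 ↔ _
  rw [Set.mem_compl_iff, mem_pointedCone_iff, mem_range_vertex_iff h0 haug ε hε]

end

end Groth.Agent.ConeImm
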