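import Mathlib
import Groth.Prelude.Def_RelSpec2
import Groth.Agent.Lib.ConeImm13_helper5

/-!
# `Proj(φ)` everywhere defined iff `Φ⁻¹(E) = E'`  (helper5)
-/

set_option autoImplicit false
universe u
open AlgebraicGeometry CategoryTheory CategoryTheory.Limits Opposite TopologicalSpace
open scoped HomogeneousIdeal

namespace Groth.Agent.ConeImm

section
variable {Y Y' : Scheme.{u}} (q : Y' ⟶ Y) (𝒮 : RelProj.QCGrAlg Y) (𝒮' : RelProj.QCGrAlg Y')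
  (u : 𝒮.presheaf ⟶ q.base _* 𝒮'.presheaf)
  (φ : ∀ (U : Y.Opens) (hU : IsAffineOpen U) (U' : Y'.Opens) (hU' : IsAffineOpen U')
    (_ : U' ≤ q ⁻¹ᵁ U), 𝒮.deg U hU →+*ᵍ 𝒮'.deg U' hU')
  (hφ : ∀ (U : Y.Opens) (hU : IsAffineOpen U) (U' : Y'.Opens) (hU' : IsAffineOpen U')
    (hle : U' ≤ q ⁻¹ᵁ U),
    (φ U hU U' hU' hle).toRingHom =
      ((u.app (op U) : 𝒮.presheaf.obj (op U) ⟶ 𝒮'.presheaf.obj (op (q ⁻¹ᵁ U))) ≫
        𝒮'.presheaf.map (homOfLE hle).op).hom)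
  (Φ : 𝒮'.toQCAlg.spec ⟶ 𝒮.toQCAlg.spec)
  (hΦ : ∀ (U : Y.Opens) (hU : IsAffineOpen U) (U' : Y'.Opens) (hU' : IsAffineOpen U')
    (hle : U' ≤ q ⁻¹ᵁ U),
    𝒮'.toQCAlg.ι U' hU' ≫ Φ =
      Spec.map ((u.app (op U) : 𝒮.presheaf.obj (op U) ⟶ 𝒮'.presheaf.obj (op (q ⁻¹ᵁ U))) ≫
        𝒮'.presheaf.map (homOfLE hle).op) ≫ 𝒮.toQCAlg.ι U hU)

include hφ hΦ in
theorem domOpen_eq_top_iff :
    (∀ (U : Y.Opens) (hU : IsAffineOpen U) (U' : Y'.Opens) (hU' : IsAffineOpen U')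
        (hle : U' ≤ q ⁻¹ᵁ U), RelCone.domOpen (φ U hU U' hU' hle) = ⊤) ↔
      Φ ⁻¹ᵁ RelCone.pointedCone 𝒮 = RelCone.pointedCone 𝒮' := by
  classical
  constructor
  · intro hdom
    apply le_antisymm (preimage_pointedCone_le q 𝒮 𝒮' u φ hφ Φ hΦ)
    intro c' hc'
    obtain ⟨U, hU, U', hU', hle, d', rfl⟩ := exists_chart_pair q 𝒮' c'
    rw [mem_pointedCone_iff] at hc'
    show Φ.base ((𝒮'.toQCAlg.ι U' hU').base d') ∈ RelCone.pointedCone 𝒮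
    rw [Φ_mem_pointedCone_iff q 𝒮 𝒮' u φ hφ Φ hΦ U hU U' hU' hle d']
    -- the homogeneous core of `d'`
    have hprime : (d'.asIdeal.homogeneousCore (𝒮'.deg U' hU')).toIdeal.IsPrime :=
      Ideal.IsPrime.homogeneousCore d'.isPrime
    have hnot : ¬ (𝒮'.deg U' hU')₊ ≤ d'.asIdeal.homogeneousCore (𝒮'.deg U' hU') := by
      intro hle'
      apply hc'
      exact ((Ideal.homogeneousCore.gc (𝒮'.deg U' hU')) _ _).mpr hle'
    let P : Proj (𝒮'.deg U' hU') := ⟨d'.asIdeal.homogeneousCore (𝒮'.deg U' hU'), hprime, hnot⟩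
    have hP : P ∈ RelCone.domOpen (φ U hU U' hU' hle) := by
      rw [hdom U hU U' hU' hle]; trivial
    obtain ⟨k, hk, f, hf, hfP⟩ :=
      Groth.Agent.RelProjTN.exists_homogeneous_of_mem_domOpen _ P hP
    refine ⟨k, hk, f, hf, fun hfd => ?_⟩
    apply (Proj.mem_basicOpen _ _ _).mp hfP
    exact Ideal.mem_homogeneousCore_of_homogeneous_of_mem
      ⟨k, (φ U hU U' hU' hle).map_mem hf⟩ hfd
  · intro heq U hU U' hU' hle
    rw [eq_top_iff]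
    intro P _
    let d' : Spec (𝒮'.presheaf.obj (op U')) := ⟨P.asHomogeneousIdeal.toIdeal, P.isPrime⟩
    have hd' : (𝒮'.toQCAlg.ι U' hU').base d' ∈ RelCone.pointedCone 𝒮' := by
      rw [mem_pointedCone_iff]
      exact P.not_irrelevant_le
    rw [← heq] at hd'
    have h1 : Φ.base ((𝒮'.toQCAlg.ι U' hU').base d') ∈ RelCone.pointedCone 𝒮 := hd'
    rw [Φ_mem_pointedCone_iff q 𝒮 𝒮' u φ hφ Φ hΦ U hU U' hU' hle d'] at h1
    obtain ⟨k, hk, f, hf, hfd⟩ := h1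
    exact Groth.Agent.RelProjTN.mem_domOpen_of_mem_basicOpen _ hk hf P
      ((Proj.mem_basicOpen _ _ _).mpr hfd)

end

end Groth.Agent.ConeImm
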