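import Mathlib
import Groth.Prelude.Def_RelSpec2
import Groth.Agent.Lib.RelProj_helper3
import Groth.Agent.Lib.RelProjTN2_helper5
import Groth.Agent.Lib.ConeImm9_helper5

/-!
# The vertex section of the affine cone  (helper5)
-/

set_option autoImplicit false
universe u
open AlgebraicGeometry CategoryTheory CategoryTheory.Limits Opposite TopologicalSpace

namespace Groth.Agent.ConeImm

/-- A target-local property holds for `f` if it holds for its base changes along a jointly surjective family of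
open immersions, presented by arbitrary pullback squares. -/
theorem of_isPullback_openImm (Q : MorphismProperty Scheme.{u}) [IsZariskiLocalAtTarget Q]
    {X Z : Scheme.{u}} (f : X ⟶ Z) {ι : Type*} (V : ι → Scheme.{u}) (k : ∀ i, V i ⟶ Z)
    [∀ i, IsOpenImmersion (k i)] (hV : ⨆ i, (k i).opensRange = ⊤) (W : ι → Scheme.{u})
    (g : ∀ i, W i ⟶ V i) (j : ∀ i, W i ⟶ X) (hpb : ∀ i, IsPullback (g i) (j i) (k i) f)
    (H : ∀ i, Q (g i)) : Q f := by
  refine Groth.Agent.Lib.RelProj_helper3.of_isPullback_cover Q f (fun i => (k i).opensRange) hV W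
    (fun i => g i ≫ (k i).isoOpensRange.hom) j (fun i => ?_) (fun i => ?_)
  · exact (hpb i).of_iso (Iso.refl _) ((k i).isoOpensRange) (Iso.refl _) (Iso.refl _)
      (by simp) (by simp) (by simp) (by simp)
  · rw [Q.cancel_right_of_respectsIso]
    exact H i

section
variable {Y : Scheme.{u}}

theorem unit_ι_π (U : Y.Opens) (hU : IsAffineOpen U) :
    (RelSpec.QCAlg.unit Y).ι U hU ≫ (RelSpec.QCAlg.unit Y).π = hU.fromSpec := by
  rw [RelSpec.QCAlg.ι_π]
  show Spec.map (𝟙 _) ≫ hU.fromSpec = hU.fromSpec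
  rw [Spec.map_id, Category.id_comp]

instance isIso_unit_π : IsIso (RelSpec.QCAlg.unit Y).π := by
  refine Groth.Agent.Lib.RelProj_helper3.of_isPullback_cover
    (MorphismProperty.isomorphisms Scheme.{u}) (RelSpec.QCAlg.unit Y).π
    (fun U : Y.affineOpens => (U : Y.Opens)) (iSup_affineOpens_eq_top Y)
    (fun U => Spec ((RelSpec.QCAlg.unit Y).presheaf.obj (op U.1))) (fun U => U.2.isoSpec.inv)
    (fun U => (RelSpec.QCAlg.unit Y).ι U.1 U.2) (fun U => ?_) (fun U => ?_)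
  · obtain ⟨U, hU⟩ := U
    have hU' : IsAffineOpen U := hU
    haveI : IsOpenImmersion ((RelSpec.QCAlg.unit Y).ι U hU') := inferInstance
    refine IsOpenImmersion.isPullback _ ((RelSpec.QCAlg.unit Y).ι U hU') U.ι
      (RelSpec.QCAlg.unit Y).π ?_ ?_
    · rw [unit_ι_π]; rfl
    · rw [Scheme.Opens.opensRange_ι, (RelSpec.QCAlg.unit Y).π_preimage U hU']
  · exact (inferInstance : IsIso U.2.isoSpec.inv)

variable {𝒮 : RelProj.QCGrAlg Y} (aug : 𝒮.toQCAlg ⟶ RelSpec.QCAlg.unit Y)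

/-- The vertex section. -/
noncomputable def vertex : Y ⟶ 𝒮.toQCAlg.spec :=
  inv (RelSpec.QCAlg.unit Y).π ≫ RelSpec.QCAlg.specMap aug

theorem isVertex_vertex : RelCone.IsVertex 𝒮 aug (vertex aug) where
  comp_π := by
    unfold vertex
    rw [Category.assoc, RelSpec.QCAlg.specMap_π, IsIso.inv_hom_id]
  chart := fun U hU => by
    unfold vertex
    have h1 : hU.fromSpec ≫ inv (RelSpec.QCAlg.unit Y).π = (RelSpec.QCAlg.unit Y).ι U hU :=
      (IsIso.comp_inv_eq _).mpr (unit_ι_π U hU).symm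
    rw [← Category.assoc, h1]
    exact RelSpec.QCAlg.ι_specMap U hU aug

variable {aug}

theorem vertex_unique (ε ε' : Y ⟶ 𝒮.toQCAlg.spec) (hε : RelCone.IsVertex 𝒮 aug ε)
    (hε' : RelCone.IsVertex 𝒮 aug ε') : ε = ε' := by
  apply Groth.Agent.RelProjTN.hom_ext_of_charts
  intro y
  obtain ⟨_, ⟨U, hU : IsAffineOpen U, rfl⟩, hyU, -⟩ :=
    (Y.isBasis_affineOpens).exists_subset_of_mem_open (Set.mem_univ y) isOpen_univ
  refine ⟨_, hU.fromSpec, inferInstance, ?_, ?_⟩
  · rw [hU.range_fromSpec]; exact hyU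
  · rw [hε.chart U hU, hε'.chart U hU]

theorem isClosedImmersion_vertex (ε : Y ⟶ 𝒮.toQCAlg.spec) (hε : RelCone.IsVertex 𝒮 aug ε) :
    IsClosedImmersion ε := by
  refine of_isPullback_openImm @IsClosedImmersion ε
    (fun U : Y.affineOpens => Spec (𝒮.presheaf.obj (op U.1)))
    (fun U => 𝒮.toQCAlg.ι U.1 U.2) ?_
    (fun U => Spec Γ(Y, U.1)) (fun U => Spec.map (aug.hom.app (op U.1)))
    (fun U => U.2.fromSpec) (fun U => ?_) (fun U => ?_)
  · rw [eq_top_iff]
    intro c _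
    obtain ⟨_, ⟨U, hU : IsAffineOpen U, rfl⟩, hxU, -⟩ :=
      (Y.isBasis_affineOpens).exists_subset_of_mem_open
        (Set.mem_univ (𝒮.toQCAlg.π.base c)) isOpen_univ
    have hc : c ∈ 𝒮.toQCAlg.π ⁻¹ᵁ U := hxU
    rw [𝒮.toQCAlg.π_preimage U hU] at hc
    exact Opens.mem_iSup.mpr ⟨⟨U, hU⟩, hc⟩
  · refine IsOpenImmersion.isPullback _ _ _ _ (hε.chart U.1 U.2) ?_
    rw [← 𝒮.toQCAlg.π_preimage U.1 U.2, ← Scheme.Hom.comp_preimage, hε.comp_π,
      U.2.opensRange_fromSpec]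
    rfl
  · apply IsClosedImmersion.spec_of_surjective
    intro r
    exact ⟨(𝒮.str.app (op U.1)).hom r, aug_str aug U.1 r⟩

theorem vertex_main :
    (∃! ε : Y ⟶ 𝒮.toQCAlg.spec, RelCone.IsVertex 𝒮 aug ε) ∧
      ∀ ε : Y ⟶ 𝒮.toQCAlg.spec, RelCone.IsVertex 𝒮 aug ε → IsClosedImmersion ε :=
  ⟨⟨vertex aug, isVertex_vertex aug, fun ε' hε' => vertex_unique ε' _ hε' (isVertex_vertex aug)⟩,
    fun ε hε => isClosedImmersion_vertex ε hε⟩

end

end Groth.Agent.ConeImm
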