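import Mathlib
import Groth.Prelude.Def_RelProj2
import Groth.Agent.Lib.ConeImm1_helper5
import Groth.Agent.Lib.ConeImm2_helper5

/-!
# `Proj(𝒜[T]) ≅ Spec(𝒜)`  (helper5)
-/

set_option autoImplicit false
universe u
open AlgebraicGeometry CategoryTheory CategoryTheory.Limits HomogeneousLocalization Opposite TopologicalSpace

namespace Groth.Agent.ConeImm

section
variable {Y P : Scheme.{u}} (𝒜 : RelSpec.QCAlg Y) (Sh : RelProj.QCGrAlg Y)
  (ι : 𝒜 ⟶ Sh.toQCAlg)
  (hι : ∀ (U : Y.Opens) (hU : IsAffineOpen U) (a : 𝒜.presheaf.obj (op U)),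
    (ι.hom.app (op U)).hom a ∈ Sh.deg U hU 0)
  (z : Sh.presheaf.obj (op ⊤))
  (hz : ∀ (U : Y.Opens) (hU : IsAffineOpen U),
    (Sh.presheaf.map (homOfLE le_top).op).hom z ∈ Sh.deg U hU 1)
  (hpoly : ∀ (U : Y.Opens) (hU : IsAffineOpen U),
    Function.Bijective (Polynomial.eval₂RingHom (ι.hom.app (op U)).hom
      ((Sh.presheaf.map (homOfLE le_top).op).hom z)))
  (p : P ⟶ Y)
  (chart : ∀ (U : Y.Opens) (hU : IsAffineOpen U),
    (((p ⁻¹ᵁ U : P.Opens) : Scheme.{u}) ≅ Proj (Sh.deg U hU)))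
  (θ : ∀ (U : Y.Opens) (hU : IsAffineOpen U),
    CommRingCat.of (HomogeneousLocalization.Away (Sh.deg U hU)
      ((Sh.presheaf.map (homOfLE le_top).op).hom z)) ⟶ 𝒜.presheaf.obj (op U))
  (hθ : ∀ (U : Y.Opens) (hU : IsAffineOpen U)
    (q : HomogeneousLocalization.Away (Sh.deg U hU) ((Sh.presheaf.map (homOfLE le_top).op).hom z))
    (k : ℕ) (a : 𝒜.presheaf.obj (op U)),
      q.val = Localization.mk ((ι.hom.app (op U)).hom a * (Sh.presheaf.map (homOfLE le_top).op).hom z ^ k)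
        ⟨(Sh.presheaf.map (homOfLE le_top).op).hom z ^ k,
          pow_mem (Submonoid.mem_powers ((Sh.presheaf.map (homOfLE le_top).op).hom z)) k⟩ →
      (θ U hU).hom q = a)

include hι hz hpoly hθ in
theorem natB_poly : NatB 𝒜 Sh z θ := by
  intro U hU r
  ext q
  obtain ⟨n, s, hs, rfl⟩ := Away.mk_surjective _ (hz U hU) q
  obtain ⟨a, ha⟩ := exists_of_mem_deg (Sh.deg U hU) (ι.hom.app (op U)).hom _ (hι U hU) (hz U hU)
    (hpoly U hU) _ s hs
  have ha' : s = (ι.hom.app (op U)).hom a * (zU Sh z U) ^ n := by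
    rw [ha]; simp only [smul_eq_mul, mul_one]
  subst ha'
  have h1 : (θ U hU).hom (Away.mk (Sh.deg U hU) (hz U hU) n _ hs) = a := by
    apply hθ U hU _ n a
    rw [Away.val_mk]
  rw [CommRingCat.comp_apply, CommRingCat.comp_apply, h1]
  symm
  have h2 : (CommRingCat.ofHom (awayMapTo (Sh.res hU (hU.basicOpen r) (Y.basicOpen_le r)) (zU Sh z U)
      (zU Sh z (Y.basicOpen r)) (res_zU Sh z hU (hU.basicOpen r) (Y.basicOpen_le r)))).hom
      (Away.mk (Sh.deg U hU) (hz U hU) n _ hs) = _ :=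
    awayMapTo_mk _ _ _ (res_zU Sh z hU (hU.basicOpen r) (Y.basicOpen_le r)) (hz U hU)
      (hz _ (hU.basicOpen r)) n _ hs
  rw [h2]
  apply hθ _ (hU.basicOpen r) _ n
  rw [Away.val_mk]
  congr 1
  rw [map_mul, map_pow, res_zU]
  congr 1
  have := congrArg (fun m => m.hom a) (ι.hom.naturality (homOfLE (Y.basicOpen_le r)).op)
  simp only [CommRingCat.hom_comp, RingHom.comp_apply] at this
  exact this.symm

include hθ in
theorem strC_poly : StrC 𝒜 Sh z θ := by
  intro U hU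
  ext r
  rw [CommRingCat.comp_apply, CommRingCat.comp_apply]
  apply hθ U hU _ 0 ((𝒜.str.app (op U)).hom r)
  have hc : (ι.hom.app (op U)).hom ((𝒜.str.app (op U)).hom r) = (Sh.str.app (op U)).hom r := by
    have := congrArg (fun m => (m.app (op U)).hom r) ι.comm
    simpa using this
  rw [hc]
  show (fromZeroRingHom (Sh.deg U hU) _ ((Sh.strZero U hU).hom r)).val = _
  unfold fromZeroRingHom
  simp only [RingHom.coe_mk, MonoidHom.coe_mk, OneHom.coe_mk, HomogeneousLocalization.val_mk]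
  rw [Localization.mk_eq_mk_iff, Localization.r_iff_exists]
  refine ⟨1, ?_⟩
  simp only [OneMemClass.coe_one, one_mul, pow_zero, mul_one]
  rw [RelProj.QCGrAlg.strZero_apply_coe]
  simp

include hι hz hpoly hθ in
theorem theta_bij (U : Y.Opens) (hU : IsAffineOpen U) : Function.Bijective (θ U hU).hom :=
  theta_bijective (Sh.deg U hU) (ι.hom.app (op U)).hom _ (hι U hU) (hz U hU) (hpoly U hU)
    (θ U hU).hom (hθ U hU)

include hι hpoly hθ in
theorem isIso_chartLoc (U : Y.Opens) (hU : IsAffineOpen U) :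
    IsIso (chartLoc (𝒜 := 𝒜) (hz := hz) (θ := θ) U hU) := by
  unfold chartLoc
  have h1 : IsIso (θ U hU) := by
    have : IsIso ((forget CommRingCat).map (θ U hU)) :=
      (isIso_iff_bijective _).mpr (theta_bij 𝒜 Sh ι hι z hz hpoly θ hθ U hU)
    exact isIso_of_reflects_iso (θ U hU) (forget CommRingCat)
  have h2 : IsIso (Proj.awayι (Sh.deg U hU) (zU Sh z U) (hz U hU) one_pos) := by
    apply isIso_of_isOpenImmersion_of_opensRange_eq_top
    rw [Proj.opensRange_awayι]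
    exact basicOpen_eq_top (Sh.deg U hU) (ι.hom.app (op U)).hom _ (hι U hU) (hz U hU) (hpoly U hU)
  infer_instance

include hι hpoly hθ in
/-- `Proj(𝒜[T]) ≅ Spec(𝒜)`. -/
theorem main (hP : RelProj.IsRelProj Sh p chart) :
    (∃! i : 𝒜.spec ⟶ P, ∀ (U : Y.Opens) (hU : IsAffineOpen U),
        𝒜.ι U hU ≫ i = chartMor 𝒜 Sh z hz p chart θ U hU) ∧
      ∀ i : 𝒜.spec ⟶ P, (∀ (U : Y.Opens) (hU : IsAffineOpen U),
        𝒜.ι U hU ≫ i = chartMor 𝒜 Sh z hz p chart θ U hU) → IsIso i ∧ i ≫ p = 𝒜.π := by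
  have hN := natB_poly 𝒜 Sh ι hι z hz hpoly θ hθ
  have hS := strC_poly 𝒜 Sh ι z θ hθ
  refine ⟨existsUnique_glue hP hN, fun i hi => ⟨?_, comp_p hP hS i hi⟩⟩
  exact of_chartLoc (MorphismProperty.isomorphisms Scheme.{u}) hP hS i hi
    (fun U hU => isIso_chartLoc 𝒜 Sh ι hι z hz hpoly θ hθ U hU)

end

end Groth.Agent.ConeImm
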