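import Groth.Prelude.Def_PCone
import Groth.Agent.Lib.ProjMap_helper3

/-! The partially defined morphism `G(φ) ⟶ Proj 𝒜` induced by a graded ring homomorphism `φ : 𝒜 →+*ᵍ ℬ`. -/

universe u
open AlgebraicGeometry CategoryTheory CategoryTheory.Limits HomogeneousLocalization TopologicalSpace

namespace Groth.Agent.Lib.PConeMap_helper3

section General
variable {A σ : Type u} [CommRing A] [SetLike σ A] [AddSubgroupClass σ A] (𝒜 : ℕ → σ) [GradedRing 𝒜]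

theorem exists_homogeneous_mem_basicOpen (x : Proj 𝒜) :
    ∃ (d : ℕ) (f : A), 0 < d ∧ f ∈ 𝒜 d ∧ x ∈ Proj.basicOpen 𝒜 f := by
  have hx' : ¬ (HomogeneousIdeal.irrelevant 𝒜 ≤ x.asHomogeneousIdeal) := x.not_irrelevant_le
  rw [SetLike.not_le_iff_exists] at hx'
  obtain ⟨h, hh, hhx⟩ := hx'
  have hxh : x ∈ Proj.basicOpen 𝒜 h := hhx
  rw [Proj.basicOpen_eq_iSup_proj, Opens.mem_iSup] at hxh
  obtain ⟨i, hi⟩ := hxh
  refine ⟨i, GradedRing.proj 𝒜 i h, ?_, ?_, hi⟩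
  · rcases Nat.eq_zero_or_pos i with rfl | hpos
    · exfalso
      have h0 : GradedRing.proj 𝒜 0 h = 0 := (HomogeneousIdeal.mem_irrelevant_iff _ _).mp hh
      simp [h0] at hi
    · exact hpos
  · rw [GradedRing.proj_apply]
    exact SetLike.coe_mem _

theorem awayι_congr {x : A} {m₁ m₂ : ℕ} (h₁ : x ∈ 𝒜 m₁) (hm₁ : 0 < m₁) (h₂ : x ∈ 𝒜 m₂) (hm₂ : 0 < m₂)
    (h : m₁ = m₂) : Proj.awayι 𝒜 x h₁ hm₁ = Proj.awayι 𝒜 x h₂ hm₂ := by
  subst h
  rfl
end General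

section
variable {R A B : Type u} [CommRing R] [CommRing A] [Algebra R A] {𝒜 : ℕ → Submodule R A} [GradedAlgebra 𝒜]
  [CommRing B] [Algebra R B] {ℬ : ℕ → Submodule R B} [GradedAlgebra ℬ] (φ : 𝒜 →+*ᵍ ℬ)

omit [GradedAlgebra 𝒜] in
@[reassoc]
theorem chart_ι {d : ℕ} {f : A} (hf : f ∈ 𝒜 d) (hd : 0 < d) :
    PCone.chart φ hf hd ≫ (PCone.dom φ).ι = Proj.awayι ℬ (φ f) (φ.2 hf) hd :=
  IsOpenImmersion.lift_fac _ _ _

instance chart_isOpenImmersion {d : ℕ} {f : A} (hf : f ∈ 𝒜 d) (hd : 0 < d) :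
    IsOpenImmersion (PCone.chart φ hf hd) := by
  have : IsOpenImmersion (PCone.chart φ hf hd ≫ (PCone.dom φ).ι) := by
    rw [chart_ι]
    infer_instance
  exact IsOpenImmersion.of_comp _ (PCone.dom φ).ι

omit [GradedAlgebra 𝒜] in
theorem chart_opensRange {d : ℕ} {f : A} (hf : f ∈ 𝒜 d) (hd : 0 < d) :
    (PCone.chart φ hf hd).opensRange = (PCone.dom φ).ι ⁻¹ᵁ Proj.basicOpen ℬ (φ f) := by
  ext x
  rw [← Proj.opensRange_awayι ℬ (φ f) (φ.2 hf) hd]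
  show x ∈ (PCone.chart φ hf hd).opensRange ↔
    (PCone.dom φ).ι x ∈ (Proj.awayι ℬ (φ f) (φ.2 hf) hd).opensRange
  rw [Scheme.Hom.mem_opensRange, Scheme.Hom.mem_opensRange]
  have key : ∀ y, Proj.awayι ℬ (φ f) (φ.2 hf) hd y = (PCone.dom φ).ι (PCone.chart φ hf hd y) := by
    intro y
    have := congrArg (fun g : _ ⟶ Proj ℬ => g y) (chart_ι φ hf hd)
    exact this.symm
  constructor
  · rintro ⟨y, rfl⟩
    exact ⟨y, key y⟩
  · rintro ⟨y, hy⟩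
    exact ⟨y, (PCone.dom φ).ι.isOpenEmbedding.injective ((key y).symm.trans hy)⟩

/-- The index type of the standard charts. -/
abbrev Idx (𝒜 : ℕ → Submodule R A) : Type u := {p : ℕ × A // 0 < p.1 ∧ p.2 ∈ 𝒜 p.1}

/-- The open cover of `G(φ)` by the standard charts. -/
noncomputable def cover : (PCone.dom φ : Scheme.{u}).OpenCover where
  I₀ := Idx 𝒜
  X p := Spec (CommRingCat.of (Away ℬ (φ p.1.2)))
  f p := PCone.chart φ p.2.2 p.2.1
  mem₀ := by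
    rw [Scheme.presieve₀_mem_precoverage_iff]
    refine ⟨fun x => ?_, fun p => chart_isOpenImmersion φ p.2.2 p.2.1⟩
    have hx : (PCone.dom φ).ι x ∈ (PCone.dom φ).ι.opensRange := ⟨x, rfl⟩
    rw [Scheme.Opens.opensRange_ι] at hx
    obtain ⟨⟨f, d, hd, hf⟩, hxf⟩ := Opens.mem_iSup.mp hx
    have hxr : x ∈ (PCone.chart φ hf hd).opensRange := by
      rw [chart_opensRange]
      exact hxf
    exact ⟨⟨(d, f), hd, hf⟩, hxr⟩

theorem specMap_awayMap_comp {d e m : ℕ} {f g x : A} (hf : f ∈ 𝒜 d) (hd : 0 < d) (hg : g ∈ 𝒜 e) (hx : x = f * g)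
    (hx' : φ x = φ f * φ g) (hxm : x ∈ 𝒜 m) (hm : 0 < m) (hdem : d + e = m) :
    Spec.map (CommRingCat.ofHom (awayMap ℬ (φ.2 hg) hx')) ≫ Spec.map (CommRingCat.ofHom (Away.map φ f)) ≫
        Proj.awayι 𝒜 f hf hd =
      Spec.map (CommRingCat.ofHom (Away.map φ x)) ≫ Proj.awayι 𝒜 x hxm hm := by
  subst hdem
  have key : (awayMap ℬ (φ.2 hg) hx').comp (Away.map φ f) = (Away.map φ x).comp (awayMap 𝒜 hg hx) := by
    refine RingHom.ext fun z => ?_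
    obtain ⟨n, a, ha, rfl⟩ := Away.mk_surjective 𝒜 hf z
    simp only [RingHom.comp_apply, Away.map_mk, awayMap_mk]
    rw [HomogeneousLocalization.ext_iff_val, Away.val_mk, Away.val_mk, map_mul, map_pow]
    rfl
  calc _ = Spec.map (CommRingCat.ofHom ((awayMap ℬ (φ.2 hg) hx').comp (Away.map φ f))) ≫
        Proj.awayι 𝒜 f hf hd := by
        rw [CommRingCat.ofHom_comp, Spec.map_comp, Category.assoc]
    _ = Spec.map (CommRingCat.ofHom ((Away.map φ x).comp (awayMap 𝒜 hg hx))) ≫ Proj.awayι 𝒜 f hf hd := by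
        rw [key]
    _ = _ := by
        rw [CommRingCat.ofHom_comp, Spec.map_comp, Category.assoc, Proj.SpecMap_awayMap_awayι 𝒜 hf hd hg hx]

theorem glue_compat {d e : ℕ} {f g : A} (hf : f ∈ 𝒜 d) (hd : 0 < d) (hg : g ∈ 𝒜 e) (he : 0 < e) :
    pullback.fst (PCone.chart φ hf hd) (PCone.chart φ hg he) ≫
        (Spec.map (CommRingCat.ofHom (Away.map φ f)) ≫ Proj.awayι 𝒜 f hf hd) =
      pullback.snd (PCone.chart φ hf hd) (PCone.chart φ hg he) ≫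
        (Spec.map (CommRingCat.ofHom (Away.map φ g)) ≫ Proj.awayι 𝒜 g hg he) := by
  have hf' : φ f ∈ ℬ d := φ.2 hf
  have hg' : φ g ∈ ℬ e := φ.2 hg
  have hx : φ (f * g) = φ f * φ g := map_mul φ f g
  have hx2 : φ (f * g) = φ g * φ f := hx.trans (mul_comm _ _)
  have hxm : f * g ∈ 𝒜 (d + e) := SetLike.mul_mem_graded hf hg
  have hm : 0 < d + e := by omega
  have cond : pullback.fst (PCone.chart φ hf hd) (PCone.chart φ hg he) ≫ Proj.awayι ℬ (φ f) hf' hd =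
      pullback.snd (PCone.chart φ hf hd) (PCone.chart φ hg he) ≫ Proj.awayι ℬ (φ g) hg' he := by
    have e1 : Proj.awayι ℬ (φ f) hf' hd = PCone.chart φ hf hd ≫ (PCone.dom φ).ι := (chart_ι φ hf hd).symm
    have e2 : Proj.awayι ℬ (φ g) hg' he = PCone.chart φ hg he ≫ (PCone.dom φ).ι := (chart_ι φ hg he).symm
    rw [e1, e2, pullback.condition_assoc]
  obtain ⟨L, hL⟩ : ∃ L, L = pullback.lift _ _ cond ≫ (Proj.pullbackAwayιIso ℬ hf' hd hg' he hx).hom := ⟨_, rfl⟩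
  have h1 : pullback.fst (PCone.chart φ hf hd) (PCone.chart φ hg he) =
      L ≫ Spec.map (CommRingCat.ofHom (awayMap ℬ hg' hx)) := by
    rw [hL, Category.assoc, Proj.pullbackAwayιIso_hom_SpecMap_awayMap_left, pullback.lift_fst]
  have h2 : pullback.snd (PCone.chart φ hf hd) (PCone.chart φ hg he) =
      L ≫ Spec.map (CommRingCat.ofHom (awayMap ℬ hf' hx2)) := by
    rw [hL, Category.assoc, Proj.pullbackAwayιIso_hom_SpecMap_awayMap_right, pullback.lift_snd]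
  have K1 := specMap_awayMap_comp φ hf hd hg (rfl : f * g = f * g) hx hxm hm rfl
  have K2 := specMap_awayMap_comp φ hg he hf (mul_comm f g : f * g = g * f) hx2 hxm hm (add_comm e d)
  have E1 : pullback.fst (PCone.chart φ hf hd) (PCone.chart φ hg he) ≫
        (Spec.map (CommRingCat.ofHom (Away.map φ f)) ≫ Proj.awayι 𝒜 f hf hd) =
      L ≫ (Spec.map (CommRingCat.ofHom (Away.map φ (f * g))) ≫ Proj.awayι 𝒜 (f * g) hxm hm) := by
    rw [h1, Category.assoc]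
    exact congrArg (L ≫ ·) K1
  have E2 : pullback.snd (PCone.chart φ hf hd) (PCone.chart φ hg he) ≫
        (Spec.map (CommRingCat.ofHom (Away.map φ g)) ≫ Proj.awayι 𝒜 g hg he) =
      L ≫ (Spec.map (CommRingCat.ofHom (Away.map φ (f * g))) ≫ Proj.awayι 𝒜 (f * g) hxm hm) := by
    rw [h2, Category.assoc]
    exact congrArg (L ≫ ·) K2
  exact E1.trans E2.symm

/-- The morphism `G(φ) ⟶ Proj 𝒜` induced by `φ`. -/
noncomputable def pmap : (PCone.dom φ : Scheme.{u}) ⟶ Proj 𝒜 :=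
  (cover φ).glueMorphisms
    (fun (p : Idx 𝒜) => Spec.map (CommRingCat.ofHom (Away.map φ p.1.2)) ≫ Proj.awayι 𝒜 p.1.2 p.2.2 p.2.1)
    (fun (p q : Idx 𝒜) => glue_compat φ p.2.2 p.2.1 q.2.2 q.2.1)

theorem chart_pmap {d : ℕ} {f : A} (hf : f ∈ 𝒜 d) (hd : 0 < d) :
    PCone.chart φ hf hd ≫ pmap φ =
      Spec.map (CommRingCat.ofHom (Away.map φ f)) ≫ Proj.awayι 𝒜 f hf hd :=
  (cover φ).ι_glueMorphisms _ _ (⟨(d, f), hd, hf⟩ : Idx 𝒜)

omit [GradedAlgebra 𝒜] in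
theorem hom_ext_chart {Y : Scheme.{u}} (p₁ p₂ : (PCone.dom φ : Scheme.{u}) ⟶ Y)
    (h : ∀ (d : ℕ) (f : A) (hd : 0 < d) (hf : f ∈ 𝒜 d),
      PCone.chart φ hf hd ≫ p₁ = PCone.chart φ hf hd ≫ p₂) : p₁ = p₂ :=
  (cover φ).hom_ext _ _ fun (p : Idx 𝒜) => h p.1.1 p.1.2 p.2.1 p.2.2

theorem existsUnique_pmap :
    ∃! p : (PCone.dom φ : Scheme.{u}) ⟶ Proj 𝒜,
      ∀ (d : ℕ) (f : A) (hd : 0 < d) (hf : f ∈ 𝒜 d),
        PCone.chart φ hf hd ≫ p =
          Spec.map (CommRingCat.ofHom (HomogeneousLocalization.Away.map φ f)) ≫ Proj.awayι 𝒜 f hf hd := by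
  refine ⟨pmap φ, fun d f hd hf => chart_pmap φ hf hd, fun p' hp' => ?_⟩
  exact hom_ext_chart φ _ _ fun d f hd hf => (hp' d f hd hf).trans (chart_pmap φ hf hd).symm

section WithP
variable (p : (PCone.dom φ : Scheme.{u}) ⟶ Proj 𝒜)
  (hp : ∀ (d : ℕ) (f : A) (hd : 0 < d) (hf : f ∈ 𝒜 d),
    PCone.chart φ hf hd ≫ p =
      Spec.map (CommRingCat.ofHom (HomogeneousLocalization.Away.map φ f)) ≫ Proj.awayι 𝒜 f hf hd)

include hp in
theorem preimage_basicOpen {d : ℕ} {f : A} (hf : f ∈ 𝒜 d) (hd : 0 < d) :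
    p ⁻¹ᵁ Proj.basicOpen 𝒜 f = (PCone.dom φ).ι ⁻¹ᵁ Proj.basicOpen ℬ (φ f) := by
  have key : ∀ (e : ℕ) (g : A) (he : 0 < e) (hg : g ∈ 𝒜 e),
      PCone.chart φ hg he ⁻¹ᵁ (p ⁻¹ᵁ Proj.basicOpen 𝒜 f) =
        PCone.chart φ hg he ⁻¹ᵁ ((PCone.dom φ).ι ⁻¹ᵁ Proj.basicOpen ℬ (φ f)) := by
    intro e g he hg
    have hg' : φ g ∈ ℬ e := φ.2 hg
    have hf' : φ f ∈ ℬ d := φ.2 hf
    rw [← Scheme.Hom.comp_preimage, ← Scheme.Hom.comp_preimage, hp e g he hg, chart_ι, Scheme.Hom.comp_preimage,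
      Proj.awayι_preimage_basicOpen 𝒜 hg he hf hd, Proj.awayι_preimage_basicOpen ℬ hg' he hf' hd,
      SpecMap_preimage_basicOpen]
    congr 1
    show Away.map φ g (Away.mk 𝒜 hg d (f ^ e) _) = Away.mk ℬ hg' d (φ f ^ e) _
    rw [Away.map_mk, HomogeneousLocalization.ext_iff_val, Away.val_mk, Away.val_mk, map_pow]
  ext x
  obtain ⟨i, y, rfl⟩ := (cover φ).exists_eq x
  exact SetLike.ext_iff.mp (key i.1.1 i.1.2 i.2.1 i.2.2) y

include hp in
theorem isPullback_chart {d : ℕ} {f : A} (hf : f ∈ 𝒜 d) (hd : 0 < d) :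
    IsPullback (Spec.map (CommRingCat.ofHom (Away.map φ f))) (PCone.chart φ hf hd) (Proj.awayι 𝒜 f hf hd) p := by
  refine IsOpenImmersion.isPullback _ _ _ _ (hp d f hd hf) ?_
  rw [Proj.opensRange_awayι, chart_opensRange, preimage_basicOpen φ p hp hf hd]

include hp in
theorem of_away (Q : MorphismProperty Scheme.{u}) [IsZariskiLocalAtTarget Q]
    (H : ∀ (d : ℕ) (f : A) (_ : 0 < d) (_ : f ∈ 𝒜 d), Q (Spec.map (CommRingCat.ofHom (Away.map φ f)))) :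
    Q p := by
  refine IsZariskiLocalAtTarget.of_openCover (Proj.affineOpenCover 𝒜).openCover fun s => ?_
  have hpb := (isPullback_chart φ p hp s.2.2 s.1.2).flip
  have h1 : hpb.isoPullback.hom ≫ pullback.snd _ _ = Spec.map (CommRingCat.ofHom (Away.map φ s.2)) :=
    hpb.isoPullback_hom_snd
  have h2 := H s.1 s.2 s.1.2 s.2.2
  rw [← h1, Q.cancel_left_of_respectsIso] at h2
  exact h2

include hp in
theorem isAffineHom : IsAffineHom p :=
  of_away φ p hp @IsAffineHom fun _ _ _ _ => inferInstance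

end WithP

omit [GradedAlgebra 𝒜] in
theorem dom_eq_top_of_eventually (d₀ : ℕ) (hbij : ∀ d : ℕ, d₀ ≤ d → Set.BijOn φ (𝒜 d) (ℬ d)) :
    PCone.dom φ = ⊤ := by
  rw [eq_top_iff]
  intro x _
  obtain ⟨i, b, hi, hb, hxb⟩ := exists_homogeneous_mem_basicOpen ℬ x
  have hdeg : b ^ (d₀ + 1) ∈ ℬ ((d₀ + 1) • i) := SetLike.pow_mem_graded _ hb
  have hle : d₀ ≤ (d₀ + 1) • i := by
    simp only [smul_eq_mul]
    calc d₀ ≤ (d₀ + 1) * 1 := by omega
      _ ≤ (d₀ + 1) * i := Nat.mul_le_mul_left _ hi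
  have hpos : 0 < (d₀ + 1) • i := by
    simp only [smul_eq_mul]
    positivity
  obtain ⟨a, ha, hab⟩ := (hbij _ hle).surjOn hdeg
  have hxa : x ∈ Proj.basicOpen ℬ (φ a) := by
    rw [hab, Proj.basicOpen_pow ℬ b (d₀ + 1) (Nat.succ_pos _)]
    exact hxb
  exact Opens.mem_iSup.mpr ⟨⟨a, _, hpos, ha⟩, hxa⟩

theorem isIso_of_eventually (d₀ : ℕ) (hbij : ∀ d : ℕ, d₀ ≤ d → Set.BijOn φ (𝒜 d) (ℬ d))
    (r : (PCone.dom φ : Scheme.{u}) ⟶ Proj 𝒜)
    (hr : ∀ (d : ℕ) (f : A) (hd : 0 < d) (hf : f ∈ 𝒜 d),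
      PCone.chart φ hf hd ≫ r =
        Spec.map (CommRingCat.ofHom (HomogeneousLocalization.Away.map φ f)) ≫ Proj.awayι 𝒜 f hf hd) :
    IsIso r := by
  refine of_away φ r hr (MorphismProperty.isomorphisms Scheme.{u}) fun d f hd hf => ?_
  have : IsIso (CommRingCat.ofHom (Away.map φ f)) :=
    (ConcreteCategory.isIso_iff_bijective _).mpr
      (ProjMap_helper3.away_map_bijective_of_eventually 𝒜 ℬ φ d₀ hbij hd f hf)
  exact (inferInstance : IsIso (Spec.map (CommRingCat.ofHom (Away.map φ f))))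

/-- A graded retraction `ψ` of `φ` induces a section of the morphism `G(φ) ⟶ Proj 𝒜`. -/
theorem exists_section (ψ : ℬ →+*ᵍ 𝒜) (hψφ : ∀ a : A, ψ (φ a) = a)
    (hψ : HomogeneousIdeal.irrelevant 𝒜 ≤ (HomogeneousIdeal.irrelevant ℬ).map ψ)
    (p : (PCone.dom φ : Scheme.{u}) ⟶ Proj 𝒜)
    (hp : ∀ (d : ℕ) (f : A) (hd : 0 < d) (hf : f ∈ 𝒜 d),
      PCone.chart φ hf hd ≫ p =
        Spec.map (CommRingCat.ofHom (HomogeneousLocalization.Away.map φ f)) ≫ Proj.awayι 𝒜 f hf hd) :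
    ∃ j : Proj 𝒜 ⟶ (PCone.dom φ : Scheme.{u}), j ≫ (PCone.dom φ).ι = Proj.map ψ hψ ∧ j ≫ p = 𝟙 (Proj 𝒜) := by
  have hrange : Set.range (Proj.map ψ hψ).base ⊆ Set.range (PCone.dom φ).ι.base := by
    rw [Scheme.Opens.range_ι]
    rintro _ ⟨x, rfl⟩
    obtain ⟨d, f, hd, hf, hxf⟩ := exists_homogeneous_mem_basicOpen 𝒜 x
    have h1 : x ∈ Proj.map ψ hψ ⁻¹ᵁ Proj.basicOpen ℬ (φ f) := by
      rw [Proj.map_preimage_basicOpen, hψφ]
      exact hxf
    exact Opens.mem_iSup.mpr ⟨⟨f, d, hd, hf⟩, h1⟩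
  refine ⟨IsOpenImmersion.lift (PCone.dom φ).ι (Proj.map ψ hψ) hrange, IsOpenImmersion.lift_fac _ _ _, ?_⟩
  refine (Proj.affineOpenCover 𝒜).openCover.hom_ext _ _ ?_
  rintro ⟨⟨d, hd⟩, ⟨f, hf⟩⟩
  have hf' : f ∈ 𝒜 d := hf
  change Proj.awayι 𝒜 f hf' hd ≫ _ = Proj.awayι 𝒜 f hf' hd ≫ _
  clear hf
  -- the comparison ring homomorphism
  have hle : ∀ (g : A), ψ (φ f) = g → Submonoid.powers (φ f) ≤ (Submonoid.powers g).comap ψ := by
    rintro g rfl _ ⟨n, rfl⟩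
    exact ⟨n, by simp⟩
  have A0 : ∀ (g : A) (hg : ψ (φ f) = g) (hgd : g ∈ 𝒜 d),
      Proj.awayι 𝒜 g hgd hd ≫ Proj.map ψ hψ =
        Spec.map (CommRingCat.ofHom (HomogeneousLocalization.map ψ (hle g hg))) ≫
          Proj.awayι ℬ (φ f) (φ.2 hf') hd := by
    rintro g rfl hgd
    exact Proj.awayι_comp_map ψ hψ hd (φ f) (φ.2 hf')
  have A1 := A0 f (hψφ f) hf'
  have A2 : Proj.awayι 𝒜 f hf' hd ≫ IsOpenImmersion.lift (PCone.dom φ).ι (Proj.map ψ hψ) hrange =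
      Spec.map (CommRingCat.ofHom (HomogeneousLocalization.map ψ (hle f (hψφ f)))) ≫ PCone.chart φ hf' hd := by
    rw [← cancel_mono (PCone.dom φ).ι, Category.assoc, IsOpenImmersion.lift_fac, Category.assoc, chart_ι, A1]
  have A3 : (HomogeneousLocalization.map ψ (hle f (hψφ f))).comp (Away.map φ f) = RingHom.id (Away 𝒜 f) := by
    refine RingHom.ext fun z => ?_
    obtain ⟨n, a, ha, rfl⟩ := Away.mk_surjective 𝒜 hf' z
    rw [RingHom.comp_apply, Away.map_mk, RingHom.id_apply, Away.mk, HomogeneousLocalization.map_mk,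
      HomogeneousLocalization.ext_iff_val, HomogeneousLocalization.val_mk, Away.val_mk,
      Localization.mk_eq_mk_iff, Localization.r_iff_exists]
    refine ⟨1, ?_⟩
    simp [hψφ]
  rw [reassoc_of% A2, hp d f hd hf', ← Spec.map_comp_assoc, ← CommRingCat.ofHom_comp, A3]
  simp

end

end Groth.Agent.Lib.PConeMap_helper3
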