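import Groth.Prelude.Def_Cone
import Groth.Agent.Lib.PConeMap_helper3
import Groth.Agent.Lib.ProjClosed_helper3

/-! The canonical retraction `E ⟶ Proj 𝒜` of the pointed affine cone of a graded algebra. -/

universe u
open AlgebraicGeometry CategoryTheory CategoryTheory.Limits HomogeneousLocalization TopologicalSpace DirectSum
open Groth.Agent.Lib.ProjClosed_helper3 (frac frac_eq_of frac_mul frac_pow val_isLocalizationElem)
open Groth.Agent.Lib.PConeMap_helper3 (exists_homogeneous_mem_basicOpen awayι_congr)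

namespace Groth.Agent.Lib.ConeMap_helper3

section General

theorem opensRange_lift {X Y Z : Scheme.{u}} (ι : X ⟶ Z) [IsOpenImmersion ι] (g : Y ⟶ Z) [IsOpenImmersion g]
    (l : Y ⟶ X) [IsOpenImmersion l] (hl : l ≫ ι = g) : l.opensRange = ι ⁻¹ᵁ g.opensRange := by
  ext x
  show x ∈ l.opensRange ↔ ι x ∈ g.opensRange
  rw [Scheme.Hom.mem_opensRange, Scheme.Hom.mem_opensRange]
  have key : ∀ y, g y = ι (l y) := by
    intro y
    have := congrArg (fun h : Y ⟶ Z => h y) hl
    exact this.symm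
  constructor
  · rintro ⟨y, rfl⟩
    exact ⟨y, key y⟩
  · rintro ⟨y, hy⟩
    exact ⟨y, ι.isOpenEmbedding.injective ((key y).symm.trans hy)⟩

theorem algebraMap_eq_frac {A : Type*} [CommRing A] (g a : A) :
    algebraMap A (Localization.Away g) a = frac g 0 a := by
  rw [← Localization.mk_one_eq_algebraMap]
  unfold frac
  congr 1
  exact Subtype.ext (pow_zero g).symm

theorem mem_of_forall_decompose_mem {A σ : Type*} [CommRing A] [SetLike σ A] [AddSubgroupClass σ A] (𝒜 : ℕ → σ)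
    [GradedRing 𝒜] (I : Ideal A) (x : A) (h : ∀ i, (decompose 𝒜 x i : A) ∈ I) : x ∈ I := by
  classical
  rw [← DirectSum.sum_support_decompose 𝒜 x]
  exact Ideal.sum_mem _ fun i _ => h i

theorem basicOpen_isLocalizationElem {A σ : Type*} [CommRing A] [SetLike σ A] [AddSubgroupClass σ A] (𝒜 : ℕ → σ)
    [GradedRing 𝒜] {d e : ℕ} {f g : A} (hg : g ∈ 𝒜 e) (hf : f ∈ 𝒜 d) (he : 0 < e) :
    PrimeSpectrum.basicOpen (algebraMap (Away 𝒜 g) (Localization.Away g) (Away.isLocalizationElem hg hf)) =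
      PrimeSpectrum.basicOpen (algebraMap A (Localization.Away g) f) := by
  obtain ⟨e', rfl⟩ : ∃ e', e = e' + 1 := Nat.exists_eq_succ_of_ne_zero he.ne'
  have h1 : algebraMap (Away 𝒜 g) (Localization.Away g) (Away.isLocalizationElem hg hf) =
      frac g d (f ^ (e' + 1)) := by
    rw [HomogeneousLocalization.algebraMap_apply]
    exact val_isLocalizationElem 𝒜 hg hf
  rw [h1, algebraMap_eq_frac]
  apply le_antisymm
  · rw [PrimeSpectrum.basicOpen_le_basicOpen_iff]
    apply Ideal.le_radical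
    rw [Ideal.mem_span_singleton']
    refine ⟨frac g d (f ^ e'), ?_⟩
    rw [frac_mul]
    apply frac_eq_of
    ring
  · rw [PrimeSpectrum.basicOpen_le_basicOpen_iff, Ideal.mem_radical_iff]
    refine ⟨e' + 1, ?_⟩
    rw [Ideal.mem_span_singleton']
    refine ⟨frac g 0 (g ^ d), ?_⟩
    rw [frac_mul, frac_pow]
    apply frac_eq_of
    ring

end General

section
variable {R A : Type u} [CommRing R] [CommRing A] [Algebra R A] {𝒜 : ℕ → Submodule R A} [GradedAlgebra 𝒜]

/-- The localization morphism `Spec A_f ⟶ Spec A`. -/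
noncomputable abbrev loc (f : A) : Spec (CommRingCat.of (Localization.Away f)) ⟶ Spec (CommRingCat.of A) :=
  Spec.map (CommRingCat.ofHom (algebraMap A (Localization.Away f)))

/-- The morphism `Spec A_f ⟶ Spec A_(f)`. -/
noncomputable abbrev deg0 (𝒜 : ℕ → Submodule R A) [GradedAlgebra 𝒜] (f : A) :
    Spec (CommRingCat.of (Localization.Away f)) ⟶ Spec (CommRingCat.of (Away 𝒜 f)) :=
  Spec.map (CommRingCat.ofHom (algebraMap (Away 𝒜 f) (Localization.Away f)))

@[reassoc]
theorem chart_ι {d : ℕ} {f : A} (hf : f ∈ 𝒜 d) (hd : 0 < d) :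
    Cone.chart hf hd ≫ (Cone.pointed 𝒜).ι = loc f :=
  IsOpenImmersion.lift_fac _ _ _

instance chart_isOpenImmersion {d : ℕ} {f : A} (hf : f ∈ 𝒜 d) (hd : 0 < d) :
    IsOpenImmersion (Cone.chart hf hd) := by
  have : IsOpenImmersion (Cone.chart hf hd ≫ (Cone.pointed 𝒜).ι) := by
    rw [chart_ι]
    infer_instance
  exact IsOpenImmersion.of_comp _ (Cone.pointed 𝒜).ι

theorem chart_opensRange {d : ℕ} {f : A} (hf : f ∈ 𝒜 d) (hd : 0 < d) :
    (Cone.chart hf hd).opensRange = (Cone.pointed 𝒜).ι ⁻¹ᵁ Cone.coneOpen f := by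
  have hloc : (loc f).opensRange = Cone.coneOpen f :=
    Scheme.Hom.opensRange_localizationAway (R := CommRingCat.of A) f
  rw [← hloc]
  exact opensRange_lift _ _ _ (chart_ι hf hd)

theorem exists_chart_mem (x : (Cone.pointed 𝒜 : Scheme.{u})) :
    ∃ (d : ℕ) (f : A) (hd : 0 < d) (hf : f ∈ 𝒜 d), x ∈ (Cone.chart hf hd).opensRange := by
  classical
  have hx : (Cone.pointed 𝒜).ι x ∈ (Cone.pointed 𝒜).ι.opensRange := ⟨x, rfl⟩
  rw [Scheme.Opens.opensRange_ι] at hx
  have hx2 : (Cone.pointed 𝒜).ι x ∉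
      PrimeSpectrum.zeroLocus ((HomogeneousIdeal.irrelevant 𝒜).toIdeal : Set A) := hx
  have hx' : ¬ ((HomogeneousIdeal.irrelevant 𝒜).toIdeal : Set A) ⊆ ((Cone.pointed 𝒜).ι x).asIdeal := by
    intro hsub
    exact hx2 ((PrimeSpectrum.mem_zeroLocus _ _).mpr hsub)
  rw [Set.not_subset] at hx'
  obtain ⟨a, ha, hax⟩ := hx'
  have hex : ∃ i, 0 < i ∧ (decompose 𝒜 a i : A) ∉ ((Cone.pointed 𝒜).ι x).asIdeal := by
    by_contra hcon
    push Not at hcon
    apply hax
    refine mem_of_forall_decompose_mem 𝒜 _ a fun i => ?_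
    rcases Nat.eq_zero_or_pos i with rfl | hi
    · have h0 : (decompose 𝒜 a 0 : A) = 0 := (HomogeneousIdeal.mem_irrelevant_iff _ _).mp ha
      rw [h0]
      exact zero_mem _
    · exact hcon i hi
  obtain ⟨i, hi, hai⟩ := hex
  refine ⟨i, (decompose 𝒜 a i : A), hi, SetLike.coe_mem _, ?_⟩
  rw [chart_opensRange]
  exact hai

/-- The index type of the standard charts. -/
abbrev Idx (𝒜 : ℕ → Submodule R A) : Type u := {p : ℕ × A // 0 < p.1 ∧ p.2 ∈ 𝒜 p.1}

/-- The open cover of the pointed cone by the standard charts. -/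
noncomputable def cover (𝒜 : ℕ → Submodule R A) [GradedAlgebra 𝒜] : (Cone.pointed 𝒜 : Scheme.{u}).OpenCover where
  I₀ := Idx 𝒜
  X p := Spec (CommRingCat.of (Localization.Away p.1.2))
  f p := Cone.chart p.2.2 p.2.1
  mem₀ := by
    rw [Scheme.presieve₀_mem_precoverage_iff]
    refine ⟨fun x => ?_, fun p => chart_isOpenImmersion p.2.2 p.2.1⟩
    obtain ⟨d, f, hd, hf, hx⟩ := exists_chart_mem x
    exact ⟨⟨(d, f), hd, hf⟩, hx⟩

theorem spec_lift_loc {f x : A} (hu : IsUnit (algebraMap A (Localization.Away x) f)) :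
    Spec.map (CommRingCat.ofHom (Localization.awayLift (algebraMap A (Localization.Away x)) f hu)) ≫ loc f =
      loc x := by
  show Spec.map (CommRingCat.ofHom (Localization.awayLift (algebraMap A (Localization.Away x)) f hu)) ≫
    Spec.map (CommRingCat.ofHom (algebraMap A (Localization.Away f))) =
      Spec.map (CommRingCat.ofHom (algebraMap A (Localization.Away x)))
  rw [← Spec.map_comp, ← CommRingCat.ofHom_comp, IsLocalization.Away.lift_comp]

theorem specMap_lift_comp {d e m : ℕ} {f g x : A} (hf : f ∈ 𝒜 d) (hd : 0 < d) (hg : g ∈ 𝒜 e) (hx : x = f * g)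
    (hxm : x ∈ 𝒜 m) (hm : 0 < m) (hdem : d + e = m) (hu : IsUnit (algebraMap A (Localization.Away x) f)) :
    Spec.map (CommRingCat.ofHom (Localization.awayLift (algebraMap A (Localization.Away x)) f hu)) ≫
        deg0 𝒜 f ≫ Proj.awayι 𝒜 f hf hd =
      deg0 𝒜 x ≫ Proj.awayι 𝒜 x hxm hm := by
  subst hdem
  have key : (Localization.awayLift (algebraMap A (Localization.Away x)) f hu).comp
        (algebraMap (Away 𝒜 f) (Localization.Away f)) =
      (algebraMap (Away 𝒜 x) (Localization.Away x)).comp (awayMap 𝒜 hg hx) := by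
    refine RingHom.ext fun z => ?_
    rw [RingHom.comp_apply, RingHom.comp_apply, HomogeneousLocalization.algebraMap_apply,
      HomogeneousLocalization.algebraMap_apply, val_awayMap]
  calc _ = Spec.map (CommRingCat.ofHom ((Localization.awayLift (algebraMap A (Localization.Away x)) f hu).comp
        (algebraMap (Away 𝒜 f) (Localization.Away f)))) ≫ Proj.awayι 𝒜 f hf hd := by
        rw [CommRingCat.ofHom_comp, Spec.map_comp, Category.assoc]
    _ = Spec.map (CommRingCat.ofHom ((algebraMap (Away 𝒜 x) (Localization.Away x)).comp (awayMap 𝒜 hg hx))) ≫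
        Proj.awayι 𝒜 f hf hd := by rw [key]
    _ = _ := by
        rw [CommRingCat.ofHom_comp, Spec.map_comp, Category.assoc, Proj.SpecMap_awayMap_awayι 𝒜 hf hd hg hx]

theorem glue_compat {d e : ℕ} {f g : A} (hf : f ∈ 𝒜 d) (hd : 0 < d) (hg : g ∈ 𝒜 e) (he : 0 < e) :
    pullback.fst (Cone.chart hf hd) (Cone.chart hg he) ≫ (deg0 𝒜 f ≫ Proj.awayι 𝒜 f hf hd) =
      pullback.snd (Cone.chart hf hd) (Cone.chart hg he) ≫ (deg0 𝒜 g ≫ Proj.awayι 𝒜 g hg he) := by
  have hxm : f * g ∈ 𝒜 (d + e) := SetLike.mul_mem_graded hf hg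
  have hm : 0 < d + e := by omega
  have huf : IsUnit (algebraMap A (Localization.Away (f * g)) f) :=
    isUnit_of_dvd_unit (map_dvd _ ⟨g, rfl⟩) (IsLocalization.Away.algebraMap_isUnit (f * g))
  have hug : IsUnit (algebraMap A (Localization.Away (f * g)) g) :=
    isUnit_of_dvd_unit (map_dvd _ ⟨f, mul_comm f g⟩) (IsLocalization.Away.algebraMap_isUnit (f * g))
  have hq : pullback.fst (Cone.chart hf hd) (Cone.chart hg he) ≫ loc f =
      pullback.snd (Cone.chart hf hd) (Cone.chart hg he) ≫ loc g := by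
    have e1 : loc f = Cone.chart hf hd ≫ (Cone.pointed 𝒜).ι := (chart_ι hf hd).symm
    have e2 : loc g = Cone.chart hg he ≫ (Cone.pointed 𝒜).ι := (chart_ι hg he).symm
    rw [e1, e2, pullback.condition_assoc]
  have hrange : Set.range (pullback.fst (Cone.chart hf hd) (Cone.chart hg he) ≫ loc f).base ⊆
      Set.range (loc (f * g)).base := by
    rintro _ ⟨y, rfl⟩
    have h3 : Set.range (loc (f * g)).base = (PrimeSpectrum.basicOpen (f * g) : Set (PrimeSpectrum A)) :=
      PrimeSpectrum.localization_away_comap_range (Localization.Away (f * g)) (f * g)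
    have h3f : Set.range (loc f).base = (PrimeSpectrum.basicOpen f : Set (PrimeSpectrum A)) :=
      PrimeSpectrum.localization_away_comap_range (Localization.Away f) f
    have h3g : Set.range (loc g).base = (PrimeSpectrum.basicOpen g : Set (PrimeSpectrum A)) :=
      PrimeSpectrum.localization_away_comap_range (Localization.Away g) g
    rw [h3, PrimeSpectrum.basicOpen_mul]
    constructor
    · have : (pullback.fst (Cone.chart hf hd) (Cone.chart hg he) ≫ loc f).base y ∈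
          Set.range (loc f).base := ⟨(pullback.fst (Cone.chart hf hd) (Cone.chart hg he)).base y, rfl⟩
      rwa [h3f] at this
    · have : (pullback.fst (Cone.chart hf hd) (Cone.chart hg he) ≫ loc f).base y ∈
          Set.range (loc g).base := by
        rw [hq]
        exact ⟨(pullback.snd (Cone.chart hf hd) (Cone.chart hg he)).base y, rfl⟩
      rwa [h3g] at this
  obtain ⟨L, hL⟩ : ∃ L : pullback (Cone.chart hf hd) (Cone.chart hg he) ⟶ Spec (CommRingCat.of (Localization.Away (f * g))),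
      L ≫ loc (f * g) = pullback.fst (Cone.chart hf hd) (Cone.chart hg he) ≫ loc f :=
    ⟨IsOpenImmersion.lift (loc (f * g)) _ hrange, IsOpenImmersion.lift_fac _ _ _⟩
  have h1 : pullback.fst (Cone.chart hf hd) (Cone.chart hg he) =
      L ≫ Spec.map (CommRingCat.ofHom (Localization.awayLift (algebraMap A (Localization.Away (f * g))) f huf)) := by
    rw [← cancel_mono (loc f), Category.assoc, spec_lift_loc, hL]
  have h2 : pullback.snd (Cone.chart hf hd) (Cone.chart hg he) =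
      L ≫ Spec.map (CommRingCat.ofHom (Localization.awayLift (algebraMap A (Localization.Away (f * g))) g hug)) := by
    rw [← cancel_mono (loc g), Category.assoc, spec_lift_loc, hL, hq]
  have K1 := specMap_lift_comp hf hd hg (rfl : f * g = f * g) hxm hm rfl huf
  have K2 := specMap_lift_comp hg he hf (mul_comm f g : f * g = g * f) hxm hm (add_comm e d) hug
  have E1 : pullback.fst (Cone.chart hf hd) (Cone.chart hg he) ≫ (deg0 𝒜 f ≫ Proj.awayι 𝒜 f hf hd) =
      L ≫ (deg0 𝒜 (f * g) ≫ Proj.awayι 𝒜 (f * g) hxm hm) := by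
    rw [h1, Category.assoc]
    exact congrArg (L ≫ ·) K1
  have E2 : pullback.snd (Cone.chart hf hd) (Cone.chart hg he) ≫ (deg0 𝒜 g ≫ Proj.awayι 𝒜 g hg he) =
      L ≫ (deg0 𝒜 (f * g) ≫ Proj.awayι 𝒜 (f * g) hxm hm) := by
    rw [h2, Category.assoc]
    exact congrArg (L ≫ ·) K2
  exact E1.trans E2.symm

/-- The canonical retraction of the pointed affine cone onto `Proj`. -/
noncomputable def πmap (𝒜 : ℕ → Submodule R A) [GradedAlgebra 𝒜] : (Cone.pointed 𝒜 : Scheme.{u}) ⟶ Proj 𝒜 :=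
  (cover 𝒜).glueMorphisms
    (fun (p : Idx 𝒜) => deg0 𝒜 p.1.2 ≫ Proj.awayι 𝒜 p.1.2 p.2.2 p.2.1)
    (fun (p q : Idx 𝒜) => glue_compat p.2.2 p.2.1 q.2.2 q.2.1)

theorem chart_πmap {d : ℕ} {f : A} (hf : f ∈ 𝒜 d) (hd : 0 < d) :
    Cone.chart hf hd ≫ πmap 𝒜 = deg0 𝒜 f ≫ Proj.awayι 𝒜 f hf hd :=
  (cover 𝒜).ι_glueMorphisms _ _ (⟨(d, f), hd, hf⟩ : Idx 𝒜)

theorem hom_ext_chart {Y : Scheme.{u}} (p₁ p₂ : (Cone.pointed 𝒜 : Scheme.{u}) ⟶ Y)
    (h : ∀ (d : ℕ) (f : A) (hd : 0 < d) (hf : f ∈ 𝒜 d), Cone.chart hf hd ≫ p₁ = Cone.chart hf hd ≫ p₂) :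
    p₁ = p₂ :=
  (cover 𝒜).hom_ext _ _ fun (p : Idx 𝒜) => h p.1.1 p.1.2 p.2.1 p.2.2

theorem existsUnique_πmap (𝒜 : ℕ → Submodule R A) [GradedAlgebra 𝒜] :
    ∃! π : (Cone.pointed 𝒜 : Scheme.{u}) ⟶ Proj 𝒜,
      ∀ (d : ℕ) (f : A) (hd : 0 < d) (hf : f ∈ 𝒜 d),
        Cone.chart hf hd ≫ π =
          Spec.map (CommRingCat.ofHom (algebraMap (HomogeneousLocalization.Away 𝒜 f) (Localization.Away f))) ≫
            Proj.awayι 𝒜 f hf hd := by
  refine ⟨πmap 𝒜, fun d f hd hf => chart_πmap hf hd, fun p' hp' => ?_⟩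
  exact hom_ext_chart _ _ fun d f hd hf => (hp' d f hd hf).trans (chart_πmap hf hd).symm

section WithP
variable (π : (Cone.pointed 𝒜 : Scheme.{u}) ⟶ Proj 𝒜)
  (hπ : ∀ (d : ℕ) (f : A) (hd : 0 < d) (hf : f ∈ 𝒜 d),
    Cone.chart hf hd ≫ π =
      Spec.map (CommRingCat.ofHom (algebraMap (HomogeneousLocalization.Away 𝒜 f) (Localization.Away f))) ≫
        Proj.awayι 𝒜 f hf hd)

include hπ in
theorem preimage_basicOpen {d : ℕ} {f : A} (hf : f ∈ 𝒜 d) (hd : 0 < d) :
    π ⁻¹ᵁ Proj.basicOpen 𝒜 f = (Cone.pointed 𝒜).ι ⁻¹ᵁ Cone.coneOpen f := by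
  have key : ∀ (e : ℕ) (g : A) (he : 0 < e) (hg : g ∈ 𝒜 e),
      Cone.chart hg he ⁻¹ᵁ (π ⁻¹ᵁ Proj.basicOpen 𝒜 f) =
        Cone.chart hg he ⁻¹ᵁ ((Cone.pointed 𝒜).ι ⁻¹ᵁ Cone.coneOpen f) := by
    intro e g he hg
    rw [← Scheme.Hom.comp_preimage, ← Scheme.Hom.comp_preimage, hπ e g he hg, chart_ι, Scheme.Hom.comp_preimage,
      Proj.awayι_preimage_basicOpen 𝒜 hg he hf hd]
    show Spec.map (CommRingCat.ofHom (algebraMap (Away 𝒜 g) (Localization.Away g))) ⁻¹ᵁ
        PrimeSpectrum.basicOpen (Away.isLocalizationElem hg hf) =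
      Spec.map (CommRingCat.ofHom (algebraMap A (Localization.Away g))) ⁻¹ᵁ PrimeSpectrum.basicOpen f
    rw [SpecMap_preimage_basicOpen, SpecMap_preimage_basicOpen]
    exact basicOpen_isLocalizationElem 𝒜 hg hf he
  ext x
  obtain ⟨i, y, rfl⟩ := (cover 𝒜).exists_eq x
  exact SetLike.ext_iff.mp (key i.1.1 i.1.2 i.2.1 i.2.2) y

include hπ in
theorem isPullback_chart {d : ℕ} {f : A} (hf : f ∈ 𝒜 d) (hd : 0 < d) :
    IsPullback (deg0 𝒜 f) (Cone.chart hf hd) (Proj.awayι 𝒜 f hf hd) π := by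
  refine IsOpenImmersion.isPullback _ _ _ _ (hπ d f hd hf) ?_
  rw [Proj.opensRange_awayι, chart_opensRange, preimage_basicOpen π hπ hf hd]

include hπ in
theorem of_away (Q : MorphismProperty Scheme.{u}) [IsZariskiLocalAtTarget Q]
    (H : ∀ (d : ℕ) (f : A) (_ : 0 < d) (_ : f ∈ 𝒜 d), Q (deg0 𝒜 f)) : Q π := by
  refine IsZariskiLocalAtTarget.of_openCover (Proj.affineOpenCover 𝒜).openCover fun s => ?_
  have hpb := (isPullback_chart π hπ s.2.2 s.1.2).flip
  have h1 : hpb.isoPullback.hom ≫ pullback.snd _ _ = deg0 𝒜 s.2 := hpb.isoPullback_hom_snd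
  have h2 := H s.1 s.2 s.1.2 s.2.2
  rw [← h1, Q.cancel_left_of_respectsIso] at h2
  exact h2

include hπ in
theorem isAffineHom : IsAffineHom π :=
  of_away π hπ @IsAffineHom fun _ _ _ _ => inferInstance

include hπ in
theorem mem_iff_of_homogeneous (p : (Cone.pointed 𝒜 : Scheme.{u})) {a : A} {k : ℕ} (ha : a ∈ 𝒜 k) :
    a ∈ (π.base p).asHomogeneousIdeal ↔ a ∈ ((Cone.pointed 𝒜).ι.base p).asIdeal := by
  have hpos : ∀ {b : A} {j : ℕ}, b ∈ 𝒜 j → 0 < j →
      (b ∈ (π.base p).asHomogeneousIdeal ↔ b ∈ ((Cone.pointed 𝒜).ι.base p).asIdeal) := by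
    intro b j hb hj
    have h := SetLike.ext_iff.mp (preimage_basicOpen π hπ hb hj) p
    have h' : b ∉ (π.base p).asHomogeneousIdeal ↔ b ∉ ((Cone.pointed 𝒜).ι.base p).asIdeal := h
    exact not_iff_not.mp h'
  rcases Nat.eq_zero_or_pos k with rfl | hk
  · obtain ⟨d', f', hd', hf', hxf'⟩ := exists_homogeneous_mem_basicOpen 𝒜 (π.base p)
    have hf'1 : f' ∉ (π.base p).asHomogeneousIdeal := hxf'
    have hf'2 : f' ∉ ((Cone.pointed 𝒜).ι.base p).asIdeal := fun h => hf'1 ((hpos hf' hd').mpr h)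
    have hmul : a * f' ∈ 𝒜 (0 + d') := SetLike.mul_mem_graded ha hf'
    have hpos' : 0 < 0 + d' := by omega
    have h3 := hpos hmul hpos'
    have hp1 : (π.base p).asHomogeneousIdeal.toIdeal.IsPrime := (π.base p).isPrime
    have hp2 : ((Cone.pointed 𝒜).ι.base p).asIdeal.IsPrime := ((Cone.pointed 𝒜).ι.base p).isPrime
    constructor
    · intro h
      have h4 : a * f' ∈ ((Cone.pointed 𝒜).ι.base p).asIdeal :=
        h3.mp (Ideal.mul_mem_right _ (π.base p).asHomogeneousIdeal.toIdeal h)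
      exact (hp2.mem_or_mem h4).resolve_right hf'2
    · intro h
      have h4 : a * f' ∈ (π.base p).asHomogeneousIdeal.toIdeal := h3.mpr (Ideal.mul_mem_right _ _ h)
      exact (hp1.mem_or_mem h4).resolve_right hf'1
  · exact hpos ha hk

include hπ in
theorem asHomogeneousIdeal_eq (p : (Cone.pointed 𝒜 : Scheme.{u})) :
    (π.base p).asHomogeneousIdeal = (((Cone.pointed 𝒜).ι.base p).asIdeal).homogeneousCore 𝒜 := by
  have hmem := fun {a : A} {k : ℕ} (ha : a ∈ 𝒜 k) => mem_iff_of_homogeneous π hπ p ha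
  apply le_antisymm
  · rw [← Ideal.homogeneousCore.gc 𝒜 _ _]
    intro x hx
    refine mem_of_forall_decompose_mem 𝒜 _ x fun i => ?_
    exact (hmem (SetLike.coe_mem _)).mp ((π.base p).asHomogeneousIdeal.isHomogeneous i hx)
  · intro x hx
    refine mem_of_forall_decompose_mem 𝒜 _ x fun i => ?_
    have h1 : (decompose 𝒜 x i : A) ∈ ((((Cone.pointed 𝒜).ι.base p).asIdeal).homogeneousCore 𝒜).toIdeal :=
      (Ideal.homogeneousCore 𝒜 _).isHomogeneous i hx
    have h2 := Ideal.toIdeal_homogeneousCore_le 𝒜 _ h1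
    exact (hmem (SetLike.coe_mem _)).mpr h2

include hπ in
theorem surjective : Function.Surjective π.base := by
  intro y
  obtain ⟨P, hP⟩ : ∃ P : PrimeSpectrum A, P.asIdeal = y.asHomogeneousIdeal.toIdeal :=
    ⟨⟨y.asHomogeneousIdeal.toIdeal, y.isPrime⟩, rfl⟩
  have hPE : P ∈ Cone.pointed 𝒜 := by
    intro hmem
    apply y.not_irrelevant_le
    intro a ha
    have := (PrimeSpectrum.mem_zeroLocus _ _).mp hmem ha
    rw [hP] at this
    exact this
  obtain ⟨p, hp⟩ : ∃ p : (Cone.pointed 𝒜 : Scheme.{u}), (Cone.pointed 𝒜).ι.base p = P := by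
    have : P ∈ Set.range (Cone.pointed 𝒜).ι.base := by
      rw [Scheme.Opens.range_ι]
      exact hPE
    exact this
  refine ⟨p, ?_⟩
  apply ProjectiveSpectrum.ext
  rw [asHomogeneousIdeal_eq π hπ p, hp, hP]
  exact HomogeneousIdeal.toIdeal_homogeneousCore_eq_self y.asHomogeneousIdeal

end WithP

end

end Groth.Agent.Lib.ConeMap_helper3
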