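import Mathlib
import Groth.Prelude.Def_RelSpec2
import Groth.Agent.Lib.ConeImm8_helper5
import Groth.Agent.Lib.ConeImm12_helper5
import Groth.Agent.Lib.RelProjTN5_helper5
import Groth.Agent.Lib.ConeRetr1_helper5

/-!
# The canonical retractions of the pointed cones  (helper5)
-/

set_option autoImplicit false
universe u
open AlgebraicGeometry CategoryTheory CategoryTheory.Limits HomogeneousLocalization Opposite TopologicalSpace
open scoped HomogeneousIdeal

namespace Groth.Agent.ConeRetr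

open Groth.Agent.ConeImm Groth.Agent.RelProjTN

section
variable {Y PC P : Scheme.{u}} {𝒮 𝒮h : RelProj.QCGrAlg Y}
  {ι : 𝒮.toQCAlg ⟶ 𝒮h.toQCAlg} {z : 𝒮h.presheaf.obj (op ⊤)} (hz : RelCone.IsPolyOver 𝒮 𝒮h ι z)
  {pC : PC ⟶ Y}
  {chartC : ∀ (U : Y.Opens) (hU : IsAffineOpen U),
    (((pC ⁻¹ᵁ U : PC.Opens) : Scheme.{u}) ≅ Proj (𝒮h.deg U hU))}
  {p : P ⟶ Y}
  {chart : ∀ (U : Y.Opens) (hU : IsAffineOpen U),
    (((p ⁻¹ᵁ U : P.Opens) : Scheme.{u}) ≅ Proj (𝒮.deg U hU))}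

/-- `i⁻¹(Ê) = E`. -/
theorem preimage_pointedProjCone (hPC : RelProj.IsRelProj 𝒮h pC chartC) (i : 𝒮.toQCAlg.spec ⟶ PC)
    (hi : RelCone.IsConeImm 𝒮 hz pC chartC i) :
    i ⁻¹ᵁ (RelCone.pointedProjCone 𝒮 hz pC chartC) = RelCone.pointedCone 𝒮 := by
  ext c
  obtain ⟨U, hU, d, rfl⟩ := exists_chart_spec (𝒮 := 𝒮) c
  show i.base ((𝒮.toQCAlg.ι U hU).base d) ∈ RelCone.pointedProjCone 𝒮 hz pC chartC ↔
    (𝒮.toQCAlg.ι U hU).base d ∈ RelCone.pointedCone 𝒮
  rw [mem_pointedCone_iff, i_ι_apply hz i hi U hU, ← ptOf_mem_domOpen_iff hz U hU]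
  constructor
  · intro h
    have h1 : (RelProj.emb pC chartC U hU).base (ptOf hz U hU d) ∈
        RelCone.pointedProjCone 𝒮 hz pC chartC ⊓ pC ⁻¹ᵁ U := ⟨h, mem_of_emb U hU _⟩
    rw [pointedProjCone_inf hz hPC U hU] at h1
    obtain ⟨y, hy, hye⟩ := h1
    have : y = ptOf hz U hU d := (RelProj.emb pC chartC U hU).isOpenEmbedding.injective hye
    rw [← this]; exact hy
  · intro h
    exact Opens.mem_iSup.mpr ⟨⟨U, hU⟩, ⟨_, h, rfl⟩⟩

/-- The restriction `E ⟶ Ê` of `i` is affine. -/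
theorem isAffineHom_lift (hPC : RelProj.IsRelProj 𝒮h pC chartC) (i : 𝒮.toQCAlg.spec ⟶ PC)
    (hi : RelCone.IsConeImm 𝒮 hz pC chartC i)
    (i' : ((RelCone.pointedCone 𝒮 : 𝒮.toQCAlg.spec.Opens) : Scheme.{u}) ⟶
      ((RelCone.pointedProjCone 𝒮 hz pC chartC : PC.Opens) : Scheme.{u}))
    (hi' : i' ≫ (RelCone.pointedProjCone 𝒮 hz pC chartC).ι = (RelCone.pointedCone 𝒮).ι ≫ i) :
    IsAffineHom i' := by
  have hS := strC_cone 𝒮 𝒮h ι z (thz hz) (thz_spec hz)
  haveI : IsAffineHom i := isAffineHom_glue hPC hS i (chartMor_of_isConeImm hz i hi)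
  have hpb : IsPullback i' (RelCone.pointedCone 𝒮).ι (RelCone.pointedProjCone 𝒮 hz pC chartC).ι i :=
    IsOpenImmersion.isPullback i' (RelCone.pointedCone 𝒮).ι
      (RelCone.pointedProjCone 𝒮 hz pC chartC).ι i hi'.symm (by
        rw [Scheme.Opens.opensRange_ι, Scheme.Opens.opensRange_ι]
        exact preimage_pointedProjCone hz hPC i hi)
  exact MorphismProperty.of_isPullback (P := @IsAffineHom) hpb.flip inferInstance

/-- The chart equations pinning the retraction `r : Ê ⟶ X`. -/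
def HR (r : ((RelCone.pointedProjCone 𝒮 hz pC chartC : PC.Opens) : Scheme.{u}) ⟶ P) : Prop :=
  ∀ (U : Y.Opens) (hU : IsAffineOpen U) (d : ℕ) (hd : 0 < d) (f : 𝒮.presheaf.obj (op U))
    (hf : f ∈ 𝒮.deg U hU d)
    (g : Spec (CommRingCat.of (HomogeneousLocalization.Away (𝒮h.deg U hU)
        ((RelProj.gradedHomAt ι hz.graded U hU) f))) ⟶
      ((RelCone.pointedProjCone 𝒮 hz pC chartC : PC.Opens) : Scheme.{u})),
    g ≫ (RelCone.pointedProjCone 𝒮 hz pC chartC).ι =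
        Proj.awayι (𝒮h.deg U hU) ((RelProj.gradedHomAt ι hz.graded U hU) f)
          ((RelProj.gradedHomAt ι hz.graded U hU).2 hf) hd ≫ RelProj.emb pC chartC U hU →
      g ≫ r =
        Spec.map (CommRingCat.ofHom (HomogeneousLocalization.Away.map
          (RelProj.gradedHomAt ι hz.graded U hU) f)) ≫
          Proj.awayι (𝒮.deg U hU) f hf hd ≫ RelProj.emb p chart U hU

/-- Transport of the chart equations along an equality of graded homomorphisms. -/
theorem hq_transport (W : PC.Opens) (r : (W : Scheme.{u}) ⟶ P) (U : Y.Opens) (hU : IsAffineOpen U)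
    {d : ℕ} (hd : 0 < d) (f : 𝒮.presheaf.obj (op U)) (hf : f ∈ 𝒮.deg U hU d)
    (ψ ψ' : 𝒮.deg U hU →+*ᵍ 𝒮h.deg U hU) (h : ψ = ψ')
    (H : ∀ g : Spec (CommRingCat.of (HomogeneousLocalization.Away (𝒮h.deg U hU) (ψ f))) ⟶ (W : Scheme.{u}),
      g ≫ W.ι = Proj.awayι (𝒮h.deg U hU) (ψ f) (ψ.2 hf) hd ≫ RelProj.emb pC chartC U hU →
      g ≫ r = Spec.map (CommRingCat.ofHom (HomogeneousLocalization.Away.map ψ f)) ≫
          Proj.awayι (𝒮.deg U hU) f hf hd ≫ RelProj.emb p chart U hU) :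
    ∀ g : Spec (CommRingCat.of (HomogeneousLocalization.Away (𝒮h.deg U hU) (ψ' f))) ⟶ (W : Scheme.{u}),
      g ≫ W.ι = Proj.awayι (𝒮h.deg U hU) (ψ' f) (ψ'.2 hf) hd ≫ RelProj.emb pC chartC U hU →
      g ≫ r = Spec.map (CommRingCat.ofHom (HomogeneousLocalization.Away.map ψ' f)) ≫
          Proj.awayι (𝒮.deg U hU) f hf hd ≫ RelProj.emb p chart U hU := by
  subst h
  exact H

theorem gradedHomAt_eq_psi (U : Y.Opens) (hU : IsAffineOpen U) :
    RelProj.gradedHomAt ι hz.graded U hU = psi ι hz.graded U hU := by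
  apply DFunLike.ext
  intro x
  exact (psi_apply ι hz.graded U hU x).symm

/-- The retraction is affine. -/
theorem isAffineHom_retraction (hPC : RelProj.IsRelProj 𝒮h pC chartC) (hP : RelProj.IsRelProj 𝒮 p chart)
    (r : ((RelCone.pointedProjCone 𝒮 hz pC chartC : PC.Opens) : Scheme.{u}) ⟶ P)
    (hr : HR hz (p := p) (chart := chart) r) : IsAffineHom r := by
  have e := pointedProjCone_eq_domQ hz hPC
  let Φ : ((RelProj.domQ (RelProj.QGrHom.ofHom ι hz.graded) pC chartC : PC.Opens) : Scheme.{u}) ⟶ P :=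
    (PC.isoOfEq e).inv ≫ r
  have hh : HQOn (pA := p) (chartA := chart) ι hz.graded Φ := by
    intro U hU d hd f hf
    have H := hq_transport (p := p) (chart := chart) (RelCone.pointedProjCone 𝒮 hz pC chartC) r U hU hd f hf
      _ _ (gradedHomAt_eq_psi hz U hU) (hr U hU d hd f hf)
    have := H (IsOpenImmersion.lift (RelProj.domQ (RelProj.QGrHom.ofHom ι hz.graded) pC chartC).ι
      (RelProj.awayEmb (RelProj.QGrHom.ofHom ι hz.graded) pC chartC U hU U hU (hle U) hd f hf)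
      (RelProj.range_awayEmb_subset_domQ (RelProj.QGrHom.ofHom ι hz.graded) pC chartC U hU U hU (hle U)
        hd f hf) ≫ (PC.isoOfEq e).inv) (by
        rw [Category.assoc, Scheme.isoOfEq_inv_ι, IsOpenImmersion.lift_fac]
        rfl)
    rw [Category.assoc] at this
    exact this
  have hΦ : IsAffineHom Φ := of_chart_rel_on @IsAffineHom hP hPC hh (fun U hU d _ f _ => inferInstance)
  have hrΦ : r = (PC.isoOfEq e).hom ≫ Φ := by
    simp only [Φ, Iso.hom_inv_id_assoc]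
  rw [hrΦ]
  infer_instance

/-- The standard charts `D_+(ι f)` lie in the pointed projective cone. -/
theorem range_chart_subset (U : Y.Opens) (hU : IsAffineOpen U) {k : ℕ} (hk : 0 < k)
    {f : 𝒮.presheaf.obj (op U)} (hf : f ∈ 𝒮.deg U hU k) :
    Set.range (Proj.awayι (𝒮h.deg U hU) ((RelProj.gradedHomAt ι hz.graded U hU) f)
        ((RelProj.gradedHomAt ι hz.graded U hU).2 hf) hk ≫ RelProj.emb pC chartC U hU).base ⊆
      Set.range (RelCone.pointedProjCone 𝒮 hz pC chartC).ι.base := by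
  rw [Scheme.Opens.range_ι]
  rintro _ ⟨y, rfl⟩
  have hb : (Proj.awayι (𝒮h.deg U hU) ((RelProj.gradedHomAt ι hz.graded U hU) f)
      ((RelProj.gradedHomAt ι hz.graded U hU).2 hf) hk).base y ∈
      Proj.basicOpen (𝒮h.deg U hU) ((RelProj.gradedHomAt ι hz.graded U hU) f) :=
    (Proj.opensRange_awayι (𝒮h.deg U hU) _ ((RelProj.gradedHomAt ι hz.graded U hU).2 hf) hk).le ⟨y, rfl⟩
  have hd := mem_domOpen_of_mem_basicOpen (RelProj.gradedHomAt ι hz.graded U hU) hk hf _ hb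
  exact Opens.mem_iSup.mpr ⟨⟨U, hU⟩, ⟨_, hd, rfl⟩⟩

/-- Pointwise formula for the retraction on a standard chart. -/
theorem retraction_apply (r : ((RelCone.pointedProjCone 𝒮 hz pC chartC : PC.Opens) : Scheme.{u}) ⟶ P)
    (hr : HR hz (p := p) (chart := chart) r) (U : Y.Opens) (hU : IsAffineOpen U) {k : ℕ} (hk : 0 < k)
    {f : 𝒮.presheaf.obj (op U)} (hf : f ∈ 𝒮.deg U hU k)
    (e : ((RelCone.pointedProjCone 𝒮 hz pC chartC : PC.Opens) : Scheme.{u}))
    (y' : Spec (CommRingCat.of (HomogeneousLocalization.Away (𝒮h.deg U hU)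
        ((RelProj.gradedHomAt ι hz.graded U hU) f))))
    (hy' : (RelProj.emb pC chartC U hU).base
        ((Proj.awayι (𝒮h.deg U hU) ((RelProj.gradedHomAt ι hz.graded U hU) f)
          ((RelProj.gradedHomAt ι hz.graded U hU).2 hf) hk).base y') =
        (RelCone.pointedProjCone 𝒮 hz pC chartC).ι.base e) :
    r.base e = (RelProj.emb p chart U hU).base ((Proj.awayι (𝒮.deg U hU) f hf hk).base
      ((Spec.map (CommRingCat.ofHom (HomogeneousLocalization.Away.map
        (RelProj.gradedHomAt ι hz.graded U hU) f))).base y')) := by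
  let g := IsOpenImmersion.lift (RelCone.pointedProjCone 𝒮 hz pC chartC).ι
    (Proj.awayι (𝒮h.deg U hU) ((RelProj.gradedHomAt ι hz.graded U hU) f)
        ((RelProj.gradedHomAt ι hz.graded U hU).2 hf) hk ≫ RelProj.emb pC chartC U hU)
    (range_chart_subset hz U hU hk hf)
  have hg : g ≫ (RelCone.pointedProjCone 𝒮 hz pC chartC).ι =
      Proj.awayι (𝒮h.deg U hU) ((RelProj.gradedHomAt ι hz.graded U hU) f)
        ((RelProj.gradedHomAt ι hz.graded U hU).2 hf) hk ≫ RelProj.emb pC chartC U hU :=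
    IsOpenImmersion.lift_fac _ _ _
  have hge : g.base y' = e := by
    apply (RelCone.pointedProjCone 𝒮 hz pC chartC).ι.isOpenEmbedding.injective
    rw [← hy']
    exact congrArg (fun m => m.base y') hg
  have := congrArg (fun m => m.base y') (hr U hU k hk f hf g hg)
  rw [← hge]
  exact this

/-- The composite `E ⟶ Ê ⟶ X` is surjective. -/
theorem surjective_comp (i : 𝒮.toQCAlg.spec ⟶ PC)
    (hi : RelCone.IsConeImm 𝒮 hz pC chartC i)
    (r : ((RelCone.pointedProjCone 𝒮 hz pC chartC : PC.Opens) : Scheme.{u}) ⟶ P)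
    (hr : HR hz (p := p) (chart := chart) r)
    (i' : ((RelCone.pointedCone 𝒮 : 𝒮.toQCAlg.spec.Opens) : Scheme.{u}) ⟶
      ((RelCone.pointedProjCone 𝒮 hz pC chartC : PC.Opens) : Scheme.{u}))
    (hi' : i' ≫ (RelCone.pointedProjCone 𝒮 hz pC chartC).ι = (RelCone.pointedCone 𝒮).ι ≫ i) :
    Function.Surjective (i' ≫ r).base := by
  intro x
  obtain ⟨_, ⟨U, hU : IsAffineOpen U, rfl⟩, hxU, -⟩ :=
    (Y.isBasis_affineOpens).exists_subset_of_mem_open (Set.mem_univ (p.base x)) isOpen_univ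
  have hx : x ∈ p ⁻¹ᵁ U := hxU
  have hwx : (RelProj.emb p chart U hU).base (zpt p chart U hU x hx) = x := emb_zpt U hU x hx
  generalize zpt p chart U hU x hx = w at hwx
  obtain ⟨k, hk, f, hf, hfw⟩ := exists_homogeneous_not_mem w
  let dpt : Spec (𝒮.presheaf.obj (op U)) := ⟨w.asHomogeneousIdeal.toIdeal, w.isPrime⟩
  have hfd : f ∉ dpt.asIdeal := (Proj.mem_basicOpen _ f w).mp hfw
  have hE : (𝒮.toQCAlg.ι U hU).base dpt ∈ RelCone.pointedCone 𝒮 :=
    (mem_pointedCone_iff 𝒮 U hU dpt).mpr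
      (fun hle => hfd (hle (HomogeneousIdeal.mem_irrelevant_of_mem _ hk hf)))
  let e : ((RelCone.pointedCone 𝒮 : 𝒮.toQCAlg.spec.Opens) : Scheme.{u}) := ⟨_, hE⟩
  refine ⟨e, ?_⟩
  have h1 : ptOf hz U hU dpt ∈ Proj.basicOpen (𝒮h.deg U hU) ((ι.hom.app (op U)).hom f) :=
    (ptOf_mem_basicOpen_iff hz U hU hk hf dpt).mpr hfd
  have h1' : ptOf hz U hU dpt ∈ (Proj.awayι (𝒮h.deg U hU) ((RelProj.gradedHomAt ι hz.graded U hU) f)
      ((RelProj.gradedHomAt ι hz.graded U hU).2 hf) hk).opensRange := by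
    rw [Proj.opensRange_awayι]; exact h1
  obtain ⟨y', hy'⟩ := h1'
  have h2 : (RelCone.pointedProjCone 𝒮 hz pC chartC).ι.base (i'.base e) =
      (RelProj.emb pC chartC U hU).base (ptOf hz U hU dpt) := by
    have := congrArg (fun m => m.base e) hi'
    exact this.trans (i_ι_apply hz i hi U hU dpt)
  have h3 : (i' ≫ r).base e = r.base (i'.base e) := rfl
  rw [h3, retraction_apply hz r hr U hU hk hf (i'.base e) y' (by rw [h2, ← hy']), ← hwx]
  congr 1
  refine proj_ext_of_basicOpen hk hf w _ hfw ?_ ?_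
  · rw [← Proj.opensRange_awayι (𝒮.deg U hU) f hf hk]
    exact ⟨_, rfl⟩
  · intro m hm a ha
    refine (awayι_map_mem_basicOpen_iff (RelProj.gradedHomAt ι hz.graded U hU) hk hf hm ha y').trans ?_
    have h4 : (Proj.awayι (𝒮h.deg U hU) ((RelProj.gradedHomAt ι hz.graded U hU) f)
        ((RelProj.gradedHomAt ι hz.graded U hU).map_mem hf) hk).base y' = ptOf hz U hU dpt := hy'
    rw [h4]
    refine (ptOf_mem_basicOpen_iff hz U hU hm ha dpt).trans ?_
    exact (Proj.mem_basicOpen _ a w).symm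

end

end Groth.Agent.ConeRetr
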