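import Mathlib
import Groth.Prelude.Def_RelSpec2
import Groth.Agent.Lib.ConeRetr2_helper5
import Groth.Agent.Lib.ProjQ4_helper5

/-!
# The canonical retraction of the pointed projective cone  (helper5)
-/

set_option autoImplicit false
universe u
open AlgebraicGeometry CategoryTheory CategoryTheory.Limits HomogeneousLocalization Opposite TopologicalSpace
open scoped HomogeneousIdeal

noncomputable section

namespace Groth.Agent.ConeRetr

open Groth.Agent.ConeImm Groth.Agent.RelProjTN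

section
variable {Y PC P : Scheme.{u}} {𝒮 𝒮h : RelProj.QCGrAlg Y}
  {ι : 𝒮.toQCAlg ⟶ 𝒮h.toQCAlg} {z : 𝒮h.presheaf.obj (op ⊤)} (hz : RelCone.IsPolyOver 𝒮 𝒮h ι z)
  {pC : PC ⟶ Y}
  {chartC : ∀ (U : Y.Opens) (hU : IsAffineOpen U),
    (((pC ⁻¹ᵁ U : PC.Opens) : Scheme.{u}) ≅ Proj (𝒮h.deg U hU))}
  {p : P ⟶ Y}
  {chart : ∀ (U : Y.Opens) (hU : IsAffineOpen U),
    (((p ⁻¹ᵁ U : P.Opens) : Scheme.{u}) ≅ Proj (𝒮.deg U hU))}

/-- The standard chart `Spec Ŝ(U)_(ι f) ⟶ Ê`. -/
def chartE (U : Y.Opens) (hU : IsAffineOpen U) {k : ℕ} (hk : 0 < k)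
    {f : 𝒮.presheaf.obj (op U)} (hf : f ∈ 𝒮.deg U hU k) :
    Spec (CommRingCat.of (HomogeneousLocalization.Away (𝒮h.deg U hU)
        ((RelProj.gradedHomAt ι hz.graded U hU) f))) ⟶
      ((RelCone.pointedProjCone 𝒮 hz pC chartC : PC.Opens) : Scheme.{u}) :=
  IsOpenImmersion.lift (RelCone.pointedProjCone 𝒮 hz pC chartC).ι
    (Proj.awayι (𝒮h.deg U hU) ((RelProj.gradedHomAt ι hz.graded U hU) f)
        ((RelProj.gradedHomAt ι hz.graded U hU).2 hf) hk ≫ RelProj.emb pC chartC U hU)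
    (range_chart_subset hz U hU hk hf)

theorem chartE_ι (U : Y.Opens) (hU : IsAffineOpen U) {k : ℕ} (hk : 0 < k)
    {f : 𝒮.presheaf.obj (op U)} (hf : f ∈ 𝒮.deg U hU k) :
    chartE hz (pC := pC) (chartC := chartC) U hU hk hf ≫ (RelCone.pointedProjCone 𝒮 hz pC chartC).ι =
      Proj.awayι (𝒮h.deg U hU) ((RelProj.gradedHomAt ι hz.graded U hU) f)
        ((RelProj.gradedHomAt ι hz.graded U hU).2 hf) hk ≫ RelProj.emb pC chartC U hU :=
  IsOpenImmersion.lift_fac _ _ _

instance (U : Y.Opens) (hU : IsAffineOpen U) {k : ℕ} (hk : 0 < k)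
    {f : 𝒮.presheaf.obj (op U)} (hf : f ∈ 𝒮.deg U hU k) :
    IsOpenImmersion (chartE hz (pC := pC) (chartC := chartC) U hU hk hf) := by
  haveI : IsOpenImmersion (chartE hz (pC := pC) (chartC := chartC) U hU hk hf ≫
      (RelCone.pointedProjCone 𝒮 hz pC chartC).ι) := by
    rw [chartE_ι]
    unfold RelProj.emb
    infer_instance
  exact IsOpenImmersion.of_comp _ (RelCone.pointedProjCone 𝒮 hz pC chartC).ι

theorem HR.apply {r : ((RelCone.pointedProjCone 𝒮 hz pC chartC : PC.Opens) : Scheme.{u}) ⟶ P}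
    (hr : HR hz (p := p) (chart := chart) r) (U : Y.Opens) (hU : IsAffineOpen U) {k : ℕ} (hk : 0 < k)
    {f : 𝒮.presheaf.obj (op U)} (hf : f ∈ 𝒮.deg U hU k) :
    chartE hz U hU hk hf ≫ r =
      Spec.map (CommRingCat.ofHom (HomogeneousLocalization.Away.map
        (RelProj.gradedHomAt ι hz.graded U hU) f)) ≫
        Proj.awayι (𝒮.deg U hU) f hf hk ≫ RelProj.emb p chart U hU :=
  hr U hU k hk f hf _ (chartE_ι hz U hU hk hf)

/-- The standard charts cover `Ê`. -/
theorem chartE_cover (x : ((RelCone.pointedProjCone 𝒮 hz pC chartC : PC.Opens) : Scheme.{u})) :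
    ∃ (U : Y.Opens) (hU : IsAffineOpen U) (k : ℕ) (hk : 0 < k) (f : 𝒮.presheaf.obj (op U))
      (hf : f ∈ 𝒮.deg U hU k),
      x ∈ Set.range (chartE hz (pC := pC) (chartC := chartC) U hU hk hf).base := by
  obtain ⟨V, t, ht, htx⟩ := Opens.mem_iSup.mp x.2
  obtain ⟨d, hd, f, hf, htf⟩ := exists_homogeneous_of_mem_domOpen
    (RelProj.gradedHomAt ι hz.graded V.1 V.2) t ht
  have key := Proj.opensRange_awayι (𝒮h.deg V.1 V.2) _
    ((RelProj.gradedHomAt ι hz.graded V.1 V.2).2 hf) hd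
  obtain ⟨y, hy⟩ := key.ge htf
  refine ⟨V.1, V.2, d, hd, f, hf, y, ?_⟩
  apply (RelCone.pointedProjCone 𝒮 hz pC chartC).ι.isOpenEmbedding.injective
  have h1 : (RelCone.pointedProjCone 𝒮 hz pC chartC).ι.base
      ((chartE hz (pC := pC) (chartC := chartC) V.1 V.2 hd hf).base y) =
      (RelProj.emb pC chartC V.1 V.2).base
        ((Proj.awayι (𝒮h.deg V.1 V.2) ((RelProj.gradedHomAt ι hz.graded V.1 V.2) f)
          ((RelProj.gradedHomAt ι hz.graded V.1 V.2).2 hf) hd).base y) :=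
    congrArg (fun q => q.base y) (chartE_ι hz (pC := pC) (chartC := chartC) V.1 V.2 hd hf)
  refine h1.trans ?_
  refine (congrArg (RelProj.emb pC chartC V.1 V.2).base hy).trans ?_
  exact htx

/-- **Existence** of the canonical retraction. -/
theorem exists_retraction (hPC : RelProj.IsRelProj 𝒮h pC chartC) (hP : RelProj.IsRelProj 𝒮 p chart) :
    ∃ r : ((RelCone.pointedProjCone 𝒮 hz pC chartC : PC.Opens) : Scheme.{u}) ⟶ P,
      HR hz (p := p) (chart := chart) r := by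
  have e := pointedProjCone_eq_domQ hz hPC
  obtain ⟨v, hv⟩ := Groth.Agent.ProjQ.exists_projQMapOn (RelProj.QGrHom.ofHom ι hz.graded) hP hPC
  refine ⟨(PC.isoOfEq e).hom ≫ v, ?_⟩
  intro U hU d hd f hf
  refine hq_transport (p := p) (chart := chart) (RelCone.pointedProjCone 𝒮 hz pC chartC)
    ((PC.isoOfEq e).hom ≫ v) U hU hd f hf _ _ (gradedHomAt_eq_psi hz U hU).symm ?_
  intro g hg
  have h1 : g ≫ (PC.isoOfEq e).hom =
      IsOpenImmersion.lift (RelProj.domQ (RelProj.QGrHom.ofHom ι hz.graded) pC chartC).ι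
        (RelProj.awayEmb (RelProj.QGrHom.ofHom ι hz.graded) pC chartC U hU U hU (hle U) hd f hf)
        (RelProj.range_awayEmb_subset_domQ (RelProj.QGrHom.ofHom ι hz.graded) pC chartC U hU U hU
          (hle U) hd f hf) := by
    rw [← cancel_mono (RelProj.domQ (RelProj.QGrHom.ofHom ι hz.graded) pC chartC).ι, Category.assoc,
      Scheme.isoOfEq_hom_ι, IsOpenImmersion.lift_fac]
    exact hg
  rw [← Category.assoc, h1]
  exact hv U hU U hU (hle U) d hd f hf _

/-- **Uniqueness** of the canonical retraction. -/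
theorem retraction_unique (r r' : ((RelCone.pointedProjCone 𝒮 hz pC chartC : PC.Opens) : Scheme.{u}) ⟶ P)
    (hr : HR hz (p := p) (chart := chart) r) (hr' : HR hz (p := p) (chart := chart) r') : r = r' := by
  refine hom_ext_of_charts _ _ (fun x => ?_)
  obtain ⟨U, hU, k, hk, f, hf, hx⟩ := chartE_cover hz x
  exact ⟨_, chartE hz U hU hk hf, inferInstance, hx,
    (hr.apply hz U hU hk hf).trans (hr'.apply hz U hU hk hf).symm⟩

end

end Groth.Agent.ConeRetr
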