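import Mathlib
import Groth.Prelude.Def_RelSpec2
import Groth.Agent.Lib.ConeRetr3_helper5
import Groth.Agent.Lib.RelProj_helper3

/-!
# Properties of the canonical retraction of the pointed projective cone  (helper5)
-/

set_option autoImplicit false
universe u
open AlgebraicGeometry CategoryTheory CategoryTheory.Limits HomogeneousLocalization Opposite TopologicalSpace
open scoped HomogeneousIdeal

noncomputable section

namespace Groth.Agent.ConeRetr

open Groth.Agent.ConeImm Groth.Agent.RelProjTN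

section
variable {Y PC P : Scheme.{u}} {𝒮 𝒮h : RelProj.QCGrAlg Y}
  {ι : 𝒮.toQCAlg ⟶ 𝒮h.toQCAlg} {z : 𝒮h.presheaf.obj (op ⊤)} (hz : RelCone.IsPolyOver 𝒮 𝒮h ι z)
  {pC : PC ⟶ Y}
  {chartC : ∀ (U : Y.Opens) (hU : IsAffineOpen U),
    (((pC ⁻¹ᵁ U : PC.Opens) : Scheme.{u}) ≅ Proj (𝒮h.deg U hU))}
  {p : P ⟶ Y}
  {chart : ∀ (U : Y.Opens) (hU : IsAffineOpen U),
    (((p ⁻¹ᵁ U : P.Opens) : Scheme.{u}) ≅ Proj (𝒮.deg U hU))}

/-- The retraction lies over `Y`. -/
theorem retraction_comp_p (hPC : RelProj.IsRelProj 𝒮h pC chartC) (hP : RelProj.IsRelProj 𝒮 p chart)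
    (r : ((RelCone.pointedProjCone 𝒮 hz pC chartC : PC.Opens) : Scheme.{u}) ⟶ P)
    (hr : HR hz (p := p) (chart := chart) r) :
    r ≫ p = (RelCone.pointedProjCone 𝒮 hz pC chartC).ι ≫ pC := by
  refine hom_ext_of_charts _ _ (fun x => ?_)
  obtain ⟨U, hU, k, hk, f, hf, hx⟩ := chartE_cover hz x
  refine ⟨_, chartE hz U hU hk hf, inferInstance, hx, ?_⟩
  rw [← Category.assoc, hr.apply hz U hU hk hf, ← Category.assoc (chartE hz U hU hk hf), chartE_ι]
  simp only [Category.assoc]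
  rw [emb_comp hP, Proj.awayι_toSpecZero_assoc, emb_comp hPC, Proj.awayι_toSpecZero_assoc]
  simp only [← Spec.map_comp_assoc, ← CommRingCat.ofHom_comp, Category.assoc]
  rw [Groth.Agent.Lib.ProjMap_helper3.away_map_comp_fromZero, CommRingCat.ofHom_comp,
    ← Category.assoc (𝒮.strZero U hU),
    Groth.Agent.Lib.RelProj_helper3.strZero_comp ι hz.graded U hU]

/-- The retraction is surjective. -/
theorem retraction_surjective (hPC : RelProj.IsRelProj 𝒮h pC chartC)
    (r : ((RelCone.pointedProjCone 𝒮 hz pC chartC : PC.Opens) : Scheme.{u}) ⟶ P)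
    (hr : HR hz (p := p) (chart := chart) r) : Function.Surjective r.base := by
  obtain ⟨⟨i, hi, -⟩, -⟩ := main_cone 𝒮 𝒮h ι hz.graded z hz.deg_z hz.bij pC chartC (thz hz)
    (thz_spec hz) hPC
  have hi' : RelCone.IsConeImm 𝒮 hz pC chartC i := hi
  have hrange : Set.range ((RelCone.pointedCone 𝒮).ι ≫ i).base ⊆
      Set.range (RelCone.pointedProjCone 𝒮 hz pC chartC).ι.base := by
    rw [Scheme.Opens.range_ι]
    rintro _ ⟨y, rfl⟩
    have hy : y.1 ∈ i ⁻¹ᵁ (RelCone.pointedProjCone 𝒮 hz pC chartC) := by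
      rw [preimage_pointedProjCone hz hPC i hi']
      exact y.2
    exact hy
  let i' := IsOpenImmersion.lift (RelCone.pointedProjCone 𝒮 hz pC chartC).ι
    ((RelCone.pointedCone 𝒮).ι ≫ i) hrange
  have hi'' : i' ≫ (RelCone.pointedProjCone 𝒮 hz pC chartC).ι = (RelCone.pointedCone 𝒮).ι ≫ i :=
    IsOpenImmersion.lift_fac _ _ _
  have hs := surjective_comp hz i hi' r hr i' hi''
  intro x
  obtain ⟨e, he⟩ := hs x
  exact ⟨i'.base e, he⟩

section retr
variable (θ : 𝒮h.toQCAlg ⟶ 𝒮.toQCAlg) (hθ : RelProj.IsGradedHom θ) (hιθ : ι ≫ θ = 𝟙 _)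

include hιθ in
theorem theta_iota (U : Y.Opens) (a : 𝒮.presheaf.obj (op U)) :
    (θ.hom.app (op U)).hom ((ι.hom.app (op U)).hom a) = a := by
  have h1 := congrArg (fun φ => (φ.hom.app (op U)).hom a) hιθ
  exact h1

include hιθ in
/-- `𝒮(U)_(f) → Ŝ(U)_(ι f) → 𝒮(U)_(f)` is the identity. -/
theorem awayMapTo_theta_comp (U : Y.Opens) (hU : IsAffineOpen U) {k : ℕ}
    {f : 𝒮.presheaf.obj (op U)} (hf : f ∈ 𝒮.deg U hU k)
    (h : RelProj.gradedHomAt θ hθ U hU ((RelProj.gradedHomAt ι hz.graded U hU) f) = f) :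
    (awayMapTo (RelProj.gradedHomAt θ hθ U hU) ((RelProj.gradedHomAt ι hz.graded U hU) f) f h).comp
      (Away.map (RelProj.gradedHomAt ι hz.graded U hU) f) = RingHom.id _ := by
  ext x
  obtain ⟨n, a, ha, rfl⟩ := Away.mk_surjective (𝒮.deg U hU) hf x
  simp only [RingHom.comp_apply, RingHom.id_apply]
  rw [Away.map_mk, awayMapTo_mk (RelProj.gradedHomAt θ hθ U hU) _ f h
    ((RelProj.gradedHomAt ι hz.graded U hU).2 hf) hf]
  congr 2
  exact theta_iota θ hιθ U a

include hιθ in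
/-- The immersion at infinity followed by the retraction is the identity. -/
theorem retraction_section
    (r : ((RelCone.pointedProjCone 𝒮 hz pC chartC : PC.Opens) : Scheme.{u}) ⟶ P)
    (hr : HR hz (p := p) (chart := chart) r)
    (hirr : ∀ (U : Y.Opens) (hU : IsAffineOpen U),
      (𝒮.deg U hU)₊ ≤ ((𝒮h.deg U hU)₊).map (RelProj.gradedHomAt θ hθ U hU))
    (j : P ⟶ PC) (hj : RelProj.IsRelProjMap θ hθ hirr chartC chart j)
    (j' : P ⟶ ((RelCone.pointedProjCone 𝒮 hz pC chartC : PC.Opens) : Scheme.{u}))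
    (hj' : j' ≫ (RelCone.pointedProjCone 𝒮 hz pC chartC).ι = j) : j' ≫ r = 𝟙 P := by
  refine hom_ext_of_charts _ _ (fun x => ?_)
  obtain ⟨_, ⟨U, hU : IsAffineOpen U, rfl⟩, hxU, -⟩ :=
    (Y.isBasis_affineOpens).exists_subset_of_mem_open (Set.mem_univ (p.base x)) isOpen_univ
  have hx : x ∈ p ⁻¹ᵁ U := hxU
  have hwx : (RelProj.emb p chart U hU).base (zpt p chart U hU x hx) = x := emb_zpt U hU x hx
  generalize zpt p chart U hU x hx = w at hwx
  obtain ⟨k, hk, f, hf, hfw⟩ := exists_homogeneous_not_mem w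
  have key := Proj.opensRange_awayι (𝒮.deg U hU) f hf hk
  obtain ⟨y, hy⟩ := key.ge hfw
  have hθι : RelProj.gradedHomAt θ hθ U hU ((RelProj.gradedHomAt ι hz.graded U hU) f) = f :=
    theta_iota θ hιθ U f
  haveI : IsOpenImmersion (Proj.awayι (𝒮.deg U hU) f hf hk ≫ RelProj.emb p chart U hU) := by
    unfold RelProj.emb
    infer_instance
  refine ⟨_, Proj.awayι (𝒮.deg U hU) f hf hk ≫ RelProj.emb p chart U hU, inferInstance, ⟨y, ?_⟩, ?_⟩
  · rw [Scheme.Hom.comp_base, TopCat.coe_comp, Function.comp_apply]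
    exact (congrArg (RelProj.emb p chart U hU).base hy).trans hwx
  · -- the chart of `P` followed by `j'` factors through the standard chart of `Ê`
    have hemb : RelProj.emb p chart U hU ≫ j =
        Proj.map (RelProj.gradedHomAt θ hθ U hU) (hirr U hU) ≫ RelProj.emb pC chartC U hU := by
      unfold RelProj.emb
      rw [Category.assoc, hj U hU, Iso.inv_hom_id_assoc]
    have h1 : (Proj.awayι (𝒮.deg U hU) f hf hk ≫ RelProj.emb p chart U hU) ≫ j' =
        Spec.map (CommRingCat.ofHom (awayMapTo (RelProj.gradedHomAt θ hθ U hU)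
          ((RelProj.gradedHomAt ι hz.graded U hU) f) f hθι)) ≫ chartE hz U hU hk hf := by
      rw [← cancel_mono (RelCone.pointedProjCone 𝒮 hz pC chartC).ι]
      simp only [Category.assoc]
      rw [hj', hemb, chartE_ι,
        awayι_comp_map_to_assoc (RelProj.gradedHomAt θ hθ U hU) (hirr U hU)
          ((RelProj.gradedHomAt ι hz.graded U hU) f) f hθι hk
          ((RelProj.gradedHomAt ι hz.graded U hU).2 hf) hf]
    rw [← Category.assoc, h1, Category.assoc, hr.apply hz U hU hk hf, ← Spec.map_comp_assoc,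
      ← CommRingCat.ofHom_comp, awayMapTo_theta_comp hz θ hθ hιθ U hU hf hθι, Category.comp_id]
    erw [Spec.map_id]
    rw [Category.id_comp]

end retr

end

end Groth.Agent.ConeRetr
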