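import Mathlib
import Groth.Prelude

set_option autoImplicit false
set_option linter.style.haveILetI false
set_option linter.unusedVariables false

universe u

open MvPolynomial

namespace Groth.Agent.Lib.Conic2x2H4

variable {k : Type u} [Field k]

/-- coefficient of `X i` -/
noncomputable def cf (p : MvPolynomial (Fin 3) k) (i : Fin 3) : k :=
  coeff (Finsupp.single i 1) p

theorem hom1_eq (p : MvPolynomial (Fin 3) k) (hp : p.IsHomogeneous 1) :
    p = ∑ i : Fin 3, C (cf p i) * X i := by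
  classical
  ext d
  rw [coeff_sum]
  by_cases hd : ∃ j : Fin 3, d = Finsupp.single j 1
  · obtain ⟨j, rfl⟩ := hd
    rw [Finset.sum_eq_single j]
    · rw [coeff_C_mul, coeff_X', if_pos rfl, mul_one]; rfl
    · intro b _ hbj
      rw [coeff_C_mul, coeff_X', if_neg, mul_zero]
      intro h
      exact hbj ((Finsupp.single_left_inj one_ne_zero).mp h)
    · intro h; exact absurd (Finset.mem_univ j) h
  · have h0 : coeff d p = 0 := by
      apply hp.coeff_eq_zero
      intro hdeg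
      apply hd
      have hmem : d ∈ Set.range (fun a : Fin 3 => Finsupp.single a (1 : ℕ)) := by
        rw [Finsupp.range_single_one]; exact hdeg
      obtain ⟨j, hj⟩ := hmem
      exact ⟨j, hj.symm⟩
    rw [h0]
    symm
    apply Finset.sum_eq_zero
    intro b _
    rw [coeff_C_mul, coeff_X', if_neg, mul_zero]
    intro h
    exact hd ⟨b, h.symm⟩

/-- the linear functional attached to a linear form -/
noncomputable def lf (p : MvPolynomial (Fin 3) k) : (Fin 3 → k) →ₗ[k] k where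
  toFun x := ∑ i, cf p i * x i
  map_add' x y := by simp only [Pi.add_apply, mul_add, Finset.sum_add_distrib]
  map_smul' c x := by
    simp only [Pi.smul_apply, smul_eq_mul, RingHom.id_apply, Finset.mul_sum]
    apply Finset.sum_congr rfl
    intro i _
    ring

theorem lf_apply (p : MvPolynomial (Fin 3) k) (x : Fin 3 → k) :
    lf p x = ∑ i, cf p i * x i := rfl

theorem eval_eq_lf (p : MvPolynomial (Fin 3) k) (hp : p.IsHomogeneous 1) (x : Fin 3 → k) :
    eval x p = lf p x := by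
  calc eval x p = eval x (∑ i : Fin 3, C (cf p i) * X i) := congrArg (eval x) (hom1_eq p hp)
    _ = lf p x := by
      rw [lf_apply]
      simp only [map_sum, map_mul, eval_C, eval_X]

theorem common_zero (l₁ l₂ : (Fin 3 → k) →ₗ[k] k) :
    ∃ x : Fin 3 → k, x ≠ 0 ∧ l₁ x = 0 ∧ l₂ x = 0 := by
  have hlt : Module.finrank k (k × k) < Module.finrank k (Fin 3 → k) := by
    rw [Module.finrank_prod, Module.finrank_self, Module.finrank_fin_fun]
    norm_num
  have hne := LinearMap.ker_ne_bot_of_finrank_lt (f := l₁.prod l₂) hlt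
  obtain ⟨x, hx, hx0⟩ := Submodule.exists_mem_ne_zero_of_ne_bot hne
  rw [LinearMap.mem_ker, LinearMap.prod_apply, Prod.mk_eq_zero] at hx
  exact ⟨x, hx0, hx.1, hx.2⟩

theorem two_dim (x0 : Fin 3 → k) (hx : x0 ≠ 0) :
    ∃ e e' : Fin 3 → k, ∀ x : Fin 3 → k, ∃ α β t : k, x = α • e + β • e' + t • x0 := by
  by_cases h0 : x0 0 ≠ 0
  · refine ⟨Pi.single 1 1, Pi.single 2 1, fun x =>
      ⟨x 1 - x 0 / x0 0 * x0 1, x 2 - x 0 / x0 0 * x0 2, x 0 / x0 0, ?_⟩⟩
    funext j
    fin_cases j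
    · simp [Pi.single_apply, h0]
    · simp [Pi.single_apply]
    · simp [Pi.single_apply]
  by_cases h1 : x0 1 ≠ 0
  · refine ⟨Pi.single 0 1, Pi.single 2 1, fun x =>
      ⟨x 0 - x 1 / x0 1 * x0 0, x 2 - x 1 / x0 1 * x0 2, x 1 / x0 1, ?_⟩⟩
    funext j
    fin_cases j
    · simp [Pi.single_apply]
    · simp [Pi.single_apply, h1]
    · simp [Pi.single_apply]
  have h2 : x0 2 ≠ 0 := by
    intro h2
    apply hx
    funext j
    fin_cases j
    · simpa using h0
    · simpa using h1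
    · simpa using h2
  refine ⟨Pi.single 0 1, Pi.single 1 1, fun x =>
    ⟨x 0 - x 2 / x0 2 * x0 0, x 1 - x 2 / x0 2 * x0 1, x 2 / x0 2, ?_⟩⟩
  funext j
  fin_cases j
  · simp [Pi.single_apply]
  · simp [Pi.single_apply]
  · simp [Pi.single_apply, h2]

theorem binary_zero [IsAlgClosed k] [CharZero k] (a b c : k) :
    ∃ v0 v1 : k, (v0 ≠ 0 ∨ v1 ≠ 0) ∧ a * (v0 * v0) + b * (v0 * v1) + c * (v1 * v1) = 0 := by
  by_cases ha : a = 0
  · refine ⟨1, 0, Or.inl one_ne_zero, ?_⟩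
    rw [ha]; ring
  · obtain ⟨t, ht⟩ := exists_quadratic_eq_zero (b := b) (c := c) ha
      (IsAlgClosed.exists_eq_mul_self _)
    refine ⟨t, 1, Or.inr one_ne_zero, ?_⟩
    linear_combination ht

theorem perp (p0 p1 r0 r1 : k) (h : p0 * r1 - p1 * r0 = 0) :
    ∃ u0 u1 : k, (u0 ≠ 0 ∨ u1 ≠ 0) ∧ u0 * p0 + u1 * p1 = 0 ∧ u0 * r0 + u1 * r1 = 0 := by
  by_cases hp : p0 ≠ 0 ∨ p1 ≠ 0
  · refine ⟨-p1, p0, ?_, by ring, by linear_combination h⟩
    rcases hp with hp | hp
    · exact Or.inr hp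
    · exact Or.inl (neg_ne_zero.mpr hp)
  by_cases hr : r0 ≠ 0 ∨ r1 ≠ 0
  · refine ⟨-r1, r0, ?_, by linear_combination -h, by ring⟩
    rcases hr with hr | hr
    · exact Or.inr hr
    · exact Or.inl (neg_ne_zero.mpr hr)
  push_neg at hp hr
  refine ⟨1, 0, Or.inl one_ne_zero, ?_, ?_⟩
  · rw [hp.1, hp.2]; ring
  · rw [hr.1, hr.2]; ring

/-- the core statement on four linear functionals -/
theorem core [IsAlgClosed k] [CharZero k] (A B C' D l₁ l₂ : (Fin 3 → k) →ₗ[k] k)
    (hdet : ∀ x, A x * D x - B x * C' x = l₁ x * l₂ x) :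
    ∃ u0 u1 v0 v1 : k, (u0 ≠ 0 ∨ u1 ≠ 0) ∧ (v0 ≠ 0 ∨ v1 ≠ 0) ∧
      ∀ x, u0 * (A x * v0 + B x * v1) + u1 * (C' x * v0 + D x * v1) = 0 := by
  obtain ⟨x0, hx0, hl1, hl2⟩ := common_zero l₁ l₂
  have h3 : A x0 * D x0 - B x0 * C' x0 = 0 := by
    have := hdet x0
    rw [hl1, zero_mul] at this
    exact this
  have hstar : ∀ y, D x0 * A y - B x0 * C' y - C' x0 * B y + A x0 * D y = 0 := by
    intro y
    have h1 := hdet (x0 + y)
    simp only [map_add, hl1, hl2, zero_add] at h1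
    have h2 := hdet y
    linear_combination h1 - h2 - h3
  by_cases hA : A x0 ≠ 0
  · refine ⟨C' x0, -A x0, B x0, -A x0, Or.inr (neg_ne_zero.mpr hA),
      Or.inr (neg_ne_zero.mpr hA), fun x => ?_⟩
    linear_combination A x0 * hstar x - A x * h3
  by_cases hB : B x0 ≠ 0
  · refine ⟨D x0, -B x0, B x0, -A x0, Or.inr (neg_ne_zero.mpr hB), Or.inl hB, fun x => ?_⟩
    linear_combination B x0 * hstar x - B x * h3
  by_cases hC : C' x0 ≠ 0
  · refine ⟨C' x0, -A x0, D x0, -C' x0, Or.inl hC, Or.inr (neg_ne_zero.mpr hC), fun x => ?_⟩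
    linear_combination C' x0 * hstar x - C' x * h3
  by_cases hD : D x0 ≠ 0
  · refine ⟨D x0, -B x0, D x0, -C' x0, Or.inl hD, Or.inl hD, fun x => ?_⟩
    linear_combination D x0 * hstar x - D x * h3
  push_neg at hA hB hC hD
  obtain ⟨e, e', hee⟩ := two_dim x0 hx0
  -- binary quadratic form
  obtain ⟨v0, v1, hv, hq⟩ := binary_zero (k := k)
    (A e * C' e' - C' e * A e')
    (A e * D e' + B e * C' e' - C' e * B e' - D e * A e')
    (B e * D e' - D e * B e')
  obtain ⟨u0, u1, hu, hup, hur⟩ := perp (A e * v0 + B e * v1) (C' e * v0 + D e * v1)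
    (A e' * v0 + B e' * v1) (C' e' * v0 + D e' * v1) (by linear_combination hq)
  refine ⟨u0, u1, v0, v1, hu, hv, fun x => ?_⟩
  obtain ⟨α, β, t, hx⟩ := hee x
  have key : ∀ F : (Fin 3 → k) →ₗ[k] k, F x0 = 0 → F x = α * F e + β * F e' := by
    intro F hF
    conv_lhs => rw [hx]
    simp only [map_add, map_smul, smul_eq_mul, hF, mul_zero, add_zero]
  rw [key A hA, key B hB, key C' hC, key D hD]
  linear_combination α * hup + β * hur

section poly

variable [IsAlgClosed k] [CharZero k]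

theorem hom_left (c : Matrix (Fin 2) (Fin 2) k) (M : Matrix (Fin 2) (Fin 2) (MvPolynomial (Fin 3) k))
    (hM : ∀ a b : Fin 2, (M a b).IsHomogeneous 1) (a b : Fin 2) :
    (((C : k →+* MvPolynomial (Fin 3) k).mapMatrix c * M) a b).IsHomogeneous 1 := by
  rw [Matrix.mul_apply]
  apply IsHomogeneous.sum
  intro i _
  have h := (isHomogeneous_C (Fin 3) (c a i)).mul (hM i b)
  rw [zero_add] at h
  exact h

theorem hom_right (c : Matrix (Fin 2) (Fin 2) k) (M : Matrix (Fin 2) (Fin 2) (MvPolynomial (Fin 3) k))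
    (hM : ∀ a b : Fin 2, (M a b).IsHomogeneous 1) (a b : Fin 2) :
    ((M * (C : k →+* MvPolynomial (Fin 3) k).mapMatrix c) a b).IsHomogeneous 1 := by
  rw [Matrix.mul_apply]
  apply IsHomogeneous.sum
  intro i _
  have h := (hM a i).mul (isHomogeneous_C (Fin 3) (c i b))
  rw [add_zero] at h
  exact h

theorem exists_gl_row (u0 u1 : k) (hu : u0 ≠ 0 ∨ u1 ≠ 0) :
    ∃ g : GL (Fin 2) k, g.val 0 0 = u0 ∧ g.val 0 1 = u1 := by
  by_cases h0 : u0 ≠ 0
  · have hdet : (!![u0, u1; 0, 1] : Matrix (Fin 2) (Fin 2) k).det ≠ 0 := by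
      rw [Matrix.det_fin_two_of]; simpa using h0
    obtain ⟨g, hg⟩ := (Matrix.isUnit_iff_isUnit_det _).mpr (isUnit_iff_ne_zero.mpr hdet)
    exact ⟨g, by rw [hg]; rfl, by rw [hg]; rfl⟩
  · push_neg at h0
    have h1 : u1 ≠ 0 := by
      rcases hu with h | h
      · exact absurd h0 h
      · exact h
    have hdet : (!![u0, u1; 1, 0] : Matrix (Fin 2) (Fin 2) k).det ≠ 0 := by
      rw [Matrix.det_fin_two_of]; simpa using h1
    obtain ⟨g, hg⟩ := (Matrix.isUnit_iff_isUnit_det _).mpr (isUnit_iff_ne_zero.mpr hdet)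
    exact ⟨g, by rw [hg]; rfl, by rw [hg]; rfl⟩

theorem exists_gl_col (v0 v1 : k) (hv : v0 ≠ 0 ∨ v1 ≠ 0) :
    ∃ g : GL (Fin 2) k, g.val 0 1 = v0 ∧ g.val 1 1 = v1 := by
  by_cases h1 : v1 ≠ 0
  · have hdet : (!![1, v0; 0, v1] : Matrix (Fin 2) (Fin 2) k).det ≠ 0 := by
      rw [Matrix.det_fin_two_of]; simpa using h1
    obtain ⟨g, hg⟩ := (Matrix.isUnit_iff_isUnit_det _).mpr (isUnit_iff_ne_zero.mpr hdet)
    exact ⟨g, by rw [hg]; rfl, by rw [hg]; rfl⟩
  · push_neg at h1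
    have h0 : v0 ≠ 0 := by
      rcases hv with h | h
      · exact h
      · exact absurd h1 h
    have hdet : (!![0, v0; 1, v1] : Matrix (Fin 2) (Fin 2) k).det ≠ 0 := by
      rw [Matrix.det_fin_two_of]; simpa using h0
    obtain ⟨g, hg⟩ := (Matrix.isUnit_iff_isUnit_det _).mpr (isUnit_iff_ne_zero.mpr hdet)
    exact ⟨g, by rw [hg]; rfl, by rw [hg]; rfl⟩

theorem main (M : Matrix (Fin 2) (Fin 2) (MvPolynomial (Fin 3) k))
    (hM : ∀ a b : Fin 2, (M a b).IsHomogeneous 1) :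
    (∃ l₁ l₂ : MvPolynomial (Fin 3) k, l₁.IsHomogeneous 1 ∧ l₂.IsHomogeneous 1 ∧
      M.det = l₁ * l₂) ↔
    ∃ g h : GL (Fin 2) k,
      ((MvPolynomial.C : k →+* MvPolynomial (Fin 3) k).mapMatrix g.val * M *
        (MvPolynomial.C : k →+* MvPolynomial (Fin 3) k).mapMatrix h.val) 0 1 = 0 := by
  constructor
  · rintro ⟨l₁, l₂, hl₁, hl₂, hdet⟩
    have hfun : ∀ x, lf (M 0 0) x * lf (M 1 1) x - lf (M 0 1) x * lf (M 1 0) x
        = lf l₁ x * lf l₂ x := by
      intro x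
      have h := congrArg (eval x) hdet
      rw [Matrix.det_fin_two, map_sub, map_mul, map_mul, map_mul,
        eval_eq_lf _ (hM 0 0), eval_eq_lf _ (hM 1 1), eval_eq_lf _ (hM 0 1),
        eval_eq_lf _ (hM 1 0), eval_eq_lf _ hl₁, eval_eq_lf _ hl₂] at h
      exact h
    obtain ⟨u0, u1, v0, v1, hu, hv, huv⟩ :=
      core (lf (M 0 0)) (lf (M 0 1)) (lf (M 1 0)) (lf (M 1 1)) (lf l₁) (lf l₂) hfun
    obtain ⟨g, hg0, hg1⟩ := exists_gl_row u0 u1 hu
    obtain ⟨h, hh0, hh1⟩ := exists_gl_col v0 v1 hv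
    refine ⟨g, h, ?_⟩
    apply MvPolynomial.funext
    intro x
    rw [map_zero, Matrix.mul_apply, Fin.sum_univ_two, Matrix.mul_apply, Matrix.mul_apply,
      Fin.sum_univ_two, Fin.sum_univ_two]
    simp only [RingHom.mapMatrix_apply, Matrix.map_apply, map_add, map_mul, eval_C,
      hg0, hg1, hh0, hh1]
    rw [eval_eq_lf _ (hM 0 0), eval_eq_lf _ (hM 1 1), eval_eq_lf _ (hM 0 1),
      eval_eq_lf _ (hM 1 0)]
    linear_combination huv x
  · rintro ⟨g, h, hgh⟩
    set G := (MvPolynomial.C : k →+* MvPolynomial (Fin 3) k).mapMatrix g.val with hG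
    set H := (MvPolynomial.C : k →+* MvPolynomial (Fin 3) k).mapMatrix h.val with hH
    have hdg : g.val.det ≠ 0 := ((Matrix.isUnit_iff_isUnit_det g.val).mp g.isUnit).ne_zero
    have hdh : h.val.det ≠ 0 := ((Matrix.isUnit_iff_isUnit_det h.val).mp h.isUnit).ne_zero
    have hGd : G.det = C g.val.det := (RingHom.map_det C g.val).symm
    have hHd : H.det = C h.val.det := (RingHom.map_det C h.val).symm
    have hT : ∀ a b : Fin 2, ((G * M * H) a b).IsHomogeneous 1 :=
      hom_right h.val (G * M) (hom_left g.val M hM)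
    have key : C g.val.det * M.det * C h.val.det = (G * M * H) 0 0 * (G * M * H) 1 1 := by
      have h1 : (G * M * H).det = G.det * M.det * H.det := by
        rw [Matrix.det_mul, Matrix.det_mul]
      rw [Matrix.det_fin_two, hgh, zero_mul, sub_zero, hGd, hHd] at h1
      exact h1.symm
    set δ : k := (g.val.det * h.val.det)⁻¹ with hδ
    have hC : (C δ : MvPolynomial (Fin 3) k) * (C g.val.det * C h.val.det) = 1 := by
      rw [← map_mul, ← map_mul, hδ, inv_mul_cancel₀ (mul_ne_zero hdg hdh), map_one]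
    refine ⟨C δ * (G * M * H) 0 0, (G * M * H) 1 1, ?_, hT 1 1, ?_⟩
    · have h2 := (isHomogeneous_C (Fin 3) δ).mul (hT 0 0)
      rw [zero_add] at h2
      exact h2
    · linear_combination (C δ) * key - M.det * hC

end poly

end Groth.Agent.Lib.Conic2x2H4
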