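import Mathlib

/-!
# Automorphisms of a "norm-one torus" coordinate ring, abstract core (helper6)

`K ⊆ L` fields, `α ≠ β` in `L` with `α + β`, `α * β` in `K`, `σ : L →ₐ[K] L` swapping `α, β`.
`A` a `K`-algebra generated by `s, t` with `s² + e₁ s t + e₂ t² = 1`, and a `K`-algebra map
`ρ : A → L[T;T⁻¹]` with `ρ s + α ρ t = T`.  If every root of unity of `L` lies in `K`, every finite
group of `K`-linear ring automorphisms of `A` has exponent two and at most four elements.
-/

open LaurentPolynomial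
open scoped Polynomial TensorProduct

namespace Groth.Agent.Lib.ConicAutH6

section units
variable {L : Type*} [Field L]

theorem exists_eq_C_mul_T_of_isUnit {f : L[T;T⁻¹]} (hf : IsUnit f) :
    ∃ (c : L) (n : ℤ), c ≠ 0 ∧ f = C c * T n := by
  obtain ⟨g, hg⟩ := hf.exists_right_inv
  obtain ⟨n, f', hf'⟩ := exists_T_pow f
  obtain ⟨m, g', hg'⟩ := exists_T_pow g
  have h1 : f' * g' = Polynomial.X ^ (n + m) := by
    apply Polynomial.toLaurent_injective
    rw [map_mul, hf', hg', Polynomial.toLaurent_X_pow]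
    calc f * T n * (g * T m) = (f * g) * (T n * T m) := by ring
      _ = T ((n + m : ℕ) : ℤ) := by rw [hg, one_mul, ← T_add]; push_cast; rfl
  have h2 : f' ∣ Polynomial.X ^ (n + m) := ⟨g', h1.symm⟩
  obtain ⟨i, -, hi⟩ := (dvd_prime_pow Polynomial.prime_X _).1 h2
  obtain ⟨u, hu⟩ := hi.symm
  obtain ⟨c, hc, hcu⟩ := Polynomial.isUnit_iff.1 u.isUnit
  refine ⟨c, (i : ℤ) - n, hc.ne_zero, ?_⟩
  have h3 : f * T n = T i * C c := by
    rw [← hf', ← hu, ← hcu, map_mul, Polynomial.toLaurent_X_pow, Polynomial.toLaurent_C]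
  calc f = f * T n * T (-n) := by rw [mul_T_assoc, add_neg_cancel, T_zero, mul_one]
    _ = T i * C c * T (-n) := by rw [h3]
    _ = C c * T (i - n) := by rw [sub_eq_add_neg, T_add]; ring

theorem ringHom_ext_T {S : Type*} [Semiring S] {f g : L[T;T⁻¹] →+* S}
    (hC : ∀ a, f (C a) = g (C a)) (h1 : f (T 1) = g (T 1)) (h2 : f (T (-1)) = g (T (-1))) :
    f = g := by
  refine RingHom.ext fun p => ?_
  induction p using LaurentPolynomial.induction_on' with
  | add p q hp hq => rw [map_add, map_add, hp, hq]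
  | C_mul_T n a =>
    rw [map_mul, map_mul, hC]
    congr 1
    rcases Int.eq_nat_or_neg n with ⟨k, rfl | rfl⟩
    · have : (T (k : ℤ) : L[T;T⁻¹]) = T 1 ^ k := by rw [T_pow, mul_one]
      rw [this, map_pow, map_pow, h1]
    · have : (T (-(k : ℤ)) : L[T;T⁻¹]) = T (-1) ^ k := by rw [T_pow]; congr 1; ring
      rw [this, map_pow, map_pow, h2]

theorem C_mul_T_ne_zero {c : L} (hc : c ≠ 0) (n : ℤ) : (C c * T n : L[T;T⁻¹]) ≠ 0 := by
  intro h
  have := degree_C_mul_T n c hc
  rw [h, degree_zero] at this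
  exact absurd this (by simp)

theorem C_mul_T_inj {c c' : L} {n n' : ℤ} (hc : c ≠ 0)
    (h : (C c * T n : L[T;T⁻¹]) = C c' * T n') : c = c' ∧ n = n' := by
  have hc' : c' ≠ 0 := by
    rintro rfl
    rw [map_zero, zero_mul] at h
    exact C_mul_T_ne_zero hc n h
  have hn : n = n' := by
    have h1 := degree_C_mul_T n c hc
    have h2 := degree_C_mul_T n' c' hc'
    rw [h, h2] at h1
    exact_mod_cast h1.symm
  subst hn
  refine ⟨?_, rfl⟩
  have h3 : (C c : L[T;T⁻¹]) = C c' := (isUnit_T n).mul_left_injective h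
  have := congrArg (fun p : L[T;T⁻¹] => p.coeff 0) h3
  simpa using this

theorem zpow_C_mul_T (u : (L[T;T⁻¹])ˣ) {c : L} (hc : c ≠ 0) {m : ℤ}
    (hu : (u : L[T;T⁻¹]) = C c * T m) (n : ℤ) :
    ((u ^ n : (L[T;T⁻¹])ˣ) : L[T;T⁻¹]) = C (c ^ n) * T (m * n) := by
  have hinv : ((u⁻¹ : (L[T;T⁻¹])ˣ) : L[T;T⁻¹]) = C c⁻¹ * T (-m) := by
    rw [Units.inv_eq_of_mul_eq_one_right]
    rw [hu]
    calc C c * T m * (C c⁻¹ * T (-m)) = C (c * c⁻¹) * (T m * T (-m)) := by rw [map_mul]; ring
      _ = 1 := by rw [mul_inv_cancel₀ hc, ← T_add, add_neg_cancel, T_zero, map_one, mul_one]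
  induction n using Int.induction_on with
  | zero => simp
  | succ k ih =>
    rw [zpow_add_one, Units.val_mul, ih, hu, zpow_add_one₀ hc, map_mul, mul_add, mul_one, T_add]
    ring
  | pred k ih =>
    rw [zpow_sub_one, Units.val_mul, ih, hinv, zpow_sub_one₀ hc, map_mul, mul_sub, mul_one,
      sub_eq_add_neg, T_add]
    ring

end units

end Groth.Agent.Lib.ConicAutH6
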