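import Groth.Agent.Lib.ConicAut1_helper6

open LaurentPolynomial
open scoped Polynomial TensorProduct

namespace Groth.Agent.Lib.ConicAutH6

section core

variable {K L A : Type*} [Field K] [Field L] [Algebra K L] [CommRing A] [Algebra K A]

/-- The hypotheses of the abstract core. -/
structure Hyp (α β : L) (e1 e2 : K) (s t : A) (ρ : A →ₐ[K] L[T;T⁻¹]) : Prop where
  hne : α ≠ β
  hsum : algebraMap K L e1 = α + β
  hprod : algebraMap K L e2 = α * β
  hrel : s ^ 2 + algebraMap K A e1 * (s * t) + algebraMap K A e2 * t ^ 2 = 1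
  hgen : Algebra.adjoin K {s, t} = ⊤
  hρ1 : ρ s + C α * ρ t = T 1

variable {α β : L} {e1 e2 : K} {s t : A} {ρ : A →ₐ[K] L[T;T⁻¹]}

theorem rho_algebraMap (ρ : A →ₐ[K] L[T;T⁻¹]) (k : K) :
    ρ (algebraMap K A k) = C (algebraMap K L k) := by
  rw [ρ.commutes, LaurentPolynomial.algebraMap_apply]

/-- `w h = ρ (h s) + α ρ (h t)`. -/
noncomputable def w (α : L) (s t : A) (ρ : A →ₐ[K] L[T;T⁻¹]) (h : A →ₐ[K] A) : L[T;T⁻¹] :=
  ρ (h s) + C α * ρ (h t)

theorem w_mul_wb (H : Hyp α β e1 e2 s t ρ) (h : A →ₐ[K] A) :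
    w α s t ρ h * w β s t ρ h = 1 := by
  have h0 := congrArg (fun x => ρ (h x)) H.hrel
  simp only [map_add, map_mul, map_pow, map_one, AlgHom.commutes] at h0
  rw [← AlgHom.commutes ρ, ← AlgHom.commutes ρ, rho_algebraMap, rho_algebraMap, H.hsum,
    H.hprod, map_add, map_mul] at h0
  unfold w
  linear_combination h0

/-- `w h` as a unit. -/
noncomputable def wUnit (H : Hyp α β e1 e2 s t ρ) (h : A →ₐ[K] A) : (L[T;T⁻¹])ˣ :=
  ⟨w α s t ρ h, w β s t ρ h, w_mul_wb H h, by rw [mul_comm]; exact w_mul_wb H h⟩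

@[simp] theorem wUnit_val (H : Hyp α β e1 e2 s t ρ) (h : A →ₐ[K] A) :
    ((wUnit H h : (L[T;T⁻¹])ˣ) : L[T;T⁻¹]) = w α s t ρ h := rfl

@[simp] theorem wUnit_inv (H : Hyp α β e1 e2 s t ρ) (h : A →ₐ[K] A) :
    (((wUnit H h)⁻¹ : (L[T;T⁻¹])ˣ) : L[T;T⁻¹]) = w β s t ρ h := rfl

theorem w_id (H : Hyp α β e1 e2 s t ρ) : w α s t ρ (AlgHom.id K A) = T 1 := H.hρ1

theorem wb_id (H : Hyp α β e1 e2 s t ρ) : w β s t ρ (AlgHom.id K A) = T (-1) := by
  have h1 := w_mul_wb H (AlgHom.id K A)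
  rw [w_id H] at h1
  calc w β s t ρ (AlgHom.id K A) = T (-1) * (T 1 * w β s t ρ (AlgHom.id K A)) := by
        rw [← mul_assoc, ← T_add]; simp
    _ = T (-1) := by rw [h1, mul_one]

theorem w_sub_wb (h : A →ₐ[K] A) :
    w α s t ρ h - w β s t ρ h = C (α - β) * ρ (h t) := by
  unfold w; rw [map_sub]; ring

theorem rho_t (H : Hyp α β e1 e2 s t ρ) (h : A →ₐ[K] A) :
    ρ (h t) = C (α - β)⁻¹ * (w α s t ρ h - w β s t ρ h) := by
  rw [w_sub_wb, ← mul_assoc, ← map_mul, inv_mul_cancel₀ (sub_ne_zero.2 H.hne), map_one, one_mul]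

theorem rho_s (h : A →ₐ[K] A) :
    ρ (h s) = w α s t ρ h - C α * ρ (h t) := by
  unfold w; ring

/-- The `L`-algebra endomorphism of `L[T;T⁻¹]` with `T ↦ w h`. -/
noncomputable def Γ (H : Hyp α β e1 e2 s t ρ) (h : A →ₐ[K] A) : L[T;T⁻¹] →+* L[T;T⁻¹] :=
  LaurentPolynomial.eval₂ (C : L →+* L[T;T⁻¹]) (wUnit H h)

@[simp] theorem Γ_C (H : Hyp α β e1 e2 s t ρ) (h : A →ₐ[K] A) (a : L) : Γ H h (C a) = C a := by
  unfold Γ; rw [eval₂_C]

theorem Γ_T (H : Hyp α β e1 e2 s t ρ) (h : A →ₐ[K] A) (n : ℤ) :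
    Γ H h (T n) = (((wUnit H h) ^ n : (L[T;T⁻¹])ˣ) : L[T;T⁻¹]) := by
  unfold Γ; rw [eval₂_T]

@[simp] theorem Γ_T_one (H : Hyp α β e1 e2 s t ρ) (h : A →ₐ[K] A) :
    Γ H h (T 1) = w α s t ρ h := by
  rw [Γ_T, zpow_one, wUnit_val]

@[simp] theorem Γ_T_neg_one (H : Hyp α β e1 e2 s t ρ) (h : A →ₐ[K] A) :
    Γ H h (T (-1)) = w β s t ρ h := by
  rw [Γ_T, zpow_neg_one, wUnit_inv]

/-- `Γ` as a `K`-algebra hom. -/
noncomputable def ΓK (H : Hyp α β e1 e2 s t ρ) (h : A →ₐ[K] A) : L[T;T⁻¹] →ₐ[K] L[T;T⁻¹] :=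
  { Γ H h with
    commutes' := fun k => by
      change Γ H h (algebraMap K L[T;T⁻¹] k) = algebraMap K L[T;T⁻¹] k
      rw [LaurentPolynomial.algebraMap_apply, Γ_C] }

theorem ΓK_apply (H : Hyp α β e1 e2 s t ρ) (h : A →ₐ[K] A) (p : L[T;T⁻¹]) :
    ΓK H h p = Γ H h p := rfl

theorem Γ_rho (H : Hyp α β e1 e2 s t ρ) (h : A →ₐ[K] A) (a : A) :
    Γ H h (ρ a) = ρ (h a) := by
  have key : (ΓK H h).comp ρ = ρ.comp h := by
    apply AlgHom.ext_of_adjoin_eq_top H.hgen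
    have ht : Γ H h (ρ t) = ρ (h t) := by
      have h1 := rho_t H (AlgHom.id K A)
      simp only [AlgHom.id_apply] at h1
      rw [h1, w_id H, wb_id H, map_mul, map_sub, Γ_C, Γ_T_one, Γ_T_neg_one, ← rho_t H h]
    intro x hx
    rcases hx with rfl | rfl
    · have h2 := rho_s (α := α) (s := x) (t := t) (ρ := ρ) (AlgHom.id K A)
      simp only [AlgHom.id_apply] at h2
      change Γ H h (ρ x) = ρ (h x)
      rw [h2, w_id H, map_sub, map_mul, Γ_C, Γ_T_one, ht, ← rho_s h]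
    · exact ht
  exact congrArg (fun f => f a) key

theorem w_comp (H : Hyp α β e1 e2 s t ρ) (γ : L) (g h : A →ₐ[K] A) :
    w γ s t ρ (g.comp h) = Γ H g (w γ s t ρ h) := by
  unfold w
  rw [map_add, map_mul, Γ_C, Γ_rho, Γ_rho]
  rfl


section inj

/-- The element `z = α ⊗ t + 1 ⊗ s` of `L ⊗ A`. -/
noncomputable def zB (γ : L) (s t : A) : L ⊗[K] A := γ ⊗ₜ[K] t + (1 : L) ⊗ₜ[K] s

theorem zB_mul (H : Hyp α β e1 e2 s t ρ) : zB (K := K) α s t * zB β s t = 1 := by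
  unfold zB
  have h1 : (α * β) ⊗ₜ[K] (t * t) = (1 : L) ⊗ₜ[K] (algebraMap K A e2 * t ^ 2) := by
    rw [← H.hprod, Algebra.algebraMap_eq_smul_one, TensorProduct.smul_tmul, Algebra.smul_def,
      Algebra.algebraMap_eq_smul_one, pow_two, Algebra.smul_def]
  have h2 : α ⊗ₜ[K] (t * s) + β ⊗ₜ[K] (s * t) = (1 : L) ⊗ₜ[K] (algebraMap K A e1 * (s * t)) := by
    rw [mul_comm t s, ← TensorProduct.add_tmul, ← H.hsum, Algebra.algebraMap_eq_smul_one,
      TensorProduct.smul_tmul, Algebra.smul_def]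
  calc (α ⊗ₜ[K] t + (1 : L) ⊗ₜ[K] s) * (β ⊗ₜ[K] t + (1 : L) ⊗ₜ[K] s)
      = (α * β) ⊗ₜ[K] (t * t) + (α ⊗ₜ[K] (t * s) + β ⊗ₜ[K] (s * t)) + (1 : L) ⊗ₜ[K] (s * s) := by
        simp only [mul_add, add_mul, Algebra.TensorProduct.tmul_mul_tmul, mul_one, one_mul]
        try abel
    _ = (1 : L) ⊗ₜ[K] (s ^ 2 + algebraMap K A e1 * (s * t) + algebraMap K A e2 * t ^ 2) := by
        rw [h1, h2, TensorProduct.tmul_add, TensorProduct.tmul_add, ← pow_two s]
        abel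
    _ = 1 := by rw [H.hrel]; rfl

noncomputable def zUnit (H : Hyp α β e1 e2 s t ρ) : (L ⊗[K] A)ˣ :=
  ⟨zB α s t, zB β s t, zB_mul H, by rw [mul_comm]; exact zB_mul H⟩

/-- `Ψ₀ : L ⊗ A → L[T;T⁻¹]`. -/
noncomputable def Ψ₀ (ρ : A →ₐ[K] L[T;T⁻¹]) : (L ⊗[K] A) →ₐ[L] L[T;T⁻¹] :=
  Algebra.TensorProduct.lift (Algebra.ofId L L[T;T⁻¹]) ρ (fun _ _ => Commute.all _ _)

theorem Ψ₀_tmul (ρ : A →ₐ[K] L[T;T⁻¹]) (l : L) (a : A) : Ψ₀ ρ (l ⊗ₜ[K] a) = C l * ρ a := by
  unfold Ψ₀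
  rw [Algebra.TensorProduct.lift_tmul]
  rfl

/-- `Ψ₁ : L[T;T⁻¹] → L ⊗ A`, `T ↦ z`. -/
noncomputable def Ψ₁ (H : Hyp α β e1 e2 s t ρ) : L[T;T⁻¹] →+* (L ⊗[K] A) :=
  LaurentPolynomial.eval₂ (algebraMap L (L ⊗[K] A)) (zUnit H)

theorem Ψ₀_Ψ₁ (H : Hyp α β e1 e2 s t ρ) (p : L[T;T⁻¹]) : Ψ₀ ρ (Ψ₁ H p) = p := by
  have key : ((Ψ₀ ρ : (L ⊗[K] A) →+* L[T;T⁻¹]).comp (Ψ₁ H)) = RingHom.id _ := by
    apply ringHom_ext_T
    · intro a
      simp only [RingHom.comp_apply, RingHom.id_apply, Ψ₁, eval₂_C]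
      rw [Algebra.TensorProduct.algebraMap_apply]
      change Ψ₀ ρ (_ ⊗ₜ[K] (1 : A)) = _
      rw [Ψ₀_tmul, map_one, mul_one]
      rfl
    · simp only [RingHom.comp_apply, RingHom.id_apply, Ψ₁, eval₂_T, zpow_one]
      change Ψ₀ ρ (zB α s t) = _
      unfold zB
      rw [map_add, Ψ₀_tmul, Ψ₀_tmul, map_one, one_mul, add_comm]
      exact H.hρ1
    · simp only [RingHom.comp_apply, RingHom.id_apply, Ψ₁, eval₂_T, zpow_neg_one]
      change Ψ₀ ρ (zB β s t) = _
      unfold zB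
      rw [map_add, Ψ₀_tmul, Ψ₀_tmul, map_one, one_mul, add_comm]
      exact wb_id H
  exact congrArg (fun f => f p) key

theorem Ψ₁_surjective (H : Hyp α β e1 e2 s t ρ) : Function.Surjective (Ψ₁ H) := by
  have hl : ∀ l : L, l ⊗ₜ[K] (1 : A) ∈ (Ψ₁ H).range := fun l => ⟨C l, by
    simp only [Ψ₁, eval₂_C]; rw [Algebra.TensorProduct.algebraMap_apply]; rfl⟩
  have hz : zB α s t ∈ (Ψ₁ H).range := ⟨T 1, by simp only [Ψ₁, eval₂_T, zpow_one]; rfl⟩
  have hzb : zB β s t ∈ (Ψ₁ H).range := ⟨T (-1), by simp only [Ψ₁, eval₂_T, zpow_neg_one]; rfl⟩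
  have ht : (1 : L) ⊗ₜ[K] t ∈ (Ψ₁ H).range := by
    have h1 : (α - β) ⊗ₜ[K] t ∈ (Ψ₁ H).range := by
      have := Subring.sub_mem _ hz hzb
      unfold zB at this
      rwa [add_sub_add_right_eq_sub, ← TensorProduct.sub_tmul] at this
    have h2 := Subring.mul_mem _ (hl (α - β)⁻¹) h1
    rwa [Algebra.TensorProduct.tmul_mul_tmul, inv_mul_cancel₀ (sub_ne_zero.2 H.hne), one_mul]
      at h2
  have hs : (1 : L) ⊗ₜ[K] s ∈ (Ψ₁ H).range := by
    have h1 := Subring.mul_mem _ (hl α) ht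
    rw [Algebra.TensorProduct.tmul_mul_tmul, mul_one, one_mul] at h1
    have := Subring.sub_mem _ hz h1
    unfold zB at this
    rwa [add_sub_cancel_left] at this
  -- the K-subalgebra of those `a` with `1 ⊗ a` in the range
  let S : Subalgebra K A :=
    { carrier := {a | (1 : L) ⊗ₜ[K] a ∈ (Ψ₁ H).range}
      mul_mem' := fun {a b} ha hb => by
        have := Subring.mul_mem _ (show _ ∈ (Ψ₁ H).range from ha) (show _ ∈ (Ψ₁ H).range from hb)
        rwa [Algebra.TensorProduct.tmul_mul_tmul, one_mul] at this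
      add_mem' := fun {a b} ha hb => by
        have := Subring.add_mem _ (show _ ∈ (Ψ₁ H).range from ha) (show _ ∈ (Ψ₁ H).range from hb)
        rwa [← TensorProduct.tmul_add] at this
      algebraMap_mem' := fun k => by
        change (1 : L) ⊗ₜ[K] (algebraMap K A k) ∈ (Ψ₁ H).range
        rw [Algebra.algebraMap_eq_smul_one, ← TensorProduct.smul_tmul]
        exact hl _ }
  have hS : S = ⊤ := by
    rw [← top_le_iff, ← H.hgen]
    apply Algebra.adjoin_le
    rintro x (rfl | rfl)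
    · exact hs
    · exact ht
  intro b
  rw [← RingHom.mem_range]
  induction b using TensorProduct.induction_on with
  | zero => exact Subring.zero_mem _
  | tmul l a =>
    have ha : a ∈ S := hS ▸ Algebra.mem_top
    have := Subring.mul_mem _ (hl l) ha
    rwa [Algebra.TensorProduct.tmul_mul_tmul, mul_one, one_mul] at this
  | add x y hx hy => exact Subring.add_mem _ hx hy

theorem rho_injective (H : Hyp α β e1 e2 s t ρ) : Function.Injective ρ := by
  have h0 : Function.Injective (Ψ₀ ρ) := by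
    intro x y hxy
    obtain ⟨p, rfl⟩ := Ψ₁_surjective H x
    obtain ⟨q, rfl⟩ := Ψ₁_surjective H y
    rw [Ψ₀_Ψ₁, Ψ₀_Ψ₁] at hxy
    rw [hxy]
  have h1 : Function.Injective (fun a : A => (1 : L) ⊗ₜ[K] a) :=
    Algebra.TensorProduct.includeRight_injective (R := K) (A := L) (B := A)
      (algebraMap K L).injective
  intro a b hab
  apply h1
  apply h0
  change Ψ₀ ρ ((1 : L) ⊗ₜ[K] a) = Ψ₀ ρ ((1 : L) ⊗ₜ[K] b)
  rw [Ψ₀_tmul, Ψ₀_tmul, hab]

end inj


section sigma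

/-- `T⁻¹` as a unit. -/
noncomputable def TinvUnit (L : Type*) [Field L] : (L[T;T⁻¹])ˣ :=
  ⟨T (-1), T 1, by rw [← T_add]; simp, by rw [← T_add]; simp⟩

/-- `σ` on coefficients, `T ↦ T⁻¹`. -/
noncomputable def σP (σ : L →ₐ[K] L) : L[T;T⁻¹] →+* L[T;T⁻¹] :=
  LaurentPolynomial.eval₂ ((C : L →+* L[T;T⁻¹]).comp (σ : L →+* L)) (TinvUnit L)

@[simp] theorem σP_C (σ : L →ₐ[K] L) (a : L) : σP σ (C a) = C (σ a) := by
  unfold σP; rw [eval₂_C]; rfl

theorem σP_T (σ : L →ₐ[K] L) (n : ℤ) : σP σ (T n) = T (-n) := by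
  unfold σP
  rw [eval₂_T, zpow_C_mul_T (TinvUnit L) (c := 1) one_ne_zero (m := -1)
    (by change T (-1) = _; rw [map_one, one_mul]) n, one_zpow, map_one, one_mul]
  congr 1; ring

/-- `σP` as a `K`-algebra hom. -/
noncomputable def σPK (σ : L →ₐ[K] L) : L[T;T⁻¹] →ₐ[K] L[T;T⁻¹] :=
  { σP σ with
    commutes' := fun k => by
      change σP σ (algebraMap K L[T;T⁻¹] k) = algebraMap K L[T;T⁻¹] k
      rw [LaurentPolynomial.algebraMap_apply, σP_C, σ.commutes] }

theorem σP_rho (H : Hyp α β e1 e2 s t ρ) (σ : L →ₐ[K] L) (hσα : σ α = β) (hσβ : σ β = α)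
    (a : A) : σP σ (ρ a) = ρ a := by
  have key : (σPK σ).comp ρ = ρ := by
    apply AlgHom.ext_of_adjoin_eq_top H.hgen
    have h1 := rho_t H (AlgHom.id K A)
    simp only [AlgHom.id_apply] at h1
    rw [w_id H, wb_id H] at h1
    have ht : σP σ (ρ t) = ρ t := by
      rw [h1, map_mul, map_sub, σP_C, σP_T, σP_T, map_inv₀, map_sub, hσα, hσβ, neg_neg]
      have : (β - α)⁻¹ = -(α - β)⁻¹ := by rw [← neg_sub, neg_inv]
      rw [this, map_neg]
      ring
    intro x hx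
    rcases hx with rfl | rfl
    · have h2 := rho_s (α := α) (s := x) (t := t) (ρ := ρ) (AlgHom.id K A)
      simp only [AlgHom.id_apply] at h2
      have h3 := rho_s (α := β) (s := x) (t := t) (ρ := ρ) (AlgHom.id K A)
      simp only [AlgHom.id_apply] at h3
      change σP σ (ρ x) = ρ x
      rw [w_id H] at h2
      rw [wb_id H] at h3
      calc σP σ (ρ x) = σP σ (T 1 - C α * ρ t) := by rw [← h2]
        _ = T (-1) - C β * ρ t := by rw [map_sub, map_mul, σP_C, σP_T, ht, hσα]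
        _ = ρ x := h3.symm
    · exact ht
  exact congrArg (fun f => f a) key

theorem σP_w (H : Hyp α β e1 e2 s t ρ) (σ : L →ₐ[K] L) (hσα : σ α = β) (hσβ : σ β = α)
    (h : A →ₐ[K] A) : σP σ (w α s t ρ h) = w β s t ρ h := by
  unfold w
  rw [map_add, map_mul, σP_C, σP_rho H σ hσα hσβ, σP_rho H σ hσα hσβ, hσα]

end sigma


section main

/-- A `K`-linear ring automorphism as an algebra hom. -/
def toAlg (g : A ≃+* A) (hg : ∀ k : K, g (algebraMap K A k) = algebraMap K A k) : A →ₐ[K] A :=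
  { g.toRingHom with commutes' := hg }

@[simp] theorem toAlg_apply (g : A ≃+* A) (hg : ∀ k : K, g (algebraMap K A k) = algebraMap K A k)
    (a : A) : toAlg g hg a = g a := rfl

/-- `W g = ρ (g s) + α ρ (g t)`. -/
noncomputable def W (α : L) (s t : A) (ρ : A →ₐ[K] L[T;T⁻¹]) (g : A ≃+* A) : L[T;T⁻¹] :=
  ρ (g s) + C α * ρ (g t)

theorem W_eq_w (γ : L) (g : A ≃+* A) (hg : ∀ k : K, g (algebraMap K A k) = algebraMap K A k) :
    W γ s t ρ g = w γ s t ρ (toAlg g hg) := rfl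

theorem W_one (H : Hyp α β e1 e2 s t ρ) : W α s t ρ 1 = T 1 := H.hρ1

theorem W_mul (H : Hyp α β e1 e2 s t ρ) (γ : L) (g h : A ≃+* A)
    (hg : ∀ k : K, g (algebraMap K A k) = algebraMap K A k)
    (hh : ∀ k : K, h (algebraMap K A k) = algebraMap K A k) :
    W γ s t ρ (g * h) = Γ H (toAlg g hg) (W γ s t ρ h) := by
  rw [W_eq_w γ h hh, ← w_comp H γ]
  rfl

theorem Γ_C_mul_T (H : Hyp α β e1 e2 s t ρ) (h : A →ₐ[K] A) {c : L} (hc : c ≠ 0) {n : ℤ}
    (hw : w α s t ρ h = C c * T n) (d : L) (m : ℤ) :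
    Γ H h (C d * T m) = C (d * c ^ m) * T (n * m) := by
  rw [map_mul, Γ_C, Γ_T, zpow_C_mul_T (wUnit H h) hc (by rw [wUnit_val]; exact hw) m, map_mul,
    mul_assoc]

theorem wb_eq (H : Hyp α β e1 e2 s t ρ) (h : A →ₐ[K] A) {c : L} (hc : c ≠ 0) {n : ℤ}
    (hw : w α s t ρ h = C c * T n) : w β s t ρ h = C c⁻¹ * T (-n) := by
  rw [← wUnit_inv H h, ← zpow_neg_one,
    zpow_C_mul_T (wUnit H h) hc (by rw [wUnit_val]; exact hw) (-1), zpow_neg_one, mul_neg_one]

theorem main (H : Hyp α β e1 e2 s t ρ) (σ : L →ₐ[K] L) (hσα : σ α = β) (hσβ : σ β = α)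
    (hroot : ∀ (x : L) (n : ℕ), 0 < n → x ^ n = 1 → x ∈ (algebraMap K L).range)
    (G : Subgroup (A ≃+* A)) [Finite G]
    (hG : ∀ g ∈ G, ∀ k : K, g (algebraMap K A k) = algebraMap K A k) :
    (∀ g ∈ G, g ^ 2 = 1) ∧ Nat.card G ≤ 4 := by
  classical
  -- every `W g` is a monomial
  have hmono : ∀ g ∈ G, ∃ (c : L) (n : ℤ), c ≠ 0 ∧ W α s t ρ g = C c * T n := by
    intro g hg
    have := exists_eq_C_mul_T_of_isUnit (wUnit H (toAlg g (hG g hg))).isUnit
    simpa only [wUnit_val, ← W_eq_w] using this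
  -- injectivity of `W` on `K`-linear automorphisms
  have hinj : ∀ g ∈ G, ∀ h ∈ G, W α s t ρ g = W α s t ρ h → g = h := by
    intro g hg h hh hgh
    have hu : wUnit H (toAlg g (hG g hg)) = wUnit H (toAlg h (hG h hh)) := Units.ext hgh
    have hb : w β s t ρ (toAlg g (hG g hg)) = w β s t ρ (toAlg h (hG h hh)) := by
      rw [← wUnit_inv H, ← wUnit_inv H, hu]
    have ht : ρ (g t) = ρ (h t) := by
      have h1 := rho_t H (toAlg g (hG g hg))
      have h2 := rho_t H (toAlg h (hG h hh))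
      rw [toAlg_apply] at h1 h2
      have hgh' : w α s t ρ (toAlg g (hG g hg)) = w α s t ρ (toAlg h (hG h hh)) := hgh
      rw [h1, h2, hb, hgh']
    have hs : ρ (g s) = ρ (h s) := by
      have h1 := rho_s (α := α) (s := s) (t := t) (ρ := ρ) (toAlg g (hG g hg))
      have h2 := rho_s (α := α) (s := s) (t := t) (ρ := ρ) (toAlg h (hG h hh))
      rw [toAlg_apply, toAlg_apply] at h1 h2
      have hgh' : w α s t ρ (toAlg g (hG g hg)) = w α s t ρ (toAlg h (hG h hh)) := hgh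
      rw [h1, h2, ht, hgh']
    have hinjρ := rho_injective H
    have e : toAlg g (hG g hg) = toAlg h (hG h hh) := by
      apply AlgHom.ext_of_adjoin_eq_top H.hgen
      intro x hx
      rcases hx with rfl | rfl
      · exact hinjρ hs
      · exact hinjρ ht
    exact RingEquiv.ext fun x => congrArg (fun f => f x) e
  -- the shape of `W g`
  have hshape : ∀ g ∈ G, ∃ c : L, c ≠ 0 ∧
      ((W α s t ρ g = C c * T 1 ∧ (c = 1 ∨ c = -1)) ∨ W α s t ρ g = C c * T (-1)) := by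
    intro g hg
    obtain ⟨c, n, hc, hW⟩ := hmono g hg
    obtain ⟨c', m, hc', hW'⟩ := hmono g⁻¹ (G.inv_mem hg)
    have hw : w α s t ρ (toAlg g (hG g hg)) = C c * T n := by rw [← W_eq_w]; exact hW
    -- n * m = 1
    have h1 : (C 1 * T 1 : L[T;T⁻¹]) = C (c' * c ^ m) * T (n * m) := by
      rw [← Γ_C_mul_T H (toAlg g (hG g hg)) hc hw, ← hW',
        ← W_mul H α g g⁻¹ (hG g hg) (hG g⁻¹ (G.inv_mem hg)), mul_inv_cancel, W_one H, map_one,
        one_mul]
    have hnm : n * m = 1 := ((C_mul_T_inj one_ne_zero h1).2).symm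
    refine ⟨c, hc, ?_⟩
    rcases Int.eq_one_or_neg_one_of_mul_eq_one hnm with rfl | rfl
    · left
      refine ⟨hW, ?_⟩
      -- σ c = c⁻¹
      have hσc : σ c = c⁻¹ := by
        have h2 := σP_w H σ hσα hσβ (toAlg g (hG g hg))
        rw [hw, wb_eq H _ hc hw, map_mul, σP_C, σP_T] at h2
        exact ((C_mul_T_inj (inv_ne_zero hc) h2.symm).1).symm
      -- finite order
      obtain ⟨k, hk, hgk⟩ := (isOfFinOrder_of_finite (⟨g, hg⟩ : G)).exists_pow_eq_one
      have hgk' : g ^ k = 1 := by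
        have := congrArg Subtype.val hgk
        simpa using this
      have hpow : ∀ j : ℕ, W α s t ρ (g ^ j) = C (c ^ j) * T 1 := by
        intro j
        induction j with
        | zero => rw [pow_zero, pow_zero, map_one, one_mul, W_one H]
        | succ j ih =>
          rw [pow_succ', W_mul H α g (g ^ j) (hG g hg) (hG _ (G.pow_mem hg j)), ih,
            Γ_C_mul_T H _ hc hw, zpow_one, mul_one, pow_succ]
      have h3 := hpow k
      rw [hgk', W_one H] at h3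
      have h4 : c ^ k = 1 := by
        have : (C 1 * T 1 : L[T;T⁻¹]) = C (c ^ k) * T 1 := by rw [map_one, one_mul]; exact h3
        exact ((C_mul_T_inj one_ne_zero this).1).symm
      obtain ⟨x, rfl⟩ := hroot c k hk h4
      rw [σ.commutes] at hσc
      have h5 : (algebraMap K L x - 1) * (algebraMap K L x + 1) = 0 := by
        have : algebraMap K L x * algebraMap K L x = 1 := by
          nth_rewrite 2 [hσc]
          exact mul_inv_cancel₀ hc
        linear_combination this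
      rcases mul_eq_zero.1 h5 with h6 | h6
      · left; exact sub_eq_zero.1 h6
      · right; exact eq_neg_of_add_eq_zero_left h6
    · right; exact hW
  -- exponent two
  have hsq : ∀ g ∈ G, g ^ 2 = 1 := by
    intro g hg
    apply hinj _ (G.pow_mem hg 2) _ G.one_mem
    rw [W_one H, pow_two, W_mul H α g g (hG g hg) (hG g hg)]
    obtain ⟨c, hc, h | h⟩ := hshape g hg
    · obtain ⟨hW, hc1⟩ := h
      have hw : w α s t ρ (toAlg g (hG g hg)) = C c * T 1 := by rw [← W_eq_w]; exact hW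
      rw [hW, Γ_C_mul_T H _ hc hw, zpow_one, mul_one]
      rcases hc1 with rfl | rfl <;> simp
    · have hw : w α s t ρ (toAlg g (hG g hg)) = C c * T (-1) := by rw [← W_eq_w]; exact h
      rw [h, Γ_C_mul_T H _ hc hw, zpow_neg_one, mul_inv_cancel₀ hc, map_one, one_mul]
      norm_num
  refine ⟨hsq, ?_⟩
  -- counting
  have hS : ∃ S : Set L[T;T⁻¹], S.Finite ∧ S.ncard ≤ 4 ∧ ∀ g ∈ G, W α s t ρ g ∈ S := by
    by_cases hex : ∃ h₀ ∈ G, ∃ c₀ : L, c₀ ≠ 0 ∧ W α s t ρ h₀ = C c₀ * T (-1)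
    · obtain ⟨h₀, hh₀, c₀, hc₀, hW₀⟩ := hex
      refine ⟨{C 1 * T 1, C (-1) * T 1, C c₀ * T (-1), C (-c₀) * T (-1)}, Set.toFinite _, ?_, ?_⟩
      · refine (Set.ncard_insert_le _ _).trans ?_
        refine (Nat.add_le_add_right (Set.ncard_insert_le _ _) 1).trans ?_
        refine (Nat.add_le_add_right (Nat.add_le_add_right (Set.ncard_insert_le _ _) 1) 1).trans ?_
        rw [Set.ncard_singleton]
      · intro g hg
        obtain ⟨c, hc, h | h⟩ := hshape g hg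
        · obtain ⟨hW, rfl | rfl⟩ := h
          · rw [hW]; simp
          · rw [hW]; simp
        · -- look at h₀ * g
          have hw₀ : w α s t ρ (toAlg h₀ (hG h₀ hh₀)) = C c₀ * T (-1) := by
            rw [← W_eq_w]; exact hW₀
          have h1 : W α s t ρ (h₀ * g) = C (c * c₀⁻¹) * T 1 := by
            rw [W_mul H α h₀ g (hG h₀ hh₀) (hG g hg), h, Γ_C_mul_T H _ hc₀ hw₀, zpow_neg_one]
            norm_num
          have hcc : c * c₀⁻¹ ≠ 0 := mul_ne_zero hc (inv_ne_zero hc₀)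
          obtain ⟨c'', hc'', h2 | h2⟩ := hshape (h₀ * g) (G.mul_mem hh₀ hg)
          · obtain ⟨hW2, hc2⟩ := h2
            rw [h1] at hW2
            have h3 := (C_mul_T_inj hcc hW2).1
            rw [← h3] at hc2
            rw [h]
            rcases hc2 with h4 | h4
            · have : c = c₀ := by
                field_simp at h4
                exact h4
              rw [this]; simp
            · have : c = -c₀ := by
                field_simp at h4
                exact h4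
              rw [this]; simp
          · rw [h1] at h2
            have h3 := (C_mul_T_inj hcc h2).2
            norm_num at h3
    · refine ⟨{C 1 * T 1, C (-1) * T 1}, Set.toFinite _, ?_, ?_⟩
      · refine (Set.ncard_insert_le _ _).trans ?_
        rw [Set.ncard_singleton]
        norm_num
      · intro g hg
        obtain ⟨c, hc, h | h⟩ := hshape g hg
        · obtain ⟨hW, rfl | rfl⟩ := h
          · rw [hW]; simp
          · rw [hW]; simp
        · exact absurd ⟨g, hg, c, hc, h⟩ hex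
  obtain ⟨S, hSf, hS4, hSG⟩ := hS
  let F : G → S := fun g => ⟨W α s t ρ g.1, hSG g.1 g.2⟩
  have hF : Function.Injective F := by
    intro x y hxy
    have := congrArg Subtype.val hxy
    exact Subtype.ext (hinj x.1 x.2 y.1 y.2 this)
  have : Finite S := hSf
  calc Nat.card G ≤ Nat.card S := Nat.card_le_card_of_injective F hF
    _ = S.ncard := Nat.card_coe_set_eq S
    _ ≤ 4 := hS4

end main

end core

end Groth.Agent.Lib.ConicAutH6
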