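import Groth.Agent.Lib.ConicAut2_helper6

/-!
# Automorphisms of the complement of a separable degree-2 point of the projective line:
concrete ingredients (polynomial lemmas, splitting field data, basic facts on `Away 𝒜 q`).
-/

namespace Groth.Agent.Lib.ConicAutH6

section P1
open MvPolynomial

section poly
variable {K : Type*} [Field K]

/-- The quadratic form `a x² + b x y + c y²`. -/
noncomputable def qf (a b c : K) : MvPolynomial (Fin 2) K :=
  C a * X 0 ^ 2 + C b * (X 0 * X 1) + C c * X 1 ^ 2

theorem fin2_finsupp_ext {m m' : Fin 2 →₀ ℕ} (h0 : m 0 = m' 0) (h1 : m 1 = m' 1) : m = m' := by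
  ext i
  fin_cases i
  · exact h0
  · exact h1

theorem eq_qf_of_isHomogeneous (q : MvPolynomial (Fin 2) K) (hq : q.IsHomogeneous 2) :
    q = qf (q.coeff (Finsupp.single 0 2)) (q.coeff (Finsupp.single 0 1 + Finsupp.single 1 1))
      (q.coeff (Finsupp.single 1 2)) := by
  have e1 : (X 0 * X 1 : MvPolynomial (Fin 2) K) =
      monomial (Finsupp.single 0 1 + Finsupp.single 1 1) 1 := by
    rw [X, X, monomial_mul, mul_one]
  unfold qf
  rw [e1, X_pow_eq_monomial, X_pow_eq_monomial, C_mul_monomial, C_mul_monomial, C_mul_monomial,
    mul_one, mul_one, mul_one]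
  ext m
  simp only [coeff_add, coeff_monomial]
  by_cases hm : coeff m q = 0
  · rw [hm]
    split_ifs with h1 h2 h3 h2 h3 h2 h3 <;> simp_all
  · have hd := hq hm
    have hd' : m 0 + m 1 = 2 := by
      have : Finsupp.weight (1 : Fin 2 → ℕ) m = m 0 + m 1 := by
        simp [Finsupp.weight_apply, Finsupp.sum_fintype]
      rw [← this]; exact hd
    have hcases : m = Finsupp.single 0 2 ∨ m = Finsupp.single 0 1 + Finsupp.single 1 1 ∨
        m = Finsupp.single 1 2 := by
      have h0 : m 0 ≤ 2 := by omega
      interval_cases h : m 0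
      · right; right; apply fin2_finsupp_ext <;> simp <;> omega
      · right; left; apply fin2_finsupp_ext <;> simp <;> omega
      · left; apply fin2_finsupp_ext <;> simp <;> omega
    have n1 : (Finsupp.single 0 2 : Fin 2 →₀ ℕ) ≠ Finsupp.single 0 1 + Finsupp.single 1 1 := by
      intro h; have := congrArg (fun f => f 0) h; simp at this
    have n2 : (Finsupp.single 0 2 : Fin 2 →₀ ℕ) ≠ Finsupp.single 1 2 := by
      intro h; have := congrArg (fun f => f 0) h; simp at this
    have n3 : (Finsupp.single 0 1 + Finsupp.single 1 1 : Fin 2 →₀ ℕ) ≠ Finsupp.single 1 2 := by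
      intro h; have := congrArg (fun f => f 0) h; simp at this
    rcases hcases with rfl | rfl | rfl
    · rw [if_pos rfl, if_neg n1.symm, if_neg n2.symm, add_zero, add_zero]
    · rw [if_pos rfl, if_neg n1, if_neg n3.symm, zero_add, add_zero]
    · rw [if_pos rfl, if_neg n2, if_neg n3, zero_add, zero_add]

end poly

section poly
variable {K : Type*} [Field K]

theorem not_isUnit_of_isHomogeneous {f : MvPolynomial (Fin 2) K} {n : ℕ} (hf : f.IsHomogeneous n)
    (hn : 0 < n) : ¬ IsUnit f := by
  intro hu
  obtain ⟨r, hr, rfl⟩ := (MvPolynomial.isUnit_iff_eq_C_of_isReduced).1 hu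
  have h0 : (C r : MvPolynomial (Fin 2) K) ≠ 0 := by
    intro h
    rw [h] at hu
    exact not_isUnit_zero hu
  have := (isHomogeneous_C (Fin 2) r).inj_right hf h0
  omega

theorem isHomogeneous_lin (u v : K) :
    (C u * X 0 + C v * X 1 : MvPolynomial (Fin 2) K).IsHomogeneous 1 :=
  (isHomogeneous_C_mul_X u 0).add (isHomogeneous_C_mul_X v 1)

theorem ne_zero_of_irreducible {a b c : K} (h : Irreducible (qf a b c)) : a ≠ 0 := by
  rintro rfl
  have e : qf 0 b c = X 1 * (C b * X 0 + C c * X 1) := by
    unfold qf; rw [map_zero]; ring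
  rw [e] at h
  rcases h.isUnit_or_isUnit rfl with h1 | h1
  · exact not_isUnit_of_isHomogeneous (isHomogeneous_X K (1 : Fin 2)) one_pos h1
  · exact not_isUnit_of_isHomogeneous (isHomogeneous_lin b c) one_pos h1

theorem not_root_of_irreducible {a b c : K} (h : Irreducible (qf a b c)) (r : K) :
    a * r ^ 2 + b * r + c ≠ 0 := by
  intro hr
  have hc : c = -(a * r ^ 2 + b * r) := by linear_combination hr
  have e : qf a b c = (C 1 * X 0 + C (-r) * X 1) * (C a * X 0 + C (b + a * r) * X 1) := by
    unfold qf; rw [hc]; simp only [map_neg, map_add, map_mul, map_pow, map_one]; ring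
  rw [e] at h
  rcases h.isUnit_or_isUnit rfl with h1 | h1
  · exact not_isUnit_of_isHomogeneous (isHomogeneous_lin 1 (-r)) one_pos h1
  · exact not_isUnit_of_isHomogeneous (isHomogeneous_lin a (b + a * r)) one_pos h1

open Polynomial in
theorem irreducible_quadratic {a b c : K} (h : Irreducible (qf a b c)) :
    Irreducible (Polynomial.C a * Polynomial.X ^ 2 + Polynomial.C b * Polynomial.X +
      Polynomial.C c : K[X]) := by
  have ha := ne_zero_of_irreducible h
  apply Polynomial.irreducible_of_degree_le_three_of_not_isRoot
  · rw [Polynomial.natDegree_quadratic ha]; simp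
  · intro x hx
    apply not_root_of_irreducible h x
    simpa [Polynomial.IsRoot] using hx

end poly

section decomp
variable {K : Type*} [Field K]

theorem isHomogeneous_iff_degree {σ : Type*} {f : MvPolynomial σ K} {n : ℕ} :
    f.IsHomogeneous n ↔ ∀ d, coeff d f ≠ 0 → d.degree = n := by
  unfold IsHomogeneous IsWeightedHomogeneous
  rw [Finsupp.degree_eq_weight_one]
  rfl

theorem isHomogeneous_divMonomial {σ : Type*} {f : MvPolynomial σ K} {m : ℕ} (i : σ)
    (hf : f.IsHomogeneous (m + 1)) : (f.divMonomial (Finsupp.single i 1)).IsHomogeneous m := by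
  rw [isHomogeneous_iff_degree] at hf ⊢
  intro d hd
  rw [coeff_divMonomial] at hd
  have := hf _ hd
  rw [map_add, Finsupp.degree_single] at this
  omega

theorem exists_decomp {m : ℕ} {f : MvPolynomial (Fin 2) K} (hf : f.IsHomogeneous (m + 1)) :
    ∃ g0 g1 : MvPolynomial (Fin 2) K, g0.IsHomogeneous m ∧ g1.IsHomogeneous m ∧
      f = X 0 * g0 + X 1 * g1 := by
  set r := f.modMonomial (Finsupp.single 0 1) with hr
  have hrcoeff : ∀ d, coeff d r = 0 ∨ coeff d r = coeff d f := by
    intro d
    by_cases h : Finsupp.single 0 1 ≤ d
    · left; exact coeff_modMonomial_of_le _ h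
    · right; exact coeff_modMonomial_of_not_le _ h
  have hrh : r.IsHomogeneous (m + 1) := by
    rw [isHomogeneous_iff_degree] at hf ⊢
    intro d hd
    rcases hrcoeff d with h | h
    · exact absurd h hd
    · rw [h] at hd; exact hf d hd
  have hr0 : r.modMonomial (Finsupp.single 1 1) = 0 := by
    ext d
    rw [coeff_zero]
    by_cases h1 : Finsupp.single 1 1 ≤ d
    · exact coeff_modMonomial_of_le _ h1
    · rw [coeff_modMonomial_of_not_le _ h1]
      by_cases h0 : Finsupp.single 0 1 ≤ d
      · exact coeff_modMonomial_of_le _ h0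
      · -- d = 0
        have hd0 : d 0 = 0 := by
          by_contra hne
          apply h0
          rw [Finsupp.single_le_iff]
          omega
        have hd1 : d 1 = 0 := by
          by_contra hne
          apply h1
          rw [Finsupp.single_le_iff]
          omega
        have hd : d = 0 := by
          ext i; fin_cases i
          · exact hd0
          · exact hd1
        rw [hd]
        apply hrh.coeff_eq_zero
        simp
  refine ⟨f.divMonomial (Finsupp.single 0 1), r.divMonomial (Finsupp.single 1 1),
    isHomogeneous_divMonomial 0 hf, isHomogeneous_divMonomial 1 hrh, ?_⟩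
  have e1 := divMonomial_add_modMonomial_single f 0
  have e2 := divMonomial_add_modMonomial_single r 1
  rw [hr0, add_zero] at e2
  rw [e2]
  exact e1.symm

end decomp

end P1

section P2
open Polynomial

section fielddata
universe u
variable {K : Type u} [Field K]

theorem exists_field_data (a b c : K) (ha : a ≠ 0) (p : K[X])
    (hp : p = C a * X ^ 2 + C b * X + C c)
    (hirr : Irreducible p)
    (hdisc : b ^ 2 - 4 * a * c ≠ 0)
    (hK : ∀ n : ℕ, 0 < n → (X ^ n - 1 : K[X]).Splits) :
    ∃ (L : Type u) (_ : Field L) (_ : Algebra K L) (α β : L) (σ : L →ₐ[K] L),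
      α ≠ β ∧ algebraMap K L (-b / a) = α + β ∧ algebraMap K L (c / a) = α * β ∧
      σ α = β ∧ σ β = α ∧
      (∀ (x : L) (n : ℕ), 0 < n → x ^ n = 1 → x ∈ (algebraMap K L).range) := by
  have key : ∀ {S : Type u} [CommRing S] (f : K →+* S) (x : S),
      p.eval₂ f x = f a * x ^ 2 + f b * x + f c := by
    intro S _ f x
    rw [hp]
    simp [eval₂_add, eval₂_mul, eval₂_pow]
  have : Fact (Irreducible p) := ⟨hirr⟩
  let L := AdjoinRoot p
  let α : L := AdjoinRoot.root p
  have haL : algebraMap K L a ≠ 0 := by
    rw [Ne, map_eq_zero_iff _ (algebraMap K L).injective]; exact ha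
  have hα : algebraMap K L a * α ^ 2 + algebraMap K L b * α + algebraMap K L c = 0 := by
    have := AdjoinRoot.eval₂_root p
    rw [key] at this
    exact this
  let β : L := algebraMap K L (-b / a) - α
  have hab : algebraMap K L a * algebraMap K L (-b / a) = - algebraMap K L b := by
    rw [← map_mul, ← map_neg]; congr 1; field_simp
  have hβ : algebraMap K L a * β ^ 2 + algebraMap K L b * β + algebraMap K L c = 0 := by
    show algebraMap K L a * (algebraMap K L (-b / a) - α) ^ 2 +
      algebraMap K L b * (algebraMap K L (-b / a) - α) + algebraMap K L c = 0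
    linear_combination hα + (algebraMap K L (-b / a) - 2 * α) * hab
  have hβ' : p.eval₂ (Algebra.ofId K L) β = 0 := by
    have := key (Algebra.ofId K L : K →+* L) β
    rw [this]
    exact hβ
  let σ : L →ₐ[K] L := AdjoinRoot.liftAlgHom p (Algebra.ofId K L) β hβ'
  have hσα : σ α = β := AdjoinRoot.liftAlgHom_root p _ β hβ'
  refine ⟨L, inferInstance, inferInstance, α, β, σ, ?_, ?_, ?_, hσα, ?_, ?_⟩
  · -- α ≠ β
    intro h
    have h2 : 2 * α = algebraMap K L (-b / a) := by
      change α = algebraMap K L (-b / a) - α at h
      linear_combination h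
    have h3 : 2 * algebraMap K L a * α + algebraMap K L b = 0 := by
      linear_combination algebraMap K L a * h2 + hab
    apply hdisc
    apply (algebraMap K L).injective
    rw [map_zero, map_sub, map_mul, map_mul, map_pow, map_ofNat]
    linear_combination (2 * algebraMap K L a * α + algebraMap K L b) * h3
      - 4 * algebraMap K L a * hα
  · show algebraMap K L (-b / a) = α + (algebraMap K L (-b / a) - α)
    ring
  · -- product
    show algebraMap K L (c / a) = α * (algebraMap K L (-b / a) - α)
    have hca : algebraMap K L a * algebraMap K L (c / a) = algebraMap K L c := by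
      rw [← map_mul]; congr 1; field_simp
    apply mul_left_cancel₀ haL
    linear_combination hca - α * hab + hα
  · show σ (algebraMap K L (-b / a) - α) = α
    rw [map_sub, hσα, AlgHom.commutes]
    show algebraMap K L (-b / a) - (algebraMap K L (-b / a) - α) = α
    ring
  · intro x n hn hx
    have h0 : (X ^ n - 1 : K[X]) ≠ 0 := Polynomial.X_pow_sub_C_ne_zero hn 1
    apply (hK n hn).mem_range_of_isRoot h0 (i := algebraMap K L) (x := x)
    simp [Polynomial.IsRoot, hx]

end fielddata

end P2

section P3
open MvPolynomial
attribute [local instance] MvPolynomial.gradedAlgebra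

section conc
variable {K : Type*} [Field K]

local notation "𝒜" => MvPolynomial.homogeneousSubmodule (Fin 2) K

variable (q : MvPolynomial (Fin 2) K)

/-- The inverse of `q` in the localization. -/
noncomputable def qinv : Localization.Away q :=
  Localization.mk 1 ⟨q, ⟨1, pow_one q⟩⟩

theorem q_mul_qinv : algebraMap _ (Localization.Away q) q * qinv q = 1 := by
  unfold qinv
  rw [← Localization.mk_one_eq_algebraMap, Localization.mk_mul, mul_one, one_mul]
  exact Localization.mk_self ⟨q, _⟩

theorem val_mk_eq {d : ℕ} (hq : q ∈ 𝒜 d) (n : ℕ) (x : MvPolynomial (Fin 2) K) (hx : x ∈ 𝒜 (n • d)) :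
    (HomogeneousLocalization.Away.mk 𝒜 hq n x hx).val =
      algebraMap _ (Localization.Away q) x * qinv q ^ n := by
  rw [HomogeneousLocalization.Away.val_mk]
  unfold qinv
  rw [Localization.mk_pow, ← Localization.mk_one_eq_algebraMap, Localization.mk_mul]
  congr 1
  · simp
  · ext; simp

/-- The scalar ring homomorphism. -/
noncomputable def ιK : K →+* HomogeneousLocalization.Away 𝒜 q where
  toFun k := k • 1
  map_one' := by
    apply HomogeneousLocalization.val_injective
    rw [HomogeneousLocalization.val_smul, one_smul]
  map_mul' k l := by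
    apply HomogeneousLocalization.val_injective
    rw [HomogeneousLocalization.val_mul, HomogeneousLocalization.val_smul,
      HomogeneousLocalization.val_smul, HomogeneousLocalization.val_smul,
      HomogeneousLocalization.val_one]
    rw [smul_mul_smul_comm, mul_one]
  map_zero' := by
    apply HomogeneousLocalization.val_injective
    rw [HomogeneousLocalization.val_smul, zero_smul, HomogeneousLocalization.val_zero]
  map_add' k l := by
    apply HomogeneousLocalization.val_injective
    rw [HomogeneousLocalization.val_add, HomogeneousLocalization.val_smul,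
      HomogeneousLocalization.val_smul, HomogeneousLocalization.val_smul, add_smul]

theorem ιK_apply (k : K) : ιK q k = k • (1 : HomogeneousLocalization.Away 𝒜 q) := rfl

theorem smul_eq_ιK_mul (k : K) (z : HomogeneousLocalization.Away 𝒜 q) : k • z = ιK q k * z := by
  apply HomogeneousLocalization.val_injective
  rw [HomogeneousLocalization.val_mul, ιK_apply, HomogeneousLocalization.val_smul,
    HomogeneousLocalization.val_smul, HomogeneousLocalization.val_one, smul_mul_assoc, one_mul]

theorem val_ιK (k : K) :
    (ιK q k).val = algebraMap (MvPolynomial (Fin 2) K) (Localization.Away q) (C k) := by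
  rw [ιK_apply, HomogeneousLocalization.val_smul, HomogeneousLocalization.val_one,
    Algebra.smul_def, mul_one]
  rfl

end conc

end P3

end Groth.Agent.Lib.ConicAutH6
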