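import Groth.Agent.Lib.ConicAut3_helper6

open MvPolynomial
attribute [local instance] MvPolynomial.gradedAlgebra

namespace Groth.Agent.Lib.ConicAutH6

section conc2
variable {K : Type*} [Field K] {L : Type*} [Field L] [Algebra K L]

local notation "𝒜" => MvPolynomial.homogeneousSubmodule (Fin 2) K
local notation "CL" => (LaurentPolynomial.C : L →+* LaurentPolynomial L)
local notation "TL" => (LaurentPolynomial.T : ℤ → LaurentPolynomial L)

/-- The parametrisation `(x₀ : x₁) = (βT - α : T - 1)`. -/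
noncomputable def φ₁ (α β : L) : MvPolynomial (Fin 2) K →ₐ[K] LaurentPolynomial L :=
  MvPolynomial.aeval ![CL β * TL 1 - CL α, TL 1 - 1]

@[simp] theorem φ₁_X0 (α β : L) : φ₁ (K := K) α β (X 0) = CL β * TL 1 - CL α := by
  simp [φ₁]

@[simp] theorem φ₁_X1 (α β : L) : φ₁ (K := K) α β (X 1) = TL 1 - 1 := by
  simp [φ₁]

@[simp] theorem φ₁_C (α β : L) (k : K) : φ₁ (K := K) α β (C k) = CL (algebraMap K L k) := by
  simp [φ₁, LaurentPolynomial.algebraMap_apply]

theorem φ₁_qf (α β : L) (a b c : K) (hb : algebraMap K L b = - algebraMap K L a * (α + β))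
    (hc : algebraMap K L c = algebraMap K L a * (α * β)) :
    φ₁ α β (qf a b c) = CL (algebraMap K L a * (β - α) ^ 2) * TL 1 := by
  unfold qf
  simp only [map_add, map_mul, map_pow, φ₁_X0, φ₁_X1, φ₁_C, hb, hc, map_neg, map_sub]
  ring

theorem isUnit_C_mul_T {c : L} (hc : c ≠ 0) (n : ℤ) : IsUnit (CL c * TL n) :=
  ((isUnit_iff_ne_zero.2 hc).map CL).mul (LaurentPolynomial.isUnit_T n)

/-- The data. -/
structure Dat (a b c : K) (α β : L) : Prop where
  ha : a ≠ 0
  hD : b ^ 2 - 4 * a * c ≠ 0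
  hne : α ≠ β
  hsum : algebraMap K L (-b / a) = α + β
  hprod : algebraMap K L (c / a) = α * β

variable {a b c : K} {α β : L}

theorem Dat.hb (D : Dat a b c α β) : algebraMap K L b = - algebraMap K L a * (α + β) := by
  rw [← D.hsum, ← map_neg, ← map_mul]
  congr 1
  have := D.ha
  field_simp

theorem Dat.hc (D : Dat a b c α β) : algebraMap K L c = algebraMap K L a * (α * β) := by
  rw [← D.hprod, ← map_mul]
  congr 1
  have := D.ha
  field_simp

theorem Dat.haL (D : Dat a b c α β) : algebraMap K L a ≠ 0 := by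
  rw [Ne, map_eq_zero_iff _ (algebraMap K L).injective]; exact D.ha

theorem Dat.hu (D : Dat a b c α β) : IsUnit (φ₁ α β (qf a b c)) := by
  rw [φ₁_qf α β a b c D.hb D.hc]
  apply isUnit_C_mul_T
  exact mul_ne_zero D.haL (pow_ne_zero _ (sub_ne_zero.2 D.hne.symm))

/-- The extension of `φ₁` to the localisation. -/
noncomputable def ρL (D : Dat a b c α β) : Localization.Away (qf a b c) →+* LaurentPolynomial L :=
  Localization.awayLift (φ₁ (K := K) α β).toRingHom (qf a b c) D.hu

theorem ρL_algebraMap (D : Dat a b c α β) (f : MvPolynomial (Fin 2) K) :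
    ρL D (algebraMap _ _ f) = φ₁ α β f :=
  IsLocalization.Away.lift_eq (g := (φ₁ (K := K) α β).toRingHom) (qf a b c) D.hu f

theorem ρL_qinv (D : Dat a b c α β) : φ₁ α β (qf a b c) * ρL D (qinv (qf a b c)) = 1 := by
  rw [← ρL_algebraMap D, ← map_mul, q_mul_qinv, map_one]

/-- The `K`-algebra structure on `Away 𝒜 q` (not a global instance). -/
@[reducible] noncomputable def algK (q : MvPolynomial (Fin 2) K) :
    Algebra K (HomogeneousLocalization.Away 𝒜 q) := (ιK q).toAlgebra

attribute [local instance] algK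

theorem algebraMap_algK (q : MvPolynomial (Fin 2) K) (k : K) :
    algebraMap K (HomogeneousLocalization.Away 𝒜 q) k = ιK q k := rfl

/-- `ρ`. -/
noncomputable def ρK (D : Dat a b c α β) :
    HomogeneousLocalization.Away 𝒜 (qf a b c) →ₐ[K] LaurentPolynomial L :=
  { (ρL D).comp (algebraMap (HomogeneousLocalization.Away 𝒜 (qf a b c))
      (Localization.Away (qf a b c))) with
    commutes' := by
      intro k
      show ρL D ((ιK (qf a b c) k).val) = _
      rw [val_ιK, ρL_algebraMap, φ₁_C, LaurentPolynomial.algebraMap_apply] }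

theorem ρK_apply (D : Dat a b c α β) (z : HomogeneousLocalization.Away 𝒜 (qf a b c)) :
    ρK D z = ρL D z.val := rfl

theorem isHomogeneous_qf (a b c : K) : (qf a b c).IsHomogeneous 2 := by
  unfold qf
  refine ((isHomogeneous_C_mul_X_pow a 0 2).add ?_).add (isHomogeneous_C_mul_X_pow c 1 2)
  have h := (isHomogeneous_C (Fin 2) b).mul ((isHomogeneous_X K (0 : Fin 2)).mul
    (isHomogeneous_X K (1 : Fin 2)))
  simpa using h

theorem qf_mem (a b c : K) : qf a b c ∈ 𝒜 2 := isHomogeneous_qf a b c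

/-- Numerator of `s`. -/
noncomputable def Ns (a c : K) : MvPolynomial (Fin 2) K := C a * X 0 ^ 2 - C c * X 1 ^ 2
/-- Numerator of `t`. -/
noncomputable def Nt (a b : K) : MvPolynomial (Fin 2) K := -(2 * C a * (X 0 * X 1) + C b * X 1 ^ 2)

theorem Ns_mem (a c : K) : Ns a c ∈ 𝒜 (1 • 2) := by
  unfold Ns
  exact ((isHomogeneous_C_mul_X_pow a 0 2).sub (isHomogeneous_C_mul_X_pow c 1 2))

theorem Nt_mem (a b : K) : Nt a b ∈ 𝒜 (1 • 2) := by
  unfold Nt
  have h := (isHomogeneous_C (Fin 2) (2 * a)).mul ((isHomogeneous_X K (0 : Fin 2)).mul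
    (isHomogeneous_X K (1 : Fin 2)))
  have h2 : (C (2 * a) * (X 0 * X 1) : MvPolynomial (Fin 2) K) = 2 * C a * (X 0 * X 1) := by
    rw [C_mul]; rfl
  rw [h2] at h
  exact (IsHomogeneous.add (by simpa using h) (isHomogeneous_C_mul_X_pow b 1 2)).neg

/-- `s`. -/
noncomputable def sE (a b c : K) : HomogeneousLocalization.Away 𝒜 (qf a b c) :=
  HomogeneousLocalization.Away.mk 𝒜 (qf_mem a b c) 1 (Ns a c) (Ns_mem a c)

/-- `t`. -/
noncomputable def tE (a b c : K) : HomogeneousLocalization.Away 𝒜 (qf a b c) :=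
  HomogeneousLocalization.Away.mk 𝒜 (qf_mem a b c) 1 (Nt a b) (Nt_mem a b)


theorem numid (ha : a ≠ 0) :
    Ns a c ^ 2 + C (-b / a) * (Ns a c * Nt a b) + C (c / a) * Nt a b ^ 2 = qf a b c ^ 2 := by
  have hCa : (C a : MvPolynomial (Fin 2) K) ≠ 0 := by
    rw [Ne, C_eq_zero]; exact ha
  have h1 : (C a * C (-b / a) : MvPolynomial (Fin 2) K) = - C b := by
    rw [← C_mul, ← C_neg]; congr 1; field_simp
  have h2 : (C a * C (c / a) : MvPolynomial (Fin 2) K) = C c := by
    rw [← C_mul]; congr 1; field_simp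
  apply mul_left_cancel₀ hCa
  unfold Ns Nt qf at *
  linear_combination ((C a * X 0 ^ 2 - C c * X 1 ^ 2) *
    -(2 * C a * (X 0 * X 1) + C b * X 1 ^ 2)) * h1 +
    (-(2 * C a * (X 0 * X 1) + C b * X 1 ^ 2)) ^ 2 * h2

theorem val_sE (a b c : K) : (sE a b c).val =
    algebraMap _ (Localization.Away (qf a b c)) (Ns a c) * qinv (qf a b c) := by
  unfold sE; rw [val_mk_eq, pow_one]

theorem val_tE (a b c : K) : (tE a b c).val =
    algebraMap _ (Localization.Away (qf a b c)) (Nt a b) * qinv (qf a b c) := by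
  unfold tE; rw [val_mk_eq, pow_one]

theorem hrel_conc (ha : a ≠ 0) :
    sE a b c ^ 2 + algebraMap K _ (-b / a) * (sE a b c * tE a b c) +
      algebraMap K _ (c / a) * tE a b c ^ 2 = 1 := by
  apply HomogeneousLocalization.val_injective
  simp only [HomogeneousLocalization.val_add, HomogeneousLocalization.val_mul,
    HomogeneousLocalization.val_pow, HomogeneousLocalization.val_one, algebraMap_algK, val_ιK,
    val_sE, val_tE]
  have h1 := congrArg (algebraMap _ (Localization.Away (qf a b c))) (numid (b := b) (c := c) ha)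
  simp only [map_add, map_mul, map_pow] at h1
  linear_combination qinv (qf a b c) ^ 2 * h1 +
    (algebraMap _ (Localization.Away (qf a b c)) (qf a b c) * qinv (qf a b c) + 1) *
      q_mul_qinv (qf a b c)

theorem hρ1_conc (D : Dat a b c α β) :
    ρK D (sE a b c) + CL α * ρK D (tE a b c) = TL 1 := by
  rw [ρK_apply, ρK_apply, val_sE, val_tE, map_mul, map_mul, ρL_algebraMap, ρL_algebraMap]
  have key : φ₁ α β (Ns a c) + CL α * φ₁ α β (Nt a b) = TL 1 * φ₁ α β (qf a b c) := by
    rw [φ₁_qf α β a b c D.hb D.hc]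
    unfold Ns Nt
    simp only [map_add, map_mul, map_pow, map_sub, map_neg, map_ofNat, φ₁_X0, φ₁_X1, φ₁_C, D.hb,
      D.hc]
    ring
  calc φ₁ α β (Ns a c) * ρL D (qinv (qf a b c)) + CL α * (φ₁ α β (Nt a b) * ρL D (qinv (qf a b c)))
      = (φ₁ α β (Ns a c) + CL α * φ₁ α β (Nt a b)) * ρL D (qinv (qf a b c)) := by ring
    _ = TL 1 * (φ₁ α β (qf a b c) * ρL D (qinv (qf a b c))) := by rw [key]; ring
    _ = TL 1 := by rw [ρL_qinv, mul_one]


theorem X0sq_mem : (X 0 ^ 2 : MvPolynomial (Fin 2) K) ∈ 𝒜 (1 • 2) :=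
  isHomogeneous_X_pow (R := K) (0 : Fin 2) 2

theorem X1sq_mem : (X 1 ^ 2 : MvPolynomial (Fin 2) K) ∈ 𝒜 (1 • 2) :=
  isHomogeneous_X_pow (R := K) (1 : Fin 2) 2

theorem X0X1_mem : (X 0 * X 1 : MvPolynomial (Fin 2) K) ∈ 𝒜 (1 • 2) :=
  (isHomogeneous_X K (0 : Fin 2)).mul (isHomogeneous_X K (1 : Fin 2))

/-- `x² / q`. -/
noncomputable def uE (a b c : K) : HomogeneousLocalization.Away 𝒜 (qf a b c) :=
  HomogeneousLocalization.Away.mk 𝒜 (qf_mem a b c) 1 (X 0 ^ 2) X0sq_mem

/-- `x y / q`. -/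
noncomputable def vE (a b c : K) : HomogeneousLocalization.Away 𝒜 (qf a b c) :=
  HomogeneousLocalization.Away.mk 𝒜 (qf_mem a b c) 1 (X 0 * X 1) X0X1_mem

/-- `y² / q`. -/
noncomputable def wE (a b c : K) : HomogeneousLocalization.Away 𝒜 (qf a b c) :=
  HomogeneousLocalization.Away.mk 𝒜 (qf_mem a b c) 1 (X 1 ^ 2) X1sq_mem

theorem val_uE (a b c : K) : (uE a b c).val =
    algebraMap _ (Localization.Away (qf a b c)) (X 0 ^ 2 : MvPolynomial (Fin 2) K) *
      qinv (qf a b c) := by
  unfold uE; rw [val_mk_eq, pow_one]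

theorem val_vE (a b c : K) : (vE a b c).val =
    algebraMap _ (Localization.Away (qf a b c)) (X 0 * X 1 : MvPolynomial (Fin 2) K) *
      qinv (qf a b c) := by
  unfold vE; rw [val_mk_eq, pow_one]

theorem val_wE (a b c : K) : (wE a b c).val =
    algebraMap _ (Localization.Away (qf a b c)) (X 1 ^ 2 : MvPolynomial (Fin 2) K) *
      qinv (qf a b c) := by
  unfold wE; rw [val_mk_eq, pow_one]

theorem lin_rel (k0 k1 k2 kd : K) (N : MvPolynomial (Fin 2) K) (hN : N ∈ 𝒜 (1 • 2))
    (pid : C kd * N = C k0 * qf a b c + C k1 * Ns a c + C k2 * Nt a b) :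
    algebraMap K _ kd * HomogeneousLocalization.Away.mk 𝒜 (qf_mem a b c) 1 N hN =
      algebraMap K _ k0 + algebraMap K _ k1 * sE a b c + algebraMap K _ k2 * tE a b c := by
  apply HomogeneousLocalization.val_injective
  simp only [HomogeneousLocalization.val_add, HomogeneousLocalization.val_mul,
    algebraMap_algK, val_ιK, val_sE, val_tE, val_mk_eq, pow_one]
  have h1 := congrArg (algebraMap _ (Localization.Away (qf a b c))) pid
  simp only [map_add, map_mul] at h1
  linear_combination qinv (qf a b c) * h1 +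
    algebraMap (MvPolynomial (Fin 2) K) (Localization.Away (qf a b c)) (C k0) *
      q_mul_qinv (qf a b c)

theorem mem_of_algebraMap_mul_mem {A : Type*} [CommRing A] [Algebra K A] (S : Subalgebra K A)
    {k : K} (hk : k ≠ 0) {x : A} (h : algebraMap K A k * x ∈ S) : x ∈ S := by
  have : x = algebraMap K A k⁻¹ * (algebraMap K A k * x) := by
    rw [← mul_assoc, ← map_mul, inv_mul_cancel₀ hk, map_one, one_mul]
  rw [this]
  exact S.mul_mem (S.algebraMap_mem _) h

theorem mk_mem (S : Subalgebra K (HomogeneousLocalization.Away 𝒜 (qf a b c)))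
    (hu : uE a b c ∈ S) (hv : vE a b c ∈ S) (hw : wE a b c ∈ S) :
    ∀ (n : ℕ) (f : MvPolynomial (Fin 2) K) (hf : f ∈ 𝒜 (n • 2)),
      HomogeneousLocalization.Away.mk 𝒜 (qf_mem a b c) n f hf ∈ S := by
  intro n
  induction n with
  | zero =>
    intro f hf
    have hf' : f.IsHomogeneous 0 := by
      have h0 : (0 : ℕ) • 2 = 0 := zero_smul _ _
      rw [h0] at hf
      exact hf
    have hfC : f = C (coeff 0 f) :=
      totalDegree_eq_zero_iff_eq_C.1 (Nat.le_zero.1 hf'.totalDegree_le)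
    have : HomogeneousLocalization.Away.mk 𝒜 (qf_mem a b c) 0 f hf =
        algebraMap K _ (coeff 0 f) := by
      apply HomogeneousLocalization.val_injective
      rw [val_mk_eq, pow_zero, mul_one, algebraMap_algK, val_ιK, ← hfC]
    rw [this]
    exact S.algebraMap_mem _
  | succ n ih =>
    intro f hf
    have hn : (n + 1) • 2 = (2 * n + 1) + 1 := by simp only [smul_eq_mul]; omega
    have hn' : n • 2 = 2 * n := by simp only [smul_eq_mul]; omega
    have hf' : f.IsHomogeneous ((2 * n + 1) + 1) := by rw [← hn]; exact hf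
    obtain ⟨g0, g1, hg0, hg1, hfg⟩ := exists_decomp hf'
    obtain ⟨h00, h01, hh00, hh01, hg0e⟩ := exists_decomp hg0
    obtain ⟨h10, h11, hh10, hh11, hg1e⟩ := exists_decomp hg1
    have m00 : h00 ∈ 𝒜 (n • 2) := by rw [hn']; exact hh00
    have m01 : h01 ∈ 𝒜 (n • 2) := by rw [hn']; exact hh01
    have m10 : h10 ∈ 𝒜 (n • 2) := by rw [hn']; exact hh10
    have m11 : h11 ∈ 𝒜 (n • 2) := by rw [hn']; exact hh11
    have : HomogeneousLocalization.Away.mk 𝒜 (qf_mem a b c) (n + 1) f hf =
        uE a b c * HomogeneousLocalization.Away.mk 𝒜 (qf_mem a b c) n h00 m00 +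
        vE a b c * (HomogeneousLocalization.Away.mk 𝒜 (qf_mem a b c) n h01 m01 +
          HomogeneousLocalization.Away.mk 𝒜 (qf_mem a b c) n h10 m10) +
        wE a b c * HomogeneousLocalization.Away.mk 𝒜 (qf_mem a b c) n h11 m11 := by
      apply HomogeneousLocalization.val_injective
      simp only [HomogeneousLocalization.val_add, HomogeneousLocalization.val_mul, val_mk_eq,
        val_uE, val_vE, val_wE]
      rw [hfg, hg0e, hg1e]
      simp only [map_add, map_mul, map_pow]
      ring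
    rw [this]
    exact S.add_mem (S.add_mem (S.mul_mem hu (ih _ _)) (S.mul_mem hv (S.add_mem (ih _ _) (ih _ _))))
      (S.mul_mem hw (ih _ _))

theorem mk1_mem (S : Subalgebra K (HomogeneousLocalization.Away 𝒜 (qf a b c)))
    (hs : sE a b c ∈ S) (ht : tE a b c ∈ S)
    (k0 k1 k2 kd : K) (hkd : kd ≠ 0) (N : MvPolynomial (Fin 2) K) (hN : N ∈ 𝒜 (1 • 2))
    (pid : C kd * N = C k0 * qf a b c + C k1 * Ns a c + C k2 * Nt a b) :
    HomogeneousLocalization.Away.mk 𝒜 (qf_mem a b c) 1 N hN ∈ S := by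
  apply mem_of_algebraMap_mul_mem S hkd
  rw [lin_rel k0 k1 k2 kd N hN pid]
  exact S.add_mem (S.add_mem (S.algebraMap_mem _) (S.mul_mem (S.algebraMap_mem _) hs))
      (S.mul_mem (S.algebraMap_mem _) ht)

theorem hgen_conc (ha : a ≠ 0) (hD : b ^ 2 - 4 * a * c ≠ 0) :
    Algebra.adjoin K {sE a b c, tE a b c} = ⊤ := by
  set S := Algebra.adjoin K {sE a b c, tE a b c} with hS
  have hs : sE a b c ∈ S := Algebra.subset_adjoin (by simp)
  have ht : tE a b c ∈ S := Algebra.subset_adjoin (by simp)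
  have hw : wE a b c ∈ S := by
    apply mk1_mem S hs ht (-2 * a) (2 * a) (-b) (b ^ 2 - 4 * a * c) hD
    unfold qf Ns Nt
    simp only [C_sub, C_mul, C_pow, C_neg, map_ofNat]
    ring
  have hv : vE a b c ∈ S := by
    apply mk1_mem S hs ht b (-b) (2 * c) (b ^ 2 - 4 * a * c) hD
    unfold qf Ns Nt
    simp only [C_sub, C_mul, C_pow, C_neg, map_ofNat]
    ring
  have hu : uE a b c ∈ S := by
    apply mk1_mem S hs ht (-2 * a * c) (b ^ 2 - 2 * a * c) (-(b * c)) (a * (b ^ 2 - 4 * a * c))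
      (mul_ne_zero ha hD)
    unfold qf Ns Nt
    simp only [C_sub, C_mul, C_pow, C_neg, map_ofNat]
    ring
  rw [eq_top_iff]
  intro x _
  obtain ⟨n, f, hf, rfl⟩ := HomogeneousLocalization.Away.mk_surjective 𝒜 (qf_mem a b c) x
  exact mk_mem S hu hv hw n f hf

theorem hyp_conc (D : Dat a b c α β) :
    Hyp α β (-b / a) (c / a) (sE a b c) (tE a b c) (ρK D) where
  hne := D.hne
  hsum := D.hsum
  hprod := D.hprod
  hrel := hrel_conc D.ha
  hgen := hgen_conc D.ha D.hD
  hρ1 := hρ1_conc D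

end conc2

end Groth.Agent.Lib.ConicAutH6
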