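import Groth.Agent.Lib.ConicAut4_helper6

/-!
# Finite groups of automorphisms of `ℙ¹ ∖ {separable degree-2 point}`: final assembly.
-/

open MvPolynomial
attribute [local instance] MvPolynomial.gradedAlgebra

namespace Groth.Agent.Lib.ConicAutH6

universe u

theorem final (K : Type u) [Field K]
    (hK : ∀ n : ℕ, 0 < n → (Polynomial.X ^ n - 1 : Polynomial K).Splits)
    (a b c : K) (hirr : Irreducible (qf a b c)) (hdisc : b ^ 2 - 4 * a * c ≠ 0)
    (G : Subgroup (HomogeneousLocalization.Away (MvPolynomial.homogeneousSubmodule (Fin 2) K)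
      (qf a b c) ≃+* HomogeneousLocalization.Away (MvPolynomial.homogeneousSubmodule (Fin 2) K)
      (qf a b c))) [Finite G]
    (hG : ∀ g ∈ G, ∀ (k : K) (z : HomogeneousLocalization.Away
      (MvPolynomial.homogeneousSubmodule (Fin 2) K) (qf a b c)), g (k • z) = k • g z) :
    (∀ g ∈ G, g ^ 2 = 1) ∧ Nat.card G ≤ 4 := by
  have ha := ne_zero_of_irreducible hirr
  have hp := irreducible_quadratic hirr
  obtain ⟨L, _, _, α, β, σ, hne, hsum, hprod, hσα, hσβ, hroot⟩ :=
    exists_field_data a b c ha _ rfl hp hdisc hK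
  have D : Dat a b c α β := ⟨ha, hdisc, hne, hsum, hprod⟩
  letI := algK (qf a b c)
  refine main (hyp_conc D) σ hσα hσβ hroot G ?_
  intro g hg k
  show g (ιK (qf a b c) k) = ιK (qf a b c) k
  rw [ιK_apply, hG g hg, map_one]

end Groth.Agent.Lib.ConicAutH6
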