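import Mathlib
import Groth.Prelude
import Groth.Agent.Lib.Conic2x2_helper4

set_option autoImplicit false
set_option linter.style.haveILetI false
set_option linter.unusedVariables false

universe u

open MvPolynomial Matrix

namespace Groth.Agent.Lib.ConicClassH4

open Groth.Agent.Lib

variable {k : Type u} [Field k]

/-- linear form with coefficient vector `a` -/
noncomputable def linL : (Fin 3 → k) →ₗ[k] MvPolynomial (Fin 3) k where
  toFun a := ∑ i, a i • X i
  map_add' a b := by simp only [Pi.add_apply, add_smul, Finset.sum_add_distrib]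
  map_smul' c a := by
    simp only [Pi.smul_apply, smul_eq_mul, mul_smul, RingHom.id_apply, Finset.smul_sum]

theorem linL_apply (a : Fin 3 → k) :
    linL a = ∑ i, a i • (X i : MvPolynomial (Fin 3) k) := rfl

theorem linL_single (a : Fin 3) : linL (Pi.single a (1 : k)) = X a := by
  rw [linL_apply, Finset.sum_eq_single a]
  · rw [Pi.single_eq_same, one_smul]
  · intro b _ hb; rw [Pi.single_eq_of_ne hb, zero_smul]
  · intro h; exact absurd (Finset.mem_univ a) h

theorem linL_hom (a : Fin 3 → k) : (linL a).IsHomogeneous 1 := by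
  rw [linL_apply]
  apply IsHomogeneous.sum
  intro i _
  exact (mem_homogeneousSubmodule 1 _).mp (Submodule.smul_mem _ (a i)
    ((mem_homogeneousSubmodule 1 _).mpr (isHomogeneous_X k i)))

theorem eval_linL (a u : Fin 3 → k) : eval u (linL a) = ∑ i, a i * u i := by
  rw [linL_apply, map_sum]
  apply Finset.sum_congr rfl
  intro i _
  rw [smul_eval, eval_X]

theorem pderiv_linL (a : Fin 3 → k) (i : Fin 3) : pderiv i (linL a) = C (a i) := by
  rw [linL_apply, map_sum, Finset.sum_eq_single i]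
  · rw [Derivation.map_smul, pderiv_X, Pi.single_eq_same, smul_eq_C_mul, mul_one]
  · intro b _ hb
    rw [Derivation.map_smul, pderiv_X, Pi.single_eq_of_ne hb, smul_zero]
  · intro h; exact absurd (Finset.mem_univ i) h

theorem eq_linL (p : MvPolynomial (Fin 3) k) (hp : p.IsHomogeneous 1) :
    p = linL (Conic2x2H4.cf p) := by
  rw [linL_apply]
  simp only [smul_eq_C_mul]
  exact Conic2x2H4.hom1_eq p hp

/-- dot product as a linear functional -/
noncomputable def dl (a : Fin 3 → k) : (Fin 3 → k) →ₗ[k] k where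
  toFun x := ∑ j, a j * x j
  map_add' x y := by simp only [Pi.add_apply, mul_add, Finset.sum_add_distrib]
  map_smul' c x := by
    simp only [Pi.smul_apply, smul_eq_mul, RingHom.id_apply, Finset.mul_sum]
    apply Finset.sum_congr rfl
    intro i _
    ring

theorem dl_apply (a x : Fin 3 → k) : dl a x = ∑ j, a j * x j := rfl

theorem dl_single (a : Fin 3 → k) (j : Fin 3) : dl a (Pi.single j 1) = a j := by
  rw [dl_apply, Finset.sum_eq_single j]
  · rw [Pi.single_eq_same, mul_one]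
  · intro b _ hb; rw [Pi.single_eq_of_ne hb, mul_zero]
  · intro h; exact absurd (Finset.mem_univ j) h

/-- the quadratic form polynomial -/
noncomputable def qf (Q : Matrix (Fin 3) (Fin 3) k) : MvPolynomial (Fin 3) k :=
  ∑ i : Fin 3, ∑ j : Fin 3, Q i j • (X i * X j)

theorem qf_eq (Q : Matrix (Fin 3) (Fin 3) k) : qf Q = ∑ a, X a * linL (Q a) := by
  unfold qf
  apply Finset.sum_congr rfl
  intro a _
  rw [linL_apply, Finset.mul_sum]
  apply Finset.sum_congr rfl
  intro b _
  rw [mul_smul_comm]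

theorem qf_hom (Q : Matrix (Fin 3) (Fin 3) k) : (qf Q).IsHomogeneous 2 := by
  unfold qf
  apply IsHomogeneous.sum; intro a _
  apply IsHomogeneous.sum; intro b _
  exact (mem_homogeneousSubmodule 2 _).mp (Submodule.smul_mem _ (Q a b)
    ((mem_homogeneousSubmodule 2 _).mpr ((isHomogeneous_X k a).mul (isHomogeneous_X k b))))

theorem pderiv_qf (Q : Matrix (Fin 3) (Fin 3) k) (hQ : Q.IsSymm) (i : Fin 3) :
    pderiv i (qf Q) = C 2 * linL (Q i) := by
  rw [qf_eq, map_sum]
  have h1 : ∀ a, pderiv i (X a * linL (Q a)) =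
      (if a = i then linL (Q a) else 0) + X a * C (Q a i) := by
    intro a
    rw [pderiv_mul, pderiv_X, pderiv_linL, Pi.single_apply]
    split_ifs with h
    · rw [one_mul]
    · rw [zero_mul]
  simp only [h1]
  rw [Finset.sum_add_distrib, Finset.sum_ite_eq' Finset.univ i, if_pos (Finset.mem_univ i)]
  have h2 : ∑ a, X a * C (Q a i) = linL (Q i) := by
    rw [linL_apply]
    apply Finset.sum_congr rfl
    intro a _
    rw [smul_eq_C_mul, mul_comm, hQ.apply i a]
  rw [h2, show (C (2 : k) : MvPolynomial (Fin 3) k) = 2 from map_ofNat C 2]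
  ring

theorem eval_pderiv_qf (Q : Matrix (Fin 3) (Fin 3) k) (hQ : Q.IsSymm) (i : Fin 3)
    (u : Fin 3 → k) : eval u (pderiv i (qf Q)) = 2 * (Q *ᵥ u) i := by
  rw [pderiv_qf Q hQ, map_mul, eval_linL, eval_C]
  rfl

theorem part2 [CharZero k] (Q : Matrix (Fin 3) (Fin 3) k) (hQ : Q.IsSymm) :
    (∃ u : Fin 3 → k, u ≠ 0 ∧ ∀ i, eval u (pderiv i (qf Q)) = 0) ↔ Q.det = 0 := by
  rw [← Matrix.exists_mulVec_eq_zero_iff]
  constructor
  · rintro ⟨u, hu, h⟩
    refine ⟨u, hu, ?_⟩
    funext i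
    have h1 := h i
    rw [eval_pderiv_qf Q hQ] at h1
    rcases mul_eq_zero.mp h1 with h2 | h2
    · exact absurd h2 two_ne_zero
    · exact h2
  · rintro ⟨u, hu, h⟩
    refine ⟨u, hu, fun i => ?_⟩
    rw [eval_pderiv_qf Q hQ, h]
    simp

theorem coeff_of_factor [CharZero k] (Q : Matrix (Fin 3) (Fin 3) k) (hQ : Q.IsSymm)
    (a b : Fin 3 → k) (h : qf Q = linL a * linL b) (i j : Fin 3) :
    2 * Q i j = a i * b j + a j * b i := by
  have h1 := congrArg (pderiv i) h
  rw [pderiv_qf Q hQ, pderiv_mul, pderiv_linL, pderiv_linL] at h1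
  have h2 := congrArg (pderiv j) h1
  simp only [pderiv_mul, pderiv_C, pderiv_linL, map_add, zero_mul, mul_zero, zero_add,
    add_zero] at h2
  rw [← map_mul, ← map_mul, ← map_mul, ← map_add] at h2
  have h3 := C_injective (Fin 3) k h2
  linear_combination h3

theorem two_mulVec (Q : Matrix (Fin 3) (Fin 3) k) (a b : Fin 3 → k)
    (hc : ∀ i j, 2 * Q i j = a i * b j + a j * b i) (x : Fin 3 → k) (i : Fin 3) :
    2 * (Q *ᵥ x) i = a i * dl b x + b i * dl a x := by
  show 2 * ∑ j, Q i j * x j = _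
  rw [dl_apply, dl_apply, Finset.mul_sum, Finset.mul_sum, Finset.mul_sum,
    ← Finset.sum_add_distrib]
  apply Finset.sum_congr rfl
  intro j _
  linear_combination (x j) * hc i j

theorem mulVec_form [CharZero k] (Q : Matrix (Fin 3) (Fin 3) k) (a b : Fin 3 → k)
    (hc : ∀ i j, 2 * Q i j = a i * b j + a j * b i) (x : Fin 3 → k) :
    Q *ᵥ x = (2⁻¹ * dl b x) • a + (2⁻¹ * dl a x) • b := by
  funext i
  have h := two_mulVec Q a b hc x i
  have h2 : (2 : k) ≠ 0 := two_ne_zero
  simp only [Pi.add_apply, Pi.smul_apply, smul_eq_mul]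
  have e : (Q *ᵥ x) i = 2⁻¹ * (2 * (Q *ᵥ x) i) := by
    rw [← mul_assoc, inv_mul_cancel₀ h2, one_mul]
  rw [e, h]
  ring

theorem det_zero_of_factor [CharZero k] (Q : Matrix (Fin 3) (Fin 3) k) (hQ : Q.IsSymm)
    (a b : Fin 3 → k) (h : qf Q = linL a * linL b) : Q.det = 0 := by
  rw [← Matrix.exists_mulVec_eq_zero_iff]
  obtain ⟨x, hx, ha, hb⟩ := Conic2x2H4.common_zero (dl a) (dl b)
  refine ⟨x, hx, ?_⟩
  rw [mulVec_form Q a b (coeff_of_factor Q hQ a b h) x, ha, hb, mul_zero, zero_smul, zero_smul,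
    add_zero]

theorem qf_ne_zero [CharZero k] (Q : Matrix (Fin 3) (Fin 3) k) (hQ : Q.IsSymm) (hQ0 : Q ≠ 0) :
    qf Q ≠ 0 := by
  intro h
  apply hQ0
  ext i j
  show Q i j = 0
  have h1 := congrArg (pderiv i) h
  rw [pderiv_qf Q hQ, map_zero] at h1
  have h2 := congrArg (pderiv j) h1
  simp only [pderiv_mul, pderiv_C, pderiv_linL, map_zero, zero_mul, zero_add] at h2
  rw [← map_mul] at h2
  have h3 := C_injective (Fin 3) k (h2.trans (map_zero C).symm)
  rcases mul_eq_zero.mp h3 with h4 | h4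
  · exact absurd h4 two_ne_zero
  · exact h4

theorem not_unit_of_hom (p : MvPolynomial (Fin 3) k) (n : ℕ) (hn : n ≠ 0)
    (hp : p.IsHomogeneous n) : ¬ IsUnit p := by
  intro hu
  by_cases h0 : p = 0
  · rw [h0] at hu; exact not_isUnit_zero hu
  · have h1 := hp.totalDegree h0
    have h2 := (isUnit_iff_totalDegree_of_isReduced.mp hu).2
    omega

theorem split_deg_one (g : MvPolynomial (Fin 3) k) (hg : g.totalDegree = 1) :
    ∃ g0 g1 : MvPolynomial (Fin 3) k, g0.IsHomogeneous 0 ∧ g1.IsHomogeneous 1 ∧ g = g0 + g1 := by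
  refine ⟨homogeneousComponent 0 g, homogeneousComponent 1 g,
    homogeneousComponent_isHomogeneous _ _, homogeneousComponent_isHomogeneous _ _, ?_⟩
  have := sum_homogeneousComponent g
  rw [hg, Finset.sum_range_succ, Finset.sum_range_one] at this
  exact this.symm

theorem totalDegree_ne_zero_of_not_unit (g : MvPolynomial (Fin 3) k) (hg0 : g ≠ 0)
    (hg : ¬IsUnit g) : g.totalDegree ≠ 0 := by
  intro h0
  apply hg
  rw [isUnit_iff_totalDegree_of_isReduced]
  refine ⟨?_, h0⟩
  rw [isUnit_iff_ne_zero]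
  intro hc
  apply hg0
  rw [totalDegree_eq_zero_iff_eq_C.mp h0, hc, C_0]

theorem factor_lin (f g h : MvPolynomial (Fin 3) k) (hf : f.IsHomogeneous 2) (hf0 : f ≠ 0)
    (hfg : f = g * h) (hg : ¬IsUnit g) (hh : ¬IsUnit h) :
    ∃ a b : Fin 3 → k, f = linL a * linL b := by
  have hg0 : g ≠ 0 := by rintro rfl; exact hf0 (by rw [hfg, zero_mul])
  have hh0 : h ≠ 0 := by rintro rfl; exact hf0 (by rw [hfg, mul_zero])
  have hdeg : f.totalDegree = 2 := hf.totalDegree hf0
  have hd : g.totalDegree + h.totalDegree = 2 := by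
    rw [← hdeg, hfg, totalDegree_mul_of_isDomain hg0 hh0]
  have hg1 := totalDegree_ne_zero_of_not_unit g hg0 hg
  have hh1 := totalDegree_ne_zero_of_not_unit h hh0 hh
  obtain ⟨g0, g1, hg0h, hg1h, hgeq⟩ := split_deg_one g (by omega)
  obtain ⟨h0, h1, hh0h, hh1h, hheq⟩ := split_deg_one h (by omega)
  have e : g * h = g0 * h0 + g0 * h1 + g1 * h0 + g1 * h1 := by
    rw [hgeq, hheq]; ring
  have c00 : homogeneousComponent 2 (g0 * h0) = 0 := by
    rw [homogeneousComponent_of_mem ((mem_homogeneousSubmodule _ _).mpr (hg0h.mul hh0h))]; simp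
  have c01 : homogeneousComponent 2 (g0 * h1) = 0 := by
    rw [homogeneousComponent_of_mem ((mem_homogeneousSubmodule _ _).mpr (hg0h.mul hh1h))]; simp
  have c10 : homogeneousComponent 2 (g1 * h0) = 0 := by
    rw [homogeneousComponent_of_mem ((mem_homogeneousSubmodule _ _).mpr (hg1h.mul hh0h))]; simp
  have c11 : homogeneousComponent 2 (g1 * h1) = g1 * h1 := by
    rw [homogeneousComponent_of_mem ((mem_homogeneousSubmodule _ _).mpr (hg1h.mul hh1h))]; simp
  have key := congrArg (homogeneousComponent 2) hfg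
  rw [e, map_add, map_add, map_add, c00, c01, c10, c11,
    homogeneousComponent_of_mem ((mem_homogeneousSubmodule _ _).mpr hf), if_pos rfl,
    zero_add, zero_add, zero_add] at key
  refine ⟨Conic2x2H4.cf g1, Conic2x2H4.cf h1, ?_⟩
  rw [← eq_linL g1 hg1h, ← eq_linL h1 hh1h]
  exact key

theorem binfac [IsAlgClosed k] [CharZero k] (y y' : Fin 3 → k) (α β γ : k) :
    ∃ a b : Fin 3 → k, C α * (linL y * linL y) + C β * (linL y * linL y')
      + C γ * (linL y' * linL y') = linL a * linL b := by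
  by_cases hα : α = 0
  · refine ⟨y', β • y + γ • y', ?_⟩
    rw [hα, map_add, map_smul, map_smul, smul_eq_C_mul, smul_eq_C_mul, map_zero]
    ring
  · obtain ⟨r1, hr1⟩ := exists_quadratic_eq_zero (b := β) (c := γ) hα
      (IsAlgClosed.exists_eq_mul_self _)
    have hdiv : α * (-β / α) = -β := by field_simp
    have h1 : α * (r1 + (-β / α - r1)) = -β := by linear_combination hdiv
    have h2 : α * r1 * (-β / α - r1) = γ := by linear_combination r1 * hdiv - hr1
    refine ⟨α • (y - r1 • y'), y - (-β / α - r1) • y', ?_⟩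
    have e1 : (C α : MvPolynomial (Fin 3) k) * (C r1 + C (-β / α - r1)) = - C β := by
      rw [← map_add, ← map_mul, h1, map_neg]
    have e2 : (C α : MvPolynomial (Fin 3) k) * C r1 * C (-β / α - r1) = C γ := by
      rw [← map_mul, ← map_mul, h2]
    rw [map_smul, map_sub, map_sub, map_smul, map_smul, smul_eq_C_mul, smul_eq_C_mul,
      smul_eq_C_mul]
    linear_combination (linL y * linL y') * e1 - (linL y' * linL y') * e2

theorem gen_id (Q : Matrix (Fin 3) (Fin 3) k) (hQ : Q.IsSymm) (x0 : Fin 3 → k)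
    (hx : Q *ᵥ x0 = 0) (T : MvPolynomial (Fin 3) k) :
    qf Q = ∑ a, ∑ b, Q a b • ((X a - C (x0 a) * T) * (X b - C (x0 b) * T)) := by
  have h10 := hQ.apply 0 1
  have h20 := hQ.apply 0 2
  have h21 := hQ.apply 1 2
  have R : ∀ a, (C (Q a 0) * C (x0 0) + C (Q a 1) * C (x0 1) + C (Q a 2) * C (x0 2)
      : MvPolynomial (Fin 3) k) = 0 := by
    intro a
    have h := congrFun hx a
    simp only [Matrix.mulVec, dotProduct, Fin.sum_univ_three, Pi.zero_apply] at h
    rw [← map_mul, ← map_mul, ← map_mul, ← map_add, ← map_add, h, map_zero]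
  have R0 := R 0
  have R1 := R 1
  have R2 := R 2
  simp only [h10] at R1
  simp only [h20, h21] at R2
  unfold qf
  simp only [Fin.sum_univ_three, smul_eq_C_mul, h10, h20, h21]
  linear_combination (2 * T * X 0 - T ^ 2 * C (x0 0)) * R0
    + (2 * T * X 1 - T ^ 2 * C (x0 1)) * R1 + (2 * T * X 2 - T ^ 2 * C (x0 2)) * R2

theorem bin_of [IsAlgClosed k] [CharZero k] (Q : Matrix (Fin 3) (Fin 3) k)
    (Y : Fin 3 → MvPolynomial (Fin 3) k) (y : Fin 3 → Fin 3 → k)
    (hY : ∀ a, Y a = linL (y a)) (i0 : Fin 3) (hY0 : Y i0 = 0) :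
    ∃ a b : Fin 3 → k, ∑ a, ∑ b, Q a b • (Y a * Y b) = linL a * linL b := by
  have h3 : i0 = 0 ∨ i0 = 1 ∨ i0 = 2 := by fin_cases i0 <;> simp
  rcases h3 with rfl | rfl | rfl
  · obtain ⟨a, b, hab⟩ := binfac (y 1) (y 2) (Q 1 1) (Q 1 2 + Q 2 1) (Q 2 2)
    refine ⟨a, b, ?_⟩
    rw [← hab, ← hY 1, ← hY 2]
    simp only [Fin.sum_univ_three, hY0, smul_eq_C_mul, map_add]
    ring
  · obtain ⟨a, b, hab⟩ := binfac (y 0) (y 2) (Q 0 0) (Q 0 2 + Q 2 0) (Q 2 2)
    refine ⟨a, b, ?_⟩
    rw [← hab, ← hY 0, ← hY 2]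
    simp only [Fin.sum_univ_three, hY0, smul_eq_C_mul, map_add]
    ring
  · obtain ⟨a, b, hab⟩ := binfac (y 0) (y 1) (Q 0 0) (Q 0 1 + Q 1 0) (Q 1 1)
    refine ⟨a, b, ?_⟩
    rw [← hab, ← hY 0, ← hY 1]
    simp only [Fin.sum_univ_three, hY0, smul_eq_C_mul, map_add]
    ring

theorem factor_of_det_zero [IsAlgClosed k] [CharZero k] (Q : Matrix (Fin 3) (Fin 3) k)
    (hQ : Q.IsSymm) (hdet : Q.det = 0) :
    ∃ a b : Fin 3 → k, qf Q = linL a * linL b := by
  obtain ⟨x0, hx0, hx⟩ := Matrix.exists_mulVec_eq_zero_iff.mpr hdet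
  obtain ⟨i0, hi0⟩ := Function.ne_iff.mp hx0
  have hi0' : x0 i0 ≠ 0 := hi0
  rw [gen_id Q hQ x0 hx (C (1 / x0 i0) * X i0)]
  apply bin_of Q (fun a => X a - C (x0 a) * (C (1 / x0 i0) * X i0))
    (fun a => Pi.single a 1 - (x0 a / x0 i0) • Pi.single i0 1) ?_ i0 ?_
  · intro a
    rw [map_sub, map_smul, linL_single, linL_single, smul_eq_C_mul]
    have hC : (C (x0 a / x0 i0) : MvPolynomial (Fin 3) k) = C (x0 a) * C (1 / x0 i0) := by
      rw [← map_mul, mul_one_div]
    rw [hC]
    ring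
  · show X i0 - C (x0 i0) * (C (1 / x0 i0) * X i0) = 0
    rw [← mul_assoc, ← map_mul, mul_one_div_cancel hi0', map_one, one_mul, sub_self]

theorem det_zero_of_rank (Q : Matrix (Fin 3) (Fin 3) k) (h : Q.rank ≠ 3) : Q.det = 0 := by
  by_contra hd
  apply h
  have h1 := Matrix.rank_of_isUnit Q
    ((Matrix.isUnit_iff_isUnit_det Q).mpr (isUnit_iff_ne_zero.mpr hd))
  rw [h1, Fintype.card_fin]

theorem dl_cross (a b : Fin 3 → k) (j : Fin 3) :
    dl b (a ⨯₃ Pi.single j 1) = -(a ⨯₃ b) j ∧ dl a (a ⨯₃ Pi.single j 1) = 0 := by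
  have h3 : j = 0 ∨ j = 1 ∨ j = 2 := by fin_cases j <;> simp
  rcases h3 with rfl | rfl | rfl <;> refine ⟨?_, ?_⟩ <;>
    simp [dl_apply, cross_apply, Fin.sum_univ_three, Pi.single_apply] <;> ring

theorem mem_range_of [CharZero k] (Q : Matrix (Fin 3) (Fin 3) k) (a b : Fin 3 → k)
    (hc : ∀ i j, 2 * Q i j = a i * b j + a j * b i) (x : Fin 3 → k)
    (ha0 : dl a x = 0) (hb : dl b x ≠ 0) : a ∈ LinearMap.range Q.mulVecLin := by
  refine ⟨(2 / dl b x) • x, ?_⟩
  rw [Matrix.mulVecLin_apply, Matrix.mulVec_smul, mulVec_form Q a b hc x, ha0, mul_zero,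
    zero_smul, add_zero, smul_smul]
  have h1 : 2 / dl b x * (2⁻¹ * dl b x) = 1 := by field_simp
  rw [h1, one_smul]

theorem rank_two [CharZero k] (Q : Matrix (Fin 3) (Fin 3) k) (a b : Fin 3 → k)
    (hc : ∀ i j, 2 * Q i j = a i * b j + a j * b i) (hab : LinearIndependent k ![a, b]) :
    Q.rank = 2 := by
  have hw : a ⨯₃ b ≠ 0 := crossProduct_ne_zero_iff_linearIndependent.mpr hab
  obtain ⟨j, hj⟩ := Function.ne_iff.mp hw
  have hj' : (a ⨯₃ b) j ≠ 0 := hj
  have hc' : ∀ i j, 2 * Q i j = b i * a j + b j * a i := fun i j => by rw [hc i j]; ring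
  have ha_mem : a ∈ LinearMap.range Q.mulVecLin := by
    apply mem_range_of Q a b hc (a ⨯₃ Pi.single j 1) (dl_cross a b j).2
    rw [(dl_cross a b j).1]
    exact neg_ne_zero.mpr hj'
  have hb_mem : b ∈ LinearMap.range Q.mulVecLin := by
    apply mem_range_of Q b a hc' (b ⨯₃ Pi.single j 1) (dl_cross b a j).2
    rw [(dl_cross b a j).1, ← cross_anticomm a b]
    simp only [Pi.neg_apply, neg_neg]
    exact hj'
  have hrange : LinearMap.range Q.mulVecLin = Submodule.span k (Set.range ![a, b]) := by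
    apply le_antisymm
    · rintro _ ⟨x, rfl⟩
      rw [Matrix.mulVecLin_apply, mulVec_form Q a b hc x]
      exact Submodule.add_mem _ (Submodule.smul_mem _ _ (Submodule.subset_span ⟨0, rfl⟩))
        (Submodule.smul_mem _ _ (Submodule.subset_span ⟨1, rfl⟩))
    · rw [Submodule.span_le]
      rintro _ ⟨i, rfl⟩
      have h2 : i = 0 ∨ i = 1 := by fin_cases i <;> simp
      rcases h2 with rfl | rfl
      · exact ha_mem
      · exact hb_mem
  show Module.finrank k (LinearMap.range Q.mulVecLin) = 2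
  rw [hrange, finrank_span_eq_card hab, Fintype.card_fin]

theorem rank_one [CharZero k] (Q : Matrix (Fin 3) (Fin 3) k) (a : Fin 3 → k)
    (hc : ∀ i j, 2 * Q i j = a i * a j + a j * a i) (hQ0 : Q ≠ 0) : Q.rank = 1 := by
  have h2 : (2 : k) ≠ 0 := two_ne_zero
  have hform : ∀ x, Q *ᵥ x = (dl a x) • a := by
    intro x
    rw [mulVec_form Q a a hc x, ← add_smul]
    congr 1
    rw [← add_mul, ← two_mul, mul_inv_cancel₀ h2, one_mul]
  have ha0 : a ≠ 0 := by
    rintro rfl
    apply hQ0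
    ext i j
    show Q i j = 0
    have h3 := hc i j
    simp only [Pi.zero_apply, mul_zero, add_zero] at h3
    rcases mul_eq_zero.mp h3 with h4 | h4
    · exact absurd h4 h2
    · exact h4
  obtain ⟨j, hj⟩ := Function.ne_iff.mp ha0
  have hj' : a j ≠ 0 := hj
  have hrange : LinearMap.range Q.mulVecLin = Submodule.span k {a} := by
    apply le_antisymm
    · rintro _ ⟨x, rfl⟩
      rw [Matrix.mulVecLin_apply, hform x]
      exact Submodule.smul_mem _ _ (Submodule.subset_span rfl)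
    · rw [Submodule.span_le]
      intro y hy
      rw [Set.mem_singleton_iff] at hy
      rw [hy]
      refine ⟨(1 / a j) • Pi.single j 1, ?_⟩
      rw [Matrix.mulVecLin_apply, Matrix.mulVec_smul, hform, dl_single, smul_smul,
        one_div, inv_mul_cancel₀ hj', one_smul]
  show Module.finrank k (LinearMap.range Q.mulVecLin) = 1
  rw [hrange, finrank_span_singleton ha0]

theorem trichotomy [IsAlgClosed k] [CharZero k] (Q : Matrix (Fin 3) (Fin 3) k) (hQ : Q.IsSymm)
    (hQ0 : Q ≠ 0) (hdet : Q.det = 0) :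
    (∃ a b : Fin 3 → k, LinearIndependent k ![a, b] ∧ qf Q = linL a * linL b) ∨
      (∃ a : Fin 3 → k, qf Q = linL a ^ 2) := by
  obtain ⟨a, b, hab⟩ := factor_of_det_zero Q hQ hdet
  by_cases hli : LinearIndependent k ![a, b]
  · exact Or.inl ⟨a, b, hli, hab⟩
  · right
    rw [LinearIndependent.pair_iff] at hli
    push_neg at hli
    obtain ⟨s, t, hst, hne⟩ := hli
    have hf0 := qf_ne_zero Q hQ hQ0
    have ha0 : a ≠ 0 := by
      rintro rfl; apply hf0; rw [hab, map_zero, zero_mul]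
    have ht : t ≠ 0 := by
      intro ht0
      have hs0 : s ≠ 0 := fun hs => hne hs ht0
      rw [ht0, zero_smul, add_zero] at hst
      exact ha0 ((smul_eq_zero.mp hst).resolve_left hs0)
    have htb : t • b = -(s • a) := by
      rw [eq_neg_iff_add_eq_zero, add_comm]; exact hst
    have hb : b = (-(t⁻¹ * s)) • a := by
      calc b = t⁻¹ • (t • b) := by rw [smul_smul, inv_mul_cancel₀ ht, one_smul]
        _ = t⁻¹ • (-(s • a)) := by rw [htb]
        _ = (-(t⁻¹ * s)) • a := by rw [smul_neg, smul_smul, neg_smul]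
    obtain ⟨r, hr⟩ := IsAlgClosed.exists_eq_mul_self (-(t⁻¹ * s))
    refine ⟨r • a, ?_⟩
    rw [hab, hb, map_smul, map_smul, smul_eq_C_mul, smul_eq_C_mul, hr, map_mul]
    ring

theorem main [IsAlgClosed k] [CharZero k]
    (Q : Matrix (Fin 3) (Fin 3) k) (hQ : Q.IsSymm) (hQ0 : Q ≠ 0) (f : MvPolynomial (Fin 3) k)
    (hf : f = ∑ i : Fin 3, ∑ j : Fin 3, Q i j • (MvPolynomial.X i * MvPolynomial.X j)) :
    (Irreducible f ↔ Q.det ≠ 0) ∧
    ((∃ u : Fin 3 → k, u ≠ 0 ∧ ∀ i : Fin 3,
        MvPolynomial.eval u (MvPolynomial.pderiv i f) = 0) ↔ Q.det = 0) ∧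
    ((∃ a b : Fin 3 → k, LinearIndependent k ![a, b] ∧
        f = (∑ i : Fin 3, a i • MvPolynomial.X i) * (∑ i : Fin 3, b i • MvPolynomial.X i))
          ↔ Q.rank = 2) ∧
    ((∃ a : Fin 3 → k, f = (∑ i : Fin 3, a i • MvPolynomial.X i) ^ 2) ↔ Q.rank = 1) := by
  have hfq : f = qf Q := hf
  rw [hfq]
  simp only [← linL_apply]
  refine ⟨?_, part2 Q hQ, ?_, ?_⟩
  · constructor
    · intro hirr hdet
      obtain ⟨a, b, hab⟩ := factor_of_det_zero Q hQ hdet
      rcases hirr.isUnit_or_isUnit hab with h | h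
      · exact not_unit_of_hom _ 1 one_ne_zero (linL_hom a) h
      · exact not_unit_of_hom _ 1 one_ne_zero (linL_hom b) h
    · intro hdet
      rw [irreducible_iff]
      refine ⟨not_unit_of_hom _ 2 two_ne_zero (qf_hom Q), ?_⟩
      intro g h hgh
      by_contra hcon
      push_neg at hcon
      obtain ⟨a, b, hab⟩ := factor_lin (qf Q) g h (qf_hom Q) (qf_ne_zero Q hQ hQ0) hgh
        hcon.1 hcon.2
      exact hdet (det_zero_of_factor Q hQ a b hab)
  · constructor
    · rintro ⟨a, b, hli, hab⟩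
      exact rank_two Q a b (coeff_of_factor Q hQ a b hab) hli
    · intro hr
      have hdet : Q.det = 0 := det_zero_of_rank Q (by omega)
      rcases trichotomy Q hQ hQ0 hdet with h | ⟨a, ha⟩
      · exact h
      · exfalso
        have h1 := rank_one Q a (coeff_of_factor Q hQ a a (by rw [ha, sq])) hQ0
        omega
  · constructor
    · rintro ⟨a, ha⟩
      exact rank_one Q a (coeff_of_factor Q hQ a a (by rw [ha, sq])) hQ0
    · intro hr
      have hdet : Q.det = 0 := det_zero_of_rank Q (by omega)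
      rcases trichotomy Q hQ hQ0 hdet with ⟨a, b, hli, hab⟩ | h
      · exfalso
        have h1 := rank_two Q a b (coeff_of_factor Q hQ a b hab) hli
        omega
      · exact h

end Groth.Agent.Lib.ConicClassH4
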