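import Mathlib
import Groth.Prelude.Def_W4c3cyccovratcurvTree

/-!
# Marked linear trees are connected by conic deformations (helper1)
-/

set_option autoImplicit false
set_option maxHeartbeats 1000000

namespace Groth.Agent.Lib.ConicTreeH1

open W4c3cyccovratcurv SimpleGraph

variable {k n : ℕ}

/-- bundled marked tree on `Fin n` -/
abbrev mkT (G : SimpleGraph (Fin n)) (hG : G.IsTree) (m : Fin k → Fin n) : MarkedTree k :=
  ⟨n, G, hG, m⟩

theorem contract_adj (G : SimpleGraph (Fin n)) (u w : Fin n) (a b : {v : Fin n // v ≠ w}) :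
    (contract G u w).Adj a b ↔ a ≠ b ∧ ((G.Adj a.1 b.1 ∨ (a.1 = u ∧ G.Adj w b.1)) ∨
      (G.Adj b.1 a.1 ∨ (b.1 = u ∧ G.Adj w a.1))) :=
  SimpleGraph.fromRel_adj _ a b

theorem conicAdj_of_same (G G' : SimpleGraph (Fin n)) (hG : G.IsTree) (hG' : G'.IsTree)
    (m m' : Fin k → Fin n) (u w : Fin n) (h : G.Adj u w) (h' : G'.Adj u w)
    (hadj : ∀ a b : {v : Fin n // v ≠ w}, (contract G' u w).Adj a b ↔ (contract G u w).Adj a b)
    (hmark : ∀ i, contractMark m u w h.ne i = contractMark m' u w h'.ne i) :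
    ConicAdj (mkT G hG m) (mkT G' hG' m') := by
  refine ⟨u, w, u, w, h, h', ⟨Equiv.refl _, fun {a b} => hadj a b⟩, rfl, ?_⟩
  intro i
  exact hmark i

theorem conicAdj_symm {T₁ T₂ : MarkedTree k} (h : ConicAdj T₁ T₂) : ConicAdj T₂ T₁ := by
  obtain ⟨u₁, w₁, u₂, w₂, h₁, h₂, φ, hφ, hm⟩ := h
  refine ⟨u₂, w₂, u₁, w₁, h₂, h₁, φ.symm, ?_, ?_⟩
  · rw [← hφ, φ.symm_apply_apply]
  · intro i; rw [← hm i, φ.symm_apply_apply]

/-- replace the edge `w x` by `u x` -/
def slide (G : SimpleGraph (Fin n)) (u w x : Fin n) : SimpleGraph (Fin n) :=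
  G.deleteEdges {s(w, x)} ⊔ SimpleGraph.edge u x

theorem slide_adj (G : SimpleGraph (Fin n)) (u w x a b : Fin n) :
    (slide G u w x).Adj a b ↔ (G.Adj a b ∧ ¬(a = w ∧ b = x ∨ a = x ∧ b = w)) ∨
      ((a = u ∧ b = x ∨ a = x ∧ b = u) ∧ a ≠ b) := by
  unfold slide
  rw [sup_adj, deleteEdges_adj, edge_adj, Set.mem_singleton_iff, Sym2.eq_iff]

theorem slide_adj_off (G : SimpleGraph (Fin n)) (u w x A B : Fin n) (hA : A ≠ w) (hB : B ≠ w)
    (hAB : A ≠ B) :
    (slide G u w x).Adj A B ↔ G.Adj A B ∨ (A = u ∧ B = x ∨ A = x ∧ B = u) := by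
  rw [slide_adj]
  constructor
  · rintro (⟨h, _⟩ | ⟨h, _⟩)
    · exact Or.inl h
    · exact Or.inr h
  · rintro (h | h)
    · refine Or.inl ⟨h, ?_⟩
      rintro (⟨h1, _⟩ | ⟨_, h2⟩)
      · exact hA h1
      · exact hB h2
    · exact Or.inr ⟨h, hAB⟩

theorem slide_adj_w (G : SimpleGraph (Fin n)) (u w x B : Fin n) (hwu : w ≠ u) (hwx : w ≠ x) :
    (slide G u w x).Adj w B ↔ G.Adj w B ∧ B ≠ x := by
  rw [slide_adj]
  constructor
  · rintro (⟨h, hne⟩ | ⟨h, _⟩)
    · exact ⟨h, fun hB => hne (Or.inl ⟨rfl, hB⟩)⟩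
    · rcases h with ⟨h1, _⟩ | ⟨h1, _⟩
      · exact absurd h1 hwu
      · exact absurd h1 hwx
  · rintro ⟨h, hB⟩
    refine Or.inl ⟨h, ?_⟩
    rintro (⟨_, h2⟩ | ⟨h1, _⟩)
    · exact hB h2
    · exact hwx h1

theorem slide_contract_core (G : SimpleGraph (Fin n)) (u w x : Fin n) (huw : G.Adj u w)
    (hwx : G.Adj w x) (A B : Fin n) (hA : A ≠ w) (hB : B ≠ w) (hAB : A ≠ B) :
    (((slide G u w x).Adj A B ∨ (A = u ∧ (slide G u w x).Adj w B)) ∨
      ((slide G u w x).Adj B A ∨ (B = u ∧ (slide G u w x).Adj w A))) ↔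
    ((G.Adj A B ∨ (A = u ∧ G.Adj w B)) ∨ (G.Adj B A ∨ (B = u ∧ G.Adj w A))) := by
  rw [slide_adj_off G u w x A B hA hB hAB, slide_adj_off G u w x B A hB hA hAB.symm,
    slide_adj_w G u w x B huw.ne.symm hwx.ne, slide_adj_w G u w x A huw.ne.symm hwx.ne]
  constructor
  · rintro (((h | ⟨h1, h2⟩ | ⟨h1, h2⟩) | ⟨h1, h2, _⟩) | ((h | ⟨h1, h2⟩ | ⟨h1, h2⟩) | ⟨h1, h2, _⟩))
    · exact Or.inl (Or.inl h)
    · exact Or.inl (Or.inr ⟨h1, h2 ▸ hwx⟩)
    · exact Or.inr (Or.inr ⟨h2, h1 ▸ hwx⟩)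
    · exact Or.inl (Or.inr ⟨h1, h2⟩)
    · exact Or.inr (Or.inl h)
    · exact Or.inr (Or.inr ⟨h1, h2 ▸ hwx⟩)
    · exact Or.inl (Or.inr ⟨h2, h1 ▸ hwx⟩)
    · exact Or.inr (Or.inr ⟨h1, h2⟩)
  · rintro ((h | ⟨h1, h2⟩) | (h | ⟨h1, h2⟩))
    · exact Or.inl (Or.inl (Or.inl h))
    · by_cases hBx : B = x
      · exact Or.inl (Or.inl (Or.inr (Or.inl ⟨h1, hBx⟩)))
      · exact Or.inl (Or.inr ⟨h1, h2, hBx⟩)
    · exact Or.inr (Or.inl (Or.inl h))
    · by_cases hAx : A = x
      · exact Or.inr (Or.inl (Or.inr (Or.inl ⟨h1, hAx⟩)))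
      · exact Or.inr (Or.inr ⟨h1, h2, hAx⟩)

theorem slide_isTree (G : SimpleGraph (Fin n)) (hG : G.IsTree) (u w x : Fin n)
    (huw : G.Adj u w) (hwx : G.Adj w x) (hxu : x ≠ u) : (slide G u w x).IsTree := by
  have hbridge : ¬ (G.deleteEdges {s(w, x)}).Reachable w x := by
    have := (isAcyclic_iff_forall_adj_isBridge.mp hG.isAcyclic) hwx
    rwa [isBridge_iff] at this
  have hwu' : (G.deleteEdges {s(w, x)}).Adj w u := by
    rw [deleteEdges_adj]
    refine ⟨huw.symm, ?_⟩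
    rw [Set.mem_singleton_iff, Sym2.eq_iff]
    rintro (⟨_, h⟩ | ⟨h, _⟩)
    · exact hxu h.symm
    · exact hwx.ne h
  have hnreach : ¬ (G.deleteEdges {s(w, x)}).Reachable u x := by
    intro h
    exact hbridge (hwu'.reachable.trans h)
  have hacyc : (slide G u w x).IsAcyclic :=
    (hG.isAcyclic.anti (deleteEdges_le _)).sup_edge_of_not_reachable hnreach
  have hwx' : (slide G u w x).Reachable w x := by
    have h1 : (slide G u w x).Adj w u := by
      rw [slide_adj]
      refine Or.inl ⟨huw.symm, ?_⟩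
      rintro (⟨_, h⟩ | ⟨h, _⟩)
      · exact hxu h.symm
      · exact hwx.ne h
    have h2 : (slide G u w x).Adj u x := by
      rw [slide_adj]
      exact Or.inr ⟨Or.inl ⟨rfl, rfl⟩, hxu.symm⟩
    exact h1.reachable.trans h2.reachable
  have hpre : (slide G u w x).Preconnected := by
    intro a b
    have hab : G.Reachable a b := hG.connected a b
    rw [reachable_iff_reflTransGen] at hab
    induction hab with
    | refl => exact Reachable.refl _
    | @tail b' c' _ hbc ih =>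
      refine ih.trans ?_
      by_cases he : (b' = w ∧ c' = x ∨ b' = x ∧ c' = w)
      · rcases he with ⟨rfl, rfl⟩ | ⟨rfl, rfl⟩
        · exact hwx'
        · exact hwx'.symm
      · have : (slide G u w x).Adj b' c' := by
          rw [slide_adj]; exact Or.inl ⟨hbc, he⟩
        exact this.reachable
  haveI := hG.connected.nonempty
  exact ⟨⟨hpre⟩, hacyc⟩

theorem step_slide (G : SimpleGraph (Fin n)) (hG : G.IsTree) (m : Fin k → Fin n) (u w x : Fin n)
    (huw : G.Adj u w) (hwx : G.Adj w x) (hxu : x ≠ u) :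
    ConicAdj (mkT G hG m) (mkT (slide G u w x) (slide_isTree G hG u w x huw hwx hxu) m) := by
  have huw' : (slide G u w x).Adj u w := by
    rw [slide_adj]
    refine Or.inl ⟨huw, ?_⟩
    rintro (⟨h1, _⟩ | ⟨h1, _⟩)
    · exact huw.ne h1
    · exact hxu h1.symm
  apply conicAdj_of_same G _ hG _ m m u w huw huw'
  · intro a b
    rw [contract_adj, contract_adj]
    by_cases hab : a = b
    · simp [hab]
    · have hAB : a.1 ≠ b.1 := fun h => hab (Subtype.ext h)
      rw [slide_contract_core G u w x huw hwx a.1 b.1 a.2 b.2 hAB]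
  · intro i; rfl

theorem step_mark (G : SimpleGraph (Fin n)) (hG : G.IsTree) (m : Fin k → Fin n) (u w : Fin n)
    (huw : G.Adj u w) (i₀ : Fin k) (hi : m i₀ = w) :
    ConicAdj (mkT G hG m) (mkT G hG (Function.update m i₀ u)) := by
  apply conicAdj_of_same G G hG hG m _ u w huw huw (fun a b => Iff.rfl)
  intro i
  unfold contractMark
  by_cases h : i = i₀
  · subst h
    rw [dif_pos hi, Function.update_self, dif_neg huw.ne]
  · rw [Function.update_of_ne h]

open Classical in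
theorem star_reach (c : Fin n) : ∀ (N : ℕ) (G : SimpleGraph (Fin n)) (hG : G.IsTree)
    (m : Fin k → Fin n),
    (Finset.univ.filter (fun v => v ≠ c ∧ ¬ G.Adj c v)).card = N →
    ∃ (G' : SimpleGraph (Fin n)) (hG' : G'.IsTree),
      Relation.ReflTransGen ConicAdj (mkT G hG m) (mkT G' hG' m) ∧ ∀ v, v ≠ c → G'.Adj c v := by
  classical
  intro N
  induction N using Nat.strong_induction_on with
  | _ N ih =>
    intro G hG m hN
    by_cases hF : ∀ v, v ≠ c → G.Adj c v
    · exact ⟨G, hG, Relation.ReflTransGen.refl, hF⟩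
    · push_neg at hF
      obtain ⟨v, hvc, hv⟩ := hF
      obtain ⟨p⟩ := hG.connected c v
      obtain ⟨d, -, hd1, hd2⟩ := p.exists_boundary_dart {a | a = c ∨ G.Adj c a} (Or.inl rfl)
        (show ¬ (v = c ∨ G.Adj c v) from fun h => h.elim hvc hv)
      have hd1' : d.fst = c ∨ G.Adj c d.fst := hd1
      have hd2' : ¬ (d.snd = c ∨ G.Adj c d.snd) := hd2
      have hadj : G.Adj d.fst d.snd := d.adj
      have hxc : d.snd ≠ c := fun h => hd2' (Or.inl h)
      have hncx : ¬ G.Adj c d.snd := fun h => hd2' (Or.inr h)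
      have hcw : G.Adj c d.fst := by
        rcases hd1' with h | h
        · exfalso; rw [h] at hadj; exact hncx hadj
        · exact h
      have hT := slide_isTree G hG c d.fst d.snd hcw hadj hxc
      have hstep := step_slide G hG m c d.fst d.snd hcw hadj hxc
      have hlt : (Finset.univ.filter
          (fun v => v ≠ c ∧ ¬ (slide G c d.fst d.snd).Adj c v)).card < N := by
        rw [← hN]
        apply Finset.card_lt_card
        rw [Finset.ssubset_iff_of_subset]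
        · refine ⟨d.snd, ?_, ?_⟩
          · rw [Finset.mem_filter]; exact ⟨Finset.mem_univ _, hxc, hncx⟩
          · rw [Finset.mem_filter]
            rintro ⟨_, _, h⟩
            apply h
            rw [slide_adj]
            exact Or.inr ⟨Or.inl ⟨rfl, rfl⟩, hxc.symm⟩
        · intro v hv
          rw [Finset.mem_filter] at hv ⊢
          refine ⟨hv.1, hv.2.1, fun h => hv.2.2 ?_⟩
          rw [slide_adj]
          refine Or.inl ⟨h, ?_⟩
          rintro (⟨h1, _⟩ | ⟨h1, _⟩)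
          · exact hcw.ne h1
          · exact hxc h1.symm
      obtain ⟨G', hG', hR, hstar⟩ := ih _ hlt (slide G c d.fst d.snd) hT m rfl
      exact ⟨G', hG', Relation.ReflTransGen.head hstep hR, hstar⟩

open Classical in
theorem marks_reach (G : SimpleGraph (Fin n)) (hG : G.IsTree) (c : Fin n)
    (hstar : ∀ v, v ≠ c → G.Adj c v) : ∀ (N : ℕ) (m : Fin k → Fin n),
    (Finset.univ.filter (fun i => m i ≠ c)).card = N →
    Relation.ReflTransGen ConicAdj (mkT G hG m) (mkT G hG (fun _ => c)) := by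
  classical
  intro N
  induction N with
  | zero =>
    intro m hN
    rw [Finset.card_eq_zero, Finset.filter_eq_empty_iff] at hN
    obtain rfl : m = fun _ => c := by
      ext i
      have := hN (Finset.mem_univ i)
      push_neg at this
      rw [this]
    exact Relation.ReflTransGen.refl
  | succ N ih =>
    intro m hN
    have hne : (Finset.univ.filter (fun i => m i ≠ c)).Nonempty := by
      rw [← Finset.card_pos, hN]; omega
    obtain ⟨i₀, hi₀⟩ := hne
    rw [Finset.mem_filter] at hi₀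
    have hstep := step_mark G hG m c (m i₀) (hstar _ hi₀.2) i₀ rfl
    refine Relation.ReflTransGen.head hstep (ih _ ?_)
    have : Finset.univ.filter (fun i => Function.update m i₀ c i ≠ c) =
        (Finset.univ.filter (fun i => m i ≠ c)).erase i₀ := by
      ext i
      simp only [Finset.mem_filter, Finset.mem_univ, true_and, Finset.mem_erase]
      by_cases h : i = i₀
      · subst h; simp
      · simp [Function.update_of_ne h, h]
    rw [this, Finset.card_erase_of_mem (by rw [Finset.mem_filter]; exact hi₀), hN]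
    rfl

theorem star_adj_iff (G : SimpleGraph (Fin n)) (hG : G.IsTree) (c : Fin n)
    (hstar : ∀ v, v ≠ c → G.Adj c v) (a b : Fin n) :
    G.Adj a b ↔ a ≠ b ∧ (a = c ∨ b = c) := by
  classical
  constructor
  · intro h
    refine ⟨h.ne, ?_⟩
    by_contra hcon
    push_neg at hcon
    have h3 := hG.isAcyclic.cliqueFree (le_refl 3)
    exact h3 {c, a, b} (is3Clique_triple_iff.mpr ⟨hstar a hcon.1, hstar b hcon.2, h⟩)
  · rintro ⟨hab, rfl | rfl⟩
    · exact hstar b hab.symm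
    · exact (hstar a hab).symm

theorem star_contract_adj (G : SimpleGraph (Fin n)) (hG : G.IsTree) (c w : Fin n)
    (hstar : ∀ v, v ≠ c → G.Adj c v) (hwc : w ≠ c) (a b : {v : Fin n // v ≠ w}) :
    (contract G c w).Adj a b ↔ a ≠ b ∧ (a.1 = c ∨ b.1 = c) := by
  rw [contract_adj]
  simp only [star_adj_iff G hG c hstar]
  constructor
  · rintro ⟨hab, h⟩
    refine ⟨hab, ?_⟩
    rcases h with (⟨_, h⟩ | ⟨h, _⟩) | (⟨_, h⟩ | ⟨h, _⟩)
    · exact h
    · exact Or.inl h
    · exact h.symm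
    · exact Or.inr h
  · rintro ⟨hab, h⟩
    have hAB : a.1 ≠ b.1 := fun h => hab (Subtype.ext h)
    exact ⟨hab, Or.inl (Or.inl ⟨hAB, h⟩)⟩

theorem final_conic (hn : 2 ≤ n) (Ga : SimpleGraph (Fin n)) (hGa : Ga.IsTree) (ca : Fin n)
    (hsa : ∀ v, v ≠ ca → Ga.Adj ca v) (Gb : SimpleGraph (Fin n)) (hGb : Gb.IsTree) (cb : Fin n)
    (hsb : ∀ v, v ≠ cb → Gb.Adj cb v) :
    ConicAdj (mkT Ga hGa (fun _ : Fin k => ca)) (mkT Gb hGb (fun _ : Fin k => cb)) := by
  haveI : Nontrivial (Fin n) := Fin.nontrivial_iff_two_le.mpr hn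
  obtain ⟨wa, hwa⟩ := exists_ne ca
  obtain ⟨wb, hwb⟩ := exists_ne cb
  obtain ⟨σ, hσ⟩ : ∃ σ : Fin n ≃ Fin n,
      σ = (Equiv.swap ca cb).trans (Equiv.swap (Equiv.swap ca cb wa) wb) := ⟨_, rfl⟩
  have hne1 : Equiv.swap ca cb wa ≠ cb := by
    intro h
    have : wa = ca := by
      have := congrArg (Equiv.swap ca cb) h
      rwa [Equiv.swap_apply_self, Equiv.swap_apply_right] at this
    exact hwa this
  have hσc : σ ca = cb := by
    rw [hσ, Equiv.trans_apply, Equiv.swap_apply_left,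
      Equiv.swap_apply_of_ne_of_ne hne1.symm hwb.symm]
  have hσw : σ wa = wb := by
    rw [hσ, Equiv.trans_apply, Equiv.swap_apply_left]
  have hσeq : ∀ v, σ v = cb ↔ v = ca := by
    intro v; rw [← hσc, σ.apply_eq_iff_eq]
  have hsub : ∀ v, v ≠ wa ↔ σ v ≠ wb := by
    intro v; rw [← hσw, Ne, Ne, σ.apply_eq_iff_eq]
  obtain ⟨e, he⟩ : ∃ e : {v : Fin n // v ≠ wa} ≃ {v : Fin n // v ≠ wb}, ∀ z, (e z).1 = σ z.1 :=
    ⟨σ.subtypeEquiv (p := fun v => v ≠ wa) (q := fun v => v ≠ wb) hsub, fun z => rfl⟩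
  refine ⟨ca, wa, cb, wb, hsa wa hwa, hsb wb hwb, ⟨e, ?_⟩, ?_, ?_⟩
  · intro a b
    rw [star_contract_adj Gb hGb cb wb hsb hwb, star_contract_adj Ga hGa ca wa hsa hwa]
    have e1 : (e a ≠ e b) ↔ a ≠ b := by
      rw [Ne, Ne, e.apply_eq_iff_eq]
    have e2 : ∀ z : {v : Fin n // v ≠ wa}, (e z).1 = cb ↔ z.1 = ca :=
      fun z => by rw [he z]; exact hσeq z.1
    rw [e1, e2 a, e2 b]
  · exact Subtype.ext ((he _).trans hσc)
  · intro i
    unfold contractMark
    rw [dif_neg hwa.symm, dif_neg hwb.symm]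
    exact Subtype.ext ((he _).trans hσc)

theorem main (k : ℕ) (T₁ T₂ : MarkedTree k) (h : T₁.n = T₂.n) :
    Relation.ReflTransGen ConicAdj T₁ T₂ := by
  obtain ⟨n, G₁, hG₁, m₁⟩ := T₁
  obtain ⟨n₂, G₂, hG₂, m₂⟩ := T₂
  simp only at h
  subst h
  haveI : Nonempty (Fin n) := hG₁.connected.nonempty
  have hnpos : 0 < n := Fin.pos_iff_nonempty.mpr ‹_›
  obtain ⟨c, -⟩ : ∃ c : Fin n, c = ⟨0, hnpos⟩ := ⟨_, rfl⟩
  obtain ⟨G₁', hG₁', hR₁, hs₁⟩ := star_reach c _ G₁ hG₁ m₁ rfl
  obtain ⟨G₂', hG₂', hR₂, hs₂⟩ := star_reach c _ G₂ hG₂ m₂ rfl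
  have hM₁ := marks_reach G₁' hG₁' c hs₁ _ m₁ rfl
  have hM₂ := marks_reach G₂' hG₂' c hs₂ _ m₂ rfl
  have hsymm : ∀ {A B : MarkedTree k}, Relation.ReflTransGen ConicAdj A B →
      Relation.ReflTransGen ConicAdj B A := by
    intro A B hAB
    induction hAB with
    | refl => exact Relation.ReflTransGen.refl
    | tail _ hbc ih => exact Relation.ReflTransGen.head (conicAdj_symm hbc) ih
  have hmid : Relation.ReflTransGen ConicAdj (mkT G₁' hG₁' (fun _ : Fin k => c))
      (mkT G₂' hG₂' (fun _ : Fin k => c)) := by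
    by_cases hn : 2 ≤ n
    · exact Relation.ReflTransGen.single (final_conic hn G₁' hG₁' c hs₁ G₂' hG₂' c hs₂)
    · have hn1 : n = 1 := by omega
      subst hn1
      have : G₁' = G₂' := by
        ext a b
        have := Subsingleton.elim a b
        subst this
        simp
      subst this
      exact Relation.ReflTransGen.refl
  exact (hR₁.trans hM₁).trans (hmid.trans (hsymm (hR₂.trans hM₂)))

end Groth.Agent.Lib.ConicTreeH1
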