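import Mathlib

/-!
# Algebra core: a natural action of the characters of a commutative monoid on the points of an
algebra, which is trivial modulo a nilpotent ideal, is trivial (helper4)

The weight-space decomposition argument behind the theorem that a group of multiplicative type acting
trivially modulo a nilpotent ideal acts trivially.
-/

set_option autoImplicit false
set_option linter.unusedVariables false
set_option linter.unusedTactic false
set_option linter.unreachableTactic false
set_option linter.unusedSectionVars false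
set_option linter.style.haveILetI false
set_option linter.deprecated false
set_option linter.unusedSimpArgs false
set_option maxHeartbeats 1600000

universe u

namespace Groth.Agent.Lib.MultTrivH4

section Alg

variable {R' A' : Type u} [CommRing R'] [CommRing A'] [Algebra R' A'] {G : Type} [CommMonoid G]

/-- The algebra map out of `A'[G]` attached to a character and a point. -/
noncomputable def lft {C : Type u} [CommRing C] [Algebra R' C] (ψ : G →* C) (ξ : A' →ₐ[R'] C) :
    MonoidAlgebra A' G →ₐ[R'] C :=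
  MonoidAlgebra.liftNCAlgHom ξ ψ (fun _ _ => Commute.all _ _)

theorem lft_single {C : Type u} [CommRing C] [Algebra R' C] (ψ : G →* C) (ξ : A' →ₐ[R'] C)
    (g : G) (c : A') : lft ψ ξ (MonoidAlgebra.single g c) = ξ c * ψ g := by
  unfold lft
  rw [MonoidAlgebra.coe_liftNCAlgHom]
  exact MonoidAlgebra.liftNC_single _ _ g c

theorem lft_comp_singleOne {C : Type u} [CommRing C] [Algebra R' C] (ψ : G →* C)
    (ξ : A' →ₐ[R'] C) :
    (lft ψ ξ).comp (MonoidAlgebra.singleOneAlgHom : A' →ₐ[R'] MonoidAlgebra A' G) = ξ := by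
  apply AlgHom.ext
  intro c
  show lft ψ ξ (MonoidAlgebra.single 1 c) = ξ c
  rw [lft_single, map_one, mul_one]

theorem lft_comp_of {C : Type u} [CommRing C] [Algebra R' C] (ψ : G →* C) (ξ : A' →ₐ[R'] C) :
    (lft ψ ξ).toRingHom.toMonoidHom.comp (MonoidAlgebra.of A' G) = ψ := by
  apply MonoidHom.ext
  intro g
  show lft ψ ξ (MonoidAlgebra.single g 1) = ψ g
  rw [lft_single, map_one, one_mul]

/-- constants `A'[G] → (A'[G])[G]`. -/
noncomputable def th0 : MonoidAlgebra A' G →ₐ[R'] MonoidAlgebra (MonoidAlgebra A' G) G :=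
  MonoidAlgebra.singleOneAlgHom

theorem th0_apply (w : MonoidAlgebra A' G) :
    th0 (R' := R') w = MonoidAlgebra.single 1 w := rfl

/-- the diagonal `A'[G] → (A'[G])[G]`. -/
noncomputable def thD : MonoidAlgebra A' G →ₐ[R'] MonoidAlgebra (MonoidAlgebra A' G) G :=
  lft (MonoidAlgebra.of (MonoidAlgebra A' G) G *
      (th0 (R' := R') (A' := A') (G := G)).toRingHom.toMonoidHom.comp (MonoidAlgebra.of A' G))
    ((th0 (R' := R') (A' := A') (G := G)).comp
      (MonoidAlgebra.singleOneAlgHom : A' →ₐ[R'] MonoidAlgebra A' G))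

theorem thD_single (g : G) (c : A') :
    thD (R' := R') (MonoidAlgebra.single g c) =
      MonoidAlgebra.single g (MonoidAlgebra.single g c) := by
  unfold thD
  rw [lft_single]
  show (MonoidAlgebra.single 1 (MonoidAlgebra.single 1 c) :
      MonoidAlgebra (MonoidAlgebra A' G) G) *
    (MonoidAlgebra.single g 1 * MonoidAlgebra.single 1 (MonoidAlgebra.single g 1)) = _
  simp only [MonoidAlgebra.single_mul_single, mul_one, one_mul]

theorem coeff_thD (w : MonoidAlgebra A' G) (m : G) :
    (thD (R' := R') w).coeff m = MonoidAlgebra.single m (w.coeff m) := by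
  classical
  induction w using MonoidAlgebra.induction_linear with
  | zero => simp
  | add x y hx hy =>
    rw [map_add, MonoidAlgebra.coeff_add, Finsupp.add_apply, hx, hy, MonoidAlgebra.coeff_add,
      Finsupp.add_apply, MonoidAlgebra.single_add]
  | single g c =>
    rw [thD_single, MonoidAlgebra.coeff_single, MonoidAlgebra.coeff_single, Finsupp.single_apply,
      Finsupp.single_apply]
    split_ifs with h
    · subst h; rfl
    · exact (MonoidAlgebra.single_zero _).symm

/-- **Algebra core.** A natural action of characters `G →* C` on points `A' →ₐ[R'] C`, compatible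
with products of characters, which is trivial on algebras killed by the nilpotent ideal `J`, is
trivial. -/
theorem alg_core (J : Ideal R') (hJ : IsNilpotent J)
    (act : ∀ (C : Type u) [CommRing C] [Algebra R' C], (G →* C) → (A' →ₐ[R'] C) → (A' →ₐ[R'] C))
    (hnat : ∀ (C C' : Type u) [CommRing C] [CommRing C'] [Algebra R' C] [Algebra R' C']
      (θ : C →ₐ[R'] C') (ψ : G →* C) (ξ : A' →ₐ[R'] C),
      θ.comp (act C ψ ξ) = act C' (θ.toRingHom.toMonoidHom.comp ψ) (θ.comp ξ))
    (hmul : ∀ (C : Type u) [CommRing C] [Algebra R' C] (ψ ψ' : G →* C) (ξ : A' →ₐ[R'] C),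
      act C (ψ * ψ') ξ = act C ψ (act C ψ' ξ))
    (hone : ∀ (C : Type u) [CommRing C] [Algebra R' C] (ξ : A' →ₐ[R'] C), act C 1 ξ = ξ)
    (htriv : ∀ (C : Type u) [CommRing C] [Algebra R' C], (∀ r ∈ J, algebraMap R' C r = 0) →
      ∀ (ψ : G →* C) (ξ : A' →ₐ[R'] C), act C ψ ξ = ξ)
    (C : Type u) [CommRing C] [Algebra R' C] (ψ : G →* C) (ξ : A' →ₐ[R'] C) :
    act C ψ ξ = ξ := by
  classical
  obtain ⟨ρ, hρ⟩ : ∃ ρ : A' →ₐ[R'] MonoidAlgebra A' G,
      ρ = act (MonoidAlgebra A' G) (MonoidAlgebra.of A' G)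
        (MonoidAlgebra.singleOneAlgHom : A' →ₐ[R'] MonoidAlgebra A' G) := ⟨_, rfl⟩
  -- everything is determined by `ρ`
  have hN : ∀ (C : Type u) [CommRing C] [Algebra R' C] (ψ : G →* C) (ξ : A' →ₐ[R'] C),
      act C ψ ξ = (lft ψ ξ).comp ρ := by
    intro C _ _ ψ ξ
    have h := hnat (MonoidAlgebra A' G) C (lft ψ ξ) (MonoidAlgebra.of A' G)
      (MonoidAlgebra.singleOneAlgHom : A' →ₐ[R'] MonoidAlgebra A' G)
    rw [lft_comp_of, lft_comp_singleOne, ← hρ] at h
    exact h.symm
  -- weight property
  have hW : ∀ (a : A') (m : G),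
      ρ ((ρ a).coeff m) = MonoidAlgebra.single m ((ρ a).coeff m) := by
    intro a m
    have hΘa : (MonoidAlgebra.mapAlgHom G ρ).toRingHom.toMonoidHom.comp (MonoidAlgebra.of A' G) =
        MonoidAlgebra.of (MonoidAlgebra A' G) G := by
      apply MonoidHom.ext
      intro g
      show MonoidAlgebra.mapAlgHom G ρ (MonoidAlgebra.single g 1) = MonoidAlgebra.single g 1
      rw [MonoidAlgebra.mapAlgHom_single, map_one]
    have hΘb : (MonoidAlgebra.mapAlgHom G ρ).comp
        (MonoidAlgebra.singleOneAlgHom : A' →ₐ[R'] MonoidAlgebra A' G) =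
        (th0 (R' := R') (A' := A') (G := G)).comp ρ := by
      apply AlgHom.ext
      intro c
      show MonoidAlgebra.mapAlgHom G ρ (MonoidAlgebra.single 1 c) = MonoidAlgebra.single 1 (ρ c)
      rw [MonoidAlgebra.mapAlgHom_single]
    have h1 := hmul (MonoidAlgebra (MonoidAlgebra A' G) G)
      (MonoidAlgebra.of (MonoidAlgebra A' G) G)
      ((th0 (R' := R') (A' := A') (G := G)).toRingHom.toMonoidHom.comp (MonoidAlgebra.of A' G))
      ((th0 (R' := R') (A' := A') (G := G)).comp
        (MonoidAlgebra.singleOneAlgHom : A' →ₐ[R'] MonoidAlgebra A' G))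
    have h2 := hnat (MonoidAlgebra A' G) (MonoidAlgebra (MonoidAlgebra A' G) G)
      (th0 (R' := R') (A' := A') (G := G)) (MonoidAlgebra.of A' G)
      (MonoidAlgebra.singleOneAlgHom : A' →ₐ[R'] MonoidAlgebra A' G)
    rw [← hρ] at h2
    have h3 := hnat (MonoidAlgebra A' G) (MonoidAlgebra (MonoidAlgebra A' G) G)
      (MonoidAlgebra.mapAlgHom G ρ) (MonoidAlgebra.of A' G)
      (MonoidAlgebra.singleOneAlgHom : A' →ₐ[R'] MonoidAlgebra A' G)
    rw [← hρ, hΘa, hΘb] at h3
    have h4 := hN (MonoidAlgebra (MonoidAlgebra A' G) G)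
      (MonoidAlgebra.of (MonoidAlgebra A' G) G *
        (th0 (R' := R') (A' := A') (G := G)).toRingHom.toMonoidHom.comp (MonoidAlgebra.of A' G))
      ((th0 (R' := R') (A' := A') (G := G)).comp
        (MonoidAlgebra.singleOneAlgHom : A' →ₐ[R'] MonoidAlgebra A' G))
    have h5 : (thD (R' := R') (A' := A') (G := G)).comp ρ =
        (MonoidAlgebra.mapAlgHom G ρ).comp ρ := by
      rw [h3, h2, ← h1]
      exact h4.symm
    have h6 := congrArg (fun F => (F a).coeff m) h5
    simp only [AlgHom.comp_apply] at h6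
    rw [coeff_thD, MonoidAlgebra.coeff_mapAlgHom] at h6
    exact h6.symm
  -- the coefficient maps
  have hlin : ∀ m : G, ∃ P : A' →ₗ[R'] A', ∀ a, P a = (ρ a).coeff m := by
    intro m
    refine ⟨{ toFun := fun a => (ρ a).coeff m
              map_add' := fun x y => by
                rw [map_add, MonoidAlgebra.coeff_add, Finsupp.add_apply]
              map_smul' := fun r x => by
                show (ρ (r • x)).coeff m = r • (ρ x).coeff m
                rw [map_smul, MonoidAlgebra.coeff_smul_apply] }, fun a => rfl⟩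
  -- vanishing modulo `J`
  have hJ1 : ∀ (m : G), m ≠ 1 → ∀ a : A', (ρ a).coeff m ∈ J • (⊤ : Submodule R' A') := by
    intro m hm a
    obtain ⟨Ja, hJa⟩ : ∃ Ja : Ideal A', Ja = Ideal.map (algebraMap R' A') J := ⟨_, rfl⟩
    have hkill : ∀ r ∈ J, algebraMap R' (MonoidAlgebra (A' ⧸ Ja) G) r = 0 := by
      intro r hr
      have h0 : algebraMap R' (A' ⧸ Ja) r = 0 := by
        rw [← (Ideal.Quotient.mkₐ R' Ja).commutes r, Ideal.Quotient.mkₐ_eq_mk,
          Ideal.Quotient.eq_zero_iff_mem, hJa]
        exact Ideal.mem_map_of_mem _ hr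
      rw [MonoidAlgebra.coe_algebraMap]
      show MonoidAlgebra.single 1 (algebraMap R' (A' ⧸ Ja) r) = 0
      rw [h0, MonoidAlgebra.single_zero]
    have h5 := htriv (MonoidAlgebra (A' ⧸ Ja) G) hkill
      ((MonoidAlgebra.mapAlgHom G (Ideal.Quotient.mkₐ R' Ja)).toRingHom.toMonoidHom.comp
        (MonoidAlgebra.of A' G))
      ((MonoidAlgebra.mapAlgHom G (Ideal.Quotient.mkₐ R' Ja)).comp
        (MonoidAlgebra.singleOneAlgHom : A' →ₐ[R'] MonoidAlgebra A' G))
    have h6 := hnat (MonoidAlgebra A' G) (MonoidAlgebra (A' ⧸ Ja) G)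
      (MonoidAlgebra.mapAlgHom G (Ideal.Quotient.mkₐ R' Ja)) (MonoidAlgebra.of A' G)
      (MonoidAlgebra.singleOneAlgHom : A' →ₐ[R'] MonoidAlgebra A' G)
    rw [h5, ← hρ] at h6
    have h7 := congrArg (fun F => (F a).coeff m) h6
    simp only [AlgHom.comp_apply] at h7
    rw [MonoidAlgebra.coeff_mapAlgHom, MonoidAlgebra.coeff_mapAlgHom] at h7
    have h8 : ((MonoidAlgebra.singleOneAlgHom : A' →ₐ[R'] MonoidAlgebra A' G) a).coeff m = 0 := by
      show (MonoidAlgebra.single (1 : G) a).coeff m = 0
      rw [MonoidAlgebra.coeff_single, Finsupp.single_apply, if_neg (Ne.symm hm)]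
    rw [h8, map_zero, Ideal.Quotient.mkₐ_eq_mk, Ideal.Quotient.eq_zero_iff_mem, hJa] at h7
    rw [Ideal.smul_top_eq_map]
    exact h7
  -- nilpotent bootstrap
  have hzero : ∀ (m : G), m ≠ 1 → ∀ a : A', (ρ a).coeff m = 0 := by
    intro m hm
    obtain ⟨P, hP⟩ := hlin m
    have hidem : ∀ a, P (P a) = P a := by
      intro a
      rw [hP (P a), hP a, hW a m, MonoidAlgebra.coeff_single, Finsupp.single_eq_same]
    have hPJ : Submodule.map P ⊤ ≤ J • (⊤ : Submodule R' A') := by
      rintro _ ⟨b, -, rfl⟩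
      rw [hP]
      exact hJ1 m hm b
    have hk : ∀ k : ℕ, LinearMap.range P ≤ J ^ k • (⊤ : Submodule R' A') := by
      intro k
      induction k with
      | zero =>
        rw [pow_zero, Ideal.one_eq_top, Submodule.top_smul]
        exact le_top
      | succ k ih =>
        rintro _ ⟨a, rfl⟩
        have h7 : P a ∈ J ^ k • (⊤ : Submodule R' A') := ih ⟨a, rfl⟩
        have h8 : P (P a) ∈ Submodule.map P (J ^ k • (⊤ : Submodule R' A')) :=
          Submodule.mem_map_of_mem h7
        rw [Submodule.map_smul''] at h8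
        have h10 : J ^ k • Submodule.map P ⊤ ≤ J ^ k • (J • (⊤ : Submodule R' A')) :=
          Submodule.smul_mono le_rfl hPJ
        rw [← hidem a, pow_succ, Submodule.mul_smul]
        exact h10 h8
    obtain ⟨n, hn⟩ := hJ
    have hbot := hk n
    rw [hn, Ideal.zero_eq_bot, Submodule.bot_smul] at hbot
    intro a
    have : P a ∈ (⊥ : Submodule R' A') := hbot ⟨a, rfl⟩
    rw [← hP]
    exact (Submodule.mem_bot R').mp this
  -- `ρ` is the trivial coaction
  have hρ1 : ∀ a, ρ a = MonoidAlgebra.single 1 a := by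
    intro a
    obtain ⟨c, hc⟩ : ∃ c : A', c = (ρ a).coeff 1 := ⟨_, rfl⟩
    have h9 : ρ a = MonoidAlgebra.single 1 c := by
      apply MonoidAlgebra.coeff_injective
      apply Finsupp.ext
      intro m
      rw [MonoidAlgebra.coeff_single, Finsupp.single_apply]
      split_ifs with h
      · rw [← h, hc]
      · exact hzero m (Ne.symm h) a
    have h10 := hone A' (AlgHom.id R' A')
    rw [hN A' 1 (AlgHom.id R' A')] at h10
    have h11 := congrArg (fun F => F a) h10
    simp only [AlgHom.comp_apply, AlgHom.id_apply] at h11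
    rw [h9, lft_single] at h11
    simp only [AlgHom.id_apply, MonoidHom.one_apply, mul_one] at h11
    rw [h9, h11]
  rw [hN C ψ ξ]
  apply AlgHom.ext
  intro a
  rw [AlgHom.comp_apply, hρ1, lft_single, map_one, mul_one]

end Alg

end Groth.Agent.Lib.MultTrivH4
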