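import Mathlib
import Groth.Agent.Lib.MultTrivAlg_helper4

/-!
# Natural multiplicative endomorphisms of the character functor `C ↦ Hom(G, C^×)` (helper4)

A family `g ↦ Φ_g` of natural multiplicative self-maps of the functor of characters of a commutative
group `G`, parametrised by a functor of points `KK`, is given by group-like elements
`γ_g(m) = Σ e_{m,m'} m'` whose coefficients are orthogonal idempotents.  If these endomorphisms are
trivial on all field-valued points, they are trivial.
-/

set_option autoImplicit false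
set_option linter.unusedVariables false
set_option linter.unusedTactic false
set_option linter.unreachableTactic false
set_option linter.unusedSectionVars false
set_option linter.style.haveILetI false
set_option linter.deprecated false
set_option linter.unusedSimpArgs false
set_option linter.style.longLine false
set_option maxHeartbeats 1600000

universe u

namespace Groth.Agent.Lib.ConnActH4

open Groth.Agent.Lib.MultTrivH4

section Alg

variable {R' : Type u} [CommRing R'] {G : Type} [CommGroup G]

/-- A natural multiplicative action of a functor of points `KK` on the characters of `G`. -/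
structure IsNatAct (KK : ∀ (C : Type u) [CommRing C] [Algebra R' C], Type u)
    (push : ∀ (C C' : Type u) [CommRing C] [CommRing C'] [Algebra R' C] [Algebra R' C'],
      (C →ₐ[R'] C') → KK C → KK C')
    (Ph : ∀ (C : Type u) [CommRing C] [Algebra R' C], KK C → (G →* C) → (G →* C)) : Prop where
  push_id : ∀ (C : Type u) [CommRing C] [Algebra R' C] (g : KK C),
    push C C (AlgHom.id R' C) g = g
  push_comp : ∀ (C C' C'' : Type u) [CommRing C] [CommRing C'] [CommRing C''] [Algebra R' C]
    [Algebra R' C'] [Algebra R' C''] (θ : C →ₐ[R'] C') (θ' : C' →ₐ[R'] C'') (g : KK C),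
    push C' C'' θ' (push C C' θ g) = push C C'' (θ'.comp θ) g
  nat : ∀ (C C' : Type u) [CommRing C] [CommRing C'] [Algebra R' C] [Algebra R' C']
    (θ : C →ₐ[R'] C') (g : KK C) (ψ : G →* C),
    θ.toRingHom.toMonoidHom.comp (Ph C g ψ) =
      Ph C' (push C C' θ g) (θ.toRingHom.toMonoidHom.comp ψ)
  mul : ∀ (C : Type u) [CommRing C] [Algebra R' C] (g : KK C) (ψ ψ' : G →* C),
    Ph C g (ψ * ψ') = Ph C g ψ * Ph C g ψ'

variable (KK : ∀ (C : Type u) [CommRing C] [Algebra R' C], Type u)
  (push : ∀ (C C' : Type u) [CommRing C] [CommRing C'] [Algebra R' C] [Algebra R' C'],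
    (C →ₐ[R'] C') → KK C → KK C')
  (Ph : ∀ (C : Type u) [CommRing C] [Algebra R' C], KK C → (G →* C) → (G →* C))

/-- the universal values `γ_g(m) ∈ C[G]`. -/
noncomputable def gam (C : Type u) [CommRing C] [Algebra R' C] (g : KK C) :
    G →* MonoidAlgebra C G :=
  Ph (MonoidAlgebra C G)
    (push C (MonoidAlgebra C G) (MonoidAlgebra.singleOneAlgHom : C →ₐ[R'] MonoidAlgebra C G) g)
    (MonoidAlgebra.of C G)

/-- the coefficients `e_{m,m'}` of `γ_g(m)`. -/
noncomputable def ee (C : Type u) [CommRing C] [Algebra R' C] (g : KK C) (m m' : G) : C :=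
  (gam KK push Ph C g m).coeff m'

/-- outer constants `C[G] → (C[G])[G]`, `g ↦ g` (outer). -/
noncomputable def tOut (R' : Type u) [CommRing R'] (C : Type u) [CommRing C] [Algebra R' C]
    (G : Type) [CommMonoid G] : MonoidAlgebra C G →ₐ[R'] MonoidAlgebra (MonoidAlgebra C G) G :=
  MonoidAlgebra.mapAlgHom G (MonoidAlgebra.singleOneAlgHom : C →ₐ[R'] MonoidAlgebra C G)

theorem tOut_single (C : Type u) [CommRing C] [Algebra R' C] (x : G) (c : C) :
    tOut R' C G (MonoidAlgebra.single x c) =
      MonoidAlgebra.single x (MonoidAlgebra.single 1 c) := by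
  unfold tOut
  rw [MonoidAlgebra.mapAlgHom_single]
  rfl

variable {KK push Ph}

/-- Yoneda: `Φ_g` is evaluation at `γ_g`. -/
theorem Ph_eq (H : IsNatAct KK push Ph) (C : Type u) [CommRing C] [Algebra R' C] (g : KK C)
    (ψ : G →* C) (m : G) :
    Ph C g ψ m = lft ψ (AlgHom.id R' C) (gam KK push Ph C g m) := by
  have h := H.nat (MonoidAlgebra C G) C (lft ψ (AlgHom.id R' C))
    (push C (MonoidAlgebra C G) (MonoidAlgebra.singleOneAlgHom : C →ₐ[R'] MonoidAlgebra C G) g)
    (MonoidAlgebra.of C G)
  rw [H.push_comp C (MonoidAlgebra C G) C, lft_comp_singleOne, H.push_id, lft_comp_of] at h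
  have h2 := congrArg (fun f => f m) h
  exact h2.symm

theorem gam_nat (H : IsNatAct KK push Ph) (C C' : Type u) [CommRing C] [CommRing C']
    [Algebra R' C] [Algebra R' C'] (θ : C →ₐ[R'] C') (g : KK C) (m : G) :
    gam KK push Ph C' (push C C' θ g) m =
      MonoidAlgebra.mapAlgHom G θ (gam KK push Ph C g m) := by
  have h := H.nat (MonoidAlgebra C G) (MonoidAlgebra C' G) (MonoidAlgebra.mapAlgHom G θ)
    (push C (MonoidAlgebra C G) (MonoidAlgebra.singleOneAlgHom : C →ₐ[R'] MonoidAlgebra C G) g)
    (MonoidAlgebra.of C G)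
  have e1 : (MonoidAlgebra.mapAlgHom G θ).comp
      (MonoidAlgebra.singleOneAlgHom : C →ₐ[R'] MonoidAlgebra C G) =
      (MonoidAlgebra.singleOneAlgHom : C' →ₐ[R'] MonoidAlgebra C' G).comp θ := by
    apply AlgHom.ext
    intro c
    show MonoidAlgebra.mapAlgHom G θ (MonoidAlgebra.single 1 c) = MonoidAlgebra.single 1 (θ c)
    rw [MonoidAlgebra.mapAlgHom_single]
  have e2 : (MonoidAlgebra.mapAlgHom G θ).toRingHom.toMonoidHom.comp (MonoidAlgebra.of C G) =
      MonoidAlgebra.of C' G := by
    apply MonoidHom.ext
    intro x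
    show MonoidAlgebra.mapAlgHom G θ (MonoidAlgebra.single x 1) = MonoidAlgebra.single x 1
    rw [MonoidAlgebra.mapAlgHom_single, map_one]
  have hp : push (MonoidAlgebra C G) (MonoidAlgebra C' G) (MonoidAlgebra.mapAlgHom G θ)
      (push C (MonoidAlgebra C G)
        (MonoidAlgebra.singleOneAlgHom : C →ₐ[R'] MonoidAlgebra C G) g) =
      push C' (MonoidAlgebra C' G)
        (MonoidAlgebra.singleOneAlgHom : C' →ₐ[R'] MonoidAlgebra C' G) (push C C' θ g) := by
    rw [H.push_comp C (MonoidAlgebra C G) (MonoidAlgebra C' G),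
      H.push_comp C C' (MonoidAlgebra C' G), e1]
  rw [hp, e2] at h
  have h2 := congrArg (fun f => f m) h
  exact h2.symm

theorem ee_nat (H : IsNatAct KK push Ph) (C C' : Type u) [CommRing C] [CommRing C']
    [Algebra R' C] [Algebra R' C'] (θ : C →ₐ[R'] C') (g : KK C) (m m' : G) :
    ee KK push Ph C' (push C C' θ g) m m' = θ (ee KK push Ph C g m m') := by
  unfold ee
  rw [gam_nat H, MonoidAlgebra.coeff_mapAlgHom]

/-- The values `γ_g(m)` are group-like. -/
theorem gam_diag (H : IsNatAct KK push Ph) (C : Type u) [CommRing C] [Algebra R' C] (g : KK C)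
    (m : G) :
    thD (R' := R') (gam KK push Ph C g m) =
      tOut R' C G (gam KK push Ph C g m) * th0 (R' := R') (gam KK push Ph C g m) := by
  have n0 := H.nat (MonoidAlgebra C G) (MonoidAlgebra (MonoidAlgebra C G) G)
    (th0 (R' := R') (A' := C) (G := G))
    (push C (MonoidAlgebra C G) (MonoidAlgebra.singleOneAlgHom : C →ₐ[R'] MonoidAlgebra C G) g)
    (MonoidAlgebra.of C G)
  have n1 := H.nat (MonoidAlgebra C G) (MonoidAlgebra (MonoidAlgebra C G) G)
    (tOut R' C G)
    (push C (MonoidAlgebra C G) (MonoidAlgebra.singleOneAlgHom : C →ₐ[R'] MonoidAlgebra C G) g)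
    (MonoidAlgebra.of C G)
  have nD := H.nat (MonoidAlgebra C G) (MonoidAlgebra (MonoidAlgebra C G) G)
    (thD (R' := R') (A' := C) (G := G))
    (push C (MonoidAlgebra C G) (MonoidAlgebra.singleOneAlgHom : C →ₐ[R'] MonoidAlgebra C G) g)
    (MonoidAlgebra.of C G)
  have hc1 : (tOut R' C G).comp
      (MonoidAlgebra.singleOneAlgHom : C →ₐ[R'] MonoidAlgebra C G) =
      (th0 (R' := R') (A' := C) (G := G)).comp
        (MonoidAlgebra.singleOneAlgHom : C →ₐ[R'] MonoidAlgebra C G) := by
    apply AlgHom.ext
    intro c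
    show tOut R' C G (MonoidAlgebra.single 1 c) =
      MonoidAlgebra.single 1 (MonoidAlgebra.single 1 c)
    exact tOut_single C 1 c
  have hcD : (thD (R' := R') (A' := C) (G := G)).comp
      (MonoidAlgebra.singleOneAlgHom : C →ₐ[R'] MonoidAlgebra C G) =
      (th0 (R' := R') (A' := C) (G := G)).comp
        (MonoidAlgebra.singleOneAlgHom : C →ₐ[R'] MonoidAlgebra C G) := by
    apply AlgHom.ext
    intro c
    show thD (R' := R') (MonoidAlgebra.single 1 c) =
      MonoidAlgebra.single 1 (MonoidAlgebra.single 1 c)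
    exact thD_single 1 c
  have hch1 : (tOut R' C G).toRingHom.toMonoidHom.comp (MonoidAlgebra.of C G) =
      MonoidAlgebra.of (MonoidAlgebra C G) G := by
    apply MonoidHom.ext
    intro x
    show tOut R' C G (MonoidAlgebra.single x 1) = MonoidAlgebra.single x 1
    rw [tOut_single]
    rfl
  have hchD : (thD (R' := R') (A' := C) (G := G)).toRingHom.toMonoidHom.comp
      (MonoidAlgebra.of C G) =
      MonoidAlgebra.of (MonoidAlgebra C G) G *
        (th0 (R' := R') (A' := C) (G := G)).toRingHom.toMonoidHom.comp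
          (MonoidAlgebra.of C G) := by
    apply MonoidHom.ext
    intro x
    show thD (R' := R') (MonoidAlgebra.single x (1 : C)) =
      (MonoidAlgebra.single x 1 : MonoidAlgebra (MonoidAlgebra C G) G) *
        MonoidAlgebra.single 1 (MonoidAlgebra.single x 1)
    rw [thD_single, MonoidAlgebra.single_mul_single, mul_one, one_mul]
  rw [H.push_comp C (MonoidAlgebra C G) (MonoidAlgebra (MonoidAlgebra C G) G)] at n0 n1 nD
  rw [hc1, hch1] at n1
  rw [hcD, hchD, H.mul, ← n1, ← n0] at nD
  have h2 := congrArg (fun f => f m) nD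
  exact h2

open Classical in
/-- The coefficients of `γ_g(m)` are orthogonal idempotents. -/
theorem ee_mul (H : IsNatAct KK push Ph) (C : Type u) [CommRing C] [Algebra R' C] (g : KK C)
    (m a b : G) :
    ee KK push Ph C g m a * ee KK push Ph C g m b =
      if a = b then ee KK push Ph C g m a else 0 := by
  classical
  have hd := gam_diag H C g m
  unfold ee
  obtain ⟨γ, hγ⟩ : ∃ γ : MonoidAlgebra C G, γ = gam KK push Ph C g m := ⟨_, rfl⟩
  rw [← hγ] at hd ⊢
  have h1 : (thD (R' := R') γ).coeff a = (tOut R' C G γ * th0 (R' := R') γ).coeff a :=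
    congrArg (fun w => w.coeff a) hd
  have hL : (thD (R' := R') γ).coeff a = MonoidAlgebra.single a (γ.coeff a) := coeff_thD γ a
  have hR : (tOut R' C G γ * th0 (R' := R') γ).coeff a =
      MonoidAlgebra.single 1 (γ.coeff a) * γ := by
    rw [th0_apply, MonoidAlgebra.coeff_mul_single_one]
    unfold tOut
    rw [MonoidAlgebra.coeff_mapAlgHom]
    rfl
  have h2 : MonoidAlgebra.single a (γ.coeff a) = MonoidAlgebra.single 1 (γ.coeff a) * γ := by
    rw [← hL, ← hR]
    exact h1
  have h3 : (MonoidAlgebra.single a (γ.coeff a)).coeff b =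
      (MonoidAlgebra.single 1 (γ.coeff a) * γ).coeff b := congrArg (fun w => w.coeff b) h2
  rw [MonoidAlgebra.coeff_single_one_mul, MonoidAlgebra.coeff_single, Finsupp.single_apply] at h3
  exact h3.symm

/-- If all diagonal coefficients are `1`, the endomorphism is the identity. -/
theorem Ph_eq_self (H : IsNatAct KK push Ph) (C : Type u) [CommRing C] [Algebra R' C] (g : KK C)
    (hg : ∀ m, ee KK push Ph C g m m = 1) (ψ : G →* C) : Ph C g ψ = ψ := by
  classical
  apply MonoidHom.ext
  intro m
  rw [Ph_eq H C g ψ m]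
  have hγ : gam KK push Ph C g m = MonoidAlgebra.single m 1 := by
    apply MonoidAlgebra.coeff_injective
    ext b
    rw [MonoidAlgebra.coeff_single, Finsupp.single_apply]
    by_cases hb : m = b
    · subst hb
      rw [if_pos rfl]
      exact hg m
    · rw [if_neg hb]
      have h1 := ee_mul H C g m m b
      rw [if_neg hb, hg m, one_mul] at h1
      exact h1
  rw [hγ, lft_single, map_one, one_mul]

/-- It suffices to know that the diagonal coefficients are `1` on field-valued points. -/
theorem ee_eq_one_of_fields (H : IsNatAct KK push Ph)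
    (hF : ∀ (F : Type u) [Field F] [Algebra R' F] (g : KK F) (m : G),
      ee KK push Ph F g m m = 1)
    (C : Type u) [CommRing C] [Algebra R' C] (g : KK C) (m : G) :
    ee KK push Ph C g m m = 1 := by
  obtain ⟨e, he⟩ : ∃ e : C, e = ee KK push Ph C g m m := ⟨_, rfl⟩
  have hidem : e * e = e := by
    have h := ee_mul H C g m m m
    rw [if_pos rfl] at h
    rw [he]
    exact h
  have hunit : IsUnit e := by
    by_contra hne
    obtain ⟨I, hI, heI⟩ := exists_max_ideal_of_mem_nonunits (show e ∈ nonunits C from hne)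
    haveI : I.IsPrime := hI.isPrime
    letI : Algebra R' I.ResidueField :=
      ((algebraMap C I.ResidueField).comp (algebraMap R' C)).toAlgebra
    let θ : C →ₐ[R'] I.ResidueField :=
      { toRingHom := algebraMap C I.ResidueField
        commutes' := fun r => rfl }
    have h1 := hF I.ResidueField (push C I.ResidueField θ g) m
    rw [ee_nat H C I.ResidueField θ g m m, ← he] at h1
    have h2 : algebraMap C I.ResidueField e = 0 := Ideal.algebraMap_residueField_eq_zero.mpr heI
    have h3 : θ e = algebraMap C I.ResidueField e := rfl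
    rw [h3, h2] at h1
    exact zero_ne_one h1
  rw [← he]
  exact hunit.mul_left_cancel (by rw [hidem, mul_one])

/-- The unit acts trivially: its diagonal coefficients are `1`. -/
theorem ee_of_one (one : ∀ (C : Type u) [CommRing C] [Algebra R' C], KK C)
    (hpush : ∀ (C C' : Type u) [CommRing C] [CommRing C'] [Algebra R' C] [Algebra R' C']
      (θ : C →ₐ[R'] C'), push C C' θ (one C) = one C')
    (hone : ∀ (C : Type u) [CommRing C] [Algebra R' C] (ψ : G →* C), Ph C (one C) ψ = ψ)
    (C : Type u) [CommRing C] [Algebra R' C] (m : G) :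
    ee KK push Ph C (one C) m m = 1 := by
  classical
  unfold ee gam
  rw [hpush, hone]
  show (MonoidAlgebra.single m (1 : C)).coeff m = 1
  rw [MonoidAlgebra.coeff_single, Finsupp.single_eq_same]

end Alg

end Groth.Agent.Lib.ConnActH4
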