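import Mathlib
import Groth.Prelude
import Groth.Agent.Lib.MultGa_lead
import Groth.Agent.Lib.GrpShear_helper7
import Groth.Agent.Lib.MultTrivAlg_helper4

/-!
# A group of multiplicative type acting trivially modulo a locally nilpotent ideal acts trivially
(helper4)
-/

set_option autoImplicit false
set_option linter.unusedVariables false
set_option linter.unusedTactic false
set_option linter.unreachableTactic false
set_option linter.unusedSectionVars false
set_option linter.style.haveILetI false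
set_option linter.deprecated false
set_option linter.unusedSimpArgs false
set_option linter.style.longLine false
set_option maxHeartbeats 1600000

universe u

open CategoryTheory CategoryTheory.Limits MonoidalCategory CartesianMonoidalCategory MonObj GrpObj
  AlgebraicGeometry Opposite

namespace Groth.Agent.Lib.MultTrivH4

open Groth.Agent.Lib.RedDictH8 Groth.Agent.Lib.DSDict Groth.Agent.Lib.MultGa

/-! ### Pointwise form of an action -/

section Act

variable {S : Scheme.{u}} {G X : Over S} [GrpObj G] (a : AlgGrp.Action G X)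

/-- the action on points -/
noncomputable def sm {Y : Over S} (g : Y ⟶ G) (x : Y ⟶ X) : Y ⟶ X := lift g x ≫ a.act

theorem sm_comp {Y' Y : Over S} (c : Y' ⟶ Y) (g : Y ⟶ G) (x : Y ⟶ X) :
    c ≫ sm a g x = sm a (c ≫ g) (c ≫ x) := by
  unfold sm
  rw [← Category.assoc, comp_lift]

theorem sm_one {Y : Over S} (x : Y ⟶ X) : sm a (1 : Y ⟶ G) x = x :=
  Groth.Agent.Lib.GrpShearH7.act_one a.act a.one_act x

theorem sm_mul {Y : Over S} (g g' : Y ⟶ G) (x : Y ⟶ X) :
    sm a (g * g') x = sm a g (sm a g' x) :=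
  Groth.Agent.Lib.GrpShearH7.act_mul a.act a.mul_act g g' x

end Act

/-! ### The adjunction between `Over.map` and `Over.pullback` on points -/

section Adj

variable {S U : Scheme.{u}} (j : U ⟶ S)

/-- the point of `X ×_S U` over `U` attached to a point of `X` over `S`. -/
noncomputable def unchk {X : Over S} {T' : Over U} (x : (Over.map j).obj T' ⟶ X) :
    T' ⟶ Red.bc j X :=
  (Over.mapPullbackAdj j).homEquiv T' X x

theorem chk_eq {X : Over S} {T' : Over U} (x' : T' ⟶ Red.bc j X) :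
    chk j x' = ((Over.mapPullbackAdj j).homEquiv T' X).symm x' := by
  unfold chk eps
  rw [Adjunction.homEquiv_counit]

theorem chk_unchk {X : Over S} {T' : Over U} (x : (Over.map j).obj T' ⟶ X) :
    chk j (unchk j x) = x := by
  rw [chk_eq]
  exact Equiv.symm_apply_apply _ _

theorem unchk_chk {X : Over S} {T' : Over U} (x' : T' ⟶ Red.bc j X) :
    unchk j (chk j x') = x' := by
  rw [chk_eq]
  exact Equiv.apply_symm_apply _ _

theorem unchk_comp {X : Over S} {T'' T' : Over U} (c : T'' ⟶ T')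
    (x : (Over.map j).obj T' ⟶ X) :
    unchk j ((Over.map j).map c ≫ x) = c ≫ unchk j x := by
  unfold unchk
  exact Adjunction.homEquiv_naturality_left _ _ _

theorem chk_one' {G : Over S} [GrpObj G] (T' : Over U) :
    chk j (1 : T' ⟶ Red.bc j G) = 1 := by
  have h : chk j (1 : T' ⟶ Red.bc j G) * chk j (1 : T' ⟶ Red.bc j G) =
      chk j (1 : T' ⟶ Red.bc j G) * 1 := by
    rw [← chk_mul, _root_.mul_one, _root_.mul_one]
  exact mul_left_cancel h

end Adj

/-! ### A closed immersion with locally nilpotent ideal is surjective -/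

section Nil

variable {S S₀ : Scheme.{u}} (i₀ : S₀ ⟶ S) [IsClosedImmersion i₀]

theorem surjective_of_nil
    (hnil : ∀ x : S, ∃ U : S.affineOpens, x ∈ (U : S.Opens) ∧ IsNilpotent (i₀.ker.ideal U)) :
    Surjective i₀ := by
  constructor
  intro s
  obtain ⟨W, hsW, n, hn⟩ := hnil s
  have hsupp : s ∈ i₀.ker.support := by
    rw [Scheme.IdealSheafData.mem_support_iff_of_mem (U := W) hsW, Scheme.mem_zeroLocus_iff]
    intro f hf hsf
    have h1 : f ^ n ∈ (i₀.ker.ideal W) ^ n := Ideal.pow_mem_pow hf n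
    rw [hn, Ideal.zero_eq_bot, Ideal.mem_bot] at h1
    rcases Nat.eq_zero_or_pos n with hn0 | hpos
    · rw [hn0, pow_zero] at h1
      have hf0 : f = 0 := by rw [← _root_.mul_one f, h1, mul_zero]
      rw [hf0, Scheme.basicOpen_zero] at hsf
      exact hsf
    · rw [← Scheme.basicOpen_pow S f hpos, h1, Scheme.basicOpen_zero] at hsf
      exact hsf
  have h2 : s ∈ (i₀.ker.support : Set S) := hsupp
  rw [Scheme.Hom.support_ker, i₀.isClosedEmbedding.isClosed_range.closure_eq] at h2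
  exact h2

/-- A morphism from an affine scheme into an affine open `W`, killing the ideal of `S₀`, factors
through `S₀`. -/
theorem exists_lift_S₀ (W : S.affineOpens) {C : CommRingCat.{u}} (β : Γ(S, W.1) ⟶ C)
    (hk : ∀ r ∈ i₀.ker.ideal W, β.hom r = 0) :
    ∃ p : Spec C ⟶ S₀, p ≫ i₀ = Spec.map β ≫ W.2.fromSpec := by
  have hW₀ : IsAffineOpen (i₀ ⁻¹ᵁ W.1) := W.2.preimage i₀
  have hsurj : Function.Surjective (i₀.app W.1).hom := i₀.app_surjective W.1 W.2
  have hker : RingHom.ker (i₀.app W.1).hom ≤ RingHom.ker β.hom := by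
    intro r hr
    rw [RingHom.mem_ker]
    apply hk
    rw [Scheme.Hom.ker_apply]
    exact hr
  obtain ⟨β₀, hβ₀⟩ : ∃ β₀ : Γ(S₀, i₀ ⁻¹ᵁ W.1) →+* C, β₀.comp (i₀.app W.1).hom = β.hom :=
    ⟨(i₀.app W.1).hom.liftOfSurjective hsurj ⟨β.hom, hker⟩,
      RingHom.liftOfSurjective_comp _ hsurj ⟨β.hom, hker⟩⟩
  refine ⟨Spec.map (CommRingCat.ofHom β₀) ≫ hW₀.fromSpec, ?_⟩
  have h1 := W.2.SpecMap_appLE_fromSpec i₀ hW₀ le_rfl
  have h2 : i₀.appLE W.1 (i₀ ⁻¹ᵁ W.1) le_rfl ≫ CommRingCat.ofHom β₀ = β := by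
    rw [Scheme.Hom.appLE_eq_app]
    ext r
    exact RingHom.congr_fun hβ₀ r
  rw [Category.assoc, ← h1, ← Category.assoc, ← Spec.map_comp, h2]

end Nil

/-! ### Dictionary between points and algebra maps -/

section Dict

variable {U : Scheme.{u}} {X' : Over U} {R' A' : Type u} [CommRing R'] [CommRing A']
  [Algebra R' A']
  (k : Spec (CommRingCat.of R') ⟶ U) (v : Spec (CommRingCat.of A') ⟶ X'.left)
  (hv : v ≫ X'.hom = Spec.map (CommRingCat.ofHom (algebraMap R' A')) ≫ k)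

/-- the point of `X'` attached to an algebra map. -/
noncomputable def xp {C : Type u} [CommRing C] [Algebra R' C] (ξ : A' →ₐ[R'] C) :
    TB k C ⟶ X' :=
  Over.homMk (Spec.map (CommRingCat.ofHom ξ.toRingHom) ≫ v) (by
    have h : CommRingCat.ofHom (algebraMap R' A') ≫ CommRingCat.ofHom ξ.toRingHom =
        CommRingCat.ofHom (algebraMap R' C) := by
      ext c
      first
        | exact ξ.commutes c
        | simp
    show (Spec.map (CommRingCat.ofHom ξ.toRingHom) ≫ v) ≫ X'.hom =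
      Spec.map (CommRingCat.ofHom (algebraMap R' C)) ≫ k
    rw [Category.assoc, hv, ← Category.assoc, ← Spec.map_comp, h])

theorem xp_left {C : Type u} [CommRing C] [Algebra R' C] (ξ : A' →ₐ[R'] C) :
    (xp k v hv ξ).left = Spec.map (CommRingCat.ofHom ξ.toRingHom) ≫ v := rfl

theorem xp_nat {C C' : Type u} [CommRing C] [CommRing C'] [Algebra R' C] [Algebra R' C']
    (θ : C →ₐ[R'] C') (ξ : A' →ₐ[R'] C) :
    specOver k θ ≫ xp k v hv ξ = xp k v hv (θ.comp ξ) := by
  apply Over.OverMorphism.ext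
  show Spec.map (CommRingCat.ofHom θ.toRingHom) ≫ Spec.map (CommRingCat.ofHom ξ.toRingHom) ≫ v =
    Spec.map (CommRingCat.ofHom (θ.comp ξ).toRingHom) ≫ v
  rw [← Category.assoc, ← Spec.map_comp]
  rfl

theorem xp_injective [IsOpenImmersion v] {C : Type u} [CommRing C] [Algebra R' C]
    (ξ ξ' : A' →ₐ[R'] C) (h : xp k v hv ξ = xp k v hv ξ') : ξ = ξ' := by
  have h1 : Spec.map (CommRingCat.ofHom ξ.toRingHom) ≫ v =
      Spec.map (CommRingCat.ofHom ξ'.toRingHom) ≫ v := congrArg (fun f => f.left) h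
  have h2 := Spec.map_injective ((cancel_mono v).mp h1)
  apply AlgHom.ext
  intro b
  exact congrArg (fun f => f.hom b) h2

theorem exists_rd [IsOpenImmersion v] [Mono k] {C : Type u} [CommRing C] [Algebra R' C]
    (y : TB k C ⟶ X') (hy : Set.range y.left ⊆ Set.range v) :
    ∃ ξ : A' →ₐ[R'] C, xp k v hv ξ = y := by
  obtain ⟨l, hl⟩ : ∃ l : Spec (CommRingCat.of C) ⟶ Spec (CommRingCat.of A'), l ≫ v = y.left :=
    ⟨IsOpenImmersion.lift v y.left hy, IsOpenImmersion.lift_fac v y.left hy⟩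
  obtain ⟨ξr, hξr⟩ : ∃ ξr : CommRingCat.of A' ⟶ CommRingCat.of C, Spec.map ξr = l :=
    ⟨Spec.preimage l, Spec.map_preimage l⟩
  have hcomm : CommRingCat.ofHom (algebraMap R' A') ≫ ξr =
      CommRingCat.ofHom (algebraMap R' C) := by
    apply Spec.map_injective
    rw [Spec.map_comp, hξr, ← cancel_mono k, Category.assoc, ← hv, ← Category.assoc, hl]
    exact Over.w y
  refine ⟨{ toRingHom := ξr.hom
            commutes' := fun r => congrArg (fun f => f.hom r) hcomm }, ?_⟩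
  apply Over.OverMorphism.ext
  show Spec.map (CommRingCat.ofHom ξr.hom) ≫ v = y.left
  rw [← hl, ← hξr]
  rfl

variable {M : Type} [AddCommGroup M]

/-- the point of `D_U(M)` attached to a character. -/
noncomputable def pt {C : Type u} [CommRing C] [Algebra R' C] (ψ : Multiplicative M →* C) :
    TB k C ⟶ Red.DS U M :=
  (exists_pt k ψ).choose

theorem chr_pt {C : Type u} [CommRing C] [Algebra R' C] (ψ : Multiplicative M →* C) (n : M) :
    chr (pt k ψ) n = (Scheme.ΓSpecIso (CommRingCat.of C)).inv (ψ (Multiplicative.ofAdd n)) :=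
  (exists_pt k ψ).choose_spec n

theorem pt_nat {C C' : Type u} [CommRing C] [CommRing C'] [Algebra R' C] [Algebra R' C']
    (θ : C →ₐ[R'] C') (ψ : Multiplicative M →* C) :
    specOver k θ ≫ pt k ψ = pt k (θ.toRingHom.toMonoidHom.comp ψ) := by
  apply chr_injective
  intro n
  rw [chr_comp, chr_pt, chr_pt]
  exact Groth.Agent.Lib.DiagHom.appTop_specMap_inv (CommRingCat.ofHom θ.toRingHom) _

theorem pt_mul {C : Type u} [CommRing C] [Algebra R' C] (ψ ψ' : Multiplicative M →* C) :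
    pt k (ψ * ψ') = pt k ψ * pt k ψ' := by
  apply chr_injective
  intro n
  rw [chr_mul, chr_pt, chr_pt, chr_pt, MonoidHom.mul_apply, map_mul]

theorem pt_one {C : Type u} [CommRing C] [Algebra R' C] :
    pt k (1 : Multiplicative M →* C) = 1 := by
  apply chr_injective
  intro n
  rw [chr_one, chr_pt, MonoidHom.one_apply, map_one]

/-- Every pair of a point of `D_U(M)` and a point of `X'` landing in the chart `v` is pulled back
from the universal pair over `A'[M]`. -/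
theorem exists_factor [IsOpenImmersion v] {T' : Over U} (t : T' ⟶ Red.DS U M) (x' : T' ⟶ X')
    (hx' : Set.range x'.left ⊆ Set.range v) :
    ∃ c : T' ⟶ TB k (MonoidAlgebra A' (Multiplicative M)),
      c ≫ pt k (MonoidAlgebra.of A' (Multiplicative M)) = t ∧
      c ≫ xp k v hv
        (MonoidAlgebra.singleOneAlgHom : A' →ₐ[R'] MonoidAlgebra A' (Multiplicative M)) = x' := by
  obtain ⟨l, hl⟩ : ∃ l : T'.left ⟶ Spec (CommRingCat.of A'), l ≫ v = x'.left :=
    ⟨IsOpenImmersion.lift v x'.left hx', IsOpenImmersion.lift_fac v x'.left hx'⟩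
  let evl : A' →+* Γ(T'.left, ⊤) :=
    ((Scheme.ΓSpecIso (CommRingCat.of A')).inv ≫ l.appTop).hom
  have hevl : ∀ b, evl b = ev l b := fun b => rfl
  let ψ : Multiplicative M →* Γ(T'.left, ⊤) :=
    { toFun := fun g => chr t (Multiplicative.toAdd g)
      map_one' := chr_zero t
      map_mul' := fun a b => chr_add t _ _ }
  let Θ : MonoidAlgebra A' (Multiplicative M) →+* Γ(T'.left, ⊤) :=
    MonoidAlgebra.liftNCRingHom evl ψ (fun _ _ => Commute.all _ _)
  have hΘ : ∀ (g : Multiplicative M) (c : A'),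
      Θ (MonoidAlgebra.single g c) = ev l c * chr t (Multiplicative.toAdd g) :=
    fun g c => MonoidAlgebra.liftNCRingHom_single _ _ _ g c
  obtain ⟨a₀, ha₀⟩ := exists_point T'.left (CommRingCat.ofHom Θ)
  have h1 : a₀ ≫ Spec.map (CommRingCat.ofHom
      (MonoidAlgebra.singleOneAlgHom : A' →ₐ[R'] MonoidAlgebra A' (Multiplicative M)).toRingHom) =
      l := by
    apply point_ext
    intro b
    rw [ev_comp_specMap, ha₀]
    show Θ (MonoidAlgebra.single 1 b) = ev l b
    rw [hΘ]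
    show ev l b * chr t 0 = ev l b
    rw [chr_zero, _root_.mul_one]
  have hover : a₀ ≫ (TB k (MonoidAlgebra A' (Multiplicative M))).hom = T'.hom := by
    show a₀ ≫ Spec.map (CommRingCat.ofHom
      (algebraMap R' (MonoidAlgebra A' (Multiplicative M)))) ≫ k = T'.hom
    have h2 : CommRingCat.ofHom (algebraMap R' (MonoidAlgebra A' (Multiplicative M))) =
        CommRingCat.ofHom (algebraMap R' A') ≫ CommRingCat.ofHom
          (MonoidAlgebra.singleOneAlgHom :
            A' →ₐ[R'] MonoidAlgebra A' (Multiplicative M)).toRingHom := rfl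
    rw [h2, Spec.map_comp]
    simp only [Category.assoc]
    rw [← Category.assoc, h1, ← hv, ← Category.assoc, hl]
    exact Over.w x'
  refine ⟨Over.homMk a₀ hover, ?_, ?_⟩
  · apply chr_injective
    intro n
    rw [chr_comp, chr_pt]
    show ev a₀ (MonoidAlgebra.single (Multiplicative.ofAdd n) 1) = chr t n
    rw [ha₀]
    show Θ (MonoidAlgebra.single (Multiplicative.ofAdd n) 1) = chr t n
    rw [hΘ, ev_one, _root_.one_mul]
    rfl
  · apply Over.OverMorphism.ext
    show a₀ ≫ Spec.map (CommRingCat.ofHom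
      (MonoidAlgebra.singleOneAlgHom : A' →ₐ[R'] MonoidAlgebra A' (Multiplicative M)).toRingHom) ≫
      v = x'.left
    rw [← Category.assoc, h1, hl]

end Dict

/-! ### The local theorem -/

section Loc

variable {S S₀ : Scheme.{u}} (i₀ : S₀ ⟶ S) [IsClosedImmersion i₀]
  (hnil : ∀ x : S, ∃ U : S.affineOpens, x ∈ (U : S.Opens) ∧ IsNilpotent (i₀.ker.ideal U))
  {U : Scheme.{u}} (j : U ⟶ S) (X' : Over U) {M : Type} [AddCommGroup M]
  (bul : ∀ (T' : Over U), (T' ⟶ Red.DS U M) → (T' ⟶ X') → (T' ⟶ X'))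
  (hbnat : ∀ (T'' T' : Over U) (c : T'' ⟶ T') (t : T' ⟶ Red.DS U M) (x' : T' ⟶ X'),
    c ≫ bul T' t x' = bul T'' (c ≫ t) (c ≫ x'))
  (hbmul : ∀ (T' : Over U) (t t' : T' ⟶ Red.DS U M) (x' : T' ⟶ X'),
    bul T' (t * t') x' = bul T' t (bul T' t' x'))
  (hbone : ∀ (T' : Over U) (x' : T' ⟶ X'), bul T' 1 x' = x')
  (hbtriv : ∀ (T' : Over U), (∃ p : T'.left ⟶ S₀, p ≫ i₀ = T'.hom ≫ j) →
    ∀ (t : T' ⟶ Red.DS U M) (x' : T' ⟶ X'), bul T' t x' = x')

include hnil hbnat hbtriv in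
theorem base_eq (T' : Over U) (t : T' ⟶ Red.DS U M) (x' : T' ⟶ X') (z : T'.left) :
    (bul T' t x').left.base z = x'.left.base z := by
  haveI : Surjective i₀ := surjective_of_nil i₀ hnil
  obtain ⟨z₀, hz₀⟩ := (inferInstance : Surjective (pullback.fst (T'.hom ≫ j) i₀)).surj z
  let T₀ : Over U := Over.mk (pullback.fst (T'.hom ≫ j) i₀ ≫ T'.hom)
  let c₀ : T₀ ⟶ T' := Over.homMk (pullback.fst (T'.hom ≫ j) i₀) rfl
  have h1 := hbnat T₀ T' c₀ t x'
  have h2 := hbtriv T₀ ⟨pullback.snd (T'.hom ≫ j) i₀, by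
    show pullback.snd (T'.hom ≫ j) i₀ ≫ i₀ = (pullback.fst (T'.hom ≫ j) i₀ ≫ T'.hom) ≫ j
    rw [Category.assoc]
    exact pullback.condition.symm⟩ (c₀ ≫ t) (c₀ ≫ x')
  rw [h2] at h1
  have h3 := congrArg (fun f => f.left.base z₀) h1
  rw [← hz₀]
  exact h3

include hnil hbnat hbmul hbone hbtriv in
theorem local_univ {R' A' : Type u} [CommRing R'] [CommRing A'] [Algebra R' A']
    (k : Spec (CommRingCat.of R') ⟶ U) (v : Spec (CommRingCat.of A') ⟶ X'.left)
    (hv : v ≫ X'.hom = Spec.map (CommRingCat.ofHom (algebraMap R' A')) ≫ k)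
    [IsOpenImmersion v] [Mono k]
    (W : S.affineOpens) (hW : IsNilpotent (i₀.ker.ideal W))
    (β : Γ(S, W.1) ⟶ CommRingCat.of R') (hβ : k ≫ j = Spec.map β ≫ W.2.fromSpec)
    (C : Type u) [CommRing C] [Algebra R' C] (ψ : Multiplicative M →* C) (ξ : A' →ₐ[R'] C) :
    bul (TB k C) (pt k ψ) (xp k v hv ξ) = xp k v hv ξ := by
  have hex : ∀ (C : Type u) [CommRing C] [Algebra R' C] (ψ : Multiplicative M →* C)
      (ξ : A' →ₐ[R'] C),
      ∃ ξ' : A' →ₐ[R'] C, xp k v hv ξ' = bul (TB k C) (pt k ψ) (xp k v hv ξ) := by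
    intro C _ _ ψ ξ
    apply exists_rd k v hv
    rintro _ ⟨z, rfl⟩
    have hb := base_eq i₀ hnil j X' bul hbnat hbtriv (TB k C) (pt k ψ) (xp k v hv ξ) z
    exact ⟨(Spec.map (CommRingCat.ofHom ξ.toRingHom)).base z, hb.symm⟩
  obtain ⟨act, hact⟩ : ∃ act : (∀ (C : Type u) [CommRing C] [Algebra R' C],
      (Multiplicative M →* C) → (A' →ₐ[R'] C) → (A' →ₐ[R'] C)),
      ∀ (C : Type u) [CommRing C] [Algebra R' C] (ψ : Multiplicative M →* C) (ξ : A' →ₐ[R'] C),
        xp k v hv (act C ψ ξ) = bul (TB k C) (pt k ψ) (xp k v hv ξ) :=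
    ⟨fun C _ _ ψ ξ => (hex C ψ ξ).choose, fun C _ _ ψ ξ => (hex C ψ ξ).choose_spec⟩
  have hJnil : IsNilpotent (Ideal.map β.hom (i₀.ker.ideal W)) := by
    obtain ⟨n, hn⟩ := hW
    refine ⟨n, ?_⟩
    rw [← Ideal.map_pow, hn]
    exact Ideal.map_bot
  have hcore := alg_core (Ideal.map β.hom (i₀.ker.ideal W)) hJnil act ?_ ?_ ?_ ?_ C ψ ξ
  · rw [← hact, hcore]
  · -- naturality
    intro C C' _ _ _ _ θ ψ ξ
    apply xp_injective k v hv
    calc xp k v hv (θ.comp (act C ψ ξ)) = specOver k θ ≫ xp k v hv (act C ψ ξ) :=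
          (xp_nat k v hv θ _).symm
      _ = specOver k θ ≫ bul (TB k C) (pt k ψ) (xp k v hv ξ) := by rw [hact]
      _ = bul (TB k C') (specOver k θ ≫ pt k ψ) (specOver k θ ≫ xp k v hv ξ) :=
          hbnat _ _ _ _ _
      _ = bul (TB k C') (pt k (θ.toRingHom.toMonoidHom.comp ψ)) (xp k v hv (θ.comp ξ)) := by
          rw [pt_nat, xp_nat]
      _ = xp k v hv (act C' (θ.toRingHom.toMonoidHom.comp ψ) (θ.comp ξ)) := (hact _ _ _).symm
  · -- multiplicativity
    intro C _ _ ψ ψ' ξ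
    apply xp_injective k v hv
    calc xp k v hv (act C (ψ * ψ') ξ) = bul (TB k C) (pt k (ψ * ψ')) (xp k v hv ξ) := hact _ _ _
      _ = bul (TB k C) (pt k ψ * pt k ψ') (xp k v hv ξ) := by rw [pt_mul]
      _ = bul (TB k C) (pt k ψ) (bul (TB k C) (pt k ψ') (xp k v hv ξ)) := hbmul _ _ _ _
      _ = bul (TB k C) (pt k ψ) (xp k v hv (act C ψ' ξ)) := by rw [hact]
      _ = xp k v hv (act C ψ (act C ψ' ξ)) := (hact _ _ _).symm
  · -- unit
    intro C _ _ ξ
    apply xp_injective k v hv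
    rw [hact, pt_one, hbone]
  · -- triviality modulo the ideal
    intro C _ _ hC ψ ξ
    apply xp_injective k v hv
    rw [hact]
    apply hbtriv
    obtain ⟨p, hp⟩ := exists_lift_S₀ i₀ W (β ≫ CommRingCat.ofHom (algebraMap R' C)) (by
      intro r hr
      show algebraMap R' C (β.hom r) = 0
      exact hC _ (Ideal.mem_map_of_mem _ hr))
    refine ⟨p, ?_⟩
    rw [hp]
    show Spec.map (β ≫ CommRingCat.ofHom (algebraMap R' C)) ≫ W.2.fromSpec =
      (Spec.map (CommRingCat.ofHom (algebraMap R' C)) ≫ k) ≫ j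
    rw [Spec.map_comp, Category.assoc, Category.assoc, hβ]

include hnil hbnat hbmul hbone hbtriv in
theorem local_main (T' : Over U) (t : T' ⟶ Red.DS U M) (x' : T' ⟶ X') : bul T' t x' = x' := by
  apply Over.OverMorphism.ext
  apply Scheme.hom_ext_of_forall
  intro z
  obtain ⟨W, hzW, hWnil⟩ := hnil (j.base (T'.hom.base z))
  obtain ⟨U', hU', hzU', hU'W⟩ := exists_isAffineOpen_mem_and_subset
    (x := T'.hom.base z) (U := j ⁻¹ᵁ W.1) hzW
  have hzX : x'.left.base z ∈ X'.hom ⁻¹ᵁ U' := by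
    have h := Scheme.Hom.comp_apply x'.left X'.hom z
    rw [Over.w x'] at h
    show X'.hom (x'.left z) ∈ U'
    rw [← h]
    exact hzU'
  obtain ⟨V', hV', hzV', hV'U'⟩ := exists_isAffineOpen_mem_and_subset
    (x := x'.left.base z) (U := X'.hom ⁻¹ᵁ U') hzX
  obtain ⟨N, hN⟩ : ∃ N : T'.left.Opens, N = x'.left ⁻¹ᵁ V' := ⟨_, rfl⟩
  have hzN : z ∈ N := by rw [hN]; exact hzV'
  refine ⟨N, hzN, ?_⟩
  obtain ⟨cN, hcN⟩ : ∃ cN : Over.mk (N.ι ≫ T'.hom) ⟶ T', cN.left = N.ι :=
    ⟨Over.homMk N.ι rfl, rfl⟩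
  have h1 := hbnat _ T' cN t x'
  suffices h2 : bul _ (cN ≫ t) (cN ≫ x') = cN ≫ x' by
    rw [h2] at h1
    have h3 := congrArg (fun f => f.left) h1
    simp only [Over.comp_left] at h3
    rw [hcN] at h3
    exact h3
  letI : Algebra Γ(U, U') Γ(X'.left, V') := (X'.hom.appLE U' V' hV'U').hom.toAlgebra
  have hv : hV'.fromSpec ≫ X'.hom =
      Spec.map (CommRingCat.ofHom (algebraMap Γ(U, U') Γ(X'.left, V'))) ≫ hU'.fromSpec :=
    (hU'.SpecMap_appLE_fromSpec X'.hom hV' hV'U').symm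
  have hβ : hU'.fromSpec ≫ j = Spec.map (j.appLE W.1 U' hU'W) ≫ W.2.fromSpec :=
    (W.2.SpecMap_appLE_fromSpec j hU' hU'W).symm
  have hrange : Set.range (cN ≫ x').left ⊆ Set.range hV'.fromSpec := by
    rw [hV'.range_fromSpec]
    rintro _ ⟨w, rfl⟩
    have hw : N.ι w ∈ N := ι_mem' N w
    have hw' : N.ι w ∈ x'.left ⁻¹ᵁ V' := hN.le hw
    have h4 : (cN ≫ x').left = N.ι ≫ x'.left := by
      rw [Over.comp_left, hcN]
    rw [h4, Scheme.Hom.comp_apply]
    exact hw'
  haveI : Mono hU'.fromSpec := inferInstance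
  obtain ⟨c, hc1, hc2⟩ := exists_factor (R' := Γ(U, U')) (A' := Γ(X'.left, V'))
    hU'.fromSpec hV'.fromSpec hv (cN ≫ t) (cN ≫ x') hrange
  rw [← hc1, ← hc2, ← hbnat]
  rw [local_univ i₀ hnil j X' bul hbnat hbmul hbone hbtriv (R' := Γ(U, U'))
    (A' := Γ(X'.left, V')) hU'.fromSpec hV'.fromSpec hv W hWnil (j.appLE W.1 U' hU'W) hβ]

end Loc

/-! ### The main theorems -/

section Main

set_option backward.isDefEq.respectTransparency false in
theorem flat_sigmaDesc {Y : Scheme.{u}} {I : Type u} (Q : I → Scheme.{u}) (q : ∀ i, Q i ⟶ Y)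
    (hq : ∀ i, Flat (q i)) : Flat (Sigma.desc q) :=
  IsZariskiLocalAtSource.sigmaDesc hq

/-- The local form: after a base change `jj : U ⟶ S` making `G` diagonalisable, the action is
trivial. -/
theorem local_apply {S S₀ : Scheme.{u}} (i₀ : S₀ ⟶ S) [IsClosedImmersion i₀]
    (hnil : ∀ x : S, ∃ U : S.affineOpens, x ∈ (U : S.Opens) ∧ IsNilpotent (i₀.ker.ideal U))
    {G X : Over S} [GrpObj G] (a : AlgGrp.Action G X)
    (h0 : ∀ (Y : Over S) (p : Y ⟶ Over.mk i₀) (g : Y ⟶ G) (x : Y ⟶ X), lift g x ≫ a.act = x)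
    {U : Scheme.{u}} (jj : U ⟶ S) {M : Type} [AddCommGroup M]
    (a1 : Red.bc jj G ⟶ Red.DS U M) (ainv : Red.DS U M ⟶ Red.bc jj G) [IsMonHom ainv]
    (h1 : a1 ≫ ainv = 𝟙 _) (Y : Over S) (g : Y ⟶ G) (x : Y ⟶ X) :
    pullback.fst Y.hom jj ≫ (lift g x ≫ a.act).left = pullback.fst Y.hom jj ≫ x.left := by
  -- the pointwise action of `D(M)` on `X ×_S U`
  have hloc := local_main i₀ hnil jj (Red.bc jj X)
    (fun T' t x' => unchk jj (sm a (chk jj (t ≫ ainv)) (chk jj x')))
    (by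
      intro T'' T' c t x'
      show c ≫ unchk jj (sm a (chk jj (t ≫ ainv)) (chk jj x')) =
        unchk jj (sm a (chk jj ((c ≫ t) ≫ ainv)) (chk jj (c ≫ x')))
      rw [← unchk_comp, sm_comp, ← chk_comp, ← chk_comp, Category.assoc])
    (by
      intro T' t t' x'
      show unchk jj (sm a (chk jj ((t * t') ≫ ainv)) (chk jj x')) =
        unchk jj (sm a (chk jj (t ≫ ainv))
          (chk jj (unchk jj (sm a (chk jj (t' ≫ ainv)) (chk jj x')))))
      rw [chk_unchk, MonObj.mul_comp t t' ainv, chk_mul, sm_mul])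
    (by
      intro T' x'
      show unchk jj (sm a (chk jj (1 ≫ ainv)) (chk jj x')) = x'
      rw [MonObj.one_comp, chk_one', sm_one, unchk_chk])
    (by
      intro T' hp t x'
      obtain ⟨p, hp⟩ := hp
      show unchk jj (sm a (chk jj (t ≫ ainv)) (chk jj x')) = x'
      have h3 : sm a (chk jj (t ≫ ainv)) (chk jj x') = chk jj x' :=
        h0 ((Over.map jj).obj T') (Over.homMk p hp) _ _
      rw [h3, unchk_chk])
  -- apply it to the base change of `(g, x)`
  obtain ⟨c, hc⟩ : ∃ c : (Over.map jj).obj (Over.mk (pullback.snd Y.hom jj)) ⟶ Y,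
      c.left = pullback.fst Y.hom jj :=
    ⟨Over.homMk (pullback.fst Y.hom jj) pullback.condition, rfl⟩
  have h4 := hloc (Over.mk (pullback.snd Y.hom jj)) (unchk jj (c ≫ g) ≫ a1) (unchk jj (c ≫ x))
  have h5 : unchk jj (sm a (chk jj ((unchk jj (c ≫ g) ≫ a1) ≫ ainv))
      (chk jj (unchk jj (c ≫ x)))) = unchk jj (c ≫ x) := h4
  rw [Category.assoc, h1, Category.comp_id, chk_unchk, chk_unchk] at h5
  have h6 : sm a (c ≫ g) (c ≫ x) = c ≫ x := by
    have h7 := congrArg (chk jj) h5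
    rw [chk_unchk, chk_unchk] at h7
    exact h7
  rw [← sm_comp] at h6
  have h8 := congrArg (fun k => k.left) h6
  simp only [Over.comp_left, hc] at h8
  exact h8

theorem main5279 {S S₀ : Scheme.{u}} (i₀ : S₀ ⟶ S) [IsClosedImmersion i₀]
    (hnil : ∀ x : S, ∃ U : S.affineOpens, x ∈ (U : S.Opens) ∧ IsNilpotent (i₀.ker.ideal U))
    (G X : Over S) [GrpObj G]
    (hG : TwC.Locally S TwC.Topology.fpqc (fun S' f => ∃ (M : Type) (_ : AddCommGroup M),
      Nonempty (Grp.mk (Red.bc f G) ≅ Grp.mk (Red.DS S' M))))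
    (a : AlgGrp.Action G X)
    (h0 : ∀ (Y : Over S) (p : Y ⟶ Over.mk i₀) (g : Y ⟶ G) (x : Y ⟶ X), lift g x ≫ a.act = x) :
    ∀ (Y : Over S) (g : Y ⟶ G) (x : Y ⟶ X), lift g x ≫ a.act = x := by
  intro Y g x
  obtain ⟨S', f, hflat, hsurj, -, hloc⟩ := hG
  haveI := hflat
  have key : ∀ y : Y.left, ∃ (Q : Scheme.{u}) (q : Q ⟶ Y.left), Flat q ∧ y ∈ Set.range q ∧
      q ≫ (lift g x ≫ a.act).left = q ≫ x.left := by
    intro y
    obtain ⟨s', hs'⟩ := hsurj.surj (Y.hom y)
    obtain ⟨Uo, hs'U, M, instM, ⟨e⟩⟩ := hloc s'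
    obtain ⟨a1, ainv, ha1, hainv, h1, h2⟩ := Groth.Agent.Lib.DiagHom.iso_data e
    haveI := hainv
    refine ⟨pullback Y.hom (Uo.ι ≫ f), pullback.fst Y.hom (Uo.ι ≫ f), inferInstance, ?_, ?_⟩
    · obtain ⟨w, hw, _⟩ := Scheme.Pullback.exists_preimage_pullback (f := Y.hom) (g := Uo.ι ≫ f)
        y (⟨s', hs'U⟩ : Uo) (by
          first
            | exact hs'.symm
            | (rw [Scheme.Hom.comp_apply]; exact hs'.symm)
            | (simp; exact hs'.symm))
      exact ⟨w, hw⟩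
    · exact local_apply i₀ hnil a h0 (Uo.ι ≫ f) a1 ainv h1 Y g x
  choose Q q hq1 hq2 hq3 using key
  apply Over.OverMorphism.ext
  haveI : Flat (Sigma.desc q) := flat_sigmaDesc Q q hq1
  haveI : Surjective (Sigma.desc q) := ⟨fun h => by
    obtain ⟨y, hy⟩ := hq2 h
    refine ⟨(Sigma.ι Q h) y, ?_⟩
    rw [← Scheme.Hom.comp_apply, Sigma.ι_desc]
    exact hy⟩
  haveI : Epi (Sigma.desc q) := Flat.epi_of_flat_of_surjective _
  rw [← cancel_epi (Sigma.desc q)]
  refine Sigma.hom_ext _ _ (fun h => ?_)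
  rw [Sigma.ι_desc_assoc, Sigma.ι_desc_assoc]
  exact hq3 h

end Main

end Groth.Agent.Lib.MultTrivH4
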