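import Mathlib
import Groth.Prelude
import Groth.Agent.Lib.MultTriv_helper4
import Groth.Agent.Lib.ConnActAlg_helper4

/-!
# A group scheme with geometrically connected fibres acts trivially on a diagonalisable group
(local form, helper4)

Let `K'` be a `U`-group scheme which is geometrically connected over `U`, acting (pointwise,
naturally, by group homomorphisms, the unit acting trivially) on `D_U(M)`.  Then the action is
trivial.
-/

set_option autoImplicit false
set_option linter.unusedVariables false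
set_option linter.unusedTactic false
set_option linter.unreachableTactic false
set_option linter.unusedSectionVars false
set_option linter.style.haveILetI false
set_option linter.deprecated false
set_option linter.unusedSimpArgs false
set_option linter.style.longLine false
set_option maxHeartbeats 1600000

universe u

open CategoryTheory CategoryTheory.Limits MonoidalCategory CartesianMonoidalCategory MonObj GrpObj
  AlgebraicGeometry Opposite

namespace Groth.Agent.Lib.ConnActH4

open Groth.Agent.Lib.RedDictH8 Groth.Agent.Lib.DSDict Groth.Agent.Lib.MultGa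
  Groth.Agent.Lib.MultTrivH4

/-! ### Generalities -/

section Gen

theorem hom_ext_of_flat_cover {X Y : Scheme.{u}} (f₁ f₂ : X ⟶ Y)
    (h : ∀ x : X, ∃ (Q : Scheme.{u}) (q : Q ⟶ X), Flat q ∧ x ∈ Set.range q ∧
      q ≫ f₁ = q ≫ f₂) : f₁ = f₂ := by
  choose Q q hq1 hq2 hq3 using h
  haveI : Flat (Sigma.desc q) := flat_sigmaDesc Q q hq1
  haveI : Surjective (Sigma.desc q) := ⟨fun x => by
    obtain ⟨y, hy⟩ := hq2 x
    refine ⟨(Sigma.ι Q x) y, ?_⟩
    rw [← Scheme.Hom.comp_apply, Sigma.ι_desc]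
    exact hy⟩
  haveI : Epi (Sigma.desc q) := Flat.epi_of_flat_of_surjective _
  rw [← cancel_epi (Sigma.desc q)]
  refine Sigma.hom_ext _ _ (fun x => ?_)
  rw [Sigma.ι_desc_assoc, Sigma.ι_desc_assoc]
  exact hq3 x

theorem field_idem {L : Type u} [Field L] (e : L) (h : e * e = e) : e = 0 ∨ e = 1 := by
  have h1 : e * (e - 1) = 0 := by rw [mul_sub, _root_.mul_one, h, sub_self]
  rcases mul_eq_zero.mp h1 with h2 | h2
  · exact Or.inl h2
  · exact Or.inr (sub_eq_zero.mp h2)

variable {U : Scheme.{u}} {R' : Type u} [CommRing R'] (k : Spec (CommRingCat.of R') ⟶ U)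

theorem specOver_id (C : Type u) [CommRing C] [Algebra R' C] :
    specOver k (AlgHom.id R' C) = 𝟙 (TB k C) := by
  apply Over.OverMorphism.ext
  show Spec.map (CommRingCat.ofHom (AlgHom.id R' C).toRingHom) = 𝟙 _
  exact Spec.map_id _

theorem specOver_comp {C C' C'' : Type u} [CommRing C] [CommRing C'] [CommRing C'']
    [Algebra R' C] [Algebra R' C'] [Algebra R' C''] (θ : C →ₐ[R'] C') (θ' : C' →ₐ[R'] C'') :
    specOver k (θ'.comp θ) = specOver k θ' ≫ specOver k θ := by
  apply Over.OverMorphism.ext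
  show Spec.map (CommRingCat.ofHom (θ'.comp θ).toRingHom) =
    Spec.map (CommRingCat.ofHom θ'.toRingHom) ≫ Spec.map (CommRingCat.ofHom θ.toRingHom)
  rw [← Spec.map_comp]
  rfl

variable {M : Type} [AddCommGroup M]

/-- the character of a point of `D_U(M)` with values in an affine scheme. -/
noncomputable def chC {C : Type u} [CommRing C] [Algebra R' C] (h : TB k C ⟶ Red.DS U M) :
    Multiplicative M →* C where
  toFun x := (Scheme.ΓSpecIso (CommRingCat.of C)).hom (chr h (Multiplicative.toAdd x))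
  map_one' := by
    show (Scheme.ΓSpecIso (CommRingCat.of C)).hom (chr h 0) = 1
    rw [chr_zero, map_one]
  map_mul' a b := by
    show (Scheme.ΓSpecIso (CommRingCat.of C)).hom
        (chr h (Multiplicative.toAdd a + Multiplicative.toAdd b)) =
      (Scheme.ΓSpecIso (CommRingCat.of C)).hom (chr h (Multiplicative.toAdd a)) *
        (Scheme.ΓSpecIso (CommRingCat.of C)).hom (chr h (Multiplicative.toAdd b))
    rw [chr_add, map_mul]

theorem pt_chC {C : Type u} [CommRing C] [Algebra R' C] (h : TB k C ⟶ Red.DS U M) :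
    pt k (chC k h) = h := by
  apply chr_injective
  intro n
  rw [chr_pt]
  show (Scheme.ΓSpecIso (CommRingCat.of C)).inv
    ((Scheme.ΓSpecIso (CommRingCat.of C)).hom (chr h n)) = chr h n
  exact Iso.hom_inv_id_apply _ _

theorem chC_pt {C : Type u} [CommRing C] [Algebra R' C] (ψ : Multiplicative M →* C) :
    chC k (pt k ψ) = ψ := by
  apply MonoidHom.ext
  intro x
  show (Scheme.ΓSpecIso (CommRingCat.of C)).hom (chr (pt k ψ) (Multiplicative.toAdd x)) = ψ x
  rw [chr_pt]
  exact Iso.inv_hom_id_apply _ _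

theorem pt_injective {C : Type u} [CommRing C] [Algebra R' C] (ψ ψ' : Multiplicative M →* C)
    (h : pt k ψ = pt k ψ') : ψ = ψ' := by
  rw [← chC_pt k ψ, ← chC_pt k ψ', h]

end Gen

/-! ### The functor-of-points data -/

section Act

variable {U : Scheme.{u}} (K' : Over U) [GrpObj K'] {M : Type} [AddCommGroup M]
  (bul : ∀ (T' : Over U), (T' ⟶ K') → (T' ⟶ Red.DS U M) → (T' ⟶ Red.DS U M))
  (hbnat : ∀ (T'' T' : Over U) (c : T'' ⟶ T') (g : T' ⟶ K') (h : T' ⟶ Red.DS U M),
    c ≫ bul T' g h = bul T'' (c ≫ g) (c ≫ h))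
  (hbhom : ∀ (T' : Over U) (g : T' ⟶ K') (h h' : T' ⟶ Red.DS U M),
    bul T' g (h * h') = bul T' g h * bul T' g h')
  (hbone : ∀ (T' : Over U) (h : T' ⟶ Red.DS U M), bul T' 1 h = h)
  {R' : Type u} [CommRing R'] (k : Spec (CommRingCat.of R') ⟶ U)

/-- points of `K'` with values in `R'`-algebras. -/
abbrev KKg (C : Type u) [CommRing C] [Algebra R' C] : Type u := TB k C ⟶ K'

/-- functoriality of the points. -/
noncomputable def pushg (C C' : Type u) [CommRing C] [CommRing C'] [Algebra R' C]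
    [Algebra R' C'] (θ : C →ₐ[R'] C') (g : KKg K' k C) : KKg K' k C' := specOver k θ ≫ g

/-- the action on characters. -/
noncomputable def PhiG (C : Type u) [CommRing C] [Algebra R' C] (g : KKg K' k C)
    (ψ : Multiplicative M →* C) : Multiplicative M →* C :=
  chC k (bul (TB k C) g (pt k ψ))

theorem pt_PhiG (C : Type u) [CommRing C] [Algebra R' C] (g : KKg K' k C)
    (ψ : Multiplicative M →* C) :
    pt k (PhiG K' bul k C g ψ) = bul (TB k C) g (pt k ψ) := pt_chC k _

include hbnat hbhom in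
theorem isNatAct : IsNatAct (R' := R') (G := Multiplicative M) (KKg K' k) (pushg K' k)
    (PhiG K' bul k) where
  push_id := by
    intro C _ _ g
    show specOver k (AlgHom.id R' C) ≫ g = g
    rw [specOver_id, Category.id_comp]
  push_comp := by
    intro C C' C'' _ _ _ _ _ _ θ θ' g
    show specOver k θ' ≫ specOver k θ ≫ g = specOver k (θ'.comp θ) ≫ g
    rw [specOver_comp, Category.assoc]
  nat := by
    intro C C' _ _ _ _ θ g ψ
    apply pt_injective k
    calc pt k (θ.toRingHom.toMonoidHom.comp (PhiG K' bul k C g ψ))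
        = specOver k θ ≫ pt k (PhiG K' bul k C g ψ) := (pt_nat k θ _).symm
      _ = specOver k θ ≫ bul (TB k C) g (pt k ψ) := by rw [pt_PhiG]
      _ = bul (TB k C') (specOver k θ ≫ g) (specOver k θ ≫ pt k ψ) := hbnat _ _ _ _ _
      _ = bul (TB k C') (specOver k θ ≫ g) (pt k (θ.toRingHom.toMonoidHom.comp ψ)) := by
          rw [pt_nat]
      _ = pt k (PhiG K' bul k C' (pushg K' k C C' θ g) (θ.toRingHom.toMonoidHom.comp ψ)) :=
          (pt_PhiG K' bul k C' _ _).symm
  mul := by
    intro C _ _ g ψ ψ'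
    apply pt_injective k
    calc pt k (PhiG K' bul k C g (ψ * ψ')) = bul (TB k C) g (pt k (ψ * ψ')) :=
          pt_PhiG K' bul k C g _
      _ = bul (TB k C) g (pt k ψ * pt k ψ') := by rw [pt_mul]
      _ = bul (TB k C) g (pt k ψ) * bul (TB k C) g (pt k ψ') := hbhom _ _ _ _
      _ = pt k (PhiG K' bul k C g ψ) * pt k (PhiG K' bul k C g ψ') := by
          rw [pt_PhiG, pt_PhiG]
      _ = pt k (PhiG K' bul k C g ψ * PhiG K' bul k C g ψ') := (pt_mul k _ _).symm

/-- the diagonal coefficients. -/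
noncomputable def eeG (C : Type u) [CommRing C] [Algebra R' C] (g : TB k C ⟶ K')
    (m m' : Multiplicative M) : C :=
  ee (KKg K' k) (pushg K' k) (PhiG K' bul k) C g m m'

include hbnat hbhom in
theorem eeG_nat {C C' : Type u} [CommRing C] [CommRing C'] [Algebra R' C] [Algebra R' C']
    (θ : C →ₐ[R'] C') (g : TB k C ⟶ K') (m m' : Multiplicative M) :
    eeG K' bul k C' (specOver k θ ≫ g) m m' = θ (eeG K' bul k C g m m') :=
  ee_nat (isNatAct K' bul hbnat hbhom k) C C' θ g m m'

include hbnat hbhom in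
theorem eeG_idem {C : Type u} [CommRing C] [Algebra R' C] (g : TB k C ⟶ K')
    (m : Multiplicative M) :
    eeG K' bul k C g m m * eeG K' bul k C g m m = eeG K' bul k C g m m := by
  have h := ee_mul (isNatAct K' bul hbnat hbhom k) C g m m m
  rw [if_pos rfl] at h
  exact h

include hbone in
theorem eeG_one {C : Type u} [CommRing C] [Algebra R' C] (m : Multiplicative M) :
    eeG K' bul k C (1 : TB k C ⟶ K') m m = 1 := by
  refine ee_of_one (KK := KKg K' k) (push := pushg K' k) (Ph := PhiG K' bul k)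
    (fun C _ _ => (1 : TB k C ⟶ K')) ?_ ?_ C m
  · intro C C' _ _ _ _ θ
    show specOver k θ ≫ (1 : TB k C ⟶ K') = 1
    exact MonObj.comp_one _
  · intro C _ _ ψ
    apply pt_injective k
    rw [pt_PhiG]
    exact hbone _ _

/-! ### The fibre over a field-valued point -/

/-- the fibre of `K'` over `Spec F`. -/
noncomputable abbrev fib (F : Type u) [CommRing F] [Algebra R' F] : Scheme.{u} :=
  pullback K'.hom (TB k F).hom

noncomputable abbrev fib1 (F : Type u) [CommRing F] [Algebra R' F] : fib K' k F ⟶ K'.left :=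
  pullback.fst K'.hom (TB k F).hom

noncomputable abbrev fib2 (F : Type u) [CommRing F] [Algebra R' F] :
    fib K' k F ⟶ Spec (CommRingCat.of F) :=
  pullback.snd K'.hom (TB k F).hom

/-- the point of `K'` attached to a point of the fibre. -/
noncomputable def fibPt (F : Type u) [CommRing F] [Algebra R' F] {L : Type u} [CommRing L]
    [Algebra R' L] (t : Spec (CommRingCat.of L) ⟶ fib K' k F)
    (ht : t ≫ fib2 K' k F ≫ Spec.map (CommRingCat.ofHom (algebraMap R' F)) =
      Spec.map (CommRingCat.ofHom (algebraMap R' L))) : TB k L ⟶ K' :=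
  Over.homMk (t ≫ fib1 K' k F) (by
    have h1 : pullback.fst K'.hom (TB k F).hom ≫ K'.hom =
        pullback.snd K'.hom (TB k F).hom ≫
          (Spec.map (CommRingCat.ofHom (algebraMap R' F)) ≫ k) := pullback.condition
    show (t ≫ pullback.fst K'.hom (TB k F).hom) ≫ K'.hom =
      Spec.map (CommRingCat.ofHom (algebraMap R' L)) ≫ k
    rw [Category.assoc, h1, ← ht]
    simp only [Category.assoc])

theorem fibPt_left (F : Type u) [CommRing F] [Algebra R' F] {L : Type u} [CommRing L]
    [Algebra R' L] (t : Spec (CommRingCat.of L) ⟶ fib K' k F)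
    (ht : t ≫ fib2 K' k F ≫ Spec.map (CommRingCat.ofHom (algebraMap R' F)) =
      Spec.map (CommRingCat.ofHom (algebraMap R' L))) :
    (fibPt K' k F t ht).left = t ≫ fib1 K' k F := rfl

/-- the section of the fibre attached to a point of `K'`. -/
noncomputable def secOf (F : Type u) [CommRing F] [Algebra R' F] (g : TB k F ⟶ K') :
    Spec (CommRingCat.of F) ⟶ fib K' k F :=
  pullback.lift g.left (𝟙 _) (by
    rw [Category.id_comp]
    exact Over.w g)

theorem secOf_ht (F : Type u) [CommRing F] [Algebra R' F] (g : TB k F ⟶ K') :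
    secOf K' k F g ≫ fib2 K' k F ≫ Spec.map (CommRingCat.ofHom (algebraMap R' F)) =
      Spec.map (CommRingCat.ofHom (algebraMap R' F)) := by
  have h : secOf K' k F g ≫ fib2 K' k F = 𝟙 _ := pullback.lift_snd _ _ _
  rw [← Category.assoc, h, Category.id_comp]

theorem fibPt_secOf (F : Type u) [CommRing F] [Algebra R' F] (g : TB k F ⟶ K') :
    fibPt K' k F (secOf K' k F g) (secOf_ht K' k F g) = g := by
  apply Over.OverMorphism.ext
  rw [fibPt_left]
  exact pullback.lift_fst _ _ _

/-- A field-valued point of the fibre. -/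
structure Wit (F : Type u) [CommRing F] [Algebra R' F] where
  L : Type u
  [fld : Field L]
  [alg : Algebra R' L]
  t : Spec (CommRingCat.of L) ⟶ fib K' k F
  ht : t ≫ fib2 K' k F ≫ Spec.map (CommRingCat.ofHom (algebraMap R' F)) =
    Spec.map (CommRingCat.ofHom (algebraMap R' L))
  z : Spec (CommRingCat.of L)

attribute [instance] Wit.fld Wit.alg

/-- the image point of a field-valued point. -/
noncomputable def Wit.pnt {F : Type u} [CommRing F] [Algebra R' F] (w : Wit K' k F) :
    ↥(fib K' k F) := w.t w.z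

/-- the value of the diagonal coefficient at a field-valued point. -/
noncomputable def Wit.val {F : Type u} [CommRing F] [Algebra R' F] (w : Wit K' k F)
    (m : Multiplicative M) : w.L :=
  eeG K' bul k w.L (fibPt K' k F w.t w.ht) m m

include hbnat hbhom in
theorem Wit.val_01 {F : Type u} [CommRing F] [Algebra R' F] (w : Wit K' k F)
    (m : Multiplicative M) : w.val K' bul k m = 0 ∨ w.val K' bul k m = 1 :=
  field_idem _ (eeG_idem K' bul hbnat hbhom k _ m)

/-- every point of the fibre is the image of a field-valued point. -/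
theorem exists_wit (F : Type u) [CommRing F] [Algebra R' F] (y : ↥(fib K' k F)) :
    ∃ w : Wit K' k F, w.pnt K' k = y := by
  obtain ⟨ρ, hρ⟩ : ∃ ρ : CommRingCat.of R' ⟶ (fib K' k F).residueField y,
      Spec.map ρ = (fib K' k F).fromSpecResidueField y ≫ fib2 K' k F ≫
        Spec.map (CommRingCat.ofHom (algebraMap R' F)) := ⟨Spec.preimage _, Spec.map_preimage _⟩
  letI : Algebra R' ((fib K' k F).residueField y) := ρ.hom.toAlgebra
  refine ⟨Wit.mk ((fib K' k F).residueField y) ((fib K' k F).fromSpecResidueField y)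
    hρ.symm default, ?_⟩
  exact (fib K' k F).fromSpecResidueField_apply y _

include hbnat hbhom in
/-- On an affine open of the fibre, the diagonal coefficient is the indicator of an open set. -/
theorem chart (F : Type u) [CommRing F] [Algebra R' F] (m : Multiplicative M)
    (V : (fib K' k F).Opens) (hV : IsAffineOpen V) :
    ∃ N₁ N₀ : (fib K' k F).Opens, ∀ w : Wit K' k F, w.pnt K' k ∈ V →
      ((w.val K' bul k m = 1 ↔ w.pnt K' k ∈ N₁) ∧ (w.val K' bul k m = 0 ↔ w.pnt K' k ∈ N₀)) := by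
  classical
  obtain ⟨ρ, hρ⟩ : ∃ ρ : CommRingCat.of R' ⟶ Γ(fib K' k F, V),
      Spec.map ρ = hV.fromSpec ≫ fib2 K' k F ≫
        Spec.map (CommRingCat.ofHom (algebraMap R' F)) := ⟨Spec.preimage _, Spec.map_preimage _⟩
  letI : Algebra R' Γ(fib K' k F, V) := ρ.hom.toAlgebra
  have htV : hV.fromSpec ≫ fib2 K' k F ≫ Spec.map (CommRingCat.ofHom (algebraMap R' F)) =
      Spec.map (CommRingCat.ofHom (algebraMap R' Γ(fib K' k F, V))) := hρ.symm
  obtain ⟨gV, hgV⟩ : ∃ gV : TB k Γ(fib K' k F, V) ⟶ K',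
      gV = fibPt K' k F hV.fromSpec htV := ⟨_, rfl⟩
  obtain ⟨ε, hε⟩ : ∃ ε : Γ(fib K' k F, V), ε = eeG K' bul k Γ(fib K' k F, V) gV m m :=
    ⟨_, rfl⟩
  have hidem : ε * ε = ε := by
    rw [hε]
    exact eeG_idem K' bul hbnat hbhom k gV m
  refine ⟨(fib K' k F).basicOpen ε, (fib K' k F).basicOpen (1 - ε), ?_⟩
  intro w hw
  obtain ⟨L, t, ht, z⟩ := w
  have hz : t z ∈ V := hw
  have hr : Set.range t ⊆ Set.range hV.fromSpec := by
    rw [hV.range_fromSpec]
    rintro _ ⟨z', rfl⟩
    have hzz : z' = z := Subsingleton.elim _ _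
    rw [hzz]
    exact hz
  obtain ⟨l, hl⟩ : ∃ l : Spec (CommRingCat.of L) ⟶ Spec Γ(fib K' k F, V),
      l ≫ hV.fromSpec = t :=
    ⟨IsOpenImmersion.lift hV.fromSpec t hr, IsOpenImmersion.lift_fac _ _ _⟩
  obtain ⟨θc, hθc⟩ : ∃ θc : Γ(fib K' k F, V) ⟶ CommRingCat.of L, Spec.map θc = l :=
    ⟨Spec.preimage l, Spec.map_preimage l⟩
  have hcomm : CommRingCat.ofHom (algebraMap R' Γ(fib K' k F, V)) ≫ θc =
      CommRingCat.ofHom (algebraMap R' L) := by
    apply Spec.map_injective
    rw [Spec.map_comp, hθc, ← htV, ← ht, ← hl]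
    simp only [Category.assoc]
  obtain ⟨θ, hθ⟩ : ∃ θ : Γ(fib K' k F, V) →ₐ[R'] L, θ.toRingHom = θc.hom :=
    ⟨{ toRingHom := θc.hom
       commutes' := fun r => congrArg (fun f => f.hom r) hcomm }, rfl⟩
  have hθl : Spec.map (CommRingCat.ofHom θ.toRingHom) = l := by
    rw [hθ]
    exact hθc
  have hpt : fibPt K' k F t ht = specOver k θ ≫ gV := by
    rw [hgV]
    apply Over.OverMorphism.ext
    show t ≫ fib1 K' k F =
      Spec.map (CommRingCat.ofHom θ.toRingHom) ≫ hV.fromSpec ≫ fib1 K' k F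
    rw [hθl, ← Category.assoc, hl]
  have hee : eeG K' bul k L (fibPt K' k F t ht) m m = θ ε := by
    rw [hpt, hε]
    exact eeG_nat K' bul hbnat hbhom k θ gV m m
  have hmem : ∀ f : Γ(fib K' k F, V), t z ∈ (fib K' k F).basicOpen f ↔ θ f ≠ 0 := by
    intro f
    have hz1 : t z = hV.fromSpec ((Spec.map θc) z) := by
      rw [hθc, ← hl]
      exact Scheme.Hom.comp_apply _ _ _
    obtain ⟨zp, hzp⟩ : ∃ zp : PrimeSpectrum L, zp = z := ⟨z, rfl⟩
    have hbot : zp.asIdeal = ⊥ := Ideal.eq_bot_of_prime zp.asIdeal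
    have hz3 : (Spec.map θc) z ∈ hV.fromSpec ⁻¹ᵁ (fib K' k F).basicOpen f ↔
        θc.hom f ∉ zp.asIdeal := by
      rw [hV.fromSpec_preimage_basicOpen f, ← hzp]
      exact Iff.rfl
    have h5 : θ f = θc.hom f := by
      show θ.toRingHom f = θc.hom f
      rw [hθ]
    rw [hz1]
    refine Iff.trans hz3 ?_
    rw [hbot, Ideal.mem_bot, h5]
  have hid : θ ε * θ ε = θ ε := by rw [← map_mul, hidem]
  have h01 : θ ε = 0 ∨ θ ε = 1 := field_idem _ hid
  show (eeG K' bul k L (fibPt K' k F t ht) m m = 1 ↔ t z ∈ (fib K' k F).basicOpen ε) ∧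
    (eeG K' bul k L (fibPt K' k F t ht) m m = 0 ↔ t z ∈ (fib K' k F).basicOpen (1 - ε))
  rw [hee, hmem, hmem, map_sub, map_one]
  constructor
  · constructor
    · intro h
      rw [h]
      exact one_ne_zero
    · intro h
      exact h01.resolve_left h
  · constructor
    · intro h
      rw [h, sub_zero]
      exact one_ne_zero
    · intro h
      rcases h01 with h0 | h1
      · exact h0
      · exfalso
        apply h
        rw [h1, sub_self]

include hbnat hbhom in
/-- The diagonal coefficient is constant on the field-valued points of a connected fibre. -/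
theorem fibre_const [GeometricallyConnected K'.hom] (F : Type u) [Field F] [Algebra R' F]
    (g₁ g₂ : TB k F ⟶ K') (m : Multiplicative M)
    (h1 : eeG K' bul k F g₁ m m = 1) : eeG K' bul k F g₂ m m = 1 := by
  classical
  haveI : ConnectedSpace ↥(fib K' k F) :=
    pullback_of_geometrically
      (GeometricallyConnected.geometrically_connectedSpace (f := K'.hom)) F (TB k F).hom
  -- local structure
  have hloc : ∀ y : ↥(fib K' k F), ∃ (V N₁ N₀ : (fib K' k F).Opens), y ∈ V ∧
      ∀ w : Wit K' k F, w.pnt K' k ∈ V →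
        ((w.val K' bul k m = 1 ↔ w.pnt K' k ∈ N₁) ∧
          (w.val K' bul k m = 0 ↔ w.pnt K' k ∈ N₀)) := by
    intro y
    obtain ⟨V, hV, hyV, -⟩ := exists_isAffineOpen_mem_and_subset (x := y)
      (U := (⊤ : (fib K' k F).Opens)) trivial
    obtain ⟨N₁, N₀, hN⟩ := chart K' bul hbnat hbhom k F m V hV
    exact ⟨V, N₁, N₀, hyV, hN⟩
  obtain ⟨A, hA⟩ : ∃ A : Set ↥(fib K' k F),
      A = {y | ∃ w : Wit K' k F, w.pnt K' k = y ∧ w.val K' bul k m = 1} := ⟨_, rfl⟩
  obtain ⟨B, hB⟩ : ∃ B : Set ↥(fib K' k F),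
      B = {y | ∃ w : Wit K' k F, w.pnt K' k = y ∧ w.val K' bul k m = 0} := ⟨_, rfl⟩
  have hAopen : IsOpen A := by
    rw [isOpen_iff_forall_mem_open]
    intro y hy
    rw [hA] at hy
    obtain ⟨w, hwy, hw1⟩ := hy
    obtain ⟨V, N₁, N₀, hyV, hN⟩ := hloc y
    have hwV : w.pnt K' k ∈ V := by rw [hwy]; exact hyV
    have hyN : y ∈ N₁ := by
      rw [← hwy]
      exact ((hN w hwV).1).mp hw1
    refine ⟨(N₁ ⊓ V : (fib K' k F).Opens), ?_, (N₁ ⊓ V).2, ⟨hyN, hyV⟩⟩
    rintro y' ⟨hy'N, hy'V⟩
    obtain ⟨w', hw'⟩ := exists_wit K' k F y'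
    rw [hA]
    refine ⟨w', hw', ?_⟩
    have hw'V : w'.pnt K' k ∈ V := by rw [hw']; exact hy'V
    exact ((hN w' hw'V).1).mpr (by rw [hw']; exact hy'N)
  have hBopen : IsOpen B := by
    rw [isOpen_iff_forall_mem_open]
    intro y hy
    rw [hB] at hy
    obtain ⟨w, hwy, hw0⟩ := hy
    obtain ⟨V, N₁, N₀, hyV, hN⟩ := hloc y
    have hwV : w.pnt K' k ∈ V := by rw [hwy]; exact hyV
    have hyN : y ∈ N₀ := by
      rw [← hwy]
      exact ((hN w hwV).2).mp hw0
    refine ⟨(N₀ ⊓ V : (fib K' k F).Opens), ?_, (N₀ ⊓ V).2, ⟨hyN, hyV⟩⟩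
    rintro y' ⟨hy'N, hy'V⟩
    obtain ⟨w', hw'⟩ := exists_wit K' k F y'
    rw [hB]
    refine ⟨w', hw', ?_⟩
    have hw'V : w'.pnt K' k ∈ V := by rw [hw']; exact hy'V
    exact ((hN w' hw'V).2).mpr (by rw [hw']; exact hy'N)
  have hdisj : ∀ y, y ∈ A → y ∈ B → False := by
    intro y hyA hyB
    rw [hA] at hyA
    rw [hB] at hyB
    obtain ⟨w, hwy, hw1⟩ := hyA
    obtain ⟨w', hw'y, hw'0⟩ := hyB
    obtain ⟨V, N₁, N₀, hyV, hN⟩ := hloc y
    have hwV : w.pnt K' k ∈ V := by rw [hwy]; exact hyV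
    have hw'V : w'.pnt K' k ∈ V := by rw [hw'y]; exact hyV
    have hyN : y ∈ N₁ := by
      rw [← hwy]
      exact ((hN w hwV).1).mp hw1
    have h2 : w'.val K' bul k m = 1 := ((hN w' hw'V).1).mpr (by rw [hw'y]; exact hyN)
    rw [hw'0] at h2
    exact zero_ne_one h2
  have hcover : ∀ y, y ∈ A ∨ y ∈ B := by
    intro y
    obtain ⟨w, hw⟩ := exists_wit K' k F y
    rcases w.val_01 K' bul hbnat hbhom k m with h0 | h1
    · right
      rw [hB]
      exact ⟨w, hw, h0⟩
    · left
      rw [hA]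
      exact ⟨w, hw, h1⟩
  have hAc : Aᶜ = B := by
    ext y
    constructor
    · intro hy
      rcases hcover y with h | h
      · exact absurd h hy
      · exact h
    · intro hy hyA
      exact hdisj y hyA hy
  have hAclopen : IsClopen A := ⟨by rw [← isOpen_compl_iff, hAc]; exact hBopen, hAopen⟩
  -- the two sections
  obtain ⟨w₁, hw₁⟩ : ∃ w₁ : Wit K' k F,
      w₁ = Wit.mk F (secOf K' k F g₁) (secOf_ht K' k F g₁) default := ⟨_, rfl⟩
  have hv₁ : w₁.val K' bul k m = 1 := by
    rw [hw₁]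
    show eeG K' bul k F (fibPt K' k F (secOf K' k F g₁) (secOf_ht K' k F g₁)) m m = 1
    rw [fibPt_secOf]
    exact h1
  have hmemA : w₁.pnt K' k ∈ A := by
    rw [hA]
    exact ⟨w₁, rfl, hv₁⟩
  have hAuniv : A = Set.univ := (isClopen_iff.mp hAclopen).resolve_left
    (Set.Nonempty.ne_empty ⟨_, hmemA⟩)
  have key : ∀ w : Wit K' k F, w.val K' bul k m = 1 := by
    intro w
    rcases w.val_01 K' bul hbnat hbhom k m with h0 | h1'
    · exfalso
      have hmemB : w.pnt K' k ∈ B := by
        rw [hB]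
        exact ⟨w, rfl, h0⟩
      have hmemA₂ : w.pnt K' k ∈ A := by
        rw [hAuniv]
        exact Set.mem_univ _
      exact hdisj _ hmemA₂ hmemB
    · exact h1'
  have h2 := key (Wit.mk F (secOf K' k F g₂) (secOf_ht K' k F g₂) default)
  have h3 : eeG K' bul k F (fibPt K' k F (secOf K' k F g₂) (secOf_ht K' k F g₂)) m m = 1 := h2
  rw [fibPt_secOf] at h3
  exact h3

/-! ### The local theorem -/

include hbnat hbhom hbone in
theorem eeG_eq_one [GeometricallyConnected K'.hom] (C : Type u) [CommRing C] [Algebra R' C]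
    (g : TB k C ⟶ K') (m : Multiplicative M) : eeG K' bul k C g m m = 1 :=
  ee_eq_one_of_fields (isNatAct K' bul hbnat hbhom k)
    (fun F _ _ g m => fibre_const K' bul hbnat hbhom k F 1 g m (eeG_one K' bul hbone k m)) C g m

include hbnat hbhom hbone in
theorem bul_affine [GeometricallyConnected K'.hom] (C : Type u) [CommRing C] [Algebra R' C]
    (g : TB k C ⟶ K') (h : TB k C ⟶ Red.DS U M) : bul (TB k C) g h = h := by
  have h1 : PhiG K' bul k C g (chC k h) = chC k h :=
    Ph_eq_self (isNatAct K' bul hbnat hbhom k) C g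
      (fun m => eeG_eq_one K' bul hbnat hbhom hbone k C g m) (chC k h)
  have h2 := pt_PhiG K' bul k C g (chC k h)
  rw [h1, pt_chC] at h2
  exact h2.symm

end Act

section Main

variable {U : Scheme.{u}} (K' : Over U) [GrpObj K'] {M : Type} [AddCommGroup M]
  (bul : ∀ (T' : Over U), (T' ⟶ K') → (T' ⟶ Red.DS U M) → (T' ⟶ Red.DS U M))
  (hbnat : ∀ (T'' T' : Over U) (c : T'' ⟶ T') (g : T' ⟶ K') (h : T' ⟶ Red.DS U M),
    c ≫ bul T' g h = bul T'' (c ≫ g) (c ≫ h))
  (hbhom : ∀ (T' : Over U) (g : T' ⟶ K') (h h' : T' ⟶ Red.DS U M),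
    bul T' g (h * h') = bul T' g h * bul T' g h')
  (hbone : ∀ (T' : Over U) (h : T' ⟶ Red.DS U M), bul T' 1 h = h)

include hbnat hbhom hbone in
/-- **Local theorem.** A geometrically connected group acts trivially on `D_U(M)`. -/
theorem local_conn [GeometricallyConnected K'.hom] (T' : Over U) (g : T' ⟶ K')
    (h : T' ⟶ Red.DS U M) : bul T' g h = h := by
  apply Over.OverMorphism.ext
  apply hom_ext_of_flat_cover
  intro z
  obtain ⟨U', hU', hzU', -⟩ := exists_isAffineOpen_mem_and_subset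
    (x := T'.hom.base z) (U := (⊤ : U.Opens)) trivial
  obtain ⟨N, hN, hzN, hNU'⟩ := exists_isAffineOpen_mem_and_subset
    (x := z) (U := T'.hom ⁻¹ᵁ U') hzU'
  letI : Algebra Γ(U, U') Γ(T'.left, N) := (T'.hom.appLE U' N hNU').hom.toAlgebra
  have hv : hN.fromSpec ≫ T'.hom =
      Spec.map (CommRingCat.ofHom (algebraMap Γ(U, U') Γ(T'.left, N))) ≫ hU'.fromSpec :=
    (hU'.SpecMap_appLE_fromSpec T'.hom hN hNU').symm
  obtain ⟨cN, hcN⟩ : ∃ cN : TB hU'.fromSpec Γ(T'.left, N) ⟶ T', cN.left = hN.fromSpec :=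
    ⟨Over.homMk hN.fromSpec hv, rfl⟩
  refine ⟨Spec Γ(T'.left, N), hN.fromSpec, inferInstance, ?_, ?_⟩
  · rw [hN.range_fromSpec]
    exact hzN
  · have h1 := hbnat _ T' cN g h
    rw [bul_affine K' bul hbnat hbhom hbone hU'.fromSpec Γ(T'.left, N)] at h1
    have h2 := congrArg (fun f => f.left) h1
    simp only [Over.comp_left, hcN] at h2
    exact h2

end Main

end Groth.Agent.Lib.ConnActH4
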