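import Mathlib
import Groth.Prelude.Def_FEt
import Groth.Agent.Lib.FEtFull_helper4
import Groth.Agent.Lib.FEtFaithful_helper4

open AlgebraicGeometry CategoryTheory CategoryTheory.Limits

universe u

namespace Groth.Agent.Lib.FEtCompsH4

theorem finite_connectedComponents (α : Type*) [TopologicalSpace α]
    [TopologicalSpace.NoetherianSpace α] : Finite (ConnectedComponents α) := by
  haveI : Finite ↥(irreducibleComponents α) :=
    (TopologicalSpace.NoetherianSpace.finite_irreducibleComponents (α := α)).to_subtype
  refine Finite.of_surjective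
    (fun C : ↥(irreducibleComponents α) =>
      (ConnectedComponents.mk (C.2.1.1.some) : ConnectedComponents α)) ?_
  intro y
  obtain ⟨x, rfl⟩ := ConnectedComponents.surjective_coe y
  refine ⟨⟨irreducibleComponent x, irreducibleComponent_mem_irreducibleComponents x⟩, ?_⟩
  refine ConnectedComponents.coe_eq_coe'.mpr ?_
  exact (isIrreducible_irreducibleComponent.isConnected.isPreconnected.subset_connectedComponent
    mem_irreducibleComponent) (Set.Nonempty.some_mem _)

theorem isClopen_preimage_mk (α : Type*) [TopologicalSpace α] [Finite (ConnectedComponents α)]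
    (S : Set (ConnectedComponents α)) :
    IsClopen ((ConnectedComponents.mk : α → ConnectedComponents α) ⁻¹' S) := by
  have hcl : ∀ S : Set (ConnectedComponents α),
      IsClosed ((ConnectedComponents.mk : α → ConnectedComponents α) ⁻¹' S) := by
    intro S
    have h1 : (ConnectedComponents.mk : α → ConnectedComponents α) ⁻¹' S =
        ⋃ c ∈ S, (ConnectedComponents.mk : α → ConnectedComponents α) ⁻¹' {c} := by
      ext x
      simp
    rw [h1]
    refine Set.Finite.isClosed_biUnion (Set.toFinite S) (fun c _ => ?_)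
    obtain ⟨x, rfl⟩ := ConnectedComponents.surjective_coe c
    rw [connectedComponents_preimage_singleton]
    exact isClosed_connectedComponent
  refine ⟨hcl S, ?_⟩
  rw [← isClosed_compl_iff, ← Set.preimage_compl]
  exact hcl Sᶜ

theorem exists_clopen_of_components {A B : Type*} [TopologicalSpace A] [TopologicalSpace B]
    [Finite (ConnectedComponents B)] (g : A → B) (hg : Continuous g)
    (hinj : Function.Injective hg.connectedComponentsMap) (V : Set A) (hV : IsClopen V) :
    ∃ U : Set B, IsClopen U ∧ g ⁻¹' U = V := by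
  refine ⟨(ConnectedComponents.mk : B → ConnectedComponents B) ⁻¹'
    (hg.connectedComponentsMap '' ((ConnectedComponents.mk : A → ConnectedComponents A) '' V)),
    isClopen_preimage_mk B _, ?_⟩
  ext t'
  constructor
  · rintro ⟨c, ⟨t, ht, rfl⟩, hc⟩
    have hc' : hg.connectedComponentsMap (ConnectedComponents.mk t) =
        hg.connectedComponentsMap (ConnectedComponents.mk t') :=
      hc.trans (hg.connectedComponentsMap_mk t').symm
    have h2 : t' ∈ connectedComponent t := ConnectedComponents.coe_eq_coe'.mp (hinj hc').symm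
    exact hV.connectedComponent_subset ht h2
  · intro ht'
    exact ⟨ConnectedComponents.mk t', ⟨t', ht', rfl⟩, hg.connectedComponentsMap_mk t'⟩

theorem meets_of_surj {A B : Type*} [TopologicalSpace A] [TopologicalSpace B] (g : A → B)
    (hg : Continuous g) (hsurj : Function.Surjective hg.connectedComponentsMap) (U : Set B)
    (hU : IsClopen U) (hne : U.Nonempty) : ∃ t : A, g t ∈ U := by
  obtain ⟨x, hx⟩ := hne
  obtain ⟨c, hc⟩ := hsurj (ConnectedComponents.mk x)
  obtain ⟨t, rfl⟩ := ConnectedComponents.surjective_coe c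
  rw [hg.connectedComponentsMap_mk] at hc
  exact ⟨t, hU.connectedComponent_subset hx (ConnectedComponents.coe_eq_coe'.mp hc)⟩

theorem hD_of_surj {X X₀ : Scheme.{u}} (i : X₀ ⟶ X) (Y : FEt.Cat X)
    (hs : Function.Surjective Y.hom.base)
    (hsurj : Function.Surjective (pullback.fst Y.hom i).continuous.connectedComponentsMap) :
    ∀ U : Set X, IsOpen U → IsClosed U → U.Nonempty → (U ∩ Set.range i.base).Nonempty := by
  rintro U hUo hUc ⟨x, hx⟩
  obtain ⟨y, rfl⟩ := hs x
  obtain ⟨t, ht⟩ := meets_of_surj _ (pullback.fst Y.hom i).continuous hsurj (Y.hom.base ⁻¹' U)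
    ⟨hUc.preimage Y.hom.continuous, hUo.preimage Y.hom.continuous⟩ ⟨y, hx⟩
  refine ⟨_, ht, (pullback.snd Y.hom i).base t, ?_⟩
  exact (congrArg (fun φ : pullback Y.hom i ⟶ X => φ.base t)
    (pullback.condition (f := Y.hom) (g := i))).symm

theorem main14461 {X X₀ : Scheme.{u}} [IsNoetherian X] (i : X₀ ⟶ X)
    (h : ∀ Y : FEt.Cat X,
      Function.Bijective (pullback.fst Y.hom i).continuous.connectedComponentsMap) :
    (FEt.restrict i).Full ∧ (FEt.restrict i).Faithful := by
  have hD : ∀ U : Set X, IsOpen U → IsClosed U → U.Nonempty →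
      (U ∩ Set.range i.base).Nonempty :=
    hD_of_surj i (MorphismProperty.Over.mk ⊤ (𝟙 X) ⟨inferInstance, inferInstance⟩)
      (fun x => ⟨x, rfl⟩) (h _).2
  have hL : ∀ (W : Scheme.{u}) (c : W ⟶ X) [IsFinite c] [Etale c] (V : Set ↥(pullback c i)),
      IsClopen V → ∃ U : Set W, IsClopen U ∧ (pullback.fst c i).base ⁻¹' U = V := by
    intro W c _ _ V hV
    haveI : IsLocallyNoetherian W := LocallyOfFiniteType.isLocallyNoetherian c
    haveI : CompactSpace W := QuasiCompact.compactSpace_of_compactSpace c
    haveI : IsNoetherian W := {}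
    haveI : Finite (_root_.ConnectedComponents ↥W) := finite_connectedComponents ↥W
    exact exists_clopen_of_components _ (pullback.fst c i).continuous
      (h (MorphismProperty.Over.mk ⊤ c ⟨‹IsFinite c›, ‹Etale c›⟩)).1 V hV
  exact ⟨FEtFullH4.full_of_clopen i hD hL, FEtFaithfulH4.faithful_of_clopen i hD⟩

end Groth.Agent.Lib.FEtCompsH4
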