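import Mathlib
import Groth.Agent.Lib.FEtComps_helper4
import Groth.Agent.Lib.GeomConnPt_helper4

open AlgebraicGeometry CategoryTheory CategoryTheory.Limits

universe u

set_option linter.style.haveILetI false

namespace Groth.Agent.Lib.ConnMiscH4

theorem main5278 {X X' : Scheme.{u}} [ConnectedSpace X] (f : X' ⟶ X) [IsFinite f] [Etale f]
    (x : X) (c : X') : ∃ x' : X', f.base x' = x ∧ x' ∈ connectedComponent c := by
  have hopen : IsOpenMap f.base := f.isOpenMap
  have hclosed : IsClosedMap f.base := f.isClosedMap
  haveI : Finite (_root_.ConnectedComponents ↥X') :=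
    hopen.finite_connectedComponents_of_finite_preimage_singleton_of_connectedSpace hclosed
      (y := x) (Scheme.Hom.finite_preimage_singleton f x)
  have hC : IsClopen (connectedComponent c) := by
    have h1 := FEtCompsH4.isClopen_preimage_mk ↥X' {ConnectedComponents.mk c}
    rwa [connectedComponents_preimage_singleton] at h1
  have himg : IsClopen (f.base '' connectedComponent c) := ⟨hclosed _ hC.1, hopen _ hC.2⟩
  have huniv : f.base '' connectedComponent c = Set.univ :=
    (isClopen_iff.mp himg).resolve_left
      (Set.Nonempty.image _ ⟨c, mem_connectedComponent⟩).ne_empty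
  obtain ⟨x', hx', hfx⟩ : x ∈ f.base '' connectedComponent c := huniv ▸ Set.mem_univ x
  exact ⟨x', hfx, hx'⟩

theorem geomConn_id (S : Scheme.{u}) : GeometricallyConnected (𝟙 S) := by
  refine ⟨geometrically_iff_of_isClosedUnderIsomorphisms.mpr fun K _ y => ?_⟩
  haveI : IsIso (pullback.snd (𝟙 S) y) := inferInstance
  exact Function.Surjective.connectedSpace
    (pullback.snd (𝟙 S) y).homeomorph.symm.surjective
    (pullback.snd (𝟙 S) y).homeomorph.symm.continuous

theorem main5342 (k : Type u) [Field k] (X Y : Scheme.{u})
    (f : X ⟶ Spec (CommRingCat.of k)) (g : Y ⟶ Spec (CommRingCat.of k)) [ConnectedSpace X]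
    [ConnectedSpace Y] (x : Spec (CommRingCat.of k) ⟶ X) (hx : x ≫ f = 𝟙 _) :
    ConnectedSpace ↥(pullback f g) := by
  haveI : GeometricallyConnected (x ≫ f) := by
    rw [hx]
    exact geomConn_id _
  haveI : GeometricallyConnected f := GeomConnPtH4.main2502 x f
  haveI : Subsingleton ↥(Spec (CommRingCat.of k)) :=
    inferInstanceAs (Subsingleton (PrimeSpectrum k))
  haveI : UniversallyOpen f := inferInstance
  infer_instance

end Groth.Agent.Lib.ConnMiscH4
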