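import Mathlib
import Groth.Prelude
import Groth.Agent.Lib.ConnActLoc_helper4
import Groth.Agent.Lib.ConnMisc_helper4

/-!
# A group scheme with connected fibres acts trivially on a group of multiplicative type (helper4)

Global form, by flat descent from the diagonalisable case (`ConnActLoc_helper4`), and the
consequences: a normal subgroup of multiplicative type of a group with connected fibres is central.
-/

set_option autoImplicit false
set_option linter.unusedVariables false
set_option linter.unusedTactic false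
set_option linter.unreachableTactic false
set_option linter.unusedSectionVars false
set_option linter.style.haveILetI false
set_option linter.deprecated false
set_option linter.unusedSimpArgs false
set_option linter.style.longLine false
set_option maxHeartbeats 1600000

universe u

open CategoryTheory CategoryTheory.Limits MonoidalCategory CartesianMonoidalCategory MonObj GrpObj
  AlgebraicGeometry Opposite

namespace Groth.Agent.Lib.ConnActH4

open Groth.Agent.Lib.RedDictH8 Groth.Agent.Lib.DSDict Groth.Agent.Lib.MultGa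
  Groth.Agent.Lib.MultTrivH4

section Adj

variable {S U : Scheme.{u}} (jj : U ⟶ S)

theorem unchk_mul {X : Over S} [GrpObj X] {T' : Over U} (x y : (Over.map jj).obj T' ⟶ X) :
    unchk jj (x * y) = unchk jj x * unchk jj y := by
  calc unchk jj (x * y) = unchk jj (chk jj (unchk jj x) * chk jj (unchk jj y)) := by
        rw [chk_unchk, chk_unchk]
    _ = unchk jj (chk jj (unchk jj x * unchk jj y)) := by rw [chk_mul]
    _ = unchk jj x * unchk jj y := unchk_chk jj _

end Adj

section GC

/-- (lead, `EtaleFixed_lead`) a group scheme with connected fibres is geometrically connected over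
the base. -/
theorem geomConn_of_fibres {S : Scheme.{u}} (G : Over S) [GrpObj G]
    (hconn : ∀ s : S, ConnectedSpace (G.hom.fiber s)) : GeometricallyConnected G.hom := by
  rw [GeometricallyConnected.iff_geometricallyConnected_fiber]
  intro s
  haveI := hconn s
  let u : S ⟶ G.left := (η[G]).left
  have hu : u ≫ G.hom = 𝟙 S := Over.w η[G]
  let e : Spec (S.residueField s) ⟶ G.hom.fiber s :=
    pullback.lift (S.fromSpecResidueField s ≫ u) (𝟙 _) (by
      rw [Category.assoc, hu, Category.comp_id, Category.id_comp])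
  have he : e ≫ G.hom.fiberToSpecResidueField s = 𝟙 _ := pullback.lift_snd _ _ _
  haveI : GeometricallyConnected (e ≫ G.hom.fiberToSpecResidueField s) := by
    rw [he]
    exact Groth.Agent.Lib.ConnMiscH4.geomConn_id _
  exact Groth.Agent.Lib.GeomConnPtH4.main2502 (k := S.residueField s) e
    (G.hom.fiberToSpecResidueField s)

/-- (lead, `ExtProps_lead`) a connected group scheme over a field is geometrically connected. -/
theorem geomConn_grp {k : Type u} [Field k] (N : Over (Spec (CommRingCat.of k))) [GrpObj N]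
    [ConnectedSpace N.left] : GeometricallyConnected N.hom := by
  haveI : Nonempty ↥(𝟙_ (Over (Spec (CommRingCat.of k)))).left := by
    show Nonempty ↥(Spec (CommRingCat.of k))
    infer_instance
  haveI : GeometricallyConnected ((η[N]).left ≫ N.hom) := by
    have e : (η[N]).left ≫ N.hom = 𝟙 (Spec (CommRingCat.of k)) := Over.w η[N]
    rw [e]
    exact Groth.Agent.Lib.ConnMiscH4.geomConn_id _
  exact Groth.Agent.Lib.GeomConnPtH4.main2502 (η[N]).left N.hom

end GC

section Glob

variable {S : Scheme.{u}} {K H : Over S} [GrpObj K] [GrpObj H]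
  (bul : ∀ (T : Over S), (T ⟶ K) → (T ⟶ H) → (T ⟶ H))
  (hnat : ∀ (T' T : Over S) (c : T' ⟶ T) (g : T ⟶ K) (h : T ⟶ H),
    c ≫ bul T g h = bul T' (c ≫ g) (c ≫ h))
  (hhom : ∀ (T : Over S) (g : T ⟶ K) (h h' : T ⟶ H), bul T g (h * h') = bul T g h * bul T g h')
  (hone : ∀ (T : Over S) (h : T ⟶ H), bul T 1 h = h)

include hnat hhom hone in
/-- after a base change trivialising `H`, the action is trivial. -/
theorem local_apply2 [GeometricallyConnected K.hom] {U : Scheme.{u}} (jj : U ⟶ S) {M : Type}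
    [AddCommGroup M] (a1 : Red.bc jj H ⟶ Red.DS U M) (ainv : Red.DS U M ⟶ Red.bc jj H)
    [IsMonHom a1] [IsMonHom ainv] (h1 : a1 ≫ ainv = 𝟙 _) (h2 : ainv ≫ a1 = 𝟙 _)
    (T : Over S) (g : T ⟶ K) (h : T ⟶ H) :
    pullback.fst T.hom jj ≫ (bul T g h).left = pullback.fst T.hom jj ≫ h.left := by
  haveI : GeometricallyConnected (Red.bc jj K).hom := by
    show GeometricallyConnected (pullback.snd K.hom jj)
    infer_instance
  have hloc := local_conn (Red.bc jj K)
    (fun T' g' h' =>
      unchk jj (bul ((Over.map jj).obj T') (chk jj g') (chk jj (h' ≫ ainv))) ≫ a1)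
    (by
      intro T'' T' c g' h'
      have e1 : (Over.map jj).map c ≫ chk jj g' = chk jj (c ≫ g') := (chk_comp jj c g').symm
      have e2 : (Over.map jj).map c ≫ chk jj (h' ≫ ainv) = chk jj ((c ≫ h') ≫ ainv) := by
        rw [Category.assoc]
        exact (chk_comp jj c _).symm
      calc c ≫ unchk jj (bul ((Over.map jj).obj T') (chk jj g') (chk jj (h' ≫ ainv))) ≫ a1
          = (c ≫ unchk jj (bul ((Over.map jj).obj T') (chk jj g') (chk jj (h' ≫ ainv)))) ≫ a1 :=
            (Category.assoc _ _ _).symm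
        _ = unchk jj ((Over.map jj).map c ≫
              bul ((Over.map jj).obj T') (chk jj g') (chk jj (h' ≫ ainv))) ≫ a1 := by
            rw [unchk_comp]
        _ = unchk jj (bul ((Over.map jj).obj T'') ((Over.map jj).map c ≫ chk jj g')
              ((Over.map jj).map c ≫ chk jj (h' ≫ ainv))) ≫ a1 := by rw [hnat]
        _ = unchk jj (bul ((Over.map jj).obj T'') (chk jj (c ≫ g'))
              (chk jj ((c ≫ h') ≫ ainv))) ≫ a1 := by rw [e1, e2])
    (by
      intro T' g' h' h''
      show unchk jj (bul ((Over.map jj).obj T') (chk jj g') (chk jj ((h' * h'') ≫ ainv))) ≫ a1 =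
        (unchk jj (bul ((Over.map jj).obj T') (chk jj g') (chk jj (h' ≫ ainv))) ≫ a1) *
          (unchk jj (bul ((Over.map jj).obj T') (chk jj g') (chk jj (h'' ≫ ainv))) ≫ a1)
      rw [MonObj.mul_comp h' h'' ainv, chk_mul, hhom, unchk_mul, MonObj.mul_comp])
    (by
      intro T' h'
      show unchk jj (bul ((Over.map jj).obj T') (chk jj 1) (chk jj (h' ≫ ainv))) ≫ a1 = h'
      rw [chk_one', hone, unchk_chk, Category.assoc, h2, Category.comp_id])
  obtain ⟨c, hc⟩ : ∃ c : (Over.map jj).obj (Over.mk (pullback.snd T.hom jj)) ⟶ T,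
      c.left = pullback.fst T.hom jj :=
    ⟨Over.homMk (pullback.fst T.hom jj) pullback.condition, rfl⟩
  have h4 := hloc (Over.mk (pullback.snd T.hom jj)) (unchk jj (c ≫ g))
    (unchk jj (c ≫ h) ≫ a1)
  have e3 : (unchk jj (c ≫ h) ≫ a1) ≫ ainv = unchk jj (c ≫ h) := by
    rw [Category.assoc, h1, Category.comp_id]
  have h5 : unchk jj (bul ((Over.map jj).obj (Over.mk (pullback.snd T.hom jj)))
      (chk jj (unchk jj (c ≫ g))) (chk jj ((unchk jj (c ≫ h) ≫ a1) ≫ ainv))) ≫ a1 =
      unchk jj (c ≫ h) ≫ a1 := h4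
  rw [e3, chk_unchk, chk_unchk] at h5
  have h6 : unchk jj (bul ((Over.map jj).obj (Over.mk (pullback.snd T.hom jj))) (c ≫ g) (c ≫ h)) =
      unchk jj (c ≫ h) := by
    have h7 := congrArg (fun x => x ≫ ainv) h5
    simp only [Category.assoc, h1, Category.comp_id] at h7
    exact h7
  have h8 : bul ((Over.map jj).obj (Over.mk (pullback.snd T.hom jj))) (c ≫ g) (c ≫ h) = c ≫ h := by
    have h9 := congrArg (chk jj) h6
    rw [chk_unchk, chk_unchk] at h9
    exact h9
  rw [← hnat] at h8
  have h10 := congrArg (fun f => f.left) h8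
  simp only [Over.comp_left, hc] at h10
  exact h10

include hnat hhom hone in
/-- **Main theorem.** A group scheme with geometrically connected fibres acts trivially (pointwise
action by group homomorphisms) on a group of multiplicative type and of finite type. -/
theorem main_connAct [GeometricallyConnected K.hom] (hH : SGA3x.IsMultTypeFT H)
    (T : Over S) (g : T ⟶ K) (h : T ⟶ H) : bul T g h = h := by
  obtain ⟨S', f, hflat, hsurj, -, hloc⟩ := hH
  haveI := hflat
  apply Over.OverMorphism.ext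
  apply hom_ext_of_flat_cover
  intro y
  obtain ⟨s', hs'⟩ := hsurj.surj (T.hom y)
  obtain ⟨Uo, hs'U, M, instM, -, ⟨e⟩⟩ := hloc s'
  obtain ⟨a1, ainv, ha1, hainv, h1, h2⟩ := Groth.Agent.Lib.DiagHom.iso_data e
  haveI := ha1
  haveI := hainv
  refine ⟨pullback T.hom (Uo.ι ≫ f), pullback.fst T.hom (Uo.ι ≫ f), inferInstance, ?_, ?_⟩
  · obtain ⟨w, hw, _⟩ := Scheme.Pullback.exists_preimage_pullback (f := T.hom) (g := Uo.ι ≫ f)
      y (⟨s', hs'U⟩ : Uo) (by
        first
          | exact hs'.symm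
          | (rw [Scheme.Hom.comp_apply]; exact hs'.symm)
          | (simp; exact hs'.symm))
    exact ⟨w, hw⟩
  · exact local_apply2 bul hnat hhom hone (Uo.ι ≫ f) a1 ainv h1 h2 T g h

end Glob

section Central

variable {S : Scheme.{u}}

/-- A normal subgroup of multiplicative type of a group scheme with geometrically connected fibres
is central. -/
theorem central_of_normal (K H : Over S) [GrpObj K] [GrpObj H] [GeometricallyConnected K.hom]
    (i : H ⟶ K) [IsMonHom i] [Mono i] (hH : SGA3x.IsMultTypeFT H)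
    (hn : AlgGrp.IsNormalHom i) (X : Over S) (k : X ⟶ K) (h : X ⟶ H) :
    k * (h ≫ i) = (h ≫ i) * k := by
  choose cj hcj using hn
  have key := main_connAct (K := K) (H := H) cj
    (by
      intro T' T c g h
      rw [← cancel_mono i, Category.assoc, ← hcj, ← hcj, MonObj.comp_mul, MonObj.comp_mul,
        GrpObj.comp_inv, Category.assoc])
    (by
      intro T g h h'
      rw [← cancel_mono i, ← hcj, MonObj.mul_comp, MonObj.mul_comp, ← hcj, ← hcj]
      group)
    (by
      intro T h
      rw [← cancel_mono i, ← hcj]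
      group)
    hH X k h
  have h2 := hcj X k h
  rw [key] at h2
  calc k * (h ≫ i) = (k * (h ≫ i) * k⁻¹) * k := by group
    _ = (h ≫ i) * k := by rw [h2]

/-- S5255. -/
theorem main5255 (K H : Over S) [GrpObj K] [GrpObj H]
    (hconn : ∀ s : S, ConnectedSpace ↥(Limits.pullback K.hom (S.fromSpecResidueField s)))
    (i : H ⟶ K) [IsMonHom i] [Mono i] (hH : SGA3x.IsMultTypeFT H)
    (hn : AlgGrp.IsNormalHom i) :
    ∀ (X : Over S) (k : X ⟶ K) (h : X ⟶ H), k * (h ≫ i) = (h ≫ i) * k := by
  haveI : GeometricallyConnected K.hom := geomConn_of_fibres K hconn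
  exact central_of_normal K H i hH hn

/-- S8027. -/
theorem main8027 (k : Type u) [Field k] (G H : Over (Spec (CommRingCat.of k))) [GrpObj G]
    [GrpObj H] [ConnectedSpace G.left] (a : AlgGrp.Action G H)
    (hhom : ∀ (T : Over (Spec (CommRingCat.of k))) (g : T ⟶ G) (h h' : T ⟶ H),
      lift g (h * h') ≫ a.act = (lift g h ≫ a.act) * (lift g h' ≫ a.act))
    (hH : SGA3x.IsMultTypeFT H) (T : Over (Spec (CommRingCat.of k))) (g : T ⟶ G) (h : T ⟶ H) :
    lift g h ≫ a.act = h := by
  haveI : GeometricallyConnected G.hom := geomConn_grp G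
  exact main_connAct (K := G) (H := H) (fun T g h => sm a g h)
    (fun T' T c g h => sm_comp a c g h) (fun T g h h' => hhom T g h h')
    (fun T h => sm_one a h) hH T g h

/-- S8210. -/
theorem main8210 (k : Type u) [Field k] (G : Over (Spec (CommRingCat.of k))) [GrpObj G]
    [ConnectedSpace ↥G.left] (N : Over (Spec (CommRingCat.of k))) [GrpObj N] (iN : N ⟶ G)
    [IsMonHom iN] [Mono iN] (hN : AlgGrp.IsNormalHom iN)
    (Z : Over (Spec (CommRingCat.of k))) [GrpObj Z] (j : Z ⟶ N) (hZ : Red.IsCentre j)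
    (hmult : SGA3x.IsMultTypeFT Z)
    (X : Over (Spec (CommRingCat.of k))) (z : X ⟶ Z) (X' : Over (Spec (CommRingCat.of k)))
    (x : X' ⟶ X) (g : X' ⟶ G) :
    (x ≫ z ≫ j ≫ iN) * g = g * (x ≫ z ≫ j ≫ iN) := by
  haveI : GeometricallyConnected G.hom := geomConn_grp G
  obtain ⟨hjm, hjmono, hjc⟩ := hZ
  haveI := hjm
  haveI := hjmono
  have hnorm : AlgGrp.IsNormalHom (j ≫ iN) := by
    intro T g z
    obtain ⟨n', hn'⟩ := hN T g (z ≫ j)
    have hcent : ∀ (X' : Over (Spec (CommRingCat.of k))) (x : X' ⟶ T) (h : X' ⟶ N),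
        (x ≫ n') * (h ≫ 𝟙 N) = (h ≫ 𝟙 N) * (x ≫ n') := by
      intro X' x h
      rw [Category.comp_id, ← cancel_mono iN, MonObj.mul_comp, MonObj.mul_comp, Category.assoc,
        ← hn']
      obtain ⟨h'', hh''⟩ := hN X' (x ≫ g)⁻¹ h
      have hzc : (x ≫ z ≫ j) * h'' = h'' * (x ≫ z ≫ j) := by
        have h3 := (hjc X' (x ≫ z ≫ j)).mp ⟨x ≫ z, Category.assoc _ _ _⟩ X' (𝟙 X') h''
        rw [Category.id_comp, Category.comp_id] at h3
        exact h3
      have hzc' : ((x ≫ z ≫ j) ≫ iN) * (h'' ≫ iN) = (h'' ≫ iN) * ((x ≫ z ≫ j) ≫ iN) := by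
        rw [← MonObj.mul_comp, ← MonObj.mul_comp, hzc]
      have hh : h ≫ iN = (x ≫ g) * (h'' ≫ iN) * (x ≫ g)⁻¹ := by
        rw [← hh'']
        group
      have hx : x ≫ (g * ((z ≫ j) ≫ iN) * g⁻¹) =
          (x ≫ g) * ((x ≫ z ≫ j) ≫ iN) * (x ≫ g)⁻¹ := by
        rw [MonObj.comp_mul, MonObj.comp_mul, GrpObj.comp_inv]
        simp only [Category.assoc]
      rw [hx, hh]
      calc (x ≫ g) * ((x ≫ z ≫ j) ≫ iN) * (x ≫ g)⁻¹ * ((x ≫ g) * (h'' ≫ iN) * (x ≫ g)⁻¹)
          = (x ≫ g) * (((x ≫ z ≫ j) ≫ iN) * (h'' ≫ iN)) * (x ≫ g)⁻¹ := by group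
        _ = (x ≫ g) * ((h'' ≫ iN) * ((x ≫ z ≫ j) ≫ iN)) * (x ≫ g)⁻¹ := by rw [hzc']
        _ = (x ≫ g) * (h'' ≫ iN) * (x ≫ g)⁻¹ * ((x ≫ g) * ((x ≫ z ≫ j) ≫ iN) * (x ≫ g)⁻¹) := by
            group
    obtain ⟨z', hz'⟩ := (hjc T n').mpr hcent
    refine ⟨z', ?_⟩
    rw [← Category.assoc z' j iN, hz', ← hn', Category.assoc]
  have key := central_of_normal G Z (j ≫ iN) hmult hnorm X' g (x ≫ z)
  have e : (x ≫ z) ≫ j ≫ iN = x ≫ z ≫ j ≫ iN := Category.assoc _ _ _
  rw [e] at key
  exact key.symm

end Central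

end Groth.Agent.Lib.ConnActH4
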