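import Mathlib
import Groth.Prelude
import Groth.Agent.Lib.ConnActLoc_helper4

/-!
# A group acting on a diagonalisable group through a connected quotient acts trivially
(local form, helper4)

Generalisation of `ConnActLoc_helper4`: `K'` acts on `D_U(M)`, the action is constant along the
fibres of a surjective flat quasi-compact morphism `p' : K' ⟶ Q'` with `Q'` geometrically connected
over `U`.  Then the action is trivial.
-/

set_option autoImplicit false
set_option linter.unusedVariables false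
set_option linter.unusedTactic false
set_option linter.unreachableTactic false
set_option linter.unusedSectionVars false
set_option linter.style.haveILetI false
set_option linter.deprecated false
set_option linter.unusedSimpArgs false
set_option linter.style.longLine false
set_option maxHeartbeats 1600000

universe u

open CategoryTheory CategoryTheory.Limits MonoidalCategory CartesianMonoidalCategory MonObj GrpObj
  AlgebraicGeometry Opposite

namespace Groth.Agent.Lib.ConnActH4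

open Groth.Agent.Lib.RedDictH8 Groth.Agent.Lib.DSDict Groth.Agent.Lib.MultGa
  Groth.Agent.Lib.MultTrivH4

section GenQ

/-- every point of a scheme is the image of a field-valued point. -/
theorem exists_field_point (P : Scheme.{u}) (ω : P) :
    ∃ (Ω : Type u) (_ : Field Ω) (o : Spec (CommRingCat.of Ω) ⟶ P), True :=
  ⟨P.residueField ω, inferInstance, P.fromSpecResidueField ω, trivial⟩

end GenQ

section ActQ

variable {U : Scheme.{u}} (K' : Over U) [GrpObj K'] {M : Type} [AddCommGroup M]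
  (bul : ∀ (T' : Over U), (T' ⟶ K') → (T' ⟶ Red.DS U M) → (T' ⟶ Red.DS U M))
  (hbnat : ∀ (T'' T' : Over U) (c : T'' ⟶ T') (g : T' ⟶ K') (h : T' ⟶ Red.DS U M),
    c ≫ bul T' g h = bul T'' (c ≫ g) (c ≫ h))
  (hbhom : ∀ (T' : Over U) (g : T' ⟶ K') (h h' : T' ⟶ Red.DS U M),
    bul T' g (h * h') = bul T' g h * bul T' g h')
  (hbone : ∀ (T' : Over U) (h : T' ⟶ Red.DS U M), bul T' 1 h = h)
  (Q' : Over U) (p' : K' ⟶ Q')
  (hconst : ∀ (T' : Over U) (g₁ g₂ : T' ⟶ K'), g₁ ≫ p' = g₂ ≫ p' →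
    ∀ h : T' ⟶ Red.DS U M, bul T' g₁ h = bul T' g₂ h)
  {R' : Type u} [CommRing R'] (k : Spec (CommRingCat.of R') ⟶ U)

include hconst in
theorem eeG_congr {C : Type u} [CommRing C] [Algebra R' C] (g₁ g₂ : TB k C ⟶ K')
    (hg : g₁ ≫ p' = g₂ ≫ p') (m m' : Multiplicative M) :
    eeG K' bul k C g₁ m m' = eeG K' bul k C g₂ m m' := by
  have h1 : ∀ h : TB k (MonoidAlgebra C (Multiplicative M)) ⟶ Red.DS U M,
      bul (TB k (MonoidAlgebra C (Multiplicative M)))
        (specOver k (MonoidAlgebra.singleOneAlgHom :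
          C →ₐ[R'] MonoidAlgebra C (Multiplicative M)) ≫ g₁) h =
      bul (TB k (MonoidAlgebra C (Multiplicative M)))
        (specOver k (MonoidAlgebra.singleOneAlgHom :
          C →ₐ[R'] MonoidAlgebra C (Multiplicative M)) ≫ g₂) h :=
    fun h => hconst _ _ _ (by rw [Category.assoc, Category.assoc, hg]) h
  show ((chC k (bul (TB k (MonoidAlgebra C (Multiplicative M)))
      (specOver k (MonoidAlgebra.singleOneAlgHom :
        C →ₐ[R'] MonoidAlgebra C (Multiplicative M)) ≫ g₁)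
      (pt k (MonoidAlgebra.of C (Multiplicative M))))) m).coeff m' =
    ((chC k (bul (TB k (MonoidAlgebra C (Multiplicative M)))
      (specOver k (MonoidAlgebra.singleOneAlgHom :
        C →ₐ[R'] MonoidAlgebra C (Multiplicative M)) ≫ g₂)
      (pt k (MonoidAlgebra.of C (Multiplicative M))))) m).coeff m'
  rw [h1]

/-- the map induced on fibres by `p'`. -/
noncomputable def pF (F : Type u) [CommRing F] [Algebra R' F] : fib K' k F ⟶ fib Q' k F :=
  pullback.lift (pullback.fst K'.hom (TB k F).hom ≫ p'.left) (pullback.snd K'.hom (TB k F).hom)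
    (by
      rw [Category.assoc, Over.w p']
      exact pullback.condition)

theorem pF_fst (F : Type u) [CommRing F] [Algebra R' F] :
    pF K' Q' p' k F ≫ pullback.fst Q'.hom (TB k F).hom = fib1 K' k F ≫ p'.left :=
  pullback.lift_fst _ _ _

theorem pF_snd (F : Type u) [CommRing F] [Algebra R' F] :
    pF K' Q' p' k F ≫ pullback.snd Q'.hom (TB k F).hom = fib2 K' k F :=
  pullback.lift_snd _ _ _

theorem pF_surjective (F : Type u) [CommRing F] [Algebra R' F] [Surjective p'.left] :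
    Surjective (pF K' Q' p' k F) :=
  MorphismProperty.pullbackLift_fst_snd (P := @Surjective) (TB k F).hom (Over.w p').symm
    inferInstance

theorem pF_flat (F : Type u) [CommRing F] [Algebra R' F] [Flat p'.left] :
    Flat (pF K' Q' p' k F) :=
  MorphismProperty.pullbackLift_fst_snd (P := @Flat) (TB k F).hom (Over.w p').symm
    inferInstance

theorem pF_quasiCompact (F : Type u) [CommRing F] [Algebra R' F] [QuasiCompact p'.left] :
    QuasiCompact (pF K' Q' p' k F) :=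
  MorphismProperty.pullbackLift_fst_snd (P := @QuasiCompact) (TB k F).hom (Over.w p').symm
    inferInstance

include hbnat hbhom hconst in
/-- two field-valued points of the fibre of `K'` with the same image in the fibre of `Q'` have the
same diagonal coefficient. -/
theorem val_of_pF_eq (F : Type u) [CommRing F] [Algebra R' F] (m : Multiplicative M)
    (w₁ w₂ : Wit K' k F)
    (hq : pF K' Q' p' k F (w₁.pnt K' k) = pF K' Q' p' k F (w₂.pnt K' k))
    (h1 : w₁.val K' bul k m = 1) : w₂.val K' bul k m = 1 := by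
  classical
  have hq' : (w₁.t ≫ pF K' Q' p' k F) w₁.z = (w₂.t ≫ pF K' Q' p' k F) w₂.z := by
    rw [Scheme.Hom.comp_apply, Scheme.Hom.comp_apply]
    exact hq
  obtain ⟨ω, -, -⟩ := Scheme.Pullback.exists_preimage_pullback (f := w₁.t ≫ pF K' Q' p' k F)
    (g := w₂.t ≫ pF K' Q' p' k F) w₁.z w₂.z hq'
  obtain ⟨Ω, instΩ, o, -⟩ := exists_field_point _ ω
  obtain ⟨b₁, hb₁⟩ : ∃ b₁ : Spec (CommRingCat.of Ω) ⟶ Spec (CommRingCat.of w₁.L),
      b₁ = o ≫ pullback.fst (w₁.t ≫ pF K' Q' p' k F) (w₂.t ≫ pF K' Q' p' k F) := ⟨_, rfl⟩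
  obtain ⟨b₂, hb₂⟩ : ∃ b₂ : Spec (CommRingCat.of Ω) ⟶ Spec (CommRingCat.of w₂.L),
      b₂ = o ≫ pullback.snd (w₁.t ≫ pF K' Q' p' k F) (w₂.t ≫ pF K' Q' p' k F) := ⟨_, rfl⟩
  have hcond : b₁ ≫ w₁.t ≫ pF K' Q' p' k F = b₂ ≫ w₂.t ≫ pF K' Q' p' k F := by
    rw [hb₁, hb₂, Category.assoc, Category.assoc, pullback.condition]
  obtain ⟨β₁, hβ₁⟩ : ∃ β₁ : CommRingCat.of w₁.L ⟶ CommRingCat.of Ω, Spec.map β₁ = b₁ :=
    ⟨Spec.preimage b₁, Spec.map_preimage b₁⟩
  obtain ⟨β₂, hβ₂⟩ : ∃ β₂ : CommRingCat.of w₂.L ⟶ CommRingCat.of Ω, Spec.map β₂ = b₂ :=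
    ⟨Spec.preimage b₂, Spec.map_preimage b₂⟩
  letI algΩ : Algebra R' Ω := (β₁.hom.comp (algebraMap R' w₁.L)).toAlgebra
  have hcomm₂ : CommRingCat.ofHom (algebraMap R' w₂.L) ≫ β₂ =
      CommRingCat.ofHom (algebraMap R' w₁.L) ≫ β₁ := by
    apply Spec.map_injective
    calc Spec.map (CommRingCat.ofHom (algebraMap R' w₂.L) ≫ β₂)
        = b₂ ≫ Spec.map (CommRingCat.ofHom (algebraMap R' w₂.L)) := by
          rw [Spec.map_comp, hβ₂]
      _ = b₂ ≫ w₂.t ≫ fib2 K' k F ≫ Spec.map (CommRingCat.ofHom (algebraMap R' F)) := by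
          rw [w₂.ht]
      _ = (b₂ ≫ w₂.t ≫ pF K' Q' p' k F) ≫ pullback.snd Q'.hom (TB k F).hom ≫
            Spec.map (CommRingCat.ofHom (algebraMap R' F)) := by
          rw [← pF_snd K' Q' p' k F]
          simp only [Category.assoc]
      _ = (b₁ ≫ w₁.t ≫ pF K' Q' p' k F) ≫ pullback.snd Q'.hom (TB k F).hom ≫
            Spec.map (CommRingCat.ofHom (algebraMap R' F)) := by rw [hcond]
      _ = b₁ ≫ w₁.t ≫ fib2 K' k F ≫ Spec.map (CommRingCat.ofHom (algebraMap R' F)) := by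
          rw [← pF_snd K' Q' p' k F]
          simp only [Category.assoc]
      _ = b₁ ≫ Spec.map (CommRingCat.ofHom (algebraMap R' w₁.L)) := by rw [w₁.ht]
      _ = Spec.map (CommRingCat.ofHom (algebraMap R' w₁.L) ≫ β₁) := by
          rw [Spec.map_comp, hβ₁]
  obtain ⟨θ₁, hθ₁⟩ : ∃ θ₁ : w₁.L →ₐ[R'] Ω, θ₁.toRingHom = β₁.hom :=
    ⟨{ toRingHom := β₁.hom
       commutes' := fun r => rfl }, rfl⟩
  obtain ⟨θ₂, hθ₂⟩ : ∃ θ₂ : w₂.L →ₐ[R'] Ω, θ₂.toRingHom = β₂.hom :=
    ⟨{ toRingHom := β₂.hom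
       commutes' := fun r => congrArg (fun f => f.hom r) hcomm₂ }, rfl⟩
  have hθ₁l : Spec.map (CommRingCat.ofHom θ₁.toRingHom) = b₁ := by
    rw [hθ₁]
    exact hβ₁
  have hθ₂l : Spec.map (CommRingCat.ofHom θ₂.toRingHom) = b₂ := by
    rw [hθ₂]
    exact hβ₂
  have hpp : (specOver k θ₁ ≫ fibPt K' k F w₁.t w₁.ht) ≫ p' =
      (specOver k θ₂ ≫ fibPt K' k F w₂.t w₂.ht) ≫ p' := by
    apply Over.OverMorphism.ext
    show (Spec.map (CommRingCat.ofHom θ₁.toRingHom) ≫ w₁.t ≫ fib1 K' k F) ≫ p'.left =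
      (Spec.map (CommRingCat.ofHom θ₂.toRingHom) ≫ w₂.t ≫ fib1 K' k F) ≫ p'.left
    rw [hθ₁l, hθ₂l]
    calc (b₁ ≫ w₁.t ≫ fib1 K' k F) ≫ p'.left
        = (b₁ ≫ w₁.t ≫ pF K' Q' p' k F) ≫ pullback.fst Q'.hom (TB k F).hom := by
          simp only [Category.assoc, pF_fst]
      _ = (b₂ ≫ w₂.t ≫ pF K' Q' p' k F) ≫ pullback.fst Q'.hom (TB k F).hom := by rw [hcond]
      _ = (b₂ ≫ w₂.t ≫ fib1 K' k F) ≫ p'.left := by
          simp only [Category.assoc, pF_fst]
  have hee : eeG K' bul k Ω (specOver k θ₁ ≫ fibPt K' k F w₁.t w₁.ht) m m =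
      eeG K' bul k Ω (specOver k θ₂ ≫ fibPt K' k F w₂.t w₂.ht) m m :=
    eeG_congr K' bul Q' p' hconst k _ _ hpp m m
  rw [eeG_nat K' bul hbnat hbhom k θ₁, eeG_nat K' bul hbnat hbhom k θ₂] at hee
  have h1' : eeG K' bul k w₁.L (fibPt K' k F w₁.t w₁.ht) m m = 1 := h1
  rw [h1', map_one] at hee
  rcases w₂.val_01 K' bul hbnat hbhom k m with h0 | h1''
  · exfalso
    have h0' : eeG K' bul k w₂.L (fibPt K' k F w₂.t w₂.ht) m m = 0 := h0
    rw [h0', map_zero] at hee
    exact one_ne_zero hee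
  · exact h1''

include hbnat hbhom hconst in
/-- The diagonal coefficient is constant on the field-valued points of a fibre. -/
theorem fibre_constQ [Surjective p'.left] [Flat p'.left] [QuasiCompact p'.left]
    [GeometricallyConnected Q'.hom] (F : Type u) [Field F] [Algebra R' F]
    (g₁ g₂ : TB k F ⟶ K') (m : Multiplicative M)
    (h1 : eeG K' bul k F g₁ m m = 1) : eeG K' bul k F g₂ m m = 1 := by
  classical
  haveI : ConnectedSpace ↥(fib Q' k F) :=
    pullback_of_geometrically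
      (GeometricallyConnected.geometrically_connectedSpace (f := Q'.hom)) F (TB k F).hom
  haveI : Surjective (pF K' Q' p' k F) := pF_surjective K' Q' p' k F
  haveI : Flat (pF K' Q' p' k F) := pF_flat K' Q' p' k F
  haveI : QuasiCompact (pF K' Q' p' k F) := pF_quasiCompact K' Q' p' k F
  have hquot := Flat.isQuotientMap_of_surjective (pF K' Q' p' k F)
  -- local structure
  have hloc : ∀ y : ↥(fib K' k F), ∃ (V N₁ N₀ : (fib K' k F).Opens), y ∈ V ∧
      ∀ w : Wit K' k F, w.pnt K' k ∈ V →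
        ((w.val K' bul k m = 1 ↔ w.pnt K' k ∈ N₁) ∧
          (w.val K' bul k m = 0 ↔ w.pnt K' k ∈ N₀)) := by
    intro y
    obtain ⟨V, hV, hyV, -⟩ := exists_isAffineOpen_mem_and_subset (x := y)
      (U := (⊤ : (fib K' k F).Opens)) trivial
    obtain ⟨N₁, N₀, hN⟩ := chart K' bul hbnat hbhom k F m V hV
    exact ⟨V, N₁, N₀, hyV, hN⟩
  obtain ⟨A, hA⟩ : ∃ A : Set ↥(fib K' k F),
      A = {y | ∃ w : Wit K' k F, w.pnt K' k = y ∧ w.val K' bul k m = 1} := ⟨_, rfl⟩
  obtain ⟨B, hB⟩ : ∃ B : Set ↥(fib K' k F),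
      B = {y | ∃ w : Wit K' k F, w.pnt K' k = y ∧ w.val K' bul k m = 0} := ⟨_, rfl⟩
  have hAopen : IsOpen A := by
    rw [isOpen_iff_forall_mem_open]
    intro y hy
    rw [hA] at hy
    obtain ⟨w, hwy, hw1⟩ := hy
    obtain ⟨V, N₁, N₀, hyV, hN⟩ := hloc y
    have hwV : w.pnt K' k ∈ V := by rw [hwy]; exact hyV
    have hyN : y ∈ N₁ := by
      rw [← hwy]
      exact ((hN w hwV).1).mp hw1
    refine ⟨(N₁ ⊓ V : (fib K' k F).Opens), ?_, (N₁ ⊓ V).2, ⟨hyN, hyV⟩⟩
    rintro y' ⟨hy'N, hy'V⟩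
    obtain ⟨w', hw'⟩ := exists_wit K' k F y'
    rw [hA]
    refine ⟨w', hw', ?_⟩
    have hw'V : w'.pnt K' k ∈ V := by rw [hw']; exact hy'V
    exact ((hN w' hw'V).1).mpr (by rw [hw']; exact hy'N)
  have hBopen : IsOpen B := by
    rw [isOpen_iff_forall_mem_open]
    intro y hy
    rw [hB] at hy
    obtain ⟨w, hwy, hw0⟩ := hy
    obtain ⟨V, N₁, N₀, hyV, hN⟩ := hloc y
    have hwV : w.pnt K' k ∈ V := by rw [hwy]; exact hyV
    have hyN : y ∈ N₀ := by
      rw [← hwy]
      exact ((hN w hwV).2).mp hw0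
    refine ⟨(N₀ ⊓ V : (fib K' k F).Opens), ?_, (N₀ ⊓ V).2, ⟨hyN, hyV⟩⟩
    rintro y' ⟨hy'N, hy'V⟩
    obtain ⟨w', hw'⟩ := exists_wit K' k F y'
    rw [hB]
    refine ⟨w', hw', ?_⟩
    have hw'V : w'.pnt K' k ∈ V := by rw [hw']; exact hy'V
    exact ((hN w' hw'V).2).mpr (by rw [hw']; exact hy'N)
  -- saturation
  have hsat : ∀ w w' : Wit K' k F,
      pF K' Q' p' k F (w.pnt K' k) = pF K' Q' p' k F (w'.pnt K' k) →
      w.val K' bul k m = 1 → w'.val K' bul k m = 1 :=
    fun w w' hq h => val_of_pF_eq K' bul hbnat hbhom Q' p' hconst k F m w w' hq h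
  obtain ⟨A', hA'⟩ : ∃ A' : Set ↥(fib Q' k F),
      A' = {q | ∃ w : Wit K' k F, pF K' Q' p' k F (w.pnt K' k) = q ∧ w.val K' bul k m = 1} :=
    ⟨_, rfl⟩
  obtain ⟨B', hB'⟩ : ∃ B' : Set ↥(fib Q' k F),
      B' = {q | ∃ w : Wit K' k F, pF K' Q' p' k F (w.pnt K' k) = q ∧ w.val K' bul k m = 0} :=
    ⟨_, rfl⟩
  have hpreA : (pF K' Q' p' k F) ⁻¹' A' = A := by
    ext y
    constructor
    · intro hy
      have hy' : pF K' Q' p' k F y ∈ A' := hy
      rw [hA'] at hy'
      obtain ⟨w, hwq, hw1⟩ := hy'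
      obtain ⟨wy, hwy⟩ := exists_wit K' k F y
      rw [hA]
      refine ⟨wy, hwy, hsat w wy ?_ hw1⟩
      rw [hwq, hwy]
    · intro hy
      rw [hA] at hy
      obtain ⟨w, hwy, hw1⟩ := hy
      show pF K' Q' p' k F y ∈ A'
      rw [hA']
      exact ⟨w, by rw [hwy], hw1⟩
  have hpreB : (pF K' Q' p' k F) ⁻¹' B' = B := by
    ext y
    constructor
    · intro hy
      have hy' : pF K' Q' p' k F y ∈ B' := hy
      rw [hB'] at hy'
      obtain ⟨w, hwq, hw0⟩ := hy'
      obtain ⟨wy, hwy⟩ := exists_wit K' k F y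
      rw [hB]
      refine ⟨wy, hwy, ?_⟩
      rcases wy.val_01 K' bul hbnat hbhom k m with h0 | h1'
      · exact h0
      · exfalso
        have h2 := hsat wy w (by rw [hwq, hwy]) h1'
        rw [hw0] at h2
        exact zero_ne_one h2
    · intro hy
      rw [hB] at hy
      obtain ⟨w, hwy, hw0⟩ := hy
      show pF K' Q' p' k F y ∈ B'
      rw [hB']
      exact ⟨w, by rw [hwy], hw0⟩
  have hA'open : IsOpen A' := by
    have h := hquot.isOpen_preimage (s := A')
    have h2 : IsOpen ((pF K' Q' p' k F) ⁻¹' A') := by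
      rw [hpreA]
      exact hAopen
    exact h.mp h2
  have hB'open : IsOpen B' := by
    have h := hquot.isOpen_preimage (s := B')
    have h2 : IsOpen ((pF K' Q' p' k F) ⁻¹' B') := by
      rw [hpreB]
      exact hBopen
    exact h.mp h2
  have hdisj' : ∀ q, q ∈ A' → q ∈ B' → False := by
    intro q hqA hqB
    rw [hA'] at hqA
    rw [hB'] at hqB
    obtain ⟨w, hwq, hw1⟩ := hqA
    obtain ⟨w', hw'q, hw'0⟩ := hqB
    have h2 := hsat w w' (by rw [hwq, hw'q]) hw1
    rw [hw'0] at h2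
    exact zero_ne_one h2
  have hcover' : ∀ q, q ∈ A' ∨ q ∈ B' := by
    intro q
    obtain ⟨y, hy⟩ := (pF K' Q' p' k F).surjective q
    obtain ⟨w, hw⟩ := exists_wit K' k F y
    rcases w.val_01 K' bul hbnat hbhom k m with h0 | h1'
    · right
      rw [hB']
      exact ⟨w, by rw [hw]; exact hy, h0⟩
    · left
      rw [hA']
      exact ⟨w, by rw [hw]; exact hy, h1'⟩
  have hAc' : A'ᶜ = B' := by
    ext q
    constructor
    · intro hq
      rcases hcover' q with h | h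
      · exact absurd h hq
      · exact h
    · intro hq hqA
      exact hdisj' q hqA hq
  have hA'clopen : IsClopen A' := ⟨by rw [← isOpen_compl_iff, hAc']; exact hB'open, hA'open⟩
  -- the two sections
  obtain ⟨w₁, hw₁⟩ : ∃ w₁ : Wit K' k F,
      w₁ = Wit.mk F (secOf K' k F g₁) (secOf_ht K' k F g₁) default := ⟨_, rfl⟩
  have hv₁ : w₁.val K' bul k m = 1 := by
    rw [hw₁]
    show eeG K' bul k F (fibPt K' k F (secOf K' k F g₁) (secOf_ht K' k F g₁)) m m = 1
    rw [fibPt_secOf]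
    exact h1
  have hmemA' : pF K' Q' p' k F (w₁.pnt K' k) ∈ A' := by
    rw [hA']
    exact ⟨w₁, rfl, hv₁⟩
  have hA'univ : A' = Set.univ := (isClopen_iff.mp hA'clopen).resolve_left
    (Set.Nonempty.ne_empty ⟨_, hmemA'⟩)
  have key : ∀ w : Wit K' k F, w.val K' bul k m = 1 := by
    intro w
    rcases w.val_01 K' bul hbnat hbhom k m with h0 | h1'
    · exfalso
      have hmemB : pF K' Q' p' k F (w.pnt K' k) ∈ B' := by
        rw [hB']
        exact ⟨w, rfl, h0⟩
      have hmemA₂ : pF K' Q' p' k F (w.pnt K' k) ∈ A' := by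
        rw [hA'univ]
        exact Set.mem_univ _
      exact hdisj' _ hmemA₂ hmemB
    · exact h1'
  have h2 := key (Wit.mk F (secOf K' k F g₂) (secOf_ht K' k F g₂) default)
  have h3 : eeG K' bul k F (fibPt K' k F (secOf K' k F g₂) (secOf_ht K' k F g₂)) m m = 1 := h2
  rw [fibPt_secOf] at h3
  exact h3

/-! ### The local theorem -/

include hbnat hbhom hbone hconst in
theorem eeG_eq_oneQ [Surjective p'.left] [Flat p'.left] [QuasiCompact p'.left]
    [GeometricallyConnected Q'.hom] (C : Type u) [CommRing C] [Algebra R' C]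
    (g : TB k C ⟶ K') (m : Multiplicative M) : eeG K' bul k C g m m = 1 :=
  ee_eq_one_of_fields (isNatAct K' bul hbnat hbhom k)
    (fun F _ _ g m => fibre_constQ K' bul hbnat hbhom Q' p' hconst k F 1 g m
      (eeG_one K' bul hbone k m)) C g m

include hbnat hbhom hbone hconst in
theorem bul_affineQ [Surjective p'.left] [Flat p'.left] [QuasiCompact p'.left]
    [GeometricallyConnected Q'.hom] (C : Type u) [CommRing C] [Algebra R' C]
    (g : TB k C ⟶ K') (h : TB k C ⟶ Red.DS U M) : bul (TB k C) g h = h := by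
  have h1 : PhiG K' bul k C g (chC k h) = chC k h :=
    Ph_eq_self (isNatAct K' bul hbnat hbhom k) C g
      (fun m => eeG_eq_oneQ K' bul hbnat hbhom hbone Q' p' hconst k C g m) (chC k h)
  have h2 := pt_PhiG K' bul k C g (chC k h)
  rw [h1, pt_chC] at h2
  exact h2.symm

end ActQ

section MainQ

variable {U : Scheme.{u}} (K' : Over U) [GrpObj K'] {M : Type} [AddCommGroup M]
  (bul : ∀ (T' : Over U), (T' ⟶ K') → (T' ⟶ Red.DS U M) → (T' ⟶ Red.DS U M))
  (hbnat : ∀ (T'' T' : Over U) (c : T'' ⟶ T') (g : T' ⟶ K') (h : T' ⟶ Red.DS U M),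
    c ≫ bul T' g h = bul T'' (c ≫ g) (c ≫ h))
  (hbhom : ∀ (T' : Over U) (g : T' ⟶ K') (h h' : T' ⟶ Red.DS U M),
    bul T' g (h * h') = bul T' g h * bul T' g h')
  (hbone : ∀ (T' : Over U) (h : T' ⟶ Red.DS U M), bul T' 1 h = h)
  (Q' : Over U) (p' : K' ⟶ Q')
  (hconst : ∀ (T' : Over U) (g₁ g₂ : T' ⟶ K'), g₁ ≫ p' = g₂ ≫ p' →
    ∀ h : T' ⟶ Red.DS U M, bul T' g₁ h = bul T' g₂ h)

include hbnat hbhom hbone hconst in
/-- **Local theorem, quotient form.** -/
theorem local_connQ [Surjective p'.left] [Flat p'.left] [QuasiCompact p'.left]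
    [GeometricallyConnected Q'.hom] (T' : Over U) (g : T' ⟶ K')
    (h : T' ⟶ Red.DS U M) : bul T' g h = h := by
  apply Over.OverMorphism.ext
  apply hom_ext_of_flat_cover
  intro z
  obtain ⟨U', hU', hzU', -⟩ := exists_isAffineOpen_mem_and_subset
    (x := T'.hom.base z) (U := (⊤ : U.Opens)) trivial
  obtain ⟨N, hN, hzN, hNU'⟩ := exists_isAffineOpen_mem_and_subset
    (x := z) (U := T'.hom ⁻¹ᵁ U') hzU'
  letI : Algebra Γ(U, U') Γ(T'.left, N) := (T'.hom.appLE U' N hNU').hom.toAlgebra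
  have hv : hN.fromSpec ≫ T'.hom =
      Spec.map (CommRingCat.ofHom (algebraMap Γ(U, U') Γ(T'.left, N))) ≫ hU'.fromSpec :=
    (hU'.SpecMap_appLE_fromSpec T'.hom hN hNU').symm
  obtain ⟨cN, hcN⟩ : ∃ cN : TB hU'.fromSpec Γ(T'.left, N) ⟶ T', cN.left = hN.fromSpec :=
    ⟨Over.homMk hN.fromSpec hv, rfl⟩
  refine ⟨Spec Γ(T'.left, N), hN.fromSpec, inferInstance, ?_, ?_⟩
  · rw [hN.range_fromSpec]
    exact hzN
  · have h1 := hbnat _ T' cN g h
    rw [bul_affineQ K' bul hbnat hbhom hbone Q' p' hconst hU'.fromSpec Γ(T'.left, N)] at h1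
    have h2 := congrArg (fun f => f.left) h1
    simp only [Over.comp_left, hcN] at h2
    exact h2

end MainQ

end Groth.Agent.Lib.ConnActH4
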