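import Mathlib
import Groth.Prelude
import Groth.Agent.Lib.ConnActQLoc_helper4
import Groth.Agent.Lib.ConnActMain_helper4

/-!
# Extensions of a group with connected fibres by a group of multiplicative type are central
(helper4)

Global form of `ConnActQLoc_helper4` and the application to extensions.
-/

set_option autoImplicit false
set_option linter.unusedVariables false
set_option linter.unusedTactic false
set_option linter.unreachableTactic false
set_option linter.unusedSectionVars false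
set_option linter.style.haveILetI false
set_option linter.deprecated false
set_option linter.unusedSimpArgs false
set_option linter.style.longLine false
set_option maxHeartbeats 1600000

universe u

open CategoryTheory CategoryTheory.Limits MonoidalCategory CartesianMonoidalCategory MonObj GrpObj
  AlgebraicGeometry Opposite

namespace Groth.Agent.Lib.ConnActH4

open Groth.Agent.Lib.RedDictH8 Groth.Agent.Lib.DSDict Groth.Agent.Lib.MultGa
  Groth.Agent.Lib.MultTrivH4

section AdjQ

variable {S U : Scheme.{u}} (jj : U ⟶ S)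

theorem chk_postcomp {X Y : Over S} (φ : X ⟶ Y) {T' : Over U} (x' : T' ⟶ Red.bc jj X) :
    chk jj (x' ≫ (Over.pullback jj).map φ) = chk jj x' ≫ φ := by
  unfold chk
  simp only [Functor.map_comp, Category.assoc, eps_nat]

end AdjQ

section Comm

theorem DS_comm {U : Scheme.{u}} {M : Type} [AddCommGroup M] {T' : Over U}
    (x y : T' ⟶ Red.DS U M) : x * y = y * x := by
  apply chr_injective
  intro m
  rw [chr_mul, chr_mul, _root_.mul_comm]

theorem local_comm {S U : Scheme.{u}} (H : Over S) [GrpObj H] (jj : U ⟶ S) {M : Type}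
    [AddCommGroup M] (a1 : Red.bc jj H ⟶ Red.DS U M) (ainv : Red.DS U M ⟶ Red.bc jj H)
    [IsMonHom a1] [IsMonHom ainv] (h1 : a1 ≫ ainv = 𝟙 _) (T : Over S) (a b : T ⟶ H) :
    pullback.fst T.hom jj ≫ (a * b).left = pullback.fst T.hom jj ≫ (b * a).left := by
  obtain ⟨c, hc⟩ : ∃ c : (Over.map jj).obj (Over.mk (pullback.snd T.hom jj)) ⟶ T,
      c.left = pullback.fst T.hom jj :=
    ⟨Over.homMk (pullback.fst T.hom jj) pullback.condition, rfl⟩
  have hxy : ∀ x y : Over.mk (pullback.snd T.hom jj) ⟶ Red.bc jj H, x * y = y * x := by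
    intro x y
    have e1 : (x * y) ≫ a1 = (y * x) ≫ a1 := by
      rw [MonObj.mul_comp, MonObj.mul_comp]
      exact DS_comm _ _
    have e2 := congrArg (fun z => z ≫ ainv) e1
    simp only [Category.assoc, h1, Category.comp_id] at e2
    exact e2
  have e3 : c ≫ (a * b) = c ≫ (b * a) := by
    calc c ≫ (a * b) = (c ≫ a) * (c ≫ b) := MonObj.comp_mul _ _ _
      _ = chk jj (unchk jj (c ≫ a)) * chk jj (unchk jj (c ≫ b)) := by
          rw [chk_unchk, chk_unchk]
      _ = chk jj (unchk jj (c ≫ a) * unchk jj (c ≫ b)) := (chk_mul jj _ _).symm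
      _ = chk jj (unchk jj (c ≫ b) * unchk jj (c ≫ a)) := by rw [hxy]
      _ = chk jj (unchk jj (c ≫ b)) * chk jj (unchk jj (c ≫ a)) := chk_mul jj _ _
      _ = (c ≫ b) * (c ≫ a) := by rw [chk_unchk, chk_unchk]
      _ = c ≫ (b * a) := (MonObj.comp_mul _ _ _).symm
  have e4 := congrArg (fun f => f.left) e3
  simp only [Over.comp_left, hc] at e4
  exact e4

/-- a group of multiplicative type is commutative. -/
theorem multType_comm {S : Scheme.{u}} (H : Over S) [GrpObj H] (hH : SGA3x.IsMultTypeFT H)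
    (T : Over S) (a b : T ⟶ H) : a * b = b * a := by
  obtain ⟨S', f, hflat, hsurj, -, hloc⟩ := hH
  haveI := hflat
  apply Over.OverMorphism.ext
  apply hom_ext_of_flat_cover
  intro y
  obtain ⟨s', hs'⟩ := hsurj.surj (T.hom y)
  obtain ⟨Uo, hs'U, M, instM, -, ⟨e⟩⟩ := hloc s'
  obtain ⟨a1, ainv, ha1, hainv, h1, h2⟩ := Groth.Agent.Lib.DiagHom.iso_data e
  haveI := ha1
  haveI := hainv
  refine ⟨pullback T.hom (Uo.ι ≫ f), pullback.fst T.hom (Uo.ι ≫ f), inferInstance, ?_, ?_⟩
  · obtain ⟨w, hw, _⟩ := Scheme.Pullback.exists_preimage_pullback (f := T.hom) (g := Uo.ι ≫ f)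
      y (⟨s', hs'U⟩ : Uo) (by
        first
          | exact hs'.symm
          | (rw [Scheme.Hom.comp_apply]; exact hs'.symm)
          | (simp; exact hs'.symm))
    exact ⟨w, hw⟩
  · exact local_comm H (Uo.ι ≫ f) a1 ainv h1 T a b

end Comm

section GlobQ

variable {S : Scheme.{u}} {K H : Over S} [GrpObj K] [GrpObj H]
  (bul : ∀ (T : Over S), (T ⟶ K) → (T ⟶ H) → (T ⟶ H))
  (hnat : ∀ (T' T : Over S) (c : T' ⟶ T) (g : T ⟶ K) (h : T ⟶ H),
    c ≫ bul T g h = bul T' (c ≫ g) (c ≫ h))
  (hhom : ∀ (T : Over S) (g : T ⟶ K) (h h' : T ⟶ H), bul T g (h * h') = bul T g h * bul T g h')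
  (hone : ∀ (T : Over S) (h : T ⟶ H), bul T 1 h = h)
  (Q : Over S) (p : K ⟶ Q)
  (hconst : ∀ (T : Over S) (g₁ g₂ : T ⟶ K), g₁ ≫ p = g₂ ≫ p →
    ∀ h : T ⟶ H, bul T g₁ h = bul T g₂ h)

include hnat hhom hone hconst in
/-- after a base change trivialising `H`, the action is trivial. -/
theorem local_apply2Q [Surjective p.left] [Flat p.left] [QuasiCompact p.left]
    [GeometricallyConnected Q.hom] {U : Scheme.{u}} (jj : U ⟶ S) {M : Type}
    [AddCommGroup M] (a1 : Red.bc jj H ⟶ Red.DS U M) (ainv : Red.DS U M ⟶ Red.bc jj H)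
    [IsMonHom a1] [IsMonHom ainv] (h1 : a1 ≫ ainv = 𝟙 _) (h2 : ainv ≫ a1 = 𝟙 _)
    (T : Over S) (g : T ⟶ K) (h : T ⟶ H) :
    pullback.fst T.hom jj ≫ (bul T g h).left = pullback.fst T.hom jj ≫ h.left := by
  haveI : GeometricallyConnected (Red.bc jj Q).hom := by
    show GeometricallyConnected (pullback.snd Q.hom jj)
    infer_instance
  haveI : Surjective ((Over.pullback jj).map p).left :=
    MorphismProperty.overPullbackMap (P := @Surjective) jj p inferInstance
  haveI : Flat ((Over.pullback jj).map p).left :=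
    MorphismProperty.overPullbackMap (P := @Flat) jj p inferInstance
  haveI : QuasiCompact ((Over.pullback jj).map p).left :=
    MorphismProperty.overPullbackMap (P := @QuasiCompact) jj p inferInstance
  have hloc := local_connQ (Red.bc jj K)
    (fun T' g' h' =>
      unchk jj (bul ((Over.map jj).obj T') (chk jj g') (chk jj (h' ≫ ainv))) ≫ a1)
    (by
      intro T'' T' c g' h'
      have e1 : (Over.map jj).map c ≫ chk jj g' = chk jj (c ≫ g') := (chk_comp jj c g').symm
      have e2 : (Over.map jj).map c ≫ chk jj (h' ≫ ainv) = chk jj ((c ≫ h') ≫ ainv) := by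
        rw [Category.assoc]
        exact (chk_comp jj c _).symm
      calc c ≫ unchk jj (bul ((Over.map jj).obj T') (chk jj g') (chk jj (h' ≫ ainv))) ≫ a1
          = (c ≫ unchk jj (bul ((Over.map jj).obj T') (chk jj g') (chk jj (h' ≫ ainv)))) ≫ a1 :=
            (Category.assoc _ _ _).symm
        _ = unchk jj ((Over.map jj).map c ≫
              bul ((Over.map jj).obj T') (chk jj g') (chk jj (h' ≫ ainv))) ≫ a1 := by
            rw [unchk_comp]
        _ = unchk jj (bul ((Over.map jj).obj T'') ((Over.map jj).map c ≫ chk jj g')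
              ((Over.map jj).map c ≫ chk jj (h' ≫ ainv))) ≫ a1 := by rw [hnat]
        _ = unchk jj (bul ((Over.map jj).obj T'') (chk jj (c ≫ g'))
              (chk jj ((c ≫ h') ≫ ainv))) ≫ a1 := by rw [e1, e2])
    (by
      intro T' g' h' h''
      show unchk jj (bul ((Over.map jj).obj T') (chk jj g') (chk jj ((h' * h'') ≫ ainv))) ≫ a1 =
        (unchk jj (bul ((Over.map jj).obj T') (chk jj g') (chk jj (h' ≫ ainv))) ≫ a1) *
          (unchk jj (bul ((Over.map jj).obj T') (chk jj g') (chk jj (h'' ≫ ainv))) ≫ a1)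
      rw [MonObj.mul_comp h' h'' ainv, chk_mul, hhom, unchk_mul, MonObj.mul_comp])
    (by
      intro T' h'
      show unchk jj (bul ((Over.map jj).obj T') (chk jj 1) (chk jj (h' ≫ ainv))) ≫ a1 = h'
      rw [chk_one', hone, unchk_chk, Category.assoc, h2, Category.comp_id])
    (Red.bc jj Q) ((Over.pullback jj).map p)
    (by
      intro T' g₁ g₂ hg h'
      have e : chk jj g₁ ≫ p = chk jj g₂ ≫ p := by
        rw [← chk_postcomp, ← chk_postcomp, hg]
      show unchk jj (bul ((Over.map jj).obj T') (chk jj g₁) (chk jj (h' ≫ ainv))) ≫ a1 =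
        unchk jj (bul ((Over.map jj).obj T') (chk jj g₂) (chk jj (h' ≫ ainv))) ≫ a1
      rw [hconst _ _ _ e])
  obtain ⟨c, hc⟩ : ∃ c : (Over.map jj).obj (Over.mk (pullback.snd T.hom jj)) ⟶ T,
      c.left = pullback.fst T.hom jj :=
    ⟨Over.homMk (pullback.fst T.hom jj) pullback.condition, rfl⟩
  have h4 := hloc (Over.mk (pullback.snd T.hom jj)) (unchk jj (c ≫ g))
    (unchk jj (c ≫ h) ≫ a1)
  have e3 : (unchk jj (c ≫ h) ≫ a1) ≫ ainv = unchk jj (c ≫ h) := by
    rw [Category.assoc, h1, Category.comp_id]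
  have h5 : unchk jj (bul ((Over.map jj).obj (Over.mk (pullback.snd T.hom jj)))
      (chk jj (unchk jj (c ≫ g))) (chk jj ((unchk jj (c ≫ h) ≫ a1) ≫ ainv))) ≫ a1 =
      unchk jj (c ≫ h) ≫ a1 := h4
  rw [e3, chk_unchk, chk_unchk] at h5
  have h6 : unchk jj (bul ((Over.map jj).obj (Over.mk (pullback.snd T.hom jj))) (c ≫ g) (c ≫ h)) =
      unchk jj (c ≫ h) := by
    have h7 := congrArg (fun x => x ≫ ainv) h5
    simp only [Category.assoc, h1, Category.comp_id] at h7
    exact h7
  have h8 : bul ((Over.map jj).obj (Over.mk (pullback.snd T.hom jj))) (c ≫ g) (c ≫ h) = c ≫ h := by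
    have h9 := congrArg (chk jj) h6
    rw [chk_unchk, chk_unchk] at h9
    exact h9
  rw [← hnat] at h8
  have h10 := congrArg (fun f => f.left) h8
  simp only [Over.comp_left, hc] at h10
  exact h10

include hnat hhom hone hconst in
/-- **Main theorem, quotient form.** If the action of `K` on `H` (of multiplicative type) is
constant along the fibres of a surjective flat quasi-compact `p : K ⟶ Q` with `Q` geometrically
connected over `S`, then it is trivial. -/
theorem main_connActQ [Surjective p.left] [Flat p.left] [QuasiCompact p.left]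
    [GeometricallyConnected Q.hom] (hH : SGA3x.IsMultTypeFT H)
    (T : Over S) (g : T ⟶ K) (h : T ⟶ H) : bul T g h = h := by
  obtain ⟨S', f, hflat, hsurj, -, hloc⟩ := hH
  haveI := hflat
  apply Over.OverMorphism.ext
  apply hom_ext_of_flat_cover
  intro y
  obtain ⟨s', hs'⟩ := hsurj.surj (T.hom y)
  obtain ⟨Uo, hs'U, M, instM, -, ⟨e⟩⟩ := hloc s'
  obtain ⟨a1, ainv, ha1, hainv, h1, h2⟩ := Groth.Agent.Lib.DiagHom.iso_data e
  haveI := ha1
  haveI := hainv
  refine ⟨pullback T.hom (Uo.ι ≫ f), pullback.fst T.hom (Uo.ι ≫ f), inferInstance, ?_, ?_⟩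
  · obtain ⟨w, hw, _⟩ := Scheme.Pullback.exists_preimage_pullback (f := T.hom) (g := Uo.ι ≫ f)
      y (⟨s', hs'U⟩ : Uo) (by
        first
          | exact hs'.symm
          | (rw [Scheme.Hom.comp_apply]; exact hs'.symm)
          | (simp; exact hs'.symm))
    exact ⟨w, hw⟩
  · exact local_apply2Q bul hnat hhom hone Q p hconst (Uo.ι ≫ f) a1 ainv h1 h2 T g h

end GlobQ

section Ext

/-- S5430. -/
theorem main5430 (S : Scheme.{u}) (E H U : Over S) [GrpObj E] [GrpObj H] [GrpObj U]
    (p : E ⟶ U) [IsMonHom p] [Surjective p.left] [Flat p.left] [QuasiCompact p.left]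
    (i : H ⟶ E) [IsMonHom i] (hker : AlgGrp.IsKernel i p) (hH : SGA3x.IsMultTypeFT H)
    (hU : ∀ s : S, _root_.IsConnected (U.hom.base ⁻¹' {s})) :
    ∀ (X : Over S) (h : X ⟶ H) (e : X ⟶ E), (h ≫ i) * e = e * (h ≫ i) := by
  have hker' : IsPullback i (toUnit H) p η[U] := hker
  haveI : Mono i := ⟨fun a b hab => hker'.hom_ext hab (toUnit_unique _ _)⟩
  haveI : GeometricallyConnected U.hom := by
    apply geomConn_of_fibres U
    intro s
    haveI : ConnectedSpace ↥(U.hom.base ⁻¹' {s}) := isConnected_iff_connectedSpace.mp (hU s)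
    exact (U.hom.fiberHomeo s).symm.surjective.connectedSpace
      (U.hom.fiberHomeo s).symm.continuous
  -- points of the kernel
  have hkerpt : ∀ (T : Over S) (d : T ⟶ E), d ≫ p = 1 → ∃ n : T ⟶ H, n ≫ i = d := by
    intro T d hd
    refine ⟨hker'.lift d (toUnit T) ?_, hker'.lift_fst _ _ _⟩
    rw [hd, Hom.one_def]
  have hip : ∀ (T : Over S) (n : T ⟶ H), (n ≫ i) ≫ p = 1 := by
    intro T n
    calc (n ≫ i) ≫ p = n ≫ (i ≫ p) := Category.assoc _ _ _
      _ = n ≫ (toUnit H ≫ η[U]) := by rw [hker'.w]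
      _ = (n ≫ toUnit H) ≫ η[U] := (Category.assoc _ _ _).symm
      _ = toUnit T ≫ η[U] := by rw [toUnit_unique (n ≫ toUnit H) (toUnit T)]
      _ = 1 := Hom.one_def.symm
  have hn : AlgGrp.IsNormalHom i := by
    intro T g n
    have e1 : (g * (n ≫ i) * g⁻¹) ≫ p = (g ≫ p) * ((n ≫ i) ≫ p) * (g ≫ p)⁻¹ := by
      rw [MonObj.mul_comp, MonObj.mul_comp, GrpObj.inv_comp]
    obtain ⟨n', hn'⟩ := hkerpt T (g * (n ≫ i) * g⁻¹) (by
      rw [e1, hip, _root_.mul_one, _root_.mul_inv_cancel])
    exact ⟨n', hn'.symm⟩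
  have hcomm : ∀ (T : Over S) (a b : T ⟶ H), a * b = b * a := multType_comm H hH
  choose cj hcj using hn
  have key := main_connActQ (K := E) (H := H) cj
    (by
      intro T' T c g h
      rw [← cancel_mono i, Category.assoc, ← hcj, ← hcj, MonObj.comp_mul, MonObj.comp_mul,
        GrpObj.comp_inv, Category.assoc])
    (by
      intro T g h h'
      rw [← cancel_mono i, ← hcj, MonObj.mul_comp, MonObj.mul_comp, ← hcj, ← hcj]
      group)
    (by
      intro T h
      rw [← cancel_mono i, ← hcj]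
      group)
    U p
    (by
      intro T g₁ g₂ hg h
      rw [← cancel_mono i, ← hcj, ← hcj]
      obtain ⟨h₀, hh₀⟩ := hkerpt T (g₁⁻¹ * g₂) (by
        rw [MonObj.mul_comp, GrpObj.inv_comp, hg, _root_.inv_mul_cancel])
      have hg₂ : g₂ = g₁ * (h₀ ≫ i) := by
        rw [hh₀]
        group
      have hc : (h₀ ≫ i) * (h ≫ i) * (h₀ ≫ i)⁻¹ = h ≫ i := by
        have e1 : h₀ * h * h₀⁻¹ = h := by
          rw [hcomm T h₀ h]
          group
        calc (h₀ ≫ i) * (h ≫ i) * (h₀ ≫ i)⁻¹ = (h₀ * h * h₀⁻¹) ≫ i := by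
              rw [MonObj.mul_comp, MonObj.mul_comp, GrpObj.inv_comp]
          _ = h ≫ i := by rw [e1]
      rw [hg₂]
      calc g₁ * (h ≫ i) * g₁⁻¹ = g₁ * ((h₀ ≫ i) * (h ≫ i) * (h₀ ≫ i)⁻¹) * g₁⁻¹ := by rw [hc]
        _ = g₁ * (h₀ ≫ i) * (h ≫ i) * (g₁ * (h₀ ≫ i))⁻¹ := by group)
    hH
  intro X h e
  have h2 := hcj X e h
  rw [key X e h] at h2
  calc (h ≫ i) * e = (e * (h ≫ i) * e⁻¹) * e := by rw [h2]
    _ = e * (h ≫ i) := by group

end Ext

end Groth.Agent.Lib.ConnActH4
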