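import Mathlib

/-!
# Connectedness of the complement of a nowhere dense closed subset (Hartshorne-type lemma)
-/

namespace Groth.Agent.Lib.ConnComplH4

universe u

open TopologicalSpace

theorem exists_specializes_of_mem_closure {X : Type u} [TopologicalSpace X] [QuasiSober X]
    (hloc : ∀ x : X, ∃ U ∈ nhds x, TopologicalSpace.NoetherianSpace ↥U)
    (U : Set X) (hU : IsOpen U) (x : X) (hx : x ∈ closure U) : ∃ η ∈ U, η ⤳ x := by
  obtain ⟨N, hN, hNoeth⟩ := hloc x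
  obtain ⟨V, hVN, hVo, hxV⟩ := mem_nhds_iff.mp hN
  have hxW : x ∈ closure (U ∩ V) := by
    rw [mem_closure_iff] at hx ⊢
    intro o ho hxo
    obtain ⟨z, ⟨hzo, hzV⟩, hzU⟩ := hx (o ∩ V) (ho.inter hVo) ⟨hxo, hxV⟩
    exact ⟨z, hzo, hzU, hzV⟩
  haveI := hNoeth
  haveI : TopologicalSpace.NoetherianSpace ↥(U ∩ V) :=
    TopologicalSpace.NoetherianSpace.of_subset (W := N) (Set.inter_subset_right.trans hVN)
  obtain ⟨S, hSf, hSc, hSi, hSU⟩ :=
    TopologicalSpace.NoetherianSpace.exists_finite_set_isClosed_irreducible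
      (α := ↥(U ∩ V)) isClosed_univ
  have hcov : U ∩ V = ⋃ t ∈ S, (Subtype.val '' t : Set X) := by
    ext z
    constructor
    · intro hz
      have : (⟨z, hz⟩ : ↥(U ∩ V)) ∈ ⋃₀ S := by rw [← hSU]; trivial
      obtain ⟨t, ht, hzt⟩ := this
      exact Set.mem_biUnion ht ⟨⟨z, hz⟩, hzt, rfl⟩
    · intro hz
      obtain ⟨t, ht, ⟨w, hw, rfl⟩⟩ := Set.mem_iUnion₂.mp hz
      exact w.2
  rw [hcov, hSf.closure_biUnion] at hxW
  obtain ⟨t, ht, hxt⟩ := Set.mem_iUnion₂.mp hxW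
  have hirr : IsIrreducible (Subtype.val '' t : Set X) :=
    (hSi t ht).image _ continuous_subtype_val.continuousOn
  obtain ⟨η, hη⟩ := QuasiSober.sober hirr.closure isClosed_closure
  refine ⟨η, ?_, hη.specializes hxt⟩
  have hopen : IsOpen (U ∩ V) := hU.inter hVo
  have : η ∈ U ∩ V := by
    rw [hη.mem_open_set_iff hopen]
    obtain ⟨w, hw⟩ := (hSi t ht).nonempty
    exact ⟨w, subset_closure ⟨w, hw, rfl⟩, w.2⟩
  exact this.1

theorem main {X : Type u} [TopologicalSpace X] [QuasiSober X] [T0Space X]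
    (hloc : ∀ x : X, ∃ U ∈ nhds x, TopologicalSpace.NoetherianSpace ↥U) [ConnectedSpace X]
    (Z : Set X) (hZ : IsClosed Z) (hZn : IsNowhereDense Z)
    (hgen : ∀ x ∈ Z, IsPreconnected ({x' : X | x' ⤳ x} \ {x})) : IsConnected Zᶜ := by
  have hdense : Dense Zᶜ := by
    rw [← interior_eq_empty_iff_dense_compl]
    have h := hZn
    rwa [IsNowhereDense, hZ.closure_eq] at h
  refine ⟨hdense.nonempty, ?_⟩
  intro u v hu hv huv hau hbv
  by_contra hne
  rw [Set.not_nonempty_iff_eq_empty] at hne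
  obtain ⟨U₁, hU₁⟩ : ∃ U₁ : Set X, U₁ = Zᶜ ∩ u := ⟨_, rfl⟩
  obtain ⟨U₂, hU₂⟩ : ∃ U₂ : Set X, U₂ = Zᶜ ∩ v := ⟨_, rfl⟩
  have hU₁o : IsOpen U₁ := by rw [hU₁]; exact hZ.isOpen_compl.inter hu
  have hU₂o : IsOpen U₂ := by rw [hU₂]; exact hZ.isOpen_compl.inter hv
  have hdisj : Disjoint U₁ U₂ := by
    rw [Set.disjoint_iff_inter_eq_empty, hU₁, hU₂]
    rw [← hne]
    ext z
    simp only [Set.mem_inter_iff]
    tauto
  have hcover : Zᶜ = U₁ ∪ U₂ := by
    rw [hU₁, hU₂, ← Set.inter_union_distrib_left]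
    exact (Set.inter_eq_left.mpr huv).symm
  have hU₁Z : U₁ ⊆ Zᶜ := by rw [hU₁]; exact Set.inter_subset_left
  have hU₂Z : U₂ ⊆ Zᶜ := by rw [hU₂]; exact Set.inter_subset_left
  have hFcover : closure U₁ ∪ closure U₂ = Set.univ := by
    rw [← closure_union, ← hcover]
    exact hdense.closure_eq
  have hne₁ : U₁.Nonempty := by rw [hU₁]; exact hau
  have hne₂ : U₂.Nonempty := by rw [hU₂]; exact hbv
  obtain ⟨y, -, hy₁, hy₂⟩ := isPreconnected_closed_iff.mp isPreconnected_univ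
    (closure U₁) (closure U₂) isClosed_closure isClosed_closure (by rw [hFcover])
    (by
      obtain ⟨a, ha⟩ := hne₁
      exact ⟨a, trivial, subset_closure ha⟩)
    (by
      obtain ⟨b, hb⟩ := hne₂
      exact ⟨b, trivial, subset_closure hb⟩)
  have hd12 : Disjoint (closure U₁) U₂ := hdisj.closure_left hU₂o
  have hd21 : Disjoint (closure U₂) U₁ := hdisj.symm.closure_left hU₁o
  obtain ⟨S, hSdef⟩ : ∃ S : Set X, S = closure U₁ ∩ closure U₂ := ⟨_, rfl⟩
  have hSc : IsClosed S := by rw [hSdef]; exact isClosed_closure.inter isClosed_closure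
  have hSZ : S ⊆ Z := by
    intro w hw
    rw [hSdef] at hw
    by_contra hwZ
    have : w ∈ U₁ ∪ U₂ := by rw [← hcover]; exact hwZ
    rcases this with h | h
    · exact Set.disjoint_left.mp hd21 hw.2 h
    · exact Set.disjoint_left.mp hd12 hw.1 h
  have hyS : y ∈ S := by rw [hSdef]; exact ⟨hy₁, hy₂⟩
  -- a point of `S` maximal for generization
  obtain ⟨C, hCdef⟩ : ∃ C : Set ↥S, C = irreducibleComponent (⟨y, hyS⟩ : ↥S) := ⟨_, rfl⟩
  have hCirr : IsIrreducible C := by rw [hCdef]; exact isIrreducible_irreducibleComponent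
  have hCcl : IsClosed C := by rw [hCdef]; exact isClosed_irreducibleComponent
  have hTirr : IsIrreducible (Subtype.val '' C : Set X) :=
    hCirr.image _ continuous_subtype_val.continuousOn
  have hTcl : IsClosed (Subtype.val '' C : Set X) :=
    hSc.isClosedEmbedding_subtypeVal.isClosedMap _ hCcl
  obtain ⟨x, hx⟩ := QuasiSober.sober hTirr hTcl
  have hxT : x ∈ Subtype.val '' C := hx.mem
  obtain ⟨xs, hxsC, hxs⟩ := hxT
  have hxS : x ∈ S := by rw [← hxs]; exact xs.2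
  have hmax : ∀ x' ∈ S, x' ⤳ x → x' = x := by
    intro x' hx'S hspec
    have hDirr : IsIrreducible (closure {(⟨x', hx'S⟩ : ↥S)}) := isIrreducible_singleton.closure
    have hCD : C ⊆ closure {(⟨x', hx'S⟩ : ↥S)} := by
      intro c hc
      have h1 : (c : X) ∈ closure ({x} : Set X) := by
        rw [hx.def]; exact ⟨c, hc, rfl⟩
      have h2 : (c : X) ∈ closure ({x'} : Set X) :=
        (closure_minimal (Set.singleton_subset_iff.mpr hspec.mem_closure) isClosed_closure) h1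
      rw [closure_subtype, Set.image_singleton]
      exact h2
    have hDC : closure {(⟨x', hx'S⟩ : ↥S)} = C := by
      rw [hCdef] at hCD ⊢
      exact eq_irreducibleComponent hDirr.isPreirreducible hCD
    have hx'C : (⟨x', hx'S⟩ : ↥S) ∈ C := by
      rw [← hDC]; exact subset_closure rfl
    have h3 : x' ∈ closure ({x} : Set X) := by
      rw [hx.def]; exact ⟨_, hx'C, rfl⟩
    have h4 : x ⤳ x' := specializes_iff_mem_closure.mpr h3
    exact (hspec.antisymm h4).eq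
  -- generizations of `x` in `U₁` and `U₂`
  have hxcl : x ∈ closure U₁ ∧ x ∈ closure U₂ := by rw [hSdef] at hxS; exact hxS
  obtain ⟨η₁, hη₁U, hη₁⟩ := exists_specializes_of_mem_closure hloc U₁ hU₁o x hxcl.1
  obtain ⟨η₂, hη₂U, hη₂⟩ := exists_specializes_of_mem_closure hloc U₂ hU₂o x hxcl.2
  have hxZ : x ∈ Z := hSZ hxS
  have hη₁ne : η₁ ≠ x := by
    intro h; rw [h] at hη₁U; exact hU₁Z hη₁U hxZ
  have hη₂ne : η₂ ≠ x := by
    intro h; rw [h] at hη₂U; exact hU₂Z hη₂U hxZ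
  obtain ⟨x', ⟨hx'spec, hx'ne⟩, hx'1, hx'2⟩ := isPreconnected_closed_iff.mp (hgen x hxZ)
    (closure U₁) (closure U₂) isClosed_closure isClosed_closure
    (by rw [hFcover]; exact Set.subset_univ _)
    ⟨η₁, ⟨hη₁, hη₁ne⟩, subset_closure hη₁U⟩ ⟨η₂, ⟨hη₂, hη₂ne⟩, subset_closure hη₂U⟩
  exact hx'ne (hmax x' (by rw [hSdef]; exact ⟨hx'1, hx'2⟩) hx'spec)

end Groth.Agent.Lib.ConnComplH4
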