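import Mathlib

/-!
# Connectedness of `D(a) ∪ D(b)` from a depth-two type condition (helper3)
APPEND-ONLY once landed.
-/

set_option autoImplicit false
universe u

namespace Groth.Agent.Lib.ConnDepthH3

open PrimeSpectrum

variable {R : Type u} [CommRing R]

/-- A clopen decomposition of `D(a)` (cut out by two open sets of `Spec R`) produces an
"idempotent numerator". -/
theorem exists_idem_of_clopen (a : R) (ha : a ∈ nonZeroDivisors R)
    (U₁ U₂ : Set (PrimeSpectrum R)) (h₁ : IsOpen U₁) (h₂ : IsOpen U₂)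
    (hcov : ∀ p : PrimeSpectrum R, a ∉ p.asIdeal → p ∈ U₁ ∨ p ∈ U₂)
    (hdisj : ∀ p : PrimeSpectrum R, a ∉ p.asIdeal → p ∈ U₁ → p ∈ U₂ → False) :
    ∃ (n : ℕ) (x : R), x * x = x * a ^ n ∧ ∀ p : PrimeSpectrum R, a ∉ p.asIdeal →
      (p ∈ U₁ → x - a ^ n ∈ p.asIdeal) ∧ (p ∈ U₂ → x ∈ p.asIdeal) := by
  obtain ⟨S, hS⟩ : ∃ S : Type u, S = Localization.Away a := ⟨_, rfl⟩
  subst hS
  have hφ : Continuous (comap (algebraMap R (Localization.Away a))) := continuous_comap _
  have hrange : ∀ q : PrimeSpectrum (Localization.Away a),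
      a ∉ (comap (algebraMap R (Localization.Away a)) q).asIdeal := by
    intro q
    have : comap (algebraMap R (Localization.Away a)) q ∈
        Set.range (comap (algebraMap R (Localization.Away a))) := ⟨q, rfl⟩
    rw [localization_away_comap_range (Localization.Away a) a] at this
    exact (mem_basicOpen a _).mp this
  have hsurj : ∀ p : PrimeSpectrum R, a ∉ p.asIdeal →
      ∃ q, comap (algebraMap R (Localization.Away a)) q = p := by
    intro p hp
    have : p ∈ Set.range (comap (algebraMap R (Localization.Away a))) := by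
      rw [localization_away_comap_range (Localization.Away a) a]
      exact (mem_basicOpen a _).mpr hp
    exact this
  have hcompl : (comap (algebraMap R (Localization.Away a)) ⁻¹' U₁)ᶜ =
      comap (algebraMap R (Localization.Away a)) ⁻¹' U₂ := by
    ext q
    simp only [Set.mem_compl_iff, Set.mem_preimage]
    constructor
    · intro h
      rcases hcov _ (hrange q) with h' | h'
      · exact absurd h' h
      · exact h'
    · intro h h'
      exact hdisj _ (hrange q) h' h
  have hclopen : IsClopen (comap (algebraMap R (Localization.Away a)) ⁻¹' U₁) := by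
    refine ⟨?_, h₁.preimage hφ⟩
    rw [← isOpen_compl_iff, hcompl]
    exact h₂.preimage hφ
  obtain ⟨e, he, heq⟩ := PrimeSpectrum.isClopen_iff.mp hclopen
  obtain ⟨n, x, hx⟩ := IsLocalization.Away.surj a e
  have hunit : IsUnit (algebraMap R (Localization.Away a) a) :=
    IsLocalization.Away.algebraMap_isUnit a
  -- `e ∈ q ↔ x ∈ comap q`
  have hmem : ∀ q : PrimeSpectrum (Localization.Away a),
      e ∈ q.asIdeal ↔ x ∈ (comap (algebraMap R (Localization.Away a)) q).asIdeal := by
    intro q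
    change e ∈ q.asIdeal ↔ algebraMap R (Localization.Away a) x ∈ q.asIdeal
    rw [← hx]
    constructor
    · intro h
      exact q.asIdeal.mul_mem_right _ h
    · intro h
      rcases q.2.mem_or_mem h with h' | h'
      · exact h'
      · exfalso
        exact q.2.ne_top (Ideal.eq_top_of_isUnit_mem _ h' (hunit.pow n))
  refine ⟨n, x, ?_, ?_⟩
  · have h1 : algebraMap R (Localization.Away a) (x * x) =
        algebraMap R (Localization.Away a) (x * a ^ n) := by
      rw [map_mul, map_mul, map_pow, ← hx]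
      have he' : e * e = e := he
      calc e * algebraMap R (Localization.Away a) a ^ n *
            (e * algebraMap R (Localization.Away a) a ^ n)
          = (e * e) * algebraMap R (Localization.Away a) a ^ n *
            algebraMap R (Localization.Away a) a ^ n := by ring
        _ = e * algebraMap R (Localization.Away a) a ^ n *
            algebraMap R (Localization.Away a) a ^ n := by rw [he']
    obtain ⟨⟨c, k, rfl⟩, hc⟩ :=
      (IsLocalization.eq_iff_exists (Submonoid.powers a) (Localization.Away a)).mp h1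
    exact (mul_cancel_left_mem_nonZeroDivisors (pow_mem ha k)).mp hc
  · intro p hp
    obtain ⟨q, rfl⟩ := hsurj p hp
    have hq : q ∈ comap (algebraMap R (Localization.Away a)) ⁻¹' U₁ ↔ e ∉ q.asIdeal := by
      rw [heq]
      exact mem_basicOpen e q
    have hxx : x * (x - a ^ n) = 0 := by
      have h1 : algebraMap R (Localization.Away a) (x * x) =
          algebraMap R (Localization.Away a) (x * a ^ n) := by
        rw [map_mul, map_mul, map_pow, ← hx]
        have he' : e * e = e := he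
        calc e * algebraMap R (Localization.Away a) a ^ n *
              (e * algebraMap R (Localization.Away a) a ^ n)
            = (e * e) * algebraMap R (Localization.Away a) a ^ n *
              algebraMap R (Localization.Away a) a ^ n := by ring
          _ = e * algebraMap R (Localization.Away a) a ^ n *
              algebraMap R (Localization.Away a) a ^ n := by rw [he']
      obtain ⟨⟨c, k, rfl⟩, hc⟩ :=
        (IsLocalization.eq_iff_exists (Submonoid.powers a) (Localization.Away a)).mp h1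
      have := (mul_cancel_left_mem_nonZeroDivisors (pow_mem ha k)).mp hc
      rw [mul_sub, this, sub_self]
    constructor
    · intro hU
      have h1 : e ∉ q.asIdeal := hq.mp hU
      have h2 : x ∉ (comap (algebraMap R (Localization.Away a)) q).asIdeal := fun h =>
        h1 ((hmem q).mpr h)
      have h3 : x * (x - a ^ n) ∈ (comap (algebraMap R (Localization.Away a)) q).asIdeal := by
        rw [hxx]; exact Ideal.zero_mem _
      rcases (comap (algebraMap R (Localization.Away a)) q).2.mem_or_mem h3 with h | h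
      · exact absurd h h2
      · exact h
    · intro hU
      have h1 : ¬ q ∈ comap (algebraMap R (Localization.Away a)) ⁻¹' U₁ := fun h =>
        hdisj _ (hrange q) h hU
      have h2 : e ∈ q.asIdeal := by
        by_contra h
        exact h1 (hq.mpr h)
      exact (hmem q).mp h2

/-- Depth-two type connectedness criterion. -/
theorem isPreconnected_of_depth (a b : R) (ha : a ∈ nonZeroDivisors R)
    (hb : b ∈ nonZeroDivisors R)
    (H : ∀ (n : ℕ) (x y : R), x * x = x * a ^ n → y * y = y * b ^ n → x * b ^ n = y * a ^ n →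
      (x = 0 ∧ y = 0) ∨ (x = a ^ n ∧ y = b ^ n)) :
    IsPreconnected {p : PrimeSpectrum R | a ∉ p.asIdeal ∨ b ∉ p.asIdeal} := by
  intro U₁ U₂ h₁ h₂ hcov hne₁ hne₂
  obtain ⟨p₁, hp₁, hp₁U⟩ := hne₁
  obtain ⟨p₂, hp₂, hp₂U⟩ := hne₂
  by_contra hne
  have hdisj : ∀ p : PrimeSpectrum R, (a ∉ p.asIdeal ∨ b ∉ p.asIdeal) → p ∈ U₁ → p ∈ U₂ → False :=
    fun p hp h1 h2 => hne ⟨p, hp, h1, h2⟩
  obtain ⟨n₁, x₁, hx₁, hx₁'⟩ := exists_idem_of_clopen a ha U₁ U₂ h₁ h₂
    (fun p hp => hcov (Or.inl hp)) (fun p hp => hdisj p (Or.inl hp))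
  obtain ⟨n₂, y₂, hy₂, hy₂'⟩ := exists_idem_of_clopen b hb U₁ U₂ h₁ h₂
    (fun p hp => hcov (Or.inr hp)) (fun p hp => hdisj p (Or.inr hp))
  obtain ⟨n, hn⟩ : ∃ n, n = n₁ + n₂ := ⟨_, rfl⟩
  obtain ⟨x, hxdef⟩ : ∃ x, x = x₁ * a ^ n₂ := ⟨_, rfl⟩
  obtain ⟨y, hydef⟩ : ∃ y, y = y₂ * b ^ n₁ := ⟨_, rfl⟩
  have hx : x * x = x * a ^ n := by
    rw [hxdef, hn, pow_add]
    linear_combination (a ^ n₂) ^ 2 * hx₁
  have hy : y * y = y * b ^ n := by
    rw [hydef, hn, pow_add]
    linear_combination (b ^ n₁) ^ 2 * hy₂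
  have hxU : ∀ p : PrimeSpectrum R, a ∉ p.asIdeal →
      (p ∈ U₁ → x - a ^ n ∈ p.asIdeal) ∧ (p ∈ U₂ → x ∈ p.asIdeal) := by
    intro p hp
    constructor
    · intro hU
      have h := (hx₁' p hp).1 hU
      have : x - a ^ n = (x₁ - a ^ n₁) * a ^ n₂ := by rw [hxdef, hn, pow_add]; ring
      rw [this]
      exact p.asIdeal.mul_mem_right _ h
    · intro hU
      rw [hxdef]
      exact p.asIdeal.mul_mem_right _ ((hx₁' p hp).2 hU)
  have hyU : ∀ p : PrimeSpectrum R, b ∉ p.asIdeal →
      (p ∈ U₁ → y - b ^ n ∈ p.asIdeal) ∧ (p ∈ U₂ → y ∈ p.asIdeal) := by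
    intro p hp
    constructor
    · intro hU
      have h := (hy₂' p hp).1 hU
      have : y - b ^ n = (y₂ - b ^ n₂) * b ^ n₁ := by rw [hydef, hn, pow_add]; ring
      rw [this]
      exact p.asIdeal.mul_mem_right _ h
    · intro hU
      rw [hydef]
      exact p.asIdeal.mul_mem_right _ ((hy₂' p hp).2 hU)
  obtain ⟨z, hzdef⟩ : ∃ z, z = x * b ^ n - y * a ^ n := ⟨_, rfl⟩
  have hz_mem : ∀ p : PrimeSpectrum R, a * b * z ∈ p.asIdeal := by
    intro p
    by_cases hap : a ∈ p.asIdeal
    · exact p.asIdeal.mul_mem_right _ (p.asIdeal.mul_mem_right _ hap)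
    by_cases hbp : b ∈ p.asIdeal
    · exact p.asIdeal.mul_mem_right _ (p.asIdeal.mul_mem_left _ hbp)
    refine p.asIdeal.mul_mem_left _ ?_
    rcases hcov (Or.inl hap : p ∈ {p : PrimeSpectrum R | a ∉ p.asIdeal ∨ b ∉ p.asIdeal})
      with hU | hU
    · have : z = (x - a ^ n) * b ^ n - (y - b ^ n) * a ^ n := by rw [hzdef]; ring
      rw [this]
      exact sub_mem (p.asIdeal.mul_mem_right _ ((hxU p hap).1 hU))
        (p.asIdeal.mul_mem_right _ ((hyU p hbp).1 hU))
    · rw [hzdef]
      exact sub_mem (p.asIdeal.mul_mem_right _ ((hxU p hap).2 hU))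
        (p.asIdeal.mul_mem_right _ ((hyU p hbp).2 hU))
  have hnil : IsNilpotent (a * b * z) :=
    nilpotent_iff_mem_prime.mpr (fun I hI => hz_mem ⟨I, hI⟩)
  obtain ⟨k, hk⟩ := hnil
  have hab : a * b ∈ nonZeroDivisors R := mul_mem ha hb
  have hzk : z ^ k = 0 := by
    rw [mul_pow] at hk
    have h0 : (a * b) ^ k * z ^ k = (a * b) ^ k * 0 := by rw [hk, mul_zero]
    exact (mul_cancel_left_mem_nonZeroDivisors (pow_mem hab k)).mp h0
  obtain ⟨c, hcdef⟩ : ∃ c, c = a ^ n * b ^ n := ⟨_, rfl⟩
  have hc : c ∈ nonZeroDivisors R := by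
    rw [hcdef]; exact mul_mem (pow_mem ha n) (pow_mem hb n)
  have hz3 : z ^ 3 = c ^ 2 * z := by
    rw [hzdef, hcdef]
    linear_combination (a ^ n * b ^ n + x * b ^ n - 3 * (y * a ^ n)) * (b ^ n) ^ 2 * hx +
      (3 * (x * b ^ n) - a ^ n * b ^ n - y * a ^ n) * (a ^ n) ^ 2 * hy
  have hzodd : ∀ j : ℕ, z ^ (2 * j + 1) = (c ^ 2) ^ j * z := by
    intro j
    induction j with
    | zero => simp
    | succ j ih =>
      have : 2 * (j + 1) + 1 = (2 * j + 1) + 2 := by ring
      rw [this, pow_add, ih, pow_succ (c ^ 2) j]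
      linear_combination (c ^ 2) ^ j * hz3
  have hcz : (c ^ 2) ^ k * z = (c ^ 2) ^ k * 0 := by
    rw [← hzodd k, mul_zero]
    have : 2 * k + 1 = k + (k + 1) := by ring
    rw [this, pow_add, hzk, zero_mul]
  have hz0 : z = 0 := (mul_cancel_left_mem_nonZeroDivisors (pow_mem (pow_mem hc 2) k)).mp hcz
  have hxy : x * b ^ n = y * a ^ n := by
    rw [hzdef] at hz0
    exact sub_eq_zero.mp hz0
  rcases H n x y hx hy hxy with ⟨hx0, hy0⟩ | ⟨hxa, hyb⟩
  · rcases hp₁ with hap | hbp
    · have h := (hxU p₁ hap).1 hp₁U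
      rw [hx0, zero_sub] at h
      exact hap (p₁.2.mem_of_pow_mem n ((Ideal.neg_mem_iff _).mp h))
    · have h := (hyU p₁ hbp).1 hp₁U
      rw [hy0, zero_sub] at h
      exact hbp (p₁.2.mem_of_pow_mem n ((Ideal.neg_mem_iff _).mp h))
  · rcases hp₂ with hap | hbp
    · have h := (hxU p₂ hap).2 hp₂U
      rw [hxa] at h
      exact hap (p₂.2.mem_of_pow_mem n h)
    · have h := (hyU p₂ hbp).2 hp₂U
      rw [hyb] at h
      exact hbp (p₂.2.mem_of_pow_mem n h)

/-- `D(a)` is dense when `a` is a non-zero-divisor. -/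
theorem dense_basicOpen_of_mem_nonZeroDivisors (a : R) (ha : a ∈ nonZeroDivisors R) :
    Dense {p : PrimeSpectrum R | a ∉ p.asIdeal} := by
  rw [dense_iff_inter_open]
  intro U hU hne
  obtain ⟨p, hp⟩ := hne
  obtain ⟨_, ⟨f, rfl⟩, hpf, hfU⟩ := isTopologicalBasis_basic_opens.exists_subset_of_mem_open hp hU
  have hfn : ¬ IsNilpotent f := by
    intro h
    have := (basicOpen_eq_bot_iff f).mpr h
    have hpf' : p ∈ basicOpen f := hpf
    rw [this] at hpf'
    exact absurd hpf' (by simp)
  have hfa : ¬ IsNilpotent (f * a) := by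
    rintro ⟨k, hk⟩
    apply hfn
    refine ⟨k, ?_⟩
    rw [mul_pow, mul_comm] at hk
    have h0 : a ^ k * f ^ k = a ^ k * 0 := by rw [hk, mul_zero]
    exact (mul_cancel_left_mem_nonZeroDivisors (pow_mem ha k)).mp h0
  have hne' : (basicOpen (f * a) : Set (PrimeSpectrum R)).Nonempty := by
    rw [Set.nonempty_iff_ne_empty]
    intro h
    apply hfa
    rw [← basicOpen_eq_bot_iff]
    exact TopologicalSpace.Opens.ext h
  obtain ⟨q, hq⟩ := hne'
  have hq' : f * a ∉ q.asIdeal := (mem_basicOpen _ _).mp hq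
  refine ⟨q, hfU ?_, ?_⟩
  · exact (mem_basicOpen _ _).mpr (fun h => hq' (q.asIdeal.mul_mem_right _ h))
  · exact fun h => hq' (q.asIdeal.mul_mem_left _ h)

end Groth.Agent.Lib.ConnDepthH3
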