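import Mathlib
import Groth.Agent.Lib.ConnDepth1_helper3
import Groth.Agent.Lib.HensConn4_helper3

/-!
# Connectedness of `D(a) ∪ D(b)` in a flat algebra, via an auxiliary algebra `A'` (helper3)
APPEND-ONLY once landed.
-/

set_option autoImplicit false
universe u

namespace Groth.Agent.Lib.ConnDepthH3

open TensorProduct PrimeSpectrum

section Flat

variable {A : Type u} [CommRing A] (M : Type u) [AddCommGroup M] [Module A M]
  (N : Type u) [AddCommGroup N] [Module A N] [Module.Flat A N]

/-- Flat transfer of a colon-type condition. -/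
theorem exists_smul_of_flat (a b : A)
    (h : ∀ u v : M, b • u = a • v → ∃ w : M, u = a • w)
    (X Y : N ⊗[A] M) (hXY : b • X = a • Y) : ∃ W : N ⊗[A] M, X = a • W := by
  let f : M →ₗ[A] M := a • LinearMap.id
  let π : M →ₗ[A] M ⧸ LinearMap.range f := Submodule.mkQ _
  let g : M →ₗ[A] M ⧸ LinearMap.range f := b • π
  have hπ : ∀ u : M, π (a • u) = 0 := by
    intro u
    rw [Submodule.mkQ_apply, Submodule.Quotient.mk_eq_zero]
    exact ⟨u, rfl⟩
  have hex : Function.Exact f g := by
    intro u
    constructor
    · intro hu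
      have h1 : π (b • u) = 0 := by
        rw [map_smul]
        exact hu
      rw [Submodule.mkQ_apply, Submodule.Quotient.mk_eq_zero] at h1
      obtain ⟨v, hv⟩ := h1
      obtain ⟨w, hw⟩ := h u v (by rw [← hv]; rfl)
      exact ⟨w, by rw [hw]; rfl⟩
    · rintro ⟨w, rfl⟩
      show b • π (a • w) = 0
      rw [hπ, smul_zero]
  have hex' : Function.Exact (f.lTensor N) (g.lTensor N) := Module.Flat.lTensor_exact N hex
  have hf : f.lTensor N = a • LinearMap.id := by
    rw [LinearMap.lTensor_smul, LinearMap.lTensor_id]
  have hg : g.lTensor N = b • π.lTensor N := LinearMap.lTensor_smul _ _ _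
  have hzero : a • π = 0 := by
    ext u
    rw [LinearMap.smul_apply, ← map_smul, hπ, LinearMap.zero_apply]
  have h0 : g.lTensor N X = 0 := by
    rw [hg, LinearMap.smul_apply, ← map_smul, hXY, map_smul, ← LinearMap.smul_apply,
      ← LinearMap.lTensor_smul, hzero, LinearMap.lTensor_zero, LinearMap.zero_apply]
  obtain ⟨W, hW⟩ := (hex' X).mp h0
  refine ⟨W, ?_⟩
  rw [← hW, hf]
  rfl

end Flat

section Core

variable (A : Type u) [CommRing A] (A' : Type u) [CommRing A'] [Algebra A A']
  (B : Type u) [CommRing B] [Algebra A B] [Module.Flat A B]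

/-- The core statement: connectedness of `D(a) ∪ D(b)` in `Spec B` if `B ⊗ A'` is local and
`a, b` is "a regular sequence on `A'`". -/
theorem isPreconnected_basicOpen_union [IsLocalRing (B ⊗[A] A')]
    (hinj : Function.Injective (algebraMap A A')) (a b : A)
    (ha : IsSMulRegular A' a) (hb : IsSMulRegular A' b)
    (h : ∀ (n : ℕ) (u v : A'), b ^ n • u = a ^ n • v → ∃ w, u = a ^ n • w) :
    IsPreconnected {p : PrimeSpectrum B |
      algebraMap A B a ∉ p.asIdeal ∨ algebraMap A B b ∉ p.asIdeal} := by
  -- regularity on `A`, `B` and `B ⊗ A'`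
  have hregA : ∀ c : A, IsSMulRegular A' c → IsSMulRegular A c := by
    intro c hc x y hxy
    apply hinj
    apply hc
    change c • algebraMap A A' x = c • algebraMap A A' y
    rw [Algebra.smul_def, Algebra.smul_def, ← map_mul, ← map_mul]
    exact congrArg _ hxy
  have hregB : ∀ c : A, IsSMulRegular A' c → algebraMap A B c ∈ nonZeroDivisors B := by
    intro c hc
    have h1 : IsSMulRegular (B ⊗[A] A) c := IsSMulRegular.lTensor B (hregA c hc)
    have h2 : IsSMulRegular B c := by
      intro x y hxy
      have : (TensorProduct.rid A B).symm x = (TensorProduct.rid A B).symm y := by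
        apply h1
        change c • (TensorProduct.rid A B).symm x = c • (TensorProduct.rid A B).symm y
        rw [← map_smul, ← map_smul]
        exact congrArg _ hxy
      exact (TensorProduct.rid A B).symm.injective this
    rw [mem_nonZeroDivisors_iff_right]
    intro x hx
    apply h2
    change c • x = c • 0
    rw [smul_zero, Algebra.smul_def, mul_comm]
    exact hx
  have hregT : ∀ c : A, IsSMulRegular A' c → IsSMulRegular (B ⊗[A] A') c := fun c hc =>
    IsSMulRegular.lTensor B hc
  let ι : B →ₐ[A] B ⊗[A] A' := Algebra.TensorProduct.includeLeft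
  have hι : Function.Injective ι := Algebra.TensorProduct.includeLeft_injective hinj
  refine isPreconnected_of_depth (algebraMap A B a) (algebraMap A B b) (hregB a ha) (hregB b hb) ?_
  intro n x y hx hy hxy
  have hxs : x * algebraMap A B a ^ n = a ^ n • x := by
    rw [Algebra.smul_def, map_pow, mul_comm]
  have hxb : x * algebraMap A B b ^ n = b ^ n • x := by
    rw [Algebra.smul_def, map_pow, mul_comm]
  have hys : y * algebraMap A B a ^ n = a ^ n • y := by
    rw [Algebra.smul_def, map_pow, mul_comm]
  have hyb : y * algebraMap A B b ^ n = b ^ n • y := by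
    rw [Algebra.smul_def, map_pow, mul_comm]
  rw [hxs] at hx
  rw [hyb] at hy
  rw [hxb, hys] at hxy
  have hXY : b ^ n • ι x = a ^ n • ι y := by
    rw [← map_smul, ← map_smul, hxy]
  obtain ⟨W, hW⟩ := exists_smul_of_flat A' B (a ^ n) (b ^ n) (h n) (ι x) (ι y) hXY
  have hregn : IsSMulRegular (B ⊗[A] A') (a ^ n) := (hregT a ha).pow n
  have hWid : IsIdempotentElem W := by
    apply hregn
    apply hregn
    change a ^ n • a ^ n • (W * W) = a ^ n • a ^ n • W
    calc a ^ n • a ^ n • (W * W) = (a ^ n • W) * (a ^ n • W) := by
          rw [smul_mul_smul_comm, smul_smul]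
      _ = ι (x * x) := by rw [← hW, map_mul]
      _ = a ^ n • a ^ n • W := by rw [hx, map_smul, hW]
  have hBn : algebraMap A B a ^ n ∈ nonZeroDivisors B := pow_mem (hregB a ha) n
  rcases Groth.Agent.Lib.HensConnH3.trivIdem_of_isLocalRing (B ⊗[A] A') W hWid with h0 | h1
  · left
    have hx0 : x = 0 := by
      apply hι
      rw [hW, h0, smul_zero, map_zero]
    refine ⟨hx0, ?_⟩
    have : algebraMap A B a ^ n * y = algebraMap A B a ^ n * 0 := by
      rw [mul_zero, mul_comm, hys, ← hxy, hx0, smul_zero]
    exact (mul_cancel_left_mem_nonZeroDivisors hBn).mp this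
  · right
    have hxa : x = algebraMap A B a ^ n := by
      apply hι
      rw [hW, h1, ← map_pow, ← Algebra.algebraMap_eq_smul_one, AlgHom.commutes]
    refine ⟨hxa, ?_⟩
    have : algebraMap A B a ^ n * y = algebraMap A B a ^ n * algebraMap A B b ^ n := by
      rw [mul_comm, hys, ← hxy, hxa, Algebra.smul_def, map_pow, mul_comm]
    exact (mul_cancel_left_mem_nonZeroDivisors hBn).mp this

/-- A regular element of the base stays regular in a flat algebra. -/
theorem algebraMap_mem_nonZeroDivisors_of_flat (c : A) (hc : IsSMulRegular A c) :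
    algebraMap A B c ∈ nonZeroDivisors B := by
  have h1 : IsSMulRegular (B ⊗[A] A) c := IsSMulRegular.lTensor B hc
  have h2 : IsSMulRegular B c := by
    intro x y hxy
    have : (TensorProduct.rid A B).symm x = (TensorProduct.rid A B).symm y := by
      apply h1
      change c • (TensorProduct.rid A B).symm x = c • (TensorProduct.rid A B).symm y
      rw [← map_smul, ← map_smul]
      exact congrArg _ hxy
    exact (TensorProduct.rid A B).symm.injective this
  rw [mem_nonZeroDivisors_iff_right]
  intro x hx
  apply h2
  change c • x = c • 0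
  rw [smul_zero, Algebra.smul_def, mul_comm]
  exact hx

end Core

end Groth.Agent.Lib.ConnDepthH3
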