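import Mathlib
import Groth.Agent.Lib.NBC3_helper3
import Groth.Agent.Lib.IntegralHeight_helper5

/-!
# A "regular pair" for the integral closure of a unibranch Noetherian local domain of dimension
at least two, via Mori–Nagata (helper3)
APPEND-ONLY once landed.
-/

set_option autoImplicit false
universe u

namespace Groth.Agent.Lib.ConnDepthH3

open IsLocalRing Groth.Agent.Lib.MoriNagataH3

variable (R : Type u) [CommRing R] [IsDomain R] [IsNoetherianRing R] [IsLocalRing R]
  (K : Type u) [Field K] [Algebra R K] [IsFractionRing R K]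

theorem exists_pair (hloc : IsLocalRing (integralClosure R K)) (hdim : 2 ≤ ringKrullDim R) :
    ∃ a b : R, a ∈ maximalIdeal R ∧ b ∈ maximalIdeal R ∧ a ≠ 0 ∧ b ≠ 0 ∧
      ∀ (n : ℕ) (x : K), algebraMap R K a ^ n * x ∈ integralClosure R K →
        algebraMap R K b ^ n * x ∈ integralClosure R K → x ∈ integralClosure R K := by
  classical
  haveI : FaithfulSMul R K :=
    (faithfulSMul_iff_algebraMap_injective _ _).mpr (IsFractionRing.injective _ _)
  letI : Algebra (FractionRing R) K := FractionRing.liftAlgebra R K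
  haveI : IsScalarTower R (FractionRing R) K :=
    IsScalarTower.of_algebraMap_eq (R := R) (S := FractionRing R) (A := K) fun x =>
      (IsFractionRing.lift_algebraMap (FaithfulSMul.algebraMap_injective _ K) x).symm
  haveI : FiniteDimensional (FractionRing R) K := by
    refine Module.Finite.of_surjective (Algebra.linearMap (FractionRing R) K) ?_
    intro z
    obtain ⟨a, b, hb, rfl⟩ := IsFractionRing.div_surjective R z
    refine ⟨algebraMap _ _ a / algebraMap _ _ b, ?_⟩
    rw [Algebra.linearMap_apply, map_div₀,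
      ← IsScalarTower.algebraMap_apply R (FractionRing R) K,
      ← IsScalarTower.algebraMap_apply R (FractionRing R) K]
  obtain ⟨Cα, hCα, -, h2⟩ := Groth.Agent.S4615.result (A := R) (K' := K)
  obtain ⟨hfinα, hfracα⟩ := hCα
  haveI := hfinα
  haveI : Algebra.IsIntegral R Cα := Algebra.IsIntegral.of_finite _ Cα
  have hintα : Cα ≤ integralClosure R K := fun z hz => by
    have h1 : IsIntegral R (⟨z, hz⟩ : Cα) := Algebra.IsIntegral.isIntegral _
    exact h1.map (Cα.val)
  haveI := h2 hintα
  have hinjα : Function.Injective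
      (PrimeSpectrum.comap (Subalgebra.inclusion hintα).toRingHom) := by
    intro P Q hPQ
    exact (AlgebraicGeometry.Spec.map
      (CommRingCat.ofHom (Subalgebra.inclusion hintα).toRingHom)).injective hPQ
  haveI : IsNoetherianRing Cα := IsNoetherianRing.of_finite R Cα
  -- `Cα` is local
  letI algC : Algebra Cα (integralClosure R K) := (Subalgebra.inclusion hintα).toRingHom.toAlgebra
  haveI : IsScalarTower R Cα (integralClosure R K) :=
    IsScalarTower.of_algebraMap_eq fun a => ((Subalgebra.inclusion hintα).commutes a).symm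
  haveI : Algebra.IsIntegral Cα (integralClosure R K) :=
    ⟨fun s => (Algebra.IsIntegral.isIntegral (R := R) s).tower_top⟩
  haveI : FaithfulSMul Cα (integralClosure R K) :=
    (faithfulSMul_iff_algebraMap_injective _ _).mpr (Subalgebra.inclusion_injective hintα)
  haveI := hloc
  haveI hlocC : IsLocalRing Cα :=
    RingHom.domain_isLocalRing (algebraMap Cα (integralClosure R K))
  -- dimension
  have hinjRC : Function.Injective (algebraMap R Cα) := by
    intro x y hxy
    apply IsFractionRing.injective R K
    exact congrArg Subtype.val hxy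
  have hdimC : ringKrullDim Cα = ringKrullDim R :=
    Groth.Agent.IntegralHeight.ringKrullDim_eq_of_isIntegral_of_injective R Cα hinjRC
  have hmht : (2 : ℕ∞) ≤ (maximalIdeal Cα).height := by
    have h1 := IsLocalRing.maximalIdeal_height_eq_ringKrullDim (R := Cα)
    rw [hdimC] at h1
    rw [← h1] at hdim
    have h2 : ((2 : ℕ∞) : WithBot ℕ∞) = (2 : WithBot ℕ∞) := rfl
    rw [← h2] at hdim
    exact WithBot.coe_le_coe.mp hdim
  -- choice of `a`
  have hmne : maximalIdeal R ≠ ⊥ := by
    intro h
    have hf : IsField R := IsLocalRing.isField_iff_maximalIdeal_eq.mpr h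
    have h0 := ringKrullDim_eq_zero_of_isField hf
    rw [h0] at hdim
    exact absurd hdim (by norm_num)
  obtain ⟨a, ha, ha0⟩ := Submodule.exists_mem_ne_zero_of_ne_bot hmne
  have haC0 : algebraMap R Cα a ≠ 0 := fun h => ha0 (hinjRC (by rw [h, map_zero]))
  have hSfin : (Ideal.span {algebraMap R Cα a}).minimalPrimes.Finite :=
    Ideal.finite_minimalPrimes_of_isNoetherianRing Cα _
  have hcomap_max : (maximalIdeal Cα).comap (algebraMap R Cα) = maximalIdeal R := by
    haveI hlh : IsLocalHom (algebraMap R Cα) := inferInstance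
    have h4 := ((IsLocalRing.local_hom_TFAE (algebraMap R Cα)).out 0 4).mp hlh
    exact h4
  have haCm : algebraMap R Cα a ∈ maximalIdeal Cα := by
    have : a ∈ (maximalIdeal Cα).comap (algebraMap R Cα) := by rw [hcomap_max]; exact ha
    exact this
  -- no minimal prime over `a` contracts to the maximal ideal
  have hnotmax : ∀ q ∈ (Ideal.span {algebraMap R Cα a}).minimalPrimes,
      ¬ (maximalIdeal R ≤ q.comap (algebraMap R Cα)) := by
    intro q hq hle
    haveI : q.IsPrime := hq.1.1
    have hqne : q.comap (algebraMap R Cα) ≠ ⊤ := (Ideal.comap_isPrime _ q).ne_top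
    have heq : q.comap (algebraMap R Cα) = maximalIdeal R :=
      ((maximalIdeal.isMaximal R).eq_of_le hqne hle).symm
    haveI : (q.comap (algebraMap R Cα)).IsMaximal := by rw [heq]; exact maximalIdeal.isMaximal R
    have hqmax : q.IsMaximal :=
      Ideal.isMaximal_of_isIntegral_of_isMaximal_comap (R := R) q inferInstance
    have hqm : q = maximalIdeal Cα := IsLocalRing.eq_maximalIdeal hqmax
    have h1 : q.height ≤ 1 :=
      Ideal.height_le_one_of_isPrincipal_of_mem_minimalPrimes _ q hq
    rw [hqm] at h1
    have : (2 : ℕ∞) ≤ 1 := hmht.trans h1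
    exact absurd this (by norm_num)
  -- prime avoidance
  have hnot : ¬ ((maximalIdeal R : Set R) ⊆ ⋃ q ∈ (hSfin.toFinset : Set (Ideal Cα)),
      ((q.comap (algebraMap R Cα) : Ideal R) : Set R)) := by
    rw [Ideal.subset_union_prime (f := fun q : Ideal Cα => q.comap (algebraMap R Cα)) ⊥ ⊥]
    · rintro ⟨q, hq, hle⟩
      exact hnotmax q (hSfin.mem_toFinset.mp hq) hle
    · intro q hq _ _
      haveI : q.IsPrime := (hSfin.mem_toFinset.mp hq).1.1
      exact Ideal.comap_isPrime _ _
  obtain ⟨b, hb, hbS⟩ := Set.not_subset.mp hnot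
  have hbq : ∀ q ∈ (Ideal.span {algebraMap R Cα a}).minimalPrimes, algebraMap R Cα b ∉ q := by
    intro q hq hbq
    apply hbS
    refine Set.mem_iUnion₂.mpr ⟨q, ?_, hbq⟩
    exact hSfin.mem_toFinset.mpr hq
  have hb0 : b ≠ 0 := by
    intro h0
    have hne : Ideal.span {algebraMap R Cα a} ≠ ⊤ := by
      intro htop
      have h1 : Ideal.span {algebraMap R Cα a} ≤ maximalIdeal Cα :=
        (Ideal.span_singleton_le_iff_mem _).mpr haCm
      rw [htop] at h1
      exact (maximalIdeal.isMaximal Cα).ne_top (top_le_iff.mp h1)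
    obtain ⟨⟨q, hq⟩⟩ := Ideal.nonempty_minimalPrimes hne
    apply hbq q hq
    rw [h0, map_zero]
    exact q.zero_mem
  refine ⟨a, b, ha, hb, ha0, hb0, ?_⟩
  intro n x hax hbx
  refine (mem_integralClosure_iff_forall R K Cα hintα hinjα x).mpr ?_
  intro p hp hht
  by_cases hap : algebraMap R Cα a ∈ p
  · have hpmin : p ∈ (Ideal.span {algebraMap R Cα a}).minimalPrimes := by
      refine Ideal.mem_minimalPrimes_of_height_le ((Ideal.span_singleton_le_iff_mem _).mpr hap) ?_
      rw [hht]
      exact Ideal.one_le_height_span_singleton_of_mem_nonZeroDivisors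
        (mem_nonZeroDivisors_of_ne_zero haC0)
    refine ⟨algebraMap R Cα b ^ n, fun h => hbq p hpmin (hp.mem_of_pow_mem n h), ?_⟩
    have h1 : IsIntegral R (algebraMap R K b ^ n * x) := hbx
    exact h1.tower_top
  · refine ⟨algebraMap R Cα a ^ n, fun h => hap (hp.mem_of_pow_mem n h), ?_⟩
    have h1 : IsIntegral R (algebraMap R K a ^ n * x) := hax
    exact h1.tower_top

end Groth.Agent.Lib.ConnDepthH3
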