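import Mathlib
import Groth.Prelude.Def_CAlg2
import Groth.Agent.Lib.ConnDepth2_helper3
import Groth.Agent.Lib.ConnDepth3_helper3
import Groth.Agent.Lib.ConnLocal2_helper3

/-!
# Connectedness of the complement of a closed subset of the closed fibre of a flat morphism to a
geometrically unibranch Noetherian local domain of dimension at least two (helper3)
APPEND-ONLY once landed.
-/

set_option autoImplicit false
universe u

namespace Groth.Agent.Lib.ConnDepthH3

open TensorProduct IsLocalRing AlgebraicGeometry CategoryTheory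

section RingLevel

variable (A B : Type u) [CommRing A] [IsNoetherianRing A] [IsLocalRing A] [IsDomain A]
  [CommRing B] [IsLocalRing B] [Algebra A B] [IsLocalHom (algebraMap A B)] [Module.Flat A B]

theorem isPreconnected_compl_of_dim_two (hA : CAlg2.IsGeomUnibranch A) (hdim : 2 ≤ ringKrullDim A)
    (T : Set (PrimeSpectrum B))
    (hT : ∀ q ∈ T, q.asIdeal.comap (algebraMap A B) = maximalIdeal A) :
    IsPreconnected Tᶜ := by
  obtain ⟨⟨hdom, hloc⟩, hpi⟩ := hA
  haveI := hdom
  haveI := hloc
  letI algAA' : Algebra A (CAlg2.normRed A) :=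
    ((algebraMap (CAlg2.red A) (CAlg2.normRed A)).comp
      (Ideal.Quotient.mk (nilradical A))).toAlgebra
  haveI tow : IsScalarTower A (CAlg2.red A) (CAlg2.normRed A) :=
    IsScalarTower.of_algebraMap_eq (fun _ => rfl)
  haveI : Algebra.IsIntegral A (CAlg2.red A) :=
    Algebra.IsIntegral.of_surjective (Ideal.Quotient.mkₐ A (nilradical A))
      Ideal.Quotient.mk_surjective
  haveI hint : Algebra.IsIntegral A (CAlg2.normRed A) :=
    Algebra.IsIntegral.trans (R := A) (CAlg2.red A)
  -- `B ⊗ normRed A` is local
  haveI hlocBC : IsLocalRing (B ⊗[A] CAlg2.normRed A) := by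
    haveI hmax : (maximalIdeal (CAlg2.normRed A)).IsMaximal := maximalIdeal.isMaximal _
    refine Groth.Agent.Lib.HensConnH3.isLocalRing_tensor_of_pow A B (CAlg2.normRed A)
      (ringExpChar (ResidueField (CAlg2.normRed A))) (ringExpChar.expChar _) ?_
    intro c
    obtain ⟨n, a, ha⟩ := hpi (maximalIdeal (CAlg2.normRed A)) c
    exact ⟨n, a, ha.symm⟩
  -- the reduction is `A`
  have hnil : nilradical A = ⊥ := nilradical_eq_zero A
  have hmkinj : Function.Injective (Ideal.Quotient.mk (nilradical A)) := by
    rw [RingHom.injective_iff_ker_eq_bot, Ideal.mk_ker, hnil]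
  have hdimR : 2 ≤ ringKrullDim (CAlg2.red A) := by
    have e : A ≃+* CAlg2.red A :=
      RingEquiv.ofBijective (Ideal.Quotient.mk (nilradical A))
        ⟨hmkinj, Ideal.Quotient.mk_surjective⟩
    rw [← ringKrullDim_eq_of_ringEquiv e]
    exact hdim
  obtain ⟨a₀, b₀, ha₀, hb₀, ha₀0, hb₀0, hP⟩ :=
    exists_pair (CAlg2.red A) (FractionRing (CAlg2.red A)) hloc hdimR
  obtain ⟨a, rfl⟩ := Ideal.Quotient.mk_surjective a₀
  obtain ⟨b, rfl⟩ := Ideal.Quotient.mk_surjective b₀
  have hmem : ∀ c : A, Ideal.Quotient.mk (nilradical A) c ∈ maximalIdeal (CAlg2.red A) →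
      c ∈ maximalIdeal A := by
    intro c hc
    by_contra hcn
    have hu : IsUnit c := by
      by_contra hnu
      exact hcn ((mem_maximalIdeal c).mpr hnu)
    exact (mem_maximalIdeal _).mp hc (hu.map (Ideal.Quotient.mk (nilradical A)))
  have ha : a ∈ maximalIdeal A := hmem a ha₀
  have hb : b ∈ maximalIdeal A := hmem b hb₀
  have ha0 : a ≠ 0 := fun h => ha₀0 (by rw [h, map_zero])
  have hb0 : b ≠ 0 := fun h => hb₀0 (by rw [h, map_zero])
  -- injectivity of `A → normRed A`
  have hinjR : Function.Injective (algebraMap (CAlg2.red A) (CAlg2.normRed A)) := by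
    intro x y hxy
    apply IsFractionRing.injective (CAlg2.red A) (FractionRing (CAlg2.red A))
    exact congrArg Subtype.val hxy
  have hinj : Function.Injective (algebraMap A (CAlg2.normRed A)) := hinjR.comp hmkinj
  have hreg : ∀ c : A, c ≠ 0 → IsSMulRegular (CAlg2.normRed A) c := by
    intro c hc u v huv
    have huv' : algebraMap A (CAlg2.normRed A) c * u = algebraMap A (CAlg2.normRed A) c * v := by
      rw [← Algebra.smul_def, ← Algebra.smul_def]
      exact huv
    have hne : algebraMap A (CAlg2.normRed A) c ≠ 0 := fun h => hc (hinj (by rw [h, map_zero]))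
    exact mul_left_cancel₀ hne huv'
  have hcoe : ∀ c : A, ((algebraMap A (CAlg2.normRed A) c : CAlg2.normRed A) :
      FractionRing (CAlg2.red A)) =
      algebraMap (CAlg2.red A) (FractionRing (CAlg2.red A)) (Ideal.Quotient.mk (nilradical A) c) :=
    fun c => rfl
  have hcol : ∀ (n : ℕ) (u v : CAlg2.normRed A), b ^ n • u = a ^ n • v → ∃ w, u = a ^ n • w := by
    intro n u v huv
    have haK : algebraMap (CAlg2.red A) (FractionRing (CAlg2.red A))
        (Ideal.Quotient.mk (nilradical A) a) ≠ 0 := by
      intro h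
      exact ha₀0 (IsFractionRing.injective (CAlg2.red A) (FractionRing (CAlg2.red A))
        (by rw [h, map_zero]))
    have huv' : algebraMap (CAlg2.red A) (FractionRing (CAlg2.red A))
        (Ideal.Quotient.mk (nilradical A) b) ^ n * (u : FractionRing (CAlg2.red A)) =
        algebraMap (CAlg2.red A) (FractionRing (CAlg2.red A))
        (Ideal.Quotient.mk (nilradical A) a) ^ n * (v : FractionRing (CAlg2.red A)) := by
      have := congrArg (Subtype.val) huv
      rw [Algebra.smul_def, Algebra.smul_def, map_pow, map_pow] at this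
      simpa [hcoe] using this
    obtain ⟨x, hx⟩ : ∃ x : FractionRing (CAlg2.red A), x = (u : FractionRing (CAlg2.red A)) /
        algebraMap (CAlg2.red A) (FractionRing (CAlg2.red A))
          (Ideal.Quotient.mk (nilradical A) a) ^ n := ⟨_, rfl⟩
    have hax : algebraMap (CAlg2.red A) (FractionRing (CAlg2.red A))
        (Ideal.Quotient.mk (nilradical A) a) ^ n * x = (u : FractionRing (CAlg2.red A)) := by
      rw [hx, mul_div_cancel₀ _ (pow_ne_zero n haK)]
    have hbx : algebraMap (CAlg2.red A) (FractionRing (CAlg2.red A))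
        (Ideal.Quotient.mk (nilradical A) b) ^ n * x = (v : FractionRing (CAlg2.red A)) := by
      rw [hx, mul_div_assoc', huv', mul_div_assoc, mul_div_cancel₀ _ (pow_ne_zero n haK)]
        
    have hxmem : x ∈ integralClosure (CAlg2.red A) (FractionRing (CAlg2.red A)) :=
      hP n x (by rw [hax]; exact u.2) (by rw [hbx]; exact v.2)
    refine ⟨⟨x, hxmem⟩, ?_⟩
    apply Subtype.ext
    rw [Algebra.smul_def, map_pow]
    simp only [MulMemClass.coe_mul, SubmonoidClass.coe_pow, hcoe]
    exact hax.symm
  have hS := isPreconnected_basicOpen_union A (CAlg2.normRed A) B hinj a b (hreg a ha0)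
    (hreg b hb0) hcol
  refine hS.subset_closure ?_ ?_
  · intro p hp hpT
    have h1 := hT p hpT
    have h2 : a ∈ p.asIdeal.comap (algebraMap A B) := by rw [h1]; exact ha
    have h3 : b ∈ p.asIdeal.comap (algebraMap A B) := by rw [h1]; exact hb
    rcases hp with h | h
    · exact h h2
    · exact h h3
  · intro p _
    have hregA : IsSMulRegular A a := by
      intro x y hxy
      exact mul_left_cancel₀ ha0 hxy
    have hd := dense_basicOpen_of_mem_nonZeroDivisors (algebraMap A B a)
      (algebraMap_mem_nonZeroDivisors_of_flat A B a hregA)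
    refine closure_mono ?_ (hd p)
    intro q hq
    exact Or.inl hq

end RingLevel

section SchemeLevel

open Groth.Agent.Lib.ConnLocalH3

theorem main5046 (A : Type u) [CommRing A]
    [IsNoetherianRing A] [IsLocalRing A] [IsDomain A] (hA : CAlg2.IsGeomUnibranch A)
    (hdim : 2 ≤ ringKrullDim A)
    {X : Scheme.{u}} [IsLocallyNoetherian X] [ConnectedSpace ↥X]
    (f : X ⟶ Spec (CommRingCat.of A)) [Flat f]
    (T : Set ↥X) (hT : IsClosed T) (hTy : ∀ x ∈ T, f.base x = IsLocalRing.closedPoint A) :
    IsConnected Tᶜ := by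
  have hTy' : ∀ x ∈ T, f x = IsLocalRing.closedPoint A := hTy
  -- the closed point is nowhere dense
  have hnd : interior (closure (f '' T)) = ∅ := by
    have hsub : closure (f '' T) ⊆ {IsLocalRing.closedPoint A} := by
      refine closure_minimal ?_ (IsLocalRing.isClosed_singleton_closedPoint A)
      rintro _ ⟨x, hx, rfl⟩
      exact hTy' x hx
    by_contra hne
    obtain ⟨p, hp⟩ := Set.nonempty_iff_ne_empty.mpr hne
    let η : PrimeSpectrum A := ⟨⊥, Ideal.bot_prime⟩
    have hηp : η ⤳ p := by
      rw [← PrimeSpectrum.le_iff_specializes]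
      exact bot_le
    have hη : η ∈ interior (closure (f '' T)) := hηp.mem_open isOpen_interior hp
    have hη' : η = IsLocalRing.closedPoint A := hsub (interior_subset hη)
    have hbot : maximalIdeal A = ⊥ := (congrArg PrimeSpectrum.asIdeal hη').symm
    have hf : IsField A := IsLocalRing.isField_iff_maximalIdeal_eq.mpr hbot
    have h0 := ringKrullDim_eq_zero_of_isField hf
    rw [h0] at hdim
    exact absurd hdim (by norm_num)
  have hdense : Dense Tᶜ := dense_compl_of_flat f T hnd
  refine isConnected_compl_of_stalks T hT hdense ?_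
  intro x hxT
  haveI : Flat (X.fromSpecStalk x) := flat_fromSpecStalk X x
  obtain ⟨φ, hφ⟩ : ∃ φ : CommRingCat.of A ⟶ X.presheaf.stalk x,
      Spec.map φ = X.fromSpecStalk x ≫ f := ⟨Spec.preimage _, Spec.map_preimage _⟩
  letI alg : Algebra A (X.presheaf.stalk x) := φ.hom.toAlgebra
  have hflat : Flat (Spec.map φ) := by rw [hφ]; infer_instance
  haveI : Module.Flat A (X.presheaf.stalk x) :=
    RingHom.flat_algebraMap_iff.mp ((Flat.SpecMap_iff).mp hflat)
  have hpt : ∀ q : PrimeSpectrum (X.presheaf.stalk x),
      (X.fromSpecStalk x) q ∈ T →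
        q.asIdeal.comap (algebraMap A (X.presheaf.stalk x)) = maximalIdeal A := by
    intro q hq
    have h1 := hTy' _ hq
    have h2 := congrArg (fun g => g q) hφ
    have h3 : (Spec.map φ) q = IsLocalRing.closedPoint A := by
      rw [← h1]
      exact h2
    exact congrArg PrimeSpectrum.asIdeal h3
  haveI : IsLocalHom (algebraMap A (X.presheaf.stalk x)) := by
    have hcl : (X.fromSpecStalk x) (IsLocalRing.closedPoint (X.presheaf.stalk x)) ∈ T := by
      rw [Scheme.fromSpecStalk_closedPoint]
      exact hxT
    have h4 := hpt _ hcl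
    have h5 := ((IsLocalRing.local_hom_TFAE (algebraMap A (X.presheaf.stalk x))).out 4 0).mp h4
    exact h5
  exact isPreconnected_compl_of_dim_two A (X.presheaf.stalk x) hA hdim
    ((X.fromSpecStalk x) ⁻¹' T) hpt

end SchemeLevel

end Groth.Agent.Lib.ConnDepthH3
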