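import Mathlib
import Groth.Prelude
import Groth.Agent.Lib.HartogsRing_helper5
import Groth.Agent.Lib.DepthLoc_helper5
import Groth.Agent.Lib.NoethLocConn_helper7
import Groth.Agent.Lib.Hartogs_helper5

/-!
# Connected components and closed subsets of depth ≥ 2 (helper5)
-/

universe u

open CategoryTheory IsLocalRing AlgebraicGeometry TopologicalSpace Opposite

namespace Groth.Agent.ConnDepth

variable {X : Scheme.{u}} [IsLocallyNoetherian X]

/-- an open subset whose complement consists of points of depth `≥ 2` is dense -/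
theorem mem_closure_of_depth (U : X.Opens)
    (h : ∀ x : X, x ∉ (U : Set X) →
      (2 : ℕ∞) ≤ LocCoh.depth (X.presheaf.stalk x) (X.presheaf.stalk x)) (x : X) :
    x ∈ closure (U : Set X) := by
  obtain ⟨_, ⟨W, hW : IsAffineOpen W, rfl⟩, hxW, -⟩ :=
    (X.isBasis_affineOpens).exists_subset_of_mem_open (Set.mem_univ x) isOpen_univ
  haveI : IsNoetherianRing Γ(X, W) := IsLocallyNoetherian.component_noetherian ⟨W, hW⟩
  obtain ⟨p, hpmin, hpq⟩ := Ideal.exists_minimalPrimes_le (I := ⊥)
    (J := (hW.primeIdealOf ⟨x, hxW⟩).asIdeal) bot_le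
  haveI hpp : p.IsPrime := hpmin.1.1
  obtain ⟨y, hyW, rfl⟩ := Groth.Agent.Hartogs.exists_point hW p
  have hyx : y ⤳ x := by
    have hle : hW.primeIdealOf ⟨y, hyW⟩ ≤ hW.primeIdealOf ⟨x, hxW⟩ := hpq
    have := ((PrimeSpectrum.le_iff_specializes _ _).mp hle).map hW.fromSpec.continuous
    rwa [hW.fromSpec_primeIdealOf, hW.fromSpec_primeIdealOf] at this
  have hyU : y ∈ (U : Set X) := by
    by_contra hy
    have h2 := h y hy
    letI := TopCat.Presheaf.algebra_section_stalk X.presheaf (⟨y, hyW⟩ : W)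
    haveI : IsLocalization.AtPrime (X.presheaf.stalk y) (hW.primeIdealOf ⟨y, hyW⟩).asIdeal :=
      hW.isLocalization_stalk ⟨y, hyW⟩
    have hdim : ringKrullDim (X.presheaf.stalk y) = 0 := by
      rw [IsLocalization.AtPrime.ringKrullDim_eq_height (hW.primeIdealOf ⟨y, hyW⟩).asIdeal,
        Ideal.height_eq_zero_iff.mpr hpmin]
      rfl
    have h3 := Groth.Agent.DepthLib.depth_le_supportDim (X.presheaf.stalk y) (X.presheaf.stalk y)
    rw [Module.supportDim_self_eq_ringKrullDim, hdim] at h3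
    have h4 : LocCoh.depth (X.presheaf.stalk y) (X.presheaf.stalk y) ≤ (0 : ℕ∞) :=
      WithBot.coe_le_coe.mp h3
    have h5 : (2 : ℕ∞) ≤ 0 := h2.trans h4
    simp at h5
  exact closure_mono (Set.singleton_subset_iff.mpr hyU) hyx.mem_closure

theorem locallyConnectedSpace_scheme : LocallyConnectedSpace X := by
  apply Groth.Agent.Lib.NoethLocConnH7.locallyConnectedSpace
  intro x
  obtain ⟨_, ⟨W, hW : IsAffineOpen W, rfl⟩, hxW, -⟩ :=
    (X.isBasis_affineOpens).exists_subset_of_mem_open (Set.mem_univ x) isOpen_univ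
  haveI : IsNoetherianRing Γ(X, W) := IsLocallyNoetherian.component_noetherian ⟨W, hW⟩
  haveI : NoetherianSpace W := noetherianSpace_of_isAffineOpen W hW
  exact ⟨(W : Set X), W.isOpen.mem_nhds hxW, inferInstanceAs (NoetherianSpace W)⟩

theorem locallyConnectedSpace_opens (U : X.Opens) : LocallyConnectedSpace {x : X // x ∈ U} := by
  apply Groth.Agent.Lib.NoethLocConnH7.locallyConnectedSpace
  intro u
  obtain ⟨_, ⟨W, hW : IsAffineOpen W, rfl⟩, hxW, -⟩ :=
    (X.isBasis_affineOpens).exists_subset_of_mem_open (Set.mem_univ u.1) isOpen_univ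
  haveI : IsNoetherianRing Γ(X, W) := IsLocallyNoetherian.component_noetherian ⟨W, hW⟩
  haveI : NoetherianSpace W := noetherianSpace_of_isAffineOpen W hW
  haveI hN : NoetherianSpace {x : X // x ∈ W} := inferInstanceAs (NoetherianSpace W)
  refine ⟨Subtype.val ⁻¹' (W : Set X), (W.isOpen.preimage continuous_subtype_val).mem_nhds hxW, ?_⟩
  let g : {v : {x : X // x ∈ U} // v ∈ (Subtype.val ⁻¹' (W : Set X) : Set {x : X // x ∈ U})} →
      {x : X // x ∈ W} := fun v => ⟨v.1.1, v.2⟩
  have hgc : Continuous g :=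
    Continuous.subtype_mk (continuous_subtype_val.comp continuous_subtype_val) _
  have h1 : Topology.IsInducing (Subtype.val ∘ g) := by
    have h2 : Topology.IsInducing
        (fun v : {v : {x : X // x ∈ U} // v ∈ (Subtype.val ⁻¹' (W : Set X) :
          Set {x : X // x ∈ U})} => (v.1.1 : X)) :=
      Topology.IsInducing.subtypeVal.comp Topology.IsInducing.subtypeVal
    exact h2
  have hg : Topology.IsInducing g := Topology.IsInducing.of_comp hgc continuous_subtype_val h1
  exact hg.noetherianSpace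

omit [IsLocallyNoetherian X] in
theorem germ_top_eq {V : X.Opens} (x : X) (hx : x ∈ V) (e : Γ(X, ⊤)) :
    X.presheaf.germ ⊤ x trivial e =
      X.presheaf.germ V x hx (X.presheaf.map (homOfLE (le_top : V ≤ ⊤)).op e) :=
  (TopCat.Presheaf.germ_res_apply X.presheaf (homOfLE (le_top : V ≤ ⊤)) x hx e).symm

/-- a decomposition of an open with complement of depth `≥ 2` into two disjoint opens extends to a
decomposition of the whole scheme into clopen subsets -/
theorem exists_clopen (A B : X.Opens) (hAB : A ⊓ B = ⊥)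
    (h : ∀ x : X, x ∉ A ⊔ B →
      (2 : ℕ∞) ≤ LocCoh.depth (X.presheaf.stalk x) (X.presheaf.stalk x)) :
    ∃ D : Set X, IsClopen D ∧ (A : Set X) ⊆ D ∧ ∀ x ∈ (B : Set X), x ∉ D := by
  haveI : Subsingleton Γ(X, A ⊓ B) := by
    rw [hAB]
    infer_instance
  haveI hsub' : Subsingleton ↑(X.sheaf.obj.obj (op (A ⊓ B))) := ‹Subsingleton Γ(X, A ⊓ B)›
  let e0 : Γ(X, A ⊔ B) := (X.sheaf.objSupIsoProdEqLocus A B).inv
    ⟨(1, 0), Subsingleton.elim _ _⟩
  have he0A : X.presheaf.map (homOfLE (le_sup_left : A ≤ A ⊔ B)).op e0 = 1 :=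
    X.sheaf.objSupIsoProdEqLocus_inv_fst A B _
  have he0B : X.presheaf.map (homOfLE (le_sup_right : B ≤ A ⊔ B)).op e0 = 0 :=
    X.sheaf.objSupIsoProdEqLocus_inv_snd A B _
  have hbij := Groth.Agent.HartogsRing.bijective_res (A ⊔ B) h ⊤ le_top
  obtain ⟨e, he⟩ := hbij.2 e0
  have hidem0 : e0 * e0 = e0 := by
    apply X.sheaf.eq_of_locally_eq₂ (homOfLE (le_sup_left : A ≤ A ⊔ B))
      (homOfLE (le_sup_right : B ≤ A ⊔ B)) le_rfl
    · show X.presheaf.map (homOfLE (le_sup_left : A ≤ A ⊔ B)).op (e0 * e0) =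
        X.presheaf.map (homOfLE (le_sup_left : A ≤ A ⊔ B)).op e0
      rw [map_mul, he0A, mul_one]
    · show X.presheaf.map (homOfLE (le_sup_right : B ≤ A ⊔ B)).op (e0 * e0) =
        X.presheaf.map (homOfLE (le_sup_right : B ≤ A ⊔ B)).op e0
      rw [map_mul, he0B, mul_zero]
  have hidem : e * e = e := by
    apply hbij.1
    rw [map_mul, he, hidem0]
  have hor : ∀ x : X, IsUnit (X.presheaf.germ ⊤ x trivial e) ∨
      IsUnit (X.presheaf.germ ⊤ x trivial (1 - e)) := by
    intro x
    rcases IsLocalRing.isUnit_or_isUnit_one_sub_self (X.presheaf.germ ⊤ x trivial e) with h1 | h1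
    · exact Or.inl h1
    · right
      rw [map_sub, map_one]
      exact h1
  have hnot : ∀ x : X, IsUnit (X.presheaf.germ ⊤ x trivial e) →
      ¬ IsUnit (X.presheaf.germ ⊤ x trivial (1 - e)) := by
    intro x h1 h2
    have h3 : IsUnit (X.presheaf.germ ⊤ x trivial e * X.presheaf.germ ⊤ x trivial (1 - e)) :=
      h1.mul h2
    rw [← map_mul, mul_sub, mul_one, hidem, sub_self, map_zero] at h3
    exact not_isUnit_zero h3
  have hcompl : ((X.basicOpen e : X.Opens) : Set X)ᶜ = (X.basicOpen (1 - e) : X.Opens) := by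
    ext x
    rw [Set.mem_compl_iff, SetLike.mem_coe, SetLike.mem_coe,
      Scheme.mem_basicOpen _ _ _ (Opens.mem_top x),
      Scheme.mem_basicOpen _ _ _ (Opens.mem_top x)]
    constructor
    · intro h1
      exact (hor x).resolve_left h1
    · intro h2 h1
      exact hnot x h1 h2
  refine ⟨(X.basicOpen e : X.Opens), ⟨?_, (X.basicOpen e).isOpen⟩, ?_, ?_⟩
  · rw [← isOpen_compl_iff, hcompl]
    exact (X.basicOpen (1 - e)).isOpen
  · intro x hxA
    have hxAB : x ∈ A ⊔ B := (le_sup_left : A ≤ A ⊔ B) hxA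
    show x ∈ X.basicOpen e
    rw [Scheme.mem_basicOpen _ _ _ (Opens.mem_top x), germ_top_eq x hxAB e, he,
      ← TopCat.Presheaf.germ_res_apply X.presheaf (homOfLE (le_sup_left : A ≤ A ⊔ B)) x hxA e0,
      he0A, map_one]
    exact isUnit_one
  · intro x hxB hxD
    have hxAB : x ∈ A ⊔ B := (le_sup_right : B ≤ A ⊔ B) hxB
    have hxD' : x ∈ X.basicOpen e := hxD
    rw [Scheme.mem_basicOpen _ _ _ (Opens.mem_top x), germ_top_eq x hxAB e, he,
      ← TopCat.Presheaf.germ_res_apply X.presheaf (homOfLE (le_sup_right : B ≤ A ⊔ B)) x hxB e0,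
      he0B, map_zero] at hxD'
    exact not_isUnit_zero hxD'

/-- separating clopen subsets of `U` by clopen subsets of `X` -/
theorem sep (U : X.Opens)
    (h : ∀ x : X, x ∉ (U : Set X) →
      (2 : ℕ∞) ≤ LocCoh.depth (X.presheaf.stalk x) (X.presheaf.stalk x))
    (C : Set {x : X // x ∈ U}) (hC : IsClopen C) :
    ∃ D : Set X, IsClopen D ∧ (∀ t : {x : X // x ∈ U}, t ∈ C → (t.1 : X) ∈ D) ∧
      ∀ t : {x : X // x ∈ U}, t ∉ C → (t.1 : X) ∉ D := by
  let A : X.Opens := ⟨Subtype.val '' C, U.isOpen.isOpenMap_subtype_val C hC.2⟩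
  let B : X.Opens := ⟨Subtype.val '' Cᶜ, U.isOpen.isOpenMap_subtype_val Cᶜ hC.1.isOpen_compl⟩
  have hAB : A ⊓ B = ⊥ := by
    ext x
    constructor
    · rintro ⟨⟨v, hv, rfl⟩, ⟨w, hw, hwv⟩⟩
      have : w = v := Subtype.ext hwv
      rw [this] at hw
      exact hw hv
    · intro hx
      exact absurd hx (Set.notMem_empty x)
  have hUsub : ∀ x : X, x ∈ (U : Set X) → x ∈ A ⊔ B := by
    intro x hx
    by_cases hc : (⟨x, hx⟩ : {x : X // x ∈ U}) ∈ C
    · exact Or.inl ⟨⟨x, hx⟩, hc, rfl⟩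
    · exact Or.inr ⟨⟨x, hx⟩, hc, rfl⟩
  obtain ⟨D, hD, hAD, hBD⟩ := exists_clopen A B hAB
    (fun x hx => h x (fun hxU => hx (hUsub x hxU)))
  exact ⟨D, hD, fun t ht => hAD ⟨t, ht, rfl⟩, fun t ht => hBD t.1 ⟨t, ht, rfl⟩⟩

omit [IsLocallyNoetherian X] in
/-- the purely topological part -/
theorem topo {T Y : Type*} [TopologicalSpace T] [TopologicalSpace Y]
    (hT : LocallyConnectedSpace T) (hY : LocallyConnectedSpace Y) (f : T → Y)
    (hdense : ∀ (y : Y) (O : Set Y), IsOpen O → y ∈ O → ∃ t : T, f t ∈ O)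
    (hsep : ∀ C : Set T, IsClopen C → ∃ D : Set Y, IsClopen D ∧ (∀ t : T, t ∈ C → f t ∈ D) ∧
      ∀ t : T, t ∉ C → f t ∉ D)
    (hc : Continuous f) : Function.Bijective hc.connectedComponentsMap := by
  constructor
  · intro a b hab
    obtain ⟨u, rfl⟩ := ConnectedComponents.surjective_coe a
    obtain ⟨u', rfl⟩ := ConnectedComponents.surjective_coe b
    have h1 : ((f u : Y) : _root_.ConnectedComponents Y) = ((f u' : Y) : _root_.ConnectedComponents Y) :=
      hab
    rw [ConnectedComponents.coe_eq_coe'] at h1 ⊢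
    by_contra hne
    obtain ⟨D, hD, hCD, hnCD⟩ := hsep (connectedComponent u') isClopen_connectedComponent
    have hu'D : f u' ∈ D := hCD u' mem_connectedComponent
    have huD : f u ∈ D := hD.connectedComponent_subset hu'D h1
    exact hnCD u hne huD
  · intro c
    obtain ⟨y, rfl⟩ := ConnectedComponents.surjective_coe c
    obtain ⟨t, ht⟩ := hdense y (connectedComponent y) isOpen_connectedComponent
      mem_connectedComponent
    refine ⟨(t : _root_.ConnectedComponents T), ?_⟩
    show ((f t : Y) : _root_.ConnectedComponents Y) = y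
    rw [ConnectedComponents.coe_eq_coe']
    exact ht

/-- **S5153.** -/
theorem main (U : X.Opens)
    (h : ∀ x : X, x ∉ (U : Set X) →
      (2 : ℕ∞) ≤ LocCoh.depth (X.presheaf.stalk x) (X.presheaf.stalk x)) :
    Function.Bijective (Continuous.connectedComponentsMap
      (continuous_subtype_val : Continuous (fun x : U => (x : X)))) := by
  refine topo (T := {x : X // x ∈ U}) (locallyConnectedSpace_opens U) locallyConnectedSpace_scheme
    (fun t => t.1) ?_ (sep U h) _
  intro y O hO hyO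
  have hy := mem_closure_of_depth U h y
  obtain ⟨z, hzO, hzU⟩ := mem_closure_iff.mp hy O hO hyO
  exact ⟨⟨z, hzU⟩, hzO⟩

end Groth.Agent.ConnDepth
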