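import Mathlib

/-!
# Zariski's subspace theorem, part 1: transcendence degree comparisons and
localisations of quotients (helper3)
-/

set_option autoImplicit false
universe u v

namespace Groth.Agent.Lib.ZarSubH3

open IsLocalRing Cardinal

section Trdeg

/-- transcendence degree does not decrease along a compatible pair (surjective on the base,
injective on the algebra) -/
theorem trdeg_le_of_surjective_of_injective {R S : Type u} {A B : Type v} [CommRing R] [CommRing S]
    [CommRing A] [CommRing B] [Algebra R A] [Algebra S B] [Nontrivial S]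
    (f : R →+* S) (g : A →+* B) (hf : Function.Surjective f) (hg : Function.Injective g)
    (h : (algebraMap S B).comp f = g.comp (algebraMap R A)) :
    Algebra.trdeg R A ≤ Algebra.trdeg S B := by
  unfold Algebra.trdeg
  apply ciSup_le'
  rintro ⟨s, hs⟩
  have h2 : AlgebraicIndependent S (g ∘ ((↑) : s → A)) := hs.ringHom_of_comp_eq f g hf hg h
  exact h2.cardinalMk_le_trdeg

/-- if `E` is generated over `R₁` by the image of `S₀`, then `trdeg R₁ E ≤ trdeg R₀ S₀` -/
theorem trdeg_le_of_adjoin_range_eq_top {R₀ R₁ : Type u} {S₀ E : Type v} [CommRing R₀] [CommRing S₀]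
    [IsDomain S₀] [CommRing R₁] [CommRing E] [IsDomain E]
    [Algebra R₀ S₀] [Algebra R₁ E] [FaithfulSMul R₀ S₀]
    (f : R₀ →+* R₁) (g : S₀ →+* E) (hg : Function.Injective g)
    (h : (algebraMap R₁ E).comp f = g.comp (algebraMap R₀ S₀))
    (htop : Algebra.adjoin R₁ (Set.range g) = ⊤) :
    Algebra.trdeg R₁ E ≤ Algebra.trdeg R₀ S₀ := by
  haveI : Nontrivial R₀ := (algebraMap R₀ S₀).domain_nontrivial
  obtain ⟨s, hs⟩ := exists_isTranscendenceBasis R₀ S₀
  have hcard : #s = Algebra.trdeg R₀ S₀ := hs.cardinalMk_eq_trdeg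
  have halg0 : Algebra.IsAlgebraic (Algebra.adjoin R₀ s) S₀ := by
    have := hs.isAlgebraic
    rwa [Subtype.range_coe] at this
  -- `g` maps `adjoin R₀ s` into `adjoin R₁ (g '' s)`
  have hmem : ∀ x : S₀, x ∈ Algebra.adjoin R₀ s → g x ∈ Algebra.adjoin R₁ (g '' s) := by
    intro x hx
    induction hx using Algebra.adjoin_induction with
    | mem x hx => exact Algebra.subset_adjoin ⟨x, hx, rfl⟩
    | algebraMap r =>
      have : g (algebraMap R₀ S₀ r) = algebraMap R₁ E (f r) := (congr($h r)).symm
      rw [this]
      exact Subalgebra.algebraMap_mem _ _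
    | add x y _ _ hx hy => rw [map_add]; exact Subalgebra.add_mem _ hx hy
    | mul x y _ _ hx hy => rw [map_mul]; exact Subalgebra.mul_mem _ hx hy
  let f' : Algebra.adjoin R₀ s →+* Algebra.adjoin R₁ (g '' s) :=
    (g.comp (Algebra.adjoin R₀ s).val.toRingHom).codRestrict
      (Algebra.adjoin R₁ (g '' s)).toSubring (fun x => hmem x.1 x.2)
  have hf'inj : Function.Injective f' := by
    intro x y hxy
    have : g x.1 = g y.1 := congrArg Subtype.val hxy
    exact Subtype.ext (hg this)
  have hcomp : (algebraMap (Algebra.adjoin R₁ (g '' s)) E).comp f' =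
      g.comp (algebraMap (Algebra.adjoin R₀ s) S₀) := by
    ext x
    rfl
  haveI : Algebra.IsAlgebraic (Algebra.adjoin R₁ (g '' s)) E := by
    constructor
    have key : ∀ e : E, e ∈ Algebra.adjoin R₁ (Set.range g) →
        IsAlgebraic (Algebra.adjoin R₁ (g '' s)) e := by
      intro e he
      induction he using Algebra.adjoin_induction with
      | mem x hx =>
        obtain ⟨c, rfl⟩ := hx
        exact (halg0.isAlgebraic c).ringHom_of_comp_eq f' g hf'inj hcomp
      | algebraMap r =>
        have : algebraMap R₁ E r = algebraMap (Algebra.adjoin R₁ (g '' s)) E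
            ⟨algebraMap R₁ E r, Subalgebra.algebraMap_mem _ r⟩ := rfl
        rw [this]
        exact isAlgebraic_algebraMap _
      | add x y _ _ hx hy => exact hx.add hy
      | mul x y _ _ hx hy => exact hx.mul hy
    intro e
    exact key e (by rw [htop]; exact Algebra.mem_top)
  calc Algebra.trdeg R₁ E ≤ #(g '' s) := Algebra.IsAlgebraic.trdeg_le_cardinalMk R₁ (g '' s)
    _ ≤ #s := Cardinal.mk_image_le
    _ = _ := hcard

end Trdeg

section LocQuot

/-- the dimension of `R_n / P₀ R_n` is the height of `n / P₀` -/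
theorem ringKrullDim_localization_quot {R : Type u} [CommRing R] (n : Ideal R) [n.IsPrime]
    (P₀ : Ideal R) [P₀.IsPrime] (hle : P₀ ≤ n) :
    ringKrullDim (Localization.AtPrime n ⧸ P₀.map (algebraMap R (Localization.AtPrime n))) =
      (n.map (Ideal.Quotient.mk P₀)).height := by
  obtain ⟨q, hqdef⟩ : ∃ q : Ideal (R ⧸ P₀), q = n.map (Ideal.Quotient.mk P₀) := ⟨_, rfl⟩
  have hker : RingHom.ker (Ideal.Quotient.mk P₀) ≤ n := by rw [Ideal.mk_ker]; exact hle
  haveI hqp : q.IsPrime := by
    rw [hqdef]; exact Ideal.map_isPrime_of_surjective Ideal.Quotient.mk_surjective hker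
  have hqc : q.comap (Ideal.Quotient.mk P₀) = n := by
    rw [hqdef, Ideal.comap_map_of_surjective _ Ideal.Quotient.mk_surjective,
      ← RingHom.ker_eq_comap_bot]
    exact sup_eq_left.mpr hker
  have hM : Algebra.algebraMapSubmonoid (R ⧸ P₀) n.primeCompl = q.primeCompl := by
    ext y
    obtain ⟨c, rfl⟩ := Ideal.Quotient.mk_surjective y
    constructor
    · rintro ⟨c', hc', h⟩ hq
      apply hc'
      rw [← hqc]
      show Ideal.Quotient.mk P₀ c' ∈ q
      have h' : Ideal.Quotient.mk P₀ c' = Ideal.Quotient.mk P₀ c := h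
      rw [h']
      exact hq
    · intro hq
      refine ⟨c, fun hc => hq ?_, rfl⟩
      rw [hqdef]
      exact Ideal.mem_map_of_mem _ hc
  haveI : IsLocalization.AtPrime
      (Localization.AtPrime n ⧸ P₀.map (algebraMap R (Localization.AtPrime n))) q := by
    have h : IsLocalization (Algebra.algebraMapSubmonoid (R ⧸ P₀) n.primeCompl)
      (Localization.AtPrime n ⧸ P₀.map (algebraMap R (Localization.AtPrime n))) := inferInstance
    rw [hM] at h
    exact h
  rw [IsLocalization.AtPrime.ringKrullDim_eq_height q, hqdef]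

end LocQuot

section Height

/-- a prime minimal over `q S` lying over `q` has the same height as `q` when going-down holds -/
theorem height_eq_of_mem_minimalPrimes_map {R S : Type u} [CommRing R] [CommRing S] [Algebra R S]
    [IsNoetherianRing R] [IsNoetherianRing S] [Algebra.HasGoingDown R S] (q : Ideal R) [q.IsPrime]
    (M : Ideal S) [M.IsPrime] [M.LiesOver q]
    (hM : M ∈ (q.map (algebraMap R S)).minimalPrimes) : M.height = q.height := by
  have h1 := Ideal.height_eq_height_add_of_liesOver_of_hasGoingDown q M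
  have h2 : (M.map (Ideal.Quotient.mk (q.map (algebraMap R S)))).height = 0 := by
    have hker : RingHom.ker (Ideal.Quotient.mk (q.map (algebraMap R S))) ≤ M := by
      rw [Ideal.mk_ker]; exact hM.1.2
    haveI : (M.map (Ideal.Quotient.mk (q.map (algebraMap R S)))).IsPrime :=
      Ideal.map_isPrime_of_surjective Ideal.Quotient.mk_surjective hker
    rw [Ideal.height_eq_zero_iff]
    have h3 := Ideal.comap_minimalPrimes_eq_of_surjective
      (f := Ideal.Quotient.mk (q.map (algebraMap R S))) Ideal.Quotient.mk_surjective ⊥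
    rw [← RingHom.ker_eq_comap_bot, Ideal.mk_ker] at h3
    rw [h3] at hM
    obtain ⟨P, hP, hPM⟩ := hM
    rw [← hPM, Ideal.map_comap_of_surjective _ Ideal.Quotient.mk_surjective]
    exact hP
  rw [h1, h2, add_zero]

end Height

end Groth.Agent.Lib.ZarSubH3
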