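import Mathlib
import Groth.Agent.Lib.ZarSub1_helper3
import Groth.Agent.Lib.DimIneqQ2_helper8
import Groth.Agent.Lib.DimEq_helper8
import Groth.Agent.Lib.Equi133_helper8
import Groth.Agent.Lib.FormalEquidimMin_helper9
import Groth.Agent.Lib.AnUnram_helper3
import Groth.Agent.Lib.CompletionRegular_helper5

/-!
# Zariski's subspace theorem, part 2: the completion injects into the local ring of the
base-changed algebra (helper3)
-/

set_option autoImplicit false
set_option maxSynthPendingDepth 3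
universe u

namespace Groth.Agent.Lib.ZarSubH3

open IsLocalRing TensorProduct Groth.Agent.EquiCat9

section Core

variable (A : Type u) [CommRing A] [IsLocalRing A] [IsNoetherianRing A]
variable (C : Type u) [CommRing C] [Algebra A C]

/-- the map `Â → C ⊗ Â` -/
noncomputable abbrev psi : EGA4.Cpl A →+* C ⊗[A] EGA4.Cpl A :=
  (Algebra.TensorProduct.includeRight : EGA4.Cpl A →ₐ[A] C ⊗[A] EGA4.Cpl A).toRingHom

theorem psi_algebraMap (a : A) :
    psi A C (algebraMap A (EGA4.Cpl A) a) =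
      algebraMap C (C ⊗[A] EGA4.Cpl A) (algebraMap A C a) := by
  have h1 : psi A C (algebraMap A (EGA4.Cpl A) a) = algebraMap A (C ⊗[A] EGA4.Cpl A) a :=
    (Algebra.TensorProduct.includeRight : EGA4.Cpl A →ₐ[A] C ⊗[A] EGA4.Cpl A).commutes a
  rw [h1, IsScalarTower.algebraMap_apply A C (C ⊗[A] EGA4.Cpl A)]

theorem psi_finiteType [Algebra.FiniteType A C] : (psi A C).FiniteType := by
  have h1 : (algebraMap (EGA4.Cpl A) (EGA4.Cpl A ⊗[A] C)).FiniteType :=
    RingHom.finiteType_algebraMap.mpr inferInstance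
  have h2 : ((Algebra.TensorProduct.comm A (EGA4.Cpl A) C).toAlgHom.toRingHom).FiniteType :=
    RingHom.FiniteType.of_surjective _ (Algebra.TensorProduct.comm A (EGA4.Cpl A) C).surjective
  have h3 := h2.comp h1
  have : psi A C = ((Algebra.TensorProduct.comm A (EGA4.Cpl A) C).toAlgHom.toRingHom).comp
      (algebraMap (EGA4.Cpl A) (EGA4.Cpl A ⊗[A] C)) := by
    ext x
    simp [psi, Algebra.TensorProduct.algebraMap_apply]
  rw [this]
  exact h3

theorem exists_sub_mem_maximalIdeal_cpl (x : EGA4.Cpl A) :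
    ∃ a : A, x - algebraMap A (EGA4.Cpl A) a ∈ maximalIdeal (EGA4.Cpl A) := by
  obtain ⟨hloc, -⟩ := Groth.Agent.Lib.AnUnramH3.completion_facts A
  obtain ⟨a, ha⟩ := Ideal.Quotient.mk_surjective
    (AdicCompletion.evalₐ (maximalIdeal A) 1 x)
  refine ⟨a, ?_⟩
  have hker : RingHom.ker (AdicCompletion.evalₐ (maximalIdeal A) 1 :
      AdicCompletion (maximalIdeal A) A →ₐ[A] A ⧸ maximalIdeal A ^ 1).toRingHom ≠ ⊤ := by
    haveI : Nontrivial (A ⧸ maximalIdeal A ^ 1) := by
      rw [pow_one]; exact Ideal.Quotient.nontrivial_iff.mpr (maximalIdeal.isMaximal A).ne_top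
    exact RingHom.ker_ne_top _
  apply le_maximalIdeal hker
  rw [RingHom.mem_ker]
  show AdicCompletion.evalₐ (maximalIdeal A) 1 (x - algebraMap A _ a) = 0
  rw [map_sub, AlgHom.commutes, ← ha]
  exact sub_self _

end Core

section Main

variable (A : Type u) [CommRing A] [IsLocalRing A] [IsNoetherianRing A]
variable (C : Type u) [CommRing C] [IsDomain C] [Algebra A C] [Algebra.FiniteType A C]
  [FaithfulSMul A C]
variable (q : Ideal C) [q.IsPrime]

theorem exists_prime_tensor (hdom : IsDomain (EGA4.Cpl A))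
    (hq : q.comap (algebraMap A C) = maximalIdeal A) :
    ∃ (M : Ideal (C ⊗[A] EGA4.Cpl A)) (_ : M.IsPrime),
      M.comap (algebraMap C (C ⊗[A] EGA4.Cpl A)) = q ∧
      ∀ x : EGA4.Cpl A,
        algebraMap (C ⊗[A] EGA4.Cpl A) (Localization.AtPrime M) (psi A C x) = 0 → x = 0 := by
  classical
  obtain ⟨hloc, hnoeth, hcompl, hff, hlh, hmax⟩ := Groth.Agent.Lib.AnUnramH3.completion_facts A
  haveI := hloc
  haveI := hnoeth
  haveI := hff
  haveI := hlh
  haveI := hcompl
  haveI := hdom
  haveI hAdom : IsDomain A :=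
    (FaithfulSMul.algebraMap_injective A (EGA4.Cpl A)).isDomain (algebraMap A (EGA4.Cpl A))
  have hUC : CAlg.IsUniversallyCatenary A :=
    isUniversallyCatenary_of_isFormallyEquidim A (isEquidim_of_isDomain _)
  have hψ := psi_finiteType A C
  haveI : IsNoetherianRing C := Algebra.FiniteType.isNoetherianRing A C
  haveI : IsNoetherianRing (C ⊗[A] EGA4.Cpl A) := by
    letI := (psi A C).toAlgebra
    haveI : Algebra.FiniteType (EGA4.Cpl A) (C ⊗[A] EGA4.Cpl A) := hψ
    exact Algebra.FiniteType.isNoetherianRing (EGA4.Cpl A) _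
  -- a prime over `q`, minimal over `q D`
  obtain ⟨M₁, hM₁p, hM₁q⟩ :=
    Ideal.exists_isPrime_liesOver_of_faithfullyFlat (B := C ⊗[A] EGA4.Cpl A) q
  haveI := hM₁p
  obtain ⟨M, hMmin, hMle⟩ := Ideal.exists_minimalPrimes_le
    (I := q.map (algebraMap C (C ⊗[A] EGA4.Cpl A))) (J := M₁)
    (by rw [Ideal.map_le_iff_le_comap, ← Ideal.under_def, ← hM₁q.over])
  haveI hMp : M.IsPrime := hMmin.1.1
  have hMq : M.comap (algebraMap C (C ⊗[A] EGA4.Cpl A)) = q := by
    apply le_antisymm
    · calc M.comap (algebraMap C (C ⊗[A] EGA4.Cpl A))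
          ≤ M₁.comap (algebraMap C (C ⊗[A] EGA4.Cpl A)) := Ideal.comap_mono hMle
        _ = q := hM₁q.over.symm
    · rw [← Ideal.map_le_iff_le_comap]; exact hMmin.1.2
  haveI : M.LiesOver q := ⟨hMq.symm⟩
  have hhtM : M.height = q.height := height_eq_of_mem_minimalPrimes_map q M hMmin
  refine ⟨M, hMp, hMq, ?_⟩
  -- a minimal prime of the local ring of maximal dimension
  obtain ⟨P', hP'min, hP'dim⟩ :=
    Equi133H8.exists_minimalPrimes_dim_eq (Localization.AtPrime M)
  haveI hP'p : P'.IsPrime := hP'min.1.1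
  obtain ⟨q0, hq0⟩ : ∃ q0 : Ideal (C ⊗[A] EGA4.Cpl A),
      q0 = P'.comap (algebraMap (C ⊗[A] EGA4.Cpl A) (Localization.AtPrime M)) := ⟨_, rfl⟩
  haveI hq0p : q0.IsPrime := by rw [hq0]; exact Ideal.comap_isPrime _ _
  have hq0M : q0 ≤ M := by
    have h1 := IsLocalization.AtPrime.comap_maximalIdeal (Localization.AtPrime M) M
    rw [← h1, hq0]
    exact Ideal.comap_mono (le_maximalIdeal hP'p.ne_top)
  have hP'map : q0.map (algebraMap (C ⊗[A] EGA4.Cpl A) (Localization.AtPrime M)) = P' := by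
    rw [hq0]; exact IsLocalization.map_comap M.primeCompl _ P'
  have hdim1 : ringKrullDim (Localization.AtPrime M ⧸ P') =
      (M.map (Ideal.Quotient.mk q0)).height := by
    rw [← hP'map]; exact ringKrullDim_localization_quot M q0 hq0M
  have hdim2 : ringKrullDim (Localization.AtPrime M) = M.height :=
    IsLocalization.AtPrime.ringKrullDim_eq_height M _
  -- `q0 ∩ C = ⊥`
  have hq0C : q0.comap (algebraMap C (C ⊗[A] EGA4.Cpl A)) = ⊥ := by
    haveI : Module.Flat C (Localization.AtPrime M) :=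
      Module.Flat.trans C (C ⊗[A] EGA4.Cpl A) _
    have h1 := (comap_mem_minimalPrimes C (Localization.AtPrime M) ⊥ P'
      (by rw [Ideal.map_bot]; exact hP'min)).1
    have h2 : minimalPrimes C = {⊥} := IsDomain.minimalPrimes_eq_singleton_bot C
    have h3 : P'.comap (algebraMap C (Localization.AtPrime M)) ∈ minimalPrimes C := h1
    rw [h2] at h3
    have h4 : P'.comap (algebraMap C (Localization.AtPrime M)) = ⊥ := h3
    rw [hq0, Ideal.comap_comap, ← IsScalarTower.algebraMap_eq]
    exact h4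
  -- `M ∩ Â = m̂`
  have hMm : M.comap (psi A C) = maximalIdeal (EGA4.Cpl A) := by
    have hle : maximalIdeal (EGA4.Cpl A) ≤ M.comap (psi A C) := by
      rw [← hmax, Ideal.map_le_iff_le_comap]
      intro a ha
      show psi A C (algebraMap A (EGA4.Cpl A) a) ∈ M
      rw [psi_algebraMap]
      apply hMmin.1.2
      apply Ideal.mem_map_of_mem
      have : a ∈ q.comap (algebraMap A C) := by rw [hq]; exact ha
      exact this
    haveI : (M.comap (psi A C)).IsPrime := Ideal.comap_isPrime _ _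
    exact ((maximalIdeal.isMaximal (EGA4.Cpl A)).eq_of_le
      (Ideal.IsPrime.ne_top inferInstance) hle).symm
  -- the two dimension statements
  obtain ⟨a, b, r, r0, ha, hb, hr, hr0, hineq⟩ :=
    Groth.Agent.DimIneqQ2H8.dim_ineq_quot' (psi A C) hψ q0 M hq0M
      (q0.comap (psi A C)) (maximalIdeal (EGA4.Cpl A)) rfl hMm.symm
  haveI : q.LiesOver (maximalIdeal A) := ⟨hq.symm⟩
  obtain ⟨a', b', rq, rS, ha', hb', hrq, hrS, heq⟩ :=
    Groth.Agent.DimEqH8.height_add_trdeg_eq A hUC C (maximalIdeal A) q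
  -- `a = a'`
  have haa : a = a' := by
    have h1 : ((a : ℕ∞) : WithBot ℕ∞) = ((a' : ℕ∞) : WithBot ℕ∞) := by
      rw [← ha, ← hdim1, hP'dim, hdim2, hhtM, ha']
    exact_mod_cast h1
  -- `rq ≤ r`
  have hrqr : rq ≤ r := by
    have hle1 : maximalIdeal A ≤ (maximalIdeal (EGA4.Cpl A)).comap (algebraMap A (EGA4.Cpl A)) := by
      rw [← Ideal.map_le_iff_le_comap, hmax]
    have hle2 : q ≤ M.comap (algebraMap C (C ⊗[A] EGA4.Cpl A)) := hMq.ge
    letI := (Ideal.quotientMap M (psi A C) (le_of_eq hMm.symm)).toAlgebra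
    haveI : Nontrivial (EGA4.Cpl A ⧸ maximalIdeal (EGA4.Cpl A)) :=
      Ideal.Quotient.nontrivial_iff.mpr (maximalIdeal.isMaximal _).ne_top
    have key := trdeg_le_of_surjective_of_injective
      (R := A ⧸ maximalIdeal A) (S := EGA4.Cpl A ⧸ maximalIdeal (EGA4.Cpl A))
      (A := C ⧸ q) (B := (C ⊗[A] EGA4.Cpl A) ⧸ M)
      (Ideal.quotientMap (maximalIdeal (EGA4.Cpl A)) (algebraMap A (EGA4.Cpl A)) hle1)
      (Ideal.quotientMap M (algebraMap C (C ⊗[A] EGA4.Cpl A)) hle2)
      (by
        intro y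
        obtain ⟨x, rfl⟩ := Ideal.Quotient.mk_surjective y
        obtain ⟨a₀, ha₀⟩ := exists_sub_mem_maximalIdeal_cpl A x
        refine ⟨Ideal.Quotient.mk _ a₀, ?_⟩
        rw [Ideal.quotientMap_mk, eq_comm]
        exact Ideal.Quotient.eq.mpr ha₀)
      (Ideal.quotientMap_injective' hMq.le)
      (by
        apply Ideal.Quotient.ringHom_ext
        ext a₀
        show Ideal.Quotient.mk M (psi A C (algebraMap A (EGA4.Cpl A) a₀)) =
          Ideal.Quotient.mk M (algebraMap C (C ⊗[A] EGA4.Cpl A) (algebraMap A C a₀))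
        rw [psi_algebraMap])
    rw [hrq, hr] at key
    exact_mod_cast key
  -- `r0 ≤ rS`
  have hr0S : r0 ≤ rS := by
    letI := (Ideal.quotientMap q0 (psi A C) (le_of_eq (rfl : q0.comap (psi A C) = _))).toAlgebra
    haveI : IsDomain ((C ⊗[A] EGA4.Cpl A) ⧸ q0) := Ideal.Quotient.isDomain q0
    have key := trdeg_le_of_adjoin_range_eq_top
      (R₀ := A) (S₀ := C) (R₁ := EGA4.Cpl A ⧸ q0.comap (psi A C))
      (E := (C ⊗[A] EGA4.Cpl A) ⧸ q0)
      ((Ideal.Quotient.mk (q0.comap (psi A C))).comp (algebraMap A (EGA4.Cpl A)))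
      ((Ideal.Quotient.mk q0).comp (algebraMap C (C ⊗[A] EGA4.Cpl A)))
      (by
        rw [RingHom.injective_iff_ker_eq_bot, ← RingHom.comap_ker, Ideal.mk_ker]
        exact hq0C)
      (by
        ext a₀
        show Ideal.Quotient.mk q0 (psi A C (algebraMap A (EGA4.Cpl A) a₀)) =
          Ideal.Quotient.mk q0 (algebraMap C (C ⊗[A] EGA4.Cpl A) (algebraMap A C a₀))
        rw [psi_algebraMap])
      (by
        rw [eq_top_iff]
        rintro y -
        obtain ⟨t, rfl⟩ := Ideal.Quotient.mk_surjective y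
        induction t using TensorProduct.induction_on with
        | zero => rw [map_zero]; exact Subalgebra.zero_mem _
        | tmul c x =>
          have h1 : (c ⊗ₜ[A] x : C ⊗[A] EGA4.Cpl A) =
              algebraMap C (C ⊗[A] EGA4.Cpl A) c * psi A C x := by
            rw [Algebra.TensorProduct.algebraMap_apply]
            show c ⊗ₜ[A] x = (algebraMap C C c ⊗ₜ[A] (1 : EGA4.Cpl A)) * ((1 : C) ⊗ₜ[A] x)
            rw [Algebra.TensorProduct.tmul_mul_tmul, one_mul, mul_one]
            rfl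
          rw [h1, map_mul]
          apply Subalgebra.mul_mem
          · exact Algebra.subset_adjoin ⟨c, rfl⟩
          · have : Ideal.Quotient.mk q0 (psi A C x) =
                algebraMap (EGA4.Cpl A ⧸ q0.comap (psi A C)) ((C ⊗[A] EGA4.Cpl A) ⧸ q0)
                  (Ideal.Quotient.mk _ x) := rfl
            rw [this]
            exact Subalgebra.algebraMap_mem _ _
        | add t₁ t₂ h₁ h₂ => rw [map_add]; exact Subalgebra.add_mem _ h₁ h₂)
    rw [hr0, hrS] at key
    exact_mod_cast key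
  -- `p̂ = ⊥`
  have hp0 : q0.comap (psi A C) = ⊥ := by
    by_contra hne
    haveI : (q0.comap (psi A C)).IsPrime := Ideal.comap_isPrime _ _
    have hcat : CAlg.IsCatenary (EGA4.Cpl A) := isCatenary_of_complete (EGA4.Cpl A)
    have hle : q0.comap (psi A C) ≤ maximalIdeal (EGA4.Cpl A) :=
      le_maximalIdeal (Ideal.IsPrime.ne_top inferInstance)
    have h1 := Groth.Agent.CatHtH8.height_add_height_map_mk_eq hcat (q0.comap (psi A C))
      (maximalIdeal (EGA4.Cpl A)) hle
    have h2 : 1 ≤ (q0.comap (psi A C)).height := by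
      rw [ENat.one_le_iff_ne_zero, Ne, Ideal.height_eq_zero_iff_eq_bot]
      exact hne
    have h3 : (maximalIdeal (EGA4.Cpl A)).height = (maximalIdeal A).height := by
      have e1 := IsLocalRing.maximalIdeal_height_eq_ringKrullDim (R := EGA4.Cpl A)
      have e2 := IsLocalRing.maximalIdeal_height_eq_ringKrullDim (R := A)
      have e3 := Groth.Agent.RegularLib.ringKrullDim_adicCompletion A (maximalIdeal A)
        (maximalIdeal.isMaximal A).ne_top
      have e4 : ((maximalIdeal (EGA4.Cpl A)).height : WithBot ℕ∞) =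
          ((maximalIdeal A).height : WithBot ℕ∞) := by rw [e1, e2]; exact e3
      exact_mod_cast e4
    rw [hb, h3, hb'] at h1
    have h4 : (1 : ℕ∞) + (b : ℕ∞) ≤ (b' : ℕ∞) := by
      rw [← h1]; exact add_le_add_left h2 _
    have h5 : 1 + b ≤ b' := by exact_mod_cast h4
    omega
  intro x hx
  obtain ⟨s, hs⟩ := (IsLocalization.map_eq_zero_iff M.primeCompl (Localization.AtPrime M) _).mp hx
  have h1 : (s : C ⊗[A] EGA4.Cpl A) * psi A C x ∈ q0 := by rw [hs]; exact q0.zero_mem
  have h2 : psi A C x ∈ q0 :=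
    (hq0p.mem_or_mem h1).resolve_left (fun h => s.2 (hq0M h))
  have h3 : x ∈ q0.comap (psi A C) := h2
  rw [hp0] at h3
  exact h3

end Main

end Groth.Agent.Lib.ZarSubH3
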