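import Mathlib
import Groth.Agent.Lib.ZarSub2_helper3
import Groth.Agent.Lib.Henselization8_helper3

/-!
# Ratliff's theorem, part 1: general lemmas (helper3)

* `exists_annihilator_radical`: for a minimal prime `Q` of a Noetherian ring there is `z ∉ Q` with
  `Q ≤ rad (Ann z)`.
* `eq_or_eq_of_dim_one`: primes above a prime of coheight one.
* `exists_pow_le_sup`: `(z) + Q` is primary to the maximal ideal.
* `map_comap_of_pow_le`: open ideals of the completion are extended from the ring.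
-/

set_option autoImplicit false
set_option maxSynthPendingDepth 3
universe u

namespace Groth.Agent.Lib.RatliffH3

open IsLocalRing TensorProduct

section General

variable {B : Type u} [CommRing B]

theorem exists_notMem_mul_pow_eq_zero (Q : Ideal B) (hQ : Q ∈ minimalPrimes B) (y : B)
    (hy : y ∈ Q) : ∃ s, s ∉ Q ∧ ∃ e : ℕ, s * y ^ e = 0 := by
  haveI := hQ.1.1
  haveI : IsLocalRing (Localization.AtPrime Q) := inferInstance
  haveI := IsLocalization.subsingleton_primeSpectrum_of_mem_minimalPrimes Q hQ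
    (Localization.AtPrime Q)
  have h1 : algebraMap B (Localization.AtPrime Q) y ∈ nilradical (Localization.AtPrime Q) := by
    rw [nilradical_eq_sInf, Ideal.mem_sInf]
    intro P hP
    haveI : P.IsPrime := hP
    have h2 : (⟨P, hP⟩ : PrimeSpectrum (Localization.AtPrime Q)) =
        ⟨maximalIdeal _, (maximalIdeal.isMaximal _).isPrime⟩ := Subsingleton.elim _ _
    have h3 : P = maximalIdeal (Localization.AtPrime Q) := congrArg PrimeSpectrum.asIdeal h2
    rw [h3, IsLocalization.AtPrime.to_map_mem_maximal_iff (Localization.AtPrime Q) Q]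
    exact hy
  obtain ⟨e, he⟩ := mem_nilradical.mp h1
  rw [← map_pow, IsLocalization.map_eq_zero_iff Q.primeCompl] at he
  obtain ⟨s, hs⟩ := he
  exact ⟨s.1, s.2, e, hs⟩

theorem exists_annihilator_radical [IsNoetherianRing B] (Q : Ideal B) (hQ : Q ∈ minimalPrimes B) :
    ∃ z, z ∉ Q ∧ Q ≤ ((Ideal.span {z}).annihilator).radical := by
  classical
  haveI := hQ.1.1
  obtain ⟨l, y, hy⟩ := (Submodule.fg_iff_exists_fin_generating_family).mp
    (IsNoetherian.noetherian Q)
  have hyQ : ∀ j, y j ∈ Q := fun j => by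
    have : y j ∈ Submodule.span B (Set.range y) := Submodule.subset_span ⟨j, rfl⟩
    rw [hy] at this
    exact this
  choose s hsQ e he using fun j => exists_notMem_mul_pow_eq_zero Q hQ (y j) (hyQ j)
  refine ⟨∏ j, s j, ?_, ?_⟩
  · intro h
    rw [Ideal.IsPrime.prod_mem_iff] at h
    obtain ⟨j, -, hj⟩ := h
    exact hsQ j hj
  · have hy' : Ideal.span (Set.range y) = Q := hy
    rw [← hy', Ideal.span_le]
    rintro _ ⟨j, rfl⟩
    refine ⟨e j, ?_⟩
    rw [Submodule.mem_annihilator_span_singleton, smul_eq_mul]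
    have : ∏ i, s i = s j * ∏ i ∈ Finset.univ.erase j, s i :=
      (Finset.mul_prod_erase _ _ (Finset.mem_univ j)).symm
    rw [this, mul_comm (y j ^ e j), mul_comm (s j), mul_assoc, he j, mul_zero]

end General

section Local

variable {B : Type u} [CommRing B] [IsLocalRing B] [IsNoetherianRing B]

theorem eq_or_eq_of_dim_one (Q : Ideal B) [Q.IsPrime] (hdim : ringKrullDim (B ⧸ Q) = 1)
    (P : Ideal B) [P.IsPrime] (hQP : Q ≤ P) : P = Q ∨ P = maximalIdeal B := by
  by_contra hcon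
  push Not at hcon
  obtain ⟨h1, h2⟩ := hcon
  have hlt1 : Q < P := lt_of_le_of_ne hQP (Ne.symm h1)
  have hlt2 : P < maximalIdeal B := lt_of_le_of_ne (le_maximalIdeal (Ideal.IsPrime.ne_top ‹_›)) h2
  have hker : RingHom.ker (Ideal.Quotient.mk Q) ≤ P := by rw [Ideal.mk_ker]; exact hQP
  have hkerm : RingHom.ker (Ideal.Quotient.mk Q) ≤ maximalIdeal B := hker.trans hlt2.le
  haveI hPp : (P.map (Ideal.Quotient.mk Q)).IsPrime :=
    Ideal.map_isPrime_of_surjective Ideal.Quotient.mk_surjective hker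
  haveI hmp : ((maximalIdeal B).map (Ideal.Quotient.mk Q)).IsPrime :=
    Ideal.map_isPrime_of_surjective Ideal.Quotient.mk_surjective hkerm
  have hcm : ∀ J : Ideal B, RingHom.ker (Ideal.Quotient.mk Q) ≤ J →
      (J.map (Ideal.Quotient.mk Q)).comap (Ideal.Quotient.mk Q) = J := by
    intro J hJ
    rw [Ideal.comap_map_of_surjective _ Ideal.Quotient.mk_surjective, ← RingHom.ker_eq_comap_bot]
    exact sup_eq_left.mpr hJ
  have hlt1' : (⊥ : Ideal (B ⧸ Q)) < P.map (Ideal.Quotient.mk Q) := by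
    rw [bot_lt_iff_ne_bot]
    intro h0
    have := hcm P hker
    rw [h0, ← RingHom.ker_eq_comap_bot, Ideal.mk_ker] at this
    exact h1 this.symm
  have hlt2' : P.map (Ideal.Quotient.mk Q) < (maximalIdeal B).map (Ideal.Quotient.mk Q) := by
    refine lt_of_le_of_ne (Ideal.map_mono hlt2.le) fun h => ?_
    have h3 := hcm P hker
    rw [h, hcm _ hkerm] at h3
    exact h2 h3.symm
  haveI : (⊥ : Ideal (B ⧸ Q)).IsPrime := Ideal.bot_prime
  have h4 := Ideal.height_add_one_le_of_lt_of_isPrime hlt1'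
  have h5 := Ideal.height_add_one_le_of_lt_of_isPrime hlt2'
  have h6 : (((maximalIdeal B).map (Ideal.Quotient.mk Q)).height : WithBot ℕ∞) ≤
      ringKrullDim (B ⧸ Q) := Ideal.height_le_ringKrullDim_of_isPrime
  rw [hdim] at h6
  have h7 : ((maximalIdeal B).map (Ideal.Quotient.mk Q)).height ≤ 1 := by exact_mod_cast h6
  have h8 : (2 : ℕ∞) ≤ ((maximalIdeal B).map (Ideal.Quotient.mk Q)).height := by
    calc (2 : ℕ∞) = 0 + 1 + 1 := by norm_num
      _ ≤ (⊥ : Ideal (B ⧸ Q)).height + 1 + 1 := by gcongr; simp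
      _ ≤ (P.map (Ideal.Quotient.mk Q)).height + 1 := by gcongr
      _ ≤ _ := h5
  have : (2 : ℕ∞) ≤ 1 := h8.trans h7
  exact absurd this (by norm_num)

theorem exists_pow_le_sup (Q : Ideal B) [Q.IsPrime] (hdim : ringKrullDim (B ⧸ Q) = 1)
    (z : B) (hz : z ∉ Q) : ∃ c : ℕ, maximalIdeal B ^ c ≤ Ideal.span {z} ⊔ Q := by
  apply Ideal.exists_pow_le_of_le_radical_of_fg _ (IsNoetherian.noetherian _)
  rw [Ideal.radical_eq_sInf]
  apply le_sInf
  rintro P ⟨hle, hP⟩
  haveI := hP
  have hQP : Q ≤ P := le_sup_right.trans hle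
  rcases eq_or_eq_of_dim_one Q hdim P hQP with h | h
  · exfalso
    apply hz
    rw [← h]
    exact hle (Ideal.mem_sup_left (Ideal.subset_span rfl))
  · rw [h]

end Local

section Cpl

variable (R : Type u) [CommRing R] [IsLocalRing R] [IsNoetherianRing R]

theorem exists_sub_mem_map_pow (c : ℕ) (x : EGA4.Cpl R) :
    ∃ a : R, x - algebraMap R (EGA4.Cpl R) a ∈
      (maximalIdeal R ^ c).map (algebraMap R (EGA4.Cpl R)) := by
  obtain ⟨hloc, hnoeth, hcompl, hff, hlh, hmax⟩ := Groth.Agent.Lib.AnUnramH3.completion_facts R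
  haveI := hloc
  haveI := hff
  have hb := (Groth.Agent.Lib.HenselizationH3.quotientMap_pow_bijective_of R (EGA4.Cpl R) hmax
    (Groth.Agent.Lib.ZarSubH3.exists_sub_mem_maximalIdeal_cpl R) c).2
  obtain ⟨abar, ha⟩ := hb (Ideal.Quotient.mk _ x)
  obtain ⟨a, rfl⟩ := Ideal.Quotient.mk_surjective abar
  refine ⟨a, ?_⟩
  rw [Ideal.quotientMap_mk] at ha
  exact Ideal.Quotient.eq.mp ha.symm

theorem map_comap_of_pow_le (J : Ideal (EGA4.Cpl R)) (c : ℕ)
    (hc : maximalIdeal (EGA4.Cpl R) ^ c ≤ J) :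
    (J.comap (algebraMap R (EGA4.Cpl R))).map (algebraMap R (EGA4.Cpl R)) = J := by
  obtain ⟨hloc, hnoeth, hcompl, hff, hlh, hmax⟩ := Groth.Agent.Lib.AnUnramH3.completion_facts R
  apply le_antisymm Ideal.map_comap_le
  intro x hx
  obtain ⟨a, ha⟩ := exists_sub_mem_map_pow R c x
  have hpow : (maximalIdeal R ^ c).map (algebraMap R (EGA4.Cpl R)) =
      maximalIdeal (EGA4.Cpl R) ^ c := by rw [Ideal.map_pow, hmax]
  have h1 : x - algebraMap R (EGA4.Cpl R) a ∈ J := hc (hpow ▸ ha)
  have h2 : algebraMap R (EGA4.Cpl R) a ∈ J := by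
    have := J.sub_mem hx h1
    rwa [sub_sub_cancel] at this
  have h3 : algebraMap R (EGA4.Cpl R) a ∈
      (J.comap (algebraMap R (EGA4.Cpl R))).map (algebraMap R (EGA4.Cpl R)) :=
    Ideal.mem_map_of_mem _ h2
  have h4 : (maximalIdeal R ^ c).map (algebraMap R (EGA4.Cpl R)) ≤
      (J.comap (algebraMap R (EGA4.Cpl R))).map (algebraMap R (EGA4.Cpl R)) := by
    apply Ideal.map_mono
    rw [← Ideal.map_le_iff_le_comap, hpow]
    exact hc
  have := Ideal.add_mem _ (h4 ha) h3
  rwa [sub_add_cancel] at this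

end Cpl

end Groth.Agent.Lib.RatliffH3
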