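import Mathlib
import Groth.Agent.Lib.Ratliff1_helper3
import Groth.Agent.Lib.Unibranch3_helper3

/-!
# Ratliff's theorem, part 2: the one-dimensional case (helper3)

If `R` is a universally catenary Noetherian local domain and its completion has a minimal prime
of coheight one, then `dim R ≤ 1`.
-/

set_option autoImplicit false
set_option maxSynthPendingDepth 3
universe u

namespace Groth.Agent.Lib.RatliffH3

open IsLocalRing TensorProduct Groth.Agent.EquiCat9

section Abstract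

theorem eq_of_comap_eq {B D : Type*} [CommRing B] [CommRing D] (ρ : B →+* D) (N : Ideal D)
    (hN : ∀ d : D, ∃ a : B, d - ρ a ∈ N) (P₁ P₂ : Ideal D) (h₁ : N ≤ P₁) (h₂ : N ≤ P₂)
    (h : P₁.comap ρ = P₂.comap ρ) : P₁ = P₂ := by
  have key : ∀ (P P' : Ideal D), N ≤ P → N ≤ P' → P.comap ρ = P'.comap ρ → P ≤ P' := by
    intro P P' hP hP' hc d hd
    obtain ⟨a, ha⟩ := hN d
    have h1 : ρ a ∈ P := by
      have := P.sub_mem hd (hP ha)
      rwa [sub_sub_cancel] at this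
    have h2 : a ∈ P'.comap ρ := hc ▸ (show a ∈ P.comap ρ from h1)
    have := P'.add_mem (hP' ha) (show ρ a ∈ P' from h2)
    rwa [sub_add_cancel] at this
  exact le_antisymm (key _ _ h₁ h₂ h) (key _ _ h₂ h₁ h.symm)

theorem height_le_one_of_forall {D : Type*} [CommRing D] (M K : Ideal D) [M.IsPrime] [K.IsPrime]
    (hKM : K ≤ M) (h : ∀ P : Ideal D, P.IsPrime → P ≤ M → P = K ∨ P = M) : M.height ≤ 1 := by
  have h1 : M.height ≤ ((1 : ℕ) : ℕ∞) := by
    rw [Ideal.height_le_iff]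
    intro P hP hPM
    haveI := hP
    rcases h P hP hPM.le with h2 | h2
    · have : P.height ≤ ((0 : ℕ) : ℕ∞) := by
        rw [Ideal.height_le_iff]
        intro P' hP' hP'K
        exfalso
        rw [h2] at hP'K
        rcases h P' hP' (hP'K.le.trans hKM) with h3 | h3
        · rw [h3] at hP'K; exact lt_irrefl _ hP'K
        · rw [h3] at hP'K; exact lt_irrefl _ (hP'K.trans_le hKM)
      have h0 : P.height = 0 := le_antisymm (by simpa using this) (by simp)
      rw [h0]; norm_num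
    · rw [h2] at hPM; exact absurd hPM (lt_irrefl _)
  simpa using h1

end Abstract

section DimOne

variable (R : Type u) [CommRing R] [IsLocalRing R] [IsNoetherianRing R]

/-- Stage A: choice of the elements. -/
theorem exists_data (Q : Ideal (EGA4.Cpl R)) (hQ : Q ∈ minimalPrimes (EGA4.Cpl R))
    (hdim : ringKrullDim (EGA4.Cpl R ⧸ Q) = 1) :
    ∃ (z : EGA4.Cpl R) (r : ℕ) (ι : Fin r → R) (a t : Fin r → EGA4.Cpl R) (g : R)
      (v : EGA4.Cpl R),
      z ∉ Q ∧ Q ≤ ((Ideal.span {z}).annihilator).radical ∧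
      (∑ i, a i * algebraMap R (EGA4.Cpl R) (ι i) = z) ∧ IsUnit v ∧
      z - v * algebraMap R (EGA4.Cpl R) g ∈ Q ∧
      ∀ i, algebraMap R (EGA4.Cpl R) (ι i) - algebraMap R (EGA4.Cpl R) g * t i ∈ Q := by
  classical
  obtain ⟨hloc, hnoeth, hcompl, hff, hlh, hmax⟩ := Groth.Agent.Lib.AnUnramH3.completion_facts R
  haveI := hloc
  haveI := hnoeth
  haveI hQp : Q.IsPrime := hQ.1.1
  obtain ⟨z, hzQ, hzann⟩ := exists_annihilator_radical Q hQ
  obtain ⟨c, hc⟩ := exists_pow_le_sup Q hdim z hzQ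
  obtain ⟨I, hI⟩ : ∃ I : Ideal (EGA4.Cpl R), I = Ideal.span {z} ⊔ Q := ⟨_, rfl⟩
  have hImap := map_comap_of_pow_le R I c (hI ▸ hc)
  obtain ⟨r, ι, hι⟩ := (Submodule.fg_iff_exists_fin_generating_family).mp
    (IsNoetherian.noetherian (I.comap (algebraMap R (EGA4.Cpl R))))
  have hι' : Ideal.span (Set.range ι) = I.comap (algebraMap R (EGA4.Cpl R)) := hι
  have hIspan : I = Ideal.span (Set.range fun i => algebraMap R (EGA4.Cpl R) (ι i)) := by
    rw [← hImap, ← hι', Ideal.map_span, ← Set.range_comp]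
    rfl
  have hιI : ∀ i, algebraMap R (EGA4.Cpl R) (ι i) ∈ I := fun i => by
    rw [hIspan]; exact Ideal.subset_span ⟨i, rfl⟩
  have hzI : z ∈ I := by rw [hI]; exact Ideal.mem_sup_left (Ideal.subset_span rfl)
  obtain ⟨a, ha⟩ := (Ideal.mem_span_range_iff_exists_fun).mp (hIspan ▸ hzI)
  choose b hb using fun i => Groth.Agent.Lib.ZarSubH3.exists_sub_mem_maximalIdeal_cpl R (a i)
  obtain ⟨g, hg⟩ : ∃ g : R, g = ∑ i, b i * ι i := ⟨_, rfl⟩
  -- `z - g ∈ m̂ I`
  have h1 : z - algebraMap R (EGA4.Cpl R) g ∈ maximalIdeal (EGA4.Cpl R) * I := by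
    have : z - algebraMap R (EGA4.Cpl R) g =
        ∑ i, (a i - algebraMap R (EGA4.Cpl R) (b i)) * algebraMap R (EGA4.Cpl R) (ι i) := by
      rw [← ha, hg, map_sum, ← Finset.sum_sub_distrib]
      apply Finset.sum_congr rfl
      intro i _
      rw [map_mul]; ring
    rw [this]
    exact Ideal.sum_mem _ fun i _ => Ideal.mul_mem_mul (hb i) (hιI i)
  have h2 : maximalIdeal (EGA4.Cpl R) * I ≤ maximalIdeal (EGA4.Cpl R) * Ideal.span {z} ⊔ Q := by
    rw [hI, Ideal.mul_sup]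
    exact sup_le_sup le_rfl Ideal.mul_le_right
  obtain ⟨x1, hx1, y, hy, hxy⟩ := Submodule.mem_sup.mp (h2 h1)
  obtain ⟨μ, hμ, hμz⟩ := Ideal.mem_mul_span_singleton.mp hx1
  have hunit : IsUnit (1 - μ) := by
    have h3 : ¬ IsUnit μ := (mem_maximalIdeal μ).mp hμ
    have h4 := (IsLocalRing.isUnit_or_isUnit_of_add_one (a := μ) (b := 1 - μ) (by ring))
    exact h4.resolve_left h3
  obtain ⟨v, hv⟩ := hunit.exists_left_inv
  have hvunit : IsUnit v := IsUnit.of_mul_eq_one (1 - μ) hv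
  -- `alg g = (1 - μ) z - y`
  have hgeq : algebraMap R (EGA4.Cpl R) g = (1 - μ) * z - y := by
    have : z - algebraMap R (EGA4.Cpl R) g = μ * z + y := by rw [hμz, hxy]
    linear_combination -this
  have hzv : z - v * algebraMap R (EGA4.Cpl R) g ∈ Q := by
    have : z - v * algebraMap R (EGA4.Cpl R) g = v * y := by
      rw [hgeq]
      linear_combination (-z) * hv
    rw [this]
    exact Q.mul_mem_left _ hy
  -- the `t i`
  have hw : ∀ i, ∃ w : EGA4.Cpl R, algebraMap R (EGA4.Cpl R) (ι i) - w * z ∈ Q := by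
    intro i
    have := hιI i
    rw [hI] at this
    obtain ⟨x2, hx2, y2, hy2, hxy2⟩ := Submodule.mem_sup.mp this
    obtain ⟨w, rfl⟩ := Ideal.mem_span_singleton'.mp hx2
    refine ⟨w, ?_⟩
    rw [← hxy2, add_sub_cancel_left]
    exact hy2
  choose w hw using hw
  refine ⟨z, r, ι, a, fun i => w i * v, g, v, hzQ, hzann, ha, hvunit, hzv, fun i => ?_⟩
  have : algebraMap R (EGA4.Cpl R) (ι i) - algebraMap R (EGA4.Cpl R) g * (w i * v) =
      (algebraMap R (EGA4.Cpl R) (ι i) - w i * z) +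
        w i * (z - v * algebraMap R (EGA4.Cpl R) g) := by ring
  rw [this]
  exact Q.add_mem (hw i) (Q.mul_mem_left _ hzv)

end DimOne

section StageB

/-- Stage B: the height-one prime of the finitely generated subalgebra. -/
theorem exists_height_le_one {R B : Type u} [CommRing R] [CommRing B] [Algebra R B]
    [IsLocalRing B] [IsNoetherianRing B] [Module.Flat R B] (Q : Ideal B) [Q.IsPrime]
    (hdim : ringKrullDim (B ⧸ Q) = 1)
    (z : B) (r : ℕ) (ι : Fin r → R) (a t : Fin r → B) (g : R) (v : B)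
    (hzQ : z ∉ Q) (hzann : Q ≤ ((Ideal.span {z}).annihilator).radical)
    (hza : ∑ i, a i * algebraMap R B (ι i) = z) (hv : IsUnit v)
    (hzv : z - v * algebraMap R B g ∈ Q)
    (ht : ∀ i, algebraMap R B (ι i) - algebraMap R B g * t i ∈ Q)
    (S : Subalgebra R (B ⧸ Q))
    (hS : S = Algebra.adjoin R (Set.range fun i => Ideal.Quotient.mk Q (t i)))
    [IsNoetherianRing S] [IsNoetherianRing (S ⊗[R] B)] :
    (((maximalIdeal B).map (Ideal.Quotient.mk Q)).comap S.val).height ≤ 1 := by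
  classical
  have hQm : Q ≤ maximalIdeal B := le_maximalIdeal (Ideal.IsPrime.ne_top ‹_›)
  obtain ⟨mT, hmT⟩ : ∃ mT : Ideal (B ⧸ Q), mT = (maximalIdeal B).map (Ideal.Quotient.mk Q) :=
    ⟨_, rfl⟩
  rw [← hmT]
  have hker : RingHom.ker (Ideal.Quotient.mk Q) ≤ maximalIdeal B := by
    rw [Ideal.mk_ker]; exact hQm
  haveI hmTp : mT.IsPrime := by
    rw [hmT]; exact Ideal.map_isPrime_of_surjective Ideal.Quotient.mk_surjective hker
  have hmTcomap : mT.comap (Ideal.Quotient.mk Q) = maximalIdeal B := by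
    rw [hmT, Ideal.comap_map_of_surjective _ Ideal.Quotient.mk_surjective,
      ← RingHom.ker_eq_comap_bot]
    exact sup_eq_left.mpr hker
  have hgQ : algebraMap R B g ∉ Q := by
    intro h
    apply hzQ
    have := Q.add_mem hzv (Q.mul_mem_left v h)
    rwa [sub_add_cancel] at this
  have hgT : Ideal.Quotient.mk Q (algebraMap R B g) ≠ 0 := fun h =>
    hgQ (Ideal.Quotient.eq_zero_iff_mem.mp h)
  -- the elements of `S`
  have htb : ∀ i, Ideal.Quotient.mk Q (t i) ∈ S := fun i => by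
    rw [hS]; exact Algebra.subset_adjoin ⟨i, rfl⟩
  obtain ⟨s, hs⟩ : ∃ s : Fin r → S, ∀ i, (s i : B ⧸ Q) = Ideal.Quotient.mk Q (t i) :=
    ⟨fun i => ⟨_, htb i⟩, fun i => rfl⟩
  have hcoe : ∀ x : R, ((algebraMap R S x : S) : B ⧸ Q) = Ideal.Quotient.mk Q (algebraMap R B x) :=
    fun x => rfl
  have hgs : ∀ i, algebraMap R S g * s i = algebraMap R S (ι i) := by
    intro i
    apply Subtype.ext
    have h1 := Ideal.Quotient.eq_zero_iff_mem.mpr (ht i)
    rw [map_sub, map_mul, sub_eq_zero] at h1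
    rw [MulMemClass.coe_mul, hcoe, hcoe, hs]
    exact h1.symm
  have hgS : algebraMap R S g ≠ 0 := by
    intro h
    apply hgT
    have := congrArg Subtype.val h
    rw [hcoe] at this
    exact this
  have hmove : ∀ (x : R) (b : B),
      (algebraMap R S x) ⊗ₜ[R] b = (1 : S) ⊗ₜ[R] (algebraMap R B x * b) := by
    intro x b
    rw [Algebra.algebraMap_eq_smul_one, TensorProduct.smul_tmul, Algebra.smul_def]
  -- the map to the quotient
  obtain ⟨χ, hχ⟩ : ∃ χ : S ⊗[R] B →ₐ[R] B ⧸ Q,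
      ∀ (x : S) (b : B), χ (x ⊗ₜ b) = (x : B ⧸ Q) * Ideal.Quotient.mk Q b :=
    ⟨Algebra.TensorProduct.lift S.val (Ideal.Quotient.mkₐ R Q) (fun _ _ => Commute.all _ _),
      fun x b => by rw [Algebra.TensorProduct.lift_tmul]; rfl⟩
  obtain ⟨M', hM'⟩ : ∃ M' : Ideal (S ⊗[R] B), M' = mT.comap χ := ⟨_, rfl⟩
  obtain ⟨K, hK⟩ : ∃ K : Ideal (S ⊗[R] B), K = RingHom.ker χ := ⟨_, rfl⟩
  haveI hM'p : M'.IsPrime := by rw [hM']; exact Ideal.comap_isPrime _ _
  haveI hKp : K.IsPrime := by rw [hK]; exact RingHom.ker_isPrime _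
  have hKM' : K ≤ M' := by
    rw [hK, hM']
    intro x hx
    rw [Ideal.mem_comap, RingHom.mem_ker.mp hx]
    exact zero_mem _
  -- regularity of `g`
  obtain ⟨G, hG⟩ : ∃ G : S ⊗[R] B, G = (algebraMap R S g) ⊗ₜ[R] (1 : B) := ⟨_, rfl⟩
  have hGreg : ∀ x : S ⊗[R] B, G * x = 0 → x = 0 := by
    intro x hx
    have h1 : IsSMulRegular (S ⊗[R] B) (algebraMap R S g) :=
      Module.Flat.isSMulRegular_of_nonZeroDivisors (mem_nonZeroDivisors_of_ne_zero hgS)
    have h2 : algebraMap R S g • x = algebraMap R S g • (0 : S ⊗[R] B) := by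
      rw [smul_zero, Algebra.smul_def, Algebra.TensorProduct.algebraMap_apply,
        Algebra.algebraMap_self_apply, ← hG]
      exact hx
    exact h1 h2
  have hGpow : ∀ (k : ℕ) (x : S ⊗[R] B), G ^ k * x = 0 → x = 0 := by
    intro k
    induction k with
    | zero => intro x hx; simpa using hx
    | succ k ih =>
      intro x hx
      apply ih
      apply hGreg
      rw [← mul_assoc, ← pow_succ']
      exact hx
  -- the element `u`
  obtain ⟨u, hu⟩ : ∃ u : S ⊗[R] B, u = ∑ i, s i ⊗ₜ[R] a i := ⟨_, rfl⟩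
  have hGu : G * u = (1 : S) ⊗ₜ[R] z := by
    rw [hu, hG, Finset.mul_sum, ← hza, TensorProduct.tmul_sum]
    apply Finset.sum_congr rfl
    intro i _
    rw [Algebra.TensorProduct.tmul_mul_tmul, one_mul, hgs i, hmove, mul_comm]
  have hχG : χ G = Ideal.Quotient.mk Q (algebraMap R B g) := by
    rw [hG, hχ, map_one, mul_one, hcoe]
  have hχu : χ u = Ideal.Quotient.mk Q v := by
    have h1 : χ (G * u) = Ideal.Quotient.mk Q z := by
      rw [hGu, hχ, OneMemClass.coe_one, one_mul]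
    rw [map_mul, hχG] at h1
    have h2 : Ideal.Quotient.mk Q z =
        Ideal.Quotient.mk Q v * Ideal.Quotient.mk Q (algebraMap R B g) := by
      rw [← map_mul]; exact Ideal.Quotient.eq.mpr hzv
    rw [h2, mul_comm] at h1
    exact mul_right_cancel₀ hgT h1
  have huM' : u ∉ M' := by
    rw [hM', Ideal.mem_comap, hχu]
    intro h
    have : v ∈ mT.comap (Ideal.Quotient.mk Q) := h
    rw [hmTcomap] at this
    exact (mem_maximalIdeal v).mp this hv
  -- the key claim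
  have hkey : ∀ (P : Ideal (S ⊗[R] B)), P.IsPrime → P ≤ M' →
      ∀ (w : S ⊗[R] B) (k : ℕ) (y : B), y ∈ Q → G ^ k * w = (1 : S) ⊗ₜ[R] y → w ∈ P := by
    intro P hP hPM w k y hy hw
    obtain ⟨e, he⟩ := hzann hy
    rw [Submodule.mem_annihilator_span_singleton, smul_eq_mul] at he
    have h1 : (G ^ k * w) ^ e * (G * u) = 0 := by
      rw [hw, hGu, Algebra.TensorProduct.tmul_pow, one_pow, Algebra.TensorProduct.tmul_mul_tmul,
        one_mul, he, TensorProduct.tmul_zero]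
    have h2 : G ^ (k * e + 1) * (w ^ e * u) = 0 := by
      rw [← h1]; ring
    have h3 := hGpow _ _ h2
    have h4 : w ^ e * u ∈ P := h3 ▸ P.zero_mem
    rcases hP.mem_or_mem h4 with h5 | h5
    · exact hP.mem_of_pow_mem e h5
    · exact absurd (hPM h5) huM'
  obtain ⟨ε, hε⟩ : ∃ ε : Fin r → S ⊗[R] B,
      ∀ i, ε i = s i ⊗ₜ[R] (1 : B) - (1 : S) ⊗ₜ[R] t i := ⟨_, fun i => rfl⟩
  have hGε : ∀ i, G ^ 1 * ε i =
      (1 : S) ⊗ₜ[R] (algebraMap R B (ι i) - algebraMap R B g * t i) := by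
    intro i
    rw [pow_one, hε, hG, mul_sub, Algebra.TensorProduct.tmul_mul_tmul,
      Algebra.TensorProduct.tmul_mul_tmul, mul_one, one_mul, mul_one, hgs i,
      TensorProduct.tmul_sub, hmove, hmove, mul_one]
  obtain ⟨N, hN⟩ : ∃ N : Ideal (S ⊗[R] B),
      N = Ideal.span ({d | ∃ y ∈ Q, d = (1 : S) ⊗ₜ[R] y} ∪ Set.range ε) := ⟨_, rfl⟩
  have hNP : ∀ (P : Ideal (S ⊗[R] B)), P.IsPrime → P ≤ M' → N ≤ P := by
    intro P hP hPM
    rw [hN, Ideal.span_le]
    rintro d (⟨y, hy, rfl⟩ | ⟨i, rfl⟩)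
    · exact hkey P hP hPM _ 0 y hy (by rw [pow_zero, one_mul])
    · exact hkey P hP hPM _ 1 _ (ht i) (hGε i)
  -- every element is congruent to an element of `B`
  have hmem : ∀ y : B ⧸ Q,
      y ∈ Algebra.adjoin R (Set.range fun i => Ideal.Quotient.mk Q (t i)) → y ∈ S :=
    fun y hy => hS ▸ hy
  have hA : ∀ x : S, ∃ b : B, x ⊗ₜ[R] (1 : B) - (1 : S) ⊗ₜ[R] b ∈ N := by
    intro x
    have hx : x.1 ∈ Algebra.adjoin R (Set.range fun i => Ideal.Quotient.mk Q (t i)) :=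
      hS ▸ x.2
    have := Algebra.adjoin_induction
      (p := fun y _ => ∀ hy' : y ∈ S, ∃ b : B,
        (⟨y, hy'⟩ : S) ⊗ₜ[R] (1 : B) - (1 : S) ⊗ₜ[R] b ∈ N) ?_ ?_ ?_ ?_ hx x.2
    · exact this
    · rintro _ ⟨i, rfl⟩ hy'
      refine ⟨t i, ?_⟩
      have h1 : (⟨Ideal.Quotient.mk Q (t i), hy'⟩ : S) = s i := Subtype.ext (hs i).symm
      rw [h1, ← hε, hN]
      exact Ideal.subset_span (Or.inr ⟨i, rfl⟩)
    · intro x0 hy'
      refine ⟨algebraMap R B x0, ?_⟩
      have h1 : (⟨algebraMap R (B ⧸ Q) x0, hy'⟩ : S) = algebraMap R S x0 := Subtype.ext rfl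
      rw [h1, hmove, mul_one, sub_self]
      exact N.zero_mem
    · intro y1 y2 h1 h2 ih1 ih2 hy'
      obtain ⟨b1, hb1⟩ := ih1 (hmem _ h1)
      obtain ⟨b2, hb2⟩ := ih2 (hmem _ h2)
      refine ⟨b1 + b2, ?_⟩
      have h3 : (⟨y1 + y2, hy'⟩ : S) = ⟨y1, hmem _ h1⟩ + ⟨y2, hmem _ h2⟩ := Subtype.ext rfl
      rw [h3, TensorProduct.add_tmul, TensorProduct.tmul_add]
      have := N.add_mem hb1 hb2
      convert this using 1
      abel
    · intro y1 y2 h1 h2 ih1 ih2 hy'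
      obtain ⟨b1, hb1⟩ := ih1 (hmem _ h1)
      obtain ⟨b2, hb2⟩ := ih2 (hmem _ h2)
      refine ⟨b1 * b2, ?_⟩
      have h3 : (⟨y1 * y2, hy'⟩ : S) = ⟨y1, hmem _ h1⟩ * ⟨y2, hmem _ h2⟩ := Subtype.ext rfl
      rw [h3]
      have e : ((⟨y1, hmem _ h1⟩ : S) * ⟨y2, hmem _ h2⟩) ⊗ₜ[R] (1 : B) -
          (1 : S) ⊗ₜ[R] (b1 * b2) =
          ((⟨y1, hmem _ h1⟩ : S) ⊗ₜ[R] (1 : B)) *
            ((⟨y2, hmem _ h2⟩ : S) ⊗ₜ[R] (1 : B) - (1 : S) ⊗ₜ[R] b2) +
          ((1 : S) ⊗ₜ[R] b2) * ((⟨y1, hmem _ h1⟩ : S) ⊗ₜ[R] (1 : B) - (1 : S) ⊗ₜ[R] b1) := by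
        simp only [mul_sub, Algebra.TensorProduct.tmul_mul_tmul, mul_one, one_mul]
        rw [mul_comm b2 b1]
        abel
      rw [e]
      exact N.add_mem (N.mul_mem_left _ hb2) (N.mul_mem_left _ hb1)
  have hC : ∀ d : S ⊗[R] B, ∃ b : B, d - (1 : S) ⊗ₜ[R] b ∈ N := by
    intro d
    induction d using TensorProduct.induction_on with
    | zero => exact ⟨0, by rw [TensorProduct.tmul_zero, sub_zero]; exact N.zero_mem⟩
    | tmul x b =>
      obtain ⟨b1, hb1⟩ := hA x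
      refine ⟨b1 * b, ?_⟩
      have h1 : x ⊗ₜ[R] b - (1 : S) ⊗ₜ[R] (b1 * b) =
          (x ⊗ₜ[R] (1 : B) - (1 : S) ⊗ₜ[R] b1) * ((1 : S) ⊗ₜ[R] b) := by
        simp only [sub_mul, Algebra.TensorProduct.tmul_mul_tmul, mul_one, one_mul]
      rw [h1]
      exact N.mul_mem_right _ hb1
    | add d1 d2 h1 h2 =>
      obtain ⟨b1, hb1⟩ := h1
      obtain ⟨b2, hb2⟩ := h2
      refine ⟨b1 + b2, ?_⟩
      rw [TensorProduct.tmul_add]
      have := N.add_mem hb1 hb2
      convert this using 1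
      abel
  obtain ⟨ρ, hρ⟩ : ∃ ρ : B →+* S ⊗[R] B, ∀ b, ρ b = (1 : S) ⊗ₜ[R] b :=
    ⟨(Algebra.TensorProduct.includeRight : B →ₐ[R] S ⊗[R] B).toRingHom, fun b => rfl⟩
  have hCρ : ∀ d : S ⊗[R] B, ∃ b : B, d - ρ b ∈ N := fun d => by
    obtain ⟨b, hb⟩ := hC d
    exact ⟨b, by rw [hρ]; exact hb⟩
  have hχρ : ∀ b, χ (ρ b) = Ideal.Quotient.mk Q b := by
    intro b
    rw [hρ, hχ, OneMemClass.coe_one, one_mul]
  have hKρ : K.comap ρ = Q := by
    ext b
    rw [Ideal.mem_comap, hK, RingHom.mem_ker, hχρ, Ideal.Quotient.eq_zero_iff_mem]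
  have hM'ρ : M'.comap ρ = maximalIdeal B := by
    rw [← hmTcomap]
    ext b
    rw [Ideal.mem_comap, hM', Ideal.mem_comap, hχρ, Ideal.mem_comap]
  have hall : ∀ P : Ideal (S ⊗[R] B), P.IsPrime → P ≤ M' → P = K ∨ P = M' := by
    intro P hP hPM
    haveI := hP
    have hNP' := hNP P hP hPM
    have hQP : Q ≤ P.comap ρ := by
      intro y hy
      rw [Ideal.mem_comap, hρ]
      apply hNP'
      rw [hN]
      exact Ideal.subset_span (Or.inl ⟨y, hy, rfl⟩)
    haveI : (P.comap ρ).IsPrime := Ideal.comap_isPrime _ _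
    rcases eq_or_eq_of_dim_one Q hdim (P.comap ρ) hQP with h | h
    · left
      exact eq_of_comap_eq ρ N hCρ P K hNP' (hNP K hKp hKM') (h.trans hKρ.symm)
    · right
      exact eq_of_comap_eq ρ N hCρ P M' hNP' (hNP M' hM'p le_rfl) (h.trans hM'ρ.symm)
  have hM'ht : M'.height ≤ 1 := height_le_one_of_forall M' K hKM' hall
  obtain ⟨M, hM⟩ : ∃ M : Ideal S, M = mT.comap S.val := ⟨_, rfl⟩
  rw [← hM]
  haveI hMp : M.IsPrime := by rw [hM]; exact Ideal.comap_isPrime _ _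
  haveI : M'.LiesOver M := ⟨by
    rw [Ideal.under_def]
    ext x
    rw [hM, Ideal.mem_comap, Ideal.mem_comap, hM', Ideal.mem_comap,
      Algebra.TensorProduct.algebraMap_apply, Algebra.algebraMap_self_apply, hχ, map_one, mul_one]
    rfl⟩
  have h1 := Ideal.height_eq_height_add_of_liesOver_of_hasGoingDown M M'
  calc M.height ≤ M'.height := by rw [h1]; exact le_self_add
    _ ≤ 1 := hM'ht

end StageB

section StageC

variable (R : Type u) [CommRing R] [IsLocalRing R] [IsNoetherianRing R] [IsDomain R]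

/-- **Ratliff, one-dimensional case**: if the completion of a universally catenary Noetherian
local domain has a minimal prime of coheight one, then the ring has dimension at most one. -/
theorem ringKrullDim_le_one_of_minimalPrime (hUC : CAlg.IsUniversallyCatenary R)
    (Q : Ideal (EGA4.Cpl R)) (hQ : Q ∈ minimalPrimes (EGA4.Cpl R))
    (hdim : ringKrullDim (EGA4.Cpl R ⧸ Q) = 1) : ringKrullDim R ≤ 1 := by
  classical
  obtain ⟨hloc, hnoeth, hcompl, hff, hlh, hmax⟩ := Groth.Agent.Lib.AnUnramH3.completion_facts R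
  haveI := hloc
  haveI := hnoeth
  haveI := hff
  haveI := hlh
  haveI hQp : Q.IsPrime := hQ.1.1
  obtain ⟨z, r, ι, a, t, g, v, hzQ, hzann, hza, hv, hzv, ht⟩ := exists_data R Q hQ hdim
  have hQR : Q.comap (algebraMap R (EGA4.Cpl R)) = ⊥ := by
    have h1 := (comap_mem_minimalPrimes R (EGA4.Cpl R) ⊥ Q (by rw [Ideal.map_bot]; exact hQ)).1
    have h2 : minimalPrimes R = {⊥} := IsDomain.minimalPrimes_eq_singleton_bot R
    have h3 : Q.comap (algebraMap R (EGA4.Cpl R)) ∈ minimalPrimes R := h1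
    rw [h2] at h3
    exact h3
  have hgQ : algebraMap R (EGA4.Cpl R) g ∉ Q := by
    intro h
    apply hzQ
    have := Q.add_mem hzv (Q.mul_mem_left v h)
    rwa [sub_add_cancel] at this
  have hg0 : g ≠ 0 := by
    rintro rfl
    exact hgQ (by rw [map_zero]; exact Q.zero_mem)
  have hinjT : Function.Injective (algebraMap R (EGA4.Cpl R ⧸ Q)) := by
    rw [injective_iff_map_eq_zero]
    intro x hx
    have h1 : algebraMap R (EGA4.Cpl R) x ∈ Q := by
      rw [IsScalarTower.algebraMap_apply R (EGA4.Cpl R) (EGA4.Cpl R ⧸ Q)] at hx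
      exact Ideal.Quotient.eq_zero_iff_mem.mp hx
    have h2 : x ∈ Q.comap (algebraMap R (EGA4.Cpl R)) := h1
    rw [hQR] at h2
    exact h2
  obtain ⟨S, hS⟩ : ∃ S : Subalgebra R (EGA4.Cpl R ⧸ Q),
      S = Algebra.adjoin R (Set.range fun i => Ideal.Quotient.mk Q (t i)) := ⟨_, rfl⟩
  haveI hSft : Algebra.FiniteType R S := by
    rw [← Subalgebra.fg_iff_finiteType]
    exact Subalgebra.fg_def.mpr ⟨_, Set.finite_range _, hS.symm⟩
  haveI hSinj : FaithfulSMul R S := by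
    rw [faithfulSMul_iff_algebraMap_injective]
    intro x y hxy
    apply hinjT
    exact congrArg Subtype.val hxy
  haveI : IsNoetherianRing S := Algebra.FiniteType.isNoetherianRing R S
  haveI : IsNoetherianRing (S ⊗[R] EGA4.Cpl R) := by
    have hψ := Groth.Agent.Lib.ZarSubH3.psi_finiteType R S
    letI := (Groth.Agent.Lib.ZarSubH3.psi R S).toAlgebra
    haveI : Algebra.FiniteType (EGA4.Cpl R) (S ⊗[R] EGA4.Cpl R) := hψ
    exact Algebra.FiniteType.isNoetherianRing (EGA4.Cpl R) _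
  have hht := exists_height_le_one (R := R) (B := EGA4.Cpl R) Q hdim z r ι a t g v hzQ hzann hza hv
    hzv ht S hS
  obtain ⟨mT, hmT⟩ : ∃ mT : Ideal (EGA4.Cpl R ⧸ Q),
      mT = (maximalIdeal (EGA4.Cpl R)).map (Ideal.Quotient.mk Q) := ⟨_, rfl⟩
  have hQm : Q ≤ maximalIdeal (EGA4.Cpl R) := le_maximalIdeal hQp.ne_top
  have hker : RingHom.ker (Ideal.Quotient.mk Q) ≤ maximalIdeal (EGA4.Cpl R) := by
    rw [Ideal.mk_ker]; exact hQm
  haveI hmTp : mT.IsPrime := by
    rw [hmT]; exact Ideal.map_isPrime_of_surjective Ideal.Quotient.mk_surjective hker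
  have hmTcomap : mT.comap (Ideal.Quotient.mk Q) = maximalIdeal (EGA4.Cpl R) := by
    rw [hmT, Ideal.comap_map_of_surjective _ Ideal.Quotient.mk_surjective,
      ← RingHom.ker_eq_comap_bot]
    exact sup_eq_left.mpr hker
  obtain ⟨M, hM⟩ : ∃ M : Ideal S, M = mT.comap S.val := ⟨_, rfl⟩
  rw [← hmT, ← hM] at hht
  haveI hMp : M.IsPrime := by rw [hM]; exact Ideal.comap_isPrime _ _
  have hmR : (maximalIdeal (EGA4.Cpl R)).comap (algebraMap R (EGA4.Cpl R)) = maximalIdeal R :=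
    ((local_hom_TFAE (algebraMap R (EGA4.Cpl R))).out 0 4).mp hlh
  have hmemM : ∀ x : S, x ∈ M ↔ (x : EGA4.Cpl R ⧸ Q) ∈ mT := fun x => by
    rw [hM, Ideal.mem_comap]; rfl
  haveI hMover : M.LiesOver (maximalIdeal R) := ⟨by
    rw [Ideal.under_def]
    ext x
    rw [Ideal.mem_comap, hmemM]
    constructor
    · intro hx
      have h1 : algebraMap R (EGA4.Cpl R) x ∈ maximalIdeal (EGA4.Cpl R) := hmR.ge hx
      have h2 : algebraMap R (EGA4.Cpl R) x ∈ mT.comap (Ideal.Quotient.mk Q) := hmTcomap.ge h1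
      exact h2
    · intro hx
      have h2 : algebraMap R (EGA4.Cpl R) x ∈ mT.comap (Ideal.Quotient.mk Q) := hx
      exact hmR.le (hmTcomap.le h2)⟩
  -- algebraicity
  haveI halg : Algebra.IsAlgebraic R S := by
    rw [← Subalgebra.isAlgebraic_iff, hS, Algebra.isAlgebraic_adjoin_iff]
    rintro _ ⟨i, rfl⟩
    refine ⟨Polynomial.C g * Polynomial.X - Polynomial.C (ι i), ?_, ?_⟩
    · intro h
      have := congrArg (fun p => p.coeff 1) h
      simp only [Polynomial.coeff_sub, Polynomial.coeff_C_mul, Polynomial.coeff_X_one, mul_one,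
        Polynomial.coeff_C, one_ne_zero, if_false, sub_zero, Polynomial.coeff_zero] at this
      exact hg0 this
    · have h1 := Ideal.Quotient.eq_zero_iff_mem.mpr (ht i)
      rw [map_sub, map_mul] at h1
      simp only [map_sub, map_mul, Polynomial.aeval_C, Polynomial.aeval_X]
      rw [IsScalarTower.algebraMap_apply R (EGA4.Cpl R) (EGA4.Cpl R ⧸ Q),
        IsScalarTower.algebraMap_apply R (EGA4.Cpl R) (EGA4.Cpl R ⧸ Q) (ι i)]
      try simp only [Ideal.Quotient.algebraMap_eq]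
      linear_combination -h1
  haveI halg2 : Algebra.IsAlgebraic (R ⧸ maximalIdeal R) (S ⧸ M) := by
    haveI : Algebra.IsIntegral (R ⧸ maximalIdeal R) (S ⧸ M) := by
      apply Algebra.isIntegral_of_surjective
      intro x
      obtain ⟨s0, rfl⟩ := Ideal.Quotient.mk_surjective x
      obtain ⟨b, hb⟩ := Ideal.Quotient.mk_surjective (s0 : EGA4.Cpl R ⧸ Q)
      obtain ⟨r0, hr0⟩ := Groth.Agent.Lib.ZarSubH3.exists_sub_mem_maximalIdeal_cpl R b
      refine ⟨Ideal.Quotient.mk _ r0, ?_⟩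
      rw [Ideal.Quotient.algebraMap_mk_of_liesOver]
      apply Ideal.Quotient.eq.mpr
      rw [hmemM]
      have h1 : ((algebraMap R S r0 - s0 : S) : EGA4.Cpl R ⧸ Q) =
          - Ideal.Quotient.mk Q (b - algebraMap R (EGA4.Cpl R) r0) := by
        rw [map_sub, hb, neg_sub]
        rfl
      rw [h1, hmT]
      exact neg_mem (Ideal.mem_map_of_mem _ hr0)
    infer_instance
  obtain ⟨a', b', rq, rS, h1, h2, h3, h4, h5⟩ :=
    Groth.Agent.DimEqH8.height_add_trdeg_eq R hUC S (maximalIdeal R) M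
  have hrS : rS = 0 := by
    have h6 : Algebra.trdeg R S = 0 := trdeg_eq_zero
    rw [h6] at h4
    exact_mod_cast h4.symm
  have hrq : rq = 0 := by
    have h6 : Algebra.trdeg (R ⧸ maximalIdeal R) (S ⧸ M) = 0 := trdeg_eq_zero
    rw [h6] at h3
    exact_mod_cast h3.symm
  rw [← IsLocalRing.maximalIdeal_height_eq_ringKrullDim, h2]
  have h7 : b' = a' := by omega
  rw [h7, ← h1]
  exact_mod_cast hht

end StageC

end Groth.Agent.Lib.RatliffH3
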