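import Mathlib
import Groth.Agent.Lib.Ratliff2_helper3
import Groth.Agent.Lib.EquidimCat_helper5
import Groth.Agent.Lib.Catenary_helper4
import Groth.Agent.Lib.FormalUC_helper9
import Groth.Agent.Lib.CatHt2_helper8

/-!
# Ratliff's theorem, part 3: cutting down by a hyperplane (helper3)
-/

set_option autoImplicit false
set_option maxSynthPendingDepth 3
universe u

namespace Groth.Agent.Lib.RatliffH3

open IsLocalRing TensorProduct Groth.Agent.EquiCat9

section Dim

/-- `ht P + dim A/P = dim A` in a catenary Noetherian local domain -/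
theorem height_add_dim_quot {A : Type u} [CommRing A] [IsLocalRing A] [IsNoetherianRing A]
    [IsDomain A] (hc : CAlg.IsCatenary A) (P : Ideal A) [hP : P.IsPrime] :
    (P.height : WithBot ℕ∞) + ringKrullDim (A ⧸ P) = ringKrullDim A := by
  have h1 := Groth.Agent.EquidimCat.height_add_coheight hc (isEquidim_of_isDomain A) ⟨P, hP⟩
  rw [Groth.Agent.EquidimCat.ringKrullDim_quotient_eq_coheight' P, ← h1]
  push_cast
  rfl

/-- `ht (P/Q) + dim B/P = dim B/Q` in a catenary Noetherian local ring -/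
theorem height_map_add_dim_quot {B : Type u} [CommRing B] [IsLocalRing B] [IsNoetherianRing B]
    (hc : CAlg.IsCatenary B) (Q P : Ideal B) [hQ : Q.IsPrime] [P.IsPrime] (hQP : Q ≤ P) :
    ((P.map (Ideal.Quotient.mk Q)).height : WithBot ℕ∞) + ringKrullDim (B ⧸ P) =
      ringKrullDim (B ⧸ Q) := by
  haveI : IsLocalRing (B ⧸ Q) :=
    Groth.Agent.Lib.UnibranchH3.isLocalRing_quotient Q (le_maximalIdeal hQ.ne_top)
  have hcT := Groth.Agent.Lib.Catenary_helper4.isCatenary_quotient B Q hc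
  haveI : (P.map (Ideal.Quotient.mk Q)).IsPrime :=
    Ideal.map_isPrime_of_surjective Ideal.Quotient.mk_surjective (by rw [Ideal.mk_ker]; exact hQP)
  have h1 := height_add_dim_quot hcT (P.map (Ideal.Quotient.mk Q))
  rw [← h1]
  congr 1
  exact ringKrullDim_eq_of_ringEquiv (DoubleQuot.quotQuotEquivQuotOfLE hQP).symm

theorem map_mk_lt_map_mk {B : Type u} [CommRing B] (Q P₁ P₂ : Ideal B) (h1 : Q ≤ P₁)
    (h2 : P₁ < P₂) : P₁.map (Ideal.Quotient.mk Q) < P₂.map (Ideal.Quotient.mk Q) := by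
  have hcm : ∀ J : Ideal B, Q ≤ J →
      (J.map (Ideal.Quotient.mk Q)).comap (Ideal.Quotient.mk Q) = J := by
    intro J hJ
    rw [Ideal.comap_map_of_surjective _ Ideal.Quotient.mk_surjective, ← RingHom.ker_eq_comap_bot,
      Ideal.mk_ker]
    exact sup_eq_left.mpr hJ
  refine lt_of_le_of_ne (Ideal.map_mono h2.le) fun h => ?_
  have h3 := hcm P₁ h1
  rw [h, hcm _ (h1.trans h2.le)] at h3
  exact h2.ne h3.symm

theorem eq_of_height_map_mk_eq_one {B : Type u} [CommRing B] (Q P'' P' : Ideal B) [Q.IsPrime]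
    [P''.IsPrime] [P'.IsPrime] (h1 : Q < P'') (h2 : P'' ≤ P')
    (hht : (P'.map (Ideal.Quotient.mk Q)).height = 1) : P'' = P' := by
  by_contra hne
  have hlt : P'' < P' := lt_of_le_of_ne h2 hne
  have h3 := map_mk_lt_map_mk Q P'' P' h1.le hlt
  haveI : (P''.map (Ideal.Quotient.mk Q)).IsPrime :=
    Ideal.map_isPrime_of_surjective Ideal.Quotient.mk_surjective
      (by rw [Ideal.mk_ker]; exact h1.le)
  haveI : (P'.map (Ideal.Quotient.mk Q)).IsPrime :=
    Ideal.map_isPrime_of_surjective Ideal.Quotient.mk_surjective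
      (by rw [Ideal.mk_ker]; exact h1.le.trans h2)
  have h4 := Ideal.height_add_one_le_of_lt_of_isPrime h3
  have h5 := Groth.Agent.CatHt2H8.one_le_height_map_mk Q P'' h1
  rw [hht] at h4
  have h6 : (1 : ℕ∞) + 1 ≤ 1 := le_trans (by gcongr) h4
  exact absurd h6 (by norm_num)

end Dim

section Avoid

theorem exists_mem_maximalIdeal_notMem {R B : Type u} [CommRing R] [IsLocalRing R] [CommRing B]
    [IsLocalRing B] [Algebra R B]
    (hmax : (maximalIdeal R).map (algebraMap R B) = maximalIdeal B)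
    (F : Finset (Ideal B)) (hF : ∀ P ∈ F, P.IsPrime ∧ P ≠ maximalIdeal B) :
    ∃ x ∈ maximalIdeal R, ∀ P ∈ F, algebraMap R B x ∉ P := by
  classical
  by_contra hcon
  push Not at hcon
  have h1 : ((maximalIdeal R : Ideal R) : Set R) ⊆
      ⋃ P ∈ (↑F : Set (Ideal B)), ((P.comap (algebraMap R B) : Ideal R) : Set R) := by
    intro x hx
    obtain ⟨P, hP, hxP⟩ := hcon x hx
    exact Set.mem_biUnion hP hxP
  rw [Ideal.subset_union_prime (s := F) (f := fun P => P.comap (algebraMap R B)) ⊥ ⊥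
    (fun P hP _ _ => by haveI := (hF P hP).1; exact Ideal.comap_isPrime _ _)] at h1
  obtain ⟨P, hP, hle⟩ := h1
  haveI := (hF P hP).1
  apply (hF P hP).2
  have h2 : maximalIdeal B ≤ P := by
    rw [← hmax, Ideal.map_le_iff_le_comap]; exact hle
  exact le_antisymm (le_maximalIdeal (Ideal.IsPrime.ne_top ‹_›)) h2

end Avoid

section Good

variable {R B : Type u} [CommRing R] [IsLocalRing R] [CommRing B] [IsLocalRing B]
  [IsNoetherianRing B] [Algebra R B]

theorem exists_good_prime (hmax : (maximalIdeal R).map (algebraMap R B) = maximalIdeal B)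
    (Q : Ideal B) (hQ : Q ∈ minimalPrimes B)
    (hd : ¬ ((maximalIdeal B).map (Ideal.Quotient.mk Q)).height ≤ 1) :
    ∃ (P' : Ideal B) (_ : P'.IsPrime) (x : R), Q ≤ P' ∧ algebraMap R B x ∈ P' ∧
      algebraMap R B x ∉ Q ∧ (P'.map (Ideal.Quotient.mk Q)).height = 1 ∧ P'.height ≤ 1 := by
  classical
  haveI hQp : Q.IsPrime := hQ.1.1
  have hQm : Q ≤ maximalIdeal B := le_maximalIdeal hQp.ne_top
  -- the finite set of primes to avoid
  obtain ⟨𝔉, h𝔉⟩ : ∃ 𝔉 : Set (Ideal B), 𝔉 = ({Q} ∪ ⋃ Q' ∈ minimalPrimes B,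
      (Q ⊔ Q').minimalPrimes) \ {maximalIdeal B} := ⟨_, rfl⟩
  have hfin : 𝔉.Finite := by
    rw [h𝔉]
    apply Set.Finite.diff
    apply Set.Finite.union (Set.finite_singleton _)
    exact Set.Finite.biUnion (minimalPrimes.finite_of_isNoetherianRing B)
      (fun Q' _ => Ideal.finite_minimalPrimes_of_isNoetherianRing B _)
  have hQne : Q ≠ maximalIdeal B := by
    intro h
    apply hd
    rw [← h, Ideal.map_quotient_self]
    simp
  have hF : ∀ P ∈ hfin.toFinset, P.IsPrime ∧ P ≠ maximalIdeal B := by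
    intro P hP
    rw [Set.Finite.mem_toFinset, h𝔉] at hP
    refine ⟨?_, hP.2⟩
    rcases hP.1 with h | h
    · rw [Set.mem_singleton_iff.mp h]; exact hQp
    · obtain ⟨Q', -, hQ'⟩ := Set.mem_iUnion₂.mp h
      exact hQ'.1.1
  obtain ⟨x, hxm, hx⟩ := exists_mem_maximalIdeal_notMem hmax hfin.toFinset hF
  have hxQ : algebraMap R B x ∉ Q := by
    apply hx
    rw [Set.Finite.mem_toFinset, h𝔉]
    exact ⟨Or.inl rfl, hQne⟩
  have hxmB : algebraMap R B x ∈ maximalIdeal B := by
    rw [← hmax]; exact Ideal.mem_map_of_mem _ hxm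
  have hJle : Q ⊔ Ideal.span {algebraMap R B x} ≤ maximalIdeal B :=
    sup_le hQm ((Ideal.span_singleton_le_iff_mem _).mpr hxmB)
  obtain ⟨P', hP'min, hP'le⟩ := Ideal.exists_minimalPrimes_le hJle
  haveI hP'p : P'.IsPrime := hP'min.1.1
  have hQP' : Q ≤ P' := le_sup_left.trans hP'min.1.2
  have hxP' : algebraMap R B x ∈ P' :=
    hP'min.1.2 (Ideal.mem_sup_right (Ideal.subset_span rfl))
  have hQltP' : Q < P' := lt_of_le_of_ne hQP' (fun h => hxQ (h ▸ hxP'))
  -- the relative height is one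
  have hht1 : (P'.map (Ideal.Quotient.mk Q)).height = 1 := by
    apply le_antisymm _ (Groth.Agent.CatHt2H8.one_le_height_map_mk Q P' hQltP')
    have h1 : P'.map (Ideal.Quotient.mk Q) ∈
        (Ideal.span {Ideal.Quotient.mk Q (algebraMap R B x)}).minimalPrimes := by
      have h2 := Ideal.minimalPrimes_map_of_surjective (f := Ideal.Quotient.mk Q)
        Ideal.Quotient.mk_surjective (Ideal.span {algebraMap R B x})
      rw [Ideal.map_span, Set.image_singleton] at h2
      rw [h2, Ideal.mk_ker, sup_comm]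
      exact ⟨P', hP'min, rfl⟩
    exact Ideal.height_le_one_of_isPrincipal_of_mem_minimalPrimes _ _ h1
  have hP'ne : P' ≠ maximalIdeal B := by
    intro h
    apply hd
    rw [← h, hht1]
  -- `Q` is the only minimal prime below `P'`
  have honly : ∀ Q' ∈ minimalPrimes B, Q' ≤ P' → Q' = Q := by
    intro Q' hQ' hQ'P'
    by_contra hne
    haveI hQ'p : Q'.IsPrime := hQ'.1.1
    obtain ⟨P'', hP''min, hP''le⟩ := Ideal.exists_minimalPrimes_le (sup_le hQP' hQ'P')
    haveI hP''p : P''.IsPrime := hP''min.1.1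
    have hQP'' : Q ≤ P'' := le_sup_left.trans hP''min.1.2
    have hQ'P'' : Q' ≤ P'' := le_sup_right.trans hP''min.1.2
    have hQltP'' : Q < P'' := by
      refine lt_of_le_of_ne hQP'' fun h => ?_
      rw [← h] at hQ'P''
      exact hne (le_antisymm hQ'P'' (hQ.2 ⟨hQ'p, bot_le⟩ hQ'P''))
    have heq := eq_of_height_map_mk_eq_one Q P'' P' hQltP'' hP''le hht1
    have hmem : P' ∈ hfin.toFinset := by
      rw [Set.Finite.mem_toFinset, h𝔉]
      refine ⟨Or.inr (Set.mem_iUnion₂.mpr ⟨Q', hQ', ?_⟩), hP'ne⟩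
      rw [← heq]; exact hP''min
    exact hx P' hmem hxP'
  refine ⟨P', hP'p, x, hQP', hxP', hxQ, hht1, ?_⟩
  -- the height of `P'`
  have h1 : P'.height ≤ ((1 : ℕ) : ℕ∞) := by
    rw [Ideal.height_le_iff]
    intro P₁ hP₁ hP₁P'
    haveI := hP₁
    obtain ⟨Q'', hQ''min, hQ''le⟩ := Ideal.exists_minimalPrimes_le (bot_le : (⊥ : Ideal B) ≤ P₁)
    have hQ''Q : Q'' = Q := honly Q'' hQ''min (hQ''le.trans hP₁P'.le)
    rw [hQ''Q] at hQ''le
    have hP₁Q : P₁ = Q := by
      by_contra hne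
      have hlt : Q < P₁ := lt_of_le_of_ne hQ''le (Ne.symm hne)
      exact hP₁P'.ne (eq_of_height_map_mk_eq_one Q P₁ P' hlt hP₁P'.le hht1)
    rw [hP₁Q]
    have : Q.height = 0 := Ideal.height_eq_zero_iff.mpr hQ
    rw [this]
    norm_num
  simpa using h1

end Good

section Arith

theorem wb_cancel (v : WithBot ℕ∞) (d : ℕ)
    (h : ((1 : ℕ∞) : WithBot ℕ∞) + v = ((d + 1 : ℕ) : WithBot ℕ∞)) : v = d := by
  induction v using WithBot.recBotCoe with
  | bot =>
    exfalso
    rw [WithBot.add_bot] at h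
    have h2 : ((d + 1 : ℕ) : WithBot ℕ∞) = (((d + 1 : ℕ) : ℕ∞) : WithBot ℕ∞) := rfl
    rw [h2] at h
    exact WithBot.bot_ne_coe h
  | coe v =>
    induction v using ENat.recTopCoe with
    | top =>
      exfalso
      have : ((1 : ℕ∞) : WithBot ℕ∞) + ((⊤ : ℕ∞) : WithBot ℕ∞) = ((⊤ : ℕ∞) : WithBot ℕ∞) := by
        rw [← WithBot.coe_add]; simp
      rw [this] at h
      have h2 : ((d + 1 : ℕ) : WithBot ℕ∞) = (((d + 1 : ℕ) : ℕ∞) : WithBot ℕ∞) := rfl
      rw [h2, WithBot.coe_eq_coe] at h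
      exact ENat.top_ne_natCast _ h
    | coe n =>
      have h2 : ((d + 1 : ℕ) : WithBot ℕ∞) = (((d + 1 : ℕ) : ℕ∞) : WithBot ℕ∞) := rfl
      have h3 : ((d : ℕ) : WithBot ℕ∞) = (((d : ℕ) : ℕ∞) : WithBot ℕ∞) := rfl
      rw [h2, ← WithBot.coe_add, WithBot.coe_eq_coe] at h
      rw [h3, WithBot.coe_eq_coe]
      have h4 : ((1 + n : ℕ) : ℕ∞) = ((d + 1 : ℕ) : ℕ∞) := by push_cast; exact h
      have := Nat.cast_injective (R := ℕ∞) h4
      congr 1
      omega

theorem enat_split (a b : ℕ∞) (h1 : a + b ≤ 1) (h2 : 1 ≤ a) : a = 1 ∧ b = 0 := by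
  have ha : a = 1 := le_antisymm (le_trans le_self_add h1) h2
  subst ha
  refine ⟨rfl, ?_⟩
  induction b using ENat.recTopCoe with
  | top => simp at h1
  | coe n =>
    have : ((1 + n : ℕ) : ℕ∞) ≤ ((1 : ℕ) : ℕ∞) := by push_cast; exact h1
    have := Nat.cast_le.mp this
    have : n = 0 := by omega
    subst this; rfl

end Arith

section Induction

theorem ringKrullDim_quot_maximalIdeal {B : Type u} [CommRing B] [IsLocalRing B] :
    ringKrullDim (B ⧸ maximalIdeal B) = 0 :=
  ringKrullDim_eq_zero_of_isField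
    ((Ideal.Quotient.maximal_ideal_iff_isField_quotient _).mp (maximalIdeal.isMaximal B))

/-- **Ratliff**: induction on the coheight of the minimal prime. -/
theorem ringKrullDim_le_of_minimalPrime : ∀ (d : ℕ) (R : Type u) [CommRing R] [IsLocalRing R]
    [IsNoetherianRing R] [IsDomain R], CAlg.IsUniversallyCatenary R →
    ∀ Q ∈ minimalPrimes (EGA4.Cpl R), ringKrullDim (EGA4.Cpl R ⧸ Q) = (d : WithBot ℕ∞) →
      ringKrullDim R ≤ (d : WithBot ℕ∞) := by
  intro d
  induction d with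
  | zero =>
    intro R _ _ _ _ hUC Q hQ hdim
    obtain ⟨hloc, hnoeth, hcompl, hff, hlh, hmax⟩ :=
      Groth.Agent.Lib.AnUnramH3.completion_facts R
    haveI := hloc
    haveI := hnoeth
    haveI := hcompl
    haveI hQp : Q.IsPrime := hQ.1.1
    have hcB : CAlg.IsCatenary (EGA4.Cpl R) := isCatenary_of_complete (EGA4.Cpl R)
    have hQm : Q ≤ maximalIdeal (EGA4.Cpl R) := le_maximalIdeal hQp.ne_top
    have h1 := height_map_add_dim_quot hcB Q (maximalIdeal (EGA4.Cpl R)) hQm
    rw [ringKrullDim_quot_maximalIdeal, add_zero, hdim] at h1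
    have hQeq : Q = maximalIdeal (EGA4.Cpl R) := by
      by_contra hne
      have hlt : Q < maximalIdeal (EGA4.Cpl R) := lt_of_le_of_ne hQm hne
      have h2 := Groth.Agent.CatHt2H8.one_le_height_map_mk Q (maximalIdeal _) hlt
      have h3 : ((maximalIdeal (EGA4.Cpl R)).map (Ideal.Quotient.mk Q)).height = 0 := by
        exact_mod_cast h1
      rw [h3] at h2
      exact absurd h2 (by norm_num)
    have h4 : (maximalIdeal (EGA4.Cpl R)).height = 0 := by
      rw [← hQeq]; exact Ideal.height_eq_zero_iff.mpr hQ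
    have h5 : ringKrullDim (EGA4.Cpl R) = 0 := by
      rw [← IsLocalRing.maximalIdeal_height_eq_ringKrullDim, h4]; rfl
    rw [← Groth.Agent.RegularLib.ringKrullDim_adicCompletion R (maximalIdeal R)
      (maximalIdeal.isMaximal R).ne_top, h5]
    simp
  | succ d ih =>
    intro R _ _ _ _ hUC Q hQ hdim
    rcases Nat.eq_zero_or_pos d with rfl | hdpos
    · have h1 := ringKrullDim_le_one_of_minimalPrime R hUC Q hQ (by rw [hdim]; norm_num)
      simpa using h1
    · obtain ⟨hloc, hnoeth, hcompl, hff, hlh, hmax⟩ :=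
        Groth.Agent.Lib.AnUnramH3.completion_facts R
      haveI := hloc
      haveI := hnoeth
      haveI := hcompl
      haveI := hff
      haveI := hlh
      haveI hQp : Q.IsPrime := hQ.1.1
      have hcB : CAlg.IsCatenary (EGA4.Cpl R) := isCatenary_of_complete (EGA4.Cpl R)
      have hQm : Q ≤ maximalIdeal (EGA4.Cpl R) := le_maximalIdeal hQp.ne_top
      have h1 := height_map_add_dim_quot hcB Q (maximalIdeal (EGA4.Cpl R)) hQm
      rw [ringKrullDim_quot_maximalIdeal, add_zero, hdim] at h1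
      have hhtm : ((maximalIdeal (EGA4.Cpl R)).map (Ideal.Quotient.mk Q)).height =
          ((d + 1 : ℕ) : ℕ∞) := by exact_mod_cast h1
      have hd : ¬ ((maximalIdeal (EGA4.Cpl R)).map (Ideal.Quotient.mk Q)).height ≤ 1 := by
        rw [hhtm]
        intro h
        have h2 : ((d + 1 : ℕ) : ℕ∞) ≤ ((1 : ℕ) : ℕ∞) := by simpa using h
        have := Nat.cast_le.mp h2
        omega
      obtain ⟨P', hP'p, x, hQP', hxP', hxQ, hht1, hhtP'⟩ :=
        exists_good_prime (R := R) hmax Q hQ hd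
      haveI := hP'p
      have hdimP' : ringKrullDim (EGA4.Cpl R ⧸ P') = (d : WithBot ℕ∞) := by
        have h4 := height_map_add_dim_quot hcB Q P' hQP'
        rw [hht1, hdim] at h4
        exact wb_cancel _ d h4
      -- the prime `p`
      obtain ⟨p, hp⟩ : ∃ p : Ideal R, p = P'.comap (algebraMap R (EGA4.Cpl R)) := ⟨_, rfl⟩
      haveI hpp : p.IsPrime := by rw [hp]; exact Ideal.comap_isPrime _ _
      haveI hP'over : P'.LiesOver p := ⟨hp⟩
      have hxp : x ∈ p := by rw [hp]; exact hxP'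
      have hx0 : x ≠ 0 := by
        rintro rfl
        exact hxQ (by rw [map_zero]; exact Q.zero_mem)
      have hpbot : (⊥ : Ideal R) < p :=
        bot_lt_iff_ne_bot.mpr (fun h => hx0 (by rw [h] at hxp; exact hxp))
      have hpht1 : 1 ≤ p.height := by
        haveI : (⊥ : Ideal R).IsPrime := Ideal.isPrime_bot
        exact le_trans le_add_self (Ideal.height_add_one_le_of_lt_of_isPrime hpbot)
      have hgd := Ideal.height_eq_height_add_of_liesOver_of_hasGoingDown p P'
      rw [hgd] at hhtP'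
      obtain ⟨hpht, hP₁ht⟩ := enat_split _ _ hhtP' hpht1
      -- the quotient ring
      have hpm : p ≤ maximalIdeal R := le_maximalIdeal hpp.ne_top
      haveI : IsLocalRing (R ⧸ p) := Groth.Agent.Lib.UnibranchH3.isLocalRing_quotient p hpm
      have hUC₁ : CAlg.IsUniversallyCatenary (R ⧸ p) :=
        isUniversallyCatenary_of_surjective (Ideal.Quotient.mk p) Ideal.Quotient.mk_surjective hUC
      obtain ⟨e⟩ := cpl_quot_equiv R p
      have hpP' : p.map (algebraMap R (EGA4.Cpl R)) ≤ P' := by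
        rw [Ideal.map_le_iff_le_comap, hp]
      obtain ⟨P₁, hP₁⟩ : ∃ P₁ : Ideal (EGA4.Cpl R ⧸ p.map (algebraMap R (EGA4.Cpl R))),
          P₁ = P'.map (Ideal.Quotient.mk _) := ⟨_, rfl⟩
      haveI hP₁p : P₁.IsPrime := by
        rw [hP₁]
        exact Ideal.map_isPrime_of_surjective Ideal.Quotient.mk_surjective
          (by rw [Ideal.mk_ker]; exact hpP')
      have hP₁min : P₁ ∈ minimalPrimes _ := by
        rw [← Ideal.height_eq_zero_iff, hP₁]; exact hP₁ht
      obtain ⟨Q₁, hQ₁⟩ : ∃ Q₁ : Ideal (EGA4.Cpl (R ⧸ p)),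
          Q₁ = P₁.map (e : _ →+* EGA4.Cpl (R ⧸ p)) := ⟨_, rfl⟩
      have hQ₁min : Q₁ ∈ minimalPrimes (EGA4.Cpl (R ⧸ p)) := by
        have hsurj : Function.Surjective e.symm.toRingHom := e.symm.surjective
        have hinj : Function.Injective e.symm.toRingHom := e.symm.injective
        have h6 := Ideal.minimalPrimes_comap_of_surjective (f := e.symm.toRingHom) hsurj hP₁min
        have hbot := Ideal.comap_bot_of_injective _ hinj
        rw [hbot] at h6
        have h7 : Q₁ = P₁.comap e.symm.toRingHom := by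
          rw [hQ₁, Ideal.map_comap_of_equiv]
          rfl
        rw [h7]
        exact h6
      have hdimQ₁ : ringKrullDim (EGA4.Cpl (R ⧸ p) ⧸ Q₁) = (d : WithBot ℕ∞) := by
        have e1 := Ideal.quotientEquiv P₁ Q₁ e hQ₁
        have e2 := DoubleQuot.quotQuotEquivQuotOfLE hpP'
        have h7 := ringKrullDim_eq_of_ringEquiv e1
        have h8 := ringKrullDim_eq_of_ringEquiv e2
        rw [← hP₁] at h8
        rw [← h7, h8, hdimP']
      have hih := ih (R ⧸ p) hUC₁ Q₁ hQ₁min hdimQ₁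
      -- conclusion
      have hcR : CAlg.IsCatenary R := hUC.2 R inferInstance
      have h5 := height_add_dim_quot hcR p
      rw [hpht] at h5
      rw [← h5]
      calc ((1 : ℕ∞) : WithBot ℕ∞) + ringKrullDim (R ⧸ p)
          ≤ ((1 : ℕ∞) : WithBot ℕ∞) + (d : WithBot ℕ∞) := by gcongr
        _ = ((d + 1 : ℕ) : WithBot ℕ∞) := by push_cast; ring

/-- **Ratliff's theorem**: the completion of a universally catenary Noetherian local domain is
equidimensional. -/
theorem isEquidim_cpl_of_isUniversallyCatenary (R : Type u) [CommRing R] [IsLocalRing R]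
    [IsNoetherianRing R] [IsDomain R] (hUC : CAlg.IsUniversallyCatenary R) :
    EGA4.IsEquidim (EGA4.Cpl R) := by
  intro Q hQ
  obtain ⟨hloc, hnoeth, hcompl, hff, hlh, hmax⟩ := Groth.Agent.Lib.AnUnramH3.completion_facts R
  haveI := hloc
  haveI := hnoeth
  haveI hQp : Q.IsPrime := hQ.1.1
  haveI : IsLocalRing (EGA4.Cpl R ⧸ Q) :=
    Groth.Agent.Lib.UnibranchH3.isLocalRing_quotient Q (le_maximalIdeal hQp.ne_top)
  apply le_antisymm (ringKrullDim_quotient_le Q)
  obtain ⟨d, hd⟩ := ENat.ne_top_iff_exists.mp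
    (Ideal.height_ne_top_of_isPrime (I := maximalIdeal (EGA4.Cpl R ⧸ Q)))
  have hdim : ringKrullDim (EGA4.Cpl R ⧸ Q) = (d : WithBot ℕ∞) := by
    rw [← IsLocalRing.maximalIdeal_height_eq_ringKrullDim, ← hd]; rfl
  have h1 := ringKrullDim_le_of_minimalPrime d R hUC Q hQ hdim
  rw [Groth.Agent.RegularLib.ringKrullDim_adicCompletion R (maximalIdeal R)
    (maximalIdeal.isMaximal R).ne_top, hdim]
  exact h1

/-- **S9228**: a universally catenary Noetherian local ring is formally catenary. -/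
theorem main9228 (A : Type u) [CommRing A] [IsLocalRing A] [IsNoetherianRing A]
    (hA : CAlg.IsUniversallyCatenary A) : EGA4.IsFormallyCatenary A := by
  intro p hp
  have hUC₁ : CAlg.IsUniversallyCatenary (A ⧸ p) :=
    isUniversallyCatenary_of_surjective (Ideal.Quotient.mk p) Ideal.Quotient.mk_surjective hA
  exact isEquidim_cpl_of_isUniversallyCatenary (A ⧸ p) hUC₁

end Induction

end Groth.Agent.Lib.RatliffH3
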