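import Mathlib

set_option autoImplicit false
set_option maxHeartbeats 1000000

/-!
# The reduced quotient of a finite commutative Hopf algebra over a perfect field splits off (helper1)
-/

namespace RedSectionH1

open TensorProduct

universe u

theorem etale_of_reduced_perfect (K : Type u) [Field K] [PerfectField K] (B : Type u) [CommRing B]
    [Algebra K B] [Module.Finite K B] [IsReduced B] : Algebra.Etale K B := by
  haveI : IsArtinianRing B := IsArtinianRing.of_finite K B
  rw [Algebra.Etale.iff_exists_algEquiv_prod]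
  letI : ∀ m : MaximalSpectrum B, Field (B ⧸ m.asIdeal) := fun m => Ideal.Quotient.field m.asIdeal
  refine ⟨MaximalSpectrum B, inferInstance, fun m => B ⧸ m.asIdeal, inferInstance, inferInstance,
    (IsArtinianRing.equivPi B).restrictScalars K, fun m => ⟨inferInstance, inferInstance⟩⟩

section
variable (k : Type u) [Field k] [PerfectField k] (E : Type u) [CommRing E] [HopfAlgebra k E]
  [FiniteDimensional k E] [(nilradical E).IsHopfIdeal k]

/-- The tensor square of the quotient map. -/
noncomputable def qmap : E ⊗[k] E →ₐ[k] (E ⧸ nilradical E) ⊗[k] (E ⧸ nilradical E) :=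
  Algebra.TensorProduct.map (Ideal.Quotient.mkₐ k (nilradical E))
    (Ideal.Quotient.mkₐ k (nilradical E))

theorem isNilpotent_ker_map :
    IsNilpotent (RingHom.ker
      ((qmap k E : E ⊗[k] E →ₐ[k] (E ⧸ nilradical E) ⊗[k] (E ⧸ nilradical E)) :
        E ⊗[k] E →+* (E ⧸ nilradical E) ⊗[k] (E ⧸ nilradical E))) := by
  have hker : RingHom.ker
      ((qmap k E : E ⊗[k] E →ₐ[k] (E ⧸ nilradical E) ⊗[k] (E ⧸ nilradical E)) :
        E ⊗[k] E →+* (E ⧸ nilradical E) ⊗[k] (E ⧸ nilradical E)) ≤
      nilradical (E ⊗[k] E) := by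
    intro x hx
    have hx' : x ∈ RingHom.ker (Algebra.TensorProduct.map (Ideal.Quotient.mkₐ k (nilradical E))
      (Ideal.Quotient.mkₐ k (nilradical E))) := hx
    rw [Algebra.TensorProduct.map_ker _ _
      (Ideal.Quotient.mkₐ_surjective k (nilradical E))
      (Ideal.Quotient.mkₐ_surjective k (nilradical E))] at hx'
    refine (?_ : _ ≤ nilradical (E ⊗[k] E)) hx'
    apply sup_le
    · rw [Ideal.map_le_iff_le_comap]
      intro x hx
      have hx2 : x ∈ nilradical E := Ideal.Quotient.eq_zero_iff_mem.mp hx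
      rw [Ideal.mem_comap, mem_nilradical]
      exact (mem_nilradical.mp hx2).map _
    · rw [Ideal.map_le_iff_le_comap]
      intro x hx
      have hx2 : x ∈ nilradical E := Ideal.Quotient.eq_zero_iff_mem.mp hx
      rw [Ideal.mem_comap, mem_nilradical]
      exact (mem_nilradical.mp hx2).map _
  haveI : IsNoetherianRing (E ⊗[k] E) := IsNoetherianRing.of_finite k _
  obtain ⟨n, hn⟩ := IsNoetherianRing.isNilpotent_nilradical (E ⊗[k] E)
  refine ⟨n, ?_⟩
  have h1 := Ideal.pow_right_mono hker n
  rw [hn, Ideal.zero_eq_bot] at h1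
  rw [Ideal.zero_eq_bot]
  exact le_bot_iff.mp h1

theorem main : ∃ σ : (E ⧸ nilradical E) →ₐc[k] E,
    (Bialgebra.Quotient.mkBialgHom (R := k) (nilradical E)).comp σ =
      BialgHom.id k (E ⧸ nilradical E) := by
  haveI : IsNoetherianRing E := IsNoetherianRing.of_finite k E
  have hN : IsNilpotent (nilradical E) := IsNoetherianRing.isNilpotent_nilradical E
  haveI : IsReduced (E ⧸ nilradical E) :=
    (Ideal.isRadical_iff_quotient_reduced (nilradical E)).mp (Ideal.radical_isRadical _)
  haveI : Algebra.Etale k (E ⧸ nilradical E) := etale_of_reduced_perfect k _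
  let σ₀ : (E ⧸ nilradical E) →ₐ[k] E :=
    Algebra.FormallySmooth.lift (nilradical E) hN (AlgHom.id k _)
  have hσ : ∀ x, Ideal.Quotient.mk (nilradical E) (σ₀ x) = x :=
    fun x => Algebra.FormallySmooth.mk_lift _ hN _ x
  have hπσ : (Ideal.Quotient.mkₐ k (nilradical E)).comp σ₀ = AlgHom.id k _ := AlgHom.ext hσ
  have hcounit : (Bialgebra.counitAlgHom k E).comp σ₀ =
      Bialgebra.counitAlgHom k (E ⧸ nilradical E) := by
    have h1 : (Bialgebra.counitAlgHom k (E ⧸ nilradical E)).comp
        (Ideal.Quotient.mkₐ k (nilradical E)) = Bialgebra.counitAlgHom k E := rfl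
    rw [← h1, AlgHom.comp_assoc, hπσ, AlgHom.comp_id]
  have hcomul : (Algebra.TensorProduct.map σ₀ σ₀).comp
      (Bialgebra.comulAlgHom k (E ⧸ nilradical E)) = (Bialgebra.comulAlgHom k E).comp σ₀ := by
    apply Algebra.FormallyUnramified.lift_unique' (qmap k E) (isNilpotent_ker_map k E)
    unfold qmap
    have h2 : (Algebra.TensorProduct.map (Ideal.Quotient.mkₐ k (nilradical E))
        (Ideal.Quotient.mkₐ k (nilradical E))).comp (Bialgebra.comulAlgHom k E) =
        (Bialgebra.comulAlgHom k (E ⧸ nilradical E)).comp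
          (Ideal.Quotient.mkₐ k (nilradical E)) := rfl
    have h3 : (Algebra.TensorProduct.map (Ideal.Quotient.mkₐ k (nilradical E))
        (Ideal.Quotient.mkₐ k (nilradical E))).comp (Algebra.TensorProduct.map σ₀ σ₀) =
        AlgHom.id k _ := by
      rw [← Algebra.TensorProduct.map_comp, hπσ, Algebra.TensorProduct.map_id]
    rw [← AlgHom.comp_assoc, ← AlgHom.comp_assoc, h2, h3, AlgHom.id_comp, AlgHom.comp_assoc,
      hπσ, AlgHom.comp_id]
  refine ⟨BialgHom.ofAlgHom σ₀ hcounit hcomul, ?_⟩
  apply BialgHom.ext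
  intro x
  exact hσ x

end

end RedSectionH1
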