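import Mathlib
import Groth.Agent.Lib.RedSection_helper1

set_option autoImplicit false
set_option maxHeartbeats 1000000

/-!
# A finite commutative Hopf algebra over a perfect field is `E_red ⊗ E_loc` (helper1)
-/

namespace RedDecompH1

open TensorProduct WithConv

universe u

section conv
variable {k : Type u} [CommRing k] {H : Type u} [CommRing H] [HopfAlgebra k H]

theorem comp_one' {A B : Type u} [CommRing A] [Algebra k A] [CommRing B] [Algebra k B]
    (f : A →ₐ[k] B) :
    f.comp (ofConv (1 : WithConv (H →ₐ[k] A))) = ofConv (1 : WithConv (H →ₐ[k] B)) := by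
  apply AlgHom.ext
  intro x
  show f (algebraMap k A (Coalgebra.counit x)) = algebraMap k B (Coalgebra.counit x)
  exact f.commutes _

theorem one_comp_bialgHom {H' : Type u} [CommRing H'] [HopfAlgebra k H']
    {C : Type u} [CommRing C] [Algebra k C] (g : H →ₐc[k] H') :
    (ofConv (1 : WithConv (H' →ₐ[k] C))).comp (g : H →ₐ[k] H') =
      ofConv (1 : WithConv (H →ₐ[k] C)) := by
  apply AlgHom.ext
  intro x
  show algebraMap k C (Coalgebra.counit (g x)) = algebraMap k C (Coalgebra.counit x)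
  rw [CoalgHomClass.counit_comp_apply]

theorem id_antipode_cancel' :
    toConv (AlgHom.id k H) * toConv (HopfAlgebra.antipodeAlgHom k H) =
      (1 : WithConv (H →ₐ[k] H)) := by
  apply WithConv.ofConv_injective
  apply AlgHom.toLinearMap_injective
  apply WithConv.toConv_injective
  rw [AlgHom.toLinearMap_convMul, AlgHom.toLinearMap_convOne]
  simp [LinearMap.id_mul_antipode]

variable {C : Type u} [CommRing C] [Algebra k C]

theorem inv_mul' (f : H →ₐ[k] C) :
    toConv (f.comp (HopfAlgebra.antipodeAlgHom k H)) * toConv f =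
      (1 : WithConv (H →ₐ[k] C)) := by
  have h := AlgHom.comp_convMul_distrib f (toConv (HopfAlgebra.antipodeAlgHom k H))
    (toConv (AlgHom.id k H))
  rw [AlgHom.antipode_id_cancel, ofConv_toConv, ofConv_toConv, AlgHom.comp_id, comp_one'] at h
  apply WithConv.ofConv_injective
  exact h.symm

theorem mul_inv' (f : H →ₐ[k] C) :
    toConv f * toConv (f.comp (HopfAlgebra.antipodeAlgHom k H)) =
      (1 : WithConv (H →ₐ[k] C)) := by
  have h := AlgHom.comp_convMul_distrib f (toConv (AlgHom.id k H))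
    (toConv (HopfAlgebra.antipodeAlgHom k H))
  rw [id_antipode_cancel', ofConv_toConv, ofConv_toConv, AlgHom.comp_id, comp_one'] at h
  apply WithConv.ofConv_injective
  exact h.symm

theorem antipode_comp_bialgHom {H' : Type u} [CommRing H'] [HopfAlgebra k H']
    (g : H →ₐc[k] H') :
    (HopfAlgebra.antipodeAlgHom k H').comp (g : H →ₐ[k] H') =
      (g : H →ₐ[k] H').comp (HopfAlgebra.antipodeAlgHom k H) := by
  have h1 : toConv ((HopfAlgebra.antipodeAlgHom k H').comp (g : H →ₐ[k] H')) *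
      toConv (g : H →ₐ[k] H') = 1 := by
    have h := AlgHom.convMul_comp_bialgHom_distrib (toConv (HopfAlgebra.antipodeAlgHom k H'))
      (toConv (AlgHom.id k H')) g
    rw [AlgHom.antipode_id_cancel, ofConv_toConv, ofConv_toConv, AlgHom.id_comp,
      one_comp_bialgHom] at h
    apply WithConv.ofConv_injective
    exact h.symm
  have h2 := mul_inv' (g : H →ₐ[k] H')
  have h3 := left_inv_eq_right_inv h1 h2
  exact WithConv.toConv_injective h3

theorem map_comp_comul_eq {A B : Type u} [CommRing A] [Algebra k A] [CommRing B] [Algebra k B]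
    (f : H →ₐ[k] A) (g : H →ₐ[k] B) :
    (Algebra.TensorProduct.map f g).comp (Bialgebra.comulAlgHom k H) =
      ofConv (toConv ((Algebra.TensorProduct.includeLeft : A →ₐ[k] A ⊗[k] B).comp f) *
        toConv ((Algebra.TensorProduct.includeRight : B →ₐ[k] A ⊗[k] B).comp g)) := by
  have h : (Algebra.TensorProduct.lmul' k).comp (Algebra.TensorProduct.map
      ((Algebra.TensorProduct.includeLeft : A →ₐ[k] A ⊗[k] B).comp f)
      ((Algebra.TensorProduct.includeRight : B →ₐ[k] A ⊗[k] B).comp g)) =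
      Algebra.TensorProduct.map f g := by
    apply Algebra.TensorProduct.ext'
    intro a b
    simp
  rw [AlgHom.convMul_def, ofConv_toConv, ofConv_toConv, ofConv_toConv, ← AlgHom.comp_assoc, h]

end conv

section main
variable (k : Type u) [Field k] (E : Type u) [CommRing E] [HopfAlgebra k E]
  [(nilradical E).IsHopfIdeal k]
  (σ : (E ⧸ nilradical E) →ₐc[k] E)

local notation "Er" => (E ⧸ nilradical E)
local notation "σa" => ((σ : (E ⧸ nilradical E) →ₐc[k] E) : (E ⧸ nilradical E) →ₐ[k] E)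
local notation "πa" => Ideal.Quotient.mkₐ k (nilradical E)

/-- The ideal generated by the image under `σ` of the augmentation ideal of `E_red`. -/
def I₀ : Ideal E :=
  Ideal.map (σa : Er →+* E) (RingHom.ker (Bialgebra.counitAlgHom k Er))

local notation "qa" => Ideal.Quotient.mkₐ k (I₀ k E σ)

theorem sigma_mem (y : Er) (hy : Coalgebra.counit (R := k) y = 0) : σ y ∈ I₀ k E σ := by
  unfold I₀
  have h : y ∈ RingHom.ker (Bialgebra.counitAlgHom k Er) := hy
  exact Ideal.mem_map_of_mem _ h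

theorem I₀_le (J : Ideal E) (h : ∀ y : Er, Coalgebra.counit (R := k) y = 0 → σ y ∈ J) :
    I₀ k E σ ≤ J := by
  unfold I₀
  rw [Ideal.map_le_iff_le_comap]
  intro y hy
  rw [Ideal.mem_comap]
  exact h y hy

theorem counit_I₀ : ∀ a ∈ I₀ k E σ, Bialgebra.counitAlgHom k E a = 0 := by
  have h : I₀ k E σ ≤ RingHom.ker (Bialgebra.counitAlgHom k E) := by
    apply I₀_le
    intro y hy
    rw [RingHom.mem_ker]
    show Coalgebra.counit (R := k) (σ y) = 0
    rw [CoalgHomClass.counit_comp_apply, hy]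
  exact fun a ha => h ha

theorem q_sigma (y : Er) :
    qa (σ y) = algebraMap k (E ⧸ I₀ k E σ) (Coalgebra.counit (R := k) y) := by
  have h1 : σ (y - algebraMap k _ (Coalgebra.counit (R := k) y)) ∈ I₀ k E σ := by
    apply sigma_mem
    rw [map_sub, Bialgebra.counit_algebraMap, sub_self]
  rw [map_sub, AlgHomClass.commutes] at h1
  have h2 := (Ideal.Quotient.eq (I := I₀ k E σ)).mpr h1
  exact h2

theorem q_comp_sigma :
    (qa).comp σa = ofConv (1 : WithConv (Er →ₐ[k] (E ⧸ I₀ k E σ))) := by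
  apply AlgHom.ext
  intro y
  exact q_sigma k E σ y

theorem comul_I₀ : ∀ a ∈ I₀ k E σ,
    (Algebra.TensorProduct.map qa qa) (Bialgebra.comulAlgHom k E a) = 0 := by
  have hF : ((Algebra.TensorProduct.map qa qa).comp (Bialgebra.comulAlgHom k E)).comp σa =
      ofConv (1 : WithConv (Er →ₐ[k] (E ⧸ I₀ k E σ) ⊗[k] (E ⧸ I₀ k E σ))) := by
    have hΔ : (Algebra.TensorProduct.map σa σa).comp (Bialgebra.comulAlgHom k Er) =
        (Bialgebra.comulAlgHom k E).comp σa := BialgHomClass.map_comp_comulAlgHom σ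
    rw [AlgHom.comp_assoc, ← hΔ, ← AlgHom.comp_assoc,
      ← Algebra.TensorProduct.map_comp, q_comp_sigma, map_comp_comul_eq, comp_one', comp_one',
      one_mul]
  have h : I₀ k E σ ≤
      RingHom.ker ((Algebra.TensorProduct.map qa qa).comp (Bialgebra.comulAlgHom k E)) := by
    apply I₀_le
    intro y hy
    rw [RingHom.mem_ker]
    have h1 := AlgHom.congr_fun hF y
    have h2 : ((Algebra.TensorProduct.map qa qa).comp (Bialgebra.comulAlgHom k E)) (σ y) =
        algebraMap k _ (Coalgebra.counit (R := k) y) := h1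
    rw [h2, hy, map_zero]
  exact fun a ha => h ha

theorem antipode_I₀ : ∀ a ∈ I₀ k E σ, HopfAlgebra.antipode k a ∈ I₀ k E σ := by
  have h : I₀ k E σ ≤ Ideal.comap (HopfAlgebra.antipodeAlgHom k E) (I₀ k E σ) := by
    apply I₀_le
    intro y hy
    rw [Ideal.mem_comap]
    have h2 : HopfAlgebra.antipodeAlgHom k E (σ y) = σ (HopfAlgebra.antipode k y) :=
      AlgHom.congr_fun (antipode_comp_bialgHom σ) y
    rw [h2]
    apply sigma_mem
    rw [HopfAlgebra.counit_antipode, hy]
  exact fun a ha => h ha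

theorem hopf_I₀ : (I₀ k E σ).IsHopfIdeal k := by
  have hco : ((I₀ k E σ).restrictScalars k).IsCoideal := by
    refine ⟨?_, ?_⟩
    · intro a ha
      exact counit_I₀ k E σ a ha
    · intro a ha
      exact comul_I₀ k E σ a ha
  exact
    { toIsCoideal := hco
      antipode_mem := by
        intro a ha
        exact antipode_I₀ k E σ a ha }

/-- The counit on `E ⧸ I₀`. -/
noncomputable def εq : (E ⧸ I₀ k E σ) →ₐ[k] k :=
  Ideal.Quotient.liftₐ (I₀ k E σ) (Bialgebra.counitAlgHom k E) (counit_I₀ k E σ)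

theorem decomp_q (hσ : ∀ x, Ideal.Quotient.mk (nilradical E) (σ x) = x) (e : E) :
    ∃ n : E ⧸ I₀ k E σ, IsNilpotent n ∧
      Ideal.Quotient.mk (I₀ k E σ) e = n + algebraMap k _ (Coalgebra.counit (R := k) e) := by
  refine ⟨Ideal.Quotient.mk _ (e - σ (Ideal.Quotient.mk (nilradical E) e)), ?_, ?_⟩
  · have h1 : e - σ (Ideal.Quotient.mk (nilradical E) e) ∈ nilradical E := by
      apply Ideal.Quotient.eq_zero_iff_mem.mp
      rw [map_sub, hσ, sub_self]
    exact IsNilpotent.map (mem_nilradical.mp h1) (Ideal.Quotient.mk (I₀ k E σ))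
  · have h := q_sigma k E σ (Ideal.Quotient.mk (nilradical E) e)
    rw [Ideal.Quotient.mkₐ_eq_mk] at h
    rw [map_sub, h, Bialgebra.Quotient.counit_mk]
    ring

theorem local_I₀ (hσ : ∀ x, Ideal.Quotient.mk (nilradical E) (σ x) = x) :
    IsLocalRing (E ⧸ I₀ k E σ) := by
  haveI : Nontrivial (E ⧸ I₀ k E σ) := (εq k E σ).toRingHom.domain_nontrivial
  have key : ∀ x : E ⧸ I₀ k E σ, εq k E σ x ≠ 0 → IsUnit x := by
    intro x hx
    obtain ⟨e, rfl⟩ := Ideal.Quotient.mk_surjective x
    obtain ⟨n, hn, he⟩ := decomp_q k E σ hσ e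
    rw [he]
    have hε : εq k E σ (Ideal.Quotient.mk _ e) = Coalgebra.counit (R := k) e := rfl
    rw [hε] at hx
    exact hn.isUnit_add_right_of_commute ((IsUnit.mk0 _ hx).map (algebraMap k _))
      (Commute.all _ _)
  have key2 : ∀ x : E ⧸ I₀ k E σ, x ∈ nonunits _ → εq k E σ x = 0 := by
    intro x hx
    by_contra h
    exact hx (key x h)
  apply IsLocalRing.of_nonunits_add
  intro a b ha hb hab
  have h1 : εq k E σ (a + b) = 0 := by rw [map_add, key2 a ha, key2 b hb, add_zero]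
  have h2 := hab.map (εq k E σ)
  rw [h1] at h2
  exact not_isUnit_zero h2

/-- The comparison map `E → E_red ⊗ E/I`. -/
noncomputable def Theta (I : Ideal E) : E →ₐ[k] Er ⊗[k] (E ⧸ I) :=
  (Algebra.TensorProduct.map πa (Ideal.Quotient.mkₐ k I)).comp (Bialgebra.comulAlgHom k E)

theorem Theta_eq (I : Ideal E) : Theta k E I =
    ofConv (toConv ((Algebra.TensorProduct.includeLeft : Er →ₐ[k] Er ⊗[k] (E ⧸ I)).comp πa) *
      toConv ((Algebra.TensorProduct.includeRight : (E ⧸ I) →ₐ[k] Er ⊗[k] (E ⧸ I)).comp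
        (Ideal.Quotient.mkₐ k I))) :=
  map_comp_comul_eq _ _

/-- `τ = σ ∘ π ∘ S`. -/
noncomputable def tau : E →ₐ[k] E := ((σa).comp πa).comp (HopfAlgebra.antipodeAlgHom k E)

/-- `ρ = τ * id`, the projection to the local part. -/
noncomputable def rho : E →ₐ[k] E := ofConv (toConv (tau k E σ) * toConv (AlgHom.id k E))

section withsec
variable (hσ : ∀ x, Ideal.Quotient.mk (nilradical E) (σ x) = x)
include hσ

theorem rho_sigma : (rho k E σ).comp σa = ofConv (1 : WithConv (Er →ₐ[k] E)) := by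
  have h := AlgHom.convMul_comp_bialgHom_distrib (toConv (tau k E σ)) (toConv (AlgHom.id k E)) σ
  rw [ofConv_toConv, ofConv_toConv, AlgHom.id_comp] at h
  have h1 : (tau k E σ).comp σa = (σa).comp (HopfAlgebra.antipodeAlgHom k Er) := by
    apply AlgHom.ext
    intro y
    have hS : HopfAlgebra.antipodeAlgHom k E (σ y) = σ (HopfAlgebra.antipodeAlgHom k Er y) :=
      AlgHom.congr_fun (antipode_comp_bialgHom σ) y
    show σ (Ideal.Quotient.mk (nilradical E) (HopfAlgebra.antipodeAlgHom k E (σ y))) =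
      σ (HopfAlgebra.antipodeAlgHom k Er y)
    rw [hS, hσ]
  rw [h1, inv_mul'] at h
  exact h

theorem rho_I₀ : ∀ a ∈ I₀ k E σ, rho k E σ a = 0 := by
  have h : I₀ k E σ ≤ RingHom.ker (rho k E σ) := by
    apply I₀_le
    intro y hy
    rw [RingHom.mem_ker]
    have h2 : rho k E σ (σ y) = algebraMap k E (Coalgebra.counit (R := k) y) :=
      AlgHom.congr_fun (rho_sigma k E σ hσ) y
    rw [h2, hy, map_zero]
  exact fun a ha => h ha

/-- `ρ` descends to `E/I₀`. -/
noncomputable def rhoq : (E ⧸ I₀ k E σ) →ₐ[k] E :=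
  Ideal.Quotient.liftₐ (I₀ k E σ) (rho k E σ) (rho_I₀ k E σ hσ)

/-- The inverse `E_red ⊗ E/I₀ → E`. -/
noncomputable def Psi : Er ⊗[k] (E ⧸ I₀ k E σ) →ₐ[k] E :=
  Algebra.TensorProduct.lift σa (rhoq k E σ hσ) (fun _ _ => Commute.all _ _)

theorem Psi_Theta : (Psi k E σ hσ).comp (Theta k E (I₀ k E σ)) = AlgHom.id k E := by
  rw [Theta_eq, AlgHom.comp_convMul_distrib, ofConv_toConv, ofConv_toConv, ← AlgHom.comp_assoc,
    ← AlgHom.comp_assoc]
  have h1 : (Psi k E σ hσ).comp Algebra.TensorProduct.includeLeft = σa :=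
    Algebra.TensorProduct.lift_comp_includeLeft _ _ _
  have h2 : (Psi k E σ hσ).comp Algebra.TensorProduct.includeRight = rhoq k E σ hσ :=
    Algebra.TensorProduct.lift_comp_includeRight' _ _ _
  have h3 : (rhoq k E σ hσ).comp qa = rho k E σ := Ideal.Quotient.liftₐ_comp _ _ _
  rw [h1, h2, h3]
  have h4 : toConv (rho k E σ) = toConv (tau k E σ) * toConv (AlgHom.id k E) := rfl
  have h5 : toConv ((σa).comp πa) * toConv (tau k E σ) = 1 := mul_inv' ((σa).comp πa)
  rw [h4, ← mul_assoc, h5, one_mul, ofConv_toConv]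

theorem Theta_sigma : (Theta k E (I₀ k E σ)).comp σa =
    (Algebra.TensorProduct.includeLeft : Er →ₐ[k] Er ⊗[k] (E ⧸ I₀ k E σ)) := by
  have hπσ : (πa).comp σa = AlgHom.id k Er := AlgHom.ext hσ
  have hΔ : (Algebra.TensorProduct.map σa σa).comp (Bialgebra.comulAlgHom k Er) =
      (Bialgebra.comulAlgHom k E).comp σa := BialgHomClass.map_comp_comulAlgHom σ
  unfold Theta
  rw [AlgHom.comp_assoc, ← hΔ, ← AlgHom.comp_assoc,
    ← Algebra.TensorProduct.map_comp, hπσ, q_comp_sigma, map_comp_comul_eq, comp_one',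
    AlgHom.comp_id, toConv_ofConv, mul_one, ofConv_toConv]

theorem Theta_rhoq : (Theta k E (I₀ k E σ)).comp (rhoq k E σ hσ) =
    (Algebra.TensorProduct.includeRight : (E ⧸ I₀ k E σ) →ₐ[k] Er ⊗[k] (E ⧸ I₀ k E σ)) := by
  apply Ideal.Quotient.algHom_ext k
  rw [AlgHom.comp_assoc]
  have h3 : (rhoq k E σ hσ).comp qa = rho k E σ := Ideal.Quotient.liftₐ_comp _ _ _
  rw [h3]
  have h4 : rho k E σ = ofConv (toConv (tau k E σ) * toConv (AlgHom.id k E)) := rfl
  rw [h4, AlgHom.comp_convMul_distrib, ofConv_toConv, ofConv_toConv, AlgHom.comp_id]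
  have h5 : (Theta k E (I₀ k E σ)).comp (tau k E σ) =
      ((Algebra.TensorProduct.includeLeft : Er →ₐ[k] Er ⊗[k] (E ⧸ I₀ k E σ)).comp πa).comp
        (HopfAlgebra.antipodeAlgHom k E) := by
    unfold tau
    rw [← AlgHom.comp_assoc, ← AlgHom.comp_assoc, Theta_sigma k E σ hσ]
  have h6 : toConv (Theta k E (I₀ k E σ)) =
      toConv ((Algebra.TensorProduct.includeLeft :
        Er →ₐ[k] Er ⊗[k] (E ⧸ I₀ k E σ)).comp πa) *
      toConv ((Algebra.TensorProduct.includeRight :
        (E ⧸ I₀ k E σ) →ₐ[k] Er ⊗[k] (E ⧸ I₀ k E σ)).comp qa) :=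
    congrArg toConv (Theta_eq k E (I₀ k E σ))
  rw [h5, h6]
  have h7 := inv_mul' ((Algebra.TensorProduct.includeLeft :
    Er →ₐ[k] Er ⊗[k] (E ⧸ I₀ k E σ)).comp πa)
  have h8 : ∀ a b c : WithConv (E →ₐ[k] Er ⊗[k] (E ⧸ I₀ k E σ)),
      a * b = 1 → a * (b * c) = c := by
    intro a b c hab
    exact ((mul_assoc a b c).symm.trans (congrArg (· * c) hab)).trans (one_mul c)
  exact congrArg ofConv (h8 _ _ _ h7)

theorem Theta_Psi : (Theta k E (I₀ k E σ)).comp (Psi k E σ hσ) = AlgHom.id k _ := by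
  apply Algebra.TensorProduct.ext'
  intro a b
  have h1 : Theta k E (I₀ k E σ) (σ a) = a ⊗ₜ 1 :=
    AlgHom.congr_fun (Theta_sigma k E σ hσ) a
  have h2 : Theta k E (I₀ k E σ) (rhoq k E σ hσ b) = 1 ⊗ₜ b :=
    AlgHom.congr_fun (Theta_rhoq k E σ hσ) b
  show Theta k E (I₀ k E σ) (Psi k E σ hσ (a ⊗ₜ b)) = a ⊗ₜ b
  have h3 : Psi k E σ hσ (a ⊗ₜ b) = σ a * rhoq k E σ hσ b := rfl
  rw [h3, map_mul, h1, h2, Algebra.TensorProduct.tmul_mul_tmul, mul_one, one_mul]

theorem bij_I₀ : Function.Bijective (Theta k E (I₀ k E σ)) := by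
  rw [Function.bijective_iff_has_inverse]
  exact ⟨Psi k E σ hσ, fun x => AlgHom.congr_fun (Psi_Theta k E σ hσ) x,
    fun x => AlgHom.congr_fun (Theta_Psi k E σ hσ) x⟩

theorem unique_I₀ [PerfectField k] [FiniteDimensional k E] (I' : Ideal E)
    (hH : I'.IsHopfIdeal k) (hloc : IsLocalRing (E ⧸ I'))
    (hbij : Function.Bijective (Theta k E I')) : I' = I₀ k E σ := by
  haveI : IsReduced Er :=
    (Ideal.isRadical_iff_quotient_reduced (nilradical E)).mp (Ideal.radical_isRadical _)
  haveI : Module.Finite k Er := Module.Finite.of_surjective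
    (Ideal.Quotient.mkₐ k (nilradical E)).toLinearMap (Ideal.Quotient.mkₐ_surjective k _)
  haveI : Algebra.Etale k Er := RedSectionH1.etale_of_reduced_perfect k _
  haveI : Module.Finite k (E ⧸ I') := Module.Finite.of_surjective
    (Ideal.Quotient.mkₐ k I').toLinearMap (Ideal.Quotient.mkₐ_surjective k I')
  haveI : Module.Finite k (E ⧸ I₀ k E σ) := Module.Finite.of_surjective
    (Ideal.Quotient.mkₐ k (I₀ k E σ)).toLinearMap (Ideal.Quotient.mkₐ_surjective k _)
  let ε' : (E ⧸ I') →ₐ[k] k := Ideal.Quotient.liftₐ I' (Bialgebra.counitAlgHom k E)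
    (fun a ha => hH.toIsCoideal.counit_eq_zero ha)
  have hε'surj : Function.Surjective (ε' : (E ⧸ I') →+* k) :=
    fun r => ⟨algebraMap k _ r, ε'.commutes r⟩
  have hnil : IsNilpotent (RingHom.ker (ε' : (E ⧸ I') →+* k)) := by
    haveI : IsArtinianRing (E ⧸ I') := IsArtinianRing.of_finite k _
    rw [IsLocalRing.ker_eq_maximalIdeal _ hε'surj,
      ← IsLocalRing.jacobson_eq_maximalIdeal (⊥ : Ideal (E ⧸ I')) bot_ne_top]
    exact IsArtinianRing.isNilpotent_jacobson_bot
  have heq : (Ideal.Quotient.mkₐ k I').comp σa =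
      (Algebra.ofId k (E ⧸ I')).comp (Bialgebra.counitAlgHom k Er) := by
    apply Algebra.FormallyUnramified.lift_unique' ε' hnil
    apply AlgHom.ext
    intro y
    show Coalgebra.counit (R := k) (σ y) = ε' (algebraMap k _ (Coalgebra.counit (R := k) y))
    rw [ε'.commutes, CoalgHomClass.counit_comp_apply]
    rfl
  have hle : I₀ k E σ ≤ I' := by
    apply I₀_le
    intro y hy
    have h2 : Ideal.Quotient.mk I' (σ y) = algebraMap k _ (Coalgebra.counit (R := k) y) :=
      AlgHom.congr_fun heq y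
    rw [hy, map_zero] at h2
    exact Ideal.Quotient.eq_zero_iff_mem.mp h2
  haveI : Nontrivial Er := (Bialgebra.counitAlgHom k Er).toRingHom.domain_nontrivial
  have hd0 := (LinearEquiv.ofBijective (Theta k E (I₀ k E σ)).toLinearMap
    (bij_I₀ k E σ hσ)).finrank_eq
  have hd1 := (LinearEquiv.ofBijective (Theta k E I').toLinearMap hbij).finrank_eq
  rw [Module.finrank_tensorProduct] at hd0 hd1
  have hpos : 0 < Module.finrank k Er := Module.finrank_pos
  have hdim : Module.finrank k (E ⧸ I₀ k E σ) = Module.finrank k (E ⧸ I') :=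
    Nat.eq_of_mul_eq_mul_left hpos (hd0.symm.trans hd1)
  have hsurj : Function.Surjective (Ideal.Quotient.factorₐ k hle).toLinearMap :=
    Ideal.Quotient.factor_surjective hle
  have hinj : Function.Injective (Ideal.Quotient.factorₐ k hle).toLinearMap :=
    (LinearMap.injective_iff_surjective_of_finrank_eq_finrank hdim).mpr hsurj
  apply le_antisymm _ hle
  intro a ha
  apply Ideal.Quotient.eq_zero_iff_mem.mp
  apply hinj
  rw [map_zero]
  show Ideal.Quotient.mk I' a = 0
  exact Ideal.Quotient.eq_zero_iff_mem.mpr ha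

end withsec

end main

theorem main (k : Type u) [Field k] [PerfectField k] (E : Type u) [CommRing E] [HopfAlgebra k E]
    [FiniteDimensional k E] [(nilradical E).IsHopfIdeal k] :
    ∃! I : Ideal E, ∃ (_ : I.IsHopfIdeal k), IsLocalRing (E ⧸ I) ∧
      Function.Bijective ((Algebra.TensorProduct.map (Ideal.Quotient.mkₐ k (nilradical E))
        (Ideal.Quotient.mkₐ k I)).comp (Bialgebra.comulAlgHom k E)) := by
  obtain ⟨σ, hσ'⟩ := RedSectionH1.main k E
  have hσ : ∀ x, Ideal.Quotient.mk (nilradical E) (σ x) = x := fun x => by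
    have := congrArg (fun f : (E ⧸ nilradical E) →ₐc[k] (E ⧸ nilradical E) => f x) hσ'
    exact this
  refine ⟨I₀ k E σ, ⟨hopf_I₀ k E σ, local_I₀ k E σ hσ, bij_I₀ k E σ hσ⟩, ?_⟩
  rintro I' ⟨hH, hloc, hbij⟩
  exact unique_I₀ k E σ hσ I' hH hloc hbij

end RedDecompH1
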