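import Mathlib
import Groth.Agent.Lib.RedDecomp_helper1

set_option autoImplicit false
set_option maxHeartbeats 1000000

/-!
# The torsor isomorphism `A ⊗[A''] A ≃ A ⊗[R] (A ⧸ J)` for a map of Hopf algebras (helper1)
-/

namespace TorsorH1

open TensorProduct WithConv

universe u

section conv
variable {k : Type u} [CommRing k] {H : Type u} [CommRing H] [Bialgebra k H]
  {C : Type u} [CommRing C] [Algebra k C]

theorem cancel_left' (a b c : WithConv (H →ₐ[k] C)) (hab : a * b = 1) : a * (b * c) = c :=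
  ((mul_assoc a b c).symm.trans (congrArg (· * c) hab)).trans (one_mul c)

end conv

section main
variable (R : Type u) [CommRing R] (A A'' : Type u) [CommRing A] [HopfAlgebra R A]
  [CommRing A''] [HopfAlgebra R A''] [Algebra A'' A] [IsScalarTower R A'' A]

/-- The ideal of the kernel of `Spec A → Spec A''`. -/
def J : Ideal A := (RingHom.ker (Bialgebra.counitAlgHom R A'')).map (algebraMap A'' A)

local notation "Cq" => A ⧸ J R A A''
local notation "φ" => IsScalarTower.toAlgHom R A'' A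
local notation "qa" => Ideal.Quotient.mkₐ R (J R A A'')
local notation "ι₁" => (Algebra.TensorProduct.includeLeft : A →ₐ[R] A ⊗[R] (A ⧸ J R A A''))
local notation "ι₂" =>
  (Algebra.TensorProduct.includeRight : (A ⧸ J R A A'') →ₐ[R] A ⊗[R] (A ⧸ J R A A''))
local notation "κ₁" => (Algebra.TensorProduct.includeLeft : A →ₐ[R] A ⊗[A''] A)
local notation "κ₂" =>
  (AlgHom.restrictScalars R (Algebra.TensorProduct.includeRight : A →ₐ[A''] A ⊗[A''] A))
local notation "SA" => HopfAlgebra.antipodeAlgHom R A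

theorem q_phi (c : A'') : Ideal.Quotient.mk (J R A A'') (algebraMap A'' A c) =
    algebraMap R (A ⧸ J R A A'') (Coalgebra.counit (R := R) c) := by
  have h1 : c - algebraMap R A'' (Coalgebra.counit (R := R) c) ∈
      RingHom.ker (Bialgebra.counitAlgHom R A'') := by
    rw [RingHom.mem_ker, map_sub]
    show Coalgebra.counit (R := R) c - Coalgebra.counit (R := R) (algebraMap R A'' _) = 0
    rw [Bialgebra.counit_algebraMap, sub_self]
  have h2 : algebraMap A'' A (c - algebraMap R A'' (Coalgebra.counit (R := R) c)) ∈ J R A A'' :=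
    Ideal.mem_map_of_mem _ h1
  rw [map_sub, ← IsScalarTower.algebraMap_apply R A'' A] at h2
  exact (Ideal.Quotient.eq (I := J R A A'')).mpr h2

/-- `b ↦ Σ b₁ ⊗ q(b₂)`. -/
noncomputable def g : A →ₐ[R] A ⊗[R] (A ⧸ J R A A'') :=
  (Algebra.TensorProduct.map (AlgHom.id R A) qa).comp (Bialgebra.comulAlgHom R A)

theorem g_eq : g R A A'' = ofConv (toConv ι₁ * toConv ((ι₂).comp qa)) := by
  have h := RedDecompH1.map_comp_comul_eq (AlgHom.id R A) qa
  rw [AlgHom.comp_id] at h
  exact h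

variable (hΔ : (Bialgebra.comulAlgHom R A).comp (IsScalarTower.toAlgHom R A'' A) =
      (Algebra.TensorProduct.map (IsScalarTower.toAlgHom R A'' A)
        (IsScalarTower.toAlgHom R A'' A)).comp (Bialgebra.comulAlgHom R A''))
  (hε : (Bialgebra.counitAlgHom R A).comp (IsScalarTower.toAlgHom R A'' A) =
      Bialgebra.counitAlgHom R A'')

/-- `φ` as a bialgebra homomorphism. -/
noncomputable def φb : A'' →ₐc[R] A :=
  BialgHom.ofAlgHom (IsScalarTower.toAlgHom R A'' A) hε hΔ.symm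

theorem φb_coe : ((φb R A A'' hΔ hε : A'' →ₐc[R] A) : A'' →ₐ[R] A) = φ := by
  apply AlgHom.ext
  intro x
  rfl

include hΔ hε

theorem g_phi : (g R A A'').comp φ = (ι₁).comp φ := by
  rw [g_eq]
  have h := AlgHom.convMul_comp_bialgHom_distrib (toConv ι₁) (toConv ((ι₂).comp qa))
    (φb R A A'' hΔ hε)
  rw [φb_coe, ofConv_toConv, ofConv_toConv] at h
  rw [h]
  have h2 : ((ι₂).comp qa).comp φ =
      ofConv (1 : WithConv (A'' →ₐ[R] A ⊗[R] (A ⧸ J R A A''))) := by
    apply AlgHom.ext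
    intro c
    show ι₂ (Ideal.Quotient.mk _ (algebraMap A'' A c)) =
      algebraMap R _ (Coalgebra.counit (R := R) c)
    rw [q_phi, AlgHom.commutes]
  rw [h2]
  exact congrArg ofConv (mul_one (toConv ((ι₁).comp φ)))

/-- `g` as an `A''`-algebra map. -/
noncomputable def g' : A →ₐ[A''] A ⊗[R] (A ⧸ J R A A'') :=
  { (g R A A'').toRingHom with
    commutes' := fun c => AlgHom.congr_fun (g_phi R A A'' hΔ hε) c }

/-- The torsor map `a ⊗ b ↦ Σ a b₁ ⊗ q(b₂)`. -/
noncomputable def Theta : A ⊗[A''] A →ₐ[A] A ⊗[R] (A ⧸ J R A A'') :=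
  Algebra.TensorProduct.lift
    (Algebra.TensorProduct.includeLeft : A →ₐ[A] A ⊗[R] (A ⧸ J R A A''))
    (g' R A A'' hΔ hε) (fun _ _ => Commute.all _ _)

/-- `b ↦ Σ S(b₁) ⊗ b₂` in `A ⊗[A''] A`. -/
noncomputable def hh : A →ₐ[R] A ⊗[A''] A :=
  ofConv (toConv ((κ₁).comp SA) * toConv κ₂)

omit hΔ hε in
theorem kappa_phi : (κ₂).comp φ = (κ₁).comp φ := by
  apply AlgHom.ext
  intro c
  show (1 : A) ⊗ₜ[A''] (algebraMap A'' A c) = (algebraMap A'' A c) ⊗ₜ[A''] (1 : A)
  rw [Algebra.algebraMap_eq_smul_one, TensorProduct.smul_tmul]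

theorem hh_phi : (hh R A A'').comp φ = ofConv (1 : WithConv (A'' →ₐ[R] A ⊗[A''] A)) := by
  have h := AlgHom.convMul_comp_bialgHom_distrib (toConv ((κ₁).comp SA)) (toConv κ₂)
    (φb R A A'' hΔ hε)
  rw [φb_coe, ofConv_toConv, ofConv_toConv] at h
  have h1 : ((κ₁).comp SA).comp φ = ((κ₁).comp φ).comp (HopfAlgebra.antipodeAlgHom R A'') := by
    have h0 := RedDecompH1.antipode_comp_bialgHom (φb R A A'' hΔ hε)
    rw [φb_coe] at h0
    rw [AlgHom.comp_assoc, h0, AlgHom.comp_assoc]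
  rw [h1, kappa_phi, RedDecompH1.inv_mul'] at h
  exact h

theorem hh_J : ∀ a ∈ J R A A'', hh R A A'' a = 0 := by
  have h : J R A A'' ≤ RingHom.ker (hh R A A'') := by
    unfold J
    rw [Ideal.map_le_iff_le_comap]
    intro c hc
    rw [Ideal.mem_comap, RingHom.mem_ker]
    have h2 : hh R A A'' (algebraMap A'' A c) =
        algebraMap R _ (Coalgebra.counit (R := R) c) :=
      AlgHom.congr_fun (hh_phi R A A'' hΔ hε) c
    have hc' : Coalgebra.counit (R := R) c = 0 := hc
    rw [h2, hc', map_zero]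
  exact fun a ha => h ha

/-- `hh` descends to `A ⧸ J`. -/
noncomputable def hbar : (A ⧸ J R A A'') →ₐ[R] A ⊗[A''] A :=
  Ideal.Quotient.liftₐ (J R A A'') (hh R A A'') (hh_J R A A'' hΔ hε)

/-- The inverse torsor map. -/
noncomputable def Xi : A ⊗[R] (A ⧸ J R A A'') →ₐ[A] A ⊗[A''] A :=
  Algebra.TensorProduct.lift
    (Algebra.TensorProduct.includeLeft : A →ₐ[A] A ⊗[A''] A)
    (hbar R A A'' hΔ hε) (fun _ _ => Commute.all _ _)

theorem Theta_left (a : A) : Theta R A A'' hΔ hε (a ⊗ₜ[A''] 1) = a ⊗ₜ[R] 1 := by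
  unfold Theta
  rw [Algebra.TensorProduct.lift_tmul, map_one, mul_one]
  rfl

theorem Theta_right (b : A) : Theta R A A'' hΔ hε (1 ⊗ₜ[A''] b) = g R A A'' b := by
  unfold Theta
  rw [Algebra.TensorProduct.lift_tmul, map_one, one_mul]
  rfl

theorem Xi_left (a : A) : Xi R A A'' hΔ hε (a ⊗ₜ[R] 1) = a ⊗ₜ[A''] 1 := by
  unfold Xi
  rw [Algebra.TensorProduct.lift_tmul, map_one, mul_one]
  rfl

theorem Xi_right (c : A ⧸ J R A A'') :
    Xi R A A'' hΔ hε (1 ⊗ₜ[R] c) = hbar R A A'' hΔ hε c := by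
  unfold Xi
  rw [Algebra.TensorProduct.lift_tmul, map_one, one_mul]

theorem Theta_hh : ((Theta R A A'' hΔ hε).restrictScalars R).comp (hh R A A'') =
    (ι₂).comp qa := by
  have h1 : ((Theta R A A'' hΔ hε).restrictScalars R).comp κ₁ = ι₁ := by
    apply AlgHom.ext
    intro a
    exact Theta_left R A A'' hΔ hε a
  have h2 : ((Theta R A A'' hΔ hε).restrictScalars R).comp κ₂ = g R A A'' := by
    apply AlgHom.ext
    intro b
    exact Theta_right R A A'' hΔ hε b
  have h := AlgHom.comp_convMul_distrib ((Theta R A A'' hΔ hε).restrictScalars R)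
    (toConv ((κ₁).comp SA)) (toConv κ₂)
  rw [ofConv_toConv, ofConv_toConv, ← AlgHom.comp_assoc, h1, h2, g_eq] at h
  have h3 : (hh R A A'') = ofConv (toConv ((κ₁).comp SA) * toConv κ₂) := rfl
  rw [h3, h]
  exact congrArg ofConv (cancel_left' _ _ _ (RedDecompH1.inv_mul' ι₁))

theorem Xi_g : ((Xi R A A'' hΔ hε).restrictScalars R).comp (g R A A'') = κ₂ := by
  have h1 : ((Xi R A A'' hΔ hε).restrictScalars R).comp ι₁ = κ₁ := by
    apply AlgHom.ext
    intro a
    exact Xi_left R A A'' hΔ hε a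
  have h2 : ((Xi R A A'' hΔ hε).restrictScalars R).comp ((ι₂).comp qa) = hh R A A'' := by
    apply AlgHom.ext
    intro b
    exact Xi_right R A A'' hΔ hε (Ideal.Quotient.mk _ b)
  have h := AlgHom.comp_convMul_distrib ((Xi R A A'' hΔ hε).restrictScalars R)
    (toConv ι₁) (toConv ((ι₂).comp qa))
  rw [ofConv_toConv, ofConv_toConv, h1, h2] at h
  rw [g_eq, h]
  have h3 : toConv (hh R A A'') = toConv ((κ₁).comp SA) * toConv κ₂ := rfl
  rw [h3]
  exact congrArg ofConv (cancel_left' _ _ _ (RedDecompH1.mul_inv' κ₁))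

theorem Theta_Xi : (Theta R A A'' hΔ hε).comp (Xi R A A'' hΔ hε) = AlgHom.id A _ := by
  apply Algebra.TensorProduct.ext'
  intro a c
  obtain ⟨b, rfl⟩ := Ideal.Quotient.mk_surjective c
  have h1 : Theta R A A'' hΔ hε (hh R A A'' b) = 1 ⊗ₜ[R] (Ideal.Quotient.mk (J R A A'') b) :=
    AlgHom.congr_fun (Theta_hh R A A'' hΔ hε) b
  have h2 : Xi R A A'' hΔ hε (a ⊗ₜ[R] (Ideal.Quotient.mk (J R A A'') b)) =
      (a ⊗ₜ[A''] 1) * hh R A A'' b := by
    unfold Xi
    rw [Algebra.TensorProduct.lift_tmul]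
    rfl
  show Theta R A A'' hΔ hε (Xi R A A'' hΔ hε (a ⊗ₜ[R] (Ideal.Quotient.mk (J R A A'') b))) = _
  rw [h2, map_mul, Theta_left, h1, Algebra.TensorProduct.tmul_mul_tmul, mul_one, one_mul]
  rfl

theorem Xi_Theta : (Xi R A A'' hΔ hε).comp (Theta R A A'' hΔ hε) = AlgHom.id A _ := by
  apply Algebra.TensorProduct.ext'
  intro a b
  have h1 : Xi R A A'' hΔ hε (g R A A'' b) = 1 ⊗ₜ[A''] b :=
    AlgHom.congr_fun (Xi_g R A A'' hΔ hε) b
  have h2 : Theta R A A'' hΔ hε (a ⊗ₜ[A''] b) = (a ⊗ₜ[R] 1) * g R A A'' b := by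
    unfold Theta
    rw [Algebra.TensorProduct.lift_tmul]
    rfl
  show Xi R A A'' hΔ hε (Theta R A A'' hΔ hε (a ⊗ₜ[A''] b)) = _
  rw [h2, map_mul, Xi_left, h1, Algebra.TensorProduct.tmul_mul_tmul, mul_one, one_mul]
  rfl

/-- The torsor isomorphism. -/
noncomputable def torsorEquiv : (A ⊗[A''] A) ≃ₐ[A] A ⊗[R] (A ⧸ J R A A'') :=
  AlgEquiv.ofAlgHom (Theta R A A'' hΔ hε) (Xi R A A'' hΔ hε)
    (Theta_Xi R A A'' hΔ hε) (Xi_Theta R A A'' hΔ hε)

theorem etale_of_etale [Module.FaithfullyFlat A'' A] (h1 : Algebra.Etale R A'')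
    (h2 : Algebra.Etale R (A ⧸ J R A A'')) : Algebra.Etale R A := by
  haveI := h1
  haveI := h2
  haveI : Algebra.Etale A (A ⊗[R] (A ⧸ J R A A'')) := inferInstance
  haveI : Algebra.Etale A (A ⊗[A''] A) :=
    Algebra.Etale.of_equiv (torsorEquiv R A A'' hΔ hε).symm
  haveI : Algebra.Etale A'' A := Algebra.Etale.of_etale_tensorProduct_of_faithfullyFlat A
  exact Algebra.Etale.comp R A'' A

omit hΔ hε in
theorem local_of_local [Module.Finite R A] [Nontrivial R]
    (h1 : IsLocalRing A'') (h2 : IsLocalRing (A ⧸ J R A A'')) : IsLocalRing A := by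
  haveI := h1
  haveI := h2
  haveI : Algebra.IsIntegral R A := Algebra.IsIntegral.of_finite R A
  haveI : Algebra.IsIntegral A'' A := Algebra.IsIntegral.tower_top (R := R) (S := A'') (T := A)
  have hJ : ∀ M : Ideal A, M.IsMaximal → J R A A'' ≤ M := by
    intro M hM
    have hc : (M.comap (algebraMap A'' A)).IsMaximal :=
      Ideal.isMaximal_comap_of_isIntegral_of_isMaximal M
    have hc2 : M.comap (algebraMap A'' A) = IsLocalRing.maximalIdeal A'' :=
      IsLocalRing.eq_maximalIdeal hc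
    have hk : RingHom.ker (Bialgebra.counitAlgHom R A'') ≤ IsLocalRing.maximalIdeal A'' := by
      apply IsLocalRing.le_maximalIdeal
      intro htop
      have h1 : (1 : A'') ∈ RingHom.ker (Bialgebra.counitAlgHom R A'') := htop ▸ Submodule.mem_top
      rw [RingHom.mem_ker, map_one] at h1
      exact one_ne_zero h1
    unfold J
    rw [Ideal.map_le_iff_le_comap, hc2]
    exact hk
  have hcm : ∀ M : Ideal A, J R A A'' ≤ M →
      (M.map (Ideal.Quotient.mk (J R A A''))).comap (Ideal.Quotient.mk (J R A A'')) = M := by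
    intro M hle
    rw [Ideal.comap_map_of_surjective (Ideal.Quotient.mk (J R A A'')) Ideal.Quotient.mk_surjective,
      ← RingHom.ker_eq_comap_bot, Ideal.mk_ker (I := J R A A'')]
    exact sup_eq_left.mpr hle
  apply IsLocalRing.of_unique_max_ideal
  refine ⟨(IsLocalRing.maximalIdeal (A ⧸ J R A A'')).comap (Ideal.Quotient.mk (J R A A'')), ?_, ?_⟩
  · exact Ideal.comap_isMaximal_of_surjective (Ideal.Quotient.mk (J R A A''))
      Ideal.Quotient.mk_surjective
  · intro M hM
    have hle := hJ M hM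
    have hmap : (M.map (Ideal.Quotient.mk (J R A A''))).IsMaximal := by
      rcases Ideal.map_eq_top_or_isMaximal_of_surjective (Ideal.Quotient.mk (J R A A''))
        Ideal.Quotient.mk_surjective hM with
        h | h
      · exfalso
        have h3 := hcm M hle
        rw [h, Ideal.comap_top] at h3
        exact hM.ne_top h3.symm
      · exact h
    rw [← IsLocalRing.eq_maximalIdeal hmap, hcm M hle]

end main

end TorsorH1
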