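import Mathlib
import Groth.Agent.Lib.Torsor_helper1

set_option autoImplicit false
set_option maxHeartbeats 1000000

/-!
# Unit component of an extension of a connected group by an étale group (helper1)
-/

namespace UnitCompH1

open TensorProduct

universe u

/-- Two maps from an unramified algebra to a local algebra with an augmentation agree as soon as
they agree after the augmentation. -/
theorem unram_unique (R : Type u) [CommRing R] [Nontrivial R] (C D : Type u) [CommRing C]
    [Algebra R C] [CommRing D] [Algebra R D]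
    [Algebra.FormallyUnramified R C] [Algebra.EssFiniteType R C] [IsLocalRing D]
    (εD : D →ₐ[R] R) (f₁ f₂ : C →ₐ[R] D) (h : εD.comp f₁ = εD.comp f₂) : f₁ = f₂ := by
  obtain ⟨t, ht1, ht2⟩ := Algebra.FormallyUnramified.iff_exists_tensorProduct.mp
    (inferInstance : Algebra.FormallyUnramified R C)
  let F : C ⊗[R] C →ₐ[R] D := Algebra.TensorProduct.lift f₁ f₂ (fun _ _ => Commute.all _ _)
  have hF : ∀ a b, F (a ⊗ₜ[R] b) = f₁ a * f₂ b := fun a b =>
    Algebra.TensorProduct.lift_tmul _ _ _ a b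
  have h1 : ∀ s, (f₂ s - f₁ s) * F t = 0 := by
    intro s
    have h0 := congrArg F (ht1 s)
    rw [map_mul, map_sub, map_zero, hF, hF, map_one, map_one, one_mul, mul_one] at h0
    exact h0
  have h2 : εD (F t) = 1 := by
    have h0 : εD.comp F = (εD.comp f₁).comp (Algebra.TensorProduct.lmul' R) := by
      apply Algebra.TensorProduct.ext'
      intro a b
      have hb : εD (f₂ b) = εD (f₁ b) := (AlgHom.congr_fun h b).symm
      show εD (F (a ⊗ₜ[R] b)) = εD (f₁ (Algebra.TensorProduct.lmul' R (a ⊗ₜ[R] b)))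
      rw [hF, Algebra.TensorProduct.lmul'_apply_tmul, map_mul, map_mul, map_mul, hb]
    have h3 := AlgHom.congr_fun h0 t
    have h4 : εD (F t) = εD (f₁ (Algebra.TensorProduct.lmul' R t)) := h3
    rw [h4, ht2, map_one, map_one]
  have h3 : IsUnit (F t) := by
    by_contra hu
    have hm : F t ∈ IsLocalRing.maximalIdeal D := (IsLocalRing.mem_maximalIdeal _).mpr hu
    have hk : RingHom.ker εD ≤ IsLocalRing.maximalIdeal D := by
      apply IsLocalRing.le_maximalIdeal
      intro htop
      have h5 : (1 : D) ∈ RingHom.ker εD := htop ▸ Submodule.mem_top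
      rw [RingHom.mem_ker, map_one] at h5
      exact one_ne_zero h5
    have h4 : F t - 1 ∈ RingHom.ker εD := by
      rw [RingHom.mem_ker, map_sub, h2, map_one, sub_self]
    have h5 : (1 : D) ∈ IsLocalRing.maximalIdeal D := by
      have h6 := (IsLocalRing.maximalIdeal D).sub_mem hm (hk h4)
      rwa [sub_sub_cancel] at h6
    exact (Ideal.ne_top_iff_one _).mp (IsLocalRing.maximalIdeal.isMaximal D).ne_top h5
  apply AlgHom.ext
  intro s
  have h6 := (h3.mul_left_eq_zero).mp (h1 s)
  exact (sub_eq_zero.mp h6).symm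

section main
variable (R : Type u) [CommRing R] [Nontrivial R] (A A'' : Type u) [CommRing A] [HopfAlgebra R A]
  [Module.Finite R A] [CommRing A''] [HopfAlgebra R A''] [Algebra A'' A] [IsScalarTower R A'' A]
  [Module.Flat A'' A]
  (hε : (Bialgebra.counitAlgHom R A).comp (IsScalarTower.toAlgHom R A'' A) =
      Bialgebra.counitAlgHom R A'')
  [IsLocalRing A'']
  [Algebra.Etale R (A ⧸ (RingHom.ker (Bialgebra.counitAlgHom R A'')).map (algebraMap A'' A))]
  (e : A) (he : IsIdempotentElem e) (heε : Bialgebra.counitAlgHom R A e = 1)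
  [IsLocalRing (A ⧸ Ideal.span ({1 - e} : Set A))]

local notation "JJ" => Ideal.map (algebraMap A'' A) (RingHom.ker (Bialgebra.counitAlgHom R A''))
local notation "I0" => Ideal.span ({1 - e} : Set A)

include hε heε in
theorem le_ker : JJ ⊔ I0 ≤ RingHom.ker (Bialgebra.counitAlgHom R A) := by
  apply sup_le
  · rw [Ideal.map_le_iff_le_comap]
    intro c hc
    rw [Ideal.mem_comap, RingHom.mem_ker]
    have h1 : Bialgebra.counitAlgHom R A (algebraMap A'' A c) = Bialgebra.counitAlgHom R A'' c :=
      AlgHom.congr_fun hε c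
    rw [h1]
    exact hc
  · rw [Ideal.span_le, Set.singleton_subset_iff]
    show (1 - e) ∈ RingHom.ker (Bialgebra.counitAlgHom R A)
    rw [RingHom.mem_ker, map_sub, map_one, heε, sub_self]

include hε heε in
theorem sub_counit_mem (a : A) :
    a - algebraMap R A (Bialgebra.counitAlgHom R A a) ∈ JJ ⊔ I0 := by
  have hK := le_ker R A A'' hε e heε
  let εD : (A ⧸ (JJ ⊔ I0)) →ₐ[R] R :=
    Ideal.Quotient.liftₐ _ (Bialgebra.counitAlgHom R A) (fun a ha => hK ha)
  haveI : Nontrivial (A ⧸ (JJ ⊔ I0)) := εD.toRingHom.domain_nontrivial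
  haveI : IsLocalRing (A ⧸ (JJ ⊔ I0)) :=
    IsLocalRing.of_surjective' (Ideal.Quotient.factor (le_sup_right : I0 ≤ JJ ⊔ I0))
      (Ideal.Quotient.factor_surjective _)
  let f₁ : (A ⧸ JJ) →ₐ[R] (A ⧸ (JJ ⊔ I0)) := Ideal.Quotient.factorₐ R le_sup_left
  let εJ : (A ⧸ JJ) →ₐ[R] R :=
    Ideal.Quotient.liftₐ _ (Bialgebra.counitAlgHom R A) (fun a ha => hK (le_sup_left (a := JJ) ha))
  let f₂ : (A ⧸ JJ) →ₐ[R] (A ⧸ (JJ ⊔ I0)) := (Algebra.ofId R _).comp εJ
  have h12 : f₁ = f₂ := by
    apply unram_unique R _ _ εD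
    apply Ideal.Quotient.algHom_ext R
    apply AlgHom.ext
    intro a
    show εD (f₁ (Ideal.Quotient.mk _ a)) = εD (f₂ (Ideal.Quotient.mk _ a))
    have h1 : f₂ (Ideal.Quotient.mk _ a) = algebraMap R _ (Bialgebra.counitAlgHom R A a) := rfl
    rw [h1, AlgHom.commutes]
    rfl
  have h3 := AlgHom.congr_fun h12 (Ideal.Quotient.mk _ a)
  have h4 : Ideal.Quotient.mk (JJ ⊔ I0) a =
      Ideal.Quotient.mk (JJ ⊔ I0) (algebraMap R A (Bialgebra.counitAlgHom R A a)) := h3
  exact Ideal.Quotient.eq.mp h4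

include hε he heε in
theorem bijective :
    Function.Bijective ((Ideal.Quotient.mkₐ R I0).comp (IsScalarTower.toAlgHom R A'' A)) := by
  haveI : Module.Finite R (A ⧸ I0) := Module.Finite.of_surjective
    (Ideal.Quotient.mkₐ R I0).toLinearMap (Ideal.Quotient.mkₐ_surjective R _)
  haveI : Module.Finite A'' (A ⧸ I0) := Module.Finite.of_restrictScalars_finite R A'' (A ⧸ I0)
  have hne : RingHom.ker (Bialgebra.counitAlgHom R A'') ≠ ⊤ := by
    intro htop
    have h5 : (1 : A'') ∈ RingHom.ker (Bialgebra.counitAlgHom R A'') := htop ▸ Submodule.mem_top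
    rw [RingHom.mem_ker, map_one] at h5
    exact one_ne_zero h5
  have hsurj : Function.Surjective (algebraMap A'' (A ⧸ I0)) := by
    have hjac : RingHom.ker (Bialgebra.counitAlgHom R A'') ≤ Ideal.jacobson ⊥ := by
      rw [IsLocalRing.jacobson_eq_maximalIdeal ⊥ bot_ne_top]
      exact IsLocalRing.le_maximalIdeal hne
    have hNN : (⊤ : Submodule A'' (A ⧸ I0)) ≤
        LinearMap.range (Algebra.linearMap A'' (A ⧸ I0)) ⊔
          RingHom.ker (Bialgebra.counitAlgHom R A'') • (⊤ : Submodule A'' (A ⧸ I0)) := by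
      intro x _
      obtain ⟨a, rfl⟩ := Ideal.Quotient.mk_surjective x
      have hd := sub_counit_mem R A A'' hε e heε a
      have hx : Ideal.Quotient.mk I0 a =
          Ideal.Quotient.mk I0 (algebraMap R A (Bialgebra.counitAlgHom R A a)) +
          Ideal.Quotient.mk I0 (a - algebraMap R A (Bialgebra.counitAlgHom R A a)) := by
        rw [← map_add]; congr 1; ring
      rw [hx]
      apply Submodule.add_mem_sup
      · refine ⟨algebraMap R A'' (Bialgebra.counitAlgHom R A a), ?_⟩
        show algebraMap A'' (A ⧸ I0) (algebraMap R A'' _) = _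
        rw [IsScalarTower.algebraMap_apply R A'' A]
        rfl
      · rw [Ideal.smul_top_eq_map]
        show Ideal.Quotient.mk I0 _ ∈
          Ideal.map (algebraMap A'' (A ⧸ I0)) (RingHom.ker (Bialgebra.counitAlgHom R A''))
        have h1 : Ideal.map (algebraMap A'' (A ⧸ I0)) (RingHom.ker (Bialgebra.counitAlgHom R A'')) =
            Ideal.map (Ideal.Quotient.mk I0) JJ := by
          rw [Ideal.map_map]
          rfl
        rw [h1]
        have h2 := Ideal.mem_map_of_mem (Ideal.Quotient.mk I0) hd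
        rw [Ideal.map_sup, Ideal.map_quotient_self, sup_bot_eq] at h2
        exact h2
    have htop := Submodule.le_of_le_smul_of_le_jacobson_bot Module.Finite.fg_top hjac hNN
    intro x
    obtain ⟨c, hc⟩ := htop (Submodule.mem_top : x ∈ ⊤)
    exact ⟨c, hc⟩
  have hinj : Function.Injective (algebraMap A'' (A ⧸ I0)) := by
    haveI : IsLocalization.Away e (A ⧸ I0) := IsLocalization.Away.quotient_of_isIdempotentElem he
    haveI : Module.Flat A (A ⧸ I0) := IsLocalization.flat (A ⧸ I0) (Submonoid.powers e)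
    haveI : Module.Flat A'' (A ⧸ I0) := Module.Flat.trans A'' A (A ⧸ I0)
    haveI : Algebra.IsIntegral A'' (A ⧸ I0) := Algebra.IsIntegral.of_finite A'' (A ⧸ I0)
    haveI : IsLocalHom (algebraMap A'' (A ⧸ I0)) :=
      ((IsLocalRing.local_hom_TFAE (algebraMap A'' (A ⧸ I0))).out 0 4).mpr
        (IsLocalRing.eq_maximalIdeal
          (Ideal.isMaximal_comap_of_isIntegral_of_isMaximal (IsLocalRing.maximalIdeal (A ⧸ I0))))
    haveI : Module.FaithfullyFlat A'' (A ⧸ I0) := Module.FaithfullyFlat.of_flat_of_isLocalHom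
    exact FaithfulSMul.algebraMap_injective A'' (A ⧸ I0)
  exact ⟨fun x y h => hinj h, fun x => hsurj x⟩

end main

end UnitCompH1
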