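import Mathlib
import Groth.Agent.Lib.UnitComp_helper1

set_option autoImplicit false
set_option maxHeartbeats 1000000

/-!
# Maps between connected and étale finite group schemes (helper1)
-/

namespace ConnEtH1

open TensorProduct WithConv

universe u

theorem idem_local {D : Type u} [CommRing D] [IsLocalRing D] (x : D) (hx : IsIdempotentElem x) :
    x = 0 ∨ x = 1 := by
  have h0 : x * (1 - x) = 0 := by
    have : x * x = x := hx
    rw [mul_sub, mul_one, this, sub_self]
  rcases IsLocalRing.isUnit_or_isUnit_of_add_one (show x + (1 - x) = 1 by ring) with h | h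
  · right
    have h1 := (h.mul_right_eq_zero).mp h0
    exact (sub_eq_zero.mp h1).symm
  · left
    exact (h.mul_left_eq_zero).mp h0

section main
variable (R : Type u) [CommRing R] [Nontrivial R]
  (A : Type u) [CommRing A] [HopfAlgebra R A]
  (e : A) (hε : Bialgebra.counitAlgHom R A e = 1)
  [IsLocalRing (A ⧸ Ideal.span ({1 - e} : Set A))]

local notation "I0" => Ideal.span ({1 - e} : Set A)

include hε in
theorem le_ker0 : I0 ≤ RingHom.ker (Bialgebra.counitAlgHom R A) := by
  rw [Ideal.span_le, Set.singleton_subset_iff]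
  show (1 - e) ∈ RingHom.ker (Bialgebra.counitAlgHom R A)
  rw [RingHom.mem_ker, map_sub, map_one, hε, sub_self]

include hε in
theorem etale_part (C : Type u) [CommRing C] [HopfAlgebra R C] [Algebra.Etale R C]
    (φ : C →ₐc[R] A) (c : C) :
    φ c ∈ (AlgHom.equalizer
      ((Algebra.TensorProduct.map (AlgHom.id R A) (Ideal.Quotient.mkₐ R I0)).comp
        (Bialgebra.comulAlgHom R A))
      (Algebra.TensorProduct.includeLeft : A →ₐ[R] A ⊗[R] (A ⧸ I0))) := by
  have hK := le_ker0 R A e hε
  let εD : (A ⧸ I0) →ₐ[R] R :=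
    Ideal.Quotient.liftₐ _ (Bialgebra.counitAlgHom R A) (fun a ha => hK ha)
  have h12 : (Ideal.Quotient.mkₐ R I0).comp (φ : C →ₐ[R] A) =
      (Algebra.ofId R (A ⧸ I0)).comp (Bialgebra.counitAlgHom R C) := by
    apply UnitCompH1.unram_unique R _ _ εD
    apply AlgHom.ext
    intro x
    show Coalgebra.counit (R := R) (φ x) = εD (algebraMap R _ (Coalgebra.counit (R := R) x))
    rw [AlgHom.commutes, CoalgHomClass.counit_comp_apply]
    rfl
  have h1 := RedDecompH1.map_comp_comul_eq (AlgHom.id R A) (Ideal.Quotient.mkₐ R I0)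
  rw [AlgHom.comp_id] at h1
  have h2 := AlgHom.convMul_comp_bialgHom_distrib
    (toConv (Algebra.TensorProduct.includeLeft : A →ₐ[R] A ⊗[R] (A ⧸ I0)))
    (toConv ((Algebra.TensorProduct.includeRight : (A ⧸ I0) →ₐ[R] A ⊗[R] (A ⧸ I0)).comp
      (Ideal.Quotient.mkₐ R I0))) φ
  rw [ofConv_toConv, ofConv_toConv, AlgHom.comp_assoc, h12, ← AlgHom.comp_assoc] at h2
  have h3 : ((Algebra.TensorProduct.includeRight : (A ⧸ I0) →ₐ[R] A ⊗[R] (A ⧸ I0)).comp
      (Algebra.ofId R (A ⧸ I0))).comp (Bialgebra.counitAlgHom R C) =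
      ofConv (1 : WithConv (C →ₐ[R] A ⊗[R] (A ⧸ I0))) := by
    apply AlgHom.ext
    intro x
    show (Algebra.TensorProduct.includeRight : (A ⧸ I0) →ₐ[R] A ⊗[R] (A ⧸ I0))
      (algebraMap R _ (Coalgebra.counit (R := R) x)) = algebraMap R _ (Coalgebra.counit (R := R) x)
    rw [AlgHom.commutes]
  rw [h3] at h2
  have h4 : ((Algebra.TensorProduct.map (AlgHom.id R A) (Ideal.Quotient.mkₐ R I0)).comp
      (Bialgebra.comulAlgHom R A)).comp (φ : C →ₐ[R] A) =
      (Algebra.TensorProduct.includeLeft : A →ₐ[R] A ⊗[R] (A ⧸ I0)).comp (φ : C →ₐ[R] A) := by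
    rw [h1, h2]
    exact congrArg ofConv (mul_one (toConv
      ((Algebra.TensorProduct.includeLeft : A →ₐ[R] A ⊗[R] (A ⧸ I0)).comp (φ : C →ₐ[R] A))))
  exact AlgHom.congr_fun h4 c

include hε in
theorem conn_part (D : Type u) [CommRing D] [HopfAlgebra R D] [IsLocalRing D]
    (he : IsIdempotentElem e) (ψ : A →ₐc[R] D) : ψ e = 1 := by
  have h1 : IsIdempotentElem (ψ e) := by
    show ψ e * ψ e = ψ e
    rw [← map_mul, he.eq]
  rcases idem_local (ψ e) h1 with h | h
  · exfalso
    have h2 : Coalgebra.counit (R := R) (ψ e) = Coalgebra.counit (R := R) e :=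
      CoalgHomClass.counit_comp_apply ψ e
    have h3 : Coalgebra.counit (R := R) e = 1 := hε
    rw [h, map_zero, h3] at h2
    exact zero_ne_one h2
  · exact h

end main

end ConnEtH1
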