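import Mathlib
import Groth.Prelude.Def_Conn

open TensorProduct

namespace Groth.Agent.Lib.ConnH

universe v u

section General

variable {B Ω X E F G : Type u} [CommRing B]
  [AddCommGroup Ω] [Module B Ω]
  [AddCommGroup X] [Module B X]
  [AddCommGroup E] [Module B E]
  [AddCommGroup F] [Module B F]
  [AddCommGroup G] [Module B G]

theorem L1g (θ : Ω →ₗ[B] B) (x : (E →ₗ[B] G) ⊗[B] Ω) (e : E) :
    (TensorProduct.rid B (E →ₗ[B] G) (TensorProduct.map LinearMap.id θ x)) e =
      TensorProduct.rid B G (TensorProduct.map LinearMap.id θ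
        (TensorProduct.map (LinearMap.applyₗ e) LinearMap.id x)) := by
  induction x using TensorProduct.induction_on with
  | zero => simp
  | tmul ψ ω => simp
  | add x y hx hy => simp only [map_add, LinearMap.add_apply, hx, hy]

theorem recon {ι : Type*} [Fintype ι] (b : Module.Basis ι B Ω) (x : X ⊗[B] Ω) :
    x = ∑ i, (TensorProduct.rid B X (TensorProduct.map LinearMap.id (b.coord i) x)) ⊗ₜ[B] b i := by
  induction x using TensorProduct.induction_on with
  | zero => simp
  | tmul ψ ω =>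
    simp only [TensorProduct.map_tmul, LinearMap.id_apply, TensorProduct.rid_tmul,
      Module.Basis.coord_apply]
    conv_lhs => rw [← b.sum_repr ω]
    rw [TensorProduct.tmul_sum]
    refine Finset.sum_congr rfl fun i _ => ?_
    exact (TensorProduct.smul_tmul _ _ _).symm
  | add x y hx hy =>
    simp only [map_add, TensorProduct.add_tmul, Finset.sum_add_distrib]
    exact congrArg₂ (· + ·) hx hy

theorem inj_of_apply [Module.Finite B Ω] [Module.Free B Ω] (x y : (E →ₗ[B] G) ⊗[B] Ω)
    (h : ∀ e : E, TensorProduct.map (LinearMap.applyₗ e) LinearMap.id x =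
      TensorProduct.map (LinearMap.applyₗ e) LinearMap.id y) : x = y := by
  rw [recon (Module.Free.chooseBasis B Ω) x, recon (Module.Free.chooseBasis B Ω) y]
  refine Finset.sum_congr rfl fun i _ => ?_
  congr 1
  ext e
  rw [L1g, L1g, h e]

theorem T1 (φ : E →ₗ[B] F) (e : E) (y : (F →ₗ[B] G) ⊗[B] Ω) :
    TensorProduct.map (LinearMap.applyₗ e) LinearMap.id
      (TensorProduct.map (TensorProduct.lift (LinearMap.llcomp B E F G)) LinearMap.id
        (Conn.swapR (y ⊗ₜ[B] φ))) =
    TensorProduct.map (LinearMap.applyₗ (φ e)) LinearMap.id y := by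
  induction y using TensorProduct.induction_on with
  | zero => simp
  | tmul ψ ω => simp [Conn.swapR_tmul]
  | add x y hx hy => simp only [TensorProduct.add_tmul, map_add, hx, hy]

theorem T2 (ψ : F →ₗ[B] G) (e : E) (z : (E →ₗ[B] F) ⊗[B] Ω) :
    TensorProduct.map (LinearMap.applyₗ e) LinearMap.id
      (TensorProduct.map (TensorProduct.lift (LinearMap.llcomp B E F G)) LinearMap.id
        ((TensorProduct.assoc B (F →ₗ[B] G) (E →ₗ[B] F) Ω).symm (ψ ⊗ₜ[B] z))) =
    TensorProduct.map ψ LinearMap.id (TensorProduct.map (LinearMap.applyₗ e) LinearMap.id z) := by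
  induction z using TensorProduct.induction_on with
  | zero => simp
  | tmul φ ω => simp
  | add x y hx hy => simp only [TensorProduct.tmul_add, map_add, hx, hy]

theorem T3 (ψ : F →ₗ[B] G) (φ : E →ₗ[B] F) (w : E ⊗[B] Ω) :
    TensorProduct.map ψ LinearMap.id (TensorProduct.map φ LinearMap.id w) =
      TensorProduct.map (ψ ∘ₗ φ) LinearMap.id w := by
  induction w using TensorProduct.induction_on with
  | zero => simp
  | tmul e ω => simp
  | add x y hx hy => simp only [map_add, hx, hy]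

theorem U1 (g : G) (e : E) (y : (E →ₗ[B] F) ⊗[B] Ω) :
    TensorProduct.map (LinearMap.applyₗ e) LinearMap.id
      (TensorProduct.map (TensorProduct.rTensorHomToHomRTensor (RingHom.id B) E F G) LinearMap.id
        (Conn.swapR (y ⊗ₜ[B] g))) =
    Conn.swapR ((TensorProduct.map (LinearMap.applyₗ e) LinearMap.id y) ⊗ₜ[B] g) := by
  induction y using TensorProduct.induction_on with
  | zero => simp
  | tmul φ ω => simp [Conn.swapR_tmul]
  | add x y hx hy => simp only [TensorProduct.add_tmul, map_add, hx, hy]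

theorem U2 (φ : E →ₗ[B] F) (e : E) (z : G ⊗[B] Ω) :
    TensorProduct.map (LinearMap.applyₗ e) LinearMap.id
      (TensorProduct.map (TensorProduct.rTensorHomToHomRTensor (RingHom.id B) E F G) LinearMap.id
        ((TensorProduct.assoc B (E →ₗ[B] F) G Ω).symm (φ ⊗ₜ[B] z))) =
    (TensorProduct.assoc B F G Ω).symm (φ e ⊗ₜ[B] z) := by
  induction z using TensorProduct.induction_on with
  | zero => simp
  | tmul g ω => simp
  | add x y hx hy => simp only [TensorProduct.tmul_add, map_add, hx, hy]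

theorem U3 (φ : E →ₗ[B] F) (g : G) (w : E ⊗[B] Ω) :
    Conn.swapR ((TensorProduct.map φ LinearMap.id w) ⊗ₜ[B] g) =
      TensorProduct.map (TensorProduct.rTensorHomToHomRTensor (RingHom.id B) E F G (φ ⊗ₜ[B] g))
        LinearMap.id w := by
  induction w using TensorProduct.induction_on with
  | zero => simp
  | tmul e ω => simp [Conn.swapR_tmul]
  | add x y hx hy => simp only [map_add, TensorProduct.add_tmul, hx, hy]

theorem W2 (σ : F →ₗ[B] G) (e : E) (x : (E →ₗ[B] F) ⊗[B] Ω) :
    TensorProduct.map (LinearMap.applyₗ e) LinearMap.id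
      (TensorProduct.map (LinearMap.llcomp B E F G σ) LinearMap.id x) =
    TensorProduct.map σ LinearMap.id (TensorProduct.map (LinearMap.applyₗ e) LinearMap.id x) := by
  induction x using TensorProduct.induction_on with
  | zero => simp
  | tmul ψ ω => simp
  | add x y hx hy => simp only [map_add, hx, hy]

end General

theorem main62 {A : Type v} {B Ω E F G : Type u}
    [CommRing A] [CommRing B] [Algebra A B]
    [AddCommGroup Ω] [Module B Ω] [Module A Ω] [IsScalarTower A B Ω] [Module.Finite B Ω]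
    [Module.Free B Ω]
    [AddCommGroup E] [Module B E] [Module A E] [IsScalarTower A B E]
    [AddCommGroup F] [Module B F] [Module A F] [IsScalarTower A B F]
    [AddCommGroup G] [Module B G] [Module A G] [IsScalarTower A B G]
    (nE : E →ₗ[A] E ⊗[B] Ω)
    (nF : F →ₗ[A] F ⊗[B] Ω)
    (nG : G →ₗ[A] G ⊗[B] Ω)
    (nEF : (E →ₗ[B] F) →ₗ[A] (E →ₗ[B] F) ⊗[B] Ω) (hEF : Conn.IsHomConn nE nF nEF)
    (nFG : (F →ₗ[B] G) →ₗ[A] (F →ₗ[B] G) ⊗[B] Ω) (hFG : Conn.IsHomConn nF nG nFG)
    (nEG : (E →ₗ[B] G) →ₗ[A] (E →ₗ[B] G) ⊗[B] Ω) (hEG : Conn.IsHomConn nE nG nEG)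
    (nT : (F →ₗ[B] G) ⊗[B] (E →ₗ[B] F) →ₗ[A] ((F →ₗ[B] G) ⊗[B] (E →ₗ[B] F)) ⊗[B] Ω)
    (hT : Conn.IsTensorConn nFG nEF nT) :
    Conn.IsHorizontal nT nEG (TensorProduct.lift (LinearMap.llcomp B E F G)) := by
  intro t
  induction t using TensorProduct.induction_on with
  | zero => simp
  | add x y hx hy => simp only [map_add, hx, hy]
  | tmul ψ φ =>
    apply inj_of_apply
    intro e
    rw [hT ψ φ]
    simp only [map_add]
    rw [T1, T2, TensorProduct.lift.tmul, LinearMap.llcomp_apply', hEG (ψ ∘ₗ φ) e, hFG ψ (φ e),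
      hEF φ e, map_sub, T3, LinearMap.comp_apply]
    abel

theorem main66 {A : Type v} {B Ω E F G : Type u}
    [CommRing A] [CommRing B] [Algebra A B]
    [AddCommGroup Ω] [Module B Ω] [Module A Ω] [IsScalarTower A B Ω] [Module.Finite B Ω]
    [Module.Free B Ω]
    [AddCommGroup E] [Module B E] [Module A E] [IsScalarTower A B E]
    [AddCommGroup F] [Module B F] [Module A F] [IsScalarTower A B F]
    [AddCommGroup G] [Module B G] [Module A G] [IsScalarTower A B G]
    (nE : E →ₗ[A] E ⊗[B] Ω)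
    (nF : F →ₗ[A] F ⊗[B] Ω)
    (nG : G →ₗ[A] G ⊗[B] Ω)
    (nEF : (E →ₗ[B] F) →ₗ[A] (E →ₗ[B] F) ⊗[B] Ω) (hEF : Conn.IsHomConn nE nF nEF)
    (nFG : F ⊗[B] G →ₗ[A] (F ⊗[B] G) ⊗[B] Ω) (hFG : Conn.IsTensorConn nF nG nFG)
    (nH : (E →ₗ[B] F ⊗[B] G) →ₗ[A] (E →ₗ[B] F ⊗[B] G) ⊗[B] Ω) (hH : Conn.IsHomConn nE nFG nH)
    (nS : (E →ₗ[B] F) ⊗[B] G →ₗ[A] ((E →ₗ[B] F) ⊗[B] G) ⊗[B] Ω)
    (hS : Conn.IsTensorConn nEF nG nS) :
    Conn.IsHorizontal nS nH (TensorProduct.rTensorHomToHomRTensor (RingHom.id B) E F G) := by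
  intro t
  induction t using TensorProduct.induction_on with
  | zero => simp
  | add x y hx hy => simp only [map_add, hx, hy]
  | tmul φ g =>
    apply inj_of_apply
    intro e
    rw [hS φ g]
    simp only [map_add]
    rw [U1, U2, hH (TensorProduct.rTensorHomToHomRTensor (RingHom.id B) E F G (φ ⊗ₜ[B] g)) e,
      hEF φ e, TensorProduct.rTensorHomToHomRTensor_apply, hFG (φ e) g, TensorProduct.sub_tmul,
      map_sub, U3]
    abel

section Trace

variable {A : Type v} {B Ω M : Type u} [CommRing A] [CommRing B] [Algebra A B]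
  [AddCommGroup Ω] [Module B Ω] [Module A Ω] [IsScalarTower A B Ω]
  [AddCommGroup M] [Module B M] [Module A M] [IsScalarTower A B M]

omit [Module A Ω] [IsScalarTower A B Ω] [Module A M] [IsScalarTower A B M] in
theorem trace_eq_sum {ι : Type*} [Fintype ι] [DecidableEq ι] (b : Module.Basis ι B M)
    (ψ : M →ₗ[B] M) : LinearMap.trace B M ψ = ∑ i, b.repr (ψ (b i)) i := by
  rw [LinearMap.trace_eq_matrix_trace B b ψ]
  simp only [Matrix.trace, Matrix.diag, LinearMap.toMatrix_apply]

omit [Module A Ω] [IsScalarTower A B Ω] [Module A M] [IsScalarTower A B M] in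
theorem V1 {ι : Type*} [Fintype ι] [DecidableEq ι] (b : Module.Basis ι B M)
    (x : (M →ₗ[B] M) ⊗[B] Ω) :
    TensorProduct.map (LinearMap.trace B M) LinearMap.id x =
      ∑ i, TensorProduct.map (b.coord i) LinearMap.id
        (TensorProduct.map (LinearMap.applyₗ (b i)) LinearMap.id x) := by
  induction x using TensorProduct.induction_on with
  | zero => simp
  | tmul ψ ω =>
    simp only [TensorProduct.map_tmul, LinearMap.id_apply, trace_eq_sum b ψ,
      TensorProduct.sum_tmul]
    simp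
  | add x y hx hy => simp only [map_add, hx, hy, Finset.sum_add_distrib]

theorem LC {ι : Type*} [Fintype ι] [DecidableEq ι] (b : Module.Basis ι B M)
    (δ : Derivation A B Ω) (nabla : M →ₗ[A] M ⊗[B] Ω) (hc : Conn.IsConn δ nabla) (i : ι) (m : M) :
    TensorProduct.map (b.coord i) LinearMap.id (nabla m) =
      ∑ j, (b.repr m j) • TensorProduct.map (b.coord i) LinearMap.id (nabla (b j))
        + (1 : B) ⊗ₜ[B] δ (b.repr m i) := by
  have h1 : nabla m = ∑ j, ((b.repr m j) • nabla (b j) + b j ⊗ₜ[B] δ (b.repr m j)) := by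
    conv_lhs => rw [← b.sum_repr m]
    rw [map_sum]
    exact Finset.sum_congr rfl fun j _ => hc _ _
  have h2 : ∑ j, (b.coord i (b j)) ⊗ₜ[B] δ (b.repr m j) = (1 : B) ⊗ₜ[B] δ (b.repr m i) := by
    rw [Finset.sum_eq_single i]
    · simp
    · intro j _ hji
      simp [Finsupp.single_apply, hji]
    · intro h; exact absurd (Finset.mem_univ i) h
  rw [h1, map_sum]
  simp only [map_add, map_smul, TensorProduct.map_tmul, LinearMap.id_apply,
    Finset.sum_add_distrib, h2]

omit [Module A Ω] [IsScalarTower A B Ω] [Module A M] [IsScalarTower A B M] in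
theorem V3 {ι : Type*} [Fintype ι] [DecidableEq ι] (b : Module.Basis ι B M) (φ : M →ₗ[B] M)
    (i : ι) (w : M ⊗[B] Ω) :
    TensorProduct.map (b.coord i) LinearMap.id (TensorProduct.map φ LinearMap.id w) =
      ∑ j, (b.repr (φ (b j)) i) • TensorProduct.map (b.coord j) LinearMap.id w := by
  induction w using TensorProduct.induction_on with
  | zero => simp
  | tmul m ω =>
    have h := congrFun (LinearMap.toMatrix_mulVec_repr b b φ m) i
    simp only [Matrix.mulVec, dotProduct, LinearMap.toMatrix_apply] at h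
    simp only [TensorProduct.map_tmul, LinearMap.id_apply, Module.Basis.coord_apply,
      TensorProduct.smul_tmul', smul_eq_mul]
    rw [← TensorProduct.sum_tmul, h]
  | add x y hx hy => simp only [map_add, hx, hy, smul_add, Finset.sum_add_distrib]

theorem main61 [Module.Finite B M] [Module.Free B M]
    (δ : Derivation A B Ω) (nabla : M →ₗ[A] M ⊗[B] Ω) (hc : Conn.IsConn δ nabla)
    (nablaE : (M →ₗ[B] M) →ₗ[A] (M →ₗ[B] M) ⊗[B] Ω) (hE : Conn.IsHomConn nabla nabla nablaE) :
    Conn.IsHorizontal nablaE (Conn.triv δ) (LinearMap.trace B M) := by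
  classical
  intro φ
  obtain ⟨b⟩ : Nonempty (Module.Basis (Module.Free.ChooseBasisIndex B M) B M) :=
    ⟨Module.Free.chooseBasis B M⟩
  rw [V1 b, Conn.triv_apply]
  have key : ∀ i, TensorProduct.map (b.coord i) LinearMap.id
        (TensorProduct.map (LinearMap.applyₗ (b i)) LinearMap.id (nablaE φ)) =
      (∑ j, (b.repr (φ (b i)) j) • TensorProduct.map (b.coord i) LinearMap.id (nabla (b j))
        + (1 : B) ⊗ₜ[B] δ (b.repr (φ (b i)) i))
      - ∑ j, (b.repr (φ (b j)) i) • TensorProduct.map (b.coord j) LinearMap.id (nabla (b i)) := by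
    intro i
    rw [hE φ (b i), map_sub, LC b δ nabla hc i (φ (b i)), V3 b φ i]
  have hswap : ∑ i, ∑ j, (b.repr (φ (b i)) j) •
        TensorProduct.map (b.coord i) LinearMap.id (nabla (b j)) =
      ∑ i, ∑ j, (b.repr (φ (b j)) i) •
        TensorProduct.map (b.coord j) LinearMap.id (nabla (b i)) :=
    Finset.sum_comm
  rw [Finset.sum_congr rfl (fun i _ => key i), Finset.sum_sub_distrib, Finset.sum_add_distrib,
    hswap, trace_eq_sum b φ, map_sum, TensorProduct.tmul_sum]
  abel

theorem nabla_pm (nabla : M →ₗ[A] M ⊗[B] Ω) (c : B) (hc : c = 1 ∨ c = -1) (m : M) :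
    nabla (c • m) = c • nabla m := by
  rcases hc with h | h <;> subst h
  · rw [one_smul, one_smul]
  · rw [neg_smul, one_smul, neg_smul, one_smul, map_neg]

theorem hom_sigma [Module.Finite B Ω] [Module.Free B Ω]
    (nabla : M →ₗ[A] M ⊗[B] Ω)
    (nablaE : (M →ₗ[B] M) →ₗ[A] (M →ₗ[B] M) ⊗[B] Ω) (hE : Conn.IsHomConn nabla nabla nablaE)
    (σ : M →ₗ[B] M)
    (hσ : ∀ m, nabla (σ m) = TensorProduct.map σ LinearMap.id (nabla m)) (φ : M →ₗ[B] M) :
    nablaE (σ ∘ₗ φ) =
      TensorProduct.map (LinearMap.llcomp B M M M σ) LinearMap.id (nablaE φ) := by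
  apply inj_of_apply
  intro m
  rw [W2, hE (σ ∘ₗ φ) m, hE φ m, map_sub, T3, LinearMap.comp_apply, hσ]

theorem super_general [Module.Finite B Ω] [Module.Free B Ω] [Module.Finite B M] [Module.Free B M]
    (δ : Derivation A B Ω) (nabla : M →ₗ[A] M ⊗[B] Ω) (hc : Conn.IsConn δ nabla)
    (nablaE : (M →ₗ[B] M) →ₗ[A] (M →ₗ[B] M) ⊗[B] Ω) (hE : Conn.IsHomConn nabla nabla nablaE)
    (σ : M →ₗ[B] M)
    (hσ : ∀ m, nabla (σ m) = TensorProduct.map σ LinearMap.id (nabla m)) :
    Conn.IsHorizontal nablaE (Conn.triv δ)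
      (LinearMap.trace B M ∘ₗ LinearMap.llcomp B M M M σ) := by
  intro φ
  have h1 := main61 δ nabla hc nablaE hE (σ ∘ₗ φ)
  rw [hom_sigma nabla nablaE hE σ hσ φ, T3] at h1
  exact h1

end Trace

section Super

variable {A : Type v} {B Ω ι : Type u} [CommRing A] [CommRing B] [Algebra A B]
  [AddCommGroup Ω] [Module B Ω] [Module A Ω] [IsScalarTower A B Ω]
  [Fintype ι] [DecidableEq ι] (M : ι → Type u)
  [∀ i, AddCommGroup (M i)] [∀ i, Module B (M i)] [∀ i, Module A (M i)]
  [∀ i, IsScalarTower A B (M i)]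

/-- The sign operator. -/
noncomputable def sgn (c : ι → B) : (Π k, M k) →ₗ[B] (Π k, M k) :=
  ∑ i : ι, (LinearMap.single B M i) ∘ₗ (c i • (LinearMap.proj i : (Π k, M k) →ₗ[B] M i))

omit [∀ i, Module A (M i)] [∀ i, IsScalarTower A B (M i)] in
theorem sgn_single (c : ι → B) (i : ι) (x : M i) :
    sgn M c (LinearMap.single B M i x) = c i • LinearMap.single B M i x := by
  unfold sgn
  simp only [LinearMap.sum_apply, LinearMap.comp_apply, LinearMap.smul_apply,
    LinearMap.proj_apply, LinearMap.single_apply]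
  rw [Finset.sum_eq_single i]
  · rw [Pi.single_eq_same, Pi.single_smul]
  · intro k _ hki
    rw [Pi.single_eq_of_ne hki, smul_zero, Pi.single_zero]
  · intro h; exact absurd (Finset.mem_univ i) h

omit [∀ i, Module A (M i)] [∀ i, IsScalarTower A B (M i)] in
theorem W1 (w : (Π k, M k) ⊗[B] Ω) :
    ∑ k, TensorProduct.map (LinearMap.single B M k) LinearMap.id
      (TensorProduct.map (LinearMap.proj k : (Π k, M k) →ₗ[B] M k) LinearMap.id w) = w := by
  induction w using TensorProduct.induction_on with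
  | zero => simp
  | tmul m ω =>
    simp only [TensorProduct.map_tmul, LinearMap.id_apply, LinearMap.proj_apply,
      LinearMap.single_apply]
    rw [← TensorProduct.sum_tmul, Finset.univ_sum_single]
  | add x y hx hy =>
    simp only [map_add, Finset.sum_add_distrib, hx, hy]

omit [∀ i, Module A (M i)] [∀ i, IsScalarTower A B (M i)] in
theorem W3 (c : ι → B) (w : (Π k, M k) ⊗[B] Ω) :
    TensorProduct.map (sgn M c) LinearMap.id w =
      ∑ k, c k • TensorProduct.map (LinearMap.single B M k) LinearMap.id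
        (TensorProduct.map (LinearMap.proj k : (Π k, M k) →ₗ[B] M k) LinearMap.id w) := by
  unfold sgn
  induction w using TensorProduct.induction_on with
  | zero => simp
  | tmul m ω =>
    simp only [TensorProduct.map_tmul, LinearMap.id_apply, LinearMap.sum_apply,
      LinearMap.comp_apply, LinearMap.smul_apply, map_smul, TensorProduct.sum_tmul,
      TensorProduct.smul_tmul']
  | add x y hx hy =>
    simp only [map_add, hx, hy, smul_add, Finset.sum_add_distrib]

theorem sgn_horiz_single (deg : ι → ℤ) (c : ι → B) (hc1 : ∀ i, c i = 1 ∨ c i = -1)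
    (hc2 : ∀ i j, deg i = deg j → c i = c j)
    (nabla : (Π k, M k) →ₗ[A] (Π k, M k) ⊗[B] Ω)
    (hgr : ∀ i j : ι, deg i ≠ deg j → ∀ m : M i,
      TensorProduct.map (LinearMap.proj j : (Π k, M k) →ₗ[B] M j) LinearMap.id
        (nabla (LinearMap.single B M i m)) = 0) (i : ι) (x : M i) :
    nabla (sgn M c (LinearMap.single B M i x)) =
      TensorProduct.map (sgn M c) LinearMap.id (nabla (LinearMap.single B M i x)) := by
  have hw := W1 (B := B) M (nabla (LinearMap.single B M i x))
  rw [sgn_single, nabla_pm nabla (c i) (hc1 i), W3]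
  conv_lhs => rw [← hw]
  rw [Finset.smul_sum]
  refine Finset.sum_congr rfl fun k _ => ?_
  by_cases h : deg i = deg k
  · rw [hc2 i k h]
  · rw [hgr i k h x, map_zero, smul_zero, smul_zero]

theorem sgn_horiz (deg : ι → ℤ) (c : ι → B) (hc1 : ∀ i, c i = 1 ∨ c i = -1)
    (hc2 : ∀ i j, deg i = deg j → c i = c j)
    (nabla : (Π k, M k) →ₗ[A] (Π k, M k) ⊗[B] Ω)
    (hgr : ∀ i j : ι, deg i ≠ deg j → ∀ m : M i,
      TensorProduct.map (LinearMap.proj j : (Π k, M k) →ₗ[B] M j) LinearMap.id
        (nabla (LinearMap.single B M i m)) = 0) (m : Π k, M k) :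
    nabla (sgn M c m) = TensorProduct.map (sgn M c) LinearMap.id (nabla m) := by
  have hm : ∑ i, LinearMap.single B M i (m i) = m := Finset.univ_sum_single m
  rw [← hm]
  simp only [map_sum]
  exact Finset.sum_congr rfl fun i _ => sgn_horiz_single M deg c hc1 hc2 nabla hgr i (m i)

theorem main63 [Module.Finite B Ω] [Module.Free B Ω]
    [∀ i, Module.Free B (M i)] [∀ i, Module.Finite B (M i)] (deg : ι → ℤ)
    (δ : Derivation A B Ω) (nabla : (Π k, M k) →ₗ[A] (Π k, M k) ⊗[B] Ω)
    (hc : Conn.IsConn δ nabla)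
    (hgr : ∀ i j : ι, deg i ≠ deg j → ∀ m : M i,
      TensorProduct.map (LinearMap.proj j : (Π k, M k) →ₗ[B] M j) LinearMap.id
        (nabla (LinearMap.single B M i m)) = 0)
    (nablaE : ((Π k, M k) →ₗ[B] (Π k, M k)) →ₗ[A] ((Π k, M k) →ₗ[B] (Π k, M k)) ⊗[B] Ω)
    (hE : Conn.IsHomConn nabla nabla nablaE) :
    Conn.IsHorizontal nablaE (Conn.triv δ)
      (LinearMap.trace B (Π k, M k) ∘ₗ LinearMap.llcomp B (Π k, M k) (Π k, M k) (Π k, M k)
        (∑ i : ι, (LinearMap.single B M i) ∘ₗ (((-1 : B) ^ (deg i).natAbs) •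
          (LinearMap.proj i : (Π k, M k) →ₗ[B] M i)))) :=
  super_general δ nabla hc nablaE hE (sgn M (fun i => (-1 : B) ^ (deg i).natAbs))
    (sgn_horiz M deg (fun i => (-1 : B) ^ (deg i).natAbs) (fun i => neg_one_pow_eq_or B _)
      (fun i j h => by
        show (-1 : B) ^ (deg i).natAbs = (-1 : B) ^ (deg j).natAbs
        rw [h]) nabla hgr)

end Super

end Groth.Agent.Lib.ConnH
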