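import Mathlib
import Groth.Prelude
import Groth.Agent.Lib.ConnActQMain_helper4

/-!
# Rigidity of homomorphisms between groups of multiplicative type (helper4)

A family of homomorphisms `A ⟶ B` between groups of multiplicative type, parametrised by a group
scheme with geometrically connected fibres, which is trivial at the unit section, is trivial.
(Deduced from `ConnActMain_helper4` by letting the parameter group act on `A × B`.)
-/

set_option autoImplicit false
set_option linter.unusedVariables false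
set_option linter.unusedTactic false
set_option linter.unreachableTactic false
set_option linter.unusedSectionVars false
set_option linter.style.haveILetI false
set_option linter.deprecated false
set_option linter.unusedSimpArgs false
set_option linter.style.longLine false
set_option maxHeartbeats 1600000

universe u

open CategoryTheory CategoryTheory.Limits MonoidalCategory CartesianMonoidalCategory MonObj GrpObj
  AlgebraicGeometry Opposite

namespace Groth.Agent.Lib.ConnActH4

open Groth.Agent.Lib.RedDictH8 Groth.Agent.Lib.DSDict Groth.Agent.Lib.MultGa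
  Groth.Agent.Lib.MultTrivH4

theorem grp_eq_one_of_mul_eq_self {G : Type*} [Group G] (y b : G) (h : y * b = y) : b = 1 := by
  simpa using h

/-! ### The local theorem for homomorphisms -/

section LocalHom

variable {U : Scheme.{u}} (K' : Over U) [GrpObj K'] {M M' : Type} [AddCommGroup M]
  [AddCommGroup M']
  (nu : ∀ (T' : Over U), (T' ⟶ K') → (T' ⟶ Red.DS U M) → (T' ⟶ Red.DS U M'))
  (hnat : ∀ (T'' T' : Over U) (c : T'' ⟶ T') (g : T' ⟶ K') (x : T' ⟶ Red.DS U M),
    c ≫ nu T' g x = nu T'' (c ≫ g) (c ≫ x))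
  (hhom : ∀ (T' : Over U) (g : T' ⟶ K') (x x' : T' ⟶ Red.DS U M),
    nu T' g (x * x') = nu T' g x * nu T' g x')
  (hone : ∀ (T' : Over U) (x : T' ⟶ Red.DS U M), nu T' 1 x = 1)

theorem DSmap_fst_inl {T' : Over U} (x : T' ⟶ Red.DS U M) :
    (x ≫ Red.DSmap U (AddMonoidHom.fst M M')) ≫ Red.DSmap U (AddMonoidHom.inl M M') = x := by
  apply chr_injective
  intro m
  rw [chr_DSmap, chr_DSmap]
  rfl

theorem DSmap_snd_inr {T' : Over U} (n : T' ⟶ Red.DS U M') :
    (n ≫ Red.DSmap U (AddMonoidHom.snd M M')) ≫ Red.DSmap U (AddMonoidHom.inr M M') = n := by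
  apply chr_injective
  intro m
  rw [chr_DSmap, chr_DSmap]
  rfl

include hnat hhom hone in
/-- **Local theorem for homomorphisms.** -/
theorem local_connHom [GeometricallyConnected K'.hom] (T' : Over U) (g : T' ⟶ K')
    (x : T' ⟶ Red.DS U M) : nu T' g x = 1 := by
  have key := local_conn K'
    (fun (T' : Over U) (g : T' ⟶ K') (y : T' ⟶ Red.DS U (M × M')) =>
      y * (nu T' g (y ≫ Red.DSmap U (AddMonoidHom.inl M M')) ≫
        Red.DSmap U (AddMonoidHom.snd M M')))
    (by
      intro T'' T' c g y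
      show c ≫ (y * (nu T' g (y ≫ Red.DSmap U (AddMonoidHom.inl M M')) ≫
          Red.DSmap U (AddMonoidHom.snd M M'))) =
        (c ≫ y) * (nu T'' (c ≫ g) ((c ≫ y) ≫ Red.DSmap U (AddMonoidHom.inl M M')) ≫
          Red.DSmap U (AddMonoidHom.snd M M'))
      rw [MonObj.comp_mul, ← Category.assoc c, hnat, Category.assoc c y])
    (by
      intro T' g y y'
      show (y * y') * (nu T' g ((y * y') ≫ Red.DSmap U (AddMonoidHom.inl M M')) ≫
          Red.DSmap U (AddMonoidHom.snd M M')) =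
        (y * (nu T' g (y ≫ Red.DSmap U (AddMonoidHom.inl M M')) ≫
          Red.DSmap U (AddMonoidHom.snd M M'))) *
        (y' * (nu T' g (y' ≫ Red.DSmap U (AddMonoidHom.inl M M')) ≫
          Red.DSmap U (AddMonoidHom.snd M M')))
      rw [MonObj.mul_comp y y' (Red.DSmap U (AddMonoidHom.inl M M')), hhom, MonObj.mul_comp]
      obtain ⟨b, hb⟩ : ∃ b : T' ⟶ Red.DS U (M × M'),
          b = nu T' g (y ≫ Red.DSmap U (AddMonoidHom.inl M M')) ≫
            Red.DSmap U (AddMonoidHom.snd M M') := ⟨_, rfl⟩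
      obtain ⟨b', hb'⟩ : ∃ b' : T' ⟶ Red.DS U (M × M'),
          b' = nu T' g (y' ≫ Red.DSmap U (AddMonoidHom.inl M M')) ≫
            Red.DSmap U (AddMonoidHom.snd M M') := ⟨_, rfl⟩
      rw [← hb, ← hb']
      calc (y * y') * (b * b') = y * ((y' * b) * b') := by simp only [_root_.mul_assoc]
        _ = y * ((b * y') * b') := by rw [DS_comm y' b]
        _ = (y * b) * (y' * b') := by simp only [_root_.mul_assoc])
    (by
      intro T' y
      show y * (nu T' 1 (y ≫ Red.DSmap U (AddMonoidHom.inl M M')) ≫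
          Red.DSmap U (AddMonoidHom.snd M M')) = y
      rw [hone, MonObj.one_comp, _root_.mul_one])
    T' g (x ≫ Red.DSmap U (AddMonoidHom.fst M M'))
  have key3 : nu T' g ((x ≫ Red.DSmap U (AddMonoidHom.fst M M')) ≫
      Red.DSmap U (AddMonoidHom.inl M M')) ≫ Red.DSmap U (AddMonoidHom.snd M M') = 1 :=
    grp_eq_one_of_mul_eq_self _ _ key
  rw [DSmap_fst_inl] at key3
  have key4 : (nu T' g x ≫ Red.DSmap U (AddMonoidHom.snd M M')) ≫
      Red.DSmap U (AddMonoidHom.inr M M') = 1 ≫ Red.DSmap U (AddMonoidHom.inr M M') :=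
    congrArg (fun z => z ≫ Red.DSmap U (AddMonoidHom.inr M M')) key3
  rw [DSmap_snd_inr, MonObj.one_comp] at key4
  exact key4

end LocalHom

/-! ### Transport of points of `D(M)` along a change of base -/

section Transport

variable {U W : Scheme.{u}} (r : W ⟶ U) {M : Type} [AddCommGroup M]

/-- the character of a point of `D_U(M)` with values in a `W`-scheme regarded as a `U`-scheme. -/
noncomputable def chrU {T'' : Over W} (x' : (Over.map r).obj T'' ⟶ Red.DS U M) (m : M) :
    Γ(T''.left, ⊤) :=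
  chr (S := U) (T := (Over.map r).obj T'') x' m

theorem chrU_add {T'' : Over W} (x' : (Over.map r).obj T'' ⟶ Red.DS U M) (m m' : M) :
    chrU r x' (m + m') = chrU r x' m * chrU r x' m' :=
  chr_add (S := U) (T := (Over.map r).obj T'') x' m m'

theorem chrU_zero {T'' : Over W} (x' : (Over.map r).obj T'' ⟶ Red.DS U M) :
    chrU r x' 0 = 1 :=
  chr_zero (S := U) (T := (Over.map r).obj T'') x'

theorem chrU_mul {T'' : Over W} (x' y' : (Over.map r).obj T'' ⟶ Red.DS U M) (m : M) :
    chrU r (x' * y') m = chrU r x' m * chrU r y' m :=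
  chr_mul (S := U) (T := (Over.map r).obj T'') x' y' m

theorem chrU_comp {T''' T'' : Over W} (c : T''' ⟶ T'')
    (x' : (Over.map r).obj T'' ⟶ Red.DS U M) (m : M) :
    chrU r ((Over.map r).map c ≫ x') m = c.left.appTop (chrU r x' m) :=
  chr_comp (S := U) ((Over.map r).map c) x' m

theorem chrU_injective {T'' : Over W} (x' y' : (Over.map r).obj T'' ⟶ Red.DS U M)
    (h : ∀ m, chrU r x' m = chrU r y' m) : x' = y' :=
  chr_injective (S := U) (T := (Over.map r).obj T'') x' y' h

theorem exists_chrU_eq {T'' : Over W} (ψ : Multiplicative M →* Γ(T''.left, ⊤)) :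
    ∃ x' : (Over.map r).obj T'' ⟶ Red.DS U M, ∀ m, chrU r x' m = ψ (Multiplicative.ofAdd m) :=
  exists_chr_eq (S := U) (T := (Over.map r).obj T'') ψ

/-- the character of a point, as a monoid homomorphism. -/
noncomputable def chrHom {T'' : Over W} (x : T'' ⟶ Red.DS W M) :
    Multiplicative M →* Γ(T''.left, ⊤) where
  toFun m := chr x (Multiplicative.toAdd m)
  map_one' := by
    show chr x 0 = 1
    exact chr_zero x
  map_mul' a b := by
    show chr x (Multiplicative.toAdd a + Multiplicative.toAdd b) =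
      chr x (Multiplicative.toAdd a) * chr x (Multiplicative.toAdd b)
    exact chr_add x _ _

/-- the character of a `U`-point, as a monoid homomorphism. -/
noncomputable def chrHomU {T'' : Over W} (x' : (Over.map r).obj T'' ⟶ Red.DS U M) :
    Multiplicative M →* Γ(T''.left, ⊤) where
  toFun m := chrU r x' (Multiplicative.toAdd m)
  map_one' := by
    show chrU r x' 0 = 1
    exact chrU_zero r x'
  map_mul' a b := by
    show chrU r x' (Multiplicative.toAdd a + Multiplicative.toAdd b) =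
      chrU r x' (Multiplicative.toAdd a) * chrU r x' (Multiplicative.toAdd b)
    exact chrU_add r x' _ _

theorem exists_trUp {T'' : Over W} (x : T'' ⟶ Red.DS W M) :
    ∃ x' : (Over.map r).obj T'' ⟶ Red.DS U M, ∀ m, chrU r x' m = chr x m := by
  obtain ⟨x', hx'⟩ := exists_chrU_eq r (chrHom x)
  exact ⟨x', fun m => hx' m⟩

theorem exists_trDown {T'' : Over W} (x' : (Over.map r).obj T'' ⟶ Red.DS U M) :
    ∃ x : T'' ⟶ Red.DS W M, ∀ m, chr x m = chrU r x' m := by
  obtain ⟨x, hx⟩ := exists_chr_eq (S := W) (M := M) (T := T'') (chrHomU r x')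
  exact ⟨x, fun m => hx m⟩

noncomputable def trUp {T'' : Over W} (x : T'' ⟶ Red.DS W M) :
    (Over.map r).obj T'' ⟶ Red.DS U M := (exists_trUp r x).choose

noncomputable def trDown {T'' : Over W} (x' : (Over.map r).obj T'' ⟶ Red.DS U M) :
    T'' ⟶ Red.DS W M := (exists_trDown r x').choose

theorem chr_trUp {T'' : Over W} (x : T'' ⟶ Red.DS W M) (m : M) :
    chrU r (trUp r x) m = chr x m := (exists_trUp r x).choose_spec m

theorem chr_trDown {T'' : Over W} (x' : (Over.map r).obj T'' ⟶ Red.DS U M) (m : M) :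
    chr (trDown r x') m = chrU r x' m := (exists_trDown r x').choose_spec m

theorem trDown_trUp {T'' : Over W} (x : T'' ⟶ Red.DS W M) : trDown r (trUp r x) = x := by
  apply chr_injective
  intro m
  exact (chr_trDown r (trUp r x) m).trans (chr_trUp r x m)

theorem trUp_trDown {T'' : Over W} (x' : (Over.map r).obj T'' ⟶ Red.DS U M) :
    trUp r (trDown r x') = x' := by
  apply chrU_injective r
  intro m
  exact (chr_trUp r (trDown r x') m).trans (chr_trDown r x' m)

theorem trDown_mul {T'' : Over W} (x' y' : (Over.map r).obj T'' ⟶ Red.DS U M) :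
    trDown r (x' * y') = trDown r x' * trDown r y' := by
  apply chr_injective
  intro m
  have e1 : chr (trDown r (x' * y')) m = chrU r (x' * y') m := chr_trDown r _ m
  have e2 : chrU r (x' * y') m = chrU r x' m * chrU r y' m := chrU_mul r x' y' m
  have e3 : chr (trDown r x' * trDown r y') m =
      chr (trDown r x') m * chr (trDown r y') m := chr_mul _ _ m
  have e4 : chr (trDown r x') m = chrU r x' m := chr_trDown r _ m
  have e5 : chr (trDown r y') m = chrU r y' m := chr_trDown r _ m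
  rw [e1, e2, e3, e4, e5]

theorem trDown_comp {T''' T'' : Over W} (c : T''' ⟶ T'')
    (x' : (Over.map r).obj T'' ⟶ Red.DS U M) :
    trDown r ((Over.map r).map c ≫ x') = c ≫ trDown r x' := by
  apply chr_injective
  intro m
  have e1 : chr (trDown r ((Over.map r).map c ≫ x')) m = chrU r ((Over.map r).map c ≫ x') m :=
    chr_trDown r _ m
  have e2 : chrU r ((Over.map r).map c ≫ x') m = c.left.appTop (chrU r x' m) :=
    chrU_comp r c x' m
  have e3 : chr (c ≫ trDown r x') m = c.left.appTop (chr (trDown r x') m) :=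
    chr_comp c (trDown r x') m
  have e4 : chr (trDown r x') m = chrU r x' m := chr_trDown r _ m
  rw [e1, e2, e3, e4]

end Transport

/-! ### Trivialisations of the functor of points -/

section PtIso

variable {S W : Scheme.{u}}

/-- an isomorphism between the group functor of `X` (restricted to `W`-schemes) and `D_W(M)`. -/
structure PtIso (X : Over S) [GrpObj X] (jjW : W ⟶ S) (M : Type) [AddCommGroup M] where
  toD : ∀ T'' : Over W, ((Over.map jjW).obj T'' ⟶ X) → (T'' ⟶ Red.DS W M)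
  ofD : ∀ T'' : Over W, (T'' ⟶ Red.DS W M) → ((Over.map jjW).obj T'' ⟶ X)
  of_to : ∀ (T'' : Over W) (x : (Over.map jjW).obj T'' ⟶ X), ofD T'' (toD T'' x) = x
  to_of : ∀ (T'' : Over W) (d : T'' ⟶ Red.DS W M), toD T'' (ofD T'' d) = d
  to_mul : ∀ (T'' : Over W) (x y : (Over.map jjW).obj T'' ⟶ X),
    toD T'' (x * y) = toD T'' x * toD T'' y
  to_nat : ∀ (T''' T'' : Over W) (c : T''' ⟶ T'') (x : (Over.map jjW).obj T'' ⟶ X),
    toD T''' ((Over.map jjW).map c ≫ x) = c ≫ toD T'' x

namespace PtIso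

variable {X : Over S} [GrpObj X] {jjW : W ⟶ S} {M : Type} [AddCommGroup M] (e : PtIso X jjW M)

theorem to_inj (T'' : Over W) (x y : (Over.map jjW).obj T'' ⟶ X)
    (h : e.toD T'' x = e.toD T'' y) : x = y := by
  rw [← e.of_to T'' x, ← e.of_to T'' y, h]

theorem of_mul (T'' : Over W) (d d' : T'' ⟶ Red.DS W M) :
    e.ofD T'' (d * d') = e.ofD T'' d * e.ofD T'' d' := by
  apply e.to_inj
  rw [e.to_mul, e.to_of, e.to_of, e.to_of]

theorem of_nat (T''' T'' : Over W) (c : T''' ⟶ T'') (d : T'' ⟶ Red.DS W M) :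
    (Over.map jjW).map c ≫ e.ofD T'' d = e.ofD T''' (c ≫ d) := by
  apply e.to_inj
  rw [e.to_nat, e.to_of, e.to_of]

theorem to_one (T'' : Over W) : e.toD T'' 1 = 1 := by
  have h : e.toD T'' 1 = e.toD T'' 1 * e.toD T'' 1 := by
    have h0 := e.to_mul T'' 1 1
    rwa [_root_.mul_one] at h0
  exact grp_eq_one_of_mul_eq_self (e.toD T'' 1) (e.toD T'' 1) h.symm

theorem of_one (T'' : Over W) : e.ofD T'' 1 = 1 := by
  apply e.to_inj
  rw [e.to_of, e.to_one]

end PtIso

variable {U : Scheme.{u}} (X : Over S) [GrpObj X] (jj : U ⟶ S) {M : Type} [AddCommGroup M]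
  (a1 : Red.bc jj X ⟶ Red.DS U M) (ainv : Red.DS U M ⟶ Red.bc jj X)
  [IsMonHom a1] [IsMonHom ainv] (h1 : a1 ≫ ainv = 𝟙 _) (h2 : ainv ≫ a1 = 𝟙 _) (r : W ⟶ U)

/-- the comparison `(X/U)/S ≅ X/S`. -/
noncomputable def sig (T'' : Over W) :
    (Over.map jj).obj ((Over.map r).obj T'') ⟶ (Over.map (r ≫ jj)).obj T'' :=
  Over.homMk (𝟙 T''.left) (by
    show 𝟙 T''.left ≫ (T''.hom ≫ r ≫ jj) = (T''.hom ≫ r) ≫ jj
    rw [Category.id_comp, Category.assoc])

noncomputable def tau (T'' : Over W) :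
    (Over.map (r ≫ jj)).obj T'' ⟶ (Over.map jj).obj ((Over.map r).obj T'') :=
  Over.homMk (𝟙 T''.left) (by
    show 𝟙 T''.left ≫ ((T''.hom ≫ r) ≫ jj) = T''.hom ≫ r ≫ jj
    rw [Category.id_comp, Category.assoc])

theorem sig_tau (T'' : Over W) : sig jj r T'' ≫ tau jj r T'' = 𝟙 _ := by
  apply Over.OverMorphism.ext
  exact Category.id_comp _

theorem tau_sig (T'' : Over W) : tau jj r T'' ≫ sig jj r T'' = 𝟙 _ := by
  apply Over.OverMorphism.ext
  exact Category.id_comp _

theorem sig_nat {T''' T'' : Over W} (c : T''' ⟶ T'') :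
    sig jj r T''' ≫ (Over.map (r ≫ jj)).map c =
      (Over.map jj).map ((Over.map r).map c) ≫ sig jj r T'' := by
  apply Over.OverMorphism.ext
  show 𝟙 _ ≫ c.left = c.left ≫ 𝟙 _
  rw [Category.id_comp, Category.comp_id]

include h1 h2 in
/-- a trivialisation of `X ×_S U` induces one of the functor of points of `X` over any
`U`-scheme `W`. -/
theorem exists_transport (jjW : W ⟶ S) (hr : r ≫ jj = jjW) : Nonempty (PtIso X jjW M) := by
  subst hr
  refine ⟨{
    toD := fun T'' x => trDown r (unchk jj (sig jj r T'' ≫ x) ≫ a1)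
    ofD := fun T'' d => tau jj r T'' ≫ chk jj (trUp r d ≫ ainv)
    of_to := ?_
    to_of := ?_
    to_mul := ?_
    to_nat := ?_ }⟩
  · intro T'' x
    show tau jj r T'' ≫ chk jj (trUp r (trDown r (unchk jj (sig jj r T'' ≫ x) ≫ a1)) ≫ ainv) = x
    rw [trUp_trDown, Category.assoc, h1, Category.comp_id, chk_unchk, ← Category.assoc, tau_sig,
      Category.id_comp]
  · intro T'' d
    show trDown r (unchk jj (sig jj r T'' ≫ tau jj r T'' ≫ chk jj (trUp r d ≫ ainv)) ≫ a1) = d
    rw [← Category.assoc (sig jj r T''), sig_tau, Category.id_comp, unchk_chk, Category.assoc, h2,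
      Category.comp_id, trDown_trUp]
  · intro T'' x y
    show trDown r (unchk jj (sig jj r T'' ≫ (x * y)) ≫ a1) =
      trDown r (unchk jj (sig jj r T'' ≫ x) ≫ a1) * trDown r (unchk jj (sig jj r T'' ≫ y) ≫ a1)
    rw [MonObj.comp_mul, unchk_mul, MonObj.mul_comp, trDown_mul]
  · intro T''' T'' c x
    show trDown r (unchk jj (sig jj r T''' ≫ (Over.map (r ≫ jj)).map c ≫ x) ≫ a1) =
      c ≫ trDown r (unchk jj (sig jj r T'' ≫ x) ≫ a1)
    rw [← Category.assoc (sig jj r T'''), sig_nat, Category.assoc, unchk_comp, Category.assoc,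
      trDown_comp]

end PtIso

/-! ### The global theorem for homomorphisms -/

section GlobHom

variable {S : Scheme.{u}} {K A B : Over S} [GrpObj K] [GrpObj A] [GrpObj B]
  (nu : ∀ (T : Over S), (T ⟶ K) → (T ⟶ A) → (T ⟶ B))
  (hnat : ∀ (T' T : Over S) (c : T' ⟶ T) (g : T ⟶ K) (x : T ⟶ A),
    c ≫ nu T g x = nu T' (c ≫ g) (c ≫ x))
  (hhom : ∀ (T : Over S) (g : T ⟶ K) (x x' : T ⟶ A), nu T g (x * x') = nu T g x * nu T g x')
  (hone : ∀ (T : Over S) (x : T ⟶ A), nu T 1 x = 1)

include hnat hhom hone in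
theorem local_applyHom [GeometricallyConnected K.hom] {W : Scheme.{u}} (jjW : W ⟶ S)
    {M M' : Type} [AddCommGroup M] [AddCommGroup M'] (eA : PtIso A jjW M) (eB : PtIso B jjW M')
    (T'' : Over W) (g : (Over.map jjW).obj T'' ⟶ K) (x : (Over.map jjW).obj T'' ⟶ A) :
    nu ((Over.map jjW).obj T'') g x = 1 := by
  haveI : GeometricallyConnected (Red.bc jjW K).hom := by
    show GeometricallyConnected (pullback.snd K.hom jjW)
    infer_instance
  have hloc := local_connHom (Red.bc jjW K)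
    (fun T'' g'' d =>
      eB.toD T'' (nu ((Over.map jjW).obj T'') (chk jjW g'') (eA.ofD T'' d)))
    (by
      intro T''' T'' c g'' d
      show c ≫ eB.toD T'' (nu ((Over.map jjW).obj T'') (chk jjW g'') (eA.ofD T'' d)) =
        eB.toD T''' (nu ((Over.map jjW).obj T''') (chk jjW (c ≫ g'')) (eA.ofD T''' (c ≫ d)))
      rw [← eB.to_nat, hnat, eA.of_nat, ← chk_comp])
    (by
      intro T'' g'' d d'
      show eB.toD T'' (nu ((Over.map jjW).obj T'') (chk jjW g'') (eA.ofD T'' (d * d'))) =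
        eB.toD T'' (nu ((Over.map jjW).obj T'') (chk jjW g'') (eA.ofD T'' d)) *
          eB.toD T'' (nu ((Over.map jjW).obj T'') (chk jjW g'') (eA.ofD T'' d'))
      rw [eA.of_mul, hhom, eB.to_mul])
    (by
      intro T'' d
      show eB.toD T'' (nu ((Over.map jjW).obj T'') (chk jjW 1) (eA.ofD T'' d)) = 1
      rw [chk_one', hone, eB.to_one])
  have h4 := hloc T'' (unchk jjW g) (eA.toD T'' x)
  have h5 : eB.toD T'' (nu ((Over.map jjW).obj T'') (chk jjW (unchk jjW g))
      (eA.ofD T'' (eA.toD T'' x))) = 1 := h4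
  rw [chk_unchk, eA.of_to, ← eB.to_one T''] at h5
  exact eB.to_inj T'' _ _ h5

theorem ι_comp_apply {X Y : Scheme.{u}} (Uo : X.Opens) (f : X ⟶ Y) (s : X) (hs : s ∈ Uo) :
    (Uo.ι ≫ f) (⟨s, hs⟩ : Uo) = f s := by
  rfl

include hnat hhom hone in
/-- **Rigidity of homomorphisms.** A family of homomorphisms `A ⟶ B` between groups of
multiplicative type parametrised by a group with geometrically connected fibres and trivial at the
unit section is trivial. -/
theorem main_connHom [GeometricallyConnected K.hom] (hA : SGA3x.IsMultTypeFT A)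
    (hB : SGA3x.IsMultTypeFT B) (T : Over S) (g : T ⟶ K) (x : T ⟶ A) : nu T g x = 1 := by
  obtain ⟨SA, fA, hflatA, hsurjA, -, hlocA⟩ := hA
  obtain ⟨SB, fB, hflatB, hsurjB, -, hlocB⟩ := hB
  haveI := hflatA
  haveI := hflatB
  apply Over.OverMorphism.ext
  apply hom_ext_of_flat_cover
  intro y
  obtain ⟨sA, hsA⟩ := hsurjA.surj (T.hom y)
  obtain ⟨sB, hsB⟩ := hsurjB.surj (T.hom y)
  obtain ⟨UA, hsAU, M, instM, -, ⟨eA⟩⟩ := hlocA sA
  obtain ⟨UB, hsBU, M', instM', -, ⟨eB⟩⟩ := hlocB sB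
  obtain ⟨a1, ainv, ha1, hainv, h1, h2⟩ := Groth.Agent.Lib.DiagHom.iso_data eA
  obtain ⟨b1, binv, hb1, hbinv, h1', h2'⟩ := Groth.Agent.Lib.DiagHom.iso_data eB
  haveI := ha1
  haveI := hainv
  haveI := hb1
  haveI := hbinv
  obtain ⟨jjW, hjjW⟩ : ∃ jjW : pullback (UA.ι ≫ fA) (UB.ι ≫ fB) ⟶ S,
      jjW = pullback.fst (UA.ι ≫ fA) (UB.ι ≫ fB) ≫ UA.ι ≫ fA := ⟨_, rfl⟩
  haveI : Flat jjW := by
    rw [hjjW]
    infer_instance
  obtain ⟨pA⟩ := exists_transport A (UA.ι ≫ fA) a1 ainv h1 h2
    (pullback.fst (UA.ι ≫ fA) (UB.ι ≫ fB)) jjW hjjW.symm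
  obtain ⟨pB⟩ := exists_transport B (UB.ι ≫ fB) b1 binv h1' h2'
    (pullback.snd (UA.ι ≫ fA) (UB.ι ≫ fB)) jjW (by
      rw [hjjW]
      exact pullback.condition.symm)
  refine ⟨pullback T.hom jjW, pullback.fst T.hom jjW, inferInstance, ?_, ?_⟩
  · have e0 : (UA.ι ≫ fA) (⟨sA, hsAU⟩ : UA) = (UB.ι ≫ fB) (⟨sB, hsBU⟩ : UB) :=
      (ι_comp_apply UA fA sA hsAU).trans
        (hsA.trans ((ι_comp_apply UB fB sB hsBU).trans hsB).symm)
    obtain ⟨w₀, hw₀, _⟩ := Scheme.Pullback.exists_preimage_pullback (f := UA.ι ≫ fA)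
      (g := UB.ι ≫ fB) (⟨sA, hsAU⟩ : UA) (⟨sB, hsBU⟩ : UB) e0
    have e1 : T.hom y = jjW w₀ := by
      subst hjjW
      have e2 : (pullback.fst (UA.ι ≫ fA) (UB.ι ≫ fB) ≫ UA.ι ≫ fA) w₀ =
          (UA.ι ≫ fA) (pullback.fst (UA.ι ≫ fA) (UB.ι ≫ fB) w₀) :=
        Scheme.Hom.comp_apply _ _ _
      have e3 : (UA.ι ≫ fA) (pullback.fst (UA.ι ≫ fA) (UB.ι ≫ fB) w₀) =
          (UA.ι ≫ fA) (⟨sA, hsAU⟩ : UA) := congrArg (fun z => (UA.ι ≫ fA) z) hw₀
      exact (e2.trans (e3.trans ((ι_comp_apply UA fA sA hsAU).trans hsA))).symm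
    obtain ⟨w, hw, _⟩ := Scheme.Pullback.exists_preimage_pullback (f := T.hom) (g := jjW)
      y w₀ e1
    exact ⟨w, hw⟩
  · obtain ⟨c, hc⟩ : ∃ c : (Over.map jjW).obj (Over.mk (pullback.snd T.hom jjW)) ⟶ T,
        c.left = pullback.fst T.hom jjW :=
      ⟨Over.homMk (pullback.fst T.hom jjW) pullback.condition, rfl⟩
    have h3 := local_applyHom nu hnat hhom hone jjW pA pB (Over.mk (pullback.snd T.hom jjW))
      (c ≫ g) (c ≫ x)
    rw [← hnat] at h3
    have h4 : c ≫ nu T g x = c ≫ 1 := by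
      rw [h3, MonObj.comp_one]
    have h5 := congrArg (fun f => f.left) h4
    simp only [Over.comp_left, hc] at h5
    exact h5

end GlobHom

end Groth.Agent.Lib.ConnActH4
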