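import Mathlib
import Groth.Prelude.Def_Conn

open TensorProduct

namespace Groth.Agent.Lib.ConnL

universe v u
variable {A : Type v} {B Ω M : Type u} [CommRing A] [CommRing B] [Algebra A B]
  [AddCommGroup Ω] [Module B Ω] [Module A Ω] [IsScalarTower A B Ω]
  [AddCommGroup M] [Module B M] [Module A M] [IsScalarTower A B M]

omit [Module A Ω] [IsScalarTower A B Ω] [Module A M] [IsScalarTower A B M] in
theorem L1 (θ : Ω →ₗ[B] B) (x : (M →ₗ[B] M) ⊗[B] Ω) (m : M) :
    (TensorProduct.rid B (M →ₗ[B] M) (TensorProduct.map LinearMap.id θ x)) m =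
      TensorProduct.rid B M (TensorProduct.map LinearMap.id θ
        (TensorProduct.map (LinearMap.applyₗ m) LinearMap.id x)) := by
  induction x using TensorProduct.induction_on with
  | zero => simp
  | tmul ψ ω => simp
  | add x y hx hy => simp only [map_add, LinearMap.add_apply, hx, hy]

omit [Module A Ω] [IsScalarTower A B Ω] [Module A M] [IsScalarTower A B M] in
theorem L2 (θ : Ω →ₗ[B] B) (φ : M →ₗ[B] M) (y : M ⊗[B] Ω) :
    TensorProduct.rid B M (TensorProduct.map LinearMap.id θ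
        (TensorProduct.map φ LinearMap.id y)) =
      φ (TensorProduct.rid B M (TensorProduct.map LinearMap.id θ y)) := by
  induction y using TensorProduct.induction_on with
  | zero => simp
  | tmul m ω => simp
  | add x y hx hy => simp only [map_add, hx, hy]

theorem along_hom (nabla : M →ₗ[A] M ⊗[B] Ω)
    (nablaE : (M →ₗ[B] M) →ₗ[A] (M →ₗ[B] M) ⊗[B] Ω)
    (hE : Conn.IsHomConn nabla nabla nablaE) (θ : Ω →ₗ[B] B) (φ : M →ₗ[B] M) (m : M) :
    Conn.along nablaE θ φ m = Conn.along nabla θ (φ m) - φ (Conn.along nabla θ m) := by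
  rw [Conn.along_apply, Conn.along_apply, Conn.along_apply, L1, hE φ m, map_sub, map_sub, L2]

theorem along_comp (nabla : M →ₗ[A] M ⊗[B] Ω)
    (nablaE : (M →ₗ[B] M) →ₗ[A] (M →ₗ[B] M) ⊗[B] Ω)
    (hE : Conn.IsHomConn nabla nabla nablaE) (θ : Ω →ₗ[B] B) (φ ψ : M →ₗ[B] M) :
    Conn.along nablaE θ (φ ∘ₗ ψ) =
      Conn.along nablaE θ φ ∘ₗ ψ + φ ∘ₗ Conn.along nablaE θ ψ := by
  ext m
  simp only [LinearMap.add_apply, LinearMap.comp_apply]
  rw [along_hom nabla nablaE hE, along_hom nabla nablaE hE, along_hom nabla nablaE hE]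
  simp only [LinearMap.comp_apply, map_sub]
  abel

theorem main64 {n : ℕ} (bΩ : Module.Basis (Fin n) B Ω) (nabla : M →ₗ[A] M ⊗[B] Ω)
    (nablaE : (M →ₗ[B] M) →ₗ[A] (M →ₗ[B] M) ⊗[B] Ω)
    (hE : Conn.IsHomConn nabla nabla nablaE) (φ : M →ₗ[B] M)
    (hφ : ∀ q : Fin n, φ ∘ₗ Conn.along nablaE (bΩ.coord q) φ +
      Conn.along nablaE (bΩ.coord q) φ ∘ₗ φ = 0) (q r : Fin n) :
    φ ∘ₗ Conn.along nablaE (bΩ.coord q) (Conn.along nablaE (bΩ.coord r) φ)
      + Conn.along nablaE (bΩ.coord q) (Conn.along nablaE (bΩ.coord r) φ) ∘ₗ φ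
      + Conn.along nablaE (bΩ.coord q) φ ∘ₗ Conn.along nablaE (bΩ.coord r) φ
      + Conn.along nablaE (bΩ.coord r) φ ∘ₗ Conn.along nablaE (bΩ.coord q) φ = 0 := by
  have h : Conn.along nablaE (bΩ.coord q) (φ ∘ₗ Conn.along nablaE (bΩ.coord r) φ +
      Conn.along nablaE (bΩ.coord r) φ ∘ₗ φ) = 0 := by rw [hφ r, map_zero]
  rw [map_add, along_comp nabla nablaE hE, along_comp nabla nablaE hE] at h
  rw [← h]; abel

end Groth.Agent.Lib.ConnL
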