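import Mathlib

/-!
# Finite connected limits from equalizers and pullbacks (helper8)
-/

universe v u

open CategoryTheory CategoryTheory.Limits

namespace Groth.Agent.Lib.ConnLimH8

variable {C : Type u} [Category.{v} C]

/-- Joint equalizer of finitely many parallel pairs out of a common source. -/
theorem exists_joint_equalizer [HasEqualizers C] (K : Type) [Finite K] :
    ∀ (P : C) (Y : K → C) (a b : ∀ k, P ⟶ Y k),
    ∃ (Q : C) (e : Q ⟶ P), Mono e ∧ (∀ k, e ≫ a k = e ≫ b k) ∧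
      ∀ (T : C) (t : T ⟶ P), (∀ k, t ≫ a k = t ≫ b k) → ∃ l : T ⟶ Q, l ≫ e = t := by
  refine Finite.induction_empty_option
    (P := fun K : Type => ∀ (P : C) (Y : K → C) (a b : ∀ k, P ⟶ Y k),
      ∃ (Q : C) (e : Q ⟶ P), Mono e ∧ (∀ k, e ≫ a k = e ≫ b k) ∧
        ∀ (T : C) (t : T ⟶ P), (∀ k, t ≫ a k = t ≫ b k) → ∃ l : T ⟶ Q, l ≫ e = t)
    ?_ ?_ ?_ K
  · intro α β e h P Y a b
    obtain ⟨Q, q, hq, heq, huniv⟩ :=
      h P (fun i => Y (e i)) (fun i => a (e i)) (fun i => b (e i))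
    refine ⟨Q, q, hq, ?_, ?_⟩
    · intro k
      obtain ⟨i, rfl⟩ := e.surjective k
      exact heq i
    · intro T t ht
      exact huniv T t (fun i => ht (e i))
  · intro P Y a b
    exact ⟨P, 𝟙 P, inferInstance, fun k => k.elim, fun T t _ => ⟨t, Category.comp_id t⟩⟩
  · intro α _ h P Y a b
    obtain ⟨Q, q, hq, heq, huniv⟩ :=
      h P (fun i => Y (some i)) (fun i => a (some i)) (fun i => b (some i))
    refine ⟨equalizer (q ≫ a none) (q ≫ b none), equalizer.ι _ _ ≫ q, mono_comp _ _, ?_, ?_⟩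
    · intro k
      cases k with
      | none =>
        rw [Category.assoc, Category.assoc]
        exact equalizer.condition _ _
      | some i =>
        rw [Category.assoc, Category.assoc, heq i]
    · intro T t ht
      obtain ⟨l, hl⟩ := huniv T t (fun i => ht (some i))
      refine ⟨equalizer.lift l ?_, ?_⟩
      · rw [← Category.assoc, ← Category.assoc, hl]
        exact ht none
      · rw [← Category.assoc, equalizer.lift_ι, hl]

variable {J : Type} [SmallCategory J]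

/-- A "partial limit" of `D` over the finite set `S` of objects: a limit of the restriction of
`D` to the full subcategory on `S`. -/
structure PL (D : J ⥤ C) (S : Finset J) where
  L : C
  π : ∀ j, j ∈ S → (L ⟶ D.obj j)
  compat : ∀ (i j : J) (hi : i ∈ S) (hj : j ∈ S) (f : i ⟶ j), π i hi ≫ D.map f = π j hj
  lift : ∀ (T : C) (t : ∀ j, j ∈ S → (T ⟶ D.obj j)),
    (∀ (i j : J) (hi : i ∈ S) (hj : j ∈ S) (f : i ⟶ j), t i hi ≫ D.map f = t j hj) →
    ∃ l : T ⟶ L, ∀ j hj, l ≫ π j hj = t j hj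
  mono : ∀ (T : C) (l₁ l₂ : T ⟶ L), (∀ j hj, l₁ ≫ π j hj = l₂ ≫ π j hj) → l₁ = l₂

theorem PL.ofWeak [HasEqualizers C] [FinCategory J] (D : J ⥤ C) (S : Finset J) (L : C)
    (π : ∀ j, j ∈ S → (L ⟶ D.obj j))
    (wlift : ∀ (T : C) (t : ∀ j, j ∈ S → (T ⟶ D.obj j)),
      (∀ (i j : J) (hi : i ∈ S) (hj : j ∈ S) (f : i ⟶ j), t i hi ≫ D.map f = t j hj) →
      ∃ l : T ⟶ L, ∀ j hj, l ≫ π j hj = t j hj)
    (mono : ∀ (T : C) (l₁ l₂ : T ⟶ L), (∀ j hj, l₁ ≫ π j hj = l₂ ≫ π j hj) → l₁ = l₂) :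
    Nonempty (PL D S) := by
  let K : Type := Σ (i : S) (j : S), (i.1 ⟶ j.1)
  haveI : Finite K := inferInstance
  obtain ⟨Q, e, he, heq, huniv⟩ := exists_joint_equalizer K L (fun k => D.obj k.2.1.1)
    (fun k => π k.1.1 k.1.2 ≫ D.map k.2.2) (fun k => π k.2.1.1 k.2.1.2)
  refine ⟨⟨Q, fun j hj => e ≫ π j hj, ?_, ?_, ?_⟩⟩
  · intro i j hi hj f
    have := heq ⟨⟨i, hi⟩, ⟨j, hj⟩, f⟩
    rw [Category.assoc]
    exact this
  · intro T t ht
    obtain ⟨l, hl⟩ := wlift T t ht
    obtain ⟨m, hm⟩ := huniv T l (by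
      rintro ⟨⟨i, hi⟩, ⟨j, hj⟩, f⟩
      show l ≫ π i hi ≫ D.map f = l ≫ π j hj
      rw [← Category.assoc, hl, hl, ht])
    refine ⟨m, fun j hj => ?_⟩
    rw [← Category.assoc, hm, hl]
  · intro T l₁ l₂ h
    haveI := he
    rw [← cancel_mono e]
    apply mono
    intro j hj
    rw [Category.assoc, Category.assoc]
    exact h j hj

theorem PL.singleton [HasEqualizers C] [FinCategory J] (D : J ⥤ C) (j₀ : J) :
    Nonempty (PL D {j₀}) := by
  refine PL.ofWeak D {j₀} (D.obj j₀)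
    (fun j hj => eqToHom (by rw [Finset.mem_singleton.1 hj])) ?_ ?_
  · intro T t _
    refine ⟨t j₀ (Finset.mem_singleton_self j₀), fun j hj => ?_⟩
    obtain rfl := Finset.mem_singleton.1 hj
    simp
  · intro T l₁ l₂ h
    simpa using h j₀ (Finset.mem_singleton_self j₀)

theorem PL.extend [HasEqualizers C] [FinCategory J] [DecidableEq J] (D : J ⥤ C) {S : Finset J}
    (P : PL D S) (x : J) (hx : x ∉ S) (L₁ : C) (q : L₁ ⟶ P.L) (r : L₁ ⟶ D.obj x)
    (wlift : ∀ (T : C) (t : ∀ j, j ∈ insert x S → (T ⟶ D.obj j)),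
      (∀ (i j : J) (hi : i ∈ insert x S) (hj : j ∈ insert x S) (f : i ⟶ j),
        t i hi ≫ D.map f = t j hj) →
      ∀ l₀ : T ⟶ P.L, (∀ j (hj : j ∈ S), l₀ ≫ P.π j hj = t j (Finset.mem_insert_of_mem hj)) →
      ∃ l : T ⟶ L₁, l ≫ q = l₀ ∧ l ≫ r = t x (Finset.mem_insert_self x S))
    (mono : ∀ (T : C) (l₁ l₂ : T ⟶ L₁), l₁ ≫ q = l₂ ≫ q → l₁ ≫ r = l₂ ≫ r → l₁ = l₂) :
    Nonempty (PL D (insert x S)) := by
  refine PL.ofWeak D (insert x S) L₁
    (fun j hj => if h : j = x then r ≫ eqToHom (by rw [h]) else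
      q ≫ P.π j (Finset.mem_of_mem_insert_of_ne hj h)) ?_ ?_
  · intro T t ht
    obtain ⟨l₀, hl₀⟩ := P.lift T (fun j hj => t j (Finset.mem_insert_of_mem hj))
      (fun i j hi hj f => ht i j _ _ f)
    obtain ⟨l, hl1, hl2⟩ := wlift T t ht l₀ hl₀
    refine ⟨l, fun j hj => ?_⟩
    by_cases h : j = x
    · cases h
      rw [dif_pos rfl, eqToHom_refl, Category.comp_id, hl2]
    · rw [dif_neg h, ← Category.assoc, hl1, hl₀]
  · intro T l₁ l₂ h
    apply mono
    · apply P.mono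
      intro j hj
      have hjx : j ≠ x := fun e => hx (e ▸ hj)
      have := h j (Finset.mem_insert_of_mem hj)
      rw [dif_neg hjx] at this
      rw [Category.assoc, Category.assoc]
      exact this
    · have := h x (Finset.mem_insert_self x S)
      rw [dif_pos rfl, eqToHom_refl, Category.comp_id] at this
      exact this

theorem PL.insert_of_hom_to [HasEqualizers C] [HasPullbacks C] [FinCategory J] [DecidableEq J]
    (D : J ⥤ C) {S : Finset J} (P : PL D S) (x s₀ : J) (hx : x ∉ S) (hs : s₀ ∈ S)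
    (g : x ⟶ s₀) : Nonempty (PL D (insert x S)) := by
  refine PL.extend D P x hx (pullback (P.π s₀ hs) (D.map g)) (pullback.fst _ _)
    (pullback.snd _ _) ?_ ?_
  · intro T t ht l₀ hl₀
    refine ⟨pullback.lift l₀ (t x (Finset.mem_insert_self x S)) ?_,
      pullback.lift_fst _ _ _, pullback.lift_snd _ _ _⟩
    rw [hl₀ s₀ hs, ht x s₀ _ _ g]
  · intro T l₁ l₂ h1 h2
    exact pullback.hom_ext h1 h2

theorem PL.insert_of_hom_from [HasEqualizers C] [FinCategory J] [DecidableEq J]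
    (D : J ⥤ C) {S : Finset J} (P : PL D S) (x s₀ : J) (hx : x ∉ S) (hs : s₀ ∈ S)
    (g : s₀ ⟶ x) : Nonempty (PL D (insert x S)) := by
  refine PL.extend D P x hx P.L (𝟙 _) (P.π s₀ hs ≫ D.map g) ?_ ?_
  · intro T t ht l₀ hl₀
    refine ⟨l₀, Category.comp_id _, ?_⟩
    rw [← Category.assoc, hl₀ s₀ hs, ht s₀ x _ _ g]
  · intro T l₁ l₂ h1 _
    simpa using h1

theorem exists_adjacent [FinCategory J] [IsConnected J] (S : Finset J) (j₀ : J) (h0 : j₀ ∈ S)
    (hS : S ≠ Finset.univ) :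
    ∃ (s₀ x : J), s₀ ∈ S ∧ x ∉ S ∧ (Nonempty (s₀ ⟶ x) ∨ Nonempty (x ⟶ s₀)) := by
  by_contra hcon
  apply hS
  rw [Finset.eq_univ_iff_forall]
  intro j
  have := induct_on_objects (↑S : Set J) (j₀ := j₀) (by simpa using h0) ?_ j
  · simpa using this
  intro j₁ j₂ f
  simp only [Finset.mem_coe]
  constructor
  · intro h1
    by_contra h2
    exact hcon ⟨j₁, j₂, h1, h2, Or.inl ⟨f⟩⟩
  · intro h2
    by_contra h1
    exact hcon ⟨j₂, j₁, h2, h1, Or.inr ⟨f⟩⟩

theorem exists_PL_univ [HasEqualizers C] [HasPullbacks C] [FinCategory J] [IsConnected J]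
    [DecidableEq J] (D : J ⥤ C) : Nonempty (PL D (Finset.univ : Finset J)) := by
  obtain ⟨j₀⟩ := (inferInstance : Nonempty J)
  have key : ∀ n : ℕ, ∃ S : Finset J, j₀ ∈ S ∧ Nonempty (PL D S) ∧
      (S = Finset.univ ∨ n ≤ S.card) := by
    intro n
    induction n with
    | zero => exact ⟨{j₀}, Finset.mem_singleton_self _, PL.singleton D j₀, Or.inr (Nat.zero_le _)⟩
    | succ n ih =>
      obtain ⟨S, h0, ⟨P⟩, hS⟩ := ih
      by_cases hu : S = Finset.univ
      · exact ⟨S, h0, ⟨P⟩, Or.inl hu⟩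
      · have hn : n ≤ S.card := hS.resolve_left hu
        obtain ⟨s₀, x, hs, hx, hg⟩ := exists_adjacent S j₀ h0 hu
        have hP' : Nonempty (PL D (insert x S)) := by
          rcases hg with ⟨⟨g⟩⟩ | ⟨⟨g⟩⟩
          · exact PL.insert_of_hom_from D P x s₀ hx hs g
          · exact PL.insert_of_hom_to D P x s₀ hx hs g
        refine ⟨insert x S, Finset.mem_insert_of_mem h0, hP', Or.inr ?_⟩
        rw [Finset.card_insert_of_notMem hx]
        omega
  obtain ⟨S, _, hP, hS⟩ := key (Fintype.card J)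
  rcases hS with rfl | hS
  · exact hP
  · have : S = Finset.univ := by
      rw [← Finset.card_eq_iff_eq_univ]
      exact le_antisymm (Finset.card_le_univ S) hS
    exact this ▸ hP

/-- A category with equalizers and pullbacks has all finite connected limits. -/
theorem hasLimitsOfShape_of_connected [HasEqualizers C] [HasPullbacks C] [FinCategory J]
    [IsConnected J] : HasLimitsOfShape J C := by
  classical
  refine ⟨fun D => ?_⟩
  obtain ⟨P⟩ := exists_PL_univ D
  let c : Cone D :=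
    { pt := P.L
      π :=
        { app := fun j => P.π j (Finset.mem_univ j)
          naturality := fun i j f => by
            simp only [Functor.const_obj_obj, Functor.const_obj_map, Category.id_comp]
            exact (P.compat i j _ _ f).symm } }
  refine HasLimit.mk ⟨c, IsLimit.ofExistsUnique fun s => ?_⟩
  obtain ⟨l, hl⟩ := P.lift s.pt (fun j _ => s.π.app j) (fun i j _ _ f => s.w f)
  refine ⟨l, fun j => hl j _, fun l' hl' => ?_⟩
  apply P.mono
  intro j hj
  rw [hl j hj]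
  exact hl' j

end Groth.Agent.Lib.ConnLimH8
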