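import Mathlib
import Groth.Prelude
import Groth.Agent.Lib.ConormBC3_helper7

/-!
# Base change of `Gr_n` for a section (no flatness on the base change) (helper7)

For a section `i'` of `r' : X' ⟶ Z'` and the base-changed section `i` of `r : X ⟶ Z`,
the comparison `gZ^* Gr_1(i') ⟶ Gr_1(i)` is an isomorphism.
APPEND-ONLY once landed.
-/

set_option autoImplicit false
set_option linter.style.haveILetI false

universe u

open CategoryTheory CategoryTheory.Limits AlgebraicGeometry Opposite TopologicalSpace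
open AlgebraicGeometry.Scheme.Modules TensorProduct

namespace Groth.Agent.Lib.ConormBCH7

open Groth.Agent.Lib.GrpdOmegaH7

section Algebra2

/-- Lifting a semilinear map along a base change of an ideal-like module, given injectivity of
`A ⊗ P' → A ⊗ A'`. -/
theorem exists_lift_of_lTensor_injective {A' A : Type u} [CommRing A'] [CommRing A] [Algebra A' A]
    {P' P : Type u} [AddCommGroup P'] [Module A' P'] [AddCommGroup P] [Module A P]
    (ι' : P' →ₗ[A'] A') (hj : Function.Injective (LinearMap.lTensor A ι'))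
    (ι : P →+ A) (hι : ∀ r x, ι (r • x) = r * ι x) (hιinj : Function.Injective ι)
    (α : P' →+ P) (hα : ∀ r x, α (r • x) = algebraMap A' A r • α x)
    (hαι : ∀ x, ι (α x) = algebraMap A' A (ι' x))
    (hspan : ∀ s : P, s ∈ Submodule.span A (Set.range α))
    (N : Type u) [AddCommGroup N] [Module A N] (k : P' →+ N)
    (hk : ∀ r x, k (r • x) = algebraMap A' A r • k x) :
    ∃ F : P →ₗ[A] N, ∀ x, F (α x) = k x := by
  letI : Module A' P := Module.compHom P (algebraMap A' A)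
  haveI : IsScalarTower A' A P := IsScalarTower.of_algebraMap_smul fun _ _ => rfl
  letI : Module A' N := Module.compHom N (algebraMap A' A)
  haveI : IsScalarTower A' A N := IsScalarTower.of_algebraMap_smul fun _ _ => rfl
  let αL : P' →ₗ[A'] P := { toFun := α, map_add' := α.map_add, map_smul' := hα }
  let kL : P' →ₗ[A'] N := { toFun := k, map_add' := k.map_add, map_smul' := hk }
  let μ : A ⊗[A'] P' →ₗ[A] P := LinearMap.liftBaseChange A αL
  have hμ : ∀ (r : A) (x : P'), μ (r ⊗ₜ x) = r • α x := fun r x => rfl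
  have hinj : Function.Injective μ := by
    have hcomp : ∀ z, ι (μ z) = (TensorProduct.rid A' A) (LinearMap.lTensor A ι' z) := by
      intro z
      induction z using TensorProduct.induction_on with
      | zero => simp
      | tmul r x =>
          have e1 : ι (μ (r ⊗ₜ x)) = r * algebraMap A' A (ι' x) := by
            rw [hμ, hι, hαι]
          have e2 : (TensorProduct.rid A' A) (LinearMap.lTensor A ι' (r ⊗ₜ x)) =
              algebraMap A' A (ι' x) * r := by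
            rw [LinearMap.lTensor_tmul, TensorProduct.rid_tmul, Algebra.smul_def]
          rw [e1, e2, mul_comm]
      | add z w hz hw => rw [map_add, map_add, map_add, map_add, hz, hw]
    intro z w hzw
    apply hj
    apply (TensorProduct.rid A' A).injective
    rw [← hcomp, ← hcomp, hzw]
  have hsurj : Function.Surjective μ := by
    intro s
    have hle : Submodule.span A (Set.range α) ≤ LinearMap.range μ := by
      refine Submodule.span_le.mpr ?_
      rintro _ ⟨x, rfl⟩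
      exact ⟨1 ⊗ₜ x, by rw [hμ, one_smul]⟩
    exact hle (hspan s)
  let e : A ⊗[A'] P' ≃ₗ[A] P := LinearEquiv.ofBijective μ ⟨hinj, hsurj⟩
  refine ⟨(LinearMap.liftBaseChange A kL).comp e.symm.toLinearMap, fun x => ?_⟩
  have h1 : e.symm (α x) = 1 ⊗ₜ x := by
    rw [LinearEquiv.symm_apply_eq]
    show α x = μ (1 ⊗ₜ x)
    rw [hμ, one_smul]
  show (LinearMap.liftBaseChange A kL) (e.symm (α x)) = k x
  rw [h1, LinearMap.liftBaseChange_tmul, one_smul]
  rfl

/-- In a pushout `B = S ⊗[R] A`, injectivity of `B ⊗[A] M → B ⊗[A] A` follows from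
injectivity of `S ⊗[R] M → S ⊗[R] A`. -/
theorem lTensor_injective_of_isPushout (R S A B : Type u) [CommRing R] [CommRing S] [CommRing A]
    [CommRing B] [Algebra R S] [Algebra R A] [Algebra A B] [Algebra S B] [Algebra R B]
    [IsScalarTower R A B] [IsScalarTower R S B] [Algebra.IsPushout R S A B]
    {M : Type u} [AddCommGroup M] [Module R M] [Module A M] [IsScalarTower R A M]
    (j : M →ₗ[A] A)
    (h : Function.Injective (LinearMap.lTensor S (j.restrictScalars R))) :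
    Function.Injective (LinearMap.lTensor B j) := by
  have key : ∀ w : S ⊗[R] M,
      LinearMap.lTensor B j ((Algebra.IsPushout.cancelBaseChange R S A B M).symm w) =
        (Algebra.IsPushout.cancelBaseChange R S A B A).symm
          (LinearMap.lTensor S (j.restrictScalars R) w) := by
    intro w
    induction w using TensorProduct.induction_on with
    | zero => simp
    | tmul s m =>
        rw [Algebra.IsPushout.cancelBaseChange_symm_tmul, LinearMap.lTensor_tmul,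
          LinearMap.lTensor_tmul, Algebra.IsPushout.cancelBaseChange_symm_tmul]
        rfl
    | add x y hx hy => simp only [map_add, hx, hy]
  intro z₁ z₂ hz
  have h1 : (Algebra.IsPushout.cancelBaseChange R S A B M).symm
      ((Algebra.IsPushout.cancelBaseChange R S A B M) z₁) = z₁ :=
    (Algebra.IsPushout.cancelBaseChange R S A B M).symm_apply_apply z₁
  have h2 : (Algebra.IsPushout.cancelBaseChange R S A B M).symm
      ((Algebra.IsPushout.cancelBaseChange R S A B M) z₂) = z₂ :=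
    (Algebra.IsPushout.cancelBaseChange R S A B M).symm_apply_apply z₂
  rw [← h1, ← h2, key, key] at hz
  have h3 := h ((Algebra.IsPushout.cancelBaseChange R S A B A).symm.injective hz)
  rw [← h1, ← h2, h3]

/-- `S ⊗ -` preserves injectivity of a split injection. -/
theorem lTensor_injective_of_retraction {R : Type u} (S : Type u) {M N : Type u} [CommRing R]
    [AddCommGroup S] [Module R S] [AddCommGroup M] [Module R M] [AddCommGroup N] [Module R N]
    (j : M →ₗ[R] N) (ρ : N →ₗ[R] M) (hρ : ∀ x, ρ (j x) = x) :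
    Function.Injective (LinearMap.lTensor S j) := by
  have h : ∀ w, LinearMap.lTensor S ρ (LinearMap.lTensor S j w) = w := by
    intro w
    have hc : ρ.comp j = LinearMap.id := LinearMap.ext hρ
    have h1 : LinearMap.lTensor S ρ (LinearMap.lTensor S j w) =
        LinearMap.lTensor S (ρ.comp j) w := by
      rw [LinearMap.lTensor_comp]; rfl
    rw [h1, hc, LinearMap.lTensor_id]; rfl
  exact Function.LeftInverse.injective h

/-- The kernel of a retraction `π` of `R → A` is an `R`-linear direct summand of `A`. -/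
theorem exists_retraction {R A : Type u} [CommRing R] [CommRing A] [Algebra R A] (π : A →+* R)
    (hπ : ∀ y, π (algebraMap R A y) = y)
    {M : Type u} [AddCommGroup M] [Module R M] [Module A M] [IsScalarTower R A M]
    (j : M →ₗ[A] A) (hj : Function.Injective j) (hker : ∀ p, π (j p) = 0)
    (hrange : ∀ x, π x = 0 → ∃ p, j p = x) :
    ∃ ρ : A →ₗ[R] M, ∀ p, ρ (j p) = p := by
  have hex : ∀ x : A, ∃ p, j p = x - algebraMap R A (π x) := fun x =>
    hrange _ (by rw [map_sub, hπ, sub_self])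
  choose ρ hρ using hex
  refine ⟨{ toFun := ρ, map_add' := fun x y => hj ?_, map_smul' := fun c x => hj ?_ },
    fun p => hj ?_⟩
  · have e1 : j (ρ (x + y)) = (x + y) - algebraMap R A (π (x + y)) := hρ _
    have e2 : j (ρ x + ρ y) = (x - algebraMap R A (π x)) + (y - algebraMap R A (π y)) := by
      rw [map_add, hρ, hρ]
    rw [e1, e2, map_add, map_add]
    abel
  · have e1 : j (ρ (c • x)) = c • x - algebraMap R A (π (c • x)) := hρ _
    have e2 : j (c • ρ x) = algebraMap R A c * (x - algebraMap R A (π x)) := by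
      rw [← algebraMap_smul A c (ρ x), LinearMap.map_smul, hρ, smul_eq_mul]
    have e3 : π (c • x) = c * π x := by rw [Algebra.smul_def, map_mul, hπ]
    show j (ρ (c • x)) = j (c • ρ x)
    rw [e1, e2, e3, Algebra.smul_def, map_mul, mul_sub]
  · show j (ρ (j p)) = j p
    rw [hρ, hker, map_zero, sub_zero]

/-- The lifting property (H1) for a pushout square with a section. -/
theorem exists_lift_of_section {B' A' B A : CommRingCat.{u}} (σ' : B' ⟶ A') (b : B' ⟶ B)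
    (a : A' ⟶ A) (σ : B ⟶ A) (hpo : IsPushout σ' b a σ) (π' : A' ⟶ B')
    (hπσ : ∀ y, π'.hom (σ'.hom y) = y)
    {P' P : Type u} [AddCommGroup P'] [Module A' P'] [AddCommGroup P] [Module A P]
    (ι' : P' →+ A') (hι' : ∀ r x, ι' (r • x) = r * ι' x) (hι'inj : Function.Injective ι')
    (hker : ∀ p, π'.hom (ι' p) = 0) (hrange : ∀ x, π'.hom x = 0 → ∃ p, ι' p = x)
    (ι : P →+ A) (hι : ∀ r x, ι (r • x) = r * ι x) (hιinj : Function.Injective ι)
    (α : P' →+ P) (hα : ∀ r x, α (r • x) = a.hom r • α x) (hαι : ∀ x, ι (α x) = a.hom (ι' x))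
    (hspan : ∀ s : P, s ∈ Submodule.span A (Set.range α))
    (N : Type u) [AddCommGroup N] [Module A N] (k : P' →+ N)
    (hk : ∀ r x, k (r • x) = a.hom r • k x) :
    ∃ F : P →ₗ[A] N, ∀ x, F (α x) = k x := by
  letI : Algebra B' A' := σ'.hom.toAlgebra
  letI : Algebra B' B := b.hom.toAlgebra
  letI : Algebra A' A := a.hom.toAlgebra
  letI : Algebra B A := σ.hom.toAlgebra
  letI : Algebra B' A := (a.hom.comp σ'.hom).toAlgebra
  haveI : IsScalarTower B' A' A := IsScalarTower.of_algebraMap_eq fun _ => rfl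
  haveI : IsScalarTower B' B A :=
    IsScalarTower.of_algebraMap_eq fun y => congrArg (fun k => k.hom y) hpo.w
  haveI : Algebra.IsPushout B' B A' A := CommRingCat.isPushout_iff_isPushout.mp hpo.flip
  letI : Module B' P' := Module.compHom P' σ'.hom
  haveI : IsScalarTower B' A' P' := IsScalarTower.of_algebraMap_smul fun _ _ => rfl
  let ι'L : P' →ₗ[A'] A' :=
    { toFun := ι', map_add' := ι'.map_add, map_smul' := fun r x => hι' r x }
  obtain ⟨ρ, hρ⟩ := exists_retraction (R := B') (A := A') π'.hom hπσ ι'L hι'inj hker hrange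
  have hjB : Function.Injective (LinearMap.lTensor B (ι'L.restrictScalars B')) :=
    lTensor_injective_of_retraction B (ι'L.restrictScalars B') ρ hρ
  have hj : Function.Injective (LinearMap.lTensor A ι'L) :=
    lTensor_injective_of_isPushout B' B A' A ι'L hjB
  exact exists_lift_of_lTensor_injective ι'L hj ι hι hιinj α hα hαι hspan N k hk

end Algebra2

section Generic2

theorem id_appLE_apply {S : Scheme.{u}} (V : S.Opens) (e : V ≤ (𝟙 S) ⁻¹ᵁ V) (x : Γ(S, V)) :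
    (Scheme.Hom.appLE (𝟙 S) V V e).hom x = x := by
  have h : Scheme.Hom.appLE (𝟙 S) V V e = 𝟙 _ := by
    have h0 : S.presheaf.map (homOfLE e).op = 𝟙 Γ(S, V) := S.presheaf.map_id (op V)
    have h1 : Scheme.Hom.appLE (𝟙 S) V V e = S.presheaf.map (homOfLE e).op :=
      Category.id_comp (S.presheaf.map (homOfLE e).op)
    exact h1.trans h0
  rw [h]
  rfl

/-- Injectivity of `φ` on a good open, from the lifting property (H1). -/
theorem injective_appJ_of_lift {Z X Z' X' : Scheme.{u}} (i : Z ⟶ X) (i' : Z' ⟶ X') (g : X ⟶ X')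
    (gZ : Z ⟶ Z') [QuasiCompact i] (J : X.IdealSheafData) (J' : X'.IdealSheafData)
    {U' : X'.Opens} {U : X.Opens} (hUU' : U ≤ g ⁻¹ᵁ U')
    (hE : ∀ s' : Γ(ClSub.idealMod J', U'), ∃ s : Γ(ClSub.idealMod J, g ⁻¹ᵁ U'),
      OmegaSh.idealSect J (g ⁻¹ᵁ U') s = (g.app U').hom (OmegaSh.idealSect J' U' s'))
    (φ : (Scheme.Modules.pullback gZ).obj ((Scheme.Modules.pullback i').obj (ClSub.idealMod J')) ⟶
      (Scheme.Modules.pullback i).obj (ClSub.idealMod J))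
    (hφ2 : ∀ (U' : X'.Opens) (s' : Γ(ClSub.idealMod J', U'))
      (s : Γ(ClSub.idealMod J, g ⁻¹ᵁ U')),
      OmegaSh.idealSect J (g ⁻¹ᵁ U') s = g.app U' (OmegaSh.idealSect J' U' s') →
      ∀ (V : Z.Opens) (h₁ : V ≤ gZ ⁻¹ᵁ (i' ⁻¹ᵁ U')) (h₂ : V ≤ i ⁻¹ᵁ (g ⁻¹ᵁ U')),
        ((Scheme.Modules.pullback i).obj (ClSub.idealMod J)).presheaf.map (homOfLE h₁).op
            (φ.app (gZ ⁻¹ᵁ (i' ⁻¹ᵁ U'))
              (OmegaSh.pullSect gZ ((Scheme.Modules.pullback i').obj (ClSub.idealMod J'))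
                (i' ⁻¹ᵁ U') (OmegaSh.pullSect i' (ClSub.idealMod J') U' s'))) =
          ((Scheme.Modules.pullback i).obj (ClSub.idealMod J)).presheaf.map (homOfLE h₂).op
            (OmegaSh.pullSect i (ClSub.idealMod J) (g ⁻¹ᵁ U') s))
    (hw : gZ ≫ i' = i ≫ g)
    (hU' : IsAffineOpen U') (hV' : IsAffineOpen (i' ⁻¹ᵁ U'))
    (hs' : Function.Surjective (i'.app U').hom)
    (hU : IsAffineOpen U) (hW : IsAffineOpen (i ⁻¹ᵁ U))
    (H1 : ∀ (N : Type u) [AddCommGroup N] [Module Γ(X, U) N]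
      (k : Γ(ClSub.idealMod J', U') →+ N),
      (∀ r x, k (r • x) = (g.appLE U' U hUU').hom r • k x) →
      ∃ F : Γ(ClSub.idealMod J, U) →ₗ[Γ(X, U)] N,
        ∀ x, F (alphaJ g J J' hUU' hE x) = k x) :
    Function.Injective (φ.app (i ⁻¹ᵁ U)) := by
  haveI qc1 : (ClSub.idealMod J).IsQuasicoherent :=
    Groth.Agent.Lib.OmegaAffH4.isQuasicoherent_idealMod _
  haveI qc1' : (ClSub.idealMod J').IsQuasicoherent :=
    Groth.Agent.Lib.OmegaAffH4.isQuasicoherent_idealMod _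
  have hWV' := preimage_le' i i' g gZ hw hUU'
  let φL : Γ((Scheme.Modules.pullback gZ).obj
      ((Scheme.Modules.pullback i').obj (ClSub.idealMod J')), i ⁻¹ᵁ U) →ₗ[Γ(Z, i ⁻¹ᵁ U)]
      Γ((Scheme.Modules.pullback i).obj (ClSub.idealMod J), i ⁻¹ᵁ U) :=
    { toFun := fun t => φ.app (i ⁻¹ᵁ U) t
      map_add' := fun a b => map_add _ a b
      map_smul' := fun r x => Scheme.Modules.Hom.app_smul φ r x }
  let γ : Γ(ClSub.idealMod J', U') →+
      Γ((Scheme.Modules.pullback gZ).obj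
        ((Scheme.Modules.pullback i').obj (ClSub.idealMod J')), i ⁻¹ᵁ U) :=
    (AddMonoidHom.mk'
      (PBH8.cUV gZ ((Scheme.Modules.pullback i').obj (ClSub.idealMod J')) hWV')
      (PBH8.cUV_add gZ ((Scheme.Modules.pullback i').obj (ClSub.idealMod J')) hWV')).comp
      (OmegaSh.pullSect i' (ClSub.idealMod J') U').hom
  let c : Γ(ClSub.idealMod J, U) →+
      Γ((Scheme.Modules.pullback i).obj (ClSub.idealMod J), i ⁻¹ᵁ U) :=
    AddMonoidHom.mk' (PBH8.cUV i (ClSub.idealMod J) (le_refl (i ⁻¹ᵁ U)))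
      (PBH8.cUV_add i (ClSub.idealMod J) (le_refl (i ⁻¹ᵁ U)))
  have hγ : ∀ (r : Γ(X', U')) (x : Γ(ClSub.idealMod J', U')),
      γ (r • x) = (i.appLE U (i ⁻¹ᵁ U) le_rfl).hom ((g.appLE U' U hUU').hom r) • γ x := by
    intro r x
    have e1 : OmegaSh.pullSect i' (ClSub.idealMod J') U' (r • x) =
        (i'.app U').hom r • OmegaSh.pullSect i' (ClSub.idealMod J') U' x :=
      Scheme.Modules.Hom.app_smul
        ((pullbackPushforwardAdjunction i').unit.app (ClSub.idealMod J')) r x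
    have e2 := PBH8.cUV_smul gZ ((Scheme.Modules.pullback i').obj (ClSub.idealMod J')) hWV'
      ((i'.app U').hom r) (OmegaSh.pullSect i' (ClSub.idealMod J') U' x)
    have e3 := square_appLE i i' g gZ hw hUU' r
    show PBH8.cUV gZ ((Scheme.Modules.pullback i').obj (ClSub.idealMod J')) hWV'
      (OmegaSh.pullSect i' (ClSub.idealMod J') U' (r • x)) = _
    rw [e1]
    refine e2.trans ?_
    rw [← e3]
    rfl
  have hφL : ∀ x, φL (γ x) = c (alphaJ g J J' hUU' hE x) := fun x =>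
    formulaJ i i' g gZ J J' hUU' hE φ hφ2 hWV' (le_refl _) x
  have hspan : ∀ t : Γ((Scheme.Modules.pullback gZ).obj
      ((Scheme.Modules.pullback i').obj (ClSub.idealMod J')), i ⁻¹ᵁ U),
      t ∈ Submodule.span Γ(Z, i ⁻¹ᵁ U) (Set.range γ) := by
    intro t
    refine Submodule.span_mono ?_
      (span_cUV gZ ((Scheme.Modules.pullback i').obj (ClSub.idealMod J')) hWV' hW hV' t)
    rintro _ ⟨y, rfl⟩
    obtain ⟨s', hs'e⟩ := Groth.Agent.Lib.ConormTrans3H7.cUV_surjective' i'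
      (ClSub.idealMod J') hU' hV' hs' y
    refine ⟨s', ?_⟩
    show PBH8.cUV gZ ((Scheme.Modules.pullback i').obj (ClSub.idealMod J')) hWV'
        (OmegaSh.pullSect i' (ClSub.idealMod J') U' s') =
      PBH8.cUV gZ ((Scheme.Modules.pullback i').obj (ClSub.idealMod J')) hWV' y
    rw [← hs'e, Groth.Agent.Lib.ConormDiffH4.cUV_rfl]
  have H2 : ∀ (N : Type u) [AddCommGroup N] [Module Γ(Z, i ⁻¹ᵁ U) N]
      (k : Γ(ClSub.idealMod J, U) →+ N),
      (∀ r x, k (r • x) = (i.appLE U (i ⁻¹ᵁ U) le_rfl).hom r • k x) →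
      ∃ F : Γ((Scheme.Modules.pullback i).obj (ClSub.idealMod J), i ⁻¹ᵁ U) →ₗ[Γ(Z, i ⁻¹ᵁ U)] N,
        ∀ x, F (c x) = k x := by
    intro N _ _ k hk
    exact exists_lift_cUV i (ClSub.idealMod J) (le_refl (i ⁻¹ᵁ U)) hW hU N k hk
  exact injective_of_baseChange (g.appLE U' U hUU').hom (i.appLE U (i ⁻¹ᵁ U) le_rfl).hom
    (alphaJ g J J' hUU' hE) γ hγ c φL hφL hspan H1 H2

end Generic2

section Section

variable {Z X Z' X' : Scheme.{u}} (i : Z ⟶ X) (i' : Z' ⟶ X') (g : X ⟶ X') (gZ : Z ⟶ Z')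
  (r : X ⟶ Z) (r' : X' ⟶ Z')

/-- Opens of `Z` adapted to a cartesian square of retractions. -/
def GoodSec (W : Z.Opens) : Prop :=
  ∃ (U' : X'.Opens) (U : X.Opens) (_ : IsAffineOpen U') (_ : IsAffineOpen U)
    (hUU' : U ≤ g ⁻¹ᵁ U') (_ : W = i ⁻¹ᵁ U) (h1 : U' ≤ r' ⁻¹ᵁ (i' ⁻¹ᵁ U'))
    (h2 : U ≤ r ⁻¹ᵁ W) (h3 : W ≤ gZ ⁻¹ᵁ (i' ⁻¹ᵁ U')), IsAffineOpen W ∧
    IsPushout (r'.appLE (i' ⁻¹ᵁ U') U' h1) (gZ.appLE (i' ⁻¹ᵁ U') W h3)
      (g.appLE U' U hUU') (r.appLE W U h2)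

theorem exists_secAffine [IsClosedImmersion i'] (hr' : i' ≫ r' = 𝟙 Z') (y : Z') :
    ∃ U' : X'.Opens, IsAffineOpen U' ∧ i' y ∈ U' ∧ U' ≤ r' ⁻¹ᵁ (i' ⁻¹ᵁ U') := by
  have hr'pt : ∀ t : Z', r' (i' t) = t := fun t => by
    have h : (i' ≫ r') t = (𝟙 Z' : Z' ⟶ Z') t := by rw [hr']
    exact h
  obtain ⟨V₀, hV₀, hyV₀, -⟩ :=
    exists_isAffineOpen_mem_and_subset (x := y) (U := ⊤) trivial
  have hmem0 : i' y ∈ r' ⁻¹ᵁ V₀ := by
    show r' (i' y) ∈ V₀
    rw [hr'pt]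
    exact hyV₀
  obtain ⟨U'₀, hU'₀, hyU'₀, hU'₀le⟩ := exists_isAffineOpen_mem_and_subset hmem0
  have hU'₀le' : U'₀ ≤ r' ⁻¹ᵁ V₀ := hU'₀le
  have hV' : IsAffineOpen (i' ⁻¹ᵁ U'₀) := hU'₀.preimage i'
  have hV'le : i' ⁻¹ᵁ U'₀ ≤ V₀ := by
    intro t ht
    have h1 : r' (i' t) ∈ V₀ := hU'₀le' ht
    rwa [hr'pt] at h1
  have hU' : IsAffineOpen (U'₀ ⊓ r' ⁻¹ᵁ (i' ⁻¹ᵁ U'₀)) :=
    Groth.Agent.Lib.ConormSeqH4.isAffineOpen_inf_preimage r' hU'₀ hV₀ hV' hU'₀le' hV'le
  refine ⟨U'₀ ⊓ r' ⁻¹ᵁ (i' ⁻¹ᵁ U'₀), hU', ⟨hyU'₀, ?_⟩, ?_⟩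
  · show i' (r' (i' y)) ∈ U'₀
    rw [hr'pt]
    exact hyU'₀
  · intro x hx
    have hx2 : i' (r' x) ∈ U'₀ := hx.2
    refine ⟨hx2, ?_⟩
    show i' (r' (i' (r' x))) ∈ U'₀
    rw [hr'pt]
    exact hx2

theorem exists_goodSec [IsClosedImmersion i'] (hr : i ≫ r = 𝟙 Z) (hr' : i' ≫ r' = 𝟙 Z')
    (hsq : IsPullback g r r' gZ) (hw : gZ ≫ i' = i ≫ g) (O : Z.Opens) (z : Z) (hz : z ∈ O) :
    ∃ W : Z.Opens, GoodSec i i' g gZ r r' W ∧ z ∈ W ∧ W ≤ O := by
  have hrpt : ∀ t : Z, r (i t) = t := fun t => by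
    have h : (i ≫ r) t = (𝟙 Z : Z ⟶ Z) t := by rw [hr]
    exact h
  have hwpt : ∀ t : Z, i' (gZ t) = g (i t) := fun t => by
    have h : (gZ ≫ i') t = (i ≫ g) t := by rw [hw]
    exact h
  obtain ⟨U', hU', hyU', h1⟩ := exists_secAffine i' r' hr' (gZ z)
  have hzmem : z ∈ O ⊓ gZ ⁻¹ᵁ (i' ⁻¹ᵁ U') := ⟨hz, hyU'⟩
  obtain ⟨W, hW, hzW, hWle⟩ := exists_isAffineOpen_mem_and_subset hzmem
  have hWle' : W ≤ O ⊓ gZ ⁻¹ᵁ (i' ⁻¹ᵁ U') := hWle
  have h3 : W ≤ gZ ⁻¹ᵁ (i' ⁻¹ᵁ U') := hWle'.trans inf_le_right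
  have hUS : IsAffineOpen (i' ⁻¹ᵁ U') := hU'.preimage i'
  have hUY : g ⁻¹ᵁ U' ⊓ r ⁻¹ᵁ W = g ⁻¹ᵁ U' ⊓ r ⁻¹ᵁ W := rfl
  have hU : IsAffineOpen (g ⁻¹ᵁ U' ⊓ r ⁻¹ᵁ W) := by
    haveI : IsAffine (↑(i' ⁻¹ᵁ U') : Scheme.{u}) := hUS
    haveI : IsAffine (↑W : Scheme.{u}) := hW
    haveI : IsAffine (↑U' : Scheme.{u}) := hU'
    exact IsAffine.of_isIso (Scheme.Hom.isPullback_resLE hsq h3 h1 hUY).isoPullback.hom
  have hiso := isIso_pushoutSection_of_isAffineOpen hsq h3 h1 hUY hUS hW hU'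
  have hpo := (isIso_pushoutSection_iff hsq h3 h1 hUY).mp hiso
  have hWU : W = i ⁻¹ᵁ (g ⁻¹ᵁ U' ⊓ r ⁻¹ᵁ W) := by
    apply le_antisymm
    · intro t ht
      refine ⟨?_, ?_⟩
      · show g (i t) ∈ U'
        rw [← hwpt]
        exact h3 ht
      · show r (i t) ∈ W
        rw [hrpt]
        exact ht
    · intro t ht
      have h : r (i t) ∈ W := ht.2
      rwa [hrpt] at h
  exact ⟨W, ⟨U', g ⁻¹ᵁ U' ⊓ r ⁻¹ᵁ W, hU', hU, inf_le_left, hWU, h1, inf_le_right, h3, hW, hpo⟩,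
    hzW, hWle'.trans inf_le_left⟩

/-- (H1) for the first graded piece in the section case. -/
theorem exists_lift_sec [QuasiCompact i] [QuasiCompact i'] (hr' : i' ≫ r' = 𝟙 Z')
    {U' : X'.Opens} {U : X.Opens} (hUU' : U ≤ g ⁻¹ᵁ U')
    (hE : ∀ s' : Γ(ClSub.idealMod (i'.ker ^ 1), U'),
      ∃ s : Γ(ClSub.idealMod (i.ker ^ 1), g ⁻¹ᵁ U'),
        OmegaSh.idealSect (i.ker ^ 1) (g ⁻¹ᵁ U') s =
          (g.app U').hom (OmegaSh.idealSect (i'.ker ^ 1) U' s'))
    (hU' : IsAffineOpen U') (hU : IsAffineOpen U)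
    (hK : (i.ker ^ 1).ideal ⟨U, hU⟩ =
      Ideal.map (g.appLE U' U hUU').hom ((i'.ker ^ 1).ideal ⟨U', hU'⟩))
    (h1 : U' ≤ r' ⁻¹ᵁ (i' ⁻¹ᵁ U')) (h2 : U ≤ r ⁻¹ᵁ (i ⁻¹ᵁ U))
    (h3 : i ⁻¹ᵁ U ≤ gZ ⁻¹ᵁ (i' ⁻¹ᵁ U'))
    (hpo : IsPushout (r'.appLE (i' ⁻¹ᵁ U') U' h1) (gZ.appLE (i' ⁻¹ᵁ U') (i ⁻¹ᵁ U) h3)
      (g.appLE U' U hUU') (r.appLE (i ⁻¹ᵁ U) U h2))
    (N : Type u) [AddCommGroup N] [Module Γ(X, U) N]
    (k : Γ(ClSub.idealMod (i'.ker ^ 1), U') →+ N)
    (hk : ∀ r x, k (r • x) = (g.appLE U' U hUU').hom r • k x) :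
    ∃ F : Γ(ClSub.idealMod (i.ker ^ 1), U) →ₗ[Γ(X, U)] N,
      ∀ x, F (alphaJ g (i.ker ^ 1) (i'.ker ^ 1) hUU' hE x) = k x := by
  have hπσ : ∀ y, (i'.app U').hom ((r'.appLE (i' ⁻¹ᵁ U') U' h1).hom y) = y := by
    intro y
    have e1 : i'.appLE U' (i' ⁻¹ᵁ U') le_rfl = i'.app U' := i'.appLE_eq_app
    have c1 := Scheme.Hom.appLE_comp_appLE i' r' (i' ⁻¹ᵁ U') U' (i' ⁻¹ᵁ U') h1 le_rfl
    rw [e1] at c1
    have c2 := c1.trans (OmegaSh.appLE_congr_hom hr' _ (le_refl _))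
    have t := congrArg (fun k => k.hom y) c2
    exact t.trans (id_appLE_apply _ _ y)
  have h0 : (i'.ker ^ 1).ideal ⟨U', hU'⟩ = (i'.ker.ideal ⟨U', hU'⟩) ^ 1 := rfl
  have hker : ∀ p, (i'.app U').hom (OmegaSh.idealSect (i'.ker ^ 1) U' p) = 0 := by
    intro p
    have hx' : OmegaSh.idealSect (i'.ker ^ 1) U' p ∈ (i'.ker ^ 1).ideal ⟨U', hU'⟩ :=
      TensH8.idealModι_mem (i'.ker ^ 1) hU' p
    rw [h0, pow_one, Scheme.Hom.ker_apply] at hx'
    exact RingHom.mem_ker.mp hx'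
  have hrange : ∀ x, (i'.app U').hom x = 0 →
      ∃ p, OmegaSh.idealSect (i'.ker ^ 1) U' p = x := by
    intro x hx
    have hx' : x ∈ (i'.ker ^ 1).ideal ⟨U', hU'⟩ := by
      rw [h0, pow_one, Scheme.Hom.ker_apply]
      exact RingHom.mem_ker.mpr hx
    obtain ⟨s', hs'e⟩ := TensH8.exists_idealMod_section (i'.ker ^ 1) hU' x hx'
    exact ⟨s', hs'e⟩
  exact exists_lift_of_section _ _ _ _ hpo (i'.app U') hπσ
    (OmegaSh.idealSect (i'.ker ^ 1) U') (idealSect_smul (i'.ker ^ 1) U')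
    (idealSect_injective (i'.ker ^ 1) U') hker hrange
    (OmegaSh.idealSect (i.ker ^ 1) U) (idealSect_smul (i.ker ^ 1) U)
    (idealSect_injective (i.ker ^ 1) U)
    (alphaJ g (i.ker ^ 1) (i'.ker ^ 1) hUU' hE) (alphaJ_smul g (i.ker ^ 1) (i'.ker ^ 1) hUU' hE)
    (idealSect_alphaJ g (i.ker ^ 1) (i'.ker ^ 1) hUU' hE)
    (mem_span_alphaJ g (i.ker ^ 1) (i'.ker ^ 1) hUU' hE hU' hU hK) N k hk

end Section

section Main5963

theorem sec_isPullback {X Y X' Y' : Scheme.{u}} (g : X ⟶ Y) (f : Y ⟶ X) (hf : f ≫ g = 𝟙 Y)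
    (u : Y' ⟶ Y) (v : X' ⟶ X) (g' : X' ⟶ Y') (hsq : IsPullback v g' g u) (f' : Y' ⟶ X')
    (hf' : f' ≫ g' = 𝟙 Y') (hf'v : f' ≫ v = u ≫ f) : IsPullback f' u v f := by
  have s : IsPullback (f' ≫ g') u u (f ≫ g) := by
    rw [hf', hf]
    exact IsPullback.id_horiz u
  exact IsPullback.of_right s hf'v hsq.flip

theorem main5963 {X Y X' Y' : Scheme.{u}} (g : X ⟶ Y) (f : Y ⟶ X)
    [IsClosedImmersion f] (hf : f ≫ g = 𝟙 Y) (u : Y' ⟶ Y) (v : X' ⟶ X) (g' : X' ⟶ Y')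
    (hsq : IsPullback v g' g u) (f' : Y' ⟶ X') (hf' : f' ≫ g' = 𝟙 Y') (hf'v : f' ≫ v = u ≫ f)
    (φ : (Scheme.Modules.pullback u).obj (PrinPart.grMod f 1) ⟶ PrinPart.grMod f' 1)
    (hφ : PrinPart.IsGrMap f' f v u 1 φ) : IsIso φ := by
  have hpb : IsPullback f' u v f := sec_isPullback g f hf u v g' hsq f' hf' hf'v
  haveI : IsClosedImmersion f' :=
    MorphismProperty.of_isPullback (P := @IsClosedImmersion) hpb.flip inferInstance
  have hw : u ≫ f = f' ≫ v := hφ.1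
  haveI : Epi φ := by
    refine Groth.Agent.Lib.OmegaCompat2H4.epi_of_surjective_basis φ (GoodBC f' f v)
      (exists_goodBC f' f v u hw) (fun W hWg => ?_)
    obtain ⟨U', U, hU', hV', hs', hU, hUU', rfl, hW, hs⟩ := hWg
    exact surjective_appJ f' f v u (f'.ker ^ 1) (f.ker ^ 1) hUU'
      (fun s' => exists_sec_pow f' f v u hw 1 hU' s') φ hφ.2 hw hU' hU hW hs
      (ideal_pow_eq f' f v u hw 1 hpb hUU' hU' hV' hs' hU)
  haveI : Mono φ := by
    refine Groth.Agent.Lib.OmegaCompat2H4.mono_of_injective_basis φ (GoodSec f' f v u g' g)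
      (exists_goodSec f' f v u g' g hf' hf hsq hw) (fun W hWg => ?_)
    obtain ⟨U', U, hU', hU, hUU', hWU, h1, h2, h3, hW, hpo⟩ := hWg
    subst hWU
    have hV' : IsAffineOpen (f ⁻¹ᵁ U') := hU'.preimage f
    have hs' : Function.Surjective (f.app U').hom := f.app_surjective U' hU'
    have hK := ideal_pow_eq f' f v u hw 1 hpb hUU' hU' hV' hs' hU
    exact injective_appJ_of_lift f' f v u (f'.ker ^ 1) (f.ker ^ 1) hUU'
      (fun s' => exists_sec_pow f' f v u hw 1 hU' s') φ hφ.2 hw hU' hV' hs' hU hW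
      (fun N _ _ k hk => exists_lift_sec f' f v u g' g hf hUU'
        (fun s' => exists_sec_pow f' f v u hw 1 hU' s') hU' hU hK h1 h2 h3 hpo N k hk)
  exact isIso_of_mono_of_epi φ

end Main5963

end Groth.Agent.Lib.ConormBCH7
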