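import Mathlib
import Groth.Prelude
import Groth.Agent.Lib.ConormBC4_helper7
import Groth.Agent.Lib.FLF3_helper8

/-!
# Base change of `Gr_n` for a section with flat graded pieces (helper7)
APPEND-ONLY once landed.
-/

set_option autoImplicit false
set_option linter.style.haveILetI false

universe u

open CategoryTheory CategoryTheory.Limits AlgebraicGeometry Opposite TopologicalSpace
open AlgebraicGeometry.Scheme.Modules TensorProduct

namespace Groth.Agent.Lib.ConormBCH7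

open Groth.Agent.Lib.GrpdOmegaH7

section AlgebraGr

theorem exists_factor {A : Type u} [CommRing A] {M N : Type u} [AddCommGroup M] [Module A M]
    [AddCommGroup N] [Module A N] (f : M →ₗ[A] A) (g : N →ₗ[A] A) (hg : Function.Injective g)
    (h : ∀ m, ∃ n, g n = f m) : ∃ j : M →ₗ[A] N, ∀ m, g (j m) = f m := by
  choose j hj using h
  refine ⟨{ toFun := j, map_add' := fun x y => hg ?_, map_smul' := fun c x => hg ?_ }, hj⟩
  · rw [hj, map_add, map_add, hj, hj]
  · show g (j (c • x)) = g (c • j x)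
    rw [hj, LinearMap.map_smul, LinearMap.map_smul, hj]

/-- If the graded pieces `K^k/K^(k+1)`, `k < n`, are flat over `R`, then `S ⊗[R] K^n → S ⊗[R] A`
is injective.  The powers of `K` and the graded pieces are given abstractly. -/
theorem lTensor_injective_of_flat_gr {R A : Type u} (S : Type u) [CommRing R] [CommRing A]
    [CommRing S] [Algebra R A] [Algebra R S] (K : Ideal A)
    (P : ℕ → Type u) [∀ k, AddCommGroup (P k)] [∀ k, Module A (P k)] [∀ k, Module R (P k)]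
    [∀ k, IsScalarTower R A (P k)]
    (ι : ∀ k, P k →ₗ[A] A) (hιinj : ∀ k, Function.Injective (ι k))
    (hmem : ∀ k p, ι k p ∈ K ^ k) (hrange : ∀ k x, x ∈ K ^ k → ∃ p, ι k p = x)
    (Q : ℕ → Type u) [∀ k, AddCommGroup (Q k)] [∀ k, Module R (Q k)]
    (c : ∀ k, P k →ₗ[R] Q k) (hc : ∀ k, Function.Surjective (c k))
    (hker1 : ∀ k p, c k p = 0 → p ∈ K • (⊤ : Submodule A (P k)))
    (hker2 : ∀ k p, p ∈ K • (⊤ : Submodule A (P k)) → c k p = 0)
    (n : ℕ) (hflat : ∀ k, k < n → Module.Flat R (Q k)) :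
    Function.Injective (LinearMap.lTensor S ((ι n).restrictScalars R)) := by
  have hj : ∀ k, ∃ j : P (k + 1) →ₗ[A] P k, ∀ p, ι k (j p) = ι (k + 1) p := fun k =>
    exists_factor (ι (k + 1)) (ι k) (hιinj k) (fun p =>
      hrange k _ (Ideal.pow_le_pow_right (Nat.le_succ k) (hmem (k + 1) p)))
  choose j hjι using hj
  have hjinj : ∀ k, Function.Injective (j k) := fun k x y hxy =>
    hιinj (k + 1) (by rw [← hjι, ← hjι, hxy])
  have hM1 : ∀ k (p : P k), ι k p ∈ K * K ^ k → p ∈ K • (⊤ : Submodule A (P k)) := by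
    intro k p hp
    have key : ∀ x ∈ K * K ^ k, ∃ p' ∈ K • (⊤ : Submodule A (P k)), ι k p' = x := by
      intro x hx
      refine Submodule.mul_induction_on
        (C := fun x => ∃ p' ∈ K • (⊤ : Submodule A (P k)), ι k p' = x) hx ?_ ?_
      · intro r hr m hm
        obtain ⟨q, hq⟩ := hrange k m hm
        exact ⟨r • q, Submodule.smul_mem_smul hr Submodule.mem_top, by
          rw [LinearMap.map_smul, hq, smul_eq_mul]⟩
      · rintro x y ⟨p₁, h₁, e₁⟩ ⟨p₂, h₂, e₂⟩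
        exact ⟨p₁ + p₂, Submodule.add_mem _ h₁ h₂, by rw [map_add, e₁, e₂]⟩
    obtain ⟨p', hp', e⟩ := key _ hp
    rwa [hιinj k e] at hp'
  have hM2 : ∀ k (p : P k), p ∈ K • (⊤ : Submodule A (P k)) → ι k p ∈ K * K ^ k := by
    intro k p hp
    refine Submodule.smul_induction_on (p := fun p => ι k p ∈ K * K ^ k) hp ?_ ?_
    · intro r hr m _
      show ι k (r • m) ∈ K * K ^ k
      rw [LinearMap.map_smul, smul_eq_mul]
      exact Ideal.mul_mem_mul hr (hmem k m)
    · intro a b ha hb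
      show ι k (a + b) ∈ K * K ^ k
      rw [map_add]
      exact Ideal.add_mem _ ha hb
  have hexact : ∀ k, Function.Exact ((j k).restrictScalars R) (c k) := by
    intro k p
    constructor
    · intro hp
      have h1 := hM2 k p (hker1 k p hp)
      rw [← pow_succ'] at h1
      obtain ⟨q, hq⟩ := hrange (k + 1) _ h1
      refine ⟨q, ?_⟩
      apply hιinj k
      show ι k (j k q) = ι k p
      rw [hjι, hq]
    · rintro ⟨q, rfl⟩
      apply hker2
      apply hM1
      show ι k (j k q) ∈ K * K ^ k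
      rw [hjι, ← pow_succ']
      exact hmem (k + 1) q
  have hstep : ∀ k, k < n →
      Function.Injective (LinearMap.lTensor S ((j k).restrictScalars R)) := by
    intro k hk
    haveI := hflat k hk
    exact LinearMap.lTensor_injective_of_exact_of_flat (c k) (hc k) ((j k).restrictScalars R)
      (hjinj k) (hexact k) S
  have hmain : ∀ m, m ≤ n →
      Function.Injective (LinearMap.lTensor S ((ι m).restrictScalars R)) := by
    intro m
    induction m with
    | zero =>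
        intro _
        have hsurj : Function.Surjective (ι 0) := fun x =>
          hrange 0 x (by rw [pow_zero, Ideal.one_eq_top]; exact Submodule.mem_top)
        let e := LinearEquiv.ofBijective (ι 0) ⟨hιinj 0, hsurj⟩
        exact lTensor_injective_of_retraction S ((ι 0).restrictScalars R)
          (e.symm.toLinearMap.restrictScalars R) (fun x => e.symm_apply_apply x)
    | succ m ih =>
        intro hm
        have hcomp : (ι (m + 1)).restrictScalars R =
            ((ι m).restrictScalars R).comp ((j m).restrictScalars R) := by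
          ext p
          exact (hjι m p).symm
        rw [hcomp, LinearMap.lTensor_comp]
        exact (ih (Nat.le_of_succ_le hm)).comp (hstep m hm)
  exact hmain n le_rfl

/-- The lifting property (H1) for a pushout square with a section whose ideal has flat graded
pieces below degree `n`. -/
theorem exists_lift_of_flat_gr {B' A' B A : CommRingCat.{u}} (σ' : B' ⟶ A') (b : B' ⟶ B)
    (a : A' ⟶ A) (σ : B ⟶ A) (hpo : IsPushout σ' b a σ) (π' : A' ⟶ B')
    (hπσ : ∀ y, π'.hom (σ'.hom y) = y)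
    (Pf : ℕ → Type u) [∀ k, AddCommGroup (Pf k)] [∀ k, Module A' (Pf k)]
    (ιf : ∀ k, Pf k →+ A') (hιf : ∀ k r x, ιf k (r • x) = r * ιf k x)
    (hιfinj : ∀ k, Function.Injective (ιf k))
    (hmem : ∀ k p, ιf k p ∈ (RingHom.ker π'.hom) ^ k)
    (hrange : ∀ k x, x ∈ (RingHom.ker π'.hom) ^ k → ∃ p, ιf k p = x)
    (Qf : ℕ → Type u) [∀ k, AddCommGroup (Qf k)] [∀ k, Module B' (Qf k)]
    (cf : ∀ k, Pf k →+ Qf k) (hcf : ∀ k r x, cf k (r • x) = π'.hom r • cf k x)
    (hcsurj : ∀ k, Function.Surjective (cf k))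
    (hker1 : ∀ k p, cf k p = 0 → p ∈ (RingHom.ker π'.hom) • (⊤ : Submodule A' (Pf k)))
    (hker2 : ∀ k p, p ∈ (RingHom.ker π'.hom) • (⊤ : Submodule A' (Pf k)) → cf k p = 0)
    (n : ℕ) (hflat : ∀ k, k < n → Module.Flat B' (Qf k))
    {P : Type u} [AddCommGroup P] [Module A P]
    (ι : P →+ A) (hι : ∀ r x, ι (r • x) = r * ι x) (hιinj : Function.Injective ι)
    (α : Pf n →+ P) (hα : ∀ r x, α (r • x) = a.hom r • α x)
    (hαι : ∀ x, ι (α x) = a.hom (ιf n x))
    (hspan : ∀ s : P, s ∈ Submodule.span A (Set.range α))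
    (N : Type u) [AddCommGroup N] [Module A N] (k : Pf n →+ N)
    (hk : ∀ r x, k (r • x) = a.hom r • k x) :
    ∃ F : P →ₗ[A] N, ∀ x, F (α x) = k x := by
  letI : Algebra B' A' := σ'.hom.toAlgebra
  letI : Algebra B' B := b.hom.toAlgebra
  letI : Algebra A' A := a.hom.toAlgebra
  letI : Algebra B A := σ.hom.toAlgebra
  letI : Algebra B' A := (a.hom.comp σ'.hom).toAlgebra
  haveI : IsScalarTower B' A' A := IsScalarTower.of_algebraMap_eq fun _ => rfl
  haveI : IsScalarTower B' B A :=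
    IsScalarTower.of_algebraMap_eq fun y => congrArg (fun k => k.hom y) hpo.w
  haveI : Algebra.IsPushout B' B A' A := CommRingCat.isPushout_iff_isPushout.mp hpo.flip
  letI : ∀ k, Module B' (Pf k) := fun k => Module.compHom (Pf k) σ'.hom
  haveI : ∀ k, IsScalarTower B' A' (Pf k) := fun k =>
    IsScalarTower.of_algebraMap_smul fun _ _ => rfl
  let ιL : ∀ k, Pf k →ₗ[A'] A' := fun k =>
    { toFun := ιf k, map_add' := (ιf k).map_add, map_smul' := fun r x => hιf k r x }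
  let cL : ∀ k, Pf k →ₗ[B'] Qf k := fun k =>
    { toFun := cf k
      map_add' := (cf k).map_add
      map_smul' := fun y x => by
        show cf k (σ'.hom y • x) = y • cf k x
        rw [hcf, hπσ] }
  have hjB : Function.Injective (LinearMap.lTensor B ((ιL n).restrictScalars B')) :=
    lTensor_injective_of_flat_gr B (RingHom.ker π'.hom) Pf ιL hιfinj hmem hrange Qf cL hcsurj
      hker1 hker2 n hflat
  have hj : Function.Injective (LinearMap.lTensor A (ιL n)) :=
    lTensor_injective_of_isPushout B' B A' A (ιL n) hjB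
  exact exists_lift_of_lTensor_injective (ιL n) hj ι hι hιinj α hα hαι hspan N k hk

end AlgebraGr

section FlatGr

variable {Z X Z' X' : Scheme.{u}} (i : Z ⟶ X) (i' : Z' ⟶ X') (g : X ⟶ X') (gZ : Z ⟶ Z')
  (r : X ⟶ Z) (r' : X' ⟶ Z')

/-- (H1) for the `n`-th graded piece in the section case with flat graded pieces. -/
theorem exists_lift_flatGr [QuasiCompact i] [QuasiCompact i'] (hr' : i' ≫ r' = 𝟙 Z') (n : ℕ)
    {U' : X'.Opens} {U : X.Opens} (hUU' : U ≤ g ⁻¹ᵁ U')
    (hE : ∀ s' : Γ(ClSub.idealMod (i'.ker ^ n), U'),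
      ∃ s : Γ(ClSub.idealMod (i.ker ^ n), g ⁻¹ᵁ U'),
        OmegaSh.idealSect (i.ker ^ n) (g ⁻¹ᵁ U') s =
          (g.app U').hom (OmegaSh.idealSect (i'.ker ^ n) U' s'))
    (hU' : IsAffineOpen U') (hV' : IsAffineOpen (i' ⁻¹ᵁ U'))
    (hs' : Function.Surjective (i'.app U').hom) (hU : IsAffineOpen U)
    (hK : (i.ker ^ n).ideal ⟨U, hU⟩ =
      Ideal.map (g.appLE U' U hUU').hom ((i'.ker ^ n).ideal ⟨U', hU'⟩))
    (h1 : U' ≤ r' ⁻¹ᵁ (i' ⁻¹ᵁ U')) (h2 : U ≤ r ⁻¹ᵁ (i ⁻¹ᵁ U))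
    (h3 : i ⁻¹ᵁ U ≤ gZ ⁻¹ᵁ (i' ⁻¹ᵁ U'))
    (hpo : IsPushout (r'.appLE (i' ⁻¹ᵁ U') U' h1) (gZ.appLE (i' ⁻¹ᵁ U') (i ⁻¹ᵁ U) h3)
      (g.appLE U' U hUU') (r.appLE (i ⁻¹ᵁ U) U h2))
    (hflat : ∀ k, k < n → Module.Flat Γ(Z', i' ⁻¹ᵁ U')
      Γ((Scheme.Modules.pullback i').obj (ClSub.idealMod (i'.ker ^ k)), i' ⁻¹ᵁ U'))
    (N : Type u) [AddCommGroup N] [Module Γ(X, U) N]
    (k : Γ(ClSub.idealMod (i'.ker ^ n), U') →+ N)
    (hk : ∀ r x, k (r • x) = (g.appLE U' U hUU').hom r • k x) :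
    ∃ F : Γ(ClSub.idealMod (i.ker ^ n), U) →ₗ[Γ(X, U)] N,
      ∀ x, F (alphaJ g (i.ker ^ n) (i'.ker ^ n) hUU' hE x) = k x := by
  have happ : i'.appLE U' (i' ⁻¹ᵁ U') le_rfl = i'.app U' := i'.appLE_eq_app
  have hπσ : ∀ y, (i'.appLE U' (i' ⁻¹ᵁ U') le_rfl).hom
      ((r'.appLE (i' ⁻¹ᵁ U') U' h1).hom y) = y := by
    intro y
    have c1 := Scheme.Hom.appLE_comp_appLE i' r' (i' ⁻¹ᵁ U') U' (i' ⁻¹ᵁ U') h1 le_rfl
    have c2 := c1.trans (OmegaSh.appLE_congr_hom hr' _ (le_refl _))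
    have t := congrArg (fun k => k.hom y) c2
    exact t.trans (id_appLE_apply _ _ y)
  have hkerEq : i'.ker.ideal ⟨U', hU'⟩ =
      RingHom.ker (i'.appLE U' (i' ⁻¹ᵁ U') le_rfl).hom := by
    rw [Scheme.Hom.ker_apply, happ]
  have h0 : ∀ k : ℕ, (i'.ker ^ k).ideal ⟨U', hU'⟩ = (i'.ker.ideal ⟨U', hU'⟩) ^ k := fun _ => rfl
  haveI qc : ∀ k : ℕ, (ClSub.idealMod (i'.ker ^ k)).IsQuasicoherent := fun k =>
    Groth.Agent.Lib.OmegaAffH4.isQuasicoherent_idealMod _
  exact exists_lift_of_flat_gr _ _ _ _ hpo (i'.appLE U' (i' ⁻¹ᵁ U') le_rfl) hπσ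
    (fun (k : ℕ) => Γ(ClSub.idealMod (i'.ker ^ k), U'))
    (fun (k : ℕ) => OmegaSh.idealSect (i'.ker ^ k) U')
    (fun (k : ℕ) => idealSect_smul (i'.ker ^ k) U')
    (fun (k : ℕ) => idealSect_injective (i'.ker ^ k) U')
    (fun (k : ℕ) p => by
      have hx' : OmegaSh.idealSect (i'.ker ^ k) U' p ∈ (i'.ker ^ k).ideal ⟨U', hU'⟩ :=
        TensH8.idealModι_mem (i'.ker ^ k) hU' p
      rw [h0, hkerEq] at hx'
      exact hx')
    (fun (k : ℕ) x hx => by
      have hx' : x ∈ (i'.ker ^ k).ideal ⟨U', hU'⟩ := by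
        rw [h0, hkerEq]
        exact hx
      obtain ⟨s', hs'e⟩ := TensH8.exists_idealMod_section (i'.ker ^ k) hU' x hx'
      exact ⟨s', hs'e⟩)
    (fun (k : ℕ) => Γ((Scheme.Modules.pullback i').obj (ClSub.idealMod (i'.ker ^ k)), i' ⁻¹ᵁ U'))
    (fun (k : ℕ) => AddMonoidHom.mk'
      (PBH8.cUV i' (ClSub.idealMod (i'.ker ^ k)) (le_refl (i' ⁻¹ᵁ U')))
      (PBH8.cUV_add i' (ClSub.idealMod (i'.ker ^ k)) (le_refl (i' ⁻¹ᵁ U'))))
    (fun (k : ℕ) r x => PBH8.cUV_smul i' (ClSub.idealMod (i'.ker ^ k)) (le_refl (i' ⁻¹ᵁ U')) r x)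
    (fun (k : ℕ) z => Groth.Agent.Lib.ConormTrans3H7.cUV_surjective' i'
      (ClSub.idealMod (i'.ker ^ k)) hU' hV' hs' z)
    (fun (k : ℕ) p hp => by
      have h := Groth.Agent.Lib.ConormTrans3H7.cUV_eq_zero' i'
        (ClSub.idealMod (i'.ker ^ k)) hU' hV' hs' p hp
      rw [hkerEq] at h
      exact h)
    (fun (k : ℕ) p hp => by
      rw [← hkerEq] at hp
      exact Groth.Agent.Lib.ConormTrans3H7.cUV_of_mem' i'
        (ClSub.idealMod (i'.ker ^ k)) hU' p hp)
    n hflat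
    (OmegaSh.idealSect (i.ker ^ n) U) (idealSect_smul (i.ker ^ n) U)
    (idealSect_injective (i.ker ^ n) U)
    (alphaJ g (i.ker ^ n) (i'.ker ^ n) hUU' hE) (alphaJ_smul g (i.ker ^ n) (i'.ker ^ n) hUU' hE)
    (idealSect_alphaJ g (i.ker ^ n) (i'.ker ^ n) hUU' hE)
    (mem_span_alphaJ g (i.ker ^ n) (i'.ker ^ n) hUU' hE hU' hU hK) N k hk

end FlatGr

section Main5964

theorem main5964 {X Y X' Y' : Scheme.{u}} (g : X ⟶ Y) (f : Y ⟶ X)
    [IsClosedImmersion f] (hf : f ≫ g = 𝟙 Y) (u : Y' ⟶ Y) (v : X' ⟶ X) (g' : X' ⟶ Y')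
    (hsq : IsPullback v g' g u) (f' : Y' ⟶ X') (hf' : f' ≫ g' = 𝟙 Y') (hf'v : f' ≫ v = u ≫ f)
    (m : ℕ) (hflat : ∀ k ≤ m, FlatMod.IsFlat (PrinPart.grMod f k)) {n : ℕ} (hn : n ≤ m)
    (φ : (Scheme.Modules.pullback u).obj (PrinPart.grMod f n) ⟶ PrinPart.grMod f' n)
    (hφ : PrinPart.IsGrMap f' f v u n φ) : IsIso φ := by
  have hpb : IsPullback f' u v f := sec_isPullback g f hf u v g' hsq f' hf' hf'v
  haveI : IsClosedImmersion f' :=
    MorphismProperty.of_isPullback (P := @IsClosedImmersion) hpb.flip inferInstance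
  have hw : u ≫ f = f' ≫ v := hφ.1
  haveI : Epi φ := by
    refine Groth.Agent.Lib.OmegaCompat2H4.epi_of_surjective_basis φ (GoodBC f' f v)
      (exists_goodBC f' f v u hw) (fun W hWg => ?_)
    obtain ⟨U', U, hU', hV', hs', hU, hUU', rfl, hW, hs⟩ := hWg
    exact surjective_appJ f' f v u (f'.ker ^ n) (f.ker ^ n) hUU'
      (fun s' => exists_sec_pow f' f v u hw n hU' s') φ hφ.2 hw hU' hU hW hs
      (ideal_pow_eq f' f v u hw n hpb hUU' hU' hV' hs' hU)
  haveI : Mono φ := by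
    refine Groth.Agent.Lib.OmegaCompat2H4.mono_of_injective_basis φ (GoodSec f' f v u g' g)
      (exists_goodSec f' f v u g' g hf' hf hsq hw) (fun W hWg => ?_)
    obtain ⟨U', U, hU', hU, hUU', hWU, h1, h2, h3, hW, hpo⟩ := hWg
    subst hWU
    have hV' : IsAffineOpen (f ⁻¹ᵁ U') := hU'.preimage f
    have hs' : Function.Surjective (f.app U').hom := f.app_surjective U' hU'
    have hK := ideal_pow_eq f' f v u hw n hpb hUU' hU' hV' hs' hU
    have hfl : ∀ k, k < n → Module.Flat Γ(Y, f ⁻¹ᵁ U')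
        Γ((Scheme.Modules.pullback f).obj (ClSub.idealMod (f.ker ^ k)), f ⁻¹ᵁ U') := by
      intro k hk
      haveI : (ClSub.idealMod (f.ker ^ k)).IsQuasicoherent :=
        Groth.Agent.Lib.OmegaAffH4.isQuasicoherent_idealMod _
      exact FLFH8.flat_sections_of_flat_stalks
        ((Scheme.Modules.pullback f).obj (ClSub.idealMod (f.ker ^ k))) hV'
        (fun x _ => hflat k (le_of_lt (lt_of_lt_of_le hk hn)) x)
    exact injective_appJ_of_lift f' f v u (f'.ker ^ n) (f.ker ^ n) hUU'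
      (fun s' => exists_sec_pow f' f v u hw n hU' s') φ hφ.2 hw hU' hV' hs' hU hW
      (fun N _ _ k hk => exists_lift_flatGr f' f v u g' g hf n hUU'
        (fun s' => exists_sec_pow f' f v u hw n hU' s') hU' hV' hs' hU hK h1 h2 h3 hpo hfl
        N k hk)
  exact isIso_of_mono_of_epi φ

end Main5964

end Groth.Agent.Lib.ConormBCH7
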