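import Mathlib
import Groth.Prelude
import Groth.Agent.Lib.ConormSplit_helper4

/-!
# The second fundamental exact sequence `C_{Z/X} → i^*Ω_{X/S} → Ω_{Z/S} → 0` for a quasi-compact
immersion (helper7)

Adapts the section-level computation of `ConormSplit_helper4` (which assumed a left inverse of the
immersion) to an arbitrary quasi-compact immersion.
APPEND-ONLY once landed.
-/

set_option autoImplicit false
set_option linter.style.haveILetI false

universe u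

open CategoryTheory CategoryTheory.Limits AlgebraicGeometry Opposite TopologicalSpace TensorProduct
open AlgebraicGeometry.Scheme.Modules

namespace Groth.Agent.Lib.ConormDiffSeqH7

open Groth.Agent.Lib.OmegaUniv2H4 Groth.Agent.Lib.OmegaResH4 Groth.Agent.Lib.OmegaRecQCH4
open Groth.Agent.Lib.OmegaCompatH4 Groth.Agent.Lib.OmegaCompat2H4
open Groth.Agent.Lib.OmegaAffH4 Groth.Agent.Lib.OmegaUnivH4 Groth.Agent.Lib.ConormOpenH4
open Groth.Agent.Lib.ConormDiffH4 Groth.Agent.Lib.ConormSeqAlgH4 Groth.Agent.Lib.OmegaSecH4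
open Groth.Agent.Lib.ConormSeqH4

section Geom

variable {Z X S : Scheme.{u}} (f : X ⟶ S) (i : Z ⟶ X)

/-- Good opens of `Z`. -/
def GoodD (U : Z.Opens) : Prop :=
  ∃ (W : X.Opens) (V : S.Opens), IsAffineOpen W ∧ IsAffineOpen U ∧ IsAffineOpen V ∧
    W ≤ f ⁻¹ᵁ V ∧ ∃ (e : U ≤ i ⁻¹ᵁ W), i ⁻¹ᵁ W ≤ U ∧
      Function.Surjective (i.appLE W U e).hom

theorem exists_goodD [IsImmersion i] (O : Z.Opens) (z : Z) (hz : z ∈ O) :
    ∃ U : Z.Opens, GoodD f i U ∧ z ∈ U ∧ U ≤ O := by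
  obtain ⟨OX, hOX, hOXeq⟩ := i.isEmbedding.isInducing.isOpen_iff.mp O.isOpen
  have hzOX : i z ∈ OX := by
    have h0 : z ∈ i ⁻¹' OX := by
      rw [hOXeq]
      exact hz
    exact h0
  obtain ⟨V, hV, hzV, -⟩ := (Opens.isBasis_iff_nbhd.mp S.isBasis_affineOpens)
    (show f (i z) ∈ (⊤ : S.Opens) from trivial)
  obtain ⟨W, hW, hzW, hWle, hU, hs⟩ :=
    exists_good_affine i z ((⟨OX, hOX⟩ : X.Opens) ⊓ f ⁻¹ᵁ V) ⟨hzOX, hzV⟩
  refine ⟨i ⁻¹ᵁ W, ⟨W, V, hW, hU, hV, hWle.trans inf_le_right, le_refl _, le_refl _, ?_⟩,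
    hzW, ?_⟩
  · have happ : i.appLE W (i ⁻¹ᵁ W) (le_refl _) = i.app W := i.appLE_eq_app
    rw [happ]
    exact hs
  · intro z' hz'
    have h1 : i z' ∈ OX := (hWle hz').1
    have h2 : z' ∈ i ⁻¹' OX := h1
    rw [hOXeq] at h2
    exact h2

set_option maxHeartbeats 6400000 in
theorem sections' [IsImmersion i] [QuasiCompact i]
    (ΩX : X.Modules) (dX : OmegaSh.Der f ΩX) (hX : OmegaSh.IsUniversal dX)
    (ΩZ : Z.Modules) (dZ : OmegaSh.Der (i ≫ f) ΩZ) (hZ : OmegaSh.IsUniversal dZ)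
    (φ : Omega.conormal i ⟶ (Scheme.Modules.pullback i).obj ΩX)
    (hφ : OmegaSh.IsConormalDiff i dX φ)
    (c : (Scheme.Modules.pullback i).obj ΩX ⟶ ΩZ) (hc : OmegaSh.IsDiffCompat i dX dZ c)
    {W : X.Opens} {U : Z.Opens} {V : S.Opens} (hW : IsAffineOpen W) (hU : IsAffineOpen U)
    (hV : IsAffineOpen V) (hWV : W ≤ f ⁻¹ᵁ V) (e : U ≤ i ⁻¹ᵁ W) (e' : i ⁻¹ᵁ W ≤ U)
    (hsurj : Function.Surjective (i.appLE W U e).hom) :
    (∀ m, c.app U (φ.app U m) = 0) ∧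
    (∀ y, c.app U y = 0 → ∃ m, φ.app U m = y) ∧
    Function.Surjective (c.app U) := by
  have hUV : U ≤ (i ≫ f) ⁻¹ᵁ V := fun z hz => hWV (e hz)
  letI aRA : Algebra Γ(S, V) Γ(X, W) := (f.appLE V W hWV).hom.toAlgebra
  letI aAC : Algebra Γ(X, W) Γ(Z, U) := (i.appLE W U e).hom.toAlgebra
  letI aRC : Algebra Γ(S, V) Γ(Z, U) := ((i ≫ f).appLE V U hUV).hom.toAlgebra
  letI mA : Module Γ(X, W) Γ(CN i, U) := Module.compHom _ (i.appLE W U e).hom
  have comm : ∀ r : Γ(S, V), ((i ≫ f).appLE V U hUV).hom r =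
      (i.appLE W U e).hom ((f.appLE V W hWV).hom r) := by
    intro r
    have c1 := Scheme.Hom.appLE_comp_appLE i f V W U hWV e
    exact (congrArg (fun k => k.hom r) c1).symm
  haveI tRAC : IsScalarTower Γ(S, V) Γ(X, W) Γ(Z, U) :=
    IsScalarTower.of_algebraMap_eq (fun r => comm r)
  have hAC : Function.Surjective (algebraMap Γ(X, W) Γ(Z, U)) := hsurj
  obtain ⟨L, Θ, E, hL, hE, hΘ, hmem, hex, hform⟩ :=
    conormalDiff_sections_le i f ΩX dX hX φ hφ hW hU e e' hsurj hV hWV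
  obtain ⟨LZ, hLZ⟩ := receptacleSections (i ≫ f) dZ hZ hU hV hUV
  haveI qcX : ΩX.IsQuasicoherent := isQuasicoherent f dX hX
  letI mA1 : Module Γ(X, W) Γ((Scheme.Modules.pullback i).obj ΩX, U) :=
    Module.compHom _ (i.appLE W U e).hom
  haveI tA1 : IsScalarTower Γ(X, W) Γ(Z, U) Γ((Scheme.Modules.pullback i).obj ΩX, U) :=
    IsScalarTower.of_algebraMap_smul fun _ _ => rfl
  letI mA2 : Module Γ(X, W) Γ(ΩZ, U) := Module.compHom _ (i.appLE W U e).hom
  haveI tA2 : IsScalarTower Γ(X, W) Γ(Z, U) Γ(ΩZ, U) :=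
    IsScalarTower.of_algebraMap_smul fun _ _ => rfl
  let cl : Γ((Scheme.Modules.pullback i).obj ΩX, U) →ₗ[Γ(Z, U)] Γ(ΩZ, U) :=
    { toFun := fun y => c.app U y
      map_add' := fun y z => map_add (c.app U).hom y z
      map_smul' := fun r y => Scheme.Modules.Hom.app_smul c r y }
  let lam : Γ(ΩX, W) →ₗ[Γ(X, W)] Γ(ΩZ, U) :=
    (cl.restrictScalars Γ(X, W)).comp (PBH8.cUVLin i ΩX e)
  have hcomm : (KaehlerDifferential.map Γ(S, V) Γ(S, V) Γ(X, W) Γ(Z, U)).comp L.toLinearMap =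
      (LZ.restrictScalars Γ(X, W)).toLinearMap.comp lam := by
    refine LinearMap.ext_on (span_d f dX hX ⟨hW, V, hV, hWV⟩) ?_
    rintro _ ⟨s, rfl⟩
    show KaehlerDifferential.map Γ(S, V) Γ(S, V) Γ(X, W) Γ(Z, U) (L (dX.app W s)) =
      LZ (c.app U (PBH8.cUV i ΩX e (dX.app W s)))
    rw [hL, cUV_d i dX dZ c hc e s, hLZ, KaehlerDifferential.map_D]
    rfl
  have key1 : ∀ x, LZ (cl (PBH8.cUVLin i ΩX e x)) =
      KaehlerDifferential.map Γ(S, V) Γ(S, V) Γ(X, W) Γ(Z, U) (L x) :=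
    fun x => (LinearMap.congr_fun hcomm x).symm
  have key2 : ∀ t : Γ(Z, U) ⊗[Γ(X, W)] Ω[Γ(X, W)⁄Γ(S, V)],
      LZ (cl (E t)) = KaehlerDifferential.mapBaseChange Γ(S, V) Γ(X, W) Γ(Z, U) t := by
    intro t
    induction t using TensorProduct.induction_on with
    | zero => rw [map_zero, map_zero, map_zero, map_zero]
    | tmul b y =>
      have h1 : E (b ⊗ₜ y) = b • PBH8.cUVLin i ΩX e (L.symm y) := by
        have h0 := hE b (L.symm y)
        rw [LinearEquiv.apply_symm_apply] at h0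
        exact h0
      rw [h1, cl.map_smul, LZ.map_smul, key1, LinearEquiv.apply_symm_apply,
        KaehlerDifferential.mapBaseChange_tmul]
    | add x y hx hy => rw [map_add, map_add, map_add, map_add, hx, hy]
  have hexact := KaehlerDifferential.exact_kerCotangentToTensor_mapBaseChange
    Γ(S, V) Γ(X, W) Γ(Z, U) hAC
  refine ⟨?_, ?_, ?_⟩
  · intro m
    have h1 := key2 (KaehlerDifferential.kerCotangentToTensor Γ(S, V) Γ(X, W) Γ(Z, U) (Θ m))
    have h2 : KaehlerDifferential.mapBaseChange Γ(S, V) Γ(X, W) Γ(Z, U)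
        (KaehlerDifferential.kerCotangentToTensor Γ(S, V) Γ(X, W) Γ(Z, U) (Θ m)) = 0 :=
      hexact.apply_apply_eq_zero (Θ m)
    have h3 : cl (E (KaehlerDifferential.kerCotangentToTensor Γ(S, V) Γ(X, W) Γ(Z, U)
        (Θ m))) = 0 := LZ.map_eq_zero_iff.mp (h1.trans h2)
    rw [hform m]
    exact h3
  · intro y hy
    have h0 := key2 (E.symm y)
    rw [LinearEquiv.apply_symm_apply] at h0
    have hy' : cl y = 0 := hy
    have h1 : KaehlerDifferential.mapBaseChange Γ(S, V) Γ(X, W) Γ(Z, U) (E.symm y) = 0 := by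
      rw [← h0, hy', map_zero]
    obtain ⟨θ, hθ⟩ := (hexact (E.symm y)).mp h1
    refine ⟨Θ.symm θ, ?_⟩
    rw [hform, LinearEquiv.apply_symm_apply, hθ, LinearEquiv.apply_symm_apply]
  · intro z
    obtain ⟨t, ht⟩ := KaehlerDifferential.mapBaseChange_surjective
      Γ(S, V) Γ(X, W) Γ(Z, U) hAC (LZ z)
    refine ⟨E t, ?_⟩
    have h1 := key2 t
    rw [ht] at h1
    exact LZ.injective h1

theorem main5976 [IsImmersion i] [QuasiCompact i]
    (ΩX : X.Modules) (dX : OmegaSh.Der f ΩX) (hX : OmegaSh.IsUniversal dX)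
    (ΩZ : Z.Modules) (dZ : OmegaSh.Der (i ≫ f) ΩZ) (hZ : OmegaSh.IsUniversal dZ)
    (φ : Omega.conormal i ⟶ (Scheme.Modules.pullback i).obj ΩX)
    (hφ : OmegaSh.IsConormalDiff i dX φ)
    (c : (Scheme.Modules.pullback i).obj ΩX ⟶ ΩZ) (hc : OmegaSh.IsDiffCompat i dX dZ c) :
    Epi c ∧ imageSubobject φ = kernelSubobject c := by
  have hbasis := exists_goodD f i
  have w : φ ≫ c = 0 := by
    refine hom_eq_zero_of_basis (GoodD f i) hbasis (φ ≫ c) (fun U hU s => ?_)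
    obtain ⟨W, V, hW, hUa, hV, hWV, e, e', hs⟩ := hU
    exact (sections' f i ΩX dX hX ΩZ dZ hZ φ hφ c hc hW hUa hV hWV e e' hs).1 s
  have hex : (ShortComplex.mk φ c w).Exact := by
    refine exact_of_basis (GoodD f i) hbasis φ c w (fun U hU y hy => ?_)
    obtain ⟨W, V, hW, hUa, hV, hWV, e, e', hs⟩ := hU
    exact (sections' f i ΩX dX hX ΩZ dZ hZ φ hφ c hc hW hUa hV hWV e e' hs).2.1 y hy
  have hepi : Epi c := by
    refine epi_of_surjective_basis c (GoodD f i) hbasis (fun U hU => ?_)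
    obtain ⟨W, V, hW, hUa, hV, hWV, e, e', hs⟩ := hU
    exact (sections' f i ΩX dX hX ΩZ dZ hZ φ hφ c hc hW hUa hV hWV e e' hs).2.2
  exact ⟨hepi, (ShortComplex.exact_iff_image_eq_kernel _).mp hex⟩

end Geom

end Groth.Agent.Lib.ConormDiffSeqH7
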