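import Mathlib
import Groth.Prelude
import Groth.Agent.Lib.ConormTrans3_helper7
import Groth.Agent.Lib.FLF1_helper8

/-!
# The conormal sheaf of an `H_1`-regular quasi-compact immersion is finite locally free (helper7)

Together with `ConormTrans3_helper7` this gives the locally split short exact conormal sequence
`0 → j^* C_{Y/X} → C_{Z/X} → C_{Z/Y} → 0` for quasi-compact immersions with `j` `H_1`-regular.
APPEND-ONLY once landed.
-/

set_option autoImplicit false
set_option linter.style.haveILetI false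

universe u

open CategoryTheory CategoryTheory.Limits AlgebraicGeometry Opposite TopologicalSpace
open QcqsLoc QCohExtn

namespace Groth.Agent.Lib.ConormTrans3H7

open PBH8 Groth.Agent.Lib.ConormSeqH4 Groth.Agent.Lib.OmegaCompat2H4
open Groth.Agent.Lib.ConormDiffH4 Groth.Agent.Lib.OmegaAffH4

section RingFLF

variable {B : Type u} [CommRing B]

/-- Elements of `K²` are combinations of the generators of `K` with coefficients in `K`. -/
theorem exists_coeff_of_mem_sq {c : ℕ} (f : Fin c → B) (x : B)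
    (hx : x ∈ Ideal.span (Set.range f) * Ideal.span (Set.range f)) :
    ∃ κ : Fin c → B, (∀ l, κ l ∈ Ideal.span (Set.range f)) ∧ ∑ l, κ l * f l = x := by
  have hx' : x ∈ Ideal.span (Set.range f) • Ideal.span (Set.range f) := hx
  refine Submodule.smul_induction_on
    (p := fun x => ∃ κ : Fin c → B, (∀ l, κ l ∈ Ideal.span (Set.range f)) ∧
      ∑ l, κ l * f l = x) hx' ?_ ?_
  · intro r hr n hn
    obtain ⟨cf, hcf⟩ := Ideal.mem_span_range_iff_exists_fun.mp hn
    refine ⟨fun l => r * cf l, fun l => Ideal.mul_mem_right _ _ hr, ?_⟩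
    show ∑ l, r * cf l * f l = r • n
    rw [← hcf, smul_eq_mul, Finset.mul_sum]
    exact Finset.sum_congr rfl fun l _ => mul_assoc _ _ _
  · rintro x y ⟨κ, hκ, rfl⟩ ⟨κ', hκ', rfl⟩
    refine ⟨fun l => κ l + κ' l, fun l => Ideal.add_mem _ (hκ l) (hκ' l), ?_⟩
    simp only [add_mul, Finset.sum_add_distrib]

/-- The trivial relations have entries in the ideal generated by the sequence. -/
theorem rel_entries_mem {c : ℕ} (f : Fin c → B) (a : Fin c → B)
    (ha : a ∈ Submodule.span B
      {v : Fin c → B | ∃ i j : Fin c, v = Pi.single i (f j) - Pi.single j (f i)}) :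
    ∀ l, a l ∈ Ideal.span (Set.range f) := by
  classical
  induction ha using Submodule.span_induction with
  | mem v hv =>
    obtain ⟨i, j, rfl⟩ := hv
    intro l
    have h1 : ∀ (p q : Fin c), (Pi.single p (f q) : Fin c → B) l ∈ Ideal.span (Set.range f) := by
      intro p q
      rw [Pi.single_apply]
      split_ifs
      · exact Ideal.subset_span ⟨q, rfl⟩
      · exact Ideal.zero_mem _
    rw [Pi.sub_apply]
    exact Ideal.sub_mem _ (h1 i j) (h1 j i)
  | zero =>
    intro l
    exact Ideal.zero_mem _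
  | add u v _ _ hu hv =>
    intro l
    rw [Pi.add_apply]
    exact Ideal.add_mem _ (hu l) (hv l)
  | smul b u _ hu =>
    intro l
    rw [Pi.smul_apply, smul_eq_mul]
    exact Ideal.mul_mem_left _ _ (hu l)

/-- Quasi-regularity in degree one for an `H_1`-regular sequence. -/
theorem coeff_mem_of_sum_mem_sq {c : ℕ} (f : Fin c → B) (hf : CAlgX.IsH1Regular f)
    (β : Fin c → B)
    (h : ∑ l, β l * f l ∈ Ideal.span (Set.range f) * Ideal.span (Set.range f)) :
    ∀ l, β l ∈ Ideal.span (Set.range f) := by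
  obtain ⟨κ, hκ, hκe⟩ := exists_coeff_of_mem_sq f _ h
  have hrel : ∑ l, (β l - κ l) * f l = 0 := by
    simp only [sub_mul, Finset.sum_sub_distrib]
    rw [hκe, sub_self]
  have h1 := rel_entries_mem f _ (hf (fun l => β l - κ l) hrel)
  intro l
  have h2 : β l = (β l - κ l) + κ l := by ring
  rw [h2]
  exact Ideal.add_mem _ (h1 l) (hκ l)

end RingFLF

section FLF

variable {Y Z : Scheme.{u}} (j : Z ⟶ Y)

theorem cJ_sum {V : Y.Opens} {r : ℕ} (β : Fin r → Γ(Y, V))
    (n : Fin r → Γ(ClSub.idealMod j.ker, V)) (s : Finset (Fin r)) :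
    cJ j V (∑ l ∈ s, β l • n l) = ∑ l ∈ s, ((j.app V).hom (β l)) • cJ j V (n l) := by
  classical
  induction s using Finset.induction_on with
  | empty =>
    rw [Finset.sum_empty, Finset.sum_empty]
    exact cJ_zero j V
  | insert a s ha ih =>
    rw [Finset.sum_insert ha, Finset.sum_insert ha, cJ_add, cJ_smul, ih]

theorem flf_of_regAt [QuasiCompact j] {V : Y.Opens} (hV : IsAffineOpen V)
    (hU : IsAffineOpen (j ⁻¹ᵁ V)) (hs : Function.Surjective (j.app V).hom)
    (H : RegAt j V hV) :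
    ∃ r : ℕ, Nonempty ((Omega.conormal j).restrict (j ⁻¹ᵁ V).ι ≅
      FlatMod.freeMod (↑(j ⁻¹ᵁ V)) r) := by
  classical
  obtain ⟨rs, hrs, hK⟩ := H
  haveI qc1 : (ClSub.idealMod j.ker).IsQuasicoherent := isQuasicoherent_idealMod _
  haveI qc2 : (Omega.conormal j).IsQuasicoherent := by
    unfold Omega.conormal
    infer_instance
  have hKs : j.ker.ideal ⟨V, hV⟩ = Ideal.span (Set.range rs.get) := by
    rw [hK, ConormTransH7.ofList_eq_span_range]
  have hmemK : ∀ l, rs.get l ∈ j.ker.ideal ⟨V, hV⟩ := fun l => by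
    rw [hKs]
    exact Ideal.subset_span ⟨l, rfl⟩
  choose n hn using fun l => TensH8.exists_idealMod_section j.ker hV (rs.get l) (hmemK l)
  have hn' : ∀ l, KoszSh.secForm (ClSub.idealModι j.ker) V (n l) = rs.get l := fun l => hn l
  have hsec : ∀ β : Fin rs.length → Γ(Y, V),
      KoszSh.secForm (ClSub.idealModι j.ker) V (∑ l, β l • n l) = ∑ l, β l * rs.get l := by
    intro β
    rw [map_sum]
    refine Finset.sum_congr rfl (fun l _ => ?_)
    rw [map_smul, hn', smul_eq_mul]
  refine ⟨rs.length, FLFH8.iso_of_basis (Omega.conormal j) hU (fun l => cJ j V (n l)) ?_ ?_⟩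
  · -- span
    rw [eq_top_iff]
    intro y _
    obtain ⟨n'', rfl⟩ := cJ_surj j hV hU hs y
    have h1 : KoszSh.secForm (ClSub.idealModι j.ker) V n'' ∈ Ideal.span (Set.range rs.get) := by
      rw [← hKs]
      exact TensH8.idealModι_mem j.ker hV n''
    obtain ⟨cf, hcf⟩ := Ideal.mem_span_range_iff_exists_fun.mp h1
    have h2' : KoszSh.secForm (ClSub.idealModι j.ker) V n'' =
        KoszSh.secForm (ClSub.idealModι j.ker) V (∑ l, cf l • n l) := by
      rw [hsec, hcf]
    have h2 : n'' = ∑ l, cf l • n l := TensH8.idealModι_injective j.ker V h2'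
    rw [h2, cJ_sum]
    exact Submodule.sum_mem _
      (fun l _ => Submodule.smul_mem _ _ (Submodule.subset_span ⟨l, rfl⟩))
  · -- linear independence
    rw [Fintype.linearIndependent_iff]
    intro b hb l
    choose β hβ using fun k => hs (b k)
    have h1 : cJ j V (∑ k, β k • n k) = 0 := by
      rw [cJ_sum, ← hb]
      refine Finset.sum_congr rfl (fun k _ => ?_)
      rw [hβ]
    have h2 := cJ_eq_zero j hV hU hs _ h1
    have h3 := (ConormTransH7.mem_smul_top_iff j.ker hV _ _).mp h2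
    have h4 : ∑ k, β k * rs.get k ∈
        Ideal.span (Set.range rs.get) * Ideal.span (Set.range rs.get) := by
      have h5 : OmegaSh.idealSect j.ker V (∑ k, β k • n k) = ∑ k, β k * rs.get k := hsec β
      rw [← h5, ← hKs]
      exact h3
    have h6 := coeff_mem_of_sum_mem_sq rs.get hrs β h4 l
    rw [← hKs, ConormTransH7.mem_I_iff j hV, hβ] at h6
    exact h6

end FLF

section Main8919

variable {X Y Z : Scheme.{u}} (i : Y ⟶ X) (j : Z ⟶ Y)
  [IsImmersion i] [IsImmersion j] [QuasiCompact i] [QuasiCompact j]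
  (φ₁ : (Scheme.Modules.pullback j).obj (Omega.conormal i) ⟶ Omega.conormal (j ≫ i))
  (hφ₁ : OmegaSh.IsConormalMap (j ≫ i) i (𝟙 X) j φ₁)
  (φ₂ : (Scheme.Modules.pullback (𝟙 Z)).obj (Omega.conormal (j ≫ i)) ⟶ Omega.conormal j)
  (hφ₂ : OmegaSh.IsConormalMap j (j ≫ i) i (𝟙 Z) φ₂)

omit [IsImmersion i] [QuasiCompact i] in
theorem flf_conormal (hj : RegImm.IsRegularImmersion RegImm.Kind.h1 j) :
    FlatMod.IsFinLocFree (Omega.conormal j) := by
  intro z
  obtain ⟨U, ⟨W, G, rfl, hR⟩, hzU, -⟩ := PReg_basis (𝟙 Y) j hj ⊤ z trivial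
  obtain ⟨r, hr⟩ := flf_of_regAt j G.hV G.hU G.hsj hR
  exact ⟨j ⁻¹ᵁ ((𝟙 Y) ⁻¹ᵁ W), r, hzU, hr⟩

include hφ₁ hφ₂ in
theorem main8919 (hj : RegImm.IsRegularImmersion RegImm.Kind.h1 j) :
    φ₁ ≫ ((Scheme.Modules.pullbackId Z).inv.app (Omega.conormal (j ≫ i)) ≫ φ₂) = 0 ∧
      (∀ w : φ₁ ≫ ((Scheme.Modules.pullbackId Z).inv.app (Omega.conormal (j ≫ i)) ≫ φ₂) = 0,
        (ShortComplex.mk φ₁
          ((Scheme.Modules.pullbackId Z).inv.app (Omega.conormal (j ≫ i)) ≫ φ₂) w).ShortExact) ∧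
      FlatMod.IsFinLocFree (Omega.conormal j) := by
  have w := comp_zero i j φ₁ hφ₁ φ₂ hφ₂
  refine ⟨w, fun w' => ?_, flf_conormal j hj⟩
  exact ShortComplex.ShortExact.mk' (exact_mid i j φ₁ hφ₁ φ₂ hφ₂ w')
    (mono_left i j φ₁ hφ₁ hj) (epi_right i j φ₂ hφ₂)

end Main8919

end Groth.Agent.Lib.ConormTrans3H7
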