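import Mathlib
import Groth.Prelude
import Groth.Agent.Lib.ConormTrans4_helper7

/-!
# Conormal sheaf of a complete intersection of regularly immersed subschemes, ring level (helper7)

`mem_mul_of_sum_mem_sq`: if `I = ∑ J_l` is generated by an `H_1`-regular sequence of length
`∑ d_l` and each `J_l` is generated by `d_l` elements, then `∑ s_l ∈ I²` with `s_l ∈ J_l` forces
`s_l ∈ I J_l`, i.e. `⊕ J_l / I J_l → I / I²` is injective.
APPEND-ONLY once landed.
-/

set_option autoImplicit false
set_option linter.style.haveILetI false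

universe u

namespace Groth.Agent.Lib.ConormSumH7

open Groth.Agent.Lib.ConormTrans3H7

section Ring

variable {A : Type u} [CommRing A]

/-- If `d` elements generate an ideal generated by an `H_1`-regular sequence of length `d`, their
classes are independent modulo the square of the ideal. -/
theorem coeff_mem_of_gens {d : ℕ} (h : Fin d → A) (hh : CAlgX.IsH1Regular h) (f : Fin d → A)
    (hspan : Ideal.span (Set.range f) = Ideal.span (Set.range h)) (a : Fin d → A)
    (ha : ∑ k, a k * f k ∈ Ideal.span (Set.range h) * Ideal.span (Set.range h)) :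
    ∀ k, a k ∈ Ideal.span (Set.range h) := by
  classical
  have hfI : ∀ k, f k ∈ Ideal.span (Set.range h) := fun k => by
    rw [← hspan]
    exact Ideal.subset_span ⟨k, rfl⟩
  have hhf : ∀ m, h m ∈ Ideal.span (Set.range f) := fun m => by
    rw [hspan]
    exact Ideal.subset_span ⟨m, rfl⟩
  choose c hc using fun k => Ideal.mem_span_range_iff_exists_fun.mp (hfI k)
  choose e he using fun m => Ideal.mem_span_range_iff_exists_fun.mp (hhf m)
  -- `e * c ≡ 1` modulo the ideal
  have key1 : ∀ m m', (∑ k, e m k * c k m') - (if m = m' then 1 else 0) ∈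
      Ideal.span (Set.range h) := by
    intro m
    have h1 : ∑ m', (∑ k, e m k * c k m') * h m' = h m := by
      calc ∑ m', (∑ k, e m k * c k m') * h m'
          = ∑ m', ∑ k, e m k * (c k m' * h m') := by
            refine Finset.sum_congr rfl (fun m' _ => ?_)
            rw [Finset.sum_mul]
            exact Finset.sum_congr rfl (fun k _ => mul_assoc _ _ _)
        _ = ∑ k, ∑ m', e m k * (c k m' * h m') := Finset.sum_comm
        _ = ∑ k, e m k * f k := by
            refine Finset.sum_congr rfl (fun k _ => ?_)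
            rw [← Finset.mul_sum, hc]
        _ = h m := he m
    have h2 : ∑ m', (if m = m' then (1 : A) else 0) * h m' = h m := by
      simp
    have hrel : ∑ m', ((∑ k, e m k * c k m') - (if m = m' then 1 else 0)) * h m' = 0 := by
      simp only [sub_mul, Finset.sum_sub_distrib]
      rw [h1, h2, sub_self]
    exact coeff_mem_of_sum_mem_sq h hh _ (by rw [hrel]; exact Ideal.zero_mem _)
  -- `a * c ≡ 0` modulo the ideal
  have key2 : ∀ m, ∑ k, a k * c k m ∈ Ideal.span (Set.range h) := by
    have h1 : ∑ m, (∑ k, a k * c k m) * h m = ∑ k, a k * f k := by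
      calc ∑ m, (∑ k, a k * c k m) * h m
          = ∑ m, ∑ k, a k * (c k m * h m) := by
            refine Finset.sum_congr rfl (fun m _ => ?_)
            rw [Finset.sum_mul]
            exact Finset.sum_congr rfl (fun k _ => mul_assoc _ _ _)
        _ = ∑ k, ∑ m, a k * (c k m * h m) := Finset.sum_comm
        _ = ∑ k, a k * f k := by
            refine Finset.sum_congr rfl (fun k _ => ?_)
            rw [← Finset.mul_sum, hc]
    exact coeff_mem_of_sum_mem_sq h hh _ (by rw [h1]; exact ha)
  -- matrices over the quotient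
  let q : A →+* A ⧸ Ideal.span (Set.range h) := Ideal.Quotient.mk (Ideal.span (Set.range h))
  let E : Matrix (Fin d) (Fin d) (A ⧸ Ideal.span (Set.range h)) := fun m k => q (e m k)
  let C : Matrix (Fin d) (Fin d) (A ⧸ Ideal.span (Set.range h)) := fun k m => q (c k m)
  have hEC : E * C = 1 := by
    ext m m'
    rw [Matrix.mul_apply, Matrix.one_apply]
    have h1 : ∑ k, E m k * C k m' = q (∑ k, e m k * c k m') := by
      rw [map_sum]
      exact Finset.sum_congr rfl (fun k _ => (map_mul q _ _).symm)
    rw [h1]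
    have h2 : q (∑ k, e m k * c k m') = q (if m = m' then 1 else 0) :=
      Ideal.Quotient.eq.mpr (key1 m m')
    rw [h2]
    split_ifs
    · exact map_one q
    · exact map_zero q
  have hCE : C * E = 1 := mul_eq_one_comm.mp hEC
  have hvC : Matrix.vecMul (fun k => q (a k)) C = 0 := by
    funext m
    have h1 : ∑ k, q (a k) * C k m = q (∑ k, a k * c k m) := by
      rw [map_sum]
      exact Finset.sum_congr rfl (fun k _ => (map_mul q _ _).symm)
    show ∑ k, q (a k) * C k m = 0
    rw [h1]
    exact Ideal.Quotient.eq_zero_iff_mem.mpr (key2 m)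
  intro k
  have h3 : (fun k => q (a k)) = 0 := by
    have h4 : (fun k => q (a k)) = Matrix.vecMul (Matrix.vecMul (fun k => q (a k)) C) E := by
      rw [Matrix.vecMul_vecMul, hCE, Matrix.vecMul_one]
    rw [hvC, Matrix.zero_vecMul] at h4
    exact h4
  exact Ideal.Quotient.eq_zero_iff_mem.mp (congrFun h3 k)

/-- `coeff_mem_of_gens` for generators indexed by any type of the right cardinality. -/
theorem coeff_mem_of_gens' {d : ℕ} (h : Fin d → A) (hh : CAlgX.IsH1Regular h) {ι : Type}
    [Fintype ι] (hcard : Fintype.card ι = d) (F : ι → A)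
    (hspan : Ideal.span (Set.range F) = Ideal.span (Set.range h)) (a : ι → A)
    (ha : ∑ x, a x * F x ∈ Ideal.span (Set.range h) * Ideal.span (Set.range h)) :
    ∀ x, a x ∈ Ideal.span (Set.range h) := by
  classical
  let ε : Fin d ≃ ι := (Fintype.equivFinOfCardEq hcard).symm
  have hspan' : Ideal.span (Set.range (F ∘ ε)) = Ideal.span (Set.range h) := by
    rw [EquivLike.range_comp F ε]
    exact hspan
  have hsum : ∑ k, (a ∘ ε) k * (F ∘ ε) k = ∑ x, a x * F x :=
    Equiv.sum_comp ε (fun x => a x * F x)
  have h1 := coeff_mem_of_gens h hh (F ∘ ε) hspan' (a ∘ ε) (by rw [hsum]; exact ha)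
  intro x
  have h2 := h1 (ε.symm x)
  simpa using h2

theorem exists_sum_of_mem_iSup {r : ℕ} (J : Fin r → Ideal A) (x : A) (hx : x ∈ ⨆ l, J l) :
    ∃ s : Fin r → A, (∀ l, s l ∈ J l) ∧ ∑ l, s l = x := by
  classical
  refine Submodule.iSup_induction J
    (motive := fun x => ∃ s : Fin r → A, (∀ l, s l ∈ J l) ∧ ∑ l, s l = x) hx ?_ ?_ ?_
  · intro l x hx
    refine ⟨Pi.single l x, fun l' => ?_, ?_⟩
    · by_cases hl : l' = l
      · subst hl
        rw [Pi.single_eq_same]
        exact hx
      · rw [Pi.single_eq_of_ne hl]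
        exact Ideal.zero_mem _
    · simp
  · exact ⟨0, fun l => Ideal.zero_mem _, by simp⟩
  · rintro x y ⟨s, hs, rfl⟩ ⟨t, ht, rfl⟩
    exact ⟨s + t, fun l => Ideal.add_mem _ (hs l) (ht l), by simp [Finset.sum_add_distrib]⟩

/-- Injectivity of `⊕ J_l / I J_l → I / I²` for a regular ideal `I = ∑ J_l` of the expected
codimension. -/
theorem mem_mul_of_sum_mem_sq {r : ℕ} (J : Fin r → Ideal A) (I : Ideal A) (hI : I = ⨆ l, J l)
    (fs : Fin r → List A) (hfs : ∀ l, J l = Ideal.ofList (fs l)) (rs : List A)
    (hlen : rs.length = ∑ l, (fs l).length) (hh : CAlgX.IsH1Regular rs.get)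
    (hIrs : I = Ideal.ofList rs) (s : Fin r → A) (hs : ∀ l, s l ∈ J l)
    (hsum : ∑ l, s l ∈ I * I) : ∀ l, s l ∈ I * J l := by
  classical
  have hJ : ∀ l, J l = Ideal.span (Set.range (fs l).get) := fun l => by
    rw [hfs l, ConormTransH7.ofList_eq_span_range]
  have hIr : I = Ideal.span (Set.range rs.get) := by
    rw [hIrs, ConormTransH7.ofList_eq_span_range]
  have hs' : ∀ l, s l ∈ Ideal.span (Set.range (fs l).get) := fun l => by
    rw [← hJ l]
    exact hs l
  choose a ha using fun l => Ideal.mem_span_range_iff_exists_fun.mp (hs' l)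
  let F : (Σ l : Fin r, Fin (fs l).length) → A := fun x => (fs x.1).get x.2
  let a' : (Σ l : Fin r, Fin (fs l).length) → A := fun x => a x.1 x.2
  have hcard : Fintype.card (Σ l : Fin r, Fin (fs l).length) = rs.length := by
    rw [hlen, Fintype.card_sigma]
    exact Finset.sum_congr rfl (fun l _ => Fintype.card_fin _)
  have hspan : Ideal.span (Set.range F) = Ideal.span (Set.range rs.get) := by
    rw [← hIr, hI, Set.range_sigma_eq_iUnion_range, Ideal.span_iUnion]
    exact iSup_congr (fun l => (hJ l).symm)
  have hsumF : ∑ x, a' x * F x = ∑ l, s l := by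
    rw [Fintype.sum_sigma]
    exact Finset.sum_congr rfl (fun l _ => ha l)
  have hmem : ∑ x, a' x * F x ∈
      Ideal.span (Set.range rs.get) * Ideal.span (Set.range rs.get) := by
    rw [hsumF, ← hIr]
    exact hsum
  have hcoef := coeff_mem_of_gens' rs.get hh hcard F hspan a' hmem
  intro l
  rw [← ha l]
  refine Ideal.sum_mem _ (fun k _ => Ideal.mul_mem_mul ?_ ?_)
  · rw [hIr]
    exact hcoef ⟨l, k⟩
  · rw [hJ l]
    exact Ideal.subset_span ⟨k, rfl⟩

end Ring

end Groth.Agent.Lib.ConormSumH7
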