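import Mathlib
import Groth.Prelude
import Groth.Agent.Lib.ConormSum1_helper7
import Groth.Agent.Lib.OmegaFunct_helper4

/-!
# Conormal sheaf of a complete intersection of regularly immersed subschemes (helper7)

For closed subschemes `X_l ⊆ X` and their schematic intersection `Y`, when `Y ⊆ X` is regular of
codimension `∑ d_l` and each `X_l` is locally cut out by `d_l` equations, the natural map
`⊕ C_{X_l/X}|_Y → C_{Y/X}` is an isomorphism.  Also: the inclusion `idealMod I ⟶ idealMod J` for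
`I ≤ J` and the existence of the conormal map for a factorisation `Z → Y → X`.
APPEND-ONLY once landed.
-/

set_option autoImplicit false
set_option linter.style.haveILetI false

universe u

open CategoryTheory CategoryTheory.Limits AlgebraicGeometry Opposite TopologicalSpace
open QcqsLoc QCohExtn

namespace Groth.Agent.Lib.ConormSumH7

open PBH8 Groth.Agent.Lib.RegSecIsoH7 Groth.Agent.Lib.ConormSeqH4 Groth.Agent.Lib.OmegaCompat2H4
open Groth.Agent.Lib.ConormDiffH4 Groth.Agent.Lib.OmegaAffH4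

section Incl

variable {X : Scheme.{u}} {I J : X.IdealSheafData} (hIJ : I ≤ J)

include hIJ in
theorem incl_w : ClSub.idealModι I ≫ ClSub.toSubscheme J = 0 := by
  refine hom_eq_zero_of_basis (fun W : X.Opens => IsAffineOpen W) ?_ _ (fun W hW s => ?_)
  · intro O x hx
    obtain ⟨_, ⟨W, hW : IsAffineOpen W, rfl⟩, hxW, hle⟩ :=
      X.isBasis_affineOpens.exists_subset_of_mem_open hx O.isOpen
    exact ⟨W, hW, hxW, hle⟩
  · have hmem := TensH8.idealModι_mem I hW s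
    have hmemJ := (Scheme.IdealSheafData.le_def.mp hIJ) ⟨W, hW⟩ hmem
    obtain ⟨t, ht⟩ := TensH8.exists_idealMod_section J hW _ hmemJ
    have h2 : ap (ClSub.idealModι I) W s = ap (ClSub.idealModι J) W t := ht.symm
    show ap (ClSub.toSubscheme J) W (ap (ClSub.idealModι I) W s) = 0
    rw [h2]
    exact TensH8.kernel_section_mem (ClSub.toSubscheme J) t

/-- The inclusion of ideal sheaves, as a morphism of modules. -/
noncomputable def incl : ClSub.idealMod I ⟶ ClSub.idealMod J :=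
  kernel.lift (ClSub.toSubscheme J) (ClSub.idealModι I) (incl_w hIJ)

theorem incl_ι : incl hIJ ≫ ClSub.idealModι J = ClSub.idealModι I :=
  kernel.lift_ι _ _ _

theorem idealSect_incl (W : X.Opens) (n : Γ(ClSub.idealMod I, W)) :
    OmegaSh.idealSect J W ((incl hIJ).app W n) = OmegaSh.idealSect I W n := by
  have h1 : (ClSub.idealModι J).app W ((incl hIJ).app W n) = (ClSub.idealModι I).app W n :=
    Groth.Agent.Lib.ConeSP.app_congr (incl_ι hIJ) W n
  rw [OmegaSh.idealSect_apply, OmegaSh.idealSect_apply, h1]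

end Incl

section Phi

variable {X Y Z : Scheme.{u}} (i : Y ⟶ X) (j : Z ⟶ Y)

/-- Sections of the ideal of `Y` over `W`, viewed in the ideal of `Z` and then in the conormal
sheaf of `Z` in `X`. -/
noncomputable def gam : ClSub.idealMod i.ker ⟶
    (Scheme.Modules.pushforward i).obj
      ((Scheme.Modules.pushforward j).obj (Omega.conormal (j ≫ i))) :=
  incl (Scheme.Hom.le_ker_comp j i) ≫
    (((Scheme.Modules.pullbackPushforwardAdjunction (j ≫ i)).unit.app
        (ClSub.idealMod (j ≫ i).ker) :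
      ClSub.idealMod (j ≫ i).ker ⟶
        (Scheme.Modules.pushforward (j ≫ i)).obj (Omega.conormal (j ≫ i))) ≫
      ((Scheme.Modules.pushforwardComp j i).inv.app (Omega.conormal (j ≫ i)) :
        (Scheme.Modules.pushforward (j ≫ i)).obj (Omega.conormal (j ≫ i)) ⟶
          (Scheme.Modules.pushforward i).obj
            ((Scheme.Modules.pushforward j).obj (Omega.conormal (j ≫ i)))))

theorem gam_app (W : X.Opens) (n : Γ(ClSub.idealMod i.ker, W)) :
    (gam i j).app W n =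
      OmegaSh.conormalSect (j ≫ i) W ((incl (Scheme.Hom.le_ker_comp j i)).app W n) := rfl

noncomputable def bet :
    Omega.conormal i ⟶ (Scheme.Modules.pushforward j).obj (Omega.conormal (j ≫ i)) :=
  ((Scheme.Modules.pullbackPushforwardAdjunction i).homEquiv (ClSub.idealMod i.ker)
    ((Scheme.Modules.pushforward j).obj (Omega.conormal (j ≫ i)))).symm (gam i j)

/-- The conormal map `j^* C_{Y/X} → C_{Z/X}`. -/
noncomputable def phi1 :
    (Scheme.Modules.pullback j).obj (Omega.conormal i) ⟶ Omega.conormal (j ≫ i) :=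
  ((Scheme.Modules.pullbackPushforwardAdjunction j).homEquiv (Omega.conormal i)
    (Omega.conormal (j ≫ i))).symm (bet i j)

theorem phi1_sect (W : X.Opens) (n : Γ(ClSub.idealMod i.ker, W)) :
    (phi1 i j).app (j ⁻¹ᵁ (i ⁻¹ᵁ W))
      (OmegaSh.pullSect j (Omega.conormal i) (i ⁻¹ᵁ W) (OmegaSh.conormalSect i W n)) =
    OmegaSh.conormalSect (j ≫ i) W ((incl (Scheme.Hom.le_ker_comp j i)).app W n) := by
  have h1 := Groth.Agent.Lib.OmegaFunctH4.app_pullSect j (phi1 i j) (i ⁻¹ᵁ W)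
    (OmegaSh.conormalSect i W n)
  have h2 : ((Scheme.Modules.pullbackPushforwardAdjunction j).homEquiv (Omega.conormal i)
      (Omega.conormal (j ≫ i))) (phi1 i j) = bet i j := Equiv.apply_symm_apply _ _
  have h3 := Groth.Agent.Lib.OmegaFunctH4.app_pullSect i (Ω := ClSub.idealMod i.ker)
    (Ω' := (Scheme.Modules.pushforward j).obj (Omega.conormal (j ≫ i))) (bet i j) W n
  have h4 : ((Scheme.Modules.pullbackPushforwardAdjunction i).homEquiv (ClSub.idealMod i.ker)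
      ((Scheme.Modules.pushforward j).obj (Omega.conormal (j ≫ i)))) (bet i j) = gam i j :=
    Equiv.apply_symm_apply _ _
  rw [h2] at h1
  rw [h4] at h3
  exact h1.trans (h3.trans (gam_app i j W n))

theorem isConormalMap_phi1 : OmegaSh.IsConormalMap (j ≫ i) i (𝟙 X) j (phi1 i j) := by
  refine ⟨(Category.comp_id (j ≫ i)).symm, fun U' s' s hs V h₁ h₂ => ?_⟩
  have hid : ∀ x : Γ(X, U'), (𝟙 X : X ⟶ X).app U' x = x := fun x => by
    first
      | rfl
      | (simp only [Scheme.Hom.id_app]; rfl)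
  have e1 : OmegaSh.idealSect (j ≫ i).ker U' ((incl (Scheme.Hom.le_ker_comp j i)).app U' s') =
      OmegaSh.idealSect i.ker U' s' := idealSect_incl _ U' s'
  have hs2 : OmegaSh.idealSect (j ≫ i).ker U' s =
      OmegaSh.idealSect (j ≫ i).ker U' ((incl (Scheme.Hom.le_ker_comp j i)).app U' s') :=
    hs.trans ((hid _).trans e1.symm)
  have hs' : s = (incl (Scheme.Hom.le_ker_comp j i)).app U' s' :=
    TensH8.idealModι_injective (j ≫ i).ker U' hs2
  subst hs'
  exact congrArg (fun t => (Omega.conormal (j ≫ i)).presheaf.map (homOfLE h₁).op t)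
    (phi1_sect i j U' s')

/-- Existence of the conormal map for a factorisation `Z → Y → X`. -/
theorem exists_conormalMap (i₀ : Z ⟶ X) (h : j ≫ i = i₀) :
    ∃ φ : (Scheme.Modules.pullback j).obj (Omega.conormal i) ⟶ Omega.conormal i₀,
      OmegaSh.IsConormalMap i₀ i (𝟙 X) j φ := by
  subst h
  exact ⟨phi1 i j, isConormalMap_phi1 i j⟩

end Phi

section LemmaA

variable {X Y Z : Scheme.{u}} (i : Y ⟶ X) [IsClosedImmersion i] (j : Z ⟶ Y) [IsClosedImmersion j]

/-- Sections of `j^* C_{Y/X}` over `i₀⁻¹ W` are classes of sections of the ideal of `Y`. -/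
theorem lemmaA (i₀ : Z ⟶ X) [IsClosedImmersion i₀] (h : j ≫ i = i₀)
    (φ : (Scheme.Modules.pullback j).obj (Omega.conormal i) ⟶ Omega.conormal i₀)
    (hφ : OmegaSh.IsConormalMap i₀ i (𝟙 X) j φ) {W : X.Opens} (hW : IsAffineOpen W) :
    ∃ q : Γ(ClSub.idealMod i.ker, W) →
        Γ((Scheme.Modules.pullback j).obj (Omega.conormal i), i₀ ⁻¹ᵁ W),
      (∀ x, ∃ n, q n = x) ∧
      (∀ n, n ∈ i₀.ker.ideal ⟨W, hW⟩ •
          (⊤ : Submodule Γ(X, W) Γ(ClSub.idealMod i.ker, W)) → q n = 0) ∧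
      (∀ n n₀, OmegaSh.idealSect i₀.ker W n₀ = OmegaSh.idealSect i.ker W n →
        φ.app (i₀ ⁻¹ᵁ W) (q n) = ConormTransH7.cY i₀ W n₀) := by
  subst h
  have hV : IsAffineOpen (i ⁻¹ᵁ W) := hW.preimage i
  refine ⟨fun n => ConormTransH7.cP i j (i ⁻¹ᵁ W) (ConormTransH7.cY i W n), ?_, ?_, ?_⟩
  · intro x
    obtain ⟨y, rfl⟩ := ConormTransH7.cP_surj i j hV x
    obtain ⟨n, rfl⟩ := ConormTransH7.cY_surj i hW y
    exact ⟨n, rfl⟩
  · intro n hn
    have h5 : ConormTransH7.cY i W n ∈ j.ker.ideal ⟨i ⁻¹ᵁ W, hV⟩ •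
        (⊤ : Submodule Γ(Y, i ⁻¹ᵁ W) Γ(Omega.conormal i, i ⁻¹ᵁ W)) := by
      refine Submodule.smul_induction_on
        (p := fun n => ConormTransH7.cY i W n ∈ j.ker.ideal ⟨i ⁻¹ᵁ W, hV⟩ •
            (⊤ : Submodule Γ(Y, i ⁻¹ᵁ W) Γ(Omega.conormal i, i ⁻¹ᵁ W))) hn ?_ ?_
      · intro r hr m _
        show ConormTransH7.cY i W (r • m) ∈ _
        rw [ConormTransH7.cY_smul]
        exact Submodule.smul_mem_smul ((ConormTransH7.mem_K_iff i j hW r).mp hr)
          Submodule.mem_top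
      · intro a b ha hb
        show ConormTransH7.cY i W (a + b) ∈ _
        rw [ConormTransH7.cY_add]
        exact Submodule.add_mem _ ha hb
    exact ConormTransH7.cP_of_mem i j hV _ h5
  · intro n n₀ hc
    exact ConormTransH7.phi1_formula i j φ hφ W n n₀ hc

theorem cY_sum (W : X.Opens) {ι : Type} (s : Finset ι) (m : ι → Γ(ClSub.idealMod i.ker, W)) :
    ConormTransH7.cY i W (∑ l ∈ s, m l) = ∑ l ∈ s, ConormTransH7.cY i W (m l) := by
  classical
  induction s using Finset.induction_on with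
  | empty =>
    rw [Finset.sum_empty, Finset.sum_empty]
    exact cUV_zero i _ _
  | insert a s ha ih =>
    rw [Finset.sum_insert ha, Finset.sum_insert ha, ConormTransH7.cY_add, ih]

end LemmaA

theorem sum_app_apply {Z : Scheme.{u}} {M N : Z.Modules} {ι : Type} (s : Finset ι)
    (f : ι → (M ⟶ N)) (U : Z.Opens) (x : Γ(M, U)) :
    (∑ l ∈ s, f l).app U x = ∑ l ∈ s, (f l).app U x := by
  classical
  induction s using Finset.induction_on with
  | empty =>
    rw [Finset.sum_empty, Finset.sum_empty]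
    rfl
  | insert a s ha ih =>
    rw [Finset.sum_insert ha, Finset.sum_insert ha, ← ih]
    rfl

section Main

/-- The restricted conormal sheaves. -/
noncomputable abbrev MM {X Y : Scheme.{u}} {r : ℕ} {Xs : Fin r → Scheme.{u}}
    (j : ∀ l, Xs l ⟶ X) (g : ∀ l, Y ⟶ Xs l) : Fin r → Y.Modules :=
  fun l => (Scheme.Modules.pullback (g l)).obj (Omega.conormal (j l))

/-- Local generation data over an affine open `W` of `X`. -/
structure HasData {X Y : Scheme.{u}} {r : ℕ} {Xs : Fin r → Scheme.{u}} (j : ∀ l, Xs l ⟶ X)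
    (d : Fin r → ℕ) (i : Y ⟶ X) (W : X.Opens) (hW : IsAffineOpen W) : Prop where
  reg : ∃ rs : List Γ(X, W), rs.length = ∑ l, d l ∧ CAlgX.IsH1Regular rs.get ∧
    i.ker.ideal ⟨W, hW⟩ = Ideal.ofList rs
  gens : ∀ l, ∃ fs : List Γ(X, W), fs.length = d l ∧ (j l).ker.ideal ⟨W, hW⟩ = Ideal.ofList fs

/-- The basis of opens of `Y` on which sections are computed. -/
def PB {X Y : Scheme.{u}} {r : ℕ} {Xs : Fin r → Scheme.{u}} (j : ∀ l, Xs l ⟶ X)
    (d : Fin r → ℕ) (i : Y ⟶ X) (U : Y.Opens) : Prop :=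
  ∃ (W : X.Opens) (hW : IsAffineOpen W), U = i ⁻¹ᵁ W ∧ HasData j d i W hW

theorem basis {X Y : Scheme.{u}} {r : ℕ} {Xs : Fin r → Scheme.{u}} (j : ∀ l, Xs l ⟶ X)
    [∀ l, IsClosedImmersion (j l)] (d : Fin r → ℕ)
    (hj : ∀ l, RegImm.IsRegularImmersionOfCodim RegImm.Kind.koszul (d l) (j l))
    (i : Y ⟶ X) [IsClosedImmersion i] (g : ∀ l, Y ⟶ Xs l) (hg : ∀ l, g l ≫ j l = i)
    (hi : RegImm.IsRegularImmersionOfCodim RegImm.Kind.koszul (∑ l, d l) i)
    (O : Y.Opens) (y : Y) (hy : y ∈ O) : ∃ U : Y.Opens, PB j d i U ∧ y ∈ U ∧ U ≤ O := by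
  obtain ⟨OX, hOX, hOXeq⟩ := i.isEmbedding.isInducing.isOpen_iff.mp O.isOpen
  have hyOX : i y ∈ OX := by
    have h0 : y ∈ i ⁻¹' OX := by
      rw [hOXeq]
      exact hy
    exact h0
  obtain ⟨W₀, hyW₀, -, rs₀, hlen₀, hrs₀, hker₀⟩ := hi.2 y
  have hx : ∀ l, j l (g l y) = i y := fun l =>
    (Scheme.Hom.comp_apply (g l) (j l) y).symm.trans (by rw [hg l])
  choose Wl hyWl _hcl fs hlen _hfsK hker using fun l => (hj l).2 (g l y)
  let T : X.Opens := ⟨OX ∩ ⋂ l, ((Wl l).1 : Set X),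
    hOX.inter (isOpen_iInter_of_finite fun l => (Wl l).1.isOpen)⟩
  have hyT : i y ∈ T := by
    show i y ∈ OX ∩ ⋂ l, ((Wl l).1 : Set X)
    refine ⟨hyOX, Set.mem_iInter.mpr fun l => ?_⟩
    have h1 := hyWl l
    rw [hx l] at h1
    exact h1
  obtain ⟨a, haT, hya⟩ := W₀.2.exists_basicOpen_le (V := T) ⟨i y, hyT⟩ hyW₀
  have hW : IsAffineOpen (X.basicOpen a) := W₀.2.basicOpen a
  refine ⟨i ⁻¹ᵁ X.basicOpen a, ⟨X.basicOpen a, hW, rfl, ⟨?_, ?_⟩⟩, hya, ?_⟩
  · refine ⟨rs₀.map (X.presheaf.map (homOfLE (X.basicOpen_le a)).op).hom, ?_, ?_, ?_⟩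
    · rw [List.length_map]
      exact hlen₀
    · exact Groth.Agent.Lib.RegKindFlat.h1_map_of_flat _ (ConormTransH7.flat_res W₀.2 a) rs₀
        (Groth.Agent.Lib.KoszulLow.h1_of_koszulRegular rs₀ hrs₀)
    · have h1 := i.ker.map_ideal_basicOpen W₀ a
      have hK₀ : i.ker.ideal W₀ = Ideal.ofList rs₀ := by
        rw [Scheme.Hom.ker_apply]
        exact hker₀
      rw [hK₀, Ideal.map_ofList] at h1
      exact h1.symm
  · intro l
    have hle : X.basicOpen a ≤ (Wl l).1 := fun z hz => by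
      have h1 : z ∈ OX ∩ ⋂ l, ((Wl l).1 : Set X) := haT hz
      exact Set.mem_iInter.mp h1.2 l
    refine ⟨(fs l).map (X.presheaf.map (homOfLE hle).op).hom, ?_, ?_⟩
    · rw [List.length_map]
      exact hlen l
    · have h1 := (j l).ker.map_ideal (U := ⟨X.basicOpen a, hW⟩) (V := Wl l) hle
      have hK : (j l).ker.ideal (Wl l) = Ideal.ofList (fs l) := by
        rw [Scheme.Hom.ker_apply]
        exact hker l
      rw [hK, Ideal.map_ofList] at h1
      exact h1.symm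
  · intro z hz
    have h1 : i z ∈ OX ∩ ⋂ l, ((Wl l).1 : Set X) := haT hz
    have h2 : z ∈ i ⁻¹' OX := h1.1
    rw [hOXeq] at h2
    exact h2

theorem surj_sections {X Y : Scheme.{u}} {r : ℕ} {Xs : Fin r → Scheme.{u}} (j : ∀ l, Xs l ⟶ X)
    [∀ l, IsClosedImmersion (j l)] (i : Y ⟶ X) [IsClosedImmersion i]
    (hY : ∀ U : X.affineOpens, i.ker.ideal U = ⨆ l, (j l).ker.ideal U)
    (g : ∀ l, Y ⟶ Xs l) [∀ l, IsClosedImmersion (g l)] (hg : ∀ l, g l ≫ j l = i)
    (ψ : ∀ l, MM j g l ⟶ Omega.conormal i)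
    (hψ : ∀ l, OmegaSh.IsConormalMap i (j l) (𝟙 X) (g l) (ψ l))
    {W : X.Opens} (hW : IsAffineOpen W) (y : Γ(Omega.conormal i, i ⁻¹ᵁ W)) :
    ∃ x : Γ((⨁ MM j g), i ⁻¹ᵁ W), (biproduct.desc ψ).app (i ⁻¹ᵁ W) x = y := by
  classical
  choose q _hq1 _hq2 hq3 using fun l => lemmaA (j l) (g l) i (hg l) (ψ l) (hψ l) hW
  obtain ⟨n₀, rfl⟩ := ConormTransH7.cY_surj i hW y
  have hmem : OmegaSh.idealSect i.ker W n₀ ∈ i.ker.ideal ⟨W, hW⟩ :=
    TensH8.idealModι_mem i.ker hW n₀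
  rw [hY ⟨W, hW⟩] at hmem
  obtain ⟨s, hs, hsum⟩ := exists_sum_of_mem_iSup (fun l => (j l).ker.ideal ⟨W, hW⟩) _ hmem
  have hJI : ∀ l, (j l).ker.ideal ⟨W, hW⟩ ≤ i.ker.ideal ⟨W, hW⟩ := fun l => by
    rw [hY ⟨W, hW⟩]
    exact le_iSup (fun l => (j l).ker.ideal ⟨W, hW⟩) l
  choose n hn using fun l => TensH8.exists_idealMod_section (j l).ker hW (s l) (hs l)
  choose m hm using fun l => TensH8.exists_idealMod_section i.ker hW (s l) (hJI l (hs l))
  have hn₀ : n₀ = ∑ l, m l := by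
    apply TensH8.idealModι_injective i.ker W
    have h1 : OmegaSh.idealSect i.ker W (∑ l, m l) = ∑ l, s l := by
      rw [map_sum]
      exact Finset.sum_congr rfl (fun l _ => hm l)
    exact hsum.symm.trans h1.symm
  refine ⟨∑ l, (biproduct.ι (MM j g) l).app (i ⁻¹ᵁ W) (q l (n l)), ?_⟩
  rw [map_sum, hn₀, cY_sum]
  refine Finset.sum_congr rfl (fun l _ => ?_)
  have h1 : (biproduct.desc ψ).app (i ⁻¹ᵁ W)
      ((biproduct.ι (MM j g) l).app (i ⁻¹ᵁ W) (q l (n l))) =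
      (ψ l).app (i ⁻¹ᵁ W) (q l (n l)) :=
    Groth.Agent.Lib.ConeSP.app_congr (biproduct.ι_desc ψ l) (i ⁻¹ᵁ W) _
  exact h1.trans (hq3 l (n l) (m l) ((hm l).trans (hn l).symm))

theorem inj_sections {X Y : Scheme.{u}} {r : ℕ} {Xs : Fin r → Scheme.{u}} (j : ∀ l, Xs l ⟶ X)
    [∀ l, IsClosedImmersion (j l)] (d : Fin r → ℕ) (i : Y ⟶ X) [IsClosedImmersion i]
    (hY : ∀ U : X.affineOpens, i.ker.ideal U = ⨆ l, (j l).ker.ideal U)
    (g : ∀ l, Y ⟶ Xs l) [∀ l, IsClosedImmersion (g l)] (hg : ∀ l, g l ≫ j l = i)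
    (ψ : ∀ l, MM j g l ⟶ Omega.conormal i)
    (hψ : ∀ l, OmegaSh.IsConormalMap i (j l) (𝟙 X) (g l) (ψ l))
    {W : X.Opens} (hW : IsAffineOpen W) (hD : HasData j d i W hW)
    (x : Γ((⨁ MM j g), i ⁻¹ᵁ W)) (hx : (biproduct.desc ψ).app (i ⁻¹ᵁ W) x = 0) : x = 0 := by
  classical
  obtain ⟨⟨rs, hlen, hrs, hIrs⟩, hgens⟩ := hD
  choose fs hfslen hfs using hgens
  choose q hq1 hq2 hq3 using fun l => lemmaA (j l) (g l) i (hg l) (ψ l) (hψ l) hW
  have hdec : x = ∑ l, (biproduct.ι (MM j g) l).app (i ⁻¹ᵁ W)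
      ((biproduct.π (MM j g) l).app (i ⁻¹ᵁ W) x) := by
    have h2 := sum_app_apply Finset.univ
      (fun l => biproduct.π (MM j g) l ≫ biproduct.ι (MM j g) l) (i ⁻¹ᵁ W) x
    rw [biproduct.total] at h2
    exact h2
  choose n hn using fun l => hq1 l ((biproduct.π (MM j g) l).app (i ⁻¹ᵁ W) x)
  have hnJ : ∀ l, OmegaSh.idealSect (j l).ker W (n l) ∈ (j l).ker.ideal ⟨W, hW⟩ := fun l =>
    TensH8.idealModι_mem (j l).ker hW (n l)
  have hJI : ∀ l, (j l).ker.ideal ⟨W, hW⟩ ≤ i.ker.ideal ⟨W, hW⟩ := fun l => by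
    rw [hY ⟨W, hW⟩]
    exact le_iSup (fun l => (j l).ker.ideal ⟨W, hW⟩) l
  choose m hm using fun l => TensH8.exists_idealMod_section i.ker hW _ (hJI l (hnJ l))
  have hΨ : ∀ l, (biproduct.desc ψ).app (i ⁻¹ᵁ W) ((biproduct.ι (MM j g) l).app (i ⁻¹ᵁ W)
      ((biproduct.π (MM j g) l).app (i ⁻¹ᵁ W) x)) = ConormTransH7.cY i W (m l) := by
    intro l
    have h1 : (biproduct.desc ψ).app (i ⁻¹ᵁ W) ((biproduct.ι (MM j g) l).app (i ⁻¹ᵁ W)
        ((biproduct.π (MM j g) l).app (i ⁻¹ᵁ W) x)) =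
        (ψ l).app (i ⁻¹ᵁ W) ((biproduct.π (MM j g) l).app (i ⁻¹ᵁ W) x) :=
      Groth.Agent.Lib.ConeSP.app_congr (biproduct.ι_desc ψ l) (i ⁻¹ᵁ W) _
    rw [h1, ← hn l]
    exact hq3 l (n l) (m l) (hm l)
  have hΨx : (biproduct.desc ψ).app (i ⁻¹ᵁ W) x = ∑ l, ConormTransH7.cY i W (m l) := by
    have h1 : (biproduct.desc ψ).app (i ⁻¹ᵁ W) x = (biproduct.desc ψ).app (i ⁻¹ᵁ W)
        (∑ l, (biproduct.ι (MM j g) l).app (i ⁻¹ᵁ W)
          ((biproduct.π (MM j g) l).app (i ⁻¹ᵁ W) x)) :=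
      congrArg (fun t => (biproduct.desc ψ).app (i ⁻¹ᵁ W) t) hdec
    rw [h1, map_sum]
    exact Finset.sum_congr rfl (fun l _ => hΨ l)
  have h0 : ConormTransH7.cY i W (∑ l, m l) = 0 := by
    rw [cY_sum]
    exact hΨx.symm.trans hx
  have h1 := ConormTransH7.cJ_eq_zero i hW (∑ l, m l) h0
  have h2 := (ConormTransH7.mem_smul_top_iff i.ker hW _ (∑ l, m l)).mp h1
  have h3 : OmegaSh.idealSect i.ker W (∑ l, m l) =
      ∑ l, OmegaSh.idealSect (j l).ker W (n l) := by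
    rw [map_sum]
    exact Finset.sum_congr rfl (fun l _ => hm l)
  rw [h3] at h2
  have h4 := mem_mul_of_sum_mem_sq (fun l => (j l).ker.ideal ⟨W, hW⟩) (i.ker.ideal ⟨W, hW⟩)
    (hY ⟨W, hW⟩) fs hfs rs
    (hlen.trans (Finset.sum_congr rfl (fun l _ => (hfslen l).symm))) hrs hIrs
    (fun l => OmegaSh.idealSect (j l).ker W (n l)) hnJ h2
  have h5 : ∀ l, n l ∈ i.ker.ideal ⟨W, hW⟩ •
      (⊤ : Submodule Γ(X, W) Γ(ClSub.idealMod (j l).ker, W)) := fun l =>
    (ConormTransH7.mem_smul_top_iff (j l).ker hW _ (n l)).mpr (h4 l)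
  have h6 : ∀ l, (biproduct.π (MM j g) l).app (i ⁻¹ᵁ W) x = 0 := fun l =>
    (hn l).symm.trans (hq2 l (n l) (h5 l))
  refine hdec.trans (Finset.sum_eq_zero (fun l _ => ?_))
  rw [h6 l, map_zero]

theorem main7781 (X Y : Scheme.{u}) (r : ℕ) (Xs : Fin r → Scheme.{u}) (j : ∀ l, Xs l ⟶ X)
    [∀ l, IsClosedImmersion (j l)] (d : Fin r → ℕ)
    (hj : ∀ l, RegImm.IsRegularImmersionOfCodim RegImm.Kind.koszul (d l) (j l))
    (i : Y ⟶ X) [IsClosedImmersion i]
    (hY : ∀ U : X.affineOpens, i.ker.ideal U = ⨆ l, (j l).ker.ideal U)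
    (g : ∀ l, Y ⟶ Xs l) (hg : ∀ l, g l ≫ j l = i)
    (hi : RegImm.IsRegularImmersionOfCodim RegImm.Kind.koszul (∑ l, d l) i) :
    Nonempty (Omega.conormal i ≅
      ∐ fun l => (Scheme.Modules.pullback (g l)).obj (Omega.conormal (j l))) := by
  haveI hgc : ∀ l, IsClosedImmersion (g l) := fun l => by
    haveI : IsClosedImmersion (g l ≫ j l) := by
      rw [hg l]
      infer_instance
    exact IsClosedImmersion.of_comp_isClosedImmersion (g l) (j l)
  choose ψ hψ using fun l => exists_conormalMap (j l) (g l) i (hg l)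
  have hb := basis j d hj i g hg hi
  haveI hmono : Mono (biproduct.desc ψ) := by
    refine mono_of_injective_basis (biproduct.desc ψ) (PB j d i) hb (fun U hU => ?_)
    obtain ⟨W, hW, rfl, hD⟩ := hU
    intro s t hst
    have h0 : (biproduct.desc ψ).app (i ⁻¹ᵁ W) (s - t) = 0 := by
      rw [map_sub, hst, sub_self]
    exact sub_eq_zero.mp (inj_sections j d i hY g hg ψ hψ hW hD _ h0)
  haveI hepi : Epi (biproduct.desc ψ) := by
    refine epi_of_surjective_basis (biproduct.desc ψ) (PB j d i) hb (fun U hU y => ?_)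
    obtain ⟨W, hW, rfl, -⟩ := hU
    exact surj_sections j i hY g hg ψ hψ hW y
  haveI : IsIso (biproduct.desc ψ) := isIso_of_mono_of_epi _
  exact ⟨(asIso (biproduct.desc ψ)).symm ≪≫ biproduct.isoCoproduct _⟩

end Main

end Groth.Agent.Lib.ConormSumH7
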