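import Mathlib

set_option autoImplicit false
universe u
open TensorProduct KaehlerDifferential

namespace Groth.Agent.Lib.ConormalExact

section
variable (A B C : Type u) [CommRing A] [CommRing B] [CommRing C] [Algebra A B] [Algebra B C]
  [Algebra A C] [IsScalarTower A B C]

abbrev JJ : Ideal B := RingHom.ker (algebraMap B C)
abbrev II : Ideal A := RingHom.ker (algebraMap A C)

theorem kill (j : B) (hj : j ∈ JJ B C) (z : (JJ B C).Cotangent) : j • z = 0 := by
  obtain ⟨⟨t, ht⟩, rfl⟩ := Ideal.toCotangent_surjective (JJ B C) z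
  rw [← map_smul, Ideal.toCotangent_eq_zero]
  show j * t ∈ (JJ B C) ^ 2
  rw [pow_two]
  exact Ideal.mul_mem_mul hj ht

theorem sub_mem {a : A} {b : B} (hab : algebraMap A C a = algebraMap B C b) :
    b - algebraMap A B a ∈ JJ B C := by
  rw [RingHom.mem_ker, map_sub, ← IsScalarTower.algebraMap_apply, hab, sub_self]

theorem omega_mem (M : Type u) [AddCommGroup M] [Module B M]
    (hBC : Function.Surjective (algebraMap B C)) (ω : M)
    (hω : (1 : C) ⊗ₜ[B] ω = 0) : ω ∈ (JJ B C) • (⊤ : Submodule B M) := by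
  have hsurj : Function.Surjective (Algebra.ofId B C) := hBC
  let e := (Ideal.quotientKerAlgEquivOfSurjective hsurj).toLinearEquiv
  have h1 : (LinearEquiv.rTensor M e)
      ((1 : B ⧸ RingHom.ker (Algebra.ofId B C)) ⊗ₜ[B] ω) = 0 := by
    rw [LinearEquiv.rTensor_tmul]
    have he1 : e 1 = 1 := map_one (Ideal.quotientKerAlgEquivOfSurjective hsurj)
    rw [he1, hω]
  have h2 : (1 : B ⧸ RingHom.ker (Algebra.ofId B C)) ⊗ₜ[B] ω = 0 :=
    (LinearEquiv.map_eq_zero_iff _).1 h1
  have h3 : ω ∈ LinearMap.ker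
      (TensorProduct.mk B (B ⧸ RingHom.ker (Algebra.ofId B C)) M 1) := h2
  rw [LinearMap.ker_tensorProductMk] at h3
  have hI : RingHom.ker (Algebra.ofId B C) = JJ B C := by
    ext x
    rw [RingHom.mem_ker, RingHom.mem_ker]
    rfl
  rwa [hI] at h3

variable (hAC : Function.Surjective (algebraMap A C))
  (h : II A C ≤ (JJ B C).comap (Algebra.ofId A B))

/-- The B-submodule of J/J² with carrier the range of mapCotangent. -/
def W : Submodule B (JJ B C).Cotangent where
  carrier := Set.range (Ideal.mapCotangent (II A C) (JJ B C) (Algebra.ofId A B) h)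
  add_mem' := by
    rintro _ _ ⟨x, rfl⟩ ⟨y, rfl⟩
    exact ⟨x + y, map_add _ _ _⟩
  zero_mem' := ⟨0, map_zero _⟩
  smul_mem' := by
    rintro b _ ⟨x, rfl⟩
    obtain ⟨a, ha⟩ := hAC (algebraMap B C b)
    refine ⟨a • x, ?_⟩
    rw [map_smul]
    have hk := kill B C (b - algebraMap A B a) (sub_mem A B C ha)
      (Ideal.mapCotangent (II A C) (JJ B C) (Algebra.ofId A B) h x)
    rw [sub_smul, sub_eq_zero, algebraMap_smul] at hk
    exact hk.symm

theorem mem_W (z : (JJ B C).Cotangent) : z ∈ W A B C hAC h ↔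
    ∃ x, Ideal.mapCotangent (II A C) (JJ B C) (Algebra.ofId A B) h x = z := Iff.rfl

noncomputable def lift (b : B) : A := (hAC (algebraMap B C b)).choose

theorem lift_spec (b : B) : algebraMap A C (lift A B C hAC b) = algebraMap B C b :=
  (hAC _).choose_spec

noncomputable def δ (b : B) : (JJ B C).Cotangent ⧸ W A B C hAC h :=
  (W A B C hAC h).mkQ ((JJ B C).toCotangent
    ⟨b - algebraMap A B (lift A B C hAC b), sub_mem A B C (lift_spec A B C hAC b)⟩)

theorem δ_eq (b : B) (a : A) (hab : algebraMap A C a = algebraMap B C b) :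
    δ A B C hAC h b = (W A B C hAC h).mkQ ((JJ B C).toCotangent
      ⟨b - algebraMap A B a, sub_mem A B C hab⟩) := by
  unfold δ
  rw [← sub_eq_zero, ← map_sub, ← map_sub, Submodule.mkQ_apply,
    Submodule.Quotient.mk_eq_zero, mem_W]
  refine ⟨(II A C).toCotangent ⟨a - lift A B C hAC b, ?_⟩, ?_⟩
  · rw [RingHom.mem_ker, map_sub, hab, lift_spec, sub_self]
  · rw [Ideal.mapCotangent_toCotangent]
    refine congrArg _ (Subtype.ext ?_)
    show Algebra.ofId A B (a - lift A B C hAC b)
      = (b - algebraMap A B (lift A B C hAC b)) - (b - algebraMap A B a)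
    rw [map_sub, Algebra.ofId_apply, Algebra.ofId_apply]
    ring

theorem δ_add (b b' : B) :
    δ A B C hAC h (b + b') = δ A B C hAC h b + δ A B C hAC h b' := by
  have hl1 := lift_spec A B C hAC b
  have hl2 := lift_spec A B C hAC b'
  have hab : algebraMap A C (lift A B C hAC b + lift A B C hAC b')
      = algebraMap B C (b + b') := by rw [map_add, map_add, hl1, hl2]
  rw [δ_eq A B C hAC h (b + b') _ hab, δ_eq A B C hAC h b _ hl1, δ_eq A B C hAC h b' _ hl2,
    ← map_add, ← map_add]
  refine congrArg _ (congrArg _ (Subtype.ext ?_))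
  show b + b' - algebraMap A B (lift A B C hAC b + lift A B C hAC b')
    = (b - algebraMap A B (lift A B C hAC b)) + (b' - algebraMap A B (lift A B C hAC b'))
  rw [map_add]; ring

theorem δ_alg (r : A) : δ A B C hAC h (algebraMap A B r) = 0 := by
  have hab : algebraMap A C r = algebraMap B C (algebraMap A B r) :=
    IsScalarTower.algebraMap_apply A B C r
  rw [δ_eq A B C hAC h _ r hab]
  have : (⟨algebraMap A B r - algebraMap A B r, sub_mem A B C hab⟩ : JJ B C) = 0 :=
    Subtype.ext (sub_self _)
  rw [this, map_zero, map_zero]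

theorem δ_mul (b b' : B) : δ A B C hAC h (b * b')
    = b • δ A B C hAC h b' + b' • δ A B C hAC h b := by
  have hl1 := lift_spec A B C hAC b
  have hl2 := lift_spec A B C hAC b'
  have hab : algebraMap A C (lift A B C hAC b * lift A B C hAC b')
      = algebraMap B C (b * b') := by rw [map_mul, map_mul, hl1, hl2]
  rw [δ_eq A B C hAC h (b * b') _ hab, δ_eq A B C hAC h b _ hl1, δ_eq A B C hAC h b' _ hl2]
  have hk : (b' - algebraMap A B (lift A B C hAC b')) • (W A B C hAC h).mkQ
      ((JJ B C).toCotangent ⟨b - algebraMap A B (lift A B C hAC b), sub_mem A B C hl1⟩) = 0 := by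
    rw [← map_smul, kill B C _ (sub_mem A B C hl2), map_zero]
  rw [sub_smul, sub_eq_zero] at hk
  rw [hk, ← map_smul, ← map_smul, ← map_smul, ← map_smul, ← map_add, ← map_add]
  refine congrArg _ (congrArg _ (Subtype.ext ?_))
  show b * b' - algebraMap A B (lift A B C hAC b * lift A B C hAC b')
    = b * (b' - algebraMap A B (lift A B C hAC b'))
      + algebraMap A B (lift A B C hAC b') * (b - algebraMap A B (lift A B C hAC b))
  rw [map_mul]; ring

noncomputable def δlin : B →ₗ[A] ((JJ B C).Cotangent ⧸ W A B C hAC h) where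
  toFun := δ A B C hAC h
  map_add' := δ_add A B C hAC h
  map_smul' r b := by
    show δ A B C hAC h (r • b) = r • δ A B C hAC h b
    rw [Algebra.smul_def, δ_mul, δ_alg, smul_zero, add_zero, algebraMap_smul]

noncomputable def der : Derivation A B ((JJ B C).Cotangent ⧸ W A B C hAC h) :=
  Derivation.mk' (δlin A B C hAC h) (fun b b' => δ_mul A B C hAC h b b')

theorem der_apply (b : B) : der A B C hAC h b = δ A B C hAC h b := rfl

theorem killN (j : B) (hj : j ∈ JJ B C) (n : (JJ B C).Cotangent ⧸ W A B C hAC h) :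
    j • n = 0 := by
  obtain ⟨z, rfl⟩ := Submodule.mkQ_surjective _ n
  rw [← map_smul, kill B C j hj, map_zero]

include hAC in
theorem main : Function.Exact
    (Ideal.mapCotangent (II A C) (JJ B C) (Algebra.ofId A B) h)
    (KaehlerDifferential.kerCotangentToTensor A B C) := by
  have hBC : Function.Surjective (algebraMap B C) := fun c => by
    obtain ⟨a, ha⟩ := hAC c
    exact ⟨algebraMap A B a, by rw [← IsScalarTower.algebraMap_apply]; exact ha⟩
  intro y
  constructor
  · intro hy
    obtain ⟨⟨j, hj⟩, rfl⟩ := Ideal.toCotangent_surjective (JJ B C) y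
    rw [kerCotangentToTensor_toCotangent] at hy
    have hmem : KaehlerDifferential.D A B j ∈ (JJ B C) • (⊤ : Submodule B (Ω[B⁄A])) :=
      omega_mem B C (Ω[B⁄A]) hBC _ hy
    have hψ : (der A B C hAC h).liftKaehlerDifferential (KaehlerDifferential.D A B j) = 0 := by
      refine Submodule.smul_induction_on hmem (fun r hr n _ => ?_) (fun x y hx hy => ?_)
      · rw [map_smul]; exact killN A B C hAC h r hr _
      · rw [map_add, hx, hy, add_zero]
    rw [Derivation.liftKaehlerDifferential_comp_D, der_apply] at hψ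
    have hj0 : algebraMap A C 0 = algebraMap B C j := by
      rw [map_zero]; exact (RingHom.mem_ker.1 hj).symm
    rw [δ_eq A B C hAC h j 0 hj0, Submodule.mkQ_apply, Submodule.Quotient.mk_eq_zero, mem_W] at hψ
    obtain ⟨x, hx⟩ := hψ
    refine ⟨x, hx.trans (congrArg _ (Subtype.ext ?_))⟩
    show j - algebraMap A B 0 = j
    rw [map_zero, sub_zero]
  · rintro ⟨x, rfl⟩
    obtain ⟨⟨a, ha⟩, rfl⟩ := Ideal.toCotangent_surjective _ x
    rw [Ideal.mapCotangent_toCotangent, kerCotangentToTensor_toCotangent]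
    show (1 : C) ⊗ₜ[B] KaehlerDifferential.D A B (Algebra.ofId A B a) = 0
    rw [Algebra.ofId_apply, Derivation.map_algebraMap, tmul_zero]

end

end Groth.Agent.Lib.ConormalExact
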