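import Mathlib

/-!
Helper library (helper1): left exactness of the conormal sequence of a square-zero extension with
projective kernel over a reduced, generically smooth algebra.  APPEND-ONLY once landed.
-/

set_option autoImplicit false

namespace Groth.Agent.Lib.ConormalInjH1

open Algebra TensorProduct KaehlerDifferential MvPolynomial

universe u

section

variable {B : Type u} [CommRing B]

theorem eq_zero_of_mem_minimalPrimes [IsReduced B] (b : B)
    (h : ∀ p ∈ minimalPrimes B, b ∈ p) : b = 0 := by
  have h1 : b ∈ sInf (minimalPrimes B) := by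
    rw [Submodule.mem_sInf]
    intro p hp
    exact h p hp
  have h2 : sInf (minimalPrimes B) = (⊥ : Ideal B).radical := Ideal.sInf_minimalPrimes
  rw [h2] at h1
  have h4 : b ∈ nilradical B := h1
  exact IsReduced.eq_zero _ (mem_nilradical.mp h4)

theorem eq_zero_of_forall_dual {N : Type*} [AddCommGroup N] [Module B N] [Module.Projective B N]
    (ξ : N) (h : ∀ l : N →ₗ[B] B, l ξ = 0) : ξ = 0 := by
  obtain ⟨s, hs⟩ := Module.projective_def'.mp (inferInstance : Module.Projective B N)
  have h1 : s ξ = 0 := by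
    ext n
    exact h (Finsupp.lapply n ∘ₗ s)
  have h2 := LinearMap.congr_fun hs ξ
  rw [LinearMap.comp_apply, h1, map_zero] at h2
  exact h2.symm

end

section

variable {A B : Type u} [CommRing A] [CommRing B] [Algebra A B]

/-- the comparison hom `E → E[∅]`. -/
noncomputable def gHom (P : Algebra.Extension.{u} A B) :
    P.Hom (Generators.ofSurjectiveAlgebraMap.{u, u, u} (R := P.Ring) (S := B)
      P.algebraMap_surjective).toExtension where
  toRingHom := (C : P.Ring →+* MvPolynomial PEmpty.{u + 1} P.Ring)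
  toRingHom_algebraMap x := rfl
  algebraMap_toRingHom x := by
    show MvPolynomial.aeval _ (C x) = _
    rw [MvPolynomial.aeval_C]
    rfl

theorem exists_smul_eq_zero (P : Algebra.Extension.{u} A B) (hsq : P.ker ^ 2 = ⊥)
    (ξ : P.Cotangent) (hξ : P.cotangentComplex ξ = 0) (p : Ideal B) [p.IsPrime]
    (hp : Algebra.IsSmoothAt A p) : ∃ s : p.primeCompl, (s : B) • ξ = 0 := by
  obtain ⟨x, rfl⟩ := Extension.Cotangent.mk_surjective ξ
  let Q : Generators P.Ring B PEmpty.{u + 1} :=
    Generators.ofSurjectiveAlgebraMap P.algebraMap_surjective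
  let P' : Generators A P.Ring P.Ring := Generators.self A P.Ring
  let W : Generators A B B := Generators.self A B
  let f : Generators.Hom W Q := Generators.defaultHom W Q
  have hCx : (C (x : P.Ring) : Q.Ring) ∈ Q.ker := by
    have hx : algebraMap P.Ring B x = 0 := RingHom.mem_ker.mp x.2
    rw [Generators.ker_eq_ker_aeval_val, RingHom.mem_ker, MvPolynomial.aeval_C]
    exact hx
  have hδ : Generators.H1Cotangent.δ Q P' ⟨Extension.Cotangent.mk ⟨C x.1, hCx⟩,
      Extension.Cotangent.mk_C_mem_ker_cotangentComplex Q hCx⟩ = 0 := by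
    rw [Generators.H1Cotangent.δ_C]
    rw [Extension.cotangentComplex_mk] at hξ
    exact hξ
  obtain ⟨η, hη⟩ := (Generators.H1Cotangent.exact_map_δ' Q P' W f _).mp hδ
  have hsub : Subsingleton (Algebra.H1Cotangent A (Localization.AtPrime p)) :=
    hp.subsingleton_h1Cotangent
  obtain ⟨s, hs⟩ := (IsLocalizedModule.eq_zero_iff p.primeCompl
    (Algebra.H1Cotangent.map A A B (Localization.AtPrime p))).mp
      (Subsingleton.elim (Algebra.H1Cotangent.map A A B (Localization.AtPrime p) η) 0)
  refine ⟨s, ?_⟩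
  have hs' : (s : B) • η = 0 := hs
  have h1 : (s : B) • (Extension.Cotangent.mk ⟨C x.1, hCx⟩ : Q.toExtension.Cotangent) = 0 := by
    have h2 : (s : B) • (Extension.H1Cotangent.map f.toExtensionHom η) =
        (s : B) • (⟨Extension.Cotangent.mk ⟨C x.1, hCx⟩,
          Extension.Cotangent.mk_C_mem_ker_cotangentComplex Q hCx⟩ : Q.toExtension.H1Cotangent) :=
      congrArg (fun z => (s : B) • z) hη
    rw [← map_smul, hs', map_zero] at h2
    exact (congrArg Subtype.val h2).symm
  -- transport back along `gHom`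
  have h3 : Extension.Cotangent.map (gHom P) ((s : B) • Extension.Cotangent.mk x) = 0 := by
    rw [map_smul]
    exact h1
  obtain ⟨y, hy⟩ := Extension.Cotangent.mk_surjective ((s : B) • Extension.Cotangent.mk x)
  rw [← hy] at h3 ⊢
  rw [Extension.Cotangent.map_mk, Extension.Cotangent.mk_eq_zero_iff] at h3
  have hy0 : (y : P.Ring) = 0 := by
    let e : MvPolynomial PEmpty.{u + 1} P.Ring →+* P.Ring :=
      (MvPolynomial.isEmptyAlgEquiv P.Ring PEmpty.{u + 1}).toAlgHom.toRingHom
    have hle : Q.ker ≤ P.ker.comap e := by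
      intro z hz
      rw [Generators.ker_eq_ker_aeval_val, RingHom.mem_ker] at hz
      rw [Ideal.mem_comap, Extension.ker, RingHom.mem_ker]
      rw [← hz]
      have hz2 : z = C (e z) := by
        apply (MvPolynomial.isEmptyAlgEquiv P.Ring PEmpty.{u + 1}).injective
        have h7 := (MvPolynomial.isEmptyAlgEquiv P.Ring PEmpty.{u + 1}).commutes (e z)
        exact h7.symm
      conv_rhs => rw [hz2]
      rw [MvPolynomial.aeval_C]
    have h4 : Q.ker ^ 2 ≤ (P.ker ^ 2).comap e :=
      (Ideal.pow_right_mono hle 2).trans (Ideal.le_comap_pow e 2)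
    have h5 : e (C (y : P.Ring)) ∈ P.ker ^ 2 := h4 h3
    rw [hsq, Ideal.mem_bot] at h5
    have h6 : e (C (y : P.Ring)) = (y : P.Ring) := by
      have h7 := (MvPolynomial.isEmptyAlgEquiv P.Ring PEmpty.{u + 1}).commutes (y : P.Ring)
      exact h7
    rw [← h6]
    exact h5
  have hy1 : y = 0 := Subtype.ext hy0
  rw [hy1, map_zero]

theorem cotangentComplex_injective [IsReduced B]
    (hsm : ∀ p : PrimeSpectrum B, p.asIdeal ∈ minimalPrimes B → Algebra.IsSmoothAt A p.asIdeal)
    (P : Algebra.Extension.{u} A B) (hsq : P.ker ^ 2 = ⊥) [Module.Projective B P.Cotangent] :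
    Function.Injective P.cotangentComplex := by
  rw [injective_iff_map_eq_zero]
  intro ξ hξ
  apply eq_zero_of_forall_dual (B := B)
  intro l
  apply eq_zero_of_mem_minimalPrimes
  intro p hp
  haveI : p.IsPrime := hp.1.1
  obtain ⟨s, hs⟩ := exists_smul_eq_zero P hsq ξ hξ p (hsm ⟨p, inferInstance⟩ hp)
  have h1 : (s : B) * l ξ = 0 := by
    rw [← smul_eq_mul, ← map_smul, hs, map_zero]
  have h2 : (s : B) * l ξ ∈ p := h1 ▸ p.zero_mem
  exact (Ideal.IsPrime.mem_or_mem inferInstance h2).resolve_left s.2

end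

end Groth.Agent.Lib.ConormalInjH1
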