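import Mathlib
import Groth.Agent.Lib.ConormalInj_helper1

/-!
Helper library (helper1): square-zero extensions of a reduced generically smooth algebra by a
projective module versus extensions of the module of differentials.  APPEND-ONLY once landed.
-/

set_option autoImplicit false

namespace Groth.Agent.Lib.ConormalExtH1

open Algebra TensorProduct KaehlerDifferential

universe u

section General

variable {A B : Type u} [CommRing A] [CommRing B] [Algebra A B]

/-- `x ↦ 1 ⊗ dx`. -/
noncomputable def dd (P : Algebra.Extension.{u} A B) : P.Ring →+ P.CotangentSpace where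
  toFun x := (1 : B) ⊗ₜ[P.Ring] D A P.Ring x
  map_zero' := by rw [map_zero, tmul_zero]
  map_add' x y := by rw [map_add, tmul_add]

variable (P : Algebra.Extension.{u} A B)

theorem dd_apply (x : P.Ring) : dd P x = (1 : B) ⊗ₜ[P.Ring] D A P.Ring x := rfl

theorem dd_mul (x y : P.Ring) :
    dd P (x * y) = algebraMap P.Ring B x • dd P y + algebraMap P.Ring B y • dd P x := by
  rw [dd_apply, dd_apply, dd_apply, Derivation.leibniz, tmul_add, tmul_smul, tmul_smul,
    algebraMap_smul, algebraMap_smul]

theorem dd_algebraMap (a : A) : dd P (algebraMap A P.Ring a) = 0 := by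
  rw [dd_apply, Derivation.map_algebraMap, tmul_zero]

theorem dd_one : dd P 1 = 0 := by
  rw [dd_apply, Derivation.map_one_eq_zero, tmul_zero]

theorem toKaehler_dd (x : P.Ring) : P.toKaehler (dd P x) = D A B (algebraMap P.Ring B x) := by
  rw [dd_apply]
  show mapBaseChange A P.Ring B _ = _
  rw [mapBaseChange_tmul, one_smul, map_D]

theorem cotangentComplex_mk' (x : P.ker) :
    P.cotangentComplex (Extension.Cotangent.mk x) = dd P x := rfl

theorem exists_of {b : B} {n : P.CotangentSpace} (h : P.toKaehler n = D A B b) :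
    ∃ x : P.Ring, algebraMap P.Ring B x = b ∧ dd P x = n := by
  have h1 : P.toKaehler (n - dd P (P.σ b)) = 0 := by
    rw [map_sub, toKaehler_dd, P.algebraMap_σ, h, sub_self]
  obtain ⟨c, hc⟩ := (P.exact_cotangentComplex_toKaehler _).mp h1
  obtain ⟨y, rfl⟩ := Extension.Cotangent.mk_surjective c
  refine ⟨P.σ b + y, ?_, ?_⟩
  · rw [map_add, P.algebraMap_σ, (RingHom.mem_ker.mp y.2 : algebraMap P.Ring B y = 0), add_zero]
  · rw [map_add, ← cotangentComplex_mk', hc]
    abel

/-- square-zero with injective conormal map. -/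
structure Good : Prop where
  sq : P.ker ^ 2 = ⊥
  inj : Function.Injective P.cotangentComplex

variable {P}

theorem Good.eq_zero_of (hP : Good P) {x : P.Ring} (h1 : algebraMap P.Ring B x = 0)
    (h2 : dd P x = 0) : x = 0 := by
  have hx : x ∈ P.ker := RingHom.mem_ker.mpr h1
  have h3 : P.cotangentComplex (Extension.Cotangent.mk ⟨x, hx⟩) = 0 := h2
  have h4 : Extension.Cotangent.mk (⟨x, hx⟩ : P.ker) = 0 :=
    hP.inj (h3.trans (map_zero _).symm)
  rw [Extension.Cotangent.mk_eq_zero_iff, hP.sq, Ideal.mem_bot] at h4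
  exact h4

theorem Good.eq_of (hP : Good P) {x y : P.Ring}
    (h1 : algebraMap P.Ring B x = algebraMap P.Ring B y) (h2 : dd P x = dd P y) : x = y := by
  have := hP.eq_zero_of (x := x - y) (by rw [map_sub, h1, sub_self])
    (by rw [map_sub, h2, sub_self])
  exact sub_eq_zero.mp this

theorem exists_hom_of_iso {P P' : Algebra.Extension.{u} A B} (hP : Good P) (hP' : Good P')
    (e₁ : P.Cotangent ≃ₗ[B] P'.Cotangent) (e₂ : P.CotangentSpace ≃ₗ[B] P'.CotangentSpace)
    (h₁ : ∀ x, e₂ (P.cotangentComplex x) = P'.cotangentComplex (e₁ x))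
    (h₂ : ∀ y, P'.toKaehler (e₂ y) = P.toKaehler y) :
    ∃ f : P.Hom P', Function.Bijective f.toRingHom ∧
      Algebra.Extension.Cotangent.map f = e₁.toLinearMap := by
  have hex : ∀ x : P.Ring, ∃ x' : P'.Ring,
      algebraMap P'.Ring B x' = algebraMap P.Ring B x ∧ dd P' x' = e₂ (dd P x) := by
    intro x
    exact exists_of P' (by rw [h₂, toKaehler_dd])
  choose F hF1 hF2 using hex
  have hU : ∀ (x : P.Ring) (x' : P'.Ring), algebraMap P'.Ring B x' = algebraMap P.Ring B x →
      dd P' x' = e₂ (dd P x) → x' = F x := by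
    intro x x' h1 h2
    exact hP'.eq_of (h1.trans (hF1 x).symm) (h2.trans (hF2 x).symm)
  let f : P.Ring →+* P'.Ring :=
    { toFun := F
      map_one' := (hU 1 1 (by rw [map_one, map_one]) (by rw [dd_one, dd_one, map_zero])).symm
      map_mul' := fun x y => (hU (x * y) (F x * F y) (by rw [map_mul, map_mul, hF1, hF1])
        (by rw [dd_mul, dd_mul, map_add, map_smul, map_smul, hF1, hF1, hF2, hF2])).symm
      map_zero' := (hU 0 0 (by rw [map_zero, map_zero])
        (by rw [map_zero, map_zero, map_zero])).symm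
      map_add' := fun x y => (hU (x + y) (F x + F y) (by rw [map_add, map_add, hF1, hF1])
        (by rw [map_add, map_add, map_add, hF2, hF2])).symm }
  have hfa : ∀ a : A, f (algebraMap A P.Ring a) = algebraMap A P'.Ring a := by
    intro a
    refine (hU _ _ ?_ ?_).symm
    · rw [← IsScalarTower.algebraMap_apply, ← IsScalarTower.algebraMap_apply]
    · rw [dd_algebraMap, dd_algebraMap, map_zero]
  let g : P.Hom P' :=
    { toRingHom := f
      toRingHom_algebraMap := fun a => hfa a
      algebraMap_toRingHom := fun x => hF1 x }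
  refine ⟨g, ⟨?_, ?_⟩, ?_⟩
  · show Function.Injective f
    rw [injective_iff_map_eq_zero]
    intro x hx
    have hx' : F x = 0 := hx
    apply hP.eq_zero_of
    · rw [← hF1, hx', map_zero]
    · apply e₂.injective
      rw [← hF2, hx', map_zero, map_zero]
  · intro x'
    obtain ⟨x, hx1, hx2⟩ := exists_of P (b := algebraMap P'.Ring B x')
      (n := e₂.symm (dd P' x')) (by rw [← h₂, e₂.apply_symm_apply, toKaehler_dd])
    refine ⟨x, (hU x x' hx1.symm ?_).symm⟩
    rw [hx2, e₂.apply_symm_apply]
  · apply LinearMap.ext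
    intro c
    obtain ⟨x, rfl⟩ := Extension.Cotangent.mk_surjective c
    apply hP'.inj
    rw [Extension.Cotangent.map_mk, cotangentComplex_mk']
    show dd P' (F x) = _
    rw [hF2, ← cotangentComplex_mk', h₁]
    rfl

/-- maps out of the cotangent space are determined on the `1 ⊗ dx`. -/
theorem cotSpace_hom_ext {N' : Type*} [AddCommGroup N'] [Module B N']
    (g g' : P.CotangentSpace →ₗ[B] N') (h : ∀ x, g (dd P x) = g' (dd P x)) (y : P.CotangentSpace) :
    g y = g' y := by
  have key : ∀ ω : Ω[P.Ring⁄A], g ((1 : B) ⊗ₜ[P.Ring] ω) = g' ((1 : B) ⊗ₜ[P.Ring] ω) := by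
    intro ω
    have hω : ω ∈ Submodule.span P.Ring (Set.range (D A P.Ring)) := by
      rw [KaehlerDifferential.span_range_derivation]
      trivial
    induction hω using Submodule.span_induction with
    | mem _ hz =>
      obtain ⟨x, rfl⟩ := hz
      exact h x
    | zero => rw [tmul_zero, map_zero, map_zero]
    | add _ _ _ _ h1 h2 => rw [tmul_add, map_add, map_add, h1, h2]
    | smul r _ _ h1 =>
      rw [tmul_smul, ← algebraMap_smul B r, map_smul, map_smul, h1]
  induction y using TensorProduct.induction_on with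
  | zero => rw [map_zero, map_zero]
  | add a b ha hb => rw [map_add, map_add, ha, hb]
  | tmul b ω =>
    have e : (b ⊗ₜ[P.Ring] ω : P.CotangentSpace) = b • ((1 : B) ⊗ₜ[P.Ring] ω) := by
      rw [smul_tmul', smul_eq_mul, mul_one]
    rw [e, map_smul, map_smul, key]

end General

section Build

/-- the action of the opposite ring. -/
abbrev opModule (C L : Type u) [CommRing C] [AddCommGroup L] [Module C L] : Module Cᵐᵒᵖ L :=
  Module.compHom L (RingEquiv.toOpposite C).symm.toRingHom

attribute [local instance] opModule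

theorem isCentralScalar_opModule (C L : Type u) [CommRing C] [AddCommGroup L] [Module C L] :
    IsCentralScalar C L := ⟨fun _ _ => rfl⟩

attribute [local instance] isCentralScalar_opModule

variable {A B : Type u} [CommRing A] [CommRing B] [Algebra A B]
variable {M N : Type u} [AddCommGroup M] [Module B M] [AddCommGroup N] [Module B N]
variable (i : M →ₗ[B] N) (q : N →ₗ[B] Ω[B⁄A])

/-- the fibre product ring `B ×_Ω N`. -/
def ESub : Subring (TrivSqZeroExt B N) where
  carrier := {x | D A B x.fst = q x.snd}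
  mul_mem' := by
    intro x y hx hy
    simp only [Set.mem_ofPred_eq] at hx hy ⊢
    rw [TrivSqZeroExt.fst_mul, TrivSqZeroExt.snd_mul, Derivation.leibniz, map_add, map_smul,
      op_smul_eq_smul, map_smul, hx, hy]
  one_mem' := by
    simp only [Set.mem_ofPred_eq]
    rw [TrivSqZeroExt.fst_one, TrivSqZeroExt.snd_one, Derivation.map_one_eq_zero, map_zero]
  add_mem' := by
    intro x y hx hy
    simp only [Set.mem_ofPred_eq] at hx hy ⊢
    rw [TrivSqZeroExt.fst_add, TrivSqZeroExt.snd_add, map_add, map_add, hx, hy]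
  zero_mem' := by
    simp only [Set.mem_ofPred_eq]
    rw [TrivSqZeroExt.fst_zero, TrivSqZeroExt.snd_zero, map_zero, map_zero]
  neg_mem' := by
    intro x hx
    simp only [Set.mem_ofPred_eq] at hx ⊢
    rw [TrivSqZeroExt.fst_neg, TrivSqZeroExt.snd_neg, map_neg, map_neg, hx]

theorem mem_ESub (x : TrivSqZeroExt B N) : x ∈ ESub (A := A) q ↔ D A B x.fst = q x.snd := Iff.rfl

/-- `A → E`. -/
noncomputable def algMapE : A →+* ESub (A := A) q :=
  ((TrivSqZeroExt.inlHom B N).comp (algebraMap A B)).codRestrict (ESub q) (fun a => by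
    show D A B (TrivSqZeroExt.inl (algebraMap A B a) : TrivSqZeroExt B N).fst =
      q (TrivSqZeroExt.inl (algebraMap A B a) : TrivSqZeroExt B N).snd
    rw [TrivSqZeroExt.fst_inl, TrivSqZeroExt.snd_inl, Derivation.map_algebraMap, map_zero])

noncomputable instance : Algebra A (ESub (A := A) q) := (algMapE q).toAlgebra

/-- the projection `E → B`. -/
noncomputable def piE : ESub (A := A) q →ₐ[A] B where
  toFun x := x.1.fst
  map_one' := TrivSqZeroExt.fst_one
  map_mul' x y := TrivSqZeroExt.fst_mul _ _
  map_zero' := TrivSqZeroExt.fst_zero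
  map_add' x y := TrivSqZeroExt.fst_add _ _
  commutes' a := rfl

theorem piE_surjective (hq : Function.Surjective q) : Function.Surjective (piE (A := A) q) := by
  intro b
  obtain ⟨n, hn⟩ := hq (D A B b)
  refine ⟨⟨TrivSqZeroExt.inl b + TrivSqZeroExt.inr n, ?_⟩, ?_⟩
  · show D A B (TrivSqZeroExt.inl b + TrivSqZeroExt.inr n : TrivSqZeroExt B N).fst =
      q (TrivSqZeroExt.inl b + TrivSqZeroExt.inr n : TrivSqZeroExt B N).snd
    rw [TrivSqZeroExt.fst_add, TrivSqZeroExt.snd_add, TrivSqZeroExt.fst_inl,
      TrivSqZeroExt.fst_inr, TrivSqZeroExt.snd_inl, TrivSqZeroExt.snd_inr, add_zero, zero_add, hn]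
  · show (TrivSqZeroExt.inl b + TrivSqZeroExt.inr n : TrivSqZeroExt B N).fst = b
    rw [TrivSqZeroExt.fst_add, TrivSqZeroExt.fst_inl, TrivSqZeroExt.fst_inr, add_zero]

variable (hq : Function.Surjective q)

/-- the extension `E → B`. -/
noncomputable def extP : Algebra.Extension.{u} A B :=
  Extension.ofSurjective (piE (A := A) q) (piE_surjective q hq)

/-- underlying element of the trivial extension. -/
def toE (x : (extP q hq).Ring) : TrivSqZeroExt B N := (x : ESub (A := A) q).1

/-- build an element of `E`. -/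
def mkE (z : TrivSqZeroExt B N) (hz : D A B z.fst = q z.snd) : (extP q hq).Ring :=
  (⟨z, (mem_ESub q z).mpr hz⟩ : ESub (A := A) q)

theorem toE_mkE (z : TrivSqZeroExt B N) (hz : D A B z.fst = q z.snd) :
    toE q hq (mkE q hq z hz) = z := rfl

theorem toE_injective : Function.Injective (toE q hq) := fun _ _ h => Subtype.ext h

theorem toE_mem (x : (extP q hq).Ring) : D A B (toE q hq x).fst = q (toE q hq x).snd :=
  (x : ESub (A := A) q).2

theorem toE_mul (x y : (extP q hq).Ring) : toE q hq (x * y) = toE q hq x * toE q hq y := rfl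

theorem toE_add (x y : (extP q hq).Ring) : toE q hq (x + y) = toE q hq x + toE q hq y := rfl

theorem toE_zero : toE q hq 0 = 0 := rfl

theorem toE_one : toE q hq 1 = 1 := rfl

theorem toE_algebraMap (a : A) :
    toE q hq (algebraMap A (extP q hq).Ring a) = TrivSqZeroExt.inl (algebraMap A B a) := rfl

theorem algebraMap_extP (x : (extP q hq).Ring) :
    algebraMap (extP q hq).Ring B x = (toE q hq x).fst := rfl

theorem mem_ker_extP (x : (extP q hq).Ring) : x ∈ (extP q hq).ker ↔ (toE q hq x).fst = 0 :=
  RingHom.mem_ker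

theorem extP_sq : (extP q hq).ker ^ 2 = ⊥ := by
  rw [eq_bot_iff, pow_two, Ideal.mul_le]
  intro x hx y hy
  rw [mem_ker_extP] at hx hy
  rw [Ideal.mem_bot]
  apply toE_injective
  rw [toE_mul, toE_zero]
  refine TrivSqZeroExt.ext ?_ ?_
  · rw [TrivSqZeroExt.fst_mul, hx, zero_mul, TrivSqZeroExt.fst_zero]
  · rw [TrivSqZeroExt.snd_mul, hx, hy, zero_smul, MulOpposite.op_zero, zero_smul, add_zero,
      TrivSqZeroExt.snd_zero]

variable (hex : Function.Exact i q)

/-- the element `(0, i m)` of the kernel. -/
noncomputable def kerElt (m : M) : (extP q hq).ker :=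
  ⟨mkE q hq (TrivSqZeroExt.inr (i m)) (by
      rw [TrivSqZeroExt.fst_inr, TrivSqZeroExt.snd_inr, map_zero, hex.apply_apply_eq_zero]),
    (mem_ker_extP q hq _).mpr (TrivSqZeroExt.fst_inr _ _)⟩

theorem toE_kerElt (m : M) : toE q hq (kerElt i q hq hex m : (extP q hq).Ring) =
    TrivSqZeroExt.inr (i m) := rfl

theorem kerElt_add (m m' : M) :
    kerElt i q hq hex (m + m') = kerElt i q hq hex m + kerElt i q hq hex m' := by
  apply Subtype.ext
  apply toE_injective
  show toE q hq (kerElt i q hq hex (m + m') : (extP q hq).Ring) =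
    toE q hq (kerElt i q hq hex m : (extP q hq).Ring) +
      toE q hq (kerElt i q hq hex m' : (extP q hq).Ring)
  rw [toE_kerElt, toE_kerElt, toE_kerElt, map_add, TrivSqZeroExt.inr_add]

theorem smul_kerElt (e : (extP q hq).Ring) (m : M) :
    e • kerElt i q hq hex m = kerElt i q hq hex (algebraMap (extP q hq).Ring B e • m) := by
  apply Subtype.ext
  apply toE_injective
  show toE q hq (e * (kerElt i q hq hex m : (extP q hq).Ring)) = _
  rw [toE_mul, toE_kerElt, toE_kerElt, algebraMap_extP]
  refine TrivSqZeroExt.ext ?_ ?_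
  · rw [TrivSqZeroExt.fst_mul, TrivSqZeroExt.fst_inr, mul_zero, TrivSqZeroExt.fst_inr]
  · rw [TrivSqZeroExt.snd_mul, TrivSqZeroExt.fst_inr, TrivSqZeroExt.snd_inr,
      MulOpposite.op_zero, zero_smul, add_zero, TrivSqZeroExt.snd_inr, map_smul]

/-- `M → I/I²`. -/
noncomputable def phi : M →ₗ[B] (extP q hq).Cotangent where
  toFun m := Extension.Cotangent.mk (kerElt i q hq hex m)
  map_add' m m' := by rw [kerElt_add, map_add]
  map_smul' b m := by
    obtain ⟨e, rfl⟩ := (extP q hq).algebraMap_surjective b
    rw [← smul_kerElt, map_smul]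
    exact (algebraMap_smul B e _).symm

theorem phi_apply (m : M) : phi i q hq hex m = Extension.Cotangent.mk (kerElt i q hq hex m) := rfl

theorem phi_bijective (hi : Function.Injective i) : Function.Bijective (phi i q hq hex) := by
  constructor
  · rw [injective_iff_map_eq_zero]
    intro m hm
    rw [phi_apply, Extension.Cotangent.mk_eq_zero_iff, extP_sq, Ideal.mem_bot] at hm
    have h1 : (toE q hq (kerElt i q hq hex m : (extP q hq).Ring)).snd = (toE q hq 0).snd :=
      congrArg (fun z => (toE q hq z).snd) hm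
    rw [toE_kerElt, TrivSqZeroExt.snd_inr, toE_zero, TrivSqZeroExt.snd_zero] at h1
    exact hi (h1.trans (map_zero i).symm)
  · intro c
    obtain ⟨x, rfl⟩ := Extension.Cotangent.mk_surjective c
    have hx : (toE q hq x).fst = 0 := (mem_ker_extP q hq x).mp x.2
    have h1 : q (toE q hq x).snd = 0 := by
      rw [← toE_mem, hx, map_zero]
    obtain ⟨m, hm⟩ := (hex _).mp h1
    refine ⟨m, ?_⟩
    rw [phi_apply]
    congr 1
    apply Subtype.ext
    apply toE_injective
    rw [toE_kerElt]
    refine TrivSqZeroExt.ext ?_ ?_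
    · rw [TrivSqZeroExt.fst_inr, hx]
    · rw [TrivSqZeroExt.snd_inr, hm]

/-- `N` as a module over `E`. -/
def NE (_q : N →ₗ[B] Ω[B⁄A]) (_hq : Function.Surjective _q) : Type u := N

instance : AddCommGroup (NE q hq) := inferInstanceAs (AddCommGroup N)

instance : Module B (NE q hq) := inferInstanceAs (Module B N)

noncomputable instance : Module (extP q hq).Ring (NE q hq) :=
  Module.compHom N (algebraMap (extP q hq).Ring B)

noncomputable instance : Module A (NE q hq) := Module.compHom N (algebraMap A B)

instance : IsScalarTower (extP q hq).Ring B (NE q hq) :=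
  IsScalarTower.of_algebraMap_smul fun _ _ => rfl

instance : IsScalarTower A (extP q hq).Ring (NE q hq) :=
  IsScalarTower.of_algebraMap_smul fun _ _ => rfl

theorem smul_NE (e : (extP q hq).Ring) (n : NE q hq) :
    e • n = ((toE q hq e).fst • (n : N) : N) := rfl

/-- the derivation `(b, n) ↦ n`. -/
noncomputable def sndDer : Derivation A (extP q hq).Ring (NE q hq) :=
  Derivation.mk
    { toFun := fun x => ((toE q hq x).snd : N)
      map_add' := fun x y => TrivSqZeroExt.snd_add _ _
      map_smul' := fun a x => by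
        show (toE q hq (a • x)).snd = (algebraMap A B a • (toE q hq x).snd : N)
        rw [Algebra.smul_def, toE_mul, toE_algebraMap, TrivSqZeroExt.snd_mul,
          TrivSqZeroExt.fst_inl, TrivSqZeroExt.snd_inl, smul_zero, add_zero] }
    (by
      show (toE q hq 1).snd = (0 : N)
      rw [toE_one, TrivSqZeroExt.snd_one])
    (fun x y => by
      show (toE q hq (x * y)).snd =
        ((toE q hq x).fst • (toE q hq y).snd + (toE q hq y).fst • (toE q hq x).snd : N)
      rw [toE_mul, TrivSqZeroExt.snd_mul, op_smul_eq_smul])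

theorem sndDer_apply (x : (extP q hq).Ring) : sndDer q hq x = ((toE q hq x).snd : N) := rfl

/-- `B ⊗ Ω_E → N`. -/
noncomputable def psi : (extP q hq).CotangentSpace →ₗ[B] N :=
  (LinearMap.liftBaseChange B (sndDer q hq).liftKaehlerDifferential :
    (extP q hq).CotangentSpace →ₗ[B] NE q hq)

theorem psi_dd (x : (extP q hq).Ring) : psi q hq (dd (extP q hq) x) = ((toE q hq x).snd : N) := by
  show (LinearMap.liftBaseChange B (sndDer q hq).liftKaehlerDifferential :
    (extP q hq).CotangentSpace →ₗ[B] NE q hq) ((1 : B) ⊗ₜ[(extP q hq).Ring] D A _ x) = _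
  rw [LinearMap.liftBaseChange_tmul, one_smul, Derivation.liftKaehlerDifferential_comp_D]
  rfl

theorem psi_cotangentComplex (m : M) :
    psi q hq ((extP q hq).cotangentComplex (phi i q hq hex m)) = i m := by
  rw [phi_apply, cotangentComplex_mk', psi_dd, toE_kerElt, TrivSqZeroExt.snd_inr]

theorem q_psi (y : (extP q hq).CotangentSpace) :
    q (psi q hq y) = (extP q hq).toKaehler y := by
  have := cotSpace_hom_ext (P := extP q hq) (N' := Ω[B⁄A])
    (q ∘ₗ psi q hq) (extP q hq).toKaehler (fun x => by
      rw [LinearMap.comp_apply, toKaehler_dd, algebraMap_extP, toE_mem, psi_dd]) y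
  exact this

include hex in
theorem psi_bijective (hi : Function.Injective i)
    (hinj : Function.Injective (extP q hq).cotangentComplex) :
    Function.Bijective (psi q hq) := by
  have hφ := phi_bijective i q hq hex hi
  constructor
  · rw [injective_iff_map_eq_zero]
    intro y hy
    have h1 : (extP q hq).toKaehler y = 0 := by
      rw [← q_psi, hy]
      exact map_zero q
    obtain ⟨c, rfl⟩ := ((extP q hq).exact_cotangentComplex_toKaehler _).mp h1
    obtain ⟨m, rfl⟩ := hφ.2 c
    rw [psi_cotangentComplex] at hy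
    have hm : m = 0 := hi (hy.trans (map_zero i).symm)
    rw [hm, map_zero, map_zero]
  · intro n
    obtain ⟨y₀, hy₀⟩ := (extP q hq).toKaehler_surjective (q n)
    have h1 : q (n - psi q hq y₀) = 0 := by
      rw [map_sub, q_psi, hy₀, sub_self]
    obtain ⟨m, hm⟩ := (hex _).mp h1
    refine ⟨y₀ + (extP q hq).cotangentComplex (phi i q hq hex m), ?_⟩
    rw [map_add, psi_cotangentComplex, hm]
    abel

end Build

section Main

variable {A B : Type u} [CommRing A] [CommRing B] [Algebra A B] [IsReduced B]

theorem main11285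
    (hsm : ∀ p : PrimeSpectrum B, p.asIdeal ∈ minimalPrimes B → Algebra.IsSmoothAt A p.asIdeal)
    (M N : Type u) [AddCommGroup M] [Module B M] [Module.Projective B M]
    [AddCommGroup N] [Module B N]
    (i : M →ₗ[B] N) (q : N →ₗ[B] Ω[B⁄A]) (hi : Function.Injective i) (hq : Function.Surjective q)
    (hex : Function.Exact i q) :
    ∃ P : Algebra.Extension.{u} A B, P.ker ^ 2 = ⊥ ∧
      ∃ (e₁ : P.Cotangent ≃ₗ[B] M) (e₂ : P.CotangentSpace ≃ₗ[B] N),
        (∀ x, e₂ (P.cotangentComplex x) = i (e₁ x)) ∧ (∀ y, q (e₂ y) = P.toKaehler y) := by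
  have hφ := phi_bijective i q hq hex hi
  let E1 : M ≃ₗ[B] (extP q hq).Cotangent := LinearEquiv.ofBijective (phi i q hq hex) hφ
  haveI : Module.Projective B (extP q hq).Cotangent := Module.Projective.of_equiv E1
  have hinj : Function.Injective (extP q hq).cotangentComplex :=
    Groth.Agent.Lib.ConormalInjH1.cotangentComplex_injective hsm (extP q hq) (extP_sq q hq)
  have hψ := psi_bijective i q hq hex hi hinj
  let E2 : (extP q hq).CotangentSpace ≃ₗ[B] N := LinearEquiv.ofBijective (psi q hq) hψ
  refine ⟨extP q hq, extP_sq q hq, E1.symm, E2, ?_, ?_⟩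
  · intro x
    obtain ⟨m, rfl⟩ := hφ.2 x
    have h1 : E1.symm (phi i q hq hex m) = m := E1.symm_apply_apply m
    rw [h1]
    exact psi_cotangentComplex i q hq hex m
  · intro y
    exact q_psi q hq y

theorem main11286
    (hsm : ∀ p : PrimeSpectrum B, p.asIdeal ∈ minimalPrimes B → Algebra.IsSmoothAt A p.asIdeal)
    (P P' : Algebra.Extension.{u} A B) (hsq : P.ker ^ 2 = ⊥) (hsq' : P'.ker ^ 2 = ⊥)
    [Module.Projective B P.Cotangent]
    (e₁ : P.Cotangent ≃ₗ[B] P'.Cotangent) (e₂ : P.CotangentSpace ≃ₗ[B] P'.CotangentSpace)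
    (h₁ : ∀ x, e₂ (P.cotangentComplex x) = P'.cotangentComplex (e₁ x))
    (h₂ : ∀ y, P'.toKaehler (e₂ y) = P.toKaehler y) :
    ∃ f : P.Hom P', Function.Bijective f.toRingHom ∧
      Algebra.Extension.Cotangent.map f = e₁.toLinearMap := by
  haveI : Module.Projective B P'.Cotangent := Module.Projective.of_equiv e₁
  have hP : Good P := ⟨hsq, Groth.Agent.Lib.ConormalInjH1.cotangentComplex_injective hsm P hsq⟩
  have hP' : Good P' :=
    ⟨hsq', Groth.Agent.Lib.ConormalInjH1.cotangentComplex_injective hsm P' hsq'⟩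
  exact exists_hom_of_iso hP hP' e₁ e₂ h₁ h₂

end Main

end Groth.Agent.Lib.ConormalExtH1
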