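import Mathlib
import Groth.Agent.S9161

/-!
# Stable isomorphism of conormal modules of two presentations (helper3)
-/

set_option autoImplicit false
universe u

open Algebra TensorProduct

namespace Groth.Agent.Lib.ConormalStable

variable {R S : Type u} [CommRing R] [CommRing S] [Algebra R S]

/-- Two extensions with maps in both directions have stably isomorphic conormal modules. -/
theorem stable_iso (P P' : Algebra.Extension.{u} R S) (f : P.Hom P') (g : P'.Hom P) :
    Nonempty ((P.Cotangent × P'.CotangentSpace) ≃ₗ[S] (P'.Cotangent × P.CotangentSpace)) := by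
  refine Groth.Agent.S9161.result S P.Cotangent P.CotangentSpace P'.Cotangent P'.CotangentSpace
    P.cotangentComplex P'.cotangentComplex
    (Extension.Cotangent.map f) (Extension.CotangentSpace.map f)
    (Extension.Cotangent.map g) (Extension.CotangentSpace.map g)
    ?_ ?_
    ((Extension.Hom.id P).sub (g.comp f)) ?_ ?_
    ((Extension.Hom.id P').sub (f.comp g)) ?_ ?_
  · have := Extension.CotangentSpace.map_comp_cotangentComplex f
    exact this.symm
  · have := Extension.CotangentSpace.map_comp_cotangentComplex g
    exact this.symm
  · have := Extension.Cotangent.map_sub_map (Extension.Hom.id P) (g.comp f)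
    rw [Extension.Cotangent.map_id, Extension.Cotangent.map_comp] at this
    exact this
  · have := Extension.CotangentSpace.map_sub_map (Extension.Hom.id P) (g.comp f)
    rw [Extension.CotangentSpace.map_id, Extension.CotangentSpace.map_comp] at this
    exact this
  · have := Extension.Cotangent.map_sub_map (Extension.Hom.id P') (f.comp g)
    rw [Extension.Cotangent.map_id, Extension.Cotangent.map_comp] at this
    exact this
  · have := Extension.CotangentSpace.map_sub_map (Extension.Hom.id P') (f.comp g)
    rw [Extension.CotangentSpace.map_id, Extension.CotangentSpace.map_comp] at this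
    exact this

/-- A hom from a polynomial presentation to any presentation by a surjection. -/
noncomputable def homOfMvPoly {σ : Type*} {Q : Type*} [CommRing Q] [Algebra R Q]
    (α : MvPolynomial σ R →ₐ[R] S) (hα : Function.Surjective α)
    (β : Q →ₐ[R] S) (hβ : Function.Surjective β) :
    (Extension.ofSurjective α hα).Hom (Extension.ofSurjective β hβ) where
  toRingHom := (MvPolynomial.aeval (fun i => (hβ (α (MvPolynomial.X i))).choose) :
    MvPolynomial σ R →ₐ[R] Q).toRingHom
  toRingHom_algebraMap x := by
    exact (MvPolynomial.aeval (fun i => (hβ (α (MvPolynomial.X i))).choose) :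
      MvPolynomial σ R →ₐ[R] Q).commutes x
  algebraMap_toRingHom x := by
    show β ((MvPolynomial.aeval (fun i => (hβ (α (MvPolynomial.X i))).choose) :
      MvPolynomial σ R →ₐ[R] Q) x) = α x
    have : β.comp (MvPolynomial.aeval (fun i => (hβ (α (MvPolynomial.X i))).choose) :
      MvPolynomial σ R →ₐ[R] Q) = α := by
      apply MvPolynomial.algHom_ext
      intro i
      simp only [AlgHom.comp_apply, MvPolynomial.aeval_X]
      exact (hβ (α (MvPolynomial.X i))).choose_spec
    exact congrArg (fun φ => φ x) this

/-- The cotangent space of a polynomial presentation is free on the variables. -/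
noncomputable def cotangentSpaceEquiv {n : ℕ}
    (α : MvPolynomial (Fin n) R →ₐ[R] S) (hα : Function.Surjective α) :
    (Extension.ofSurjective α hα).CotangentSpace ≃ₗ[S] (Fin n → S) :=
  letI : Algebra (MvPolynomial (Fin n) R) S := α.toAlgebra
  ((KaehlerDifferential.mvPolynomialBasis R (Fin n)).baseChange S).equivFun

/-- Two polynomial presentations of `S` have stably isomorphic conormal modules. -/
theorem main (n m : ℕ) (α : MvPolynomial (Fin n) R →ₐ[R] S) (hα : Function.Surjective α)
    (β : MvPolynomial (Fin m) R →ₐ[R] S) (hβ : Function.Surjective β) :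
    Nonempty (((Algebra.Extension.ofSurjective α hα).Cotangent × (Fin m → S)) ≃ₗ[S]
      ((Algebra.Extension.ofSurjective β hβ).Cotangent × (Fin n → S))) := by
  obtain ⟨e⟩ := stable_iso (Extension.ofSurjective α hα) (Extension.ofSurjective β hβ)
    (homOfMvPoly α hα β hβ) (homOfMvPoly β hβ α hα)
  exact ⟨(LinearEquiv.prodCongr (LinearEquiv.refl S _) (cotangentSpaceEquiv β hβ).symm) ≪≫ₗ e ≪≫ₗ
    (LinearEquiv.prodCongr (LinearEquiv.refl S _) (cotangentSpaceEquiv α hα))⟩

end Groth.Agent.Lib.ConormalStable
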