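import Mathlib
import Groth.Agent.Lib.ConormalStable_helper3

/-!
# Conormal modules of presentations of a localization (helper1)

* `stable_iso_of_formallySmooth`: two extensions of `S/R` by formally smooth rings have stably
  isomorphic conormal modules (via the infinitesimal extensions and `stable_iso` of helper3).
* `exists_locExt`: localizing an extension (copy of the construction inside Mathlib's
  `Algebra.tensorH1CotangentOfIsLocalization`, for an arbitrary extension).
* `main`: S9182.
-/

set_option autoImplicit false
set_option maxHeartbeats 1000000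
universe u

open Algebra TensorProduct

namespace Groth.Agent.Lib.ConormalLocH1

noncomputable section

attribute [local instance] SMulCommClass.of_commMonoid

section Stable

variable {R S : Type u} [CommRing R] [CommRing S] [Algebra R S]

theorem stable_iso_of_formallySmooth (P P' : Algebra.Extension.{u} R S)
    [FormallySmooth R P.Ring] [FormallySmooth R P'.Ring] :
    Nonempty ((P.Cotangent × P'.CotangentSpace) ≃ₗ[S] (P'.Cotangent × P.CotangentSpace)) := by
  obtain ⟨e⟩ := Groth.Agent.Lib.ConormalStable.stable_iso P.infinitesimal P'.infinitesimal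
    (Extension.homInfinitesimal P P') (Extension.homInfinitesimal P' P)
  let e1 : P.Cotangent ≃ₗ[S] P.infinitesimal.Cotangent :=
    LinearEquiv.ofBijective (Extension.Cotangent.map P.toInfinitesimal)
      (Extension.Cotangent.map_toInfinitesimal_bijective P)
  let e0 : P.CotangentSpace ≃ₗ[S] P.infinitesimal.CotangentSpace :=
    LinearEquiv.ofBijective (Extension.CotangentSpace.map P.toInfinitesimal)
      (Extension.CotangentSpace.map_toInfinitesimal_bijective P)
  let e1' : P'.Cotangent ≃ₗ[S] P'.infinitesimal.Cotangent :=
    LinearEquiv.ofBijective (Extension.Cotangent.map P'.toInfinitesimal)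
      (Extension.Cotangent.map_toInfinitesimal_bijective P')
  let e0' : P'.CotangentSpace ≃ₗ[S] P'.infinitesimal.CotangentSpace :=
    LinearEquiv.ofBijective (Extension.CotangentSpace.map P'.toInfinitesimal)
      (Extension.CotangentSpace.map_toInfinitesimal_bijective P')
  exact ⟨(LinearEquiv.prodCongr e1 e0') ≪≫ₗ e ≪≫ₗ (LinearEquiv.prodCongr e1'.symm e0.symm)⟩

end Stable

section Loc

variable {R S : Type u} [CommRing R] [CommRing S] [Algebra R S]
variable (T : Type u) [CommRing T] [Algebra R T] [Algebra S T] [IsScalarTower R S T]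

set_option backward.isDefEq.respectTransparency false in
theorem exists_locExt (P : Extension.{u} R S) [FormallySmooth R P.Ring]
    (M : Submonoid S) [IsLocalization M T] :
    ∃ Q : Extension.{u} R T, FormallySmooth R Q.Ring ∧
      Nonempty (T ⊗[S] P.Cotangent ≃ₗ[T] Q.Cotangent) ∧
      Nonempty (T ⊗[S] P.CotangentSpace ≃ₗ[T] Q.CotangentSpace) := by
  letI M' := M.comap (algebraMap P.Ring S)
  letI fQ : Localization M' →ₐ[R] T := IsLocalization.liftAlgHom (M := M')
    (f := (IsScalarTower.toAlgHom R S T).comp (IsScalarTower.toAlgHom R P.Ring S)) (fun ⟨y, hy⟩ ↦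
    by simpa using IsLocalization.map_units T ⟨algebraMap P.Ring S y, hy⟩)
  letI Q : Extension R T := .ofSurjective fQ (by
    intro x
    obtain ⟨x, ⟨s, hs⟩, rfl⟩ := IsLocalization.exists_mk'_eq M x
    obtain ⟨x, rfl⟩ := P.algebraMap_surjective x
    obtain ⟨s, rfl⟩ := P.algebraMap_surjective s
    refine ⟨IsLocalization.mk' _ x ⟨s, show s ∈ M' from hs⟩, ?_⟩
    simp only [fQ, IsLocalization.coe_liftAlgHom, AlgHom.toRingHom_eq_coe]
    rw [IsLocalization.lift_mk'_spec]
    simp)
  letI f : P.Hom Q :=
  { toRingHom := algebraMap P.Ring (Localization M')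
    toRingHom_algebraMap x := (IsScalarTower.algebraMap_apply R P.Ring (Localization M') _).symm
    algebraMap_toRingHom x := @IsLocalization.lift_eq .. }
  haveI : FormallySmooth P.Ring (Localization M') := .of_isLocalization M'
  haveI hQs : FormallySmooth R Q.Ring := .comp R P.Ring (Localization M')
  haveI : Module.Flat S T := IsLocalization.flat T M
  letI : Algebra P.Ring Q.Ring := (inferInstance : Algebra P.Ring (Localization M'))
  letI := ((algebraMap S T).comp (algebraMap P.Ring S)).toAlgebra
  letI := fQ.toRingHom.toAlgebra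
  haveI : IsScalarTower P.Ring S T := .of_algebraMap_eq' rfl
  haveI : IsScalarTower P.Ring (Localization M') T :=
    .of_algebraMap_eq fun r ↦ (f.algebraMap_toRingHom r).symm
  haveI : IsLocalizedModule M' (IsScalarTower.toAlgHom P.Ring S T).toLinearMap := by
    rw [isLocalizedModule_iff_isLocalization]
    convert! ‹IsLocalization M T› using 1
    exact Submonoid.map_comap_eq_of_surjective P.algebraMap_surjective _
  have H₁ : f.toRingHom.FormallyEtale := RingHom.formallyEtale_algebraMap.mpr
      (FormallyEtale.of_isLocalization (M := M') (Rₘ := Localization M'))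
  have H₂ : Function.Bijective ((f.mapKer rfl).liftBaseChange Q.Ring) := by
    let F : P.ker →ₗ[P.Ring] RingHom.ker fQ := f.mapKer rfl
    refine (isLocalizedModule_iff_isBaseChange M' (Localization M') F).mp ?_
    have : (LinearMap.ker <| Algebra.linearMap P.Ring S).localized' (Localization M') M'
        (Algebra.linearMap P.Ring (Localization M')) = RingHom.ker fQ := by
      rw [LinearMap.localized'_ker_eq_ker_localizedMap (Localization M') M'
        (Algebra.linearMap P.Ring (Localization M'))
        (f' := (IsScalarTower.toAlgHom P.Ring S T).toLinearMap)]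
      ext x
      obtain ⟨x, ⟨s, hs⟩, rfl⟩ := IsLocalization.exists_mk'_eq M' x
      simp only [LinearMap.mem_ker, LinearMap.extendScalarsOfIsLocalization_apply', RingHom.mem_ker,
        IsLocalization.coe_liftAlgHom, AlgHom.toRingHom_eq_coe, IsLocalization.lift_mk'_spec,
        RingHom.coe_coe, AlgHom.coe_comp, IsScalarTower.coe_toAlgHom', Function.comp_apply,
        mul_zero, fQ]
      have : IsLocalization.mk' (Localization M') x ⟨s, hs⟩ =
          IsLocalizedModule.mk' (Algebra.linearMap P.Ring (Localization M')) x ⟨s, hs⟩ := by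
        rw [IsLocalization.mk'_eq_iff_eq_mul, mul_comm, ← Algebra.smul_def, ← Submonoid.smul_def,
          IsLocalizedModule.mk'_cancel']
        rfl
      simp [this, ← IsScalarTower.algebraMap_apply]
    have : F = ((LinearEquiv.ofEq _ _ this).restrictScalars P.Ring).toLinearMap ∘ₗ
      P.ker.toLocalized' (Localization M') M' (Algebra.linearMap P.Ring (Localization M')) := by
      ext; rfl
    rw [this]
    exact IsLocalizedModule.of_linearEquiv _ _ _
  exact ⟨Q, hQs, ⟨Extension.tensorCotangent f rfl H₂⟩,
    ⟨Extension.tensorCotangentSpaceOfFormallyEtale f H₁⟩⟩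

end Loc

theorem main (R S : Type u) [CommRing R] [CommRing S] [Algebra R S]
    (g : S) (n m : ℕ) (α : MvPolynomial (Fin n) R →ₐ[R] S) (hα : Function.Surjective α)
    (β : MvPolynomial (Fin m) R →ₐ[R] Localization.Away g) (hβ : Function.Surjective β) :
    Nonempty ((LocalizedModule (Submonoid.powers g) (Algebra.Extension.ofSurjective α hα).Cotangent ×
        (Fin m → Localization.Away g)) ≃ₗ[Localization.Away g]
      ((Algebra.Extension.ofSurjective β hβ).Cotangent × (Fin n → Localization.Away g))) := by
  haveI : FormallySmooth R (Algebra.Extension.ofSurjective α hα).Ring :=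
    inferInstanceAs (FormallySmooth R (MvPolynomial (Fin n) R))
  haveI : FormallySmooth R (Algebra.Extension.ofSurjective β hβ).Ring :=
    inferInstanceAs (FormallySmooth R (MvPolynomial (Fin m) R))
  obtain ⟨Q, hQ, ⟨e1⟩, ⟨e0⟩⟩ := exists_locExt (Localization.Away g)
    (Algebra.Extension.ofSurjective α hα) (Submonoid.powers g)
  haveI := hQ
  obtain ⟨e⟩ := stable_iso_of_formallySmooth Q (Algebra.Extension.ofSurjective β hβ)
  let a1 : LocalizedModule (Submonoid.powers g) (Algebra.Extension.ofSurjective α hα).Cotangent
      ≃ₗ[Localization.Away g]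
      (Localization.Away g) ⊗[S] (Algebra.Extension.ofSurjective α hα).Cotangent :=
    LocalizedModule.equivTensorProduct (Submonoid.powers g) _
  let a0 : (Localization.Away g) ⊗[S] (Algebra.Extension.ofSurjective α hα).CotangentSpace
      ≃ₗ[Localization.Away g] (Fin n → Localization.Away g) :=
    (TensorProduct.AlgebraTensorModule.congr (LinearEquiv.refl (Localization.Away g) _)
      (Groth.Agent.Lib.ConormalStable.cotangentSpaceEquiv α hα)) ≪≫ₗ
      TensorProduct.piScalarRight S (Localization.Away g) (Localization.Away g) (Fin n)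
  exact ⟨(LinearEquiv.prodCongr (a1 ≪≫ₗ e1)
      (Groth.Agent.Lib.ConormalStable.cotangentSpaceEquiv β hβ).symm) ≪≫ₗ e ≪≫ₗ
    (LinearEquiv.prodCongr (LinearEquiv.refl (Localization.Away g) _) (e0.symm ≪≫ₗ a0))⟩

end

end Groth.Agent.Lib.ConormalLocH1
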