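import Mathlib
import Groth.Agent.Lib.GenExact_helper8

/-!
# Constructibility of the fibrewise exactness locus, part 1: the generic dichotomy (helper8)

For a domain `R`, a finite type `R`-algebra `B` and `B`-linear maps `u : F → G`, `v : G → H` of
finite `B`-modules there is `f ≠ 0` such that the sequences `κ ⊗ F → κ ⊗ G → κ ⊗ H` are either
exact for all fields `κ` over `R` in which `f` is invertible, or exact for none of them.

APPEND-ONLY once landed.
-/

set_option autoImplicit false
open TensorProduct

namespace Groth.Agent.Lib.ConsExactH8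

universe w

open GenExactH8

section Main

variable {R : Type*} [CommRing R] [IsDomain R] {B : Type*} [CommRing B] [Algebra R B]
  [Algebra.FiniteType R B]
  {F G H : Type*} [AddCommGroup F] [Module B F] [Module R F] [IsScalarTower R B F]
  [Module.Finite B F]
  [AddCommGroup G] [Module B G] [Module R G] [IsScalarTower R B G] [Module.Finite B G]
  [AddCommGroup H] [Module B H] [Module R H] [IsScalarTower R B H] [Module.Finite B H]

/-- **Generic exactness**, torsion form, for arbitrary fields over the base. -/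
theorem generic_exact' (u : F →ₗ[B] G) (v : G →ₗ[B] H)
    (h1 : ∀ x : F, ∃ r : R, r ≠ 0 ∧ r • v (u x) = 0)
    (h2 : ∀ n : G, v n = 0 → ∃ r : R, r ≠ 0 ∧ r • n ∈ LinearMap.range u) :
    ∃ f : R, f ≠ 0 ∧ ∀ (κ : Type w) [Field κ] [Algebra R κ], IsUnit (algebraMap R κ f) →
      Function.Exact ((u.restrictScalars R).baseChange κ)
        ((v.restrictScalars R).baseChange κ) := by
  classical
  -- (1) the cokernel of `v` is generically free
  obtain ⟨a₁, ha₁, hgfw, -⟩ := GenFreeH8.main (R := R) (S := B) (H ⧸ LinearMap.range v)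
  -- (3) kernel of `v` is in the range of `u` up to torsion
  obtain ⟨a₃, ha₃, hker⟩ := exists_uniform_ker (R := R) u v h2
  -- (4) `v ∘ u` is torsion
  obtain ⟨r₄, hr₄, hcomp⟩ := exists_uniform_torsion (R := R) (v ∘ₗ u) h1
  refine ⟨a₁ * a₃ * r₄, mul_ne_zero (mul_ne_zero ha₁ ha₃) hr₄, ?_⟩
  intro κ _ _ hp
  rw [map_mul, map_mul, IsUnit.mul_iff, IsUnit.mul_iff] at hp
  obtain ⟨⟨hu₁, hu₃⟩, hu₄⟩ := hp
  set uR := u.restrictScalars R with huR
  set vR := v.restrictScalars R with hvR
  rw [LinearMap.exact_iff]
  apply le_antisymm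
  · -- kernel ≤ range
    intro z hz
    rw [LinearMap.mem_ker] at hz
    set I : Submodule R H := LinearMap.range vR with hI
    have hgfw' : GenFreeH8.GFW R (H ⧸ I) a₁ :=
      hgfw.of_equiv (Submodule.Quotient.restrictScalarsEquiv R (LinearMap.range v)).symm
    have hinj := subtype_baseChange_injective a₁ κ hu₁ I hgfw'
    set v' : G →ₗ[R] I := vR.rangeRestrict with hv'
    have hfac : vR = I.subtype ∘ₗ v' := by
      ext x; rfl
    have hz' : v'.baseChange κ z = 0 := by
      apply hinj
      rw [map_zero, ← LinearMap.comp_apply, ← LinearMap.baseChange_comp, ← hfac]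
      exact hz
    have hex : Function.Exact ((LinearMap.ker v').subtype.lTensor κ) (v'.lTensor κ) :=
      lTensor_exact κ (LinearMap.exact_subtype_ker_map v') vR.surjective_rangeRestrict
    have hz'' : v'.lTensor κ z = 0 := hz'
    obtain ⟨w, hw⟩ := (hex z).mp hz''
    rw [← hw]
    clear hw hz hz' hz''
    induction w using TensorProduct.induction_on with
    | zero => simp
    | tmul c n =>
      have hn : v (n : G) = 0 := by
        have := n.2
        rw [LinearMap.mem_ker] at this
        have h2 := congrArg Subtype.val this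
        exact h2
      obtain ⟨k, x, hx⟩ := hker n hn
      obtain ⟨e, he⟩ := (hu₃.pow k)
      rw [← map_pow] at he
      rw [LinearMap.lTensor_tmul, Submodule.subtype_apply]
      refine ⟨(c * ↑e⁻¹) ⊗ₜ[R] x, ?_⟩
      rw [LinearMap.baseChange_tmul, huR, LinearMap.restrictScalars_apply, hx,
        ← mul_algebraMap_tmul, ← he, mul_assoc, Units.inv_mul, mul_one]
    | add x y hx hy =>
      rw [map_add]
      exact Submodule.add_mem _ hx hy
  · -- range ≤ kernel
    rintro _ ⟨w, rfl⟩
    rw [LinearMap.mem_ker]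
    induction w using TensorProduct.induction_on with
    | zero => simp
    | tmul c x =>
      obtain ⟨e, he⟩ := hu₄
      rw [LinearMap.baseChange_tmul, LinearMap.baseChange_tmul]
      have h1 : c ⊗ₜ[R] vR (uR x) = (c * ↑e⁻¹ * algebraMap R κ r₄) ⊗ₜ[R] vR (uR x) := by
        rw [← he, mul_assoc, Units.inv_mul, mul_one]
      rw [h1, mul_algebraMap_tmul]
      have h2 : r₄ • vR (uR x) = 0 := hcomp x
      rw [h2, tmul_zero]
    | add x y hx hy => rw [map_add, map_add, hx, hy, add_zero]

/-- **Generic nonvanishing**: a non-torsion element `w` of a finite module over a finite type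
algebra over a domain has, for every field `κ` over the base in which a suitable `a ≠ 0` is
invertible, a multiple `b • w` with `1 ⊗ (b • w) ≠ 0` in `κ ⊗ W`. -/
theorem exists_tmul_ne_zero {W : Type*} [AddCommGroup W] [Module B W] [Module R W]
    [IsScalarTower R B W] [Module.Finite B W] (w : W) (hw : ∀ r : R, r ≠ 0 → r • w ≠ 0) :
    ∃ a : R, a ≠ 0 ∧ ∀ (κ : Type w) [Field κ] [Algebra R κ], IsUnit (algebraMap R κ a) →
      ∃ b : B, (1 : κ) ⊗ₜ[R] (b • w) ≠ 0 := by
  classical
  set T : Submodule B W := Submodule.span B {w} with hT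
  have hwT : w ∈ T := Submodule.mem_span_singleton_self w
  haveI : Module.Finite B T := Module.Finite.span_singleton B w
  obtain ⟨a₁, ha₁, hgfw₁, -⟩ := GenFreeH8.main (R := R) (S := B) T
  obtain ⟨a₂, ha₂, hgfw₂, -⟩ := GenFreeH8.main (R := R) (S := B) (W ⧸ T)
  refine ⟨a₁ * a₂, mul_ne_zero ha₁ ha₂, ?_⟩
  intro κ _ _ hu
  rw [map_mul, IsUnit.mul_iff] at hu
  obtain ⟨hu₁, hu₂⟩ := hu
  obtain ⟨s, hs, hsp⟩ := hgfw₁
  -- the family is nonempty
  have hne : s.Nonempty := by
    by_contra hemp
    rw [Set.not_nonempty_iff_eq_empty] at hemp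
    obtain ⟨k, hk⟩ := hsp ⟨w, hwT⟩
    rw [hemp, Submodule.span_empty, Submodule.mem_bot] at hk
    have hk' : a₁ ^ k • w = 0 := by
      have := congrArg Subtype.val hk
      simpa using this
    exact hw _ (pow_ne_zero k ha₁) hk'
  obtain ⟨t₀, ht₀⟩ := hne
  -- `1 ⊗ t₀ ≠ 0` in `κ ⊗ T`
  set L : Submodule R T := Submodule.span R s with hL
  have hinjL : Function.Injective (L.subtype.baseChange κ) := by
    refine baseChange_injective_of_torsion_coker a₁ κ hu₁ L.subtype L.injective_subtype ?_
    intro x
    obtain ⟨k, hk⟩ := hsp x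
    exact ⟨k, by rw [Submodule.range_subtype]; exact hk⟩
  have hrange : Set.range ((↑) : s → T) = s := Subtype.range_coe
  let bL : Module.Basis s R (Submodule.span R (Set.range ((↑) : s → T))) := Module.Basis.span hs
  have hbL : ∀ i : s, ((bL i : Submodule.span R (Set.range ((↑) : s → T))) : T) = i := by
    intro i
    have := Module.Basis.span_apply hs i
    exact congrArg Subtype.val this
  have hne1 : (1 : κ) ⊗ₜ[R] (bL ⟨t₀, ht₀⟩) ≠ 0 := by
    have := (bL.baseChange κ).ne_zero ⟨t₀, ht₀⟩
    rwa [Module.Basis.baseChange_apply] at this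
  have hinjL' : Function.Injective
      ((Submodule.span R (Set.range ((↑) : s → T))).subtype.baseChange κ) := by
    have : Submodule.span R (Set.range ((↑) : s → T)) = L := by rw [hrange]
    rw [this]
    exact hinjL
  have hne2 : (1 : κ) ⊗ₜ[R] (t₀ : T) ≠ 0 := by
    intro h0
    apply hne1
    apply hinjL'
    rw [map_zero, LinearMap.baseChange_tmul, Submodule.subtype_apply, hbL]
    exact h0
  -- push to `κ ⊗ W`
  set TR : Submodule R W := T.restrictScalars R with hTR
  have hgfw₂' : GenFreeH8.GFW R (W ⧸ TR) a₂ :=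
    hgfw₂.of_equiv (Submodule.Quotient.restrictScalarsEquiv R T).symm
  have hinjT := subtype_baseChange_injective a₂ κ hu₂ TR hgfw₂'
  have hne3 : (1 : κ) ⊗ₜ[R] ((t₀ : T) : W) ≠ 0 := by
    intro h0
    apply hne2
    apply hinjT
    have h1 : (LinearMap.baseChange κ TR.subtype) ((1 : κ) ⊗ₜ[R] (⟨(t₀ : W), t₀.2⟩ : TR)) = 0 := by
      rw [LinearMap.baseChange_tmul]; exact h0
    exact h1.trans (map_zero _).symm
  obtain ⟨b, hb⟩ := Submodule.mem_span_singleton.mp t₀.2
  exact ⟨b, by rw [hb]; exact hne3⟩

/-- **Generic dichotomy** for fibrewise exactness: after inverting a nonzero element of the base,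
the sequence is exact on all fibres (over fields) or on none. -/
theorem dichotomy (u : F →ₗ[B] G) (v : G →ₗ[B] H) :
    ∃ f : R, f ≠ 0 ∧
      ((∀ (κ : Type w) [Field κ] [Algebra R κ], IsUnit (algebraMap R κ f) →
        Function.Exact ((u.restrictScalars R).baseChange κ)
          ((v.restrictScalars R).baseChange κ)) ∨
       (∀ (κ : Type w) [Field κ] [Algebra R κ], IsUnit (algebraMap R κ f) →
        ¬ Function.Exact ((u.restrictScalars R).baseChange κ)
          ((v.restrictScalars R).baseChange κ))) := by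
  classical
  by_cases h1 : ∀ x : F, ∃ r : R, r ≠ 0 ∧ r • v (u x) = 0
  · by_cases h2 : ∀ n : G, v n = 0 → ∃ r : R, r ≠ 0 ∧ r • n ∈ LinearMap.range u
    · obtain ⟨f, hf, h⟩ := generic_exact'.{w} (R := R) u v h1 h2
      exact ⟨f, hf, Or.inl h⟩
    · simp only [not_forall, not_exists, not_and] at h2
      obtain ⟨n, hn, h2'⟩ := h2
      obtain ⟨a, ha, hN⟩ := exists_tmul_ne_zero.{w} (R := R) (B := B)
        (W := G ⧸ LinearMap.range u) (Submodule.Quotient.mk n) (by
          intro r hr h0
          rw [← Submodule.Quotient.mk_smul, Submodule.Quotient.mk_eq_zero] at h0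
          exact h2' r hr h0)
      refine ⟨a, ha, Or.inr fun κ _ _ hu hex => ?_⟩
      obtain ⟨b, hb⟩ := hN κ hu
      have hζ : (v.restrictScalars R).baseChange κ ((1 : κ) ⊗ₜ[R] (b • n)) = 0 := by
        rw [LinearMap.baseChange_tmul, LinearMap.restrictScalars_apply, map_smul, hn, smul_zero,
          tmul_zero]
      obtain ⟨ξ, hξ⟩ := (hex _).mp hζ
      set q : G →ₗ[R] (G ⧸ LinearMap.range u) := (LinearMap.range u).mkQ.restrictScalars R with hq
      have hqu : q ∘ₗ u.restrictScalars R = 0 := by
        ext x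
        simp only [hq, LinearMap.comp_apply, LinearMap.restrictScalars_apply,
          Submodule.mkQ_apply, LinearMap.zero_apply, Submodule.Quotient.mk_eq_zero]
        exact LinearMap.mem_range_self u x
      have h3 : (q.baseChange κ) ((u.restrictScalars R).baseChange κ ξ) = 0 := by
        rw [← LinearMap.comp_apply, ← LinearMap.baseChange_comp, hqu, LinearMap.baseChange_zero,
          LinearMap.zero_apply]
      rw [hξ, LinearMap.baseChange_tmul] at h3
      exact hb h3
  · simp only [not_forall, not_exists, not_and] at h1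
    obtain ⟨x, hx⟩ := h1
    obtain ⟨a, ha, hN⟩ := exists_tmul_ne_zero.{w} (R := R) (B := B) (W := H) (v (u x)) hx
    refine ⟨a, ha, Or.inr fun κ _ _ hu hex => ?_⟩
    obtain ⟨b, hb⟩ := hN κ hu
    have h3 := hex.apply_apply_eq_zero ((1 : κ) ⊗ₜ[R] (b • x))
    rw [LinearMap.baseChange_tmul, LinearMap.baseChange_tmul, LinearMap.restrictScalars_apply,
      LinearMap.restrictScalars_apply, map_smul, map_smul] at h3
    exact hb h3

end Main

end Groth.Agent.Lib.ConsExactH8
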