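import Mathlib

/-!
# Constructibility of the fibrewise exactness locus, part 2: transfer lemmas (helper8)

APPEND-ONLY once landed.
-/

set_option autoImplicit false
open TensorProduct

namespace Groth.Agent.Lib.ConsExactH8

section Transfer

variable {R R' K : Type*} [CommRing R] [CommRing R'] [CommRing K] [Algebra R R'] [Algebra R' K]
  [Algebra R K] [IsScalarTower R R' K]
  {F G H : Type*} [AddCommGroup F] [Module R F] [AddCommGroup G] [Module R G]
  [AddCommGroup H] [Module R H]
  {F' G' H' : Type*} [AddCommGroup F'] [Module R' F'] [Module R F'] [IsScalarTower R R' F']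
  [AddCommGroup G'] [Module R' G'] [Module R G'] [IsScalarTower R R' G']
  [AddCommGroup H'] [Module R' H'] [Module R H'] [IsScalarTower R R' H']

/-- the comparison isomorphism `K ⊗[R] F ≃ K ⊗[R'] F'` for a base change `F → F'` -/
noncomputable def cmpEquiv {fF : F →ₗ[R] F'} (hF : IsBaseChange R' fF) :
    K ⊗[R] F ≃ₗ[K] K ⊗[R'] F' :=
  (hF.comp (TensorProduct.isBaseChange R' F' K)).equiv

theorem cmpEquiv_tmul {fF : F →ₗ[R] F'} (hF : IsBaseChange R' fF) (c : K) (x : F) :
    cmpEquiv (K := K) hF (c ⊗ₜ[R] x) = c ⊗ₜ[R'] fF x := by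
  rw [cmpEquiv, IsBaseChange.equiv_tmul]
  simp [TensorProduct.smul_tmul']

/-- **Transfer of fibrewise exactness along a base change** `R → R'`. -/
theorem exact_baseChange_iff_of_isBaseChange
    (u : F →ₗ[R] G) (v : G →ₗ[R] H) (u' : F' →ₗ[R'] G') (v' : G' →ₗ[R'] H')
    {fF : F →ₗ[R] F'} {fG : G →ₗ[R] G'} {fH : H →ₗ[R] H'}
    (hF : IsBaseChange R' fF) (hG : IsBaseChange R' fG) (hH : IsBaseChange R' fH)
    (hu : ∀ x, u' (fF x) = fG (u x)) (hv : ∀ x, v' (fG x) = fH (v x)) :
    Function.Exact (u'.baseChange K) (v'.baseChange K) ↔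
      Function.Exact (u.baseChange K) (v.baseChange K) := by
  refine Function.Exact.iff_of_ladder_linearEquiv (e₁ := cmpEquiv (K := K) hF)
    (e₂ := cmpEquiv (K := K) hG) (e₃ := cmpEquiv (K := K) hH) ?_ ?_
  · refine TensorProduct.AlgebraTensorModule.ext fun c x => ?_
    simp only [LinearMap.comp_apply, LinearEquiv.coe_coe, cmpEquiv_tmul, LinearMap.baseChange_tmul,
      hu]
  · refine TensorProduct.AlgebraTensorModule.ext fun c x => ?_
    simp only [LinearMap.comp_apply, LinearEquiv.coe_coe, cmpEquiv_tmul, LinearMap.baseChange_tmul,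
      hv]

end Transfer

section Field

/-- Exactness can be checked after a field extension. -/
theorem exact_baseChange_field_iff {k K : Type*} [Field k] [Field K] [Algebra k K]
    {V₁ V₂ V₃ : Type*} [AddCommGroup V₁] [Module k V₁] [AddCommGroup V₂] [Module k V₂]
    [AddCommGroup V₃] [Module k V₃] (a : V₁ →ₗ[k] V₂) (b : V₂ →ₗ[k] V₃) :
    Function.Exact (a.baseChange K) (b.baseChange K) ↔ Function.Exact a b := by
  rw [LinearMap.baseChange_eq_ltensor, LinearMap.baseChange_eq_ltensor]
  exact Module.FaithfullyFlat.lTensor_exact_iff_exact k K a b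

variable {R : Type*} [CommRing R]
  {F G H : Type*} [AddCommGroup F] [Module R F] [AddCommGroup G] [Module R G]
  [AddCommGroup H] [Module R H]

/-- Exactness of the fibre sequence at a field-valued point only depends on the prime it defines. -/
theorem exact_residueField_iff (u : F →ₗ[R] G) (v : G →ₗ[R] H)
    (K : Type*) [Field K] [Algebra R K] (p : Ideal R) [p.IsPrime]
    (hp : p = RingHom.ker (algebraMap R K)) :
    Function.Exact (u.baseChange K) (v.baseChange K) ↔
      Function.Exact (u.baseChange p.ResidueField) (v.baseChange p.ResidueField) := by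
  have hunits : p.primeCompl ≤ (IsUnit.submonoid K).comap (algebraMap R K) := by
    intro x hx
    rw [Submonoid.mem_comap, IsUnit.mem_submonoid_iff, isUnit_iff_ne_zero]
    intro h0
    apply hx
    rw [SetLike.mem_coe, hp, RingHom.mem_ker]
    exact h0
  let φ : p.ResidueField →+* K := Ideal.ResidueField.lift p (algebraMap R K) hp.le hunits
  letI : Algebra p.ResidueField K := φ.toAlgebra
  haveI : IsScalarTower R p.ResidueField K := IsScalarTower.of_algebraMap_eq fun r =>
    (Ideal.ResidueField.lift_algebraMap p (algebraMap R K) hp.le hunits r).symm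
  rw [← exact_baseChange_iff_of_isBaseChange (R := R) (R' := p.ResidueField) (K := K) u v
    (u.baseChange p.ResidueField) (v.baseChange p.ResidueField)
    (TensorProduct.isBaseChange R F p.ResidueField) (TensorProduct.isBaseChange R G p.ResidueField)
    (TensorProduct.isBaseChange R H p.ResidueField) (fun x => rfl) (fun x => rfl)]
  exact exact_baseChange_field_iff _ _

end Field

section Locus

variable {R R' : Type*} [CommRing R] [CommRing R'] [Algebra R R']
  {F G H : Type*} [AddCommGroup F] [Module R F] [AddCommGroup G] [Module R G]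
  [AddCommGroup H] [Module R H]
  {F' G' H' : Type*} [AddCommGroup F'] [Module R' F'] [Module R F'] [IsScalarTower R R' F']
  [AddCommGroup G'] [Module R' G'] [Module R G'] [IsScalarTower R R' G']
  [AddCommGroup H'] [Module R' H'] [Module R H'] [IsScalarTower R R' H']

/-- the fibrewise exactness locus -/
def exLocus (u : F →ₗ[R] G) (v : G →ₗ[R] H) : Set (PrimeSpectrum R) :=
  {p | Function.Exact (u.baseChange p.asIdeal.ResidueField)
    (v.baseChange p.asIdeal.ResidueField)}

/-- **The exactness locus commutes with base change.** -/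
theorem exLocus_eq_preimage
    (u : F →ₗ[R] G) (v : G →ₗ[R] H) (u' : F' →ₗ[R'] G') (v' : G' →ₗ[R'] H')
    {fF : F →ₗ[R] F'} {fG : G →ₗ[R] G'} {fH : H →ₗ[R] H'}
    (hF : IsBaseChange R' fF) (hG : IsBaseChange R' fG) (hH : IsBaseChange R' fH)
    (hu : ∀ x, u' (fF x) = fG (u x)) (hv : ∀ x, v' (fG x) = fH (v x)) :
    exLocus u' v' = PrimeSpectrum.comap (algebraMap R R') ⁻¹' exLocus u v := by
  ext p'
  simp only [exLocus, Set.mem_ofPred_eq, Set.mem_preimage]
  rw [exact_baseChange_iff_of_isBaseChange (R := R) (R' := R') (K := p'.asIdeal.ResidueField)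
    u v u' v' hF hG hH hu hv]
  refine exact_residueField_iff u v p'.asIdeal.ResidueField
    (PrimeSpectrum.comap (algebraMap R R') p').asIdeal ?_
  ext x
  rw [PrimeSpectrum.comap_asIdeal, Ideal.mem_comap, RingHom.mem_ker,
    IsScalarTower.algebraMap_apply R R' p'.asIdeal.ResidueField,
    Ideal.algebraMap_residueField_eq_zero]

end Locus

section Pushout

variable {R₀ R P₀ P : Type*} [CommRing R₀] [CommRing R] [CommRing P₀] [CommRing P]
  [Algebra R₀ R] [Algebra R₀ P₀] [Algebra R₀ P] [Algebra R P] [Algebra P₀ P]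
  [IsScalarTower R₀ R P] [IsScalarTower R₀ P₀ P] [Algebra.IsPushout R₀ R P₀ P]
  {F₀ F : Type*} [AddCommGroup F₀] [Module P₀ F₀] [Module R₀ F₀] [IsScalarTower R₀ P₀ F₀]
  [AddCommGroup F] [Module P F] [Module P₀ F] [IsScalarTower P₀ P F]
  [Module R F] [IsScalarTower R P F] [Module R₀ F] [IsScalarTower R₀ R F]
  [IsScalarTower R₀ P₀ F]

/-- A base change along `P₀ → P`, where `P = R ⊗[R₀] P₀`, is a base change along `R₀ → R`. -/
theorem isBaseChange_of_isPushout {f : F₀ →ₗ[P₀] F} (hf : IsBaseChange P f) :
    IsBaseChange R (f.restrictScalars R₀) := by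
  let e₁ : R ⊗[R₀] F₀ ≃ₗ[R] P ⊗[P₀] F₀ := (Algebra.IsPushout.cancelBaseChange R₀ R P₀ P F₀).symm
  let e₂ : P ⊗[P₀] F₀ ≃ₗ[R] F := hf.equiv.restrictScalars R
  refine IsBaseChange.of_equiv (e₁ ≪≫ₗ e₂) fun x => ?_
  simp only [LinearEquiv.trans_apply, e₁, e₂, Algebra.IsPushout.cancelBaseChange_symm_tmul,
    map_one, LinearEquiv.restrictScalars_apply, IsBaseChange.equiv_tmul, one_smul,
    LinearMap.restrictScalars_apply]

end Pushout

section Top

open PrimeSpectrum Topology

/-- Preimages of constructible sets under maps of prime spectra are constructible. -/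
theorem isConstructible_preimage_comap {R S : Type*} [CommRing R] [CommRing S] (f : R →+* S)
    {E : Set (PrimeSpectrum R)} (hE : IsConstructible E) :
    IsConstructible (PrimeSpectrum.comap f ⁻¹' E) := by
  classical
  refine hE.preimage (PrimeSpectrum.continuous_comap f) ?_
  intro s hs hs'
  have hsc : IsCompact s := by
    have := hs' isCompact_univ isOpen_univ
    rwa [Set.inter_univ] at this
  have hc : IsCompact (PrimeSpectrum.comap f ⁻¹' s) := by
    obtain ⟨t, rfl⟩ := (PrimeSpectrum.isCompact_isOpen_iff (R := R)).mp ⟨hsc, hs⟩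
    have : PrimeSpectrum.comap f ⁻¹' (PrimeSpectrum.zeroLocus (t : Set R))ᶜ =
        (PrimeSpectrum.zeroLocus ((t.image f : Finset S) : Set S))ᶜ := by
      ext q
      simp [Set.subset_def]
    rw [this]
    exact ((PrimeSpectrum.isCompact_isOpen_iff (R := S)).mpr ⟨_, rfl⟩).1
  intro U hUc hUo
  exact QuasiSeparatedSpace.inter_isCompact _ _
    (hs.preimage (PrimeSpectrum.continuous_comap f)) hc hUo hUc

end Top

end Groth.Agent.Lib.ConsExactH8
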