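import Mathlib
import Groth.Agent.Lib.ConsExact1_helper8
import Groth.Agent.Lib.ConsExact2_helper8
import Groth.Agent.Lib.ConsProp1_helper7

/-!
# Constructibility of the fibrewise exactness locus, part 3: Noetherian base (helper8)

APPEND-ONLY once landed.
-/

set_option autoImplicit false
open TensorProduct Topology

namespace Groth.Agent.Lib.ConsExactH8

universe u

section Aux

variable {R B Rb Bb : Type u} [CommRing R] [CommRing B] [CommRing Rb] [IsDomain Rb] [CommRing Bb]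
  [Algebra R Rb] [Algebra R B] [Algebra R Bb] [Algebra Rb Bb] [Algebra B Bb]
  [IsScalarTower R Rb Bb] [IsScalarTower R B Bb] [Algebra.IsPushout R Rb B Bb]
  [Algebra.FiniteType Rb Bb]
  {F G H : Type u} [AddCommGroup F] [Module B F] [Module R F] [IsScalarTower R B F]
  [AddCommGroup G] [Module B G] [Module R G] [IsScalarTower R B G]
  [AddCommGroup H] [Module B H] [Module R H] [IsScalarTower R B H]
  {Fb Gb Hb : Type u}
  [AddCommGroup Fb] [Module Bb Fb] [Module B Fb] [IsScalarTower B Bb Fb] [Module Rb Fb]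
  [IsScalarTower Rb Bb Fb] [Module R Fb] [IsScalarTower R Rb Fb] [IsScalarTower R B Fb]
  [Module.Finite Bb Fb]
  [AddCommGroup Gb] [Module Bb Gb] [Module B Gb] [IsScalarTower B Bb Gb] [Module Rb Gb]
  [IsScalarTower Rb Bb Gb] [Module R Gb] [IsScalarTower R Rb Gb] [IsScalarTower R B Gb]
  [Module.Finite Bb Gb]
  [AddCommGroup Hb] [Module Bb Hb] [Module B Hb] [IsScalarTower B Bb Hb] [Module Rb Hb]
  [IsScalarTower Rb Bb Hb] [Module R Hb] [IsScalarTower R Rb Hb] [IsScalarTower R B Hb]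
  [Module.Finite Bb Hb]

/-- The generic dichotomy on an integral base change `R → Rb` (typically `R → R ⧸ 𝔭`), read on the
exactness locus of the original data. -/
theorem local_dichotomy_aux (u : F →ₗ[B] G) (v : G →ₗ[B] H) (ub : Fb →ₗ[Bb] Gb)
    (vb : Gb →ₗ[Bb] Hb) {fF : F →ₗ[B] Fb} {fG : G →ₗ[B] Gb} {fH : H →ₗ[B] Hb}
    (hF : IsBaseChange Bb fF) (hG : IsBaseChange Bb fG) (hH : IsBaseChange Bb fH)
    (hu : ∀ x, ub (fF x) = fG (u x)) (hv : ∀ x, vb (fG x) = fH (v x)) :
    ∃ fb : Rb, fb ≠ 0 ∧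
      ((∀ pb : PrimeSpectrum Rb, fb ∉ pb.asIdeal → PrimeSpectrum.comap (algebraMap R Rb) pb ∈
          exLocus (u.restrictScalars R) (v.restrictScalars R)) ∨
       (∀ pb : PrimeSpectrum Rb, fb ∉ pb.asIdeal → PrimeSpectrum.comap (algebraMap R Rb) pb ∉
          exLocus (u.restrictScalars R) (v.restrictScalars R))) := by
  obtain ⟨fb, hfb, hdich⟩ := dichotomy.{u} (R := Rb) (B := Bb) ub vb
  refine ⟨fb, hfb, ?_⟩
  have hloc : exLocus (ub.restrictScalars Rb) (vb.restrictScalars Rb) =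
      PrimeSpectrum.comap (algebraMap R Rb) ⁻¹'
        exLocus (u.restrictScalars R) (v.restrictScalars R) :=
    exLocus_eq_preimage (u.restrictScalars R) (v.restrictScalars R) (ub.restrictScalars Rb)
      (vb.restrictScalars Rb) (isBaseChange_of_isPushout hF) (isBaseChange_of_isPushout hG)
      (isBaseChange_of_isPushout hH) hu hv
  have hunit : ∀ pb : PrimeSpectrum Rb, fb ∉ pb.asIdeal →
      IsUnit (algebraMap Rb pb.asIdeal.ResidueField fb) := by
    intro pb hpb
    rw [isUnit_iff_ne_zero, ne_eq, Ideal.algebraMap_residueField_eq_zero]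
    exact hpb
  rcases hdich with h | h
  · left
    intro pb hpb
    have h1 : pb ∈ exLocus (ub.restrictScalars Rb) (vb.restrictScalars Rb) :=
      h pb.asIdeal.ResidueField (hunit pb hpb)
    rw [hloc] at h1
    exact h1
  · right
    intro pb hpb
    have h1 : pb ∉ exLocus (ub.restrictScalars Rb) (vb.restrictScalars Rb) :=
      h pb.asIdeal.ResidueField (hunit pb hpb)
    rw [hloc] at h1
    exact h1

end Aux

section Noeth

attribute [local instance] Algebra.TensorProduct.rightAlgebra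

variable {R B : Type u} [CommRing R] [CommRing B] [Algebra R B]
  [Algebra.FiniteType R B]
  {F G H : Type u} [AddCommGroup F] [Module B F] [Module R F] [IsScalarTower R B F]
  [Module.Finite B F]
  [AddCommGroup G] [Module B G] [Module R G] [IsScalarTower R B G] [Module.Finite B G]
  [AddCommGroup H] [Module B H] [Module R H] [IsScalarTower R B H] [Module.Finite B H]

/-- The generic dichotomy on `V(𝔭)`. -/
theorem local_dichotomy (𝔭 : Ideal R) [𝔭.IsPrime] (u : F →ₗ[B] G) (v : G →ₗ[B] H) :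
    ∃ fb : R ⧸ 𝔭, fb ≠ 0 ∧
      ((∀ pb : PrimeSpectrum (R ⧸ 𝔭), fb ∉ pb.asIdeal →
          PrimeSpectrum.comap (algebraMap R (R ⧸ 𝔭)) pb ∈
            exLocus (u.restrictScalars R) (v.restrictScalars R)) ∨
       (∀ pb : PrimeSpectrum (R ⧸ 𝔭), fb ∉ pb.asIdeal →
          PrimeSpectrum.comap (algebraMap R (R ⧸ 𝔭)) pb ∉
            exLocus (u.restrictScalars R) (v.restrictScalars R))) :=
  local_dichotomy_aux (Rb := R ⧸ 𝔭) (Bb := (R ⧸ 𝔭) ⊗[R] B)
    (Fb := ((R ⧸ 𝔭) ⊗[R] B) ⊗[B] F) (Gb := ((R ⧸ 𝔭) ⊗[R] B) ⊗[B] G)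
    (Hb := ((R ⧸ 𝔭) ⊗[R] B) ⊗[B] H) u v
    (u.baseChange ((R ⧸ 𝔭) ⊗[R] B)) (v.baseChange ((R ⧸ 𝔭) ⊗[R] B))
    (TensorProduct.isBaseChange B F ((R ⧸ 𝔭) ⊗[R] B))
    (TensorProduct.isBaseChange B G ((R ⧸ 𝔭) ⊗[R] B))
    (TensorProduct.isBaseChange B H ((R ⧸ 𝔭) ⊗[R] B)) (fun _ => rfl) (fun _ => rfl)

end Noeth

section Main

variable {R B : Type u} [CommRing R] [IsNoetherianRing R] [CommRing B] [Algebra R B]
  [Algebra.FiniteType R B]
  {F G H : Type u} [AddCommGroup F] [Module B F] [Module R F] [IsScalarTower R B F]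
  [Module.Finite B F]
  [AddCommGroup G] [Module B G] [Module R G] [IsScalarTower R B G] [Module.Finite B G]
  [AddCommGroup H] [Module B H] [Module R H] [IsScalarTower R B H] [Module.Finite B H]

/-- **Constructibility of the fibrewise exactness locus over a Noetherian base.** -/
theorem isConstructible_exLocus_of_noetherian (u : F →ₗ[B] G) (v : G →ₗ[B] H) :
    IsConstructible (exLocus (u.restrictScalars R) (v.restrictScalars R)) := by
  refine Groth.Agent.Lib.ConsPropH7.isConstructible_of_forall_generic fun ξ => ?_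
  obtain ⟨fb, hfb, hdich⟩ := local_dichotomy ξ.asIdeal u v
  obtain ⟨f, rfl⟩ := Ideal.Quotient.mk_surjective fb
  have hf : f ∉ ξ.asIdeal := fun h => hfb (Ideal.Quotient.eq_zero_iff_mem.mpr h)
  refine ⟨PrimeSpectrum.basicOpen f, (PrimeSpectrum.basicOpen f).isOpen, hf, ?_⟩
  have key : ∀ p ∈ (PrimeSpectrum.basicOpen f : Set (PrimeSpectrum R)) ∩ closure {ξ},
      ∃ pb : PrimeSpectrum (R ⧸ ξ.asIdeal),
        PrimeSpectrum.comap (algebraMap R (R ⧸ ξ.asIdeal)) pb = p ∧
        Ideal.Quotient.mk ξ.asIdeal f ∉ pb.asIdeal := by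
    rintro p ⟨hpf, hpξ⟩
    rw [PrimeSpectrum.closure_singleton] at hpξ
    have hrange : p ∈ Set.range (PrimeSpectrum.comap (algebraMap R (R ⧸ ξ.asIdeal))) := by
      rw [range_comap_of_surjective _ (algebraMap R (R ⧸ ξ.asIdeal))
        Ideal.Quotient.mk_surjective, Ideal.Quotient.algebraMap_eq, Ideal.mk_ker]
      exact hpξ
    obtain ⟨pb, rfl⟩ := hrange
    exact ⟨pb, rfl, hpf⟩
  rcases hdich with h | h
  · left
    intro p hp
    obtain ⟨pb, rfl, hu⟩ := key p hp
    exact h pb hu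
  · right
    intro p hp
    obtain ⟨pb, rfl, hu⟩ := key p hp
    exact h pb hu

end Main

end Groth.Agent.Lib.ConsExactH8
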