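import Mathlib
import Groth.Agent.Lib.ConsExact3_helper8
import Groth.Agent.Lib.FibInjD_helper6

/-!
# Constructibility of the fibrewise exactness locus, part 4: Noetherian descent (helper8)

APPEND-ONLY once landed.
-/

set_option autoImplicit false
open TensorProduct Topology

namespace Groth.Agent.Lib.ConsExactH8

universe u

section Core

attribute [local instance] MvPolynomial.algebraMvPolynomial

variable {R₀ R : Type u} [CommRing R₀] [IsNoetherianRing R₀] [CommRing R] [Algebra R₀ R] {n : ℕ}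
  {F G H : Type u}
  [AddCommGroup F] [Module (MvPolynomial (Fin n) R) F] [Module R F]
  [IsScalarTower R (MvPolynomial (Fin n) R) F] [Module (MvPolynomial (Fin n) R₀) F]
  [IsScalarTower (MvPolynomial (Fin n) R₀) (MvPolynomial (Fin n) R) F] [Module R₀ F]
  [IsScalarTower R₀ R F] [IsScalarTower R₀ (MvPolynomial (Fin n) R₀) F]
  [AddCommGroup G] [Module (MvPolynomial (Fin n) R) G] [Module R G]
  [IsScalarTower R (MvPolynomial (Fin n) R) G] [Module (MvPolynomial (Fin n) R₀) G]
  [IsScalarTower (MvPolynomial (Fin n) R₀) (MvPolynomial (Fin n) R) G] [Module R₀ G]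
  [IsScalarTower R₀ R G] [IsScalarTower R₀ (MvPolynomial (Fin n) R₀) G]
  [AddCommGroup H] [Module (MvPolynomial (Fin n) R) H] [Module R H]
  [IsScalarTower R (MvPolynomial (Fin n) R) H] [Module (MvPolynomial (Fin n) R₀) H]
  [IsScalarTower (MvPolynomial (Fin n) R₀) (MvPolynomial (Fin n) R) H] [Module R₀ H]
  [IsScalarTower R₀ R H] [IsScalarTower R₀ (MvPolynomial (Fin n) R₀) H]
  {F₀ G₀ H₀ : Type u}
  [AddCommGroup F₀] [Module (MvPolynomial (Fin n) R₀) F₀] [Module R₀ F₀]
  [IsScalarTower R₀ (MvPolynomial (Fin n) R₀) F₀] [Module.Finite (MvPolynomial (Fin n) R₀) F₀]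
  [AddCommGroup G₀] [Module (MvPolynomial (Fin n) R₀) G₀] [Module R₀ G₀]
  [IsScalarTower R₀ (MvPolynomial (Fin n) R₀) G₀] [Module.Finite (MvPolynomial (Fin n) R₀) G₀]
  [AddCommGroup H₀] [Module (MvPolynomial (Fin n) R₀) H₀] [Module R₀ H₀]
  [IsScalarTower R₀ (MvPolynomial (Fin n) R₀) H₀] [Module.Finite (MvPolynomial (Fin n) R₀) H₀]

/-- If the data `(u, v)` over `R[X]` is the base change of data `(u₀, v₀)` over `R₀[X]` with `R₀`
Noetherian, the exactness locus of `(u, v)` is constructible. -/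
theorem isConstructible_exLocus_of_model
    (u : F →ₗ[MvPolynomial (Fin n) R] G) (v : G →ₗ[MvPolynomial (Fin n) R] H)
    (u₀ : F₀ →ₗ[MvPolynomial (Fin n) R₀] G₀) (v₀ : G₀ →ₗ[MvPolynomial (Fin n) R₀] H₀)
    {fF : F₀ →ₗ[MvPolynomial (Fin n) R₀] F} {fG : G₀ →ₗ[MvPolynomial (Fin n) R₀] G}
    {fH : H₀ →ₗ[MvPolynomial (Fin n) R₀] H}
    (hF : IsBaseChange (MvPolynomial (Fin n) R) fF) (hG : IsBaseChange (MvPolynomial (Fin n) R) fG)
    (hH : IsBaseChange (MvPolynomial (Fin n) R) fH)
    (hu : ∀ x, u (fF x) = fG (u₀ x)) (hv : ∀ x, v (fG x) = fH (v₀ x)) :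
    IsConstructible (exLocus (u.restrictScalars R) (v.restrictScalars R)) := by
  have hloc : exLocus (u.restrictScalars R) (v.restrictScalars R) =
      PrimeSpectrum.comap (algebraMap R₀ R) ⁻¹'
        exLocus (u₀.restrictScalars R₀) (v₀.restrictScalars R₀) :=
    exLocus_eq_preimage (u₀.restrictScalars R₀) (v₀.restrictScalars R₀) (u.restrictScalars R)
      (v.restrictScalars R) (isBaseChange_of_isPushout hF) (isBaseChange_of_isPushout hG)
      (isBaseChange_of_isPushout hH) hu hv
  rw [hloc]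
  exact isConstructible_preimage_comap _ (isConstructible_exLocus_of_noetherian u₀ v₀)

end Core

section MapModel

variable {A₀ A : Type*} [CommRing A₀] [CommRing A] [Algebra A₀ A]
  {F G : Type*} [AddCommGroup F] [Module A F] [Module A₀ F] [IsScalarTower A₀ A F]
  [AddCommGroup G] [Module A G] [Module A₀ G] [IsScalarTower A₀ A G]
  {a b cF cG : ℕ}

/-- **Descent of a linear map between descended finitely presented modules**, given lifts of its
matrix and of the witnesses that it respects the relations. -/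
theorem exists_map_model (πF : (Fin a → A) →ₗ[A] F) (πG : (Fin b → A) →ₗ[A] G)
    (wF₀ : Fin cF → Fin a → A₀) (wG₀ : Fin cG → Fin b → A₀)
    (fF : ((Fin a → A₀) ⧸ LinearMap.range (Fintype.linearCombination A₀ wF₀)) →ₗ[A₀] F)
    (fG : ((Fin b → A₀) ⧸ LinearMap.range (Fintype.linearCombination A₀ wG₀)) →ₗ[A₀] G)
    (hfF : ∀ t, fF (Submodule.Quotient.mk t) = πF ((Algebra.linearMap A₀ A).compLeft (Fin a) t))
    (hfG : ∀ t, fG (Submodule.Quotient.mk t) = πG ((Algebra.linearMap A₀ A).compLeft (Fin b) t))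
    (u : F →ₗ[A] G) (U₀ : Fin a → Fin b → A₀)
    (hU : ∀ i, πG ((Algebra.linearMap A₀ A).compLeft (Fin b) (U₀ i)) = u (πF (Pi.single i 1)))
    (C₀ : Fin cF → Fin cG → A₀)
    (hC : ∀ k, Fintype.linearCombination A₀ U₀ (wF₀ k) =
      Fintype.linearCombination A₀ wG₀ (C₀ k)) :
    ∃ u₀ : ((Fin a → A₀) ⧸ LinearMap.range (Fintype.linearCombination A₀ wF₀)) →ₗ[A₀]
        ((Fin b → A₀) ⧸ LinearMap.range (Fintype.linearCombination A₀ wG₀)),
      ∀ x, u (fF x) = fG (u₀ x) := by
  classical
  have hle : LinearMap.range (Fintype.linearCombination A₀ wF₀) ≤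
      (LinearMap.range (Fintype.linearCombination A₀ wG₀)).comap
        (Fintype.linearCombination A₀ U₀) := by
    rintro _ ⟨s, rfl⟩
    have hs : Fintype.linearCombination A₀ wF₀ s = ∑ k, s k • wF₀ k :=
      Fintype.linearCombination_apply A₀ wF₀ s
    rw [Submodule.mem_comap, hs, map_sum]
    refine Submodule.sum_mem _ fun k _ => ?_
    rw [map_smul, hC]
    exact Submodule.smul_mem _ _ (LinearMap.mem_range_self _ _)
  refine ⟨Submodule.mapQ _ _ (Fintype.linearCombination A₀ U₀) hle, ?_⟩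
  intro x
  obtain ⟨t, rfl⟩ := Submodule.mkQ_surjective _ x
  rw [Submodule.mkQ_apply, hfF, Submodule.mapQ_apply, hfG]
  have hsingle : ∀ i : Fin a, (fun j => if i = j then (1 : A) else 0) = Pi.single i 1 := by
    intro i
    funext j
    simp [Pi.single_apply, eq_comm]
  have h1 := LinearMap.pi_apply_eq_sum_univ (u ∘ₗ πF)
    ((Algebra.linearMap A₀ A).compLeft (Fin a) t)
  simp only [LinearMap.comp_apply, hsingle] at h1
  rw [h1, Fintype.linearCombination_apply, map_sum, map_sum]
  refine Finset.sum_congr rfl fun i _ => ?_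
  rw [map_smul, LinearMap.map_smul_of_tower, hU]
  simp only [LinearMap.compLeft_apply, Function.comp_apply, Algebra.linearMap_apply,
    algebraMap_smul]

end MapModel

section Coeffs

/-- Every finite set of polynomials is defined over a finitely generated `ℤ`-subalgebra. -/
theorem exists_fg_subalgebra_lifts {R : Type*} [CommRing R] {σ : Type*}
    (D : Set (MvPolynomial σ R)) (hD : D.Finite) :
    ∃ R₀ : Subalgebra ℤ R, R₀.FG ∧
      ∀ q ∈ D, q ∈ Set.range (MvPolynomial.map (σ := σ) (algebraMap R₀ R)) := by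
  classical
  set S : Set R := ⋃ q ∈ D, (q.coeffs : Set R) with hS
  have hSfin : S.Finite := hD.biUnion fun q _ => q.coeffs.finite_toSet
  refine ⟨Algebra.adjoin ℤ S, ⟨hSfin.toFinset, by rw [Set.Finite.coe_toFinset]⟩, ?_⟩
  intro q hq
  rw [MvPolynomial.mem_range_map_iff_coeffs_subset]
  intro c hc
  have hcS : c ∈ S := Set.mem_biUnion hq hc
  exact ⟨⟨c, Algebra.subset_adjoin hcS⟩, rfl⟩

end Coeffs

section Towers

variable {R₀ A₀ A : Type*} [CommRing R₀] [CommRing A₀] [CommRing A]
  [Algebra R₀ A₀] [Algebra R₀ A] [Algebra A₀ A] [IsScalarTower R₀ A₀ A]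
  (F : Type*) [AddCommGroup F] [Module A F] [Module R₀ F] [IsScalarTower R₀ A F]

/-- the tower `A₀ → A` acting on an `A`-module through `Module.compHom` -/
theorem isScalarTower_compHom :
    letI : Module A₀ F := Module.compHom F (algebraMap A₀ A)
    IsScalarTower A₀ A F := by
  letI : Module A₀ F := Module.compHom F (algebraMap A₀ A)
  refine ⟨fun x y z => ?_⟩
  change (x • y) • z = algebraMap A₀ A x • (y • z)
  rw [Algebra.smul_def, mul_smul]

/-- the tower `R₀ → A₀` acting on an `A`-module through `Module.compHom` -/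
theorem isScalarTower_compHom' :
    letI : Module A₀ F := Module.compHom F (algebraMap A₀ A)
    IsScalarTower R₀ A₀ F := by
  letI : Module A₀ F := Module.compHom F (algebraMap A₀ A)
  refine ⟨fun r q z => ?_⟩
  change algebraMap A₀ A (r • q) • z = r • (algebraMap A₀ A q • z)
  have h1 : algebraMap A₀ A (r • q) = r • algebraMap A₀ A q := by
    rw [Algebra.smul_def, map_mul, ← IsScalarTower.algebraMap_apply, ← Algebra.smul_def]
  rw [h1, smul_assoc]

end Towers

section Poly

attribute [local instance] MvPolynomial.algebraMvPolynomial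

theorem compLeft_linearCombination {A₀ A : Type*} [CommRing A₀] [CommRing A] [Algebra A₀ A]
    {a b : ℕ} (M : Fin a → Fin b → A₀) (t : Fin a → A₀) :
    (Algebra.linearMap A₀ A).compLeft (Fin b) (Fintype.linearCombination A₀ M t) =
      Fintype.linearCombination A (fun i => (Algebra.linearMap A₀ A).compLeft (Fin b) (M i))
        ((Algebra.linearMap A₀ A).compLeft (Fin a) t) := by
  ext j
  simp [Fintype.linearCombination_apply, Finset.sum_apply, Algebra.smul_def]

variable {R : Type u} [CommRing R] {n : ℕ}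
  {F G H : Type u}
  [AddCommGroup F] [Module (MvPolynomial (Fin n) R) F] [Module R F]
  [IsScalarTower R (MvPolynomial (Fin n) R) F]
  [Module.FinitePresentation (MvPolynomial (Fin n) R) F]
  [AddCommGroup G] [Module (MvPolynomial (Fin n) R) G] [Module R G]
  [IsScalarTower R (MvPolynomial (Fin n) R) G]
  [Module.FinitePresentation (MvPolynomial (Fin n) R) G]
  [AddCommGroup H] [Module (MvPolynomial (Fin n) R) H] [Module R H]
  [IsScalarTower R (MvPolynomial (Fin n) R) H]
  [Module.FinitePresentation (MvPolynomial (Fin n) R) H]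

/-- **Constructibility of the fibrewise exactness locus** for finitely presented modules over a
polynomial ring over an arbitrary base ring. -/
theorem isConstructible_exLocus_poly
    (u : F →ₗ[MvPolynomial (Fin n) R] G) (v : G →ₗ[MvPolynomial (Fin n) R] H) :
    IsConstructible (exLocus (u.restrictScalars R) (v.restrictScalars R)) := by
  classical
  obtain ⟨a, cF, πF, gF, hπF, hexF⟩ :=
    Module.FinitePresentation.exists_fin' (MvPolynomial (Fin n) R) F
  obtain ⟨b, cG, πG, gG, hπG, hexG⟩ :=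
    Module.FinitePresentation.exists_fin' (MvPolynomial (Fin n) R) G
  obtain ⟨c, cH, πH, gH, hπH, hexH⟩ :=
    Module.FinitePresentation.exists_fin' (MvPolynomial (Fin n) R) H
  -- relations
  set wF : Fin cF → Fin a → MvPolynomial (Fin n) R := fun k => gF (Pi.single k 1) with hwF
  set wG : Fin cG → Fin b → MvPolynomial (Fin n) R := fun k => gG (Pi.single k 1) with hwG
  set wH : Fin cH → Fin c → MvPolynomial (Fin n) R := fun k => gH (Pi.single k 1) with hwH
  have hlc : ∀ {m m' : ℕ} (g : (Fin m → MvPolynomial (Fin n) R) →ₗ[MvPolynomial (Fin n) R]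
      (Fin m' → MvPolynomial (Fin n) R)) (t : Fin m → MvPolynomial (Fin n) R),
      g t = Fintype.linearCombination (MvPolynomial (Fin n) R) (fun k => g (Pi.single k 1)) t := by
    intro m m' g t
    rw [Fintype.linearCombination_apply, LinearMap.pi_apply_eq_sum_univ g t]
    refine Finset.sum_congr rfl fun i _ => ?_
    congr 2
    funext j
    simp [Pi.single_apply, eq_comm]
  -- lifts of `u` and `v`
  choose U hU using fun i : Fin a => hπG (u (πF (Pi.single i 1)))
  choose V hV using fun j : Fin b => hπH (v (πG (Pi.single j 1)))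
  have hsingle : ∀ {m : ℕ} (i : Fin m),
      (fun j => if i = j then (1 : MvPolynomial (Fin n) R) else 0) = Pi.single i 1 := by
    intro m i
    funext j
    simp [Pi.single_apply, eq_comm]
  have hUt : ∀ t, πG (Fintype.linearCombination (MvPolynomial (Fin n) R) U t) = u (πF t) := by
    intro t
    have h1 := LinearMap.pi_apply_eq_sum_univ (u ∘ₗ πF) t
    simp only [LinearMap.comp_apply, hsingle] at h1
    rw [h1, Fintype.linearCombination_apply, map_sum]
    refine Finset.sum_congr rfl fun i _ => ?_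
    rw [map_smul, hU]
  have hVt : ∀ t, πH (Fintype.linearCombination (MvPolynomial (Fin n) R) V t) = v (πG t) := by
    intro t
    have h1 := LinearMap.pi_apply_eq_sum_univ (v ∘ₗ πG) t
    simp only [LinearMap.comp_apply, hsingle] at h1
    rw [h1, Fintype.linearCombination_apply, map_sum]
    refine Finset.sum_congr rfl fun i _ => ?_
    rw [map_smul, hV]
  -- witnesses that the lifts respect the relations
  have hCex : ∀ k : Fin cF, ∃ Ck : Fin cG → MvPolynomial (Fin n) R,
      gG Ck = Fintype.linearCombination (MvPolynomial (Fin n) R) U (wF k) := by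
    intro k
    refine (hexG _).mp ?_
    rw [hUt, hwF, hexF.apply_apply_eq_zero, map_zero]
  choose C hC using hCex
  have hC'ex : ∀ k : Fin cG, ∃ Ck : Fin cH → MvPolynomial (Fin n) R,
      gH Ck = Fintype.linearCombination (MvPolynomial (Fin n) R) V (wG k) := by
    intro k
    refine (hexH _).mp ?_
    rw [hVt, hwG, hexG.apply_apply_eq_zero, map_zero]
  choose C' hC' using hC'ex
  -- the coefficient ring
  set D : Set (MvPolynomial (Fin n) R) :=
    (Set.range fun x : Fin cF × Fin a => wF x.1 x.2) ∪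
    (Set.range fun x : Fin cG × Fin b => wG x.1 x.2) ∪
    (Set.range fun x : Fin cH × Fin c => wH x.1 x.2) ∪
    (Set.range fun x : Fin a × Fin b => U x.1 x.2) ∪
    (Set.range fun x : Fin b × Fin c => V x.1 x.2) ∪
    (Set.range fun x : Fin cF × Fin cG => C x.1 x.2) ∪
    (Set.range fun x : Fin cG × Fin cH => C' x.1 x.2) with hD
  have hDfin : D.Finite := by
    rw [hD]
    exact ((((((Set.finite_range _).union (Set.finite_range _)).union
      (Set.finite_range _)).union (Set.finite_range _)).union (Set.finite_range _)).union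
      (Set.finite_range _)).union (Set.finite_range _)
  obtain ⟨R₀, hR₀fg, hlift⟩ := exists_fg_subalgebra_lifts D hDfin
  haveI : Algebra.FiniteType ℤ R₀ := (Subalgebra.fg_iff_finiteType R₀).mp hR₀fg
  haveI : IsNoetherianRing R₀ := Algebra.FiniteType.isNoetherianRing ℤ R₀
  have hinj : Function.Injective (algebraMap (MvPolynomial (Fin n) R₀) (MvPolynomial (Fin n) R)) :=
    MvPolynomial.map_injective _ Subtype.val_injective
  have hwFD : ∀ k i, wF k i ∈ D := fun k i => by
    rw [hD]; exact Or.inl (Or.inl (Or.inl (Or.inl (Or.inl (Or.inl ⟨(k, i), rfl⟩)))))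
  have hwGD : ∀ k i, wG k i ∈ D := fun k i => by
    rw [hD]; exact Or.inl (Or.inl (Or.inl (Or.inl (Or.inl (Or.inr ⟨(k, i), rfl⟩)))))
  have hwHD : ∀ k i, wH k i ∈ D := fun k i => by
    rw [hD]; exact Or.inl (Or.inl (Or.inl (Or.inl (Or.inr ⟨(k, i), rfl⟩))))
  have hUD : ∀ k i, U k i ∈ D := fun k i => by
    rw [hD]; exact Or.inl (Or.inl (Or.inl (Or.inr ⟨(k, i), rfl⟩)))
  have hVD : ∀ k i, V k i ∈ D := fun k i => by
    rw [hD]; exact Or.inl (Or.inl (Or.inr ⟨(k, i), rfl⟩))
  have hCD : ∀ k i, C k i ∈ D := fun k i => by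
    rw [hD]; exact Or.inl (Or.inr ⟨(k, i), rfl⟩)
  have hC'D : ∀ k i, C' k i ∈ D := fun k i => by
    rw [hD]; exact Or.inr ⟨(k, i), rfl⟩
  choose wF₀ hwF₀ using fun k i => hlift _ (hwFD k i)
  choose wG₀ hwG₀ using fun k i => hlift _ (hwGD k i)
  choose wH₀ hwH₀ using fun k i => hlift _ (hwHD k i)
  choose U₀ hU₀ using fun k i => hlift _ (hUD k i)
  choose V₀ hV₀ using fun k i => hlift _ (hVD k i)
  choose C₀ hC₀ using fun k i => hlift _ (hCD k i)
  choose C'₀ hC'₀ using fun k i => hlift _ (hC'D k i)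
  -- module structures over `R₀[X]`
  letI : Module (MvPolynomial (Fin n) R₀) F :=
    Module.compHom F (algebraMap (MvPolynomial (Fin n) R₀) (MvPolynomial (Fin n) R))
  letI : Module (MvPolynomial (Fin n) R₀) G :=
    Module.compHom G (algebraMap (MvPolynomial (Fin n) R₀) (MvPolynomial (Fin n) R))
  letI : Module (MvPolynomial (Fin n) R₀) H :=
    Module.compHom H (algebraMap (MvPolynomial (Fin n) R₀) (MvPolynomial (Fin n) R))
  haveI : IsScalarTower (MvPolynomial (Fin n) R₀) (MvPolynomial (Fin n) R) F :=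
    isScalarTower_compHom F
  haveI : IsScalarTower (MvPolynomial (Fin n) R₀) (MvPolynomial (Fin n) R) G :=
    isScalarTower_compHom G
  haveI : IsScalarTower (MvPolynomial (Fin n) R₀) (MvPolynomial (Fin n) R) H :=
    isScalarTower_compHom H
  haveI : IsScalarTower R₀ (MvPolynomial (Fin n) R₀) F := isScalarTower_compHom' (R₀ := R₀) F
  haveI : IsScalarTower R₀ (MvPolynomial (Fin n) R₀) G := isScalarTower_compHom' (R₀ := R₀) G
  haveI : IsScalarTower R₀ (MvPolynomial (Fin n) R₀) H := isScalarTower_compHom' (R₀ := R₀) H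
  -- the relation spans
  have hspan : ∀ {m m' : ℕ} {M : Type u} [AddCommGroup M] [Module (MvPolynomial (Fin n) R) M]
      (π : (Fin m → MvPolynomial (Fin n) R) →ₗ[MvPolynomial (Fin n) R] M)
      (g : (Fin m' → MvPolynomial (Fin n) R) →ₗ[MvPolynomial (Fin n) R]
        (Fin m → MvPolynomial (Fin n) R)) (_ : Function.Exact g π)
      (w₀ : Fin m' → Fin m → MvPolynomial (Fin n) R₀)
      (_ : ∀ k i, MvPolynomial.map (algebraMap R₀ R) (w₀ k i) = g (Pi.single k 1) i),
      Submodule.span (MvPolynomial (Fin n) R) (Set.range fun k j =>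
        algebraMap (MvPolynomial (Fin n) R₀) (MvPolynomial (Fin n) R) (w₀ k j)) =
        LinearMap.ker π := by
    intro m m' M _ _ π g hex w₀ hw₀
    have h1 : (fun k j => algebraMap (MvPolynomial (Fin n) R₀) (MvPolynomial (Fin n) R) (w₀ k j)) =
        fun k => g (Pi.single k 1) := by
      funext k j
      exact hw₀ k j
    rw [h1, (LinearMap.exact_iff.mp hex), ← Fintype.range_linearCombination]
    congr 1
    exact LinearMap.ext fun t => (hlc g t).symm
  obtain ⟨fF, hfF, hfF'⟩ := FibInjH6.exists_module_model' (B₁ := MvPolynomial (Fin n) R₀)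
    (B₀ := MvPolynomial (Fin n) R) F πF hπF wF₀ (hspan πF gF hexF wF₀ hwF₀)
  obtain ⟨fG, hfG, hfG'⟩ := FibInjH6.exists_module_model' (B₁ := MvPolynomial (Fin n) R₀)
    (B₀ := MvPolynomial (Fin n) R) G πG hπG wG₀ (hspan πG gG hexG wG₀ hwG₀)
  obtain ⟨fH, hfH, hfH'⟩ := FibInjH6.exists_module_model' (B₁ := MvPolynomial (Fin n) R₀)
    (B₀ := MvPolynomial (Fin n) R) H πH hπH wH₀ (hspan πH gH hexH wH₀ hwH₀)
  -- entrywise extension of scalars on vectors
  have hext : ∀ {m m' : ℕ} (M₀ : Fin m → Fin m' → MvPolynomial (Fin n) R₀)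
      (M : Fin m → Fin m' → MvPolynomial (Fin n) R)
      (_ : ∀ k i, MvPolynomial.map (algebraMap R₀ R) (M₀ k i) = M k i) (k : Fin m),
      (Algebra.linearMap (MvPolynomial (Fin n) R₀) (MvPolynomial (Fin n) R)).compLeft (Fin m')
        (M₀ k) = M k := by
    intro m m' M₀ M hM k
    funext i
    exact hM k i
  have hextinj : ∀ m : ℕ, Function.Injective
      ((Algebra.linearMap (MvPolynomial (Fin n) R₀) (MvPolynomial (Fin n) R)).compLeft (Fin m)) := by
    intro m x y hxy
    funext i
    exact hinj (congrFun hxy i)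
  have hrel : ∀ {m₁ m₂ m₃ m₄ : ℕ}
      (X₀ : Fin m₁ → Fin m₂ → MvPolynomial (Fin n) R₀) (X : Fin m₁ → Fin m₂ → MvPolynomial (Fin n) R)
      (_ : ∀ k i, MvPolynomial.map (algebraMap R₀ R) (X₀ k i) = X k i)
      (w₀ : Fin m₃ → Fin m₁ → MvPolynomial (Fin n) R₀) (w : Fin m₃ → Fin m₁ → MvPolynomial (Fin n) R)
      (_ : ∀ k i, MvPolynomial.map (algebraMap R₀ R) (w₀ k i) = w k i)
      (w'₀ : Fin m₄ → Fin m₂ → MvPolynomial (Fin n) R₀) (w' : Fin m₄ → Fin m₂ → MvPolynomial (Fin n) R)
      (_ : ∀ k i, MvPolynomial.map (algebraMap R₀ R) (w'₀ k i) = w' k i)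
      (Y₀ : Fin m₃ → Fin m₄ → MvPolynomial (Fin n) R₀) (Y : Fin m₃ → Fin m₄ → MvPolynomial (Fin n) R)
      (_ : ∀ k i, MvPolynomial.map (algebraMap R₀ R) (Y₀ k i) = Y k i)
      (_ : ∀ k, Fintype.linearCombination (MvPolynomial (Fin n) R) w' (Y k) =
        Fintype.linearCombination (MvPolynomial (Fin n) R) X (w k)) (k : Fin m₃),
      Fintype.linearCombination (MvPolynomial (Fin n) R₀) X₀ (w₀ k) =
        Fintype.linearCombination (MvPolynomial (Fin n) R₀) w'₀ (Y₀ k) := by
    intro m₁ m₂ m₃ m₄ X₀ X hX w₀ w hw w'₀ w' hw' Y₀ Y hY hrel k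
    apply hextinj
    rw [compLeft_linearCombination, compLeft_linearCombination]
    have e1 : (fun i => (Algebra.linearMap (MvPolynomial (Fin n) R₀)
        (MvPolynomial (Fin n) R)).compLeft (Fin m₂) (X₀ i)) = X := funext fun i => hext X₀ X hX i
    have e2 : (fun i => (Algebra.linearMap (MvPolynomial (Fin n) R₀)
        (MvPolynomial (Fin n) R)).compLeft (Fin m₂) (w'₀ i)) = w' :=
      funext fun i => hext w'₀ w' hw' i
    rw [e1, e2, hext w₀ w hw k, hext Y₀ Y hY k]
    exact (hrel k).symm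
  obtain ⟨u₀, hu₀⟩ := exists_map_model πF πG wF₀ wG₀ fF fG hfF' hfG' u U₀
    (fun i => by rw [hext U₀ U hU₀ i]; exact hU i) C₀
    (hrel U₀ U hU₀ wF₀ wF hwF₀ wG₀ wG hwG₀ C₀ C hC₀ (fun k => by rw [← hlc gG, hC]))
  obtain ⟨v₀, hv₀⟩ := exists_map_model πG πH wG₀ wH₀ fG fH hfG' hfH' v V₀
    (fun i => by rw [hext V₀ V hV₀ i]; exact hV i) C'₀
    (hrel V₀ V hV₀ wG₀ wG hwG₀ wH₀ wH hwH₀ C'₀ C' hC'₀ (fun k => by rw [← hlc gH, hC']))
  exact isConstructible_exLocus_of_model u v u₀ v₀ hfF hfG hfH hu₀ hv₀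

end Poly

end Groth.Agent.Lib.ConsExactH8
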