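import Mathlib
import Groth.Agent.Lib.GenFreeF_helper8

/-!
# Closure in fibres, algebra core (helper7)

`A` a domain, `B` an `A`-algebra of finite type.  For a prime `p` of `B` and `b ∉ p` there is
`a ≠ 0` in `A` such that over every prime `q ∌ a` of `A`, the fibre of `V(p) ∩ D(b)` is dense in
the fibre of `V(p)` (`core`).  Consequently closure of a constructible subset of `Spec B` commutes
with passing to fibres over a dense open of `Spec A` (`affClosure`).
-/

set_option autoImplicit false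
set_option linter.unusedVariables false
set_option linter.style.haveILetI false
universe u
open TensorProduct Topology

namespace Groth.Agent.Lib.ConsFibH7

section Retraction

variable {A : Type u} [CommRing A] {C : Type u} [CommRing C] [Algebra A C] [IsDomain C]

/-- if `C ⧸ (b)` becomes projective after inverting `a`, multiplication by `b` on `C_a` has an
`A`-linear retraction. -/
theorem exists_retraction (a : A) (b : C) (hb : b ≠ 0)
    (hproj : Module.Projective (Localization.Away a)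
      (Localization.Away a ⊗[A] (C ⧸ Ideal.span {b}))) :
    ∃ σ : (Localization.Away a ⊗[A] C) →ₗ[A] (Localization.Away a ⊗[A] C),
      ∀ x : C, σ ((1 : Localization.Away a) ⊗ₜ[A] (b * x)) = 1 ⊗ₜ[A] x := by
  obtain ⟨μ, hμdef⟩ : ∃ μ : C →ₗ[A] C, ∀ x, μ x = b * x :=
    ⟨LinearMap.mulLeft A b, fun x => rfl⟩
  obtain ⟨π, hπdef⟩ : ∃ π : C →ₗ[A] (C ⧸ Ideal.span {b}),
      ∀ x, π x = Ideal.Quotient.mk (Ideal.span {b}) x :=
    ⟨(Ideal.Quotient.mkₐ A (Ideal.span {b})).toLinearMap, fun x => rfl⟩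
  have hμ : Function.Injective μ := fun x y h => by
    rw [hμdef, hμdef] at h
    exact mul_left_cancel₀ hb h
  have hπ : Function.Surjective π := fun y => by
    obtain ⟨x, rfl⟩ := Ideal.Quotient.mk_surjective y
    exact ⟨x, hπdef x⟩
  have hex : Function.Exact μ π := by
    intro y
    rw [hπdef]
    constructor
    · intro hy
      have h1 : y ∈ Ideal.span {b} := Ideal.Quotient.eq_zero_iff_mem.mp hy
      obtain ⟨x, rfl⟩ := Ideal.mem_span_singleton'.mp h1
      exact ⟨x, by rw [hμdef, mul_comm]⟩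
    · rintro ⟨x, rfl⟩
      rw [hμdef]
      exact Ideal.Quotient.eq_zero_iff_mem.mpr
        (Ideal.mem_span_singleton'.mpr ⟨x, mul_comm x b⟩)
  have hμ' : Function.Injective (μ.baseChange (Localization.Away a)) := by
    have := Module.Flat.lTensor_preserves_injective_linearMap (M := Localization.Away a) μ hμ
    exact this
  have hπ' : Function.Surjective (π.baseChange (Localization.Away a)) := by
    have := LinearMap.lTensor_surjective (Localization.Away a) hπ
    exact this
  have hex' : Function.Exact (μ.baseChange (Localization.Away a))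
      (π.baseChange (Localization.Away a)) := by
    have := lTensor_exact (Localization.Away a) hex hπ
    exact this
  obtain ⟨s, hs⟩ := Module.projective_lifting_property (π.baseChange (Localization.Away a))
    LinearMap.id hπ'
  obtain ⟨-, l, hl⟩ := ((hex'.split_tfae').out 0 1 rfl rfl).mp ⟨hμ', s, hs⟩
  refine ⟨l.restrictScalars A, fun x => ?_⟩
  have h1 : (μ.baseChange (Localization.Away a)) ((1 : Localization.Away a) ⊗ₜ[A] x) =
      (1 : Localization.Away a) ⊗ₜ[A] (b * x) := by
    rw [LinearMap.baseChange_tmul, hμdef]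
  rw [← h1]
  exact LinearMap.congr_fun hl _

/-- consequence: `b`-torsion modulo an extended ideal is killed by a power of `a`. -/
theorem exists_pow_mul_mem (a : A) (b : C) (hb : b ≠ 0)
    (hproj : Module.Projective (Localization.Away a)
      (Localization.Away a ⊗[A] (C ⧸ Ideal.span {b})))
    (q : Ideal A) (x : C) (hx : b * x ∈ q.map (algebraMap A C)) :
    ∃ n : ℕ, algebraMap A C (a ^ n) * x ∈ q.map (algebraMap A C) := by
  obtain ⟨σ, hσ⟩ := exists_retraction a b hb hproj
  -- membership in `q • ⊤`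
  have h1 : b * x ∈ q • (⊤ : Submodule A C) := by
    rw [Ideal.smul_top_eq_map]
    exact hx
  have h2 : (TensorProduct.mk A (Localization.Away a) C 1) (b * x) ∈
      q • (⊤ : Submodule A (Localization.Away a ⊗[A] C)) := by
    have h3 : (TensorProduct.mk A (Localization.Away a) C 1) (b * x) ∈
        (q • (⊤ : Submodule A C)).map (TensorProduct.mk A (Localization.Away a) C 1) :=
      Submodule.mem_map_of_mem h1
    rw [Submodule.map_smul''] at h3
    exact Submodule.smul_mono le_rfl le_top h3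
  have h4 : σ ((TensorProduct.mk A (Localization.Away a) C 1) (b * x)) ∈
      q • (⊤ : Submodule A (Localization.Away a ⊗[A] C)) := by
    have h5 : σ ((TensorProduct.mk A (Localization.Away a) C 1) (b * x)) ∈
        (q • (⊤ : Submodule A (Localization.Away a ⊗[A] C))).map σ :=
      Submodule.mem_map_of_mem h2
    rw [Submodule.map_smul''] at h5
    exact Submodule.smul_mono le_rfl le_top h5
  have h6 : (1 : Localization.Away a) ⊗ₜ[A] x ∈
      q • (⊤ : Submodule A (Localization.Away a ⊗[A] C)) := by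
    have := hσ x
    rw [← this]
    exact h4
  -- descend along the quotient
  obtain ⟨πq, hπq⟩ : ∃ πq : C →ₗ[A] (C ⧸ (q • (⊤ : Submodule A C))),
      πq = (q • (⊤ : Submodule A C)).mkQ := ⟨_, rfl⟩
  have hkill : ∀ (r : A), r ∈ q → ∀ z : Localization.Away a ⊗[A] (C ⧸ (q • (⊤ : Submodule A C))),
      r • z = 0 := by
    intro r hr z
    induction z using TensorProduct.induction_on with
    | zero => exact smul_zero r
    | tmul u c =>
      obtain ⟨c, rfl⟩ := Submodule.Quotient.mk_surjective _ c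
      rw [← TensorProduct.tmul_smul, ← Submodule.Quotient.mk_smul,
        (Submodule.Quotient.mk_eq_zero _).mpr (Submodule.smul_mem_smul hr Submodule.mem_top),
        TensorProduct.tmul_zero]
    | add y z hy hz => rw [smul_add, hy, hz, add_zero]
  have hle : q • (⊤ : Submodule A (Localization.Away a ⊗[A] C)) ≤
      LinearMap.ker (πq.lTensor (Localization.Away a)) := by
    rw [Submodule.smul_le]
    intro r hr d _
    rw [LinearMap.mem_ker, map_smul]
    exact hkill r hr _
  have h7 : (πq.lTensor (Localization.Away a)) ((1 : Localization.Away a) ⊗ₜ[A] x) = 0 :=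
    hle h6
  rw [LinearMap.lTensor_tmul] at h7
  have h8 : (TensorProduct.mk A (Localization.Away a) (C ⧸ (q • (⊤ : Submodule A C))) 1)
      (πq x) = 0 := h7
  rw [IsLocalizedModule.eq_zero_iff (Submonoid.powers a)] at h8
  obtain ⟨⟨_, n, rfl⟩, hn⟩ := h8
  refine ⟨n, ?_⟩
  have h9 : (a ^ n) • πq x = 0 := hn
  rw [← map_smul, hπq, Submodule.mkQ_apply, Submodule.Quotient.mk_eq_zero,
    Ideal.smul_top_eq_map] at h9
  have h10 : (a ^ n) • x ∈ q.map (algebraMap A C) := h9
  rwa [Algebra.smul_def] at h10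

end Retraction

section Core

variable {A B : Type u} [CommRing A] [IsDomain A] [CommRing B] [Algebra A B]
  [Algebra.FiniteType A B]

/-- the density statement for one pair `(p, b)` and a given `a` -/
def Good (p : Ideal B) (b : B) (a : A) : Prop :=
  ∀ (P : Ideal B), P.IsPrime → p ≤ P → algebraMap A B a ∉ P →
    ∀ h : B, h ∉ P → ∃ P' : Ideal B, P'.IsPrime ∧ p ≤ P' ∧ b ∉ P' ∧ h ∉ P' ∧
      P'.comap (algebraMap A B) = P.comap (algebraMap A B)

omit [IsDomain A] [Algebra.FiniteType A B] in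
theorem Good.of_dvd {p : Ideal B} {b : B} {a a' : A} (h : Good p b a) (hd : a ∣ a') :
    Good p b a' := by
  intro P hP hpP haP
  refine h P hP hpP (fun ha => haP ?_)
  obtain ⟨c, rfl⟩ := hd
  rw [map_mul]
  exact P.mul_mem_right _ ha

theorem core (p : Ideal B) [hp : p.IsPrime] (b : B) (hb : b ∉ p) :
    ∃ a : A, a ≠ 0 ∧ Good p b a := by
  haveI : Algebra.FiniteType A (B ⧸ p) :=
    Algebra.FiniteType.of_surjective (Ideal.Quotient.mkₐ A p) Ideal.Quotient.mk_surjective
  have hb0 : Ideal.Quotient.mk p b ≠ 0 := fun h => hb (Ideal.Quotient.eq_zero_iff_mem.mp h)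
  obtain ⟨a, ha0, hfree, -, -, -⟩ := GenFreeH8.generic_freeness (R := A) (S := B ⧸ p)
    ((B ⧸ p) ⧸ Ideal.span {Ideal.Quotient.mk p b})
  haveI := hfree
  have hproj : Module.Projective (Localization.Away a)
      (Localization.Away a ⊗[A] ((B ⧸ p) ⧸ Ideal.span {Ideal.Quotient.mk p b})) := inferInstance
  refine ⟨a, ha0, ?_⟩
  intro P hP hpP haP h hhP
  haveI := hP
  have hcomp : algebraMap A (B ⧸ p) = (Ideal.Quotient.mk p).comp (algebraMap A B) := rfl
  obtain ⟨q, hq⟩ : ∃ q : Ideal A, q = P.comap (algebraMap A B) := ⟨_, rfl⟩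
  haveI hqP : q.IsPrime := by rw [hq]; infer_instance
  have haq : a ∉ q := by rw [hq]; exact haP
  obtain ⟨J, hJ⟩ : ∃ J : Ideal (B ⧸ p), J = q.map (algebraMap A (B ⧸ p)) := ⟨_, rfl⟩
  -- (F1)
  have hF1 : ∀ y : B, Ideal.Quotient.mk p y ∈ J → y ∈ P := by
    intro y hy
    have hJle : J ≤ P.map (Ideal.Quotient.mk p) := by
      rw [hJ, hcomp, ← Ideal.map_map]
      apply Ideal.map_mono
      rw [hq]
      exact Ideal.map_comap_le
    obtain ⟨z, hzP, hz⟩ := (Ideal.mem_map_iff_of_surjective (Ideal.Quotient.mk p)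
      Ideal.Quotient.mk_surjective).mp (hJle hy)
    have h1 : z - y ∈ p := Ideal.Quotient.eq.mp hz
    have h2 : y = z - (z - y) := by ring
    rw [h2]
    exact P.sub_mem hzP (hpP h1)
  -- (F2)
  have hF2 : ∀ c : B ⧸ p, Ideal.Quotient.mk p b * c ∈ J →
      ∃ n : ℕ, algebraMap A (B ⧸ p) (a ^ n) * c ∈ J := by
    intro c hc
    rw [hJ] at hc ⊢
    exact exists_pow_mul_mem a _ hb0 hproj q c hc
  -- induction
  have hind : ∀ (n m : ℕ) (t : A), t ∉ q →
      algebraMap A (B ⧸ p) t * Ideal.Quotient.mk p h ^ n * Ideal.Quotient.mk p b ^ m ∉ J := by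
    intro n m
    induction m with
    | zero =>
      intro t ht hmem
      rw [pow_zero, mul_one, hcomp, RingHom.comp_apply, ← map_pow, ← map_mul] at hmem
      have h1 := hF1 _ hmem
      rcases hP.mem_or_mem h1 with h2 | h2
      · exact ht (by rw [hq]; exact h2)
      · exact hhP (hP.mem_of_pow_mem n h2)
    | succ m ih =>
      intro t ht hmem
      have h1 : Ideal.Quotient.mk p b * (algebraMap A (B ⧸ p) t * Ideal.Quotient.mk p h ^ n *
          Ideal.Quotient.mk p b ^ m) ∈ J := by
        have : Ideal.Quotient.mk p b * (algebraMap A (B ⧸ p) t * Ideal.Quotient.mk p h ^ n *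
          Ideal.Quotient.mk p b ^ m) = algebraMap A (B ⧸ p) t * Ideal.Quotient.mk p h ^ n *
            Ideal.Quotient.mk p b ^ (m + 1) := by ring
        rw [this]
        exact hmem
      obtain ⟨k, hk⟩ := hF2 _ h1
      have h2 : a ^ k * t ∉ q := fun h3 => by
        rcases hqP.mem_or_mem h3 with h4 | h4
        · exact haq (hqP.mem_of_pow_mem k h4)
        · exact ht h4
      refine ih (a ^ k * t) h2 ?_
      have : algebraMap A (B ⧸ p) (a ^ k * t) * Ideal.Quotient.mk p h ^ n *
          Ideal.Quotient.mk p b ^ m = algebraMap A (B ⧸ p) (a ^ k) *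
            (algebraMap A (B ⧸ p) t * Ideal.Quotient.mk p h ^ n * Ideal.Quotient.mk p b ^ m) := by
        rw [map_mul]; ring
      rw [this]
      exact hk
  -- disjointness
  obtain ⟨T, hT⟩ : ∃ T : Submonoid (B ⧸ p), T = Submonoid.map (algebraMap A (B ⧸ p)) q.primeCompl ⊔
      Submonoid.powers (Ideal.Quotient.mk p h * Ideal.Quotient.mk p b) := ⟨_, rfl⟩
  have hdisj : Disjoint (J : Set (B ⧸ p)) T := by
    rw [Set.disjoint_left]
    intro c hcJ hcT
    rw [hT] at hcT
    obtain ⟨y, hy, z, hz, rfl⟩ := Submonoid.mem_sup.mp hcT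
    obtain ⟨t, ht, rfl⟩ := Submonoid.mem_map.mp hy
    obtain ⟨n, rfl⟩ := Submonoid.mem_powers_iff _ _ |>.mp hz
    refine hind n n t ht ?_
    have : algebraMap A (B ⧸ p) t * Ideal.Quotient.mk p h ^ n * Ideal.Quotient.mk p b ^ n =
        algebraMap A (B ⧸ p) t * (Ideal.Quotient.mk p h * Ideal.Quotient.mk p b) ^ n := by
      rw [mul_pow]; ring
    rw [this]
    exact hcJ
  obtain ⟨P'c, hP'c, hJP', hdisj'⟩ := Ideal.exists_le_prime_disjoint J T hdisj
  haveI := hP'c
  have hmemT : Ideal.Quotient.mk p h * Ideal.Quotient.mk p b ∈ T := by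
    rw [hT]
    exact Submonoid.mem_sup_right (Submonoid.mem_powers _)
  have hnot : Ideal.Quotient.mk p h * Ideal.Quotient.mk p b ∉ P'c := fun hmem =>
    Set.disjoint_left.mp hdisj' hmem hmemT
  refine ⟨P'c.comap (Ideal.Quotient.mk p), inferInstance, ?_, ?_, ?_, ?_⟩
  · intro y hy
    rw [Ideal.mem_comap, Ideal.Quotient.eq_zero_iff_mem.mpr hy]
    exact P'c.zero_mem
  · intro hmem
    exact hnot (P'c.mul_mem_left _ hmem)
  · intro hmem
    exact hnot (P'c.mul_mem_right _ hmem)
  · rw [Ideal.comap_comap, ← hcomp, ← hq]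
    apply le_antisymm
    · intro t ht
      by_contra htq
      have h1 : algebraMap A (B ⧸ p) t ∈ T := by
        rw [hT]
        exact Submonoid.mem_sup_left (Submonoid.mem_map_of_mem _ htq)
      exact Set.disjoint_left.mp hdisj' ht h1
    · intro t ht
      rw [Ideal.mem_comap]
      apply hJP'
      rw [hJ]
      exact Ideal.mem_map_of_mem _ ht

end Core

section Closure

variable {A B : Type u} [CommRing A] [IsDomain A] [CommRing B] [Algebra A B]
  [Algebra.FiniteType A B] [IsNoetherianRing B]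

/-- **Closure commutes with fibres generically**, affine form. -/
theorem affClosure (Z : Set (PrimeSpectrum B)) (hZ : IsConstructible Z) :
    ∃ a : A, a ≠ 0 ∧ ∀ x ∈ closure Z, algebraMap A B a ∉ x.asIdeal →
      x ∈ closure (Z ∩ PrimeSpectrum.comap (algebraMap A B) ⁻¹'
        {PrimeSpectrum.comap (algebraMap A B) x}) := by
  classical
  obtain ⟨S, rfl⟩ := PrimeSpectrum.exists_constructibleSetData_iff.mpr hZ
  obtain ⟨T, hTdef⟩ : ∃ T : Set (Ideal B × B), T = {t | ∃ C ∈ S,
      t.1 ∈ (Ideal.span (Set.range C.g)).minimalPrimes ∧ t.2 = C.f ∧ C.f ∉ t.1} := ⟨_, rfl⟩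
  have hTfin : T.Finite := by
    have h1 : (⋃ C ∈ S, (fun p : Ideal B => (p, C.f)) ''
        (Ideal.span (Set.range C.g)).minimalPrimes).Finite :=
      Set.Finite.biUnion S.finite_toSet (fun C _ =>
        (Ideal.finite_minimalPrimes_of_isNoetherianRing B _).image _)
    refine h1.subset ?_
    rw [hTdef]
    rintro ⟨p, f⟩ ⟨C, hC, hp, hf, -⟩
    simp only [Set.mem_iUnion, Set.mem_image]
    exact ⟨C, hC, p, hp, by rw [← hf]⟩
  have hex : ∀ t : Ideal B × B, ∃ a : A, a ≠ 0 ∧ (t ∈ T → Good t.1 t.2 a) := by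
    intro t
    by_cases ht : t ∈ T
    · have ht' := ht
      rw [hTdef] at ht'
      obtain ⟨C, hC, hp, hf, hfp⟩ := ht'
      haveI : t.1.IsPrime := hp.isPrime
      obtain ⟨a, ha0, ha⟩ := core (A := A) t.1 t.2 (by rw [hf]; exact hfp)
      exact ⟨a, ha0, fun _ => ha⟩
    · exact ⟨1, one_ne_zero, fun h => absurd h ht⟩
  choose f hf0 hfG using hex
  refine ⟨∏ t ∈ hTfin.toFinset, f t, Finset.prod_ne_zero_iff.mpr (fun t _ => hf0 t), ?_⟩
  intro x hx hax
  have hgood : ∀ t ∈ T, Good t.1 t.2 (∏ t ∈ hTfin.toFinset, f t) := fun t ht =>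
    (hfG t ht).of_dvd (Finset.dvd_prod_of_mem f (hTfin.mem_toFinset.mpr ht))
  -- the closed set `K`
  have hK : IsClosed (⋃ t ∈ T, PrimeSpectrum.zeroLocus (t.1 : Set B)) :=
    hTfin.isClosed_biUnion (fun t _ => PrimeSpectrum.isClosed_zeroLocus _)
  have hsub : S.toSet ⊆ ⋃ t ∈ T, PrimeSpectrum.zeroLocus (t.1 : Set B) := by
    intro y hy
    rw [PrimeSpectrum.ConstructibleSetData.toSet] at hy
    obtain ⟨C, hC, hyC⟩ := Set.mem_iUnion₂.mp hy
    rw [PrimeSpectrum.BasicConstructibleSetData.toSet] at hyC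
    obtain ⟨hy1, hy2⟩ := hyC
    have h1 : Ideal.span (Set.range C.g) ≤ y.asIdeal := by
      rw [Ideal.span_le]
      exact (PrimeSpectrum.mem_zeroLocus _ _).mp hy1
    obtain ⟨p, hp, hpy⟩ := Ideal.exists_minimalPrimes_le h1
    have h2 : C.f ∉ y.asIdeal := fun h3 => hy2 (by
      rw [PrimeSpectrum.mem_zeroLocus, Set.singleton_subset_iff]
      exact h3)
    refine Set.mem_iUnion₂.mpr ⟨(p, C.f), ?_, ?_⟩
    · rw [hTdef]
      exact ⟨C, hC, hp, rfl, fun h3 => h2 (hpy h3)⟩
    · rw [PrimeSpectrum.mem_zeroLocus]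
      exact hpy
  obtain ⟨t, htT, hxt⟩ := Set.mem_iUnion₂.mp (closure_minimal hsub hK hx)
  rw [PrimeSpectrum.mem_zeroLocus] at hxt
  have htT' := htT
  rw [hTdef] at htT'
  obtain ⟨C, hC, hp, hf, hfp⟩ := htT'
  rw [PrimeSpectrum.isTopologicalBasis_basic_opens.mem_closure_iff]
  rintro _ ⟨h, rfl⟩ hxh
  have hxh' : h ∉ x.asIdeal := hxh
  obtain ⟨P', hP', hpP', hbP', hhP', hcomap⟩ :=
    hgood t htT x.asIdeal x.2 hxt hax h hxh'
  refine ⟨⟨P', hP'⟩, ?_, ?_, ?_⟩
  · exact hhP'
  · rw [PrimeSpectrum.ConstructibleSetData.toSet]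
    refine Set.mem_iUnion₂.mpr ⟨C, hC, ?_⟩
    rw [PrimeSpectrum.BasicConstructibleSetData.toSet]
    refine ⟨?_, ?_⟩
    · rw [PrimeSpectrum.mem_zeroLocus]
      exact (Ideal.span_le.mp hp.le).trans hpP'
    · intro h3
      rw [PrimeSpectrum.mem_zeroLocus, Set.singleton_subset_iff] at h3
      rw [← hf] at h3
      exact hbP' h3
  · rw [Set.mem_preimage, Set.mem_singleton_iff]
    exact PrimeSpectrum.ext hcomap

end Closure

end Groth.Agent.Lib.ConsFibH7
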