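import Mathlib
import Groth.Agent.Lib.ConsFib1_helper7
import Groth.Agent.Lib.ConsProp1_helper7
import Groth.Agent.Lib.Constr_lead

/-!
# Closure in fibres, scheme form (helper7)

* `exists_open_closure_fibre`: for `w : W ⟶ S` of finite type over an integral Noetherian scheme
  and `Z ⊆ W` constructible, closure of `Z` commutes with passing to the fibres over a nonempty
  open of `S` (EGA IV 9.5.3).
* `FibClosed`, `dichotomy_fibClosed`: the set of `s` with `Z ∩ w⁻¹(s)` closed in `w⁻¹(s)` contains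
  a nonempty open or its complement does.
* `isClosed_preimage_iff_fibClosed`: translation to a scheme-theoretic fibre.
-/

set_option autoImplicit false
set_option linter.unusedVariables false
set_option linter.style.haveILetI false
universe u
open CategoryTheory CategoryTheory.Limits AlgebraicGeometry TopologicalSpace Topology

namespace Groth.Agent.Lib.ConsFibH7

theorem affine_piece {W S : Scheme.{u}} (w : W ⟶ S) [LocallyOfFiniteType w]
    [IsLocallyNoetherian W]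
    (U₀ : S.Opens) (hU₀ : IsAffineOpen U₀) [IsDomain Γ(S, U₀)] (V : W.Opens) (hV : IsAffineOpen V)
    (e : V ≤ w ⁻¹ᵁ U₀) (Z : Set W) (hZ : IsConstructible Z) :
    ∃ a : Γ(S, U₀), a ≠ 0 ∧ ∀ x ∈ closure Z, x ∈ V → w x ∈ S.basicOpen a →
      x ∈ closure (Z ∩ w ⁻¹' {w x}) := by
  obtain ⟨φ, hφ⟩ : ∃ φ : Γ(S, U₀) →+* Γ(W, V), φ = (w.appLE U₀ V e).hom := ⟨_, rfl⟩
  letI : Algebra Γ(S, U₀) Γ(W, V) := φ.toAlgebra
  have hft : Algebra.FiniteType Γ(S, U₀) Γ(W, V) := by
    have h1 : RingHom.FiniteType (w.appLE U₀ V e).hom :=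
      w.finiteType_appLE hU₀ hV e
    rw [← hφ] at h1
    exact h1
  haveI := hft
  haveI : IsNoetherianRing Γ(W, V) := IsLocallyNoetherian.component_noetherian ⟨V, hV⟩
  have hZV : IsConstructible (hV.fromSpec ⁻¹' Z : Set (PrimeSpectrum Γ(W, V))) :=
    hV.fromSpec.isConstructible_preimage hZ
  obtain ⟨a, ha0, ha⟩ := affClosure (A := Γ(S, U₀)) (B := Γ(W, V)) _ hZV
  refine ⟨a, ha0, ?_⟩
  intro x hx hxV hwx
  have hsq : ∀ y : PrimeSpectrum Γ(W, V),
      w (hV.fromSpec y) = hU₀.fromSpec (PrimeSpectrum.comap φ y) := by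
    intro y
    have h1 := IsAffineOpen.SpecMap_appLE_fromSpec w hU₀ hV e
    have h2 := congrArg (fun ψ : Spec Γ(W, V) ⟶ S => ψ y) h1
    simp only [Scheme.Hom.comp_apply] at h2
    rw [← h2, hφ]
    rfl
  obtain ⟨x', rfl⟩ : ∃ x' : PrimeSpectrum Γ(W, V), hV.fromSpec x' = x := by
    have : x ∈ Set.range hV.fromSpec := by
      rw [hV.range_fromSpec]
      exact hxV
    exact this
  have hx' : x' ∈ closure (hV.fromSpec ⁻¹' Z : Set (PrimeSpectrum Γ(W, V))) := by
    have h1 := hV.fromSpec.isOpenEmbedding.isOpenMap.preimage_closure_eq_closure_preimage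
      hV.fromSpec.continuous Z
    have h2 : x' ∈ hV.fromSpec ⁻¹' closure Z := hx
    rw [h1] at h2
    exact h2
  have hax' : algebraMap Γ(S, U₀) Γ(W, V) a ∉ x'.asIdeal := by
    rw [hsq] at hwx
    have h3 : PrimeSpectrum.comap φ x' ∈ hU₀.fromSpec ⁻¹ᵁ S.basicOpen a := hwx
    rw [hU₀.fromSpec_preimage_basicOpen] at h3
    exact h3
  have h4 := ha x' hx' hax'
  refine map_mem_closure hV.fromSpec.continuous h4 ?_
  rintro y ⟨hyZ, hyf⟩
  refine ⟨hyZ, ?_⟩
  have hyf' : PrimeSpectrum.comap φ y = PrimeSpectrum.comap φ x' := hyf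
  rw [Set.mem_preimage, Set.mem_singleton_iff, hsq, hsq, hyf']

/-- **EGA IV 9.5.3**: closure commutes with fibres over a nonempty open of the base. -/
theorem exists_open_closure_fibre {W S : Scheme.{u}} [IsIntegral S] [IsNoetherian S] (w : W ⟶ S)
    [LocallyOfFiniteType w] [QuasiCompact w] (Z : Set W) (hZ : IsConstructible Z) :
    ∃ U : S.Opens, (U : Set S).Nonempty ∧ ∀ x ∈ closure Z, w x ∈ U →
      x ∈ closure (Z ∩ w ⁻¹' {w x}) := by
  haveI : IsLocallyNoetherian W := LocallyOfFiniteType.isLocallyNoetherian w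
  obtain ⟨_, ⟨U₀, hU₀, rfl⟩, hηU₀, -⟩ :=
    S.isBasis_affineOpens.exists_subset_of_mem_open (Set.mem_univ (genericPoint S)) isOpen_univ
  haveI : IsDomain Γ(S, U₀) :=
    @IsIntegral.component_integral S _ U₀ ⟨⟨genericPoint S, hηU₀⟩⟩
  have hcomp : IsCompact ((w ⁻¹ᵁ U₀ : W.Opens) : Set W) := w.isCompact_preimage hU₀.isCompact
  obtain ⟨t, ht⟩ := hcomp.elim_finite_subcover
    (fun V : {V : W.affineOpens // (V : W.Opens) ≤ w ⁻¹ᵁ U₀} => ((V.1 : W.Opens) : Set W))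
    (fun V => V.1.1.2) (by
      intro x hx
      obtain ⟨_, ⟨V, hV, rfl⟩, hxV, hVsub⟩ :=
        W.isBasis_affineOpens.exists_subset_of_mem_open hx (w ⁻¹ᵁ U₀).2
      exact Set.mem_iUnion.mpr ⟨⟨⟨V, hV⟩, SetLike.coe_subset_coe.mp hVsub⟩, hxV⟩)
  have hex : ∀ V : {V : W.affineOpens // (V : W.Opens) ≤ w ⁻¹ᵁ U₀}, ∃ a : Γ(S, U₀), a ≠ 0 ∧
      ∀ x ∈ closure Z, x ∈ (V.1 : W.Opens) → w x ∈ S.basicOpen a →
        x ∈ closure (Z ∩ w ⁻¹' {w x}) :=
    fun V => affine_piece w U₀ hU₀ V.1.1 V.1.2 V.2 Z hZ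
  choose f hf0 hf using hex
  refine ⟨S.basicOpen (∏ V ∈ t, f V), ?_, ?_⟩
  · have hne : S.basicOpen (∏ V ∈ t, f V) ≠ ⊥ := by
      rw [Ne, basicOpen_eq_bot_iff]
      exact Finset.prod_ne_zero_iff.mpr (fun V _ => hf0 V)
    exact (TopologicalSpace.Opens.ne_bot_iff_nonempty _).mp hne
  · intro x hx hwx
    have hxU₀ : x ∈ ((w ⁻¹ᵁ U₀ : W.Opens) : Set W) := S.basicOpen_le _ hwx
    obtain ⟨V, hVt, hxV⟩ := Set.mem_iUnion₂.mp (ht hxU₀)
    refine hf V x hx hxV ?_
    obtain ⟨c, hc⟩ := Finset.dvd_prod_of_mem f hVt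
    rw [hc, Scheme.basicOpen_mul] at hwx
    exact hwx.1

/-- `Z ∩ w⁻¹(s)` is closed in the fibre `w⁻¹(s)`. -/
def FibClosed {W S : Scheme.{u}} (w : W ⟶ S) (Z : Set W) (s : S) : Prop :=
  closure (Z ∩ w ⁻¹' {s}) ∩ w ⁻¹' {s} ⊆ Z

theorem dichotomy_fibClosed {W S : Scheme.{u}} [IsIntegral S] [IsNoetherian S] (w : W ⟶ S)
    [LocallyOfFiniteType w] [QuasiCompact w] (Z : Set W) (hZ : IsConstructible Z) (E : Set S)
    (hE : ∀ s, s ∈ E ↔ FibClosed w Z s) :
    (interior E).Nonempty ∨ (interior Eᶜ).Nonempty := by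
  haveI : IsLocallyNoetherian W := LocallyOfFiniteType.isLocallyNoetherian w
  haveI : CompactSpace W := QuasiCompact.compactSpace_of_compactSpace w
  haveI : IsNoetherian W := {}
  haveI : LocallyOfFinitePresentation w := inferInstance
  obtain ⟨U, hUne, hU⟩ := exists_open_closure_fibre w Z hZ
  have hcl : IsConstructible (closure Z \ Z) :=
    (Groth.Agent.Lib.ConsPropH7.isConstructible_of_isClosed_noeth isClosed_closure).sdiff hZ
  have hC : IsConstructible (w '' (closure Z \ Z))ᶜ := (w.isConstructible_image hcl).compl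
  have hiff : ∀ s ∈ U, (s ∈ E ↔ s ∈ (w '' (closure Z \ Z))ᶜ) := by
    intro s hs
    rw [hE]
    constructor
    · rintro hfc ⟨y, ⟨hy1, hy2⟩, rfl⟩
      have h1 := hU y hy1 hs
      exact hy2 (hfc ⟨h1, rfl⟩)
    · rintro hs' y ⟨hy1, hy2⟩
      by_contra hyZ
      refine hs' ⟨y, ⟨closure_mono Set.inter_subset_left hy1, hyZ⟩, hy2⟩
  obtain ⟨U', hU', hηU', hcase⟩ :=
    Groth.Agent.Lib.Constr_lead.exists_open_generic_of_isConstructible hC (genericPoint_spec S)
  have hηU : genericPoint S ∈ U := by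
    obtain ⟨z, hz⟩ := hUne
    exact ((genericPoint_spec S).mem_open_set_iff U.2).mpr ⟨z, trivial, hz⟩
  rcases hcase with h1 | h1
  · left
    refine ⟨genericPoint S, mem_interior.mpr ⟨U' ∩ U, ?_, hU'.inter U.2, hηU', hηU⟩⟩
    rintro s ⟨hs1, hs2⟩
    exact (hiff s hs2).mpr (h1 ⟨hs1, trivial⟩)
  · right
    refine ⟨genericPoint S, mem_interior.mpr ⟨U' ∩ U, ?_, hU'.inter U.2, hηU', hηU⟩⟩
    rintro s ⟨hs1, hs2⟩ hsE
    exact h1 ⟨hs1, trivial⟩ ((hiff s hs2).mp hsE)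

theorem isClosed_preimage_iff_of_isEmbedding {α β : Type*} [TopologicalSpace α]
    [TopologicalSpace β] {θ : α → β} (hθ : IsEmbedding θ) (F Q : Set β)
    (hF : Set.range θ = F) : IsClosed (θ ⁻¹' Q) ↔ closure (Q ∩ F) ∩ F ⊆ Q := by
  rw [hθ.isInducing.isClosed_iff]
  constructor
  · rintro ⟨K, hK, hKQ⟩ z ⟨hz1, hz2⟩
    have hsub : Q ∩ F ⊆ K := by
      rintro z' ⟨hz'Q, hz'F⟩
      rw [← hF] at hz'F
      obtain ⟨y, rfl⟩ := hz'F
      have : y ∈ θ ⁻¹' K := by rw [hKQ]; exact hz'Q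
      exact this
    have hzK : z ∈ K := closure_minimal hsub hK hz1
    rw [← hF] at hz2
    obtain ⟨y, rfl⟩ := hz2
    have : y ∈ θ ⁻¹' Q := by rw [← hKQ]; exact hzK
    exact this
  · intro h
    refine ⟨closure (Q ∩ F), isClosed_closure, ?_⟩
    ext y
    constructor
    · intro hy
      exact h ⟨hy, hF ▸ Set.mem_range_self y⟩
    · intro hy
      exact subset_closure ⟨hy, hF ▸ Set.mem_range_self y⟩

theorem isClosed_preimage_iff_fibClosed {P W S : Scheme.{u}} {w : W ⟶ S} {s : S} {θ : P ⟶ W}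
    {π : P ⟶ Spec (S.residueField s)} (sq : IsPullback θ π w (S.fromSpecResidueField s))
    (Q : Set W) : IsClosed (θ ⁻¹' Q) ↔ FibClosed w Q s := by
  haveI : IsPreimmersion θ :=
    MorphismProperty.of_isPullback (P := @IsPreimmersion) sq.flip inferInstance
  have hrange : Set.range θ = w ⁻¹' {s} := by
    have h1 := Scheme.image_preimage_eq_of_isPullback sq.flip (Set.univ)
    rw [Set.preimage_univ, Set.image_univ, Set.image_univ,
      Scheme.range_fromSpecResidueField] at h1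
    exact h1
  exact isClosed_preimage_iff_of_isEmbedding θ.isEmbedding _ Q hrange

end Groth.Agent.Lib.ConsFibH7
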