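import Mathlib
import Groth.Agent.Lib.ConsFib2_helper7
import Groth.Agent.Lib.ConsMor1_helper7
import Groth.Agent.Lib.SchDescent_helper6
import Groth.Agent.S9190

/-!
# Constructibility of the separated locus (helper7)

* `dichotomy_transfer`: the generic dichotomy can be checked after a dominant base change of finite
  type from an integral Noetherian scheme.
* `exists_generic_model`: a property which spreads out from limits and holds on the generic fibre
  holds after such a base change.
* `isSeparated_fiber_iff`, `isConsMor_isSeparated`, `main3424`.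
-/

set_option autoImplicit false
set_option linter.unusedVariables false
set_option linter.style.haveILetI false
universe u
open CategoryTheory CategoryTheory.Limits AlgebraicGeometry TopologicalSpace Topology

namespace Groth.Agent.Lib.ConsFibH7

open Groth.Agent.Lib.ConsPairH7 Groth.Agent.Lib.ConsPropH7 Groth.Agent.Lib.LimDescFPH7

section Transfer

theorem interior_nonempty_of_image {T S : Scheme.{u}} [IsIntegral T] [IsNoetherian T]
    [IsIntegral S] [IsNoetherian S] (β : T ⟶ S) [LocallyOfFiniteType β]
    (hβ : β (genericPoint T) = genericPoint S) (FT : Set T) (F : Set S)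
    (hF : ∀ s', s' ∈ FT → β s' ∈ F) (h : (interior FT).Nonempty) : (interior F).Nonempty := by
  haveI : QuasiCompact β := inferInstance
  haveI : LocallyOfFinitePresentation β := inferInstance
  have hV : IsConstructible (interior FT) :=
    isConstructible_of_isOpen_noeth isOpen_interior
  have hηV : genericPoint T ∈ interior FT := by
    obtain ⟨z, hz⟩ := h
    exact ((genericPoint_spec T).mem_open_set_iff isOpen_interior).mpr ⟨z, trivial, hz⟩
  have hcons : IsConstructible (β '' interior FT) := β.isConstructible_image hV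
  obtain ⟨U, hU, hηU, hcase⟩ :=
    Groth.Agent.Lib.Constr_lead.exists_open_generic_of_isConstructible hcons (genericPoint_spec S)
  have hηimg : genericPoint S ∈ β '' interior FT := ⟨genericPoint T, hηV, hβ⟩
  rcases hcase with h1 | h1
  · refine ⟨genericPoint S, mem_interior.mpr ⟨U, ?_, hU, hηU⟩⟩
    intro s hs
    obtain ⟨s', hs', rfl⟩ := h1 ⟨hs, trivial⟩
    exact hF s' (interior_subset hs')
  · exact absurd hηimg (h1 ⟨hηU, trivial⟩)

variable {P : ∀ ⦃X Y T : Scheme.{u}⦄, (X ⟶ Y) → (Y ⟶ T) → Prop}

theorem dichotomy_transfer (hP : ConsProp.IsFieldStableMor P) {X Y S : Scheme.{u}} (f : X ⟶ Y)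
    (g : Y ⟶ S) [IsIntegral S] [IsNoetherian S] [LocallyOfFiniteType g] [QuasiCompact g]
    [LocallyOfFiniteType (f ≫ g)] [QuasiCompact (f ≫ g)]
    {T XT YT : Scheme.{u}} [IsIntegral T] [IsNoetherian T] (β : T ⟶ S) [LocallyOfFiniteType β]
    (hβ : β (genericPoint T) = genericPoint S)
    (fT : XT ⟶ YT) (gT : YT ⟶ T) (pX : XT ⟶ X) (pY : YT ⟶ Y)
    (hY : IsPullback pY gT g β) (hX : IsPullback pX fT f pY)
    (hd : (interior (ConsProp.locusMor P fT gT)).Nonempty ∨
      (interior (ConsProp.locusMor P fT gT)ᶜ).Nonempty) :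
    (interior (ConsProp.locusMor P f g)).Nonempty ∨
      (interior (ConsProp.locusMor P f g)ᶜ).Nonempty := by
  have hlocus : ∀ s', s' ∈ ConsProp.locusMor P fT gT ↔ β s' ∈ ConsProp.locusMor P f g :=
    fun s' => locusMor_baseChange hP f g fT gT pX pY β hY hX s'
  rcases hd with h | h
  · left
    exact interior_nonempty_of_image β hβ _ _ (fun s' hs' => (hlocus s').mp hs') h
  · right
    exact interior_nonempty_of_image β hβ (ConsProp.locusMor P fT gT)ᶜ (ConsProp.locusMor P f g)ᶜ
      (fun s' hs' hc => hs' ((hlocus s').mpr hc)) h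

end Transfer

section Model

theorem exists_generic_model {Q : MorphismProperty Scheme.{u}} [Q.IsStableUnderBaseChange]
    (hdesc : DescendsIn Q) {X Y S : Scheme.{u}} (f : X ⟶ Y) (g : Y ⟶ S) [IsIntegral S]
    [IsNoetherian S] [LocallyOfFiniteType g] [QuasiCompact g] [LocallyOfFiniteType (f ≫ g)]
    [QuasiCompact (f ≫ g)]
    (hη : genericPoint S ∈ ConsProp.locusMor (fun X Y T f g => Q f) f g) :
    ∃ (T XT YT : Scheme.{u}) (_ : IsIntegral T) (_ : IsNoetherian T) (β : T ⟶ S)
      (_ : LocallyOfFiniteType β) (fT : XT ⟶ YT) (gT : YT ⟶ T) (pX : XT ⟶ X) (pY : YT ⟶ Y),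
      β (genericPoint T) = genericPoint S ∧ IsPullback pY gT g β ∧ IsPullback pX fT f pY ∧
        Q fT := by
  haveI : IsLocallyNoetherian Y := LocallyOfFiniteType.isLocallyNoetherian g
  haveI : QuasiSeparated g := QuasiSeparated.of_quasiSeparatedSpace g
  haveI : LocallyOfFinitePresentation g := inferInstance
  haveI : IsLocallyNoetherian X := LocallyOfFiniteType.isLocallyNoetherian (f ≫ g)
  haveI : QuasiSeparated (f ≫ g) := QuasiSeparated.of_quasiSeparatedSpace (f ≫ g)
  haveI : LocallyOfFinitePresentation (f ≫ g) := inferInstance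
  obtain ⟨_, ⟨U₀, hU₀, rfl⟩, hηU₀, -⟩ :=
    S.isBasis_affineOpens.exists_subset_of_mem_open (Set.mem_univ (genericPoint S)) isOpen_univ
  have hrange : Set.range (S.fromSpecResidueField (genericPoint S)) ⊆ (U₀ : Set S) := by
    rw [Scheme.range_fromSpecResidueField]
    intro z hz
    rw [Set.mem_singleton_iff.mp hz]
    exact hηU₀
  have hY := IsPullback.of_hasPullback g (S.fromSpecResidueField (genericPoint S))
  have hX := isPullback_fiberMap f g (genericPoint S)
  obtain ⟨S', Xs, Ys, β, t, fs, gs, pX, pY, haff, hlfp, htβ, hYs, hXs, hQs⟩ :=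
    exists_finiteType_model_mor hdesc f g (S.fromSpecResidueField (genericPoint S)) U₀ hU₀ hrange
      (MoreMor.fiberMap f g (genericPoint S)) (g.fiberToSpecResidueField (genericPoint S)) _ _
      hY hX hη
  haveI := haff
  haveI := hlfp
  haveI : IsLocallyNoetherian S' := LocallyOfFiniteType.isLocallyNoetherian β
  haveI : IsNoetherian S' := {}
  obtain ⟨t₀⟩ : Nonempty (Spec (S.residueField (genericPoint S))) := inferInstance
  have hβt : β (t t₀) = genericPoint S := by
    rw [← Scheme.Hom.comp_apply, htβ]
    have h1 : S.fromSpecResidueField (genericPoint S) t₀ ∈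
        Set.range (S.fromSpecResidueField (genericPoint S)) := ⟨t₀, rfl⟩
    rw [Scheme.range_fromSpecResidueField] at h1
    exact h1
  obtain ⟨I, hint, hnoeth, hgen, -⟩ := exists_red_closure (t t₀)
  haveI := hint
  haveI := hnoeth
  refine ⟨I.subscheme, pullback fs (pullback.fst gs I.subschemeι), pullback gs I.subschemeι,
    hint, hnoeth, I.subschemeι ≫ β, inferInstance,
    pullback.snd fs (pullback.fst gs I.subschemeι), pullback.snd gs I.subschemeι,
    pullback.fst fs (pullback.fst gs I.subschemeι) ≫ pX, pullback.fst gs I.subschemeι ≫ pY,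
    ?_, ?_, ?_, ?_⟩
  · rw [Scheme.Hom.comp_apply, hgen, hβt]
  · exact (IsPullback.of_hasPullback gs I.subschemeι).paste_horiz hYs
  · exact (IsPullback.of_hasPullback fs (pullback.fst gs I.subschemeι)).paste_horiz hXs
  · exact MorphismProperty.pullback_snd (P := Q) _ _ hQs

end Model

section Diagonal

theorem diag_facts {X' X Y' Y : Scheme.{u}} {pX : X' ⟶ X} {f' : X' ⟶ Y'} {f : X ⟶ Y}
    {e : Y' ⟶ Y} (hX : IsPullback pX f' f e) :
    ∃ θ : pullback f' f' ⟶ pullback f f,
      IsPullback θ (pullback.fst f' f' ≫ f') (pullback.fst f f ≫ f) e ∧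
      IsPullback (pullback.diagonal f') pX θ (pullback.diagonal f) := by
  obtain ⟨θ, hθ1, hθ2⟩ : ∃ θ : pullback f' f' ⟶ pullback f f,
      θ ≫ pullback.fst f f = pullback.fst f' f' ≫ pX ∧
      θ ≫ pullback.snd f f = pullback.snd f' f' ≫ pX :=
    ⟨pullback.map f' f' f f pX pX e hX.w.symm hX.w.symm, pullback.lift_fst _ _ _,
      pullback.lift_snd _ _ _⟩
  have A := IsPullback.of_hasPullback f' f'
  have L : IsPullback θ (pullback.fst f' f') (pullback.fst f f) pX := by
    have s := A.flip.paste_horiz hX
    rw [← hX.w, ← hθ2] at s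
    exact IsPullback.of_right s hθ1 (IsPullback.of_hasPullback f f).flip
  refine ⟨θ, L.paste_vert hX, ?_⟩
  have s : IsPullback (pullback.diagonal f' ≫ pullback.fst f' f') pX pX
      (pullback.diagonal f ≫ pullback.fst f f) := by
    rw [pullback.diagonal_fst, pullback.diagonal_fst]
    exact IsPullback.id_horiz pX
  refine IsPullback.of_right s ?_ L.flip
  apply pullback.hom_ext
  · rw [Category.assoc, hθ1, pullback.diagonal_fst_assoc, Category.assoc, pullback.diagonal_fst,
      Category.comp_id]
  · rw [Category.assoc, hθ2, pullback.diagonal_snd_assoc, Category.assoc, pullback.diagonal_snd,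
      Category.comp_id]

theorem isClosedImmersion_iff_isClosed_range {X Y : Scheme.{u}} (f : X ⟶ Y) [IsImmersion f] :
    IsClosedImmersion f ↔ IsClosed (Set.range f) :=
  ⟨fun h => f.isClosedEmbedding.isClosed_range, fun h => IsClosedImmersion.of_isPreimmersion f h⟩

theorem isSeparated_fiber_iff {X Y S : Scheme.{u}} (f : X ⟶ Y) (g : Y ⟶ S) (s : S) :
    IsSeparated (MoreMor.fiberMap f g s) ↔
      FibClosed (pullback.fst f f ≫ f ≫ g) (Set.range (pullback.diagonal f)) s := by
  have hY := IsPullback.of_hasPullback g (S.fromSpecResidueField s)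
  have hX := isPullback_fiberMap f g s
  obtain ⟨θ, hθ1, hθ2⟩ := diag_facts hX
  have sq := hθ1.paste_vert hY
  rw [Category.assoc, Category.assoc] at sq
  rw [← isClosed_preimage_iff_fibClosed sq]
  have hrange : Set.range (pullback.diagonal (MoreMor.fiberMap f g s)) =
      θ ⁻¹' Set.range (pullback.diagonal f) := by
    have h1 := Scheme.image_preimage_eq_of_isPullback hθ2.flip Set.univ
    rw [Set.preimage_univ, Set.image_univ, Set.image_univ] at h1
    exact h1
  rw [← hrange, ← isClosedImmersion_iff_isClosed_range]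
  exact ⟨fun h => inferInstance, fun h => ⟨h⟩⟩

end Diagonal

section Separated

theorem descendsIn_isSeparated : DescendsIn.{u} (@IsSeparated) := by
  intro I _ _ D c hc _ i₀ _ _ X₀ Y₀ f₀ g₀ _ _ _ _ _ _ X Y f g qY qX hY hX hf
  haveI : IsSeparated f := hf
  haveI : CompactSpace Y₀ := QuasiCompact.compactSpace_of_compactSpace g₀
  haveI : QuasiSeparatedSpace Y₀ := quasiSeparatedSpace_of_quasiSeparated g₀
  haveI : CompactSpace X₀ := QuasiCompact.compactSpace_of_compactSpace (f₀ ≫ g₀)
  haveI : QuasiSeparatedSpace X₀ := quasiSeparatedSpace_of_quasiSeparated (f₀ ≫ g₀)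
  exact Groth.Agent.S9190.result D c hc i₀ f₀ g₀ f g qY qX hY hX

theorem isConstructible_range_of_isImmersion {X W : Scheme.{u}} [IsNoetherian W] (j : X ⟶ W)
    [IsImmersion j] : IsConstructible (Set.range j) := by
  obtain ⟨U, K, hU, hK, h⟩ := j.isLocallyClosed_range
  rw [h]
  exact (isConstructible_of_isOpen_noeth hU).inter (isConstructible_of_isClosed_noeth hK)

theorem dichotomy_isSeparated {X Y S : Scheme.{u}} (f : X ⟶ Y) (g : Y ⟶ S) [IsIntegral S]
    [IsNoetherian S] [LocallyOfFiniteType g] [QuasiCompact g] [LocallyOfFiniteType (f ≫ g)]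
    [QuasiCompact (f ≫ g)] :
    (interior (ConsProp.locusMor (fun X Y T f g => IsSeparated f) f g)).Nonempty ∨
      (interior (ConsProp.locusMor (fun X Y T f g => IsSeparated f) f g)ᶜ).Nonempty := by
  haveI : IsLocallyNoetherian Y := LocallyOfFiniteType.isLocallyNoetherian g
  haveI : QuasiSeparated g := QuasiSeparated.of_quasiSeparatedSpace g
  haveI : LocallyOfFiniteType f := locallyOfFiniteType_of_comp f g
  haveI : QuasiCompact f := QuasiCompact.of_comp f g
  haveI : LocallyOfFiniteType (pullback.fst f f ≫ f ≫ g) := inferInstance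
  haveI : QuasiCompact (pullback.fst f f ≫ f ≫ g) := inferInstance
  haveI : IsLocallyNoetherian (pullback f f) :=
    LocallyOfFiniteType.isLocallyNoetherian (pullback.fst f f ≫ f ≫ g)
  haveI : CompactSpace (pullback f f : Scheme.{u}) :=
    QuasiCompact.compactSpace_of_compactSpace (pullback.fst f f ≫ f ≫ g)
  haveI : IsNoetherian (pullback f f) := {}
  exact dichotomy_fibClosed (pullback.fst f f ≫ f ≫ g) (Set.range (pullback.diagonal f))
    (isConstructible_range_of_isImmersion _) _ (fun s => isSeparated_fiber_iff f g s)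

theorem isConsMor_isSeparated :
    ConsProp.IsConsMor.{u} (fun X Y T f g => IsSeparated f) := by
  haveI := Groth.Agent.Lib.SchDescent_helper6.descendsAlong_isSeparated.{u}
  exact ⟨isFieldStableMor_of_descends (@IsSeparated),
    fun X Y S f g _ _ _ _ _ _ => dichotomy_isSeparated f g⟩

theorem main3424 {X Y S : Scheme.{u}} (f : X ⟶ Y) (g : Y ⟶ S)
    [LocallyOfFinitePresentation g] [QuasiCompact g] [QuasiSeparated g]
    [LocallyOfFinitePresentation (f ≫ g)] [QuasiCompact (f ≫ g)] [QuasiSeparated (f ≫ g)] :
    IsLocallyConstructible {s : S |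
      IsSeparated (pullback.lift (pullback.fst (f ≫ g) (S.fromSpecResidueField s) ≫ f)
          (pullback.snd (f ≫ g) (S.fromSpecResidueField s))
          ((Category.assoc _ _ _).trans pullback.condition) :
        pullback (f ≫ g) (S.fromSpecResidueField s) ⟶ pullback g (S.fromSpecResidueField s))} :=
  main5880 isConsMor_isSeparated f g

end Separated

end Groth.Agent.Lib.ConsFibH7
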