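import Mathlib
import Groth.Agent.Lib.ConsFib3_helper7
import Groth.Agent.Lib.NApxO_helper7

/-!
# Constructibility of the proper locus (helper7)

EGA IV 9.6.1 (ii): via Chow's lemma the properness of `f_s` (for `f` separated) is the closedness
of the image of an immersion into a projective space in the fibre, which is handled by
`dichotomy_fibClosed`.
-/

set_option autoImplicit false
set_option linter.unusedVariables false
set_option linter.style.haveILetI false
universe u
open CategoryTheory CategoryTheory.Limits AlgebraicGeometry TopologicalSpace Topology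

namespace Groth.Agent.Lib.ConsFibH7

open Groth.Agent.Lib.ConsPairH7 Groth.Agent.Lib.ConsPropH7 Groth.Agent.Lib.LimDescFPH7
open Groth.Agent.Lib.NApxH_helper7 Groth.Agent.Lib.NApxO_helper7 Groth.Agent.HProj
  Groth.Agent.Lib.ProjSpaceProperH4

/-- Chow criterion: after base change along `e`, `f'` is proper iff the base change of the
immersion `j` has closed range. -/
theorem isProper_iff_isClosed_range_of_chow {X Y X' P : Scheme.{u}} (f : X ⟶ Y) (π : X' ⟶ X)
    (j : X' ⟶ P) (p : P ⟶ Y) [IsSeparated f] [LocallyOfFiniteType f] [IsImmersion j] [IsProper p]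
    [IsProper π] [Surjective π] (hjπ : j ≫ p = π ≫ f)
    {Y₁ X₁ : Scheme.{u}} (e : Y₁ ⟶ Y) (pX : X₁ ⟶ X) (f₁ : X₁ ⟶ Y₁) (hX : IsPullback pX f₁ f e) :
    IsProper f₁ ↔ IsClosed (pullback.fst p e ⁻¹' Set.range j) := by
  have sqP := IsPullback.of_hasPullback p e
  have sqπ := IsPullback.of_hasPullback π pX
  have w : (pullback.fst π pX ≫ j) ≫ p = (pullback.snd π pX ≫ f₁) ≫ e := by
    rw [Category.assoc, hjπ, ← Category.assoc, pullback.condition, Category.assoc, hX.w,
      Category.assoc]
  obtain ⟨j', hj'1, hj'2⟩ : ∃ j' : pullback π pX ⟶ pullback p e,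
      j' ≫ pullback.fst p e = pullback.fst π pX ≫ j ∧
      j' ≫ pullback.snd p e = pullback.snd π pX ≫ f₁ :=
    ⟨pullback.lift _ _ w, pullback.lift_fst _ _ _, pullback.lift_snd _ _ _⟩
  have sqj : IsPullback (pullback.fst π pX) j' j (pullback.fst p e) := by
    have big := sqπ.paste_vert hX
    rw [← hjπ, ← hj'2] at big
    exact IsPullback.of_bot big hj'1.symm sqP
  haveI : IsImmersion j' := MorphismProperty.of_isPullback (P := @IsImmersion) sqj inferInstance
  haveI : IsProper (pullback.snd p e) :=
    MorphismProperty.of_isPullback (P := @IsProper) sqP inferInstance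
  haveI : IsProper (pullback.snd π pX) :=
    MorphismProperty.of_isPullback (P := @IsProper) sqπ inferInstance
  haveI : Surjective (pullback.snd π pX) :=
    MorphismProperty.of_isPullback (P := @Surjective) sqπ inferInstance
  haveI : IsSeparated f₁ := MorphismProperty.of_isPullback (P := @IsSeparated) hX inferInstance
  haveI : LocallyOfFiniteType f₁ :=
    MorphismProperty.of_isPullback (P := @LocallyOfFiniteType) hX inferInstance
  have hrange : Set.range j' = pullback.fst p e ⁻¹' Set.range j := by
    have h1 := Scheme.image_preimage_eq_of_isPullback sqj Set.univ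
    rw [Set.preimage_univ, Set.image_univ, Set.image_univ] at h1
    exact h1
  rw [← hrange]
  constructor
  · intro h
    haveI := h
    haveI : IsProper (j' ≫ pullback.snd p e) := by
      rw [hj'2]
      infer_instance
    haveI : IsProper j' := IsProper.of_comp j' (pullback.snd p e)
    haveI : IsClosedImmersion j' := isClosedImmersion_of_isImmersion_of_universallyClosed j'
    exact j'.isClosedEmbedding.isClosed_range
  · intro h
    haveI : IsClosedImmersion j' := IsClosedImmersion.of_isPreimmersion j' h
    haveI : IsProper (pullback.snd π pX ≫ f₁) := by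
      rw [← hj'2]
      infer_instance
    haveI : UniversallyClosed f₁ := UniversallyClosed.of_comp_surjective (pullback.snd π pX) f₁
    exact {}

theorem isProper_fiber_iff {X Y S X' P : Scheme.{u}} (f : X ⟶ Y) (g : Y ⟶ S) (π : X' ⟶ X)
    (j : X' ⟶ P) (p : P ⟶ Y) [IsSeparated f] [LocallyOfFiniteType f] [IsImmersion j] [IsProper p]
    [IsProper π] [Surjective π] (hjπ : j ≫ p = π ≫ f) (s : S) :
    IsProper (MoreMor.fiberMap f g s) ↔ FibClosed (p ≫ g) (Set.range j) s := by
  have hY := IsPullback.of_hasPullback g (S.fromSpecResidueField s)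
  have hX := isPullback_fiberMap f g s
  have sq := (IsPullback.of_hasPullback p (g.fiberι s)).paste_vert hY
  rw [← isClosed_preimage_iff_fibClosed sq]
  exact isProper_iff_isClosed_range_of_chow f π j p hjπ (g.fiberι s) _ _ hX

theorem dichotomy_isProper_of_isSeparated {X Y S : Scheme.{u}} (f : X ⟶ Y) (g : Y ⟶ S)
    [IsIntegral S] [IsNoetherian S] [LocallyOfFiniteType g] [QuasiCompact g]
    [LocallyOfFiniteType (f ≫ g)] [QuasiCompact (f ≫ g)] [IsSeparated f] :
    (interior (ConsProp.locusMor (fun X Y T f g => IsProper f) f g)).Nonempty ∨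
      (interior (ConsProp.locusMor (fun X Y T f g => IsProper f) f g)ᶜ).Nonempty := by
  haveI : IsLocallyNoetherian Y := LocallyOfFiniteType.isLocallyNoetherian g
  haveI : CompactSpace Y := QuasiCompact.compactSpace_of_compactSpace g
  haveI : IsNoetherian Y := {}
  haveI : QuasiSeparated g := QuasiSeparated.of_quasiSeparatedSpace g
  haveI : LocallyOfFiniteType f := locallyOfFiniteType_of_comp f g
  haveI : QuasiCompact f := QuasiCompact.of_comp f g
  obtain ⟨n, X', π, j, hj, hjπ, hπ1, hπ2⟩ := chow_qcqs f
  haveI := hj
  haveI := hπ1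
  haveI := hπ2
  haveI : IsProper (CohB1.ProjSpaceOver.toBase n Y) := isProper_toBase n Y
  haveI : LocallyOfFiniteType (CohB1.ProjSpaceOver.toBase n Y ≫ g) := inferInstance
  haveI : QuasiCompact (CohB1.ProjSpaceOver.toBase n Y ≫ g) := inferInstance
  haveI : IsLocallyNoetherian (CohB1.ProjSpaceOver n Y) :=
    LocallyOfFiniteType.isLocallyNoetherian (CohB1.ProjSpaceOver.toBase n Y ≫ g)
  haveI : CompactSpace (CohB1.ProjSpaceOver n Y : Scheme.{u}) :=
    QuasiCompact.compactSpace_of_compactSpace (CohB1.ProjSpaceOver.toBase n Y ≫ g)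
  haveI : IsNoetherian (CohB1.ProjSpaceOver n Y) := {}
  exact dichotomy_fibClosed (CohB1.ProjSpaceOver.toBase n Y ≫ g) (Set.range j)
    (isConstructible_range_of_isImmersion j) _
    (fun s => isProper_fiber_iff f g π j (CohB1.ProjSpaceOver.toBase n Y) hjπ s)

theorem dichotomy_isProper {X Y S : Scheme.{u}} (f : X ⟶ Y) (g : Y ⟶ S)
    [IsIntegral S] [IsNoetherian S] [LocallyOfFiniteType g] [QuasiCompact g]
    [LocallyOfFiniteType (f ≫ g)] [QuasiCompact (f ≫ g)] :
    (interior (ConsProp.locusMor (fun X Y T f g => IsProper f) f g)).Nonempty ∨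
      (interior (ConsProp.locusMor (fun X Y T f g => IsProper f) f g)ᶜ).Nonempty := by
  haveI := Groth.Agent.Lib.SchDescent_helper6.descendsAlong_isProper.{u}
  by_cases hη : genericPoint S ∈ ConsProp.locusMor (fun X Y T f g => IsSeparated f) f g
  · obtain ⟨T, XT, YT, hint, hnoeth, β, hβlft, fT, gT, pX, pY, hβ, hY, hX, hsep⟩ :=
      exists_generic_model descendsIn_isSeparated f g hη
    haveI := hint
    haveI := hnoeth
    haveI := hβlft
    haveI : IsSeparated fT := hsep
    haveI : LocallyOfFiniteType gT :=
      MorphismProperty.of_isPullback (P := @LocallyOfFiniteType) hY inferInstance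
    haveI : QuasiCompact gT :=
      MorphismProperty.of_isPullback (P := @QuasiCompact) hY inferInstance
    haveI : LocallyOfFiniteType (fT ≫ gT) :=
      MorphismProperty.of_isPullback (P := @LocallyOfFiniteType) (hX.paste_vert hY) inferInstance
    haveI : QuasiCompact (fT ≫ gT) :=
      MorphismProperty.of_isPullback (P := @QuasiCompact) (hX.paste_vert hY) inferInstance
    exact dichotomy_transfer (isFieldStableMor_of_descends (@IsProper)) f g β hβ fT gT pX pY hY hX
      (dichotomy_isProper_of_isSeparated fT gT)
  · right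
    rcases dichotomy_isSeparated f g with h | h
    · exfalso
      obtain ⟨z, hz⟩ := h
      exact hη (interior_subset
        (((genericPoint_spec S).mem_open_set_iff isOpen_interior).mpr ⟨z, trivial, hz⟩))
    · refine h.mono (interior_mono ?_)
      intro s hs hp
      have hp' : IsProper (MoreMor.fiberMap f g s) := hp
      exact hs (show IsSeparated (MoreMor.fiberMap f g s) from inferInstance)

theorem isConsMor_isProper :
    ConsProp.IsConsMor.{u} (fun X Y T f g => IsProper f) := by
  haveI := Groth.Agent.Lib.SchDescent_helper6.descendsAlong_isProper.{u}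
  exact ⟨isFieldStableMor_of_descends (@IsProper),
    fun X Y S f g _ _ _ _ _ _ => dichotomy_isProper f g⟩

theorem main2577 {X Y S : Scheme.{u}} (f : X ⟶ Y) (g : Y ⟶ S)
    [LocallyOfFinitePresentation g] [QuasiCompact g] [QuasiSeparated g]
    [LocallyOfFinitePresentation (f ≫ g)] [QuasiCompact (f ≫ g)] [QuasiSeparated (f ≫ g)] :
    IsLocallyConstructible {s : S |
      IsProper (pullback.lift (pullback.fst (f ≫ g) (S.fromSpecResidueField s) ≫ f)
          (pullback.snd (f ≫ g) (S.fromSpecResidueField s))
          ((Category.assoc _ _ _).trans pullback.condition) :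
        pullback (f ≫ g) (S.fromSpecResidueField s) ⟶ pullback g (S.fromSpecResidueField s))} :=
  main5880 isConsMor_isProper f g

end Groth.Agent.Lib.ConsFibH7
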