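import Mathlib
import Groth.Agent.Lib.ConsFib3_helper7

/-!
# Constructibility of the dominant locus (helper7)
-/

set_option autoImplicit false
set_option linter.unusedVariables false
set_option linter.style.haveILetI false
universe u
open CategoryTheory CategoryTheory.Limits AlgebraicGeometry TopologicalSpace Topology

namespace Groth.Agent.Lib.ConsFibH7

open Groth.Agent.Lib.ConsPairH7 Groth.Agent.Lib.ConsPropH7 Groth.Agent.Lib.LimDescFPH7

theorem dichotomy_of_constructible {S : Scheme.{u}} [IsIntegral S] (U : S.Opens)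
    (hUne : (U : Set S).Nonempty) (C : Set S) (hC : IsConstructible C) (E : Set S)
    (hiff : ∀ s ∈ U, (s ∈ E ↔ s ∈ C)) :
    (interior E).Nonempty ∨ (interior Eᶜ).Nonempty := by
  obtain ⟨U', hU', hηU', hcase⟩ :=
    Groth.Agent.Lib.Constr_lead.exists_open_generic_of_isConstructible hC (genericPoint_spec S)
  have hηU : genericPoint S ∈ U := by
    obtain ⟨z, hz⟩ := hUne
    exact ((genericPoint_spec S).mem_open_set_iff U.2).mpr ⟨z, trivial, hz⟩
  rcases hcase with h1 | h1
  · left
    refine ⟨genericPoint S, mem_interior.mpr ⟨U' ∩ U, ?_, hU'.inter U.2, hηU', hηU⟩⟩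
    rintro s ⟨hs1, hs2⟩
    exact (hiff s hs2).mpr (h1 ⟨hs1, trivial⟩)
  · right
    refine ⟨genericPoint S, mem_interior.mpr ⟨U' ∩ U, ?_, hU'.inter U.2, hηU', hηU⟩⟩
    rintro s ⟨hs1, hs2⟩ hsE
    exact h1 ⟨hs1, trivial⟩ ((hiff s hs2).mp hsE)

theorem dense_preimage_iff_of_isEmbedding {α β : Type*} [TopologicalSpace α]
    [TopologicalSpace β] {θ : α → β} (hθ : IsEmbedding θ) (F Z : Set β)
    (hF : Set.range θ = F) : Dense (θ ⁻¹' Z) ↔ F ⊆ closure (Z ∩ F) := by
  rw [hθ.isInducing.dense_iff, Set.image_preimage_eq_inter_range, hF]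
  constructor
  · intro h z hz
    rw [← hF] at hz
    obtain ⟨y, rfl⟩ := hz
    exact h y
  · intro h y
    exact h (hF ▸ Set.mem_range_self y)

theorem isDominant_iff_denseRange {X Y : Scheme.{u}} (f : X ⟶ Y) :
    IsDominant f ↔ DenseRange f := ⟨fun h => h.denseRange, fun h => ⟨h⟩⟩

theorem isDominant_fiber_iff {X Y S : Scheme.{u}} (f : X ⟶ Y) (g : Y ⟶ S) (s : S) :
    IsDominant (MoreMor.fiberMap f g s) ↔ g ⁻¹' {s} ⊆ closure (Set.range f ∩ g ⁻¹' {s}) := by
  have hX := isPullback_fiberMap f g s
  have hrange : Set.range (MoreMor.fiberMap f g s) = g.fiberι s ⁻¹' Set.range f := by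
    have h1 := Scheme.image_preimage_eq_of_isPullback hX Set.univ
    rw [Set.preimage_univ, Set.image_univ, Set.image_univ] at h1
    exact h1
  rw [isDominant_iff_denseRange, DenseRange, hrange]
  exact dense_preimage_iff_of_isEmbedding (g.fiberι s).isEmbedding _ _ (g.range_fiberι s)

theorem dichotomy_isDominant {X Y S : Scheme.{u}} (f : X ⟶ Y) (g : Y ⟶ S) [IsIntegral S]
    [IsNoetherian S] [LocallyOfFiniteType g] [QuasiCompact g] [LocallyOfFiniteType (f ≫ g)]
    [QuasiCompact (f ≫ g)] :
    (interior (ConsProp.locusMor (fun X Y T f g => IsDominant f) f g)).Nonempty ∨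
      (interior (ConsProp.locusMor (fun X Y T f g => IsDominant f) f g)ᶜ).Nonempty := by
  haveI : IsLocallyNoetherian Y := LocallyOfFiniteType.isLocallyNoetherian g
  haveI : CompactSpace Y := QuasiCompact.compactSpace_of_compactSpace g
  haveI : IsNoetherian Y := {}
  haveI : QuasiSeparated g := QuasiSeparated.of_quasiSeparatedSpace g
  haveI : LocallyOfFinitePresentation g := inferInstance
  haveI : LocallyOfFiniteType f := locallyOfFiniteType_of_comp f g
  haveI : QuasiCompact f := QuasiCompact.of_comp f g
  haveI : LocallyOfFinitePresentation f := inferInstance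
  have hZ : IsConstructible (Set.range f) := by
    have := f.isConstructible_image IsConstructible.univ
    rwa [Set.image_univ] at this
  obtain ⟨U, hUne, hU⟩ := exists_open_closure_fibre g (Set.range f) hZ
  have hcl : IsConstructible (closure (Set.range f))ᶜ :=
    (isConstructible_of_isClosed_noeth isClosed_closure).compl
  have hC : IsConstructible (g '' (closure (Set.range f))ᶜ)ᶜ :=
    (g.isConstructible_image hcl).compl
  refine dichotomy_of_constructible U hUne _ hC _ ?_
  intro s hs
  show IsDominant (MoreMor.fiberMap f g s) ↔ _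
  rw [isDominant_fiber_iff]
  constructor
  · rintro h ⟨y, hy1, rfl⟩
    exact hy1 (closure_mono Set.inter_subset_left (h rfl))
  · intro h y hy
    have hy' : g y = s := hy
    have h1 : y ∈ closure (Set.range f) := by
      by_contra hn
      exact h ⟨y, hn, hy'⟩
    have h2 := hU y h1 (hy' ▸ hs)
    rw [hy'] at h2
    exact h2

theorem isFieldStableMor_isDominant :
    ConsProp.IsFieldStableMor.{u} (fun X Y T f g => IsDominant f) := by
  intro X X' Y Y' T T' f g f' g' eX eY h _ _ _ _ _ _ _ _ hY hX
  show IsDominant f ↔ IsDominant f'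
  haveI : Surjective h := (fpqc_of_subsingleton h).1.1
  haveI : Surjective eY := MorphismProperty.of_isPullback (P := @Surjective) hY.flip inferInstance
  haveI : UniversallyOpen h := inferInstance
  haveI : UniversallyOpen eY :=
    MorphismProperty.of_isPullback (P := @UniversallyOpen) hY.flip inferInstance
  have hrange : Set.range f' = eY ⁻¹' Set.range f := by
    have h1 := Scheme.image_preimage_eq_of_isPullback hX Set.univ
    rw [Set.preimage_univ, Set.image_univ, Set.image_univ] at h1
    exact h1
  rw [isDominant_iff_denseRange, isDominant_iff_denseRange, DenseRange, DenseRange, hrange]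
  constructor
  · intro hd
    exact hd.preimage eY.isOpenMap
  · intro hd
    have h1 := eY.surjective.denseRange.dense_image eY.continuous hd
    rwa [Set.image_preimage_eq _ eY.surjective] at h1

theorem isConsMor_isDominant :
    ConsProp.IsConsMor.{u} (fun X Y T f g => IsDominant f) :=
  ⟨isFieldStableMor_isDominant, fun X Y S f g _ _ _ _ _ _ => dichotomy_isDominant f g⟩

theorem main3425 {X Y S : Scheme.{u}} (f : X ⟶ Y) (g : Y ⟶ S)
    [LocallyOfFinitePresentation g] [QuasiCompact g] [QuasiSeparated g]
    [LocallyOfFinitePresentation (f ≫ g)] [QuasiCompact (f ≫ g)] [QuasiSeparated (f ≫ g)] :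
    IsLocallyConstructible {s : S |
      IsDominant (pullback.lift (pullback.fst (f ≫ g) (S.fromSpecResidueField s) ≫ f)
          (pullback.snd (f ≫ g) (S.fromSpecResidueField s))
          ((Category.assoc _ _ _).trans pullback.condition) :
        pullback (f ≫ g) (S.fromSpecResidueField s) ⟶ pullback g (S.fromSpecResidueField s))} :=
  main5880 isConsMor_isDominant f g

end Groth.Agent.Lib.ConsFibH7
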