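import Mathlib
import Groth.Agent.Lib.ConsPair1_helper7
import Groth.Agent.Lib.ConsMor1_helper7
import Groth.Agent.S2579
import Groth.Agent.S9190
import Groth.Agent.S2583
import Groth.Agent.S2592

/-!
# Ind-constructible properties of pairs: four more cases (helper7)
mono, separated, quasi-finite, quasi-affine.
-/

set_option autoImplicit false
set_option linter.style.haveILetI false
set_option linter.unusedVariables false
universe u
open CategoryTheory CategoryTheory.Limits AlgebraicGeometry TopologicalSpace Topology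

namespace Groth.Agent.Lib.ConsPairH7

theorem descendsIn_mono : DescendsIn.{u} (MorphismProperty.monomorphisms Scheme.{u}) := by
  intro I _ _ D c hc _ i₀ _ _ X₀ Y₀ f₀ g₀ _ _ _ _ _ _ X Y f g qY qX hY hX hf
  haveI : Mono f := hf
  exact Groth.Agent.S2579.result D c hc i₀ f₀ g₀ f g qY qX hY hX

theorem main5901 :
    ConsPropPair.IsIndConsPair.{u}
      (fun X Y T gX gY => ∃ (T' X' Y' : Scheme.{u}) (h : T' ⟶ T) (gX' : X' ⟶ T') (gY' : Y' ⟶ T')
        (eX : X' ⟶ X) (eY : Y' ⟶ Y), IsIntegral T' ∧ Subsingleton ↥T' ∧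
          IsPullback eX gX' gX h ∧ IsPullback eY gY' gY h ∧
            ∃ g : X' ⟶ Y', g ≫ gY' = gX' ∧ CategoryTheory.Mono g) :=
  isIndConsPair (MorphismProperty.monomorphisms Scheme.{u}) descendsIn_mono

theorem descendsIn_isSeparated : DescendsIn.{u} (@IsSeparated) := by
  intro I _ _ D c hc _ i₀ _ _ X₀ Y₀ f₀ g₀ _ _ _ _ _ _ X Y f g qY qX hY hX hf
  haveI : IsSeparated f := hf
  haveI : CompactSpace Y₀ := QuasiCompact.compactSpace_of_compactSpace g₀
  haveI : QuasiSeparatedSpace Y₀ := quasiSeparatedSpace_of_quasiSeparated g₀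
  haveI : CompactSpace X₀ := QuasiCompact.compactSpace_of_compactSpace (f₀ ≫ g₀)
  haveI : QuasiSeparatedSpace X₀ := quasiSeparatedSpace_of_quasiSeparated (f₀ ≫ g₀)
  exact Groth.Agent.S9190.result D c hc i₀ f₀ g₀ f g qY qX hY hX

theorem main5902 :
    ConsPropPair.IsIndConsPair.{u}
      (fun X Y T gX gY => ∃ (T' X' Y' : Scheme.{u}) (h : T' ⟶ T) (gX' : X' ⟶ T') (gY' : Y' ⟶ T')
        (eX : X' ⟶ X) (eY : Y' ⟶ Y), IsIntegral T' ∧ Subsingleton ↥T' ∧
          IsPullback eX gX' gX h ∧ IsPullback eY gY' gY h ∧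
            ∃ g : X' ⟶ Y', g ≫ gY' = gX' ∧ AlgebraicGeometry.IsSeparated g) :=
  isIndConsPair (@IsSeparated) descendsIn_isSeparated

/-- quasi-finite morphisms as a morphism property -/
abbrev QFinProp : MorphismProperty Scheme.{u} :=
  fun _ _ g => LocallyOfFiniteType g ∧ QuasiCompact g ∧ LocallyQuasiFinite g

instance : (QFinProp.{u}).IsStableUnderBaseChange :=
  inferInstanceAs ((@LocallyOfFiniteType ⊓ (@QuasiCompact ⊓ @LocallyQuasiFinite) :
    MorphismProperty Scheme.{u}).IsStableUnderBaseChange)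

theorem descendsIn_qFin : DescendsIn.{u} QFinProp := by
  intro I _ _ D c hc _ i₀ _ _ X₀ Y₀ f₀ g₀ _ _ _ _ _ _ X Y f g qY qX hY hX hf
  haveI : LocallyQuasiFinite f := hf.2.2
  haveI : LocallyOfFiniteType f₀ := locallyOfFiniteType_of_comp f₀ g₀
  haveI : QuasiCompact f₀ := QuasiCompact.of_comp f₀ g₀
  obtain ⟨i, φ, Xi, Yi, fi, gi, pY, pX, hYi, hXi, hfi⟩ :=
    Groth.Agent.S2583.result D c hc i₀ f₀ g₀ f g qY qX hY hX
  exact ⟨i, φ, Xi, Yi, fi, gi, pY, pX, hYi, hXi,
    MorphismProperty.of_isPullback (P := @LocallyOfFiniteType) hXi inferInstance,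
    MorphismProperty.of_isPullback (P := @QuasiCompact) hXi inferInstance, hfi⟩

theorem main5903 :
    ConsPropPair.IsIndConsPair.{u}
      (fun X Y T gX gY => ∃ (T' X' Y' : Scheme.{u}) (h : T' ⟶ T) (gX' : X' ⟶ T') (gY' : Y' ⟶ T')
        (eX : X' ⟶ X) (eY : Y' ⟶ Y), IsIntegral T' ∧ Subsingleton ↥T' ∧
          IsPullback eX gX' gX h ∧ IsPullback eY gY' gY h ∧
            ∃ g : X' ⟶ Y', g ≫ gY' = gX' ∧ (AlgebraicGeometry.LocallyOfFiniteType g ∧
              AlgebraicGeometry.QuasiCompact g ∧ AlgebraicGeometry.LocallyQuasiFinite g)) :=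
  isIndConsPair QFinProp descendsIn_qFin

theorem main5905 :
    ConsPropPair.IsIndConsPair.{u}
      (fun X Y T gX gY => ∃ (T' X' Y' : Scheme.{u}) (h : T' ⟶ T) (gX' : X' ⟶ T') (gY' : Y' ⟶ T')
        (eX : X' ⟶ X) (eY : Y' ⟶ Y), IsIntegral T' ∧ Subsingleton ↥T' ∧
          IsPullback eX gX' gX h ∧ IsPullback eY gY' gY h ∧
            ∃ g : X' ⟶ Y', g ≫ gY' = gX' ∧ MoreMor.IsQuasiAffineHom g) :=
  isIndConsPair QAffProp descendsIn_qAff

end Groth.Agent.Lib.ConsPairH7
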