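import Groth.Agent.Lib.Constr_lead
import Groth.Agent.Lib.ConstrMore_lead

/-!
# Constructible sets in Noetherian spaces without generic points (lead)
-/

universe u

namespace Groth.Agent.Lib.ConstrNoeth_lead

open Topology TopologicalSpace Set

variable {X : Type u} [TopologicalSpace X]

/-- A constructible set contains or misses a nonempty open part of any irreducible set. -/
theorem exists_open_inter_subset_or {E : Set X} (hE : IsConstructible E) {Y : Set X}
    (hY : IsIrreducible Y) :
    ∃ U : Set X, IsOpen U ∧ (U ∩ Y).Nonempty ∧ (U ∩ Y ⊆ E ∨ U ∩ Y ⊆ Eᶜ) := by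
  induction hE using IsConstructible.empty_union_induction with
  | open_retrocompact U hU _ =>
    by_cases h : (U ∩ Y).Nonempty
    · exact ⟨U, hU, h, Or.inl inter_subset_left⟩
    · refine ⟨univ, isOpen_univ, by simpa using hY.nonempty, Or.inr ?_⟩
      rintro z ⟨-, hz⟩ hzU
      exact h ⟨z, hzU, hz⟩
  | union s hs t ht ihs iht =>
    obtain ⟨U, hU, hUY, h1⟩ := ihs
    obtain ⟨V, hV, hVY, h2⟩ := iht
    have hne : ((U ∩ V) ∩ Y).Nonempty := by
      have := hY.isPreirreducible U V hU hV (by rwa [inter_comm]) (by rwa [inter_comm])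
      rwa [inter_comm]
    refine ⟨U ∩ V, hU.inter hV, hne, ?_⟩
    rcases h1 with h1 | h1
    · left; exact fun z hz => Or.inl (h1 ⟨hz.1.1, hz.2⟩)
    · rcases h2 with h2 | h2
      · left; exact fun z hz => Or.inr (h2 ⟨hz.1.2, hz.2⟩)
      · right
        intro z hz hzst
        rcases hzst with h | h
        · exact h1 ⟨hz.1.1, hz.2⟩ h
        · exact h2 ⟨hz.1.2, hz.2⟩ h
  | compl s hs ih =>
    obtain ⟨U, hU, hξU, h1⟩ := ih
    refine ⟨U, hU, hξU, ?_⟩
    rcases h1 with h1 | h1
    · right; rwa [compl_compl]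
    · left; exact h1

/-- Noetherian induction on closed subsets, split into empty / reducible / irreducible. -/
theorem isClosed_induction [NoetherianSpace X] {P : Set X → Prop}
    (h_empty : P ∅)
    (h_union : ∀ Z₁ Z₂, IsClosed Z₁ → IsClosed Z₂ → P Z₁ → P Z₂ → P (Z₁ ∪ Z₂))
    (h_irr : ∀ Z, IsClosed Z → IsIrreducible Z → (∀ Z', IsClosed Z' → Z' ⊂ Z → P Z') → P Z) :
    ∀ Z, IsClosed Z → P Z := by
  suffices h : ∀ Z : Closeds X, P (Z : Set X) from fun Z hZ => h ⟨Z, hZ⟩
  intro Z
  induction Z using WellFoundedLT.induction with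
  | ind Z ih =>
  have ih' : ∀ Z' : Set X, IsClosed Z' → Z' ⊂ (Z : Set X) → P Z' := by
    intro Z' hZ' hlt
    exact ih ⟨Z', hZ'⟩ (by exact hlt)
  by_cases hZ : IsIrreducible (Z : Set X)
  · exact h_irr _ Z.isClosed hZ ih'
  · by_cases hne : (Z : Set X).Nonempty
    · have hnp : ¬ IsPreirreducible (Z : Set X) := fun h => hZ ⟨hne, h⟩
      rw [isPreirreducible_iff_isClosed_union_isClosed] at hnp
      push Not at hnp
      obtain ⟨z₁, z₂, h1, h2, hsub, hn1, hn2⟩ := hnp
      have hlt1 : (Z : Set X) ∩ z₁ ⊂ (Z : Set X) :=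
        ⟨inter_subset_left, fun h => hn1 fun z hz => (h hz).2⟩
      have hlt2 : (Z : Set X) ∩ z₂ ⊂ (Z : Set X) :=
        ⟨inter_subset_left, fun h => hn2 fun z hz => (h hz).2⟩
      have heq : (Z : Set X) = ((Z : Set X) ∩ z₁) ∪ ((Z : Set X) ∩ z₂) := by
        rw [← inter_union_distrib_left, inter_eq_left.2 hsub]
      rw [heq]
      exact h_union _ _ (Z.isClosed.inter h1) (Z.isClosed.inter h2)
        (ih' _ (Z.isClosed.inter h1) hlt1) (ih' _ (Z.isClosed.inter h2) hlt2)
    · rw [Set.not_nonempty_iff_eq_empty] at hne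
      rw [hne]; exact h_empty

/-- In a Noetherian space every open set is constructible. -/
theorem isConstructible_of_isOpen [NoetherianSpace X] {U : Set X} (hU : IsOpen U) :
    IsConstructible U :=
  IsRetrocompact.isConstructible hU fun _ _ _ => NoetherianSpace.isCompact _

theorem isConstructible_of_isClosed [NoetherianSpace X] {Z : Set X} (hZ : IsClosed Z) :
    IsConstructible Z := by
  simpa using (isConstructible_of_isOpen hZ.isOpen_compl).compl

theorem isConstructible_of_isLocallyClosed [NoetherianSpace X] {Z : Set X}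
    (hZ : IsLocallyClosed Z) : IsConstructible Z := by
  obtain ⟨U, C, hU, hC, rfl⟩ := hZ
  exact (isConstructible_of_isOpen hU).inter (isConstructible_of_isClosed hC)

end Groth.Agent.Lib.ConstrNoeth_lead

namespace Groth.Agent.Lib.ConstrNoeth_lead

open Topology TopologicalSpace Set

variable {X : Type u} [TopologicalSpace X]

/-- If a nonempty relatively open part of the irreducible set `Y` misses `E`, the trace of `E`
on `Y` is nowhere dense in `Y`. -/
theorem isNowhereDense_preimage_val_of_inter_subset_compl {Y E U : Set X} (hY : IsIrreducible Y)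
    (hU : IsOpen U) (hne : (U ∩ Y).Nonempty) (h : U ∩ Y ⊆ Eᶜ) :
    IsNowhereDense ((Subtype.val : Y → X) ⁻¹' E) := by
  have : IrreducibleSpace Y := isIrreducible_iff_irreducibleSpace.1 hY
  set V : Set Y := (Subtype.val : Y → X) ⁻¹' U with hV
  have hVo : IsOpen V := hU.preimage continuous_subtype_val
  have hVne : V.Nonempty := by
    obtain ⟨z, hzU, hzY⟩ := hne
    exact ⟨⟨z, hzY⟩, hzU⟩
  have hsub : (Subtype.val : Y → X) ⁻¹' E ⊆ Vᶜ := by
    intro z hzE hzV
    exact h ⟨hzV, z.2⟩ hzE
  refine IsNowhereDense.mono hsub ?_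
  rw [hVo.isClosed_compl.isNowhereDense_iff, interior_compl, (hVo.dense hVne).closure_eq,
    compl_univ]

/-- If the trace of `E` on the closed irreducible set `Z` is nowhere dense in `Z`, then the
closure of `E ∩ Z` is a proper closed subset of `Z`. -/
theorem closure_inter_ssubset_of_isNowhereDense {Z E : Set X} (hZ : IsClosed Z)
    (hirr : IsIrreducible Z) (h : IsNowhereDense ((Subtype.val : Z → X) ⁻¹' E)) :
    closure (E ∩ Z) ⊂ Z := by
  refine ⟨closure_minimal inter_subset_right hZ, fun hsub => ?_⟩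
  have hcl : closure ((Subtype.val : Z → X) ⁻¹' E) = univ := by
    rw [IsInducing.subtypeVal.closure_eq_preimage_closure_image, Subtype.image_preimage_coe,
      inter_comm]
    ext z
    simp only [mem_preimage, mem_univ, iff_true]
    exact hsub z.2
  rw [IsNowhereDense, hcl, interior_univ] at h
  obtain ⟨z, hz⟩ := hirr.nonempty
  have : (⟨z, hz⟩ : Z) ∈ (univ : Set Z) := mem_univ _
  rw [h] at this
  exact this

end Groth.Agent.Lib.ConstrNoeth_lead
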