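import Mathlib
import Groth.Agent.Lib.GenFlatSch2_helper8
import Groth.Agent.Lib.CohDev6_helper8
import Groth.Agent.Lib.ConstrNoeth_lead

/-!
# Constructibility of fibrewise properties (helper8), I: generic constancy and Noetherian case

APPEND-ONLY once landed.
-/

set_option autoImplicit false
universe u

namespace Groth.Agent.Lib.FibConsH8

open AlgebraicGeometry CategoryTheory Limits TopologicalSpace Topology

/-- A "fibrewise" pointwise property of morphisms of schemes: invariant under base change, local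
on the source, open for flat morphisms locally of finite presentation. -/
structure IsFibrewise (P : ∀ {X S : Scheme.{u}} (_ : X ⟶ S), X → Prop) : Prop where
  bc : ∀ {X S X' S' : Scheme.{u}} (f : X ⟶ S) [LocallyOfFiniteType f] (f' : X' ⟶ S')
    (g' : X' ⟶ X) (g : S' ⟶ S), IsPullback g' f' f g → ∀ x' : X', P f' x' ↔ P f (g' x')
  loc : ∀ {X S U : Scheme.{u}} (f : X ⟶ S) [LocallyOfFiniteType f] (j : U ⟶ X)
    [IsOpenImmersion j] (u : U), P (j ≫ f) u ↔ P f (j u)
  isOpen : ∀ {X S : Scheme.{u}} (f : X ⟶ S) [Flat f] [LocallyOfFinitePresentation f],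
    IsOpen {x : X | P f x}

variable {P : ∀ {X S : Scheme.{u}} (_ : X ⟶ S), X → Prop}

/-- **Generic constancy**: on an irreducible closed subset of the source of a morphism of finite
type, a fibrewise property is constant on a nonempty open subset. -/
theorem exists_open_const (hP : IsFibrewise P) {X S : Scheme.{u}} (f : X ⟶ S)
    [LocallyOfFiniteType f] [QuasiCompact f] (ζ : X) :
    ∃ O : Set X, IsOpen O ∧ ζ ∈ O ∧
      ((O ∩ closure {ζ} ⊆ {x | P f x}) ∨ (O ∩ closure {ζ} ⊆ {x | P f x}ᶜ)) := by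
  obtain ⟨T, i, hi, hT, hrange, hgen⟩ :=
    CohDevH8.exists_integral_subscheme (closure {f ζ}) isClosed_closure (f ζ) rfl
  haveI := hi; haveI := hT
  set fT := pullback.snd f i with hfT
  obtain ⟨T', hdense, hflat, hlfp⟩ := GenFlatSch2H8.generic_flat_fp fT
  haveI := hflat; haveI := hlfp
  have hηT' : genericPoint T ∈ T' := by
    have hne : (T' : Set T).Nonempty := hdense.nonempty
    exact ((genericPoint_spec T).mem_open_set_iff T'.2).2 (by simpa using hne)
  set j : (fT ⁻¹ᵁ T' : Scheme.{u}) ⟶ X := (fT ⁻¹ᵁ T').ι ≫ pullback.fst f i with hj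
  have hjemb : IsEmbedding j := by
    have h1 : IsEmbedding (pullback.fst f i) := (pullback.fst f i).isEmbedding
    have h2 : IsEmbedding (fT ⁻¹ᵁ T').ι := (fT ⁻¹ᵁ T').ι.isEmbedding
    exact h1.comp h2
  -- the property on the restricted family agrees with the property of `f`
  have hPj : ∀ x'' : (fT ⁻¹ᵁ T' : Scheme.{u}), P (fT ∣_ T') x'' ↔ P f (j x'') := by
    intro x''
    rw [hP.bc fT (fT ∣_ T') (fT ⁻¹ᵁ T').ι T'.ι (isPullback_morphismRestrict fT T').flip x'',
      hP.bc f fT (pullback.fst f i) i (IsPullback.of_hasPullback f i)]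
    rfl
  have hW : IsOpen {x'' : (fT ⁻¹ᵁ T' : Scheme.{u}) | P (fT ∣_ T') x''} := hP.isOpen (fT ∣_ T')
  -- the open subset of `S` cutting out `T'`
  set O₂ : Set S := (i '' ((T' : Set T)ᶜ))ᶜ with hO₂
  have hO₂open : IsOpen O₂ :=
    (i.isClosedEmbedding.isClosedMap _ T'.2.isClosed_compl).isOpen_compl
  -- lifting points
  have hlift : ∀ x : X, x ∈ closure {ζ} → f x ∈ O₂ → ∃ x'' : (fT ⁻¹ᵁ T' : Scheme.{u}), j x'' = x := by
    intro x hx hxO
    have h1 : f x ∈ closure {f ζ} := by
      have := image_closure_subset_closure_image f.continuous (s := {ζ}) ⟨x, hx, rfl⟩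
      simpa using this
    rw [← hrange] at h1
    obtain ⟨t, ht⟩ := h1
    have htT' : t ∈ T' := by
      by_contra hcon
      exact hxO ⟨t, hcon, ht⟩
    obtain ⟨z, hz1, hz2⟩ := Scheme.Pullback.exists_preimage_pullback x t ht.symm
    have hzmem : z ∈ fT ⁻¹ᵁ T' := by
      show fT z ∈ T'
      rw [hfT, hz2]; exact htT'
    exact ⟨(⟨z, hzmem⟩ : (fT ⁻¹ᵁ T' : Scheme.{u})), hz1⟩
  have hζO₂ : f ζ ∈ O₂ := by
    rintro ⟨t, ht, hte⟩
    have : t = genericPoint T := i.isClosedEmbedding.injective (by rw [hte, hgen])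
    exact ht (this ▸ hηT')
  obtain ⟨ζ'', hζ''⟩ := hlift ζ (subset_closure rfl) hζO₂
  by_cases hPζ : P f ζ
  · -- the good case
    have hζW : ζ'' ∈ {x'' : (fT ⁻¹ᵁ T' : Scheme.{u}) | P (fT ∣_ T') x''} := by
      show P (fT ∣_ T') ζ''
      rw [hPj, hζ'']; exact hPζ
    obtain ⟨O₁, hO₁, hO₁W⟩ := hjemb.isInducing.isOpen_iff.1 hW
    refine ⟨O₁ ∩ f ⁻¹' O₂, hO₁.inter (hO₂open.preimage f.continuous), ⟨?_, hζO₂⟩, Or.inl ?_⟩
    · have : ζ'' ∈ j ⁻¹' O₁ := by rw [hO₁W]; exact hζW
      rw [← hζ'']; exact this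
    · rintro x ⟨⟨hx1, hx2⟩, hx3⟩
      obtain ⟨x'', rfl⟩ := hlift x hx3 hx2
      have : x'' ∈ j ⁻¹' O₁ := hx1
      rw [hO₁W] at this
      exact (hPj x'').1 this
  · refine ⟨f ⁻¹' O₂, hO₂open.preimage f.continuous, hζO₂, Or.inr ?_⟩
    rintro x ⟨hx2, hx3⟩ hPx
    obtain ⟨x'', rfl⟩ := hlift x hx3 hx2
    have hsp : ζ'' ⤳ x'' := by
      rw [← hjemb.isInducing.specializes_iff, hζ'', specializes_iff_mem_closure]
      exact hx3
    have hx''W : x'' ∈ {x'' : (fT ⁻¹ᵁ T' : Scheme.{u}) | P (fT ∣_ T') x''} := (hPj x'').2 hPx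
    have := hsp.mem_open hW hx''W
    exact hPζ (hζ'' ▸ (hPj ζ'').1 this)

end Groth.Agent.Lib.FibConsH8

namespace Groth.Agent.Lib.FibConsH8

open AlgebraicGeometry CategoryTheory Limits TopologicalSpace Topology
open Groth.Agent.Lib.ConstrNoeth_lead

variable {P : ∀ {X S : Scheme.{u}} (_ : X ⟶ S), X → Prop}

/-- **Noetherian case**: on a Noetherian source, the locus of a fibrewise property of a morphism of
finite type is constructible. -/
theorem isConstructible_of_noetherianSpace (hP : IsFibrewise P) {X S : Scheme.{u}} (f : X ⟶ S)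
    [LocallyOfFiniteType f] [QuasiCompact f] [NoetherianSpace X] :
    IsConstructible {x : X | P f x} := by
  set E : Set X := {x : X | P f x} with hE
  have key : ∀ Z : Set X, IsClosed Z → IsConstructible (E ∩ Z) := by
    apply isClosed_induction (P := fun Z => IsConstructible (E ∩ Z))
    · simp
    · intro Z₁ Z₂ _ _ h1 h2
      rw [Set.inter_union_distrib_left]
      exact h1.union h2
    · intro Z hZ hirr ih
      obtain ⟨ζ, hζ⟩ := QuasiSober.sober hirr hZ
      have hcl : closure {ζ} = Z := hζ.def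
      obtain ⟨O, hO, hζO, hor⟩ := exists_open_const hP f ζ
      rw [hcl] at hor
      have hζZ : ζ ∈ Z := hcl ▸ subset_closure rfl
      have hZ' : IsClosed (Z ∩ Oᶜ) := hZ.inter hO.isClosed_compl
      have hss : Z ∩ Oᶜ ⊂ Z := by
        refine ⟨Set.inter_subset_left, fun h => ?_⟩
        exact (h hζZ).2 hζO
      have h1 := ih _ hZ' hss
      have hdecomp : E ∩ Z = (E ∩ (Z ∩ Oᶜ)) ∪ (E ∩ (O ∩ Z)) := by
        ext x
        simp only [Set.mem_inter_iff, Set.mem_union, Set.mem_compl_iff]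
        tauto
      rw [hdecomp]
      refine h1.union ?_
      rcases hor with h | h
      · have : E ∩ (O ∩ Z) = O ∩ Z := Set.inter_eq_right.2 h
        rw [this]
        exact isConstructible_of_isLocallyClosed (hO.isLocallyClosed.inter hZ.isLocallyClosed)
      · have : E ∩ (O ∩ Z) = ∅ := by
          ext x
          simp only [Set.mem_inter_iff, Set.mem_empty_iff_false, iff_false]
          rintro ⟨hx1, hx2⟩
          exact h hx2 hx1
        rw [this]
        exact IsConstructible.empty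
  have := key Set.univ isClosed_univ
  rwa [Set.inter_univ] at this

end Groth.Agent.Lib.FibConsH8
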