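import Mathlib
import Groth.Agent.Lib.FibCons1_helper8
import Groth.Agent.Lib.FlatDesc10_helper8

/-!
# Constructibility of fibrewise properties (helper8), II: approximation and the general case

APPEND-ONLY once landed.
-/

set_option autoImplicit false
universe u

namespace Groth.Agent.Lib.FibConsH8

open AlgebraicGeometry CategoryTheory Limits TopologicalSpace Topology

variable {P : ∀ {X S : Scheme.{u}} (_ : X ⟶ S), X → Prop}

/-- Ring case, by Noetherian approximation. -/
theorem isConstructible_spec (hP : IsFibrewise P) (A B : Type u) [CommRing A] [CommRing B]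
    [Algebra A B] [Algebra.FinitePresentation A B] :
    IsConstructible {x : Spec (CommRingCat.of B) |
      P (Spec.map (CommRingCat.ofHom (algebraMap A B))) x} := by
  obtain ⟨A₁, _, _, _, _, B₁, _, _, _, _, M₁, _, _, _, _, f₁, hft, -, hfp, -, hpush, -⟩ :=
    FlatDescH8.exists_model A B PUnit.{u+1}
  haveI := hft; haveI := hfp; haveI := hpush
  haveI : IsNoetherianRing A₁ := Algebra.FiniteType.isNoetherianRing ℤ A₁
  haveI : Algebra.FiniteType A₁ B₁ := inferInstance
  haveI : IsNoetherianRing B₁ := Algebra.FiniteType.isNoetherianRing A₁ B₁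
  set φ₁ := Spec.map (CommRingCat.ofHom (algebraMap A₁ B₁)) with hφ₁
  haveI : LocallyOfFiniteType φ₁ := by
    rw [hφ₁, HasRingHomProperty.Spec_iff (P := @LocallyOfFiniteType)]
    exact RingHom.finiteType_algebraMap.2 inferInstance
  haveI : NoetherianSpace (Spec (CommRingCat.of B₁)) :=
    inferInstanceAs (NoetherianSpace (PrimeSpectrum B₁))
  have h1 := isConstructible_of_noetherianSpace hP φ₁
  have hpo := CommRingCat.isPushout_of_isPushout A₁ A B₁ B
  have hpb := (isPullback_SpecMap_of_isPushout _ _ _ _ hpo).flip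
  have h2 := (Spec.map (CommRingCat.ofHom (algebraMap B₁ B))).isConstructible_preimage h1
  convert h2 using 1
  ext x'
  exact hP.bc φ₁ _ _ _ hpb x'

end Groth.Agent.Lib.FibConsH8

namespace Groth.Agent.Lib.FibConsH8

open AlgebraicGeometry CategoryTheory Limits TopologicalSpace Topology

variable {P : ∀ {X S : Scheme.{u}} (_ : X ⟶ S), X → Prop}

/-- Affine schemes case. -/
theorem isConstructible_of_isAffine (hP : IsFibrewise P) {X S : Scheme.{u}} [IsAffine X]
    [IsAffine S] (f : X ⟶ S) [LocallyOfFinitePresentation f] :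
    IsConstructible {x : X | P f x} := by
  letI : Algebra Γ(S, ⊤) Γ(X, ⊤) := f.appTop.hom.toAlgebra
  have hfp : f.appTop.hom.FinitePresentation := by
    have : LocallyOfFinitePresentation (Spec.map f.appTop) := by
      have h := Scheme.isoSpec_hom_naturality f
      have : Spec.map f.appTop = X.isoSpec.inv ≫ f ≫ S.isoSpec.hom := by
        rw [← h, Iso.inv_hom_id_assoc]
      rw [this]
      infer_instance
    exact (HasRingHomProperty.Spec_iff (P := @LocallyOfFinitePresentation)).1 this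
  haveI : Algebra.FinitePresentation Γ(S, ⊤) Γ(X, ⊤) := hfp
  have h1 := isConstructible_spec hP Γ(S, ⊤) Γ(X, ⊤)
  have hmap : Spec.map (CommRingCat.ofHom (algebraMap Γ(S, ⊤) Γ(X, ⊤))) = Spec.map f.appTop := rfl
  rw [hmap] at h1
  haveI : LocallyOfFiniteType (Spec.map f.appTop) := by
    rw [HasRingHomProperty.Spec_iff (P := @LocallyOfFiniteType)]
    exact RingHom.FiniteType.of_finitePresentation hfp
  have hpb : IsPullback X.isoSpec.hom f (Spec.map f.appTop) S.isoSpec.hom :=
    IsPullback.of_horiz_isIso ⟨Scheme.isoSpec_hom_naturality f⟩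
  have h2 := X.isoSpec.hom.isConstructible_preimage h1
  convert h2 using 1
  ext x
  exact hP.bc (Spec.map f.appTop) f X.isoSpec.hom S.isoSpec.hom hpb x

/-- **Main theorem**: for a morphism locally of finite presentation the locus of a fibrewise
property is locally constructible. -/
theorem isLocallyConstructible (hP : IsFibrewise P) {X S : Scheme.{u}} (f : X ⟶ S)
    [LocallyOfFinitePresentation f] : IsLocallyConstructible {x : X | P f x} := by
  intro x
  obtain ⟨V, hV, hxV⟩ : ∃ V : S.Opens, IsAffineOpen V ∧ f x ∈ V := by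
    obtain ⟨_, ⟨V, hV, rfl⟩, hxV, -⟩ := S.isBasis_affineOpens.exists_subset_of_mem_open
      (Set.mem_univ (f x)) isOpen_univ
    exact ⟨V, hV, hxV⟩
  obtain ⟨U, hU, hxU, hUV⟩ : ∃ U : X.Opens, IsAffineOpen U ∧ x ∈ U ∧ U ≤ f ⁻¹ᵁ V := by
    obtain ⟨_, ⟨U, hU, rfl⟩, hxU, hsub⟩ := X.isBasis_affineOpens.exists_subset_of_mem_open
      (show x ∈ ((f ⁻¹ᵁ V : X.Opens) : Set X) from hxV) (f ⁻¹ᵁ V).2
    exact ⟨U, hU, hxU, hsub⟩
  refine ⟨U, U.2.mem_nhds hxU, U.2, ?_⟩
  haveI : IsAffine (U : Scheme.{u}) := hU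
  haveI : IsAffine (V : Scheme.{u}) := hV
  have h1 := isConstructible_of_isAffine hP (f.resLE V U hUV)
  suffices h : {u : (U : Scheme.{u}) | P (f.resLE V U hUV) u} =
      (Subtype.val ⁻¹' {x : X | P f x} : Set ↥(U : Set X)) by
    rw [← h]; exact h1
  ext u
  show P (f.resLE V U hUV) u ↔ P f u.1
  have e1 : f.resLE V U hUV = X.homOfLE hUV ≫ f ∣_ V := rfl
  rw [e1, hP.loc (f ∣_ V) (X.homOfLE hUV) u,
    hP.bc f (f ∣_ V) (f ⁻¹ᵁ V).ι V.ι (isPullback_morphismRestrict f V).flip]
  have e2 : (f ⁻¹ᵁ V).ι ((X.homOfLE hUV) u) = u.1 := by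
    rw [← Scheme.Hom.comp_apply, Scheme.homOfLE_ι]
    rfl
  rw [e2]

end Groth.Agent.Lib.FibConsH8
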