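import Mathlib

/-!
# The unramified locus and base change (ring level) (helper7)

For a finite module `M` over `A` and an `A`-algebra `B`, a prime `q` of `B` lies in the support of
`B ⊗[A] M` as soon as its contraction lies in the support of `M`; consequently, for a finite type
algebra `R → A` and a pushout `A' = R' ⊗_R A`, if `A'` is unramified over `R'` at `p'` then `A` is
unramified over `R` at the contraction of `p'`.
-/

set_option autoImplicit false
universe u
open TensorProduct

namespace Groth.Agent.Lib.UnramBCH7

theorem mem_support_baseChange {A B : Type u} [CommRing A] [CommRing B] [Algebra A B]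
    (M : Type u) [AddCommGroup M] [Module A M] [Module.Finite A M] (q : PrimeSpectrum B)
    (p : PrimeSpectrum A) (hp : p.asIdeal = q.asIdeal.comap (algebraMap A B))
    (h : p ∈ Module.support A M) :
    q ∈ Module.support B (B ⊗[A] M) := by
  rw [Module.mem_support_iff_nontrivial_residueField_tensorProduct] at h ⊢
  let φ : p.asIdeal.ResidueField →+* q.asIdeal.ResidueField :=
    Ideal.ResidueField.map p.asIdeal q.asIdeal (algebraMap A B) hp
  letI : Algebra p.asIdeal.ResidueField q.asIdeal.ResidueField := φ.toAlgebra
  haveI : IsScalarTower A p.asIdeal.ResidueField q.asIdeal.ResidueField :=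
    IsScalarTower.of_algebraMap_eq' (by
      ext r
      rw [RingHom.comp_apply, RingHom.algebraMap_toAlgebra,
        Ideal.ResidueField.map_algebraMap p.asIdeal q.asIdeal (algebraMap A B) hp r,
        IsScalarTower.algebraMap_apply A B q.asIdeal.ResidueField])
  let e1 := AlgebraTensorModule.cancelBaseChange A B B q.asIdeal.ResidueField M
  let e2 := AlgebraTensorModule.cancelBaseChange A p.asIdeal.ResidueField p.asIdeal.ResidueField
    q.asIdeal.ResidueField M
  rw [e1.nontrivial_congr, ← e2.nontrivial_congr]
  infer_instance

theorem isUnramifiedAt_of_isPushout {R R' A A' : Type u} [CommRing R] [CommRing R'] [CommRing A]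
    [CommRing A'] [Algebra R R'] [Algebra R A] [Algebra R A'] [Algebra A A'] [Algebra R' A']
    [IsScalarTower R A A'] [IsScalarTower R R' A'] [Algebra.IsPushout R R' A A']
    [Algebra.FiniteType R A] (p' : PrimeSpectrum A') (p : PrimeSpectrum A)
    (hp : p.asIdeal = p'.asIdeal.comap (algebraMap A A'))
    (h : p' ∈ Algebra.unramifiedLocus R' A') : p ∈ Algebra.unramifiedLocus R A := by
  rw [Algebra.unramifiedLocus_eq_compl_support] at h ⊢
  intro hmem
  apply h
  have h1 := mem_support_baseChange (A := A) (B := A') (Ω[A⁄R]) p' p hp hmem
  rwa [(KaehlerDifferential.tensorKaehlerEquiv R R' A A').support_eq] at h1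

end Groth.Agent.Lib.UnramBCH7
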