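import Mathlib
import Groth.Agent.Lib.UnramBC_helper7
import Groth.Agent.Lib.AlgSpLocP7_helper7

/-!
# "Unramified near a point" for morphisms of schemes (helper7)

`Near P h u`: `P` holds for `h` restricted to some open neighbourhood of `u`.  For `P` étale local on
the source-and-target this is invariant under étale pre- and postcomposition and stable under base
change; for `P` = unramified (locally of finite type + formally unramified) it also *descends*
along arbitrary base change when `h` is locally of finite type.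
-/

set_option autoImplicit false
universe u
open CategoryTheory CategoryTheory.Limits AlgebraicGeometry MorphismProperty TensorProduct
open Groth.Agent.Lib.AlgSpLocP4_helper7 Groth.Agent.Lib.AlgSpLocP7_helper7

namespace Groth.Agent.Lib.UnramLocH7

/-- `P` holds for `h` on an open neighbourhood of `u`. -/
def Near (P : MorphismProperty Scheme.{u}) {U V : Scheme.{u}} (h : U ⟶ V) (u : ↥U) : Prop :=
  ∃ W : U.Opens, u ∈ W ∧ P (W.ι ≫ h)

/-- Unramified: locally of finite type and formally unramified. -/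
abbrev PU : MorphismProperty Scheme.{u} := @LocallyOfFiniteType ⊓ @FormallyUnramified

theorem near_precomp {P : MorphismProperty Scheme.{u}} (hP : EtLocal P) {W U V : Scheme.{u}}
    (p : W ⟶ U) [Etale p] (h : U ⟶ V) (w : ↥W) (hn : Near P h (p w)) : Near P (p ≫ h) w := by
  obtain ⟨O, hO, hPO⟩ := hn
  refine ⟨p ⁻¹ᵁ O, hO, ?_⟩
  have e : (p ⁻¹ᵁ O).ι ≫ p ≫ h = (p ∣_ O) ≫ O.ι ≫ h := by
    rw [← Category.assoc, ← Category.assoc, morphismRestrict_ι]
  rw [e]
  have : Etale (p ∣_ O) :=
    MorphismProperty.of_isPullback (P := @Etale) (isPullback_morphismRestrict p O).flip inferInstance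
  exact hP.precomp _ _ this hPO

theorem near_of_precomp {P : MorphismProperty Scheme.{u}} (hP : EtLocal P) {W U V : Scheme.{u}}
    (p : W ⟶ U) [Etale p] (h : U ⟶ V) (w : ↥W) (hn : Near P (p ≫ h) w) : Near P h (p w) := by
  obtain ⟨O, hO, hPO⟩ := hn
  have hopen : IsOpen (Set.range (O.ι ≫ p)) := (O.ι ≫ p).isOpenMap.isOpen_range
  obtain ⟨O', hO'⟩ : ∃ O' : U.Opens, (O' : Set ↥U) = Set.range (O.ι ≫ p) := ⟨⟨_, hopen⟩, rfl⟩
  have hsub : Set.range (O.ι ≫ p) ⊆ Set.range O'.ι := by
    rw [Scheme.Opens.range_ι, hO']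
  have hc : IsOpenImmersion.lift O'.ι (O.ι ≫ p) hsub ≫ O'.ι = O.ι ≫ p :=
    IsOpenImmersion.lift_fac _ _ _
  obtain ⟨c, hc'⟩ : ∃ c : (O : Scheme.{u}) ⟶ O', c = IsOpenImmersion.lift O'.ι (O.ι ≫ p) hsub :=
    ⟨_, rfl⟩
  rw [← hc'] at hc
  have hce : Etale c := by
    have h1 : Etale (c ≫ O'.ι) := by rw [hc]; infer_instance
    exact MorphismProperty.of_postcomp (W := @Etale) (W' := @Etale) c O'.ι inferInstance h1
  have hcs : Surjective c := ⟨fun y => by
    have hy : O'.ι y ∈ Set.range (O.ι ≫ p) := by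
      rw [← hO']; exact y.2
    obtain ⟨x, hx⟩ := hy
    refine ⟨x, ?_⟩
    apply O'.ι.isOpenEmbedding.injective
    rw [← Scheme.Hom.comp_apply, hc]; exact hx⟩
  refine ⟨O', ?_, ?_⟩
  · show p w ∈ (O' : Set ↥U)
    rw [hO']
    exact ⟨⟨w, hO⟩, rfl⟩
  · apply hP.src c (O'.ι ≫ h) hce hcs
    rw [← Category.assoc, hc, Category.assoc]; exact hPO

theorem near_postcomp {P : MorphismProperty Scheme.{u}} (hP : EtLocal P) {W V' V : Scheme.{u}}
    (k : W ⟶ V') (q : V' ⟶ V) [Etale q] (w : ↥W) (hn : Near P k w) : Near P (k ≫ q) w := by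
  obtain ⟨O, hO, hPO⟩ := hn
  refine ⟨O, hO, ?_⟩
  rw [← Category.assoc]
  exact hP.postcomp _ _ inferInstance hPO

theorem near_of_postcomp {P : MorphismProperty Scheme.{u}} [P.IsStableUnderBaseChange]
    (hP : EtLocal P) {W V' V : Scheme.{u}}
    (k : W ⟶ V') (q : V' ⟶ V) [Etale q] (w : ↥W) (hn : Near P (k ≫ q) w) : Near P k w := by
  obtain ⟨O, hO, hPO⟩ := hn
  refine ⟨O, hO, ?_⟩
  rw [← Category.assoc] at hPO
  exact hP.cancel _ q inferInstance hPO

theorem near_baseChange {P : MorphismProperty Scheme.{u}} [P.IsStableUnderBaseChange]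
    {W U V V'' : Scheme.{u}} {aW : W ⟶ U} {κ : W ⟶ V''} {h : U ⟶ V} {φ : V'' ⟶ V}
    (sq : IsPullback aW κ h φ) (w : ↥W) (hn : Near P h (aW w)) : Near P κ w := by
  obtain ⟨O, hO, hPO⟩ := hn
  refine ⟨aW ⁻¹ᵁ O, hO, ?_⟩
  have sq' : IsPullback (aW ∣_ O) ((aW ⁻¹ᵁ O).ι ≫ κ) (O.ι ≫ h) φ :=
    (isPullback_morphismRestrict aW O).paste_vert sq
  exact MorphismProperty.of_isPullback sq' hPO

/-! ### The affine case -/

theorem mem_unramifiedLocus_of_near {R A : Type u} [CommRing R] [CommRing A] [Algebra R A]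
    (p : ↥(Spec (CommRingCat.of A)))
    (hn : Near PU (Spec.map (CommRingCat.ofHom (algebraMap R A))) p) :
    (p : PrimeSpectrum A) ∈ Algebra.unramifiedLocus R A := by
  obtain ⟨O, hO, -, hunr⟩ := hn
  obtain ⟨_, ⟨_, ⟨g, rfl⟩, rfl⟩, hpg, hgO⟩ :=
    PrimeSpectrum.isBasis_basic_opens.exists_subset_of_mem_open
      (show (p : PrimeSpectrum A) ∈ (O.1 : Set (PrimeSpectrum A)) from hO) O.2
  have hkr : Set.range (Spec.map (CommRingCat.ofHom (algebraMap A (Localization.Away g)))) =
      (PrimeSpectrum.basicOpen g : Set (PrimeSpectrum A)) := by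
    have := Scheme.Hom.opensRange_localizationAway (R := CommRingCat.of A) g
    exact congrArg (fun (O : TopologicalSpace.Opens (PrimeSpectrum A)) => O.carrier) this
  have hk : Set.range (Spec.map (CommRingCat.ofHom (algebraMap A (Localization.Away g)))) ⊆
      Set.range O.ι := by
    rw [Scheme.Opens.range_ι, hkr]; exact hgO
  have hl : IsOpenImmersion.lift O.ι _ hk ≫ O.ι =
      Spec.map (CommRingCat.ofHom (algebraMap A (Localization.Away g))) :=
    IsOpenImmersion.lift_fac _ _ _
  haveI : Mono (IsOpenImmersion.lift O.ι _ hk) := mono_of_mono_fac hl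
  have h1 : FormallyUnramified (IsOpenImmersion.lift O.ι _ hk ≫ O.ι ≫
      Spec.map (CommRingCat.ofHom (algebraMap R A))) :=
    MorphismProperty.comp_mem @FormallyUnramified _ _ inferInstance hunr
  rw [← Category.assoc, hl, ← Spec.map_comp, ← CommRingCat.ofHom_comp,
    HasRingHomProperty.Spec_iff (P := @FormallyUnramified)] at h1
  have h2 : Algebra.FormallyUnramified R (Localization.Away g) := by
    rw [← RingHom.formallyUnramified_algebraMap, IsScalarTower.algebraMap_eq R A (Localization.Away g)]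
    exact h1
  exact Algebra.basicOpen_subset_unramifiedLocus_iff.mpr h2 hpg

theorem near_of_mem_unramifiedLocus {R A : Type u} [CommRing R] [CommRing A] [Algebra R A]
    [Algebra.FiniteType R A] (p : ↥(Spec (CommRingCat.of A)))
    (hp : (p : PrimeSpectrum A) ∈ Algebra.unramifiedLocus R A) :
    Near PU (Spec.map (CommRingCat.ofHom (algebraMap R A))) p := by
  haveI : Algebra.IsUnramifiedAt R (p : PrimeSpectrum A).asIdeal := hp
  obtain ⟨g, hg, hgu⟩ :=
    Algebra.exists_formallyUnramified_of_isUnramifiedAt (R := R) (p : PrimeSpectrum A).asIdeal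
  have hku : FormallyUnramified (Spec.map (CommRingCat.ofHom (algebraMap A (Localization.Away g))) ≫
      Spec.map (CommRingCat.ofHom (algebraMap R A))) := by
    rw [← Spec.map_comp, ← CommRingCat.ofHom_comp,
      HasRingHomProperty.Spec_iff (P := @FormallyUnramified)]
    show RingHom.FormallyUnramified ((algebraMap A (Localization.Away g)).comp (algebraMap R A))
    rw [← IsScalarTower.algebraMap_eq, RingHom.formallyUnramified_algebraMap]
    exact hgu
  haveI hlft : LocallyOfFiniteType (Spec.map (CommRingCat.ofHom (algebraMap R A))) := by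
    rw [HasRingHomProperty.Spec_iff (P := @LocallyOfFiniteType)]
    show RingHom.FiniteType (algebraMap R A)
    rw [RingHom.finiteType_algebraMap]; infer_instance
  refine ⟨(Spec.map (CommRingCat.ofHom (algebraMap A (Localization.Away g)))).opensRange, ?_,
    inferInstance, ?_⟩
  · rw [Scheme.Hom.opensRange_localizationAway (R := CommRingCat.of A) g]
    exact hg
  · rw [← Scheme.Hom.isoOpensRange_inv_comp, Category.assoc]
    exact MorphismProperty.comp_mem @FormallyUnramified _ _ inferInstance hku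

/-! ### Descent along base change -/

attribute [local instance] Algebra.TensorProduct.rightAlgebra

theorem near_of_near_pullback_affine {R A R' : Type u} [CommRing R] [CommRing A] [CommRing R']
    [Algebra R A] [Algebra R R'] [Algebra.FiniteType R A] {U V V'' : Scheme.{u}} (h : U ⟶ V)
    (φ : V'' ⟶ V) (iU : Spec (CommRingCat.of A) ⟶ U) (iV : Spec (CommRingCat.of R) ⟶ V)
    (iV'' : Spec (CommRingCat.of R') ⟶ V'') [IsOpenImmersion iU] [IsOpenImmersion iV]
    [IsOpenImmersion iV'']
    (e₁ : Spec.map (CommRingCat.ofHom (algebraMap R A)) ≫ iV = iU ≫ h)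
    (e₂ : Spec.map (CommRingCat.ofHom (algebraMap R R')) ≫ iV = iV'' ≫ φ)
    (w : ↥(pullback h φ)) (hw1 : pullback.fst h φ w ∈ Set.range iU)
    (hw2 : pullback.snd h φ w ∈ Set.range iV'')
    (hn : Near PU (pullback.snd h φ) w) : Near PU h (pullback.fst h φ w) := by
  have hw : w ∈ Set.range (pullback.map _ _ h φ iU iV'' iV e₁ e₂) := by
    rw [Scheme.Pullback.range_map]; exact ⟨hw1, hw2⟩
  obtain ⟨w0, hw0⟩ := hw
  obtain ⟨p', hp'⟩ := (pullbackSpecIso R A R').inv.surjective w0
  obtain ⟨j, hj⟩ : ∃ j, j = (pullbackSpecIso R A R').inv ≫ pullback.map _ _ h φ iU iV'' iV e₁ e₂ :=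
    ⟨_, rfl⟩
  haveI : IsOpenImmersion j := by rw [hj]; infer_instance
  have hjw : j p' = w := by rw [hj, Scheme.Hom.comp_apply, hp', hw0]
  have hj1 : j ≫ pullback.fst h φ =
      Spec.map (CommRingCat.ofHom (algebraMap A (A ⊗[R] R'))) ≫ iU := by
    rw [hj, Category.assoc, pullback.lift_fst, ← Category.assoc, pullbackSpecIso_inv_fst']
  have hj2 : j ≫ pullback.snd h φ =
      Spec.map (CommRingCat.ofHom (algebraMap R' (A ⊗[R] R'))) ≫ iV'' := by
    rw [hj, Category.assoc, pullback.lift_snd, ← Category.assoc, pullbackSpecIso_inv_snd]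
    rfl
  have h1 : Near PU (j ≫ pullback.snd h φ) p' :=
    near_precomp etLocal_unramified j _ p' (by rw [hjw]; exact hn)
  rw [hj2] at h1
  have h2 : Near PU (Spec.map (CommRingCat.ofHom (algebraMap R' (A ⊗[R] R')))) p' :=
    near_of_postcomp etLocal_unramified _ iV'' p' h1
  have h3 := mem_unramifiedLocus_of_near (R := R') (A := A ⊗[R] R') p' h2
  have h4 : ((Spec.map (CommRingCat.ofHom (algebraMap A (A ⊗[R] R'))) p' :
      ↥(Spec (CommRingCat.of A))) : PrimeSpectrum A) ∈ Algebra.unramifiedLocus R A :=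
    UnramBCH7.isUnramifiedAt_of_isPushout (R := R) (R' := R') (A := A) (A' := A ⊗[R] R') p' _ rfl h3
  have h5 := near_of_mem_unramifiedLocus (R := R) (A := A) _ h4
  have h6 := near_postcomp etLocal_unramified _ iV _ h5
  rw [e₁] at h6
  have h7 := near_of_precomp etLocal_unramified iU h _ h6
  have e : pullback.fst h φ w =
      iU (Spec.map (CommRingCat.ofHom (algebraMap A (A ⊗[R] R'))) p') := by
    rw [← hjw, ← Scheme.Hom.comp_apply, hj1, Scheme.Hom.comp_apply]
  rw [e]; exact h7

theorem near_of_near_pullback {U V V'' : Scheme.{u}} (h : U ⟶ V) (φ : V'' ⟶ V)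
    [LocallyOfFiniteType h] (w : ↥(pullback h φ)) (hn : Near PU (pullback.snd h φ) w) :
    Near PU h (pullback.fst h φ w) := by
  obtain ⟨R, iV, hiV, hvV, -⟩ := Scheme.exists_affine_mem_range_and_range_subset
    (X := V) (x := h (pullback.fst h φ w)) (U := ⊤) trivial
  obtain ⟨A, iU, hiU, huU, hUsub⟩ := Scheme.exists_affine_mem_range_and_range_subset
    (X := U) (x := pullback.fst h φ w) (U := h ⁻¹ᵁ iV.opensRange) hvV
  have hw'' : pullback.snd h φ w ∈ φ ⁻¹ᵁ iV.opensRange := by
    show φ (pullback.snd h φ w) ∈ Set.range iV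
    rw [← Scheme.Hom.comp_apply, ← pullback.condition, Scheme.Hom.comp_apply]; exact hvV
  obtain ⟨R', iV'', hiV'', hvV'', hV''sub⟩ :=
    Scheme.exists_affine_mem_range_and_range_subset hw''
  have hr1 : Set.range (iU ≫ h) ⊆ Set.range iV := by
    rintro _ ⟨x, rfl⟩
    rw [Scheme.Hom.comp_apply]
    exact hUsub ⟨x, rfl⟩
  have hr2 : Set.range (iV'' ≫ φ) ⊆ Set.range iV := by
    rintro _ ⟨x, rfl⟩
    rw [Scheme.Hom.comp_apply]
    exact hV''sub ⟨x, rfl⟩
  obtain ⟨α, hα⟩ := Spec.map_surjective (IsOpenImmersion.lift iV (iU ≫ h) hr1)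
  obtain ⟨β, hβ⟩ := Spec.map_surjective (IsOpenImmersion.lift iV (iV'' ≫ φ) hr2)
  have e₁ : Spec.map α ≫ iV = iU ≫ h := by rw [hα]; exact IsOpenImmersion.lift_fac _ _ _
  have e₂ : Spec.map β ≫ iV = iV'' ≫ φ := by rw [hβ]; exact IsOpenImmersion.lift_fac _ _ _
  letI : Algebra R A := α.hom.toAlgebra
  letI : Algebra R R' := β.hom.toAlgebra
  haveI : Algebra.FiniteType R A := by
    have h1 : LocallyOfFiniteType (Spec.map α ≫ iV) := by rw [e₁]; infer_instance
    have h2 : LocallyOfFiniteType (Spec.map α) := locallyOfFiniteType_of_comp (Spec.map α) iV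
    exact (HasRingHomProperty.Spec_iff (P := @LocallyOfFiniteType)).mp h2
  exact near_of_near_pullback_affine (R := R) (A := A) (R' := R') h φ iU iV iV'' e₁ e₂ w huU hvV'' hn

theorem near_of_near_isPullback {W U V V'' : Scheme.{u}} {aW : W ⟶ U} {κ : W ⟶ V''} {h : U ⟶ V}
    {φ : V'' ⟶ V} (sq : IsPullback aW κ h φ) [LocallyOfFiniteType h] (w : ↥W)
    (hn : Near PU κ w) : Near PU h (aW w) := by
  have e1 : sq.isoPullback.hom ≫ pullback.fst h φ = aW := sq.isoPullback_hom_fst
  have e2 : sq.isoPullback.hom ≫ pullback.snd h φ = κ := sq.isoPullback_hom_snd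
  have h1 : Near PU (pullback.snd h φ) (sq.isoPullback.hom w) := by
    apply near_of_precomp etLocal_unramified sq.isoPullback.hom
    rw [e2]; exact hn
  have h2 := near_of_near_pullback h φ _ h1
  rw [← Scheme.Hom.comp_apply, e1] at h2
  exact h2

end Groth.Agent.Lib.UnramLocH7
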