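import Mathlib
import Groth.Agent.Lib.ConsFib3_helper7
import Groth.Agent.Lib.ImmDescent_helper9
import Groth.Agent.S2576

/-!
# Constructibility of the immersion locus (helper7)

EGA IV 9.6.1 (vii).  With `Z = f(X)`, `T = closure Z \ Z` and `V = Y \ closure T`, away from
`g (closure T \ T)` the fibre `f_s` is an immersion iff the fibre of `f ∣_ V` is a closed immersion,
while over `g (closure T \ T)` (near the generic point) `f_s` is never an immersion.
-/

set_option autoImplicit false
set_option linter.unusedVariables false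
set_option linter.style.haveILetI false
universe u
open CategoryTheory CategoryTheory.Limits AlgebraicGeometry TopologicalSpace Topology

namespace Groth.Agent.Lib.ConsFibH7

open Groth.Agent.Lib.ConsPairH7 Groth.Agent.Lib.ConsPropH7 Groth.Agent.Lib.LimDescFPH7

section Restrict

variable {X Y S : Scheme.{u}} (f : X ⟶ Y) (g : Y ⟶ S) (V : Y.Opens) (s : S)

/-- fibres of the restriction to an open of `Y` -/
theorem restrict_fiber :
    ∃ (ιs : (V.ι ≫ g).fiber s ⟶ g.fiber s)
      (k : ((f ∣_ V) ≫ V.ι ≫ g).fiber s ⟶ (f ≫ g).fiber s),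
      IsPullback ((V.ι ≫ g).fiberι s) ιs V.ι (g.fiberι s) ∧
      IsPullback k (MoreMor.fiberMap (f ∣_ V) (V.ι ≫ g) s) (MoreMor.fiberMap f g s) ιs := by
  have hY : IsPullback (g.fiberι s) (g.fiberToSpecResidueField s) g (S.fromSpecResidueField s) :=
    IsPullback.of_hasPullback g (S.fromSpecResidueField s)
  have hY' : IsPullback ((V.ι ≫ g).fiberι s) ((V.ι ≫ g).fiberToSpecResidueField s) (V.ι ≫ g)
      (S.fromSpecResidueField s) :=
    IsPullback.of_hasPullback (V.ι ≫ g) (S.fromSpecResidueField s)
  have w : ((V.ι ≫ g).fiberι s ≫ V.ι) ≫ g =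
      (V.ι ≫ g).fiberToSpecResidueField s ≫ S.fromSpecResidueField s := by
    rw [Category.assoc]
    exact (V.ι ≫ g).fiber_fac s
  obtain ⟨ιs, hι1, hι2⟩ : ∃ ιs : (V.ι ≫ g).fiber s ⟶ g.fiber s,
      ιs ≫ g.fiberι s = (V.ι ≫ g).fiberι s ≫ V.ι ∧
      ιs ≫ g.fiberToSpecResidueField s = (V.ι ≫ g).fiberToSpecResidueField s :=
    ⟨hY.lift _ _ w, hY.lift_fst _ _ w, hY.lift_snd _ _ w⟩
  have ha : IsPullback ((V.ι ≫ g).fiberι s) ιs V.ι (g.fiberι s) := by
    refine IsPullback.of_bot ?_ hι1.symm hY
    rw [hι2]
    exact hY'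
  have hX := isPullback_fiberMap f g s
  have hX' := isPullback_fiberMap (f ∣_ V) (V.ι ≫ g) s
  have hres := (isPullback_morphismRestrict f V).flip
  have big := hX'.paste_horiz hres
  rw [← hι1] at big
  have wk : ((((f ∣_ V) ≫ V.ι ≫ g).fiberι s) ≫ (f ⁻¹ᵁ V).ι) ≫ f =
      (MoreMor.fiberMap (f ∣_ V) (V.ι ≫ g) s ≫ ιs) ≫ g.fiberι s := by
    rw [Category.assoc _ ιs]
    exact big.w
  obtain ⟨k, hk1, hk2⟩ : ∃ k : ((f ∣_ V) ≫ V.ι ≫ g).fiber s ⟶ (f ≫ g).fiber s,
      k ≫ (f ≫ g).fiberι s = ((f ∣_ V) ≫ V.ι ≫ g).fiberι s ≫ (f ⁻¹ᵁ V).ι ∧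
      k ≫ MoreMor.fiberMap f g s = MoreMor.fiberMap (f ∣_ V) (V.ι ≫ g) s ≫ ιs :=
    ⟨hX.lift _ _ wk, hX.lift_fst _ _ wk, hX.lift_snd _ _ wk⟩
  refine ⟨ιs, k, ha, ?_⟩
  rw [← hk1] at big
  exact IsPullback.of_right big hk2 hX

end Restrict

section Criterion

variable {X Y S : Scheme.{u}} (f : X ⟶ Y) (g : Y ⟶ S)

/-- the open complement of `closure (closure (range f) \ range f)` -/
def immOpen : Y.Opens :=
  ⟨(closure (closure (Set.range f) \ Set.range f))ᶜ, isClosed_closure.isOpen_compl⟩

theorem isClosed_preimage_range_immOpen :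
    IsClosed ((immOpen f).ι ⁻¹' Set.range f) := by
  have h : (immOpen f).ι ⁻¹' Set.range f = (immOpen f).ι ⁻¹' closure (Set.range f) := by
    ext y
    constructor
    · intro hy
      exact subset_closure hy
    · intro hy
      by_contra hn
      have hyV : (immOpen f).ι y ∈ (immOpen f : Set Y) := by
        have := Set.mem_range_self (f := (immOpen f).ι) y
        rwa [Scheme.Opens.range_ι] at this
      exact hyV (subset_closure ⟨hy, hn⟩)
  rw [h]
  exact isClosed_closure.preimage (immOpen f).ι.continuous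

theorem isImmersion_fiber_iff (s : S)
    (hs : s ∉ g '' (closure (closure (Set.range f) \ Set.range f) \
      (closure (Set.range f) \ Set.range f))) :
    IsImmersion (MoreMor.fiberMap f g s) ↔
      IsClosedImmersion (MoreMor.fiberMap (f ∣_ immOpen f) ((immOpen f).ι ≫ g) s) := by
  obtain ⟨ιs, k, ha, hb⟩ := restrict_fiber f g (immOpen f) s
  haveI : IsOpenImmersion ιs :=
    MorphismProperty.of_isPullback (P := @IsOpenImmersion) ha inferInstance
  haveI : IsOpenImmersion k :=
    MorphismProperty.of_isPullback (P := @IsOpenImmersion) hb.flip inferInstance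
  constructor
  · intro h
    haveI := h
    haveI : IsImmersion (MoreMor.fiberMap (f ∣_ immOpen f) ((immOpen f).ι ≫ g) s) :=
      MorphismProperty.of_isPullback (P := @IsImmersion) hb inferInstance
    refine IsClosedImmersion.of_isPreimmersion _ ?_
    have hX' := isPullback_fiberMap (f ∣_ immOpen f) ((immOpen f).ι ≫ g) s
    have h1 := Scheme.image_preimage_eq_of_isPullback hX' Set.univ
    rw [Set.preimage_univ, Set.image_univ, Set.image_univ] at h1
    have h2 := Scheme.image_preimage_eq_of_isPullback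
      (isPullback_morphismRestrict f (immOpen f)).flip Set.univ
    rw [Set.preimage_univ, Set.image_univ, Set.image_univ] at h2
    rw [h1, h2]
    exact (isClosed_preimage_range_immOpen f).preimage
      (((immOpen f).ι ≫ g).fiberι s).continuous
  · intro h
    haveI := h
    have hsurj : Function.Surjective k := by
      rw [← Set.range_eq_univ]
      have h1 := Scheme.image_preimage_eq_of_isPullback hb.flip Set.univ
      rw [Set.preimage_univ, Set.image_univ, Set.image_univ] at h1
      have h2 := Scheme.image_preimage_eq_of_isPullback ha Set.univ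
      rw [Set.preimage_univ, Set.image_univ, Set.image_univ, Scheme.Opens.range_ι] at h2
      rw [h1, h2, Set.eq_univ_iff_forall]
      intro x
      show g.fiberι s (MoreMor.fiberMap f g s x) ∉ closure (closure (Set.range f) \ Set.range f)
      intro hx
      have hy : g.fiberι s (MoreMor.fiberMap f g s x) = f ((f ≫ g).fiberι s x) := by
        have := congrArg (fun φ : (f ≫ g).fiber s ⟶ Y => φ x) (fiberMap_comp_fiberι f g s)
        simpa only [Scheme.Hom.comp_apply] using this
      have hgy : g (g.fiberι s (MoreMor.fiberMap f g s x)) = s := by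
        have : g.fiberι s (MoreMor.fiberMap f g s x) ∈ Set.range (g.fiberι s) :=
          Set.mem_range_self _
        rw [g.range_fiberι] at this
        exact this
      refine hs ⟨_, ⟨hx, fun hT => hT.2 ?_⟩, hgy⟩
      rw [hy]
      exact Set.mem_range_self _
    haveI : Epi k.base := (TopCat.epi_iff_surjective _).mpr hsurj
    haveI : IsIso k := IsOpenImmersion.isIso k
    have hf : MoreMor.fiberMap f g s =
        inv k ≫ MoreMor.fiberMap (f ∣_ immOpen f) ((immOpen f).ι ≫ g) s ≫ ιs := by
      rw [IsIso.eq_inv_comp]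
      exact hb.w
    rw [hf]
    infer_instance

/-- over `g (closure T \ T)`, in the range where closures commute with fibres, `f_s` is not an
immersion. -/
theorem not_isImmersion_fiber (s : S)
    (h1 : ∀ x ∈ closure (Set.range f), g x = s → x ∈ closure (Set.range f ∩ g ⁻¹' {s}))
    (h2 : ∀ x ∈ closure (closure (Set.range f) \ Set.range f), g x = s →
      x ∈ closure ((closure (Set.range f) \ Set.range f) ∩ g ⁻¹' {s}))
    (hs : s ∈ g '' (closure (closure (Set.range f) \ Set.range f) \
      (closure (Set.range f) \ Set.range f))) :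
    ¬ IsImmersion (MoreMor.fiberMap f g s) := by
  intro himm
  haveI := himm
  obtain ⟨y, ⟨hy1, hy2⟩, hys⟩ := hs
  have hX := isPullback_fiberMap f g s
  have hrange : Set.range (MoreMor.fiberMap f g s) = g.fiberι s ⁻¹' Set.range f := by
    have h := Scheme.image_preimage_eq_of_isPullback hX Set.univ
    rw [Set.preimage_univ, Set.image_univ, Set.image_univ] at h
    exact h
  have hlc := (MoreMor.fiberMap f g s).isLocallyClosed_range
  have hcl : IsClosed (closure (Set.range (MoreMor.fiberMap f g s)) \
      Set.range (MoreMor.fiberMap f g s)) := by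
    have := hlc.isOpen_coborder
    rw [coborder, isOpen_compl_iff] at this
    exact this
  have hemb := (g.fiberι s).isEmbedding
  have hF := g.range_fiberι s
  have hcl2 : closure (Set.range (MoreMor.fiberMap f g s)) \ Set.range (MoreMor.fiberMap f g s) =
      g.fiberι s ⁻¹' (closure (Set.range f ∩ g ⁻¹' {s}) \ Set.range f) := by
    rw [hemb.isInducing.closure_eq_preimage_closure_image, hrange,
      Set.image_preimage_eq_inter_range, hF]
    rfl
  rw [hcl2, isClosed_preimage_iff_of_isEmbedding hemb _ _ hF] at hcl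
  have hsub : (closure (Set.range f) \ Set.range f) ∩ g ⁻¹' {s} ⊆
      (closure (Set.range f ∩ g ⁻¹' {s}) \ Set.range f) ∩ g ⁻¹' {s} := by
    rintro t ⟨⟨ht1, ht2⟩, ht3⟩
    exact ⟨⟨h1 t ht1 ht3, ht2⟩, ht3⟩
  have hy3 := hcl ⟨closure_mono hsub (h2 y hy1 hys), hys⟩
  exact hy2 ⟨closure_mono Set.inter_subset_left hy3.1, hy3.2⟩

end Criterion

section Main

theorem isFieldStableMor_isImmersion :
    ConsProp.IsFieldStableMor.{u} (fun X Y T f g => IsImmersion f) := by
  intro X X' Y Y' T T' f g f' g' eX eY h _ _ _ _ _ _ _ _ hY hX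
  show IsImmersion f ↔ IsImmersion f'
  constructor
  · intro hf
    exact MorphismProperty.of_isPullback (P := @IsImmersion) hX hf
  · intro hf'
    have heY := fpqc_of_isPullback hY (fpqc_of_subsingleton h)
    haveI : IsNoetherian T' := isNoetherian_of_subsingleton T'
    haveI : LocallyOfFiniteType g' :=
      MorphismProperty.of_isPullback (P := @LocallyOfFiniteType) hY inferInstance
    haveI : QuasiCompact (f' ≫ g') :=
      MorphismProperty.of_isPullback (P := @QuasiCompact) (hX.paste_vert hY) inferInstance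
    haveI : IsLocallyNoetherian Y' := LocallyOfFiniteType.isLocallyNoetherian g'
    haveI : QuasiSeparated g' := QuasiSeparated.of_quasiSeparatedSpace g'
    haveI : QuasiCompact f' := QuasiCompact.of_comp f' g'
    haveI := Groth.Agent.Lib.ImmDescent.descendsAlong_immersion_quasiCompact.{u}
    have := MorphismProperty.of_isPullback_of_descendsAlong
      (P := (@IsImmersion ⊓ @QuasiCompact : MorphismProperty Scheme.{u}))
      (Q := (@Surjective ⊓ @Flat ⊓ @QuasiCompact : MorphismProperty Scheme.{u}))
      hX.flip heY ⟨hf', inferInstance⟩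
    exact this.1

theorem dichotomy_isImmersion {X Y S : Scheme.{u}} (f : X ⟶ Y) (g : Y ⟶ S) [IsIntegral S]
    [IsNoetherian S] [LocallyOfFiniteType g] [QuasiCompact g] [LocallyOfFiniteType (f ≫ g)]
    [QuasiCompact (f ≫ g)] :
    (interior (ConsProp.locusMor (fun X Y T f g => IsImmersion f) f g)).Nonempty ∨
      (interior (ConsProp.locusMor (fun X Y T f g => IsImmersion f) f g)ᶜ).Nonempty := by
  haveI : IsLocallyNoetherian Y := LocallyOfFiniteType.isLocallyNoetherian g
  haveI : CompactSpace Y := QuasiCompact.compactSpace_of_compactSpace g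
  haveI : IsNoetherian Y := {}
  haveI : QuasiSeparated g := QuasiSeparated.of_quasiSeparatedSpace g
  haveI : LocallyOfFinitePresentation g := inferInstance
  haveI : LocallyOfFiniteType f := locallyOfFiniteType_of_comp f g
  haveI : QuasiCompact f := QuasiCompact.of_comp f g
  haveI : LocallyOfFinitePresentation f := inferInstance
  have hZ : IsConstructible (Set.range f) := by
    have := f.isConstructible_image IsConstructible.univ
    rwa [Set.image_univ] at this
  have hT : IsConstructible (closure (Set.range f) \ Set.range f) :=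
    (isConstructible_of_isClosed_noeth isClosed_closure).sdiff hZ
  obtain ⟨U₁, hU₁ne, hU₁⟩ := exists_open_closure_fibre g (Set.range f) hZ
  obtain ⟨U₂, hU₂ne, hU₂⟩ := exists_open_closure_fibre g _ hT
  have hC : IsConstructible (g '' (closure (closure (Set.range f) \ Set.range f) \
      (closure (Set.range f) \ Set.range f))) :=
    g.isConstructible_image ((isConstructible_of_isClosed_noeth isClosed_closure).sdiff hT)
  have hη₁ : genericPoint S ∈ U₁ := by
    obtain ⟨z, hz⟩ := hU₁ne
    exact ((genericPoint_spec S).mem_open_set_iff U₁.2).mpr ⟨z, trivial, hz⟩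
  have hη₂ : genericPoint S ∈ U₂ := by
    obtain ⟨z, hz⟩ := hU₂ne
    exact ((genericPoint_spec S).mem_open_set_iff U₂.2).mpr ⟨z, trivial, hz⟩
  obtain ⟨U', hU', hηU', hcase⟩ :=
    Groth.Agent.Lib.Constr_lead.exists_open_generic_of_isConstructible hC (genericPoint_spec S)
  rcases hcase with hin | hout
  · right
    refine ⟨genericPoint S, mem_interior.mpr ⟨U' ∩ (U₁ ∩ U₂), ?_,
      hU'.inter (U₁.2.inter U₂.2), hηU', hη₁, hη₂⟩⟩
    rintro s ⟨hs', hs1, hs2⟩
    refine not_isImmersion_fiber f g s ?_ ?_ (hin ⟨hs', trivial⟩)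
    · intro x hx hxs
      have := hU₁ x hx (hxs ▸ hs1)
      rwa [hxs] at this
    · intro x hx hxs
      have := hU₂ x hx (hxs ▸ hs2)
      rwa [hxs] at this
  · -- the restricted family
    haveI : IsLocallyNoetherian (immOpen f : Scheme.{u}) :=
      LocallyOfFiniteType.isLocallyNoetherian ((immOpen f).ι ≫ g)
    haveI : QuasiCompact ((immOpen f).ι ≫ g) := inferInstance
    haveI : QuasiSeparated ((immOpen f).ι ≫ g) :=
      QuasiSeparated.of_quasiSeparatedSpace _
    haveI : LocallyOfFinitePresentation ((immOpen f).ι ≫ g) := inferInstance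
    haveI : LocallyOfFiniteType ((f ∣_ immOpen f) ≫ (immOpen f).ι ≫ g) := inferInstance
    haveI : IsLocallyNoetherian (f ⁻¹ᵁ immOpen f : Scheme.{u}) :=
      LocallyOfFiniteType.isLocallyNoetherian ((f ∣_ immOpen f) ≫ (immOpen f).ι ≫ g)
    haveI : QuasiCompact ((f ∣_ immOpen f) ≫ (immOpen f).ι ≫ g) := inferInstance
    haveI : QuasiSeparated ((f ∣_ immOpen f) ≫ (immOpen f).ι ≫ g) :=
      QuasiSeparated.of_quasiSeparatedSpace _
    haveI : LocallyOfFinitePresentation ((f ∣_ immOpen f) ≫ (immOpen f).ι ≫ g) := inferInstance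
    have hlc := Groth.Agent.S2576.result (f ∣_ immOpen f) ((immOpen f).ι ≫ g)
    have hc : IsConstructible (ConsProp.locusMor (fun X Y T f g => IsClosedImmersion f)
        (f ∣_ immOpen f) ((immOpen f).ι ≫ g)) := hlc.isConstructible
    obtain ⟨U'', hU'', hηU'', hcase'⟩ :=
      Groth.Agent.Lib.Constr_lead.exists_open_generic_of_isConstructible hc (genericPoint_spec S)
    have hiff : ∀ s ∈ U', (s ∈ ConsProp.locusMor (fun X Y T f g => IsImmersion f) f g ↔
        s ∈ ConsProp.locusMor (fun X Y T f g => IsClosedImmersion f)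
          (f ∣_ immOpen f) ((immOpen f).ι ≫ g)) :=
      fun s hs => isImmersion_fiber_iff f g s (hout ⟨hs, trivial⟩)
    rcases hcase' with hin' | hout'
    · left
      refine ⟨genericPoint S, mem_interior.mpr ⟨U' ∩ U'', ?_, hU'.inter hU'', hηU', hηU''⟩⟩
      rintro s ⟨hs1, hs2⟩
      exact (hiff s hs1).mpr (hin' ⟨hs2, trivial⟩)
    · right
      refine ⟨genericPoint S, mem_interior.mpr ⟨U' ∩ U'', ?_, hU'.inter hU'', hηU', hηU''⟩⟩
      rintro s ⟨hs1, hs2⟩ hsE
      exact hout' ⟨hs2, trivial⟩ ((hiff s hs1).mp hsE)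

theorem isConsMor_isImmersion :
    ConsProp.IsConsMor.{u} (fun X Y T f g => IsImmersion f) :=
  ⟨isFieldStableMor_isImmersion, fun X Y S f g _ _ _ _ _ _ => dichotomy_isImmersion f g⟩

theorem main3446 {X Y S : Scheme.{u}} (f : X ⟶ Y) (g : Y ⟶ S)
    [LocallyOfFinitePresentation g] [QuasiCompact g] [QuasiSeparated g]
    [LocallyOfFinitePresentation (f ≫ g)] [QuasiCompact (f ≫ g)] [QuasiSeparated (f ≫ g)] :
    IsLocallyConstructible {s : S |
      IsImmersion (pullback.lift (pullback.fst (f ≫ g) (S.fromSpecResidueField s) ≫ f)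
          (pullback.snd (f ≫ g) (S.fromSpecResidueField s))
          ((Category.assoc _ _ _).trans pullback.condition) :
        pullback (f ≫ g) (S.fromSpecResidueField s) ⟶ pullback g (S.fromSpecResidueField s))} :=
  main5880 isConsMor_isImmersion f g

end Main

end Groth.Agent.Lib.ConsFibH7
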