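import Mathlib

/-!
# Constructible subsets of qcqs schemes are images of affine schemes of finite presentation

Library for S4584 (helper3).
-/

universe u

open AlgebraicGeometry CategoryTheory Limits PrimeSpectrum Topology

namespace Groth.Agent.Lib.ConsImage

section ring

variable {R : Type u} [CommRing R]

/-- the ring attached to a basic constructible set -/
abbrev basicRing (C : BasicConstructibleSetData R) : Type u :=
  Localization.Away (Ideal.Quotient.mk (Ideal.span (Set.range C.g)) C.f)

/-- the structure map `R → (R/(g₁,…,gₙ))_f` -/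
noncomputable def basicHom (C : BasicConstructibleSetData R) : R →+* basicRing C :=
  (algebraMap (R ⧸ Ideal.span (Set.range C.g)) (basicRing C)).comp
    (Ideal.Quotient.mk (Ideal.span (Set.range C.g)))

lemma range_comap_basicHom (C : BasicConstructibleSetData R) :
    Set.range (comap (basicHom C)) = C.toSet := by
  let I := Ideal.span (Set.range C.g)
  let f := Ideal.Quotient.mk I C.f
  have h1 : basicHom C = (algebraMap (R ⧸ I) (Localization.Away f)).comp
      (Ideal.Quotient.mk I) := rfl
  rw [h1]
  trans comap (Ideal.Quotient.mk I) '' (Set.range (comap (algebraMap _ (Localization.Away f))))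
  · rw [← Set.range_comp]; rfl
  · rw [localization_away_comap_range _ f, ← comap_basicOpen, TopologicalSpace.Opens.coe_comap,
      ContinuousMap.coe_mk, Set.image_preimage_eq_inter_range,
      range_comap_of_surjective _ _ Ideal.Quotient.mk_surjective, BasicConstructibleSetData.toSet,
      Set.sdiff_eq_compl_inter, basicOpen_eq_zeroLocus_compl, Ideal.mk_ker, zeroLocus_span]

lemma finitePresentation_basicHom (C : BasicConstructibleSetData R) :
    (basicHom C).FinitePresentation := by
  refine RingHom.FinitePresentation.comp ?_ ?_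
  · rw [RingHom.finitePresentation_algebraMap]
    exact IsLocalization.Away.finitePresentation
      (Ideal.Quotient.mk (Ideal.span (Set.range C.g)) C.f)
  · refine RingHom.FinitePresentation.of_surjective _ Ideal.Quotient.mk_surjective ?_
    rw [Ideal.mk_ker]
    exact Submodule.fg_span (Set.finite_range C.g)

end ring

section scheme

/-- affine case: a constructible subset of an affine scheme is a finite union of images of
affine schemes of finite presentation. -/
theorem affine_case (Y : Scheme.{u}) [IsAffine Y] (Z : Set Y) (hZ : IsConstructible Z) :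
    ∃ (ι : Type u) (_ : Finite ι) (W : ι → Scheme.{u}) (_ : ∀ i, IsAffine (W i))
      (g : ∀ i, W i ⟶ Y),
      (∀ i, LocallyOfFinitePresentation (g i)) ∧ (⋃ i, Set.range (g i)) = Z := by
  let R := Γ(Y, ⊤)
  let e : Y ≅ Spec R := Y.isoSpec
  let Z' : Set (PrimeSpectrum R) := e.inv ⁻¹' Z
  have hZ' : IsConstructible Z' := e.inv.isConstructible_preimage hZ
  obtain ⟨S, hS⟩ := exists_constructibleSetData_iff.mpr hZ'
  refine ⟨↥S, inferInstance, fun C => Spec (CommRingCat.of (basicRing C.1)),
    fun _ => inferInstance,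
    fun C => Spec.map (CommRingCat.ofHom (basicHom C.1)) ≫ e.inv, ?_, ?_⟩
  · intro C
    have : LocallyOfFinitePresentation (Spec.map (CommRingCat.ofHom (basicHom C.1))) := by
      rw [LocallyOfFinitePresentation.SpecMap_iff]
      exact finitePresentation_basicHom C.1
    infer_instance
  · ext y
    simp only [Set.mem_iUnion, Set.mem_range]
    constructor
    · rintro ⟨C, w, rfl⟩
      have hw : (Spec.map (CommRingCat.ofHom (basicHom C.1))) w ∈ S.toSet := by
        refine Set.mem_biUnion C.2 ?_
        rw [← range_comap_basicHom]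
        exact ⟨w, rfl⟩
      have hw' : (Spec.map (CommRingCat.ofHom (basicHom C.1))) w ∈ Z' := hS ▸ hw
      exact hw'
    · intro hy
      have hy' : e.hom y ∈ Z' := by
        change e.inv (e.hom y) ∈ Z
        rw [← Scheme.Hom.comp_apply, e.hom_inv_id]
        exact hy
      have hy'' : e.hom y ∈ S.toSet := hS.symm ▸ hy'
      obtain ⟨C, hC, hyC⟩ := Set.mem_iUnion₂.mp hy''
      rw [← range_comap_basicHom] at hyC
      obtain ⟨w, hw⟩ := hyC
      refine ⟨⟨C, hC⟩, w, ?_⟩
      rw [Scheme.Hom.comp_apply]
      have : (Spec.map (CommRingCat.ofHom (basicHom C))) w = e.hom y := hw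
      rw [this, ← Scheme.Hom.comp_apply, e.hom_inv_id]
      rfl

theorem main (X : Scheme.{u}) [CompactSpace X] [QuasiSeparatedSpace X] (Z : Set X)
    (hZ : IsConstructible Z) :
    ∃ (X' : Scheme.{u}) (f : X' ⟶ X), IsAffine X' ∧ LocallyOfFinitePresentation f ∧
      QuasiCompact f ∧ QuasiSeparated f ∧ Set.range f.base = Z := by
  let 𝒰 := X.affineCover.finiteSubcover
  have hfin : Finite 𝒰.I₀ := inferInstance
  have haff : ∀ j, IsAffine (𝒰.X j) := inferInstance
  choose ι hι W hW g hg hrange using fun j =>
    affine_case (𝒰.X j) ((𝒰.f j) ⁻¹' Z) ((𝒰.f j).isConstructible_preimage hZ)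
  let T := Σ j, ι j
  let V : T → Scheme.{u} := fun t => W t.1 t.2
  let F : ∀ t, V t ⟶ X := fun t => g t.1 t.2 ≫ 𝒰.f t.1
  haveI : Finite T := inferInstance
  haveI : ∀ t, IsAffine (V t) := fun t => hW t.1 t.2
  haveI : ∀ t, LocallyOfFinitePresentation (F t) := fun t => by
    haveI := hg t.1 t.2
    infer_instance
  haveI : IsAffine (∐ V) := inferInstance
  refine ⟨∐ V, Sigma.desc F, inferInstance,
    IsZariskiLocalAtSource.sigmaDesc (fun t => inferInstance), inferInstance, inferInstance, ?_⟩
  ext x
  constructor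
  · rintro ⟨y, rfl⟩
    obtain ⟨⟨t, w⟩, rfl⟩ := (sigmaMk V).surjective y
    rw [sigmaMk_mk]
    change (Sigma.desc F) ((Sigma.ι V t) w) ∈ Z
    rw [← Scheme.Hom.comp_apply, Sigma.ι_desc]
    have : (g t.1 t.2) w ∈ (𝒰.f t.1) ⁻¹' Z := by
      rw [← hrange t.1]
      exact Set.mem_iUnion.mpr ⟨t.2, w, rfl⟩
    exact this
  · intro hx
    obtain ⟨j, y, rfl⟩ := 𝒰.exists_eq x
    have hy : y ∈ ⋃ i, Set.range (g j i) := by
      rw [hrange j]; exact hx
    obtain ⟨i, w, rfl⟩ := Set.mem_iUnion.mp hy
    refine ⟨Sigma.ι V ⟨j, i⟩ w, ?_⟩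
    change (Sigma.desc F) ((Sigma.ι V ⟨j, i⟩) w) = _
    rw [← Scheme.Hom.comp_apply, Sigma.ι_desc]
    rfl

end scheme

end Groth.Agent.Lib.ConsImage
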