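import Mathlib
import Groth.Prelude
import Groth.Agent.Lib.CocycIso_helper9
import Groth.Agent.Lib.RefHull19_helper8
import Groth.Agent.Lib.Tens31_helper8

/-!
# The dual of an invertible module commutes with pullback (helper5)
APPEND-ONLY once landed.

* `DualPull.dualGen_res_coef`: dual generators transform by the inverse coefficient (sections form).
* `DualPull.isInvertible_dual`: the dual of an invertible module is invertible.
* `DualPull.cUV_transition`: pulled back sections transform by the pulled back coefficient.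
* `DualPull.nonempty_dual_pullback_iso`: `(u^* M)^∨ ≅ u^* (M^∨)` for invertible `M`.
-/

set_option autoImplicit false

namespace Groth.Agent.DualPull

open AlgebraicGeometry CategoryTheory CategoryTheory.Limits TopologicalSpace Opposite
open QcqsLoc QCohExtn GenLocH8 TensH8 PBH8 RefHullH8 SecOrdH8

universe u

section Dual

variable {Y : Scheme.{u}}

/-- Dual generators transform by the inverse coefficient (sections form). -/
theorem dualGen_res_coef {N : Y.Modules} {W W₀ O : Y.Opens} {e : Γ(N, W)} {e₀ : Γ(N, W₀)}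
    (he : IsGen N W e) (he₀ : IsGen N W₀ e₀) (hO : O ≤ W) (hO₀ : O ≤ W₀) (a b : Γ(Y, O))
    (hab : a * b = 1) (h : rF N hO e = a • rF N hO₀ e₀) :
    rF (RefHull.dual N) hO (dualGen he) = b • rF (RefHull.dual N) hO₀ (dualGen he₀) := by
  obtain ⟨β, hβ⟩ := ((isGen_dualGen he₀).res hO₀).exists_coef (rF (RefHull.dual N) hO (dualGen he))
  have h1 : a * β = 1 := by
    refine TopCat.Presheaf.section_ext Y.sheaf O _ _ (fun y hy => ?_)
    have hα' : N.presheaf.germ W y (hO hy) e =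
        Y.presheaf.germ O y hy a • N.presheaf.germ W₀ y (hO₀ hy) e₀ := by
      rw [← germ_rF N hO y hy e, h, Groth.Agent.Lib.QCohLoc_helper4.germ_smul, germ_rF]
    have hβ' : (RefHull.dual N).presheaf.germ W y (hO hy) (dualGen he) =
        Y.presheaf.germ O y hy β • (RefHull.dual N).presheaf.germ W₀ y (hO₀ hy) (dualGen he₀) := by
      rw [← germ_rF (RefHull.dual N) hO y hy (dualGen he), hβ,
        Groth.Agent.Lib.QCohLoc_helper4.germ_smul, germ_rF]
    have := dualGen_coef he he₀ y (hO hy) (hO₀ hy) _ _ hα' hβ'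
    show Y.presheaf.germ O y hy (a * β) = Y.presheaf.germ O y hy 1
    rw [map_mul, map_one]
    exact this
  have h2 : β = b := by
    calc β = (b * a) * β := by rw [mul_comm b a, hab, one_mul]
      _ = b * (a * β) := by ring
      _ = b := by rw [h1, mul_one]
  rw [hβ, h2]

/-- The dual of an invertible module is invertible. -/
theorem isInvertible_dual {N : Y.Modules} (hN : PicF.IsInvertible N) :
    PicF.IsInvertible (RefHull.dual N) := by
  apply isInvertible_of_gens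
  intro x
  obtain ⟨W, hW, hxW, e, he⟩ := exists_isGen hN x
  exact ⟨W, hW, hxW, dualGen he, isGen_dualGen he⟩

end Dual

section Pull

variable {Z S : Scheme.{u}} (u : Z ⟶ S)

theorem preimage_inf_le (V₁ V₂ : S.Opens) : u ⁻¹ᵁ V₁ ⊓ u ⁻¹ᵁ V₂ ≤ u ⁻¹ᵁ (V₁ ⊓ V₂) :=
  fun _ hz => ⟨hz.1, hz.2⟩

/-- Pulled back sections transform by the pulled back coefficient. -/
theorem cUV_transition (F : S.Modules) {V₁ V₂ : S.Opens} (x₁ : Γ(F, V₁)) (x₂ : Γ(F, V₂))
    (c : Γ(S, V₁ ⊓ V₂))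
    (h : rF F (inf_le_left : V₁ ⊓ V₂ ≤ V₁) x₁ = c • rF F (inf_le_right : V₁ ⊓ V₂ ≤ V₂) x₂) :
    rF ((Scheme.Modules.pullback u).obj F) (inf_le_left : u ⁻¹ᵁ V₁ ⊓ u ⁻¹ᵁ V₂ ≤ u ⁻¹ᵁ V₁)
        (cUV u F le_rfl x₁) =
      u.appLE (V₁ ⊓ V₂) (u ⁻¹ᵁ V₁ ⊓ u ⁻¹ᵁ V₂) (preimage_inf_le u V₁ V₂) c •
        rF ((Scheme.Modules.pullback u).obj F) (inf_le_right : u ⁻¹ᵁ V₁ ⊓ u ⁻¹ᵁ V₂ ≤ u ⁻¹ᵁ V₂)
          (cUV u F le_rfl x₂) := by
  rw [rF_cUV, rF_cUV]
  have e1 : cUV u F ((inf_le_left : u ⁻¹ᵁ V₁ ⊓ u ⁻¹ᵁ V₂ ≤ u ⁻¹ᵁ V₁).trans le_rfl) x₁ =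
      cUV u F (preimage_inf_le u V₁ V₂) (rF F (inf_le_left : V₁ ⊓ V₂ ≤ V₁) x₁) :=
    (cUV_resV u F (inf_le_left : V₁ ⊓ V₂ ≤ V₁) (preimage_inf_le u V₁ V₂) x₁).symm
  have e2 : cUV u F ((inf_le_right : u ⁻¹ᵁ V₁ ⊓ u ⁻¹ᵁ V₂ ≤ u ⁻¹ᵁ V₂).trans le_rfl) x₂ =
      cUV u F (preimage_inf_le u V₁ V₂) (rF F (inf_le_right : V₁ ⊓ V₂ ≤ V₂) x₂) :=
    (cUV_resV u F (inf_le_right : V₁ ⊓ V₂ ≤ V₂) (preimage_inf_le u V₁ V₂) x₂).symm
  rw [e1, e2, h, cUV_smul]

/-- **The dual of an invertible module commutes with pullback.** -/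
theorem nonempty_dual_pullback_iso {M : S.Modules} (hM : PicF.IsInvertible M) :
    Nonempty (RefHull.dual ((Scheme.Modules.pullback u).obj M) ≅
      (Scheme.Modules.pullback u).obj (RefHull.dual M)) := by
  classical
  have hMd : PicF.IsInvertible (RefHull.dual M) := isInvertible_dual hM
  let ι : Type u := {p : Σ V : S.Opens, Γ(M, V) // IsAffineOpen p.1 ∧ IsGen M p.1 p.2}
  let U : ι → Z.Opens := fun p => u ⁻¹ᵁ p.1.1
  have hg : ∀ p : ι, IsGen ((Scheme.Modules.pullback u).obj M) (U p) (cUV u M le_rfl p.1.2) :=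
    fun p => isGen_cUV u hM p.2.1 p.2.2
  let s : ∀ p : ι, Γ(RefHull.dual ((Scheme.Modules.pullback u).obj M), U p) :=
    fun p => dualGen (hg p)
  let s' : ∀ p : ι, Γ((Scheme.Modules.pullback u).obj (RefHull.dual M), U p) :=
    fun p => cUV u (RefHull.dual M) le_rfl (dualGen p.2.2)
  -- transition coefficients on the base
  have hcoef : ∀ p q : ι, ∃ g h : Γ(S, p.1.1 ⊓ q.1.1), g * h = 1 ∧
      rF M (inf_le_left : p.1.1 ⊓ q.1.1 ≤ p.1.1) p.1.2 =
        g • rF M (inf_le_right : p.1.1 ⊓ q.1.1 ≤ q.1.1) q.1.2 := by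
    intro p q
    obtain ⟨g, hg⟩ := (q.2.2.res (inf_le_right : p.1.1 ⊓ q.1.1 ≤ q.1.1)).exists_coef
      (rF M (inf_le_left : p.1.1 ⊓ q.1.1 ≤ p.1.1) p.1.2)
    obtain ⟨h, hh⟩ := (p.2.2.res (inf_le_left : p.1.1 ⊓ q.1.1 ≤ p.1.1)).exists_coef
      (rF M (inf_le_right : p.1.1 ⊓ q.1.1 ≤ q.1.1) q.1.2)
    refine ⟨g, h, ?_, hg⟩
    apply IsGen.coef_ext (p.2.2.res (inf_le_left : p.1.1 ⊓ q.1.1 ≤ p.1.1))
    rw [one_smul, mul_smul, ← hh, ← hg]
  choose g h hgh hgM using hcoef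
  let η : ∀ p q : ι, Γ(Z, U p ⊓ U q) := fun p q =>
    u.appLE (p.1.1 ⊓ q.1.1) (U p ⊓ U q) (preimage_inf_le u p.1.1 q.1.1) (h p q)
  have hU : iSup U = ⊤ := by
    rw [eq_top_iff]
    intro z _
    obtain ⟨V, hV, hzV, e, he⟩ := exists_isGen hM (u z)
    exact Opens.mem_iSup.2 ⟨⟨⟨V, e⟩, hV, he⟩, hzV⟩
  have hs : ∀ p, IsGen (RefHull.dual ((Scheme.Modules.pullback u).obj M)) (U p) (s p) :=
    fun p => isGen_dualGen (hg p)
  have hs' : ∀ p, IsGen ((Scheme.Modules.pullback u).obj (RefHull.dual M)) (U p) (s' p) :=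
    fun p => isGen_cUV u hMd p.2.1 (isGen_dualGen p.2.2)
  have hη : ∀ p q, rF (RefHull.dual ((Scheme.Modules.pullback u).obj M))
      (inf_le_left : U p ⊓ U q ≤ U p) (s p) =
      η p q • rF (RefHull.dual ((Scheme.Modules.pullback u).obj M))
        (inf_le_right : U p ⊓ U q ≤ U q) (s q) := by
    intro p q
    refine dualGen_res_coef (hg p) (hg q) inf_le_left inf_le_right
      (u.appLE (p.1.1 ⊓ q.1.1) (U p ⊓ U q) (preimage_inf_le u p.1.1 q.1.1) (g p q)) (η p q) ?_ ?_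
    · show u.appLE _ _ _ (g p q) * u.appLE _ _ _ (h p q) = 1
      rw [← map_mul, hgh, map_one]
    · exact cUV_transition u M p.1.2 q.1.2 (g p q) (hgM p q)
  have hη' : ∀ p q, rF ((Scheme.Modules.pullback u).obj (RefHull.dual M))
      (inf_le_left : U p ⊓ U q ≤ U p) (s' p) =
      η p q • rF ((Scheme.Modules.pullback u).obj (RefHull.dual M))
        (inf_le_right : U p ⊓ U q ≤ U q) (s' q) := by
    intro p q
    exact cUV_transition u (RefHull.dual M) (dualGen p.2.2) (dualGen q.2.2) (h p q)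
      (dualGen_res_coef p.2.2 q.2.2 inf_le_left inf_le_right (g p q) (h p q) (hgh p q) (hgM p q))
  have hu : ∀ p q, η p q * rX (inf_le_left : U p ⊓ U q ≤ U p) ((fun _ => 1 : ∀ p, Γ(Z, U p)) p) =
      rX (inf_le_right : U p ⊓ U q ≤ U q) ((fun _ => 1 : ∀ p, Γ(Z, U p)) q) * η p q := by
    intro p q
    simp only [map_one, mul_one, one_mul]
  exact CocycIsoH9.nonempty_iso hU hs hη hη' hu hs' (fun _ => isUnit_one)

end Pull

end Groth.Agent.DualPull
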