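import Mathlib
import Groth.Prelude
import Groth.Agent.Lib.Tens16_helper8

/-!
# Unique lifting of `n`-th roots along thickenings (helper5)
APPEND-ONLY once landed.

* `ThickPic.root_unique`, `ThickPic.exists_root_lift`: `n`-th roots of units lift uniquely along a
  surjection with nil kernel when `n` is invertible (Newton / Hensel for nilpotents).
* `ThickPic.isNilpotent_of_app_eq_zero`: the kernel of a thickening is nil on affine opens.
* `ThickPic.root_unique_open`, `ThickPic.exists_root_lift_open`: the same for sections of `O_{X'}` over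
  arbitrary opens of a thickening `X ⟶ X'`.
-/

set_option autoImplicit false

namespace Groth.Agent.ThickPic

open AlgebraicGeometry CategoryTheory TopologicalSpace Opposite Polynomial
open QcqsLoc TensH8

universe u

section Algebra

variable {B B' : Type u} [CommRing B] [CommRing B']

/-- `n`-th roots of a unit which differ by a nilpotent are equal (`n` invertible). -/
theorem root_unique (n : ℕ) (hn : 0 < n) (hu : IsUnit (n : B)) (a : B) (ha : IsUnit a) (r₁ r₂ : B)
    (h₁ : r₁ ^ n = a) (h₂ : r₂ ^ n = a) (hnil : IsNilpotent (r₁ - r₂)) : r₁ = r₂ := by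
  have hr₁ : IsUnit r₁ := by
    have : IsUnit (r₁ ^ n) := h₁ ▸ ha
    exact (isUnit_pow_iff hn.ne').mp this
  let P : B[X] := X ^ n - C a
  have hP : ∀ r : B, aeval r P = r ^ n - a := by
    intro r
    simp [P]
  have hP' : aeval r₁ (derivative P) = (n : B) * r₁ ^ (n - 1) := by
    have hd : derivative P = C (n : B) * X ^ (n - 1) := by simp [P, derivative_X_pow]
    rw [hd]
    simp
  have h : IsNilpotent (aeval r₁ P) := by
    rw [hP, h₁, sub_self]
    exact IsNilpotent.zero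
  have h' : IsUnit (aeval r₁ (derivative P)) := by
    rw [hP']
    exact hu.mul (hr₁.pow _)
  obtain ⟨r, -, hr⟩ := existsUnique_nilpotent_sub_and_aeval_eq_zero h h'
  have e₁ : r₁ = r := hr r₁ ⟨by rw [sub_self]; exact IsNilpotent.zero, by rw [hP, h₁, sub_self]⟩
  have e₂ : r₂ = r := hr r₂ ⟨hnil, by rw [hP, h₂, sub_self]⟩
  rw [e₁, e₂]

variable (φ : B' →+* B) (hφ : Function.Surjective φ) (hker : ∀ x : B', φ x = 0 → IsNilpotent x)

include hφ hker in
/-- Units lift along a surjection with nil kernel. -/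
theorem isUnit_of_isUnit_map {x : B'} (h : IsUnit (φ x)) : IsUnit x := by
  obtain ⟨y, hy⟩ := h.exists_right_inv
  obtain ⟨y', rfl⟩ := hφ y
  have h1 : IsNilpotent (x * y' - 1) := by
    apply hker
    rw [map_sub, map_mul, hy, map_one, sub_self]
  have h2 : IsUnit (x * y') := by
    have := h1.isUnit_add_one
    rwa [sub_add_cancel] at this
  exact isUnit_of_mul_isUnit_left h2

include hφ hker in
/-- `n`-th roots of units lift along a surjection with nil kernel (`n` invertible). -/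
theorem exists_root_lift (n : ℕ) (hn : 0 < n) (hu : IsUnit (n : B')) (a' : B') (ha' : IsUnit a')
    (g : B) (hg : g ^ n = φ a') : ∃ g' : B', φ g' = g ∧ g' ^ n = a' := by
  obtain ⟨g₀, rfl⟩ := hφ g
  have hg₀ : IsUnit g₀ := by
    apply isUnit_of_isUnit_map φ hφ hker
    have : IsUnit ((φ g₀) ^ n) := hg ▸ ha'.map φ
    exact (isUnit_pow_iff hn.ne').mp this
  let P : B'[X] := X ^ n - C a'
  have hP : ∀ r : B', aeval r P = r ^ n - a' := by
    intro r
    simp [P]
  have hP' : aeval g₀ (derivative P) = (n : B') * g₀ ^ (n - 1) := by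
    have hd : derivative P = C (n : B') * X ^ (n - 1) := by simp [P, derivative_X_pow]
    rw [hd]
    simp
  have h : IsNilpotent (aeval g₀ P) := by
    rw [hP]
    apply hker
    rw [map_sub, map_pow, hg, sub_self]
  have h' : IsUnit (aeval g₀ (derivative P)) := by
    rw [hP']
    exact hu.mul (hg₀.pow _)
  obtain ⟨r, ⟨hr1, hr2⟩, -⟩ := existsUnique_nilpotent_sub_and_aeval_eq_zero h h'
  rw [hP, sub_eq_zero] at hr2
  refine ⟨r, ?_, hr2⟩
  have hu' : IsUnit (n : B) := by
    have := hu.map φ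
    rwa [map_natCast] at this
  refine (root_unique n hn hu' (φ a') (ha'.map φ) (φ g₀) (φ r) hg (by rw [← map_pow, hr2]) ?_).symm
  rw [← map_sub]
  exact hr1.map φ

end Algebra

section Scheme

variable {X X' : Scheme.{u}} (i : X ⟶ X')

theorem preimage_mono {U V : X'.Opens} (h : U ≤ V) : i ⁻¹ᵁ U ≤ i ⁻¹ᵁ V := fun _ hx => h hx

theorem appLE_rX {U U' : X'.Opens} {V : X.Opens} (hU : U' ≤ U) (e : V ≤ i ⁻¹ᵁ U') (a : Γ(X', U)) :
    i.appLE U' V e (rX hU a) = i.appLE U V (e.trans (preimage_mono i hU)) a := by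
  have := i.map_appLE e (homOfLE hU).op
  exact congrArg (fun φ => φ.hom a) this

theorem rX_appLE {U : X'.Opens} {V V' : X.Opens} (e : V ≤ i ⁻¹ᵁ U) (h : V' ≤ V) (a : Γ(X', U)) :
    rX h (i.appLE U V e a) = i.appLE U V' (h.trans e) a := by
  have := i.appLE_map e (homOfLE h).op
  exact congrArg (fun φ => φ.hom a) this

variable [IsClosedImmersion i] [Surjective i]

/-- The kernel of a thickening is nil on affine (compact) opens. -/
theorem isNilpotent_of_app_eq_zero {U' : X'.Opens} (hU' : IsCompact (U' : Set X'))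
    (a : Γ(X', U')) (ha : i.app U' a = 0) : IsNilpotent a := by
  rw [Scheme.isNilpotent_iff_basicOpen_eq_bot_of_isCompact hU']
  rw [eq_bot_iff]
  intro x' hx'
  obtain ⟨x, rfl⟩ := i.surjective x'
  have h1 : x ∈ i ⁻¹ᵁ X'.basicOpen a := hx'
  rw [Scheme.preimage_basicOpen, ha, Scheme.basicOpen_zero] at h1
  exact h1

/-- On an affine open the comorphism of a thickening is surjective with nil kernel. -/
theorem app_data {U' : X'.Opens} (hU' : IsAffineOpen U') :
    Function.Surjective (i.app U').hom ∧ ∀ a : Γ(X', U'), (i.app U').hom a = 0 → IsNilpotent a :=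
  ⟨i.app_surjective U' hU', fun a ha => isNilpotent_of_app_eq_zero i hU'.isCompact a ha⟩

variable (n : ℕ) (hn : 0 < n) (hu : IsUnit (n : Γ(X, ⊤)))

include hu in
theorem isUnit_natCast_open (O : X.Opens) : IsUnit (n : Γ(X, O)) := by
  have := hu.map (rX (le_top : O ≤ ⊤))
  rwa [map_natCast] at this

include i hu in
theorem isUnit_natCast_affine {U' : X'.Opens} (hU' : IsAffineOpen U') : IsUnit (n : Γ(X', U')) := by
  obtain ⟨h1, h2⟩ := app_data i hU'
  apply isUnit_of_isUnit_map (i.app U').hom h1 h2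
  rw [map_natCast]
  exact isUnit_natCast_open n hu _

include hn hu in
/-- Uniqueness of `n`-th roots of units with given restriction to `X`, over any open of `X'`. -/
theorem root_unique_open {O' : X'.Opens} (v w : Γ(X', O')) (hv : IsUnit v) (hvw : v ^ n = w ^ n)
    (hi : i.app O' v = i.app O' w) : v = w := by
  apply eqX_of_cover
  intro x hx
  obtain ⟨_, ⟨W, hW : IsAffineOpen W, rfl⟩, hxW, hle⟩ :=
    (X'.isBasis_affineOpens).exists_subset_of_mem_open hx O'.isOpen
  refine ⟨W, hle, hxW, ?_⟩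
  obtain ⟨h1, h2⟩ := app_data i hW
  refine root_unique n hn (isUnit_natCast_affine i n hu hW) (rX hle v ^ n) ((hv.map (rX hle)).pow n)
    _ _ rfl ?_ ?_
  · rw [← map_pow, ← map_pow, hvw]
  · apply h2
    rw [map_sub, sub_eq_zero]
    have e1 := appLE_rX i hle (le_rfl : i ⁻¹ᵁ W ≤ i ⁻¹ᵁ W) v
    have e2 := appLE_rX i hle (le_rfl : i ⁻¹ᵁ W ≤ i ⁻¹ᵁ W) w
    rw [Scheme.Hom.appLE_eq_app] at e1 e2
    have e3 : i.appLE O' (i ⁻¹ᵁ W) (preimage_mono i hle) v =
        i.appLE O' (i ⁻¹ᵁ W) (preimage_mono i hle) w := by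
      have := congrArg (rX (preimage_mono i hle)) hi
      rw [← Scheme.Hom.appLE_eq_app, rX_appLE, rX_appLE] at this
      exact this
    exact e1.trans (e3.trans e2.symm)

include hn hu in
/-- Existence of `n`-th roots of units with given restriction to `X`, over any open of `X'`. -/
theorem exists_root_lift_open {O' : X'.Opens} (a' : Γ(X', O')) (ha' : IsUnit a')
    (g : Γ(X, i ⁻¹ᵁ O')) (hg : g ^ n = i.app O' a') :
    ∃ g' : Γ(X', O'), i.app O' g' = g ∧ g' ^ n = a' := by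
  classical
  -- local solutions on affine opens
  have hloc : ∀ W : {W : X'.Opens // IsAffineOpen W ∧ W ≤ O'}, ∃ gW : Γ(X', W.1),
      i.app W.1 gW = rX (preimage_mono i W.2.2) g ∧ gW ^ n = rX W.2.2 a' := by
    rintro ⟨W, hW, hle⟩
    obtain ⟨h1, h2⟩ := app_data i hW
    refine exists_root_lift (i.app W).hom h1 h2 n hn (isUnit_natCast_affine i n hu hW) (rX hle a')
      (ha'.map (rX hle)) _ ?_
    rw [← map_pow, hg]
    have e1 := appLE_rX i hle (le_rfl : i ⁻¹ᵁ W ≤ i ⁻¹ᵁ W) a'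
    rw [Scheme.Hom.appLE_eq_app] at e1
    rw [← Scheme.Hom.appLE_eq_app, rX_appLE]
    exact e1.symm
  choose gW hgW1 hgW2 using hloc
  obtain ⟨g', hg'⟩ := glueX (fun W : {W : X'.Opens // IsAffineOpen W ∧ W ≤ O'} => W.1) O'
    (fun W => W.2.2) (by
      intro x hx
      obtain ⟨_, ⟨W, hW : IsAffineOpen W, rfl⟩, hxW, hle⟩ :=
        (X'.isBasis_affineOpens).exists_subset_of_mem_open hx O'.isOpen
      exact Opens.mem_iSup.2 ⟨⟨W, hW, hle⟩, hxW⟩) gW (by
      intro W W'
      apply root_unique_open i n hn hu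
      · have hunit : IsUnit (gW W) := by
          have : IsUnit (gW W ^ n) := by rw [hgW2]; exact ha'.map _
          exact (isUnit_pow_iff hn.ne').mp this
        exact hunit.map _
      · rw [← map_pow, ← map_pow, hgW2, hgW2, rX_rX, rX_rX]
      · have e1 := appLE_rX i (inf_le_left : W.1 ⊓ W'.1 ≤ W.1)
          (le_rfl : i ⁻¹ᵁ (W.1 ⊓ W'.1) ≤ i ⁻¹ᵁ (W.1 ⊓ W'.1)) (gW W)
        have e2 := appLE_rX i (inf_le_right : W.1 ⊓ W'.1 ≤ W'.1)
          (le_rfl : i ⁻¹ᵁ (W.1 ⊓ W'.1) ≤ i ⁻¹ᵁ (W.1 ⊓ W'.1)) (gW W')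
        rw [Scheme.Hom.appLE_eq_app] at e1 e2
        rw [e1, e2]
        have f1 := rX_appLE i (le_rfl : i ⁻¹ᵁ W.1 ≤ i ⁻¹ᵁ W.1)
          (preimage_mono i (inf_le_left : W.1 ⊓ W'.1 ≤ W.1)) (gW W)
        have f2 := rX_appLE i (le_rfl : i ⁻¹ᵁ W'.1 ≤ i ⁻¹ᵁ W'.1)
          (preimage_mono i (inf_le_right : W.1 ⊓ W'.1 ≤ W'.1)) (gW W')
        rw [Scheme.Hom.appLE_eq_app] at f1 f2
        rw [← f1, ← f2, hgW1, hgW1, rX_rX, rX_rX])
  refine ⟨g', ?_, ?_⟩
  · apply eqX_of_cover
    intro x hx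
    obtain ⟨_, ⟨W, hW : IsAffineOpen W, rfl⟩, hxW, hle⟩ :=
      (X'.isBasis_affineOpens).exists_subset_of_mem_open (show i x ∈ O' from hx) O'.isOpen
    refine ⟨i ⁻¹ᵁ W, preimage_mono i hle, hxW, ?_⟩
    have e1 := appLE_rX i hle (le_rfl : i ⁻¹ᵁ W ≤ i ⁻¹ᵁ W) g'
    rw [Scheme.Hom.appLE_eq_app, hg' ⟨W, hW, hle⟩, hgW1 ⟨W, hW, hle⟩] at e1
    rw [← Scheme.Hom.appLE_eq_app, rX_appLE]
    exact e1.symm
  · apply eqX_of_cover
    intro x hx
    obtain ⟨_, ⟨W, hW : IsAffineOpen W, rfl⟩, hxW, hle⟩ :=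
      (X'.isBasis_affineOpens).exists_subset_of_mem_open hx O'.isOpen
    refine ⟨W, hle, hxW, ?_⟩
    rw [map_pow, hg' ⟨W, hW, hle⟩, hgW2 ⟨W, hW, hle⟩]

end Scheme

end Groth.Agent.ThickPic
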