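import Mathlib
import Groth.Prelude
import Groth.Agent.Lib.ThickPic1_helper5
import Groth.Agent.Lib.CocycMod2_helper5
import Groth.Agent.Lib.DualPull_helper5

/-!
# Lifting `n`-torsion invertible modules along thickenings (helper5)
APPEND-ONLY once landed.

`ThickPic.exists_lift`: for a thickening `i : X ⟶ X'` and `n > 0` invertible on `X`, every invertible
`O_X`-module `L` with `L^{⊗ n} ≅ O_X` is `i^* L'` for an invertible `O_{X'}`-module `L'` with
`L'^{⊗ n} ≅ O_{X'}`.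
-/

set_option autoImplicit false

namespace Groth.Agent.ThickPic

open AlgebraicGeometry CategoryTheory CategoryTheory.Limits TopologicalSpace Opposite
open QcqsLoc QCohExtn GenLocH8 TensH8 PBH8 FLFH8

universe u

section Trans

variable {Y : Scheme.{u}} {N : Y.Modules} {ι : Type u} {U : ι → Y.Opens} {e : ∀ p, Γ(N, U p)}

/-- transition coefficients between local generators -/
theorem exists_transition (he : ∀ p, IsGen N (U p) (e p)) (p q : ι) :
    ∃ g h : Γ(Y, U p ⊓ U q), g * h = 1 ∧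
      rF N (inf_le_left : U p ⊓ U q ≤ U p) (e p) = g • rF N (inf_le_right : U p ⊓ U q ≤ U q) (e q) := by
  obtain ⟨g, hg⟩ := ((he q).res (inf_le_right : U p ⊓ U q ≤ U q)).exists_coef
    (rF N (inf_le_left : U p ⊓ U q ≤ U p) (e p))
  obtain ⟨h, hh⟩ := ((he p).res (inf_le_left : U p ⊓ U q ≤ U p)).exists_coef
    (rF N (inf_le_right : U p ⊓ U q ≤ U q) (e q))
  refine ⟨g, h, ?_, hg⟩
  apply IsGen.coef_ext ((he p).res (inf_le_left : U p ⊓ U q ≤ U p))
  rw [one_smul, mul_smul, ← hh, ← hg]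

/-- restriction of a transition relation to a smaller open -/
theorem transition_res {g : ∀ p q, Γ(Y, U p ⊓ U q)}
    (hg : ∀ p q, rF N (inf_le_left : U p ⊓ U q ≤ U p) (e p) =
      g p q • rF N (inf_le_right : U p ⊓ U q ≤ U q) (e q))
    (p q : ι) {T : Y.Opens} (hp : T ≤ U p) (hq : T ≤ U q) :
    rF N hp (e p) = rX (le_inf hp hq) (g p q) • rF N hq (e q) := by
  have := congrArg (rF N (le_inf hp hq)) (hg p q)
  rw [rF_smul, rF_rF, rF_rF] at this
  exact this

/-- the cocycle relation of transition coefficients -/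
theorem transition_cocycle (he : ∀ p, IsGen N (U p) (e p)) {g : ∀ p q, Γ(Y, U p ⊓ U q)}
    (hg : ∀ p q, rF N (inf_le_left : U p ⊓ U q ≤ U p) (e p) =
      g p q • rF N (inf_le_right : U p ⊓ U q ≤ U q) (e q))
    (p q r : ι) {T : Y.Opens} (hp : T ≤ U p) (hq : T ≤ U q) (hr : T ≤ U r) :
    rX (le_inf hp hr) (g p r) = rX (le_inf hp hq) (g p q) * rX (le_inf hq hr) (g q r) := by
  apply IsGen.coef_ext ((he r).res hr)
  rw [← transition_res hg p r hp hr, mul_smul, ← transition_res hg q r hq hr,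
    ← transition_res hg p q hp hq]

end Trans

section Variants

variable {X X' : Scheme.{u}} (i : X ⟶ X') [IsClosedImmersion i] [Surjective i]
  (n : ℕ) (hn : 0 < n) (hu : IsUnit (n : Γ(X, ⊤)))

include hn hu in
theorem root_unique_open' {O' : X'.Opens} {V : X.Opens} (hV : V = i ⁻¹ᵁ O') (v w : Γ(X', O'))
    (hv : IsUnit v) (hvw : v ^ n = w ^ n)
    (hi : i.appLE O' V hV.le v = i.appLE O' V hV.le w) : v = w := by
  subst hV
  rw [Scheme.Hom.appLE_eq_app] at hi
  exact root_unique_open i n hn hu v w hv hvw hi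

include hn hu in
theorem exists_root_lift_open' {O' : X'.Opens} {V : X.Opens} (hV : V = i ⁻¹ᵁ O') (a' : Γ(X', O'))
    (ha' : IsUnit a') (g : Γ(X, V)) (hg : g ^ n = i.appLE O' V hV.le a') :
    ∃ g' : Γ(X', O'), i.appLE O' V hV.le g' = g ∧ g' ^ n = a' := by
  subst hV
  rw [Scheme.Hom.appLE_eq_app] at hg
  obtain ⟨g', h1, h2⟩ := exists_root_lift_open i n hn hu a' ha' g hg
  refine ⟨g', ?_, h2⟩
  rw [Scheme.Hom.appLE_eq_app]
  exact h1

/-- every open of `X` contains the preimage of an open of `X'` around a given point -/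
theorem exists_open_preimage_le (V : X.Opens) (x : X) (hx : x ∈ V) :
    ∃ V' : X'.Opens, i x ∈ V' ∧ i ⁻¹ᵁ V' ≤ V := by
  have hcl : IsClosed (i '' ((V : Set X)ᶜ)) :=
    i.isClosedEmbedding.isClosedMap _ V.isOpen.isClosed_compl
  refine ⟨⟨(i '' ((V : Set X)ᶜ))ᶜ, hcl.isOpen_compl⟩, ?_, ?_⟩
  · rintro ⟨y, hy, hyx⟩
    exact hy ((i.isClosedEmbedding.injective hyx) ▸ hx)
  · intro y hy
    by_contra hyV
    exact hy ⟨y, hyV, rfl⟩

end Variants

section Main

variable {X X' : Scheme.{u}} (i : X ⟶ X') [IsClosedImmersion i] [Surjective i]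
  (n : ℕ) (hn : 0 < n) (hu : IsUnit (n : Γ(X, ⊤)))
  (L : X.Modules) (hL : PicF.IsInvertible L) (α : CohB1.tensorPow L n ≅ Coh.structureModule X)

include hn hu hL α in
/-- **Lifting `n`-torsion invertible modules along a thickening.** -/
theorem exists_lift : ∃ L' : X'.Modules, PicF.IsInvertible L' ∧
    Nonempty (CohB1.tensorPow L' n ≅ Coh.structureModule X') ∧
    Nonempty ((Scheme.Modules.pullback i).obj L' ≅ L) := by
  classical
  let ι : Type u := {p : Σ U' : X'.Opens, Γ(L, i ⁻¹ᵁ U') // IsAffineOpen p.1 ∧ IsGen L (i ⁻¹ᵁ p.1) p.2}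
  let U' : ι → X'.Opens := fun p => p.1.1
  let U : ι → X.Opens := fun p => i ⁻¹ᵁ p.1.1
  let e : ∀ p : ι, Γ(L, U p) := fun p => p.1.2
  have he : ∀ p, IsGen L (U p) (e p) := fun p => p.2.2
  have hU'aff : ∀ p, IsAffineOpen (U' p) := fun p => p.2.1
  -- the cover
  have hcov' : ∀ x' : X', ∃ p : ι, x' ∈ U' p := by
    intro x'
    obtain ⟨x, rfl⟩ := i.surjective x'
    obtain ⟨V, -, hxV, e₀, he₀⟩ := exists_isGen hL x
    obtain ⟨V', hxV', hV'⟩ := exists_open_preimage_le i V x hxV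
    obtain ⟨_, ⟨W, hW : IsAffineOpen W, rfl⟩, hxW, hle⟩ :=
      (X'.isBasis_affineOpens).exists_subset_of_mem_open hxV' V'.isOpen
    have hWV : i ⁻¹ᵁ W ≤ V := (preimage_mono i hle).trans hV'
    exact ⟨⟨⟨W, rF L hWV e₀⟩, hW, he₀.res hWV⟩, hxW⟩
  have hU' : iSup U' = ⊤ := by
    rw [eq_top_iff]
    intro x' _
    obtain ⟨p, hp⟩ := hcov' x'
    exact Opens.mem_iSup.2 ⟨p, hp⟩
  have hU : iSup U = ⊤ := by
    rw [eq_top_iff]
    intro x _
    obtain ⟨p, hp⟩ := hcov' (i x)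
    exact Opens.mem_iSup.2 ⟨p, hp⟩
  -- the trivialisation of `L^n` in terms of the generators
  have hh : ∀ p : ι, ∃ h : Γ(X, U p), IsUnit h ∧
      ap α.hom (U p) (CycCov.lpow L (U p) (e p) n) = h • toM (1 : Γ(X, U p)) := by
    intro p
    have h1 := isGen_of_iso α (isGen_lpow (he p) n)
    obtain ⟨h, hh⟩ := (isGen_one (U p)).exists_coef (ap α.hom (U p) (CycCov.lpow L (U p) (e p) n))
    exact ⟨h, isUnit_of_isGen_smul (isGen_one (U p)) (hh ▸ h1), hh⟩
  choose h hhu hh using hh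
  -- transition coefficients of `L`
  have hg := fun p q => exists_transition he p q
  choose g ginv hgg hg using hg
  -- `g^n = h_p / h_q`
  have hgh : ∀ p q, g p q ^ n * rX (inf_le_right : U p ⊓ U q ≤ U q) (h q) =
      rX (inf_le_left : U p ⊓ U q ≤ U p) (h p) := by
    intro p q
    apply IsGen.coef_ext (isGen_one (U p ⊓ U q))
    have e1 : rF (Coh.structureModule X) (inf_le_left : U p ⊓ U q ≤ U p)
        (ap α.hom (U p) (CycCov.lpow L (U p) (e p) n)) =
        g p q ^ n • rF (Coh.structureModule X) (inf_le_right : U p ⊓ U q ≤ U q)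
          (ap α.hom (U q) (CycCov.lpow L (U q) (e q) n)) := by
      rw [← ap_rF, ← ap_rF, rF_lpow, rF_lpow, hg p q, lpow_smul, ap_smul]
    rw [hh p, hh q, rF_smul, rF_smul] at e1
    have e2 : ∀ W W' : X.Opens, ∀ hW : W' ≤ W, rF (Coh.structureModule X) hW (toM (1 : Γ(X, W))) =
        toM (1 : Γ(X, W')) := fun W W' hW => map_one (rX hW)
    rw [e2, e2, ← mul_smul] at e1
    exact e1.symm
  -- lifts of the `h_p`
  have hh' : ∀ p : ι, ∃ h' : Γ(X', U' p), IsUnit h' ∧ i.app (U' p) h' = h p := by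
    intro p
    obtain ⟨h1, h2⟩ := app_data i (hU'aff p)
    obtain ⟨h', hh'⟩ := h1 (h p)
    exact ⟨h', isUnit_of_isUnit_map (i.app (U' p)).hom h1 h2 (hh' ▸ hhu p), hh'⟩
  choose h' hh'u hh' using hh'
  -- the quotients `a'_{pq} = h'_p / h'_q`
  have ha' : ∀ p q : ι, ∃ a' : Γ(X', U' p ⊓ U' q), IsUnit a' ∧
      a' * rX (inf_le_right : U' p ⊓ U' q ≤ U' q) (h' q) =
        rX (inf_le_left : U' p ⊓ U' q ≤ U' p) (h' p) := by
    intro p q
    have hq : IsUnit (rX (inf_le_right : U' p ⊓ U' q ≤ U' q) (h' q)) := (hh'u q).map _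
    have hp : IsUnit (rX (inf_le_left : U' p ⊓ U' q ≤ U' p) (h' p)) := (hh'u p).map _
    refine ⟨rX (inf_le_left : U' p ⊓ U' q ≤ U' p) (h' p) * ↑hq.unit⁻¹, hp.mul (Units.isUnit _), ?_⟩
    rw [mul_assoc, IsUnit.val_inv_mul, mul_one]
  choose a' ha'u ha' using ha'
  -- `U p ⊓ U q` is the preimage of `U' p ⊓ U' q`
  have hpre : ∀ p q : ι, U p ⊓ U q = i ⁻¹ᵁ (U' p ⊓ U' q) := fun p q => rfl
  -- the image of `a'` is `g^n`
  have hia' : ∀ p q : ι, g p q ^ n = i.appLE (U' p ⊓ U' q) (U p ⊓ U q) (hpre p q).le (a' p q) := by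
    intro p q
    have hq : IsUnit (rX (inf_le_right : U p ⊓ U q ≤ U q) (h q)) := (hhu q).map _
    apply hq.mul_right_cancel
    rw [hgh p q]
    have e1 := congrArg (i.appLE (U' p ⊓ U' q) (U p ⊓ U q) (hpre p q).le) (ha' p q)
    rw [map_mul, appLE_rX, appLE_rX] at e1
    have e2 : ∀ (r : ι) (hr : U p ⊓ U q ≤ U r), i.appLE (U' r) (U p ⊓ U q) hr (h' r) =
        rX hr (h r) := by
      intro r hr
      rw [← hh' r, ← Scheme.Hom.appLE_eq_app, rX_appLE]
    rw [e2 q, e2 p] at e1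
    exact e1.symm
  -- the lifted transition functions
  have hg' : ∀ p q : ι, ∃ g' : Γ(X', U' p ⊓ U' q),
      i.appLE (U' p ⊓ U' q) (U p ⊓ U q) (hpre p q).le g' = g p q ∧ g' ^ n = a' p q :=
    fun p q => exists_root_lift_open' i n hn hu (hpre p q) (a' p q) (ha'u p q) (g p q) (hia' p q)
  choose g' hg'1 hg'2 using hg'
  have hg'u : ∀ p q, IsUnit (g' p q) := by
    intro p q
    have : IsUnit (g' p q ^ n) := by rw [hg'2]; exact ha'u p q
    exact (isUnit_pow_iff hn.ne').mp this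
  let η' : ∀ p q : ι, (Γ(X', U' p ⊓ U' q))ˣ := fun p q => (hg'u p q).unit
  have hη'val : ∀ p q, ((η' p q : (Γ(X', U' p ⊓ U' q))ˣ) : Γ(X', U' p ⊓ U' q)) = g' p q :=
    fun p q => rfl
  -- the cocycle condition
  have hcoc : Groth.Agent.CocycMod.Cocycle U' η' := by
    intro p q r
    show rX (inf_le_inf_right (U' r) inf_le_left : U' p ⊓ U' q ⊓ U' r ≤ U' p ⊓ U' r) (g' p r) =
      rX (inf_le_left : U' p ⊓ U' q ⊓ U' r ≤ U' p ⊓ U' q) (g' p q) *
        rX (inf_le_inf_right (U' r) inf_le_right : U' p ⊓ U' q ⊓ U' r ≤ U' q ⊓ U' r) (g' q r)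
    have hT : U p ⊓ U q ⊓ U r = i ⁻¹ᵁ (U' p ⊓ U' q ⊓ U' r) := rfl
    have hTr : IsUnit (rX ((inf_le_right : U' p ⊓ U' q ⊓ U' r ≤ U' r)) (h' r)) := (hh'u r).map _
    apply root_unique_open' i n hn hu hT
    · exact (hg'u p r).map _
    · rw [mul_pow, ← map_pow, ← map_pow, ← map_pow, hg'2, hg'2, hg'2]
      apply hTr.mul_right_cancel
      have e1 := congrArg (rX (inf_le_inf_right (U' r) inf_le_left :
        U' p ⊓ U' q ⊓ U' r ≤ U' p ⊓ U' r)) (ha' p r)
      have e2 := congrArg (rX (inf_le_left : U' p ⊓ U' q ⊓ U' r ≤ U' p ⊓ U' q)) (ha' p q)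
      have e3 := congrArg (rX (inf_le_inf_right (U' r) inf_le_right :
        U' p ⊓ U' q ⊓ U' r ≤ U' q ⊓ U' r)) (ha' q r)
      rw [map_mul, rX_rX, rX_rX] at e1 e2 e3
      rw [e1, mul_assoc, e3, e2]
    · rw [map_mul, appLE_rX, appLE_rX, appLE_rX]
      have hres : ∀ (a b : ι) (hle : U p ⊓ U q ⊓ U r ≤ U a ⊓ U b),
          i.appLE (U' a ⊓ U' b) (U p ⊓ U q ⊓ U r) hle (g' a b) = rX hle (g a b) := by
        intro a b hle
        rw [← hg'1 a b, rX_appLE]
      rw [hres, hres, hres]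
      exact transition_cocycle he hg p q r
        ((inf_le_left : U p ⊓ U q ⊓ U r ≤ U p ⊓ U q).trans inf_le_left)
        ((inf_le_left : U p ⊓ U q ⊓ U r ≤ U p ⊓ U q).trans inf_le_right) inf_le_right
  -- the lifted module
  choose c hc using hcov'
  let L' : X'.Modules := Groth.Agent.CocycMod.L U' η' c hc hcoc
  have hL' : PicF.IsInvertible L' := Groth.Agent.CocycMod.isInvertible_L U' η' c hc hcoc hU'
  let σ : ∀ p, Γ(L', U' p) := fun p => Groth.Agent.CocycMod.sec U' η' c hc hcoc p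
  have hσ : ∀ p, IsGen L' (U' p) (σ p) := fun p => Groth.Agent.CocycMod.isGen_sec U' η' c hc hcoc p
  have hσt : ∀ p q, rF L' (inf_le_left : U' p ⊓ U' q ≤ U' p) (σ p) =
      g' p q • rF L' (inf_le_right : U' p ⊓ U' q ≤ U' q) (σ q) :=
    fun p q => Groth.Agent.CocycMod.rF_sec U' η' c hc hcoc p q
  refine ⟨L', hL', ?_, ?_⟩
  · -- `L'^n ≅ O`
    refine CocycIsoH9.nonempty_iso (L := CohB1.tensorPow L' n) (L' := Coh.structureModule X')
      (U := U') (s := fun p => CycCov.lpow L' (U' p) (σ p) n)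
      (s' := fun p => toM (1 : Γ(X', U' p)))
      (η := fun p q => g' p q ^ n) (η' := fun p q => 1) (u := h') hU'
      (fun p => isGen_lpow (hσ p) n) ?_ ?_ ?_ (fun p => isGen_one _) hh'u
    · intro p q
      rw [rF_lpow, rF_lpow, hσt p q, lpow_smul]
    · intro p q
      rw [one_smul]
      exact (map_one (rX _)).trans (map_one (rX _)).symm
    · intro p q
      rw [one_mul, hg'2, mul_comm]
      exact (ha' p q).symm
  · -- `i^* L' ≅ L`
    refine CocycIsoH9.nonempty_iso (L := (Scheme.Modules.pullback i).obj L') (L' := L) (U := U)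
      (s := fun p => cUV i L' le_rfl (σ p)) (s' := e)
      (η := fun p q => g p q) (η' := fun p q => g p q) (u := fun p => 1) hU
      (fun p => isGen_cUV i hL' (hU'aff p) (hσ p)) ?_ hg ?_ he (fun p => isUnit_one)
    · intro p q
      have := Groth.Agent.DualPull.cUV_transition i L' (σ p) (σ q) (g' p q) (hσt p q)
      rw [this]
      congr 1
      exact hg'1 p q
    · intro p q
      simp only [map_one, mul_one, one_mul]

end Main

end Groth.Agent.ThickPic
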