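import Mathlib
import Groth.Prelude
import Groth.Agent.Lib.Tens26_helper8
import Groth.Agent.Lib.Tens18_helper8
import Groth.Agent.Lib.ThickPic2_helper5

/-!
# Sections of powers of an invertible module via coefficient families on a trivialising cover (helper6)
APPEND-ONLY once landed.

* `Triv L`: a trivialising cover of a module `L` with generators and transition functions.
* `Triv.Rel`: the relations satisfied by the coefficient family of a section of `L^{⊗N}`.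
* `Triv.exists_fam_of_section`, `Triv.exists_section_of_rel`: sections ↔ coefficient families.
* `Triv.isAmple_of_fams`: ampleness from finitely many coefficient families.
* `Triv.pullback`: the pulled-back trivialising cover of the pulled-back module.
-/

set_option autoImplicit false
set_option linter.all false

namespace Groth.Agent.Lib.LimAmpH6

open AlgebraicGeometry CategoryTheory CategoryTheory.Limits TopologicalSpace Opposite
open QcqsLoc GenLocH8 FLFH8 QCohExtn TensH8 PBH8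

universe u

/-- A trivialising cover of a module, with generators and transition functions. -/
structure Triv {T : Scheme.{u}} (L : T.Modules) where
  A : Type u
  U : A → T.Opens
  cover : ∀ x : T, ∃ a, x ∈ U a
  e : ∀ a, Γ(L, U a)
  he : ∀ a, IsGen L (U a) (e a)
  g : ∀ a a', Γ(T, U a ⊓ U a')
  hg : ∀ a a', rF L (inf_le_left : U a ⊓ U a' ≤ U a) (e a) =
    g a a' • rF L (inf_le_right : U a ⊓ U a' ≤ U a') (e a')

namespace Triv

variable {T : Scheme.{u}} {L : T.Modules} (𝒯 : Triv L)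

/-- The relations satisfied by the coefficients of a section of a module of weight `N`. -/
def Rel (N : ℕ) (b : ∀ a, Γ(T, 𝒯.U a)) : Prop :=
  ∀ a a', rX (inf_le_right : 𝒯.U a ⊓ 𝒯.U a' ≤ 𝒯.U a') (b a') =
    rX (inf_le_left : 𝒯.U a ⊓ 𝒯.U a' ≤ 𝒯.U a) (b a) * 𝒯.g a a' ^ N

/-- The coefficient family of a global section of a framed module. -/
theorem exists_fam_of_section {M : T.Modules} {N : ℕ} (Φ : Frame L M N) (σ : Γ(M, ⊤))
    {O : T.Opens} (hO : HasLocus Φ σ O) :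
    ∃ b : ∀ a, Γ(T, 𝒯.U a), 𝒯.Rel N b ∧ ∀ a, O ⊓ 𝒯.U a = T.basicOpen (b a) := by
  let b : ∀ a, Γ(T, 𝒯.U a) := fun a => Φ.coefOf σ (𝒯.U a) le_top (𝒯.e a) (𝒯.he a)
  have hb : ∀ a, rF M (le_top : 𝒯.U a ≤ ⊤) σ = b a • Φ.φ (𝒯.U a) (𝒯.e a) :=
    fun a => Φ.coefOf_spec σ (𝒯.U a) le_top (𝒯.e a) (𝒯.he a)
  refine ⟨b, fun a a' => ?_, fun a => hO (𝒯.U a) le_top (𝒯.e a) (𝒯.he a)⟩
  apply IsGen.coef_ext (Φ.isGen ((𝒯.he a').res (inf_le_right : 𝒯.U a ⊓ 𝒯.U a' ≤ 𝒯.U a')))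
  have e1 := congrArg (rF M (inf_le_left : 𝒯.U a ⊓ 𝒯.U a' ≤ 𝒯.U a)) (hb a)
  have e2 := congrArg (rF M (inf_le_right : 𝒯.U a ⊓ 𝒯.U a' ≤ 𝒯.U a')) (hb a')
  rw [rF_rF, rF_smul, Φ.res] at e1 e2
  rw [𝒯.hg a a', Φ.smul, ← mul_smul] at e1
  rw [← e2, ← e1]

/-- A coefficient family satisfying the relations comes from a global section. -/
theorem exists_section_of_rel {M : T.Modules} {N : ℕ} (Φ : Frame L M N)
    (b : ∀ a, Γ(T, 𝒯.U a)) (hb : 𝒯.Rel N b) :
    ∃ (σ : Γ(M, ⊤)) (O : T.Opens), HasLocus Φ σ O ∧ ∀ a, O ⊓ 𝒯.U a = T.basicOpen (b a) := by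
  have hcompat : ∀ a a', rF M (inf_le_left : 𝒯.U a ⊓ 𝒯.U a' ≤ 𝒯.U a)
        (b a • Φ.φ (𝒯.U a) (𝒯.e a)) =
      rF M (inf_le_right : 𝒯.U a ⊓ 𝒯.U a' ≤ 𝒯.U a') (b a' • Φ.φ (𝒯.U a') (𝒯.e a')) := by
    intro a a'
    rw [rF_smul, rF_smul, Φ.res, Φ.res, 𝒯.hg a a', Φ.smul, ← mul_smul, hb a a']
  have hcov : (⊤ : T.Opens) ≤ ⨆ a, 𝒯.U a := fun z _ => by
    obtain ⟨a, ha⟩ := 𝒯.cover z
    exact Opens.mem_iSup.mpr ⟨a, ha⟩
  obtain ⟨σ, hσ⟩ := glue M 𝒯.U ⊤ (fun _ => le_top) hcov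
    (fun a => b a • Φ.φ (𝒯.U a) (𝒯.e a)) hcompat
  obtain ⟨O, -, hOloc⟩ := exists_hasLocus Φ σ
  refine ⟨σ, O, hOloc, fun a => ?_⟩
  rw [hOloc (𝒯.U a) le_top (𝒯.e a) (𝒯.he a)]
  congr 1
  exact (Φ.coefOf_unique σ (𝒯.U a) le_top (𝒯.e a) (𝒯.he a) _ (hσ a)).symm

/-- the open cut out by a coefficient family -/
def locus (b : ∀ a, Γ(T, 𝒯.U a)) : T.Opens := ⨆ a, T.basicOpen (b a)

theorem eq_locus {O : T.Opens} (b : ∀ a, Γ(T, 𝒯.U a))
    (h : ∀ a, O ⊓ 𝒯.U a = T.basicOpen (b a)) : O = 𝒯.locus b := by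
  apply le_antisymm
  · intro z hz
    obtain ⟨a, ha⟩ := 𝒯.cover z
    have : z ∈ O ⊓ 𝒯.U a := ⟨hz, ha⟩
    rw [h a] at this
    exact Opens.mem_iSup.mpr ⟨a, this⟩
  · apply iSup_le
    intro a
    rw [← h a]
    exact inf_le_left

/-- **Ampleness from coefficient families**: if finitely many coefficient families of positive
weights satisfying the relations cut out affine opens covering the scheme, the module is ample. -/
theorem isAmple_of_fams [CompactSpace T] (hL : PicF.IsInvertible L) {K : Type*} (n : K → ℕ)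
    (b : ∀ k a, Γ(T, 𝒯.U a)) (hb : ∀ k, 𝒯.Rel (n k + 1) (b k))
    (haff : ∀ k, IsAffineOpen (𝒯.locus (b k))) (hcov : ∀ x : T, ∃ k, x ∈ 𝒯.locus (b k)) :
    CohB1.IsAmple L := by
  rw [isAmple_iff_isAmpleOn_top hL]
  refine ⟨by simpa using isCompact_univ (X := T), fun x _ => ?_⟩
  obtain ⟨k, hk⟩ := hcov x
  obtain ⟨σ, O, hloc, hO⟩ := 𝒯.exists_section_of_rel (Frame.pow L (n k + 1)) (b k) (hb k)
  have hOeq := 𝒯.eq_locus (b k) hO
  exact ⟨n k, σ, O, hOeq ▸ haff k, hOeq ▸ hk, le_top, hloc⟩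

end Triv

end Groth.Agent.Lib.LimAmpH6
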