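import Mathlib
import Groth.Prelude
import Groth.Agent.Lib.LimAmp1_helper6

/-!
# Pullback of trivialising covers and of coefficient families (helper6)
APPEND-ONLY once landed.
-/

set_option autoImplicit false
set_option linter.all false

namespace Groth.Agent.Lib.LimAmpH6

open AlgebraicGeometry CategoryTheory CategoryTheory.Limits TopologicalSpace Opposite
open QcqsLoc GenLocH8 FLFH8 QCohExtn TensH8 PBH8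
open Groth.Agent.ThickPic (appLE_rX rX_appLE)

universe u

theorem appLE_appLE {X Y Z : Scheme.{u}} (f : X ⟶ Y) (g : Y ⟶ Z) {U : Z.Opens} {V : Y.Opens}
    {W : X.Opens} (e₁ : V ≤ g ⁻¹ᵁ U) (e₂ : W ≤ f ⁻¹ᵁ V) (x : Γ(Z, U)) :
    f.appLE V W e₂ (g.appLE U V e₁ x) =
      (f ≫ g).appLE U W (e₂.trans (f.preimage_mono e₁)) x := by
  have := Scheme.Hom.appLE_comp_appLE f g U V W e₁ e₂
  exact congrArg (fun φ => φ.hom x) this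

/-- A finite affine trivialising cover exists on a quasi-compact scheme. -/
theorem exists_triv {S : Scheme.{u}} [CompactSpace S] {L : S.Modules} (hL : PicF.IsInvertible L) :
    ∃ 𝒯 : Triv L, Finite 𝒯.A ∧ ∀ a, IsAffineOpen (𝒯.U a) := by
  classical
  have h := fun x : S => exists_isGen hL x
  choose W hW hxW e he using h
  obtain ⟨t, ht⟩ := CompactSpace.elim_nhds_subcover (fun x => (W x : Set S))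
    (fun x => (W x).isOpen.mem_nhds (hxW x))
  let A : Type u := {x : S // x ∈ t}
  let U : A → S.Opens := fun a => W a.1
  let ε : ∀ a : A, Γ(L, U a) := fun a => e a.1
  have hε : ∀ a : A, IsGen L (U a) (ε a) := fun a => he a.1
  have hg := fun a a' : A => Groth.Agent.ThickPic.exists_transition (N := L) (U := U) (e := ε) hε a a'
  choose g ginv hgg hg using hg
  refine ⟨⟨A, U, fun x => ?_, ε, hε, g, hg⟩, Finite.of_fintype _, fun a => hW a.1⟩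
  have hx : x ∈ ⋃ y ∈ t, (W y : Set S) := ht ▸ Set.mem_univ x
  obtain ⟨y, hy, hxy⟩ := Set.mem_iUnion₂.mp hx
  exact ⟨⟨y, hy⟩, hxy⟩

section Pullback

variable {S T : Scheme.{u}} {L : S.Modules} (𝒯 : Triv L) (hL : PicF.IsInvertible L)
  (hU : ∀ a, IsAffineOpen (𝒯.U a))

/-- Pullback of a trivialising cover with affine members. -/
noncomputable def Triv.pullback (q : T ⟶ S) : Triv ((Scheme.Modules.pullback q).obj L) where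
  A := 𝒯.A
  U a := q ⁻¹ᵁ 𝒯.U a
  cover x := 𝒯.cover (q.base x)
  e a := cUV q L le_rfl (𝒯.e a)
  he a := isGen_cUV q hL (hU a) (𝒯.he a)
  g a a' := q.appLE (𝒯.U a ⊓ 𝒯.U a') (q ⁻¹ᵁ 𝒯.U a ⊓ q ⁻¹ᵁ 𝒯.U a') le_rfl (𝒯.g a a')
  hg a a' := by
    have hl : 𝒯.U a ⊓ 𝒯.U a' ≤ 𝒯.U a := inf_le_left
    have hr : 𝒯.U a ⊓ 𝒯.U a' ≤ 𝒯.U a' := inf_le_right
    have hpl : q ⁻¹ᵁ (𝒯.U a ⊓ 𝒯.U a') ≤ q ⁻¹ᵁ 𝒯.U a := fun _ hz => hz.1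
    have hpr : q ⁻¹ᵁ (𝒯.U a ⊓ 𝒯.U a') ≤ q ⁻¹ᵁ 𝒯.U a' := fun _ hz => hz.2
    show rF ((Scheme.Modules.pullback q).obj L) hpl (cUV q L le_rfl (𝒯.e a)) =
      q.appLE (𝒯.U a ⊓ 𝒯.U a') (q ⁻¹ᵁ (𝒯.U a ⊓ 𝒯.U a')) le_rfl (𝒯.g a a') •
        rF ((Scheme.Modules.pullback q).obj L) hpr (cUV q L le_rfl (𝒯.e a'))
    rw [rF_cUV, rF_cUV, ← cUV_resV q L hl le_rfl, 𝒯.hg a a', cUV_smul, cUV_resV q L hr le_rfl]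

variable {T' : Scheme.{u}} (r : T' ⟶ T) (q : T ⟶ S) (q' : T' ⟶ S)

theorem pull_le (hq : r ≫ q = q') (a : 𝒯.A) : q' ⁻¹ᵁ 𝒯.U a ≤ r ⁻¹ᵁ (q ⁻¹ᵁ 𝒯.U a) := by
  subst hq
  exact le_rfl

/-- transport of a coefficient family along a morphism. -/
noncomputable def pull (hq : r ≫ q = q') (b : ∀ a, Γ(T, q ⁻¹ᵁ 𝒯.U a)) : ∀ a, Γ(T', q' ⁻¹ᵁ 𝒯.U a) :=
  fun a => r.appLE (q ⁻¹ᵁ 𝒯.U a) (q' ⁻¹ᵁ 𝒯.U a) (pull_le 𝒯 r q q' hq a) (b a)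

theorem inf_pull_le (hq : r ≫ q = q') (a a' : 𝒯.A) :
    q' ⁻¹ᵁ 𝒯.U a ⊓ q' ⁻¹ᵁ 𝒯.U a' ≤ r ⁻¹ᵁ (q ⁻¹ᵁ 𝒯.U a ⊓ q ⁻¹ᵁ 𝒯.U a') := by
  subst hq
  exact le_rfl

/-- the left side of the relation for a coefficient family on a pulled-back cover -/
noncomputable def relL (b : ∀ a, Γ(T, q ⁻¹ᵁ 𝒯.U a)) (a a' : 𝒯.A) :
    Γ(T, q ⁻¹ᵁ 𝒯.U a ⊓ q ⁻¹ᵁ 𝒯.U a') :=
  rX (inf_le_right : q ⁻¹ᵁ 𝒯.U a ⊓ q ⁻¹ᵁ 𝒯.U a' ≤ q ⁻¹ᵁ 𝒯.U a') (b a')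

/-- the right side of the relation for a coefficient family on a pulled-back cover -/
noncomputable def relR (N : ℕ) (b : ∀ a, Γ(T, q ⁻¹ᵁ 𝒯.U a)) (a a' : 𝒯.A) :
    Γ(T, q ⁻¹ᵁ 𝒯.U a ⊓ q ⁻¹ᵁ 𝒯.U a') :=
  rX (inf_le_left : q ⁻¹ᵁ 𝒯.U a ⊓ q ⁻¹ᵁ 𝒯.U a' ≤ q ⁻¹ᵁ 𝒯.U a) (b a) *
    (q.appLE (𝒯.U a ⊓ 𝒯.U a') (q ⁻¹ᵁ 𝒯.U a ⊓ q ⁻¹ᵁ 𝒯.U a') le_rfl (𝒯.g a a')) ^ N

theorem rel_iff (N : ℕ) (b : ∀ a, Γ(T, q ⁻¹ᵁ 𝒯.U a)) :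
    (𝒯.pullback hL hU q).Rel N b ↔ ∀ a a', relL 𝒯 q b a a' = relR 𝒯 q N b a a' := Iff.rfl

theorem relL_pull (hq : r ≫ q = q') (b : ∀ a, Γ(T, q ⁻¹ᵁ 𝒯.U a)) (a a' : 𝒯.A) :
    relL 𝒯 q' (pull 𝒯 r q q' hq b) a a' =
      r.appLE (q ⁻¹ᵁ 𝒯.U a ⊓ q ⁻¹ᵁ 𝒯.U a') (q' ⁻¹ᵁ 𝒯.U a ⊓ q' ⁻¹ᵁ 𝒯.U a')
        (inf_pull_le 𝒯 r q q' hq a a') (relL 𝒯 q b a a') := by
  subst hq
  unfold relL pull
  rw [rX_appLE, appLE_rX]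

theorem relR_pull (hq : r ≫ q = q') (N : ℕ) (b : ∀ a, Γ(T, q ⁻¹ᵁ 𝒯.U a)) (a a' : 𝒯.A) :
    relR 𝒯 q' N (pull 𝒯 r q q' hq b) a a' =
      r.appLE (q ⁻¹ᵁ 𝒯.U a ⊓ q ⁻¹ᵁ 𝒯.U a') (q' ⁻¹ᵁ 𝒯.U a ⊓ q' ⁻¹ᵁ 𝒯.U a')
        (inf_pull_le 𝒯 r q q' hq a a') (relR 𝒯 q N b a a') := by
  subst hq
  unfold relR pull
  rw [map_mul, map_pow, rX_appLE, appLE_rX]
  congr 2
  exact (appLE_appLE r q _ _ _).symm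

theorem rel_pull (hq : r ≫ q = q') (N : ℕ) (b : ∀ a, Γ(T, q ⁻¹ᵁ 𝒯.U a))
    (hb : (𝒯.pullback hL hU q).Rel N b) :
    (𝒯.pullback hL hU q').Rel N (pull 𝒯 r q q' hq b) := by
  rw [rel_iff] at hb ⊢
  intro a a'
  rw [relL_pull, relR_pull, hb a a']

/-- the relations hold upstairs as soon as their two sides have the same image. -/
theorem rel_pull_of_appLE_eq (hq : r ≫ q = q') (N : ℕ) (b : ∀ a, Γ(T, q ⁻¹ᵁ 𝒯.U a))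
    (h : ∀ a a', r.appLE (q ⁻¹ᵁ 𝒯.U a ⊓ q ⁻¹ᵁ 𝒯.U a') (q' ⁻¹ᵁ 𝒯.U a ⊓ q' ⁻¹ᵁ 𝒯.U a')
        (inf_pull_le 𝒯 r q q' hq a a') (relL 𝒯 q b a a') =
      r.appLE (q ⁻¹ᵁ 𝒯.U a ⊓ q ⁻¹ᵁ 𝒯.U a') (q' ⁻¹ᵁ 𝒯.U a ⊓ q' ⁻¹ᵁ 𝒯.U a')
        (inf_pull_le 𝒯 r q q' hq a a') (relR 𝒯 q N b a a')) :
    (𝒯.pullback hL hU q').Rel N (pull 𝒯 r q q' hq b) := by
  rw [rel_iff]
  intro a a'
  rw [relL_pull, relR_pull, h a a']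

/-- if the relations hold upstairs, their two sides have the same image. -/
theorem appLE_eq_of_rel_pull (hq : r ≫ q = q') (N : ℕ) (b : ∀ a, Γ(T, q ⁻¹ᵁ 𝒯.U a))
    (h : (𝒯.pullback hL hU q').Rel N (pull 𝒯 r q q' hq b)) (a a' : 𝒯.A) :
    r.appLE (q ⁻¹ᵁ 𝒯.U a ⊓ q ⁻¹ᵁ 𝒯.U a') (q' ⁻¹ᵁ 𝒯.U a ⊓ q' ⁻¹ᵁ 𝒯.U a')
        (inf_pull_le 𝒯 r q q' hq a a') (relL 𝒯 q b a a') =
      r.appLE (q ⁻¹ᵁ 𝒯.U a ⊓ q ⁻¹ᵁ 𝒯.U a') (q' ⁻¹ᵁ 𝒯.U a ⊓ q' ⁻¹ᵁ 𝒯.U a')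
        (inf_pull_le 𝒯 r q q' hq a a') (relR 𝒯 q N b a a') := by
  rw [rel_iff] at h
  rw [← relL_pull 𝒯 r q q' hq, ← relR_pull 𝒯 r q q' hq, h a a']

theorem basicOpen_pull (hq : r ≫ q = q') (b : ∀ a, Γ(T, q ⁻¹ᵁ 𝒯.U a)) (a : 𝒯.A) :
    T'.basicOpen (pull 𝒯 r q q' hq b a) = r ⁻¹ᵁ T.basicOpen (b a) := by
  subst hq
  show T'.basicOpen (r.appLE (q ⁻¹ᵁ 𝒯.U a) (r ⁻¹ᵁ (q ⁻¹ᵁ 𝒯.U a)) le_rfl (b a)) = _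
  rw [Scheme.Hom.appLE_eq_app, Scheme.preimage_basicOpen]

theorem locus_pull (hq : r ≫ q = q') (b : ∀ a, Γ(T, q ⁻¹ᵁ 𝒯.U a)) :
    (𝒯.pullback hL hU q').locus (pull 𝒯 r q q' hq b) = r ⁻¹ᵁ (𝒯.pullback hL hU q).locus b := by
  unfold Triv.locus
  rw [Scheme.Hom.preimage_iSup]
  congr 1
  funext a
  exact basicOpen_pull 𝒯 r q q' hq b a

end Pullback

end Groth.Agent.Lib.LimAmpH6
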