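import Mathlib
import Groth.Prelude
import Groth.Agent.Lib.LimAmp2_helper6

/-!
# Cofiltered limits of schemes with affine transition maps: eventual properties (helper6)
APPEND-ONLY once landed.

* `Ev`: a property of the stages over a given stage holds eventually (for all stages factoring
  through some stage); closed under finite conjunctions.
* `exists_sections_stage`: finitely many functions on preimages of affine opens come from a stage.
* `ev_isAffineOpen_preimage`: a compact open of a stage with affine preimage in the limit has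
  affine preimage in all later stages.
-/

set_option autoImplicit false
set_option linter.all false

namespace Groth.Agent.Lib.LimAmpH6

open AlgebraicGeometry CategoryTheory CategoryTheory.Limits TopologicalSpace Opposite
open QcqsLoc

universe u

section Ev

variable {I : Type u} [Category.{u} I] [IsCofiltered I] {i : I}

/-- A property of the stages over `i` holds for all stages factoring through some stage. -/
def Ev (P : ∀ j : I, (j ⟶ i) → Prop) : Prop :=
  ∃ (j : I) (f : j ⟶ i), ∀ (j' : I) (f' : j' ⟶ j), P j' (f' ≫ f)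

theorem Ev.exists {P : ∀ j : I, (j ⟶ i) → Prop} (h : Ev P) : ∃ (j : I) (f : j ⟶ i), P j f := by
  obtain ⟨j, f, hf⟩ := h
  exact ⟨j, f, by simpa using hf j (𝟙 j)⟩

theorem Ev.mono {P Q : ∀ j : I, (j ⟶ i) → Prop} (h : Ev P) (hPQ : ∀ j f, P j f → Q j f) : Ev Q := by
  obtain ⟨j, f, hf⟩ := h
  exact ⟨j, f, fun j' f' => hPQ _ _ (hf j' f')⟩

theorem Ev.of_forall {P : ∀ j : I, (j ⟶ i) → Prop} (h : ∀ j f, P j f) : Ev P :=
  ⟨i, 𝟙 i, fun j' f' => h _ _⟩

theorem Ev.and {P Q : ∀ j : I, (j ⟶ i) → Prop} (hP : Ev P) (hQ : Ev Q) :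
    Ev (fun j f => P j f ∧ Q j f) := by
  obtain ⟨j, f, hf⟩ := hP
  obtain ⟨j', f', hf'⟩ := hQ
  obtain ⟨k, g, g', e⟩ := IsCofiltered.cospan f f'
  refine ⟨k, g ≫ f, fun j'' f'' => ⟨?_, ?_⟩⟩
  · have := hf j'' (f'' ≫ g)
    rwa [Category.assoc] at this
  · have := hf' j'' (f'' ≫ g')
    rwa [Category.assoc, ← e] at this

theorem Ev.forall_finite {K : Type*} [Finite K] {P : K → ∀ j : I, (j ⟶ i) → Prop}
    (h : ∀ k, Ev (P k)) : Ev (fun j f => ∀ k, P k j f) := by
  induction K using Finite.induction_empty_option with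
  | of_equiv e ih =>
    rename_i α β
    have := ih (P := fun a => P (e a)) (fun a => h (e a))
    exact this.mono (fun j f hf k => by simpa using hf (e.symm k))
  | h_empty => exact Ev.of_forall (fun j f k => k.elim)
  | h_option ih =>
    rename_i α _
    have h1 := ih (P := fun a => P (some a)) (fun a => h (some a))
    have h2 := h none
    exact (h1.and h2).mono (fun j f hf k => by
      cases k with
      | none => exact hf.2
      | some a => exact hf.1 a)

/-- a property stable under refinement holds eventually as soon as it holds at some stage. -/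
theorem Ev.of_stable {P : ∀ j : I, (j ⟶ i) → Prop}
    (hst : ∀ (j : I) (f : j ⟶ i) (j' : I) (f' : j' ⟶ j), P j f → P j' (f' ≫ f))
    (h : ∃ (j : I) (f : j ⟶ i), P j f) : Ev P := by
  obtain ⟨j, f, hf⟩ := h
  exact ⟨j, f, fun j' f' => hst j f j' f' hf⟩

end Ev

theorem appLE_congr_hom {X Y : Scheme.{u}} {f g : X ⟶ Y} (h : f = g) {U : Y.Opens} {V : X.Opens}
    (e : V ≤ f ⁻¹ᵁ U) (x : Γ(Y, U)) : f.appLE U V e x = g.appLE U V (h ▸ e) x := by
  subst h; rfl

theorem app_eq_of_comp {X Y Z : Scheme.{u}} (f : X ⟶ Y) (g : Y ⟶ Z) (h : X ⟶ Z) (hh : h = f ≫ g)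
    {U : Z.Opens} {s t : Γ(Z, U)} (e : g.app U s = g.app U t) : h.app U s = h.app U t := by
  subst hh
  show f.app _ (g.app U s) = f.app _ (g.app U t)
  rw [e]

theorem app_eq_of_appLE_eq {X Y : Scheme.{u}} (f : X ⟶ Y) {U : Y.Opens} {V : X.Opens}
    (hV : V = f ⁻¹ᵁ U) {s t : Γ(Y, U)} (h : f.appLE U V hV.le s = f.appLE U V hV.le t) :
    f.app U s = f.app U t := by
  subst hV
  rwa [Scheme.Hom.appLE_eq_app] at h

theorem appLE_eq_of_app_eq {X Y : Scheme.{u}} (f : X ⟶ Y) {U : Y.Opens} {V : X.Opens}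
    (e : V ≤ f ⁻¹ᵁ U) {s t : Γ(Y, U)} (h : f.app U s = f.app U t) :
    f.appLE U V e s = f.appLE U V e t :=
  congrArg (rX e) h

section Lim

variable {I : Type u} [Category.{u} I] [IsCofiltered I] (D : I ⥤ Scheme.{u}) (c : Cone D)
  (hc : IsLimit c) [∀ {i j : I} (f : i ⟶ j), IsAffineHom (D.map f)]

theorem pre_le (i : I) (W : (D.obj i).Opens) {j : I} (f : j ⟶ i) :
    c.π.app i ⁻¹ᵁ W ≤ c.π.app j ⁻¹ᵁ (D.map f ⁻¹ᵁ W) := by
  rw [← Scheme.Hom.comp_preimage, c.w]

set_option backward.defeqAttrib.useBackward true in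
set_option backward.isDefEq.respectTransparency false in
open Scheme.Opens in
include hc in
/-- a function on the preimage in the limit of an affine open of a stage comes from a stage. -/
theorem exists_section_stage (i : I) (W : (D.obj i).Opens) (hW : IsAffineOpen W)
    (r : Γ(c.pt, c.π.app i ⁻¹ᵁ W)) :
    ∃ (j : I) (f : j ⟶ i) (s : Γ(D.obj j, D.map f ⁻¹ᵁ W)),
      (c.π.app j).appLE (D.map f ⁻¹ᵁ W) (c.π.app i ⁻¹ᵁ W) (pre_le D c i W f) s = r := by
  have (j : _) : IsAffine ((opensDiagram D i W).op.obj j).unop := hW.preimage _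
  have (j : _) : IsAffine ((opensDiagram D i W).obj j) := hW.preimage _
  obtain ⟨⟨j⟩, s, hs⟩ := (Types.jointly_surjective_of_isColimit (isColimitOfPreserves
    (Scheme.Γ ⋙ forget _) (isLimitOpensCone D c hc i W).op) ((c.π.app i ⁻¹ᵁ W).topIso.inv r))
  obtain ⟨s, rfl⟩ := (D.map j.hom ⁻¹ᵁ W).topIso.symm.commRingCatIsoToRingEquiv.surjective s
  have h : c.π.app j.left ⁻¹ᵁ D.map j.hom ⁻¹ᵁ W = c.π.app i ⁻¹ᵁ W := congr($(c.w j.hom) ⁻¹ᵁ W)
  have : r = (c.π.app j.left).appLE (D.map j.hom ⁻¹ᵁ W) (c.π.app i ⁻¹ᵁ W) h.ge s := by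
    convert!
      show r = ((topIso _).inv ≫ ((opensCone D c i W).π.app j).appTop ≫ (topIso _).hom) s from
        (c.π.app i ⁻¹ᵁ W).topIso.commRingCatIsoToRingEquiv.symm_apply_eq.mp hs.symm using 3
    simp [Scheme.Hom.app_eq_appLE, Scheme.Hom.resLE_appLE]
  exact ⟨j.left, j.hom, s, this.symm⟩

theorem map_pre_le (i : I) (W : (D.obj i).Opens) {j j' : I} (f : j ⟶ i) (f' : j' ⟶ i) (g : j' ⟶ j)
    (hg : g ≫ f = f') : D.map f' ⁻¹ᵁ W ≤ D.map g ⁻¹ᵁ (D.map f ⁻¹ᵁ W) := by
  rw [← Scheme.Hom.comp_preimage, ← D.map_comp, hg]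

include hc in
/-- finitely many functions on preimages in the limit of affine opens of a stage come from a
common stage. -/
theorem exists_sections_stage (i : I) {M : Type*} [Finite M] (W : M → (D.obj i).Opens)
    (hW : ∀ m, IsAffineOpen (W m)) (r : ∀ m, Γ(c.pt, c.π.app i ⁻¹ᵁ W m)) :
    ∃ (j : I) (f : j ⟶ i) (s : ∀ m, Γ(D.obj j, D.map f ⁻¹ᵁ W m)),
      ∀ m, (c.π.app j).appLE (D.map f ⁻¹ᵁ W m) (c.π.app i ⁻¹ᵁ W m) (pre_le D c i (W m) f) (s m) =
        r m := by
  classical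
  cases nonempty_fintype M
  choose j f s hs using fun m => exists_section_stage D c hc i (W m) (hW m) (r m)
  obtain ⟨X, hX⟩ := IsCofiltered.inf_objs_exists (Finset.univ.image (fun m => Over.mk (f m)))
  have ψ : ∀ m, X ⟶ Over.mk (f m) :=
    fun m => (hX (Finset.mem_image_of_mem _ (Finset.mem_univ m))).some
  have hw : ∀ m, (ψ m).left ≫ f m = X.hom := fun m => Over.w (ψ m)
  refine ⟨X.left, X.hom, fun m => (D.map (ψ m).left).appLE (D.map (f m) ⁻¹ᵁ W m)
    (D.map X.hom ⁻¹ᵁ W m) (map_pre_le D i (W m) (f m) X.hom (ψ m).left (hw m)) (s m), fun m => ?_⟩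
  rw [appLE_appLE, appLE_congr_hom (c.w (ψ m).left)]
  exact hs m

include hc in
theorem ev_isAffineOpen_preimage [∀ i, QuasiSeparatedSpace (D.obj i)]
    (i : I) (V : (D.obj i).Opens) (hVc : IsCompact (V : Set (D.obj i)))
    (haff : IsAffineOpen (c.π.app i ⁻¹ᵁ V)) :
    Ev (fun j (f : j ⟶ i) => IsAffineOpen (D.map f ⁻¹ᵁ V)) := by
  have (j : Over i) : CompactSpace ((opensDiagram D i V).obj j) :=
    isCompact_iff_compactSpace.mp (QuasiCompact.isCompact_preimage _ V.2 hVc)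
  have (j : Over i) : QuasiSeparatedSpace ((opensDiagram D i V).obj j) :=
    (isQuasiSeparated_iff_quasiSeparatedSpace _ (D.map _ ⁻¹ᵁ _).2).mp (.of_quasiSeparatedSpace _)
  have : IsAffine (opensCone D c i V).pt := haff
  obtain ⟨j, hj⟩ := Scheme.exists_isAffine_of_isLimit _ _ (isLimitOpensCone D c hc i V)
  refine ⟨j.left, j.hom, fun j' f' => ?_⟩
  have h1 : IsAffineOpen (D.map j.hom ⁻¹ᵁ V) := hj
  show IsAffineOpen (D.map (f' ≫ j.hom) ⁻¹ᵁ V)
  rw [D.map_comp, Scheme.Hom.comp_preimage]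
  exact h1.preimage (D.map f')

include hc in
theorem ev_preimage_eq_top [∀ i, CompactSpace (D.obj i)] (i : I) (V : (D.obj i).Opens)
    (h : c.π.app i ⁻¹ᵁ V = ⊤) : Ev (fun j (f : j ⟶ i) => D.map f ⁻¹ᵁ V = ⊤) := by
  obtain ⟨j, f, hf⟩ := exists_map_eq_top D c hc V h
  refine ⟨j, f, fun j' f' => ?_⟩
  show D.map (f' ≫ f) ⁻¹ᵁ V = ⊤
  rw [D.map_comp, Scheme.Hom.comp_preimage, hf]
  rfl

include hc in
theorem ev_app_eq (i : I) (U : (D.obj i).Opens) (hU : IsCompact (U : Set (D.obj i)))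
    (s t : Γ(D.obj i, U)) (h : (c.π.app i).app U s = (c.π.app i).app U t) :
    Ev (fun j (f : j ⟶ i) => (D.map f).app U s = (D.map f).app U t) := by
  obtain ⟨j, f, hf⟩ := exists_app_map_eq_map_of_isLimit D c hc hU s t h
  exact ⟨j, f, fun j' f' => app_eq_of_comp (D.map f') (D.map f) _ (D.map_comp f' f) hf⟩

end Lim

end Groth.Agent.Lib.LimAmpH6
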