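import Mathlib
import Groth.Prelude
import Groth.Agent.Lib.LimAmp3_helper6

/-!
# Ampleness descends to a stage of a cofiltered limit (helper6)
APPEND-ONLY once landed.

`exists_isAmple_stage`: for a cofiltered limit `S = lim S_i` of quasi-compact quasi-separated
schemes with affine transition maps and an invertible module `L₀` on a stage `S_{i₀}` whose pullback
to `S` is ample, the pullback of `L₀` to some stage is ample.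
-/

set_option autoImplicit false
set_option linter.all false

namespace Groth.Agent.Lib.LimAmpH6

open AlgebraicGeometry CategoryTheory CategoryTheory.Limits TopologicalSpace Opposite
open QcqsLoc GenLocH8 FLFH8 QCohExtn TensH8 PBH8

universe u

section Main

variable {I : Type u} [Category.{u} I] [IsCofiltered I] (D : I ⥤ Scheme.{u}) (c : Cone D)
  (hc : IsLimit c) [∀ {i j : I} (f : i ⟶ j), IsAffineHom (D.map f)]

include hc in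
theorem exists_isAmple_stage [∀ i, CompactSpace (D.obj i)] [∀ i, QuasiSeparatedSpace (D.obj i)]
    (i₀ : I) (L₀ : (D.obj i₀).Modules) (hL₀ : PicF.IsInvertible L₀)
    (h : CohB1.IsAmple ((Scheme.Modules.pullback (c.π.app i₀)).obj L₀)) :
    ∃ (i : I) (φ : i ⟶ i₀), CohB1.IsAmple ((Scheme.Modules.pullback (D.map φ)).obj L₀) := by
  classical
  obtain ⟨𝒯, hfin, hU⟩ := exists_triv hL₀
  haveI := hfin
  obtain ⟨p, hp⟩ : ∃ p : c.pt ⟶ D.obj i₀, p = c.π.app i₀ := ⟨_, rfl⟩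
  rw [← hp] at h
  have hLS : PicF.IsInvertible ((Scheme.Modules.pullback p).obj L₀) := isInvertible_pullback p hL₀
  haveI : CompactSpace c.pt := h.2.1
  -- step 1: finitely many sections with affine loci covering the limit
  obtain ⟨-, hamp⟩ := (isAmple_iff_isAmpleOn_top hLS).mp h
  have hamp' : ∀ x : c.pt, ∃ (n : ℕ)
      (σ : Γ(CohB1.tensorPow ((Scheme.Modules.pullback p).obj L₀) (n + 1), ⊤)) (O : c.pt.Opens),
      IsAffineOpen O ∧ x ∈ O ∧ O ≤ ⊤ ∧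
        HasLocus (Frame.pow ((Scheme.Modules.pullback p).obj L₀) (n + 1)) σ O :=
    fun x => hamp x trivial
  choose n σ O hOaff hxO hOle hloc using hamp'
  obtain ⟨t, ht⟩ := CompactSpace.elim_nhds_subcover (fun x => (O x : Set c.pt))
    (fun x => (O x).isOpen.mem_nhds (hxO x))
  let K : Type u := {x : c.pt // x ∈ t}
  have hKcov : ∀ x : c.pt, ∃ k : K, x ∈ O k.1 := by
    intro x
    have hx : x ∈ ⋃ y ∈ t, (O y : Set c.pt) := ht ▸ Set.mem_univ x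
    obtain ⟨y, hy, hxy⟩ := Set.mem_iUnion₂.mp hx
    exact ⟨⟨y, hy⟩, hxy⟩
  have hfam := fun k : K => (𝒯.pullback hL₀ hU p).exists_fam_of_section
    (Frame.pow ((Scheme.Modules.pullback p).obj L₀) (n k.1 + 1)) (σ k.1) (hloc k.1)
  choose β hβrel hβloc using hfam
  have hOeq : ∀ k : K, O k.1 = (𝒯.pullback hL₀ hU p).locus (β k) :=
    fun k => (𝒯.pullback hL₀ hU p).eq_locus (β k) (hβloc k)
  -- step 2: descend the coefficients to a stage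
  subst hp
  obtain ⟨j₁, φ₁, s, hs⟩ := exists_sections_stage D c hc i₀ (M := K × 𝒯.A)
    (fun m => 𝒯.U m.2) (fun m => hU m.2) (fun m => β m.1 m.2)
  let b₁ : ∀ (k : K) (a : 𝒯.A), Γ(D.obj j₁, D.map φ₁ ⁻¹ᵁ 𝒯.U a) := fun k a => s (k, a)
  have hpull : ∀ k : K, pull 𝒯 (c.π.app j₁) (D.map φ₁) (c.π.app i₀) (c.w φ₁) (b₁ k) = β k :=
    fun k => funext fun a => hs (k, a)
  have hrelS : ∀ k : K, (𝒯.pullback hL₀ hU (c.π.app i₀)).Rel (n k.1 + 1)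
      (pull 𝒯 (c.π.app j₁) (D.map φ₁) (c.π.app i₀) (c.w φ₁) (b₁ k)) := by
    intro k
    rw [hpull k]
    exact hβrel k
  -- step 3: the relations hold eventually
  have hQc : ∀ a a' : 𝒯.A,
      IsCompact ((D.map φ₁ ⁻¹ᵁ 𝒯.U a ⊓ D.map φ₁ ⁻¹ᵁ 𝒯.U a' : (D.obj j₁).Opens) : Set (D.obj j₁)) :=
    fun a a' => QuasiSeparatedSpace.inter_isCompact _ _ (D.map φ₁ ⁻¹ᵁ 𝒯.U a).isOpen
      ((hU a).preimage (D.map φ₁)).isCompact (D.map φ₁ ⁻¹ᵁ 𝒯.U a').isOpen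
      ((hU a').preimage (D.map φ₁)).isCompact
  have hQeq : ∀ a a' : 𝒯.A, c.π.app i₀ ⁻¹ᵁ 𝒯.U a ⊓ c.π.app i₀ ⁻¹ᵁ 𝒯.U a' =
      c.π.app j₁ ⁻¹ᵁ (D.map φ₁ ⁻¹ᵁ 𝒯.U a ⊓ D.map φ₁ ⁻¹ᵁ 𝒯.U a') := by
    intro a a'
    rw [← c.w φ₁]
    rfl
  have hrelEv : Ev (fun j (ψ : j ⟶ j₁) => ∀ m : K × 𝒯.A × 𝒯.A,
      (D.map ψ).app (D.map φ₁ ⁻¹ᵁ 𝒯.U m.2.1 ⊓ D.map φ₁ ⁻¹ᵁ 𝒯.U m.2.2)
          (relL 𝒯 (D.map φ₁) (b₁ m.1) m.2.1 m.2.2) =
        (D.map ψ).app (D.map φ₁ ⁻¹ᵁ 𝒯.U m.2.1 ⊓ D.map φ₁ ⁻¹ᵁ 𝒯.U m.2.2)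
          (relR 𝒯 (D.map φ₁) (n m.1.1 + 1) (b₁ m.1) m.2.1 m.2.2)) := by
    apply Ev.forall_finite
    rintro ⟨k, a, a'⟩
    apply ev_app_eq D c hc j₁ _ (hQc a a')
    exact app_eq_of_appLE_eq (c.π.app j₁) (hQeq a a')
      (appLE_eq_of_rel_pull 𝒯 hL₀ hU (c.π.app j₁) (D.map φ₁) (c.π.app i₀) (c.w φ₁) (n k.1 + 1)
        (b₁ k) (hrelS k) a a')
  -- step 4: the loci
  let 𝒯₁ := 𝒯.pullback hL₀ hU (D.map φ₁)
  have hO₁c : ∀ k : K, IsCompact ((𝒯₁.locus (b₁ k) : (D.obj j₁).Opens) : Set (D.obj j₁)) := by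
    intro k
    have : ((𝒯₁.locus (b₁ k) : (D.obj j₁).Opens) : Set (D.obj j₁)) =
        ⋃ a : 𝒯.A, ((D.obj j₁).basicOpen (b₁ k a) : Set (D.obj j₁)) := by
      unfold Triv.locus
      rw [Opens.coe_iSup]
      rfl
    rw [this]
    exact isCompact_iUnion (fun a => (((hU a).preimage (D.map φ₁)).basicOpen (b₁ k a)).isCompact)
  have hO₁pre : ∀ k : K, c.π.app j₁ ⁻¹ᵁ 𝒯₁.locus (b₁ k) = O k.1 := by
    intro k
    rw [hOeq k, ← hpull k]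
    exact (locus_pull 𝒯 hL₀ hU (c.π.app j₁) (D.map φ₁) (c.π.app i₀) (c.w φ₁) (b₁ k)).symm
  have haffEv : Ev (fun j (ψ : j ⟶ j₁) => ∀ k : K, IsAffineOpen (D.map ψ ⁻¹ᵁ 𝒯₁.locus (b₁ k))) := by
    apply Ev.forall_finite
    intro k
    exact ev_isAffineOpen_preimage D c hc j₁ _ (hO₁c k) ((hO₁pre k).symm ▸ hOaff k.1)
  have hcovEv : Ev (fun j (ψ : j ⟶ j₁) => D.map ψ ⁻¹ᵁ (⨆ k : K, 𝒯₁.locus (b₁ k)) = ⊤) := by
    apply ev_preimage_eq_top D c hc j₁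
    rw [Scheme.Hom.preimage_iSup, eq_top_iff]
    intro x _
    obtain ⟨k, hk⟩ := hKcov x
    exact Opens.mem_iSup.mpr ⟨k, (hO₁pre k).symm ▸ hk⟩
  -- step 5: a stage where everything holds
  obtain ⟨j, ψ, ⟨hrelj, haffj⟩, hcovj⟩ := ((hrelEv.and haffEv).and hcovEv).exists
  have hq : D.map ψ ≫ D.map φ₁ = D.map (ψ ≫ φ₁) := (D.map_comp ψ φ₁).symm
  refine ⟨j, ψ ≫ φ₁, ?_⟩
  refine (𝒯.pullback hL₀ hU (D.map (ψ ≫ φ₁))).isAmple_of_fams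
    (isInvertible_pullback (D.map (ψ ≫ φ₁)) hL₀) (fun k : K => n k.1)
    (fun k => pull 𝒯 (D.map ψ) (D.map φ₁) (D.map (ψ ≫ φ₁)) hq (b₁ k)) (fun k => ?_) (fun k => ?_)
    (fun x => ?_)
  · exact rel_pull_of_appLE_eq 𝒯 hL₀ hU (D.map ψ) (D.map φ₁) (D.map (ψ ≫ φ₁)) hq (n k.1 + 1) (b₁ k)
      (fun a a' => appLE_eq_of_app_eq (D.map ψ) _ (hrelj (k, a, a')))
  · rw [locus_pull 𝒯 hL₀ hU (D.map ψ) (D.map φ₁) (D.map (ψ ≫ φ₁)) hq (b₁ k)]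
    exact haffj k
  · have hx : x ∈ D.map ψ ⁻¹ᵁ (⨆ k : K, 𝒯₁.locus (b₁ k)) := hcovj ▸ Opens.mem_top x
    rw [Scheme.Hom.preimage_iSup] at hx
    obtain ⟨k, hk⟩ := Opens.mem_iSup.mp hx
    refine ⟨k, ?_⟩
    rw [locus_pull 𝒯 hL₀ hU (D.map ψ) (D.map φ₁) (D.map (ψ ≫ φ₁)) hq (b₁ k)]
    exact hk

end Main

end Groth.Agent.Lib.LimAmpH6
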