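import Mathlib
import Groth.Prelude
import Groth.Agent.Lib.LimAmp4_helper6
import Groth.Agent.Lib.LimBaseChange_helper7
import Groth.Agent.Lib.Tens25_helper8

/-!
# Ampleness on an open of a base change to a cofiltered limit descends to a stage (helper6)
APPEND-ONLY once landed.
-/

set_option autoImplicit false
set_option linter.all false

namespace Groth.Agent.Lib.LimAmpH6

open AlgebraicGeometry CategoryTheory CategoryTheory.Limits TopologicalSpace Opposite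
open QcqsLoc GenLocH8 FLFH8 QCohExtn TensH8 PBH8
open Groth.Agent.Lib.LimBaseChangeH7

universe u

/-- the pullback of a pullback is the pullback along the composite -/
noncomputable def pullbackCompIso {X Y Z : Scheme.{u}} (a : X ⟶ Y) (b : Y ⟶ Z) (d : X ⟶ Z)
    (h : a ≫ b = d) (L : Z.Modules) :
    (Scheme.Modules.pullback a).obj ((Scheme.Modules.pullback b).obj L) ≅
      (Scheme.Modules.pullback d).obj L :=
  (Scheme.Modules.pullbackComp a b).app L ≪≫ (Scheme.Modules.pullbackCongr h).app L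

/-- the restriction of a pullback along an open immersion is the pullback along the composite -/
noncomputable def restrictPullbackIso' {U X Z : Scheme.{u}} (a : U ⟶ X) [IsOpenImmersion a]
    (b : X ⟶ Z) (d : U ⟶ Z) (h : a ≫ b = d) (L : Z.Modules) :
    ((Scheme.Modules.pullback b).obj L).restrict a ≅ (Scheme.Modules.pullback d).obj L :=
  (Scheme.Modules.restrictFunctorIsoPullback a).app _ ≪≫ pullbackCompIso a b d h L

theorem isInvertible_of_iso {Y : Scheme.{u}} {L L' : Y.Modules} (e : L ≅ L')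
    (h : PicF.IsInvertible L) : PicF.IsInvertible L' := by
  intro y
  obtain ⟨U, hyU, ⟨α⟩⟩ := h y
  exact ⟨U, hyU, ⟨(Scheme.Modules.restrictFunctor U.ι).mapIso e.symm ≪≫ α⟩⟩

theorem isAmpleOn_congr {X : Scheme.{u}} {M M' : X.Modules} (α : M ≅ M')
    (hM : PicF.IsInvertible M) (V : X.Opens) (h : IsAmpleOn M V) : IsAmpleOn M' V := by
  have hM' : PicF.IsInvertible M' := isInvertible_of_iso α hM
  rw [← isAmple_restrict_ι_iff hM' V]
  exact (isAmple_congr ((Scheme.Modules.restrictFunctor V.ι).mapIso α)).mp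
    ((isAmple_restrict_ι_iff hM V).mpr h)

section Variant

variable {J : Type u} [Category.{u} J] [IsCofiltered J] (D' : J ⥤ Scheme.{u}) (c' : Cone D')
  (hc' : IsLimit c') [∀ {i j : J} (f : i ⟶ j), IsAffineHom (D'.map f)]

include hc' in
/-- variant of `exists_isAmple_stage` for a module on a scheme under the whole diagram. -/
theorem exists_isAmple_stage' [∀ j, CompactSpace (D'.obj j)] [∀ j, QuasiSeparatedSpace (D'.obj j)]
    {T₀ : Scheme.{u}} (τ : ∀ j, D'.obj j ⟶ T₀)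
    (hτ : ∀ {j j' : J} (f : j ⟶ j'), D'.map f ≫ τ j' = τ j)
    (L₀ : T₀.Modules) (hL₀ : PicF.IsInvertible L₀) (j₀ : J)
    (h : CohB1.IsAmple ((Scheme.Modules.pullback (c'.π.app j₀ ≫ τ j₀)).obj L₀)) :
    ∃ j : J, CohB1.IsAmple ((Scheme.Modules.pullback (τ j)).obj L₀) := by
  have hL₁ : PicF.IsInvertible ((Scheme.Modules.pullback (τ j₀)).obj L₀) :=
    isInvertible_pullback (τ j₀) hL₀
  have h' : CohB1.IsAmple ((Scheme.Modules.pullback (c'.π.app j₀)).obj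
      ((Scheme.Modules.pullback (τ j₀)).obj L₀)) :=
    (isAmple_congr (pullbackCompIso (c'.π.app j₀) (τ j₀) _ rfl L₀)).mpr h
  obtain ⟨j, φ, hj⟩ := exists_isAmple_stage D' c' hc' j₀ _ hL₁ h'
  exact ⟨j, (isAmple_congr (pullbackCompIso (D'.map φ) (τ j₀) (τ j) (hτ φ) L₀)).mp hj⟩

end Variant

section Core

variable {I : Type u} [SmallCategory I] [IsCofiltered I] (D : I ⥤ Scheme.{u}) (c : Cone D)
  (hc : IsLimit c) [∀ (i j : I) (f : i ⟶ j), IsAffineHom (D.map f)]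

/-- the open immersion of the base change of an open into the base change -/
noncomputable def bcOpen {X₀ S₀ S' : Scheme.{u}} (h₀ : X₀ ⟶ S₀) (d : S' ⟶ S₀) (Ω : X₀.Opens) :
    pullback (Ω.ι ≫ h₀) d ⟶ pullback h₀ d :=
  pullback.map (Ω.ι ≫ h₀) d h₀ d Ω.ι (𝟙 _) (𝟙 _) (by simp) (by simp)

instance {X₀ S₀ S' : Scheme.{u}} (h₀ : X₀ ⟶ S₀) (d : S' ⟶ S₀) (Ω : X₀.Opens) :
    IsOpenImmersion (bcOpen h₀ d Ω) := by
  unfold bcOpen
  infer_instance

theorem bcOpen_fst {X₀ S₀ S' : Scheme.{u}} (h₀ : X₀ ⟶ S₀) (d : S' ⟶ S₀) (Ω : X₀.Opens) :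
    bcOpen h₀ d Ω ≫ pullback.fst h₀ d = pullback.fst (Ω.ι ≫ h₀) d ≫ Ω.ι := by
  unfold bcOpen pullback.map
  exact pullback.lift_fst _ _ _

theorem bcOpen_opensRange {X₀ S₀ S' : Scheme.{u}} (h₀ : X₀ ⟶ S₀) (d : S' ⟶ S₀) (Ω : X₀.Opens) :
    (bcOpen h₀ d Ω).opensRange = pullback.fst h₀ d ⁻¹ᵁ Ω := by
  apply Opens.ext
  simp [bcOpen, Scheme.Pullback.range_map]

include hc in
/-- **Ampleness on a quasi-compact quasi-separated open descends from the base change to the limit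
to the base change to a stage.** -/
theorem exists_isAmpleOn_stage (i₀ : I) {X₀ : Scheme.{u}} (h₀ : X₀ ⟶ D.obj i₀) (Ω : X₀.Opens)
    (hΩc : IsCompact (Ω : Set X₀)) (hΩqs : IsQuasiSeparated (Ω : Set X₀))
    (L₀ : X₀.Modules) (hL₀ : PicF.IsInvertible L₀) {X : Scheme.{u}} (qX : X ⟶ X₀) (pS : X ⟶ c.pt)
    (hX : IsPullback qX pS h₀ (c.π.app i₀))
    (h : IsAmpleOn ((Scheme.Modules.pullback qX).obj L₀) (qX ⁻¹ᵁ Ω)) :
    ∃ (j : I) (φ : j ⟶ i₀),
      IsAmpleOn ((Scheme.Modules.pullback (pullback.fst h₀ (D.map φ))).obj L₀)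
        (pullback.fst h₀ (D.map φ) ⁻¹ᵁ Ω) := by
  haveI : CompactSpace Ω.toScheme := isCompact_iff_compactSpace.mp hΩc
  haveI : QuasiSeparatedSpace Ω.toScheme :=
    (isQuasiSeparated_iff_quasiSeparatedSpace _ Ω.2).mp hΩqs
  have hsq : IsPullback (qX.resLE Ω (qX ⁻¹ᵁ Ω) le_rfl) (qX ⁻¹ᵁ Ω).ι Ω.ι qX :=
    IsOpenImmersion.isPullback _ _ _ _ (by simp) (by simp)
  have hX' := hsq.paste_vert hX
  -- the diagram
  let D' := bcDiagram D i₀ (Ω.ι ≫ h₀)
  let c' := bcCone c hX'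
  have hc' := isLimitBcCone c hX' hc
  let τ : ∀ j : Over i₀, D'.obj j ⟶ X₀ := fun j => pullback.fst (Ω.ι ≫ h₀) (D.map j.hom) ≫ Ω.ι
  have hτ : ∀ {j j' : Over i₀} (f : j ⟶ j'), D'.map f ≫ τ j' = τ j := by
    intro j j' f
    show (bcDiagram D i₀ (Ω.ι ≫ h₀)).map f ≫ pullback.fst (Ω.ι ≫ h₀) (D.map j'.hom) ≫ Ω.ι =
      pullback.fst (Ω.ι ≫ h₀) (D.map j.hom) ≫ Ω.ι
    rw [← Category.assoc, bcDiagram_map_fst]
    rfl
  have hcomp : (qX ⁻¹ᵁ Ω).ι ≫ qX = c'.π.app (Over.mk (𝟙 i₀)) ≫ τ (Over.mk (𝟙 i₀)) := by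
    show (qX ⁻¹ᵁ Ω).ι ≫ qX = (bcCone c hX').π.app (Over.mk (𝟙 i₀)) ≫
      pullback.fst (Ω.ι ≫ h₀) (D.map (𝟙 i₀)) ≫ Ω.ι
    rw [← Category.assoc]
    erw [bcCone_π_fst]
    simp
  have hamp : CohB1.IsAmple ((Scheme.Modules.pullback
      (c'.π.app (Over.mk (𝟙 i₀)) ≫ τ (Over.mk (𝟙 i₀)))).obj L₀) := by
    have h1 := (isAmple_restrict_ι_iff (isInvertible_pullback qX hL₀) (qX ⁻¹ᵁ Ω)).mpr h
    exact (isAmple_congr (restrictPullbackIso' (qX ⁻¹ᵁ Ω).ι qX _ hcomp L₀)).mp h1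
  obtain ⟨j, hj⟩ := exists_isAmple_stage' D' c' hc' τ hτ L₀ hL₀ (Over.mk (𝟙 i₀)) hamp
  refine ⟨j.left, j.hom, ?_⟩
  have h2 : CohB1.IsAmple (((Scheme.Modules.pullback (pullback.fst h₀ (D.map j.hom))).obj
      L₀).restrict (bcOpen h₀ (D.map j.hom) Ω)) :=
    (isAmple_congr (restrictPullbackIso' (bcOpen h₀ (D.map j.hom) Ω)
      (pullback.fst h₀ (D.map j.hom)) (τ j) (bcOpen_fst _ _ _) L₀)).mpr hj
  rw [isAmple_restrict_iff _ (isInvertible_pullback _ hL₀), bcOpen_opensRange] at h2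
  exact h2

end Core

end Groth.Agent.Lib.LimAmpH6
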