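import Mathlib
import Groth.Prelude
import Groth.Agent.Lib.ConsProp3_helper7
import Groth.Agent.Lib.LimAmp5_helper6

/-!
# Ind-constructible properties of morphisms of algebraic schemes carrying an invertible module, I
(helper6)  APPEND-ONLY once landed.

A module-carrying analogue of helper7's `ConsProp.IsIndConsMor` pipeline: relations
`P(f, g, L)` for `X ⟶ Y ⟶ T` and an invertible module `L` on `X`.

* `IsFieldStableMM`, `locusMM`, `IsIndConsMM`.
* `locusMM_baseChange`: the locus commutes with base change.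
* `isIndConstructible_locusMM`: Noetherian base.
-/

set_option autoImplicit false
set_option linter.all false

namespace Groth.Agent.Lib.ConsMMH6

open AlgebraicGeometry CategoryTheory CategoryTheory.Limits TopologicalSpace Opposite Topology
open Groth.Agent.Lib.ConsPropH7 Groth.Agent.Lib.LimAmpH6

universe u

/-- Invariance of a relation `P(f, g, L)` (with `L` an invertible module on the source of `f`) under
extension of the base field and isomorphisms of modules. -/
def IsFieldStableMM
    (P : ∀ ⦃X Y T : Scheme.{u}⦄, (X ⟶ Y) → (Y ⟶ T) → X.Modules → Prop) : Prop :=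
  ∀ ⦃X X' Y Y' T T' : Scheme.{u}⦄ (f : X ⟶ Y) (g : Y ⟶ T) (f' : X' ⟶ Y') (g' : Y' ⟶ T')
    (eX : X' ⟶ X) (eY : Y' ⟶ Y) (h : T' ⟶ T)
    [IsIntegral T] [Subsingleton T] [IsIntegral T'] [Subsingleton T']
    [LocallyOfFiniteType g] [QuasiCompact g] [LocallyOfFiniteType (f ≫ g)] [QuasiCompact (f ≫ g)],
    IsPullback eY g' g h → IsPullback eX f' f eY → ∀ (L : X.Modules) (L' : X'.Modules),
      PicF.IsInvertible L → (L' ≅ (Scheme.Modules.pullback eX).obj L) → (P f g L ↔ P f' g' L')

/-- The set of points of the base `S` at which `P` holds for the fibre morphism and the pullback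
of the module to the fibre. -/
def locusMM (P : ∀ ⦃X Y T : Scheme.{u}⦄, (X ⟶ Y) → (Y ⟶ T) → X.Modules → Prop)
    {X Y S : Scheme.{u}} (f : X ⟶ Y) (g : Y ⟶ S) (L : X.Modules) : Set S :=
  {s | P (MoreMor.fiberMap f g s) (g.fiberToSpecResidueField s)
    ((Scheme.Modules.pullback ((f ≫ g).fiberι s)).obj L)}

/-- Ind-constructible relations `P(f, g, L)`. -/
def IsIndConsMM
    (P : ∀ ⦃X Y T : Scheme.{u}⦄, (X ⟶ Y) → (Y ⟶ T) → X.Modules → Prop) : Prop :=
  IsFieldStableMM P ∧
    ∀ ⦃X Y S : Scheme.{u}⦄ (f : X ⟶ Y) (g : Y ⟶ S) [IsIntegral S] [IsNoetherian S]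
      [LocallyOfFiniteType g] [QuasiCompact g]
      [LocallyOfFiniteType (f ≫ g)] [QuasiCompact (f ≫ g)] (L : X.Modules),
      PicF.IsInvertible L → genericPoint S ∈ locusMM P f g L → (interior (locusMM P f g L)).Nonempty

variable {P : ∀ ⦃X Y T : Scheme.{u}⦄, (X ⟶ Y) → (Y ⟶ T) → X.Modules → Prop}

/-- The locus of a field-stable relation commutes with base change. -/
theorem locusMM_baseChange (hP : IsFieldStableMM P) {X Y S X' Y' S' : Scheme.{u}}
    (f : X ⟶ Y) (g : Y ⟶ S) [LocallyOfFiniteType g] [QuasiCompact g]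
    [LocallyOfFiniteType (f ≫ g)] [QuasiCompact (f ≫ g)]
    (f' : X' ⟶ Y') (g' : Y' ⟶ S') (eX : X' ⟶ X) (eY : Y' ⟶ Y) (h : S' ⟶ S)
    (hY : IsPullback eY g' g h) (hX : IsPullback eX f' f eY) (L : X.Modules) (L' : X'.Modules)
    (hL : PicF.IsInvertible L) (α : L' ≅ (Scheme.Modules.pullback eX).obj L) (s' : S') :
    s' ∈ locusMM P f' g' L' ↔ h s' ∈ locusMM P f g L := by
  have hXY : IsPullback eX (f' ≫ g') (f ≫ g) h := hX.paste_vert hY
  obtain ⟨θY, hθY1, hθY2, sqY⟩ : ∃ θY : g'.fiber s' ⟶ g.fiber (h s'),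
      θY ≫ g.fiberι (h s') = g'.fiberι s' ≫ eY ∧
      θY ≫ g.fiberToSpecResidueField (h s') =
        g'.fiberToSpecResidueField s' ≫ Spec.map (h.residueFieldMap s') ∧
      IsPullback θY (g'.fiberToSpecResidueField s') (g.fiberToSpecResidueField (h s'))
        (Spec.map (h.residueFieldMap s')) :=
    ⟨_, pullback.lift_fst _ _ _, pullback.lift_snd _ _ _,
      isPullback_fiberToSpecResidueField_of_isPullback hY s'⟩
  obtain ⟨θX, hθX1, hθX2, sqX⟩ : ∃ θX : (f' ≫ g').fiber s' ⟶ (f ≫ g).fiber (h s'),
      θX ≫ (f ≫ g).fiberι (h s') = (f' ≫ g').fiberι s' ≫ eX ∧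
      θX ≫ (f ≫ g).fiberToSpecResidueField (h s') =
        (f' ≫ g').fiberToSpecResidueField s' ≫ Spec.map (h.residueFieldMap s') ∧
      IsPullback θX ((f' ≫ g').fiberToSpecResidueField s')
        ((f ≫ g).fiberToSpecResidueField (h s')) (Spec.map (h.residueFieldMap s')) :=
    ⟨_, pullback.lift_fst _ _ _, pullback.lift_snd _ _ _,
      isPullback_fiberToSpecResidueField_of_isPullback hXY s'⟩
  have e1 := fiberMap_comp_fiberι f g (h s')
  have e1' := fiberMap_comp_fiberι f' g' s'
  have e2 := fiberMap_comp_toSpec f g (h s')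
  have e2' := fiberMap_comp_toSpec f' g' s'
  have hcomm : θX ≫ MoreMor.fiberMap f g (h s') = MoreMor.fiberMap f' g' s' ≫ θY := by
    apply pullback.hom_ext
    · show (θX ≫ MoreMor.fiberMap f g (h s')) ≫ g.fiberι (h s') =
        (MoreMor.fiberMap f' g' s' ≫ θY) ≫ g.fiberι (h s')
      rw [Category.assoc, Category.assoc, e1, hθY1, reassoc_of% hθX1, reassoc_of% e1', hX.w]
    · show (θX ≫ MoreMor.fiberMap f g (h s')) ≫ g.fiberToSpecResidueField (h s') =
        (MoreMor.fiberMap f' g' s' ≫ θY) ≫ g.fiberToSpecResidueField (h s')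
      rw [Category.assoc, Category.assoc, e2, hθX2, hθY2, reassoc_of% e2']
  have sq : IsPullback θX (MoreMor.fiberMap f' g' s') (MoreMor.fiberMap f g (h s')) θY := by
    refine IsPullback.of_bot ?_ hcomm sqY
    rw [fiberMap_comp_toSpec, fiberMap_comp_toSpec]
    exact sqX
  haveI : LocallyOfFiniteType (g.fiberToSpecResidueField (h s')) :=
    MorphismProperty.pullback_snd _ _ inferInstance
  haveI : QuasiCompact (g.fiberToSpecResidueField (h s')) :=
    MorphismProperty.pullback_snd _ _ inferInstance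
  haveI : LocallyOfFiniteType
      (MoreMor.fiberMap f g (h s') ≫ g.fiberToSpecResidueField (h s')) := by
    rw [fiberMap_comp_toSpec]
    exact MorphismProperty.pullback_snd _ _ inferInstance
  haveI : QuasiCompact
      (MoreMor.fiberMap f g (h s') ≫ g.fiberToSpecResidueField (h s')) := by
    rw [fiberMap_comp_toSpec]
    exact MorphismProperty.pullback_snd _ _ inferInstance
  have β : (Scheme.Modules.pullback ((f' ≫ g').fiberι s')).obj L' ≅
      (Scheme.Modules.pullback θX).obj
        ((Scheme.Modules.pullback ((f ≫ g).fiberι (h s'))).obj L) :=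
    (Scheme.Modules.pullback ((f' ≫ g').fiberι s')).mapIso α ≪≫
      pullbackCompIso ((f' ≫ g').fiberι s') eX _ rfl L ≪≫
      (pullbackCompIso θX ((f ≫ g).fiberι (h s')) _ hθX1 L).symm
  exact (hP (MoreMor.fiberMap f g (h s')) (g.fiberToSpecResidueField (h s'))
    (MoreMor.fiberMap f' g' s') (g'.fiberToSpecResidueField s') θX θY _ sqY sq _ _
    (TensH8.isInvertible_pullback _ hL) β).symm

/-- Over a Noetherian base the locus of an ind-constructible relation is ind-constructible. -/
theorem isIndConstructible_locusMM (hP : IsIndConsMM P) {X Y S : Scheme.{u}}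
    (f : X ⟶ Y) (g : Y ⟶ S) [IsNoetherian S] [LocallyOfFiniteType g] [QuasiCompact g]
    [LocallyOfFiniteType (f ≫ g)] [QuasiCompact (f ≫ g)] (L : X.Modules)
    (hL : PicF.IsInvertible L) :
    ProCons.IsIndConstructible (locusMM P f g L) := by
  rw [Groth.Agent.Lib.ProConsNoethH8.isIndConstructible_iff_nhds]
  intro ξ hξ
  obtain ⟨I, hint, hN, hgen, hrange⟩ := exists_red_closure ξ
  haveI := hint
  haveI := hN
  have hY := IsPullback.of_hasPullback g I.subschemeι
  have hX := IsPullback.of_hasPullback f (pullback.fst g I.subschemeι)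
  haveI : LocallyOfFiniteType (pullback.snd f (pullback.fst g I.subschemeι) ≫
      pullback.snd g I.subschemeι) :=
    MorphismProperty.of_isPullback (P := @LocallyOfFiniteType) (hX.paste_vert hY) inferInstance
  haveI : QuasiCompact (pullback.snd f (pullback.fst g I.subschemeι) ≫
      pullback.snd g I.subschemeι) :=
    MorphismProperty.of_isPullback (P := @QuasiCompact) (hX.paste_vert hY) inferInstance
  have hL' := TensH8.isInvertible_pullback (pullback.fst f (pullback.fst g I.subschemeι)) hL
  have hloc : ∀ t : I.subscheme,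
      t ∈ locusMM P (pullback.snd f (pullback.fst g I.subschemeι))
        (pullback.snd g I.subschemeι)
        ((Scheme.Modules.pullback (pullback.fst f (pullback.fst g I.subschemeι))).obj L) ↔
        I.subschemeι t ∈ locusMM P f g L :=
    fun t => locusMM_baseChange hP.1 f g _ _ _ _ I.subschemeι hY hX L _ hL (Iso.refl _) t
  have hη : genericPoint I.subscheme ∈
      locusMM P (pullback.snd f (pullback.fst g I.subschemeι)) (pullback.snd g I.subschemeι)
        ((Scheme.Modules.pullback (pullback.fst f (pullback.fst g I.subschemeι))).obj L) := by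
    rw [hloc, hgen]
    exact hξ
  have h1 := hP.2 (pullback.snd f (pullback.fst g I.subschemeι)) (pullback.snd g I.subschemeι)
    _ hL' hη
  obtain ⟨U, hU, hξU, hsub⟩ := exists_open_of_subscheme ξ I hgen hrange _
    (locusMM P f g L) isOpen_interior h1
    (fun t ht => (hloc t).mp (interior_subset ht))
  exact Filter.mem_of_superset ((hU.preimage continuous_subtype_val).mem_nhds hξU)
    (fun z hz => hsub ⟨hz, z.2⟩)

end Groth.Agent.Lib.ConsMMH6
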