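import Mathlib
import Groth.Prelude
import Groth.Agent.Lib.LimAmp5_helper6
import Groth.Agent.Lib.TwBC_helper6

/-!
# Relative ampleness and base change to a cofiltered limit (helper6)
APPEND-ONLY once landed.

* `isRelAmple_limit_of_stage`: relative ampleness at a stage implies relative ampleness at the limit.
* `exists_isRelAmple_stage`: relative ampleness at the limit implies relative ampleness at a stage.
-/

set_option autoImplicit false
set_option linter.all false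

namespace Groth.Agent.Lib.LimAmpH6

open AlgebraicGeometry CategoryTheory CategoryTheory.Limits TopologicalSpace Opposite
open QcqsLoc GenLocH8 FLFH8 QCohExtn TensH8 PBH8
open Groth.Agent.Lib.LimBaseChangeH7

universe u

section Rel

variable {I : Type u} [SmallCategory I] [IsCofiltered I] (D : I ⥤ Scheme.{u}) (c : Cone D)
  (hc : IsLimit c) [∀ (i j : I) (f : i ⟶ j), IsAffineHom (D.map f)]

/-- ampleness on the preimage of an open persists at later stages. -/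
theorem isAmpleOn_stage_of_le (i₀ : I) {X₀ : Scheme.{u}} (h₀ : X₀ ⟶ D.obj i₀) (Ω : X₀.Opens)
    (L₀ : X₀.Modules) (hL₀ : PicF.IsInvertible L₀) {j j' : I} (φ : j ⟶ i₀) (ψ : j' ⟶ j)
    (h : IsAmpleOn ((Scheme.Modules.pullback (pullback.fst h₀ (D.map φ))).obj L₀)
      (pullback.fst h₀ (D.map φ) ⁻¹ᵁ Ω)) :
    IsAmpleOn ((Scheme.Modules.pullback (pullback.fst h₀ (D.map (ψ ≫ φ)))).obj L₀)
      (pullback.fst h₀ (D.map (ψ ≫ φ)) ⁻¹ᵁ Ω) := by
  let α : Over.mk (ψ ≫ φ) ⟶ Over.mk φ := Over.homMk ψ rfl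
  obtain ⟨u, hu⟩ : ∃ u : pullback h₀ (D.map (ψ ≫ φ)) ⟶ pullback h₀ (D.map φ),
      u = (bcDiagram D i₀ h₀).map α := ⟨_, rfl⟩
  haveI : IsAffineHom u := hu ▸ isAffineHom_map D i₀ h₀ α
  have hfst : u ≫ pullback.fst h₀ (D.map φ) = pullback.fst h₀ (D.map (ψ ≫ φ)) := by
    rw [hu]
    exact bcDiagram_map_fst D i₀ h₀ α
  have hinv := isInvertible_pullback (pullback.fst h₀ (D.map φ)) hL₀
  have h1 := isAmpleOn_pullback_of_isAffineHom u hinv h
    (QuasiCompact.isCompact_preimage (f := u) _ (pullback.fst h₀ (D.map φ) ⁻¹ᵁ Ω).isOpen h.1)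
  have h2 := isAmpleOn_congr (pullbackCompIso u _ _ hfst L₀) (isInvertible_pullback u hinv) _ h1
  rwa [← Scheme.Hom.comp_preimage, hfst] at h2

include hc in
/-- **Relative ampleness descends from the limit to a stage.** -/
theorem exists_isRelAmple_stage (i₀ : I) [CompactSpace (D.obj i₀)]
    {X₀ Y₀ : Scheme.{u}} (f₀ : X₀ ⟶ Y₀) (g₀ : Y₀ ⟶ D.obj i₀)
    [QuasiCompact g₀] [QuasiSeparated g₀] [QuasiCompact (f₀ ≫ g₀)] [QuasiSeparated (f₀ ≫ g₀)]
    (L₀ : X₀.Modules) (hL₀ : PicF.IsInvertible L₀)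
    {X Y : Scheme.{u}} (f : X ⟶ Y) (g : Y ⟶ c.pt) (qY : Y ⟶ Y₀) (qX : X ⟶ X₀)
    (hY : IsPullback qY g g₀ (c.π.app i₀)) (hX : IsPullback qX f f₀ qY)
    (h : RelAmple.IsRelAmple f ((Scheme.Modules.pullback qX).obj L₀)) :
    ∃ (j : I) (φ : j ⟶ i₀) (Xj Yj : Scheme.{u}) (fj : Xj ⟶ Yj) (gj : Yj ⟶ D.obj j) (pY : Yj ⟶ Y₀)
      (pX : Xj ⟶ X₀), IsPullback pY gj g₀ (D.map φ) ∧ IsPullback pX fj f₀ pY ∧
        RelAmple.IsRelAmple fj ((Scheme.Modules.pullback pX).obj L₀) := by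
  classical
  haveI : QuasiCompact f₀ := QuasiCompact.of_comp f₀ g₀
  haveI : QuasiSeparated f₀ := QuasiSeparated.of_comp f₀ g₀
  haveI : CompactSpace Y₀ := QuasiCompact.compactSpace_of_compactSpace g₀
  haveI : IsAffineHom (c.π.app i₀) := isAffineHom_π_app D c hc i₀
  haveI : IsAffineHom qY := MorphismProperty.of_isPullback (P := @IsAffineHom) hY.flip inferInstance
  -- a finite affine cover of `Y₀`
  have hcov := fun y : Y₀ => exists_isAffineOpen_mem_and_subset (x := y) (U := ⊤) trivial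
  choose V hV hyV _ using hcov
  obtain ⟨t, ht⟩ := CompactSpace.elim_nhds_subcover (fun y => (V y : Set Y₀))
    (fun y => (V y).isOpen.mem_nhds (hyV y))
  let M : Type u := {y : Y₀ // y ∈ t}
  have hMcov : ∀ y : Y₀, ∃ m : M, y ∈ V m.1 := by
    intro y
    have hy : y ∈ ⋃ z ∈ t, (V z : Set Y₀) := ht ▸ Set.mem_univ y
    obtain ⟨z, hz, hyz⟩ := Set.mem_iUnion₂.mp hy
    exact ⟨⟨z, hz⟩, hyz⟩
  let Ω : M → X₀.Opens := fun m => f₀ ⁻¹ᵁ V m.1
  have hΩc : ∀ m, IsCompact (Ω m : Set X₀) := fun m =>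
    QuasiCompact.isCompact_preimage (f := f₀) _ (V m.1).isOpen (hV m.1).isCompact
  have hΩqs : ∀ m, IsQuasiSeparated (Ω m : Set X₀) := fun m =>
    f₀.isQuasiSeparated_preimage (hV m.1).isQuasiSeparated
  have hinv := isInvertible_pullback qX hL₀
  have hXS : IsPullback qX (f ≫ g) (f₀ ≫ g₀) (c.π.app i₀) := hX.paste_vert hY
  -- ampleness over the pieces at the limit
  have hlim : ∀ m : M, IsAmpleOn ((Scheme.Modules.pullback qX).obj L₀) (qX ⁻¹ᵁ Ω m) := by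
    intro m
    have h1 := ((isRelAmple_iff f hinv).mp h).2 ⟨qY ⁻¹ᵁ V m.1, (hV m.1).preimage qY⟩
    have e : f ⁻¹ᵁ (qY ⁻¹ᵁ V m.1) = qX ⁻¹ᵁ Ω m := by
      show f ⁻¹ᵁ (qY ⁻¹ᵁ V m.1) = qX ⁻¹ᵁ (f₀ ⁻¹ᵁ V m.1)
      rw [← Scheme.Hom.comp_preimage, ← Scheme.Hom.comp_preimage, hX.w]
    rwa [e] at h1
  -- a common stage
  have hev : Ev (fun j (φ : j ⟶ i₀) => ∀ m : M,
      IsAmpleOn ((Scheme.Modules.pullback (pullback.fst (f₀ ≫ g₀) (D.map φ))).obj L₀)
        (pullback.fst (f₀ ≫ g₀) (D.map φ) ⁻¹ᵁ Ω m)) := by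
    apply Ev.forall_finite
    intro m
    apply Ev.of_stable
    · intro j φ j' ψ hj
      exact isAmpleOn_stage_of_le D i₀ (f₀ ≫ g₀) (Ω m) L₀ hL₀ φ ψ hj
    · exact exists_isAmpleOn_stage D c hc i₀ (f₀ ≫ g₀) (Ω m) (hΩc m) (hΩqs m) L₀ hL₀ qX (f ≫ g)
        hXS (hlim m)
  obtain ⟨j, φ, hj⟩ := hev.exists
  -- the base changes to the stage
  let pX : pullback (f₀ ≫ g₀) (D.map φ) ⟶ X₀ := pullback.fst _ _
  let pY : pullback g₀ (D.map φ) ⟶ Y₀ := pullback.fst _ _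
  let fj : pullback (f₀ ≫ g₀) (D.map φ) ⟶ pullback g₀ (D.map φ) :=
    pullback.lift (pX ≫ f₀) (pullback.snd _ _) (by
      rw [Category.assoc, pullback.condition])
  have hfj1 : fj ≫ pY = pX ≫ f₀ := pullback.lift_fst _ _ _
  have hfj2 : fj ≫ pullback.snd g₀ (D.map φ) = pullback.snd (f₀ ≫ g₀) (D.map φ) :=
    pullback.lift_snd _ _ _
  have hsqY : IsPullback pY (pullback.snd g₀ (D.map φ)) g₀ (D.map φ) :=
    IsPullback.of_hasPullback g₀ (D.map φ)
  have hsqX : IsPullback pX fj f₀ pY := by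
    refine IsPullback.of_bot ?_ hfj1.symm hsqY
    rw [hfj2]
    exact IsPullback.of_hasPullback (f₀ ≫ g₀) (D.map φ)
  refine ⟨j, φ, _, _, fj, pullback.snd g₀ (D.map φ), pY, pX, hsqY, hsqX, ?_⟩
  haveI : QuasiCompact fj := MorphismProperty.of_isPullback (P := @QuasiCompact) hsqX inferInstance
  apply isRelAmple_of_local fj (isInvertible_pullback pX hL₀)
  intro y
  obtain ⟨m, hm⟩ := hMcov (pY.base y)
  refine ⟨pY ⁻¹ᵁ V m.1, hm, fun W hW => ?_⟩
  refine (hj m).mono (isInvertible_pullback pX hL₀) ?_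
    (QuasiCompact.isCompact_preimage (f := fj) _ W.1.isOpen W.2.isCompact)
  intro x hx
  show f₀.base (pX.base x) ∈ V m.1
  have hx' : pY.base (fj.base x) ∈ V m.1 := hW hx
  rw [← Scheme.Hom.comp_apply, hfj1, Scheme.Hom.comp_apply] at hx'
  exact hx'

omit [IsCofiltered I] [∀ (i j : I) (f : i ⟶ j), IsAffineHom (D.map f)] in
/-- **Relative ampleness at a stage implies relative ampleness at the limit.** -/
theorem isRelAmple_limit_of_stage (i₀ : I) {X₀ Y₀ : Scheme.{u}} (f₀ : X₀ ⟶ Y₀)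
    (g₀ : Y₀ ⟶ D.obj i₀) (L₀ : X₀.Modules)
    {X Y : Scheme.{u}} (f : X ⟶ Y) (g : Y ⟶ c.pt) (qY : Y ⟶ Y₀) (qX : X ⟶ X₀)
    (hY : IsPullback qY g g₀ (c.π.app i₀)) (hX : IsPullback qX f f₀ qY)
    {j : I} (φ : j ⟶ i₀) {Xj Yj : Scheme.{u}} (fj : Xj ⟶ Yj) (gj : Yj ⟶ D.obj j) (pY : Yj ⟶ Y₀)
    (pX : Xj ⟶ X₀) (hYj : IsPullback pY gj g₀ (D.map φ)) (hXj : IsPullback pX fj f₀ pY)
    (h : RelAmple.IsRelAmple fj ((Scheme.Modules.pullback pX).obj L₀)) :
    RelAmple.IsRelAmple f ((Scheme.Modules.pullback qX).obj L₀) := by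
  haveI : QuasiCompact fj := h.1
  let v : Y ⟶ Yj := hYj.lift qY (g ≫ c.π.app j) (by rw [hY.w, Category.assoc, c.w])
  have hv1 : v ≫ pY = qY := hYj.lift_fst _ _ _
  let u : X ⟶ Xj := hXj.lift qX (f ≫ v) (by rw [hX.w, Category.assoc, hv1])
  have hu1 : u ≫ pX = qX := hXj.lift_fst _ _ _
  have hu2 : u ≫ fj = f ≫ v := hXj.lift_snd _ _ _
  have hsq : IsPullback u f fj v := by
    refine IsPullback.of_right ?_ hu2 hXj
    rw [hu1, hv1]
    exact hX
  have h1 := Groth.Agent.Lib.TwBCH6.isRelAmple_of_isPullback fj v u f hsq h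
  exact (isRelAmple_congr f (pullbackCompIso u pX qX hu1 L₀)).mp h1

end Rel

end Groth.Agent.Lib.LimAmpH6
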