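import Groth.Agent.Lib.LimModMain1_helper2

/-!
# EGA IV 8.5.5: local freeness over a limit of schemes comes from a stage (helper2)
APPEND-ONLY once landed.
-/

set_option autoImplicit false
set_option maxHeartbeats 1000000
set_option linter.style.haveILetI false
set_option linter.unusedSectionVars false
set_option linter.unusedVariables false
universe u

open CategoryTheory CategoryTheory.Limits AlgebraicGeometry TopologicalSpace Opposite TensorProduct
open AlgebraicGeometry.Scheme.Modules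

namespace Groth.Agent.Lib.LimMod

section Rank

/-- A local trivialization pulls back to a local trivialization. -/
theorem pullback_free_nhd {X Y : Scheme.{u}} (f : X ⟶ Y) {F : Y.Modules} {n : ℕ} (x : X)
    (V : Y.Opens) (hxV : f x ∈ V) (α : F.restrict V.ι ≅ FlatMod.freeMod (↑V) n) :
    ∃ U : X.Opens, x ∈ U ∧
      Nonempty (((Scheme.Modules.pullback f).obj F).restrict U.ι ≅ FlatMod.freeMod (↑U) n) := by
  refine ⟨f ⁻¹ᵁ V, hxV, ⟨?_⟩⟩
  have comm : (f ⁻¹ᵁ V).ι ≫ f = (f ∣_ V) ≫ V.ι := (morphismRestrict_ι f V).symm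
  exact (PBH8.beta f (f ⁻¹ᵁ V).ι V.ι (f ∣_ V) comm).app F ≪≫
    (Scheme.Modules.pullback (f ∣_ V)).mapIso α ≪≫ PBH8.pullbackFreeIso (f ∣_ V) n

theorem finLocFreeOfRank_of_iso {X : Scheme.{u}} {M M' : X.Modules} {n : ℕ} (e : M ≅ M')
    (h : FlatMod.IsFinLocFreeOfRank n M) : FlatMod.IsFinLocFreeOfRank n M' := fun x => by
  obtain ⟨U, hxU, ⟨α⟩⟩ := h x
  exact ⟨U, hxU, ⟨(Scheme.Modules.restrictFunctor U.ι).mapIso e.symm ≪≫ α⟩⟩

/-- The rank of the stalk of a module at a point with a local trivialization. -/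
theorem finrank_stalk_of_iso {X : Scheme.{u}} (F : X.Modules) [F.IsQuasicoherent] {n : ℕ} {x : X}
    {U : X.Opens} (hxU : x ∈ U) (α : F.restrict U.ι ≅ FlatMod.freeMod (↑U) n) :
    Module.finrank (X.presheaf.stalk x) (F.presheaf.stalk x) = n := by
  obtain ⟨W, hW, hxW, -, t, ht⟩ := FLFH8.exists_affine_bases F hxU α
  obtain ⟨h1, h2⟩ := FLFH8.BasisOn.self F t (ht W le_rfl)
  exact (FLFH8.free_stalk_of_basis F hW hxW t h1 h2).2

end Rank

section Main2

variable {I : Type u} [SmallCategory I] [IsCofiltered I] (D : I ⥤ Scheme.{u}) (c : Cone D)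
  (hc : IsLimit c) [∀ (i j : I) (f : i ⟶ j), IsAffineHom (D.map f)]
  (i₀ : I) [CompactSpace (D.obj i₀)]

include hc in
/-- Local freeness of the pullback to the limit implies local freeness at all sufficiently small
stages. -/
theorem eventually_finLocFree (F₀ : (D.obj i₀).Modules) [F₀.IsQuasicoherent]
    [SheafOfModules.IsFinitePresentation (R := (D.obj i₀).ringCatSheaf) F₀]
    (hF : FlatMod.IsFinLocFree ((Scheme.Modules.pullback (c.π.app i₀)).obj F₀)) :
    ∃ k : Over i₀, ∀ (k' : Over i₀) (g : k' ⟶ k),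
      FlatMod.IsFinLocFree ((Scheme.Modules.pullback (D.map k'.hom)).obj F₀) := by
  haveI hA' : ∀ {i j : I} (f : i ⟶ j), IsAffineHom (D.map f) := fun f => inferInstance
  haveI := isAffineHom_π_app D c hc i₀
  obtain ⟨k, hk⟩ := exists_common_stage D i₀
    (fun U₀ k' => Module.Projective Γ(D.obj k'.left, Uj D i₀ U₀ k')
        Γ((Scheme.Modules.pullback (D.map k'.hom)).obj F₀, Uj D i₀ U₀ k'))
    (fun U₀ hU₀ => chart_projective D c i₀ U₀ hc hU₀
      (FLFH8.fp_flat_sections_of_finLocFree _ hF (hU₀.preimage (c.π.app i₀))).2)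
  refine ⟨k, fun k' g => ?_⟩
  haveI : SheafOfModules.IsFinitePresentation (R := (D.obj k'.left).ringCatSheaf)
      ((Scheme.Modules.pullback (D.map k'.hom)).obj F₀) := FpqcH8.isFP_pullback (D.map k'.hom) F₀
  have hflat : ∀ x : D.obj k'.left, Module.Flat ((D.obj k'.left).presheaf.stalk x)
      (((Scheme.Modules.pullback (D.map k'.hom)).obj F₀).presheaf.stalk x) := by
    intro x
    obtain ⟨U₀, hU₀, hx, hP⟩ := hk k' g x
    haveI := hP
    exact FLFH8.flat_stalk_of_flat_sections _ (hU₀.preimage (D.map k'.hom)) hx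
  exact FLFH8.finLocFree_of_fp_flat_sections _ (fun U =>
    ⟨QCohFP2.finitePresentation_of_isFinitePresentation _ U.2,
      FLFH8.flat_sections_of_flat_stalks _ U.2 (fun x _ => hflat x)⟩)

include hc in
/-- Local freeness of rank `n` of the pullback to the limit implies the same at a stage. -/
theorem exists_finLocFreeOfRank (F₀ : (D.obj i₀).Modules) [F₀.IsQuasicoherent]
    [SheafOfModules.IsFinitePresentation (R := (D.obj i₀).ringCatSheaf) F₀] (n : ℕ)
    (hF : FlatMod.IsFinLocFreeOfRank n ((Scheme.Modules.pullback (c.π.app i₀)).obj F₀)) :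
    ∃ (j : I) (φ : j ⟶ i₀),
      FlatMod.IsFinLocFreeOfRank n ((Scheme.Modules.pullback (D.map φ)).obj F₀) := by
  haveI hA' : ∀ {i j : I} (f : i ⟶ j), IsAffineHom (D.map f) := fun f => inferInstance
  obtain ⟨k, hk⟩ := eventually_finLocFree D c hc i₀ F₀
    (FLFH8.IsFinLocFreeOfRank.isFinLocFree _ hF)
  have hFk := hk k (𝟙 k)
  haveI : CompactSpace (D.obj k.left) := QuasiCompact.compactSpace_of_compactSpace (D.map k.hom)
  obtain ⟨Fk, hFkdef⟩ : ∃ Fk : (D.obj k.left).Modules,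
      Fk = (Scheme.Modules.pullback (D.map k.hom)).obj F₀ := ⟨_, rfl⟩
  rw [← hFkdef] at hFk
  haveI : Fk.IsQuasicoherent := by rw [hFkdef]; infer_instance
  let W : (D.obj k.left).Opens :=
    ⨆ (U : {U : (D.obj k.left).Opens // Nonempty (Fk.restrict U.ι ≅ FlatMod.freeMod (↑U) n)}), U.1
  have hn' : FlatMod.IsFinLocFreeOfRank n ((Scheme.Modules.pullback (c.π.app k.left)).obj Fk) := by
    rw [hFkdef]
    exact finLocFreeOfRank_of_iso
      ((DescH8.pbIso (c.π.app k.left) (D.map k.hom) (c.π.app i₀) (c.w k.hom)).app F₀).symm hF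
  have hW : c.π.app k.left ⁻¹ᵁ ⊤ ≤ c.π.app k.left ⁻¹ᵁ W := by
    intro y _
    obtain ⟨U, r, hxU, ⟨α⟩⟩ := hFk ((c.π.app k.left) y)
    obtain ⟨U', hyU', ⟨β⟩⟩ := pullback_free_nhd (c.π.app k.left) y U hxU α
    have e1 := finrank_stalk_of_iso _ hyU' β
    have e2 := (FLFH8.free_stalk_of_finLocFreeOfRank _ hn' y).2
    have hrn : r = n := e1.symm.trans e2
    subst hrn
    exact Opens.mem_iSup.mpr ⟨⟨U, ⟨α⟩⟩, hxU⟩
  obtain ⟨j, f, hj⟩ := exists_map_preimage_le_map_preimage D c hc (i := k.left)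
    (U := ⊤) (V := W) isCompact_univ hW
  refine ⟨j, f ≫ k.hom, ?_⟩
  have iso : (Scheme.Modules.pullback (D.map f)).obj Fk ≅
      (Scheme.Modules.pullback (D.map (f ≫ k.hom))).obj F₀ := by
    rw [hFkdef]
    exact (DescH8.pbIso (D.map f) (D.map k.hom) (D.map (f ≫ k.hom))
      (D.map_comp f k.hom).symm).app F₀
  refine finLocFreeOfRank_of_iso iso (fun z => ?_)
  have hz : (D.map f) z ∈ W := hj (by trivial : z ∈ D.map f ⁻¹ᵁ ⊤)
  obtain ⟨⟨U, ⟨α⟩⟩, hzU⟩ := Opens.mem_iSup.mp hz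
  exact pullback_free_nhd (D.map f) z U hzU α

end Main2

/-- **EGA IV 8.5.5, locally free modules.** -/
theorem main4791 {I : Type u} [SmallCategory I] [IsCofiltered I]
    (D : I ⥤ Scheme.{u}) (c : Limits.Cone D) (hc : Limits.IsLimit c)
    [∀ (i j : I) (f : i ⟶ j), IsAffineHom (D.map f)] (i₀ : I) [CompactSpace (D.obj i₀)]
    (F₀ : (D.obj i₀).Modules) [Coh.IsQCoh F₀] (hF₀fp : CohB1.IsFP F₀) :
    FlatMod.IsFinLocFree ((Scheme.Modules.pullback (c.π.app i₀)).obj F₀) ↔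
      ∃ (j : I) (φ : j ⟶ i₀), FlatMod.IsFinLocFree ((Scheme.Modules.pullback (D.map φ)).obj F₀) := by
  haveI := hF₀fp
  constructor
  · intro H
    obtain ⟨k, hk⟩ := eventually_finLocFree D c hc i₀ F₀ H
    exact ⟨k.left, k.hom, hk k (𝟙 k)⟩
  · rintro ⟨j, φ, H⟩
    exact FLFH8.IsFinLocFree.of_iso
      ((DescH8.pbIso (c.π.app j) (D.map φ) (c.π.app i₀) (c.w φ)).app F₀)
      (PBH8.isFinLocFree_pullback (c.π.app j) H)

/-- **EGA IV 8.5.5, locally free modules of rank `n`.** -/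
theorem main4792 {I : Type u} [SmallCategory I] [IsCofiltered I]
    (D : I ⥤ Scheme.{u}) (c : Limits.Cone D) (hc : Limits.IsLimit c)
    [∀ (i j : I) (f : i ⟶ j), IsAffineHom (D.map f)] (i₀ : I) [CompactSpace (D.obj i₀)]
    (F₀ : (D.obj i₀).Modules) [Coh.IsQCoh F₀] (hF₀fp : CohB1.IsFP F₀)
    (n : ℕ) :
    FlatMod.IsFinLocFreeOfRank n ((Scheme.Modules.pullback (c.π.app i₀)).obj F₀) ↔
      ∃ (j : I) (φ : j ⟶ i₀), FlatMod.IsFinLocFreeOfRank n ((Scheme.Modules.pullback (D.map φ)).obj F₀) := by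
  haveI := hF₀fp
  constructor
  · intro H
    exact exists_finLocFreeOfRank D c hc i₀ F₀ n H
  · rintro ⟨j, φ, H⟩
    exact finLocFreeOfRank_of_iso
      ((DescH8.pbIso (c.π.app j) (D.map φ) (c.π.app i₀) (c.w φ)).app F₀)
      (PBH8.isFinLocFreeOfRank_pullback (c.π.app j) H)

end Groth.Agent.Lib.LimMod
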