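import Mathlib
import Groth.Prelude
import Groth.Agent.Lib.LimAmp5_helper6
import Groth.Agent.Lib.LimDescMain_helper2
import Groth.Agent.Lib.LimModMain2_helper2
import Groth.Agent.Lib.FinCov3_helper8
import Groth.Agent.Lib.FLF6_helper8

/-!
# An ample invertible module on a cofiltered limit comes from an ample module on a stage (helper6)
APPEND-ONLY once landed.
-/

set_option autoImplicit false
set_option linter.all false

namespace Groth.Agent.Lib.LimAmpH6

open AlgebraicGeometry CategoryTheory CategoryTheory.Limits TopologicalSpace Opposite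
open QcqsLoc GenLocH8 FLFH8 QCohExtn TensH8 PBH8

universe u

theorem isInvertible_of_rank_one {X : Scheme.{u}} {L : X.Modules}
    (h : FlatMod.IsFinLocFreeOfRank 1 L) : PicF.IsInvertible L := fun x => by
  obtain ⟨U, hxU, ⟨α⟩⟩ := h x
  exact ⟨U, hxU, ⟨α ≪≫ coproductUniqueIso
    (fun _ : Fin 1 => Coh.structureModule (U : Scheme.{u}))⟩⟩

theorem isFinLocFreeOfRank_of_iso {X : Scheme.{u}} {M M' : X.Modules} {r : ℕ} (e : M ≅ M')
    (h : FlatMod.IsFinLocFreeOfRank r M) : FlatMod.IsFinLocFreeOfRank r M' := fun x => by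
  obtain ⟨U, hxU, ⟨α⟩⟩ := h x
  exact ⟨U, hxU, ⟨(Scheme.Modules.restrictFunctor U.ι).mapIso e.symm ≪≫ α⟩⟩

section Desc

variable {I : Type u} [SmallCategory I] [IsCofiltered I] (D : I ⥤ Scheme.{u}) (c : Cone D)
  (hc : IsLimit c) [∀ (i j : I) (f : i ⟶ j), IsAffineHom (D.map f)]

include hc in
/-- **An ample invertible module on the limit gives an ample invertible module on a stage.** -/
theorem exists_isAmple_module_stage [∀ i, CompactSpace (D.obj i)]
    [∀ i, QuasiSeparatedSpace (D.obj i)] (L' : c.pt.Modules) (hL' : CohB1.IsAmple L') :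
    ∃ (i : I) (L : (D.obj i).Modules), CohB1.IsAmple L := by
  have hinv := hL'.1
  haveI : L'.IsQuasicoherent := isQuasicoherent_of_isInvertible hinv
  have hfp : CohB1.IsFP L' := isFinitePresentation_of_finLocFree L'
    (IsFinLocFreeOfRank.isFinLocFree L' (finLocFreeOfRank_one_of_isInvertible hinv))
  obtain ⟨i₀⟩ := IsCofiltered.nonempty (C := I)
  obtain ⟨i, -, Fi, hqc, hFifp, ⟨α⟩⟩ := Groth.Agent.Lib.LimDescMain.main4788 D c hc i₀ L' hfp
  haveI : Coh.IsQCoh Fi := hqc
  have h1 : FlatMod.IsFinLocFreeOfRank 1 ((Scheme.Modules.pullback (c.π.app i)).obj Fi) :=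
    isFinLocFreeOfRank_of_iso α.symm (finLocFreeOfRank_one_of_isInvertible hinv)
  obtain ⟨j, φ, hj⟩ := (Groth.Agent.Lib.LimMod.main4792 D c hc i Fi hFifp 1).mp h1
  have hLj : PicF.IsInvertible ((Scheme.Modules.pullback (D.map φ)).obj Fi) :=
    isInvertible_of_rank_one hj
  have hamp : CohB1.IsAmple ((Scheme.Modules.pullback (c.π.app j)).obj
      ((Scheme.Modules.pullback (D.map φ)).obj Fi)) :=
    (isAmple_congr (pullbackCompIso (c.π.app j) (D.map φ) (c.π.app i) (c.w φ) Fi ≪≫ α)).mpr hL'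
  obtain ⟨j', ψ, hj'⟩ := exists_isAmple_stage D c hc j _ hLj hamp
  exact ⟨j', _, hj'⟩

end Desc

end Groth.Agent.Lib.LimAmpH6
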