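import Mathlib
import Groth.Prelude
import Groth.Agent.Lib.LimAmp6_helper6
import Groth.Agent.Lib.LimAmp7_helper6
import Groth.Agent.Lib.ConsPair1_helper7

/-!
# Quasi-projective morphisms spread out from cofiltered limits (helper6)
APPEND-ONLY once landed.

* `exists_invertible_stage`: an invertible module on a cofiltered limit of qcqs schemes comes from
  an invertible module on a stage.
* `QP`: quasi-projective morphisms as a morphism property, stable under base change.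
* `descendsIn_qp`: quasi-projectivity of a base change to the limit descends to a stage.
-/

set_option autoImplicit false
set_option linter.all false

namespace Groth.Agent.Lib.ConsQPH6

open AlgebraicGeometry CategoryTheory CategoryTheory.Limits TopologicalSpace Opposite
open QcqsLoc GenLocH8 FLFH8 QCohExtn TensH8 PBH8
open Groth.Agent.Lib.LimBaseChangeH7 Groth.Agent.Lib.LimAmpH6

universe u

section Desc

variable {I : Type u} [SmallCategory I] [IsCofiltered I] (D : I ⥤ Scheme.{u}) (c : Cone D)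
  (hc : IsLimit c) [∀ (i j : I) (f : i ⟶ j), IsAffineHom (D.map f)]

include hc in
/-- **An invertible module on the limit comes from an invertible module on a stage.** -/
theorem exists_invertible_stage [∀ i, CompactSpace (D.obj i)]
    [∀ i, QuasiSeparatedSpace (D.obj i)] (i₀ : I) (L : c.pt.Modules)
    (hL : PicF.IsInvertible L) :
    ∃ (j : I) (_ : j ⟶ i₀) (Lj : (D.obj j).Modules), PicF.IsInvertible Lj ∧
      Nonempty ((Scheme.Modules.pullback (c.π.app j)).obj Lj ≅ L) := by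
  haveI : L.IsQuasicoherent := isQuasicoherent_of_isInvertible hL
  have hfp : CohB1.IsFP L := isFinitePresentation_of_finLocFree L
    (IsFinLocFreeOfRank.isFinLocFree L (finLocFreeOfRank_one_of_isInvertible hL))
  obtain ⟨i, a, Fi, hqc, hFifp, ⟨α⟩⟩ := Groth.Agent.Lib.LimDescMain.main4788 D c hc i₀ L hfp
  haveI : Coh.IsQCoh Fi := hqc
  have h1 : FlatMod.IsFinLocFreeOfRank 1 ((Scheme.Modules.pullback (c.π.app i)).obj Fi) :=
    isFinLocFreeOfRank_of_iso α.symm (finLocFreeOfRank_one_of_isInvertible hL)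
  obtain ⟨j, φ, hj⟩ := (Groth.Agent.Lib.LimMod.main4792 D c hc i Fi hFifp 1).mp h1
  exact ⟨j, φ ≫ a, (Scheme.Modules.pullback (D.map φ)).obj Fi, isInvertible_of_rank_one hj,
    ⟨pullbackCompIso (c.π.app j) (D.map φ) (c.π.app i) (c.w φ) Fi ≪≫ α⟩⟩

end Desc

section QP

/-- quasi-projective morphisms as a morphism property -/
abbrev QP : MorphismProperty Scheme.{u} := fun _ _ f => RelProj.IsQuasiProjective f

theorem qp_of_isPullback {X Y Y' S : Scheme.{u}} {f : X ⟶ S} {g : Y ⟶ S} {f' : Y' ⟶ Y}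
    {g' : Y' ⟶ X} (sq : IsPullback f' g' g f) (hg : RelProj.IsQuasiProjective g) :
    RelProj.IsQuasiProjective g' := by
  obtain ⟨hlft, hqc, L, hL⟩ := hg
  haveI := hlft
  haveI := hqc
  exact ⟨MorphismProperty.of_isPullback (P := @LocallyOfFiniteType) sq hlft,
    MorphismProperty.of_isPullback (P := @QuasiCompact) sq hqc, _,
    Groth.Agent.Lib.TwBCH6.isRelAmple_of_isPullback g f f' g' sq hL⟩

instance : (QP.{u}).IsStableUnderBaseChange where
  of_isPullback sq hg := qp_of_isPullback sq hg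

end QP

section DescIn

open Groth.Agent.Lib.ConsPairH7

/-- The base change of a pair `X₀ ⟶ Y₀ ⟶ D i₀` to a later stage, with the comparison squares. -/
theorem exists_stage_pair {I : Type u} [SmallCategory I] (D : I ⥤ Scheme.{u}) (c : Cone D)
    (i₀ : I) {X₀ Y₀ : Scheme.{u}} (f₀ : X₀ ⟶ Y₀) (g₀ : Y₀ ⟶ D.obj i₀)
    {X Y : Scheme.{u}} (f : X ⟶ Y) (g : Y ⟶ c.pt) (qY : Y ⟶ Y₀) (qX : X ⟶ X₀)
    (hY : IsPullback qY g g₀ (c.π.app i₀)) (hX : IsPullback qX f f₀ qY) (j : Over i₀) :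
    ∃ (f₁ : pullback (f₀ ≫ g₀) (D.map j.hom) ⟶ pullback g₀ (D.map j.hom))
      (qY₁ : Y ⟶ pullback g₀ (D.map j.hom)) (qX₁ : X ⟶ pullback (f₀ ≫ g₀) (D.map j.hom)),
      f₁ ≫ pullback.snd g₀ (D.map j.hom) = pullback.snd (f₀ ≫ g₀) (D.map j.hom) ∧
      IsPullback (pullback.fst (f₀ ≫ g₀) (D.map j.hom)) f₁ f₀ (pullback.fst g₀ (D.map j.hom)) ∧
      IsPullback qY₁ g (pullback.snd g₀ (D.map j.hom)) (c.π.app j.left) ∧
      qX₁ = (bcCone c (hX.paste_vert hY)).π.app j ∧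
      IsPullback qX₁ f f₁ qY₁ := by
  have hY₀ := IsPullback.of_hasPullback g₀ (D.map j.hom)
  have hXY₀ := IsPullback.of_hasPullback (f₀ ≫ g₀) (D.map j.hom)
  have w₁ : (pullback.fst (f₀ ≫ g₀) (D.map j.hom) ≫ f₀) ≫ g₀ =
      pullback.snd (f₀ ≫ g₀) (D.map j.hom) ≫ D.map j.hom := by
    rw [Category.assoc, pullback.condition]
  obtain ⟨f₁, hf₁fst, hf₁snd⟩ : ∃ f₁ : pullback (f₀ ≫ g₀) (D.map j.hom) ⟶
      pullback g₀ (D.map j.hom), f₁ ≫ pullback.fst g₀ (D.map j.hom) =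
        pullback.fst (f₀ ≫ g₀) (D.map j.hom) ≫ f₀ ∧
      f₁ ≫ pullback.snd g₀ (D.map j.hom) = pullback.snd (f₀ ≫ g₀) (D.map j.hom) :=
    ⟨pullback.lift _ _ w₁, pullback.lift_fst _ _ _, pullback.lift_snd _ _ _⟩
  have hsq₁ : IsPullback (pullback.fst (f₀ ≫ g₀) (D.map j.hom)) f₁ f₀
      (pullback.fst g₀ (D.map j.hom)) := by
    refine IsPullback.of_bot ?_ hf₁fst.symm hY₀
    rw [hf₁snd]
    exact hXY₀
  have wY : qY ≫ g₀ = (g ≫ c.π.app j.left) ≫ D.map j.hom := by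
    rw [hY.w, Category.assoc, c.w]
  obtain ⟨qY₁, hqY₁fst, hqY₁snd⟩ : ∃ qY₁ : Y ⟶ pullback g₀ (D.map j.hom),
      qY₁ ≫ pullback.fst g₀ (D.map j.hom) = qY ∧
      qY₁ ≫ pullback.snd g₀ (D.map j.hom) = g ≫ c.π.app j.left :=
    ⟨pullback.lift _ _ wY, pullback.lift_fst _ _ _, pullback.lift_snd _ _ _⟩
  have hsqY : IsPullback qY₁ g (pullback.snd g₀ (D.map j.hom)) (c.π.app j.left) := by
    refine IsPullback.of_right ?_ hqY₁snd hY₀
    rw [hqY₁fst, c.w]
    exact hY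
  obtain ⟨qX₁, hqX₁⟩ : ∃ qX₁ : X ⟶ pullback (f₀ ≫ g₀) (D.map j.hom),
      qX₁ = (bcCone c (hX.paste_vert hY)).π.app j := ⟨_, rfl⟩
  refine ⟨f₁, qY₁, qX₁, hf₁snd, hsq₁, hsqY, hqX₁, ?_⟩
  have hπfst : qX₁ ≫ pullback.fst (f₀ ≫ g₀) (D.map j.hom) = qX := by
    rw [hqX₁]
    exact pullback.lift_fst _ _ _
  have hπsnd : qX₁ ≫ pullback.snd (f₀ ≫ g₀) (D.map j.hom) = (f ≫ g) ≫ c.π.app j.left := by
    rw [hqX₁]
    exact pullback.lift_snd _ _ _
  refine IsPullback.of_right ?_ ?_ hsq₁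
  · rw [hπfst, hqY₁fst]
    exact hX
  · apply pullback.hom_ext
    · rw [Category.assoc, hf₁fst, ← Category.assoc, hπfst, Category.assoc, hqY₁fst, hX.w]
    · rw [Category.assoc, hf₁snd, hπsnd, Category.assoc, Category.assoc, hqY₁snd]

/-- **Quasi-projectivity of a base change to a cofiltered limit descends to a stage.** -/
theorem descendsIn_qp : DescendsIn.{u} QP := by
  intro I _ _ D c hc _ i₀ _ _ X₀ Y₀ f₀ g₀ _ _ _ _ _ _ X Y f g qY qX hY hX hf
  obtain ⟨hlft, hqc, L, hL⟩ := hf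
  have hinvL := isInvertible_of_isRelAmple f hL
  have hXY : IsPullback qX (f ≫ g) (f₀ ≫ g₀) (c.π.app i₀) := hX.paste_vert hY
  haveI : CompactSpace X₀ := QuasiCompact.compactSpace_of_compactSpace (f₀ ≫ g₀)
  haveI : QuasiSeparatedSpace X₀ := quasiSeparatedSpace_of_quasiSeparated (f₀ ≫ g₀)
  obtain ⟨j, -, Lj, hLj, ⟨α⟩⟩ := exists_invertible_stage (bcDiagram D i₀ (f₀ ≫ g₀))
    (bcCone c hXY) (isLimitBcCone c hXY hc) (Over.mk (𝟙 i₀)) L hinvL
  obtain ⟨f₁, qY₁, qX₁, hf₁snd, hsq₁, hsqY, hqX₁, hsqX⟩ :=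
    exists_stage_pair D c i₀ f₀ g₀ f g qY qX hY hX j
  haveI : CompactSpace (D.obj j.left) := QuasiCompact.compactSpace_of_compactSpace (D.map j.hom)
  haveI : QuasiCompact (f₁ ≫ pullback.snd g₀ (D.map j.hom)) := by
    rw [hf₁snd]; infer_instance
  haveI : QuasiSeparated (f₁ ≫ pullback.snd g₀ (D.map j.hom)) := by
    rw [hf₁snd]; infer_instance
  have h : RelAmple.IsRelAmple f ((Scheme.Modules.pullback qX₁).obj Lj) := by
    subst hqX₁
    exact (isRelAmple_congr f α.symm).mp hL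
  obtain ⟨j', φ', Xj, Yj, fj, gj, pY, pX, hYj, hXj, hamp⟩ :=
    exists_isRelAmple_stage D c hc j.left f₁ (pullback.snd g₀ (D.map j.hom)) Lj hLj f g qY₁ qX₁
      hsqY hsqX h
  haveI : LocallyOfFiniteType f₀ := locallyOfFiniteType_of_comp f₀ g₀
  haveI : QuasiCompact f₀ := QuasiCompact.of_comp f₀ g₀
  refine ⟨j', φ' ≫ j.hom, Xj, Yj, fj, gj, pY ≫ pullback.fst g₀ (D.map j.hom),
    pX ≫ pullback.fst (f₀ ≫ g₀) (D.map j.hom), ?_, hXj.paste_horiz hsq₁, ?_⟩
  · have h1 := hYj.paste_horiz (IsPullback.of_hasPullback g₀ (D.map j.hom))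
    rwa [← D.map_comp] at h1
  · exact ⟨MorphismProperty.of_isPullback (P := @LocallyOfFiniteType) (hXj.paste_horiz hsq₁)
        inferInstance,
      MorphismProperty.of_isPullback (P := @QuasiCompact) (hXj.paste_horiz hsq₁) inferInstance,
      _, hamp⟩

end DescIn

end Groth.Agent.Lib.ConsQPH6
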