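import Mathlib
import Groth.Prelude
import Groth.Agent.Lib.ConsMM1_helper6
import Groth.Agent.Lib.ConsQP1_helper6

/-!
# Ind-constructible properties of morphisms of algebraic schemes carrying an invertible module, II
(helper6)  APPEND-ONLY once landed.

* `exists_noetherian_model_mm`: Noetherian models of `X ⟶ Y ⟶ S`, `S` affine, with an invertible
  module on `X`.
* `isIndConstructible_locusMM_of_isAffine`, `main_mm`.
-/

set_option autoImplicit false
set_option linter.all false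

namespace Groth.Agent.Lib.ConsMMH6

open AlgebraicGeometry CategoryTheory CategoryTheory.Limits TopologicalSpace Opposite Topology
open Groth.Agent.Lib.ConsPropH7 Groth.Agent.Lib.LimAmpH6 Groth.Agent.Lib.ConsQPH6
open Groth.Agent.Lib.LimBaseChangeH7 Groth.Agent.Lib.LimDescFPH7
open Set.Notation

universe u

variable {P : ∀ ⦃X Y T : Scheme.{u}⦄, (X ⟶ Y) → (Y ⟶ T) → X.Modules → Prop}

/-- descent of a finitely presented pair with an invertible module over `Spec A` to a Noetherian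
base -/
theorem exists_noetherian_model_mm (A : Type u) [CommRing A] {X Y : Scheme.{u}} (f : X ⟶ Y)
    (g : Y ⟶ Spec (CommRingCat.of A))
    [LocallyOfFinitePresentation g] [QuasiCompact g] [QuasiSeparated g]
    [LocallyOfFinitePresentation (f ≫ g)] [QuasiCompact (f ≫ g)] [QuasiSeparated (f ≫ g)]
    (L : X.Modules) (hL : PicF.IsInvertible L) :
    ∃ (S₀ X₀ Y₀ : Scheme.{u}) (_ : IsNoetherian S₀) (f₀ : X₀ ⟶ Y₀) (g₀ : Y₀ ⟶ S₀)
      (h : Spec (CommRingCat.of A) ⟶ S₀) (qX : X ⟶ X₀) (qY : Y ⟶ Y₀) (L₀ : X₀.Modules),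
      LocallyOfFiniteType g₀ ∧ QuasiCompact g₀ ∧ LocallyOfFiniteType (f₀ ≫ g₀) ∧
        QuasiCompact (f₀ ≫ g₀) ∧ IsPullback qY g g₀ h ∧ IsPullback qX f f₀ qY ∧
        PicF.IsInvertible L₀ ∧ Nonempty (L ≅ (Scheme.Modules.pullback qX).obj L₀) := by
  letI : Algebra (ULift.{u} ℤ) A := ULift.algebra' ℤ A
  haveI : ∀ i, CompactSpace ((DS (ULift.{u} ℤ) A).obj i) := fun i => inferInstance
  haveI : ∀ i, QuasiSeparatedSpace ((DS (ULift.{u} ℤ) A).obj i) := fun i => inferInstance
  let g' : Y ⟶ (coneS (ULift.{u} ℤ) A).pt := g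
  haveI : LocallyOfFinitePresentation g' := ‹LocallyOfFinitePresentation g›
  haveI : QuasiCompact g' := ‹QuasiCompact g›
  haveI : QuasiSeparated g' := ‹QuasiSeparated g›
  haveI : LocallyOfFinitePresentation (f ≫ g') := ‹LocallyOfFinitePresentation (f ≫ g)›
  haveI : QuasiCompact (f ≫ g') := ‹QuasiCompact (f ≫ g)›
  haveI : QuasiSeparated (f ≫ g') := ‹QuasiSeparated (f ≫ g)›
  obtain ⟨i, Xi, Yi, fi, gi, qX, qY, h1, h2, h3, h4, h5, h6⟩ :=
    exists_descend_pair (DS (ULift.{u} ℤ) A) (coneS (ULift.{u} ℤ) A)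
      (isLimitConeS (ULift.{u} ℤ) A) f g'
  haveI := h1
  haveI := h2
  haveI := h3
  haveI := h4
  haveI := isNoetherian_stage A i
  haveI : IsLocallyNoetherian Xi := LocallyOfFiniteType.isLocallyNoetherian (fi ≫ gi)
  haveI : CompactSpace Xi := QuasiCompact.compactSpace_of_compactSpace (fi ≫ gi)
  haveI : QuasiSeparatedSpace Xi := inferInstance
  have hXY : IsPullback qX (f ≫ g') (fi ≫ gi) ((coneS (ULift.{u} ℤ) A).π.app i) :=
    h6.paste_vert h5
  obtain ⟨j, -, Lj, hLj, ⟨α⟩⟩ := exists_invertible_stage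
    (bcDiagram (DS (ULift.{u} ℤ) A) i (fi ≫ gi)) (bcCone (coneS (ULift.{u} ℤ) A) hXY)
    (isLimitBcCone (coneS (ULift.{u} ℤ) A) hXY (isLimitConeS (ULift.{u} ℤ) A))
    (Over.mk (𝟙 i)) L hL
  obtain ⟨f₁, qY₁, qX₁, hf₁snd, hsq₁, hsqY, hqX₁, hsqX⟩ :=
    exists_stage_pair (DS (ULift.{u} ℤ) A) (coneS (ULift.{u} ℤ) A) i fi gi f g' qY qX h5 h6 j
  refine ⟨(DS (ULift.{u} ℤ) A).obj j.left, _, _, isNoetherian_stage A j.left, f₁,
    pullback.snd gi ((DS (ULift.{u} ℤ) A).map j.hom), (coneS (ULift.{u} ℤ) A).π.app j.left,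
    qX₁, qY₁, Lj, inferInstance, inferInstance, ?_, ?_, hsqY, hsqX, hLj, ?_⟩
  · rw [hf₁snd]; infer_instance
  · rw [hf₁snd]; infer_instance
  · subst hqX₁
    exact ⟨α.symm⟩

/-- descent of a finitely presented pair with an invertible module over an affine scheme to a
Noetherian base -/
theorem exists_noetherian_model_mm_of_isAffine {X Y S : Scheme.{u}} [IsAffine S] (f : X ⟶ Y)
    (g : Y ⟶ S)
    [LocallyOfFinitePresentation g] [QuasiCompact g] [QuasiSeparated g]
    [LocallyOfFinitePresentation (f ≫ g)] [QuasiCompact (f ≫ g)] [QuasiSeparated (f ≫ g)]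
    (L : X.Modules) (hL : PicF.IsInvertible L) :
    ∃ (S₀ X₀ Y₀ : Scheme.{u}) (_ : IsNoetherian S₀) (f₀ : X₀ ⟶ Y₀) (g₀ : Y₀ ⟶ S₀)
      (h : S ⟶ S₀) (qX : X ⟶ X₀) (qY : Y ⟶ Y₀) (L₀ : X₀.Modules),
      LocallyOfFiniteType g₀ ∧ QuasiCompact g₀ ∧ LocallyOfFiniteType (f₀ ≫ g₀) ∧
        QuasiCompact (f₀ ≫ g₀) ∧ IsPullback qY g g₀ h ∧ IsPullback qX f f₀ qY ∧
        PicF.IsInvertible L₀ ∧ Nonempty (L ≅ (Scheme.Modules.pullback qX).obj L₀) := by
  let e : S ⟶ Spec (CommRingCat.of Γ(S, ⊤)) := S.isoSpec.hom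
  haveI : IsIso e := inferInstanceAs (IsIso S.isoSpec.hom)
  haveI : LocallyOfFinitePresentation (g ≫ e) := inferInstance
  haveI : QuasiCompact (g ≫ e) := inferInstance
  haveI : QuasiSeparated (g ≫ e) := inferInstance
  haveI : LocallyOfFinitePresentation (f ≫ g ≫ e) := by
    rw [← Category.assoc]; infer_instance
  haveI : QuasiCompact (f ≫ g ≫ e) := by
    rw [← Category.assoc]; infer_instance
  haveI : QuasiSeparated (f ≫ g ≫ e) := by
    rw [← Category.assoc]; infer_instance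
  obtain ⟨S₀, X₀, Y₀, hN, f₀, g₀, h, qX, qY, L₀, h1, h2, h3, h4, h5, h6, h7, h8⟩ :=
    exists_noetherian_model_mm Γ(S, ⊤) f (g ≫ e) L hL
  refine ⟨S₀, X₀, Y₀, hN, f₀, g₀, e ≫ h, qX, qY, L₀, h1, h2, h3, h4, ?_, h6, h7, h8⟩
  have hiso : IsPullback (𝟙 Y) g (g ≫ e) e := IsPullback.of_horiz_isIso ⟨by simp⟩
  have h9 := hiso.paste_horiz h5
  simpa using h9

/-- Over an affine base the locus of an ind-constructible relation is ind-constructible. -/
theorem isIndConstructible_locusMM_of_isAffine (hP : IsIndConsMM P)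
    {X Y S : Scheme.{u}} [IsAffine S] (f : X ⟶ Y) (g : Y ⟶ S)
    [LocallyOfFinitePresentation g] [QuasiCompact g] [QuasiSeparated g]
    [LocallyOfFinitePresentation (f ≫ g)] [QuasiCompact (f ≫ g)] [QuasiSeparated (f ≫ g)]
    (L : X.Modules) (hL : PicF.IsInvertible L) :
    ProCons.IsIndConstructible (locusMM P f g L) := by
  obtain ⟨S₀, X₀, Y₀, hN, f₀, g₀, h, qX, qY, L₀, h1, h2, h3, h4, h5, h6, h7, ⟨α⟩⟩ :=
    exists_noetherian_model_mm_of_isAffine f g L hL
  haveI := hN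
  haveI := h1
  haveI := h2
  haveI := h3
  haveI := h4
  have e : locusMM P f g L = h.base ⁻¹' locusMM P f₀ g₀ L₀ := by
    ext s
    exact locusMM_baseChange hP.1 f₀ g₀ f g qX qY h h5 h6 L₀ L h7 α s
  rw [e]
  exact Groth.Agent.Lib.ProConsSchH8.isIndConstructible_preimage h _
    (isIndConstructible_locusMM hP f₀ g₀ L₀ h7)

/-- restriction of the locus to an open subscheme -/
theorem locusMM_restrict (hP : IsFieldStableMM P) {X Y S : Scheme.{u}} (f : X ⟶ Y)
    (g : Y ⟶ S) [LocallyOfFiniteType g] [QuasiCompact g]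
    [LocallyOfFiniteType (f ≫ g)] [QuasiCompact (f ≫ g)] (L : X.Modules)
    (hL : PicF.IsInvertible L) (U : S.Opens) :
    ((U : Set S) ↓∩ locusMM P f g L) =
      locusMM P (pullback.snd f (pullback.fst g U.ι)) (pullback.snd g U.ι)
        ((Scheme.Modules.pullback (pullback.fst f (pullback.fst g U.ι))).obj L) := by
  have hY := IsPullback.of_hasPullback g U.ι
  have hX := IsPullback.of_hasPullback f (pullback.fst g U.ι)
  ext t
  exact (locusMM_baseChange hP f g _ _ _ _ U.ι hY hX L _ hL (Iso.refl _) t).symm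

theorem exists_sUnion_locusMM_restrict (hP : IsIndConsMM P) {X Y S : Scheme.{u}}
    (f : X ⟶ Y) (g : Y ⟶ S)
    [LocallyOfFinitePresentation g] [QuasiCompact g] [QuasiSeparated g]
    [LocallyOfFinitePresentation (f ≫ g)] [QuasiCompact (f ≫ g)] [QuasiSeparated (f ≫ g)]
    (L : X.Modules) (hL : PicF.IsInvertible L) (U : S.Opens) (hU : IsAffineOpen U) :
    ∃ 𝒮 : Set (Set ↥(U : Set S)), (∀ T ∈ 𝒮, IsLocallyConstructible T) ∧
      ((U : Set S) ↓∩ locusMM P f g L) = ⋃₀ 𝒮 := by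
  haveI : IsAffine (U : Scheme.{u}) := hU
  have hY := IsPullback.of_hasPullback g U.ι
  have hX := IsPullback.of_hasPullback f (pullback.fst g U.ι)
  haveI : LocallyOfFinitePresentation (pullback.snd f (pullback.fst g U.ι) ≫
      pullback.snd g U.ι) :=
    MorphismProperty.of_isPullback (P := @LocallyOfFinitePresentation) (hX.paste_vert hY)
      inferInstance
  haveI : QuasiCompact (pullback.snd f (pullback.fst g U.ι) ≫ pullback.snd g U.ι) :=
    MorphismProperty.of_isPullback (P := @QuasiCompact) (hX.paste_vert hY) inferInstance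
  haveI : QuasiSeparated (pullback.snd f (pullback.fst g U.ι) ≫ pullback.snd g U.ι) :=
    MorphismProperty.of_isPullback (P := @QuasiSeparated) (hX.paste_vert hY) inferInstance
  have hL' := TensH8.isInvertible_pullback (pullback.fst f (pullback.fst g U.ι)) hL
  have hind := isIndConstructible_locusMM_of_isAffine hP
    (pullback.snd f (pullback.fst g U.ι)) (pullback.snd g U.ι) _ hL'
  have hpro := Groth.Agent.Lib.ProConsCptH8.isProConstructible_compl hind
  haveI k1 : CompactSpace (U : Scheme.{u}) := inferInstance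
  haveI k2 : PrespectralSpace (U : Scheme.{u}) := inferInstance
  haveI k3 : QuasiSeparatedSpace (U : Scheme.{u}) := inferInstance
  obtain ⟨𝒮, h𝒮, hE⟩ := Groth.Agent.Lib.ProConsAffH8.exists_sInter_of_pro
    (Y := (U : Scheme.{u})) hpro
  refine ⟨compl '' 𝒮, ?_, ?_⟩
  · rintro _ ⟨T, hT, rfl⟩
    exact (h𝒮 T hT).compl.isLocallyConstructible
  · have e := locusMM_restrict hP.1 f g L hL U
    have e2 : locusMM P (pullback.snd f (pullback.fst g U.ι)) (pullback.snd g U.ι)
        ((Scheme.Modules.pullback (pullback.fst f (pullback.fst g U.ι))).obj L) =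
        ⋃₀ (compl '' 𝒮) := by
      rw [← Set.compl_sInter, ← hE, compl_compl]
    exact e.trans e2

/-- **Main theorem**: the locus of an ind-constructible relation `P(f, g, L)` for finitely
presented `X ⟶ Y ⟶ S` and invertible `L` is ind-constructible. -/
theorem main_mm (hP : IsIndConsMM P) {X Y S : Scheme.{u}} (f : X ⟶ Y) (g : Y ⟶ S)
    [LocallyOfFinitePresentation g] [QuasiCompact g] [QuasiSeparated g]
    [LocallyOfFinitePresentation (f ≫ g)] [QuasiCompact (f ≫ g)] [QuasiSeparated (f ≫ g)]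
    (L : X.Modules) (hL : PicF.IsInvertible L) :
    ProCons.IsIndConstructible (locusMM P f g L) := by
  intro x
  obtain ⟨_, ⟨U, hU, rfl⟩, hxU, -⟩ :=
    S.isBasis_affineOpens.exists_subset_of_mem_open (Set.mem_univ x) isOpen_univ
  obtain ⟨𝒮, h1, h2⟩ := exists_sUnion_locusMM_restrict hP f g L hL U hU
  exact ⟨U, U.2, hxU, 𝒮, h1, h2⟩

end Groth.Agent.Lib.ConsMMH6
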