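import Mathlib

/-!
# Norms for finite free ring maps given by explicit bases (helper8)
APPEND-ONLY once landed.
-/

set_option autoImplicit false

namespace NormSecH8

open Module

section Abstract

variable {A A' B B' : Type*} [CommRing A] [CommRing A'] [CommRing B] [CommRing B']
  [Algebra A B] [Algebra A' B']

/-- The norm is compatible with a commutative square of ring maps carrying a basis to a basis. -/
theorem norm_map_of_bases (ρ : A →+* A') (ρ' : B →+* B')
    (hsq : ∀ r : A, ρ' (algebraMap A B r) = algebraMap A' B' (ρ r))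
    {ι : Type*} [Fintype ι] [DecidableEq ι] (b : Basis ι A B) (b' : Basis ι A' B')
    (hbb' : ∀ i, b' i = ρ' (b i)) (a : B) :
    Algebra.norm A' (ρ' a) = ρ (Algebra.norm A a) := by
  rw [Algebra.norm_eq_matrix_det b', Algebra.norm_eq_matrix_det b, RingHom.map_det]
  congr 1
  ext i j
  rw [RingHom.mapMatrix_apply, Matrix.map_apply, Algebra.leftMulMatrix_eq_repr_mul,
    Algebra.leftMulMatrix_eq_repr_mul]
  obtain ⟨c, hc, h1⟩ : ∃ c : ι → A, (∀ l, c l = b.repr (a * b j) l) ∧
      a * b j = ∑ l, c l • b l := ⟨fun l => b.repr (a * b j) l, fun _ => rfl, (b.sum_repr _).symm⟩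
  have h2 : ρ' a * b' j = ∑ l, ρ (c l) • b' l := by
    rw [hbb' j, ← map_mul, h1, map_sum]
    refine Finset.sum_congr rfl (fun l _ => ?_)
    rw [Algebra.smul_def, map_mul, hsq, hbb' l, Algebra.smul_def]
  rw [h2, Basis.repr_sum_self, hc]

/-- A unit norm forces a unit. -/
theorem isUnit_of_isUnit_norm {ι : Type*} [Fintype ι] (b : Basis ι A B) {a : B}
    (h : IsUnit (Algebra.norm A a)) : IsUnit a := by
  classical
  rw [Algebra.norm_apply] at h
  have h' : IsUnit (LinearMap.toMatrix b b (Algebra.lmul A B a)).det := by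
    rwa [LinearMap.det_toMatrix b]
  have e := LinearEquiv.ofIsUnitDet (f := Algebra.lmul A B a) (v := b) (v' := b) h'
  have hs : Function.Surjective (Algebra.lmul A B a) := by
    have := (LinearEquiv.ofIsUnitDet (f := Algebra.lmul A B a) (v := b) (v' := b) h').surjective
    exact this
  obtain ⟨c, hc⟩ := hs 1
  have hc' : a * c = 1 := hc
  exact IsUnit.of_mul_eq_one c hc'

theorem isUnit_norm_iff {ι : Type*} [Fintype ι] (b : Basis ι A B) {a : B} :
    IsUnit (Algebra.norm A a) ↔ IsUnit a :=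
  ⟨isUnit_of_isUnit_norm b, fun h => h.map _⟩

end Abstract


section Hom

variable {A A' B B' : Type*} [CommRing A] [CommRing A'] [CommRing B] [CommRing B']

/-- The norm along a ring map (meaningful when the target is finite free over the source). -/
noncomputable def nrm (ψ : A →+* B) (a : B) : A :=
  letI := ψ.toAlgebra
  Algebra.norm A a

/-- `b` is a basis of the target as a module over the source along `ψ`. -/
def IsBasisFor (ψ : A →+* B) {d : ℕ} (b : Fin d → B) : Prop :=
  letI := ψ.toAlgebra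
  Submodule.span A (Set.range b) = ⊤ ∧ LinearIndependent A b

/-- The rank of the target over the source along `ψ`. -/
noncomputable def rk (ψ : A →+* B) : ℕ :=
  letI := ψ.toAlgebra
  Module.finrank A B

theorem nrm_mul (ψ : A →+* B) (a a' : B) : nrm ψ (a * a') = nrm ψ a * nrm ψ a' := by
  letI := ψ.toAlgebra
  exact map_mul (Algebra.norm A) a a'

theorem nrm_one (ψ : A →+* B) : nrm ψ 1 = 1 := by
  letI := ψ.toAlgebra
  exact map_one (Algebra.norm A)

theorem nrm_pow (ψ : A →+* B) (a : B) (n : ℕ) : nrm ψ (a ^ n) = nrm ψ a ^ n := by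
  letI := ψ.toAlgebra
  exact map_pow (Algebra.norm A) a n

/-- The basis attached to `IsBasisFor`. -/
noncomputable def IsBasisFor.basis {ψ : A →+* B} {d : ℕ} {b : Fin d → B} (hb : IsBasisFor ψ b) :
    letI := ψ.toAlgebra
    Basis (Fin d) A B :=
  letI := ψ.toAlgebra
  Basis.mk hb.2 hb.1.ge

theorem IsBasisFor.basis_apply {ψ : A →+* B} {d : ℕ} {b : Fin d → B} (hb : IsBasisFor ψ b)
    (i : Fin d) : hb.basis i = b i := by
  letI := ψ.toAlgebra
  exact Basis.mk_apply hb.2 hb.1.ge i

theorem nrm_map {ψ : A →+* B} {d : ℕ} {b : Fin d → B} (hb : IsBasisFor ψ b) (u : A) :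
    nrm ψ (ψ u) = u ^ d := by
  letI := ψ.toAlgebra
  have h := Algebra.norm_algebraMap_of_basis hb.basis u
  rw [Fintype.card_fin] at h
  exact h

theorem rk_eq [Nontrivial A] {ψ : A →+* B} {d : ℕ} {b : Fin d → B} (hb : IsBasisFor ψ b) :
    rk ψ = d := by
  letI := ψ.toAlgebra
  have h := Module.finrank_eq_card_basis hb.basis
  rw [Fintype.card_fin] at h
  exact h

theorem isUnit_nrm_iff {ψ : A →+* B} {d : ℕ} {b : Fin d → B} (hb : IsBasisFor ψ b) {a : B} :
    IsUnit (nrm ψ a) ↔ IsUnit a := by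
  letI := ψ.toAlgebra
  exact isUnit_norm_iff hb.basis

theorem nrm_comm_sq (ψ : A →+* B) (ψ' : A' →+* B') (ρ : A →+* A') (ρ' : B →+* B')
    (hsq : ∀ r : A, ρ' (ψ r) = ψ' (ρ r)) {d : ℕ} {b : Fin d → B} (hb : IsBasisFor ψ b)
    (hb' : IsBasisFor ψ' (fun i => ρ' (b i))) (a : B) :
    nrm ψ' (ρ' a) = ρ (nrm ψ a) := by
  letI := ψ.toAlgebra
  letI := ψ'.toAlgebra
  refine norm_map_of_bases ρ ρ' hsq hb.basis hb'.basis (fun i => ?_) a
  rw [hb'.basis_apply, hb.basis_apply]

end Hom

end NormSecH8
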