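import Mathlib
import Groth.Prelude
import Groth.Agent.Lib.Tens41_helper8
import Groth.Agent.Lib.Tens32_helper8
import Groth.Agent.Lib.FLF8_helper8
import Groth.Agent.Lib.NormSec1_helper8

/-!
# Sections of framed modules from coefficients over a class of small opens (helper8)
APPEND-ONLY once landed.
-/

set_option autoImplicit false

namespace NormSecH8

open AlgebraicGeometry CategoryTheory CategoryTheory.Limits TopologicalSpace Opposite TensorProduct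
open QcqsLoc MonoidalCategory GenLocH8 FLFH8 QCohExtn TensH8

universe u

variable {X : Scheme.{u}}

/-- Gluing a section of a framed module from local coefficients given only over a
downward-closed class of opens covering `U`. -/
theorem exists_section_of_class {L M' : X.Modules} {N : ℕ} (Ψ : Frame L M' N) (U : X.Opens)
    (P : X.Opens → Prop) (hPmono : ∀ {W W' : X.Opens}, W' ≤ W → P W → P W')
    (hPcov : ∀ x ∈ U, ∃ W : X.Opens, P W ∧ x ∈ W ∧ W ≤ U ∧ ∃ e : Γ(L, W), IsGen L W e)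
    (γ : ∀ (W : X.Opens) (_ : W ≤ U) (_ : P W) (e : Γ(L, W)) (_ : IsGen L W e), Γ(X, W))
    (hres : ∀ (W : X.Opens) (hW : W ≤ U) (hP : P W) (e : Γ(L, W)) (he : IsGen L W e)
      {W' : X.Opens} (h : W' ≤ W),
      γ W' (h.trans hW) (hPmono h hP) (rF L h e) (he.res h) = rX h (γ W hW hP e he))
    (hchange : ∀ (W : X.Opens) (hW : W ≤ U) (hP : P W) (e : Γ(L, W)) (he : IsGen L W e)
      (u : Γ(X, W)) (he' : IsGen L W (u • e)), γ W hW hP e he = γ W hW hP (u • e) he' * u ^ N) :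
    ∃ σ : Γ(M', U), ∀ (W : X.Opens) (hW : W ≤ U) (hP : P W) (e : Γ(L, W)) (he : IsGen L W e),
      rF M' hW σ = γ W hW hP e he • Ψ.φ W e := by
  let I := {p : Σ W : X.Opens, Γ(L, W) // p.1 ≤ U ∧ P p.1 ∧ IsGen L p.1 p.2}
  let O : I → X.Opens := fun p => p.1.1
  have hO : ∀ p : I, O p ≤ U := fun p => p.2.1
  let τ : ∀ p : I, Γ(M', O p) := fun p => γ p.1.1 p.2.1 p.2.2.1 p.1.2 p.2.2.2 • Ψ.φ p.1.1 p.1.2
  have hcov : U ≤ ⨆ p : I, O p := by
    intro x hx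
    obtain ⟨W, hPW, hxW, hWU, e, he⟩ := hPcov x hx
    exact Opens.mem_iSup.mpr ⟨⟨⟨W, e⟩, hWU, hPW, he⟩, hxW⟩
  have hcompat : ∀ p q : I, rF M' (inf_le_left : O p ⊓ O q ≤ O p) (τ p) =
      rF M' (inf_le_right : O p ⊓ O q ≤ O q) (τ q) := by
    rintro ⟨⟨W, e⟩, hWU, hPW, he⟩ ⟨⟨W', e'⟩, hW'U, hPW', he'⟩
    show rF M' (inf_le_left : W ⊓ W' ≤ W) (γ W hWU hPW e he • Ψ.φ W e) =
      rF M' (inf_le_right : W ⊓ W' ≤ W') (γ W' hW'U hPW' e' he' • Ψ.φ W' e')
    have hl : W ⊓ W' ≤ W := inf_le_left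
    have hr : W ⊓ W' ≤ W' := inf_le_right
    obtain ⟨u, hu⟩ := (he.res hl).exists_coef (rF L hr e')
    have he2 : IsGen L (W ⊓ W') (u • rF L hl e) := hu ▸ he'.res hr
    rw [rF_smul, rF_smul, Ψ.res, Ψ.res, ← hres W hWU hPW e he hl, ← hres W' hW'U hPW' e' he' hr,
      hchange (W ⊓ W') (hl.trans hWU) (hPmono hl hPW) (rF L hl e) (he.res hl) u he2, mul_smul,
      ← Ψ.smul]
    have key : ∀ (e2 : Γ(L, W ⊓ W')) (h2 : e2 = u • rF L hl e) (hg : IsGen L (W ⊓ W') e2),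
        γ (W ⊓ W') (hl.trans hWU) (hPmono hl hPW) (u • rF L hl e) he2 •
            Ψ.φ (W ⊓ W') (u • rF L hl e) =
          γ (W ⊓ W') (hr.trans hW'U) (hPmono hr hPW') e2 hg • Ψ.φ (W ⊓ W') e2 := by
      intro e2 h2 hg
      subst h2
      rfl
    exact key _ hu (he'.res hr)
  obtain ⟨σ, hσ⟩ := glue M' O U hO hcov τ hcompat
  exact ⟨σ, fun W hW hP e he => hσ ⟨⟨W, e⟩, hW, hP, he⟩⟩

/-- The locus of a section can be checked on a downward-closed class of opens covering `V`. -/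
theorem hasLocus_of_class {L M : X.Modules} {N : ℕ} (Φ : Frame L M N) {V : X.Opens}
    (σ : Γ(M, V)) (O : X.Opens)
    (P : X.Opens → Prop)
    (hPcov : ∀ (W : X.Opens) (x : X), x ∈ W → ∃ W' : X.Opens, P W' ∧ x ∈ W' ∧ W' ≤ W)
    (h : ∀ (W : X.Opens) (hW : W ≤ V) (_ : P W) (e : Γ(L, W)) (he : IsGen L W e),
      O ⊓ W = X.basicOpen (Φ.coefOf σ W hW e he)) :
    HasLocus Φ σ O := by
  intro W hW e he
  ext x
  constructor
  · rintro ⟨hxO, hxW⟩
    obtain ⟨W', hP', hxW', hW'W⟩ := hPcov W x hxW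
    have h1 := h W' (hW'W.trans hW) hP' (rF L hW'W e) (he.res hW'W)
    rw [Φ.coefOf_res σ W hW e he hW'W, basicOpen_rX] at h1
    have h2 : x ∈ O ⊓ W' := ⟨hxO, hxW'⟩
    rw [h1] at h2
    exact h2.2
  · intro hx
    have hxW : x ∈ W := X.basicOpen_le _ hx
    obtain ⟨W', hP', hxW', hW'W⟩ := hPcov W x hxW
    have h1 := h W' (hW'W.trans hW) hP' (rF L hW'W e) (he.res hW'W)
    rw [Φ.coefOf_res σ W hW e he hW'W, basicOpen_rX] at h1
    have h2 : x ∈ W' ⊓ X.basicOpen (Φ.coefOf σ W hW e he) := ⟨hxW', hx⟩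
    rw [← h1] at h2
    exact ⟨h2.1, hxW⟩

end NormSecH8
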