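import Mathlib
import Groth.Prelude
import Groth.Agent.Lib.NormSec2_helper8
import Groth.Agent.Lib.Tens43_helper8
import Groth.Agent.Lib.FlatNorm_helper4

/-!
# Triviality of framed modules from unit coefficients; the norm argument for Picard groups (helper5)
APPEND-ONLY once landed.

* `nonempty_iso_of_unit_coefs`: a module framed over an invertible `L` with a compatible system of
  unit coefficients over small opens is trivial.
* `aC`: the coefficient of a global section of `g^* L` with respect to pulled back generators.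
* `nonempty_tensorPow_iso_of_norm`: if `g` has a norm of degree `d` and `g^* L ≅ O` then
  `L^{⊗ d} ≅ O`.
-/

set_option autoImplicit false

namespace Groth.Agent.NormPic

open AlgebraicGeometry CategoryTheory CategoryTheory.Limits TopologicalSpace Opposite TensorProduct
open QcqsLoc MonoidalCategory GenLocH8 FLFH8 QCohExtn TensH8 PBH8
open NormSecH8 (exists_section_of_class)

universe u

section A

variable {X : Scheme.{u}}

/-- the tautological frame of weight one. -/
noncomputable def selfFrame (L : X.Modules) : Frame L L 1 where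
  φ _ e := e
  isGen he := he
  res _ _ := rfl
  smul W u e := by rw [pow_one]

/-- Small opens: contained in an affine open carrying a generator of `L`. -/
def Sm (L : X.Modules) (W : X.Opens) : Prop :=
  ∃ W₀ : X.Opens, W ≤ W₀ ∧ IsAffineOpen W₀ ∧ ∃ e₀ : Γ(L, W₀), IsGen L W₀ e₀

theorem Sm.mono {L : X.Modules} {W W' : X.Opens} (h : W' ≤ W) (hS : Sm L W) : Sm L W' := by
  obtain ⟨W₀, hW, rest⟩ := hS
  exact ⟨W₀, h.trans hW, rest⟩

theorem Sm.exists_gen {L : X.Modules} {W : X.Opens} (hS : Sm L W) :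
    ∃ e : Γ(L, W), IsGen L W e := by
  obtain ⟨W₀, hW, -, e₀, he₀⟩ := hS
  exact ⟨rF L hW e₀, he₀.res hW⟩

theorem exists_sm {L : X.Modules} (hL : PicF.IsInvertible L) (x : X) :
    ∃ W : X.Opens, Sm L W ∧ x ∈ W := by
  obtain ⟨W, hW, hxW, e, he⟩ := exists_isGen hL x
  exact ⟨W, ⟨W, le_rfl, hW, e, he⟩, hxW⟩

/-- A framed module with a compatible system of unit coefficients over small opens is
trivial. -/
theorem nonempty_iso_of_unit_coefs {L M : X.Modules} (hL : PicF.IsInvertible L) {N : ℕ}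
    (Ψ : Frame L M N)
    (γ : ∀ (W : X.Opens) (_ : Sm L W) (e : Γ(L, W)) (_ : IsGen L W e), Γ(X, W))
    (hres : ∀ (W : X.Opens) (hS : Sm L W) (e : Γ(L, W)) (he : IsGen L W e) {W' : X.Opens}
      (h : W' ≤ W), γ W' (hS.mono h) (rF L h e) (he.res h) = rX h (γ W hS e he))
    (hchange : ∀ (W : X.Opens) (hS : Sm L W) (e : Γ(L, W)) (he : IsGen L W e) (u : Γ(X, W))
      (he' : IsGen L W (u • e)), γ W hS e he = γ W hS (u • e) he' * u ^ N)
    (hunit : ∀ (W : X.Opens) (hS : Sm L W) (e : Γ(L, W)) (he : IsGen L W e),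
      IsUnit (γ W hS e he)) :
    Nonempty (M ≅ Coh.structureModule X) := by
  obtain ⟨σ, hσ⟩ := exists_section_of_class Ψ ⊤ (Sm L) (fun h hS => hS.mono h)
    (fun x _ => by
      obtain ⟨W, hS, hxW⟩ := exists_sm hL x
      exact ⟨W, hS, hxW, le_top, hS.exists_gen⟩)
    (fun W _ hS e he => γ W hS e he)
    (fun W _ hS e he W' h => hres W hS e he h)
    (fun W _ hS e he u he' => hchange W hS e he u he')
  haveI : IsIso (homOfSec M σ) := by
    apply isIso_of_isGen_cover
    intro x
    obtain ⟨W, hS, hxW⟩ := exists_sm hL x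
    obtain ⟨e, he⟩ := hS.exists_gen
    refine ⟨W, hxW, toM 1, isGen_one W, ?_⟩
    have h3 : ap (homOfSec M σ) W (toM 1) = γ W hS e he • Ψ.φ W e := by
      have h4 : ap (homOfSec M σ) W (toM 1) = SecTwist.val (homOfSec M σ) W := rfl
      rw [h4, val_homOfSec]
      exact hσ W le_top hS e he
    rw [h3]
    exact isGen_smul_of_isUnit (Ψ.isGen he) (hunit W hS e he)
  exact ⟨(asIso (homOfSec M σ)).symm⟩

end A

section B

variable {X' X : Scheme.{u}} (g : X' ⟶ X)

/-- The ring map on sections. -/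
noncomputable abbrev psi (W : X.Opens) : Γ(X, W) →+* Γ(X', g ⁻¹ᵁ W) := (g.app W).hom

theorem pre_mono {W W' : X.Opens} (h : W' ≤ W) : g ⁻¹ᵁ W' ≤ g ⁻¹ᵁ W := fun _ hz => h hz

theorem psi_rX {W W' : X.Opens} (h : W' ≤ W) (r : Γ(X, W)) :
    rX (X := X') (pre_mono g h) (psi g W r) = psi g W' (rX h r) := by
  have h1 := g.naturality (homOfLE h).op
  exact (congrArg (fun φ => φ.hom r) h1).symm

/-- The pullback of a generator over a small open is a generator. -/
theorem isGen_cUV_of_sm {L : X.Modules} (hL : PicF.IsInvertible L) {W : X.Opens}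
    (hS : Sm L W) {e : Γ(L, W)} (he : IsGen L W e) :
    IsGen ((Scheme.Modules.pullback g).obj L) (g ⁻¹ᵁ W)
      (cUV g L (le_rfl : g ⁻¹ᵁ W ≤ g ⁻¹ᵁ W) e) := by
  obtain ⟨W₀, hW, haff, e₀, he₀⟩ := hS
  have h0 : IsGen L W (rF L hW e₀) := he₀.res hW
  obtain ⟨u, hu⟩ := h0.exists_coef e
  have hunit : IsUnit u := isUnit_of_isGen_smul h0 (hu ▸ he)
  rw [hu, cUV_smul_app]
  exact isGen_smul_of_isUnit (isGen_cUV_res g hL haff he₀ hW) (hunit.map (g.app W).hom)

variable {L : X.Modules} (hL : PicF.IsInvertible L)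
  (G : Γ((Scheme.Modules.pullback g).obj L, ⊤))

/-- The coefficient of the global section `G` of `g^* L` over `g⁻¹ W` with respect to the pulled
back generator. -/
noncomputable def aC (W : X.Opens) (hS : Sm L W) (e : Γ(L, W)) (he : IsGen L W e) :
    Γ(X', g ⁻¹ᵁ W) :=
  (selfFrame ((Scheme.Modules.pullback g).obj L)).coefOf G (g ⁻¹ᵁ W) le_top
    (cUV g L (le_rfl : g ⁻¹ᵁ W ≤ g ⁻¹ᵁ W) e) (isGen_cUV_of_sm g hL hS he)

theorem aC_spec (W : X.Opens) (hS : Sm L W) (e : Γ(L, W)) (he : IsGen L W e) :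
    rF ((Scheme.Modules.pullback g).obj L) (le_top : g ⁻¹ᵁ W ≤ ⊤) G =
      aC g hL G W hS e he • cUV g L (le_rfl : g ⁻¹ᵁ W ≤ g ⁻¹ᵁ W) e :=
  (selfFrame ((Scheme.Modules.pullback g).obj L)).coefOf_spec G _ _ _ _

theorem aC_unique (W : X.Opens) (hS : Sm L W) (e : Γ(L, W)) (he : IsGen L W e)
    (c : Γ(X', g ⁻¹ᵁ W))
    (hc : rF ((Scheme.Modules.pullback g).obj L) (le_top : g ⁻¹ᵁ W ≤ ⊤) G =
      c • cUV g L (le_rfl : g ⁻¹ᵁ W ≤ g ⁻¹ᵁ W) e) :
    c = aC g hL G W hS e he :=
  (selfFrame ((Scheme.Modules.pullback g).obj L)).coefOf_unique G _ _ _ _ c hc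

theorem aC_res (W : X.Opens) (hS : Sm L W) (e : Γ(L, W)) (he : IsGen L W e)
    {W' : X.Opens} (h : W' ≤ W) :
    aC g hL G W' (hS.mono h) (rF L h e) (he.res h) =
      rX (X := X') (pre_mono g h) (aC g hL G W hS e he) := by
  symm
  apply aC_unique
  have h1 := aC_spec g hL G W hS e he
  have h2 := congrArg (rF ((Scheme.Modules.pullback g).obj L) (pre_mono g h)) h1
  rw [rF_rF, rF_smul, rF_cUV] at h2
  rw [cUV_resV]
  exact h2

theorem aC_change (W : X.Opens) (hS : Sm L W) (e : Γ(L, W)) (he : IsGen L W e)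
    (u : Γ(X, W)) (he' : IsGen L W (u • e)) :
    aC g hL G W hS e he = aC g hL G W hS (u • e) he' * psi g W u := by
  symm
  apply aC_unique
  have h1 := aC_spec g hL G W hS (u • e) he'
  rw [cUV_smul_app] at h1
  rw [mul_smul]
  exact h1

theorem isUnit_aC (hG : IsGen ((Scheme.Modules.pullback g).obj L) ⊤ G)
    (W : X.Opens) (hS : Sm L W) (e : Γ(L, W)) (he : IsGen L W e) :
    IsUnit (aC g hL G W hS e he) := by
  have h1 := aC_spec g hL G W hS e he
  exact isUnit_of_isGen_smul (isGen_cUV_of_sm g hL hS he) (h1 ▸ hG.res le_top)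

include hL in
/-- **The norm argument**: if `g` has a norm of degree `d` and `g^* L` is trivial, then
`L^{⊗ d}` is trivial. -/
theorem nonempty_tensorPow_iso_of_norm {d : ℕ} (N : Nrm.NormOfDegree g d)
    (e' : (Scheme.Modules.pullback g).obj L ≅ Coh.structureModule X') :
    Nonempty (CohB1.tensorPow L d ≅ Coh.structureModule X) := by
  obtain ⟨G, hGdef⟩ : ∃ G : Γ((Scheme.Modules.pullback g).obj L, ⊤),
      G = ap e'.inv ⊤ (toM 1) := ⟨_, rfl⟩
  have hG : IsGen ((Scheme.Modules.pullback g).obj L) ⊤ G := by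
    rw [hGdef]
    exact isGen_of_iso e'.symm (isGen_one ⊤)
  refine nonempty_iso_of_unit_coefs hL (Frame.pow L d)
    (fun W hS e he => N.norm W (aC g hL G W hS e he)) ?_ ?_ ?_
  · intro W hS e he W' h
    show N.norm W' (aC g hL G W' (hS.mono h) (rF L h e) (he.res h)) = _
    rw [aC_res g hL G W hS e he h]
    exact (N.norm_res (homOfLE h) (aC g hL G W hS e he)).symm
  · intro W hS e he u he'
    show N.norm W (aC g hL G W hS e he) = N.norm W (aC g hL G W hS (u • e) he') * u ^ d
    rw [aC_change g hL G W hS e he u he', map_mul]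
    congr 1
    exact N.norm_app W u
  · intro W hS e he
    exact (isUnit_aC g hL G hG W hS e he).map (N.norm W)

end B

end Groth.Agent.NormPic
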