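import Mathlib
import Groth.Prelude
import Groth.Agent.Lib.NormSec2_helper8

/-!
# The norm of a section along a finite locally free morphism (helper8)
APPEND-ONLY once landed.
-/

set_option autoImplicit false

namespace NormSecH8

open AlgebraicGeometry CategoryTheory CategoryTheory.Limits TopologicalSpace Opposite TensorProduct
open QcqsLoc MonoidalCategory GenLocH8 FLFH8 QCohExtn TensH8 PBH8

universe u

variable {X' X : Scheme.{u}} (g : X' ⟶ X)

/-- The ring map on sections. -/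
noncomputable abbrev psi (W : X.Opens) : Γ(X, W) →+* Γ(X', g ⁻¹ᵁ W) := (g.app W).hom

theorem pre_mono {W W' : X.Opens} (h : W' ≤ W) : g ⁻¹ᵁ W' ≤ g ⁻¹ᵁ W := fun _ hz => h hz

theorem psi_rX {W W' : X.Opens} (h : W' ≤ W) (r : Γ(X, W)) :
    rX (X := X') (pre_mono g h) (psi g W r) = psi g W' (rX h r) := by
  have h1 := g.naturality (homOfLE h).op
  exact (congrArg (fun φ => φ.hom r) h1).symm

theorem isBasisFor_of_basisOn {W₀ : X.Opens} {d : ℕ} (t : Fin d → Γ(pushO g, W₀))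
    (O : X.Opens) (hO : O ≤ W₀) (h : BasisOn (pushO g) t O hO) :
    IsBasisFor (psi g O) (fun j => (rF (pushO g) hO (t j) : Γ(X', g ⁻¹ᵁ O))) := h

/-- The class of small opens: contained in an affine open over which `L` has a generator and
`g_* O` has a basis of `d` sections with `d ∣ D`. -/
def Small (L : X.Modules) (D : ℕ) (W : X.Opens) : Prop :=
  ∃ W₀ : X.Opens, W ≤ W₀ ∧ IsAffineOpen W₀ ∧ (∃ e₀ : Γ(L, W₀), IsGen L W₀ e₀) ∧
    ∃ (d : ℕ) (t : Fin d → Γ(pushO g, W₀)), d ∣ D ∧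
      ∀ (O : X.Opens) (hO : O ≤ W₀), BasisOn (pushO g) t O hO

variable {g}

theorem Small.mono {L : X.Modules} {D : ℕ} {W W' : X.Opens} (h : W' ≤ W)
    (hS : Small g L D W) : Small g L D W' := by
  obtain ⟨W₀, hW, rest⟩ := hS
  exact ⟨W₀, h.trans hW, rest⟩

theorem Small.exists_basis {L : X.Modules} {D : ℕ} {W : X.Opens} (hS : Small g L D W) :
    ∃ (d : ℕ) (b : Fin d → Γ(X', g ⁻¹ᵁ W)), d ∣ D ∧ IsBasisFor (psi g W) b ∧
      ∀ (W' : X.Opens) (hW' : W' ≤ W),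
        IsBasisFor (psi g W') (fun j => rX (X := X') (pre_mono g hW') (b j)) := by
  obtain ⟨W₀, hW, -, -, d, t, hd, ht⟩ := hS
  refine ⟨d, fun j => (rF (pushO g) hW (t j) : Γ(X', g ⁻¹ᵁ W)), hd,
    isBasisFor_of_basisOn g t W hW (ht W hW), fun W' hW' => ?_⟩
  have e : (fun j => rX (X := X') (pre_mono g hW') (rF (pushO g) hW (t j) : Γ(X', g ⁻¹ᵁ W))) =
      fun j => (rF (pushO g) (hW'.trans hW) (t j) : Γ(X', g ⁻¹ᵁ W')) := by
    funext j
    exact rF_rF (pushO g) hW' hW (t j)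
  rw [e]
  exact isBasisFor_of_basisOn g t W' (hW'.trans hW) (ht W' (hW'.trans hW))

theorem Small.exists_gen {L : X.Modules} {D : ℕ} {W : X.Opens} (hS : Small g L D W) :
    ∃ e : Γ(L, W), IsGen L W e := by
  obtain ⟨W₀, hW, -, ⟨e₀, he₀⟩, -⟩ := hS
  exact ⟨rF L hW e₀, he₀.res hW⟩

/-- The pullback of a generator over a small open is a generator. -/
theorem isGen_cUV_of_small {L : X.Modules} (hL : PicF.IsInvertible L) {D : ℕ} {W : X.Opens}
    (hS : Small g L D W) {e : Γ(L, W)} (he : IsGen L W e) :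
    IsGen ((Scheme.Modules.pullback g).obj L) (g ⁻¹ᵁ W)
      (cUV g L (le_rfl : g ⁻¹ᵁ W ≤ g ⁻¹ᵁ W) e) := by
  obtain ⟨W₀, hW, haff, ⟨e₀, he₀⟩, -⟩ := hS
  have h0 : IsGen L W (rF L hW e₀) := he₀.res hW
  obtain ⟨u, hu⟩ := h0.exists_coef e
  have hunit : IsUnit u := isUnit_of_isGen_smul h0 (hu ▸ he)
  rw [hu, cUV_smul_app]
  exact isGen_smul_of_isUnit (isGen_cUV_res g hL haff he₀ hW) (hunit.map (g.app W).hom)


section Coef

variable {L : X.Modules} (hL : PicF.IsInvertible L) {M' : X'.Modules} {k : ℕ}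
  (Φ' : Frame ((Scheme.Modules.pullback g).obj L) M' k) (σ' : Γ(M', ⊤)) {D : ℕ}

/-- The coefficient of `σ'` over `g⁻¹ W` with respect to the pulled back generator. -/
noncomputable def aCoef (W : X.Opens) (hS : Small g L D W) (e : Γ(L, W)) (he : IsGen L W e) :
    Γ(X', g ⁻¹ᵁ W) :=
  Φ'.coefOf σ' (g ⁻¹ᵁ W) le_top (cUV g L (le_rfl : g ⁻¹ᵁ W ≤ g ⁻¹ᵁ W) e)
    (isGen_cUV_of_small hL hS he)

theorem aCoef_spec (W : X.Opens) (hS : Small g L D W) (e : Γ(L, W)) (he : IsGen L W e) :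
    rF M' (le_top : g ⁻¹ᵁ W ≤ ⊤) σ' =
      aCoef hL Φ' σ' W hS e he • Φ'.φ (g ⁻¹ᵁ W) (cUV g L (le_rfl : g ⁻¹ᵁ W ≤ g ⁻¹ᵁ W) e) :=
  Φ'.coefOf_spec σ' _ _ _ _

theorem aCoef_unique (W : X.Opens) (hS : Small g L D W) (e : Γ(L, W)) (he : IsGen L W e)
    (c : Γ(X', g ⁻¹ᵁ W))
    (hc : rF M' (le_top : g ⁻¹ᵁ W ≤ ⊤) σ' =
      c • Φ'.φ (g ⁻¹ᵁ W) (cUV g L (le_rfl : g ⁻¹ᵁ W ≤ g ⁻¹ᵁ W) e)) :
    c = aCoef hL Φ' σ' W hS e he :=
  Φ'.coefOf_unique σ' _ _ _ _ c hc

theorem aCoef_res (W : X.Opens) (hS : Small g L D W) (e : Γ(L, W)) (he : IsGen L W e)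
    {W' : X.Opens} (h : W' ≤ W) :
    aCoef hL Φ' σ' W' (hS.mono h) (rF L h e) (he.res h) =
      rX (X := X') (pre_mono g h) (aCoef hL Φ' σ' W hS e he) := by
  symm
  apply aCoef_unique
  have h1 := aCoef_spec hL Φ' σ' W hS e he
  have h2 := congrArg (rF M' (pre_mono g h)) h1
  rw [rF_rF, rF_smul, Φ'.res, rF_cUV] at h2
  rw [cUV_resV]
  exact h2

theorem aCoef_change (W : X.Opens) (hS : Small g L D W) (e : Γ(L, W)) (he : IsGen L W e)
    (u : Γ(X, W)) (he' : IsGen L W (u • e)) :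
    aCoef hL Φ' σ' W hS e he = aCoef hL Φ' σ' W hS (u • e) he' * (psi g W u) ^ k := by
  symm
  apply aCoef_unique
  have h1 := aCoef_spec hL Φ' σ' W hS (u • e) he'
  rw [cUV_smul_app, Φ'.smul] at h1
  rw [mul_smul]
  exact h1

/-- The norm coefficient. -/
noncomputable def gam (W : X.Opens) (hS : Small g L D W) (e : Γ(L, W)) (he : IsGen L W e) :
    Γ(X, W) :=
  nrm (psi g W) (aCoef hL Φ' σ' W hS e he) ^ (D / rk (psi g W))

theorem rk_eq_of_le (W : X.Opens) (hS : Small g L D W) {W' : X.Opens} (h : W' ≤ W)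
    [Nontrivial Γ(X, W')] : rk (psi g W) = rk (psi g W') ∧ rk (psi g W) ∣ D := by
  haveI : Nontrivial Γ(X, W) := (rX h).domain_nontrivial
  obtain ⟨d, b, hd, hb, hb'⟩ := hS.exists_basis
  rw [rk_eq hb, rk_eq (hb' W' h)]
  exact ⟨rfl, hd⟩

theorem gam_res (W : X.Opens) (hS : Small g L D W) (e : Γ(L, W)) (he : IsGen L W e)
    {W' : X.Opens} (h : W' ≤ W) :
    gam hL Φ' σ' W' (hS.mono h) (rF L h e) (he.res h) = rX h (gam hL Φ' σ' W hS e he) := by
  rcases subsingleton_or_nontrivial Γ(X, W') with hsub | hnt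
  · exact Subsingleton.elim _ _
  · obtain ⟨d, b, hd, hb, hb'⟩ := hS.exists_basis
    unfold gam
    rw [map_pow, aCoef_res hL Φ' σ' W hS e he h, ← (rk_eq_of_le W hS h).1,
      nrm_comm_sq (psi g W) (psi g W') (rX h) (rX (X := X') (pre_mono g h)) (psi_rX g h) hb
        (hb' W' h)]

theorem gam_change (W : X.Opens) (hS : Small g L D W) (e : Γ(L, W)) (he : IsGen L W e)
    (u : Γ(X, W)) (he' : IsGen L W (u • e)) :
    gam hL Φ' σ' W hS e he = gam hL Φ' σ' W hS (u • e) he' * u ^ (k * D) := by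
  rcases subsingleton_or_nontrivial Γ(X, W) with hsub | hnt
  · exact Subsingleton.elim _ _
  · obtain ⟨d, b, hd, hb, hb'⟩ := hS.exists_basis
    unfold gam
    rw [aCoef_change hL Φ' σ' W hS e he u he', nrm_mul, nrm_pow, nrm_map hb, mul_pow, rk_eq hb,
      ← pow_mul, ← pow_mul]
    congr 2
    obtain ⟨c, rfl⟩ := hd
    rcases Nat.eq_zero_or_pos d with rfl | hdpos
    · simp
    · rw [Nat.mul_div_cancel_left c hdpos]
      ring

end Coef


section Locus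

/-- The set of points of `X` all of whose preimages lie in `O'`. -/
def locusDown (g : X' ⟶ X) (O' : X'.Opens) (hcl : IsClosedMap g.base) : X.Opens :=
  ⟨(g.base '' ((O' : Set X')ᶜ))ᶜ, (hcl _ O'.isOpen.isClosed_compl).isOpen_compl⟩

theorem mem_locusDown {O' : X'.Opens} {hcl : IsClosedMap g.base} {x : X} :
    x ∈ locusDown g O' hcl ↔ ∀ y : X', g.base y = x → y ∈ O' := by
  show x ∉ g.base '' ((O' : Set X')ᶜ) ↔ _
  constructor
  · intro h y hy
    by_contra hy'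
    exact h ⟨y, hy', hy⟩
  · rintro h ⟨y, hy', hy⟩
    exact hy' (h y hy)

theorem isUnit_rX_of_le_basicOpen {Z : Scheme.{u}} {W V : Z.Opens} (f : Γ(Z, W)) (hV : V ≤ W)
    (h : V ≤ Z.basicOpen f) : IsUnit (rX hV f) := by
  have h1 : IsUnit (rX (Z.basicOpen_le f) f) :=
    RingedSpace.isUnit_res_basicOpen Z.toRingedSpace f
  have h2 := h1.map (rX h)
  rwa [rX_rX] at h2

theorem le_basicOpen_of_isUnit_rX {Z : Scheme.{u}} {W V : Z.Opens} (f : Γ(Z, W)) (hV : V ≤ W)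
    (h : IsUnit (rX hV f)) : V ≤ Z.basicOpen f := by
  have h1 := basicOpen_rX hV f
  rw [Scheme.basicOpen_of_isUnit Z h] at h1
  exact h1 ▸ inf_le_right

variable {L : X.Modules} (hL : PicF.IsInvertible L) {M' : X'.Modules} {k : ℕ}
  (Φ' : Frame ((Scheme.Modules.pullback g).obj L) M' k) (σ' : Γ(M', ⊤)) {D : ℕ}

theorem nrm_locus (hcl : IsClosedMap g.base) (W : X.Opens) (hS : Small g L D W)
    (a : Γ(X', g ⁻¹ᵁ W)) (x : X) (hxW : x ∈ W) :
    x ∈ X.basicOpen (nrm (psi g W) a) ↔ ∀ y : X', g.base y = x → y ∈ X'.basicOpen a := by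
  obtain ⟨d, b, hd, hb, hb'⟩ := hS.exists_basis
  constructor
  · intro hx y hy
    have hW₁ : X.basicOpen (nrm (psi g W) a) ≤ W := X.basicOpen_le _
    have h1 : IsUnit (rX hW₁ (nrm (psi g W) a)) :=
      RingedSpace.isUnit_res_basicOpen X.toRingedSpace _
    rw [← nrm_comm_sq (psi g W) (psi g _) (rX hW₁) (rX (X := X') (pre_mono g hW₁)) (psi_rX g hW₁)
      hb (hb' _ hW₁), isUnit_nrm_iff (hb' _ hW₁)] at h1
    have h2 := le_basicOpen_of_isUnit_rX a (pre_mono g hW₁) h1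
    apply h2
    show g.base y ∈ X.basicOpen (nrm (psi g W) a)
    rw [hy]
    exact hx
  · intro h
    let T : Set X := g.base '' ((X'.basicOpen a : Set X')ᶜ)
    have hT : IsClosed T := hcl _ (X'.basicOpen a).isOpen.isClosed_compl
    have hxT : x ∉ T := by
      rintro ⟨y, hy', hy⟩
      exact hy' (h y hy)
    let W₁ : X.Opens := W ⊓ ⟨Tᶜ, hT.isOpen_compl⟩
    have hW₁ : W₁ ≤ W := inf_le_left
    have hxW₁ : x ∈ W₁ := ⟨hxW, hxT⟩
    have hle : g ⁻¹ᵁ W₁ ≤ X'.basicOpen a := by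
      intro y hy
      by_contra hy'
      exact hy.2 ⟨y, hy', rfl⟩
    have h1 : IsUnit (rX (X := X') (pre_mono g hW₁) a) :=
      isUnit_rX_of_le_basicOpen a (pre_mono g hW₁) hle
    rw [← isUnit_nrm_iff (hb' _ hW₁), nrm_comm_sq (psi g W) (psi g _) (rX hW₁)
      (rX (X := X') (pre_mono g hW₁)) (psi_rX g hW₁) hb (hb' _ hW₁)] at h1
    exact le_basicOpen_of_isUnit_rX _ hW₁ h1 hxW₁

theorem gam_locus {O' : X'.Opens} (hloc : HasLocus Φ' σ' O') (hD : 0 < D)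
    (hcl : IsClosedMap g.base) (W : X.Opens) (hS : Small g L D W) (e : Γ(L, W))
    (he : IsGen L W e) :
    locusDown g O' hcl ⊓ W = X.basicOpen (gam hL Φ' σ' W hS e he) := by
  have hB : O' ⊓ g ⁻¹ᵁ W = X'.basicOpen (aCoef hL Φ' σ' W hS e he) :=
    hloc (g ⁻¹ᵁ W) le_top _ (isGen_cUV_of_small hL hS he)
  have hpow : ∀ x ∈ W, X.basicOpen (gam hL Φ' σ' W hS e he) =
      X.basicOpen (nrm (psi g W) (aCoef hL Φ' σ' W hS e he)) := by
    intro x hx
    haveI : Nontrivial Γ(X, W) := (X.presheaf.germ W x hx).hom.domain_nontrivial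
    obtain ⟨-, hdvd⟩ := rk_eq_of_le W hS (le_refl W)
    unfold gam
    apply Scheme.basicOpen_pow
    exact Nat.div_pos (Nat.le_of_dvd hD hdvd) (Nat.pos_of_dvd_of_pos hdvd hD)
  ext x
  constructor
  · rintro ⟨hxO, hxW⟩
    show x ∈ X.basicOpen _
    rw [hpow x hxW, nrm_locus hcl W hS _ x hxW]
    intro y hy
    have h1 : y ∈ O' ⊓ g ⁻¹ᵁ W := ⟨mem_locusDown.1 hxO y hy, by show g.base y ∈ W; rw [hy]; exact hxW⟩
    rw [hB] at h1
    exact h1
  · intro hx
    have hxW : x ∈ W := X.basicOpen_le _ hx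
    have hx' : x ∈ X.basicOpen (gam hL Φ' σ' W hS e he) := hx
    rw [hpow x hxW, nrm_locus hcl W hS _ x hxW] at hx'
    refine ⟨mem_locusDown.2 (fun y hy => ?_), hxW⟩
    have h1 := hx' y hy
    rw [← hB] at h1
    exact h1.1

end Locus


section Main

variable {L : X.Modules} (hL : PicF.IsInvertible L) {M' : X'.Modules} {k : ℕ}
  (Φ' : Frame ((Scheme.Modules.pullback g).obj L) M' k) (σ' : Γ(M', ⊤)) {D : ℕ}

include hL in
/-- **The norm of a section.** Given a section `σ'` upstairs with locus `O'`, there is a section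
downstairs of any module framed with weight `k * D` whose locus is the set of points all of
whose preimages lie in `O'`. -/
theorem exists_norm_section {O' : X'.Opens} (hloc : HasLocus Φ' σ' O') (hD : 0 < D)
    (hcl : IsClosedMap g.base) (hcov : ∀ x : X, ∃ W : X.Opens, Small g L D W ∧ x ∈ W)
    {M : X.Modules} (Ψ : Frame L M (k * D)) :
    ∃ σ : Γ(M, ⊤), HasLocus Ψ σ (locusDown g O' hcl) := by
  obtain ⟨σ, hσ⟩ := exists_section_of_class Ψ ⊤ (Small g L D) (fun h hS => hS.mono h)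
    (fun x _ => by
      obtain ⟨W, hS, hxW⟩ := hcov x
      exact ⟨W, hS, hxW, le_top, hS.exists_gen⟩)
    (fun W _ hS e he => gam hL Φ' σ' W hS e he)
    (fun W _ hS e he W' h => gam_res hL Φ' σ' W hS e he h)
    (fun W _ hS e he u he' => gam_change hL Φ' σ' W hS e he u he')
  refine ⟨σ, hasLocus_of_class Ψ σ _ (Small g L D) (fun W x hxW => ?_) (fun W hW hS e he => ?_)⟩
  · obtain ⟨W₀, hS, hxW₀⟩ := hcov x
    exact ⟨W₀ ⊓ W, hS.mono inf_le_left, ⟨hxW₀, hxW⟩, inf_le_right⟩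
  · rw [← Ψ.coefOf_unique σ W hW e he _ (hσ W hW hS e he)]
    exact gam_locus hL Φ' σ' hloc hD hcl W hS e he

end Main

end NormSecH8
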