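import Mathlib
import Groth.Prelude
import Groth.Agent.Lib.NormSec3_helper8

/-!
# Descent of ampleness along finite locally free surjective morphisms (helper8)
APPEND-ONLY once landed.
-/

set_option autoImplicit false

namespace NormSecH8

open AlgebraicGeometry CategoryTheory CategoryTheory.Limits TopologicalSpace Opposite TensorProduct
open QcqsLoc MonoidalCategory GenLocH8 FLFH8 QCohExtn TensH8 PBH8

universe u

/-- A ring with an empty basis over another is trivial. -/
theorem subsingleton_of_isBasisFor_zero {A B : Type*} [CommRing A] [CommRing B] {ψ : A →+* B}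
    {b : Fin 0 → B} (hb : IsBasisFor ψ b) : Subsingleton B := by
  letI := ψ.toAlgebra
  have h1 : (⊤ : Submodule A B) = ⊥ := by
    rw [← hb.1, Set.range_eq_empty b, Submodule.span_empty]
  exact ⟨fun x y => by
    have hx : x ∈ (⊤ : Submodule A B) := Submodule.mem_top
    have hy : y ∈ (⊤ : Submodule A B) := Submodule.mem_top
    rw [h1, Submodule.mem_bot] at hx hy
    rw [hx, hy]⟩

variable {X' X : Scheme.{u}} (g : X' ⟶ X)

/-- Local data around a point: an affine open with a generator of `L` and a positive number of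
sections of `g_* O` restricting to bases. -/
theorem exists_small_data [Surjective g] (hfree : FlatMod.IsFinLocFree (pushO g))
    {L : X.Modules} (hL : PicF.IsInvertible L) (x : X) :
    ∃ (W₀ : X.Opens) (d : ℕ), IsAffineOpen W₀ ∧ x ∈ W₀ ∧ 0 < d ∧ (∃ e₀ : Γ(L, W₀), IsGen L W₀ e₀) ∧
      ∃ t : Fin d → Γ(pushO g, W₀), ∀ (O : X.Opens) (hO : O ≤ W₀), BasisOn (pushO g) t O hO := by
  obtain ⟨U, d, hxU, ⟨α⟩⟩ := hfree x
  obtain ⟨W₁, -, hxW₁, -, t, ht⟩ := exists_affine_bases (pushO g) hxU α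
  obtain ⟨W₀, haff, hxW₀, hW₀, e₀, he₀⟩ := exists_isGen_le hL x W₁ hxW₁
  refine ⟨W₀, d, haff, hxW₀, ?_, ⟨e₀, he₀⟩, fun j => rF (pushO g) hW₀ (t j),
    fun O hO => BasisOn.of_rF (pushO g) t hW₀ hO (ht O (hO.trans hW₀))⟩
  by_contra hd
  have hd0 : d = 0 := by omega
  subst hd0
  obtain ⟨y, hy⟩ := g.surjective x
  have hyW : y ∈ g ⁻¹ᵁ W₀ := by show g.base y ∈ W₀; rw [hy]; exact hxW₀
  haveI : Nontrivial Γ(X', g ⁻¹ᵁ W₀) := (X'.presheaf.germ _ y hyW).hom.domain_nontrivial
  have hb := isBasisFor_of_basisOn g t W₀ (hW₀) (ht W₀ hW₀)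
  haveI := subsingleton_of_isBasisFor_zero hb
  exact false_of_nontrivial_of_subsingleton Γ(X', g ⁻¹ᵁ W₀)


/-- **Descent of ampleness** along a finite surjective morphism with finite locally free direct
image of the structure sheaf. -/
theorem isAmple_of_pullback [IsFinite g] [Surjective g]
    (hfree : FlatMod.IsFinLocFree (pushO g)) [CompactSpace X] {L : X.Modules}
    (hL : PicF.IsInvertible L)
    (hL' : CohB1.IsAmple ((Scheme.Modules.pullback g).obj L)) : CohB1.IsAmple L := by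
  classical
  have hcl : IsClosedMap g.base := g.isClosedMap
  haveI : CompactSpace X' := QuasiCompact.compactSpace_of_compactSpace g
  -- finitely many small data
  choose W₀ d haff hxW₀ hdpos hgen ht using exists_small_data g hfree hL
  obtain ⟨T, hT⟩ := isCompact_univ.elim_finite_subcover (fun x : X => ((W₀ x : X.Opens) : Set X))
    (fun x => (W₀ x).isOpen) (fun y _ => Set.mem_iUnion.mpr ⟨y, hxW₀ y⟩)
  let D : ℕ := ∏ z ∈ T, d z
  have hD : 0 < D := Finset.prod_pos (fun z _ => hdpos z)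
  have hcov : ∀ x : X, ∃ W : X.Opens, Small g L D W ∧ x ∈ W := by
    intro x
    obtain ⟨z, hz⟩ := Set.mem_iUnion.mp (hT (Set.mem_univ x))
    obtain ⟨hzT, hxz⟩ := Set.mem_iUnion.mp hz
    obtain ⟨t, hbas⟩ := ht z
    exact ⟨W₀ z, ⟨W₀ z, le_rfl, haff z, hgen z, d z, t, Finset.dvd_prod_of_mem d hzT, hbas⟩, hxz⟩
  rw [isAmple_iff_isBasis hL, Opens.isBasis_iff_nbhd]
  intro U x hxU
  have hZ : (g ⁻¹' {x}).Finite := g.finite_preimage_singleton x
  have hZU : g ⁻¹' {x} ⊆ (g ⁻¹ᵁ U : X'.Opens) := by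
    intro y hy
    show g.base y ∈ U
    rw [show g.base y = x from hy]
    exact hxU
  obtain ⟨k, s', hZs', hs'U, -⟩ := exists_affine_genLocus_of_finite hL' _ hZ (g ⁻¹ᵁ U) hZU
  have hloc := hasLocus_val (Frame.pow ((Scheme.Modules.pullback g).obj L) (k + 1)) s' ⊤
  rw [inf_top_eq] at hloc
  have hn : (k + 1) * D - 1 + 1 = (k + 1) * D := Nat.sub_add_cancel (Nat.mul_pos (Nat.succ_pos k) hD)
  obtain ⟨σ, hσ⟩ := exists_norm_section hL _ _ hloc hD hcl hcov
    ((Frame.pow L ((k + 1) * D - 1 + 1)).cast hn)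
  have hgl := genLocus_homOfSec hL _ σ hσ
  refine ⟨_, ⟨(k + 1) * D - 1, homOfSec _ σ, rfl⟩, ?_, ?_⟩
  · rw [hgl]
    exact mem_locusDown.2 (fun y hy => hZs' hy)
  · rw [hgl]
    intro z hz
    obtain ⟨y, hy⟩ := g.surjective z
    have h1 : y ∈ CohB1.genLocus _ s' := mem_locusDown.1 hz y hy
    have h2 : y ∈ g ⁻¹ᵁ U := hs'U h1
    rw [← hy]
    exact h2

end NormSecH8
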