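import Mathlib
import Groth.Prelude
import Groth.Agent.Lib.NormPic1_helper5
import Groth.Agent.Lib.ThickPic2_helper5
import Groth.Agent.Lib.NormQAff_helper4
import Groth.Agent.Lib.NormSec4_helper8
import Groth.Agent.Lib.NegPow_helper5
import Groth.Agent.Lib.CocycMod2_helper5
import Groth.Agent.Lib.Tens15_helper8
import Groth.Agent.Lib.Tens32_helper8

/-!
# The norm of an ample invertible module along a finite morphism with a norm (helper5)
APPEND-ONLY once landed.

* `mem_basicOpen_norm_iff`: the non-vanishing locus of the norm of a function.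
* `exists_uniform_power`: a power of an ample module is trivial near every fibre of a finite morphism.
* `exists_ample_of_norm`: if `π : X ⟶ Y` is finite with a norm of degree `d` and `X` carries an
  ample invertible module, then so does `Y`.
-/

set_option autoImplicit false

namespace Groth.Agent.NormAmple

open AlgebraicGeometry CategoryTheory CategoryTheory.Limits TopologicalSpace Opposite
open QcqsLoc GenLocH8 FLFH8 QCohExtn TensH8
open NormSecH8 (locusDown mem_locusDown isUnit_rX_of_le_basicOpen le_basicOpen_of_isUnit_rX)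
open Groth.Agent.NormPic (pre_mono)

universe u

variable {X Y : Scheme.{u}} (π : X ⟶ Y) {d : ℕ} (nm : Nrm.NormOfDegree π d)

/-- compatibility of the norm with restriction. -/
theorem norm_rX {U V : Y.Opens} (h : V ≤ U) (a : Γ(X, π ⁻¹ᵁ U)) :
    rX h (nm.norm U a) = nm.norm V (rX (X := X) (pre_mono π h) a) :=
  nm.norm_res (homOfLE h) a

/-- a point where the norm of `a` does not vanish has all its preimages in `D(a)`. -/
theorem mem_basicOpen_of_norm (V : Y.Opens) (a : Γ(X, π ⁻¹ᵁ V)) (x : X)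
    (hx : π.base x ∈ Y.basicOpen (nm.norm V a)) : x ∈ X.basicOpen a := by
  have hxV : π.base x ∈ V := Y.basicOpen_le _ hx
  by_contra hxa
  have hnu : ¬ IsUnit ((X.presheaf.germ (π ⁻¹ᵁ V) x hxV) a) := fun hu =>
    hxa ((X.mem_basicOpen a x hxV).mpr hu)
  have hmem := nm.norm_mem V a x hxV ((IsLocalRing.mem_maximalIdeal _).mpr hnu)
  have hnu' := (IsLocalRing.mem_maximalIdeal _).mp hmem
  exact hnu' ((Y.mem_basicOpen (nm.norm V a) (π.base x) hxV).mp hx)

/-- a point all of whose preimages lie in `D(a)` lies in `D(Nm a)`. -/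
theorem mem_basicOpen_norm (hcl : IsClosedMap π.base) (V : Y.Opens) (a : Γ(X, π ⁻¹ᵁ V)) (y : Y)
    (hyV : y ∈ V) (h : ∀ x : X, π.base x = y → x ∈ X.basicOpen a) :
    y ∈ Y.basicOpen (nm.norm V a) := by
  let V' : Y.Opens := V ⊓ locusDown π (X.basicOpen a) hcl
  have hV' : V' ≤ V := inf_le_left
  have hyV' : y ∈ V' := ⟨hyV, mem_locusDown.2 h⟩
  have hle : π ⁻¹ᵁ V' ≤ X.basicOpen a := by
    intro x hx
    exact mem_locusDown.1 hx.2 x rfl
  have h1 : IsUnit (rX (X := X) (pre_mono π hV') a) :=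
    isUnit_rX_of_le_basicOpen a (pre_mono π hV') hle
  have h2 : IsUnit (rX hV' (nm.norm V a)) := by
    rw [norm_rX]
    exact h1.map (nm.norm V')
  exact le_basicOpen_of_isUnit_rX _ hV' h2 hyV'

/-- A power of an ample module is trivial near every fibre of a finite surjective morphism, with
an exponent independent of the fibre. -/
theorem exists_uniform_power [IsFinite π] (hsurj : Function.Surjective π) {L : X.Modules}
    (hL : CohB1.IsAmple L) :
    ∃ K : ℕ, 0 < K ∧ ∀ y : Y, ∃ V : Y.Opens, y ∈ V ∧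
      ∃ e : Γ(CohB1.tensorPow L K, π ⁻¹ᵁ V), IsGen (CohB1.tensorPow L K) (π ⁻¹ᵁ V) e := by
  classical
  obtain ⟨hLinv, hc, -⟩ := id hL
  haveI := hc
  haveI : CompactSpace Y := hsurj.compactSpace π.continuous
  have hcl : IsClosedMap π.base := π.isClosedMap
  have key : ∀ y : Y, ∃ (k : ℕ) (V : Y.Opens), y ∈ V ∧
      ∃ e : Γ(CohB1.tensorPow L (k + 1), π ⁻¹ᵁ V), IsGen (CohB1.tensorPow L (k + 1)) (π ⁻¹ᵁ V) e := by
    intro y
    have hZ : (π ⁻¹' {y}).Finite := π.finite_preimage_singleton y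
    obtain ⟨k, s, hZs, -, -⟩ := exists_affine_genLocus_of_finite hL (π ⁻¹' {y}) hZ ⊤
      (fun _ _ => trivial)
    refine ⟨k, locusDown π (CohB1.genLocus _ s) hcl, mem_locusDown.2 (fun x hx => hZs hx), _,
      isGen_val_of_le_genLocus s (O := π ⁻¹ᵁ locusDown π (CohB1.genLocus _ s) hcl)
        (fun x hx => (mem_locusDown (g := π) (O' := CohB1.genLocus _ s) (hcl := hcl)).1 hx x rfl)⟩
  choose k V hyV e he using key
  obtain ⟨T, hT⟩ := isCompact_univ.elim_finite_subcover (fun y : Y => ((V y : Y.Opens) : Set Y))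
    (fun y => (V y).isOpen) (fun y _ => Set.mem_iUnion.mpr ⟨y, hyV y⟩)
  refine ⟨∏ z ∈ T, (k z + 1), Finset.prod_pos (fun z _ => Nat.succ_pos _), fun y => ?_⟩
  obtain ⟨z, hz⟩ := Set.mem_iUnion.mp (hT (Set.mem_univ y))
  obtain ⟨hzT, hyz⟩ := Set.mem_iUnion.mp hz
  obtain ⟨m, hm⟩ : (k z + 1) ∣ ∏ z ∈ T, (k z + 1) :=
    Finset.dvd_prod_of_mem (fun z => k z + 1) hzT
  rw [hm]
  obtain ⟨α⟩ := Groth.Agent.NegPow.tensorPow_mul L (k z + 1) m
  exact ⟨V z, hyz, _, TensH8.isGen_of_iso α (isGen_lpow (he z) m)⟩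

include nm in
/-- **The norm of an ample module is ample**: if `π : X ⟶ Y` is finite with a norm of degree `d`
and `X` carries an ample invertible module, then so does `Y`. -/
theorem exists_ample_of_norm [IsFinite π] {L : X.Modules} (hL : CohB1.IsAmple L) :
    ∃ N : Y.Modules, CohB1.IsAmple N := by
  classical
  have hsurj : Function.Surjective π := Groth.Agent.Lib.NormQAffH4.surjective_of_norm π d nm
  obtain ⟨hLinv, hc, -⟩ := id hL
  haveI := hc
  haveI : CompactSpace Y := hsurj.compactSpace π.continuous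
  have hcl : IsClosedMap π.base := π.isClosedMap
  obtain ⟨K, hK, hloc⟩ := exists_uniform_power π hsurj hL
  obtain ⟨L', hL'def⟩ : ∃ L' : X.Modules, L' = CohB1.tensorPow L K := ⟨_, rfl⟩
  have hL'inv : PicF.IsInvertible L' := hL'def ▸ isInvertible_tensorPow hLinv K
  have hL' : CohB1.IsAmple L' := hL'def ▸ (isAmple_iff_of_frame hLinv hK (Frame.pow L K)).mp hL
  rw [← hL'def] at hloc
  choose V hyV e he using hloc
  -- opens upstairs
  let U : Y → X.Opens := fun y => π ⁻¹ᵁ V y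
  -- transitions
  have hg := fun p q => Groth.Agent.ThickPic.exists_transition (N := L') (U := U) (e := e) he p q
  choose g ginv hgg hg using hg
  let gu : ∀ p q : Y, (Γ(X, U p ⊓ U q))ˣ :=
    fun p q => Units.mkOfMulEqOne (g p q) (ginv p q) (hgg p q)
  let η : ∀ p q : Y, (Γ(Y, V p ⊓ V q))ˣ :=
    fun p q => Units.map (nm.norm (V p ⊓ V q)) (gu p q)
  have hcoc : Groth.Agent.CocycMod.Cocycle V η := by
    intro p q r
    show rX (inf_le_inf_right (V r) inf_le_left : V p ⊓ V q ⊓ V r ≤ V p ⊓ V r)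
        (nm.norm (V p ⊓ V r) (g p r)) =
      rX (inf_le_left : V p ⊓ V q ⊓ V r ≤ V p ⊓ V q) (nm.norm (V p ⊓ V q) (g p q)) *
        rX (inf_le_inf_right (V r) inf_le_right : V p ⊓ V q ⊓ V r ≤ V q ⊓ V r)
          (nm.norm (V q ⊓ V r) (g q r))
    rw [norm_rX, norm_rX, norm_rX, ← map_mul]
    congr 1
    exact Groth.Agent.ThickPic.transition_cocycle he hg p q r (T := U p ⊓ U q ⊓ U r)
      ((inf_le_left : U p ⊓ U q ⊓ U r ≤ U p ⊓ U q).trans inf_le_left)
      ((inf_le_left : U p ⊓ U q ⊓ U r ≤ U p ⊓ U q).trans inf_le_right) inf_le_right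
  have hVtop : iSup V = ⊤ := eq_top_iff.mpr (fun y _ => Opens.mem_iSup.mpr ⟨y, hyV y⟩)
  let N : Y.Modules := Groth.Agent.CocycMod.L V η id hyV hcoc
  have hN : PicF.IsInvertible N := Groth.Agent.CocycMod.isInvertible_L V η id hyV hcoc hVtop
  let ε : ∀ p, Γ(N, V p) := fun p => Groth.Agent.CocycMod.sec V η id hyV hcoc p
  have hε : ∀ p, IsGen N (V p) (ε p) := fun p => Groth.Agent.CocycMod.isGen_sec V η id hyV hcoc p
  have hεt : ∀ p q, rF N (inf_le_left : V p ⊓ V q ≤ V p) (ε p) =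
      nm.norm (V p ⊓ V q) (g p q) • rF N (inf_le_right : V p ⊓ V q ≤ V q) (ε q) :=
    fun p q => Groth.Agent.CocycMod.rF_sec V η id hyV hcoc p q
  refine ⟨N, (isAmple_iff_isBasis hN).mpr ?_⟩
  rw [Opens.isBasis_iff_nbhd]
  intro W y hyW
  have hZ : (π ⁻¹' {y}).Finite := π.finite_preimage_singleton y
  have hZW : π ⁻¹' {y} ⊆ (π ⁻¹ᵁ W : X.Opens) := by
    intro x hx
    show π.base x ∈ W
    rw [show π.base x = y from hx]
    exact hyW
  obtain ⟨n, s, hZs, hsW, -⟩ := exists_affine_genLocus_of_finite hL' _ hZ (π ⁻¹ᵁ W) hZW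
  -- coefficients
  let a : ∀ p : Y, Γ(X, U p) := fun p => (Frame.pow L' (n + 1)).coefHom s (U p) (e p) (he p)
  have ha : ∀ p, SecTwist.val s (U p) = a p • (Frame.pow L' (n + 1)).φ (U p) (e p) :=
    fun p => (Frame.pow L' (n + 1)).coefHom_spec s (U p) (e p) (he p)
  have hloc_s : ∀ p, CohB1.genLocus _ s ⊓ U p = X.basicOpen (a p) :=
    fun p => genLocus_inf_eq s ((Frame.pow L' (n + 1)).isGen (he p)) (a p) (ha p)
  -- relation between coefficients
  have hrel : ∀ p q, rX (inf_le_right : U p ⊓ U q ≤ U q) (a q) =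
      rX (inf_le_left : U p ⊓ U q ≤ U p) (a p) * g p q ^ (n + 1) := by
    intro p q
    apply IsGen.coef_ext ((Frame.pow L' (n + 1)).isGen
      ((he q).res (inf_le_right : U p ⊓ U q ≤ U q)))
    have e1 := congrArg (rF (CohB1.tensorPow L' (n + 1)) (inf_le_left : U p ⊓ U q ≤ U p)) (ha p)
    have e2 := congrArg (rF (CohB1.tensorPow L' (n + 1)) (inf_le_right : U p ⊓ U q ≤ U q)) (ha q)
    rw [rF_val, rF_smul, (Frame.pow L' (n + 1)).res] at e1 e2
    rw [hg p q, (Frame.pow L' (n + 1)).smul, ← mul_smul] at e1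
    rw [← e2, ← e1]
  -- the norm section
  have hcompat : ∀ p q, rF (CohB1.tensorPow N (n + 1)) (inf_le_left : V p ⊓ V q ≤ V p)
        (nm.norm (V p) (a p) • (Frame.pow N (n + 1)).φ (V p) (ε p)) =
      rF (CohB1.tensorPow N (n + 1)) (inf_le_right : V p ⊓ V q ≤ V q)
        (nm.norm (V q) (a q) • (Frame.pow N (n + 1)).φ (V q) (ε q)) := by
    intro p q
    rw [rF_smul, rF_smul, (Frame.pow N (n + 1)).res, (Frame.pow N (n + 1)).res, hεt p q,
      (Frame.pow N (n + 1)).smul, norm_rX, norm_rX, ← mul_smul, ← map_pow, ← map_mul]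
    congr 2
    exact (hrel p q).symm
  obtain ⟨σ, hσ⟩ := glue (CohB1.tensorPow N (n + 1)) V ⊤ (fun _ => le_top)
    (hVtop ▸ le_rfl) (fun p => nm.norm (V p) (a p) • (Frame.pow N (n + 1)).φ (V p) (ε p)) hcompat
  obtain ⟨t, htdef⟩ : ∃ t : Coh.structureModule Y ⟶ CohB1.tensorPow N (n + 1),
      t = homOfSec (CohB1.tensorPow N (n + 1)) σ := ⟨_, rfl⟩
  have hloc_t : ∀ p, CohB1.genLocus _ t ⊓ V p = Y.basicOpen (nm.norm (V p) (a p)) :=
    fun p => genLocus_inf_eq t ((Frame.pow N (n + 1)).isGen (hε p)) _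
      (by rw [htdef, val_homOfSec]; exact hσ p)
  refine ⟨CohB1.genLocus _ t, ⟨n, t, rfl⟩, ?_, ?_⟩
  · have h1 : y ∈ Y.basicOpen (nm.norm (V y) (a y)) :=
      mem_basicOpen_norm π nm hcl (V y) (a y) y (hyV y) (fun x hx => by
        have h2 : x ∈ CohB1.genLocus _ s ⊓ U y :=
          ⟨hZs hx, by show π.base x ∈ V y; rw [hx]; exact hyV y⟩
        rw [hloc_s y] at h2
        exact h2)
    rw [← hloc_t y] at h1
    exact h1.1
  · intro z hz
    obtain ⟨x, rfl⟩ := hsurj z
    have h1 : π.base x ∈ CohB1.genLocus _ t ⊓ V (π.base x) := ⟨hz, hyV _⟩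
    rw [hloc_t] at h1
    have h2 := mem_basicOpen_of_norm π nm _ _ x h1
    rw [← hloc_s] at h2
    exact hsW h2.1

end Groth.Agent.NormAmple
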