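import Mathlib
import Groth.Prelude
import Groth.Agent.Lib.Tens33_helper8
import Groth.Agent.Lib.Tens26_helper8

/-!
# Finite sets of points and loci of sections for modules ample on an open (helper6)
APPEND-ONLY once landed.
-/

set_option autoImplicit false
set_option linter.all false

namespace Groth.Agent.Lib.NormBunH6

open AlgebraicGeometry CategoryTheory CategoryTheory.Limits TopologicalSpace Opposite
open QcqsLoc GenLocH8 FLFH8 QCohExtn TensH8

universe u

variable {X : Scheme.{u}}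

/-- auxiliary form of `exists_hasLocus_of_finite` for opens of the form `j ''ᵁ ⊤`. -/
theorem exists_hasLocus_of_finite_aux {L : X.Modules} (hL : PicF.IsInvertible L) (V : X.Opens)
    (h : IsAmpleOn L (V.ι ''ᵁ ⊤)) (Z : Set X) (hZ : Z.Finite) (U : X.Opens) (hZU : Z ⊆ U)
    (hUV : U ≤ V.ι ''ᵁ ⊤) :
    ∃ (n : ℕ) (σ : Γ(CohB1.tensorPow L (n + 1), V.ι ''ᵁ ⊤)) (O : X.Opens),
      IsAffineOpen O ∧ Z ⊆ O ∧ O ≤ U ∧ HasLocus (Frame.pow L (n + 1)) σ O := by
  have hL' := isInvertible_restrict V.ι hL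
  have h1 : CohB1.IsAmple (L.restrict V.ι) := by
    rw [isAmple_iff_isAmpleOn_top hL', isAmpleOn_restrict_iff V.ι hL]
    exact h
  haveI : CompactSpace V.toScheme := h1.2.1
  have hZ' : (V.ι ⁻¹' Z).Finite := hZ.preimage (V.ι.isOpenEmbedding.injective.injOn)
  obtain ⟨n, s, hZs, hsU, haff⟩ := exists_affine_genLocus_of_finite h1 (V.ι ⁻¹' Z) hZ'
    (V.ι ⁻¹ᵁ U) (fun z hz => hZU hz)
  have hl1 := hasLocus_val (Frame.pow (L.restrict V.ι) (n + 1)) s ⊤
  rw [inf_top_eq] at hl1
  obtain ⟨σ'', hloc''⟩ := hl1.change_frame hL' (Frame.pow (L.restrict V.ι) (n + 1))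
    ((Frame.pow L (n + 1)).restrict V.ι) _
  refine ⟨n, σ'', V.ι ''ᵁ (CohB1.genLocus _ s), haff.image_of_isOpenImmersion V.ι, ?_, ?_,
    (hasLocus_restrict_iff V.ι (Frame.pow L (n + 1)) σ'' _).mp hloc''⟩
  · intro z hz
    obtain ⟨z', hz', rfl⟩ := hUV (hZU hz)
    exact ⟨z', hZs hz, rfl⟩
  · rintro _ ⟨z', hz', rfl⟩
    exact hsU hz'

/-- For a module ample on an open `V`, every finite set of points contained in an open `U ≤ V` has
an affine neighbourhood inside `U` which is the locus of a section over `V` of a power. -/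
theorem exists_hasLocus_of_finite {L : X.Modules} (hL : PicF.IsInvertible L) (V : X.Opens)
    (h : IsAmpleOn L V) (Z : Set X) (hZ : Z.Finite) (U : X.Opens) (hZU : Z ⊆ U) (hUV : U ≤ V) :
    ∃ (n : ℕ) (σ : Γ(CohB1.tensorPow L (n + 1), V)) (O : X.Opens),
      IsAffineOpen O ∧ Z ⊆ O ∧ O ≤ U ∧ HasLocus (Frame.pow L (n + 1)) σ O := by
  have key := exists_hasLocus_of_finite_aux hL V
  rw [Scheme.Hom.image_top_eq_opensRange, Scheme.Opens.opensRange_ι] at key
  exact key h Z hZ U hZU hUV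

end Groth.Agent.Lib.NormBunH6
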