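import Mathlib
import Groth.Prelude
import Groth.Agent.Lib.NormBun1_helper6
import Groth.Agent.Lib.NormAmple1_helper5

/-!
# The norm of an invertible module along a finite morphism with a norm, and its ampleness (helper6)
APPEND-ONLY once landed.

* `isAmpleOn_of_norm_data`: ampleness on an open of a module downstairs whose transition functions
  are the norms of those of a module upstairs.
* `exists_isGen_preimage`: invertible modules upstairs are trivial over preimages of small opens.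
* `exists_norm_bundle`: the norm of an invertible module, ample wherever the module is.
-/

set_option autoImplicit false
set_option linter.all false

namespace Groth.Agent.Lib.NormBunH6

open AlgebraicGeometry CategoryTheory CategoryTheory.Limits TopologicalSpace Opposite
open QcqsLoc GenLocH8 FLFH8 QCohExtn TensH8
open NormSecH8 (locusDown mem_locusDown isUnit_rX_of_le_basicOpen le_basicOpen_of_isUnit_rX)
open Groth.Agent.NormPic (pre_mono)

universe u

variable {X' X : Scheme.{u}} (π : X' ⟶ X) (nm : FlatNormH4.WeakNorm π)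

theorem norm_rX {U V : X.Opens} (h : V ≤ U) (a : Γ(X', π ⁻¹ᵁ U)) :
    rX h (nm.norm U a) = nm.norm V (rX (X := X') (pre_mono π h) a) :=
  nm.norm_res (homOfLE h) a

/-- a point where the norm of `a` does not vanish has all its preimages in `D(a)`. -/
theorem mem_basicOpen_of_norm (V : X.Opens) (a : Γ(X', π ⁻¹ᵁ V)) (x : X')
    (hx : π.base x ∈ X.basicOpen (nm.norm V a)) : x ∈ X'.basicOpen a := by
  have hxV : π.base x ∈ V := X.basicOpen_le _ hx
  by_contra hxa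
  have hnu : ¬ IsUnit ((X'.presheaf.germ (π ⁻¹ᵁ V) x hxV) a) := fun hu =>
    hxa ((X'.mem_basicOpen a x hxV).mpr hu)
  have hmem := nm.norm_mem V a x hxV ((IsLocalRing.mem_maximalIdeal _).mpr hnu)
  have hnu' := (IsLocalRing.mem_maximalIdeal _).mp hmem
  exact hnu' ((X.mem_basicOpen (nm.norm V a) (π.base x) hxV).mp hx)

/-- a point all of whose preimages lie in `D(a)` lies in `D(Nm a)`. -/
theorem mem_basicOpen_norm (hcl : IsClosedMap π.base) (V : X.Opens) (a : Γ(X', π ⁻¹ᵁ V)) (y : X)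
    (hyV : y ∈ V) (h : ∀ x : X', π.base x = y → x ∈ X'.basicOpen a) :
    y ∈ X.basicOpen (nm.norm V a) := by
  let V' : X.Opens := V ⊓ locusDown π (X'.basicOpen a) hcl
  have hV' : V' ≤ V := inf_le_left
  have hyV' : y ∈ V' := ⟨hyV, mem_locusDown.2 h⟩
  have hle : π ⁻¹ᵁ V' ≤ X'.basicOpen a := by
    intro x hx
    exact mem_locusDown.1 hx.2 x rfl
  have h1 : IsUnit (rX (X := X') (pre_mono π hV') a) :=
    isUnit_rX_of_le_basicOpen a (pre_mono π hV') hle
  have h2 : IsUnit (rX hV' (nm.norm V a)) := by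
    rw [norm_rX]
    exact h1.map (nm.norm V')
  exact le_basicOpen_of_isUnit_rX _ hV' h2 hyV'

/-- **Ampleness of a norm bundle on an open**, from trivialisation data. -/
theorem isAmpleOn_of_norm_data [IsFinite π] (hsurj : Function.Surjective π.base)
    {L' : X'.Modules} (hL' : PicF.IsInvertible L') {N : X.Modules} (hN : PicF.IsInvertible N)
    (T : X.Opens) {ι : Type u} (V : ι → X.Opens) (hVT : ∀ p, V p ≤ T)
    (hcov : ∀ y ∈ T, ∃ p, y ∈ V p)
    (e : ∀ p, Γ(L', π ⁻¹ᵁ V p)) (he : ∀ p, IsGen L' (π ⁻¹ᵁ V p) (e p))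
    (ε : ∀ p, Γ(N, V p)) (hε : ∀ p, IsGen N (V p) (ε p))
    (g : ∀ p q, Γ(X', π ⁻¹ᵁ V p ⊓ π ⁻¹ᵁ V q))
    (hg : ∀ p q, rF L' (inf_le_left : π ⁻¹ᵁ V p ⊓ π ⁻¹ᵁ V q ≤ π ⁻¹ᵁ V p) (e p) =
      g p q • rF L' (inf_le_right : π ⁻¹ᵁ V p ⊓ π ⁻¹ᵁ V q ≤ π ⁻¹ᵁ V q) (e q))
    (hεt : ∀ p q, rF N (inf_le_left : V p ⊓ V q ≤ V p) (ε p) =
      nm.norm (V p ⊓ V q) (g p q) • rF N (inf_le_right : V p ⊓ V q ≤ V q) (ε q))
    (hamp : IsAmpleOn L' (π ⁻¹ᵁ T)) : IsAmpleOn N T := by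
  classical
  have hcl : IsClosedMap π.base := π.isClosedMap
  have hTc : IsCompact (T : Set X) := by
    have h1 := hamp.1.image π.continuous
    have h2 : π.base '' ((π ⁻¹ᵁ T : X'.Opens) : Set X') = (T : Set X) :=
      Set.image_preimage_eq _ hsurj
    rwa [h2] at h1
  refine ⟨hTc, fun y hyT => ?_⟩
  obtain ⟨p₀, hyp₀⟩ := hcov y hyT
  obtain ⟨B, hB, hyB, hBle⟩ := exists_isAffineOpen_mem_and_subset (x := y) (U := V p₀) hyp₀
  have hZ : (π.base ⁻¹' {y}).Finite := π.finite_preimage_singleton y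
  have hZB : π.base ⁻¹' {y} ⊆ ((π ⁻¹ᵁ B : X'.Opens) : Set X') := by
    intro x hx
    show π.base x ∈ B
    rw [show π.base x = y from hx]
    exact hyB
  obtain ⟨n, s, O', hO'aff, hZO', hO'B, hloc⟩ := exists_hasLocus_of_finite hL' (π ⁻¹ᵁ T) hamp _ hZ
    (π ⁻¹ᵁ B) hZB (pre_mono π (hBle.trans (hVT p₀)))
  -- coefficients
  let U : ι → X'.Opens := fun p => π ⁻¹ᵁ V p
  have hUT : ∀ p, U p ≤ π ⁻¹ᵁ T := fun p => pre_mono π (hVT p)
  let a : ∀ p, Γ(X', U p) := fun p => (Frame.pow L' (n + 1)).coefOf s (U p) (hUT p) (e p) (he p)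
  have ha : ∀ p, rF (CohB1.tensorPow L' (n + 1)) (hUT p) s =
      a p • (Frame.pow L' (n + 1)).φ (U p) (e p) :=
    fun p => (Frame.pow L' (n + 1)).coefOf_spec s (U p) (hUT p) (e p) (he p)
  have hloc_s : ∀ p, O' ⊓ U p = X'.basicOpen (a p) := fun p => hloc (U p) (hUT p) (e p) (he p)
  have hrel : ∀ p q, rX (inf_le_right : U p ⊓ U q ≤ U q) (a q) =
      rX (inf_le_left : U p ⊓ U q ≤ U p) (a p) * g p q ^ (n + 1) := by
    intro p q
    apply IsGen.coef_ext ((Frame.pow L' (n + 1)).isGen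
      ((he q).res (inf_le_right : U p ⊓ U q ≤ U q)))
    have e1 := congrArg (rF (CohB1.tensorPow L' (n + 1)) (inf_le_left : U p ⊓ U q ≤ U p)) (ha p)
    have e2 := congrArg (rF (CohB1.tensorPow L' (n + 1)) (inf_le_right : U p ⊓ U q ≤ U q)) (ha q)
    rw [rF_rF, rF_smul, (Frame.pow L' (n + 1)).res] at e1 e2
    rw [hg p q, (Frame.pow L' (n + 1)).smul, ← mul_smul] at e1
    rw [← e2, ← e1]
  -- the norm section
  have hcompat : ∀ p q, rF (CohB1.tensorPow N (n + 1)) (inf_le_left : V p ⊓ V q ≤ V p)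
        (nm.norm (V p) (a p) • (Frame.pow N (n + 1)).φ (V p) (ε p)) =
      rF (CohB1.tensorPow N (n + 1)) (inf_le_right : V p ⊓ V q ≤ V q)
        (nm.norm (V q) (a q) • (Frame.pow N (n + 1)).φ (V q) (ε q)) := by
    intro p q
    rw [rF_smul, rF_smul, (Frame.pow N (n + 1)).res, (Frame.pow N (n + 1)).res, hεt p q,
      (Frame.pow N (n + 1)).smul, norm_rX, norm_rX, ← mul_smul, ← map_pow, ← map_mul]
    congr 2
    exact (hrel p q).symm
  have hTcov : T ≤ ⨆ p, V p := fun z hz => by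
    obtain ⟨p, hp⟩ := hcov z hz
    exact Opens.mem_iSup.mpr ⟨p, hp⟩
  obtain ⟨σ, hσ⟩ := glue (CohB1.tensorPow N (n + 1)) V T hVT hTcov
    (fun p => nm.norm (V p) (a p) • (Frame.pow N (n + 1)).φ (V p) (ε p)) hcompat
  obtain ⟨O, hOT, hOloc⟩ := exists_hasLocus (Frame.pow N (n + 1)) σ
  have hloc_t : ∀ p, O ⊓ V p = X.basicOpen (nm.norm (V p) (a p)) := by
    intro p
    rw [hOloc (V p) (hVT p) (ε p) (hε p)]
    congr 1
    exact ((Frame.pow N (n + 1)).coefOf_unique σ (V p) (hVT p) (ε p) (hε p) _ (hσ p)).symm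
  -- the locus contains `y`
  have hyO : y ∈ O := by
    have h1 : y ∈ X.basicOpen (nm.norm (V p₀) (a p₀)) :=
      mem_basicOpen_norm π nm hcl (V p₀) (a p₀) y hyp₀ (fun x hx => by
        have h2 : x ∈ O' ⊓ U p₀ :=
          ⟨hZO' hx, by show π.base x ∈ V p₀; rw [hx]; exact hyp₀⟩
        rw [hloc_s p₀] at h2
        exact h2)
    rw [← hloc_t p₀] at h1
    exact h1.1
  -- the locus is contained in `B`
  have hOB : O ≤ B := by
    intro z hz
    obtain ⟨q, hzq⟩ := hcov z (hOT hz)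
    obtain ⟨x, rfl⟩ := hsurj z
    have h1 : π.base x ∈ O ⊓ V q := ⟨hz, hzq⟩
    rw [hloc_t] at h1
    have h2 := mem_basicOpen_of_norm π nm _ _ x h1
    rw [← hloc_s] at h2
    exact hO'B h2.1
  -- the locus is affine
  have hOaff : IsAffineOpen O := by
    have h1 : O = X.basicOpen (rX hBle (nm.norm (V p₀) (a p₀))) := by
      rw [basicOpen_rX, ← hloc_t p₀]
      apply le_antisymm
      · intro z hz
        exact ⟨hOB hz, hz, hBle (hOB hz)⟩
      · intro z hz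
        exact hz.2.1
    rw [h1]
    exact hB.basicOpen _
  exact ⟨n, σ, O, hOaff, hyO, hOT, hOloc⟩

/-- An invertible module upstairs of a finite morphism is trivial over the preimage of a small
neighbourhood of any given point downstairs. -/
theorem exists_isGen_preimage [IsFinite π] {L' : X'.Modules} (hL' : PicF.IsInvertible L') (x : X) :
    ∃ V : X.Opens, x ∈ V ∧ ∃ e : Γ(L', π ⁻¹ᵁ V), IsGen L' (π ⁻¹ᵁ V) e := by
  have hcl : IsClosedMap π.base := π.isClosedMap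
  obtain ⟨W₀, hW₀, hxW₀, -⟩ := exists_isAffineOpen_mem_and_subset (x := x) (U := ⊤) trivial
  obtain ⟨W', hW'def⟩ : ∃ W' : X'.Opens, W' = π ⁻¹ᵁ W₀ := ⟨_, rfl⟩
  have hW' : IsAffineOpen W' := hW'def ▸ hW₀.preimage π
  haveI : IsAffine W'.toScheme := hW'
  have hL'' := isInvertible_restrict W'.ι hL'
  have hE : (W'.ι.base ⁻¹' (π.base ⁻¹' {x})).Finite :=
    (π.finite_preimage_singleton x).preimage (W'.ι.isOpenEmbedding.injective.injOn)
  obtain ⟨s, -, hEs, -⟩ := exists_affine_genLocus_of_finite_of_isQuasiAffine hL'' ⊤ _ hE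
    (fun _ _ => trivial)
  obtain ⟨O'', hO''def⟩ : ∃ O'' : W'.toScheme.Opens, O'' = CohB1.genLocus _ s := ⟨_, rfl⟩
  have hgen : IsGen (L'.restrict W'.ι) O'' (SecTwist.val s O'') :=
    isGen_val_of_le_genLocus s hO''def.le
  have hgen' := isGen_of_restrict W'.ι L' _ hgen
  obtain ⟨V, hVdef⟩ : ∃ V : X.Opens, V = W₀ ⊓ locusDown π (W'.ι ''ᵁ O'') hcl := ⟨_, rfl⟩
  have hxV : x ∈ V := by
    rw [hVdef]
    refine ⟨hxW₀, mem_locusDown.2 (fun z hz => ?_)⟩
    have hzW' : z ∈ W' := by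
      rw [hW'def]
      show π.base z ∈ W₀
      rw [hz]
      exact hxW₀
    refine ⟨⟨z, hzW'⟩, ?_, rfl⟩
    rw [hO''def]
    exact hEs (show W'.ι.base ⟨z, hzW'⟩ ∈ π.base ⁻¹' {x} from hz)
  have hle : π ⁻¹ᵁ V ≤ W'.ι ''ᵁ O'' := by
    intro z hz
    have : π.base z ∈ V := hz
    rw [hVdef] at this
    exact mem_locusDown.1 this.2 z rfl
  exact ⟨V, hxV, _, hgen'.res hle⟩

/-- **The norm of an invertible module** along a finite surjective morphism with a norm: an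
invertible module downstairs which is ample on every open over whose preimage the given module is
ample. -/
theorem exists_norm_bundle [IsFinite π] (hsurj : Function.Surjective π.base)
    (nm : FlatNormH4.WeakNorm π) {L' : X'.Modules} (hL' : PicF.IsInvertible L') :
    ∃ N : X.Modules, PicF.IsInvertible N ∧
      ∀ T : X.Opens, IsAmpleOn L' (π ⁻¹ᵁ T) → IsAmpleOn N T := by
  classical
  have hloc := fun x : X => exists_isGen_preimage π hL' x
  choose V hyV e he using hloc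
  let U : X → X'.Opens := fun y => π ⁻¹ᵁ V y
  have hg := fun p q => Groth.Agent.ThickPic.exists_transition (N := L') (U := U) (e := e) he p q
  choose g ginv hgg hg using hg
  let gu : ∀ p q : X, (Γ(X', U p ⊓ U q))ˣ :=
    fun p q => Units.mkOfMulEqOne (g p q) (ginv p q) (hgg p q)
  let η : ∀ p q : X, (Γ(X, V p ⊓ V q))ˣ :=
    fun p q => Units.map (nm.norm (V p ⊓ V q)) (gu p q)
  have hcoc : Groth.Agent.CocycMod.Cocycle V η := by
    intro p q r
    show rX (inf_le_inf_right (V r) inf_le_left : V p ⊓ V q ⊓ V r ≤ V p ⊓ V r)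
        (nm.norm (V p ⊓ V r) (g p r)) =
      rX (inf_le_left : V p ⊓ V q ⊓ V r ≤ V p ⊓ V q) (nm.norm (V p ⊓ V q) (g p q)) *
        rX (inf_le_inf_right (V r) inf_le_right : V p ⊓ V q ⊓ V r ≤ V q ⊓ V r)
          (nm.norm (V q ⊓ V r) (g q r))
    rw [norm_rX, norm_rX, norm_rX, ← map_mul]
    congr 1
    exact Groth.Agent.ThickPic.transition_cocycle he hg p q r (T := U p ⊓ U q ⊓ U r)
      ((inf_le_left : U p ⊓ U q ⊓ U r ≤ U p ⊓ U q).trans inf_le_left)
      ((inf_le_left : U p ⊓ U q ⊓ U r ≤ U p ⊓ U q).trans inf_le_right) inf_le_right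
  have hVtop : iSup V = ⊤ := eq_top_iff.mpr (fun y _ => Opens.mem_iSup.mpr ⟨y, hyV y⟩)
  obtain ⟨N, hNdef⟩ : ∃ N : X.Modules, N = Groth.Agent.CocycMod.L V η id hyV hcoc := ⟨_, rfl⟩
  have hN : PicF.IsInvertible N :=
    hNdef ▸ Groth.Agent.CocycMod.isInvertible_L V η id hyV hcoc hVtop
  obtain ⟨ε, hε, hεt⟩ : ∃ ε : ∀ p, Γ(N, V p), (∀ p, IsGen N (V p) (ε p)) ∧
      ∀ p q, rF N (inf_le_left : V p ⊓ V q ≤ V p) (ε p) =
        nm.norm (V p ⊓ V q) (g p q) • rF N (inf_le_right : V p ⊓ V q ≤ V q) (ε q) := by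
    subst hNdef
    exact ⟨fun p => Groth.Agent.CocycMod.sec V η id hyV hcoc p,
      fun p => Groth.Agent.CocycMod.isGen_sec V η id hyV hcoc p,
      fun p q => Groth.Agent.CocycMod.rF_sec V η id hyV hcoc p q⟩
  refine ⟨N, hN, fun T hamp => ?_⟩
  have hVT : ∀ p, V p ⊓ T ≤ T := fun p => inf_le_right
  have hle1 : ∀ p, π ⁻¹ᵁ (V p ⊓ T) ≤ π ⁻¹ᵁ V p := fun p => pre_mono π inf_le_left
  have hle2 : ∀ p q, π ⁻¹ᵁ (V p ⊓ T) ⊓ π ⁻¹ᵁ (V q ⊓ T) ≤ U p ⊓ U q :=
    fun p q => inf_le_inf (hle1 p) (hle1 q)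
  refine isAmpleOn_of_norm_data π nm hsurj hL' hN T (fun p => V p ⊓ T) hVT
    (fun y hy => ⟨y, hyV y, hy⟩)
    (fun p => rF L' (hle1 p) (e p)) (fun p => (he p).res (hle1 p))
    (fun p => rF N (inf_le_left : V p ⊓ T ≤ V p) (ε p)) (fun p => (hε p).res inf_le_left)
    (fun p q => rX (hle2 p q) (g p q)) (fun p q => ?_) (fun p q => ?_) hamp
  · rw [rF_rF, rF_rF]
    exact Groth.Agent.ThickPic.transition_res hg p q
      ((inf_le_left : π ⁻¹ᵁ (V p ⊓ T) ⊓ π ⁻¹ᵁ (V q ⊓ T) ≤ _).trans (hle1 p))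
      ((inf_le_right : π ⁻¹ᵁ (V p ⊓ T) ⊓ π ⁻¹ᵁ (V q ⊓ T) ≤ _).trans (hle1 q))
  · rw [rF_rF, rF_rF]
    have h1 := Groth.Agent.ThickPic.transition_res (N := N) (U := V) (e := ε)
      (g := fun p q => nm.norm (V p ⊓ V q) (g p q)) hεt p q
      ((inf_le_left : (V p ⊓ T) ⊓ (V q ⊓ T) ≤ _).trans inf_le_left)
      ((inf_le_right : (V p ⊓ T) ⊓ (V q ⊓ T) ≤ _).trans inf_le_left)
    rw [h1, norm_rX]
    rfl

end Groth.Agent.Lib.NormBunH6
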