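import Mathlib
import Groth.Prelude
import Groth.Agent.Lib.NormBun2_helper6
import Groth.Agent.Lib.Tens24_helper8
import Groth.Agent.Lib.Tens17_helper8

/-!
# Ampleness descends along finite locally free morphisms of constant degree (helper6)
APPEND-ONLY once landed.

* `isAmpleOn_of_isAmpleOn_pow`: a module with an ample power on an open is ample on it.
* `isAmpleOn_pow_of_pullback_finite`, `isAmpleOn_of_pullback_finite`: if the pullback of `L` along a
  finite locally free surjective morphism `π` of constant degree is ample on `π⁻¹ T`, then `L` is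
  ample on `T` (norm of sections; the norm of `π^* L` is `L^{⊗ d}`).
-/

set_option autoImplicit false
set_option linter.all false

namespace Groth.Agent.Lib.ConsMMH6

open AlgebraicGeometry CategoryTheory CategoryTheory.Limits TopologicalSpace Opposite
open QcqsLoc GenLocH8 FLFH8 QCohExtn TensH8 PBH8

universe u

/-- A module with an ample power on an open is ample on that open. -/
theorem isAmpleOn_of_isAmpleOn_pow {X : Scheme.{u}} {L : X.Modules} (hL : PicF.IsInvertible L)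
    (d : ℕ) (hd : 1 ≤ d) (T : X.Opens) (h : IsAmpleOn (CohB1.tensorPow L d) T) :
    IsAmpleOn L T := by
  refine ⟨h.1, fun x hx => ?_⟩
  obtain ⟨n, σ, O, hOaff, hxO, hOT, hloc⟩ := h.2 x hx
  have hloc' : HasLocus ((Frame.pow L d).powOf (n + 1)) σ O := by
    intro W hW e he
    rw [hloc W hW (CycCov.lpow L W e d) (isGen_lpow he d)]
    rfl
  obtain ⟨m, hm⟩ : ∃ m, m + 1 = d * (n + 1) * 1 := by
    have h1 : 1 ≤ d * (n + 1) := Nat.one_le_iff_ne_zero.mpr (by positivity)
    exact ⟨d * (n + 1) - 1, by omega⟩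
  obtain ⟨σ', hσ'⟩ := HasLocus.change_frame_pow hL ((Frame.pow L d).powOf (n + 1))
    (Frame.pow L (m + 1)) 1 Nat.one_pos hm σ hloc'
  exact ⟨m, σ', O, hOaff, hxO, hOT, hσ'⟩

/-- If the pullback of `L` along a finite locally free surjective morphism `π` of constant degree
`d` is ample on `π⁻¹ T`, then `L^{⊗ d}` is ample on `T`. -/
theorem isAmpleOn_pow_of_pullback_finite {X' X : Scheme.{u}} (π : X' ⟶ X) [IsFinite π] [Flat π]
    [LocallyOfFinitePresentation π] (hsurj : Function.Surjective π.base) (d : ℕ)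
    (hdeg : ∀ x : X, π.finrank x = d) {L : X.Modules} (hL : PicF.IsInvertible L) (T : X.Opens)
    (hamp : IsAmpleOn ((Scheme.Modules.pullback π).obj L) (π ⁻¹ᵁ T)) :
    IsAmpleOn (CohB1.tensorPow L d) T := by
  classical
  have hloc : ∀ y : T, ∃ W : X.Opens, IsAffineOpen W ∧ y.1 ∈ W ∧ W ≤ T ∧
      ∃ e : Γ(L, W), IsGen L W e := fun y => exists_isGen_le hL y.1 T y.2
  choose V hVaff hyV hVT e₀ he₀ using hloc
  have htr := fun p q =>
    Groth.Agent.ThickPic.exists_transition (N := L) (U := V) (e := e₀) he₀ p q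
  choose g₀ ginv hgg hg₀ using htr
  refine Groth.Agent.Lib.NormBunH6.isAmpleOn_of_norm_data π (FlatNormH4.weakNorm π) hsurj
    (isInvertible_pullback π hL) (isInvertible_tensorPow hL d) T V hVT
    (fun y hy => ⟨⟨y, hy⟩, hyV ⟨y, hy⟩⟩)
    (fun p => cUV π L le_rfl (e₀ p)) (fun p => isGen_cUV π hL (hVaff p) (he₀ p))
    (fun p => CycCov.lpow L (V p) (e₀ p) d) (fun p => isGen_lpow (he₀ p) d)
    (fun p q => π.appLE (V p ⊓ V q) (π ⁻¹ᵁ V p ⊓ π ⁻¹ᵁ V q) le_rfl (g₀ p q)) ?_ ?_ hamp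
  · intro p q
    have hl : V p ⊓ V q ≤ V p := inf_le_left
    have hr : V p ⊓ V q ≤ V q := inf_le_right
    have hpl : π ⁻¹ᵁ (V p ⊓ V q) ≤ π ⁻¹ᵁ V p := fun _ hz => hz.1
    have hpr : π ⁻¹ᵁ (V p ⊓ V q) ≤ π ⁻¹ᵁ V q := fun _ hz => hz.2
    show rF ((Scheme.Modules.pullback π).obj L) hpl (cUV π L le_rfl (e₀ p)) =
      π.appLE (V p ⊓ V q) (π ⁻¹ᵁ (V p ⊓ V q)) le_rfl (g₀ p q) •
        rF ((Scheme.Modules.pullback π).obj L) hpr (cUV π L le_rfl (e₀ q))
    rw [rF_cUV, rF_cUV, ← cUV_resV π L hl le_rfl, hg₀ p q, cUV_smul, cUV_resV π L hr le_rfl]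
  · intro p q
    rw [rF_lpow, rF_lpow, hg₀ p q, lpow_smul]
    congr 1
    have h1 := FlatNormH4.normFun_eq π (V p ⊓ V q) _ _
      (FlatNormH4.isNormOf_app π d hdeg (V p ⊓ V q) (g₀ p q))
    rw [← h1]
    have h2 : π.appLE (V p ⊓ V q) (π ⁻¹ᵁ (V p ⊓ V q)) le_rfl = π.app (V p ⊓ V q) :=
      Scheme.Hom.appLE_eq_app π
    show FlatNormH4.normFun π (V p ⊓ V q) ((π.app (V p ⊓ V q)).hom (g₀ p q)) =
      FlatNormH4.normFun π (V p ⊓ V q)
        ((π.appLE (V p ⊓ V q) (π ⁻¹ᵁ (V p ⊓ V q)) le_rfl).hom (g₀ p q))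
    rw [h2]

/-- If the pullback of `L` along a finite locally free surjective morphism `π` of constant positive
degree is ample on `π⁻¹ T`, then `L` is ample on `T`. -/
theorem isAmpleOn_of_pullback_finite {X' X : Scheme.{u}} (π : X' ⟶ X) [IsFinite π] [Flat π]
    [LocallyOfFinitePresentation π] (hsurj : Function.Surjective π.base) (d : ℕ) (hd : 1 ≤ d)
    (hdeg : ∀ x : X, π.finrank x = d) {L : X.Modules} (hL : PicF.IsInvertible L) (T : X.Opens)
    (hamp : IsAmpleOn ((Scheme.Modules.pullback π).obj L) (π ⁻¹ᵁ T)) : IsAmpleOn L T :=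
  isAmpleOn_of_isAmpleOn_pow hL d hd T
    (isAmpleOn_pow_of_pullback_finite π hsurj d hdeg hL T hamp)

end Groth.Agent.Lib.ConsMMH6
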