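import Mathlib
import Groth.Prelude
import Groth.Agent.Lib.ConsQP1_helper6
import Groth.Agent.Lib.ConsMor1_helper7
import Groth.Agent.Lib.NormBun2_helper6

/-!
# Quasi-projectivity of morphisms of algebraic schemes is invariant under field extension (helper6)
APPEND-ONLY once landed.

* `exists_finite_point`: a nonempty affine scheme of finite type over a one-point integral scheme has
  a point finite over the base.
* `qp_of_baseChange_finite`: quasi-projectivity descends along a finite locally free surjective base
  change of the base field (norm of the relatively ample module).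
* `isFieldStableMor_qp`, `isIndConsMor_qp`.
-/

set_option autoImplicit false
set_option linter.all false

namespace Groth.Agent.Lib.ConsQPH6

open AlgebraicGeometry CategoryTheory CategoryTheory.Limits TopologicalSpace Opposite
open QcqsLoc GenLocH8 FLFH8 QCohExtn TensH8 PBH8
open Groth.Agent.Lib.ConsPairH7 Groth.Agent.Lib.ConsPropH7 Topology

universe u

/-- A nonempty affine scheme of finite type over a one-point integral scheme has a one-point
integral subscheme finite over the base. -/
theorem exists_finite_point {T S' : Scheme.{u}} [IsIntegral T] [Subsingleton T] [IsAffine S']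
    [Nonempty S'] (β : S' ⟶ T) [LocallyOfFiniteType β] :
    ∃ (T₁ : Scheme.{u}) (_ : IsIntegral T₁) (_ : Subsingleton T₁) (ι : T₁ ⟶ S'),
      IsFinite (ι ≫ β) := by
  obtain ⟨s', -, hs'⟩ := IsClosed.exists_closed_singleton (X := S') isClosed_univ Set.univ_nonempty
  haveI : IsClosedImmersion (S'.fromSpecResidueField s') :=
    isClosed_singleton_iff_isClosedImmersion.mp hs'
  haveI : LocallyOfFiniteType (S'.fromSpecResidueField s' ≫ β) := inferInstance
  refine ⟨Spec (S'.residueField s'), inferInstance, inferInstance, S'.fromSpecResidueField s', ?_⟩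
  exact isFinite_iff_locallyOfFiniteType_of_jacobsonSpace.mpr inferInstance

/-- **Quasi-projectivity descends along a finite locally free surjective base change.** -/
theorem qp_of_baseChange_finite {X Y X₁ Y₁ : Scheme.{u}} (f : X ⟶ Y) (f₁ : X₁ ⟶ Y₁)
    (eX : X₁ ⟶ X) (eY : Y₁ ⟶ Y) [IsFinite eY] [Flat eY] [LocallyOfFinitePresentation eY]
    [Surjective eY] [LocallyOfFiniteType f] [QuasiCompact f]
    (hX : IsPullback eX f₁ f eY) (hQ : RelProj.IsQuasiProjective f₁) :
    RelProj.IsQuasiProjective f := by
  obtain ⟨-, -, L₁, hL₁⟩ := hQ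
  have hinv₁ := isInvertible_of_isRelAmple f₁ hL₁
  haveI : IsFinite eX := MorphismProperty.of_isPullback (P := @IsFinite) hX.flip inferInstance
  haveI : Flat eX := MorphismProperty.of_isPullback (P := @Flat) hX.flip inferInstance
  haveI : LocallyOfFinitePresentation eX :=
    MorphismProperty.of_isPullback (P := @LocallyOfFinitePresentation) hX.flip inferInstance
  haveI : Surjective eX := MorphismProperty.of_isPullback (P := @Surjective) hX.flip inferInstance
  obtain ⟨N, hN, hNamp⟩ := Groth.Agent.Lib.NormBunH6.exists_norm_bundle eX eX.surjective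
    (FlatNormH4.weakNorm eX) hinv₁
  refine ⟨inferInstance, inferInstance, N, (isRelAmple_iff f hN).mpr ⟨inferInstance, fun V => ?_⟩⟩
  apply hNamp
  have hV₁ : IsAffineOpen (eY ⁻¹ᵁ V.1) := V.2.preimage eY
  have h1 := ((isRelAmple_iff f₁ hinv₁).mp hL₁).2 ⟨eY ⁻¹ᵁ V.1, hV₁⟩
  have h2 : eX ⁻¹ᵁ (f ⁻¹ᵁ V.1) = f₁ ⁻¹ᵁ (eY ⁻¹ᵁ V.1) := by
    rw [← Scheme.Hom.comp_preimage, ← Scheme.Hom.comp_preimage, hX.w]
  rw [h2]
  exact h1

/-- **Quasi-projectivity of a morphism of algebraic schemes is invariant under extension of the
base field.** -/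
theorem isFieldStableMor_qp :
    ConsProp.IsFieldStableMor.{u} (fun X Y T f g => RelProj.IsQuasiProjective f) := by
  intro X X' Y Y' T T' f g f' g' eX eY h _ _ _ _ _ _ _ _ hY hX
  refine ⟨fun hQ => qp_of_isPullback hX hQ, fun hQ => ?_⟩
  haveI : IsNoetherian T := isNoetherian_of_subsingleton T
  haveI : IsAffine T := isAffine_of_subsingleton T
  haveI : IsAffine T' := isAffine_of_subsingleton T'
  haveI : IsLocallyNoetherian Y := LocallyOfFiniteType.isLocallyNoetherian g
  haveI : QuasiSeparated g := QuasiSeparated.of_quasiSeparatedSpace g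
  haveI : LocallyOfFinitePresentation g := inferInstance
  haveI : IsLocallyNoetherian X := LocallyOfFiniteType.isLocallyNoetherian (f ≫ g)
  haveI : QuasiSeparated (f ≫ g) := QuasiSeparated.of_quasiSeparatedSpace (f ≫ g)
  haveI : LocallyOfFinitePresentation (f ≫ g) := inferInstance
  haveI : LocallyOfFiniteType f := locallyOfFiniteType_of_comp f g
  haveI : QuasiCompact f := QuasiCompact.of_comp f g
  obtain ⟨S', Xs, Ys, β, t, fs, gs, pX, pY, haff, hlfp, htβ, hYs, hXs, hQs⟩ :=
    exists_finiteType_model_mor descendsIn_qp f g h ⊤ (isAffineOpen_top T)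
      (fun _ _ => trivial) f' g' eX eY hY hX hQ
  haveI := haff
  haveI := hlfp
  haveI : Nonempty S' := ⟨t (Classical.arbitrary T')⟩
  obtain ⟨T₁, hint₁, hsub₁, ι, hfin⟩ := exists_finite_point β
  haveI := hint₁
  haveI := hsub₁
  haveI := hfin
  haveI : LocallyOfFinitePresentation (ι ≫ β) := inferInstance
  haveI : Surjective (ι ≫ β) :=
    ⟨fun x => ⟨Classical.arbitrary T₁, Subsingleton.elim _ _⟩⟩
  -- the base change to `T₁`
  have hY₁ := (IsPullback.of_hasPullback gs ι).paste_horiz hYs
  have hX₁ := (IsPullback.of_hasPullback fs (pullback.fst gs ι)).paste_horiz hXs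
  have hQ₁ : RelProj.IsQuasiProjective (pullback.snd fs (pullback.fst gs ι)) :=
    qp_of_isPullback (IsPullback.of_hasPullback fs (pullback.fst gs ι)) hQs
  haveI : IsFinite (pullback.fst gs ι ≫ pY) :=
    MorphismProperty.of_isPullback (P := @IsFinite) hY₁.flip inferInstance
  haveI : Flat (pullback.fst gs ι ≫ pY) :=
    MorphismProperty.of_isPullback (P := @Flat) hY₁.flip inferInstance
  haveI : LocallyOfFinitePresentation (pullback.fst gs ι ≫ pY) :=
    MorphismProperty.of_isPullback (P := @LocallyOfFinitePresentation) hY₁.flip inferInstance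
  haveI : Surjective (pullback.fst gs ι ≫ pY) :=
    MorphismProperty.of_isPullback (P := @Surjective) hY₁.flip inferInstance
  exact qp_of_baseChange_finite f _ _ _ hX₁ hQ₁

/-- Generic openness for a field-stable, base-change-stable morphism property spreading out from
cofiltered limits (variant of helper7's `mor_generic` with field stability as a hypothesis). -/
theorem mor_generic' (Q : MorphismProperty Scheme.{u}) [Q.IsStableUnderBaseChange]
    (hfs : ConsProp.IsFieldStableMor (fun X Y T f g => Q f))
    (hdesc : DescendsIn Q) {X Y S : Scheme.{u}} (f : X ⟶ Y) (g : Y ⟶ S) [IsIntegral S]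
    [IsNoetherian S] [LocallyOfFiniteType g] [QuasiCompact g] [LocallyOfFiniteType (f ≫ g)]
    [QuasiCompact (f ≫ g)]
    (hη : genericPoint S ∈ ConsProp.locusMor (fun X Y T f g => Q f) f g) :
    (interior (ConsProp.locusMor (fun X Y T f g => Q f) f g)).Nonempty := by
  haveI : IsLocallyNoetherian Y := LocallyOfFiniteType.isLocallyNoetherian g
  haveI : QuasiSeparated g := QuasiSeparated.of_quasiSeparatedSpace g
  haveI : LocallyOfFinitePresentation g := inferInstance
  haveI : IsLocallyNoetherian X := LocallyOfFiniteType.isLocallyNoetherian (f ≫ g)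
  haveI : QuasiSeparated (f ≫ g) := QuasiSeparated.of_quasiSeparatedSpace (f ≫ g)
  haveI : LocallyOfFinitePresentation (f ≫ g) := inferInstance
  obtain ⟨_, ⟨U₀, hU₀, rfl⟩, hηU₀, -⟩ :=
    S.isBasis_affineOpens.exists_subset_of_mem_open (Set.mem_univ (genericPoint S)) isOpen_univ
  have hrange : Set.range (S.fromSpecResidueField (genericPoint S)) ⊆ (U₀ : Set S) := by
    rw [Scheme.range_fromSpecResidueField]
    intro z hz
    rw [Set.mem_singleton_iff.mp hz]
    exact hηU₀
  have hY := IsPullback.of_hasPullback g (S.fromSpecResidueField (genericPoint S))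
  have hX := isPullback_fiberMap f g (genericPoint S)
  obtain ⟨S', Xs, Ys, β, t, fs, gs, pX, pY, haff, hlfp, htβ, hYs, hXs, hQs⟩ :=
    exists_finiteType_model_mor hdesc f g (S.fromSpecResidueField (genericPoint S)) U₀ hU₀ hrange
      (MoreMor.fiberMap f g (genericPoint S)) (g.fiberToSpecResidueField (genericPoint S)) _ _
      hY hX hη
  haveI := haff
  haveI := hlfp
  haveI : QuasiCompact β := inferInstance
  have hηβ : genericPoint S ∈ Set.range β := by
    obtain ⟨t₀⟩ : Nonempty (Spec (S.residueField (genericPoint S))) := inferInstance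
    refine ⟨t t₀, ?_⟩
    rw [← Scheme.Hom.comp_apply, htβ]
    have h1 : S.fromSpecResidueField (genericPoint S) t₀ ∈
        Set.range (S.fromSpecResidueField (genericPoint S)) := ⟨t₀, rfl⟩
    rw [Scheme.range_fromSpecResidueField] at h1
    exact h1
  have hcons : IsConstructible (Set.range β) := by
    have := β.isConstructible_image IsConstructible.univ
    rwa [Set.image_univ] at this
  obtain ⟨U, hU, hηU, hcase⟩ :=
    Groth.Agent.Lib.Constr_lead.exists_open_generic_of_isConstructible hcons (genericPoint_spec S)
  have hsub : U ⊆ Set.range β := by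
    rcases hcase with h1 | h1
    · exact fun s hs => h1 ⟨hs, trivial⟩
    · exact absurd hηβ (h1 ⟨hηU, trivial⟩)
  refine ⟨genericPoint S, mem_interior.mpr ⟨U, ?_, hU, hηU⟩⟩
  intro s hs
  obtain ⟨s', rfl⟩ := hsub hs
  rw [← locusMor_baseChange hfs f g fs gs pX pY β hYs hXs s']
  exact Q.of_isPullback (isPullback_fiberMap fs gs s') hQs

/-- **Quasi-projectivity is an ind-constructible property of morphisms of algebraic schemes.** -/
theorem isIndConsMor_qp :
    ConsProp.IsIndConsMor.{u} (fun X Y T f g => RelProj.IsQuasiProjective f) :=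
  ⟨isFieldStableMor_qp, fun X Y S f g _ _ _ _ _ _ hη =>
    mor_generic' QP isFieldStableMor_qp descendsIn_qp f g hη⟩

/-- The set of points of the base over which the fibre morphism is quasi-projective is
ind-constructible. -/
theorem main4844 {X Y S : Scheme.{u}} (f : X ⟶ Y) (g : Y ⟶ S)
    [LocallyOfFinitePresentation g] [QuasiCompact g] [QuasiSeparated g]
    [LocallyOfFinitePresentation (f ≫ g)] [QuasiCompact (f ≫ g)] [QuasiSeparated (f ≫ g)] :
    ProCons.IsIndConstructible {s : S |
      RelProj.IsQuasiProjective
        (pullback.lift (pullback.fst (f ≫ g) (S.fromSpecResidueField s) ≫ f)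
          (pullback.snd (f ≫ g) (S.fromSpecResidueField s))
          ((Category.assoc _ _ _).trans pullback.condition) :
        pullback (f ≫ g) (S.fromSpecResidueField s) ⟶ pullback g (S.fromSpecResidueField s))} :=
  main5881 isIndConsMor_qp f g

end Groth.Agent.Lib.ConsQPH6
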