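import Mathlib
import Groth.Prelude
import Groth.Agent.Lib.ConsMM2_helper6
import Groth.Agent.Lib.ConsMM3_helper6
import Groth.Agent.Lib.ConsQP2_helper6

/-!
# Relative ampleness of the fibres is an ind-constructible condition (helper6)
APPEND-ONLY once landed.

* `isRelAmple_of_finite_baseChange`: relative ampleness descends along a finite locally free
  surjective base change of constant degree.
* `exists_finiteType_model_amp`: relative ampleness of a base change to an affine scheme already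
  holds over an affine scheme of finite presentation.
* `isFieldStableMM_amp`, `isIndConsMM_amp`, `main4845`.
-/

set_option autoImplicit false
set_option linter.all false

namespace Groth.Agent.Lib.ConsMMH6

open AlgebraicGeometry CategoryTheory CategoryTheory.Limits TopologicalSpace Opposite Topology
open QcqsLoc GenLocH8 FLFH8 QCohExtn TensH8 PBH8
open Groth.Agent.Lib.ConsPairH7 Groth.Agent.Lib.ConsPropH7 Groth.Agent.Lib.LimDescFPH7
open Groth.Agent.Lib.LimAmpH6 Groth.Agent.Lib.ConsQPH6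

universe u

/-- **Relative ampleness descends along a finite locally free surjective base change of constant
degree.** -/
theorem isRelAmple_of_finite_baseChange {X Y X₁ Y₁ : Scheme.{u}} (f : X ⟶ Y) (f₁ : X₁ ⟶ Y₁)
    (eX : X₁ ⟶ X) (eY : Y₁ ⟶ Y) [IsFinite eY] [Flat eY] [LocallyOfFinitePresentation eY]
    [Surjective eY] [QuasiCompact f] (d : ℕ) (hd : 1 ≤ d) (hdeg : ∀ y : Y, eY.finrank y = d)
    (hX : IsPullback eX f₁ f eY) {L : X.Modules} (hL : PicF.IsInvertible L)
    (h : RelAmple.IsRelAmple f₁ ((Scheme.Modules.pullback eX).obj L)) :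
    RelAmple.IsRelAmple f L := by
  have hinv₁ := isInvertible_pullback eX hL
  haveI : IsFinite eX := MorphismProperty.of_isPullback (P := @IsFinite) hX.flip inferInstance
  haveI : Flat eX := MorphismProperty.of_isPullback (P := @Flat) hX.flip inferInstance
  haveI : LocallyOfFinitePresentation eX :=
    MorphismProperty.of_isPullback (P := @LocallyOfFinitePresentation) hX.flip inferInstance
  haveI : Surjective eX := MorphismProperty.of_isPullback (P := @Surjective) hX.flip inferInstance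
  have hdegX : ∀ x : X, eX.finrank x = d := fun x => by
    rw [Scheme.Hom.finrank_of_isPullback f₁ eX eY f hX.flip x, hdeg]
  refine (isRelAmple_iff f hL).mpr ⟨inferInstance, fun V => ?_⟩
  apply isAmpleOn_of_pullback_finite eX eX.surjective d hd hdegX hL
  have hV₁ : IsAffineOpen (eY ⁻¹ᵁ V.1) := V.2.preimage eY
  have h1 := ((isRelAmple_iff f₁ hinv₁).mp h).2 ⟨eY ⁻¹ᵁ V.1, hV₁⟩
  have h2 : eX ⁻¹ᵁ (f ⁻¹ᵁ V.1) = f₁ ⁻¹ᵁ (eY ⁻¹ᵁ V.1) := by
    rw [← Scheme.Hom.comp_preimage, ← Scheme.Hom.comp_preimage, hX.w]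
  rw [h2]
  exact h1

/-- Relative ampleness of the pullback of `L` to a base change of `f : X ⟶ Y` (over `S`) to an
affine scheme `T'` over `S` (landing in an affine open) already holds over an affine scheme of
finite presentation over `S` through which `T'` factors. -/
theorem exists_finiteType_model_amp {X Y S : Scheme.{u}} (f : X ⟶ Y) (g : Y ⟶ S)
    [LocallyOfFinitePresentation g] [QuasiCompact g] [QuasiSeparated g]
    [LocallyOfFinitePresentation (f ≫ g)] [QuasiCompact (f ≫ g)] [QuasiSeparated (f ≫ g)]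
    (L : X.Modules) (hL : PicF.IsInvertible L)
    {T' X' Y' : Scheme.{u}} [IsAffine T'] (hT : T' ⟶ S) (U₀ : S.Opens) (hU₀ : IsAffineOpen U₀)
    (hrange : Set.range hT ⊆ (U₀ : Set S))
    (f' : X' ⟶ Y') (g' : Y' ⟶ T') (eX : X' ⟶ X) (eY : Y' ⟶ Y)
    (hY : IsPullback eY g' g hT) (hX : IsPullback eX f' f eY)
    (hQ : RelAmple.IsRelAmple f' ((Scheme.Modules.pullback eX).obj L)) :
    ∃ (S' Xs Ys : Scheme.{u}) (β : S' ⟶ S) (t : T' ⟶ S') (fs : Xs ⟶ Ys) (gs : Ys ⟶ S')
      (pX : Xs ⟶ X) (pY : Ys ⟶ Y), IsAffine S' ∧ LocallyOfFinitePresentation β ∧ t ≫ β = hT ∧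
        IsPullback pY gs g β ∧ IsPullback pX fs f pY ∧
        RelAmple.IsRelAmple fs ((Scheme.Modules.pullback pX).obj L) := by
  have hr : Set.range hT ⊆ Set.range hU₀.fromSpec := by
    rw [hU₀.range_fromSpec]
    exact hrange
  obtain ⟨ĥ, hĥ⟩ : ∃ ĥ : T' ⟶ Spec Γ(S, U₀), ĥ ≫ hU₀.fromSpec = hT :=
    ⟨IsOpenImmersion.lift hU₀.fromSpec hT hr, IsOpenImmersion.lift_fac _ _ _⟩
  obtain ⟨ψ, hψ⟩ : ∃ ψ : Γ(S, U₀) ⟶ Γ(T', ⊤), Spec.map ψ = T'.isoSpec.inv ≫ ĥ :=
    ⟨Spec.preimage (T'.isoSpec.inv ≫ ĥ), Spec.map_preimage _⟩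
  letI : Algebra Γ(S, U₀) Γ(T', ⊤) := ψ.hom.toAlgebra
  have hc := isLimitConeS Γ(S, U₀) Γ(T', ⊤)
  obtain ⟨i₀⟩ : Nonempty (AlgColim2H7.Idx Γ(S, U₀) Γ(T', ⊤))ᵒᵖ :=
    ⟨Opposite.op (Classical.arbitrary _)⟩
  obtain ⟨σ, hσdef⟩ : ∃ σ : ∀ j : (AlgColim2H7.Idx Γ(S, U₀) Γ(T', ⊤))ᵒᵖ,
      (DS Γ(S, U₀) Γ(T', ⊤)).obj j ⟶ Spec Γ(S, U₀), ∀ j, σ j =
        Spec.map ((AlgColim2H7.D (R := Γ(S, U₀)) (A := Γ(T', ⊤))).obj j.unop).hom :=
    ⟨fun j => Spec.map ((AlgColim2H7.D (R := Γ(S, U₀)) (A := Γ(T', ⊤))).obj j.unop).hom,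
      fun j => rfl⟩
  have hσ : ∀ j, (coneS Γ(S, U₀) Γ(T', ⊤)).π.app j ≫ σ j = Spec.map ψ := by
    intro j
    rw [hσdef]
    show Spec.map ((AlgColim2H7.cocone (R := Γ(S, U₀)) (A := Γ(T', ⊤))).ι.app j.unop).right ≫
      Spec.map _ = _
    rw [← Spec.map_comp, Under.w]
    rfl
  have hσmap : ∀ {i j : (AlgColim2H7.Idx Γ(S, U₀) Γ(T', ⊤))ᵒᵖ} (φ : i ⟶ j),
      (DS Γ(S, U₀) Γ(T', ⊤)).map φ ≫ σ j = σ i := by
    intro i j φ
    rw [hσdef, hσdef]
    show Spec.map ((AlgColim2H7.D (R := Γ(S, U₀)) (A := Γ(T', ⊤))).map φ.unop).right ≫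
      Spec.map _ = _
    rw [← Spec.map_comp, Under.w]
  have hσlfp : ∀ j, LocallyOfFinitePresentation (σ j) := by
    intro j
    rw [hσdef]
    exact (HasRingHomProperty.Spec_iff (P := @LocallyOfFinitePresentation)).mpr
      (AlgColim2H7.D_fp j.unop)
  obtain ⟨e', he'def⟩ : ∃ e' : T' ⟶ (coneS Γ(S, U₀) Γ(T', ⊤)).pt, e' = T'.isoSpec.hom :=
    ⟨T'.isoSpec.hom, rfl⟩
  haveI : IsIso e' := by
    rw [he'def]
    infer_instance
  have hplain : T'.isoSpec.hom ≫ Spec.map ψ ≫ hU₀.fromSpec = hT := by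
    rw [hψ, Category.assoc, Iso.hom_inv_id_assoc, hĥ]
  obtain ⟨β₀, hβ₀def⟩ : ∃ β₀ : (DS Γ(S, U₀) Γ(T', ⊤)).obj i₀ ⟶ S, β₀ = σ i₀ ≫ hU₀.fromSpec :=
    ⟨_, rfl⟩
  have hβ₀ : e' ≫ (coneS Γ(S, U₀) Γ(T', ⊤)).π.app i₀ ≫ β₀ = hT := by
    rw [hβ₀def, ← Category.assoc ((coneS Γ(S, U₀) Γ(T', ⊤)).π.app i₀), hσ, he'def]
    exact hplain
  have h3 : inv e' ≫ hT = (coneS Γ(S, U₀) Γ(T', ⊤)).π.app i₀ ≫ β₀ := by
    rw [← hβ₀, IsIso.inv_hom_id_assoc]
  have wY : eY ≫ g = (g' ≫ e' ≫ (coneS Γ(S, U₀) Γ(T', ⊤)).π.app i₀) ≫ β₀ := by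
    rw [hY.w, Category.assoc, Category.assoc, hβ₀]
  obtain ⟨qY, hqYfst, hqYsnd⟩ : ∃ qY : Y' ⟶ pullback g β₀, qY ≫ pullback.fst g β₀ = eY ∧
      qY ≫ pullback.snd g β₀ = g' ≫ e' ≫ (coneS Γ(S, U₀) Γ(T', ⊤)).π.app i₀ :=
    ⟨pullback.lift eY (g' ≫ e' ≫ (coneS Γ(S, U₀) Γ(T', ⊤)).π.app i₀) wY,
      pullback.lift_fst _ _ _, pullback.lift_snd _ _ _⟩
  have hY₀ := IsPullback.of_hasPullback g β₀
  have hX₀ := IsPullback.of_hasPullback f (pullback.fst g β₀)
  have hqY : IsPullback qY (g' ≫ e') (pullback.snd g β₀)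
      ((coneS Γ(S, U₀) Γ(T', ⊤)).π.app i₀) := by
    refine IsPullback.of_right ?_ (by rw [hqYsnd, Category.assoc]) hY₀
    rw [hqYfst]
    have h1 : IsPullback (𝟙 Y') (g' ≫ e') g' (inv e') := IsPullback.of_horiz_isIso ⟨by simp⟩
    have h2 := h1.paste_horiz hY
    rw [Category.id_comp, h3] at h2
    exact h2
  haveI : QuasiCompact (pullback.snd f (pullback.fst g β₀) ≫ pullback.snd g β₀) :=
    MorphismProperty.of_isPullback (P := @QuasiCompact) (hX₀.paste_vert hY₀) inferInstance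
  haveI : QuasiSeparated (pullback.snd f (pullback.fst g β₀) ≫ pullback.snd g β₀) :=
    MorphismProperty.of_isPullback (P := @QuasiSeparated) (hX₀.paste_vert hY₀) inferInstance
  have wX : eX ≫ f = (f' ≫ qY) ≫ pullback.fst g β₀ := by
    rw [Category.assoc, hqYfst, hX.w]
  obtain ⟨qX, hqXfst, hqXsnd⟩ : ∃ qX : X' ⟶ pullback f (pullback.fst g β₀),
      qX ≫ pullback.fst f (pullback.fst g β₀) = eX ∧
      qX ≫ pullback.snd f (pullback.fst g β₀) = f' ≫ qY :=
    ⟨pullback.lift eX (f' ≫ qY) wX, pullback.lift_fst _ _ _, pullback.lift_snd _ _ _⟩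
  have hqX : IsPullback qX f' (pullback.snd f (pullback.fst g β₀)) qY := by
    refine IsPullback.of_right ?_ hqXsnd hX₀
    rw [hqXfst, hqYfst]
    exact hX
  have hL₀ := isInvertible_pullback (pullback.fst f (pullback.fst g β₀)) hL
  have hQ' : RelAmple.IsRelAmple f' ((Scheme.Modules.pullback qX).obj
      ((Scheme.Modules.pullback (pullback.fst f (pullback.fst g β₀))).obj L)) :=
    (isRelAmple_congr f' (pullbackCompIso qX _ eX hqXfst L)).mpr hQ
  obtain ⟨i, φ, Xi, Yi, fi, gi, pY, pX, hYi, hXi, hQi⟩ :=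
    exists_isRelAmple_stage (DS Γ(S, U₀) Γ(T', ⊤)) (coneS Γ(S, U₀) Γ(T', ⊤)) hc i₀
      (pullback.snd f (pullback.fst g β₀)) (pullback.snd g β₀) _ hL₀ f' (g' ≫ e') qY qX hqY hqX
      hQ'
  have hβ : (DS Γ(S, U₀) Γ(T', ⊤)).map φ ≫ β₀ = σ i ≫ hU₀.fromSpec := by
    rw [hβ₀def, ← Category.assoc, hσmap]
  haveI := hσlfp i
  refine ⟨(DS Γ(S, U₀) Γ(T', ⊤)).obj i, Xi, Yi, (DS Γ(S, U₀) Γ(T', ⊤)).map φ ≫ β₀,
    e' ≫ (coneS Γ(S, U₀) Γ(T', ⊤)).π.app i, fi, gi, pX ≫ pullback.fst f (pullback.fst g β₀),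
    pY ≫ pullback.fst g β₀, inferInstance, ?_, ?_, hYi.paste_horiz hY₀, hXi.paste_horiz hX₀, ?_⟩
  · rw [hβ]
    infer_instance
  · rw [Category.assoc, ← Category.assoc ((coneS Γ(S, U₀) Γ(T', ⊤)).π.app i),
      (coneS Γ(S, U₀) Γ(T', ⊤)).w φ, hβ₀]
  · exact (isRelAmple_congr fi (pullbackCompIso pX _ _ rfl L)).mp hQi

/-- **Relative ampleness of an invertible module for a morphism of algebraic schemes is invariant
under extension of the base field.** -/
theorem isFieldStableMM_amp :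
    IsFieldStableMM.{u} (fun X Y T f g L => RelAmple.IsRelAmple f L) := by
  intro X X' Y Y' T T' f g f' g' eX eY h _ _ _ _ _ _ _ _ hY hX L L' hL α
  haveI : IsNoetherian T := isNoetherian_of_subsingleton T
  haveI : IsAffine T := isAffine_of_subsingleton T
  haveI : IsAffine T' := isAffine_of_subsingleton T'
  haveI : IsLocallyNoetherian Y := LocallyOfFiniteType.isLocallyNoetherian g
  haveI : QuasiSeparated g := QuasiSeparated.of_quasiSeparatedSpace g
  haveI : LocallyOfFinitePresentation g := inferInstance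
  haveI : IsLocallyNoetherian X := LocallyOfFiniteType.isLocallyNoetherian (f ≫ g)
  haveI : QuasiSeparated (f ≫ g) := QuasiSeparated.of_quasiSeparatedSpace (f ≫ g)
  haveI : LocallyOfFinitePresentation (f ≫ g) := inferInstance
  haveI : QuasiCompact f := QuasiCompact.of_comp f g
  refine ⟨fun hQ => (isRelAmple_congr f' α).mpr
    (Groth.Agent.Lib.TwBCH6.isRelAmple_of_isPullback f eY eX f' hX hQ), fun hQ => ?_⟩
  have hQ' := (isRelAmple_congr f' α).mp hQ
  obtain ⟨S', Xs, Ys, β, t, fs, gs, pX, pY, haff, hlfp, htβ, hYs, hXs, hQs⟩ :=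
    exists_finiteType_model_amp f g L hL h ⊤ (isAffineOpen_top T)
      (fun _ _ => trivial) f' g' eX eY hY hX hQ'
  haveI := haff
  haveI := hlfp
  haveI : Nonempty S' := ⟨t (Classical.arbitrary T')⟩
  obtain ⟨T₁, hint₁, hsub₁, ι, hfin⟩ := exists_finite_point β
  haveI := hint₁
  haveI := hsub₁
  haveI := hfin
  haveI : LocallyOfFinitePresentation (ι ≫ β) := inferInstance
  haveI : Surjective (ι ≫ β) :=
    ⟨fun x => ⟨Classical.arbitrary T₁, Subsingleton.elim _ _⟩⟩
  obtain ⟨d, hddef⟩ : ∃ d : ℕ, d = (ι ≫ β).finrank (Classical.arbitrary T) := ⟨_, rfl⟩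
  have hd : 1 ≤ d := by
    have h1 := Scheme.Hom.one_le_finrank_map (ι ≫ β) (Classical.arbitrary T₁)
    rwa [Subsingleton.elim ((ι ≫ β) (Classical.arbitrary T₁)) (Classical.arbitrary T),
      ← hddef] at h1
  -- the base change to `T₁`
  have hY₁ := (IsPullback.of_hasPullback gs ι).paste_horiz hYs
  have hX₁ := (IsPullback.of_hasPullback fs (pullback.fst gs ι)).paste_horiz hXs
  haveI : QuasiCompact fs := hQs.1
  have hQ₁ : RelAmple.IsRelAmple (pullback.snd fs (pullback.fst gs ι))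
      ((Scheme.Modules.pullback (pullback.fst fs (pullback.fst gs ι) ≫ pX)).obj L) :=
    (isRelAmple_congr _ (pullbackCompIso _ pX _ rfl L)).mp
      (Groth.Agent.Lib.TwBCH6.isRelAmple_of_isPullback fs (pullback.fst gs ι) _ _
        (IsPullback.of_hasPullback fs (pullback.fst gs ι)) hQs)
  haveI : IsFinite (pullback.fst gs ι ≫ pY) :=
    MorphismProperty.of_isPullback (P := @IsFinite) hY₁.flip inferInstance
  haveI : Flat (pullback.fst gs ι ≫ pY) :=
    MorphismProperty.of_isPullback (P := @Flat) hY₁.flip inferInstance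
  haveI : LocallyOfFinitePresentation (pullback.fst gs ι ≫ pY) :=
    MorphismProperty.of_isPullback (P := @LocallyOfFinitePresentation) hY₁.flip inferInstance
  haveI : Surjective (pullback.fst gs ι ≫ pY) :=
    MorphismProperty.of_isPullback (P := @Surjective) hY₁.flip inferInstance
  have hdeg : ∀ y : Y, (pullback.fst gs ι ≫ pY).finrank y = d := fun y => by
    rw [Scheme.Hom.finrank_of_isPullback (pullback.snd gs ι) (pullback.fst gs ι ≫ pY) (ι ≫ β) g
      hY₁.flip y, hddef]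
    exact congrArg _ (Subsingleton.elim _ _)
  exact isRelAmple_of_finite_baseChange f _ _ _ d hd hdeg hX₁ hL hQ₁

/-- Generic openness of relative ampleness of the fibres. -/
theorem amp_generic {X Y S : Scheme.{u}} (f : X ⟶ Y) (g : Y ⟶ S) [IsIntegral S]
    [IsNoetherian S] [LocallyOfFiniteType g] [QuasiCompact g] [LocallyOfFiniteType (f ≫ g)]
    [QuasiCompact (f ≫ g)] (L : X.Modules) (hL : PicF.IsInvertible L)
    (hη : genericPoint S ∈ locusMM (fun X Y T f g L => RelAmple.IsRelAmple f L) f g L) :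
    (interior (locusMM (fun X Y T f g L => RelAmple.IsRelAmple f L) f g L)).Nonempty := by
  haveI : IsLocallyNoetherian Y := LocallyOfFiniteType.isLocallyNoetherian g
  haveI : QuasiSeparated g := QuasiSeparated.of_quasiSeparatedSpace g
  haveI : LocallyOfFinitePresentation g := inferInstance
  haveI : IsLocallyNoetherian X := LocallyOfFiniteType.isLocallyNoetherian (f ≫ g)
  haveI : QuasiSeparated (f ≫ g) := QuasiSeparated.of_quasiSeparatedSpace (f ≫ g)
  haveI : LocallyOfFinitePresentation (f ≫ g) := inferInstance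
  obtain ⟨_, ⟨U₀, hU₀, rfl⟩, hηU₀, -⟩ :=
    S.isBasis_affineOpens.exists_subset_of_mem_open (Set.mem_univ (genericPoint S)) isOpen_univ
  have hrange : Set.range (S.fromSpecResidueField (genericPoint S)) ⊆ (U₀ : Set S) := by
    rw [Scheme.range_fromSpecResidueField]
    intro z hz
    rw [Set.mem_singleton_iff.mp hz]
    exact hηU₀
  have hY := IsPullback.of_hasPullback g (S.fromSpecResidueField (genericPoint S))
  have hX := isPullback_fiberMap f g (genericPoint S)
  obtain ⟨S', Xs, Ys, β, t, fs, gs, pX, pY, haff, hlfp, htβ, hYs, hXs, hQs⟩ :=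
    exists_finiteType_model_amp f g L hL (S.fromSpecResidueField (genericPoint S)) U₀ hU₀ hrange
      (MoreMor.fiberMap f g (genericPoint S)) (g.fiberToSpecResidueField (genericPoint S)) _ _
      hY hX hη
  haveI := haff
  haveI := hlfp
  haveI : QuasiCompact β := inferInstance
  have hηβ : genericPoint S ∈ Set.range β := by
    obtain ⟨t₀⟩ : Nonempty (Spec (S.residueField (genericPoint S))) := inferInstance
    refine ⟨t t₀, ?_⟩
    rw [← Scheme.Hom.comp_apply, htβ]
    have h1 : S.fromSpecResidueField (genericPoint S) t₀ ∈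
        Set.range (S.fromSpecResidueField (genericPoint S)) := ⟨t₀, rfl⟩
    rw [Scheme.range_fromSpecResidueField] at h1
    exact h1
  have hcons : IsConstructible (Set.range β) := by
    have := β.isConstructible_image IsConstructible.univ
    rwa [Set.image_univ] at this
  obtain ⟨U, hU, hηU, hcase⟩ :=
    Groth.Agent.Lib.Constr_lead.exists_open_generic_of_isConstructible hcons (genericPoint_spec S)
  have hsub : U ⊆ Set.range β := by
    rcases hcase with h1 | h1
    · exact fun s hs => h1 ⟨hs, trivial⟩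
    · exact absurd hηβ (h1 ⟨hηU, trivial⟩)
  refine ⟨genericPoint S, mem_interior.mpr ⟨U, ?_, hU, hηU⟩⟩
  intro s hs
  obtain ⟨s', rfl⟩ := hsub hs
  rw [← locusMM_baseChange isFieldStableMM_amp f g fs gs pX pY β hYs hXs L _ hL (Iso.refl _) s']
  haveI : QuasiCompact fs := hQs.1
  exact Groth.Agent.Lib.TwBCH6.isRelAmple_of_isPullback fs _ _ _
    (isPullback_fiberMap fs gs s') hQs

/-- **Relative ampleness is an ind-constructible relation.** -/
theorem isIndConsMM_amp :
    IsIndConsMM.{u} (fun X Y T f g L => RelAmple.IsRelAmple f L) :=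
  ⟨isFieldStableMM_amp, fun X Y S f g _ _ _ _ _ _ L hL hη => amp_generic f g L hL hη⟩

/-- The set of points of the base over which the pullback of `L` to the fibre is ample relative
to the fibre morphism is ind-constructible. -/
theorem main4845 {X Y S : Scheme.{u}} (f : X ⟶ Y) (g : Y ⟶ S)
    [LocallyOfFinitePresentation g] [QuasiCompact g] [QuasiSeparated g]
    [LocallyOfFinitePresentation (f ≫ g)] [QuasiCompact (f ≫ g)] [QuasiSeparated (f ≫ g)]
    (L : X.Modules) (hL : PicF.IsInvertible L) :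
    ProCons.IsIndConstructible {s : S |
      RelAmple.IsRelAmple
        (pullback.lift (pullback.fst (f ≫ g) (S.fromSpecResidueField s) ≫ f)
          (pullback.snd (f ≫ g) (S.fromSpecResidueField s))
          ((Category.assoc _ _ _).trans pullback.condition) :
        pullback (f ≫ g) (S.fromSpecResidueField s) ⟶ pullback g (S.fromSpecResidueField s))
        ((Scheme.Modules.pullback (pullback.fst (f ≫ g) (S.fromSpecResidueField s))).obj L)} :=
  main_mm isIndConsMM_amp f g L hL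

end Groth.Agent.Lib.ConsMMH6
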