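import Mathlib
import Groth.Agent.Lib.AlgColim2_helper7
import Groth.Agent.Lib.LimIsoStage_helper7

/-!
# Geometrically isomorphic finite type schemes become isomorphic over a finite extension (helper7)

`K = colim A` over finitely presented `k`-algebras `A` (AlgColim2), so `Spec K = lim Spec A`;
an isomorphism over `K` descends to a stage `A` (S4795), and `A` has a closed point whose
residue field is finite over `k` (Zariski's lemma).
-/

set_option autoImplicit false
set_option linter.style.haveILetI false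
universe u
open CategoryTheory Limits AlgebraicGeometry

namespace Groth.Agent.Lib.IsoFinExtH7

/-- transfer an isomorphism between base changes to a further base change -/
theorem iso_transfer {S T T' X Y Xj Yj X' Y' : Scheme.{u}} (p : X ⟶ S) (q : Y ⟶ S)
    (s : T ⟶ S) (t : T' ⟶ T)
    {fX : Xj ⟶ X} {aj : Xj ⟶ T} {fY : Yj ⟶ Y} {bj : Yj ⟶ T}
    (hXj : IsPullback fX aj p s) (hYj : IsPullback fY bj q s)
    {gX : X' ⟶ X} {a' : X' ⟶ T'} {gY : Y' ⟶ Y} {b' : Y' ⟶ T'} {s' : T' ⟶ S}
    (hs' : t ≫ s = s')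
    (hX' : IsPullback gX a' p s') (hY' : IsPullback gY b' q s')
    (e : Xj ≅ Yj) (he : e.hom ≫ bj = aj) : ∃ e' : X' ≅ Y', e'.hom ≫ b' = a' := by
  subst hs'
  obtain ⟨sX, hsX⟩ : ∃ sX : X' ⟶ Xj, IsPullback sX a' aj t := by
    refine ⟨hXj.lift gX (a' ≫ t) (by rw [hX'.w, Category.assoc]), ?_⟩
    refine IsPullback.of_right ?_ (hXj.lift_snd _ _ _) hXj
    rw [hXj.lift_fst]; exact hX'
  obtain ⟨sY, hsY⟩ : ∃ sY : Y' ⟶ Yj, IsPullback sY b' bj t := by
    refine ⟨hYj.lift gY (b' ≫ t) (by rw [hY'.w, Category.assoc]), ?_⟩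
    refine IsPullback.of_right ?_ (hYj.lift_snd _ _ _) hYj
    rw [hYj.lift_fst]; exact hY'
  have he' : e.inv ≫ aj = bj := by rw [← he, Iso.inv_hom_id_assoc]
  refine ⟨⟨hsY.lift (sX ≫ e.hom) a' (by rw [Category.assoc, he, hsX.w]),
    hsX.lift (sY ≫ e.inv) b' (by rw [Category.assoc, he', hsY.w]), ?_, ?_⟩, hsY.lift_snd _ _ _⟩
  · apply hsX.hom_ext
    · rw [Category.assoc, hsX.lift_fst, ← Category.assoc, hsY.lift_fst, Category.assoc,
        Iso.hom_inv_id, Category.comp_id, Category.id_comp]
    · rw [Category.assoc, hsX.lift_snd, hsY.lift_snd, Category.id_comp]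
  · apply hsY.hom_ext
    · rw [Category.assoc, hsY.lift_fst, ← Category.assoc, hsX.lift_fst, Category.assoc,
        Iso.inv_hom_id, Category.comp_id, Category.id_comp]
    · rw [Category.assoc, hsY.lift_snd, hsX.lift_snd, Category.id_comp]

/-- a nonzero algebra of finite type over a field has a residue field finite over the field -/
theorem exists_finite_residue (k R' : Type u) [Field k] [CommRing R'] [Nontrivial R']
    [Algebra k R'] [Algebra.FiniteType k R'] :
    ∃ (k' : Type u) (_ : Field k') (_ : Algebra k k') (_ : Module.Finite k k')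
      (_ : Algebra R' k'), IsScalarTower k R' k' := by
  obtain ⟨m, hm⟩ := Ideal.exists_maximal R'
  letI : Field (R' ⧸ m) := Ideal.Quotient.field m
  haveI : Algebra.FiniteType k (R' ⧸ m) :=
    Algebra.FiniteType.of_surjective (Ideal.Quotient.mkₐ k m) (Ideal.Quotient.mkₐ_surjective k m)
  exact ⟨R' ⧸ m, Ideal.Quotient.field m, inferInstance,
    finite_of_finite_type_of_isJacobsonRing k (R' ⧸ m), inferInstance, inferInstance⟩

section System

variable (k K : Type u) [Field k] [Field K] [Algebra k K]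

/-- the diagram of rings -/
noncomputable def DR : AlgColim2H7.Idx k K ⥤ CommRingCat.{u} :=
  AlgColim2H7.D (R := k) (A := K) ⋙ Under.forget _

/-- the diagram of affine schemes -/
noncomputable def DS : (AlgColim2H7.Idx k K)ᵒᵖ ⥤ Scheme.{u} := (DR k K).op ⋙ Scheme.Spec

attribute [local instance] IsFiltered.isConnected

/-- the limit cone with vertex `Spec K` -/
noncomputable def coneS : Cone (DS k K) :=
  Scheme.Spec.mapCone
    ((Under.forget _).mapCocone (AlgColim2H7.cocone (R := k) (A := K))).op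

/-- it is a limit cone -/
noncomputable def isLimitConeS : IsLimit (coneS k K) :=
  isLimitOfPreserves Scheme.Spec
    (isColimitOfPreserves (Under.forget _) (AlgColim2H7.isColimit (R := k) (A := K))).op

instance (i j : (AlgColim2H7.Idx k K)ᵒᵖ) (f : i ⟶ j) : IsAffineHom ((DS k K).map f) :=
  show IsAffineHom (Spec.map _) from inferInstance

instance (i : (AlgColim2H7.Idx k K)ᵒᵖ) : IsAffine ((DS k K).obj i) :=
  show IsAffine (Spec _) from inferInstance

/-- structure maps of the stages -/
noncomputable def σ (i : (AlgColim2H7.Idx k K)ᵒᵖ) : (DS k K).obj i ⟶ Spec (CommRingCat.of k) :=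
  Spec.map ((AlgColim2H7.D (R := k) (A := K)).obj i.unop).hom

theorem map_σ {i j : (AlgColim2H7.Idx k K)ᵒᵖ} (f : i ⟶ j) :
    (DS k K).map f ≫ σ k K j = σ k K i := by
  have h := Under.w ((AlgColim2H7.D (R := k) (A := K)).map f.unop)
  change Spec.map ((AlgColim2H7.D (R := k) (A := K)).map f.unop).right ≫ Spec.map _ = Spec.map _
  rw [← Spec.map_comp, h]

theorem coneS_π_σ (i : (AlgColim2H7.Idx k K)ᵒᵖ) :
    (coneS k K).π.app i ≫ σ k K i = Spec.map (CommRingCat.ofHom (algebraMap k K)) := by
  have h := Under.w ((AlgColim2H7.cocone (R := k) (A := K)).ι.app i.unop)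
  change Spec.map ((AlgColim2H7.cocone (R := k) (A := K)).ι.app i.unop).right ≫ Spec.map _ = _
  rw [← Spec.map_comp, h]
  rfl

end System

theorem main4839 {k : Type u} [Field k] {X Y : Scheme.{u}}
    (p : X ⟶ Spec (CommRingCat.of k)) (q : Y ⟶ Spec (CommRingCat.of k))
    [LocallyOfFiniteType p] [QuasiCompact p] [LocallyOfFiniteType q] [QuasiCompact q]
    (K : Type u) [Field K] [Algebra k K]
    (e : pullback p (Spec.map (CommRingCat.ofHom (algebraMap k K))) ≅
      pullback q (Spec.map (CommRingCat.ofHom (algebraMap k K))))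
    (he : e.hom ≫ pullback.snd q (Spec.map (CommRingCat.ofHom (algebraMap k K))) =
      pullback.snd p (Spec.map (CommRingCat.ofHom (algebraMap k K)))) :
    ∃ (k' : Type u) (_ : Field k') (_ : Algebra k k') (_ : Module.Finite k k')
      (e' : pullback p (Spec.map (CommRingCat.ofHom (algebraMap k k'))) ≅
        pullback q (Spec.map (CommRingCat.ofHom (algebraMap k k')))),
      e'.hom ≫ pullback.snd q (Spec.map (CommRingCat.ofHom (algebraMap k k'))) =
        pullback.snd p (Spec.map (CommRingCat.ofHom (algebraMap k k'))) := by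
  classical
  haveI : IsLocallyNoetherian X := LocallyOfFiniteType.isLocallyNoetherian p
  haveI : IsLocallyNoetherian Y := LocallyOfFiniteType.isLocallyNoetherian q
  haveI : QuasiSeparated p := QuasiSeparated.of_quasiSeparatedSpace p
  haveI : QuasiSeparated q := QuasiSeparated.of_quasiSeparatedSpace q
  haveI : LocallyOfFinitePresentation p := inferInstance
  haveI : LocallyOfFinitePresentation q := inferInstance
  let i₀ : (AlgColim2H7.Idx k K)ᵒᵖ := Opposite.op (Classical.arbitrary _)
  let sK : Spec (CommRingCat.of K) ⟶ Spec (CommRingCat.of k) :=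
    Spec.map (CommRingCat.ofHom (algebraMap k K))
  let a₀ : pullback p (σ k K i₀) ⟶ (DS k K).obj i₀ := pullback.snd p (σ k K i₀)
  let b₀ : pullback q (σ k K i₀) ⟶ (DS k K).obj i₀ := pullback.snd q (σ k K i₀)
  haveI : LocallyOfFinitePresentation a₀ := MorphismProperty.pullback_snd _ _ inferInstance
  haveI : LocallyOfFinitePresentation b₀ := MorphismProperty.pullback_snd _ _ inferInstance
  haveI : QuasiCompact a₀ := MorphismProperty.pullback_snd _ _ inferInstance
  haveI : QuasiCompact b₀ := MorphismProperty.pullback_snd _ _ inferInstance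
  haveI : QuasiSeparated a₀ := MorphismProperty.pullback_snd _ _ inferInstance
  haveI : QuasiSeparated b₀ := MorphismProperty.pullback_snd _ _ inferInstance
  let aK : pullback p sK ⟶ (coneS k K).pt := pullback.snd p sK
  let bK : pullback q sK ⟶ (coneS k K).pt := pullback.snd q sK
  have hwX : pullback.fst p sK ≫ p = (aK ≫ (coneS k K).π.app i₀) ≫ σ k K i₀ := by
    rw [Category.assoc, coneS_π_σ]; exact pullback.condition
  have hwY : pullback.fst q sK ≫ q = (bK ≫ (coneS k K).π.app i₀) ≫ σ k K i₀ := by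
    rw [Category.assoc, coneS_π_σ]; exact pullback.condition
  let qX : pullback p sK ⟶ pullback p (σ k K i₀) :=
    pullback.lift (pullback.fst p sK) (aK ≫ (coneS k K).π.app i₀) hwX
  let qY : pullback q sK ⟶ pullback q (σ k K i₀) :=
    pullback.lift (pullback.fst q sK) (bK ≫ (coneS k K).π.app i₀) hwY
  have hX : IsPullback qX aK a₀ ((coneS k K).π.app i₀) := by
    refine IsPullback.of_right ?_ (pullback.lift_snd _ _ _) (IsPullback.of_hasPullback p (σ k K i₀))
    rw [pullback.lift_fst, coneS_π_σ]
    exact IsPullback.of_hasPullback p sK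
  have hY : IsPullback qY bK b₀ ((coneS k K).π.app i₀) := by
    refine IsPullback.of_right ?_ (pullback.lift_snd _ _ _) (IsPullback.of_hasPullback q (σ k K i₀))
    rw [pullback.lift_fst, coneS_π_σ]
    exact IsPullback.of_hasPullback q sK
  haveI : CompactSpace ((DS k K).obj i₀) := inferInstance
  haveI : QuasiSeparatedSpace ((DS k K).obj i₀) := inferInstance
  obtain ⟨j, φ, Xj, Yj, aj, bj, pX, pY, hXj, hYj, ej, hej⟩ :=
    (LimIsoStageH7.main4795 (DS k K) (coneS k K) (isLimitConeS k K) i₀ a₀ b₀ aK bK qX qY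
      hX hY).mp ⟨e, he⟩
  -- the stage ring
  have hXj' : IsPullback (pX ≫ pullback.fst p (σ k K i₀)) aj p (σ k K j) := by
    have := hXj.paste_horiz (IsPullback.of_hasPullback p (σ k K i₀))
    rwa [map_σ] at this
  have hYj' : IsPullback (pY ≫ pullback.fst q (σ k K i₀)) bj q (σ k K j) := by
    have := hYj.paste_horiz (IsPullback.of_hasPullback q (σ k K i₀))
    rwa [map_σ] at this
  haveI h1 : Algebra.FinitePresentation k (AlgColim2H7.Sub j.unop) :=
    Algebra.FinitePresentation.equiv
      (MvPolynomial.supportedEquivMvPolynomial (R := k) (j.unop.1.1 : Set K)).symm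
  haveI hfp : Algebra.FinitePresentation k (AlgColim2H7.Sub j.unop ⧸ AlgColim2H7.Rel j.unop) :=
    Algebra.FinitePresentation.quotient (AlgColim2H7.Rel_fg j.unop)
  haveI : Nontrivial (AlgColim2H7.Sub j.unop ⧸ AlgColim2H7.Rel j.unop) := by
    let f : (AlgColim2H7.Sub j.unop ⧸ AlgColim2H7.Rel j.unop) →+* K :=
      ((AlgColim2H7.cocone (R := k) (A := K)).ι.app j.unop).right.hom
    exact RingHom.domain_nontrivial f
  obtain ⟨k', hk'1, hk'2, hk'3, hk'4, hk'5⟩ :=
    exists_finite_residue k (AlgColim2H7.Sub j.unop ⧸ AlgColim2H7.Rel j.unop)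
  let t : Spec (CommRingCat.of k') ⟶ (DS k K).obj j :=
    Spec.map (CommRingCat.ofHom
      (algebraMap (AlgColim2H7.Sub j.unop ⧸ AlgColim2H7.Rel j.unop) k'))
  have hs' : t ≫ σ k K j = Spec.map (CommRingCat.ofHom (algebraMap k k')) := by
    change Spec.map _ ≫ Spec.map _ = _
    rw [← Spec.map_comp]
    congr 1
    apply CommRingCat.hom_ext
    exact (IsScalarTower.algebraMap_eq k
      (AlgColim2H7.Sub j.unop ⧸ AlgColim2H7.Rel j.unop) k').symm
  obtain ⟨e', he'⟩ := iso_transfer p q (σ k K j) t hXj' hYj' hs'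
    (IsPullback.of_hasPullback p _) (IsPullback.of_hasPullback q _) ej hej
  exact ⟨k', hk'1, hk'2, hk'3, e', he'⟩

end Groth.Agent.Lib.IsoFinExtH7
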