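import Mathlib
import Groth.Prelude
import Groth.Agent.Lib.LimDescFP4_helper7

/-!
# Quasi-compact opens of `X_A` descend to a finitely generated subalgebra (helper7)
-/

set_option autoImplicit false
set_option linter.style.haveILetI false
set_option backward.isDefEq.respectTransparency false
universe u
open CategoryTheory CategoryTheory.Limits AlgebraicGeometry TopologicalSpace

namespace Groth.Agent.Lib.Var7628H7

open Groth.Agent.Lib.LimDescFPH7 Groth.Agent.Lib

section Sys

variable (k A : Type u) [CommRing k] [CommRing A] [Algebra k A]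

/-- structure maps of the stages -/
noncomputable def σ (i : (AlgColim2H7.Idx k A)ᵒᵖ) : (DS k A).obj i ⟶ Spec (CommRingCat.of k) :=
  Spec.map ((AlgColim2H7.D (R := k) (A := A)).obj i.unop).hom

theorem map_σ {i j : (AlgColim2H7.Idx k A)ᵒᵖ} (f : i ⟶ j) :
    (DS k A).map f ≫ σ k A j = σ k A i := by
  have h := Under.w ((AlgColim2H7.D (R := k) (A := A)).map f.unop)
  change Spec.map ((AlgColim2H7.D (R := k) (A := A)).map f.unop).right ≫ Spec.map _ = Spec.map _
  rw [← Spec.map_comp, h]

theorem coneS_π_σ (i : (AlgColim2H7.Idx k A)ᵒᵖ) :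
    (coneS k A).π.app i ≫ σ k A i = Spec.map (CommRingCat.ofHom (algebraMap k A)) := by
  have h := Under.w ((AlgColim2H7.cocone (R := k) (A := A)).ι.app i.unop)
  change Spec.map ((AlgColim2H7.cocone (R := k) (A := A)).ι.app i.unop).right ≫ Spec.map _ = _
  rw [← Spec.map_comp, h]
  rfl

variable {k} {X : Scheme.{u}} (g : X ⟶ Spec (CommRingCat.of k))

/-- the diagram `j ↦ X ×_k Spec B_j` -/
noncomputable def E : (AlgColim2H7.Idx k A)ᵒᵖ ⥤ Scheme.{u} where
  obj j := pullback g (σ k A j)
  map {i j} f := pullback.lift (pullback.fst _ _) (pullback.snd _ _ ≫ (DS k A).map f)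
    (by rw [pullback.condition, Category.assoc, map_σ])
  map_id j := by
    apply pullback.hom_ext <;> simp
  map_comp f h := by
    apply pullback.hom_ext <;> simp

@[reassoc (attr := simp)] lemma E_map_fst {i j : (AlgColim2H7.Idx k A)ᵒᵖ} (f : i ⟶ j) :
    (E A g).map f ≫ pullback.fst g (σ k A j) = pullback.fst g (σ k A i) := by
  simp [E]

@[reassoc (attr := simp)] lemma E_map_snd {i j : (AlgColim2H7.Idx k A)ᵒᵖ} (f : i ⟶ j) :
    (E A g).map f ≫ pullback.snd g (σ k A j) = pullback.snd g (σ k A i) ≫ (DS k A).map f := by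
  simp [E]

/-- projection to the diagram of the `Spec B_j` -/
noncomputable def αE : E A g ⟶ DS k A where
  app j := pullback.snd g (σ k A j)
  naturality i j f := by simp

lemma isPullback_E_map {i j : (AlgColim2H7.Idx k A)ᵒᵖ} (f : i ⟶ j) :
    IsPullback ((E A g).map f) (pullback.snd g (σ k A i)) (pullback.snd g (σ k A j))
      ((DS k A).map f) := by
  refine IsPullback.of_right ?_ (by simp) (IsPullback.of_hasPullback g (σ k A j))
  rw [E_map_fst, map_σ]
  exact IsPullback.of_hasPullback g (σ k A i)

instance {i j : (AlgColim2H7.Idx k A)ᵒᵖ} (f : i ⟶ j) : IsAffineHom ((E A g).map f) :=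
  MorphismProperty.of_isPullback (P := @IsAffineHom) (isPullback_E_map A g f).flip
    (inferInstance : IsAffineHom ((DS k A).map f))

/-- the cone with vertex `X ×_k Spec A` -/
noncomputable def sE : Cone (E A g) where
  pt := pullback g (Spec.map (CommRingCat.ofHom (algebraMap k A)))
  π :=
    { app j := pullback.lift (pullback.fst g (Spec.map (CommRingCat.ofHom (algebraMap k A))))
        (pullback.snd g (Spec.map (CommRingCat.ofHom (algebraMap k A))) ≫ (coneS k A).π.app j)
        (by rw [pullback.condition, Category.assoc, coneS_π_σ])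
      naturality i j f := by
        apply pullback.hom_ext
        · simp
        · simp only [Functor.const_obj_obj, Functor.const_obj_map, Category.id_comp,
            Category.assoc, E_map_snd, pullback.lift_snd_assoc, pullback.lift_snd]
          rw [← (coneS k A).w f] }

@[reassoc (attr := simp)] lemma sE_π_fst (j : (AlgColim2H7.Idx k A)ᵒᵖ) :
    (sE A g).π.app j ≫ pullback.fst g (σ k A j) =
      pullback.fst g (Spec.map (CommRingCat.ofHom (algebraMap k A))) :=
  pullback.lift_fst _ _ _

@[reassoc (attr := simp)] lemma sE_π_snd (j : (AlgColim2H7.Idx k A)ᵒᵖ) :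
    (sE A g).π.app j ≫ pullback.snd g (σ k A j) =
      pullback.snd g (Spec.map (CommRingCat.ofHom (algebraMap k A))) ≫ (coneS k A).π.app j :=
  pullback.lift_snd _ _ _

lemma isPullback_sE_π (j : (AlgColim2H7.Idx k A)ᵒᵖ) :
    IsPullback ((sE A g).π.app j)
      (pullback.snd g (Spec.map (CommRingCat.ofHom (algebraMap k A))))
      (pullback.snd g (σ k A j)) ((coneS k A).π.app j) := by
  refine IsPullback.of_right ?_ (sE_π_snd A g j) (IsPullback.of_hasPullback g (σ k A j))
  rw [sE_π_fst, coneS_π_σ]
  exact IsPullback.of_hasPullback g _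

attribute [local instance] IsCofiltered.isConnected

/-- it is a limit cone -/
noncomputable def isLimitSE : IsLimit (sE A g) :=
  isLimitOfIsPullbackOfIsConnected (αE A g) (sE A g) (coneS k A)
    { hom := pullback.snd g (Spec.map (CommRingCat.ofHom (algebraMap k A)))
      w := fun j => (sE_π_snd A g j).symm }
    (fun j => isPullback_sE_π A g j) (isLimitConeS k A)

end Sys

theorem main_g (k : Type u) [Field k] (X : Scheme.{u}) (g : X ⟶ Spec (CommRingCat.of k))
    (A : Type u) [CommRing A] [Algebra k A]
    (V : Set ↥(pullback g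
      (Spec.map (CommRingCat.ofHom (algebraMap k A))))) (hV : IsOpen V) (hVc : IsCompact V) :
    ∃ (A' : Subalgebra k A), A'.FG ∧
      ∃ (V' : Set ↥(pullback g
          (Spec.map (CommRingCat.ofHom (algebraMap k ↥A'))))), IsOpen V' ∧ IsCompact V' ∧
        ∀ π : pullback g
              (Spec.map (CommRingCat.ofHom (algebraMap k A))) ⟶
            pullback g
              (Spec.map (CommRingCat.ofHom (algebraMap k ↥A'))),
          π ≫ pullback.fst _ _ = pullback.fst _ _ →
          π ≫ pullback.snd _ _ = pullback.snd _ _ ≫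
              Spec.map (CommRingCat.ofHom A'.val.toRingHom) →
            π.base ⁻¹' V' = V := by
  obtain ⟨j, W, hWc, hW⟩ :=
    exists_preimage_eq (E A g) (sE A g) (isLimitSE A g) ⟨V, hV⟩ hVc
  let p : AlgColim2H7.Idx k A := j.unop
  let ι : (AlgColim2H7.Sub p ⧸ AlgColim2H7.Rel p) →+* A :=
    ((AlgColim2H7.cocone (R := k) (A := A)).ι.app p).right.hom
  let φ' : (AlgColim2H7.Sub p ⧸ AlgColim2H7.Rel p) →ₐ[k] A :=
    { ι with
      commutes' := fun r => ((AlgColim2H7.ev k A).comp (AlgColim2H7.Sub p).val).commutes r }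
  have hfp : Algebra.FinitePresentation k (AlgColim2H7.Sub p ⧸ AlgColim2H7.Rel p) := by
    haveI : Algebra.FinitePresentation k (AlgColim2H7.Sub p) :=
      Algebra.FinitePresentation.equiv
        (MvPolynomial.supportedEquivMvPolynomial (R := k) (p.1.1 : Set A)).symm
    exact Algebra.FinitePresentation.quotient (AlgColim2H7.Rel_fg p)
  have hft : Algebra.FiniteType k (AlgColim2H7.Sub p ⧸ AlgColim2H7.Rel p) :=
    @Algebra.FiniteType.of_finitePresentation k (AlgColim2H7.Sub p ⧸ AlgColim2H7.Rel p) _ _ _ hfp
  have hfg : φ'.range.FG := by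
    have h1 : (⊤ : Subalgebra k (AlgColim2H7.Sub p ⧸ AlgColim2H7.Rel p)).FG := hft.out
    have h2 := h1.map φ'
    rwa [Algebra.map_top] at h2
  let ψc : (DR k A).obj p ⟶ CommRingCat.of ↥φ'.range :=
    CommRingCat.ofHom φ'.rangeRestrict.toRingHom
  have hψ : ψc ≫ CommRingCat.ofHom φ'.range.val.toRingHom =
      ((AlgColim2H7.cocone (R := k) (A := A)).ι.app p).right := by
    apply CommRingCat.hom_ext
    apply RingHom.ext
    intro x
    rfl
  have hσ : Spec.map ψc ≫ σ k A j =
      Spec.map (CommRingCat.ofHom (algebraMap k ↥φ'.range)) := by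
    change Spec.map ψc ≫ Spec.map ((AlgColim2H7.D (R := k) (A := A)).obj p).hom = _
    rw [← Spec.map_comp]
    congr 1
    apply CommRingCat.hom_ext
    apply RingHom.ext
    intro r
    exact φ'.rangeRestrict.commutes r
  let q : pullback g (Spec.map (CommRingCat.ofHom (algebraMap k ↥φ'.range))) ⟶
      (E A g).obj j :=
    pullback.lift (pullback.fst _ _) (pullback.snd _ _ ≫ Spec.map ψc)
      (by rw [pullback.condition, Category.assoc, hσ])
  have hq : IsPullback q (pullback.snd g (Spec.map (CommRingCat.ofHom (algebraMap k ↥φ'.range))))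
      (pullback.snd g (σ k A j)) (Spec.map ψc) := by
    refine IsPullback.of_right ?_ (pullback.lift_snd _ _ _)
      (IsPullback.of_hasPullback g (σ k A j))
    rw [pullback.lift_fst, hσ]
    exact IsPullback.of_hasPullback g _
  haveI : QuasiCompact q :=
    MorphismProperty.of_isPullback (P := @QuasiCompact) hq.flip inferInstance
  refine ⟨φ'.range, hfg, (q ⁻¹ᵁ W : Set _), (q ⁻¹ᵁ W).2,
    QuasiCompact.isCompact_preimage (f := q) _ W.2 hWc, fun π h1 h2 => ?_⟩
  have hπ : π ≫ q = (sE A g).π.app j := by
    apply pullback.hom_ext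
    · rw [Category.assoc, pullback.lift_fst, h1]
      exact (sE_π_fst A g j).symm
    · rw [Category.assoc, pullback.lift_snd, ← Category.assoc, h2, Category.assoc,
        ← Spec.map_comp, hψ]
      exact (sE_π_snd A g j).symm
  have h3 : (π ≫ q) ⁻¹ᵁ W = ⟨V, hV⟩ := by rw [hπ]; exact hW
  have h4 := congrArg TopologicalSpace.Opens.carrier h3
  exact h4

theorem main7628 (k : Type u) [Field k] (X : Scheme.{u}) [X.Over (Spec (CommRingCat.of k))]
    (A : Type u) [CommRing A] [Algebra k A]
    (V : Set ↥(pullback (X ↘ (Spec (CommRingCat.of k)))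
      (Spec.map (CommRingCat.ofHom (algebraMap k A))))) (hV : IsOpen V) (hVc : IsCompact V) :
    ∃ (A' : Subalgebra k A), A'.FG ∧
      ∃ (V' : Set ↥(pullback (X ↘ (Spec (CommRingCat.of k)))
          (Spec.map (CommRingCat.ofHom (algebraMap k ↥A'))))), IsOpen V' ∧ IsCompact V' ∧
        ∀ π : pullback (X ↘ (Spec (CommRingCat.of k)))
              (Spec.map (CommRingCat.ofHom (algebraMap k A))) ⟶
            pullback (X ↘ (Spec (CommRingCat.of k)))
              (Spec.map (CommRingCat.ofHom (algebraMap k ↥A'))),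
          π ≫ pullback.fst _ _ = pullback.fst _ _ →
          π ≫ pullback.snd _ _ = pullback.snd _ _ ≫
              Spec.map (CommRingCat.ofHom A'.val.toRingHom) →
            π.base ⁻¹' V' = V :=
  main_g k X (X ↘ (Spec (CommRingCat.of k))) A V hV hVc

end Groth.Agent.Lib.Var7628H7
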