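import Mathlib
import Groth.Prelude
import Groth.Agent.Lib.LimAmp7_helper6
import Groth.Agent.Lib.Var7628_helper7
import Groth.Agent.Lib.IsoFinExt_helper7
import Groth.Agent.Lib.AmpleDesc_helper6
import Groth.Agent.Lib.NormBun2_helper6

/-!
# Ample invertible modules and base change to an extension field (helper6)
APPEND-ONLY once landed.

`exists_isAmple_of_baseChange_field`: a scheme over a field `k` whose base change to an extension
field carries an ample invertible module carries one itself (limit argument to a finitely
presented `k`-algebra, specialisation to a finite extension, norm).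
-/

set_option autoImplicit false
set_option linter.all false

namespace Groth.Agent.Lib.LimAmpH6

open AlgebraicGeometry CategoryTheory CategoryTheory.Limits TopologicalSpace Opposite
open QcqsLoc GenLocH8 FLFH8 QCohExtn TensH8 PBH8
open Groth.Agent.Lib.Var7628H7 Groth.Agent.Lib.LimDescFPH7 Groth.Agent.Lib

universe u

section Field

variable (k : Type u) [Field k] {X : Scheme.{u}} (g : X ⟶ Spec (CommRingCat.of k))

instance surjective_specMap_field (K : Type u) [Field K] [Algebra k K] :
    Surjective (Spec.map (CommRingCat.ofHom (algebraMap k K))) :=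
  ⟨fun y => ⟨(default : PrimeSpectrum K), Subsingleton.elim (α := PrimeSpectrum k) _ _⟩⟩

/-- a scheme over a field whose base change to an extension is quasi-compact and quasi-separated
is quasi-compact and quasi-separated. -/
theorem qcqs_of_baseChange_field (K : Type u) [Field K] [Algebra k K]
    [CompactSpace ↥(pullback g (Spec.map (CommRingCat.ofHom (algebraMap k K))))]
    [QuasiSeparatedSpace ↥(pullback g (Spec.map (CommRingCat.ofHom (algebraMap k K))))] :
    CompactSpace X ∧ QuasiSeparatedSpace X := by
  constructor
  · have hs : Function.Surjective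
        (pullback.fst g (Spec.map (CommRingCat.ofHom (algebraMap k K)))).base :=
      (pullback.fst g (Spec.map (CommRingCat.ofHom (algebraMap k K)))).surjective
    constructor
    rw [← hs.range_eq]
    exact isCompact_range
      (pullback.fst g (Spec.map (CommRingCat.ofHom (algebraMap k K)))).continuous
  · letI : X.Over (Spec (CommRingCat.of k)) := ⟨g⟩
    letI : (pullback g (Spec.map (CommRingCat.ofHom (algebraMap k K)))).Over
        (Spec (CommRingCat.of K)) := ⟨pullback.snd _ _⟩
    exact Groth.Agent.Lib.AmpleDescH6.quasiSeparatedSpace_of_sq (A := k) (B := K)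
      (pullback.fst g (Spec.map (CommRingCat.ofHom (algebraMap k K))))
      (IsPullback.of_hasPullback g (Spec.map (CommRingCat.ofHom (algebraMap k K))))

set_option backward.isDefEq.respectTransparency false in
/-- **A scheme over a field whose base change to an extension field carries an ample invertible
module has a base change to a finitely presented algebra carrying one.** -/
theorem exists_isAmple_stage_field [CompactSpace X] [QuasiSeparatedSpace X]
    (K : Type u) [Field K] [Algebra k K]
    (L' : (pullback g (Spec.map (CommRingCat.ofHom (algebraMap k K)))).Modules)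
    (hL' : CohB1.IsAmple L') :
    ∃ (j : (AlgColim2H7.Idx k K)ᵒᵖ) (L : (pullback g (σ k K j)).Modules), CohB1.IsAmple L := by
  haveI : ∀ j : (AlgColim2H7.Idx k K)ᵒᵖ, IsAffineHom (σ k K j) := fun j =>
    show IsAffineHom (Spec.map _) from inferInstance
  haveI : ∀ j : (AlgColim2H7.Idx k K)ᵒᵖ, CompactSpace ((E K g).obj j) := fun j =>
    QuasiCompact.compactSpace_of_compactSpace (pullback.fst g (σ k K j))
  haveI : ∀ j : (AlgColim2H7.Idx k K)ᵒᵖ, QuasiSeparatedSpace ((E K g).obj j) := fun j =>
    quasiSeparatedSpace_of_quasiSeparated (pullback.fst g (σ k K j))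
  exact exists_isAmple_module_stage (E K g) (sE K g) (isLimitSE K g) L' hL'

set_option backward.isDefEq.respectTransparency false in
/-- **A scheme over a field whose base change to an extension field carries an ample invertible
module carries an ample invertible module.** -/
theorem exists_isAmple_of_baseChange_field (K : Type u) [Field K] [Algebra k K]
    (L' : (pullback g (Spec.map (CommRingCat.ofHom (algebraMap k K)))).Modules)
    (hL' : CohB1.IsAmple L') : ∃ L : X.Modules, CohB1.IsAmple L := by
  classical
  haveI : CompactSpace ↥(pullback g (Spec.map (CommRingCat.ofHom (algebraMap k K)))) := hL'.2.1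
  haveI : (pullback g (Spec.map (CommRingCat.ofHom (algebraMap k K)))).IsSeparated :=
    Groth.Agent.VAmpPn.isSeparated_of_isAmple hL'
  obtain ⟨hc, hqs⟩ := qcqs_of_baseChange_field k g K
  haveI := hc
  haveI := hqs
  obtain ⟨j, Lj, hLj⟩ := exists_isAmple_stage_field k g K L' hL'
  -- the finitely presented algebra of the stage
  haveI h1 : Algebra.FinitePresentation k (AlgColim2H7.Sub j.unop) :=
    Algebra.FinitePresentation.equiv
      (MvPolynomial.supportedEquivMvPolynomial (R := k) (j.unop.1.1 : Set K)).symm
  haveI hfp : Algebra.FinitePresentation k (AlgColim2H7.Sub j.unop ⧸ AlgColim2H7.Rel j.unop) :=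
    Algebra.FinitePresentation.quotient (AlgColim2H7.Rel_fg j.unop)
  haveI : Nontrivial (AlgColim2H7.Sub j.unop ⧸ AlgColim2H7.Rel j.unop) := by
    let f : (AlgColim2H7.Sub j.unop ⧸ AlgColim2H7.Rel j.unop) →+* K :=
      ((AlgColim2H7.cocone (R := k) (A := K)).ι.app j.unop).right.hom
    exact RingHom.domain_nontrivial f
  obtain ⟨k', hk'1, hk'2, hk'3, hk'4, hk'5⟩ :=
    IsoFinExtH7.exists_finite_residue k (AlgColim2H7.Sub j.unop ⧸ AlgColim2H7.Rel j.unop)
  let s' : Spec (CommRingCat.of k') ⟶ (DS k K).obj j :=
    Spec.map (CommRingCat.ofHom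
      (algebraMap (AlgColim2H7.Sub j.unop ⧸ AlgColim2H7.Rel j.unop) k'))
  have hs' : s' ≫ σ k K j = Spec.map (CommRingCat.ofHom (algebraMap k k')) := by
    change Spec.map _ ≫ Spec.map _ = _
    rw [← Spec.map_comp]
    congr 1
    apply CommRingCat.hom_ext
    exact (IsScalarTower.algebraMap_eq k
      (AlgColim2H7.Sub j.unop ⧸ AlgColim2H7.Rel j.unop) k').symm
  haveI : IsAffineHom s' := show IsAffineHom (Spec.map _) from inferInstance
  -- the base change to the finite extension
  obtain ⟨sk', hsk'⟩ : ∃ sk' : Spec (CommRingCat.of k') ⟶ Spec (CommRingCat.of k),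
      sk' = Spec.map (CommRingCat.ofHom (algebraMap k k')) := ⟨_, rfl⟩
  rw [← hsk'] at hs'
  let u : pullback g sk' ⟶ pullback g (σ k K j) :=
    pullback.lift (pullback.fst g sk') (pullback.snd g sk' ≫ s')
      (by rw [pullback.condition, Category.assoc, hs'])
  have hu1 : u ≫ pullback.fst g (σ k K j) = pullback.fst g sk' := pullback.lift_fst _ _ _
  have hu2 : u ≫ pullback.snd g (σ k K j) = pullback.snd g sk' ≫ s' := pullback.lift_snd _ _ _
  have hsq : IsPullback u (pullback.snd g sk') (pullback.snd g (σ k K j)) s' := by
    refine IsPullback.of_right ?_ hu2 (IsPullback.of_hasPullback g (σ k K j))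
    rw [hu1, hs']
    exact IsPullback.of_hasPullback g sk'
  haveI : IsAffineHom u := MorphismProperty.of_isPullback (P := @IsAffineHom) hsq.flip inferInstance
  haveI hfin : IsFinite sk' := hsk' ▸ (IsFinite.SpecMap_iff _).2 (RingHom.finite_algebraMap.2 hk'3)
  haveI hflat : Flat sk' := by
    rw [hsk', HasRingHomProperty.Spec_iff (P := @Flat)]
    exact RingHom.flat_algebraMap_iff.2 inferInstance
  haveI hlfp : LocallyOfFinitePresentation sk' := by
    rw [hsk', HasRingHomProperty.Spec_iff (P := @LocallyOfFinitePresentation)]
    haveI : Algebra.FinitePresentation k k' :=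
      Algebra.FinitePresentation.of_finiteType.1 inferInstance
    exact RingHom.finitePresentation_algebraMap.2 inferInstance
  haveI hsurj : Surjective sk' := hsk' ▸ surjective_specMap_field k k'
  haveI : IsFinite (pullback.fst g sk') := MorphismProperty.pullback_fst (P := @IsFinite) g sk' hfin
  haveI : Flat (pullback.fst g sk') := MorphismProperty.pullback_fst (P := @Flat) g sk' hflat
  haveI : LocallyOfFinitePresentation (pullback.fst g sk') :=
    MorphismProperty.pullback_fst (P := @LocallyOfFinitePresentation) g sk' hlfp
  haveI : Surjective (pullback.fst g sk') :=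
    MorphismProperty.pullback_fst (P := @Surjective) g sk' hsurj
  haveI : CompactSpace ↥(pullback g sk') :=
    QuasiCompact.compactSpace_of_compactSpace (pullback.fst g sk')
  have hL'' : CohB1.IsAmple ((Scheme.Modules.pullback u).obj Lj) :=
    isAmple_pullback_of_isAffineHom u hLj
  obtain ⟨N, hN, hNamp⟩ := Groth.Agent.Lib.NormBunH6.exists_norm_bundle (pullback.fst g sk')
    (pullback.fst g sk').surjective (FlatNormH4.weakNorm (pullback.fst g sk')) hL''.1
  exact ⟨N, (isAmple_iff_isAmpleOn_top hN).mpr
    (hNamp ⊤ ((isAmple_iff_isAmpleOn_top hL''.1).mp hL''))⟩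

end Field

end Groth.Agent.Lib.LimAmpH6
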