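import Mathlib
import Groth.Prelude
import Groth.Agent.Lib.LimAmp8_helper6
import Groth.Agent.Lib.VAmpPn14_helper5

/-!
# Quasi-projectivity and projectivity over a field descend along field extensions (helper6)
APPEND-ONLY once landed.
-/

set_option autoImplicit false
set_option linter.all false

namespace Groth.Agent.Lib.LimAmpH6

open AlgebraicGeometry CategoryTheory CategoryTheory.Limits TopologicalSpace Opposite
open QcqsLoc GenLocH8 FLFH8 QCohExtn TensH8 PBH8

universe u

section Field2

variable (k : Type u) [Field k] {X : Scheme.{u}} (g : X ⟶ Spec (CommRingCat.of k))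
  (K : Type u) [Field K] [Algebra k K]

theorem fpqc_specMap_field :
    (@Surjective ⊓ @Flat ⊓ @QuasiCompact : MorphismProperty Scheme.{u})
      (Spec.map (CommRingCat.ofHom (algebraMap k K))) := by
  refine ⟨⟨surjective_specMap_field k K, ?_⟩, inferInstance⟩
  rw [HasRingHomProperty.Spec_iff (P := @Flat)]
  exact RingHom.flat_algebraMap_iff.2 inferInstance

/-- a relatively ample module over an affine base is ample -/
theorem isAmple_of_isRelAmple_of_isAffine {X S : Scheme.{u}} [IsAffine S] (f : X ⟶ S)
    {L : X.Modules} (h : RelAmple.IsRelAmple f L) : CohB1.IsAmple L := by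
  have hinv := isInvertible_of_isRelAmple f h
  have h1 := ((isRelAmple_iff f hinv).mp h).2 ⟨⊤, isAffineOpen_top S⟩
  rw [isAmple_iff_isAmpleOn_top hinv]
  exact h1

/-- **Quasi-projectivity over a field descends along field extensions.** -/
theorem isQuasiProjective_of_baseChange_field
    (h : RelProj.IsQuasiProjective (pullback.snd g (Spec.map (CommRingCat.ofHom (algebraMap k K))))) :
    RelProj.IsQuasiProjective g := by
  obtain ⟨hlft, hqc, L', hL'⟩ := h
  have hamp' := isAmple_of_isRelAmple_of_isAffine _ hL'
  obtain ⟨L, hL⟩ := exists_isAmple_of_baseChange_field k g K L' hamp'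
  haveI : CompactSpace X := hL.2.1
  haveI : QuasiCompact g := (HasAffineProperty.iff_of_isAffine (P := @QuasiCompact)).mpr inferInstance
  refine ⟨?_, inferInstance, L, Groth.Agent.VAmpPn.isRelAmple_of_isAmple g hL⟩
  exact MorphismProperty.of_isPullback_of_descendsAlong (P := @LocallyOfFiniteType)
    (Q := (@Surjective ⊓ @Flat ⊓ @QuasiCompact : MorphismProperty Scheme.{u}))
    (IsPullback.of_hasPullback g (Spec.map (CommRingCat.ofHom (algebraMap k K)))).flip
    (fpqc_specMap_field k K) hlft

/-- a scheme immersed in a projective space over a field is a noetherian space, so the immersion is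
quasi-compact -/
theorem quasiCompact_of_immersion_projSpace {Z : Scheme.{u}} (n : ℕ)
    (i : Z ⟶ CohB1.ProjSpaceOver n (Spec (CommRingCat.of K))) [IsImmersion i] : QuasiCompact i := by
  haveI : IsProper (CohB1.ProjSpaceOver.toBase n (Spec (CommRingCat.of K))) :=
    Groth.Agent.Lib.ProjSpaceProperH4.isProper_toBase n _
  haveI : IsLocallyNoetherian (CohB1.ProjSpaceOver n (Spec (CommRingCat.of K))) :=
    LocallyOfFiniteType.isLocallyNoetherian (CohB1.ProjSpaceOver.toBase n (Spec (CommRingCat.of K)))
  haveI : CompactSpace (CohB1.ProjSpaceOver n (Spec (CommRingCat.of K))) :=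
    QuasiCompact.compactSpace_of_compactSpace (CohB1.ProjSpaceOver.toBase n (Spec (CommRingCat.of K)))
  haveI : IsNoetherian (CohB1.ProjSpaceOver n (Spec (CommRingCat.of K))) := {}
  haveI : NoetherianSpace Z := i.isEmbedding.isInducing.noetherianSpace
  infer_instance

theorem isAmple_structureModule_spec (R : CommRingCat.{u}) :
    CohB1.IsAmple (Coh.structureModule (Spec R)) :=
  isAmple_of_isQuasiAffine isInvertible_structureModule

/-- **Immersions into projective space descend along field extensions.** -/
theorem exists_immersion_of_baseChange_field (n : ℕ)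
    (i : pullback g (Spec.map (CommRingCat.ofHom (algebraMap k K))) ⟶
      CohB1.ProjSpaceOver n (Spec (CommRingCat.of K))) [IsImmersion i]
    (hi : i ≫ CohB1.ProjSpaceOver.toBase n (Spec (CommRingCat.of K)) =
      pullback.snd g (Spec.map (CommRingCat.ofHom (algebraMap k K)))) :
    ∃ (n' : ℕ) (i' : X ⟶ CohB1.ProjSpaceOver n' (Spec (CommRingCat.of k))),
      IsImmersion i' ∧ QuasiCompact i' ∧
        i' ≫ CohB1.ProjSpaceOver.toBase n' (Spec (CommRingCat.of k)) = g := by
  haveI : IsProper (CohB1.ProjSpaceOver.toBase n (Spec (CommRingCat.of K))) :=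
    Groth.Agent.Lib.ProjSpaceProperH4.isProper_toBase n _
  haveI : QuasiCompact i := quasiCompact_of_immersion_projSpace K n i
  obtain ⟨M, hM⟩ := Groth.Agent.VAmpPn.exists_isAmple_of_immersion
    (isAmple_structureModule_spec (CommRingCat.of K)) i
  obtain ⟨L, hL⟩ := exists_isAmple_of_baseChange_field k g K M hM
  have hlft' : LocallyOfFiniteType
      (pullback.snd g (Spec.map (CommRingCat.ofHom (algebraMap k K)))) := by
    rw [← hi]
    infer_instance
  haveI hlft : LocallyOfFiniteType g :=
    MorphismProperty.of_isPullback_of_descendsAlong (P := @LocallyOfFiniteType)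
      (Q := (@Surjective ⊓ @Flat ⊓ @QuasiCompact : MorphismProperty Scheme.{u}))
      (IsPullback.of_hasPullback g (Spec.map (CommRingCat.ofHom (algebraMap k K)))).flip
      (fpqc_specMap_field k K) hlft'
  haveI : CompactSpace X := hL.2.1
  haveI : QuasiCompact g := (HasAffineProperty.iff_of_isAffine (P := @QuasiCompact)).mpr inferInstance
  exact Groth.Agent.VAmpPn.exists_immersion_of_isRelAmple g
    (isAmple_structureModule_spec (CommRingCat.of k)) (Groth.Agent.VAmpPn.isRelAmple_of_isAmple g hL)

/-- **Closed immersions into projective space descend along field extensions.** -/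
theorem exists_closedImmersion_of_baseChange_field (n : ℕ)
    (i : pullback g (Spec.map (CommRingCat.ofHom (algebraMap k K))) ⟶
      CohB1.ProjSpaceOver n (Spec (CommRingCat.of K))) [IsClosedImmersion i]
    (hi : i ≫ CohB1.ProjSpaceOver.toBase n (Spec (CommRingCat.of K)) =
      pullback.snd g (Spec.map (CommRingCat.ofHom (algebraMap k K)))) :
    ∃ (n' : ℕ) (i' : X ⟶ CohB1.ProjSpaceOver n' (Spec (CommRingCat.of k))),
      IsClosedImmersion i' ∧
        i' ≫ CohB1.ProjSpaceOver.toBase n' (Spec (CommRingCat.of k)) = g := by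
  obtain ⟨n', i', hi'1, hi'2, hi'3⟩ := exists_immersion_of_baseChange_field k g K n i hi
  refine ⟨n', i', ?_, hi'3⟩
  haveI : IsProper (CohB1.ProjSpaceOver.toBase n (Spec (CommRingCat.of K))) :=
    Groth.Agent.Lib.ProjSpaceProperH4.isProper_toBase n _
  haveI : IsProper (CohB1.ProjSpaceOver.toBase n' (Spec (CommRingCat.of k))) :=
    Groth.Agent.Lib.ProjSpaceProperH4.isProper_toBase n' _
  have huc' : UniversallyClosed
      (pullback.snd g (Spec.map (CommRingCat.ofHom (algebraMap k K)))) := by
    rw [← hi]
    infer_instance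
  have huc : UniversallyClosed g :=
    MorphismProperty.of_isPullback_of_descendsAlong (P := @UniversallyClosed)
      (Q := (@Surjective ⊓ @Flat ⊓ @QuasiCompact : MorphismProperty Scheme.{u}))
      (IsPullback.of_hasPullback g (Spec.map (CommRingCat.ofHom (algebraMap k K)))).flip
      (fpqc_specMap_field k K) huc'
  haveI : UniversallyClosed (i' ≫ CohB1.ProjSpaceOver.toBase n' (Spec (CommRingCat.of k))) := by
    rw [hi'3]
    exact huc
  haveI : UniversallyClosed i' :=
    UniversallyClosed.of_comp_of_isSeparated i' (CohB1.ProjSpaceOver.toBase n' (Spec (CommRingCat.of k)))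
  haveI := hi'1
  exact IsClosedImmersion.of_isPreimmersion i' i'.isClosedMap.isClosed_range

end Field2

end Groth.Agent.Lib.LimAmpH6
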