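import Mathlib
import Groth.Prelude
import Groth.Agent.Lib.Tens38_helper8
import Groth.Agent.Lib.ProjFin1_helper9
import Groth.Agent.Lib.LerayNat_helper9

/-!
# Sections with affine non-vanishing locus from `H¹`-classes killed by functions (helper2)

* `exists_lift_smul`: for a short exact sequence and a global section `c` of the quotient there is a
  class `ξ ∈ H¹(kernel)` such that `r • c` lifts whenever `r • ξ = 0`.
* `exists_genLocus_of_smul`: variant of helper8's `TensH8.exists_genLocus_of_H1` for a point `x`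
  whose closure lies in an affine open, where the `H¹`-classes are only killed by functions
  invertible at `x`.
APPEND-ONLY once landed.
-/

set_option autoImplicit false
universe u
open CategoryTheory CategoryTheory.Limits AlgebraicGeometry TopologicalSpace Opposite

namespace Groth.Agent.Lib.SpreadH2

open TensH8 QcqsLoc GenLocH8 FLFH8 QCohExtn PBH8 SerreCrit GGH8

variable {X : Scheme.{u}}

theorem resTop_top (r : Coh.Γtop X) : Coh.resTop X (op ⊤) r = r := by
  have h : (homOfLE (le_top (a := (⊤ : Opens X)))).op = 𝟙 (op (⊤ : Opens X)) :=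
    Subsingleton.elim _ _
  show (X.ringCatSheaf.obj.map (homOfLE (le_top (a := (⊤ : Opens X)))).op).hom r = r
  rw [h, CategoryTheory.Functor.map_id]
  rfl

set_option backward.isDefEq.respectTransparency false in
/-- twisted lifting of global sections -/
theorem exists_lift_smul (S : ShortComplex X.Modules) (hS : S.ShortExact) (c : Γ(S.X₃, ⊤)) :
    ∃ ξ : Coh.HH X S.X₁ 1, ∀ r : Coh.Γtop X, r • ξ = 0 →
      ∃ b : Γ(S.X₂, ⊤), ap S.g ⊤ b = (show Γ(X, ⊤) from r) • c := by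
  have hT := shortExact_toSheaf S hS
  obtain ⟨a, ha⟩ : ∃ a, Leray.constAddEquiv ((TT X).obj S.X₃) a = c :=
    (Leray.constAddEquiv ((TT X).obj S.X₃)).surjective c
  refine ⟨(Abelian.Ext.mk₀ a).comp hT.extClass (zero_add 1), fun r hr => ?_⟩
  have h0 := Groth.Agent.LerayNat.comp_comp_extClass hT (Groth.Agent.ProjFin.smulSC S r)
    (Abelian.Ext.mk₀ a) (zero_add 1)
  have h1 : (Abelian.Ext.mk₀ (a ≫ Coh.smulAb S.X₃ r)).comp hT.extClass (zero_add 1) = 0 := by
    rw [← Abelian.Ext.mk₀_comp_mk₀]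
    exact h0.trans hr
  obtain ⟨x₂, hx₂⟩ := Abelian.Ext.covariant_sequence_exact₃ _ hT
    (Abelian.Ext.mk₀ (a ≫ Coh.smulAb S.X₃ r)) (zero_add 1) h1
  obtain ⟨b', rfl⟩ := (Abelian.Ext.mk₀_bijective _ _).2 x₂
  rw [Abelian.Ext.mk₀_comp_mk₀] at hx₂
  have h2 : b' ≫ (TT X).map S.g = a ≫ Coh.smulAb S.X₃ r := (Abelian.Ext.mk₀_bijective _ _).1 hx₂
  refine ⟨Leray.constAddEquiv ((TT X).obj S.X₂) b', ?_⟩
  have h3 := Leray.constAddEquiv_comp b' ((TT X).map S.g)
  rw [h2, Leray.constAddEquiv_comp, ha] at h3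
  refine h3.symm.trans ?_
  rw [Coh.smulAb_app, resTop_top]

set_option maxHeartbeats 800000 in
/-- A point `x` whose closure lies in an affine open `U` trivialising `L` lies in an affine `X_s`,
`s` a section of a positive power of `L`, as soon as the `H¹`-classes of the twisted ideals are
killed by global functions invertible at `x`. -/
theorem exists_genLocus_of_smul {L : X.Modules} (hL : PicF.IsInvertible L)
    (U : X.Opens) (hU : IsAffineOpen U) (e : Γ(L, U)) (he : IsGen L U e)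
    (x : X) (hTU : closure ({x} : Set X) ⊆ (U : Set X))
    (h : ∀ (I : X.Modules) (i : I ⟶ Coh.structureModule X), Mono i → Coh.IsQCoh I →
      ∃ n : ℕ, ∀ ξ : Coh.HH X (CohB1.tensorMod I (CohB1.tensorPow L (n + 1))) 1,
        ∃ r : Coh.Γtop X, x ∈ X.basicOpen (show Γ(X, ⊤) from r) ∧ r • ξ = 0) :
    ∃ (n : ℕ) (s : Coh.structureModule X ⟶ CohB1.tensorPow L (n + 1)),
      x ∈ CohB1.genLocus _ s ∧ IsAffineOpen (CohB1.genLocus _ s) := by
  have hxT : x ∈ closure ({x} : Set X) := subset_closure rfl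
  have hxU : x ∈ U := hTU hxT
  obtain ⟨N, hN⟩ : ∃ N : LSub (OO X), N = VZ (OO X) (𝟙 _) ((U : Set X)ᶜ) := ⟨_, rfl⟩
  haveI hJ : N.toModules.IsQuasicoherent := by rw [hN]; exact isQuasicoherent_VZ _ _ _
  obtain ⟨K, hK⟩ : ∃ K : LSub N.toModules, K = VZ N.toModules N.ι (closure ({x} : Set X)) :=
    ⟨_, rfl⟩
  haveI hKq : K.toModules.IsQuasicoherent := by rw [hK]; exact isQuasicoherent_VZ _ _ _
  have hNvan : ∀ (W : X.Opens) (t : Γ(N.toModules, W)) (z : X), z ∉ U →
      z ∉ X.basicOpen (toFn (ap N.ι W t)) := by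
    subst hN
    intro W t z hz
    exact (LSub.ι_mem _ t) z hz
  have hKmem : ∀ (W : X.Opens) (t : Γ(N.toModules, W)),
      t ∈ K.carrier W ↔ (x ∉ X.basicOpen (toFn (ap N.ι W t))) := by
    intro W t
    rw [hK]
    constructor
    · intro ht
      exact ht x hxT
    · intro ht z hz hzb
      exact ht ((specializes_iff_mem_closure.mpr hz).mem_open (X.basicOpen _).isOpen hzb)
  obtain ⟨n, hn⟩ := h K.toModules (K.ι ≫ N.ι) inferInstance hKq
  haveI : Mono (tmap K.ι (CohB1.tensorPow L (n + 1))) :=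
    mono_tmap K.ι hL (Frame.pow L (n + 1))
  have hS : (ShortComplex.mk
      (tmap K.ι (CohB1.tensorPow L (n + 1))) (cokernel.π (tmap K.ι (CohB1.tensorPow L (n + 1))))
      (cokernel.condition _)).ShortExact :=
    ShortComplex.ShortExact.mk' (ShortComplex.exact_cokernel _)
      (inferInstanceAs (Mono (tmap K.ι (CohB1.tensorPow L (n + 1)))))
      (inferInstanceAs (Epi (cokernel.π (tmap K.ι (CohB1.tensorPow L (n + 1))))))
  have hKπ : ∀ (W : X.Opens) (κ : Γ(CohB1.tensorMod K.toModules (CohB1.tensorPow L (n + 1)), W)),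
      ap (cokernel.π (tmap K.ι (CohB1.tensorPow L (n + 1)))) W
        (ap (tmap K.ι (CohB1.tensorPow L (n + 1))) W κ) = 0 := by
    intro W κ
    exact congrArg (fun χ => (χ.app W).hom κ) (cokernel.condition (tmap K.ι _))
  -- the section `1` of `N` over `U`
  have h1mem : ofFn (1 : Γ(X, U)) ∈ N.carrier U := by
    rw [hN]
    intro z hz hzb
    exact hz (X.basicOpen_le _ hzb)
  obtain ⟨u, hu⟩ := N.exists_of_mem h1mem
  obtain ⟨U₂, hU₂⟩ : ∃ U₂ : X.Opens,
      U₂ = ⟨(closure ({x} : Set X))ᶜ, isClosed_closure.isOpen_compl⟩ := ⟨_, rfl⟩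
  have hxU₂ : ∀ z, z ∈ U₂ ↔ z ∉ closure ({x} : Set X) := by
    intro z
    rw [hU₂]
    rfl
  have hcov : (⊤ : X.Opens) ≤ U ⊔ U₂ := by
    intro y _
    by_cases hy : y ∈ closure ({x} : Set X)
    · exact Or.inl (hTU hy)
    · exact Or.inr ((hxU₂ y).mpr hy)
  obtain ⟨g0, hg0⟩ : ∃ g0 : Γ(CohB1.tensorMod N.toModules (CohB1.tensorPow L (n + 1)), U),
      g0 = SecTwist.tmul N.toModules (CohB1.tensorPow L (n + 1)) U u
        ((Frame.pow L (n + 1)).φ U e) := ⟨_, rfl⟩
  have hagree : rF (cokernel (tmap K.ι (CohB1.tensorPow L (n + 1))))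
      (inf_le_left : U ⊓ U₂ ≤ U) (ap (cokernel.π (tmap K.ι _)) U g0) =
      rF (cokernel (tmap K.ι (CohB1.tensorPow L (n + 1)))) (inf_le_right : U ⊓ U₂ ≤ U₂) 0 := by
    rw [map_zero, ← ap_rF, hg0, rF_tmul, (Frame.pow L (n + 1)).res]
    have hmem : rF N.toModules (inf_le_left : U ⊓ U₂ ≤ U) u ∈ K.carrier (U ⊓ U₂) := by
      rw [hKmem]
      intro hxb
      have h2 : x ∈ U ⊓ U₂ := X.basicOpen_le _ hxb
      exact (hxU₂ x).mp h2.2 hxT
    obtain ⟨k, hk⟩ := K.exists_of_mem hmem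
    rw [← hk, ← tmap_tmul]
    exact hKπ _ _
  obtain ⟨c, hcU, -⟩ := glue₂_mod (cokernel (tmap K.ι (CohB1.tensorPow L (n + 1))))
    (le_top : U ≤ ⊤) (le_top : U₂ ≤ ⊤) hcov (ap (cokernel.π (tmap K.ι _)) U g0) 0 hagree
  -- the twisted lifting
  obtain ⟨ξ, hξ⟩ := exists_lift_smul _ hS c
  obtain ⟨r, hxr, hrξ⟩ := hn ξ
  obtain ⟨b, hb⟩ : ∃ b : Γ(CohB1.tensorMod N.toModules (CohB1.tensorPow L (n + 1)), ⊤),
      ap (cokernel.π (tmap K.ι (CohB1.tensorPow L (n + 1)))) ⊤ b =
        (show Γ(X, ⊤) from r) • c := hξ r hrξ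
  obtain ⟨σ, hσ⟩ := exists_mulSec (Frame.pow L (n + 1)) N.toModules b hL N.ι
    (Frame.pow L (n + 1))
  obtain ⟨O, -, hloc⟩ := exists_hasLocus (Frame.pow L (n + 1)) σ
  have hgl := genLocus_homOfSec hL (Frame.pow L (n + 1)) σ hloc
  have hOU : O ≤ U := by
    intro z hz
    obtain ⟨W', -, hzW', e', he'⟩ := exists_isGen hL z
    have h1 := hloc W' le_top e' he'
    have hz' : z ∈ O ⊓ W' := ⟨hz, hzW'⟩
    rw [h1, hσ W' le_top e' he'] at hz'
    by_contra hzU
    exact hNvan _ _ z hzU hz'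
  have hOeq : O = X.basicOpen ((Frame.pow L (n + 1)).coefOf σ U le_top e he) := by
    rw [← hloc U le_top e he]
    exact (inf_eq_left.mpr hOU).symm
  refine ⟨n, homOfSec _ σ, ?_, ?_⟩
  · rw [hgl, hOeq, hσ U le_top e he]
    by_contra hxb
    have hgK : gcoef (Frame.pow L (n + 1)) N.toModules b U le_top e he ∈ K.carrier U :=
      (hKmem U _).mpr hxb
    obtain ⟨k, hk⟩ := K.exists_of_mem hgK
    have hbU : rF (CohB1.tensorMod N.toModules (CohB1.tensorPow L (n + 1))) (le_top : U ≤ ⊤) b =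
        ap (tmap K.ι (CohB1.tensorPow L (n + 1))) U
          (SecTwist.tmul K.toModules (CohB1.tensorPow L (n + 1)) U k
            ((Frame.pow L (n + 1)).φ U e)) := by
      rw [tmap_tmul, hk]
      exact (gcoef_spec (Frame.pow L (n + 1)) N.toModules b U le_top e he).symm
    obtain ⟨rU, hrU⟩ : ∃ rU : Γ(X, U), rU = rX (le_top : U ≤ ⊤) (show Γ(X, ⊤) from r) := ⟨_, rfl⟩
    have hcU0 : ap (cokernel.π (tmap K.ι (CohB1.tensorPow L (n + 1)))) U (rU • g0) = 0 := by
      rw [ap_smul, ← hcU, hrU, ← rF_smul, ← hb, ← ap_rF, hbU]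
      exact hKπ _ _
    obtain ⟨κ, hκ⟩ := QCohExact.app_exact _ hS.exact U (rU • g0) hcU0
    have hκ' : ap (tmap K.ι (CohB1.tensorPow L (n + 1))) U κ = rU • g0 := hκ
    obtain ⟨k', hk'⟩ := tmulGen_surjective K.toModules (CohB1.tensorPow L (n + 1))
      ((Frame.pow L (n + 1)).isGen he) le_rfl κ
    rw [SubExt.rF_self] at hk'
    rw [← hk', tmap_tmul, hg0] at hκ'
    have huk : ap K.ι U k' = rU • u := by
      apply tmulGen_injective N.toModules (CohB1.tensorPow L (n + 1))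
        ((Frame.pow L (n + 1)).isGen he) le_rfl
      rw [SubExt.rF_self]
      exact hκ'.trans (tmul_smul_left N.toModules (CohB1.tensorPow L (n + 1)) U rU u _).symm
    have huK : rU • u ∈ K.carrier U := by
      rw [← huk]
      exact K.ι_mem k'
    rw [hKmem, ap_smul, hu, smul_eq] at huK
    apply huK
    rw [show toFn (ofFn (1 : Γ(X, U))) = 1 from rfl, mul_one, hrU, basicOpen_rX]
    exact ⟨hxU, hxr⟩
  · rw [hgl, hOeq]
    exact hU.basicOpen _

end Groth.Agent.Lib.SpreadH2
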