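import Mathlib
import Groth.Prelude
import Groth.Agent.Lib.Spread1_helper2
import Groth.Agent.Lib.FibAmp5_helper2
import Groth.Agent.Lib.WDivSh6_helper8

/-!
# Ampleness on a fibre spreads to a neighbourhood (helper2)

`f : X ⟶ Y` proper, `Y` Noetherian, `L` invertible on `X` with `L|X_y` ample: then `L` is ample on
`f⁻¹(W)` for all affine opens `W` in a neighbourhood of `y` (`main0054`).
APPEND-ONLY once landed.
-/

set_option autoImplicit false
universe u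
open CategoryTheory CategoryTheory.Limits AlgebraicGeometry TopologicalSpace Opposite

namespace Groth.Agent.Lib.SpreadH2

open TensH8 QcqsLoc GenLocH8 FLFH8 QCohExtn PBH8 SerreCrit GGH8
open Groth.Agent.Lib.FibAmpH2 Groth.Agent.Lib.FibDimH2 Groth.Agent.TensInv

section Affine

variable {X Y : Scheme.{u}} (f : X ⟶ Y)

theorem isAffineOpen_inf_preimage {O : X.Opens} (hO : IsAffineOpen O) {V W : Y.Opens}
    (hV : IsAffineOpen V) (hW : IsAffineOpen W) (hWV : W ≤ V) (hOV : O ≤ f ⁻¹ᵁ V) :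
    IsAffineOpen (O ⊓ f ⁻¹ᵁ W) := by
  haveI : IsAffine (O : Scheme.{u}) := hO
  haveI : IsAffine (V : Scheme.{u}) := hV
  have hW' : IsAffineOpen (V.ι ⁻¹ᵁ W) := by
    rw [← V.ι.isAffineOpen_iff_of_isOpenImmersion]
    have h1 : V.ι ''ᵁ (V.ι ⁻¹ᵁ W) = W := by
      rw [Scheme.Hom.image_preimage_eq_opensRange_inf, Scheme.Opens.opensRange_ι]
      exact inf_eq_right.mpr hWV
    rw [h1]
    exact hW
  have h1 : IsAffineOpen ((f.resLE V O hOV) ⁻¹ᵁ (V.ι ⁻¹ᵁ W)) := hW'.preimage (f.resLE V O hOV)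
  have h2 := h1.image_of_isOpenImmersion O.ι
  have h3 : O.ι ''ᵁ ((f.resLE V O hOV) ⁻¹ᵁ (V.ι ⁻¹ᵁ W)) = O ⊓ f ⁻¹ᵁ W := by
    have h4 : (f.resLE V O hOV) ⁻¹ᵁ (V.ι ⁻¹ᵁ W) = O.ι ⁻¹ᵁ (f ⁻¹ᵁ W) := by
      rw [← Scheme.Hom.comp_preimage, ← Scheme.Hom.comp_preimage, Scheme.Hom.resLE_comp_ι]
    rw [h4, Scheme.Hom.image_preimage_eq_opensRange_inf, Scheme.Opens.opensRange_ι]
  rw [← h3]
  exact h2

end Affine

section Fibre

variable {X Y : Scheme.{u}} (f : X ⟶ Y) [IsProper f]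

/-- every point of a fibre specialises to a point that is closed in the fibre -/
theorem exists_closed_in_fibre (y : Y) (x : X) (hx : f x = y) :
    ∃ x₁ : X, f x₁ = y ∧ x ⤳ x₁ ∧ ∀ z ∈ closure ({x₁} : Set X), f z = y → z = x₁ := by
  have hF : IsCompact (f ⁻¹' {y}) := f.isProperMap.isCompact_preimage isCompact_singleton
  haveI : CompactSpace ↥(f ⁻¹' {y}) := isCompact_iff_compactSpace.mp hF
  let x' : ↥(f ⁻¹' {y}) := ⟨x, hx⟩
  obtain ⟨x₁', hx₁S, hx₁c⟩ := (isClosed_closure (s := ({x'} : Set ↥(f ⁻¹' {y})))).exists_closed_singleton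
    ⟨x', subset_closure rfl⟩
  refine ⟨x₁'.1, x₁'.2, ?_, fun z hz hzy => ?_⟩
  · have h1 : x' ⤳ x₁' := specializes_iff_mem_closure.mpr hx₁S
    exact h1.map continuous_subtype_val
  · let z' : ↥(f ⁻¹' {y}) := ⟨z, hzy⟩
    have h1 : z' ∈ closure ({x₁'} : Set ↥(f ⁻¹' {y})) := by
      rw [closure_subtype, Set.image_singleton]
      exact hz
    rw [hx₁c.closure_eq] at h1
    exact congrArg Subtype.val h1

end Fibre

section Local

variable {X Y : Scheme.{u}} (f : X ⟶ Y) [IsProper f] [IsNoetherian Y]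

/-- uniform vanishing over the local ring at `y` -/
theorem local_vanish_ample (L : X.Modules) (hL : PicF.IsInvertible L) (y : Y)
    (hy : CohB1.IsAmple ((Scheme.Modules.pullback (f.fiberι y)).obj L))
    (M' : (XL f y).Modules) (hM' : Coh.IsCoh M') :
    ∃ d₀ : ℕ, ∀ d : ℕ, d₀ ≤ d → ∀ p : ℕ, 0 < p →
      Subsingleton (Coh.HH (XL f y) (CohB1.tensorMod M' (CohB1.tensorPow
        ((Scheme.Modules.pullback (pullback.fst f (Y.fromSpecStalk y))).obj L) d)) p) := by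
  let fst : XL f y ⟶ X := pullback.fst f (Y.fromSpecStalk y)
  have hL' : PicF.IsInvertible ((Scheme.Modules.pullback fst).obj L) :=
    TensH8.isInvertible_pullback fst hL
  let r : Spec (Y.residueField y) ⟶ Spec (Y.presheaf.stalk y) := Spec.map (Y.residue y)
  haveI : IsClosedImmersion r :=
    IsClosedImmersion.spec_of_surjective _ IsLocalRing.residue_surjective
  let ι' : pullback (pullback.snd f (Y.fromSpecStalk y)) r ⟶ XL f y := pullback.fst _ _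
  haveI : IsClosedImmersion ι' := inferInstanceAs (IsClosedImmersion (pullback.fst _ r))
  let e : pullback (pullback.snd f (Y.fromSpecStalk y)) r ≅ f.fiber y :=
    pullbackLeftPullbackSndIso f (Y.fromSpecStalk y) r
  have he : e.hom ≫ f.fiberι y = ι' ≫ fst :=
    pullbackLeftPullbackSndIso_hom_fst f (Y.fromSpecStalk y) r
  haveI : CompactSpace (XL f y) :=
    QuasiCompact.compactSpace_of_compactSpace (pullback.snd f (Y.fromSpecStalk y))
  haveI : CompactSpace ↥(pullback (pullback.snd f (Y.fromSpecStalk y)) r) :=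
    QuasiCompact.compactSpace_of_compactSpace ι'
  have hamp' : CohB1.IsAmple ((Scheme.Modules.pullback ι').obj
      ((Scheme.Modules.pullback fst).obj L)) := by
    have h1 := TensH8.isAmple_pullback_of_isAffineHom e.hom hy
    refine (TensH8.isAmple_congr ?_).mp h1
    exact (Scheme.Modules.pullbackComp e.hom (f.fiberι y)).app L ≪≫
      (Scheme.Modules.pullbackCongr he).app L ≪≫
      ((Scheme.Modules.pullbackComp ι' fst).app L).symm
  have hjac : RingHom.ker (Y.residue y).hom ≤ Ideal.jacobson ⊥ := by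
    have h1 : RingHom.ker (Y.residue y).hom = IsLocalRing.maximalIdeal (Y.presheaf.stalk y) :=
      IsLocalRing.ker_residue
    rw [h1]
    exact IsLocalRing.maximalIdeal_le_jacobson ⊥
  exact core_local (Y.presheaf.stalk y) (Y.residueField y) (Y.residue y).hom
    (XL f y) IsLocalRing.residue_surjective hjac M' hM' hL' hamp'

set_option maxHeartbeats 800000 in
/-- cohomology classes on `f⁻¹(V)` are killed by functions invertible on the fibre, as soon as the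
cohomology of the base change to the local ring vanishes -/
theorem exists_gL_smul {V : Y.Opens} (hV : IsAffineOpen V) {y : Y} (hy : y ∈ V) :
    ∃ g' : XL f y ⟶ ((f ⁻¹ᵁ V : X.Opens) : Scheme.{u}),
      g' ≫ (f ⁻¹ᵁ V).ι = pullback.fst f (Y.fromSpecStalk y) ∧
      ∀ (M₁ : ((f ⁻¹ᵁ V : X.Opens) : Scheme.{u}).Modules) (_ : Coh.IsCoh M₁) (q : ℕ)
        (_ : Subsingleton (Coh.HH (XL f y) ((Scheme.Modules.pullback g').obj M₁) q))
        (ξ : Coh.HH ((f ⁻¹ᵁ V : X.Opens) : Scheme.{u}) M₁ q),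
        ∃ r : Coh.Γtop ((f ⁻¹ᵁ V : X.Opens) : Scheme.{u}),
          (∀ x₂ : ((f ⁻¹ᵁ V : X.Opens) : Scheme.{u}), f ((f ⁻¹ᵁ V).ι x₂) = y →
            x₂ ∈ ((f ⁻¹ᵁ V : X.Opens) : Scheme.{u}).basicOpen
              (show Γ(((f ⁻¹ᵁ V : X.Opens) : Scheme.{u}), ⊤) from r)) ∧ r • ξ = 0 := by
  haveI : IsProper (f ∣_ V) := IsZariskiLocalAtTarget.restrict (P := @IsProper) inferInstance V
  -- the structure over `Spec Γ(Y, V)`
  letI ov : ((f ⁻¹ᵁ V : X.Opens) : Scheme.{u}).Over (Spec (CommRingCat.of Γ(Y, V))) :=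
    ⟨f ∣_ V ≫ hV.isoSpec.hom⟩
  haveI : IsProper (((f ⁻¹ᵁ V : X.Opens) : Scheme.{u}) ↘ Spec (CommRingCat.of Γ(Y, V))) :=
    inferInstanceAs (IsProper (f ∣_ V ≫ hV.isoSpec.hom))
  haveI : CompactSpace ((f ⁻¹ᵁ V : X.Opens) : Scheme.{u}) :=
    QuasiCompact.compactSpace_of_compactSpace
      (((f ⁻¹ᵁ V : X.Opens) : Scheme.{u}) ↘ Spec (CommRingCat.of Γ(Y, V)))
  haveI : QuasiSeparatedSpace ((f ⁻¹ᵁ V : X.Opens) : Scheme.{u}) :=
    quasiSeparatedSpace_of_quasiSeparated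
      (((f ⁻¹ᵁ V : X.Opens) : Scheme.{u}) ↘ Spec (CommRingCat.of Γ(Y, V)))
  -- the algebra structure
  letI alg : Algebra Γ(Y, V) (Y.presheaf.stalk y) :=
    TopCat.Presheaf.algebra_section_stalk Y.presheaf (⟨y, hy⟩ : V)
  haveI hloc : IsLocalization.AtPrime (Y.presheaf.stalk y)
      (hV.primeIdealOf ⟨y, hy⟩).asIdeal := hV.isLocalization_stalk ⟨y, hy⟩
  -- the pullback squares
  have hR : IsPullback (f ⁻¹ᵁ V).ι (f ∣_ V ≫ hV.isoSpec.hom) f hV.fromSpec :=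
    IsPullback.of_iso (isPullback_morphismRestrict f V).flip (Iso.refl _) (Iso.refl _)
      hV.isoSpec (Iso.refl _) (by simp) (by simp) (by simp) (by simp)
  have hbot : Y.fromSpecStalk y = Spec.map (Y.presheaf.germ V y hy) ≫ hV.fromSpec :=
    (hV.fromSpecStalk_eq_fromSpecStalk hy).symm
  have hcond : pullback.fst f (Y.fromSpecStalk y) ≫ f =
      (pullback.snd f (Y.fromSpecStalk y) ≫ Spec.map (Y.presheaf.germ V y hy)) ≫
        hV.fromSpec := by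
    rw [Category.assoc, ← hbot]
    exact pullback.condition
  obtain ⟨g', hg'⟩ : ∃ g' : XL f y ⟶ ((f ⁻¹ᵁ V : X.Opens) : Scheme.{u}),
      g' = hR.lift _ _ hcond := ⟨_, rfl⟩
  have hg1 : g' ≫ (f ⁻¹ᵁ V).ι = pullback.fst f (Y.fromSpecStalk y) := by
    rw [hg']; exact hR.lift_fst _ _ hcond
  have hg2 : g' ≫ (f ∣_ V ≫ hV.isoSpec.hom) =
      pullback.snd f (Y.fromSpecStalk y) ≫ Spec.map (Y.presheaf.germ V y hy) := by
    rw [hg']; exact hR.lift_snd _ _ hcond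
  have hBig : IsPullback (g' ≫ (f ⁻¹ᵁ V).ι) (pullback.snd f (Y.fromSpecStalk y)) f
      (Spec.map (Y.presheaf.germ V y hy) ≫ hV.fromSpec) := by
    rw [hg1, ← hbot]
    exact IsPullback.of_hasPullback f (Y.fromSpecStalk y)
  have hLsq : IsPullback g' (pullback.snd f (Y.fromSpecStalk y)) (f ∣_ V ≫ hV.isoSpec.hom)
      (Spec.map (Y.presheaf.germ V y hy)) :=
    IsPullback.of_right hBig hg2 hR
  refine ⟨g', hg1, fun M₁ hM₁ q hsub ξ => ?_⟩
  obtain ⟨b, hb𝔭, hb0⟩ := exists_smul_eq_zero' Γ(Y, V) (Y.presheaf.stalk y)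
    (hV.primeIdealOf ⟨y, hy⟩).asIdeal ((f ⁻¹ᵁ V : X.Opens) : Scheme.{u}) (XL f y) g' hLsq
    M₁ hM₁ q hsub ξ
  refine ⟨Coh.toGlobal (f ∣_ V ≫ hV.isoSpec.hom) b, fun x₂ hx₂ => ?_, hb0⟩
  obtain ⟨c, hc⟩ : ∃ c : Γ((V : Scheme.{u}), ⊤), c = (hV.isoSpec.hom.appTop).hom
      ((Scheme.ΓSpecIso (CommRingCat.of Γ(Y, V))).inv.hom b) := ⟨_, rfl⟩
  have hg : Coh.toGlobal (f ∣_ V ≫ hV.isoSpec.hom) b = (f ∣_ V).appTop.hom c := by
    rw [hc]
    show ((f ∣_ V ≫ hV.isoSpec.hom).appTop).hom _ = _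
    rw [Scheme.Hom.comp_appTop]
    rfl
  have hyc : (⟨y, hy⟩ : (V : Scheme.{u})) ∈ (V : Scheme.{u}).basicOpen c := by
    have h3 : (V : Scheme.{u}).basicOpen c = hV.isoSpec.hom ⁻¹ᵁ
        (Spec (CommRingCat.of Γ(Y, V))).basicOpen
          ((Scheme.ΓSpecIso (CommRingCat.of Γ(Y, V))).inv.hom b) := by
      rw [hc]
      exact (Scheme.preimage_basicOpen_top _ _).symm
    rw [h3]
    show hV.isoSpec.hom ⟨y, hy⟩ ∈ (Spec (CommRingCat.of Γ(Y, V))).basicOpen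
      ((Scheme.ΓSpecIso (CommRingCat.of Γ(Y, V))).inv.hom b)
    rw [basicOpen_eq_of_affine (R := CommRingCat.of Γ(Y, V)) b]
    exact hb𝔭
  have hx₂' : (f ∣_ V) x₂ = ⟨y, hy⟩ := by
    apply V.ι.isOpenEmbedding.injective
    have h1 : V.ι ((f ∣_ V) x₂) = f ((f ⁻¹ᵁ V).ι x₂) := by
      have := congrArg (fun φ : ((f ⁻¹ᵁ V : X.Opens) : Scheme.{u}) ⟶ Y => φ x₂)
        (morphismRestrict_ι f V)
      exact this
    rw [h1, hx₂]
    rfl
  show x₂ ∈ ((f ⁻¹ᵁ V : X.Opens) : Scheme.{u}).basicOpen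
    (Coh.toGlobal (f ∣_ V ≫ hV.isoSpec.hom) b)
  rw [hg, ← Scheme.preimage_basicOpen_top (f ∣_ V) c]
  show (f ∣_ V) x₂ ∈ (V : Scheme.{u}).basicOpen c
  rw [hx₂']
  exact hyc

/-- the `H¹`-classes of twists on `f⁻¹(V)` are killed by functions invertible on the fibre -/
theorem exists_smul_twist (L : X.Modules) (hL : PicF.IsInvertible L) (y : Y)
    (hy : CohB1.IsAmple ((Scheme.Modules.pullback (f.fiberι y)).obj L))
    {V : Y.Opens} (hV : IsAffineOpen V) (hyV : y ∈ V)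
    (K : ((f ⁻¹ᵁ V : X.Opens) : Scheme.{u}).Modules) (hK : Coh.IsCoh K) :
    ∃ d₀ : ℕ, ∀ d : ℕ, d₀ ≤ d → ∀ p : ℕ, 0 < p →
      ∀ ξ : Coh.HH ((f ⁻¹ᵁ V : X.Opens) : Scheme.{u})
        (CohB1.tensorMod K (CohB1.tensorPow (L.restrict (f ⁻¹ᵁ V).ι) d)) p,
        ∃ r : Coh.Γtop ((f ⁻¹ᵁ V : X.Opens) : Scheme.{u}),
          (∀ x₂ : ((f ⁻¹ᵁ V : X.Opens) : Scheme.{u}), f ((f ⁻¹ᵁ V).ι x₂) = y →
            x₂ ∈ ((f ⁻¹ᵁ V : X.Opens) : Scheme.{u}).basicOpen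
              (show Γ(((f ⁻¹ᵁ V : X.Opens) : Scheme.{u}), ⊤) from r)) ∧ r • ξ = 0 := by
  obtain ⟨g', hg1, hcore⟩ := exists_gL_smul f hV hyV
  have hL₂ : PicF.IsInvertible (L.restrict (f ⁻¹ᵁ V).ι) :=
    TensH8.isInvertible_restrict (f ⁻¹ᵁ V).ι hL
  have hM' : Coh.IsCoh ((Scheme.Modules.pullback g').obj K) :=
    Groth.Agent.Lib.ConsModH2.isCoh_pullback g' K hK
  obtain ⟨d₀, hd₀⟩ := local_vanish_ample f L hL y hy _ hM'
  refine ⟨d₀, fun d hd p hp ξ => ?_⟩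
  have hcoh : Coh.IsCoh (CohB1.tensorMod K (CohB1.tensorPow (L.restrict (f ⁻¹ᵁ V).ι) d)) :=
    RelAmpleVanH9.isCoh_tensorMod hK
      (ProperFinH9.isCoh_of_isInvertible (TensH8.isInvertible_tensorPow hL₂ d))
  refine hcore _ hcoh p ?_ ξ
  obtain ⟨e3⟩ := nonempty_pullback_tensorPow_iso g' K hL₂ d
  have eL : (Scheme.Modules.pullback g').obj (L.restrict (f ⁻¹ᵁ V).ι) ≅
      (Scheme.Modules.pullback (pullback.fst f (Y.fromSpecStalk y))).obj L :=
    (Scheme.Modules.pullback g').mapIso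
        ((Scheme.Modules.restrictFunctorIsoPullback (f ⁻¹ᵁ V).ι).app L) ≪≫
      (Scheme.Modules.pullbackComp g' (f ⁻¹ᵁ V).ι).app L ≪≫
      (Scheme.Modules.pullbackCongr hg1).app L
  obtain ⟨eP⟩ := TensPowH9.tensorPow_congr eL d
  exact Groth.Agent.HHVan.subsingleton_of_iso
    (mapL ((Scheme.Modules.pullback g').obj K) eP.symm ≪≫ e3) p (hd₀ d hd p hp)

end Local

end Groth.Agent.Lib.SpreadH2
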