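import Mathlib
import Groth.Prelude
import Groth.Agent.Lib.Spread2_helper2

/-!
# Ampleness on a fibre spreads to a neighbourhood, part 2 (helper2)
APPEND-ONLY once landed.
-/

set_option autoImplicit false
universe u
open CategoryTheory CategoryTheory.Limits AlgebraicGeometry TopologicalSpace Opposite

namespace Groth.Agent.Lib.SpreadH2

open TensH8 QcqsLoc GenLocH8 FLFH8 QCohExtn PBH8 SerreCrit GGH8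
open Groth.Agent.Lib.FibAmpH2 Groth.Agent.Lib.FibDimH2 Groth.Agent.TensInv

section Main

variable {X Y : Scheme.{u}} (f : X ⟶ Y) [IsProper f] [IsNoetherian Y]

set_option maxHeartbeats 800000 in
/-- a point closed in the fibre lies in an affine `X_s`, `s` a section of a power of `L` over the
preimage of an affine neighbourhood of `y` -/
theorem exists_section_at (L : X.Modules) (hL : PicF.IsInvertible L) (y : Y)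
    (hy : CohB1.IsAmple ((Scheme.Modules.pullback (f.fiberι y)).obj L)) (x : X) (hx : f x = y)
    (hxc : ∀ z ∈ closure ({x} : Set X), f z = y → z = x) :
    ∃ V₂ : Y.Opens, IsAffineOpen V₂ ∧ y ∈ V₂ ∧ ∃ (n : ℕ)
      (σ : Γ(CohB1.tensorPow L (n + 1), (f ⁻¹ᵁ V₂).ι ''ᵁ ⊤)) (O : X.Opens),
      IsAffineOpen O ∧ x ∈ O ∧ O ≤ f ⁻¹ᵁ V₂ ∧ HasLocus (Frame.pow L (n + 1)) σ O := by
  haveI : IsLocallyNoetherian X := LocallyOfFiniteType.isLocallyNoetherian f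
  obtain ⟨V₀, hV₀, hyV₀, -⟩ : ∃ V₀ : Y.Opens, IsAffineOpen V₀ ∧ y ∈ V₀ ∧ V₀ ≤ ⊤ :=
    Opens.isBasis_iff_nbhd.mp Y.isBasis_affineOpens (Opens.mem_top y)
  have hxV₀ : x ∈ f ⁻¹ᵁ V₀ := by
    show f x ∈ V₀
    rw [hx]
    exact hyV₀
  obtain ⟨U, hU, hxU, hUV, e, he⟩ := exists_isGen_le hL x (f ⁻¹ᵁ V₀) hxV₀
  -- the part of the closure of `x` outside `U` maps to a closed set missing `y`
  have hCc : IsClosed (closure ({x} : Set X) ∩ (U : Set X)ᶜ) :=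
    isClosed_closure.inter U.isOpen.isClosed_compl
  have hfC : IsClosed (f '' (closure ({x} : Set X) ∩ (U : Set X)ᶜ)) :=
    f.isProperMap.isClosedMap _ hCc
  have hyC : y ∉ f '' (closure ({x} : Set X) ∩ (U : Set X)ᶜ) := by
    rintro ⟨z, ⟨hz, hzU⟩, hzy⟩
    have := hxc z hz hzy
    exact hzU (this ▸ hxU)
  obtain ⟨b, hbV, hyb⟩ := hV₀.exists_basicOpen_le
    (V := ⟨(f '' (closure ({x} : Set X) ∩ (U : Set X)ᶜ))ᶜ, hfC.isOpen_compl⟩) ⟨y, hyC⟩ hyV₀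
  obtain ⟨V₂, hV₂def⟩ : ∃ V₂ : Y.Opens, V₂ = Y.basicOpen b := ⟨_, rfl⟩
  have hV₂ : IsAffineOpen V₂ := hV₂def ▸ hV₀.basicOpen b
  have hyV₂ : y ∈ V₂ := hV₂def ▸ hyb
  have hV₂V₀ : V₂ ≤ V₀ := hV₂def ▸ Y.basicOpen_le b
  have hV₂C : ∀ z : X, f z ∈ V₂ → z ∈ closure ({x} : Set X) → z ∈ U := by
    intro z hz hzc
    by_contra hzU
    have h1 : f z ∈ Y.basicOpen b := hV₂def ▸ hz
    exact hbV h1 ⟨z, ⟨hzc, hzU⟩, rfl⟩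
  refine ⟨V₂, hV₂, hyV₂, ?_⟩
  -- pass to the open subscheme
  have hL₂ : PicF.IsInvertible (L.restrict (f ⁻¹ᵁ V₂).ι) :=
    TensH8.isInvertible_restrict (f ⁻¹ᵁ V₂).ι hL
  have hxV₂ : x ∈ f ⁻¹ᵁ V₂ := by
    show f x ∈ V₂
    rw [hx]
    exact hyV₂
  obtain ⟨x₂, hx₂⟩ : ∃ x₂ : ((f ⁻¹ᵁ V₂ : X.Opens) : Scheme.{u}), x₂ = ⟨x, hxV₂⟩ := ⟨_, rfl⟩
  have hjx₂ : (f ⁻¹ᵁ V₂).ι x₂ = x := by rw [hx₂]; rfl
  have himg : (f ⁻¹ᵁ V₂).ι ''ᵁ ((f ⁻¹ᵁ V₂).ι ⁻¹ᵁ U) = U ⊓ f ⁻¹ᵁ V₂ := by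
    rw [Scheme.Hom.image_preimage_eq_opensRange_inf, Scheme.Opens.opensRange_ι, inf_comm]
  have hU₂ : IsAffineOpen ((f ⁻¹ᵁ V₂).ι ⁻¹ᵁ U) := by
    rw [← (f ⁻¹ᵁ V₂).ι.isAffineOpen_iff_of_isOpenImmersion, himg]
    exact isAffineOpen_inf_preimage f hU hV₀ hV₂ hV₂V₀ hUV
  have hW' : (f ⁻¹ᵁ V₂).ι ''ᵁ ((f ⁻¹ᵁ V₂).ι ⁻¹ᵁ U) ≤ U := by
    rw [himg]
    exact inf_le_left
  have he₂ := WDivShH8.isGen_restrict L (f ⁻¹ᵁ V₂) he ((f ⁻¹ᵁ V₂).ι ⁻¹ᵁ U) hW'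
  have hcl : closure ({x₂} : Set ((f ⁻¹ᵁ V₂ : X.Opens) : Scheme.{u})) ⊆
      (((f ⁻¹ᵁ V₂).ι ⁻¹ᵁ U : ((f ⁻¹ᵁ V₂ : X.Opens) : Scheme.{u}).Opens) :
        Set ((f ⁻¹ᵁ V₂ : X.Opens) : Scheme.{u})) := by
    intro z₂ hz₂
    have h1 : (f ⁻¹ᵁ V₂).ι z₂ ∈ closure ({x} : Set X) := by
      have h2 := image_closure_subset_closure_image (f ⁻¹ᵁ V₂).ι.continuous
        (Set.mem_image_of_mem _ hz₂)
      rw [Set.image_singleton, hjx₂] at h2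
      exact h2
    exact hV₂C _ z₂.2 h1
  obtain ⟨n, s₂, hxs, haff⟩ := exists_genLocus_of_smul hL₂ _ hU₂ _ he₂ x₂ hcl
    (fun I i hi hI => by
      haveI := hi
      obtain ⟨d₀, hd₀⟩ := exists_smul_twist f L hL y hy hV₂ hyV₂ I
        (RelAmpleVanH9.isCoh_of_mono_structureModule I i hI)
      refine ⟨d₀, fun ξ => ?_⟩
      obtain ⟨r, hr, hrξ⟩ := hd₀ (d₀ + 1) (Nat.le_succ d₀) 1 Nat.one_pos ξ
      exact ⟨r, hr x₂ (by rw [hjx₂]; exact hx), hrξ⟩)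
  -- transfer to `X`
  have hloc := hasLocus_val (Frame.pow (L.restrict (f ⁻¹ᵁ V₂).ι) (n + 1)) s₂ ⊤
  rw [inf_top_eq] at hloc
  obtain ⟨σ'', hloc''⟩ := hloc.change_frame hL₂
    (Frame.pow (L.restrict (f ⁻¹ᵁ V₂).ι) (n + 1))
    ((Frame.pow L (n + 1)).restrict (f ⁻¹ᵁ V₂).ι) _
  refine ⟨n, σ'', (f ⁻¹ᵁ V₂).ι ''ᵁ (CohB1.genLocus _ s₂),
    haff.image_of_isOpenImmersion (f ⁻¹ᵁ V₂).ι, ⟨x₂, hxs, hjx₂⟩, ?_,
    (hasLocus_restrict_iff (f ⁻¹ᵁ V₂).ι (Frame.pow L (n + 1)) σ'' _).mp hloc''⟩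
  rintro _ ⟨z, -, rfl⟩
  exact z.2

/-- **S0054**. -/
theorem main0054 (L : X.Modules) (hL : PicF.IsInvertible L) (y : Y)
    (hy : CohB1.IsAmple ((Scheme.Modules.pullback (f.fiberι y)).obj L)) :
    ∃ V : Y.Opens, y ∈ V ∧ ∀ W : Y.Opens, W ≤ V → IsAffineOpen W →
      CohB1.IsAmple (L.restrict (f ⁻¹ᵁ W).ι) := by
  classical
  have key : ∀ x : X, f x = y → ∃ V₂ : Y.Opens, IsAffineOpen V₂ ∧ y ∈ V₂ ∧ ∃ (n : ℕ)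
      (σ : Γ(CohB1.tensorPow L (n + 1), (f ⁻¹ᵁ V₂).ι ''ᵁ ⊤)) (O : X.Opens),
      IsAffineOpen O ∧ x ∈ O ∧ O ≤ f ⁻¹ᵁ V₂ ∧ HasLocus (Frame.pow L (n + 1)) σ O := by
    intro x hx
    obtain ⟨x₁, hx₁, hsp, hc⟩ := exists_closed_in_fibre f y x hx
    obtain ⟨V₂, hV₂, hyV₂, n, σ, O, hO, hx₁O, hOV, hloc⟩ :=
      exists_section_at f L hL y hy x₁ hx₁ hc
    exact ⟨V₂, hV₂, hyV₂, n, σ, O, hO, hsp.mem_open O.isOpen hx₁O, hOV, hloc⟩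
  have hF : IsCompact (f ⁻¹' {y}) := f.isProperMap.isCompact_preimage isCompact_singleton
  choose V₂ hV₂ hyV₂ n σ O hO hxO hOV hloc using key
  obtain ⟨t, ht⟩ := hF.elim_finite_subcover
    (fun p : ↥(f ⁻¹' {y}) => ((O p.1 p.2 : X.Opens) : Set X))
    (fun p => (O p.1 p.2).isOpen)
    (fun x hx => Set.mem_iUnion.mpr ⟨⟨x, hx⟩, hxO x hx⟩)
  obtain ⟨𝒪, h𝒪def⟩ : ∃ 𝒪 : Set X, 𝒪 = ⋃ p ∈ t, ((O p.1 p.2 : X.Opens) : Set X) := ⟨_, rfl⟩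
  have h𝒪 : IsOpen 𝒪 := by
    rw [h𝒪def]
    exact isOpen_biUnion (fun p _ => (O p.1 p.2).isOpen)
  have hC : IsClosed (f '' 𝒪ᶜ) := f.isProperMap.isClosedMap _ h𝒪.isClosed_compl
  have hyC : y ∉ f '' 𝒪ᶜ := by
    rintro ⟨z, hz, hzy⟩
    apply hz
    rw [h𝒪def]
    exact ht hzy
  have hI : IsOpen (⋂ p ∈ t, ((V₂ p.1 p.2 : Y.Opens) : Set Y)) :=
    isOpen_biInter_finset (fun p _ => (V₂ p.1 p.2).isOpen)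
  refine ⟨⟨(⋂ p ∈ t, ((V₂ p.1 p.2 : Y.Opens) : Set Y)) ∩ (f '' 𝒪ᶜ)ᶜ,
    hI.inter hC.isOpen_compl⟩, ⟨?_, hyC⟩, fun W hWV hW => ?_⟩
  · exact Set.mem_iInter₂.mpr (fun p _ => hyV₂ p.1 p.2)
  · rw [isAmple_restrict_ι_iff hL]
    refine ⟨QuasiCompact.isCompact_preimage (f := f) _ W.isOpen hW.isCompact, fun x hx => ?_⟩
    have hfx := hWV hx
    have hx𝒪 : x ∈ 𝒪 := by
      by_contra h
      exact hfx.2 ⟨x, h, rfl⟩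
    rw [h𝒪def] at hx𝒪
    obtain ⟨p, hpt, hxp⟩ := Set.mem_iUnion₂.mp hx𝒪
    have hWp : W ≤ V₂ p.1 p.2 := fun z hz => Set.mem_iInter₂.mp (hWV hz).1 p hpt
    have hle : f ⁻¹ᵁ W ≤ (f ⁻¹ᵁ V₂ p.1 p.2).ι ''ᵁ ⊤ := by
      rw [Scheme.Opens.ι_image_top]
      exact f.preimage_mono hWp
    refine ⟨n p.1 p.2, rF _ hle (σ p.1 p.2), O p.1 p.2 ⊓ f ⁻¹ᵁ W, ?_, ⟨hxp, hx⟩,
      inf_le_right, ?_⟩
    · exact isAffineOpen_inf_preimage f (hO _ _) (hV₂ _ _) hW hWp (hOV _ _)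
    · have h1 := HasLocus.res _ (σ p.1 p.2) (hloc p.1 p.2) hle
      intro W₁ hW₁ e₁ he₁
      rw [inf_assoc, inf_eq_right.mpr hW₁]
      exact h1 W₁ hW₁ e₁ he₁

end Main

end Groth.Agent.Lib.SpreadH2
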