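import Mathlib
import Groth.Prelude
import Groth.Agent.Lib.ConsMM4_helper6
import Groth.Agent.Lib.LimAmp9_helper6
import Groth.Agent.Lib.Spread3_helper2

/-!
# Fibrewise ampleness for proper morphisms over a Noetherian base (helper6)
APPEND-ONLY once landed.

* `isAffineHom_of_subsingleton`: morphisms from one-point schemes are affine.
* `ampleFibreLocus`, `isAmple_fibre_of_isAmpleOn`, `isOpen_ampleFibreLocus`.
-/

set_option autoImplicit false
set_option linter.all false

namespace Groth.Agent.Lib.ConsMMH6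

open AlgebraicGeometry CategoryTheory CategoryTheory.Limits TopologicalSpace Opposite Topology
open QcqsLoc GenLocH8 FLFH8 QCohExtn TensH8 PBH8
open Groth.Agent.Lib.ConsPropH7 Groth.Agent.Lib.LimAmpH6

universe u

/-- A morphism from a one-point scheme is affine. -/
theorem isAffineHom_of_subsingleton {T Y : Scheme.{u}} [Nonempty T] [Subsingleton T] (h : T ⟶ Y) :
    IsAffineHom h := by
  haveI : IsAffine T := isAffine_of_subsingleton T
  refine ⟨fun U hU => ?_⟩
  by_cases hne : ∃ t : T, t ∈ h ⁻¹ᵁ U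
  · obtain ⟨t, ht⟩ := hne
    have : h ⁻¹ᵁ U = ⊤ := by
      ext x
      simp only [Opens.coe_top, Set.mem_univ, iff_true]
      rw [Subsingleton.elim x t]
      exact ht
    rw [this]
    exact isAffineOpen_top T
  · have : h ⁻¹ᵁ U = ⊥ := by
      ext x
      simp only [Opens.coe_bot, Set.mem_empty_iff_false, iff_false]
      exact fun hx => hne ⟨x, hx⟩
    rw [this]
    exact isAffineOpen_bot T

instance isAffineHom_fromSpecResidueField (Y : Scheme.{u}) (y : Y) :
    IsAffineHom (Y.fromSpecResidueField y) :=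
  isAffineHom_of_subsingleton _

instance isAffineHom_fiberι {X Y : Scheme.{u}} (f : X ⟶ Y) (y : Y) : IsAffineHom (f.fiberι y) :=
  MorphismProperty.pullback_fst (P := @IsAffineHom) f (Y.fromSpecResidueField y) inferInstance

/-- The set of points of the base over which the pullback of `L` to the fibre is ample. -/
def ampleFibreLocus {X Y : Scheme.{u}} (f : X ⟶ Y) (L : X.Modules) : Set Y :=
  {y | CohB1.IsAmple ((Scheme.Modules.pullback (f.fiberι y)).obj L)}

/-- Ampleness over an open containing `y` restricts to ampleness on the fibre over `y`. -/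
theorem isAmple_fibre_of_isAmpleOn {X Y : Scheme.{u}} (f : X ⟶ Y) [QuasiCompact f]
    {L : X.Modules} (hL : PicF.IsInvertible L) (W : Y.Opens) (y : Y) (hy : y ∈ W)
    (h : IsAmpleOn L (f ⁻¹ᵁ W)) : y ∈ ampleFibreLocus f L := by
  have htop : f.fiberι y ⁻¹ᵁ (f ⁻¹ᵁ W) = ⊤ := by
    ext x
    simp only [Opens.coe_top, Set.mem_univ, iff_true]
    show f (f.fiberι y x) ∈ W
    have h1 : f (f.fiberι y x) = y := by
      have h2 : f.fiberι y x ∈ Set.range (f.fiberι y) := ⟨x, rfl⟩
      rw [Scheme.Hom.range_fiberι] at h2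
      exact h2
    rw [h1]
    exact hy
  haveI : CompactSpace ↥(f.fiber y) := inferInstance
  have h1 := isAmpleOn_pullback_of_isAffineHom (f.fiberι y) hL h
    (by rw [htop]; simpa using isCompact_univ (X := ↥(f.fiber y)))
  rw [htop] at h1
  exact (isAmple_iff_isAmpleOn_top (isInvertible_pullback _ hL)).mpr h1

/-- For a proper morphism to a Noetherian scheme, the locus of ample fibres is open. -/
theorem isOpen_ampleFibreLocus {X Y : Scheme.{u}} (f : X ⟶ Y) [IsProper f] [IsNoetherian Y]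
    {L : X.Modules} (hL : PicF.IsInvertible L) : IsOpen (ampleFibreLocus f L) := by
  rw [isOpen_iff_forall_mem_open]
  intro y hy
  obtain ⟨V, hyV, hV⟩ := Groth.Agent.Lib.SpreadH2.main0054 f L hL y hy
  refine ⟨V, fun y' hy' => ?_, V.isOpen, hyV⟩
  obtain ⟨_, ⟨W, hW, rfl⟩, hy'W, hWV⟩ :=
    Y.isBasis_affineOpens.exists_subset_of_mem_open hy' V.isOpen
  exact isAmple_fibre_of_isAmpleOn f hL W y' hy'W
    ((isAmple_restrict_ι_iff hL _).mp (hV W hWV hW))

/-- For a proper morphism to a Noetherian scheme, `L` is relatively ample over any open contained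
in the locus of ample fibres. -/
theorem isRelAmple_morphismRestrict_of_le {X Y : Scheme.{u}} (f : X ⟶ Y) [IsProper f]
    [IsNoetherian Y] {L : X.Modules} (hL : PicF.IsInvertible L) (U : Y.Opens)
    (hU : (U : Set Y) ⊆ ampleFibreLocus f L) :
    RelAmple.IsRelAmple (f ∣_ U) (L.restrict (f ⁻¹ᵁ U).ι) := by
  have hL' := isInvertible_restrict (f ⁻¹ᵁ U).ι hL
  haveI : QuasiCompact (f ∣_ U) := inferInstance
  apply isRelAmple_of_local _ hL'
  intro y
  obtain ⟨V, hyV, hV⟩ := Groth.Agent.Lib.SpreadH2.main0054 f L hL y.1 (hU y.2)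
  refine ⟨U.ι ⁻¹ᵁ V, hyV, fun V' hV' => ?_⟩
  rw [isAmpleOn_restrict_iff (f ⁻¹ᵁ U).ι hL, image_morphismRestrict_preimage]
  have hW : IsAffineOpen (U.ι ''ᵁ V'.1) := V'.2.image_of_isOpenImmersion U.ι
  have hle : U.ι ''ᵁ V'.1 ≤ V := by
    rintro _ ⟨z, hz, rfl⟩
    exact hV' hz
  exact (isAmple_restrict_ι_iff hL _).mp (hV _ hle hW)

/-- If `L_s` is ample relative to the fibre morphism `f_s : X_s ⟶ Y_s` over `s = g y`, then the
fibre of `f` over `y` carries the ample pullback of `L`. -/
theorem mem_ampleFibreLocus_of_isRelAmple_fiber {X Y S : Scheme.{u}} (f : X ⟶ Y) (g : Y ⟶ S)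
    {L : X.Modules} (y : Y)
    (h : RelAmple.IsRelAmple (MoreMor.fiberMap f g (g y))
      ((Scheme.Modules.pullback ((f ≫ g).fiberι (g y))).obj L)) : y ∈ ampleFibreLocus f L := by
  haveI : QuasiCompact (MoreMor.fiberMap f g (g y)) := h.1
  have wz : Y.fromSpecResidueField y ≫ g =
      Spec.map (g.residueFieldMap y) ≫ S.fromSpecResidueField (g y) :=
    (Scheme.Hom.SpecMap_residueFieldMap_fromSpecResidueField g y).symm
  obtain ⟨z, hz1, hz2⟩ : ∃ z : Spec (Y.residueField y) ⟶ g.fiber (g y),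
      z ≫ g.fiberι (g y) = Y.fromSpecResidueField y ∧
      z ≫ g.fiberToSpecResidueField (g y) = Spec.map (g.residueFieldMap y) :=
    ⟨pullback.lift _ _ wz, pullback.lift_fst _ _ _, pullback.lift_snd _ _ _⟩
  have hbig : IsPullback (f.fiberι y) (f.fiberToSpecResidueField y) f
      (Y.fromSpecResidueField y) := IsPullback.of_hasPullback f (Y.fromSpecResidueField y)
  have hright := isPullback_fiberMap f g (g y)
  have ww : f.fiberι y ≫ f = (f.fiberToSpecResidueField y ≫ z) ≫ g.fiberι (g y) := by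
    rw [Category.assoc, hz1]
    exact hbig.w
  obtain ⟨w, hw1, hw2⟩ : ∃ w : f.fiber y ⟶ (f ≫ g).fiber (g y),
      w ≫ (f ≫ g).fiberι (g y) = f.fiberι y ∧
      w ≫ MoreMor.fiberMap f g (g y) = f.fiberToSpecResidueField y ≫ z :=
    ⟨hright.lift _ _ ww, hright.lift_fst _ _ _, hright.lift_snd _ _ _⟩
  have hleft : IsPullback w (f.fiberToSpecResidueField y) (MoreMor.fiberMap f g (g y)) z := by
    refine IsPullback.of_right ?_ hw2 hright
    rw [hw1, hz1]
    exact hbig
  have h1 := Groth.Agent.Lib.TwBCH6.isRelAmple_of_isPullback _ z w _ hleft h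
  have h2 := isAmple_of_isRelAmple_of_isAffine _ h1
  exact (isAmple_congr (pullbackCompIso w _ _ hw1 L)).mp h2

/-- For `f` proper over a Noetherian `Y`: if all fibres of `f` over the points of `Y_s` carry
ample pullbacks of `L`, then `L_s` is ample relative to `f_s : X_s ⟶ Y_s`. -/
theorem isRelAmple_fiber_of_forall_mem {X Y S : Scheme.{u}} (f : X ⟶ Y) (g : Y ⟶ S) [IsProper f]
    [IsNoetherian Y] {L : X.Modules} (hL : PicF.IsInvertible L) (s : S)
    (hall : ∀ y : Y, g y = s → y ∈ ampleFibreLocus f L) :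
    RelAmple.IsRelAmple (MoreMor.fiberMap f g s)
      ((Scheme.Modules.pullback ((f ≫ g).fiberι s)).obj L) := by
  obtain ⟨U, hUdef⟩ : ∃ U : Y.Opens, (U : Set Y) = ampleFibreLocus f L :=
    ⟨⟨ampleFibreLocus f L, isOpen_ampleFibreLocus f hL⟩, rfl⟩
  have hrel := isRelAmple_morphismRestrict_of_le f hL U hUdef.le
  have hrange : Set.range (g.fiberι s) ⊆ Set.range U.ι := by
    rw [Scheme.Hom.range_fiberι, Scheme.Opens.range_ι, hUdef]
    intro y hy
    exact hall y hy
  obtain ⟨k, hk⟩ : ∃ k : g.fiber s ⟶ (U : Scheme.{u}), k ≫ U.ι = g.fiberι s :=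
    ⟨IsOpenImmersion.lift U.ι (g.fiberι s) hrange, IsOpenImmersion.lift_fac _ _ _⟩
  have hres := (isPullback_morphismRestrict f U).flip
  have hbig := isPullback_fiberMap f g s
  have wm : (f ≫ g).fiberι s ≫ f = (MoreMor.fiberMap f g s ≫ k) ≫ U.ι := by
    rw [Category.assoc, hk]
    exact hbig.w
  obtain ⟨m, hm1, hm2⟩ : ∃ m : (f ≫ g).fiber s ⟶ ((f ⁻¹ᵁ U : X.Opens) : Scheme.{u}),
      m ≫ (f ⁻¹ᵁ U).ι = (f ≫ g).fiberι s ∧ m ≫ (f ∣_ U) = MoreMor.fiberMap f g s ≫ k :=
    ⟨hres.lift _ _ wm, hres.lift_fst _ _ _, hres.lift_snd _ _ _⟩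
  have hleft : IsPullback m (MoreMor.fiberMap f g s) (f ∣_ U) k := by
    refine IsPullback.of_right ?_ hm2 hres
    rw [hm1, hk]
    exact hbig
  haveI : QuasiCompact (f ∣_ U) := inferInstance
  have h1 := Groth.Agent.Lib.TwBCH6.isRelAmple_of_isPullback (f ∣_ U) k m _ hleft hrel
  refine (isRelAmple_congr _ ?_).mp h1
  exact (Scheme.Modules.pullback m).mapIso
      ((Scheme.Modules.restrictFunctorIsoPullback (f ⁻¹ᵁ U).ι).app L) ≪≫
    pullbackCompIso m (f ⁻¹ᵁ U).ι _ hm1 L

/-- **Over a Noetherian base and for `f` proper, the locus where `L_s` is ample relative to `f_s`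
is constructible.** -/
theorem isConstructible_locus_amp_noeth {X Y S : Scheme.{u}} (f : X ⟶ Y) (g : Y ⟶ S)
    [IsNoetherian S] [LocallyOfFiniteType g] [QuasiCompact g] [IsProper f]
    {L : X.Modules} (hL : PicF.IsInvertible L) :
    IsConstructible (locusMM (fun X Y T f g L => RelAmple.IsRelAmple f L) f g L) := by
  haveI : IsLocallyNoetherian Y := LocallyOfFiniteType.isLocallyNoetherian g
  haveI : CompactSpace Y := QuasiCompact.compactSpace_of_compactSpace g
  haveI : IsNoetherian Y := {}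
  haveI : LocallyOfFinitePresentation g := inferInstance
  have hE : locusMM (fun X Y T f g L => RelAmple.IsRelAmple f L) f g L =
      (g '' (ampleFibreLocus f L)ᶜ)ᶜ := by
    ext s
    simp only [Set.mem_compl_iff, Set.mem_image, not_exists, not_and, not_not]
    constructor
    · intro hs y hy hgy
      subst hgy
      exact hy (mem_ampleFibreLocus_of_isRelAmple_fiber f g y hs)
    · intro hs
      apply isRelAmple_fiber_of_forall_mem f g hL s
      intro y hgy
      by_contra hy
      exact hs y hy hgy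
  rw [hE]
  exact (g.isConstructible_image
    (isConstructible_of_isClosed_noeth (isOpen_ampleFibreLocus f hL).isClosed_compl)).compl

end Groth.Agent.Lib.ConsMMH6
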