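import Mathlib
import Groth.Prelude
import Groth.Agent.Lib.ConsMM5_helper6
import Groth.Agent.Lib.ConsFib6_helper7

/-!
# The locus of relatively ample fibres for a proper morphism is locally constructible (helper6)
APPEND-ONLY once landed.

* `exists_noetherian_model_mm_of`: Noetherian models of `X ⟶ Y ⟶ S`, `S` affine, with an invertible
  module on `X`, retaining a property of `f` which spreads out from cofiltered limits.
* `main4822`.
-/

set_option autoImplicit false
set_option linter.all false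

namespace Groth.Agent.Lib.ConsMMH6

open AlgebraicGeometry CategoryTheory CategoryTheory.Limits TopologicalSpace Opposite Topology
open QcqsLoc GenLocH8 FLFH8 QCohExtn TensH8 PBH8
open Groth.Agent.Lib.ConsPairH7 Groth.Agent.Lib.ConsPropH7 Groth.Agent.Lib.LimDescFPH7
open Groth.Agent.Lib.LimAmpH6 Groth.Agent.Lib.ConsQPH6 Groth.Agent.Lib.LimBaseChangeH7
open Set.Notation

universe u

/-- descent of a finitely presented pair with an invertible module over `Spec A` to a Noetherian
base, keeping a property `Q` of `f` that spreads out from cofiltered limits -/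
theorem exists_noetherian_model_mm_of (Q : MorphismProperty Scheme.{u}) (hQdesc : DescendsIn Q)
    (A : Type u) [CommRing A] {X Y : Scheme.{u}} (f : X ⟶ Y)
    (g : Y ⟶ Spec (CommRingCat.of A))
    [LocallyOfFinitePresentation g] [QuasiCompact g] [QuasiSeparated g]
    [LocallyOfFinitePresentation (f ≫ g)] [QuasiCompact (f ≫ g)] [QuasiSeparated (f ≫ g)]
    (L : X.Modules) (hL : PicF.IsInvertible L) (hQ : Q f) :
    ∃ (S₀ X₀ Y₀ : Scheme.{u}) (_ : IsNoetherian S₀) (f₀ : X₀ ⟶ Y₀) (g₀ : Y₀ ⟶ S₀)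
      (h : Spec (CommRingCat.of A) ⟶ S₀) (qX : X ⟶ X₀) (qY : Y ⟶ Y₀) (L₀ : X₀.Modules),
      LocallyOfFiniteType g₀ ∧ QuasiCompact g₀ ∧ LocallyOfFiniteType (f₀ ≫ g₀) ∧
        QuasiCompact (f₀ ≫ g₀) ∧ IsPullback qY g g₀ h ∧ IsPullback qX f f₀ qY ∧
        PicF.IsInvertible L₀ ∧ Nonempty (L ≅ (Scheme.Modules.pullback qX).obj L₀) ∧ Q f₀ := by
  letI : Algebra (ULift.{u} ℤ) A := ULift.algebra' ℤ A
  haveI : ∀ i, CompactSpace ((DS (ULift.{u} ℤ) A).obj i) := fun i => inferInstance
  haveI : ∀ i, QuasiSeparatedSpace ((DS (ULift.{u} ℤ) A).obj i) := fun i => inferInstance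
  let g' : Y ⟶ (coneS (ULift.{u} ℤ) A).pt := g
  haveI : LocallyOfFinitePresentation g' := ‹LocallyOfFinitePresentation g›
  haveI : QuasiCompact g' := ‹QuasiCompact g›
  haveI : QuasiSeparated g' := ‹QuasiSeparated g›
  haveI : LocallyOfFinitePresentation (f ≫ g') := ‹LocallyOfFinitePresentation (f ≫ g)›
  haveI : QuasiCompact (f ≫ g') := ‹QuasiCompact (f ≫ g)›
  haveI : QuasiSeparated (f ≫ g') := ‹QuasiSeparated (f ≫ g)›
  obtain ⟨i, Xi, Yi, fi, gi, qX, qY, h1, h2, h3, h4, h5, h6⟩ :=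
    exists_descend_pair (DS (ULift.{u} ℤ) A) (coneS (ULift.{u} ℤ) A)
      (isLimitConeS (ULift.{u} ℤ) A) f g'
  haveI := h1
  haveI := h2
  haveI := h3
  haveI := h4
  haveI := isNoetherian_stage A i
  haveI : IsLocallyNoetherian Xi := LocallyOfFiniteType.isLocallyNoetherian (fi ≫ gi)
  haveI : CompactSpace Xi := QuasiCompact.compactSpace_of_compactSpace (fi ≫ gi)
  haveI : QuasiSeparatedSpace Xi := inferInstance
  have hXY : IsPullback qX (f ≫ g') (fi ≫ gi) ((coneS (ULift.{u} ℤ) A).π.app i) :=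
    h6.paste_vert h5
  obtain ⟨j, -, Lj, hLj, ⟨α⟩⟩ := exists_invertible_stage
    (bcDiagram (DS (ULift.{u} ℤ) A) i (fi ≫ gi)) (bcCone (coneS (ULift.{u} ℤ) A) hXY)
    (isLimitBcCone (coneS (ULift.{u} ℤ) A) hXY (isLimitConeS (ULift.{u} ℤ) A))
    (Over.mk (𝟙 i)) L hL
  obtain ⟨f₁, qY₁, qX₁, hf₁snd, hsq₁, hsqY, hqX₁, hsqX⟩ :=
    exists_stage_pair (DS (ULift.{u} ℤ) A) (coneS (ULift.{u} ℤ) A) i fi gi f g' qY qX h5 h6 j
  have α' : L ≅ (Scheme.Modules.pullback qX₁).obj Lj := by
    subst hqX₁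
    exact α.symm
  -- the stage `j`
  haveI := isNoetherian_stage A j.left
  haveI : LocallyOfFiniteType (f₁ ≫ pullback.snd gi ((DS (ULift.{u} ℤ) A).map j.hom)) := by
    rw [hf₁snd]; infer_instance
  haveI : QuasiCompact (f₁ ≫ pullback.snd gi ((DS (ULift.{u} ℤ) A).map j.hom)) := by
    rw [hf₁snd]; infer_instance
  haveI : IsLocallyNoetherian (pullback gi ((DS (ULift.{u} ℤ) A).map j.hom)) :=
    LocallyOfFiniteType.isLocallyNoetherian (pullback.snd gi ((DS (ULift.{u} ℤ) A).map j.hom))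
  haveI : IsLocallyNoetherian (pullback (fi ≫ gi) ((DS (ULift.{u} ℤ) A).map j.hom)) :=
    LocallyOfFiniteType.isLocallyNoetherian
      (f₁ ≫ pullback.snd gi ((DS (ULift.{u} ℤ) A).map j.hom))
  haveI : QuasiSeparated (pullback.snd gi ((DS (ULift.{u} ℤ) A).map j.hom)) :=
    QuasiSeparated.of_quasiSeparatedSpace _
  haveI : QuasiSeparated (f₁ ≫ pullback.snd gi ((DS (ULift.{u} ℤ) A).map j.hom)) :=
    QuasiSeparated.of_quasiSeparatedSpace _
  haveI : LocallyOfFinitePresentation (pullback.snd gi ((DS (ULift.{u} ℤ) A).map j.hom)) :=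
    inferInstance
  haveI : LocallyOfFinitePresentation
      (f₁ ≫ pullback.snd gi ((DS (ULift.{u} ℤ) A).map j.hom)) := inferInstance
  obtain ⟨i', φ, Xi', Yi', fi', gi', pY, pX, hYi, hXi, hQi⟩ :=
    hQdesc (DS (ULift.{u} ℤ) A) (coneS (ULift.{u} ℤ) A) (isLimitConeS (ULift.{u} ℤ) A) j.left
      f₁ (pullback.snd gi ((DS (ULift.{u} ℤ) A).map j.hom)) f g' qY₁ qX₁ hsqY hsqX hQ
  have wY : qY₁ ≫ pullback.snd gi ((DS (ULift.{u} ℤ) A).map j.hom) =
      (g' ≫ (coneS (ULift.{u} ℤ) A).π.app i') ≫ (DS (ULift.{u} ℤ) A).map φ := by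
    rw [hsqY.w, Category.assoc, (coneS (ULift.{u} ℤ) A).w]
  obtain ⟨qY', hqY'1, hqY'2⟩ : ∃ qY' : Y ⟶ Yi', qY' ≫ pY = qY₁ ∧
      qY' ≫ gi' = g' ≫ (coneS (ULift.{u} ℤ) A).π.app i' :=
    ⟨hYi.lift _ _ wY, hYi.lift_fst _ _ _, hYi.lift_snd _ _ _⟩
  have hsqY' : IsPullback qY' g' gi' ((coneS (ULift.{u} ℤ) A).π.app i') := by
    refine IsPullback.of_right ?_ hqY'2 hYi
    rw [hqY'1, (coneS (ULift.{u} ℤ) A).w]
    exact hsqY
  have wX : qX₁ ≫ f₁ = (f ≫ qY') ≫ pY := by
    rw [hsqX.w, Category.assoc, hqY'1]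
  obtain ⟨qX', hqX'1, hqX'2⟩ : ∃ qX' : X ⟶ Xi', qX' ≫ pX = qX₁ ∧ qX' ≫ fi' = f ≫ qY' :=
    ⟨hXi.lift _ _ wX, hXi.lift_fst _ _ _, hXi.lift_snd _ _ _⟩
  have hsqX' : IsPullback qX' f fi' qY' := by
    refine IsPullback.of_right ?_ hqX'2 hXi
    rw [hqX'1, hqY'1]
    exact hsqX
  refine ⟨(DS (ULift.{u} ℤ) A).obj i', Xi', Yi', isNoetherian_stage A i', fi', gi',
    (coneS (ULift.{u} ℤ) A).π.app i', qX', qY', (Scheme.Modules.pullback pX).obj Lj,
    ?_, ?_, ?_, ?_, hsqY', hsqX', isInvertible_pullback pX hLj,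
    ⟨α' ≪≫ (pullbackCompIso qX' pX qX₁ hqX'1 Lj).symm⟩, hQi⟩
  · exact MorphismProperty.of_isPullback (P := @LocallyOfFiniteType) hYi inferInstance
  · exact MorphismProperty.of_isPullback (P := @QuasiCompact) hYi inferInstance
  · exact MorphismProperty.of_isPullback (P := @LocallyOfFiniteType) (hXi.paste_vert hYi)
      inferInstance
  · exact MorphismProperty.of_isPullback (P := @QuasiCompact) (hXi.paste_vert hYi)
      inferInstance

/-- Over an affine base and for `f` proper, the locus where `L_s` is ample relative to `f_s` is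
constructible. -/
theorem isConstructible_locus_amp_of_isAffine {X Y S : Scheme.{u}} [IsAffine S] (f : X ⟶ Y)
    (g : Y ⟶ S)
    [LocallyOfFinitePresentation g] [QuasiCompact g] [QuasiSeparated g]
    [LocallyOfFinitePresentation (f ≫ g)] [QuasiCompact (f ≫ g)] [QuasiSeparated (f ≫ g)]
    [IsProper f] (L : X.Modules) (hL : PicF.IsInvertible L) :
    IsConstructible (locusMM (fun X Y T f g L => RelAmple.IsRelAmple f L) f g L) := by
  let e : S ⟶ Spec (CommRingCat.of Γ(S, ⊤)) := S.isoSpec.hom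
  haveI : IsIso e := inferInstanceAs (IsIso S.isoSpec.hom)
  haveI : LocallyOfFinitePresentation (g ≫ e) := inferInstance
  haveI : QuasiCompact (g ≫ e) := inferInstance
  haveI : QuasiSeparated (g ≫ e) := inferInstance
  haveI : LocallyOfFinitePresentation (f ≫ g ≫ e) := by
    rw [← Category.assoc]; infer_instance
  haveI : QuasiCompact (f ≫ g ≫ e) := by
    rw [← Category.assoc]; infer_instance
  haveI : QuasiSeparated (f ≫ g ≫ e) := by
    rw [← Category.assoc]; infer_instance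
  obtain ⟨S₀, X₀, Y₀, hN, f₀, g₀, h, qX, qY, L₀, h1, h2, h3, h4, h5, h6, h7, ⟨α⟩, h9⟩ :=
    exists_noetherian_model_mm_of (@IsProper) Groth.Agent.Lib.ConsFibH7.descendsIn_isProper
      Γ(S, ⊤) f (g ≫ e) L hL inferInstance
  haveI := hN
  haveI := h1
  haveI := h2
  haveI := h3
  haveI := h4
  haveI : IsProper f₀ := h9
  have h5' : IsPullback qY g g₀ (e ≫ h) := by
    have hiso : IsPullback (𝟙 Y) g (g ≫ e) e := IsPullback.of_horiz_isIso ⟨by simp⟩
    have h10 := hiso.paste_horiz h5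
    simpa using h10
  have hE : locusMM (fun X Y T f g L => RelAmple.IsRelAmple f L) f g L =
      (e ≫ h) ⁻¹' locusMM (fun X Y T f g L => RelAmple.IsRelAmple f L) f₀ g₀ L₀ := by
    ext s
    exact locusMM_baseChange isFieldStableMM_amp f₀ g₀ f g qX qY (e ≫ h) h5' h6 L₀ L h7 α s
  rw [hE]
  exact (e ≫ h).isConstructible_preimage (isConstructible_locus_amp_noeth f₀ g₀ h7)

/-- **For `f` proper, the set of points of the base over which the pullback of `L` to the fibre is
ample relative to the fibre morphism is locally constructible.** -/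
theorem main4822 {X Y S : Scheme.{u}} (f : X ⟶ Y) (g : Y ⟶ S)
    [LocallyOfFinitePresentation g] [QuasiCompact g] [QuasiSeparated g]
    [LocallyOfFinitePresentation (f ≫ g)] [QuasiCompact (f ≫ g)] [QuasiSeparated (f ≫ g)]
    [IsProper f] (L : X.Modules) (hL : PicF.IsInvertible L) :
    Topology.IsLocallyConstructible {s : S |
      RelAmple.IsRelAmple
        (pullback.lift (pullback.fst (f ≫ g) (S.fromSpecResidueField s) ≫ f)
          (pullback.snd (f ≫ g) (S.fromSpecResidueField s))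
          ((Category.assoc _ _ _).trans pullback.condition) :
          pullback (f ≫ g) (S.fromSpecResidueField s) ⟶ pullback g (S.fromSpecResidueField s))
        ((Scheme.Modules.pullback (pullback.fst (f ≫ g) (S.fromSpecResidueField s))).obj L)} := by
  intro x
  obtain ⟨_, ⟨(U : S.Opens), (hU : IsAffineOpen U), rfl⟩, hxU, -⟩ :=
    S.isBasis_affineOpens.exists_subset_of_mem_open (Set.mem_univ x) isOpen_univ
  refine ⟨U, U.2.mem_nhds hxU, U.2, ?_⟩
  haveI : IsAffine (U : Scheme.{u}) := hU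
  have hY := IsPullback.of_hasPullback g U.ι
  have hX := IsPullback.of_hasPullback f (pullback.fst g U.ι)
  haveI : LocallyOfFinitePresentation (pullback.snd f (pullback.fst g U.ι) ≫
      pullback.snd g U.ι) :=
    MorphismProperty.of_isPullback (P := @LocallyOfFinitePresentation) (hX.paste_vert hY)
      inferInstance
  haveI : QuasiCompact (pullback.snd f (pullback.fst g U.ι) ≫ pullback.snd g U.ι) :=
    MorphismProperty.of_isPullback (P := @QuasiCompact) (hX.paste_vert hY) inferInstance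
  haveI : QuasiSeparated (pullback.snd f (pullback.fst g U.ι) ≫ pullback.snd g U.ι) :=
    MorphismProperty.of_isPullback (P := @QuasiSeparated) (hX.paste_vert hY) inferInstance
  have hL' := isInvertible_pullback (pullback.fst f (pullback.fst g U.ι)) hL
  have e := locusMM_restrict isFieldStableMM_amp f g L hL U
  have hc := isConstructible_locus_amp_of_isAffine (pullback.snd f (pullback.fst g U.ι))
    (pullback.snd g U.ι) _ hL'
  rw [← e] at hc
  exact hc

end Groth.Agent.Lib.ConsMMH6
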