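import Mathlib
import Groth.Prelude
import Groth.Agent.Lib.ConsMM6_helper6
import Groth.Agent.Lib.VAmpPn8_helper5

/-!
# Relative ampleness for proper finitely presented morphisms is fibrewise ampleness (helper6)
APPEND-ONLY once landed.

* `mem_ampleFibreLocus_baseChange`: the locus of ample fibres commutes with base change.
* `isRelAmple_of_isPullback_of_forall_mem`: base change of a proper morphism over a Noetherian base
  along a morphism landing in the locus of ample fibres.
* `main12128`.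
-/

set_option autoImplicit false
set_option linter.all false

namespace Groth.Agent.Lib.ConsMMH6

open AlgebraicGeometry CategoryTheory CategoryTheory.Limits TopologicalSpace Opposite Topology
open QcqsLoc GenLocH8 FLFH8 QCohExtn TensH8 PBH8
open Groth.Agent.Lib.ConsPairH7 Groth.Agent.Lib.ConsPropH7 Groth.Agent.Lib.LimAmpH6

universe u

/-- The locus of ample fibres commutes with base change. -/
theorem mem_ampleFibreLocus_baseChange {X S X' S' : Scheme.{u}} (f : X ⟶ S)
    [LocallyOfFiniteType f] [QuasiCompact f] (f' : X' ⟶ S') (eX : X' ⟶ X) (e : S' ⟶ S)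
    (hX : IsPullback eX f' f e) {L : X.Modules} (hL : PicF.IsInvertible L) {L' : X'.Modules}
    (α : L' ≅ (Scheme.Modules.pullback eX).obj L) (s' : S') :
    s' ∈ ampleFibreLocus f' L' ↔ e s' ∈ ampleFibreLocus f L := by
  obtain ⟨θ, hθ1, sq⟩ : ∃ θ : f'.fiber s' ⟶ f.fiber (e s'),
      θ ≫ f.fiberι (e s') = f'.fiberι s' ≫ eX ∧
      IsPullback θ (f'.fiberToSpecResidueField s') (f.fiberToSpecResidueField (e s'))
        (Spec.map (e.residueFieldMap s')) :=
    ⟨_, pullback.lift_fst _ _ _, isPullback_fiberToSpecResidueField_of_isPullback hX s'⟩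
  haveI : LocallyOfFiniteType (f.fiberToSpecResidueField (e s')) :=
    MorphismProperty.pullback_snd _ _ inferInstance
  haveI : QuasiCompact (f.fiberToSpecResidueField (e s')) :=
    MorphismProperty.pullback_snd _ _ inferInstance
  haveI : QuasiCompact f' := MorphismProperty.of_isPullback (P := @QuasiCompact) hX inferInstance
  haveI : QuasiCompact (f'.fiberToSpecResidueField s') :=
    MorphismProperty.pullback_snd _ _ inferInstance
  haveI : LocallyOfFiniteType (f.fiberToSpecResidueField (e s') ≫ 𝟙 _) := by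
    rw [Category.comp_id]; infer_instance
  haveI : QuasiCompact (f.fiberToSpecResidueField (e s') ≫ 𝟙 _) := by
    rw [Category.comp_id]; infer_instance
  have hY : IsPullback (Spec.map (e.residueFieldMap s')) (𝟙 _) (𝟙 _)
      (Spec.map (e.residueFieldMap s')) := IsPullback.of_vert_isIso ⟨by simp⟩
  have β : (Scheme.Modules.pullback (f'.fiberι s')).obj L' ≅
      (Scheme.Modules.pullback θ).obj ((Scheme.Modules.pullback (f.fiberι (e s'))).obj L) :=
    (Scheme.Modules.pullback (f'.fiberι s')).mapIso α ≪≫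
      pullbackCompIso (f'.fiberι s') eX _ rfl L ≪≫
      (pullbackCompIso θ (f.fiberι (e s')) _ hθ1 L).symm
  have key := isFieldStableMM_amp (f.fiberToSpecResidueField (e s')) (𝟙 _)
    (f'.fiberToSpecResidueField s') (𝟙 _) θ (Spec.map (e.residueFieldMap s'))
    (Spec.map (e.residueFieldMap s')) hY sq _ _ (isInvertible_pullback _ hL) β
  constructor
  · intro h
    exact isAmple_of_isRelAmple_of_isAffine _
      (key.mpr (Groth.Agent.VAmpPn.isRelAmple_of_isAmple _ h))
  · intro h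
    exact isAmple_of_isRelAmple_of_isAffine _
      (key.mp (Groth.Agent.VAmpPn.isRelAmple_of_isAmple _ h))

/-- Base change of a proper morphism over a Noetherian base along a morphism landing in the locus
of ample fibres: the pullback of `L₀` is relatively ample. -/
theorem isRelAmple_of_isPullback_of_forall_mem {X₀ Y₀ X S : Scheme.{u}} (f₀ : X₀ ⟶ Y₀)
    [IsProper f₀] [IsNoetherian Y₀] {L₀ : X₀.Modules} (hL₀ : PicF.IsInvertible L₀)
    (f : X ⟶ S) (qX : X ⟶ X₀) (qY : S ⟶ Y₀) (hX : IsPullback qX f f₀ qY)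
    (hall : ∀ s : S, qY s ∈ ampleFibreLocus f₀ L₀) :
    RelAmple.IsRelAmple f ((Scheme.Modules.pullback qX).obj L₀) := by
  obtain ⟨U, hUdef⟩ : ∃ U : Y₀.Opens, (U : Set Y₀) = ampleFibreLocus f₀ L₀ :=
    ⟨⟨ampleFibreLocus f₀ L₀, isOpen_ampleFibreLocus f₀ hL₀⟩, rfl⟩
  have hrel := isRelAmple_morphismRestrict_of_le f₀ hL₀ U hUdef.le
  have hrange : Set.range qY ⊆ Set.range U.ι := by
    rw [Scheme.Opens.range_ι, hUdef]
    rintro _ ⟨s, rfl⟩
    exact hall s
  obtain ⟨k, hk⟩ : ∃ k : S ⟶ (U : Scheme.{u}), k ≫ U.ι = qY :=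
    ⟨IsOpenImmersion.lift U.ι qY hrange, IsOpenImmersion.lift_fac _ _ _⟩
  have hres := (isPullback_morphismRestrict f₀ U).flip
  have wm : qX ≫ f₀ = (f ≫ k) ≫ U.ι := by
    rw [Category.assoc, hk]
    exact hX.w
  obtain ⟨m, hm1, hm2⟩ : ∃ m : X ⟶ ((f₀ ⁻¹ᵁ U : X₀.Opens) : Scheme.{u}),
      m ≫ (f₀ ⁻¹ᵁ U).ι = qX ∧ m ≫ (f₀ ∣_ U) = f ≫ k :=
    ⟨hres.lift _ _ wm, hres.lift_fst _ _ _, hres.lift_snd _ _ _⟩
  have hleft : IsPullback m f (f₀ ∣_ U) k := by
    refine IsPullback.of_right ?_ hm2 hres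
    rw [hm1, hk]
    exact hX
  haveI : QuasiCompact (f₀ ∣_ U) := inferInstance
  have h1 := Groth.Agent.Lib.TwBCH6.isRelAmple_of_isPullback (f₀ ∣_ U) k m _ hleft hrel
  refine (isRelAmple_congr _ ?_).mp h1
  exact (Scheme.Modules.pullback m).mapIso
      ((Scheme.Modules.restrictFunctorIsoPullback (f₀ ⁻¹ᵁ U).ι).app L₀) ≪≫
    pullbackCompIso m (f₀ ⁻¹ᵁ U).ι _ hm1 L₀

/-- Over an affine base: a proper finitely presented morphism with all fibres carrying ample
pullbacks of `L` has `L` relatively ample. -/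
theorem isRelAmple_of_forall_fibre_of_isAffine {X S : Scheme.{u}} [IsAffine S] (f : X ⟶ S)
    [IsProper f] [LocallyOfFinitePresentation f] {L : X.Modules} (hL : PicF.IsInvertible L)
    (h : ∀ s : S, s ∈ ampleFibreLocus f L) : RelAmple.IsRelAmple f L := by
  haveI : LocallyOfFinitePresentation (f ≫ S.isoSpec.hom) := inferInstance
  haveI : QuasiCompact (f ≫ S.isoSpec.hom) := inferInstance
  haveI : QuasiSeparated (f ≫ S.isoSpec.hom) := inferInstance
  obtain ⟨S₀, X₀, Y₀, hN, f₀, g₀, h', qX, qY, L₀, h1, h2, h3, h4, h5, h6, h7, ⟨α⟩, h9⟩ :=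
    exists_noetherian_model_mm_of (@IsProper) Groth.Agent.Lib.ConsFibH7.descendsIn_isProper
      Γ(S, ⊤) f S.isoSpec.hom L hL inferInstance
  haveI := hN
  haveI := h1
  haveI := h2
  haveI : IsProper f₀ := h9
  haveI : IsLocallyNoetherian Y₀ := LocallyOfFiniteType.isLocallyNoetherian g₀
  haveI : CompactSpace Y₀ := QuasiCompact.compactSpace_of_compactSpace g₀
  haveI : IsNoetherian Y₀ := {}
  have hall : ∀ s : S, qY s ∈ ampleFibreLocus f₀ L₀ := fun s =>
    (mem_ampleFibreLocus_baseChange f₀ f qX qY h6 h7 α s).mp (h s)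
  exact (isRelAmple_congr f α).mpr
    (isRelAmple_of_isPullback_of_forall_mem f₀ h7 f qX qY h6 hall)

/-- **A proper finitely presented morphism: `L` is relatively ample iff its pullbacks to all fibres
are ample.** -/
theorem main12128 {X S : Scheme.{u}} (f : X ⟶ S)
    [IsProper f] [LocallyOfFinitePresentation f] (L : X.Modules) (hL : PicF.IsInvertible L) :
    RelAmple.IsRelAmple f L ↔
      ∀ s : S, CohB1.IsAmple ((Scheme.Modules.pullback (f.fiberι s)).obj L) := by
  constructor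
  · intro h s
    obtain ⟨_, ⟨(W : S.Opens), (hW : IsAffineOpen W), rfl⟩, hsW, -⟩ :=
      S.isBasis_affineOpens.exists_subset_of_mem_open (Set.mem_univ s) isOpen_univ
    exact isAmple_fibre_of_isAmpleOn f hL W s hsW (((isRelAmple_iff f hL).mp h).2 ⟨W, hW⟩)
  · intro h
    apply isRelAmple_of_local f hL
    intro y
    obtain ⟨_, ⟨(U : S.Opens), (hU : IsAffineOpen U), rfl⟩, hyU, -⟩ :=
      S.isBasis_affineOpens.exists_subset_of_mem_open (Set.mem_univ y) isOpen_univ
    refine ⟨U, hyU, fun V hV => ?_⟩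
    haveI : IsAffine (U : Scheme.{u}) := hU
    have hres := (isPullback_morphismRestrict f U).flip
    have hLU := isInvertible_restrict (f ⁻¹ᵁ U).ι hL
    have hfib : ∀ u : (U : Scheme.{u}), u ∈ ampleFibreLocus (f ∣_ U) (L.restrict (f ⁻¹ᵁ U).ι) :=
      fun u => (mem_ampleFibreLocus_baseChange f (f ∣_ U) (f ⁻¹ᵁ U).ι U.ι hres hL
        ((Scheme.Modules.restrictFunctorIsoPullback (f ⁻¹ᵁ U).ι).app L) u).mpr (h (U.ι u))
    have hrel := isRelAmple_of_forall_fibre_of_isAffine (f ∣_ U) hLU hfib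
    have hV' : IsAffineOpen (U.ι ⁻¹ᵁ V.1) := V.2.preimage_of_isOpenImmersion U.ι
      (by rw [Scheme.Opens.opensRange_ι]; exact hV)
    have h1 := ((isRelAmple_iff (f ∣_ U) hLU).mp hrel).2 ⟨U.ι ⁻¹ᵁ V.1, hV'⟩
    rw [isAmpleOn_restrict_iff (f ⁻¹ᵁ U).ι hL, image_morphismRestrict_preimage] at h1
    have h2 : U.ι ''ᵁ (U.ι ⁻¹ᵁ V.1) = V.1 := by
      rw [Scheme.Hom.image_preimage_eq_opensRange_inf, Scheme.Opens.opensRange_ι]
      exact inf_eq_right.mpr hV
    rwa [h2] at h1

end Groth.Agent.Lib.ConsMMH6
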