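import Mathlib
import Groth.Agent.Lib.ConsPair1_helper7
import Groth.Agent.S4805
import Groth.Agent.S9189
import Groth.Agent.S2580
import Groth.Agent.S2581
import Groth.Agent.S9187
import Groth.Agent.S2582
import Groth.Agent.S2590
import Groth.Agent.S2589

/-!
# Ind-constructible properties of pairs: the eight cases (helper7)
-/

set_option autoImplicit false
set_option linter.style.haveILetI false
set_option linter.unusedVariables false
universe u
open CategoryTheory CategoryTheory.Limits AlgebraicGeometry TopologicalSpace Topology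

namespace Groth.Agent.Lib.ConsPairH7

theorem descendsIn_iso : DescendsIn.{u} (MorphismProperty.isomorphisms Scheme.{u}) := by
  intro I _ _ D c hc _ i₀ _ _ X₀ Y₀ f₀ g₀ _ _ _ _ _ _ X Y f g qY qX hY hX hf
  haveI : IsIso f := hf
  haveI : LocallyOfFiniteType g₀ := inferInstance
  exact Groth.Agent.S4805.result D c hc i₀ f₀ g₀ f g qY qX hY hX

theorem main5893 :
    ConsPropPair.IsIndConsPair.{u}
      (fun X Y T gX gY => ∃ (T' X' Y' : Scheme.{u}) (h : T' ⟶ T) (gX' : X' ⟶ T') (gY' : Y' ⟶ T')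
        (eX : X' ⟶ X) (eY : Y' ⟶ Y), IsIntegral T' ∧ Subsingleton ↥T' ∧
          IsPullback eX gX' gX h ∧ IsPullback eY gY' gY h ∧
            ∃ g : X' ⟶ Y', g ≫ gY' = gX' ∧ IsIso g) :=
  isIndConsPair (MorphismProperty.isomorphisms Scheme.{u}) descendsIn_iso

theorem descendsIn_isClosedImmersion : DescendsIn.{u} (@IsClosedImmersion) := by
  intro I _ _ D c hc _ i₀ _ _ X₀ Y₀ f₀ g₀ _ _ _ _ _ _ X Y f g qY qX hY hX hf
  haveI : IsClosedImmersion f := hf
  haveI : CompactSpace Y₀ := QuasiCompact.compactSpace_of_compactSpace g₀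
  haveI : QuasiSeparatedSpace Y₀ := quasiSeparatedSpace_of_quasiSeparated g₀
  haveI : CompactSpace X₀ := QuasiCompact.compactSpace_of_compactSpace (f₀ ≫ g₀)
  haveI : QuasiSeparatedSpace X₀ := quasiSeparatedSpace_of_quasiSeparated (f₀ ≫ g₀)
  haveI : LocallyOfFiniteType f₀ := locallyOfFiniteType_of_comp f₀ g₀
  exact Groth.Agent.S9189.result D c hc i₀ f₀ g₀ f g qY qX hY hX

theorem main5894 :
    ConsPropPair.IsIndConsPair.{u}
      (fun X Y T gX gY => ∃ (T' X' Y' : Scheme.{u}) (h : T' ⟶ T) (gX' : X' ⟶ T') (gY' : Y' ⟶ T')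
        (eX : X' ⟶ X) (eY : Y' ⟶ Y), IsIntegral T' ∧ Subsingleton ↥T' ∧
          IsPullback eX gX' gX h ∧ IsPullback eY gY' gY h ∧
            ∃ g : X' ⟶ Y', g ≫ gY' = gX' ∧ AlgebraicGeometry.IsClosedImmersion g) :=
  isIndConsPair (@IsClosedImmersion) descendsIn_isClosedImmersion

theorem descendsIn_isOpenImmersion : DescendsIn.{u} (@IsOpenImmersion) := by
  intro I _ _ D c hc _ i₀ _ _ X₀ Y₀ f₀ g₀ _ _ _ _ _ _ X Y f g qY qX hY hX hf
  haveI : IsOpenImmersion f := hf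
  exact Groth.Agent.S2580.result D c hc i₀ f₀ g₀ f g qY qX hY hX

theorem main5895 :
    ConsPropPair.IsIndConsPair.{u}
      (fun X Y T gX gY => ∃ (T' X' Y' : Scheme.{u}) (h : T' ⟶ T) (gX' : X' ⟶ T') (gY' : Y' ⟶ T')
        (eX : X' ⟶ X) (eY : Y' ⟶ Y), IsIntegral T' ∧ Subsingleton ↥T' ∧
          IsPullback eX gX' gX h ∧ IsPullback eY gY' gY h ∧
            ∃ g : X' ⟶ Y', g ≫ gY' = gX' ∧ AlgebraicGeometry.IsOpenImmersion g) :=
  isIndConsPair (@IsOpenImmersion) descendsIn_isOpenImmersion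

theorem descendsIn_surjective : DescendsIn.{u} (@Surjective) := by
  intro I _ _ D c hc _ i₀ _ _ X₀ Y₀ f₀ g₀ _ _ _ _ _ _ X Y f g qY qX hY hX hf
  haveI : Surjective f := hf
  exact Groth.Agent.S2581.result D c hc i₀ f₀ g₀ f g qY qX hY hX

theorem main5896 :
    ConsPropPair.IsIndConsPair.{u}
      (fun X Y T gX gY => ∃ (T' X' Y' : Scheme.{u}) (h : T' ⟶ T) (gX' : X' ⟶ T') (gY' : Y' ⟶ T')
        (eX : X' ⟶ X) (eY : Y' ⟶ Y), IsIntegral T' ∧ Subsingleton ↥T' ∧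
          IsPullback eX gX' gX h ∧ IsPullback eY gY' gY h ∧
            ∃ g : X' ⟶ Y', g ≫ gY' = gX' ∧ AlgebraicGeometry.Surjective g) :=
  isIndConsPair (@Surjective) descendsIn_surjective

theorem descendsIn_isFinite : DescendsIn.{u} (@IsFinite) := by
  intro I _ _ D c hc _ i₀ _ _ X₀ Y₀ f₀ g₀ _ _ _ _ _ _ X Y f g qY qX hY hX hf
  haveI : IsFinite f := hf
  haveI : CompactSpace Y₀ := QuasiCompact.compactSpace_of_compactSpace g₀
  haveI : QuasiSeparatedSpace Y₀ := quasiSeparatedSpace_of_quasiSeparated g₀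
  haveI : CompactSpace X₀ := QuasiCompact.compactSpace_of_compactSpace (f₀ ≫ g₀)
  haveI : QuasiSeparatedSpace X₀ := quasiSeparatedSpace_of_quasiSeparated (f₀ ≫ g₀)
  haveI : LocallyOfFiniteType f₀ := locallyOfFiniteType_of_comp f₀ g₀
  exact Groth.Agent.S9187.result D c hc i₀ f₀ g₀ f g qY qX hY hX

theorem main5897 :
    ConsPropPair.IsIndConsPair.{u}
      (fun X Y T gX gY => ∃ (T' X' Y' : Scheme.{u}) (h : T' ⟶ T) (gX' : X' ⟶ T') (gY' : Y' ⟶ T')
        (eX : X' ⟶ X) (eY : Y' ⟶ Y), IsIntegral T' ∧ Subsingleton ↥T' ∧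
          IsPullback eX gX' gX h ∧ IsPullback eY gY' gY h ∧
            ∃ g : X' ⟶ Y', g ≫ gY' = gX' ∧ AlgebraicGeometry.IsFinite g) :=
  isIndConsPair (@IsFinite) descendsIn_isFinite

theorem descendsIn_isAffineHom : DescendsIn.{u} (@IsAffineHom) := by
  intro I _ _ D c hc _ i₀ _ _ X₀ Y₀ f₀ g₀ _ _ _ _ _ _ X Y f g qY qX hY hX hf
  haveI : IsAffineHom f := hf
  exact Groth.Agent.S2582.result D c hc i₀ f₀ g₀ f g qY qX hY hX

theorem main5898 :
    ConsPropPair.IsIndConsPair.{u}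
      (fun X Y T gX gY => ∃ (T' X' Y' : Scheme.{u}) (h : T' ⟶ T) (gX' : X' ⟶ T') (gY' : Y' ⟶ T')
        (eX : X' ⟶ X) (eY : Y' ⟶ Y), IsIntegral T' ∧ Subsingleton ↥T' ∧
          IsPullback eX gX' gX h ∧ IsPullback eY gY' gY h ∧
            ∃ g : X' ⟶ Y', g ≫ gY' = gX' ∧ AlgebraicGeometry.IsAffineHom g) :=
  isIndConsPair (@IsAffineHom) descendsIn_isAffineHom

theorem descendsIn_universallyInjective : DescendsIn.{u} (@UniversallyInjective) := by
  intro I _ _ D c hc _ i₀ _ _ X₀ Y₀ f₀ g₀ _ _ _ _ _ _ X Y f g qY qX hY hX hf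
  haveI : UniversallyInjective f := hf
  exact Groth.Agent.S2590.result D c hc i₀ f₀ g₀ f g qY qX hY hX

theorem main5899 :
    ConsPropPair.IsIndConsPair.{u}
      (fun X Y T gX gY => ∃ (T' X' Y' : Scheme.{u}) (h : T' ⟶ T) (gX' : X' ⟶ T') (gY' : Y' ⟶ T')
        (eX : X' ⟶ X) (eY : Y' ⟶ Y), IsIntegral T' ∧ Subsingleton ↥T' ∧
          IsPullback eX gX' gX h ∧ IsPullback eY gY' gY h ∧
            ∃ g : X' ⟶ Y', g ≫ gY' = gX' ∧ AlgebraicGeometry.UniversallyInjective g) :=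
  isIndConsPair (@UniversallyInjective) descendsIn_universallyInjective

theorem descendsIn_isImmersion : DescendsIn.{u} (@IsImmersion) := by
  intro I _ _ D c hc _ i₀ _ _ X₀ Y₀ f₀ g₀ _ _ _ _ _ _ X Y f g qY qX hY hX hf
  haveI : IsImmersion f := hf
  exact Groth.Agent.S2589.result D c hc i₀ f₀ g₀ f g qY qX hY hX

theorem main5900 :
    ConsPropPair.IsIndConsPair.{u}
      (fun X Y T gX gY => ∃ (T' X' Y' : Scheme.{u}) (h : T' ⟶ T) (gX' : X' ⟶ T') (gY' : Y' ⟶ T')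
        (eX : X' ⟶ X) (eY : Y' ⟶ Y), IsIntegral T' ∧ Subsingleton ↥T' ∧
          IsPullback eX gX' gX h ∧ IsPullback eY gY' gY h ∧
            ∃ g : X' ⟶ Y', g ≫ gY' = gX' ∧ AlgebraicGeometry.IsImmersion g) :=
  isIndConsPair (@IsImmersion) descendsIn_isImmersion

end Groth.Agent.Lib.ConsPairH7
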