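import Mathlib
import Groth.Prelude.Def_W4ega4s0809p4Pair
import Groth.Agent.Lib.ConsProp3_helper7
import Groth.Agent.Lib.LimProCons_helper7

/-!
# Constructible properties of pairs of algebraic schemes: the locus (helper7)

* `locusPair_baseChange`: the locus of a field-stable relation commutes with base change.
* `isConstructible_locusPair`, `isIndConstructible_locusPair`: Noetherian base.
* `main5906`, `main5907`: general base; `main5908`: limits.
-/

set_option autoImplicit false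
set_option linter.style.haveILetI false
set_option linter.unusedVariables false
universe u
open CategoryTheory CategoryTheory.Limits AlgebraicGeometry TopologicalSpace Topology
open Set.Notation

namespace Groth.Agent.Lib.ConsPropH7

open Groth.Agent.Lib.LimBaseChangeH7 Groth.Agent.Lib.LimDescFPH7

variable {P : ∀ ⦃X Y T : Scheme.{u}⦄, (X ⟶ T) → (Y ⟶ T) → Prop}

theorem locusPair_baseChange (hP : ConsPropPair.IsFieldStablePair P)
    {X Y S X' Y' S' : Scheme.{u}} (u : X ⟶ S) (v : Y ⟶ S)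
    [LocallyOfFiniteType u] [QuasiCompact u] [LocallyOfFiniteType v] [QuasiCompact v]
    (u' : X' ⟶ S') (v' : Y' ⟶ S') (eX : X' ⟶ X) (eY : Y' ⟶ Y) (h : S' ⟶ S)
    (hX : IsPullback eX u' u h) (hY : IsPullback eY v' v h) (s' : S') :
    s' ∈ ConsPropPair.locusPair P u' v' ↔ h s' ∈ ConsPropPair.locusPair P u v := by
  have sqX := isPullback_fiberToSpecResidueField_of_isPullback hX s'
  have sqY := isPullback_fiberToSpecResidueField_of_isPullback hY s'
  haveI : LocallyOfFiniteType (u.fiberToSpecResidueField (h s')) :=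
    MorphismProperty.pullback_snd _ _ inferInstance
  haveI : QuasiCompact (u.fiberToSpecResidueField (h s')) :=
    MorphismProperty.pullback_snd _ _ inferInstance
  haveI : LocallyOfFiniteType (v.fiberToSpecResidueField (h s')) :=
    MorphismProperty.pullback_snd _ _ inferInstance
  haveI : QuasiCompact (v.fiberToSpecResidueField (h s')) :=
    MorphismProperty.pullback_snd _ _ inferInstance
  exact (hP (u.fiberToSpecResidueField (h s')) (v.fiberToSpecResidueField (h s'))
    (u'.fiberToSpecResidueField s') (v'.fiberToSpecResidueField s') _ _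
    (Spec.map (h.residueFieldMap s')) sqX sqY).symm

section Noeth

theorem isConstructible_locusPair (hP : ConsPropPair.IsConsPair P) {X Y S : Scheme.{u}}
    (u : X ⟶ S) (v : Y ⟶ S) [IsNoetherian S] [LocallyOfFiniteType u] [QuasiCompact u]
    [LocallyOfFiniteType v] [QuasiCompact v] :
    IsConstructible (ConsPropPair.locusPair P u v) := by
  apply isConstructible_of_forall_generic
  intro ξ
  obtain ⟨I, hint, hN, hgen, hrange⟩ := exists_red_closure ξ
  haveI := hint
  haveI := hN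
  have hX := IsPullback.of_hasPullback u I.subschemeι
  have hY := IsPullback.of_hasPullback v I.subschemeι
  have hloc : ∀ t : I.subscheme,
      t ∈ ConsPropPair.locusPair P (pullback.snd u I.subschemeι) (pullback.snd v I.subschemeι) ↔
        I.subschemeι t ∈ ConsPropPair.locusPair P u v :=
    fun t => locusPair_baseChange hP.1 u v _ _ _ _ I.subschemeι hX hY t
  rcases hP.2 (pullback.snd u I.subschemeι) (pullback.snd v I.subschemeι) with h1 | h1
  · obtain ⟨U, hU, hξU, hsub⟩ := exists_open_of_subscheme ξ I hgen hrange _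
      (ConsPropPair.locusPair P u v) isOpen_interior h1
      (fun t ht => (hloc t).mp (interior_subset ht))
    exact ⟨U, hU, hξU, Or.inl hsub⟩
  · obtain ⟨U, hU, hξU, hsub⟩ := exists_open_of_subscheme ξ I hgen hrange _
      (ConsPropPair.locusPair P u v)ᶜ isOpen_interior h1
      (fun t ht hcon => interior_subset ht ((hloc t).mpr hcon))
    exact ⟨U, hU, hξU, Or.inr hsub⟩

theorem isIndConstructible_locusPair (hP : ConsPropPair.IsIndConsPair P) {X Y S : Scheme.{u}}
    (u : X ⟶ S) (v : Y ⟶ S) [IsNoetherian S] [LocallyOfFiniteType u] [QuasiCompact u]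
    [LocallyOfFiniteType v] [QuasiCompact v] :
    ProCons.IsIndConstructible (ConsPropPair.locusPair P u v) := by
  rw [Groth.Agent.Lib.ProConsNoethH8.isIndConstructible_iff_nhds]
  intro ξ hξ
  obtain ⟨I, hint, hN, hgen, hrange⟩ := exists_red_closure ξ
  haveI := hint
  haveI := hN
  have hX := IsPullback.of_hasPullback u I.subschemeι
  have hY := IsPullback.of_hasPullback v I.subschemeι
  have hloc : ∀ t : I.subscheme,
      t ∈ ConsPropPair.locusPair P (pullback.snd u I.subschemeι) (pullback.snd v I.subschemeι) ↔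
        I.subschemeι t ∈ ConsPropPair.locusPair P u v :=
    fun t => locusPair_baseChange hP.1 u v _ _ _ _ I.subschemeι hX hY t
  have hη : genericPoint I.subscheme ∈
      ConsPropPair.locusPair P (pullback.snd u I.subschemeι) (pullback.snd v I.subschemeι) := by
    rw [hloc, hgen]
    exact hξ
  have h1 := hP.2 (pullback.snd u I.subschemeι) (pullback.snd v I.subschemeι) hη
  obtain ⟨U, hU, hξU, hsub⟩ := exists_open_of_subscheme ξ I hgen hrange _
    (ConsPropPair.locusPair P u v) isOpen_interior h1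
    (fun t ht => (hloc t).mp (interior_subset ht))
  exact Filter.mem_of_superset ((hU.preimage continuous_subtype_val).mem_nhds hξU)
    (fun z hz => hsub ⟨hz, z.2⟩)

end Noeth

section Affine

/-- descent of two finitely presented schemes over `Spec A` to a Noetherian base -/
theorem exists_noetherian_model_two (A : Type u) [CommRing A] {X Y : Scheme.{u}}
    (u : X ⟶ Spec (CommRingCat.of A)) (v : Y ⟶ Spec (CommRingCat.of A))
    [LocallyOfFinitePresentation u] [QuasiCompact u] [QuasiSeparated u]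
    [LocallyOfFinitePresentation v] [QuasiCompact v] [QuasiSeparated v] :
    ∃ (S₀ X₀ Y₀ : Scheme.{u}) (_ : IsNoetherian S₀) (u₀ : X₀ ⟶ S₀) (v₀ : Y₀ ⟶ S₀)
      (h : Spec (CommRingCat.of A) ⟶ S₀) (qX : X ⟶ X₀) (qY : Y ⟶ Y₀),
      LocallyOfFiniteType u₀ ∧ QuasiCompact u₀ ∧ LocallyOfFiniteType v₀ ∧
        QuasiCompact v₀ ∧ IsPullback qX u u₀ h ∧ IsPullback qY v v₀ h := by
  letI : Algebra (ULift.{u} ℤ) A := ULift.algebra' ℤ A
  haveI : ∀ i, CompactSpace ((DS (ULift.{u} ℤ) A).obj i) := fun i => inferInstance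
  haveI : ∀ i, QuasiSeparatedSpace ((DS (ULift.{u} ℤ) A).obj i) := fun i => inferInstance
  let u' : X ⟶ (coneS (ULift.{u} ℤ) A).pt := u
  haveI : LocallyOfFinitePresentation u' := ‹LocallyOfFinitePresentation u›
  haveI : QuasiCompact u' := ‹QuasiCompact u›
  haveI : QuasiSeparated u' := ‹QuasiSeparated u›
  let v' : Y ⟶ (coneS (ULift.{u} ℤ) A).pt := v
  haveI : LocallyOfFinitePresentation v' := ‹LocallyOfFinitePresentation v›
  haveI : QuasiCompact v' := ‹QuasiCompact v›
  haveI : QuasiSeparated v' := ‹QuasiSeparated v›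
  obtain ⟨i₁, X₁, u₁, q₁, hlfp₁, hqc₁, hqs₁, hpb₁⟩ :=
    main591 (isLimitConeS (ULift.{u} ℤ) A) X u'
  obtain ⟨i₂, Y₂, v₂, q₂, hlfp₂, hqc₂, hqs₂, hpb₂⟩ :=
    main591 (isLimitConeS (ULift.{u} ℤ) A) Y v'
  haveI := hlfp₁
  haveI := hqc₁
  haveI := hlfp₂
  haveI := hqc₂
  have key : ∀ {Z Z₁ : Scheme.{u}} {i j : (AlgColim2H7.Idx (ULift.{u} ℤ) A)ᵒᵖ} (a : j ⟶ i)
      (w : Z ⟶ (coneS (ULift.{u} ℤ) A).pt) (w₁ : Z₁ ⟶ (DS (ULift.{u} ℤ) A).obj i) (q : Z ⟶ Z₁)
      (hpb : IsPullback q w w₁ ((coneS (ULift.{u} ℤ) A).π.app i)),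
      ∃ qZ : Z ⟶ pullback w₁ ((DS (ULift.{u} ℤ) A).map a),
        IsPullback qZ w (pullback.snd w₁ ((DS (ULift.{u} ℤ) A).map a))
          ((coneS (ULift.{u} ℤ) A).π.app j) := by
    intro Z Z₁ i j a w w₁ q hpb
    have hw : (coneS (ULift.{u} ℤ) A).π.app j ≫ (DS (ULift.{u} ℤ) A).map a =
        (coneS (ULift.{u} ℤ) A).π.app i := (coneS (ULift.{u} ℤ) A).w a
    have wZ : q ≫ w₁ = (w ≫ (coneS (ULift.{u} ℤ) A).π.app j) ≫ (DS (ULift.{u} ℤ) A).map a := by
      rw [Category.assoc, hw, hpb.w]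
    refine ⟨pullback.lift q (w ≫ (coneS (ULift.{u} ℤ) A).π.app j) wZ, ?_⟩
    refine IsPullback.of_right ?_ (pullback.lift_snd _ _ _)
      (IsPullback.of_hasPullback w₁ ((DS (ULift.{u} ℤ) A).map a))
    rw [pullback.lift_fst, hw]
    exact hpb
  obtain ⟨qX, hqX⟩ := key (IsCofiltered.minToLeft i₁ i₂) u' u₁ q₁ hpb₁
  obtain ⟨qY, hqY⟩ := key (IsCofiltered.minToRight i₁ i₂) v' v₂ q₂ hpb₂
  exact ⟨_, _, _, isNoetherian_stage A (IsCofiltered.min i₁ i₂),
    pullback.snd u₁ ((DS (ULift.{u} ℤ) A).map (IsCofiltered.minToLeft i₁ i₂)),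
    pullback.snd v₂ ((DS (ULift.{u} ℤ) A).map (IsCofiltered.minToRight i₁ i₂)),
    (coneS (ULift.{u} ℤ) A).π.app (IsCofiltered.min i₁ i₂), qX, qY,
    inferInstance, inferInstance, inferInstance, inferInstance, hqX, hqY⟩

theorem exists_noetherian_model_two_of_isAffine {X Y S : Scheme.{u}} [IsAffine S]
    (u : X ⟶ S) (v : Y ⟶ S)
    [LocallyOfFinitePresentation u] [QuasiCompact u] [QuasiSeparated u]
    [LocallyOfFinitePresentation v] [QuasiCompact v] [QuasiSeparated v] :
    ∃ (S₀ X₀ Y₀ : Scheme.{u}) (_ : IsNoetherian S₀) (u₀ : X₀ ⟶ S₀) (v₀ : Y₀ ⟶ S₀)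
      (h : S ⟶ S₀) (qX : X ⟶ X₀) (qY : Y ⟶ Y₀),
      LocallyOfFiniteType u₀ ∧ QuasiCompact u₀ ∧ LocallyOfFiniteType v₀ ∧
        QuasiCompact v₀ ∧ IsPullback qX u u₀ h ∧ IsPullback qY v v₀ h := by
  let e : S ⟶ Spec (CommRingCat.of Γ(S, ⊤)) := S.isoSpec.hom
  haveI : IsIso e := inferInstanceAs (IsIso S.isoSpec.hom)
  haveI : LocallyOfFinitePresentation (u ≫ e) := inferInstance
  haveI : QuasiCompact (u ≫ e) := inferInstance
  haveI : QuasiSeparated (u ≫ e) := inferInstance
  haveI : LocallyOfFinitePresentation (v ≫ e) := inferInstance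
  haveI : QuasiCompact (v ≫ e) := inferInstance
  haveI : QuasiSeparated (v ≫ e) := inferInstance
  obtain ⟨S₀, X₀, Y₀, hN, u₀, v₀, h, qX, qY, h1, h2, h3, h4, h5, h6⟩ :=
    exists_noetherian_model_two Γ(S, ⊤) (u ≫ e) (v ≫ e)
  refine ⟨S₀, X₀, Y₀, hN, u₀, v₀, e ≫ h, qX, qY, h1, h2, h3, h4, ?_, ?_⟩
  · have hiso : IsPullback (𝟙 X) u (u ≫ e) e := IsPullback.of_horiz_isIso ⟨by simp⟩
    have h7 := hiso.paste_horiz h5
    simpa using h7
  · have hiso : IsPullback (𝟙 Y) v (v ≫ e) e := IsPullback.of_horiz_isIso ⟨by simp⟩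
    have h7 := hiso.paste_horiz h6
    simpa using h7

theorem isConstructible_locusPair_of_isAffine (hP : ConsPropPair.IsConsPair P)
    {X Y S : Scheme.{u}} [IsAffine S] (u : X ⟶ S) (v : Y ⟶ S)
    [LocallyOfFinitePresentation u] [QuasiCompact u] [QuasiSeparated u]
    [LocallyOfFinitePresentation v] [QuasiCompact v] [QuasiSeparated v] :
    IsConstructible (ConsPropPair.locusPair P u v) := by
  obtain ⟨S₀, X₀, Y₀, hN, u₀, v₀, h, qX, qY, h1, h2, h3, h4, h5, h6⟩ :=
    exists_noetherian_model_two_of_isAffine u v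
  haveI := hN
  haveI := h1
  haveI := h2
  haveI := h3
  haveI := h4
  have e : ConsPropPair.locusPair P u v = h ⁻¹' ConsPropPair.locusPair P u₀ v₀ := by
    ext s
    exact locusPair_baseChange hP.1 u₀ v₀ u v qX qY h h5 h6 s
  rw [e]
  exact h.isConstructible_preimage (isConstructible_locusPair hP u₀ v₀)

theorem isIndConstructible_locusPair_of_isAffine (hP : ConsPropPair.IsIndConsPair P)
    {X Y S : Scheme.{u}} [IsAffine S] (u : X ⟶ S) (v : Y ⟶ S)
    [LocallyOfFinitePresentation u] [QuasiCompact u] [QuasiSeparated u]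
    [LocallyOfFinitePresentation v] [QuasiCompact v] [QuasiSeparated v] :
    ProCons.IsIndConstructible (ConsPropPair.locusPair P u v) := by
  obtain ⟨S₀, X₀, Y₀, hN, u₀, v₀, h, qX, qY, h1, h2, h3, h4, h5, h6⟩ :=
    exists_noetherian_model_two_of_isAffine u v
  haveI := hN
  haveI := h1
  haveI := h2
  haveI := h3
  haveI := h4
  have e : ConsPropPair.locusPair P u v = h.base ⁻¹' ConsPropPair.locusPair P u₀ v₀ := by
    ext s
    exact locusPair_baseChange hP.1 u₀ v₀ u v qX qY h h5 h6 s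
  rw [e]
  exact Groth.Agent.Lib.ProConsSchH8.isIndConstructible_preimage h _
    (isIndConstructible_locusPair hP u₀ v₀)

end Affine

section General

theorem locusPair_restrict (hP : ConsPropPair.IsFieldStablePair P) {X Y S : Scheme.{u}}
    (u : X ⟶ S) (v : Y ⟶ S) [LocallyOfFiniteType u] [QuasiCompact u]
    [LocallyOfFiniteType v] [QuasiCompact v] (U : S.Opens) :
    ((U : Set S) ↓∩ ConsPropPair.locusPair P u v) =
      ConsPropPair.locusPair P (pullback.snd u U.ι) (pullback.snd v U.ι) := by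
  have hX := IsPullback.of_hasPullback u U.ι
  have hY := IsPullback.of_hasPullback v U.ι
  ext t
  exact (locusPair_baseChange hP u v _ _ _ _ U.ι hX hY t).symm

theorem main5906 (hP : ConsPropPair.IsConsPair P) {X Y S : Scheme.{u}} (u : X ⟶ S) (v : Y ⟶ S)
    [LocallyOfFinitePresentation u] [QuasiCompact u] [QuasiSeparated u]
    [LocallyOfFinitePresentation v] [QuasiCompact v] [QuasiSeparated v] :
    IsLocallyConstructible (ConsPropPair.locusPair P u v) := by
  intro x
  obtain ⟨_, ⟨U, hU, rfl⟩, hxU, -⟩ :=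
    S.isBasis_affineOpens.exists_subset_of_mem_open (Set.mem_univ x) isOpen_univ
  refine ⟨U, U.2.mem_nhds hxU, U.2, ?_⟩
  haveI : IsAffine ((U : S.Opens) : Scheme.{u}) := hU
  rw [locusPair_restrict hP.1 u v U]
  exact isConstructible_locusPair_of_isAffine hP _ _

theorem exists_sUnion_locusPair_restrict (hP : ConsPropPair.IsIndConsPair P) {X Y S : Scheme.{u}}
    (u : X ⟶ S) (v : Y ⟶ S)
    [LocallyOfFinitePresentation u] [QuasiCompact u] [QuasiSeparated u]
    [LocallyOfFinitePresentation v] [QuasiCompact v] [QuasiSeparated v]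
    (U : S.Opens) (hU : IsAffineOpen U) :
    ∃ 𝒮 : Set (Set ↥(U : Set S)), (∀ T ∈ 𝒮, IsLocallyConstructible T) ∧
      ((U : Set S) ↓∩ ConsPropPair.locusPair P u v) = ⋃₀ 𝒮 := by
  haveI : IsAffine (U : Scheme.{u}) := hU
  have hind := isIndConstructible_locusPair_of_isAffine hP
    (pullback.snd u U.ι) (pullback.snd v U.ι)
  have hpro := Groth.Agent.Lib.ProConsCptH8.isProConstructible_compl hind
  haveI k1 : CompactSpace (U : Scheme.{u}) := inferInstance
  haveI k2 : PrespectralSpace (U : Scheme.{u}) := inferInstance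
  haveI k3 : QuasiSeparatedSpace (U : Scheme.{u}) := inferInstance
  obtain ⟨𝒮, h𝒮, hE⟩ := Groth.Agent.Lib.ProConsAffH8.exists_sInter_of_pro
    (Y := (U : Scheme.{u})) hpro
  refine ⟨compl '' 𝒮, ?_, ?_⟩
  · rintro _ ⟨T, hT, rfl⟩
    exact (h𝒮 T hT).compl.isLocallyConstructible
  · have e := locusPair_restrict hP.1 u v U
    have e2 : ConsPropPair.locusPair P (pullback.snd u U.ι) (pullback.snd v U.ι) =
        ⋃₀ (compl '' 𝒮) := by
      rw [← Set.compl_sInter, ← hE, compl_compl]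
    exact e.trans e2

theorem main5907 (hP : ConsPropPair.IsIndConsPair P) {X Y S : Scheme.{u}} (u : X ⟶ S)
    (v : Y ⟶ S)
    [LocallyOfFinitePresentation u] [QuasiCompact u] [QuasiSeparated u]
    [LocallyOfFinitePresentation v] [QuasiCompact v] [QuasiSeparated v] :
    ProCons.IsIndConstructible (ConsPropPair.locusPair P u v) := by
  intro x
  obtain ⟨_, ⟨U, hU, rfl⟩, hxU, -⟩ :=
    S.isBasis_affineOpens.exists_subset_of_mem_open (Set.mem_univ x) isOpen_univ
  obtain ⟨𝒮, h1, h2⟩ := exists_sUnion_locusPair_restrict hP u v U hU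
  exact ⟨U, U.2, hxU, 𝒮, h1, h2⟩

theorem main5908 (hP : ConsPropPair.IsIndConsPair P)
    {I : Type u} [SmallCategory I] [IsCofiltered I]
    (D : I ⥤ Scheme.{u}) (c : Limits.Cone D) (hc : Limits.IsLimit c)
    [∀ (i j : I) (a : i ⟶ j), IsAffineHom (D.map a)] (i₀ : I) [CompactSpace ↥(D.obj i₀)]
    {X₀ Y₀ : Scheme.{u}} (u₀ : X₀ ⟶ D.obj i₀) (v₀ : Y₀ ⟶ D.obj i₀)
    [LocallyOfFinitePresentation u₀] [QuasiCompact u₀] [QuasiSeparated u₀]
    [LocallyOfFinitePresentation v₀] [QuasiCompact v₀] [QuasiSeparated v₀]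
    {X Y : Scheme.{u}} (u : X ⟶ c.pt) (v : Y ⟶ c.pt) (qX : X ⟶ X₀) (qY : Y ⟶ Y₀)
    (hX : IsPullback qX u u₀ (c.π.app i₀)) (hY : IsPullback qY v v₀ (c.π.app i₀)) :
    (∀ s : ↥c.pt, s ∈ ConsPropPair.locusPair P u v) ↔
      ∃ (j : I) (φ : j ⟶ i₀) (Xj Yj : Scheme.{u}) (uj : Xj ⟶ D.obj j) (vj : Yj ⟶ D.obj j)
        (pX : Xj ⟶ X₀) (pY : Yj ⟶ Y₀), IsPullback pX uj u₀ (D.map φ) ∧
          IsPullback pY vj v₀ (D.map φ) ∧
          ∀ t : ↥(D.obj j), t ∈ ConsPropPair.locusPair P uj vj := by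
  have hind := main5907 hP u₀ v₀
  have hpro := Groth.Agent.Lib.ProConsCptH8.isProConstructible_compl hind
  have hbc : ∀ s : c.pt, s ∈ ConsPropPair.locusPair P u v ↔
      c.π.app i₀ s ∈ ConsPropPair.locusPair P u₀ v₀ :=
    fun s => locusPair_baseChange hP.1 u₀ v₀ u v qX qY (c.π.app i₀) hX hY s
  constructor
  · intro hall
    have hcpt : IsCompact ((⊤ : (D.obj i₀).Opens) : Set (D.obj i₀)) := by
      rw [Opens.coe_top]
      exact isCompact_univ
    obtain ⟨j, φ, hj⟩ := Groth.Agent.Lib.LimProConsH7.exists_preimage_inter_eq_empty D c hc i₀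
      (ConsPropPair.locusPair P u₀ v₀)ᶜ hpro ⊤ hcpt
      (fun y hy => absurd ((hbc y).mp (hall y)) hy)
    have hXj := IsPullback.of_hasPullback u₀ (D.map φ)
    have hYj := IsPullback.of_hasPullback v₀ (D.map φ)
    refine ⟨j, φ, _, _, pullback.snd u₀ (D.map φ), pullback.snd v₀ (D.map φ),
      pullback.fst u₀ (D.map φ), pullback.fst v₀ (D.map φ), hXj, hYj, ?_⟩
    intro t
    rw [locusPair_baseChange hP.1 u₀ v₀ _ _ _ _ (D.map φ) hXj hYj t]
    by_contra hcon
    exact hj t hcon (Opens.mem_top _)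
  · rintro ⟨j, φ, Xj, Yj, uj, vj, pX, pY, hXj, hYj, hall⟩ s
    rw [hbc]
    have h1 := (locusPair_baseChange hP.1 u₀ v₀ uj vj pX pY (D.map φ) hXj hYj
      (c.π.app j s)).mp (hall _)
    have h2 : D.map φ (c.π.app j s) = c.π.app i₀ s := by
      rw [← Scheme.Hom.comp_apply, c.w]
    rwa [h2] at h1

end General

end Groth.Agent.Lib.ConsPropH7
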