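import Mathlib
import Groth.Prelude
import Groth.Agent.Lib.PBProj1_helper5
import Groth.Agent.Lib.SymGr2_helper5
import Groth.Agent.Lib.QCohFT_helper9
import Groth.Agent.Lib.GenDegOne_helper3

/-!
# `Sym(E)` is generated in degree one with `Sym(E)_1` of finite type; the surjection
`Sym(𝒮_1) → 𝒮` in positive degrees  (helper5).  APPEND-ONLY once landed.
-/

set_option autoImplicit false
universe u
open CategoryTheory CategoryTheory.Limits AlgebraicGeometry TopologicalSpace Opposite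

noncomputable section

namespace Groth.Agent.PBProj

open QcqsLoc QCohExtn QCAlgMod Groth.Agent.SymAlg Groth.Agent.SymSum Groth.Agent.SymGr

theorem sum_image_coeff' {R B ι : Type*} [CommRing R] [CommRing B] [DecidableEq B] (φ : R →+* B)
    (T₀ : Finset ι) (m : ι → B) (c : ι → R) :
    ∃ c' : B → R, ∑ t ∈ T₀, φ (c t) * m t = ∑ b ∈ T₀.image m, φ (c' b) * b := by
  refine ⟨fun b => ∑ t ∈ T₀.filter (fun t => m t = b), c t, ?_⟩
  symm
  refine Finset.sum_image' (fun t => φ (c t) * m t) (fun t _ => ?_)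
  rw [map_sum, Finset.sum_mul]
  refine Finset.sum_congr rfl (fun a ha => ?_)
  rw [(Finset.mem_filter.mp ha).2]

section Sym
variable {Y : Scheme.{u}} (E : Y.Modules) [E.IsQuasicoherent] (𝒯 : RelProj.QCGrAlg Y)
  (j : E ⟶ 𝒯.toModule) (hj : RelProj.IsGrSymAlg E 𝒯 j)

include hj in
/-- The graded symmetric algebra is generated in degree one. -/
theorem isGenDegOne_of_isGrSymAlg : 𝒯.IsGenDegOne := by
  intro U hU
  rw [eq_top_iff]
  rintro x -
  obtain ⟨y, rfl⟩ := (symToA_bijective E 𝒯 j hj U hU).2 x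
  induction y using SymmetricAlgebra.induction with
  | algebraMap r =>
    rw [symToA_algebraMap]
    exact Subring.subset_closure (Or.inl (𝒯.str_mem U hU r))
  | ι m =>
    rw [symToA_ι]
    exact Subring.subset_closure (Or.inr (hj.2 U hU m))
  | mul a b ha hb => rw [map_mul]; exact Subring.mul_mem _ ha hb
  | add a b ha hb => rw [map_add]; exact Subring.add_mem _ ha hb

include hj in
/-- The degree-one part of `Sym(E)` is the image of `E`. -/
theorem exists_j_eq_of_mem_deg_one (U : Y.Opens) (hU : IsAffineOpen U)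
    (x : 𝒯.presheaf.obj (op U)) (hx : x ∈ 𝒯.deg U hU 1) :
    ∃ m : Γ(E, U), jAdd E 𝒯.toQCAlg j U m = x := by
  have h1 := deg_le_closure_mon (𝒯.str.app (op U)).hom (jAdd E 𝒯.toQCAlg j U)
    (symToA E 𝒯.toQCAlg j U) (symToA_algebraMap E 𝒯.toQCAlg j U) (symToA_ι E 𝒯.toQCAlg j U)
    (𝒯.deg U hU) (fun a => 𝒯.str_mem U hU a) (fun m => hj.2 U hU m)
    (symToA_bijective E 𝒯 j hj U hU).2 1 x hx
  clear hx
  induction h1 using AddSubgroup.closure_induction with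
  | mem z hz =>
    obtain ⟨a, l, hl, rfl⟩ := hz
    match l, hl with
    | [m], _ =>
      refine ⟨a • m, ?_⟩
      rw [jAdd_smul]
      simp
  | zero => exact ⟨0, map_zero _⟩
  | add a b _ _ ha hb =>
    obtain ⟨m, rfl⟩ := ha
    obtain ⟨m', rfl⟩ := hb
    exact ⟨m + m', map_add _ _ _⟩
  | neg a _ ha =>
    obtain ⟨m, rfl⟩ := ha
    exact ⟨-m, map_neg _ _⟩

include hj in
/-- The degree-one part of `Sym(E)` is of finite type when `E` is. -/
theorem isFTDeg_one_of_isGrSymAlg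
    (hft : SheafOfModules.IsFiniteType (R := Y.ringCatSheaf) E) : 𝒯.IsFTDeg 1 := by
  classical
  intro U hU
  haveI := hft
  haveI : Module.Finite Γ(Y, U) Γ(E, U) := QCohFT.finite_of_isFiniteType E hU
  obtain ⟨G, hG⟩ := (Module.finite_def.mp (inferInstance : Module.Finite Γ(Y, U) Γ(E, U)))
  refine ⟨G.image (jAdd E 𝒯.toQCAlg j U), ?_, ?_⟩
  · intro t ht
    obtain ⟨g, -, rfl⟩ := Finset.mem_image.mp (Finset.mem_coe.mp ht)
    exact hj.2 U hU g
  · intro x hx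
    obtain ⟨m, rfl⟩ := exists_j_eq_of_mem_deg_one E 𝒯 j hj U hU x hx
    have hm : m ∈ Submodule.span Γ(Y, U) (G : Set Γ(E, U)) := by rw [hG]; trivial
    obtain ⟨c, -, hc⟩ := Submodule.mem_span_finset.mp hm
    obtain ⟨c', hc'⟩ := sum_image_coeff' (𝒯.str.app (op U)).hom G (jAdd E 𝒯.toQCAlg j U) c
    refine ⟨c', ?_⟩
    rw [← hc', ← hc, map_sum]
    exact Finset.sum_congr rfl fun g _ => jAdd_smul E 𝒯.toQCAlg j U (c g) g

end Sym

section V
variable {Y : Scheme.{u}} (𝒮 : RelProj.QCGrAlg Y) (hgen : 𝒮.IsGenDegOne) (hft : 𝒮.IsFTDeg 1)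
  (𝒯 : RelProj.QCGrAlg Y) (j : degMod 𝒮 1 ⟶ 𝒯.toModule)
  (hj : RelProj.IsGrSymAlg (degMod 𝒮 1) 𝒯 j)

include hgen hft hj in
/-- The canonical graded homomorphism `Sym(𝒮_1) → 𝒮`, surjective in positive degrees. -/
theorem exists_v :
    ∃ (v : 𝒯.toQCAlg ⟶ 𝒮.toQCAlg) (_ : RelProj.IsGradedHom v),
      ∀ k, 1 ≤ k → ∀ (U : Y.Opens) (hU : IsAffineOpen U), ∀ y ∈ 𝒮.deg U hU k,
        ∃ x ∈ 𝒯.deg U hU k, (v.hom.app (op U)).hom x = y := by
  classical
  haveI := isQuasicoherent_degMod 𝒮 1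
  obtain ⟨v, hv, -⟩ := hj.1 𝒮.toQCAlg (degι 𝒮 1)
  have hvj : ∀ (U : Y.Opens) (m : Γ(degMod 𝒮 1, U)),
      (v.hom.app (op U)).hom (jAdd (degMod 𝒮 1) 𝒯.toQCAlg j U m) =
        toB 𝒮.toQCAlg (ap (degι 𝒮 1) U m) := fun U m =>
    congrArg (fun t : degMod 𝒮 1 ⟶ 𝒮.toModule => toB 𝒮.toQCAlg (ap t U m)) hv
  have hvstr : ∀ (U : Y.Opens) (a : Γ(Y, U)),
      (v.hom.app (op U)).hom ((𝒯.str.app (op U)).hom a) = (𝒮.str.app (op U)).hom a := by
    intro U a
    have h0 := NatTrans.congr_app v.comm (op U)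
    rw [NatTrans.comp_app] at h0
    exact congrArg (fun ψ => ψ.hom a) h0
  have hgr : RelProj.IsGradedHom v := by
    intro U hU d x hx
    refine map_mem_of_gen_sch (degMod 𝒮 1) 𝒯 j hj U hU (𝒮.deg U hU) (v.hom.app (op U)).hom
      (fun a => ?_) (fun m => ?_) d x hx
    · rw [hvstr]; exact 𝒮.str_mem U hU a
    · rw [hvj]; exact degι_mem 𝒮 1 U hU m
  refine ⟨v, hgr, ?_⟩
  intro k hk U hU
  obtain ⟨T, hT, hspan⟩ := hft U hU
  have hspan' : ∀ x ∈ 𝒮.deg U hU 1, ∃ c : 𝒮.presheaf.obj (op U) → Γ(Y, U),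
      x = ∑ t ∈ T, (((𝒮.strZero U hU).hom (c t) : 𝒮.deg U hU 0) : 𝒮.presheaf.obj (op U)) * t :=
    hspan
  induction k, hk using Nat.le_induction with
  | base =>
    intro y hy
    obtain ⟨m, hm⟩ := exists_of_mem 𝒮 1 U hU y hy
    exact ⟨jAdd (degMod 𝒮 1) 𝒯.toQCAlg j U m, hj.2 U hU m, (hvj U m).trans hm⟩
  | succ n hn ih =>
    intro y hy
    obtain ⟨b, hb, hyb⟩ := Groth.Agent.Lib.GenDegOne_helper3.exists_sum_of_mem_succ (𝒮.deg U hU)
      (𝒮.strZero U hU).hom T (fun t ht => hT (Finset.mem_coe.mpr ht)) hspan' (hgen U hU) n y hy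
    choose xb hxb hvxb using fun t => ih (b t) (hb t)
    have hex : ∀ t : 𝒮.presheaf.obj (op U), ∃ z ∈ 𝒯.deg U hU 1,
        t ∈ T → (v.hom.app (op U)).hom z = t := by
      intro t
      by_cases ht : t ∈ T
      · obtain ⟨m, hm⟩ := exists_of_mem 𝒮 1 U hU t (hT (Finset.mem_coe.mpr ht))
        exact ⟨jAdd (degMod 𝒮 1) 𝒯.toQCAlg j U m, hj.2 U hU m, fun _ => (hvj U m).trans hm⟩
      · exact ⟨0, zero_mem _, fun h => absurd h ht⟩
    choose zt hzt hvzt using hex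
    refine ⟨∑ t ∈ T, xb t * zt t, ?_, ?_⟩
    · exact sum_mem fun t _ => SetLike.mul_mem_graded (hxb t) (hzt t)
    · rw [map_sum, hyb]
      refine Finset.sum_congr rfl fun t ht => ?_
      rw [map_mul, hvxb t, hvzt t ht]

end V

end Groth.Agent.PBProj
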