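import Mathlib
import Groth.Prelude
import Groth.Agent.Lib.VALoc4_helper5
import Groth.Agent.Lib.RelProj_helper3

/-!
# Very ample is local on the base, part 5: the main theorem  (helper5).  APPEND-ONLY once landed.
-/

set_option autoImplicit false
universe u
open CategoryTheory AlgebraicGeometry TopologicalSpace Opposite
open scoped HomogeneousIdeal

noncomputable section

namespace Groth.Agent.VALoc

open QcqsLoc QCohExtn GenLocH8 Scheme.Modules Groth.Agent.UPB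

section LocalGen
variable {X Y : Scheme.{u}} (q : X ⟶ Y) (L : X.Modules) (hL : PicF.IsInvertible L)
  [((pushforward q).obj L).IsQuasicoherent] (V : Y.Opens)
  (h : RelProj.IsRelVeryAmple (q ∣_ V) (L.restrict (q ⁻¹ᵁ V).ι))

include hL in
theorem isInvertible_restrict_preimage : PicF.IsInvertible (L.restrict (q ⁻¹ᵁ V).ι) :=
  TensH8.isInvertible_of_iso' ((restrictFunctorIsoPullback (q ⁻¹ᵁ V).ι).app L).symm
    (TensH8.isInvertible_pullback (q ⁻¹ᵁ V).ι hL)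

include hL h in
/-- If `L|` is very ample for `q⁻¹V ⟶ V`, then around every point of `q⁻¹V` the module `L` is
generated by a section over the preimage of an open of the base. -/
theorem local_gen (x : X) (hx : x ∈ q ⁻¹ᵁ V) :
    ∃ (U₀ : Y.Opens) (e : Γ(L, q ⁻¹ᵁ U₀)) (O : X.Opens) (hO : O ≤ q ⁻¹ᵁ U₀),
      x ∈ O ∧ IsGen L O (rF L hO e) := by
  haveI : ((pullback V.ι).obj ((pushforward q).obj L)).IsQuasicoherent :=
    PBH8.isQuasicoherent_pullback V.ι _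
  have hLV := isInvertible_restrict_preimage q L hL V
  obtain ⟨𝒮V, jV, hjV, PV, pV, chartV, hPV, O1V, lamV, hO1V, φV, hφV, -, -⟩ :=
    Groth.Agent.PBundle.exists_projBundle ((pullback V.ι).obj ((pushforward q).obj L))
  obtain ⟨-, rV, hrV, τV, -, hτV⟩ := exists_classifying_immersion_iso (q ∣_ V)
    (L.restrict (q ⁻¹ᵁ V).ι) hLV h _ (VALoc.lam q V L) 𝒮V jV hjV pV chartV hPV O1V lamV hO1V φV hφV
  obtain ⟨W, -, y, O, hO, hxO, hgen⟩ := exists_gen_of_classifying _ 𝒮V jV hjV pV chartV O1V lamV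
    hO1V φV hφV (q ∣_ V) (L.restrict (q ⁻¹ᵁ V).ι) _ rV hrV τV hτV ⟨x, hx⟩
  have hsb : sb (q ∣_ V) ((pullback V.ι).obj ((pushforward q).obj L)) (L.restrict (q ⁻¹ᵁ V).ι)
        (((pullbackPushforwardAdjunction (q ∣_ V)).homEquiv _ _).symm (VALoc.lam q V L).hom) W y =
      QCohExtn.ap (VALoc.lam q V L).hom W y :=
    Groth.Agent.GrTw.adj_symm_cUV (q ∣_ V) (VALoc.lam q V L).hom W y
  rw [hsb] at hgen
  have heq := image_morphismRestrict_preimage q V W
  have h1 := TensH8.isGen_of_restrict (q ⁻¹ᵁ V).ι L _ hgen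
  refine ⟨V.ι ''ᵁ W, rF L heq.ge (QCohExtn.ap (VALoc.lam q V L).hom W y), (q ⁻¹ᵁ V).ι ''ᵁ O,
    ((q ⁻¹ᵁ V).ι.image_mono hO).trans heq.le, ⟨⟨x, hx⟩, hxO, rfl⟩, ?_⟩
  rw [rF_rF]
  exact h1

end LocalGen

section LocalImm
variable {X Y P : Scheme.{u}} (q : X ⟶ Y) (L : X.Modules) (hL : PicF.IsInvertible L)
  [((pushforward q).obj L).IsQuasicoherent]
  (𝒮 : RelProj.QCGrAlg Y) (j : (pushforward q).obj L ⟶ 𝒮.toModule)
  (hj : RelProj.IsGrSymAlg ((pushforward q).obj L) 𝒮 j) (p : P ⟶ Y)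
  (chart : ∀ (U : Y.Opens) (hU : IsAffineOpen U),
    (((p ⁻¹ᵁ U : P.Opens) : Scheme.{u}) ≅ Proj (𝒮.deg U hU)))
  (hP : RelProj.IsRelProj 𝒮 p chart)
  (O1 : P.Modules)
  (lam : ∀ (U : Y.Opens) (hU : IsAffineOpen U),
    O1 ⟶ (Scheme.Modules.pushforward (RelProj.emb p chart U hU)).obj
      (GrTwist.twist (𝒮.deg U hU) 1))
  (hO1 : RelProj.IsRelTwist 𝒮 p chart 1 O1 lam)
  (φ : (pushforward q).obj L ⟶ (Scheme.Modules.pushforward p).obj O1)
  (hφ : ∀ (U : Y.Opens) (hU : IsAffineOpen U) (e : Γ((pushforward q).obj L, U))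
    (y : ↥(RelProj.emb p chart U hU ⁻¹ᵁ (p ⁻¹ᵁ U))),
    GrTwist.val (V := RelProj.emb p chart U hU ⁻¹ᵁ (p ⁻¹ᵁ U))
        ((lam U hU).app (p ⁻¹ᵁ U) ((φ.app U) e)) y =
      algebraMap (𝒮.presheaf.obj (op U)) (GrTwist.Loc (𝒮.deg U hU) y.1)
        ((j.app U) e : 𝒮.presheaf.obj (op U)))
  (r : X ⟶ P) (hr : r ≫ p = q) (τ : (pullback r).obj O1 ≅ L)
  (hτ : (pullbackCongr hr).inv.app _ ≫ (pullbackComp r p).inv.app _ ≫
    (pullback r).map (((pullbackPushforwardAdjunction p).homEquiv _ O1).symm φ) ≫ τ.hom = sig q L)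
  (V : Y.Opens) (h : RelProj.IsRelVeryAmple (q ∣_ V) (L.restrict (q ⁻¹ᵁ V).ι))

include hL hj hP hO1 hφ hτ h in
/-- Over an open `V` of the base where `L|` is very ample, the classifying morphism of the counit
is an immersion. -/
theorem local_immersion : IsImmersion ((q ⁻¹ᵁ V).ι ≫ r) := by
  haveI : ((pullback V.ι).obj ((pushforward q).obj L)).IsQuasicoherent :=
    PBH8.isQuasicoherent_pullback V.ι _
  have hLV := isInvertible_restrict_preimage q L hL V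
  obtain ⟨𝒮V, jV, hjV, PV, pV, chartV, hPV, O1V, lamV, hO1V, φV, hφV, -, -⟩ :=
    Groth.Agent.PBundle.exists_projBundle ((pullback V.ι).obj ((pushforward q).obj L))
  obtain ⟨hepi, rV, hrV, τV, himmV, hτV⟩ := exists_classifying_immersion_iso (q ∣_ V)
    (L.restrict (q ⁻¹ᵁ V).ι) hLV h _ (VALoc.lam q V L) 𝒮V jV hjV pV chartV hPV O1V lamV hO1V φV hφV
  obtain ⟨hb, hhb, τh, hpb, hτh⟩ := Groth.Agent.PBBC.exists_bc V.ι ((pushforward q).obj L) 𝒮 j hj p
    chart hP O1 lam hO1 φ hφ 𝒮V jV hjV pV chartV hPV O1V lamV hO1V φV hφV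
  haveI := hepi
  have hrc := restrict_classifying q L hL 𝒮 j hj p chart hP O1 lam hO1 φ hφ r hr τ hτ V pV O1V φV
    rV hrV τV hτV hb hhb τh hτh
  haveI : IsOpenImmersion hb :=
    MorphismProperty.of_isPullback (P := @IsOpenImmersion) hpb.flip inferInstance
  haveI := himmV
  rw [hrc]
  infer_instance

end LocalImm

section Main
variable {X Y : Scheme.{u}} (q : X ⟶ Y) [QuasiCompact q] (L : X.Modules)
  (hL : PicF.IsInvertible L) {ι : Type u} (U : ι → Y.Opens) (hU : ⨆ i, U i = ⊤)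
  (h : ∀ i, RelProj.IsRelVeryAmple (q ∣_ U i) (L.restrict (q ⁻¹ᵁ U i).ι))

include hL hU h in
/-- **Very ample is local on the base** (EGA II 4.4.5), the hard direction. -/
theorem isRelVeryAmple_of_local : RelProj.IsRelVeryAmple q L := by
  haveI hsep : IsSeparated q := by
    refine IsZariskiLocalAtTarget.of_iSup_eq_top (P := @IsSeparated) U hU fun i => ?_
    obtain ⟨E, hE, 𝒮, j, hj, P, p, chart, hP, O1, lam, hO1, r, himm, hr, -⟩ := h i
    haveI : IsSeparated p :=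
      Groth.Agent.Lib.RelProj_helper3.of_chart @IsSeparated hP fun U hU => inferInstance
    haveI := himm
    rw [← hr]
    infer_instance
  haveI : L.IsQuasicoherent := TensH8.isQuasicoherent_of_isInvertible hL
  haveI hE : ((pushforward q).obj L).IsQuasicoherent :=
    QcqsLoc.isQuasicoherent_pushforward_qcqs q L
  obtain ⟨𝒮, j, hj, P, p, chart, hP, O1, lam, hO1, φ, hφ, -, -⟩ :=
    Groth.Agent.PBundle.exists_projBundle ((pushforward q).obj L)
  haveI : Epi (sig q L) := by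
    refine epi_sig_of_gen q L fun x => ?_
    have hx : q x ∈ ⨆ i, U i := by rw [hU]; trivial
    obtain ⟨i, hi⟩ := Opens.mem_iSup.mp hx
    exact local_gen q L hL (U i) (h i) x hi
  obtain ⟨r, hr, τ, hτ⟩ := exists_r_tau _ 𝒮 j hj p chart hP O1 lam hO1 φ hφ q L hL (sig q L)
  have himm : IsImmersion r := by
    refine IsZariskiLocalAtTarget.of_iSup_eq_top (P := @IsImmersion) (fun i => p ⁻¹ᵁ U i)
      (p.iSup_preimage_eq_top hU) fun i => ?_
    have e : r ⁻¹ᵁ p ⁻¹ᵁ U i = q ⁻¹ᵁ U i := by rw [← hr]; rfl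
    have h1 : (r ∣_ p ⁻¹ᵁ U i) ≫ (p ⁻¹ᵁ U i).ι = (X.isoOfEq e).hom ≫ (q ⁻¹ᵁ U i).ι ≫ r := by
      rw [morphismRestrict_ι, ← Category.assoc, Scheme.isoOfEq_hom_ι]
    haveI := local_immersion q L hL 𝒮 j hj p chart hP O1 lam hO1 φ hφ r hr τ hτ (U i) (h i)
    haveI : IsImmersion ((r ∣_ p ⁻¹ᵁ U i) ≫ (p ⁻¹ᵁ U i).ι) := by rw [h1]; infer_instance
    exact IsImmersion.of_comp (r ∣_ p ⁻¹ᵁ U i) (p ⁻¹ᵁ U i).ι
  exact ⟨_, hE, 𝒮, j, hj, P, p, chart, hP, O1, lam, hO1, r, himm, hr, ⟨τ.symm⟩⟩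

end Main

end Groth.Agent.VALoc
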