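import Mathlib
import Groth.Prelude
import Groth.Agent.Lib.VAmpPn8_helper5
import Groth.Agent.Lib.ProjUP2_helper5
import Groth.Agent.Lib.Tens25_helper8

/-!
# Very ample (projective-space form) for framed modules; local criteria (helper5)
APPEND-ONLY once landed.
-/

set_option autoImplicit false
universe u
open CategoryTheory CategoryTheory.Limits AlgebraicGeometry TopologicalSpace Opposite
open QcqsLoc GenLocH8 TensH8 FLFH8 QCohExtn

namespace Groth.Agent.VAmpPn

/-- Two modules framed with the same weight relative to an invertible module are isomorphic. -/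
theorem nonempty_iso_of_frames {X : Scheme.{u}} {L M M' : X.Modules} (hL : PicF.IsInvertible L)
    {n : ℕ} (Φ : Frame L M n) (Φ' : Frame L M' n) : Nonempty (M' ≅ M) := by
  let D : LocalFrame M' M 1 :=
    { ι := {p : Σ W : X.Opens, Γ(L, W) // IsGen L p.1 p.2}
      O := fun k => k.1.1
      e := fun k => Φ'.φ k.1.1 k.1.2
      m := fun k => Φ.φ k.1.1 k.1.2
      he := fun k => Φ'.isGen k.2
      hm := fun k => Φ.isGen k.2
      cover := fun x => by
        obtain ⟨W, -, hxW, e, he⟩ := exists_isGen hL x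
        exact ⟨⟨⟨W, e⟩, he⟩, hxW⟩
      compat := by
        rintro ⟨⟨W, a⟩, ha⟩ ⟨⟨W', b⟩, hb⟩ c hc
        have hl : W ⊓ W' ≤ W := inf_le_left
        have hr : W ⊓ W' ≤ W' := inf_le_right
        change rF M' hl (Φ'.φ W a) = c • rF M' hr (Φ'.φ W' b) at hc
        show rF M hl (Φ.φ W a) = c ^ 1 • rF M hr (Φ.φ W' b)
        obtain ⟨u, hu⟩ := (hb.res hr).exists_coef (rF L hl a)
        rw [Φ'.res, Φ'.res, hu, Φ'.smul] at hc
        have hcu : u ^ n = c := IsGen.coef_ext (Φ'.isGen (hb.res hr)) hc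
        rw [Φ.res, Φ.res, hu, Φ.smul, pow_one, hcu] }
  obtain ⟨θ, -⟩ := Groth.Agent.ProjUPE.exists_iso D
  exact ⟨θ⟩

/-- Ample ⟹ every module framed with a large weight is very ample. -/
theorem isRelVeryAmplePn_of_frame {X S : Scheme.{u}} (q : X ⟶ S) [LocallyOfFiniteType q]
    {L : X.Modules} (hL : CohB1.IsAmple L) :
    ∃ n₀ : ℕ, ∀ n, n₀ ≤ n → ∀ (M : X.Modules) (_ : Frame L M n),
      RelAmple.IsRelVeryAmplePn q M := by
  obtain ⟨n₀, h⟩ := isRelVeryAmplePn_tensorPow q hL
  refine ⟨n₀, fun n hn M Φ => ?_⟩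
  obtain ⟨θ⟩ := nonempty_iso_of_frames hL.1 Φ (Frame.pow L n)
  exact isRelVeryAmplePn_of_iso q θ (h n hn)

/-- A module which is very ample in the projective-space form is relatively ample, if the
morphism is quasi-compact. -/
theorem isRelAmple_of_isRelVeryAmplePn {X S : Scheme.{u}} (q : X ⟶ S) [QuasiCompact q]
    {M : X.Modules} (h : RelAmple.IsRelVeryAmplePn q M) : RelAmple.IsRelAmple q M := by
  obtain ⟨n, i, hi, hq, ⟨β⟩⟩ := h
  have hq' : i ≫ CohB1.ProjSpaceOver.toBase n S = q := hq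
  subst hq'
  exact (isRelAmple_congr _ β).mpr
    (isRelAmple_pullback_of_isEmbedding i _ i.isEmbedding (isRelAmple_twistOver n S))

end Groth.Agent.VAmpPn
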