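import Mathlib
import Groth.Prelude
import Groth.Agent.Lib.VAmpPn9_helper5
import Groth.Agent.Lib.Tens10_helper8
import Groth.Agent.Lib.VALoc5_helper5
import Groth.Agent.Lib.PnVA2_helper5

/-!
# Relatively ample ⟹ large twists are very ample, over a quasi-compact base  (helper5).
APPEND-ONLY once landed.
-/

set_option autoImplicit false
universe u
open CategoryTheory AlgebraicGeometry TopologicalSpace Opposite
open QcqsLoc GenLocH8 TensH8 FLFH8 QCohExtn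

namespace Groth.Agent.VAmpPn

/-- Two modules bi-framed with the same weights relative to invertible modules are isomorphic. -/
theorem nonempty_iso_of_frames₂ {X : Scheme.{u}} {L L' M M' : X.Modules}
    (hL : PicF.IsInvertible L) (hL' : PicF.IsInvertible L') {a b : ℕ}
    (Ψ : Frame₂ L L' M a b) (Ψ' : Frame₂ L L' M' a b) : Nonempty (M' ≅ M) := by
  let D : LocalFrame M' M 1 :=
    { ι := {p : Σ W : X.Opens, Γ(L, W) × Γ(L', W) // IsGen L p.1 p.2.1 ∧ IsGen L' p.1 p.2.2}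
      O := fun k => k.1.1
      e := fun k => Ψ'.φ k.1.1 k.1.2.1 k.1.2.2
      m := fun k => Ψ.φ k.1.1 k.1.2.1 k.1.2.2
      he := fun k => Ψ'.isGen k.2.1 k.2.2
      hm := fun k => Ψ.isGen k.2.1 k.2.2
      cover := fun x => by
        obtain ⟨W, hxW, e, e', he, he'⟩ := exists_isGen₂ hL hL' x
        exact ⟨⟨⟨W, e, e'⟩, he, he'⟩, hxW⟩
      compat := by
        rintro ⟨⟨W, a₁, a₂⟩, ha₁, ha₂⟩ ⟨⟨W', b₁, b₂⟩, hb₁, hb₂⟩ c hc
        have hl : W ⊓ W' ≤ W := inf_le_left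
        have hr : W ⊓ W' ≤ W' := inf_le_right
        change rF M' hl (Ψ'.φ W a₁ a₂) = c • rF M' hr (Ψ'.φ W' b₁ b₂) at hc
        show rF M hl (Ψ.φ W a₁ a₂) = c ^ 1 • rF M hr (Ψ.φ W' b₁ b₂)
        obtain ⟨u, hu⟩ := (hb₁.res hr).exists_coef (rF L hl a₁)
        obtain ⟨u', hu'⟩ := (hb₂.res hr).exists_coef (rF L' hl a₂)
        rw [Ψ'.res, Ψ'.res, hu, hu', Ψ'.smul] at hc
        have hcu : u ^ a * u' ^ b = c :=
          IsGen.coef_ext (Ψ'.isGen (hb₁.res hr) (hb₂.res hr)) hc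
        rw [Ψ.res, Ψ.res, hu, hu', Ψ.smul, pow_one, hcu] }
  obtain ⟨θ, -⟩ := Groth.Agent.ProjUPE.exists_iso D
  exact ⟨θ⟩

/-- **Relatively ample ⟹ `L^n ⊗ L'` very ample for `n` large**, over a quasi-compact base
(EGA II 4.6.11). -/
theorem isRelVeryAmple_twist_of_isRelAmple {X Y : Scheme.{u}} [CompactSpace Y] (f : X ⟶ Y)
    [QuasiCompact f] [LocallyOfFiniteType f] (L L' : X.Modules) (hL : PicF.IsInvertible L)
    (hL' : PicF.IsInvertible L') (h : RelAmple.IsRelAmple f L) :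
    ∃ n₀ : ℕ, ∀ n : ℕ, n₀ ≤ n →
      RelProj.IsRelVeryAmple f (CohB1.tensorMod (CohB1.tensorPow L n) L') := by
  classical
  obtain ⟨T, hT⟩ := isCompact_univ.elim_finite_subcover
    (fun V : Y.affineOpens => ((V.1 : Y.Opens) : Set Y)) (fun V => V.1.isOpen)
    (fun y _ => by
      obtain ⟨V, hV, hyV, -⟩ := Opens.isBasis_iff_nbhd.mp Y.isBasis_affineOpens
        (Opens.mem_top y)
      exact Set.mem_iUnion.mpr ⟨⟨V, hV⟩, hyV⟩)
  have hV : ∀ V : Y.affineOpens, ∃ n₀ : ℕ, ∀ n, n₀ ≤ n →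
      RelAmple.IsRelVeryAmplePn (f ∣_ V.1)
        (CohB1.tensorMod (CohB1.tensorPow (L.restrict (f ⁻¹ᵁ V.1).ι) n)
          (L'.restrict (f ⁻¹ᵁ V.1).ι)) := fun V =>
    isRelVeryAmplePn_twist (f ∣_ V.1) (h.2 V) (isInvertible_restrict (f ⁻¹ᵁ V.1).ι hL')
  choose nV hnV using hV
  refine ⟨T.sup nV, fun n hn => ?_⟩
  have hM : PicF.IsInvertible (CohB1.tensorMod (CohB1.tensorPow L n) L') :=
    isInvertible_tensorMod (isInvertible_tensorPow hL n) hL'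
  have hcov : ⨆ V : {V // V ∈ T}, (V.1.1 : Y.Opens) = ⊤ := by
    rw [eq_top_iff]
    intro y _
    obtain ⟨V, hV⟩ := Set.mem_iUnion.mp (hT (Set.mem_univ y))
    obtain ⟨hVT, hyV⟩ := Set.mem_iUnion.mp hV
    exact Opens.mem_iSup.mpr ⟨⟨V, hVT⟩, hyV⟩
  refine Groth.Agent.VALoc.isRelVeryAmple_of_local f _ hM (fun V : {V // V ∈ T} => V.1.1) hcov
    fun V => ?_
  refine Groth.Agent.PnVA.isRelVeryAmple_of_isRelVeryAmplePn _ _
    (isInvertible_restrict (f ⁻¹ᵁ V.1.1).ι hM) ?_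
  have h1 := hnV V.1 n (le_trans (Finset.le_sup V.2) hn)
  obtain ⟨θ⟩ := nonempty_iso_of_frames₂ (isInvertible_restrict (f ⁻¹ᵁ V.1.1).ι hL)
    (isInvertible_restrict (f ⁻¹ᵁ V.1.1).ι hL')
    ((Frame₂.tmul (Frame.pow L n) (Frame.self L')).restrict (f ⁻¹ᵁ V.1.1).ι)
    (Frame₂.tmul (Frame.pow (L.restrict (f ⁻¹ᵁ V.1.1).ι) n)
      (Frame.self (L'.restrict (f ⁻¹ᵁ V.1.1).ι)))
  exact isRelVeryAmplePn_of_iso _ θ h1

/-- **Relatively ample ⟹ `L^n` very ample for `n` large**, over a quasi-compact base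
(EGA II 4.6.11). -/
theorem isRelVeryAmple_tensorPow_of_isRelAmple {X Y : Scheme.{u}} [CompactSpace Y] (f : X ⟶ Y)
    [QuasiCompact f] [LocallyOfFiniteType f] (L : X.Modules) (hL : PicF.IsInvertible L)
    (h : RelAmple.IsRelAmple f L) :
    ∃ n₀ : ℕ, ∀ n : ℕ, n₀ ≤ n → RelProj.IsRelVeryAmple f (CohB1.tensorPow L n) := by
  obtain ⟨n₀, h0⟩ := isRelVeryAmple_twist_of_isRelAmple f L (Coh.structureModule X) hL
    (isInvertible_structureModule (X := X)) h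
  refine ⟨n₀, fun n hn => ?_⟩
  obtain ⟨E, hE, 𝒮, j, hj, P, p, chart, hP, O1, lam, hO1, i, hi, hip, ⟨eL⟩⟩ := h0 n hn
  exact ⟨E, hE, 𝒮, j, hj, P, p, chart, hP, O1, lam, hO1, i, hi, hip,
    ⟨(SecTwist.unitorR _).symm ≪≫ eL⟩⟩

end Groth.Agent.VAmpPn
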