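import Mathlib
import Groth.Prelude
import Groth.Agent.Lib.PBProj2_helper5
import Groth.Agent.Lib.GradedGen_helper3

/-!
# Graded rings generated in degree one: a graded map hitting all of degree one is surjective in
positive degrees; the canonical `Sym(𝒮_1) ⟶ 𝒮` without finiteness  (helper5).  APPEND-ONLY.
-/

set_option autoImplicit false
universe u
open CategoryTheory CategoryTheory.Limits AlgebraicGeometry TopologicalSpace Opposite DirectSum
open scoped HomogeneousIdeal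

noncomputable section

namespace Groth.Agent.GenDeg1

section Ring
variable {A B : Type*} [CommRing A] [CommRing B] (𝒜 : ℕ → AddSubgroup A) [GradedRing 𝒜]
  (ℬ : ℕ → AddSubgroup B) [GradedRing ℬ]

theorem adjoin_eq_top (hgen : Subring.closure ((ℬ 0 : Set B) ∪ (ℬ 1 : Set B)) = ⊤) :
    Algebra.adjoin (ℬ 0) (ℬ 1 : Set B) = ⊤ := by
  rw [eq_top_iff]
  intro x _
  have hx : x ∈ Subring.closure ((ℬ 0 : Set B) ∪ (ℬ 1 : Set B)) := hgen ▸ Subring.mem_top x
  have hle : Subring.closure ((ℬ 0 : Set B) ∪ (ℬ 1 : Set B)) ≤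
      (Algebra.adjoin (ℬ 0) (ℬ 1 : Set B)).toSubring := by
    rw [Subring.closure_le]
    rintro y (hy | hy)
    · exact Subalgebra.algebraMap_mem _ (⟨y, hy⟩ : ℬ 0)
    · exact Algebra.subset_adjoin hy
  exact hle hx

theorem irrelevant_eq_span (hgen : Subring.closure ((ℬ 0 : Set B) ∪ (ℬ 1 : Set B)) = ⊤) :
    (HomogeneousIdeal.irrelevant ℬ).toIdeal = Ideal.span (ℬ 1 : Set B) :=
  Groth.Agent.Lib.GradedGen_helper3.irrelevant_eq_span_of_adjoin ℬ (ℬ 1 : Set B)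
    (fun _ he => ⟨1, one_pos, he⟩) (adjoin_eq_top ℬ hgen)

/-- A graded ring map onto the degree-one part of a ring generated in degree one is surjective
in every positive degree. -/
theorem exists_preimage (ψ : A →+* B) (hψ : ∀ n x, x ∈ 𝒜 n → ψ x ∈ ℬ n)
    (hgen : Subring.closure ((ℬ 0 : Set B) ∪ (ℬ 1 : Set B)) = ⊤)
    (h1 : ∀ y ∈ ℬ 1, ∃ x ∈ 𝒜 1, ψ x = y) :
    ∀ k, 1 ≤ k → ∀ y ∈ ℬ k, ∃ x ∈ 𝒜 k, ψ x = y := by
  classical
  have hirr := irrelevant_eq_span ℬ hgen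
  intro k hk
  induction k, hk using Nat.le_induction with
  | base => exact h1
  | succ n hn ih =>
    intro y hy
    have hys : y ∈ Ideal.span (ℬ 1 : Set B) :=
      hirr ▸ HomogeneousIdeal.mem_irrelevant_of_mem ℬ (Nat.succ_pos n) hy
    have key : ∀ z ∈ Ideal.span (ℬ 1 : Set B), ∀ a : B,
        ∃ x ∈ 𝒜 (n + 1), ψ x = (decompose ℬ (a * z) (n + 1) : B) := by
      intro z hz
      induction hz using Submodule.span_induction with
      | mem e he =>
        intro a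
        obtain ⟨x', hx', hψx'⟩ := ih (decompose ℬ a n : B) (SetLike.coe_mem _)
        obtain ⟨x'', hx'', hψx''⟩ := h1 e he
        refine ⟨x' * x'', SetLike.mul_mem_graded hx' hx'', ?_⟩
        rw [map_mul, hψx', hψx'',
          coe_decompose_mul_of_right_mem_of_le ℬ he (Nat.le_add_left 1 n), Nat.add_sub_cancel]
      | zero =>
        intro a
        exact ⟨0, zero_mem _, by simp⟩
      | add y z _ _ hy hz =>
        intro a
        obtain ⟨x₁, hx₁, h₁⟩ := hy a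
        obtain ⟨x₂, hx₂, h₂⟩ := hz a
        refine ⟨x₁ + x₂, add_mem hx₁ hx₂, ?_⟩
        rw [map_add, h₁, h₂, mul_add, decompose_add, DirectSum.add_apply, AddMemClass.coe_add]
      | smul b z _ hz =>
        intro a
        obtain ⟨x, hx, h⟩ := hz (a * b)
        refine ⟨x, hx, ?_⟩
        rw [h, smul_eq_mul, mul_assoc]
    obtain ⟨x, hx, h⟩ := key y hys 1
    refine ⟨x, hx, ?_⟩
    rw [h, one_mul, DirectSum.decompose_of_mem_same ℬ hy]

end Ring

open QcqsLoc QCohExtn QCAlgMod Groth.Agent.SymAlg Groth.Agent.SymSum Groth.Agent.SymGr Groth.Agent.PBProj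

section V
variable {Y : Scheme.{u}} (𝒮 : RelProj.QCGrAlg Y) (hgen : 𝒮.IsGenDegOne)
  (𝒯 : RelProj.QCGrAlg Y) (j : degMod 𝒮 1 ⟶ 𝒯.toModule)
  (hj : RelProj.IsGrSymAlg (degMod 𝒮 1) 𝒯 j)

include hgen hj in
/-- The canonical graded homomorphism `Sym(𝒮_1) → 𝒮`, surjective in positive degrees (no finiteness
hypothesis). -/
theorem exists_v' :
    ∃ (v : 𝒯.toQCAlg ⟶ 𝒮.toQCAlg) (_ : RelProj.IsGradedHom v),
      (∀ (U : Y.Opens) (m : Γ(degMod 𝒮 1, U)),
        (v.hom.app (op U)).hom (jAdd (degMod 𝒮 1) 𝒯.toQCAlg j U m) =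
          toB 𝒮.toQCAlg (ap (degι 𝒮 1) U m)) ∧
      ∀ k, 1 ≤ k → ∀ (U : Y.Opens) (hU : IsAffineOpen U), ∀ y ∈ 𝒮.deg U hU k,
        ∃ x ∈ 𝒯.deg U hU k, (v.hom.app (op U)).hom x = y := by
  classical
  haveI := isQuasicoherent_degMod 𝒮 1
  obtain ⟨v, hv, -⟩ := hj.1 𝒮.toQCAlg (degι 𝒮 1)
  have hvj : ∀ (U : Y.Opens) (m : Γ(degMod 𝒮 1, U)),
      (v.hom.app (op U)).hom (jAdd (degMod 𝒮 1) 𝒯.toQCAlg j U m) =
        toB 𝒮.toQCAlg (ap (degι 𝒮 1) U m) := fun U m =>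
    congrArg (fun t : degMod 𝒮 1 ⟶ 𝒮.toModule => toB 𝒮.toQCAlg (ap t U m)) hv
  have hvstr : ∀ (U : Y.Opens) (a : Γ(Y, U)),
      (v.hom.app (op U)).hom ((𝒯.str.app (op U)).hom a) = (𝒮.str.app (op U)).hom a := by
    intro U a
    have h0 := NatTrans.congr_app v.comm (op U)
    rw [NatTrans.comp_app] at h0
    exact congrArg (fun ψ => ψ.hom a) h0
  have hgr : RelProj.IsGradedHom v := by
    intro U hU d x hx
    refine map_mem_of_gen_sch (degMod 𝒮 1) 𝒯 j hj U hU (𝒮.deg U hU) (v.hom.app (op U)).hom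
      (fun a => ?_) (fun m => ?_) d x hx
    · rw [hvstr]; exact 𝒮.str_mem U hU a
    · rw [hvj]; exact degι_mem 𝒮 1 U hU m
  refine ⟨v, hgr, hvj, ?_⟩
  intro k hk U hU
  refine exists_preimage (𝒯.deg U hU) (𝒮.deg U hU) (v.hom.app (op U)).hom
    (fun n x hx => hgr U hU n x hx) (hgen U hU) (fun y hy => ?_) k hk
  obtain ⟨m, hm⟩ := exists_of_mem 𝒮 1 U hU y hy
  exact ⟨jAdd (degMod 𝒮 1) 𝒯.toQCAlg j U m, hj.2 U hU m, (hvj U m).trans hm⟩

end V

end Groth.Agent.GenDeg1
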