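import Mathlib
import Groth.Prelude
import Groth.Agent.Lib.VAmpEpi1_helper5

/-!
# `O_P(1)` is invertible and `p^*E ⟶ O_P(1)` is an epimorphism, for `P = Proj(𝒮)` with `𝒮`
generated by the image of a degree-one map `j : E ⟶ 𝒮`  (helper5).  APPEND-ONLY once landed.

Generalisations of `VAmpEpi.isInvertible_O1` and `PBEpi.epi_adj` (where `𝒮 = Sym(E)`).
-/

set_option autoImplicit false
universe u
open CategoryTheory CategoryTheory.Limits AlgebraicGeometry TopologicalSpace Opposite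
open scoped HomogeneousIdeal

noncomputable section

namespace Groth.Agent.PBEpi2

open QcqsLoc QCohExtn Groth.Agent.GrTw Groth.Agent.RelProjTN Groth.Agent.SymSum Groth.Agent.SymGr

variable {Y P : Scheme.{u}} (𝒮 : RelProj.QCGrAlg Y) (p : P ⟶ Y)
  (chart : ∀ (U : Y.Opens) (hU : IsAffineOpen U),
    (((p ⁻¹ᵁ U : P.Opens) : Scheme.{u}) ≅ Proj (𝒮.deg U hU)))
variable (E : Y.Modules) (j : E ⟶ 𝒮.toModule)
  (hj1 : ∀ (V : Y.Opens) (hV : IsAffineOpen V) (e : Γ(E, V)),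
    jAdd E 𝒮.toQCAlg j V e ∈ 𝒮.deg V hV 1)
  (hspan : ∀ (V : Y.Opens) (hV : IsAffineOpen V),
    ((𝒮.deg V hV)₊).toIdeal ≤ Ideal.span (Set.range (jAdd E 𝒮.toQCAlg j V)))

include hj1 hspan in
/-- Around every point of `P` over an affine `V`, a section of `O(1)` over all of `p⁻¹ V`
generates `O(1)` on an affine neighbourhood. -/
theorem exists_gen (n : ℤ) (hn : n = (1 : ℤ) * ((1 : ℕ) : ℤ)) (O1 : P.Modules)
    (lam : ∀ (U : Y.Opens) (hU : IsAffineOpen U),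
      O1 ⟶ (Scheme.Modules.pushforward (RelProj.emb p chart U hU)).obj
        (GrTwist.twist (𝒮.deg U hU) n))
    (hO1 : RelProj.IsRelTwist 𝒮 p chart n O1 lam) (V : Y.Opens) (hV : IsAffineOpen V)
    (x : P) (hx' : x ∈ p ⁻¹ᵁ V) :
    ∃ (ε₀ : Γ(O1, p ⁻¹ᵁ V)) (W : P.Opens) (hW : W ≤ p ⁻¹ᵁ V), IsAffineOpen W ∧ x ∈ W ∧
      GenLocH8.IsGen O1 W (rF O1 hW ε₀) := by
  obtain ⟨e, he⟩ : ∃ e : Γ(E, V), jAdd E 𝒮.toQCAlg j V e ∉
      (zpt p chart V hV x hx').asHomogeneousIdeal := by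
    by_contra hcon
    push Not at hcon
    apply (zpt p chart V hV x hx').not_irrelevant_le
    show ((𝒮.deg V hV)₊).toIdeal ≤ _
    refine (hspan V hV).trans ?_
    rw [Ideal.span_le]
    rintro _ ⟨e, rfl⟩
    exact hcon e
  have hf : jAdd E 𝒮.toQCAlg j V e ∈ 𝒮.deg V hV 1 := hj1 V hV e
  let W : P.Opens := (RelProj.emb p chart V hV) ''ᵁ
    (Proj.basicOpen (𝒮.deg V hV) (jAdd E 𝒮.toQCAlg j V e))
  have hxW : x ∈ W := ⟨zpt p chart V hV x hx', (Proj.mem_basicOpen _ _ _).mpr he,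
    emb_zpt V hV x hx'⟩
  have hWr : W ≤ (RelProj.emb p chart V hV).opensRange := Scheme.Hom.image_le_opensRange _ _
  have hWf : (RelProj.emb p chart V hV) ⁻¹ᵁ W ≤
      Proj.basicOpen (𝒮.deg V hV) (jAdd E 𝒮.toQCAlg j V e) := by
    rw [Scheme.Hom.preimage_image_eq]
  have hWV : W ≤ p ⁻¹ᵁ V := hWr.trans (Groth.Agent.GrTw.opensRange_emb 𝒮 p chart V hV).le
  have hWaff : IsAffineOpen W :=
    (Proj.isAffineOpen_basicOpen _ _ hf one_pos).image_of_isOpenImmersion _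
  obtain ⟨t, ht⟩ := Groth.Agent.VAmpEpi.exists_global (𝒮.deg V hV) n (by rw [hn]; norm_num) hf
  obtain ⟨ε₀, hε₀⟩ := (hO1.bijective V hV (p ⁻¹ᵁ V) le_rfl).2
    (rF (GrTwist.twist (𝒮.deg V hV) n)
      (le_top : (RelProj.emb p chart V hV) ⁻¹ᵁ (p ⁻¹ᵁ V) ≤ ⊤) t)
  refine ⟨ε₀, W, hWV, hWaff, hxW, ?_⟩
  refine Groth.Agent.PBEpi.isGen_of_val 𝒮 p chart n hn O1 lam hO1 V hV hf W hWr hWf _ (fun y => ?_)
  have h1 : (lam V hV).app W (rF O1 hWV ε₀) =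
      rF ((Scheme.Modules.pushforward (RelProj.emb p chart V hV)).obj
        (GrTwist.twist (𝒮.deg V hV) n)) hWV ((lam V hV).app (p ⁻¹ᵁ V) ε₀) :=
    QCohExtn.ap_rF (lam V hV) hWV ε₀
  rw [h1]
  have h2 : (lam V hV).app (p ⁻¹ᵁ V) ε₀ = rF (GrTwist.twist (𝒮.deg V hV) n)
      (le_top : (RelProj.emb p chart V hV) ⁻¹ᵁ (p ⁻¹ᵁ V) ≤ ⊤) t := hε₀
  rw [h2]
  exact ht ⟨y.1, trivial⟩

include hj1 hspan in
/-- `O_P(1)` is invertible. -/
theorem isInvertible_O1 (n : ℤ) (hn : n = (1 : ℤ) * ((1 : ℕ) : ℤ)) (O1 : P.Modules)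
    (lam : ∀ (U : Y.Opens) (hU : IsAffineOpen U),
      O1 ⟶ (Scheme.Modules.pushforward (RelProj.emb p chart U hU)).obj
        (GrTwist.twist (𝒮.deg U hU) n))
    (hO1 : RelProj.IsRelTwist 𝒮 p chart n O1 lam) : PicF.IsInvertible O1 := by
  apply TensH8.isInvertible_of_gens
  intro x
  obtain ⟨V, hV, hxV, -⟩ := Opens.isBasis_iff_nbhd.mp Y.isBasis_affineOpens
    (Opens.mem_top (p.base x))
  obtain ⟨ε₀, W, hW, hWaff, hxW, hgen⟩ :=
    exists_gen 𝒮 p chart E j hj1 hspan n hn O1 lam hO1 V hV x hxV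
  exact ⟨W, hWaff, hxW, _, hgen⟩

include hj1 hspan in
/-- **`p^*E ⟶ O_P(1)` is an epimorphism.** -/
theorem epi_adj (n : ℤ) (hn : n = (1 : ℤ) * ((1 : ℕ) : ℤ)) (O1 : P.Modules)
    (lam : ∀ (U : Y.Opens) (hU : IsAffineOpen U),
      O1 ⟶ (Scheme.Modules.pushforward (RelProj.emb p chart U hU)).obj
        (GrTwist.twist (𝒮.deg U hU) n))
    (hO1 : RelProj.IsRelTwist 𝒮 p chart n O1 lam)
    (φ : E ⟶ (Scheme.Modules.pushforward p).obj O1)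
    (hφ : ∀ (U : Y.Opens) (hU : IsAffineOpen U) (e : Γ(E, U))
      (y : ↥(RelProj.emb p chart U hU ⁻¹ᵁ (p ⁻¹ᵁ U))),
      GrTwist.val (V := RelProj.emb p chart U hU ⁻¹ᵁ (p ⁻¹ᵁ U))
          ((lam U hU).app (p ⁻¹ᵁ U) ((φ.app U) e)) y =
        algebraMap (𝒮.presheaf.obj (op U)) (GrTwist.Loc (𝒮.deg U hU) y.1)
          ((j.app U) e : 𝒮.presheaf.obj (op U))) :
    Epi (((Scheme.Modules.pullbackPushforwardAdjunction p).homEquiv E O1).symm φ) := by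
  apply TensH8.epi_of_locally_surjective
  intro U m x hx
  obtain ⟨V, hV, hxV, -⟩ := Opens.isBasis_iff_nbhd.mp Y.isBasis_affineOpens
    (Opens.mem_top (p.base x))
  have hx' : x ∈ p ⁻¹ᵁ V := hxV
  obtain ⟨e, he⟩ : ∃ e : Γ(E, V), jAdd E 𝒮.toQCAlg j V e ∉
      (zpt p chart V hV x hx').asHomogeneousIdeal := by
    by_contra hcon
    push Not at hcon
    apply (zpt p chart V hV x hx').not_irrelevant_le
    show ((𝒮.deg V hV)₊).toIdeal ≤ _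
    refine (hspan V hV).trans ?_
    rw [Ideal.span_le]
    rintro _ ⟨e, rfl⟩
    exact hcon e
  have hf : jAdd E 𝒮.toQCAlg j V e ∈ 𝒮.deg V hV 1 := hj1 V hV e
  let W : P.Opens := (RelProj.emb p chart V hV) ''ᵁ
    (Proj.basicOpen (𝒮.deg V hV) (jAdd E 𝒮.toQCAlg j V e))
  have hxW : x ∈ W := ⟨zpt p chart V hV x hx', (Proj.mem_basicOpen _ _ _).mpr he,
    emb_zpt V hV x hx'⟩
  have hWr : W ≤ (RelProj.emb p chart V hV).opensRange := Scheme.Hom.image_le_opensRange _ _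
  have hWf : (RelProj.emb p chart V hV) ⁻¹ᵁ W ≤
      Proj.basicOpen (𝒮.deg V hV) (jAdd E 𝒮.toQCAlg j V e) := by
    rw [Scheme.Hom.preimage_image_eq]
  have hWV : W ≤ p ⁻¹ᵁ V := hWr.trans (Groth.Agent.GrTw.opensRange_emb 𝒮 p chart V hV).le
  let ε₀ : Γ(O1, p ⁻¹ᵁ V) := QCohExtn.ap φ V e
  have hgen : GenLocH8.IsGen O1 W (rF O1 hWV ε₀) := by
    refine Groth.Agent.PBEpi.isGen_of_val 𝒮 p chart n hn O1 lam hO1 V hV hf W hWr hWf _
      (fun y => ?_)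
    have h1 : (lam V hV).app W (rF O1 hWV ε₀) =
        rF ((Scheme.Modules.pushforward (RelProj.emb p chart V hV)).obj
          (GrTwist.twist (𝒮.deg V hV) n)) hWV ((lam V hV).app (p ⁻¹ᵁ V) ε₀) :=
      QCohExtn.ap_rF (lam V hV) hWV ε₀
    rw [h1]
    exact hφ V hV e ⟨y.1, hWV y.2⟩
  obtain ⟨c, hc⟩ := (hgen (U ⊓ W) inf_le_right).1 (rF O1 inf_le_left m)
  have hle : U ⊓ W ≤ p ⁻¹ᵁ V := inf_le_right.trans hWV
  refine ⟨U ⊓ W, inf_le_left, ⟨hx, hxW⟩,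
    c • rF ((Scheme.Modules.pullback p).obj E) hle (PBH8.cUV p E le_rfl e), ?_⟩
  rw [QCohExtn.ap_smul, QCohExtn.ap_rF, adj_symm_cUV, hc, rF_rF]

end Groth.Agent.PBEpi2
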