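import Mathlib
import Groth.Prelude
import Groth.Agent.Lib.UPB15_helper5

/-!
# `HCompat` and the pulled back `O(1)` along `Proj(u)` for a general graded `g`-morphism
`u : Sym(E) ⟶ g_* 𝒮'` whose values on `E` are given by a map `j' : g^*E ⟶ 𝒮'`
(generalisation of `UPB14`/`UPB15`, where `u = uGrOf …`)  (helper5).  APPEND-ONLY once landed.
-/

set_option autoImplicit false
universe u
open CategoryTheory AlgebraicGeometry TopologicalSpace Opposite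
open scoped HomogeneousIdeal

noncomputable section

namespace Groth.Agent.UPB

open QcqsLoc QCohExtn Groth.Agent.GrTw Groth.Agent.RelProjTN Groth.Agent.SymSum Groth.Agent.SymGr
  GenLocH8 Scheme.Modules

variable {Y P : Scheme.{u}} (E : Y.Modules) [E.IsQuasicoherent]
  (𝒮 : RelProj.QCGrAlg Y) (j : E ⟶ 𝒮.toModule) (hj : RelProj.IsGrSymAlg E 𝒮 j) (p : P ⟶ Y)
  (chart : ∀ (U : Y.Opens) (hU : IsAffineOpen U),
    (((p ⁻¹ᵁ U : P.Opens) : Scheme.{u}) ≅ Proj (𝒮.deg U hU)))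
  (O1 : P.Modules)
  (lam : ∀ (U : Y.Opens) (hU : IsAffineOpen U),
    O1 ⟶ (Scheme.Modules.pushforward (RelProj.emb p chart U hU)).obj
      (GrTwist.twist (𝒮.deg U hU) 1))
  (hO1 : RelProj.IsRelTwist 𝒮 p chart 1 O1 lam)
  (φ : E ⟶ (Scheme.Modules.pushforward p).obj O1)
  (hφ : ∀ (U : Y.Opens) (hU : IsAffineOpen U) (e : Γ(E, U))
    (y : ↥(RelProj.emb p chart U hU ⁻¹ᵁ (p ⁻¹ᵁ U))),
    GrTwist.val (V := RelProj.emb p chart U hU ⁻¹ᵁ (p ⁻¹ᵁ U))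
        ((lam U hU).app (p ⁻¹ᵁ U) ((φ.app U) e)) y =
      algebraMap (𝒮.presheaf.obj (op U)) (GrTwist.Loc (𝒮.deg U hU) y.1)
        ((j.app U) e : 𝒮.presheaf.obj (op U)))
  {X PL : Scheme.{u}} (g : X ⟶ Y)
  (𝒮L : RelProj.QCGrAlg X) (j' : (Scheme.Modules.pullback g).obj E ⟶ 𝒮L.toModule)
  (u : RelProj.QGrHom g 𝒮 𝒮L)
  (hu_j : ∀ (U : Y.Opens) (V : X.Opens) (hle : V ≤ g ⁻¹ᵁ U) (e : Γ(E, U)),
    (u.appLE U V hle).hom (jAdd E 𝒮.toQCAlg j U e) =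
      jAdd ((Scheme.Modules.pullback g).obj E) 𝒮L.toQCAlg j' V (PBH8.cUV g E hle e))
  (pL : PL ⟶ X)
  (chartL : ∀ (V : X.Opens) (hV : IsAffineOpen V),
    (((pL ⁻¹ᵁ V : PL.Opens) : Scheme.{u}) ≅ Proj (𝒮L.deg V hV)))
  (O1L : PL.Modules)
  (lamL : ∀ (V : X.Opens) (hV : IsAffineOpen V),
    O1L ⟶ (Scheme.Modules.pushforward (RelProj.emb pL chartL V hV)).obj
      (GrTwist.twist (𝒮L.deg V hV) 1))
  (hO1L : RelProj.IsRelTwist 𝒮L pL chartL 1 O1L lamL)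
  (φL : (Scheme.Modules.pullback g).obj E ⟶ (Scheme.Modules.pushforward pL).obj O1L)
  (hφL : ∀ (V : X.Opens) (hV : IsAffineOpen V) (t : Γ((Scheme.Modules.pullback g).obj E, V))
    (y : ↥(RelProj.emb pL chartL V hV ⁻¹ᵁ (pL ⁻¹ᵁ V))),
    GrTwist.val (V := RelProj.emb pL chartL V hV ⁻¹ᵁ (pL ⁻¹ᵁ V))
        ((lamL V hV).app (pL ⁻¹ᵁ V) ((φL.app V) t)) y =
      algebraMap (𝒮L.presheaf.obj (op V)) (GrTwist.Loc (𝒮L.deg V hV) y.1)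
        ((j'.app V) t : 𝒮L.presheaf.obj (op V)))
  (hirr : ∀ (U : Y.Opens) (hU : IsAffineOpen U) (V : X.Opens) (hV : IsAffineOpen V)
    (hle : V ≤ g ⁻¹ᵁ U), (𝒮L.deg V hV)₊ ≤ ((𝒮.deg U hU)₊).map
      (u.gradedAt U hU V hV hle))
  (r₀ : PL ⟶ P) (hrp : r₀ ≫ p = pL ≫ g)
  (hr₀ : RelProj.IsProjQMap u p chart pL chartL r₀)

include hφ hφL hO1L hr₀ hirr hu_j in
/-- The local form of the compatibility, on `P_L`. -/
theorem hcompat_loc_u (U : Y.Opens) (hU : IsAffineOpen U) (e e' : Γ(E, U)) (V : X.Opens)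
    (hV : IsAffineOpen V) (hle : V ≤ g ⁻¹ᵁ U) (W : P.Opens) (hW : W ≤ p ⁻¹ᵁ U) (c : Γ(P, W))
    (hc : rF O1 hW (phiSec E p O1 φ U e) = c • rF O1 hW (phiSec E p O1 φ U e')) :
    rF O1L (inf_le_right : r₀ ⁻¹ᵁ W ⊓ pL ⁻¹ᵁ V ≤ pL ⁻¹ᵁ V) (phiLg E g pL O1L φL U V hle e) =
      rX (inf_le_left : r₀ ⁻¹ᵁ W ⊓ pL ⁻¹ᵁ V ≤ r₀ ⁻¹ᵁ W) ((r₀.app W).hom c) •
        rF O1L (inf_le_right : r₀ ⁻¹ᵁ W ⊓ pL ⁻¹ᵁ V ≤ pL ⁻¹ᵁ V)
          (phiLg E g pL O1L φL U V hle e') := by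
  apply ext_chart_val hO1L V hV inf_le_right
  intro y
  have hyW : (RelProj.emb pL chartL V hV) y.1 ∈ r₀ ⁻¹ᵁ W := y.2.1
  have hyV : (RelProj.emb pL chartL V hV) y.1 ∈ pL ⁻¹ᵁ V := y.2.2
  have hy0 : (RelProj.emb p chart U hU) (ProjectiveSpectrum.comap
      (u.gradedAt U hU V hV hle) (hirr U hU V hV hle) y.1) ∈ W := by
    rw [emb_comap_of_isProjQMap _ hirr r₀ hr₀ U hU V hV hle y.1]
    exact hyW
  have hy0U : (RelProj.emb p chart U hU) (ProjectiveSpectrum.comap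
      (u.gradedAt U hU V hV hle) (hirr U hU V hV hle) y.1) ∈
        p ⁻¹ᵁ U := hW hy0
  -- values of the `φ_L(g^* e)`
  have hvalL : ∀ e₁ : Γ(E, U), GrTwist.val (chartSec 𝒮L pL chartL 1 O1L lamL V hV _
      (rF O1L (inf_le_right : r₀ ⁻¹ᵁ W ⊓ pL ⁻¹ᵁ V ≤ pL ⁻¹ᵁ V)
        (phiLg E g pL O1L φL U V hle e₁))) y =
      algebraMap _ (GrTwist.Loc (𝒮L.deg V hV) y.1)
        (u.gradedAt U hU V hV hle (jAdd E 𝒮.toQCAlg j U e₁)) := by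
    intro e₁
    rw [chartSec_rF, val_rF]
    refine (hφL V hV (PBH8.cUV g E hle e₁) ⟨y.1, hyV⟩).trans ?_
    congr 1
    exact (hu_j U V hle e₁).symm
  -- values of the `φ(e)`
  have hval : ∀ e₁ : Γ(E, U), GrTwist.val (chartSec 𝒮 p chart 1 O1 lam U hU W
      (rF O1 hW (phiSec E p O1 φ U e₁))) ⟨_, hy0⟩ =
      algebraMap _ (GrTwist.Loc (𝒮.deg U hU) _) (jAdd E 𝒮.toQCAlg j U e₁) := by
    intro e₁
    rw [chartSec_rF, val_rF]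
    exact hφ U hU e₁ ⟨_, hy0U⟩
  have h1 := congrArg (fun x => GrTwist.val (chartSec 𝒮 p chart 1 O1 lam U hU W x) ⟨_, hy0⟩) hc
  simp only [] at h1
  rw [chartSec_smul, Groth.Agent.GrTw.val_smul, hval e, hval e'] at h1
  have h2 := congrArg (GrTwist.locMap (u.gradedAt U hU V hV hle)
    (hirr U hU V hV hle) y.1) h1
  rw [map_mul] at h2
  have hloc : ∀ a : 𝒮.presheaf.obj (op U),
      GrTwist.locMap (u.gradedAt U hU V hV hle)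
        (hirr U hU V hV hle) y.1 (algebraMap _ _ a) =
      algebraMap _ (GrTwist.Loc (𝒮L.deg V hV) y.1)
        (u.gradedAt U hU V hV hle a) :=
    fun a => Localization.localRingHom_to_map _ _ _ _ a
  rw [hloc, hloc] at h2
  rw [hvalL e, chartSec_smul, Groth.Agent.GrTw.val_smul, hvalL e', h2]
  congr 1
  have h3 : ((RelProj.emb pL chartL V hV).app (r₀ ⁻¹ᵁ W ⊓ pL ⁻¹ᵁ V)).hom
      (rX (inf_le_left : r₀ ⁻¹ᵁ W ⊓ pL ⁻¹ᵁ V ≤ r₀ ⁻¹ᵁ W) ((r₀.app W).hom c)) =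
      rX ((RelProj.emb pL chartL V hV).preimage_mono
        (inf_le_left : r₀ ⁻¹ᵁ W ⊓ pL ⁻¹ᵁ V ≤ r₀ ⁻¹ᵁ W))
        (((RelProj.emb pL chartL V hV).app (r₀ ⁻¹ᵁ W)).hom ((r₀.app W).hom c)) :=
    (congrArg (fun t => t.hom ((r₀.app W).hom c))
      ((RelProj.emb pL chartL V hV).naturality
        (homOfLE (inf_le_left : r₀ ⁻¹ᵁ W ⊓ pL ⁻¹ᵁ V ≤ r₀ ⁻¹ᵁ W)).op))
  rw [h3, valO_rX]
  exact (valO_projQ _ hirr r₀ hr₀ U hU V hV hle W c ⟨y.1, hyW⟩ hy0).symm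

include hφ hφL hO1L hr₀ hirr hu_j in
/-- **`HCompat` holds for `Proj(u)`**, with respect to `sh`. -/
theorem hcompat_u : HCompat E p O1 φ (pL ≫ g) O1L (sh g pL E O1L φL) r₀ hrp := by
  intro U hU e e' W hW c hc
  apply eq_of_cover
  intro x hx
  have hxg : pL x ∈ g ⁻¹ᵁ U := le_g p (pL ≫ g) r₀ hrp hW hx
  obtain ⟨V, hV, hxV, hVle⟩ := Opens.isBasis_iff_nbhd.mp X.isBasis_affineOpens hxg
  have hVa : IsAffineOpen V := hV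
  have hxV' : x ∈ pL ⁻¹ᵁ V := hxV
  refine ⟨r₀ ⁻¹ᵁ W ⊓ pL ⁻¹ᵁ V, inf_le_left, ⟨hx, hxV'⟩, ?_⟩
  have e1 : ∀ e₁ : Γ(E, U), rF O1L (inf_le_left : r₀ ⁻¹ᵁ W ⊓ pL ⁻¹ᵁ V ≤ r₀ ⁻¹ᵁ W)
      (rF O1L (le_g p (pL ≫ g) r₀ hrp hW) (sb (pL ≫ g) E O1L (sh g pL E O1L φL) U e₁)) =
      rF O1L (inf_le_right : r₀ ⁻¹ᵁ W ⊓ pL ⁻¹ᵁ V ≤ pL ⁻¹ᵁ V)
        (phiLg E g pL O1L φL U V hVle e₁) := by
    intro e₁
    rw [rF_rF, sb_sh]
    have h1 : phiLg E g pL O1L φL U V hVle e₁ =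
        rF O1L (pL.preimage_mono hVle) (QCohExtn.ap φL (g ⁻¹ᵁ U) (PBH8.cUV g E le_rfl e₁)) := by
      show QCohExtn.ap φL V (PBH8.cUV g E hVle e₁) = _
      rw [← TensH8.rF_cUV g E (le_rfl : g ⁻¹ᵁ U ≤ g ⁻¹ᵁ U) hVle e₁, ap_rF]
      rfl
    rw [h1, rF_rF]
    rfl
  have h3 := hcompat_loc_u E 𝒮 j p chart O1 lam φ hφ g 𝒮L j' u hu_j pL chartL O1L lamL hO1L φL
    hφL hirr r₀ hr₀ U hU e e' V hVa hVle W hW c hc
  rw [e1 e, rF_smul, e1 e']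
  exact h3

include hj hO1 hφ hφL hO1L hr₀ hirr hu_j in
/-- **The inverse image of `O_{P(E)}(1)` along `Proj(u)` is `O_{P'}(1)`**, compatibly with the
canonical maps. -/
theorem exists_tau_of_isProjQMap_u (hinv : PicF.IsInvertible O1L)
    [Epi (((pullbackPushforwardAdjunction pL).homEquiv _ O1L).symm φL)] :
    ∃ τ : (pullback r₀).obj O1 ≅ O1L,
      (pullbackCongr hrp).inv.app E ≫ (pullbackComp r₀ p).inv.app E ≫
        (pullback r₀).map (((pullbackPushforwardAdjunction p).homEquiv E O1).symm φ) ≫ τ.hom =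
          sh g pL E O1L φL := by
  obtain ⟨ν, hν⟩ := exists_nu E 𝒮 j hj p chart O1 lam hO1 φ hφ (pL ≫ g) O1L (sh g pL E O1L φL) r₀ hrp
    (hcompat_u E 𝒮 j p chart O1 lam φ hφ g 𝒮L j' u hu_j pL chartL O1L lamL hO1L φL hφL hirr r₀
      hrp hr₀)
  exact exists_tau_of_nu E 𝒮 j hj p chart O1 lam hO1 φ (pL ≫ g) O1L (sh g pL E O1L φL) r₀ hrp hinv
    ν hν

end Groth.Agent.UPB
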