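import Mathlib
import Groth.Prelude
import Groth.Agent.Lib.UPB16_helper5
import Groth.Agent.Lib.PBEpi2_helper5
import Groth.Agent.Lib.GenDeg1_helper5
import Groth.Agent.Lib.PBundle1_helper5
import Groth.Agent.Lib.ProjQBC2_helper5
import Groth.Agent.S12165

/-!
# `Proj(𝒮) ↪ P(𝒮_1)` for `𝒮` generated in degree one, with `O(1)`  (helper5).  APPEND-ONLY.
-/

set_option autoImplicit false
universe u
open CategoryTheory AlgebraicGeometry TopologicalSpace Opposite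
open scoped HomogeneousIdeal

noncomputable section

namespace Groth.Agent.VA85

open QcqsLoc QCohExtn QCAlgMod Groth.Agent.SymAlg Groth.Agent.SymSum Groth.Agent.SymGr
  Groth.Agent.PBProj Scheme.Modules

variable {Y : Scheme.{u}} (𝒮 : RelProj.QCGrAlg Y)

/-- The degree-one map `(𝟙_Y)^* 𝒮_1 ⟶ 𝒮`, the adjoint of the inclusion. -/
def j1 : (Scheme.Modules.pullback (𝟙 Y)).obj (degMod 𝒮 1) ⟶ 𝒮.toModule :=
  ((pullbackPushforwardAdjunction (𝟙 Y)).homEquiv (degMod 𝒮 1) 𝒮.toModule).symm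
    (degι 𝒮 1 ≫ (pushforwardId Y).inv.app 𝒮.toModule)

theorem j1_cUV {U V : Y.Opens} (hle : V ≤ (𝟙 Y) ⁻¹ᵁ U) (e : Γ(degMod 𝒮 1, U)) :
    toB 𝒮.toQCAlg (QCohExtn.ap (j1 𝒮) V (PBH8.cUV (𝟙 Y) (degMod 𝒮 1) hle e)) =
      (𝒮.presheaf.map (homOfLE (show V ≤ U from hle)).op).hom
        (toB 𝒮.toQCAlg (QCohExtn.ap (degι 𝒮 1) U e)) := by
  have h1 : PBH8.cUV (𝟙 Y) (degMod 𝒮 1) hle e =
      rF _ hle (PBH8.cUV (𝟙 Y) (degMod 𝒮 1) (le_rfl : (𝟙 Y) ⁻¹ᵁ U ≤ (𝟙 Y) ⁻¹ᵁ U) e) :=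
    (TensH8.rF_cUV (𝟙 Y) (degMod 𝒮 1) le_rfl hle e).symm
  rw [h1, ap_rF]
  unfold j1
  rw [Groth.Agent.GrTw.adj_symm_cUV]
  rfl

theorem j1_mem (V : Y.Opens) (hV : IsAffineOpen V)
    (m : Γ((Scheme.Modules.pullback (𝟙 Y)).obj (degMod 𝒮 1), V)) :
    jAdd _ 𝒮.toQCAlg (j1 𝒮) V m ∈ 𝒮.deg V hV 1 := by
  haveI := isQuasicoherent_degMod 𝒮 1
  have hle : V ≤ (𝟙 Y) ⁻¹ᵁ V := le_rfl
  have hm : m ∈ Submodule.span Γ(Y, V) (Set.range (PBH8.cUV (𝟙 Y) (degMod 𝒮 1) hle)) := by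
    rw [PBH8.span_cUV (𝟙 Y) (degMod 𝒮 1) hV hV hle]; trivial
  induction hm using Submodule.span_induction with
  | mem x hx =>
    obtain ⟨e, rfl⟩ := hx
    show toB 𝒮.toQCAlg (QCohExtn.ap (j1 𝒮) V (PBH8.cUV (𝟙 Y) (degMod 𝒮 1) hle e)) ∈ _
    rw [j1_cUV]
    exact 𝒮.map_mem hV hV le_rfl (degι_mem 𝒮 1 V hV e)
  | zero => rw [map_zero]; exact zero_mem _
  | add x y _ _ hx hy => rw [map_add]; exact add_mem hx hy
  | smul a x _ hx =>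
    rw [jAdd_smul]
    have := SetLike.mul_mem_graded (𝒮.str_mem V hV a) hx
    rwa [zero_add] at this

theorem j1_surj (V : Y.Opens) (hV : IsAffineOpen V) (y : 𝒮.presheaf.obj (op V))
    (hy : y ∈ 𝒮.deg V hV 1) :
    ∃ m : Γ((Scheme.Modules.pullback (𝟙 Y)).obj (degMod 𝒮 1), V),
      jAdd _ 𝒮.toQCAlg (j1 𝒮) V m = y := by
  obtain ⟨e, he⟩ := exists_of_mem 𝒮 1 V hV y hy
  refine ⟨PBH8.cUV (𝟙 Y) (degMod 𝒮 1) (le_rfl : V ≤ (𝟙 Y) ⁻¹ᵁ V) e, ?_⟩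
  show toB 𝒮.toQCAlg (QCohExtn.ap (j1 𝒮) V _) = y
  rw [j1_cUV, ← he]
  have : (homOfLE (show V ≤ V from le_rfl)).op = 𝟙 (op V) := rfl
  rw [this, CategoryTheory.Functor.map_id]
  rfl

theorem j1_span (hgen : 𝒮.IsGenDegOne) (V : Y.Opens) (hV : IsAffineOpen V) :
    ((𝒮.deg V hV)₊).toIdeal ≤ Ideal.span (Set.range (jAdd _ 𝒮.toQCAlg (j1 𝒮) V)) := by
  rw [Groth.Agent.GenDeg1.irrelevant_eq_span (𝒮.deg V hV) (hgen V hV)]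
  refine Ideal.span_mono ?_
  intro y hy
  obtain ⟨m, hm⟩ := j1_surj 𝒮 V hV y hy
  exact ⟨m, hm⟩


section Main
variable {P : Scheme.{u}} (hgen : 𝒮.IsGenDegOne) (p : P ⟶ Y)
  (chart : ∀ (U : Y.Opens) (hU : IsAffineOpen U),
    ((p ⁻¹ᵁ U : P.Opens) : Scheme.{u}) ≅ Proj (𝒮.deg U hU))
  (hP : RelProj.IsRelProj 𝒮 p chart) (O1 : P.Modules)
  (lam : ∀ (U : Y.Opens) (hU : IsAffineOpen U),
    O1 ⟶ (Scheme.Modules.pushforward (RelProj.emb p chart U hU)).obj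
      (GrTwist.twist (𝒮.deg U hU) 1))
  (hO1 : RelProj.IsRelTwist 𝒮 p chart 1 O1 lam)

include hgen hP hO1 in
/-- **`Proj(𝒮)` is a closed subscheme of `P(𝒮_1)`, with `O(1)` induced**, for `𝒮` generated in
degree one (EGA II 3.6.2 + 4.1.?). -/
theorem exists_closedImmersion :
    ∃ (𝒯 : RelProj.QCGrAlg Y) (jT : degMod 𝒮 1 ⟶ 𝒯.toModule)
      (_ : RelProj.IsGrSymAlg (degMod 𝒮 1) 𝒯 jT) (PT : Scheme.{u}) (pT : PT ⟶ Y)
      (chartT : ∀ (U : Y.Opens) (hU : IsAffineOpen U),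
        (((pT ⁻¹ᵁ U : PT.Opens) : Scheme.{u}) ≅ Proj (𝒯.deg U hU)))
      (_ : RelProj.IsRelProj 𝒯 pT chartT) (O1T : PT.Modules)
      (lamT : ∀ (U : Y.Opens) (hU : IsAffineOpen U),
        O1T ⟶ (Scheme.Modules.pushforward (RelProj.emb pT chartT U hU)).obj
          (GrTwist.twist (𝒯.deg U hU) 1))
      (_ : RelProj.IsRelTwist 𝒯 pT chartT 1 O1T lamT) (k : P ⟶ PT),
      IsClosedImmersion k ∧ k ≫ pT = p ∧ Nonempty ((Scheme.Modules.pullback k).obj O1T ≅ O1) := by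
  haveI hq := isQuasicoherent_degMod 𝒮 1
  obtain ⟨𝒯, jT, hjT, PT, pT, chartT, hPT, O1T, lamT, hO1T, φT, hφT, -, -⟩ :=
    Groth.Agent.PBundle.exists_projBundle (degMod 𝒮 1)
  obtain ⟨v, hvgr, hvj, hTN⟩ := Groth.Agent.GenDeg1.exists_v' 𝒮 hgen 𝒯 jT hjT
  obtain ⟨hdom, hcl⟩ := Groth.Agent.S12165.result 𝒯 𝒮 v hvgr ⟨1, hTN⟩ pT chartT hPT p chart hP
  obtain ⟨k, hk⟩ := Groth.Agent.ProjQBC.exists_isProjQMap (RelProj.QGrHom.ofHom v hvgr) hPT hP hdom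
  have hkcl : IsClosedImmersion k := hcl k hk
  have hcomm := Groth.Agent.ProjQBC.isProjQMap_comm (RelProj.QGrHom.ofHom v hvgr) hPT hP k hk
  -- the values of `u` on `E`
  have hu_j : ∀ (U : Y.Opens) (V : Y.Opens) (hle : V ≤ (𝟙 Y) ⁻¹ᵁ U) (e : Γ(degMod 𝒮 1, U)),
      ((RelProj.QGrHom.ofHom v hvgr).appLE U V hle).hom (jAdd (degMod 𝒮 1) 𝒯.toQCAlg jT U e) =
        jAdd ((Scheme.Modules.pullback (𝟙 Y)).obj (degMod 𝒮 1)) 𝒮.toQCAlg (j1 𝒮) V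
          (PBH8.cUV (𝟙 Y) (degMod 𝒮 1) hle e) := by
    intro U V hle e
    refine Eq.trans ?_ (j1_cUV 𝒮 hle e).symm
    show (𝒮.presheaf.map (homOfLE (show V ≤ U from hle)).op).hom
      ((v.hom.app (op U)).hom (jAdd (degMod 𝒮 1) 𝒯.toQCAlg jT U e)) = _
    rw [hvj U e]
  -- the irrelevant ideal condition
  have hirr : ∀ (U : Y.Opens) (hU : IsAffineOpen U) (V : Y.Opens) (hV : IsAffineOpen V)
      (hle : V ≤ (𝟙 Y) ⁻¹ᵁ U), (𝒮.deg V hV)₊ ≤ ((𝒯.deg U hU)₊).map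
        ((RelProj.QGrHom.ofHom v hvgr).gradedAt U hU V hV hle) := by
    intro U hU V hV hle
    show ((𝒮.deg V hV)₊).toIdeal ≤ Ideal.map _ ((𝒯.deg U hU)₊).toIdeal
    refine (j1_span 𝒮 hgen V hV).trans ?_
    rw [Ideal.span_le]
    rintro _ ⟨m, rfl⟩
    have hm : m ∈ Submodule.span Γ(Y, V) (Set.range (PBH8.cUV (𝟙 Y) (degMod 𝒮 1) hle)) := by
      rw [PBH8.span_cUV (𝟙 Y) (degMod 𝒮 1) hV hU hle]; trivial
    induction hm using Submodule.span_induction with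
    | mem x hx =>
      obtain ⟨e, rfl⟩ := hx
      have h2 := (hu_j U V hle e).symm
      show jAdd _ 𝒮.toQCAlg (j1 𝒮) V (PBH8.cUV (𝟙 Y) (degMod 𝒮 1) hle e) ∈ _
      rw [h2]
      exact Ideal.mem_map_of_mem ((RelProj.QGrHom.ofHom v hvgr).gradedAt U hU V hV hle)
        (HomogeneousIdeal.mem_irrelevant_of_mem _ one_pos (hjT.2 U hU e))
    | zero =>
      show jAdd _ 𝒮.toQCAlg (j1 𝒮) V 0 ∈ _
      rw [map_zero]
      exact zero_mem _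
    | add x y _ _ hx hy =>
      show jAdd _ 𝒮.toQCAlg (j1 𝒮) V (x + y) ∈ _
      rw [map_add]
      exact add_mem hx hy
    | smul a x _ hx =>
      show jAdd _ 𝒮.toQCAlg (j1 𝒮) V (a • x) ∈ _
      rw [jAdd_smul]
      exact Ideal.mul_mem_left _ _ hx
  obtain ⟨φL, hφL⟩ := Groth.Agent.CanPhi.exists_canPhi hP hO1 (j1 𝒮) (j1_mem 𝒮)
  have hinv : PicF.IsInvertible O1 :=
    Groth.Agent.PBEpi2.isInvertible_O1 𝒮 p chart _ (j1 𝒮) (j1_mem 𝒮) (j1_span 𝒮 hgen) 1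
      (by norm_num) O1 lam hO1
  haveI : Epi (((pullbackPushforwardAdjunction p).homEquiv _ O1).symm φL) :=
    Groth.Agent.PBEpi2.epi_adj 𝒮 p chart _ (j1 𝒮) (j1_mem 𝒮) (j1_span 𝒮 hgen) 1
      (by norm_num) O1 lam hO1 φL hφL
  obtain ⟨τ, -⟩ := Groth.Agent.UPB.exists_tau_of_isProjQMap_u (degMod 𝒮 1) 𝒯 jT hjT pT chartT O1T
    lamT hO1T φT hφT (𝟙 Y) 𝒮 (j1 𝒮) (RelProj.QGrHom.ofHom v hvgr) hu_j p chart O1 lam hO1 φL hφL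
    hirr k hcomm hk hinv
  refine ⟨𝒯, jT, hjT, PT, pT, chartT, hPT, O1T, lamT, hO1T, k, hkcl, ?_, ⟨τ⟩⟩
  rw [hcomm, Category.comp_id]

end Main

end Groth.Agent.VA85
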