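import Mathlib
import Groth.Prelude
import Groth.Agent.Lib.VA85_helper5
import Groth.Agent.Lib.ModHomBasis_helper5
import Groth.Agent.Lib.QCGrLoc_helper5
import Groth.Agent.Lib.Tens29_helper8

/-!
# EGA II 4.4.? : `r_{L,ψ}` an immersion, `𝒜` generated in degree one, `ψ_1` surjective ⟹ `L` very
ample  (helper5).  APPEND-ONLY once landed.
-/

set_option autoImplicit false
universe u
open CategoryTheory AlgebraicGeometry TopologicalSpace Opposite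
open scoped HomogeneousIdeal

noncomputable section

namespace Groth.Agent.VA91

open QcqsLoc QCohExtn QCAlgMod Groth.Agent.SymAlg Groth.Agent.SymSum Groth.Agent.SymGr
  Groth.Agent.PBProj Scheme.Modules

variable {X Y : Scheme.{u}} (f : X ⟶ Y) (𝒜 : RelProj.QCGrAlg Y) (𝒮L : RelProj.QCGrAlg X)
  (u : RelProj.QGrHom f 𝒜 𝒮L)

/-- The module map `𝒜_d ⟶ f_* 𝒮L` underlying the graded `f`-morphism `u`. -/
theorem exists_ψ (d : ℕ) :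
    ∃ ψ : degMod 𝒜 d ⟶ (Scheme.Modules.pushforward f).obj 𝒮L.toModule,
      ∀ (U : Y.Opens) (e : Γ(degMod 𝒜 d, U)),
        toB 𝒮L.toQCAlg (W := f ⁻¹ᵁ U) (QCohExtn.ap ψ U e) =
          (u.app U).hom (toB 𝒜.toQCAlg (QCohExtn.ap (degι 𝒜 d) U e)) := by
  have hB : Opens.IsBasis (Set.range (fun U : Y.Opens => U)) := by
    rw [Opens.isBasis_iff_nbhd]
    intro U x hx
    exact ⟨U, ⟨U, rfl⟩, hx, le_rfl⟩
  obtain ⟨ψ, hψ⟩ := Groth.Agent.ModHomBasis.exists_hom_of_basis (degMod 𝒜 d)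
    ((Scheme.Modules.pushforward f).obj 𝒮L.toModule) (fun U : Y.Opens => U) hB
    (fun U e => ofB 𝒮L.toQCAlg (W := f ⁻¹ᵁ U)
      ((u.app U).hom (toB 𝒜.toQCAlg (QCohExtn.ap (degι 𝒜 d) U e))))
    (fun U x y => by
      show (u.app U).hom (toB 𝒜.toQCAlg (QCohExtn.ap (degι 𝒜 d) U (x + y))) = _
      rw [map_add]
      exact map_add (u.app U).hom _ _)
    (fun U r x => by
      show (u.app U).hom (toB 𝒜.toQCAlg (QCohExtn.ap (degι 𝒜 d) U (r • x))) =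
        (𝒮L.str.app (op (f ⁻¹ᵁ U))).hom ((f.app U).hom r) *
          (u.app U).hom (toB 𝒜.toQCAlg (QCohExtn.ap (degι 𝒜 d) U x))
      rw [QCohExtn.ap_smul]
      have h1 : toB 𝒜.toQCAlg (r • QCohExtn.ap (degι 𝒜 d) U x) =
          (𝒜.str.app (op U)).hom r * toB 𝒜.toQCAlg (QCohExtn.ap (degι 𝒜 d) U x) := rfl
      rw [h1, map_mul]
      congr 1
      exact congrArg (fun t => t.hom r) (u.str_app U))
    (fun U V h x => by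
      show (u.app V).hom (toB 𝒜.toQCAlg (QCohExtn.ap (degι 𝒜 d) V (rF _ h x))) =
        (𝒮L.presheaf.map (homOfLE (f.preimage_mono h)).op).hom
          ((u.app U).hom (toB 𝒜.toQCAlg (QCohExtn.ap (degι 𝒜 d) U x)))
      rw [QCohExtn.ap_rF]
      have h1 : toB 𝒜.toQCAlg (rF 𝒜.toModule h (QCohExtn.ap (degι 𝒜 d) U x)) =
          (𝒜.presheaf.map (homOfLE h).op).hom (toB 𝒜.toQCAlg (QCohExtn.ap (degι 𝒜 d) U x)) := rfl
      rw [h1]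
      exact (congrArg (fun t => t.hom (toB 𝒜.toQCAlg (QCohExtn.ap (degι 𝒜 d) U x)))
        (u.naturality h)).symm)
  exact ⟨ψ, fun U e => hψ U e⟩

/-- The module map `𝒜_d ⟶ f_* 𝒮L` underlying `u`. -/
def ψ (d : ℕ) : degMod 𝒜 d ⟶ (Scheme.Modules.pushforward f).obj 𝒮L.toModule :=
  (exists_ψ f 𝒜 𝒮L u d).choose

theorem ψ_app (d : ℕ) (U : Y.Opens) (e : Γ(degMod 𝒜 d, U)) :
    toB 𝒮L.toQCAlg (W := f ⁻¹ᵁ U) (QCohExtn.ap (ψ f 𝒜 𝒮L u d) U e) =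
      (u.app U).hom (toB 𝒜.toQCAlg (QCohExtn.ap (degι 𝒜 d) U e)) :=
  (exists_ψ f 𝒜 𝒮L u d).choose_spec U e

/-- The degree-one map `f^* 𝒜_1 ⟶ 𝒮L`. -/
def j' : (Scheme.Modules.pullback f).obj (degMod 𝒜 1) ⟶ 𝒮L.toModule :=
  ((pullbackPushforwardAdjunction f).homEquiv (degMod 𝒜 1) 𝒮L.toModule).symm (ψ f 𝒜 𝒮L u 1)

theorem j'_cUV {U : Y.Opens} {V : X.Opens} (hle : V ≤ f ⁻¹ᵁ U) (e : Γ(degMod 𝒜 1, U)) :
    toB 𝒮L.toQCAlg (QCohExtn.ap (j' f 𝒜 𝒮L u) V (PBH8.cUV f (degMod 𝒜 1) hle e)) =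
      (u.appLE U V hle).hom (toB 𝒜.toQCAlg (QCohExtn.ap (degι 𝒜 1) U e)) := by
  have h1 : PBH8.cUV f (degMod 𝒜 1) hle e =
      rF _ hle (PBH8.cUV f (degMod 𝒜 1) (le_rfl : f ⁻¹ᵁ U ≤ f ⁻¹ᵁ U) e) :=
    (TensH8.rF_cUV f (degMod 𝒜 1) le_rfl hle e).symm
  rw [h1, ap_rF]
  unfold j'
  rw [Groth.Agent.GrTw.adj_symm_cUV]
  show (𝒮L.presheaf.map (homOfLE hle).op).hom
    (toB 𝒮L.toQCAlg (W := f ⁻¹ᵁ U) (QCohExtn.ap (ψ f 𝒜 𝒮L u 1) U e)) = _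
  rw [ψ_app]
  rfl

/-- Affine pairs form a basis. -/
theorem exists_affine_pair (O : X.Opens) (x : X) (hx : x ∈ O) :
    ∃ (U : Y.Opens) (_ : IsAffineOpen U) (V : X.Opens) (_ : IsAffineOpen V),
      V ≤ O ∧ V ≤ f ⁻¹ᵁ U ∧ x ∈ V := by
  obtain ⟨U, hU, hxU, -⟩ :=
    (Opens.isBasis_iff_nbhd.mp Y.isBasis_affineOpens) (show f.base x ∈ (⊤ : Y.Opens) from trivial)
  obtain ⟨V, hV, hxV, hVle⟩ :=
    (Opens.isBasis_iff_nbhd.mp X.isBasis_affineOpens)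
      (show x ∈ O ⊓ f ⁻¹ᵁ U from ⟨hx, hxU⟩)
  exact ⟨U, hU, V, hV, hVle.trans inf_le_left, hVle.trans inf_le_right, hxV⟩

theorem j'_mem_pair (U : Y.Opens) (hU : IsAffineOpen U) (V : X.Opens) (hV : IsAffineOpen V)
    (hle : V ≤ f ⁻¹ᵁ U) (m : Γ((Scheme.Modules.pullback f).obj (degMod 𝒜 1), V)) :
    jAdd _ 𝒮L.toQCAlg (j' f 𝒜 𝒮L u) V m ∈ 𝒮L.deg V hV 1 := by
  haveI := isQuasicoherent_degMod 𝒜 1
  have hm : m ∈ Submodule.span Γ(X, V) (Set.range (PBH8.cUV f (degMod 𝒜 1) hle)) := by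
    rw [PBH8.span_cUV f (degMod 𝒜 1) hV hU hle]; trivial
  induction hm using Submodule.span_induction with
  | mem x hx =>
    obtain ⟨e, rfl⟩ := hx
    show toB 𝒮L.toQCAlg (QCohExtn.ap (j' f 𝒜 𝒮L u) V (PBH8.cUV f (degMod 𝒜 1) hle e)) ∈ _
    rw [j'_cUV]
    exact u.map_mem U hU V hV hle (degι_mem 𝒜 1 U hU e)
  | zero => rw [map_zero]; exact zero_mem _
  | add x y _ _ hx hy => rw [map_add]; exact add_mem hx hy
  | smul a x _ hx =>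
    rw [jAdd_smul]
    have := SetLike.mul_mem_graded (𝒮L.str_mem V hV a) hx
    rwa [zero_add] at this

theorem j'_cproj : j' f 𝒜 𝒮L u ≫ cprojHom 𝒮L 1 = 0 := by
  apply Scheme.Modules.hom_ext
  intro W
  ext m
  apply eq_of_cover 𝒮L.toModule
  intro x hx
  obtain ⟨U, hU, V, hV, hVW, hVU, hxV⟩ := exists_affine_pair f W x hx
  refine ⟨V, hVW, hxV, ?_⟩
  have h1 : rF 𝒮L.toModule hVW (QCohExtn.ap (j' f 𝒜 𝒮L u ≫ cprojHom 𝒮L 1) W m) =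
      QCohExtn.ap (cprojHom 𝒮L 1) V (QCohExtn.ap (j' f 𝒜 𝒮L u) V (rF _ hVW m)) := by
    rw [← ap_rF]
    rfl
  refine h1.trans ?_
  have h2 := cprojHom_app 𝒮L 1 V hV (QCohExtn.ap (j' f 𝒜 𝒮L u) V (rF _ hVW m))
  have h3 : cproj 𝒮L 1 V hV (toB 𝒮L.toQCAlg (QCohExtn.ap (j' f 𝒜 𝒮L u) V (rF _ hVW m))) = 0 :=
    (cproj_eq_zero_iff 𝒮L 1 V hV _).mpr (j'_mem_pair f 𝒜 𝒮L u U hU V hV hVU (rF _ hVW m))
  have h4 : rF 𝒮L.toModule hVW (QCohExtn.ap (0 : (Scheme.Modules.pullback f).obj (degMod 𝒜 1) ⟶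
      𝒮L.toModule) W m) = 0 := map_zero _
  exact (h2.trans h3).trans h4.symm

theorem j'_mem (V : X.Opens) (hV : IsAffineOpen V)
    (m : Γ((Scheme.Modules.pullback f).obj (degMod 𝒜 1), V)) :
    jAdd _ 𝒮L.toQCAlg (j' f 𝒜 𝒮L u) V m ∈ 𝒮L.deg V hV 1 := by
  rw [← cproj_eq_zero_iff]
  have h2 := cprojHom_app 𝒮L 1 V hV (QCohExtn.ap (j' f 𝒜 𝒮L u) V m)
  refine h2.symm.trans ?_
  have h3 := congrArg (fun t => QCohExtn.ap t V m) (j'_cproj f 𝒜 𝒮L u)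
  exact h3

/-- The degree-one map `f^* 𝒜_1 ⟶ (𝒮L)_1`. -/
def j'' : (Scheme.Modules.pullback f).obj (degMod 𝒜 1) ⟶ degMod 𝒮L 1 :=
  Limits.kernel.lift (cprojHom 𝒮L 1) (j' f 𝒜 𝒮L u) (j'_cproj f 𝒜 𝒮L u)

theorem j''_ι : j'' f 𝒜 𝒮L u ≫ degι 𝒮L 1 = j' f 𝒜 𝒮L u := Limits.kernel.lift_ι _ _ _

theorem j''_ι_app (W : X.Opens) (m : Γ((Scheme.Modules.pullback f).obj (degMod 𝒜 1), W)) :
    QCohExtn.ap (degι 𝒮L 1) W (QCohExtn.ap (j'' f 𝒜 𝒮L u) W m) =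
      QCohExtn.ap (j' f 𝒜 𝒮L u) W m :=
  congrArg (fun t => QCohExtn.ap t W m) (j''_ι f 𝒜 𝒮L u)

section Deg0
variable {Z : Scheme.{u}} (E : Z.Modules) [E.IsQuasicoherent] (𝒯 : RelProj.QCGrAlg Z)
  (j : E ⟶ 𝒯.toModule) (hj : RelProj.IsGrSymAlg E 𝒯 j)

include hj in
/-- The degree-zero part of `Sym(E)` is the image of the functions. -/
theorem exists_str_eq_of_mem_deg_zero (U : Z.Opens) (hU : IsAffineOpen U)
    (x : 𝒯.presheaf.obj (op U)) (hx : x ∈ 𝒯.deg U hU 0) :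
    ∃ a : Γ(Z, U), (𝒯.str.app (op U)).hom a = x := by
  have h1 := deg_le_closure_mon (𝒯.str.app (op U)).hom (jAdd E 𝒯.toQCAlg j U)
    (symToA E 𝒯.toQCAlg j U) (symToA_algebraMap E 𝒯.toQCAlg j U) (symToA_ι E 𝒯.toQCAlg j U)
    (𝒯.deg U hU) (fun a => 𝒯.str_mem U hU a) (fun m => hj.2 U hU m)
    (symToA_bijective E 𝒯 j hj U hU).2 0 x hx
  clear hx
  induction h1 using AddSubgroup.closure_induction with
  | mem z hz =>
    obtain ⟨a, l, hl, rfl⟩ := hz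
    match l, hl with
    | [], _ =>
      refine ⟨a, ?_⟩
      simp
  | zero => exact ⟨0, map_zero _⟩
  | add a b _ _ ha hb =>
    obtain ⟨m, rfl⟩ := ha
    obtain ⟨m', rfl⟩ := hb
    exact ⟨m + m', map_add _ _ _⟩
  | neg a _ ha =>
    obtain ⟨m, rfl⟩ := ha
    exact ⟨-m, map_neg _ _⟩

end Deg0

section Epi
variable (L : X.Modules) [L.IsQuasicoherent] (jL : L ⟶ 𝒮L.toModule)
  (hjL : RelProj.IsGrSymAlg L 𝒮L jL)
  (hsurj : ∀ x : X, ∃ (U : Y.Opens) (hU : IsAffineOpen U) (e : 𝒜.presheaf.obj (op U))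
    (_ : e ∈ 𝒜.deg U hU 1) (V : X.Opens) (hV : IsAffineOpen V) (hVU : V ≤ f ⁻¹ᵁ U), x ∈ V ∧
      ((𝒮L.deg V hV 1 : AddSubgroup (𝒮L.presheaf.obj (op V))) : Set (𝒮L.presheaf.obj (op V))) ⊆
        (Ideal.span {(u.appLE U V hVU).hom e} : Set (𝒮L.presheaf.obj (op V))))

include hjL hsurj in
theorem epi_j'' : Epi (j'' f 𝒜 𝒮L u) := by
  apply TensH8.epi_of_locally_surjective
  intro O m x hxO
  obtain ⟨U, hU, e, he, V, hV, hVU, hxV, hspan⟩ := hsurj x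
  obtain ⟨h, hWO, hxh⟩ := hV.exists_basicOpen_le (V := O) ⟨x, hxO⟩ hxV
  have hW : IsAffineOpen (X.basicOpen h) := hV.basicOpen h
  have hWV : X.basicOpen h ≤ V := X.basicOpen_le h
  have hy : toB 𝒮L.toQCAlg (QCohExtn.ap (degι 𝒮L 1) (X.basicOpen h) (rF _ hWO m)) ∈
      𝒮L.deg (X.basicOpen h) hW 1 := degι_mem 𝒮L 1 _ hW _
  obtain ⟨n, z, hz, hρ⟩ := Groth.Agent.QCGrLoc.exists_homog 𝒮L hV h hy
  have ha : (u.appLE U V hVU).hom e ∈ 𝒮L.deg V hV 1 := u.map_mem U hU V hV hVU he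
  obtain ⟨c, hc⟩ := Ideal.mem_span_singleton'.mp (hspan hz)
  have hz1 : z = ((DirectSum.decompose (𝒮L.deg V hV) c 0 : 𝒮L.deg V hV 0) :
      𝒮L.presheaf.obj (op V)) * (u.appLE U V hVU).hom e := by
    have h1 := DirectSum.coe_decompose_mul_of_right_mem_of_le (𝒮L.deg V hV) (a := c) ha
      (le_refl 1)
    rw [Nat.sub_self, hc, DirectSum.decompose_of_mem_same _ hz] at h1
    exact h1
  obtain ⟨b, hb⟩ := exists_str_eq_of_mem_deg_zero L 𝒮L jL hjL V hV _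
    (SetLike.coe_mem (DirectSum.decompose (𝒮L.deg V hV) c 0))
  rw [← hb] at hz1
  obtain ⟨e', he'⟩ := exists_of_mem 𝒜 1 U hU e he
  have hunit : IsUnit (rX hWV h ^ n) := (RingedSpace.isUnit_res_basicOpen _ h).pow n
  obtain ⟨w, hw⟩ := hunit
  refine ⟨X.basicOpen h, hWO, hxh,
    ((↑w⁻¹ : Γ(X, X.basicOpen h)) * rX hWV b) •
      PBH8.cUV f (degMod 𝒜 1) (hWV.trans hVU) e', ?_⟩
  apply degι_injective 𝒮L 1 (X.basicOpen h)
  rw [j''_ι_app, QCohExtn.ap_smul]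
  show ofB 𝒮L.toQCAlg (toB 𝒮L.toQCAlg _) = ofB 𝒮L.toQCAlg (toB 𝒮L.toQCAlg _)
  congr 1
  rw [QCAlgMod.smul_eq, j'_cUV, he']
  -- the restriction of `z`
  have h3 : Groth.Agent.QCGrLoc.ρ 𝒮L h z =
      (𝒮L.str.app (op (X.basicOpen h))).hom (rX hWV b) *
        (u.appLE U (X.basicOpen h) (hWV.trans hVU)).hom e := by
    rw [hz1, map_mul]
    congr 1
    · exact QCAlgMod.str_res 𝒮L.toQCAlg hWV b
    · exact congrArg (fun t => t.hom e) (u.appLE_map hVU hWV)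
  have h4 : Groth.Agent.QCGrLoc.ρ 𝒮L h (Groth.Agent.QCGrLoc.cc 𝒮L h) =
      (𝒮L.str.app (op (X.basicOpen h))).hom (rX hWV h) := QCAlgMod.str_res 𝒮L.toQCAlg hWV h
  rw [h4, h3, ← map_pow, ← hw] at hρ
  rw [map_mul, mul_assoc, hρ, ← mul_assoc, ← map_mul, Units.inv_mul, map_one, one_mul]

end Epi

end Groth.Agent.VA91
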