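import Mathlib
import Groth.Prelude
import Groth.Agent.Lib.VA91_helper5
import Groth.Agent.Lib.ProjQComp1_helper5

/-!
# EGA II 4.4.? : `r_{L,ψ}` an immersion, `𝒜` generated in degree one, `ψ_1` surjective ⟹ `L` very
ample, main theorem  (helper5).  APPEND-ONLY once landed.
-/

set_option autoImplicit false
universe u
open CategoryTheory AlgebraicGeometry TopologicalSpace Opposite
open scoped HomogeneousIdeal

noncomputable section

namespace Groth.Agent.VA91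

open QcqsLoc QCohExtn QCAlgMod Groth.Agent.SymAlg Groth.Agent.SymSum Groth.Agent.SymGr
  Groth.Agent.PBProj Scheme.Modules

section Surj
variable {X Y : Scheme.{u}} (f : X ⟶ Y) (𝒜 : RelProj.QCGrAlg Y) (𝒮L : RelProj.QCGrAlg X)
  (u : RelProj.QGrHom f 𝒜 𝒮L)
  (L : X.Modules) [L.IsQuasicoherent] (jL : L ⟶ 𝒮L.toModule)
  (hjL : RelProj.IsGrSymAlg L 𝒮L jL)
  (hsurj : ∀ x : X, ∃ (U : Y.Opens) (hU : IsAffineOpen U) (e : 𝒜.presheaf.obj (op U))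
    (_ : e ∈ 𝒜.deg U hU 1) (V : X.Opens) (hV : IsAffineOpen V) (hVU : V ≤ f ⁻¹ᵁ U), x ∈ V ∧
      ((𝒮L.deg V hV 1 : AddSubgroup (𝒮L.presheaf.obj (op V))) : Set (𝒮L.presheaf.obj (op V))) ⊆
        (Ideal.span {(u.appLE U V hVU).hom e} : Set (𝒮L.presheaf.obj (op V))))

include hjL hsurj in
theorem j'_surj (V : X.Opens) (hV : IsAffineOpen V) (y : 𝒮L.presheaf.obj (op V))
    (hy : y ∈ 𝒮L.deg V hV 1) :
    ∃ m : Γ((Scheme.Modules.pullback f).obj (degMod 𝒜 1), V),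
      jAdd _ 𝒮L.toQCAlg (j' f 𝒜 𝒮L u) V m = y := by
  haveI := isQuasicoherent_degMod 𝒜 1
  haveI := isQuasicoherent_degMod 𝒮L 1
  haveI : ((Scheme.Modules.pullback f).obj (degMod 𝒜 1)).IsQuasicoherent :=
    PBH8.isQuasicoherent_pullback f (degMod 𝒜 1)
  haveI := epi_j'' f 𝒜 𝒮L u L jL hjL hsurj
  obtain ⟨t, ht⟩ := exists_of_mem 𝒮L 1 V hV y hy
  obtain ⟨m, hm⟩ := QCohExact.app_surjective_of_epi (j'' f 𝒜 𝒮L u) hV t
  refine ⟨m, ?_⟩
  rw [← ht]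
  have hm' : QCohExtn.ap (j'' f 𝒜 𝒮L u) V m = t := hm
  rw [← hm', j''_ι_app]
  rfl

include hjL hsurj in
theorem j'_span (V : X.Opens) (hV : IsAffineOpen V) :
    ((𝒮L.deg V hV)₊).toIdeal ≤ Ideal.span (Set.range (jAdd _ 𝒮L.toQCAlg (j' f 𝒜 𝒮L u) V)) := by
  rw [Groth.Agent.GenDeg1.irrelevant_eq_span (𝒮L.deg V hV)
    (isGenDegOne_of_isGrSymAlg L 𝒮L jL hjL V hV)]
  refine Ideal.span_mono ?_
  intro y hy
  obtain ⟨m, hm⟩ := j'_surj f 𝒜 𝒮L u L jL hjL hsurj V hV y hy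
  exact ⟨m, hm⟩

end Surj

section Main

/-- **EGA II 4.4.?**: if `𝒜` is generated in degree one, the degree-one part of
`ψ : f^*𝒜 ⟶ ⊕ L^{⊗ n}` is surjective and `r_{L,ψ}` is an immersion, then `L` is very ample
relative to `f`. -/
theorem isRelVeryAmple_of_isImmersion {X Y P PL : Scheme.{u}} (f : X ⟶ Y)
    (L : X.Modules) (hL : PicF.IsInvertible L)
    (𝒮L : RelProj.QCGrAlg X) (jL : L ⟶ 𝒮L.toModule) (hjL : RelProj.IsGrSymAlg L 𝒮L jL)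
    (pL : PL ⟶ X)
    (chartL : ∀ (U : X.Opens) (hU : IsAffineOpen U),
      (((pL ⁻¹ᵁ U : PL.Opens) : Scheme.{u}) ≅ Proj (𝒮L.deg U hU)))
    (hPL : RelProj.IsRelProj 𝒮L pL chartL)
    (𝒜 : RelProj.QCGrAlg Y) (h1 : 𝒜.IsGenDegOne)
    (u : RelProj.QGrHom f 𝒜 𝒮L)
    (hsurj : ∀ x : X, ∃ (U : Y.Opens) (hU : IsAffineOpen U) (e : 𝒜.presheaf.obj (op U))
      (_ : e ∈ 𝒜.deg U hU 1) (V : X.Opens) (hV : IsAffineOpen V) (hVU : V ≤ f ⁻¹ᵁ U), x ∈ V ∧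
        ((𝒮L.deg V hV 1 : AddSubgroup (𝒮L.presheaf.obj (op V))) :
          Set (𝒮L.presheaf.obj (op V))) ⊆
          (Ideal.span {(u.appLE U V hVU).hom e} : Set (𝒮L.presheaf.obj (op V))))
    (p : P ⟶ Y)
    (chart : ∀ (U : Y.Opens) (hU : IsAffineOpen U),
      (((p ⁻¹ᵁ U : P.Opens) : Scheme.{u}) ≅ Proj (𝒜.deg U hU)))
    (hP : RelProj.IsRelProj 𝒜 p chart)
    (r : ((RelProj.domQ u pL chartL : PL.Opens) : Scheme.{u}) ⟶ P)
    (hr : RelProj.IsProjQMapOn u p chart pL chartL (RelProj.domQ u pL chartL) r)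
    (himm : IsImmersion r) :
    RelProj.IsRelVeryAmple f L := by
  haveI hq : L.IsQuasicoherent := TensH8.isQuasicoherent_of_isInvertible hL
  haveI hqE := isQuasicoherent_degMod 𝒜 1
  haveI : ((Scheme.Modules.pullback f).obj (degMod 𝒜 1)).IsQuasicoherent :=
    PBH8.isQuasicoherent_pullback f (degMod 𝒜 1)
  obtain ⟨𝒯, jT, hjT, PT, pT, chartT, hPT, O1T, lamT, hO1T, φT, hφT, -, -⟩ :=
    Groth.Agent.PBundle.exists_projBundle (degMod 𝒜 1)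
  obtain ⟨v, hvgr, hvj, hTN⟩ := Groth.Agent.GenDeg1.exists_v' 𝒜 h1 𝒯 jT hjT
  obtain ⟨hdom, hcl⟩ := Groth.Agent.S12165.result 𝒯 𝒜 v hvgr ⟨1, hTN⟩ pT chartT hPT p chart hP
  obtain ⟨k, hk⟩ := Groth.Agent.ProjQBC.exists_isProjQMap (RelProj.QGrHom.ofHom v hvgr) hPT hP hdom
  haveI hkcl : IsClosedImmersion k := hcl k hk
  -- the composite
  have hu' : ∀ U : Y.Opens, (Groth.Agent.ConeFun.preComp v hvgr u).app U =
      v.hom.app (op U) ≫ u.app U := fun U => rfl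
  have hu_j : ∀ (U : Y.Opens) (V : X.Opens) (hle : V ≤ f ⁻¹ᵁ U) (e : Γ(degMod 𝒜 1, U)),
      ((Groth.Agent.ConeFun.preComp v hvgr u).appLE U V hle).hom
          (jAdd (degMod 𝒜 1) 𝒯.toQCAlg jT U e) =
        jAdd ((Scheme.Modules.pullback f).obj (degMod 𝒜 1)) 𝒮L.toQCAlg (j' f 𝒜 𝒮L u) V
          (PBH8.cUV f (degMod 𝒜 1) hle e) := by
    intro U V hle e
    refine Eq.trans ?_ (j'_cUV f 𝒜 𝒮L u hle e).symm
    show (𝒮L.presheaf.map (homOfLE hle).op).hom ((u.app U).hom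
      ((v.hom.app (op U)).hom (jAdd (degMod 𝒜 1) 𝒯.toQCAlg jT U e))) = _
    rw [hvj U e]
    rfl
  have hspan := j'_span f 𝒜 𝒮L u L jL hjL hsurj
  -- the irrelevant ideal condition
  have hirr : ∀ (U : Y.Opens) (hU : IsAffineOpen U) (V : X.Opens) (hV : IsAffineOpen V)
      (hle : V ≤ f ⁻¹ᵁ U), (𝒮L.deg V hV)₊ ≤ ((𝒯.deg U hU)₊).map
        ((Groth.Agent.ConeFun.preComp v hvgr u).gradedAt U hU V hV hle) := by
    intro U hU V hV hle
    show ((𝒮L.deg V hV)₊).toIdeal ≤ Ideal.map _ ((𝒯.deg U hU)₊).toIdeal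
    refine (hspan V hV).trans ?_
    rw [Ideal.span_le]
    rintro _ ⟨m, rfl⟩
    have hm : m ∈ Submodule.span Γ(X, V) (Set.range (PBH8.cUV f (degMod 𝒜 1) hle)) := by
      rw [PBH8.span_cUV f (degMod 𝒜 1) hV hU hle]; trivial
    induction hm using Submodule.span_induction with
    | mem x hx =>
      obtain ⟨e, rfl⟩ := hx
      have h2 := (hu_j U V hle e).symm
      show jAdd _ 𝒮L.toQCAlg (j' f 𝒜 𝒮L u) V (PBH8.cUV f (degMod 𝒜 1) hle e) ∈ _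
      rw [h2]
      exact Ideal.mem_map_of_mem ((Groth.Agent.ConeFun.preComp v hvgr u).gradedAt U hU V hV hle)
        (HomogeneousIdeal.mem_irrelevant_of_mem _ one_pos (hjT.2 U hU e))
    | zero =>
      show jAdd _ 𝒮L.toQCAlg (j' f 𝒜 𝒮L u) V 0 ∈ _
      rw [map_zero]
      exact zero_mem _
    | add x y _ _ hx hy =>
      show jAdd _ 𝒮L.toQCAlg (j' f 𝒜 𝒮L u) V (x + y) ∈ _
      rw [map_add]
      exact add_mem hx hy
    | smul a x _ hx =>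
      show jAdd _ 𝒮L.toQCAlg (j' f 𝒜 𝒮L u) V (a • x) ∈ _
      rw [jAdd_smul]
      exact Ideal.mul_mem_left _ _ hx
  have hdom' : RelProj.domQ (Groth.Agent.ConeFun.preComp v hvgr u) pL chartL = ⊤ :=
    Groth.Agent.UPB.domQ_eq_top_of_hirr _ hirr
  obtain ⟨r₀, hr₀⟩ := Groth.Agent.ProjQBC.exists_isProjQMap
    (Groth.Agent.ConeFun.preComp v hvgr u) hPT hPL hdom'
  have hrp := Groth.Agent.ProjQBC.isProjQMap_comm (Groth.Agent.ConeFun.preComp v hvgr u) hPT hPL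
    r₀ hr₀
  -- `r₀` is an immersion
  have hr' := Groth.Agent.ConeFun.isProjQMapOn_of_isProjQMap
    (Groth.Agent.ConeFun.preComp v hvgr u) r₀ hr₀
    (RelProj.domQ (Groth.Agent.ConeFun.preComp v hvgr u) pL chartL)
  have hΦ := Groth.Agent.ConeFun.isProjQMapOn_of_isProjQMap
    (RelProj.QGrHom.ofHom v hvgr) k hk (RelProj.domQ (RelProj.QGrHom.ofHom v hvgr) p chart)
  obtain ⟨hle, ρ, hρ, hfac, -⟩ := Groth.Agent.ProjQComp.exists_factor u v hvgr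
    (Groth.Agent.ConeFun.preComp v hvgr u) hu' hP hPL r hr _ hΦ _ hr'
  haveI : IsIso (RelProj.domQ (Groth.Agent.ConeFun.preComp v hvgr u) pL chartL).ι :=
    Groth.Agent.SpecChart.isIso_ι_of_eq_top _ hdom'
  have hr₀eq : r₀ = inv (RelProj.domQ (Groth.Agent.ConeFun.preComp v hvgr u) pL chartL).ι ≫
      PL.homOfLE hle ≫ r ≫ k := by
    rw [IsIso.eq_inv_comp, hfac, ← Category.assoc ρ, hρ, Category.assoc]
  haveI := himm
  haveI himm₀ : IsImmersion r₀ := by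
    rw [hr₀eq]
    infer_instance
  haveI : IsIso pL := Groth.Agent.SymInv.isIso_pL L 𝒮L jL hL hjL hPL
  -- `O(1)` on `P_L`
  have hO1L := Groth.Agent.RelTwEx.isRelTwist_relTwist hPL 1
  obtain ⟨φL, hφL⟩ := Groth.Agent.CanPhi.exists_canPhi hPL hO1L (j' f 𝒜 𝒮L u) (j'_mem f 𝒜 𝒮L u)
  obtain ⟨φLL, hφLL⟩ := Groth.Agent.CanPhi.exists_canPhi hPL hO1L jL hjL.2
  have hinv : PicF.IsInvertible (Groth.Agent.RelTwEx.relTwist hPL 1) :=
    Groth.Agent.VAmpEpi.isInvertible_O1 𝒮L pL chartL L jL hjL 1 (by norm_num) _ _ hO1L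
  haveI : Epi (((pullbackPushforwardAdjunction pL).homEquiv _
      (Groth.Agent.RelTwEx.relTwist hPL 1)).symm φL) :=
    Groth.Agent.PBEpi2.epi_adj 𝒮L pL chartL _ (j' f 𝒜 𝒮L u) (j'_mem f 𝒜 𝒮L u) hspan 1
      (by norm_num) _ _ hO1L φL hφL
  obtain ⟨τ, -⟩ := Groth.Agent.UPB.exists_tau_of_isProjQMap_u (degMod 𝒜 1) 𝒯 jT hjT pT chartT O1T
    lamT hO1T φT hφT f 𝒮L (j' f 𝒜 𝒮L u) (Groth.Agent.ConeFun.preComp v hvgr u) hu_j pL chartL _ _
    hO1L φL hφL hirr r₀ hrp hr₀ hinv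
  -- `L ≅ (pL⁻¹)^* O_{P_L}(1)`
  haveI : Epi (((pullbackPushforwardAdjunction pL).homEquiv L
      (Groth.Agent.RelTwEx.relTwist hPL 1)).symm φLL) :=
    Groth.Agent.PBEpi.epi_adj 𝒮L pL chartL L jL hjL 1 (by norm_num) _ _ hO1L φLL hφLL
  haveI : IsIso (((pullbackPushforwardAdjunction pL).homEquiv L
      (Groth.Agent.RelTwEx.relTwist hPL 1)).symm φLL) :=
    Groth.Agent.InvEpi.isIso_of_epi (TensH8.isInvertible_pullback pL hL) hinv _
  refine ⟨degMod 𝒜 1, hqE, 𝒯, jT, hjT, PT, pT, chartT, hPT, O1T, lamT, hO1T, inv pL ≫ r₀,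
    inferInstance, ?_, ⟨?_⟩⟩
  · rw [Category.assoc, hrp, IsIso.inv_hom_id_assoc]
  · exact ((Scheme.Modules.pullbackId X).symm.app L) ≪≫
      ((Scheme.Modules.pullbackCongr (IsIso.inv_hom_id pL)).symm.app L) ≪≫
      ((Scheme.Modules.pullbackComp (inv pL) pL).symm.app L) ≪≫
      (Scheme.Modules.pullback (inv pL)).mapIso
        (asIso (((pullbackPushforwardAdjunction pL).homEquiv L
          (Groth.Agent.RelTwEx.relTwist hPL 1)).symm φLL)) ≪≫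
      (Scheme.Modules.pullback (inv pL)).mapIso τ.symm ≪≫
      ((Scheme.Modules.pullbackComp (inv pL) r₀).app O1T)

end Main

end Groth.Agent.VA91
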