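import Mathlib
import Groth.Prelude
import Groth.Agent.Lib.FTSys1_helper5
import Groth.Agent.Lib.SymGr2_helper5
import Groth.Agent.Lib.SymDeg2_helper5

/-!
# `Sym(F) = colim Sym(E)` over the quasi-coherent submodules of finite type `E ⊆ F`  (helper5).
APPEND-ONLY once landed.
-/

set_option autoImplicit false
universe u
open CategoryTheory CategoryTheory.Limits AlgebraicGeometry TopologicalSpace Opposite

noncomputable section

namespace Groth.Agent.FTSys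

open QcqsLoc QCohExtn QCAlgMod Groth.Agent.SymAlg Groth.Agent.SymSum Groth.Agent.SymGr

section SymMap
variable {Y : Scheme.{u}} (E F : Y.Modules) [E.IsQuasicoherent]
  (𝒮E : RelProj.QCGrAlg Y) (jE : E ⟶ 𝒮E.toModule) (hjE : RelProj.IsGrSymAlg E 𝒮E jE)
  (𝒮F : RelProj.QCGrAlg Y) (jF : F ⟶ 𝒮F.toModule)
  (hjF1 : ∀ (U : Y.Opens) (hU : IsAffineOpen U) (x : Γ(F, U)), (jF.app U) x ∈ 𝒮F.deg U hU 1)
  (a : E ⟶ F)

include hjE hjF1 in
/-- The graded homomorphism `Sym(a) : Sym(E) ⟶ Sym(F)` of a module map `a : E ⟶ F`. -/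
theorem exists_symMap : ∃ v : 𝒮E.toQCAlg ⟶ 𝒮F.toQCAlg, RelProj.IsGradedHom v ∧
    jE ≫ RelSpec.QCAlg.Hom.toModuleMap v = a ≫ jF ∧
    (∀ (U : Y.Opens) (m : Γ(E, U)), (v.hom.app (op U)).hom (jAdd E 𝒮E.toQCAlg jE U m) =
      jAdd F 𝒮F.toQCAlg jF U (ap a U m)) ∧
    (∀ (U : Y.Opens) (r : Γ(Y, U)), (v.hom.app (op U)).hom ((𝒮E.str.app (op U)).hom r) =
      (𝒮F.str.app (op U)).hom r) := by
  obtain ⟨v, hv, -⟩ := hjE.1 𝒮F.toQCAlg (a ≫ jF)
  have hvj : ∀ (U : Y.Opens) (m : Γ(E, U)),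
      (v.hom.app (op U)).hom (jAdd E 𝒮E.toQCAlg jE U m) =
        jAdd F 𝒮F.toQCAlg jF U (ap a U m) := fun U m =>
    congrArg (fun f : E ⟶ 𝒮F.toModule => jAdd E 𝒮F.toQCAlg f U m) hv
  have hvstr : ∀ (U : Y.Opens) (r : Γ(Y, U)),
      (v.hom.app (op U)).hom ((𝒮E.str.app (op U)).hom r) = (𝒮F.str.app (op U)).hom r := by
    intro U r
    have h0 := NatTrans.congr_app v.comm (op U)
    rw [NatTrans.comp_app] at h0
    exact congrArg (fun ψ => ψ.hom r) h0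
  refine ⟨v, ?_, hv, hvj, hvstr⟩
  intro U hU d x hx
  refine map_mem_of_gen_sch E 𝒮E jE hjE U hU (𝒮F.deg U hU) (v.hom.app (op U)).hom
    (fun r => ?_) (fun m => ?_) d x hx
  · rw [hvstr]; exact 𝒮F.str_mem U hU r
  · rw [hvj]; exact hjF1 U hU _

include hjE in
theorem symMap_unique (v v' : 𝒮E.toQCAlg ⟶ 𝒮F.toQCAlg)
    (hv : jE ≫ RelSpec.QCAlg.Hom.toModuleMap v = a ≫ jF)
    (hv' : jE ≫ RelSpec.QCAlg.Hom.toModuleMap v' = a ≫ jF) : v = v' :=
  (hjE.1 𝒮F.toQCAlg (a ≫ jF)).unique hv hv'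

end SymMap

section Sys
variable {Y : Scheme.{u}} {F : Y.Modules} (𝒯 : RelProj.QCGrAlg Y) (jF : F ⟶ 𝒯.toModule)
  (h𝒯 : RelProj.IsGrSymAlg F 𝒯 jF)

/-- The graded symmetric algebra of the submodule with index `a`. -/
def symA (a : Idx F) : RelProj.QCGrAlg Y := (Groth.Agent.SymDeg.exists_grSymAlg (sub a)).choose

/-- Its structure map. -/
def symJ (a : Idx F) : sub a ⟶ (symA a).toModule :=
  (Groth.Agent.SymDeg.exists_grSymAlg (sub a)).choose_spec.choose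

theorem symH (a : Idx F) : RelProj.IsGrSymAlg (sub a) (symA a) (symJ a) :=
  (Groth.Agent.SymDeg.exists_grSymAlg (sub a)).choose_spec.choose_spec

/-- `Sym(E_a) ⟶ Sym(F)`. -/
def symφ (a : Idx F) : (symA a).toQCAlg ⟶ 𝒯.toQCAlg :=
  (exists_symMap (sub a) F (symA a) (symJ a) (symH a) 𝒯 jF h𝒯.2 (inc a)).choose

theorem symφ_graded (a : Idx F) : RelProj.IsGradedHom (symφ 𝒯 jF h𝒯 a) :=
  (exists_symMap (sub a) F (symA a) (symJ a) (symH a) 𝒯 jF h𝒯.2 (inc a)).choose_spec.1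

theorem symφ_comp (a : Idx F) :
    symJ a ≫ RelSpec.QCAlg.Hom.toModuleMap (symφ 𝒯 jF h𝒯 a) = inc a ≫ jF :=
  (exists_symMap (sub a) F (symA a) (symJ a) (symH a) 𝒯 jF h𝒯.2 (inc a)).choose_spec.2.1

theorem symφ_j (a : Idx F) (U : Y.Opens) (m : Γ(sub a, U)) :
    ((symφ 𝒯 jF h𝒯 a).hom.app (op U)).hom (jAdd (sub a) (symA a).toQCAlg (symJ a) U m) =
      jAdd F 𝒯.toQCAlg jF U (ap (inc a) U m) :=
  (exists_symMap (sub a) F (symA a) (symJ a) (symH a) 𝒯 jF h𝒯.2 (inc a)).choose_spec.2.2.1 U m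

theorem symφ_str (a : Idx F) (U : Y.Opens) (r : Γ(Y, U)) :
    ((symφ 𝒯 jF h𝒯 a).hom.app (op U)).hom (((symA a).str.app (op U)).hom r) =
      (𝒯.str.app (op U)).hom r :=
  (exists_symMap (sub a) F (symA a) (symJ a) (symH a) 𝒯 jF h𝒯.2 (inc a)).choose_spec.2.2.2 U r

/-- `Sym(E_a) ⟶ Sym(E_b)` for `a ≤ b`. -/
def symT {a b : Idx F} (h : a ≤ b) : (symA a).toQCAlg ⟶ (symA b).toQCAlg :=
  (exists_symMap (sub a) (sub b) (symA a) (symJ a) (symH a) (symA b) (symJ b) (symH b).2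
    (trans h)).choose

theorem symT_graded {a b : Idx F} (h : a ≤ b) : RelProj.IsGradedHom (symT h) :=
  (exists_symMap (sub a) (sub b) (symA a) (symJ a) (symH a) (symA b) (symJ b) (symH b).2
    (trans h)).choose_spec.1

theorem symT_comp {a b : Idx F} (h : a ≤ b) :
    symJ a ≫ RelSpec.QCAlg.Hom.toModuleMap (symT h) = trans h ≫ symJ b :=
  (exists_symMap (sub a) (sub b) (symA a) (symJ a) (symH a) (symA b) (symJ b) (symH b).2
    (trans h)).choose_spec.2.1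

theorem symT_φ {a b : Idx F} (h : a ≤ b) : symT h ≫ symφ 𝒯 jF h𝒯 b = symφ 𝒯 jF h𝒯 a := by
  refine symMap_unique (sub a) F (symA a) (symJ a) (symH a) 𝒯 jF (inc a) _ _ ?_
    (symφ_comp 𝒯 jF h𝒯 a)
  have h1 : RelSpec.QCAlg.Hom.toModuleMap (symT h ≫ symφ 𝒯 jF h𝒯 b) =
      RelSpec.QCAlg.Hom.toModuleMap (symT h) ≫
        RelSpec.QCAlg.Hom.toModuleMap (symφ 𝒯 jF h𝒯 b) := rfl
  rw [h1, ← Category.assoc, symT_comp, Category.assoc, symφ_comp, ← Category.assoc, trans_inc]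

theorem symT_φ_app {a b : Idx F} (h : a ≤ b) (U : Y.Opens) (y : (symA a).presheaf.obj (op U)) :
    ((symφ 𝒯 jF h𝒯 b).hom.app (op U)).hom (((symT h).hom.app (op U)).hom y) =
      ((symφ 𝒯 jF h𝒯 a).hom.app (op U)).hom y :=
  congrArg (fun t => (t.hom.app (op U)).hom y) (symT_φ 𝒯 jF h𝒯 h)

section Qcqs
variable [CompactSpace Y] [QuasiSeparatedSpace Y] [F.IsQuasicoherent]

include h𝒯 in
/-- **`Sym(F)` is the union of the images of the `Sym(E_a)`**, on sections over affine opens. -/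
theorem exists_symφ_eq (U : Y.Opens) (hU : IsAffineOpen U) (x : 𝒯.presheaf.obj (op U)) :
    ∃ (a : Idx F) (y : (symA a).presheaf.obj (op U)),
      ((symφ 𝒯 jF h𝒯 a).hom.app (op U)).hom y = x := by
  have hdir : IsDirected (Idx F) (· ≤ ·) := inferInstance
  obtain ⟨z, rfl⟩ := (symToA_bijective F 𝒯 jF h𝒯 U hU).2 x
  induction z using SymmetricAlgebra.induction with
  | algebraMap r =>
    obtain ⟨a⟩ := (inferInstance : Nonempty (Idx F))
    refine ⟨a, ((symA a).str.app (op U)).hom r, ?_⟩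
    rw [symφ_str, symToA_algebraMap]
  | ι m =>
    obtain ⟨a, g, hg⟩ := exists_mem hU m
    refine ⟨a, jAdd (sub a) (symA a).toQCAlg (symJ a) U g, ?_⟩
    rw [symφ_j, hg, symToA_ι]
    rfl
  | mul z w hz hw =>
    obtain ⟨a, y, hy⟩ := hz
    obtain ⟨b, y', hy'⟩ := hw
    obtain ⟨c, hac, hbc⟩ := hdir.directed a b
    refine ⟨c, ((symT hac).hom.app (op U)).hom y * ((symT hbc).hom.app (op U)).hom y', ?_⟩
    rw [map_mul, symT_φ_app, symT_φ_app, hy, hy', map_mul]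
  | add z w hz hw =>
    obtain ⟨a, y, hy⟩ := hz
    obtain ⟨b, y', hy'⟩ := hw
    obtain ⟨c, hac, hbc⟩ := hdir.directed a b
    refine ⟨c, ((symT hac).hom.app (op U)).hom y + ((symT hbc).hom.app (op U)).hom y', ?_⟩
    rw [map_add, symT_φ_app, symT_φ_app, hy, hy', map_add]

end Qcqs

end Sys

end Groth.Agent.FTSys
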