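import Mathlib
import Groth.Prelude.Def_RelProj4
import Groth.Prelude.Def_Pic
import Groth.Agent.Lib.LineChart5_helper5
import Groth.Agent.Lib.LineImm1_helper5

/-!
# `r_{L,ψ}` as a morphism `X ⟶ P` and its action on sections over `D_+(s)`  (helper5)
-/

set_option autoImplicit false
universe u
open AlgebraicGeometry CategoryTheory CategoryTheory.Limits HomogeneousLocalization Opposite TopologicalSpace
open scoped HomogeneousIdeal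

noncomputable section

namespace Groth.Agent.LineImm

open Groth.Agent.RelProjTN RelProj QcqsLoc Groth.Agent.ProjQ Groth.Agent.ProjQLim Groth.Agent.LineChart

theorem isIso_ι_of_eq_top {Z : Scheme.{u}} (G : Z.Opens) (h : G = ⊤) : IsIso G.ι := by
  subst h
  exact (inferInstance : IsIso (Scheme.topIso Z).hom)

variable {Y X P PL : Scheme.{u}} (q : X ⟶ Y)
  (𝒮 : RelProj.QCGrAlg Y) (𝒮L : RelProj.QCGrAlg X)
  (u : RelProj.QGrHom q 𝒮 𝒮L)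
  (p : P ⟶ Y)
  (chart : ∀ (U : Y.Opens) (hU : IsAffineOpen U), (((p ⁻¹ᵁ U : P.Opens) : Scheme.{u}) ≅ Proj (𝒮.deg U hU)))
  (pL : PL ⟶ X)
  (chartL : ∀ (U : X.Opens) (hU : IsAffineOpen U), (((pL ⁻¹ᵁ U : PL.Opens) : Scheme.{u}) ≅ Proj (𝒮L.deg U hU)))
  (hPL : RelProj.IsRelProj 𝒮L pL chartL)
  (r : ((RelProj.domQ u pL chartL : PL.Opens) : Scheme.{u}) ⟶ P)
  (hr : RelProj.IsProjQMapOn u p chart pL chartL (RelProj.domQ u pL chartL) r)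
  (hY : IsAffineOpen (⊤ : Y.Opens))
  (hG : RelProj.domQ u pL chartL = ⊤) [IsIso pL]

/-- `r` transported to a morphism `X ⟶ P`. -/
def RR : X ⟶ P :=
  haveI := isIso_ι_of_eq_top _ hG
  inv pL ≫ inv (RelProj.domQ u pL chartL).ι ≫ r

/-- The standard chart `Spec S_(s) ⟶ P` onto `D_+(s)`. -/
abbrev ιA {n : ℕ} (hn : 0 < n) (s : 𝒮.presheaf.obj (op ⊤)) (hs : s ∈ 𝒮.deg ⊤ hY n) :
    Spec (CommRingCat.of (Away (𝒮.deg ⊤ hY) s)) ⟶ P :=
  Proj.awayι (𝒮.deg ⊤ hY) s hs hn ≫ RelProj.emb p chart ⊤ hY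

/-- The open `D_+(s)` of `P`. -/
abbrev DD (s : 𝒮.presheaf.obj (op ⊤)) : P.Opens :=
  (RelProj.emb p chart ⊤ hY) ''ᵁ Proj.basicOpen (𝒮.deg ⊤ hY) s

theorem opensRange_ιA {n : ℕ} (hn : 0 < n) (s : 𝒮.presheaf.obj (op ⊤)) (hs : s ∈ 𝒮.deg ⊤ hY n) :
    (ιA 𝒮 p chart hY hn s hs).opensRange = DD 𝒮 p chart hY s := by
  rw [Scheme.Hom.opensRange_comp, Proj.opensRange_awayι]

theorem le_preimage_ιA {n : ℕ} (hn : 0 < n) (s : 𝒮.presheaf.obj (op ⊤)) (hs : s ∈ 𝒮.deg ⊤ hY n) :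
    ⊤ ≤ (ιA 𝒮 p chart hY hn s hs) ⁻¹ᵁ DD 𝒮 p chart hY s := by
  rw [← opensRange_ιA 𝒮 p chart hY hn s hs, Scheme.Hom.preimage_opensRange]

theorem isAffineOpen_DD {n : ℕ} (hn : 0 < n) (s : 𝒮.presheaf.obj (op ⊤)) (hs : s ∈ 𝒮.deg ⊤ hY n) :
    IsAffineOpen (DD 𝒮 p chart hY s) := by
  rw [← opensRange_ιA 𝒮 p chart hY hn s hs]
  exact isAffineOpen_opensRange _

include hr in
/-- (★) the chart formula for `RR`. -/
theorem awayEmb_RR {n : ℕ} (hn : 0 < n) (s : 𝒮.presheaf.obj (op ⊤)) (hs : s ∈ 𝒮.deg ⊤ hY n)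
    (V : X.Opens) (hV : IsAffineOpen V) :
    RelProj.awayEmb u pL chartL ⊤ hY V hV (le_pre q V) hn s hs ≫ pL ≫
        RR q 𝒮 𝒮L u pL chartL r hG =
      Spec.map (CommRingCat.ofHom (HomogeneousLocalization.Away.map
        (u.gradedAt ⊤ hY V hV (le_pre q V)) s)) ≫ ιA 𝒮 p chart hY hn s hs := by
  haveI := isIso_ι_of_eq_top _ hG
  have hW := RelProj.range_awayEmb_subset_domQ u pL chartL ⊤ hY V hV (le_pre q V) hn s hs
  rw [← hr ⊤ hY V hV (le_pre q V) n hn s hs hW]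
  unfold RR
  rw [IsIso.hom_inv_id_assoc, ← Category.assoc]
  congr 1
  rw [← cancel_mono (RelProj.domQ u pL chartL).ι, IsOpenImmersion.lift_fac, Category.assoc,
    IsIso.inv_hom_id, Category.comp_id]

/-- The ring map `O(V) ⟶ 𝒮L(V)_(t)` of the chart. -/
abbrev βV (V : X.Opens) (hV : IsAffineOpen V) (t : 𝒮L.presheaf.obj (op V)) :
    Γ(X, V) ⟶ CommRingCat.of (Away (𝒮L.deg V hV) t) :=
  𝒮L.strZero V hV ≫ CommRingCat.ofHom (fromZeroRingHom (𝒮L.deg V hV) _)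

include hPL in
/-- (★') the chart over `X`. -/
theorem awayEmb_pL {n : ℕ} (hn : 0 < n) (s : 𝒮.presheaf.obj (op ⊤)) (hs : s ∈ 𝒮.deg ⊤ hY n)
    (V : X.Opens) (hV : IsAffineOpen V) :
    RelProj.awayEmb u pL chartL ⊤ hY V hV (le_pre q V) hn s hs ≫ pL =
      Spec.map (βV 𝒮L V hV (u.gradedAt ⊤ hY V hV (le_pre q V) s)) ≫ hV.fromSpec := by
  unfold RelProj.awayEmb
  rw [Category.assoc, emb_comp hPL V hV, Proj.awayι_toSpecZero_assoc, Spec.map_comp,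
    Category.assoc]

include hr hPL in
/-- (★★) sections of `RR` over `D_+(s)` in a chart. -/
theorem appLE_RR {n : ℕ} (hn : 0 < n) (s : 𝒮.presheaf.obj (op ⊤)) (hs : s ∈ 𝒮.deg ⊤ hY n)
    (V : X.Opens) (hV : IsAffineOpen V)
    (hVD : V ≤ (RR q 𝒮 𝒮L u pL chartL r hG) ⁻¹ᵁ DD 𝒮 p chart hY s) :
    (RR q 𝒮 𝒮L u pL chartL r hG).appLE (DD 𝒮 p chart hY s) V hVD ≫
        βV 𝒮L V hV (u.gradedAt ⊤ hY V hV (le_pre q V) s) =
      pb (ιA 𝒮 p chart hY hn s hs) (DD 𝒮 p chart hY s) (le_preimage_ιA 𝒮 p chart hY hn s hs) ≫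
        CommRingCat.ofHom (HomogeneousLocalization.Away.map
          (u.gradedAt ⊤ hY V hV (le_pre q V)) s) := by
  have h1 := awayEmb_RR q 𝒮 𝒮L u p chart pL chartL r hr hY hG hn s hs V hV
  have h2 := awayEmb_pL q 𝒮 𝒮L u pL chartL hPL hY hn s hs V hV
  rw [← Category.assoc, h2] at h1
  have hc : ⊤ ≤ (Spec.map (βV 𝒮L V hV (u.gradedAt ⊤ hY V hV (le_pre q V) s)) ≫ hV.fromSpec) ⁻¹ᵁ V := by
    rw [Scheme.Hom.comp_preimage, hV.fromSpec_preimage_self]; exact le_rfl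
  have hle1 : ⊤ ≤ ((Spec.map (βV 𝒮L V hV (u.gradedAt ⊤ hY V hV (le_pre q V) s)) ≫ hV.fromSpec) ≫
      RR q 𝒮 𝒮L u pL chartL r hG) ⁻¹ᵁ DD 𝒮 p chart hY s := by
    rw [Scheme.Hom.comp_preimage]
    exact hc.trans (Scheme.Hom.preimage_mono _ hVD)
  have h3 := pb_comp _ (RR q 𝒮 𝒮L u pL chartL r hG) (DD 𝒮 p chart hY s) V hVD hc hle1
  have h4 := pb_map (βV 𝒮L V hV (u.gradedAt ⊤ hY V hV (le_pre q V) s)) hV.fromSpec V
    (by rw [hV.fromSpec_preimage_self]) hc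
  rw [pb_fromSpec, Category.id_comp] at h4
  rw [h4] at h3
  rw [← h3, pb_congr h1]
  exact pb_map _ _ _ _ _

end Groth.Agent.LineImm
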