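import Mathlib
import Groth.Prelude.Def_RelProj4
import Groth.Prelude.Def_Pic
import Groth.Agent.Lib.LineChart5_helper5
import Groth.Agent.Lib.LineImm2_helper5

/-!
# Local algebra in a generator chart of `Proj(Sym L)`  (helper5)
-/

set_option autoImplicit false
universe u
open AlgebraicGeometry CategoryTheory CategoryTheory.Limits HomogeneousLocalization Opposite TopologicalSpace
open scoped HomogeneousIdeal

noncomputable section

namespace Groth.Agent.LineImm

open Groth.Agent.RelProjTN RelProj QcqsLoc Groth.Agent.ProjQ Groth.Agent.ProjQLim Groth.Agent.LineChart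

section alg

variable {R S : Type u} [CommRing R] [CommRing S] (ι : R →+* S) (z : S)

theorem regular_of_poly (hpoly : Function.Bijective (Polynomial.eval₂RingHom ι z)) (a : R)
    (ha : IsUnit a) (n : ℕ) (x : S) (hx : (ι a * z ^ n) * x = 0) : x = 0 := by
  obtain ⟨Q, rfl⟩ := hpoly.2 x
  have h1 : Polynomial.eval₂RingHom ι z (Polynomial.C a * Polynomial.X ^ n * Q) = 0 := by
    rw [map_mul, map_mul, map_pow]
    simpa using hx
  have h2 : Polynomial.C a * Polynomial.X ^ n * Q = 0 := hpoly.1 (h1.trans (map_zero _).symm)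
  obtain ⟨v, rfl⟩ := ha
  have h3 : Polynomial.X ^ n * Q = 0 := by
    have : Polynomial.C (↑v⁻¹ : R) * (Polynomial.C (v : R) * Polynomial.X ^ n * Q) = 0 := by
      rw [h2, mul_zero]
    rw [← mul_assoc, ← mul_assoc, ← Polynomial.C_mul, Units.inv_mul, Polynomial.C_1, one_mul]
      at this
    exact this
  have h4 := (Polynomial.isRegular_X_pow (R := R) n).left
  have : Q = 0 := h4 (by simpa using h3)
  rw [this, map_zero]

theorem str_injective_of_poly (hpoly : Function.Bijective (Polynomial.eval₂RingHom ι z)) :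
    Function.Injective ι := by
  intro a b h
  have := Groth.Agent.ConeImm.injective_of_poly ι z hpoly 0 a b (by simpa using h)
  exact this

variable {σ : Type*} [SetLike σ S] [AddSubgroupClass σ S] (𝒜 : ℕ → σ) [GradedRing 𝒜]

theorem eq_of_fromZero_eq_mk {n : ℕ} {t : S} (ht : t ∈ 𝒜 n) (hreg : ∀ x : S, t * x = 0 → x = 0)
    (b : 𝒜 0) (m : ℕ) (w : S) (hw : w ∈ 𝒜 (m • n))
    (h : fromZeroRingHom 𝒜 (Submonoid.powers t) b = Away.mk 𝒜 ht m w hw) :
    (b : S) * t ^ m = w := by
  have h1 := congrArg HomogeneousLocalization.val h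
  rw [Away.val_mk] at h1
  have h2 : (fromZeroRingHom 𝒜 (Submonoid.powers t) b).val = Localization.mk (b : S) 1 := rfl
  rw [h2, Localization.mk_eq_mk_iff, Localization.r_iff_exists] at h1
  obtain ⟨⟨c, k, rfl⟩, hc⟩ := h1
  simp only [OneMemClass.coe_one, one_mul] at hc
  have hregk : ∀ (k : ℕ) (x : S), t ^ k * x = 0 → x = 0 := by
    intro k
    induction k with
    | zero => intro x hx; simpa using hx
    | succ k ih =>
      intro x hx
      apply ih
      apply hreg
      rw [← mul_assoc, ← pow_succ']
      exact hx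
  have h3 : t ^ k * ((b : S) * t ^ m - w) = 0 := by
    rw [mul_sub, sub_eq_zero, mul_comm (b : S)]
    exact hc
  exact sub_eq_zero.mp (hregk k _ h3)

end alg

end Groth.Agent.LineImm
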