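import Mathlib
import Groth.Prelude.Def_RelProj4
import Groth.Prelude.Def_Pic
import Groth.Agent.Lib.LineImm3_helper5

/-!
# `r_{L,ψ}` on sections over `D_+(s)`: the formula `str(r^♯(s'/s^m)) · ψ(s)^m = ψ(s')`  (helper5)
-/

set_option autoImplicit false
universe u
open AlgebraicGeometry CategoryTheory CategoryTheory.Limits HomogeneousLocalization Opposite TopologicalSpace
open scoped HomogeneousIdeal

noncomputable section

namespace Groth.Agent.LineImm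

open Groth.Agent.RelProjTN RelProj QcqsLoc Groth.Agent.ProjQ Groth.Agent.ProjQLim Groth.Agent.LineChart

variable {Y X P PL : Scheme.{u}} (q : X ⟶ Y) (L : X.Modules) [L.IsQuasicoherent]
  (hL : PicF.IsInvertible L)
  (𝒮 : RelProj.QCGrAlg Y) (𝒮L : RelProj.QCGrAlg X)
  (j : L ⟶ 𝒮L.toModule) (hj : RelProj.IsGrSymAlg L 𝒮L j)
  (u : RelProj.QGrHom q 𝒮 𝒮L)
  (p : P ⟶ Y)
  (chart : ∀ (U : Y.Opens) (hU : IsAffineOpen U), (((p ⁻¹ᵁ U : P.Opens) : Scheme.{u}) ≅ Proj (𝒮.deg U hU)))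
  (pL : PL ⟶ X)
  (chartL : ∀ (U : X.Opens) (hU : IsAffineOpen U), (((pL ⁻¹ᵁ U : PL.Opens) : Scheme.{u}) ≅ Proj (𝒮L.deg U hU)))
  (hPL : RelProj.IsRelProj 𝒮L pL chartL)
  (r : ((RelProj.domQ u pL chartL : PL.Opens) : Scheme.{u}) ⟶ P)
  (hr : RelProj.IsProjQMapOn u p chart pL chartL (RelProj.domQ u pL chartL) r)
  (hY : IsAffineOpen (⊤ : Y.Opens))
  (hG : RelProj.domQ u pL chartL = ⊤) [IsIso pL]

/-- The span condition on an affine open `V`: `𝒮L(V)_n ⊆ (ψ(s)|V)`. -/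
def HSub (n : ℕ) (s : 𝒮.presheaf.obj (op ⊤)) (V : X.Opens) (hV : IsAffineOpen V) : Prop :=
  ((𝒮L.deg V hV n : AddSubgroup (𝒮L.presheaf.obj (op V))) : Set (𝒮L.presheaf.obj (op V))) ⊆
    (Ideal.span {(u.appLE ⊤ V (le_top.trans (Scheme.Hom.preimage_top q).ge)).hom s} :
      Set (𝒮L.presheaf.obj (op V)))

/-- The open `X_f`, `f = ψ(s)`, exactly as in the statements. -/
def XTs (n : ℕ) (s : 𝒮.presheaf.obj (op ⊤)) : X.Opens :=
  ⨆ V : {V : X.affineOpens //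
    ((𝒮L.deg V.1 V.2 n : AddSubgroup (𝒮L.presheaf.obj (op (V.1 : X.Opens)))) :
        Set (𝒮L.presheaf.obj (op (V.1 : X.Opens)))) ⊆
      (Ideal.span {(u.appLE ⊤ (V.1 : X.Opens)
        (le_top.trans (Scheme.Hom.preimage_top q).ge)).hom s} :
          Set (𝒮L.presheaf.obj (op (V.1 : X.Opens))))},
    (V.1.1 : X.Opens)

include hj in
/-- Under the span condition in a generator chart, `ψ(s)|V` is a non-zero-divisor. -/
theorem tReg {n : ℕ} (s : 𝒮.presheaf.obj (op ⊤)) (hs : s ∈ 𝒮.deg ⊤ hY n)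
    (V : X.Opens) (hV : IsAffineOpen V) (e : Γ(L, V)) (he : GenLocH8.IsGen L V e)
    (hsub : HSub q 𝒮 𝒮L u n s V hV) (x : 𝒮L.presheaf.obj (op V))
    (hx : tFam q 𝒮 𝒮L u s V hV * x = 0) : x = 0 := by
  have hpoly := hpoly_of_isGen L 𝒮L j hj V hV e he
  obtain ⟨a, ha⟩ := exists_coeff L 𝒮L j hj V hV e he n _ (tFam_deg q 𝒮 𝒮L u hY s hs V hV)
  have hTn : TT L 𝒮L j V e ^ n ∈ 𝒮L.deg V hV n := by
    have hT1 : TT L 𝒮L j V e ∈ 𝒮L.deg V hV 1 := hj.2 V hV e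
    have := SetLike.pow_mem_graded n hT1
    simpa using this
  obtain ⟨c, hc⟩ := Ideal.mem_span_singleton'.mp (hsub hTn)
  have hc' : c * tFam q 𝒮 𝒮L u s V hV = TT L 𝒮L j V e ^ n := hc
  obtain ⟨Q, rfl⟩ := hpoly.2 c
  have hau : IsUnit a := by
    rw [ha] at hc'
    have h1 : Polynomial.eval₂RingHom (𝒮L.str.app (op V)).hom (TT L 𝒮L j V e)
        (Q * (Polynomial.C a * Polynomial.X ^ n)) =
        Polynomial.eval₂RingHom (𝒮L.str.app (op V)).hom (TT L 𝒮L j V e) (Polynomial.X ^ n) := by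
      rw [map_mul, map_mul, map_pow]
      simpa using hc'
    have h2 := hpoly.1 h1
    have h3 := congrArg (fun Q' => Polynomial.coeff Q' n) h2
    simp only [← mul_assoc, Polynomial.coeff_mul_X_pow', Polynomial.coeff_X_pow, if_true,
      Polynomial.coeff_mul_C, le_refl, Nat.sub_self] at h3
    exact IsUnit.of_mul_eq_one _ (by rw [mul_comm]; exact h3)
  rw [ha] at hx
  exact regular_of_poly _ _ hpoly a hau n x hx

/-- The span condition passes to basic opens. -/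
theorem hsub_res (n : ℕ) (s : 𝒮.presheaf.obj (op ⊤)) (V : X.Opens) (hV : IsAffineOpen V)
    (hsub : HSub q 𝒮 𝒮L u n s V hV) (g : Γ(X, V)) :
    HSub q 𝒮 𝒮L u n s (X.basicOpen g) (hV.basicOpen g) := by
  intro y hy
  obtain ⟨m, b, hb, hbres⟩ := exists_deg_lift 𝒮L V hV g n y hy
  obtain ⟨c, hc⟩ := Ideal.mem_span_singleton'.mp (hsub hb)
  have hc' : c * tFam q 𝒮 𝒮L u s V hV = b := hc
  rw [← hc', map_mul, tFam_res q 𝒮 𝒮L u s V hV _ (hV.basicOpen g) (X.basicOpen_le g)] at hbres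
  letI alg : Algebra (𝒮L.presheaf.obj (op V)) (𝒮L.presheaf.obj (op (X.basicOpen g))) :=
    (𝒮L.presheaf.map (homOfLE (X.basicOpen_le g)).op).hom.toAlgebra
  haveI hloc : IsLocalization.Away ((𝒮L.str.app (op V)).hom g)
      (𝒮L.presheaf.obj (op (X.basicOpen g))) := 𝒮L.isQC V hV g
  have hu : IsUnit ((𝒮L.presheaf.map (homOfLE (X.basicOpen_le g)).op).hom
      ((𝒮L.str.app (op V)).hom g)) :=
    IsLocalization.Away.algebraMap_isUnit ((𝒮L.str.app (op V)).hom g)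
  obtain ⟨v, hv⟩ := hu
  show y ∈ Ideal.span {tFam q 𝒮 𝒮L u s (X.basicOpen g) (hV.basicOpen g)}
  refine Ideal.mem_span_singleton'.mpr
    ⟨(𝒮L.presheaf.map (homOfLE (X.basicOpen_le g)).op).hom c * ((v⁻¹ : _ˣ) : _) ^ m, ?_⟩
  rw [mul_right_comm, hbres, ← hv, mul_assoc, ← mul_pow, Units.mul_inv, one_pow, mul_one]

include hL in
/-- `X_f` is covered by affine generator charts satisfying the span condition. -/
theorem exists_chart_XTs (n : ℕ) (s : 𝒮.presheaf.obj (op ⊤)) (x : X)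
    (hx : x ∈ XTs q 𝒮 𝒮L u n s) :
    ∃ (W : X.Opens) (hW : IsAffineOpen W), x ∈ W ∧ W ≤ XTs q 𝒮 𝒮L u n s ∧
      (∃ e : Γ(L, W), GenLocH8.IsGen L W e) ∧ HSub q 𝒮 𝒮L u n s W hW := by
  obtain ⟨⟨⟨V, hV⟩, hsub⟩, hxV⟩ := Opens.mem_iSup.mp hx
  obtain ⟨g, hxg, e, he⟩ := exists_basic_gen L hL V hV x hxV
  have hsub' := hsub_res q 𝒮 𝒮L u n s V hV hsub g
  refine ⟨X.basicOpen g, hV.basicOpen g, hxg, ?_, ⟨e, he⟩, hsub'⟩
  intro z hz
  exact Opens.mem_iSup.mpr ⟨⟨⟨X.basicOpen g, hV.basicOpen g⟩, hsub'⟩, hz⟩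

include hL hj hr hPL in
/-- `r⁻¹(D_+(s)) = X_f`. -/
theorem RR_preimage_DD {n : ℕ} (hn : 0 < n) (s : 𝒮.presheaf.obj (op ⊤)) (hs : s ∈ 𝒮.deg ⊤ hY n) :
    (RR q 𝒮 𝒮L u pL chartL r hG) ⁻¹ᵁ DD 𝒮 p chart hY s = XTs q 𝒮 𝒮L u n s := by
  haveI := isIso_ι_of_eq_top _ hG
  have h1 := preimage_basicOpen_eq q L hL 𝒮 𝒮L j hj u p chart pL chartL hPL r hr hY n hn s hs
  ext x
  obtain ⟨x', rfl⟩ := pL.surjective x
  obtain ⟨y, rfl⟩ := (RelProj.domQ u pL chartL).ι.surjective x'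
  have h2 : (RR q 𝒮 𝒮L u pL chartL r hG).base (pL.base ((RelProj.domQ u pL chartL).ι.base y)) =
      r.base y := by
    have : (RelProj.domQ u pL chartL).ι ≫ pL ≫ RR q 𝒮 𝒮L u pL chartL r hG = r := by
      unfold RR
      rw [IsIso.hom_inv_id_assoc, IsIso.hom_inv_id_assoc]
    exact congrArg (fun f => f.base y) this
  have h3 : (RelProj.domQ u pL chartL).ι.base y ∈ (RelProj.domQ u pL chartL).ι ''ᵁ
      (r ⁻¹ᵁ DD 𝒮 p chart hY s) ↔ r.base y ∈ DD 𝒮 p chart hY s := by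
    constructor
    · rintro ⟨y', hy', hyy⟩
      have := (RelProj.domQ u pL chartL).ι.isOpenEmbedding.injective hyy
      rw [← this]; exact hy'
    · intro h; exact ⟨y, h, rfl⟩
  rw [h1] at h3
  show (RR q 𝒮 𝒮L u pL chartL r hG).base _ ∈ DD 𝒮 p chart hY s ↔ _
  rw [h2, ← h3]
  rfl

include hj hr hPL in
/-- The formula `str(r^♯ g) · ψ(s)^m = ψ(s')` for `g = s'/s^m`, in a generator chart. -/
theorem S0_local {n : ℕ} (hn : 0 < n) (s : 𝒮.presheaf.obj (op ⊤)) (hs : s ∈ 𝒮.deg ⊤ hY n)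
    (V : X.Opens) (hV : IsAffineOpen V) (e : Γ(L, V)) (he : GenLocH8.IsGen L V e)
    (hsub : HSub q 𝒮 𝒮L u n s V hV)
    (hVD : V ≤ (RR q 𝒮 𝒮L u pL chartL r hG) ⁻¹ᵁ DD 𝒮 p chart hY s)
    (g : Γ(P, DD 𝒮 p chart hY s)) (m : ℕ) (s' : 𝒮.presheaf.obj (op ⊤))
    (hs' : s' ∈ 𝒮.deg ⊤ hY (m • n))
    (hg : (pb (ιA 𝒮 p chart hY hn s hs) (DD 𝒮 p chart hY s)
      (le_preimage_ιA 𝒮 p chart hY hn s hs)).hom g = Away.mk (𝒮.deg ⊤ hY) hs m s' hs') :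
    (𝒮L.str.app (op V)).hom
        (((RR q 𝒮 𝒮L u pL chartL r hG).appLE (DD 𝒮 p chart hY s) V hVD).hom g) *
      tFam q 𝒮 𝒮L u s V hV ^ m = tFam q 𝒮 𝒮L u s' V hV := by
  have h1 := congrArg (fun ψ => ψ.hom g)
    (appLE_RR q 𝒮 𝒮L u p chart pL chartL hPL r hr hY hG hn s hs V hV hVD)
  simp only [CommRingCat.hom_comp, RingHom.comp_apply] at h1
  rw [hg] at h1
  have h2 := h1.trans (Away.map_mk (u.gradedAt ⊤ hY V hV (le_pre q V)) s hs m s' hs')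
  exact eq_of_fromZero_eq_mk (𝒮L.deg V hV) (tFam_deg q 𝒮 𝒮L u hY s hs V hV)
    (tReg q L 𝒮 𝒮L j hj u hY s hs V hV e he hsub)
    ((𝒮L.strZero V hV).hom
      (((RR q 𝒮 𝒮L u pL chartL r hG).appLE (DD 𝒮 p chart hY s) V hVD).hom g)) m _ _ h2

include hj in
/-- `str(τ) · ψ(s)^m = 0 ⟹ τ = 0` in a generator chart with the span condition. -/
theorem S0'_local {n : ℕ} (s : 𝒮.presheaf.obj (op ⊤)) (hs : s ∈ 𝒮.deg ⊤ hY n)
    (V : X.Opens) (hV : IsAffineOpen V) (e : Γ(L, V)) (he : GenLocH8.IsGen L V e)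
    (hsub : HSub q 𝒮 𝒮L u n s V hV) (τ : Γ(X, V)) (m : ℕ)
    (h : (𝒮L.str.app (op V)).hom τ * tFam q 𝒮 𝒮L u s V hV ^ m = 0) : τ = 0 := by
  have hreg := tReg q L 𝒮 𝒮L j hj u hY s hs V hV e he hsub
  have h1 : (𝒮L.str.app (op V)).hom τ = 0 := by
    induction m with
    | zero => simpa using h
    | succ k ih =>
      apply ih
      apply hreg
      rw [← h, pow_succ]; ring
  have hpoly := hpoly_of_isGen L 𝒮L j hj V hV e he
  exact str_injective_of_poly _ _ hpoly (h1.trans (map_zero _).symm)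

end Groth.Agent.LineImm
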