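import Mathlib
import Groth.Prelude.Def_RelProj4
import Groth.Prelude.Def_Pic
import Groth.Agent.Lib.LineImm4_helper5

/-!
# `r_{L,ψ}` on sections over `D_+(s)`: global formula, surjectivity and injectivity criteria  (helper5)
-/

set_option autoImplicit false
universe u
open AlgebraicGeometry CategoryTheory CategoryTheory.Limits HomogeneousLocalization Opposite TopologicalSpace
open scoped HomogeneousIdeal

noncomputable section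

namespace Groth.Agent.LineImm

open Groth.Agent.RelProjTN RelProj QcqsLoc Groth.Agent.ProjQ Groth.Agent.ProjQLim Groth.Agent.LineChart

variable {Y X P PL : Scheme.{u}} (q : X ⟶ Y) (L : X.Modules) [L.IsQuasicoherent]
  (hL : PicF.IsInvertible L)
  (𝒮 : RelProj.QCGrAlg Y) (𝒮L : RelProj.QCGrAlg X)
  (j : L ⟶ 𝒮L.toModule) (hj : RelProj.IsGrSymAlg L 𝒮L j)
  (u : RelProj.QGrHom q 𝒮 𝒮L)
  (p : P ⟶ Y)
  (chart : ∀ (U : Y.Opens) (hU : IsAffineOpen U), (((p ⁻¹ᵁ U : P.Opens) : Scheme.{u}) ≅ Proj (𝒮.deg U hU)))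
  (pL : PL ⟶ X)
  (chartL : ∀ (U : X.Opens) (hU : IsAffineOpen U), (((pL ⁻¹ᵁ U : PL.Opens) : Scheme.{u}) ≅ Proj (𝒮L.deg U hU)))
  (hPL : RelProj.IsRelProj 𝒮L pL chartL)
  (r : ((RelProj.domQ u pL chartL : PL.Opens) : Scheme.{u}) ⟶ P)
  (hr : RelProj.IsProjQMapOn u p chart pL chartL (RelProj.domQ u pL chartL) r)
  (hY : IsAffineOpen (⊤ : Y.Opens))
  (hG : RelProj.domQ u pL chartL = ⊤) [IsIso pL]

/-- `ψ(s)` on an arbitrary open. -/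
abbrev uu (s : 𝒮.presheaf.obj (op ⊤)) (W : X.Opens) : 𝒮L.presheaf.obj (op W) :=
  (u.appLE ⊤ W (le_top.trans (Scheme.Hom.preimage_top q).ge)).hom s

theorem uu_res (s : 𝒮.presheaf.obj (op ⊤)) {W W' : X.Opens} (h : W' ≤ W) :
    (𝒮L.presheaf.map (homOfLE h).op).hom (uu q 𝒮 𝒮L u s W) = uu q 𝒮 𝒮L u s W' :=
  congrArg (fun ψ => ψ.hom s) (u.toQHom.appLE_map (le_pre q W) h)

include hL hj hr hPL in
/-- **The formula** `str(r^♯ g) · ψ(s)^m = ψ(s')` on `X_f`, for `g = s'/s^m`. -/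
theorem S0 {n : ℕ} (hn : 0 < n) (s : 𝒮.presheaf.obj (op ⊤)) (hs : s ∈ 𝒮.deg ⊤ hY n)
    (hXT : XTs q 𝒮 𝒮L u n s ≤ (RR q 𝒮 𝒮L u pL chartL r hG) ⁻¹ᵁ DD 𝒮 p chart hY s)
    (g : Γ(P, DD 𝒮 p chart hY s)) (m : ℕ) (s' : 𝒮.presheaf.obj (op ⊤))
    (hs' : s' ∈ 𝒮.deg ⊤ hY (m • n))
    (hg : (pb (ιA 𝒮 p chart hY hn s hs) (DD 𝒮 p chart hY s)
      (le_preimage_ιA 𝒮 p chart hY hn s hs)).hom g = Away.mk (𝒮.deg ⊤ hY) hs m s' hs') :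
    (𝒮L.str.app (op (XTs q 𝒮 𝒮L u n s))).hom
        (((RR q 𝒮 𝒮L u pL chartL r hG).appLE (DD 𝒮 p chart hY s) _ hXT).hom g) *
      uu q 𝒮 𝒮L u s (XTs q 𝒮 𝒮L u n s) ^ m = uu q 𝒮 𝒮L u s' (XTs q 𝒮 𝒮L u n s) := by
  choose W hW hxW hWle hgen hsub using exists_chart_XTs q L hL 𝒮 𝒮L u n s
  let F : TopCat.Sheaf CommRingCat.{u} X := ⟨𝒮L.presheaf, 𝒮L.isSheaf⟩
  refine F.eq_of_locally_eq' (fun x : XTs q 𝒮 𝒮L u n s => W x.1 x.2) (XTs q 𝒮 𝒮L u n s)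
    (fun x => homOfLE (hWle x.1 x.2)) ?_ _ _ fun x => ?_
  · intro x hx
    exact Opens.mem_iSup.mpr ⟨⟨x, hx⟩, hxW x hx⟩
  · obtain ⟨e, he⟩ := hgen x.1 x.2
    have h1 := S0_local q L 𝒮 𝒮L j hj u p chart pL chartL hPL r hr hY hG hn s hs
      (W x.1 x.2) (hW x.1 x.2) e he (hsub x.1 x.2) ((hWle x.1 x.2).trans hXT) g m s' hs' hg
    show (𝒮L.presheaf.map (homOfLE (hWle x.1 x.2)).op).hom _ =
      (𝒮L.presheaf.map (homOfLE (hWle x.1 x.2)).op).hom _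
    rw [map_mul, map_pow, uu_res, uu_res, QCAlgMod.str_res 𝒮L.toQCAlg (hWle x.1 x.2)]
    have h2 : rX (hWle x.1 x.2)
        (((RR q 𝒮 𝒮L u pL chartL r hG).appLE (DD 𝒮 p chart hY s) _ hXT).hom g) =
        ((RR q 𝒮 𝒮L u pL chartL r hG).appLE (DD 𝒮 p chart hY s) (W x.1 x.2)
          ((hWle x.1 x.2).trans hXT)).hom g :=
      congrArg (fun ψ => ψ.hom g)
        (Scheme.Hom.appLE_map (RR q 𝒮 𝒮L u pL chartL r hG) hXT (homOfLE (hWle x.1 x.2)).op)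
    rw [h2]
    exact h1

include hL hj in
/-- `str(τ) · ψ(s)^m = 0 ⟹ τ = 0` on `X_f`. -/
theorem S0' {n : ℕ} (s : 𝒮.presheaf.obj (op ⊤)) (hs : s ∈ 𝒮.deg ⊤ hY n)
    (τ : Γ(X, XTs q 𝒮 𝒮L u n s)) (m : ℕ)
    (h : (𝒮L.str.app (op (XTs q 𝒮 𝒮L u n s))).hom τ *
      uu q 𝒮 𝒮L u s (XTs q 𝒮 𝒮L u n s) ^ m = 0) : τ = 0 := by
  choose W hW hxW hWle hgen hsub using exists_chart_XTs q L hL 𝒮 𝒮L u n s
  refine X.sheaf.eq_of_locally_eq' (fun x : XTs q 𝒮 𝒮L u n s => W x.1 x.2) (XTs q 𝒮 𝒮L u n s)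
    (fun x => homOfLE (hWle x.1 x.2)) ?_ _ _ fun x => ?_
  · intro x hx
    exact Opens.mem_iSup.mpr ⟨⟨x, hx⟩, hxW x hx⟩
  · obtain ⟨e, he⟩ := hgen x.1 x.2
    have h1 := congrArg (fun z => (𝒮L.presheaf.map (homOfLE (hWle x.1 x.2)).op).hom z) h
    simp only [map_mul, map_pow, map_zero] at h1
    rw [uu_res, QCAlgMod.str_res 𝒮L.toQCAlg (hWle x.1 x.2)] at h1
    have h2 := S0'_local q L 𝒮 𝒮L j hj u hY s hs (W x.1 x.2) (hW x.1 x.2) e he (hsub x.1 x.2)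
      _ m h1
    show rX (hWle x.1 x.2) τ = (X.presheaf.map (homOfLE (hWle x.1 x.2)).op).hom 0
    rw [h2, map_zero]

end Groth.Agent.LineImm
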