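import Mathlib
import Groth.Prelude.Def_RelProj4
import Groth.Prelude.Def_Pic
import Groth.Agent.Lib.LineImm5_helper5

/-!
# Surjectivity / injectivity of `r^♯` over `D_+(s)` in terms of conditions (iii) / (iv)  (helper5)
-/

set_option autoImplicit false
universe u
open AlgebraicGeometry CategoryTheory CategoryTheory.Limits HomogeneousLocalization Opposite TopologicalSpace
open scoped HomogeneousIdeal

noncomputable section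

namespace Groth.Agent.LineImm

open Groth.Agent.RelProjTN RelProj QcqsLoc Groth.Agent.ProjQ Groth.Agent.ProjQLim Groth.Agent.LineChart

section alg

variable {S : Type u} [CommRing S] {σ : Type*} [SetLike σ S] [AddSubgroupClass σ S]
  (𝒜 : ℕ → σ) [GradedRing 𝒜]

theorem away_mk_succ {n : ℕ} {t : S} (ht : t ∈ 𝒜 n) (m : ℕ) (w : S) (hw : w ∈ 𝒜 (m • n)) :
    ∃ hw' : w * t ∈ 𝒜 ((m + 1) • n), Away.mk 𝒜 ht m w hw = Away.mk 𝒜 ht (m + 1) (w * t) hw' := by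
  have hw' : w * t ∈ 𝒜 ((m + 1) • n) := by
    have := SetLike.mul_mem_graded hw ht
    rwa [show m • n + n = (m + 1) • n by rw [add_smul, one_smul]] at this
  refine ⟨hw', ?_⟩
  rw [HomogeneousLocalization.ext_iff_val]
  rw [Away.val_mk, Away.val_mk, Localization.mk_eq_mk_iff, Localization.r_iff_exists]
  refine ⟨1, ?_⟩
  simp only [OneMemClass.coe_one, one_mul]
  ring

theorem away_mk_eq_zero_iff {n : ℕ} {t : S} (ht : t ∈ 𝒜 n) (m : ℕ) (w : S) (hw : w ∈ 𝒜 (m • n)) :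
    Away.mk 𝒜 ht m w hw = 0 ↔ ∃ k : ℕ, 0 < k ∧ t ^ k * w = 0 := by
  rw [HomogeneousLocalization.ext_iff_val, Away.val_mk, HomogeneousLocalization.val_zero,
    Localization.mk_eq_mk'_apply, IsLocalization.mk'_eq_zero_iff]
  constructor
  · rintro ⟨⟨c, k, rfl⟩, hc⟩
    refine ⟨k + 1, Nat.succ_pos k, ?_⟩
    have hc' : t ^ k * w = 0 := hc
    rw [pow_succ', mul_assoc, hc', mul_zero]
  · rintro ⟨k, -, hk⟩
    exact ⟨⟨t ^ k, k, rfl⟩, hk⟩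

end alg

variable {Y X P PL : Scheme.{u}} (q : X ⟶ Y) (L : X.Modules) [L.IsQuasicoherent]
  (hL : PicF.IsInvertible L)
  (𝒮 : RelProj.QCGrAlg Y) (𝒮L : RelProj.QCGrAlg X)
  (j : L ⟶ 𝒮L.toModule) (hj : RelProj.IsGrSymAlg L 𝒮L j)
  (u : RelProj.QGrHom q 𝒮 𝒮L)
  (p : P ⟶ Y)
  (chart : ∀ (U : Y.Opens) (hU : IsAffineOpen U), (((p ⁻¹ᵁ U : P.Opens) : Scheme.{u}) ≅ Proj (𝒮.deg U hU)))
  (pL : PL ⟶ X)
  (chartL : ∀ (U : X.Opens) (hU : IsAffineOpen U), (((pL ⁻¹ᵁ U : PL.Opens) : Scheme.{u}) ≅ Proj (𝒮L.deg U hU)))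
  (hPL : RelProj.IsRelProj 𝒮L pL chartL)
  (r : ((RelProj.domQ u pL chartL : PL.Opens) : Scheme.{u}) ⟶ P)
  (hr : RelProj.IsProjQMapOn u p chart pL chartL (RelProj.domQ u pL chartL) r)
  (hY : IsAffineOpen (⊤ : Y.Opens))
  (hG : RelProj.domQ u pL chartL = ⊤) [IsIso pL]

include hL hj hr hPL in
/-- Condition (iii) at `t` ⟺ `t` is in the image of `r^♯ : Γ(P, D_+(s)) ⟶ Γ(X, X_f)`. -/
theorem S1 {n : ℕ} (hn : 0 < n) (s : 𝒮.presheaf.obj (op ⊤)) (hs : s ∈ 𝒮.deg ⊤ hY n)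
    (hXT : XTs q 𝒮 𝒮L u n s ≤ (RR q 𝒮 𝒮L u pL chartL r hG) ⁻¹ᵁ DD 𝒮 p chart hY s)
    (t : Γ(X, XTs q 𝒮 𝒮L u n s)) :
    (∃ (m : ℕ) (_ : 0 < m) (s' : 𝒮.presheaf.obj (op ⊤)) (_ : s' ∈ 𝒮.deg ⊤ hY (m * n)),
        (𝒮L.str.app (op (XTs q 𝒮 𝒮L u n s))).hom t * uu q 𝒮 𝒮L u s (XTs q 𝒮 𝒮L u n s) ^ m =
          uu q 𝒮 𝒮L u s' (XTs q 𝒮 𝒮L u n s)) ↔
      ∃ g : Γ(P, DD 𝒮 p chart hY s),
        ((RR q 𝒮 𝒮L u pL chartL r hG).appLE (DD 𝒮 p chart hY s) _ hXT).hom g = t := by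
  have hbij := pb_bijective (ιA 𝒮 p chart hY hn s hs) (DD 𝒮 p chart hY s)
    (opensRange_ιA 𝒮 p chart hY hn s hs) (le_preimage_ιA 𝒮 p chart hY hn s hs)
  constructor
  · rintro ⟨m, -, s', hs', heq⟩
    have hs'' : s' ∈ 𝒮.deg ⊤ hY (m • n) := by rwa [smul_eq_mul]
    obtain ⟨g, hg⟩ := hbij.2 (Away.mk (𝒮.deg ⊤ hY) hs m s' hs'')
    have h0 := S0 q L hL 𝒮 𝒮L j hj u p chart pL chartL hPL r hr hY hG hn s hs hXT g m s' hs'' hg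
    refine ⟨g, ?_⟩
    have := S0' q L hL 𝒮 𝒮L j hj u hY s hs
      (((RR q 𝒮 𝒮L u pL chartL r hG).appLE (DD 𝒮 p chart hY s) _ hXT).hom g - t) m
      (by rw [map_sub, sub_mul, h0, heq, sub_self])
    exact sub_eq_zero.mp this
  · rintro ⟨g, rfl⟩
    obtain ⟨m, s', hs', hms⟩ := Away.mk_surjective (𝒮.deg ⊤ hY) hs
      ((pb (ιA 𝒮 p chart hY hn s hs) (DD 𝒮 p chart hY s)
        (le_preimage_ιA 𝒮 p chart hY hn s hs)).hom g)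
    obtain ⟨hw', hsucc⟩ := away_mk_succ (𝒮.deg ⊤ hY) hs m s' hs'
    refine ⟨m + 1, Nat.succ_pos m, s' * s, by rwa [← smul_eq_mul], ?_⟩
    exact S0 q L hL 𝒮 𝒮L j hj u p chart pL chartL hPL r hr hY hG hn s hs hXT g (m + 1) (s' * s)
      hw' (hms.symm.trans hsucc)

include hL hj hr hPL in
/-- Condition (iv) ⟺ `r^♯ : Γ(P, D_+(s)) ⟶ Γ(X, X_f)` is injective. -/
theorem S2 {n : ℕ} (hn : 0 < n) (s : 𝒮.presheaf.obj (op ⊤)) (hs : s ∈ 𝒮.deg ⊤ hY n)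
    (hXT : XTs q 𝒮 𝒮L u n s ≤ (RR q 𝒮 𝒮L u pL chartL r hG) ⁻¹ᵁ DD 𝒮 p chart hY s) :
    Function.Injective ((RR q 𝒮 𝒮L u pL chartL r hG).appLE (DD 𝒮 p chart hY s) _ hXT).hom ↔
      ∀ (m : ℕ), 0 < m → ∀ s' ∈ 𝒮.deg ⊤ hY (m * n),
        uu q 𝒮 𝒮L u s' (XTs q 𝒮 𝒮L u n s) = 0 → ∃ k : ℕ, 0 < k ∧ s ^ k * s' = 0 := by
  have hbij := pb_bijective (ιA 𝒮 p chart hY hn s hs) (DD 𝒮 p chart hY s)
    (opensRange_ιA 𝒮 p chart hY hn s hs) (le_preimage_ιA 𝒮 p chart hY hn s hs)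
  constructor
  · intro hinj m _ s' hs' h0
    have hs'' : s' ∈ 𝒮.deg ⊤ hY (m • n) := by rwa [smul_eq_mul]
    obtain ⟨g, hg⟩ := hbij.2 (Away.mk (𝒮.deg ⊤ hY) hs m s' hs'')
    have hS0 := S0 q L hL 𝒮 𝒮L j hj u p chart pL chartL hPL r hr hY hG hn s hs hXT g m s' hs'' hg
    rw [h0] at hS0
    have h1 := S0' q L hL 𝒮 𝒮L j hj u hY s hs _ m hS0
    have hg0 : g = 0 := hinj (h1.trans (map_zero _).symm)
    rw [hg0, map_zero] at hg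
    exact (away_mk_eq_zero_iff (𝒮.deg ⊤ hY) hs m s' hs'').mp hg.symm
  · intro h
    rw [injective_iff_map_eq_zero]
    intro g hg0
    obtain ⟨m, s', hs', hms⟩ := Away.mk_surjective (𝒮.deg ⊤ hY) hs
      ((pb (ιA 𝒮 p chart hY hn s hs) (DD 𝒮 p chart hY s)
        (le_preimage_ιA 𝒮 p chart hY hn s hs)).hom g)
    obtain ⟨hw', hsucc⟩ := away_mk_succ (𝒮.deg ⊤ hY) hs m s' hs'
    have hS0 := S0 q L hL 𝒮 𝒮L j hj u p chart pL chartL hPL r hr hY hG hn s hs hXT g (m + 1)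
      (s' * s) hw' (hms.symm.trans hsucc)
    rw [hg0, map_zero, zero_mul] at hS0
    obtain ⟨k, hk, hk0⟩ := h (m + 1) (Nat.succ_pos m) (s' * s) (by rwa [← smul_eq_mul]) hS0.symm
    have h2 : Away.mk (𝒮.deg ⊤ hY) hs (m + 1) (s' * s) hw' = 0 :=
      (away_mk_eq_zero_iff (𝒮.deg ⊤ hY) hs (m + 1) (s' * s) hw').mpr ⟨k, hk, hk0⟩
    exact hbij.1 ((hms.symm.trans (hsucc.trans h2)).trans (map_zero _).symm)

end Groth.Agent.LineImm
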