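import Mathlib
import Groth.Agent.Lib.LineImm1_helper5

/-!
# Immersions into a scheme detected on an affine cover of (part of) the target  (helper5)
-/

set_option autoImplicit false
universe u
open AlgebraicGeometry CategoryTheory CategoryTheory.Limits Opposite TopologicalSpace

noncomputable section

namespace Groth.Agent.LineImm

variable {X P : Scheme.{u}} (R : X ⟶ P)

theorem isClosedImmersion_restrict (D : P.Opens) (hD : IsAffineOpen D)
    (h1 : IsAffineOpen (R ⁻¹ᵁ D)) (h2 : Function.Surjective (R.app D)) :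
    IsClosedImmersion (R ∣_ D) := by
  haveI : IsAffine ↑D := hD
  rw [HasAffineProperty.iff_of_isAffine (P := @IsClosedImmersion)]
  exact ⟨h1, (surjective_restrict_iff R D).mpr h2⟩

theorem isIso_restrict (D : P.Opens) (hD : IsAffineOpen D)
    (h1 : IsAffineOpen (R ⁻¹ᵁ D)) (h2 : Function.Bijective (R.app D)) :
    IsIso (R ∣_ D) := by
  haveI : IsAffine ↑D := hD
  have : MorphismProperty.isomorphisms Scheme (R ∣_ D) := by
    rw [HasAffineProperty.iff_of_isAffine (P := MorphismProperty.isomorphisms Scheme)]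
    refine ⟨h1, ?_⟩
    rw [ConcreteCategory.isIso_iff_bijective]
    exact ⟨(injective_restrict_iff R D).mpr h2.1, (surjective_restrict_iff R D).mpr h2.2⟩
  exact this

theorem range_subset_iSup {ι : Type*} (D : ι → P.Opens) (hcov : ∀ x, ∃ a, R.base x ∈ D a) :
    Set.range R ⊆ (⨆ a, D a : P.Opens) := by
  rintro _ ⟨x, rfl⟩
  obtain ⟨a, ha⟩ := hcov x
  exact Opens.mem_iSup.mpr ⟨a, ha⟩

theorem isImmersion_of_cover {ι : Type*} (D : ι → P.Opens) (hD : ∀ a, IsAffineOpen (D a))
    (hcov : ∀ x, ∃ a, R.base x ∈ D a) (h1 : ∀ a, IsAffineOpen (R ⁻¹ᵁ D a))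
    (h2 : ∀ a, Function.Surjective (R.app (D a))) : IsImmersion R := by
  haveI : MorphismProperty.RespectsRight @IsImmersion @IsOpenImmersion :=
    ⟨fun i hi f hf => by
      haveI : IsOpenImmersion i := hi
      haveI : IsImmersion f := hf
      infer_instance⟩
  refine IsZariskiLocalAtTarget.of_range_subset_iSup (P := @IsImmersion) D
    (range_subset_iSup R D hcov) fun a => ?_
  haveI := isClosedImmersion_restrict R (D a) (hD a) (h1 a) (h2 a)
  infer_instance

theorem isOpenImmersion_of_cover {ι : Type*} (D : ι → P.Opens) (hD : ∀ a, IsAffineOpen (D a))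
    (hcov : ∀ x, ∃ a, R.base x ∈ D a) (h1 : ∀ a, IsAffineOpen (R ⁻¹ᵁ D a))
    (h2 : ∀ a, Function.Bijective (R.app (D a))) : IsOpenImmersion R := by
  haveI : MorphismProperty.RespectsRight @IsOpenImmersion @IsOpenImmersion :=
    ⟨fun i hi f hf => by
      haveI : IsOpenImmersion i := hi
      haveI : IsOpenImmersion f := hf
      infer_instance⟩
  refine IsZariskiLocalAtTarget.of_range_subset_iSup (P := @IsOpenImmersion) D
    (range_subset_iSup R D hcov) fun a => ?_
  haveI := isIso_restrict R (D a) (hD a) (h1 a) (h2 a)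
  infer_instance

theorem isClosedImmersion_of_cover {ι : Type*} (D : ι → P.Opens) (hD : ∀ a, IsAffineOpen (D a))
    (hcov : (⨆ a, D a) = ⊤) (h1 : ∀ a, IsAffineOpen (R ⁻¹ᵁ D a))
    (h2 : ∀ a, Function.Surjective (R.app (D a))) : IsClosedImmersion R := by
  refine IsZariskiLocalAtTarget.of_iSup_eq_top (P := @IsClosedImmersion) D hcov fun a => ?_
  exact isClosedImmersion_restrict R (D a) (hD a) (h1 a) (h2 a)

theorem of_isClosedImmersion [IsClosedImmersion R] (D : P.Opens) (hD : IsAffineOpen D) :
    IsAffineOpen (R ⁻¹ᵁ D) ∧ Function.Surjective (R.app D) :=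
  ⟨hD.preimage R, R.app_surjective D hD⟩

theorem of_isOpenImmersion [IsOpenImmersion R] (D : P.Opens) (hD : IsAffineOpen D)
    (hle : D ≤ R.opensRange) :
    IsAffineOpen (R ⁻¹ᵁ D) ∧ Function.Bijective (R.app D) := by
  refine ⟨hD.preimage_of_isOpenImmersion R hle, ?_⟩
  haveI := Scheme.Hom.isIso_app R D hle
  exact (ConcreteCategory.isIso_iff_bijective (R.app D)).mp inferInstance

theorem of_isImmersion [IsImmersion R] (D : P.Opens) (hD : IsAffineOpen D)
    (hle : D ≤ R.coborderRange) :
    IsAffineOpen (R ⁻¹ᵁ D) ∧ Function.Surjective (R.app D) := by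
  haveI : IsAffine ↑D := hD
  have hcl : IsClosed (Set.range (R ∣_ D)) := by
    have hrange : Set.range (R ∣_ D) =
        (Subtype.val ⁻¹' closure (Set.range R) : Set D) := by
      ext z
      constructor
      · rintro ⟨y, rfl⟩
        apply subset_closure
        exact ⟨y.1, (morphismRestrict_base_coe R D y).symm⟩
      · intro hz
        have h2 : z.1 ∈ coborder (Set.range R) ∩ closure (Set.range R) := ⟨hle z.2, hz⟩
        rw [coborder_inter_closure] at h2
        obtain ⟨x, hx⟩ := h2
        have hxD : x ∈ R ⁻¹ᵁ D := by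
          show R.base x ∈ D
          rw [show R.base x = z.1 from hx]; exact z.2
        refine ⟨⟨x, hxD⟩, ?_⟩
        apply Subtype.ext
        rw [morphismRestrict_base_coe]
        exact hx
    rw [hrange]
    exact isClosed_closure.preimage continuous_subtype_val
  haveI : IsClosedImmersion (R ∣_ D) := IsClosedImmersion.of_isPreimmersion _ hcl
  have h3 := (HasAffineProperty.iff_of_isAffine (P := @IsClosedImmersion) (f := R ∣_ D)).mp
    inferInstance
  exact ⟨h3.1, (surjective_restrict_iff R D).mp h3.2⟩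

theorem surjective_appLE_iff (D : P.Opens) (W : X.Opens) (e : W = R ⁻¹ᵁ D) :
    Function.Surjective (R.appLE D W e.le) ↔ Function.Surjective (R.app D) := by
  subst e; rw [Scheme.Hom.appLE_eq_app]

theorem injective_appLE_iff (D : P.Opens) (W : X.Opens) (e : W = R ⁻¹ᵁ D) :
    Function.Injective (R.appLE D W e.le) ↔ Function.Injective (R.app D) := by
  subst e; rw [Scheme.Hom.appLE_eq_app]

end Groth.Agent.LineImm
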