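import Mathlib
import Groth.Prelude.Def_RelProj4
import Groth.Prelude.Def_Pic
import Groth.Agent.Lib.LineImm6_helper5
import Groth.Agent.Lib.LineImm7_helper5
import Groth.Agent.Lib.ProjQLim2_helper5

/-!
# EGA II 3.8.2 / 3.8.3: assembling the immersion criteria for `r_{L,ψ}`  (helper5)
-/

set_option autoImplicit false
universe u
open AlgebraicGeometry CategoryTheory CategoryTheory.Limits HomogeneousLocalization Opposite TopologicalSpace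
open scoped HomogeneousIdeal

noncomputable section

namespace Groth.Agent.LineImm

open Groth.Agent.RelProjTN RelProj QcqsLoc Groth.Agent.ProjQ Groth.Agent.ProjQLim Groth.Agent.LineChart

variable {Y X P PL : Scheme.{u}} (q : X ⟶ Y) (L : X.Modules) [L.IsQuasicoherent]
  (hL : PicF.IsInvertible L)
  (𝒮 : RelProj.QCGrAlg Y) (𝒮L : RelProj.QCGrAlg X)
  (j : L ⟶ 𝒮L.toModule) (hj : RelProj.IsGrSymAlg L 𝒮L j)
  (u : RelProj.QGrHom q 𝒮 𝒮L)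
  (p : P ⟶ Y)
  (chart : ∀ (U : Y.Opens) (hU : IsAffineOpen U), (((p ⁻¹ᵁ U : P.Opens) : Scheme.{u}) ≅ Proj (𝒮.deg U hU)))
  (pL : PL ⟶ X)
  (chartL : ∀ (U : X.Opens) (hU : IsAffineOpen U), (((pL ⁻¹ᵁ U : PL.Opens) : Scheme.{u}) ≅ Proj (𝒮L.deg U hU)))
  (hPL : RelProj.IsRelProj 𝒮L pL chartL)
  (r : ((RelProj.domQ u pL chartL : PL.Opens) : Scheme.{u}) ⟶ P)
  (hr : RelProj.IsProjQMapOn u p chart pL chartL (RelProj.domQ u pL chartL) r)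
  (hY : IsAffineOpen (⊤ : Y.Opens))
  (hG : RelProj.domQ u pL chartL = ⊤) [IsIso pL]

/-- Iso-invariant properties of `r` and of `RR` agree. -/
theorem prop_RR_iff (Q : MorphismProperty Scheme.{u}) [Q.RespectsIso] :
    Q (RR q 𝒮 𝒮L u pL chartL r hG) ↔ Q r := by
  haveI := isIso_ι_of_eq_top _ hG
  unfold RR
  rw [← Category.assoc]
  exact Q.cancel_left_of_respectsIso _ r

include hL hj hPL in
/-- (i) implies that `r` is everywhere defined. -/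
theorem domQ_eq_top_of_cover {ι : Type*} (n : ι → ℕ) (s : ι → 𝒮.presheaf.obj (op ⊤))
    (hns : ∀ a, 0 < n a ∧ s a ∈ 𝒮.deg ⊤ hY (n a))
    (hcov : (⨆ a, XTs q 𝒮 𝒮L u (n a) (s a)) = ⊤) : RelProj.domQ u pL chartL = ⊤ := by
  rw [domQ_eq_top_iff q L hL 𝒮 𝒮L j hj u pL chartL hPL hY]
  intro x
  have hx : x ∈ (⨆ a, XTs q 𝒮 𝒮L u (n a) (s a)) := hcov ▸ Opens.mem_top x
  obtain ⟨a, ha⟩ := Opens.mem_iSup.mp hx
  obtain ⟨⟨⟨V, hV⟩, hsub⟩, hxV⟩ := Opens.mem_iSup.mp ha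
  exact ⟨n a, (hns a).1, s a, (hns a).2, V, hV, hxV, hsub⟩

/-- The index type of the family of all `s` with `D_+(s) ⊆ U₁`. -/
def Fam (U₁ : P.Opens) : Type u :=
  {x : ℕ × 𝒮.presheaf.obj (op ⊤) //
    0 < x.1 ∧ x.2 ∈ 𝒮.deg ⊤ hY x.1 ∧ DD 𝒮 p chart hY x.2 ≤ U₁}

include hL hj hr hPL in
theorem fam_cover (U₁ : P.Opens) (hR : ∀ x, (RR q 𝒮 𝒮L u pL chartL r hG).base x ∈ U₁) :
    (⨆ a : Fam 𝒮 p chart hY U₁, XTs q 𝒮 𝒮L u a.1.1 a.1.2) = ⊤ := by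
  rw [eq_top_iff]
  intro x _
  set Rx := (RR q 𝒮 𝒮L u pL chartL r hG).base x with hRx
  have hmem : Rx ∈ p ⁻¹ᵁ (⊤ : Y.Opens) := trivial
  set z := zpt p chart ⊤ hY Rx hmem with hz
  have hez : (RelProj.emb p chart ⊤ hY).base z = Rx := emb_zpt ⊤ hY Rx hmem
  have hzO : z ∈ (RelProj.emb p chart ⊤ hY) ⁻¹ᵁ U₁ := by
    show (RelProj.emb p chart ⊤ hY).base z ∈ U₁
    rw [hez]; exact hR x
  obtain ⟨d, hd, f, hf, hzf, hfO⟩ := exists_homogeneous_basicOpen (𝒮.deg ⊤ hY) z _ hzO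
  have hle : DD 𝒮 p chart hY f ≤ U₁ := by
    rintro _ ⟨w, hw, rfl⟩
    exact hfO hw
  refine Opens.mem_iSup.mpr ⟨⟨(d, f), hd, hf, hle⟩, ?_⟩
  rw [← RR_preimage_DD q L hL 𝒮 𝒮L j hj u p chart pL chartL hPL r hr hY hG hd f hf]
  exact ⟨z, hzf, hez⟩

theorem fam_v : (⨆ a : Fam 𝒮 p chart hY (⊤ : P.Opens), Proj.basicOpen (𝒮.deg ⊤ hY) a.1.2) = ⊤ := by
  rw [eq_top_iff]
  intro z _
  obtain ⟨d, hd, f, hf, hzf, -⟩ := exists_homogeneous_basicOpen (𝒮.deg ⊤ hY) z ⊤ trivial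
  exact Opens.mem_iSup.mpr ⟨⟨(d, f), hd, hf, le_top⟩, hzf⟩

include hL hj hr hPL in
/-- surjectivity of `r^♯` over `D_+(s)` gives (iii). -/
theorem cond_iii_of_surjective {n : ℕ} (hn : 0 < n) (s : 𝒮.presheaf.obj (op ⊤))
    (hs : s ∈ 𝒮.deg ⊤ hY n)
    (hsurj : Function.Surjective ((RR q 𝒮 𝒮L u pL chartL r hG).app (DD 𝒮 p chart hY s)))
    (t : Γ(X, XTs q 𝒮 𝒮L u n s)) :
    ∃ (m : ℕ) (_ : 0 < m) (s' : 𝒮.presheaf.obj (op ⊤)) (_ : s' ∈ 𝒮.deg ⊤ hY (m * n)),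
      (𝒮L.str.app (op (XTs q 𝒮 𝒮L u n s))).hom t * uu q 𝒮 𝒮L u s (XTs q 𝒮 𝒮L u n s) ^ m =
        uu q 𝒮 𝒮L u s' (XTs q 𝒮 𝒮L u n s) := by
  have e := (RR_preimage_DD q L hL 𝒮 𝒮L j hj u p chart pL chartL hPL r hr hY hG hn s hs).symm
  have h1 := (surjective_appLE_iff (RR q 𝒮 𝒮L u pL chartL r hG) (DD 𝒮 p chart hY s) _ e).mpr hsurj
  obtain ⟨g, hg⟩ := h1 t
  exact (S1 q L hL 𝒮 𝒮L j hj u p chart pL chartL hPL r hr hY hG hn s hs e.le t).mpr ⟨g, hg⟩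

include hL hj hr hPL in
/-- (iii) gives surjectivity of `r^♯` over `D_+(s)`. -/
theorem surjective_of_cond_iii {n : ℕ} (hn : 0 < n) (s : 𝒮.presheaf.obj (op ⊤))
    (hs : s ∈ 𝒮.deg ⊤ hY n)
    (h : ∀ t : Γ(X, XTs q 𝒮 𝒮L u n s),
      ∃ (m : ℕ) (_ : 0 < m) (s' : 𝒮.presheaf.obj (op ⊤)) (_ : s' ∈ 𝒮.deg ⊤ hY (m * n)),
        (𝒮L.str.app (op (XTs q 𝒮 𝒮L u n s))).hom t * uu q 𝒮 𝒮L u s (XTs q 𝒮 𝒮L u n s) ^ m =
          uu q 𝒮 𝒮L u s' (XTs q 𝒮 𝒮L u n s)) :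
    Function.Surjective ((RR q 𝒮 𝒮L u pL chartL r hG).app (DD 𝒮 p chart hY s)) := by
  have e := (RR_preimage_DD q L hL 𝒮 𝒮L j hj u p chart pL chartL hPL r hr hY hG hn s hs).symm
  rw [← surjective_appLE_iff (RR q 𝒮 𝒮L u pL chartL r hG) (DD 𝒮 p chart hY s) _ e]
  intro t
  exact (S1 q L hL 𝒮 𝒮L j hj u p chart pL chartL hPL r hr hY hG hn s hs e.le t).mp (h t)

include hL hj hr hPL in
/-- injectivity of `r^♯` over `D_+(s)` is (iv). -/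
theorem injective_iff_cond_iv {n : ℕ} (hn : 0 < n) (s : 𝒮.presheaf.obj (op ⊤))
    (hs : s ∈ 𝒮.deg ⊤ hY n) :
    Function.Injective ((RR q 𝒮 𝒮L u pL chartL r hG).app (DD 𝒮 p chart hY s)) ↔
      ∀ (m : ℕ), 0 < m → ∀ s' ∈ 𝒮.deg ⊤ hY (m * n),
        uu q 𝒮 𝒮L u s' (XTs q 𝒮 𝒮L u n s) = 0 → ∃ k : ℕ, 0 < k ∧ s ^ k * s' = 0 := by
  have e := (RR_preimage_DD q L hL 𝒮 𝒮L j hj u p chart pL chartL hPL r hr hY hG hn s hs).symm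
  rw [← injective_appLE_iff (RR q 𝒮 𝒮L u pL chartL r hG) (DD 𝒮 p chart hY s) _ e]
  exact S2 q L hL 𝒮 𝒮L j hj u p chart pL chartL hPL r hr hY hG hn s hs e.le

include hL hj hr hPL in
theorem affine_XTs_iff {n : ℕ} (hn : 0 < n) (s : 𝒮.presheaf.obj (op ⊤))
    (hs : s ∈ 𝒮.deg ⊤ hY n) :
    IsAffineOpen (XTs q 𝒮 𝒮L u n s) ↔
      IsAffineOpen ((RR q 𝒮 𝒮L u pL chartL r hG) ⁻¹ᵁ DD 𝒮 p chart hY s) := by
  rw [RR_preimage_DD q L hL 𝒮 𝒮L j hj u p chart pL chartL hPL r hr hY hG hn s hs]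

include hL hj hr hPL in
theorem cover_DD {ι : Type*} (n : ι → ℕ) (s : ι → 𝒮.presheaf.obj (op ⊤))
    (hns : ∀ a, 0 < n a ∧ s a ∈ 𝒮.deg ⊤ hY (n a))
    (hcov : (⨆ a, XTs q 𝒮 𝒮L u (n a) (s a)) = ⊤) (x : X) :
    ∃ a, (RR q 𝒮 𝒮L u pL chartL r hG).base x ∈ DD 𝒮 p chart hY (s a) := by
  have hx : x ∈ (⨆ a, XTs q 𝒮 𝒮L u (n a) (s a)) := hcov ▸ Opens.mem_top x
  obtain ⟨a, ha⟩ := Opens.mem_iSup.mp hx
  refine ⟨a, ?_⟩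
  rw [← RR_preimage_DD q L hL 𝒮 𝒮L j hj u p chart pL chartL hPL r hr hY hG (hns a).1 (s a)
    (hns a).2] at ha
  exact ha

theorem iSup_DD_eq_top {ι : Type*} (s : ι → 𝒮.presheaf.obj (op ⊤))
    (h : (⨆ a, Proj.basicOpen (𝒮.deg ⊤ hY) (s a)) = ⊤) :
    (⨆ a, DD 𝒮 p chart hY (s a)) = ⊤ := by
  rw [eq_top_iff]
  intro w _
  have hmem : w ∈ p ⁻¹ᵁ (⊤ : Y.Opens) := trivial
  have hz : zpt p chart ⊤ hY w hmem ∈ (⨆ a, Proj.basicOpen (𝒮.deg ⊤ hY) (s a)) :=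
    h ▸ Opens.mem_top _
  obtain ⟨a, ha⟩ := Opens.mem_iSup.mp hz
  exact Opens.mem_iSup.mpr ⟨a, _, ha, emb_zpt ⊤ hY w hmem⟩

end Groth.Agent.LineImm
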