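import Mathlib
import Groth.Prelude.Def_RelProj4
import Groth.Prelude.Def_Pic
import Groth.Agent.Lib.LineImm2_helper5

/-!
# `r_{L,ψ}` as a morphism `X ⟶ P`: sections over `D_+(s)`, `s ∈ 𝒮(U)`, `U` any affine open of `Y`  (helper5)

General-`U` versions of the chart formulas of `LineImm2` (which are stated for `U = ⊤`).
-/

set_option autoImplicit false
universe u
open AlgebraicGeometry CategoryTheory CategoryTheory.Limits HomogeneousLocalization Opposite TopologicalSpace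
open scoped HomogeneousIdeal

noncomputable section

namespace Groth.Agent.LineImmU

open Groth.Agent.RelProjTN RelProj QcqsLoc Groth.Agent.ProjQ Groth.Agent.ProjQLim Groth.Agent.LineChart
  Groth.Agent.LineImm

variable {Y X P PL : Scheme.{u}} (q : X ⟶ Y)
  (𝒮 : RelProj.QCGrAlg Y) (𝒮L : RelProj.QCGrAlg X)
  (u : RelProj.QGrHom q 𝒮 𝒮L)
  (p : P ⟶ Y)
  (chart : ∀ (U : Y.Opens) (hU : IsAffineOpen U), (((p ⁻¹ᵁ U : P.Opens) : Scheme.{u}) ≅ Proj (𝒮.deg U hU)))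
  (pL : PL ⟶ X)
  (chartL : ∀ (U : X.Opens) (hU : IsAffineOpen U), (((pL ⁻¹ᵁ U : PL.Opens) : Scheme.{u}) ≅ Proj (𝒮L.deg U hU)))
  (hPL : RelProj.IsRelProj 𝒮L pL chartL)
  (r : ((RelProj.domQ u pL chartL : PL.Opens) : Scheme.{u}) ⟶ P)
  (hr : RelProj.IsProjQMapOn u p chart pL chartL (RelProj.domQ u pL chartL) r)
  (hG : RelProj.domQ u pL chartL = ⊤) [IsIso pL]
  (U : Y.Opens) (hU : IsAffineOpen U)

/-- The standard chart `Spec 𝒮(U)_(s) ⟶ P` onto `D_+(s)`. -/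
abbrev ιU {n : ℕ} (hn : 0 < n) (s : 𝒮.presheaf.obj (op U)) (hs : s ∈ 𝒮.deg U hU n) :
    Spec (CommRingCat.of (Away (𝒮.deg U hU) s)) ⟶ P :=
  Proj.awayι (𝒮.deg U hU) s hs hn ≫ RelProj.emb p chart U hU

/-- The open `D_+(s)` of `P`, `s ∈ 𝒮(U)`. -/
abbrev DU (s : 𝒮.presheaf.obj (op U)) : P.Opens :=
  (RelProj.emb p chart U hU) ''ᵁ Proj.basicOpen (𝒮.deg U hU) s

theorem opensRange_ιU {n : ℕ} (hn : 0 < n) (s : 𝒮.presheaf.obj (op U)) (hs : s ∈ 𝒮.deg U hU n) :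
    (ιU 𝒮 p chart U hU hn s hs).opensRange = DU 𝒮 p chart U hU s := by
  rw [Scheme.Hom.opensRange_comp, Proj.opensRange_awayι]

theorem le_preimage_ιU {n : ℕ} (hn : 0 < n) (s : 𝒮.presheaf.obj (op U)) (hs : s ∈ 𝒮.deg U hU n) :
    ⊤ ≤ (ιU 𝒮 p chart U hU hn s hs) ⁻¹ᵁ DU 𝒮 p chart U hU s := by
  rw [← opensRange_ιU 𝒮 p chart U hU hn s hs, Scheme.Hom.preimage_opensRange]

theorem isAffineOpen_DU {n : ℕ} (hn : 0 < n) (s : 𝒮.presheaf.obj (op U)) (hs : s ∈ 𝒮.deg U hU n) :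
    IsAffineOpen (DU 𝒮 p chart U hU s) := by
  rw [← opensRange_ιU 𝒮 p chart U hU hn s hs]
  exact isAffineOpen_opensRange _

theorem DU_le (s : 𝒮.presheaf.obj (op U)) : DU 𝒮 p chart U hU s ≤ p ⁻¹ᵁ U := by
  rintro _ ⟨z, -, rfl⟩
  exact mem_of_emb U hU z

include hr in
/-- (★) the chart formula for `RR`, over any affine `U`. -/
theorem awayEmb_RR {n : ℕ} (hn : 0 < n) (s : 𝒮.presheaf.obj (op U)) (hs : s ∈ 𝒮.deg U hU n)
    (V : X.Opens) (hV : IsAffineOpen V) (hle : V ≤ q ⁻¹ᵁ U) :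
    RelProj.awayEmb u pL chartL U hU V hV hle hn s hs ≫ pL ≫
        RR q 𝒮 𝒮L u pL chartL r hG =
      Spec.map (CommRingCat.ofHom (HomogeneousLocalization.Away.map
        (u.gradedAt U hU V hV hle) s)) ≫ ιU 𝒮 p chart U hU hn s hs := by
  haveI := isIso_ι_of_eq_top _ hG
  have hW := RelProj.range_awayEmb_subset_domQ u pL chartL U hU V hV hle hn s hs
  rw [← hr U hU V hV hle n hn s hs hW]
  unfold RR
  rw [IsIso.hom_inv_id_assoc, ← Category.assoc]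
  congr 1
  rw [← cancel_mono (RelProj.domQ u pL chartL).ι, IsOpenImmersion.lift_fac, Category.assoc,
    IsIso.inv_hom_id, Category.comp_id]

include hPL in
/-- (★') the chart over `X`, for any homogeneous `t ∈ 𝒮L(V)` of positive degree. -/
theorem awayι_emb_pL {n : ℕ} (hn : 0 < n) (V : X.Opens) (hV : IsAffineOpen V)
    (t : 𝒮L.presheaf.obj (op V)) (ht : t ∈ 𝒮L.deg V hV n) :
    (Proj.awayι (𝒮L.deg V hV) t ht hn ≫ RelProj.emb pL chartL V hV) ≫ pL =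
      Spec.map (βV 𝒮L V hV t) ≫ hV.fromSpec := by
  rw [Category.assoc, emb_comp hPL V hV, Proj.awayι_toSpecZero_assoc, Spec.map_comp,
    Category.assoc]

include hPL in
/-- (★') the chart over `X`. -/
theorem awayEmb_pL {n : ℕ} (hn : 0 < n) (s : 𝒮.presheaf.obj (op U)) (hs : s ∈ 𝒮.deg U hU n)
    (V : X.Opens) (hV : IsAffineOpen V) (hle : V ≤ q ⁻¹ᵁ U) :
    RelProj.awayEmb u pL chartL U hU V hV hle hn s hs ≫ pL =
      Spec.map (βV 𝒮L V hV (u.gradedAt U hU V hV hle s)) ≫ hV.fromSpec := by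
  unfold RelProj.awayEmb
  rw [Category.assoc, emb_comp hPL V hV, Proj.awayι_toSpecZero_assoc, Spec.map_comp,
    Category.assoc]

include hr hPL in
/-- (★★) sections of `RR` over `D_+(s)` in a chart. -/
theorem appLE_RR {n : ℕ} (hn : 0 < n) (s : 𝒮.presheaf.obj (op U)) (hs : s ∈ 𝒮.deg U hU n)
    (V : X.Opens) (hV : IsAffineOpen V) (hle : V ≤ q ⁻¹ᵁ U)
    (hVD : V ≤ (RR q 𝒮 𝒮L u pL chartL r hG) ⁻¹ᵁ DU 𝒮 p chart U hU s) :
    (RR q 𝒮 𝒮L u pL chartL r hG).appLE (DU 𝒮 p chart U hU s) V hVD ≫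
        βV 𝒮L V hV (u.gradedAt U hU V hV hle s) =
      pb (ιU 𝒮 p chart U hU hn s hs) (DU 𝒮 p chart U hU s) (le_preimage_ιU 𝒮 p chart U hU hn s hs) ≫
        CommRingCat.ofHom (HomogeneousLocalization.Away.map
          (u.gradedAt U hU V hV hle) s) := by
  have h1 := awayEmb_RR q 𝒮 𝒮L u p chart pL chartL r hr hG U hU hn s hs V hV hle
  have h2 := awayEmb_pL q 𝒮 𝒮L u pL chartL hPL U hU hn s hs V hV hle
  rw [← Category.assoc, h2] at h1
  have hc : ⊤ ≤ (Spec.map (βV 𝒮L V hV (u.gradedAt U hU V hV hle s)) ≫ hV.fromSpec) ⁻¹ᵁ V := by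
    rw [Scheme.Hom.comp_preimage, hV.fromSpec_preimage_self]; exact le_rfl
  have hle1 : ⊤ ≤ ((Spec.map (βV 𝒮L V hV (u.gradedAt U hU V hV hle s)) ≫ hV.fromSpec) ≫
      RR q 𝒮 𝒮L u pL chartL r hG) ⁻¹ᵁ DU 𝒮 p chart U hU s := by
    rw [Scheme.Hom.comp_preimage]
    exact hc.trans (Scheme.Hom.preimage_mono _ hVD)
  have h3 := pb_comp _ (RR q 𝒮 𝒮L u pL chartL r hG) (DU 𝒮 p chart U hU s) V hVD hc hle1
  have h4 := pb_map (βV 𝒮L V hV (u.gradedAt U hU V hV hle s)) hV.fromSpec V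
    (by rw [hV.fromSpec_preimage_self]) hc
  rw [pb_fromSpec, Category.id_comp] at h4
  rw [h4] at h3
  rw [← h3, pb_congr h1]
  exact pb_map _ _ _ _ _

end Groth.Agent.LineImmU
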