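import Mathlib
import Groth.Prelude.Def_RelProj4
import Groth.Prelude.Def_Pic
import Groth.Agent.Lib.LineImmU1_helper5
import Groth.Agent.Lib.LineImm7_helper5

/-!
# `r_{L,ψ}` as a morphism `X ⟶ P`: preimages of `D_+(s)` and surjectivity on sections  (helper5)
-/

set_option autoImplicit false
universe u
open AlgebraicGeometry CategoryTheory CategoryTheory.Limits HomogeneousLocalization Opposite TopologicalSpace
open scoped HomogeneousIdeal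

noncomputable section

namespace Groth.Agent.LineImmU

open Groth.Agent.RelProjTN RelProj QcqsLoc Groth.Agent.ProjQ Groth.Agent.ProjQLim Groth.Agent.LineChart
  Groth.Agent.LineImm

section beta

variable {X PL : Scheme.{u}} (𝒮L : RelProj.QCGrAlg X)
  (pL : PL ⟶ X)
  (chartL : ∀ (U : X.Opens) (hU : IsAffineOpen U), (((pL ⁻¹ᵁ U : PL.Opens) : Scheme.{u}) ≅ Proj (𝒮L.deg U hU)))
  (hPL : RelProj.IsRelProj 𝒮L pL chartL) [IsIso pL]

include hPL in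
/-- If `D_+(t)` is all of `Proj 𝒮L(V)` (and `pL` is an isomorphism), then `O(V) ⟶ 𝒮L(V)_(t)` is
bijective. -/
theorem βV_bijective {n : ℕ} (hn : 0 < n) (V : X.Opens) (hV : IsAffineOpen V)
    (t : 𝒮L.presheaf.obj (op V)) (ht : t ∈ 𝒮L.deg V hV n)
    (htop : Proj.basicOpen (𝒮L.deg V hV) t = ⊤) :
    Function.Bijective (βV 𝒮L V hV t).hom := by
  have h2 := awayι_emb_pL 𝒮L pL chartL hPL hn V hV t ht
  have hrange : ((Proj.awayι (𝒮L.deg V hV) t ht hn ≫ RelProj.emb pL chartL V hV) ≫ pL).opensRange = V := by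
    rw [Scheme.Hom.opensRange_comp, Scheme.Hom.opensRange_comp, Proj.opensRange_awayι, htop,
      Scheme.Hom.image_top_eq_opensRange, opensRange_emb, Scheme.Hom.image_preimage_eq_opensRange_inf,
      Scheme.Hom.opensRange_of_isIso, top_inf_eq]
  have hc' : ⊤ ≤ (Spec.map (βV 𝒮L V hV t) ≫ hV.fromSpec) ⁻¹ᵁ V := by
    rw [Scheme.Hom.comp_preimage, hV.fromSpec_preimage_self]; exact le_rfl
  have h4 := pb_map (βV 𝒮L V hV t) hV.fromSpec V (by rw [hV.fromSpec_preimage_self]) hc'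
  rw [pb_fromSpec, Category.id_comp] at h4
  have hc'' : ⊤ ≤ ((Proj.awayι (𝒮L.deg V hV) t ht hn ≫ RelProj.emb pL chartL V hV) ≫ pL) ⁻¹ᵁ V := by
    rw [h2]; exact hc'
  rw [← h4, ← pb_congr h2 V hc'']
  exact pb_bijective _ V hrange _

end beta

variable {Y X P PL : Scheme.{u}} (q : X ⟶ Y)
  (𝒮 : RelProj.QCGrAlg Y) (𝒮L : RelProj.QCGrAlg X)
  (u : RelProj.QGrHom q 𝒮 𝒮L)
  (p : P ⟶ Y)
  (chart : ∀ (U : Y.Opens) (hU : IsAffineOpen U), (((p ⁻¹ᵁ U : P.Opens) : Scheme.{u}) ≅ Proj (𝒮.deg U hU)))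
  (hP : RelProj.IsRelProj 𝒮 p chart)
  (pL : PL ⟶ X)
  (chartL : ∀ (U : X.Opens) (hU : IsAffineOpen U), (((pL ⁻¹ᵁ U : PL.Opens) : Scheme.{u}) ≅ Proj (𝒮L.deg U hU)))
  (hPL : RelProj.IsRelProj 𝒮L pL chartL)
  (r : ((RelProj.domQ u pL chartL : PL.Opens) : Scheme.{u}) ⟶ P)
  (hr : RelProj.IsProjQMapOn u p chart pL chartL (RelProj.domQ u pL chartL) r)
  (hG : RelProj.domQ u pL chartL = ⊤) [IsIso pL]
  (U : Y.Opens) (hU : IsAffineOpen U)

theorem ι_pL_RR : (RelProj.domQ u pL chartL).ι ≫ pL ≫ RR q 𝒮 𝒮L u pL chartL r hG = r := by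
  haveI := isIso_ι_of_eq_top _ hG
  unfold RR
  rw [IsIso.hom_inv_id_assoc, IsIso.hom_inv_id_assoc]

include hr hP hPL in
theorem RR_comp_p : RR q 𝒮 𝒮L u pL chartL r hG ≫ p = q := by
  haveI := isIso_ι_of_eq_top _ hG
  have h := projQMapOn_comp_p u hP hPL r hr
  have h' := ι_pL_RR q 𝒮 𝒮L u pL chartL r hG
  rw [← cancel_epi pL, ← cancel_epi (RelProj.domQ u pL chartL).ι, ← h]
  conv_rhs => rw [← h']
  simp only [Category.assoc]

theorem mem_DU_iff (s : 𝒮.presheaf.obj (op U)) (w : P) (hw : w ∈ p ⁻¹ᵁ U) :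
    w ∈ DU 𝒮 p chart U hU s ↔ zpt p chart U hU w hw ∈ Proj.basicOpen (𝒮.deg U hU) s := by
  constructor
  · rintro ⟨z, hz, hzw⟩
    have : zpt p chart U hU w hw = z := by
      apply (RelProj.emb p chart U hU).isOpenEmbedding.injective
      rw [emb_zpt]
      exact hzw.symm
    rw [this]
    exact hz
  · intro h
    exact ⟨_, h, emb_zpt U hU _ hw⟩

include hr hP hPL in
/-- `RR(pL x') ∈ D_+(s)` iff `x' ∈ D_+(ψ s)` in the chart over an affine `V ⊆ q⁻¹(U)`. -/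
theorem RR_mem_DU_iff {n : ℕ} (hn : 0 < n) (s : 𝒮.presheaf.obj (op U)) (hs : s ∈ 𝒮.deg U hU n)
    (V : X.Opens) (hV : IsAffineOpen V) (hle : V ≤ q ⁻¹ᵁ U) (x' : PL) (hx' : x' ∈ pL ⁻¹ᵁ V) :
    (RR q 𝒮 𝒮L u pL chartL r hG).base (pL.base x') ∈ DU 𝒮 p chart U hU s ↔
      zpt pL chartL V hV x' hx' ∈
        Proj.basicOpen (𝒮L.deg V hV) (u.gradedAt U hU V hV hle s) := by
  have hxG : x' ∈ RelProj.domQ u pL chartL := hG ▸ Opens.mem_top x'
  have e : (RR q 𝒮 𝒮L u pL chartL r hG).base (pL.base x') = r.base ⟨x', hxG⟩ :=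
    congrArg (fun m => m.base ⟨x', hxG⟩) (ι_pL_RR q 𝒮 𝒮L u pL chartL r hG)
  rw [e]
  have hvx : r.base ⟨x', hxG⟩ ∈ p ⁻¹ᵁ U :=
    projQ_mem_preimage u hP hPL _ rfl r hr ⟨x', hxG⟩ U V hle hx'
  rw [mem_DU_iff 𝒮 p chart U hU s _ hvx]
  exact projQ_mem_basicOpen_iff u hPL _ rfl r hr ⟨x', hxG⟩ U hU V hV hle hx' hvx hn hs

include hr hP hPL in
/-- Over an affine `V ⊆ q⁻¹(U) ∩ RR⁻¹(D_+(s))`, `D_+(ψ s)` is all of `Proj 𝒮L(V)`. -/
theorem basicOpen_eq_top {n : ℕ} (hn : 0 < n) (s : 𝒮.presheaf.obj (op U)) (hs : s ∈ 𝒮.deg U hU n)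
    (V : X.Opens) (hV : IsAffineOpen V) (hle : V ≤ q ⁻¹ᵁ U)
    (hVD : V ≤ (RR q 𝒮 𝒮L u pL chartL r hG) ⁻¹ᵁ DU 𝒮 p chart U hU s) :
    Proj.basicOpen (𝒮L.deg V hV) (u.gradedAt U hU V hV hle s) = ⊤ := by
  rw [eq_top_iff]
  intro z _
  have hx' : (RelProj.emb pL chartL V hV).base z ∈ pL ⁻¹ᵁ V := mem_of_emb V hV z
  have h1 := (RR_mem_DU_iff q 𝒮 𝒮L u p chart hP pL chartL hPL r hr hG U hU hn s hs V hV hle _ hx').mp
    (hVD hx')
  rwa [zpt_emb] at h1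

include hr hP hPL in
/-- The preimage of `D_+(s)` lies over `U`. -/
theorem RR_preimage_DU_le (s : 𝒮.presheaf.obj (op U)) :
    (RR q 𝒮 𝒮L u pL chartL r hG) ⁻¹ᵁ DU 𝒮 p chart U hU s ≤ q ⁻¹ᵁ U := by
  intro x hx
  have h1 : (RR q 𝒮 𝒮L u pL chartL r hG).base x ∈ p ⁻¹ᵁ U := DU_le 𝒮 p chart U hU s hx
  have h2 := congrArg (fun m => m.base x) (RR_comp_p q 𝒮 𝒮L u p chart hP pL chartL hPL r hr hG)
  simp only [Scheme.Hom.comp_base, TopCat.coe_comp, Function.comp_apply] at h2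
  show q.base x ∈ U
  rw [← h2]
  exact h1

include hr hP hPL in
/-- Surjectivity of `RR^♯` over `D_+(s)` in terms of the graded algebras, when the preimage `W` of
`D_+(s)` is affine. -/
theorem surjective_app_iff {n : ℕ} (hn : 0 < n) (s : 𝒮.presheaf.obj (op U)) (hs : s ∈ 𝒮.deg U hU n)
    (W : X.Opens) (hW : IsAffineOpen W)
    (e : W = (RR q 𝒮 𝒮L u pL chartL r hG) ⁻¹ᵁ DU 𝒮 p chart U hU s) (hle : W ≤ q ⁻¹ᵁ U) :
    Function.Surjective ((RR q 𝒮 𝒮L u pL chartL r hG).app (DU 𝒮 p chart U hU s)) ↔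
      Function.Surjective (HomogeneousLocalization.Away.map (u.gradedAt U hU W hW hle) s) := by
  rw [← surjective_appLE_iff (RR q 𝒮 𝒮L u pL chartL r hG) (DU 𝒮 p chart U hU s) W e]
  have hβ := βV_bijective 𝒮L pL chartL hPL hn W hW (u.gradedAt U hU W hW hle s)
    ((u.gradedAt U hU W hW hle).map_mem hs)
    (basicOpen_eq_top q 𝒮 𝒮L u p chart hP pL chartL hPL r hr hG U hU hn s hs W hW hle e.le)
  have hpb := pb_bijective (ιU 𝒮 p chart U hU hn s hs) (DU 𝒮 p chart U hU s)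
    (opensRange_ιU 𝒮 p chart U hU hn s hs) (le_preimage_ιU 𝒮 p chart U hU hn s hs)
  have key := appLE_RR q 𝒮 𝒮L u p chart pL chartL hPL r hr hG U hU hn s hs W hW hle e.le
  have key' : ∀ a, (βV 𝒮L W hW (u.gradedAt U hU W hW hle s)).hom
      (((RR q 𝒮 𝒮L u pL chartL r hG).appLE (DU 𝒮 p chart U hU s) W e.le).hom a) =
      HomogeneousLocalization.Away.map (u.gradedAt U hU W hW hle) s
        ((pb (ιU 𝒮 p chart U hU hn s hs) (DU 𝒮 p chart U hU s)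
          (le_preimage_ιU 𝒮 p chart U hU hn s hs)).hom a) := fun a =>
    congrArg (fun m => m.hom a) key
  constructor
  · intro h b
    obtain ⟨t, ht⟩ := hβ.2 b
    obtain ⟨a, ha⟩ := h t
    refine ⟨(pb (ιU 𝒮 p chart U hU hn s hs) (DU 𝒮 p chart U hU s)
      (le_preimage_ιU 𝒮 p chart U hU hn s hs)).hom a, ?_⟩
    rw [← key' a]
    have ha' : ((RR q 𝒮 𝒮L u pL chartL r hG).appLE (DU 𝒮 p chart U hU s) W e.le).hom a = t := ha
    rw [ha', ht]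
  · intro h t
    obtain ⟨c, hc⟩ := h ((βV 𝒮L W hW (u.gradedAt U hU W hW hle s)).hom t)
    obtain ⟨a, rfl⟩ := hpb.2 c
    refine ⟨a, ?_⟩
    apply hβ.1
    exact (key' a).trans hc

end Groth.Agent.LineImmU
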