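import Mathlib
import Groth.Prelude.Def_RelProj4
import Groth.Prelude.Def_Pic
import Groth.Agent.Lib.LineImmU2_helper5
import Groth.Agent.Lib.ProjQLim1_helper5

/-!
# Comparing `r_{L,ψ}` and `r_{L,ψ∘v}` on a standard chart  (helper5)
-/

set_option autoImplicit false
universe u
open AlgebraicGeometry CategoryTheory CategoryTheory.Limits HomogeneousLocalization Opposite TopologicalSpace
open scoped HomogeneousIdeal

noncomputable section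

namespace Groth.Agent.LineImmU

open Groth.Agent.RelProjTN RelProj QcqsLoc Groth.Agent.ProjQ Groth.Agent.ProjQLim Groth.Agent.LineChart
  Groth.Agent.LineImm Groth.Agent.ConeFun Groth.Agent.ProjQComp

section Alg
variable {A B C σ τ υ : Type u} [CommRing A] [SetLike σ A] [AddSubgroupClass σ A]
  [CommRing B] [SetLike τ B] [AddSubgroupClass τ B] [CommRing C] [SetLike υ C] [AddSubgroupClass υ C]
  {𝒜 : ℕ → σ} [GradedRing 𝒜] {ℬ : ℕ → τ} [GradedRing ℬ] {𝒞 : ℕ → υ} [GradedRing 𝒞]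

theorem surjective_awayMap_of_comp (ψ₁₂ : 𝒜 →+*ᵍ 𝒞) (ψ₁ : 𝒜 →+*ᵍ ℬ) (ψ₂ : ℬ →+*ᵍ 𝒞)
    (h : ψ₁₂ = ψ₂.comp ψ₁) (f : A)
    (hs : Function.Surjective ((Away.map ψ₂ (ψ₁ f)).comp (Away.map ψ₁ f))) :
    Function.Surjective (Away.map ψ₁₂ f) := by
  subst h
  rw [Away.map_comp]
  exact hs

end Alg

variable {Y X P PL P' : Scheme.{u}} (q : X ⟶ Y)
  (𝒮 𝒯 : RelProj.QCGrAlg Y) (𝒮L : RelProj.QCGrAlg X)
  (u : RelProj.QGrHom q 𝒮 𝒮L) (v : 𝒯.toQCAlg ⟶ 𝒮.toQCAlg) (hv : RelProj.IsGradedHom v)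
  (u' : RelProj.QGrHom q 𝒯 𝒮L) (hu' : ∀ U : Y.Opens, u'.app U = v.hom.app (op U) ≫ u.app U)
  (p : P ⟶ Y)
  (chart : ∀ (U : Y.Opens) (hU : IsAffineOpen U), (((p ⁻¹ᵁ U : P.Opens) : Scheme.{u}) ≅ Proj (𝒮.deg U hU)))
  (hP : RelProj.IsRelProj 𝒮 p chart)
  (p' : P' ⟶ Y)
  (chart' : ∀ (U : Y.Opens) (hU : IsAffineOpen U), (((p' ⁻¹ᵁ U : P'.Opens) : Scheme.{u}) ≅ Proj (𝒯.deg U hU)))
  (hP' : RelProj.IsRelProj 𝒯 p' chart')
  (pL : PL ⟶ X)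
  (chartL : ∀ (U : X.Opens) (hU : IsAffineOpen U), (((pL ⁻¹ᵁ U : PL.Opens) : Scheme.{u}) ≅ Proj (𝒮L.deg U hU)))
  (hPL : RelProj.IsRelProj 𝒮L pL chartL)
  (r : ((RelProj.domQ u pL chartL : PL.Opens) : Scheme.{u}) ⟶ P)
  (hr : RelProj.IsProjQMapOn u p chart pL chartL (RelProj.domQ u pL chartL) r)
  (hG : RelProj.domQ u pL chartL = ⊤)
  (r' : ((RelProj.domQ u' pL chartL : PL.Opens) : Scheme.{u}) ⟶ P')
  (hr' : RelProj.IsProjQMapOn u' p' chart' pL chartL (RelProj.domQ u' pL chartL) r')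
  (hG' : RelProj.domQ u' pL chartL = ⊤) [IsIso pL]
  (U : Y.Opens) (hU : IsAffineOpen U)

include hv hu' hr hr' hP hP' hPL in
/-- `r'⁻¹(D_+(f')) = r⁻¹(D_+(v f'))`. -/
theorem preimage_eq {n : ℕ} (hn : 0 < n) (f' : 𝒯.presheaf.obj (op U)) (hf' : f' ∈ 𝒯.deg U hU n) :
    (RR q 𝒯 𝒮L u' pL chartL r' hG') ⁻¹ᵁ DU 𝒯 p' chart' U hU f' =
      (RR q 𝒮 𝒮L u pL chartL r hG) ⁻¹ᵁ DU 𝒮 p chart U hU ((v.hom.app (op U)).hom f') := by
  have hvf : (v.hom.app (op U)).hom f' ∈ 𝒮.deg U hU n := hv U hU n f' hf'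
  have key : ∀ x : X, q.base x ∈ U →
      (x ∈ (RR q 𝒯 𝒮L u' pL chartL r' hG') ⁻¹ᵁ DU 𝒯 p' chart' U hU f' ↔
        x ∈ (RR q 𝒮 𝒮L u pL chartL r hG) ⁻¹ᵁ DU 𝒮 p chart U hU ((v.hom.app (op U)).hom f')) := by
    intro x hxU
    obtain ⟨V, hV, hxV, hle⟩ := Opens.isBasis_iff_nbhd.mp X.isBasis_affineOpens
      (show x ∈ q ⁻¹ᵁ U from hxU)
    obtain ⟨x', rfl⟩ := pL.surjective x
    have hx' : x' ∈ pL ⁻¹ᵁ V := hxV
    have h1 := RR_mem_DU_iff q 𝒯 𝒮L u' p' chart' hP' pL chartL hPL r' hr' hG' U hU hn f' hf' V hV hle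
      x' hx'
    have h2 := RR_mem_DU_iff q 𝒮 𝒮L u p chart hP pL chartL hPL r hr hG U hU hn _ hvf V hV hle
      x' hx'
    have h3 : u'.gradedAt U hU V hV hle f' =
        u.gradedAt U hU V hV hle ((v.hom.app (op U)).hom f') :=
      gradedAt_comp u v u' hu' U hU V hV hle f'
    show (RR q 𝒯 𝒮L u' pL chartL r' hG').base (pL.base x') ∈ DU 𝒯 p' chart' U hU f' ↔
      (RR q 𝒮 𝒮L u pL chartL r hG).base (pL.base x') ∈
        DU 𝒮 p chart U hU ((v.hom.app (op U)).hom f')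
    rw [h1, h2, h3]
  ext x
  constructor
  · intro hx
    have hxU : q.base x ∈ U :=
      RR_preimage_DU_le q 𝒯 𝒮L u' p' chart' hP' pL chartL hPL r' hr' hG' U hU f' hx
    exact (key x hxU).mp hx
  · intro hx
    have hxU : q.base x ∈ U :=
      RR_preimage_DU_le q 𝒮 𝒮L u p chart hP pL chartL hPL r hr hG U hU _ hx
    exact (key x hxU).mpr hx

include hu' hr hr' hP hP' hPL in
/-- If the composite `𝒯(U)_(f') → 𝒮(U)_(v f') → 𝒮L(W)_(ψ v f')` is surjective, `W = r⁻¹(D_+(v f'))`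
affine, then `r'^♯` is surjective over `D_+(f')`. -/
theorem surjective_app_of_comp {n : ℕ} (hn : 0 < n) (f' : 𝒯.presheaf.obj (op U))
    (hf' : f' ∈ 𝒯.deg U hU n) (W : X.Opens) (hW : IsAffineOpen W)
    (e : W = (RR q 𝒮 𝒮L u pL chartL r hG) ⁻¹ᵁ DU 𝒮 p chart U hU ((v.hom.app (op U)).hom f'))
    (hle : W ≤ q ⁻¹ᵁ U)
    (hs : Function.Surjective
      ((Away.map (u.gradedAt U hU W hW hle) (RelProj.gradedHomAt v hv U hU f')).comp
        (Away.map (RelProj.gradedHomAt v hv U hU) f'))) :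
    Function.Surjective ((RR q 𝒯 𝒮L u' pL chartL r' hG').app (DU 𝒯 p' chart' U hU f')) := by
  have e' : W = (RR q 𝒯 𝒮L u' pL chartL r' hG') ⁻¹ᵁ DU 𝒯 p' chart' U hU f' :=
    e.trans (preimage_eq q 𝒮 𝒯 𝒮L u v hv u' hu' p chart hP p' chart' hP' pL chartL hPL r hr hG r' hr'
      hG' U hU hn f' hf').symm
  rw [surjective_app_iff q 𝒯 𝒮L u' p' chart' hP' pL chartL hPL r' hr' hG' U hU hn f' hf' W hW e' hle]
  refine surjective_awayMap_of_comp _ (RelProj.gradedHomAt v hv U hU) (u.gradedAt U hU W hW hle) ?_ f' hs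
  apply GradedRingHom.ext
  intro x
  exact gradedAt_comp u v u' hu' U hU W hW hle x

end Groth.Agent.LineImmU
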