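import Mathlib
import Groth.Prelude.Def_RelProj4
import Groth.Prelude.Def_Pic
import Groth.Agent.Lib.ProjMap_helper3

/-!
# Filtered colimits of graded algebras and homogeneous localizations: finite type targets  (helper5)
-/

set_option autoImplicit false
universe u
open AlgebraicGeometry CategoryTheory CategoryTheory.Limits HomogeneousLocalization Opposite TopologicalSpace
open scoped HomogeneousIdeal

noncomputable section

namespace Groth.Agent.LineImmU

open RelProj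

variable {Y : Scheme.{u}} (𝒮 : RelProj.QCGrAlg Y)
  (Λ : Type u) [Preorder Λ]
  (𝒮i : Λ → RelProj.QCGrAlg Y) (φ : ∀ i, (𝒮i i).toQCAlg ⟶ 𝒮.toQCAlg) (hφ : ∀ i, RelProj.IsGradedHom (φ i))
  (t : ∀ i j, i ≤ j → ((𝒮i i).toQCAlg ⟶ (𝒮i j).toQCAlg)) (ht : ∀ i j (h : i ≤ j), RelProj.IsGradedHom (t i j h))
  (hφt : ∀ i j (h : i ≤ j), t i j h ≫ φ j = φ i)
  (U : Y.Opens) (hU : IsAffineOpen U)
  (hsurj : ∀ x : 𝒮.presheaf.obj (op U),
    ∃ (i : Λ) (y : (𝒮i i).presheaf.obj (op U)), ((φ i).hom.app (op U)).hom y = x)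

include hφ hsurj in
theorem exists_homog_lift (d : ℕ) (w : 𝒮.presheaf.obj (op U)) (hw : w ∈ 𝒮.deg U hU d) :
    ∃ (i : Λ) (w' : (𝒮i i).presheaf.obj (op U)), w' ∈ (𝒮i i).deg U hU d ∧
      ((φ i).hom.app (op U)).hom w' = w := by
  classical
  obtain ⟨i, y, hy⟩ := hsurj w
  refine ⟨i, (DirectSum.decompose ((𝒮i i).deg U hU) y d : (𝒮i i).presheaf.obj (op U)),
    SetLike.coe_mem _, ?_⟩
  have h1 : (RelProj.gradedHomAt (φ i) (hφ i) U hU)
      (DirectSum.decompose ((𝒮i i).deg U hU) y d : (𝒮i i).presheaf.obj (op U)) =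
      (DirectSum.decompose (𝒮.deg U hU) ((RelProj.gradedHomAt (φ i) (hφ i) U hU) y) d :
        𝒮.presheaf.obj (op U)) :=
    GradedRingHom.map_directSumDecompose ((𝒮i i).deg U hU) (𝒮.deg U hU)
      (RelProj.gradedHomAt (φ i) (hφ i) U hU)
  have h2 : (RelProj.gradedHomAt (φ i) (hφ i) U hU) y = w := hy
  rw [h2, DirectSum.decompose_of_mem_same _ hw] at h1
  exact h1

include hφ ht hφt hsurj in
theorem exists_homog_lift_ge (d : ℕ) (w : 𝒮.presheaf.obj (op U)) (hw : w ∈ 𝒮.deg U hU d) :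
    ∃ i₀ : Λ, ∀ i, i₀ ≤ i → ∃ (w' : (𝒮i i).presheaf.obj (op U)), w' ∈ (𝒮i i).deg U hU d ∧
      ((φ i).hom.app (op U)).hom w' = w := by
  obtain ⟨i₀, w₀, hw₀, e₀⟩ := exists_homog_lift 𝒮 Λ 𝒮i φ hφ U hU hsurj d w hw
  refine ⟨i₀, fun i hi => ⟨((t i₀ i hi).hom.app (op U)).hom w₀, ht i₀ i hi U hU d w₀ hw₀, ?_⟩⟩
  rw [← e₀]
  have := congrArg (fun ψ => (ψ.hom.app (op U)).hom w₀) (hφt i₀ i hi)
  exact this

variable [IsDirected Λ (· ≤ ·)] [Nonempty Λ]

include hφ ht hφt hsurj in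
/-- The finite-type argument: if `𝒮(U)_(f) ⟶ B` is surjective and `B` is of finite type over `O(U)`,
then for all large `i` the elements coming from `𝒮^i(U)` already map onto `B`. -/
theorem exists_forall_ge_surj {n : ℕ} (f : 𝒮.presheaf.obj (op U)) (hf : f ∈ 𝒮.deg U hU n)
    {B : Type u} [CommRing B] (π : Away (𝒮.deg U hU) f →+* B) (hπ : Function.Surjective π)
    (a : Γ(Y, U) →+* B) (ha : a.FiniteType)
    (hcompat : ∀ r, π (fromZeroRingHom (𝒮.deg U hU) _ ((𝒮.strZero U hU).hom r)) = a r) :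
    ∃ i₁ : Λ, ∀ i, i₁ ≤ i → ∃ (f' : (𝒮i i).presheaf.obj (op U)) (_ : f' ∈ (𝒮i i).deg U hU n),
      ((φ i).hom.app (op U)).hom f' = f ∧
      ∀ b : B, ∃ (m : ℕ) (w' : (𝒮i i).presheaf.obj (op U)) (hw' : w' ∈ (𝒮i i).deg U hU (m • n)),
        π (Away.mk (𝒮.deg U hU) hf m (((φ i).hom.app (op U)).hom w') (hφ i U hU _ _ hw')) = b := by
  classical
  letI := a.toAlgebra
  obtain ⟨s, hs⟩ := (show Algebra.FiniteType Γ(Y, U) B from ha).out
  -- lifts of the generators
  have hx : ∀ b : B, ∃ (m : ℕ) (w : 𝒮.presheaf.obj (op U)) (hw : w ∈ 𝒮.deg U hU (m • n)),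
      π (Away.mk (𝒮.deg U hU) hf m w hw) = b := by
    intro b
    obtain ⟨x, rfl⟩ := hπ b
    obtain ⟨m, w, hw, rfl⟩ := Away.mk_surjective (𝒮.deg U hU) hf x
    exact ⟨m, w, hw, rfl⟩
  choose mb wb hwb hπb using hx
  have hlift : ∀ b : B, ∃ i₀ : Λ, ∀ i, i₀ ≤ i → ∃ (w' : (𝒮i i).presheaf.obj (op U)),
      w' ∈ (𝒮i i).deg U hU (mb b • n) ∧ ((φ i).hom.app (op U)).hom w' = wb b := fun b =>
    exists_homog_lift_ge 𝒮 Λ 𝒮i φ hφ t ht hφt U hU hsurj _ _ (hwb b)
  choose ib hib using hlift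
  obtain ⟨i_f, hi_f⟩ := exists_homog_lift_ge 𝒮 Λ 𝒮i φ hφ t ht hφt U hU hsurj n f hf
  obtain ⟨i₂, hi₂⟩ := Finset.exists_le (s.image ib)
  obtain ⟨i₁, h1, h2⟩ := directed_of (· ≤ ·) i_f i₂
  refine ⟨i₁, fun i hi => ?_⟩
  obtain ⟨f', hf', e⟩ := hi_f i (h1.trans hi)
  refine ⟨f', hf', e, ?_⟩
  subst e
  -- the ring homomorphism from level `i`
  set ρ : Away ((𝒮i i).deg U hU) f' →+* B :=
    π.comp (Away.map (RelProj.gradedHomAt (φ i) (hφ i) U hU) f') with hρ
  have hρmk : ∀ (m : ℕ) (w' : (𝒮i i).presheaf.obj (op U)) (hw' : w' ∈ (𝒮i i).deg U hU (m • n)),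
      ρ (Away.mk ((𝒮i i).deg U hU) hf' m w' hw') =
        π (Away.mk (𝒮.deg U hU) hf m (((φ i).hom.app (op U)).hom w') (hφ i U hU _ _ hw')) := by
    intro m w' hw'
    rw [hρ, RingHom.comp_apply]
    exact congrArg π (Away.map_mk (RelProj.gradedHomAt (φ i) (hφ i) U hU) f' hf' m w' hw')
  have hρsurj : Function.Surjective ρ := by
    -- the range of `ρ` is a subalgebra containing the generators
    let S : Subalgebra Γ(Y, U) B :=
      { ρ.range with
        algebraMap_mem' := by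
          intro r
          refine ⟨fromZeroRingHom ((𝒮i i).deg U hU) _ (((𝒮i i).strZero U hU).hom r), ?_⟩
          have h3 := congrArg (fun ψ => ψ (((𝒮i i).strZero U hU).hom r))
            (Groth.Agent.Lib.ProjMap_helper3.away_map_comp_fromZero ((𝒮i i).deg U hU) (𝒮.deg U hU)
              (RelProj.gradedHomAt (φ i) (hφ i) U hU) f')
          simp only [RingHom.comp_apply] at h3
          rw [hρ, RingHom.comp_apply]
          refine (congrArg π h3).trans ?_
          have h4 : (RelProj.gradedHomAt (φ i) (hφ i) U hU).gradedZeroRingHom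
              (((𝒮i i).strZero U hU).hom r) = (𝒮.strZero U hU).hom r := by
            apply Subtype.ext
            show ((φ i).hom.app (op U)).hom (((𝒮i i).str.app (op U)).hom r) =
              (𝒮.str.app (op U)).hom r
            have := congrArg (fun ψ => (ψ.app (op U)).hom r) (φ i).comm
            exact this
          rw [h4]
          exact hcompat r }
    have hsS : (s : Set B) ⊆ S := by
      intro b hb
      have hib' : ib b ≤ i := (hi₂ _ (Finset.mem_image_of_mem ib hb)).trans (h2.trans hi)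
      obtain ⟨w', hw', ew⟩ := hib b i hib'
      refine ⟨Away.mk ((𝒮i i).deg U hU) hf' (mb b) w' hw', ?_⟩
      refine (hρmk _ _ _).trans (Eq.trans ?_ (hπb b))
      congr 1
      rw [HomogeneousLocalization.ext_iff_val, Away.val_mk, Away.val_mk, ew]
    have hS : S = ⊤ := top_le_iff.mp (hs ▸ Algebra.adjoin_le hsS)
    intro b
    have : b ∈ S := hS ▸ Algebra.mem_top
    exact this
  intro b
  obtain ⟨y, rfl⟩ := hρsurj b
  obtain ⟨m, w', hw', rfl⟩ := Away.mk_surjective ((𝒮i i).deg U hU) hf' y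
  exact ⟨m, w', hw', (hρmk m w' hw').symm⟩

end Groth.Agent.LineImmU
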