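import Mathlib
import Groth.Prelude.Def_RelProj4
import Groth.Prelude.Def_Pic
import Groth.Agent.Lib.LineImmU3_helper5
import Groth.Agent.Lib.LineImmU4_helper5

/-!
# The chartwise step of EGA II 3.8.5: an immersion `r_{L,ψ}` descends to a finite level  (helper5)
-/

set_option autoImplicit false
universe u
open AlgebraicGeometry CategoryTheory CategoryTheory.Limits HomogeneousLocalization Opposite TopologicalSpace
open scoped HomogeneousIdeal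

noncomputable section

namespace Groth.Agent.LineImmU

open Groth.Agent.RelProjTN RelProj QcqsLoc Groth.Agent.ProjQ Groth.Agent.ProjQLim Groth.Agent.LineChart
  Groth.Agent.LineImm Groth.Agent.ConeFun Groth.Agent.ProjQComp

variable {Y X P PL : Scheme.{u}} (q : X ⟶ Y)
  (𝒮 : RelProj.QCGrAlg Y) (𝒮L : RelProj.QCGrAlg X)
  (u : RelProj.QGrHom q 𝒮 𝒮L)
  (p : P ⟶ Y)
  (chart : ∀ (U : Y.Opens) (hU : IsAffineOpen U), (((p ⁻¹ᵁ U : P.Opens) : Scheme.{u}) ≅ Proj (𝒮.deg U hU)))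
  (hP : RelProj.IsRelProj 𝒮 p chart)
  (pL : PL ⟶ X)
  (chartL : ∀ (U : X.Opens) (hU : IsAffineOpen U), (((pL ⁻¹ᵁ U : PL.Opens) : Scheme.{u}) ≅ Proj (𝒮L.deg U hU)))
  (hPL : RelProj.IsRelProj 𝒮L pL chartL)
  [LocallyOfFiniteType q]
  (r : ((RelProj.domQ u pL chartL : PL.Opens) : Scheme.{u}) ⟶ P)
  (hr : RelProj.IsProjQMapOn u p chart pL chartL (RelProj.domQ u pL chartL) r)
  (hG : RelProj.domQ u pL chartL = ⊤) [IsIso pL]
  (Λ : Type u) [Preorder Λ] [IsDirected Λ (· ≤ ·)] [Nonempty Λ]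
  (𝒮i : Λ → RelProj.QCGrAlg Y) (φ : ∀ i, (𝒮i i).toQCAlg ⟶ 𝒮.toQCAlg) (hφ : ∀ i, RelProj.IsGradedHom (φ i))
  (t : ∀ i j, i ≤ j → ((𝒮i i).toQCAlg ⟶ (𝒮i j).toQCAlg)) (ht : ∀ i j (h : i ≤ j), RelProj.IsGradedHom (t i j h))
  (hφt : ∀ i j (h : i ≤ j), t i j h ≫ φ j = φ i)
  (hsurj : ∀ (U : Y.Opens), IsAffineOpen U → ∀ x : 𝒮.presheaf.obj (op U),
    ∃ (i : Λ) (y : (𝒮i i).presheaf.obj (op U)), ((φ i).hom.app (op U)).hom y = x)
  (ui : ∀ i, RelProj.QGrHom q (𝒮i i) 𝒮L) (hui : ∀ i (U : Y.Opens), (ui i).app U = (φ i).hom.app (op U) ≫ u.app U)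
  (Pi : Λ → Scheme.{u}) (pi : ∀ i, Pi i ⟶ Y)
  (charti : ∀ i (U : Y.Opens) (hU : IsAffineOpen U), ((((pi i) ⁻¹ᵁ U : (Pi i).Opens) : Scheme.{u}) ≅ Proj ((𝒮i i).deg U hU)))
  (hPi : ∀ i, RelProj.IsRelProj (𝒮i i) (pi i) (charti i))
  (ri : ∀ i, ((RelProj.domQ (ui i) pL chartL : PL.Opens) : Scheme.{u}) ⟶ Pi i)
  (hri : ∀ i, RelProj.IsProjQMapOn (ui i) (pi i) (charti i) pL chartL (RelProj.domQ (ui i) pL chartL) (ri i))
  (U : Y.Opens) (hU : IsAffineOpen U)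

include hP hPL hr hφ ht hφt hsurj hui hPi hri in
theorem per_chart {n : ℕ} (hn : 0 < n) (f : 𝒮.presheaf.obj (op U)) (hf : f ∈ 𝒮.deg U hU n)
    (W : X.Opens) (hW : IsAffineOpen W)
    (e : W = (RR q 𝒮 𝒮L u pL chartL r hG) ⁻¹ᵁ DU 𝒮 p chart U hU f)
    (hsurjR : Function.Surjective ((RR q 𝒮 𝒮L u pL chartL r hG).app (DU 𝒮 p chart U hU f))) :
    ∃ i₁ : Λ, ∀ i, i₁ ≤ i → ∀ hGi : RelProj.domQ (ui i) pL chartL = ⊤,
      ∃ (f' : (𝒮i i).presheaf.obj (op U)) (_ : f' ∈ (𝒮i i).deg U hU n),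
        (RR q (𝒮i i) 𝒮L (ui i) pL chartL (ri i) hGi) ⁻¹ᵁ DU (𝒮i i) (pi i) (charti i) U hU f' = W ∧
        Function.Surjective
          ((RR q (𝒮i i) 𝒮L (ui i) pL chartL (ri i) hGi).app (DU (𝒮i i) (pi i) (charti i) U hU f')) := by
  have hle : W ≤ q ⁻¹ᵁ U :=
    e.le.trans (RR_preimage_DU_le q 𝒮 𝒮L u p chart hP pL chartL hPL r hr hG U hU f)
  have hπ : Function.Surjective (Away.map (u.gradedAt U hU W hW hle) f) :=
    (surjective_app_iff q 𝒮 𝒮L u p chart hP pL chartL hPL r hr hG U hU hn f hf W hW e hle).mp hsurjR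
  have hβ := βV_bijective 𝒮L pL chartL hPL hn W hW (u.gradedAt U hU W hW hle f)
    ((u.gradedAt U hU W hW hle).map_mem hf)
    (basicOpen_eq_top q 𝒮 𝒮L u p chart hP pL chartL hPL r hr hG U hU hn f hf W hW hle e.le)
  have ha : ((βV 𝒮L W hW (u.gradedAt U hU W hW hle f)).hom.comp (q.appLE U W hle).hom).FiniteType :=
    RingHom.FiniteType.comp (RingHom.FiniteType.of_surjective _ hβ.2)
      (LocallyOfFiniteType.finiteType_appLE q hU hW hle)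
  have hcompat : ∀ r', Away.map (u.gradedAt U hU W hW hle) f
      (fromZeroRingHom (𝒮.deg U hU) _ ((𝒮.strZero U hU).hom r')) =
      ((βV 𝒮L W hW (u.gradedAt U hU W hW hle f)).hom.comp (q.appLE U W hle).hom) r' := by
    intro r'
    have h3 := congrArg (fun ψ => ψ ((𝒮.strZero U hU).hom r'))
      (Groth.Agent.Lib.ProjMap_helper3.away_map_comp_fromZero (𝒮.deg U hU) (𝒮L.deg W hW)
        (u.gradedAt U hU W hW hle) f)
    simp only [RingHom.comp_apply] at h3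
    refine h3.trans ?_
    have h4 := congrArg (fun ψ => ψ.hom r') (strZero_gradedAt u U hU W hW hle)
    simp only [CommRingCat.hom_comp, RingHom.comp_apply, CommRingCat.hom_ofHom] at h4
    rw [h4]
    rfl
  obtain ⟨i₁, hi₁⟩ := exists_forall_ge_surj 𝒮 Λ 𝒮i φ hφ t ht hφt U hU (hsurj U hU) f hf
    (Away.map (u.gradedAt U hU W hW hle) f) hπ _ ha hcompat
  refine ⟨i₁, fun i hi hGi => ?_⟩
  obtain ⟨f', hf', ef, hel⟩ := hi₁ i hi
  subst ef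
  have e' : W = (RR q 𝒮 𝒮L u pL chartL r hG) ⁻¹ᵁ
      DU 𝒮 p chart U hU (((φ i).hom.app (op U)).hom f') := e
  refine ⟨f', hf', ?_, ?_⟩
  · rw [preimage_eq q 𝒮 (𝒮i i) 𝒮L u (φ i) (hφ i) (ui i) (hui i) p chart hP (pi i) (charti i) (hPi i)
      pL chartL hPL r hr hG (ri i) (hri i) hGi U hU hn f' hf']
    exact e'.symm
  · refine surjective_app_of_comp q 𝒮 (𝒮i i) 𝒮L u (φ i) (hφ i) (ui i) (hui i) p chart hP (pi i)
      (charti i) (hPi i) pL chartL hPL r hr hG (ri i) (hri i) hGi U hU hn f' hf' W hW e' hle ?_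
    intro b
    obtain ⟨m, w', hw', hb⟩ := hel b
    refine ⟨Away.mk ((𝒮i i).deg U hU) hf' m w' hw', ?_⟩
    rw [RingHom.comp_apply]
    refine Eq.trans ?_ hb
    exact congrArg _ (Away.map_mk (RelProj.gradedHomAt (φ i) (hφ i) U hU) f' hf' m w' hw')

end Groth.Agent.LineImmU
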