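import Mathlib
import Groth.Prelude
import Groth.Agent.Lib.VA91b_helper5
import Groth.Agent.Lib.VA44_helper5

/-!
# Complements to `VA91`: the irrelevant-ideal condition from stalkwise surjectivity, and equality of
graded `q`-morphisms out of a symmetric algebra  (helper5).  APPEND-ONLY once landed.
-/

set_option autoImplicit false
universe u
open CategoryTheory AlgebraicGeometry TopologicalSpace Opposite
open scoped HomogeneousIdeal

noncomputable section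

namespace Groth.Agent.VA91

open QcqsLoc QCohExtn QCAlgMod Groth.Agent.SymAlg Groth.Agent.SymSum Groth.Agent.SymGr
  Groth.Agent.PBProj Scheme.Modules

section Hirr
variable {X Y : Scheme.{u}} (f : X ⟶ Y) (𝒜 : RelProj.QCGrAlg Y) (𝒮L : RelProj.QCGrAlg X)
  (u : RelProj.QGrHom f 𝒜 𝒮L)
  (L : X.Modules) [L.IsQuasicoherent] (jL : L ⟶ 𝒮L.toModule)
  (hjL : RelProj.IsGrSymAlg L 𝒮L jL)
  (hsurj : ∀ x : X, ∃ (U : Y.Opens) (hU : IsAffineOpen U) (e : 𝒜.presheaf.obj (op U))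
    (_ : e ∈ 𝒜.deg U hU 1) (V : X.Opens) (hV : IsAffineOpen V) (hVU : V ≤ f ⁻¹ᵁ U), x ∈ V ∧
      ((𝒮L.deg V hV 1 : AddSubgroup (𝒮L.presheaf.obj (op V))) : Set (𝒮L.presheaf.obj (op V))) ⊆
        (Ideal.span {(u.appLE U V hVU).hom e} : Set (𝒮L.presheaf.obj (op V))))

include hjL hsurj in
/-- Stalkwise surjectivity in degree one gives the irrelevant-ideal condition on all affine pairs. -/
theorem hirr_of_hsurj (U : Y.Opens) (hU : IsAffineOpen U) (V : X.Opens) (hV : IsAffineOpen V)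
    (hle : V ≤ f ⁻¹ᵁ U) :
    (𝒮L.deg V hV)₊ ≤ ((𝒜.deg U hU)₊).map (u.gradedAt U hU V hV hle) := by
  haveI := isQuasicoherent_degMod 𝒜 1
  show ((𝒮L.deg V hV)₊).toIdeal ≤ Ideal.map _ ((𝒜.deg U hU)₊).toIdeal
  refine (j'_span f 𝒜 𝒮L u L jL hjL hsurj V hV).trans ?_
  rw [Ideal.span_le]
  rintro _ ⟨m, rfl⟩
  have hm : m ∈ Submodule.span Γ(X, V) (Set.range (PBH8.cUV f (degMod 𝒜 1) hle)) := by
    rw [PBH8.span_cUV f (degMod 𝒜 1) hV hU hle]; trivial
  induction hm using Submodule.span_induction with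
  | mem x hx =>
    obtain ⟨e, rfl⟩ := hx
    show toB 𝒮L.toQCAlg (QCohExtn.ap (j' f 𝒜 𝒮L u) V (PBH8.cUV f (degMod 𝒜 1) hle e)) ∈ _
    rw [j'_cUV]
    exact Ideal.mem_map_of_mem (u.gradedAt U hU V hV hle)
      (HomogeneousIdeal.mem_irrelevant_of_mem _ one_pos (degι_mem 𝒜 1 U hU e))
  | zero =>
    show jAdd _ 𝒮L.toQCAlg (j' f 𝒜 𝒮L u) V 0 ∈ _
    rw [map_zero]
    exact zero_mem _
  | add x y _ _ hx hy =>
    show jAdd _ 𝒮L.toQCAlg (j' f 𝒜 𝒮L u) V (x + y) ∈ _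
    rw [map_add]
    exact add_mem hx hy
  | smul a x _ hx =>
    show jAdd _ 𝒮L.toQCAlg (j' f 𝒜 𝒮L u) V (a • x) ∈ _
    rw [jAdd_smul]
    exact Ideal.mul_mem_left _ _ hx

end Hirr

section Gen
variable {X Y : Scheme.{u}} (q : X ⟶ Y) (E : Y.Modules) [E.IsQuasicoherent]
  (𝒮E : RelProj.QCGrAlg Y) (jE : E ⟶ 𝒮E.toModule) (hjE : RelProj.IsGrSymAlg E 𝒮E jE)
  (𝒯 : RelProj.QCGrAlg Y) (𝒮L : RelProj.QCGrAlg X) (u : RelProj.QGrHom q 𝒯 𝒮L)
  (v : 𝒮E.toQCAlg ⟶ 𝒯.toQCAlg) (u' : RelProj.QGrHom q 𝒮E 𝒮L)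

include hjE in
/-- A graded `q`-morphism out of `Sym(E)` equals a composite `u ∘ v` as soon as they agree on `E`. -/
theorem app_eq_comp_of_gen
    (hgen : ∀ (U : Y.Opens) (m : Γ(E, U)), (u'.app U).hom (jAdd E 𝒮E.toQCAlg jE U m) =
      (u.app U).hom ((v.hom.app (op U)).hom (jAdd E 𝒮E.toQCAlg jE U m))) (U : Y.Opens) :
    u'.app U = v.hom.app (op U) ≫ u.app U := by
  have hvstr : ∀ (U : Y.Opens) (a : Γ(Y, U)),
      (v.hom.app (op U)).hom ((𝒮E.str.app (op U)).hom a) = (𝒯.str.app (op U)).hom a := by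
    intro U a
    have h0 := NatTrans.congr_app v.comm (op U)
    rw [NatTrans.comp_app] at h0
    exact congrArg (fun ψ => ψ.hom a) h0
  refine Groth.Agent.VA44.app_ext_of_affine q 𝒮L.toQCAlg 𝒮E.toQCAlg
    (fun U => u'.app U) (fun U => v.hom.app (op U) ≫ u.app U)
    (fun i => u'.naturality i) (fun {U V} i => ?_) (fun U hU => ?_) U
  · rw [Category.assoc, u.naturality i, ← Category.assoc, ← Category.assoc]
    congr 1
    exact (v.hom.naturality (homOfLE i).op).symm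
  · refine CommRingCat.hom_ext (Groth.Agent.VA44.ringHom_ext_of_gen E 𝒮E jE hjE U hU _ _
      (fun a => ?_) (fun m => ?_))
    · have h1 := congrArg (fun f => f.hom a) (u'.toQHom.str_app U)
      have h2 := congrArg (fun f => f.hom a) (u.toQHom.str_app U)
      simp only [CommRingCat.hom_comp, RingHom.comp_apply] at h1 h2
      rw [CommRingCat.hom_comp, RingHom.comp_apply, hvstr]
      exact h1.trans h2.symm
    · rw [CommRingCat.hom_comp, RingHom.comp_apply]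
      exact hgen U m

end Gen

end Groth.Agent.VA91
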