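import Mathlib
import Groth.Prelude
import Groth.Agent.Lib.FTSys2_helper5
import Groth.Agent.Lib.Lim161_helper5
import Groth.Agent.Lib.VA91c_helper5
import Groth.Agent.Lib.RelProjEx4_helper5

/-!
# EGA II 4.4.? : an immersion `r_{L,φ} : X ⟶ P(F)` comes from a quasi-coherent submodule of finite
type `E ⊆ F`  (helper5).  APPEND-ONLY once landed.
-/

set_option autoImplicit false
universe u
open CategoryTheory CategoryTheory.Limits AlgebraicGeometry TopologicalSpace Opposite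
open scoped HomogeneousIdeal

noncomputable section

namespace Groth.Agent.FTSys

open QcqsLoc QCohExtn QCAlgMod Groth.Agent.SymAlg Groth.Agent.SymSum Groth.Agent.SymGr

/-- **EGA II 4.4.? (⟹)**. -/
theorem exists_ft_sub_of_isImmersion {X Y P PL : Scheme.{u}} (q : X ⟶ Y) [QuasiCompact q]
    [LocallyOfFiniteType q] [CompactSpace Y] [QuasiSeparatedSpace Y]
    (L : X.Modules) (hL : PicF.IsInvertible L) (hLq : Coh.IsQCoh L)
    (𝒮L : RelProj.QCGrAlg X) (jL : L ⟶ 𝒮L.toModule) (hjL : RelProj.IsGrSymAlg L 𝒮L jL)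
    (pL : PL ⟶ X)
    (chartL : ∀ (U : X.Opens) (hU : IsAffineOpen U),
      (((pL ⁻¹ᵁ U : PL.Opens) : Scheme.{u}) ≅ Proj (𝒮L.deg U hU)))
    (hPL : RelProj.IsRelProj 𝒮L pL chartL)
    (F : Y.Modules) (hFq : Coh.IsQCoh F) (𝒯 : RelProj.QCGrAlg Y) (jF : F ⟶ 𝒯.toModule)
    (h𝒯 : RelProj.IsGrSymAlg F 𝒯 jF)
    (u : RelProj.QGrHom q 𝒯 𝒮L)
    (hsurj : ∀ x : X, ∃ (U : Y.Opens) (hU : IsAffineOpen U) (e : Γ(F, U)) (V : X.Opens)
        (hV : IsAffineOpen V) (hVU : V ≤ q ⁻¹ᵁ U), x ∈ V ∧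
          ((𝒮L.deg V hV 1 : AddSubgroup (𝒮L.presheaf.obj (op V))) :
            Set (𝒮L.presheaf.obj (op V))) ⊆
              (Ideal.span {(u.appLE U V hVU).hom ((jF.app U) e)} :
                Set (𝒮L.presheaf.obj (op V))))
    (p : P ⟶ Y)
    (chart : ∀ (U : Y.Opens) (hU : IsAffineOpen U),
      (((p ⁻¹ᵁ U : P.Opens) : Scheme.{u}) ≅ Proj (𝒯.deg U hU)))
    (hP : RelProj.IsRelProj 𝒯 p chart)
    (r : ((RelProj.domQ u pL chartL : PL.Opens) : Scheme.{u}) ⟶ P)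
    (hr : RelProj.IsProjQMapOn u p chart pL chartL (RelProj.domQ u pL chartL) r)
    (himm : IsImmersion r) :
    ∃ (E : Y.Modules) (_ : Coh.IsQCoh E) (_ : CohB1.IsFT E) (ι : E ⟶ F)
      (_ : ∀ U : Y.Opens, Function.Injective (ι.app U))
      (𝒯' : RelProj.QCGrAlg Y) (jE : E ⟶ 𝒯'.toModule) (_ : RelProj.IsGrSymAlg E 𝒯' jE)
      (u' : RelProj.QGrHom q 𝒯' 𝒮L)
      (_ : ∀ (U : Y.Opens) (x : Γ(E, U)), (u'.app U).hom ((jE.app U) x) =
        (u.app U).hom ((jF.app U) ((ι.app U) x))),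
      (∀ x : X, ∃ (U : Y.Opens) (hU : IsAffineOpen U) (e : Γ(E, U)) (V : X.Opens)
          (hV : IsAffineOpen V) (hVU : V ≤ q ⁻¹ᵁ U), x ∈ V ∧
            ((𝒮L.deg V hV 1 : AddSubgroup (𝒮L.presheaf.obj (op V))) :
              Set (𝒮L.presheaf.obj (op V))) ⊆
            (Ideal.span {(u'.appLE U V hVU).hom ((jE.app U) e)} :
              Set (𝒮L.presheaf.obj (op V)))) ∧
      ∀ (P' : Scheme.{u}) (p' : P' ⟶ Y)
          (chart' : ∀ (U : Y.Opens) (hU : IsAffineOpen U),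
            (((p' ⁻¹ᵁ U : P'.Opens) : Scheme.{u}) ≅ Proj (𝒯'.deg U hU)))
          (_ : RelProj.IsRelProj 𝒯' p' chart')
          (r' : ((RelProj.domQ u' pL chartL : PL.Opens) : Scheme.{u}) ⟶ P')
          (_ : RelProj.IsProjQMapOn u' p' chart' pL chartL (RelProj.domQ u' pL chartL) r'),
        RelProj.domQ u' pL chartL = ⊤ ∧ IsImmersion r' := by
  classical
  haveI : L.IsQuasicoherent := hLq
  haveI : F.IsQuasicoherent := hFq
  have hdir : IsDirected (Idx F) (· ≤ ·) := inferInstance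
  have hsurjA : ∀ x : X, ∃ (U : Y.Opens) (hU : IsAffineOpen U) (e : 𝒯.presheaf.obj (op U))
      (_ : e ∈ 𝒯.deg U hU 1) (V : X.Opens) (hV : IsAffineOpen V) (hVU : V ≤ q ⁻¹ᵁ U), x ∈ V ∧
        ((𝒮L.deg V hV 1 : AddSubgroup (𝒮L.presheaf.obj (op V))) :
          Set (𝒮L.presheaf.obj (op V))) ⊆
          (Ideal.span {(u.appLE U V hVU).hom e} : Set (𝒮L.presheaf.obj (op V))) := by
    intro x
    obtain ⟨U, hU, e, V, hV, hVU, hx, hsp⟩ := hsurj x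
    exact ⟨U, hU, (jF.app U) e, h𝒯.2 U hU e, V, hV, hVU, hx, hsp⟩
  have hirr := Groth.Agent.VA91.hirr_of_hsurj q 𝒯 𝒮L u L jL hjL hsurjA
  have hdom : RelProj.domQ u pL chartL = ⊤ := Groth.Agent.UPB.domQ_eq_top_of_hirr u hirr
  -- models of the relative Proj's
  have hmod : ∀ a : Idx F, ∃ (Pa : Scheme.{u}) (pa : Pa ⟶ Y)
      (charta : ∀ (U : Y.Opens) (hU : IsAffineOpen U),
        (((pa ⁻¹ᵁ U : Pa.Opens) : Scheme.{u}) ≅ Proj ((symA a).deg U hU)))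
      (_ : RelProj.IsRelProj (symA a) pa charta)
      (ra : ((RelProj.domQ (Groth.Agent.ConeFun.preComp (symφ 𝒯 jF h𝒯 a)
        (symφ_graded 𝒯 jF h𝒯 a) u) pL chartL : PL.Opens) : Scheme.{u}) ⟶ Pa),
      RelProj.IsProjQMapOn (Groth.Agent.ConeFun.preComp (symφ 𝒯 jF h𝒯 a)
        (symφ_graded 𝒯 jF h𝒯 a) u) pa charta pL chartL
        (RelProj.domQ (Groth.Agent.ConeFun.preComp (symφ 𝒯 jF h𝒯 a)
          (symφ_graded 𝒯 jF h𝒯 a) u) pL chartL) ra := by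
    intro a
    obtain ⟨Pa, pa, charta, hPa⟩ := Groth.Agent.RelProjEx.exists_relProj (symA a)
    obtain ⟨ra, hra⟩ := Groth.Agent.ProjQ.exists_projQMapOn
      (Groth.Agent.ConeFun.preComp (symφ 𝒯 jF h𝒯 a) (symφ_graded 𝒯 jF h𝒯 a) u) hPa hPL
    exact ⟨Pa, pa, charta, hPa, ra, hra⟩
  choose Pi pi charti hPi ri hri using hmod
  have hmain := Groth.Agent.Lim161.main q L hL hLq 𝒯 𝒮L jL hjL u p chart hP pL chartL hPL r hr
    (Idx F) symA (fun a => symφ 𝒯 jF h𝒯 a) (fun a => symφ_graded 𝒯 jF h𝒯 a)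
    (fun i j h => symT h) (fun i j h => symT_graded h) (fun i j h => symT_φ 𝒯 jF h𝒯 h)
    (fun U hU x => exists_symφ_eq 𝒯 jF h𝒯 U hU x)
    (fun a => Groth.Agent.ConeFun.preComp (symφ 𝒯 jF h𝒯 a) (symφ_graded 𝒯 jF h𝒯 a) u)
    (fun i U => rfl) Pi pi charti hPi ri hri
  obtain ⟨i₀, hi₀⟩ := hmain.1.mp ⟨hdom, himm⟩
  -- a finite cover of `X`
  haveI : CompactSpace X := QuasiCompact.compactSpace_of_compactSpace q
  choose Ux hUx ex Vx hVx hVUx hxV hspx using hsurj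
  obtain ⟨T, hT⟩ := isCompact_univ.elim_finite_subcover
    (fun x : X => ((Vx x : X.Opens) : Set X)) (fun x => (Vx x).isOpen)
    (fun x _ => Set.mem_iUnion.mpr ⟨x, hxV x⟩)
  have hidx : ∀ x : X, ∃ (a : Idx F) (g : Γ(sub a, Ux x)), ap (inc a) (Ux x) g = ex x :=
    fun x => exists_mem (hUx x) (ex x)
  choose ax gx hgx using hidx
  obtain ⟨i₂, hi₂⟩ := Finset.exists_le (T.image ax)
  obtain ⟨l, hl0, hl2⟩ := hdir.directed i₀ i₂
  have hgood := hmain.2 i₀ hi₀ l hl0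
  refine ⟨sub l, isQuasicoherent_sub l, isFiniteType_sub l, inc l, fun U => inc_injective l U,
    symA l, symJ l, symH l,
    Groth.Agent.ConeFun.preComp (symφ 𝒯 jF h𝒯 l) (symφ_graded 𝒯 jF h𝒯 l) u, ?_, ?_, ?_⟩
  · intro U x
    exact congrArg (u.app U).hom (symφ_j 𝒯 jF h𝒯 l U x)
  · intro x
    obtain ⟨x₀, hx₀⟩ := Set.mem_iUnion.mp (hT (Set.mem_univ x))
    obtain ⟨hx₀T, hxV₀⟩ := Set.mem_iUnion.mp hx₀
    have hle : ax x₀ ≤ l := (hi₂ _ (Finset.mem_image_of_mem ax hx₀T)).trans hl2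
    have hmem : ex x₀ ∈ l.1 (Ux x₀) := hle (Ux x₀) (by
      rw [range_inc]; exact ⟨gx x₀, hgx x₀⟩)
    rw [range_inc] at hmem
    obtain ⟨e', he'⟩ := hmem
    refine ⟨Ux x₀, hUx x₀, e', Vx x₀, hVx x₀, hVUx x₀, hxV₀, ?_⟩
    have h1 : ((Groth.Agent.ConeFun.preComp (symφ 𝒯 jF h𝒯 l) (symφ_graded 𝒯 jF h𝒯 l) u).appLE
        (Ux x₀) (Vx x₀) (hVUx x₀)).hom (((symJ l).app (Ux x₀)) e') =
        (u.appLE (Ux x₀) (Vx x₀) (hVUx x₀)).hom ((jF.app (Ux x₀)) (ex x₀)) := by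
      show (𝒮L.presheaf.map (homOfLE (hVUx x₀)).op).hom ((u.app (Ux x₀)).hom
        (((symφ 𝒯 jF h𝒯 l).hom.app (op (Ux x₀))).hom
          (jAdd (sub l) (symA l).toQCAlg (symJ l) (Ux x₀) e'))) = _
      rw [symφ_j, he']
      rfl
    rw [h1]
    exact hspx x₀
  · intro P' p' chart' hP' r' hr'
    exact Groth.Agent.S12153.result q L hL hLq (symA l) 𝒮L jL hjL
      (Groth.Agent.ConeFun.preComp (symφ 𝒯 jF h𝒯 l) (symφ_graded 𝒯 jF h𝒯 l) u) p' chart' hP'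
      pL chartL hPL r' hr' (symA l) (𝟙 _) (fun U hU d x hx => hx)
      (Groth.Agent.ConeFun.preComp (symφ 𝒯 jF h𝒯 l) (symφ_graded 𝒯 jF h𝒯 l) u)
      (fun U => (Category.id_comp _).symm) (pi l) (charti l) (hPi l) (ri l) (hri l)
      hgood.1 hgood.2

end Groth.Agent.FTSys
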