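import Mathlib
import Groth.Prelude
import Groth.Agent.Lib.VA91c_helper5
import Groth.Agent.Lib.LineChart3_helper5
import Groth.Agent.Lib.ProjQ5_helper5

/-!
# `G(u) = P_L` gives stalkwise surjectivity in degree one, for `u : Sym(F) ⟶ q_* Sym(L)`  (helper5).
APPEND-ONLY once landed.
-/

set_option autoImplicit false
universe u
open CategoryTheory AlgebraicGeometry TopologicalSpace Opposite
open scoped HomogeneousIdeal

noncomputable section

namespace Groth.Agent.VA91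

open QcqsLoc QCohExtn QCAlgMod Groth.Agent.SymAlg Groth.Agent.SymSum Groth.Agent.SymGr
  Groth.Agent.PBProj Scheme.Modules Groth.Agent.RelProjTN Groth.Agent.LineChart Groth.Agent.ProjQ

section Local
variable {X PL : Scheme.{u}} (L : X.Modules) [L.IsQuasicoherent] (𝒮L : RelProj.QCGrAlg X)
  (j : L ⟶ 𝒮L.toModule) (hj : RelProj.IsGrSymAlg L 𝒮L j) (hL : PicF.IsInvertible L)
  {pL : PL ⟶ X}
  {chartL : ∀ (U : X.Opens) (hU : IsAffineOpen U),
    (((pL ⁻¹ᵁ U : PL.Opens) : Scheme.{u}) ≅ Proj (𝒮L.deg U hU))}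
  (hPL : RelProj.IsRelProj 𝒮L pL chartL)

include hj hL hPL in
/-- Local form of `LineChart.A_to_B`: the section `t₀` is only given over the affine open `V`. -/
theorem A_to_B' (n : ℕ) (x' : PL) (V : X.Opens) (hV : IsAffineOpen V) (hxV : x' ∈ pL ⁻¹ᵁ V)
    (t₀ : 𝒮L.presheaf.obj (op V)) (ht₀ : t₀ ∈ 𝒮L.deg V hV n)
    (hA : zpt pL chartL V hV x' hxV ∈ Proj.basicOpen (𝒮L.deg V hV) t₀) :
    ∃ (W : X.Opens) (hW : IsAffineOpen W) (hWV : W ≤ V), pL x' ∈ W ∧
      ((𝒮L.deg W hW n : AddSubgroup (𝒮L.presheaf.obj (op W))) : Set (𝒮L.presheaf.obj (op W))) ⊆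
        (Ideal.span {(𝒮L.presheaf.map (homOfLE hWV).op).hom t₀} :
          Set (𝒮L.presheaf.obj (op W))) := by
  obtain ⟨g, hxg, e, he⟩ := exists_basic_gen L hL V hV (pL x') hxV
  have hV' : IsAffineOpen (X.basicOpen g) := hV.basicOpen g
  have hx' : x' ∈ pL ⁻¹ᵁ (X.basicOpen g) := hxg
  have h1 := (mem_zpt_res hPL V hV g x' hx' t₀).mp hA
  have ht₁deg : (𝒮L.presheaf.map (homOfLE (X.basicOpen_le g)).op).hom t₀ ∈ 𝒮L.deg _ hV' n :=
    𝒮L.map_mem hV hV' (X.basicOpen_le g) ht₀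
  obtain ⟨a, ha⟩ := exists_coeff L 𝒮L j hj _ hV' e he n _ ht₁deg
  have h2 : (𝒮L.str.app (op (X.basicOpen g))).hom a ∉
      (zpt pL chartL _ hV' x' hx').asHomogeneousIdeal := by
    intro hmem
    apply (Proj.mem_basicOpen _ _ _).mp h1
    rw [ha]
    exact Ideal.mul_mem_right _ _ hmem
  have h3 : pL x' ∈ X.basicOpen a := (mem_basicOpen_iff_not_mem_zpt hPL _ hV' x' hx' a).mpr h2
  have hW : IsAffineOpen (X.basicOpen a) := hV'.basicOpen a
  refine ⟨X.basicOpen a, hW, (X.basicOpen_le a).trans (X.basicOpen_le g), h3, ?_⟩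
  intro y hy
  have heW := he.res (X.basicOpen_le a)
  obtain ⟨c, hc⟩ := exists_coeff L 𝒮L j hj _ hW _ heW n y hy
  have hcomp : (𝒮L.presheaf.map
      (homOfLE ((X.basicOpen_le a).trans (X.basicOpen_le g))).op).hom t₀ =
      (𝒮L.presheaf.map (homOfLE (X.basicOpen_le a)).op).hom
        ((𝒮L.presheaf.map (homOfLE (X.basicOpen_le g)).op).hom t₀) := by
    rw [← RingHom.comp_apply, ← CommRingCat.hom_comp, ← Functor.map_comp]
    rfl
  have htW : (𝒮L.presheaf.map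
      (homOfLE ((X.basicOpen_le a).trans (X.basicOpen_le g))).op).hom t₀ =
      (𝒮L.str.app (op (X.basicOpen a))).hom (rX (X.basicOpen_le a) a) *
        TT L 𝒮L j _ (rF L (X.basicOpen_le a) e) ^ n := by
    rw [hcomp, ha, map_mul, map_pow, res_T, QCAlgMod.str_res 𝒮L.toQCAlg (X.basicOpen_le a) a]
  obtain ⟨v, hv⟩ : IsUnit (rX (X.basicOpen_le a) a) := RingedSpace.isUnit_res_basicOpen _ a
  refine Ideal.mem_span_singleton'.mpr ⟨(𝒮L.str.app (op (X.basicOpen a))).hom (c * ↑v⁻¹), ?_⟩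
  rw [htW, hc, ← mul_assoc, ← map_mul, ← hv, mul_assoc, Units.inv_mul, mul_one]

end Local

section Stalk
variable {X Y PL : Scheme.{u}} (q : X ⟶ Y) (F : Y.Modules) [F.IsQuasicoherent]
  (𝒯 : RelProj.QCGrAlg Y) (jF : F ⟶ 𝒯.toModule) (h𝒯 : RelProj.IsGrSymAlg F 𝒯 jF)
  (L : X.Modules) [L.IsQuasicoherent] (hL : PicF.IsInvertible L) (𝒮L : RelProj.QCGrAlg X)
  (jL : L ⟶ 𝒮L.toModule) (hjL : RelProj.IsGrSymAlg L 𝒮L jL)
  (u : RelProj.QGrHom q 𝒯 𝒮L)
  {pL : PL ⟶ X}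
  {chartL : ∀ (U : X.Opens) (hU : IsAffineOpen U),
    (((pL ⁻¹ᵁ U : PL.Opens) : Scheme.{u}) ≅ Proj (𝒮L.deg U hU))}
  (hPL : RelProj.IsRelProj 𝒮L pL chartL)

include h𝒯 hL hjL hPL in
/-- **If `r_{L,φ}` is everywhere defined then `φ : q^*F ⟶ L` is surjective**, stalkwise form. -/
theorem hsurj_of_domQ_eq_top [IsIso pL] (hdom : RelProj.domQ u pL chartL = ⊤) (x : X) :
    ∃ (U : Y.Opens) (hU : IsAffineOpen U) (e : Γ(F, U)) (V : X.Opens) (hV : IsAffineOpen V)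
      (hVU : V ≤ q ⁻¹ᵁ U), x ∈ V ∧
        ((𝒮L.deg V hV 1 : AddSubgroup (𝒮L.presheaf.obj (op V))) :
          Set (𝒮L.presheaf.obj (op V))) ⊆
          (Ideal.span {(u.appLE U V hVU).hom ((jF.app U) e)} :
            Set (𝒮L.presheaf.obj (op V))) := by
  classical
  have hxx : pL.base ((inv pL).base x) = x := by
    have h0 := congrArg (fun m => m.base x) (IsIso.inv_hom_id pL)
    exact h0
  have hx' : (inv pL).base x ∈ RelProj.domQ u pL chartL := by rw [hdom]; trivial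
  obtain ⟨U, hU, V, hV, hle, hxV⟩ := Groth.Agent.ConeFun.exists_pair (q := q)
    (pL.base ((inv pL).base x))
  have hxV' : (inv pL).base x ∈ pL ⁻¹ᵁ V := hxV
  obtain ⟨d, hd, f, hf, hzf⟩ := exists_homogeneous_of_mem_domOpen _ _
    (mem_domOpen_of_mem_domQ u hPL _ hx' U hU V hV hle hxV')
  -- some degree-one generator does not vanish at the point
  have hex : ∃ e : Γ(F, U), u.gradedAt U hU V hV hle (jAdd F 𝒯.toQCAlg jF U e) ∉
      (zpt pL chartL V hV _ hxV').asHomogeneousIdeal := by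
    by_contra hall
    push Not at hall
    apply (Proj.mem_basicOpen _ _ _).mp hzf
    have hmon := deg_le_closure_mon (𝒯.str.app (op U)).hom (jAdd F 𝒯.toQCAlg jF U)
      (symToA F 𝒯.toQCAlg jF U) (symToA_algebraMap F 𝒯.toQCAlg jF U)
      (symToA_ι F 𝒯.toQCAlg jF U) (𝒯.deg U hU) (fun a => 𝒯.str_mem U hU a)
      (fun m => h𝒯.2 U hU m) (symToA_bijective F 𝒯 jF h𝒯 U hU).2 d f hf
    clear hzf hf
    induction hmon using AddSubgroup.closure_induction with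
    | mem z hz =>
      obtain ⟨a, l, hl, rfl⟩ := hz
      match l, hl with
      | e :: l', _ =>
        rw [List.map_cons, List.prod_cons, map_mul, map_mul]
        exact Ideal.mul_mem_left _ _ (Ideal.mul_mem_right _ _ (hall e))
      | [], h0 => exact absurd h0 (by simpa using hd.ne)
    | zero => rw [map_zero]; exact zero_mem _
    | add a b _ _ ha hb => rw [map_add]; exact add_mem ha hb
    | neg a _ ha =>
      rw [map_neg]
      exact (Ideal.neg_mem_iff (zpt pL chartL V hV _ hxV').asHomogeneousIdeal.toIdeal).mpr ha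
  obtain ⟨e, he⟩ := hex
  have ht₀ : u.gradedAt U hU V hV hle (jAdd F 𝒯.toQCAlg jF U e) ∈ 𝒮L.deg V hV 1 :=
    (u.gradedAt U hU V hV hle).map_mem (h𝒯.2 U hU e)
  obtain ⟨W, hW, hWV, hxW, hsp⟩ := A_to_B' L 𝒮L jL hjL hL hPL 1 _ V hV hxV' _ ht₀
    ((Proj.mem_basicOpen _ _ _).mpr he)
  refine ⟨U, hU, e, W, hW, hWV.trans hle, hxx ▸ hxW, ?_⟩
  have h5 : (𝒮L.presheaf.map (homOfLE hWV).op).hom
      (u.gradedAt U hU V hV hle (jAdd F 𝒯.toQCAlg jF U e)) =
      (u.appLE U W (hWV.trans hle)).hom ((jF.app U) e) :=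
    congrArg (fun t => t.hom ((jF.app U) e)) (u.appLE_map hle hWV)
  rw [h5] at hsp
  exact hsp

end Stalk

end Groth.Agent.VA91
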