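import Mathlib
import Groth.Prelude
import Groth.Agent.Lib.ConsQP2_helper6
import Groth.Agent.Lib.ConsFib4_helper7
import Groth.Agent.S4418
import Groth.Agent.S4419

/-!
# The locus of projective fibre morphisms is ind-constructible (helper6)
APPEND-ONLY once landed.
-/

set_option autoImplicit false
set_option linter.all false

namespace Groth.Agent.Lib.ConsQPH6

open AlgebraicGeometry CategoryTheory CategoryTheory.Limits TopologicalSpace Opposite Topology

universe u

/-- The intersection of an ind-constructible set with a locally constructible set is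
ind-constructible. -/
theorem isIndConstructible_inter {X : Type*} [TopologicalSpace X] {E F : Set X}
    (hE : ProCons.IsIndConstructible E) (hF : IsLocallyConstructible F) :
    ProCons.IsIndConstructible (E ∩ F) := by
  intro x
  obtain ⟨U, hU, hxU, 𝒮, h𝒮, hEU⟩ := hE x
  refine ⟨U, hU, hxU, (fun T => T ∩ (Subtype.val ⁻¹' F : Set ↥U)) '' 𝒮, ?_, ?_⟩
  · rintro _ ⟨T, hT, rfl⟩
    exact (h𝒮 T hT).inter (hF.preimage_of_isOpenEmbedding hU.isOpenEmbedding_subtypeVal)
  · rw [Set.preimage_inter, hEU]
    ext z
    simp only [Set.mem_inter_iff, Set.mem_sUnion, Set.mem_image, Set.mem_preimage]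
    constructor
    · rintro ⟨⟨T, hT, hzT⟩, hzF⟩
      exact ⟨_, ⟨T, hT, rfl⟩, hzT, hzF⟩
    · rintro ⟨_, ⟨T, hT, rfl⟩, hzT, hzF⟩
      exact ⟨⟨T, hT, hzT⟩, hzF⟩

/-- The set of points of the base over which the fibre morphism is projective is
ind-constructible. -/
theorem main4843 {X Y S : Scheme.{u}} (f : X ⟶ Y) (g : Y ⟶ S)
    [LocallyOfFinitePresentation g] [QuasiCompact g] [QuasiSeparated g]
    [LocallyOfFinitePresentation (f ≫ g)] [QuasiCompact (f ≫ g)] [QuasiSeparated (f ≫ g)] :
    ProCons.IsIndConstructible {s : S |
      RelProj.IsProjective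
        (pullback.lift (pullback.fst (f ≫ g) (S.fromSpecResidueField s) ≫ f)
          (pullback.snd (f ≫ g) (S.fromSpecResidueField s))
          ((Category.assoc _ _ _).trans pullback.condition) :
        pullback (f ≫ g) (S.fromSpecResidueField s) ⟶ pullback g (S.fromSpecResidueField s))} := by
  have h3 := isIndConstructible_inter (main4844 f g) (Groth.Agent.Lib.ConsFibH7.main2577 f g)
  convert h3 using 1
  ext s
  simp only [Set.mem_setOf_eq, Set.mem_inter_iff]
  constructor
  · exact Groth.Agent.S4418.result _
  · rintro ⟨hq, hp⟩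
    haveI := hp
    haveI : LocallyOfFiniteType (pullback.snd g (S.fromSpecResidueField s)) := inferInstance
    haveI : IsLocallyNoetherian (pullback g (S.fromSpecResidueField s)) :=
      LocallyOfFiniteType.isLocallyNoetherian (pullback.snd g (S.fromSpecResidueField s))
    haveI : CompactSpace ↥(pullback g (S.fromSpecResidueField s)) :=
      QuasiCompact.compactSpace_of_compactSpace (pullback.snd g (S.fromSpecResidueField s))
    haveI : IsNoetherian (pullback g (S.fromSpecResidueField s)) := {}
    exact Groth.Agent.S4419.result (Or.inr inferInstance) _ hq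

end Groth.Agent.Lib.ConsQPH6
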