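import Mathlib

namespace Groth.Agent.Lib.ConsStrat

open PrimeSpectrum

universe u

theorem pattern (A : Type u) [CommRing A] (T : Set (PrimeSpectrum A))
    (hT : Topology.IsConstructible T) :
    ∃ E : Finset A, ∀ x y : PrimeSpectrum A,
      (∀ f ∈ E, f ∈ x.asIdeal ↔ f ∈ y.asIdeal) → x ∈ T → y ∈ T := by
  classical
  obtain ⟨S, rfl⟩ := PrimeSpectrum.exists_constructibleSetData_iff.mpr hT
  refine ⟨S.biUnion (fun C => insert C.f (Finset.univ.image C.g)), ?_⟩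
  intro x y hxy hx
  rw [ConstructibleSetData.toSet, Set.mem_iUnion₂] at hx ⊢
  obtain ⟨C, hC, hxC⟩ := hx
  refine ⟨C, hC, ?_⟩
  rw [BasicConstructibleSetData.toSet, Set.mem_diff, mem_zeroLocus, mem_zeroLocus,
    Set.singleton_subset_iff] at hxC ⊢
  obtain ⟨hg, hf⟩ := hxC
  refine ⟨?_, ?_⟩
  · rintro _ ⟨j, rfl⟩
    have h1 : C.g j ∈ x.asIdeal := hg ⟨j, rfl⟩
    exact (hxy (C.g j) (Finset.mem_biUnion.mpr ⟨C, hC, Finset.mem_insert_of_mem
      (Finset.mem_image_of_mem _ (Finset.mem_univ j))⟩)).mp h1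
  · intro hfy
    exact hf ((hxy C.f (Finset.mem_biUnion.mpr ⟨C, hC, Finset.mem_insert_self _ _⟩)).mpr hfy)

theorem main (A : Type u) [CommRing A] {ι : Type u} [Finite ι]
    (T : ι → Set (PrimeSpectrum A)) (hT : ∀ i, Topology.IsConstructible (T i))
    (hcov : ⋃ i, T i = Set.univ) :
    ∃ E : Finset A, ∀ E'' : Finset A, E'' ⊆ E →
      ∀ x : PrimeSpectrum A, (∀ f ∈ E, f ∈ x.asIdeal ↔ f ∈ E'') →
        ∃ i, {y : PrimeSpectrum A | ∀ f ∈ E, f ∈ y.asIdeal ↔ f ∈ E''} ⊆ T i := by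
  classical
  haveI : Fintype ι := Fintype.ofFinite ι
  choose E hE using fun i => pattern A (T i) (hT i)
  refine ⟨Finset.univ.biUnion E, fun E'' _ x hx => ?_⟩
  have hxu : x ∈ ⋃ i, T i := hcov ▸ Set.mem_univ x
  obtain ⟨i, hi⟩ := Set.mem_iUnion.mp hxu
  refine ⟨i, fun y hy => ?_⟩
  refine hE i x y (fun f hf => ?_) hi
  have hfE : f ∈ Finset.univ.biUnion E := Finset.mem_biUnion.mpr ⟨i, Finset.mem_univ i, hf⟩
  exact (hx f hfE).trans (hy f hfE).symm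

end Groth.Agent.Lib.ConsStrat
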