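import Mathlib
import Groth.Prelude.Def_ConstAct2
import Groth.Agent.Lib.CartDualConst_helper9

/-!
# Coactions of the function algebra of a finite group are group actions (helper9)
-/

set_option autoImplicit false
universe u
open scoped TensorProduct

namespace ConstAct9

open ConstGrp

theorem mulSemiringAction_ext {M : Type*} {S : Type*} [Monoid M] [Semiring S]
    (a a' : MulSemiringAction M S)
    (h : ∀ (g : M) (x : S), (letI := a; g • x) = (letI := a'; g • x)) : a = a' := by
  cases a with
  | @mk toD s1 s2 =>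
    cases a' with
    | @mk toD' s1' s2' =>
      have hD : toD = toD' := DistribMulAction.ext (funext fun g => funext fun x => h g x)
      subst hD
      rfl

variable (R : Type u) [CommRing R] (B : Type u) [CommRing B] [Algebra R B]
  (Γ : Type u) [Group Γ] [Fintype Γ] [DecidableEq Γ]

/-- The slice `id ⊗ ev_γ : B ⊗ F → B` as an algebra map. -/
noncomputable def slAlg (γ : Γ) : B ⊗[R] F R Γ →ₐ[R] B :=
  (Algebra.TensorProduct.rid R R B).toAlgHom.comp
    (Algebra.TensorProduct.map (AlgHom.id R B) (ev R γ))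

omit [Group Γ] [Fintype Γ] [DecidableEq Γ] in
theorem slAlg_tmul (γ : Γ) (b : B) (f : F R Γ) : slAlg R B Γ γ (b ⊗ₜ[R] f) = f γ • b := by
  simp [slAlg]

omit [Group Γ] in
theorem sum_slAlg (t : B ⊗[R] F R Γ) : ∑ γ : Γ, slAlg R B Γ γ t ⊗ₜ[R] e R γ = t := by
  induction t using TensorProduct.induction_on with
  | zero => simp
  | tmul b f =>
    simp only [slAlg_tmul]
    conv_rhs => rw [eq_sum_smul_e f, TensorProduct.tmul_sum]
    refine Finset.sum_congr rfl fun γ _ => ?_
    rw [TensorProduct.smul_tmul]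
  | add x y hx hy =>
    simp only [map_add, TensorProduct.add_tmul, Finset.sum_add_distrib, hx, hy]

/-- The double slice `id ⊗ ev_γ ⊗ ev_γ'`. -/
noncomputable def sl2 (γ γ' : Γ) : B ⊗[R] (F R Γ ⊗[R] F R Γ) →ₗ[R] B :=
  (TensorProduct.rid R B).toLinearMap ∘ₗ
    LinearMap.lTensor B (LinearMap.mul' R R ∘ₗ
      TensorProduct.map (ev R γ).toLinearMap (ev R γ').toLinearMap)

theorem sl2_tmul (γ γ' : Γ) (b : B) (T : F R Γ ⊗[R] F R Γ) :
    sl2 R B Γ γ γ' (b ⊗ₜ[R] T) = pair R Γ T (γ, γ') • b := by
  simp [sl2, CartDualConst9.mul'_map_ev]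

theorem sl2_lTensor_comul (γ γ' : Γ) (t : B ⊗[R] F R Γ) :
    sl2 R B Γ γ γ' (LinearMap.lTensor B (Coalgebra.comul (R := R)) t) =
      slAlg R B Γ (γ * γ') t := by
  induction t using TensorProduct.induction_on with
  | zero => simp
  | tmul b f => rw [LinearMap.lTensor_tmul, sl2_tmul, pair_comul, slAlg_tmul]
  | add x y hx hy => simp only [map_add, hx, hy]

theorem sl2_assoc_rTensor (ρ : B →ₗ[R] B ⊗[R] F R Γ) (γ γ' : Γ) (t : B ⊗[R] F R Γ) :
    sl2 R B Γ γ γ' (TensorProduct.assoc R B (F R Γ) (F R Γ) (LinearMap.rTensor (F R Γ) ρ t)) =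
      slAlg R B Γ γ (ρ (slAlg R B Γ γ' t)) := by
  have aux : ∀ (s : B ⊗[R] F R Γ) (f : F R Γ),
      sl2 R B Γ γ γ' (TensorProduct.assoc R B (F R Γ) (F R Γ) (s ⊗ₜ[R] f)) =
        f γ' • slAlg R B Γ γ s := by
    intro s f
    induction s using TensorProduct.induction_on with
    | zero => simp
    | tmul b f'' =>
      rw [TensorProduct.assoc_tmul, sl2_tmul, pair_tmul, slAlg_tmul, smul_smul, mul_comm]
    | add x y hx hy => simp only [TensorProduct.add_tmul, map_add, hx, hy, smul_add]
  induction t using TensorProduct.induction_on with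
  | zero => simp
  | tmul b f => rw [LinearMap.rTensor_tmul, aux, slAlg_tmul, map_smul, map_smul]
  | add x y hx hy => simp only [map_add, hx, hy]

section Action
variable [HopfRep.Comod R (F R Γ) B] [GLin.IsCoactAlg R (F R Γ) B]

/-- The automorphism of `B` attached to `γ` by the coaction. -/
noncomputable def actHom (γ : Γ) : B →ₐ[R] B :=
  (slAlg R B Γ γ).comp (GLin.coactAlgHom R (F R Γ) B)

theorem actHom_apply (γ : Γ) (b : B) :
    actHom R B Γ γ b = slAlg R B Γ γ (HopfRep.Comod.coact (k := R) (A := F R Γ) b) := rfl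

theorem actHom_one (b : B) : actHom R B Γ 1 b = b := by
  rw [actHom_apply]
  have h := LinearMap.congr_fun (HopfRep.Comod.counit_comp (k := R) (A := F R Γ) (V := B)) b
  rw [LinearMap.comp_apply] at h
  have h2 : ∀ t : B ⊗[R] F R Γ, slAlg R B Γ 1 t =
      TensorProduct.rid R B (LinearMap.lTensor B (Coalgebra.counit (R := R)) t) := by
    intro t
    induction t using TensorProduct.induction_on with
    | zero => simp
    | tmul b f =>
      rw [slAlg_tmul, LinearMap.lTensor_tmul, TensorProduct.rid_tmul]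
      rfl
    | add x y hx hy => simp only [map_add, hx, hy]
  rw [h2, h]
  simp

theorem actHom_mul (γ γ' : Γ) (b : B) :
    actHom R B Γ (γ * γ') b = actHom R B Γ γ (actHom R B Γ γ' b) := by
  rw [actHom_apply, actHom_apply, actHom_apply]
  have h := LinearMap.congr_fun (HopfRep.Comod.coassoc (k := R) (A := F R Γ) (V := B)) b
  rw [LinearMap.comp_apply, LinearMap.comp_apply, LinearMap.comp_apply] at h
  rw [← sl2_lTensor_comul, ← h]
  exact sl2_assoc_rTensor R B Γ _ γ γ' _

/-- The action of `Γ` on `B` attached to the coaction. -/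
noncomputable def action : MulSemiringAction Γ B where
  smul γ b := actHom R B Γ γ b
  one_smul := actHom_one R B Γ
  mul_smul := actHom_mul R B Γ
  smul_zero γ := map_zero _
  smul_add γ := map_add _
  smul_one γ := map_one _
  smul_mul γ := map_mul _

theorem action_smul (γ : Γ) (b : B) :
    (letI := action R B Γ; γ • b) = actHom R B Γ γ b := rfl

theorem smulComm : letI := action R B Γ; SMulCommClass Γ R B := by
  letI := action R B Γ
  exact ⟨fun γ r b => map_smul (actHom R B Γ γ) r b⟩

theorem coactLin_eq : letI := action R B Γ; haveI := smulComm R B Γ;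
    ConstAct.coactLin R B Γ = HopfRep.Comod.coact (k := R) (A := F R Γ) (V := B) := by
  letI := action R B Γ
  haveI := smulComm R B Γ
  apply LinearMap.ext
  intro b
  rw [ConstAct.coactLin_apply]
  exact sum_slAlg R B Γ _

theorem invariants_eq : letI := action R B Γ; haveI := smulComm R B Γ;
    GLin.invariants R (F R Γ) B = ConstAct.inv R B Γ := by
  letI := action R B Γ
  haveI := smulComm R B Γ
  ext b
  rw [GLin.mem_invariants_iff, ConstAct.mem_inv]
  constructor
  · intro hb γ
    show slAlg R B Γ γ (HopfRep.Comod.coact (k := R) (A := F R Γ) b) = b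
    rw [hb, slAlg_tmul, ConstGrp.one_apply, one_smul]
  · intro hb
    have h1 : ∀ γ : Γ, slAlg R B Γ γ (HopfRep.Comod.coact (k := R) (A := F R Γ) b) = b := hb
    rw [← sum_slAlg R B Γ (HopfRep.Comod.coact (k := R) (A := F R Γ) b)]
    simp only [h1]
    rw [← TensorProduct.tmul_sum, ConstGrp.sum_e]

theorem action_unique (a' : MulSemiringAction Γ B) (sc' : SMulCommClass Γ R B)
    (hco : ConstAct.coactLin R B Γ = HopfRep.Comod.coact (k := R) (A := F R Γ) (V := B)) :
    a' = action R B Γ := by
  apply mulSemiringAction_ext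
  intro γ b
  have h1 := LinearMap.congr_fun hco b
  rw [ConstAct.coactLin_apply] at h1
  show γ • b = slAlg R B Γ γ (HopfRep.Comod.coact (k := R) (A := F R Γ) b)
  rw [← h1, map_sum]
  simp only [slAlg_tmul]
  rw [Finset.sum_eq_single γ]
  · rw [ConstGrp.e_apply_self, one_smul]
  · intro g _ hg
    rw [ConstGrp.e_apply_of_ne (Ne.symm hg), zero_smul]
  · intro h
    exact absurd (Finset.mem_univ _) h

end Action

end ConstAct9
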