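import Mathlib
import Groth.Agent.Lib.CechSiteLeray_helper2
import Groth.Agent.Lib.ExtCompare_helper2

/-!
# Global cohomology is cohomology over a terminal object
-/

set_option autoImplicit false
universe u
open CategoryTheory Limits Opposite Abelian

namespace Groth.Agent.Lib.ConstFree

open Groth.Agent.Lib.CechSite

variable {E : Type u} [SmallCategory E] (L : GrothendieckTopology E) {T : E} (hT : IsTerminal T)

instance : IsGrothendieckAbelian.{u} (Sheaf L AddCommGrpCat.{u}) :=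
  Sheaf.isGrothendieckAbelian_of_essentiallySmall _ _

/-- the constant sheaf `ℤ` -/
noncomputable abbrev cZ : Sheaf L AddCommGrpCat.{u} :=
  (constantSheaf L AddCommGrpCat.{u}).obj (AddCommGrpCat.of (ULift ℤ))

/-- maps out of the constant sheaf are sections over the terminal object -/
noncomputable def e2 (G : Sheaf L AddCommGrpCat.{u}) : (cZ L ⟶ G) ≃+ G.obj.obj (op T) :=
  (Ext.addEquiv₀ (X := cZ L) (Y := G)).symm.trans (Sheaf.H.equiv₀ G hT)

lemma e2_comp {G G' : Sheaf L AddCommGrpCat.{u}} (x : cZ L ⟶ G) (ψ : G ⟶ G') :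
    e2 L hT G' (x ≫ ψ) = (ψ.hom.app (op T)).hom (e2 L hT G x) := by
  have h := Sheaf.H.equiv₀_naturality (T := T) hT ψ (Ext.mk₀ x)
  have h2 : Sheaf.H.map ψ 0 (Ext.mk₀ x) = Ext.mk₀ (x ≫ ψ) := by
    rw [Sheaf.H.map_apply, Ext.mk₀_comp_mk₀]
  rw [h2] at h
  exact h.symm

/-- maps out of the constant sheaf and out of the free sheaf on the terminal object -/
noncomputable def e (G : Sheaf L AddCommGrpCat.{u}) : (cZ L ⟶ G) ≃+ (fr L T ⟶ (𝟭 _).obj G) :=
  (e2 L hT G).trans (secAddEquiv L T G).symm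

lemma e_comp {G G' : Sheaf L AddCommGrpCat.{u}} (x : cZ L ⟶ G) (ψ : G ⟶ G') :
    e L hT G' (x ≫ ψ) = e L hT G x ≫ (𝟭 _).map ψ := by
  show (secAddEquiv L T G').symm (e2 L hT G' (x ≫ ψ)) =
    (secAddEquiv L T G).symm (e2 L hT G x) ≫ ψ
  rw [e2_comp, secAddEquiv_symm_comp]

include hT in
theorem nonempty_H_addEquiv (G : Sheaf L AddCommGrpCat.{u}) (n : ℕ) :
    Nonempty (Sheaf.H.{u} G n ≃+ Ext (fr L T) G n) :=
  Groth.Agent.Lib.ExtCompare.nonempty_ext_addEquiv (𝟭 (Sheaf L AddCommGrpCat.{u}))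
    (fun S hS => hS.map_of_exact (𝟭 _))
    (cZ L) (fr L T) (e L hT) (fun f φ => e_comp L hT f φ)
    (fun I hI n ξ => by
      haveI := hI
      exact Ext.eq_zero_of_injective (I := I) ξ) n G

end Groth.Agent.Lib.ConstFree
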