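import Mathlib
import Groth.Prelude.Def_CohSite

/-!
# `H¹` of constant sheaves along an injection (helper4)

Global sections of constant sheaves lift along surjections of abelian groups (a set-theoretic
section induces a morphism of constant sheaves of sets), hence `H¹(A̲) → H¹(B̲)` is injective for
`A ↪ B`.
-/

set_option autoImplicit false
set_option linter.style.haveILetI false
set_option linter.unusedSectionVars false
set_option linter.unusedVariables false
set_option maxHeartbeats 800000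
set_option backward.isDefEq.respectTransparency false

universe w u

namespace Groth.Agent.Lib.ConstH1H4

open CategoryTheory Opposite Limits Abelian

variable {C : Type u} [SmallCategory C] (J : GrothendieckTopology C)

theorem preservesFiniteLimits_constantSheaf :
    PreservesFiniteLimits (constantSheaf J AddCommGrpCat.{u}) := by
  haveI : PreservesLimitsOfSize.{u, u} (Functor.const Cᵒᵖ : AddCommGrpCat.{u} ⥤ _) :=
    (colimConstAdj (C := AddCommGrpCat.{u}) (J := Cᵒᵖ)).rightAdjoint_preservesLimits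
  exact comp_preservesFiniteLimits _ _

theorem preservesFiniteColimits_constantSheaf :
    PreservesFiniteColimits (constantSheaf J AddCommGrpCat.{u}) := by
  haveI : PreservesColimitsOfSize.{u, u} (Functor.const Cᵒᵖ : AddCommGrpCat.{u} ⥤ _) :=
    (constLimAdj (C := AddCommGrpCat.{u}) (J := Cᵒᵖ)).leftAdjoint_preservesColimits
  haveI : PreservesColimitsOfSize.{u, u} (presheafToSheaf J AddCommGrpCat.{u}) :=
    (sheafificationAdjunction J AddCommGrpCat.{u}).leftAdjoint_preservesColimits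
  exact comp_preservesFiniteColimits _ _

/-- global sections of constant sheaves lift along surjections -/
theorem exists_lift {B C' : AddCommGrpCat.{u}} (g : B ⟶ C') [Epi g]
    (φ : (constantSheaf J AddCommGrpCat.{u}).obj (AddCommGrpCat.of (ULift.{u} ℤ)) ⟶
      (constantSheaf J AddCommGrpCat.{u}).obj C') :
    ∃ ψ : (constantSheaf J AddCommGrpCat.{u}).obj (AddCommGrpCat.of (ULift.{u} ℤ)) ⟶
      (constantSheaf J AddCommGrpCat.{u}).obj B,
      ψ ≫ (constantSheaf J AddCommGrpCat.{u}).map g = φ := by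
  have hsurj : Function.Surjective g := (AddCommGrpCat.epi_iff_surjective g).mp inferInstance
  haveI hsplit : IsSplitEpi ((forget AddCommGrpCat.{u}).map g) := by
    refine IsSplitEpi.mk' ⟨TypeCat.ofHom (Function.surjInv hsurj), ?_⟩
    refine ConcreteCategory.hom_ext _ _ (fun y => ?_)
    exact Function.surjInv_eq hsurj y
  obtain ⟨κ, -⟩ : ∃ κ : constantSheaf J AddCommGrpCat.{u} ⋙
      sheafCompose J (forget AddCommGrpCat.{u}) ≅
      forget AddCommGrpCat.{u} ⋙ constantSheaf J (Type u), True :=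
    ⟨constantCommuteCompose J (forget AddCommGrpCat.{u}), trivial⟩
  obtain ⟨gc, hgc⟩ : ∃ gc : (constantSheaf J AddCommGrpCat.{u}).obj B ⟶
      (constantSheaf J AddCommGrpCat.{u}).obj C', gc = (constantSheaf J AddCommGrpCat.{u}).map g :=
    ⟨_, rfl⟩
  haveI h1 : IsSplitEpi ((sheafCompose J (forget AddCommGrpCat.{u})).map gc) := by
    have e := NatIso.naturality_2 κ g
    have e' : (sheafCompose J (forget AddCommGrpCat.{u})).map gc =
        κ.hom.app B ≫ (constantSheaf J (Type u)).map ((forget AddCommGrpCat.{u}).map g) ≫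
          κ.inv.app C' := by
      rw [hgc]
      exact e.symm
    rw [e']
    infer_instance
  haveI h2 : IsSplitEpi ((sheafToPresheaf J (Type u)).map
      ((sheafCompose J (forget AddCommGrpCat.{u})).map gc)) := inferInstance
  have h2' : (sheafToPresheaf J (Type u)).map
      ((sheafCompose J (forget AddCommGrpCat.{u})).map gc) =
      ((Functor.whiskeringRight Cᵒᵖ AddCommGrpCat.{u} (Type u)).obj
        (forget AddCommGrpCat.{u})).map ((sheafToPresheaf J AddCommGrpCat.{u}).map gc) := rfl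
  obtain ⟨ν, -⟩ : ∃ ν : (lim : (Cᵒᵖ ⥤ AddCommGrpCat.{u}) ⥤ AddCommGrpCat.{u}) ⋙
      forget AddCommGrpCat.{u} ≅
      (Functor.whiskeringRight Cᵒᵖ AddCommGrpCat.{u} (Type u)).obj (forget AddCommGrpCat.{u}) ⋙
        lim, True :=
    ⟨preservesLimitNatIso (forget AddCommGrpCat.{u}), trivial⟩
  haveI h3 : IsSplitEpi (((lim : (Cᵒᵖ ⥤ AddCommGrpCat.{u}) ⥤ AddCommGrpCat.{u}) ⋙
      forget AddCommGrpCat.{u}).map ((sheafToPresheaf J AddCommGrpCat.{u}).map gc)) := by
    rw [← NatIso.naturality_2 ν ((sheafToPresheaf J AddCommGrpCat.{u}).map gc)]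
    haveI : IsSplitEpi (((Functor.whiskeringRight Cᵒᵖ AddCommGrpCat.{u} (Type u)).obj
        (forget AddCommGrpCat.{u}) ⋙ lim).map ((sheafToPresheaf J AddCommGrpCat.{u}).map gc)) := by
      show IsSplitEpi (lim.map (((Functor.whiskeringRight Cᵒᵖ AddCommGrpCat.{u} (Type u)).obj
        (forget AddCommGrpCat.{u})).map ((sheafToPresheaf J AddCommGrpCat.{u}).map gc)))
      haveI h5 : IsSplitEpi ((lim : (Cᵒᵖ ⥤ Type u) ⥤ Type u).map
          ((sheafToPresheaf J (Type u)).map
            ((sheafCompose J (forget AddCommGrpCat.{u})).map gc))) := inferInstance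
      exact h5
    infer_instance
  haveI h4 : IsSplitEpi ((sheafToPresheaf J AddCommGrpCat.{u} ⋙
      ((lim : (Cᵒᵖ ⥤ AddCommGrpCat.{u}) ⥤ AddCommGrpCat.{u}) ⋙
        forget AddCommGrpCat.{u})).map gc) := h3
  obtain ⟨adj, -⟩ : ∃ adj : (AddCommGrpCat.free.{u} ⋙ Functor.const Cᵒᵖ) ⋙
      presheafToSheaf J AddCommGrpCat.{u} ⊣
      sheafToPresheaf J AddCommGrpCat.{u} ⋙
        ((lim : (Cᵒᵖ ⥤ AddCommGrpCat.{u}) ⥤ AddCommGrpCat.{u}) ⋙ forget AddCommGrpCat.{u}),
      True :=
    ⟨(AddCommGrpCat.adj.{u}.comp constLimAdj).comp (sheafificationAdjunction J AddCommGrpCat.{u}),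
      trivial⟩
  have key : ∀ φ' : ((AddCommGrpCat.free.{u} ⋙ Functor.const Cᵒᵖ) ⋙
      presheafToSheaf J AddCommGrpCat.{u}).obj PUnit.{u + 1} ⟶
      (constantSheaf J AddCommGrpCat.{u}).obj C', ∃ ψ', ψ' ≫ gc = φ' := by
    intro φ'
    refine ⟨(adj.homEquiv _ _).symm ((adj.homEquiv _ _ φ') ≫
      section_ ((sheafToPresheaf J AddCommGrpCat.{u} ⋙
        ((lim : (Cᵒᵖ ⥤ AddCommGrpCat.{u}) ⥤ AddCommGrpCat.{u}) ⋙
          forget AddCommGrpCat.{u})).map gc)), ?_⟩
    rw [← Adjunction.homEquiv_naturality_right_symm, Category.assoc, IsSplitEpi.id,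
      Category.comp_id, Equiv.symm_apply_apply]
  obtain ⟨j, -⟩ : ∃ j : AddCommGrpCat.free.{u}.obj PUnit.{u + 1} ≅
      AddCommGrpCat.of (ULift.{u} ℤ), True :=
    ⟨AddEquiv.toAddCommGrpIso (X := AddCommGrpCat.free.{u}.obj PUnit.{u + 1})
      (Y := AddCommGrpCat.of (ULift.{u} ℤ))
      ((FreeAbelianGroup.uniqueEquiv PUnit.{u + 1}).trans AddEquiv.ulift.symm), trivial⟩
  obtain ⟨Ji, -⟩ : ∃ Ji : (constantSheaf J AddCommGrpCat.{u}).obj
      (AddCommGrpCat.free.{u}.obj PUnit.{u + 1}) ≅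
      (constantSheaf J AddCommGrpCat.{u}).obj (AddCommGrpCat.of (ULift.{u} ℤ)), True :=
    ⟨(constantSheaf J AddCommGrpCat.{u}).mapIso j, trivial⟩
  obtain ⟨ψ', hψ'⟩ := key (Ji.hom ≫ φ)
  refine ⟨Ji.inv ≫ ψ', ?_⟩
  rw [Category.assoc, ← hgc, hψ', Iso.inv_hom_id_assoc]

variable [HasExt.{w} (Sheaf J AddCommGrpCat.{u})]

theorem main {A B : Type u} [AddCommGroup A] [AddCommGroup B] (f : A →+ B)
    (hf : Function.Injective f) :
    Function.Injective
      (Sheaf.H.map ((constantSheaf J AddCommGrpCat.{u}).map (AddCommGrpCat.ofHom f)) 1) := by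
  haveI := preservesFiniteLimits_constantSheaf J
  haveI := preservesFiniteColimits_constantSheaf J
  haveI : (constantSheaf J AddCommGrpCat.{u}).PreservesZeroMorphisms := inferInstance
  haveI hmono : Mono (AddCommGrpCat.ofHom f) := (AddCommGrpCat.mono_iff_injective _).mpr hf
  have hS : (ShortComplex.mk (AddCommGrpCat.ofHom f) (cokernel.π (AddCommGrpCat.ofHom f))
      (cokernel.condition _)).ShortExact :=
    { exact := ShortComplex.exact_cokernel _, mono_f := hmono, epi_g := inferInstance }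
  have hSc := hS.map_of_exact (constantSheaf J AddCommGrpCat.{u})
  rw [injective_iff_map_eq_zero]
  intro x hx
  have hx' : x.comp (Ext.mk₀ ((ShortComplex.mk (AddCommGrpCat.ofHom f)
      (cokernel.π (AddCommGrpCat.ofHom f)) (cokernel.condition _)).map
        (constantSheaf J AddCommGrpCat.{u})).f) (add_zero 1) = 0 := hx
  obtain ⟨x₃, hx₃⟩ := Ext.covariant_sequence_exact₁ _ hSc x hx' (zero_add 1)
  obtain ⟨ψ, hψ⟩ := exists_lift J (cokernel.π (AddCommGrpCat.ofHom f)) (Ext.addEquiv₀ x₃)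
  have e1 : x = (Ext.mk₀ (ψ ≫ (constantSheaf J AddCommGrpCat.{u}).map
      (cokernel.π (AddCommGrpCat.ofHom f)))).comp hSc.extClass (zero_add 1) := by
    rw [hψ, Ext.mk₀_addEquiv₀_apply, hx₃]
  have h2 : (Ext.mk₀ ((constantSheaf J AddCommGrpCat.{u}).map
      (cokernel.π (AddCommGrpCat.ofHom f)))).comp hSc.extClass (zero_add 1) = 0 :=
    hSc.comp_extClass
  rw [e1, ← Ext.mk₀_comp_mk₀_assoc, h2, Ext.comp_zero]

end Groth.Agent.Lib.ConstH1H4
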