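import Mathlib
import Groth.Prelude.Def_CohTop
import Groth.Agent.Lib.FlasqueAcyclic_helper2

/-!
# The constant sheaf on an irreducible space is flasque

We model the constant sheaf on an irreducible space `X` by the presheaf `U ↦ (Nonempty U → A)`
(which is `A` for nonempty `U` and `0` for empty `U`).
-/

set_option autoImplicit false
universe u
open CategoryTheory TopologicalSpace Opposite

namespace Groth.Agent.Lib.ConstIrred

variable (X : TopCat.{u}) (A : Type u) [AddCommGroup A]

/-- The presheaf `U ↦ (Nonempty U → A)`. -/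
noncomputable def Pc : (Opens X)ᵒᵖ ⥤ AddCommGrpCat.{u} where
  obj U := AddCommGrpCat.of (PLift (Nonempty U.unop) → A)
  map {U V} i := AddCommGrpCat.ofHom
    { toFun := fun s h => s ⟨h.down.map (fun x => ⟨x.1, i.unop.le x.2⟩)⟩
      map_zero' := rfl
      map_add' := fun _ _ => rfl }
  map_id := by intro U; rfl
  map_comp := by intros; rfl

variable {X A} in
/-- view a section as a function -/
def toFun {V : Opens X} (s : ToType ((Pc X A).obj (op V))) : Nonempty V → A := fun h => s ⟨h⟩

variable {X A} in
lemma toFun_injective {V : Opens X} : Function.Injective (toFun (X := X) (A := A) (V := V)) :=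
  fun s t h => by
    funext ⟨x⟩
    exact congrFun h x

variable {X A} in
lemma toFun_map {U V : Opens X} (i : V ⟶ U) (s : ToType ((Pc X A).obj (op U))) (h : Nonempty V) :
    toFun ((Pc X A).map i.op s) h = toFun s (h.map (fun x => ⟨x.1, i.le x.2⟩)) := rfl

theorem Pc_isSheaf [IrreducibleSpace X] : TopCat.Presheaf.IsSheaf (Pc X A) := by
  rw [TopCat.Presheaf.isSheaf_iff_isSheafUniqueGluing]
  intro ι U sf hsf
  have key : ∀ i j (hi : Nonempty (U i)) (hj : Nonempty (U j)),
      toFun (sf i) hi = toFun (sf j) hj := by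
    intro i j hi hj
    obtain ⟨x⟩ := hi; obtain ⟨y⟩ := hj
    obtain ⟨z, hz1, hz2⟩ := nonempty_preirreducible_inter (s := (U i : Set X)) (t := (U j : Set X))
      (U i).2 (U j).2 ⟨x.1, x.2⟩ ⟨y.1, y.2⟩
    have h1 := congrArg (fun t : ToType ((Pc X A).obj (op (U i ⊓ U j))) =>
      toFun t ⟨⟨z, hz1, hz2⟩⟩) (hsf i j)
    exact h1
  have ex : ∀ h : Nonempty ↥(iSup U), ∃ i, Nonempty (U i) := by
    rintro ⟨x, hx⟩
    obtain ⟨i, hi⟩ := Opens.mem_iSup.1 hx
    exact ⟨i, ⟨⟨x, hi⟩⟩⟩
  let s : ToType ((Pc X A).obj (op (iSup U))) :=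
    fun h => toFun (sf (ex h.down).choose) (ex h.down).choose_spec
  refine ⟨s, ?_, ?_⟩
  · intro i
    apply toFun_injective
    funext hi
    rw [toFun_map]
    exact key _ _ _ _
  · intro s' hs'
    apply toFun_injective
    funext h
    have h2 := congrArg (fun t : ToType ((Pc X A).obj (op (U (ex h).choose))) =>
      toFun t (ex h).choose_spec) (hs' (ex h).choose)
    exact h2

/-- The model of the constant sheaf. -/
noncomputable def PcSheaf [IrreducibleSpace X] : CohTop.Ab X := ⟨Pc X A, Pc_isSheaf X A⟩

/-- The comparison map from the constant presheaf. -/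
noncomputable def φ : (Functor.const (Opens X)ᵒᵖ).obj (AddCommGrpCat.of A) ⟶ Pc X A where
  app U := AddCommGrpCat.ofHom
    { toFun := fun a _ => a
      map_zero' := rfl
      map_add' := fun _ _ => rfl }
  naturality := by intros; rfl

instance : Presheaf.IsLocallyInjective (Opens.grothendieckTopology X) (φ X A) where
  equalizerSieve_mem {U} a b h := by
    intro x hx
    refine ⟨U.unop, 𝟙 _, ?_, hx⟩
    have hab : a = b := congrFun h ⟨⟨x, hx⟩⟩
    subst hab
    rfl

instance : Presheaf.IsLocallySurjective (Opens.grothendieckTopology X) (φ X A) where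
  imageSieve_mem {U} s := by
    intro x hx
    exact ⟨U, 𝟙 _, ⟨toFun s ⟨⟨x, hx⟩⟩, rfl⟩, hx⟩

/-- On an irreducible space, the constant sheaf is isomorphic to the model. -/
noncomputable def constIso [IrreducibleSpace X] : CohTop.const X A ≅ PcSheaf X A := by
  have hW : (Opens.grothendieckTopology X).W (φ X A) :=
    GrothendieckTopology.W_of_isLocallyBijective _ _
  have h1 : IsIso ((presheafToSheaf (Opens.grothendieckTopology X) AddCommGrpCat.{u}).map (φ X A)) :=
    (GrothendieckTopology.W_iff _ _).1 hW
  have h2 : IsIso ((sheafificationAdjunction (Opens.grothendieckTopology X)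
      AddCommGrpCat.{u}).counit.app (PcSheaf X A)) := inferInstance
  exact @asIso _ _ _ _ _ h1 ≪≫ @asIso _ _ _ _ _ h2

instance [IrreducibleSpace X] : TopCat.Sheaf.IsFlasque (PcSheaf X A) where
  epi {U V} i := by
    rw [AddCommGrpCat.epi_iff_surjective]
    intro g
    classical
    refine ⟨fun h => if h' : Nonempty V.unop then toFun (V := V.unop) g h' else 0, ?_⟩
    apply toFun_injective (V := V.unop)
    funext h'
    show (if h'' : Nonempty V.unop then toFun (V := V.unop) g h'' else 0) = _
    rw [dif_pos h']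

variable {X} in
lemma isFlasque_of_iso {F G : CohTop.Ab X} (e : F ≅ G) [TopCat.Sheaf.IsFlasque F] :
    TopCat.Sheaf.IsFlasque G where
  epi {U V} i := by
    let e' := (sheafToPresheaf _ _).mapIso e
    have : G.obj.map i = (e'.app U).inv ≫ F.obj.map i ≫ (e'.app V).hom := by
      rw [Iso.eq_inv_comp]
      exact (e'.hom.naturality i).symm
    rw [this]
    infer_instance

theorem const_isFlasque [IrreducibleSpace X] : TopCat.Sheaf.IsFlasque (CohTop.const X A) :=
  isFlasque_of_iso (constIso X A).symm

theorem H_const_eq_zero [IrreducibleSpace X] (p : ℕ) (ξ : CohTop.H (CohTop.const X A) (p + 1)) :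
    ξ = 0 := by
  haveI := const_isFlasque X A
  exact Groth.Agent.Lib.FlasqueAcyclic.H_eq_zero_of_isFlasque (CohTop.const X A) p ξ

end Groth.Agent.Lib.ConstIrred
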