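import Mathlib
set_option autoImplicit false
set_option linter.style.haveILetI false

universe u

open CategoryTheory CategoryTheory.Limits AlgebraicGeometry TopologicalSpace

namespace ConstSchH4

section

variable (S : Scheme.{u}) (M : Type u)

/-- The index of the copy of `S` containing a point of `∐_M S`. -/
noncomputable def idx (x : ↥(∐ (fun _ : M => S))) : M := ((sigmaMk (fun _ : M => S)).symm x).1

lemma idx_ι (m : M) (s : S) : idx S M ((Sigma.ι (fun _ : M => S) m) s) = m := by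
  unfold idx
  rw [← sigmaMk_mk, Homeomorph.symm_apply_apply]

lemma isLocallyConstant_idx : IsLocallyConstant (idx S M) := by
  have h1 : IsLocallyConstant (Sigma.fst : (Σ _ : M, ↥S) → M) :=
    fun s => isOpen_sigma_fst_preimage s
  exact h1.comp_continuous (sigmaMk (fun _ : M => S)).symm.continuous

lemma mem_range_ι_iff (m : M) (x : ↥(∐ (fun _ : M => S))) :
    x ∈ Set.range (Sigma.ι (fun _ : M => S) m) ↔ idx S M x = m := by
  constructor
  · rintro ⟨s, rfl⟩
    exact idx_ι S M m s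
  · intro h
    obtain ⟨⟨m', s⟩, rfl⟩ := (sigmaMk (fun _ : M => S)).surjective x
    have : m' = m := by
      have h' := h
      unfold idx at h'
      rw [Homeomorph.symm_apply_apply] at h'
      exact h'
    subst this
    exact ⟨s, (sigmaMk_mk _ _ _).symm⟩

end

variable {S : Scheme.{u}} {M : Type u} {T : Scheme.{u}} (p : T ⟶ S)

noncomputable def toLC
    (f : {f : T ⟶ ∐ (fun _ : M => S) // f ≫ Sigma.desc (fun _ : M => 𝟙 S) = p}) :
    LocallyConstant T M :=
  ⟨fun t => idx S M (f.1.base t), (isLocallyConstant_idx S M).comp_continuous f.1.continuous⟩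

lemma restrict_eq
    (f : {f : T ⟶ ∐ (fun _ : M => S) // f ≫ Sigma.desc (fun _ : M => 𝟙 S) = p}) (m : M)
    (V : T.Opens) (hV : ∀ t ∈ V, idx S M (f.1.base t) = m) :
    V.ι ≫ f.1 = V.ι ≫ p ≫ Sigma.ι (fun _ : M => S) m := by
  have hr : Set.range (V.ι ≫ f.1) ⊆ Set.range (Sigma.ι (fun _ : M => S) m) := by
    rintro _ ⟨x, rfl⟩
    rw [mem_range_ι_iff, Scheme.Hom.comp_apply]
    exact hV _ x.2
  have h1 := IsOpenImmersion.lift_fac (Sigma.ι (fun _ : M => S) m) (V.ι ≫ f.1) hr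
  have h2 : IsOpenImmersion.lift (Sigma.ι (fun _ : M => S) m) (V.ι ≫ f.1) hr = V.ι ≫ p := by
    have := congrArg (· ≫ Sigma.desc (fun _ : M => 𝟙 S)) h1
    simp only [Category.assoc, Sigma.ι_desc, Category.comp_id, f.2] at this
    exact this
  rw [← h1, h2, Category.assoc]

lemma toLC_injective : Function.Injective (toLC (M := M) p) := by
  intro f f' h
  apply Subtype.ext
  have hidx : ∀ t : T, idx S M (f.1.base t) = idx S M (f'.1.base t) :=
    fun t => DFunLike.congr_fun h t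
  let U : M → T.Opens := fun m => f.1 ⁻¹ᵁ (Sigma.ι (fun _ : M => S) m).opensRange
  have hUmem : ∀ m (t : T), t ∈ U m ↔ idx S M (f.1.base t) = m :=
    fun m t => mem_range_ι_iff S M m _
  have hU : IsOpenCover U := by
    show ⨆ m, U m = ⊤
    rw [eq_top_iff]
    intro t _
    rw [TopologicalSpace.Opens.mem_iSup]
    exact ⟨idx S M (f.1.base t), (hUmem _ t).2 rfl⟩
  refine Scheme.Cover.hom_ext (T.openCoverOfIsOpenCover U hU) _ _ fun m => ?_
  show (U m).ι ≫ f.1 = (U m).ι ≫ f'.1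
  rw [restrict_eq p f m (U m) (fun t ht => (hUmem m t).1 ht),
    restrict_eq p f' m (U m) (fun t ht => (hidx t).symm.trans ((hUmem m t).1 ht))]

set_option maxHeartbeats 800000 in
lemma toLC_surjective : Function.Surjective (toLC (M := M) p) := by
  intro φ
  let U : M → T.Opens := fun m => ⟨φ ⁻¹' {m}, φ.isLocallyConstant.isOpen_fiber m⟩
  have hU : IsOpenCover U := by
    show ⨆ m, U m = ⊤
    rw [eq_top_iff]
    intro t _
    rw [TopologicalSpace.Opens.mem_iSup]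
    exact ⟨φ t, rfl⟩
  let 𝒰 := T.openCoverOfIsOpenCover U hU
  let g : ∀ m : M, (U m : Scheme) ⟶ ∐ (fun _ : M => S) :=
    fun m => (U m).ι ≫ p ≫ Sigma.ι (fun _ : M => S) m
  have hg : ∀ m m' : M, pullback.fst (𝒰.f m) (𝒰.f m') ≫ g m =
      pullback.snd (𝒰.f m) (𝒰.f m') ≫ g m' := by
    intro m m'
    by_cases h : m = m'
    · subst h
      have : pullback.fst (𝒰.f m) (𝒰.f m) = pullback.snd (𝒰.f m) (𝒰.f m) := by
        rw [← cancel_mono (𝒰.f m)]
        exact pullback.condition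
      rw [this]
    · haveI : IsEmpty ↥(pullback (𝒰.f m) (𝒰.f m')) := by
        refine ⟨fun z => h ?_⟩
        have h1 : (pullback.fst (𝒰.f m) (𝒰.f m') ≫ 𝒰.f m) z =
            (pullback.snd (𝒰.f m) (𝒰.f m') ≫ 𝒰.f m') z := by rw [pullback.condition]
        rw [Scheme.Hom.comp_apply, Scheme.Hom.comp_apply] at h1
        have h2 : φ ((𝒰.f m) (pullback.fst (𝒰.f m) (𝒰.f m') z)) = m :=
          (pullback.fst (𝒰.f m) (𝒰.f m') z).2
        have h3 : φ ((𝒰.f m') (pullback.snd (𝒰.f m) (𝒰.f m') z)) = m' :=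
          (pullback.snd (𝒰.f m) (𝒰.f m') z).2
        exact h2.symm.trans ((congrArg φ h1).trans h3)
      exact isInitialOfIsEmpty.hom_ext _ _
  have hf : 𝒰.glueMorphisms g hg ≫ Sigma.desc (fun _ : M => 𝟙 S) = p := by
    refine Scheme.Cover.hom_ext 𝒰 _ _ fun m => ?_
    rw [← Category.assoc, Scheme.Cover.ι_glueMorphisms]
    show ((U m).ι ≫ p ≫ Sigma.ι (fun _ : M => S) m) ≫ Sigma.desc (fun _ : M => 𝟙 S) = (U m).ι ≫ p
    simp
  refine ⟨⟨𝒰.glueMorphisms g hg, hf⟩, ?_⟩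
  ext t
  have hx : t ∈ U (φ t) := rfl
  have e0 : 𝒰.f (φ t) ≫ 𝒰.glueMorphisms g hg = g (φ t) :=
    Scheme.Cover.ι_glueMorphisms 𝒰 g hg (φ t)
  have e1 : (𝒰.glueMorphisms g hg) ((𝒰.f (φ t)) ⟨t, hx⟩) = (g (φ t)) ⟨t, hx⟩ := by
    rw [← Scheme.Hom.comp_apply, e0]
    rfl
  have e2 : (𝒰.f (φ t)) ⟨t, hx⟩ = t := rfl
  rw [e2] at e1
  show idx S M ((𝒰.glueMorphisms g hg) t) = φ t
  rw [e1]
  show idx S M (((U (φ t)).ι ≫ p ≫ Sigma.ι (fun _ : M => S) (φ t)) ⟨t, hx⟩) = φ t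
  rw [Scheme.Hom.comp_apply, Scheme.Hom.comp_apply]
  exact idx_ι S M _ _

theorem main13131 (S : Scheme.{u}) (M : Type u) (T : Scheme.{u}) (p : T ⟶ S) :
    ∃ e : {f : T ⟶ ∐ (fun _ : M => S) // f ≫ Sigma.desc (fun _ : M => 𝟙 S) = p} ≃
        LocallyConstant T M,
      ∀ (f : {f : T ⟶ ∐ (fun _ : M => S) // f ≫ Sigma.desc (fun _ : M => 𝟙 S) = p}) (t : T),
        e f t = ((sigmaMk (fun _ : M => S)).symm (f.1.base t)).1 :=
  ⟨Equiv.ofBijective (toLC p) ⟨toLC_injective p, toLC_surjective p⟩, fun _ _ => rfl⟩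

end ConstSchH4
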