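import Mathlib
import Groth.Prelude.Def_CohSite

set_option autoImplicit false
set_option linter.style.haveILetI false
set_option linter.unusedSectionVars false

universe u

namespace Groth.Agent.Lib.ConstSectH4

open CategoryTheory Opposite Limits

variable {C : Type u} [SmallCategory C] (J : GrothendieckTopology C)

noncomputable abbrev Γ (U : C) : AddCommGrpCat.{u} ⥤ AddCommGrpCat.{u} :=
  constantSheaf J AddCommGrpCat.{u} ⋙ (sheafSections J AddCommGrpCat.{u}).obj (op U)

noncomputable abbrev Γs (U : C) : Type u ⥤ Type u :=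
  constantSheaf J (Type u) ⋙ (sheafSections J (Type u)).obj (op U)

noncomputable def e (U : C) :
    Γ J U ⋙ forget AddCommGrpCat.{u} ≅ forget AddCommGrpCat.{u} ⋙ Γs J U :=
  Functor.isoWhiskerRight (constantCommuteCompose J (forget AddCommGrpCat.{u}))
    ((sheafSections J (Type u)).obj (op U))

instance (U : C) : PreservesFiniteLimits (Γ J U) := by
  haveI : PreservesLimitsOfSize.{u, u} (Functor.const Cᵒᵖ : AddCommGrpCat.{u} ⥤ _) :=
    (colimConstAdj (C := AddCommGrpCat.{u}) (J := Cᵒᵖ)).rightAdjoint_preservesLimits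
  haveI : PreservesFiniteLimits (constantSheaf J AddCommGrpCat.{u}) :=
    comp_preservesFiniteLimits _ _
  haveI : PreservesFiniteLimits ((sheafSections J AddCommGrpCat.{u}).obj (op U)) :=
    inferInstanceAs (PreservesFiniteLimits (sheafToPresheaf J AddCommGrpCat.{u} ⋙
      (evaluation Cᵒᵖ AddCommGrpCat.{u}).obj (op U)))
  exact comp_preservesFiniteLimits _ _

lemma epi_map (U : C) {X Y : AddCommGrpCat.{u}} (g : X ⟶ Y) [Epi g] : Epi ((Γ J U).map g) := by
  have hsurj : Function.Surjective g := (AddCommGrpCat.epi_iff_surjective g).mp inferInstance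
  let gT : (forget AddCommGrpCat.{u}).obj X ⟶ (forget AddCommGrpCat.{u}).obj Y :=
    (forget AddCommGrpCat.{u}).map g
  let σT : (forget AddCommGrpCat.{u}).obj Y ⟶ (forget AddCommGrpCat.{u}).obj X :=
    TypeCat.ofHom (Function.surjInv hsurj)
  have hσ : σT ≫ gT = 𝟙 _ := by
    refine ConcreteCategory.hom_ext _ _ (fun y => ?_)
    exact Function.surjInv_eq hsurj y
  haveI : IsSplitEpi gT := IsSplitEpi.mk' ⟨σT, hσ⟩
  haveI : Epi ((Γs J U).map gT) := inferInstance
  have hnat := (e J U).hom.naturality g
  have h2 : (Γ J U ⋙ forget AddCommGrpCat.{u}).map g =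
      (e J U).hom.app X ≫ (Γs J U).map gT ≫ (e J U).inv.app Y := by
    have h3 : (Γ J U ⋙ forget AddCommGrpCat.{u}).map g =
        ((Γ J U ⋙ forget AddCommGrpCat.{u}).map g ≫ (e J U).hom.app Y) ≫ (e J U).inv.app Y := by
      rw [Category.assoc, Iso.hom_inv_id_app, Category.comp_id]
    rw [h3, hnat, Category.assoc]
    rfl
  haveI : Epi ((forget AddCommGrpCat.{u}).map ((Γ J U).map g)) := by
    show Epi ((Γ J U ⋙ forget AddCommGrpCat.{u}).map g)
    rw [h2]
    infer_instance
  exact (forget AddCommGrpCat.{u}).epi_of_epi_map inferInstance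

theorem main9097 (S : ShortComplex AddCommGrpCat.{u}) (hS : S.ShortExact) (U : C)
    [(constantSheaf J AddCommGrpCat.{u} ⋙
      (sheafSections J AddCommGrpCat.{u}).obj (op U)).PreservesZeroMorphisms] :
    (S.map (constantSheaf J AddCommGrpCat.{u} ⋙
      (sheafSections J AddCommGrpCat.{u}).obj (op U))).ShortExact := by
  haveI : (Γ J U).Additive := Functor.additive_of_preserves_binary_products _
  have h1 := (Functor.preservesFiniteLimits_iff_forall_exact_map_and_mono
    (Γ J U)).mp inferInstance S hS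
  haveI := hS.epi_g
  haveI : Mono (S.map (Γ J U)).f := h1.2
  haveI : Epi (S.map (Γ J U)).g := epi_map J U S.g
  exact ShortComplex.ShortExact.mk h1.1

end Groth.Agent.Lib.ConstSectH4
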