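import Mathlib

/-! # The category of finitely presented modules: explicit finite colimits (lead) -/

set_option autoImplicit false
set_option linter.unusedSimpArgs false
set_option linter.unusedVariables false
set_option linter.unusedSectionVars false
set_option linter.style.longLine false
set_option linter.unnecessarySimpa false
set_option maxHeartbeats 1600000
set_option backward.isDefEq.respectTransparency false
set_option backward.isDefEq.respectTransparency.types false
set_option backward.defeqAttrib.useBackward true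

universe u

open CategoryTheory CategoryTheory.Limits

namespace Groth.Agent.Lib.FPMod

variable (A : Type u) [CommRing A]

/-- finitely presented modules -/
abbrev FP : Type (u + 1) :=
  ObjectProperty.FullSubcategory (fun M : ModuleCat.{u} A => Module.FinitePresentation A M)

variable {A}

instance fp_obj (M : FP A) : Module.FinitePresentation A M.obj := M.property

/-- constructor for morphisms -/
def mkHom {M N : FP A} (f : M.obj →ₗ[A] N.obj) : M ⟶ N :=
  ObjectProperty.homMk (ModuleCat.ofHom f)

/-- the underlying linear map -/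
def lin {M N : FP A} (f : M ⟶ N) : M.obj →ₗ[A] N.obj := f.hom.hom

@[simp] theorem lin_mkHom {M N : FP A} (f : M.obj →ₗ[A] N.obj) : lin (mkHom f) = f := rfl

@[simp] theorem lin_comp {M N P : FP A} (f : M ⟶ N) (g : N ⟶ P) :
    lin (f ≫ g) = (lin g).comp (lin f) := rfl

@[simp] theorem lin_id (M : FP A) : lin (𝟙 M) = LinearMap.id := rfl

theorem hom_ext' {M N : FP A} {f g : M ⟶ N} (h : ∀ x, lin f x = lin g x) : f = g := by
  apply ObjectProperty.hom_ext
  apply ModuleCat.hom_ext
  exact LinearMap.ext h

/-- `lin` as an additive map -/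
def linAdd (M N : FP A) : (M ⟶ N) →+ (M.obj →ₗ[A] N.obj) where
  toFun := lin
  map_zero' := rfl
  map_add' _ _ := rfl

@[simp] theorem lin_zero {M N : FP A} : lin (0 : M ⟶ N) = 0 := rfl

@[simp] theorem lin_add {M N : FP A} (f g : M ⟶ N) : lin (f + g) = lin f + lin g := rfl

theorem lin_sum {M N : FP A} {ι : Type*} (s : Finset ι) (f : ι → (M ⟶ N)) :
    lin (∑ i ∈ s, f i) = ∑ i ∈ s, lin (f i) :=
  map_sum (linAdd M N) f s

theorem lin_sum_apply {M N : FP A} {ι : Type*} (s : Finset ι) (f : ι → (M ⟶ N)) (x : M.obj) :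
    lin (∑ i ∈ s, f i) x = ∑ i ∈ s, lin (f i) x := by
  rw [lin_sum, LinearMap.sum_apply]

/-! ## zero object -/

/-- the zero object -/
def zeroObj : FP A := ⟨ModuleCat.of A PUnit.{u + 1}, by
  show Module.FinitePresentation A PUnit.{u + 1}
  infer_instance⟩

instance : HasZeroObject (FP A) := ⟨⟨zeroObj, by
  rw [IsZero.iff_id_eq_zero]
  apply hom_ext'
  intro x
  exact Subsingleton.elim (α := PUnit.{u + 1}) _ _⟩⟩

/-! ## binary coproducts -/

/-- the product object -/
def prodObj (M N : FP A) : FP A := ⟨ModuleCat.of A (M.obj × N.obj), by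
  show Module.FinitePresentation A (M.obj × N.obj)
  infer_instance⟩

def inl (M N : FP A) : M ⟶ prodObj M N := mkHom (LinearMap.inl A M.obj N.obj)

def inr (M N : FP A) : N ⟶ prodObj M N := mkHom (LinearMap.inr A M.obj N.obj)

def coprodDesc {M N W : FP A} (f : M ⟶ W) (g : N ⟶ W) : prodObj M N ⟶ W :=
  mkHom (LinearMap.coprod (lin f) (lin g))

theorem lin_coprodDesc {M N W : FP A} (f : M ⟶ W) (g : N ⟶ W) (x : M.obj) (y : N.obj) :
    lin (coprodDesc f g) (x, y) = lin f x + lin g y := by
  show LinearMap.coprod (lin f) (lin g) (x, y) = _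
  rw [LinearMap.coprod_apply]

theorem inl_coprodDesc {M N W : FP A} (f : M ⟶ W) (g : N ⟶ W) : inl M N ≫ coprodDesc f g = f := by
  apply hom_ext'
  intro x
  show lin (coprodDesc f g) (x, 0) = lin f x
  rw [lin_coprodDesc, map_zero, add_zero]

theorem inr_coprodDesc {M N W : FP A} (f : M ⟶ W) (g : N ⟶ W) : inr M N ≫ coprodDesc f g = g := by
  apply hom_ext'
  intro y
  show lin (coprodDesc f g) (0, y) = lin g y
  rw [lin_coprodDesc, map_zero, zero_add]

theorem coprodDesc_uniq {M N W : FP A} (f : M ⟶ W) (g : N ⟶ W) (m : prodObj M N ⟶ W)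
    (h₁ : inl M N ≫ m = f) (h₂ : inr M N ≫ m = g) : m = coprodDesc f g := by
  apply hom_ext'
  intro z
  obtain ⟨x, y⟩ := z
  have e : ((x, y) : M.obj × N.obj) = (x, 0) + (0, y) := by simp
  have h1 : lin m (x, 0) = lin f x := by
    have := congrArg (fun k => lin k x) h₁
    exact this
  have h2 : lin m (0, y) = lin g y := by
    have := congrArg (fun k => lin k y) h₂
    exact this
  have e3 : lin m (x, y) = lin m (x, 0) + lin m (0, y) := by
    rw [← map_add]
    exact congrArg (lin m) e
  show lin m (x, y) = lin (coprodDesc f g) (x, y)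
  rw [lin_coprodDesc, e3, h1, h2]

def isColimitProd (M N : FP A) : IsColimit (BinaryCofan.mk (inl M N) (inr M N)) :=
  BinaryCofan.isColimitMk
    (fun s => coprodDesc s.inl s.inr)
    (fun s => inl_coprodDesc _ _)
    (fun s => inr_coprodDesc _ _)
    (fun s m h₁ h₂ => coprodDesc_uniq _ _ m h₁ h₂)

instance : HasBinaryCoproducts (FP A) :=
  haveI : ∀ {X Y : FP A}, HasColimit (pair X Y) := fun {X Y} => ⟨⟨⟨_, isColimitProd X Y⟩⟩⟩
  hasBinaryCoproducts_of_hasColimit_pair _

instance : HasBinaryBiproducts (FP A) := HasBinaryBiproducts.of_hasBinaryCoproducts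

instance : HasFiniteCoproducts (FP A) := hasFiniteCoproducts_of_has_binary_and_initial

/-! ## cokernels -/

theorem isColimit_of_exact {P N M : FP A} (f : P ⟶ N) (p : N ⟶ M) (w : f ≫ p = 0)
    (hp : Function.Surjective (lin p)) (hex : Function.Exact (lin f) (lin p)) :
    Nonempty (IsColimit (CokernelCofork.ofπ p w)) := by
  have hker : ∀ {W : FP A} (g : N ⟶ W), f ≫ g = 0 → LinearMap.ker (lin p) ≤ LinearMap.ker (lin g) := by
    intro W g hg y hy
    rw [LinearMap.mem_ker] at hy ⊢
    obtain ⟨x, rfl⟩ := (hex y).1 hy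
    have := congrArg (fun k => lin k x) hg
    exact this
  have key : ∀ {W : FP A} (g : N ⟶ W) (hg : f ≫ g = 0), ∃ d : M ⟶ W, p ≫ d = g := by
    intro W g hg
    refine ⟨mkHom ((Submodule.liftQ _ (lin g) (hker g hg)).comp
      ((lin p).quotKerEquivOfSurjective hp).symm.toLinearMap), ?_⟩
    apply hom_ext'
    intro y
    show Submodule.liftQ _ (lin g) (hker g hg)
      (((lin p).quotKerEquivOfSurjective hp).symm (lin p y)) = lin g y
    have e : ((lin p).quotKerEquivOfSurjective hp).symm (lin p y) =
        Submodule.Quotient.mk y := by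
      rw [LinearEquiv.symm_apply_eq]
      rfl
    rw [e]
    rfl
  refine ⟨CokernelCofork.IsColimit.ofπ _ _
    (fun {W} g hg => (key g hg).choose)
    (fun {W} g hg => (key g hg).choose_spec)
    (fun {W} g hg m hm => ?_)⟩
  apply hom_ext'
  intro z
  obtain ⟨y, rfl⟩ := hp z
  have h1 := congrArg (fun k => lin k y) hm
  have h2 := congrArg (fun k => lin k y) (key g hg).choose_spec
  exact h1.trans h2.symm

/-- the cokernel object -/
def cokerObj {M N : FP A} (f : M ⟶ N) : FP A :=
  ⟨ModuleCat.of A (N.obj ⧸ LinearMap.range (lin f)), by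
    show Module.FinitePresentation A (N.obj ⧸ LinearMap.range (lin f))
    refine Module.finitePresentation_of_surjective (Submodule.mkQ _)
      (Submodule.mkQ_surjective _) ?_
    rw [Submodule.ker_mkQ, LinearMap.range_eq_map]
    exact (Module.Finite.fg_top).map (lin f)⟩

def cokerπ {M N : FP A} (f : M ⟶ N) : N ⟶ cokerObj f := mkHom (Submodule.mkQ _)

theorem comp_cokerπ {M N : FP A} (f : M ⟶ N) : f ≫ cokerπ f = 0 := by
  apply hom_ext'
  intro x
  show Submodule.Quotient.mk (lin f x) = 0
  rw [Submodule.Quotient.mk_eq_zero]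
  exact LinearMap.mem_range_self _ x

theorem isColimitCoker {M N : FP A} (f : M ⟶ N) :
    Nonempty (IsColimit (CokernelCofork.ofπ (cokerπ f) (comp_cokerπ f))) := by
  refine isColimit_of_exact f (cokerπ f) (comp_cokerπ f) (Submodule.mkQ_surjective _) ?_
  intro y
  show Submodule.Quotient.mk y = 0 ↔ y ∈ Set.range (lin f)
  rw [Submodule.Quotient.mk_eq_zero]
  rfl

instance : HasCokernels (FP A) :=
  ⟨fun f => ⟨⟨⟨_, (isColimitCoker f).some⟩⟩⟩⟩

instance : HasCoequalizers (FP A) := Preadditive.hasCoequalizers_of_hasCokernels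

theorem cokerπ_surjective {M N : FP A} (f : M ⟶ N) : Function.Surjective (lin (cokerπ f)) :=
  Submodule.mkQ_surjective _

theorem cokerπ_exact {M N : FP A} (f : M ⟶ N) : Function.Exact (lin f) (lin (cokerπ f)) := by
  intro y
  show Submodule.Quotient.mk y = 0 ↔ y ∈ Set.range (lin f)
  rw [Submodule.Quotient.mk_eq_zero]
  rfl

/-! ## the objects `A`, `A^n` and multiplication maps -/

variable (A) in
/-- the object `A` -/
abbrev AA : FP A := ⟨ModuleCat.of A A, inferInstance⟩

variable (A) in
/-- the object `A^n` -/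
abbrev An (n : ℕ) : FP A := ⟨ModuleCat.of A (Fin n → A), by
  show Module.FinitePresentation A (Fin n → A)
  infer_instance⟩

/-- multiplication by `a` on `A` -/
def mulBy (a : A) : AA A ⟶ AA A := ObjectProperty.homMk (ModuleCat.ofHom (LinearMap.lsmul A A a))

theorem lin_mulBy (a b : A) : lin (mulBy a) b = a * b := rfl

end Groth.Agent.Lib.FPMod
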