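import Mathlib
import Groth.Agent.Lib.FPMod_lead

/-! # Eilenberg–Watts, full faithfulness on f.p. modules (lead) -/

set_option autoImplicit false
set_option linter.unusedSimpArgs false
set_option linter.unusedVariables false
set_option linter.unusedSectionVars false
set_option linter.style.longLine false
set_option linter.unnecessarySimpa false
set_option maxHeartbeats 1600000
set_option backward.isDefEq.respectTransparency false
set_option backward.isDefEq.respectTransparency.types false
set_option backward.defeqAttrib.useBackward true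

universe u v' u'

open CategoryTheory CategoryTheory.Limits

namespace Groth.Agent.Lib.EWff

open Groth.Agent.Lib.FPMod

variable {A : Type u} [CommRing A]

/-- the linear map `b ↦ b • x` -/
def hatLin {M : FP A} (x : M.obj) : A →ₗ[A] M.obj where
  toFun b := b • x
  map_add' b c := add_smul b c x
  map_smul' b c := by
    show (b * c) • x = b • (c • x)
    exact mul_smul b c x

/-- the morphism `A ⟶ M` attached to `x` -/
def hat {M : FP A} (x : M.obj) : AA A ⟶ M := mkHom (hatLin x)

theorem lin_hat {M : FP A} (x : M.obj) (b : A) : lin (hat x) b = b • x := rfl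

def pr (n : ℕ) (i : Fin n) : An A n ⟶ AA A := mkHom (LinearMap.proj i)

theorem lin_pr (n : ℕ) (i : Fin n) (v : Fin n → A) : lin (pr n i) v = v i := rfl

def sg (n : ℕ) (i : Fin n) : AA A ⟶ An A n := mkHom (LinearMap.single A (fun _ => A) i)

theorem lin_sg (n : ℕ) (i : Fin n) (b : A) : lin (sg n i) b = Pi.single i b := rfl

theorem hat_comp {M N : FP A} (x : M.obj) (f : M ⟶ N) : hat x ≫ f = hat (lin f x) := by
  apply hom_ext'
  intro (b : A)
  show lin f (b • x) = b • lin f x
  exact map_smul (lin f) b x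

theorem mulBy_comp_hat {M : FP A} (a : A) (x : M.obj) : mulBy a ≫ hat x = hat (a • x) := by
  apply hom_ext'
  intro (b : A)
  show (a * b) • x = b • (a • x)
  rw [mul_comm, mul_smul]

theorem hat_comp_pr (n : ℕ) (v : Fin n → A) (i : Fin n) :
    hat (M := An A n) v ≫ pr n i = mulBy (v i) := by
  apply hom_ext'
  intro (b : A)
  show (b • v) i = v i * b
  rw [Pi.smul_apply, smul_eq_mul, mul_comm]

theorem hat_eq_sum (n : ℕ) (v : Fin n → A) :
    hat (M := An A n) v = ∑ i, mulBy (v i) ≫ sg n i := by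
  apply hom_ext'
  intro (b : A)
  rw [lin_sum_apply]
  show b • v = ∑ i, Pi.single i (v i * b)
  rw [Finset.univ_sum_single (fun i => v i * b)]
  funext i
  rw [Pi.smul_apply, smul_eq_mul, mul_comm]

theorem hat_zero (M : FP A) : hat (0 : M.obj) = 0 := by
  apply hom_ext'
  intro (b : A)
  show b • (0 : M.obj) = 0
  exact smul_zero b

theorem hat_one : hat (M := AA A) (1 : A) = 𝟙 (AA A) := by
  apply hom_ext'
  intro (b : A)
  show b * 1 = b
  exact mul_one b

theorem exists_epi (M : FP A) : ∃ (n : ℕ) (s : Fin n → M.obj) (π : An A n ⟶ M),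
    Epi π ∧ π = ∑ i, pr n i ≫ hat (s i) := by
  obtain ⟨n, f, hf⟩ := Module.Finite.exists_fin' A M.obj
  refine ⟨n, fun i => f (fun j => if i = j then 1 else 0), mkHom f, ?_, ?_⟩
  · constructor
    intro W g h hgh
    apply hom_ext'
    intro y
    obtain ⟨c, rfl⟩ := hf y
    exact congrArg (fun k => lin k c) hgh
  · apply hom_ext'
    intro (c : Fin n → A)
    rw [lin_sum_apply]
    show f c = ∑ i, c i • f (fun j => if i = j then 1 else 0)
    exact LinearMap.pi_apply_eq_sum_univ f c

section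

variable {B : Type u'} [Category.{v'} B] [Preadditive B] [HasFiniteBiproducts B] [HasCokernels B]
variable (F : FP A ⥤ B) [PreservesFiniteColimits F]

attribute [local instance] preservesBinaryBiproducts_of_preservesBinaryCoproducts

instance additive : F.Additive := Functor.additive_of_preservesBinaryBiproducts F

theorem jointly_epi (M : FP A) {Z : B} (t t' : F.obj M ⟶ Z)
    (h : ∀ x : M.obj, F.map (hat x) ≫ t = F.map (hat x) ≫ t') : t = t' := by
  obtain ⟨n, s, π, hπ, e⟩ := exists_epi M
  subst e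
  haveI := hπ
  rw [← cancel_epi (F.map (∑ i, pr n i ≫ hat (s i))), F.map_sum, Preadditive.sum_comp,
    Preadditive.sum_comp]
  refine Finset.sum_congr rfl (fun i _ => ?_)
  rw [F.map_comp, Category.assoc, Category.assoc, h]

variable (F' : FP A ⥤ B) [PreservesFiniteColimits F']

/-- the candidate component on `A^n` -/
def tau (n : ℕ) (φ : F.obj (AA A) ⟶ F'.obj (AA A)) : F.obj (An A n) ⟶ F'.obj (An A n) :=
  ∑ i, F.map (pr n i) ≫ φ ≫ F'.map (sg n i)

theorem hat_tau (n : ℕ) (φ : F.obj (AA A) ⟶ F'.obj (AA A))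
    (hφ : ∀ a : A, F.map (mulBy a) ≫ φ = φ ≫ F'.map (mulBy a)) (v : Fin n → A) :
    F.map (hat (M := An A n) v) ≫ tau F F' n φ = φ ≫ F'.map (hat (M := An A n) v) := by
  calc F.map (hat (M := An A n) v) ≫ tau F F' n φ
      = ∑ i, F.map (hat (M := An A n) v) ≫ F.map (pr n i) ≫ φ ≫ F'.map (sg n i) := by
        unfold tau
        rw [Preadditive.comp_sum]
    _ = ∑ i, φ ≫ F'.map (mulBy (v i) ≫ sg n i) := by
        refine Finset.sum_congr rfl (fun i _ => ?_)
        have h1 : F.map (hat (M := An A n) v) ≫ F.map (pr n i) = F.map (mulBy (v i)) := by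
          rw [← F.map_comp, hat_comp_pr]
        rw [reassoc_of% h1, reassoc_of% (hφ (v i)), ← F'.map_comp]
    _ = φ ≫ F'.map (hat (M := An A n) v) := by
        rw [hat_eq_sum n v, F'.map_sum, Preadditive.comp_sum]

theorem exists_t (φ : F.obj (AA A) ⟶ F'.obj (AA A))
    (hφ : ∀ a : A, F.map (mulBy a) ≫ φ = φ ≫ F'.map (mulBy a)) (M : FP A) :
    ∃ t : F.obj M ⟶ F'.obj M, ∀ x : M.obj, F.map (hat x) ≫ t = φ ≫ F'.map (hat x) := by
  obtain ⟨n, m, p₀, ρ₀, hp₀, hex₀⟩ := Module.FinitePresentation.exists_fin' A M.obj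
  obtain ⟨p, hp, rfl⟩ : ∃ p : An A n ⟶ M, Function.Surjective (lin p) ∧ lin p = p₀ :=
    ⟨mkHom p₀, hp₀, rfl⟩
  obtain ⟨ρ, rfl⟩ : ∃ ρ : An A m ⟶ An A n, lin ρ = ρ₀ := ⟨mkHom ρ₀, rfl⟩
  have w : ρ ≫ p = 0 := by
    apply hom_ext'
    intro x
    exact hex₀.apply_apply_eq_zero x
  obtain ⟨hc⟩ := isColimit_of_exact ρ p w hp hex₀
  have hc' := isColimitCoforkMapOfIsColimit' F w hc
  have w' : F.map ρ ≫ tau F F' n φ ≫ F'.map p = 0 := by
    apply jointly_epi F (An A m)
    intro v
    have h0 : lin p (lin ρ v) = 0 := hex₀.apply_apply_eq_zero v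
    have h1 : F.map (hat v) ≫ F.map ρ = F.map (hat (lin ρ v)) := by rw [← F.map_comp, hat_comp]
    have h2 := hat_tau F F' n φ hφ (lin ρ v)
    have h3 : F'.map (hat (lin ρ v)) ≫ F'.map p = 0 := by
      rw [← F'.map_comp, hat_comp, h0, hat_zero, F'.map_zero]
    rw [comp_zero, reassoc_of% h1, reassoc_of% h2, h3, comp_zero]
  obtain ⟨t, ht⟩ := CokernelCofork.IsColimit.desc' hc' (tau F F' n φ ≫ F'.map p) w'
  have ht' : F.map p ≫ t = tau F F' n φ ≫ F'.map p := ht
  refine ⟨t, ?_⟩
  intro x
  obtain ⟨v, rfl⟩ := hp x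
  have e1 : hat (lin p v) = hat v ≫ p := (hat_comp v p).symm
  rw [e1, F.map_comp, Category.assoc, ht', reassoc_of% (hat_tau F F' n φ hφ v), F'.map_comp]

theorem main (A : Type u) [CommRing A] {B : Type u'} [Category.{v'} B] [Preadditive B]
    [HasFiniteBiproducts B] [HasCokernels B] (F F' : FP A ⥤ B)
    [PreservesFiniteColimits F] [PreservesFiniteColimits F'] :
    (∀ t t' : F ⟶ F', t.app (AA A) = t'.app (AA A) → t = t') ∧
    ∀ φ : F.obj (AA A) ⟶ F'.obj (AA A),
      (∀ a : A, F.map (mulBy a) ≫ φ = φ ≫ F'.map (mulBy a)) →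
      ∃ t : F ⟶ F', t.app (AA A) = φ := by
  refine ⟨fun t t' h => ?_, fun φ hφ => ?_⟩
  · ext M
    apply jointly_epi F M
    intro x
    rw [t.naturality, t'.naturality, h]
  · choose t ht using exists_t F F' φ hφ
    refine ⟨⟨t, fun M N f => ?_⟩, ?_⟩
    · apply jointly_epi F M
      intro x
      have h1 : F.map (hat x) ≫ F.map f = F.map (hat (lin f x)) := by rw [← F.map_comp, hat_comp]
      have h2 : F'.map (hat x) ≫ F'.map f = F'.map (hat (lin f x)) := by
        rw [← F'.map_comp, hat_comp]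
      rw [reassoc_of% h1, ht, reassoc_of% (ht M x), h2]
    · have := ht (AA A) (1 : A)
      rw [hat_one, F.map_id, F'.map_id, Category.id_comp, Category.comp_id] at this
      exact this

end

end Groth.Agent.Lib.EWff
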