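import Mathlib
import Groth.Agent.Lib.FPMod_lead
import Groth.Agent.Lib.EWff_lead

/-! # Sections of constant sheaves of modules and tensor products with f.p. modules (lead) -/

set_option autoImplicit false
set_option linter.unusedSimpArgs false
set_option linter.unusedVariables false
set_option linter.unusedSectionVars false
set_option linter.style.longLine false
set_option linter.unnecessarySimpa false
set_option maxHeartbeats 1600000
set_option backward.isDefEq.respectTransparency false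
set_option backward.isDefEq.respectTransparency.types false
set_option backward.defeqAttrib.useBackward true

universe u

open CategoryTheory CategoryTheory.Limits Opposite MonoidalCategory TensorProduct

namespace Groth.Agent.Lib.ConstSh

open Groth.Agent.Lib.FPMod Groth.Agent.Lib.EWff

section site

variable {C : Type u} [SmallCategory C] (J : GrothendieckTopology C) (Λ : Type u) [CommRing Λ]

/-- constant presheaf -/
abbrev cP (N : ModuleCat.{u} Λ) : Cᵒᵖ ⥤ ModuleCat.{u} Λ := (Functor.const Cᵒᵖ).obj N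

theorem surj_aux {N N' : ModuleCat.{u} Λ} (g : N ⟶ N') (hg : Function.Surjective g.hom)
    (F F' : Cᵒᵖ ⥤ ModuleCat.{u} Λ) (hFs : Presheaf.IsSheaf J F) (hFs' : Presheaf.IsSheaf J F')
    (e : cP Λ N ⟶ F) (e' : cP Λ N' ⟶ F') (gs : F ⟶ F')
    [Presheaf.IsLocallySurjective J e'] [Presheaf.IsLocallyInjective J e']
    (hnat : ∀ (V : C) (n : N),
      (gs.app (op V)).hom ((e.app (op V)).hom n) = (e'.app (op V)).hom (g.hom n))
    (U : C) : Function.Surjective (gs.app (op U)).hom := by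
  intro t
  have hF : Presieve.IsSheaf J (F ⋙ forget _) :=
    (isSheaf_iff_isSheaf_of_type J _).1
      ((Presheaf.isSheaf_iff_isSheaf_forget J F (forget _)).1 hFs)
  have hF' : Presieve.IsSheaf J (F' ⋙ forget _) :=
    (isSheaf_iff_isSheaf_of_type J _).1
      ((Presheaf.isSheaf_iff_isSheaf_forget J F' (forget _)).1 hFs')
  have eres : ∀ {V W : C} (k : W ⟶ V) (n : N),
      (F.map k.op).hom ((e.app (op V)).hom n) = (e.app (op W)).hom n := by
    intro V W k n
    have := congrArg (fun m => m.hom n) (e.naturality k.op)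
    exact this.symm
  have eres' : ∀ {V W : C} (k : W ⟶ V) (n : N'),
      (F'.map k.op).hom ((e'.app (op V)).hom n) = (e'.app (op W)).hom n := by
    intro V W k n
    have := congrArg (fun m => m.hom n) (e'.naturality k.op)
    exact this.symm
  have hS : Presheaf.imageSieve e' t ∈ J U := Presheaf.imageSieve_mem J e' (U := op U) t
  have hch : ∀ {V : C} (f : V ⟶ U), Presheaf.imageSieve e' t f →
      ∃ n' : N', (e'.app (op V)).hom n' = (F'.map f.op).hom t := fun f hf => hf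
  let x : Presieve.FamilyOfElements (F ⋙ forget _) (Presheaf.imageSieve e' t).arrows :=
    fun V f hf => (e.app (op V)).hom (Function.surjInv hg (hch f hf).choose)
  have hx : x.Compatible := by
    intro Y₁ Y₂ Z g₁ g₂ f₁ f₂ h₁ h₂ comm
    show (F.map g₁.op).hom ((e.app (op Y₁)).hom (Function.surjInv hg (hch f₁ h₁).choose)) =
      (F.map g₂.op).hom ((e.app (op Y₂)).hom (Function.surjInv hg (hch f₂ h₂).choose))
    rw [eres, eres]
    have key : (e'.app (op Z)).hom (hch f₁ h₁).choose =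
        (e'.app (op Z)).hom (hch f₂ h₂).choose := by
      rw [← eres' g₁ (hch f₁ h₁).choose, ← eres' g₂ (hch f₂ h₂).choose,
        (hch f₁ h₁).choose_spec, (hch f₂ h₂).choose_spec]
      have a1 : (F'.map g₁.op).hom ((F'.map f₁.op).hom t) = (F'.map (g₁ ≫ f₁).op).hom t :=
        (congrArg (fun m => m.hom t) (F'.map_comp f₁.op g₁.op)).symm
      have a2 : (F'.map g₂.op).hom ((F'.map f₂.op).hom t) = (F'.map (g₂ ≫ f₂).op).hom t :=
        (congrArg (fun m => m.hom t) (F'.map_comp f₂.op g₂.op)).symm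
      rw [a1, a2, comm]
    have hR : Presheaf.equalizerSieve (F := cP Λ N') (X := op Z) (hch f₁ h₁).choose
        (hch f₂ h₂).choose ∈ J Z :=
      Presheaf.equalizerSieve_mem J e' _ _ key
    refine (hF _ hR).isSeparatedFor.ext ?_
    intro W k hk
    have hk' : (hch f₁ h₁).choose = (hch f₂ h₂).choose := hk
    rw [hk']
  have hs : ∀ {V : C} (f : V ⟶ U) (hf : Presheaf.imageSieve e' t f),
      (F.map f.op).hom ((hF _ hS).amalgamate x hx) =
        (e.app (op V)).hom (Function.surjInv hg (hch f hf).choose) :=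
    fun f hf => (hF _ hS).valid_glue hx f hf
  refine ⟨(hF _ hS).amalgamate x hx, ?_⟩
  refine (hF' _ hS).isSeparatedFor.ext ?_
  intro V f hf
  show (F'.map f.op).hom ((gs.app (op U)).hom ((hF _ hS).amalgamate x hx)) = (F'.map f.op).hom t
  have nat : (F'.map f.op).hom ((gs.app (op U)).hom ((hF _ hS).amalgamate x hx)) =
      (gs.app (op V)).hom ((F.map f.op).hom ((hF _ hS).amalgamate x hx)) := by
    have := congrArg (fun m => m.hom ((hF _ hS).amalgamate x hx)) (gs.naturality f.op)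
    exact this.symm
  rw [nat, hs f hf, hnat, Function.surjInv_eq hg, (hch f hf).choose_spec]

/-- sections over `U` of the constant sheaf -/
noncomputable abbrev G (U : C) : ModuleCat.{u} Λ ⥤ ModuleCat.{u} Λ :=
  constantSheaf J (ModuleCat.{u} Λ) ⋙ (sheafSections J (ModuleCat.{u} Λ)).obj (op U)

theorem G_surjective {N N' : ModuleCat.{u} Λ} (g : N ⟶ N') (hg : Function.Surjective g.hom)
    (U : C) : Function.Surjective ((G J Λ U).map g).hom := by
  have := surj_aux J Λ g hg (sheafify J (cP Λ N)) (sheafify J (cP Λ N'))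
    ((presheafToSheaf J _).obj (cP Λ N)).property ((presheafToSheaf J _).obj (cP Λ N')).property
    (toSheafify J (cP Λ N)) (toSheafify J (cP Λ N'))
    (sheafifyMap J ((Functor.const Cᵒᵖ).map g)) (by
      intro V n
      have h := toSheafify_naturality J ((Functor.const Cᵒᵖ).map g)
      have := congrArg (fun m => (m.app (op V)).hom n) h
      exact this.symm) U
  exact this

instance G_preservesFiniteLimits (U : C) : PreservesFiniteLimits (G J Λ U) := by
  show PreservesFiniteLimits ((Functor.const Cᵒᵖ ⋙ presheafToSheaf J (ModuleCat.{u} Λ)) ⋙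
    (sheafToPresheaf J (ModuleCat.{u} Λ) ⋙ (evaluation Cᵒᵖ (ModuleCat.{u} Λ)).obj (op U)))
  infer_instance

instance G_additive (U : C) : (G J Λ U).Additive :=
  Functor.additive_of_preserves_binary_products _

instance G_preservesFiniteColimits (U : C) : PreservesFiniteColimits (G J Λ U) := by
  rw [Functor.preservesFiniteColimits_iff_forall_exact_map_and_epi]
  intro S hS
  refine ⟨(((Functor.preservesFiniteLimits_iff_forall_exact_map_and_mono (G J Λ U)).1
    inferInstance) S hS).1, ?_⟩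
  haveI := hS.epi_g
  rw [ModuleCat.epi_iff_surjective]
  exact G_surjective J Λ S.g ((ModuleCat.epi_iff_surjective S.g).1 inferInstance) U

theorem G_map_smul (U : C) (N : ModuleCat.{u} Λ) (a : Λ) :
    (G J Λ U).map (a • 𝟙 N) = a • 𝟙 ((G J Λ U).obj N) := by
  have h1 : (Functor.const Cᵒᵖ).map (a • 𝟙 N) = a • 𝟙 (cP Λ N) := by
    ext X
    rfl
  have h2 : sheafifyMap J ((Functor.const Cᵒᵖ).map (a • 𝟙 N)) =
      a • 𝟙 (sheafify J (cP Λ N)) := by
    apply sheafify_hom_ext J _ _ ((presheafToSheaf J _).obj (cP Λ N)).property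
    rw [← toSheafify_naturality, h1, Linear.smul_comp, Linear.comp_smul, Category.id_comp,
      Category.comp_id]
  have h3 := congrArg (fun m => m.app (op U)) h2
  exact h3

end site

section EW

variable (Λ : Type u) [CommRing Λ]

/-- inclusion of f.p. modules -/
abbrev ιFP : FP Λ ⥤ ModuleCat.{u} Λ := ObjectProperty.ι _

instance : (ιFP Λ).PreservesZeroMorphisms := ⟨fun _ _ => rfl⟩

theorem ιFP_preservesCokernel {P N : FP Λ} (f : P ⟶ N) :
    PreservesColimit (parallelPair f 0) (ιFP Λ) := by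
  obtain ⟨hc⟩ := isColimitCoker f
  let S : ShortComplex (ModuleCat.{u} Λ) :=
    ShortComplex.mk ((ιFP Λ).map f) ((ιFP Λ).map (cokerπ f))
      (by rw [← Functor.map_comp, comp_cokerπ, Functor.map_zero])
  have hS : S.Exact := ModuleCat.shortComplex_exact S (cokerπ_exact f)
  haveI : Epi S.g := (ModuleCat.epi_iff_surjective _).2 (cokerπ_surjective f)
  exact preservesColimit_of_preserves_colimit_cocone hc
    ((isColimitMapCoconeCoforkEquiv' (ιFP Λ) (comp_cokerπ f)).symm hS.gIsCokernel)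

instance : PreservesFiniteColimits (ιFP Λ) :=
  haveI : ∀ {X Y : FP Λ} (f : X ⟶ Y), PreservesColimit (parallelPair f 0) (ιFP Λ) :=
    fun f => ιFP_preservesCokernel Λ f
  Functor.preservesFiniteColimits_of_preservesCokernels (ιFP Λ)

/-- `Q ↦ X ⊗ Q` on f.p. modules -/
noncomputable abbrev Fl (X : ModuleCat.{u} Λ) : FP Λ ⥤ ModuleCat.{u} Λ := ιFP Λ ⋙ tensorLeft X

theorem smul_comm' {X Y : ModuleCat.{u} Λ} (a : Λ) (ψ : X ⟶ Y) :
    (a • 𝟙 X) ≫ ψ = ψ ≫ (a • 𝟙 Y) := by
  rw [Linear.smul_comp, Linear.comp_smul, Category.id_comp, Category.comp_id]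

theorem Fl_mulBy (X : ModuleCat.{u} Λ) (a : Λ) :
    (Fl Λ X).map (mulBy a) = a • 𝟙 ((Fl Λ X).obj (AA Λ)) := by
  apply ModuleCat.hom_ext
  apply TensorProduct.ext'
  intro x b
  show x ⊗ₜ[Λ] (a • (b : Λ)) = a • (x ⊗ₜ[Λ] (b : Λ))
  exact TensorProduct.tmul_smul a x b

variable {C : Type u} [SmallCategory C] (J : GrothendieckTopology C) (U : C) (M : ModuleCat.{u} Λ)

noncomputable abbrev F1 : FP Λ ⥤ ModuleCat.{u} Λ := Fl Λ ((G J Λ U).obj M)

noncomputable abbrev F2 : FP Λ ⥤ ModuleCat.{u} Λ := Fl Λ M ⋙ G J Λ U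

theorem F1_mulBy (a : Λ) : (F1 Λ J U M).map (mulBy a) = a • 𝟙 _ := Fl_mulBy Λ _ a

theorem F2_mulBy (a : Λ) : (F2 Λ J U M).map (mulBy a) = a • 𝟙 _ := by
  show (G J Λ U).map ((Fl Λ M).map (mulBy a)) = _
  rw [Fl_mulBy, G_map_smul]
  rfl

/-- the comparison at `Q = Λ` -/
noncomputable def φI : (F1 Λ J U M).obj (AA Λ) ≅ (F2 Λ J U M).obj (AA Λ) :=
  (ρ_ ((G J Λ U).obj M)) ≪≫ (G J Λ U).mapIso (ρ_ M).symm

theorem exists_natIso :
    ∃ t : F1 Λ J U M ≅ F2 Λ J U M, t.hom.app (AA Λ) = (φI Λ J U M).hom := by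
  obtain ⟨-, ex1⟩ := EWff.main Λ (F1 Λ J U M) (F2 Λ J U M)
  obtain ⟨-, ex2⟩ := EWff.main Λ (F2 Λ J U M) (F1 Λ J U M)
  obtain ⟨uniq11, -⟩ := EWff.main Λ (F1 Λ J U M) (F1 Λ J U M)
  obtain ⟨uniq22, -⟩ := EWff.main Λ (F2 Λ J U M) (F2 Λ J U M)
  obtain ⟨t, ht⟩ := ex1 (φI Λ J U M).hom (fun a => by
    rw [F1_mulBy, F2_mulBy]
    exact smul_comm' Λ a _)
  obtain ⟨t', ht'⟩ := ex2 (φI Λ J U M).inv (fun a => by
    rw [F1_mulBy, F2_mulBy]
    exact smul_comm' Λ a _)
  refine ⟨⟨t, t', uniq11 _ _ ?_, uniq22 _ _ ?_⟩, ht⟩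
  · rw [NatTrans.comp_app, ht, ht', Iso.hom_inv_id, NatTrans.id_app]
  · rw [NatTrans.comp_app, ht, ht', Iso.inv_hom_id, NatTrans.id_app]

end EW

theorem main18 {C : Type u} [SmallCategory C] (J : GrothendieckTopology C)
    (Λ : Type u) [CommRing Λ] (M Q : Type u) [AddCommGroup M] [Module Λ M] [AddCommGroup Q]
    [Module Λ Q] [Module.FinitePresentation Λ Q] (U : C) :
    ∃ e : ModuleCat.of Λ (TensorProduct Λ (((constantSheaf J (ModuleCat.{u} Λ)).obj (ModuleCat.of Λ M)).obj.obj (op U)) Q) ≅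
        ((constantSheaf J (ModuleCat.{u} Λ)).obj (ModuleCat.of Λ (TensorProduct Λ M Q))).obj.obj (op U),
      ∀ (s : ((constantSheaf J (ModuleCat.{u} Λ)).obj (ModuleCat.of Λ M)).obj.obj (op U)) (q : Q),
        e.hom.hom (TensorProduct.tmul Λ s q) =
          (((constantSheaf J (ModuleCat.{u} Λ)).map (ModuleCat.ofHom ((TensorProduct.mk Λ M Q).flip q))).hom.app (op U)).hom s := by
  obtain ⟨t, ht⟩ := exists_natIso Λ J U (ModuleCat.of Λ M)
  refine ⟨t.app (⟨ModuleCat.of Λ Q, inferInstance⟩ : FP Λ), ?_⟩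
  intro s q
  have nat := t.hom.naturality (hat (M := (⟨ModuleCat.of Λ Q, inferInstance⟩ : FP Λ)) q)
  rw [ht] at nat
  have h := congrArg (fun m => m.hom (s ⊗ₜ[Λ] (1 : Λ))) nat
  have h1 : ((F1 Λ J U (ModuleCat.of Λ M)).map
      (hat (M := (⟨ModuleCat.of Λ Q, inferInstance⟩ : FP Λ)) q)).hom (s ⊗ₜ[Λ] (1 : Λ)) =
      s ⊗ₜ[Λ] q := by
    show s ⊗ₜ[Λ] ((1 : Λ) • q) = s ⊗ₜ[Λ] q
    rw [one_smul]
  have h2 : (φI Λ J U (ModuleCat.of Λ M)).hom.hom (s ⊗ₜ[Λ] (1 : Λ)) =
      ((G J Λ U).map (ρ_ (ModuleCat.of Λ M)).inv).hom s := by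
    show ((G J Λ U).map (ρ_ (ModuleCat.of Λ M)).inv).hom ((1 : Λ) • s) = _
    rw [one_smul]
  have h3 : (ρ_ (ModuleCat.of Λ M)).inv ≫
      (Fl Λ (ModuleCat.of Λ M)).map (hat (M := (⟨ModuleCat.of Λ Q, inferInstance⟩ : FP Λ)) q) =
      ModuleCat.ofHom ((TensorProduct.mk Λ M Q).flip q) := by
    apply ModuleCat.hom_ext
    apply LinearMap.ext
    intro m
    show m ⊗ₜ[Λ] ((1 : Λ) • q) = m ⊗ₜ[Λ] q
    rw [one_smul]
  have h' : (t.hom.app _).hom (((F1 Λ J U (ModuleCat.of Λ M)).map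
      (hat (M := (⟨ModuleCat.of Λ Q, inferInstance⟩ : FP Λ)) q)).hom (s ⊗ₜ[Λ] (1 : Λ))) =
      ((G J Λ U).map ((Fl Λ (ModuleCat.of Λ M)).map
        (hat (M := (⟨ModuleCat.of Λ Q, inferInstance⟩ : FP Λ)) q))).hom
        ((φI Λ J U (ModuleCat.of Λ M)).hom.hom (s ⊗ₜ[Λ] (1 : Λ))) := h
  rw [h1, h2] at h'
  rw [← h3, Functor.map_comp]
  exact h'

theorem main19 {C : Type u} [SmallCategory C] (J : GrothendieckTopology C)
    (Λ : Type u) [CommRing Λ] (hΛ : ∀ I : Ideal Λ, I.FG → Module.FinitePresentation Λ I)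
    (M : Type u) [AddCommGroup M] [Module Λ M] [Module.Flat Λ M] (U : C) :
    Module.Flat Λ (((constantSheaf J (ModuleCat.{u} Λ)).obj (ModuleCat.of Λ M)).obj.obj (op U)) := by
  rw [Module.Flat.iff_lTensor_injective]
  intro I hI
  obtain ⟨t, -⟩ := exists_natIso Λ J U (ModuleCat.of Λ M)
  haveI := hΛ I hI
  obtain ⟨I', hI'⟩ : ∃ I' : FP Λ, I' = ⟨ModuleCat.of Λ I, inferInstance⟩ := ⟨_, rfl⟩
  subst hI'
  obtain ⟨incl, hincl⟩ : ∃ incl : (⟨ModuleCat.of Λ I, inferInstance⟩ : FP Λ) ⟶ AA Λ,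
      lin incl = I.subtype := ⟨mkHom I.subtype, rfl⟩
  have nat := t.hom.naturality incl
  haveI : Mono ((Fl Λ (ModuleCat.of Λ M)).map incl) := by
    rw [ModuleCat.mono_iff_injective]
    have := Module.Flat.lTensor_preserves_injective_linearMap (M := M) I.subtype
      Subtype.val_injective
    rw [← hincl] at this
    exact this
  have hF2 : Mono ((F2 Λ J U (ModuleCat.of Λ M)).map incl) := by
    show Mono ((G J Λ U).map ((Fl Λ (ModuleCat.of Λ M)).map incl))
    infer_instance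
  haveI hiso : IsIso (t.hom.app (⟨ModuleCat.of Λ I, inferInstance⟩ : FP Λ)) := inferInstance
  have hcomp : Mono ((F1 Λ J U (ModuleCat.of Λ M)).map incl ≫ t.hom.app (AA Λ)) := by
    rw [nat]
    exact @mono_comp _ _ _ _ _ _ (IsIso.mono_of_iso _) _ hF2
  have this : Mono ((F1 Λ J U (ModuleCat.of Λ M)).map incl) :=
    @mono_of_mono _ _ _ _ _ _ (t.hom.app (AA Λ)) hcomp
  have := (ModuleCat.mono_iff_injective _).1 this
  rw [← hincl]
  exact this

end Groth.Agent.Lib.ConstSh
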