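import Groth.Prelude.Def_W4c3ghconstell
import Groth.Agent.Lib.CoeffIso_helper9
import Mathlib.Analysis.Normed.Group.InfiniteSum

/-!
# Constellations: weights of equivariant modules (helper9)

Bookkeeping for `W4c3ghconstell`: isotypic components are subcomodules, the `R`-span of a
subcomodule is a subcomodule, `genIn` and the weight `theta`.
-/

set_option autoImplicit false
universe u v w w'
open TensorProduct

namespace Constell9

open W4c3ghconstell
open Groth.Agent.Lib.Comod_helper9 Groth.Agent.Lib.ComodDual_helper9 Groth.Agent.Lib.Subcoalg_helper9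
  Groth.Agent.Lib.CoeffSpace_helper9 Groth.Agent.Lib.ComodFlag_helper9 Groth.Agent.Lib.CoeffIso_helper9

section Coalg

variable {k : Type u} [Field k] {A : Type v} [AddCommGroup A] [Module k A] [Coalgebra k A]
variable {M : Type w'} [AddCommGroup M] [Module k M] [HopfRep.Comod k A M]

theorem isSubcomod_isoComp (D : Submodule k A) (hD : W4c3ghconstell.IsSubcoalg k A D) :
    HopfRep.IsSubcomod (k := k) (A := A) (isoComp M D) := by
  apply isSubcomod_of_act_mem
  intro φ m hm
  have hm' : HopfRep.Comod.coact (k := k) (A := A) m ∈ LinearMap.range (D.subtype.lTensor M) := hm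
  show HopfRep.Comod.coact (k := k) (A := A) (act φ m) ∈ LinearMap.range (D.subtype.lTensor M)
  apply mem_range_lTensor_subtype_of_evl
  intro ψ
  have h1 : evl A ψ (HopfRep.Comod.coact (k := k) (A := A) (act φ m)) =
      coeffMap (C := A) ψ (act φ m) := rfl
  rw [h1, act_comm_of_isComodHom (coeffMap (C := A) ψ) (isComodHom_coeffMap ψ)]
  apply act_mem_of_isSubcomod D (isSubcomod_of_isSubcoalg D hD) φ
  exact evl_mem_of_mem_range_lTensor_subtype D _ hm' ψ

theorem exists_isoComp_inf_ne_bot (N : Submodule k M)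
    (hN : HopfRep.IsSubcomod (k := k) (A := A) N) (hN0 : N ≠ ⊥) :
    ∃ D : SimpSub k A, N ⊓ isoComp M D.1 ≠ ⊥ := by
  obtain ⟨F, hFN, hF, hFne, hFfin, hFmin⟩ := exists_minimal_subcomod_le (C := A) N hN hN0
  letI cF : HopfRep.Comod k A F := ComodSub.Comod.restr (inferInstance : HopfRep.Comod k A M) F hF
  have hFs : HopfRep.IsSimpleComod k A F :=
    isSimpleComod_restr_of_minimal (inferInstance : HopfRep.Comod k A M) F hF hFne hFmin
  refine ⟨⟨coeffSpace k A F, isSimpleSubcoalg_coeffSpace hFs⟩, ?_⟩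
  intro h
  apply hFne
  rw [eq_bot_iff, ← h]
  refine le_inf hFN ?_
  intro f hf
  show HopfRep.Comod.coact (k := k) (A := A) f ∈
    LinearMap.range ((coeffSpace k A F).subtype.lTensor M)
  apply mem_range_lTensor_subtype_of_evl
  intro ψ
  have h2 := ComodSub.restr_coact_coe (inferInstance : HopfRep.Comod k A M) F hF ⟨f, hf⟩
  have h2' : HopfRep.Comod.coact (k := k) (A := A) f = F.subtype.rTensor A (cF.coact ⟨f, hf⟩) :=
    h2.symm
  rw [h2', evl_rTensor]
  exact coeffMap_mem_coeffSpace (ψ ∘ₗ F.subtype) ⟨f, hf⟩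

end Coalg

section Num

variable {k : Type u} [Field k] {A : Type v} [AddCommGroup A] [Module k A] [Coalgebra k A]
variable {M : Type w'} [AddCommGroup M] [Module k M] [HopfRep.Comod k A M]
variable (h : SimpSub k A → ℕ) (θ : SimpSub k A → ℚ)

theorem hilbAt_le_of_le
    (hfinM : ∀ D : SimpSub k A, Module.Finite k ↥(isoComp M D.1) ∧ Module.finrank k ↥(isoComp M D.1) = h D)
    {N N' : Submodule k M} (D : SimpSub k A)
    (hle : N ⊓ isoComp M D.1 ≤ N' ⊓ isoComp M D.1) : hilbAt M N D ≤ hilbAt M N' D := by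
  haveI := (hfinM D).1
  haveI : Module.Finite k ↥(N' ⊓ isoComp M D.1) := Submodule.finiteDimensional_of_le inf_le_right
  exact Submodule.finrank_mono hle

theorem hilbAt_mono
    (hfinM : ∀ D : SimpSub k A, Module.Finite k ↥(isoComp M D.1) ∧ Module.finrank k ↥(isoComp M D.1) = h D)
    {N N' : Submodule k M} (hNN : N ≤ N') (D : SimpSub k A) : hilbAt M N D ≤ hilbAt M N' D :=
  hilbAt_le_of_le h hfinM D (inf_le_inf_right _ hNN)

theorem hilbAt_le
    (hfinM : ∀ D : SimpSub k A, Module.Finite k ↥(isoComp M D.1) ∧ Module.finrank k ↥(isoComp M D.1) = h D)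
    (N : Submodule k M) (D : SimpSub k A) : hilbAt M N D ≤ h D := by
  haveI := (hfinM D).1
  rw [← (hfinM D).2]
  exact Submodule.finrank_mono inf_le_right

theorem hilbAt_top
    (hfinM : ∀ D : SimpSub k A, Module.Finite k ↥(isoComp M D.1) ∧ Module.finrank k ↥(isoComp M D.1) = h D)
    (D : SimpSub k A) : hilbAt M (⊤ : Submodule k M) D = h D := by
  unfold hilbAt
  rw [top_inf_eq]
  exact (hfinM D).2

theorem hilbAt_eq_zero_iff
    (hfinM : ∀ D : SimpSub k A, Module.Finite k ↥(isoComp M D.1) ∧ Module.finrank k ↥(isoComp M D.1) = h D)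
    (N : Submodule k M) (D : SimpSub k A) : hilbAt M N D = 0 ↔ N ⊓ isoComp M D.1 = ⊥ := by
  haveI := (hfinM D).1
  haveI : Module.Finite k ↥(N ⊓ isoComp M D.1) := Submodule.finiteDimensional_of_le inf_le_right
  exact Submodule.finrank_eq_zero

theorem summable_abs (hsum : Summable (fun D => (θ D : ℝ) * (h D : ℝ))) :
    Summable (fun D => |(θ D : ℝ)| * (h D : ℝ)) := by
  have := hsum.abs
  refine this.congr (fun D => ?_)
  rw [abs_mul, Nat.abs_cast]

theorem summable_term
    (hfinM : ∀ D : SimpSub k A, Module.Finite k ↥(isoComp M D.1) ∧ Module.finrank k ↥(isoComp M D.1) = h D)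
    (hsum : Summable (fun D => (θ D : ℝ) * (h D : ℝ))) (N : Submodule k M) :
    Summable (fun D => (θ D : ℝ) * (hilbAt M N D : ℝ)) := by
  refine Summable.of_norm_bounded (summable_abs h θ hsum) (fun D => ?_)
  rw [Real.norm_eq_abs, abs_mul, Nat.abs_cast]
  exact mul_le_mul_of_nonneg_left (by exact_mod_cast hilbAt_le h hfinM N D) (abs_nonneg _)

theorem theta_le_theta
    (hfinM : ∀ D : SimpSub k A, Module.Finite k ↥(isoComp M D.1) ∧ Module.finrank k ↥(isoComp M D.1) = h D)
    (hsum : Summable (fun D => (θ D : ℝ) * (h D : ℝ))) {N N' : Submodule k M}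
    (hle : ∀ D, (θ D : ℝ) * (hilbAt M N D : ℝ) ≤ (θ D : ℝ) * (hilbAt M N' D : ℝ)) :
    theta M θ N ≤ theta M θ N' :=
  Summable.tsum_le_tsum hle (summable_term h θ hfinM hsum N) (summable_term h θ hfinM hsum N')

theorem theta_lt_theta
    (hfinM : ∀ D : SimpSub k A, Module.Finite k ↥(isoComp M D.1) ∧ Module.finrank k ↥(isoComp M D.1) = h D)
    (hsum : Summable (fun D => (θ D : ℝ) * (h D : ℝ))) {N N' : Submodule k M}
    (hle : ∀ D, (θ D : ℝ) * (hilbAt M N D : ℝ) ≤ (θ D : ℝ) * (hilbAt M N' D : ℝ))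
    (D₁ : SimpSub k A)
    (hlt : (θ D₁ : ℝ) * (hilbAt M N D₁ : ℝ) < (θ D₁ : ℝ) * (hilbAt M N' D₁ : ℝ)) :
    theta M θ N < theta M θ N' :=
  Summable.tsum_lt_tsum hle hlt (summable_term h θ hfinM hsum N) (summable_term h θ hfinM hsum N')

theorem theta_nonneg {N : Submodule k M}
    (hnn : ∀ D, 0 ≤ (θ D : ℝ) * (hilbAt M N D : ℝ)) : 0 ≤ theta M θ N :=
  tsum_nonneg hnn

theorem theta_pos
    (hfinM : ∀ D : SimpSub k A, Module.Finite k ↥(isoComp M D.1) ∧ Module.finrank k ↥(isoComp M D.1) = h D)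
    (hsum : Summable (fun D => (θ D : ℝ) * (h D : ℝ))) {N : Submodule k M}
    (hnn : ∀ D, 0 ≤ (θ D : ℝ) * (hilbAt M N D : ℝ)) (D₁ : SimpSub k A)
    (hpos : 0 < (θ D₁ : ℝ) * (hilbAt M N D₁ : ℝ)) : 0 < theta M θ N :=
  (summable_term h θ hfinM hsum N).tsum_pos hnn D₁ hpos

theorem theta_top
    (hfinM : ∀ D : SimpSub k A, Module.Finite k ↥(isoComp M D.1) ∧ Module.finrank k ↥(isoComp M D.1) = h D)
    (hsum0 : HasSum (fun D => (θ D : ℝ) * (h D : ℝ)) 0) : theta M θ (⊤ : Submodule k M) = 0 := by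
  unfold theta
  have : (fun D : SimpSub k A => (θ D : ℝ) * (hilbAt M (⊤ : Submodule k M) D : ℝ)) =
      fun D => (θ D : ℝ) * (h D : ℝ) := by
    funext D
    rw [hilbAt_top h hfinM]
  rw [this]
  exact hsum0.tsum_eq

end Num

section Stab

variable {k : Type u} [Field k] {A : Type v} [CommRing A] [HopfAlgebra k A]
variable {R : Type w} [CommRing R] [Algebra k R] [HopfRep.Comod k A R]
variable {M : Type w'} [AddCommGroup M] [Module k M] [Module R M] [IsScalarTower k R M]
  [HopfRep.Comod k A M] [TameAct.IsHopfMod k A R M]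

omit [HopfRep.Comod k A R] [HopfRep.Comod k A M] [TameAct.IsHopfMod k A R M] in
theorem ev_hmSMul_tmul (φ : A →ₗ[k] k) (r : R) (a : A) (y : M ⊗[k] A) :
    ev M φ (TameAct.hmSMul k A R M (r ⊗ₜ[k] a) y) = r • ev M (φ ∘ₗ LinearMap.mulLeft k a) y := by
  induction y using TensorProduct.induction_on with
  | zero => simp
  | add x y hx hy => simp only [map_add, hx, hy, smul_add]
  | tmul m a' =>
    rw [TameAct.hmSMul_tmul, ev_tmul, ev_tmul, LinearMap.comp_apply, LinearMap.mulLeft_apply, smul_comm]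

theorem act_smul_mem (T : Submodule R M) (n : M) (hn : ∀ φ : A →ₗ[k] k, act φ n ∈ T) (r : R)
    (φ : A →ₗ[k] k) : act φ (r • n) ∈ T := by
  rw [act_apply, TameAct.IsHopfMod.coact_smul]
  suffices H : ∀ x : R ⊗[k] A, ∀ φ : A →ₗ[k] k,
      ev M φ (TameAct.hmSMul k A R M x (HopfRep.Comod.coact (k := k) (A := A) n)) ∈ T from H _ φ
  intro x
  induction x using TensorProduct.induction_on with
  | zero => intro φ; simp
  | add x y hx hy =>
    intro φ
    rw [map_add, LinearMap.add_apply, map_add]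
    exact T.add_mem (hx φ) (hy φ)
  | tmul r' a =>
    intro φ
    rw [ev_hmSMul_tmul]
    exact T.smul_mem r' (hn _)

theorem isSubcomod_span (T : Set M)
    (hT : ∀ t ∈ T, ∀ φ : A →ₗ[k] k, act φ t ∈ Submodule.span R T) :
    HopfRep.IsSubcomod (k := k) (A := A) ((Submodule.span R T).restrictScalars k) := by
  have key : ∀ n ∈ Submodule.span R T, ∀ φ : A →ₗ[k] k, act φ n ∈ Submodule.span R T := by
    intro n hn
    induction hn using Submodule.span_induction with
    | mem t ht => exact fun φ => hT t ht φ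
    | zero => intro φ; rw [map_zero]; exact Submodule.zero_mem _
    | add x y _ _ hx hy => intro φ; rw [map_add]; exact Submodule.add_mem _ (hx φ) (hy φ)
    | smul r x _ hx => intro φ; exact act_smul_mem _ x hx r φ
  apply isSubcomod_of_act_mem
  intro φ n hn
  exact key n hn φ

variable (k A R M)

omit [HopfRep.Comod k A R] [TameAct.IsHopfMod k A R M] in
theorem genIn_le (S : Set (SimpSub k A)) (N : Submodule R M) : genIn k A R M S N ≤ N := by
  apply Submodule.span_le.mpr
  intro x hx
  simp only [Set.mem_iUnion] at hx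
  obtain ⟨D, hD, hx⟩ := hx
  exact hx.1

omit [HopfRep.Comod k A R] [TameAct.IsHopfMod k A R M] in
theorem inf_isoComp_le_genIn (S : Set (SimpSub k A)) (N : Submodule R M) (D : SimpSub k A)
    (hD : D ∈ S) :
    N.restrictScalars k ⊓ isoComp M D.1 ≤ (genIn k A R M S N).restrictScalars k := by
  intro x hx
  apply Submodule.subset_span
  simp only [Set.mem_iUnion]
  exact ⟨D, hD, hx⟩

theorem isSubcomod_genIn (S : Set (SimpSub k A)) (N : Submodule R M)
    (hN : HopfRep.IsSubcomod (k := k) (A := A) (N.restrictScalars k)) :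
    HopfRep.IsSubcomod (k := k) (A := A) ((genIn k A R M S N).restrictScalars k) := by
  apply isSubcomod_span
  intro t ht φ
  simp only [Set.mem_iUnion] at ht
  obtain ⟨D, hD, ht⟩ := ht
  apply Submodule.subset_span
  simp only [Set.mem_iUnion]
  refine ⟨D, hD, ?_⟩
  exact act_mem_of_isSubcomod _ (isSubcomod_inf _ _ hN (isSubcomod_isoComp D.1 D.2.2.1)) φ ht

omit [HopfRep.Comod k A R] [TameAct.IsHopfMod k A R M] in
theorem genIn_genIn (S : Set (SimpSub k A)) (N : Submodule R M) :
    genIn k A R M S (genIn k A R M S N) = genIn k A R M S N := by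
  apply le_antisymm (genIn_le k A R M S _)
  apply Submodule.span_le.mpr
  intro x hx
  simp only [Set.mem_iUnion] at hx
  obtain ⟨D, hD, hx⟩ := hx
  apply Submodule.subset_span
  simp only [Set.mem_iUnion]
  exact ⟨D, hD, ⟨inf_isoComp_le_genIn k A R M S N D hD hx, hx.2⟩⟩

variable {k A R M}

omit [HopfRep.Comod k A R] [TameAct.IsHopfMod k A R M] in
theorem term_genIn_le (h : SimpSub k A → ℕ) (θ : SimpSub k A → ℚ)
    (hfinM : ∀ D : SimpSub k A, Module.Finite k ↥(isoComp M D.1) ∧ Module.finrank k ↥(isoComp M D.1) = h D)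
    (N : Submodule R M) (D : SimpSub k A) :
    (θ D : ℝ) * (hilbAt M ((genIn k A R M {D | θ D < 0} N).restrictScalars k) D : ℝ) ≤
      (θ D : ℝ) * (hilbAt M (N.restrictScalars k) D : ℝ) := by
  by_cases hD : θ D < 0
  · have h1 : hilbAt M (N.restrictScalars k) D ≤
        hilbAt M ((genIn k A R M {D | θ D < 0} N).restrictScalars k) D :=
      hilbAt_le_of_le h hfinM D (le_inf (inf_isoComp_le_genIn k A R M _ N D hD) inf_le_right)
    have h2 : ((θ D : ℚ) : ℝ) ≤ 0 := by exact_mod_cast hD.le
    exact mul_le_mul_of_nonpos_left (by exact_mod_cast h1) h2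
  · have h1 : hilbAt M ((genIn k A R M {D | θ D < 0} N).restrictScalars k) D ≤
        hilbAt M (N.restrictScalars k) D :=
      hilbAt_mono h hfinM (fun x hx => genIn_le k A R M _ N hx) D
    have h2 : (0 : ℝ) ≤ ((θ D : ℚ) : ℝ) := by exact_mod_cast not_lt.mp hD
    exact mul_le_mul_of_nonneg_left (by exact_mod_cast h1) h2

omit [HopfRep.Comod k A R] [TameAct.IsHopfMod k A R M] in
theorem theta_genIn_le (h : SimpSub k A → ℕ) (θ : SimpSub k A → ℚ)
    (hfinM : ∀ D : SimpSub k A, Module.Finite k ↥(isoComp M D.1) ∧ Module.finrank k ↥(isoComp M D.1) = h D)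
    (hsum : Summable (fun D => (θ D : ℝ) * (h D : ℝ))) (N : Submodule R M) :
    theta M θ ((genIn k A R M {D | θ D < 0} N).restrictScalars k) ≤ theta M θ (N.restrictScalars k) :=
  theta_le_theta h θ hfinM hsum (term_genIn_le h θ hfinM N)

omit [HopfRep.Comod k A R] [TameAct.IsHopfMod k A R M] in
/-- terms of `theta N` are nonnegative when the negative-weight part of `N` vanishes -/
theorem term_nonneg_of_genIn_eq_bot (h : SimpSub k A → ℕ) (θ : SimpSub k A → ℚ)
    (hfinM : ∀ D : SimpSub k A, Module.Finite k ↥(isoComp M D.1) ∧ Module.finrank k ↥(isoComp M D.1) = h D)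
    (N : Submodule R M) (hbot : genIn k A R M {D | θ D < 0} N = ⊥) (D : SimpSub k A) :
    0 ≤ (θ D : ℝ) * (hilbAt M (N.restrictScalars k) D : ℝ) := by
  by_cases hD : θ D < 0
  · have h0 : hilbAt M (N.restrictScalars k) D = 0 := by
      rw [hilbAt_eq_zero_iff h hfinM, eq_bot_iff]
      intro x hx
      have := inf_isoComp_le_genIn k A R M {D | θ D < 0} N D hD hx
      rw [hbot] at this
      exact this
    rw [h0]; simp
  · have h2 : (0 : ℝ) ≤ ((θ D : ℚ) : ℝ) := by exact_mod_cast not_lt.mp hD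
    exact mul_nonneg h2 (Nat.cast_nonneg _)

end Stab


section Main

variable {k : Type u} [Field k] {A : Type v} [CommRing A] [HopfAlgebra k A]
variable {R : Type w} [CommRing R] [Algebra k R] [HopfRep.Comod k A R]
variable {M : Type w'} [AddCommGroup M] [Module k M] [Module R M] [IsScalarTower k R M]
  [HopfRep.Comod k A M] [TameAct.IsHopfMod k A R M]
variable (h : SimpSub k A → ℕ) (θ : SimpSub k A → ℚ)

omit [HopfRep.Comod k A R] [TameAct.IsHopfMod k A R M] in
theorem restrictScalars_eq_top_of (N : Submodule R M) (hN : (⊤ : Submodule k M) ≤ N.restrictScalars k) :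
    N = ⊤ := by
  rw [eq_top_iff]
  intro x _
  exact hN (Submodule.mem_top : x ∈ (⊤ : Submodule k M))

theorem genIn_top_eq_top_of_stable
    (hsum : HasSum (fun D => (θ D : ℝ) * (h D : ℝ)) 0)
    (hne : ∃ D, θ D ≠ 0 ∧ h D ≠ 0)
    (hM : IsConstellation k A R M h) (hst : IsThetaStable k A R M θ) :
    genIn k A R M {D | θ D < 0} ⊤ = ⊤ := by
  have hfinM := hM.2.2
  have hsub : HopfRep.IsSubcomod (k := k) (A := A)
      ((genIn k A R M {D | θ D < 0} (⊤ : Submodule R M)).restrictScalars k) :=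
    isSubcomod_genIn k A R M _ _ (by rw [Submodule.restrictScalars_top]; exact isSubcomod_top)
  have hle := theta_genIn_le h θ hfinM hsum.summable (⊤ : Submodule R M)
  have h0 : theta M θ ((⊤ : Submodule R M).restrictScalars k) = 0 := by
    rw [Submodule.restrictScalars_top]; exact theta_top h θ hfinM hsum
  by_contra hne'
  by_cases hbot : genIn k A R M {D | θ D < 0} (⊤ : Submodule R M) = ⊥
  · have hnn : ∀ D, 0 ≤ (θ D : ℝ) * (h D : ℝ) := by
      intro D
      have := term_nonneg_of_genIn_eq_bot h θ hfinM (⊤ : Submodule R M) hbot D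
      rwa [Submodule.restrictScalars_top, hilbAt_top h hfinM] at this
    have hall := (hasSum_zero_iff_of_nonneg hnn).mp hsum
    obtain ⟨D, hθD, hhD⟩ := hne
    have := congrFun hall D
    simp only [Pi.zero_apply, mul_eq_zero] at this
    rcases this with h1 | h1
    · exact hθD (by exact_mod_cast h1)
    · exact hhD (by exact_mod_cast h1)
  · have := hst.2 _ hsub hbot hne'
    linarith

theorem genIn_top_eq_top_of_semistable
    (hsum : HasSum (fun D => (θ D : ℝ) * (h D : ℝ)) 0)
    (hM : IsConstellation k A R M h) (hθ : ∀ D, θ D ≠ 0)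
    (hss : IsThetaSemistable k A R M θ) :
    genIn k A R M {D | θ D < 0} ⊤ = ⊤ := by
  have hfinM := hM.2.2
  have hsub : HopfRep.IsSubcomod (k := k) (A := A)
      ((genIn k A R M {D | θ D < 0} (⊤ : Submodule R M)).restrictScalars k) :=
    isSubcomod_genIn k A R M _ _ (by rw [Submodule.restrictScalars_top]; exact isSubcomod_top)
  have hge := hss.2 _ hsub
  have h0 : theta M θ ((⊤ : Submodule R M).restrictScalars k) = 0 := by
    rw [Submodule.restrictScalars_top]; exact theta_top h θ hfinM hsum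
  have hterm := term_genIn_le h θ hfinM (⊤ : Submodule R M)
  have heq : ∀ D, hilbAt M ((genIn k A R M {D | θ D < 0} (⊤ : Submodule R M)).restrictScalars k) D
      = h D := by
    intro D
    by_contra hD
    have hlt : (θ D : ℝ) *
        (hilbAt M ((genIn k A R M {D | θ D < 0} (⊤ : Submodule R M)).restrictScalars k) D : ℝ) <
        (θ D : ℝ) * (hilbAt M ((⊤ : Submodule R M).restrictScalars k) D : ℝ) := by
      refine lt_of_le_of_ne (hterm D) ?_
      intro he
      rw [Submodule.restrictScalars_top, hilbAt_top h hfinM] at he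
      have hθD : ((θ D : ℚ) : ℝ) ≠ 0 := by exact_mod_cast hθ D
      have := mul_left_cancel₀ hθD he
      exact hD (by exact_mod_cast this)
    have := theta_lt_theta h θ hfinM hsum.summable hterm D hlt
    linarith
  have hcontain : ∀ D : SimpSub k A, isoComp M D.1 ≤
      (genIn k A R M {D | θ D < 0} (⊤ : Submodule R M)).restrictScalars k := by
    intro D
    haveI := (hfinM D).1
    have hfr : Module.finrank k ↥((genIn k A R M {D | θ D < 0} (⊤ : Submodule R M)).restrictScalars k ⊓
        isoComp M D.1) = Module.finrank k ↥(isoComp M D.1) := by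
      rw [(hfinM D).2]; exact heq D
    have := Submodule.eq_of_le_of_finrank_eq inf_le_right hfr
    rw [← this]; exact inf_le_left
  apply restrictScalars_eq_top_of (k := k)
  rw [← hM.2.1]
  exact iSup_le hcontain

theorem isThetaSemistable_of_gen
    (hsum : HasSum (fun D => (θ D : ℝ) * (h D : ℝ)) 0)
    (hM : IsConstellation k A R M h)
    (h0 : theta M θ (⊤ : Submodule k M) = 0)
    (hss : ∀ N : Submodule R M, HopfRep.IsSubcomod (k := k) (A := A) (N.restrictScalars k) → N ≠ ⊥ →
      N ≠ ⊤ → genIn k A R M {D | θ D < 0} N = N → 0 ≤ theta M θ (N.restrictScalars k)) :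
    IsThetaSemistable k A R M θ := by
  have hfinM := hM.2.2
  refine ⟨h0, fun N hN => ?_⟩
  have hle := theta_genIn_le h θ hfinM hsum.summable N
  by_cases hbot : genIn k A R M {D | θ D < 0} N = ⊥
  · exact theta_nonneg θ (term_nonneg_of_genIn_eq_bot h θ hfinM N hbot)
  by_cases htop : genIn k A R M {D | θ D < 0} N = ⊤
  · have hNtop : N = ⊤ := eq_top_iff.mpr (htop ▸ genIn_le k A R M _ N)
    rw [hNtop, Submodule.restrictScalars_top]
    exact h0.ge
  · have := hss _ (isSubcomod_genIn k A R M _ N hN) hbot htop (genIn_genIn k A R M _ N)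
    linarith

omit [HopfRep.Comod k A R] [TameAct.IsHopfMod k A R M] in
/-- a nonzero equivariant submodule whose negative part vanishes has positive weight -/
theorem theta_pos_of_genIn_eq_bot
    (hsum : HasSum (fun D => (θ D : ℝ) * (h D : ℝ)) 0)
    (hM : IsConstellation k A R M h) (hθ : ∀ D, h D ≠ 0 → θ D ≠ 0)
    (N : Submodule R M) (hN : HopfRep.IsSubcomod (k := k) (A := A) (N.restrictScalars k))
    (hN0 : N ≠ ⊥)
    (hnn : ∀ D, 0 ≤ (θ D : ℝ) * (hilbAt M (N.restrictScalars k) D : ℝ))
    (hneg : ∀ D, θ D < 0 → hilbAt M (N.restrictScalars k) D = 0) :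
    0 < theta M θ (N.restrictScalars k) := by
  have hfinM := hM.2.2
  have hN0' : N.restrictScalars k ≠ ⊥ := by
    intro hb
    apply hN0
    rw [eq_bot_iff]
    intro x hx
    have : x ∈ N.restrictScalars k := hx
    rw [hb] at this
    exact this
  obtain ⟨D, hD⟩ := exists_isoComp_inf_ne_bot (N.restrictScalars k) hN hN0'
  have hpos : 0 < hilbAt M (N.restrictScalars k) D := by
    rw [Nat.pos_iff_ne_zero]
    intro hz
    exact hD ((hilbAt_eq_zero_iff h hfinM _ D).mp hz)
  have hhD : h D ≠ 0 := by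
    have := hilbAt_le h hfinM (N.restrictScalars k) D
    omega
  have hθD := hθ D hhD
  have hθpos : 0 < θ D := by
    rcases lt_trichotomy (θ D) 0 with hlt | heq | hgt
    · have := hneg D hlt; omega
    · exact absurd heq hθD
    · exact hgt
  refine theta_pos h θ hfinM hsum.summable hnn D ?_
  have h2 : (0 : ℝ) < ((θ D : ℚ) : ℝ) := by exact_mod_cast hθpos
  exact mul_pos h2 (by exact_mod_cast hpos)

theorem isThetaStable_of_gen
    (hsum : HasSum (fun D => (θ D : ℝ) * (h D : ℝ)) 0)
    (hM : IsConstellation k A R M h) (hθ : ∀ D, h D ≠ 0 → θ D ≠ 0)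
    (h0 : theta M θ (⊤ : Submodule k M) = 0)
    (hs : ∀ N : Submodule R M, HopfRep.IsSubcomod (k := k) (A := A) (N.restrictScalars k) → N ≠ ⊥ →
      N ≠ ⊤ → genIn k A R M {D | θ D < 0} N = N → 0 < theta M θ (N.restrictScalars k)) :
    IsThetaStable k A R M θ := by
  have hfinM := hM.2.2
  refine ⟨h0, fun N hN hN0 hNtop => ?_⟩
  have hle := theta_genIn_le h θ hfinM hsum.summable N
  by_cases hbot : genIn k A R M {D | θ D < 0} N = ⊥
  · refine theta_pos_of_genIn_eq_bot h θ hsum hM hθ N hN hN0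
      (term_nonneg_of_genIn_eq_bot h θ hfinM N hbot) ?_
    intro D hD
    rw [hilbAt_eq_zero_iff h hfinM, eq_bot_iff]
    intro x hx
    have := inf_isoComp_le_genIn k A R M {D | θ D < 0} N D hD hx
    rw [hbot] at this
    exact this
  by_cases htop : genIn k A R M {D | θ D < 0} N = ⊤
  · exact absurd (eq_top_iff.mpr (htop ▸ genIn_le k A R M _ N)) hNtop
  · have := hs _ (isSubcomod_genIn k A R M _ N hN) hbot htop (genIn_genIn k A R M _ N)
    linarith

theorem isThetaStable_of_cyclic
    (hsum : HasSum (fun D => (θ D : ℝ) * (h D : ℝ)) 0)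
    (hM : IsConstellation k A R M h)
    (D₀ : SimpSub k A) (h1 : h D₀ = 1) (hneg : ∀ D, θ D < 0 ↔ D = D₀)
    (hθ : ∀ D, h D ≠ 0 → θ D ≠ 0)
    (hgen : genIn k A R M {D₀} ⊤ = ⊤) :
    IsThetaStable k A R M θ := by
  have hfinM := hM.2.2
  refine ⟨theta_top h θ hfinM hsum, fun N hN hN0 hNtop => ?_⟩
  -- the invariant line is not in `N`
  have hz : hilbAt M (N.restrictScalars k) D₀ = 0 := by
    by_contra hnz
    have hle1 := hilbAt_le h hfinM (N.restrictScalars k) D₀
    rw [h1] at hle1
    have hone : hilbAt M (N.restrictScalars k) D₀ = 1 := by omega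
    haveI := (hfinM D₀).1
    have hfr : Module.finrank k ↥(N.restrictScalars k ⊓ isoComp M D₀.1) =
        Module.finrank k ↥(isoComp M D₀.1) := by
      rw [(hfinM D₀).2, h1]; exact hone
    have hEq := Submodule.eq_of_le_of_finrank_eq inf_le_right hfr
    have hcont : isoComp M D₀.1 ≤ N.restrictScalars k := by rw [← hEq]; exact inf_le_left
    apply hNtop
    rw [eq_top_iff, ← hgen]
    apply Submodule.span_le.mpr
    intro x hx
    simp only [Set.mem_iUnion] at hx
    obtain ⟨D, hD, hx⟩ := hx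
    rw [Set.mem_singleton_iff] at hD
    subst hD
    exact hcont hx.2
  have hnegz : ∀ D, θ D < 0 → hilbAt M (N.restrictScalars k) D = 0 := by
    intro D hD
    rw [(hneg D).mp hD]; exact hz
  have hnn : ∀ D, 0 ≤ (θ D : ℝ) * (hilbAt M (N.restrictScalars k) D : ℝ) := by
    intro D
    by_cases hD : θ D < 0
    · rw [hnegz D hD]; simp
    · have h2 : (0 : ℝ) ≤ ((θ D : ℚ) : ℝ) := by exact_mod_cast not_lt.mp hD
      exact mul_nonneg h2 (Nat.cast_nonneg _)
  exact theta_pos_of_genIn_eq_bot h θ hsum hM hθ N hN hN0 hnn hnegz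

end Main

end Constell9
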