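import Mathlib
import Groth.Agent.Lib.GenFreeF_helper8

/-!
# The image of a constructible set under a finite type map contains an open dense subset of the
closure of each of its points (helper3)
-/

set_option autoImplicit false
universe u
open TensorProduct

namespace Groth.Agent.Lib.ConstrImageH3

/-- Over a domain `A`, a finite type algebra `B` having a prime over `(0)`: the image of
`Spec B → Spec A` contains a nonempty basic open. -/
theorem exists_basicOpen_subset_range {A B : Type u} [CommRing A] [IsDomain A] [CommRing B]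
    [Algebra A B] [Algebra.FiniteType A B] (q : Ideal B) [q.IsPrime]
    (hq : q.comap (algebraMap A B) = ⊥) :
    ∃ f : A, f ≠ 0 ∧ ∀ P : Ideal A, P.IsPrime → f ∉ P →
      ∃ Q : Ideal B, Q.IsPrime ∧ Q.comap (algebraMap A B) = P := by
  classical
  obtain ⟨f, hf0, -, hfree, -, -⟩ := GenFreeH8.generic_freeness (R := A) (S := B) B
  refine ⟨f, hf0, ?_⟩
  set Af := Localization.Away f with hAf
  set T := Af ⊗[A] B with hT
  letI : Algebra B T := Algebra.TensorProduct.rightAlgebra
  haveI hloc : IsLocalization (Algebra.algebraMapSubmonoid B (Submonoid.powers f)) T :=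
    IsLocalization.tensorRight Af (Submonoid.powers f)
  haveI : Nontrivial T := by
    rw [← not_subsingleton_iff_nontrivial,
      IsLocalization.subsingleton_iff (M := Algebra.algebraMapSubmonoid B (Submonoid.powers f))
        (S := T)]
    rintro ⟨_, ⟨n, rfl⟩, hn⟩
    have h1 : f ^ n ∈ q.comap (algebraMap A B) := by
      rw [Ideal.mem_comap, hn]
      exact Submodule.zero_mem _
    rw [hq, Ideal.mem_bot] at h1
    exact hf0 (pow_eq_zero_iff (M₀ := A) (by
      rintro rfl
      rw [pow_zero] at h1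
      exact one_ne_zero h1) |>.mp h1)
  haveI : Module.Free Af T := hfree
  haveI : Module.FaithfullyFlat Af T := inferInstance
  intro P hP hfP
  -- the prime of `A_f`
  have hdisj : Disjoint (Submonoid.powers f : Set A) (P : Set A) := by
    rw [Set.disjoint_left]
    rintro _ ⟨n, rfl⟩ hn
    exact hfP (hP.mem_of_pow_mem n hn)
  have hPf : (P.map (algebraMap A Af)).IsPrime :=
    IsLocalization.isPrime_of_isPrime_disjoint (Submonoid.powers f) Af P hP hdisj
  have hPfc : (P.map (algebraMap A Af)).comap (algebraMap A Af) = P :=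
    IsLocalization.comap_map_of_isPrime_disjoint (Submonoid.powers f) Af hP hdisj
  obtain ⟨QT, hQT⟩ := PrimeSpectrum.comap_surjective_of_faithfullyFlat (A := Af) (B := T)
    ⟨P.map (algebraMap A Af), hPf⟩
  have hQT' : QT.asIdeal.comap (algebraMap Af T) = P.map (algebraMap A Af) :=
    congrArg PrimeSpectrum.asIdeal hQT
  refine ⟨QT.asIdeal.comap (algebraMap B T), inferInstance, ?_⟩
  rw [Ideal.comap_comap]
  have hcomm : (algebraMap B T).comp (algebraMap A B)
      = (algebraMap Af T).comp (algebraMap A Af) := by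
    ext a
    simp only [RingHom.comp_apply]
    change (1 : Af) ⊗ₜ[A] (algebraMap A B a) = (algebraMap A Af a) ⊗ₜ[A] (1 : B)
    rw [Algebra.algebraMap_eq_smul_one, Algebra.algebraMap_eq_smul_one, TensorProduct.tmul_smul,
      TensorProduct.smul_tmul']
  rw [hcomm, ← Ideal.comap_comap, hQT', hPfc]

section

variable {R S : Type u} [CommRing R] [CommRing S] [Algebra R S] [Algebra.FiniteType R S]

theorem main (E : Set (PrimeSpectrum S)) (hE : Topology.IsConstructible E) (ξ : PrimeSpectrum R)
    (hξ : ξ ∈ PrimeSpectrum.comap (algebraMap R S) '' E) :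
    ∃ U : Set (PrimeSpectrum R), IsOpen U ∧
      closure ({ξ} : Set (PrimeSpectrum R)) ⊆ closure (U ∩ closure {ξ}) ∧
      U ∩ closure {ξ} ⊆ PrimeSpectrum.comap (algebraMap R S) '' E := by
  classical
  obtain ⟨q, hqE, hqξ⟩ := hξ
  obtain ⟨D, hD⟩ := PrimeSpectrum.exists_constructibleSetData_iff.mpr hE
  rw [← hD] at hqE
  simp only [PrimeSpectrum.ConstructibleSetData.toSet, Set.mem_iUnion, exists_prop] at hqE
  obtain ⟨C, hCD, hqC⟩ := hqE
  obtain ⟨hqg, hqf⟩ := hqC
  -- the ideals
  set φ := algebraMap R S with hφ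
  set p := ξ.asIdeal with hp
  have hqp : q.asIdeal.comap φ = p := congrArg PrimeSpectrum.asIdeal hqξ
  set I : Ideal S := Ideal.span (Set.range C.g) with hI
  have hIq : I ≤ q.asIdeal := by
    rw [hI, Ideal.span_le]
    exact (PrimeSpectrum.mem_zeroLocus _ _).mp hqg
  set J : Ideal S := I ⊔ p.map φ with hJ
  have hJq : J ≤ q.asIdeal := by
    refine sup_le hIq ?_
    rw [Ideal.map_le_iff_le_comap, hqp]
  have hfq : C.f ∉ q.asIdeal := by
    intro h
    apply hqf
    rw [PrimeSpectrum.mem_zeroLocus, Set.singleton_subset_iff]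
    exact h
  have hpJ : p ≤ J.comap φ := by
    rw [← Ideal.map_le_iff_le_comap]
    exact le_sup_right
  -- the rings
  letI algAC : Algebra (R ⧸ p) (S ⧸ J) := Ideal.Quotient.algebraQuotientOfLEComap hpJ
  haveI : IsScalarTower R (R ⧸ p) (S ⧸ J) := IsScalarTower.of_algebraMap_eq (fun r => rfl)
  haveI : Algebra.FiniteType R (S ⧸ J) :=
    Algebra.FiniteType.of_surjective (Ideal.Quotient.mkₐ R J) (Ideal.Quotient.mkₐ_surjective R J)
  haveI : Algebra.FiniteType (R ⧸ p) (S ⧸ J) :=
    Algebra.FiniteType.of_restrictScalars_finiteType R (R ⧸ p) (S ⧸ J)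
  set c : S ⧸ J := Ideal.Quotient.mk J C.f with hc
  set B' := Localization.Away c with hB'
  haveI : Algebra.FiniteType (S ⧸ J) B' := inferInstance
  haveI : Algebra.FiniteType (R ⧸ p) B' :=
    Algebra.FiniteType.trans (R := R ⧸ p) (S := S ⧸ J) (A := B') inferInstance inferInstance
  -- the prime of `B'` over zero
  set q₁ : Ideal (S ⧸ J) := q.asIdeal.map (Ideal.Quotient.mk J) with hq₁
  have hq₁c : q₁.comap (Ideal.Quotient.mk J) = q.asIdeal := by
    rw [hq₁, Ideal.comap_map_of_surjective _ Ideal.Quotient.mk_surjective, ← RingHom.ker_eq_comap_bot,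
      Ideal.mk_ker]
    exact sup_eq_left.mpr hJq
  haveI hq₁p : q₁.IsPrime := by
    rw [hq₁]
    exact Ideal.map_isPrime_of_surjective Ideal.Quotient.mk_surjective
      (by rw [Ideal.mk_ker]; exact hJq)
  have hcq₁ : c ∉ q₁ := by
    intro h
    apply hfq
    rw [← hq₁c]
    exact h
  have hdisj₁ : Disjoint (Submonoid.powers c : Set (S ⧸ J)) (q₁ : Set (S ⧸ J)) := by
    rw [Set.disjoint_left]
    rintro _ ⟨n, rfl⟩ hn
    exact hcq₁ (hq₁p.mem_of_pow_mem n hn)
  set q₂ : Ideal B' := q₁.map (algebraMap (S ⧸ J) B') with hq₂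
  haveI hq₂p : q₂.IsPrime :=
    IsLocalization.isPrime_of_isPrime_disjoint (Submonoid.powers c) B' q₁ hq₁p hdisj₁
  have hq₂c : q₂.comap (algebraMap (S ⧸ J) B') = q₁ :=
    IsLocalization.comap_map_of_isPrime_disjoint (Submonoid.powers c) B' hq₁p hdisj₁
  have hmkcomm : ∀ r : R, algebraMap (R ⧸ p) (S ⧸ J) (Ideal.Quotient.mk p r)
      = Ideal.Quotient.mk J (φ r) := fun r => rfl
  have hq₂zero : q₂.comap (algebraMap (R ⧸ p) B') = ⊥ := by
    rw [IsScalarTower.algebraMap_eq (R ⧸ p) (S ⧸ J) B', ← Ideal.comap_comap, hq₂c]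
    rw [eq_bot_iff]
    intro a ha
    obtain ⟨r, rfl⟩ := Ideal.Quotient.mk_surjective a
    rw [Ideal.mem_comap, hmkcomm] at ha
    have h1 : φ r ∈ q.asIdeal := by
      rw [← hq₁c]
      exact ha
    have h2 : r ∈ p := by
      rw [← hqp]
      exact h1
    rw [Ideal.mem_bot, Ideal.Quotient.eq_zero_iff_mem]
    exact h2
  haveI : (p).IsPrime := ξ.isPrime
  obtain ⟨f₀, hf₀, hf₀P⟩ := exists_basicOpen_subset_range (A := R ⧸ p) (B := B') q₂ hq₂zero
  obtain ⟨r, rfl⟩ := Ideal.Quotient.mk_surjective f₀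
  have hrp : r ∉ p := fun h => hf₀ (Ideal.Quotient.eq_zero_iff_mem.mpr h)
  refine ⟨PrimeSpectrum.basicOpen r, (PrimeSpectrum.basicOpen r).isOpen, ?_, ?_⟩
  · apply closure_mono
    rw [Set.singleton_subset_iff]
    exact ⟨hrp, subset_closure rfl⟩
  · rintro x ⟨hxr, hxξ⟩
    rw [PrimeSpectrum.closure_singleton, PrimeSpectrum.mem_zeroLocus] at hxξ
    have hpx : p ≤ x.asIdeal := hxξ
    have hxr' : r ∉ x.asIdeal := hxr
    -- the prime of `R ⧸ p`
    set P : Ideal (R ⧸ p) := x.asIdeal.map (Ideal.Quotient.mk p) with hP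
    have hPc : P.comap (Ideal.Quotient.mk p) = x.asIdeal := by
      rw [hP, Ideal.comap_map_of_surjective _ Ideal.Quotient.mk_surjective,
        ← RingHom.ker_eq_comap_bot, Ideal.mk_ker]
      exact sup_eq_left.mpr hpx
    have hPp : P.IsPrime := by
      rw [hP]
      exact Ideal.map_isPrime_of_surjective Ideal.Quotient.mk_surjective
        (by rw [Ideal.mk_ker]; exact hpx)
    have hrP : Ideal.Quotient.mk p r ∉ P := by
      intro h
      apply hxr'
      rw [← hPc]
      exact h
    obtain ⟨Q, hQp, hQc⟩ := hf₀P P hPp hrP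
    -- pull back to `S`
    set ψ : S →+* B' := (algebraMap (S ⧸ J) B').comp (Ideal.Quotient.mk J) with hψ
    refine ⟨⟨Q.comap ψ, inferInstance⟩, ?_, ?_⟩
    · rw [← hD]
      simp only [PrimeSpectrum.ConstructibleSetData.toSet, Set.mem_iUnion, exists_prop]
      refine ⟨C, hCD, ?_, ?_⟩
      · rw [PrimeSpectrum.mem_zeroLocus]
        rintro _ ⟨i, rfl⟩
        change ψ (C.g i) ∈ Q
        have : Ideal.Quotient.mk J (C.g i) = 0 := by
          rw [Ideal.Quotient.eq_zero_iff_mem]
          exact Ideal.mem_sup_left (Ideal.subset_span ⟨i, rfl⟩)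
        rw [hψ, RingHom.comp_apply, this, map_zero]
        exact Submodule.zero_mem _
      · rw [PrimeSpectrum.mem_zeroLocus, Set.singleton_subset_iff]
        intro h
        have h1 : ψ C.f ∈ Q := h
        have h2 : IsUnit (ψ C.f) := by
          rw [hψ, RingHom.comp_apply]
          exact IsLocalization.Away.algebraMap_isUnit c
        exact hQp.ne_top (Ideal.eq_top_of_isUnit_mem _ h1 h2)
    · apply PrimeSpectrum.ext
      change (Q.comap ψ).comap φ = x.asIdeal
      rw [Ideal.comap_comap]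
      have hcomm : ψ.comp φ = (algebraMap (R ⧸ p) B').comp (Ideal.Quotient.mk p) := by
        ext a
        simp only [hψ, RingHom.comp_apply]
        rw [IsScalarTower.algebraMap_apply (R ⧸ p) (S ⧸ J) B', hmkcomm]
      rw [hcomm, ← Ideal.comap_comap, hQc, hPc]

end

end Groth.Agent.Lib.ConstrImageH3
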