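import Mathlib.Topology.Constructible
import Mathlib.Topology.Spectral.Prespectral

/-!
# Constructible sets and retrocompact subspaces (lead)
-/

universe u

namespace Groth.Agent.Lib.ConstrSub_lead

open Set Topology

variable {X : Type u} [TopologicalSpace X] [PrespectralSpace X]

/-- A compact open subset of a subspace of a prespectral space is the trace of a compact open. -/
theorem exists_isCompact_isOpen_preimage_eq (T : Set X) {K : Set T} (hK : IsCompact K)
    (hKo : IsOpen K) :
    ∃ W : Set X, IsCompact W ∧ IsOpen W ∧ K = (Subtype.val : T → X) ⁻¹' W := by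
  obtain ⟨W, hW, rfl⟩ := isOpen_induced_iff.1 hKo
  have hcomp : IsCompact ((Subtype.val : T → X) '' ((Subtype.val : T → X) ⁻¹' W)) :=
    hK.image continuous_subtype_val
  obtain ⟨W', hW'c, hW'o, hsub, hW'W⟩ :=
    PrespectralSpace.exists_isCompact_and_isOpen_between hcomp hW
      (by rintro _ ⟨x, hx, rfl⟩; exact hx)
  refine ⟨W', hW'c, hW'o, ?_⟩
  ext x
  constructor
  · intro hx; exact hsub ⟨x, hx, rfl⟩
  · intro hx; exact hW'W hx

/-- Traces of open retrocompact sets on a retrocompact subspace are retrocompact. -/
theorem isRetrocompact_preimage_val (T : Set X) (hT : IsRetrocompact T) {s : Set X}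
    (hso : IsOpen s) (hs : IsRetrocompact s) :
    IsRetrocompact ((Subtype.val : T → X) ⁻¹' s) := by
  intro K hK hKo
  obtain ⟨W, hWc, hWo, rfl⟩ := exists_isCompact_isOpen_preimage_eq T hK hKo
  rw [← Set.preimage_inter, Topology.IsInducing.subtypeVal.isCompact_iff,
    Subtype.image_preimage_coe]
  exact hT (hs hWc hWo) (hso.inter hWo)

theorem isConstructible_preimage_val (T : Set X) (hT : IsRetrocompact T) {E : Set X}
    (hE : IsConstructible E) : IsConstructible ((Subtype.val : T → X) ⁻¹' E) :=
  hE.preimage continuous_subtype_val fun _ hso hs => isRetrocompact_preimage_val T hT hso hs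

end Groth.Agent.Lib.ConstrSub_lead
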