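import Mathlib
import Groth.Prelude.Def_W4c1etcurveeff2TopGrp

/-!
# Continuous characters with values in `ℤ/n` and the closure of powers and commutators
-/

namespace Groth.Agent.Lib.ContCharDual

open W4c1etcurveeff2
open scoped commutatorElement

/-- the cyclic group of order `n`, written multiplicatively. -/
abbrev Z (n : ℕ) := Multiplicative (ZMod n)

instance hasEnough (n : ℕ) [NeZero n] : HasEnoughRootsOfUnity (Z n) n where
  prim := by
    have h : orderOf (Multiplicative.ofAdd (1 : ZMod n)) = n := by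
      rw [orderOf_ofAdd_eq_addOrderOf, ZMod.addOrderOf_one]
    have h' := IsPrimitiveRoot.orderOf (Multiplicative.ofAdd (1 : ZMod n))
    rw [h] at h'
    exact ⟨Multiplicative.ofAdd (1 : ZMod n), h'⟩
  cyc := by
    have h2 : IsCyclic (Z n)ˣ :=
      isCyclic_of_surjective (toUnits (G := Z n)) (toUnits (G := Z n)).surjective
    exact Subgroup.isCyclic _

theorem Z_pow (n : ℕ) [NeZero n] (z : Z n) : z ^ n = 1 := by
  have h := pow_card_eq_one' (G := Z n) (x := z)
  rwa [Nat.card_eq_fintype_card, Fintype.card_multiplicative, ZMod.card] at h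

section Quot

variable {G : Type*} [Group G] (S : Subgroup G) [S.Normal]

/-- `G ⧸ S` is commutative when `S` contains the commutator subgroup. -/
@[reducible] def commGroupQuot (hcomm : commutator G ≤ S) : CommGroup (G ⧸ S) :=
  { (inferInstance : Group (G ⧸ S)) with
    mul_comm := by
      intro a b
      obtain ⟨a, rfl⟩ := QuotientGroup.mk_surjective a
      obtain ⟨b, rfl⟩ := QuotientGroup.mk_surjective b
      rw [← QuotientGroup.mk_mul, ← QuotientGroup.mk_mul, QuotientGroup.eq]
      apply hcomm
      have : (a * b)⁻¹ * (b * a) = ⁅b⁻¹, a⁻¹⁆ := by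
        simp [commutatorElement_def, mul_assoc]
      rw [this, commutator_def]
      exact Subgroup.commutator_mem_commutator (Subgroup.mem_top _) (Subgroup.mem_top _) }

variable {n : ℕ}

theorem exponent_dvd (hpow : ∀ g : G, g ^ n ∈ S) : Monoid.exponent (G ⧸ S) ∣ n := by
  apply Monoid.exponent_dvd_of_forall_pow_eq_one
  intro a
  obtain ⟨a, rfl⟩ := QuotientGroup.mk_surjective a
  rw [← QuotientGroup.mk_pow, QuotientGroup.eq_one_iff]
  exact hpow a

theorem exists_char_ne_one [NeZero n] [Finite (G ⧸ S)] (hcomm : commutator G ≤ S)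
    (hpow : ∀ g : G, g ^ n ∈ S) {a : G ⧸ S} (ha : a ≠ 1) :
    ∃ χ : (G ⧸ S) →* Z n, χ a ≠ 1 := by
  let _ := commGroupQuot S hcomm
  have : HasEnoughRootsOfUnity (Z n) (Monoid.exponent (G ⧸ S)) :=
    HasEnoughRootsOfUnity.of_dvd (Z n) (exponent_dvd S hpow)
  obtain ⟨φ, hφ⟩ := CommGroup.exists_apply_ne_one_of_hasEnoughRootsOfUnity (G ⧸ S) (Z n) ha
  refine ⟨(toUnits (G := Z n)).symm.toMonoidHom.comp φ, fun h => hφ ?_⟩
  have h' : (toUnits (G := Z n)).symm (φ a) = 1 := h
  rwa [MulEquiv.map_eq_one_iff] at h'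

theorem exists_eval [NeZero n] [Finite (G ⧸ S)] (hcomm : commutator G ≤ S)
    (hpow : ∀ g : G, g ^ n ∈ S) (η : ((G ⧸ S) →* Z n) →* Z n) :
    ∃ a : G ⧸ S, ∀ χ : (G ⧸ S) →* Z n, η χ = χ a := by
  let _ := commGroupQuot S hcomm
  have : HasEnoughRootsOfUnity (Z n) (Monoid.exponent (G ⧸ S)) :=
    HasEnoughRootsOfUnity.of_dvd (Z n) (exponent_dvd S hpow)
  let u : Z n ≃* (Z n)ˣ := toUnits
  let η' : ((G ⧸ S) →* (Z n)ˣ) →* (Z n)ˣ :=
    u.toMonoidHom.comp (η.comp (MonoidHom.compHom u.symm.toMonoidHom))
  refine ⟨CommGroup.monoidHomMonoidHomEquiv (G ⧸ S) (Z n) η', fun χ => ?_⟩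
  have h := CommGroup.apply_monoidHomMonoidHomEquiv (Z n) (u.toMonoidHom.comp χ) η'
  have h1 : η' (u.toMonoidHom.comp χ) = u (η χ) := by
    have h0 : u.symm.toMonoidHom.comp (u.toMonoidHom.comp χ) = χ := by
      ext x
      simp
    change u (η (u.symm.toMonoidHom.comp (u.toMonoidHom.comp χ))) = _
    rw [h0]
  rw [h1] at h
  exact (u.injective h).symm

end Quot

section Top

variable {G : Type*} [Group G] [TopologicalSpace G] [IsTopologicalGroup G] (n : ℕ)

theorem normal_of_commutator_le {G : Type*} [Group G] (H : Subgroup G) (h : commutator G ≤ H) :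
    H.Normal := by
  refine ⟨fun x hx g => ?_⟩
  have : g * x * g⁻¹ = ⁅g, x⁆ * x := by simp [commutatorElement_def]
  rw [this]
  refine mul_mem (h ?_) hx
  rw [commutator_def]
  exact Subgroup.commutator_mem_commutator (Subgroup.mem_top _) (Subgroup.mem_top _)

theorem P_le (H : Subgroup G) (hcomm : commutator G ≤ H) (hpow : ∀ g : G, g ^ n ∈ H)
    (hcl : IsClosed (H : Set G)) : powCommClosure G n ≤ H := by
  apply Subgroup.topologicalClosure_minimal _ _ hcl
  apply sup_le _ hcomm
  rw [Subgroup.closure_le]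
  rintro _ ⟨g, rfl⟩
  exact hpow g

theorem comm_le : commutator G ≤ powCommClosure G n :=
  le_sup_right.trans (Subgroup.le_topologicalClosure _)

theorem pow_mem (g : G) : g ^ n ∈ powCommClosure G n :=
  Subgroup.le_topologicalClosure _ (Subgroup.mem_sup_left (Subgroup.subset_closure ⟨g, rfl⟩))

theorem isClosed_S : IsClosed (powCommClosure G n : Set G) :=
  Subgroup.isClosed_topologicalClosure _

instance normal_S : (powCommClosure G n).Normal := normal_of_commutator_le _ (comm_le n)

variable [NeZero n]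

theorem finite_quot (s : Finset G)
    (hs : Dense ((Subgroup.closure (s : Set G) : Subgroup G) : Set G)) :
    Finite (G ⧸ powCommClosure G n) := by
  classical
  let _ := commGroupQuot (powCommClosure G n) (comm_le n)
  have : T1Space (G ⧸ powCommClosure G n) := QuotientGroup.t1Space_iff.mpr (isClosed_S n)
  let B : Subgroup (G ⧸ powCommClosure G n) :=
    Subgroup.closure ((s.image (QuotientGroup.mk' (powCommClosure G n)) :
      Finset (G ⧸ powCommClosure G n)) : Set (G ⧸ powCommClosure G n))
  have htors : IsMulTorsion B := by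
    intro b
    rw [isOfFinOrder_iff_pow_eq_one]
    refine ⟨n, NeZero.pos n, ?_⟩
    obtain ⟨b, hb⟩ := b
    obtain ⟨g, rfl⟩ := QuotientGroup.mk_surjective b
    apply Subtype.ext
    change (QuotientGroup.mk g : G ⧸ powCommClosure G n) ^ n = 1
    rw [← QuotientGroup.mk_pow, QuotientGroup.eq_one_iff]
    exact pow_mem n g
  have : Finite B := CommGroup.finite_of_fg_isMulTorsion B htors
  have hBcl : IsClosed (B : Set (G ⧸ powCommClosure G n)) := (Set.toFinite _).isClosed
  have hpre : IsClosed ((QuotientGroup.mk' (powCommClosure G n)) ⁻¹'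
      (B : Set (G ⧸ powCommClosure G n))) := hBcl.preimage QuotientGroup.continuous_mk
  have hsub : ((Subgroup.closure (s : Set G) : Subgroup G) : Set G) ⊆
      (QuotientGroup.mk' (powCommClosure G n)) ⁻¹' (B : Set (G ⧸ powCommClosure G n)) := by
    intro g hg
    have : (QuotientGroup.mk' (powCommClosure G n)) g ∈
        (Subgroup.closure (s : Set G)).map (QuotientGroup.mk' (powCommClosure G n)) :=
      ⟨g, hg, rfl⟩
    rw [MonoidHom.map_closure] at this
    simpa [B, Finset.coe_image] using this
  have huniv : ∀ g : G, (QuotientGroup.mk' (powCommClosure G n)) g ∈ B := by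
    intro g
    have h1 : g ∈ closure ((Subgroup.closure (s : Set G) : Subgroup G) : Set G) := by
      rw [hs.closure_eq]
      trivial
    exact closure_minimal hsub hpre h1
  have hBtop : B = ⊤ := by
    rw [eq_top_iff]
    intro a _
    obtain ⟨g, rfl⟩ := QuotientGroup.mk'_surjective (powCommClosure G n) a
    exact huniv g
  have : Finite (⊤ : Subgroup (G ⧸ powCommClosure G n)) := hBtop ▸ ‹Finite B›
  exact Finite.of_equiv _ Subgroup.topEquiv.toEquiv

theorem isOpen_S (s : Finset G)
    (hs : Dense ((Subgroup.closure (s : Set G) : Subgroup G) : Set G)) :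
    IsOpen (powCommClosure G n : Set G) := by
  have := finite_quot n s hs
  have : (powCommClosure G n).FiniteIndex := Subgroup.finiteIndex_of_finite_quotient
  exact Subgroup.isOpen_of_isClosed_of_finiteIndex _ (isClosed_S n)

theorem S_le_ker (χ : G →* Z n) (hχ : IsOpen (χ.ker : Set G)) : powCommClosure G n ≤ χ.ker := by
  apply P_le n χ.ker _ _ (Subgroup.isClosed_of_isOpen _ hχ)
  · rw [commutator_def, Subgroup.commutator_le]
    intro a _ b _
    rw [MonoidHom.mem_ker, map_commutatorElement]
    exact commutatorElement_eq_one_iff_commute.2 (Commute.all _ _)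
  · intro g
    rw [MonoidHom.mem_ker, map_pow]
    exact Z_pow n _

theorem isOpen_ker_comp (s : Finset G)
    (hs : Dense ((Subgroup.closure (s : Set G) : Subgroup G) : Set G))
    (χ : (G ⧸ powCommClosure G n) →* Z n) :
    IsOpen ((χ.comp (QuotientGroup.mk' (powCommClosure G n))).ker : Set G) := by
  refine Subgroup.isOpen_mono (H₁ := powCommClosure G n) (fun x hx => ?_) (isOpen_S n s hs)
  rw [MonoidHom.mem_ker]
  change χ (QuotientGroup.mk x) = 1
  rw [(QuotientGroup.eq_one_iff x).2 hx, map_one]

theorem mem_S_iff (s : Finset G)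
    (hs : Dense ((Subgroup.closure (s : Set G) : Subgroup G) : Set G)) (g : G) :
    g ∈ powCommClosure G n ↔
      ∀ χ : G →* Z n, IsOpen (χ.ker : Set G) → χ g = 1 := by
  constructor
  · intro hg χ hχ
    exact S_le_ker n χ hχ hg
  · intro h
    by_contra hg
    have := finite_quot n s hs
    have ha : (QuotientGroup.mk g : G ⧸ powCommClosure G n) ≠ 1 := by
      rwa [Ne, QuotientGroup.eq_one_iff]
    obtain ⟨χ, hχ⟩ := exists_char_ne_one _ (comm_le n) (pow_mem n) ha
    exact hχ (h (χ.comp (QuotientGroup.mk' _)) (isOpen_ker_comp n s hs χ))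

/-- inflation of characters of the quotient. -/
noncomputable def infl (s : Finset G)
    (hs : Dense ((Subgroup.closure (s : Set G) : Subgroup G) : Set G)) :
    ((G ⧸ powCommClosure G n) →* Z n) →* ContChar G n where
  toFun χ := ⟨χ.comp (QuotientGroup.mk' (powCommClosure G n)), isOpen_ker_comp n s hs χ⟩
  map_one' := rfl
  map_mul' _ _ := rfl

theorem exists_eval_contChar (s : Finset G)
    (hs : Dense ((Subgroup.closure (s : Set G) : Subgroup G) : Set G))
    (F : ContChar G n →* Z n) :
    ∃ g : G, ∀ χ : ContChar G n, F χ = (χ.1 : G →* Z n) g := by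
  have := finite_quot n s hs
  obtain ⟨a, ha⟩ := exists_eval (powCommClosure G n) (comm_le n) (pow_mem n)
    (F.comp (infl n s hs))
  obtain ⟨g, rfl⟩ := QuotientGroup.mk_surjective a
  refine ⟨g, fun χ => ?_⟩
  have hχ : powCommClosure G n ≤ χ.1.ker := S_le_ker n χ.1 χ.2
  have h1 : infl n s hs (QuotientGroup.lift (powCommClosure G n) χ.1 hχ) = χ := by
    apply Subtype.ext
    ext x
    rfl
  have h2 := ha (QuotientGroup.lift (powCommClosure G n) χ.1 hχ)
  rw [MonoidHom.comp_apply, h1] at h2
  rw [h2]
  rfl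

/-- evaluation homomorphism. -/
noncomputable def ev : G →* (ContChar G n →* Z n) where
  toFun g :=
    { toFun := fun χ => (χ.1 : G →* Z n) g
      map_one' := rfl
      map_mul' := fun _ _ => rfl }
  map_one' := by
    ext χ
    exact map_one χ.1
  map_mul' a b := by
    ext χ
    exact map_mul χ.1 a b

theorem ker_ev (s : Finset G)
    (hs : Dense ((Subgroup.closure (s : Set G) : Subgroup G) : Set G)) :
    (ev (G := G) n).ker = powCommClosure G n := by
  ext g
  rw [mem_S_iff n s hs, MonoidHom.mem_ker]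
  constructor
  · intro h χ hχ
    exact DFunLike.congr_fun h (⟨χ, hχ⟩ : ContChar G n)
  · intro h
    ext χ
    exact h χ.1 χ.2

theorem ev_surjective (s : Finset G)
    (hs : Dense ((Subgroup.closure (s : Set G) : Subgroup G) : Set G)) :
    Function.Surjective (ev (G := G) n) := by
  intro F
  obtain ⟨g, hg⟩ := exists_eval_contChar n s hs F
  refine ⟨g, ?_⟩
  ext χ
  exact (hg χ).symm

theorem unique_H (s : Finset G)
    (hs : Dense ((Subgroup.closure (s : Set G) : Subgroup G) : Set G))
    (H : Subgroup G) [H.Normal] (hcl : IsClosed (H : Set G))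
    (e : G ⧸ H ≃* (ContChar G n →* Z n)) : H = powCommClosure G n := by
  have hcomm : commutator G ≤ H := by
    rw [commutator_def, Subgroup.commutator_le]
    intro a _ b _
    rw [← QuotientGroup.eq_one_iff, ← MulEquiv.map_eq_one_iff e]
    have : (QuotientGroup.mk ⁅a, b⁆ : G ⧸ H) = ⁅(QuotientGroup.mk a : G ⧸ H), QuotientGroup.mk b⁆ :=
      map_commutatorElement (QuotientGroup.mk' H) a b
    rw [this, map_commutatorElement]
    exact commutatorElement_eq_one_iff_commute.2 (Commute.all _ _)
  have hpow : ∀ g : G, g ^ n ∈ H := by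
    intro g
    rw [← QuotientGroup.eq_one_iff, ← MulEquiv.map_eq_one_iff e, QuotientGroup.mk_pow, map_pow]
    ext χ
    rw [MonoidHom.pow_apply, Z_pow]
    rfl
  have hle : powCommClosure G n ≤ H := P_le n H hcomm hpow hcl
  -- indices
  have := finite_quot n s hs
  have hidx : (powCommClosure G n).index = H.index := by
    rw [Subgroup.index_eq_card, Subgroup.index_eq_card, Nat.card_congr e.toEquiv,
      ← ker_ev n s hs]
    exact Nat.card_congr
      (QuotientGroup.quotientKerEquivOfSurjective (ev (G := G) n) (ev_surjective n s hs)).toEquiv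
  have hne : H.index ≠ 0 := by
    rw [← hidx]
    have : (powCommClosure G n).FiniteIndex := Subgroup.finiteIndex_of_finite_quotient
    exact Subgroup.FiniteIndex.index_ne_zero
  have h1 := Subgroup.relIndex_mul_index hle
  rw [hidx] at h1
  have h2 : (powCommClosure G n).relIndex H = 1 := by
    have := Nat.eq_of_mul_eq_mul_right (Nat.pos_of_ne_zero hne) (h1.trans (one_mul _).symm)
    exact this
  exact le_antisymm (Subgroup.relIndex_eq_one.1 h2) hle

theorem map_S (s : Finset G)
    (hs : Dense ((Subgroup.closure (s : Set G) : Subgroup G) : Set G))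
    (φ : G ≃* G) (hφ : Continuous φ) (hφ' : Continuous φ.symm) :
    (powCommClosure G n).map φ.toMonoidHom = powCommClosure G n := by
  have key : ∀ ψ : G ≃* G, Continuous ψ →
      (powCommClosure G n).map ψ.toMonoidHom ≤ powCommClosure G n := by
    rintro ψ hψ _ ⟨g, hg, rfl⟩
    rw [mem_S_iff n s hs]
    intro χ hχ
    have hopen : IsOpen ((χ.comp ψ.toMonoidHom).ker : Set G) := by
      have : ((χ.comp ψ.toMonoidHom).ker : Set G) = ψ ⁻¹' (χ.ker : Set G) := by
        ext x
        rw [Set.mem_preimage, SetLike.mem_coe, SetLike.mem_coe, MonoidHom.mem_ker,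
          MonoidHom.mem_ker]
        rfl
      rw [this]
      exact hχ.preimage hψ
    exact (mem_S_iff n s hs g).1 hg (χ.comp ψ.toMonoidHom) hopen
  apply le_antisymm (key φ hφ)
  intro g hg
  refine ⟨φ.symm g, key φ.symm hφ' ⟨g, hg, rfl⟩, ?_⟩
  simp

end Top

end Groth.Agent.Lib.ContCharDual
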