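import Mathlib

/-!
# Continuous Hilbert 90 for infinite Galois extensions (helper6)

`L/K` Galois (possibly infinite), `Gal(L/K)` with the Krull topology.
* `exists_level`: a function on `Gal(L/K)` right-invariant under an open subgroup has all its
  values in a finite Galois subextension `E` and is right-invariant under `Gal(L/E)`.
* `hilbert90`: locally constant cocycles `Gal(L/K) → Lˣ` are coboundaries.
* `additive_hilbert90`: locally constant cocycles `Gal(L/K) → L` are coboundaries.
-/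

namespace Groth.Agent.Lib.ContH90

open IntermediateField

variable {K L : Type*} [Field K] [Field L] [Algebra K L]

theorem exists_fixing_of_isLocallyConstant {X : Type*} (a : (L ≃ₐ[K] L) → X)
    (hlc : IsLocallyConstant a) :
    ∃ E₀ : IntermediateField K L, FiniteDimensional K E₀ ∧
      ∀ τ ∈ E₀.fixingSubgroup, a τ = a 1 := by
  have h1 : {τ | a τ = a 1} ∈ nhds (1 : L ≃ₐ[K] L) := hlc.eventually_eq 1
  obtain ⟨E, hE, hsub⟩ := (krullTopology_mem_nhds_one_iff K L _).1 h1
  exact ⟨E, hE, fun τ hτ => hsub hτ⟩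

theorem exists_level [IsGalois K L] {X : Type*} (a : (L ≃ₐ[K] L) → X) (val : X → L)
    (E₀ : IntermediateField K L) [FiniteDimensional K E₀]
    (hinv : ∀ σ τ, τ ∈ E₀.fixingSubgroup → a (σ * τ) = a σ) :
    ∃ E : IntermediateField K L, FiniteDimensional K E ∧ Normal K E ∧
      (∀ σ τ, τ ∈ E.fixingSubgroup → a (σ * τ) = a σ) ∧ ∀ σ, val (a σ) ∈ E := by
  let E₁ := normalClosure K E₀ L
  haveI : FiniteDimensional K E₁ := normalClosure.is_finiteDimensional K E₀ L
  haveI : Normal K E₁ := normalClosure.normal K E₀ L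
  have hfix₁ : E₁.fixingSubgroup ≤ E₀.fixingSubgroup :=
    IntermediateField.fixingSubgroup_antitone E₀.le_normalClosure
  have hsurj := AlgEquiv.restrictNormalHom_surjective (F := K) (K₁ := E₁) L
  choose lift hlift using hsurj
  let S : Set L := Set.range fun s : E₁ ≃ₐ[K] E₁ => val (a (lift s))
  haveI : Finite S := Set.finite_range _
  have hval : ∀ σ, val (a σ) ∈ S := by
    intro σ
    refine ⟨AlgEquiv.restrictNormalHom E₁ σ, ?_⟩
    have hτ : (lift (AlgEquiv.restrictNormalHom E₁ σ))⁻¹ * σ ∈ E₁.fixingSubgroup := by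
      rw [← E₁.restrictNormalHom_ker, MonoidHom.mem_ker, map_mul, map_inv, hlift, inv_mul_cancel]
    have h2 := hinv (lift (AlgEquiv.restrictNormalHom E₁ σ)) _ (hfix₁ hτ)
    rw [mul_inv_cancel_left] at h2
    change val (a (lift (AlgEquiv.restrictNormalHom E₁ σ))) = val (a σ)
    rw [h2]
  haveI : FiniteDimensional K (adjoin K S) :=
    finiteDimensional_adjoin (fun x _ => Algebra.IsIntegral.isIntegral x)
  let F : IntermediateField K L := E₁ ⊔ adjoin K S
  haveI : FiniteDimensional K F := IntermediateField.finiteDimensional_sup E₁ (adjoin K S)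
  refine ⟨normalClosure K F L, normalClosure.is_finiteDimensional K F L,
    normalClosure.normal K F L, ?_, ?_⟩
  · intro σ τ hτ
    apply hinv
    apply hfix₁
    exact IntermediateField.fixingSubgroup_antitone
      (le_trans (le_sup_left : E₁ ≤ F) F.le_normalClosure) hτ
  · intro σ
    exact F.le_normalClosure ((le_sup_right : adjoin K S ≤ F) (subset_adjoin K S (hval σ)))

/-- `σ` and its restriction agree on a normal intermediate field. -/
theorem restrict_apply (E : IntermediateField K L) [Normal K E] (σ : L ≃ₐ[K] L) (x : E) :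
    ((AlgEquiv.restrictNormalHom E σ x : E) : L) = σ (x : L) :=
  AlgEquiv.restrictNormal_commutes σ E x

theorem hilbert90 [IsGalois K L] (a : (L ≃ₐ[K] L) → Lˣ)
    (ha : ∀ σ τ : L ≃ₐ[K] L, a (σ * τ) = a σ * σ • a τ) (hlc : IsLocallyConstant a) :
    ∃ c : Lˣ, ∀ σ : L ≃ₐ[K] L, a σ = c⁻¹ * σ • c := by
  have ha1 : a 1 = 1 := by
    have := ha 1 1
    rw [one_mul, one_smul] at this
    exact (mul_left_cancel (a := a 1) (b := 1) (c := a 1) (by rw [mul_one]; exact this)).symm
  obtain ⟨E₀, hE₀, hE₀a⟩ := exists_fixing_of_isLocallyConstant a hlc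
  have hinv₀ : ∀ σ τ, τ ∈ E₀.fixingSubgroup → a (σ * τ) = a σ := by
    intro σ τ hτ
    rw [ha, hE₀a τ hτ, ha1, smul_one, mul_one]
  obtain ⟨E, hEfin, hEnorm, hinv, hmem⟩ := exists_level a (fun u => (u : L)) E₀ hinv₀
  have hsurj := AlgEquiv.restrictNormalHom_surjective (F := K) (K₁ := E) L
  choose lift hlift using hsurj
  -- `a` only depends on the restriction to `E`
  have hdep : ∀ σ σ' : L ≃ₐ[K] L, AlgEquiv.restrictNormalHom E σ = AlgEquiv.restrictNormalHom E σ' →
      a σ = a σ' := by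
    intro σ σ' h
    have hτ : σ'⁻¹ * σ ∈ E.fixingSubgroup := by
      rw [← E.restrictNormalHom_ker, MonoidHom.mem_ker, map_mul, map_inv, h, inv_mul_cancel]
    have h2 := hinv σ' _ hτ
    rw [mul_inv_cancel_left] at h2
    exact h2
  -- the finite-level cocycle
  let f : (E ≃ₐ[K] E) → Eˣ := fun s =>
    Units.mk0 ⟨(a (lift s) : L), hmem (lift s)⟩ (by
      intro h0
      have : ((a (lift s) : Lˣ) : L) = 0 := congrArg Subtype.val h0
      exact (a (lift s)).ne_zero this)
  have hfval : ∀ s, ((f s : E) : L) = (a (lift s) : L) := fun s => rfl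
  have hf : groupCohomology.IsMulCocycle₁ f := by
    intro g h
    apply Units.ext
    apply Subtype.ext
    have e1 : a (lift (g * h)) = a (lift g * lift h) := by
      apply hdep
      rw [map_mul, hlift, hlift, hlift]
    have e2 : ((g • f h : Eˣ) : E) = g (f h : E) := rfl
    rw [Units.val_mul, MulMemClass.coe_mul, hfval, e1, ha, Units.val_mul, e2, hfval, mul_comm]
    congr 1
    have := restrict_apply E (lift g) (f h : E)
    rw [hlift, hfval] at this
    rw [this]
    rfl
  obtain ⟨β, hβ⟩ := groupCohomology.isMulCoboundary₁_of_isMulCocycle₁_of_aut_to_units f hf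
  refine ⟨Units.map (algebraMap E L : E →* L) β, ?_⟩
  intro σ
  have e1 : a σ = a (lift (AlgEquiv.restrictNormalHom E σ)) := by
    apply hdep
    rw [hlift]
  have e2 := hβ (AlgEquiv.restrictNormalHom E σ)
  apply Units.ext
  have e3 : ((f (AlgEquiv.restrictNormalHom E σ) : E) : L) = (a σ : L) := by rw [hfval, ← e1]
  rw [← e3, ← e2]
  have e4 : (((AlgEquiv.restrictNormalHom E σ) • β : Eˣ) : E) = (AlgEquiv.restrictNormalHom E σ) (β : E) := rfl
  rw [Units.val_div_eq_div_val, e4]
  change ((AlgEquiv.restrictNormalHom E σ) (β : E) / (β : E) : E).1 = _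
  rw [Units.val_mul]
  have e5 : ((σ • (Units.map (algebraMap E L : E →* L) β) : Lˣ) : L) = σ ((β : E) : L) := rfl
  have e6 : (((Units.map (algebraMap E L : E →* L) β)⁻¹ : Lˣ) : L) = (((β : E) : L))⁻¹ := by
    rw [Units.val_inv_eq_inv_val]; rfl
  rw [e5, e6, ← restrict_apply E σ (β : E), div_eq_mul_inv, mul_comm]
  rfl

theorem additive_hilbert90 [IsGalois K L] (a : (L ≃ₐ[K] L) → L)
    (ha : ∀ σ τ : L ≃ₐ[K] L, a (σ * τ) = a σ + σ (a τ)) (hlc : IsLocallyConstant a) :
    ∃ y : L, ∀ σ : L ≃ₐ[K] L, a σ = σ y - y := by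
  have ha1 : a 1 = 0 := by
    have := ha 1 1
    rw [one_mul, AlgEquiv.one_apply] at this
    exact (add_left_cancel (a := a 1) (b := 0) (c := a 1) (by rw [add_zero]; exact this)).symm
  obtain ⟨E₀, hE₀, hE₀a⟩ := exists_fixing_of_isLocallyConstant a hlc
  have hinv₀ : ∀ σ τ, τ ∈ E₀.fixingSubgroup → a (σ * τ) = a σ := by
    intro σ τ hτ
    rw [ha, hE₀a τ hτ, ha1, map_zero, add_zero]
  obtain ⟨E, hEfin, hEnorm, hinv, hmem⟩ := exists_level a id E₀ hinv₀
  haveI : IsGalois K E := ⟨⟩
  have hsurj := AlgEquiv.restrictNormalHom_surjective (F := K) (K₁ := E) L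
  choose lift hlift using hsurj
  have hdep : ∀ σ σ' : L ≃ₐ[K] L, AlgEquiv.restrictNormalHom E σ = AlgEquiv.restrictNormalHom E σ' →
      a σ = a σ' := by
    intro σ σ' h
    have hτ : σ'⁻¹ * σ ∈ E.fixingSubgroup := by
      rw [← E.restrictNormalHom_ker, MonoidHom.mem_ker, map_mul, map_inv, h, inv_mul_cancel]
    have h2 := hinv σ' _ hτ
    rw [mul_inv_cancel_left] at h2
    exact h2
  obtain ⟨θ, hθ⟩ := Algebra.trace_surjective K E 1
  have htr : ∑ s : E ≃ₐ[K] E, ((s θ : E) : L) = 1 := by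
    have := trace_eq_sum_automorphisms (K := K) (L := E) θ
    rw [hθ, map_one] at this
    rw [← AddSubmonoidClass.coe_finset_sum, ← this]
    rfl
  let b : L := ∑ s : E ≃ₐ[K] E, a (lift s) * ((s θ : E) : L)
  have hb : ∀ σ : L ≃ₐ[K] L, σ b = b - a σ := by
    intro σ
    have hterm : ∀ s : E ≃ₐ[K] E, σ (a (lift s) * ((s θ : E) : L)) =
        (a (lift (AlgEquiv.restrictNormalHom E σ * s)) - a σ) *
          (((AlgEquiv.restrictNormalHom E σ * s) θ : E) : L) := by
      intro s
      have e1 : a (lift (AlgEquiv.restrictNormalHom E σ * s)) = a (σ * lift s) := by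
        apply hdep
        rw [hlift, map_mul, hlift]
      have e2 : σ ((s θ : E) : L) = (((AlgEquiv.restrictNormalHom E σ * s) θ : E) : L) := by
        rw [← restrict_apply E σ (s θ)]
        rfl
      rw [map_mul, e2, e1, ha, add_sub_cancel_left]
    change σ (∑ s : E ≃ₐ[K] E, a (lift s) * ((s θ : E) : L)) = _
    rw [map_sum]
    simp_rw [hterm]
    rw [Fintype.sum_equiv (Equiv.mulLeft (AlgEquiv.restrictNormalHom E σ))
      (fun s => (a (lift (AlgEquiv.restrictNormalHom E σ * s)) - a σ) *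
          (((AlgEquiv.restrictNormalHom E σ * s) θ : E) : L))
      (fun s' => (a (lift s') - a σ) * ((s' θ : E) : L)) (fun s => rfl)]
    simp_rw [sub_mul]
    rw [Finset.sum_sub_distrib, ← Finset.mul_sum, htr, mul_one]
  refine ⟨-b, fun σ => ?_⟩
  rw [map_neg, hb σ]
  ring

end Groth.Agent.Lib.ContH90
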