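import Mathlib

set_option autoImplicit false
universe u

namespace Groth.Agent.Lib.ContentIdeal

open IsLocalRing TensorProduct

section
variable {A : Type u} [CommRing A] {M N : Type u} [AddCommGroup M] [Module A M]
  [AddCommGroup N] [Module A N]

lemma map_mem (u : M →ₗ[A] N) (K : Ideal A) {y : M} (hy : y ∈ K • (⊤ : Submodule A M)) :
    u y ∈ K • (⊤ : Submodule A N) := by
  refine Submodule.smul_induction_on hy (fun r hr n _ => ?_) (fun a b ha hb => ?_)
  · rw [map_smul]; exact Submodule.smul_mem_smul hr trivial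
  · rw [map_add]; exact add_mem ha hb

lemma exists_fun (s : Finset A) {z : M}
    (hz : z ∈ Ideal.span (s : Set A) • (⊤ : Submodule A M)) :
    ∃ m : A → M, z = ∑ a ∈ s, a • m a := by
  refine Submodule.smul_induction_on hz (fun r hr n _ => ?_) (fun a b ha hb => ?_)
  · obtain ⟨f, -, hf⟩ := Submodule.mem_span_finset.mp hr
    refine ⟨fun a => f a • n, ?_⟩
    rw [← hf, Finset.sum_smul]
    refine Finset.sum_congr rfl (fun a _ => ?_)
    rw [smul_eq_mul, mul_comm, mul_smul]
  · obtain ⟨m1, h1⟩ := ha
    obtain ⟨m2, h2⟩ := hb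
    refine ⟨fun a => m1 a + m2 a, ?_⟩
    rw [h1, h2, ← Finset.sum_add_distrib]
    exact Finset.sum_congr rfl (fun a _ => (smul_add _ _ _).symm)

variable [IsLocalRing A]

lemma tmul_eq_zero_of_mem {n : N} (hn : n ∈ maximalIdeal A • (⊤ : Submodule A N)) :
    (1 : ResidueField A) ⊗ₜ[A] n = 0 := by
  refine Submodule.smul_induction_on hn (fun r hr n _ => ?_) (fun a b ha hb => ?_)
  · rw [← TensorProduct.smul_tmul, Algebra.smul_def, mul_one,
      IsLocalRing.ResidueField.algebraMap_eq, (IsLocalRing.residue_eq_zero_iff r).mpr hr,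
      TensorProduct.zero_tmul]
  · rw [TensorProduct.tmul_add, ha, hb, add_zero]

lemma mem_of_tmul_eq_zero {y : M} (h : (1 : ResidueField A) ⊗ₜ[A] y = 0) :
    y ∈ maximalIdeal A • (⊤ : Submodule A M) := by
  have h1 : (Ideal.Quotient.mk (maximalIdeal A) 1) ⊗ₜ[A] y =
      (0 : (A ⧸ maximalIdeal A) ⊗[A] M) := h
  have h2 := congrArg (TensorProduct.quotTensorEquivQuotSMul M (maximalIdeal A)) h1
  rw [TensorProduct.quotTensorEquivQuotSMul_mk_tmul, map_zero, one_smul] at h2
  exact (Submodule.Quotient.mk_eq_zero _).mp h2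

end

theorem main {A : Type u} [CommRing A] [IsLocalRing A] {M N : Type u}
    [AddCommGroup M] [Module A M] [Module.Flat A M] [AddCommGroup N] [Module A N]
    [Module.Flat A N] (u : M →ₗ[A] N)
    (hu : Function.Injective (u.baseChange (IsLocalRing.ResidueField A))) (x : M) (I : Ideal A)
    (hx : IsLeast {J : Ideal A | x ∈ J • (⊤ : Submodule A M)} I) :
    IsLeast {J : Ideal A | u x ∈ J • (⊤ : Submodule A N)} I := by
  classical
  obtain ⟨hxI, hleast⟩ := hx
  have hxI' : x ∈ I • (⊤ : Submodule A M) := hxI
  have hleast' : ∀ J : Ideal A, x ∈ J • (⊤ : Submodule A M) → I ≤ J := fun J hJ => hleast hJ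
  have hinj : ∀ y : M, u y ∈ maximalIdeal A • (⊤ : Submodule A N) →
      y ∈ maximalIdeal A • (⊤ : Submodule A M) := by
    intro y hy
    apply mem_of_tmul_eq_zero
    apply hu
    rw [map_zero, LinearMap.baseChange_tmul]
    exact tmul_eq_zero_of_mem hy
  obtain ⟨s0, hs0I, hxs0⟩ : ∃ s : Finset A, (∀ a ∈ s, a ∈ I) ∧
      x ∈ Ideal.span (s : Set A) • (⊤ : Submodule A M) := by
    have hx' : x ∈ I • Submodule.span A (Set.range (id : M → M)) := by
      rw [Set.range_id, Submodule.span_univ]; exact hxI'
    obtain ⟨a, haI, hax⟩ := (Submodule.mem_ideal_smul_span_iff_exists_sum I id x).mp hx'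
    refine ⟨a.support.image a, ?_, ?_⟩
    · intro c hc
      obtain ⟨m, -, rfl⟩ := Finset.mem_image.mp hc
      exact haI m
    · rw [← hax]
      refine Submodule.sum_mem _ (fun m hm => ?_)
      exact Submodule.smul_mem_smul
        (Ideal.subset_span (Finset.mem_coe.mpr (Finset.mem_image_of_mem a hm))) trivial
  have hIs0 : I ≤ Ideal.span (s0 : Set A) := hleast' _ hxs0
  have hs0I' : Ideal.span (s0 : Set A) ≤ I :=
    Ideal.span_le.mpr (fun a ha => hs0I a (Finset.mem_coe.mp ha))
  have hfg : (I : Submodule A A).FG := ⟨s0, le_antisymm hs0I' hIs0⟩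
  refine ⟨map_mem u I hxI', ?_⟩
  intro J hJ
  have hJ' : u x ∈ J • (⊤ : Submodule A N) := hJ
  have key : ∀ s : Finset A, (∀ a ∈ s, a ∈ I) →
      I ≤ (J ⊔ maximalIdeal A • I) ⊔ Ideal.span (s : Set A) →
      x ∈ (J ⊔ maximalIdeal A • I) • (⊤ : Submodule A M) := by
    intro s
    induction s using Finset.strongInduction with
    | H s ih =>
      intro hsI hIs
      have hx1 : x ∈ (J ⊔ maximalIdeal A • I) • (⊤ : Submodule A M) ⊔
          Ideal.span (s : Set A) • (⊤ : Submodule A M) := by
        rw [← Submodule.sup_smul]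
        exact Submodule.smul_mono_left hIs hxI'
      obtain ⟨κ, hκ, z, hz, hxz⟩ := Submodule.mem_sup.mp hx1
      obtain ⟨m, hm⟩ := exists_fun s hz
      have huz : u z ∈ (J ⊔ maximalIdeal A • I) • (⊤ : Submodule A N) := by
        have h1 : u x ∈ (J ⊔ maximalIdeal A • I) • (⊤ : Submodule A N) :=
          Submodule.smul_mono_left le_sup_left hJ'
        have h2 : u κ ∈ (J ⊔ maximalIdeal A • I) • (⊤ : Submodule A N) := map_mem u _ hκ
        have : u z = u x - u κ := by rw [← hxz, map_add]; abel
        rw [this]; exact sub_mem h1 h2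
      have huz' : u z ∈ (J ⊔ maximalIdeal A • I) •
          Submodule.span A (Set.range (id : N → N)) := by
        rw [Set.range_id, Submodule.span_univ]; exact huz
      obtain ⟨b, hbK, hbz⟩ :=
        (Submodule.mem_ideal_smul_span_iff_exists_sum (J ⊔ maximalIdeal A • I) id (u z)).mp huz'
      have e1 : ∑ a : ↥s, (a : A) • u (m a) = u z :=
        (Finset.sum_coe_sort s (fun a => a • u (m a))).trans (by
          rw [hm, map_sum]
          exact Finset.sum_congr rfl (fun a _ => (map_smul u _ _).symm))
      have e2 : ∑ n : ↥b.support, (- b n) • (n : N) = - u z :=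
        (Finset.sum_coe_sort b.support (fun n => (- b n) • n)).trans (by
          rw [← hbz, Finsupp.sum, ← Finset.sum_neg_distrib]
          exact Finset.sum_congr rfl (fun n _ => neg_smul _ _))
      have hrel : ∑ i : ↥s ⊕ ↥b.support,
          (Sum.elim (fun a : ↥s => (a : A)) (fun n : ↥b.support => - b n) i) •
          (Sum.elim (fun a : ↥s => u (m a)) (fun n : ↥b.support => (n : N)) i) = 0 := by
        rw [Fintype.sum_sum_type]
        simp only [Sum.elim_inl, Sum.elim_inr]
        rw [e1, e2, add_neg_cancel]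
      obtain ⟨κ', c, y, hxy, hfc⟩ := Module.Flat.isTrivialRelation_of_sum_smul_eq_zero hrel
      have hsumK : ∀ j, ∑ a : ↥s, (a : A) * c (Sum.inl a) j ∈ J ⊔ maximalIdeal A • I := by
        intro j
        have h'' := hfc j
        rw [Fintype.sum_sum_type] at h''
        simp only [Sum.elim_inl, Sum.elim_inr] at h''
        have h3 : ∑ n : ↥b.support, (- b n) * c (Sum.inr n) j =
            - ∑ n : ↥b.support, b n * c (Sum.inr n) j := by
          rw [← Finset.sum_neg_distrib]
          exact Finset.sum_congr rfl (fun n _ => neg_mul _ _)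
        have h' : ∑ a : ↥s, (a : A) * c (Sum.inl a) j =
            ∑ n : ↥b.support, b n * c (Sum.inr n) j := by
          linear_combination h'' - h3
        rw [h']
        exact Ideal.sum_mem _ (fun n _ => Ideal.mul_mem_right _ _ (hbK n))
      by_cases hall : ∀ (a : ↥s) (j : Fin κ'), c (Sum.inl a) j ∈ maximalIdeal A
      · have hm_mem : ∀ a : ↥s, m a ∈ maximalIdeal A • (⊤ : Submodule A M) := by
          intro a
          apply hinj
          have h' : u (m a) = ∑ j, c (Sum.inl a) j • y j := hxy (Sum.inl a)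
          rw [h']
          exact Submodule.sum_mem _ (fun j _ => Submodule.smul_mem_smul (hall a j) trivial)
        have hzK : z ∈ (J ⊔ maximalIdeal A • I) • (⊤ : Submodule A M) := by
          have hz' : z = ∑ a : ↥s, (a : A) • m a :=
            hm.trans (Finset.sum_coe_sort s (fun a => a • m a)).symm
          rw [hz']
          refine Submodule.sum_mem _ (fun a _ => ?_)
          have h1 : (a : A) • m a ∈ I • (maximalIdeal A • (⊤ : Submodule A M)) :=
            Submodule.smul_mem_smul (hsI a a.2) (hm_mem a)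
          rw [← Submodule.mul_smul] at h1
          refine Submodule.smul_mono_left ?_ h1
          rw [mul_comm]
          exact le_sup_right
        rw [← hxz]; exact add_mem hκ hzK
      · push_neg at hall
        obtain ⟨a0, j0, hc0⟩ := hall
        have hunit : IsUnit (c (Sum.inl a0) j0) := by
          by_contra hnu
          exact hc0 ((IsLocalRing.mem_maximalIdeal _).mpr hnu)
        obtain ⟨w, hw⟩ := hunit
        have hsplit := Finset.add_sum_erase Finset.univ
          (fun a : ↥s => (a : A) * c (Sum.inl a) j0) (Finset.mem_univ a0)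
        have hrest : ∑ a ∈ Finset.univ.erase a0, (a : A) * c (Sum.inl a) j0 ∈
            Ideal.span ((s.erase a0.1 : Finset A) : Set A) := by
          refine Ideal.sum_mem _ (fun a ha => Ideal.mul_mem_right _ _ (Ideal.subset_span ?_))
          rw [Finset.mem_coe, Finset.mem_erase]
          exact ⟨fun h => (Finset.ne_of_mem_erase ha) (Subtype.ext h), a.2⟩
        have ha0 : (a0 : A) ∈ (J ⊔ maximalIdeal A • I) ⊔
            Ideal.span ((s.erase a0.1 : Finset A) : Set A) := by
          have e3 : (a0 : A) * ↑w = ∑ a : ↥s, (a : A) * c (Sum.inl a) j0 -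
              ∑ a ∈ Finset.univ.erase a0, (a : A) * c (Sum.inl a) j0 := by
            rw [hw, ← hsplit, add_sub_cancel_right]
          have e : (a0 : A) = (∑ a : ↥s, (a : A) * c (Sum.inl a) j0 -
              ∑ a ∈ Finset.univ.erase a0, (a : A) * c (Sum.inl a) j0) * ↑w⁻¹ := by
            rw [← e3, mul_assoc, Units.mul_inv, mul_one]
          have hmem : (∑ a : ↥s, (a : A) * c (Sum.inl a) j0 -
              ∑ a ∈ Finset.univ.erase a0, (a : A) * c (Sum.inl a) j0) * ↑w⁻¹ ∈
              (J ⊔ maximalIdeal A • I) ⊔ Ideal.span ((s.erase a0.1 : Finset A) : Set A) := by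
            refine Ideal.mul_mem_right _ _ (sub_mem ?_ ?_)
            · exact Ideal.mem_sup_left (hsumK j0)
            · exact Ideal.mem_sup_right hrest
          rw [← e] at hmem
          exact hmem
        have hspan : Ideal.span (s : Set A) ≤ (J ⊔ maximalIdeal A • I) ⊔
            Ideal.span ((s.erase a0.1 : Finset A) : Set A) := by
          rw [Ideal.span_le]
          intro a ha
          by_cases h : a = a0.1
          · rw [h]; exact ha0
          · exact Ideal.mem_sup_right (Ideal.subset_span
              (Finset.mem_coe.mpr (Finset.mem_erase.mpr ⟨h, Finset.mem_coe.mp ha⟩)))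
        exact ih (s.erase a0.1) (Finset.erase_ssubset a0.2)
          (fun a ha => hsI a (Finset.mem_of_mem_erase ha))
          (le_trans hIs (sup_le le_sup_left hspan))
  have hIK : I ≤ J ⊔ maximalIdeal A • I :=
    hleast' _ (key s0 hs0I (le_trans hIs0 le_sup_right))
  exact Submodule.le_of_le_smul_of_le_jacobson_bot hfg
    (IsLocalRing.jacobson_eq_maximalIdeal ⊥ bot_ne_top).ge hIK

end Groth.Agent.Lib.ContentIdeal
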