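import Mathlib
import Groth.Prelude.Def_W4c3degenlocivbPfaff

namespace Groth.Agent.Lib.Contract

open W4c3degenlocivb

universe u

theorem coeff_contract {k : Type*} [CommSemiring k] {σ : Type*} (D G : MvPolynomial σ k)
    (γ : σ →₀ ℕ) :
    (contract D G).coeff γ = ∑ α ∈ D.support, D.coeff α * G.coeff (γ + α) *
      (((γ + α).support.prod fun i => Nat.descFactorial ((γ + α) i) (α i) : ℕ) : k) := by
  classical
  unfold contract
  rw [MvPolynomial.coeff_sum]
  refine Finset.sum_congr rfl fun α _ => ?_
  rw [MvPolynomial.coeff_sum]
  have hle0 : α ≤ γ + α := by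
    rw [Finsupp.le_def]
    intro i
    simp
  by_cases hmem : γ + α ∈ G.support
  · rw [Finset.sum_eq_single (γ + α)]
    · rw [if_pos hle0, MvPolynomial.coeff_monomial, if_pos (add_tsub_cancel_right γ α)]
    · intro β _ hne
      split_ifs with hle
      · rw [MvPolynomial.coeff_monomial, if_neg]
        intro h
        apply hne
        rw [← h, tsub_add_cancel_of_le hle]
      · exact MvPolynomial.coeff_zero _
    · intro h
      exact absurd hmem h
  · have h0 : G.coeff (γ + α) = 0 := by
      simpa [MvPolynomial.mem_support_iff] using hmem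
    rw [h0, mul_zero, zero_mul]
    apply Finset.sum_eq_zero
    intro β hβ
    split_ifs with hle
    · rw [MvPolynomial.coeff_monomial, if_neg]
      intro h
      apply hmem
      rw [← h, tsub_add_cancel_of_le hle]
      exact hβ
    · exact MvPolynomial.coeff_zero _

theorem P_eq {m : ℕ} (β α : Fin m →₀ ℕ) (h : α ≤ β) :
    (β.support.prod fun i => Nat.descFactorial (β i) (α i)) =
      ∏ i : Fin m, Nat.descFactorial (β i) (α i) := by
  apply Finset.prod_subset (Finset.subset_univ _)
  intro i _ hi
  have hb : β i = 0 := Finsupp.notMem_support_iff.mp hi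
  have ha : α i = 0 := by
    have := Finsupp.le_def.mp h i
    omega
  rw [hb, ha]
  rfl

theorem desc_key (g a a' : ℕ) :
    Nat.descFactorial (g + a') a' * Nat.descFactorial (g + a' + a) a
      = Nat.descFactorial (g + a + a') a' * Nat.descFactorial (g + a) a := by
  have h1 : g.factorial * Nat.descFactorial (g + a') a' = (g + a').factorial := by
    have := Nat.factorial_mul_descFactorial (Nat.le_add_left a' g)
    rwa [Nat.add_sub_cancel] at this
  have h2 : (g + a').factorial * Nat.descFactorial (g + a' + a) a = (g + a' + a).factorial := by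
    have := Nat.factorial_mul_descFactorial (Nat.le_add_left a (g + a'))
    rwa [Nat.add_sub_cancel] at this
  have h3 : g.factorial * Nat.descFactorial (g + a) a = (g + a).factorial := by
    have := Nat.factorial_mul_descFactorial (Nat.le_add_left a g)
    rwa [Nat.add_sub_cancel] at this
  have h4 : (g + a).factorial * Nat.descFactorial (g + a + a') a' = (g + a + a').factorial := by
    have := Nat.factorial_mul_descFactorial (Nat.le_add_left a' (g + a))
    rwa [Nat.add_sub_cancel] at this
  have e : g + a + a' = g + a' + a := by omega
  apply Nat.eq_of_mul_eq_mul_left (Nat.factorial_pos g)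
  calc g.factorial * (Nat.descFactorial (g + a') a' * Nat.descFactorial (g + a' + a) a)
      = (g.factorial * Nat.descFactorial (g + a') a') * Nat.descFactorial (g + a' + a) a := by
        ring
    _ = (g + a' + a).factorial := by rw [h1, h2]
    _ = (g + a + a').factorial := by rw [e]
    _ = (g.factorial * Nat.descFactorial (g + a) a) * Nat.descFactorial (g + a + a') a' := by
        rw [h3, h4]
    _ = _ := by ring

theorem coeff_contract_contract {k : Type*} [Field k] {m : ℕ} (D F : MvPolynomial (Fin m) k)
    (α' γ : Fin m →₀ ℕ) :
    (contract D (contract (MvPolynomial.monomial α' 1) F)).coeff γ =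
      ((∏ i : Fin m, Nat.descFactorial ((γ + α') i) (α' i) : ℕ) : k) *
        (contract D F).coeff (γ + α') := by
  classical
  rw [coeff_contract D (contract (MvPolynomial.monomial α' 1) F) γ,
    coeff_contract D F (γ + α'), Finset.mul_sum]
  refine Finset.sum_congr rfl fun α _ => ?_
  rw [coeff_contract (MvPolynomial.monomial α' 1) F (γ + α), MvPolynomial.support_monomial,
    if_neg (one_ne_zero : (1 : k) ≠ 0), Finset.sum_singleton, MvPolynomial.coeff_monomial,
    if_pos rfl]
  have e : γ + α + α' = γ + α' + α := add_right_comm γ α α'
  rw [e]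
  have hle1 : α' ≤ γ + α' + α := by
    rw [Finsupp.le_def]; intro i; simp only [Finsupp.add_apply]; omega
  have hle2 : α ≤ γ + α := by
    rw [Finsupp.le_def]; intro i; simp only [Finsupp.add_apply]; omega
  have hle4 : α ≤ γ + α' + α := by
    rw [Finsupp.le_def]; intro i; simp only [Finsupp.add_apply]; omega
  rw [P_eq _ _ hle1, P_eq _ _ hle2, P_eq _ _ hle4]
  have key : (∏ i : Fin m, Nat.descFactorial ((γ + α' + α) i) (α' i)) *
      (∏ i : Fin m, Nat.descFactorial ((γ + α) i) (α i))
      = (∏ i : Fin m, Nat.descFactorial ((γ + α') i) (α' i)) *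
        (∏ i : Fin m, Nat.descFactorial ((γ + α' + α) i) (α i)) := by
    rw [← Finset.prod_mul_distrib, ← Finset.prod_mul_distrib]
    refine Finset.prod_congr rfl fun i _ => ?_
    simp only [Finsupp.add_apply]
    have := desc_key (γ i) (α i) (α' i)
    rw [this, show γ i + α i + α' i = γ i + α' i + α i by omega]
  have keyk := congrArg (Nat.cast : ℕ → k) key
  rw [Nat.cast_mul, Nat.cast_mul] at keyk
  linear_combination (D.coeff α * F.coeff (γ + α' + α)) * keyk

theorem main (k : Type u) [Field k] [CharZero k] (m : ℕ)
    (F : MvPolynomial (Fin m) k) (e : ℕ) (hF : F.IsHomogeneous e) (d : ℕ) (hd : d ≤ e)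
    (D : MvPolynomial (Fin m) k) (hD : D.IsHomogeneous d) :
    W4c3degenlocivb.contract D F = 0 ↔
      ∀ α : Fin m →₀ ℕ, α.degree = e - d →
        W4c3degenlocivb.contract D
          (W4c3degenlocivb.contract (MvPolynomial.monomial α 1) F) = 0 := by
  constructor
  · intro h α _
    ext γ
    rw [coeff_contract_contract, h]
    simp
  · intro h
    ext γ'
    rw [MvPolynomial.coeff_zero]
    by_cases hdeg : γ'.degree = e - d
    · have h1 := congrArg (MvPolynomial.coeff 0) (h γ' hdeg)
      rw [coeff_contract_contract, zero_add, MvPolynomial.coeff_zero] at h1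
      rcases mul_eq_zero.mp h1 with h2 | h2
      · exfalso
        have hne : (∏ i : Fin m, Nat.descFactorial (γ' i) (γ' i)) ≠ 0 := by
          apply Finset.prod_ne_zero_iff.mpr
          intro i _
          rw [Nat.descFactorial_self]
          exact Nat.factorial_ne_zero _
        exact hne (Nat.cast_eq_zero.mp h2)
      · exact h2
    · rw [coeff_contract]
      apply Finset.sum_eq_zero
      intro α hα
      have hda : α.degree = d := by
        rw [Finsupp.degree_apply]
        exact (hD.degree_eq_sum_deg_support hα).symm
      by_cases hFa : F.coeff (γ' + α) = 0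
      · rw [hFa, mul_zero, zero_mul]
      · exfalso
        have hdf : (γ' + α).degree = e := by
          rw [Finsupp.degree_apply]
          exact (hF.degree_eq_sum_deg_support (MvPolynomial.mem_support_iff.mpr hFa)).symm
        rw [map_add] at hdf
        apply hdeg
        omega

end Groth.Agent.Lib.Contract
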