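import Mathlib.LinearAlgebra.BilinearForm.Orthogonal
import Mathlib.Analysis.Convex.Combination

set_option autoImplicit false

/-!
# The vector of minimal norm in the convex hull of a finite family, over an ordered field
(helper8)

For a positive definite symmetric bilinear form on a finite dimensional vector space over a linearly
ordered field, the convex hull of a finite family of vectors contains a vector of minimal norm
(`exists_wolfe`, in the form of Wolfe's criterion), and a vector outside the convex hull can be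
strictly separated from the family (`exists_separation`).
-/

namespace Groth.Agent.Lib.ConvMin_helper8

open Finset

variable {R V κ : Type*} [Field R] [LinearOrder R] [IsStrictOrderedRing R] [AddCommGroup V]
  [Module R V]

/-- The combination of the family `v` with weights `w` over the finite set `t`. -/
def pt (v : κ → V) (t : Finset κ) (w : κ → R) : V := ∑ k ∈ t, w k • v k

omit [LinearOrder R] [IsStrictOrderedRing R] in
lemma pt_comb (v : κ → V) (t : Finset κ) (w w' : κ → R) (a c : R) :
    pt v t (fun j => a * w j + c * w' j) = a • pt v t w + c • pt v t w' := by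
  unfold pt
  rw [Finset.smul_sum, Finset.smul_sum, ← Finset.sum_add_distrib]
  refine Finset.sum_congr rfl fun j _ => ?_
  rw [add_smul, mul_smul, mul_smul]

omit [LinearOrder R] [IsStrictOrderedRing R] in
lemma pt_single [DecidableEq κ] (v : κ → V) (t : Finset κ) {k : κ} (hk : k ∈ t) (c : R) :
    pt v t (fun j => if j = k then c else 0) = c • v k := by
  unfold pt
  rw [Finset.sum_eq_single k]
  · simp
  · intro j _ hjk
    simp [hjk]
  · intro h
    exact absurd hk h

omit [LinearOrder R] [IsStrictOrderedRing R] in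
lemma sum_single [DecidableEq κ] (t : Finset κ) {k : κ} (hk : k ∈ t) (c : R) :
    ∑ j ∈ t, (if j = k then c else 0) = c := by
  rw [Finset.sum_eq_single k]
  · rw [if_pos rfl]
  · intro j _ hjk
    rw [if_neg hjk]
  · intro h
    exact absurd hk h

variable (B : LinearMap.BilinForm R V)

omit [LinearOrder R] [IsStrictOrderedRing R] in
lemma bilin_pt_right (v : κ → V) (t : Finset κ) (w : κ → R) (x : V) :
    B x (pt v t w) = ∑ k ∈ t, w k * B x (v k) := by
  unfold pt
  rw [map_sum]
  refine Finset.sum_congr rfl fun k _ => ?_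
  rw [map_smul, smul_eq_mul]

/-- Wolfe's criterion implies minimality. -/
lemma le_of_wolfe (hBs : ∀ y z : V, B y z = B z y) (hBp0 : ∀ y : V, 0 ≤ B y y) {v : κ → V}
    {t : Finset κ} {p : V} {l : κ → R} (hp : ∀ k ∈ t, l k ≠ 0 → B p p ≤ B p (v k))
    (hl0 : ∀ k ∈ t, 0 ≤ l k) (hl1 : ∑ k ∈ t, l k = 1) :
    B p p ≤ B (pt v t l) (pt v t l) := by
  have h1 : B p p ≤ B p (pt v t l) := by
    rw [bilin_pt_right]
    calc B p p = ∑ k ∈ t, l k * B p p := by rw [← Finset.sum_mul, hl1, one_mul]
      _ ≤ ∑ k ∈ t, l k * B p (v k) := Finset.sum_le_sum fun k hk => by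
        by_cases h0 : l k = 0
        · rw [h0, zero_mul, zero_mul]
        · exact mul_le_mul_of_nonneg_left (hp k hk h0) (hl0 k hk)
  have h2 : 0 ≤ B (pt v t l - p) (pt v t l - p) := hBp0 _
  have h3 : B (pt v t l - p) (pt v t l - p) =
      B (pt v t l) (pt v t l) - 2 * B p (pt v t l) + B p p := by
    simp only [map_sub, LinearMap.sub_apply]
    rw [hBs (pt v t l) p]
    ring
  linarith

/-- The vector of minimal norm in the affine hull of a finite family. -/
lemma exists_affine_min [FiniteDimensional R V] (hBs : ∀ y z : V, B y z = B z y)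
    (hBp : ∀ y : V, y ≠ 0 → 0 < B y y) (v : κ → V) (t : Finset κ) (ht : t.Nonempty) :
    ∃ μ : κ → R, ∑ k ∈ t, μ k = 1 ∧
      ∀ k ∈ t, B (pt v t μ) (v k) = B (pt v t μ) (pt v t μ) := by
  classical
  obtain ⟨k₀, hk₀⟩ := ht
  have hrefl : B.IsRefl := fun x y h => by rw [hBs]; exact h
  have hdisj : Disjoint (Submodule.span R ((fun k => v k - v k₀) '' (t : Set κ)))
      (B.orthogonal (Submodule.span R ((fun k => v k - v k₀) '' (t : Set κ)))) := by
    rw [Submodule.disjoint_def]
    intro x hx1 hx2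
    have h0 : B x x = 0 := hx2 x hx1
    by_contra hne
    exact (hBp x hne).ne' h0
  have hcompl := (LinearMap.BilinForm.isCompl_orthogonal_iff_disjoint hrefl).mpr hdisj
  have htop : v k₀ ∈ Submodule.span R ((fun k => v k - v k₀) '' (t : Set κ)) ⊔
      B.orthogonal (Submodule.span R ((fun k => v k - v k₀) '' (t : Set κ))) := by
    rw [hcompl.sup_eq_top]
    exact Submodule.mem_top
  obtain ⟨w, hw, u, hu, hwu⟩ := Submodule.mem_sup.mp htop
  have hspan : ∀ x ∈ Submodule.span R ((fun k => v k - v k₀) '' (t : Set κ)),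
      ∃ a : κ → R, x = ∑ k ∈ t, a k • (v k - v k₀) := by
    intro x hx
    induction hx using Submodule.span_induction with
    | mem x hx =>
      obtain ⟨k, hk, rfl⟩ := hx
      refine ⟨fun j => if j = k then 1 else 0, ?_⟩
      rw [Finset.sum_eq_single k]
      · simp
      · intro j _ hjk
        simp [hjk]
      · intro h
        exact absurd (Finset.mem_coe.mp hk) h
    | zero => exact ⟨fun _ => 0, by simp⟩
    | add x y _ _ hx hy =>
      obtain ⟨a, rfl⟩ := hx
      obtain ⟨a', rfl⟩ := hy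
      exact ⟨fun k => a k + a' k, by simp only [add_smul, Finset.sum_add_distrib]⟩
    | smul c x _ hx =>
      obtain ⟨a, rfl⟩ := hx
      exact ⟨fun k => c * a k, by simp only [mul_smul, Finset.smul_sum]⟩
  obtain ⟨a, ha⟩ := hspan w hw
  have hsum : ∑ k ∈ t, ((if k = k₀ then 1 + ∑ j ∈ t, a j else 0) - a k) = 1 := by
    rw [Finset.sum_sub_distrib, sum_single t hk₀]
    ring
  have hpt : pt v t (fun k => (if k = k₀ then 1 + ∑ j ∈ t, a j else 0) - a k) = u := by
    have hu' : u = v k₀ - w := by rw [← hwu]; abel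
    have h1 : pt v t (fun k => (if k = k₀ then 1 + ∑ j ∈ t, a j else 0) - a k) =
        (1 + ∑ j ∈ t, a j) • v k₀ - ∑ k ∈ t, a k • v k := by
      have h2 := pt_comb v t (fun k => if k = k₀ then 1 + ∑ j ∈ t, a j else 0) a 1 (-1)
      have h3 : (fun j => 1 * (if j = k₀ then 1 + ∑ j ∈ t, a j else 0) + -1 * a j) =
          (fun k => (if k = k₀ then 1 + ∑ j ∈ t, a j else 0) - a k) := by
        funext j
        ring
      rw [h3, pt_single v t hk₀, one_smul, neg_one_smul] at h2
      rw [h2]
      unfold pt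
      abel
    rw [h1, hu', ha]
    simp only [smul_sub, Finset.sum_sub_distrib, ← Finset.sum_smul, add_smul, one_smul]
    abel
  refine ⟨fun k => (if k = k₀ then 1 + ∑ j ∈ t, a j else 0) - a k, hsum, ?_⟩
  rw [hpt]
  have hconst : ∀ k ∈ t, B u (v k) = B u (v k₀) := by
    intro k hk
    have h1 : B (v k - v k₀) u = 0 :=
      hu (v k - v k₀) (Submodule.subset_span ⟨k, Finset.mem_coe.mpr hk, rfl⟩)
    rw [hBs, map_sub] at h1
    exact sub_eq_zero.mp h1
  have huu : B u u = B u (v k₀) := by
    have h1 : B u u =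
        B u (pt v t (fun k => (if k = k₀ then 1 + ∑ j ∈ t, a j else 0) - a k)) := by rw [hpt]
    rw [h1, bilin_pt_right]
    calc ∑ k ∈ t, ((if k = k₀ then 1 + ∑ j ∈ t, a j else 0) - a k) * B u (v k)
        = ∑ k ∈ t, ((if k = k₀ then 1 + ∑ j ∈ t, a j else 0) - a k) * B u (v k₀) :=
          Finset.sum_congr rfl fun k hk => by rw [hconst k hk]
      _ = B u (v k₀) := by rw [← Finset.sum_mul, hsum, one_mul]
  intro k hk
  rw [hconst k hk, huu]

/-- A combination which violates Wolfe's criterion can be improved. -/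
lemma exists_improve (hBs : ∀ y z : V, B y z = B z y) (hBp : ∀ y : V, y ≠ 0 → 0 < B y y)
    (v : κ → V) (t : Finset κ) {w : κ → R} (hw0 : ∀ j ∈ t, 0 ≤ w j) (hw1 : ∑ j ∈ t, w j = 1)
    {k : κ} (hk : k ∈ t) (hlt : B (pt v t w) (v k) < B (pt v t w) (pt v t w)) :
    ∃ l : κ → R, (∀ j ∈ t, 0 ≤ l j) ∧ ∑ j ∈ t, l j = 1 ∧
      B (pt v t l) (pt v t l) < B (pt v t w) (pt v t w) := by
  classical
  have key : ∀ p : V, p = pt v t w → B p (v k) < B p p →
      ∃ l : κ → R, (∀ j ∈ t, 0 ≤ l j) ∧ ∑ j ∈ t, l j = 1 ∧ B (pt v t l) (pt v t l) < B p p := by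
    intro p hp hlt
    have hδ : 0 < B p p - B p (v k) := sub_pos.mpr hlt
    have hne : v k - p ≠ 0 := by
      intro h
      have h1 : v k = p := sub_eq_zero.mp h
      rw [h1] at hlt
      exact lt_irrefl _ hlt
    have hD : 0 < B (v k - p) (v k - p) := hBp _ hne
    obtain ⟨ε, hε0, hε1, hεD⟩ : ∃ ε : R, 0 < ε ∧ ε ≤ 1 ∧
        ε * B (v k - p) (v k - p) ≤ B p p - B p (v k) := by
      refine ⟨min 1 ((B p p - B p (v k)) / B (v k - p) (v k - p)),
        lt_min one_pos (div_pos hδ hD), min_le_left _ _, ?_⟩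
      exact (le_div_iff₀ hD).mp (min_le_right _ _)
    refine ⟨fun j => (1 - ε) * w j + ε * (if j = k then 1 else 0), ?_, ?_, ?_⟩
    · intro j hj
      have h1 : 0 ≤ 1 - ε := sub_nonneg.mpr hε1
      have h2 : (0 : R) ≤ if j = k then 1 else 0 := by
        split_ifs
        · exact zero_le_one
        · exact le_rfl
      exact add_nonneg (mul_nonneg h1 (hw0 j hj)) (mul_nonneg hε0.le h2)
    · rw [Finset.sum_add_distrib, ← Finset.mul_sum, ← Finset.mul_sum, hw1, sum_single t hk]
      ring
    · have hq : pt v t (fun j => (1 - ε) * w j + ε * (if j = k then 1 else 0)) =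
          p + ε • (v k - p) := by
        rw [pt_comb, pt_single v t hk 1, one_smul, ← hp, smul_sub, sub_smul, one_smul]
        abel
      rw [hq]
      have hBpe : B p (v k - p) = -(B p p - B p (v k)) := by
        rw [map_sub]
        ring
      have hexp : B (p + ε • (v k - p)) (p + ε • (v k - p)) =
          B p p + 2 * ε * B p (v k - p) + ε * (ε * B (v k - p) (v k - p)) := by
        simp only [map_add, map_smul, LinearMap.add_apply, LinearMap.smul_apply, smul_eq_mul]
        rw [hBs (v k - p) p]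
        ring
      rw [hexp, hBpe]
      have h1 : ε * (ε * B (v k - p) (v k - p)) ≤ ε * (B p p - B p (v k)) :=
        mul_le_mul_of_nonneg_left hεD hε0.le
      have h2 : 0 < ε * (B p p - B p (v k)) := mul_pos hε0 hδ
      linarith
  exact key _ rfl hlt

/-- Moving from a combination towards the affine minimiser until a weight vanishes. -/
lemma exists_exit (hBs : ∀ y z : V, B y z = B z y) (hBp0 : ∀ y : V, 0 ≤ B y y)
    (v : κ → V) (t : Finset κ) {l : κ → R} (hl0 : ∀ j ∈ t, 0 ≤ l j) (hl1 : ∑ j ∈ t, l j = 1)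
    {μ : κ → R} (hμ1 : ∑ j ∈ t, μ j = 1)
    (hμ2 : ∀ j ∈ t, B (pt v t μ) (v j) = B (pt v t μ) (pt v t μ))
    {k₁ : κ} (hk₁ : k₁ ∈ t) (hneg : μ k₁ < 0) :
    ∃ j₀ ∈ t, ∃ ν : κ → R, (∀ j ∈ t, 0 ≤ ν j) ∧ ν j₀ = 0 ∧ ∑ j ∈ t, ν j = 1 ∧
      B (pt v t ν) (pt v t ν) ≤ B (pt v t l) (pt v t l) := by
  classical
  have hSne : (t.filter (fun j => μ j < 0)).Nonempty :=
    ⟨k₁, Finset.mem_filter.mpr ⟨hk₁, hneg⟩⟩
  obtain ⟨j₀, hj₀S, hmin⟩ :=
    Finset.exists_min_image (t.filter (fun j => μ j < 0)) (fun j => l j / (l j - μ j)) hSne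
  have hj₀ : j₀ ∈ t := (Finset.mem_filter.mp hj₀S).1
  have hμj₀ : μ j₀ < 0 := (Finset.mem_filter.mp hj₀S).2
  have hden : 0 < l j₀ - μ j₀ := by
    have := hl0 j₀ hj₀
    linarith
  obtain ⟨θ, hθ⟩ : ∃ θ : R, θ = l j₀ / (l j₀ - μ j₀) := ⟨_, rfl⟩
  have hθ0 : 0 ≤ θ := by
    rw [hθ]
    exact div_nonneg (hl0 j₀ hj₀) hden.le
  have hθ1 : θ < 1 := by
    rw [hθ, div_lt_one hden]
    linarith
  have hθj₀ : θ * (l j₀ - μ j₀) = l j₀ := by
    rw [hθ]
    exact div_mul_cancel₀ _ hden.ne'
  refine ⟨j₀, hj₀, fun j => (1 - θ) * l j + θ * μ j, ?_, ?_, ?_, ?_⟩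
  · intro j hj
    by_cases hμj : μ j < 0
    · have hjS : j ∈ t.filter (fun j => μ j < 0) := Finset.mem_filter.mpr ⟨hj, hμj⟩
      have h1 : θ ≤ l j / (l j - μ j) := by
        rw [hθ]
        exact hmin j hjS
      have hdenj : 0 < l j - μ j := by
        have := hl0 j hj
        linarith
      have h2 : θ * (l j - μ j) ≤ l j := (le_div_iff₀ hdenj).mp h1
      linarith
    · have hμj' : 0 ≤ μ j := not_lt.mp hμj
      have h1 : 0 ≤ 1 - θ := by linarith
      exact add_nonneg (mul_nonneg h1 (hl0 j hj)) (mul_nonneg hθ0 hμj')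
  · change (1 - θ) * l j₀ + θ * μ j₀ = 0
    linarith
  · rw [Finset.sum_add_distrib, ← Finset.mul_sum, ← Finset.mul_sum, hl1, hμ1]
    ring
  · rw [pt_comb]
    have h1 : B (pt v t μ) (pt v t l) = B (pt v t μ) (pt v t μ) := by
      rw [bilin_pt_right]
      calc ∑ j ∈ t, l j * B (pt v t μ) (v j)
          = ∑ j ∈ t, l j * B (pt v t μ) (pt v t μ) :=
            Finset.sum_congr rfl fun j hj => by rw [hμ2 j hj]
        _ = B (pt v t μ) (pt v t μ) := by rw [← Finset.sum_mul, hl1, one_mul]
    have h2 : B (pt v t μ) (pt v t μ) ≤ B (pt v t l) (pt v t l) := by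
      have h3 : 0 ≤ B (pt v t l - pt v t μ) (pt v t l - pt v t μ) := hBp0 _
      have h4 : B (pt v t l - pt v t μ) (pt v t l - pt v t μ) =
          B (pt v t l) (pt v t l) - 2 * B (pt v t μ) (pt v t l) + B (pt v t μ) (pt v t μ) := by
        simp only [map_sub, LinearMap.sub_apply]
        rw [hBs (pt v t l) (pt v t μ)]
        ring
      linarith
    have h5 : B ((1 - θ) • pt v t l + θ • pt v t μ) ((1 - θ) • pt v t l + θ • pt v t μ) =
        (1 - θ) * ((1 - θ) * B (pt v t l) (pt v t l)) +
          2 * (θ * ((1 - θ) * B (pt v t μ) (pt v t l))) +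
          θ * (θ * B (pt v t μ) (pt v t μ)) := by
      simp only [map_add, map_smul, LinearMap.add_apply, LinearMap.smul_apply, smul_eq_mul]
      rw [hBs (pt v t l) (pt v t μ)]
      ring
    rw [h5, h1]
    have hc : 0 ≤ 2 * θ * (1 - θ) + θ * θ :=
      add_nonneg (mul_nonneg (mul_nonneg zero_le_two hθ0) (by linarith)) (mul_nonneg hθ0 hθ0)
    have h6 := mul_nonneg hc (sub_nonneg.mpr h2)
    linarith

/-- **The vector of minimal norm**, in the form of Wolfe's criterion. -/
theorem exists_wolfe [FiniteDimensional R V] (hBs : ∀ y z : V, B y z = B z y)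
    (hBp : ∀ y : V, y ≠ 0 → 0 < B y y) (v : κ → V) :
    ∀ (n : ℕ) (t : Finset κ), t.card = n → t.Nonempty →
      ∃ w : κ → R, (∀ k ∈ t, 0 ≤ w k) ∧ ∑ k ∈ t, w k = 1 ∧
        ∀ k ∈ t, B (pt v t w) (pt v t w) ≤ B (pt v t w) (v k) := by
  classical
  have hBp0 : ∀ y : V, 0 ≤ B y y := fun y => by
    by_cases hy : y = 0
    · simp [hy]
    · exact (hBp y hy).le
  intro n
  induction n using Nat.strong_induction_on with
  | _ n ih =>
    intro t htn ht
    obtain ⟨μ, hμ1, hμ2⟩ := exists_affine_min B hBs hBp v t ht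
    by_cases hμ0 : ∀ k ∈ t, 0 ≤ μ k
    · exact ⟨μ, hμ0, hμ1, fun k hk => (hμ2 k hk).ge⟩
    · have hex : ∃ k₁ ∈ t, μ k₁ < 0 := by
        by_contra hcon
        apply hμ0
        intro k hk
        by_contra hlt
        exact hcon ⟨k, hk, not_le.mp hlt⟩
      obtain ⟨k₁, hk₁, hμk₁⟩ := hex
      -- `t` has at least two elements
      have hcard : 2 ≤ t.card := by
        by_contra hlt
        have h1 : t.card = 1 := by
          have := Finset.card_pos.mpr ht
          omega
        obtain ⟨a, rfl⟩ := Finset.card_eq_one.mp h1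
        rw [Finset.sum_singleton] at hμ1
        rw [Finset.mem_singleton.mp hk₁, hμ1] at hμk₁
        exact absurd hμk₁ (not_lt.mpr zero_le_one)
      -- the induction hypothesis for the faces
      have hIH : ∀ k ∈ t, ∃ w : κ → R, (∀ j ∈ t, 0 ≤ w j) ∧ w k = 0 ∧ ∑ j ∈ t, w j = 1 ∧
          ∀ j ∈ t, j ≠ k → B (pt v t w) (pt v t w) ≤ B (pt v t w) (v j) := by
        intro k hk
        have hc : (t.erase k).card < n := by
          rw [Finset.card_erase_of_mem hk, htn]
          omega
        have hne : (t.erase k).Nonempty := by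
          rw [← Finset.card_pos, Finset.card_erase_of_mem hk]
          omega
        obtain ⟨w, hw0, hw1, hww⟩ := ih _ hc (t.erase k) rfl hne
        have hsumeq : ∀ f : κ → V,
            ∑ j ∈ t, (if j = k then (0 : R) else w j) • f j = ∑ j ∈ t.erase k, w j • f j := by
          intro f
          rw [← Finset.sum_erase t (a := k) (by rw [if_pos rfl, zero_smul])]
          refine Finset.sum_congr rfl fun j hj => ?_
          rw [if_neg (Finset.ne_of_mem_erase hj)]
        have hpteq : pt v t (fun j => if j = k then 0 else w j) = pt v (t.erase k) w :=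
          hsumeq v
        refine ⟨fun j => if j = k then 0 else w j, ?_, if_pos rfl, ?_, ?_⟩
        · intro j hj
          beta_reduce
          by_cases hjk : j = k
          · rw [if_pos hjk]
          · rw [if_neg hjk]
            exact hw0 j (Finset.mem_erase.mpr ⟨hjk, hj⟩)
        · have h1 : ∑ j ∈ t, (if j = k then (0 : R) else w j) = ∑ j ∈ t.erase k, w j := by
            rw [← Finset.sum_erase t (a := k) (by simp)]
            refine Finset.sum_congr rfl fun j hj => ?_
            rw [if_neg (Finset.ne_of_mem_erase hj)]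
          rw [h1, hw1]
        · intro j hj hjk
          rw [hpteq]
          exact hww j (Finset.mem_erase.mpr ⟨hjk, hj⟩)
      choose! W hW0 hWk hW1 hWw using hIH
      obtain ⟨ks, hks, hksmin⟩ :=
        Finset.exists_min_image t (fun k => B (pt v t (W k)) (pt v t (W k))) ht
      refine ⟨W ks, hW0 ks hks, hW1 ks hks, fun j hj => ?_⟩
      by_cases hjks : j = ks
      · by_contra hlt
        rw [hjks] at hlt
        obtain ⟨l, hl0, hl1, hllt⟩ :=
          exists_improve B hBs hBp v t (hW0 ks hks) (hW1 ks hks) hks (not_le.mp hlt)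
        obtain ⟨j₀, hj₀, ν, hν0, hνj₀, hν1, hνle⟩ :=
          exists_exit B hBs hBp0 v t hl0 hl1 hμ1 hμ2 hk₁ hμk₁
        have h1 : B (pt v t (W j₀)) (pt v t (W j₀)) ≤ B (pt v t ν) (pt v t ν) := by
          apply le_of_wolfe B hBs hBp0 _ hν0 hν1
          intro i hi hνi
          apply hWw j₀ hj₀ i hi
          intro hij
          rw [hij] at hνi
          exact hνi hνj₀
        have h2 := hksmin j₀ hj₀
        linarith
      · exact hWw ks hks j hj hjks

/-- **Separation**: a vector which is not a convex combination of a finite family can be strictly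
separated from the family. -/
theorem exists_separation [FiniteDimensional R V] (hBs : ∀ y z : V, B y z = B z y)
    (hBp : ∀ y : V, y ≠ 0 → 0 < B y y) (v : κ → V) (t : Finset κ) (y : V)
    (hy : ∀ w : κ → R, (∀ k ∈ t, 0 ≤ w k) → ∑ k ∈ t, w k = 1 → pt v t w ≠ y) :
    ∃ p : V, ∀ k ∈ t, B p y < B p (v k) := by
  rcases t.eq_empty_or_nonempty with rfl | ht
  · exact ⟨0, fun k hk => absurd hk (Finset.notMem_empty k)⟩
  obtain ⟨w, hw0, hw1, hwolfe⟩ := exists_wolfe B hBs hBp (fun k => v k - y) t.card t rfl ht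
  have hpe : pt (fun k => v k - y) t w = pt v t w - y := by
    unfold pt
    simp only [smul_sub, Finset.sum_sub_distrib, ← Finset.sum_smul, hw1, one_smul]
  have hp0 : pt (fun k => v k - y) t w ≠ 0 := by
    rw [hpe]
    exact sub_ne_zero.mpr (hy w hw0 hw1)
  refine ⟨pt (fun k => v k - y) t w, fun k hk => ?_⟩
  have h1 := hwolfe k hk
  have h2 := hBp _ hp0
  rw [map_sub] at h1
  linarith

/-- The convex hull of the image of a finite set, in terms of combinations. -/
lemma mem_convexHull_image_iff (v : κ → V) (t : Finset κ) (x : V) :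
    x ∈ convexHull R (v '' (t : Set κ)) ↔
      ∃ w : κ → R, (∀ k ∈ t, 0 ≤ w k) ∧ ∑ k ∈ t, w k = 1 ∧ pt v t w = x := by
  classical
  constructor
  · intro hx
    have hconv : Convex R {x : V | ∃ w : κ → R, (∀ k ∈ t, 0 ≤ w k) ∧ ∑ k ∈ t, w k = 1 ∧
        pt v t w = x} := by
      rintro x ⟨w, hw0, hw1, rfl⟩ x' ⟨w', hw0', hw1', rfl⟩ a c ha hc hac
      refine ⟨fun j => a * w j + c * w' j, fun k hk =>
        add_nonneg (mul_nonneg ha (hw0 k hk)) (mul_nonneg hc (hw0' k hk)), ?_, pt_comb v t w w' a c⟩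
      rw [Finset.sum_add_distrib, ← Finset.mul_sum, ← Finset.mul_sum, hw1, hw1', mul_one, mul_one,
        hac]
    have hsub : v '' (t : Set κ) ⊆ {x : V | ∃ w : κ → R, (∀ k ∈ t, 0 ≤ w k) ∧
        ∑ k ∈ t, w k = 1 ∧ pt v t w = x} := by
      rintro _ ⟨k, hk, rfl⟩
      have hk' : k ∈ t := Finset.mem_coe.mp hk
      refine ⟨fun j => if j = k then 1 else 0, fun j _ => ?_, sum_single t hk' 1, ?_⟩
      · beta_reduce
        split_ifs
        · exact zero_le_one
        · exact le_rfl
      · rw [pt_single v t hk', one_smul]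
    exact convexHull_min hsub hconv hx
  · rintro ⟨w, hw0, hw1, rfl⟩
    have h1 := Finset.centerMass_mem_convexHull (R := R) t (w := w) (z := v)
      (s := v '' (t : Set κ)) hw0 (by rw [hw1]; exact one_pos)
      (fun k hk => ⟨k, Finset.mem_coe.mpr hk, rfl⟩)
    rw [Finset.centerMass_eq_of_sum_1 _ _ hw1] at h1
    exact h1

end Groth.Agent.Lib.ConvMin_helper8
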