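import Mathlib

set_option autoImplicit false
universe u

/-!
# Coprimary devissage for finite modules over a Noetherian ring (helper5)

`devissage`: a property of finite modules which passes to submodules, is stable under "left exact
extensions" (`M' ↪ M → M''` exact in the middle) and holds for `A ⧸ p` for all "good" primes `p`,
holds for every finite module all of whose associated primes are good.
-/

namespace Groth.Agent.Lib.CoprimDevH5

open Submodule

section TF

/-- A finite torsion-free module over a domain embeds in a finite free module. -/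
theorem exists_injective_of_torsionFree (B : Type u) [CommRing B] [IsDomain B] (E : Type u)
    [AddCommGroup E] [Module B E] [Module.Finite B E]
    (htf : ∀ (b : B) (x : E), b • x = 0 → b = 0 ∨ x = 0) :
    ∃ (n : ℕ) (f : E →ₗ[B] (Fin n → B)), Function.Injective f := by
  classical
  let S := nonZeroDivisors B
  let K := FractionRing B
  let L := LocalizedModule S E
  haveI : Module.Finite K L := Module.Finite.of_isLocalizedModule S (Rₚ := K)
    (LocalizedModule.mkLinearMap S E)
  let n := Module.finrank K L
  let bs : Module.Basis (Fin n) K L := Module.finBasis K L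
  -- the map to K^n
  let ψ : E →ₗ[B] (Fin n → K) :=
    (bs.equivFun.toLinearMap.restrictScalars B) ∘ₗ (LocalizedModule.mkLinearMap S E)
  obtain ⟨G, hG⟩ := (Module.Finite.fg_top : (⊤ : Submodule B E).FG)
  let coords : Finset K := (G ×ˢ (Finset.univ : Finset (Fin n))).image (fun gi => ψ gi.1 gi.2)
  obtain ⟨d, hd⟩ := IsLocalization.exist_integer_multiples_of_finset S coords
  let ι : (Fin n → B) →ₗ[B] (Fin n → K) := (Algebra.linearMap B K).compLeft (Fin n)
  have hι : Function.Injective ι := by
    intro v w hvw
    funext i
    have := congrFun hvw i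
    exact IsFractionRing.injective B K this
  have hmem : ∀ x : E, (d : B) • ψ x ∈ LinearMap.range ι := by
    intro x
    have hx : x ∈ Submodule.span B (G : Set E) := by rw [hG]; trivial
    induction hx using Submodule.span_induction with
    | mem g hg =>
      have h1 : ∀ i : Fin n, ∃ b : B, algebraMap B K b = (d : B) • ψ g i := by
        intro i
        have : ψ g i ∈ coords :=
          Finset.mem_image.2 ⟨(g, i), Finset.mem_product.2 ⟨hg, Finset.mem_univ i⟩, rfl⟩
        exact hd _ this
      choose b hb using h1
      refine ⟨b, ?_⟩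
      funext i
      exact hb i
    | zero => rw [map_zero, smul_zero]; exact Submodule.zero_mem _
    | add x y _ _ hx hy => rw [map_add, smul_add]; exact Submodule.add_mem _ hx hy
    | smul a x _ hx => rw [map_smul, smul_comm]; exact Submodule.smul_mem _ a hx
  let φ : E →ₗ[B] LinearMap.range ι := ((d : B) • ψ).codRestrict (LinearMap.range ι) hmem
  refine ⟨n, (LinearEquiv.ofInjective ι hι).symm.toLinearMap ∘ₗ φ, ?_⟩
  intro x y hxy
  have h1 : φ x = φ y := (LinearEquiv.ofInjective ι hι).symm.injective hxy
  have h2 : (d : B) • ψ x = (d : B) • ψ y := congrArg Subtype.val h1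
  have hd0 : (d : B) ≠ 0 := nonZeroDivisors.ne_zero d.2
  have h3 : ψ (x - y) = 0 := by
    have h4 : (d : B) • ψ (x - y) = 0 := by rw [map_sub, smul_sub, h2, sub_self]
    have h5 : (algebraMap B K (d : B)) • ψ (x - y) = 0 := by
      rw [algebraMap_smul]; exact h4
    rcases smul_eq_zero.1 h5 with h6 | h6
    · exact absurd ((map_eq_zero_iff _ (IsFractionRing.injective B K)).1 h6) hd0
    · exact h6
  have h4 : LocalizedModule.mkLinearMap S E (x - y) = 0 := by
    have : bs.equivFun (LocalizedModule.mkLinearMap S E (x - y)) = 0 := h3
    exact (LinearEquiv.map_eq_zero_iff bs.equivFun).1 this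
  obtain ⟨s, hs⟩ := (IsLocalizedModule.eq_zero_iff S (LocalizedModule.mkLinearMap S E)).1 h4
  rcases htf (s : B) (x - y) hs with h5 | h5
  · exact absurd h5 (nonZeroDivisors.ne_zero s.2)
  · exact sub_eq_zero.1 h5

end TF

variable {A : Type u} [CommRing A] [IsNoetherianRing A]

section LocKer

variable (p : Ideal A) [hp : p.IsPrime] (M : Type u) [AddCommGroup M] [Module A M]

/-- The kernel of `M → M_p`. -/
def locKer : Submodule A M where
  carrier := {x | ∃ s : A, s ∉ p ∧ s • x = 0}
  zero_mem' := ⟨1, fun h => hp.ne_top ((Ideal.eq_top_iff_one p).2 h), smul_zero _⟩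
  add_mem' := by
    rintro x y ⟨s, hs, hsx⟩ ⟨t, ht, hty⟩
    refine ⟨s * t, fun h => (hp.mem_or_mem h).elim hs ht, ?_⟩
    rw [smul_add, mul_smul s t y, hty, smul_zero, add_zero, mul_comm, mul_smul, hsx, smul_zero]
  smul_mem' := by
    rintro a x ⟨s, hs, hsx⟩
    exact ⟨s, hs, by rw [smul_comm, hsx, smul_zero]⟩

variable {p M}

theorem mem_locKer {x : M} : x ∈ locKer p M ↔ ∃ s : A, s ∉ p ∧ s • x = 0 := Iff.rfl

variable (p M)

/-- `p` is not an associated prime of the kernel of `M → M_p`. -/
theorem not_mem_ass_locKer : p ∉ associatedPrimes A (locKer p M) := by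
  intro h
  obtain ⟨_, x, hx⟩ := (isAssociatedPrime_iff (I := p) (M := locKer p M)).1 h
  obtain ⟨s, hs, hsx⟩ := x.2
  apply hs
  rw [hx, Submodule.mem_colon_singleton, Submodule.mem_bot]
  exact Subtype.ext hsx

theorem exists_killer (T : Finset A) (x : M) (h : ∀ a ∈ T, a • x ∈ locKer p M) :
    ∃ s : A, s ∉ p ∧ ∀ a ∈ T, s • a • x = 0 := by
  classical
  induction T using Finset.induction_on with
  | empty => exact ⟨1, fun h1 => hp.ne_top ((Ideal.eq_top_iff_one p).2 h1), fun a ha => by simp at ha⟩
  | insert a T ha ih =>
    obtain ⟨s, hs, hsT⟩ := ih (fun b hb => h b (Finset.mem_insert_of_mem hb))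
    obtain ⟨t, ht, hta⟩ := h a (Finset.mem_insert_self a T)
    refine ⟨s * t, fun h1 => (hp.mem_or_mem h1).elim hs ht, ?_⟩
    intro b hb
    rcases Finset.mem_insert.1 hb with rfl | hb
    · rw [mul_smul, hta, smul_zero]
    · rw [mul_comm, mul_smul, hsT b hb, smul_zero]

/-- Associated primes of `M / ker(M → M_p)` are associated primes of `M` contained in `p`. -/
theorem ass_quot_locKer (q : Ideal A) (hq : q ∈ associatedPrimes A (M ⧸ locKer p M)) :
    q ∈ associatedPrimes A M ∧ q ≤ p := by
  obtain ⟨hqp, xb, hx⟩ := (isAssociatedPrime_iff (I := q) (M := M ⧸ locKer p M)).1 hq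
  obtain ⟨x, rfl⟩ := Submodule.Quotient.mk_surjective _ xb
  have hmem : ∀ a : A, a ∈ q ↔ a • x ∈ locKer p M := by
    intro a
    rw [hx, Submodule.mem_colon_singleton, Submodule.mem_bot, ← Submodule.Quotient.mk_smul,
      Submodule.Quotient.mk_eq_zero]
  have hxn : x ∉ locKer p M := by
    intro hxk
    apply hqp.ne_top
    rw [Ideal.eq_top_iff_one, hmem, one_smul]
    exact hxk
  have hle : q ≤ p := by
    intro a ha
    by_contra hap
    obtain ⟨s, hs, hsx⟩ := (hmem a).1 ha
    apply hxn
    refine ⟨s * a, fun h1 => (hp.mem_or_mem h1).elim hs hap, ?_⟩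
    rw [mul_smul, hsx]
  refine ⟨?_, hle⟩
  obtain ⟨T, hT⟩ := (IsNoetherian.noetherian q : q.FG)
  obtain ⟨s, hs, hsT⟩ := exists_killer p M T x (fun a ha => (hmem a).1 (hT ▸ Ideal.subset_span ha))
  rw [AssociatedPrimes.mem_iff, isAssociatedPrime_iff]
  refine ⟨hqp, s • x, ?_⟩
  apply le_antisymm
  · rw [← hT, Ideal.span_le]
    intro a ha
    show a ∈ (⊥ : Submodule A M).colon {s • x}
    rw [Submodule.mem_colon_singleton, Submodule.mem_bot, smul_comm]
    exact hsT a ha
  · intro b hb
    rw [Submodule.mem_colon_singleton, Submodule.mem_bot] at hb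
    have h1 : (b * s) ∈ q := by
      rw [hmem]
      refine ⟨1, fun h1 => hp.ne_top ((Ideal.eq_top_iff_one p).2 h1), ?_⟩
      rw [one_smul, mul_smul, hb]
    rcases hqp.mem_or_mem h1 with h2 | h2
    · exact h2
    · exact absurd (hle h2) hs

end LocKer

section Coprimary

variable (p : Ideal A) [hp : p.IsPrime] (N : Type u) [AddCommGroup N] [Module A N]

/-- A finite module whose only possible associated prime is `p` is killed by a power of `p`. -/
theorem exists_pow_smul_eq_zero [Module.Finite A N] (hN : associatedPrimes A N ⊆ {p}) :
    ∃ n : ℕ, ∀ a ∈ p ^ n, ∀ x : N, a • x = 0 := by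
  by_cases hsub : Subsingleton N
  · exact ⟨0, fun a _ x => by rw [Subsingleton.elim x 0, smul_zero]⟩
  · have hnt : Nontrivial N := not_subsingleton_iff_nontrivial.1 hsub
    have hann : Module.annihilator A N ≠ ⊤ := by
      intro h
      have h1 : (1 : A) ∈ Module.annihilator A N := by rw [h]; trivial
      obtain ⟨x, y, hxy⟩ := hnt.exists_pair_ne
      apply hxy
      have hx := Module.mem_annihilator.1 h1 x
      have hy := Module.mem_annihilator.1 h1 y
      rw [one_smul] at hx hy
      rw [hx, hy]
    have hmin : (Module.annihilator A N).minimalPrimes ⊆ {p} :=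
      (Module.associatedPrimes.minimalPrimes_annihilator_subset_associatedPrimes A N).trans hN
    have hne : (Module.annihilator A N).minimalPrimes.Nonempty :=
      Set.nonempty_coe_sort.1 (Ideal.nonempty_minimalPrimes hann)
    have hrad : (Module.annihilator A N).radical = p := by
      rw [← Ideal.sInf_minimalPrimes]
      have : (Module.annihilator A N).minimalPrimes = {p} :=
        Set.Subset.antisymm hmin (by
          obtain ⟨q, hq⟩ := hne
          have := hmin hq
          rw [Set.mem_singleton_iff] at this
          rw [Set.singleton_subset_iff, ← this]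
          exact hq)
      rw [this, sInf_singleton]
    obtain ⟨n, hn⟩ := Ideal.exists_pow_le_of_le_radical_of_fg (le_of_eq hrad.symm)
      (IsNoetherian.noetherian p)
    exact ⟨n, fun a ha x => Module.mem_annihilator.1 (hn ha) x⟩

/-- A finite module killed by `p` whose only possible associated prime is `p` embeds in a finite
free `A ⧸ p`-module. -/
theorem exists_injective_of_killed [Module.Finite A N] (hN : associatedPrimes A N ⊆ {p})
    (hk : ∀ a ∈ p, ∀ x : N, a • x = 0) :
    ∃ (n : ℕ) (f : N →ₗ[A] (Fin n → A ⧸ p)), Function.Injective f := by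
  have htor : Module.IsTorsionBySet A N (p : Set A) := by
    intro x a
    exact hk a.1 a.2 x
  letI : Module (A ⧸ p) N := htor.module
  haveI : IsScalarTower A (A ⧸ p) N := htor.isScalarTower
  haveI : Module.Finite (A ⧸ p) N := Module.Finite.of_restrictScalars_finite A (A ⧸ p) N
  have htf : ∀ (b : A ⧸ p) (x : N), b • x = 0 → b = 0 ∨ x = 0 := by
    intro b x hbx
    by_cases hx : x = 0
    · exact Or.inr hx
    · left
      obtain ⟨a, rfl⟩ := Ideal.Quotient.mk_surjective b
      obtain ⟨P, hP, hle⟩ := exists_le_isAssociatedPrime_of_isNoetherianRing (R := A) x hx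
      have hPp : P = p := hN hP
      rw [Ideal.Quotient.eq_zero_iff_mem, ← hPp]
      apply hle
      rw [Submodule.mem_colon_singleton, Submodule.mem_bot]
      have : (Ideal.Quotient.mk p a) • x = a • x := by
        rw [← algebraMap_smul (A ⧸ p) a x]; rfl
      rw [← this]
      exact hbx
  obtain ⟨n, f, hf⟩ := exists_injective_of_torsionFree (A ⧸ p) N htf
  exact ⟨n, f.restrictScalars A, hf⟩

end Coprimary

section Devissage

variable (P : ∀ (N : Type u) [AddCommGroup N] [Module A N], Prop)
  (hzero : ∀ (N : Type u) [AddCommGroup N] [Module A N] [Subsingleton N], P N)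
  (hsub : ∀ (N M : Type u) [AddCommGroup N] [Module A N] [AddCommGroup M] [Module A M]
    [Module.Finite A N] [Module.Finite A M] (f : N →ₗ[A] M), Function.Injective f → P M → P N)
  (hext : ∀ (M' M M'' : Type u) [AddCommGroup M'] [Module A M'] [AddCommGroup M] [Module A M]
    [AddCommGroup M''] [Module A M''] [Module.Finite A M'] [Module.Finite A M]
    [Module.Finite A M''] (f : M' →ₗ[A] M) (g : M →ₗ[A] M''), Function.Injective f →
    Function.Exact f g → P M' → P M'' → P M)

include hzero hext in
theorem P_pi (N : Type u) [AddCommGroup N] [Module A N] [Module.Finite A N] (hN : P N) :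
    ∀ n : ℕ, P (Fin n → N) := by
  intro n
  induction n with
  | zero => exact hzero _
  | succ n ih =>
    refine hext N (Fin (n + 1) → N) (Fin n → N) (LinearMap.single A (fun _ => N) 0)
      (LinearMap.funLeft A N Fin.succ) ?_ ?_ hN ih
    · intro x y hxy
      have := congrFun hxy 0
      simpa using this
    · intro v
      constructor
      · intro hv
        refine ⟨v 0, ?_⟩
        funext i
        refine Fin.cases ?_ (fun j => ?_) i
        · simp
        · have := congrFun hv j
          simp only [LinearMap.funLeft_apply, Pi.zero_apply] at this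
          rw [this]
          simp [Fin.succ_ne_zero]
      · rintro ⟨x, rfl⟩
        funext j
        simp [LinearMap.funLeft_apply, Fin.succ_ne_zero]

variable (good : Ideal A → Prop)
  (hgood : ∀ (p : Ideal A) [p.IsPrime], good p → P (A ⧸ p))

include hzero hsub hext hgood in
theorem P_of_killed (p : Ideal A) [hp : p.IsPrime] (hgp : good p) (N : Type u) [AddCommGroup N]
    [Module A N] [Module.Finite A N] (hN : associatedPrimes A N ⊆ {p})
    (hk : ∀ a ∈ p, ∀ x : N, a • x = 0) : P N := by
  obtain ⟨n, f, hf⟩ := exists_injective_of_killed p N hN hk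
  exact hsub N (Fin n → A ⧸ p) f hf (P_pi P hzero hext (A ⧸ p) (hgood p hgp) n)

include hzero hsub hext hgood in
theorem P_of_coprimary (p : Ideal A) [hp : p.IsPrime] (hgp : good p) :
    ∀ (n : ℕ) (N : Type u) [AddCommGroup N] [Module A N] [Module.Finite A N],
      associatedPrimes A N ⊆ {p} → (∀ a ∈ p ^ n, ∀ x : N, a • x = 0) → P N := by
  intro n
  induction n with
  | zero =>
    intro N _ _ _ _ hk
    haveI : Subsingleton N := ⟨fun x y => by
      have hx := hk 1 (by rw [pow_zero, Ideal.one_eq_top]; trivial) x
      have hy := hk 1 (by rw [pow_zero, Ideal.one_eq_top]; trivial) y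
      rw [one_smul] at hx hy
      rw [hx, hy]⟩
    exact hzero N
  | succ n ih =>
    intro N _ _ _ hN hk
    -- the p-torsion submodule
    let K : Submodule A N := Submodule.torsionBySet A N (p : Set A)
    have hK : P K := by
      apply P_of_killed P hzero hsub hext good hgood p hgp K
      · exact (associatedPrimes.subset_of_injective (f := K.subtype) K.injective_subtype).trans hN
      · intro a ha x
        apply Subtype.ext
        have := (Submodule.mem_torsionBySet_iff (p : Set A) (x : N)).1 x.2 ⟨a, ha⟩
        exact this
    let N' : Submodule A N := p • (⊤ : Submodule A N)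
    have hN' : P N' := by
      apply ih N'
      · exact (associatedPrimes.subset_of_injective (f := N'.subtype) N'.injective_subtype).trans hN
      · intro a ha x
        apply Subtype.ext
        have hx : (x : N) ∈ p • (⊤ : Submodule A N) := x.2
        show a • (x : N) = 0
        refine Submodule.smul_induction_on hx ?_ ?_
        · intro b hb y _
          rw [smul_smul]
          apply hk
          rw [pow_succ]
          exact Ideal.mul_mem_mul ha hb
        · intro y z hy hz
          rw [smul_add, hy, hz, add_zero]
    obtain ⟨k, a, ha⟩ := Submodule.fg_iff_exists_fin_generating_family.1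
      (IsNoetherian.noetherian p : p.FG)
    have hap : ∀ i, a i ∈ p := fun i => ha ▸ Submodule.subset_span (Set.mem_range_self i)
    let g : N →ₗ[A] (Fin k → N') :=
      LinearMap.pi (fun i => (LinearMap.lsmul A N (a i)).codRestrict N'
        (fun x => Submodule.smul_mem_smul (hap i) Submodule.mem_top))
    refine hext K N (Fin k → N') K.subtype g K.injective_subtype ?_ hK
      (P_pi P hzero hext N' hN' k)
    intro x
    constructor
    · intro hx
      refine ⟨⟨x, ?_⟩, rfl⟩
      rw [Submodule.mem_torsionBySet_iff]
      have key : ∀ b ∈ Submodule.span A (Set.range a), b • x = 0 := by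
        intro b hb'
        induction hb' using Submodule.span_induction with
        | mem c hc =>
          obtain ⟨i, rfl⟩ := hc
          have := congrArg Subtype.val (congrFun hx i)
          exact this
        | zero => rw [zero_smul]
        | add c d _ _ hc hd => rw [add_smul, hc, hd, add_zero]
        | smul c d _ hd => rw [smul_eq_mul, mul_smul, hd, smul_zero]
      rintro ⟨b, hb⟩
      show b • x = 0
      exact key b (by rw [ha]; exact hb)
    · rintro ⟨y, rfl⟩
      funext i
      apply Subtype.ext
      show a i • (y : N) = 0
      exact (Submodule.mem_torsionBySet_iff (p : Set A) (y : N)).1 y.2 ⟨a i, hap i⟩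

include hzero hsub hext hgood in
/-- Coprimary devissage. -/
theorem devissage :
    ∀ (n : ℕ) (M : Type u) [AddCommGroup M] [Module A M] [Module.Finite A M],
      (associatedPrimes A M).ncard ≤ n → (∀ q ∈ associatedPrimes A M, good q) → P M := by
  intro n
  induction n with
  | zero =>
    intro M _ _ _ hcard _
    have hfin : (associatedPrimes A M).Finite := associatedPrimes.finite A M
    have hempty : associatedPrimes A M = ∅ := by
      rw [← Set.ncard_eq_zero hfin]; exact Nat.le_zero.1 hcard
    haveI : Subsingleton M := by
      by_contra h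
      haveI := not_subsingleton_iff_nontrivial.1 h
      have := associatedPrimes.nonempty A M
      rw [hempty] at this
      exact Set.not_nonempty_empty this
    exact hzero M
  | succ n ih =>
    intro M _ _ _ hcard hM
    have hfin : (associatedPrimes A M).Finite := associatedPrimes.finite A M
    by_cases hempty : associatedPrimes A M = ∅
    · haveI : Subsingleton M := by
        by_contra h
        haveI := not_subsingleton_iff_nontrivial.1 h
        have := associatedPrimes.nonempty A M
        rw [hempty] at this
        exact Set.not_nonempty_empty this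
      exact hzero M
    · obtain ⟨p, hpmin⟩ := hfin.exists_minimal (Set.nonempty_iff_ne_empty.2 hempty)
      have hpass : p ∈ associatedPrimes A M := hpmin.1
      haveI hp : p.IsPrime := hpass.isPrime
      -- the kernel
      have h1 : associatedPrimes A (locKer p M) ⊆ associatedPrimes A M \ {p} := by
        intro q hq
        refine ⟨associatedPrimes.subset_of_injective (f := (locKer p M).subtype)
          (locKer p M).injective_subtype hq, ?_⟩
        rintro rfl
        exact not_mem_ass_locKer q M hq
      have hK : P (locKer p M) := by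
        apply ih (locKer p M)
        · have h2 : (associatedPrimes A M \ {p}).ncard = (associatedPrimes A M).ncard - 1 :=
            Set.ncard_sdiff_singleton_of_mem hpass
          have h3 := Set.ncard_le_ncard h1 (hfin.subset Set.sdiff_subset)
          omega
        · intro q hq
          exact hM q (h1 hq).1
      have h2 : associatedPrimes A (M ⧸ locKer p M) ⊆ {p} := by
        intro q hq
        obtain ⟨hqM, hqp⟩ := ass_quot_locKer p M q hq
        rw [Set.mem_singleton_iff]
        exact le_antisymm hqp (hpmin.2 hqM hqp)
      obtain ⟨k, hk⟩ := exists_pow_smul_eq_zero p (M ⧸ locKer p M) h2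
      have hQ : P (M ⧸ locKer p M) :=
        P_of_coprimary P hzero hsub hext good hgood p (hM p hpass) k _ h2 hk
      exact hext (locKer p M) M (M ⧸ locKer p M) (locKer p M).subtype (locKer p M).mkQ
        (locKer p M).injective_subtype (LinearMap.exact_subtype_mkQ _) hK hQ

include hzero hsub hext hgood in
theorem devissage' (M : Type u) [AddCommGroup M] [Module A M] [Module.Finite A M]
    (hM : ∀ q ∈ associatedPrimes A M, good q) : P M :=
  devissage P hzero hsub hext good hgood _ M le_rfl hM

end Devissage

end Groth.Agent.Lib.CoprimDevH5
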