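import Mathlib

/-!
# The disjoint union of two closed subschemes with disjoint images is a closed subscheme  (helper5)
-/

set_option autoImplicit false
universe u
open AlgebraicGeometry CategoryTheory CategoryTheory.Limits Opposite TopologicalSpace Topology

noncomputable section

namespace Groth.Agent.CoprodImm

theorem isClosedImmersion_coprodDesc {X Y Z : Scheme.{u}} (f : X ⟶ Z) (g : Y ⟶ Z)
    [IsClosedImmersion f] [IsClosedImmersion g] (hdisj : ∀ x y, f.base x ≠ g.base y) :
    IsClosedImmersion (coprod.desc f g) := by
  rw [isClosedImmersion_iff]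
  constructor
  · rw [IsZariskiLocalAtSource.iff_of_openCover (P := @SurjectiveOnStalks)
      (coprodOpenCover.{u, 0} X Y)]
    rintro (⟨⟩ | ⟨⟩)
    · show SurjectiveOnStalks (coprod.inl ≫ coprod.desc f g)
      rw [coprod.inl_desc]; infer_instance
    · show SurjectiveOnStalks (coprod.inr ≫ coprod.desc f g)
      rw [coprod.inr_desc]; infer_instance
  · have h1 : ∀ z, (coprod.desc f g).base (coprodMk X Y z) = Sum.elim f.base g.base z := by
      rintro (x | y)
      · rw [coprodMk_inl, Sum.elim_inl, ← Scheme.Hom.comp_apply, coprod.inl_desc]
      · rw [coprodMk_inr, Sum.elim_inr, ← Scheme.Hom.comp_apply, coprod.inr_desc]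
    have hinj : Function.Injective (Sum.elim f.base g.base) := by
      rintro (x | y) (x' | y') h
      · exact congrArg Sum.inl (f.isClosedEmbedding.injective h)
      · exact absurd h (hdisj x y')
      · exact absurd h.symm (hdisj x' y)
      · exact congrArg Sum.inr (g.isClosedEmbedding.injective h)
    have h2 : IsClosedEmbedding (Sum.elim f.base g.base) :=
      f.isClosedEmbedding.sumElim g.isClosedEmbedding hinj
    have h3 : ⇑(coprod.desc f g).base = Sum.elim f.base g.base ∘ (coprodMk X Y).symm := by
      funext w
      obtain ⟨z, rfl⟩ := (coprodMk X Y).surjective w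
      rw [Function.comp_apply, Homeomorph.symm_apply_apply]
      exact h1 z
    show IsClosedEmbedding ⇑(coprod.desc f g).base
    rw [h3]
    exact h2.comp (coprodMk X Y).symm.isClosedEmbedding

end Groth.Agent.CoprodImm
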