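import Mathlib
import Groth.Agent.Lib.FiniteRegFree_helper3
import Groth.Agent.Lib.Serre_helper5

/-!
# Coproduct decompositions of a finite regular extension (helper3)

If a regular local ring `A`, finite over a regular local ring `R`, is the coproduct of subalgebras
`B i`, then `A ≅ B i ⊗_R N_i` (`N_i` generated by the other `B j`), so every `B i` is a direct
summand of the free module `A` (hence free), `A` is free over `B i`, and `B i` is regular.
-/

set_option autoImplicit false
universe u v

namespace Groth.Agent.Lib.CoprodSplitH3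

open TensorProduct

section

variable {R : Type u} {A : Type v} [CommRing R] [CommRing A] [Algebra R A]
  {ι : Type*} [DecidableEq ι] (B : ι → Subalgebra R A)

/-- the subalgebra generated by the `B j`, `j ≠ i` -/
def compl (i : ι) : Subalgebra R A := Algebra.adjoin R (⋃ j ∈ {j : ι | j ≠ i}, (B j : Set A))

theorem le_compl {i j : ι} (h : j ≠ i) : B j ≤ compl B i := fun x hx =>
  Algebra.subset_adjoin (Set.mem_iUnion₂.2 ⟨j, h, hx⟩)

/-- the coproduct property -/
def IsCoprod : Prop :=
  ∀ (C : Type (max u v)) [CommRing C] [Algebra R C] (φ : ∀ i, B i →ₐ[R] C),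
    ∃! ψ : A →ₐ[R] C, ∀ i (x : B i), ψ x = φ i x

/-- the family of maps into the tensor product -/
noncomputable def phi (i : ι) (j : ι) : B j →ₐ[R] ULift.{u} ((B i) ⊗[R] (compl B i)) :=
  if h : j = i then
    (ULift.algEquiv.symm : _ ≃ₐ[R] ULift.{u} ((B i) ⊗[R] (compl B i))).toAlgHom.comp
      (Algebra.TensorProduct.includeLeft.comp (Subalgebra.inclusion (le_of_eq (congrArg B h))))
  else
    (ULift.algEquiv.symm : _ ≃ₐ[R] ULift.{u} ((B i) ⊗[R] (compl B i))).toAlgHom.comp
      (Algebra.TensorProduct.includeRight.comp (Subalgebra.inclusion (le_compl B h)))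

variable {B}

/-- the induced map `A → B i ⊗ N_i` -/
noncomputable def psi (hB : IsCoprod B) (i : ι) : A →ₐ[R] (B i) ⊗[R] (compl B i) :=
  (ULift.algEquiv : ULift.{u} ((B i) ⊗[R] (compl B i)) ≃ₐ[R] _).toAlgHom.comp
    (hB _ (phi B i)).exists.choose

theorem psi_apply (hB : IsCoprod B) (i j : ι) (x : B j) :
    psi hB i x = (phi B i j x).down := by
  have := (hB _ (phi B i)).exists.choose_spec j x
  show ((hB _ (phi B i)).exists.choose (x : A)).down = _
  rw [this]

theorem psi_left (hB : IsCoprod B) (i : ι) (x : B i) : psi hB i x = x ⊗ₜ 1 := by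
  rw [psi_apply hB i i x]
  unfold phi
  rw [dif_pos rfl]
  rfl

theorem psi_right (hB : IsCoprod B) (i : ι) {j : ι} (h : j ≠ i) (x : B j) :
    psi hB i x = 1 ⊗ₜ (Subalgebra.inclusion (le_compl B h) x) := by
  rw [psi_apply hB i j x]
  unfold phi
  rw [dif_neg h]
  rfl

variable (B) in
/-- the multiplication map `B i ⊗ N_i → A` -/
noncomputable def mult (i : ι) : (B i) ⊗[R] (compl B i) →ₐ[R] A :=
  Algebra.TensorProduct.productMap (B i).val (compl B i).val

theorem mult_tmul (i : ι) (b : B i) (n : compl B i) : mult B i (b ⊗ₜ n) = (b : A) * (n : A) :=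
  rfl

theorem mult_comp_psi (hB : IsCoprod B) (i : ι) :
    (mult B i).comp (psi hB i) = AlgHom.id R A := by
  let up : A →ₐ[R] ULift.{u} A := (ULift.algEquiv.symm : A ≃ₐ[R] ULift.{u} A).toAlgHom
  have huniq := (hB (ULift.{u} A) (fun j => up.comp (B j).val)).unique
    (y₁ := up.comp ((mult B i).comp (psi hB i))) (y₂ := up.comp (AlgHom.id R A)) ?_ ?_
  · ext a
    have := DFunLike.congr_fun huniq a
    exact ULift.up_injective this
  · intro j x
    show up (mult B i (psi hB i (x : A))) = up (x : A)
    congr 1
    by_cases h : j = i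
    · subst h
      rw [psi_left, mult_tmul]
      simp
    · rw [psi_right hB i h, mult_tmul]
      simp
  · intro j x
    rfl

theorem psi_compl (hB : IsCoprod B) (i : ι) (n : compl B i) : psi hB i n = 1 ⊗ₜ n := by
  have : (psi hB i).comp (compl B i).val = Algebra.TensorProduct.includeRight := by
    refine AlgHom.ext_of_eq_adjoin (S := compl B i)
      (s := ⋃ j ∈ {j : ι | j ≠ i}, (B j : Set A)) rfl ?_
    intro x hx
    obtain ⟨j, hj, hxj⟩ := Set.mem_iUnion₂.1 hx
    exact psi_right hB i hj ⟨x, hxj⟩
  exact DFunLike.congr_fun this n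

theorem psi_comp_mult (hB : IsCoprod B) (i : ι) :
    (psi hB i).comp (mult B i) = AlgHom.id R _ := by
  apply Algebra.TensorProduct.ext'
  intro b n
  rw [AlgHom.comp_apply, mult_tmul, map_mul, psi_left, psi_compl,
    Algebra.TensorProduct.tmul_mul_tmul, mul_one, one_mul]
  rfl

/-- `A ≃ B i ⊗ N_i` -/
noncomputable def equiv (hB : IsCoprod B) (i : ι) : A ≃ₐ[R] (B i) ⊗[R] (compl B i) :=
  AlgEquiv.ofAlgHom (psi hB i) (mult B i) (psi_comp_mult hB i) (mult_comp_psi hB i)

theorem mult_bijective (hB : IsCoprod B) (i : ι) : Function.Bijective (mult B i) :=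
  (equiv hB i).symm.bijective

variable (B) in
/-- retraction onto the left factor -/
noncomputable def retrL (i : ι) (l : A →ₗ[R] R) : (B i) ⊗[R] (compl B i) →ₗ[R] B i :=
  (TensorProduct.rid R (B i)).toLinearMap ∘ₗ
    LinearMap.lTensor (B i) (l ∘ₗ (compl B i).val.toLinearMap)

theorem retrL_tmul (i : ι) (l : A →ₗ[R] R) (b : B i) (n : compl B i) :
    retrL B i l (b ⊗ₜ n) = l (n : A) • b := by
  simp [retrL]

variable (B) in
/-- retraction onto the right factor -/
noncomputable def retrR (i : ι) (l : A →ₗ[R] R) : (B i) ⊗[R] (compl B i) →ₗ[R] compl B i :=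
  (TensorProduct.lid R (compl B i)).toLinearMap ∘ₗ
    LinearMap.rTensor (compl B i) (l ∘ₗ (B i).val.toLinearMap)

theorem retrR_tmul (i : ι) (l : A →ₗ[R] R) (b : B i) (n : compl B i) :
    retrR B i l (b ⊗ₜ n) = l (b : A) • n := by
  simp [retrR]

theorem projective_left (hB : IsCoprod B) (i : ι) [Module.Projective R A] (l : A →ₗ[R] R)
    (hl : l 1 = 1) : Module.Projective R (B i) := by
  refine Module.Projective.of_split (M := A) (B i).val.toLinearMap
    ((retrL B i l) ∘ₗ (psi hB i).toLinearMap) ?_
  refine LinearMap.ext fun b => ?_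
  show retrL B i l (psi hB i (b : A)) = b
  rw [psi_left, retrL_tmul]
  simp [hl]

theorem projective_right (hB : IsCoprod B) (i : ι) [Module.Projective R A] (l : A →ₗ[R] R)
    (hl : l 1 = 1) : Module.Projective R (compl B i) := by
  refine Module.Projective.of_split (M := A) (compl B i).val.toLinearMap
    ((retrR B i l) ∘ₗ (psi hB i).toLinearMap) ?_
  refine LinearMap.ext fun b => ?_
  show retrR B i l (psi hB i (b : A)) = b
  rw [psi_compl, retrR_tmul]
  simp [hl]

theorem free_over_left (hB : IsCoprod B) (i : ι) [Module.Free R (compl B i)] :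
    Module.Free (B i) A := by
  let m' : (B i) ⊗[R] (compl B i) →ₐ[B i] A :=
    Algebra.TensorProduct.productLeftAlgHom (Algebra.ofId (B i) A) (compl B i).val
  have h1 : ∀ t, m' t = mult B i t := by
    intro t
    induction t using TensorProduct.induction_on with
    | zero => simp
    | tmul b n => rfl
    | add x y hx hy => rw [map_add, map_add, hx, hy]
  have hbij : Function.Bijective m'.toLinearMap := by
    have h2 := mult_bijective hB i
    constructor
    · intro x y hxy
      apply h2.1
      rw [← h1, ← h1]
      exact hxy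
    · intro a
      obtain ⟨t, ht⟩ := h2.2 a
      exact ⟨t, (h1 t).trans ht⟩
  let e' : (B i) ⊗[R] (compl B i) ≃ₗ[B i] A := LinearEquiv.ofBijective m'.toLinearMap hbij
  exact Module.Free.of_equiv e'

end

/-- main abstract result -/
theorem main (R : Type u) (A : Type v) [CommRing R] [CommRing A] [IsRegularLocalRing R]
    [IsRegularLocalRing A] [Algebra R A] [Module.Finite R A]
    (hinj : Function.Injective (algebraMap R A)) {ι : Type*} [DecidableEq ι]
    (B : ι → Subalgebra R A) (hB : IsCoprod B) (i : ι) :
    Module.Free R (B i) ∧ IsRegularLocalRing (B i) := by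
  haveI : Module.Free R A := FiniteRegFreeH3.free_of_finite_regular R A hinj
  obtain ⟨l, hl⟩ := FiniteRegFreeH3.exists_linear_one R A
  haveI : IsNoetherian R A := isNoetherian_of_isNoetherianRing_of_finite R A
  haveI : Module.Finite R (B i) :=
    Module.Finite.of_injective (B i).val.toLinearMap Subtype.val_injective
  haveI : Module.Finite R (compl B i) :=
    Module.Finite.of_injective (compl B i).val.toLinearMap Subtype.val_injective
  haveI : Module.Projective R (B i) := projective_left hB i l hl
  haveI : Module.Projective R (compl B i) := projective_right hB i l hl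
  haveI : Module.Free R (B i) := Module.free_of_flat_of_isLocalRing
  haveI : Module.Free R (compl B i) := Module.free_of_flat_of_isLocalRing
  refine ⟨inferInstance, ?_⟩
  haveI : Module.Free (B i) A := free_over_left hB i
  haveI : Algebra.IsIntegral R A := inferInstance
  haveI : Algebra.IsIntegral (B i) A := Algebra.IsIntegral.tower_top R
  haveI : FaithfulSMul (B i) A :=
    (faithfulSMul_iff_algebraMap_injective _ _).2 Subtype.val_injective
  haveI : IsLocalHom (algebraMap (B i) A) := inferInstance
  haveI : IsLocalRing (B i) := RingHom.domain_isLocalRing (algebraMap (B i) A)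
  haveI : IsNoetherian R (B i) := isNoetherian_of_isNoetherianRing_of_finite R (B i)
  haveI : IsNoetherianRing (B i) := isNoetherian_of_tower R inferInstance
  exact Groth.Agent.Serre.regular_of_flat_local (B i) A

end Groth.Agent.Lib.CoprodSplitH3
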