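import Groth.Agent.Lib.TorsorSeq_lead
import Groth.Prelude.Def_AGF
import Groth.Prelude.Def_ChGrp

/-! # The kernel of the action on `G/H` is the largest normal subgroup contained in `H` (lead) -/

set_option linter.unusedSimpArgs false
set_option linter.unusedVariables false
set_option linter.unusedSectionVars false
set_option linter.style.longLine false
set_option maxHeartbeats 800000

universe u

open CategoryTheory CategoryTheory.Limits MonoidalCategory CartesianMonoidalCategory MonObj GrpObj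
  AlgebraicGeometry Opposite

namespace Groth.Agent.Lib.CoreKer

open SchFpqcCovH7 Groth.Agent.Lib.TorsorSeq

variable {S : Scheme.{u}}

section core

variable {G H Q : Over S} [GrpObj G] [GrpObj H] (i : H ⟶ G) (a : AlgGrp.Action G Q)
  (o : 𝟙_ (Over S) ⟶ Q)

theorem orbit_pt {T : Over S} (g : T ⟶ G) :
    g ≫ a.orbitMap o = lift g (toUnit T ≫ o) ≫ a.act := by
  unfold AlgGrp.Action.orbitMap
  rw [← Category.assoc, comp_lift, Category.comp_id, ← Category.assoc g, comp_toUnit]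

theorem one_orbit {T : Over S} : (1 : T ⟶ G) ≫ a.orbitMap o = toUnit T ≫ o := by
  rw [orbit_pt, act_one']

variable (hpb : IsPullback (fst G H) ((G ◁ i) ≫ μ[G]) (a.orbitMap o) (a.orbitMap o))
include hpb

theorem exists_of_eq_orbit {T : Over S} (g₁ g₂ : T ⟶ G)
    (h : g₁ ≫ a.orbitMap o = g₂ ≫ a.orbitMap o) : ∃ h' : T ⟶ H, g₂ = g₁ * (h' ≫ i) := by
  refine ⟨hpb.lift g₁ g₂ h ≫ snd G H, ?_⟩
  have h1 := hpb.lift_fst g₁ g₂ h
  have h2 := hpb.lift_snd g₁ g₂ h
  rw [key_mul, h1] at h2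
  rw [Category.assoc]
  exact h2.symm

theorem mul_orbit {T : Over S} (g : T ⟶ G) (h : T ⟶ H) :
    (g * (h ≫ i)) ≫ a.orbitMap o = g ≫ a.orbitMap o := by
  calc (g * (h ≫ i)) ≫ a.orbitMap o
      = (lift g h ≫ (G ◁ i) ≫ μ[G]) ≫ a.orbitMap o := by
        rw [key_mul, lift_fst, lift_snd_assoc]
    _ = lift g h ≫ ((G ◁ i) ≫ μ[G]) ≫ a.orbitMap o := Category.assoc _ _ _
    _ = lift g h ≫ fst G H ≫ a.orbitMap o := by rw [← hpb.w]
    _ = g ≫ a.orbitMap o := by rw [lift_fst_assoc]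

/-- The kernel of the action on the homogeneous space is normal, contained in the stabiliser, and the
largest such normal subgroup. -/
theorem core {N : Over S} [GrpObj N] (n : N ⟶ G)
    (hcov : ∀ (T' : Over S) (q : T' ⟶ Q), ∃ (T'' : Over S) (c : T'' ⟶ T') (g : T'' ⟶ G),
      Epi c ∧ g ≫ a.orbitMap o = c ≫ q)
    (hN : ∀ (T : Over S) (g : T ⟶ G), (∃ m : T ⟶ N, m ≫ n = g) ↔
      ∀ (T' : Over S) (s : T' ⟶ T) (x : T' ⟶ Q), lift (s ≫ g) x ≫ a.act = x) :
    AlgGrp.IsNormalHom n ∧ (∃ f : N ⟶ H, f ≫ i = n) ∧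
      ∀ (N' : Over S) [GrpObj N'] (n' : N' ⟶ G),
        AlgGrp.IsNormalHom n' → (∃ f : N' ⟶ H, f ≫ i = n') → ∃ f' : N' ⟶ N, f' ≫ n = n' := by
  have htriv : ∀ (T : Over S) (m : T ⟶ N) (y : T ⟶ Q), lift (m ≫ n) y ≫ a.act = y := by
    intro T m y
    have h := (hN T (m ≫ n)).1 ⟨m, rfl⟩ T (𝟙 T) y
    rwa [Category.id_comp] at h
  refine ⟨?_, ?_, ?_⟩
  · intro T g m
    have h := (hN T (g * (m ≫ n) * g⁻¹)).2 (by
      intro T' s x
      rw [MonObj.comp_mul, MonObj.comp_mul, GrpObj.comp_inv, act_mul' a, act_mul' a,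
        ← Category.assoc s m n, htriv, ← act_mul' a, mul_inv_cancel, act_one' a])
    obtain ⟨m', hm'⟩ := h
    exact ⟨m', hm'.symm⟩
  · have h0 := htriv N (𝟙 N) (toUnit N ≫ o)
    rw [Category.id_comp] at h0
    have h1 : (1 : N ⟶ G) ≫ a.orbitMap o = n ≫ a.orbitMap o := by
      rw [orbit_pt a o n, one_orbit, h0]
    obtain ⟨f, hf⟩ := exists_of_eq_orbit i a o hpb 1 n h1
    exact ⟨f, by rw [hf, _root_.one_mul]⟩
  · intro N' _ n' hn' hf
    obtain ⟨f, hf⟩ := hf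
    apply (hN N' n').2
    intro T' v q
    obtain ⟨T'', c, g, hc, hg⟩ := hcov T' q
    haveI := hc
    rw [← cancel_epi c, ← Category.assoc, comp_lift, ← hg, ← Category.assoc c v n', orbit_pt]
    obtain ⟨ν', hν'⟩ := hn' T'' g⁻¹ (c ≫ v)
    rw [_root_.inv_inv] at hν'
    have h2 : ((c ≫ v) ≫ n') * g = g * ((ν' ≫ f) ≫ i) := by
      rw [Category.assoc ν' f i, hf, ← hν']
      group
    rw [← act_mul' a, h2, ← orbit_pt, mul_orbit i a o hpb, orbit_pt]

end core

section cov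

variable {G Q : Over S}

theorem hcov_of_epi_pullback (π : G ⟶ Q)
    (hepi : ∀ (T' : Over S) (q : T' ⟶ Q), Epi (pullback.snd π.left q.left))
    (T' : Over S) (q : T' ⟶ Q) :
    ∃ (T'' : Over S) (c : T'' ⟶ T') (g : T'' ⟶ G), Epi c ∧ g ≫ π = c ≫ q := by
  let T'' : Over S := Over.mk (pullback.snd π.left q.left ≫ T'.hom)
  let c : T'' ⟶ T' := Over.homMk (pullback.snd π.left q.left) rfl
  let g : T'' ⟶ G := Over.homMk (pullback.fst π.left q.left) (by
    show pullback.fst π.left q.left ≫ G.hom = pullback.snd π.left q.left ≫ T'.hom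
    rw [← Over.w π, ← Over.w q, ← Category.assoc, ← Category.assoc, pullback.condition])
  refine ⟨T'', c, g, ?_, ?_⟩
  · haveI : Epi c.left := hepi T' q
    exact Over.epi_of_epi_left c
  · apply Over.OverMorphism.ext
    exact pullback.condition

end cov

/-- The form for quotients with flat surjective orbit map. -/
theorem core_AGF {G H Q N : Over S} [GrpObj G] [GrpObj H] (i : H ⟶ G)
    (a : AlgGrp.Action G Q) (o : 𝟙_ (Over S) ⟶ Q) (hQ : AGF.IsQuotient i Q a o)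
    [GrpObj N] (n : N ⟶ G)
    (hN : ∀ (T : Over S) (g : T ⟶ G), (∃ m : T ⟶ N, m ≫ n = g) ↔
      ∀ (T' : Over S) (s : T' ⟶ T) (x : T' ⟶ Q), lift (s ≫ g) x ≫ a.act = x) :
    AlgGrp.IsNormalHom n ∧ (∃ f : N ⟶ H, f ≫ i = n) ∧
      ∀ (N' : Over S) [GrpObj N'] (n' : N' ⟶ G),
        AlgGrp.IsNormalHom n' → (∃ f : N' ⟶ H, f ≫ i = n') → ∃ f' : N' ⟶ N, f' ≫ n = n' := by
  obtain ⟨_, hflat, hsurj, hpb⟩ := hQ
  haveI := hflat
  haveI := hsurj
  refine core i a o hpb n (hcov_of_epi_pullback (a.orbitMap o) (fun T' q => ?_)) hN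
  haveI : Surjective (pullback.snd (a.orbitMap o).left q.left) :=
    MorphismProperty.pullback_snd (P := @Surjective) _ _ inferInstance
  exact Flat.epi_of_flat_of_surjective _

/-- The form for homogeneous spaces for the fppf topology. -/
theorem core_ChGrp {G H Q N : Over S} [GrpObj G] [GrpObj H] (i : H ⟶ G)
    (a : AlgGrp.Action G Q) (o : 𝟙_ (Over S) ⟶ Q)
    (hQ : ChGrp.IsHomog Scheme.fppfPrecoverage i a o)
    [GrpObj N] (n : N ⟶ G)
    (hN : ∀ (T : Over S) (g : T ⟶ G), (∃ m : T ⟶ N, m ≫ n = g) ↔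
      ∀ (T' : Over S) (s : T' ⟶ T) (x : T' ⟶ Q), lift (s ≫ g) x ≫ a.act = x) :
    AlgGrp.IsNormalHom n ∧ (∃ f : N ⟶ H, f ≫ i = n) ∧
      ∀ (N' : Over S) [GrpObj N'] (n' : N' ⟶ G),
        AlgGrp.IsNormalHom n' → (∃ f : N' ⟶ H, f ≫ i = n') → ∃ f' : N' ⟶ N, f' ≫ n = n' := by
  obtain ⟨_, hpb, hloc⟩ := hQ
  have hcovπ : IsCov (a.orbitMap o).left := by
    have h1 : NonAbH1.IsLocallyTrivialFor Scheme.fpqcPrecoverage
        (Over.mk (a.orbitMap o).left : Over Q.left) := by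
      obtain ⟨R, hR, hs⟩ := hloc
      exact ⟨R, Scheme.fppfPrecoverage_le_fpqcPrecoverage _ hR, hs⟩
    exact isCov_of_locallyTrivial _ h1
  refine core i a o hpb n (hcov_of_epi_pullback (a.orbitMap o) (fun T' q => ?_)) hN
  have hc : IsCov (pullback.snd (a.orbitMap o).left q.left) :=
    IsCov.of_isPullback (IsPullback.of_hasPullback (a.orbitMap o).left q.left) hcovπ
  haveI : EffectiveEpi (pullback.snd (a.orbitMap o).left q.left) := hc.effectiveEpi
  infer_instance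

end Groth.Agent.Lib.CoreKer
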