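import Mathlib
import Groth.Agent.Lib.Corner2_helper6

/-!
# Minimal idempotents in Azumaya algebras over connected rings (helper6)
-/

namespace Groth.Agent.Lib.CornerH6

open Module TensorProduct MulOpposite

universe u v

section split

variable {R : Type u} [CommRing R] {A : Type v} [Ring A] [Algebra R A]

/-- `Ae ≃ Af × Ag` for `e = f + g` with orthogonal idempotents `f, g`. -/
def LidSplit {e f g : A} (he : IsIdempotentElem e) (hf : IsIdempotentElem f)
    (hg : IsIdempotentElem g) (hefg : e = f + g) (hfg : f * g = 0) (hgf : g * f = 0) :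
    Lid R e ≃ₗ[R] Lid R f × Lid R g where
  toFun y := (⟨y.1 * f, (mem_Lid_iff hf).mpr (by rw [mul_assoc, hf.eq])⟩,
    ⟨y.1 * g, (mem_Lid_iff hg).mpr (by rw [mul_assoc, hg.eq])⟩)
  map_add' y z := by
    apply Prod.ext <;> apply Subtype.ext
    · exact add_mul y.1 z.1 f
    · exact add_mul y.1 z.1 g
  map_smul' r y := by
    apply Prod.ext <;> apply Subtype.ext
    · exact smul_mul_assoc r y.1 f
    · exact smul_mul_assoc r y.1 g
  invFun p := ⟨p.1.1 + p.2.1, (mem_Lid_iff he).mpr (by
    have h1 := Lid_mul_right hf p.1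
    have h2 := Lid_mul_right hg p.2
    have hfe : f * e = f := by rw [hefg, mul_add, hf.eq, hfg, add_zero]
    have hge : g * e = g := by rw [hefg, mul_add, hg.eq, hgf, zero_add]
    calc (p.1.1 + p.2.1) * e = p.1.1 * f * e + p.2.1 * g * e := by rw [add_mul, h1, h2]
      _ = p.1.1 * f + p.2.1 * g := by rw [mul_assoc, hfe, mul_assoc, hge]
      _ = p.1.1 + p.2.1 := by rw [h1, h2])⟩
  left_inv y := by
    apply Subtype.ext
    show y.1 * f + y.1 * g = y.1
    rw [← mul_add, ← hefg, Lid_mul_right he]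
  right_inv p := by
    have h1 := Lid_mul_right hf p.1
    have h2 := Lid_mul_right hg p.2
    apply Prod.ext <;> apply Subtype.ext
    · show (p.1.1 + p.2.1) * f = p.1.1
      rw [add_mul, h1, ← h2, mul_assoc, hgf, mul_zero, add_zero]
    · show (p.1.1 + p.2.1) * g = p.2.1
      rw [add_mul, h2, ← h1, mul_assoc, hfg, mul_zero, zero_add]

end split

section minimal

theorem exists_minimal_idempotent (R : Type u) [CommRing R] [ConnectedSpace (PrimeSpectrum R)]
    (A : Type v) [Ring A] [Algebra R A] [IsAzumaya R A] :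
    ∃ (e : A) (he : IsIdempotentElem e), e ≠ 0 ∧
      ∀ b : he.Corner, IsIdempotentElem b → b = 0 ∨ b = 1 := by
  classical
  haveI : Module.Finite R A := IsAzumaya.toFinite
  haveI : Module.Projective R A := IsAzumaya.toProjective
  obtain ⟨p₀⟩ := (inferInstance : Nonempty (PrimeSpectrum R))
  haveI : Nontrivial R := p₀.nontrivial
  haveI : Nontrivial A := by
    by_contra hnt
    rw [not_nontrivial_iff_subsingleton] at hnt
    have h : (1 : R) = 0 := FaithfulSMul.eq_of_smul_eq_smul (α := A)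
      (fun a => Subsingleton.elim _ _)
    exact one_ne_zero h
  let rk : A → ℕ := fun f => rankAtStalk (Lid R f) p₀
  have hex : ∃ n, ∃ f : A, IsIdempotentElem f ∧ f ≠ 0 ∧ rk f = n :=
    ⟨rk 1, 1, IsIdempotentElem.one, one_ne_zero, rfl⟩
  obtain ⟨e, he, he0, hrk⟩ := Nat.find_spec hex
  refine ⟨e, he, he0, fun b hb => ?_⟩
  by_contra hcon
  push_neg at hcon
  obtain ⟨hb0, hb1⟩ := hcon
  -- the idempotents `f = b` and `g = e - b`
  have hf : IsIdempotentElem b.1 := by
    have := congrArg Subtype.val hb.eq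
    exact this
  have hf0 : b.1 ≠ 0 := fun h => hb0 (corner_ext he h)
  have hef : e * b.1 = b.1 := corner_mul_left he b
  have hfe : b.1 * e = b.1 := corner_mul_right he b
  have hg : IsIdempotentElem (e - b.1) := by
    show (e - b.1) * (e - b.1) = e - b.1
    rw [mul_sub, sub_mul, sub_mul, he.eq, hef, hfe, hf.eq]
    abel
  have hg0 : e - b.1 ≠ 0 := fun h => hb1 (corner_ext he (sub_eq_zero.mp h).symm)
  have hfg : b.1 * (e - b.1) = 0 := by rw [mul_sub, hfe, hf.eq, sub_self]
  have hgf : (e - b.1) * b.1 = 0 := by rw [sub_mul, hef, hf.eq, sub_self]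
  have hefg : e = b.1 + (e - b.1) := by abel
  haveI := Lid_finite (R := R) hf
  haveI := Lid_projective (R := R) hf
  haveI := Lid_finite (R := R) hg
  haveI := Lid_projective (R := R) hg
  haveI : Nontrivial (Lid R (e - b.1)) :=
    ⟨⟨⟨e - b.1, (mem_Lid_iff hg).mpr hg.eq⟩, 0, fun h => hg0 (congrArg Subtype.val h)⟩⟩
  have hpos : 0 < rankAtStalk (Lid R (e - b.1)) p₀ := rankAtStalk_pos_of_nontrivial R _ p₀
  have hsum : rk e = rk b.1 + rankAtStalk (Lid R (e - b.1)) p₀ := by
    show rankAtStalk (Lid R e) p₀ = _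
    rw [Module.rankAtStalk_eq_of_equiv (LidSplit (R := R) he hf hg hefg hfg hgf),
      Module.rankAtStalk_prod]
    rfl
  have hlt : rk b.1 < Nat.find hex := by rw [← hrk, hsum]; omega
  exact Nat.find_min hex hlt ⟨b.1, hf, hf0, rfl⟩

end minimal

section main

variable (R : Type u) [CommRing R] [ConnectedSpace (PrimeSpectrum R)]
  (A : Type u) [Ring A] [Algebra R A] [IsAzumaya R A]

theorem exists_corner_rep :
    ∃ (B : Type u) (_ : Ring B) (_ : Algebra R B) (_ : IsAzumaya R B) (P Q : Type u)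
      (_ : AddCommGroup P) (_ : Module R P) (_ : AddCommGroup Q) (_ : Module R Q),
      (∀ b : B, IsIdempotentElem b → b = 0 ∨ b = 1) ∧ Module.Finite R P ∧
      Module.Projective R P ∧ FaithfulSMul R P ∧ Module.Finite R Q ∧ Module.Projective R Q ∧
      FaithfulSMul R Q ∧ Nonempty (A ⊗[R] Module.End R P ≃ₐ[R] B ⊗[R] Module.End R Q) := by
  haveI : Module.Finite R A := IsAzumaya.toFinite
  haveI : Module.Projective R A := IsAzumaya.toProjective
  obtain ⟨e, he, he0, htriv⟩ := exists_minimal_idempotent R A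
  haveI hfin := corner_finite (R := R) he
  haveI hproj := corner_projective (R := R) he
  haveI : Nontrivial he.Corner :=
    ⟨⟨1, 0, fun h => he0 (congrArg Subtype.val h)⟩⟩
  haveI hAz : IsAzumaya R he.Corner :=
    isAzumaya_corner he (fun p => rankAtStalk_pos_of_nontrivial R _ p)
  haveI hLfin := Lid_finite (R := R) he
  haveI hLproj := Lid_projective (R := R) he
  haveI : Nontrivial (Lid R e) :=
    ⟨⟨⟨e, (mem_Lid_iff he).mpr he.eq⟩, 0, fun h => he0 (congrArg Subtype.val h)⟩⟩
  haveI hLfaith : FaithfulSMul R (Lid R e) := by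
    have h := faithfulSMul_of_rankAtStalk_pos R (Lid R e)
      (fun p => rankAtStalk_pos_of_nontrivial R (Lid R e) p)
    exact ⟨fun {r₁ r₂} hr => h.eq_of_smul_eq_smul hr⟩
  let c : he.Corner ⊗[R] he.Cornerᵐᵒᵖ ≃ₐ[R] Module.End R he.Corner :=
    AlgEquiv.ofBijective (AlgHom.mulLeftRight R he.Corner) IsAzumaya.bij
  let E : A ⊗[R] Module.End R he.Corner ≃ₐ[R] he.Corner ⊗[R] Module.End R (Lid R e) :=
    (Algebra.TensorProduct.congr (AlgEquiv.refl : A ≃ₐ[R] A) c.symm).trans
      ((Algebra.TensorProduct.leftComm R A he.Corner he.Cornerᵐᵒᵖ).trans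
        (Algebra.TensorProduct.congr (AlgEquiv.refl : he.Corner ≃ₐ[R] he.Corner)
          (muLEquiv he)))
  exact ⟨he.Corner, inferInstance, inferInstance, hAz, he.Corner, Lid R e, inferInstance,
    inferInstance, inferInstance, inferInstance, htriv, hfin, hproj, IsAzumaya.toFaithfulSMul,
    hLfin, hLproj, hLfaith, ⟨E⟩⟩

end main

end Groth.Agent.Lib.CornerH6
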