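import Mathlib

namespace Groth.Agent.Lib.CosetKer

open MulAction

universe u

lemma exists_pow_lt {G : Type*} [Group G] [Finite G] (g z : G) (hz : z ∈ Subgroup.zpowers g) :
    ∃ k, k < orderOf g ∧ g ^ k = z := by
  obtain ⟨j, rfl⟩ := Subgroup.mem_zpowers_iff.mp hz
  have hnpos : (0 : ℤ) < (orderOf g : ℤ) := by exact_mod_cast orderOf_pos g
  have h0 : 0 ≤ j % (orderOf g : ℤ) := Int.emod_nonneg j hnpos.ne'
  have h1 : j % (orderOf g : ℤ) < (orderOf g : ℤ) := Int.emod_lt_of_pos j hnpos
  refine ⟨(j % (orderOf g : ℤ)).toNat, (Int.toNat_lt h0).mpr h1, ?_⟩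
  rw [← zpow_natCast, Int.toNat_of_nonneg h0, zpow_mod_orderOf]

theorem main (A : Type u) [CommRing A] [Nontrivial A] (G : Type u) [Group G] [Finite G]
    (g : G) (l : A) (hl : l ^ orderOf g = 1) :
    Module.Free A (LinearMap.ker (LinearMap.funLeft A A (fun h : G => g * h) - l • LinearMap.id)) ∧
      Module.finrank A (LinearMap.ker (LinearMap.funLeft A A (fun h : G => g * h) -
        l • LinearMap.id)) * orderOf g = Nat.card G ∧
      ∃ E' : Submodule A (G → A), IsCompl (LinearMap.ker (LinearMap.funLeft A A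
        (fun h : G => g * h) - l • LinearMap.id)) E' := by
  classical
  have hnpos : 0 < orderOf g := orderOf_pos g
  set K := LinearMap.ker (LinearMap.funLeft A A (fun h : G => g * h) - l • LinearMap.id) with hK
  have memK : ∀ f : G → A, f ∈ K ↔ ∀ h, f (g * h) = l * f h := by
    intro f
    rw [hK, LinearMap.mem_ker, LinearMap.sub_apply, LinearMap.smul_apply, LinearMap.id_apply,
      sub_eq_zero]
    constructor
    · intro h x
      have := congrFun h x
      simpa [LinearMap.funLeft_apply] using this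
    · intro h
      funext x
      simpa [LinearMap.funLeft_apply] using h x
  let Q := MulAction.orbitRel.Quotient (Subgroup.zpowers g) G
  have hk : ∀ h : G, ∃ k, k < orderOf g ∧ h = g ^ k * (Quotient.mk'' h : Q).out := by
    intro h
    have h1 : (Quotient.mk'' h : Q).out ∈ MulAction.orbit (Subgroup.zpowers g) h :=
      MulAction.orbitRel_apply.mp (Quotient.mk_out' (s₁ := MulAction.orbitRel (Subgroup.zpowers g) G) h)
    obtain ⟨z, hz⟩ := h1
    obtain ⟨k, hk1, hk2⟩ := exists_pow_lt g ((z⁻¹ : Subgroup.zpowers g) : G) (z⁻¹).2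
    refine ⟨k, hk1, ?_⟩
    rw [hk2, ← hz]
    show h = ((z⁻¹ : Subgroup.zpowers g) : G) * ((z : G) * h)
    rw [← mul_assoc, Subgroup.coe_inv, inv_mul_cancel, one_mul]
  choose k hkn hkeq using hk
  have hb : ∀ (q : Q) (j : ℕ), j < orderOf g →
      (Quotient.mk'' (g ^ j * q.out) : Q) = q ∧ k (g ^ j * q.out) = j := by
    intro q j hj
    have h1 : (Quotient.mk'' (g ^ j * q.out) : Q) = q := by
      conv_rhs => rw [← Quotient.out_eq' q]
      apply Quotient.sound'
      apply MulAction.orbitRel_apply.mpr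
      exact ⟨⟨g ^ j, Subgroup.pow_mem _ (Subgroup.mem_zpowers g) j⟩, rfl⟩
    refine ⟨h1, ?_⟩
    have h2 := hkeq (g ^ j * q.out)
    rw [h1] at h2
    have h3 := mul_right_cancel h2
    exact pow_injOn_Iio_orderOf (Set.mem_Iio.mpr (hkn _)) (Set.mem_Iio.mpr hj) h3.symm
  let ev' : (G → A) →ₗ[A] (Q → A) := LinearMap.funLeft A A (fun q : Q => q.out)
  let ext : (Q → A) →ₗ[A] (G → A) :=
    { toFun := fun c h => l ^ (k h) * c (Quotient.mk'' h)
      map_add' := by intro x y; funext h; simp [mul_add]
      map_smul' := by intro a x; funext h; simp [mul_left_comm] }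
  have ext_apply : ∀ c h, ext c h = l ^ (k h) * c (Quotient.mk'' h) := fun c h => rfl
  have ev_apply : ∀ (f : G → A) (q : Q), ev' f q = f q.out := fun f q => rfl
  have hextK : ∀ c, ext c ∈ K := by
    intro c
    rw [memK]
    intro h
    rw [ext_apply, ext_apply]
    have hh := hkeq h
    have hgh : g * h = g ^ (k h + 1) * (Quotient.mk'' h : Q).out := by
      rw [pow_succ', mul_assoc, ← hh]
    by_cases hlt : k h + 1 < orderOf g
    · obtain ⟨e1, e2⟩ := hb (Quotient.mk'' h) (k h + 1) hlt
      rw [← hgh] at e1 e2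
      rw [e1, e2, pow_succ']; ring
    · have hkn' : k h + 1 = orderOf g := by have := hkn h; omega
      have hgh' : g * h = g ^ 0 * (Quotient.mk'' h : Q).out := by
        rw [hgh, hkn', pow_orderOf_eq_one, pow_zero]
      obtain ⟨e1, e2⟩ := hb (Quotient.mk'' h) 0 hnpos
      rw [← hgh'] at e1 e2
      rw [e1, e2, pow_zero, one_mul]
      have h5 : l * (l ^ k h * c (Quotient.mk'' h)) = l ^ (k h + 1) * c (Quotient.mk'' h) := by
        rw [pow_succ']; ring
      rw [h5, hkn', hl, one_mul]
  have hev_ext : ∀ c, ev' (ext c) = c := by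
    intro c
    funext q
    rw [ev_apply, ext_apply]
    obtain ⟨e1, e2⟩ := hb q 0 hnpos
    rw [pow_zero, one_mul] at e1 e2
    rw [e1, e2, pow_zero, one_mul]
  have hext_ev : ∀ f ∈ K, ext (ev' f) = f := by
    intro f hf
    rw [memK] at hf
    have hpow : ∀ (j : ℕ) (r : G), f (g ^ j * r) = l ^ j * f r := by
      intro j
      induction j with
      | zero => intro r; simp
      | succ j ih => intro r; rw [pow_succ', mul_assoc, hf, ih, pow_succ']; ring
    funext h
    rw [ext_apply, ev_apply]
    conv_rhs => rw [hkeq h]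
    rw [hpow]
  let e : K ≃ₗ[A] (Q → A) :=
    { toFun := fun f => ev' f.1
      map_add' := fun x y => by simp
      map_smul' := fun a x => by simp
      invFun := fun c => ⟨ext c, hextK c⟩
      left_inv := fun f => Subtype.ext (hext_ev f.1 f.2)
      right_inv := fun c => hev_ext c }
  haveI : Finite Q := Quotient.finite _
  letI : Fintype Q := Fintype.ofFinite Q
  let eG : G ≃ Q × Fin (orderOf g) :=
    { toFun := fun h => (Quotient.mk'' h, ⟨k h, hkn h⟩)
      invFun := fun p => g ^ (p.2 : ℕ) * p.1.out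
      left_inv := fun h => (hkeq h).symm
      right_inv := fun p => by
        obtain ⟨e1, e2⟩ := hb p.1 p.2 p.2.isLt
        exact Prod.ext e1 (Fin.ext e2) }
  refine ⟨Module.Free.of_equiv e.symm, ?_, ?_⟩
  · rw [e.finrank_eq, Module.finrank_fintype_fun_eq_card, Nat.card_congr eG, Nat.card_prod,
      Nat.card_eq_fintype_card, Nat.card_eq_fintype_card, Fintype.card_fin]
  · let π : (G → A) →ₗ[A] K := (ext.comp ev').codRestrict K (fun f => hextK (ev' f))
    have hπ : ∀ x : K, π x = x := fun x => Subtype.ext (hext_ev x.1 x.2)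
    exact ⟨LinearMap.ker π, LinearMap.isCompl_of_proj hπ⟩

end Groth.Agent.Lib.CosetKer
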