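import Mathlib

set_option autoImplicit false
set_option linter.style.haveILetI false
set_option linter.unusedSectionVars false

universe w v u v₁ u₁

open CategoryTheory CategoryTheory.Limits

namespace Groth.Agent.Lib.CoshvResH4

section lift

variable {A B Q : Type*} [AddCommGroup A] [AddCommGroup B] [AddCommGroup Q]

noncomputable def liftHom (p : A →+ Q) (hp : Function.Surjective p) (φ : A →+ B)
    (hk : ∀ a, p a = 0 → φ a = 0) : Q →+ B where
  toFun q := φ (Function.surjInv hp q)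
  map_zero' := hk _ (Function.surjInv_eq hp 0)
  map_add' q q' := by
    have h : p (Function.surjInv hp (q + q') -
        (Function.surjInv hp q + Function.surjInv hp q')) = 0 := by
      rw [map_sub, map_add, Function.surjInv_eq hp, Function.surjInv_eq hp,
        Function.surjInv_eq hp, sub_self]
    have := hk _ h
    rw [map_sub, sub_eq_zero, map_add] at this
    exact this

lemma liftHom_apply (p : A →+ Q) (hp : Function.Surjective p) (φ : A →+ B)
    (hk : ∀ a, p a = 0 → φ a = 0) (a : A) : liftHom p hp φ hk (p a) = φ a := by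
  have h : p (Function.surjInv hp (p a) - a) = 0 := by
    rw [map_sub, Function.surjInv_eq hp, sub_self]
  have := hk _ h
  rw [map_sub, sub_eq_zero] at this
  exact this

end lift

lemma nat_apply {J : Type u₁} [Category.{v₁} J] {F G : J ⥤ AddCommGrpCat.{w}} (α : F ⟶ G)
    {Y X : J} (f : Y ⟶ X) (y : F.obj Y) :
    (α.app X).hom ((F.map f).hom y) = (G.map f).hom ((α.app Y).hom y) :=
  congrArg (fun m => m.hom y) (α.naturality f)

lemma map_comp_apply {J : Type u₁} [Category.{v₁} J] (F : J ⥤ AddCommGrpCat.{w})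
    {X Y Z : J} (a : X ⟶ Y) (b : Y ⟶ Z) (x : F.obj X) :
    (F.map (a ≫ b)).hom x = (F.map b).hom ((F.map a).hom x) := by
  rw [F.map_comp]; rfl

variable {C : Type u} [Category.{v} C] [HasPullbacks C]

/-- the cosheaf property -/
abbrev P (W : MorphismProperty C) : ObjectProperty (C ⥤ AddCommGrpCat.{w}) :=
  fun F => ∀ ⦃Y X : C⦄ (π : Y ⟶ X), W π → Function.Surjective (F.map π).hom ∧
    (F.map π).hom.ker =
      ((F.map (pullback.fst π π)).hom - (F.map (pullback.snd π π)).hom).range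

variable {W : MorphismProperty C} [W.IsStableUnderBaseChange] [W.IsStableUnderComposition]
  {D : ObjectProperty C}

section

variable {F G : C ⥤ AddCommGrpCat.{w}} (γ : D.ι ⋙ F ⟶ D.ι ⋙ G)

lemma gamma_nat {Z Y : C} (hZ : D Z) (hY : D Y) (k : Z ⟶ Y) (w : F.obj Z) :
    (γ.app ⟨Y, hY⟩).hom ((F.map k).hom w) = (G.map k).hom ((γ.app ⟨Z, hZ⟩).hom w) :=
  nat_apply γ (ObjectProperty.homMk k : (⟨Z, hZ⟩ : D.FullSubcategory) ⟶ ⟨Y, hY⟩) w

variable (hD : ∀ X : C, ∃ (Y : C) (π : Y ⟶ X), W π ∧ D Y) (hF : P W F)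

include hD hF in
lemma wellDef {Y X : C} (π : Y ⟶ X) (hπ : W π) (hY : D Y) (y : F.obj Y)
    (hy : (F.map π).hom y = 0) : (G.map π).hom ((γ.app ⟨Y, hY⟩).hom y) = 0 := by
  have hker : y ∈ (F.map π).hom.ker := (AddMonoidHom.mem_ker).2 hy
  rw [(hF π hπ).2] at hker
  obtain ⟨z, hz⟩ := hker
  obtain ⟨Z, ρ, hρ, hZ⟩ := hD (pullback π π)
  obtain ⟨w, hw⟩ := (hF ρ hρ).1 z
  have e1 : (F.map (ρ ≫ pullback.fst π π)).hom w - (F.map (ρ ≫ pullback.snd π π)).hom w = y := by
    rw [map_comp_apply, map_comp_apply, hw]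
    exact hz
  rw [← e1, map_sub, map_sub, gamma_nat γ hZ hY, gamma_nat γ hZ hY, ← map_comp_apply,
    ← map_comp_apply, Category.assoc, Category.assoc, pullback.condition, sub_self]

include hD hF in
theorem full_aux : ∃ α : F ⟶ G, Functor.whiskerLeft D.ι α = γ := by
  have hD0 := hD
  choose Yc πc hπc hYc using hD0
  let αX : ∀ X : C, F.obj X →+ G.obj X := fun X =>
    liftHom (F.map (πc X)).hom (hF (πc X) (hπc X)).1
      (((G.map (πc X)).hom).comp (γ.app ⟨Yc X, hYc X⟩).hom)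
      (fun y hy => wellDef γ hD hF (πc X) (hπc X) (hYc X) y hy)
  have hα : ∀ (X : C) (y : F.obj (Yc X)), αX X ((F.map (πc X)).hom y) =
      (G.map (πc X)).hom ((γ.app ⟨Yc X, hYc X⟩).hom y) :=
    fun X y => liftHom_apply _ _ _ _ y
  have hnat : ∀ {X X' : C} (f : X ⟶ X') (x : F.obj X),
      αX X' ((F.map f).hom x) = (G.map f).hom (αX X x) := by
    intro X X' f x
    obtain ⟨y, rfl⟩ := (hF (πc X) (hπc X)).1 x
    obtain ⟨Z, ρ, hρ, hZ⟩ := hD (pullback (πc X ≫ f) (πc X'))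
    obtain ⟨κ₁, hκ₁⟩ : ∃ κ₁ : Z ⟶ Yc X, κ₁ = ρ ≫ pullback.fst (πc X ≫ f) (πc X') := ⟨_, rfl⟩
    obtain ⟨κ₂, hκ₂⟩ : ∃ κ₂ : Z ⟶ Yc X', κ₂ = ρ ≫ pullback.snd (πc X ≫ f) (πc X') := ⟨_, rfl⟩
    have hκ : W κ₁ := by
      rw [hκ₁]
      exact W.comp_mem _ _ hρ (W.pullback_fst _ _ (hπc X'))
    have e : κ₁ ≫ πc X ≫ f = κ₂ ≫ πc X' := by
      rw [hκ₁, hκ₂, Category.assoc, Category.assoc, pullback.condition]
    obtain ⟨w, rfl⟩ := (hF _ hκ).1 y
    have L1 : (F.map f).hom ((F.map (πc X)).hom ((F.map κ₁).hom w)) =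
        (F.map (πc X')).hom ((F.map κ₂).hom w) := by
      rw [← map_comp_apply F (πc X) f, ← map_comp_apply F κ₁ (πc X ≫ f), e,
        map_comp_apply F κ₂ (πc X')]
    have R1 : (G.map f).hom ((G.map (πc X)).hom ((G.map κ₁).hom ((γ.app ⟨Z, hZ⟩).hom w))) =
        (G.map (πc X')).hom ((G.map κ₂).hom ((γ.app ⟨Z, hZ⟩).hom w)) := by
      rw [← map_comp_apply G (πc X) f, ← map_comp_apply G κ₁ (πc X ≫ f), e,
        map_comp_apply G κ₂ (πc X')]
    rw [L1, hα, gamma_nat γ hZ (hYc X'), hα, gamma_nat γ hZ (hYc X), R1]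
  let α : F ⟶ G :=
    { app := fun X => AddCommGrpCat.ofHom (αX X)
      naturality := fun X X' f => by
        apply AddCommGrpCat.hom_ext
        apply AddMonoidHom.ext
        intro x
        exact hnat f x }
  refine ⟨α, ?_⟩
  apply NatTrans.ext
  funext d
  apply AddCommGrpCat.hom_ext
  apply AddMonoidHom.ext
  intro x
  show αX d.obj x = (γ.app d).hom x
  obtain ⟨y, rfl⟩ := (hF (πc d.obj) (hπc d.obj)).1 x
  rw [hα]
  exact (gamma_nat γ (hYc d.obj) d.property (πc d.obj) y).symm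

end

theorem main18884 (hD : ∀ X : C, ∃ (Y : C) (π : Y ⟶ X), W π ∧ D Y) :
    (ObjectProperty.ι (P.{w} W) ⋙
      (Functor.whiskeringLeft D.FullSubcategory C AddCommGrpCat.{w}).obj D.ι).Full ∧
    (ObjectProperty.ι (P.{w} W) ⋙
      (Functor.whiskeringLeft D.FullSubcategory C AddCommGrpCat.{w}).obj D.ι).Faithful := by
  constructor
  · constructor
    intro F G γ
    obtain ⟨α, hα⟩ := full_aux (F := F.obj) (G := G.obj) γ hD F.property
    exact ⟨ObjectProperty.homMk α, hα⟩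
  · constructor
    intro F G a b hab
    apply ObjectProperty.hom_ext
    apply NatTrans.ext
    funext X
    apply AddCommGrpCat.hom_ext
    apply AddMonoidHom.ext
    intro x
    obtain ⟨Y, π, hπ, hY⟩ := hD X
    obtain ⟨y, rfl⟩ := (F.property π hπ).1 x
    have h1 : a.hom.app Y = b.hom.app Y :=
      congrArg (fun t : D.ι ⋙ F.obj ⟶ D.ι ⋙ G.obj => t.app ⟨Y, hY⟩) hab
    rw [nat_apply a.hom π y, nat_apply b.hom π y, h1]

end Groth.Agent.Lib.CoshvResH4
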