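import Mathlib
import Groth.Agent.Lib.CxHomDelta_helper7

/-!
# Derived functors of the limit over the simplex category (helper7)

For an abelian category `𝒜` with limits of shape `SimplexCategory`, the right derived functors of
`lim : (SimplexCategory ⥤ 𝒜) ⥤ 𝒜` are computed by the alternating coface map complex:
`Rⁿ lim F ≅ Hⁿ(C F)`.

* `S`: the shift functor `[n] ↦ [n+1]` of the simplex category (adding an initial vertex);
* `η : 𝟭 ⟶ S` (the coface `δ⁰`), `dec X = S ⋙ X` (décalage), `decι X : X ⟶ dec X` (split mono);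
* `exactAt_dec`: the coface complex of the décalage is exact in positive degrees;
* `τ : lim ≅ C ⋙ Z⁰`;
* `main`: `Rⁿ lim F ≅ Hⁿ(C F)`.
-/

set_option autoImplicit false
set_option backward.isDefEq.respectTransparency false
set_option backward.isDefEq.respectTransparency.types false
set_option linter.style.haveILetI false
set_option linter.unusedSectionVars false
universe v u
open CategoryTheory CategoryTheory.Limits Simplicial

namespace Groth.Agent.Lib.CosimpLimH7

/-! ### The shift functor -/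

/-- extend a monotone map by a new initial vertex -/
def shiftHom {n m : ℕ} (f : Fin (n + 1) →o Fin (m + 1)) : Fin (n + 1 + 1) →o Fin (m + 1 + 1) where
  toFun := Fin.cases 0 (fun j => (f j).succ)
  monotone' := by
    intro i j hij
    induction i using Fin.cases with
    | zero => exact Fin.zero_le _
    | succ i =>
      induction j using Fin.cases with
      | zero => exact absurd (Fin.le_zero_iff.mp hij) (Fin.succ_ne_zero i)
      | succ j =>
        simp only [Fin.cases_succ]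
        exact Fin.succ_le_succ_iff.mpr (f.monotone (Fin.succ_le_succ_iff.mp hij))

lemma shiftHom_zero {n m : ℕ} (f : Fin (n + 1) →o Fin (m + 1)) : shiftHom f 0 = 0 := rfl

lemma shiftHom_succ {n m : ℕ} (f : Fin (n + 1) →o Fin (m + 1)) (j : Fin (n + 1)) :
    shiftHom f j.succ = (f j).succ := by
  show Fin.cases (motive := fun _ => Fin (m + 1 + 1)) 0 (fun j => (f j).succ) j.succ = (f j).succ
  rw [Fin.cases_succ]

/-- the shift functor `[n] ↦ [n+1]`, adding an initial vertex -/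
def S : SimplexCategory ⥤ SimplexCategory where
  obj a := SimplexCategory.mk (a.len + 1)
  map {a b} f := SimplexCategory.mkHom (n := a.len + 1) (m := b.len + 1) (shiftHom f.toOrderHom)
  map_id a := by
    apply SimplexCategory.Hom.ext
    apply OrderHom.ext
    funext i
    induction i using Fin.cases with
    | zero => rfl
    | succ j =>
      show shiftHom (SimplexCategory.Hom.toOrderHom (𝟙 a)) j.succ = j.succ
      rw [shiftHom_succ]
      rfl
  map_comp {a b c} f g := by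
    apply SimplexCategory.Hom.ext
    apply OrderHom.ext
    funext i
    induction i using Fin.cases with
    | zero => rfl
    | succ j =>
      show shiftHom (SimplexCategory.Hom.toOrderHom (f ≫ g)) j.succ =
        shiftHom g.toOrderHom (shiftHom f.toOrderHom j.succ)
      rw [shiftHom_succ, shiftHom_succ, shiftHom_succ]
      rfl

lemma S_map_apply {a b : SimplexCategory} (f : a ⟶ b) (i : Fin (a.len + 1 + 1)) :
    (S.map f).toOrderHom i = shiftHom f.toOrderHom i := rfl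

lemma δ_apply {n : ℕ} (i : Fin (n + 2)) (j : Fin (n + 1)) :
    (SimplexCategory.δ i).toOrderHom j = i.succAbove j := rfl

lemma S_map_δ {n : ℕ} (i : Fin (n + 2)) :
    S.map (SimplexCategory.δ i) = SimplexCategory.δ i.succ := by
  apply SimplexCategory.Hom.ext
  apply OrderHom.ext
  funext j
  induction j using Fin.cases with
  | zero =>
    show shiftHom (SimplexCategory.δ i).toOrderHom 0 = (SimplexCategory.δ i.succ).toOrderHom 0
    rw [shiftHom_zero, δ_apply, Fin.succ_succAbove_zero]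
  | succ j =>
    show shiftHom (SimplexCategory.δ i).toOrderHom j.succ =
      (SimplexCategory.δ i.succ).toOrderHom j.succ
    rw [shiftHom_succ, δ_apply, δ_apply, Fin.succ_succAbove_succ]

/-- the coface `δ⁰` as a natural transformation `𝟭 ⟶ S` -/
def η : 𝟭 SimplexCategory ⟶ S where
  app a := SimplexCategory.δ (n := a.len) 0
  naturality {a b} f := by
    apply SimplexCategory.Hom.ext
    apply OrderHom.ext
    funext i
    show (SimplexCategory.δ (n := b.len) 0).toOrderHom (f.toOrderHom i) =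
      shiftHom f.toOrderHom ((SimplexCategory.δ (n := a.len) 0).toOrderHom i)
    rw [δ_apply, δ_apply, Fin.succAbove_zero, Fin.succAbove_zero, shiftHom_succ]

lemma η_app (a : SimplexCategory) : η.app a = SimplexCategory.δ (n := a.len) 0 := rfl

variable {𝒜 : Type u} [Category.{v} 𝒜] [Abelian 𝒜]

/-! ### Décalage -/

/-- the décalage of a cosimplicial object -/
abbrev dec (X : SimplexCategory ⥤ 𝒜) : SimplexCategory ⥤ 𝒜 := S ⋙ X

/-- the canonical map to the décalage -/
def decι (X : SimplexCategory ⥤ 𝒜) : X ⟶ dec X where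
  app a := X.map (η.app a)
  naturality {a b} f := by
    show X.map f ≫ X.map (η.app b) = X.map (η.app a) ≫ X.map (S.map f)
    rw [← X.map_comp, ← X.map_comp]
    exact congrArg X.map (η.naturality f)

instance mono_decι (X : SimplexCategory ⥤ 𝒜) : Mono (decι X) := by
  haveI : ∀ a, Mono ((decι X).app a) := by
    intro a
    have h : X.map (SimplexCategory.δ (n := a.len) 0) ≫ X.map (SimplexCategory.σ (n := a.len) 0) =
        𝟙 _ := by
      rw [← X.map_comp]
      have h2 : SimplexCategory.δ (n := a.len) 0 ≫ SimplexCategory.σ (n := a.len) 0 = 𝟙 _ :=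
        SimplexCategory.δ_comp_σ_self (i := (0 : Fin (a.len + 1)))
      rw [h2]
      exact X.map_id _
    haveI : Mono (X.map (SimplexCategory.δ (n := a.len) 0) ≫
        X.map (SimplexCategory.σ (n := a.len) 0)) := by
      rw [h]
      infer_instance
    exact mono_of_mono (X.map (SimplexCategory.δ (n := a.len) 0))
      (X.map (SimplexCategory.σ (n := a.len) 0))
  exact NatTrans.mono_of_mono_app _

/-- the alternating coface map complex, typed on the functor category -/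
noncomputable def Cf (𝒜 : Type u) [Category.{v} 𝒜] [Abelian 𝒜] :
    (SimplexCategory ⥤ 𝒜) ⥤ CochainComplex 𝒜 ℕ :=
  AlgebraicTopology.alternatingCofaceMapComplex 𝒜

lemma Cf_obj (X : SimplexCategory ⥤ 𝒜) :
    (Cf 𝒜).obj X = (AlgebraicTopology.alternatingCofaceMapComplex 𝒜).obj X := rfl

lemma Cf_d (X : SimplexCategory ⥤ 𝒜) (n : ℕ) :
    ((Cf 𝒜).obj X).d n (n + 1) =
      ∑ i : Fin (n + 2), (-1 : ℤ) ^ (i : ℕ) • CosimplicialObject.δ X i := by
  show (AlgebraicTopology.AlternatingCofaceMapComplex.obj X).d n (n + 1) = _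
  exact CochainComplex.of_d _ (AlgebraicTopology.AlternatingCofaceMapComplex.objD X) n

lemma Cf_map_f {X Y : SimplexCategory ⥤ 𝒜} (f : X ⟶ Y) (n : ℕ) :
    ((Cf 𝒜).map f).f n = f.app ⦋n⦌ := rfl

lemma dec_δ (X : SimplexCategory ⥤ 𝒜) {n : ℕ} (i : Fin (n + 2)) :
    CosimplicialObject.δ (dec X) i = CosimplicialObject.δ X i.succ := by
  show X.map (S.map (SimplexCategory.δ i)) = X.map (SimplexCategory.δ i.succ)
  rw [S_map_δ]

/-- the contracting homotopy identity, in terms of `X` -/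
lemma htpy (X : CosimplicialObject 𝒜) (m : ℕ) :
    X.σ (0 : Fin (m + 1 + 1)) ≫ (∑ i : Fin (m + 2), (-1 : ℤ) ^ (i : ℕ) • X.δ i.succ) +
      (∑ i : Fin (m + 1 + 2), (-1 : ℤ) ^ (i : ℕ) • X.δ i.succ) ≫
        X.σ (0 : Fin (m + 1 + 1 + 1)) = 𝟙 _ := by
  rw [Fin.sum_univ_succ (fun i : Fin (m + 1 + 2) => (-1 : ℤ) ^ (i : ℕ) • X.δ i.succ)]
  rw [Preadditive.add_comp, Preadditive.sum_comp, Preadditive.comp_sum]
  have h0 : X.δ (0 : Fin (m + 1 + 2)).succ ≫ X.σ (0 : Fin (m + 1 + 1 + 1)) = 𝟙 _ :=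
    X.δ_comp_σ_succ
  have h1 : ∀ j : Fin (m + 2),
      ((-1 : ℤ) ^ ((j.succ : Fin (m + 1 + 2)) : ℕ) • X.δ j.succ.succ) ≫
        X.σ (0 : Fin (m + 1 + 1 + 1)) =
      - (X.σ (0 : Fin (m + 1 + 1)) ≫ ((-1 : ℤ) ^ (j : ℕ) • X.δ j.succ)) := by
    intro j
    have h := X.δ_comp_σ_of_gt (i := j.succ) (j := (0 : Fin (m + 1 + 1)))
      (by rw [Fin.castSucc_zero]; exact Fin.succ_pos j)
    rw [Fin.castSucc_zero] at h
    rw [Preadditive.zsmul_comp, Preadditive.comp_zsmul, h, Fin.val_succ, pow_succ]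
    simp
  rw [Finset.sum_congr rfl (fun j _ => h1 j), Finset.sum_neg_distrib, Fin.val_zero, pow_zero,
    one_zsmul, h0]
  abel

/-- the coface complex of the décalage is exact in positive degrees -/
lemma exactAt_dec (X : SimplexCategory ⥤ 𝒜) (n : ℕ) :
    ((Cf 𝒜).obj (dec X)).ExactAt (n + 1) := by
  refine CxConeH7.exactAt_succ_of_homotopy _ n
    (CosimplicialObject.σ X (0 : Fin (n + 1 + 1)))
    (CosimplicialObject.σ X (0 : Fin (n + 1 + 1 + 1))) ?_
  have e1 : ((Cf 𝒜).obj (dec X)).d n (n + 1) =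
      ∑ i : Fin (n + 2), (-1 : ℤ) ^ (i : ℕ) • CosimplicialObject.δ X i.succ := by
    rw [Cf_d]
    exact Finset.sum_congr rfl (fun i _ => by rw [dec_δ])
  have e2 : ((Cf 𝒜).obj (dec X)).d (n + 1) (n + 1 + 1) =
      ∑ i : Fin (n + 1 + 2), (-1 : ℤ) ^ (i : ℕ) • CosimplicialObject.δ X i.succ := by
    rw [Cf_d]
    exact Finset.sum_congr rfl (fun i _ => by rw [dec_δ])
  rw [e1, e2]
  exact htpy X n

/-! ### Exactness of the coface complex functor -/

instance : (Cf 𝒜).Additive where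
  map_add {X Y f g} := by
    apply HomologicalComplex.hom_ext
    intro n
    rfl

/-- evaluation of the coface complex -/
noncomputable def CfEvalIso (n : ℕ) :
    Cf 𝒜 ⋙ HomologicalComplex.eval 𝒜 (ComplexShape.up ℕ) n ≅
      (evaluation SimplexCategory 𝒜).obj ⦋n⦌ :=
  NatIso.ofComponents (fun X => Iso.refl _) (fun {X Y} f => by
    show f.app ⦋n⦌ ≫ 𝟙 _ = 𝟙 _ ≫ f.app ⦋n⦌
    rw [Category.comp_id, Category.id_comp])

instance : PreservesFiniteLimits (Cf 𝒜) :=
  ⟨fun _ _ _ => HomologicalComplex.preservesLimitsOfShape_of_eval _ (fun n =>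
    preservesLimitsOfShape_of_natIso (CfEvalIso (𝒜 := 𝒜) n).symm)⟩

instance : PreservesFiniteColimits (Cf 𝒜) :=
  ⟨fun _ _ _ => HomologicalComplex.preservesColimitsOfShape_of_eval _ (fun n =>
    preservesColimitsOfShape_of_natIso (CfEvalIso (𝒜 := 𝒜) n).symm)⟩

/-! ### The limit as the zero cycles -/

lemma d01 (X : SimplexCategory ⥤ 𝒜) :
    ((Cf 𝒜).obj X).d 0 1 =
      X.map (SimplexCategory.δ (0 : Fin 2)) - X.map (SimplexCategory.δ (1 : Fin 2)) := by
  have h : ((Cf 𝒜).obj X).d 0 1 =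
      ∑ i : Fin (0 + 2), (-1 : ℤ) ^ (i : ℕ) • CosimplicialObject.δ X i := Cf_d X 0
  rw [h, Fin.sum_univ_two]
  simp [CosimplicialObject.δ, sub_eq_add_neg]

variable [HasLimitsOfShape SimplexCategory 𝒜]

lemma next01 : (ComplexShape.up ℕ).next 0 = 1 := by simp

lemma π_d (X : SimplexCategory ⥤ 𝒜) : limit.π X ⦋0⦌ ≫ ((Cf 𝒜).obj X).d 0 1 = 0 := by
  rw [d01, Preadditive.comp_sub, limit.w, limit.w, sub_self]

/-- the comparison `lim ⟶ Z⁰ ∘ C` -/
noncomputable def τ : (lim : (SimplexCategory ⥤ 𝒜) ⥤ 𝒜) ⟶ Cf 𝒜 ⋙ CxHomDeltaH7.Z0 𝒜 where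
  app X := ((Cf 𝒜).obj X).liftCycles (limit.π X ⦋0⦌) 1 next01 (π_d X)
  naturality {X Y} f := by
    rw [← cancel_mono (((Cf 𝒜).obj Y).iCycles 0)]
    have h1 : (lim.map f ≫ ((Cf 𝒜).obj Y).liftCycles (limit.π Y ⦋0⦌) 1 next01 (π_d Y)) ≫
        ((Cf 𝒜).obj Y).iCycles 0 = limit.π X ⦋0⦌ ≫ f.app ⦋0⦌ := by
      rw [Category.assoc, HomologicalComplex.liftCycles_i]
      exact limMap_π f ⦋0⦌
    have h2 : (((Cf 𝒜).obj X).liftCycles (limit.π X ⦋0⦌) 1 next01 (π_d X) ≫
        HomologicalComplex.cyclesMap ((Cf 𝒜).map f) 0) ≫ ((Cf 𝒜).obj Y).iCycles 0 =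
        limit.π X ⦋0⦌ ≫ f.app ⦋0⦌ := by
      rw [Category.assoc, HomologicalComplex.cyclesMap_i, ← Category.assoc,
        HomologicalComplex.liftCycles_i, Cf_map_f]
    exact h1.trans h2.symm

lemma τ_app_i (X : SimplexCategory ⥤ 𝒜) :
    τ.app X ≫ ((Cf 𝒜).obj X).iCycles 0 = limit.π X ⦋0⦌ := by
  exact ((Cf 𝒜).obj X).liftCycles_i (limit.π X ⦋0⦌) 1 next01 (π_d X)

lemma ι_map_const (X : SimplexCategory ⥤ 𝒜) (b : SimplexCategory) (i : Fin (b.len + 1)) :
    ((Cf 𝒜).obj X).iCycles 0 ≫ X.map (SimplexCategory.const ⦋0⦌ b i) =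
      ((Cf 𝒜).obj X).iCycles 0 ≫ X.map (SimplexCategory.const ⦋0⦌ b 0) := by
  have h0 : SimplexCategory.const ⦋0⦌ b i = SimplexCategory.δ (0 : Fin 2) ≫
      SimplexCategory.mkOfLe (n := b.len) 0 i (Fin.zero_le i) :=
    SimplexCategory.Hom.ext_zero_left _ _ rfl
  have h1 : SimplexCategory.const ⦋0⦌ b 0 = SimplexCategory.δ (1 : Fin 2) ≫
      SimplexCategory.mkOfLe (n := b.len) 0 i (Fin.zero_le i) :=
    SimplexCategory.Hom.ext_zero_left _ _ rfl
  have h2 : ((Cf 𝒜).obj X).iCycles 0 ≫ X.map (SimplexCategory.δ (0 : Fin 2)) =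
      ((Cf 𝒜).obj X).iCycles 0 ≫ X.map (SimplexCategory.δ (1 : Fin 2)) := by
    have h3 := ((Cf 𝒜).obj X).iCycles_d 0 1
    rw [d01, Preadditive.comp_sub, sub_eq_zero] at h3
    exact h3
  rw [h0, h1, X.map_comp, X.map_comp, reassoc_of% h2]

/-- the cone with apex the zero cycles -/
noncomputable def coneZ (X : SimplexCategory ⥤ 𝒜) : Cone X where
  pt := ((Cf 𝒜).obj X).cycles 0
  π :=
    { app := fun a => ((Cf 𝒜).obj X).iCycles 0 ≫ X.map (SimplexCategory.const ⦋0⦌ a 0)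
      naturality := fun {a b} f => by
        show 𝟙 _ ≫ ((Cf 𝒜).obj X).iCycles 0 ≫ X.map (SimplexCategory.const ⦋0⦌ b 0) =
          (((Cf 𝒜).obj X).iCycles 0 ≫ X.map (SimplexCategory.const ⦋0⦌ a 0)) ≫ X.map f
        rw [Category.id_comp, Category.assoc, ← X.map_comp, SimplexCategory.const_comp]
        exact (ι_map_const X b _).symm }

instance isIso_τ_app (X : SimplexCategory ⥤ 𝒜) : IsIso (τ.app X) := by
  refine ⟨limit.lift X (coneZ X), ?_, ?_⟩
  · apply limit.hom_ext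
    intro a
    rw [Category.assoc, limit.lift_π, Category.id_comp]
    show τ.app X ≫ ((Cf 𝒜).obj X).iCycles 0 ≫ X.map (SimplexCategory.const ⦋0⦌ a 0) = _
    rw [← Category.assoc, τ_app_i, limit.w]
  · rw [← cancel_mono (((Cf 𝒜).obj X).iCycles 0), Category.assoc, τ_app_i, limit.lift_π,
      Category.id_comp]
    show ((Cf 𝒜).obj X).iCycles 0 ≫ X.map (SimplexCategory.const ⦋0⦌ ⦋0⦌ 0) = _
    rw [SimplexCategory.const_eq_id, X.map_id]
    exact Category.comp_id _

instance isIso_τ : IsIso (τ (𝒜 := 𝒜)) := NatIso.isIso_of_isIso_app _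

/-! ### The main theorem -/

/-- the δ-functor `X ↦ Hⁿ(C X)` -/
noncomputable def T' : DeltaF.CohDeltaFunctor (SimplexCategory ⥤ 𝒜) 𝒜 ℕ :=
  Groth.Agent.Lib.DeltaComp.precomp (Cf 𝒜) CxHomDeltaH7.homologyDelta

lemma T'_effaceable : (T' (𝒜 := 𝒜)).IsEffaceable := by
  intro n X
  refine ⟨dec X, decι X, inferInstance, ?_⟩
  exact (exactAt_dec X n).isZero_homology.eq_of_tgt _ _

theorem main [EnoughInjectives (SimplexCategory ⥤ 𝒜)]
    [(lim : (SimplexCategory ⥤ 𝒜) ⥤ 𝒜).Additive] (F : SimplexCategory ⥤ 𝒜) (n : ℕ) :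
    Nonempty (((lim : (SimplexCategory ⥤ 𝒜) ⥤ 𝒜).rightDerived n).obj F ≅
      ((AlgebraicTopology.alternatingCofaceMapComplex 𝒜).obj F).homology n) := by
  let Δ := Groth.Agent.Lib.Horseshoe0.derivedLES (lim : (SimplexCategory ⥤ 𝒜) ⥤ 𝒜)
  have hT : Δ.toCohDeltaFunctor.IsEffaceable :=
    Groth.Agent.Lib.DeltaComp.isEffaceable_of_isZero _ (fun m I hI => by
      show IsZero (((lim : (SimplexCategory ⥤ 𝒜) ⥤ 𝒜).rightDerived (m + 1)).obj I)
      exact (lim : (SimplexCategory ⥤ 𝒜) ⥤ 𝒜).isZero_rightDerived_obj_injective_succ m I)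
  let e0 : Δ.toCohDeltaFunctor.F 0 ≅ (T' (𝒜 := 𝒜)).F 0 :=
    (lim : (SimplexCategory ⥤ 𝒜) ⥤ 𝒜).rightDerivedZeroIsoSelf ≪≫ asIso (τ (𝒜 := 𝒜)) ≪≫
      Functor.isoWhiskerLeft (Cf 𝒜) CxHomDeltaH7.Z0IsoH0
  obtain ⟨e⟩ := Groth.Agent.Lib.DeltaComp.nonempty_iso_of_effaceable _ _ hT T'_effaceable e0 n
  exact ⟨e.app F⟩

end Groth.Agent.Lib.CosimpLimH7
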