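import Mathlib

set_option autoImplicit false
set_option linter.style.haveILetI false
set_option linter.unusedSectionVars false

universe u

open CategoryTheory Opposite Simplicial SSet MonoidalCategory

namespace Groth.Agent.Lib.CoskHtpyH4

open Classical in
/-- `x₁` if `a` is constant with value `1`, else `x₀`. -/
noncomputable def pick {k : SimplexCategory} (a : k ⟶ ⦋1⦌) {X : Type u} (x₀ x₁ : X) : X :=
  if ∀ j, a.toOrderHom j = 1 then x₁ else x₀

lemma pick_pos {k : SimplexCategory} (a : k ⟶ ⦋1⦌) {X : Type u} (x₀ x₁ : X)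
    (h : ∀ j, a.toOrderHom j = 1) : pick a x₀ x₁ = x₁ := by
  unfold pick
  exact if_pos h

lemma pick_neg {k : SimplexCategory} (a : k ⟶ ⦋1⦌) {X : Type u} (x₀ x₁ : X)
    (h : ¬ ∀ j, a.toOrderHom j = 1) : pick a x₀ x₁ = x₀ := by
  unfold pick
  exact if_neg h

variable {U V : SSet.{u}} (f₀ f₁ : V ⟶ U) (n : ℕ)
  (h : ∀ i : ℕ, i < n → f₀.app (op (SimplexCategory.mk i)) = f₁.app (op (SimplexCategory.mk i)))

include h in
lemma eq_of_not_surj {k k' : SimplexCategory} (hk : k.len ≤ n) (θ : k' ⟶ k)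
    (hθ : ¬ Function.Surjective θ.toOrderHom) (v : V.obj (op k)) :
    f₀.app _ (V.map θ.op v) = f₁.app _ (V.map θ.op v) := by
  induction k using SimplexCategory.rec with | _ k =>
  cases k with
  | zero =>
    exfalso
    apply hθ
    intro y
    refine ⟨0, ?_⟩
    apply Fin.ext
    have h1 : ((θ.toOrderHom 0 : Fin _) : ℕ) < 0 + 1 := (θ.toOrderHom 0).isLt
    have h2 : (y : ℕ) < 0 + 1 := y.isLt
    omega
  | succ m =>
    obtain ⟨i, θ', rfl⟩ := SimplexCategory.eq_comp_δ_of_not_surjective θ hθ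
    have hk' : m + 1 ≤ n := hk
    have hm : f₀.app (op ⦋m⦌) = f₁.app (op ⦋m⦌) := h m (by omega)
    rw [op_comp, FunctorToTypes.map_comp_apply, NatTrans.naturality_apply f₀ θ'.op,
      NatTrans.naturality_apply f₁ θ'.op, hm]

include h in
lemma pick_nat {k k' : SimplexCategory} (hk : k.len ≤ n) (θ : k' ⟶ k) (v : V.obj (op k))
    (a : (Δ[1] : SSet.{u}).obj (op k)) :
    pick (stdSimplex.objEquiv ((Δ[1] : SSet.{u}).map θ.op a)) (f₀.app _ (V.map θ.op v))
      (f₁.app _ (V.map θ.op v)) =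
    U.map θ.op (pick (stdSimplex.objEquiv a) (f₀.app _ v) (f₁.app _ v)) := by
  have hcomp : ∀ j, (stdSimplex.objEquiv ((Δ[1] : SSet.{u}).map θ.op a)).toOrderHom j =
      (stdSimplex.objEquiv a).toOrderHom (θ.toOrderHom j) := fun j => rfl
  have e₀ := NatTrans.naturality_apply f₀ θ.op v
  have e₁ := NatTrans.naturality_apply f₁ θ.op v
  by_cases h1 : ∀ j, (stdSimplex.objEquiv a).toOrderHom j = 1
  · have h1' : ∀ j, (stdSimplex.objEquiv ((Δ[1] : SSet.{u}).map θ.op a)).toOrderHom j = 1 :=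
      fun j => by rw [hcomp]; exact h1 _
    rw [pick_pos _ _ _ h1', pick_pos _ _ _ h1, e₁]
  · by_cases h2 : ∀ j, (stdSimplex.objEquiv ((Δ[1] : SSet.{u}).map θ.op a)).toOrderHom j = 1
    · rw [pick_pos _ _ _ h2, pick_neg _ _ _ h1, ← e₀]
      symm
      apply eq_of_not_surj f₀ f₁ n h hk
      intro hs
      apply h1
      intro i
      obtain ⟨j, rfl⟩ := hs i
      rw [← hcomp]
      exact h2 j
    · rw [pick_neg _ _ _ h2, pick_neg _ _ _ h1, e₀]

include h in
/-- The homotopy on the `n`-truncation. -/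
noncomputable def β : (SimplexCategory.Truncated.inclusion n).op ⋙ (V ⊗ (Δ[1] : SSet.{u})) ⟶
    (SimplexCategory.Truncated.inclusion n).op ⋙ U where
  app c := TypeCat.ofHom
    (fun (x : V.obj (op c.unop.obj) × (Δ[1] : SSet.{u}).obj (op c.unop.obj)) =>
      pick (stdSimplex.objEquiv x.2) (f₀.app _ x.1) (f₁.app _ x.1))
  naturality c c' θ := by
    ext x
    exact pick_nat f₀ f₁ n h c.unop.property θ.unop.hom x.1 x.2

variable [SimplicialObject.IsCoskeletal U n]

include h in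
/-- The homotopy. -/
noncomputable def H : V ⊗ (Δ[1] : SSet.{u}) ⟶ U :=
  U.liftOfIsRightKanExtension (𝟙 ((SimplexCategory.Truncated.inclusion n).op ⋙ U))
    (V ⊗ (Δ[1] : SSet.{u})) (β f₀ f₁ n h)

lemma H_app (c : (SimplexCategory.Truncated n)ᵒᵖ) :
    (H f₀ f₁ n h).app ((SimplexCategory.Truncated.inclusion n).op.obj c) =
      (β f₀ f₁ n h).app c := by
  have e := U.liftOfIsRightKanExtension_fac_app
    (𝟙 ((SimplexCategory.Truncated.inclusion n).op ⋙ U)) (V ⊗ (Δ[1] : SSet.{u}))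
    (β f₀ f₁ n h) c
  rw [NatTrans.id_app, Category.comp_id] at e
  exact e

include h in
theorem main6799 : Nonempty (SSet.Homotopy f₀ f₁) := by
  have key0 : ∀ (c : (SimplexCategory.Truncated n)ᵒᵖ)
      (x : V.obj ((SimplexCategory.Truncated.inclusion n).op.obj c)),
      (H f₀ f₁ n h).app _ (ι₀.app _ x) = f₀.app _ x := by
    intro c x
    rw [H_app]
    exact pick_neg _ _ _ (fun hh => (by decide : (0 : Fin 2) ≠ 1) (hh 0))
  have key1 : ∀ (c : (SimplexCategory.Truncated n)ᵒᵖ)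
      (x : V.obj ((SimplexCategory.Truncated.inclusion n).op.obj c)),
      (H f₀ f₁ n h).app _ (ι₁.app _ x) = f₁.app _ x := by
    intro c x
    rw [H_app]
    exact pick_pos _ _ _ (fun j => rfl)
  have h0 : ι₀ ≫ H f₀ f₁ n h = f₀ := by
    apply U.hom_ext_of_isRightKanExtension
      (𝟙 ((SimplexCategory.Truncated.inclusion n).op ⋙ U))
    ext c x
    exact key0 c x
  have h1 : ι₁ ≫ H f₀ f₁ n h = f₁ := by
    apply U.hom_ext_of_isRightKanExtension
      (𝟙 ((SimplexCategory.Truncated.inclusion n).op ⋙ U))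
    ext c x
    exact key1 c x
  refine ⟨(⟨H f₀ f₁ n h, h0, h1, ?_⟩ :
    (RelativeMorphism.botEquiv.symm f₀).Homotopy (RelativeMorphism.botEquiv.symm f₁))⟩
  ext c x
  exact (x.1.2).elim

end Groth.Agent.Lib.CoskHtpyH4
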