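import Mathlib
import Groth.Agent.Lib.CoskPr_helper7

set_option autoImplicit false
set_option linter.style.haveILetI false
set_option linter.unusedSectionVars false
set_option linter.unusedVariables false
set_option backward.isDefEq.respectTransparency false
set_option backward.isDefEq.respectTransparency.types false
set_option maxHeartbeats 1600000

/-! # The index-set functor on formal coproducts preserves finite limits; indices of coskeleta -/

universe u

open CategoryTheory CategoryTheory.Limits Opposite Simplicial

namespace Groth.Agent.Lib.CoskIdxH7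

open Groth.Agent.Lib.CoskPrH7

variable {D : Type u} [SmallCategory D]

/-- the index-set functor. -/
def Ifun : FormalCoproduct.{u} D ⥤ Type u where
  obj X := X.I
  map f := ↾f.f
  map_id X := rfl
  map_comp f g := rfl

lemma Ifun_map_apply {X Y : FormalCoproduct.{u} D} (f : X ⟶ Y) (i : X.I) :
    (Ifun (D := D)).map f i = f.f i := rfl

lemma isLimit_Ifun_pullbackCone {X Y Z : FormalCoproduct.{u} D} (f : X ⟶ Z) (g : Y ⟶ Z)
    (pb : ∀ i : Function.Pullback f.f g.f,
      PullbackCone (f.φ i.1.1 ≫ eqToHom (by rw [i.2])) (g.φ i.1.2)) :
    Nonempty (IsLimit ((Ifun (D := D)).mapCone (FormalCoproduct.pullbackCone f g pb))) := by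
  rw [Types.isLimit_iff]
  intro s hs
  have h1 : f.f (s WalkingCospan.left) = s WalkingCospan.one := hs WalkingCospan.Hom.inl
  have h2 : g.f (s WalkingCospan.right) = s WalkingCospan.one := hs WalkingCospan.Hom.inr
  refine ⟨⟨(s WalkingCospan.left, s WalkingCospan.right), h1.trans h2.symm⟩, ?_, ?_⟩
  · intro j
    rcases j with _ | _ | _
    · exact h1
    · rfl
    · rfl
  · intro y hy
    have e1 : y.1.1 = s WalkingCospan.left := hy WalkingCospan.left
    have e2 : y.1.2 = s WalkingCospan.right := hy WalkingCospan.right
    exact Subtype.ext (Prod.ext e1 e2)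

instance preservesPullbacks_Ifun [HasPullbacks D] :
    PreservesLimitsOfShape WalkingCospan (Ifun (D := D)) := by
  constructor
  intro K
  have h : PreservesLimit (cospan (K.map WalkingCospan.Hom.inl) (K.map WalkingCospan.Hom.inr))
      (Ifun (D := D)) :=
    preservesLimit_of_preserves_limit_cone
      (FormalCoproduct.isLimitPullbackCone (K.map WalkingCospan.Hom.inl)
        (K.map WalkingCospan.Hom.inr) (fun i => limit.cone _) (fun i => limit.isLimit _))
      (isLimit_Ifun_pullbackCone _ _ _).some
  exact preservesLimit_of_iso_diagram (Ifun (D := D)) (diagramIsoCospan K).symm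

instance preservesTerminal_Ifun [HasTerminal D] :
    PreservesLimitsOfShape (Discrete.{0} PEmpty) (Ifun (D := D)) := by
  have h : PreservesLimit (Functor.empty.{0} (FormalCoproduct.{u} D)) (Ifun (D := D)) := by
    refine preservesLimit_of_preserves_limit_cone
      (FormalCoproduct.isTerminalIncl (⊤_ D) terminalIsTerminal) ?_
    refine Nonempty.some ?_
    rw [Types.isLimit_iff]
    intro s hs
    refine ⟨PUnit.unit, fun j => j.as.elim, fun y _ => rfl⟩
  exact preservesLimitsOfShape_pempty_of_preservesTerminal (Ifun (D := D))

instance preservesFiniteLimits_Ifun [HasPullbacks D] [HasTerminal D] :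
    PreservesFiniteLimits (Ifun (D := D)) :=
  preservesFiniteLimits_of_preservesTerminal_and_pullbacks (Ifun (D := D))

section

variable [HasPullbacks D] [HasTerminal D] (m : ℕ)
  [∀ (F : (SimplexCategory.Truncated m)ᵒᵖ ⥤ FormalCoproduct.{u} D),
    (SimplexCategory.Truncated.inclusion m).op.HasRightKanExtension F]

instance hasFiniteLimits_fcD : HasFiniteLimits (FormalCoproduct.{u} D) :=
  hasFiniteLimits_of_hasTerminal_and_pullbacks

/-- an index of the coskeleton is determined by the indices of its projections. -/
theorem ck_index_inj (M : SimplicialObject (FormalCoproduct.{u} D)) {j : SimplexCategory}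
    (b b' : ((ck m M).obj (op j)).I)
    (h : ∀ (k : SimplexCategory) (hk : k.len ≤ m) (a : k ⟶ j),
      (pr m M k hk a).f b = (pr m M k hk a).f b') : b = b' := by
  haveI : (SimplexCategory.Truncated.inclusion m).op.HasPointwiseRightKanExtension
      ((SimplicialObject.truncation m).obj M) := Groth.Agent.Lib.TruncKanH4.main6800 m _
  have hP := Functor.isPointwiseRightKanExtensionOfIsRightKanExtension (ck m M) (cu m M)
  letI : FinCategory (StructuredArrow (op j) (SimplexCategory.Truncated.inclusion m).op) :=
    Groth.Agent.Lib.TruncKanH4.finCatOfFinite _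
  have hl := isLimitOfPreserves (Ifun (D := D)) (hP (op j))
  apply (Types.isLimitEquivSections hl).injective
  apply Subtype.ext
  funext s
  exact h s.right.unop.obj s.right.unop.property s.hom.unop

end

end Groth.Agent.Lib.CoskIdxH7
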