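import Mathlib
import Groth.Agent.Lib.CoskPr_helper7

set_option autoImplicit false
set_option linter.style.haveILetI false
set_option linter.unusedSectionVars false
set_option linter.unusedVariables false
set_option backward.isDefEq.respectTransparency false
set_option backward.isDefEq.respectTransparency.types false
set_option maxHeartbeats 1600000

/-! # Points of the coskeleton of a simplicial formal coproduct are determined by their projections

No limits are assumed: we use the copower `Δ[j] ⊗ w` and the coskeleton adjunction. -/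

universe u

open CategoryTheory CategoryTheory.Limits Opposite Simplicial

namespace Groth.Agent.Lib.CoskPtH7

open Groth.Agent.Lib.CoskPrH7

variable {D : Type u} [Category.{u} D]

/-- the simplicial formal coproduct `Δ[j] ⊗ w`. -/
def cop (j : SimplexCategory) (w : D) : SimplicialObject (FormalCoproduct.{u} D) where
  obj k := ⟨ULift.{u} (k.unop ⟶ j), fun _ => w⟩
  map θ := ⟨fun σ => ⟨θ.unop ≫ σ.down⟩, fun _ => 𝟙 w⟩
  map_id k := by
    refine FormalCoproduct.hom_ext (funext fun σ => ?_) (fun σ => ?_)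
    · apply ULift.ext
      simp
    · simp
  map_comp f g := by
    refine FormalCoproduct.hom_ext (funext fun σ => ?_) (fun σ => ?_)
    · apply ULift.ext
      simp
    · simp

/-- the inclusion of the summand of `σ`. -/
def copι (j : SimplexCategory) (w : D) {k : SimplexCategory} (σ : k ⟶ j) :
    (FormalCoproduct.incl D).obj w ⟶ (cop j w).obj (op k) :=
  ⟨fun _ => ⟨σ⟩, fun _ => 𝟙 w⟩

lemma copι_map (j : SimplexCategory) (w : D) {k k' : SimplexCategory} (θ : k' ⟶ k) (σ : k ⟶ j) :
    copι j w σ ≫ (cop j w).map θ.op = copι j w (θ ≫ σ) := by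
  refine FormalCoproduct.hom_ext (funext fun _ => rfl) (fun _ => ?_)
  simp [copι, cop]

lemma cop_hom_ext (j : SimplexCategory) (w : D) {k : SimplexCategory} {A : FormalCoproduct.{u} D}
    (x y : (cop j w).obj (op k) ⟶ A)
    (h : ∀ σ : k ⟶ j, copι j w σ ≫ x = copι j w σ ≫ y) : x = y := by
  have h1 : ∀ σ : k ⟶ j, ∃ e : x.f ⟨σ⟩ = y.f ⟨σ⟩,
      x.φ ⟨σ⟩ ≫ eqToHom (congrArg A.obj e) = y.φ ⟨σ⟩ := by
    intro σ
    obtain ⟨e, he⟩ := (FormalCoproduct.hom_ext_iff' _ _).1 (h σ) PUnit.unit
    have e' : x.f ⟨σ⟩ = y.f ⟨σ⟩ := e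
    refine ⟨e', ?_⟩
    have he' : (𝟙 w ≫ x.φ ⟨σ⟩) ≫ eqToHom (congrArg A.obj e') = 𝟙 w ≫ y.φ ⟨σ⟩ := he
    rw [Category.id_comp, Category.id_comp] at he'
    exact he'
  refine FormalCoproduct.hom_ext (funext fun σ => ?_) (fun σ => ?_)
  · obtain ⟨σ⟩ := σ
    exact (h1 σ).1
  · obtain ⟨σ⟩ := σ
    exact (h1 σ).2

variable (Y : SimplicialObject (FormalCoproduct.{u} D))

/-- components of the simplicial map attached to a point. -/
def ofPtApp {j : SimplexCategory} {w : D} (l : (FormalCoproduct.incl D).obj w ⟶ Y.obj (op j))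
    (k : SimplexCategory) : (cop j w).obj (op k) ⟶ Y.obj (op k) :=
  ⟨fun σ => (l ≫ Y.map σ.down.op).f PUnit.unit, fun σ => (l ≫ Y.map σ.down.op).φ PUnit.unit⟩

lemma copι_ofPtApp {j : SimplexCategory} {w : D}
    (l : (FormalCoproduct.incl D).obj w ⟶ Y.obj (op j)) {k : SimplexCategory} (σ : k ⟶ j) :
    copι j w σ ≫ ofPtApp Y l k = l ≫ Y.map σ.op := by
  refine FormalCoproduct.hom_ext (funext fun _ => rfl) (fun x => ?_)
  cases x
  have h : (copι j w σ ≫ ofPtApp Y l k).φ PUnit.unit = 𝟙 w ≫ (l ≫ Y.map σ.op).φ PUnit.unit := rfl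
  rw [h, Category.id_comp]
  simp

/-- the simplicial map `Δ[j] ⊗ w ⟶ Y` attached to a point of `Y_j`. -/
def ofPt {j : SimplexCategory} {w : D} (l : (FormalCoproduct.incl D).obj w ⟶ Y.obj (op j)) :
    cop j w ⟶ Y where
  app k := ofPtApp Y l k.unop
  naturality k k' θ := by
    apply cop_hom_ext
    intro σ
    have h1 : copι j w σ ≫ (cop j w).map θ = copι j w (θ.unop ≫ σ) := copι_map j w θ.unop σ
    rw [← Category.assoc, h1, copι_ofPtApp, ← Category.assoc, copι_ofPtApp, Category.assoc,
      ← Functor.map_comp]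
    rfl

lemma copι_ofPt {j : SimplexCategory} {w : D}
    (l : (FormalCoproduct.incl D).obj w ⟶ Y.obj (op j)) {k : SimplexCategory} (σ : k ⟶ j) :
    copι j w σ ≫ (ofPt Y l).app (op k) = l ≫ Y.map σ.op := copι_ofPtApp Y l σ

variable (m : ℕ)
  [∀ (F : (SimplexCategory.Truncated m)ᵒᵖ ⥤ FormalCoproduct.{u} D),
    (SimplexCategory.Truncated.inclusion m).op.HasRightKanExtension F]

/-- a point of the coskeleton is determined by its projections. -/
theorem pr_pt_ext (M : SimplicialObject (FormalCoproduct.{u} D)) {w : D} {j : SimplexCategory}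
    (f g : (FormalCoproduct.incl D).obj w ⟶ (ck m M).obj (op j))
    (h : ∀ (k : SimplexCategory) (hk : k.len ≤ m) (a : k ⟶ j),
      f ≫ pr m M k hk a = g ≫ pr m M k hk a) : f = g := by
  have hFG : ofPt (ck m M) f = ofPt (ck m M) g := by
    apply ((SimplicialObject.coskAdj m).homEquiv (cop j w)
      ((SimplicialObject.truncation m).obj M)).symm.injective
    rw [Adjunction.homEquiv_counit, Adjunction.homEquiv_counit]
    refine NatTrans.ext (funext fun x => ?_)
    obtain ⟨⟨k, hk⟩⟩ := x
    show (ofPt (ck m M) f).app (op k) ≫ cuk m M k hk = (ofPt (ck m M) g).app (op k) ≫ cuk m M k hk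
    apply cop_hom_ext
    intro a
    rw [← Category.assoc, ← Category.assoc, copι_ofPt, copι_ofPt, Category.assoc, Category.assoc]
    exact h k hk a
  have hf : copι j w (𝟙 j) ≫ (ofPt (ck m M) f).app (op j) = f := by
    rw [copι_ofPt]
    have : (ck m M).map (𝟙 j).op = 𝟙 _ := (ck m M).map_id (op j)
    rw [this, Category.comp_id]
  have hg : copι j w (𝟙 j) ≫ (ofPt (ck m M) g).app (op j) = g := by
    rw [copι_ofPt]
    have : (ck m M).map (𝟙 j).op = 𝟙 _ := (ck m M).map_id (op j)
    rw [this, Category.comp_id]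
  rw [← hf, ← hg, hFG]

end Groth.Agent.Lib.CoskPtH7
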