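import Mathlib
import Groth.Agent.Lib.CoskPr_helper7

set_option autoImplicit false
set_option linter.style.haveILetI false
set_option linter.unusedSectionVars false
set_option linter.unusedVariables false
set_option backward.isDefEq.respectTransparency false
set_option backward.isDefEq.respectTransparency.types false
set_option maxHeartbeats 1600000

/-! # Canonical extension of a point of the coskeleton to all cells with small image -/

universe v u

open CategoryTheory CategoryTheory.Limits Opposite Simplicial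

namespace Groth.Agent.Lib.CoskXXH7

open Groth.Agent.Lib.CoskPrH7

variable {E : Type u} [Category.{v} E] (m : ℕ)
  [∀ (F : (SimplexCategory.Truncated m)ᵒᵖ ⥤ E),
    (SimplexCategory.Truncated.inclusion m).op.HasRightKanExtension F]
  (M : SimplicialObject E)

lemma len_image_comp_le {j k Δ₀ : SimplexCategory} (a : k ⟶ Δ₀) (β : j ⟶ k) :
    (image (β ≫ a)).len ≤ k.len := by
  have fac : (factorThruImage (β ≫ factorThruImage a)) ≫
      (image.ι (β ≫ factorThruImage a) ≫ image.ι a) = β ≫ a := by
    rw [← Category.assoc, image.fac, Category.assoc, image.fac]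
  have h : image (β ≫ a) = image (β ≫ factorThruImage a) := SimplexCategory.image_eq fac
  rw [h]
  exact le_trans (SimplexCategory.len_le_of_mono (image.ι (β ≫ factorThruImage a)))
    (SimplexCategory.len_le_of_epi (factorThruImage a))

lemma len_image_comp_le' {j j' Δ₀ : SimplexCategory} (σ : j ⟶ Δ₀) (θ : j' ⟶ j) :
    (image (θ ≫ σ)).len ≤ (image σ).len := by
  have h1 : θ ≫ σ = (θ ≫ factorThruImage σ) ≫ image.ι σ := by
    rw [Category.assoc, image.fac]
  rw [h1]
  exact len_image_comp_le (image.ι σ) (θ ≫ factorThruImage σ)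

lemma len_congr {j Δ₀ : SimplexCategory} {σ σ' : j ⟶ Δ₀} (e : σ = σ')
    (h : (image σ).len ≤ m) : (image σ').len ≤ m := by
  subst e
  exact h

/-- the canonical point of `M_j` attached to a cell `σ : j ⟶ Δ₀` with small image. -/
noncomputable def xx {T : E} {Δ₀ : SimplexCategory} (t : T ⟶ (ck m M).obj (op Δ₀))
    {j : SimplexCategory} (σ : j ⟶ Δ₀) (h : (image σ).len ≤ m) : T ⟶ M.obj (op j) :=
  t ≫ pr m M (image σ) h (image.ι σ) ≫ M.map (factorThruImage σ).op

lemma xx_congr {T : E} {Δ₀ : SimplexCategory} (t : T ⟶ (ck m M).obj (op Δ₀))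
    {j : SimplexCategory} {σ σ' : j ⟶ Δ₀} (e : σ = σ') (h : (image σ).len ≤ m)
    (h' : (image σ').len ≤ m) : xx m M t σ h = xx m M t σ' h' := by
  subst e
  rfl

lemma xx_epi_mono {T : E} {Δ₀ : SimplexCategory} (t : T ⟶ (ck m M).obj (op Δ₀))
    {j : SimplexCategory} (σ : j ⟶ Δ₀)
    (k2 : SimplexCategory) (hk2 : k2.len ≤ m) (e : j ⟶ k2) [Epi e] (i : k2 ⟶ Δ₀) [Mono i]
    (fac : e ≫ i = σ) (h0 : (image σ).len ≤ m) :
    t ≫ pr m M k2 hk2 i ≫ M.map e.op = xx m M t σ h0 := by
  have h : image σ = k2 := SimplexCategory.image_eq fac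
  subst h
  have h1 : image.ι σ = i := SimplexCategory.image_ι_eq fac
  have h2 : factorThruImage σ = e := SimplexCategory.factorThruImage_eq fac
  subst h1
  subst h2
  rfl

lemma xx_fac {T : E} {Δ₀ : SimplexCategory} (t : T ⟶ (ck m M).obj (op Δ₀))
    {j : SimplexCategory} (k : SimplexCategory) (hk : k.len ≤ m) (a : k ⟶ Δ₀) (β : j ⟶ k)
    (h0 : (image (β ≫ a)).len ≤ m) :
    t ≫ pr m M k hk a ≫ M.map β.op = xx m M t (β ≫ a) h0 := by
  have hk1 : (image a).len ≤ m := le_trans (SimplexCategory.len_le_of_epi (factorThruImage a)) hk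
  -- step A
  have hA : pr m M k hk a = pr m M (image a) hk1 (image.ι a) ≫ M.map (factorThruImage a).op := by
    have h := pr_comp m M hk1 hk (factorThruImage a) (image.ι a)
    rw [image.fac] at h
    exact h
  have eA : pr m M k hk a ≫ M.map β.op =
      pr m M (image a) hk1 (image.ι a) ≫ M.map (β ≫ factorThruImage a).op := by
    rw [hA, Category.assoc, op_comp, Functor.map_comp]
  -- step B
  have hk2 : (image (β ≫ factorThruImage a)).len ≤ m :=
    le_trans (SimplexCategory.len_le_of_mono (image.ι (β ≫ factorThruImage a))) hk1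
  have hB : pr m M (image (β ≫ factorThruImage a)) hk2
      (image.ι (β ≫ factorThruImage a) ≫ image.ι a) =
      pr m M (image a) hk1 (image.ι a) ≫ M.map (image.ι (β ≫ factorThruImage a)).op :=
    pr_comp m M hk1 hk2 (image.ι (β ≫ factorThruImage a)) (image.ι a)
  have hγ : M.map (β ≫ factorThruImage a).op =
      M.map (image.ι (β ≫ factorThruImage a)).op ≫
        M.map (factorThruImage (β ≫ factorThruImage a)).op := by
    rw [← Functor.map_comp, ← op_comp, image.fac]
  have eB : pr m M (image a) hk1 (image.ι a) ≫ M.map (β ≫ factorThruImage a).op =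
      pr m M (image (β ≫ factorThruImage a)) hk2
        (image.ι (β ≫ factorThruImage a) ≫ image.ι a) ≫
        M.map (factorThruImage (β ≫ factorThruImage a)).op := by
    rw [hγ, hB, Category.assoc]
  have fac : (factorThruImage (β ≫ factorThruImage a)) ≫
      (image.ι (β ≫ factorThruImage a) ≫ image.ι a) = β ≫ a := by
    rw [← Category.assoc, image.fac, Category.assoc, image.fac]
  have eC := xx_epi_mono m M t (β ≫ a) (image (β ≫ factorThruImage a)) hk2
    (factorThruImage (β ≫ factorThruImage a))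
    (image.ι (β ≫ factorThruImage a) ≫ image.ι a) fac h0
  rw [eA, eB]
  exact eC

lemma xx_comp {T : E} {Δ₀ : SimplexCategory} (t : T ⟶ (ck m M).obj (op Δ₀))
    {j j' : SimplexCategory} (σ : j ⟶ Δ₀) (θ : j' ⟶ j) (h : (image σ).len ≤ m)
    (h' : (image (θ ≫ σ)).len ≤ m) :
    xx m M t (θ ≫ σ) h' = xx m M t σ h ≫ M.map θ.op := by
  have e1 : (θ ≫ factorThruImage σ) ≫ image.ι σ = θ ≫ σ := by
    rw [Category.assoc, image.fac]
  have h'' : (image ((θ ≫ factorThruImage σ) ≫ image.ι σ)).len ≤ m := len_congr m e1.symm h'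
  have h1 := xx_fac m M t (image σ) h (image.ι σ) (θ ≫ factorThruImage σ) h''
  have h2 := xx_congr m M t e1 h'' h'
  rw [← h2, ← h1]
  unfold xx
  rw [Category.assoc, Category.assoc, op_comp, Functor.map_comp]

lemma xx_small {T : E} {Δ₀ : SimplexCategory} (t : T ⟶ (ck m M).obj (op Δ₀))
    {j : SimplexCategory} (σ : j ⟶ Δ₀) (hj : j.len ≤ m) (h : (image σ).len ≤ m) :
    xx m M t σ h = t ≫ pr m M j hj σ := by
  have e1 : 𝟙 j ≫ σ = σ := Category.id_comp σ
  have h'' : (image (𝟙 j ≫ σ)).len ≤ m := len_congr m e1.symm h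
  have h1 := xx_fac m M t j hj σ (𝟙 j) h''
  have h2 := xx_congr m M t e1 h'' h
  rw [← h2, ← h1]
  have h3 : M.map (𝟙 j).op = 𝟙 _ := M.map_id (op j)
  rw [h3, Category.comp_id]

end Groth.Agent.Lib.CoskXXH7
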