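import Mathlib
import Groth.Agent.Lib.EtNormal3_helper4

/-!
# Unramified + equal dimension over a normal base ⇒ étale (helper3)

EGA IV 17.11-style ring-level criterion: an essentially-finite-type, formally unramified local
algebra `C` over a Noetherian normal local domain `A` with `dim A ≤ dim C` is formally étale.
APPEND-ONLY once landed.
-/

set_option autoImplicit false
universe u

namespace Groth.Agent.Lib.EtDimCritH3

open IsLocalRing

/-- For a flat quasi-finite algebra, heights are preserved under contraction. -/
theorem height_under_of_flat_of_quasiFinite {A B : Type*} [CommRing A] [CommRing B] [Algebra A B]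
    [Module.Flat A B] [Algebra.QuasiFinite A B] (Q : Ideal B) [Q.IsPrime] :
    (Q.under A).height = Q.height := by
  let p : PrimeSpectrum A := ⟨Q.under A, inferInstance⟩
  let q : PrimeSpectrum B := ⟨Q, inferInstance⟩
  show p.asIdeal.height = q.asIdeal.height
  rw [PrimeSpectrum.height_eq_orderHeight, PrimeSpectrum.height_eq_orderHeight]
  apply le_antisymm
  · rw [Order.height_eq_iSup_last_eq]
    apply iSup₂_le
    intro l hl
    haveI : Q.LiesOver l.last.asIdeal := ⟨by rw [hl]⟩
    obtain ⟨L, hlen, hlast, -⟩ := Ideal.exists_ltSeries_of_hasGoingDown l Q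
    rw [← hlen]
    exact Order.length_le_height hlast.le
  · have hsm : StrictMono (PrimeSpectrum.comap (algebraMap A B)) := by
      intro a b hab
      have hle : a.asIdeal ≤ b.asIdeal := hab.le
      refine lt_of_le_of_ne (Ideal.comap_mono hle) fun heq => ?_
      have h1 : a.asIdeal.under A = b.asIdeal.under A := congrArg PrimeSpectrum.asIdeal heq
      have h2 := Algebra.QuasiFinite.eq_of_le_of_under_eq (R := A) _ _ hle h1
      exact hab.ne (PrimeSpectrum.ext h2)
    exact Order.height_le_height_apply_of_strictMono _ hsm q

/-- Core: a local ring `C` which is a localization of a quotient of an étale `B`-algebra `E`,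
lying over a prime `P` with `B_P` a normal domain and `ht P ≤ dim C`, is `E_{Q'}` itself, hence
formally étale over `B`. -/
theorem formallyEtale_of_etale_quotient_localization
    {B E C : Type u} [CommRing B] [CommRing E] [CommRing C] [Algebra B E] [Algebra B C]
    [IsNoetherianRing B] [Algebra.Etale B E] [IsLocalRing C]
    (ψ : E →ₐ[B] C)
    (hsurj : ∀ c : C, ∃ e e' : E, IsUnit (ψ e') ∧ c * ψ e' = ψ e)
    (P : Ideal B) [P.IsPrime] (hP : (maximalIdeal C).comap (algebraMap B C) = P)
    (A' : Type u) [CommRing A'] [Algebra B A'] [IsLocalization.AtPrime A' P] [IsDomain A']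
    [IsIntegrallyClosed A']
    (hht : (P.height : WithBot ℕ∞) ≤ ringKrullDim C) :
    Algebra.FormallyEtale B C := by
  let Q' : Ideal E := (maximalIdeal C).comap ψ.toRingHom
  haveI : Q'.IsPrime := Ideal.comap_isPrime _ _
  have hQ'P : Q'.under B = P := by
    rw [← hP]
    ext b
    show ψ (algebraMap B E b) ∈ maximalIdeal C ↔ algebraMap B C b ∈ maximalIdeal C
    rw [ψ.commutes]
  have hunitsE : ∀ y : Q'.primeCompl, IsUnit (ψ.toRingHom y) := by
    intro y
    have h : ψ y.1 ∉ maximalIdeal C := y.2
    rw [IsLocalRing.mem_maximalIdeal, mem_nonunits_iff, not_not] at h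
    exact h
  let ρ : Localization.AtPrime Q' →+* C := IsLocalization.lift (M := Q'.primeCompl) hunitsE
  have hρ : ∀ e, ρ (algebraMap E (Localization.AtPrime Q') e) = ψ e :=
    fun e => IsLocalization.lift_eq _ e
  have hρsurj : Function.Surjective ρ := by
    intro c
    obtain ⟨e, e', hu, hc⟩ := hsurj c
    have he' : e' ∈ Q'.primeCompl := by
      show e' ∉ Q'
      intro h
      have h' : ψ e' ∈ maximalIdeal C := h
      exact (IsLocalRing.mem_maximalIdeal _).mp h' hu
    refine ⟨IsLocalization.mk' (Localization.AtPrime Q') e ⟨e', he'⟩, ?_⟩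
    have h1 : ρ (IsLocalization.mk' (Localization.AtPrime Q') e ⟨e', he'⟩) * ψ e' = ψ e := by
      rw [← hρ e', ← map_mul]
      have := IsLocalization.mk'_spec (Localization.AtPrime Q') e ⟨e', he'⟩
      rw [this, hρ]
    exact hu.mul_left_injective (h1.trans hc.symm)
  -- the algebra `A' → E_{Q'}`
  have hunitsB : ∀ y : P.primeCompl, IsUnit (algebraMap B (Localization.AtPrime Q') y) := by
    intro y
    rw [IsScalarTower.algebraMap_apply B E (Localization.AtPrime Q')]
    have hy : algebraMap B E y ∈ Q'.primeCompl := by
      show algebraMap B E y ∉ Q'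
      intro h
      have h' : (y : B) ∈ Q'.under B := h
      rw [hQ'P] at h'
      exact y.2 h'
    exact IsLocalization.map_units (Localization.AtPrime Q') (⟨algebraMap B E y, hy⟩ : Q'.primeCompl)
  letI : Algebra A' (Localization.AtPrime Q') :=
    (IsLocalization.lift (M := P.primeCompl) (S := A') hunitsB).toAlgebra
  haveI : IsScalarTower B A' (Localization.AtPrime Q') := IsScalarTower.of_algebraMap_eq fun b => by
    rw [RingHom.algebraMap_toAlgebra]
    exact (IsLocalization.lift_eq _ b).symm
  obtain ⟨hLdom, -⟩ := Groth.Agent.Lib.EtNormal3H4.normal_of_smooth (R := B) (B := E) Q'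
    (Localization.AtPrime Q') P.primeCompl A'
  haveI := hLdom
  haveI : IsNoetherianRing E := Algebra.FiniteType.isNoetherianRing B E
  have hdimL : ringKrullDim (Localization.AtPrime Q') = (P.height : WithBot ℕ∞) := by
    rw [IsLocalization.AtPrime.ringKrullDim_eq_height Q' (Localization.AtPrime Q'), ← hQ'P,
      height_under_of_flat_of_quasiFinite]
  have hfin : P.height ≠ ⊤ := Ideal.height_ne_top (Ideal.IsPrime.ne_top inferInstance)
  have hρinj : Function.Injective ρ := by
    rw [injective_iff_map_eq_zero]
    intro r hr
    by_contra hne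
    have hnzd : r ∈ nonZeroDivisors (Localization.AtPrime Q') := mem_nonZeroDivisors_of_ne_zero hne
    have h1 := ringKrullDim_succ_le_of_surjective ρ hρsurj hnzd hr
    rw [hdimL] at h1
    have h2 : ((P.height + 1 : ℕ∞) : WithBot ℕ∞) ≤ (P.height : WithBot ℕ∞) := by
      push_cast
      have h0 : (P.height : WithBot ℕ∞) + 1 ≤ ringKrullDim C + 1 := by gcongr
      exact h0.trans h1
    have h3 : P.height + 1 ≤ P.height := WithBot.coe_le_coe.mp h2
    exact lt_irrefl _ ((ENat.add_one_le_iff hfin).mp h3)
  let ρA : Localization.AtPrime Q' →ₐ[B] C :=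
    { ρ with
      commutes' := fun b => by
        show ρ (algebraMap B (Localization.AtPrime Q') b) = algebraMap B C b
        rw [IsScalarTower.algebraMap_apply B E (Localization.AtPrime Q'), hρ, ψ.commutes] }
  let e : Localization.AtPrime Q' ≃ₐ[B] C := AlgEquiv.ofBijective ρA ⟨hρinj, hρsurj⟩
  haveI : Algebra.FormallyEtale B (Localization.AtPrime Q') :=
    Algebra.FormallyEtale.comp B E (Localization.AtPrime Q')
  exact Algebra.FormallyEtale.of_equiv e

/-- **Unramified + dimension ⇒ étale over a normal base** (local form of EGA IV 17.11/18.10):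
let `A` be a Noetherian normal local domain and `C` a local `A`-algebra, essentially of finite
type and formally unramified, with `A → C` local. If `dim A ≤ dim C` then `C` is formally étale
over `A`. -/
theorem formallyEtale_of_formallyUnramified_of_dim_le
    {A C : Type u} [CommRing A] [CommRing C] [Algebra A C] [IsLocalRing A] [IsLocalRing C]
    [IsLocalHom (algebraMap A C)] [IsNoetherianRing A] [IsDomain A] [IsIntegrallyClosed A]
    [Algebra.EssFiniteType A C] [Algebra.FormallyUnramified A C]
    (hdim : ringKrullDim A ≤ ringKrullDim C) : Algebra.FormallyEtale A C := by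
  let T := Algebra.EssFiniteType.subalgebra A C
  let M := Algebra.EssFiniteType.submonoid A C
  haveI : IsLocalization M C := Algebra.EssFiniteType.isLocalization A C
  let Q : Ideal T := (maximalIdeal C).comap (algebraMap T C)
  haveI hQ : Q.IsPrime := Ideal.comap_isPrime _ _
  haveI hloc : IsLocalization.AtPrime C Q := by
    refine IsLocalization.of_le (M := M) Q.primeCompl ?_ ?_
    · intro m hm hmq
      exact (IsLocalRing.mem_maximalIdeal _).mp hmq (IsLocalization.map_units C ⟨m, hm⟩)
    · intro r hr
      by_contra h
      exact hr ((IsLocalRing.mem_maximalIdeal _).mpr h)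
  let e0 : Localization.AtPrime Q ≃ₐ[T] C := IsLocalization.algEquiv Q.primeCompl _ _
  haveI : Algebra.IsUnramifiedAt A Q :=
    Algebra.FormallyUnramified.of_equiv (e0.restrictScalars A).symm
  obtain ⟨f, hfQ, PE, φ, hφ⟩ :=
    Algebra.IsUnramifiedAt.exists_hasStandardEtaleSurjectionOn (R := A) Q
  have hfu : IsUnit (algebraMap T C f) := (IsLocalization.AtPrime.isUnit_to_map_iff C Q f).mpr hfQ
  let g0 : Localization.Away f →+* C := IsLocalization.Away.lift f hfu
  have hg0 : ∀ t : T, g0 (algebraMap T (Localization.Away f) t) = algebraMap T C t :=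
    fun t => IsLocalization.Away.lift_eq f hfu t
  let g : Localization.Away f →ₐ[A] C :=
    { g0 with
      commutes' := fun a => by
        show g0 (algebraMap A (Localization.Away f) a) = algebraMap A C a
        rw [IsScalarTower.algebraMap_apply A T (Localization.Away f), hg0,
          ← IsScalarTower.algebraMap_apply] }
  let ψ : PE.Ring →ₐ[A] C := g.comp φ
  have hA : IsLocalization.AtPrime A (maximalIdeal A) := by
    apply IsLocalization.self
    intro y hy
    have h : y ∉ maximalIdeal A := hy
    rw [IsLocalRing.mem_maximalIdeal, mem_nonunits_iff, not_not] at h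
    exact h
  refine formallyEtale_of_etale_quotient_localization ψ ?_ (maximalIdeal A) ?_ A ?_
  · intro c
    obtain ⟨t, s, rfl⟩ := IsLocalization.exists_mk'_eq Q.primeCompl c
    obtain ⟨et, het⟩ := hφ (algebraMap T _ t)
    obtain ⟨es, hes⟩ := hφ (algebraMap T _ s.1)
    have h1 : ψ et = algebraMap T C t := by
      show g0 (φ et) = _
      rw [het, hg0]
    have h2 : ψ es = algebraMap T C s.1 := by
      show g0 (φ es) = _
      rw [hes, hg0]
    refine ⟨et, es, ?_, ?_⟩
    · rw [h2]
      exact IsLocalization.map_units C s
    · rw [h1, h2]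
      exact IsLocalization.mk'_spec C t s
  · exact ((IsLocalRing.local_hom_TFAE (algebraMap A C)).out 0 4).mp ‹_›
  · rw [IsLocalRing.maximalIdeal_height_eq_ringKrullDim]
    exact hdim

end Groth.Agent.Lib.EtDimCritH3
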