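import Mathlib
import Groth.Agent.Lib.CotFlat_helper3
import Groth.Agent.Lib.EtDimCrit_helper3
import Groth.Agent.Lib.NormalLift_helper4
import Groth.Agent.Lib.Regular_helper5
import Groth.Agent.Lib.DimIneq_helper8

/-!
# Local Jacobian criterion via cotangent spaces (helper3)

* `formallySmooth_of_gens`: `A` regular local, `B` local essentially of finite type over `A` with the same
  residue field, `m_B = m_A B + (g_1, …, g_n)` and `dim A + n ≤ dim B` ⇒ `B` formally smooth over `A`.
* `formallySmooth_of_cotInj`: `A`, `B` regular local, same residue field, `m_A/m_A² → m_B/m_B²` injective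
  ⇒ `B` formally smooth over `A`.
* `cotInj_of_flat`: flat local homomorphism with regular closed fibre ⇒ `m_A/m_A² → m_B/m_B²` injective.
APPEND-ONLY once landed.
-/

set_option autoImplicit false
set_option maxHeartbeats 1600000
universe u

namespace Groth.Agent.Lib.CotSmoothH3

open IsLocalRing Module Groth.Agent.Lib.CotFlatH3

section Core

variable {A B : Type u} [CommRing A] [CommRing B] [Algebra A B] [IsLocalRing A] [IsLocalRing B]
  [IsLocalHom (algebraMap A B)]

/-- elementwise injectivity of the cotangent map `m_A/m_A² → m_B/m_B²`. -/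
def CotInj (A B : Type u) [CommRing A] [CommRing B] [Algebra A B] [IsLocalRing A] [IsLocalRing B] :
    Prop :=
  ∀ a ∈ maximalIdeal A, algebraMap A B a ∈ maximalIdeal B ^ 2 → a ∈ maximalIdeal A ^ 2

/-- **Local Jacobian criterion.** -/
theorem formallySmooth_of_gens [IsRegularRing A] [Algebra.EssFiniteType A B]
    (hres : ∀ b : B, ∃ a : A, b - algebraMap A B a ∈ maximalIdeal B)
    (n : ℕ) (g : Fin n → B) (hg : ∀ i, g i ∈ maximalIdeal B)
    (hgen : (maximalIdeal A).map (algebraMap A B) ⊔ Ideal.span (Set.range g) = maximalIdeal B)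
    (hdim : ringKrullDim A + ((n : ℕ∞) : WithBot ℕ∞) ≤ ringKrullDim B) :
    Algebra.FormallySmooth A B := by
  classical
  let P := MvPolynomial (Fin n) A
  let φ : P →ₐ[A] B := MvPolynomial.aeval g
  letI algPB : Algebra P B := φ.toRingHom.toAlgebra
  haveI : IsScalarTower A P B := IsScalarTower.of_algebraMap_eq' φ.comp_algebraMap.symm
  have hX : ∀ i : Fin n, algebraMap P B (MvPolynomial.X i) = g i := fun i =>
    MvPolynomial.aeval_X g i
  let p : Ideal P := (maximalIdeal B).comap (algebraMap P B)
  haveI hpprime : p.IsPrime := Ideal.comap_isPrime _ _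
  have hunits : ∀ s : p.primeCompl, IsUnit (algebraMap P B s) := by
    intro s
    by_contra h
    exact s.2 ((mem_maximalIdeal _).mpr h)
  let ψ : Localization.AtPrime p →+* B := IsLocalization.lift hunits
  letI algLB : Algebra (Localization.AtPrime p) B := ψ.toAlgebra
  have hψ : ∀ t : P, algebraMap (Localization.AtPrime p) B (algebraMap P _ t) = algebraMap P B t :=
    fun t => IsLocalization.lift_eq hunits t
  haveI : IsScalarTower P (Localization.AtPrime p) B :=
    IsScalarTower.of_algebraMap_eq fun t => (hψ t).symm
  haveI : IsScalarTower A (Localization.AtPrime p) B :=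
    IsScalarTower.of_algebraMap_eq fun a => by
      rw [IsScalarTower.algebraMap_apply A P (Localization.AtPrime p), hψ,
        ← IsScalarTower.algebraMap_apply]
  haveI hloc : IsLocalHom (algebraMap (Localization.AtPrime p) B) := by
    refine ⟨fun u hu => ?_⟩
    obtain ⟨a, s, rfl⟩ := IsLocalization.exists_mk'_eq p.primeCompl u
    have h1 : algebraMap (Localization.AtPrime p) B (IsLocalization.mk' _ a s) *
        algebraMap P B s = algebraMap P B a := by
      rw [← hψ (s : P), ← map_mul, IsLocalization.mk'_spec, hψ]
    have h2 : IsUnit (algebraMap P B a) := h1 ▸ hu.mul (hunits s)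
    have ha : a ∈ p.primeCompl := fun h => (mem_maximalIdeal _).mp h h2
    exact (IsLocalization.AtPrime.isUnit_mk'_iff (Localization.AtPrime p) p a s).mpr ha
  haveI : Algebra.EssFiniteType (Localization.AtPrime p) B :=
    Algebra.EssFiniteType.of_comp A (Localization.AtPrime p) B
  -- the maximal ideal is generated
  have key : ∀ t : Localization.AtPrime p, algebraMap _ B t ∈ maximalIdeal B →
      algebraMap _ B t ∈ (maximalIdeal (Localization.AtPrime p)).map (algebraMap _ B) :=
    fun t ht => Ideal.mem_map_of_mem _ ((mem_maximalIdeal t).mpr fun hu => ht (hu.map _))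
  have hmap : (maximalIdeal (Localization.AtPrime p)).map (algebraMap _ B) = maximalIdeal B := by
    apply le_antisymm
    · exact ((IsLocalRing.local_hom_TFAE (algebraMap (Localization.AtPrime p) B)).out 0 2
        rfl rfl).1 hloc
    · rw [← hgen]
      refine sup_le ?_ ?_
      · rw [Ideal.map_le_iff_le_comap]
        intro a ha
        rw [Ideal.mem_comap, IsScalarTower.algebraMap_apply A (Localization.AtPrime p) B]
        apply key
        rw [← IsScalarTower.algebraMap_apply]
        exact ((IsLocalRing.local_hom_TFAE (algebraMap A B)).out 0 2 rfl rfl).1 ‹_›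
          (Ideal.mem_map_of_mem _ ha)
      · rw [Ideal.span_le]
        rintro _ ⟨i, rfl⟩
        rw [SetLike.mem_coe, ← hX i, ← hψ]
        apply key
        rw [hψ, hX]
        exact hg i
  -- residue fields
  have hsurj : Function.Surjective
      (algebraMap (ResidueField (Localization.AtPrime p)) (ResidueField B)) := by
    intro y
    obtain ⟨b, rfl⟩ := residue_surjective y
    obtain ⟨a, ha⟩ := hres b
    refine ⟨residue _ (algebraMap A (Localization.AtPrime p) a), ?_⟩
    rw [ResidueField.algebraMap_residue, ← sub_eq_zero, ← map_sub,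
      residue_eq_zero_iff, ← IsScalarTower.algebraMap_apply]
    have := (maximalIdeal B).neg_mem ha
    rwa [neg_sub] at this
  haveI hsep : Algebra.IsSeparable (ResidueField (Localization.AtPrime p)) (ResidueField B) :=
    ⟨fun y => by
      obtain ⟨t, rfl⟩ := hsurj y
      exact isSeparable_algebraMap t⟩
  haveI : Algebra.FormallyUnramified (Localization.AtPrime p) B :=
    Algebra.FormallyUnramified.iff_map_maximalIdeal_eq.mpr ⟨hsep, hmap⟩
  -- dimensions
  haveI : p.LiesOver (maximalIdeal A) := ⟨by
    show maximalIdeal A = (p.comap (algebraMap A P))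
    rw [Ideal.comap_comap, ← IsScalarTower.algebraMap_eq]
    exact (((IsLocalRing.local_hom_TFAE (algebraMap A B)).out 0 4 rfl rfl).1 ‹_›).symm⟩
  obtain ⟨r', -, hsum⟩ := Groth.Agent.DimIneqH8.height_add_trdeg_mvPolynomial A n (maximalIdeal A) p
  have hdimP : ringKrullDim (Localization.AtPrime p) ≤ ringKrullDim B := by
    rw [IsLocalization.AtPrime.ringKrullDim_eq_height p]
    refine le_trans ?_ hdim
    rw [← IsLocalRing.maximalIdeal_height_eq_ringKrullDim, ← WithBot.coe_add]
    have : p.height ≤ (maximalIdeal A).height + n := by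
      rw [← hsum]
      exact le_self_add
    exact_mod_cast this
  haveI : IsRegularLocalRing (Localization.AtPrime p) := inferInstance
  haveI : IsDomain (Localization.AtPrime p) := Groth.Agent.RegularLib.isDomain _
  haveI : IsIntegrallyClosed (Localization.AtPrime p) :=
    Groth.Agent.Lib.NormalLiftH4.isIntegrallyClosed_of_isRegularLocalRing _
  haveI : Algebra.FormallyEtale (Localization.AtPrime p) B :=
    Groth.Agent.Lib.EtDimCritH3.formallyEtale_of_formallyUnramified_of_dim_le hdimP
  haveI : Algebra.FormallySmooth A (Localization.AtPrime p) :=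
    Algebra.FormallySmooth.comp A P (Localization.AtPrime p)
  exact Algebra.FormallySmooth.comp A (Localization.AtPrime p) B

end Core

section Cot

variable {A B : Type u} [CommRing A] [CommRing B] [Algebra A B] [IsLocalRing A] [IsLocalRing B]
  [IsLocalHom (algebraMap A B)]

omit [IsLocalHom (algebraMap A B)] in
theorem map_span_range {ι : Type*} (x : ι → A) :
    (Ideal.span (Set.range x)).map (algebraMap A B) =
      Ideal.span (Set.range fun i => algebraMap A B (x i)) := by
  rw [Ideal.map_span, ← Set.range_comp]
  rfl

/-- injectivity of the cotangent map and equality of residue fields: independent elements of `m_A` stay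
independent in `m_B`. -/
theorem indep_map_of_cotInj (hres : ∀ b : B, ∃ a : A, b - algebraMap A B a ∈ maximalIdeal B)
    (hinj : CotInj A B) {ι : Type*} [Fintype ι] (x : ι → A) (hxm : ∀ i, x i ∈ maximalIdeal A)
    (hxind : Indep x) : Indep (fun i => algebraMap A B (x i)) := by
  have hle : (maximalIdeal A).map (algebraMap A B) ≤ maximalIdeal B :=
    ((IsLocalRing.local_hom_TFAE (algebraMap A B)).out 0 2 rfl rfl).1 ‹_›
  have hxB : ∀ i, algebraMap A B (x i) ∈ maximalIdeal B := fun i =>
    hle (Ideal.mem_map_of_mem _ (hxm i))
  intro c hc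
  choose a ha using fun i => hres (c i)
  have h1 : ∑ i, (c i - algebraMap A B (a i)) * algebraMap A B (x i) ∈ maximalIdeal B ^ 2 := by
    refine Ideal.sum_mem _ fun i _ => ?_
    rw [pow_two]
    exact Ideal.mul_mem_mul (ha i) (hxB i)
  have h2 : algebraMap A B (∑ i, a i * x i) ∈ maximalIdeal B ^ 2 := by
    have : algebraMap A B (∑ i, a i * x i) =
        ∑ i, c i * algebraMap A B (x i) -
          ∑ i, (c i - algebraMap A B (a i)) * algebraMap A B (x i) := by
      rw [map_sum, ← Finset.sum_sub_distrib]
      refine Finset.sum_congr rfl fun i _ => ?_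
      rw [map_mul]
      ring
    rw [this]
    exact Ideal.sub_mem _ hc h1
  have h3 : ∑ i, a i * x i ∈ maximalIdeal A :=
    Ideal.sum_mem _ fun i _ => Ideal.mul_mem_left _ _ (hxm i)
  have h4 := hinj _ h3 h2
  have h5 := hxind a h4
  intro i
  have h6 : algebraMap A B (a i) ∈ maximalIdeal B := hle (Ideal.mem_map_of_mem _ (h5 i))
  have : c i = (c i - algebraMap A B (a i)) + algebraMap A B (a i) := by ring
  rw [this]
  exact Ideal.add_mem _ (ha i) h6

/-- **Cotangent criterion for smoothness** (local form): `A → B` a local homomorphism of regular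
local rings, essentially of finite type, inducing an isomorphism of residue fields and an injection
on cotangent spaces, is formally smooth. -/
theorem formallySmooth_of_cotInj [IsRegularRing A] [IsRegularLocalRing B]
    [Algebra.EssFiniteType A B]
    (hres : ∀ b : B, ∃ a : A, b - algebraMap A B a ∈ maximalIdeal B)
    (hinj : CotInj A B) : Algebra.FormallySmooth A B := by
  classical
  haveI : IsRegularLocalRing A := IsRegularLocalRing.of_isRegularRing_of_isLocalRing A
  have hle : (maximalIdeal A).map (algebraMap A B) ≤ maximalIdeal B :=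
    ((IsLocalRing.local_hom_TFAE (algebraMap A B)).out 0 2 rfl rfl).1 ‹_›
  set d := finrank (ResidueField A) (CotangentSpace A) with hd
  obtain ⟨x, hxm, hxspan, hxind⟩ := exists_good A
  let xB : Fin d → B := fun i => algebraMap A B (x i)
  have hxB : ∀ i, xB i ∈ maximalIdeal B := fun i => hle (Ideal.mem_map_of_mem _ (hxm i))
  have hxBind : Indep xB := indep_map_of_cotInj hres hinj x hxm hxind
  have hli : LinearIndependent (ResidueField B) (cot xB hxB) := (indep_iff xB hxB).1 hxBind
  let V' : Submodule (ResidueField B) (CotangentSpace B) :=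
    Submodule.span (ResidueField B) (Set.range (cot xB hxB))
  have hV' : finrank (ResidueField B) V' = d := by
    rw [finrank_span_eq_card hli, Fintype.card_fin]
  set n := finrank (ResidueField B) (CotangentSpace B ⧸ V') with hn
  have hsum : n + d = finrank (ResidueField B) (CotangentSpace B) := by
    rw [hn, ← hV']
    exact Submodule.finrank_quotient_add_finrank V'
  let bq : Basis (Fin n) (ResidueField B) (CotangentSpace B ⧸ V') :=
    Module.finBasis (ResidueField B) (CotangentSpace B ⧸ V')
  choose w hw using fun i => Submodule.mkQ_surjective V' (bq i)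
  choose g' hg' using fun i => (maximalIdeal B).toCotangent_surjective (w i)
  let g : Fin n → B := fun i => (g' i : B)
  have hg : ∀ i, g i ∈ maximalIdeal B := fun i => (g' i).2
  have hcotg : cot g hg = w := by
    funext i
    exact hg' i
  -- the combined family spans
  let z : Fin d ⊕ Fin n → B := Sum.elim xB g
  have hzm : ∀ s, z s ∈ maximalIdeal B := by
    rintro (i | j)
    · exact hxB i
    · exact hg j
  have hcotz : Set.range (cot z hzm) = Set.range (cot xB hxB) ∪ Set.range (cot g hg) := by
    ext v
    constructor
    · rintro ⟨(i | j), rfl⟩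
      · exact Or.inl ⟨i, rfl⟩
      · exact Or.inr ⟨j, rfl⟩
    · rintro (⟨i, rfl⟩ | ⟨j, rfl⟩)
      · exact ⟨Sum.inl i, rfl⟩
      · exact ⟨Sum.inr j, rfl⟩
  have hspanz : Submodule.span (ResidueField B) (Set.range (cot z hzm)) = ⊤ := by
    rw [hcotz, Submodule.span_union, hcotg]
    show V' ⊔ Submodule.span (ResidueField B) (Set.range w) = ⊤
    rw [← Submodule.map_mkQ_eq_top, Submodule.map_span, ← Set.range_comp]
    have : (⇑V'.mkQ ∘ w) = ⇑bq := by
      funext i
      exact hw i
    rw [this]
    exact bq.span_eq
  have hzspan : Ideal.span (Set.range z) = maximalIdeal B := (span_iff z hzm).2 hspanz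
  have hgen : (maximalIdeal A).map (algebraMap A B) ⊔ Ideal.span (Set.range g) =
      maximalIdeal B := by
    rw [← hzspan, ← hxspan, map_span_range, Set.Sum.elim_range, Ideal.span_union]
  -- dimensions
  have hdimA : ringKrullDim A = ((d : ℕ∞) : WithBot ℕ∞) := by
    rw [← Groth.Agent.RegularLib.spanFinrank_eq_dim A,
      spanFinrank_maximalIdeal_eq_finrank_cotangentSpace]
    rfl
  have hdimB : ringKrullDim B = (((n + d : ℕ) : ℕ∞) : WithBot ℕ∞) := by
    rw [← Groth.Agent.RegularLib.spanFinrank_eq_dim B,
      spanFinrank_maximalIdeal_eq_finrank_cotangentSpace, hsum]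
    rfl
  refine formallySmooth_of_gens hres n g hg hgen ?_
  rw [hdimA, hdimB, ← WithBot.coe_add]
  have : (d : ℕ∞) + (n : ℕ∞) ≤ ((n + d : ℕ) : ℕ∞) := by
    rw [add_comm]
    exact_mod_cast le_rfl
  exact_mod_cast this

end Cot

section Flat

variable (A B : Type u) [CommRing A] [CommRing B] [IsLocalRing A] [IsNoetherianRing A]
  [IsLocalRing B] [IsNoetherianRing B] [Algebra A B] [IsLocalHom (algebraMap A B)]
  [Module.Flat A B]

/-- a flat local homomorphism with regular closed fibre is injective on cotangent spaces. -/
theorem cotInj_of_flat [IsRegularLocalRing (B ⧸ Ideal.map (algebraMap A B) (maximalIdeal A))] :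
    CotInj A B := by
  classical
  have hmain := Groth.Agent.Lib.CotFlatH3.main A B
  set I := Ideal.map (algebraMap A B) (maximalIdeal A) with hI
  set C := B ⧸ I with hC
  set π : B →+* C := Ideal.Quotient.mk I with hπ
  have hπsurj : Function.Surjective π := Ideal.Quotient.mk_surjective
  haveI : IsLocalHom π := IsLocalHom.of_surjective π hπsurj
  have hcomap : (maximalIdeal C).comap π = maximalIdeal B :=
    ((IsLocalRing.local_hom_TFAE π).out 0 4 rfl rfl).mp ‹_›
  have hIle : I ≤ maximalIdeal B :=
    ((IsLocalRing.local_hom_TFAE (algebraMap A B)).out 0 2 rfl rfl).mp ‹_›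
  set d := finrank (ResidueField A) (CotangentSpace A) with hd
  set e := finrank (ResidueField C) (CotangentSpace C) with he
  obtain ⟨x, hxm, hxspan, hxind⟩ := exists_good A
  obtain ⟨y', hy'm, hy'span, -⟩ := exists_good C
  choose y hy using fun j => hπsurj (y' j)
  let xB : Fin d → B := fun i => algebraMap A B (x i)
  let z : Fin d ⊕ Fin e → B := Sum.elim xB y
  have hYmap : (Ideal.span (Set.range y)).map π = maximalIdeal C := by
    have h1 : (Ideal.span (Set.range y)).map π = Ideal.span (Set.range y') := by
      rw [Ideal.map_span, ← Set.range_comp]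
      congr 2
      funext j
      exact hy j
    exact h1.trans hy'span
  have hker : Ideal.comap π ⊥ = I := by
    rw [← RingHom.ker_eq_comap_bot]
    exact Ideal.mk_ker
  have hmB : maximalIdeal B = I ⊔ Ideal.span (Set.range y) := by
    have h1 : Ideal.comap π ((Ideal.span (Set.range y)).map π) =
        Ideal.span (Set.range y) ⊔ I := by
      rw [Ideal.comap_map_of_surjective π hπsurj, hker]
    have h2 : Ideal.comap π ((Ideal.span (Set.range y)).map π) = maximalIdeal B :=
      (congrArg (Ideal.comap π) hYmap).trans hcomap
    exact h2.symm.trans (h1.trans (sup_comm _ _))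
  have hIspan : Ideal.span (Set.range xB) = I :=
    ((congrArg (Ideal.map (algebraMap A B)) hxspan).symm.trans (map_span_range x)).symm
  have hzspan : Ideal.span (Set.range z) = maximalIdeal B := by
    have h1 : Ideal.span (Set.range z) =
        Ideal.span (Set.range xB) ⊔ Ideal.span (Set.range y) := by
      rw [Set.Sum.elim_range, Ideal.span_union]
    exact h1.trans ((congrArg (· ⊔ Ideal.span (Set.range y)) hIspan).trans hmB.symm)
  have hzm : ∀ s, z s ∈ maximalIdeal B := by
    intro s
    rw [← hzspan]
    exact Ideal.subset_span ⟨s, rfl⟩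
  have hcard : Fintype.card (Fin d ⊕ Fin e) = finrank (ResidueField B) (CotangentSpace B) := by
    rw [Fintype.card_sum, Fintype.card_fin, Fintype.card_fin, hmain, add_comm]
  have hzind : Indep z := indep_of_span_of_card z hzm hzspan hcard
  intro a ha hab
  rw [← hxspan] at ha
  obtain ⟨c, rfl⟩ := Ideal.mem_span_range_iff_exists_fun.1 ha
  have h1 : ∑ s, (Sum.elim (fun i => algebraMap A B (c i)) (fun _ => (0 : B)) s) * z s ∈
      maximalIdeal B ^ 2 := by
    rw [Fintype.sum_sum_type]
    simp only [Sum.elim_inl, Sum.elim_inr, zero_mul, Finset.sum_const_zero, add_zero, z, xB]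
    have : ∑ i, algebraMap A B (c i) * algebraMap A B (x i) =
        algebraMap A B (∑ i, c i * x i) := by
      rw [map_sum]
      exact Finset.sum_congr rfl fun i _ => (map_mul _ _ _).symm
    rw [this]
    exact hab
  have h2 := hzind _ h1
  have hcm : ∀ i, c i ∈ maximalIdeal A := by
    intro i
    have h3 : algebraMap A B (c i) ∈ maximalIdeal B := h2 (Sum.inl i)
    rw [← ((IsLocalRing.local_hom_TFAE (algebraMap A B)).out 0 4 rfl rfl).mp ‹_›]
    exact h3
  refine Ideal.sum_mem _ fun i _ => ?_
  rw [pow_two]
  exact Ideal.mul_mem_mul (hcm i) (hxm i)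

end Flat

end Groth.Agent.Lib.CotSmoothH3
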