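import Mathlib
import Groth.Agent.Lib.CotSmooth1_helper3
import Groth.Agent.Lib.NagataCrit_helper3
import Groth.Agent.Lib.SmoothRegField_helper3
import Groth.Agent.Lib.FSFlat3_helper3

/-!
# Cotangent injectivity, regularity of the base and formal smoothness (helper3)

* `isRegularLocalRing_of_cotInj`: `A → B` local, same residue field, `B` regular and
  `m_A/m_A² → m_B/m_B²` injective ⇒ `A` regular.
* `formallySmooth_of_cotInj'`: hence `B` is formally smooth over `A` (if essentially of finite type).
* `cotInj_of_formallySmooth`: conversely a formally smooth local homomorphism of Noetherian local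
  rings is injective on cotangent spaces.
APPEND-ONLY once landed.
-/

set_option autoImplicit false
set_option maxHeartbeats 1600000
universe u

namespace Groth.Agent.Lib.CotDomH3

open IsLocalRing Module Groth.Agent.Lib.CotFlatH3 Groth.Agent.Lib.CotSmoothH3

section Core

variable {A B : Type u} [CommRing A] [CommRing B] [Algebra A B] [IsLocalRing A] [IsLocalRing B]
  [IsLocalHom (algebraMap A B)]

/-- injectivity on cotangent spaces with equal residue fields and regular target forces the source
to be regular. -/
theorem isRegularLocalRing_of_cotInj [IsNoetherianRing A] [IsRegularLocalRing B]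
    (hres : ∀ b : B, ∃ a : A, b - algebraMap A B a ∈ maximalIdeal B)
    (hinj : CotInj A B) : IsRegularLocalRing A := by
  classical
  have hle : (maximalIdeal A).map (algebraMap A B) ≤ maximalIdeal B :=
    ((IsLocalRing.local_hom_TFAE (algebraMap A B)).out 0 2 rfl rfl).1 ‹_›
  set d := finrank (ResidueField A) (CotangentSpace A) with hd
  obtain ⟨x, hxm, hxspan, hxind⟩ := exists_good A
  let xB : Fin d → B := fun i => algebraMap A B (x i)
  have hxB : ∀ i, xB i ∈ maximalIdeal B := fun i => hle (Ideal.mem_map_of_mem _ (hxm i))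
  have hxBind : Indep xB := indep_map_of_cotInj hres hinj x hxm hxind
  have hli : LinearIndependent (ResidueField B) (cot xB hxB) := (indep_iff xB hxB).1 hxBind
  let V' : Submodule (ResidueField B) (CotangentSpace B) :=
    Submodule.span (ResidueField B) (Set.range (cot xB hxB))
  have hV' : finrank (ResidueField B) V' = d := by
    rw [finrank_span_eq_card hli, Fintype.card_fin]
  set n := finrank (ResidueField B) (CotangentSpace B ⧸ V') with hn
  have hsum : n + d = finrank (ResidueField B) (CotangentSpace B) := by
    rw [hn, ← hV']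
    exact Submodule.finrank_quotient_add_finrank V'
  let bq : Basis (Fin n) (ResidueField B) (CotangentSpace B ⧸ V') :=
    Module.finBasis (ResidueField B) (CotangentSpace B ⧸ V')
  choose w hw using fun i => Submodule.mkQ_surjective V' (bq i)
  choose g' hg' using fun i => (maximalIdeal B).toCotangent_surjective (w i)
  let g : Fin n → B := fun i => (g' i : B)
  have hg : ∀ i, g i ∈ maximalIdeal B := fun i => (g' i).2
  have hcotg : cot g hg = w := by
    funext i
    exact hg' i
  let z : Fin d ⊕ Fin n → B := Sum.elim xB g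
  have hzm : ∀ s, z s ∈ maximalIdeal B := by
    rintro (i | j)
    · exact hxB i
    · exact hg j
  have hcotz : Set.range (cot z hzm) = Set.range (cot xB hxB) ∪ Set.range (cot g hg) := by
    ext v
    constructor
    · rintro ⟨(i | j), rfl⟩
      · exact Or.inl ⟨i, rfl⟩
      · exact Or.inr ⟨j, rfl⟩
    · rintro (⟨i, rfl⟩ | ⟨j, rfl⟩)
      · exact ⟨Sum.inl i, rfl⟩
      · exact ⟨Sum.inr j, rfl⟩
  have hspanz : Submodule.span (ResidueField B) (Set.range (cot z hzm)) = ⊤ := by
    rw [hcotz, Submodule.span_union, hcotg]
    show V' ⊔ Submodule.span (ResidueField B) (Set.range w) = ⊤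
    rw [← Submodule.map_mkQ_eq_top, Submodule.map_span, ← Set.range_comp]
    have : (⇑V'.mkQ ∘ w) = ⇑bq := by
      funext i
      exact hw i
    rw [this]
    exact bq.span_eq
  have hzspan : Ideal.span (Set.range z) = maximalIdeal B := (span_iff z hzm).2 hspanz
  have hgen : (maximalIdeal A).map (algebraMap A B) ⊔ Ideal.span (Set.range g) =
      maximalIdeal B := by
    rw [← hzspan, ← hxspan, map_span_range, Set.Sum.elim_range, Ideal.span_union]
  -- dimension count
  have hdimB : (maximalIdeal B).height = ((n + d : ℕ) : ℕ∞) := by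
    have h1 : ringKrullDim B = (((n + d : ℕ) : ℕ∞) : WithBot ℕ∞) := by
      rw [← Groth.Agent.RegularLib.spanFinrank_eq_dim B,
        spanFinrank_maximalIdeal_eq_finrank_cotangentSpace, hsum]
      rfl
    rw [← IsLocalRing.maximalIdeal_height_eq_ringKrullDim] at h1
    exact_mod_cast h1
  have h1 := Ideal.height_le_height_add_of_liesOver (maximalIdeal A) (maximalIdeal B)
  set I := (maximalIdeal A).map (algebraMap A B) with hI
  have hP' : (maximalIdeal B).map (Ideal.Quotient.mk I) =
      Ideal.span (Set.range ((Ideal.Quotient.mk I) ∘ g)) := by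
    rw [← hgen, Ideal.map_sup, Ideal.map_quotient_self, bot_sup_eq, Ideal.map_span,
      ← Set.range_comp]
  have hne : (maximalIdeal B).map (Ideal.Quotient.mk I) ≠ ⊤ := by
    intro htop
    have h2 : (1 : B ⧸ I) ∈ (maximalIdeal B).map (Ideal.Quotient.mk I) := by
      rw [htop]; trivial
    rw [← map_one (Ideal.Quotient.mk I),
      Ideal.mem_map_iff_of_surjective _ Ideal.Quotient.mk_surjective] at h2
    obtain ⟨y, hy, hy1⟩ := h2
    have h3 : y - 1 ∈ I := by
      rw [← Ideal.Quotient.eq_zero_iff_mem, map_sub, hy1, sub_self]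
    have h4 : (1 : B) ∈ maximalIdeal B := by
      have : (1 : B) = y - (y - 1) := by ring
      rw [this]
      exact Ideal.sub_mem _ hy (hle h3)
    exact (Ideal.ne_top_iff_one _).1 (IsLocalRing.maximalIdeal.isMaximal B).ne_top h4
  have h2 : ((maximalIdeal B).map (Ideal.Quotient.mk I)).height ≤ (n : ℕ∞) := by
    refine (Ideal.height_le_spanFinrank _ hne).trans ?_
    rw [hP']
    have h3 := Submodule.spanFinrank_span_le_ncard_of_finite
      (R := B ⧸ I) (Set.finite_range ((Ideal.Quotient.mk I) ∘ g))
    have h4 : (Set.range ((Ideal.Quotient.mk I) ∘ g)).ncard ≤ n := by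
      have := Set.ncard_image_le (f := (Ideal.Quotient.mk I) ∘ g) (Set.finite_univ)
      rw [Set.image_univ] at this
      refine this.trans ?_
      rw [Set.ncard_univ, Nat.card_eq_fintype_card, Fintype.card_fin]
    exact_mod_cast h3.trans h4
  have h5 : ((n + d : ℕ) : ℕ∞) ≤ (maximalIdeal A).height + (n : ℕ∞) := by
    rw [← hdimB]
    exact h1.trans (by gcongr)
  have h6 : (d : ℕ∞) ≤ (maximalIdeal A).height := by
    have h7 : ((n + d : ℕ) : ℕ∞) = (d : ℕ∞) + (n : ℕ∞) := by push_cast; ring
    rw [h7] at h5
    exact (ENat.add_le_add_iff_right (ENat.coe_ne_top n)).1 h5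
  apply IsRegularLocalRing.of_spanFinrank_maximalIdeal_le
  rw [spanFinrank_maximalIdeal_eq_finrank_cotangentSpace,
    ← IsLocalRing.maximalIdeal_height_eq_ringKrullDim]
  exact_mod_cast h6

/-- Cotangent criterion, with regularity of the base deduced. -/
theorem formallySmooth_of_cotInj' [IsNoetherianRing A] [IsRegularLocalRing B]
    [Algebra.EssFiniteType A B]
    (hres : ∀ b : B, ∃ a : A, b - algebraMap A B a ∈ maximalIdeal B)
    (hinj : CotInj A B) : Algebra.FormallySmooth A B := by
  haveI := isRegularLocalRing_of_cotInj hres hinj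
  haveI : IsRegularRing A := Groth.Agent.Lib.NagataCritH3.isRegularRing_of_isRegularLocalRing A
  exact formallySmooth_of_cotInj hres hinj

end Core

section FS

variable (A B : Type u) [CommRing A] [CommRing B] [IsLocalRing A] [IsNoetherianRing A]
  [IsLocalRing B] [IsNoetherianRing B] [Algebra A B] [IsLocalHom (algebraMap A B)]

/-- a formally smooth local homomorphism of Noetherian local rings is injective on cotangent
spaces. -/
theorem cotInj_of_formallySmooth [Algebra.FormallySmooth A B] : CotInj A B := by
  haveI : Module.Flat A B := Groth.Agent.Lib.FSFlatH3.flat_of_isAdicFormallySmooth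
    (Groth.Agent.Lib.SmoothRegH3.adic_of_formallySmooth (maximalIdeal B))
  have hIle : Ideal.map (algebraMap A B) (maximalIdeal A) ≤ maximalIdeal B :=
    ((IsLocalRing.local_hom_TFAE (algebraMap A B)).out 0 2 rfl rfl).mp ‹_›
  haveI : Nontrivial (B ⧸ Ideal.map (algebraMap A B) (maximalIdeal A)) :=
    Ideal.Quotient.nontrivial_iff.2 (fun h => (IsLocalRing.maximalIdeal.isMaximal B).ne_top
      (top_le_iff.1 (h ▸ hIle)))
  haveI : IsLocalRing (B ⧸ Ideal.map (algebraMap A B) (maximalIdeal A)) :=
    IsLocalRing.of_surjective' (Ideal.Quotient.mk _) Ideal.Quotient.mk_surjective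
  letI : Field (A ⧸ maximalIdeal A) := Ideal.Quotient.field _
  haveI : Algebra.FormallySmooth (A ⧸ maximalIdeal A)
      (B ⧸ Ideal.map (algebraMap A B) (maximalIdeal A)) :=
    Algebra.FormallySmooth.of_equiv
      (Algebra.TensorProduct.quotIdealMapEquivQuotTensor B (maximalIdeal A)).symm
  haveI : IsRegularLocalRing (B ⧸ Ideal.map (algebraMap A B) (maximalIdeal A)) :=
    Groth.Agent.Lib.SmoothRegFieldH3.regular_of_formallySmooth_field (k := A ⧸ maximalIdeal A)
  exact cotInj_of_flat A B

end FS

end Groth.Agent.Lib.CotDomH3
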