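import Mathlib
import Groth.Prelude
import Groth.Agent.Lib.EtDimCrit_helper3
import Groth.Agent.Lib.LocDim_helper8
import Groth.Agent.Lib.DimFT3_helper8
import Groth.Agent.Lib.DimIneq_helper8

/-!
# Jacobian criterion via dimensions (helper3)

For `S` of finite type over a field `k` and a prime `q`: `S` is smooth over `k` at `q` iff
`dim_{κ(q)} Ω_{S/k} ⊗ κ(q) ≤ dim_q Spec S`.
APPEND-ONLY once landed.
-/

set_option autoImplicit false
set_option maxHeartbeats 800000
universe u

namespace Groth.Agent.Lib.JacDimH3

open TensorProduct KaehlerDifferential IsLocalRing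

section Alg

variable {P S : Type u} [CommRing P] [CommRing S] [Algebra P S]

/-- If the residue field extension at `q` over `p` is algebraic, `S ⧸ q` is algebraic over `P ⧸ p`. -/
theorem isAlgebraic_quotient (p : Ideal P) [p.IsPrime] (q : Ideal S) [q.IsPrime] [q.LiesOver p]
    [Algebra (Localization.AtPrime p) (Localization.AtPrime q)]
    [Localization.AtPrime.IsLiesOverAlgebra p q]
    [Algebra.IsAlgebraic p.ResidueField q.ResidueField] :
    Algebra.IsAlgebraic (P ⧸ p) (S ⧸ q) := by
  letI : Algebra (P ⧸ p) q.ResidueField :=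
    ((algebraMap p.ResidueField q.ResidueField).comp (algebraMap (P ⧸ p) p.ResidueField)).toAlgebra
  haveI : IsScalarTower (P ⧸ p) p.ResidueField q.ResidueField := IsScalarTower.of_algebraMap_eq' rfl
  have hcomm : ∀ x : P ⧸ p, algebraMap (S ⧸ q) q.ResidueField (algebraMap (P ⧸ p) (S ⧸ q) x) =
      algebraMap (P ⧸ p) q.ResidueField x := by
    intro x
    obtain ⟨x, rfl⟩ := Ideal.Quotient.mk_surjective x
    show algebraMap (S ⧸ q) q.ResidueField (Ideal.Quotient.mk q (algebraMap P S x)) =
      algebraMap p.ResidueField q.ResidueField (algebraMap (P ⧸ p) p.ResidueField (Ideal.Quotient.mk p x))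
    rw [Ideal.algebraMap_quotient_residueField_mk, Ideal.algebraMap_quotient_residueField_mk,
      ← IsScalarTower.algebraMap_apply P S q.ResidueField,
      ← IsScalarTower.algebraMap_apply P p.ResidueField q.ResidueField]
  haveI : IsScalarTower (P ⧸ p) (S ⧸ q) q.ResidueField :=
    IsScalarTower.of_algebraMap_eq fun x => (hcomm x).symm
  constructor
  intro x
  have h1 : IsAlgebraic p.ResidueField (algebraMap (S ⧸ q) q.ResidueField x) :=
    Algebra.IsAlgebraic.isAlgebraic _
  have h2 : IsAlgebraic (P ⧸ p) (algebraMap (S ⧸ q) q.ResidueField x) :=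
    (IsFractionRing.isAlgebraic_iff (P ⧸ p) p.ResidueField q.ResidueField).mpr h1
  exact (isAlgebraic_algebraMap_iff
    (Ideal.injective_algebraMap_quotient_residueField q)).mp h2

variable (k : Type u) [Field k] [Algebra k P] [Algebra k S] [IsScalarTower k P S]

/-- Unramified at `q`: the transcendence degrees of the quotients agree. -/
theorem trdeg_quotient_eq [Algebra.EssFiniteType P S] (p : Ideal P) [p.IsPrime] (q : Ideal S)
    [q.IsPrime] [q.LiesOver p] [Algebra.IsUnramifiedAt P q] :
    Algebra.trdeg k (P ⧸ p) = Algebra.trdeg k (S ⧸ q) := by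
  letI := Localization.AtPrime.algebraOfLiesOver p q
  haveI : Module.Finite p.ResidueField q.ResidueField := inferInstance
  haveI : Algebra.IsAlgebraic p.ResidueField q.ResidueField := Algebra.IsAlgebraic.of_finite _ _
  haveI := isAlgebraic_quotient p q
  haveI : Nontrivial (P ⧸ p) := Ideal.Quotient.nontrivial_iff.mpr (Ideal.IsPrime.ne_top inferInstance)
  haveI : IsDomain (S ⧸ q) := Ideal.Quotient.isDomain q
  haveI : FaithfulSMul k (P ⧸ p) :=
    (faithfulSMul_iff_algebraMap_injective k (P ⧸ p)).mpr (algebraMap k (P ⧸ p)).injective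
  exact Groth.Agent.DimIneqH8.trdeg_eq_of_algebraic_top k (P ⧸ p) (S ⧸ q)

end Alg

section Unram

variable {k P S : Type u} [CommRing k] [CommRing P] [CommRing S] [Algebra k P] [Algebra k S]
  [Algebra P S] [IsScalarTower k P S]

/-- If the differentials of the images of a set of elements of `P` span `κ(q) ⊗ Ω_{S/k}`, then `S` is
unramified over `P` at `q`. -/
theorem isUnramifiedAt_of_span [Algebra.EssFiniteType P S] (q : Ideal S) [q.IsPrime] (T : Set P)
    (h : Submodule.span q.ResidueField
      ((fun t : P => (1 : q.ResidueField) ⊗ₜ[S] D k S (algebraMap P S t)) '' T) = ⊤) :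
    Algebra.IsUnramifiedAt P q := by
  have hmem : (⟨q, inferInstance⟩ : PrimeSpectrum S) ∈ Algebra.unramifiedLocus P S := by
    rw [Algebra.unramifiedLocus_eq_compl_support, Set.mem_compl_iff,
      Module.mem_support_iff_nontrivial_residueField_tensorProduct, not_nontrivial_iff_subsingleton]
    let F : q.ResidueField ⊗[S] Ω[S⁄k] →ₗ[q.ResidueField] q.ResidueField ⊗[S] Ω[S⁄P] :=
      (KaehlerDifferential.map k P S S).baseChange q.ResidueField
    have hFsurj : Function.Surjective F := by
      show Function.Surjective ((KaehlerDifferential.map k P S S).baseChange q.ResidueField)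
      rw [LinearMap.baseChange_eq_ltensor]
      exact LinearMap.lTensor_surjective _ (KaehlerDifferential.map_surjective k P S)
    have hF0 : F = 0 := by
      have hker : (⊤ : Submodule q.ResidueField (q.ResidueField ⊗[S] Ω[S⁄k])) ≤ LinearMap.ker F := by
        rw [← h, Submodule.span_le]
        rintro _ ⟨t, -, rfl⟩
        show F ((1 : q.ResidueField) ⊗ₜ[S] D k S (algebraMap P S t)) = 0
        show (1 : q.ResidueField) ⊗ₜ[S] (KaehlerDifferential.map k P S S (D k S (algebraMap P S t))) = 0
        rw [KaehlerDifferential.map_D]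
        have : D P S (algebraMap S S (algebraMap P S t)) = 0 := by
          show D P S (algebraMap P S t) = 0
          exact (D P S).map_algebraMap t
        rw [this, tmul_zero]
      apply LinearMap.ext
      intro x
      have hx : x ∈ (⊤ : Submodule q.ResidueField (q.ResidueField ⊗[S] Ω[S⁄k])) := Submodule.mem_top
      exact LinearMap.mem_ker.mp (hker hx)
    constructor
    intro a b
    obtain ⟨a', rfl⟩ := hFsurj a
    obtain ⟨b', rfl⟩ := hFsurj b
    rw [hF0]
    rfl
  exact hmem

end Unram

section Main

variable {k S : Type u} [Field k] [CommRing S] [Algebra k S] [Algebra.FiniteType k S]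

/-- The elements `1 ⊗ d s` span `κ(q) ⊗ Ω_{S/k}`. -/
theorem span_one_tmul_D (q : Ideal S) [q.IsPrime] :
    Submodule.span q.ResidueField
      (Set.range fun s : S => (1 : q.ResidueField) ⊗ₜ[S] D k S s) = ⊤ := by
  have h := Submodule.baseChange_span (R := S) (A := q.ResidueField) (Set.range (D k S))
  rw [KaehlerDifferential.span_range_derivation, Submodule.baseChange_top] at h
  rw [h, ← Set.range_comp]
  rfl

/-- local dimension of `Spec S` at `q` as height plus transcendence degree, with existence of the degree -/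
theorem exists_localDim_eq (q : Ideal S) [q.IsPrime] :
    ∃ r : ℕ, Algebra.trdeg k (S ⧸ q) = r ∧
      FlatMor.localDim (PrimeSpectrum S) ⟨q, inferInstance⟩ = ((q.height + r : ℕ∞) : WithBot ℕ∞) := by
  haveI : Algebra.FiniteType k (S ⧸ q) :=
    Algebra.FiniteType.of_surjective (Ideal.Quotient.mkₐ k q) (Ideal.Quotient.mkₐ_surjective k q)
  obtain ⟨r, hr⟩ := Cardinal.lt_aleph0.mp (trdeg_lt_aleph0_of_finiteType (R := k) (S := S ⧸ q))
  exact ⟨r, hr, Groth.Agent.LocDimH8.localDim_primeSpectrum k S ⟨q, inferInstance⟩ r hr⟩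

/-- **Key dimension comparison**: for `P → S` of finite type `k`-algebras, unramified at `q` lying over
`p`: `dim_q Spec S = ht q + trdeg (P/p)`. -/
theorem localDim_eq_of_unramifiedAt {P : Type u} [CommRing P] [Algebra k P] [Algebra.FiniteType k P]
    [Algebra P S] [IsScalarTower k P S] (p : Ideal P) [p.IsPrime] (q : Ideal S) [q.IsPrime]
    [q.LiesOver p] [Algebra.IsUnramifiedAt P q] :
    ∃ r : ℕ, Algebra.trdeg k (P ⧸ p) = r ∧
      FlatMor.localDim (PrimeSpectrum S) ⟨q, inferInstance⟩ = ((q.height + r : ℕ∞) : WithBot ℕ∞) ∧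
      FlatMor.localDim (PrimeSpectrum P) ⟨p, inferInstance⟩ = ((p.height + r : ℕ∞) : WithBot ℕ∞) := by
  haveI : Algebra.FiniteType P S := Algebra.FiniteType.of_restrictScalars_finiteType k P S
  obtain ⟨r, hr, hloc⟩ := exists_localDim_eq (k := k) q
  obtain ⟨r', hr', hloc'⟩ := exists_localDim_eq (k := k) p
  have h := trdeg_quotient_eq k p q
  have hrr : r' = r := by
    have : ((r' : ℕ) : Cardinal) = ((r : ℕ) : Cardinal) := by rw [← hr', ← hr, h]
    exact_mod_cast this
  subst hrr
  exact ⟨r', hr', hloc, hloc'⟩

/-- **Jacobian criterion, (⇐)**: `dim Ω ⊗ κ(q) ≤ dim_q Spec S` implies smoothness at `q`. -/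
theorem isSmoothAt_of_finrank_le (q : Ideal S) [q.IsPrime]
    (hle : ((Module.finrank q.ResidueField (q.ResidueField ⊗[S] Ω[S⁄k]) : ℕ∞) : WithBot ℕ∞) ≤
      FlatMor.localDim (PrimeSpectrum S) ⟨q, inferInstance⟩) :
    Algebra.IsSmoothAt k q := by
  classical
  obtain ⟨b, hbt, hbspan, hbli⟩ := exists_linearIndependent q.ResidueField
    (Set.range fun s : S => (1 : q.ResidueField) ⊗ₜ[S] D k S s)
  rw [span_one_tmul_D] at hbspan
  haveI : Finite b := hbli.finite
  haveI : Fintype b := Fintype.ofFinite b
  let B : Module.Basis b q.ResidueField (q.ResidueField ⊗[S] Ω[S⁄k]) :=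
    Module.Basis.mk hbli (by rw [Subtype.range_coe]; exact hbspan.ge)
  have hcard : Module.finrank q.ResidueField (q.ResidueField ⊗[S] Ω[S⁄k]) = Fintype.card b :=
    Module.finrank_eq_card_basis B
  choose g hg using fun i : b => hbt i.2
  -- the polynomial ring
  let φ : MvPolynomial b k →ₐ[k] S := MvPolynomial.aeval g
  letI : Algebra (MvPolynomial b k) S := φ.toRingHom.toAlgebra
  haveI : IsScalarTower k (MvPolynomial b k) S :=
    IsScalarTower.of_algebraMap_eq' φ.comp_algebraMap.symm
  haveI : Algebra.FiniteType (MvPolynomial b k) S :=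
    Algebra.FiniteType.of_restrictScalars_finiteType k _ S
  have hX : ∀ i : b, algebraMap (MvPolynomial b k) S (MvPolynomial.X i) = g i := fun i =>
    MvPolynomial.aeval_X g i
  haveI hunr : Algebra.IsUnramifiedAt (MvPolynomial b k) q := by
    refine isUnramifiedAt_of_span (k := k) q (Set.range MvPolynomial.X) ?_
    rw [← Set.range_comp]
    have : ((fun t : MvPolynomial b k => (1 : q.ResidueField) ⊗ₜ[S] D k S (algebraMap _ S t)) ∘
        MvPolynomial.X) = fun i : b => (i : q.ResidueField ⊗[S] Ω[S⁄k]) := by
      funext i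
      show (1 : q.ResidueField) ⊗ₜ[S] D k S (algebraMap _ S (MvPolynomial.X i)) = _
      rw [hX]
      exact hg i
    rw [this, Subtype.range_coe]
    exact hbspan
  let p : Ideal (MvPolynomial b k) := q.under (MvPolynomial b k)
  haveI : p.IsPrime := inferInstance
  haveI : q.LiesOver p := ⟨rfl⟩
  -- dimensions
  obtain ⟨r, hr, hlocS, -⟩ := localDim_eq_of_unramifiedAt (k := k) p q
  have htr : Algebra.trdeg k (MvPolynomial b k) = (Fintype.card b : ℕ) := by
    rw [MvPolynomial.trdeg_of_isDomain]
    simp
  obtain ⟨r', hr', hsum⟩ := Groth.Agent.DimFT3H8.height_add_trdeg_quotient (Fintype.card b) k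
    (MvPolynomial b k) htr p
  have hrr : r' = r := by
    have : ((r' : ℕ) : Cardinal) = ((r : ℕ) : Cardinal) := by rw [← hr', ← hr]
    exact_mod_cast this
  subst hrr
  have hht : p.height ≤ q.height := by
    rw [hlocS, hcard] at hle
    have h1 : ((Fintype.card b : ℕ) : ℕ∞) ≤ q.height + r' := by exact_mod_cast hle
    rw [← hsum] at h1
    exact (ENat.add_le_add_iff_right (ENat.coe_ne_top r')).mp h1
  -- apply the criterion
  letI := Localization.AtPrime.algebraOfLiesOver p q
  haveI : IsDomain (Localization.AtPrime p) :=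
    IsLocalization.isDomain_localization p.primeCompl_le_nonZeroDivisors
  haveI : IsIntegrallyClosed (Localization.AtPrime p) :=
    isIntegrallyClosed_of_isLocalization _ p.primeCompl p.primeCompl_le_nonZeroDivisors
  haveI : Algebra.EssFiniteType (Localization.AtPrime p) (Localization.AtPrime q) :=
    Algebra.EssFiniteType.of_comp (MvPolynomial b k) _ _
  haveI : Algebra.FormallyUnramified (Localization.AtPrime p) (Localization.AtPrime q) :=
    Algebra.FormallyUnramified.of_restrictScalars (MvPolynomial b k) _ _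
  have hdim : ringKrullDim (Localization.AtPrime p) ≤ ringKrullDim (Localization.AtPrime q) := by
    rw [IsLocalization.AtPrime.ringKrullDim_eq_height p, IsLocalization.AtPrime.ringKrullDim_eq_height q]
    exact_mod_cast hht
  haveI : Algebra.FormallyEtale (Localization.AtPrime p) (Localization.AtPrime q) :=
    Groth.Agent.Lib.EtDimCritH3.formallyEtale_of_formallyUnramified_of_dim_le hdim
  haveI : Algebra.FormallySmooth (MvPolynomial b k) (Localization.AtPrime p) :=
    Algebra.FormallySmooth.of_isLocalization p.primeCompl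
  haveI : Algebra.FormallySmooth k (Localization.AtPrime p) :=
    Algebra.FormallySmooth.comp k (MvPolynomial b k) _
  exact Algebra.FormallySmooth.comp k (Localization.AtPrime p) (Localization.AtPrime q)

/-- **Jacobian criterion, (⇒)**: at a smooth point, `dim Ω ⊗ κ(q) = dim_q Spec S`. -/
theorem finrank_eq_of_isSmoothAt (q : Ideal S) [q.IsPrime] [Algebra.IsSmoothAt k q] :
    ((Module.finrank q.ResidueField (q.ResidueField ⊗[S] Ω[S⁄k]) : ℕ∞) : WithBot ℕ∞) =
      FlatMor.localDim (PrimeSpectrum S) ⟨q, inferInstance⟩ := by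
  haveI : Algebra.FinitePresentation k S :=
    Algebra.FinitePresentation.of_finiteType.mp inferInstance
  obtain ⟨f, hfq, n, alg, htower, hstd⟩ :=
    Algebra.IsSmoothAt.exists_isStandardEtale_mvPolynomial (R := k) (p := q)
  letI : Algebra (MvPolynomial (Fin n) k) (Localization.Away f) := alg
  haveI : IsScalarTower k (MvPolynomial (Fin n) k) (Localization.Away f) := htower
  haveI : Algebra.IsStandardEtale (MvPolynomial (Fin n) k) (Localization.Away f) := hstd
  haveI : Algebra.Etale (MvPolynomial (Fin n) k) (Localization.Away f) := inferInstance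
  have hdisj : Disjoint ((Submonoid.powers f : Submonoid S) : Set S) (q : Set S) :=
    (Ideal.disjoint_powers_iff_notMem_of_isPrime _).mpr hfq
  let q' : Ideal (Localization.Away f) := q.map (algebraMap S (Localization.Away f))
  haveI hq' : q'.IsPrime :=
    IsLocalization.isPrime_of_isPrime_disjoint (.powers f) _ _ ‹_› hdisj
  have hq'c : q'.comap (algebraMap S (Localization.Away f)) = q :=
    IsLocalization.comap_map_of_isPrime_disjoint (.powers f) _ ‹_› hdisj
  haveI : q'.LiesOver q := ⟨hq'c.symm⟩
  let p : Ideal (MvPolynomial (Fin n) k) := q'.under (MvPolynomial (Fin n) k)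
  haveI : p.IsPrime := inferInstance
  haveI : q'.LiesOver p := ⟨rfl⟩
  haveI : Algebra.FiniteType k (Localization.Away f) :=
    Algebra.FiniteType.trans (S := S) inferInstance inferInstance
  haveI : Algebra.IsUnramifiedAt S q' :=
    Algebra.FormallyUnramified.comp S (Localization.Away f) (Localization.AtPrime q')
  haveI : Algebra.IsUnramifiedAt (MvPolynomial (Fin n) k) q' :=
    Algebra.FormallyUnramified.comp (MvPolynomial (Fin n) k) (Localization.Away f)
      (Localization.AtPrime q')
  obtain ⟨r1, hr1, hS', hS⟩ := localDim_eq_of_unramifiedAt (k := k) q q'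
  obtain ⟨r2, hr2, hS'2, -⟩ := localDim_eq_of_unramifiedAt (k := k) p q'
  haveI : IsNoetherianRing (Localization.Away f) := Algebra.FiniteType.isNoetherianRing k _
  haveI : Nontrivial (Localization.Away f) := by
    by_contra h
    rw [not_nontrivial_iff_subsingleton] at h
    exact hq'.ne_top (Subsingleton.elim _ _)
  have hfin : q'.height ≠ ⊤ := Ideal.height_ne_top (Ideal.IsPrime.ne_top inferInstance)
  have hr12 : r1 = r2 := by
    have h : ((q'.height + r1 : ℕ∞) : WithBot ℕ∞) = ((q'.height + r2 : ℕ∞) : WithBot ℕ∞) := by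
      rw [← hS', ← hS'2]
    have h' : q'.height + (r1 : ℕ∞) = q'.height + (r2 : ℕ∞) := by exact_mod_cast h
    have := ENat.add_right_injective_of_ne_top hfin h'
    exact_mod_cast this
  subst hr12
  have h1 : q'.height = q.height :=
    IsLocalization.height_map_of_disjoint (.powers f) q hdisj
  have h2 : p.height = q'.height :=
    Groth.Agent.Lib.EtDimCritH3.height_under_of_flat_of_quasiFinite q'
  have htr : Algebra.trdeg k (MvPolynomial (Fin n) k) = (n : ℕ) := by
    rw [MvPolynomial.trdeg_of_isDomain]
    simp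
  obtain ⟨r', hr', hsum⟩ := Groth.Agent.DimFT3H8.height_add_trdeg_quotient n k
    (MvPolynomial (Fin n) k) htr p
  have hrr : r' = r1 := by
    have : ((r' : ℕ) : Cardinal) = ((r1 : ℕ) : Cardinal) := by rw [← hr', ← hr2]
    exact_mod_cast this
  subst hrr
  -- the local dimension is `n`
  rw [hS, ← h1, ← h2, hsum]
  -- the rank is `n`
  have hfu : IsUnit (algebraMap S q.ResidueField f) := by
    refine IsUnit.mk0 _ ?_
    rw [Ne, Ideal.algebraMap_residueField_eq_zero]
    exact hfq
  letI : Algebra (Localization.Away f) q.ResidueField := (IsLocalization.Away.lift f hfu).toAlgebra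
  haveI : IsScalarTower S (Localization.Away f) q.ResidueField :=
    IsScalarTower.of_algebraMap_eq fun x => (IsLocalization.Away.lift_eq f hfu x).symm
  let e1 : q.ResidueField ⊗[Localization.Away f] (Localization.Away f ⊗[S] Ω[S⁄k]) ≃ₗ[q.ResidueField]
      q.ResidueField ⊗[S] Ω[S⁄k] :=
    AlgebraTensorModule.cancelBaseChange S (Localization.Away f) q.ResidueField q.ResidueField Ω[S⁄k]
  let e2 : Localization.Away f ⊗[S] Ω[S⁄k] ≃ₗ[Localization.Away f] Ω[Localization.Away f⁄k] :=
    KaehlerDifferential.tensorKaehlerEquivOfFormallyEtale k S (Localization.Away f)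
  let e3 : Localization.Away f ⊗[MvPolynomial (Fin n) k] Ω[MvPolynomial (Fin n) k⁄k]
      ≃ₗ[Localization.Away f] Ω[Localization.Away f⁄k] :=
    KaehlerDifferential.tensorKaehlerEquivOfFormallyEtale k (MvPolynomial (Fin n) k)
      (Localization.Away f)
  haveI : Module.Free (MvPolynomial (Fin n) k) Ω[MvPolynomial (Fin n) k⁄k] :=
    Module.Free.of_basis (KaehlerDifferential.mvPolynomialBasis k (Fin n))
  have hrkP : Module.finrank (MvPolynomial (Fin n) k) Ω[MvPolynomial (Fin n) k⁄k] = n := by
    rw [Module.finrank_eq_card_basis (KaehlerDifferential.mvPolynomialBasis k (Fin n))]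
    simp
  haveI : Module.Free (Localization.Away f) (Localization.Away f ⊗[S] Ω[S⁄k]) :=
    Module.Free.of_equiv (e3.trans e2.symm)
  have hrkS' : Module.finrank (Localization.Away f) (Localization.Away f ⊗[S] Ω[S⁄k]) = n := by
    rw [← (e3.trans e2.symm).finrank_eq, Module.finrank_baseChange, hrkP]
  have hfr : Module.finrank q.ResidueField (q.ResidueField ⊗[S] Ω[S⁄k]) = n := by
    rw [← e1.finrank_eq, Module.finrank_baseChange, hrkS']
  rw [hfr]

end Main

end Groth.Agent.Lib.JacDimH3
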