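import Mathlib
import Groth.Prelude
import Groth.Agent.Lib.JacDim_helper3
import Groth.Agent.Lib.RegSmoothPt_helper3
import Groth.Agent.Lib.NormalLift_helper4
import Groth.Agent.Lib.Regular_helper5

/-!
# Jacobian criterion over a regular base (helper3)

`R` regular, `B` of finite type over `R`, `q` a prime of `B` over `p₀`: if
`ht p₀ + dim_{κ(q)} Ω_{B/R} ⊗ κ(q) ≤ ht q + trdeg_{κ(p₀)} κ(q)` then `B` is smooth over `R` at `q`.
APPEND-ONLY once landed.
-/

set_option autoImplicit false
set_option maxHeartbeats 800000
universe u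

namespace Groth.Agent.Lib.JacDimH3

open TensorProduct KaehlerDifferential IsLocalRing

section General

variable {R B : Type u} [CommRing R] [CommRing B] [Algebra R B]

/-- The elements `1 ⊗ d s` span `κ(q) ⊗ Ω_{B/R}` (any base ring). -/
theorem span_one_tmul_D' (q : Ideal B) [q.IsPrime] :
    Submodule.span q.ResidueField
      (Set.range fun s : B => (1 : q.ResidueField) ⊗ₜ[B] D R B s) = ⊤ := by
  have h := Submodule.baseChange_span (R := B) (A := q.ResidueField) (Set.range (D R B))
  rw [KaehlerDifferential.span_range_derivation, Submodule.baseChange_top] at h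
  rw [h, ← Set.range_comp]
  rfl

/-- Transcendence degrees of quotients over a third quotient, along an unramified point. -/
theorem trdeg_quotient_eq' {P : Type u} [CommRing P] [Algebra R P] [Algebra P B]
    [IsScalarTower R P B] [Algebra.EssFiniteType P B]
    (p₀ : Ideal R) [p₀.IsPrime] (p : Ideal P) [p.IsPrime] (q : Ideal B) [q.IsPrime]
    [p.LiesOver p₀] [q.LiesOver p] [q.LiesOver p₀] [Algebra.IsUnramifiedAt P q] :
    Algebra.trdeg (R ⧸ p₀) (P ⧸ p) = Algebra.trdeg (R ⧸ p₀) (B ⧸ q) := by
  letI := Localization.AtPrime.algebraOfLiesOver p q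
  haveI : Module.Finite p.ResidueField q.ResidueField := inferInstance
  haveI : Algebra.IsAlgebraic p.ResidueField q.ResidueField := Algebra.IsAlgebraic.of_finite _ _
  haveI := isAlgebraic_quotient p q
  haveI : Nontrivial (R ⧸ p₀) := Ideal.Quotient.nontrivial_iff.mpr (Ideal.IsPrime.ne_top inferInstance)
  haveI : IsDomain (B ⧸ q) := Ideal.Quotient.isDomain q
  haveI : IsScalarTower (R ⧸ p₀) (P ⧸ p) (B ⧸ q) := IsScalarTower.of_algebraMap_eq fun x => by
    obtain ⟨x, rfl⟩ := Ideal.Quotient.mk_surjective x
    show Ideal.Quotient.mk q (algebraMap R B x) =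
      Ideal.Quotient.mk q (algebraMap P B (algebraMap R P x))
    rw [← IsScalarTower.algebraMap_apply]
  exact Groth.Agent.DimIneqH8.trdeg_eq_of_algebraic_top (R ⧸ p₀) (P ⧸ p) (B ⧸ q)

end General

section Regular

variable {R B : Type u} [CommRing R] [CommRing B] [Algebra R B] [IsRegularRing R]
  [Algebra.FiniteType R B]

/-- **Jacobian criterion over a regular base.** -/
theorem isSmoothAt_of_regular_of_le (q : Ideal B) [q.IsPrime] (r : ℕ)
    (hr : Algebra.trdeg (R ⧸ q.under R) (B ⧸ q) = r)
    (hle : (q.under R).height +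
        (Module.finrank q.ResidueField (q.ResidueField ⊗[B] Ω[B⁄R]) : ℕ∞) ≤ q.height + r) :
    Algebra.IsSmoothAt R q := by
  classical
  obtain ⟨b, hbt, hbspan, hbli⟩ := exists_linearIndependent q.ResidueField
    (Set.range fun s : B => (1 : q.ResidueField) ⊗ₜ[B] D R B s)
  rw [span_one_tmul_D'] at hbspan
  haveI : Finite b := hbli.finite
  haveI : Fintype b := Fintype.ofFinite b
  let Bs : Module.Basis b q.ResidueField (q.ResidueField ⊗[B] Ω[B⁄R]) :=
    Module.Basis.mk hbli (by rw [Subtype.range_coe]; exact hbspan.ge)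
  have hcard : Module.finrank q.ResidueField (q.ResidueField ⊗[B] Ω[B⁄R]) = Fintype.card b :=
    Module.finrank_eq_card_basis Bs
  set n := Fintype.card b with hn
  let e : Fin n ≃ b := (Fintype.equivFin b).symm
  choose g hg using fun i : b => hbt i.2
  let g' : Fin n → B := fun i => g (e i)
  let φ : MvPolynomial (Fin n) R →ₐ[R] B := MvPolynomial.aeval g'
  letI : Algebra (MvPolynomial (Fin n) R) B := φ.toRingHom.toAlgebra
  haveI : IsScalarTower R (MvPolynomial (Fin n) R) B :=
    IsScalarTower.of_algebraMap_eq' φ.comp_algebraMap.symm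
  haveI : Algebra.FiniteType (MvPolynomial (Fin n) R) B :=
    Algebra.FiniteType.of_restrictScalars_finiteType R _ B
  have hX : ∀ i : Fin n, algebraMap (MvPolynomial (Fin n) R) B (MvPolynomial.X i) = g' i := fun i =>
    MvPolynomial.aeval_X g' i
  haveI hunr : Algebra.IsUnramifiedAt (MvPolynomial (Fin n) R) q := by
    refine isUnramifiedAt_of_span (k := R) q (Set.range MvPolynomial.X) ?_
    rw [← Set.range_comp]
    have : ((fun t : MvPolynomial (Fin n) R => (1 : q.ResidueField) ⊗ₜ[B] D R B (algebraMap _ B t)) ∘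
        MvPolynomial.X) = fun i : Fin n => ((e i : b) : q.ResidueField ⊗[B] Ω[B⁄R]) := by
      funext i
      show (1 : q.ResidueField) ⊗ₜ[B] D R B (algebraMap _ B (MvPolynomial.X i)) = _
      rw [hX]
      exact hg (e i)
    rw [this]
    have hrange : Set.range (fun i : Fin n => ((e i : b) : q.ResidueField ⊗[B] Ω[B⁄R])) = b := by
      rw [show (fun i : Fin n => ((e i : b) : q.ResidueField ⊗[B] Ω[B⁄R])) =
        (Subtype.val : b → _) ∘ e from rfl, Set.range_comp, e.range_eq_univ, Set.image_univ,
        Subtype.range_coe]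
    rw [hrange]
    exact hbspan
  let p₀ : Ideal R := q.under R
  let p : Ideal (MvPolynomial (Fin n) R) := q.under (MvPolynomial (Fin n) R)
  haveI : p.IsPrime := inferInstance
  haveI : q.LiesOver p := ⟨rfl⟩
  haveI : q.LiesOver p₀ := ⟨rfl⟩
  haveI : p.LiesOver p₀ := ⟨by
    show q.under R = (q.under (MvPolynomial (Fin n) R)).under R
    rw [Ideal.under_under]⟩
  -- dimensions
  obtain ⟨r', hr', hsum⟩ := Groth.Agent.DimIneqH8.height_add_trdeg_mvPolynomial R n p₀ p
  have htr := trdeg_quotient_eq' (R := R) p₀ p q
  have hrr : r' = r := by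
    have : ((r' : ℕ) : Cardinal) = ((r : ℕ) : Cardinal) := by rw [← hr', htr, hr]
    exact_mod_cast this
  subst hrr
  have hht : p.height ≤ q.height := by
    rw [hcard] at hle
    have h1 : p.height + (r' : ℕ∞) ≤ q.height + r' := by
      rw [hsum]
      exact hle
    exact (ENat.add_le_add_iff_right (ENat.coe_ne_top r')).mp h1
  -- regularity of the localisation of the polynomial ring
  haveI : Algebra.FinitePresentation R (MvPolynomial (Fin n) R) := inferInstance
  haveI : Algebra.IsSmoothAt R p := Algebra.FormallySmooth.comp R (MvPolynomial (Fin n) R) _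
  haveI hregp : IsRegularLocalRing (Localization.AtPrime p) :=
    Groth.Agent.Lib.RegSmoothPtH3.isRegularLocalRing_of_isSmoothAt R (MvPolynomial (Fin n) R) p
  haveI : IsDomain (Localization.AtPrime p) := Groth.Agent.RegularLib.isDomain _
  haveI : IsIntegrallyClosed (Localization.AtPrime p) :=
    Groth.Agent.Lib.NormalLiftH4.isIntegrallyClosed_of_isRegularLocalRing _
  letI := Localization.AtPrime.algebraOfLiesOver p q
  haveI : Algebra.EssFiniteType (Localization.AtPrime p) (Localization.AtPrime q) :=
    Algebra.EssFiniteType.of_comp (MvPolynomial (Fin n) R) _ _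
  haveI : Algebra.FormallyUnramified (Localization.AtPrime p) (Localization.AtPrime q) :=
    Algebra.FormallyUnramified.of_restrictScalars (MvPolynomial (Fin n) R) _ _
  have hdim : ringKrullDim (Localization.AtPrime p) ≤ ringKrullDim (Localization.AtPrime q) := by
    rw [IsLocalization.AtPrime.ringKrullDim_eq_height p, IsLocalization.AtPrime.ringKrullDim_eq_height q]
    exact_mod_cast hht
  haveI : Algebra.FormallyEtale (Localization.AtPrime p) (Localization.AtPrime q) :=
    Groth.Agent.Lib.EtDimCritH3.formallyEtale_of_formallyUnramified_of_dim_le hdim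
  exact Algebra.FormallySmooth.comp R (Localization.AtPrime p) (Localization.AtPrime q)

end Regular

end Groth.Agent.Lib.JacDimH3
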