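import Mathlib
import Groth.Prelude
import Groth.Agent.Lib.SmoothSynt_helper4

/-!
# Fibre dimension of a morphism smooth of relative dimension `n` (S2768) — helper4
-/

set_option autoImplicit false
universe u
open CategoryTheory CategoryTheory.Limits AlgebraicGeometry TopologicalSpace Opposite

namespace Groth.Agent.Lib.SmoothFibDimH4

theorem topDim_affineOpen {F : Scheme.{u}} {V : F.Opens} (hV : IsAffineOpen V) :
    topologicalKrullDim ((V : F.Opens) : Set F) = ringKrullDim Γ(F, V) := by
  have h1 : topologicalKrullDim (Spec Γ(F, V)) = ringKrullDim Γ(F, V) :=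
    PrimeSpectrum.topologicalKrullDim_eq_ringKrullDim Γ(F, V)
  rw [← h1]
  exact IsHomeomorph.topologicalKrullDim_eq _ hV.isoSpec.hom.homeomorph.isHomeomorph

theorem dim_affine (n : ℕ) {F : Scheme.{u}} (k : Type u) [Field k] {V : F.Opens}
    (hV : IsAffineOpen V) (z : F) (hz : z ∈ V) (ψ : k →+* Γ(F, V))
    (hstd : ψ.IsStandardSmoothOfRelativeDimension n) :
    topologicalKrullDim ((V : F.Opens) : Set F) = (n : WithBot ℕ∞) := by
  rw [topDim_affineOpen hV]
  letI := ψ.toAlgebra
  haveI : Algebra.IsStandardSmoothOfRelativeDimension n k Γ(F, V) := hstd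
  haveI : Nontrivial Γ(F, V) := (F.presheaf.germ V z hz).hom.domain_nontrivial
  exact Groth.Agent.Lib.SmoothSyntH4.ringKrullDim_of_relDim k Γ(F, V) n

theorem localDim_eq (n : ℕ) {F : Scheme.{u}} (k : Type u) [Field k]
    (φ : F ⟶ Spec (CommRingCat.of k)) [SmoothOfRelativeDimension n φ] (z : F) :
    FlatMor.localDim F z = (n : WithBot ℕ∞) := by
  obtain ⟨U, hU, V, hV, hzV, e, hstd⟩ :=
    SmoothOfRelativeDimension.exists_isStandardSmoothOfRelativeDimension (n := n) (f := φ) z
  haveI : Subsingleton (Spec (CommRingCat.of k)) :=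
    inferInstanceAs (Subsingleton (PrimeSpectrum k))
  have hUtop : U = ⊤ := by
    ext p
    simp only [Opens.coe_top, Set.mem_univ, iff_true, SetLike.mem_coe]
    have hp : p = φ z := Subsingleton.elim _ _
    rw [hp]
    exact e hzV
  subst hUtop
  obtain ⟨e', he'⟩ : ∃ e' : k ≃+* Γ(Spec (CommRingCat.of k), ⊤), e' =
      (Scheme.ΓSpecIso (CommRingCat.of k)).symm.commRingCatIsoToRingEquiv := ⟨_, rfl⟩
  have hψ : ((φ.appLE ⊤ V e).hom.comp e'.toRingHom).IsStandardSmoothOfRelativeDimension n :=
    (RingHom.isStandardSmoothOfRelativeDimension_respectsIso (n := n)).2 _ e' hstd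
  unfold FlatMor.localDim
  apply le_antisymm
  · refine (iInf_le _ ⟨V, hzV⟩).trans ?_
    exact le_of_eq (dim_affine n k hV z hzV _ hψ)
  · refine le_iInf (fun W => ?_)
    obtain ⟨W, hzW⟩ := W
    obtain ⟨g, hgle, hzg⟩ := hV.exists_basicOpen_le ⟨z, hzW⟩ hzV
    haveI hloc : IsLocalization.Away g Γ(F, F.basicOpen g) := hV.isLocalization_basicOpen g
    have hψ' : ((algebraMap Γ(F, V) Γ(F, F.basicOpen g)).comp
        ((φ.appLE ⊤ V e).hom.comp e'.toRingHom)).IsStandardSmoothOfRelativeDimension n :=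
      (RingHom.isStandardSmoothOfRelativeDimension_stableUnderCompositionWithLocalizationAway
        (n := n)).2 Γ(F, F.basicOpen g) g _ hψ
    have hdim := dim_affine n k (hV.basicOpen g) z hzg _ hψ'
    rw [← hdim]
    have hsub : ((F.basicOpen g : F.Opens) : Set F) ⊆ ((W : F.Opens) : Set F) :=
      SetLike.coe_subset_coe.mpr hgle
    exact (Topology.IsEmbedding.inclusion hsub).isInducing.topologicalKrullDim_le

theorem main2768 (n : ℕ) {X Y : Scheme.{u}} (f : X ⟶ Y)
    [SmoothOfRelativeDimension n f] (x : X) :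
    FlatMor.fibreDimAt f x = (n : WithBot ℕ∞) := by
  haveI := smoothOfRelativeDimension_isStableUnderBaseChange n
  have hsm : SmoothOfRelativeDimension n (f.fiberToSpecResidueField (f.base x)) :=
    MorphismProperty.pullback_snd (P := @SmoothOfRelativeDimension n) f
      (Y.fromSpecResidueField (f.base x)) ‹_›
  exact @localDim_eq n _ (IsLocalRing.ResidueField (Y.presheaf.stalk (f.base x))) _
    (f.fiberToSpecResidueField (f.base x)) hsm (f.asFiber x)

end Groth.Agent.Lib.SmoothFibDimH4
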