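import Mathlib
import Groth.Prelude
import Groth.Agent.Lib.OmegaRecQC_helper4
import Groth.Agent.Lib.FLF1_helper8
import Groth.Agent.Lib.FibCoh8_helper8
import Groth.Agent.Lib.SmoothFibDim_helper4

/-!
# Receptacles of differentials of smooth morphisms are locally free of rank the fibre dimension
(helper4). APPEND-ONLY once landed.
-/

set_option autoImplicit false
set_option linter.style.haveILetI false

universe u

open CategoryTheory CategoryTheory.Limits AlgebraicGeometry Opposite TopologicalSpace TensorProduct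
open AlgebraicGeometry.Scheme.Modules

namespace Groth.Agent.Lib.OmegaSmoothFreeH4

open Groth.Agent.Lib.OmegaUniv2H4 Groth.Agent.Lib.OmegaResH4 Groth.Agent.Lib.OmegaRecQCH4

theorem smoothOfRelativeDimension_ι_comp (n : ℕ) {X Y : Scheme.{u}} (f : X ⟶ Y) {U : Y.Opens}
    (hU : IsAffineOpen U) {V : X.Opens} (hV : IsAffineOpen V) (e : V ≤ f ⁻¹ᵁ U)
    (hstd : (f.appLE U V e).hom.IsStandardSmoothOfRelativeDimension n) :
    SmoothOfRelativeDimension n (V.ι ≫ f) := by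
  haveI : IsAffine (V : Scheme.{u}) := hV
  have e' : (⊤ : (V : Scheme.{u}).Opens) ≤ (V.ι ≫ f) ⁻¹ᵁ U := fun z _ => e z.2
  refine ⟨fun x' => ⟨U, hU, ⊤, isAffineOpen_top _, trivial, e', ?_⟩⟩
  have e₂ : (⊤ : (V : Scheme.{u}).Opens) ≤ V.ι ⁻¹ᵁ V := fun z _ => z.2
  have h1 : f.appLE U V e ≫ V.ι.appLE V ⊤ e₂ = (V.ι ≫ f).appLE U ⊤ e' :=
    Scheme.Hom.appLE_comp_appLE V.ι f U V ⊤ e e₂
  have h3 : V.ι.appLE V ⊤ e₂ = V.topIso.inv :=
    (Scheme.Opens.ι_appLE V V ⊤ e₂).trans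
      (congrArg (fun m : op V ⟶ op (V.ι ''ᵁ ⊤) => X.presheaf.map m) (Subsingleton.elim _ _))
  let ρ : Γ(X, V) ≃+* Γ((V : Scheme.{u}), ⊤) := V.topIso.symm.commRingCatIsoToRingEquiv
  have h2 := (RingHom.isStandardSmoothOfRelativeDimension_respectsIso (n := n)).1 _ ρ hstd
  have h4 : ((V.ι ≫ f).appLE U ⊤ e').hom = ρ.toRingHom.comp (f.appLE U V e).hom :=
    congrArg CommRingCat.Hom.hom
      (h1.symm.trans (congrArg (fun k => f.appLE U V e ≫ k) h3))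
  rw [h4]
  exact h2

theorem main5019 {X Y : Scheme.{u}} (f : X ⟶ Y) [Smooth f]
    (Ω' : X.Modules) (d : OmegaSh.Der f Ω') (hd : OmegaSh.IsUniversal d) (x : ↥X) :
    ∃ (U : X.Opens) (n : ℕ), x ∈ U ∧ Nonempty (Ω'.restrict U.ι ≅ FlatMod.freeMod (↑U) n) ∧
      FlatMor.fibreDimAt f x = (n : WithBot ℕ∞) := by
  obtain ⟨U, hU, V, hV, hxV, e, hstd⟩ := Smooth.exists_isStandardSmooth f x
  letI alg : Algebra Γ(Y, U) Γ(X, V) := (f.appLE U V e).hom.toAlgebra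
  haveI hss : Algebra.IsStandardSmooth Γ(Y, U) Γ(X, V) := hstd
  obtain ⟨ι, σ, hσ, hι, ⟨P⟩⟩ := hss.out
  haveI := hσ
  haveI := hι
  obtain ⟨n, hn⟩ : ∃ n : ℕ, P.dimension = n := ⟨_, rfl⟩
  haveI hrel : Algebra.IsStandardSmoothOfRelativeDimension n Γ(Y, U) Γ(X, V) :=
    ⟨⟨ι, σ, hσ, hι, P, hn⟩⟩
  haveI : Nontrivial Γ(X, V) := (X.presheaf.germ V x hxV).hom.domain_nontrivial
  have hrank : Module.rank Γ(X, V) Ω[Γ(X, V)⁄Γ(Y, U)] = n :=
    Algebra.IsStandardSmoothOfRelativeDimension.rank_kaehlerDifferential n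
  haveI hfree : Module.Free Γ(X, V) Ω[Γ(X, V)⁄Γ(Y, U)] := inferInstance
  haveI hfin : Module.Finite Γ(X, V) Ω[Γ(X, V)⁄Γ(Y, U)] := Module.finite_of_rank_eq_nat hrank
  have hfr : Module.finrank Γ(X, V) Ω[Γ(X, V)⁄Γ(Y, U)] = n := Module.finrank_eq_of_rank_eq hrank
  let b := Module.finBasisOfFinrankEq Γ(X, V) Ω[Γ(X, V)⁄Γ(Y, U)] hfr
  obtain ⟨L, -⟩ := receptacleSections f d hd hV hU e
  let b' := b.map L.symm
  haveI := isQuasicoherent f d hd
  refine ⟨V, n, hxV, FLFH8.iso_of_basis Ω' hV (⇑b') b'.span_eq b'.linearIndependent, ?_⟩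
  haveI hsm : SmoothOfRelativeDimension n (V.ι ≫ f) :=
    smoothOfRelativeDimension_ι_comp n f hU hV e hrel
  have h1 := Groth.Agent.Lib.SmoothFibDimH4.main2768 n (V.ι ≫ f) ⟨x, hxV⟩
  have h2 := FibCohH8.fibreDimAt_etale_local f (V.ι ≫ f) V.ι (𝟙 Y) (Category.comp_id _) ⟨x, hxV⟩
  exact h2.trans h1

end Groth.Agent.Lib.OmegaSmoothFreeH4
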