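import Mathlib
import Groth.Prelude
import Groth.Agent.Lib.JacDim2_helper3
import Groth.Agent.Lib.OmegaSmoothFree_helper4
import Groth.Agent.Lib.FLF7_helper8
import Groth.Agent.Lib.ResQuot2_helper8
import Groth.Agent.Lib.FibCoh8_helper8
import Groth.Agent.Lib.FibCrit5_helper8

/-!
# Smoothness over a regular base via differentials (scheme level, helper3)
APPEND-ONLY once landed.
-/

set_option autoImplicit false
set_option maxHeartbeats 1600000
universe u

open CategoryTheory CategoryTheory.Limits AlgebraicGeometry TopologicalSpace Opposite TensorProduct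

namespace Groth.Agent.Lib.JacDimSchH3

/-- Sections over an affine open of a locally Noetherian scheme with regular stalks form a regular
ring (as in helper2's `BlowReg`). -/
theorem isRegularRing_of_stalks {W : Scheme.{u}} [IsLocallyNoetherian W]
    (hreg : ∀ w : W, IsRegularLocalRing (W.presheaf.stalk w)) {U : W.Opens}
    (hU : IsAffineOpen U) : IsRegularRing Γ(W, U) := by
  haveI : IsNoetherianRing Γ(W, U) := IsLocallyNoetherian.component_noetherian ⟨U, hU⟩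
  rw [isRegularRing_iff]
  intro p hp
  have hxU : hU.fromSpec ⟨p, hp⟩ ∈ U := by
    rw [← SetLike.mem_coe, ← hU.range_fromSpec]; exact Set.mem_range_self _
  have hQ : hU.primeIdealOf ⟨hU.fromSpec ⟨p, hp⟩, hxU⟩ = ⟨p, hp⟩ := by
    apply hU.fromSpec.isOpenEmbedding.injective
    exact hU.fromSpec_primeIdealOf ⟨_, hxU⟩
  letI := TopCat.Presheaf.algebra_section_stalk W.presheaf (⟨hU.fromSpec ⟨p, hp⟩, hxU⟩ : U)
  have hloc : IsLocalization.AtPrime (W.presheaf.stalk (hU.fromSpec ⟨p, hp⟩)) p := by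
    have h1 := hU.isLocalization_stalk ⟨hU.fromSpec ⟨p, hp⟩, hxU⟩
    rw [hQ] at h1
    exact h1
  haveI := hloc
  haveI := hreg (hU.fromSpec ⟨p, hp⟩)
  exact IsRegularLocalRing.of_ringEquiv
    (IsLocalization.algEquiv p.primeCompl (W.presheaf.stalk (hU.fromSpec ⟨p, hp⟩))
      (Localization.AtPrime p)).toRingEquiv

/-- The dimension of a stalk is the height of the corresponding prime of an affine open. -/
theorem ringKrullDim_stalk_eq_height {X : Scheme.{u}} {U : X.Opens} (hU : IsAffineOpen U) (x : X)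
    (hx : x ∈ U) :
    ringKrullDim (X.presheaf.stalk x) = ((hU.primeIdealOf ⟨x, hx⟩).asIdeal.height : WithBot ℕ∞) := by
  letI := TopCat.Presheaf.algebra_section_stalk X.presheaf (⟨x, hx⟩ : U)
  haveI := hU.isLocalization_stalk ⟨x, hx⟩
  exact IsLocalization.AtPrime.ringKrullDim_eq_height (hU.primeIdealOf ⟨x, hx⟩).asIdeal
    (X.presheaf.stalk x)

section Main

variable {X S : Scheme.{u}} (f : X ⟶ S)

open Groth.Agent.ResQuotH8 in
/-- transcendence degree of the residue extension on affine charts, with the `LiesOver` algebra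
structure on the quotients. -/
theorem trdeg_quotient_eq_resTrdeg {U : X.Opens} (hU : IsAffineOpen U) {V : S.Opens}
    (hV : IsAffineOpen V) (e : U ≤ f ⁻¹ᵁ V) (x : X) (hx : x ∈ U) :
    letI := (f.appLE V U e).hom.toAlgebra
    Algebra.trdeg (Γ(S, V) ⧸ (hU.primeIdealOf ⟨x, hx⟩).asIdeal.under Γ(S, V))
      (Γ(X, U) ⧸ (hU.primeIdealOf ⟨x, hx⟩).asIdeal) = Dual3.resTrdeg f x := by
  letI := (f.appLE V U e).hom.toAlgebra
  have h1 := trdeg_residueFieldMap f hU hV e x hx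
  have hp := primeIdealOf_map f hU hV e x hx
  show _ = @Algebra.trdeg (S.residueField (f.base x)) (X.residueField x) _ _
    (f.residueFieldMap x).hom.toAlgebra
  rw [h1]
  letI a2 : Algebra (Γ(S, V) ⧸ (hV.primeIdealOf ⟨f.base x, e hx⟩).asIdeal)
    (Γ(X, U) ⧸ (hU.primeIdealOf ⟨x, hx⟩).asIdeal) := (quotMap f hU hV e x hx).toAlgebra
  haveI : Nontrivial (Γ(S, V) ⧸ (hU.primeIdealOf ⟨x, hx⟩).asIdeal.under Γ(S, V)) :=
    Ideal.Quotient.nontrivial_iff.mpr (Ideal.IsPrime.ne_top inferInstance)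
  refine Groth.Agent.DimIneqH8.trdeg_eq_of_ringEquiv
    (Ideal.quotEquivOfEq (show (hU.primeIdealOf ⟨x, hx⟩).asIdeal.under Γ(S, V) =
      (hV.primeIdealOf ⟨f.base x, e hx⟩).asIdeal from hp.symm))
    (RingEquiv.refl _) (fun r => ?_)
  obtain ⟨r, rfl⟩ := Ideal.Quotient.mk_surjective r
  rfl

end Main

section Main2

variable {X S : Scheme.{u}} (f : X ⟶ S) [IsLocallyNoetherian S] [LocallyOfFiniteType f]
  [LocallyOfFinitePresentation f]

/-- (⇐) of S11581. -/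
theorem mem_smoothLocus_of_free
    (hreg : ∀ s : S, IsRegularLocalRing (S.presheaf.stalk s))
    (Ω' : X.Modules) (d : OmegaSh.Der f Ω') (hd : OmegaSh.IsUniversal d) (x : X)
    (hdim : ringKrullDim (X.presheaf.stalk x) =
      ringKrullDim ((f.fiber (f x)).presheaf.stalk (f.asFiber x)) +
        ringKrullDim (S.presheaf.stalk (f x)))
    (U : X.Opens) (n : ℕ) (hxU : x ∈ U) (α : Ω'.restrict U.ι ≅ FlatMod.freeMod (↑U) n)
    (hfd : FlatMor.fibreDimAt f x = (n : WithBot ℕ∞)) : x ∈ f.smoothLocus := by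
  haveI := Groth.Agent.Lib.OmegaRecQCH4.isQuasicoherent f d hd
  obtain ⟨W0, hW0, hxW0, hW0U, t, ht⟩ := FLFH8.exists_affine_bases Ω' hxU α
  obtain ⟨_, ⟨U0, hU0, rfl⟩, hsU0, -⟩ :=
    S.isBasis_affineOpens.exists_subset_of_mem_open (Set.mem_univ (f x)) isOpen_univ
  have hxm : x ∈ ((W0 ⊓ f ⁻¹ᵁ U0 : X.Opens) : Set X) := ⟨hxW0, hsU0⟩
  obtain ⟨_, ⟨V0, hV0, rfl⟩, hxV0, hV0le⟩ :=
    X.isBasis_affineOpens.exists_subset_of_mem_open hxm (W0 ⊓ f ⁻¹ᵁ U0).isOpen
  have hV0W0 : V0 ≤ W0 := fun y hy => (hV0le hy).1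
  have e : V0 ≤ f ⁻¹ᵁ U0 := fun y hy => (hV0le hy).2
  obtain ⟨hspan, hli⟩ := FLFH8.BasisOn.self Ω' _
    (FLFH8.BasisOn.of_rF Ω' t hV0W0 le_rfl (ht V0 hV0W0))
  letI alg : Algebra Γ(S, U0) Γ(X, V0) := (f.appLE U0 V0 e).hom.toAlgebra
  obtain ⟨L, -⟩ := Groth.Agent.Lib.OmegaResH4.receptacleSections f d hd hV0 hU0 e
  rw [Scheme.Hom.mem_smoothLocus, formallySmooth_stalkMap_iff U0 hU0 V0 hV0 e hxV0]
  haveI : Algebra.FiniteType Γ(S, U0) Γ(X, V0) := f.finiteType_appLE hU0 hV0 e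
  haveI : IsRegularRing Γ(S, U0) := isRegularRing_of_stalks hreg hU0
  set q := (hV0.primeIdealOf ⟨x, hxV0⟩).asIdeal with hq
  show Algebra.IsSmoothAt Γ(S, U0) q
  -- the rank
  let b0 : Module.Basis (Fin n) Γ(X, V0) Γ(Ω', V0) := Module.Basis.mk hli hspan.ge
  let b1 : Module.Basis (Fin n) Γ(X, V0) Ω[Γ(X, V0)⁄Γ(S, U0)] := b0.map L
  haveI : Module.Free Γ(X, V0) Ω[Γ(X, V0)⁄Γ(S, U0)] := Module.Free.of_basis b1
  haveI : Nontrivial Γ(X, V0) := (X.presheaf.germ V0 x hxV0).hom.domain_nontrivial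
  have hfr : Module.finrank q.ResidueField
      (q.ResidueField ⊗[Γ(X, V0)] Ω[Γ(X, V0)⁄Γ(S, U0)]) = n := by
    rw [Module.finrank_baseChange, Module.finrank_eq_card_basis b1, Fintype.card_fin]
  -- the transcendence degree
  obtain ⟨r, hr0⟩ := Groth.Agent.ResQuot2H8.exists_trdeg_nat f x
  have hres : Dual3.resTrdeg f x = (r : Cardinal) := hr0
  have hr : Algebra.trdeg (Γ(S, U0) ⧸ q.under Γ(S, U0)) (Γ(X, V0) ⧸ q) = r := by
    rw [← hres]
    exact trdeg_quotient_eq_resTrdeg f hV0 hU0 e x hxV0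
  -- heights
  have hq_ht : ringKrullDim (X.presheaf.stalk x) = (q.height : WithBot ℕ∞) :=
    ringKrullDim_stalk_eq_height hV0 x hxV0
  have hp_ht : ringKrullDim (S.presheaf.stalk (f x)) =
      ((q.under Γ(S, U0)).height : WithBot ℕ∞) := by
    rw [ringKrullDim_stalk_eq_height hU0 (f x) (e hxV0),
      Groth.Agent.ResQuotH8.primeIdealOf_map f hV0 hU0 e x hxV0]
    rfl
  have hfib := FibCohH8.stalk_fiber_eq_fibCoh f x
  have hfd' := FibCohH8.fibreDimAt_eq f x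
  rw [hfd, hres] at hfd'
  rw [hq_ht, hfib, hp_ht] at hdim
  have h1 : (n : ℕ∞) = FibCohH8.fibCoh f x + (r : ℕ∞) := by
    have h : ((n : ℕ∞) : WithBot ℕ∞) = ((FibCohH8.fibCoh f x + (r : ℕ∞) : ℕ∞) : WithBot ℕ∞) := by
      rw [WithBot.coe_add]
      simpa using hfd'
    exact_mod_cast h
  have h2 : q.height = FibCohH8.fibCoh f x + (q.under Γ(S, U0)).height := by
    exact_mod_cast hdim
  have hle : (q.under Γ(S, U0)).height +
      (Module.finrank q.ResidueField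
        (q.ResidueField ⊗[Γ(X, V0)] Ω[Γ(X, V0)⁄Γ(S, U0)]) : ℕ∞) ≤ q.height + r := by
    rw [hfr, h1, h2]
    exact le_of_eq (by ring)
  exact Groth.Agent.Lib.JacDimH3.isSmoothAt_of_regular_of_le q r hr hle

omit [IsLocallyNoetherian S] [LocallyOfFiniteType f] in
/-- (⇒) of S11581 (and of S5022): at a smooth point the differentials are free near `x` of rank the
fibre dimension. -/
theorem exists_free_of_mem_smoothLocus
    (Ω' : X.Modules) (d : OmegaSh.Der f Ω') (hd : OmegaSh.IsUniversal d) (x : X)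
    (hx : x ∈ f.smoothLocus) :
    ∃ (U : X.Opens) (n : ℕ), x ∈ U ∧ Nonempty (Ω'.restrict U.ι ≅ FlatMod.freeMod (↑U) n) ∧
      FlatMor.fibreDimAt f x = (n : WithBot ℕ∞) := by
  haveI := Groth.Agent.Lib.OmegaRecQCH4.isQuasicoherent f d hd
  set W := f.smoothLocus with hW
  haveI : Smooth (W.ι ≫ f) := FibCritH8.smooth_smoothLocus_ι
  obtain ⟨U', n, hxU', ⟨α'⟩, hfd⟩ := Groth.Agent.Lib.OmegaSmoothFreeH4.main5019 (W.ι ≫ f)
    (Ω'.restrict W.ι) (Groth.Agent.Lib.OmegaResH4.resDer W.ι f d)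
    (Groth.Agent.Lib.OmegaResH4.isUniversal_restrict W.ι f d hd) ⟨x, hx⟩
  obtain ⟨O, hO, hxO, -, t, ht⟩ := FLFH8.exists_affine_bases (Ω'.restrict W.ι) hxU' α'
  obtain ⟨h1, h2⟩ := FLFH8.BasisOn.self (Ω'.restrict W.ι) t (ht O le_rfl)
  obtain ⟨g', h3, h4⟩ := FLFH8.basis_transport Ω' O t h1 h2
  have hOX : IsAffineOpen (W.ι ''ᵁ O) := hO.image_of_isOpenImmersion W.ι
  have hxOX : x ∈ W.ι ''ᵁ O := ⟨⟨x, hx⟩, hxO, rfl⟩
  refine ⟨W.ι ''ᵁ O, n, hxOX, FLFH8.iso_of_basis Ω' hOX g' h3 h4, ?_⟩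
  have h5 := FibCohH8.fibreDimAt_etale_local f (W.ι ≫ f) W.ι (𝟙 S) (Category.comp_id _) ⟨x, hx⟩
  exact h5.trans hfd

end Main2

end Groth.Agent.Lib.JacDimSchH3
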