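import Mathlib
import Groth.Prelude
import Groth.Agent.Lib.FibCodim2_helper4
import Groth.Agent.Lib.CotFlat_helper3
import Groth.Agent.Lib.RegFlat_helper3
import Groth.Agent.Lib.Equi133b_helper8
import Groth.Agent.Lib.FibStalkIso_helper5
import Groth.Agent.Lib.FibStalkDim_helper8

/-!
# Regularity ascends and descends along smooth morphisms (helper4)
-/

set_option autoImplicit false
set_option linter.unusedVariables false
set_option linter.unusedTactic false
set_option linter.unreachableTactic false
set_option linter.unusedSectionVars false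
set_option linter.style.haveILetI false
set_option maxHeartbeats 800000
set_option backward.isDefEq.respectTransparency false

universe u

open CategoryTheory AlgebraicGeometry Limits TopologicalSpace IsLocalRing

namespace Groth.Agent.Lib.SmoothRegIffH4

section alg

variable (A B : Type u) [CommRing A] [CommRing B] [IsLocalRing A] [IsNoetherianRing A]
  [IsLocalRing B] [IsNoetherianRing B] [Algebra A B] [IsLocalHom (algebraMap A B)]
  [Module.Flat A B]

/-- flat local homomorphism with regular closed fibre: `B` regular iff `A` regular -/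
theorem regular_iff [hC : IsRegularLocalRing (B ⧸ Ideal.map (algebraMap A B) (maximalIdeal A))] :
    IsRegularLocalRing B ↔ IsRegularLocalRing A := by
  constructor
  · intro hB
    rw [IsRegularLocalRing.iff_finrank_cotangentSpace]
    have hBr := (IsRegularLocalRing.iff_finrank_cotangentSpace B).mp hB
    have hCr := (IsRegularLocalRing.iff_finrank_cotangentSpace
      (B ⧸ Ideal.map (algebraMap A B) (maximalIdeal A))).mp hC
    have hcot := Groth.Agent.Lib.CotFlatH3.main A B
    have hdim := Groth.Agent.Lib.RegFlatH3.ringKrullDim_eq_add_of_flat (A := A) (B := B)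
      (Ideal.map (algebraMap A B) (maximalIdeal A)) rfl
    obtain ⟨n, hn⟩ := Equi133H8.exists_nat_ringKrullDim A
    obtain ⟨cB, hcB⟩ : ∃ c : ℕ, c = Module.finrank (ResidueField B) (CotangentSpace B) :=
      ⟨_, rfl⟩
    obtain ⟨cC, hcC⟩ : ∃ c : ℕ, c = Module.finrank
        (ResidueField (B ⧸ Ideal.map (algebraMap A B) (maximalIdeal A)))
        (CotangentSpace (B ⧸ Ideal.map (algebraMap A B) (maximalIdeal A))) := ⟨_, rfl⟩
    obtain ⟨cA, hcA⟩ : ∃ c : ℕ, c = Module.finrank (ResidueField A) (CotangentSpace A) :=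
      ⟨_, rfl⟩
    rw [← hcB] at hBr
    rw [← hcC] at hCr
    rw [← hcB, ← hcC, ← hcA] at hcot
    rw [← hcA, hn]
    rw [← hBr, ← hCr, hn, hcot] at hdim
    have h : cC + cA = n + cC := by exact_mod_cast hdim
    have h' : cA = n := by omega
    exact_mod_cast h'
  · intro hA
    exact Groth.Agent.Lib.RegFlatH3.isRegularLocalRing_of_flat (A := A) _ rfl

end alg

/-- regularity of the local rings along a smooth morphism -/
theorem regular_iff_smooth {Z Y : Scheme.{u}} [IsLocallyNoetherian Y] (g : Z ⟶ Y) [Smooth g]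
    (z : Z) :
    IsRegularLocalRing (Z.presheaf.stalk z) ↔ IsRegularLocalRing (Y.presheaf.stalk (g z)) := by
  haveI : IsLocallyNoetherian Z := LocallyOfFiniteType.isLocallyNoetherian g
  letI : Algebra (Y.presheaf.stalk (g z)) (Z.presheaf.stalk z) := (g.stalkMap z).hom.toAlgebra
  haveI : IsLocalHom (algebraMap (Y.presheaf.stalk (g z)) (Z.presheaf.stalk z)) :=
    inferInstanceAs (IsLocalHom (g.stalkMap z).hom)
  haveI : Module.Flat (Y.presheaf.stalk (g z)) (Z.presheaf.stalk z) := Flat.stalkMap g z
  haveI hreg := Groth.Agent.Lib.FibCodim2H4.fiberStalk_regular g z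
  haveI : IsRegularLocalRing (Z.presheaf.stalk z ⧸
      Ideal.map (algebraMap (Y.presheaf.stalk (g z)) (Z.presheaf.stalk z))
        (maximalIdeal (Y.presheaf.stalk (g z)))) :=
    IsRegularLocalRing.of_ringEquiv (Groth.Agent.FibStalkIso.fibStalkEquiv g z).symm
  exact regular_iff _ _

theorem main {X Y : Scheme.{u}} (f : X ⟶ Y)
    [IsLocallyNoetherian Y] [LocallyOfFiniteType f] (x : ↥X)
    (hx : ∃ U : X.Opens, x ∈ U ∧ Smooth (U.ι ≫ f)) :
    IsRegularLocalRing ↑(X.presheaf.stalk x) ↔
      IsRegularLocalRing ↑(Y.presheaf.stalk (f.base x)) := by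
  obtain ⟨U, hxU, hsm⟩ := hx
  haveI := hsm
  have key : ∀ z : ↥(U : Scheme.{u}),
      IsRegularLocalRing (X.presheaf.stalk (U.ι z)) ↔
        IsRegularLocalRing (Y.presheaf.stalk (f (U.ι z))) := by
    intro z
    have h := regular_iff_smooth (U.ι ≫ f) z
    have e : X.presheaf.stalk (U.ι z) ≃+* (U : Scheme.{u}).presheaf.stalk z :=
      (asIso (U.ι.stalkMap z)).commRingCatIsoToRingEquiv
    constructor
    · intro hX
      haveI := hX
      exact h.mp (IsRegularLocalRing.of_ringEquiv e)
    · intro hY
      haveI := h.mpr hY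
      exact IsRegularLocalRing.of_ringEquiv e.symm
  exact key ⟨x, hxU⟩

end Groth.Agent.Lib.SmoothRegIffH4
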