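import Mathlib
import Groth.Prelude
import Groth.Agent.Lib.JacDimSch_helper3
import Groth.Agent.Lib.OmegaUniv2_helper4
import Groth.Agent.Lib.OmegaSmoothFree_helper4
import Groth.Agent.Lib.SmoothRegIff_helper4
import Groth.Agent.Lib.NonVan2_helper7
import Groth.Agent.Lib.SmoothRegField_helper3
import Groth.Agent.Lib.ConsDim_helper7
import Groth.Agent.Lib.AffDim5_helper8
import Groth.Agent.Lib.ResTrdeg1_helper8
import Groth.Agent.Lib.CodimZero_helper8
import Groth.Agent.Lib.SmoothFibDim_helper4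

/-!
# Smooth of relative dimension `n` iff `Ω` locally free of rank `n` (nonsingular varieties), helper3
APPEND-ONLY once landed.
-/

set_option autoImplicit false
set_option maxHeartbeats 1600000
universe u

open CategoryTheory CategoryTheory.Limits AlgebraicGeometry TopologicalSpace Opposite TensorProduct

namespace Groth.Agent.Lib.JacDimSchH3

section Main3

variable {X S : Scheme.{u}} (f : X ⟶ S) [IsLocallyNoetherian S] [LocallyOfFiniteType f]
  [LocallyOfFinitePresentation f]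

/-- Variant of `mem_smoothLocus_of_free` with a single dimension inequality as hypothesis. -/
theorem mem_smoothLocus_of_free'
    (hreg : ∀ s : S, IsRegularLocalRing (S.presheaf.stalk s))
    (Ω' : X.Modules) (d : OmegaSh.Der f Ω') (hd : OmegaSh.IsUniversal d) (x : X)
    (r : ℕ) (hres : Dual3.resTrdeg f x = (r : Cardinal))
    (U : X.Opens) (n : ℕ) (hxU : x ∈ U) (α : Ω'.restrict U.ι ≅ FlatMod.freeMod (↑U) n)
    (hdim : ringKrullDim (S.presheaf.stalk (f x)) + ((n : ℕ∞) : WithBot ℕ∞) ≤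
      ringKrullDim (X.presheaf.stalk x) + ((r : ℕ∞) : WithBot ℕ∞)) : x ∈ f.smoothLocus := by
  haveI := Groth.Agent.Lib.OmegaRecQCH4.isQuasicoherent f d hd
  obtain ⟨W0, hW0, hxW0, hW0U, t, ht⟩ := FLFH8.exists_affine_bases Ω' hxU α
  obtain ⟨_, ⟨U0, hU0, rfl⟩, hsU0, -⟩ :=
    S.isBasis_affineOpens.exists_subset_of_mem_open (Set.mem_univ (f x)) isOpen_univ
  have hxm : x ∈ ((W0 ⊓ f ⁻¹ᵁ U0 : X.Opens) : Set X) := ⟨hxW0, hsU0⟩
  obtain ⟨_, ⟨V0, hV0, rfl⟩, hxV0, hV0le⟩ :=
    X.isBasis_affineOpens.exists_subset_of_mem_open hxm (W0 ⊓ f ⁻¹ᵁ U0).isOpen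
  have hV0W0 : V0 ≤ W0 := fun y hy => (hV0le hy).1
  have e : V0 ≤ f ⁻¹ᵁ U0 := fun y hy => (hV0le hy).2
  obtain ⟨hspan, hli⟩ := FLFH8.BasisOn.self Ω' _
    (FLFH8.BasisOn.of_rF Ω' t hV0W0 le_rfl (ht V0 hV0W0))
  letI alg : Algebra Γ(S, U0) Γ(X, V0) := (f.appLE U0 V0 e).hom.toAlgebra
  obtain ⟨L, -⟩ := Groth.Agent.Lib.OmegaResH4.receptacleSections f d hd hV0 hU0 e
  rw [Scheme.Hom.mem_smoothLocus, formallySmooth_stalkMap_iff U0 hU0 V0 hV0 e hxV0]
  haveI : Algebra.FiniteType Γ(S, U0) Γ(X, V0) := f.finiteType_appLE hU0 hV0 e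
  haveI : IsRegularRing Γ(S, U0) := isRegularRing_of_stalks hreg hU0
  set q := (hV0.primeIdealOf ⟨x, hxV0⟩).asIdeal with hq
  show Algebra.IsSmoothAt Γ(S, U0) q
  -- the rank
  let b0 : Module.Basis (Fin n) Γ(X, V0) Γ(Ω', V0) := Module.Basis.mk hli hspan.ge
  let b1 : Module.Basis (Fin n) Γ(X, V0) Ω[Γ(X, V0)⁄Γ(S, U0)] := b0.map L
  haveI : Module.Free Γ(X, V0) Ω[Γ(X, V0)⁄Γ(S, U0)] := Module.Free.of_basis b1
  haveI : Nontrivial Γ(X, V0) := (X.presheaf.germ V0 x hxV0).hom.domain_nontrivial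
  have hfr : Module.finrank q.ResidueField
      (q.ResidueField ⊗[Γ(X, V0)] Ω[Γ(X, V0)⁄Γ(S, U0)]) = n := by
    rw [Module.finrank_baseChange, Module.finrank_eq_card_basis b1, Fintype.card_fin]
  -- the transcendence degree
  have hr : Algebra.trdeg (Γ(S, U0) ⧸ q.under Γ(S, U0)) (Γ(X, V0) ⧸ q) = r := by
    rw [← hres]
    exact trdeg_quotient_eq_resTrdeg f hV0 hU0 e x hxV0
  -- heights
  have hq_ht : ringKrullDim (X.presheaf.stalk x) = (q.height : WithBot ℕ∞) :=
    ringKrullDim_stalk_eq_height hV0 x hxV0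
  have hp_ht : ringKrullDim (S.presheaf.stalk (f x)) =
      ((q.under Γ(S, U0)).height : WithBot ℕ∞) := by
    rw [ringKrullDim_stalk_eq_height hU0 (f x) (e hxV0),
      Groth.Agent.ResQuotH8.primeIdealOf_map f hV0 hU0 e x hxV0]
    rfl
  rw [hq_ht, hp_ht] at hdim
  have hle : (q.under Γ(S, U0)).height +
      (Module.finrank q.ResidueField
        (q.ResidueField ⊗[Γ(X, V0)] Ω[Γ(X, V0)⁄Γ(S, U0)]) : ℕ∞) ≤ q.height + r := by
    rw [hfr]
    exact_mod_cast hdim
  exact Groth.Agent.Lib.JacDimH3.isSmoothAt_of_regular_of_le q r hr hle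

end Main3

section Rank

/-- The rank of a locally free module at a point is well defined. -/
theorem rank_unique {X : Scheme.{u}} (F : X.Modules) {x : X} {U U' : X.Opens} (hxU : x ∈ U)
    (hxU' : x ∈ U') {n n' : ℕ} (α : F.restrict U.ι ≅ FlatMod.freeMod (↑U) n)
    (α' : F.restrict U'.ι ≅ FlatMod.freeMod (↑U') n') : n = n' := by
  obtain ⟨W, hW, hxW, hWU, t, ht⟩ := FLFH8.exists_affine_bases F hxU α
  obtain ⟨W', hW', hxW', hWU', t', ht'⟩ := FLFH8.exists_affine_bases F hxU' α'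
  have h1 := ht (W ⊓ W') inf_le_left
  have h2 := ht' (W ⊓ W') inf_le_right
  haveI : Nontrivial Γ(X, W ⊓ W') :=
    (X.presheaf.germ (W ⊓ W') x ⟨hxW, hxW'⟩).hom.domain_nontrivial
  let b1 := Module.Basis.mk h1.2 h1.1.ge
  let b2 := Module.Basis.mk h2.2 h2.1.ge
  have e1 := Module.finrank_eq_card_basis b1
  have e2 := Module.finrank_eq_card_basis b2
  rw [Fintype.card_fin] at e1 e2
  exact e1.symm.trans e2

/-- A smooth morphism whose sheaf of differentials is locally free of rank `n` is smooth of relative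
dimension `n`. -/
theorem smoothOfRelativeDimension_of_free {X Y : Scheme.{u}} (f : X ⟶ Y) [Smooth f]
    (Ω' : X.Modules) (d : OmegaSh.Der f Ω') (hd : OmegaSh.IsUniversal d) (n : ℕ)
    (h : FlatMod.IsFinLocFreeOfRank n Ω') : SmoothOfRelativeDimension n f := by
  refine ⟨fun x => ?_⟩
  obtain ⟨U, hU, V, hV, hxV, e, hstd⟩ := Smooth.exists_isStandardSmooth f x
  letI alg : Algebra Γ(Y, U) Γ(X, V) := (f.appLE U V e).hom.toAlgebra
  haveI hss : Algebra.IsStandardSmooth Γ(Y, U) Γ(X, V) := hstd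
  obtain ⟨ι, σ, hσ, hι, ⟨P⟩⟩ := hss.out
  haveI := hσ
  haveI := hι
  obtain ⟨n', hn'⟩ : ∃ n' : ℕ, P.dimension = n' := ⟨_, rfl⟩
  haveI hrel : Algebra.IsStandardSmoothOfRelativeDimension n' Γ(Y, U) Γ(X, V) :=
    ⟨⟨ι, σ, hσ, hι, P, hn'⟩⟩
  haveI : Nontrivial Γ(X, V) := (X.presheaf.germ V x hxV).hom.domain_nontrivial
  have hrank : Module.rank Γ(X, V) Ω[Γ(X, V)⁄Γ(Y, U)] = n' :=
    Algebra.IsStandardSmoothOfRelativeDimension.rank_kaehlerDifferential n'
  haveI hfree : Module.Free Γ(X, V) Ω[Γ(X, V)⁄Γ(Y, U)] := inferInstance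
  haveI hfin : Module.Finite Γ(X, V) Ω[Γ(X, V)⁄Γ(Y, U)] := Module.finite_of_rank_eq_nat hrank
  have hfr : Module.finrank Γ(X, V) Ω[Γ(X, V)⁄Γ(Y, U)] = n' := Module.finrank_eq_of_rank_eq hrank
  let b := Module.finBasisOfFinrankEq Γ(X, V) Ω[Γ(X, V)⁄Γ(Y, U)] hfr
  obtain ⟨L, -⟩ := Groth.Agent.Lib.OmegaResH4.receptacleSections f d hd hV hU e
  let b' := b.map L.symm
  haveI := Groth.Agent.Lib.OmegaRecQCH4.isQuasicoherent f d hd
  obtain ⟨α'⟩ := FLFH8.iso_of_basis Ω' hV (⇑b') b'.span_eq b'.linearIndependent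
  obtain ⟨U₂, hxU₂, ⟨α⟩⟩ := h x
  have hnn : n' = n := rank_unique Ω' hxV hxU₂ α' α
  subst hnn
  exact ⟨U, hU, V, hV, hxV, e, hrel⟩

end Rank

section Variety

variable (k : Type u) [Field k]

/-- dimension formula at a point of a scheme locally of finite type over a field. -/
theorem localDim_eq_coheight_add {T : Scheme.{u}} (π : T ⟶ Spec (CommRingCat.of k))
    [LocallyOfFiniteType π] (t : T) :
    FlatMor.localDim ↥T t = ((Order.coheight t : ℕ∞) : WithBot ℕ∞) +
      ((Cardinal.toENat (Dual3.resTrdeg π t) : ℕ∞) : WithBot ℕ∞) := by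
  haveI : Subsingleton ↥(Spec (CommRingCat.of k)) :=
    inferInstanceAs (Subsingleton (PrimeSpectrum k))
  rw [← Groth.Agent.Lib.ConsDimH7.fibreDimAt_eq_localDim_of_subsingleton π t, FibCohH8.fibreDimAt_eq π t,
    CodimZeroH8.fibCoh_eq_coheight_of_isMax π t
      (Order.coheight_eq_zero.mpr (fun _ _ => (Subsingleton.elim _ _).le))]

/-- the stalks of a scheme smooth over a field are regular. -/
theorem regular_stalk_of_smooth_field {Y : Scheme.{u}} (qY : Y ⟶ Spec (CommRingCat.of k))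
    [Smooth qY] (y : Y) : IsRegularLocalRing (Y.presheaf.stalk y) := by
  rw [Groth.Agent.Lib.SmoothRegIffH4.regular_iff_smooth qY y]
  obtain ⟨φ, hφ⟩ := Groth.Agent.Lib.SmoothRegFieldH3.exists_bijective_stalk_spec_field k (qY y)
  haveI : IsRegularLocalRing k :=
    Groth.Agent.Lib.NonVan2H7.isRegularLocalRing_of_isField k (Field.toIsField k)
  exact IsRegularLocalRing.of_ringEquiv (RingEquiv.ofBijective φ hφ)

theorem main10937 {X Y : Scheme.{u}} (qX : X ⟶ Spec (CommRingCat.of k))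
    (qY : Y ⟶ Spec (CommRingCat.of k))
    [IsIntegral X] [IsSeparated qX] [LocallyOfFiniteType qX]
    [IsIntegral Y] [LocallyOfFiniteType qY] [Smooth qY]
    (f : X ⟶ Y) (hf : f ≫ qY = qX) (n dY : ℕ) (hY : topologicalKrullDim ↥Y = dY)
    (hX : topologicalKrullDim ↥X = ((dY + n : ℕ) : WithBot ℕ∞)) :
    SmoothOfRelativeDimension n f ↔ FlatMod.IsFinLocFreeOfRank n (Omega.sheaf f) := by
  haveI : IsSeparated (f ≫ qY) := by rw [hf]; infer_instance
  haveI : IsSeparated f := IsSeparated.of_comp f qY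
  haveI : LocallyOfFiniteType (f ≫ qY) := by rw [hf]; infer_instance
  haveI : LocallyOfFiniteType f := locallyOfFiniteType_of_comp f qY
  haveI : IsLocallyNoetherian Y := LocallyOfFiniteType.isLocallyNoetherian qY
  have hd := Groth.Agent.Lib.OmegaUniv2H4.main5005 f
  constructor
  · intro hsm x
    haveI := hsm
    haveI : Smooth f := SmoothOfRelativeDimension.smooth n f
    obtain ⟨U, n', hxU, hiso, hfd⟩ :=
      Groth.Agent.Lib.OmegaSmoothFreeH4.main5019 f (Omega.sheaf f) (OmegaSh.dOmega f) hd x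
    have h2 := Groth.Agent.Lib.SmoothFibDimH4.main2768 n f x
    rw [hfd] at h2
    have hnn : n' = n := by exact_mod_cast h2
    subst hnn
    exact ⟨U, hxU, hiso⟩
  · intro hfree
    haveI : LocallyOfFinitePresentation f := by
      rw [HasRingHomProperty.iff_appLE (P := @LocallyOfFinitePresentation)]
      intro U V e
      have h1 := HasRingHomProperty.appLE (P := @LocallyOfFiniteType) f inferInstance U V e
      haveI : IsNoetherianRing Γ(Y, U.1) := IsLocallyNoetherian.component_noetherian U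
      exact RingHom.FinitePresentation.of_finiteType.1 h1
    have hreg : ∀ y : Y, IsRegularLocalRing (Y.presheaf.stalk y) :=
      regular_stalk_of_smooth_field k qY
    have hsmooth : Smooth f := by
      rw [← Scheme.Hom.smoothLocus_eq_top_iff]
      rw [eq_top_iff]
      intro x _
      obtain ⟨U, hxU, ⟨α⟩⟩ := hfree x
      obtain ⟨r, hr0⟩ := Groth.Agent.ResQuot2H8.exists_trdeg_nat f x
      obtain ⟨rY, hrY0⟩ := Groth.Agent.ResQuot2H8.exists_trdeg_nat qY (f x)
      have hr : Dual3.resTrdeg f x = (r : Cardinal) := hr0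
      have hrY : Dual3.resTrdeg qY (f x) = (rY : Cardinal) := hrY0
      refine mem_smoothLocus_of_free' f hreg (Omega.sheaf f) (OmegaSh.dOmega f) hd x r hr U n hxU α ?_
      -- dimension bookkeeping
      have hXirr : ∀ Z ∈ irreducibleComponents ↥X, topologicalKrullDim ↥Z =
          ((dY + n : ℕ) : WithBot ℕ∞) := by
        intro Z hZ
        rw [irreducibleComponents_eq_singleton, Set.mem_singleton_iff] at hZ
        subst hZ
        rw [← hX]
        exact IsHomeomorph.topologicalKrullDim_eq _ (Homeomorph.Set.univ ↥X).isHomeomorph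
      have hYirr : ∀ Z ∈ irreducibleComponents ↥Y, topologicalKrullDim ↥Z =
          ((dY : ℕ) : WithBot ℕ∞) := by
        intro Z hZ
        rw [irreducibleComponents_eq_singleton, Set.mem_singleton_iff] at hZ
        subst hZ
        rw [← hY]
        exact IsHomeomorph.topologicalKrullDim_eq _ (Homeomorph.Set.univ ↥Y).isHomeomorph
      have hlX := Groth.Agent.Lib.AffDimH8.localDim_eq_of_equidim k X (f ≫ qY) _ hXirr x
      have hlY := Groth.Agent.Lib.AffDimH8.localDim_eq_of_equidim k Y qY _ hYirr (f x)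
      rw [localDim_eq_coheight_add k (f ≫ qY) x, ResTrdegH8.resTrdeg_comp f qY x, hr, hrY] at hlX
      rw [localDim_eq_coheight_add k qY (f x), hrY] at hlY
      rw [AlgebraicGeometry.ringKrullDim_stalk_eq_coheight,
        AlgebraicGeometry.ringKrullDim_stalk_eq_coheight]
      simp only [← Nat.cast_add, Cardinal.toENat_nat] at hlX hlY
      have h1 : Order.coheight x + ((rY + r : ℕ) : ℕ∞) = ((dY + n : ℕ) : ℕ∞) := by
        exact_mod_cast hlX
      have h2 : Order.coheight (f x) + ((rY : ℕ) : ℕ∞) = ((dY : ℕ) : ℕ∞) := by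
        exact_mod_cast hlY
      have hfin1 : Order.coheight x ≠ ⊤ := by
        intro h
        rw [h, top_add] at h1
        exact ENat.coe_ne_top _ h1.symm
      have hfin2 : Order.coheight (f x) ≠ ⊤ := by
        intro h
        rw [h, top_add] at h2
        exact ENat.coe_ne_top _ h2.symm
      obtain ⟨a, ha⟩ := ENat.ne_top_iff_exists.mp hfin1
      obtain ⟨b, hb⟩ := ENat.ne_top_iff_exists.mp hfin2
      rw [← ha] at h1 ⊢
      rw [← hb] at h2 ⊢
      have h1' : a + (rY + r) = dY + n := by exact_mod_cast h1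
      have h2' : b + rY = dY := by exact_mod_cast h2
      have : b + n ≤ a + r := by omega
      exact_mod_cast this
    haveI := hsmooth
    exact smoothOfRelativeDimension_of_free f (Omega.sheaf f) (OmegaSh.dOmega f) hd n hfree

end Variety

end Groth.Agent.Lib.JacDimSchH3
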