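import Mathlib
import Groth.Prelude
import Groth.Agent.Lib.CotSmooth1_helper3
import Groth.Agent.Lib.JacDimSch2_helper3
import Groth.Agent.Lib.RegLoc_helper3
import Groth.Agent.Lib.CMMor9_helper8

/-!
# Cotangent-map criterion for smoothness of morphisms of nonsingular varieties (helper3)
APPEND-ONLY once landed.
-/

set_option autoImplicit false
set_option maxHeartbeats 1600000
universe u

open CategoryTheory CategoryTheory.Limits AlgebraicGeometry TopologicalSpace Opposite IsLocalRing

namespace Groth.Agent.Lib.CotSmoothH3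

section Dict

variable {X Y : Scheme.{u}} (f : X ⟶ Y) (x : X)

theorem stalkMapAt_rfl : FixPt.stalkMapAt f x (f x) rfl = (f.stalkMap x).hom := by
  unfold FixPt.stalkMapAt
  have h : (Y.presheaf.stalkCongr (Inseparable.of_eq (rfl : f x = f x))).inv = 𝟙 _ :=
    TopCat.Presheaf.stalkSpecializes_refl _ _
  rw [h, Category.id_comp]

/-- the cotangent map of `f` at `x` is injective iff it is so elementwise. -/
theorem cotangentMapAt_injective_iff :
    letI := (f.stalkMap x).hom.toAlgebra
    Function.Injective (FixPt.cotangentMapAt f x (f x) rfl) ↔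
      CotInj (Y.presheaf.stalk (f x)) (X.presheaf.stalk x) := by
  letI alg : Algebra (Y.presheaf.stalk (f x)) (X.presheaf.stalk x) := (f.stalkMap x).hom.toAlgebra
  have hle := FixPt.maximalIdeal_le_comap_stalkMapAt f x (f x) rfl
  have key : ∀ (a : Y.presheaf.stalk (f x)) (ha : a ∈ maximalIdeal (Y.presheaf.stalk (f x))),
      FixPt.cotangentMapAt f x (f x) rfl ((maximalIdeal _).toCotangent ⟨a, ha⟩) =
        (maximalIdeal _).toCotangent ⟨(f.stalkMap x).hom a, by
          have := hle ha
          rwa [Ideal.mem_comap, stalkMapAt_rfl] at this⟩ := by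
    intro a ha
    unfold FixPt.cotangentMapAt
    rw [Ideal.mapCotangent_toCotangent]
    congr 2
    exact congrFun (congrArg DFunLike.coe (stalkMapAt_rfl f x)) a
  constructor
  · intro hinj a ha hab
    have h2 : (maximalIdeal (Y.presheaf.stalk (f x))).toCotangent ⟨a, ha⟩ = 0 := by
      apply hinj
      rw [key a ha, map_zero, Ideal.toCotangent_eq_zero]
      exact hab
    exact (Ideal.toCotangent_eq_zero _ _).mp h2
  · intro hinj
    rw [injective_iff_map_eq_zero]
    intro v hv
    obtain ⟨⟨a, ha⟩, rfl⟩ := (maximalIdeal _).toCotangent_surjective v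
    rw [key a ha, Ideal.toCotangent_eq_zero] at hv
    rw [Ideal.toCotangent_eq_zero]
    exact hinj a ha hv

end Dict

section Smooth

variable {X Y : Scheme.{u}} (f : X ⟶ Y)

/-- (⇒): a smooth morphism to a locally Noetherian scheme is injective on cotangent spaces. -/
theorem cotangentMapAt_injective_of_smooth [IsLocallyNoetherian Y] [Smooth f] (x : X) :
    Function.Injective (FixPt.cotangentMapAt f x (f x) rfl) := by
  rw [cotangentMapAt_injective_iff]
  haveI : IsLocallyNoetherian X := LocallyOfFiniteType.isLocallyNoetherian f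
  letI : Algebra (Y.presheaf.stalk (f x)) (X.presheaf.stalk x) := (f.stalkMap x).hom.toAlgebra
  haveI : IsLocalHom (algebraMap (Y.presheaf.stalk (f x)) (X.presheaf.stalk x)) :=
    inferInstanceAs (IsLocalHom (f.stalkMap x).hom)
  haveI : Module.Flat (Y.presheaf.stalk (f x)) (X.presheaf.stalk x) := Flat.stalkMap f x
  haveI hreg := Groth.Agent.Lib.FibCodim2H4.fiberStalk_regular f x
  haveI : IsRegularLocalRing (X.presheaf.stalk x ⧸
      Ideal.map (algebraMap (Y.presheaf.stalk (f x)) (X.presheaf.stalk x))
        (maximalIdeal (Y.presheaf.stalk (f x)))) :=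
    IsRegularLocalRing.of_ringEquiv (Groth.Agent.FibStalkIso.fibStalkEquiv f x).symm
  exact cotInj_of_flat _ _

/-- regular stalks ⇒ the stalks are regular rings. -/
theorem isRegularRing_stalk [IsLocallyNoetherian Y]
    (hreg : ∀ y : Y, IsRegularLocalRing (Y.presheaf.stalk y)) (y : Y) :
    IsRegularRing (Y.presheaf.stalk y) := by
  obtain ⟨_, ⟨U, hU, rfl⟩, hyU, -⟩ :=
    Y.isBasis_affineOpens.exists_subset_of_mem_open (Set.mem_univ y) isOpen_univ
  haveI : IsRegularRing Γ(Y, U) := Groth.Agent.Lib.JacDimSchH3.isRegularRing_of_stalks hreg hU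
  letI := TopCat.Presheaf.algebra_section_stalk Y.presheaf (⟨y, hyU⟩ : U)
  haveI := IsAffineOpen.isLocalization_stalk hU ⟨y, hyU⟩
  exact Groth.Agent.Lib.RegLocH3.isRegularRing_of_isLocalization
    (hU.primeIdealOf ⟨y, hyU⟩).asIdeal.primeCompl (Y.presheaf.stalk y)

/-- (⇐), pointwise: regular source and target stalks, equal residue fields, injective cotangent map
⇒ smooth at the point. -/
theorem mem_smoothLocus_of_cotangentMapAt_injective [IsLocallyNoetherian Y] [LocallyOfFiniteType f]
    (hreg : ∀ y : Y, IsRegularLocalRing (Y.presheaf.stalk y)) (x : X)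
    (hregx : IsRegularLocalRing (X.presheaf.stalk x))
    (hres : ∀ b : X.presheaf.stalk x, ∃ a : Y.presheaf.stalk (f x),
      b - (f.stalkMap x).hom a ∈ maximalIdeal (X.presheaf.stalk x))
    (hinj : Function.Injective (FixPt.cotangentMapAt f x (f x) rfl)) : x ∈ f.smoothLocus := by
  rw [cotangentMapAt_injective_iff] at hinj
  rw [Scheme.Hom.mem_smoothLocus]
  letI : Algebra (Y.presheaf.stalk (f x)) (X.presheaf.stalk x) := (f.stalkMap x).hom.toAlgebra
  haveI : IsLocalHom (algebraMap (Y.presheaf.stalk (f x)) (X.presheaf.stalk x)) :=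
    inferInstanceAs (IsLocalHom (f.stalkMap x).hom)
  haveI : Algebra.EssFiniteType (Y.presheaf.stalk (f x)) (X.presheaf.stalk x) :=
    LocallyOfFiniteType.stalkMap f x
  haveI := isRegularRing_stalk hreg (f x)
  haveI := hregx
  show Algebra.FormallySmooth (Y.presheaf.stalk (f x)) (X.presheaf.stalk x)
  exact formallySmooth_of_cotInj hres hinj

end Smooth

section AlgClosed

variable {k : Type u} [Field k] [IsAlgClosed k] {X Y : Scheme.{u}}
  (qX : X ⟶ Spec (CommRingCat.of k)) (qY : Y ⟶ Spec (CommRingCat.of k)) [LocallyOfFiniteType qX]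
  (f : X ⟶ Y) (hf : f ≫ qY = qX)

include hf in
/-- at a closed point of a scheme locally of finite type over an algebraically closed field the
residue field is the base field, so local rings of the target surject onto it. -/
theorem exists_sub_mem_of_isClosed (x : X) (hx : IsClosed ({x} : Set X))
    (b : X.presheaf.stalk x) : ∃ a : Y.presheaf.stalk (f x),
      b - (f.stalkMap x).hom a ∈ maximalIdeal (X.presheaf.stalk x) := by
  let φX : CommRingCat.of k ⟶ X.presheaf.stalk x := Spec.preimage (X.fromSpecStalk x ≫ qX)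
  let φY : CommRingCat.of k ⟶ Y.presheaf.stalk (f x) := Spec.preimage (Y.fromSpecStalk (f x) ≫ qY)
  have h1 : φX ≫ X.residue x = (residueFieldIsoBase qX x hx).inv := by
    apply Spec.map_injective
    rw [Spec.map_comp, Spec.map_preimage, SpecMap_residueFieldIsoBase_inv]
    rfl
  have h2 : φX = φY ≫ f.stalkMap x := by
    apply Spec.map_injective
    rw [Spec.map_comp, Spec.map_preimage, Spec.map_preimage,
      ← Category.assoc, Scheme.SpecMap_stalkMap_fromSpecStalk, Category.assoc, hf]
  have hbij : Function.Bijective (residueFieldIsoBase qX x hx).inv.hom :=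
    ConcreteCategory.bijective_of_isIso (residueFieldIsoBase qX x hx).inv
  obtain ⟨c, hc⟩ := hbij.2 ((X.residue x).hom b)
  refine ⟨φY.hom c, ?_⟩
  rw [← residue_eq_zero_iff, map_sub, sub_eq_zero]
  have h3 : (X.residue x).hom ((f.stalkMap x).hom (φY.hom c)) =
      (residueFieldIsoBase qX x hx).inv.hom c := by
    rw [← h1, h2]
    rfl
  exact (hc.symm.trans h3.symm)

end AlgClosed

end Groth.Agent.Lib.CotSmoothH3
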