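import Mathlib
import Groth.Prelude
import Groth.Agent.Lib.CotDom1_helper3
import Groth.Agent.Lib.CotSmooth2_helper3
import Groth.Agent.Lib.GenSmoothReg_helper6
import Groth.Agent.Lib.SmoothRegField_helper3

/-!
# Dominance and the differential at a regular closed point (helper3)
APPEND-ONLY once landed.
-/

set_option autoImplicit false
set_option maxHeartbeats 1600000
universe u

open CategoryTheory CategoryTheory.Limits AlgebraicGeometry TopologicalSpace Opposite IsLocalRing

namespace Groth.Agent.Lib.CotDomH3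

open Groth.Agent.Lib.CotSmoothH3

section Gen

variable {X Y : Scheme.{u}} (u : X ⟶ Y)

/-- the smooth locus, as an open subscheme, is smooth over the base. -/
theorem smooth_smoothLocus_ι [LocallyOfFinitePresentation u] : Smooth (u.smoothLocus.ι ≫ u) := by
  rw [← Scheme.Hom.smoothLocus_eq_top_iff, ← Scheme.Hom.preimage_smoothLocus_eq,
    Scheme.Opens.ι_preimage_self]

/-- a morphism which is smooth at some point, to an irreducible scheme, is dominant. -/
theorem isDominant_of_mem_smoothLocus [LocallyOfFinitePresentation u] [IrreducibleSpace Y]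
    (P : X) (hP : P ∈ u.smoothLocus) : IsDominant u := by
  haveI := smooth_smoothLocus_ι u
  have hop : IsOpenMap (u.smoothLocus.ι ≫ u) := (u.smoothLocus.ι ≫ u).isOpenMap
  have h1 : IsOpen (Set.range (u.smoothLocus.ι ≫ u)) := hop.isOpen_range
  have h2 : (Set.range (u.smoothLocus.ι ≫ u)).Nonempty := ⟨_, ⟨⟨P, hP⟩, rfl⟩⟩
  have h3 : Dense (Set.range (u.smoothLocus.ι ≫ u)) := h1.dense h2
  refine ⟨h3.mono ?_⟩
  rintro _ ⟨x, rfl⟩
  exact ⟨u.smoothLocus.ι x, rfl⟩

end Gen

section Main

variable {k : Type u} [Field k] {X Y : Scheme.{u}}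
  (qX : X ⟶ Spec (CommRingCat.of k)) (qY : Y ⟶ Spec (CommRingCat.of k))
  [LocallyOfFiniteType qX] [LocallyOfFiniteType qY]
  (u : X ⟶ Y) (hu : u ≫ qY = qX)

include hu in
theorem lfp_of_over : LocallyOfFinitePresentation u := by
  haveI : LocallyOfFiniteType (u ≫ qY) := by rw [hu]; infer_instance
  haveI : LocallyOfFiniteType u := locallyOfFiniteType_of_comp u qY
  haveI : IsLocallyNoetherian Y := LocallyOfFiniteType.isLocallyNoetherian qY
  rw [HasRingHomProperty.iff_appLE (P := @LocallyOfFinitePresentation)]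
  intro U V e
  have h1 := HasRingHomProperty.appLE (P := @LocallyOfFiniteType) u inferInstance U V e
  haveI : IsNoetherianRing Γ(Y, U.1) := IsLocallyNoetherian.component_noetherian U
  exact RingHom.FinitePresentation.of_finiteType.1 h1

include hu in
/-- (⇐) -/
theorem isDominant_of_cotInj [IsAlgClosed k] [IsIntegral Y] (P : X) (hP : IsClosed ({P} : Set X))
    (hreg : IsRegularLocalRing (X.presheaf.stalk P))
    (hinj : ∀ a ∈ maximalIdeal (Y.presheaf.stalk (u P)),
      (u.stalkMap P).hom a ∈ maximalIdeal (X.presheaf.stalk P) ^ 2 →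
        a ∈ maximalIdeal (Y.presheaf.stalk (u P)) ^ 2) : IsDominant u := by
  haveI : LocallyOfFiniteType (u ≫ qY) := by rw [hu]; infer_instance
  haveI : LocallyOfFiniteType u := locallyOfFiniteType_of_comp u qY
  haveI : IsLocallyNoetherian Y := LocallyOfFiniteType.isLocallyNoetherian qY
  haveI : IsLocallyNoetherian X := LocallyOfFiniteType.isLocallyNoetherian qX
  haveI : LocallyOfFinitePresentation u := lfp_of_over qX qY u hu
  refine isDominant_of_mem_smoothLocus u P ?_
  rw [Scheme.Hom.mem_smoothLocus]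
  letI : Algebra (Y.presheaf.stalk (u P)) (X.presheaf.stalk P) := (u.stalkMap P).hom.toAlgebra
  haveI : IsLocalHom (algebraMap (Y.presheaf.stalk (u P)) (X.presheaf.stalk P)) :=
    inferInstanceAs (IsLocalHom (u.stalkMap P).hom)
  haveI : Algebra.EssFiniteType (Y.presheaf.stalk (u P)) (X.presheaf.stalk P) :=
    LocallyOfFiniteType.stalkMap u P
  haveI := hreg
  have hres := exists_sub_mem_of_isClosed qX qY u hu P hP
  show Algebra.FormallySmooth (Y.presheaf.stalk (u P)) (X.presheaf.stalk P)
  exact formallySmooth_of_cotInj' hres hinj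

include hu in
/-- (⇒) -/
theorem exists_closedPoint_of_isDominant [CharZero k] [QuasiCompact qX] [IsReduced X]
    [IsIntegral Y] [IsDominant u] :
    ∃ P : X, IsClosed ({P} : Set X) ∧ IsRegularLocalRing (X.presheaf.stalk P) ∧
      ∀ a ∈ maximalIdeal (Y.presheaf.stalk (u P)),
        (u.stalkMap P).hom a ∈ maximalIdeal (X.presheaf.stalk P) ^ 2 →
          a ∈ maximalIdeal (Y.presheaf.stalk (u P)) ^ 2 := by
  haveI : PerfectField k := PerfectField.ofCharZero
  haveI : LocallyOfFiniteType (u ≫ qY) := by rw [hu]; infer_instance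
  haveI : LocallyOfFiniteType u := locallyOfFiniteType_of_comp u qY
  haveI : IsLocallyNoetherian Y := LocallyOfFiniteType.isLocallyNoetherian qY
  haveI : IsLocallyNoetherian X := LocallyOfFiniteType.isLocallyNoetherian qX
  haveI : LocallyOfFinitePresentation u := lfp_of_over qX qY u hu
  haveI : LocallyOfFinitePresentation qX :=
    lfp_of_over qX (𝟙 (Spec (CommRingCat.of k))) qX (Category.comp_id _)
  haveI : QuasiCompact (u ≫ qY) := by rw [hu]; infer_instance
  haveI : QuasiCompact u := QuasiCompact.of_comp u qY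
  have hWd : Dense (qX.smoothLocus : Set X) := Scheme.Hom.dense_smoothLocus_of_perfectField qX
  haveI : Smooth (qX.smoothLocus.ι ≫ qX) := smooth_smoothLocus_ι qX
  have hreg : ∀ x : qX.smoothLocus.toScheme,
      IsRegularLocalRing (qX.smoothLocus.toScheme.presheaf.stalk x) := fun x =>
    Groth.Agent.Lib.JacDimSchH3.regular_stalk_of_smooth_field k (qX.smoothLocus.ι ≫ qX) x
  -- the function field of `Y` has characteristic zero
  obtain ⟨φ, -⟩ := Groth.Agent.Lib.SmoothRegFieldH3.exists_bijective_stalk_spec_field k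
    (qY (genericPoint Y))
  let ψ : k →+* Y.functionField := (qY.stalkMap (genericPoint Y)).hom.comp φ
  haveI : CharZero Y.functionField := charZero_of_injective_ringHom ψ.injective
  haveI : PerfectField Y.functionField := PerfectField.ofCharZero
  obtain ⟨V, hηV, hVle⟩ := Groth.Agent.Lib.GenSmoothRegH6.exists_open_preimage_le
    (qX.smoothLocus.ι ≫ u) (qX.smoothLocus.ι ≫ u).smoothLocus
    (fun x hx => Groth.Agent.Lib.GenSmoothRegH6.mem_smoothLocus_of_regular_of_perfect
      (qX.smoothLocus.ι ≫ u) x hx (hreg x))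
  -- the preimage of `V` is nonempty
  have hdr : DenseRange (qX.smoothLocus.ι ≫ u) := by
    have h1 : DenseRange qX.smoothLocus.ι := by
      rw [DenseRange, Scheme.Opens.range_ι]
      exact hWd
    exact (IsDominant.denseRange (f := u)).comp h1 u.continuous
  obtain ⟨x', hx'⟩ := hdr.exists_mem_open V.2
    (show (V : Set Y).Nonempty from ⟨genericPoint Y, hηV⟩)
  -- a closed point
  haveI : JacobsonSpace X := LocallyOfFiniteType.jacobsonSpace qX
  have hZo : IsOpen (qX.smoothLocus.ι ''
      (((qX.smoothLocus.ι ≫ u) ⁻¹ᵁ V : qX.smoothLocus.toScheme.Opens) : Set qX.smoothLocus)) :=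
    qX.smoothLocus.ι.isOpenEmbedding.isOpenMap _ ((qX.smoothLocus.ι ≫ u) ⁻¹ᵁ V).2
  have hZne : (qX.smoothLocus.ι ''
      (((qX.smoothLocus.ι ≫ u) ⁻¹ᵁ V : qX.smoothLocus.toScheme.Opens) :
        Set qX.smoothLocus)).Nonempty := ⟨qX.smoothLocus.ι x', ⟨x', hx', rfl⟩⟩
  obtain ⟨P, ⟨P', hP'T, rfl⟩, hPc⟩ := nonempty_inter_closedPoints (X := X)
    hZne hZo.isLocallyClosed
  refine ⟨qX.smoothLocus.ι P', hPc, ?_, ?_⟩
  · -- regular
    have h1 : qX.smoothLocus.ι P' ∈ qX.smoothLocus := P'.2
    rw [Scheme.Hom.mem_smoothLocus] at h1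
    letI : Algebra ((Spec (CommRingCat.of k)).presheaf.stalk (qX (qX.smoothLocus.ι P')))
        (X.presheaf.stalk (qX.smoothLocus.ι P')) :=
      (qX.stalkMap (qX.smoothLocus.ι P')).hom.toAlgebra
    haveI : Algebra.FormallySmooth
        ((Spec (CommRingCat.of k)).presheaf.stalk (qX (qX.smoothLocus.ι P')))
        (X.presheaf.stalk (qX.smoothLocus.ι P')) := h1
    obtain ⟨φ', hφ'⟩ := Groth.Agent.Lib.SmoothRegFieldH3.exists_bijective_stalk_spec_field k
      (qX (qX.smoothLocus.ι P'))
    exact Groth.Agent.Lib.SmoothRegFieldH3.regular_of_formallySmooth_of_bijective φ' hφ'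
  · -- cotangent injectivity
    have h1 : P' ∈ (qX.smoothLocus.ι ≫ u).smoothLocus := hVle hP'T
    rw [← Scheme.Hom.preimage_smoothLocus_eq] at h1
    have h2 : qX.smoothLocus.ι P' ∈ u.smoothLocus := h1
    rw [Scheme.Hom.mem_smoothLocus] at h2
    letI : Algebra (Y.presheaf.stalk (u (qX.smoothLocus.ι P')))
        (X.presheaf.stalk (qX.smoothLocus.ι P')) :=
      (u.stalkMap (qX.smoothLocus.ι P')).hom.toAlgebra
    haveI : IsLocalHom (algebraMap (Y.presheaf.stalk (u (qX.smoothLocus.ι P')))
        (X.presheaf.stalk (qX.smoothLocus.ι P'))) :=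
      inferInstanceAs (IsLocalHom (u.stalkMap (qX.smoothLocus.ι P')).hom)
    haveI : Algebra.FormallySmooth (Y.presheaf.stalk (u (qX.smoothLocus.ι P')))
        (X.presheaf.stalk (qX.smoothLocus.ι P')) := h2
    exact cotInj_of_formallySmooth _ _

end Main

end Groth.Agent.Lib.CotDomH3
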