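import Mathlib

/-! Fibre of relative Kähler differentials at a rational point and the rank of the cotangent map
(helper1). -/

set_option autoImplicit false

universe u

namespace Groth.Agent.Lib.CotFibreH1

open IsLocalRing TensorProduct

section resid

variable (k : Type u) [Field k] (B : Type u) [CommRing B] [IsLocalRing B] [Algebra k B]
  (hB : Function.Bijective (algebraMap k (ResidueField B)))

/-- the constant term -/
noncomputable def cst (b : B) : k := Function.surjInv hB.2 (residue B b)

theorem cst_spec (b : B) : algebraMap k (ResidueField B) (cst k B hB b) = residue B b :=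
  Function.surjInv_eq hB.2 _

theorem residue_algebraMap (c : k) :
    residue B (algebraMap k B c) = algebraMap k (ResidueField B) c := by
  rw [IsScalarTower.algebraMap_apply k B (ResidueField B), ResidueField.algebraMap_eq]

theorem cst_unique (b : B) (c : k) (h : algebraMap k (ResidueField B) c = residue B b) :
    cst k B hB b = c :=
  hB.1 ((cst_spec k B hB b).trans h.symm)

theorem cst_add (b b' : B) : cst k B hB (b + b') = cst k B hB b + cst k B hB b' :=
  cst_unique k B hB _ _ (by rw [map_add, map_add, cst_spec, cst_spec])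

theorem cst_mul (b b' : B) : cst k B hB (b * b') = cst k B hB b * cst k B hB b' :=
  cst_unique k B hB _ _ (by rw [map_mul, map_mul, cst_spec, cst_spec])

theorem cst_algebraMap (c : k) : cst k B hB (algebraMap k B c) = c :=
  cst_unique k B hB _ _ (residue_algebraMap k B c).symm

theorem cst_of_mem (b : B) (hb : b ∈ maximalIdeal B) : cst k B hB b = 0 :=
  cst_unique k B hB _ _ (by rw [map_zero, (residue_eq_zero_iff b).mpr hb])

theorem sub_cst_mem (b : B) : b - algebraMap k B (cst k B hB b) ∈ maximalIdeal B := by
  rw [← residue_eq_zero_iff, map_sub, residue_algebraMap, cst_spec, sub_self]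

/-- the "linear part" -/
noncomputable def del (b : B) : (maximalIdeal B).Cotangent :=
  (maximalIdeal B).toCotangent ⟨b - algebraMap k B (cst k B hB b), sub_cst_mem k B hB b⟩

theorem del_add (b b' : B) : del k B hB (b + b') = del k B hB b + del k B hB b' := by
  unfold del
  rw [← map_add]
  congr 1
  apply Subtype.ext
  show b + b' - algebraMap k B (cst k B hB (b + b')) = (b - _) + (b' - _)
  rw [cst_add, map_add]
  ring

theorem del_mul (b b' : B) :
    del k B hB (b * b') = b • del k B hB b' + b' • del k B hB b := by
  unfold del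
  rw [← map_smul, ← map_smul, ← map_add, Ideal.toCotangent_eq]
  have h : ((⟨b * b' - algebraMap k B (cst k B hB (b * b')), sub_cst_mem k B hB _⟩ :
        maximalIdeal B) : B)
      - ((b • (⟨b' - algebraMap k B (cst k B hB b'), sub_cst_mem k B hB b'⟩ : maximalIdeal B)
        + b' • (⟨b - algebraMap k B (cst k B hB b), sub_cst_mem k B hB b⟩ : maximalIdeal B) :
        maximalIdeal B) : B)
      = - ((b - algebraMap k B (cst k B hB b)) * (b' - algebraMap k B (cst k B hB b'))) := by
    simp only [Submodule.coe_add, Submodule.coe_smul, smul_eq_mul]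
    rw [cst_mul, map_mul]
    ring
  rw [h]
  refine neg_mem ?_
  rw [pow_two]
  exact Ideal.mul_mem_mul (sub_cst_mem k B hB b) (sub_cst_mem k B hB b')

theorem del_of_mem (x : maximalIdeal B) :
    del k B hB (x : B) = (maximalIdeal B).toCotangent x := by
  unfold del
  congr 1
  apply Subtype.ext
  show (x : B) - algebraMap k B (cst k B hB x) = x
  rw [cst_of_mem k B hB x x.2, map_zero, sub_zero]

theorem smul_cot (b : B) (w : (maximalIdeal B).Cotangent) : b • w = cst k B hB b • w := by
  have h1 : b = algebraMap k B (cst k B hB b) + (b - algebraMap k B (cst k B hB b)) := by ring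
  conv_lhs => rw [h1]
  rw [add_smul, Ideal.Cotangent.smul_eq_zero_of_mem (sub_cst_mem k B hB b), add_zero,
    algebraMap_smul]

include hB in
theorem finite_cot [IsNoetherianRing B] : Module.Finite k (maximalIdeal B).Cotangent := by
  haveI : Module.Finite B (maximalIdeal B).Cotangent :=
    Module.Finite.of_surjective (maximalIdeal B).toCotangent
      (maximalIdeal B).toCotangent_surjective
  obtain ⟨S, hS⟩ := (Module.Finite.fg_top : (⊤ : Submodule B (maximalIdeal B).Cotangent).FG)
  refine ⟨⟨S, ?_⟩⟩
  rw [eq_top_iff]
  intro w hw0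
  clear hw0
  have hw : w ∈ Submodule.span B (S : Set (maximalIdeal B).Cotangent) := by
    rw [hS]
    trivial
  induction hw using Submodule.span_induction with
  | mem x hx => exact Submodule.subset_span hx
  | zero => exact zero_mem _
  | add x y _ _ hx hy => exact add_mem hx hy
  | smul b x _ hx =>
    rw [smul_cot k B hB]
    exact Submodule.smul_mem _ _ hx

end resid

section main

variable (k : Type u) [Field k] (A B : Type u) [CommRing A] [CommRing B] [IsLocalRing A]
  [IsLocalRing B] [Algebra k A] [Algebra k B] [Algebra A B] [IsScalarTower k A B]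
  (hle : maximalIdeal A ≤ Ideal.comap (IsScalarTower.toAlgHom k A B) (maximalIdeal B))
  (hA : Function.Bijective (algebraMap k (ResidueField A)))
  (hB : Function.Bijective (algebraMap k (ResidueField B)))

theorem smul_one_eq_zero (x : maximalIdeal B) : ((x : B) • (1 : ResidueField B)) = 0 := by
  rw [Algebra.smul_def, mul_one, ResidueField.algebraMap_eq, residue_eq_zero_iff]
  exact x.2

theorem one_tmul_smul_eq_zero (x : maximalIdeal B) (ω : Ω[B⁄A]) :
    (1 : ResidueField B) ⊗ₜ[B] ((x : B) • ω) = 0 := by
  rw [TensorProduct.tmul_smul, TensorProduct.smul_tmul', smul_one_eq_zero, TensorProduct.zero_tmul]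

/-- `x ↦ 1 ⊗ D x` on the maximal ideal -/
noncomputable def psi0 : maximalIdeal B →ₗ[B] TensorProduct B (ResidueField B) (Ω[B⁄A]) where
  toFun x := (1 : ResidueField B) ⊗ₜ[B] KaehlerDifferential.D A B (x : B)
  map_add' x y := by rw [Submodule.coe_add, map_add, TensorProduct.tmul_add]
  map_smul' b x := by
    rw [RingHom.id_apply]
    show (1 : ResidueField B) ⊗ₜ[B] KaehlerDifferential.D A B (b * (x : B)) = _
    rw [Derivation.leibniz, TensorProduct.tmul_add, one_tmul_smul_eq_zero, add_zero,
      TensorProduct.tmul_smul]

/-- `[x] ↦ 1 ⊗ D x` on the cotangent space -/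
noncomputable def psi :
    (maximalIdeal B).Cotangent →ₗ[B] TensorProduct B (ResidueField B) (Ω[B⁄A]) :=
  Ideal.Cotangent.lift (psi0 A B) (by
    intro x y
    show (1 : ResidueField B) ⊗ₜ[B] KaehlerDifferential.D A B ((x : B) * (y : B)) = 0
    rw [Derivation.leibniz, TensorProduct.tmul_add, one_tmul_smul_eq_zero, one_tmul_smul_eq_zero,
      add_zero])

theorem psi_toCotangent (x : maximalIdeal B) :
    psi A B ((maximalIdeal B).toCotangent x)
      = (1 : ResidueField B) ⊗ₜ[B] KaehlerDifferential.D A B (x : B) := rfl

include hB in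
theorem one_tmul_mem (ω : Ω[B⁄A]) :
    (1 : ResidueField B) ⊗ₜ[B] ω ∈ LinearMap.range (psi A B) := by
  have hω : ω ∈ Submodule.span B (Set.range (KaehlerDifferential.D A B)) := by
    rw [KaehlerDifferential.span_range_derivation]
    trivial
  induction hω using Submodule.span_induction with
  | mem x hx =>
    obtain ⟨b', rfl⟩ := hx
    refine ⟨(maximalIdeal B).toCotangent
      ⟨b' - algebraMap k B (cst k B hB b'), sub_cst_mem k B hB b'⟩, ?_⟩
    rw [psi_toCotangent]
    show (1 : ResidueField B) ⊗ₜ[B]
      KaehlerDifferential.D A B (b' - algebraMap k B (cst k B hB b')) = _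
    rw [map_sub, IsScalarTower.algebraMap_apply k A B, Derivation.map_algebraMap, sub_zero]
  | zero =>
    rw [TensorProduct.tmul_zero]
    exact zero_mem _
  | add x y _ _ hx hy =>
    rw [TensorProduct.tmul_add]
    exact add_mem hx hy
  | smul b' x _ hx =>
    rw [TensorProduct.tmul_smul]
    exact Submodule.smul_mem _ _ hx

include hB in
theorem psi_surjective : Function.Surjective (psi A B) := by
  intro t
  induction t using TensorProduct.induction_on with
  | zero => exact ⟨0, map_zero _⟩
  | add x y hx hy =>
    obtain ⟨a, rfl⟩ := hx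
    obtain ⟨b, rfl⟩ := hy
    exact ⟨a + b, map_add _ _ _⟩
  | tmul c ω =>
    obtain ⟨b, rfl⟩ := residue_surjective c
    have h1 : (residue B b) ⊗ₜ[B] ω = b • ((1 : ResidueField B) ⊗ₜ[B] ω) := by
      rw [TensorProduct.smul_tmul', Algebra.smul_def, mul_one, ResidueField.algebraMap_eq]
    rw [h1]
    obtain ⟨w, hw⟩ := one_tmul_mem k A B hB ω
    exact ⟨b • w, by rw [map_smul, hw]⟩

variable (φ : (maximalIdeal B).Cotangent →ₗ[k] k)

/-- the derivation attached to a functional, as a function -/
noncomputable def dfun (b : B) : ResidueField B :=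
  algebraMap k (ResidueField B) (φ (del k B hB b))

theorem dfun_add (b b' : B) : dfun k B hB φ (b + b') = dfun k B hB φ b + dfun k B hB φ b' := by
  unfold dfun
  rw [del_add, map_add, map_add]

theorem dfun_mul (b b' : B) :
    dfun k B hB φ (b * b') = b • dfun k B hB φ b' + b' • dfun k B hB φ b := by
  unfold dfun
  have h1 : φ (del k B hB (b * b'))
      = cst k B hB b * φ (del k B hB b') + cst k B hB b' * φ (del k B hB b) := by
    rw [del_mul, map_add, smul_cot k B hB b, smul_cot k B hB b', map_smul, map_smul, smul_eq_mul,
      smul_eq_mul]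
  rw [h1, map_add, map_mul, map_mul, cst_spec, cst_spec, Algebra.smul_def, Algebra.smul_def,
    ResidueField.algebraMap_eq]

include hA in
theorem del_algebraMap_mem (a : A) : del k B hB (algebraMap A B a) ∈
    LinearMap.range (Ideal.mapCotangent (maximalIdeal A) (maximalIdeal B)
      (IsScalarTower.toAlgHom k A B) hle) := by
  obtain ⟨c', hc'⟩ := hA.2 (residue A a)
  have ha₀ : a - algebraMap k A c' ∈ maximalIdeal A := by
    rw [← residue_eq_zero_iff, map_sub, residue_algebraMap k A, hc', sub_self]
  have hfa₀ : algebraMap A B (a - algebraMap k A c') ∈ maximalIdeal B := hle ha₀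
  have hc : cst k B hB (algebraMap A B a) = c' := by
    apply cst_unique
    have h1 := (residue_eq_zero_iff _).mpr hfa₀
    rw [map_sub, map_sub, ← IsScalarTower.algebraMap_apply k A B, residue_algebraMap k B,
      sub_eq_zero] at h1
    exact h1.symm
  refine ⟨(maximalIdeal A).toCotangent ⟨a - algebraMap k A c', ha₀⟩, ?_⟩
  rw [Ideal.mapCotangent_toCotangent]
  unfold del
  congr 1
  apply Subtype.ext
  show algebraMap A B (a - algebraMap k A c')
    = algebraMap A B a - algebraMap k B (cst k B hB (algebraMap A B a))
  rw [map_sub, ← IsScalarTower.algebraMap_apply k A B, hc]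

/-- the derivation attached to a functional vanishing on the image of `m_A/m_A²` -/
noncomputable def Dphi (hφ : ∀ v ∈ LinearMap.range (Ideal.mapCotangent (maximalIdeal A)
    (maximalIdeal B) (IsScalarTower.toAlgHom k A B) hle), φ v = 0) :
    Derivation A B (ResidueField B) :=
  Derivation.mk'
    { toFun := dfun k B hB φ
      map_add' := dfun_add k B hB φ
      map_smul' := fun a b => by
        have h0 : dfun k B hB φ (algebraMap A B a) = 0 := by
          unfold dfun
          rw [hφ _ (del_algebraMap_mem k A B hle hA hB a), map_zero]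
        rw [RingHom.id_apply, Algebra.smul_def, dfun_mul, h0, smul_zero, add_zero,
          algebraMap_smul] }
    (dfun_mul k B hB φ)

theorem Dphi_apply (hφ : ∀ v ∈ LinearMap.range (Ideal.mapCotangent (maximalIdeal A)
    (maximalIdeal B) (IsScalarTower.toAlgHom k A B) hle), φ v = 0) (b : B) :
    Dphi k A B hle hA hB φ hφ b = dfun k B hB φ b := rfl

/-- evaluation of `κ ⊗ Ω` against the derivation -/
noncomputable def ev (hφ : ∀ v ∈ LinearMap.range (Ideal.mapCotangent (maximalIdeal A)
    (maximalIdeal B) (IsScalarTower.toAlgHom k A B) hle), φ v = 0) :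
    TensorProduct B (ResidueField B) (Ω[B⁄A]) →ₗ[B] ResidueField B :=
  (LinearMap.mul' B (ResidueField B)) ∘ₗ
    ((Dphi k A B hle hA hB φ hφ).liftKaehlerDifferential.lTensor (ResidueField B))

theorem ev_one_tmul_D (hφ : ∀ v ∈ LinearMap.range (Ideal.mapCotangent (maximalIdeal A)
    (maximalIdeal B) (IsScalarTower.toAlgHom k A B) hle), φ v = 0) (b : B) :
    ev k A B hle hA hB φ hφ ((1 : ResidueField B) ⊗ₜ[B] KaehlerDifferential.D A B b)
      = dfun k B hB φ b := by
  unfold ev
  rw [LinearMap.comp_apply, LinearMap.lTensor_tmul, LinearMap.mul'_apply,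
    Derivation.liftKaehlerDifferential_comp_D, one_mul, Dphi_apply]

include hA hB in
theorem ker_psi (w : (maximalIdeal B).Cotangent) (hw : psi A B w = 0) :
    w ∈ LinearMap.range (Ideal.mapCotangent (maximalIdeal A) (maximalIdeal B)
      (IsScalarTower.toAlgHom k A B) hle) := by
  by_contra hnot
  obtain ⟨φ, hφw, hφV⟩ := Submodule.exists_dual_map_eq_bot_of_notMem hnot inferInstance
  have hφ : ∀ v ∈ LinearMap.range (Ideal.mapCotangent (maximalIdeal A) (maximalIdeal B)
      (IsScalarTower.toAlgHom k A B) hle), φ v = 0 := by
    intro v hv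
    exact (Submodule.eq_bot_iff _).mp hφV (φ v) ⟨v, hv, rfl⟩
  obtain ⟨x, rfl⟩ := (maximalIdeal B).toCotangent_surjective w
  have h1 := ev_one_tmul_D k A B hle hA hB φ hφ (x : B)
  rw [← psi_toCotangent, hw, map_zero] at h1
  unfold dfun at h1
  rw [del_of_mem] at h1
  have h2 : φ ((maximalIdeal B).toCotangent x) = 0 :=
    (map_eq_zero_iff _ hB.1).mp h1.symm
  exact hφw h2

include hA hB in
theorem main14437 [IsNoetherianRing B] :
    Module.finrank (ResidueField B) (TensorProduct B (ResidueField B) (Ω[B⁄A])) +
      Module.finrank k ↥(LinearMap.range (Ideal.mapCotangent (maximalIdeal A) (maximalIdeal B)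
        (IsScalarTower.toAlgHom k A B) hle)) =
      Module.finrank k (CotangentSpace B) := by
  haveI := finite_cot k B hB
  have hsurj : Function.Surjective ((psi A B).restrictScalars k) := psi_surjective k A B hB
  have hker : LinearMap.ker ((psi A B).restrictScalars k)
      = LinearMap.range (Ideal.mapCotangent (maximalIdeal A) (maximalIdeal B)
        (IsScalarTower.toAlgHom k A B) hle) := by
    apply le_antisymm
    · intro w hw
      exact ker_psi k A B hle hA hB w hw
    · rintro _ ⟨v, rfl⟩
      obtain ⟨a, rfl⟩ := (maximalIdeal A).toCotangent_surjective v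
      rw [LinearMap.mem_ker, Ideal.mapCotangent_toCotangent]
      show psi A B ((maximalIdeal B).toCotangent _) = 0
      rw [psi_toCotangent]
      show (1 : ResidueField B) ⊗ₜ[B] KaehlerDifferential.D A B (algebraMap A B (a : A)) = 0
      rw [Derivation.map_algebraMap, TensorProduct.tmul_zero]
  have h1 := LinearMap.finrank_range_add_finrank_ker ((psi A B).restrictScalars k)
  rw [LinearMap.range_eq_top.mpr hsurj, finrank_top, hker] at h1
  have h2 : Module.finrank k (TensorProduct B (ResidueField B) (Ω[B⁄A]))
      = Module.finrank (ResidueField B) (TensorProduct B (ResidueField B) (Ω[B⁄A])) := by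
    rw [← Module.finrank_mul_finrank k (ResidueField B)
      (TensorProduct B (ResidueField B) (Ω[B⁄A])),
      ← (LinearEquiv.ofBijective (Algebra.linearMap k (ResidueField B)) hB).finrank_eq,
      Module.finrank_self, one_mul]
  rw [← h2]
  exact h1

end main

end Groth.Agent.Lib.CotFibreH1
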