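import Mathlib

set_option autoImplicit false
universe u

namespace Groth.Agent.Lib.CotKaehler

open IsLocalRing TensorProduct

theorem finrank_eq_of_bij (k κ V : Type*) [Field k] [Field κ] [Algebra k κ] [AddCommGroup V]
    [Module k V] [Module κ V] [IsScalarTower k κ V]
    (h : Function.Bijective (algebraMap k κ)) : Module.finrank k V = Module.finrank κ V := by
  have h1 : Module.finrank k κ = 1 := by
    have e : k ≃ₗ[k] κ := LinearEquiv.ofBijective (Algebra.linearMap k κ) h
    rw [← e.finrank_eq, Module.finrank_self]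
  rw [← Module.finrank_mul_finrank k κ V, h1, one_mul]

section

variable (k : Type u) [Field k] (B : Type u) [CommRing B] [IsLocalRing B] [Algebra k B]

theorem tower_cot : IsScalarTower k (ResidueField B) (CotangentSpace B) := by
  refine IsScalarTower.of_algebraMap_smul (fun r x => ?_)
  rw [IsScalarTower.algebraMap_apply k B (ResidueField B), algebraMap_smul (ResidueField B),
    algebraMap_smul B]

theorem ker_eq : maximalIdeal B = RingHom.ker (algebraMap B (ResidueField B)) := by
  rw [ResidueField.algebraMap_eq, ker_residue]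

noncomputable def eqv :
    CotangentSpace B ≃ₗ[B] (RingHom.ker (algebraMap B (ResidueField B))).Cotangent :=
  Ideal.Cotangent.equivOfEq _ _ (ker_eq B)

variable (hB : Function.Bijective (algebraMap k (ResidueField B)))

noncomputable def cmap : B →+* k :=
  ((RingEquiv.ofBijective (algebraMap k (ResidueField B)) hB).symm :
    ResidueField B →+* k).comp (residue B)

theorem algebraMap_cmap (b : B) :
    algebraMap k (ResidueField B) (cmap k B hB b) = residue B b :=
  (RingEquiv.ofBijective (algebraMap k (ResidueField B)) hB).apply_symm_apply (residue B b)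

theorem cmap_algebraMap (t : k) : cmap k B hB (algebraMap k B t) = t := by
  apply hB.1
  rw [algebraMap_cmap]
  exact (IsScalarTower.algebraMap_apply k B (ResidueField B) t).symm

theorem cmap_of_mem {x : B} (hx : x ∈ maximalIdeal B) : cmap k B hB x = 0 := by
  apply hB.1
  rw [algebraMap_cmap, map_zero]
  exact (residue_eq_zero_iff x).mpr hx

theorem sub_cmap_mem (b : B) : b - algebraMap k B (cmap k B hB b) ∈ maximalIdeal B := by
  rw [← residue_eq_zero_iff, map_sub, sub_eq_zero]
  have h := IsScalarTower.algebraMap_apply k B (ResidueField B) (cmap k B hB b)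
  rw [algebraMap_cmap] at h
  exact h

theorem smul_cot (b : B) (v : CotangentSpace B) : b • v = cmap k B hB b • v := by
  have h := Ideal.Cotangent.smul_eq_zero_of_mem (sub_cmap_mem k B hB b) v
  rw [sub_smul, sub_eq_zero, algebraMap_smul] at h
  exact h

noncomputable def δ0 (b : B) : maximalIdeal B :=
  ⟨b - algebraMap k B (cmap k B hB b), sub_cmap_mem k B hB b⟩

theorem δ0_add (b1 b2 : B) : δ0 k B hB (b1 + b2) = δ0 k B hB b1 + δ0 k B hB b2 := by
  apply Subtype.ext
  show b1 + b2 - algebraMap k B (cmap k B hB (b1 + b2)) =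
    (b1 - algebraMap k B (cmap k B hB b1)) + (b2 - algebraMap k B (cmap k B hB b2))
  rw [map_add, map_add]
  ring

theorem δ0_mul (b1 b2 : B) :
    δ0 k B hB (b1 * b2) =
      b1 • δ0 k B hB b2 + algebraMap k B (cmap k B hB b2) • δ0 k B hB b1 := by
  apply Subtype.ext
  show b1 * b2 - algebraMap k B (cmap k B hB (b1 * b2)) =
    b1 * (b2 - algebraMap k B (cmap k B hB b2)) +
      algebraMap k B (cmap k B hB b2) * (b1 - algebraMap k B (cmap k B hB b1))
  rw [map_mul, map_mul]
  ring

theorem δ0_one : δ0 k B hB 1 = 0 := by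
  apply Subtype.ext
  show (1 : B) - algebraMap k B (cmap k B hB 1) = 0
  rw [map_one, map_one, sub_self]

theorem δ0_of_mem (x : maximalIdeal B) : δ0 k B hB x.1 = x := by
  apply Subtype.ext
  show x.1 - algebraMap k B (cmap k B hB x.1) = x.1
  rw [cmap_of_mem k B hB x.2, map_zero, sub_zero]

variable (A : Type u) [CommRing A] [IsLocalRing A] [Algebra k A] [Algebra A B]
  [IsScalarTower k A B]
  (hle : maximalIdeal A ≤ Ideal.comap (IsScalarTower.toAlgHom k A B) (maximalIdeal B))

/-- the range of the cotangent map -/
noncomputable def Wsub : Submodule k (CotangentSpace B) :=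
  LinearMap.range (Ideal.mapCotangent (maximalIdeal A) (maximalIdeal B)
    (IsScalarTower.toAlgHom k A B) hle)

theorem toCot_δ0_algebraMap_mem (a : A) :
    (maximalIdeal B).toCotangent (δ0 k B hB (algebraMap A B a)) ∈ Wsub k B A hle := by
  have hy : a - algebraMap k A (cmap k B hB (algebraMap A B a)) ∈ maximalIdeal A := by
    by_contra hy
    rw [mem_maximalIdeal, mem_nonunits_iff, not_not] at hy
    have hu := hy.map (algebraMap A B)
    have hm := sub_cmap_mem k B hB (algebraMap A B a)
    rw [map_sub, ← IsScalarTower.algebraMap_apply k A B] at hu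
    exact mem_nonunits_iff.mp ((mem_maximalIdeal _).mp hm) hu
  refine ⟨(maximalIdeal A).toCotangent
    ⟨a - algebraMap k A (cmap k B hB (algebraMap A B a)), hy⟩, ?_⟩
  rw [Ideal.mapCotangent_toCotangent]
  congr 1
  apply Subtype.ext
  show (IsScalarTower.toAlgHom k A B) (a - algebraMap k A (cmap k B hB (algebraMap A B a))) =
    algebraMap A B a - algebraMap k B (cmap k B hB (algebraMap A B a))
  rw [IsScalarTower.coe_toAlgHom', map_sub, ← IsScalarTower.algebraMap_apply k A B]

variable (ℓ : CotangentSpace B →ₗ[k] k) (hℓ : Wsub k B A hle ≤ LinearMap.ker ℓ)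

noncomputable def dfun (b : B) : ResidueField B :=
  algebraMap k (ResidueField B) (ℓ ((maximalIdeal B).toCotangent (δ0 k B hB b)))

theorem dfun_add (b1 b2 : B) :
    dfun k B hB ℓ (b1 + b2) = dfun k B hB ℓ b1 + dfun k B hB ℓ b2 := by
  simp only [dfun, δ0_add, map_add]

theorem dfun_one : dfun k B hB ℓ 1 = 0 := by
  simp only [dfun, δ0_one, map_zero]

theorem dfun_mul (b1 b2 : B) :
    dfun k B hB ℓ (b1 * b2) = b1 • dfun k B hB ℓ b2 + b2 • dfun k B hB ℓ b1 := by
  have e1 : (maximalIdeal B).toCotangent (δ0 k B hB (b1 * b2)) =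
      cmap k B hB b1 • (maximalIdeal B).toCotangent (δ0 k B hB b2) +
      cmap k B hB b2 • (maximalIdeal B).toCotangent (δ0 k B hB b1) := by
    rw [δ0_mul, map_add, map_smul, map_smul, smul_cot k B hB b1, algebraMap_smul B]
  have e2 : ∀ (b : B) (z : ResidueField B),
      b • z = algebraMap k (ResidueField B) (cmap k B hB b) * z := by
    intro b z
    rw [algebraMap_cmap, Algebra.smul_def]
    rfl
  rw [e2 b1, e2 b2]
  simp only [dfun]
  rw [e1, map_add, map_smul, map_smul, smul_eq_mul, smul_eq_mul, map_add, map_mul, map_mul]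

include hℓ in
theorem dfun_algebraMap (a : A) : dfun k B hB ℓ (algebraMap A B a) = 0 := by
  have h := hℓ (toCot_δ0_algebraMap_mem k B hB A hle a)
  rw [LinearMap.mem_ker] at h
  simp only [dfun, h, map_zero]

noncomputable def dlin : B →ₗ[A] ResidueField B where
  toFun := dfun k B hB ℓ
  map_add' := dfun_add k B hB ℓ
  map_smul' a b := by
    show dfun k B hB ℓ (a • b) = a • dfun k B hB ℓ b
    rw [Algebra.smul_def a b, dfun_mul, dfun_algebraMap k B hB A hle ℓ hℓ, smul_zero, add_zero,
      algebraMap_smul B]

noncomputable def der : Derivation A B (ResidueField B) where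
  toLinearMap := dlin k B hB A hle ℓ hℓ
  map_one_eq_zero' := dfun_one k B hB ℓ
  leibniz' := dfun_mul k B hB ℓ

end

section

variable (B : Type u) [CommRing B] [IsLocalRing B] (A : Type u) [CommRing A] [Algebra A B]

noncomputable def TB : CotangentSpace B →ₗ[B] (ResidueField B ⊗[B] Ω[B⁄A]) :=
  (KaehlerDifferential.kerCotangentToTensor A B (ResidueField B)).comp (eqv B).toLinearMap

theorem TB_apply (v : CotangentSpace B) :
    TB B A v = KaehlerDifferential.kerCotangentToTensor A B (ResidueField B) (eqv B v) := rfl

theorem TB_toCot (x : maximalIdeal B) :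
    TB B A ((maximalIdeal B).toCotangent x) = 1 ⊗ₜ KaehlerDifferential.D A B x.1 := rfl

end

theorem main (k : Type u) [Field k]
    (A B : Type u) [CommRing A] [CommRing B] [IsLocalRing A] [IsLocalRing B]
    [IsNoetherianRing A] [IsNoetherianRing B]
    [Algebra k A] [Algebra k B] [Algebra A B] [IsScalarTower k A B]
    (hle : IsLocalRing.maximalIdeal A ≤
      Ideal.comap (IsScalarTower.toAlgHom k A B) (IsLocalRing.maximalIdeal B))
    (hB : Function.Bijective (algebraMap k (IsLocalRing.ResidueField B))) :
    Module.finrank (IsLocalRing.ResidueField B)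
        (TensorProduct B (IsLocalRing.ResidueField B) (Ω[B⁄A])) +
      Module.finrank k ↥(LinearMap.range (Ideal.mapCotangent (IsLocalRing.maximalIdeal A)
        (IsLocalRing.maximalIdeal B) (IsScalarTower.toAlgHom k A B) hle)) =
      Module.finrank k (IsLocalRing.CotangentSpace B) := by
  haveI := tower_cot k B
  haveI : Module.Finite k (ResidueField B) :=
    Module.Finite.of_surjective (Algebra.linearMap k (ResidueField B)) hB.2
  haveI : Module.Finite k (CotangentSpace B) :=
    Module.Finite.trans (ResidueField B) (CotangentSpace B)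
  let T : CotangentSpace B →ₗ[k] (ResidueField B ⊗[B] Ω[B⁄A]) := (TB B A).restrictScalars k
  have hT : ∀ x : maximalIdeal B,
      T ((maximalIdeal B).toCotangent x) = 1 ⊗ₜ KaehlerDifferential.D A B x.1 :=
    fun x => TB_toCot B A x
  have hsurj : Function.Surjective T := by
    intro m
    haveI : Subsingleton (Ω[ResidueField B⁄A]) := by
      apply KaehlerDifferential.subsingleton_of_surjective
      intro y
      obtain ⟨c, rfl⟩ := hB.2 y
      refine ⟨algebraMap k A c, ?_⟩
      rw [IsScalarTower.algebraMap_apply A B (ResidueField B),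
        ← IsScalarTower.algebraMap_apply k A B, ← IsScalarTower.algebraMap_apply k B (ResidueField B)]
    have hsur : Function.Surjective (algebraMap B (ResidueField B)) := by
      rw [ResidueField.algebraMap_eq]; exact residue_surjective
    have hex := KaehlerDifferential.exact_kerCotangentToTensor_mapBaseChange A B (ResidueField B) hsur
    obtain ⟨z, hz⟩ := (hex m).mp (Subsingleton.elim _ _)
    refine ⟨(eqv B).symm z, ?_⟩
    show KaehlerDifferential.kerCotangentToTensor A B (ResidueField B)
      ((eqv B) ((eqv B).symm z)) = m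
    rw [LinearEquiv.apply_symm_apply, hz]
  have hker : LinearMap.ker T = Wsub k B A hle := by
    apply le_antisymm
    · intro v hv
      by_contra hvW
      obtain ⟨ℓ, hℓv, hℓW⟩ := Submodule.exists_le_ker_of_notMem hvW
      obtain ⟨x, rfl⟩ := Ideal.toCotangent_surjective _ v
      apply hℓv
      have h0 : (LinearMap.liftBaseChange (ResidueField B)
          (der k B hB A hle ℓ hℓW).liftKaehlerDifferential)
          (T ((maximalIdeal B).toCotangent x)) = 0 := by
        rw [LinearMap.mem_ker.mp hv, map_zero]
      rw [hT, LinearMap.liftBaseChange_tmul, one_smul,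
        Derivation.liftKaehlerDifferential_comp_D] at h0
      have h1 : dfun k B hB ℓ x.1 = 0 := h0
      simp only [dfun, δ0_of_mem] at h1
      exact (map_eq_zero_iff _ hB.1).mp h1
    · rintro _ ⟨u, rfl⟩
      obtain ⟨y, rfl⟩ := Ideal.toCotangent_surjective _ u
      rw [LinearMap.mem_ker, Ideal.mapCotangent_toCotangent, hT]
      show (1 : ResidueField B) ⊗ₜ[B]
        KaehlerDifferential.D A B ((IsScalarTower.toAlgHom k A B) y.1) = 0
      rw [IsScalarTower.coe_toAlgHom', Derivation.map_algebraMap, TensorProduct.tmul_zero]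
  have h1 := LinearMap.finrank_range_add_finrank_ker T
  rw [LinearMap.range_eq_top.mpr hsurj, finrank_top, hker] at h1
  rw [← finrank_eq_of_bij k (ResidueField B) (ResidueField B ⊗[B] Ω[B⁄A]) hB]
  exact h1

end Groth.Agent.Lib.CotKaehler
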