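import Mathlib

set_option autoImplicit false
set_option linter.unusedVariables false
set_option linter.unusedTactic false
set_option linter.unreachableTactic false
set_option linter.unusedSectionVars false
set_option linter.style.haveILetI false
set_option linter.deprecated false
set_option maxHeartbeats 1000000

universe u

/-!
# Linear algebra / Nakayama / Taylor lemmas used for the Jacobian criterion at a point (helper4)
-/

namespace Groth.Agent.Lib.JacLinH4

open Module MvPolynomial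

/-- Choosing columns: if `Kt ⊆ N'` is a direct summand with basis `bK` and `N'` has basis `b'`,
some maximal minor of the coordinate matrix of `bK` is a unit (over a local ring). -/
theorem exists_cols {Λ : Type*} [CommRing Λ] [IsLocalRing Λ] {N' : Type*} [AddCommGroup N']
    [Module Λ N'] {n c : ℕ} (b' : Basis (Fin n) Λ N') (Kt : Submodule Λ N')
    (bK : Basis (Fin c) Λ Kt) (ρK : N' →ₗ[Λ] Kt) (hρ : ∀ x : Kt, ρK x = x) :
    ∃ cols : Fin c → Fin n,
      IsUnit (Matrix.det (Matrix.of fun j k : Fin c => b'.repr (bK j : N') (cols k))) := by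
  classical
  let u : Fin n → (Fin c → Λ) := fun i j => b'.repr (bK j : N') i
  have hu : Submodule.span Λ (Set.range u) = ⊤ := by
    rw [eq_top_iff]
    intro y _
    let ψ : Kt →ₗ[Λ] Λ := bK.constr Λ y
    let φ : N' →ₗ[Λ] Λ := ψ ∘ₗ ρK
    have hy : y = ∑ i, φ (b' i) • u i := by
      funext j
      rw [Finset.sum_apply]
      have h1 : ∀ i, (φ (b' i) • u i) j = φ (b'.repr (bK j : N') i • b' i) := by
        intro i
        rw [Pi.smul_apply, smul_eq_mul, map_smul, smul_eq_mul, mul_comm]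
      rw [Finset.sum_congr rfl (fun i _ => h1 i), ← map_sum, b'.sum_repr]
      show y j = ψ (ρK (bK j : N'))
      rw [hρ]
      exact (bK.constr_basis Λ y j).symm
    rw [hy]
    exact Submodule.sum_mem _
      (fun i _ => Submodule.smul_mem _ _ (Submodule.subset_span ⟨i, rfl⟩))
  obtain ⟨κ₂, a₂, b₂, hb₂⟩ := Module.exists_basis_of_span_of_flat u hu
  let e₂ : κ₂ ≃ Fin c := b₂.indexEquiv (Pi.basisFun Λ (Fin c))
  let b₃ : Basis (Fin c) Λ (Fin c → Λ) := b₂.reindex e₂
  refine ⟨fun k => a₂ (e₂.symm k), ?_⟩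
  have h3 : IsUnit ((Pi.basisFun Λ (Fin c)).det b₃) := Basis.isUnit_det _ _
  have h4 : (Pi.basisFun Λ (Fin c)).det b₃
      = Matrix.det (Matrix.of fun j k : Fin c => b'.repr (bK j : N') (a₂ (e₂.symm k))) := by
    rw [Basis.det_apply]
    congr 1
    refine Matrix.ext (fun j k => ?_)
    rw [Basis.toMatrix_apply, Pi.basisFun_repr, Matrix.of_apply]
    show b₃ k j = _
    rw [Basis.reindex_apply, hb₂]
  rw [← h4]
  exact h3

/-- A localized Nakayama lemma via Cayley–Hamilton. -/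
theorem nak {R' : Type*} [CommRing R'] (q : Ideal R') [hq : q.IsPrime] {N : Type*}
    [AddCommGroup N] [Module R' N] [Module.Finite R' N]
    (h : ∀ x : N, ∃ s : R', s ∉ q ∧ s • x ∈ q • (⊤ : Submodule R' N)) :
    ∃ s : R', s ∉ q ∧ ∀ x : N, s • x = 0 := by
  classical
  obtain ⟨m, g, hg⟩ := Module.Finite.exists_fin (R := R') (M := N)
  choose s hs1 hs2 using h
  let s₀ : R' := ∏ l, s (g l)
  have hs₀ : s₀ ∉ q := by
    intro hmem
    obtain ⟨l, _, hl⟩ := (Ideal.IsPrime.prod_mem_iff).mp hmem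
    exact hs1 _ hl
  have hgl : ∀ l, s₀ • g l ∈ q • (⊤ : Submodule R' N) := by
    intro l
    have h0 : s₀ = (∏ l' ∈ Finset.univ.erase l, s (g l')) * s (g l) :=
      (Finset.prod_erase_mul _ _ (Finset.mem_univ l)).symm
    rw [h0, mul_smul]
    exact Submodule.smul_mem _ _ (hs2 (g l))
  have hall : ∀ x : N, s₀ • x ∈ q • (⊤ : Submodule R' N) := by
    intro x
    have hx : x ∈ Submodule.span R' (Set.range g) := by
      rw [hg]
      exact Submodule.mem_top
    obtain ⟨a, rfl⟩ := (Submodule.mem_span_range_iff_exists_fun R').mp hx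
    rw [Finset.smul_sum]
    refine Submodule.sum_mem _ (fun l _ => ?_)
    rw [smul_comm]
    exact Submodule.smul_mem _ _ (hgl l)
  let f : Module.End R' N := algebraMap R' (Module.End R' N) s₀
  have hf : LinearMap.range f ≤ q • (⊤ : Submodule R' N) := by
    rintro _ ⟨x, rfl⟩
    exact hall x
  obtain ⟨p, hmonic, -, hcoeff, hp⟩ :=
    LinearMap.exists_monic_and_natDegree_eq_and_coeff_mem_pow_and_aeval_eq_zero R' f q hf
  rw [Polynomial.aeval_algebraMap_apply_eq_algebraMap_eval] at hp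
  refine ⟨p.eval s₀, ?_, fun x => ?_⟩
  · intro hmem
    have h1 : p.eval s₀ = ∑ k ∈ Finset.range (p.natDegree + 1), p.coeff k * s₀ ^ k :=
      Polynomial.eval_eq_sum_range s₀
    rw [h1, Finset.sum_range_succ, hmonic.coeff_natDegree, one_mul] at hmem
    have h2 : ∑ k ∈ Finset.range p.natDegree, p.coeff k * s₀ ^ k ∈ q := by
      refine Ideal.sum_mem _ (fun k hk => Ideal.mul_mem_right _ _ ?_)
      have hk' : p.natDegree - k ≠ 0 := by
        have := Finset.mem_range.mp hk
        omega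
      exact Ideal.pow_le_self hk' (hcoeff k)
    have h3 : s₀ ^ p.natDegree ∈ q := (Ideal.add_mem_iff_right q h2).mp hmem
    exact hs₀ (hq.mem_of_pow_mem _ h3)
  · exact LinearMap.congr_fun hp x

/-- Ideal version of `nak`. -/
theorem nak_ideal {P : Type*} [CommRing P] (Q : Ideal P) [Q.IsPrime] (I F : Ideal P)
    (hFI : F ≤ I) (hfg : I.FG)
    (h : ∀ x ∈ I, ∃ s, s ∉ Q ∧ s * x ∈ F ⊔ Q * I) : ∀ x ∈ I, ∃ s, s ∉ Q ∧ s * x ∈ F := by
  let F' : Submodule P I := Submodule.comap I.subtype F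
  haveI : Module.Finite P I := Module.Finite.iff_fg.mpr hfg
  have hmk0 : ∀ (z : P) (hz : z ∈ I), z ∈ F → F'.mkQ ⟨z, hz⟩ = 0 :=
    fun z hz hzF => (Submodule.Quotient.mk_eq_zero F').mpr hzF
  have hQI : ∀ z ∈ Q * I, ∃ hz : z ∈ I,
      F'.mkQ ⟨z, hz⟩ ∈ Q • (⊤ : Submodule P (↥I ⧸ F')) := by
    intro z hz
    refine Submodule.mul_induction_on hz ?_ ?_
    · intro q hq i hi
      refine ⟨I.mul_mem_left q hi, ?_⟩
      have h0 : F'.mkQ ⟨q * i, I.mul_mem_left q hi⟩ = q • F'.mkQ ⟨i, hi⟩ := by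
        rw [← map_smul]
        rfl
      rw [h0]
      exact Submodule.smul_mem_smul hq Submodule.mem_top
    · rintro x y ⟨hx, hx'⟩ ⟨hy, hy'⟩
      refine ⟨I.add_mem hx hy, ?_⟩
      have h0 : F'.mkQ ⟨x + y, I.add_mem hx hy⟩ = F'.mkQ ⟨x, hx⟩ + F'.mkQ ⟨y, hy⟩ := by
        rw [← map_add]
        rfl
      rw [h0]
      exact Submodule.add_mem _ hx' hy'
  have hN : ∀ x : (↥I ⧸ F'), ∃ s : P, s ∉ Q ∧ s • x ∈ Q • (⊤ : Submodule P (↥I ⧸ F')) := by
    intro x
    obtain ⟨⟨z, hz⟩, rfl⟩ := F'.mkQ_surjective x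
    obtain ⟨s, hs, hsz⟩ := h z hz
    refine ⟨s, hs, ?_⟩
    obtain ⟨φ, hφ, w, hw, hsum⟩ := Submodule.mem_sup.mp hsz
    obtain ⟨hwI, hw'⟩ := hQI w hw
    have hφI : φ ∈ I := hFI hφ
    have h0 : s • F'.mkQ ⟨z, hz⟩ = F'.mkQ ⟨φ, hφI⟩ + F'.mkQ ⟨w, hwI⟩ := by
      rw [← map_smul, ← map_add]
      congr 1
      apply Subtype.ext
      show s * z = φ + w
      exact hsum.symm
    rw [h0, hmk0 φ hφI hφ, zero_add]
    exact hw'
  obtain ⟨s, hs, hs0⟩ := nak Q hN
  intro x hx
  refine ⟨s, hs, ?_⟩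
  have h1 := hs0 (F'.mkQ ⟨x, hx⟩)
  rw [← map_smul] at h1
  exact (Submodule.Quotient.mk_eq_zero F').mp h1

/-- First order Taylor expansion of the difference of two algebra maps out of a polynomial ring
which agree modulo a square-zero ideal. -/
theorem taylor1 {R : Type*} [CommRing R] {σ : Type*} [Fintype σ] [DecidableEq σ] {C' : Type*}
    [CommRing C'] [Algebra R C'] (f₁ f₂ : MvPolynomial σ R →ₐ[R] C') (𝔫 : Ideal C')
    (hsq : ∀ x ∈ 𝔫, ∀ y ∈ 𝔫, x * y = 0) (hX : ∀ i, f₁ (X i) - f₂ (X i) ∈ 𝔫)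
    (h : MvPolynomial σ R) :
    f₁ h - f₂ h ∈ 𝔫 ∧ f₁ h - f₂ h = ∑ i, f₁ (pderiv i h) * (f₁ (X i) - f₂ (X i)) := by
  induction h using MvPolynomial.induction_on with
  | C a =>
    have h0 : f₁ (C a) = f₂ (C a) := by
      rw [← MvPolynomial.algebraMap_eq, AlgHom.commutes, AlgHom.commutes]
    constructor
    · rw [h0, sub_self]
      exact 𝔫.zero_mem
    · rw [h0, sub_self]
      symm
      refine Finset.sum_eq_zero (fun i _ => ?_)
      rw [pderiv_C, map_zero, zero_mul]
  | add p q hp hq =>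
    have h0 : f₁ (p + q) - f₂ (p + q) = (f₁ p - f₂ p) + (f₁ q - f₂ q) := by
      rw [map_add, map_add]
      ring
    constructor
    · rw [h0]
      exact 𝔫.add_mem hp.1 hq.1
    · rw [h0, hp.2, hq.2, ← Finset.sum_add_distrib]
      refine Finset.sum_congr rfl (fun i _ => ?_)
      rw [map_add, map_add, add_mul]
  | mul_X p j hp =>
    have h00 : (f₁ p - f₂ p) * (f₁ (X j) - f₂ (X j)) = 0 := hsq _ hp.1 _ (hX j)
    have hd : f₁ (p * X j) - f₂ (p * X j)
        = f₁ p * (f₁ (X j) - f₂ (X j)) + (f₁ p - f₂ p) * f₁ (X j) := by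
      rw [map_mul, map_mul]
      linear_combination (-1 : C') * h00
    constructor
    · rw [hd]
      exact 𝔫.add_mem (𝔫.mul_mem_left _ (hX j)) (𝔫.mul_mem_right _ hp.1)
    · rw [hd, hp.2]
      have hder : ∀ i, f₁ (pderiv i (p * X j))
          = f₁ (pderiv i p) * f₁ (X j) + f₁ p * f₁ (pderiv i (X j)) := by
        intro i
        rw [Derivation.leibniz, smul_eq_mul, smul_eq_mul, map_add, map_mul, map_mul]
        ring
      have h2 : ∑ i, f₁ p * f₁ (pderiv i (X j)) * (f₁ (X i) - f₂ (X i))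
          = f₁ p * (f₁ (X j) - f₂ (X j)) := by
        rw [Finset.sum_eq_single j]
        · rw [pderiv_X_self, map_one, mul_one]
        · intro i _ hij
          rw [pderiv_X_of_ne hij.symm, map_zero, mul_zero, zero_mul]
        · intro hj
          exact absurd (Finset.mem_univ j) hj
      have h3 : ∑ i, f₁ (pderiv i (p * X j)) * (f₁ (X i) - f₂ (X i))
          = ∑ i, f₁ (pderiv i p) * f₁ (X j) * (f₁ (X i) - f₂ (X i))
            + ∑ i, f₁ p * f₁ (pderiv i (X j)) * (f₁ (X i) - f₂ (X i)) := by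
        rw [← Finset.sum_add_distrib]
        refine Finset.sum_congr rfl (fun i _ => ?_)
        rw [hder i, add_mul]
      rw [h3, h2, Finset.sum_mul, add_comm]
      congr 1
      refine Finset.sum_congr rfl (fun i _ => ?_)
      ring

/-- Cramer's rule in the form needed. -/
theorem cramer {P Λ : Type*} [CommRing P] [CommRing Λ] (φ : P →+* Λ) {c : ℕ}
    (Jc : Matrix (Fin c) (Fin c) P) (w : Fin c → P) (lam : Fin c → Λ)
    (h : ∀ k, φ (w k) = ∑ j, lam j * φ (Jc j k)) (j' : Fin c) :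
    φ (∑ k, w k * Jc.adjugate k j') = lam j' * φ Jc.det := by
  have hadj : ∀ j, ∑ k, Jc j k * Jc.adjugate k j' = if j = j' then Jc.det else 0 := by
    intro j
    have h0 := congrFun (congrFun (Matrix.mul_adjugate Jc) j) j'
    rw [Matrix.mul_apply] at h0
    rw [h0, Matrix.smul_apply, Matrix.one_apply, smul_eq_mul, mul_ite, mul_one, mul_zero]
  calc φ (∑ k, w k * Jc.adjugate k j')
      = ∑ k, φ (w k) * φ (Jc.adjugate k j') := by
        rw [map_sum]
        exact Finset.sum_congr rfl (fun k _ => map_mul _ _ _)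
    _ = ∑ k, ∑ j, lam j * (φ (Jc j k) * φ (Jc.adjugate k j')) := by
        refine Finset.sum_congr rfl (fun k _ => ?_)
        rw [h k, Finset.sum_mul]
        exact Finset.sum_congr rfl (fun j _ => mul_assoc _ _ _)
    _ = ∑ j, ∑ k, lam j * (φ (Jc j k) * φ (Jc.adjugate k j')) := Finset.sum_comm
    _ = ∑ j, lam j * φ (∑ k, Jc j k * Jc.adjugate k j') := by
        refine Finset.sum_congr rfl (fun j _ => ?_)
        rw [← Finset.mul_sum, map_sum]
        congr 1
        exact Finset.sum_congr rfl (fun k _ => (map_mul _ _ _).symm)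
    _ = ∑ j, lam j * φ (if j = j' then Jc.det else 0) := by
        refine Finset.sum_congr rfl (fun j _ => ?_)
        rw [hadj j]
    _ = lam j' * φ Jc.det := by
        rw [Finset.sum_eq_single j']
        · rw [if_pos rfl]
        · intro j _ hj
          rw [if_neg hj, map_zero, mul_zero]
        · intro hj
          exact absurd (Finset.mem_univ j') hj

end Groth.Agent.Lib.JacLinH4
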