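import Mathlib
import Groth.Agent.Lib.JacLin_helper4

set_option autoImplicit false
set_option linter.unusedVariables false
set_option linter.unusedTactic false
set_option linter.unreachableTactic false
set_option linter.unusedSectionVars false
set_option linter.style.haveILetI false
set_option linter.deprecated false
set_option maxHeartbeats 1000000

universe u

/-!
# From freeness of `Λ ⊗ Ω` to a unit Jacobian minor (helper4)
-/

namespace Groth.Agent.Lib.CotLambdaH4

open Module MvPolynomial TensorProduct Algebra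

variable {R A Λ : Type u} [CommRing R] [CommRing A] [CommRing Λ] [Algebra R A] [Algebra R Λ]
  [Algebra A Λ] [IsScalarTower R A Λ]

theorem exists_jac [IsLocalRing Λ] {n : ℕ} (π : MvPolynomial (Fin n) R →ₐ[R] A)
    (hπ : Function.Surjective π) (hfree : Module.Free Λ (Λ ⊗[A] Ω[A⁄R])) :
    ∃ (c : ℕ) (f : Fin c → MvPolynomial (Fin n) R) (cols : Fin c → Fin n),
      (∀ j, π (f j) = 0) ∧
      IsUnit (Matrix.det (Matrix.of fun j k : Fin c =>
        algebraMap A Λ (π (pderiv (cols k) (f j))))) ∧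
      ∀ h, π h = 0 → ∃ lam : Fin c → Λ, ∀ i,
        algebraMap A Λ (π (pderiv i h)) = ∑ j, lam j * algebraMap A Λ (π (pderiv i (f j))) := by
  classical
  have hπG : ∀ x, aeval (fun i => π (X i)) x = π x :=
    fun x => DFunLike.congr_fun (aeval_unique π).symm x
  let G : Generators R A (Fin n) := Generators.ofSurjective (fun i => π (X i))
    (fun y => by
      obtain ⟨x, rfl⟩ := hπ y
      exact ⟨x, hπG x⟩)
  let E : Extension R A := G.toExtension
  let δ : E.Cotangent →ₗ[A] E.CotangentSpace := E.cotangentComplex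
  let κ : E.CotangentSpace →ₗ[A] Ω[A⁄R] := E.toKaehler
  have hex : Function.Exact δ κ := E.exact_cotangentComplex_toKaehler
  have hκ : Function.Surjective κ := E.toKaehler_surjective
  let b : Basis (Fin n) A E.CotangentSpace := G.cotangentSpaceBasis
  let δΛ : Λ ⊗[A] E.Cotangent →ₗ[Λ] Λ ⊗[A] E.CotangentSpace := δ.baseChange Λ
  let κΛ : Λ ⊗[A] E.CotangentSpace →ₗ[Λ] Λ ⊗[A] Ω[A⁄R] := κ.baseChange Λ
  have hexΛ : Function.Exact δΛ κΛ := by
    have h0 := lTensor_exact Λ hex hκ
    exact h0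
  have hκΛ : Function.Surjective κΛ := LinearMap.lTensor_surjective Λ hκ
  let b' : Basis (Fin n) Λ (Λ ⊗[A] E.CotangentSpace) := b.baseChange Λ
  haveI : Module.Projective Λ (Λ ⊗[A] Ω[A⁄R]) := Module.Projective.of_free
  obtain ⟨σ, hσ⟩ := Module.projective_lifting_property κΛ LinearMap.id hκΛ
  let Kt : Submodule Λ (Λ ⊗[A] E.CotangentSpace) := LinearMap.range δΛ
  have hKt : ∀ y : Λ ⊗[A] E.CotangentSpace, y ∈ Kt ↔ κΛ y = 0 :=
    fun y => ⟨fun hy => (hexΛ y).mpr hy, fun hy => (hexΛ y).mp hy⟩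
  let ρ' : (Λ ⊗[A] E.CotangentSpace) →ₗ[Λ] (Λ ⊗[A] E.CotangentSpace) :=
    LinearMap.id - σ ∘ₗ κΛ
  have hρ'mem : ∀ y, ρ' y ∈ Kt := by
    intro y
    rw [hKt]
    show κΛ (y - σ (κΛ y)) = 0
    rw [map_sub]
    have h0 : κΛ (σ (κΛ y)) = κΛ y := LinearMap.congr_fun hσ (κΛ y)
    rw [h0, sub_self]
  let ρK : (Λ ⊗[A] E.CotangentSpace) →ₗ[Λ] Kt := ρ'.codRestrict Kt hρ'mem
  have hρK : ∀ x : Kt, ρK x = x := by
    intro x
    apply Subtype.ext
    show (x : Λ ⊗[A] E.CotangentSpace) - σ (κΛ x) = x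
    rw [(hKt x).mp x.2, map_zero, sub_zero]
  haveI : Module.Free Λ (Λ ⊗[A] E.CotangentSpace) := Module.Free.of_basis b'
  haveI : Module.Finite Λ (Λ ⊗[A] E.CotangentSpace) := Module.Finite.of_basis b'
  haveI : Module.Projective Λ Kt :=
    Module.Projective.of_split Kt.subtype ρK (LinearMap.ext fun x => hρK x)
  haveI : Module.Finite Λ Kt := Module.Finite.of_surjective ρK (fun x => ⟨x, hρK x⟩)
  haveI : Module.FinitePresentation Λ Kt := Module.finitePresentation_of_projective Λ Kt
  let v : E.ker → Kt := fun h => δΛ.rangeRestrict ((1 : Λ) ⊗ₜ[A] Extension.Cotangent.mk h)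
  have hv : Submodule.span Λ (Set.range v) = ⊤ := by
    rw [_root_.eq_top_iff]
    rintro y -
    obtain ⟨z, rfl⟩ := δΛ.surjective_rangeRestrict y
    induction z using TensorProduct.induction_on with
    | zero =>
      rw [map_zero]
      exact Submodule.zero_mem _
    | tmul l x =>
      obtain ⟨h, rfl⟩ := Extension.Cotangent.mk_surjective x
      have h0 : (l ⊗ₜ[A] Extension.Cotangent.mk h : Λ ⊗[A] E.Cotangent)
          = l • ((1 : Λ) ⊗ₜ[A] Extension.Cotangent.mk h) := by
        rw [TensorProduct.smul_tmul', smul_eq_mul, mul_one]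
      rw [h0, map_smul]
      exact Submodule.smul_mem _ _ (Submodule.subset_span ⟨h, rfl⟩)
    | add a b ha hb =>
      rw [map_add]
      exact Submodule.add_mem _ ha hb
  obtain ⟨κidx, aidx, bK, hbK⟩ := Module.exists_basis_of_span_of_flat v hv
  haveI : Finite κidx := Module.Finite.finite_basis bK
  letI : Fintype κidx := Fintype.ofFinite κidx
  let e : κidx ≃ Fin (Fintype.card κidx) := Fintype.equivFin κidx
  let bK' : Basis (Fin (Fintype.card κidx)) Λ Kt := bK.reindex e
  have hbK' : ∀ j, bK' j = v (aidx (e.symm j)) := fun j => by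
    rw [Basis.reindex_apply, hbK]
  obtain ⟨cols, hcols⟩ := JacLinH4.exists_cols b' Kt bK' ρK hρK
  have hker_iff : ∀ x : MvPolynomial (Fin n) R, x ∈ E.ker ↔ π x = 0 := by
    intro x
    have h0 : algebraMap E.Ring A x = π x := by
      show algebraMap G.Ring A x = π x
      rw [Generators.algebraMap_apply]
      exact hπG x
    show algebraMap E.Ring A x = 0 ↔ π x = 0
    rw [h0]
  have hrepr : ∀ (h : E.ker) (i : Fin n),
      b'.repr ((v h : Kt) : Λ ⊗[A] E.CotangentSpace) i = algebraMap A Λ (π (pderiv i h.1)) := by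
    intro h i
    have h1 : ((v h : Kt) : Λ ⊗[A] E.CotangentSpace)
        = (1 : Λ) ⊗ₜ[A] δ (Extension.Cotangent.mk h) := rfl
    rw [h1, Basis.baseChange_repr_tmul]
    have h2 : b.repr (δ (Extension.Cotangent.mk h)) i = aeval G.val (pderiv i h.1) := by
      show G.cotangentSpaceBasis.repr (E.cotangentComplex (Extension.Cotangent.mk h)) i = _
      rw [Extension.cotangentComplex_mk]
      exact G.cotangentSpaceBasis_repr_one_tmul _ i
    rw [h2, Algebra.smul_def, mul_one]
    show algebraMap A Λ (aeval (fun i => π (X i)) (pderiv i h.1)) = _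
    rw [hπG]
  refine ⟨Fintype.card κidx, fun j => (aidx (e.symm j)).1, cols,
    fun j => (hker_iff _).mp (aidx (e.symm j)).2, ?_, ?_⟩
  · have h0 : (Matrix.of fun j k : Fin (Fintype.card κidx) =>
        b'.repr ((bK' j : Kt) : Λ ⊗[A] E.CotangentSpace) (cols k))
        = Matrix.of fun j k : Fin (Fintype.card κidx) =>
          algebraMap A Λ (π (pderiv (cols k) (aidx (e.symm j)).1)) := by
      refine Matrix.ext (fun j k => ?_)
      rw [Matrix.of_apply, Matrix.of_apply, hbK' j, hrepr]
    rw [← h0]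
    exact hcols
  · intro h hh
    let hE : E.ker := ⟨h, (hker_iff h).mpr hh⟩
    refine ⟨fun j => bK'.repr (v hE) j, fun i => ?_⟩
    have hs := bK'.sum_repr (v hE)
    have hs' : ((v hE : Kt) : Λ ⊗[A] E.CotangentSpace)
        = ∑ j, bK'.repr (v hE) j • ((bK' j : Kt) : Λ ⊗[A] E.CotangentSpace) := by
      conv_lhs => rw [← hs]
      rw [Submodule.coe_sum]
      rfl
    have h3 := hrepr hE i
    rw [hs', map_sum, Finsupp.finset_sum_apply] at h3
    rw [← h3]
    refine Finset.sum_congr rfl (fun j _ => ?_)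
    rw [map_smul, Finsupp.smul_apply, smul_eq_mul, hbK' j, hrepr]

end Groth.Agent.Lib.CotLambdaH4
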