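import Mathlib
import Groth.Prelude
import Groth.Agent.Lib.CotSmooth2_helper3
import Groth.Agent.Lib.FieldExt3_helper8
import Groth.Agent.Lib.LocDimProd_helper8
import Groth.Agent.Lib.ClosHt_helper8
import Groth.Agent.Lib.SchFT_helper8

/-!
# Morphisms of nonsingular varieties: smooth iff injective on cotangent spaces at closed points (helper3)
APPEND-ONLY once landed.
-/

set_option autoImplicit false
set_option maxHeartbeats 1600000
universe u

open CategoryTheory CategoryTheory.Limits AlgebraicGeometry TopologicalSpace Opposite IsLocalRing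

namespace Groth.Agent.Lib.CotSmoothH3

section Equidim

/-- constant local dimension ⇒ equidimensional (scheme locally of finite type over a field). -/
theorem equidim_of_localDim_const (κ : Type u) [Field κ] (T : Scheme.{u})
    (π : T ⟶ Spec (CommRingCat.of κ)) [LocallyOfFiniteType π] (r : WithBot ℕ∞)
    (h : ∀ t : T, FlatMor.localDim ↥T t = r) :
    ∀ Z ∈ irreducibleComponents ↥T, topologicalKrullDim ↥Z = r := by
  intro Z hZ
  letI ov : T.Over (Spec (CommRingCat.of κ)) := ⟨π⟩
  haveI : LocallyOfFiniteType (T ↘ Spec (CommRingCat.of κ)) := ‹LocallyOfFiniteType π›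
  have hirr : IsIrreducible Z := hZ.1
  have hcl : IsClosed Z := isClosed_of_mem_irreducibleComponents Z hZ
  obtain ⟨ξ, hξ⟩ := QuasiSober.sober hirr hcl
  have hξ' : closure ({ξ} : Set T) = Z := hξ
  subst hξ'
  have hmax := (Groth.Agent.SchFTH8.closure_mem_irreducibleComponents_iff ξ).mp hZ
  have hco : Order.coheight ξ = 0 := by
    rw [Order.coheight_eq_zero]
    intro z hz
    have : z = ξ := hmax z hz
    rw [this]
  have h1 := LocDimProdH8.localDim_eq κ T ξ
  rw [h ξ, hco, zero_add] at h1
  rw [Groth.Agent.ClosHtH8.topologicalKrullDim_closure_singleton T ξ, h1]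

end Equidim

section Main

variable (k : Type u) [Field k] [IsAlgClosed k] {X Y : Scheme.{u}}
  (qX : X ⟶ Spec (CommRingCat.of k)) (qY : Y ⟶ Spec (CommRingCat.of k))
  [IsIntegral X] [LocallyOfFiniteType qX] [Smooth qX]
  [IsIntegral Y] [LocallyOfFiniteType qY] [Smooth qY]
  (f : X ⟶ Y) (hf : f ≫ qY = qX)

include hf in
/-- injective cotangent maps at closed points ⇒ smooth. -/
theorem smooth_of_cotangentMapAt_injective
    (hT : ∀ x : X, IsClosed ({x} : Set ↥X) →
      Function.Injective (FixPt.cotangentMapAt f x (f.base x) rfl)) : Smooth f := by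
  haveI : LocallyOfFiniteType (f ≫ qY) := by rw [hf]; infer_instance
  haveI : LocallyOfFiniteType f := locallyOfFiniteType_of_comp f qY
  haveI : IsLocallyNoetherian Y := LocallyOfFiniteType.isLocallyNoetherian qY
  haveI : LocallyOfFinitePresentation f := by
    rw [HasRingHomProperty.iff_appLE (P := @LocallyOfFinitePresentation)]
    intro U V e
    have h1 := HasRingHomProperty.appLE (P := @LocallyOfFiniteType) f inferInstance U V e
    haveI : IsNoetherianRing Γ(Y, U.1) := IsLocallyNoetherian.component_noetherian U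
    exact RingHom.FinitePresentation.of_finiteType.1 h1
  have hreg : ∀ y : Y, IsRegularLocalRing (Y.presheaf.stalk y) :=
    Groth.Agent.Lib.JacDimSchH3.regular_stalk_of_smooth_field k qY
  have hregX : ∀ x : X, IsRegularLocalRing (X.presheaf.stalk x) :=
    Groth.Agent.Lib.JacDimSchH3.regular_stalk_of_smooth_field k qX
  haveI : JacobsonSpace ↥X := LocallyOfFiniteType.jacobsonSpace qX
  rw [← Scheme.Hom.smoothLocus_eq_top_iff]
  by_contra hne
  have hZne : ((f.smoothLocus : Set X)ᶜ).Nonempty := by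
    rw [Set.nonempty_compl]
    intro h
    apply hne
    ext x
    simp [h]
  obtain ⟨z, hz1, hz2⟩ := nonempty_inter_closedPoints hZne
    f.smoothLocus.isOpen.isClosed_compl.isLocallyClosed
  exact hz1 (mem_smoothLocus_of_cotangentMapAt_injective f hreg z (hregX z)
    (exists_sub_mem_of_isClosed qX qY f hf z hz2) (hT z hz2))

include hf in
/-- the fibre dimension of a flat morphism of integral schemes of finite type over a field. -/
theorem exists_fibreDimAt_eq (dX dY : ℕ) (hX : topologicalKrullDim ↥X = dX)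
    (hY : topologicalKrullDim ↥Y = dY) (x : X) (hfl : (f.stalkMap x).hom.Flat) :
    ∃ m : ℕ, FlatMor.fibreDimAt f x = ((m : ℕ∞) : WithBot ℕ∞) ∧ m + dY = dX := by
  haveI : LocallyOfFiniteType (f ≫ qY) := by rw [hf]; infer_instance
  haveI : LocallyOfFiniteType f := locallyOfFiniteType_of_comp f qY
  haveI : IsLocallyNoetherian Y := LocallyOfFiniteType.isLocallyNoetherian qY
  haveI : IsLocallyNoetherian X := LocallyOfFiniteType.isLocallyNoetherian qX
  obtain ⟨r, hr0⟩ := Groth.Agent.ResQuot2H8.exists_trdeg_nat f x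
  obtain ⟨rY, hrY0⟩ := Groth.Agent.ResQuot2H8.exists_trdeg_nat qY (f x)
  have hr : Dual3.resTrdeg f x = (r : Cardinal) := hr0
  have hrY : Dual3.resTrdeg qY (f x) = (rY : Cardinal) := hrY0
  have hXirr : ∀ Z ∈ irreducibleComponents ↥X, topologicalKrullDim ↥Z =
      ((dX : ℕ) : WithBot ℕ∞) := by
    intro Z hZ
    rw [irreducibleComponents_eq_singleton, Set.mem_singleton_iff] at hZ
    subst hZ
    rw [← hX]
    exact IsHomeomorph.topologicalKrullDim_eq _ (Homeomorph.Set.univ ↥X).isHomeomorph
  have hYirr : ∀ Z ∈ irreducibleComponents ↥Y, topologicalKrullDim ↥Z =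
      ((dY : ℕ) : WithBot ℕ∞) := by
    intro Z hZ
    rw [irreducibleComponents_eq_singleton, Set.mem_singleton_iff] at hZ
    subst hZ
    rw [← hY]
    exact IsHomeomorph.topologicalKrullDim_eq _ (Homeomorph.Set.univ ↥Y).isHomeomorph
  have hlX := Groth.Agent.Lib.AffDimH8.localDim_eq_of_equidim k X (f ≫ qY) _ hXirr x
  have hlY := Groth.Agent.Lib.AffDimH8.localDim_eq_of_equidim k Y qY _ hYirr (f x)
  rw [Groth.Agent.Lib.JacDimSchH3.localDim_eq_coheight_add k (f ≫ qY) x,
    ResTrdegH8.resTrdeg_comp f qY x, hr, hrY] at hlX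
  rw [Groth.Agent.Lib.JacDimSchH3.localDim_eq_coheight_add k qY (f x), hrY] at hlY
  simp only [← Nat.cast_add, Cardinal.toENat_nat] at hlX hlY
  have h1 : Order.coheight x + ((rY + r : ℕ) : ℕ∞) = ((dX : ℕ) : ℕ∞) := by
    exact_mod_cast hlX
  have h2 : Order.coheight (f x) + ((rY : ℕ) : ℕ∞) = ((dY : ℕ) : ℕ∞) := by
    exact_mod_cast hlY
  have hfin1 : Order.coheight x ≠ ⊤ := by
    intro h
    rw [h, top_add] at h1
    exact ENat.coe_ne_top _ h1.symm
  have hfin2 : Order.coheight (f x) ≠ ⊤ := by
    intro h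
    rw [h, top_add] at h2
    exact ENat.coe_ne_top _ h2.symm
  obtain ⟨a, ha⟩ := ENat.ne_top_iff_exists.mp hfin1
  obtain ⟨b, hb⟩ := ENat.ne_top_iff_exists.mp hfin2
  have h3 := Groth.Agent.Lib.CMMorH8.coheight_eq_add f x hfl
  rw [← ha, ← hb] at h3
  have hfin3 : FibCohH8.fibCoh f x ≠ ⊤ := by
    intro h
    rw [h, add_top] at h3
    exact ENat.coe_ne_top _ h3
  obtain ⟨c, hc⟩ := ENat.ne_top_iff_exists.mp hfin3
  rw [← hc] at h3
  rw [← ha] at h1
  rw [← hb] at h2
  have h1' : a + (rY + r) = dX := by exact_mod_cast h1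
  have h2' : b + rY = dY := by exact_mod_cast h2
  have h3' : a = b + c := by exact_mod_cast h3
  refine ⟨c + r, ?_, by omega⟩
  rw [FibCohH8.fibreDimAt_eq f x, hr, ← hc, Cardinal.toENat_nat, ← WithBot.coe_add]
  norm_cast

include hf in
theorem main10936 [IsSeparated qX] (n dY : ℕ) (hY : topologicalKrullDim ↥Y = dY)
    (hX : topologicalKrullDim ↥X = ((dY + n : ℕ) : WithBot ℕ∞)) :
    SmoothOfRelativeDimension n f ↔
      ∀ x : X, IsClosed ({x} : Set ↥X) →
        Function.Injective (FixPt.cotangentMapAt f x (f.base x) rfl) := by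
  haveI : IsLocallyNoetherian Y := LocallyOfFiniteType.isLocallyNoetherian qY
  constructor
  · intro hsm x _
    haveI := hsm
    haveI : Smooth f := SmoothOfRelativeDimension.smooth n f
    exact cotangentMapAt_injective_of_smooth f x
  · intro hT
    haveI hsm : Smooth f := smooth_of_cotangentMapAt_injective k qX qY f hf hT
    haveI : IsSeparated (f ≫ qY) := by rw [hf]; infer_instance
    haveI : IsSeparated f := IsSeparated.of_comp f qY
    have hd := Groth.Agent.Lib.OmegaUniv2H4.main5005 f
    refine Groth.Agent.Lib.JacDimSchH3.smoothOfRelativeDimension_of_free f (Omega.sheaf f)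
      (OmegaSh.dOmega f) hd n (fun x => ?_)
    obtain ⟨U, n', hxU, hiso, hfd⟩ :=
      Groth.Agent.Lib.OmegaSmoothFreeH4.main5019 f (Omega.sheaf f) (OmegaSh.dOmega f) hd x
    obtain ⟨m, hm, hmd⟩ := exists_fibreDimAt_eq k qX qY f hf (dY + n) dY hX hY x
      (Flat.stalkMap f x)
    have hmn : m = n := by omega
    rw [hm, hmn] at hfd
    have hnn : n = n' := by exact_mod_cast hfd
    subst hnn
    exact ⟨U, hxU, hiso⟩

include hf in
theorem main19460 (dX dY : ℕ) (hX : topologicalKrullDim ↥X = dX)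
    (hY : topologicalKrullDim ↥Y = dY)
    (hT : ∀ x : X, IsClosed ({x} : Set ↥X) →
      Function.Injective (FixPt.cotangentMapAt f x (f.base x) rfl)) :
    DenseRange f.base ∧ dY ≤ dX ∧
      ∀ y : Y, IsClosed ({y} : Set ↥Y) → y ∈ Set.range f.base →
        Smooth (f.fiberToSpecResidueField y) ∧
          ∀ Z ∈ irreducibleComponents ↥(f.fiber y),
            topologicalKrullDim ↥Z = ((dX - dY : ℕ) : WithBot ℕ∞) := by
  haveI hsm : Smooth f := smooth_of_cotangentMapAt_injective k qX qY f hf hT
  have hfd : ∀ x : X, FlatMor.fibreDimAt f x = (((dX - dY : ℕ) : ℕ∞) : WithBot ℕ∞) := by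
    intro x
    obtain ⟨m, hm, hmd⟩ := exists_fibreDimAt_eq k qX qY f hf dX dY hX hY x (Flat.stalkMap f x)
    rw [hm]
    congr 2
    omega
  refine ⟨?_, ?_, ?_⟩
  · have hopen : IsOpen (Set.range f.base) := f.isOpenMap.isOpen_range
    exact hopen.dense (Set.range_nonempty _)
  · obtain ⟨x⟩ : Nonempty X := inferInstance
    obtain ⟨m, -, hmd⟩ := exists_fibreDimAt_eq k qX qY f hf dX dY hX hY x (Flat.stalkMap f x)
    omega
  · intro y _ _
    refine ⟨inferInstanceAs (Smooth (pullback.snd f (Y.fromSpecResidueField y))), ?_⟩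
    haveI : LocallyOfFiniteType (f.fiberToSpecResidueField y) :=
      Groth.Agent.FibRes2H8.lft_fiber f y
    refine equidim_of_localDim_const (Y.residueField y) (f.fiber y)
      (f.fiberToSpecResidueField y) _ (fun t => ?_)
    rw [FieldExtH8.localDim_fiber_eq_fibreDimAt f y t (f.fiberι y t) rfl, hfd]
    rfl

end Main

end Groth.Agent.Lib.CotSmoothH3
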