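import Mathlib

open TensorProduct

namespace Groth.Agent.Lib.CotSplit

theorem mem_smul_top_of_one_tmul_eq_zero {B C M : Type*} [CommRing B] [CommRing C] [Algebra B C]
    [AddCommGroup M] [Module B M] (hC : Function.Surjective (algebraMap B C)) (m : M)
    (h : (1 : C) ⊗ₜ[B] m = 0) :
    m ∈ (RingHom.ker (algebraMap B C)) • (⊤ : Submodule B M) := by
  let f : B →ₗ[B] C := Algebra.linearMap B C
  have hf : Function.Surjective f := hC
  let e := f.quotKerEquivOfSurjective hf
  have h1 : e.symm 1 = (1 : B ⧸ LinearMap.ker f) := by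
    rw [LinearEquiv.symm_apply_eq]
    show (1 : C) = f 1
    simp [f]
  have h2 := congrArg (LinearMap.rTensor M (e.symm : C →ₗ[B] B ⧸ LinearMap.ker f)) h
  simp only [LinearMap.rTensor_tmul, LinearEquiv.coe_coe, map_zero] at h2
  have h3 : m ∈ LinearMap.ker (TensorProduct.mk B (B ⧸ LinearMap.ker f) M 1) := by
    rw [LinearMap.mem_ker, TensorProduct.mk_apply, ← h1]
    exact h2
  rw [LinearMap.ker_tensorProductMk] at h3
  have hk : RingHom.ker (algebraMap B C) = LinearMap.ker f := by
    ext x; simp [f, RingHom.mem_ker]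
  rw [hk]; exact h3

theorem main (A : Type*) [CommRing A] (B : Type*) [CommRing B] [Algebra A B]
    [Algebra.FormallySmooth A B] (C : Type*) [CommRing C]
    [Algebra B C] [Algebra A C] [IsScalarTower A B C] (hC : Function.Surjective (algebraMap A C))
    (hle : RingHom.ker (algebraMap A C) ≤ (RingHom.ker (algebraMap B C)).comap (Algebra.ofId A B)) :
    Function.Injective (Ideal.mapCotangent (RingHom.ker (algebraMap A C))
        (RingHom.ker (algebraMap B C)) (Algebra.ofId A B) hle) ∧
      (∃ r : (RingHom.ker (algebraMap B C)).Cotangent →ₗ[A] (RingHom.ker (algebraMap A C)).Cotangent,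
        r ∘ₗ (Ideal.mapCotangent (RingHom.ker (algebraMap A C)) (RingHom.ker (algebraMap B C))
          (Algebra.ofId A B) hle) = LinearMap.id) ∧
      LinearMap.range (Ideal.mapCotangent (RingHom.ker (algebraMap A C))
          (RingHom.ker (algebraMap B C)) (Algebra.ofId A B) hle) =
        LinearMap.ker ((KaehlerDifferential.kerCotangentToTensor A B C).restrictScalars A) ∧
      Function.Surjective (KaehlerDifferential.kerCotangentToTensor A B C) := by
  classical
  let I : Ideal A := RingHom.ker (algebraMap A C)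
  let J : Ideal B := RingHom.ker (algebraMap B C)
  let φ : I.Cotangent →ₗ[A] J.Cotangent := Ideal.mapCotangent I J (Algebra.ofId A B) hle
  have hBC : Function.Surjective (algebraMap B C) := by
    intro c; obtain ⟨a, rfl⟩ := hC c
    exact ⟨algebraMap A B a, (IsScalarTower.algebraMap_apply A B C a).symm⟩
  have hAJ : ∀ a : A, a ∈ I → algebraMap A B a ∈ J := fun a ha => hle ha
  let g : A ⧸ I ^ 2 →ₐ[A] C := Ideal.Quotient.liftₐ (I ^ 2) (Algebra.ofId A C) (fun a ha => by
    have h1 : a ∈ I := Ideal.pow_le_self two_ne_zero ha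
    exact RingHom.mem_ker.mp h1)
  have hg_mk : ∀ a : A, g (Ideal.Quotient.mk (I ^ 2) a) = algebraMap A C a := fun a => rfl
  have hg_surj : Function.Surjective g := by
    intro c; obtain ⟨a, rfl⟩ := hC c; exact ⟨Ideal.Quotient.mk _ a, hg_mk a⟩
  have hg_ker : ∀ x : A ⧸ I ^ 2, g x = 0 ↔ x ∈ I.cotangentIdeal := by
    intro x; obtain ⟨a, rfl⟩ := Ideal.Quotient.mk_surjective x
    rw [hg_mk, Ideal.mk_mem_cotangentIdeal]; exact RingHom.mem_ker.symm
  have hg_nil : IsNilpotent (RingHom.ker (g : A ⧸ I ^ 2 →+* C)) := by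
    refine ⟨2, ?_⟩
    have : RingHom.ker (g : A ⧸ I ^ 2 →+* C) = I.cotangentIdeal := by
      ext x; rw [RingHom.mem_ker]; exact hg_ker x
    rw [this, Ideal.cotangentIdeal_square]; rfl
  let σ : B →ₐ[A] A ⧸ I ^ 2 :=
    Algebra.FormallySmooth.liftOfSurjective (IsScalarTower.toAlgHom A B C) g hg_surj hg_nil
  have hσ : ∀ b : B, g (σ b) = algebraMap B C b := fun b =>
    Algebra.FormallySmooth.liftOfSurjective_apply (IsScalarTower.toAlgHom A B C) g hg_surj hg_nil b
  have hσJ : ∀ b ∈ J, σ b ∈ I.cotangentIdeal := fun b hb => by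
    rw [← hg_ker, hσ]; exact RingHom.mem_ker.mp hb
  have hsq : ∀ x ∈ I.cotangentIdeal, ∀ y ∈ I.cotangentIdeal, x * y = 0 := by
    intro x hx y hy
    have := Ideal.mul_mem_mul hx hy
    rw [← pow_two, Ideal.cotangentIdeal_square] at this
    exact this
  let r₀ : J →ₗ[A] I.Cotangent :=
    { toFun := fun x => I.cotangentEquivIdeal.symm ⟨σ x.1, hσJ x.1 x.2⟩
      map_add' := fun x y => by
        rw [← map_add]; congr 1; exact Subtype.ext (map_add σ _ _)
      map_smul' := fun a x => by
        rw [RingHom.id_apply, ← map_smul]; congr 1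
        exact Subtype.ext (map_smul σ a x.1) }
  have hr₀ : ∀ x y : J, r₀ (x * y) = 0 := by
    intro x y
    show I.cotangentEquivIdeal.symm ⟨σ (x * y : J).1, _⟩ = 0
    rw [LinearEquiv.symm_apply_eq, map_zero]
    apply Subtype.ext
    show σ (x.1 * y.1) = 0
    rw [map_mul]; exact hsq _ (hσJ _ x.2) _ (hσJ _ y.2)
  let r : J.Cotangent →ₗ[A] I.Cotangent := Ideal.Cotangent.lift r₀ hr₀
  have key1 : ∀ a (ha : a ∈ I), r₀ ⟨algebraMap A B a, hAJ a ha⟩ = I.toCotangent ⟨a, ha⟩ := by
    intro a ha
    show I.cotangentEquivIdeal.symm ⟨σ (algebraMap A B a), _⟩ = _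
    rw [LinearEquiv.symm_apply_eq]
    apply Subtype.ext
    rw [Ideal.cotangentEquivIdeal_apply, Ideal.toCotangent_to_quotient_square]
    show σ (algebraMap A B a) = _
    rw [σ.commutes]; rfl
  have hrφ : r ∘ₗ φ = LinearMap.id := by
    apply LinearMap.ext; intro x
    obtain ⟨⟨a, ha⟩, rfl⟩ := I.toCotangent_surjective x
    rw [LinearMap.comp_apply, LinearMap.id_apply]
    exact key1 a ha
  have hsurj : Function.Surjective (KaehlerDifferential.kerCotangentToTensor A B C) := by
    intro y
    haveI : Subsingleton (Ω[C⁄A]) := KaehlerDifferential.subsingleton_of_surjective A C hC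
    exact (KaehlerDifferential.exact_kerCotangentToTensor_mapBaseChange A B C hBC y).mp
      (Subsingleton.elim _ _)
  have hrange : LinearMap.range φ =
      LinearMap.ker ((KaehlerDifferential.kerCotangentToTensor A B C).restrictScalars A) := by
    apply le_antisymm
    · rintro _ ⟨x, rfl⟩
      obtain ⟨⟨a, ha⟩, rfl⟩ := I.toCotangent_surjective x
      rw [LinearMap.mem_ker, LinearMap.restrictScalars_apply]
      show (1 : C) ⊗ₜ[B] KaehlerDifferential.D A B (algebraMap A B a) = 0
      rw [Derivation.map_algebraMap, TensorProduct.tmul_zero]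
    · intro x hx
      obtain ⟨⟨y, hy⟩, rfl⟩ := J.toCotangent_surjective x
      rw [LinearMap.mem_ker, LinearMap.restrictScalars_apply,
        KaehlerDifferential.kerCotangentToTensor_toCotangent] at hx
      have hDy : KaehlerDifferential.D A B y ∈ J • (⊤ : Submodule B (Ω[B⁄A])) :=
        mem_smul_top_of_one_tmul_eq_zero hBC _ hx
      let K : Ideal (B ⧸ J ^ 2) := J.cotangentIdeal
      have hIJ2 : I ^ 2 ≤ (J ^ 2).comap (Algebra.ofId A B) := by
        rw [← Ideal.map_le_iff_le_comap, Ideal.map_pow]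
        exact Ideal.pow_right_mono (Ideal.map_le_iff_le_comap.mpr hle) 2
      let ι : A ⧸ I ^ 2 →ₐ[A] B ⧸ J ^ 2 := Ideal.quotientMapₐ (J ^ 2) (Algebra.ofId A B) hIJ2
      have hι : ∀ a : A, ι (Ideal.Quotient.mk _ a) = Ideal.Quotient.mk _ (algebraMap A B a) :=
        fun a => rfl
      let τ : B →ₐ[A] B ⧸ J ^ 2 := ι.comp σ
      have hτ : ∀ b : B, τ b - Ideal.Quotient.mk (J ^ 2) b ∈ K := by
        intro b
        obtain ⟨a, ha⟩ := Ideal.Quotient.mk_surjective (σ b)
        have h1 : algebraMap A C a = algebraMap B C b := by rw [← hg_mk, ha, hσ]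
        show ι (σ b) - _ ∈ K
        rw [← ha, hι, ← map_sub, Ideal.mk_mem_cotangentIdeal]
        show algebraMap A B a - b ∈ RingHom.ker (algebraMap B C)
        rw [RingHom.mem_ker, map_sub, ← IsScalarTower.algebraMap_apply, h1, sub_self]
      have e : (Ideal.Quotient.mkₐ A K).comp τ =
          IsScalarTower.toAlgHom A B ((B ⧸ J ^ 2) ⧸ K) := by
        ext b
        show Ideal.Quotient.mk K (τ b) = Ideal.Quotient.mk K (Ideal.Quotient.mk (J ^ 2) b)
        exact Ideal.Quotient.eq.mpr (hτ b)
      let Dτ : Derivation A B K :=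
        derivationToSquareZeroOfLift K (Ideal.cotangentIdeal_square J) τ e
      have hDτ : ∀ b, ((Dτ b : K) : B ⧸ J ^ 2) = τ b - Ideal.Quotient.mk (J ^ 2) b := fun b => rfl
      have hzero : Dτ.liftKaehlerDifferential (KaehlerDifferential.D A B y) = 0 := by
        refine Submodule.smul_induction_on (p := fun ω => Dτ.liftKaehlerDifferential ω = 0) hDy ?_ ?_
        · intro j hj ω _
          have h1 : (Ideal.Quotient.mk (J ^ 2) j) ∈ K := Ideal.mk_mem_cotangentIdeal.mpr hj
          have h2 := Ideal.mul_mem_mul h1 (Dτ.liftKaehlerDifferential ω).2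
          rw [← pow_two, Ideal.cotangentIdeal_square, Ideal.mem_bot] at h2
          show Dτ.liftKaehlerDifferential (j • ω) = 0
          rw [map_smul]
          apply Subtype.ext
          rw [Submodule.coe_smul_of_tower, Algebra.smul_def]
          exact h2
        · intro a b ha hb
          show Dτ.liftKaehlerDifferential (a + b) = 0
          rw [map_add, ha, hb, add_zero]
      rw [Derivation.liftKaehlerDifferential_comp_D] at hzero
      have h4 : τ y = Ideal.Quotient.mk (J ^ 2) y := by
        have := congrArg Subtype.val hzero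
        rw [hDτ] at this
        exact sub_eq_zero.mp this
      obtain ⟨a, ha⟩ := Ideal.Quotient.mk_surjective (σ y)
      have haI : a ∈ I := by
        show a ∈ RingHom.ker (algebraMap A C)
        rw [RingHom.mem_ker, ← hg_mk, ha, hσ]; exact RingHom.mem_ker.mp hy
      have h5 : Ideal.Quotient.mk (J ^ 2) (algebraMap A B a) = Ideal.Quotient.mk (J ^ 2) y := by
        rw [← h4]; show _ = ι (σ y); rw [← ha, hι]
      refine ⟨I.toCotangent ⟨a, haI⟩, ?_⟩
      show J.toCotangent ⟨algebraMap A B a, hAJ a haI⟩ = J.toCotangent ⟨y, hy⟩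
      rw [Ideal.toCotangent_eq]
      exact Ideal.Quotient.eq.mp h5
  exact ⟨Function.LeftInverse.injective (fun x => LinearMap.congr_fun hrφ x), ⟨r, hrφ⟩, hrange, hsurj⟩

end Groth.Agent.Lib.CotSplit
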