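import Mathlib
import Groth.Prelude.Def_CotT2
import Groth.Agent.Lib.T01Indep_helper1

set_option autoImplicit false

namespace Groth.Agent.Lib.T2VanH1

open TensorProduct CotT MvPolynomial

universe u v w₁ w₂ m

section KR

variable {R : Type u} [CommRing R] {N : Type v} [AddCommGroup N] [Module R N] (T : Submodule R N)

/-- relations among a weakly regular sequence are generated by the Koszul relations. -/
theorem koszul_rel : ∀ (n : ℕ) (g : Fin n → R) (e : Fin n → N),
    RingTheory.Sequence.IsWeaklyRegular R (List.ofFn g) →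
    (∀ k l, g k • e l - g l • e k ∈ T) →
    ∀ c : Fin n → R, ∑ i, c i * g i = 0 → ∑ i, c i • e i ∈ T := by
  intro n
  induction n with
  | zero =>
    intro g e _ _ c _
    rw [Finset.univ_eq_empty, Finset.sum_empty]
    exact zero_mem _
  | succ n ih =>
    intro g e hg hT c hc
    have hsplit : List.ofFn g =
        List.ofFn (fun i : Fin n => g i.castSucc) ++ [g (Fin.last n)] := by
      rw [List.ofFn_succ', List.concat_eq_append]
    rw [hsplit, RingTheory.Sequence.isWeaklyRegular_append_iff,
      RingTheory.Sequence.isWeaklyRegular_singleton_iff] at hg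
    obtain ⟨hg1, hg2⟩ := hg
    have hI : Ideal.ofList (List.ofFn (fun i : Fin n => g i.castSucc)) =
        Ideal.span (Set.range (fun i : Fin n => g i.castSucc)) :=
      congrArg Ideal.span (Set.ext fun a => List.mem_ofFn' _ a)
    rw [Fin.sum_univ_castSucc] at hc
    have hlast : c (Fin.last n) ∈ Ideal.span (Set.range (fun i : Fin n => g i.castSucc)) := by
      have h1 : c (Fin.last n) * g (Fin.last n) ∈
          Ideal.span (Set.range (fun i : Fin n => g i.castSucc)) := by
        have : c (Fin.last n) * g (Fin.last n) = - ∑ i : Fin n, c i.castSucc * g i.castSucc := by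
          rw [eq_neg_iff_add_eq_zero, add_comm]; exact hc
        rw [this]
        exact neg_mem (Ideal.sum_mem _ fun i _ =>
          Ideal.mul_mem_left _ _ (Ideal.subset_span ⟨i, rfl⟩))
      have h2 : g (Fin.last n) • (Submodule.Quotient.mk (c (Fin.last n)) :
          R ⧸ (Ideal.ofList (List.ofFn (fun i : Fin n => g i.castSucc)) • ⊤ : Submodule R R)) =
            g (Fin.last n) • 0 := by
        rw [smul_zero, ← Submodule.Quotient.mk_smul, Submodule.Quotient.mk_eq_zero]
        show g (Fin.last n) • c (Fin.last n) ∈
          Ideal.ofList (List.ofFn (fun i : Fin n => g i.castSucc)) • (⊤ : Ideal R)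
        rw [Ideal.smul_eq_mul, Ideal.mul_top, hI, smul_eq_mul, mul_comm]
        exact h1
      have h3 := hg2 h2
      rw [Submodule.Quotient.mk_eq_zero] at h3
      have h4 : c (Fin.last n) ∈
          Ideal.ofList (List.ofFn (fun i : Fin n => g i.castSucc)) • (⊤ : Ideal R) := h3
      rwa [Ideal.smul_eq_mul, Ideal.mul_top, hI] at h4
    obtain ⟨d, hd⟩ := (Ideal.mem_span_range_iff_exists_fun).mp hlast
    have hd' : ∑ i : Fin n, d i * g i.castSucc = c (Fin.last n) := hd
    have hsum : ∑ i : Fin n, (c i.castSucc + d i * g (Fin.last n)) * g i.castSucc = 0 := by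
      have : ∑ i : Fin n, (c i.castSucc + d i * g (Fin.last n)) * g i.castSucc =
          ∑ i : Fin n, c i.castSucc * g i.castSucc +
            (∑ i, d i * g i.castSucc) * g (Fin.last n) := by
        rw [Finset.sum_mul, ← Finset.sum_add_distrib]
        exact Finset.sum_congr rfl fun i _ => by ring
      rw [this, hd']; exact hc
    have hih := ih (fun i => g i.castSucc) (fun i => e i.castSucc) hg1
      (fun k l => hT k.castSucc l.castSucc) (fun i => c i.castSucc + d i * g (Fin.last n)) hsum
    rw [Fin.sum_univ_castSucc]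
    have key : ∑ i : Fin n, c i.castSucc • e i.castSucc + c (Fin.last n) • e (Fin.last n) =
        ∑ i : Fin n, (c i.castSucc + d i * g (Fin.last n)) • e i.castSucc -
          ∑ i : Fin n, d i • (g (Fin.last n) • e i.castSucc - g i.castSucc • e (Fin.last n)) := by
      rw [← hd', Finset.sum_smul, ← Finset.sum_add_distrib, ← Finset.sum_sub_distrib]
      refine Finset.sum_congr rfl fun i _ => ?_
      rw [add_smul, smul_sub, smul_smul, smul_smul]
      abel
    rw [key]
    exact sub_mem hih (Submodule.sum_mem _ fun i _ => Submodule.smul_mem _ _ (hT _ _))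

end KR

section Van

variable {A : Type u} {B : Type v} [CommRing A] [CommRing B] [Algebra A B]
variable {ι : Type w₁} {σ : Type w₂} (P : Algebra.Presentation A B ι σ)
variable (M : Type m) [AddCommGroup M] [Module B M]

theorem L2_eq_zero (h : relKer P ≤ trivRel P) (z : L2 P) : z = 0 := by
  induction z using Submodule.Quotient.induction_on with
  | H z =>
    rw [Submodule.Quotient.mk_eq_zero]
    induction z using TensorProduct.induction_on with
    | zero => exact zero_mem _
    | add x y hx hy => exact add_mem hx hy
    | tmul b q =>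
      refine LinearMap.mem_range.mpr ⟨b ⊗ₜ ⟨q, ?_⟩, ?_⟩
      · show (q : relMod P) ∈ trivRel P
        exact h q.2
      · rw [LinearMap.baseChange_tmul]
        rfl

theorem T2_subsingleton_of_le (h : relKer P ≤ trivRel P) : Subsingleton (T2 P M) := by
  have h0 : ∀ t : T2 P M, t = 0 := by
    intro t
    obtain ⟨ψ, rfl⟩ := Submodule.Quotient.mk_surjective _ t
    have : ψ = 0 := by
      apply LinearMap.ext
      intro z
      rw [L2_eq_zero P h z, map_zero, map_zero]
    rw [this, Submodule.Quotient.mk_zero]
  exact ⟨fun x y => by rw [h0 x, h0 y]⟩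

theorem L1_eq_zero [IsEmpty σ] (z : L1 P) : z = 0 := by
  induction z using TensorProduct.induction_on with
  | zero => rfl
  | add x y hx hy => rw [hx, hy, add_zero]
  | tmul b f =>
    have : f = 0 := by
      ext s
      exact (IsEmpty.false s).elim
    rw [this, TensorProduct.tmul_zero]

theorem T1_subsingleton_of_isEmpty [IsEmpty σ] : Subsingleton (T1 P M) := by
  have h0 : ∀ t : T1 P M, t = 0 := by
    intro t
    obtain ⟨c, rfl⟩ := Submodule.Quotient.mk_surjective _ t
    have : c = 0 := by
      apply Subtype.ext
      apply LinearMap.ext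
      intro z
      rw [L1_eq_zero P z, map_zero, map_zero]
    rw [this, Submodule.Quotient.mk_zero]
  exact ⟨fun x y => by rw [h0 x, h0 y]⟩

theorem relKer_le_of_isEmpty [IsEmpty σ] : relKer P ≤ trivRel P := by
  intro q _
  have : q = 0 := by
    ext s
    exact (IsEmpty.false s).elim
  rw [this]
  exact zero_mem _

end Van

section PolyRing

variable (A B : Type u) [CommRing A] [CommRing B] [Algebra A B] (κ : Type u)
  (e : MvPolynomial κ A ≃ₐ[A] B)

theorem aeval_eX (x : MvPolynomial κ A) : aeval (fun k => e (X k)) x = e x := by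
  have h : (aeval (fun k => e (X k)) : MvPolynomial κ A →ₐ[A] B) =
      (e : MvPolynomial κ A →ₐ[A] B) := by
    apply MvPolynomial.algHom_ext
    intro k
    rw [aeval_X]
    rfl
  exact DFunLike.congr_fun h x

/-- the relation-free presentation of an algebra isomorphic to a polynomial ring. -/
noncomputable def Ppoly : Algebra.Presentation A B κ PEmpty.{u+1} where
  __ := Algebra.Generators.ofSurjective (fun k => e (X k)) (fun b =>
    ⟨e.symm b, by rw [aeval_eX]; exact e.apply_symm_apply b⟩)
  relation := PEmpty.elim
  span_range_relation_eq_ker := by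
    rw [Set.range_eq_empty, Ideal.span_empty]
    symm
    rw [eq_bot_iff]
    intro x hx
    rw [Algebra.Generators.ker_eq_ker_aeval_val, RingHom.mem_ker] at hx
    change aeval (fun k => e (X k)) x = 0 at hx
    rw [aeval_eX] at hx
    have : x = 0 := by
      have h := congrArg e.symm hx
      rwa [e.symm_apply_apply, map_zero] at h
    rw [this]
    exact zero_mem _

include κ e in
theorem main12287 (M : Type u) [AddCommGroup M] [Module B M] :
    Subsingleton (CotT.T1 (CotT.canon A B) M) ∧ Subsingleton (CotT.T2 (CotT.canon A B) M) := by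
  have h1 : Subsingleton (T1 (Ppoly A B κ e) M) := T1_subsingleton_of_isEmpty _ M
  have h2 : Subsingleton (T2 (Ppoly A B κ e) M) :=
    T2_subsingleton_of_le _ M (relKer_le_of_isEmpty _)
  have e1 := Groth.Agent.Lib.T01IndepH1.T1_indep A B B (CanonRels A B) κ PEmpty.{u+1}
    (canon A B) (Ppoly A B κ e) M
  have e2 := Groth.Agent.Lib.T2IndepH1.T2_indep M (canon A B) (Ppoly A B κ e)
  exact ⟨e1.elim fun e1 => e1.toEquiv.subsingleton, e2.elim fun e2 => e2.toEquiv.subsingleton⟩

end PolyRing

section RegSeq

variable (A B : Type u) [CommRing A] [CommRing B] [Algebra A B]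
  (hs : Function.Surjective (algebraMap A B)) (rs : List A)
  (hI : RingHom.ker (algebraMap A B) = Ideal.ofList rs)

/-- the presentation of `A/(rs)` with no variables and the relations `rs`. -/
noncomputable def Prs : Algebra.Presentation A B PEmpty.{1} (Fin rs.length) where
  __ := Algebra.Generators.ofSurjectiveAlgebraMap hs
  relation := fun i => C (rs.get i)
  span_range_relation_eq_ker := by
    apply le_antisymm
    · refine Ideal.span_le.mpr ?_
      rintro _ ⟨i, rfl⟩
      show _ ∈ (Algebra.Generators.ofSurjectiveAlgebraMap hs).ker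
      rw [Algebra.Generators.ker_eq_ker_aeval_val, RingHom.mem_ker, aeval_C]
      have h : rs.get i ∈ Ideal.ofList rs := Ideal.subset_span (List.get_mem rs i)
      rw [← hI] at h
      exact h
    · intro x hx
      rw [Algebra.Generators.ker_eq_ker_aeval_val, RingHom.mem_ker] at hx
      obtain ⟨a, rfl⟩ := MvPolynomial.C_surjective PEmpty.{1} x
      rw [aeval_C] at hx
      have ha : a ∈ Ideal.ofList rs := by rw [← hI]; exact hx
      have h := Ideal.mem_map_of_mem (C : A →+* MvPolynomial PEmpty.{1} A) ha
      rw [Ideal.ofList, Ideal.map_span] at h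
      refine Ideal.span_mono ?_ h
      rintro _ ⟨a, ha, rfl⟩
      obtain ⟨i, rfl⟩ := List.mem_iff_get.mp ha
      exact ⟨i, rfl⟩

theorem wreg (hreg : RingTheory.Sequence.IsWeaklyRegular A rs) :
    RingTheory.Sequence.IsWeaklyRegular (MvPolynomial PEmpty.{1} A)
      (List.ofFn (fun i : Fin rs.length => (C (rs.get i) : MvPolynomial PEmpty.{1} A))) := by
  have h1 : RingTheory.Sequence.IsWeaklyRegular (MvPolynomial PEmpty.{1} A) rs :=
    (LinearEquiv.isWeaklyRegular_congr
      (isEmptyAlgEquiv A PEmpty.{1}).symm.toLinearEquiv rs).mp hreg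
  have h2 := (RingTheory.Sequence.isWeaklyRegular_map_algebraMap_iff (R := A)
    (S := MvPolynomial PEmpty.{1} A) (M := MvPolynomial PEmpty.{1} A) rs).mpr h1
  have h3 : List.ofFn (fun i : Fin rs.length => (C (rs.get i) : MvPolynomial PEmpty.{1} A)) =
      rs.map (algebraMap A (MvPolynomial PEmpty.{1} A)) :=
    List.ofFn_getElem_eq_map rs _
  rw [h3]
  exact h2

theorem relKer_le_trivRel (hreg : RingTheory.Sequence.IsWeaklyRegular A rs) :
    relKer (Prs A B hs rs hI) ≤ trivRel (Prs A B hs rs hI) := by
  intro q hq
  have hq0 : jmap (Prs A B hs rs hI) q = 0 := hq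
  have e1 : q = ∑ i, q i • (Finsupp.single i 1 : relMod (Prs A B hs rs hI)) := by
    conv_lhs => rw [← Finsupp.univ_sum_single q]
    refine Finset.sum_congr rfl fun i _ => ?_
    rw [Finsupp.smul_single_one]
  have e2 : ∑ i, q i * rel (Prs A B hs rs hI) i = 0 := by
    rw [← hq0, jmap, Finsupp.linearCombination_apply, Finsupp.sum_fintype]
    · rfl
    · intro i
      exact zero_smul _ _
  rw [e1]
  have hw : RingTheory.Sequence.IsWeaklyRegular (Prs A B hs rs hI).toExtension.Ring
      (List.ofFn (fun i => rel (Prs A B hs rs hI) i)) := wreg A rs hreg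
  refine koszul_rel (R := (Prs A B hs rs hI).toExtension.Ring) (trivRel (Prs A B hs rs hI)) _
    (fun i => rel (Prs A B hs rs hI) i) (fun i => Finsupp.single i 1) hw (fun k l => ?_)
    (fun i => q i) e2
  refine Submodule.subset_span ⟨Finsupp.single k 1, Finsupp.single l 1, ?_⟩
  rw [jmap_single, jmap_single, one_mul, one_mul]

include hs hI in
theorem main12288 [IsLocalRing A] (hreg : RingTheory.Sequence.IsRegular A rs)
    (M : Type u) [AddCommGroup M] [Module B M] :
    Subsingleton (CotT.T2 (CotT.canon A B) M) := by
  have h2 : Subsingleton (T2 (Prs A B hs rs hI) M) :=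
    T2_subsingleton_of_le _ M (relKer_le_trivRel A B hs rs hI hreg.toIsWeaklyRegular)
  have e2 := Groth.Agent.Lib.T2IndepH1.T2_indep M (canon A B) (Prs A B hs rs hI)
  exact e2.elim fun e2 => e2.toEquiv.subsingleton

end RegSeq

end Groth.Agent.Lib.T2VanH1
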