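import Mathlib
import Groth.Prelude.Def_CotT2

set_option autoImplicit false

namespace Groth.Agent.Lib.PHGenH1

open TensorProduct CotT

universe u v w t u' v' w' t' m

/-! ### basic facts on one presentation (universe-general) -/
section One

variable {A : Type u} {B : Type v} {ι : Type w} {σ : Type t} [CommRing A] [CommRing B] [Algebra A B]
  (P : Algebra.Presentation A B ι σ)

theorem toCot_surjective : Function.Surjective (toCot P) := by
  intro x
  obtain ⟨y, rfl⟩ := Algebra.Extension.Cotangent.mk_surjective x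
  have hy : (y : P.toExtension.Ring) ∈ LinearMap.range (jmap P) := by
    rw [range_jmap]; exact y.2
  obtain ⟨f, hf⟩ := hy
  refine ⟨(1 : B) ⊗ₜ f, ?_⟩
  rw [toCot_tmul, one_smul]
  congr 1
  exact Subtype.ext hf

theorem exists_one_tmul (x : L1 P) : ∃ f : relMod P, (1 : B) ⊗ₜ[P.toExtension.Ring] f = x := by
  induction x using TensorProduct.induction_on with
  | zero => exact ⟨0, by simp⟩
  | tmul b f =>
    obtain ⟨r, rfl⟩ := P.toExtension.algebraMap_surjective b
    refine ⟨r • f, ?_⟩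
    rw [TensorProduct.tmul_smul, TensorProduct.smul_tmul', Algebra.smul_def, mul_one]
  | add x y hx hy =>
    obtain ⟨f, rfl⟩ := hx
    obtain ⟨g, rfl⟩ := hy
    exact ⟨f + g, TensorProduct.tmul_add _ _ _⟩

theorem one_tmul_smul_mem (a : P.toExtension.Ring) (ha : a ∈ P.toExtension.ker) (h : relMod P) :
    (1 : B) ⊗ₜ[P.toExtension.Ring] (a • h) = 0 := by
  rw [TensorProduct.tmul_smul, TensorProduct.smul_tmul', Algebra.smul_def, mul_one]
  have h0 : algebraMap P.toExtension.Ring B a = 0 := ha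
  rw [h0, TensorProduct.zero_tmul]

theorem ker_toCot_le_range_d2 : LinearMap.ker (toCot P) ≤ LinearMap.range (d2 P) := by
  intro x hx
  obtain ⟨f, rfl⟩ := exists_one_tmul P x
  rw [LinearMap.mem_ker, toCot_tmul, one_smul, Algebra.Extension.Cotangent.mk_eq_zero_iff] at hx
  have hI2 : jmap P f ∈ P.toExtension.ker ^ 2 := hx
  have hmap : (P.toExtension.ker • (⊤ : Submodule P.toExtension.Ring (relMod P))).map
      (jmap P) = P.toExtension.ker ^ 2 := by
    rw [Submodule.map_smul'', Submodule.map_top, range_jmap, pow_two]; rfl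
  rw [← hmap] at hI2
  obtain ⟨g, hg, hgf⟩ := hI2
  have hg0 : (1 : B) ⊗ₜ[P.toExtension.Ring] g = 0 := by
    refine Submodule.smul_induction_on hg ?_ ?_
    · intro a ha h _
      exact one_tmul_smul_mem P a ha h
    · intro x y hx hy
      rw [TensorProduct.tmul_add, hx, hy, add_zero]
  have hq : f - g ∈ relKer P := by
    show jmap P (f - g) = 0
    rw [map_sub, hgf, sub_self]
  refine ⟨Submodule.Quotient.mk ((1 : B) ⊗ₜ ⟨f - g, hq⟩), ?_⟩
  rw [d2_mk_tmul]
  show (1 : B) ⊗ₜ[P.toExtension.Ring] (f - g) = (1 : B) ⊗ₜ f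
  rw [TensorProduct.tmul_sub, hg0, sub_zero]

variable (M : Type m) [AddCommGroup M] [Module B M]

/-- a cocycle factors through `I/I²`. -/
theorem exists_factor_cocycle (c : L1 P →ₗ[B] M) (hc : c ∘ₗ d2 P = 0) :
    ∃ φ : P.toExtension.Cotangent →ₗ[B] M, φ ∘ₗ toCot P = c := by
  have hle : LinearMap.ker (toCot P) ≤ LinearMap.ker c := by
    intro x hx
    obtain ⟨z, rfl⟩ := ker_toCot_le_range_d2 P hx
    exact LinearMap.congr_fun hc z
  let e := LinearMap.quotKerEquivOfSurjective (toCot P) (toCot_surjective P)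
  refine ⟨(Submodule.liftQ _ c hle) ∘ₗ e.symm.toLinearMap, ?_⟩
  apply LinearMap.ext
  intro x
  have h1 : e.symm (toCot P x) = Submodule.Quotient.mk x := by
    rw [LinearEquiv.symm_apply_eq]
    rfl
  show Submodule.liftQ _ c hle (e.symm (toCot P x)) = c x
  rw [h1]
  rfl

/-- a cocycle takes the same value on `b ⊗ f₁` and `b ⊗ f₂` when `j f₁ = j f₂`. -/
theorem cocycle_tmul_eq (c : L1 P →ₗ[B] M) (hc : c ∘ₗ d2 P = 0) (b : B) (f₁ f₂ : relMod P)
    (h : jmap P f₁ = jmap P f₂) : c (b ⊗ₜ f₁) = c (b ⊗ₜ f₂) := by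
  have hq : f₁ - f₂ ∈ relKer P := by
    show jmap P (f₁ - f₂) = 0
    rw [map_sub, h, sub_self]
  have h1 := LinearMap.congr_fun hc (Submodule.Quotient.mk (b ⊗ₜ ⟨f₁ - f₂, hq⟩))
  rw [LinearMap.comp_apply, d2_mk_tmul, LinearMap.zero_apply] at h1
  have h2 : (b ⊗ₜ[P.toExtension.Ring] f₁ : L1 P) = b ⊗ₜ (f₁ - f₂) + b ⊗ₜ f₂ := by
    rw [← TensorProduct.tmul_add, sub_add_cancel]
  rw [h2, map_add]
  have h3 : c (b ⊗ₜ[P.toExtension.Ring] (f₁ - f₂)) = 0 := h1
  rw [h3, zero_add]

end One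

/-! ### formulas for the pulls of a morphism of presentations -/
section Pulls

variable {A : Type u} {B : Type v} {ι : Type w} {σ : Type t}
variable {A' : Type u'} {B' : Type v'} {ι' : Type w'} {σ' : Type t'}
variable [CommRing A] [CommRing B] [Algebra A B] [CommRing A'] [CommRing B'] [Algebra A' B']
variable [Algebra A A'] [Algebra B B'] [Algebra A B'] [IsScalarTower A A' B'] [IsScalarTower A B B']
variable {P : Algebra.Presentation A B ι σ} {P' : Algebra.Presentation A' B' ι' σ'}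
variable (h : PresHom P P')
variable (M' : Type m) [AddCommGroup M'] [Module B' M'] [Module B M'] [IsScalarTower B B' M']

theorem T0pull_coe (t : T0 P' M') : ((h.T0pull M' t : T0 P M') : L0 P →ₗ[B] M') =
    h.pull0 M' (t : L0 P' →ₗ[B'] M') := rfl

theorem T1pull_mk (c : cocycles1 P' M') :
    h.T1pull M' (Submodule.Quotient.mk c) = Submodule.Quotient.mk (h.cocycles1Pull M' c) := rfl

theorem T2pull_mk (ψ : L2 P' →ₗ[B'] M') :
    h.T2pull M' (Submodule.Quotient.mk ψ) = Submodule.Quotient.mk (h.pull2 M' ψ) := rfl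

end Pulls

/-! ### raw data over `B → B'` and the homotopy for equal ring maps -/
section GM

variable {A : Type u} {B : Type v} {ι : Type w} {σ : Type t}
variable {A' : Type u'} {B' : Type v'} {ι' : Type w'} {σ' : Type t'}
variable [CommRing A] [CommRing B] [Algebra A B] [CommRing A'] [CommRing B'] [Algebra A' B']
variable [Algebra B B']
variable (P : Algebra.Presentation A B ι σ) (P' : Algebra.Presentation A' B' ι' σ')
variable (θ : P.toExtension.Ring →+* P'.toExtension.Ring)
  (hθ : ∀ x, algebraMap P'.toExtension.Ring B' (θ x) =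
    algebraMap B B' (algebraMap P.toExtension.Ring B x))
variable (α : relMod P →ₛₗ[θ] relMod P') (hα : ∀ f, jmap P' (α f) = θ (jmap P f))

/-- `Q → Q'`. -/
noncomputable def gKer : relKer P →ₛₗ[θ] relKer P' :=
  (α.comp (relKer P).subtype).codRestrict (relKer P') (fun q => by
    change jmap P' (α (q : relMod P)) = 0
    rw [hα, show jmap P (q : relMod P) = 0 from q.2, map_zero])

@[simp] theorem gKer_coe (q : relKer P) : (gKer P P' θ α hα q : relMod P') = α q := rfl

include hα in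
theorem map_mem_trivRel {y : relMod P} (hy : y ∈ trivRel P) : α y ∈ trivRel P' := by
  induction hy using Submodule.span_induction with
  | mem x hx =>
    obtain ⟨a, b, rfl⟩ := hx
    refine Submodule.subset_span ⟨α a, α b, ?_⟩
    rw [map_sub, LinearMap.map_smulₛₗ, LinearMap.map_smulₛₗ, hα, hα]
  | zero => simp
  | add x y _ _ hx hy => rw [map_add]; exact Submodule.add_mem _ hx hy
  | smul r x _ hx => rw [LinearMap.map_smulₛₗ]; exact Submodule.smul_mem _ _ hx

/-- `B ⊗ Q → L₂'`. -/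
noncomputable def gL2Aux :
    B ⊗[P.toExtension.Ring] relKer P →ₛₗ[(algebraMap B B' : B →+* B')] L2 P' where
  toFun z := Submodule.Quotient.mk (tensorMap θ hθ (gKer P P' θ α hα) z)
  map_add' x y := by rw [map_add, Submodule.Quotient.mk_add]
  map_smul' b z := by rw [LinearMap.map_smulₛₗ, Submodule.Quotient.mk_smul]

theorem gL2Aux_tmul (b : B) (q : relKer P) :
    gL2Aux P P' θ hθ α hα (b ⊗ₜ q) =
      Submodule.Quotient.mk (algebraMap B B' b ⊗ₜ gKer P P' θ α hα q) := rfl

/-- `L₂ → L₂'`. -/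
noncomputable def gL2 : L2 P →ₛₗ[(algebraMap B B' : B →+* B')] L2 P' :=
  Submodule.liftQ _ (gL2Aux P P' θ hθ α hα) (by
    rintro _ ⟨z, rfl⟩
    rw [LinearMap.mem_ker]
    induction z using TensorProduct.induction_on with
    | zero => simp
    | add x y hx hy => rw [map_add, map_add, hx, hy, add_zero]
    | tmul b k =>
      rw [LinearMap.baseChange_tmul, gL2Aux_tmul, Submodule.Quotient.mk_eq_zero]
      refine ⟨algebraMap B B' b ⊗ₜ ⟨gKer P P' θ α hα (k : relKer P), ?_⟩, rfl⟩
      change (gKer P P' θ α hα (k : relKer P) : relMod P') ∈ trivRel P'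
      rw [gKer_coe]
      exact map_mem_trivRel P P' θ α hα k.2)

@[simp] theorem gL2_mk_tmul (b : B) (q : relKer P) :
    gL2 P P' θ hθ α hα (Submodule.Quotient.mk (b ⊗ₜ q)) =
      Submodule.Quotient.mk (algebraMap B B' b ⊗ₜ gKer P P' θ α hα q) := rfl

variable (M' : Type m) [AddCommGroup M'] [Module B' M'] [Module B M'] [IsScalarTower B B' M']

/-- precomposition with `L₂ → L₂'`. -/
noncomputable def gPull2 : (L2 P' →ₗ[B'] M') →ₗ[B] (L2 P →ₗ[B] M') where
  toFun ψ := PresHom.linOfSemilinear M' (ψ.comp (gL2 P P' θ hθ α hα))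
  map_add' _ _ := rfl
  map_smul' _ _ := rfl

theorem gPull2_apply (ψ : L2 P' →ₗ[B'] M') (z : L2 P) :
    gPull2 P P' θ hθ α hα M' ψ z = ψ (gL2 P P' θ hθ α hα z) := rfl

/-- two maps agreeing on the classes of pure tensors agree. -/
theorem L2_hom_ext {N : Type m} [AddCommGroup N] (f g : L2 P →+ N)
    (h : ∀ (b : B) (q : relKer P), f (Submodule.Quotient.mk (b ⊗ₜ q)) =
      g (Submodule.Quotient.mk (b ⊗ₜ q))) : f = g := by
  apply AddMonoidHom.ext
  intro z
  induction z using Submodule.Quotient.induction_on with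
  | H z =>
    induction z using TensorProduct.induction_on with
    | zero => rw [Submodule.Quotient.mk_zero, map_zero, map_zero]
    | add x y hx hy => rw [Submodule.Quotient.mk_add, map_add, map_add, hx, hy]
    | tmul b q => exact h b q

variable (α₂ : relMod P →ₛₗ[θ] relMod P') (hα₂ : ∀ f, jmap P' (α₂ f) = θ (jmap P f))

/-- the difference `F → Q'`. -/
noncomputable def gDel : relMod P →ₛₗ[θ] relKer P' :=
  (α - α₂).codRestrict (relKer P') (fun f => by
    change jmap P' ((α - α₂) f) = 0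
    rw [LinearMap.sub_apply, map_sub, hα, hα₂, sub_self])

theorem gDel_coe (f : relMod P) : (gDel P P' θ α hα α₂ hα₂ f : relMod P') = α f - α₂ f := rfl

/-- the homotopy `L₁ → L₂'`. -/
noncomputable def gHom : L1 P →ₛₗ[(algebraMap B B' : B →+* B')] L2 P' where
  toFun z := Submodule.Quotient.mk (tensorMap θ hθ (gDel P P' θ α hα α₂ hα₂) z)
  map_add' x y := by rw [map_add, Submodule.Quotient.mk_add]
  map_smul' b z := by rw [LinearMap.map_smulₛₗ, Submodule.Quotient.mk_smul]

theorem gHom_tmul (b : B) (f : relMod P) :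
    gHom P P' θ hθ α hα α₂ hα₂ (b ⊗ₜ f) =
      Submodule.Quotient.mk (algebraMap B B' b ⊗ₜ gDel P P' θ α hα α₂ hα₂ f) := rfl

theorem gPull2_sub (ψ : L2 P' →ₗ[B'] M') :
    gPull2 P P' θ hθ α hα M' ψ - gPull2 P P' θ hθ α₂ hα₂ M' ψ =
      d2Star P M' (PresHom.linOfSemilinear M' (ψ.comp (gHom P P' θ hθ α hα α₂ hα₂))) := by
  have key := L2_hom_ext P
    ((gPull2 P P' θ hθ α hα M' ψ - gPull2 P P' θ hθ α₂ hα₂ M' ψ : L2 P →ₗ[B] M') : L2 P →+ M')
    ((d2Star P M' (PresHom.linOfSemilinear M' (ψ.comp (gHom P P' θ hθ α hα α₂ hα₂))) :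
      L2 P →ₗ[B] M') : L2 P →+ M') (fun b q => by
      show ψ (Submodule.Quotient.mk (algebraMap B B' b ⊗ₜ gKer P P' θ α hα q)) -
          ψ (Submodule.Quotient.mk (algebraMap B B' b ⊗ₜ gKer P P' θ α₂ hα₂ q)) =
        ψ (gHom P P' θ hθ α hα α₂ hα₂ (d2 P (Submodule.Quotient.mk (b ⊗ₜ q))))
      rw [d2_mk_tmul, gHom_tmul, ← map_sub, ← Submodule.Quotient.mk_sub]
      congr 2
      have hd : gDel P P' θ α hα α₂ hα₂ (q : relMod P) =
          gKer P P' θ α hα q - gKer P P' θ α₂ hα₂ q := Subtype.ext rfl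
      rw [hd]
      exact (TensorProduct.tmul_sub (R := P'.toExtension.Ring) (M := B')
        (P := relKer P') (algebraMap B B' b) _ _).symm)
  apply LinearMap.ext
  intro z
  exact DFunLike.congr_fun key z

theorem gPull2_sub_mem (ψ : L2 P' →ₗ[B'] M') :
    gPull2 P P' θ hθ α hα M' ψ - gPull2 P P' θ hθ α₂ hα₂ M' ψ ∈ LinearMap.range (d2Star P M') :=
  LinearMap.mem_range.mpr ⟨_, (gPull2_sub P P' θ hθ α hα M' α₂ hα₂ ψ).symm⟩

end GM

end Groth.Agent.Lib.PHGenH1
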