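import Mathlib
import Groth.Prelude.Def_CotT2
import Groth.Agent.Lib.PHGen_helper1

/-!
Helper library (helper1): the abstract nine-term sequence for a pair of morphisms of presentations
`P₁ → P₂ → P₃` (over `A → B → C`) whose induced sequence of dual complexes is short exact
(`Adapted`).  APPEND-ONLY once landed.
-/

set_option autoImplicit false
set_option maxHeartbeats 1000000

namespace Groth.Agent.Lib.NineSnakeH1

open TensorProduct CotT Groth.Agent.Lib.PHGenH1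

universe u w m

/-- a single-valued, total, additive relation is the graph of an additive map. -/
theorem exists_addHom_of_rel {G H : Type*} [AddCommGroup G] [AddCommGroup H] (R : G → H → Prop)
    (hex : ∀ g, ∃ h, R g h) (huniq : ∀ g h h', R g h → R g h' → h = h')
    (hadd : ∀ g g' h h', R g h → R g' h' → R (g + g') (h + h')) :
    ∃ δ : G →+ H, ∀ g h, R g h ↔ δ g = h := by
  classical
  choose f hf using hex
  refine ⟨AddMonoidHom.mk' f (fun a b =>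
    huniq _ _ _ (hf (a + b)) (hadd _ _ _ _ (hf a) (hf b))), fun g h => ⟨fun hR => ?_, fun e => ?_⟩⟩
  · exact huniq _ _ _ (hf g) hR
  · have e' : f g = h := e
    rw [← e']
    exact hf g

section Main

variable {A B C : Type u} [CommRing A] [CommRing B] [CommRing C] [Algebra A B] [Algebra B C]
  [Algebra A C] [IsScalarTower A B C]
variable {ι₁ σ₁ ι₂ σ₂ ι₃ σ₃ : Type w}
variable {P₁ : Algebra.Presentation A B ι₁ σ₁} {P₂ : Algebra.Presentation A C ι₂ σ₂}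
  {P₃ : Algebra.Presentation B C ι₃ σ₃}
variable (g₁ : PresHom P₁ P₂) (g₂ : PresHom P₂ P₃)
variable (M : Type m) [AddCommGroup M] [Module C M] [Module B M] [IsScalarTower B C M]

/-- the sequence of dual complexes `Hom(L•P₃, M) → Hom(L•P₂, M) → Hom(L•P₁, M)` is short exact
in degrees `0, 1` and left exact in degree `2`. -/
structure Adapted : Prop where
  zero0 : ∀ φ : L0 P₃ →ₗ[C] M, g₁.pull0 M (g₂.pull0 M φ) = 0
  zero1 : ∀ φ : L1 P₃ →ₗ[C] M, g₁.pull1 M (g₂.pull1 M φ) = 0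
  zero2 : ∀ φ : L2 P₃ →ₗ[C] M, g₁.pull2 M (g₂.pull2 M φ) = 0
  inj0 : Function.Injective (g₂.pull0 M)
  inj1 : Function.Injective (g₂.pull1 M)
  inj2 : Function.Injective (g₂.pull2 M)
  ex0 : ∀ φ' : L0 P₂ →ₗ[C] M, g₁.pull0 M φ' = 0 → ∃ φ, g₂.pull0 M φ = φ'
  ex1 : ∀ φ' : L1 P₂ →ₗ[C] M, g₁.pull1 M φ' = 0 → ∃ φ, g₂.pull1 M φ = φ'
  ex2 : ∀ φ' : L2 P₂ →ₗ[C] M, g₁.pull2 M φ' = 0 → ∃ φ, g₂.pull2 M φ = φ'
  surj0 : Function.Surjective (g₁.pull0 M)
  surj1 : Function.Surjective (g₁.pull1 M)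

variable {g₁ g₂ M}

theorem T0_inj (had : Adapted g₁ g₂ M) : Function.Injective (g₂.T0pull M) := by
  intro x y hxy
  apply Subtype.ext
  apply had.inj0
  exact congrArg Subtype.val hxy

theorem T0_exact (had : Adapted g₁ g₂ M) : Function.Exact (g₂.T0pull M) (g₁.T0pull M) := by
  intro y
  constructor
  · intro hy
    have h1 : g₁.pull0 M (y : L0 P₂ →ₗ[C] M) = 0 := congrArg Subtype.val hy
    obtain ⟨x, hx⟩ := had.ex0 _ h1
    have hx1 : d1Star P₃ M x = 0 := by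
      apply had.inj1
      rw [g₂.pull1_d1Star, hx, map_zero]
      exact y.2
    exact ⟨⟨x, hx1⟩, Subtype.ext hx⟩
  · rintro ⟨x, rfl⟩
    apply Subtype.ext
    exact had.zero0 x.1

theorem T1_exact (had : Adapted g₁ g₂ M) : Function.Exact (g₂.T1pull M) (g₁.T1pull M) := by
  intro y
  constructor
  · refine Submodule.Quotient.induction_on _ y (fun c' => ?_)
    intro hy
    have h1 : (Submodule.Quotient.mk (g₁.cocycles1Pull M c') : T1 P₁ M) = 0 := hy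
    rw [Submodule.Quotient.mk_eq_zero] at h1
    obtain ⟨ζ, hζ⟩ := h1
    have hζ' : d1Star P₁ M ζ = g₁.pull1 M (c' : L1 P₂ →ₗ[C] M) := hζ
    obtain ⟨η, rfl⟩ := had.surj0 ζ
    have h2 : g₁.pull1 M ((c' : L1 P₂ →ₗ[C] M) - d1Star P₂ M η) = 0 := by
      rw [map_sub, g₁.pull1_d1Star, hζ', sub_self]
    obtain ⟨x, hx⟩ := had.ex1 _ h2
    have hx2 : d2Star P₃ M x = 0 := by
      apply had.inj2
      have e1 : d2Star P₂ M (c' : L1 P₂ →ₗ[C] M) = 0 := c'.2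
      have e2 : d2Star P₂ M (d1Star P₂ M η) = 0 :=
        LinearMap.congr_fun (d2Star_comp_d1Star P₂ M) η
      rw [g₂.pull2_d2Star, hx, map_zero, map_sub, e1, e2, sub_zero]
    refine ⟨Submodule.Quotient.mk ⟨x, hx2⟩, ?_⟩
    show (Submodule.Quotient.mk (g₂.cocycles1Pull M ⟨x, hx2⟩) : T1 P₂ M) =
      Submodule.Quotient.mk c'
    rw [Submodule.Quotient.eq]
    refine ⟨-η, ?_⟩
    show d1Star P₂ M (-η) = g₂.pull1 M x - (c' : L1 P₂ →ₗ[C] M)
    rw [hx, map_neg]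
    abel
  · rintro ⟨x, rfl⟩
    refine Submodule.Quotient.induction_on _ x (fun c => ?_)
    show (Submodule.Quotient.mk (g₁.cocycles1Pull M (g₂.cocycles1Pull M c)) : T1 P₁ M) = 0
    have h0 : g₁.cocycles1Pull M (g₂.cocycles1Pull M c) = 0 := Subtype.ext (had.zero1 c.1)
    rw [h0, Submodule.Quotient.mk_zero]

theorem T2_exact (had : Adapted g₁ g₂ M) : Function.Exact (g₂.T2pull M) (g₁.T2pull M) := by
  intro y
  constructor
  · refine Submodule.Quotient.induction_on _ y (fun ψ' => ?_)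
    intro hy
    have h1 : (Submodule.Quotient.mk (g₁.pull2 M ψ') : T2 P₁ M) = 0 := hy
    rw [Submodule.Quotient.mk_eq_zero] at h1
    obtain ⟨ζ, hζ⟩ := h1
    have hζ' : d2Star P₁ M ζ = g₁.pull2 M ψ' := hζ
    obtain ⟨η, rfl⟩ := had.surj1 ζ
    have h2 : g₁.pull2 M (ψ' - d2Star P₂ M η) = 0 := by
      have e := (g₁.pull2 M).map_sub ψ' (d2Star P₂ M η)
      rw [e, g₁.pull2_d2Star, hζ', sub_self]
    obtain ⟨x, hx⟩ := had.ex2 _ h2
    refine ⟨Submodule.Quotient.mk x, ?_⟩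
    show (Submodule.Quotient.mk (g₂.pull2 M x) : T2 P₂ M) = Submodule.Quotient.mk ψ'
    rw [Submodule.Quotient.eq, hx]
    refine ⟨-η, ?_⟩
    rw [map_neg]
    abel
  · rintro ⟨x, rfl⟩
    refine Submodule.Quotient.induction_on _ x (fun ψ => ?_)
    show (Submodule.Quotient.mk (g₁.pull2 M (g₂.pull2 M ψ)) : T2 P₁ M) = 0
    rw [had.zero2 ψ, Submodule.Quotient.mk_zero]

variable (g₁ g₂ M)

/-- the relation defining `δ₀`. -/
def Rel0 (z : T0 P₁ M) (t : T1 P₃ M) : Prop :=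
  ∃ (x : cocycles1 P₃ M) (y : L0 P₂ →ₗ[C] M), g₁.pull0 M y = (z : L0 P₁ →ₗ[B] M) ∧
    g₂.pull1 M (x : L1 P₃ →ₗ[C] M) = d1Star P₂ M y ∧ t = Submodule.Quotient.mk x

/-- the relation defining `δ₁`. -/
def Rel1 (z : T1 P₁ M) (t : T2 P₃ M) : Prop :=
  ∃ (c : cocycles1 P₁ M) (y : L1 P₂ →ₗ[C] M) (x : L2 P₃ →ₗ[C] M),
    z = Submodule.Quotient.mk c ∧ g₁.pull1 M y = (c : L1 P₁ →ₗ[B] M) ∧
    g₂.pull2 M x = d2Star P₂ M y ∧ t = Submodule.Quotient.mk x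

variable {g₁ g₂ M}

theorem rel0_exists (had : Adapted g₁ g₂ M) (z : T0 P₁ M) : ∃ t, Rel0 g₁ g₂ M z t := by
  obtain ⟨y, hy⟩ := had.surj0 (z : L0 P₁ →ₗ[B] M)
  have h1 : g₁.pull1 M (d1Star P₂ M y) = 0 := by
    rw [g₁.pull1_d1Star, hy]
    exact z.2
  obtain ⟨x, hx⟩ := had.ex1 _ h1
  have hx2 : d2Star P₃ M x = 0 := by
    apply had.inj2
    rw [g₂.pull2_d2Star, hx, map_zero]
    exact LinearMap.congr_fun (d2Star_comp_d1Star P₂ M) y
  exact ⟨Submodule.Quotient.mk ⟨x, hx2⟩, ⟨x, hx2⟩, y, hy, hx, rfl⟩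

theorem rel0_unique (had : Adapted g₁ g₂ M) (z : T0 P₁ M) (t t' : T1 P₃ M)
    (h : Rel0 g₁ g₂ M z t) (h' : Rel0 g₁ g₂ M z t') : t = t' := by
  obtain ⟨x, y, hy, hx, rfl⟩ := h
  obtain ⟨x', y', hy', hx', rfl⟩ := h'
  have h1 : g₁.pull0 M (y - y') = 0 := by rw [map_sub, hy, hy', sub_self]
  obtain ⟨w, hw⟩ := had.ex0 _ h1
  have h2 : (x : L1 P₃ →ₗ[C] M) - (x' : L1 P₃ →ₗ[C] M) = d1Star P₃ M w := by
    apply had.inj1
    rw [map_sub, hx, hx', g₂.pull1_d1Star, hw, map_sub]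
  rw [Submodule.Quotient.eq]
  exact ⟨w, h2.symm⟩

theorem rel0_add (z z' : T0 P₁ M) (t t' : T1 P₃ M)
    (h : Rel0 g₁ g₂ M z t) (h' : Rel0 g₁ g₂ M z' t') : Rel0 g₁ g₂ M (z + z') (t + t') := by
  obtain ⟨x, y, hy, hx, rfl⟩ := h
  obtain ⟨x', y', hy', hx', rfl⟩ := h'
  refine ⟨x + x', y + y', ?_, ?_, rfl⟩
  · rw [map_add, hy, hy']
    rfl
  · show g₂.pull1 M ((x : L1 P₃ →ₗ[C] M) + (x' : L1 P₃ →ₗ[C] M)) = _
    rw [map_add, hx, hx', map_add]

theorem exists_delta0 (had : Adapted g₁ g₂ M) : ∃ δ₀ : T0 P₁ M →+ T1 P₃ M,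
    Function.Exact (g₁.T0pull M) δ₀ ∧ Function.Exact δ₀ (g₂.T1pull M) := by
  obtain ⟨δ, hδ⟩ := exists_addHom_of_rel (Rel0 g₁ g₂ M) (rel0_exists had) (rel0_unique had)
    rel0_add
  refine ⟨δ, ?_, ?_⟩
  · intro z
    constructor
    · intro hz
      obtain ⟨x, y, hy, hx, hm⟩ := (hδ z 0).mpr hz
      have hm' : (Submodule.Quotient.mk x : T1 P₃ M) = 0 := hm.symm
      rw [Submodule.Quotient.mk_eq_zero] at hm'
      obtain ⟨w, hw⟩ := hm'
      have hw' : d1Star P₃ M w = (x : L1 P₃ →ₗ[C] M) := hw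
      have hy0 : d1Star P₂ M (y - g₂.pull0 M w) = 0 := by
        rw [map_sub, ← g₂.pull1_d1Star, hw', hx, sub_self]
      refine ⟨⟨y - g₂.pull0 M w, hy0⟩, ?_⟩
      apply Subtype.ext
      show g₁.pull0 M (y - g₂.pull0 M w) = _
      rw [map_sub, had.zero0, sub_zero, hy]
    · rintro ⟨y₀, rfl⟩
      refine (hδ _ 0).mp ⟨0, (y₀ : L0 P₂ →ₗ[C] M), rfl, ?_, rfl⟩
      show g₂.pull1 M 0 = _
      rw [map_zero]
      exact (show d1Star P₂ M (y₀ : L0 P₂ →ₗ[C] M) = 0 from y₀.2).symm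
  · intro t
    constructor
    · refine Submodule.Quotient.induction_on _ t (fun x => ?_)
      intro ht
      have h1 : (Submodule.Quotient.mk (g₂.cocycles1Pull M x) : T1 P₂ M) = 0 := ht
      rw [Submodule.Quotient.mk_eq_zero] at h1
      obtain ⟨y, hy⟩ := h1
      have hy' : d1Star P₂ M y = g₂.pull1 M (x : L1 P₃ →ₗ[C] M) := hy
      have hz : d1Star P₁ M (g₁.pull0 M y) = 0 := by
        rw [← g₁.pull1_d1Star, hy', had.zero1]
      exact ⟨⟨g₁.pull0 M y, hz⟩, (hδ _ _).mp ⟨x, y, rfl, hy'.symm, rfl⟩⟩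
    · rintro ⟨z, rfl⟩
      obtain ⟨x, y, hy, hx, hm⟩ := (hδ z _).mpr rfl
      rw [hm]
      show (Submodule.Quotient.mk (g₂.cocycles1Pull M x) : T1 P₂ M) = 0
      rw [Submodule.Quotient.mk_eq_zero]
      exact ⟨y, hx.symm⟩

theorem rel1_exists (had : Adapted g₁ g₂ M) (z : T1 P₁ M) : ∃ t, Rel1 g₁ g₂ M z t := by
  refine Submodule.Quotient.induction_on _ z (fun c => ?_)
  obtain ⟨y, hy⟩ := had.surj1 (c : L1 P₁ →ₗ[B] M)
  have h1 : g₁.pull2 M (d2Star P₂ M y) = 0 := by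
    rw [g₁.pull2_d2Star, hy]
    exact c.2
  obtain ⟨x, hx⟩ := had.ex2 _ h1
  exact ⟨Submodule.Quotient.mk x, c, y, x, rfl, hy, hx, rfl⟩

theorem rel1_unique (had : Adapted g₁ g₂ M) (z : T1 P₁ M) (t t' : T2 P₃ M)
    (h : Rel1 g₁ g₂ M z t) (h' : Rel1 g₁ g₂ M z t') : t = t' := by
  obtain ⟨c, y, x, hz, hy, hx, rfl⟩ := h
  obtain ⟨c', y', x', hz', hy', hx', rfl⟩ := h'
  have hcc : (Submodule.Quotient.mk c : T1 P₁ M) = Submodule.Quotient.mk c' := hz.symm.trans hz'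
  rw [Submodule.Quotient.eq] at hcc
  obtain ⟨ζ, hζ⟩ := hcc
  have hζ' : d1Star P₁ M ζ = (c : L1 P₁ →ₗ[B] M) - (c' : L1 P₁ →ₗ[B] M) := hζ
  obtain ⟨η, rfl⟩ := had.surj0 ζ
  have h1 : g₁.pull1 M (y - y' - d1Star P₂ M η) = 0 := by
    rw [map_sub, map_sub, hy, hy', g₁.pull1_d1Star, hζ', sub_self]
  obtain ⟨w, hw⟩ := had.ex1 _ h1
  have h2 : x - x' = d2Star P₃ M w := by
    apply had.inj2
    have e2 : d2Star P₂ M (d1Star P₂ M η) = 0 :=
      LinearMap.congr_fun (d2Star_comp_d1Star P₂ M) η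
    have e3 := (g₂.pull2 M).map_sub x x'
    have e4 := (d2Star P₂ M).map_sub (y - y') (d1Star P₂ M η)
    have e5 := (d2Star P₂ M).map_sub y y'
    rw [e3, hx, hx', g₂.pull2_d2Star, hw, e4, e5, e2, sub_zero]
  rw [Submodule.Quotient.eq]
  exact ⟨w, h2.symm⟩

theorem rel1_add (z z' : T1 P₁ M) (t t' : T2 P₃ M)
    (h : Rel1 g₁ g₂ M z t) (h' : Rel1 g₁ g₂ M z' t') : Rel1 g₁ g₂ M (z + z') (t + t') := by
  obtain ⟨c, y, x, rfl, hy, hx, rfl⟩ := h
  obtain ⟨c', y', x', rfl, hy', hx', rfl⟩ := h'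
  refine ⟨c + c', y + y', x + x', rfl, ?_, ?_, rfl⟩
  · rw [map_add, hy, hy']
    rfl
  · rw [map_add, hx, hx', map_add]

theorem exists_delta1 (had : Adapted g₁ g₂ M) : ∃ δ₁ : T1 P₁ M →+ T2 P₃ M,
    Function.Exact (g₁.T1pull M) δ₁ ∧ Function.Exact δ₁ (g₂.T2pull M) := by
  obtain ⟨δ, hδ⟩ := exists_addHom_of_rel (Rel1 g₁ g₂ M) (rel1_exists had) (rel1_unique had)
    rel1_add
  refine ⟨δ, ?_, ?_⟩
  · intro z
    constructor
    · intro hz
      obtain ⟨c, y, x, hzc, hy, hx, hm⟩ := (hδ z 0).mpr hz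
      have hm' : (Submodule.Quotient.mk x : T2 P₃ M) = 0 := hm.symm
      rw [Submodule.Quotient.mk_eq_zero] at hm'
      obtain ⟨w, hw⟩ := hm'
      have hw' : d2Star P₃ M w = x := hw
      have hy0 : d2Star P₂ M (y - g₂.pull1 M w) = 0 := by
        have e := (d2Star P₂ M).map_sub y (g₂.pull1 M w)
        rw [e, ← g₂.pull2_d2Star, hw', hx, sub_self]
      refine ⟨Submodule.Quotient.mk ⟨y - g₂.pull1 M w, hy0⟩, ?_⟩
      rw [hzc]
      show (Submodule.Quotient.mk (g₁.cocycles1Pull M ⟨y - g₂.pull1 M w, hy0⟩) : T1 P₁ M) =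
        Submodule.Quotient.mk c
      congr 1
      apply Subtype.ext
      show g₁.pull1 M (y - g₂.pull1 M w) = _
      rw [map_sub, had.zero1, sub_zero, hy]
    · rintro ⟨y₀, rfl⟩
      refine Submodule.Quotient.induction_on _ y₀ (fun c' => ?_)
      refine (hδ _ 0).mp ⟨g₁.cocycles1Pull M c', (c' : L1 P₂ →ₗ[C] M), 0, rfl, rfl, ?_, rfl⟩
      rw [map_zero]
      exact (show d2Star P₂ M (c' : L1 P₂ →ₗ[C] M) = 0 from c'.2).symm
  · intro t
    constructor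
    · refine Submodule.Quotient.induction_on _ t (fun x => ?_)
      intro ht
      have h1 : (Submodule.Quotient.mk (g₂.pull2 M x) : T2 P₂ M) = 0 := ht
      rw [Submodule.Quotient.mk_eq_zero] at h1
      obtain ⟨y, hy⟩ := h1
      have hy' : d2Star P₂ M y = g₂.pull2 M x := hy
      have hz : d2Star P₁ M (g₁.pull1 M y) = 0 := by
        rw [← g₁.pull2_d2Star, hy', had.zero2]
      exact ⟨Submodule.Quotient.mk ⟨g₁.pull1 M y, hz⟩,
        (hδ _ _).mp ⟨⟨g₁.pull1 M y, hz⟩, y, x, rfl, rfl, hy'.symm, rfl⟩⟩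
    · rintro ⟨z, rfl⟩
      obtain ⟨c, y, x, hzc, hy, hx, hm⟩ := (hδ z _).mpr rfl
      rw [hm]
      show (Submodule.Quotient.mk (g₂.pull2 M x) : T2 P₂ M) = 0
      rw [Submodule.Quotient.mk_eq_zero]
      exact ⟨y, hx.symm⟩

end Main

end Groth.Agent.Lib.NineSnakeH1
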