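import Mathlib
import Groth.Prelude.Def_CotT2
import Groth.Agent.Lib.PHGen_helper1
import Groth.Agent.Lib.NineSnake_helper1

/-!
Helper library (helper1): for presentations `P` of `B/A` and `Q` of `C/B`, the composed presentation
`Q.comp P` of `C/A` with the morphisms `g1 : P → Q.comp P`, `g2 : Q.comp P → Q`, and the proof that
the induced sequence of dual complexes is short exact (`adapted`).  APPEND-ONLY once landed.
-/

set_option autoImplicit false
set_option maxHeartbeats 1000000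

namespace Groth.Agent.Lib.NineAdaptH1

open TensorProduct CotT MvPolynomial Groth.Agent.Lib.PHGenH1 Groth.Agent.Lib.NineSnakeH1

universe u w m

/-! ### split sequences of free modules -/
section Split

variable {B C : Type u} [CommRing B] [CommRing C] [Algebra B C]
variable {κ κ' : Type w} {X₀ Y₀ Z₀ : Type*} [AddCommGroup X₀] [Module C X₀] [AddCommGroup Y₀]
  [Module C Y₀] [AddCommGroup Z₀] [Module B Z₀]
variable (bX : Module.Basis κ' C X₀) (bY : Module.Basis (κ' ⊕ κ) C Y₀) (bZ : Module.Basis κ B Z₀)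
variable (f₁ : Z₀ →ₛₗ[(algebraMap B C : B →+* C)] Y₀)
  (f₂ : Y₀ →ₛₗ[(algebraMap C C : C →+* C)] X₀)
variable (h₁ : ∀ k, f₁ (bZ k) = bY (Sum.inr k)) (h₂l : ∀ k', f₂ (bY (Sum.inl k')) = bX k')
  (h₂r : ∀ k, f₂ (bY (Sum.inr k)) = 0)
variable (M : Type m) [AddCommGroup M] [Module C M] [Module B M] [IsScalarTower B C M]

include h₁ h₂r in
theorem split_zero (z : Z₀) : f₂ (f₁ z) = 0 := by
  have hz : z ∈ Submodule.span B (Set.range bZ) := by rw [bZ.span_eq]; exact Submodule.mem_top
  induction hz using Submodule.span_induction with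
  | mem x hx =>
    obtain ⟨k, rfl⟩ := hx
    rw [h₁, h₂r]
  | zero => rw [map_zero, map_zero]
  | add x y _ _ hx hy => rw [map_add, map_add, hx, hy, add_zero]
  | smul b x _ hx => rw [LinearMap.map_smulₛₗ, LinearMap.map_smulₛₗ, hx, smul_zero]

include h₂l in
theorem split_inj (φ : X₀ →ₗ[C] M) (h : ∀ y, φ (f₂ y) = 0) : φ = 0 := by
  refine bX.ext (fun k' => ?_)
  rw [← h₂l k', h, LinearMap.zero_apply]

include h₁ h₂l h₂r in
theorem split_ex (φ' : Y₀ →ₗ[C] M) (h : ∀ z, φ' (f₁ z) = 0) :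
    ∃ φ : X₀ →ₗ[C] M, ∀ y, φ (f₂ y) = φ' y := by
  refine ⟨bX.constr ℕ (fun k' => φ' (bY (Sum.inl k'))), fun y => ?_⟩
  have hy : y ∈ Submodule.span C (Set.range bY) := by rw [bY.span_eq]; exact Submodule.mem_top
  induction hy using Submodule.span_induction with
  | mem x hx =>
    obtain ⟨k, rfl⟩ := hx
    cases k with
    | inl k' => rw [h₂l, Module.Basis.constr_basis]
    | inr k =>
      rw [h₂r, map_zero]
      have h3 := h (bZ k)
      rw [h₁] at h3
      exact h3.symm
  | zero => rw [map_zero, map_zero, map_zero]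
  | add x y _ _ hx hy => rw [map_add, map_add, map_add, hx, hy]
  | smul c x _ hx =>
    have e : f₂ (c • x) = c • f₂ x := f₂.map_smulₛₗ c x
    rw [e, map_smul, map_smul, hx]

include h₁ in
theorem split_surj (ζ : Z₀ →ₗ[B] M) : ∃ φ' : Y₀ →ₗ[C] M, ∀ z, φ' (f₁ z) = ζ z := by
  refine ⟨bY.constr ℕ (Sum.elim (fun _ => 0) (fun k => ζ (bZ k))), fun z => ?_⟩
  have hz : z ∈ Submodule.span B (Set.range bZ) := by rw [bZ.span_eq]; exact Submodule.mem_top
  induction hz using Submodule.span_induction with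
  | mem x hx =>
    obtain ⟨k, rfl⟩ := hx
    rw [h₁, Module.Basis.constr_basis]
    rfl
  | zero => rw [map_zero, map_zero, map_zero]
  | add x y _ _ hx hy => rw [map_add, map_add, map_add, hx, hy]
  | smul b x _ hx =>
    rw [LinearMap.map_smulₛₗ, map_smul, hx, map_smul, algebraMap_smul]

end Split

/-! ### general facts on `L₂` -/
section L2gen

variable {A : Type u} {B : Type u} {ι σ : Type w} [CommRing A] [CommRing B] [Algebra A B]
  (P : Algebra.Presentation A B ι σ)

theorem mk_tmul_eq_smul (c : B) (q : relKer P) :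
    (Submodule.Quotient.mk (c ⊗ₜ[P.toExtension.Ring] q) : L2 P) =
      c • Submodule.Quotient.mk ((1 : B) ⊗ₜ[P.toExtension.Ring] q) := by
  rw [← Submodule.Quotient.mk_smul, TensorProduct.smul_tmul', smul_eq_mul, mul_one]

theorem one_tmul_smul (r : P.toExtension.Ring) (q : relKer P) :
    ((1 : B) ⊗ₜ[P.toExtension.Ring] (r • q)) = (algebraMap P.toExtension.Ring B r) ⊗ₜ q := by
  rw [TensorProduct.tmul_smul, TensorProduct.smul_tmul', Algebra.smul_def, mul_one]

end L2gen

/-! ### `L₀ → L₀'` on pure tensors -/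
section L0gen

variable {A A' : Type u} {B B' : Type u} {ι ι' σ σ' : Type w}
variable [CommRing A] [CommRing B] [Algebra A B] [CommRing A'] [CommRing B'] [Algebra A' B']
variable [Algebra A A'] [Algebra B B'] [Algebra A B'] [IsScalarTower A A' B'] [IsScalarTower A B B']
variable {P : Algebra.Presentation A B ι σ} {P' : Algebra.Presentation A' B' ι' σ'}

theorem L0map_tmul_D (h : PresHom P P') (b : B) (r : P.toExtension.Ring) :
    h.L0map (b ⊗ₜ KaehlerDifferential.D A P.toExtension.Ring r) =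
      algebraMap B B' b ⊗ₜ KaehlerDifferential.D A' P'.toExtension.Ring (h.ringHom r) := by
  rw [PresHom.L0map_apply, Algebra.Extension.CotangentSpace.map_tmul]
  rfl

end L0gen

/-! ### flatness of `A[y, x]` over `A[x]` -/
section FlatAbs

theorem flat_abs {A : Type u} [CommRing A] {ι ι' σ : Type w}
    (ρ : MvPolynomial ι A →+* MvPolynomial (ι' ⊕ ι) A) (hρ : ∀ r, ρ r = rename Sum.inr r)
    (f : σ → MvPolynomial ι A) (c : σ →₀ MvPolynomial (ι' ⊕ ι) A)
    (h : (c.sum fun s a => a * ρ (f s)) = 0) :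
    ∃ (k : ℕ) (a : c.support → Fin k → MvPolynomial ι A)
      (y : Fin k → MvPolynomial (ι' ⊕ ι) A),
      (∀ i : c.support, c i.1 = ∑ j, y j * ρ (a i j)) ∧
        ∀ j, ∑ i : c.support, a i j * f i.1 = 0 := by
  classical
  have h1 : ∑ s ∈ c.support, c s * ρ (f s) = 0 := h
  let e := MvPolynomial.sumAlgEquiv A ι' ι
  have he : ∀ r : MvPolynomial ι A, e (ρ r) = MvPolynomial.C r := fun r => by
    rw [hρ]
    exact DFunLike.congr_fun (MvPolynomial.sumAlgEquiv_comp_rename_inr (R := A) (S₁ := ι')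
      (S₂ := ι)) r
  have h2 : ∑ i : c.support, f i.1 • e (c i.1) = 0 := by
    have h3 := congrArg e h1
    rw [map_sum, map_zero] at h3
    refine ((Finset.sum_coe_sort c.support (fun s => f s • e (c s))).trans ?_).trans h3
    refine Finset.sum_congr rfl (fun s _ => ?_)
    rw [map_mul, he, MvPolynomial.smul_eq_C_mul, mul_comm]
  obtain ⟨k, a, y, hxy, hfa⟩ := Module.Flat.isTrivialRelation_of_sum_smul_eq_zero
    (f := fun i : c.support => f i.1) (x := fun i : c.support => e (c i.1)) h2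
  refine ⟨k, a, fun j => e.symm (y j), fun i => ?_, fun j => ?_⟩
  · have h4 := congrArg e.symm (hxy i)
    have h5 : e.symm (e (c i.1)) = c i.1 := e.symm_apply_apply _
    refine h5.symm.trans (h4.trans ?_)
    rw [map_sum]
    refine Finset.sum_congr rfl (fun j _ => ?_)
    rw [MvPolynomial.smul_eq_C_mul, map_mul, ← he (a i j), AlgEquiv.symm_apply_apply, mul_comm]
  · refine Eq.trans ?_ (hfa j)
    refine Finset.sum_congr rfl (fun i _ => ?_)
    exact mul_comm _ _

end FlatAbs

/-! ### the composed presentation -/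
section Adapt

variable {A B C : Type u} [CommRing A] [CommRing B] [CommRing C] [Algebra A B] [Algebra B C]
  [Algebra A C] [IsScalarTower A B C]
variable {ι σ ι' σ' : Type w}
variable (P : Algebra.Presentation A B ι σ) (Q : Algebra.Presentation B C ι' σ')

/-- `P → Q.comp P`, over `A = A`, `B → C`. -/
noncomputable def g1 : PresHom P (Q.comp P) where
  hom := Q.toGenerators.toComp P.toGenerators
  relVal s := Finsupp.single (Sum.inr s) 1
  jmap_relVal s := by
    rw [jmap_single, one_mul]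
    show rel (Q.comp P) (Sum.inr s) = (Q.toGenerators.toComp P.toGenerators).toAlgHom (rel P s)
    rw [Algebra.Generators.toComp_toAlgHom]
    rfl

/-- `Q.comp P → Q`, over `A → B`, `C = C`. -/
noncomputable def g2 : PresHom (Q.comp P) Q where
  hom := Q.toGenerators.ofComp P.toGenerators
  relVal := Sum.elim (fun s' => Finsupp.single s' 1) (fun _ => 0)
  jmap_relVal x := by
    cases x with
    | inl s' =>
      show jmap Q (Finsupp.single s' 1) =
        (Q.toGenerators.ofComp P.toGenerators).toAlgHom ((Q.comp P).relation (Sum.inl s'))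
      rw [jmap_single, one_mul]
      exact (Q.comp_aeval_relation_inl P s').symm
    | inr s =>
      show jmap Q 0 =
        (Q.toGenerators.ofComp P.toGenerators).toAlgHom (rename Sum.inr (P.relation s))
      rw [map_zero, Algebra.Generators.toAlgHom_ofComp_rename]
      have h0 : algebraMap P.toGenerators.Ring B (P.relation s) = 0 := algebraMap_rel P s
      rw [h0, map_zero]
      rfl

theorem g1_ringHom_eq (r : P.toExtension.Ring) : (g1 P Q).ringHom r = rename Sum.inr r := by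
  show (Q.toGenerators.toComp P.toGenerators).toAlgHom r = _
  rw [Algebra.Generators.toComp_toAlgHom]

theorem g2_ringHom_surj : Function.Surjective (g2 P Q).ringHom :=
  Algebra.Generators.toAlgHom_ofComp_surjective Q.toGenerators P.toGenerators

/-! #### degree one -/

theorem g1_L1map_basis (s : σ) :
    (g1 P Q).L1map (L1basis P s) = L1basis (Q.comp P) (Sum.inr s) := by
  rw [L1basis_apply, L1basis_apply, PresHom.L1map_tmul, PresHom.relModMap_single, map_one,
    map_one, one_smul]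
  rfl

theorem g2_L1map_basis_inl (s' : σ') :
    (g2 P Q).L1map (L1basis (Q.comp P) (Sum.inl s')) = L1basis Q s' := by
  rw [L1basis_apply, L1basis_apply, PresHom.L1map_tmul, PresHom.relModMap_single, map_one,
    map_one, one_smul]
  rfl

theorem g2_L1map_basis_inr (s : σ) :
    (g2 P Q).L1map (L1basis (Q.comp P) (Sum.inr s)) = 0 := by
  rw [L1basis_apply, PresHom.L1map_tmul, PresHom.relModMap_single]
  show _ ⊗ₜ ((g2 P Q).ringHom 1 • (0 : relMod Q)) = 0
  rw [smul_zero, TensorProduct.tmul_zero]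

/-! #### degree zero -/

theorem g1_L0map_basis (i : ι) :
    (g1 P Q).L0map (P.cotangentSpaceBasis i) = (Q.comp P).cotangentSpaceBasis (Sum.inr i) := by
  rw [Algebra.Generators.cotangentSpaceBasis_apply, Algebra.Generators.cotangentSpaceBasis_apply]
  refine (L0map_tmul_D (g1 P Q) (1 : B) (X i : P.toExtension.Ring)).trans ?_
  rw [map_one]
  have h1 : (g1 P Q).ringHom (X i : P.toExtension.Ring) = X (Sum.inr i) :=
    (g1 P Q).hom.toAlgHom_X i
  rw [h1]
  rfl

theorem g2_L0map_basis_inl (i' : ι') :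
    (g2 P Q).L0map ((Q.comp P).cotangentSpaceBasis (Sum.inl i')) = Q.cotangentSpaceBasis i' := by
  rw [Algebra.Generators.cotangentSpaceBasis_apply, Algebra.Generators.cotangentSpaceBasis_apply]
  refine (L0map_tmul_D (g2 P Q) (1 : C) (X (Sum.inl i') : (Q.comp P).toExtension.Ring)).trans ?_
  rw [map_one]
  have h1 : (g2 P Q).ringHom (X (Sum.inl i') : (Q.comp P).toExtension.Ring) = X i' :=
    (g2 P Q).hom.toAlgHom_X (Sum.inl i')
  rw [h1]
  rfl

theorem g2_L0map_basis_inr (i : ι) :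
    (g2 P Q).L0map ((Q.comp P).cotangentSpaceBasis (Sum.inr i)) = 0 := by
  rw [Algebra.Generators.cotangentSpaceBasis_apply]
  refine (L0map_tmul_D (g2 P Q) (1 : C) (X (Sum.inr i) : (Q.comp P).toExtension.Ring)).trans ?_
  have h1 : (g2 P Q).ringHom (X (Sum.inr i) : (Q.comp P).toExtension.Ring) =
      algebraMap B Q.toExtension.Ring (P.val i) := (g2 P Q).hom.toAlgHom_X (Sum.inr i)
  rw [h1, Derivation.map_algebraMap, TensorProduct.tmul_zero]

/-! #### degree two: the algebra -/

/-- the inclusion of the part supported on the relations of `P`. -/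
noncomputable def iR : (σ →₀ (Q.comp P).toExtension.Ring) →ₗ[(Q.comp P).toExtension.Ring]
    relMod (Q.comp P) :=
  Finsupp.lmapDomain (Q.comp P).toExtension.Ring (Q.comp P).toExtension.Ring Sum.inr

theorem iR_single (s : σ) (r : (Q.comp P).toExtension.Ring) :
    iR P Q (Finsupp.single s r) = Finsupp.single (Sum.inr s) r := by
  show Finsupp.mapDomain Sum.inr (Finsupp.single s r) = _
  rw [Finsupp.mapDomain_single]

theorem iR_apply_inl (c : σ →₀ (Q.comp P).toExtension.Ring) (s' : σ') :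
    (iR P Q c) (Sum.inl s') = 0 := by
  show Finsupp.mapDomain Sum.inr c (Sum.inl s') = 0
  refine Finsupp.mapDomain_of_notMem_range _ _ ?_
  rintro ⟨s, hs⟩
  exact Sum.inr_ne_inl hs

theorem jmap_iR (c : σ →₀ (Q.comp P).toExtension.Ring) :
    jmap (Q.comp P) (iR P Q c) = c.sum fun s a => a * (g1 P Q).ringHom (rel P s) := by
  induction c using Finsupp.induction_linear with
  | zero => rw [map_zero, map_zero, Finsupp.sum_zero_index]
  | add f g hf hg =>
    have h3 := Finsupp.sum_add_index' (f := f) (g := g)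
      (h := fun s a => a * (g1 P Q).ringHom (rel P s)) (fun s => zero_mul _)
      (fun s a b => add_mul _ _ _)
    rw [map_add, map_add, hf, hg, h3]
  | single s r =>
    rw [iR_single, jmap_single, Finsupp.sum_single_index (zero_mul _)]
    have h' : jmap (Q.comp P) (Finsupp.single (Sum.inr s) 1) = (g1 P Q).ringHom (rel P s) :=
      (g1 P Q).jmap_relVal s
    rw [jmap_single, one_mul] at h'
    rw [h']

theorem exists_of_ringHom_eq_zero (b : (Q.comp P).toExtension.Ring)
    (hb : (g2 P Q).ringHom b = 0) :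
    ∃ d : σ →₀ (Q.comp P).toExtension.Ring, jmap (Q.comp P) (iR P Q d) = b := by
  have hk : b ∈ RingHom.ker (Q.toGenerators.ofComp P.toGenerators).toAlgHom := hb
  rw [← Algebra.Generators.map_toComp_ker, Algebra.Generators.toComp_toAlgHom] at hk
  have hspan : P.toGenerators.ker = Ideal.span (Set.range P.relation) :=
    P.span_range_relation_eq_ker.symm
  rw [hspan, Ideal.map_span, ← Set.range_comp] at hk
  obtain ⟨d, hd⟩ := Finsupp.mem_ideal_span_range_iff_exists_finsupp.mp hk
  refine ⟨d, (jmap_iR P Q d).trans (Eq.trans ?_ hd)⟩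
  refine Finsupp.sum_congr (fun s _ => ?_)
  rw [g1_ringHom_eq]
  rfl

theorem g2_relModMap_apply (f : relMod (Q.comp P)) (s' : σ') :
    ((g2 P Q).relModMap f) s' = (g2 P Q).ringHom (f (Sum.inl s')) := by
  classical
  induction f using Finsupp.induction_linear with
  | zero =>
    rw [map_zero]
    show (0 : Q.toExtension.Ring) = (g2 P Q).ringHom 0
    rw [map_zero]
  | add f g hf hg => rw [map_add, Finsupp.add_apply, hf, hg, Finsupp.add_apply, map_add]
  | single x r =>
    rw [PresHom.relModMap_single]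
    cases x with
    | inl t' =>
      show ((g2 P Q).ringHom r • (Finsupp.single t' 1 : relMod Q)) s' = _
      rw [Finsupp.smul_single_one]
      by_cases h : t' = s'
      · subst h
        rw [Finsupp.single_eq_same, Finsupp.single_eq_same]
      · have h1 : (Finsupp.single t' ((g2 P Q).ringHom r) : relMod Q) s' = 0 := by
          simp [Finsupp.single_apply, h]
        have h2 : (Finsupp.single (Sum.inl t') r : relMod (Q.comp P)) (Sum.inl s') = 0 := by
          simp [Finsupp.single_apply, h]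
        rw [h1, h2, map_zero]
    | inr t =>
      show ((g2 P Q).ringHom r • (0 : relMod Q)) s' = _
      have h2 : (Finsupp.single (Sum.inr t) r : relMod (Q.comp P)) (Sum.inl s') = 0 := by
        simp [Finsupp.single_apply]
      rw [smul_zero, h2, map_zero]
      rfl

theorem g2_relModMap_iR (c : σ →₀ (Q.comp P).toExtension.Ring) :
    (g2 P Q).relModMap (iR P Q c) = 0 := by
  apply Finsupp.ext
  intro s'
  rw [g2_relModMap_apply, iR_apply_inl, map_zero]
  rfl

theorem g1_relModMap_single (s : σ) (r : P.toExtension.Ring) :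
    (g1 P Q).relModMap (Finsupp.single s r) =
      Finsupp.single (Sum.inr s) ((g1 P Q).ringHom r) := by
  rw [PresHom.relModMap_single]
  show (g1 P Q).ringHom r • (Finsupp.single (Sum.inr s) 1 : relMod (Q.comp P)) = _
  rw [Finsupp.smul_single_one]

theorem g1_relModMap_inl (f : relMod P) (s' : σ') : ((g1 P Q).relModMap f) (Sum.inl s') = 0 := by
  classical
  induction f using Finsupp.induction_linear with
  | zero => rw [map_zero]; rfl
  | add f g hf hg => rw [map_add, Finsupp.add_apply, hf, hg, add_zero]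
  | single s r =>
    rw [g1_relModMap_single]
    simp [Finsupp.single_apply]

theorem g2_g1_relModMap (f : relMod P) : (g2 P Q).relModMap ((g1 P Q).relModMap f) = 0 := by
  apply Finsupp.ext
  intro s'
  rw [g2_relModMap_apply, g1_relModMap_inl, map_zero]
  rfl

theorem g2_relModMap_surj (a : relMod Q) :
    ∃ a' : relMod (Q.comp P), (g2 P Q).relModMap a' = a := by
  induction a using Finsupp.induction_linear with
  | zero => exact ⟨0, map_zero _⟩
  | add f g hf hg =>
    obtain ⟨f', rfl⟩ := hf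
    obtain ⟨g', rfl⟩ := hg
    exact ⟨f' + g', map_add _ _ _⟩
  | single s' b =>
    obtain ⟨b', hb'⟩ := g2_ringHom_surj P Q b
    refine ⟨Finsupp.single (Sum.inl s') b', ?_⟩
    rw [PresHom.relModMap_single, hb']
    show b • (Finsupp.single s' 1 : relMod Q) = _
    rw [Finsupp.smul_single_one]

theorem exists_relKer_lift (q : relMod Q) (hq : q ∈ relKer Q) :
    ∃ q' : relMod (Q.comp P), q' ∈ relKer (Q.comp P) ∧ (g2 P Q).relModMap q' = q := by
  obtain ⟨a', ha'⟩ := g2_relModMap_surj P Q q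
  have h1 : (g2 P Q).ringHom (jmap (Q.comp P) a') = 0 := by
    rw [← (g2 P Q).jmap_relModMap, ha']
    exact hq
  obtain ⟨d, hd⟩ := exists_of_ringHom_eq_zero P Q _ h1
  refine ⟨a' - iR P Q d, ?_, ?_⟩
  · show jmap (Q.comp P) (a' - iR P Q d) = 0
    rw [map_sub, hd, sub_self]
  · rw [map_sub, ha', g2_relModMap_iR, sub_zero]

theorem exists_trivRel_lift (t : relMod Q) (ht : t ∈ trivRel Q) :
    ∃ t' : relMod (Q.comp P), t' ∈ trivRel (Q.comp P) ∧ (g2 P Q).relModMap t' = t := by
  induction ht using Submodule.span_induction with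
  | mem x hx =>
    obtain ⟨a, b, rfl⟩ := hx
    obtain ⟨a', rfl⟩ := g2_relModMap_surj P Q a
    obtain ⟨b', rfl⟩ := g2_relModMap_surj P Q b
    refine ⟨jmap (Q.comp P) a' • b' - jmap (Q.comp P) b' • a',
      Submodule.subset_span ⟨a', b', rfl⟩, ?_⟩
    rw [map_sub, LinearMap.map_smulₛₗ, LinearMap.map_smulₛₗ, (g2 P Q).jmap_relModMap,
      (g2 P Q).jmap_relModMap]
  | zero => exact ⟨0, Submodule.zero_mem _, map_zero _⟩
  | add x y _ _ hx hy =>
    obtain ⟨x', hx', rfl⟩ := hx
    obtain ⟨y', hy', rfl⟩ := hy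
    exact ⟨x' + y', Submodule.add_mem _ hx' hy', map_add _ _ _⟩
  | smul r x _ hx =>
    obtain ⟨x', hx', rfl⟩ := hx
    obtain ⟨r', rfl⟩ := g2_ringHom_surj P Q r
    exact ⟨r' • x', Submodule.smul_mem _ _ hx', LinearMap.map_smulₛₗ _ _ _⟩

theorem move_inl (b : (Q.comp P).toExtension.Ring) (hb : (g2 P Q).ringHom b = 0) (s' : σ') :
    ∃ c : σ →₀ (Q.comp P).toExtension.Ring,
      Finsupp.single (Sum.inl s') b - iR P Q c ∈ trivRel (Q.comp P) := by
  obtain ⟨d, hd⟩ := exists_of_ringHom_eq_zero P Q b hb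
  refine ⟨jmap (Q.comp P) (Finsupp.single (Sum.inl s') 1) • d, ?_⟩
  have hmem : jmap (Q.comp P) (iR P Q d) •
        (Finsupp.single (Sum.inl s') 1 : relMod (Q.comp P)) -
      jmap (Q.comp P) (Finsupp.single (Sum.inl s') 1) • iR P Q d ∈ trivRel (Q.comp P) :=
    Submodule.subset_span ⟨_, _, rfl⟩
  rw [hd, Finsupp.smul_single_one] at hmem
  rw [map_smul]
  exact hmem

theorem mem_sup_of_inl (q' : relMod (Q.comp P))
    (h : ∀ s', (g2 P Q).ringHom (q' (Sum.inl s')) = 0) :
    q' ∈ trivRel (Q.comp P) ⊔ LinearMap.range (iR P Q) := by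
  have e : q'.sum Finsupp.single = q' := Finsupp.sum_single q'
  rw [← e, Finsupp.sum]
  refine Submodule.sum_mem _ (fun x _ => ?_)
  cases x with
  | inl s' =>
    obtain ⟨c, hc⟩ := move_inl P Q (q' (Sum.inl s')) (h s') s'
    have e2 : Finsupp.single (Sum.inl s') (q' (Sum.inl s')) =
        (Finsupp.single (Sum.inl s') (q' (Sum.inl s')) - iR P Q c) + iR P Q c := by abel
    rw [e2]
    exact Submodule.add_mem_sup hc (LinearMap.mem_range_self _ c)
  | inr s =>
    rw [← iR_single]
    exact Submodule.mem_sup_right (LinearMap.mem_range_self _ _)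

theorem flat_step (c : σ →₀ (Q.comp P).toExtension.Ring)
    (hc : jmap (Q.comp P) (iR P Q c) = 0) :
    iR P Q c ∈ Submodule.span (Q.comp P).toExtension.Ring
      ((g1 P Q).relModMap '' (relKer P : Set (relMod P))) := by
  classical
  rw [jmap_iR] at hc
  have H : ∃ (k : ℕ) (a : c.support → Fin k → P.toExtension.Ring)
      (y : Fin k → (Q.comp P).toExtension.Ring),
      (∀ i : c.support, c i.1 = ∑ j, y j * (g1 P Q).ringHom (a i j)) ∧
        ∀ j, ∑ i : c.support, a i j * rel P i.1 = 0 :=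
    flat_abs (g1 P Q).ringHom (g1_ringHom_eq P Q) (rel P) c hc
  obtain ⟨k, a, y, hcs, hfa⟩ := H
  let qq : Fin k → relMod P := fun j => ∑ i : c.support, Finsupp.single i.1 (a i j)
  have hqq : ∀ j, qq j ∈ relKer P := fun j => by
    show jmap P (∑ i : c.support, Finsupp.single i.1 (a i j)) = 0
    rw [map_sum]
    refine Eq.trans ?_ (hfa j)
    refine Finset.sum_congr rfl (fun i _ => ?_)
    rw [jmap_single]
  have hmain : iR P Q c = ∑ j, y j • (g1 P Q).relModMap (qq j) := by
    have e1 : iR P Q c = ∑ i : c.support, Finsupp.single (Sum.inr i.1) (c i.1) := by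
      show Finsupp.mapDomain Sum.inr c = _
      rw [Finsupp.mapDomain, Finsupp.sum]
      exact (Finset.sum_coe_sort c.support (fun s => Finsupp.single (Sum.inr s) (c s))).symm
    have e2 : ∀ j, (g1 P Q).relModMap (qq j) =
        ∑ i : c.support, Finsupp.single (Sum.inr i.1) ((g1 P Q).ringHom (a i j)) := fun j => by
      show (g1 P Q).relModMap (∑ i : c.support, Finsupp.single i.1 (a i j)) = _
      rw [map_sum]
      refine Finset.sum_congr rfl (fun i _ => ?_)
      exact g1_relModMap_single P Q i.1 (a i j)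
    rw [e1]
    simp_rw [e2, Finset.smul_sum]
    rw [Finset.sum_comm]
    refine Finset.sum_congr rfl (fun i _ => ?_)
    rw [hcs i, Finsupp.single_finsetSum]
    refine Finset.sum_congr rfl (fun j _ => ?_)
    rw [Finsupp.smul_single, smul_eq_mul]
  rw [hmain]
  exact Submodule.sum_mem _ (fun j _ => Submodule.smul_mem _ _
    (Submodule.subset_span ⟨qq j, hqq j, rfl⟩))

theorem mem_of_relModMap_eq_zero (q' : relMod (Q.comp P)) (hq' : q' ∈ relKer (Q.comp P))
    (h0 : (g2 P Q).relModMap q' = 0) :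
    q' ∈ trivRel (Q.comp P) ⊔ Submodule.span (Q.comp P).toExtension.Ring
      ((g1 P Q).relModMap '' (relKer P : Set (relMod P))) := by
  have h1 : ∀ s', (g2 P Q).ringHom (q' (Sum.inl s')) = 0 := fun s' => by
    rw [← g2_relModMap_apply, h0]
    rfl
  obtain ⟨t, ht, w, ⟨c, rfl⟩, htw⟩ := Submodule.mem_sup.mp (mem_sup_of_inl P Q q' h1)
  have hc : jmap (Q.comp P) (iR P Q c) = 0 := by
    have h2 : jmap (Q.comp P) t = 0 := trivRel_le_relKer _ ht
    have h3 : jmap (Q.comp P) q' = 0 := hq'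
    rw [← htw, map_add, h2, zero_add] at h3
    exact h3
  rw [← htw]
  exact Submodule.add_mem_sup ht (flat_step P Q c hc)

/-! #### degree two: the dual statements -/

variable (M : Type m) [AddCommGroup M] [Module C M] [Module B M] [IsScalarTower B C M]

theorem zero2 (φ : L2 Q →ₗ[C] M) : (g1 P Q).pull2 M ((g2 P Q).pull2 M φ) = 0 := by
  have key := L2_hom_ext P
    (((g1 P Q).pull2 M ((g2 P Q).pull2 M φ) : L2 P →ₗ[B] M) : L2 P →+ M) (0 : L2 P →+ M)
    (fun b q => by
      show φ ((g2 P Q).L2map ((g1 P Q).L2map (Submodule.Quotient.mk (b ⊗ₜ q)))) = 0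
      rw [PresHom.L2map_mk_tmul, PresHom.L2map_mk_tmul]
      have h0 : (g2 P Q).relKerMap ((g1 P Q).relKerMap q) = 0 :=
        Subtype.ext (g2_g1_relModMap P Q (q : relMod P))
      rw [h0, TensorProduct.tmul_zero, Submodule.Quotient.mk_zero, map_zero])
  apply LinearMap.ext
  intro z
  exact DFunLike.congr_fun key z

theorem inj2 : Function.Injective ((g2 P Q).pull2 M) := by
  rw [injective_iff_map_eq_zero]
  intro φ hφ
  have key := L2_hom_ext Q ((φ : L2 Q →ₗ[C] M) : L2 Q →+ M) (0 : L2 Q →+ M) (fun c q => by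
    obtain ⟨q', hq', hqq⟩ := exists_relKer_lift P Q (q : relMod Q) q.2
    have h1 := LinearMap.congr_fun hφ
      (Submodule.Quotient.mk (c ⊗ₜ (⟨q', hq'⟩ : relKer (Q.comp P))))
    have h2 : (g2 P Q).relKerMap ⟨q', hq'⟩ = q := Subtype.ext hqq
    have h3 : φ (Submodule.Quotient.mk
        (algebraMap C C c ⊗ₜ (g2 P Q).relKerMap ⟨q', hq'⟩)) = 0 := h1
    rw [h2] at h3
    exact h3)
  apply LinearMap.ext
  intro z
  exact DFunLike.congr_fun key z

section Ex2

variable {P Q M}
variable (ψ' : L2 (Q.comp P) →ₗ[C] M)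

/-- the value of `ψ'` on the class of `1 ⊗ q'`. -/
noncomputable def Phi (q' : relKer (Q.comp P)) : M :=
  ψ' (Submodule.Quotient.mk ((1 : C) ⊗ₜ[(Q.comp P).toExtension.Ring] q'))

theorem Phi_add (q₁ q₂ : relKer (Q.comp P)) : Phi ψ' (q₁ + q₂) = Phi ψ' q₁ + Phi ψ' q₂ := by
  unfold Phi
  rw [TensorProduct.tmul_add, Submodule.Quotient.mk_add, map_add]

theorem Phi_smul (r : (Q.comp P).toExtension.Ring) (q' : relKer (Q.comp P)) :
    Phi ψ' (r • q') = algebraMap (Q.comp P).toExtension.Ring C r • Phi ψ' q' := by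
  unfold Phi
  rw [one_tmul_smul, mk_tmul_eq_smul, map_smul]

theorem Phi_triv (q' : relKer (Q.comp P))
    (h : (q' : relMod (Q.comp P)) ∈ trivRel (Q.comp P)) : Phi ψ' q' = 0 := by
  unfold Phi
  have h0 : (Submodule.Quotient.mk ((1 : C) ⊗ₜ[(Q.comp P).toExtension.Ring] q') :
      L2 (Q.comp P)) = 0 := by
    rw [Submodule.Quotient.mk_eq_zero]
    exact ⟨(1 : C) ⊗ₜ (⟨q', h⟩ : trivRelKer (Q.comp P)), rfl⟩
  rw [h0, map_zero]

theorem Phi_g1 (hψ : (g1 P Q).pull2 M ψ' = 0) (q : relKer P) :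
    Phi ψ' ((g1 P Q).relKerMap q) = 0 := by
  have h1 := LinearMap.congr_fun hψ (Submodule.Quotient.mk ((1 : B) ⊗ₜ q))
  have h2 : ψ' (Submodule.Quotient.mk (algebraMap B C 1 ⊗ₜ (g1 P Q).relKerMap q)) = 0 := h1
  rw [map_one] at h2
  exact h2

theorem Phi_eq_zero (hψ : (g1 P Q).pull2 M ψ' = 0) (q' : relKer (Q.comp P))
    (h0 : (g2 P Q).relModMap (q' : relMod (Q.comp P)) = 0) : Phi ψ' q' = 0 := by
  have key : ∀ w ∈ Submodule.span (Q.comp P).toExtension.Ring
      ((g1 P Q).relModMap '' (relKer P : Set (relMod P))),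
      ∃ hk : w ∈ relKer (Q.comp P), Phi ψ' ⟨w, hk⟩ = 0 := by
    intro w hw
    induction hw using Submodule.span_induction with
    | mem x hx =>
      obtain ⟨q, hq, rfl⟩ := hx
      exact ⟨((g1 P Q).relKerMap ⟨q, hq⟩).2, Phi_g1 ψ' hψ ⟨q, hq⟩⟩
    | zero =>
      refine ⟨Submodule.zero_mem _, ?_⟩
      show ψ' (Submodule.Quotient.mk ((1 : C) ⊗ₜ (0 : relKer (Q.comp P)))) = 0
      rw [TensorProduct.tmul_zero, Submodule.Quotient.mk_zero, map_zero]
    | add x y _ _ hx hy =>
      obtain ⟨hx1, hx2⟩ := hx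
      obtain ⟨hy1, hy2⟩ := hy
      refine ⟨Submodule.add_mem _ hx1 hy1, ?_⟩
      have e : (⟨x + y, Submodule.add_mem _ hx1 hy1⟩ : relKer (Q.comp P)) =
          ⟨x, hx1⟩ + ⟨y, hy1⟩ := rfl
      rw [e, Phi_add, hx2, hy2, add_zero]
    | smul r x _ hx =>
      obtain ⟨hx1, hx2⟩ := hx
      refine ⟨Submodule.smul_mem _ r hx1, ?_⟩
      have e : (⟨r • x, Submodule.smul_mem _ r hx1⟩ : relKer (Q.comp P)) = r • ⟨x, hx1⟩ := rfl
      rw [e, Phi_smul, hx2, smul_zero]
  have hmem := mem_of_relModMap_eq_zero P Q (q' : relMod (Q.comp P)) q'.2 h0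
  obtain ⟨t, ht, w, hw, htw⟩ := Submodule.mem_sup.mp hmem
  obtain ⟨hk, hΦ⟩ := key w hw
  have htk : t ∈ relKer (Q.comp P) := trivRel_le_relKer _ ht
  have e : q' = ⟨t, htk⟩ + ⟨w, hk⟩ := Subtype.ext htw.symm
  rw [e, Phi_add, hΦ, Phi_triv ψ' ⟨t, htk⟩ ht, add_zero]

theorem Phi_congr (hψ : (g1 P Q).pull2 M ψ' = 0) (q₁ q₂ : relKer (Q.comp P))
    (h : (g2 P Q).relModMap (q₁ : relMod (Q.comp P)) =
      (g2 P Q).relModMap (q₂ : relMod (Q.comp P))) : Phi ψ' q₁ = Phi ψ' q₂ := by
  have h0 : (g2 P Q).relModMap ((q₁ - q₂ : relKer (Q.comp P)) : relMod (Q.comp P)) = 0 := by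
    show (g2 P Q).relModMap ((q₁ : relMod (Q.comp P)) - (q₂ : relMod (Q.comp P))) = 0
    rw [map_sub, h, sub_self]
  have h1 := Phi_eq_zero ψ' hψ (q₁ - q₂) h0
  have e : Phi ψ' q₁ = Phi ψ' (q₁ - q₂) + Phi ψ' q₂ :=
    (congrArg (Phi ψ') (sub_add_cancel q₁ q₂).symm).trans (Phi_add ψ' (q₁ - q₂) q₂)
  rw [e, h1, zero_add]

variable (P Q) in
/-- a chosen lift of a relation of `Q`. -/
noncomputable def lift (q : relKer Q) : relKer (Q.comp P) :=
  ⟨(exists_relKer_lift P Q (q : relMod Q) q.2).choose,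
    (exists_relKer_lift P Q (q : relMod Q) q.2).choose_spec.1⟩

variable (P Q) in
theorem lift_spec (q : relKer Q) :
    (g2 P Q).relModMap (lift P Q q : relMod (Q.comp P)) = (q : relMod Q) :=
  (exists_relKer_lift P Q (q : relMod Q) q.2).choose_spec.2

/-- the induced function on the relations of `Q`. -/
noncomputable def phiS (q : relKer Q) : M := Phi ψ' (lift P Q q)

theorem phiS_map (hψ : (g1 P Q).pull2 M ψ' = 0) (q' : relKer (Q.comp P)) :
    phiS ψ' ((g2 P Q).relKerMap q') = Phi ψ' q' :=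
  Phi_congr ψ' hψ _ _ (lift_spec P Q ((g2 P Q).relKerMap q'))

theorem phiS_add (hψ : (g1 P Q).pull2 M ψ' = 0) (q₁ q₂ : relKer Q) :
    phiS ψ' (q₁ + q₂) = phiS ψ' q₁ + phiS ψ' q₂ := by
  unfold phiS
  rw [← Phi_add]
  apply Phi_congr ψ' hψ
  show (g2 P Q).relModMap (lift P Q (q₁ + q₂) : relMod (Q.comp P)) =
    (g2 P Q).relModMap ((lift P Q q₁ : relMod (Q.comp P)) + (lift P Q q₂ : relMod (Q.comp P)))
  rw [map_add, lift_spec, lift_spec, lift_spec]
  rfl

theorem phiS_smul (hψ : (g1 P Q).pull2 M ψ' = 0) (s : Q.toExtension.Ring) (q : relKer Q) :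
    phiS ψ' (s • q) = algebraMap Q.toExtension.Ring C s • phiS ψ' q := by
  obtain ⟨r, rfl⟩ := g2_ringHom_surj P Q s
  have h1 : phiS ψ' ((g2 P Q).ringHom r • q) = Phi ψ' (r • lift P Q q) := by
    unfold phiS
    apply Phi_congr ψ' hψ
    show (g2 P Q).relModMap (lift P Q ((g2 P Q).ringHom r • q) : relMod (Q.comp P)) =
      (g2 P Q).relModMap (r • (lift P Q q : relMod (Q.comp P)))
    rw [LinearMap.map_smulₛₗ, lift_spec, lift_spec]
    rfl
  rw [h1, Phi_smul]
  have h2 : algebraMap Q.toExtension.Ring C ((g2 P Q).ringHom r) =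
      algebraMap (Q.comp P).toExtension.Ring C r := (g2 P Q).algebraMap_ringHom r
  rw [h2]
  rfl

theorem phiS_triv (hψ : (g1 P Q).pull2 M ψ' = 0) (q : relKer Q)
    (h : (q : relMod Q) ∈ trivRel Q) : phiS ψ' q = 0 := by
  obtain ⟨t', ht', htq⟩ := exists_trivRel_lift P Q (q : relMod Q) h
  have htk : t' ∈ relKer (Q.comp P) := trivRel_le_relKer _ ht'
  have h1 : phiS ψ' q = Phi ψ' ⟨t', htk⟩ :=
    Phi_congr ψ' hψ _ _ ((lift_spec P Q q).trans htq.symm)
  rw [h1, Phi_triv ψ' _ ht']

theorem ex2 (hψ : (g1 P Q).pull2 M ψ' = 0) :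
    ∃ ψ : L2 Q →ₗ[C] M, (g2 P Q).pull2 M ψ = ψ' := by
  letI : Module Q.toExtension.Ring M := Module.compHom M (algebraMap Q.toExtension.Ring C)
  haveI : IsScalarTower Q.toExtension.Ring C M := IsScalarTower.of_compHom Q.toExtension.Ring C M
  let φl : relKer Q →ₗ[Q.toExtension.Ring] M :=
    { toFun := phiS ψ'
      map_add' := phiS_add ψ' hψ
      map_smul' := fun s q => phiS_smul ψ' hψ s q }
  let ψ₀ : C ⊗[Q.toExtension.Ring] relKer Q →ₗ[C] M := LinearMap.liftBaseChange C φl
  have hψ₀ : ∀ (c : C) (q : relKer Q), ψ₀ (c ⊗ₜ q) = c • phiS ψ' q := fun c q =>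
    LinearMap.liftBaseChange_tmul C φl c q
  have hle : LinearMap.range ((trivRelKer Q).subtype.baseChange C) ≤ LinearMap.ker ψ₀ := by
    rintro _ ⟨w, rfl⟩
    rw [LinearMap.mem_ker]
    induction w using TensorProduct.induction_on with
    | zero => rw [map_zero, map_zero]
    | add x y hx hy => rw [map_add, map_add, hx, hy, add_zero]
    | tmul c t =>
      rw [LinearMap.baseChange_tmul, hψ₀]
      have h3 : phiS ψ' ((trivRelKer Q).subtype t) = 0 := phiS_triv ψ' hψ _ t.2
      rw [h3, smul_zero]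
  refine ⟨Submodule.liftQ _ ψ₀ hle, ?_⟩
  have key := L2_hom_ext (Q.comp P)
    (((g2 P Q).pull2 M (Submodule.liftQ _ ψ₀ hle) : L2 (Q.comp P) →ₗ[C] M) :
      L2 (Q.comp P) →+ M)
    ((ψ' : L2 (Q.comp P) →ₗ[C] M) : L2 (Q.comp P) →+ M) (fun c q' => by
      show Submodule.liftQ _ ψ₀ hle (Submodule.Quotient.mk
        (algebraMap C C c ⊗ₜ (g2 P Q).relKerMap q')) = ψ' (Submodule.Quotient.mk (c ⊗ₜ q'))
      rw [Submodule.liftQ_apply, hψ₀, phiS_map ψ' hψ q', mk_tmul_eq_smul, map_smul]
      rfl)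
  apply LinearMap.ext
  intro z
  exact DFunLike.congr_fun key z

end Ex2

/-- the sequence of dual complexes attached to `P → Q.comp P → Q` is short exact. -/
theorem adapted : Adapted (g1 P Q) (g2 P Q) M where
  zero0 := fun φ => LinearMap.ext fun z => by
    show φ ((g2 P Q).L0map ((g1 P Q).L0map z)) = 0
    rw [split_zero (Q.comp P).cotangentSpaceBasis P.cotangentSpaceBasis (g1 P Q).L0map
      (g2 P Q).L0map (g1_L0map_basis P Q) (g2_L0map_basis_inr P Q) z, map_zero]
  zero1 := fun φ => LinearMap.ext fun z => by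
    show φ ((g2 P Q).L1map ((g1 P Q).L1map z)) = 0
    rw [split_zero (L1basis (Q.comp P)) (L1basis P) (g1 P Q).L1map
      (g2 P Q).L1map (g1_L1map_basis P Q) (g2_L1map_basis_inr P Q) z, map_zero]
  zero2 := zero2 P Q M
  inj0 := by
    rw [injective_iff_map_eq_zero]
    intro φ hφ
    exact split_inj Q.cotangentSpaceBasis (Q.comp P).cotangentSpaceBasis (g2 P Q).L0map
      (g2_L0map_basis_inl P Q) M φ (fun y => LinearMap.congr_fun hφ y)
  inj1 := by
    rw [injective_iff_map_eq_zero]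
    intro φ hφ
    exact split_inj (L1basis Q) (L1basis (Q.comp P)) (g2 P Q).L1map
      (g2_L1map_basis_inl P Q) M φ (fun y => LinearMap.congr_fun hφ y)
  inj2 := inj2 P Q M
  ex0 := fun φ' hφ' => by
    obtain ⟨φ, hφ⟩ := split_ex Q.cotangentSpaceBasis (Q.comp P).cotangentSpaceBasis
      P.cotangentSpaceBasis (g1 P Q).L0map (g2 P Q).L0map (g1_L0map_basis P Q)
      (g2_L0map_basis_inl P Q) (g2_L0map_basis_inr P Q) M φ'
      (fun z => LinearMap.congr_fun hφ' z)
    exact ⟨φ, LinearMap.ext hφ⟩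
  ex1 := fun φ' hφ' => by
    obtain ⟨φ, hφ⟩ := split_ex (L1basis Q) (L1basis (Q.comp P))
      (L1basis P) (g1 P Q).L1map (g2 P Q).L1map (g1_L1map_basis P Q)
      (g2_L1map_basis_inl P Q) (g2_L1map_basis_inr P Q) M φ'
      (fun z => LinearMap.congr_fun hφ' z)
    exact ⟨φ, LinearMap.ext hφ⟩
  ex2 := fun ψ' hψ' => ex2 ψ' hψ'
  surj0 := fun ζ => by
    obtain ⟨φ', hφ'⟩ := split_surj (Q.comp P).cotangentSpaceBasis P.cotangentSpaceBasis
      (g1 P Q).L0map (g1_L0map_basis P Q) M ζ
    exact ⟨φ', LinearMap.ext hφ'⟩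
  surj1 := fun ζ => by
    obtain ⟨φ', hφ'⟩ := split_surj (L1basis (Q.comp P)) (L1basis P)
      (g1 P Q).L1map (g1_L1map_basis P Q) M ζ
    exact ⟨φ', LinearMap.ext hφ'⟩

end Adapt


end Groth.Agent.Lib.NineAdaptH1
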