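import Mathlib
import Groth.Prelude.Def_CotT2
import Groth.Agent.Lib.PHGen_helper1

set_option autoImplicit false

namespace Groth.Agent.Lib.PHFunH1

open TensorProduct CotT Groth.Agent.Lib.PHGenH1

universe u v w m

/-! ### extensionality on `L₀` and `L₁` -/
section Ext

variable {A : Type u} {B : Type v} {ι σ : Type w} [CommRing A] [CommRing B] [Algebra A B]
  (P : Algebra.Presentation A B ι σ)

theorem L0_hom_ext {N : Type m} [AddCommGroup N] (f g : L0 P →+ N)
    (h : ∀ (b : B) (r : P.toExtension.Ring),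
      f (b ⊗ₜ KaehlerDifferential.D A P.toExtension.Ring r) =
        g (b ⊗ₜ KaehlerDifferential.D A P.toExtension.Ring r)) : f = g := by
  apply AddMonoidHom.ext
  intro x
  induction x using TensorProduct.induction_on with
  | zero => rw [map_zero, map_zero]
  | add x y hx hy => rw [map_add, map_add, hx, hy]
  | tmul b ω =>
    have hω : ω ∈ Submodule.span P.toExtension.Ring
        (Set.range (KaehlerDifferential.D A P.toExtension.Ring)) := by
      rw [KaehlerDifferential.span_range_derivation]
      exact Submodule.mem_top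
    revert b
    induction hω using Submodule.span_induction with
    | mem ω hω =>
      obtain ⟨r, rfl⟩ := hω
      intro b
      exact h b r
    | zero =>
      intro b
      rw [TensorProduct.tmul_zero, map_zero, map_zero]
    | add ω₁ ω₂ _ _ h₁ h₂ =>
      intro b
      rw [TensorProduct.tmul_add, map_add, map_add, h₁ b, h₂ b]
    | smul a ω _ hω =>
      intro b
      rw [TensorProduct.tmul_smul, TensorProduct.smul_tmul']
      exact hω (a • b)

theorem L1_hom_ext {N : Type m} [AddCommGroup N] (f g : L1 P →+ N)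
    (h : ∀ (b : B) (x : relMod P), f (b ⊗ₜ x) = g (b ⊗ₜ x)) : f = g := by
  apply AddMonoidHom.ext
  intro x
  induction x using TensorProduct.induction_on with
  | zero => rw [map_zero, map_zero]
  | add x y hx hy => rw [map_add, map_add, hx, hy]
  | tmul b x => exact h b x

end Ext

/-! ### functoriality, identity square on the right -/
section FR

variable {A A' : Type u} {B B' : Type v} {ι ι' ι'' σ σ' σ'' : Type w}
variable [CommRing A] [CommRing B] [Algebra A B] [CommRing A'] [CommRing B'] [Algebra A' B']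
variable [Algebra A A'] [Algebra B B'] [Algebra A B'] [IsScalarTower A A' B'] [IsScalarTower A B B']
variable {P : Algebra.Presentation A B ι σ} {P' : Algebra.Presentation A' B' ι' σ'}
  {P'' : Algebra.Presentation A' B' ι'' σ''}
variable (h : PresHom P P') (k : PresHom P' P'') (m : PresHom P P'')
variable (hm : ∀ r, m.ringHom r = k.ringHom (h.ringHom r))
variable (M' : Type m) [AddCommGroup M'] [Module B' M'] [Module B M'] [IsScalarTower B B' M']

/-- the composite `F → F''` as an `m.ringHom`-semilinear map. -/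
noncomputable def compRelR : relMod P →ₛₗ[m.ringHom] relMod P'' where
  toFun f := k.relModMap (h.relModMap f)
  map_add' f g := by rw [map_add, map_add]
  map_smul' r f := by rw [LinearMap.map_smulₛₗ, LinearMap.map_smulₛₗ, hm]

theorem compRelR_apply (f : relMod P) : compRelR h k m hm f = k.relModMap (h.relModMap f) := rfl

theorem jmap_compRelR (f : relMod P) :
    jmap P'' (compRelR h k m hm f) = m.ringHom (jmap P f) := by
  rw [compRelR_apply, k.jmap_relModMap, h.jmap_relModMap, hm]

theorem pull2_eq_gPull2 (ψ : L2 P' →ₗ[B'] M') :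
    h.pull2 M' ψ = gPull2 P P' h.ringHom h.algebraMap_ringHom h.relModMap h.jmap_relModMap M' ψ :=
  rfl

theorem pull2_compR (ψ : L2 P'' →ₗ[B'] M') :
    h.pull2 M' (k.pull2 M' ψ) = gPull2 P P'' m.ringHom m.algebraMap_ringHom
      (compRelR h k m hm) (jmap_compRelR h k m hm) M' ψ := by
  have key := L2_hom_ext P
    ((h.pull2 M' (k.pull2 M' ψ) : L2 P →ₗ[B] M') : L2 P →+ M')
    ((gPull2 P P'' m.ringHom m.algebraMap_ringHom
      (compRelR h k m hm) (jmap_compRelR h k m hm) M' ψ : L2 P →ₗ[B] M') : L2 P →+ M')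
    (fun b q => by
      show ψ (k.L2map (h.L2map (Submodule.Quotient.mk (b ⊗ₜ q)))) =
        ψ (gL2 P P'' m.ringHom m.algebraMap_ringHom
          (compRelR h k m hm) (jmap_compRelR h k m hm) (Submodule.Quotient.mk (b ⊗ₜ q)))
      rw [PresHom.L2map_mk_tmul, PresHom.L2map_mk_tmul, gL2_mk_tmul]
      rfl)
  apply LinearMap.ext
  intro z
  exact DFunLike.congr_fun key z

include hm in
theorem T2pull_FR (t : T2 P'' M') : m.T2pull M' t = h.T2pull M' (k.T2pull M' t) := by
  refine Submodule.Quotient.induction_on _ t (fun ψ => ?_)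
  show (Submodule.Quotient.mk (m.pull2 M' ψ) : T2 P M') =
    Submodule.Quotient.mk (h.pull2 M' (k.pull2 M' ψ))
  refine (Submodule.Quotient.eq _).mpr ?_
  rw [pull2_eq_gPull2 m, pull2_compR h k m hm]
  exact gPull2_sub_mem P P'' m.ringHom m.algebraMap_ringHom m.relModMap m.jmap_relModMap M'
    (compRelR h k m hm) (jmap_compRelR h k m hm) ψ

include hm in
theorem T1pull_FR (t : T1 P'' M') : m.T1pull M' t = h.T1pull M' (k.T1pull M' t) := by
  refine Submodule.Quotient.induction_on _ t (fun c => ?_)
  rw [T1pull_mk, T1pull_mk, T1pull_mk]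
  congr 1
  apply Subtype.ext
  have hc : (c : L1 P'' →ₗ[B'] M') ∘ₗ d2 P'' = 0 := c.2
  have key := L1_hom_ext P
    (((m.cocycles1Pull M' c : cocycles1 P M') : L1 P →ₗ[B] M') : L1 P →+ M')
    (((h.cocycles1Pull M' (k.cocycles1Pull M' c) : cocycles1 P M') : L1 P →ₗ[B] M') : L1 P →+ M')
    (fun b x => by
      show (c : L1 P'' →ₗ[B'] M') (m.L1map (b ⊗ₜ x)) =
        (c : L1 P'' →ₗ[B'] M') (k.L1map (h.L1map (b ⊗ₜ x)))
      rw [PresHom.L1map_tmul, PresHom.L1map_tmul, PresHom.L1map_tmul]
      refine cocycle_tmul_eq P'' M' _ hc _ _ _ ?_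
      rw [m.jmap_relModMap, k.jmap_relModMap, h.jmap_relModMap, hm])
  apply LinearMap.ext
  intro z
  exact DFunLike.congr_fun key z

include hm in
theorem L0map_FR (x : L0 P) : m.L0map x = k.L0map (h.L0map x) := by
  have key := L0_hom_ext P
    ((m.L0map : L0 P →ₛₗ[(algebraMap B B' : B →+* B')] L0 P'') : L0 P →+ L0 P'')
    (((k.L0map : L0 P' →ₛₗ[(algebraMap B' B' : B' →+* B')] L0 P'') : L0 P' →+ L0 P'').comp
      ((h.L0map : L0 P →ₛₗ[(algebraMap B B' : B →+* B')] L0 P') : L0 P →+ L0 P'))
    (fun b r => by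
      show m.L0map (b ⊗ₜ KaehlerDifferential.D A P.toExtension.Ring r) =
        k.L0map (h.L0map (b ⊗ₜ KaehlerDifferential.D A P.toExtension.Ring r))
      rw [PresHom.L0map_apply, PresHom.L0map_apply, PresHom.L0map_apply,
        Algebra.Extension.CotangentSpace.map_tmul, Algebra.Extension.CotangentSpace.map_tmul,
        Algebra.Extension.CotangentSpace.map_tmul]
      have h1 : m.hom.toExtensionHom.toAlgHom r =
          k.hom.toExtensionHom.toAlgHom (h.hom.toExtensionHom.toAlgHom r) := hm r
      rw [h1]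
      rfl)
  exact DFunLike.congr_fun key x

include hm in
theorem T0pull_FR (t : T0 P'' M') : m.T0pull M' t = h.T0pull M' (k.T0pull M' t) := by
  apply Subtype.ext
  apply LinearMap.ext
  intro x
  show (t : L0 P'' →ₗ[B'] M') (m.L0map x) = (t : L0 P'' →ₗ[B'] M') (k.L0map (h.L0map x))
  rw [L0map_FR h k m hm]

end FR

/-! ### functoriality, identity square on the left -/
section FL

variable {A A' : Type u} {B B' : Type v} {ι ι' ι'' σ σ' σ'' : Type w}
variable [CommRing A] [CommRing B] [Algebra A B] [CommRing A'] [CommRing B'] [Algebra A' B']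
variable [Algebra A A'] [Algebra B B'] [Algebra A B'] [IsScalarTower A A' B'] [IsScalarTower A B B']
variable {P : Algebra.Presentation A B ι σ} {P' : Algebra.Presentation A B ι' σ'}
  {P'' : Algebra.Presentation A' B' ι'' σ''}
variable (k : PresHom P P') (h : PresHom P' P'') (m : PresHom P P'')
variable (hm : ∀ r, m.ringHom r = h.ringHom (k.ringHom r))
variable (M' : Type m) [AddCommGroup M'] [Module B' M'] [Module B M'] [IsScalarTower B B' M']

/-- the composite `F → F''` as an `m.ringHom`-semilinear map. -/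
noncomputable def compRelL : relMod P →ₛₗ[m.ringHom] relMod P'' where
  toFun f := h.relModMap (k.relModMap f)
  map_add' f g := by rw [map_add, map_add]
  map_smul' r f := by rw [LinearMap.map_smulₛₗ, LinearMap.map_smulₛₗ, hm]

theorem compRelL_apply (f : relMod P) : compRelL k h m hm f = h.relModMap (k.relModMap f) := rfl

theorem jmap_compRelL (f : relMod P) :
    jmap P'' (compRelL k h m hm f) = m.ringHom (jmap P f) := by
  rw [compRelL_apply, h.jmap_relModMap, k.jmap_relModMap, hm]

theorem pull2_compL (ψ : L2 P'' →ₗ[B'] M') :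
    k.pull2 M' (h.pull2 M' ψ) = gPull2 P P'' m.ringHom m.algebraMap_ringHom
      (compRelL k h m hm) (jmap_compRelL k h m hm) M' ψ := by
  have key := L2_hom_ext P
    ((k.pull2 M' (h.pull2 M' ψ) : L2 P →ₗ[B] M') : L2 P →+ M')
    ((gPull2 P P'' m.ringHom m.algebraMap_ringHom
      (compRelL k h m hm) (jmap_compRelL k h m hm) M' ψ : L2 P →ₗ[B] M') : L2 P →+ M')
    (fun b q => by
      show ψ (h.L2map (k.L2map (Submodule.Quotient.mk (b ⊗ₜ q)))) =
        ψ (gL2 P P'' m.ringHom m.algebraMap_ringHom
          (compRelL k h m hm) (jmap_compRelL k h m hm) (Submodule.Quotient.mk (b ⊗ₜ q)))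
      rw [PresHom.L2map_mk_tmul, PresHom.L2map_mk_tmul, gL2_mk_tmul]
      rfl)
  apply LinearMap.ext
  intro z
  exact DFunLike.congr_fun key z

include hm in
theorem T2pull_FL (t : T2 P'' M') : m.T2pull M' t = k.T2pull M' (h.T2pull M' t) := by
  refine Submodule.Quotient.induction_on _ t (fun ψ => ?_)
  show (Submodule.Quotient.mk (m.pull2 M' ψ) : T2 P M') =
    Submodule.Quotient.mk (k.pull2 M' (h.pull2 M' ψ))
  refine (Submodule.Quotient.eq _).mpr ?_
  rw [pull2_eq_gPull2 m, pull2_compL k h m hm]
  exact gPull2_sub_mem P P'' m.ringHom m.algebraMap_ringHom m.relModMap m.jmap_relModMap M'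
    (compRelL k h m hm) (jmap_compRelL k h m hm) ψ

include hm in
theorem T1pull_FL (t : T1 P'' M') : m.T1pull M' t = k.T1pull M' (h.T1pull M' t) := by
  refine Submodule.Quotient.induction_on _ t (fun c => ?_)
  rw [T1pull_mk, T1pull_mk, T1pull_mk]
  congr 1
  apply Subtype.ext
  have hc : (c : L1 P'' →ₗ[B'] M') ∘ₗ d2 P'' = 0 := c.2
  have key := L1_hom_ext P
    (((m.cocycles1Pull M' c : cocycles1 P M') : L1 P →ₗ[B] M') : L1 P →+ M')
    (((k.cocycles1Pull M' (h.cocycles1Pull M' c) : cocycles1 P M') : L1 P →ₗ[B] M') : L1 P →+ M')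
    (fun b x => by
      show (c : L1 P'' →ₗ[B'] M') (m.L1map (b ⊗ₜ x)) =
        (c : L1 P'' →ₗ[B'] M') (h.L1map (k.L1map (b ⊗ₜ x)))
      rw [PresHom.L1map_tmul, PresHom.L1map_tmul, PresHom.L1map_tmul]
      refine cocycle_tmul_eq P'' M' _ hc _ _ _ ?_
      rw [m.jmap_relModMap, h.jmap_relModMap, k.jmap_relModMap, hm])
  apply LinearMap.ext
  intro z
  exact DFunLike.congr_fun key z

include hm in
theorem L0map_FL (x : L0 P) : m.L0map x = h.L0map (k.L0map x) := by
  have key := L0_hom_ext P
    ((m.L0map : L0 P →ₛₗ[(algebraMap B B' : B →+* B')] L0 P'') : L0 P →+ L0 P'')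
    (((h.L0map : L0 P' →ₛₗ[(algebraMap B B' : B →+* B')] L0 P'') : L0 P' →+ L0 P'').comp
      ((k.L0map : L0 P →ₛₗ[(algebraMap B B : B →+* B)] L0 P') : L0 P →+ L0 P'))
    (fun b r => by
      show m.L0map (b ⊗ₜ KaehlerDifferential.D A P.toExtension.Ring r) =
        h.L0map (k.L0map (b ⊗ₜ KaehlerDifferential.D A P.toExtension.Ring r))
      rw [PresHom.L0map_apply, PresHom.L0map_apply, PresHom.L0map_apply,
        Algebra.Extension.CotangentSpace.map_tmul, Algebra.Extension.CotangentSpace.map_tmul,
        Algebra.Extension.CotangentSpace.map_tmul]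
      have h1 : m.hom.toExtensionHom.toAlgHom r =
          h.hom.toExtensionHom.toAlgHom (k.hom.toExtensionHom.toAlgHom r) := hm r
      rw [h1]
      rfl)
  exact DFunLike.congr_fun key x

include hm in
theorem T0pull_FL (t : T0 P'' M') : m.T0pull M' t = k.T0pull M' (h.T0pull M' t) := by
  apply Subtype.ext
  apply LinearMap.ext
  intro x
  show (t : L0 P'' →ₗ[B'] M') (m.L0map x) = (t : L0 P'' →ₗ[B'] M') (h.L0map (k.L0map x))
  rw [L0map_FL k h m hm]

end FL

/-! ### morphisms inducing the identity ring map -/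
section Id

variable {A : Type u} {B : Type v} {ι σ : Type w} [CommRing A] [CommRing B] [Algebra A B]
  {P : Algebra.Presentation A B ι σ}
variable (M : Type m) [AddCommGroup M] [Module B M]

theorem id_ringHom (r : P.toExtension.Ring) : (PresHom.id P).ringHom r = r := by
  show MvPolynomial.aeval (fun i => (MvPolynomial.X i : P.toExtension.Ring)) r = r
  rw [show (fun i : ι => (MvPolynomial.X i : P.toExtension.Ring)) = MvPolynomial.X from rfl,
    MvPolynomial.aeval_X_left]
  rfl

theorem id_relModMap (f : relMod P) : (PresHom.id P).relModMap f = f := by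
  induction f using Finsupp.induction_linear with
  | zero => rw [map_zero]
  | add f g hf hg => rw [map_add, hf, hg]
  | single s r =>
    rw [PresHom.relModMap_single, id_ringHom]
    show r • (Finsupp.single s 1 : relMod P) = Finsupp.single s r
    rw [Finsupp.smul_single_one]

theorem T2pull_id (t : T2 P M) : (PresHom.id P).T2pull M t = t := by
  refine Submodule.Quotient.induction_on _ t (fun ψ => ?_)
  rw [T2pull_mk]
  congr 1
  have key := L2_hom_ext P
    (((PresHom.id P).pull2 M ψ : L2 P →ₗ[B] M) : L2 P →+ M) ((ψ : L2 P →ₗ[B] M) : L2 P →+ M)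
    (fun b q => by
      show ψ ((PresHom.id P).L2map (Submodule.Quotient.mk (b ⊗ₜ q))) =
        ψ (Submodule.Quotient.mk (b ⊗ₜ q))
      rw [PresHom.L2map_mk_tmul]
      have hq : (PresHom.id P).relKerMap q = q := Subtype.ext (id_relModMap (q : relMod P))
      rw [hq]
      rfl)
  apply LinearMap.ext
  intro z
  exact DFunLike.congr_fun key z

theorem T1pull_id (t : T1 P M) : (PresHom.id P).T1pull M t = t := by
  refine Submodule.Quotient.induction_on _ t (fun c => ?_)
  rw [T1pull_mk]
  congr 1
  apply Subtype.ext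
  have key := L1_hom_ext P
    ((((PresHom.id P).cocycles1Pull M c : cocycles1 P M) : L1 P →ₗ[B] M) : L1 P →+ M)
    (((c : cocycles1 P M) : L1 P →ₗ[B] M) : L1 P →+ M)
    (fun b x => by
      show (c : L1 P →ₗ[B] M) ((PresHom.id P).L1map (b ⊗ₜ x)) = (c : L1 P →ₗ[B] M) (b ⊗ₜ x)
      rw [PresHom.L1map_tmul, id_relModMap]
      rfl)
  apply LinearMap.ext
  intro z
  exact DFunLike.congr_fun key z

theorem L0map_id (x : L0 P) : (PresHom.id P).L0map x = x := by
  have key := L0_hom_ext P
    (((PresHom.id P).L0map : L0 P →ₛₗ[(algebraMap B B : B →+* B)] L0 P) : L0 P →+ L0 P)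
    (AddMonoidHom.id _)
    (fun b r => by
      show (PresHom.id P).L0map (b ⊗ₜ KaehlerDifferential.D A P.toExtension.Ring r) =
        b ⊗ₜ KaehlerDifferential.D A P.toExtension.Ring r
      rw [PresHom.L0map_apply, Algebra.Extension.CotangentSpace.map_tmul]
      have h1 : (PresHom.id P).hom.toExtensionHom.toAlgHom r = r := id_ringHom r
      rw [h1]
      rfl)
  exact DFunLike.congr_fun key x

theorem T0pull_id (t : T0 P M) : (PresHom.id P).T0pull M t = t := by
  apply Subtype.ext
  apply LinearMap.ext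
  intro x
  show (t : L0 P →ₗ[B] M) ((PresHom.id P).L0map x) = (t : L0 P →ₗ[B] M) x
  rw [L0map_id]

end Id

end Groth.Agent.Lib.PHFunH1
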