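import Mathlib
import Groth.Prelude.Def_CotT2
import Groth.Agent.Lib.PHGen_helper1
import Groth.Agent.Lib.PHFun_helper1
import Groth.Agent.Lib.T2AddVar_helper1

set_option autoImplicit false

namespace Groth.Agent.Lib.PHHtpyH1

open TensorProduct CotT MvPolynomial Groth.Agent.Lib.PHGenH1 Groth.Agent.Lib.PHFunH1
  Groth.Agent.Lib.T2AddVarH1

universe u v w m

/-! ### ring maps of morphisms of presentations -/
section RingHom

variable {A A' : Type u} {B B' : Type v} {ι ι' σ σ' : Type w}
variable [CommRing A] [CommRing B] [Algebra A B] [CommRing A'] [CommRing B'] [Algebra A' B']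
variable [Algebra A A'] [Algebra B B'] [Algebra A B'] [IsScalarTower A A' B'] [IsScalarTower A B B']
variable {P : Algebra.Presentation A B ι σ} {P' : Algebra.Presentation A' B' ι' σ'}

theorem ringHom_apply (h : PresHom P P') (r : P.toExtension.Ring) :
    h.ringHom r = h.hom.toAlgHom r := rfl

theorem ringHom_X (h : PresHom P P') (i : ι) :
    h.hom.toAlgHom (X i) = h.hom.val i := h.hom.toAlgHom_X i

/-- a morphism of presentations with prescribed images of the variables. -/
noncomputable def ofHom (f : Algebra.Generators.Hom P.toGenerators P'.toGenerators) :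
    PresHom P P' where
  hom := f
  relVal s := by
    have hmem : f.toExtensionHom.toRingHom (rel P s) ∈ LinearMap.range (jmap P') := by
      rw [range_jmap]
      show algebraMap P'.toExtension.Ring B' (f.toExtensionHom.toRingHom (rel P s)) = 0
      rw [f.toExtensionHom.algebraMap_toRingHom, algebraMap_rel, map_zero]
    exact hmem.choose
  jmap_relVal s := by
    have hmem : f.toExtensionHom.toRingHom (rel P s) ∈ LinearMap.range (jmap P') := by
      rw [range_jmap]
      show algebraMap P'.toExtension.Ring B' (f.toExtensionHom.toRingHom (rel P s)) = 0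
      rw [f.toExtensionHom.algebraMap_toRingHom, algebraMap_rel, map_zero]
    exact hmem.choose_spec

theorem ofHom_hom (f : Algebra.Generators.Hom P.toGenerators P'.toGenerators) :
    (ofHom (P := P) (P' := P') f).hom = f := rfl

end RingHom

/-! ### equality of composite ring maps -/
section CompExt

variable {A A' : Type u} {B B' : Type v} {ι ι' ι'' σ σ' σ'' : Type w}
variable [CommRing A] [CommRing B] [Algebra A B] [CommRing A'] [CommRing B'] [Algebra A' B']
variable [Algebra A A'] [Algebra B B'] [Algebra A B'] [IsScalarTower A A' B'] [IsScalarTower A B B']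

theorem ringHom_comp_ext_FR {P : Algebra.Presentation A B ι σ}
    {P' : Algebra.Presentation A' B' ι' σ'} {P'' : Algebra.Presentation A' B' ι'' σ''}
    (h : PresHom P P') (k : PresHom P' P'') (m : PresHom P P'')
    (hX : ∀ i, m.hom.val i = k.hom.toAlgHom (h.hom.val i)) (r : P.toExtension.Ring) :
    m.ringHom r = k.ringHom (h.ringHom r) := by
  show m.hom.toAlgHom r = k.hom.toAlgHom (h.hom.toAlgHom r)
  induction r using MvPolynomial.induction_on with
  | C a =>
    rw [Algebra.Generators.Hom.toAlgHom_C, Algebra.Generators.Hom.toAlgHom_C,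
      Algebra.Generators.Hom.toAlgHom_C]
    rfl
  | add p q hp hq => rw [map_add, map_add, map_add, hp, hq]
  | mul_X p i hp =>
    rw [map_mul, map_mul, map_mul, hp, Algebra.Generators.Hom.toAlgHom_X,
      Algebra.Generators.Hom.toAlgHom_X, hX]

theorem ringHom_comp_ext_FL {P : Algebra.Presentation A B ι σ}
    {P' : Algebra.Presentation A B ι' σ'} {P'' : Algebra.Presentation A' B' ι'' σ''}
    (k : PresHom P P') (h : PresHom P' P'') (m : PresHom P P'')
    (hX : ∀ i, m.hom.val i = h.hom.toAlgHom (k.hom.val i)) (r : P.toExtension.Ring) :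
    m.ringHom r = h.ringHom (k.ringHom r) := by
  show m.hom.toAlgHom r = h.hom.toAlgHom (k.hom.toAlgHom r)
  induction r using MvPolynomial.induction_on with
  | C a =>
    rw [Algebra.Generators.Hom.toAlgHom_C, Algebra.Generators.Hom.toAlgHom_C,
      Algebra.Generators.Hom.toAlgHom_C]
    rfl
  | add p q hp hq => rw [map_add, map_add, map_add, hp, hq]
  | mul_X p i hp =>
    rw [map_mul, map_mul, map_mul, hp, Algebra.Generators.Hom.toAlgHom_X,
      Algebra.Generators.Hom.toAlgHom_X, hX]

end CompExt

/-! ### homotopy invariance for `T⁰` and `T¹` -/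
section G01

variable {A A' : Type u} {B B' : Type v} {ι ι' σ σ' : Type w}
variable [CommRing A] [CommRing B] [Algebra A B] [CommRing A'] [CommRing B'] [Algebra A' B']
variable [Algebra A A'] [Algebra B B'] [Algebra A B'] [IsScalarTower A A' B'] [IsScalarTower A B B']
variable {P : Algebra.Presentation A B ι σ} {P' : Algebra.Presentation A' B' ι' σ'}
variable (h h' : PresHom P P')
variable (M' : Type m) [AddCommGroup M'] [Module B' M'] [Module B M'] [IsScalarTower B B' M']

theorem T0pull_indep (t : T0 P' M') : h.T0pull M' t = h'.T0pull M' t := by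
  apply Subtype.ext
  apply LinearMap.ext
  intro x
  show (t : L0 P' →ₗ[B'] M') (h.L0map x) = (t : L0 P' →ₗ[B'] M') (h'.L0map x)
  have ht : (t : L0 P' →ₗ[B'] M') ∘ₗ d1 P' = 0 := t.2
  have key : ∀ y : P'.toExtension.Cotangent,
      (t : L0 P' →ₗ[B'] M') (P'.toExtension.cotangentComplex y) = 0 := by
    intro y
    obtain ⟨z, rfl⟩ := toCot_surjective P' y
    exact LinearMap.congr_fun ht z
  have hsub := Algebra.Extension.CotangentSpace.map_sub_map h.hom.toExtensionHom
    h'.hom.toExtensionHom
  have hx := LinearMap.congr_fun hsub x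
  have hx' : h.L0map x - h'.L0map x =
      P'.toExtension.cotangentComplex
        ((h.hom.toExtensionHom.sub h'.hom.toExtensionHom) x) := hx
  rw [← sub_eq_zero, ← map_sub, hx', key]

/-- the homotopy as a `B`-linear map into `M'`. -/
noncomputable def htpy1 (φ : P'.toExtension.Cotangent →ₗ[B'] M') : L0 P →ₗ[B] M' where
  toFun x := φ ((h.hom.toExtensionHom.sub h'.hom.toExtensionHom) x)
  map_add' x y := by rw [map_add, map_add]
  map_smul' b x := by
    rw [LinearMap.map_smul, RingHom.id_apply, ← algebraMap_smul B' b
      ((h.hom.toExtensionHom.sub h'.hom.toExtensionHom) x), LinearMap.map_smul, algebraMap_smul]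

theorem T1pull_indep (t : T1 P' M') : h.T1pull M' t = h'.T1pull M' t := by
  refine Submodule.Quotient.induction_on _ t (fun c => ?_)
  rw [T1pull_mk, T1pull_mk]
  refine (Submodule.Quotient.eq _).mpr ?_
  obtain ⟨φ, hφ⟩ := exists_factor_cocycle P' M' (c : L1 P' →ₗ[B'] M') c.2
  refine ⟨htpy1 h h' M' φ, ?_⟩
  apply LinearMap.ext
  intro z
  show φ ((h.hom.toExtensionHom.sub h'.hom.toExtensionHom)
      (P.toExtension.cotangentComplex (toCot P z))) =
    (c : L1 P' →ₗ[B'] M') (h.L1map z) - (c : L1 P' →ₗ[B'] M') (h'.L1map z)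
  rw [← hφ, LinearMap.comp_apply, LinearMap.comp_apply, h.toCot_L1map, h'.toCot_L1map,
    h.cotMap_apply, h'.cotMap_apply, ← map_sub]
  congr 1
  have hs := Algebra.Extension.Cotangent.map_sub_map h.hom.toExtensionHom h'.hom.toExtensionHom
  exact (LinearMap.congr_fun hs (toCot P z)).symm

end G01

/-! ### the auxiliary morphisms for the extended presentation -/
section Aux

variable {A' : Type u} {B' : Type v} {ι' σ' : Type w}
variable [CommRing A'] [CommRing B'] [Algebra A' B']
variable (P' : Algebra.Presentation A' B' ι' σ') (τ : Type w)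

theorem aeval_addVar_inc (r : MvPolynomial ι' A') :
    aeval (addVar P' τ).val (rename Sum.inl r) = aeval P'.val r := by
  rw [aeval_rename]
  rfl

/-- the inclusion on generators. -/
noncomputable def incHom :
    Algebra.Generators.Hom P'.toGenerators (addVar P' τ).toGenerators :=
  ⟨fun i => X (Sum.inl i), fun i => by
    rw [aeval_X]
    rfl⟩

theorem incHom_apply (r : MvPolynomial ι' A') :
    (incHom P' τ).toAlgHom r = rename Sum.inl r := by
  induction r using MvPolynomial.induction_on with
  | C a =>
    rw [Algebra.Generators.Hom.toAlgHom_C, rename_C]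
    rfl
  | add p q hp hq => rw [map_add, map_add, hp, hq]
  | mul_X p i hp =>
    rw [map_mul, map_mul, hp, Algebra.Generators.Hom.toAlgHom_X, rename_X]
    rfl

/-- the inclusion `P' → P'°`. -/
noncomputable def incH : PresHom P' (addVar P' τ) where
  hom := incHom P' τ
  relVal s := Finsupp.single (Sum.inl s) 1
  jmap_relVal s := by
    rw [jmap_single, one_mul]
    exact (incHom_apply P' τ (P'.relation s)).symm

theorem incH_ringHom (r : P'.toExtension.Ring) : (incH P' τ).ringHom r = thI P' τ r :=
  incHom_apply P' τ r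

theorem incH_relModMap (f : relMod P') : (incH P' τ).relModMap f = al P' τ f := by
  induction f using Finsupp.induction_linear with
  | zero => rw [map_zero, map_zero]
  | add f g hf hg => rw [map_add, map_add, hf, hg]
  | single s r =>
    rw [PresHom.relModMap_single, al_single, incH_ringHom]
    rfl

/-- the retraction on generators. -/
noncomputable def retHom :
    Algebra.Generators.Hom (addVar P' τ).toGenerators P'.toGenerators :=
  ⟨Sum.elim X (fun _ => 0), fun k => by
    rcases k with i | t
    · rw [Sum.elim_inl, aeval_X]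
      rfl
    · rw [Sum.elim_inr, map_zero]
      rfl⟩

theorem retHom_apply (r : MvPolynomial (ι' ⊕ τ) A') :
    (retHom P' τ).toAlgHom r = ret τ r := by
  induction r using MvPolynomial.induction_on with
  | C a =>
    rw [Algebra.Generators.Hom.toAlgHom_C]
    have : ret (ι := ι') τ (C a) = C a := by simp [ret]
    rw [this]
    rfl
  | add p q hp hq => rw [map_add, map_add, hp, hq]
  | mul_X p k hp =>
    rw [map_mul, map_mul, hp, Algebra.Generators.Hom.toAlgHom_X]
    rcases k with i | t
    · rw [ret_X_inl]
      rfl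
    · rw [ret_X_inr]
      rfl

/-- the retraction `P'° → P'` killing the new variables. -/
noncomputable def retH : PresHom (addVar P' τ) P' where
  hom := retHom P' τ
  relVal := Sum.elim (fun s => Finsupp.single s 1) (fun _ => 0)
  jmap_relVal k := by
    rcases k with s | t
    · rw [Sum.elim_inl, jmap_single, one_mul]
      refine Eq.trans ?_ (retHom_apply P' τ _).symm
      exact (ret_inc (A := A') τ (P'.relation s)).symm
    · rw [Sum.elim_inr, map_zero]
      refine Eq.trans ?_ (retHom_apply P' τ _).symm
      exact (ret_X_inr (ι := ι') (A := A') τ t).symm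

theorem retH_ringHom (r : (addVar P' τ).toExtension.Ring) :
    (retH P' τ).ringHom r = thR P' τ r :=
  retHom_apply P' τ r

theorem retH_relModMap (f : relMod (addVar P' τ)) : (retH P' τ).relModMap f = be P' τ f := by
  induction f using Finsupp.induction_linear with
  | zero => rw [map_zero, map_zero]
  | add f g hf hg => rw [map_add, map_add, hf, hg]
  | single k r =>
    rcases k with s | t
    · rw [PresHom.relModMap_single, be_single_inl, retH_ringHom]
      rfl
    · rw [PresHom.relModMap_single, be_single_inr]
      show (retH P' τ).ringHom r • (0 : relMod P') = 0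
      rw [smul_zero]

variable (M' : Type m) [AddCommGroup M'] [Module B' M']

omit M' in
theorem L2map_incH_retH (b : B') (q : relKer (addVar P' τ)) :
    (Submodule.Quotient.mk (b ⊗ₜ[(addVar P' τ).toExtension.Ring]
        (incH P' τ).relKerMap ((retH P' τ).relKerMap q)) : L2 (addVar P' τ)) =
      Submodule.Quotient.mk (b ⊗ₜ[(addVar P' τ).toExtension.Ring] q) := by
  refine (Submodule.Quotient.eq _).mpr ?_
  have hmem : ((incH P' τ).relKerMap ((retH P' τ).relKerMap q) - q :
      relKer (addVar P' τ)) ∈ trivRelKer (addVar P' τ) := by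
    show (((incH P' τ).relKerMap ((retH P' τ).relKerMap q) - q : relKer (addVar P' τ)) :
      relMod (addVar P' τ)) ∈ trivRel (addVar P' τ)
    have h1 := star P' τ (q : relMod (addVar P' τ)) q.2
    have h2 := neg_mem h1
    rw [neg_sub] at h2
    have h3 : (((incH P' τ).relKerMap ((retH P' τ).relKerMap q) - q :
        relKer (addVar P' τ)) : relMod (addVar P' τ)) =
        al P' τ (be P' τ (q : relMod (addVar P' τ))) - q := by
      show (incH P' τ).relModMap ((retH P' τ).relModMap (q : relMod (addVar P' τ))) - q = _
      rw [retH_relModMap, incH_relModMap]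
    rw [h3]
    exact h2
  refine LinearMap.mem_range.mpr ⟨b ⊗ₜ ⟨_, hmem⟩, ?_⟩
  rw [LinearMap.baseChange_tmul]
  exact TensorProduct.tmul_sub (R := (addVar P' τ).toExtension.Ring) (M := B')
    (P := relKer (addVar P' τ)) b _ _

theorem pull2_retH_incH (ψ : L2 (addVar P' τ) →ₗ[B'] M') :
    (retH P' τ).pull2 M' ((incH P' τ).pull2 M' ψ) = ψ := by
  have key := L2_hom_ext (addVar P' τ)
    (((retH P' τ).pull2 M' ((incH P' τ).pull2 M' ψ) : L2 (addVar P' τ) →ₗ[B'] M') :
      L2 (addVar P' τ) →+ M')
    ((ψ : L2 (addVar P' τ) →ₗ[B'] M') : L2 (addVar P' τ) →+ M')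
    (fun b q => by
      show ψ ((incH P' τ).L2map ((retH P' τ).L2map (Submodule.Quotient.mk (b ⊗ₜ q)))) =
        ψ (Submodule.Quotient.mk (b ⊗ₜ q))
      rw [PresHom.L2map_mk_tmul, PresHom.L2map_mk_tmul]
      exact congrArg ψ (L2map_incH_retH P' τ b q))
  apply LinearMap.ext
  intro z
  exact DFunLike.congr_fun key z

theorem retH_incH_T2 (s : T2 (addVar P' τ) M') :
    (retH P' τ).T2pull M' ((incH P' τ).T2pull M' s) = s := by
  refine Submodule.Quotient.induction_on _ s (fun ψ => ?_)
  show (Submodule.Quotient.mk ((retH P' τ).pull2 M' ((incH P' τ).pull2 M' ψ)) :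
    T2 (addVar P' τ) M') = Submodule.Quotient.mk ψ
  rw [pull2_retH_incH]

theorem incH_T2pull_injective : Function.Injective ((incH P' τ).T2pull M') := by
  exact Function.LeftInverse.injective (g := (retH P' τ).T2pull M') (retH_incH_T2 P' τ M')

end Aux

/-! ### homotopy invariance for `T²` -/
section G2

variable {A A' : Type u} {B B' : Type v} {ι ι' σ σ' : Type w}
variable [CommRing A] [CommRing B] [Algebra A B] [CommRing A'] [CommRing B'] [Algebra A' B']
variable [Algebra A A'] [Algebra B B'] [Algebra A B'] [IsScalarTower A A' B'] [IsScalarTower A B B']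
variable {P : Algebra.Presentation A B ι σ} {P' : Algebra.Presentation A' B' ι' σ'}
variable (h h' : PresHom P P')
variable (M' : Type m) [AddCommGroup M'] [Module B' M'] [Module B M'] [IsScalarTower B B' M']

/-- the second retraction on generators. -/
noncomputable def ret1Hom :
    Algebra.Generators.Hom (addVar P' ι).toGenerators P'.toGenerators :=
  ⟨Sum.elim X (fun i => h'.hom.val i - h.hom.val i), fun k => by
    rcases k with i | t
    · rw [Sum.elim_inl, aeval_X]
      rfl
    · rw [Sum.elim_inr, map_sub, h'.hom.aeval_val, h.hom.aeval_val, sub_self]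
      rfl⟩

/-- the second retraction, sending the new variable `i` to `h'.val i - h.val i`. -/
noncomputable def ret1H : PresHom (addVar P' ι) P' :=
  ofHom (P := addVar P' ι) (P' := P') (ret1Hom h h')

/-- the universal map on generators. -/
noncomputable def thetaHom :
    Algebra.Generators.Hom P.toGenerators (addVar P' ι).toGenerators :=
  ⟨fun i => rename Sum.inl (h.hom.val i) + X (Sum.inr i), fun i => by
    rw [map_add, aeval_addVar_inc, aeval_X, h.hom.aeval_val]
    show algebraMap B B' (P.val i) + (0 : B') = _
    rw [add_zero]⟩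

/-- the universal morphism `P → P'°`, `x_i ↦ h.val i + z_i`. -/
noncomputable def thetaH : PresHom P (addVar P' ι) :=
  ofHom (P := P) (P' := addVar P' ι) (thetaHom h)

theorem h_eq_comp (r : P.toExtension.Ring) :
    h.ringHom r = (retH P' ι).ringHom ((thetaH h).ringHom r) := by
  refine ringHom_comp_ext_FR (thetaH h) (retH P' ι) h (fun i => ?_) r
  show h.hom.val i = (retHom P' ι).toAlgHom (rename Sum.inl (h.hom.val i) + X (Sum.inr i))
  rw [map_add, retHom_apply, retHom_apply, ret_X_inr, add_zero]
  exact (ret_inc (A := A') ι (h.hom.val i)).symm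

theorem h'_eq_comp (r : P.toExtension.Ring) :
    h'.ringHom r = (ret1H h h').ringHom ((thetaH h).ringHom r) := by
  refine ringHom_comp_ext_FR (thetaH h) (ret1H h h') h' (fun i => ?_) r
  show h'.hom.val i = (ret1Hom h h').toAlgHom (rename Sum.inl (h.hom.val i) + X (Sum.inr i))
  rw [map_add, Algebra.Generators.Hom.toAlgHom_X]
  have h1 : (ret1Hom h h').toAlgHom (rename Sum.inl (h.hom.val i)) = h.hom.val i := by
    show aeval (Sum.elim X (fun i => h'.hom.val i - h.hom.val i))
      (rename Sum.inl (h.hom.val i)) = h.hom.val i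
    rw [aeval_rename, Sum.elim_comp_inl, aeval_X_left]
    rfl
  rw [h1]
  show h'.hom.val i = h.hom.val i + (h'.hom.val i - h.hom.val i)
  ring

theorem id_eq_comp (k : PresHom (addVar P' ι) P')
    (hk : ∀ i, k.hom.val (Sum.inl i) = X i) (r : P'.toExtension.Ring) :
    (PresHom.id P').ringHom r = k.ringHom ((incH P' ι).ringHom r) := by
  refine ringHom_comp_ext_FR (incH P' ι) k (PresHom.id P') (fun i => ?_) r
  show (X i : MvPolynomial ι' A') = k.hom.toAlgHom (X (Sum.inl i))
  rw [Algebra.Generators.Hom.toAlgHom_X, hk]

theorem retH_val_inl (i : ι') : (retH P' ι).hom.val (Sum.inl i) = X i := rfl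

theorem ret1H_val_inl (i : ι') : (ret1H h h').hom.val (Sum.inl i) = X i := rfl

theorem T2pull_indep (t : T2 P' M') : h.T2pull M' t = h'.T2pull M' t := by
  have e0 := T2pull_FR (thetaH h) (retH P' ι) h (h_eq_comp h) M' t
  have e1 := T2pull_FR (thetaH h) (ret1H h h') h' (h'_eq_comp h h') M' t
  have i0 := T2pull_FR (incH P' ι) (retH P' ι) (PresHom.id P')
    (id_eq_comp (retH P' ι) (retH_val_inl (P' := P') (ι := ι))) M' t
  have i1 := T2pull_FR (incH P' ι) (ret1H h h') (PresHom.id P')
    (id_eq_comp (ret1H h h') (ret1H_val_inl h h')) M' t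
  have hinj := incH_T2pull_injective P' ι M' (i0.symm.trans i1)
  exact e0.trans ((congrArg ((thetaH h).T2pull M') hinj).trans e1.symm)

end G2

end Groth.Agent.Lib.PHHtpyH1
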