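import Mathlib
import Groth.Prelude.Def_CotT2
import Groth.Agent.Lib.PHGen_helper1
import Groth.Agent.Lib.PHFun_helper1
import Groth.Agent.Lib.PHHtpy_helper1
import Groth.Agent.Lib.NineSnake_helper1
import Groth.Agent.Lib.NineAdapt_helper1

/-!
Helper library (helper1): the nine-term sequence of the cotangent functors for `A → B → C`, for the
choice-free presentations (transport from the composed presentation).  APPEND-ONLY once landed.
-/

set_option autoImplicit false
set_option maxHeartbeats 1000000

namespace Groth.Agent.Lib.NineMainH1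

open TensorProduct CotT MvPolynomial Groth.Agent.Lib.PHGenH1 Groth.Agent.Lib.PHFunH1
  Groth.Agent.Lib.PHHtpyH1 Groth.Agent.Lib.NineSnakeH1 Groth.Agent.Lib.NineAdaptH1

universe u

/-! ### transport of exactness -/
section Transport

theorem exact_of_conj {X Y Y' Z : Type*} [Zero Z] (U : X → Y) (V : Y → Z) (u : X → Y')
    (v : Y' → Z) (κ : Y → Y') (hκ : Function.Injective κ) (hu : ∀ x, u x = κ (U x))
    (hV : ∀ y, V y = v (κ y)) (h : Function.Exact u v) : Function.Exact U V := by
  intro y
  rw [hV]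
  constructor
  · intro hy
    obtain ⟨x, hx⟩ := (h (κ y)).mp hy
    exact ⟨x, hκ ((hu x).symm.trans hx)⟩
  · rintro ⟨x, rfl⟩
    rw [← hu]
    exact (h _).mpr ⟨x, rfl⟩

theorem exact_of_range_eq {Y Y' Z W : Type*} [Zero W] (V : Y → Z) (v : Y' → Z) (δ : Z → W)
    (hr : Set.range V = Set.range v) (h : Function.Exact v δ) : Function.Exact V δ := by
  intro z
  rw [hr]
  exact h z

theorem exact_of_inj_comp {Z X Y Y' : Type*} [Zero Y] [Zero Y'] (δ : Z → X) (U : X → Y)
    (u : X → Y') (κ : Y → Y') (hκ0 : ∀ y, κ y = 0 ↔ y = 0) (hu : ∀ x, u x = κ (U x))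
    (h : Function.Exact δ u) : Function.Exact δ U := by
  intro t
  rw [← hκ0, ← hu]
  exact h t

end Transport

section Main

variable (A B C : Type u) [CommRing A] [CommRing B] [CommRing C] [Algebra A B] [Algebra B C]
  [Algebra A C] [IsScalarTower A B C]

/-- the composed presentation of `C` over `A`. -/
noncomputable abbrev Pad : Algebra.Presentation A C (C ⊕ B) (CanonRels B C ⊕ CanonRels A B) :=
  (canon B C).comp (canon A B)

/-- `Pad → canon A C` on variables. -/
noncomputable def kHom :
    Algebra.Generators.Hom (Pad A B C).toGenerators (canon A C).toGenerators where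
  val := Sum.elim (fun c => X c) (fun b => X (algebraMap B C b))
  aeval_val := by
    rintro (c | b)
    · rw [Sum.elim_inl, aeval_X]
      rfl
    · rw [Sum.elim_inr, aeval_X]
      rfl

/-- `canon A C → Pad` on variables. -/
noncomputable def k'Hom :
    Algebra.Generators.Hom (canon A C).toGenerators (Pad A B C).toGenerators where
  val := fun c => X (Sum.inl c)
  aeval_val := by
    intro c
    rw [aeval_X]
    rfl

noncomputable def kk : PresHom (Pad A B C) (canon A C) := ofHom (kHom A B C)

noncomputable def kk' : PresHom (canon A C) (Pad A B C) := ofHom (k'Hom A B C)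

/-- the composite `Pad → canon A C → canon B C` on variables. -/
noncomputable def mHom :
    Algebra.Generators.Hom (Pad A B C).toGenerators (canon B C).toGenerators where
  val := fun i => (canonHom A C B C).hom.toAlgHom ((kk A B C).hom.val i)
  aeval_val := by
    intro i
    rw [Algebra.Generators.Hom.algebraMap_toAlgHom, (kk A B C).hom.aeval_val]
    rfl

/-- the composite `Pad → canon A C → Pad` on variables. -/
noncomputable def m'Hom :
    Algebra.Generators.Hom (Pad A B C).toGenerators (Pad A B C).toGenerators where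
  val := fun i => (kk' A B C).hom.toAlgHom ((kk A B C).hom.val i)
  aeval_val := by
    intro i
    rw [Algebra.Generators.Hom.algebraMap_toAlgHom, (kk A B C).hom.aeval_val]
    rfl

noncomputable def mm : PresHom (Pad A B C) (canon B C) := ofHom (mHom A B C)

noncomputable def mm' : PresHom (Pad A B C) (Pad A B C) := ofHom (m'Hom A B C)

noncomputable abbrev gg1 : PresHom (canon A B) (Pad A B C) := g1 (canon A B) (canon B C)

noncomputable abbrev gg2 : PresHom (Pad A B C) (canon B C) := g2 (canon A B) (canon B C)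

theorem hm1 (r : (canon A B).toExtension.Ring) :
    (canonHom A B A C).ringHom r = (kk A B C).ringHom ((gg1 A B C).ringHom r) :=
  ringHom_comp_ext_FR (gg1 A B C) (kk A B C) (canonHom A B A C) (fun b => by
    rw [show (gg1 A B C).hom.val b = X (Sum.inr b) from rfl,
      Algebra.Generators.Hom.toAlgHom_X]
    rfl) r

theorem hm2 (r : (Pad A B C).toExtension.Ring) :
    (mm A B C).ringHom r = (canonHom A C B C).ringHom ((kk A B C).ringHom r) :=
  ringHom_comp_ext_FL (kk A B C) (canonHom A C B C) (mm A B C) (fun _ => rfl) r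

theorem hm3 (r : (canon A C).toExtension.Ring) :
    (PresHom.id (canon A C)).ringHom r = (kk A B C).ringHom ((kk' A B C).ringHom r) :=
  ringHom_comp_ext_FL (kk' A B C) (kk A B C) (PresHom.id (canon A C)) (fun c => by
    rw [show (kk' A B C).hom.val c = X (Sum.inl c) from rfl,
      Algebra.Generators.Hom.toAlgHom_X]
    rfl) r

theorem hm4 (r : (Pad A B C).toExtension.Ring) :
    (mm' A B C).ringHom r = (kk' A B C).ringHom ((kk A B C).ringHom r) :=
  ringHom_comp_ext_FL (kk A B C) (kk' A B C) (mm' A B C) (fun _ => rfl) r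

variable (M : Type u) [AddCommGroup M] [Module C M] [Module B M] [IsScalarTower B C M]

/-! #### the comparison relations -/

theorem R1_0 (t : T0 (canon A C) M) :
    (canonHom A B A C).T0pull M t = (gg1 A B C).T0pull M ((kk A B C).T0pull M t) :=
  T0pull_FR (gg1 A B C) (kk A B C) (canonHom A B A C) (hm1 A B C) M t

theorem R1_1 (t : T1 (canon A C) M) :
    (canonHom A B A C).T1pull M t = (gg1 A B C).T1pull M ((kk A B C).T1pull M t) :=
  T1pull_FR (gg1 A B C) (kk A B C) (canonHom A B A C) (hm1 A B C) M t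

theorem R1_2 (t : T2 (canon A C) M) :
    (canonHom A B A C).T2pull M t = (gg1 A B C).T2pull M ((kk A B C).T2pull M t) :=
  T2pull_FR (gg1 A B C) (kk A B C) (canonHom A B A C) (hm1 A B C) M t

theorem R2_0 (t : T0 (canon B C) M) :
    (gg2 A B C).T0pull M t = (kk A B C).T0pull M ((canonHom A C B C).T0pull M t) :=
  (T0pull_indep (gg2 A B C) (mm A B C) M t).trans
    (T0pull_FL (kk A B C) (canonHom A C B C) (mm A B C) (hm2 A B C) M t)

theorem R2_1 (t : T1 (canon B C) M) :
    (gg2 A B C).T1pull M t = (kk A B C).T1pull M ((canonHom A C B C).T1pull M t) :=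
  (T1pull_indep (gg2 A B C) (mm A B C) M t).trans
    (T1pull_FL (kk A B C) (canonHom A C B C) (mm A B C) (hm2 A B C) M t)

theorem R2_2 (t : T2 (canon B C) M) :
    (gg2 A B C).T2pull M t = (kk A B C).T2pull M ((canonHom A C B C).T2pull M t) :=
  (T2pull_indep (gg2 A B C) (mm A B C) M t).trans
    (T2pull_FL (kk A B C) (canonHom A C B C) (mm A B C) (hm2 A B C) M t)

theorem R3_0 (t : T0 (canon A C) M) : (kk' A B C).T0pull M ((kk A B C).T0pull M t) = t :=
  (T0pull_FL (kk' A B C) (kk A B C) (PresHom.id (canon A C)) (hm3 A B C) M t).symm.trans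
    (T0pull_id M t)

theorem R3_1 (t : T1 (canon A C) M) : (kk' A B C).T1pull M ((kk A B C).T1pull M t) = t :=
  (T1pull_FL (kk' A B C) (kk A B C) (PresHom.id (canon A C)) (hm3 A B C) M t).symm.trans
    (T1pull_id M t)

theorem R3_2 (t : T2 (canon A C) M) : (kk' A B C).T2pull M ((kk A B C).T2pull M t) = t :=
  (T2pull_FL (kk' A B C) (kk A B C) (PresHom.id (canon A C)) (hm3 A B C) M t).symm.trans
    (T2pull_id M t)

theorem R4_0 (s : T0 (Pad A B C) M) : (kk A B C).T0pull M ((kk' A B C).T0pull M s) = s :=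
  (T0pull_FL (kk A B C) (kk' A B C) (mm' A B C) (hm4 A B C) M s).symm.trans
    ((T0pull_indep (mm' A B C) (PresHom.id (Pad A B C)) M s).trans (T0pull_id M s))

theorem R4_1 (s : T1 (Pad A B C) M) : (kk A B C).T1pull M ((kk' A B C).T1pull M s) = s :=
  (T1pull_FL (kk A B C) (kk' A B C) (mm' A B C) (hm4 A B C) M s).symm.trans
    ((T1pull_indep (mm' A B C) (PresHom.id (Pad A B C)) M s).trans (T1pull_id M s))

theorem R4_2 (s : T2 (Pad A B C) M) : (kk A B C).T2pull M ((kk' A B C).T2pull M s) = s :=
  (T2pull_FL (kk A B C) (kk' A B C) (mm' A B C) (hm4 A B C) M s).symm.trans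
    ((T2pull_indep (mm' A B C) (PresHom.id (Pad A B C)) M s).trans (T2pull_id M s))

/-! #### the nine-term sequence -/

theorem range_eq0 : Set.range ((canonHom A B A C).T0pull M) = Set.range ((gg1 A B C).T0pull M) := by
  ext z
  constructor
  · rintro ⟨y, rfl⟩
    exact ⟨(kk A B C).T0pull M y, (R1_0 A B C M y).symm⟩
  · rintro ⟨s, rfl⟩
    exact ⟨(kk' A B C).T0pull M s, (R1_0 A B C M _).trans (congrArg _ (R4_0 A B C M s))⟩

theorem range_eq1 : Set.range ((canonHom A B A C).T1pull M) = Set.range ((gg1 A B C).T1pull M) := by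
  ext z
  constructor
  · rintro ⟨y, rfl⟩
    exact ⟨(kk A B C).T1pull M y, (R1_1 A B C M y).symm⟩
  · rintro ⟨s, rfl⟩
    exact ⟨(kk' A B C).T1pull M s, (R1_1 A B C M _).trans (congrArg _ (R4_1 A B C M s))⟩

theorem main12285 :
    Function.Injective ((CotT.canonHom A C B C).T0pull M) ∧
    Function.Exact ((CotT.canonHom A C B C).T0pull M) ((CotT.canonHom A B A C).T0pull M) ∧
    Function.Exact ((CotT.canonHom A C B C).T1pull M) ((CotT.canonHom A B A C).T1pull M) ∧
    Function.Exact ((CotT.canonHom A C B C).T2pull M) ((CotT.canonHom A B A C).T2pull M) ∧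
    ∃ (δ₀ : CotT.T0 (CotT.canon A B) M →+ CotT.T1 (CotT.canon B C) M)
      (δ₁ : CotT.T1 (CotT.canon A B) M →+ CotT.T2 (CotT.canon B C) M),
      Function.Exact ((CotT.canonHom A B A C).T0pull M) δ₀ ∧
      Function.Exact δ₀ ((CotT.canonHom A C B C).T1pull M) ∧
      Function.Exact ((CotT.canonHom A B A C).T1pull M) δ₁ ∧
      Function.Exact δ₁ ((CotT.canonHom A C B C).T2pull M) := by
  have had := adapted (canon A B) (canon B C) M
  obtain ⟨δ₀, hδ₀a, hδ₀b⟩ := exists_delta0 had
  obtain ⟨δ₁, hδ₁a, hδ₁b⟩ := exists_delta1 had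
  have κ0inj : Function.Injective ((kk A B C).T0pull M) :=
    Function.LeftInverse.injective (R3_0 A B C M)
  have κ1inj : Function.Injective ((kk A B C).T1pull M) :=
    Function.LeftInverse.injective (R3_1 A B C M)
  have κ2inj : Function.Injective ((kk A B C).T2pull M) :=
    Function.LeftInverse.injective (R3_2 A B C M)
  refine ⟨?_, ?_, ?_, ?_, δ₀, δ₁, ?_, ?_, ?_, ?_⟩
  · intro x y hxy
    apply T0_inj had
    exact (R2_0 A B C M x).trans ((congrArg _ hxy).trans (R2_0 A B C M y).symm)
  · exact exact_of_conj _ _ _ _ ((kk A B C).T0pull M) κ0inj (R2_0 A B C M) (R1_0 A B C M)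
      (T0_exact had)
  · exact exact_of_conj _ _ _ _ ((kk A B C).T1pull M) κ1inj (R2_1 A B C M) (R1_1 A B C M)
      (T1_exact had)
  · exact exact_of_conj _ _ _ _ ((kk A B C).T2pull M) κ2inj (R2_2 A B C M) (R1_2 A B C M)
      (T2_exact had)
  · exact exact_of_range_eq _ _ _ (range_eq0 A B C M) hδ₀a
  · exact exact_of_inj_comp _ _ _ ((kk A B C).T1pull M)
      (fun y => ⟨fun h => κ1inj (h.trans (map_zero _).symm), fun h => by rw [h, map_zero]⟩)
      (R2_1 A B C M) hδ₀b
  · exact exact_of_range_eq _ _ _ (range_eq1 A B C M) hδ₁a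
  · exact exact_of_inj_comp _ _ _ ((kk A B C).T2pull M)
      (fun y => ⟨fun h => κ2inj (h.trans (map_zero _).symm), fun h => by rw [h, map_zero]⟩)
      (R2_2 A B C M) hδ₁b

end Main


end Groth.Agent.Lib.NineMainH1
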