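import Mathlib
import Groth.Prelude.Def_CotT2
import Groth.Prelude.Def_CInt
import Groth.Agent.Lib.T2Van_helper1
import Groth.Agent.Lib.KoszulH1_helper5
import Groth.Agent.Lib.CMSeq_helper5
import Groth.Agent.Lib.RegUC_helper8
import Groth.Agent.S12285

/-!
# Local complete intersections and the vanishing of `T²` (helper1)
APPEND-ONLY once landed.
-/

set_option autoImplicit false

namespace Groth.Agent.Lib.CotTLCIH1

open TensorProduct CotT MvPolynomial IsLocalRing

universe u

section Tens

theorem mem_smul_top_of_one_tmul_eq_zero {R K N : Type*} [CommRing R] [CommRing K] [Algebra R K]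
    [AddCommGroup N] [Module R N] (hs : Function.Surjective (algebraMap R K)) (n : N)
    (h : (1 : K) ⊗ₜ[R] n = 0) :
    n ∈ RingHom.ker (algebraMap R K) • (⊤ : Submodule R N) := by
  have hs' : Function.Surjective (Algebra.ofId R K) := hs
  let e : (R ⧸ RingHom.ker (Algebra.ofId R K)) ≃ₐ[R] K :=
    Ideal.quotientKerAlgEquivOfSurjective hs'
  have hJ : RingHom.ker (Algebra.ofId R K) = RingHom.ker (algebraMap R K) :=
    Ideal.ext fun x => Iff.rfl
  have h1 : (LinearEquiv.rTensor N e.toLinearEquiv)
      ((1 : R ⧸ RingHom.ker (Algebra.ofId R K)) ⊗ₜ[R] n) = (1 : K) ⊗ₜ[R] n := by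
    rw [LinearEquiv.rTensor_tmul, AlgEquiv.toLinearEquiv_apply, map_one]
  have h2 : ((1 : R ⧸ RingHom.ker (Algebra.ofId R K)) ⊗ₜ[R] n) = 0 := by
    apply (LinearEquiv.rTensor N e.toLinearEquiv).injective
    rw [h1, h, map_zero]
  have h3 := congrArg (TensorProduct.quotTensorEquivQuotSMul N (RingHom.ker (Algebra.ofId R K))) h2
  rw [TensorProduct.quotTensorEquivQuotSMul_mk_one_tmul, map_zero,
    Submodule.Quotient.mk_eq_zero] at h3
  rw [← hJ]
  exact h3

end Tens

section Core

variable {R B F : Type u} [CommRing R] [IsLocalRing R] [CommRing B] [IsLocalRing B] [Algebra R B]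
  [AddCommGroup F] [Module R F] (Q : Submodule R F) (T : Submodule R Q)

theorem core (hsurj : Function.Surjective (algebraMap R B)) (hF : IsNoetherian R F)
    (hm : ∀ q : Q, (1 : B) ⊗ₜ[R] (q : F) ∈ maximalIdeal B • (⊤ : Submodule B (B ⊗[R] F)))
    (H : ∀ (M : Type u) [AddCommGroup M] [Module B M] (φ : B ⊗[R] Q →ₗ[B] M),
      (∀ t : T, φ ((1 : B) ⊗ₜ[R] (t : Q)) = 0) →
      ∃ ψ : B ⊗[R] F →ₗ[B] M, ∀ q : Q, φ ((1 : B) ⊗ₜ[R] q) = ψ ((1 : B) ⊗ₜ[R] (q : F))) :
    T = ⊤ := by
  classical
  haveI := hF
  haveI : Module.Finite R (Q ⧸ T) := inferInstance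
  have hsK : Function.Surjective (algebraMap R (B ⧸ maximalIdeal B)) := by
    rw [IsScalarTower.algebraMap_eq R B (B ⧸ maximalIdeal B), RingHom.coe_comp]
    exact (Ideal.Quotient.mk_surjective (I := maximalIdeal B)).comp hsurj
  have hkill : ∀ x ∈ maximalIdeal B, ∀ y : (B ⧸ maximalIdeal B) ⊗[R] (Q ⧸ T), x • y = 0 := by
    intro x hx y
    induction y using TensorProduct.induction_on with
    | zero => exact smul_zero _
    | add a b ha hb => rw [smul_add, ha, hb, add_zero]
    | tmul c n =>
      rw [TensorProduct.smul_tmul']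
      have : x • c = 0 := by
        rw [Algebra.smul_def, Ideal.Quotient.algebraMap_eq,
          Ideal.Quotient.eq_zero_iff_mem.mpr hx, zero_mul]
      rw [this, zero_tmul]
  let g : Q →ₗ[R] (B ⧸ maximalIdeal B) ⊗[R] (Q ⧸ T) :=
    (TensorProduct.mk R (B ⧸ maximalIdeal B) (Q ⧸ T) 1) ∘ₗ T.mkQ
  have hgapp : ∀ q : Q, g q =
      (1 : B ⧸ maximalIdeal B) ⊗ₜ[R] (Submodule.Quotient.mk q : Q ⧸ T) := fun q => rfl
  obtain ⟨ψ, hψ⟩ := H ((B ⧸ maximalIdeal B) ⊗[R] (Q ⧸ T)) (g.liftBaseChange B) (fun t => by
    rw [LinearMap.liftBaseChange_tmul, one_smul, hgapp,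
      (Submodule.Quotient.mk_eq_zero T).mpr t.2, tmul_zero])
  have hg : ∀ q : Q, g q = 0 := by
    intro q
    have h1 : g q = ψ ((1 : B) ⊗ₜ[R] (q : F)) := by
      rw [← hψ q, LinearMap.liftBaseChange_tmul, one_smul]
    rw [h1]
    have h2 : ψ ((1 : B) ⊗ₜ[R] (q : F)) ∈
        maximalIdeal B • (⊤ : Submodule B ((B ⧸ maximalIdeal B) ⊗[R] (Q ⧸ T))) := by
      have h3 := Submodule.mem_map_of_mem (f := ψ) (hm q)
      rw [Submodule.map_smul''] at h3
      exact Submodule.smul_mono le_rfl le_top h3
    exact Submodule.smul_induction_on h2 (fun x hx y _ => hkill x hx y)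
      (fun a b ha hb => by rw [ha, hb, add_zero])
  have hN : (⊤ : Submodule R (Q ⧸ T)) ≤
      RingHom.ker (algebraMap R (B ⧸ maximalIdeal B)) • (⊤ : Submodule R (Q ⧸ T)) := by
    intro n _
    obtain ⟨q, rfl⟩ := Submodule.Quotient.mk_surjective T n
    exact mem_smul_top_of_one_tmul_eq_zero hsK _ (hg q)
  have hJ : RingHom.ker (algebraMap R (B ⧸ maximalIdeal B)) ≤ Ideal.jacobson ⊥ := by
    rw [IsLocalRing.jacobson_eq_maximalIdeal ⊥ bot_ne_top]
    exact IsLocalRing.le_maximalIdeal (RingHom.ker_ne_top _)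
  have h0 := Submodule.eq_bot_of_le_smul_of_le_jacobson_bot _ _ Module.Finite.fg_top hN hJ
  rw [eq_top_iff]
  intro q _
  have h4 : (Submodule.Quotient.mk q : Q ⧸ T) ∈ (⊤ : Submodule R (Q ⧸ T)) := trivial
  rw [h0, Submodule.mem_bot, Submodule.Quotient.mk_eq_zero] at h4
  exact h4

end Core

section HT2

variable {A B : Type u} [CommRing A] [CommRing B] [Algebra A B]

theorem H_of_T2 {ι σ : Type*} (P : Algebra.Presentation A B ι σ) (M : Type u) [AddCommGroup M]
    [Module B M] [Subsingleton (T2 P M)]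
    (φ : B ⊗[P.toExtension.Ring] relKer P →ₗ[B] M)
    (hφ : ∀ t : trivRelKer P, φ ((1 : B) ⊗ₜ[P.toExtension.Ring] (t : relKer P)) = 0) :
    ∃ ψ : L1 P →ₗ[B] M, ∀ q : relKer P,
      φ ((1 : B) ⊗ₜ[P.toExtension.Ring] q) = ψ ((1 : B) ⊗ₜ[P.toExtension.Ring] (q : relMod P)) := by
  have hle : LinearMap.range ((trivRelKer P).subtype.baseChange B) ≤ LinearMap.ker φ := by
    rintro _ ⟨z, rfl⟩
    rw [LinearMap.mem_ker]
    induction z using TensorProduct.induction_on with
    | zero => rw [map_zero, map_zero]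
    | add x y hx hy => rw [map_add, map_add, hx, hy, add_zero]
    | tmul b t =>
      rw [LinearMap.baseChange_tmul]
      have : b ⊗ₜ[P.toExtension.Ring] ((trivRelKer P).subtype t) =
          b • ((1 : B) ⊗ₜ[P.toExtension.Ring] (t : relKer P)) := by
        rw [TensorProduct.smul_tmul', smul_eq_mul, mul_one]
        rfl
      rw [this, map_smul, hφ, smul_zero]
  let φ' : L2 P →ₗ[B] M := Submodule.liftQ _ φ hle
  have h0 : (Submodule.Quotient.mk φ' : T2 P M) = 0 := Subsingleton.elim _ _
  rw [Submodule.Quotient.mk_eq_zero] at h0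
  obtain ⟨ψ, hψ⟩ := h0
  refine ⟨ψ, fun q => ?_⟩
  have h1 : φ' (Submodule.Quotient.mk ((1 : B) ⊗ₜ[P.toExtension.Ring] q)) =
      φ ((1 : B) ⊗ₜ[P.toExtension.Ring] q) := Submodule.liftQ_apply _ _ _
  rw [← h1, ← hψ, d2Star_apply, LinearMap.comp_apply, d2_mk_tmul]

end HT2

section Pres

variable (A B : Type u) [CommRing A] [CommRing B] [Algebra A B]
  (hs : Function.Surjective (algebraMap A B)) {n : ℕ} (f : Fin n → A)
  (hI : RingHom.ker (algebraMap A B) = Ideal.span (Set.range f))

/-- the presentation of `A/(f)` with no variables and the relations `f i`. -/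
noncomputable def Pfn : Algebra.Presentation A B PEmpty.{1} (Fin n) where
  __ := Algebra.Generators.ofSurjectiveAlgebraMap hs
  relation := fun i => C (f i)
  span_range_relation_eq_ker := by
    apply le_antisymm
    · refine Ideal.span_le.mpr ?_
      rintro _ ⟨i, rfl⟩
      show _ ∈ (Algebra.Generators.ofSurjectiveAlgebraMap hs).ker
      rw [Algebra.Generators.ker_eq_ker_aeval_val, RingHom.mem_ker, aeval_C]
      have h : f i ∈ Ideal.span (Set.range f) := Ideal.subset_span ⟨i, rfl⟩
      rw [← hI] at h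
      exact h
    · intro x hx
      rw [Algebra.Generators.ker_eq_ker_aeval_val, RingHom.mem_ker] at hx
      obtain ⟨a, rfl⟩ := MvPolynomial.C_surjective PEmpty.{1} x
      rw [aeval_C] at hx
      have ha : a ∈ Ideal.span (Set.range f) := by rw [← hI]; exact hx
      have h := Ideal.mem_map_of_mem (C : A →+* MvPolynomial PEmpty.{1} A) ha
      rw [Ideal.map_span] at h
      refine Ideal.span_mono ?_ h
      rintro _ ⟨a, ⟨i, rfl⟩, rfl⟩
      exact ⟨i, rfl⟩

set_option backward.isDefEq.respectTransparency false in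
theorem relKer_le_trivRel_of_T2 [IsLocalRing A] [IsNoetherianRing A] [IsLocalRing B]
    (hmin : ∀ c : Fin n → A, ∑ i, c i * f i = 0 → ∀ i, c i ∈ maximalIdeal A)
    (hT2 : ∀ (M : Type u) [AddCommGroup M] [Module B M], Subsingleton (T2 (Pfn A B hs f hI) M)) :
    relKer (Pfn A B hs f hI) ≤ trivRel (Pfn A B hs f hI) := by
  set P := Pfn A B hs f hI with hP
  haveI : IsLocalRing P.toExtension.Ring :=
    (isEmptyAlgEquiv A PEmpty.{1}).symm.toRingEquiv.isLocalRing
  haveI : IsNoetherianRing P.toExtension.Ring :=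
    (inferInstance : IsNoetherianRing (MvPolynomial PEmpty.{1} A))
  have hF : IsNoetherian P.toExtension.Ring (relMod P) :=
    isNoetherian_of_isNoetherianRing_of_finite _ _
  haveI : IsLocalHom (algebraMap A B) := IsLocalHom.of_surjective (algebraMap A B) hs
  have hsR : Function.Surjective (algebraMap P.toExtension.Ring B) := by
    intro b
    obtain ⟨a, rfl⟩ := hs b
    refine ⟨C a, ?_⟩
    rw [algebraMap_toExtension, aeval_C]
  have hm : ∀ q : relKer P, (1 : B) ⊗ₜ[P.toExtension.Ring] (q : relMod P) ∈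
      maximalIdeal B • (⊤ : Submodule B (B ⊗[P.toExtension.Ring] relMod P)) := by
    intro q
    have hC : ∀ i, ∃ a : A, (C a : MvPolynomial PEmpty.{1} A) = (q : relMod P) i :=
      fun i => MvPolynomial.C_surjective PEmpty.{1} _
    choose c hc using hC
    have hq0 : jmap P (q : relMod P) = 0 := q.2
    have e2 : ∑ i, (q : relMod P) i * rel P i = 0 := by
      rw [← hq0, jmap, Finsupp.linearCombination_apply, Finsupp.sum_fintype]
      · rfl
      · intro i
        exact zero_smul _ _
    have e3 : (C (∑ i, c i * f i) : MvPolynomial PEmpty.{1} A) = 0 := by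
      rw [map_sum]
      refine Eq.trans ?_ e2
      refine Finset.sum_congr rfl fun i _ => ?_
      rw [map_mul, hc i]
      rfl
    have e4 : ∑ i, c i * f i = 0 := MvPolynomial.C_injective PEmpty.{1} A (by rw [e3, map_zero])
    have hmem := hmin c e4
    have e1 : (q : relMod P) = ∑ i, (q : relMod P) i • (Finsupp.single i 1 : relMod P) := by
      conv_lhs => rw [← Finsupp.univ_sum_single (q : relMod P)]
      refine Finset.sum_congr rfl fun i _ => ?_
      rw [Finsupp.smul_single_one]
    rw [e1, TensorProduct.tmul_sum]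
    refine Submodule.sum_mem _ fun i _ => ?_
    rw [TensorProduct.tmul_smul, ← algebraMap_smul B ((q : relMod P) i)
      ((1 : B) ⊗ₜ[P.toExtension.Ring] (Finsupp.single i 1 : relMod P))]
    refine Submodule.smul_mem_smul ?_ trivial
    rw [← hc i, algebraMap_toExtension, aeval_C]
    exact map_nonunit (algebraMap A B) (c i) (hmem i)
  have key := core (relKer P) (trivRelKer P) hsR hF hm (fun M _ _ φ hφ => by
    haveI := hT2 M
    exact H_of_T2 P M φ hφ)
  intro q hq
  have h5 : (⟨q, hq⟩ : relKer P) ∈ trivRelKer P := by rw [key]; trivial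
  exact h5

set_option backward.isDefEq.respectTransparency false in
theorem koszulH1Zero_of_le (h : relKer (Pfn A B hs f hI) ≤ trivRel (Pfn A B hs f hI)) :
    CInt.KoszulH1Zero f A := by
  set P := Pfn A B hs f hI with hP
  let cc : P.toExtension.Ring →+* A := (constantCoeff : MvPolynomial PEmpty.{1} A →+* A)
  have hccC : ∀ a : A, cc (C a) = a := fun a => constantCoeff_C _ a
  have hccrel : ∀ i, cc (rel P i) = f i := fun i => constantCoeff_C _ (f i)
  let Φ : relMod P →+ (Fin n → A) :=
    { toFun := fun y i => cc (y i)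
      map_zero' := by funext i; exact map_zero _
      map_add' := fun x y => by funext i; exact map_add _ _ _ }
  have hΦ : ∀ (y : relMod P) (i : Fin n), Φ y i = cc (y i) := fun _ _ => rfl
  have hΦsingle : ∀ (j : Fin n) (t : P.toExtension.Ring),
      Φ (Finsupp.single j t) = Pi.single j (cc t) := by
    intro j t
    funext k
    rw [hΦ]
    by_cases hk : k = j
    · subst hk
      rw [Finsupp.single_eq_same, Pi.single_eq_same]
    · rw [Finsupp.single_eq_of_ne hk, Pi.single_eq_of_ne hk, map_zero]
  have hΦsmul : ∀ (r : P.toExtension.Ring) (y : relMod P),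
      Φ (r • y) = cc r • Φ y := by
    intro r y
    funext i
    rw [hΦ]
    show cc (r * y i) = cc r * cc (y i)
    exact map_mul _ _ _
  have e5 : ∀ (x y : A) (k : Fin n),
      (Pi.single k (x * y) : Fin n → A) = x • (Pi.single k y : Fin n → A) := by
    intro x y k
    rw [← smul_eq_mul, Pi.single_smul']
  have hgen : ∀ a b : relMod P, Φ (jmap P a • b - jmap P b • a) ∈
      Submodule.span A (Groth.Agent.KoszulH1.T f A) := by
    intro a b
    induction a using Finsupp.induction_linear with
    | zero =>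
      have : jmap P (0 : relMod P) • b - jmap P b • (0 : relMod P) = 0 := by
        rw [map_zero, zero_smul, smul_zero, sub_zero]
      rw [this, map_zero]
      exact zero_mem _
    | add a1 a2 h1 h2 =>
      have : jmap P (a1 + a2) • b - jmap P b • (a1 + a2) =
          (jmap P a1 • b - jmap P b • a1) + (jmap P a2 • b - jmap P b • a2) := by
        rw [map_add, add_smul, smul_add]
        abel
      rw [this, map_add]
      exact add_mem h1 h2
    | single i r =>
      induction b using Finsupp.induction_linear with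
      | zero =>
        have : jmap P (Finsupp.single i r) • (0 : relMod P) -
            jmap P (0 : relMod P) • (Finsupp.single i r : relMod P) = 0 := by
          rw [smul_zero, map_zero, zero_smul, sub_zero]
        rw [this, map_zero]
        exact zero_mem _
      | add b1 b2 h1 h2 =>
        have : jmap P (Finsupp.single i r) • (b1 + b2) -
            jmap P (b1 + b2) • (Finsupp.single i r : relMod P) =
            (jmap P (Finsupp.single i r) • b1 - jmap P b1 • (Finsupp.single i r : relMod P)) +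
            (jmap P (Finsupp.single i r) • b2 - jmap P b2 • (Finsupp.single i r : relMod P)) := by
          rw [map_add, add_smul, smul_add]
          abel
        rw [this, map_add]
        exact add_mem h1 h2
      | single j s =>
        have e : jmap P (Finsupp.single i r) • (Finsupp.single j s : relMod P) -
            jmap P (Finsupp.single j s) • (Finsupp.single i r : relMod P) =
            (Finsupp.single j (r * rel P i * s) : relMod P) -
              (Finsupp.single i (s * rel P j * r) : relMod P) := by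
          rw [jmap_single, jmap_single, Finsupp.smul_single, Finsupp.smul_single, smul_eq_mul,
            smul_eq_mul]
        rw [e, map_sub, hΦsingle, hΦsingle]
        refine Submodule.subset_span ⟨j, i, cc r * cc s, ?_⟩
        have a1 : cc (r * rel P i * s) = f i * (cc r * cc s) := by
          rw [map_mul, map_mul, hccrel]
          ring
        have a2 : cc (s * rel P j * r) = f j * (cc r * cc s) := by
          rw [map_mul, map_mul, hccrel]
          ring
        rw [a1, a2, e5 (f i) (cc r * cc s) j, e5 (f j) (cc r * cc s) i]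
  have hall : ∀ y ∈ trivRel P, Φ y ∈ Submodule.span A (Groth.Agent.KoszulH1.T f A) := by
    intro y hy
    unfold trivRel at hy
    induction hy using Submodule.span_induction with
    | mem y hy =>
      obtain ⟨a, b, rfl⟩ := hy
      exact hgen a b
    | zero =>
      rw [map_zero]
      exact zero_mem _
    | add x y _ _ hx hy =>
      rw [map_add]
      exact add_mem hx hy
    | smul r x _ hx =>
      rw [hΦsmul]
      exact Submodule.smul_mem _ _ hx
  refine (Groth.Agent.KoszulH1.koszulH1Zero_iff f).mpr fun m hm => ?_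
  let q : relMod P :=
    Finsupp.equivFunOnFinite.symm (fun i => (C (m i) : MvPolynomial PEmpty.{1} A))
  have hqi : ∀ i, q i = C (m i) := fun i => rfl
  have hq : q ∈ relKer P := by
    show jmap P q = 0
    rw [jmap, Finsupp.linearCombination_apply, Finsupp.sum_fintype]
    · let CC : A →+* P.toExtension.Ring := (C : A →+* MvPolynomial PEmpty.{1} A)
      have h6 : ∀ i, q i • rel P i = CC (m i * f i) := fun i => by
        rw [hqi, map_mul]
        rfl
      rw [Finset.sum_congr rfl (fun i _ => h6 i), ← map_sum]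
      have hm' : ∑ i, m i * f i = 0 := by
        rw [← hm]
        refine Finset.sum_congr rfl fun i _ => ?_
        rw [smul_eq_mul, mul_comm]
      rw [hm', map_zero]
    · intro i
      exact zero_smul _ _
  have h1 := hall q (h hq)
  have h2 : Φ q = m := by
    funext i
    rw [hΦ, hqi, hccC]
  rw [h2] at h1
  exact h1

end Pres

section Min

variable {A : Type u} [CommRing A]

theorem exists_min_gen [IsNoetherianRing A] (I : Ideal A) :
    ∃ (n : ℕ) (f : Fin n → A), Ideal.span (Set.range f) = I ∧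
      ∀ (m : ℕ) (g : Fin m → A), Ideal.span (Set.range g) = I → n ≤ m := by
  classical
  obtain ⟨n0, f0, h0⟩ :=
    Submodule.fg_iff_exists_fin_generating_family.mp (IsNoetherian.noetherian I)
  have hex : ∃ n : ℕ, ∃ f : Fin n → A, Ideal.span (Set.range f) = I := ⟨n0, f0, h0⟩
  obtain ⟨f, hf⟩ := Nat.find_spec hex
  exact ⟨Nat.find hex, f, hf, fun m g hg => Nat.find_min' hex ⟨g, hg⟩⟩

theorem coeff_mem_of_min [IsLocalRing A] (n : ℕ) (f : Fin n → A)
    (hmin : ∀ (m : ℕ) (g : Fin m → A),
      Ideal.span (Set.range g) = Ideal.span (Set.range f) → n ≤ m)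
    (c : Fin n → A) (hc : ∑ i, c i * f i = 0) (i : Fin n) : c i ∈ maximalIdeal A := by
  by_contra hci
  have hu : IsUnit (c i) := by
    by_contra h
    exact hci ((IsLocalRing.mem_maximalIdeal _).mpr h)
  obtain ⟨u, hu⟩ := hu
  obtain ⟨m, rfl⟩ : ∃ m, n = m + 1 := ⟨n - 1, by have := i.pos; omega⟩
  have hsum := Fin.sum_univ_succAbove (fun j => c j * f j) i
  have h1 : c i * f i = - ∑ j : Fin m, c (i.succAbove j) * f (i.succAbove j) := by
    rw [eq_neg_iff_add_eq_zero, ← hsum]
    exact hc
  have hfi : f i = - (↑u⁻¹ : A) * ∑ j : Fin m, c (i.succAbove j) * f (i.succAbove j) := by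
    calc f i = ↑u⁻¹ * (c i * f i) := by rw [← mul_assoc, ← hu, Units.inv_mul, one_mul]
      _ = _ := by rw [h1]; ring
  have hle := hmin m (fun j => f (i.succAbove j)) (by
    apply le_antisymm
    · exact Ideal.span_mono (by rintro _ ⟨j, rfl⟩; exact ⟨_, rfl⟩)
    · refine Ideal.span_le.mpr ?_
      rintro _ ⟨k, rfl⟩
      by_cases hk : k = i
      · rw [hk, hfi]
        exact Ideal.mul_mem_left _ _ (Ideal.sum_mem _ fun j _ =>
          Ideal.mul_mem_left _ _ (Ideal.subset_span ⟨j, rfl⟩))
      · obtain ⟨j, rfl⟩ := Fin.exists_succAbove_eq hk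
        exact Ideal.subset_span ⟨j, rfl⟩)
  omega

end Min

section Main

variable (A : Type u) [CommRing A] [IsRegularLocalRing A] (I : Ideal A) (hI : I ≠ ⊤)

include hI in
theorem lci_of_T2
    (hT2 : ∀ (M : Type u) [AddCommGroup M] [Module (A ⧸ I) M],
      Subsingleton (T2 (canon A (A ⧸ I)) M)) :
    ∃ rs : List A, Ideal.ofList rs = I ∧
      (rs.length : WithBot ℕ∞) + ringKrullDim (A ⧸ I) = ringKrullDim A := by
  haveI : Nontrivial (A ⧸ I) := Ideal.Quotient.nontrivial_iff.mpr hI
  haveI : IsLocalRing (A ⧸ I) :=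
    IsLocalRing.of_surjective' (Ideal.Quotient.mk I) Ideal.Quotient.mk_surjective
  obtain ⟨n, f, hf, hmin⟩ := exists_min_gen I
  have hs : Function.Surjective (algebraMap A (A ⧸ I)) := Ideal.Quotient.mk_surjective
  have hker : RingHom.ker (algebraMap A (A ⧸ I)) = Ideal.span (Set.range f) := by
    rw [hf, Ideal.Quotient.algebraMap_eq, Ideal.mk_ker]
  have hT2' : ∀ (M : Type u) [AddCommGroup M] [Module (A ⧸ I) M],
      Subsingleton (T2 (Pfn A (A ⧸ I) hs f hker) M) := by
    intro M _ _
    haveI := hT2 M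
    exact (Groth.Agent.Lib.T2IndepH1.T2_indep M (canon A (A ⧸ I))
      (Pfn A (A ⧸ I) hs f hker)).elim fun e => e.symm.toEquiv.subsingleton
  have hle := relKer_le_trivRel_of_T2 A (A ⧸ I) hs f hker
    (fun c hc i => coeff_mem_of_min n f (fun m g hg => hmin m g (hg.trans hf)) c hc i) hT2'
  have hK := koszulH1Zero_of_le A (A ⧸ I) hs f hker hle
  have hfm : ∀ i, f i ∈ maximalIdeal A := fun i =>
    IsLocalRing.le_maximalIdeal hI (hf ▸ Ideal.subset_span ⟨i, rfl⟩)
  have hw : RingTheory.Sequence.IsWeaklyRegular A (List.ofFn f) :=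
    Groth.Agent.KoszulH1.isWeaklyRegular_of_koszulH1Zero_jacobson f (fun i => by
      rw [IsLocalRing.jacobson_eq_maximalIdeal ⊥ bot_ne_top]
      exact hfm i) hK
  have hof : Ideal.ofList (List.ofFn f) = I := (Groth.Agent.KoszulH1.ofList_ofFn f).trans hf
  refine ⟨List.ofFn f, hof, ?_⟩
  have hCM := _root_.RegUCH8.isCM_of_regular A
  have hd := ((Groth.Agent.DepthLib.isCM_list (List.ofFn f) A hCM (fun x hx => by
      obtain ⟨i, rfl⟩ := (List.mem_ofFn' f x).mp hx
      exact hfm i)).1).mp hw
  rw [Groth.Agent.DepthLib.supportDim_quot_smul_top_self, Module.supportDim_self_eq_ringKrullDim,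
    hof] at hd
  rw [add_comm]
  exact hd

include hI in
theorem T2_of_lci (rs : List A) (hrs : Ideal.ofList rs = I)
    (hdim : (rs.length : WithBot ℕ∞) + ringKrullDim (A ⧸ I) = ringKrullDim A)
    (M : Type u) [AddCommGroup M] [Module (A ⧸ I) M] :
    Subsingleton (T2 (canon A (A ⧸ I)) M) := by
  have hmem : ∀ x ∈ rs, x ∈ maximalIdeal A := fun x hx =>
    IsLocalRing.le_maximalIdeal hI (hrs ▸ Ideal.subset_span hx)
  have hCM := _root_.RegUCH8.isCM_of_regular A
  have hw : RingTheory.Sequence.IsWeaklyRegular A rs := by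
    refine ((Groth.Agent.DepthLib.isCM_list rs A hCM hmem).1).mpr ?_
    rw [Groth.Agent.DepthLib.supportDim_quot_smul_top_self,
      Module.supportDim_self_eq_ringKrullDim, hrs, add_comm]
    exact hdim
  have hreg : RingTheory.Sequence.IsRegular A rs :=
    RingTheory.Sequence.IsRegular.of_isWeaklyRegular_of_mem_maximalIdeal A hmem hw
  exact Groth.Agent.Lib.T2VanH1.main12288 A (A ⧸ I) Ideal.Quotient.mk_surjective rs
    (by rw [hrs, Ideal.Quotient.algebraMap_eq, Ideal.mk_ker]) hreg M

end Main

section Nine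

theorem T2_iff (k A : Type u) [Field k] [CommRing A] [Algebra k A] (I : Ideal A)
    (hT : ∀ (N : Type u) [AddCommGroup N] [Module A N],
      Subsingleton (CotT.T1 (CotT.canon k A) N) ∧ Subsingleton (CotT.T2 (CotT.canon k A) N))
    (M : Type u) [AddCommGroup M] [Module (A ⧸ I) M] :
    Subsingleton (T2 (canon A (A ⧸ I)) M) ↔ Subsingleton (T2 (canon k (A ⧸ I)) M) := by
  letI : Module A M := Module.compHom M (Ideal.Quotient.mk I)
  haveI : IsScalarTower A (A ⧸ I) M := ⟨fun a b m => by
    show (a • b) • m = (Ideal.Quotient.mk I a) • (b • m)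
    rw [← mul_smul, Algebra.smul_def, Ideal.Quotient.algebraMap_eq]⟩
  obtain ⟨_, _, _, hex2, δ₀, δ₁, _, _, _, hex1⟩ := Groth.Agent.S12285.result k A (A ⧸ I) M
  obtain ⟨hT1, hT2⟩ := hT M
  have hinj : Function.Injective ((canonHom k (A ⧸ I) A (A ⧸ I)).T2pull M) := by
    rw [injective_iff_map_eq_zero]
    intro x hx
    obtain ⟨y, rfl⟩ := (hex1 x).mp hx
    rw [Subsingleton.elim y 0, map_zero]
  have hsurj : Function.Surjective ((canonHom k (A ⧸ I) A (A ⧸ I)).T2pull M) := by
    intro y
    exact (hex2 y).mp (Subsingleton.elim _ _)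
  constructor
  · intro h
    exact hsurj.subsingleton
  · intro h
    exact hinj.subsingleton

theorem main12291 (k A : Type u) [Field k] [CommRing A] [IsRegularLocalRing A] [Algebra k A]
    (hT : ∀ (N : Type u) [AddCommGroup N] [Module A N],
      Subsingleton (CotT.T1 (CotT.canon k A) N) ∧ Subsingleton (CotT.T2 (CotT.canon k A) N))
    (I : Ideal A) (hI : I ≠ ⊤) :
    (∃ rs : List A, Ideal.ofList rs = I ∧
      (rs.length : WithBot ℕ∞) + ringKrullDim (A ⧸ I) = ringKrullDim A) ↔
      ∀ (M : Type u) [AddCommGroup M] [Module (A ⧸ I) M],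
        Subsingleton (CotT.T2 (CotT.canon k (A ⧸ I)) M) := by
  constructor
  · rintro ⟨rs, hrs, hdim⟩ M _ _
    exact (T2_iff k A I hT M).mp (T2_of_lci A I hI rs hrs hdim M)
  · intro h
    exact lci_of_T2 A I hI (fun M _ _ => (T2_iff k A I hT M).mpr (h M))

end Nine

end Groth.Agent.Lib.CotTLCIH1
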