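import Mathlib
import Groth.Prelude.Def_CotT

/-!
Helper lemmas (helper1): the long exact sequence of the cotangent functors `T⁰, T¹, T²` of a
presentation for a short exact sequence of coefficient modules.  APPEND-ONLY once landed.
-/

set_option autoImplicit false
universe u v w t m m'

namespace Groth.Agent.Lib.CotTH1

open CotT Function TensorProduct

variable {A : Type u} {B : Type v} {ι : Type w} {σ : Type t} [CommRing A] [CommRing B] [Algebra A B]
variable (P : Algebra.Presentation A B ι σ)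

theorem free_L0 : Module.Free B (L0 P) := Module.Free.of_basis P.cotangentSpaceBasis

theorem free_L1 : Module.Free B (L1 P) := Module.Free.of_basis (L1basis P)

section SES

variable {M' : Type m} {M : Type m} {M'' : Type m} [AddCommGroup M'] [Module B M']
  [AddCommGroup M] [Module B M] [AddCommGroup M''] [Module B M'']

theorem exists_factor {L : Type*} [AddCommGroup L] [Module B L] (f : M' →ₗ[B] M) (g : M →ₗ[B] M'')
    (hf : Injective f) (hfg : Exact f g) (φ : L →ₗ[B] M) (h : g ∘ₗ φ = 0) :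
    ∃ ψ : L →ₗ[B] M', f ∘ₗ ψ = φ := by
  have hr : ∀ x, φ x ∈ LinearMap.range f := fun x => (hfg (φ x)).1 (LinearMap.congr_fun h x)
  refine ⟨(LinearEquiv.ofInjective f hf).symm.toLinearMap ∘ₗ
    LinearMap.codRestrict (LinearMap.range f) φ hr, ?_⟩
  ext x
  have h1 := (LinearEquiv.ofInjective f hf).apply_symm_apply ⟨φ x, hr x⟩
  exact congrArg Subtype.val h1

theorem comp_eq_zero_of_exact (f : M' →ₗ[B] M) (g : M →ₗ[B] M'') (hfg : Exact f g) :
    g ∘ₗ f = 0 := LinearMap.ext fun x => hfg.apply_apply_eq_zero x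

theorem exists_lift {L : Type*} [AddCommGroup L] [Module B L] [Module.Projective B L]
    (g : M →ₗ[B] M'') (hg : Surjective g) (φ : L →ₗ[B] M'') : ∃ ψ : L →ₗ[B] M, g ∘ₗ ψ = φ :=
  Module.projective_lifting_property g φ hg

/-- Postcomposition. -/
noncomputable def pc (L : Type*) [AddCommGroup L] [Module B L] {N N' : Type*} [AddCommGroup N]
    [Module B N] [AddCommGroup N'] [Module B N'] (g : N →ₗ[B] N') :
    (L →ₗ[B] N) →ₗ[B] (L →ₗ[B] N') := LinearMap.llcomp B L N N' g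

theorem exact_llcomp {L : Type*} [AddCommGroup L] [Module B L] (f : M' →ₗ[B] M) (g : M →ₗ[B] M'')
    (hf : Injective f) (hfg : Exact f g) :
    Exact (pc L f) (pc L g) := by
  intro φ
  constructor
  · intro h
    obtain ⟨ψ, hψ⟩ := exists_factor f g hf hfg φ h
    exact ⟨ψ, hψ⟩
  · rintro ⟨ψ, hψ⟩
    rw [← hψ]
    show g ∘ₗ (f ∘ₗ ψ) = 0
    rw [← LinearMap.comp_assoc, comp_eq_zero_of_exact f g hfg, LinearMap.zero_comp]

end SES

section Gen

variable (N : Type m) [AddCommGroup N] [Module B N]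

/-- `φ ↦ φ ∘ d₁` with values in the cocycles. -/
noncomputable def toZ1 : (L0 P →ₗ[B] N) →ₗ[B] cocycles1 P N :=
  LinearMap.codRestrict (cocycles1 P N) (d1Star P N) (fun φ => by
    rw [LinearMap.mem_ker]
    exact LinearMap.congr_fun (d2Star_comp_d1Star P N) φ)

theorem exact_subtype_toZ1 : Exact (LinearMap.ker (d1Star P N)).subtype (toZ1 P N) := by
  intro φ
  constructor
  · intro h
    have h' : d1Star P N φ = 0 := congrArg Subtype.val h
    exact ⟨⟨φ, h'⟩, rfl⟩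
  · rintro ⟨x, rfl⟩
    apply Subtype.ext
    exact x.2

theorem exact_toZ1_mkQ : Exact (toZ1 P N) (coboundaries1 P N).mkQ := by
  intro c
  rw [Submodule.mkQ_apply, Submodule.Quotient.mk_eq_zero]
  constructor
  · rintro ⟨ψ, hψ⟩
    exact ⟨ψ, Subtype.ext hψ⟩
  · rintro ⟨ψ, rfl⟩
    exact ⟨ψ, rfl⟩

/-- `Hom(L₁, N)` modulo coboundaries. -/
abbrev Q1 : Type _ := (L1 P →ₗ[B] N) ⧸ LinearMap.range (d1Star P N)

noncomputable def q1ToH2 : Q1 P N →ₗ[B] (L2 P →ₗ[B] N) :=
  Submodule.liftQ _ (d2Star P N) (LinearMap.range_le_ker_iff.2 (d2Star_comp_d1Star P N))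

noncomputable def t1ToQ1 : T1 P N →ₗ[B] Q1 P N :=
  Submodule.mapQ (coboundaries1 P N) (LinearMap.range (d1Star P N)) (cocycles1 P N).subtype le_rfl

theorem exact_t1ToQ1 : Exact (t1ToQ1 P N) (q1ToH2 P N) := by
  intro y
  obtain ⟨c, rfl⟩ := Submodule.Quotient.mk_surjective _ y
  constructor
  · intro h
    have h' : c ∘ₗ d2 P = 0 := h
    exact ⟨Submodule.Quotient.mk ⟨c, h'⟩, rfl⟩
  · rintro ⟨x, hx⟩
    obtain ⟨c₀, rfl⟩ := Submodule.Quotient.mk_surjective _ x
    rw [← hx]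
    show (c₀ : L1 P →ₗ[B] N) ∘ₗ d2 P = 0
    exact c₀.2

theorem t1ToQ1_injective : Injective (t1ToQ1 P N) := by
  rw [injective_iff_map_eq_zero]
  intro x hx
  obtain ⟨c₀, rfl⟩ := Submodule.Quotient.mk_surjective _ x
  have h1 : (Submodule.Quotient.mk (c₀ : L1 P →ₗ[B] N) : Q1 P N) = 0 := hx
  rw [Submodule.Quotient.mk_eq_zero] at h1 ⊢
  exact h1

theorem exact_q1ToH2_mkQ : Exact (q1ToH2 P N) (LinearMap.range (d2Star P N)).mkQ := by
  intro θ
  rw [Submodule.mkQ_apply, Submodule.Quotient.mk_eq_zero]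
  constructor
  · rintro ⟨φ, rfl⟩
    exact ⟨Submodule.Quotient.mk φ, rfl⟩
  · rintro ⟨y, rfl⟩
    obtain ⟨φ, rfl⟩ := Submodule.Quotient.mk_surjective _ y
    exact ⟨φ, rfl⟩

end Gen

section Q1Map

variable {N : Type m} {N' : Type m} [AddCommGroup N] [Module B N] [AddCommGroup N'] [Module B N']

noncomputable def q1Map (g : N →ₗ[B] N') : Q1 P N →ₗ[B] Q1 P N' :=
  Submodule.mapQ _ _ (pc (L1 P) g) (by
    rintro _ ⟨ψ, rfl⟩
    exact ⟨g ∘ₗ ψ, rfl⟩)

end Q1Map

section Main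

variable {M' : Type m} {M : Type m} {M'' : Type m} [AddCommGroup M'] [Module B M']
  [AddCommGroup M] [Module B M] [AddCommGroup M''] [Module B M'']
  (f : M' →ₗ[B] M) (g : M →ₗ[B] M'')

theorem T0map_injective (hf : Injective f) : Injective (T0map P f) := by
  intro x y h
  apply Subtype.ext
  have h' : f ∘ₗ (x : L0 P →ₗ[B] M') = f ∘ₗ (y : L0 P →ₗ[B] M') := congrArg Subtype.val h
  exact (LinearMap.cancel_left hf).1 h'

theorem T0_exact (hf : Injective f) (hfg : Exact f g) : Exact (T0map P f) (T0map P g) := by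
  intro y
  constructor
  · intro h
    have h' : g ∘ₗ (y : L0 P →ₗ[B] M) = 0 := congrArg Subtype.val h
    obtain ⟨ψ, hψ⟩ := exists_factor f g hf hfg _ h'
    have hmem : ψ ∈ LinearMap.ker (d1Star P M') := by
      rw [LinearMap.mem_ker, d1Star_apply]
      apply (LinearMap.cancel_left hf).1
      rw [← LinearMap.comp_assoc, hψ, LinearMap.comp_zero]
      have h2 := y.2
      rw [LinearMap.mem_ker, d1Star_apply] at h2
      exact h2
    exact ⟨⟨ψ, hmem⟩, Subtype.ext hψ⟩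
  · rintro ⟨x, rfl⟩
    apply Subtype.ext
    show g ∘ₗ (f ∘ₗ (x : L0 P →ₗ[B] M')) = 0
    rw [← LinearMap.comp_assoc, comp_eq_zero_of_exact f g hfg, LinearMap.zero_comp]

theorem exact_cocycles1Map (hf : Injective f) (hfg : Exact f g) :
    Exact (cocycles1Map P f) (cocycles1Map P g) := by
  intro c
  constructor
  · intro h
    have h' : g ∘ₗ (c : L1 P →ₗ[B] M) = 0 := congrArg Subtype.val h
    obtain ⟨c', hc'⟩ := exists_factor f g hf hfg _ h'
    have hc'mem : c' ∈ cocycles1 P M' := by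
      rw [LinearMap.mem_ker, d2Star_apply]
      apply (LinearMap.cancel_left hf).1
      rw [← LinearMap.comp_assoc, hc', LinearMap.comp_zero]
      have h2 := c.2
      rw [LinearMap.mem_ker, d2Star_apply] at h2
      exact h2
    exact ⟨⟨c', hc'mem⟩, Subtype.ext hc'⟩
  · rintro ⟨c', rfl⟩
    apply Subtype.ext
    show g ∘ₗ (f ∘ₗ (c' : L1 P →ₗ[B] M')) = 0
    rw [← LinearMap.comp_assoc, comp_eq_zero_of_exact f g hfg, LinearMap.zero_comp]

theorem T1_exact (hf : Injective f) (hg : Surjective g) (hfg : Exact f g) :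
    Exact (T1map P f) (T1map P g) := by
  haveI := free_L0 P
  intro y
  obtain ⟨c, rfl⟩ := Submodule.Quotient.mk_surjective _ y
  constructor
  · intro h
    have h1 : (Submodule.Quotient.mk (cocycles1Map P g c) : T1 P M'') = 0 := h
    rw [Submodule.Quotient.mk_eq_zero] at h1
    obtain ⟨ψ, hψ⟩ := h1
    have hψ' : ψ ∘ₗ d1 P = g ∘ₗ (c : L1 P →ₗ[B] M) := hψ
    obtain ⟨ψ', hψ'2⟩ := exists_lift g hg ψ
    have he : g ∘ₗ ((c : L1 P →ₗ[B] M) - ψ' ∘ₗ d1 P) = 0 := by
      rw [LinearMap.comp_sub, ← LinearMap.comp_assoc, hψ'2, hψ', sub_self]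
    obtain ⟨c', hc'⟩ := exists_factor f g hf hfg _ he
    have hc'mem : c' ∈ cocycles1 P M' := by
      rw [LinearMap.mem_ker, d2Star_apply]
      apply (LinearMap.cancel_left hf).1
      rw [← LinearMap.comp_assoc, hc', LinearMap.comp_zero, LinearMap.sub_comp,
        LinearMap.comp_assoc, d1_comp_d2, LinearMap.comp_zero, sub_zero]
      have h2 := c.2
      rw [LinearMap.mem_ker, d2Star_apply] at h2
      exact h2
    refine ⟨Submodule.Quotient.mk ⟨c', hc'mem⟩, ?_⟩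
    show (Submodule.Quotient.mk (cocycles1Map P f ⟨c', hc'mem⟩) : T1 P M) = Submodule.Quotient.mk c
    rw [Submodule.Quotient.eq]
    refine ⟨-ψ', ?_⟩
    show (-ψ') ∘ₗ d1 P = f ∘ₗ c' - (c : L1 P →ₗ[B] M)
    rw [hc', LinearMap.neg_comp]
    abel
  · rintro ⟨x, hx⟩
    obtain ⟨c', rfl⟩ := Submodule.Quotient.mk_surjective _ x
    rw [← hx]
    show (Submodule.Quotient.mk (cocycles1Map P g (cocycles1Map P f c')) : T1 P M'') = 0
    have h0 : cocycles1Map P g (cocycles1Map P f c') = 0 := by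
      apply Subtype.ext
      show g ∘ₗ (f ∘ₗ (c' : L1 P →ₗ[B] M')) = 0
      rw [← LinearMap.comp_assoc, comp_eq_zero_of_exact f g hfg, LinearMap.zero_comp]
    rw [h0, Submodule.Quotient.mk_zero]

theorem exact_mapQ_abstract {L₂ L₁ : Type*} [AddCommGroup L₂] [Module B L₂] [AddCommGroup L₁]
    [Module B L₁] [Module.Projective B L₁] (d : L₂ →ₗ[B] L₁)
    (hf : Injective f) (hg : Surjective g) (hfg : Exact f g)
    (h1 : LinearMap.range (LinearMap.lcomp B M' d) ≤
      (LinearMap.range (LinearMap.lcomp B M d)).comap (LinearMap.llcomp B L₂ M' M f))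
    (h2 : LinearMap.range (LinearMap.lcomp B M d) ≤
      (LinearMap.range (LinearMap.lcomp B M'' d)).comap (LinearMap.llcomp B L₂ M M'' g)) :
    Exact (Submodule.mapQ _ _ (LinearMap.llcomp B L₂ M' M f) h1)
      (Submodule.mapQ _ _ (LinearMap.llcomp B L₂ M M'' g) h2) := by
  intro y
  obtain ⟨θ, rfl⟩ := Submodule.Quotient.mk_surjective _ y
  constructor
  · intro h
    have h1' : (Submodule.Quotient.mk (g ∘ₗ θ) :
        (L₂ →ₗ[B] M'') ⧸ LinearMap.range (LinearMap.lcomp B M'' d)) = 0 := h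
    rw [Submodule.Quotient.mk_eq_zero] at h1'
    obtain ⟨φ, hφ⟩ := h1'
    have hφ' : φ ∘ₗ d = g ∘ₗ θ := hφ
    obtain ⟨φ', hφ'2⟩ := exists_lift g hg φ
    have he : g ∘ₗ (θ - φ' ∘ₗ d) = 0 := by
      rw [LinearMap.comp_sub, ← LinearMap.comp_assoc, hφ'2, hφ', sub_self]
    obtain ⟨θ', hθ'⟩ := exists_factor f g hf hfg _ he
    refine ⟨Submodule.Quotient.mk θ', ?_⟩
    show (Submodule.Quotient.mk (f ∘ₗ θ') :
      (L₂ →ₗ[B] M) ⧸ LinearMap.range (LinearMap.lcomp B M d)) = Submodule.Quotient.mk θ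
    rw [Submodule.Quotient.eq]
    refine ⟨-φ', ?_⟩
    show (-φ') ∘ₗ d = f ∘ₗ θ' - θ
    rw [hθ', LinearMap.neg_comp]
    abel
  · rintro ⟨x, hx⟩
    obtain ⟨θ', rfl⟩ := Submodule.Quotient.mk_surjective _ x
    rw [← hx]
    show (Submodule.Quotient.mk (g ∘ₗ (f ∘ₗ θ')) :
      (L₂ →ₗ[B] M'') ⧸ LinearMap.range (LinearMap.lcomp B M'' d)) = 0
    rw [← LinearMap.comp_assoc, comp_eq_zero_of_exact f g hfg, LinearMap.zero_comp,
      Submodule.Quotient.mk_zero]

theorem T2_exact (hf : Injective f) (hg : Surjective g) (hfg : Exact f g) :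
    Exact (T2map P f) (T2map P g) := by
  haveI := free_L1 P
  exact exact_mapQ_abstract f g (d2 P) hf hg hfg _ _

theorem exact_q1Map (hf : Injective f) (hg : Surjective g) (hfg : Exact f g) :
    Exact (q1Map P f) (q1Map P g) := by
  haveI := free_L0 P
  intro y
  obtain ⟨c, rfl⟩ := Submodule.Quotient.mk_surjective _ y
  constructor
  · intro h
    have h1 : (Submodule.Quotient.mk (g ∘ₗ c) : Q1 P M'') = 0 := h
    rw [Submodule.Quotient.mk_eq_zero] at h1
    obtain ⟨ψ, hψ⟩ := h1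
    have hψ' : ψ ∘ₗ d1 P = g ∘ₗ c := hψ
    obtain ⟨ψ', hψ'2⟩ := exists_lift g hg ψ
    have he : g ∘ₗ (c - ψ' ∘ₗ d1 P) = 0 := by
      rw [LinearMap.comp_sub, ← LinearMap.comp_assoc, hψ'2, hψ', sub_self]
    obtain ⟨c', hc'⟩ := exists_factor f g hf hfg _ he
    refine ⟨Submodule.Quotient.mk c', ?_⟩
    show (Submodule.Quotient.mk (f ∘ₗ c') : Q1 P M) = Submodule.Quotient.mk c
    rw [Submodule.Quotient.eq]
    refine ⟨-ψ', ?_⟩
    show (-ψ') ∘ₗ d1 P = f ∘ₗ c' - c
    rw [hc', LinearMap.neg_comp]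
    abel
  · rintro ⟨x, hx⟩
    obtain ⟨c', rfl⟩ := Submodule.Quotient.mk_surjective _ x
    rw [← hx]
    show (Submodule.Quotient.mk (g ∘ₗ (f ∘ₗ c')) : Q1 P M'') = 0
    rw [← LinearMap.comp_assoc, comp_eq_zero_of_exact f g hfg, LinearMap.zero_comp,
      Submodule.Quotient.mk_zero]

theorem exists_delta0 (hf : Injective f) (hg : Surjective g) (hfg : Exact f g) :
    ∃ δ₀ : T0 P M'' →ₗ[B] T1 P M', Exact (T0map P g) δ₀ ∧ Exact δ₀ (T1map P f) := by
  haveI := free_L0 P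
  have hf₂ : Surjective (pc (L0 P) g) := fun φ => exists_lift g hg φ
  have hg₁ : Injective (cocycles1Map P f) := by
    intro x y h
    apply Subtype.ext
    have h' : f ∘ₗ (x : L1 P →ₗ[B] M') = f ∘ₗ (y : L1 P →ₗ[B] M') := congrArg Subtype.val h
    exact (LinearMap.cancel_left hf).1 h'
  have h₁ : (cocycles1Map P f).comp (toZ1 P M') =
      (toZ1 P M).comp (pc (L0 P) f) := LinearMap.ext fun φ => rfl
  have h₂ : (cocycles1Map P g).comp (toZ1 P M) =
      (toZ1 P M'').comp (pc (L0 P) g) := LinearMap.ext fun φ => rfl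
  refine ⟨SnakeLemma.δ' (toZ1 P M') (toZ1 P M) (toZ1 P M'')
    (pc (L0 P) f) (pc (L0 P) g)
    (exact_llcomp f g hf hfg) (cocycles1Map P f) (cocycles1Map P g)
    (exact_cocycles1Map P f g hf hfg) h₁ h₂ (LinearMap.ker (d1Star P M'')).subtype
    (exact_subtype_toZ1 P M'') (coboundaries1 P M').mkQ (exact_toZ1_mkQ P M') hf₂ hg₁, ?_, ?_⟩
  · exact SnakeLemma.exact_δ'_right _ _ _ _ _ _ _ _ _ _ _ (LinearMap.ker (d1Star P M)).subtype
      (exact_subtype_toZ1 P M) _ _ _ _ hf₂ hg₁ (T0map P g) (LinearMap.ext fun x => rfl)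
      Subtype.val_injective
  · exact SnakeLemma.exact_δ'_left _ _ _ _ _ _ _ _ _ _ _ _ _ _ _ (coboundaries1 P M).mkQ
      (exact_toZ1_mkQ P M) hf₂ hg₁ (T1map P f) (LinearMap.ext fun x => rfl)
      (Submodule.mkQ_surjective _)

theorem exists_delta1 (hf : Injective f) (hg : Surjective g) (hfg : Exact f g) :
    ∃ δ₁ : T1 P M'' →ₗ[B] T2 P M', Exact (T1map P g) δ₁ ∧ Exact δ₁ (T2map P f) := by
  haveI := free_L1 P
  have hf₂ : Surjective (q1Map P g) := by
    intro y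
    obtain ⟨c, rfl⟩ := Submodule.Quotient.mk_surjective _ y
    obtain ⟨c', hc'⟩ := exists_lift g hg c
    refine ⟨Submodule.Quotient.mk c', ?_⟩
    show (Submodule.Quotient.mk (g ∘ₗ c') : Q1 P M'') = _
    rw [hc']
  have hg₁ : Injective (pc (L2 P) f) :=
    fun x y h => (LinearMap.cancel_left hf).1 h
  have h₁ : (pc (L2 P) f).comp (q1ToH2 P M') =
      (q1ToH2 P M).comp (q1Map P f) :=
    Submodule.linearMap_qext _ (LinearMap.ext fun c => rfl)
  have h₂ : (pc (L2 P) g).comp (q1ToH2 P M) =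
      (q1ToH2 P M'').comp (q1Map P g) :=
    Submodule.linearMap_qext _ (LinearMap.ext fun c => rfl)
  refine ⟨SnakeLemma.δ' (q1ToH2 P M') (q1ToH2 P M) (q1ToH2 P M'') (q1Map P f) (q1Map P g)
    (exact_q1Map P f g hf hg hfg) (pc (L2 P) f)
    (pc (L2 P) g) (exact_llcomp f g hf hfg) h₁ h₂ (t1ToQ1 P M'')
    (exact_t1ToQ1 P M'') (LinearMap.range (d2Star P M')).mkQ (exact_q1ToH2_mkQ P M') hf₂ hg₁,
    ?_, ?_⟩
  · exact SnakeLemma.exact_δ'_right _ _ _ _ _ _ _ _ _ _ _ (t1ToQ1 P M) (exact_t1ToQ1 P M)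
      _ _ _ _ hf₂ hg₁ (T1map P g) (Submodule.linearMap_qext _ (LinearMap.ext fun c => rfl))
      (t1ToQ1_injective P M'')
  · exact SnakeLemma.exact_δ'_left _ _ _ _ _ _ _ _ _ _ _ _ _ _ _
      (LinearMap.range (d2Star P M)).mkQ (exact_q1ToH2_mkQ P M) hf₂ hg₁ (T2map P f)
      (LinearMap.ext fun x => rfl) (Submodule.mkQ_surjective _)

end Main

end Groth.Agent.Lib.CotTH1
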