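import Mathlib
import Groth.Prelude.Def_CotT2
import Groth.Agent.Lib.CotTLCI_helper1
import Groth.Agent.Lib.RegLocusFT_helper3
import Groth.Agent.Lib.SmoothRegHom_helper3
import Groth.Agent.Lib.Regular3_helper5

/-!
# Smooth algebras over a field: vanishing of `T¹` and `T²` (helper1)
APPEND-ONLY once landed.
-/

set_option autoImplicit false

namespace Groth.Agent.Lib.CotTSmH1

open TensorProduct CotT MvPolynomial IsLocalRing

universe u w

section Syz

variable {S : Type*} [CommRing S] {σ : Type*} (g : σ → S)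

/-- the map `j : S^(σ) → S`, `e_i ↦ g i`. -/
noncomputable def jm : (σ →₀ S) →ₗ[S] S := Finsupp.linearCombination S g

theorem jm_single (i : σ) (x : S) : jm g (Finsupp.single i x) = x * g i := by
  simp [jm, Finsupp.linearCombination_single]

/-- the Koszul (trivial) relations. -/
noncomputable def F0 : Submodule S (σ →₀ S) :=
  Submodule.span S {y | ∃ a b : σ →₀ S, y = jm g a • b - jm g b • a}

/-- relations with coefficients in the ideal are trivial. -/
def Syz : Prop :=
  ∀ q : σ →₀ S, jm g q = 0 →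
    q ∈ Ideal.span (Set.range g) • (⊤ : Submodule S (σ →₀ S)) → q ∈ F0 g

variable {S' : Type*} [CommRing S'] (θ : S →+* S')

/-- coefficientwise application of a ring hom. -/
noncomputable def Φ : (σ →₀ S) →+ (σ →₀ S') := Finsupp.mapRange.addMonoidHom θ.toAddMonoidHom

theorem Φ_apply (x : σ →₀ S) (i : σ) : Φ θ x i = θ (x i) := rfl

theorem Φ_single (i : σ) (x : S) : Φ θ (Finsupp.single i x) = Finsupp.single i (θ x) := by
  classical
  ext j
  rw [Φ_apply, Finsupp.single_apply, Finsupp.single_apply]
  split_ifs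
  · rfl
  · exact map_zero θ

theorem Φ_smul (r : S) (x : σ →₀ S) : Φ θ (r • x) = θ r • Φ θ x := by
  ext i
  rw [Φ_apply, Finsupp.smul_apply, Finsupp.smul_apply, Φ_apply, smul_eq_mul, smul_eq_mul, map_mul]

theorem jm_Φ (x : σ →₀ S) : jm (fun i => θ (g i)) (Φ θ x) = θ (jm g x) := by
  induction x using Finsupp.induction_linear with
  | zero => rw [map_zero, map_zero, map_zero, map_zero]
  | add a b ha hb => rw [map_add, map_add, ha, hb, map_add, map_add]
  | single i x => rw [Φ_single, jm_single, jm_single, map_mul]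

theorem Φ_mem_F0 {y : σ →₀ S} (hy : y ∈ F0 g) : Φ θ y ∈ F0 (fun i => θ (g i)) := by
  unfold F0 at hy
  induction hy using Submodule.span_induction with
  | mem y hy =>
    obtain ⟨a, b, rfl⟩ := hy
    rw [map_sub, Φ_smul, Φ_smul, ← jm_Φ, ← jm_Φ]
    exact Submodule.subset_span ⟨_, _, rfl⟩
  | zero =>
    rw [map_zero]
    exact zero_mem _
  | add x y _ _ hx hy =>
    rw [map_add]
    exact add_mem hx hy
  | smul r x _ hx =>
    rw [Φ_smul]
    exact Submodule.smul_mem _ _ hx

theorem Φ_mem_smul_top {y : σ →₀ S}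
    (hy : y ∈ Ideal.span (Set.range g) • (⊤ : Submodule S (σ →₀ S))) :
    Φ θ y ∈ Ideal.span (Set.range fun i => θ (g i)) • (⊤ : Submodule S' (σ →₀ S')) := by
  refine Submodule.smul_induction_on hy ?_ ?_
  · intro r hr x _
    rw [Φ_smul]
    refine Submodule.smul_mem_smul ?_ trivial
    have h1 : θ r ∈ Ideal.map θ (Ideal.span (Set.range g)) := Ideal.mem_map_of_mem θ hr
    rw [Ideal.map_span, ← Set.range_comp] at h1
    exact h1
  · intro x y hx hy
    rw [map_add]
    exact add_mem hx hy

theorem syz_of_retract (θ' : S' →+* S) (h : ∀ x, θ' (θ x) = x)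
    (hs : Syz (fun i => θ (g i))) : Syz g := by
  intro q hq hqJ
  have h1 : Φ θ q ∈ F0 (fun i => θ (g i)) :=
    hs _ (by rw [jm_Φ, hq, map_zero]) (Φ_mem_smul_top g θ hqJ)
  have h2 := Φ_mem_F0 (fun i => θ (g i)) θ' h1
  have h3 : Φ θ' (Φ θ q) = q := by
    ext i
    rw [Φ_apply, Φ_apply, h]
  have h4 : (fun i => θ' (θ (g i))) = g := funext fun i => h _
  rw [h3, h4] at h2
  exact h2

section Loc

variable (m : Ideal S) [m.IsPrime]

theorem exists_clear (a : σ →₀ Localization.AtPrime m) :
    ∃ t : S, t ∉ m ∧ ∃ a' : σ →₀ S,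
      algebraMap S (Localization.AtPrime m) t • a =
        Φ (algebraMap S (Localization.AtPrime m)) a' := by
  induction a using Finsupp.induction_linear with
  | zero =>
    refine ⟨1, fun h => (Ideal.IsPrime.ne_top ‹m.IsPrime›) ((Ideal.eq_top_iff_one m).mpr h), 0, ?_⟩
    rw [smul_zero, map_zero]
  | add a b ha hb =>
    obtain ⟨t₁, ht₁, a', ha'⟩ := ha
    obtain ⟨t₂, ht₂, b', hb'⟩ := hb
    refine ⟨t₁ * t₂, fun h => (Ideal.IsPrime.mem_or_mem ‹m.IsPrime› h).elim ht₁ ht₂,
      t₂ • a' + t₁ • b', ?_⟩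
    rw [map_add, Φ_smul, Φ_smul, ← ha', ← hb', map_mul, smul_add, smul_smul, smul_smul,
      mul_comm (algebraMap S (Localization.AtPrime m) t₂)]
  | single i x =>
    obtain ⟨⟨x', u⟩, hxu⟩ := IsLocalization.surj m.primeCompl x
    refine ⟨u, u.2, Finsupp.single i x', ?_⟩
    rw [Φ_single, Finsupp.smul_single, smul_eq_mul, mul_comm]
    exact congrArg _ hxu

theorem exists_clear_F0 {z : σ →₀ Localization.AtPrime m}
    (hz : z ∈ F0 (fun i => algebraMap S (Localization.AtPrime m) (g i))) :
    ∃ t : S, t ∉ m ∧ ∃ y ∈ F0 g,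
      algebraMap S (Localization.AtPrime m) t • z =
        Φ (algebraMap S (Localization.AtPrime m)) y := by
  have hone : (1 : S) ∉ m := fun h =>
    (Ideal.IsPrime.ne_top ‹m.IsPrime›) ((Ideal.eq_top_iff_one m).mpr h)
  unfold F0 at hz
  induction hz using Submodule.span_induction with
  | mem z hz =>
    obtain ⟨a, b, rfl⟩ := hz
    obtain ⟨t₁, ht₁, a', ha'⟩ := exists_clear m a
    obtain ⟨t₂, ht₂, b', hb'⟩ := exists_clear m b
    refine ⟨t₁ * t₂, fun h => (Ideal.IsPrime.mem_or_mem ‹m.IsPrime› h).elim ht₁ ht₂,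
      jm g a' • b' - jm g b' • a', Submodule.subset_span ⟨a', b', rfl⟩, ?_⟩
    rw [map_sub, Φ_smul, Φ_smul, ← jm_Φ, ← jm_Φ, ← ha', ← hb', map_smul, map_smul, smul_eq_mul,
      smul_eq_mul, map_mul, smul_sub, smul_smul, smul_smul, smul_smul, smul_smul]
    congr 2 <;> ring
  | zero =>
    exact ⟨1, hone, 0, zero_mem _, by rw [smul_zero, map_zero]⟩
  | add x y _ _ hx hy =>
    obtain ⟨t₁, ht₁, y₁, hy₁, e₁⟩ := hx
    obtain ⟨t₂, ht₂, y₂, hy₂, e₂⟩ := hy
    refine ⟨t₁ * t₂, fun h => (Ideal.IsPrime.mem_or_mem ‹m.IsPrime› h).elim ht₁ ht₂,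
      t₂ • y₁ + t₁ • y₂,
      add_mem (Submodule.smul_mem _ _ hy₁) (Submodule.smul_mem _ _ hy₂), ?_⟩
    rw [map_add, Φ_smul, Φ_smul, ← e₁, ← e₂, map_mul, smul_add, smul_smul, smul_smul,
      mul_comm (algebraMap S (Localization.AtPrime m) t₂)]
  | smul r x _ hx =>
    obtain ⟨t, ht, y, hy, e⟩ := hx
    obtain ⟨⟨r', u⟩, hru⟩ := IsLocalization.surj m.primeCompl r
    refine ⟨u * t, fun h => (Ideal.IsPrime.mem_or_mem ‹m.IsPrime› h).elim u.2 ht,
      r' • y, Submodule.smul_mem _ _ hy, ?_⟩
    have hru' : r * algebraMap S (Localization.AtPrime m) u =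
        algebraMap S (Localization.AtPrime m) r' := hru
    rw [Φ_smul, ← e, ← hru', map_mul, smul_smul, smul_smul]
    congr 1
    ring

theorem exists_smul_eq_zero {x : σ →₀ S}
    (hx : Φ (algebraMap S (Localization.AtPrime m)) x = 0) :
    ∃ u : S, u ∉ m ∧ u • x = 0 := by
  classical
  have h : ∀ i, ∃ u : m.primeCompl, (u : S) * x i = 0 := by
    intro i
    have hi : algebraMap S (Localization.AtPrime m) (x i) = 0 := by
      have h1 := DFunLike.congr_fun hx i
      rw [Φ_apply] at h1
      exact h1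
    exact (IsLocalization.map_eq_zero_iff m.primeCompl _ _).mp hi
  choose u hu using h
  refine ⟨∏ i ∈ x.support, (u i : S), ?_, ?_⟩
  · have h1 : (∏ i ∈ x.support, (u i : S)) ∈ m.primeCompl :=
      Submonoid.prod_mem _ (fun i _ => (u i).2)
    exact h1
  · ext i
    rw [Finsupp.smul_apply, Finsupp.zero_apply, smul_eq_mul]
    by_cases hi : i ∈ x.support
    · rw [← Finset.mul_prod_erase _ _ hi, mul_assoc, mul_comm _ (x i), ← mul_assoc, hu i, zero_mul]
    · rw [Finsupp.notMem_support_iff.mp hi, mul_zero]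

end Loc

theorem syz_of_local
    (h : ∀ (m : Ideal S) [m.IsMaximal],
      Syz (fun i => algebraMap S (Localization.AtPrime m) (g i))) :
    Syz g := by
  intro q hq hqJ
  by_contra hne
  let 𝔞 : Ideal S :=
    { carrier := {s | s • q ∈ F0 g}
      add_mem' := fun {a b} ha hb => by
        show (a + b) • q ∈ F0 g
        rw [add_smul]
        exact add_mem ha hb
      zero_mem' := by
        show (0 : S) • q ∈ F0 g
        rw [zero_smul]
        exact zero_mem _
      smul_mem' := fun c x hx => by
        show (c • x) • q ∈ F0 g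
        rw [smul_eq_mul, mul_smul]
        exact Submodule.smul_mem _ c hx }
  have h𝔞 : 𝔞 ≠ ⊤ := by
    intro htop
    have h0 : (1 : S) ∈ 𝔞 := by
      rw [htop]
      trivial
    have h1 : (1 : S) • q ∈ F0 g := h0
    rw [one_smul] at h1
    exact hne h1
  obtain ⟨m, hm, hle⟩ := Ideal.exists_le_maximal 𝔞 h𝔞
  haveI := hm
  have h1 := h m (Φ (algebraMap S (Localization.AtPrime m)) q)
    (by rw [jm_Φ, hq, map_zero]) (Φ_mem_smul_top g _ hqJ)
  obtain ⟨t, ht, y, hy, e⟩ := exists_clear_F0 g m h1
  have h2 : Φ (algebraMap S (Localization.AtPrime m)) (t • q - y) = 0 := by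
    rw [map_sub, Φ_smul, e, sub_self]
  obtain ⟨u, hu, hu0⟩ := exists_smul_eq_zero m h2
  have h3 : (u * t) • q = u • y := by
    rw [mul_smul]
    rw [smul_sub, sub_eq_zero] at hu0
    exact hu0
  have h4 : u * t ∈ 𝔞 := by
    show (u * t) • q ∈ F0 g
    rw [h3]
    exact Submodule.smul_mem _ _ hy
  exact (hm.isPrime.mem_or_mem (hle h4)).elim hu ht

end Syz

section Gen

theorem exists_one_tmul' {R B N : Type*} [CommRing R] [CommRing B] [Algebra R B] [AddCommMonoid N]
    [Module R N] (hs : Function.Surjective (algebraMap R B)) (w : B ⊗[R] N) :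
    ∃ x : N, (1 : B) ⊗ₜ[R] x = w := by
  induction w using TensorProduct.induction_on with
  | zero => exact ⟨0, by rw [TensorProduct.tmul_zero]⟩
  | tmul b x =>
    obtain ⟨r, rfl⟩ := hs b
    refine ⟨r • x, ?_⟩
    rw [TensorProduct.tmul_smul, TensorProduct.smul_tmul', Algebra.smul_def, mul_one]
  | add x y hx hy =>
    obtain ⟨a, rfl⟩ := hx
    obtain ⟨b, rfl⟩ := hy
    exact ⟨a + b, TensorProduct.tmul_add _ _ _⟩

theorem mem_of_one_tmul_mem_range {R B F : Type*} [CommRing R] [CommRing B] [Algebra R B]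
    [AddCommGroup F] [Module R F] (Q : Submodule R F) (T : Submodule R Q)
    (hs : Function.Surjective (algebraMap R B))
    (hIQ : RingHom.ker (algebraMap R B) • (⊤ : Submodule R Q) ≤ T) (q : Q)
    (hq : (1 : B) ⊗ₜ[R] q ∈ LinearMap.range (T.subtype.baseChange B)) : q ∈ T := by
  obtain ⟨w, hw⟩ := hq
  have hcomp : ∀ w : B ⊗[R] T, (T.mkQ.baseChange B) ((T.subtype.baseChange B) w) = 0 := by
    intro w
    induction w using TensorProduct.induction_on with
    | zero => rw [map_zero, map_zero]
    | add x y hx hy => rw [map_add, map_add, hx, hy, add_zero]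
    | tmul b t =>
      rw [LinearMap.baseChange_tmul, LinearMap.baseChange_tmul, Submodule.subtype_apply,
        Submodule.mkQ_apply, (Submodule.Quotient.mk_eq_zero T).mpr t.2, TensorProduct.tmul_zero]
  have h1 : (T.mkQ.baseChange B) ((1 : B) ⊗ₜ[R] q) = 0 := by
    rw [← hw]
    exact hcomp w
  rw [LinearMap.baseChange_tmul] at h1
  have h2 := Groth.Agent.Lib.CotTLCIH1.mem_smul_top_of_one_tmul_eq_zero hs _ h1
  have h3 : (RingHom.ker (algebraMap R B) • (⊤ : Submodule R (Q ⧸ T))) =
      Submodule.map T.mkQ (RingHom.ker (algebraMap R B) • (⊤ : Submodule R Q)) := by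
    rw [Submodule.map_smul'', Submodule.map_top, Submodule.range_mkQ]
  rw [h3] at h2
  obtain ⟨q', hq', e⟩ := h2
  have h4 : q' - q ∈ T := (Submodule.Quotient.eq T).mp e
  have h5 : q = q' - (q' - q) := by abel
  rw [h5]
  exact sub_mem (hIQ hq') h4

end Gen

section Pres

variable {A B : Type u} [CommRing A] [CommRing B] [Algebra A B] {ι σ : Type w}
  (P : Algebra.Presentation A B ι σ)

theorem ker_eq_span : RingHom.ker (algebraMap P.toExtension.Ring B) =
    Ideal.span (Set.range (rel P)) :=
  P.span_range_relation_eq_ker.symm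

theorem d2_injective_of_syz (h : Syz (rel P)) : Function.Injective (d2 P) := by
  rw [injective_iff_map_eq_zero]
  intro z hz
  obtain ⟨w, rfl⟩ := Submodule.Quotient.mk_surjective _ z
  obtain ⟨q, rfl⟩ := exists_one_tmul' P.toExtension.algebraMap_surjective w
  rw [d2_mk_tmul] at hz
  have h1 := Groth.Agent.Lib.CotTLCIH1.mem_smul_top_of_one_tmul_eq_zero
    P.toExtension.algebraMap_surjective _ hz
  rw [ker_eq_span] at h1
  have h2 : (q : relMod P) ∈ trivRel P := h _ q.2 h1
  rw [Submodule.Quotient.mk_eq_zero]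
  refine LinearMap.mem_range.mpr ⟨(1 : B) ⊗ₜ ⟨q, h2⟩, ?_⟩
  rw [LinearMap.baseChange_tmul]
  rfl

theorem syz_of_d2_injective (h : Function.Injective (d2 P)) : Syz (rel P) := by
  intro q hq hqJ
  have hq' : q ∈ relKer P := hq
  have h1 : (1 : B) ⊗ₜ[P.toExtension.Ring] q = (0 : L1 P) := by
    refine Submodule.smul_induction_on hqJ ?_ ?_
    · intro a ha x _
      rw [TensorProduct.tmul_smul, TensorProduct.smul_tmul', Algebra.smul_def, mul_one]
      have h0 : algebraMap P.toExtension.Ring B a = 0 := by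
        rw [← ker_eq_span] at ha
        exact ha
      rw [h0, TensorProduct.zero_tmul]
    · intro x y hx hy
      rw [TensorProduct.tmul_add, hx, hy, add_zero]
  have h2 : d2 P (Submodule.Quotient.mk ((1 : B) ⊗ₜ ⟨q, hq'⟩)) = 0 := by
    rw [d2_mk_tmul]
    exact h1
  have h3 := h (h2.trans (map_zero _).symm)
  rw [Submodule.Quotient.mk_eq_zero] at h3
  have hIQ : RingHom.ker (algebraMap P.toExtension.Ring B) •
      (⊤ : Submodule P.toExtension.Ring (relKer P)) ≤ trivRelKer P := by
    rw [Submodule.smul_le]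
    intro a ha x _
    have h4 : a ∈ LinearMap.range (jmap P) := by
      rw [range_jmap]
      exact ha
    obtain ⟨c, rfl⟩ := h4
    show ((jmap P c • x : relKer P) : relMod P) ∈ trivRel P
    have h5 : ((jmap P c • x : relKer P) : relMod P) =
        jmap P c • (x : relMod P) - jmap P (x : relMod P) • c := by
      have hx0 : jmap P (x : relMod P) = 0 := x.2
      rw [hx0, zero_smul, sub_zero]
      rfl
    rw [h5]
    exact Submodule.subset_span ⟨c, x, rfl⟩
  exact mem_of_one_tmul_mem_range (relKer P) (trivRelKer P)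
    P.toExtension.algebraMap_surjective hIQ ⟨q, hq'⟩ h3

theorem d2_injective_of_T2 [Subsingleton (T2 P (L2 P))] : Function.Injective (d2 P) := by
  have h0 : (Submodule.Quotient.mk (LinearMap.id : L2 P →ₗ[B] L2 P) : T2 P (L2 P)) = 0 :=
    Subsingleton.elim _ _
  rw [Submodule.Quotient.mk_eq_zero] at h0
  obtain ⟨ψ, hψ⟩ := h0
  have h1 : ∀ z, ψ (d2 P z) = z := fun z => LinearMap.congr_fun hψ z
  intro x y hxy
  rw [← h1 x, ← h1 y, hxy]

end Pres

section Split

variable {A B : Type u} [CommRing A] [CommRing B] [Algebra A B] {ι σ : Type w}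
  (P : Algebra.Presentation A B ι σ)

theorem T2_subsingleton_of_injective (M : Type*) [AddCommGroup M] [Module B M]
    (hinj : Function.Injective (d2 P)) [Module.Projective B P.toExtension.Cotangent] :
    Subsingleton (T2 P M) := by
  obtain ⟨s, hs⟩ := Module.projective_lifting_property (toCot P) LinearMap.id
    (Groth.Agent.S12289.toCot_surjective P)
  let π : L1 P →ₗ[B] L1 P := LinearMap.id - s ∘ₗ toCot P
  have hπapp : ∀ x, π x = x - s (toCot P x) := fun x => rfl
  have hπ : ∀ x, π x ∈ LinearMap.range (d2 P) := by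
    intro x
    apply Groth.Agent.S12289.ker_toCot_le_range_d2 P
    rw [LinearMap.mem_ker, hπapp, map_sub]
    have h1 : toCot P (s (toCot P x)) = toCot P x := LinearMap.congr_fun hs (toCot P x)
    rw [h1, sub_self]
  let e := LinearEquiv.ofInjective (d2 P) hinj
  let ρ : L1 P →ₗ[B] L2 P := e.symm.toLinearMap ∘ₗ π.codRestrict (LinearMap.range (d2 P)) hπ
  have hρ : ∀ z, ρ (d2 P z) = z := by
    intro z
    have h1 : π (d2 P z) = d2 P z := by
      rw [hπapp]
      have h2 : toCot P (d2 P z) = 0 := LinearMap.congr_fun (toCot_comp_d2 P) z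
      rw [h2, map_zero, sub_zero]
    show e.symm (π.codRestrict _ hπ (d2 P z)) = z
    rw [LinearEquiv.symm_apply_eq]
    apply Subtype.ext
    exact h1
  have h0 : ∀ t : T2 P M, t = 0 := by
    intro t
    obtain ⟨φ, rfl⟩ := Submodule.Quotient.mk_surjective _ t
    rw [Submodule.Quotient.mk_eq_zero]
    refine ⟨φ ∘ₗ ρ, ?_⟩
    apply LinearMap.ext
    intro z
    rw [d2Star_apply, LinearMap.comp_apply, LinearMap.comp_apply, hρ]
  exact ⟨fun x y => by rw [h0 x, h0 y]⟩

end Split

section WReg

set_option backward.isDefEq.respectTransparency false in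
theorem syz_of_weaklyRegular {S : Type u} [CommRing S] {r : ℕ} (g : Fin r → S) (rs : List S)
    (hrs : Ideal.ofList rs = Ideal.span (Set.range g))
    (hw : RingTheory.Sequence.IsWeaklyRegular S rs) : Syz g := by
  have hs : Function.Surjective (algebraMap S (S ⧸ Ideal.span (Set.range g))) :=
    Ideal.Quotient.mk_surjective
  have hker : RingHom.ker (algebraMap S (S ⧸ Ideal.span (Set.range g))) =
      Ideal.span (Set.range g) := by
    rw [Ideal.Quotient.algebraMap_eq, Ideal.mk_ker]
  have hker' : RingHom.ker (algebraMap S (S ⧸ Ideal.span (Set.range g))) = Ideal.ofList rs := by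
    rw [hrs]
    exact hker
  have hT : ∀ (M : Type u) [AddCommGroup M] [Module (S ⧸ Ideal.span (Set.range g)) M],
      Subsingleton (T2 (Groth.Agent.Lib.CotTLCIH1.Pfn S (S ⧸ Ideal.span (Set.range g)) hs g hker)
        M) := by
    intro M _ _
    haveI : Subsingleton (T2 (Groth.Agent.Lib.T2VanH1.Prs S (S ⧸ Ideal.span (Set.range g)) hs rs
        hker') M) :=
      Groth.Agent.Lib.T2VanH1.T2_subsingleton_of_le _ M
        (Groth.Agent.Lib.T2VanH1.relKer_le_trivRel S (S ⧸ Ideal.span (Set.range g)) hs rs hker' hw)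
    exact (Groth.Agent.Lib.T2IndepH1.T2_indep M
      (Groth.Agent.Lib.T2VanH1.Prs S (S ⧸ Ideal.span (Set.range g)) hs rs hker')
      (Groth.Agent.Lib.CotTLCIH1.Pfn S (S ⧸ Ideal.span (Set.range g)) hs g hker)).elim
        fun e => e.symm.toEquiv.subsingleton
  haveI := hT (L2 (Groth.Agent.Lib.CotTLCIH1.Pfn S (S ⧸ Ideal.span (Set.range g)) hs g hker))
  have hinj := d2_injective_of_T2
    (Groth.Agent.Lib.CotTLCIH1.Pfn S (S ⧸ Ideal.span (Set.range g)) hs g hker)
  have hsyz := syz_of_d2_injective _ hinj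
  exact syz_of_retract g (C : S →+* MvPolynomial PEmpty.{1} S) constantCoeff
    (fun x => constantCoeff_C _ x) hsyz

end WReg

section FT

theorem regular_quot (k : Type u) [Field k] (n : ℕ) (m : Ideal (MvPolynomial (Fin n) k))
    [m.IsMaximal] (J : Ideal (MvPolynomial (Fin n) k))
    [Algebra.FormallySmooth k (MvPolynomial (Fin n) k ⧸ J)]
    [IsLocalRing (Localization.AtPrime m ⧸
      J.map (algebraMap (MvPolynomial (Fin n) k) (Localization.AtPrime m)))] :
    IsRegularLocalRing (Localization.AtPrime m ⧸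
      J.map (algebraMap (MvPolynomial (Fin n) k) (Localization.AtPrime m))) := by
  letI : Algebra k (Localization.AtPrime m ⧸
      J.map (algebraMap (MvPolynomial (Fin n) k) (Localization.AtPrime m))) :=
    Algebra.compHom _ (algebraMap k (MvPolynomial (Fin n) k ⧸ J))
  haveI := IsScalarTower.of_algebraMap_eq (R := k) (S := MvPolynomial (Fin n) k ⧸ J)
    (A := Localization.AtPrime m ⧸
      J.map (algebraMap (MvPolynomial (Fin n) k) (Localization.AtPrime m))) (fun _ => rfl)
  haveI : Algebra.FormallySmooth (MvPolynomial (Fin n) k ⧸ J) (Localization.AtPrime m ⧸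
      J.map (algebraMap (MvPolynomial (Fin n) k) (Localization.AtPrime m))) :=
    Algebra.FormallySmooth.of_isLocalization
      (Algebra.algebraMapSubmonoid (MvPolynomial (Fin n) k ⧸ J) m.primeCompl)
  haveI : Algebra.FormallySmooth k (Localization.AtPrime m ⧸
      J.map (algebraMap (MvPolynomial (Fin n) k) (Localization.AtPrime m))) :=
    Algebra.FormallySmooth.comp k (MvPolynomial (Fin n) k ⧸ J) _
  exact Groth.Agent.Lib.SmoothRegFieldH3.regular_of_formallySmooth_field (k := k)

variable (k B : Type u) [Field k] [CommRing B] [Algebra k B] (n : ℕ)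
  (φ : MvPolynomial (Fin n) k →ₐ[k] B) (hφ : Function.Surjective φ) {r : ℕ}
  (g : Fin r → MvPolynomial (Fin n) k) (hg : Ideal.span (Set.range g) = RingHom.ker φ)

theorem aeval_φX (x : MvPolynomial (Fin n) k) : aeval (fun i => φ (X i)) x = φ x := by
  have h : (aeval (fun i => φ (X i)) : MvPolynomial (Fin n) k →ₐ[k] B) = φ := by
    apply MvPolynomial.algHom_ext
    intro i
    rw [aeval_X]
  exact DFunLike.congr_fun h x

/-- the presentation of `B` given by a surjection from a polynomial ring and generators of the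
kernel. -/
noncomputable def Pft : Algebra.Presentation k B (Fin n) (Fin r) where
  __ := Algebra.Generators.ofSurjective (fun i => φ (X i)) (fun b => by
    obtain ⟨x, rfl⟩ := hφ b
    exact ⟨x, aeval_φX k B n φ x⟩)
  relation := g
  span_range_relation_eq_ker := by
    rw [hg]
    ext x
    rw [Algebra.Generators.ker_eq_ker_aeval_val, RingHom.mem_ker, RingHom.mem_ker]
    change φ x = 0 ↔ aeval (fun i => φ (X i)) x = 0
    rw [aeval_φX]

include hφ hg in
theorem syz_of_formallySmooth [Algebra.FormallySmooth k B] : Syz g := by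
  apply syz_of_local
  intro m hm
  have hJm : Ideal.span (Set.range fun i =>
      algebraMap (MvPolynomial (Fin n) k) (Localization.AtPrime m) (g i)) =
      (Ideal.span (Set.range g)).map
        (algebraMap (MvPolynomial (Fin n) k) (Localization.AtPrime m)) := by
    rw [Ideal.map_span, ← Set.range_comp]
    rfl
  by_cases hle : Ideal.span (Set.range g) ≤ m
  · haveI : IsRegularRing (MvPolynomial (Fin n) k) :=
      Groth.Agent.Lib.SmoothRegHomH3.isRegularRing_of_formallySmooth_field k _
    haveI : IsRegularLocalRing (Localization.AtPrime m) := isRegularRing_iff.mp inferInstance m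
    have hJm_le : (Ideal.span (Set.range g)).map
        (algebraMap (MvPolynomial (Fin n) k) (Localization.AtPrime m)) ≤
        maximalIdeal (Localization.AtPrime m) := by
      rw [← IsLocalization.AtPrime.map_eq_maximalIdeal m (Localization.AtPrime m)]
      exact Ideal.map_mono hle
    haveI : Nontrivial (Localization.AtPrime m ⧸ (Ideal.span (Set.range g)).map
        (algebraMap (MvPolynomial (Fin n) k) (Localization.AtPrime m))) :=
      Ideal.Quotient.nontrivial_iff.mpr (fun h =>
        (IsLocalRing.maximalIdeal.isMaximal (Localization.AtPrime m)).ne_top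
          (top_le_iff.mp (h ▸ hJm_le)))
    haveI : IsLocalRing (Localization.AtPrime m ⧸ (Ideal.span (Set.range g)).map
        (algebraMap (MvPolynomial (Fin n) k) (Localization.AtPrime m))) :=
      IsLocalRing.of_surjective' (Ideal.Quotient.mk _) Ideal.Quotient.mk_surjective
    haveI : Algebra.FormallySmooth k (MvPolynomial (Fin n) k ⧸ Ideal.span (Set.range g)) :=
      Algebra.FormallySmooth.of_equiv
        ((Ideal.quotientEquivAlgOfEq k hg).trans
          (Ideal.quotientKerAlgEquivOfSurjective hφ)).symm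
    haveI : IsRegularLocalRing (Localization.AtPrime m ⧸ (Ideal.span (Set.range g)).map
        (algebraMap (MvPolynomial (Fin n) k) (Localization.AtPrime m))) :=
      regular_quot k n m _
    obtain ⟨rs, hreg, hrs⟩ := Groth.Agent.RegularLib.exists_isRegular (Localization.AtPrime m)
      ((Ideal.span (Set.range g)).map
        (algebraMap (MvPolynomial (Fin n) k) (Localization.AtPrime m)))
    exact syz_of_weaklyRegular _ rs (hrs.trans hJm.symm) hreg.toIsWeaklyRegular
  · have htop : (Ideal.span (Set.range g)).map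
        (algebraMap (MvPolynomial (Fin n) k) (Localization.AtPrime m)) = ⊤ := by
      obtain ⟨x, hxJ, hxm⟩ := Set.not_subset.mp hle
      exact Ideal.eq_top_of_isUnit_mem _ (Ideal.mem_map_of_mem _ hxJ)
        (IsLocalization.map_units (Localization.AtPrime m) (⟨x, hxm⟩ : m.primeCompl))
    refine syz_of_weaklyRegular _ [1] ?_ ?_
    · rw [hJm, htop, Ideal.ofList_singleton, Ideal.span_singleton_one]
    · rw [RingTheory.Sequence.isWeaklyRegular_singleton_iff]
      exact IsSMulRegular.one _

theorem T2_of_formallySmooth [Algebra.FiniteType k B] [Algebra.FormallySmooth k B]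
    (M : Type u) [AddCommGroup M] [Module B M] : Subsingleton (T2 (canon k B) M) := by
  obtain ⟨n, φ, hφ⟩ := Algebra.FiniteType.iff_quotient_mvPolynomial''.mp
    (inferInstance : Algebra.FiniteType k B)
  obtain ⟨r, g, hg⟩ := Submodule.fg_iff_exists_fin_generating_family.mp
    (IsNoetherian.noetherian (RingHom.ker φ))
  have hsyz : Syz g := syz_of_formallySmooth k B n φ hφ g hg
  have hinj : Function.Injective (d2 (Pft k B n φ hφ g hg)) :=
    d2_injective_of_syz (Pft k B n φ hφ g hg) hsyz
  haveI : Algebra.FormallySmooth k (Pft k B n φ hφ g hg).toExtension.Ring :=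
    inferInstanceAs (Algebra.FormallySmooth k (MvPolynomial (Fin n) k))
  obtain ⟨l, hl⟩ := (Algebra.Extension.formallySmooth_iff_split_injection
    (Pft k B n φ hφ g hg).toExtension).mp inferInstance
  haveI : Module.Free B (Pft k B n φ hφ g hg).toExtension.CotangentSpace :=
    Module.Free.of_basis (Pft k B n φ hφ g hg).cotangentSpaceBasis
  haveI : Module.Projective B (Pft k B n φ hφ g hg).toExtension.Cotangent :=
    Module.Projective.of_split (Pft k B n φ hφ g hg).toExtension.cotangentComplex l hl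
  haveI := T2_subsingleton_of_injective (Pft k B n φ hφ g hg) M hinj
  exact (Groth.Agent.Lib.T2IndepH1.T2_indep M (canon k B) (Pft k B n φ hφ g hg)).elim
    fun e => e.toEquiv.subsingleton

end FT

section Main

theorem formallySmooth_iff_T1 (k B : Type u) [CommRing k] [CommRing B] [Algebra k B] :
    Algebra.FormallySmooth k B ↔
      ∀ (M : Type u) [AddCommGroup M] [Module B M], Subsingleton (T1 (canon k B) M) := by
  haveI : Algebra.FormallySmooth k (canon k B).toExtension.Ring :=
    inferInstanceAs (Algebra.FormallySmooth k (MvPolynomial B k))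
  rw [Algebra.Extension.formallySmooth_iff_split_injection (canon k B).toExtension]
  constructor
  · rintro ⟨l, hl⟩ M _ _
    obtain ⟨e⟩ := Groth.Agent.Lib.T01IndepH1.T1_QE k B B (CanonRels k B) (canon k B) M
    haveI : Subsingleton (Groth.Agent.Lib.T01IndepH1.QE M (canon k B).toExtension) := by
      have h0 : ∀ t : Groth.Agent.Lib.T01IndepH1.QE M (canon k B).toExtension, t = 0 := by
        intro t
        obtain ⟨φ, rfl⟩ := Submodule.Quotient.mk_surjective _ t
        rw [Submodule.Quotient.mk_eq_zero]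
        refine ⟨φ ∘ₗ l, ?_⟩
        rw [LinearMap.lcomp_apply', LinearMap.comp_assoc, hl, LinearMap.comp_id]
      exact ⟨fun x y => by rw [h0 x, h0 y]⟩
    exact e.symm.toEquiv.subsingleton
  · intro h
    obtain ⟨e⟩ := Groth.Agent.Lib.T01IndepH1.T1_QE k B B (CanonRels k B) (canon k B)
      (canon k B).toExtension.Cotangent
    haveI := h (canon k B).toExtension.Cotangent
    haveI : Subsingleton (Groth.Agent.Lib.T01IndepH1.QE (canon k B).toExtension.Cotangent
        (canon k B).toExtension) := e.toEquiv.subsingleton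
    have h0 : (Submodule.Quotient.mk
        (LinearMap.id : (canon k B).toExtension.Cotangent →ₗ[B] (canon k B).toExtension.Cotangent) :
        Groth.Agent.Lib.T01IndepH1.QE (canon k B).toExtension.Cotangent (canon k B).toExtension) =
        0 := Subsingleton.elim _ _
    rw [Submodule.Quotient.mk_eq_zero] at h0
    obtain ⟨l, hl⟩ := h0
    exact ⟨l, hl⟩

theorem regular_iff_formallySmooth (k B : Type u) [Field k] [IsAlgClosed k] [CommRing B]
    [Algebra k B] [Algebra.FiniteType k B] :
    (∀ (p : Ideal B) [p.IsPrime], IsRegularLocalRing (Localization.AtPrime p)) ↔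
      Algebra.FormallySmooth k B := by
  haveI : IsNoetherianRing B := Algebra.FiniteType.isNoetherianRing k B
  haveI : Algebra.FinitePresentation k B :=
    Algebra.FinitePresentation.of_finiteType.mp inferInstance
  constructor
  · intro h
    rw [← Algebra.smoothLocus_eq_univ_iff, Set.eq_univ_iff_forall]
    intro 𝔮
    obtain ⟨f, hf, hfs⟩ := (Groth.Agent.Lib.RegLocusFTH3.regular_iff_exists_formallySmooth k k
      𝔮.asIdeal).mp (h 𝔮.asIdeal)
    exact (Algebra.basicOpen_subset_smoothLocus_iff.mpr hfs) hf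
  · intro h p hp
    haveI : IsRegularRing B :=
      Groth.Agent.Lib.SmoothRegHomH3.isRegularRing_of_formallySmooth_field k B
    exact isRegularRing_iff.mp inferInstance p

theorem main12290 (k B : Type u) [Field k] [IsAlgClosed k] [CommRing B] [Algebra k B]
    [Algebra.FiniteType k B] :
    ((∀ (p : Ideal B) [p.IsPrime], IsRegularLocalRing (Localization.AtPrime p)) ↔
      ∀ (M : Type u) [AddCommGroup M] [Module B M], Subsingleton (CotT.T1 (CotT.canon k B) M)) ∧
    ((∀ (p : Ideal B) [p.IsPrime], IsRegularLocalRing (Localization.AtPrime p)) →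
      ∀ (M : Type u) [AddCommGroup M] [Module B M],
        Subsingleton (CotT.T2 (CotT.canon k B) M)) := by
  have h1 := regular_iff_formallySmooth k B
  have h2 := formallySmooth_iff_T1 k B
  refine ⟨h1.trans h2, fun h M _ _ => ?_⟩
  haveI := h1.mp h
  exact T2_of_formallySmooth k B M

end Main

end Groth.Agent.Lib.CotTSmH1
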