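import Mathlib
import Groth.Prelude.Def_CotT2
import Groth.Agent.Lib.CotTSm_helper1

/-!
# `T²` of a localization vanishes; regular local rings of varieties (helper1)
APPEND-ONLY once landed.
-/

set_option autoImplicit false

namespace Groth.Agent.Lib.CotTLocH1

open TensorProduct CotT MvPolynomial IsLocalRing
open Groth.Agent.Lib.CotTSmH1

universe u

section PolyReg

theorem poly_reg {R' : Type*} [CommRing R'] (J' : Ideal R') (c : R') (a : Polynomial R')
    (h : (Polynomial.C c * Polynomial.X - 1) * a ∈ Ideal.map (Polynomial.C : R' →+* Polynomial R') J') :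
    a ∈ Ideal.map (Polynomial.C : R' →+* Polynomial R') J' := by
  rw [Ideal.mem_map_C_iff] at h ⊢
  intro n
  induction n with
  | zero =>
    have h0 := h 0
    have e : ((Polynomial.C c * Polynomial.X - 1) * a).coeff 0 = - a.coeff 0 := by
      rw [sub_mul, one_mul, Polynomial.coeff_sub, mul_assoc, Polynomial.coeff_C_mul,
        Polynomial.coeff_X_mul_zero, mul_zero, zero_sub]
    rw [e] at h0
    exact neg_mem_iff.mp h0
  | succ n ih =>
    have hn := h (n + 1)
    have e : ((Polynomial.C c * Polynomial.X - 1) * a).coeff (n + 1) =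
        c * a.coeff n - a.coeff (n + 1) := by
      rw [sub_mul, one_mul, Polynomial.coeff_sub, mul_assoc, Polynomial.coeff_C_mul,
        Polynomial.coeff_X_mul]
    rw [e] at hn
    have e2 : a.coeff (n + 1) = c * a.coeff n - (c * a.coeff n - a.coeff (n + 1)) := by ring
    rw [e2]
    exact sub_mem (Ideal.mul_mem_left _ _ ih) hn

end PolyReg

section Loc

variable {A : Type u} [CommRing A] (S : Submonoid A)

/-- the relations `s x_s - 1`. -/
noncomputable def g (s : S) : MvPolynomial S A := C (s : A) * X s - 1

theorem reg_mod (s₀ : S) (T : Set S) (hT : s₀ ∉ T) (a : MvPolynomial S A)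
    (h : g S s₀ * a ∈ Ideal.span (g S '' T)) : a ∈ Ideal.span (g S '' T) := by
  classical
  let e : S ≃ Option {t : S // t ≠ s₀} := (Equiv.optionSubtypeNe s₀).symm
  let Ψ : MvPolynomial S A ≃ₐ[A] Polynomial (MvPolynomial {t : S // t ≠ s₀} A) :=
    (MvPolynomial.renameEquiv A e).trans (MvPolynomial.optionEquivLeft A {t : S // t ≠ s₀})
  let g' : {t : S // t ≠ s₀} → MvPolynomial {t : S // t ≠ s₀} A :=
    fun t => C ((t : S) : A) * X t - 1
  have hΨ : ∀ p, Ψ p = (MvPolynomial.optionEquivLeft A {t : S // t ≠ s₀})
      (MvPolynomial.rename e p) := fun p => rfl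
  have he0 : e s₀ = none := Equiv.optionSubtypeNe_symm_self s₀
  have het : ∀ t : {t : S // t ≠ s₀}, e (t : S) = some t := fun t =>
    Equiv.optionSubtypeNe_symm_of_ne t.2
  have hΨX0 : Ψ (X s₀) = Polynomial.X := by
    rw [hΨ, MvPolynomial.rename_X, he0, MvPolynomial.optionEquivLeft_X_none]
  have hΨX : ∀ t : {t : S // t ≠ s₀}, Ψ (X (t : S)) = Polynomial.C (X t) := by
    intro t
    rw [hΨ, MvPolynomial.rename_X, het, MvPolynomial.optionEquivLeft_X_some]
  have hΨC : ∀ a : A, Ψ (C a) = Polynomial.C (C a) := by
    intro a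
    rw [hΨ, MvPolynomial.rename_C, MvPolynomial.optionEquivLeft_C]
  have hΨg0 : Ψ (g S s₀) = Polynomial.C (C (s₀ : A)) * Polynomial.X - 1 := by
    rw [g, map_sub, map_mul, map_one, hΨC, hΨX0]
  have hΨg : ∀ t : {t : S // t ≠ s₀}, Ψ (g S (t : S)) = Polynomial.C (g' t) := by
    intro t
    show _ = Polynomial.C (C ((t : S) : A) * X t - 1)
    rw [g, map_sub, map_mul, map_one, hΨC, hΨX, map_sub, map_mul, map_one]
  have hmap : Ideal.map Ψ (Ideal.span (g S '' T)) =
      Ideal.map (Polynomial.C : _ →+* Polynomial (MvPolynomial {t : S // t ≠ s₀} A))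
        (Ideal.span (g' '' {t | (t : S) ∈ T})) := by
    rw [Ideal.map_span, Ideal.map_span]
    congr 1
    ext y
    constructor
    · rintro ⟨_, ⟨t, ht, rfl⟩, rfl⟩
      have hne : t ≠ s₀ := fun h => hT (h ▸ ht)
      exact ⟨g' ⟨t, hne⟩, ⟨⟨t, hne⟩, ht, rfl⟩, (hΨg ⟨t, hne⟩).symm⟩
    · rintro ⟨_, ⟨t, ht, rfl⟩, rfl⟩
      exact ⟨g S (t : S), ⟨(t : S), ht, rfl⟩, hΨg t⟩
  have h1 : Ψ (g S s₀ * a) ∈ Ideal.map Ψ (Ideal.span (g S '' T)) := Ideal.mem_map_of_mem Ψ h
  rw [map_mul, hΨg0, hmap] at h1
  have h2 := poly_reg _ _ _ h1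
  rw [← hmap] at h2
  obtain ⟨x, hx, hxa⟩ := (Ideal.mem_map_iff_of_surjective Ψ Ψ.surjective).mp h2
  have : x = a := Ψ.injective hxa
  rw [← this]
  exact hx

theorem rel_trivial : ∀ (n : ℕ) (q : S →₀ MvPolynomial S A), jm (g S) q = 0 →
    q.support.card ≤ n → q ∈ F0 (g S) := by
  classical
  intro n
  induction n with
  | zero =>
    intro q _ hcard
    have h0 : q = 0 := by
      rw [← Finsupp.support_eq_empty]
      exact Finset.card_eq_zero.mp (Nat.le_zero.mp hcard)
    rw [h0]
    exact zero_mem _
  | succ n ih =>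
    intro q hq hcard
    by_cases hq0 : q = 0
    · rw [hq0]
      exact zero_mem _
    obtain ⟨s₀, hs₀⟩ : q.support.Nonempty := Finsupp.support_nonempty_iff.mpr hq0
    have hs₀T : s₀ ∉ (↑(q.support.erase s₀) : Set S) := by
      rw [Finset.mem_coe]
      exact Finset.notMem_erase s₀ _
    have hsum : jm (g S) q = ∑ t ∈ q.support, q t * g S t := by
      rw [jm, Finsupp.linearCombination_apply, Finsupp.sum]
      rfl
    have h1 : g S s₀ * q s₀ ∈ Ideal.span (g S '' (↑(q.support.erase s₀) : Set S)) := by
      have h2 : q s₀ * g S s₀ = - ∑ t ∈ q.support.erase s₀, q t * g S t := by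
        rw [eq_neg_iff_add_eq_zero, Finset.add_sum_erase q.support (fun t => q t * g S t) hs₀,
          ← hsum, hq]
      rw [mul_comm, h2]
      exact neg_mem (Ideal.sum_mem _ fun t ht =>
        Ideal.mul_mem_left _ _ (Ideal.subset_span ⟨t, Finset.mem_coe.mpr ht, rfl⟩))
    have h2 : q s₀ ∈ Submodule.span (MvPolynomial S A) (g S '' (↑(q.support.erase s₀) : Set S)) :=
      reg_mod S s₀ _ hs₀T (q s₀) h1
    obtain ⟨d, hdT, hd⟩ := (Finsupp.mem_span_image_iff_linearCombination _).mp h2
    have hd' : jm (g S) d = q s₀ := hd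
    have hdz : ∀ t, t ∉ (↑(q.support.erase s₀) : Set S) → d t = 0 := by
      intro t ht
      by_contra h
      exact ht ((Finsupp.mem_supported _ _).mp hdT (Finset.mem_coe.mpr (Finsupp.mem_support_iff.mpr h)))
    have hjs : jm (g S) (Finsupp.single s₀ 1) = g S s₀ := by
      rw [jm_single, one_mul]
    have hy : jm (g S) d • (Finsupp.single s₀ 1 : S →₀ MvPolynomial S A) -
        jm (g S) (Finsupp.single s₀ 1) • d ∈ F0 (g S) :=
      Submodule.subset_span ⟨d, Finsupp.single s₀ 1, rfl⟩
    have hjy : jm (g S) (jm (g S) d • (Finsupp.single s₀ 1 : S →₀ MvPolynomial S A) -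
        jm (g S) (Finsupp.single s₀ 1) • d) = 0 := by
      rw [map_sub, map_smul, map_smul, smul_eq_mul, smul_eq_mul, mul_comm, sub_self]
    have hq' : q - (jm (g S) d • (Finsupp.single s₀ 1 : S →₀ MvPolynomial S A) -
        jm (g S) (Finsupp.single s₀ 1) • d) ∈ F0 (g S) := by
      apply ih
      · rw [map_sub, hq, hjy, sub_zero]
      · have hsub : (q - (jm (g S) d • (Finsupp.single s₀ 1 : S →₀ MvPolynomial S A) -
            jm (g S) (Finsupp.single s₀ 1) • d)).support ⊆ q.support.erase s₀ := by
          intro t ht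
          rw [Finsupp.mem_support_iff] at ht
          rw [Finset.mem_erase, Finsupp.mem_support_iff]
          by_cases hts : t = s₀
          · exfalso
            apply ht
            rw [hts, Finsupp.sub_apply, Finsupp.sub_apply, Finsupp.smul_apply, Finsupp.smul_apply,
              Finsupp.single_eq_same, hdz s₀ hs₀T, smul_eq_mul, smul_eq_mul, mul_one, mul_zero,
              sub_zero, hd', sub_self]
          · refine ⟨hts, fun hqt => ht ?_⟩
            have hdt : d t = 0 := hdz t (fun h => by
              have := (Finset.mem_erase.mp (Finset.mem_coe.mp h)).2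
              exact (Finsupp.mem_support_iff.mp this) hqt)
            rw [Finsupp.sub_apply, Finsupp.sub_apply, Finsupp.smul_apply, Finsupp.smul_apply,
              Finsupp.single_eq_of_ne hts, hdt, hqt, smul_eq_mul, smul_eq_mul, mul_zero,
              mul_zero, sub_zero, sub_zero]
        calc _ ≤ (q.support.erase s₀).card := Finset.card_le_card hsub
          _ = q.support.card - 1 := Finset.card_erase_of_mem hs₀
          _ ≤ n := by omega
    have hsplit : q = (q - (jm (g S) d • (Finsupp.single s₀ 1 : S →₀ MvPolynomial S A) -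
        jm (g S) (Finsupp.single s₀ 1) • d)) + (jm (g S) d •
          (Finsupp.single s₀ 1 : S →₀ MvPolynomial S A) - jm (g S) (Finsupp.single s₀ 1) • d) := by
      abel
    rw [hsplit]
    exact add_mem hq' hy

variable (C' : Type u) [CommRing C'] [Algebra A C'] [IsLocalization S C']

/-- the generators `1/s`. -/
noncomputable def val (s : S) : C' := IsLocalization.mk' C' (1 : A) s

theorem aeval_g (s : S) : aeval (val S C') (g S s) = 0 := by
  rw [g, map_sub, map_mul, map_one, aeval_C, aeval_X, val, mul_comm, IsLocalization.mk'_spec,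
    map_one, sub_self]

theorem aeval_surjective : Function.Surjective (aeval (val S C') : MvPolynomial S A →ₐ[A] C') := by
  intro c
  obtain ⟨a, s, rfl⟩ := IsLocalization.exists_mk'_eq S c
  refine ⟨C a * X s, ?_⟩
  rw [map_mul, aeval_C, aeval_X, val, IsLocalization.mul_mk'_eq_mk'_of_mul, mul_one]

theorem exists_clear (p : MvPolynomial S A) :
    ∃ (t : S) (a : A), C (t : A) * p - C a ∈ Ideal.span (Set.range (g S)) := by
  induction p using MvPolynomial.induction_on with
  | C a =>
    refine ⟨1, a, ?_⟩
    rw [Submonoid.coe_one, map_one, one_mul, sub_self]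
    exact zero_mem _
  | add p q hp hq =>
    obtain ⟨t₁, a₁, h₁⟩ := hp
    obtain ⟨t₂, a₂, h₂⟩ := hq
    refine ⟨t₁ * t₂, (t₂ : A) * a₁ + (t₁ : A) * a₂, ?_⟩
    have e : C ((t₁ * t₂ : S) : A) * (p + q) - C ((t₂ : A) * a₁ + (t₁ : A) * a₂) =
        C (t₂ : A) * (C (t₁ : A) * p - C a₁) + C (t₁ : A) * (C (t₂ : A) * q - C a₂) := by
      rw [Submonoid.coe_mul, map_mul, map_add, map_mul, map_mul]
      ring
    rw [e]
    exact add_mem (Ideal.mul_mem_left _ _ h₁) (Ideal.mul_mem_left _ _ h₂)
  | mul_X p s hp =>
    obtain ⟨t, a, h⟩ := hp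
    refine ⟨t * s, a, ?_⟩
    have e : C ((t * s : S) : A) * (p * X s) - C a =
        (C (t : A) * p - C a) * (C (s : A) * X s) + C a * g S s := by
      rw [Submonoid.coe_mul, map_mul, g]
      ring
    rw [e]
    exact add_mem (Ideal.mul_mem_right _ _ h)
      (Ideal.mul_mem_left _ _ (Ideal.subset_span ⟨s, rfl⟩))

theorem ker_le (p : MvPolynomial S A) (hp : aeval (val S C') p = 0) :
    p ∈ Ideal.span (Set.range (g S)) := by
  have hle : ∀ x ∈ Ideal.span (Set.range (g S)), aeval (val S C') x = 0 := by
    intro x hx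
    have : Ideal.span (Set.range (g S)) ≤ RingHom.ker (aeval (val S C') : MvPolynomial S A →ₐ[A] C') := by
      rw [Ideal.span_le]
      rintro _ ⟨s, rfl⟩
      exact aeval_g S C' s
    exact this hx
  obtain ⟨t, a, h⟩ := exists_clear S p
  have h1 := hle _ h
  rw [map_sub, map_mul, hp, mul_zero, zero_sub, neg_eq_zero, aeval_C] at h1
  obtain ⟨u, hu⟩ := (IsLocalization.map_eq_zero_iff S C' a).mp h1
  have h2 : C ((u * t : S) : A) * p ∈ Ideal.span (Set.range (g S)) := by
    have e : C ((u * t : S) : A) * p = C (u : A) * (C (t : A) * p - C a) + C ((u : A) * a) := by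
      rw [Submonoid.coe_mul, map_mul, map_mul]
      ring
    rw [e, hu, map_zero, add_zero]
    exact Ideal.mul_mem_left _ _ h
  have e3 : p = X (u * t) * (C ((u * t : S) : A) * p) - g S (u * t) * p := by
    rw [g]
    ring
  rw [e3]
  exact sub_mem (Ideal.mul_mem_left _ _ h2)
    (Ideal.mul_mem_right _ _ (Ideal.subset_span ⟨u * t, rfl⟩))

/-- the presentation of a localization with generators `1/s` and relations `s x_s - 1`. -/
noncomputable def Ploc : Algebra.Presentation A C' S S where
  __ := Algebra.Generators.ofSurjective (val S C') (aeval_surjective S C')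
  relation := g S
  span_range_relation_eq_ker := by
    apply le_antisymm
    · refine Ideal.span_le.mpr ?_
      rintro _ ⟨s, rfl⟩
      show _ ∈ (Algebra.Generators.ofSurjective (val S C') (aeval_surjective S C')).ker
      rw [Algebra.Generators.ker_eq_ker_aeval_val, RingHom.mem_ker]
      exact aeval_g S C' s
    · intro x hx
      rw [Algebra.Generators.ker_eq_ker_aeval_val, RingHom.mem_ker] at hx
      exact ker_le S C' x hx

theorem relKer_le : relKer (Ploc S C') ≤ trivRel (Ploc S C') := by
  intro q hq
  exact rel_trivial S q.support.card q hq le_rfl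

include S in
theorem T2_localization (M : Type u) [AddCommGroup M] [Module C' M] :
    Subsingleton (T2 (canon A C') M) := by
  haveI : Subsingleton (T2 (Ploc S C') M) :=
    Groth.Agent.Lib.T2VanH1.T2_subsingleton_of_le _ M (relKer_le S C')
  exact (Groth.Agent.Lib.T2IndepH1.T2_indep M (canon A C') (Ploc S C')).elim
    fun e => e.toEquiv.subsingleton

end Loc

section Tower

theorem T2_tower (k A B : Type u) [CommRing k] [CommRing A] [CommRing B] [Algebra k A]
    [Algebra A B] [Algebra k B] [IsScalarTower k A B] (M : Type u) [AddCommGroup M] [Module B M]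
    (h1 : Subsingleton (T2 (canon A B) M))
    (h2 : ∀ (N : Type u) [AddCommGroup N] [Module A N], Subsingleton (T2 (canon k A) N)) :
    Subsingleton (T2 (canon k B) M) := by
  letI : Module A M := Module.compHom M (algebraMap A B)
  haveI : IsScalarTower A B M := IsScalarTower.of_algebraMap_smul fun r x => rfl
  obtain ⟨_, _, _, hex2, _⟩ := Groth.Agent.S12285.result k A B M
  haveI := h2 M
  have h0 : ∀ y : T2 (canon k B) M, y = 0 := by
    intro y
    obtain ⟨x, rfl⟩ := (hex2 y).mp (Subsingleton.elim _ _)
    rw [Subsingleton.elim x 0, map_zero]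
  exact ⟨fun x y => by rw [h0 x, h0 y]⟩

end Tower

section Main

theorem main12297 (k B : Type u) [Field k] [IsAlgClosed k] [CommRing B] [Algebra k B]
    [Algebra.FiniteType k B] (m : Ideal B) [m.IsMaximal] :
    (IsRegularLocalRing (Localization.AtPrime m) ↔
      ∀ (M : Type u) [AddCommGroup M] [Module (Localization.AtPrime m) M],
        Subsingleton (CotT.T1 (CotT.canon k (Localization.AtPrime m)) M)) ∧
    (IsRegularLocalRing (Localization.AtPrime m) →
      ∀ (M : Type u) [AddCommGroup M] [Module (Localization.AtPrime m) M],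
        Subsingleton (CotT.T2 (CotT.canon k (Localization.AtPrime m)) M)) := by
  haveI : IsNoetherianRing B := Algebra.FiniteType.isNoetherianRing k B
  haveI : Algebra.FinitePresentation k B :=
    Algebra.FinitePresentation.of_finiteType.mp inferInstance
  haveI : IsNoetherianRing (Localization.AtPrime m) :=
    IsLocalization.isNoetherianRing m.primeCompl _ inferInstance
  have hex : IsRegularLocalRing (Localization.AtPrime m) →
      ∃ f : B, f ∉ m ∧ Algebra.FormallySmooth k (Localization.Away f) := fun h =>
    (Groth.Agent.Lib.RegLocusFTH3.regular_iff_exists_formallySmooth k k m).mp h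
  have hfs : IsRegularLocalRing (Localization.AtPrime m) →
      Algebra.FormallySmooth k (Localization.AtPrime m) := by
    intro h
    obtain ⟨f, hf, hfs⟩ := hex h
    have h1 := Algebra.basicOpen_subset_smoothLocus_iff.mpr hfs
    have h2 : (⟨m, inferInstance⟩ : PrimeSpectrum B) ∈ Algebra.smoothLocus k B := h1 hf
    exact h2
  refine ⟨⟨fun h => ?_, fun h => ?_⟩, fun h M _ _ => ?_⟩
  · haveI := hfs h
    exact (formallySmooth_iff_T1 k (Localization.AtPrime m)).mp inferInstance
  · haveI := (formallySmooth_iff_T1 k (Localization.AtPrime m)).mpr h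
    exact Groth.Agent.Lib.SmoothRegFieldH3.regular_of_formallySmooth_field (k := k)
  · obtain ⟨f, hf, hfs'⟩ := hex h
    have hu : IsUnit (algebraMap B (Localization.AtPrime m) f) :=
      IsLocalization.map_units (Localization.AtPrime m) (⟨f, hf⟩ : m.primeCompl)
    letI : Algebra (Localization.Away f) (Localization.AtPrime m) :=
      (IsLocalization.Away.lift f hu).toAlgebra
    haveI : IsScalarTower B (Localization.Away f) (Localization.AtPrime m) :=
      IsScalarTower.of_algebraMap_eq fun x => (IsLocalization.Away.lift_eq f hu x).symm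
    haveI : IsScalarTower k (Localization.Away f) (Localization.AtPrime m) :=
      IsScalarTower.of_algebraMap_eq fun x => by
        rw [IsScalarTower.algebraMap_apply k B (Localization.Away f),
          IsScalarTower.algebraMap_apply k B (Localization.AtPrime m)]
        exact (IsLocalization.Away.lift_eq f hu _).symm
    haveI : IsLocalization ((m.primeCompl).map (algebraMap B (Localization.Away f)))
        (Localization.AtPrime m) :=
      IsLocalization.isLocalization_of_submonoid_le (Localization.Away f) (Localization.AtPrime m)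
        (Submonoid.powers f) m.primeCompl (Submonoid.powers_le.mpr hf)
    have h1 : Subsingleton (T2 (canon (Localization.Away f) (Localization.AtPrime m)) M) :=
      T2_localization ((m.primeCompl).map (algebraMap B (Localization.Away f)))
        (Localization.AtPrime m) M
    haveI : Algebra.FiniteType k (Localization.Away f) := inferInstance
    exact T2_tower k (Localization.Away f) (Localization.AtPrime m) M h1
      (fun N _ _ => T2_of_formallySmooth k (Localization.Away f) N)

end Main

end Groth.Agent.Lib.CotTLocH1
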