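import Mathlib
import Groth.Prelude.Def_CotT2
import Groth.Agent.Lib.CotTSm_helper1
import Groth.Agent.Lib.ExtBC_helper5

/-!
# `T²` of a reduced finitely presented algebra over a field is `Ext¹(I/I², B)` (helper1)
APPEND-ONLY once landed.
-/

set_option autoImplicit false

namespace Groth.Agent.Lib.CotTRedH1

open TensorProduct CotT MvPolynomial IsLocalRing
open Groth.Agent.Lib.CotTSmH1

universe u w

section Pgen

variable (A B : Type u) [CommRing A] [CommRing B] [Algebra A B]
  (hs : Function.Surjective (algebraMap A B)) {σ : Type w} (f : σ → A)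
  (hI : RingHom.ker (algebraMap A B) = Ideal.span (Set.range f))

/-- the presentation of `A/(f)` with no variables and the relations `f s`. -/
noncomputable def Pgen : Algebra.Presentation A B PEmpty.{w + 1} σ where
  __ := Algebra.Generators.ofSurjectiveAlgebraMap hs
  relation := fun i => C (f i)
  span_range_relation_eq_ker := by
    apply le_antisymm
    · refine Ideal.span_le.mpr ?_
      rintro _ ⟨i, rfl⟩
      show _ ∈ (Algebra.Generators.ofSurjectiveAlgebraMap hs).ker
      rw [Algebra.Generators.ker_eq_ker_aeval_val, RingHom.mem_ker, aeval_C]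
      have h : f i ∈ Ideal.span (Set.range f) := Ideal.subset_span ⟨i, rfl⟩
      rw [← hI] at h
      exact h
    · intro x hx
      rw [Algebra.Generators.ker_eq_ker_aeval_val, RingHom.mem_ker] at hx
      obtain ⟨a, rfl⟩ := MvPolynomial.C_surjective PEmpty.{w + 1} x
      rw [aeval_C] at hx
      have ha : a ∈ Ideal.span (Set.range f) := by rw [← hI]; exact hx
      have h := Ideal.mem_map_of_mem (C : A →+* MvPolynomial PEmpty.{w + 1} A) ha
      rw [Ideal.map_span] at h
      refine Ideal.span_mono ?_ h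
      rintro _ ⟨a, ⟨i, rfl⟩, rfl⟩
      exact ⟨i, rfl⟩

end Pgen

section WReg

set_option backward.isDefEq.respectTransparency false in
theorem syz_of_weaklyRegular' {S : Type u} [CommRing S] {σ : Type u} (g : σ → S) (rs : List S)
    (hrs : Ideal.ofList rs = Ideal.span (Set.range g))
    (hw : RingTheory.Sequence.IsWeaklyRegular S rs) : Syz g := by
  have hs : Function.Surjective (algebraMap S (S ⧸ Ideal.span (Set.range g))) :=
    Ideal.Quotient.mk_surjective
  have hker : RingHom.ker (algebraMap S (S ⧸ Ideal.span (Set.range g))) =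
      Ideal.span (Set.range g) := by
    rw [Ideal.Quotient.algebraMap_eq, Ideal.mk_ker]
  have hker' : RingHom.ker (algebraMap S (S ⧸ Ideal.span (Set.range g))) = Ideal.ofList rs := by
    rw [hrs]
    exact hker
  have hT : ∀ (M : Type u) [AddCommGroup M] [Module (S ⧸ Ideal.span (Set.range g)) M],
      Subsingleton (T2 (Pgen S (S ⧸ Ideal.span (Set.range g)) hs g hker) M) := by
    intro M _ _
    haveI : Subsingleton (T2 (Groth.Agent.Lib.T2VanH1.Prs S (S ⧸ Ideal.span (Set.range g)) hs rs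
        hker') M) :=
      Groth.Agent.Lib.T2VanH1.T2_subsingleton_of_le _ M
        (Groth.Agent.Lib.T2VanH1.relKer_le_trivRel S (S ⧸ Ideal.span (Set.range g)) hs rs hker' hw)
    exact (Groth.Agent.Lib.T2IndepH1.T2_indep M
      (Groth.Agent.Lib.T2VanH1.Prs S (S ⧸ Ideal.span (Set.range g)) hs rs hker')
      (Pgen S (S ⧸ Ideal.span (Set.range g)) hs g hker)).elim
        fun e => e.symm.toEquiv.subsingleton
  haveI := hT (L2 (Pgen S (S ⧸ Ideal.span (Set.range g)) hs g hker))
  have hinj := d2_injective_of_T2 (Pgen S (S ⧸ Ideal.span (Set.range g)) hs g hker)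
  have hsyz := syz_of_d2_injective _ hinj
  exact syz_of_retract g (C : S →+* MvPolynomial PEmpty.{u + 1} S) constantCoeff
    (fun x => constantCoeff_C _ x) hsyz

end WReg

section Min

theorem syz_at_minimal (k : Type u) [Field k] (ι : Type u) [Finite ι] {σ : Type u}
    (g : σ → MvPolynomial ι k) (hrad : (Ideal.span (Set.range g)).IsRadical)
    (𝔭 : Ideal (MvPolynomial ι k)) [𝔭.IsPrime]
    (h𝔭 : 𝔭 ∈ (Ideal.span (Set.range g)).minimalPrimes) :
    Syz (fun s => algebraMap (MvPolynomial ι k) (Localization.AtPrime 𝔭) (g s)) := by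
  haveI : IsNoetherianRing (MvPolynomial ι k) := inferInstance
  haveI : IsRegularRing (MvPolynomial ι k) :=
    Groth.Agent.Lib.SmoothRegHomH3.isRegularRing_of_formallySmooth_field k _
  haveI : IsRegularLocalRing (Localization.AtPrime 𝔭) := isRegularRing_iff.mp inferInstance 𝔭
  have h1 : (Ideal.span (Set.range g)).map
      (algebraMap (MvPolynomial ι k) (Localization.AtPrime 𝔭)) =
      maximalIdeal (Localization.AtPrime 𝔭) := by
    have e1 := IsLocalization.AtPrime.radical_map_of_mem_minimalPrimes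
      (A := Localization.AtPrime 𝔭) 𝔭 _ h𝔭
    have e2 := IsLocalization.map_radical 𝔭.primeCompl (Localization.AtPrime 𝔭)
      (Ideal.span (Set.range g))
    rw [hrad.radical] at e2
    rw [e2, e1, IsLocalization.AtPrime.map_eq_maximalIdeal 𝔭 (Localization.AtPrime 𝔭)]
  haveI : IsRegularLocalRing (Localization.AtPrime 𝔭 ⧸ maximalIdeal (Localization.AtPrime 𝔭)) := by
    letI := Ideal.Quotient.field (maximalIdeal (Localization.AtPrime 𝔭))
    infer_instance
  obtain ⟨rs, hreg, hrs⟩ := Groth.Agent.RegularLib.exists_isRegular (Localization.AtPrime 𝔭)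
    (maximalIdeal (Localization.AtPrime 𝔭))
  refine syz_of_weaklyRegular' _ rs ?_ hreg.toIsWeaklyRegular
  rw [hrs, ← h1, Ideal.map_span, ← Set.range_comp]
  rfl

theorem exists_smul_mem_F0_of_minimal (k : Type u) [Field k] (ι : Type u) [Finite ι] {σ : Type u}
    (g : σ → MvPolynomial ι k) (hrad : (Ideal.span (Set.range g)).IsRadical)
    (𝔭 : Ideal (MvPolynomial ι k)) [𝔭.IsPrime]
    (h𝔭 : 𝔭 ∈ (Ideal.span (Set.range g)).minimalPrimes)
    (q : σ →₀ MvPolynomial ι k) (hq0 : jm g q = 0)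
    (h1 : q ∈ Ideal.span (Set.range g) • (⊤ : Submodule (MvPolynomial ι k) (σ →₀ MvPolynomial ι k))) :
    ∃ t : MvPolynomial ι k, t ∉ 𝔭 ∧ t • q ∈ F0 g := by
  have hsyz := syz_at_minimal k ι g hrad 𝔭 h𝔭
  have h2 := hsyz (Φ (algebraMap (MvPolynomial ι k) (Localization.AtPrime 𝔭)) q)
    (by rw [jm_Φ, hq0, map_zero]) (Φ_mem_smul_top g _ h1)
  obtain ⟨t, ht, y, hy, e⟩ := exists_clear_F0 g 𝔭 h2
  have h3 : Φ (algebraMap (MvPolynomial ι k) (Localization.AtPrime 𝔭)) (t • q - y) = 0 := by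
    rw [map_sub, Φ_smul, e, sub_self]
  obtain ⟨u, hu, hu0⟩ := exists_smul_eq_zero 𝔭 h3
  refine ⟨u * t, fun h => (Ideal.IsPrime.mem_or_mem ‹𝔭.IsPrime› h).elim hu ht, ?_⟩
  rw [mul_smul]
  rw [smul_sub, sub_eq_zero] at hu0
  rw [hu0]
  exact Submodule.smul_mem _ _ hy

end Min

section Cok

theorem cokernel_equiv {R : Type*} [CommRing R] {L2 L1 N : Type*} [AddCommGroup L2] [Module R L2]
    [AddCommGroup L1] [Module R L1] [AddCommGroup N] [Module R N]
    (d : L2 →ₗ[R] L1) (h : ∀ (φ : L2 →ₗ[R] N) (z : L2), d z = 0 → φ z = 0) :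
    Nonempty (((LinearMap.range d →ₗ[R] N) ⧸
        LinearMap.range (LinearMap.lcomp R N (LinearMap.range d).subtype)) ≃ₗ[R]
      ((L2 →ₗ[R] N) ⧸ LinearMap.range (LinearMap.lcomp R N d))) := by
  let rr : L2 →ₗ[R] LinearMap.range d := d.rangeRestrict
  have hrr : Function.Surjective rr := LinearMap.surjective_rangeRestrict _
  have hrrapp : ∀ z, ((rr z : LinearMap.range d) : L1) = d z := fun z => rfl
  let Θ : (LinearMap.range d →ₗ[R] N) →ₗ[R] (L2 →ₗ[R] N) := LinearMap.lcomp R N rr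
  have hΘ : LinearMap.range (LinearMap.lcomp R N (LinearMap.range d).subtype) ≤
      (LinearMap.range (LinearMap.lcomp R N d)).comap Θ := by
    rintro _ ⟨ψ, rfl⟩
    exact ⟨ψ, rfl⟩
  let Θq : ((LinearMap.range d →ₗ[R] N) ⧸
      LinearMap.range (LinearMap.lcomp R N (LinearMap.range d).subtype)) →ₗ[R]
      ((L2 →ₗ[R] N) ⧸ LinearMap.range (LinearMap.lcomp R N d)) :=
    Submodule.mapQ _ _ Θ hΘ
  have hinj : Function.Injective Θq := by
    rw [injective_iff_map_eq_zero]
    intro t ht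
    obtain ⟨χ, rfl⟩ := Submodule.Quotient.mk_surjective _ t
    have ht' : (Submodule.Quotient.mk (Θ χ) :
        (L2 →ₗ[R] N) ⧸ LinearMap.range (LinearMap.lcomp R N d)) = 0 := ht
    rw [Submodule.Quotient.mk_eq_zero] at ht' ⊢
    obtain ⟨ψ, hψ⟩ := ht'
    refine ⟨ψ, ?_⟩
    apply LinearMap.ext
    intro x
    obtain ⟨z, rfl⟩ := hrr x
    have h1 := LinearMap.congr_fun hψ z
    exact h1
  have hsurj : Function.Surjective Θq := by
    intro t
    obtain ⟨φ, rfl⟩ := Submodule.Quotient.mk_surjective _ t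
    have hker : LinearMap.ker rr ≤ LinearMap.ker φ := by
      intro z hz
      rw [LinearMap.mem_ker] at hz ⊢
      have hz' : d z = 0 := by
        rw [← hrrapp, hz]
        rfl
      exact h φ z hz'
    let χ : LinearMap.range d →ₗ[R] N :=
      (LinearMap.ker rr).liftQ φ hker ∘ₗ (rr.quotKerEquivOfSurjective hrr).symm.toLinearMap
    refine ⟨Submodule.Quotient.mk χ, ?_⟩
    show (Submodule.Quotient.mk (Θ χ) :
      (L2 →ₗ[R] N) ⧸ LinearMap.range (LinearMap.lcomp R N d)) = Submodule.Quotient.mk φ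
    congr 1
    apply LinearMap.ext
    intro z
    have h1 : (rr.quotKerEquivOfSurjective hrr).symm (rr z) = Submodule.Quotient.mk z := by
      rw [LinearEquiv.symm_apply_eq]
      rfl
    show (LinearMap.ker rr).liftQ φ hker ((rr.quotKerEquivOfSurjective hrr).symm (rr z)) = φ z
    rw [h1, Submodule.liftQ_apply]
  exact ⟨LinearEquiv.ofBijective Θq ⟨hinj, hsurj⟩⟩

end Cok

section Red

variable {k : Type u} [Field k] {B : Type u} [CommRing B] [Algebra k B] {ι σ : Type u} [Finite ι]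
  (P : Algebra.Presentation k B ι σ)

set_option backward.isDefEq.respectTransparency false in
theorem exists_smul_eq_zero_of_minimal [IsReduced B] (z : L2 P) (hz : d2 P z = 0)
    (𝔭 : Ideal P.toExtension.Ring) [𝔭.IsPrime]
    (h𝔭 : 𝔭 ∈ (RingHom.ker (algebraMap P.toExtension.Ring B)).minimalPrimes) :
    ∃ t : P.toExtension.Ring, t ∉ 𝔭 ∧ algebraMap P.toExtension.Ring B t • z = 0 := by
  obtain ⟨w, rfl⟩ := Submodule.Quotient.mk_surjective _ z
  obtain ⟨q, rfl⟩ := exists_one_tmul' P.toExtension.algebraMap_surjective w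
  rw [d2_mk_tmul] at hz
  have h1 := Groth.Agent.Lib.CotTLCIH1.mem_smul_top_of_one_tmul_eq_zero
    P.toExtension.algebraMap_surjective _ hz
  rw [ker_eq_span] at h1
  have hrad : (Ideal.span (Set.range (rel P))).IsRadical := by
    rw [← ker_eq_span]
    exact (RingHom.ker_isRadical_iff_reduced_of_surjective
      P.toExtension.algebraMap_surjective).mpr inferInstance
  have h𝔭' : 𝔭 ∈ (Ideal.span (Set.range (rel P))).minimalPrimes := by
    rw [← ker_eq_span]
    exact h𝔭
  have hq0 : jm (rel P) (q : relMod P) = 0 := q.2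
  obtain ⟨t, ht, h5⟩ : ∃ t : P.toExtension.Ring, t ∉ 𝔭 ∧ t • (q : relMod P) ∈ trivRel P :=
    exists_smul_mem_F0_of_minimal k ι (rel P) hrad 𝔭 h𝔭' (q : relMod P) hq0 h1
  refine ⟨t, ht, ?_⟩
  rw [← Submodule.Quotient.mk_smul, Submodule.Quotient.mk_eq_zero]
  have h6 : algebraMap P.toExtension.Ring B t • ((1 : B) ⊗ₜ[P.toExtension.Ring] q) =
      (1 : B) ⊗ₜ[P.toExtension.Ring] (t • q) := by
    rw [TensorProduct.tmul_smul, algebraMap_smul]
  rw [h6]
  refine LinearMap.mem_range.mpr ⟨(1 : B) ⊗ₜ ⟨t • q, h5⟩, ?_⟩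
  rw [LinearMap.baseChange_tmul]
  rfl

theorem hom_ker_d2_eq_zero [IsReduced B] (φ : L2 P →ₗ[B] B) (z : L2 P) (hz : d2 P z = 0) :
    φ z = 0 := by
  obtain ⟨r, hr⟩ := P.toExtension.algebraMap_surjective (φ z)
  have hrad : (RingHom.ker (algebraMap P.toExtension.Ring B)).IsRadical :=
    (RingHom.ker_isRadical_iff_reduced_of_surjective
      P.toExtension.algebraMap_surjective).mpr inferInstance
  have hmem : r ∈ RingHom.ker (algebraMap P.toExtension.Ring B) := by
    rw [← hrad.radical, ← Ideal.sInf_minimalPrimes, Ideal.mem_sInf]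
    intro 𝔭 h𝔭
    haveI := h𝔭.1.1
    obtain ⟨t, ht, htz⟩ := exists_smul_eq_zero_of_minimal P z hz 𝔭 h𝔭
    have h1 : algebraMap P.toExtension.Ring B (t * r) = 0 := by
      rw [map_mul, hr, ← smul_eq_mul, ← map_smul, htz, map_zero]
    have h2 : t * r ∈ 𝔭 := h𝔭.1.2 h1
    exact (Ideal.IsPrime.mem_or_mem ‹𝔭.IsPrime› h2).resolve_left ht
  rw [← hr]
  exact hmem

theorem T2_equiv_ext [IsReduced B] :
    Nonempty (T2 P B ≃ₗ[B]
      CategoryTheory.Abelian.Ext (ModuleCat.of B P.toExtension.Cotangent) (ModuleCat.of B B) 1) := by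
  have hexact : Function.Exact (LinearMap.range (d2 P)).subtype (toCot P) := by
    intro y
    constructor
    · intro hy
      obtain ⟨z, rfl⟩ := Groth.Agent.S12289.ker_toCot_le_range_d2 P hy
      exact ⟨⟨d2 P z, LinearMap.mem_range_self _ z⟩, rfl⟩
    · rintro ⟨⟨_, ⟨z, rfl⟩⟩, rfl⟩
      exact LinearMap.congr_fun (toCot_comp_d2 P) z
  haveI : Module.Free B (L1 P) := Module.Free.of_basis (L1basis P)
  obtain ⟨e1⟩ := Groth.Agent.ExtBC.ext1 (R := B) (K := LinearMap.range (d2 P)) (F := L1 P)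
    (LinearMap.range (d2 P)).subtype (toCot P)
    (Submodule.injective_subtype _) hexact (Groth.Agent.S12289.toCot_surjective P) B
  obtain ⟨e2⟩ := cokernel_equiv (N := B) (d2 P) (hom_ker_d2_eq_zero P)
  have e2' : ((LinearMap.range (d2 P) →ₗ[B] B) ⧸
      LinearMap.range (LinearMap.lcomp B B (LinearMap.range (d2 P)).subtype)) ≃ₗ[B] T2 P B := e2
  exact ⟨(e1.trans e2').symm⟩

end Red

end Groth.Agent.Lib.CotTRedH1
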