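import Mathlib

set_option autoImplicit false

namespace Groth.Agent.Lib.CotTwoH1

universe u

variable {P : Type u} [CommRing P] (J : Ideal P)

section defs
variable {F : Type u} [AddCommGroup F] [Module P F]

abbrev triv (j : F →ₗ[P] P) : Submodule P F :=
  Submodule.span P {y : F | ∃ u v : F, y = j u • v - j v • u}

abbrev Res (j : F →ₗ[P] P) : Submodule P (↥(LinearMap.ker j) →ₗ[P] (P ⧸ J)) :=
  LinearMap.range (LinearMap.lcomp P (P ⧸ J) (LinearMap.ker j).subtype)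

abbrev Kk (j : F →ₗ[P] P) : Submodule P (↥(LinearMap.ker j) →ₗ[P] (P ⧸ J)) :=
  LinearMap.ker (LinearMap.lcomp P (P ⧸ J)
    (Submodule.comap (LinearMap.ker j).subtype (triv j)).subtype)

abbrev T2 (j : F →ₗ[P] P) :
    Submodule P ((↥(LinearMap.ker j) →ₗ[P] (P ⧸ J)) ⧸ Res J j) :=
  Submodule.map (Res J j).mkQ (Kk J j)

theorem mem_Kk (j : F →ₗ[P] P) (φ : ↥(LinearMap.ker j) →ₗ[P] (P ⧸ J)) :
    φ ∈ Kk J j ↔ ∀ x : ↥(LinearMap.ker j), (x : F) ∈ triv j → φ x = 0 := by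
  rw [LinearMap.mem_ker]
  constructor
  · intro h x hx
    have := LinearMap.congr_fun h ⟨x, hx⟩
    simpa using this
  · intro h
    ext ⟨x, hx⟩
    simpa using h x hx

end defs

section maps
variable {F : Type u} [AddCommGroup F] [Module P F]
variable {F' : Type u} [AddCommGroup F'] [Module P F']
variable {j : F →ₗ[P] P} {j' : F' →ₗ[P] P}

theorem map_triv (α : F →ₗ[P] F') (hα : j' ∘ₗ α = j) :
    ∀ x ∈ triv j, α x ∈ triv j' := by
  have hle : triv j ≤ Submodule.comap α (triv j') := by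
    refine Submodule.span_le.mpr ?_
    rintro y ⟨u, v, rfl⟩
    refine Submodule.subset_span ⟨α u, α v, ?_⟩
    have h1 : ∀ z, j' (α z) = j z := fun z => LinearMap.congr_fun hα z
    simp [h1]
  exact fun x hx => hle hx

/-- restriction of `α` to the relation modules. -/
noncomputable def restr (α : F →ₗ[P] F') (hα : j' ∘ₗ α = j) :
    ↥(LinearMap.ker j) →ₗ[P] ↥(LinearMap.ker j') :=
  α.restrict (p := LinearMap.ker j) (q := LinearMap.ker j') (fun x hx => by
    have h1 : ∀ z, j' (α z) = j z := fun z => LinearMap.congr_fun hα z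
    rw [LinearMap.mem_ker] at hx ⊢
    rw [h1, hx])

@[simp] theorem restr_coe (α : F →ₗ[P] F') (hα : j' ∘ₗ α = j) (x : ↥(LinearMap.ker j)) :
    ((restr α hα x : ↥(LinearMap.ker j')) : F') = α x := rfl

noncomputable def Phi (α : F →ₗ[P] F') (hα : j' ∘ₗ α = j) :
    (↥(LinearMap.ker j') →ₗ[P] (P ⧸ J)) →ₗ[P] (↥(LinearMap.ker j) →ₗ[P] (P ⧸ J)) :=
  LinearMap.lcomp P (P ⧸ J) (restr α hα)

@[simp] theorem Phi_apply (α : F →ₗ[P] F') (hα : j' ∘ₗ α = j)
    (φ : ↥(LinearMap.ker j') →ₗ[P] (P ⧸ J)) (x : ↥(LinearMap.ker j)) :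
    Phi J α hα φ x = φ (restr α hα x) := rfl

theorem Phi_Res (α : F →ₗ[P] F') (hα : j' ∘ₗ α = j) :
    Res J j' ≤ Submodule.comap (Phi J α hα) (Res J j) := by
  rintro φ ⟨ψ, rfl⟩
  refine ⟨ψ ∘ₗ α, ?_⟩
  ext x
  simp

theorem Phi_Kk (α : F →ₗ[P] F') (hα : j' ∘ₗ α = j)
    (φ : ↥(LinearMap.ker j') →ₗ[P] (P ⧸ J)) (hφ : φ ∈ Kk J j') :
    Phi J α hα φ ∈ Kk J j := by
  rw [mem_Kk] at hφ ⊢
  intro x hx
  rw [Phi_apply]
  exact hφ _ (map_triv α hα _ hx)

noncomputable def Psi (α : F →ₗ[P] F') (hα : j' ∘ₗ α = j) :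
    ↥(T2 J j') →ₗ[P] ↥(T2 J j) :=
  (Submodule.mapQ (Res J j') (Res J j) (Phi J α hα) (Phi_Res J α hα)).restrict
    (p := T2 J j') (q := T2 J j) (by
      rintro t ⟨φ, hφ, rfl⟩
      exact ⟨Phi J α hα φ, Phi_Kk J α hα φ hφ, rfl⟩)

theorem Psi_Psi (α : F →ₗ[P] F') (hα : j' ∘ₗ α = j) (β : F' →ₗ[P] F) (hβ : j ∘ₗ β = j')
    (t : ↥(T2 J j)) : Psi J α hα (Psi J β hβ t) = t := by
  obtain ⟨t, φ, hφ, rfl⟩ := t
  apply Subtype.ext
  show Submodule.mapQ (Res J j') (Res J j) (Phi J α hα) (Phi_Res J α hα)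
    (Submodule.mapQ (Res J j) (Res J j') (Phi J β hβ) (Phi_Res J β hβ)
      ((Res J j).mkQ φ)) = (Res J j).mkQ φ
  rw [Submodule.mkQ_apply, Submodule.mapQ_apply, Submodule.mapQ_apply, Submodule.Quotient.eq]
  have h1 : ∀ z, j' (α z) = j z := fun z => LinearMap.congr_fun hα z
  have h2 : ∀ z, j (β z) = j' z := fun z => LinearMap.congr_fun hβ z
  let γ : F →ₗ[P] ↥(LinearMap.ker j) :=
    (β ∘ₗ α - LinearMap.id).codRestrict (LinearMap.ker j) (fun x => by
      rw [LinearMap.mem_ker]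
      simp [h1, h2])
  refine ⟨φ ∘ₗ γ, ?_⟩
  ext x
  have hx : γ (x : F) = restr β hβ (restr α hα x) - x := by
    apply Subtype.ext
    simp [γ]
  simp only [LinearMap.lcomp_apply', LinearMap.coe_comp, Function.comp_apply,
    Submodule.coe_subtype, LinearMap.sub_apply, Phi_apply]
  rw [hx, map_sub]

end maps

theorem exists_alpha {F : Type u} [AddCommGroup F] [Module P F] [Module.Free P F]
    {F' : Type u} [AddCommGroup F'] [Module P F']
    (j : F →ₗ[P] P) (j' : F' →ₗ[P] P) (h : LinearMap.range j ≤ LinearMap.range j') :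
    ∃ α : F →ₗ[P] F', j' ∘ₗ α = j := by
  classical
  let b := Module.Free.chooseBasis P F
  have hc : ∀ i, ∃ y : F', j' y = j (b i) := fun i => h (LinearMap.mem_range_self j (b i))
  choose y hy using hc
  refine ⟨b.constr P y, b.ext fun i => ?_⟩
  simp [hy]

theorem main11299 (P : Type u) [CommRing P] (J : Ideal P)
    (F : Type u) [AddCommGroup F] [Module P F] [Module.Free P F] [Module.Finite P F]
    (F' : Type u) [AddCommGroup F'] [Module P F'] [Module.Free P F'] [Module.Finite P F']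
    (j : F →ₗ[P] P) (j' : F' →ₗ[P] P) (hj : LinearMap.range j = J) (hj' : LinearMap.range j' = J) :
    Nonempty (↥(T2 J j) ≃ₗ[P] ↥(T2 J j')) := by
  obtain ⟨α, hα⟩ := exists_alpha j j' (by rw [hj, hj'])
  obtain ⟨β, hβ⟩ := exists_alpha j' j (by rw [hj, hj'])
  exact ⟨{ toLinearMap := Psi J β hβ
           invFun := Psi J α hα
           left_inv := fun t => Psi_Psi J α hα β hβ t
           right_inv := fun t => Psi_Psi J β hβ α hα t }⟩

end Groth.Agent.Lib.CotTwoH1
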