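import Groth.Agent.Lib.PureExt_lead

/-!
# Countably generated Mittag-Leffler modules (lead's helper library)

`exists_endo`: for a countably generated Mittag-Leffler module `M` and `f : P → M` with `P` finite
there is an endomorphism of `M` factoring through a finitely presented module and fixing `f`.
-/

universe u

namespace Groth.Agent.Lib.MLCount_lead

open TensorProduct CAlg Groth.Agent.Lib.MLPure_lead Groth.Agent.Lib.MLDom_lead
  Groth.Agent.Lib.PureExt_lead

variable {R : Type u} [CommRing R]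

theorem exists_seq {α : ℕ → Type*} (S : ∀ n, α n → Prop) (rel : ∀ n, α n → α (n + 1) → Prop)
    (a0 : α 0) (h0 : S 0 a0) (hstep : ∀ n a, S n a → ∃ a', S (n + 1) a' ∧ rel n a a') :
    ∃ B : ∀ n, α n, B 0 = a0 ∧ ∀ n, rel n (B n) (B (n + 1)) := by
  classical
  let B' : ∀ n, {a : α n // S n a} := fun n =>
    Nat.rec (motive := fun n => {a : α n // S n a}) ⟨a0, h0⟩
      (fun n p => ⟨Classical.choose (hstep n p.1 p.2),
        (Classical.choose_spec (hstep n p.1 p.2)).1⟩) n
  exact ⟨fun n => (B' n).1, rfl, fun n => (Classical.choose_spec (hstep n (B' n).1 (B' n).2)).2⟩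

theorem exists_fact_dominating {M : Type u} [AddCommGroup M] [Module R M]
    (hM : IsMittagLeffler R M) (P : Type u) [AddCommGroup P] [Module R P]
    [Module.FinitePresentation R P] (f : P →ₗ[R] M) :
    ∃ j : Fact f, ∀ (N : Type u) [AddCommGroup N] [Module R N],
      LinearMap.ker (f.rTensor N) ≤ LinearMap.ker (j.g.rTensor N) := by
  classical
  have claim : ∃ j : Fact f, ∀ N : ModuleCat.{u} R,
      LinearMap.ker (f.rTensor N) ≤ LinearMap.ker (j.g.rTensor N) := by
    by_contra hcon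
    push Not at hcon
    have hcon' : ∀ j : Fact f, ∃ (N : ModuleCat.{u} R) (y : P ⊗[R] N),
        f.rTensor N y = 0 ∧ j.g.rTensor N y ≠ 0 := by
      intro j
      obtain ⟨N, hN⟩ := hcon j
      obtain ⟨y, hy, hy'⟩ := SetLike.not_le_iff_exists.mp hN
      exact ⟨N, y, LinearMap.mem_ker.mp hy, fun h0 => hy' (LinearMap.mem_ker.mpr h0)⟩
    choose N y hy hy' using hcon'
    obtain ⟨yt, hyt⟩ := Groth.Agent.Lib.PiTensor_lead.piRightHom_surjective_of_finite P
      (fun j => (N j : Type u)) (fun j => y j)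
    have hcomp : ∀ j, (LinearMap.proj j : (∀ j, N j) →ₗ[R] N j).lTensor P yt = y j := by
      intro j
      rw [← piRightHom_apply, hyt]
    have hξ : (f.rTensor (∀ j, N j)) yt = 0 := by
      apply hM (Fact f) (fun j => (N j : Type u))
      rw [map_zero]
      funext j
      rw [piRightHom_apply, ← rTensor_lTensor_comm, hcomp, hy]
      rfl
    obtain ⟨Q, _, _, _, g, h, hgh, hg0⟩ := exists_fp_factor f yt hξ
    obtain ⟨r, L, e, hL⟩ := Module.FinitePresentation.exists_fin R Q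
    let j₀ : Fact f := ⟨r, L, hL, e.toLinearMap ∘ₗ g, h ∘ₗ e.symm.toLinearMap, by
      refine LinearMap.ext fun p => ?_
      simp only [LinearMap.comp_apply, LinearEquiv.coe_coe, LinearEquiv.symm_apply_apply, ← hgh]⟩
    have h0 : (j₀.g.rTensor (N j₀)) (y j₀) = 0 := by
      rw [← hcomp j₀, rTensor_lTensor_comm]
      have : (j₀.g.rTensor (∀ j, N j)) yt = 0 := by
        show ((e.toLinearMap ∘ₗ g).rTensor _) yt = 0
        rw [LinearMap.rTensor_comp, LinearMap.comp_apply, hg0, map_zero]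
      rw [this, map_zero]
    exact hy' j₀ h0
  obtain ⟨j, hj⟩ := claim
  exact ⟨j, fun N _ _ => hj (ModuleCat.of R N)⟩

theorem exists_step {M : Type u} [AddCommGroup M] [Module R M] (hM : IsMittagLeffler R M)
    (q : FPMap R M) (x : M) :
    ∃ (q' : FPMap R M) (t : q.carrier →ₗ[R] q'.carrier), q'.hom ∘ₗ t = q.hom ∧
      x ∈ LinearMap.range q'.hom ∧
      ∀ (N : Type u) [AddCommGroup N] [Module R N],
        LinearMap.ker (q.hom.rTensor N) ≤ LinearMap.ker (t.rTensor N) := by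
  obtain ⟨jf, hjf⟩ := exists_fact_dominating hM (q.carrier × R)
    (q.hom.coprod (LinearMap.toSpanSingleton R M x))
  let q' : FPMap R M := ⟨jf.r, jf.L, jf.hL, jf.h⟩
  let t : q.carrier →ₗ[R] q'.carrier := jf.g ∘ₗ LinearMap.inl R q.carrier R
  refine ⟨q', t, ?_, ?_, ?_⟩
  · show jf.h ∘ₗ (jf.g ∘ₗ LinearMap.inl R _ R) = q.hom
    rw [← LinearMap.comp_assoc, jf.comp]
    exact LinearMap.coprod_inl _ _
  · refine ⟨jf.g (0, 1), ?_⟩
    show jf.h (jf.g (0, 1)) = x
    rw [← LinearMap.comp_apply, jf.comp]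
    simp
  · intro N _ _ z hz
    rw [LinearMap.mem_ker] at hz ⊢
    show ((jf.g ∘ₗ LinearMap.inl R _ R).rTensor N) z = 0
    rw [LinearMap.rTensor_comp, LinearMap.comp_apply]
    apply LinearMap.mem_ker.mp
    apply hjf N
    rw [LinearMap.mem_ker, ← LinearMap.comp_apply, ← LinearMap.rTensor_comp,
      LinearMap.coprod_inl]
    exact hz

theorem exists_endo {M : Type u} [AddCommGroup M] [Module R M] (hML : IsMittagLeffler R M)
    (hc : IsCountablyGenerated R M) {P : Type u} [AddCommGroup P] [Module R P]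
    [Module.Finite R P] (f : P →ₗ[R] M) :
    ∃ (Q : Type u) (_ : AddCommGroup Q) (_ : Module R Q) (_ : Module.FinitePresentation R Q)
      (b : M →ₗ[R] Q) (c : Q →ₗ[R] M), (c ∘ₗ b) ∘ₗ f = f := by
  classical
  obtain ⟨s, hs, hspan⟩ := hc
  have hs' : (insert 0 s).Countable := hs.insert 0
  obtain ⟨x, hx⟩ := hs'.exists_eq_range (Set.insert_nonempty 0 s)
  have hxspan : Submodule.span R (Set.range x) = ⊤ := by
    rw [← hx, eq_top_iff, ← hspan]
    exact Submodule.span_mono (Set.subset_insert 0 s)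
  obtain ⟨a, π, hπ⟩ := Module.Finite.exists_fin' R P
  let q₀ : FPMap R M :=
    ⟨a, ⊥, Submodule.fg_bot, (⊥ : Submodule R (Fin a → R)).liftQ (f ∘ₗ π) bot_le⟩
  choose step stepmap hstep_comp hstep_mem hstep_dom using
    fun (q : FPMap R M) (x : M) => exists_step hML q x
  let j : ℕ → FPMap R M := fun n =>
    Nat.rec (motive := fun _ => FPMap R M) q₀ (fun n q => step q (x n)) n
  let t : ∀ n : ℕ, (j n).carrier →ₗ[R] (j (n + 1)).carrier := fun n => stepmap (j n) (x n)
  have hcomp : ∀ n : ℕ, (j (n + 1)).hom ∘ₗ t n = (j n).hom := fun n => hstep_comp (j n) (x n)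
  have hmem : ∀ n : ℕ, x n ∈ LinearMap.range (j (n + 1)).hom := fun n => hstep_mem (j n) (x n)
  have hdom : ∀ (n : ℕ) (N : Type u) [AddCommGroup N] [Module R N],
      LinearMap.ker ((j n).hom.rTensor N) ≤ LinearMap.ker ((t n).rTensor N) :=
    fun n => hstep_dom (j n) (x n)
  have hkert : ∀ (n : ℕ) (y : (j n).carrier), (j n).hom y = 0 → t n y = 0 := fun n y hy =>
    LinearMap.mem_ker.mp (ker_le_ker_of_dominates _ _ (hdom n R) (LinearMap.mem_ker.mpr hy))
  have hu : ∀ n : ℕ, ∃ u : (j (n + 1 + 1)).carrier →ₗ[R] (j (n + 1)).carrier,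
      t n = u ∘ₗ (t (n + 1) ∘ₗ t n) := by
    intro n
    have : Module.FinitePresentation R
        ((j (n + 1 + 1)).carrier ⧸ LinearMap.range (t (n + 1) ∘ₗ t n)) :=
      Module.finitePresentation_of_surjective (Submodule.mkQ _) (Submodule.mkQ_surjective _)
        (by rw [Submodule.ker_mkQ]; exact Submodule.fg_range _)
    refine factor_of_dominates (t (n + 1) ∘ₗ t n) (t n) fun N _ _ z hz => ?_
    apply hdom n N
    rw [LinearMap.mem_ker] at hz ⊢
    have h1 : (j n).hom = (j (n + 1 + 1)).hom ∘ₗ (t (n + 1) ∘ₗ t n) := by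
      rw [← LinearMap.comp_assoc, hcomp (n + 1), hcomp n]
    rw [h1, LinearMap.rTensor_comp, LinearMap.comp_apply, hz, map_zero]
  obtain ⟨B, hB0, hBrel⟩ := exists_seq
    (α := fun n => (j n).carrier →ₗ[R] (j (0 + 1)).carrier)
    (fun n v => ∃ w : (j (n + 1)).carrier →ₗ[R] (j (0 + 1)).carrier, w ∘ₗ t n = v)
    (fun n v v' => v' ∘ₗ t n = v) (t 0) ⟨LinearMap.id, LinearMap.id_comp _⟩ (by
      rintro n v ⟨w₀, hw₀⟩
      obtain ⟨u, hu'⟩ := hu n
      refine ⟨(w₀ ∘ₗ u) ∘ₗ t (n + 1), ⟨w₀ ∘ₗ u, rfl⟩, ?_⟩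
      rw [LinearMap.comp_assoc, LinearMap.comp_assoc, ← hu', hw₀])
  let Γn : ℕ → Submodule R (M × (j (0 + 1)).carrier) := fun n =>
    LinearMap.range ((j n).hom.prod (B n))
  have hΓmono : Monotone Γn := monotone_nat_of_le_succ (by
    rintro n _ ⟨y, rfl⟩
    refine ⟨t n y, ?_⟩
    rw [LinearMap.prod_apply, LinearMap.prod_apply]
    exact Prod.ext (LinearMap.congr_fun (hcomp n) y) (LinearMap.congr_fun (hBrel n) y))
  have hΓmem : ∀ p, p ∈ (⨆ n, Γn n) ↔ ∃ n, p ∈ Γn n := fun p =>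
    Submodule.mem_iSup_of_directed _ hΓmono.directed_le
  have hΓinj : ∀ p ∈ (⨆ n, Γn n), p.1 = 0 → p.2 = 0 := by
    intro p hp h1
    obtain ⟨n, y, rfl⟩ := (hΓmem p).mp hp
    have hy : (j n).hom y = 0 := h1
    show B n y = 0
    rw [← hBrel n, LinearMap.comp_apply, hkert n y hy, map_zero]
  have hΓsurj : ∀ m : M, ∃ w, (m, w) ∈ (⨆ n, Γn n) := by
    intro m
    have hm : m ∈ Submodule.span R (Set.range x) := by rw [hxspan]; trivial
    induction hm using Submodule.span_induction with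
    | mem v hv =>
      obtain ⟨n, rfl⟩ := hv
      obtain ⟨y, hy⟩ := hmem n
      refine ⟨B (n + 1) y, (hΓmem _).mpr ⟨n + 1, y, ?_⟩⟩
      rw [LinearMap.prod_apply]
      exact Prod.ext hy rfl
    | zero => exact ⟨0, Submodule.zero_mem _⟩
    | add u v _ _ hu hv =>
      obtain ⟨wu, hwu⟩ := hu
      obtain ⟨wv, hwv⟩ := hv
      exact ⟨wu + wv, Submodule.add_mem _ hwu hwv⟩
    | smul r u _ hu =>
      obtain ⟨wu, hwu⟩ := hu
      exact ⟨r • wu, Submodule.smul_mem _ r hwu⟩
  choose bfun hbfun using hΓsurj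
  have hbuniq : ∀ m w, (m, w) ∈ (⨆ n, Γn n) → w = bfun m := by
    intro m w hw
    have := hΓinj ((m, w) - (m, bfun m)) (Submodule.sub_mem _ hw (hbfun m)) (by simp)
    simpa [sub_eq_zero] using this
  let b : M →ₗ[R] (j (0 + 1)).carrier :=
    { toFun := bfun
      map_add' := fun m m' => (hbuniq _ _ (Submodule.add_mem _ (hbfun m) (hbfun m'))).symm
      map_smul' := fun r m => (hbuniq _ _ (Submodule.smul_mem _ r (hbfun m))).symm }
  have hb0 : ∀ y, b ((j 0).hom y) = t 0 y := by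
    intro y
    have hmem0 : ((j 0).hom y, t 0 y) ∈ (⨆ n, Γn n) := by
      refine (hΓmem _).mpr ⟨0, y, ?_⟩
      rw [LinearMap.prod_apply, hB0]
      rfl
    exact (hbuniq _ _ hmem0).symm
  refine ⟨(j (0 + 1)).carrier, inferInstance, inferInstance, inferInstance, b,
    (j (0 + 1)).hom, ?_⟩
  refine LinearMap.ext fun p => ?_
  obtain ⟨v, rfl⟩ := hπ p
  have h1 : f (π v) = (j 0).hom ((⊥ : Submodule R (Fin a → R)).mkQ v) := rfl
  rw [LinearMap.comp_apply, LinearMap.comp_apply, h1, hb0, ← LinearMap.comp_apply, hcomp 0]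

end Groth.Agent.Lib.MLCount_lead
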