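import Mathlib
import Groth.Agent.Lib.MLCount_lead

set_option autoImplicit false
universe u

/-!
# Countably generated flat Mittag-Leffler modules are projective (helper3)

Uses lead's `MLCount_lead.exists_endo` and a telescoping family of endomorphisms.
-/

namespace Groth.Agent.Lib.CountableProjH3

open CAlg

variable {R : Type u} [CommRing R] {M : Type u} [AddCommGroup M] [Module R M]

/-- In a countably generated flat Mittag-Leffler module, every element is fixed by an endomorphism
factoring through a finite free module. -/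
theorem exists_free_endo [Module.Flat R M] (hML : IsMittagLeffler R M)
    (hc : IsCountablyGenerated R M) (y : M) :
    ∃ (k : ℕ) (b : M →ₗ[R] (Fin k →₀ R)) (c : (Fin k →₀ R) →ₗ[R] M), c (b y) = y := by
  obtain ⟨Q, _, _, _, b, c, hbc⟩ :=
    Groth.Agent.Lib.MLCount_lead.exists_endo hML hc (LinearMap.toSpanSingleton R M y)
  obtain ⟨k, h₂, h₃, h⟩ := Module.Flat.exists_factorization_of_finitePresentation c
  refine ⟨k, h₂ ∘ₗ b, h₃, ?_⟩
  have h1 := LinearMap.congr_fun hbc (1 : R)
  simp only [LinearMap.comp_apply, LinearMap.toSpanSingleton_apply, one_smul] at h1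
  rw [LinearMap.comp_apply, ← LinearMap.comp_apply h₃, ← h]
  exact h1

theorem projective_of_flat_of_isMittagLeffler_of_isCountablyGenerated [Module.Flat R M]
    (hML : IsMittagLeffler R M) (hc : IsCountablyGenerated R M) : Module.Projective R M := by
  classical
  choose k b c hbc using fun y : M => exists_free_endo hML hc y
  obtain ⟨s, hs, hspan⟩ := hc
  have hs' : (insert 0 s).Countable := hs.insert 0
  obtain ⟨x, hx⟩ := hs'.exists_eq_range (Set.insert_nonempty 0 s)
  have hxspan : Submodule.span R (Set.range x) = ⊤ := by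
    rw [← hx, eq_top_iff, ← hspan]
    exact Submodule.span_mono (Set.subset_insert 0 s)
  let ε : ℕ → (M →ₗ[R] M) := fun n => Nat.rec (motive := fun _ => M →ₗ[R] M) LinearMap.id
    (fun n e => (LinearMap.id - c (e (x n)) ∘ₗ b (e (x n))) ∘ₗ e) n
  have hεs : ∀ n, ε (n + 1) =
      (LinearMap.id - c (ε n (x n)) ∘ₗ b (ε n (x n))) ∘ₗ ε n := fun n => rfl
  have hkill : ∀ n i, i < n → ε n (x i) = 0 := by
    intro n
    induction n with
    | zero => intro i hi; omega
    | succ n ih =>
      intro i hi
      rw [hεs, LinearMap.comp_apply]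
      rcases Nat.lt_succ_iff_lt_or_eq.mp hi with h | rfl
      · rw [ih i h, map_zero]
      · rw [LinearMap.sub_apply, LinearMap.id_apply, LinearMap.comp_apply, hbc, sub_self]
  have hev : ∀ m : M, ∃ N, ∀ n, N ≤ n → ε n m = 0 := by
    intro m
    have hm : m ∈ Submodule.span R (Set.range x) := by rw [hxspan]; trivial
    induction hm using Submodule.span_induction with
    | mem y hy =>
      obtain ⟨i, rfl⟩ := hy
      exact ⟨i + 1, fun n hn => hkill n i (by omega)⟩
    | zero => exact ⟨0, fun n _ => map_zero _⟩
    | add y z _ _ hy hz =>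
      obtain ⟨N1, h1⟩ := hy
      obtain ⟨N2, h2⟩ := hz
      exact ⟨max N1 N2, fun n hn => by
        rw [map_add, h1 n (le_trans (le_max_left _ _) hn),
          h2 n (le_trans (le_max_right _ _) hn), add_zero]⟩
    | smul r y _ hy =>
      obtain ⟨N, h⟩ := hy
      exact ⟨N, fun n hn => by rw [map_smul, h n hn, smul_zero]⟩
  apply Module.Projective.of_lifting_property''
  intro f hf
  have hlift : ∀ n, ∃ h : (Fin (k (ε n (x n))) →₀ R) →ₗ[R] (M →₀ R),
      f ∘ₗ h = c (ε n (x n)) :=
    fun n => Module.projective_lifting_property f _ hf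
  choose h hh using hlift
  let T : ℕ → (M →ₗ[R] (M →₀ R)) := fun n => h n ∘ₗ b (ε n (x n)) ∘ₗ ε n
  have hT : ∀ n m, f (T n m) = ε n m - ε (n + 1) m := by
    intro n m
    simp only [T, LinearMap.comp_apply]
    rw [← LinearMap.comp_apply f, hh, hεs]
    simp
  have hfin : ∀ m, (Function.support fun n => T n m).Finite := by
    intro m
    obtain ⟨N, hN⟩ := hev m
    refine (Finset.range N).finite_toSet.subset ?_
    intro n hn
    simp only [Finset.coe_range, Set.mem_Iio]
    by_contra hlt
    apply hn
    simp only [T, LinearMap.comp_apply]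
    rw [hN n (not_lt.mp hlt), map_zero, map_zero]
  let S : M →ₗ[R] (M →₀ R) :=
    { toFun := fun m => ∑ᶠ n, T n m
      map_add' := fun m m' => by
        simp only [map_add]
        exact finsum_add_distrib (hfin m) (hfin m')
      map_smul' := fun r m => by
        simp only [map_smul, RingHom.id_apply]
        exact (smul_finsum' r (hfin m)).symm }
  refine ⟨S, LinearMap.ext fun m => ?_⟩
  show f (∑ᶠ n, T n m) = m
  rw [map_finsum f (hfin m)]
  obtain ⟨N, hN⟩ := hev m
  rw [finsum_eq_sum_of_support_subset (s := Finset.range N)]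
  · simp_rw [hT]
    rw [Finset.sum_range_sub', hN N le_rfl, sub_zero]
    rfl
  · intro n hn
    simp only [Finset.coe_range, Set.mem_Iio]
    by_contra hlt
    apply hn
    show f (T n m) = 0
    rw [hT, hN n (not_lt.mp hlt), hN (n + 1) (by omega), sub_zero]

end Groth.Agent.Lib.CountableProjH3
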