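import Mathlib
import Groth.Agent.Lib.ExtDer_helper9

/-!
# Naturality in the first variable of `H^n(Hom(K, R^•)) ≅ Ext^n(K, G)` (helper2)
-/

set_option autoImplicit false

open CategoryTheory Limits Opposite

namespace Groth.Agent.Lib.ExtNatK
open ExtDer

universe v u

variable {C : Type u} [Category.{v} C] [Abelian C] [HasExt.{v} C]

/-- the map of `Hom` complexes induced by `k : K' ⟶ K` -/
noncomputable def homCxMap {K K' : C} (k : K' ⟶ K) {G : C} (R : InjectiveResolution G) :
    homCx K R ⟶ homCx K' R :=
  (NatTrans.mapHomologicalComplex (preadditiveCoyoneda.map k.op) (ComplexShape.up ℕ)).app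
    R.cocomplex

lemma homCxMap_f_apply {K K' : C} (k : K' ⟶ K) {G : C} (R : InjectiveResolution G) (n : ℕ)
    (f : K ⟶ R.cocomplex.X n) : ((homCxMap k R).f n).hom f = k ≫ f := rfl

theorem homToExt_naturality_left {K K' : C} (k : K' ⟶ K) {G : C} (R : InjectiveResolution G)
    (n : ℕ) :
    HomologicalComplex.homologyMap (homCxMap k R) n ≫ homToExt K' R n =
      homToExt K R n ≫ ((Abelian.extFunctor.{v} n).map k.op).app G := by
  rw [← cancel_epi ((homCx K R).homologyπ n), HomologicalComplex.homologyπ_naturality_assoc,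
    π_homToExt, ← Category.assoc ((homCx K R).homologyπ n), π_homToExt]
  ext x
  show cycToExtFun K' R n ((HomologicalComplex.cyclesMap (homCxMap k R) n).hom x) =
    (Abelian.Ext.mk₀ k).comp (cycToExtFun K R n x) (zero_add n)
  unfold cycToExtFun
  rw [InjectiveResolution.mk₀_comp_extMk]
  apply extMk_congr
  exact congrArg (fun ψ => ψ.hom x) (HomologicalComplex.cyclesMap_i (homCxMap k R) n)

end Groth.Agent.Lib.ExtNatK
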