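import Mathlib
import Groth.Agent.Lib.LerayHU_helper2

/-!
# The derived functors of the sections functor are `Sheaf.H'` (helper2)
-/

set_option autoImplicit false
universe u
open CategoryTheory Limits Opposite Abelian

namespace Groth.Agent.Lib.SectionsDer
open Groth.Agent.Lib.FreeSheaf Groth.Agent.Lib.LerayHU

variable {C : Type u} [SmallCategory C] (J : GrothendieckTopology C)

/-- sections over `U` as a functor to abelian groups -/
noncomputable abbrev sections (U : C) : Sheaf J AddCommGrpCat.{u} ⥤ AddCommGrpCat.{u} :=
  sheafToPresheaf J AddCommGrpCat.{u} ⋙ (evaluation Cᵒᵖ AddCommGrpCat.{u}).obj (op U)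

instance (U : C) : PreservesFiniteLimits (sections J U) := by
  haveI : PreservesLimits (sections J U) := Limits.comp_preservesLimits _ _
  infer_instance

/-- `Hom(ℤ_U, -) ≅ Γ(U, -)` -/
noncomputable def homIsoSections (U : C) : ExtDer.hom (freeSheaf J U) ≅ sections J U :=
  NatIso.ofComponents (fun F => (freeSheafHomAddEquiv J U F).toAddCommGrpIso)
    (by
      intro F G φ
      ext f
      exact freeSheafHomEquiv_comp J U f φ)

/-- `R^p Γ(U, -) ≅ H^p(U, -)` -/
noncomputable def sectionsRightDerivedIso (U : C) (p : ℕ) (G : Sheaf J AddCommGrpCat.{u}) :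
    ((sections J U).rightDerived p).obj G ≅ Sheaf.H' G p U :=
  (ExtDer.rightDerivedIso (homIsoSections J U).symm p).app G ≪≫
    (ExtDer.natIso (freeSheaf J U) p).app G

end Groth.Agent.Lib.SectionsDer
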