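import Mathlib
import Groth.Prelude.Def_CohCx
import Groth.Agent.Lib.ExtNatK_helper2
import Groth.Agent.Lib.SectionsDer_helper2

/-!
# The right derived functors of the inclusion of sheaves into presheaves (helper2)

Presheaves of abelian groups are viewed as sheaves for the trivial topology `⊥`.
`R^q ι (M) ≅ (V ↦ H^q(V, M))`.
-/

set_option autoImplicit false
universe u
open CategoryTheory Limits Opposite Abelian

namespace Groth.Agent.Lib.PshDer
open Groth.Agent.Lib.FreeSheaf Groth.Agent.Lib.LerayHU Groth.Agent.Lib.SectionsDer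
  Groth.Agent.Lib.ExtNatK ExtDer

variable {C : Type u} [SmallCategory C] (J : GrothendieckTopology C)

/-- sheaves as presheaves (sheaves for the trivial topology) -/
noncomputable def toBot : Sheaf J AddCommGrpCat.{u} ⥤
    Sheaf (⊥ : GrothendieckTopology C) AddCommGrpCat.{u} :=
  sheafToPresheaf J _ ⋙ (sheafBotEquivalence _).inverse

instance : (toBot J).Additive where
  map_add := rfl

/-- sheafification is left adjoint to `toBot` -/
noncomputable def toBotAdj :
    (sheafToPresheaf (⊥ : GrothendieckTopology C) AddCommGrpCat.{u} ⋙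
      presheafToSheaf J AddCommGrpCat.{u}) ⊣ toBot J :=
  (sheafBotEquivalence _).toAdjunction.comp (sheafificationAdjunction J _)

lemma injective_toBot (Q : Sheaf J AddCommGrpCat.{u}) [Injective Q] :
    Injective ((toBot J).obj Q) := by
  haveI : (sheafToPresheaf (⊥ : GrothendieckTopology C) AddCommGrpCat.{u}).IsEquivalence :=
    (sheafBotEquivalence _).isEquivalence_functor
  exact Injective.injective_of_adjoint (toBotAdj J) Q

instance (V : C) : PreservesFiniteColimits (sections (⊥ : GrothendieckTopology C) V) := by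
  haveI : (sheafToPresheaf (⊥ : GrothendieckTopology C) AddCommGrpCat.{u}).IsEquivalence :=
    (sheafBotEquivalence _).isEquivalence_functor
  haveI : PreservesColimits (sections (⊥ : GrothendieckTopology C) V) :=
    Limits.comp_preservesColimits _ _
  infer_instance

/-- restriction of sections -/
noncomputable def τ {V V' : C} (g : V' ⟶ V) :
    sections (⊥ : GrothendieckTopology C) V ⟶ sections (⊥ : GrothendieckTopology C) V' :=
  Functor.whiskerLeft _ ((evaluation Cᵒᵖ AddCommGrpCat.{u}).map g.op)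

lemma τ_app {V V' : C} (g : V' ⟶ V)
    (A : Sheaf (⊥ : GrothendieckTopology C) AddCommGrpCat.{u}) :
    (τ g).app A = A.obj.map g.op := rfl

/-- sections of `toBot F` are maps out of the free sheaf -/
noncomputable def β (V : C) :
    toBot J ⋙ sections (⊥ : GrothendieckTopology C) V ≅ ExtDer.hom (freeSheaf J V) :=
  (NatIso.ofComponents (fun F => Iso.refl _) (by intros; rfl) :
    toBot J ⋙ sections (⊥ : GrothendieckTopology C) V ≅ sections J V) ≪≫ (homIsoSections J V).symm

lemma β_hom_app_apply (V : C) (F : Sheaf J AddCommGrpCat.{u}) (s : F.obj.obj (op V)) :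
    ((β J V).hom.app F).hom s = (freeSheafHomEquiv J V F).symm s := rfl

lemma β_naturality_left {V V' : C} (g : V' ⟶ V) (F : Sheaf J AddCommGrpCat.{u})
    (s : F.obj.obj (op V)) :
    (freeSheafHomEquiv J V' F).symm (F.obj.map g.op s) =
      freeSheafMap J g ≫ (freeSheafHomEquiv J V F).symm s := by
  apply (freeSheafHomEquiv J V' F).injective
  rw [Equiv.apply_symm_apply, freeSheafHomEquiv_map, Equiv.apply_symm_apply]

lemma comm_aux {𝒞 : Type*} [Category 𝒞] {X X' A A' B B' E E' : 𝒞} (t : X ⟶ X') (iV : A ≅ X)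
    (iV' : A' ≅ X') (mτ : A ⟶ A') (cV : A ⟶ B) (cV' : A' ⟶ B') (hm : B ⟶ B') (tV : B ⟶ E)
    (tV' : B' ⟶ E') (x : E ⟶ E') (F1 : t = iV.inv ≫ mτ ≫ iV'.hom) (F2 : mτ ≫ cV' = cV ≫ hm)
    (F3 : hm ≫ tV' = tV ≫ x) :
    t ≫ (iV'.inv ≫ cV' ≫ tV') = (iV.inv ≫ cV ≫ tV) ≫ x := by
  subst F1
  simp only [Category.assoc, Iso.hom_inv_id_assoc]
  rw [reassoc_of% F2, F3]

section Key

variable {M : Sheaf J AddCommGrpCat.{u}} (R : InjectiveResolution M)

/-- the complex of presheaves `ι R^•` -/
noncomputable abbrev K : CochainComplex (Sheaf (⊥ : GrothendieckTopology C) AddCommGrpCat.{u}) ℕ :=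
  ((toBot J).mapHomologicalComplex (ComplexShape.up ℕ)).obj R.cocomplex

/-- the sections over `V` of `ι R^•` form the complex `Hom(ℤ_V, R^•)` -/
noncomputable def cxIso (V : C) :
    ((sections (⊥ : GrothendieckTopology C) V).mapHomologicalComplex (ComplexShape.up ℕ)).obj
      (K J R) ≅ homCx (freeSheaf J V) R :=
  (NatIso.mapHomologicalComplex (β J V) (ComplexShape.up ℕ)).app R.cocomplex

lemma cxIso_naturality {V V' : C} (g : V' ⟶ V) :
    (NatTrans.mapHomologicalComplex (τ g) (ComplexShape.up ℕ)).app (K J R) ≫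
        (cxIso J R V').hom =
      (cxIso J R V).hom ≫ homCxMap (freeSheafMap J g) R := by
  ext n s
  exact β_naturality_left J g (R.cocomplex.X n) s

/-- `(R^q ι M)(V) ≅ Ext^q(ℤ_V, M)` -/
noncomputable def eV (q : ℕ) (V : C) :
    (sections (⊥ : GrothendieckTopology C) V).obj ((K J R).homology q) ≅
      extObj (freeSheaf J V) M q :=
  (((K J R).sc q).mapHomologyIso (sections (⊥ : GrothendieckTopology C) V)).symm ≪≫
    (HomologicalComplex.homologyFunctor _ _ q).mapIso (cxIso J R V) ≪≫
    homIso (freeSheaf J V) R q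

lemma eV_naturality (q : ℕ) {V V' : C} (g : V' ⟶ V) :
    ((K J R).homology q).obj.map g.op ≫ (eV J R q V').hom =
      (eV J R q V).hom ≫ ((Abelian.extFunctor.{u} q).map (freeSheafMap J g).op).app M := by
  have h1 := NatTrans.app_homology (τ g) ((K J R).sc q)
  have h2 := cxIso_naturality J R g
  have h3 := homToExt_naturality_left (freeSheafMap J g) R q
  have h4 : ((K J R).homology q).obj.map g.op =
      (((K J R).sc q).mapHomologyIso (sections (⊥ : GrothendieckTopology C) V)).inv ≫
        HomologicalComplex.homologyMap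
          ((NatTrans.mapHomologicalComplex (τ g) (ComplexShape.up ℕ)).app (K J R)) q ≫
        (((K J R).sc q).mapHomologyIso (sections (⊥ : GrothendieckTopology C) V')).hom := h1
  rw [h4]
  dsimp only [eV, Iso.trans_hom, Iso.symm_hom, Functor.mapIso_hom]
  have F2 : HomologicalComplex.homologyMap
        ((NatTrans.mapHomologicalComplex (τ g) (ComplexShape.up ℕ)).app (K J R)) q ≫
        HomologicalComplex.homologyMap (cxIso J R V').hom q =
      HomologicalComplex.homologyMap (cxIso J R V).hom q ≫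
        HomologicalComplex.homologyMap (homCxMap (freeSheafMap J g) R) q := by
    rw [← HomologicalComplex.homologyMap_comp, h2, HomologicalComplex.homologyMap_comp]
  exact comm_aux _ _ _ _ _ _ _ _ _ _ rfl F2 h3

/-- the homology presheaf of `ι R^•` is `V ↦ H^q(V, M)` -/
noncomputable def homologyPresheafIso (q : ℕ) :
    ((K J R).homology q).obj ≅ M.cohomologyPresheaf q :=
  NatIso.ofComponents (fun V => eV J R q V.unop) (by
    intro V V' g
    exact eV_naturality J R q g.unop)

end Key

/-- `R^q ι (M) ≅ (V ↦ H^q(V, M))` -/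
noncomputable def key (M : Sheaf J AddCommGrpCat.{u}) (q : ℕ) :
    ((toBot J).rightDerived q).obj M ≅
      (⟨M.cohomologyPresheaf q, Presheaf.isSheaf_bot _⟩ :
        Sheaf (⊥ : GrothendieckTopology C) AddCommGrpCat.{u}) :=
  (injectiveResolution M).isoRightDerivedObj (toBot J) q ≪≫
    (fullyFaithfulSheafToPresheaf _ _).preimageIso
      (homologyPresheafIso J (injectiveResolution M) q)

section Abut

variable (R : Cᵒᵖ ⥤ Type u)

/-- precomposition with an isomorphism, as an additive equivalence -/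
def precompAddEquiv {𝒜 : Type*} [Category 𝒜] [Preadditive 𝒜] {X Y : 𝒜} (i : X ≅ Y) (F : 𝒜) :
    (Y ⟶ F) ≃+ (X ⟶ F) where
  toFun f := i.hom ≫ f
  invFun g := i.inv ≫ g
  left_inv f := by simp
  right_inv g := by simp
  map_add' f g := by simp

/-- the free abelian presheaf on `R`, as a sheaf for the trivial topology -/
noncomputable abbrev Gb : Sheaf (⊥ : GrothendieckTopology C) AddCommGrpCat.{u} :=
  (presheafToSheaf (⊥ : GrothendieckTopology C) AddCommGrpCat.{u}).obj
    (R ⋙ AddCommGrpCat.free.{u})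

/-- the free abelian sheaf on the sheaf associated to `R` -/
noncomputable abbrev Ga : Sheaf J AddCommGrpCat.{u} :=
  (presheafToSheaf J AddCommGrpCat.{u}).obj
    (((presheafToSheaf J (Type u)).obj R).obj ⋙ AddCommGrpCat.free.{u})

/-- `ℤ[aR] ≅ a(ℤ[R])` -/
noncomputable def GaIso :
    Ga J R ≅ (presheafToSheaf J AddCommGrpCat.{u}).obj (R ⋙ AddCommGrpCat.free.{u}) :=
  (presheafToSheafCompComposeAndSheafifyIso J AddCommGrpCat.free.{u}).app R

instance : (presheafToSheaf J AddCommGrpCat.{u}).Additive :=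
  (sheafificationAdjunction J AddCommGrpCat.{u}).left_adjoint_additive

/-- `Hom_{PSh}(ℤ[R], ι F) ≃ Hom_{Sh}(ℤ[aR], F)` -/
noncomputable def abutEquiv (F : Sheaf J AddCommGrpCat.{u}) :
    (Gb R ⟶ (toBot J).obj F) ≃+ (Ga J R ⟶ F) :=
  ((sheafificationAdjunction (⊥ : GrothendieckTopology C) AddCommGrpCat.{u}).homAddEquiv
      (R ⋙ AddCommGrpCat.free.{u}) ((toBot J).obj F)).trans
    (((sheafificationAdjunction J AddCommGrpCat.{u}).homAddEquiv
      (R ⋙ AddCommGrpCat.free.{u}) F).symm.trans (precompAddEquiv (GaIso J R) F).symm.symm)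

lemma abutEquiv_comp {F F' : Sheaf J AddCommGrpCat.{u}} (f : Gb R ⟶ (toBot J).obj F)
    (φ : F ⟶ F') :
    abutEquiv J R F' (f ≫ (toBot J).map φ) = abutEquiv J R F f ≫ φ := by
  change (GaIso J R).hom ≫ ((sheafificationAdjunction J AddCommGrpCat.{u}).homEquiv _ _).symm
      ((sheafificationAdjunction (⊥ : GrothendieckTopology C) AddCommGrpCat.{u}).homEquiv _ _
        (f ≫ (toBot J).map φ)) =
    ((GaIso J R).hom ≫ ((sheafificationAdjunction J AddCommGrpCat.{u}).homEquiv _ _).symm
      ((sheafificationAdjunction (⊥ : GrothendieckTopology C) AddCommGrpCat.{u}).homEquiv _ _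
        f)) ≫ φ
  rw [Adjunction.homEquiv_naturality_right, Category.assoc]
  congr 1
  exact Adjunction.homEquiv_naturality_right_symm _ _ _

/-- `Hom_{PSh}(ℤ[R], ι -) ≅ Hom_{Sh}(ℤ[aR], -)` -/
noncomputable def abutIso : toBot J ⋙ ExtDer.hom (Gb R) ≅ ExtDer.hom (Ga J R) :=
  NatIso.ofComponents (fun F => (abutEquiv J R F).toAddCommGrpIso)
    (by
      intro F F' φ
      ext f
      exact abutEquiv_comp J R f φ)

end Abut

end Groth.Agent.Lib.PshDer
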