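import Mathlib
import Groth.Agent.Lib.PshDer_helper2

/-!
# The sheaf associated to a covering sieve (helper2)
-/

set_option autoImplicit false
universe u
open CategoryTheory Limits Opposite Abelian

namespace Groth.Agent.Lib.CovSieve
open Groth.Agent.Lib.FreeSheaf Groth.Agent.Lib.PshDer

variable {C : Type u} [SmallCategory C] (J : GrothendieckTopology C)

lemma W_functorInclusion {X : C} (S : Sieve X) (hS : S ∈ J X) :
    J.W (A := Type u) S.functorInclusion := by
  intro Z hZ
  rw [isSheaf_iff_isSheaf_of_type] at hZ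
  rw [Function.bijective_iff_existsUnique]
  exact Presieve.isSheafFor_iff_yonedaSheafCondition.1 (hZ S hS)

lemma isIso_sheafify_functorInclusion {X : C} (S : Sieve X) (hS : S ∈ J X) :
    IsIso ((presheafToSheaf J (Type u)).map S.functorInclusion) :=
  (J.W_iff _).1 (W_functorInclusion J S hS)

/-- the functor `K ↦ ℤ[K]` on sheaves of sets -/
noncomputable abbrev Gfun : Sheaf J (Type u) ⥤ Sheaf J AddCommGrpCat.{u} :=
  sheafToPresheaf J (Type u) ⋙ (Functor.whiskeringRight _ _ _).obj AddCommGrpCat.free.{u} ⋙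
    presheafToSheaf J AddCommGrpCat.{u}

/-- for a covering sieve `S` of `X`, `ℤ[aS] ≅ ℤ_X` -/
noncomputable def GaCovIso {X : C} (S : Sieve X) (hS : S ∈ J X) :
    Ga J S.functor ≅ freeSheaf J X :=
  haveI := isIso_sheafify_functorInclusion J S hS
  (Gfun J).mapIso (asIso ((presheafToSheaf J (Type u)).map S.functorInclusion)) ≪≫
    GaIso J (yoneda.obj X)

end Groth.Agent.Lib.CovSieve
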