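import Mathlib

/-!
# Covering primes via Krull's principal ideal theorem (helper6)
-/

set_option autoImplicit false
universe u

namespace Groth.Agent.Lib.CoverPrime_helper6

theorem comap_map_mk_of_le {A : Type u} [CommRing A] (p Q : Ideal A) (h : p ≤ Q) :
    (Q.map (Ideal.Quotient.mk p)).comap (Ideal.Quotient.mk p) = Q := by
  rw [Ideal.comap_map_of_surjective _ Ideal.Quotient.mk_surjective, ← RingHom.ker_eq_comap_bot,
    Ideal.mk_ker, sup_eq_left.2 h]

/-- a prime minimal over `p + (x)` covers `p` -/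
theorem eq_of_lt_minimalPrimes {A : Type u} [CommRing A] [IsNoetherianRing A] (p : Ideal A)
    [p.IsPrime] (x : A) (P : Ideal A) (hP : P ∈ (p ⊔ Ideal.span {x}).minimalPrimes)
    (Q : Ideal A) [Q.IsPrime] (hpQ : p ≤ Q) (hQP : Q < P) : Q = p := by
  have hPprime : P.IsPrime := hP.1.1
  have hpP : p ≤ P := le_trans le_sup_left hP.1.2
  have hht := Ideal.map_height_le_one_of_mem_minimalPrimes hP
  haveI : (Q.map (Ideal.Quotient.mk p)).IsPrime :=
    Ideal.map_isPrime_of_surjective Ideal.Quotient.mk_surjective (by rw [Ideal.mk_ker]; exact hpQ)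
  haveI : (P.map (Ideal.Quotient.mk p)).IsPrime :=
    Ideal.map_isPrime_of_surjective Ideal.Quotient.mk_surjective (by rw [Ideal.mk_ker]; exact hpP)
  have hlt : Q.map (Ideal.Quotient.mk p) < P.map (Ideal.Quotient.mk p) := by
    refine lt_of_le_of_ne (Ideal.map_mono hQP.le) ?_
    intro heq
    have h := congrArg (Ideal.comap (Ideal.Quotient.mk p)) heq
    rw [comap_map_mk_of_le p Q hpQ, comap_map_mk_of_le p P hpP] at h
    exact hQP.ne h
  have h1 := Ideal.height_add_one_le_of_lt_of_isPrime hlt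
  have h2 : (Q.map (Ideal.Quotient.mk p)).height + 1 ≤ 0 + 1 := by
    rw [zero_add]
    exact le_trans h1 hht
  have h3 : (Q.map (Ideal.Quotient.mk p)).height = 0 :=
    nonpos_iff_eq_zero.1 ((ENat.add_le_add_iff_right ENat.one_ne_top).1 h2)
  rw [Ideal.height_eq_zero_iff_eq_bot] at h3
  have h4 := comap_map_mk_of_le p Q hpQ
  rw [h3, ← RingHom.ker_eq_comap_bot, Ideal.mk_ker] at h4
  exact h4.symm

/-- if `q` does not cover `p` and `a ∈ q ∖ p`, there is a prime `P ≤ q` covering `p` with
`a ∉ P`. -/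
theorem exists_cover_avoiding {A : Type u} [CommRing A] [IsNoetherianRing A] (p q : Ideal A)
    [p.IsPrime] [q.IsPrime] (hpq : p ≤ q) (a : A) (haq : a ∈ q) (hap : a ∉ p)
    (p'' : Ideal A) [p''.IsPrime] (h1 : p < p'') (h2 : p'' < q) :
    ∃ P : Ideal A, P.IsPrime ∧ p < P ∧ P ≤ q ∧ a ∉ P ∧
      ∀ Q : Ideal A, Q.IsPrime → p ≤ Q → Q ≤ P → Q = p ∨ Q = P := by
  classical
  have hfin : (p ⊔ Ideal.span {a}).minimalPrimes.Finite :=
    Ideal.finite_minimalPrimes_of_isNoetherianRing A _
  have hJq : p ⊔ Ideal.span {a} ≤ q := sup_le hpq ((Ideal.span_singleton_le_iff_mem _).2 haq)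
  have hnot : ¬ ((q : Set A) ⊆ ⋃ i ∈ (↑hfin.toFinset : Set (Ideal A)), (i : Set A)) := by
    intro hsub
    obtain ⟨Pi, hPi, hqPi⟩ := (Ideal.subset_union_prime (f := fun i : Ideal A => i) ⊥ ⊥
      (fun i hi _ _ => ((hfin.mem_toFinset).1 hi).1.1)).1 hsub
    have hPi' := (hfin.mem_toFinset).1 hPi
    have h3 := eq_of_lt_minimalPrimes p a Pi hPi' p'' h1.le (lt_of_lt_of_le h2 hqPi)
    exact h1.ne h3.symm
  obtain ⟨x, hxq, hxnot⟩ := Set.not_subset.1 hnot
  have hxP : ∀ Pi ∈ (p ⊔ Ideal.span {a}).minimalPrimes, x ∉ Pi := by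
    intro Pi hPi hx
    apply hxnot
    exact Set.mem_iUnion₂.2 ⟨Pi, Finset.mem_coe.2 ((hfin.mem_toFinset).2 hPi), hx⟩
  obtain ⟨P0, hP0, _⟩ := Ideal.exists_minimalPrimes_le hJq
  have hxp : x ∉ p := fun hx => hxP P0 hP0 ((le_trans le_sup_left hP0.1.2) hx)
  have hxq' : p ⊔ Ideal.span {x} ≤ q := sup_le hpq ((Ideal.span_singleton_le_iff_mem _).2 hxq)
  obtain ⟨P, hP, hPq⟩ := Ideal.exists_minimalPrimes_le hxq'
  have hPprime : P.IsPrime := hP.1.1
  haveI := hPprime
  have hpP : p ≤ P := le_trans le_sup_left hP.1.2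
  have hxP' : x ∈ P := hP.1.2 (Ideal.mem_sup_right (Ideal.mem_span_singleton_self x))
  have hpltP : p < P := by
    refine lt_of_le_of_ne hpP ?_
    intro h
    apply hxp
    rw [h]
    exact hxP'
  refine ⟨P, hPprime, hpltP, hPq, ?_, ?_⟩
  · intro haP
    have hJP : p ⊔ Ideal.span {a} ≤ P := sup_le hpP ((Ideal.span_singleton_le_iff_mem _).2 haP)
    obtain ⟨Pi, hPi, hPiP⟩ := Ideal.exists_minimalPrimes_le hJP
    haveI : Pi.IsPrime := hPi.1.1
    have hpPi : p ≤ Pi := le_trans le_sup_left hPi.1.2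
    have haPi : a ∈ Pi := hPi.1.2 (Ideal.mem_sup_right (Ideal.mem_span_singleton_self a))
    rcases lt_or_eq_of_le hPiP with hlt | heq
    · have h3 := eq_of_lt_minimalPrimes p x P hP Pi hpPi hlt
      apply hap
      rw [← h3]
      exact haPi
    · apply hxP Pi hPi
      rw [heq]
      exact hxP'
  · intro Q hQ hpQ hQP
    rcases lt_or_eq_of_le hQP with hlt | heq
    · left
      haveI := hQ
      exact eq_of_lt_minimalPrimes p x P hP Q hpQ hlt
    · right
      exact heq

/-- covering is preserved by pulling back along a surjection -/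
theorem cover_comap {R A : Type u} [CommRing R] [CommRing A] (f : R →+* A)
    (hf : Function.Surjective f) (p p' : Ideal A)
    (hcov : ∀ Q : Ideal A, Q.IsPrime → p ≤ Q → Q ≤ p' → Q = p ∨ Q = p') :
    ∀ Q : Ideal R, Q.IsPrime → p.comap f ≤ Q → Q ≤ p'.comap f →
      Q = p.comap f ∨ Q = p'.comap f := by
  intro Q hQ h1 h2
  have hker : RingHom.ker f ≤ Q := by
    refine le_trans ?_ h1
    rw [RingHom.ker_eq_comap_bot]
    exact Ideal.comap_mono bot_le
  have hQm : (Q.map f).IsPrime := Ideal.map_isPrime_of_surjective hf hker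
  have hcm : (Q.map f).comap f = Q := by
    rw [Ideal.comap_map_of_surjective f hf, ← RingHom.ker_eq_comap_bot, sup_eq_left.2 hker]
  have h1' : p ≤ Q.map f :=
    le_trans (le_of_eq (Ideal.map_comap_of_surjective f hf p).symm) (Ideal.map_mono h1)
  have h2' : Q.map f ≤ p' :=
    le_trans (Ideal.map_mono h2) (le_of_eq (Ideal.map_comap_of_surjective f hf p'))
  rcases hcov _ hQm h1' h2' with h | h
  · left
    rw [← hcm, h]
  · right
    rw [← hcm, h]

/-- if `P'` covers `P` then `dim (R/P)_{P'} ≤ 1` -/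
theorem supportDim_quot_le_one {R : Type u} [CommRing R] [IsNoetherianRing R] (P P' : Ideal R)
    [P.IsPrime] [P'.IsPrime]
    (hcov : ∀ Q : Ideal R, Q.IsPrime → P ≤ Q → Q ≤ P' → Q = P ∨ Q = P') :
    Module.supportDim (Localization.AtPrime P') (LocalizedModule P'.primeCompl (R ⧸ P)) ≤ 1 := by
  haveI : IsNoetherianRing (Localization.AtPrime P') :=
    IsLocalization.isNoetherianRing P'.primeCompl _ inferInstance
  haveI : Module.Finite (Localization.AtPrime P') (LocalizedModule P'.primeCompl (R ⧸ P)) :=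
    Module.Finite.of_isLocalizedModule P'.primeCompl
      (LocalizedModule.mkLinearMap P'.primeCompl (R ⧸ P))
  have hcm : Ideal.comap (algebraMap R (Localization.AtPrime P'))
      (IsLocalRing.maximalIdeal (Localization.AtPrime P')) = P' :=
    Localization.AtPrime.under_maximalIdeal
  have hle : ∀ x : Module.support (Localization.AtPrime P')
      (LocalizedModule P'.primeCompl (R ⧸ P)),
      P.map (algebraMap R (Localization.AtPrime P')) ≤ x.1.asIdeal := by
    intro x
    have hx := (Module.mem_support_iff_of_finite).1 x.2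
    refine le_trans ?_ hx
    rw [Ideal.map_le_iff_le_comap]
    intro r hr
    rw [Ideal.mem_comap, Module.mem_annihilator]
    intro z
    induction z using LocalizedModule.induction_on with
    | h m s =>
      have h0 : r • m = 0 := by
        rw [Algebra.smul_def, Ideal.Quotient.algebraMap_eq,
          Ideal.Quotient.eq_zero_iff_mem.2 hr, zero_mul]
      rw [algebraMap_smul, LocalizedModule.smul'_mk, h0, LocalizedModule.zero_mk]
  have key : ∀ x : Module.support (Localization.AtPrime P')
      (LocalizedModule P'.primeCompl (R ⧸ P)),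
      x.1.asIdeal = P.map (algebraMap R (Localization.AtPrime P')) ∨
        x.1.asIdeal = IsLocalRing.maximalIdeal (Localization.AtPrime P') := by
    intro x
    haveI : x.1.asIdeal.IsPrime := x.1.2
    have hQ0 := hcov (x.1.asIdeal.comap (algebraMap R (Localization.AtPrime P'))) inferInstance
      (Ideal.map_le_iff_le_comap.1 (hle x))
      (le_trans (Ideal.comap_mono (IsLocalRing.le_maximalIdeal x.1.2.ne_top)) (le_of_eq hcm))
    have h6 : Ideal.map (algebraMap R (Localization.AtPrime P'))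
        (Ideal.comap (algebraMap R (Localization.AtPrime P')) x.1.asIdeal) = x.1.asIdeal :=
      IsLocalization.map_under P'.primeCompl _ x.1.asIdeal
    rcases hQ0 with h | h
    · left
      rw [← h6, h]
    · right
      rw [← h6, h]
      exact Localization.AtPrime.map_eq_maximalIdeal
  unfold Module.supportDim
  rw [Order.krullDim_le_one_iff]
  intro x
  rcases key x with h | h
  · left
    intro y _
    show x.1.asIdeal ≤ y.1.asIdeal
    rw [h]
    exact hle y
  · right
    intro y _
    show y.1.asIdeal ≤ x.1.asIdeal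
    rw [h]
    exact IsLocalRing.le_maximalIdeal y.1.2.ne_top

end Groth.Agent.Lib.CoverPrime_helper6
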