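import Mathlib

/-!
# Separatedness descends along a jointly surjective pair of universally closed morphisms
-/

namespace Groth.Agent.CoverSep

open CategoryTheory Limits AlgebraicGeometry TopologicalSpace Opposite

universe u

variable {X Y P S : Scheme.{u}} (a : X ⟶ P) (b : Y ⟶ P) (r : P ⟶ S)

/-- `a × a` on fibre products -/
noncomputable abbrev sq : pullback (a ≫ r) (a ≫ r) ⟶ pullback r r :=
  pullback.map (a ≫ r) (a ≫ r) r r a a (𝟙 S) (Category.comp_id _) (Category.comp_id _)

theorem diagonal_sq : pullback.diagonal (a ≫ r) ≫ sq a r = a ≫ pullback.diagonal r := by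
  apply pullback.hom_ext
  · rw [Category.assoc, Category.assoc, pullback.lift_fst, pullback.diagonal_fst_assoc,
      pullback.diagonal_fst, Category.comp_id]
  · rw [Category.assoc, Category.assoc, pullback.lift_snd, pullback.diagonal_snd_assoc,
      pullback.diagonal_snd, Category.comp_id]

theorem range_diagonal (hcover : ∀ t : P, (∃ x, a x = t) ∨ ∃ y, b y = t) :
    Set.range (pullback.diagonal r) =
      (sq a r) '' Set.range (pullback.diagonal (a ≫ r)) ∪
        (sq b r) '' Set.range (pullback.diagonal (b ≫ r)) := by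
  have ha : ∀ x, sq a r (pullback.diagonal (a ≫ r) x) = pullback.diagonal r (a x) := fun x => by
    have h := congrArg (fun m => m.base) (diagonal_sq a r)
    exact congr($h x)
  have hb : ∀ y, sq b r (pullback.diagonal (b ≫ r) y) = pullback.diagonal r (b y) := fun y => by
    have h := congrArg (fun m => m.base) (diagonal_sq b r)
    exact congr($h y)
  ext w
  constructor
  · rintro ⟨t, rfl⟩
    rcases hcover t with ⟨x, rfl⟩ | ⟨y, rfl⟩
    · exact Or.inl ⟨_, ⟨x, rfl⟩, ha x⟩
    · exact Or.inr ⟨_, ⟨y, rfl⟩, hb y⟩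
  · rintro (⟨_, ⟨x, rfl⟩, rfl⟩ | ⟨_, ⟨y, rfl⟩, rfl⟩)
    · exact ⟨a x, (ha x).symm⟩
    · exact ⟨b y, (hb y).symm⟩

theorem isSeparated_of_cover [UniversallyClosed a] [UniversallyClosed b]
    (hcover : ∀ t : P, (∃ x, a x = t) ∨ ∃ y, b y = t)
    [IsSeparated (a ≫ r)] [IsSeparated (b ≫ r)] : IsSeparated r := by
  haveI : UniversallyClosed (sq a r) :=
    MorphismProperty.pullbackMap (P := @UniversallyClosed) ‹_› ‹_› rfl rfl
  haveI : UniversallyClosed (sq b r) :=
    MorphismProperty.pullbackMap (P := @UniversallyClosed) ‹_› ‹_› rfl rfl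
  refine ⟨IsClosedImmersion.of_isPreimmersion _ ?_⟩
  rw [range_diagonal a b r hcover]
  refine IsClosed.union ?_ ?_
  · exact (sq a r).isClosedMap _ (pullback.diagonal (a ≫ r)).isClosedEmbedding.isClosed_range
  · exact (sq b r).isClosedMap _ (pullback.diagonal (b ≫ r)).isClosedEmbedding.isClosed_range

theorem quasiSeparated_of_cover [IsAffineHom a] [IsAffineHom b]
    (hcover : ∀ t : P, (∃ x, a x = t) ∨ ∃ y, b y = t)
    [QuasiSeparated (a ≫ r)] [QuasiSeparated (b ≫ r)] : QuasiSeparated r := by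
  haveI : IsAffineHom (sq a r) :=
    MorphismProperty.pullbackMap (P := @IsAffineHom) ‹_› ‹_› rfl rfl
  haveI : IsAffineHom (sq b r) :=
    MorphismProperty.pullbackMap (P := @IsAffineHom) ‹_› ‹_› rfl rfl
  refine ⟨quasiCompact_iff_forall_isAffineOpen.mpr fun W hW => ?_⟩
  have hWa : IsCompact ((pullback.diagonal (a ≫ r) ≫ sq a r) ⁻¹ᵁ W : Set X) := by
    rw [Scheme.Hom.comp_preimage]
    exact (pullback.diagonal (a ≫ r)).isCompact_preimage (hW.preimage (sq a r)).isCompact
  have hWb : IsCompact ((pullback.diagonal (b ≫ r) ≫ sq b r) ⁻¹ᵁ W : Set Y) := by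
    rw [Scheme.Hom.comp_preimage]
    exact (pullback.diagonal (b ≫ r)).isCompact_preimage (hW.preimage (sq b r)).isCompact
  rw [diagonal_sq] at hWa hWb
  have e : (pullback.diagonal r ⁻¹ᵁ W : Set P) =
      a '' ((a ≫ pullback.diagonal r) ⁻¹ᵁ W : Set X) ∪
        b '' ((b ≫ pullback.diagonal r) ⁻¹ᵁ W : Set Y) := by
    ext t
    constructor
    · intro ht
      rcases hcover t with ⟨x, rfl⟩ | ⟨y, rfl⟩
      · exact Or.inl ⟨x, ht, rfl⟩
      · exact Or.inr ⟨y, ht, rfl⟩
    · rintro (⟨x, hx, rfl⟩ | ⟨y, hy, rfl⟩)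
      · exact hx
      · exact hy
  rw [e]
  exact (hWa.image a.continuous).union (hWb.image b.continuous)

end Groth.Agent.CoverSep
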