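import Mathlib
import Groth.Agent.Lib.CoverSep_helper5

/-!
# Quasi-compactness, universal closedness and properness descend along a jointly surjective pair
-/

namespace Groth.Agent.CoverSep

open CategoryTheory Limits AlgebraicGeometry TopologicalSpace Opposite

universe u

variable {X Y P S : Scheme.{u}} (a : X ⟶ P) (b : Y ⟶ P) (r : P ⟶ S)

theorem quasiCompact_of_cover (hcover : ∀ t : P, (∃ x, a x = t) ∨ ∃ y, b y = t)
    [QuasiCompact (a ≫ r)] [QuasiCompact (b ≫ r)] : QuasiCompact r := by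
  refine ⟨fun K hKo hK => ?_⟩
  have h1 : IsCompact ((a ≫ r) ⁻¹' K) := QuasiCompact.isCompact_preimage K hKo hK
  have h2 : IsCompact ((b ≫ r) ⁻¹' K) := QuasiCompact.isCompact_preimage K hKo hK
  have e : r ⁻¹' K = a '' ((a ≫ r) ⁻¹' K) ∪ b '' ((b ≫ r) ⁻¹' K) := by
    ext t
    constructor
    · intro ht
      rcases hcover t with ⟨x, rfl⟩ | ⟨y, rfl⟩
      · exact Or.inl ⟨x, ht, rfl⟩
      · exact Or.inr ⟨y, ht, rfl⟩
    · rintro (⟨x, hx, rfl⟩ | ⟨y, hy, rfl⟩)
      · exact hx
      · exact hy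
  rw [e]
  exact (h1.image a.continuous).union (h2.image b.continuous)

theorem universallyClosed_of_cover (hcover : ∀ t : P, (∃ x, a x = t) ∨ ∃ y, b y = t)
    [UniversallyClosed (a ≫ r)] [UniversallyClosed (b ≫ r)] : UniversallyClosed r := by
  constructor
  intro P' S' i₁ i₂ r' H
  have ha : IsClosedMap (pullback.fst i₁ a ≫ r') :=
    UniversallyClosed.universally_isClosedMap _ _ _ ((IsPullback.of_hasPullback i₁ a).paste_horiz H)
  have hb : IsClosedMap (pullback.fst i₁ b ≫ r') :=
    UniversallyClosed.universally_isClosedMap _ _ _ ((IsPullback.of_hasPullback i₁ b).paste_horiz H)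
  intro C hC
  have e : r' '' C = (pullback.fst i₁ a ≫ r') '' (pullback.fst i₁ a ⁻¹' C) ∪
      (pullback.fst i₁ b ≫ r') '' (pullback.fst i₁ b ⁻¹' C) := by
    ext s
    constructor
    · rintro ⟨x', hx', rfl⟩
      rcases hcover (i₁ x') with ⟨x, hx⟩ | ⟨y, hy⟩
      · obtain ⟨w, hw1, -⟩ := Scheme.Pullback.exists_preimage_pullback (f := i₁) (g := a) x' x
          hx.symm
        refine Or.inl ⟨w, ?_, ?_⟩
        · show pullback.fst i₁ a w ∈ C
          rw [hw1]
          exact hx'
        · show r' (pullback.fst i₁ a w) = r' x'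
          rw [hw1]
      · obtain ⟨w, hw1, -⟩ := Scheme.Pullback.exists_preimage_pullback (f := i₁) (g := b) x' y
          hy.symm
        refine Or.inr ⟨w, ?_, ?_⟩
        · show pullback.fst i₁ b w ∈ C
          rw [hw1]
          exact hx'
        · show r' (pullback.fst i₁ b w) = r' x'
          rw [hw1]
    · rintro (⟨w, hw, rfl⟩ | ⟨w, hw, rfl⟩)
      · exact ⟨pullback.fst i₁ a w, hw, rfl⟩
      · exact ⟨pullback.fst i₁ b w, hw, rfl⟩
  show IsClosed (r' '' C)
  rw [e]
  exact (ha _ (hC.preimage (pullback.fst i₁ a).continuous)).union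
    (hb _ (hC.preimage (pullback.fst i₁ b).continuous))

end Groth.Agent.CoverSep
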