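import Mathlib
import Groth.Prelude
import Groth.Agent.Lib.LocCrit_helper8

/-!
# Compactifications: the open-part functor is a localization (helper8)
APPEND-ONLY once landed.
-/

set_option autoImplicit false
set_option linter.style.haveILetI false
set_option linter.unusedSectionVars false
set_option linter.unusedVariables false

namespace Groth.Agent.Lib.CpctLocH8

open CategoryTheory CategoryTheory.Limits AlgebraicGeometry Cpct

universe u

/-- Two morphisms out of a scheme-theoretic image, agreeing over a separated base and after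
composition with the canonical map to the image, are equal. -/
theorem eq_of_toImage_comp_eq {T Y' Y S : Scheme.{u}} (j : T ⟶ Y') [QuasiCompact j]
    (a b : j.image ⟶ Y) (p : Y ⟶ S) [IsSeparated p] (h : a ≫ p = b ≫ p)
    (hab : j.toImage ≫ a = j.toImage ≫ b) : a = b := by
  let X' : Over S := Over.mk (a ≫ p)
  let Y'' : Over S := Over.mk p
  let U' : Over S := Over.mk (j.toImage ≫ a ≫ p)
  let f' : X' ⟶ Y'' := Over.homMk a
  let g' : X' ⟶ Y'' := Over.homMk b h.symm
  let ι' : U' ⟶ X' := Over.homMk j.toImage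
  haveI : IsSeparated Y''.hom := ‹_›
  let e := (equalizer.ι f' g').left
  let t' := (equalizer.lift ι' (show ι' ≫ f' = ι' ≫ g' by ext1; exact hab)).left
  have ht : t' ≫ e = j.toImage := by
    change (equalizer.lift ι' _).left ≫ (equalizer.ι f' g').left = _
    rw [← Over.comp_left, equalizer.lift_ι]
    rfl
  haveI : IsClosedImmersion e := isClosedImmersion_equalizer_ι_left f' g'
  haveI : IsIso e := by
    refine IsClosedImmersion.isIso_of_ker_eq (e ≫ j.imageι) j.imageι e rfl ?_
    apply le_antisymm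
    · have h1 : (e ≫ j.imageι).ker ≤ (t' ≫ e ≫ j.imageι).ker := Scheme.Hom.le_ker_comp _ _
      rw [← Category.assoc, ht, j.toImage_imageι] at h1
      rwa [Scheme.Hom.imageι, Scheme.IdealSheafData.ker_subschemeι]
    · exact Scheme.Hom.le_ker_comp _ _
  rw [← cancel_epi e]
  exact congr($(equalizer.condition f' g').left)

section Img

variable {S : Scheme.{u}} {T P : Scheme.{u}} (γ : T ⟶ P) [IsImmersion γ] [QuasiCompact γ]
  [CompactSpace T] (q : P ⟶ S) [IsProper q]

/-- The compactification of `T` given by the scheme-theoretic image of a quasi-compact immersion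
into a proper `S`-scheme. -/
noncomputable def imgPair : Pair S where
  bar := Over.mk (γ.imageι ≫ q)
  U := γ.toImage.opensRange
  isProper := by
    change IsProper (γ.imageι ≫ q)
    infer_instance
  isCompact := by
    change IsCompact (Set.range γ.toImage)
    exact isCompact_range γ.toImage.continuous

/-- The isomorphism of `T` with the open part of `imgPair`. -/
noncomputable def imgIso : T ≅ ((imgPair γ q).U : Scheme.{u}) :=
  γ.toImage.isoOpensRange

theorem imgIso_hom_ι : (imgIso γ q).hom ≫ (imgPair γ q).U.ι = γ.toImage :=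
  γ.toImage.isoOpensRange_hom_ι

variable {γ q} in
/-- A morphism out of `imgPair`. -/
noncomputable def imgHom (B : Pair S) (φ : P ⟶ B.bar.left) (hφ : φ ≫ B.bar.hom = q)
    (hle : ∀ t : T, φ (γ t) ∈ B.U) : imgPair γ q ⟶ B where
  bar := Over.homMk (γ.imageι ≫ φ) (by
    change (γ.imageι ≫ φ) ≫ B.bar.hom = γ.imageι ≫ q
    rw [Category.assoc, hφ])
  le := by
    rintro x ⟨t, rfl⟩
    change (γ.imageι ≫ φ) (γ.toImage t) ∈ B.U
    have h1 : (γ.imageι ≫ φ) (γ.toImage t) = φ (γ t) := by
      rw [← Scheme.Hom.comp_apply, ← Category.assoc, γ.toImage_imageι]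
      rfl
    rw [h1]
    exact hle t

variable {γ q} in
theorem imgIso_hom_restr (B : Pair S) (φ : P ⟶ B.bar.left) (hφ : φ ≫ B.bar.hom = q)
    (hle : ∀ t : T, φ (γ t) ∈ B.U) (ψ : T ⟶ (B.U : Scheme.{u})) (hψ : ψ ≫ B.U.ι = γ ≫ φ) :
    (imgIso γ q).hom ≫ restr (imgHom B φ hφ hle) = ψ := by
  rw [← cancel_mono B.U.ι, Category.assoc, hψ]
  change (imgIso γ q).hom ≫ Scheme.Hom.resLE _ _ _ _ ≫ B.U.ι = _
  rw [Scheme.Hom.resLE_comp_ι, ← Category.assoc, imgIso_hom_ι]
  change γ.toImage ≫ γ.imageι ≫ φ = _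
  rw [← Category.assoc, γ.toImage_imageι]

end Img

section Main

variable (S : Scheme.{u})

theorem isoOpen_iff {A B : Pair S} (f : A ⟶ B) :
    isoOpen S f ↔ IsIso ((openFunctor S).map f) := by
  rw [← isIso_iff_of_reflects_iso _ (ObjectProperty.ι (IsCompactifyable S)),
    ← isIso_iff_of_reflects_iso _ (Over.forget S)]
  rfl

instance essSurj_openFunctor : (openFunctor S).EssSurj := ⟨fun Y => by
  obtain ⟨A, ⟨e⟩⟩ := Y.property
  exact ⟨A, ⟨(ObjectProperty.ι (IsCompactifyable S)).preimageIso e⟩⟩⟩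

variable [QuasiSeparatedSpace S]

theorem hfull (A B : Pair S) (g : (openFunctor S).obj A ⟶ (openFunctor S).obj B) :
    ∃ (A' : Pair S) (s : A' ⟶ A) (f : A' ⟶ B), isoOpen S s ∧
      (openFunctor S).map s ≫ g = (openFunctor S).map f := by
  haveI := A.isProper
  haveI := B.isProper
  let P := pullback A.bar.hom B.bar.hom
  let q : P ⟶ S := pullback.fst A.bar.hom B.bar.hom ≫ A.bar.hom
  haveI : IsProper q := inferInstance
  let gl : (A.U : Scheme.{u}) ⟶ (B.U : Scheme.{u}) := g.hom.left
  have hgl : gl ≫ B.U.ι ≫ B.bar.hom = A.U.ι ≫ A.bar.hom := Over.w g.hom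
  let γ : (A.U : Scheme.{u}) ⟶ P := pullback.lift A.U.ι (gl ≫ B.U.ι) (by rw [Category.assoc, hgl])
  have hγ1 : γ ≫ pullback.fst A.bar.hom B.bar.hom = A.U.ι := pullback.lift_fst _ _ _
  have hγ2 : γ ≫ pullback.snd A.bar.hom B.bar.hom = gl ≫ B.U.ι := pullback.lift_snd _ _ _
  haveI : IsImmersion γ := by
    haveI : IsImmersion (γ ≫ pullback.fst A.bar.hom B.bar.hom) := by rw [hγ1]; infer_instance
    exact IsImmersion.of_comp γ (pullback.fst A.bar.hom B.bar.hom)
  haveI : QuasiSeparatedSpace P := quasiSeparatedSpace_of_quasiSeparated q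
  haveI : CompactSpace (A.U : Scheme.{u}) := isCompact_iff_compactSpace.mp A.isCompact
  haveI : QuasiCompact γ := inferInstance
  let s : imgPair γ q ⟶ A := imgHom (γ := γ) (q := q) A (pullback.fst A.bar.hom B.bar.hom) rfl
    (fun t => by
      rw [← Scheme.Hom.comp_apply, hγ1]
      exact t.2)
  let f : imgPair γ q ⟶ B := imgHom (γ := γ) (q := q) B (pullback.snd A.bar.hom B.bar.hom)
    pullback.condition.symm
    (fun t => by
      rw [← Scheme.Hom.comp_apply, hγ2, Scheme.Hom.comp_apply]
      exact (gl t).2)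
  have h1 : (imgIso γ q).hom ≫ restr s = 𝟙 _ :=
    imgIso_hom_restr A _ _ _ (𝟙 _) (by rw [Category.id_comp, hγ1])
  refine ⟨imgPair γ q, s, f, ?_, ?_⟩
  · change IsIso (restr s)
    have h2 : restr s = (imgIso γ q).inv := by
      rw [← cancel_epi (imgIso γ q).hom, h1, Iso.hom_inv_id]
    rw [h2]
    infer_instance
  · apply ObjectProperty.hom_ext
    apply Over.OverMorphism.ext
    change restr s ≫ gl = restr f
    rw [← cancel_epi (imgIso γ q).hom, ← Category.assoc, h1, Category.id_comp]
    exact (imgIso_hom_restr B _ _ _ gl hγ2.symm).symm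

theorem hfaith (A B : Pair S) (f₁ f₂ : A ⟶ B)
    (h : (openFunctor S).map f₁ = (openFunctor S).map f₂) :
    ∃ (A' : Pair S) (s : A' ⟶ A), isoOpen S s ∧ s ≫ f₁ = s ≫ f₂ := by
  haveI := A.isProper
  haveI := B.isProper
  haveI : QuasiSeparatedSpace A.bar.left := quasiSeparatedSpace_of_quasiSeparated A.bar.hom
  haveI : CompactSpace (A.U : Scheme.{u}) := isCompact_iff_compactSpace.mp A.isCompact
  let γ : (A.U : Scheme.{u}) ⟶ A.bar.left := A.U.ι
  haveI : QuasiCompact γ := inferInstance
  let q : A.bar.left ⟶ S := A.bar.hom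
  let s : imgPair γ q ⟶ A := imgHom (γ := γ) (q := q) A (𝟙 _) (Category.id_comp _)
    (fun t => t.2)
  have hr : restr f₁ = restr f₂ := congrArg (fun k => k.hom.left) h
  have h1 : (imgIso γ q).hom ≫ restr s = 𝟙 _ :=
    imgIso_hom_restr A _ _ _ (𝟙 _) (by rw [Category.id_comp, Category.comp_id])
  refine ⟨imgPair γ q, s, ?_, ?_⟩
  · change IsIso (restr s)
    have h2 : restr s = (imgIso γ q).inv := by
      rw [← cancel_epi (imgIso γ q).hom, h1, Iso.hom_inv_id]
    rw [h2]
    infer_instance
  · apply Pair.Hom.ext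
    apply Over.OverMorphism.ext
    change (γ.imageι ≫ 𝟙 _) ≫ f₁.bar.left = (γ.imageι ≫ 𝟙 _) ≫ f₂.bar.left
    rw [Category.comp_id]
    refine eq_of_toImage_comp_eq γ _ _ B.bar.hom ?_ ?_
    · rw [Category.assoc, Category.assoc, Over.w, Over.w]
    · rw [← Category.assoc, ← Category.assoc, γ.toImage_imageι]
      have e1 : restr f₁ ≫ B.U.ι = A.U.ι ≫ f₁.bar.left := Scheme.Hom.resLE_comp_ι _ _
      have e2 : restr f₂ ≫ B.U.ι = A.U.ι ≫ f₂.bar.left := Scheme.Hom.resLE_comp_ι _ _
      rw [← e1, ← e2, hr]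

theorem isLocalization : (openFunctor S).IsLocalization (isoOpen S) :=
  LocCritH8.isLocalization_of_fractions (openFunctor S) (isoOpen S)
    (fun _ _ f => isoOpen_iff S f) (hfull S) (hfaith S)

theorem hasRightCalculusOfFractions : (isoOpen S).HasRightCalculusOfFractions :=
  LocCritH8.hasRightCalculusOfFractions_of_fractions (openFunctor S) (isoOpen S)
    (fun _ _ f => isoOpen_iff S f) (hfull S) (hfaith S)

end Main

end Groth.Agent.Lib.CpctLocH8
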