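import Mathlib
import Groth.Prelude.Def_Curv2
import Groth.Agent.Lib.FlatPtBC_helper4
import Groth.Agent.Lib.Serre_helper5
import Groth.Agent.Lib.DepthDescent_helper5

set_option autoImplicit false
set_option linter.style.haveILetI false
set_option linter.unusedSectionVars false
universe u
open scoped TensorProduct
open CategoryTheory CategoryTheory.Limits AlgebraicGeometry

namespace Groth.Agent.Lib.GeomRegDescH4

open Groth.Agent.Lib.FlatPtBCH4

theorem regular_of_flat_local' {R S : Type u} [CommRing R] [CommRing S] [IsLocalRing R]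
    [IsRegularLocalRing S] (φ : R →+* S) (hloc : IsLocalHom φ) (hflat : φ.Flat) :
    IsRegularLocalRing R := by
  letI : Algebra R S := φ.toAlgebra
  haveI : Module.Flat R S := hflat
  haveI : IsLocalHom (algebraMap R S) := hloc
  haveI : Module.FaithfullyFlat R S := Module.FaithfullyFlat.of_flat_of_isLocalHom
  haveI : IsNoetherianRing R := Groth.Agent.DepthLib.isNoetherianRing_of_faithfullyFlat R S
  exact Groth.Agent.Serre.regular_of_flat_local R S

theorem main1563 (k : Type u) [Field k] (X Y : Scheme.{u}) [X.Over (Spec (CommRingCat.of k))]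
    [Y.Over (Spec (CommRingCat.of k))]
    (f : X ⟶ Y) (hf : f ≫ (Y ↘ (Spec (CommRingCat.of k))) = X ↘ (Spec (CommRingCat.of k)))
    (x : X) (hflat : (f.stalkMap x).hom.Flat) (hx : Curv2.IsGeomRegularAt k X x) :
    Curv2.IsGeomRegularAt k Y (f.base x) := by
  intro K _ _ hfg y' hy'
  have hY : IsPullback (Curv2.bcFst k Y K) (Curv2.bcSnd k Y K) (Y ↘ Spec (CommRingCat.of k))
      (Spec.map (CommRingCat.ofHom (algebraMap k K))) := IsPullback.of_hasPullback _ _
  have hX : IsPullback (Curv2.bcFst k X K) (Curv2.bcSnd k X K) (X ↘ Spec (CommRingCat.of k))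
      (Spec.map (CommRingCat.ofHom (algebraMap k K))) := IsPullback.of_hasPullback _ _
  let fK : Curv2.bc k X K ⟶ Curv2.bc k Y K :=
    hY.lift (Curv2.bcFst k X K ≫ f) (Curv2.bcSnd k X K)
      (by rw [Category.assoc, hf]; exact pullback.condition)
  have hfK1 : fK ≫ Curv2.bcFst k Y K = Curv2.bcFst k X K ≫ f := hY.lift_fst _ _ _
  have hfK2 : fK ≫ Curv2.bcSnd k Y K = Curv2.bcSnd k X K := hY.lift_snd _ _ _
  have hsq : IsPullback (Curv2.bcFst k X K) fK f (Curv2.bcFst k Y K) := by
    refine IsPullback.of_bot ?_ hfK1.symm hY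
    rw [hfK2, hf]
    exact hX
  obtain ⟨x', hx'1, hx'2⟩ : ∃ x' : Curv2.bc k X K,
      Curv2.bcFst k X K x' = x ∧ fK x' = y' := by
    obtain ⟨z, hz1, hz2⟩ := Scheme.Pullback.exists_preimage_pullback
      (f := f) (g := Curv2.bcFst k Y K) x y' hy'.symm
    refine ⟨hsq.isoPullback.inv z, ?_, ?_⟩
    · rw [← Scheme.Hom.comp_apply, hsq.isoPullback_inv_fst]; exact hz1
    · rw [← Scheme.Hom.comp_apply, hsq.isoPullback_inv_snd]; exact hz2
  subst hx'1
  subst hx'2
  haveI hreg : IsRegularLocalRing ((Curv2.bc k X K).presheaf.stalk x') := hx K hfg x' rfl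
  have hfl : (fK.stalkMap x').hom.Flat := flat_baseChange_of_flat hsq x' hflat
  exact regular_of_flat_local' (fK.stalkMap x').hom (fK.toLRSHom.prop x') hfl

end Groth.Agent.Lib.GeomRegDescH4
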