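import Mathlib
import Groth.Agent.Lib.CMClosedPt_helper6
import Groth.Agent.Lib.Serre_helper5

/-!
# Regularity of local rings: generization; closed points of schemes (helper5)
-/

set_option autoImplicit false
universe u

namespace Groth.Agent.RegClosedPt

open AlgebraicGeometry

theorem atPrime_congr {R : Type u} [CommRing R] (S : Type u) [CommRing S] [Algebra R S]
    {I J : Ideal R} (h : I = J) [hI : I.IsPrime] [hJ : J.IsPrime]
    (hloc : IsLocalization.AtPrime S I) : IsLocalization.AtPrime S J := by
  subst h
  exact hloc

/-- Regularity of local rings of a ring is stable under generization. -/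
theorem regular_of_le {R : Type u} [CommRing R] (Q q' : Ideal R) [Q.IsPrime]
    [q'.IsPrime] (hle : q' ≤ Q)
    (hQ : IsRegularLocalRing (Localization.AtPrime Q)) :
    IsRegularLocalRing (Localization.AtPrime q') := by
  have hdisj : Disjoint (Q.primeCompl : Set R) (q' : Set R) := by
    rw [Set.disjoint_left]
    intro a ha ha'
    exact ha (hle ha')
  haveI hp : (q'.map (algebraMap R (Localization.AtPrime Q))).IsPrime :=
    IsLocalization.isPrime_of_isPrime_disjoint Q.primeCompl _ q' inferInstance hdisj
  have hcomap : (q'.map (algebraMap R (Localization.AtPrime Q))).comap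
      (algebraMap R (Localization.AtPrime Q)) = q' :=
    IsLocalization.under_map_of_isPrime_disjoint Q.primeCompl _ inferInstance hdisj
  haveI hreg : IsRegularLocalRing
      (Localization.AtPrime (q'.map (algebraMap R (Localization.AtPrime Q)))) :=
    Groth.Agent.Serre.localization_regular (Localization.AtPrime Q)
      (q'.map (algebraMap R (Localization.AtPrime Q)))
  haveI hloc : IsLocalization.AtPrime
      (Localization.AtPrime (q'.map (algebraMap R (Localization.AtPrime Q))))
      ((q'.map (algebraMap R (Localization.AtPrime Q))).comap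
        (algebraMap R (Localization.AtPrime Q))) :=
    IsLocalization.isLocalization_atPrime_localization_atPrime Q.primeCompl
      (q'.map (algebraMap R (Localization.AtPrime Q)))
  haveI hloc' : IsLocalization.AtPrime
      (Localization.AtPrime (q'.map (algebraMap R (Localization.AtPrime Q)))) q' := by
    exact atPrime_congr _ hcomap hloc
  let e : Localization.AtPrime (q'.map (algebraMap R (Localization.AtPrime Q))) ≃+*
      Localization.AtPrime q' :=
    (IsLocalization.algEquiv q'.primeCompl
      (Localization.AtPrime (q'.map (algebraMap R (Localization.AtPrime Q))))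
      (Localization.AtPrime q')).toRingEquiv
  exact IsRegularLocalRing.of_ringEquiv e

theorem regular_of_specializes (X : Scheme.{u}) {x z : X} (h : x ⤳ z)
    (hz : IsRegularLocalRing (X.presheaf.stalk z)) :
    IsRegularLocalRing (X.presheaf.stalk x) := by
  obtain ⟨_, ⟨U, hU, rfl⟩, hzU, -⟩ :=
    X.isBasis_affineOpens.exists_subset_of_mem_open (Set.mem_univ z) isOpen_univ
  have hU' : IsAffineOpen U := hU
  have hxU : x ∈ U := h.mem_open U.isOpen hzU
  let zU : U := ⟨z, hzU⟩
  let xU : U := ⟨x, hxU⟩
  letI algz := X.presheaf.algebra_section_stalk zU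
  letI algx := X.presheaf.algebra_section_stalk xU
  haveI locz := hU'.isLocalization_stalk zU
  haveI locx := hU'.isLocalization_stalk xU
  have hle : (hU'.primeIdealOf xU).asIdeal ≤ (hU'.primeIdealOf zU).asIdeal := by
    have h1 : xU ⤳ zU := (subtype_specializes_iff _ _).2 h
    have h2 := h1.map hU'.isoSpec.hom.continuous
    exact (PrimeSpectrum.le_iff_specializes _ _).2 h2
  let σz : Localization.AtPrime (hU'.primeIdealOf zU).asIdeal ≃+* X.presheaf.stalk (zU : X) :=
    (IsLocalization.algEquiv (hU'.primeIdealOf zU).asIdeal.primeCompl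
      (Localization.AtPrime (hU'.primeIdealOf zU).asIdeal) (X.presheaf.stalk (zU : X))).toRingEquiv
  let σx : Localization.AtPrime (hU'.primeIdealOf xU).asIdeal ≃+* X.presheaf.stalk (xU : X) :=
    (IsLocalization.algEquiv (hU'.primeIdealOf xU).asIdeal.primeCompl
      (Localization.AtPrime (hU'.primeIdealOf xU).asIdeal) (X.presheaf.stalk (xU : X))).toRingEquiv
  haveI hz0 : IsRegularLocalRing (X.presheaf.stalk (zU : X)) := hz
  haveI hz' : IsRegularLocalRing
      (Localization.AtPrime (hU'.primeIdealOf zU).asIdeal) :=
    IsRegularLocalRing.of_ringEquiv σz.symm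
  haveI hx' := regular_of_le _ _ hle hz'
  exact IsRegularLocalRing.of_ringEquiv σx

theorem main9807 (X : Scheme.{u}) [IsLocallyNoetherian X] :
    (∀ x : X, IsRegularLocalRing (X.presheaf.stalk x)) ↔
      ∀ x : X, IsClosed ({x} : Set X) → IsRegularLocalRing (X.presheaf.stalk x) := by
  constructor
  · intro h x _
    exact h x
  · intro h x
    obtain ⟨z, hxz, hz⟩ :=
      Groth.Agent.Lib.CMClosedPt_helper6.exists_closed_specialization_scheme X x
    exact regular_of_specializes X hxz (h z hz)

end Groth.Agent.RegClosedPt
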