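import Mathlib
import Groth.Prelude.Def_Curv2
import Groth.Agent.Lib.CMAscent_helper5
import Groth.Agent.Lib.AnUnram_helper3
import Groth.Agent.Lib.IndEtaleLoc2_helper3
import Groth.Agent.Lib.FieldExt2_helper8
import Groth.Agent.Lib.FibStalkCM_helper5
import Groth.Agent.Lib.RegClosedPt_helper5
import Groth.Agent.Lib.GeomRegDesc_helper4

/-!
# Regularity and base change to the completion of a Noetherian local ring (helper5):
S1598, S1597.  APPEND-ONLY once landed.
-/

set_option autoImplicit false
universe u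

namespace Groth.Agent.CplBC

open AlgebraicGeometry CategoryTheory Limits TensorProduct IsLocalRing

section algebra

variable (A : Type u) [CommRing A] [IsLocalRing A] [IsNoetherianRing A]

theorem exists_sub_mem (z : Curv2.cpl A) :
    ∃ a : A, z - algebraMap A (Curv2.cpl A) a ∈
      (maximalIdeal A).map (algebraMap A (Curv2.cpl A)) := by
  have fg : (maximalIdeal A).FG := IsNoetherian.noetherian _
  obtain ⟨a, ha⟩ := Ideal.Quotient.mk_surjective (AdicCompletion.evalOneₐ (maximalIdeal A) z)
  refine ⟨a, ?_⟩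
  rw [← AdicCompletion.ker_evalOneₐ_eq_map (maximalIdeal A) fg]
  show (AdicCompletion.evalOneₐ (maximalIdeal A)).toRingHom _ = 0
  rw [map_sub, sub_eq_zero]
  show AdicCompletion.evalOneₐ (maximalIdeal A) z =
    AdicCompletion.evalOneₐ (maximalIdeal A) (algebraMap A _ a)
  rw [AlgHom.commutes, ← ha]
  rfl

variable (κ : Type u) [Field κ] [Algebra A κ]

theorem tmul_eq_zero_of_mem (hker : ∀ a ∈ maximalIdeal A, algebraMap A κ a = 0)
    (z : Curv2.cpl A) (hz : z ∈ (maximalIdeal A).map (algebraMap A (Curv2.cpl A))) (c : κ) :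
    z ⊗ₜ[A] c = 0 := by
  have key : ∀ w ∈ Ideal.span (⇑(algebraMap A (Curv2.cpl A)) '' ↑(maximalIdeal A)),
      w ⊗ₜ[A] c = 0 := by
    intro w hw
    induction hw using Submodule.span_induction with
    | mem x hx =>
      obtain ⟨a, ha, rfl⟩ := hx
      rw [Algebra.algebraMap_eq_smul_one, TensorProduct.smul_tmul, Algebra.smul_def, hker a ha,
        zero_mul, TensorProduct.tmul_zero]
    | zero => exact TensorProduct.zero_tmul _ _
    | add x y _ _ hx hy => rw [TensorProduct.add_tmul, hx, hy, add_zero]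
    | smul r x _ hx =>
      have : (r • x) ⊗ₜ[A] c = r • (x ⊗ₜ[A] c) := by
        rw [TensorProduct.smul_tmul']
      rw [this, hx, smul_zero]
  exact key z hz

theorem isField_tensor_cpl (hker : ∀ a ∈ maximalIdeal A, algebraMap A κ a = 0) :
    IsField (Curv2.cpl A ⊗[A] κ) := by
  obtain ⟨_, _, -, hff, -, -⟩ := Groth.Agent.Lib.AnUnramH3.completion_facts A
  have hinj : Function.Injective
      (Algebra.TensorProduct.includeRight : κ →ₐ[A] Curv2.cpl A ⊗[A] κ) := by
    have := Module.FaithfullyFlat.tensorProduct_mk_injective (A := A) (B := Curv2.cpl A) κ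
    exact this
  have hsurj : Function.Surjective
      (Algebra.TensorProduct.includeRight : κ →ₐ[A] Curv2.cpl A ⊗[A] κ) := by
    intro t
    induction t using TensorProduct.induction_on with
    | zero => exact ⟨0, map_zero _⟩
    | add x y hx hy =>
      obtain ⟨a, rfl⟩ := hx
      obtain ⟨b, rfl⟩ := hy
      exact ⟨a + b, map_add _ _ _⟩
    | tmul z c =>
      obtain ⟨a, ha⟩ := exists_sub_mem A z
      refine ⟨a • c, ?_⟩
      have h0 := tmul_eq_zero_of_mem A κ hker _ ha c
      rw [TensorProduct.sub_tmul, sub_eq_zero] at h0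
      rw [h0, Algebra.TensorProduct.includeRight_apply, Algebra.algebraMap_eq_smul_one,
        TensorProduct.smul_tmul]
  exact MulEquiv.isField (Field.toIsField κ)
    (RingEquiv.ofBijective (Algebra.TensorProduct.includeRight :
      κ →ₐ[A] Curv2.cpl A ⊗[A] κ) ⟨hinj, hsurj⟩).symm.toMulEquiv

end algebra

/-- stalks of an affine scheme whose coordinate ring is a field are fields -/
theorem isField_stalk_of_isAffine {T : Scheme.{u}} [IsAffine T] (hT : IsField Γ(T, ⊤)) (t : T) :
    IsField (T.presheaf.stalk t) := by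
  have hU : IsAffineOpen (⊤ : T.Opens) := isAffineOpen_top T
  letI := TopCat.Presheaf.algebra_section_stalk T.presheaf (⟨t, trivial⟩ : (⊤ : T.Opens))
  haveI := hU.isLocalization_stalk ⟨t, trivial⟩
  have H : (hU.primeIdealOf ⟨t, trivial⟩).asIdeal.primeCompl ≤ IsUnit.submonoid Γ(T, ⊤) := by
    intro m hm
    letI := hT.toField
    have hm0 : m ≠ 0 := by
      rintro rfl
      exact hm (Ideal.zero_mem _)
    exact isUnit_iff_ne_zero.mpr hm0
  exact MulEquiv.isField hT
    (IsLocalization.atUnits Γ(T, ⊤) (hU.primeIdealOf ⟨t, trivial⟩).asIdeal.primeCompl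
      (S := T.presheaf.stalk t) H).symm.toRingEquiv.toMulEquiv

section scheme

variable (A : Type u) [CommRing A] [IsLocalRing A] [IsNoetherianRing A] {X : Scheme.{u}}
  (f : X ⟶ Spec (CommRingCat.of A))

theorem isPullback_bcCpl : IsPullback (Curv2.bcCplFst A f) (Curv2.bcCplSnd A f) f
    (Spec.map (CommRingCat.ofHom (algebraMap A (Curv2.cpl A)))) := IsPullback.of_hasPullback _ _

theorem flat_bcCplFst : Flat (Curv2.bcCplFst A f) := by
  obtain ⟨_, _, -, hff, -, -⟩ := Groth.Agent.Lib.AnUnramH3.completion_facts A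
  haveI : Module.Flat A (Curv2.cpl A) := inferInstance
  haveI : Flat (Spec.map (CommRingCat.ofHom (algebraMap A (Curv2.cpl A)))) :=
    Flat.SpecMap_iff.mpr (RingHom.flat_algebraMap_iff.mpr inferInstance)
  exact MorphismProperty.of_isPullback (P := @Flat) (isPullback_bcCpl A f).flip inferInstance

theorem surjective_bcCplFst : Surjective (Curv2.bcCplFst A f) := by
  obtain ⟨_, _, -, hff, -, -⟩ := Groth.Agent.Lib.AnUnramH3.completion_facts A
  haveI : Surjective (Spec.map (CommRingCat.ofHom (algebraMap A (Curv2.cpl A)))) :=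
    ⟨PrimeSpectrum.comap_surjective_of_faithfullyFlat (A := A) (B := Curv2.cpl A)⟩
  exact MorphismProperty.of_isPullback (P := @Surjective) (isPullback_bcCpl A f).flip
    inferInstance

/-- a point over the closed point of `Spec Â` has image over the closed point of `Spec A` -/
theorem f_apply_of_closed (y : Curv2.bcCpl A f)
    (hy : (Curv2.bcCplSnd A f).base y = closedPoint (Curv2.cpl A)) :
    f ((Curv2.bcCplFst A f) y) = closedPoint A := by
  obtain ⟨_, _, -, -, hloc, -⟩ := Groth.Agent.Lib.AnUnramH3.completion_facts A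
  have h1 : f ((Curv2.bcCplFst A f) y) =
      (Spec.map (CommRingCat.ofHom (algebraMap A (Curv2.cpl A)))) ((Curv2.bcCplSnd A f) y) := by
    rw [← Scheme.Hom.comp_apply, ← Scheme.Hom.comp_apply, (isPullback_bcCpl A f).w]
  rw [h1]
  have hy' : (Curv2.bcCplSnd A f) y = closedPoint (Curv2.cpl A) := hy
  rw [hy']
  exact IsLocalRing.comap_closedPoint (algebraMap A (Curv2.cpl A))

open Groth.Agent.CMAscent Groth.Agent.FibStalkIso Groth.Agent.FibStalkCM
  Groth.Agent.FibStalkDimH8 FibRedH8 in
theorem main1598 [LocallyOfFiniteType f] (y : Curv2.bcCpl A f)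
    (hy : (Curv2.bcCplSnd A f).base y = IsLocalRing.closedPoint (Curv2.cpl A)) :
    IsRegularLocalRing ((Curv2.bcCpl A f).presheaf.stalk y) ↔
      IsRegularLocalRing (X.presheaf.stalk ((Curv2.bcCplFst A f).base y)) := by
  obtain ⟨_, hNoeth, -, hff, hloc, -⟩ := Groth.Agent.Lib.AnUnramH3.completion_facts A
  have sq := isPullback_bcCpl A f
  haveI : Flat (Curv2.bcCplFst A f) := flat_bcCplFst A f
  haveI : IsLocallyNoetherian X := LocallyOfFiniteType.isLocallyNoetherian f
  haveI : LocallyOfFiniteType (Curv2.bcCplSnd A f) :=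
    MorphismProperty.pullback_snd _ _ inferInstance
  haveI : IsLocallyNoetherian (Curv2.bcCpl A f) :=
    LocallyOfFiniteType.isLocallyNoetherian (Curv2.bcCplSnd A f)
  letI : Algebra A (X.residueField ((Curv2.bcCplFst A f) y)) :=
    (Spec.preimage (X.fromSpecResidueField ((Curv2.bcCplFst A f) y) ≫ f)).hom.toAlgebra
  have hker : ∀ a ∈ maximalIdeal A,
      algebraMap A (X.residueField ((Curv2.bcCplFst A f) y)) a = 0 := by
    intro a ha
    have hpt : (Spec.map (Spec.preimage (X.fromSpecResidueField ((Curv2.bcCplFst A f) y) ≫ f)))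
        (closedPoint (X.residueField ((Curv2.bcCplFst A f) y))) = closedPoint A := by
      rw [Spec.map_preimage, Scheme.Hom.comp_apply, Scheme.fromSpecResidueField_apply]
      exact f_apply_of_closed A f y hy
    have h2 : a ∈ ((Spec.map (Spec.preimage
        (X.fromSpecResidueField ((Curv2.bcCplFst A f) y) ≫ f)))
        (closedPoint (X.residueField ((Curv2.bcCplFst A f) y)))).asIdeal := by
      rw [hpt]; exact ha
    have h3 : (Spec.preimage (X.fromSpecResidueField ((Curv2.bcCplFst A f) y) ≫ f)).hom a ∈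
        maximalIdeal (X.residueField ((Curv2.bcCplFst A f) y)) := h2
    rw [IsLocalRing.maximalIdeal_eq_bot] at h3
    exact h3
  haveI : IsAffineHom (Curv2.bcCplFst A f) :=
    MorphismProperty.of_isPullback (P := @IsAffineHom) sq.flip inferInstance
  have sqT : IsPullback ((Curv2.bcCplFst A f).fiberι ((Curv2.bcCplFst A f) y))
      ((Curv2.bcCplFst A f).fiberToSpecResidueField ((Curv2.bcCplFst A f) y))
      (Curv2.bcCplFst A f) (X.fromSpecResidueField ((Curv2.bcCplFst A f) y)) :=
    IsPullback.of_hasPullback _ _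
  have s2 := sqT.paste_horiz sq.flip
  rw [← Spec.map_preimage (X.fromSpecResidueField ((Curv2.bcCplFst A f) y) ≫ f)] at s2
  obtain ⟨eΓ⟩ := gamma_equiv_of_isPullback_Spec A (X.residueField ((Curv2.bcCplFst A f) y))
    (Curv2.cpl A) _ _ s2
  have hΓ : IsField Γ((Curv2.bcCplFst A f).fiber ((Curv2.bcCplFst A f) y), ⊤) :=
    MulEquiv.isField (isField_tensor_cpl A (X.residueField ((Curv2.bcCplFst A f) y)) hker)
      eΓ.symm.toMulEquiv
  have hst := isField_stalk_of_isAffine hΓ ((Curv2.bcCplFst A f).asFiber y)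
  have hF : IsField (↥((Curv2.bcCpl A f).presheaf.stalk y) ⧸ fibIdeal (Curv2.bcCplFst A f) y) :=
    MulEquiv.isField hst (fibStalkEquiv (Curv2.bcCplFst A f) y).toMulEquiv
  have hmax : fibIdeal (Curv2.bcCplFst A f) y =
      maximalIdeal ((Curv2.bcCpl A f).presheaf.stalk y) :=
    IsLocalRing.eq_maximalIdeal (Ideal.Quotient.maximal_of_isField _ hF)
  have hd := FieldExtH8.flat_stalk_dim_add_quot (Curv2.bcCplFst A f) y
  have hd0 : ringKrullDim (↥((Curv2.bcCpl A f).presheaf.stalk y) ⧸
      fibIdeal (Curv2.bcCplFst A f) y) = 0 := ringKrullDim_eq_zero_of_isField hF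
  have hd' : ringKrullDim ((Curv2.bcCpl A f).presheaf.stalk y) =
      ringKrullDim (X.presheaf.stalk ((Curv2.bcCplFst A f) y)) := by
    rw [hd]
    have : ringKrullDim (↥((Curv2.bcCpl A f).presheaf.stalk y) ⧸
        Ideal.map ((Curv2.bcCplFst A f).stalkMap y).hom
          (IsLocalRing.maximalIdeal ↥(X.presheaf.stalk ((Curv2.bcCplFst A f) y)))) = 0 := hd0
    rw [this, add_zero]
  letI : Algebra (X.presheaf.stalk ((Curv2.bcCplFst A f) y))
      ((Curv2.bcCpl A f).presheaf.stalk y) := ((Curv2.bcCplFst A f).stalkMap y).hom.toAlgebra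
  haveI : IsLocalHom (algebraMap (X.presheaf.stalk ((Curv2.bcCplFst A f) y))
      ((Curv2.bcCpl A f).presheaf.stalk y)) :=
    inferInstanceAs (IsLocalHom ((Curv2.bcCplFst A f).stalkMap y).hom)
  haveI : Module.Flat (X.presheaf.stalk ((Curv2.bcCplFst A f) y))
      ((Curv2.bcCpl A f).presheaf.stalk y) := Flat.stalkMap (Curv2.bcCplFst A f) y
  haveI : Module.FaithfullyFlat (X.presheaf.stalk ((Curv2.bcCplFst A f) y))
      ((Curv2.bcCpl A f).presheaf.stalk y) := Module.FaithfullyFlat.of_flat_of_isLocalHom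
  exact Groth.Agent.Lib.IndEtaleH3.isRegularLocalRing_iff_of_map_eq
    (X.presheaf.stalk ((Curv2.bcCplFst A f) y)) ((Curv2.bcCpl A f).presheaf.stalk y) hmax hd'

end scheme

end Groth.Agent.CplBC
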