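import Mathlib
import Groth.Prelude.Def_Curv2
import Groth.Agent.Lib.CplBC_helper5

/-!
# Regularity of a proper scheme over a Noetherian local ring and of its base change to the
completion (helper5): S1597.  APPEND-ONLY once landed.
-/

set_option autoImplicit false
universe u

namespace Groth.Agent.CplBC

open AlgebraicGeometry CategoryTheory Limits TensorProduct IsLocalRing

variable (A : Type u) [CommRing A] [IsLocalRing A] [IsNoetherianRing A] {X : Scheme.{u}}
  (f : X ⟶ Spec (CommRingCat.of A))

/-- every point of `Y = X ×_A Â` specialises to a point over the closed point of `Spec Â`, when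
`X` is proper over `A` -/
theorem exists_specialization_closed [IsProper f] (y : Curv2.bcCpl A f) :
    ∃ y₀ : Curv2.bcCpl A f, y ⤳ y₀ ∧
      (Curv2.bcCplSnd A f).base y₀ = IsLocalRing.closedPoint (Curv2.cpl A) := by
  haveI : UniversallyClosed (Curv2.bcCplSnd A f) :=
    MorphismProperty.pullback_snd _ _ inferInstance
  have hcl : IsClosed ((Curv2.bcCplSnd A f) '' closure {y}) :=
    (Curv2.bcCplSnd A f).isClosedMap _ isClosed_closure
  have hmem : (Curv2.bcCplSnd A f) y ∈ (Curv2.bcCplSnd A f) '' closure {y} :=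
    ⟨y, subset_closure rfl, rfl⟩
  have hsp : (Curv2.bcCplSnd A f) y ⤳ IsLocalRing.closedPoint (Curv2.cpl A) :=
    IsLocalRing.specializes_closedPoint (R := Curv2.cpl A) _
  obtain ⟨y₀, hy₀, hq⟩ := hsp.mem_closed hcl hmem
  exact ⟨y₀, specializes_iff_mem_closure.mpr hy₀, hq⟩

theorem main1597 [IsProper f] :
    (∀ x : X, IsRegularLocalRing (X.presheaf.stalk x)) ↔
      ∀ y : Curv2.bcCpl A f, IsRegularLocalRing ((Curv2.bcCpl A f).presheaf.stalk y) := by
  haveI : Flat (Curv2.bcCplFst A f) := flat_bcCplFst A f
  constructor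
  · intro h y
    obtain ⟨y₀, hsp, hy₀⟩ := exists_specialization_closed A f y
    have h0 : IsRegularLocalRing ((Curv2.bcCpl A f).presheaf.stalk y₀) :=
      (main1598 A f y₀ hy₀).mpr (h _)
    exact Groth.Agent.RegClosedPt.regular_of_specializes _ hsp h0
  · intro h x
    haveI := surjective_bcCplFst A f
    obtain ⟨y, rfl⟩ := (Curv2.bcCplFst A f).surjective x
    haveI := h y
    exact Groth.Agent.Lib.GeomRegDescH4.regular_of_flat_local'
      ((Curv2.bcCplFst A f).stalkMap y).hom
      (inferInstanceAs (IsLocalHom ((Curv2.bcCplFst A f).stalkMap y).hom))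
      (Flat.stalkMap (Curv2.bcCplFst A f) y)

end Groth.Agent.CplBC
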