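import Mathlib
import Groth.Prelude.Def_EGA4b
import Groth.Agent.Lib.ComplMapIso_helper3
import Groth.Agent.Lib.FFTransfer_helper3
import Groth.Agent.Lib.FSAdicCompl2_helper3

/-!
# Completion of `B ⊗_A Â` at a point over the closed points (helper3)
-/

set_option autoImplicit false

namespace Groth.Agent.Lib.CplBaseChangeH3

universe u

open TensorProduct IsLocalRing

variable (A B : Type u) [CommRing A] [CommRing B] [IsNoetherianRing A] [IsLocalRing A]
  [Algebra A B]

/-- every element of `B ⊗ Â` is congruent to an element of `B` modulo `𝔪_A^n` -/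
theorem exists_sub_mem (n : ℕ) (w : B ⊗[A] AdicCompletion (maximalIdeal A) A) :
    ∃ c : B, w - algebraMap B (B ⊗[A] AdicCompletion (maximalIdeal A) A) c ∈
      ((maximalIdeal A) ^ n).map (algebraMap A (B ⊗[A] AdicCompletion (maximalIdeal A) A)) := by
  induction w using TensorProduct.induction_on with
  | zero => exact ⟨0, by rw [map_zero, sub_zero]; exact Ideal.zero_mem _⟩
  | add x y hx hy =>
    obtain ⟨c, hc⟩ := hx
    obtain ⟨d, hd⟩ := hy
    refine ⟨c + d, ?_⟩
    have : x + y - algebraMap B (B ⊗[A] AdicCompletion (maximalIdeal A) A) (c + d) =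
        (x - algebraMap B _ c) + (y - algebraMap B _ d) := by rw [map_add]; ring
    rw [this]
    exact Ideal.add_mem _ hc hd
  | tmul c z =>
    obtain ⟨a, ha⟩ := FSAdicComplH3.exists_sub_mem_map_pow (maximalIdeal A)
      (IsNoetherian.noetherian _) n z
    refine ⟨a • c, ?_⟩
    have h1 : c ⊗ₜ[A] z - algebraMap B (B ⊗[A] AdicCompletion (maximalIdeal A) A) (a • c) =
        (c ⊗ₜ[A] (1 : AdicCompletion (maximalIdeal A) A)) *
          (Algebra.TensorProduct.includeRight (R := A) (A := B)
            (z - algebraMap A (AdicCompletion (maximalIdeal A) A) a)) := by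
      rw [Algebra.TensorProduct.includeRight_apply, Algebra.TensorProduct.tmul_mul_tmul,
        mul_one, one_mul, TensorProduct.tmul_sub, Algebra.TensorProduct.algebraMap_apply,
        Algebra.algebraMap_eq_smul_one a, TensorProduct.tmul_smul, TensorProduct.smul_tmul']
      rfl
    rw [h1]
    apply Ideal.mul_mem_left
    have h2 : ((maximalIdeal A) ^ n).map (algebraMap A (AdicCompletion (maximalIdeal A) A)) ≤
        (((maximalIdeal A) ^ n).map
          (algebraMap A (B ⊗[A] AdicCompletion (maximalIdeal A) A))).comap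
          (Algebra.TensorProduct.includeRight (R := A) (A := B)
            (B := AdicCompletion (maximalIdeal A) A)).toRingHom := by
      rw [Ideal.map_le_iff_le_comap]
      intro r hr
      rw [Ideal.mem_comap, Ideal.mem_comap]
      have : (Algebra.TensorProduct.includeRight (R := A) (A := B)
            (B := AdicCompletion (maximalIdeal A) A)).toRingHom
            (algebraMap A (AdicCompletion (maximalIdeal A) A) r) =
          algebraMap A (B ⊗[A] AdicCompletion (maximalIdeal A) A) r :=
        (Algebra.TensorProduct.includeRight (R := A) (A := B)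
            (B := AdicCompletion (maximalIdeal A) A)).commutes r
      rw [this]
      exact Ideal.mem_map_of_mem _ hr
    exact h2 ha

variable [IsNoetherianRing B] [IsLocalRing B] [IsLocalHom (algebraMap A B)]
  [IsNoetherianRing (B ⊗[A] EGA4.Cpl A)]

theorem nonempty_ringEquiv_cpl (n' : Ideal (B ⊗[A] EGA4.Cpl A)) [n'.IsPrime]
    (h1 : n'.comap (algebraMap B (B ⊗[A] EGA4.Cpl A)) = maximalIdeal B)
    (h2 : (maximalIdeal A).map (algebraMap A (B ⊗[A] EGA4.Cpl A)) ≤ n') :
    Nonempty (EGA4.Cpl B ≃+* EGA4.Cpl (Localization.AtPrime n')) := by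
  obtain ⟨hloc, hnoeth, hcompl, hff, hlh, hmap⟩ := AnUnramH3.completion_facts A
  haveI := hff
  haveI : IsNoetherianRing (Localization.AtPrime n') :=
    IsLocalization.isNoetherianRing n'.primeCompl _ inferInstance
  haveI : Module.Flat B (B ⊗[A] EGA4.Cpl A) := inferInstance
  haveI : Module.Flat (B ⊗[A] EGA4.Cpl A) (Localization.AtPrime n') :=
    IsLocalization.flat _ n'.primeCompl
  haveI : Module.Flat B (Localization.AtPrime n') :=
    Module.Flat.trans B (B ⊗[A] EGA4.Cpl A) (Localization.AtPrime n')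
  have hn'max : maximalIdeal (Localization.AtPrime n') =
      n'.map (algebraMap (B ⊗[A] EGA4.Cpl A) (Localization.AtPrime n')) :=
    (Localization.AtPrime.map_eq_maximalIdeal (I := n')).symm
  have hmAB : (maximalIdeal A).map (algebraMap A B) ≤ maximalIdeal B :=
    ((IsLocalRing.local_hom_TFAE (algebraMap A B)).out 0 2).mp ‹IsLocalHom (algebraMap A B)›
  -- `n' = 𝔪_B B'`
  have hn' : n' = (maximalIdeal B).map (algebraMap B (B ⊗[A] EGA4.Cpl A)) := by
    apply le_antisymm
    · intro z hz
      obtain ⟨b, hb⟩ := exists_sub_mem A B 1 z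
      rw [pow_one] at hb
      have hb' : algebraMap B (B ⊗[A] EGA4.Cpl A) b ∈ n' := by
        have h3 := Ideal.sub_mem _ hz (h2 hb)
        simpa using h3
      have hbm : b ∈ maximalIdeal B := by
        rw [← h1]; exact hb'
      have h4 : (maximalIdeal A).map (algebraMap A (B ⊗[A] EGA4.Cpl A)) ≤
          (maximalIdeal B).map (algebraMap B (B ⊗[A] EGA4.Cpl A)) := by
        rw [IsScalarTower.algebraMap_eq A B (B ⊗[A] EGA4.Cpl A), ← Ideal.map_map]
        exact Ideal.map_mono hmAB
      have h5 : z = (z - algebraMap B (B ⊗[A] EGA4.Cpl A) b) +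
          algebraMap B (B ⊗[A] EGA4.Cpl A) b := by ring
      rw [h5]
      exact Ideal.add_mem _ (h4 hb) (Ideal.mem_map_of_mem _ hbm)
    · rw [Ideal.map_le_iff_le_comap, h1]
  have hm : (maximalIdeal B).map (algebraMap B (Localization.AtPrime n')) =
      maximalIdeal (Localization.AtPrime n') := by
    rw [hn'max, IsScalarTower.algebraMap_eq B (B ⊗[A] EGA4.Cpl A) (Localization.AtPrime n'),
      ← Ideal.map_map, ← hn']
  haveI : IsLocalHom (algebraMap B (Localization.AtPrime n')) :=
    ((IsLocalRing.local_hom_TFAE (algebraMap B (Localization.AtPrime n'))).out 0 2).mpr hm.le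
  have hk : Function.Bijective (IsLocalRing.ResidueField.map (R := B)
      (S := Localization.AtPrime n') (algebraMap B (Localization.AtPrime n'))) := by
    refine ⟨RingHom.injective _, fun y => ?_⟩
    obtain ⟨y, rfl⟩ := IsLocalRing.residue_surjective y
    obtain ⟨z, s, rfl⟩ := IsLocalization.exists_mk'_eq n'.primeCompl y
    obtain ⟨b, hb⟩ := exists_sub_mem A B 1 z
    obtain ⟨c, hc⟩ := exists_sub_mem A B 1 (s : B ⊗[A] EGA4.Cpl A)
    rw [pow_one] at hb hc
    have hcs : algebraMap B (B ⊗[A] EGA4.Cpl A) c ∉ n' := by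
      intro hmem
      have h3 := Ideal.add_mem _ (h2 hc) hmem
      rw [sub_add_cancel] at h3
      exact s.2 h3
    have hcu : IsUnit c := by
      by_contra hnu
      have : c ∈ maximalIdeal B := (mem_maximalIdeal c).2 hnu
      rw [← h1] at this
      exact hcs this
    obtain ⟨c', rfl⟩ := hcu
    refine ⟨IsLocalRing.residue _ (b * ((c'⁻¹ : Bˣ) : B)), ?_⟩
    rw [IsLocalRing.ResidueField.map_residue, eq_comm, ← sub_eq_zero, ← map_sub,
      IsLocalRing.residue_eq_zero_iff, hn'max]
    -- mk' z s - b / c ∈ n' T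
    have hsu : IsUnit (algebraMap (B ⊗[A] EGA4.Cpl A) (Localization.AtPrime n') s) :=
      IsLocalization.map_units _ s
    have h6 : (IsLocalization.mk' (Localization.AtPrime n') z s -
        algebraMap B (Localization.AtPrime n') (b * ((c'⁻¹ : Bˣ) : B))) *
        algebraMap (B ⊗[A] EGA4.Cpl A) (Localization.AtPrime n') s =
        algebraMap (B ⊗[A] EGA4.Cpl A) (Localization.AtPrime n')
          (z - algebraMap B (B ⊗[A] EGA4.Cpl A) (b * ((c'⁻¹ : Bˣ) : B)) * s) := by
      simp only [map_sub, map_mul]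
      simp only [← IsScalarTower.algebraMap_apply B (B ⊗[A] EGA4.Cpl A) (Localization.AtPrime n')]
      rw [← IsLocalization.mk'_spec (Localization.AtPrime n') z s]
      ring
    have h7 : z - algebraMap B (B ⊗[A] EGA4.Cpl A) (b * ((c'⁻¹ : Bˣ) : B)) * s ∈ n' := by
      have e1 : z - algebraMap B (B ⊗[A] EGA4.Cpl A) (b * ((c'⁻¹ : Bˣ) : B)) * s =
          (z - algebraMap B (B ⊗[A] EGA4.Cpl A) b) -
          algebraMap B (B ⊗[A] EGA4.Cpl A) (b * ((c'⁻¹ : Bˣ) : B)) *
            ((s : B ⊗[A] EGA4.Cpl A) - algebraMap B (B ⊗[A] EGA4.Cpl A) (c' : B)) := by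
        have : algebraMap B (B ⊗[A] EGA4.Cpl A) (b * ((c'⁻¹ : Bˣ) : B)) *
            algebraMap B (B ⊗[A] EGA4.Cpl A) (c' : B) = algebraMap B (B ⊗[A] EGA4.Cpl A) b := by
          rw [← map_mul, mul_assoc, Units.inv_mul, mul_one]
        rw [mul_sub, this]
        ring
      rw [e1]
      exact Ideal.sub_mem _ (h2 hb) (Ideal.mul_mem_left _ _ (h2 hc))
    have h8 := Ideal.mem_map_of_mem
      (algebraMap (B ⊗[A] EGA4.Cpl A) (Localization.AtPrime n')) h7
    rw [← h6] at h8
    have h9 := Ideal.mul_mem_right (↑hsu.unit⁻¹ : Localization.AtPrime n') _ h8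
    rwa [mul_assoc, IsUnit.mul_val_inv, mul_one] at h9
  have hbij := Groth.Agent.Lib.ComplMapIsoH3.bijective_of_comp B (Localization.AtPrime n') hm hk
    (Groth.Agent.Lib.FFTransferH3.psi _ _)
    (RingHom.ext fun a => Groth.Agent.Lib.FFTransferH3.psi_of _ _ a)
  exact ⟨RingEquiv.ofBijective _ hbij⟩

end Groth.Agent.Lib.CplBaseChangeH3
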