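import Mathlib
import Groth.Agent.Lib.ComplFlat_helper3
import Groth.Agent.Lib.ComplTensor_helper3
import Groth.Agent.Lib.ComplReg_helper3
import Groth.Agent.Lib.CTens7_helper3
import Groth.Agent.Lib.AnUnram_helper3

set_option autoImplicit false
universe u

open IsLocalRing

namespace Groth.Agent.Lib.IAdicH5

variable (A : Type u) [CommRing A] [IsNoetherianRing A] (I : Ideal A)

/-- every element of the `I`-adic completion is congruent to an element of `A` modulo `I·Â` -/
theorem exists_sub_mem (x : AdicCompletion I A) :
    ∃ a : A, x - algebraMap A (AdicCompletion I A) a ∈ I.map (algebraMap A (AdicCompletion I A)) := by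
  obtain ⟨a, ha⟩ := Groth.Agent.Lib.ComplFlatH3.exists_sub_mem_pow I (IsNoetherian.noetherian I) 1 x
  exact ⟨a, by simpa using ha⟩

/-- a prime of the completion containing `I·Â` is extended from its contraction -/
theorem eq_map_comap (q' : Ideal (AdicCompletion I A))
    (hI : I.map (algebraMap A (AdicCompletion I A)) ≤ q') :
    q' = (q'.comap (algebraMap A (AdicCompletion I A))).map (algebraMap A (AdicCompletion I A)) := by
  apply le_antisymm
  · intro x hx
    obtain ⟨a, ha⟩ := exists_sub_mem A I x
    have ha' : algebraMap A (AdicCompletion I A) a ∈ q' := by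
      have : algebraMap A (AdicCompletion I A) a = x - (x - algebraMap A (AdicCompletion I A) a) := by
        ring
      rw [this]
      exact q'.sub_mem hx (hI ha)
    have hIq : I ≤ q'.comap (algebraMap A (AdicCompletion I A)) := Ideal.map_le_iff_le_comap.1 hI
    have h1 : x = algebraMap A (AdicCompletion I A) a + (x - algebraMap A (AdicCompletion I A) a) := by
      ring
    rw [h1]
    exact Ideal.add_mem _ (Ideal.mem_map_of_mem _ ha') (Ideal.map_mono hIq ha)
  · exact Ideal.map_comap_le

/-- the canonical flat map from the `I`-adic completion to the completion of the local ring at a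
prime containing `I` -/
theorem exists_hom (q : Ideal A) [q.IsPrime] (hIq : I ≤ q) :
    ∃ φ : AdicCompletion I A →+*
        AdicCompletion (maximalIdeal (Localization.AtPrime q)) (Localization.AtPrime q),
      (∀ a : A, φ (algebraMap A (AdicCompletion I A) a) =
        algebraMap A (AdicCompletion (maximalIdeal (Localization.AtPrime q))
          (Localization.AtPrime q)) a) ∧ φ.Flat := by
  haveI : IsNoetherianRing (Localization.AtPrime q) :=
    IsLocalization.isNoetherianRing q.primeCompl _ inferInstance
  obtain ⟨hloc, hnoeth, hcomp, hff, hlh, hmap⟩ :=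
    Groth.Agent.Lib.AnUnramH3.completion_facts (Localization.AtPrime q)
  haveI := hloc
  haveI := hnoeth
  haveI := hcomp
  haveI := hff
  set C := Localization.AtPrime q with hC
  set Ĉ := AdicCompletion (maximalIdeal C) C with hĈ
  have hle : I.map (algebraMap A Ĉ) ≤ maximalIdeal Ĉ := by
    rw [IsScalarTower.algebraMap_eq A C Ĉ, ← Ideal.map_map, ← hmap]
    apply Ideal.map_mono
    rw [← Localization.AtPrime.map_eq_maximalIdeal]
    exact Ideal.map_mono hIq
  haveI : IsAdicComplete (I.map (algebraMap A Ĉ)) Ĉ :=
    Groth.Agent.Lib.CTensH3.isAdicComplete_of_le _ _ hle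
  refine ⟨Groth.Agent.Lib.ComplTensorH3.psi I Ĉ, fun a => ?_, ?_⟩
  · exact Groth.Agent.Lib.ComplTensorH3.psi_of I Ĉ a
  · letI : Algebra (AdicCompletion I A) Ĉ := (Groth.Agent.Lib.ComplTensorH3.psi I Ĉ).toAlgebra
    haveI : IsScalarTower A (AdicCompletion I A) Ĉ :=
      IsScalarTower.of_algebraMap_eq (fun a => (Groth.Agent.Lib.ComplTensorH3.psi_of I Ĉ a).symm)
    haveI : IsNoetherianRing (AdicCompletion I A) :=
      Groth.Agent.Lib.ComplRegH3.isNoetherianRing_adicCompletion A I
    haveI : Module.Flat C Ĉ := inferInstance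
    haveI : Module.Flat A Ĉ := Module.Flat.trans A C Ĉ
    have hjac : I.map (algebraMap A Ĉ) ≤ Ideal.jacobson ⊥ := by
      rw [IsLocalRing.jacobson_eq_maximalIdeal ⊥ bot_ne_top]
      exact hle
    have := Groth.Agent.Lib.ComplFlatH3.flat_of_complete_like (P := A) (R := AdicCompletion I A)
      (T := Ĉ) I hjac
      (fun n x => Groth.Agent.Lib.ComplFlatH3.exists_sub_mem_pow I (IsNoetherian.noetherian I) n x)
    exact this

end Groth.Agent.Lib.IAdicH5
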