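import Mathlib
import Groth.Prelude.Def_CAlg
import Groth.Prelude.Def_EGA4b

set_option autoImplicit false
universe u
open IsLocalRing TensorProduct

namespace Groth.Agent.Lib.CutCplH5

section DimLoc

variable {S : Type u} [CommRing S]

theorem algebraMapSubmonoid_primeCompl (I Q : Ideal S) [Q.IsPrime] (hIQ : I ≤ Q)
    [hQ' : (Q.map (Ideal.Quotient.mk I)).IsPrime] :
    Algebra.algebraMapSubmonoid (S ⧸ I) Q.primeCompl = (Q.map (Ideal.Quotient.mk I)).primeCompl := by
  have hcm : (Q.map (Ideal.Quotient.mk I)).comap (Ideal.Quotient.mk I) = Q := by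
    rw [Ideal.comap_map_of_surjective _ Ideal.Quotient.mk_surjective, ← RingHom.ker_eq_comap_bot,
      Ideal.mk_ker, sup_of_le_left hIQ]
  ext x
  constructor
  · rintro ⟨s, hs, rfl⟩
    intro hx
    have : s ∈ (Q.map (Ideal.Quotient.mk I)).comap (Ideal.Quotient.mk I) := hx
    rw [hcm] at this
    exact hs this
  · intro hx
    obtain ⟨s, rfl⟩ := Ideal.Quotient.mk_surjective x
    refine ⟨s, ?_, rfl⟩
    intro hs
    exact hx (Ideal.mem_map_of_mem _ hs)

/-- `dim (S_Q / I S_Q) = ht (Q / I)` -/
theorem ringKrullDim_localization_quotient (I Q : Ideal S) [Q.IsPrime] (hIQ : I ≤ Q) :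
    ringKrullDim (Localization.AtPrime Q ⧸ I.map (algebraMap S (Localization.AtPrime Q))) =
      ((Q.map (Ideal.Quotient.mk I)).height : WithBot ℕ∞) := by
  haveI hQ' : (Q.map (Ideal.Quotient.mk I)).IsPrime :=
    Ideal.map_isPrime_of_surjective Ideal.Quotient.mk_surjective (by rw [Ideal.mk_ker]; exact hIQ)
  have h1 : IsLocalization (Algebra.algebraMapSubmonoid (S ⧸ I) Q.primeCompl)
      (Localization.AtPrime Q ⧸ I.map (algebraMap S (Localization.AtPrime Q))) := inferInstance
  rw [algebraMapSubmonoid_primeCompl I Q hIQ] at h1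
  haveI : IsLocalization.AtPrime
      (Localization.AtPrime Q ⧸ I.map (algebraMap S (Localization.AtPrime Q)))
      (Q.map (Ideal.Quotient.mk I)) := h1
  exact IsLocalization.AtPrime.ringKrullDim_eq_height (Q.map (Ideal.Quotient.mk I)) _

end DimLoc

section DimFib

variable {R S : Type u} [CommRing R] [CommRing S] [Algebra R S]

/-- the dimension of the fibre local ring at `Q` is the height of `Q` modulo `(Q ∩ R) S` -/
theorem ringKrullDim_fibLocRing (Q : Ideal S) [Q.IsPrime] :
    ringKrullDim (EGA4.FibLocRing R S Q) =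
      ((Q.map (Ideal.Quotient.mk ((Q.comap (algebraMap R S)).map (algebraMap R S)))).height :
        WithBot ℕ∞) := by
  set p := Q.comap (algebraMap R S) with hp
  have hle : p.map (algebraMap R S) ≤ Q := Ideal.map_comap_le
  rw [← ringKrullDim_localization_quotient (p.map (algebraMap R S)) Q hle]
  have hI : p.map (algebraMap R (Localization.AtPrime Q)) =
      (p.map (algebraMap R S)).map (algebraMap S (Localization.AtPrime Q)) := by
    rw [Ideal.map_map, ← IsScalarTower.algebraMap_eq]
  exact ringKrullDim_eq_of_ringEquiv (Ideal.quotEquivOfEq hI)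

end DimFib

end Groth.Agent.Lib.CutCplH5
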