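import Mathlib
import Groth.Agent.Lib.ZClosed4_helper3

set_option autoImplicit false
universe u

/-!
# Sections of `M^~` over opens containing a point `p` off which `M` is torsion free (helper5)

For a module `M` over a Noetherian ring on which every `c ∉ p` is regular, the sections of `M^~`
over an open `W ∋ p` embed into any localization-like target of `M` at `p`.
-/

namespace Groth.Agent.Lib.ZHullH5

open AlgebraicGeometry CategoryTheory TopologicalSpace Opposite PrimeSpectrum
open Groth.Agent.Lib.TildeSecH3 Groth.Agent.Lib.ZClosedH3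

variable {R : CommRingCat.{u}} [IsNoetherianRing R] (M : ModuleCat.{u} R)

/-- Every section over `W` becomes a global element after multiplication by some `c ∉ P`, for any
point `P ∈ W`. -/
theorem exists_smul_eq_toOpen {W : (Spec R).Opens} (s : Sec M W) (P : PrimeSpectrum R)
    (hP : P ∈ W) : ∃ c : R, c ∉ P.asIdeal ∧ ∃ m : M, c • s = (tilde.toOpen M W).hom m := by
  obtain ⟨_, ⟨_, ⟨b, rfl⟩, rfl⟩, hPb, hbW : (basicOpen b : (Spec R).Opens) ≤ W⟩ :=
    PrimeSpectrum.isBasis_basic_opens.exists_subset_of_mem_open hP W.2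
  obtain ⟨⟨m, ⟨_, k, rfl⟩⟩, hm⟩ := IsLocalizedModule.surj (Submonoid.powers b)
    (tilde.toOpen M (basicOpen b)).hom (res M hbW s)
  have hm' : b ^ k • res M hbW s = (tilde.toOpen M (basicOpen b)).hom m := hm
  obtain ⟨T, hTW, hcov⟩ := exists_finset_cover W
  have h0 : res M hbW (b ^ k • s - (tilde.toOpen M W).hom m) = 0 := by
    rw [map_sub, map_smul, res_toOpen, hm', sub_self]
  obtain ⟨n, hn⟩ := exists_pow_smul_eq_zero M T hTW hcov b hbW
    (fun g _ => basicOpen_mul_le_right g b) _ h0
  refine ⟨b ^ (n + k), fun h => hPb (P.2.mem_of_pow_mem _ h), b ^ n • m, ?_⟩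
  rw [smul_sub, sub_eq_zero] at hn
  rw [pow_add, mul_smul, hn, map_smul]

variable (p : Ideal R) [hp : p.IsPrime]

/-- The point `p` of the spectrum. -/
abbrev pt : PrimeSpectrum R := ⟨p, hp⟩

variable {M p}

/-- Restriction to a basic open neighbourhood of `p` is injective. -/
theorem res_basicOpen_injective (hreg : ∀ c : R, c ∉ p → IsSMulRegular M c)
    {W : (Spec R).Opens} {b : R} (hb : b ∉ p) (hbW : (basicOpen b : (Spec R).Opens) ≤ W) :
    Function.Injective (res M hbW) := by
  rw [injective_iff_map_eq_zero]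
  intro s hs
  obtain ⟨T, hTW, hcov⟩ := exists_finset_cover W
  obtain ⟨n, hn⟩ := exists_pow_smul_eq_zero M T hTW hcov b hbW
    (fun g _ => basicOpen_mul_le_right g b) s hs
  have hbn : b ^ n ∉ p := fun h => hb (hp.mem_of_pow_mem _ h)
  exact isSMulRegular_sec M (hreg _ hbn) W
    (show b ^ n • s = b ^ n • (0 : Sec M W) by rw [smul_zero]; exact hn)

/-- Restriction between opens containing `p` is injective. -/
theorem res_injective (hreg : ∀ c : R, c ∉ p → IsSMulRegular M c)
    {W W' : (Spec R).Opens} (h : W' ≤ W) (hpW' : pt p ∈ W') :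
    Function.Injective (res M h) := by
  obtain ⟨_, ⟨_, ⟨b, rfl⟩, rfl⟩, hPb, hbW : (basicOpen b : (Spec R).Opens) ≤ W'⟩ :=
    PrimeSpectrum.isBasis_basic_opens.exists_subset_of_mem_open hpW' W'.2
  have h1 := res_basicOpen_injective (M := M) hreg (W := W) (b := b) hPb (hbW.trans h)
  intro s t hst
  apply h1
  rw [← res_res M h hbW, ← res_res M h hbW, hst]

section Emb

variable (N : Type u) [AddCommGroup N] [Module R N]
  (hN : ∀ c : R, c ∉ p → IsUnit (algebraMap R (Module.End R N) c)) (can : M →ₗ[R] N)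

include hN in
theorem isUnit_powers {b : R} (hb : b ∉ p) (x : Submonoid.powers b) :
    IsUnit (algebraMap R (Module.End R N) x) := by
  obtain ⟨_, k, rfl⟩ := x
  exact hN _ (fun h => hb (hp.mem_of_pow_mem _ h))

/-- The map from sections over a basic open neighbourhood of `p`. -/
noncomputable def embBasic {b : R} (hb : b ∉ p) : Sec M (basicOpen b) →ₗ[R] N :=
  IsLocalizedModule.lift (Submonoid.powers b) (tilde.toOpen M (basicOpen b)).hom can
    (isUnit_powers N hN hb)

theorem embBasic_toOpen {b : R} (hb : b ∉ p) (m : M) :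
    embBasic N hN can hb ((tilde.toOpen M (basicOpen b)).hom m) = can m :=
  IsLocalizedModule.lift_apply (Submonoid.powers b) (tilde.toOpen M (basicOpen b)).hom can
    (isUnit_powers N hN hb) m

include hN in
theorem smul_injective_target {c : R} (hc : c ∉ p) : Function.Injective (fun x : N => c • x) := by
  have h := hN c hc
  rw [Module.End.isUnit_iff] at h
  exact h.injective

include hN in
/-- Uniqueness of linear maps out of sections extending a given map on `M`. -/
theorem hom_ext_of_toOpen {W : (Spec R).Opens} (hpW : pt p ∈ W) (φ ψ : Sec M W →ₗ[R] N)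
    (h : ∀ m : M, φ ((tilde.toOpen M W).hom m) = ψ ((tilde.toOpen M W).hom m)) : φ = ψ := by
  ext s
  obtain ⟨c, hc, m, hm⟩ := exists_smul_eq_toOpen M s (pt p) hpW
  apply smul_injective_target N hN hc
  show c • φ s = c • ψ s
  rw [← map_smul, ← map_smul, hm, h]

theorem exists_basic {W : (Spec R).Opens} (hpW : pt p ∈ W) :
    ∃ b : R, b ∉ p ∧ (basicOpen b : (Spec R).Opens) ≤ W := by
  obtain ⟨_, ⟨_, ⟨b, rfl⟩, rfl⟩, hPb, hbW : (basicOpen b : (Spec R).Opens) ≤ W⟩ :=
    PrimeSpectrum.isBasis_basic_opens.exists_subset_of_mem_open hpW W.2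
  exact ⟨b, hPb, hbW⟩

/-- The map from sections over an open neighbourhood of `p` to the target `N`. -/
noncomputable def emb {W : (Spec R).Opens} (hpW : pt p ∈ W) : Sec M W →ₗ[R] N :=
  (embBasic N hN can (exists_basic hpW).choose_spec.1) ∘ₗ
    res M (exists_basic hpW).choose_spec.2

theorem emb_toOpen {W : (Spec R).Opens} (hpW : pt p ∈ W) (m : M) :
    emb N hN can hpW ((tilde.toOpen M W).hom m) = can m := by
  unfold emb
  rw [LinearMap.comp_apply, res_toOpen, embBasic_toOpen]

theorem emb_res {W W' : (Spec R).Opens} (h : W' ≤ W) (hpW' : pt p ∈ W') (s : Sec M W) :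
    emb N hN can hpW' (res M h s) = emb N hN can (h hpW') s := by
  have := hom_ext_of_toOpen N hN (h hpW') ((emb N hN can hpW') ∘ₗ res M h)
    (emb N hN can (h hpW')) (fun m => by
      rw [LinearMap.comp_apply, res_toOpen, emb_toOpen, emb_toOpen])
  exact LinearMap.congr_fun this s

theorem emb_injective (hreg : ∀ c : R, c ∉ p → IsSMulRegular M c)
    (hcan : Function.Injective can) {W : (Spec R).Opens} (hpW : pt p ∈ W) :
    Function.Injective (emb N hN can hpW) := by
  rw [injective_iff_map_eq_zero]
  intro s hs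
  obtain ⟨c, hc, m, hm⟩ := exists_smul_eq_toOpen M s (pt p) hpW
  have h1 : can m = 0 := by
    rw [← emb_toOpen N hN can hpW, ← hm, map_smul, hs, smul_zero]
  have h2 : m = 0 := hcan (by rw [h1, map_zero])
  rw [h2, map_zero] at hm
  exact isSMulRegular_sec M (hreg c hc) W
    (show c • s = c • (0 : Sec M W) by rw [smul_zero]; exact hm)

end Emb

end Groth.Agent.Lib.ZHullH5
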