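import Mathlib
import Groth.Prelude
import Groth.Agent.Lib.ZHull1_helper5

set_option autoImplicit false
universe u

/-!
# Sections of `(R/p)^~` inside the fraction field of `A/p` (helper5)
-/

namespace Groth.Agent.Lib.ZHullH5

open AlgebraicGeometry CategoryTheory TopologicalSpace Opposite PrimeSpectrum
open Groth.Agent.Lib.TildeSecH3 Groth.Agent.Lib.ZClosedH3 Groth.Agent.Lib.ZClosed4H3

variable {R : CommRingCat.{u}} [IsNoetherianRing R] (p : Ideal R) [hp : p.IsPrime]

/-- `R ⧸ p` as an object of `ModuleCat R`. -/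
abbrev Mp : ModuleCat.{u} R := ModuleCat.of R (R ⧸ p)

/-- The fraction field of `R ⧸ p`. -/
abbrev Kp : Type u := FractionRing (R ⧸ p)

theorem algebraMap_ne_zero {c : R} (hc : c ∉ p) : algebraMap R (Kp p) c ≠ 0 := by
  rw [IsScalarTower.algebraMap_apply R (R ⧸ p) (Kp p)]
  intro h
  have h1 := (map_eq_zero_iff _ (IsFractionRing.injective (R ⧸ p) (Kp p))).1 h
  exact hc (Ideal.Quotient.eq_zero_iff_mem.1 h1)

theorem hN_K : ∀ c : R, c ∉ p → IsUnit (algebraMap R (Module.End R (Kp p)) c) := by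
  intro c hc
  rw [Module.End.isUnit_iff]
  have h0 := algebraMap_ne_zero p hc
  constructor
  · intro x y hxy
    have h1 : c • x = c • y := hxy
    rw [Algebra.smul_def, Algebra.smul_def] at h1
    exact mul_left_cancel₀ h0 h1
  · intro y
    refine ⟨(algebraMap R (Kp p) c)⁻¹ * y, ?_⟩
    show c • ((algebraMap R (Kp p) c)⁻¹ * y) = y
    rw [Algebra.smul_def, ← mul_assoc, mul_inv_cancel₀ h0, one_mul]

/-- The canonical map `A ⧸ p → Frac (R ⧸ p)`, as an `A`-linear map. -/
noncomputable def canK : (R ⧸ p) →ₗ[R] Kp p :=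
  (IsScalarTower.toAlgHom R (R ⧸ p) (Kp p)).toLinearMap

theorem canK_apply (x : R ⧸ p) : canK p x = algebraMap (R ⧸ p) (Kp p) x := rfl

theorem canK_injective : Function.Injective (canK p) :=
  IsFractionRing.injective (R ⧸ p) (Kp p)

theorem hreg_quot : ∀ c : R, c ∉ p → IsSMulRegular (R ⧸ p) c := by
  intro c hc x y hxy
  have h1 : c • x = c • y := hxy
  rw [Algebra.smul_def, Algebra.smul_def] at h1
  have h0 : algebraMap R (R ⧸ p) c ≠ 0 := fun h => hc (Ideal.Quotient.eq_zero_iff_mem.1 h)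
  exact mul_left_cancel₀ h0 h1

/-- The embedding of sections of `(R/p)^~` over an open neighbourhood of `p` into `Frac (A/p)`. -/
noncomputable def embK {W : (Spec R).Opens} (hpW : pt p ∈ W) :
    Sec (Mp p) W →ₗ[R] Kp p :=
  emb (M := Mp p) (p := p) (Kp p) (hN_K p) (canK p) hpW

theorem embK_toOpen {W : (Spec R).Opens} (hpW : pt p ∈ W) (m : R ⧸ p) :
    embK p hpW ((tilde.toOpen (Mp p) W).hom m) = algebraMap (R ⧸ p) (Kp p) m :=
  emb_toOpen (M := Mp p) (p := p) (Kp p) (hN_K p) (canK p) hpW m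

theorem embK_res {W W' : (Spec R).Opens} (h : W' ≤ W) (hpW' : pt p ∈ W')
    (s : Sec (Mp p) W) :
    embK p hpW' (res (Mp p) h s) = embK p (h hpW') s :=
  emb_res (M := Mp p) (p := p) (Kp p) (hN_K p) (canK p) h hpW' s

theorem embK_injective {W : (Spec R).Opens} (hpW : pt p ∈ W) :
    Function.Injective (embK p hpW) :=
  emb_injective (M := Mp p) (p := p) (Kp p) (hN_K p) (canK p) (hreg_quot p)
    (canK_injective p) hpW

/-- If `W` contains all primes of height one over `p`, the sections over `W` lie in the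
height-one hull of `R ⧸ p`. -/
theorem embK_mem_hull {W : (Spec R).Opens} (hpW : pt p ∈ W)
    (hW : ∀ P : PrimeSpectrum R, p ≤ P.asIdeal →
      (P.asIdeal.map (Ideal.Quotient.mk p)).height = 1 → P ∈ W)
    (s : Sec (Mp p) W) : embK p hpW s ∈ EGA4.heightOneHull (R ⧸ p) := by
  intro Q hQ hQ1
  let P : PrimeSpectrum R := ⟨Q.comap (Ideal.Quotient.mk p), Ideal.IsPrime.comap _⟩
  have hmap : P.asIdeal.map (Ideal.Quotient.mk p) = Q :=
    Ideal.map_comap_of_surjective _ Ideal.Quotient.mk_surjective Q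
  have hpP : p ≤ P.asIdeal := by
    intro a ha
    show Ideal.Quotient.mk p a ∈ Q
    rw [Ideal.Quotient.eq_zero_iff_mem.2 ha]
    exact Q.zero_mem
  have hPW : P ∈ W := hW P hpP (by rw [hmap]; exact hQ1)
  obtain ⟨c, hc, m, hm⟩ := exists_smul_eq_toOpen (Mp p) s P hPW
  refine ⟨Ideal.Quotient.mk p c, hc, m, ?_⟩
  have h1 : embK p hpW (c • s) = algebraMap (R ⧸ p) (Kp p) m := by
    rw [hm]; exact embK_toOpen p hpW m
  rw [map_smul, Algebra.smul_def, IsScalarTower.algebraMap_apply R (R ⧸ p) (Kp p)] at h1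
  exact h1.symm

/-- An element of the fraction field with ideal of denominators containing `D` is a section over
the complement of `V(D)`. -/
theorem exists_sec_of_denominators (x : Kp p) (D : Ideal R) (hDp : ¬ D ≤ p)
    (hD : ∀ b ∈ D, ∃ a : R ⧸ p,
      algebraMap (R ⧸ p) (Kp p) a = algebraMap (R ⧸ p) (Kp p) (Ideal.Quotient.mk p b) * x)
    (hpD : pt p ∈ pOpen (R := R) D) :
    ∃ s : Sec (Mp p) (pOpen (R := R) D), embK p hpD s = x := by
  -- the linear map `D → K`, `b ↦ b • x`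
  let ψ : ↥D →ₗ[R] Kp p :=
    { toFun := fun b => (b : R) • x
      map_add' := fun b c => by rw [Submodule.coe_add, add_smul]
      map_smul' := fun a b => by
        rw [Submodule.coe_smul, smul_eq_mul, mul_smul, RingHom.id_apply] }
  have hψ : ∀ b : ↥D, ψ b ∈ LinearMap.range (canK p) := by
    intro b
    obtain ⟨a, ha⟩ := hD b.1 b.2
    refine ⟨a, ?_⟩
    show algebraMap (R ⧸ p) (Kp p) a = (b : R) • x
    rw [ha, Algebra.smul_def, IsScalarTower.algebraMap_apply R (R ⧸ p) (Kp p)]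
    rfl
  let e := LinearEquiv.ofInjective (canK p) (canK_injective p)
  let φ : ↥D →ₗ[R] (R ⧸ p) :=
    e.symm.toLinearMap ∘ₗ (ψ.codRestrict (LinearMap.range (canK p)) hψ)
  have hφ : ∀ b : ↥D, canK p (φ b) = (b : R) • x := by
    intro b
    have h1 : e (φ b) = ψ.codRestrict (LinearMap.range (canK p)) hψ b :=
      e.apply_symm_apply _
    exact congrArg Subtype.val h1
  obtain ⟨s, hs⟩ := hom_sec_eq_smul (Mp p) D
    ((tilde.toOpen (Mp p) (pOpen (R := R) D)).hom ∘ₗ φ)
  refine ⟨s, ?_⟩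
  obtain ⟨b, hbD, hbp⟩ : ∃ b ∈ D, b ∉ p := by
    by_contra hcon
    push Not at hcon
    exact hDp hcon
  have h1 := hs ⟨b, hbD⟩
  have h2 : embK p hpD (b • s) = b • x := by
    rw [show b • s = ((⟨b, hbD⟩ : ↥D) : R) • s from rfl, ← h1, LinearMap.comp_apply, embK_toOpen]
    exact hφ ⟨b, hbD⟩
  rw [map_smul] at h2
  have hinj := smul_injective_target (R := R) (p := p) (Kp p) (hN_K p) (c := b) hbp
  exact hinj h2

end Groth.Agent.Lib.ZHullH5
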