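import Mathlib
import Groth.Prelude
import Groth.Agent.Lib.ZClos6_helper8
import Groth.Agent.Lib.ZHull2_helper5
import Groth.Agent.Lib.HullFinite_helper9

set_option autoImplicit false
universe u

/-!
# The Z-closure of `(A/p)^~` and the height-one hull of `A/p` (helper5)
-/

namespace Groth.Agent.Lib.ZHullH5

open AlgebraicGeometry CategoryTheory TopologicalSpace Opposite PrimeSpectrum
open Groth.Agent.Lib.TildeSecH3 Groth.Agent.Lib.ZClosedH3 ZClosH8

section ResPush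

variable {X : Scheme.{u}} {Z : Set X} (F : X.Modules)

/-- the module structure on sections of `j_*j^*F` (after helper8's `ZClosPt1_helper8`) -/
theorem resPush_smul' (T : ZClos.Cl Z) (V : X.Opens) (r : Γ(X, V))
    (t : Γ((ZClos.resPush T.U).obj F, V)) :
    r • t = (show Γ(F, TV T V) from
      (X.presheaf.map (homOfLE (TV_le T V)).op).hom r • (show Γ(F, TV T V) from t)) := by
  have h1 : r • t = (show Γ(F, TV T V) from
      ((T.U.ι.appIso (T.U.ι ⁻¹ᵁ V)).inv.hom ((T.U.ι.app V).hom r)) •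
        (show Γ(F, TV T V) from t)) := rfl
  rw [h1]
  have h2 : (T.U.ι.appIso (T.U.ι ⁻¹ᵁ V)).inv.hom ((T.U.ι.app V).hom r) =
      (X.presheaf.map (homOfLE (TV_le T V)).op).hom r := by
    have := Scheme.Hom.app_appIso_inv T.U.ι V
    exact congrArg (fun f => f.hom r) this
  rw [h2]

end ResPush

section General

variable {R : CommRingCat.{u}} [IsNoetherianRing R]
variable (Z : Set (Spec R)) (F : (Spec R).Modules)

theorem ιH_app_top_smul (T : ZClos.Cl Z) (a : R) (s : Γ(F, TV T ⊤)) :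
    (ιH Z F T).app ⊤ (a • s) = a • (ιH Z F T).app ⊤ s := by
  set r : Γ(Spec R, ⊤) := (Scheme.ΓSpecIso R).inv.hom a with hr
  have h1 : (a • s : Γ(F, TV T ⊤)) =
      (show Γ(F, TV T ⊤) from (r • (show Γ((ZClos.resPush T.U).obj F, ⊤) from s))) := by
    rw [resPush_smul' F T ⊤ r s, Scheme.Modules.smul_Spec_def]
    rfl
  have h2 : ∀ g : Γ((ZClos.H0 Z).obj F, ⊤), a • g = r • g := by
    intro g
    rw [Scheme.Modules.smul_Spec_def]
    have : (Spec R).presheaf.map (Opens.leTop (⊤ : (Spec R).Opens)).op = 𝟙 _ :=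
      (Spec R).presheaf.map_id _
    rw [this]
    rfl
  rw [h2, h1]
  exact Scheme.Modules.Hom.app_smul (ιH Z F T) r s

theorem smul_top_eq (r : Γ(Spec R, ⊤)) (g : Γ((ZClos.H0 Z).obj F, ⊤)) :
    r • g = ((Scheme.ΓSpecIso R).hom.hom r : R) • g := by
  rw [Scheme.Modules.smul_Spec_def]
  have : (Spec R).presheaf.map (Opens.leTop (⊤ : (Spec R).Opens)).op = 𝟙 _ :=
    (Spec R).presheaf.map_id _
  rw [this]
  have h1 : (Scheme.ΓSpecIso R).inv.hom ((Scheme.ΓSpecIso R).hom.hom r) = r := by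
    have := congrArg (fun f => f.hom r) (Scheme.ΓSpecIso R).hom_inv_id
    exact this
  show r • g = ((Scheme.ΓSpecIso R).inv.hom ((Scheme.ΓSpecIso R).hom.hom r)) • g
  rw [h1]

/-- The `R`-linear map from the stage `T` to the global sections of the Z-closure. -/
noncomputable def Lst (T : ZClos.Cl Z) : Γ(F, TV T ⊤) →ₗ[R] Γ((ZClos.H0 Z).obj F, ⊤) where
  toFun := fun s => (ιH Z F T).app ⊤ s
  map_add' := fun s t => map_add ((ιH Z F T).app ⊤).hom s t
  map_smul' := fun a s => ιH_app_top_smul Z F T a s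

theorem Lst_apply (T : ZClos.Cl Z) (s : Γ(F, TV T ⊤)) : Lst Z F T s = (ιH Z F T).app ⊤ s := rfl

theorem Lst_trans {T T' : ZClos.Cl Z} (h : T ≤ T') (s : Γ(F, TV T ⊤)) :
    Lst Z F T s = Lst Z F T' (ZClosH8.res F (TV_mono_left h ⊤) s) :=
  ιH_trans Z F h ⊤ s

theorem isCompact_top : IsCompact (((⊤ : (Spec R).Opens)) : Set (Spec R)) := isCompact_univ

theorem exists_Lst_eq (g : Γ((ZClos.H0 Z).obj F, ⊤)) :
    ∃ (T : ZClos.Cl Z) (s : Γ(F, TV T ⊤)), Lst Z F T s = g :=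
  H0_exists_rep Z F ⊤ isCompact_top g

theorem range_Lst_mono {T T' : ZClos.Cl Z} (h : T ≤ T') :
    LinearMap.range (Lst Z F T) ≤ LinearMap.range (Lst Z F T') := by
  rintro _ ⟨s, rfl⟩
  exact ⟨_, (Lst_trans Z F h s).symm⟩

/-- Finiteness over `R` from finiteness over `Γ(Spec R, ⊤)`. -/
theorem finite_of_finite_top
    (h : Module.Finite Γ(Spec R, ⊤) Γ((ZClos.H0 Z).obj F, ⊤)) :
    Module.Finite R Γ((ZClos.H0 Z).obj F, ⊤) := by
  obtain ⟨S, hS⟩ := h.fg_top
  refine ⟨⟨S, ?_⟩⟩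
  rw [eq_top_iff]
  intro g _
  have hg : g ∈ Submodule.span Γ(Spec R, ⊤) (S : Set Γ((ZClos.H0 Z).obj F, ⊤)) := by
    rw [hS]; trivial
  induction hg using Submodule.span_induction with
  | mem x hx => exact Submodule.subset_span hx
  | zero => exact Submodule.zero_mem _
  | add x y _ _ hx hy => exact Submodule.add_mem _ (hx trivial) (hy trivial)
  | smul r x _ hx =>
    rw [smul_top_eq]
    exact Submodule.smul_mem _ _ (hx trivial)

/-- Finiteness over `Γ(Spec R, ⊤)` from finiteness over `R`. -/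
theorem finite_top_of_finite
    (h : Module.Finite R Γ((ZClos.H0 Z).obj F, ⊤)) :
    Module.Finite Γ(Spec R, ⊤) Γ((ZClos.H0 Z).obj F, ⊤) :=
  Module.Finite.of_restrictScalars_finite R _ _

/-- If the global sections of the Z-closure are finite, they all come from one stage. -/
theorem exists_stage_of_finite (h : Module.Finite R Γ((ZClos.H0 Z).obj F, ⊤)) :
    ∃ T₀ : ZClos.Cl Z, ∀ g : Γ((ZClos.H0 Z).obj F, ⊤), ∃ s : Γ(F, TV T₀ ⊤), Lst Z F T₀ s = g := by
  classical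
  obtain ⟨S, hS⟩ := h.fg_top
  choose T s hTs using exists_Lst_eq Z F
  refine ⟨S.sup T, ?_⟩
  have hle : Submodule.span R (S : Set Γ((ZClos.H0 Z).obj F, ⊤)) ≤
      LinearMap.range (Lst Z F (S.sup T)) := by
    rw [Submodule.span_le]
    intro g hg
    exact range_Lst_mono Z F (Finset.le_sup hg) ⟨s g, hTs g⟩
  intro g
  have : g ∈ Submodule.span R (S : Set Γ((ZClos.H0 Z).obj F, ⊤)) := by rw [hS]; trivial
  exact hle this

end General

section Quot

variable {R : CommRingCat.{u}} [IsNoetherianRing R] (p : Ideal R) [hp : p.IsPrime]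
  (Z : Set (Spec R))

/-- The sheaf `(R/p)^~`. -/
noncomputable abbrev Fp : (Spec R).Modules := tilde (Mp p)

variable {Z}

theorem mem_TV_top (T : ZClos.Cl Z) {P : Spec R} (hP : P ∉ Z) : P ∈ TV T ⊤ := by
  rw [TV_eq]
  refine ⟨?_, trivial⟩
  show P ∈ (T.1.compl : Opens _)
  intro hPT
  exact hP (T.2 hPT)

variable (Z)

/-- The image of the stage `T` in the fraction field. -/
noncomputable def Nst (hpZ : pt p ∉ Z) (T : ZClos.Cl Z) : Submodule R (Kp p) :=
  LinearMap.range (embK p (mem_TV_top T hpZ))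

theorem Nst_mono (hpZ : pt p ∉ Z) {T T' : ZClos.Cl Z} (h : T ≤ T') :
    Nst p Z hpZ T ≤ Nst p Z hpZ T' := by
  rintro _ ⟨s, rfl⟩
  refine ⟨res (Mp p) (TV_mono_left h ⊤) s, ?_⟩
  exact embK_res p (TV_mono_left h ⊤) (mem_TV_top T' hpZ) s

theorem Nst_subset_hull (hpZ : pt p ∉ Z)
    (hC : ∀ y ∈ Z, p ≤ y.asIdeal → (2 : ℕ∞) ≤ (y.asIdeal.map (Ideal.Quotient.mk p)).height)
    (T : ZClos.Cl Z) (x : Kp p) (hx : x ∈ Nst p Z hpZ T) :
    x ∈ EGA4.heightOneHull (R ⧸ p) := by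
  obtain ⟨s, rfl⟩ := hx
  apply embK_mem_hull p (mem_TV_top T hpZ) _ s
  intro P hpP hP1
  apply mem_TV_top T
  intro hPZ
  have := hC P hPZ hpP
  rw [hP1] at this
  exact absurd this (by norm_num)

/-- The stage maps are injective on global sections. -/
theorem Lst_injective (hpZ : pt p ∉ Z) (T : ZClos.Cl Z) :
    Function.Injective (Lst Z (Fp p) T) := by
  rw [injective_iff_map_eq_zero]
  intro s hs
  obtain ⟨T', hTT', h0⟩ := H0_eq_zero Z (Fp p) ⊤ isCompact_top T s hs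
  have hinj := res_injective (M := Mp p) (p := p) (hreg_quot p) (TV_mono_left hTT' ⊤)
    (mem_TV_top T' hpZ)
  have h0' : res (Mp p) (TV_mono_left hTT' ⊤) (show Sec (Mp p) (TV T ⊤) from s) = 0 := h0
  exact hinj (h0'.trans (map_zero _).symm)

/-- `(a)` for `A/p` implies the finiteness of the global sections of the Z-closure of
`(A/p)^~`. -/
theorem finite_H0_top (hpZ : pt p ∉ Z)
    (hC : ∀ y ∈ Z, p ≤ y.asIdeal → (2 : ℕ∞) ≤ (y.asIdeal.map (Ideal.Quotient.mk p)).height)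
    (hfin : EGA4.HeightOneHullFinite (R ⧸ p)) :
    Module.Finite R Γ((ZClos.H0 Z).obj (Fp p), ⊤) := by
  classical
  obtain ⟨B', hB', hB'fin⟩ := hfin
  haveI := hB'fin
  haveI : Module.Finite R ↥B' := Module.Finite.trans (R ⧸ p) ↥B'
  haveI : IsNoetherian R ↥B' := isNoetherian_of_isNoetherianRing_of_finite R ↥B'
  let Hc : Submodule R (Kp p) := (Subalgebra.toSubmodule B').restrictScalars R
  have hHc : ∀ x : Kp p, x ∈ Hc ↔ x ∈ EGA4.heightOneHull (R ⧸ p) := by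
    intro x
    rw [← hB']
    rfl
  let f0 : ↥Hc →ₗ[R] ↥B' :=
    { toFun := fun x => ⟨x.1, x.2⟩
      map_add' := fun _ _ => rfl
      map_smul' := fun _ _ => rfl }
  haveI : IsNoetherian R ↥Hc := isNoetherian_of_injective f0 (by
    intro x y hxy
    exact Subtype.ext (congrArg Subtype.val hxy))
  have hle : ∀ T : ZClos.Cl Z, Nst p Z hpZ T ≤ Hc := fun T x hx =>
    (hHc x).2 (Nst_subset_hull p Z hpZ hC T x hx)
  -- a maximal stage
  let S : Set (Submodule R ↥Hc) := Set.range (fun T : ZClos.Cl Z => (Nst p Z hpZ T).comap Hc.subtype)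
  have hSne : S.Nonempty := ⟨_, ⟨⊥, rfl⟩⟩
  obtain ⟨_, ⟨T₀, rfl⟩, hmax⟩ := WellFounded.has_min
    (wellFounded_gt (α := Submodule R ↥Hc)) S hSne
  have hstab : ∀ T : ZClos.Cl Z, T₀ ≤ T → Nst p Z hpZ T ≤ Nst p Z hpZ T₀ := by
    intro T hT x hx
    have h1 : (Nst p Z hpZ T₀).comap Hc.subtype ≤ (Nst p Z hpZ T).comap Hc.subtype :=
      Submodule.comap_mono (Nst_mono p Z hpZ hT)
    have h2 : ¬ ((Nst p Z hpZ T).comap Hc.subtype > (Nst p Z hpZ T₀).comap Hc.subtype) :=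
      hmax _ ⟨T, rfl⟩
    have h3 : (Nst p Z hpZ T).comap Hc.subtype = (Nst p Z hpZ T₀).comap Hc.subtype := by
      by_contra hne
      exact h2 (lt_of_le_of_ne h1 (Ne.symm hne))
    have h4 : (⟨x, hle T hx⟩ : ↥Hc) ∈ (Nst p Z hpZ T).comap Hc.subtype := hx
    rw [h3] at h4
    exact h4
  -- surjectivity of the stage map
  have hsurj : Function.Surjective (Lst Z (Fp p) T₀) := by
    intro g
    obtain ⟨T, s, rfl⟩ := exists_Lst_eq Z (Fp p) g
    have hT : T ≤ T ⊔ T₀ := le_sup_left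
    have hT₀ : T₀ ≤ T ⊔ T₀ := le_sup_right
    rw [Lst_trans Z (Fp p) hT s]
    set s' : Sec (Mp p) (TV (T ⊔ T₀) ⊤) := ZClosH8.res (Fp p) (TV_mono_left hT ⊤) s with hs'
    have h1 : embK p (mem_TV_top (T ⊔ T₀) hpZ) s' ∈ Nst p Z hpZ T₀ :=
      hstab _ hT₀ ⟨s', rfl⟩
    obtain ⟨s₀, hs₀⟩ := h1
    refine ⟨s₀, ?_⟩
    rw [Lst_trans Z (Fp p) hT₀ s₀]
    congr 1
    apply embK_injective p (mem_TV_top (T ⊔ T₀) hpZ)
    rw [← hs₀]
    exact embK_res p (TV_mono_left hT₀ ⊤) (mem_TV_top (T ⊔ T₀) hpZ) s₀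
  -- finiteness of the stage
  let f1 : Sec (Mp p) (TV T₀ ⊤) →ₗ[R] ↥Hc :=
    (embK p (mem_TV_top T₀ hpZ)).codRestrict Hc (fun s => hle T₀ ⟨s, rfl⟩)
  have hfinS : Module.Finite R (Sec (Mp p) (TV T₀ ⊤)) := Module.Finite.of_injective f1 (by
    intro s t hst
    exact embK_injective p (mem_TV_top T₀ hpZ) (congrArg Subtype.val hst))
  haveI : Module.Finite R Γ(Fp p, TV T₀ ⊤) := hfinS
  exact Module.Finite.of_surjective (Lst Z (Fp p) T₀) hsurj

end Quot

end Groth.Agent.Lib.ZHullH5
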