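import Mathlib
import Groth.Prelude
import Groth.Agent.Lib.ZHull3_helper5

set_option autoImplicit false
universe u

/-!
# Coherence of the Z-closure of `(R/p)^~` versus finiteness of the height-one hull (helper5)
-/

namespace Groth.Agent.Lib.ZHullH5

open AlgebraicGeometry CategoryTheory TopologicalSpace Opposite PrimeSpectrum
open Groth.Agent.Lib.TildeSecH3 Groth.Agent.Lib.ZClosedH3 ZClosH8

variable {R : CommRingCat.{u}} [IsNoetherianRing R] (p : Ideal R) [hp : p.IsPrime]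
  (Z : Set (Spec R))

/-- Coherence from finiteness of global sections. -/
theorem isCoh_of_finite (F : (Spec R).Modules) [F.IsQuasicoherent]
    (h : Module.Finite R Γ((ZClos.H0 Z).obj F, ⊤)) : Coh.IsCoh ((ZClos.H0 Z).obj F) := by
  haveI := isQuasicoherent_H0 Z F
  refine ⟨inferInstance, ?_⟩
  refine QCohCrit.isFiniteType_of_sections_cover ((ZClos.H0 Z).obj F) (ι := PUnit.{u+1})
    (fun _ => (⊤ : (Spec R).Opens)) (fun _ => isAffineOpen_top (Spec R)) ?_ (fun _ => ?_)
  · exact iSup_const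
  · exact finite_top_of_finite Z F h

/-- Finiteness of global sections from coherence. -/
theorem finite_of_isCoh (F : (Spec R).Modules) [F.IsQuasicoherent]
    (h : Coh.IsCoh ((ZClos.H0 Z).obj F)) : Module.Finite R Γ((ZClos.H0 Z).obj F, ⊤) := by
  haveI := h.1
  haveI := h.2
  exact finite_of_finite_top Z F
    (QCohFT.finite_of_isFiniteType ((ZClos.H0 Z).obj F) (isAffineOpen_top (Spec R)))

/-- `(a)` for `R/p` implies the coherence of the Z-closure of `(R/p)^~`. -/
theorem isCoh_H0_quot (hpZ : pt p ∉ Z)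
    (hC : ∀ y ∈ Z, p ≤ y.asIdeal → (2 : ℕ∞) ≤ (y.asIdeal.map (Ideal.Quotient.mk p)).height)
    (hfin : EGA4.HeightOneHullFinite (R ⧸ p)) :
    Coh.IsCoh ((ZClos.H0 Z).obj (Fp p)) :=
  isCoh_of_finite Z (Fp p) (finite_H0_top p Z hpZ hC hfin)

/-- The closed subset of primes of `R ⧸ p`-height at least two over `p`. -/
def Ztwo : Set (Spec R) :=
  {y | p ≤ y.asIdeal ∧ (2 : ℕ∞) ≤ (y.asIdeal.map (Ideal.Quotient.mk p)).height}

theorem pt_not_mem_Ztwo : pt p ∉ Ztwo p := by
  rintro ⟨-, h⟩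
  have h1 : (pt p).asIdeal.map (Ideal.Quotient.mk p) = ⊥ := by
    rw [Ideal.map_eq_bot_iff_le_ker, Ideal.mk_ker]
  rw [h1, Ideal.height_bot] at h
  exact absurd h (by norm_num)

theorem stable_Ztwo : StableUnderSpecialization (Ztwo p) := by
  intro y y' hyy' hy
  have hle : y.asIdeal ≤ y'.asIdeal := (PrimeSpectrum.le_iff_specializes y y').2 hyy'
  exact ⟨hy.1.trans hle, hy.2.trans (Ideal.height_mono (Ideal.map_mono hle))⟩

/-- `(b)` for `R/p` and the set of primes of height at least two over `p` implies `(a)`. -/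
theorem heightOneHullFinite_of_finite
    (hfin : Module.Finite R Γ((ZClos.H0 (Ztwo p)).obj (Fp p), ⊤)) :
    EGA4.HeightOneHullFinite (R ⧸ p) := by
  classical
  have hpZ : pt p ∉ Ztwo p := pt_not_mem_Ztwo p
  have hC : ∀ y ∈ Ztwo p, p ≤ y.asIdeal →
      (2 : ℕ∞) ≤ (y.asIdeal.map (Ideal.Quotient.mk p)).height := fun y hy _ => hy.2
  obtain ⟨T₀, hT₀⟩ := exists_stage_of_finite (Ztwo p) (Fp p) hfin
  -- restrictions from the stage `T₀` are surjective
  have hres : ∀ T : ZClos.Cl (Ztwo p), ∀ hT : T₀ ≤ T, ∀ s : Sec (Mp p) (TV T ⊤),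
      ∃ s₀ : Sec (Mp p) (TV T₀ ⊤), res (Mp p) (TV_mono_left hT ⊤) s₀ = s := by
    intro T hT s
    obtain ⟨s₀, hs₀⟩ := hT₀ (Lst (Ztwo p) (Fp p) T s)
    refine ⟨s₀, ?_⟩
    apply Lst_injective p (Ztwo p) hpZ T
    rw [← hs₀]
    exact (Lst_trans (Ztwo p) (Fp p) hT s₀).symm
  have hstab : ∀ T : ZClos.Cl (Ztwo p), T₀ ≤ T → Nst p (Ztwo p) hpZ T ≤ Nst p (Ztwo p) hpZ T₀ := by
    rintro T hT _ ⟨s, rfl⟩
    obtain ⟨s₀, rfl⟩ := hres T hT s
    exact ⟨s₀, (embK_res p (TV_mono_left hT ⊤) (mem_TV_top T hpZ) s₀).symm⟩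
  -- every element of the hull comes from the stage `T₀`
  have hull_le : ∀ x : Kp p, x ∈ EGA4.heightOneHull (R ⧸ p) → x ∈ Nst p (Ztwo p) hpZ T₀ := by
    intro x hx
    let D : Ideal R := (LinearMap.range (canK p)).colon {x}
    have hDmem : ∀ b : R, b ∈ D ↔ ∃ a : R ⧸ p,
        algebraMap (R ⧸ p) (Kp p) a = algebraMap (R ⧸ p) (Kp p) (Ideal.Quotient.mk p b) * x := by
      intro b
      rw [Submodule.mem_colon_singleton]
      constructor
      · rintro ⟨a, ha⟩
        refine ⟨a, ?_⟩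
        rw [← canK_apply, ha, Algebra.smul_def, IsScalarTower.algebraMap_apply R (R ⧸ p) (Kp p)]
        rfl
      · rintro ⟨a, ha⟩
        refine ⟨a, ?_⟩
        rw [canK_apply, ha, Algebra.smul_def, IsScalarTower.algebraMap_apply R (R ⧸ p) (Kp p)]
        rfl
    have hpD : p ≤ D := by
      intro b hb
      rw [hDmem]
      refine ⟨0, ?_⟩
      rw [Ideal.Quotient.eq_zero_iff_mem.2 hb, map_zero, zero_mul]
    have hDp : ¬ D ≤ p := by
      intro hle
      obtain ⟨⟨a, s⟩, has⟩ := IsLocalization.surj (nonZeroDivisors (R ⧸ p)) x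
      obtain ⟨b, hb⟩ := Ideal.Quotient.mk_surjective (s : R ⧸ p)
      have hbD : b ∈ D := by
        rw [hDmem]
        refine ⟨a, ?_⟩
        rw [hb, mul_comm]
        exact has.symm
      have hbp : b ∈ p := hle hbD
      have : (s : R ⧸ p) = 0 := by rw [← hb]; exact Ideal.Quotient.eq_zero_iff_mem.2 hbp
      exact nonZeroDivisors.ne_zero s.2 this
    have hsub : (PrimeSpectrum.zeroLocus (D : Set R)) ⊆ Ztwo p := by
      intro y hy
      have hDy : D ≤ y.asIdeal := hy
      refine ⟨hpD.trans hDy, ?_⟩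
      by_contra hht
      haveI : (y.asIdeal.map (Ideal.Quotient.mk p)).IsPrime :=
        Ideal.map_isPrime_of_surjective Ideal.Quotient.mk_surjective
          (by rw [Ideal.mk_ker]; exact hpD.trans hDy)
      have hle1 : (y.asIdeal.map (Ideal.Quotient.mk p)).height ≤ 1 := by
        rw [not_le] at hht
        have h2 : (2 : ℕ∞) = 1 + 1 := by norm_num
        rw [h2] at hht
        exact Order.le_of_lt_add_one hht
      rcases lt_or_eq_of_le hle1 with hlt | heq
      · have h0 : (y.asIdeal.map (Ideal.Quotient.mk p)).height = 0 := by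
          exact Order.lt_one_iff.1 hlt
        rw [Ideal.height_eq_zero_iff_eq_bot, Ideal.map_eq_bot_iff_le_ker, Ideal.mk_ker] at h0
        exact hDp (hDy.trans h0)
      · obtain ⟨s, hs, a, ha⟩ := hx (y.asIdeal.map (Ideal.Quotient.mk p)) heq
        obtain ⟨b, rfl⟩ := Ideal.Quotient.mk_surjective s
        apply hs
        apply Ideal.mem_map_of_mem
        apply hDy
        rw [hDmem]
        exact ⟨a, ha⟩
    let Tx : ZClos.Cl (Ztwo p) :=
      ⟨⟨PrimeSpectrum.zeroLocus (D : Set R), PrimeSpectrum.isClosed_zeroLocus _⟩, hsub⟩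
    have hpD' : pt p ∈ pOpen (R := R) D := by
      rw [mem_pOpen_iff]
      by_contra hcon
      push Not at hcon
      exact hDp hcon
    obtain ⟨s, hs⟩ := exists_sec_of_denominators p x D hDp
      (fun b hb => (hDmem b).1 hb) hpD'
    have hT₀ : T₀ ≤ T₀ ⊔ Tx := le_sup_left
    have hTx : Tx ≤ T₀ ⊔ Tx := le_sup_right
    have hle : TV (T₀ ⊔ Tx) ⊤ ≤ pOpen (R := R) D := by
      rw [TV_eq]
      exact inf_le_left.trans (ZClos.Cl.U_anti hTx)
    apply hstab (T₀ ⊔ Tx) hT₀
    refine ⟨res (Mp p) hle s, ?_⟩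
    rw [← hs]
    exact embK_res p hle (mem_TV_top (T₀ ⊔ Tx) hpZ) s
  -- conclusion
  haveI : IsNoetherian R Γ((ZClos.H0 (Ztwo p)).obj (Fp p), ⊤) :=
    isNoetherian_of_isNoetherianRing_of_finite R _
  have hfinS : Module.Finite R Γ(Fp p, TV T₀ ⊤) :=
    Module.Finite.of_injective (Lst (Ztwo p) (Fp p) T₀) (Lst_injective p (Ztwo p) hpZ T₀)
  have hfinS' : Module.Finite R (Sec (Mp p) (TV T₀ ⊤)) := hfinS
  haveI := hfinS'
  haveI : Module.Finite R ↥(Nst p (Ztwo p) hpZ T₀) :=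
    Module.Finite.range (embK p (mem_TV_top T₀ hpZ))
  haveI : IsNoetherian R ↥(Nst p (Ztwo p) hpZ T₀) :=
    isNoetherian_of_isNoetherianRing_of_finite R _
  refine ⟨Groth.Agent.EquiCat9.heightOneHullSubalgebra (R ⧸ p), rfl, ?_⟩
  let f : ↥(Groth.Agent.EquiCat9.heightOneHullSubalgebra (R ⧸ p)) →ₗ[R]
      ↥(Nst p (Ztwo p) hpZ T₀) :=
    { toFun := fun y => ⟨y.1, hull_le y.1 y.2⟩
      map_add' := fun _ _ => rfl
      map_smul' := fun _ _ => rfl }
  haveI : Module.Finite R ↥(Groth.Agent.EquiCat9.heightOneHullSubalgebra (R ⧸ p)) :=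
    Module.Finite.of_injective f (by
      intro y z hyz
      have h1 : (f y).1 = (f z).1 := congrArg Subtype.val hyz
      exact Subtype.ext h1)
  exact Module.Finite.of_restrictScalars_finite R (R ⧸ p) _

end Groth.Agent.Lib.ZHullH5
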