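import Mathlib
import Groth.Prelude
import Groth.Agent.Lib.ZClos6_helper8
import Groth.Agent.Lib.ZClos2_helper8
import Groth.Agent.Lib.SubExt_helper9
import Groth.Agent.Lib.QCohExact_helper9
import Groth.Agent.Lib.QCohCrit_helper9
import Groth.Agent.Lib.QCohFT_helper9
import Groth.Agent.Lib.CohKer_helper8

set_option autoImplicit false
universe u

/-!
# Devissage properties of `M ↦ H⁰_{X/Z}(M^~)` on `Spec R` (helper5)
-/

namespace Groth.Agent.Lib.ZHullH5

open AlgebraicGeometry CategoryTheory CategoryTheory.Limits TopologicalSpace Opposite PrimeSpectrum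
open ZClosH8 ZeroObject

variable (A : Type u) [CommRing A]

/-- the tilde functor preserves monomorphisms (after helper2's `AlgzExt7_helper2`) -/
theorem mono_tilde_map {N N' : ModuleCat.{u} A} (f : N ⟶ N') [Mono f] :
    Mono ((tilde.functor (CommRingCat.of A)).map f) := by
  haveI : (tilde.functor (CommRingCat.of A)).IsLeftAdjoint := (tilde.adjunction (R := CommRingCat.of A)).isLeftAdjoint
  haveI : (tilde.functor (CommRingCat.of A)).PreservesZeroMorphisms :=
    Functor.preservesZeroMorphisms_of_isLeftAdjoint _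
  haveI : (moduleSpecΓFunctor (R := CommRingCat.of A)).IsRightAdjoint :=
    (tilde.adjunction (R := CommRingCat.of A)).isRightAdjoint
  haveI : (moduleSpecΓFunctor (R := CommRingCat.of A)).PreservesZeroMorphisms :=
    Functor.preservesZeroMorphisms_of_isRightAdjoint _
  obtain ⟨φ, hφ⟩ : ∃ φ : (tilde.functor (CommRingCat.of A)).obj N ⟶ (tilde.functor (CommRingCat.of A)).obj N',
      φ = (tilde.functor (CommRingCat.of A)).map f := ⟨_, rfl⟩
  rw [← hφ]
  apply Preadditive.mono_of_kernel_zero
  haveI h1q : ((tilde.functor (CommRingCat.of A)).obj N).IsQuasicoherent :=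
    inferInstanceAs (tilde (R := CommRingCat.of A) N).IsQuasicoherent
  haveI h2q : ((tilde.functor (CommRingCat.of A)).obj N').IsQuasicoherent :=
    inferInstanceAs (tilde (R := CommRingCat.of A) N').IsQuasicoherent
  haveI : (kernel φ).IsQuasicoherent := SubExt.isQuasicoherent_kernel φ
  haveI : IsIso ((Scheme.Modules.fromTildeΓNatTrans (R := CommRingCat.of A)).app (kernel φ)) := by
    show IsIso (Scheme.Modules.fromTildeΓ (R := CommRingCat.of A) (kernel φ))
    exact Scheme.Modules.isIso_fromTildeΓ_of_isQuasicoherent (R := CommRingCat.of A) (kernel φ)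
  have hnat := (Scheme.Modules.fromTildeΓNatTrans (R := CommRingCat.of A)).naturality (kernel.ι φ)
  have hΓ : (moduleSpecΓFunctor (R := CommRingCat.of A)).map (kernel.ι φ) = 0 := by
    haveI : Mono ((moduleSpecΓFunctor (R := CommRingCat.of A)).map φ) := by
      have h1 := (tilde.toTildeΓNatIso (R := CommRingCat.of A)).hom.naturality f
      have h3 : f ≫ (tilde.toTildeΓNatIso (R := CommRingCat.of A)).hom.app N' =
          (tilde.toTildeΓNatIso (R := CommRingCat.of A)).hom.app N ≫
            (moduleSpecΓFunctor (R := CommRingCat.of A)).map ((tilde.functor (CommRingCat.of A)).map f) := h1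
      have h2 : (moduleSpecΓFunctor (R := CommRingCat.of A)).map φ =
          (tilde.toTildeΓNatIso (R := CommRingCat.of A)).inv.app N ≫ f ≫
            (tilde.toTildeΓNatIso (R := CommRingCat.of A)).hom.app N' := by
        rw [hφ, h3, Iso.inv_hom_id_app_assoc]
      rw [h2]
      have i1 : IsIso ((tilde.toTildeΓNatIso (R := CommRingCat.of A)).hom.app N') :=
        ⟨⟨(tilde.toTildeΓNatIso (R := CommRingCat.of A)).inv.app N',
          Iso.hom_inv_id_app _ _, Iso.inv_hom_id_app _ _⟩⟩
      have i2 : IsIso ((tilde.toTildeΓNatIso (R := CommRingCat.of A)).inv.app N) :=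
        ⟨⟨(tilde.toTildeΓNatIso (R := CommRingCat.of A)).hom.app N,
          Iso.inv_hom_id_app _ _, Iso.hom_inv_id_app _ _⟩⟩
      have m1 : Mono ((tilde.toTildeΓNatIso (R := CommRingCat.of A)).hom.app N') :=
        @IsIso.mono_of_iso _ _ _ _ _ i1
      have m2 : Mono ((tilde.toTildeΓNatIso (R := CommRingCat.of A)).inv.app N) :=
        @IsIso.mono_of_iso _ _ _ _ _ i2
      have m3 : Mono (f ≫ (tilde.toTildeΓNatIso (R := CommRingCat.of A)).hom.app N') :=
        @mono_comp _ _ _ _ _ f _ _ m1
      exact @mono_comp _ _ _ _ _ _ m2 _ m3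
    rw [← cancel_mono ((moduleSpecΓFunctor (R := CommRingCat.of A)).map φ), ← Functor.map_comp,
      kernel.condition, Functor.map_zero, zero_comp]
  rw [← cancel_epi ((Scheme.Modules.fromTildeΓNatTrans (R := CommRingCat.of A)).app (kernel φ)), comp_zero]
  rw [Functor.id_map] at hnat
  rw [← hnat, Functor.comp_map, hΓ, Functor.map_zero, zero_comp]

/-- the tilde functor is exact -/
theorem preservesFiniteLimits_tilde : PreservesFiniteLimits (tilde.functor (CommRingCat.of A)) := by
  haveI : (tilde.functor (CommRingCat.of A)).IsLeftAdjoint := (tilde.adjunction (R := CommRingCat.of A)).isLeftAdjoint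
  have hc : PreservesFiniteColimits (tilde.functor (CommRingCat.of A)) := inferInstance
  rw [Functor.preservesFiniteLimits_iff_forall_exact_map_and_mono]
  intro S hS
  have h1 := (Functor.preservesFiniteColimits_iff_forall_exact_map_and_epi
    (tilde.functor (CommRingCat.of A))).1 hc S hS
  haveI := hS.mono_f
  exact ⟨h1.1, mono_tilde_map A S.f⟩

section Gen

variable {X : Scheme.{u}} [IsLocallyNoetherian X]

/-- a quasi-coherent module with a monomorphism into a coherent one is coherent -/
theorem isCoh_of_mono' {A B : X.Modules} (a : A ⟶ B) [Mono a]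
    (hA : A.IsQuasicoherent) (hB : Coh.IsCoh B) : Coh.IsCoh A := by
  haveI := hA
  haveI := hB.1
  haveI := hB.2
  refine ⟨hA, ?_⟩
  refine QCohCrit.isFiniteType_of_sections_cover A
    (fun V : X.affineOpens => (V : X.Opens)) (fun V => V.2) CohKerH8.iSup_affineOpens (fun V => ?_)
  haveI : IsNoetherianRing Γ(X, V.1) := IsLocallyNoetherian.component_noetherian V
  haveI := QCohFT.finite_of_isFiniteType B V.2
  haveI : IsNoetherian Γ(X, V.1) Γ(B, V.1) := isNoetherian_of_isNoetherianRing_of_finite _ _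
  let ψ : Γ(A, V.1) →ₗ[Γ(X, V.1)] Γ(B, V.1) :=
    { toFun := fun x => a.app V.1 x
      map_add' := fun x y => map_add (a.app V.1).hom x y
      map_smul' := fun r m => Scheme.Modules.Hom.app_smul a r m }
  exact Module.Finite.of_injective ψ (QCohExact.app_injective_of_mono a V.1)

/-- a quasi-coherent zero module is coherent -/
theorem isCoh_of_isZero' {M : X.Modules} (hM : M.IsQuasicoherent) (h : IsZero M) :
    Coh.IsCoh M := by
  haveI := hM
  refine ⟨hM, ?_⟩
  refine QCohCrit.isFiniteType_of_sections_cover M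
    (fun V : X.affineOpens => (V : X.Opens)) (fun V => V.2) CohKerH8.iSup_affineOpens (fun V => ?_)
  haveI : Subsingleton Γ(M, V.1) :=
    ⟨fun s t => by rw [section_eq_zero_of_isZero h V.1 s, section_eq_zero_of_isZero h V.1 t]⟩
  infer_instance

theorem isCoh_of_leftExact (T : ShortComplex X.Modules)
    (hT : T.Exact) [Mono T.f] (hq : T.X₂.IsQuasicoherent) (h1 : Coh.IsCoh T.X₁)
    (h3 : Coh.IsCoh T.X₃) : Coh.IsCoh T.X₂ := by
  haveI := hq
  haveI := h1.1
  haveI := h1.2
  haveI := h3.1
  haveI := h3.2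
  refine ⟨hq, ?_⟩
  refine QCohCrit.isFiniteType_of_sections_cover T.X₂
    (fun V : X.affineOpens => (V : X.Opens)) (fun V => V.2) CohKerH8.iSup_affineOpens (fun V => ?_)
  haveI : IsNoetherianRing Γ(X, V.1) := IsLocallyNoetherian.component_noetherian V
  haveI := QCohFT.finite_of_isFiniteType T.X₁ V.2
  haveI := QCohFT.finite_of_isFiniteType T.X₃ V.2
  haveI : IsNoetherian Γ(X, V.1) Γ(T.X₃, V.1) := isNoetherian_of_isNoetherianRing_of_finite _ _
  let ψf : Γ(T.X₁, V.1) →ₗ[Γ(X, V.1)] Γ(T.X₂, V.1) :=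
    { toFun := fun x => T.f.app V.1 x
      map_add' := fun x y => map_add (T.f.app V.1).hom x y
      map_smul' := fun r m => Scheme.Modules.Hom.app_smul T.f r m }
  let ψg : Γ(T.X₂, V.1) →ₗ[Γ(X, V.1)] Γ(T.X₃, V.1) :=
    { toFun := fun x => T.g.app V.1 x
      map_add' := fun x y => map_add (T.g.app V.1).hom x y
      map_smul' := fun r m => Scheme.Modules.Hom.app_smul T.g r m }
  have hker : LinearMap.ker ψg ≤ LinearMap.range ψf := by
    intro x hx
    obtain ⟨y, hy⟩ := QCohExact.app_exact T hT V.1 x hx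
    exact ⟨y, hy⟩
  rw [Module.finite_def]
  apply Submodule.fg_of_fg_map_of_fg_inf_ker ψg
  · exact IsNoetherian.noetherian _
  · rw [top_inf_eq]
    have h2 : LinearMap.ker ψg =
        Submodule.map ψf (Submodule.comap ψf (LinearMap.ker ψg)) := by
      rw [Submodule.map_comap_eq]
      exact (inf_eq_right.2 hker).symm
    rw [h2]
    haveI : IsNoetherian Γ(X, V.1) Γ(T.X₁, V.1) := isNoetherian_of_isNoetherianRing_of_finite _ _
    exact (IsNoetherian.noetherian _).map ψf

/-- left exact functors and coherence (with abstract functors, to keep unification cheap) -/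
theorem isCoh_of_exact_gen {C : Type (u + 1)} [Category.{u} C] [Abelian C]
    (F : C ⥤ X.Modules) [F.Additive] (hF : PreservesFiniteLimits F)
    (G : X.Modules ⥤ X.Modules) [G.Additive] (hG : PreservesFiniteLimits G)
    (hqc : ∀ c : C, (G.obj (F.obj c)).IsQuasicoherent)
    (S : ShortComplex C) (hS : S.Exact) [Mono S.f]
    (h1 : Coh.IsCoh (G.obj (F.obj S.X₁))) (h3 : Coh.IsCoh (G.obj (F.obj S.X₃))) :
    Coh.IsCoh (G.obj (F.obj S.X₂)) := by
  have key1 : PreservesFiniteLimits F ↔ ∀ (S : ShortComplex C),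
      S.Exact ∧ Mono S.f → (S.map F).Exact ∧ Mono (F.map S.f) :=
    (Functor.preservesFiniteLimits_tfae F).out 3 1
  have key2 : PreservesFiniteLimits G ↔ ∀ (S : ShortComplex X.Modules),
      S.Exact ∧ Mono S.f → (S.map G).Exact ∧ Mono (G.map S.f) :=
    (Functor.preservesFiniteLimits_tfae G).out 3 1
  have e1 := key1.1 hF S ⟨hS, inferInstance⟩
  have e2 := key2.1 hG (S.map F) ⟨e1.1, e1.2⟩
  haveI : Mono ((S.map F).map G).f := e2.2
  exact isCoh_of_leftExact ((S.map F).map G) e2.1 (hqc S.X₂) h1 h3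

theorem isCoh_of_exact_gen' {C : Type (u + 1)} [Category.{u} C] [Abelian C]
    (F : C ⥤ X.Modules) [F.Additive] (hF : PreservesFiniteLimits F)
    (G : X.Modules ⥤ X.Modules) [G.Additive] (hG : PreservesFiniteLimits G)
    (hqc : ∀ c : C, (G.obj (F.obj c)).IsQuasicoherent)
    {X₁ X₂ X₃ : C} (f : X₁ ⟶ X₂) (g : X₂ ⟶ X₃) (w : f ≫ g = 0)
    (hS : (ShortComplex.mk f g w).Exact) (hf : Mono f)
    (h1 : Coh.IsCoh (G.obj (F.obj X₁))) (h3 : Coh.IsCoh (G.obj (F.obj X₃))) :
    Coh.IsCoh (G.obj (F.obj X₂)) := by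
  haveI : Mono (ShortComplex.mk f g w).f := hf
  exact isCoh_of_exact_gen F hF G hG hqc (ShortComplex.mk f g w) hS h1 h3

end Gen

section Dev

variable {A} [IsNoetherianRing A] (Z : Set (Spec (CommRingCat.of A)))

/-- The property "`H⁰_{X/Z}(N^~)` is coherent". -/
def PZ (N : Type u) [AddCommGroup N] [Module A N] : Prop :=
  Coh.IsCoh ((ZClos.H0 Z).obj (tilde (ModuleCat.of (CommRingCat.of A) N)))

instance instPFLH0 {X : Scheme.{u}} (Z : Set X) : PreservesFiniteLimits (ZClos.H0 Z) :=
  preservesFiniteLimits_H0 Z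

instance instPZMH0 {X : Scheme.{u}} (Z : Set X) : (ZClos.H0 Z).PreservesZeroMorphisms :=
  Functor.preservesZeroMorphisms_of_preserves_terminal_object

instance instAddH0 {X : Scheme.{u}} (Z : Set X) : (ZClos.H0 Z).Additive :=
  Functor.additive_of_preserves_binary_products _

theorem PZ_of_injective (N M : Type u) [AddCommGroup N] [Module A N] [AddCommGroup M]
    [Module A M] (f : N →ₗ[A] M) (hf : Function.Injective f) (h : PZ Z M) : PZ Z N := by
  haveI : Mono (ModuleCat.ofHom f) := (ModuleCat.mono_iff_injective _).2 hf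
  haveI := preservesFiniteLimits_tilde A
  haveI : Mono ((tilde.functor (CommRingCat.of A)).map (ModuleCat.ofHom f)) := mono_tilde_map A _
  haveI : (ZClos.H0 Z).PreservesMonomorphisms :=
    preservesMonomorphisms_of_preservesLimitsOfShape _
  haveI : Mono ((ZClos.H0 Z).map ((tilde.functor (CommRingCat.of A)).map (ModuleCat.ofHom f))) :=
    Functor.map_mono (ZClos.H0 Z) ((tilde.functor (CommRingCat.of A)).map (ModuleCat.ofHom f))
  have h2 : Coh.IsCoh ((ZClos.H0 Z).obj ((tilde.functor (CommRingCat.of A)).obj (ModuleCat.of (CommRingCat.of A) M))) := h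
  show Coh.IsCoh ((ZClos.H0 Z).obj ((tilde.functor (CommRingCat.of A)).obj (ModuleCat.of (CommRingCat.of A) N)))
  exact isCoh_of_mono' ((ZClos.H0 Z).map ((tilde.functor (CommRingCat.of A)).map (ModuleCat.ofHom f)))
    (isQuasicoherent_H0 Z (tilde (ModuleCat.of (CommRingCat.of A) N))) h2

end Dev


section Dev2

variable {A} [IsNoetherianRing A] (Z : Set (Spec (CommRingCat.of A)))

theorem isQuasicoherent_H0_tilde : ∀ c : ModuleCat.{u} A,
    ((ZClos.H0 Z).obj ((tilde.functor (CommRingCat.of A)).obj c)).IsQuasicoherent :=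
  fun c => isQuasicoherent_H0 Z (tilde (R := CommRingCat.of A) c)

theorem PZ_of_exact (M' M M'' : Type u) [AddCommGroup M'] [Module A M'] [AddCommGroup M]
    [Module A M] [AddCommGroup M''] [Module A M''] (f : M' →ₗ[A] M) (g : M →ₗ[A] M'')
    (hf : Function.Injective f) (hfg : Function.Exact f g) (h' : PZ Z M') (h'' : PZ Z M'') :
    PZ Z M := by
  have hmono : Mono (ModuleCat.ofHom f) := (ModuleCat.mono_iff_injective _).2 hf
  have w : ModuleCat.ofHom f ≫ ModuleCat.ofHom g = 0 := by
    ext x; exact hfg.apply_apply_eq_zero x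
  have hS : (ShortComplex.mk (ModuleCat.ofHom f) (ModuleCat.ofHom g) w).Exact := by
    rw [ShortComplex.moduleCat_exact_iff]
    intro x hx
    exact (hfg x).1 hx
  have h1 : Coh.IsCoh ((ZClos.H0 Z).obj ((tilde.functor (CommRingCat.of A)).obj
      (ModuleCat.of (CommRingCat.of A) M'))) := h'
  have h3 : Coh.IsCoh ((ZClos.H0 Z).obj ((tilde.functor (CommRingCat.of A)).obj
      (ModuleCat.of (CommRingCat.of A) M''))) := h''
  have := @isCoh_of_exact_gen' (Spec (CommRingCat.of A)) _ (ModuleCat.{u} A) _ _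
    (tilde.functor (CommRingCat.of A)) _ (preservesFiniteLimits_tilde A) (ZClos.H0 Z) _
    (instPFLH0 Z) (isQuasicoherent_H0_tilde Z) _ _ _ (ModuleCat.ofHom f) (ModuleCat.ofHom g) w
    hS hmono h1 h3
  exact this

end Dev2

end Groth.Agent.Lib.ZHullH5
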