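import Mathlib
import Groth.Prelude
import Groth.Agent.Lib.ZHull5_helper5

set_option autoImplicit false
universe u

/-!
# Modules supported in `Z` have zero Z-closure (helper5)
-/

namespace Groth.Agent.Lib.ZHullH5

open AlgebraicGeometry CategoryTheory CategoryTheory.Limits TopologicalSpace Opposite PrimeSpectrum
open ZClosH8

/-- the stalk of `N^~` at `x` vanishes if every element of `N` is killed by some `s ∉ x` -/
theorem subsingleton_stalk_tilde {R : CommRingCat.{u}} (N : ModuleCat.{u} R)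
    (x : PrimeSpectrum.Top R)
    (h : ∀ n : N, ∃ s : R, s ∉ x.asIdeal ∧ s • n = 0) :
    Subsingleton ((tilde N).presheaf.stalk x) := by
  refine ⟨fun a b => ?_⟩
  have key : ∀ y : (tilde N).presheaf.stalk x, y = 0 := by
    intro y
    obtain ⟨⟨n, s⟩, hns⟩ := IsLocalizedModule.surj x.asIdeal.primeCompl (tilde.toStalk N x).hom y
    obtain ⟨t, ht, htn⟩ := h n
    have h1 : (tilde.toStalk N x).hom n = 0 := by
      rw [IsLocalizedModule.eq_zero_iff x.asIdeal.primeCompl]
      exact ⟨⟨t, ht⟩, htn⟩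
    have hu := IsLocalizedModule.map_units (tilde.toStalk N x).hom s
    rw [Module.End.isUnit_iff] at hu
    apply hu.injective
    rw [map_zero]
    show (s : R) • y = 0
    have h2 : (s : R) • y = (tilde.toStalk N x).hom n := hns
    rw [h2, h1]
  rw [key a, key b]

variable {A : Type u} [CommRing A] [IsNoetherianRing A] (Z : Set (Spec (CommRingCat.of A)))

theorem PZ_of_supp (hZ : StableUnderSpecialization Z) (N : Type u) [AddCommGroup N] [Module A N]
    (h : ∀ x : PrimeSpectrum A, x ∉ Z → ∀ n : N, ∃ s : A, s ∉ x.asIdeal ∧ s • n = 0) :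
    PZ Z N := by
  apply isCoh_of_isZero' (isQuasicoherent_H0 Z (tilde (ModuleCat.of (CommRingCat.of A) N)))
  apply isZero_H0_of_supp Z _ hZ
  intro x hx
  exact subsingleton_stalk_tilde (R := CommRingCat.of A) (ModuleCat.of (CommRingCat.of A) N) x
    (h x hx)

theorem PZ_of_subsingleton (hZ : StableUnderSpecialization Z) (N : Type u) [AddCommGroup N]
    [Module A N] [Subsingleton N] : PZ Z N :=
  PZ_of_supp Z hZ N (fun x _ _ => ⟨1, fun h1 => x.2.ne_top ((Ideal.eq_top_iff_one _).2 h1),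
    Subsingleton.elim _ _⟩)

/-- `A ⧸ p` for `p ∈ Z`. -/
theorem PZ_quot_of_mem (hZ : StableUnderSpecialization Z) (p : Ideal A) [hp : p.IsPrime]
    (hpZ : (⟨p, hp⟩ : PrimeSpectrum A) ∈ Z) : PZ Z (A ⧸ p) := by
  apply PZ_of_supp Z hZ
  intro x hx n
  have hnle : ¬ p ≤ x.asIdeal := by
    intro hle
    apply hx
    exact hZ ((PrimeSpectrum.le_iff_specializes (⟨p, hp⟩ : PrimeSpectrum A) x).1 hle) hpZ
  obtain ⟨s, hsp, hsx⟩ : ∃ s ∈ p, s ∉ x.asIdeal := by
    by_contra hcon
    push Not at hcon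
    exact hnle hcon
  refine ⟨s, hsx, ?_⟩
  obtain ⟨a, rfl⟩ := Ideal.Quotient.mk_surjective n
  rw [Algebra.smul_def, Ideal.Quotient.algebraMap_eq, ← map_mul]
  exact Ideal.Quotient.eq_zero_iff_mem.2 (p.mul_mem_right a hsp)

end Groth.Agent.Lib.ZHullH5
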