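import Mathlib
import Groth.Prelude
import Groth.Agent.Lib.ZHull4_helper5
import Groth.Agent.Lib.ZHull6_helper5
import Groth.Agent.Lib.CoprimDev1_helper5

set_option autoImplicit false
universe u

/-!
# EGA IV 5.11.2: finiteness of the height-one hulls versus coherence of Z-closures (helper5)
-/

namespace Groth.Agent.Lib.ZHullH5

open AlgebraicGeometry CategoryTheory CategoryTheory.Limits TopologicalSpace Opposite PrimeSpectrum
open ZClosH8

variable (A : Type u) [CommRing A] [IsNoetherianRing A]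

/-- `(a)` for `A/p` gives `PZ Z (A/p)` for primes `p ∉ Z` satisfying the height condition. -/
theorem PZ_quot_of_not_mem (Z : Set (Spec (CommRingCat.of A))) (p : Ideal A) [hp : p.IsPrime]
    (hpZ : (⟨p, hp⟩ : PrimeSpectrum A) ∉ Z)
    (hC : ∀ y ∈ Z, p ≤ y.asIdeal → (2 : ℕ∞) ≤ (y.asIdeal.map (Ideal.Quotient.mk p)).height)
    (hfin : EGA4.HeightOneHullFinite (A ⧸ p)) : PZ Z (A ⧸ p) :=
  isCoh_H0_quot (R := CommRingCat.of A) p Z hpZ hC hfin

/-- The "good" primes for the devissage. -/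
def Good (Z : Set (Spec (CommRingCat.of A))) (p : Ideal A) : Prop :=
  ∀ hp : p.IsPrime, (⟨p, hp⟩ : PrimeSpectrum A) ∉ Z →
    ∀ y ∈ Z, p ≤ y.asIdeal → (2 : ℕ∞) ≤ (y.asIdeal.map (Ideal.Quotient.mk p)).height

/-- `(a) ⇒ (b)`. -/
theorem main_a_b (ha : ∀ (q : Ideal A) [q.IsPrime], EGA4.HeightOneHullFinite (A ⧸ q))
    (M : Type u) [AddCommGroup M] [Module A M] [Module.Finite A M]
    (Z : Set (PrimeSpectrum A)) (hZ : StableUnderSpecialization Z)
    (hC : ∀ x : PrimeSpectrum A, x.asIdeal ∈ associatedPrimes A M → x ∉ Z →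
      ∀ y ∈ Z, x.asIdeal ≤ y.asIdeal →
        (2 : ℕ∞) ≤ (y.asIdeal.map (Ideal.Quotient.mk x.asIdeal)).height) :
    Coh.IsCoh ((ZClos.H0 (X := Spec (CommRingCat.of A)) Z).obj (EGA4.tildeOf A M)) := by
  have key := Groth.Agent.Lib.CoprimDevH5.devissage' (A := A)
    (fun N _ _ => PZ (A := A) Z N)
    (fun N _ _ _ => PZ_of_subsingleton Z hZ N)
    (fun N M _ _ _ _ _ _ f hf h => PZ_of_injective Z N M f hf h)
    (fun M' M M'' _ _ _ _ _ _ _ _ _ f g hf hfg h' h'' => PZ_of_exact Z M' M M'' f g hf hfg h' h'')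
    (Good A Z)
    (fun p hp hg => by
      by_cases hpZ : (⟨p, hp⟩ : PrimeSpectrum A) ∈ Z
      · exact PZ_quot_of_mem Z hZ p hpZ
      · exact PZ_quot_of_not_mem A Z p hpZ (hg hp hpZ) (ha p))
    M (fun q hq hqp hqZ => hC ⟨q, hqp⟩ hq hqZ)
  exact key

/-- `(b) ⇒ (a)`. -/
theorem main_b_a
    (hb : ∀ (M : Type u) [AddCommGroup M] [Module A M] [Module.Finite A M]
      (Z : Set (PrimeSpectrum A)), StableUnderSpecialization Z →
      (∀ x : PrimeSpectrum A, x.asIdeal ∈ associatedPrimes A M → x ∉ Z →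
        ∀ y ∈ Z, x.asIdeal ≤ y.asIdeal →
          (2 : ℕ∞) ≤ (y.asIdeal.map (Ideal.Quotient.mk x.asIdeal)).height) →
      Coh.IsCoh ((ZClos.H0 (X := Spec (CommRingCat.of A)) Z).obj (EGA4.tildeOf A M)))
    (q : Ideal A) [hq : q.IsPrime] : EGA4.HeightOneHullFinite (A ⧸ q) := by
  have hass : associatedPrimes A (A ⧸ q) = {q} := by
    have := associatedPrimes.eq_singleton_of_isPrimary (Ideal.IsPrime.isPrimary hq)
    rw [this, hq.radical]
  have h := hb (A ⧸ q) (Ztwo (R := CommRingCat.of A) q) (stable_Ztwo (R := CommRingCat.of A) q) (by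
    intro x hx _ y hy _
    rw [hass, Set.mem_singleton_iff] at hx
    obtain ⟨xI, xP⟩ := x
    subst hx
    exact hy.2)
  have hfin := finite_of_isCoh (R := CommRingCat.of A) (Ztwo (R := CommRingCat.of A) q)
    (Fp (R := CommRingCat.of A) q) h
  exact heightOneHullFinite_of_finite (R := CommRingCat.of A) q hfin

end Groth.Agent.Lib.ZHullH5
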