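import Groth.Agent.Lib.PIndep_helper3

/-!
# Descent of linear independence along a filtered decreasing family of subfields, and
`p`-independence over `k_α` for large `α` (EGA 0_IV 21.8) (helper3)
-/

set_option autoImplicit false
set_option maxSynthPendingDepth 3

namespace Groth.Agent.Lib.PBasisH3

universe u

open EGA41 KaehlerDifferential

section SLI

variable {K : Type*} [Field K] {J : Type*}

/-- set-theoretic linear independence over a subset of scalars, on a finset of indices -/
def SLIon (S : Set K) (v : J → K) (t : Finset J) : Prop :=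
  ∀ g : J → K, (∀ j, g j ∈ S) → ∑ j ∈ t, g j * v j = 0 → ∀ j ∈ t, g j = 0

theorem SLIon.mono_set {S S' : Set K} (h : S ⊆ S') {v : J → K} {t : Finset J}
    (hS' : SLIon S' v t) : SLIon S v t :=
  fun g hg => hS' g (fun j => h (hg j))

theorem SLIon.subset [DecidableEq J] {S : Subfield K} {v : J → K} {t t' : Finset J}
    (h : t' ⊆ t) (ht : SLIon (S : Set K) v t) : SLIon (S : Set K) v t' := by
  intro g hg hsum j hj
  let g' : J → K := fun j => if j ∈ t' then g j else 0
  have hg' : ∀ j, g' j ∈ (S : Set K) := fun j => by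
    by_cases hjt : j ∈ t'
    · simp only [g', if_pos hjt]; exact hg j
    · simp only [g', if_neg hjt]; exact S.zero_mem
  have hsum' : ∑ j ∈ t, g' j * v j = 0 := by
    rw [← hsum]
    calc ∑ j ∈ t, g' j * v j = ∑ j ∈ t', g' j * v j :=
          (Finset.sum_subset h (fun j _ hj' => by simp only [g', if_neg hj', zero_mul])).symm
      _ = ∑ j ∈ t', g j * v j :=
          Finset.sum_congr rfl (fun j hj => by simp only [g', if_pos hj])
  have := ht g' hg' hsum' j (h hj)
  simpa only [g', if_pos hj] using this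

/-- **Descent of linear independence**: a finite family independent over `⋂ S_i` (filtered
decreasing family of subfields) is independent over some `S_i`. -/
theorem exists_sliOn_of_iInf [DecidableEq J] {ι : Type*} [Nonempty ι] (S : ι → Subfield K)
    (hdir : ∀ a b, ∃ c, S c ≤ S a ⊓ S b) (v : J → K) (t : Finset J)
    (h0 : SLIon ((⨅ i, S i : Subfield K) : Set K) v t) : ∃ i, SLIon (S i : Set K) v t := by
  classical
  induction t using Finset.induction_on with
  | empty =>
    exact ⟨Classical.arbitrary ι, fun g _ _ j hj => absurd hj (Finset.notMem_empty j)⟩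
  | insert a t' ha ih =>
    obtain ⟨i₁, hi₁⟩ := ih (h0.subset (Finset.subset_insert a t'))
    by_contra hcon
    rw [not_exists] at hcon
    have key : ∀ i, S i ≤ S i₁ →
        ∃ h : J → K, (∀ j, h j ∈ S i) ∧ v a = ∑ j ∈ t', h j * v j := by
      intro i hi
      have hni := hcon i
      unfold SLIon at hni
      push Not at hni
      obtain ⟨g, hg, hsum, j, hj, hgj⟩ := hni
      have hi₁' : SLIon (S i : Set K) v t' := hi₁.mono_set (fun _ hx => hi hx)
      have hga : g a ≠ 0 := by
        intro h0'
        rw [Finset.sum_insert ha, h0', zero_mul, zero_add] at hsum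
        have hz := hi₁' g hg hsum
        rcases Finset.mem_insert.1 hj with rfl | hj'
        · exact hgj h0'
        · exact hgj (hz j hj')
      refine ⟨fun j => -(g j) / g a,
        fun j => (S i).div_mem ((S i).neg_mem (hg j)) (hg a), ?_⟩
      rw [Finset.sum_insert ha] at hsum
      have h1 : v a = -(∑ j ∈ t', g j * v j) / g a :=
        eq_div_of_mul_eq hga (by linear_combination hsum)
      rw [h1, neg_div, Finset.sum_div, ← Finset.sum_neg_distrib]
      refine Finset.sum_congr rfl fun j _ => ?_
      ring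
    obtain ⟨h₁, hh₁, hv₁⟩ := key i₁ le_rfl
    have hall : ∀ j ∈ t', ∀ i, h₁ j ∈ S i := by
      intro j hj i
      obtain ⟨c, hc⟩ := hdir i i₁
      have hci : S c ≤ S i := hc.trans inf_le_left
      have hc1 : S c ≤ S i₁ := hc.trans inf_le_right
      obtain ⟨h₂, hh₂, hv₂⟩ := key c hc1
      have hdiff := hi₁ (fun j => h₁ j - h₂ j)
        (fun j => (S i₁).sub_mem (hh₁ j) (hc1 (hh₂ j)))
        (by simp_rw [sub_mul]; rw [Finset.sum_sub_distrib, ← hv₁, ← hv₂, sub_self]) j hj
      rw [sub_eq_zero.1 hdiff]
      exact hci (hh₂ j)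
    let g₀ : J → K := fun j => if j = a then -1 else if j ∈ t' then h₁ j else 0
    have hg₀ : ∀ j, g₀ j ∈ ((⨅ i, S i : Subfield K) : Set K) := by
      intro j
      rw [SetLike.mem_coe, Subfield.mem_iInf]
      intro i
      by_cases hja : j = a
      · simp only [g₀, if_pos hja]; exact (S i).neg_mem (S i).one_mem
      · by_cases hjt : j ∈ t'
        · simp only [g₀, if_neg hja, if_pos hjt]; exact hall j hjt i
        · simp only [g₀, if_neg hja, if_neg hjt]; exact (S i).zero_mem
    have hsum₀ : ∑ j ∈ insert a t', g₀ j * v j = 0 := by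
      rw [Finset.sum_insert ha]
      have h2 : ∑ j ∈ t', g₀ j * v j = ∑ j ∈ t', h₁ j * v j :=
        Finset.sum_congr rfl fun j hj => by
          have hja : j ≠ a := fun h => ha (h ▸ hj)
          simp only [g₀, if_neg hja, if_pos hj]
      rw [h2, ← hv₁]
      simp only [g₀, if_true]
      ring
    have := h0 g₀ hg₀ hsum₀ a (Finset.mem_insert_self a t')
    simp only [g₀, if_true] at this
    exact one_ne_zero (neg_eq_zero.1 this)

theorem linearIndependent_subalgebra_iff {R₀ : Type*} [CommRing R₀] [Algebra R₀ K]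
    (R : Subalgebra R₀ K) (v : J → K) :
    LinearIndependent R v ↔ ∀ t, SLIon (R : Set K) v t := by
  rw [linearIndependent_iff']
  constructor
  · intro h t g hg hsum j hj
    have h1 : ∑ j ∈ t, (⟨g j, hg j⟩ : R) • v j = 0 := by
      rw [← hsum]
      exact Finset.sum_congr rfl fun j _ => rfl
    exact congrArg Subtype.val (h t (fun j => ⟨g j, hg j⟩) h1 j hj)
  · intro h s g hsum i hi
    have h1 : ∑ j ∈ s, (g j : K) * v j = 0 := by
      rw [← hsum]
      exact Finset.sum_congr rfl fun j _ => rfl
    exact Subtype.ext (h s (fun j => (g j : K)) (fun j => (g j).2) h1 i hi)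

end SLI

section PPowerIF

variable (p : ℕ) [hp : Fact p.Prime] {k₀ K : Type u} [Field k₀] [Field K] [Algebra k₀ K]
  [CharP K p]

include hp in
omit [CharP K p] in
theorem inv_mem_pPower (k' : Type u) [Field k'] [Algebra k' K] (c : K)
    (hc : c ∈ pPowerSubalgebra p k' K) : c⁻¹ ∈ pPowerSubalgebra p k' K := by
  by_cases hc0 : c = 0
  · rw [hc0, inv_zero]; exact Subalgebra.zero_mem _
  have h1 : c⁻¹ = c ^ (p - 1) * (c⁻¹) ^ p := by
    have hp1 : p = (p - 1) + 1 := (Nat.sub_add_cancel hp.out.one_le).symm
    rw [inv_pow]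
    field_simp
    rw [← pow_succ', ← hp1]
  rw [h1]
  exact mul_mem (pow_mem hc _) (pow_mem_pPower p c⁻¹)

variable (k₀ K) in
/-- `k₀(K^p)` -/
noncomputable abbrev PK : IntermediateField k₀ K :=
  IntermediateField.adjoin k₀ (Set.range fun y : K => y ^ p)

include hp in
omit [CharP K p] in
theorem mem_pPower_iff (y : K) : y ∈ pPowerSubalgebra p k₀ K ↔ y ∈ PK p k₀ K := by
  constructor
  · intro hy
    have hle : pPowerSubalgebra p k₀ K ≤ (PK p k₀ K).toSubalgebra :=
      Algebra.adjoin_le (IntermediateField.subset_adjoin k₀ _)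
    exact hle hy
  · intro hy
    let E' : IntermediateField k₀ K :=
      { toSubalgebra := pPowerSubalgebra p k₀ K
        inv_mem' := fun c hc => inv_mem_pPower p k₀ c hc }
    have hle : PK p k₀ K ≤ E' := by
      rw [IntermediateField.adjoin_le_iff]
      rintro _ ⟨z, rfl⟩
      exact pow_mem_pPower p z
    exact hle hy

include hp in
omit [CharP K p] in
theorem mem_pPower_iff_sup (k' : IntermediateField k₀ K) (y : K) :
    y ∈ pPowerSubalgebra p k' K ↔ y ∈ k' ⊔ PK p k₀ K := by
  constructor
  · intro hy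
    induction hy using Algebra.adjoin_induction with
    | mem z hz =>
      obtain ⟨w, rfl⟩ := hz
      exact (le_sup_right : PK p k₀ K ≤ k' ⊔ PK p k₀ K)
        (IntermediateField.subset_adjoin k₀ _ ⟨w, rfl⟩)
    | algebraMap a => exact (le_sup_left : k' ≤ k' ⊔ PK p k₀ K) a.2
    | add a b _ _ ha hb => exact add_mem ha hb
    | mul a b _ _ ha hb => exact mul_mem ha hb
  · intro hy
    let E' : IntermediateField k₀ K :=
      { toSubalgebra := (pPowerSubalgebra p k' K).restrictScalars k₀
        inv_mem' := fun c hc => inv_mem_pPower p k' c hc }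
    have hle : k' ⊔ PK p k₀ K ≤ E' := by
      refine sup_le ?_ ?_
      · intro a ha
        exact (pPowerSubalgebra p k' K).algebraMap_mem ⟨a, ha⟩
      · rw [IntermediateField.adjoin_le_iff]
        rintro _ ⟨z, rfl⟩
        exact pow_mem_pPower p z
    exact hle hy

end PPowerIF

section Main

variable (p : ℕ) [hp : Fact p.Prime] {k₀ K : Type u} [Field k₀] [Field K] [Algebra k₀ K]
  [CharP K p]

include hp in
/-- **Key descent**: a finite family `p`-independent over `k₀` is `p`-independent over `k_α` for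
some `α`, if `⋂ k_α(K^p) = k₀(K^p)`. -/
theorem exists_isPIndependent_of_iInf {ι : Type*} [Nonempty ι]
    (k : ι → IntermediateField k₀ K) (hdir : ∀ a b, ∃ c, k c ≤ k a ⊓ k b)
    (hint : (⨅ i, k i ⊔ PK p k₀ K) = PK p k₀ K)
    {J : Type u} [Finite J] (x : J → K) (hx : IsPIndependent p k₀ x) :
    ∃ i, IsPIndependent p (k i) x := by
  classical
  -- the index type of monomials is finite
  haveI : Finite {e : J →₀ ℕ // ∀ i, e i < p} := by
    refine Finite.of_injective (fun e => (fun i => (⟨e.1 i, e.2 i⟩ : Fin p))) ?_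
    intro e e' h
    apply Subtype.ext
    ext i
    exact congrArg (fun f : J → Fin p => (f i : ℕ)) h
  haveI := Fintype.ofFinite {e : J →₀ ℕ // ∀ i, e i < p}
  let S : ι → Subfield K := fun i => (k i ⊔ PK p k₀ K).toSubfield
  have hSdir : ∀ a b, ∃ c, S c ≤ S a ⊓ S b := by
    intro a b
    obtain ⟨c, hc⟩ := hdir a b
    refine ⟨c, le_inf ?_ ?_⟩
    · intro y hy
      exact (sup_le_sup_right (hc.trans inf_le_left) _ : k c ⊔ PK p k₀ K ≤ k a ⊔ PK p k₀ K) hy
    · intro y hy
      exact (sup_le_sup_right (hc.trans inf_le_right) _ : k c ⊔ PK p k₀ K ≤ k b ⊔ PK p k₀ K) hy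
  have hSinf : ∀ y, y ∈ (⨅ i, S i : Subfield K) ↔ y ∈ pPowerSubalgebra p k₀ K := by
    intro y
    rw [Subfield.mem_iInf, mem_pPower_iff, ← hint, ← SetLike.mem_coe, IntermediateField.coe_iInf,
      Set.mem_iInter]
    exact Iff.rfl
  have h0 : SLIon ((⨅ i, S i : Subfield K) : Set K) (redMon p x) Finset.univ := by
    have h1 := (linearIndependent_subalgebra_iff (pPowerSubalgebra p k₀ K) (redMon p x)).1 hx
      Finset.univ
    exact h1.mono_set (fun y hy => (hSinf y).1 hy)
  obtain ⟨i, hi⟩ := exists_sliOn_of_iInf S hSdir (redMon p x) Finset.univ h0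
  refine ⟨i, ?_⟩
  show LinearIndependent (pPowerSubalgebra p (k i) K) (redMon p x)
  rw [linearIndependent_subalgebra_iff]
  intro t
  have h2 : SLIon ((pPowerSubalgebra p (k i) K : Subalgebra (k i) K) : Set K) (redMon p x)
      Finset.univ := hi.mono_set (fun y hy => (mem_pPower_iff_sup p (k i) y).1 hy)
  intro g hg hsum j hj
  -- extend by zero outside `t`
  let g' : {e : J →₀ ℕ // ∀ i, e i < p} → K := fun j => if j ∈ t then g j else 0
  have hg' : ∀ j, g' j ∈ ((pPowerSubalgebra p (k i) K : Subalgebra (k i) K) : Set K) := fun j => by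
    by_cases hjt : j ∈ t
    · simp only [g', if_pos hjt]; exact hg j
    · simp only [g', if_neg hjt]; exact Subalgebra.zero_mem _
  have hsum' : ∑ j, g' j * redMon p x j = 0 := by
    rw [← hsum]
    calc ∑ j, g' j * redMon p x j = ∑ j ∈ t, g' j * redMon p x j :=
          (Finset.sum_subset (Finset.subset_univ t)
            (fun j _ hj' => by simp only [g', if_neg hj', zero_mul])).symm
      _ = ∑ j ∈ t, g j * redMon p x j :=
          Finset.sum_congr rfl (fun j hj => by simp only [g', if_pos hj])
  have := h2 g' hg' hsum' j (Finset.mem_univ j)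
  simpa only [g', if_pos hj] using this

include hp in
/-- a subfamily of a `p`-independent family is `p`-independent -/
theorem isPIndependent_comp {I I' : Type u} (x : I → K) (hx : IsPIndependent p k₀ x)
    (f : I' → I) (hf : Function.Injective f) : IsPIndependent p k₀ (x ∘ f) := by
  classical
  letI : Field (pPowerSubalgebra p k₀ K) := (isField_pPower p).toField
  have hx' : LinearIndependent (pPowerSubalgebra p k₀ K) (redMon p x) := hx
  have hinj : Function.Injective x := injective_of_linearIndependent_redMon p x hx'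
  have h1 : PIon p (pPowerSubalgebra p k₀ K) (Set.range x) :=
    (pIon_range_iff (F := pPowerSubalgebra p k₀ K) p x hinj).2 hx'
  have h2 : PIon p (pPowerSubalgebra p k₀ K) (Set.range (x ∘ f)) :=
    h1.mono p (Set.range_comp_subset_range f x)
  exact (pIon_range_iff (F := pPowerSubalgebra p k₀ K) p (x ∘ f) (hinj.comp hf)).1 h2

include hp in
/-- `y ∉ k₀(K^p)` ⇒ `dy ≠ 0` in `Ω_{K/k₀}` -/
theorem D_ne_zero_of_notMem (y : K) (hy : y ∉ PK p k₀ K) : D k₀ K y ≠ 0 := by
  have hind : IsPIndependent p k₀ (fun _ : PUnit.{u+1} => y) := by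
    apply isPIndependent_of_notMem_others p
    intro a
    have hempty : (fun _ : PUnit.{u+1} => y) '' {b | b ≠ a} = ∅ := by
      rw [Set.image_eq_empty]
      ext b
      simp [Subsingleton.elim b a]
    show y ∉ IntermediateField.adjoin k₀
      ((Set.range fun z : K => z ^ p) ∪ (fun _ : PUnit.{u+1} => y) '' {b | b ≠ a})
    rw [hempty, Set.union_empty]
    exact hy
  exact (linearIndependent_D_of_isPIndependent p _ hind).ne_zero PUnit.unit

include hp in
/-- `y ∈ k'(K^p)` ⇒ `dy = 0` in `Ω_{K/k'}` -/
theorem D_eq_zero_of_mem_sup (k' : IntermediateField k₀ K) (y : K)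
    (hy : y ∈ k' ⊔ PK p k₀ K) : D k' K y = 0 :=
  D_eq_zero_of_mem_pPower p y ((mem_pPower_iff_sup p k' y).2 hy)

end Main

end Groth.Agent.Lib.PBasisH3
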