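import Mathlib
import Groth.Agent.Lib.PDescent_helper3
import Groth.Agent.Lib.PBasisFamily_helper3
import Groth.Agent.Lib.PIndepDirected_helper3
import Groth.Agent.Lib.Cartier_helper3
import Groth.Agent.Lib.GenericFibreCharP_helper3
import Groth.Agent.Lib.CompleteNagata_helper3
import Groth.Agent.Lib.MonomialCharP_helper3
import Groth.Agent.S0581
import Groth.Agent.S4548

/-!
# Derivations of finite type domains over complete local rings (helper3)

`main2048`: if `B` is a domain of characteristic `p`, of finite type over a complete Noetherian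
local ring, and `f ∈ B` is not a `p`-th power in `Frac B`, then some derivation `D : B → B`
has `D f ≠ 0`.

* `D_ne_zero_of_forall_pow_ne` : in a field of char. `p`, `f ∉ L^p ⇒ df ≠ 0` in `Ω_{L/ℤ}`.
* `exists_derivation_field` : `L/K₀` finitely generated field extension, `K_i ⊆ K₀` a directed
  family of cofinite subfields with `⋂ K_i = K₀^p`; if `df ≠ 0` in `Ω_L`, some derivation of `L`
  killing some `K_i` does not kill `f` (uses Cartier's finiteness of the imperfection module).
* `exists_derivation_of_family` : ring version.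
APPEND-ONLY once landed.
-/

set_option autoImplicit false
set_option maxSynthPendingDepth 3

namespace Groth.Agent.Lib.DerivFTH3

universe u

open TensorProduct KaehlerDifferential IsLocalRing
open Groth.Agent.Lib.AdicFSFieldH3 (PrimeField)

section A

variable (p : ℕ) [hp : Fact p.Prime] {L : Type u} [Field L] [CharP L p]

include hp in
theorem D_ne_zero_of_forall_pow_ne (f : L) (hf : ∀ y : L, y ^ p ≠ f) : D ℤ L f ≠ 0 := by
  intro h0
  have h1 : D (PrimeField L) L f ≠ 0 := by
    apply Groth.Agent.Lib.PBasisH3.D_ne_zero_of_notMem p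
    intro hmem
    obtain ⟨z, hz⟩ := (Groth.Agent.Lib.PBasisH3.mem_PK_primeField_iff p f).1 hmem
    exact hf z hz
  apply h1
  have h2 := congrArg (KaehlerDifferential.map ℤ (PrimeField L) L L) h0
  rw [KaehlerDifferential.map_D, map_zero] at h2
  exact h2

end A

section B

variable (p : ℕ) [hp : Fact p.Prime] {K₀ L : Type u} [Field K₀] [Field L] [Algebra K₀ L]
  [Algebra.EssFiniteType K₀ L] [CharP K₀ p]

include hp in
theorem exists_derivation_field {ι : Type*} [Nonempty ι] (Ks : ι → Subfield K₀)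
    (hdir : ∀ a b, ∃ c, Ks c ≤ Ks a ⊓ Ks b)
    (hpow : ∀ i (x : K₀), x ^ p ∈ Ks i)
    (hinf : ∀ x, (∀ i, x ∈ Ks i) → ∃ y : K₀, y ^ p = x)
    (f : L) (hf : D ℤ L f ≠ 0) :
    ∃ i, ∃ E : Derivation ℤ L L, (∀ c ∈ Ks i, E (algebraMap K₀ L c) = 0) ∧ E f ≠ 0 := by
  classical
  let α := KaehlerDifferential.mapBaseChange ℤ K₀ L
  have hα : ∀ c : K₀, α ((1 : L) ⊗ₜ[K₀] D ℤ K₀ c) = D ℤ L (algebraMap K₀ L c) := by
    intro c
    show KaehlerDifferential.mapBaseChange ℤ K₀ L ((1 : L) ⊗ₜ[K₀] D ℤ K₀ c) = _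
    rw [KaehlerDifferential.mapBaseChange_tmul, one_smul, KaehlerDifferential.map_D]
  by_cases hrange : D ℤ L f ∈ LinearMap.range α
  swap
  · obtain ⟨ℓ, hℓ, hle⟩ := Submodule.exists_le_ker_of_notMem hrange
    refine ⟨Classical.arbitrary ι, ℓ.compDer (D ℤ L), fun c _ => ?_, hℓ⟩
    show ℓ (D ℤ L (algebraMap K₀ L c)) = 0
    rw [← hα]
    exact hle ⟨_, rfl⟩
  obtain ⟨ξ, hξ⟩ := hrange
  -- basis of `Ω_{K₀}` consisting of differentials
  have hsp : ⊤ ≤ Submodule.span K₀ (Set.range (D ℤ K₀)) := by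
    rw [KaehlerDifferential.span_range_derivation]
  let b := Module.Basis.ofSpan hsp
  have hbmem : ∀ j, ∃ x : K₀, D ℤ K₀ x = b j := fun j => Module.Basis.ofSpan_subset hsp ⟨j, rfl⟩
  choose x hx using hbmem
  let bL := b.baseChange L
  have hbL : ∀ j, bL j = (1 : L) ⊗ₜ[K₀] D ℤ K₀ (x j) := by
    intro j
    show (b.baseChange L) j = _
    rw [Module.Basis.baseChange_apply, hx]
  -- the kernel is finitely generated
  have hΓfin : Module.Finite L (LinearMap.ker α) :=
    (Groth.Agent.Lib.CartierH3.cartier (K := K₀) (L := L)).2.1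
  obtain ⟨gens, hgens⟩ := (Module.Finite.iff_fg.1 hΓfin)
  -- finite support
  let σ' : Finset _ := (insert ξ gens).biUnion (fun g => (bL.repr g).support)
  have hmemσ : ∀ g ∈ insert ξ gens, g ∈ Submodule.span L (bL '' (σ' : Set _)) := by
    intro g hg
    have h1 := Module.Basis.mem_span_repr_support bL g
    refine Submodule.span_mono (Set.image_mono ?_) h1
    intro j hj
    exact Finset.mem_biUnion.2 ⟨g, hg, hj⟩
  let σ := {j // j ∈ σ'}
  let t : σ → K₀ := fun s => x s.1
  have hli : LinearIndependent K₀ (fun s : σ => D ℤ K₀ (t s)) := by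
    have h1 : (fun s : σ => D ℤ K₀ (t s)) = b ∘ (Subtype.val : σ → _) := funext fun s => hx s.1
    rw [h1]
    exact b.linearIndependent.comp _ Subtype.val_injective
  obtain ⟨i, E, hEkill, hE1, hE0⟩ :=
    Groth.Agent.Lib.PIndepDirectedH3.exists_dual_derivations p Ks hdir hpow hinf t hli
  let ε : σ → (L ⊗[K₀] Ω[K₀⁄ℤ] →ₗ[L] L) := fun s =>
    ((Algebra.linearMap K₀ L) ∘ₗ (E s).liftKaehlerDifferential).liftBaseChange L
  have hε : ∀ s (c : K₀), ε s ((1 : L) ⊗ₜ[K₀] D ℤ K₀ c) = algebraMap K₀ L (E s c) := by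
    intro s c
    show (1 : L) • ((Algebra.linearMap K₀ L) ∘ₗ (E s).liftKaehlerDifferential) (D ℤ K₀ c) = _
    rw [one_smul]
    show algebraMap K₀ L ((E s).liftKaehlerDifferential (D ℤ K₀ c)) = _
    rw [Derivation.liftKaehlerDifferential_comp_D]
  -- functional killing the kernel, nonzero at ξ
  have hξker : ξ ∉ LinearMap.ker α := by
    intro h
    rw [LinearMap.mem_ker, hξ] at h
    exact hf h
  obtain ⟨μ, hμξ, hμker⟩ := Submodule.exists_le_ker_of_notMem hξker
  let lam : L ⊗[K₀] Ω[K₀⁄ℤ] →ₗ[L] L := ∑ s : σ, μ (bL s.1) • ε s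
  have hlam_b : ∀ j ∈ σ', lam (bL j) = μ (bL j) := by
    intro j hj
    show (∑ s : σ, μ (bL s.1) • ε s) (bL j) = _
    rw [LinearMap.sum_apply, Finset.sum_eq_single (⟨j, hj⟩ : σ)]
    · rw [LinearMap.smul_apply, hbL j, hε]
      show μ _ • algebraMap K₀ L (E ⟨j, hj⟩ (t ⟨j, hj⟩)) = _
      rw [hE1, map_one, smul_eq_mul, mul_one]
    · intro s _ hs
      rw [LinearMap.smul_apply, hbL j, hε]
      show μ _ • algebraMap K₀ L (E s (t ⟨j, hj⟩)) = _
      rw [hE0 s ⟨j, hj⟩ hs, map_zero, smul_zero]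
    · intro h
      exact absurd (Finset.mem_univ _) h
  have hlam_span : ∀ g ∈ Submodule.span L (bL '' (σ' : Set _)), lam g = μ g := by
    intro g hg
    have heq : Set.EqOn lam μ (bL '' (σ' : Set _)) := by
      rintro _ ⟨j, hj, rfl⟩
      exact hlam_b j hj
    exact LinearMap.eqOn_span heq hg
  have hlamξ : lam ξ ≠ 0 := by
    rw [hlam_span ξ (hmemσ ξ (Finset.mem_insert_self _ _))]
    exact hμξ
  have hlamker : LinearMap.ker α ≤ LinearMap.ker lam := by
    have h1 : (Submodule.span L (gens : Set _) : Submodule L _) ≤ LinearMap.ker lam := by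
      rw [Submodule.span_le]
      intro g hg
      rw [SetLike.mem_coe, LinearMap.mem_ker,
        hlam_span g (hmemσ g (Finset.mem_insert_of_mem hg))]
      have h2 : g ∈ LinearMap.ker α := by
        rw [← hgens]
        exact Submodule.subset_span hg
      exact hμker h2
    rw [hgens] at h1
    exact h1
  have hlamK : ∀ c ∈ Ks i, lam ((1 : L) ⊗ₜ[K₀] D ℤ K₀ c) = 0 := by
    intro c hc
    show (∑ s : σ, μ (bL s.1) • ε s) _ = 0
    rw [LinearMap.sum_apply]
    apply Finset.sum_eq_zero
    intro s _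
    rw [LinearMap.smul_apply, hε, hEkill s c hc, map_zero, smul_zero]
  -- factor through `α`
  let ℓ₀ : LinearMap.range α →ₗ[L] L :=
    ((LinearMap.ker α).liftQ lam hlamker) ∘ₗ (α.quotKerEquivRange.symm : _ →ₗ[L] _)
  obtain ⟨g, hg⟩ := LinearMap.exists_extend ℓ₀
  have hgα : ∀ v, g (α v) = lam v := by
    intro v
    have h1 : g (α v) = ℓ₀ ⟨α v, ⟨v, rfl⟩⟩ := by
      rw [← hg]
      rfl
    rw [h1]
    show ((LinearMap.ker α).liftQ lam hlamker) (α.quotKerEquivRange.symm ⟨α v, ⟨v, rfl⟩⟩) = _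
    rw [LinearMap.quotKerEquivRange_symm_apply_image]
    rfl
  refine ⟨i, g.compDer (D ℤ L), fun c hc => ?_, ?_⟩
  · show g (D ℤ L (algebraMap K₀ L c)) = 0
    rw [← hα, hgα, hlamK c hc]
  · show g (D ℤ L f) ≠ 0
    rw [← hξ, hgα]
    exact hlamξ

end B

section C

variable (p : ℕ) [hp : Fact p.Prime]

include hp in
theorem exists_derivation_of_family
    (A₀ B K₀ L : Type u) [CommRing A₀] [IsDomain A₀] [CommRing B] [IsDomain B] [Field K₀]
    [Field L] [Algebra A₀ B] [Algebra A₀ K₀] [IsFractionRing A₀ K₀] [Algebra B L]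
    [IsFractionRing B L] [Algebra K₀ L] [Algebra A₀ L] [IsScalarTower A₀ K₀ L]
    [IsScalarTower A₀ B L] [Algebra.FiniteType A₀ B] [CharP K₀ p]
    {ι : Type*} [Nonempty ι] (S : ι → Subring A₀)
    (hdir : ∀ a b, ∃ c, S c ≤ S a ⊓ S b) (hfin : ∀ i, Module.Finite (S i) A₀)
    (hint : ∀ x : K₀, (∀ i, x ∈ Subfield.closure (algebraMap A₀ K₀ '' (S i : Set A₀))) ↔
      ∃ y : K₀, y ^ p = x)
    (f : B) (hf : ∀ x : L, x ^ p ≠ algebraMap B L f) :
    ∃ D : Derivation ℤ B B, D f ≠ 0 := by
  classical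
  haveI : CharP L p := charP_of_injective_algebraMap (algebraMap K₀ L).injective p
  haveI : Algebra.EssFiniteType B L :=
    Algebra.EssFiniteType.of_isLocalization L (nonZeroDivisors B)
  haveI : Algebra.EssFiniteType A₀ L := Algebra.EssFiniteType.comp A₀ B L
  haveI : Algebra.EssFiniteType K₀ L := Algebra.EssFiniteType.of_comp A₀ K₀ L
  have h1 : D ℤ L (algebraMap B L f) ≠ 0 := D_ne_zero_of_forall_pow_ne p _ hf
  let Ks : ι → Subfield K₀ := fun i => Subfield.closure (algebraMap A₀ K₀ '' (S i : Set A₀))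
  have hLdir : ∀ a b, ∃ c, Ks c ≤ Ks a ⊓ Ks b := by
    intro a b
    obtain ⟨c, hc⟩ := hdir a b
    refine ⟨c, le_inf ?_ ?_⟩
    · exact Subfield.closure_mono (Set.image_mono (hc.trans inf_le_left))
    · exact Subfield.closure_mono (Set.image_mono (hc.trans inf_le_right))
  have hLpow : ∀ i (x : K₀), x ^ p ∈ Ks i := fun i x => (hint (x ^ p)).2 ⟨x, rfl⟩ i
  have hLinf : ∀ x, (∀ i, x ∈ Ks i) → ∃ y : K₀, y ^ p = x := fun x hx => (hint x).1 hx
  obtain ⟨i, E, hE0, hEf⟩ := exists_derivation_field p Ks hLdir hLpow hLinf _ h1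
  haveI := hfin i
  let T : Subring B :=
    Subring.closure (algebraMap A₀ B '' (S i : Set A₀) ∪ Set.range (fun b : B => b ^ p))
  have hpL : ((p : ℕ) : L) = 0 := CharP.cast_eq_zero L p
  have hkill : ∀ t ∈ T, E (algebraMap B L t) = 0 := by
    intro t ht
    induction ht using Subring.closure_induction with
    | mem t ht =>
      rcases ht with ⟨s, hs, rfl⟩ | ⟨b, rfl⟩
      · rw [← IsScalarTower.algebraMap_apply A₀ B L, IsScalarTower.algebraMap_apply A₀ K₀ L]
        exact hE0 _ (Subfield.subset_closure ⟨s, hs, rfl⟩)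
      · show E (algebraMap B L (b ^ p)) = 0
        rw [map_pow, Derivation.leibniz_pow, nsmul_eq_mul, hpL, zero_mul]
    | zero => rw [map_zero, map_zero]
    | one => rw [map_one, Derivation.map_one_eq_zero]
    | add x y _ _ hx hy => rw [map_add, map_add, hx, hy, add_zero]
    | neg x _ hx => rw [map_neg, map_neg, hx, neg_zero]
    | mul x y _ _ hx hy =>
      rw [map_mul, Derivation.leibniz, hx, hy, smul_zero, smul_zero, add_zero]
  haveI : Module.Finite T B := by
    haveI : Algebra.IsIntegral T B := ⟨fun b => by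
      refine ⟨Polynomial.X ^ p - Polynomial.C
        (⟨b ^ p, Subring.subset_closure (Or.inr ⟨b, rfl⟩)⟩ : T),
        Polynomial.monic_X_pow_sub_C _ hp.out.ne_zero, ?_⟩
      rw [Polynomial.eval₂_sub, Polynomial.eval₂_pow, Polynomial.eval₂_X, Polynomial.eval₂_C]
      exact sub_self _⟩
    haveI : Algebra.FiniteType T B := by
      obtain ⟨gB, hgB⟩ := (Algebra.FiniteType.out : (⊤ : Subalgebra A₀ B).FG)
      obtain ⟨gA, hgA⟩ := (Module.Finite.fg_top : (⊤ : Submodule (S i) A₀).FG)
      refine ⟨⟨gB ∪ gA.image (algebraMap A₀ B), ?_⟩⟩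
      set U := Algebra.adjoin T ((gB ∪ gA.image (algebraMap A₀ B) : Finset B) : Set B) with hU
      have hS : ∀ s ∈ S i, algebraMap A₀ B s ∈ U := fun s hs =>
        U.algebraMap_mem
          (⟨algebraMap A₀ B s, Subring.subset_closure (Or.inl ⟨s, hs, rfl⟩)⟩ : T)
      have hA : ∀ a : A₀, algebraMap A₀ B a ∈ U := by
        intro a
        have ha : a ∈ Submodule.span (S i) (gA : Set A₀) := hgA ▸ Submodule.mem_top
        induction ha using Submodule.span_induction with
        | mem a ha =>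
          apply Algebra.subset_adjoin
          rw [Finset.coe_union, Finset.coe_image]
          exact Or.inr ⟨a, ha, rfl⟩
        | zero => rw [map_zero]; exact U.zero_mem
        | add x y _ _ hx hy => rw [map_add]; exact U.add_mem hx hy
        | smul c x _ hx =>
          rw [Subring.smul_def, smul_eq_mul, map_mul]
          exact U.mul_mem (hS c c.2) hx
      have key : ∀ b : B, b ∈ U := by
        intro b
        have hb : b ∈ Algebra.adjoin A₀ (gB : Set B) := hgB ▸ Algebra.mem_top
        induction hb using Algebra.adjoin_induction with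
        | mem b hb =>
          apply Algebra.subset_adjoin
          rw [Finset.coe_union]
          exact Or.inl hb
        | algebraMap a => exact hA a
        | add x y _ _ hx hy => exact U.add_mem hx hy
        | mul x y _ _ hx hy => exact U.mul_mem hx hy
      exact eq_top_iff.2 (fun b _ => key b)
    exact Algebra.IsIntegral.finite
  obtain ⟨h, hh0, D', hD'⟩ :=
    Groth.Agent.Lib.GenericFibreCharPH3.exists_derivation_of_finite T E hkill
  refine ⟨D', fun h0 => ?_⟩
  have h2 := hD' f
  rw [h0, map_zero] at h2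
  have h3 : algebraMap B L h ≠ 0 := fun h4 =>
    hh0 (IsFractionRing.injective B L (h4.trans (map_zero _).symm))
  exact (mul_ne_zero h3 hEf) h2.symm

theorem main2048 {R B : Type u} [CommRing R] [IsLocalRing R]
    [IsNoetherianRing R] [IsAdicComplete (maximalIdeal R) R] [CommRing B] [IsDomain B]
    [Algebra R B] [Algebra.FiniteType R B] [CharP B p] (f : B)
    (hf : ∀ x : FractionRing B, x ^ p ≠ algebraMap B (FractionRing B) f) :
    ∃ D : Derivation ℤ B B, D f ≠ 0 := by
  classical
  let P : Ideal R := RingHom.ker (algebraMap R B)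
  haveI hP : P.IsPrime := RingHom.ker_isPrime _
  haveI : Nontrivial (R ⧸ P) := Ideal.Quotient.nontrivial_iff.2 hP.ne_top
  haveI : IsLocalRing (R ⧸ P) :=
    IsLocalRing.of_surjective' (Ideal.Quotient.mk P) Ideal.Quotient.mk_surjective
  haveI := Groth.Agent.Lib.MonomialCharPH3.isAdicComplete_quotient R P
  let ψ : R ⧸ P →+* B := RingHom.kerLift (algebraMap R B)
  have hψinj : Function.Injective ψ := RingHom.kerLift_injective _
  have hψft : ψ.FiniteType := by
    have h1 : (ψ.comp (Ideal.Quotient.mk P)).FiniteType := by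
      have h2 : ψ.comp (Ideal.Quotient.mk P) = algebraMap R B := by
        ext r
        exact RingHom.kerLift_mk _ r
      rw [h2]
      exact RingHom.finiteType_algebraMap.2 inferInstance
    exact RingHom.FiniteType.of_comp_finiteType h1
  obtain ⟨Λ, _, n, φ, hΛ, hφinj, hφfin, -⟩ := Groth.Agent.S0581.result (R ⧸ P)
  have hCinj : Function.Injective
      ((ψ.comp φ).comp (MvPowerSeries.C : Λ →+* MvPowerSeries (Fin n) Λ)) :=
    (hψinj.comp hφinj).comp MvPowerSeries.C_injective
  haveI : CharP Λ p := RingHom.charP _ hCinj p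
  have hfield : IsField Λ := by
    rcases hΛ with h | ⟨hd, hdvr, -, q, hq, hm⟩
    · exact h
    · exfalso
      haveI := hd
      haveI := hdvr
      haveI := Groth.Agent.Lib.CompleteNagataH3.charZero_of_isCohenRing Λ q hq hm
      have h0 : ((p : ℕ) : Λ) = 0 := CharP.cast_eq_zero Λ p
      exact hp.out.ne_zero (Nat.cast_eq_zero.1 h0)
  haveI : IsDomain Λ := hfield.isDomain
  haveI : IsDomain (MvPowerSeries (Fin n) Λ) := NoZeroDivisors.to_isDomain _
  letI := hfield.toField
  haveI : CharP (MvPowerSeries (Fin n) Λ) p :=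
    RingHom.charP (ψ.comp φ) (hψinj.comp hφinj) p
  letI : Algebra (MvPowerSeries (Fin n) Λ) B := (ψ.comp φ).toAlgebra
  have hinj : Function.Injective (algebraMap (MvPowerSeries (Fin n) Λ) B) := hψinj.comp hφinj
  haveI : Algebra.FiniteType (MvPowerSeries (Fin n) Λ) B :=
    hψft.comp (RingHom.FiniteType.of_finite hφfin)
  haveI : FaithfulSMul (MvPowerSeries (Fin n) Λ) (FractionRing B) := by
    rw [faithfulSMul_iff_algebraMap_injective,
      IsScalarTower.algebraMap_eq (MvPowerSeries (Fin n) Λ) B (FractionRing B)]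
    exact (IsFractionRing.injective B (FractionRing B)).comp hinj
  letI : Algebra (FractionRing (MvPowerSeries (Fin n) Λ)) (FractionRing B) :=
    FractionRing.liftAlgebra (MvPowerSeries (Fin n) Λ) (FractionRing B)
  haveI : IsScalarTower (MvPowerSeries (Fin n) Λ) (FractionRing (MvPowerSeries (Fin n) Λ))
      (FractionRing B) := FractionRing.isScalarTower_liftAlgebra _ _
  haveI : CharP (FractionRing (MvPowerSeries (Fin n) Λ)) p :=
    charP_of_injective_algebraMap (IsFractionRing.injective (MvPowerSeries (Fin n) Λ)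
      (FractionRing (MvPowerSeries (Fin n) Λ))) p
  obtain ⟨ι, hne, S, hdir, hS, hint⟩ := Groth.Agent.S4548.result p Λ n
  haveI := hne
  refine exists_derivation_of_family p (MvPowerSeries (Fin n) Λ) B
    (FractionRing (MvPowerSeries (Fin n) Λ)) (FractionRing B) S hdir (fun i => (hS i).2.2) ?_ f hf
  intro x
  have hx := Set.ext_iff.mp hint x
  rw [Set.iInf_eq_iInter, Set.mem_iInter] at hx
  exact hx

end C

end Groth.Agent.Lib.DerivFTH3
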