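import Mathlib
import Groth.Agent.Lib.Regular_helper5

/-!
# Regularity of `R/(f)` from a derivation with `D f` a unit mod `f` (helper5)
-/

set_option autoImplicit false
universe u

namespace Groth.Agent.RegDeriv

open IsLocalRing

theorem derivation_sq_mem {R : Type*} [CommRing R] (D : Derivation ℤ R R) (I : Ideal R) :
    ∀ z ∈ I ^ 2, D z ∈ I := by
  intro z hz
  rw [pow_two] at hz
  refine Submodule.mul_induction_on hz ?_ ?_
  · intro a ha b hb
    rw [D.leibniz, smul_eq_mul, smul_eq_mul]
    exact Ideal.add_mem _ (Ideal.mul_mem_right _ _ ha) (Ideal.mul_mem_right _ _ hb)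
  · intro a b ha hb
    rw [map_add]
    exact Ideal.add_mem _ ha hb

/-- `f` is not in the square of `q R_q` when `D f` is a unit modulo `f`. -/
theorem not_mem_sq {R : Type u} [CommRing R] (f : R) (D : Derivation ℤ R R)
    (hD : IsUnit (Ideal.Quotient.mk (Ideal.span {f}) (D f))) (q : Ideal R) [q.IsPrime]
    (hfq : f ∈ q) :
    algebraMap R (Localization.AtPrime q) f ∉ maximalIdeal (Localization.AtPrime q) ^ 2 := by
  intro hmem
  rw [← Localization.AtPrime.map_eq_maximalIdeal, ← Ideal.map_pow,
    IsLocalization.algebraMap_mem_map_algebraMap_iff q.primeCompl] at hmem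
  obtain ⟨s, hs, hsf⟩ := hmem
  have h1 := derivation_sq_mem D q _ hsf
  rw [D.leibniz, smul_eq_mul, smul_eq_mul] at h1
  have h2 : s * D f ∈ q := (Ideal.add_mem_iff_left _ (Ideal.mul_mem_right _ _ hfq)).mp h1
  have h3 : D f ∈ q := (‹q.IsPrime›.mem_or_mem h2).resolve_left hs
  obtain ⟨g, hg⟩ := hD.exists_right_inv
  obtain ⟨g', rfl⟩ := Ideal.Quotient.mk_surjective g
  rw [← map_mul, ← map_one (Ideal.Quotient.mk (Ideal.span {f})), Ideal.Quotient.eq,
    Ideal.mem_span_singleton] at hg
  obtain ⟨c, hc⟩ := hg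
  have h4 : (1 : R) ∈ q := by
    have : (1 : R) = D f * g' - f * c := by rw [← hc]; ring
    rw [this]
    exact Ideal.sub_mem _ (Ideal.mul_mem_right _ _ h3) (Ideal.mul_mem_right _ _ hfq)
  exact ‹q.IsPrime›.ne_top ((Ideal.eq_top_iff_one q).mpr h4)

theorem isRegularRing_quotient (R : Type u) [CommRing R] [IsRegularRing R]
    (f : R) (D : Derivation ℤ R R)
    (hD : IsUnit (Ideal.Quotient.mk (Ideal.span {f}) (D f))) :
    IsRegularRing (R ⧸ Ideal.span ({f} : Set R)) := by
  set I : Ideal R := Ideal.span {f} with hI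
  rw [isRegularRing_iff]
  intro P hP
  set q : Ideal R := P.comap (Ideal.Quotient.mk I) with hq
  haveI : q.IsPrime := Ideal.comap_isPrime _ P
  have hfq : f ∈ q := by
    rw [hq, Ideal.mem_comap]
    have : Ideal.Quotient.mk I f = 0 := Ideal.Quotient.eq_zero_iff_mem.mpr
      (Ideal.mem_span_singleton_self f)
    rw [this]
    exact P.zero_mem
  set Rq := Localization.AtPrime q
  have hmem : algebraMap R Rq f ∈ maximalIdeal Rq := by
    rw [← Localization.AtPrime.map_eq_maximalIdeal]
    exact Ideal.mem_map_of_mem _ hfq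
  obtain ⟨hreg, -⟩ := Groth.Agent.RegularLib.quotient_of_not_mem_sq Rq (algebraMap R Rq f) hmem
    (not_mem_sq f D hD q hfq)
  -- identify the localization of the quotient
  have hmap : I.map (algebraMap R Rq) = Ideal.span {algebraMap R Rq f} := by
    rw [hI, Ideal.map_span, Set.image_singleton]
  have hsub : Algebra.algebraMapSubmonoid (R ⧸ I) q.primeCompl = P.primeCompl := by
    ext y
    constructor
    · rintro ⟨x, hx, rfl⟩
      exact hx
    · intro hy
      obtain ⟨x, rfl⟩ := Ideal.Quotient.mk_surjective y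
      exact ⟨x, hy, rfl⟩
  haveI hloc : IsLocalization.AtPrime (Rq ⧸ I.map (algebraMap R Rq)) P := by
    have := (inferInstance : IsLocalization (Algebra.algebraMapSubmonoid (R ⧸ I) q.primeCompl)
      (Rq ⧸ I.map (algebraMap R Rq)))
    rw [hsub] at this
    exact this
  let e1 : (Rq ⧸ I.map (algebraMap R Rq)) ≃+* Localization.AtPrime P :=
    (IsLocalization.algEquiv P.primeCompl (Rq ⧸ I.map (algebraMap R Rq))
      (Localization.AtPrime P)).toRingEquiv
  let e2 : (Rq ⧸ Ideal.span {algebraMap R Rq f}) ≃+* (Rq ⧸ I.map (algebraMap R Rq)) :=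
    Ideal.quotEquivOfEq hmap.symm
  exact IsRegularLocalRing.of_ringEquiv (e2.trans e1)

end Groth.Agent.RegDeriv

namespace Groth.Agent.RegDeriv

open Polynomial in
theorem isRegularRing_polynomial_quotient (R : Type u) [CommRing R]
    [IsRegularRing R] (f : R) (D : Derivation ℤ R R) (hD : IsUnit (D f)) (p : Polynomial ℤ) :
    IsRegularRing (Polynomial R ⧸
      Ideal.span ({Polynomial.map (Int.castRingHom R) p - Polynomial.C f} :
        Set (Polynomial R))) := by
  letI : Differential R := ⟨D⟩
  let D' : Derivation ℤ R[X] R[X] := Differential.mapCoeffs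
  have h1 : D' (Polynomial.map (Int.castRingHom R) p) = 0 := by
    ext i
    rw [Differential.coeff_mapCoeffs, Polynomial.coeff_map, Polynomial.coeff_zero]
    change D (Int.castRingHom R (p.coeff i)) = 0
    rw [eq_intCast]
    exact D.map_algebraMap (p.coeff i)
  have h2 : D' (Polynomial.C f) = Polynomial.C (D f) := by
    rw [Differential.mapCoeffs_C]
    rfl
  have key : IsUnit (Ideal.Quotient.mk
      (Ideal.span {Polynomial.map (Int.castRingHom R) p - Polynomial.C f})
      (D' (Polynomial.map (Int.castRingHom R) p - Polynomial.C f))) := by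
    rw [map_sub, h1, h2, zero_sub, map_neg]
    exact ((hD.map (Polynomial.C : R →+* R[X])).map (Ideal.Quotient.mk _)).neg
  exact isRegularRing_quotient R[X] _ D' key

end Groth.Agent.RegDeriv
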