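import Mathlib
import Groth.Prelude.Def_EGA4b
import Groth.Agent.Lib.DerivFT_helper3
import Groth.Agent.Lib.RegOpenSep_helper3
import Groth.Agent.Lib.NagataCrit_helper3
import Groth.Agent.Lib.RegDeriv_helper5
import Groth.Agent.Lib.Jacobian_helper3
import Groth.Agent.Lib.GRingBase_helper3
import Groth.Agent.Lib.CohenLift_helper3
import Groth.Agent.Lib.PSComplete_helper1

/-!
# Complete Noetherian local rings are J-2 (helper3)

* `J0 C` : the regular locus of `C` contains a nonempty open.
* `HasJ0Model A₀ L` : the field `L` is the fraction field of a finite type `A₀`-algebra with `J0`.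
* `hasJ0Model_of_formallySmooth` : ascent along finitely generated formally smooth field
  extensions.
* `hasJ0Model_pstep` : ascent along `M ⊆ M(f^{1/p})` over a complete local base
  (Stacks 07PH / 07PG).
* `j0_of_hasJ0Model` : every finite type model of such a field has `J0`.
APPEND-ONLY once landed.
-/

set_option autoImplicit false
set_option maxSynthPendingDepth 3

namespace Groth.Agent.Lib.J0CompleteH3

universe u

open PrimeSpectrum TensorProduct IsLocalRing Polynomial
open Groth.Agent.Lib.RegOpenSepH3

/-- the regular locus contains a nonempty open -/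
def J0 (C : Type u) [CommRing C] : Prop :=
  ∃ U : Set (PrimeSpectrum C), IsOpen U ∧ U.Nonempty ∧ U ⊆ EGA4.regLocus C

/-- `L` is the fraction field of a finite type `A₀`-algebra whose regular locus contains a
nonempty open. -/
def HasJ0Model (A₀ : Type u) [CommRing A₀] (L : Type u) [Field L] [Algebra A₀ L] : Prop :=
  ∃ (C : Type u) (_ : CommRing C) (_ : Algebra A₀ C) (_ : Algebra C L)
    (_ : IsScalarTower A₀ C L), Algebra.FiniteType A₀ C ∧ IsFractionRing C L ∧ J0 C

theorem j0_of_isRegularRing (C : Type u) [CommRing C] [Nontrivial C] [IsRegularRing C] : J0 C := by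
  refine ⟨Set.univ, isOpen_univ, ⟨Classical.arbitrary _, trivial⟩, fun q _ => ?_⟩
  exact (isRegularRing_iff.1 inferInstance) q.asIdeal

section Adjoin

theorem isFractionRing_adjoin (C F L : Type u) [CommRing C] [Field F] [Field L] [Algebra C F]
    [IsFractionRing C F] [Algebra F L] [Algebra C L] [IsScalarTower C F L] (S : Set L)
    (hS : IntermediateField.adjoin F S = ⊤) : IsFractionRing (Algebra.adjoin C S) L := by
  haveI : FaithfulSMul (Algebra.adjoin C S) L :=
    (faithfulSMul_iff_algebraMap_injective _ _).2 Subtype.val_injective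
  apply IsFractionRing.of_field
  intro z
  have h1 : (IntermediateField.adjoin F S).toSubfield ≤
      Subfield.closure ((Algebra.adjoin C S : Subalgebra C L) : Set L) := by
    rw [IntermediateField.adjoin_toSubfield, Subfield.closure_le]
    rintro x (⟨y, rfl⟩ | hx)
    · obtain ⟨a, b, hb, rfl⟩ := IsFractionRing.div_surjective (A := C) y
      rw [map_div₀, ← IsScalarTower.algebraMap_apply C F L, ← IsScalarTower.algebraMap_apply C F L]
      exact div_mem (Subfield.subset_closure (Subalgebra.algebraMap_mem _ a))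
        (Subfield.subset_closure (Subalgebra.algebraMap_mem _ b))
    · exact Subfield.subset_closure (Algebra.subset_adjoin hx)
  have hz : z ∈ Subfield.closure ((Algebra.adjoin C S : Subalgebra C L) : Set L) := by
    apply h1
    have : z ∈ IntermediateField.adjoin F S := hS ▸ IntermediateField.mem_top
    exact this
  rw [Subfield.mem_closure_iff] at hz
  obtain ⟨y, hy, w, hw, rfl⟩ := hz
  have hcl : Subring.closure ((Algebra.adjoin C S : Subalgebra C L) : Set L) =
      (Algebra.adjoin C S).toSubring := Subring.closure_eq (Algebra.adjoin C S).toSubring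
  rw [hcl] at hy hw
  exact ⟨⟨y, hy⟩, ⟨w, hw⟩, rfl⟩

end Adjoin

section Asc

variable (A₀ : Type u) [CommRing A₀] [IsNoetherianRing A₀]

theorem hasJ0Model_of_formallySmooth (F L : Type u) [Field F] [Field L] [Algebra F L]
    [Algebra A₀ F] [Algebra A₀ L] [IsScalarTower A₀ F L] [Algebra.EssFiniteType F L]
    [Algebra.FormallySmooth F L] (hF : HasJ0Model A₀ F) : HasJ0Model A₀ L := by
  obtain ⟨C, _, _, _, _, hft, hfr, hJ⟩ := hF
  haveI := hft
  haveI := hfr
  letI : Algebra C L := ((algebraMap F L).comp (algebraMap C F)).toAlgebra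
  haveI : IsScalarTower C F L := IsScalarTower.of_algebraMap_eq (fun _ => rfl)
  haveI : IsScalarTower A₀ C L := IsScalarTower.of_algebraMap_eq (fun a => by
    rw [IsScalarTower.algebraMap_apply A₀ F L, IsScalarTower.algebraMap_apply A₀ C F]
    rfl)
  obtain ⟨S, hS⟩ := IntermediateField.fg_top F L
  haveI : IsNoetherianRing C := Algebra.FiniteType.isNoetherianRing A₀ C
  haveI : IsDomain C := (IsFractionRing.injective C F).isDomain _
  haveI : Algebra.FiniteType C (Algebra.adjoin C (S : Set L)) :=
    (Subalgebra.fg_iff_finiteType _).1 (Subalgebra.fg_adjoin_finset S)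
  haveI : Algebra.FiniteType A₀ (Algebra.adjoin C (S : Set L)) :=
    Algebra.FiniteType.trans hft inferInstance
  haveI hfr' : IsFractionRing (Algebra.adjoin C (S : Set L)) L :=
    isFractionRing_adjoin C F L _ hS
  have hCL : Function.Injective (algebraMap C L) :=
    (algebraMap F L).injective.comp (IsFractionRing.injective C F)
  have hinj : Function.Injective (algebraMap C (Algebra.adjoin C (S : Set L))) := by
    intro a b hab
    apply hCL
    exact congrArg Subtype.val hab
  have hsm : Algebra.FormallySmooth C (FractionRing (Algebra.adjoin C (S : Set L))) := by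
    haveI : Algebra.FormallyEtale C F :=
      Algebra.FormallyEtale.of_isLocalization (nonZeroDivisors C)
    haveI : Algebra.FormallySmooth C L := Algebra.FormallySmooth.comp C F L
    let e : FractionRing (Algebra.adjoin C (S : Set L)) ≃ₐ[Algebra.adjoin C (S : Set L)] L :=
      FractionRing.algEquiv _ L
    exact Algebra.FormallySmooth.of_equiv (e.symm.restrictScalars C)
  exact ⟨Algebra.adjoin C (S : Set L), inferInstance, inferInstance, inferInstance, inferInstance,
    inferInstance, hfr', exists_open_of_formallySmooth C _ hinj hsm hJ⟩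

/-- every finite type model of a field with a `J0` model has `J0` -/
theorem j0_of_hasJ0Model (B L : Type u) [CommRing B] [Field L] [Algebra A₀ B]
    [Algebra.FiniteType A₀ B] [Algebra B L] [IsFractionRing B L] [Algebra A₀ L]
    [IsScalarTower A₀ B L] (hL : HasJ0Model A₀ L) : J0 B := by
  classical
  obtain ⟨C, _, _, _, _, hft, hfr, hJ⟩ := hL
  haveI := hft
  haveI := hfr
  haveI : IsDomain B := (IsFractionRing.injective B L).isDomain _
  haveI : IsDomain C := (IsFractionRing.injective C L).isDomain _
  haveI : IsNoetherianRing C := Algebra.FiniteType.isNoetherianRing A₀ C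
  haveI : IsNoetherianRing B := Algebra.FiniteType.isNoetherianRing A₀ B
  obtain ⟨gB, hgB⟩ := (Algebra.FiniteType.out : (⊤ : Subalgebra A₀ B).FG)
  let T : Finset L := gB.image (algebraMap B L)
  haveI : Algebra.FiniteType C (Algebra.adjoin C (T : Set L)) :=
    (Subalgebra.fg_iff_finiteType _).1 (Subalgebra.fg_adjoin_finset T)
  haveI : Algebra.FiniteType A₀ (Algebra.adjoin C (T : Set L)) :=
    Algebra.FiniteType.trans hft inferInstance
  have htop : IntermediateField.adjoin L (T : Set L) = ⊤ :=
    eq_top_iff.2 (fun x _ => IntermediateField.algebraMap_mem _ x)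
  haveI hfr' : IsFractionRing (Algebra.adjoin C (T : Set L)) L :=
    isFractionRing_adjoin C L L _ htop
  have hBmem : ∀ b : B, algebraMap B L b ∈ Algebra.adjoin C (T : Set L) := by
    intro b
    have hb : b ∈ Algebra.adjoin A₀ (gB : Set B) := hgB ▸ Algebra.mem_top
    induction hb using Algebra.adjoin_induction with
    | mem b hb =>
      exact Algebra.subset_adjoin (Finset.mem_coe.2 (Finset.mem_image_of_mem _ hb))
    | algebraMap a =>
      rw [← IsScalarTower.algebraMap_apply A₀ B L, IsScalarTower.algebraMap_apply A₀ C L]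
      exact Subalgebra.algebraMap_mem _ _
    | add x y _ _ hx hy => rw [map_add]; exact Subalgebra.add_mem _ hx hy
    | mul x y _ _ hx hy => rw [map_mul]; exact Subalgebra.mul_mem _ hx hy
  let ι : B →+* Algebra.adjoin C (T : Set L) :=
    (algebraMap B L).codRestrict (Algebra.adjoin C (T : Set L)) hBmem
  letI : Algebra B (Algebra.adjoin C (T : Set L)) := ι.toAlgebra
  haveI : IsScalarTower A₀ B (Algebra.adjoin C (T : Set L)) :=
    IsScalarTower.of_algebraMap_eq (fun a => by
      apply Subtype.ext
      show algebraMap A₀ L a = algebraMap B L (algebraMap A₀ B a)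
      rw [← IsScalarTower.algebraMap_apply A₀ B L])
  haveI : Algebra.FiniteType B (Algebra.adjoin C (T : Set L)) :=
    Algebra.FiniteType.of_restrictScalars_finiteType A₀ B _
  have hιinj : Function.Injective (algebraMap B (Algebra.adjoin C (T : Set L))) := by
    intro a b hab
    apply IsFractionRing.injective B L
    exact congrArg Subtype.val hab
  have hCL : Function.Injective (algebraMap C L) := IsFractionRing.injective C L
  have hinj : Function.Injective (algebraMap C (Algebra.adjoin C (T : Set L))) := by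
    intro a b hab
    apply hCL
    exact congrArg Subtype.val hab
  have hsm : Algebra.FormallySmooth C (FractionRing (Algebra.adjoin C (T : Set L))) := by
    haveI : Algebra.FormallyEtale C L :=
      Algebra.FormallyEtale.of_isLocalization (nonZeroDivisors C)
    let e : FractionRing (Algebra.adjoin C (T : Set L)) ≃ₐ[Algebra.adjoin C (T : Set L)] L :=
      FractionRing.algEquiv _ L
    exact Algebra.FormallySmooth.of_equiv (e.symm.restrictScalars C)
  have hJ' : J0 (Algebra.adjoin C (T : Set L)) := exists_open_of_formallySmooth C _ hinj hsm hJ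
  exact exists_open_of_injective_finiteType B _ hιinj hJ'

end Asc

section Hyp

variable (p : ℕ) [hp : Fact p.Prime]

include hp in
/-- `C₁[X]/(X^p - f)` embeds in `M(f^{1/p})` with that field as fraction field. -/
theorem hyp_isFractionRing (C₁ M T : Type u) [CommRing C₁] [IsDomain C₁] [Field M] [Field T]
    [Algebra C₁ M] [IsFractionRing C₁ M] [Algebra M T] (τ : T) (f : C₁)
    (hτ : τ ^ p = algebraMap M T (algebraMap C₁ M f))
    (hf : ∀ m : M, m ^ p ≠ algebraMap C₁ M f)
    (hgen : Algebra.adjoin M {τ} = ⊤) (h : C₁[X]) (hh : h = X ^ p - C f) :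
    ∃ ψ : (C₁[X] ⧸ Ideal.span ({h} : Set C₁[X])) →+* T,
      (∀ c : C₁, ψ (Ideal.Quotient.mk _ (C c)) = algebraMap M T (algebraMap C₁ M c)) ∧
      Function.Injective ψ ∧ ∀ z : T, ∃ x y, z = ψ x / ψ y := by
  classical
  have hCM : Function.Injective (algebraMap C₁ M) := IsFractionRing.injective C₁ M
  let j : C₁ →+* T := (algebraMap M T).comp (algebraMap C₁ M)
  have hjinj : Function.Injective j := (algebraMap M T).injective.comp hCM
  let φ : C₁[X] →+* T := Polynomial.eval₂RingHom j τ
  have hφ : ∀ q, φ q = Polynomial.eval₂ j τ q := fun q => rfl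
  have hφh : φ h = 0 := by
    rw [hh, hφ, Polynomial.eval₂_sub, Polynomial.eval₂_pow, Polynomial.eval₂_X,
      Polynomial.eval₂_C, hτ]
    exact sub_self _
  have hmonic : h.Monic := hh ▸ Polynomial.monic_X_pow_sub_C _ hp.out.ne_zero
  have hker : ∀ a ∈ Ideal.span ({h} : Set C₁[X]), φ a = 0 := by
    intro a ha
    rw [Ideal.mem_span_singleton] at ha
    obtain ⟨b, rfl⟩ := ha
    rw [map_mul, hφh, zero_mul]
  let ψ : (C₁[X] ⧸ Ideal.span ({h} : Set C₁[X])) →+* T := Ideal.Quotient.lift _ φ hker
  have hψ : ∀ q, ψ (Ideal.Quotient.mk _ q) = φ q := fun q => Ideal.Quotient.lift_mk _ _ _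
  -- the minimal polynomial of `τ`
  have hirr : Irreducible (X ^ p - C (algebraMap C₁ M f) : M[X]) :=
    X_pow_sub_C_irreducible_of_prime hp.out hf
  have hmin : (X ^ p - C (algebraMap C₁ M f) : M[X]) = minpoly M τ := by
    apply minpoly.eq_of_irreducible_of_monic hirr
    · rw [map_sub, map_pow, Polynomial.aeval_X, Polynomial.aeval_C, hτ]
      exact sub_self _
    · exact Polynomial.monic_X_pow_sub_C _ hp.out.ne_zero
  refine ⟨ψ, fun c => ?_, ?_, ?_⟩
  · rw [hψ, hφ, Polynomial.eval₂_C]
    rfl
  · rw [injective_iff_map_eq_zero]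
    intro x hx
    obtain ⟨q, rfl⟩ := Ideal.Quotient.mk_surjective x
    rw [hψ] at hx
    have hdecomp : q %ₘ h + h * (q /ₘ h) = q := Polynomial.modByMonic_add_div q h
    set r := q %ₘ h with hr
    have hφr : φ r = 0 := by
      have h1 : φ q = φ r + φ h * φ (q /ₘ h) := by
        rw [← map_mul, ← map_add, hdecomp]
      rw [hx, hφh, zero_mul, add_zero] at h1
      exact h1.symm
    have hr0 : r = 0 := by
      have haev : Polynomial.aeval τ (r.map (algebraMap C₁ M)) = 0 := by
        rw [Polynomial.aeval_def, Polynomial.eval₂_map]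
        exact hφr
      have hdvd : minpoly M τ ∣ r.map (algebraMap C₁ M) := minpoly.dvd M τ haev
      by_contra hne
      have hne' : r.map (algebraMap C₁ M) ≠ 0 := by
        intro h0
        apply hne
        apply Polynomial.map_injective _ hCM
        rw [h0, Polynomial.map_zero]
      have h1 : (minpoly M τ).natDegree ≤ (r.map (algebraMap C₁ M)).natDegree :=
        Polynomial.natDegree_le_of_dvd hdvd hne'
      rw [← hmin, Polynomial.natDegree_X_pow_sub_C] at h1
      have h2 : (r.map (algebraMap C₁ M)).natDegree ≤ r.natDegree :=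
        Polynomial.natDegree_map_le
      have hne1 : h ≠ 1 := by
        intro h1'
        have h3 := congrArg Polynomial.natDegree h1'
        rw [hh, Polynomial.natDegree_X_pow_sub_C, Polynomial.natDegree_one] at h3
        exact hp.out.ne_zero h3
      have h3 : r.natDegree < h.natDegree := Polynomial.natDegree_modByMonic_lt q hmonic hne1
      rw [hh, Polynomial.natDegree_X_pow_sub_C] at h3
      omega
    rw [Ideal.Quotient.eq_zero_iff_mem, Ideal.mem_span_singleton]
    refine ⟨q /ₘ h, ?_⟩
    have h4 := hdecomp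
    rw [hr0, zero_add] at h4
    exact h4.symm
  · intro z
    have hz : z ∈ Algebra.adjoin M {τ} := hgen ▸ Algebra.mem_top
    rw [Algebra.adjoin_singleton_eq_range_aeval] at hz
    obtain ⟨q, hq⟩ := hz
    obtain ⟨b, hb⟩ := IsLocalization.integerNormalization_map_to_map (nonZeroDivisors C₁) q
    set q₀ := IsLocalization.integerNormalization (nonZeroDivisors C₁) q with hq₀
    have hb0 : (b : C₁) ≠ 0 := nonZeroDivisors.ne_zero b.2
    have hjb : j (b : C₁) ≠ 0 := (map_ne_zero_iff _ hjinj).2 hb0
    refine ⟨Ideal.Quotient.mk _ q₀, Ideal.Quotient.mk _ (C (b : C₁)), ?_⟩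
    rw [hψ, hψ, hφ, hφ, Polynomial.eval₂_C, eq_div_iff hjb]
    have h1 : Polynomial.eval₂ j τ q₀ =
        Polynomial.aeval τ (q₀.map (algebraMap C₁ M)) := by
      rw [Polynomial.aeval_def, Polynomial.eval₂_map]
    rw [h1, hb, ← algebraMap_smul M (b : C₁) q, map_smul, Algebra.smul_def]
    have h2 : (Polynomial.aeval τ) q = z := hq
    rw [h2, mul_comm]
    rfl

end Hyp

section PStep

variable (A₀ : Type u) [CommRing A₀] [IsLocalRing A₀] [IsNoetherianRing A₀]
  [IsAdicComplete (maximalIdeal A₀) A₀] (p : ℕ) [hp : Fact p.Prime]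

include hp in
theorem hasJ0Model_pstep_core (M T : Type u) [Field M] [Field T] [Algebra M T] [Algebra A₀ M]
    [Algebra A₀ T] [IsScalarTower A₀ M T] [CharP M p]
    (Cm : Type u) [CommRing Cm] [Algebra A₀ Cm] [Algebra Cm M] [IsScalarTower A₀ Cm M]
    [Algebra.FiniteType A₀ Cm] [IsFractionRing Cm M] (hJ : J0 Cm)
    (τ : T) (f : Cm) (hτ : τ ^ p = algebraMap M T (algebraMap Cm M f))
    (hf : ∀ m : M, m ^ p ≠ algebraMap Cm M f)
    (hgen : Algebra.adjoin M {τ} = ⊤) : HasJ0Model A₀ T := by
  classical
  have hCM : Function.Injective (algebraMap Cm M) := IsFractionRing.injective Cm M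
  haveI : IsDomain Cm := hCM.isDomain _
  haveI : CharP Cm p := RingHom.charP (algebraMap Cm M) hCM p
  haveI : IsNoetherianRing Cm := Algebra.FiniteType.isNoetherianRing A₀ Cm
  -- the derivation
  have hf' : ∀ x : FractionRing Cm, x ^ p ≠ algebraMap Cm (FractionRing Cm) f := by
    intro x hx
    let e : FractionRing Cm ≃ₐ[Cm] M := FractionRing.algEquiv Cm M
    apply hf (e x)
    rw [← map_pow, hx, e.commutes]
  obtain ⟨D, hD⟩ := Groth.Agent.Lib.DerivFTH3.main2048 (R := A₀) p f hf'
  obtain ⟨U, hUo, hUne, hUreg⟩ := hJ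
  obtain ⟨g, hg0, hgU⟩ := exists_basicOpen_subset U hUo hUne
  set u : Cm := g * D f with hu
  have hu0 : u ≠ 0 := mul_ne_zero hg0 hD
  have hgM : Submonoid.powers u ≤ nonZeroDivisors Cm :=
    powers_le_nonZeroDivisors_of_noZeroDivisors hu0
  haveI : IsDomain (Localization.Away u) := IsLocalization.isDomain_localization hgM
  haveI : IsNoetherianRing (Localization.Away u) :=
    IsLocalization.isNoetherianRing (Submonoid.powers u) _ inferInstance
  have huu : IsUnit (algebraMap Cm (Localization.Away u) u) :=
    IsLocalization.map_units _ (⟨u, Submonoid.mem_powers u⟩ : Submonoid.powers u)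
  haveI hreg₁ : IsRegularRing (Localization.Away u) := by
    rw [isRegularRing_iff]
    intro Q hQ
    rw [← Groth.Agent.Lib.NagataCritH3.isRegularLocalRing_under_iff Cm (Submonoid.powers u)
      (Localization.Away u) Q]
    have huQ : u ∉ Q.under Cm := by
      intro hmem
      exact hQ.ne_top (Ideal.eq_top_of_isUnit_mem _ hmem huu)
    have hgQ : g ∉ Q.under Cm := fun h => huQ (Ideal.mul_mem_right _ _ h)
    exact hUreg (hgU (show (⟨Q.under Cm, inferInstance⟩ : PrimeSpectrum Cm) ∈
      (basicOpen g : Set (PrimeSpectrum Cm)) from hgQ))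
  -- the derivation on the localization
  haveI : Algebra.FormallyEtale Cm (Localization.Away u) :=
    Algebra.FormallyEtale.of_isLocalization (Submonoid.powers u)
  letI algZ : Algebra ℤ (Localization.Away u) := Ring.toIntAlgebra _
  obtain ⟨D₁, hD₁⟩ := Groth.Agent.Lib.JacobianH3.exists_derivation_extension ℤ
    (S := Cm) (T := Localization.Away u) D
  have hunit : IsUnit (D₁ (algebraMap Cm (Localization.Away u) f)) := by
    rw [hD₁]
    have h1 := huu
    rw [hu, map_mul] at h1
    exact isUnit_of_mul_isUnit_right h1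
  -- the hypersurface
  set h : (Localization.Away u)[X] :=
    Polynomial.map (Int.castRingHom (Localization.Away u)) (X ^ p) -
      C (algebraMap Cm (Localization.Away u) f) with hh0
  have hh : h = X ^ p - C (algebraMap Cm (Localization.Away u) f) := by
    rw [hh0, Polynomial.map_pow, Polynomial.map_X]
  haveI hreg₂ : IsRegularRing ((Localization.Away u)[X] ⧸ Ideal.span ({h} : Set _)) :=
    Groth.Agent.RegDeriv.isRegularRing_polynomial_quotient (Localization.Away u)
      (algebraMap Cm (Localization.Away u) f) D₁ hunit (X ^ p)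
  -- `C₁ → M`
  have huM : IsUnit (algebraMap Cm M u) := by
    rw [isUnit_iff_ne_zero]
    exact (map_ne_zero_iff _ hCM).2 hu0
  letI : Algebra (Localization.Away u) M := (IsLocalization.Away.lift u huM).toAlgebra
  haveI : IsScalarTower Cm (Localization.Away u) M := IsScalarTower.of_algebraMap_eq (fun c => by
    show _ = IsLocalization.Away.lift u huM (algebraMap Cm (Localization.Away u) c)
    rw [IsLocalization.Away.lift_eq])
  haveI : IsFractionRing (Localization.Away u) M :=
    IsFractionRing.isFractionRing_of_isDomain_of_isLocalization (Submonoid.powers u)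
      (Localization.Away u) M
  have hτ' : τ ^ p = algebraMap M T (algebraMap (Localization.Away u) M
      (algebraMap Cm (Localization.Away u) f)) := by
    rw [← IsScalarTower.algebraMap_apply Cm (Localization.Away u) M]
    exact hτ
  have hf'' : ∀ m : M, m ^ p ≠ algebraMap (Localization.Away u) M
      (algebraMap Cm (Localization.Away u) f) := by
    intro m
    rw [← IsScalarTower.algebraMap_apply Cm (Localization.Away u) M]
    exact hf m
  obtain ⟨ψ, hψC, hψinj, hψsurj⟩ := hyp_isFractionRing p (Localization.Away u) M T τ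
    (algebraMap Cm (Localization.Away u) f) hτ' hf'' hgen h hh
  -- the model
  letI : Algebra ((Localization.Away u)[X] ⧸ Ideal.span ({h} : Set _)) T := ψ.toAlgebra
  haveI : IsScalarTower A₀ ((Localization.Away u)[X] ⧸ Ideal.span ({h} : Set _)) T :=
    IsScalarTower.of_algebraMap_eq (fun a => by
      show algebraMap A₀ T a = ψ (Ideal.Quotient.mk _ (C (algebraMap A₀ (Localization.Away u) a)))
      rw [hψC, IsScalarTower.algebraMap_apply A₀ Cm (Localization.Away u),
        ← IsScalarTower.algebraMap_apply Cm (Localization.Away u) M,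
        ← IsScalarTower.algebraMap_apply A₀ Cm M, ← IsScalarTower.algebraMap_apply A₀ M T])
  haveI : Algebra.FiniteType Cm (Localization.Away u) :=
    IsLocalization.finiteType_of_monoid_fg (Submonoid.powers u) _
  haveI : Algebra.FiniteType A₀ (Localization.Away u) :=
    Algebra.FiniteType.trans (inferInstance : Algebra.FiniteType A₀ Cm) inferInstance
  haveI : Algebra.FiniteType A₀ (Localization.Away u)[X] :=
    Algebra.FiniteType.trans (inferInstance : Algebra.FiniteType A₀ (Localization.Away u))
      inferInstance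
  haveI : Algebra.FiniteType A₀ ((Localization.Away u)[X] ⧸ Ideal.span ({h} : Set _)) :=
    Algebra.FiniteType.of_surjective (Ideal.Quotient.mkₐ A₀ _)
      (Ideal.Quotient.mkₐ_surjective A₀ _)
  haveI : FaithfulSMul ((Localization.Away u)[X] ⧸ Ideal.span ({h} : Set _)) T :=
    (faithfulSMul_iff_algebraMap_injective _ _).2 hψinj
  haveI : IsFractionRing ((Localization.Away u)[X] ⧸ Ideal.span ({h} : Set _)) T := by
    apply IsFractionRing.of_field
    exact hψsurj
  haveI : Nontrivial ((Localization.Away u)[X] ⧸ Ideal.span ({h} : Set _)) :=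
    ψ.domain_nontrivial
  exact ⟨(Localization.Away u)[X] ⧸ Ideal.span ({h} : Set _), inferInstance, inferInstance,
    inferInstance, inferInstance, inferInstance, inferInstance, j0_of_isRegularRing _⟩

include hp in
theorem hasJ0Model_pstep (M T : Type u) [Field M] [Field T] [Algebra M T] [Algebra A₀ M]
    [Algebra A₀ T] [IsScalarTower A₀ M T] [CharP M p]
    (τ : T) (f : M) (hτ : τ ^ p = algebraMap M T f) (hf : ∀ m : M, m ^ p ≠ f)
    (hgen : Algebra.adjoin M {τ} = ⊤) (hM : HasJ0Model A₀ M) : HasJ0Model A₀ T := by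
  obtain ⟨Cm, _, _, _, _, hft, hfr, hJ⟩ := hM
  haveI := hft
  haveI := hfr
  haveI : IsDomain Cm := (IsFractionRing.injective Cm M).isDomain _
  obtain ⟨a, s, hs, rfl⟩ := IsFractionRing.div_surjective (A := Cm) f
  have hs0 : algebraMap Cm M s ≠ 0 := IsFractionRing.to_map_ne_zero_of_mem_nonZeroDivisors hs
  obtain ⟨k, hk⟩ : ∃ k, p = k + 1 := ⟨p - 1, (Nat.succ_pred_eq_of_pos hp.out.pos).symm⟩
  have hf₁ : ∀ m : M, m ^ p ≠ algebraMap Cm M (s ^ k * a) := by
    intro m hm
    apply hf (m / algebraMap Cm M s)
    rw [div_pow, hm, map_mul, map_pow, hk, pow_succ]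
    field_simp
  have hτ₁ : (algebraMap M T (algebraMap Cm M s) * τ) ^ p =
      algebraMap M T (algebraMap Cm M (s ^ k * a)) := by
    rw [mul_pow, hτ, ← map_pow, ← map_mul]
    congr 1
    rw [map_mul, map_pow, hk, pow_succ]
    field_simp
  have hgen₁ : Algebra.adjoin M {algebraMap M T (algebraMap Cm M s) * τ} = ⊤ := by
    rw [eq_top_iff, ← hgen]
    apply Algebra.adjoin_le
    rw [Set.singleton_subset_iff]
    have h1 : (algebraMap Cm M s)⁻¹ • (algebraMap M T (algebraMap Cm M s) * τ) = τ := by
      rw [Algebra.smul_def, ← mul_assoc, ← map_mul, inv_mul_cancel₀ hs0, map_one, one_mul]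
    have h2 : (algebraMap Cm M s)⁻¹ • (algebraMap M T (algebraMap Cm M s) * τ) ∈
        Algebra.adjoin M {algebraMap M T (algebraMap Cm M s) * τ} :=
      Subalgebra.smul_mem _ (Algebra.subset_adjoin (Set.mem_singleton _)) _
    rw [h1] at h2
    exact h2
  exact hasJ0Model_pstep_core A₀ p M T Cm hJ _ (s ^ k * a) hτ₁ hf₁ hgen₁

end PStep

section Fin

open IntermediateField

variable (A₀ : Type u) [CommRing A₀] [IsLocalRing A₀] [IsNoetherianRing A₀]
  [IsAdicComplete (maximalIdeal A₀) A₀] (p : ℕ) [hp : Fact p.Prime]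

include hp in
theorem hasJ0Model_of_finite : ∀ (n : ℕ) (F L : Type u) [Field F] [Field L] [Algebra F L]
    [Algebra A₀ F] [Algebra A₀ L] [IsScalarTower A₀ F L] [FiniteDimensional F L] [CharP F p],
    Module.finrank F L ≤ n → HasJ0Model A₀ F → HasJ0Model A₀ L := by
  classical
  intro n
  induction n with
  | zero =>
    intro F L _ _ _ _ _ _ _ _ hn _
    exfalso
    have : 0 < Module.finrank F L := Module.finrank_pos
    omega
  | succ n ih =>
    intro F L _ _ _ _ _ _ _ _ hn hF
    by_cases hsep : Algebra.IsSeparable F L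
    · haveI := hsep
      haveI : Algebra.FormallyEtale F L := Algebra.FormallyEtale.of_isSeparable F L
      exact hasJ0Model_of_formallySmooth A₀ F L hF
    · -- the separable closure
      let S : IntermediateField F L := separableClosure F L
      haveI : IsScalarTower A₀ S L := IsScalarTower.of_algebraMap_eq (fun _ => rfl)
      haveI : Algebra.FormallyEtale F S := Algebra.FormallyEtale.of_isSeparable F S
      have hS : HasJ0Model A₀ S := hasJ0Model_of_formallySmooth A₀ F S hF
      have hne : S ≠ ⊤ := fun h => hsep ((separableClosure.eq_top_iff F L).1 h)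
      obtain ⟨τ, -, hτS⟩ := SetLike.exists_of_lt (lt_top_iff_ne_top.2 hne)
      haveI : CharP S p := charP_of_injective_algebraMap (algebraMap F S).injective p
      haveI : CharP L p := charP_of_injective_algebraMap (algebraMap F L).injective p
      haveI : ExpChar S p := ExpChar.prime hp.out
      have hex : ∃ e : ℕ, τ ^ p ^ e ∈ (algebraMap S L).range :=
        IsPurelyInseparable.pow_mem S p τ
      -- minimal exponent
      have he0 : Nat.find hex ≠ 0 := by
        intro h0
        have h1 := Nat.find_spec hex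
        rw [h0, pow_zero, pow_one] at h1
        obtain ⟨y, hy⟩ := h1
        exact hτS (hy ▸ y.2)
      obtain ⟨k, hk⟩ := Nat.exists_eq_succ_of_ne_zero he0
      have hτ'not : τ ^ p ^ k ∉ (algebraMap S L).range := Nat.find_min hex (by omega)
      have hτ'p : (τ ^ p ^ k) ^ p ∈ (algebraMap S L).range := by
        have h1 := Nat.find_spec hex
        rw [hk, pow_succ, pow_mul] at h1
        exact h1
      obtain ⟨f, hf⟩ := hτ'p
      have hfnot : ∀ m : S, m ^ p ≠ f := by
        intro m hm
        apply hτ'not
        refine ⟨m, ?_⟩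
        have h1 : (τ ^ p ^ k - algebraMap S L m) ^ p = 0 := by
          rw [sub_pow_char, ← map_pow, hm, hf, sub_self]
        exact (sub_eq_zero.1 ((pow_eq_zero_iff hp.out.ne_zero).1 h1)).symm
      -- the simple extension
      haveI : IsScalarTower A₀ S⟮τ ^ p ^ k⟯ L := IsScalarTower.of_algebraMap_eq (fun _ => rfl)
      have hτ'int : IsIntegral S (τ ^ p ^ k) := Algebra.IsIntegral.isIntegral _
      have hM' : HasJ0Model A₀ S⟮τ ^ p ^ k⟯ := by
        refine hasJ0Model_pstep A₀ p S S⟮τ ^ p ^ k⟯ (AdjoinSimple.gen S (τ ^ p ^ k)) f ?_ hfnot ?_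
          hS
        · apply Subtype.ext
          show (AdjoinSimple.gen S (τ ^ p ^ k) : L) ^ p = algebraMap S L f
          rw [AdjoinSimple.coe_gen, hf]
        · rw [eq_top_iff]
          intro x _
          have hx : (x : L) ∈ S⟮τ ^ p ^ k⟯.toSubalgebra := x.2
          rw [adjoin_simple_toSubalgebra_of_isAlgebraic hτ'int.isAlgebraic,
            Algebra.adjoin_singleton_eq_range_aeval] at hx
          obtain ⟨q, hq⟩ := hx
          rw [Algebra.adjoin_singleton_eq_range_aeval]
          refine ⟨q, Subtype.ext ?_⟩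
          show ((Polynomial.aeval (AdjoinSimple.gen S (τ ^ p ^ k)) q : S⟮τ ^ p ^ k⟯) : L) = x
          rw [AdjoinSimple.coe_aeval_gen_apply]
          exact hq
      -- degrees
      haveI : CharP S⟮τ ^ p ^ k⟯ p :=
        charP_of_injective_algebraMap (algebraMap S S⟮τ ^ p ^ k⟯).injective p
      have hdeg : Module.finrank S⟮τ ^ p ^ k⟯ L ≤ n := by
        have e1 : Module.finrank F S * Module.finrank S L = Module.finrank F L :=
          Module.finrank_mul_finrank F S L
        have e2 : Module.finrank S S⟮τ ^ p ^ k⟯ * Module.finrank S⟮τ ^ p ^ k⟯ L =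
            Module.finrank S L := Module.finrank_mul_finrank S S⟮τ ^ p ^ k⟯ L
        have ha : 0 < Module.finrank F S := Module.finrank_pos
        have hc : 0 < Module.finrank S⟮τ ^ p ^ k⟯ L := Module.finrank_pos
        have hb0 : 0 < Module.finrank S S⟮τ ^ p ^ k⟯ := Module.finrank_pos
        have hb1 : Module.finrank S S⟮τ ^ p ^ k⟯ ≠ 1 := by
          intro h1
          rw [IntermediateField.finrank_adjoin_simple_eq_one_iff, IntermediateField.mem_bot] at h1
          exact hτ'not h1
        have h1 : Module.finrank S L ≤ Module.finrank F S * Module.finrank S L :=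
          Nat.le_mul_of_pos_left _ ha
        have h2 : 2 * Module.finrank S⟮τ ^ p ^ k⟯ L ≤
            Module.finrank S S⟮τ ^ p ^ k⟯ * Module.finrank S⟮τ ^ p ^ k⟯ L :=
          Nat.mul_le_mul_right _ (by omega)
        omega
      exact ih S⟮τ ^ p ^ k⟯ L hdeg hM'

include hp in
theorem hasJ0Model_simple (F L : Type u) [Field F] [Field L] [Algebra F L] [Algebra A₀ F]
    [Algebra A₀ L] [IsScalarTower A₀ F L] [CharP F p] (x : L) (hF : HasJ0Model A₀ F) :
    HasJ0Model A₀ F⟮x⟯ := by
  classical
  by_cases hx : IsAlgebraic F x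
  · haveI : FiniteDimensional F F⟮x⟯ := adjoin.finiteDimensional hx.isIntegral
    exact hasJ0Model_of_finite A₀ p _ F F⟮x⟯ le_rfl hF
  · letI algP : Algebra F[X] F⟮x⟯ := (Polynomial.aeval (AdjoinSimple.gen F x)).toRingHom.toAlgebra
    have halg : ∀ q : F[X], algebraMap F[X] F⟮x⟯ q = Polynomial.aeval (AdjoinSimple.gen F x) q :=
      fun q => rfl
    haveI : IsScalarTower F F[X] F⟮x⟯ := IsScalarTower.of_algebraMap_eq (fun a => by
      rw [halg]
      exact (Polynomial.aeval_C (AdjoinSimple.gen F x) a).symm)
    have htr : Transcendental F x := hx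
    have hinj : Function.Injective (algebraMap F[X] F⟮x⟯) := by
      intro q q' hqq
      have h1 : Polynomial.aeval x q = Polynomial.aeval x q' := by
        have h0 := congrArg Subtype.val hqq
        rw [halg, halg, AdjoinSimple.coe_aeval_gen_apply, AdjoinSimple.coe_aeval_gen_apply] at h0
        exact h0
      exact (transcendental_iff_injective.1 htr) h1
    haveI : FaithfulSMul F[X] F⟮x⟯ := (faithfulSMul_iff_algebraMap_injective _ _).2 hinj
    haveI : IsFractionRing F[X] F⟮x⟯ := by
      apply IsFractionRing.of_field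
      intro z
      obtain ⟨r, s, hrs⟩ := (mem_adjoin_simple_iff F (z : L)).1 z.2
      refine ⟨r, s, Subtype.ext ?_⟩
      rw [hrs]
      show _ = ((algebraMap F[X] F⟮x⟯ r / algebraMap F[X] F⟮x⟯ s : F⟮x⟯) : L)
      rw [halg, halg]
      push_cast
      rw [AdjoinSimple.coe_aeval_gen_apply, AdjoinSimple.coe_aeval_gen_apply]
    haveI : Algebra.FormallyEtale F[X] F⟮x⟯ :=
      Algebra.FormallyEtale.of_isLocalization (nonZeroDivisors F[X])
    haveI : Algebra.FormallySmooth F F⟮x⟯ := Algebra.FormallySmooth.comp F F[X] F⟮x⟯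
    haveI : Algebra.EssFiniteType F[X] F⟮x⟯ :=
      Algebra.EssFiniteType.of_isLocalization _ (nonZeroDivisors F[X])
    haveI : Algebra.EssFiniteType F F⟮x⟯ := Algebra.EssFiniteType.comp F F[X] F⟮x⟯
    exact hasJ0Model_of_formallySmooth A₀ F F⟮x⟯ hF

include hp in
theorem hasJ0Model_of_fin (L : Type u) [Field L] [Algebra A₀ L] [CharP L p] :
    ∀ (n : ℕ) (F : Type u) [Field F] [Algebra F L] [Algebra A₀ F] [IsScalarTower A₀ F L]
      (s : Fin n → L), adjoin F (Set.range s) = ⊤ → HasJ0Model A₀ F → HasJ0Model A₀ L := by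
  intro n
  induction n with
  | zero =>
    intro F _ _ _ _ s hs hF
    have hempty : Set.range s = ∅ := Set.range_eq_empty s
    rw [hempty, adjoin_empty] at hs
    have hbij : Function.Bijective (algebraMap F L) := by
      refine ⟨(algebraMap F L).injective, fun y => ?_⟩
      have hy : y ∈ (⊥ : IntermediateField F L) := by
        rw [hs]
        trivial
      exact mem_bot.1 hy
    haveI : Algebra.FormallyEtale F L :=
      Algebra.FormallyEtale.of_equiv (AlgEquiv.ofBijective (Algebra.ofId F L) hbij)
    haveI : Algebra.FiniteType F L :=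
      Algebra.FiniteType.of_surjective (Algebra.ofId F L) hbij.2
    exact hasJ0Model_of_formallySmooth A₀ F L hF
  | succ n ih =>
    intro F _ _ _ _ s hs hF
    haveI : CharP F p := RingHom.charP (algebraMap F L) (algebraMap F L).injective p
    haveI : IsScalarTower A₀ F⟮s 0⟯ L := IsScalarTower.of_algebraMap_eq (fun _ => rfl)
    have h₁ : HasJ0Model A₀ F⟮s 0⟯ := hasJ0Model_simple A₀ p F L (s 0) hF
    apply ih F⟮s 0⟯ (fun i => s i.succ) _ h₁
    rw [← restrictScalars_eq_top_iff (K := F), adjoin_adjoin_left, ← hs]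
    congr 1
    ext y
    constructor
    · rintro (hy | ⟨i, rfl⟩)
      · exact ⟨0, hy.symm⟩
      · exact ⟨i.succ, rfl⟩
    · rintro ⟨i, rfl⟩
      refine Fin.cases ?_ (fun j => ?_) i
      · exact Or.inl rfl
      · exact Or.inr ⟨j, rfl⟩

end Fin

section Main

variable (R : Type u) [CommRing R] [IsLocalRing R] [IsNoetherianRing R]
  [IsAdicComplete (maximalIdeal R) R]

/-- Stacks 07PI+: a domain of finite type over a complete Noetherian local ring is J-0. -/
theorem j0_of_finiteType_domain (B : Type u) [CommRing B] [IsDomain B] [Algebra R B]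
    [Algebra.FiniteType R B] : J0 B := by
  classical
  let P : Ideal R := RingHom.ker (algebraMap R B)
  haveI hP : P.IsPrime := RingHom.ker_isPrime _
  haveI : Nontrivial (R ⧸ P) := Ideal.Quotient.nontrivial_iff.2 hP.ne_top
  haveI : IsLocalRing (R ⧸ P) :=
    IsLocalRing.of_surjective' (Ideal.Quotient.mk P) Ideal.Quotient.mk_surjective
  haveI := Groth.Agent.Lib.MonomialCharPH3.isAdicComplete_quotient R P
  let ψ : R ⧸ P →+* B := RingHom.kerLift (algebraMap R B)
  have hψinj : Function.Injective ψ := RingHom.kerLift_injective _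
  have hψft : ψ.FiniteType := by
    have h1 : (ψ.comp (Ideal.Quotient.mk P)).FiniteType := by
      have h2 : ψ.comp (Ideal.Quotient.mk P) = algebraMap R B := by
        ext r
        exact RingHom.kerLift_mk _ r
      rw [h2]
      exact RingHom.finiteType_algebraMap.2 inferInstance
    exact RingHom.FiniteType.of_comp_finiteType h1
  obtain ⟨Λ, _, n, φ, hΛ, hφinj, hφfin, -⟩ := Groth.Agent.S0581.result (R ⧸ P)
  have key : ∃ (_ : IsDomain Λ) (_ : IsRegularLocalRing Λ),
      CharZero Λ ∨ (IsField Λ ∧ ∃ q : ℕ, q.Prime ∧ CharP Λ q) := by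
    rcases hΛ with hfield | ⟨hd, hdvr, -, q, hq, hm⟩
    · letI := hfield.toField
      refine ⟨inferInstance, inferInstance, ?_⟩
      obtain ⟨q, hq⟩ := CharP.exists Λ
      rcases CharP.char_is_prime_or_zero Λ q with hq' | hq'
      · exact Or.inr ⟨hfield, q, hq', hq⟩
      · subst hq'
        exact Or.inl (CharP.charP_to_charZero Λ)
    · haveI := hd
      haveI := hdvr
      exact ⟨hd, inferInstance,
        Or.inl (Groth.Agent.Lib.CompleteNagataH3.charZero_of_isCohenRing Λ q hq hm)⟩
  obtain ⟨hd, hreg, hchar⟩ := key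
  haveI := hd
  haveI := hreg
  haveI := Groth.Agent.Lib.GRingBaseH3.isRegularRing_mvPowerSeries Λ n
  haveI : IsDomain (MvPowerSeries (Fin n) Λ) := NoZeroDivisors.to_isDomain _
  haveI : IsNoetherianRing (MvPowerSeries (Fin n) Λ) := inferInstance
  letI : Algebra (MvPowerSeries (Fin n) Λ) B := (ψ.comp φ).toAlgebra
  have hinj : Function.Injective (algebraMap (MvPowerSeries (Fin n) Λ) B) := hψinj.comp hφinj
  haveI : Algebra.FiniteType (MvPowerSeries (Fin n) Λ) B :=
    hψft.comp (RingHom.FiniteType.of_finite hφfin)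
  have hinjL : Function.Injective (algebraMap (MvPowerSeries (Fin n) Λ) (FractionRing B)) := by
    rw [IsScalarTower.algebraMap_eq (MvPowerSeries (Fin n) Λ) B (FractionRing B)]
    exact (IsFractionRing.injective B (FractionRing B)).comp hinj
  haveI : FaithfulSMul (MvPowerSeries (Fin n) Λ) (FractionRing B) :=
    (faithfulSMul_iff_algebraMap_injective _ _).2 hinjL
  letI : Algebra (FractionRing (MvPowerSeries (Fin n) Λ)) (FractionRing B) :=
    FractionRing.liftAlgebra (MvPowerSeries (Fin n) Λ) (FractionRing B)
  haveI : IsScalarTower (MvPowerSeries (Fin n) Λ) (FractionRing (MvPowerSeries (Fin n) Λ))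
      (FractionRing B) := FractionRing.isScalarTower_liftAlgebra _ _
  have hJA : J0 (MvPowerSeries (Fin n) Λ) := j0_of_isRegularRing _
  rcases hchar with h0 | ⟨hfield, q, hq, hcq⟩
  · haveI := h0
    haveI : CharZero (MvPowerSeries (Fin n) Λ) :=
      charZero_of_injective_ringHom (f := (MvPowerSeries.C : Λ →+* MvPowerSeries (Fin n) Λ))
        MvPowerSeries.C_injective
    haveI : CharZero (FractionRing (MvPowerSeries (Fin n) Λ)) :=
      charZero_of_injective_algebraMap
        (IsFractionRing.injective (MvPowerSeries (Fin n) Λ) _)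
    haveI : Algebra.FormallySmooth (FractionRing (MvPowerSeries (Fin n) Λ)) (FractionRing B) :=
      Groth.Agent.Lib.CohenLiftH3.formallySmooth_of_charZero' _ _
    haveI : Algebra.FormallyEtale (MvPowerSeries (Fin n) Λ)
        (FractionRing (MvPowerSeries (Fin n) Λ)) :=
      Algebra.FormallyEtale.of_isLocalization (nonZeroDivisors (MvPowerSeries (Fin n) Λ))
    have hsm : Algebra.FormallySmooth (MvPowerSeries (Fin n) Λ) (FractionRing B) :=
      Algebra.FormallySmooth.comp _ (FractionRing (MvPowerSeries (Fin n) Λ)) _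
    exact exists_open_of_formallySmooth (MvPowerSeries (Fin n) Λ) B hinj hsm hJA
  · haveI : Fact q.Prime := ⟨hq⟩
    haveI := hcq
    haveI : IsAdicComplete (maximalIdeal Λ) Λ := by
      have h1 : maximalIdeal Λ = ⊥ := IsLocalRing.isField_iff_maximalIdeal_eq.1 hfield
      rw [h1]
      infer_instance
    haveI : IsAdicComplete (maximalIdeal (MvPowerSeries (Fin n) Λ)) (MvPowerSeries (Fin n) Λ) :=
      Groth.Agent.Lib.PSCompleteH1.isAdicComplete_maximalIdeal
    haveI : CharP (MvPowerSeries (Fin n) Λ) q :=
      charP_of_injective_ringHom (f := (MvPowerSeries.C : Λ →+* MvPowerSeries (Fin n) Λ))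
        MvPowerSeries.C_injective q
    haveI : CharP (FractionRing B) q := charP_of_injective_algebraMap hinjL q
    haveI : Algebra.EssFiniteType B (FractionRing B) :=
      Algebra.EssFiniteType.of_isLocalization _ (nonZeroDivisors B)
    haveI : Algebra.EssFiniteType (MvPowerSeries (Fin n) Λ) (FractionRing B) :=
      Algebra.EssFiniteType.comp _ B _
    haveI : Algebra.EssFiniteType (FractionRing (MvPowerSeries (Fin n) Λ)) (FractionRing B) :=
      Algebra.EssFiniteType.of_comp (MvPowerSeries (Fin n) Λ) _ _
    obtain ⟨S, hS⟩ := IntermediateField.fg_top (FractionRing (MvPowerSeries (Fin n) Λ))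
      (FractionRing B)
    have hK₀ : HasJ0Model (MvPowerSeries (Fin n) Λ) (FractionRing (MvPowerSeries (Fin n) Λ)) :=
      ⟨MvPowerSeries (Fin n) Λ, inferInstance, inferInstance, inferInstance, inferInstance,
        inferInstance, inferInstance, hJA⟩
    have hL : HasJ0Model (MvPowerSeries (Fin n) Λ) (FractionRing B) := by
      apply hasJ0Model_of_fin (MvPowerSeries (Fin n) Λ) q (FractionRing B) S.card
        (FractionRing (MvPowerSeries (Fin n) Λ)) (fun i => (S.equivFin.symm i : FractionRing B))
        _ hK₀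
      rw [← hS]
      congr 1
      ext y
      constructor
      · rintro ⟨i, rfl⟩
        exact (S.equivFin.symm i).2
      · intro hy
        exact ⟨S.equivFin ⟨y, hy⟩, by simp⟩
    exact j0_of_hasJ0Model (MvPowerSeries (Fin n) Λ) B (FractionRing B) hL

theorem main2622 : EGA4.IsJ2 R := by
  intro S _ _ hft
  haveI := hft
  haveI : IsNoetherianRing S := Algebra.FiniteType.isNoetherianRing R S
  apply Groth.Agent.Lib.NagataCritH3.isOpen_regLocus_of_nagata
  intro P _
  haveI : IsDomain (S ⧸ P.asIdeal) := Ideal.Quotient.isDomain _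
  haveI : Algebra.FiniteType R (S ⧸ P.asIdeal) :=
    Algebra.FiniteType.of_surjective (Ideal.Quotient.mkₐ R _) (Ideal.Quotient.mkₐ_surjective R _)
  exact j0_of_finiteType_domain R (S ⧸ P.asIdeal)

theorem main2621 : IsOpen (EGA4.regLocus R) := main2622 R R inferInstance

end Main

end Groth.Agent.Lib.J0CompleteH3
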