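import Mathlib
import Groth.Prelude.Def_EGA4b
import Groth.Agent.Lib.J0Complete_helper3
import Groth.Agent.Lib.GRingComplete_helper3
import Groth.Agent.Lib.CohenStruct_helper3
import Groth.Agent.Lib.FlatCM2_helper9
import Groth.Agent.Lib.Serre2_helper5
import Groth.Agent.Lib.RegFlat2_helper3
import Groth.Agent.Lib.AnUnram_helper3
import Groth.Agent.S9126

/-!
# Complete Noetherian local rings are excellent; openness of the regular locus of a local ring
with regular completion map (helper3)
APPEND-ONLY once landed.
-/

set_option autoImplicit false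
set_option maxSynthPendingDepth 3

namespace Groth.Agent.Lib.ExcCompleteH3

universe u

open PrimeSpectrum TensorProduct IsLocalRing

section Exc

variable (R : Type u) [CommRing R] [IsLocalRing R] [IsNoetherianRing R]
  [IsAdicComplete (maximalIdeal R) R]

theorem isUniversallyCatenary_of_complete : CAlg.IsUniversallyCatenary R := by
  obtain ⟨Λ, _, n, f, hΛ, hsurj⟩ :=
    Groth.Agent.Lib.CohenStructH3.exists_surjective_of_complete R
      (IsNoetherian.noetherian (maximalIdeal R))
  have key : ∃ (_ : IsDomain Λ), IsRegularLocalRing Λ := by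
    rcases hΛ with hfield | ⟨hd, hdvr, -, q, hq, hm⟩
    · letI := hfield.toField
      exact ⟨inferInstance, inferInstance⟩
    · haveI := hd
      haveI := hdvr
      exact ⟨hd, inferInstance⟩
  obtain ⟨hd, hreg⟩ := key
  haveI := hd
  haveI := hreg
  haveI := Groth.Agent.Lib.GRingBaseH3.isRegularRing_mvPowerSeries Λ n
  haveI : IsNoetherianRing (MvPowerSeries (Fin n) Λ) := inferInstance
  haveI : LocCoh.IsCohenMacaulayRing (MvPowerSeries (Fin n) Λ) :=
    Groth.Agent.FlatCM.isCMRing_of_isRegularRing _
  have hP : CAlg.IsUniversallyCatenary (MvPowerSeries (Fin n) Λ) :=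
    Groth.Agent.FlatCM.isUniversallyCatenary_of_isCMRing _
  letI : Algebra (MvPowerSeries (Fin n) Λ) R := f.toAlgebra
  haveI : Algebra.FiniteType (MvPowerSeries (Fin n) Λ) R :=
    Algebra.FiniteType.of_surjective (Algebra.ofId _ _) hsurj
  exact Groth.Agent.S9126.result _ R hP

theorem main2652 : EGA4.IsExcellent R :=
  ⟨inferInstance, isUniversallyCatenary_of_complete R,
    Groth.Agent.Lib.GRingCompleteH3.isGRing_of_complete R,
    Groth.Agent.Lib.J0CompleteH3.main2622 R⟩

end Exc

section Open

variable (A : Type u) [CommRing A] [IsNoetherianRing A] [IsLocalRing A]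

theorem main2701 (hA : CAlg.IsRegularHom A (EGA4.Cpl A)) : IsOpen (EGA4.regLocus A) := by
  obtain ⟨hloc, hnoeth, hcompl, hff, hlh, hmap⟩ := AnUnramH3.completion_facts A
  haveI := hloc
  haveI := hnoeth
  haveI := hcompl
  haveI := hff
  haveI : Module.Flat A (EGA4.Cpl A) := hA.1
  have hopen : IsOpen (EGA4.regLocus (EGA4.Cpl A)) :=
    Groth.Agent.Lib.J0CompleteH3.main2621 (EGA4.Cpl A)
  have hpre : PrimeSpectrum.comap (algebraMap A (EGA4.Cpl A)) ⁻¹' EGA4.regLocus A =
      EGA4.regLocus (EGA4.Cpl A) := by
    ext Q
    show IsRegularLocalRing (Localization.AtPrime (Q.asIdeal.under A)) ↔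
      IsRegularLocalRing (Localization.AtPrime Q.asIdeal)
    constructor
    · intro h
      haveI := h
      haveI : IsRegularRing ((Q.asIdeal.under A).Fiber (EGA4.Cpl A)) :=
        Groth.Agent.Lib.RegFlatH3.isRegularRing_of_isGeometricallyRegular _ _
          (hA.2 (Q.asIdeal.under A)).2
      exact Groth.Agent.Lib.RegFlat2H3.isRegularLocalRing_of_flat_of_fiber_at A (EGA4.Cpl A)
        Q.asIdeal
    · intro h
      haveI := h
      haveI : Q.asIdeal.LiesOver (Q.asIdeal.under A) := ⟨rfl⟩
      letI := Localization.AtPrime.algebraOfLiesOver (Q.asIdeal.under A) Q.asIdeal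
      haveI : IsLocalHom (algebraMap (Localization.AtPrime (Q.asIdeal.under A))
          (Localization.AtPrime Q.asIdeal)) := by
        rw [RingHom.algebraMap_toAlgebra]
        exact Localization.isLocalHom_localRingHom (Q.asIdeal.under A) Q.asIdeal
          (algebraMap A (EGA4.Cpl A)) Ideal.LiesOver.over
      haveI : IsNoetherianRing (Localization.AtPrime (Q.asIdeal.under A)) :=
        IsLocalization.isNoetherianRing (Q.asIdeal.under A).primeCompl _ inferInstance
      exact Groth.Agent.Serre.regular_of_flat_local (Localization.AtPrime (Q.asIdeal.under A))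
        (Localization.AtPrime Q.asIdeal)
  have hq : Topology.IsQuotientMap (PrimeSpectrum.comap (algebraMap A (EGA4.Cpl A))) :=
    PrimeSpectrum.isQuotientMap_of_generalizingMap
      (PrimeSpectrum.comap_surjective_of_faithfullyFlat)
      (RingHom.Flat.generalizingMap_comap
        (RingHom.flat_algebraMap_iff.2 inferInstance))
  rw [← hq.isOpen_preimage, hpre]
  exact hopen

end Open

end Groth.Agent.Lib.ExcCompleteH3
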