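import Mathlib
import Groth.Prelude.Def_EGA4b
import Groth.Prelude.Def_CAlg
import Groth.Prelude.Def_EGA4c
import Groth.Agent.Lib.CohPush_helper6
import Groth.Agent.Lib.LocCohFlatBC_helper7
import Groth.Agent.Lib.ExcComplete_helper3
import Groth.Agent.Lib.AnUnram_helper3

/-!
# Coherence of `i_*(M~|U)` on the punctured spectrum of a Noetherian local ring, via the completion
(helper5, S2725 = EGA IV 5.11.x / 7.2.x)

`IsCoherentPushCompl A J M ↔ FD J M ↔ H¹_J(M) finite` (helper6), flat base change of local cohomology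
(helper7) plus faithfully flat descent of finiteness reduces to the completion, which is universally
catenary and Nagata (helper3), where the criterion of S2723 (sufficiency) and ZClosed5 (necessity)
applies.
APPEND-ONLY once landed.
-/

set_option autoImplicit false
universe u

namespace Groth.Agent.Lib.CplPushH5

open TensorProduct IsLocalRing Groth.Agent.Lib.FinH1Ass_helper6 Groth.Agent.Lib.CohPush_helper6

section FlatDescent

variable {R : Type u} [CommRing R] [IsNoetherianRing R] (R' : Type u) [CommRing R']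
  [IsNoetherianRing R'] [Algebra R R'] [Module.FaithfullyFlat R R'] (I : Ideal R)
  (M : Type u) [AddCommGroup M] [Module R M] [Module.Finite R M]

/-- Finiteness of the ideal transform descends and ascends along a faithfully flat map of Noetherian
rings. -/
theorem FD_iff_baseChange : FD I M ↔ FD (I.map (algebraMap R R')) (R' ⊗[R] M) := by
  rw [FD_iff_finite_H1 I M, FD_iff_finite_H1 (I.map (algebraMap R R')) (R' ⊗[R] M)]
  obtain ⟨e⟩ := Groth.Agent.Lib.LocCohFlatBCH7.main R' I 1 M
  constructor
  · intro h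
    haveI := h
    exact Module.Finite.equiv e
  · intro h
    haveI := h
    haveI : Module.Finite R' (R' ⊗[R] LocCoh.H I 1 M) := Module.Finite.equiv e.symm
    exact Module.Finite.of_finite_tensorProduct_of_faithfullyFlat R'

end FlatDescent

section Local

variable (B : Type u) [CommRing B] [IsLocalRing B]

/-- In a local ring, the image of the maximal ideal in a quotient by a prime has height the
dimension of the quotient. -/
theorem height_map_maximalIdeal (p : Ideal B) [p.IsPrime] :
    (((maximalIdeal B).map (Ideal.Quotient.mk p)).height : WithBot ℕ∞) = ringKrullDim (B ⧸ p) := by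
  haveI : Nontrivial (B ⧸ p) := Ideal.Quotient.nontrivial_iff.2 Ideal.IsPrime.ne_top'
  haveI : IsLocalRing (B ⧸ p) :=
    IsLocalRing.of_surjective' (Ideal.Quotient.mk p) Ideal.Quotient.mk_surjective
  have h : (maximalIdeal B).map (Ideal.Quotient.mk p) = maximalIdeal (B ⧸ p) := by
    apply le_antisymm
    · rw [Ideal.map_le_iff_le_comap]
      intro x hx
      rw [Ideal.mem_comap, mem_maximalIdeal, mem_nonunits_iff]
      intro hu
      have hx' : x ∈ nonunits B := hx
      haveI : IsLocalHom (Ideal.Quotient.mk p) :=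
        IsLocalHom.of_surjective _ Ideal.Quotient.mk_surjective
      exact hx' (isUnit_of_map_unit (Ideal.Quotient.mk p) x hu)
    · intro y hy
      obtain ⟨x, rfl⟩ := Ideal.Quotient.mk_surjective y
      refine Ideal.mem_map_of_mem _ ?_
      rw [mem_maximalIdeal, mem_nonunits_iff]
      intro hu
      exact hy (hu.map (Ideal.Quotient.mk p))
  rw [h, IsLocalRing.maximalIdeal_height_eq_ringKrullDim]

theorem two_le_coe_iff (x : ℕ∞) : (2 : WithBot ℕ∞) ≤ (x : WithBot ℕ∞) ↔ (2 : ℕ∞) ≤ x := by
  have h : ((2 : ℕ∞) : WithBot ℕ∞) = 2 := rfl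
  rw [← h, WithBot.coe_le_coe]

theorem not_maximalIdeal_le_iff (p : Ideal B) [p.IsPrime] :
    ¬ maximalIdeal B ≤ p ↔ p ≠ maximalIdeal B := by
  constructor
  · intro h he
    exact h (le_of_eq he.symm)
  · intro h hle
    exact h (le_antisymm (IsLocalRing.le_maximalIdeal Ideal.IsPrime.ne_top') hle)

end Local

section Main

variable (A : Type u) [CommRing A] [IsNoetherianRing A] [IsLocalRing A]
  (M : Type u) [AddCommGroup M] [Module A M] [Module.Finite A M]

/-- S2725 without the domain hypothesis. -/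
theorem main2725 :
    EGA4.IsCoherentPushCompl A (maximalIdeal A) M ↔
      ∀ p' ∈ associatedPrimes (EGA4.Cpl A) ((EGA4.Cpl A) ⊗[A] M),
        p' ≠ maximalIdeal (EGA4.Cpl A) → (2 : WithBot ℕ∞) ≤ ringKrullDim (EGA4.Cpl A ⧸ p') := by
  obtain ⟨hloc, hnoeth, hcomp, hff, hlh, hmap⟩ := Groth.Agent.Lib.AnUnramH3.completion_facts A
  haveI := hloc
  haveI := hnoeth
  haveI := hcomp
  haveI := hff
  have hNag := Groth.Agent.Lib.AnUnramH3.isNagata_completion A
  have hUC : CAlg.IsUniversallyCatenary (EGA4.Cpl A) :=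
    Groth.Agent.Lib.ExcCompleteH3.isUniversallyCatenary_of_complete (EGA4.Cpl A)
  rw [isCoherentPushCompl_iff_FD, FD_iff_baseChange (EGA4.Cpl A) (maximalIdeal A) M, hmap]
  constructor
  · intro h p' hp' hne
    haveI hpp : p'.IsPrime := IsAssociatedPrime.isPrime hp'
    have h1 := Groth.Agent.Lib.ZClosed5H3.main (EGA4.Cpl A) (maximalIdeal (EGA4.Cpl A))
      ((EGA4.Cpl A) ⊗[A] M)
      ((isCoherentPushCompl_iff_FD (EGA4.Cpl A) _ _).2 h) p' hp'
      ((not_maximalIdeal_le_iff (EGA4.Cpl A) p').2 hne)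
    rw [← height_map_maximalIdeal (EGA4.Cpl A) p']
    exact (two_le_coe_iff _).2 h1
  · intro h
    refine FD_of_ass _ fun p' hp' => ?_
    haveI hpp : p'.IsPrime := IsAssociatedPrime.isPrime hp'
    by_cases hJp : maximalIdeal (EGA4.Cpl A) ≤ p'
    · exact FD_quot_of_le _ p' hJp
    · have hN2 : CAlg.IsN2 (EGA4.Cpl A ⧸ p') := hNag.2 p'
      have hN1 := Groth.Agent.Lib.AnUnramH3.isN1_of_isN2 (EGA4.Cpl A ⧸ p') hN2
      have h2 := h p' hp' ((not_maximalIdeal_le_iff (EGA4.Cpl A) p').1 hJp)
      rw [← height_map_maximalIdeal (EGA4.Cpl A) p'] at h2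
      have h2' : (2 : ℕ∞) ≤ ((maximalIdeal (EGA4.Cpl A)).map
          (algebraMap (EGA4.Cpl A) (EGA4.Cpl A ⧸ p'))).height := (two_le_coe_iff _).1 h2
      exact (FD_iff_finite_H1 _ (EGA4.Cpl A ⧸ p')).2
        (finite_H1_quot (EGA4.Cpl A) hUC _ p' hN1 hJp h2')

end Main

end Groth.Agent.Lib.CplPushH5
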