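import Mathlib
import Groth.Prelude.Def_CAlg
import Groth.Agent.Lib.DepthRefl_helper5
import Groth.Agent.Lib.AssFlat_helper5

/-!
# `(S_1)` fibres and embedded primes (helper5, for S1756)

* `mem_minimalPrimes_of_hasS1`: in a Noetherian ring with `(S_1)` every associated prime is minimal.
* `mem_minimalPrimes_of_S1_fibre`: for a flat map `R → S` of Noetherian rings and a prime `p` of `R`
  whose fibre ring `κ(p) ⊗ S` is `(S_1)`, every associated prime of `S ⊗ R/p` is a minimal prime of
  `pS`.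
APPEND-ONLY once landed.
-/

set_option autoImplicit false
universe u

namespace Groth.Agent.Lib.FFS1H5

open TensorProduct Groth.Agent.DepthLib Groth.Agent.AssFlat

/-- under `(S_1)` every associated prime of a Noetherian ring is minimal -/
theorem mem_minimalPrimes_of_hasS1 {R : Type u} [CommRing R] [IsNoetherianRing R]
    (hS : LocCoh.HasSk 1 R R) (Q : Ideal R) (hQ : Q ∈ associatedPrimes R R) :
    Q ∈ minimalPrimes R := by
  haveI := hQ.isPrime
  have h0 := (not_one_le_depth_localization_iff R Q).2 hQ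
  have h1 := hS Q
  rw [supportDim_locSelf] at h1
  have hht : Q.height = 0 := by
    by_contra hh
    have h1' : 1 ≤ Q.height := Order.one_le_iff_ne_zero.2 hh
    apply h0
    have h2 : ((1 : ℕ∞) : WithBot ℕ∞) ≤ min ((1 : ℕ) : WithBot ℕ∞) (Q.height : WithBot ℕ∞) := by
      apply le_min
      · exact le_of_eq rfl
      · exact WithBot.coe_le_coe.2 h1'
    exact WithBot.coe_le_coe.1 (le_trans h2 h1)
  exact Ideal.height_eq_zero_iff.1 hht

section Fibre

variable {R S : Type u} [CommRing R] [CommRing S] [Algebra R S] (p : Ideal R) [p.IsPrime]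

/-- the fibre ring of a Noetherian algebra is Noetherian -/
theorem isNoetherianRing_fiber [IsNoetherianRing S] : IsNoetherianRing (p.Fiber S) := by
  haveI : IsNoetherianRing (S ⊗[R] p.ResidueField) := Algebra.EssFiniteType.isNoetherianRing S _
  exact isNoetherianRing_of_ringEquiv (S ⊗[R] p.ResidueField)
    (Algebra.TensorProduct.comm R S p.ResidueField).toRingEquiv

/-- the `R`-linear inclusion `R/p → κ(p)` -/
noncomputable def quotToResidue : (R ⧸ p) →ₗ[R] p.ResidueField :=
  (IsScalarTower.toAlgHom R (R ⧸ p) p.ResidueField).toLinearMap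

theorem quotToResidue_one : quotToResidue p 1 = 1 := by
  simp [quotToResidue]

theorem quotToResidue_injective : Function.Injective (quotToResidue p) :=
  Ideal.injective_algebraMap_quotient_residueField p

/-- `w ⊗ 1 = 0` in `S ⊗ R/p` forces `1 ⊗ w = 0` in the fibre -/
theorem fibre_tmul_eq_zero (w : S) (h : w ⊗ₜ[R] (1 : R ⧸ p) = 0) :
    (1 : p.ResidueField) ⊗ₜ[R] w = 0 := by
  have h1 := congrArg ((quotToResidue p).lTensor S) h
  rw [LinearMap.lTensor_tmul, quotToResidue_one, map_zero] at h1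
  have h2 := congrArg (TensorProduct.comm R S p.ResidueField) h1
  rwa [TensorProduct.comm_tmul, map_zero] at h2

/-- `1 ⊗ w = 0` in the fibre forces `w ⊗ 1 = 0` in `S ⊗ R/p` (flatness) -/
theorem tmul_one_eq_zero_of_fibre [Module.Flat R S] (w : S)
    (h : (1 : p.ResidueField) ⊗ₜ[R] w = 0) : w ⊗ₜ[R] (1 : R ⧸ p) = 0 := by
  have hinj : Function.Injective ((quotToResidue p).lTensor S) :=
    Module.Flat.lTensor_preserves_injective_linearMap _ (quotToResidue_injective p)
  apply hinj
  rw [LinearMap.lTensor_tmul, quotToResidue_one, map_zero]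
  have h2 := congrArg (TensorProduct.comm R p.ResidueField S) h
  rwa [TensorProduct.comm_tmul, map_zero] at h2

/-- elements of `R` outside `p` act injectively on the fibre -/
theorem smul_fibre_injective (r : R) (hr : r ∉ p) (y : p.Fiber S) (h : r • y = 0) : y = 0 := by
  have hu : IsUnit (algebraMap R p.ResidueField r) := by
    rw [isUnit_iff_ne_zero]
    intro h0
    exact hr ((Ideal.algebraMap_residueField_eq_zero).1 h0)
  obtain ⟨u, hu⟩ := hu
  have h1 : (algebraMap R p.ResidueField r) • y = 0 := by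
    rw [algebraMap_smul]; exact h
  rw [← hu] at h1
  have h2 : (u⁻¹ : p.ResidueFieldˣ) • (u • y) = 0 := by
    have : (u : p.ResidueField) • y = 0 := h1
    rw [Units.smul_def, Units.smul_def, this, smul_zero]
  rwa [inv_smul_smul] at h2

/-- Key lemma: for a flat map `R → S` of Noetherian rings and a prime `p` of `R` whose fibre ring is
`(S_1)`, every associated prime of `S ⊗ R/p` is a minimal prime of `pS`. -/
theorem mem_minimalPrimes_of_S1_fibre [IsNoetherianRing R] [IsNoetherianRing S] [Module.Flat R S]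
    (hS : LocCoh.HasSk 1 (p.Fiber S) (p.Fiber S)) (P : Ideal S)
    (hP : P ∈ associatedPrimes S (S ⊗[R] (R ⧸ p))) :
    P ∈ (p.map (algebraMap R S)).minimalPrimes := by
  haveI hFn : IsNoetherianRing (p.Fiber S) := isNoetherianRing_fiber p
  have hcomap : P.comap (algebraMap R S) = p := comap_eq_of_mem_associatedPrimes_quot p P hP
  obtain ⟨hPprime, z', hz'⟩ := (isAssociatedPrime_iff).1 hP
  haveI := hPprime
  obtain ⟨z, rfl⟩ := toTensorQuot_surjective (S := S) (N := S) p z'
  rw [toTensorQuot_apply] at hz'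
  have hmemP : ∀ s : S, s ∈ P ↔ (s * z) ⊗ₜ[R] (1 : R ⧸ p) = 0 := by
    intro s
    rw [hz', Submodule.mem_colon_singleton, Submodule.mem_bot, TensorProduct.smul_tmul',
      smul_eq_mul]
  have hPover : P.LiesOver p := ⟨hcomap.symm⟩
  -- the prime of the fibre
  set e := PrimeSpectrum.primesOverOrderIsoFiber R S p with he
  set Q := e ⟨P, hPprime, hPover⟩ with hQ
  have hQcomap : Q.asIdeal.comap Algebra.TensorProduct.includeRight = P := by
    have := PrimeSpectrum.coe_primesOverOrderIsoFiber_symm_apply (R := R) (S := S) (p := p) Q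
    rw [← this, hQ, OrderIso.symm_apply_apply]
  have hmemQ : ∀ s : S, (1 : p.ResidueField) ⊗ₜ[R] s ∈ Q.asIdeal ↔ s ∈ P := by
    intro s
    rw [← hQcomap, Ideal.mem_comap]
    rfl
  -- the element `x = 1 ⊗ z` is nonzero and killed by `Q`
  have hx0 : (1 : p.ResidueField) ⊗ₜ[R] z ≠ 0 := by
    intro h0
    have h1 := tmul_one_eq_zero_of_fibre p z h0
    apply hPprime.ne_top
    rw [Ideal.eq_top_iff_one, hmemP, one_mul]
    exact h1
  have hQx : Q.asIdeal ≤ (⊥ : Submodule (p.Fiber S) (p.Fiber S)).colon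
      {(1 : p.ResidueField) ⊗ₜ[R] z} := by
    intro f hf
    rw [Submodule.mem_colon_singleton, Submodule.mem_bot, smul_eq_mul]
    obtain ⟨r, hr, s, hrs⟩ := Ideal.Fiber.exists_smul_eq_one_tmul p f
    have hsQ : (1 : p.ResidueField) ⊗ₜ[R] s ∈ Q.asIdeal := by
      rw [← hrs]
      exact Q.asIdeal.smul_of_tower_mem r hf
    have hsP : s ∈ P := (hmemQ s).1 hsQ
    have h1 : (1 : p.ResidueField) ⊗ₜ[R] (s * z) = 0 :=
      fibre_tmul_eq_zero p (s * z) ((hmemP s).1 hsP)
    apply smul_fibre_injective p r hr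
    rw [← smul_mul_assoc, hrs, Algebra.TensorProduct.tmul_mul_tmul, one_mul]
    exact h1
  obtain ⟨Q₂, hQ₂ass, hQ₂⟩ := exists_le_isAssociatedPrime_of_isNoetherianRing (p.Fiber S) _ hx0
  have hQ₂min : Q₂ ∈ minimalPrimes (p.Fiber S) := mem_minimalPrimes_of_hasS1 hS Q₂ hQ₂ass
  have hQQ₂ : Q.asIdeal ≤ Q₂ := hQx.trans hQ₂
  have hQeq : Q.asIdeal = Q₂ := le_antisymm hQQ₂ (hQ₂min.2 ⟨Q.isPrime, bot_le⟩ hQQ₂)
  have hQmin : Q.asIdeal ∈ minimalPrimes (p.Fiber S) := hQeq ▸ hQ₂min
  -- now minimality of `P`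
  refine ⟨⟨hPprime, ?_⟩, ?_⟩
  · rw [Ideal.map_le_iff_le_comap, hcomap]
  · rintro P' ⟨hP'prime, hP'le⟩ hP'P
    have hP'comap : P'.comap (algebraMap R S) = p := by
      apply le_antisymm
      · rw [← hcomap]
        exact Ideal.comap_mono hP'P
      · rw [← Ideal.map_le_iff_le_comap]
        exact hP'le
    have hP'over : P'.LiesOver p := ⟨hP'comap.symm⟩
    set Q' := e ⟨P', hP'prime, hP'over⟩ with hQ'
    have hle : Q' ≤ Q := e.monotone (show (⟨P', hP'prime, hP'over⟩ : p.primesOver S) ≤
      ⟨P, hPprime, hPover⟩ from hP'P)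
    have hge : Q ≤ Q' := hQmin.2 ⟨Q'.isPrime, bot_le⟩ hle
    have := (e.le_iff_le).1 hge
    exact this

end Fibre

end Groth.Agent.Lib.FFS1H5
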