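import Mathlib
import Groth.Prelude.Def_CAlg
import Groth.Prelude.Def_EGA4b
import Groth.Prelude.Def_Found
import Groth.Agent.Lib.FSNilp_helper3
import Groth.Agent.Lib.EquidimCat_helper5
import Groth.Agent.Lib.Ratliff3_helper3
import Groth.Agent.Lib.HullSE4_helper5

set_option autoImplicit false
universe u
open IsLocalRing TensorProduct

namespace Groth.Agent.Lib.CutCplH5

section Heights

variable {R S : Type u} [CommRing R] [CommRing S] [Algebra R S]

/-- the image of a prime in a quotient is prime -/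
theorem isPrime_map_mk (I Q : Ideal S) [Q.IsPrime] (h : I ≤ Q) :
    (Q.map (Ideal.Quotient.mk I)).IsPrime :=
  Ideal.map_isPrime_of_surjective Ideal.Quotient.mk_surjective (by rw [Ideal.mk_ker]; exact h)

theorem comap_map_mk (I Q : Ideal S) (h : I ≤ Q) :
    (Q.map (Ideal.Quotient.mk I)).comap (Ideal.Quotient.mk I) = Q := by
  rw [Ideal.comap_map_of_surjective _ Ideal.Quotient.mk_surjective, ← RingHom.ker_eq_comap_bot,
    Ideal.mk_ker, sup_of_le_left h]

/-- height zero for the image of a minimal prime -/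
theorem height_map_mk_eq_zero (J Q : Ideal S) (hQ : Q ∈ J.minimalPrimes) :
    (Q.map (Ideal.Quotient.mk J)).height = 0 := by
  haveI := hQ.1.1
  haveI := isPrime_map_mk J Q hQ.1.2
  rw [Ideal.height_eq_zero_iff]
  have h1 := Ideal.comap_minimalPrimes_eq_of_surjective
    (f := Ideal.Quotient.mk J) Ideal.Quotient.mk_surjective ⊥
  have h2 : (⊥ : Ideal (S ⧸ J)).comap (Ideal.Quotient.mk J) = J := by
    rw [← RingHom.ker_eq_comap_bot, Ideal.mk_ker]
  rw [h2] at h1
  rw [h1] at hQ
  obtain ⟨P, hP, hPQ⟩ := hQ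
  rw [← hPQ, Ideal.map_comap_of_surjective _ Ideal.Quotient.mk_surjective]
  exact hP

/-- the quotient primes lie over each other -/
theorem liesOver_map_mk (P Q : Ideal R) [P.IsPrime] [Q.IsPrime] (hPQ : P ≤ Q)
    (P' Q' : Ideal S) [P'.IsPrime] [Q'.IsPrime] (hPQ' : P' ≤ Q')
    [P'.LiesOver P] (hQ : Q'.comap (algebraMap R S) = Q) :
    (Q'.map (Ideal.Quotient.mk P')).LiesOver (Q.map (Ideal.Quotient.mk P)) := by
  refine ⟨?_⟩
  ext x
  obtain ⟨a, rfl⟩ := Ideal.Quotient.mk_surjective x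
  rw [Ideal.mem_quotient_iff_mem hPQ, Ideal.under_def, Ideal.mem_comap,
    Ideal.Quotient.algebraMap_mk_of_liesOver, Ideal.mem_quotient_iff_mem hPQ', ← hQ,
    Ideal.mem_comap]

variable [IsNoetherianRing R] [IsNoetherianRing S]

/-- **height inequality at a minimal prime of the extension**: if `q'` is minimal over `qS` then
`ht (q'/p') ≤ ht (q/p)` -/
theorem height_quot_le_of_minimal (P Q : Ideal R) [P.IsPrime] [Q.IsPrime] (hPQ : P ≤ Q)
    (P' Q' : Ideal S) [P'.IsPrime] [Q'.IsPrime] (hPQ' : P' ≤ Q')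
    (hP : P'.comap (algebraMap R S) = P) (hQ : Q'.comap (algebraMap R S) = Q)
    (hmin : Q' ∈ (Q.map (algebraMap R S)).minimalPrimes) :
    (Q'.map (Ideal.Quotient.mk P')).height ≤ (Q.map (Ideal.Quotient.mk P)).height := by
  haveI : P'.LiesOver P := ⟨hP.symm⟩
  haveI hQbar : (Q.map (Ideal.Quotient.mk P)).IsPrime := isPrime_map_mk P Q hPQ
  haveI hQbar' : (Q'.map (Ideal.Quotient.mk P')).IsPrime := isPrime_map_mk P' Q' hPQ'
  haveI := liesOver_map_mk P Q hPQ P' Q' hPQ' hQ
  have h1 := Ideal.height_le_height_add_of_liesOver (Q.map (Ideal.Quotient.mk P))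
    (Q'.map (Ideal.Quotient.mk P'))
  have h2 : ((Q'.map (Ideal.Quotient.mk P')).map (Ideal.Quotient.mk
      ((Q.map (Ideal.Quotient.mk P)).map (algebraMap (R ⧸ P) (S ⧸ P'))))).height = 0 := by
    apply height_map_mk_eq_zero
    refine ⟨⟨hQbar', ?_⟩, ?_⟩
    · rw [Ideal.map_le_iff_le_comap]
      exact (Ideal.LiesOver.over (p := Q.map (Ideal.Quotient.mk P))
        (P := Q'.map (Ideal.Quotient.mk P'))).le
    · intro T ⟨hT, hJT⟩ hTQ
      haveI := hT
      -- pull back to `S`
      have h3 : Q.map (algebraMap R S) ≤ T.comap (Ideal.Quotient.mk P') := by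
        rw [Ideal.map_le_iff_le_comap]
        intro a ha
        rw [Ideal.mem_comap, Ideal.mem_comap]
        apply hJT
        have : Ideal.Quotient.mk P' (algebraMap R S a) =
            algebraMap (R ⧸ P) (S ⧸ P') (Ideal.Quotient.mk P a) :=
          (Ideal.Quotient.algebraMap_mk_of_liesOver P' P a).symm
        rw [this]
        exact Ideal.mem_map_of_mem _ (Ideal.mem_map_of_mem _ ha)
      have h4 : T.comap (Ideal.Quotient.mk P') ≤ Q' := by
        have := Ideal.comap_mono (f := Ideal.Quotient.mk P') hTQ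
        rwa [comap_map_mk P' Q' hPQ'] at this
      have h5 : Q' ≤ T.comap (Ideal.Quotient.mk P') :=
        hmin.2 ⟨Ideal.comap_isPrime _ _, h3⟩ h4
      have h6 := Ideal.map_mono (f := Ideal.Quotient.mk P') h5
      rwa [Ideal.map_comap_of_surjective _ Ideal.Quotient.mk_surjective] at h6
  rw [h2, add_zero] at h1
  exact h1

/-- **going down**: for a flat map, `ht (q/p) ≤ ht (q'/pS)` -/
theorem height_quot_le_of_flat [Module.Flat R S] (P' Q' : Ideal S) [P'.IsPrime] [Q'.IsPrime]
    (hPQ' : P' ≤ Q') :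
    ((Q'.comap (algebraMap R S)).map (Ideal.Quotient.mk (P'.comap (algebraMap R S)))).height ≤
      (Q'.map (Ideal.Quotient.mk ((P'.comap (algebraMap R S)).map (algebraMap R S)))).height := by
  set P := P'.comap (algebraMap R S) with hP
  set Q := Q'.comap (algebraMap R S) with hQ
  have hPQ : P ≤ Q := Ideal.comap_mono hPQ'
  have hJ : P.map (algebraMap R S) ≤ Q' := Ideal.map_comap_le.trans hPQ'
  haveI : Module.Flat (R ⧸ P) (S ⧸ P.map (algebraMap R S)) :=
    Groth.Agent.Lib.FSNilpH3.flat_quot P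
  haveI hQbar : (Q.map (Ideal.Quotient.mk P)).IsPrime := isPrime_map_mk P Q hPQ
  haveI hQbar' : (Q'.map (Ideal.Quotient.mk (P.map (algebraMap R S)))).IsPrime :=
    isPrime_map_mk _ Q' hJ
  haveI : (Q'.map (Ideal.Quotient.mk (P.map (algebraMap R S)))).LiesOver
      (Q.map (Ideal.Quotient.mk P)) := by
    refine ⟨?_⟩
    ext x
    obtain ⟨a, rfl⟩ := Ideal.Quotient.mk_surjective x
    rw [Ideal.mem_quotient_iff_mem hPQ, Ideal.under_def]
    change a ∈ Q ↔ algebraMap (R ⧸ P) (S ⧸ P.map (algebraMap R S)) (Ideal.Quotient.mk P a) ∈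
      Q'.map (Ideal.Quotient.mk (P.map (algebraMap R S)))
    have : algebraMap (R ⧸ P) (S ⧸ P.map (algebraMap R S)) (Ideal.Quotient.mk P a) =
        Ideal.Quotient.mk _ (algebraMap R S a) := rfl
    rw [this, Ideal.mem_quotient_iff_mem hJ]
    rfl
  have h1 := Ideal.height_eq_height_add_of_liesOver_of_hasGoingDown
    (Q.map (Ideal.Quotient.mk P)) (Q'.map (Ideal.Quotient.mk (P.map (algebraMap R S))))
  rw [h1]
  exact le_self_add

end Heights

section CatEq

variable {C : Type u} [CommRing C] [IsLocalRing C] [IsNoetherianRing C]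

/-- in an equidimensional catenary Noetherian local ring, `ht P + ht (Q/P) = ht Q` -/
theorem height_add_height_quot (hc : CAlg.IsCatenary C) (he : EGA4.IsEquidim C)
    (P Q : Ideal C) [hP : P.IsPrime] [hQ : Q.IsPrime] (hPQ : P ≤ Q) :
    P.height + (Q.map (Ideal.Quotient.mk P)).height = Q.height := by
  obtain ⟨d, hd⟩ := Groth.Agent.Lib.HullSEH5.exists_nat_dim C
  have h1 := Groth.Agent.EquidimCat.height_add_coheight hc he ⟨P, hP⟩
  have h2 := Groth.Agent.EquidimCat.height_add_coheight hc he ⟨Q, hQ⟩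
  have h3 := Groth.Agent.Lib.RatliffH3.height_map_add_dim_quot hc P Q hPQ
  rw [Groth.Agent.EquidimCat.ringKrullDim_quotient_eq_coheight' P,
    Groth.Agent.EquidimCat.ringKrullDim_quotient_eq_coheight' Q, ← WithBot.coe_add,
    WithBot.coe_eq_coe] at h3
  rw [hd, WithBot.coe_eq_coe] at h1 h2
  have hcQ : Order.coheight (⟨Q, hQ⟩ : PrimeSpectrum C) ≠ ⊤ := by
    intro h
    rw [h, add_top] at h2
    exact ENat.top_ne_natCast _ h2
  have h4 : P.height + (Q.map (Ideal.Quotient.mk P)).height +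
      Order.coheight (⟨Q, hQ⟩ : PrimeSpectrum C) =
      Q.height + Order.coheight (⟨Q, hQ⟩ : PrimeSpectrum C) := by
    rw [add_assoc, h3, h1, h2]
  exact ENat.add_left_injective_of_ne_top hcQ h4

end CatEq

end Groth.Agent.Lib.CutCplH5
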