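import Mathlib
import Groth.Prelude.Def_CAlg
import Groth.Prelude.Def_EGA4b
import Groth.Prelude.Def_Found
import Groth.Prelude.Def_DualLC
import Groth.Agent.Lib.CutCpl1_helper5
import Groth.Agent.Lib.CutCpl2_helper5
import Groth.Agent.Lib.CutCpl3_helper5
import Groth.Agent.Lib.FaltingsCM_helper6
import Groth.Agent.Lib.FormalEquidim_helper9
import Groth.Agent.Lib.AnUnram_helper3

set_option autoImplicit false
universe u
open IsLocalRing TensorProduct

namespace Groth.Agent.Lib.CutCplH5

section Arith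

theorem cut_arith (n : ℕ) (d f e h t c : ℕ∞)
    (hSk : min (n : WithBot ℕ∞) ((t : ℕ∞) : WithBot ℕ∞) ≤ ((f : ℕ∞) : WithBot ℕ∞))
    (hF : h ≤ t + e) (he1 : 1 ≤ e) (hcut : c ≤ d + h) :
    min ((n : ℕ∞) + 1) c ≤ (d + f) + e := by
  have hk : ((n : ℕ) : WithBot ℕ∞) = (((n : ℕ∞)) : WithBot ℕ∞) := rfl
  rw [hk, ← WithBot.coe_min, WithBot.coe_le_coe] at hSk
  by_cases hnf : (n : ℕ∞) ≤ f
  · calc min ((n : ℕ∞) + 1) c ≤ (n : ℕ∞) + 1 := min_le_left _ _
      _ ≤ f + e := add_le_add hnf he1
      _ ≤ (d + f) + e := add_le_add le_add_self le_rfl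
  · have hlt : f < (n : ℕ∞) := not_le.1 hnf
    have htf : t ≤ f := by
      rcases le_total (n : ℕ∞) t with h1 | h1
      · rw [min_eq_left h1] at hSk
        exact absurd hSk hnf
      · rwa [min_eq_right h1] at hSk
    calc min ((n : ℕ∞) + 1) c ≤ c := min_le_right _ _
      _ ≤ d + h := hcut
      _ ≤ d + (t + e) := add_le_add le_rfl hF
      _ ≤ d + (f + e) := add_le_add le_rfl (add_le_add htf le_rfl)
      _ = (d + f) + e := (add_assoc _ _ _).symm

end Arith

section Main

variable (A : Type u) [CommRing A] [IsLocalRing A] [IsNoetherianRing A]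

/-- the key height inequality over the completion -/
theorem height_quot_le_cpl (hA : CAlg.IsUniversallyCatenary A)
    (hloc : IsLocalRing (AdicCompletion (maximalIdeal A) A))
    (hnoeth : IsNoetherianRing (AdicCompletion (maximalIdeal A) A))
    (hcomp : IsAdicComplete (maximalIdeal (AdicCompletion (maximalIdeal A) A))
      (AdicCompletion (maximalIdeal A) A))
    (hflat : Module.Flat A (AdicCompletion (maximalIdeal A) A))
    (P' Q' : Ideal (AdicCompletion (maximalIdeal A) A)) [P'.IsPrime] [Q'.IsPrime] (hPQ' : P' ≤ Q') :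
    ((Q'.comap (algebraMap A (AdicCompletion (maximalIdeal A) A))).map
        (Ideal.Quotient.mk (P'.comap (algebraMap A (AdicCompletion (maximalIdeal A) A))))).height ≤
      (P'.map (Ideal.Quotient.mk ((P'.comap (algebraMap A (AdicCompletion (maximalIdeal A) A))).map
        (algebraMap A (AdicCompletion (maximalIdeal A) A))))).height +
      (Q'.map (Ideal.Quotient.mk P')).height := by
  set B := AdicCompletion (maximalIdeal A) A with hB
  set p := P'.comap (algebraMap A B) with hp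
  set J := p.map (algebraMap A B) with hJ
  haveI hpp : p.IsPrime := Ideal.comap_isPrime _ _
  have hJP : J ≤ P' := Ideal.map_comap_le
  have hJQ : J ≤ Q' := hJP.trans hPQ'
  have hJtop : J ≠ ⊤ := fun h => (‹P'.IsPrime›).ne_top (top_le_iff.1 (h ▸ hJP))
  haveI : IsLocalRing (B ⧸ J) := Groth.Agent.RegularLib.isLocalRing_quotient J hJtop
  -- catenary and equidimensional
  have hcat : CAlg.IsCatenary (B ⧸ J) :=
    Groth.Agent.Lib.Catenary_helper4.isCatenary_quotient B J
      (Groth.Agent.EquiCat9.isCatenary_of_complete B)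
  haveI : Nontrivial (A ⧸ p) := Ideal.Quotient.nontrivial_iff.2 hpp.ne_top
  obtain ⟨e⟩ := Groth.Agent.EquiCat9.cpl_quot_equiv A p
  have heq0 : EGA4.IsFormallyEquidim (A ⧸ p) := Groth.Agent.Lib.RatliffH3.main9228 A hA p
  have heq : EGA4.IsEquidim (B ⧸ J) := Groth.Agent.EquiCat9.isEquidim_of_ringEquiv e.symm heq0
  haveI hP'' : (P'.map (Ideal.Quotient.mk J)).IsPrime := isPrime_map_mk J P' hJP
  haveI hQ'' : (Q'.map (Ideal.Quotient.mk J)).IsPrime := isPrime_map_mk J Q' hJQ
  have hle'' : P'.map (Ideal.Quotient.mk J) ≤ Q'.map (Ideal.Quotient.mk J) := Ideal.map_mono hPQ'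
  have hE := height_add_height_quot hcat heq (P'.map (Ideal.Quotient.mk J))
    (Q'.map (Ideal.Quotient.mk J)) hle''
  -- the double quotient
  have hdq : ((Q'.map (Ideal.Quotient.mk J)).map
      (Ideal.Quotient.mk (P'.map (Ideal.Quotient.mk J)))).height =
      (Q'.map (Ideal.Quotient.mk P')).height := by
    rw [← RingEquiv.height_map (DoubleQuot.quotQuotEquivQuotOfLE hJP)]
    congr 1
    rw [Ideal.map_map]
    have h1 : Ideal.map (↑(DoubleQuot.quotQuotEquivQuotOfLE hJP) : _ →+* _)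
        (Ideal.map ((Ideal.Quotient.mk (P'.map (Ideal.Quotient.mk J))).comp
          (Ideal.Quotient.mk J)) Q') = Ideal.map (Ideal.Quotient.mk P') Q' := by
      rw [Ideal.map_map]
      congr 1
    exact h1
  have hD2 := height_quot_le_of_flat (R := A) (S := B) P' Q' hPQ'
  rw [← hdq, hE]
  exact hD2

variable (I : Ideal A) (M : Type u) [AddCommGroup M] [Module A M] [Module.Finite A M]

/-- `s_{Â, IÂ}(M̂) ≤ s_{A, I}(M)` -/
theorem cutoff_cpl_le :
    Dual2.cutoff (AdicCompletion (maximalIdeal A) A)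
      (I.map (algebraMap A (AdicCompletion (maximalIdeal A) A)))
      (AdicCompletion (maximalIdeal A) M) ≤ Dual2.cutoff A I M := by
  obtain ⟨hloc, hnoeth, hcomp, hff, hlh, hmap⟩ := Groth.Agent.Lib.AnUnramH3.completion_facts A
  haveI := hloc
  haveI := hnoeth
  haveI := hff
  haveI : Module.Flat A (AdicCompletion (maximalIdeal A) A) := inferInstance
  set B := AdicCompletion (maximalIdeal A) A with hB
  conv_rhs => unfold Dual2.cutoff
  refine le_iInf fun p => le_iInf fun q => le_iInf fun h => le_iInf fun hIp =>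
    le_iInf fun hIq => ?_
  have hqtop : q.asIdeal.map (algebraMap A B) ≠ ⊤ := by
    intro htop
    have h1 : q.asIdeal.map (algebraMap A B) ≤ maximalIdeal B := by
      rw [← hmap]
      exact Ideal.map_mono (le_maximalIdeal q.isPrime.ne_top)
    rw [htop] at h1
    exact (maximalIdeal.isMaximal B).ne_top (top_le_iff.1 h1)
  obtain ⟨q', hq'⟩ := Ideal.nonempty_minimalPrimes hqtop
  haveI hq'p : q'.IsPrime := hq'.1.1
  have hpq' : p.asIdeal.map (algebraMap A B) ≤ q' := (Ideal.map_mono h).trans hq'.1.2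
  obtain ⟨p', hp'min, hp'le⟩ := Ideal.exists_minimalPrimes_le hpq'
  haveI hp'p : p'.IsPrime := hp'min.1.1
  haveI hp'over : p'.LiesOver p.asIdeal :=
    Groth.Agent.Lib.BootH1.liesOver_of_mem_minimalPrimes_map p.asIdeal p' hp'min
  haveI hq'over : q'.LiesOver q.asIdeal :=
    Groth.Agent.Lib.BootH1.liesOver_of_mem_minimalPrimes_map q.asIdeal q' hq'
  have hp'c : p'.comap (algebraMap A B) = p.asIdeal := hp'over.over.symm
  have hq'c : q'.comap (algebraMap A B) = q.asIdeal := hq'over.over.symm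
  have hIp' : ¬ I.map (algebraMap A B) ≤ p' := by
    intro hh
    apply hIp
    rw [← hp'c]
    exact Ideal.map_le_iff_le_comap.1 hh
  have hIq' : I.map (algebraMap A B) ≤ q' := (Ideal.map_mono hIq).trans hq'.1.2
  have hle' : (⟨p', hp'p⟩ : PrimeSpectrum B) ≤ ⟨q', hq'p⟩ := hp'le
  unfold Dual2.cutoff
  refine iInf_le_of_le (⟨p', hp'p⟩ : PrimeSpectrum B) (iInf_le_of_le (⟨q', hq'p⟩ : PrimeSpectrum B)
    (iInf_le_of_le hle' (iInf_le_of_le hIp' (iInf_le_of_le hIq' ?_))))
  refine add_le_add (le_of_eq ?_) ?_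
  · exact Groth.Agent.Lib.BootH1.depth_flat_minimal p.asIdeal p' hp'min M
      (AdicCompletion (maximalIdeal A) M) (AdicCompletion.of (maximalIdeal A) M)
      (Groth.Agent.Lib.BootH1.isBaseChange_of (maximalIdeal A) M)
  · rw [Groth.Agent.Lib.FaltingsCM_helper6.height_Ici_eq,
      Groth.Agent.Lib.FaltingsCM_helper6.height_Ici_eq]
    exact height_quot_le_of_minimal p.asIdeal q.asIdeal h p' q' hp'le hp'c hq'c hq'

/-- with `(S_n)` formal fibres, `min (n+1, s_{A,I}(M)) ≤ s_{Â, IÂ}(M̂)` -/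
theorem le_cutoff_cpl (hA : CAlg.IsUniversallyCatenary A) (n : ℕ)
    (hSn : EGA4.HasSnFormalFibres n A) :
    min ((n : ℕ∞) + 1) (Dual2.cutoff A I M) ≤
      Dual2.cutoff (AdicCompletion (maximalIdeal A) A)
        (I.map (algebraMap A (AdicCompletion (maximalIdeal A) A)))
        (AdicCompletion (maximalIdeal A) M) := by
  obtain ⟨hloc, hnoeth, hcomp, hff, hlh, hmap⟩ := Groth.Agent.Lib.AnUnramH3.completion_facts A
  haveI := hloc
  haveI := hnoeth
  haveI := hff
  haveI hflat : Module.Flat A (AdicCompletion (maximalIdeal A) A) := inferInstance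
  set B := AdicCompletion (maximalIdeal A) A with hB
  conv_rhs => unfold Dual2.cutoff
  refine le_iInf fun p' => le_iInf fun q' => le_iInf fun h' => le_iInf fun hIp' =>
    le_iInf fun hIq' => ?_
  set p : PrimeSpectrum A := ⟨p'.asIdeal.comap (algebraMap A B), inferInstance⟩ with hp
  set q : PrimeSpectrum A := ⟨q'.asIdeal.comap (algebraMap A B), inferInstance⟩ with hq
  have h : p ≤ q := Ideal.comap_mono h'
  have hIp : ¬ I ≤ p.asIdeal := fun hh => hIp' (Ideal.map_le_iff_le_comap.2 hh)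
  have hIq : I ≤ q.asIdeal := Ideal.map_le_iff_le_comap.1 hIq'
  have hcut : Dual2.cutoff A I M ≤
      LocCoh.depth (Localization.AtPrime p.asIdeal) (LocalizedModule p.asIdeal.primeCompl M) +
        Order.height (⟨q, h⟩ : Set.Ici p) := by
    unfold Dual2.cutoff
    exact iInf_le_of_le p (iInf_le_of_le q (iInf_le_of_le h (iInf_le_of_le hIp
      (iInf_le_of_le hIq le_rfl))))
  have hdepth := depth_localized_baseChange (R := A) (S := B) p'.asIdeal M
    (AdicCompletion (maximalIdeal A) M) (AdicCompletion.of (maximalIdeal A) M)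
    (Groth.Agent.Lib.BootH1.isBaseChange_of (maximalIdeal A) M)
  have hSk : Groth.Agent.FlatCM.SkLoc n (EGA4.FibLocRing A B p'.asIdeal) :=
    (Groth.Agent.FlatCM.hasSk_fiber_iff A B n p.asIdeal).1 (hSn p.asIdeal) p'.asIdeal rfl
  have hdim := ringKrullDim_fibLocRing (R := A) (S := B) p'.asIdeal
  have hF := height_quot_le_cpl A hA hloc hnoeth hcomp hflat p'.asIdeal q'.asIdeal h'
  -- `p' ≠ q'`
  have hne : q'.asIdeal.map (Ideal.Quotient.mk p'.asIdeal) ≠ ⊥ := by
    intro h0
    have h1 : q'.asIdeal ≤ p'.asIdeal := by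
      have := (Ideal.map_eq_bot_iff_le_ker (Ideal.Quotient.mk p'.asIdeal)).1 h0
      rwa [Ideal.mk_ker] at this
    exact hIp' (hIq'.trans h1)
  haveI : (q'.asIdeal.map (Ideal.Quotient.mk p'.asIdeal)).IsPrime :=
    isPrime_map_mk p'.asIdeal q'.asIdeal h'
  have he1 : (1 : ℕ∞) ≤ (q'.asIdeal.map (Ideal.Quotient.mk p'.asIdeal)).height :=
    Groth.Agent.Lib.HullSEH5.one_le_height_of_ne_bot _ hne
  rw [Groth.Agent.Lib.FaltingsCM_helper6.height_Ici_eq] at hcut ⊢
  rw [hdepth]
  unfold Groth.Agent.FlatCM.SkLoc at hSk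
  rw [hdim] at hSk
  exact cut_arith n _ _ _ _ _ _ hSk hF he1 hcut

/-- **S1725** -/
theorem main1725 (hA : CAlg.IsUniversallyCatenary A) (n : ℕ) :
    Dual2.cutoff (AdicCompletion (maximalIdeal A) A)
        (I.map (algebraMap A (AdicCompletion (maximalIdeal A) A)))
        (AdicCompletion (maximalIdeal A) M) ≤ Dual2.cutoff A I M ∧
      (EGA4.HasSnFormalFibres n A →
        min ((n : ℕ∞) + 1) (Dual2.cutoff A I M) ≤
          Dual2.cutoff (AdicCompletion (maximalIdeal A) A)
            (I.map (algebraMap A (AdicCompletion (maximalIdeal A) A)))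
            (AdicCompletion (maximalIdeal A) M)) :=
  ⟨cutoff_cpl_le A I M, le_cutoff_cpl A I M hA n⟩

end Main

end Groth.Agent.Lib.CutCplH5
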