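import Mathlib
import Groth.Prelude.Def_CAlg
import Groth.Prelude.Def_EGA4b
import Groth.Prelude.Def_Found
import Groth.Agent.Lib.CutCpl4_helper5
import Groth.Agent.Lib.Regular_helper5
import Groth.Agent.Lib.TensorSk_helper9
import Groth.Agent.Lib.FaltingsAnn_helper6
import Groth.Agent.Lib.FaltingsCM_helper6

set_option autoImplicit false
universe u

open IsLocalRing

namespace Groth.Agent.Lib.IAdicH5

open Groth.Agent.Lib.CutCplH5 Groth.Agent.FlatCM

section Heights

variable {R S : Type u} [CommRing R] [CommRing S] [Algebra R S] [IsNoetherianRing R]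
  [IsNoetherianRing S]

/-- for a flat map and `Q'` minimal over `QS`: `ht (Q'/PS) = ht (Q/P)` -/
theorem height_quot_eq_of_flat_of_minimal [Module.Flat R S] (P' Q' : Ideal S) [P'.IsPrime]
    [Q'.IsPrime] (hPQ' : P' ≤ Q')
    (hmin : Q' ∈ ((Q'.comap (algebraMap R S)).map (algebraMap R S)).minimalPrimes) :
    (Q'.map (Ideal.Quotient.mk ((P'.comap (algebraMap R S)).map (algebraMap R S)))).height =
      ((Q'.comap (algebraMap R S)).map (Ideal.Quotient.mk (P'.comap (algebraMap R S)))).height := by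
  set P := P'.comap (algebraMap R S) with hP
  set Q := Q'.comap (algebraMap R S) with hQ
  have hPQ : P ≤ Q := Ideal.comap_mono hPQ'
  have hJ : P.map (algebraMap R S) ≤ Q' := Ideal.map_comap_le.trans hPQ'
  haveI : Module.Flat (R ⧸ P) (S ⧸ P.map (algebraMap R S)) :=
    Groth.Agent.Lib.FSNilpH3.flat_quot P
  haveI hQbar : (Q.map (Ideal.Quotient.mk P)).IsPrime := isPrime_map_mk P Q hPQ
  haveI hQbar' : (Q'.map (Ideal.Quotient.mk (P.map (algebraMap R S)))).IsPrime :=
    isPrime_map_mk _ Q' hJ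
  haveI hover : (Q'.map (Ideal.Quotient.mk (P.map (algebraMap R S)))).LiesOver
      (Q.map (Ideal.Quotient.mk P)) := by
    refine ⟨?_⟩
    ext x
    obtain ⟨a, rfl⟩ := Ideal.Quotient.mk_surjective x
    rw [Ideal.mem_quotient_iff_mem hPQ, Ideal.under_def]
    change a ∈ Q ↔ algebraMap (R ⧸ P) (S ⧸ P.map (algebraMap R S)) (Ideal.Quotient.mk P a) ∈
      Q'.map (Ideal.Quotient.mk (P.map (algebraMap R S)))
    have : algebraMap (R ⧸ P) (S ⧸ P.map (algebraMap R S)) (Ideal.Quotient.mk P a) =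
        Ideal.Quotient.mk _ (algebraMap R S a) := rfl
    rw [this, Ideal.mem_quotient_iff_mem hJ]
    rfl
  have h1 := Ideal.height_eq_height_add_of_liesOver_of_hasGoingDown
    (Q.map (Ideal.Quotient.mk P)) (Q'.map (Ideal.Quotient.mk (P.map (algebraMap R S))))
  have h2 : ((Q'.map (Ideal.Quotient.mk (P.map (algebraMap R S)))).map (Ideal.Quotient.mk
      ((Q.map (Ideal.Quotient.mk P)).map
        (algebraMap (R ⧸ P) (S ⧸ P.map (algebraMap R S)))))).height = 0 := by
    apply height_map_mk_eq_zero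
    refine ⟨⟨hQbar', ?_⟩, ?_⟩
    · rw [Ideal.map_le_iff_le_comap]
      exact (Ideal.LiesOver.over (p := Q.map (Ideal.Quotient.mk P))
        (P := Q'.map (Ideal.Quotient.mk (P.map (algebraMap R S))))).le
    · intro T ⟨hT, hJT⟩ hTQ
      haveI := hT
      have h3 : Q.map (algebraMap R S) ≤ T.comap (Ideal.Quotient.mk (P.map (algebraMap R S))) := by
        rw [Ideal.map_le_iff_le_comap]
        intro a ha
        rw [Ideal.mem_comap, Ideal.mem_comap]
        apply hJT
        have : Ideal.Quotient.mk (P.map (algebraMap R S)) (algebraMap R S a) =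
            algebraMap (R ⧸ P) (S ⧸ P.map (algebraMap R S)) (Ideal.Quotient.mk P a) := rfl
        rw [this]
        exact Ideal.mem_map_of_mem _ (Ideal.mem_map_of_mem _ ha)
      have h4 : T.comap (Ideal.Quotient.mk (P.map (algebraMap R S))) ≤ Q' := by
        have := Ideal.comap_mono (f := Ideal.Quotient.mk (P.map (algebraMap R S))) hTQ
        rwa [comap_map_mk _ Q' hJ] at this
      have h5 : Q' ≤ T.comap (Ideal.Quotient.mk (P.map (algebraMap R S))) :=
        hmin.2 ⟨Ideal.comap_isPrime _ _, h3⟩ h4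
      have h6 := Ideal.map_mono (f := Ideal.Quotient.mk (P.map (algebraMap R S))) h5
      rwa [Ideal.map_comap_of_surjective _ Ideal.Quotient.mk_surjective] at h6
  rw [h1, h2, add_zero]

end Heights

section Tower

-- abstract situation: `A → A'` flat, `A → C` a localization at a prime, and `Ĉ` the completion of
-- `C`, flat over `A'` compatibly.
variable (A A' : Type u) [CommRing A] [CommRing A'] [Algebra A A'] [IsNoetherianRing A]
  [IsNoetherianRing A'] [Module.Flat A A']
  (q : Ideal A) [q.IsPrime]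
  [Algebra A' (AdicCompletion (maximalIdeal (Localization.AtPrime q)) (Localization.AtPrime q))]
  [IsScalarTower A A' (AdicCompletion (maximalIdeal (Localization.AtPrime q)) (Localization.AtPrime q))]
  [Module.Flat A' (AdicCompletion (maximalIdeal (Localization.AtPrime q)) (Localization.AtPrime q))]

local notation "C" => Localization.AtPrime q
local notation "Ĉ" => AdicCompletion (maximalIdeal (Localization.AtPrime q)) (Localization.AtPrime q)

/-- the fibre local ring of a localization at a prime is a field: dimension zero -/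
theorem dim_fibLocRing_localization (𝔭 : Ideal C) [𝔭.IsPrime] :
    ringKrullDim (EGA4.FibLocRing A C 𝔭) = 0 := by
  rw [ringKrullDim_fibLocRing (R := A) (S := C) 𝔭]
  have h1 : (𝔭.comap (algebraMap A C)).map (algebraMap A C) = 𝔭 :=
    IsLocalization.map_comap q.primeCompl _ 𝔭
  have h2 : (𝔭.map (Ideal.Quotient.mk ((𝔭.comap (algebraMap A C)).map (algebraMap A C)))).height
      = 0 := by
    apply height_map_mk_eq_zero
    rw [h1]
    exact ⟨⟨inferInstance, le_rfl⟩, fun T hT hle => hT.2⟩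
  rw [h2]
  rfl

/-- heights in `C/𝔭` for the localization `C = A_q` -/
theorem height_maximalIdeal_quot_localization (𝔭 : Ideal C) [𝔭.IsPrime] :
    ((maximalIdeal C).map (Ideal.Quotient.mk 𝔭)).height =
      (q.map (Ideal.Quotient.mk (𝔭.comap (algebraMap A C)))).height := by
  set p₀ := 𝔭.comap (algebraMap A C) with hp₀
  have hp₀q : p₀ ≤ q := by
    have h1 : 𝔭 ≤ maximalIdeal C := IsLocalRing.le_maximalIdeal (Ideal.IsPrime.ne_top inferInstance)
    have h2 := Ideal.comap_mono (f := algebraMap A C) h1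
    have h3 : (maximalIdeal C).comap (algebraMap A C) = q :=
      IsLocalization.AtPrime.under_maximalIdeal C q
    rwa [h3] at h2
  have h1 := ringKrullDim_localization_quotient p₀ q hp₀q
  have h2 : p₀.map (algebraMap A C) = 𝔭 := IsLocalization.map_comap q.primeCompl C 𝔭
  have h3 : ringKrullDim (C ⧸ 𝔭) = ringKrullDim (C ⧸ p₀.map (algebraMap A C)) :=
    ringKrullDim_eq_of_ringEquiv (Ideal.quotEquivOfEq h2.symm)
  haveI : IsLocalRing (C ⧸ 𝔭) :=
    Groth.Agent.RegularLib.isLocalRing_quotient 𝔭 (Ideal.IsPrime.ne_top inferInstance)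
  have h4 : (maximalIdeal C).map (Ideal.Quotient.mk 𝔭) = maximalIdeal (C ⧸ 𝔭) :=
    IsLocalRing.map_maximalIdeal_of_surjective (Ideal.Quotient.mk 𝔭) Ideal.Quotient.mk_surjective
  have h5 : (((maximalIdeal C).map (Ideal.Quotient.mk 𝔭)).height : WithBot ℕ∞) =
      ((q.map (Ideal.Quotient.mk p₀)).height : WithBot ℕ∞) := by
    rw [h4, IsLocalRing.maximalIdeal_height_eq_ringKrullDim, h3, h1]
  exact WithBot.coe_injective h5

/-- the fibre local rings of `A → A'` are Cohen–Macaulay of the expected dimension, and the height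
formula -/
theorem tower_key (hUC : CAlg.IsUniversallyCatenary C) (hCM : EGA4.HasCMFormalFibres C)
    (p' q' : Ideal A') [p'.IsPrime] [q'.IsPrime] (hpq : p' ≤ q')
    (hqc : q'.comap (algebraMap A A') = q)
    (hqmap : q'.map (algebraMap A' Ĉ) = maximalIdeal Ĉ)
    (hqmax : (maximalIdeal Ĉ).comap (algebraMap A' Ĉ) = q')
    (hqmin : q' ∈ ((q'.comap (algebraMap A A')).map (algebraMap A A')).minimalPrimes) :
    LocCoh.depth (EGA4.FibLocRing A A' p') (EGA4.FibLocRing A A' p') =
        (p'.map (Ideal.Quotient.mk ((p'.comap (algebraMap A A')).map (algebraMap A A')))).height ∧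
      (p'.map (Ideal.Quotient.mk ((p'.comap (algebraMap A A')).map (algebraMap A A')))).height +
          (q'.map (Ideal.Quotient.mk p')).height =
        ((q'.comap (algebraMap A A')).map
          (Ideal.Quotient.mk (p'.comap (algebraMap A A')))).height := by
  haveI : IsNoetherianRing C := IsLocalization.isNoetherianRing q.primeCompl _ inferInstance
  obtain ⟨hloc, hnoeth, hcomp, hff, hlh, hmap⟩ := Groth.Agent.Lib.AnUnramH3.completion_facts C
  haveI := hloc
  haveI := hnoeth
  haveI := hcomp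
  haveI := hff
  haveI hflatC : Module.Flat C Ĉ := inferInstance
  -- a minimal prime of `p' Ĉ`
  have hp'le : p'.map (algebraMap A' Ĉ) ≤ maximalIdeal Ĉ := by
    rw [← hqmap]; exact Ideal.map_mono hpq
  obtain ⟨P, hPmin, hPle⟩ := Ideal.exists_minimalPrimes_le hp'le
  haveI hPprime : P.IsPrime := hPmin.1.1
  haveI hPover : P.LiesOver p' :=
    Groth.Agent.Lib.BootH1.liesOver_of_mem_minimalPrimes_map p' P hPmin
  have hPc : P.comap (algebraMap A' Ĉ) = p' := hPover.over.symm
  haveI : IsNoetherianRing (EGA4.FibLocRing C Ĉ P) := isNoetherianRing_fibLocRing C Ĉ P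
  haveI : IsNoetherianRing (EGA4.FibLocRing A' Ĉ P) := isNoetherianRing_fibLocRing A' Ĉ P
  haveI : IsNoetherianRing (EGA4.FibLocRing A A' p') := isNoetherianRing_fibLocRing A A' p'
  -- the two towers
  obtain ⟨T1d, T1k⟩ := depth_dim_fibLocRing_comp A A' Ĉ P
  obtain ⟨T2d, T2k⟩ := depth_dim_fibLocRing_comp A C Ĉ P
  have htr : ∀ (P₁ P₂ : Ideal A') [P₁.IsPrime] [P₂.IsPrime], P₁ = P₂ →
      LocCoh.depth (EGA4.FibLocRing A A' P₁) (EGA4.FibLocRing A A' P₁) =
        LocCoh.depth (EGA4.FibLocRing A A' P₂) (EGA4.FibLocRing A A' P₂) ∧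
      ringKrullDim (EGA4.FibLocRing A A' P₁) = ringKrullDim (EGA4.FibLocRing A A' P₂) := by
    intro P₁ P₂ _ _ h
    subst h
    exact ⟨rfl, rfl⟩
  obtain ⟨hd1, hk1⟩ := htr (P.comap (algebraMap A' Ĉ)) p' hPc
  rw [hd1] at T1d
  rw [hk1] at T1k
  -- the fibre of `A → C`
  set 𝔭 := P.comap (algebraMap C Ĉ) with h𝔭
  haveI : IsNoetherianRing (EGA4.FibLocRing A C 𝔭) := isNoetherianRing_fibLocRing A C 𝔭
  have hk0 : ringKrullDim (EGA4.FibLocRing A C 𝔭) = 0 := dim_fibLocRing_localization A q 𝔭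
  have hd0 : LocCoh.depth (EGA4.FibLocRing A C 𝔭) (EGA4.FibLocRing A C 𝔭) = 0 := by
    have h := depth_le_dim (EGA4.FibLocRing A C 𝔭)
    rw [hk0] at h
    have h' : ((LocCoh.depth (EGA4.FibLocRing A C 𝔭) (EGA4.FibLocRing A C 𝔭) : ℕ∞) :
        WithBot ℕ∞) ≤ ((0 : ℕ∞) : WithBot ℕ∞) := h
    exact le_antisymm (WithBot.coe_le_coe.1 h') zero_le
  rw [hd0, zero_add] at T2d
  rw [hk0, zero_add] at T2k
  -- the fibre of `A' → Ĉ` at a minimal prime
  have hkH : ringKrullDim (EGA4.FibLocRing A' Ĉ P) = 0 := by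
    rw [ringKrullDim_fibLocRing (R := A') (S := Ĉ) P]
    have h2 : (P.map (Ideal.Quotient.mk ((P.comap (algebraMap A' Ĉ)).map
        (algebraMap A' Ĉ)))).height = 0 := by
      apply height_map_mk_eq_zero
      rw [hPc]
      exact hPmin
    rw [h2]
    rfl
  have hdH : LocCoh.depth (EGA4.FibLocRing A' Ĉ P) (EGA4.FibLocRing A' Ĉ P) = 0 := by
    have h := depth_le_dim (EGA4.FibLocRing A' Ĉ P)
    rw [hkH] at h
    have h' : ((LocCoh.depth (EGA4.FibLocRing A' Ĉ P) (EGA4.FibLocRing A' Ĉ P) : ℕ∞) :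
        WithBot ℕ∞) ≤ ((0 : ℕ∞) : WithBot ℕ∞) := h
    exact le_antisymm (WithBot.coe_le_coe.1 h') zero_le
  rw [hdH, add_zero] at T1d
  rw [hkH, add_zero] at T1k
  -- `G` is Cohen–Macaulay
  obtain ⟨g, hg⟩ := Groth.Agent.Lib.HullSEH5.exists_nat_dim (EGA4.FibLocRing C Ĉ P)
  have hSk : SkLoc g (EGA4.FibLocRing C Ĉ P) := by
    haveI := hCM 𝔭
    exact (hasSk_fiber_iff C Ĉ g 𝔭).1 (Groth.Agent.TensorCM.hasSk_of_isCMRing g _) P rfl
  have hdG : LocCoh.depth (EGA4.FibLocRing C Ĉ P) (EGA4.FibLocRing C Ĉ P) = (g : ℕ∞) := by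
    have h1 := depth_le_dim (EGA4.FibLocRing C Ĉ P)
    rw [hg] at h1
    unfold SkLoc at hSk
    rw [hg] at hSk
    have h2 : ((g : ℕ∞) : WithBot ℕ∞) ≤
        ((LocCoh.depth (EGA4.FibLocRing C Ĉ P) (EGA4.FibLocRing C Ĉ P) : ℕ∞) : WithBot ℕ∞) := by
      have : min ((g : ℕ) : WithBot ℕ∞) (((g : ℕ∞)) : WithBot ℕ∞) = ((g : ℕ∞) : WithBot ℕ∞) :=
        min_eq_right le_rfl
      rw [this] at hSk
      exact hSk
    exact le_antisymm (WithBot.coe_le_coe.1 h1) (WithBot.coe_le_coe.1 h2)
  -- consequences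
  have hdF : LocCoh.depth (EGA4.FibLocRing A A' p') (EGA4.FibLocRing A A' p') = (g : ℕ∞) := by
    rw [← T1d, T2d, hdG]
  have hkF : ringKrullDim (EGA4.FibLocRing A A' p') = ((g : ℕ∞) : WithBot ℕ∞) := by
    rw [← T1k, T2k, hg]
  have hhtF : (p'.map (Ideal.Quotient.mk ((p'.comap (algebraMap A A')).map
      (algebraMap A A')))).height = (g : ℕ∞) := by
    have := ringKrullDim_fibLocRing (R := A) (S := A') p'
    rw [hkF] at this
    exact (WithBot.coe_injective this).symm
  have hhtG : (P.map (Ideal.Quotient.mk ((P.comap (algebraMap C Ĉ)).map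
      (algebraMap C Ĉ)))).height = (g : ℕ∞) := by
    have := ringKrullDim_fibLocRing (R := C) (S := Ĉ) P
    rw [hg] at this
    exact (WithBot.coe_injective this).symm
  refine ⟨by rw [hdF, hhtF], ?_⟩
  apply le_antisymm
  · set J := (p'.comap (algebraMap A A')).map (algebraMap A A') with hJ
    have hJp : J ≤ p' := Ideal.map_comap_le
    haveI : (p'.map (Ideal.Quotient.mk J)).IsPrime := isPrime_map_mk J p' hJp
    haveI : (q'.map (Ideal.Quotient.mk J)).IsPrime := isPrime_map_mk J q' (hJp.trans hpq)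
    have h1 := Groth.Agent.Lib.FaltingsAnn_helper6.height_add_le (p'.map (Ideal.Quotient.mk J))
      (q'.map (Ideal.Quotient.mk J)) (Ideal.map_mono hpq)
    rw [Groth.Agent.Lib.FaltingsCM_helper6.height_quot_quot J p' q' hJp hpq] at h1
    rw [height_quot_eq_of_flat_of_minimal p' q' hpq hqmin] at h1
    exact h1
  · have h1 := height_quot_le_cpl C hUC hloc hnoeth hcomp hflatC P (maximalIdeal Ĉ) hPle
    rw [hhtG] at h1
    have h2 : ((maximalIdeal Ĉ).map (Ideal.Quotient.mk P)).height ≤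
        (q'.map (Ideal.Quotient.mk p')).height :=
      height_quot_le_of_minimal p' q' hpq P (maximalIdeal Ĉ) hPle hPc hqmax
        (by rw [hqmap]; exact ⟨⟨inferInstance, le_rfl⟩, fun T hT hle => hT.2⟩)
    have hcomapP : 𝔭.comap (algebraMap A C) = p'.comap (algebraMap A A') := by
      rw [h𝔭, Ideal.comap_comap, ← IsScalarTower.algebraMap_eq A C Ĉ,
        IsScalarTower.algebraMap_eq A A' Ĉ, ← Ideal.comap_comap, hPc]
    have htr2 : ∀ (p₁ p₂ : Ideal A), p₁ = p₂ →
        (q.map (Ideal.Quotient.mk p₁)).height = (q.map (Ideal.Quotient.mk p₂)).height := by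
      intro p₁ p₂ h
      subst h
      rfl
    have h3 : (((maximalIdeal Ĉ).comap (algebraMap C Ĉ)).map
        (Ideal.Quotient.mk (P.comap (algebraMap C Ĉ)))).height =
        ((q'.comap (algebraMap A A')).map
          (Ideal.Quotient.mk (p'.comap (algebraMap A A')))).height := by
      rw [IsLocalRing.maximalIdeal_comap (algebraMap C Ĉ),
        height_maximalIdeal_quot_localization A q 𝔭, hqc]
      exact htr2 _ _ hcomapP
    rw [h3] at h1
    rw [hhtF]
    exact h1.trans (add_le_add le_rfl h2)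

end Tower

end Groth.Agent.Lib.IAdicH5
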