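import Mathlib
import Groth.Prelude.Def_Wider
import Groth.Prelude.Def_CAlg
import Groth.Prelude.Def_EGA4b
import Groth.Prelude.Def_Found
import Groth.Agent.Lib.IAdic1_helper5
import Groth.Agent.Lib.IAdic2_helper5
import Groth.Agent.Lib.CutCpl1_helper5
import Groth.Agent.Lib.FT21_helper6
import Groth.Agent.Lib.DMod94_helper6
import Groth.Agent.Lib.Link2_helper9
import Groth.Agent.Lib.PolyDual2_helper2
import Groth.Agent.Lib.FormalGor_helper2

set_option autoImplicit false
universe u

open CategoryTheory IsLocalRing
attribute [local instance] HasDerivedCategory.standard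

namespace Groth.Agent.Lib.IAdicH5

open Groth.Agent.Lib.CutCplH5

section Assembly

variable (A : Type u) [CommRing A] [IsNoetherianRing A]

/-- a local ring with a dualizing complex is universally catenary with CM formal fibres -/
theorem uc_cm_of_dualizing (hA : ∃ ω : Dual.D A, Dual.IsDualizing A ω) (q : Ideal A) [q.IsPrime] :
    CAlg.IsUniversallyCatenary (Localization.AtPrime q) ∧
      EGA4.HasCMFormalFibres (Localization.AtPrime q) := by
  obtain ⟨ω, hω⟩ := hA
  haveI : IsNoetherianRing (Localization.AtPrime q) :=
    IsLocalization.isNoetherianRing q.primeCompl _ inferInstance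
  have hloc := Groth.Agent.Lib.DMod_helper6.isDualizing_locD ω q hω
  refine ⟨Groth.Agent.Lib.PolyDual.S1721_main _ _ hloc, fun p hp => ?_⟩
  have hG := Groth.Agent.Lib.FormalGor.S1723_main _ _ hloc ⟨p, hp⟩
  haveI : IsNoetherianRing (EGA4.formalFibre (Localization.AtPrime q) p) := hG.toIsNoetherian
  exact { isCohenMacaulayLocalRing_localization := fun P hP => by
            haveI := hG.isGorensteinLocalRing_localization P
            exact Groth.Agent.Link9.isCMLocalRing_of_gorenstein _ }

/-- S1714 -/
theorem main1714 (hA : ∃ ω : Dual.D A, Dual.IsDualizing A ω) (I : Ideal A) (M : Type u)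
    [AddCommGroup M] [Module A M] [Module.Finite A M]
    (p' q' : PrimeSpectrum (AdicCompletion I A)) (hpq : p' ≤ q')
    (hq : Ideal.map (algebraMap A (AdicCompletion I A)) I ≤ q'.asIdeal) :
    LocCoh.depth (Localization.AtPrime (p'.asIdeal.comap (algebraMap A (AdicCompletion I A))))
        (LocalizedModule (p'.asIdeal.comap (algebraMap A (AdicCompletion I A))).primeCompl M) ≤
      LocCoh.depth (Localization.AtPrime p'.asIdeal)
        (LocalizedModule p'.asIdeal.primeCompl (AdicCompletion I M)) ∧
    ((LocCoh.depth (Localization.AtPrime p'.asIdeal)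
        (LocalizedModule p'.asIdeal.primeCompl (AdicCompletion I M)) : ℕ∞) : WithBot ℕ∞) +
        Order.krullDim (Set.Icc p' q') =
      ((LocCoh.depth (Localization.AtPrime (p'.asIdeal.comap (algebraMap A (AdicCompletion I A))))
        (LocalizedModule (p'.asIdeal.comap (algebraMap A (AdicCompletion I A))).primeCompl M) :
          ℕ∞) : WithBot ℕ∞) +
        Order.krullDim (Set.Icc ((PrimeSpectrum.comap (algebraMap A (AdicCompletion I A))) p')
          ((PrimeSpectrum.comap (algebraMap A (AdicCompletion I A))) q')) := by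
  haveI : IsNoetherianRing (AdicCompletion I A) :=
    Groth.Agent.Lib.ComplRegH3.isNoetherianRing_adicCompletion A I
  haveI : Module.Flat A (AdicCompletion I A) := inferInstance
  have hD := depth_localized_baseChange (R := A) (S := AdicCompletion I A) p'.asIdeal M
    (AdicCompletion I M) (AdicCompletion.of I M) (Groth.Agent.Lib.BootH1.isBaseChange_of I M)
  refine ⟨by rw [hD]; exact le_self_add, ?_⟩
  -- the prime `q` and the completed local ring
  obtain ⟨q, hqdef⟩ : ∃ q : Ideal A, q = q'.asIdeal.comap (algebraMap A (AdicCompletion I A)) :=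
    ⟨_, rfl⟩
  haveI hqprime : q.IsPrime := hqdef ▸ inferInstance
  have hIq : I ≤ q := hqdef ▸ Ideal.map_le_iff_le_comap.1 hq
  haveI : IsNoetherianRing (Localization.AtPrime q) :=
    IsLocalization.isNoetherianRing q.primeCompl _ inferInstance
  obtain ⟨hloc, hnoeth, hcomp, hff, hlh, hmap⟩ :=
    Groth.Agent.Lib.AnUnramH3.completion_facts (Localization.AtPrime q)
  haveI := hloc
  haveI := hnoeth
  obtain ⟨φ, hφ, hφflat⟩ := exists_hom A I q hIq
  letI : Algebra (AdicCompletion I A)
      (AdicCompletion (maximalIdeal (Localization.AtPrime q)) (Localization.AtPrime q)) :=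
    φ.toAlgebra
  haveI : IsScalarTower A (AdicCompletion I A)
      (AdicCompletion (maximalIdeal (Localization.AtPrime q)) (Localization.AtPrime q)) :=
    IsScalarTower.of_algebraMap_eq (fun a => (hφ a).symm)
  haveI : Module.Flat (AdicCompletion I A)
      (AdicCompletion (maximalIdeal (Localization.AtPrime q)) (Localization.AtPrime q)) := hφflat
  obtain ⟨hUC, hCM⟩ := uc_cm_of_dualizing A hA q
  have hq'eq : q'.asIdeal = q.map (algebraMap A (AdicCompletion I A)) :=
    hqdef ▸ eq_map_comap A I q'.asIdeal hq
  have hqmap : q'.asIdeal.map (algebraMap (AdicCompletion I A)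
      (AdicCompletion (maximalIdeal (Localization.AtPrime q)) (Localization.AtPrime q))) =
      maximalIdeal (AdicCompletion (maximalIdeal (Localization.AtPrime q))
        (Localization.AtPrime q)) := by
    rw [hq'eq, Ideal.map_map, ← IsScalarTower.algebraMap_eq,
      IsScalarTower.algebraMap_eq A (Localization.AtPrime q), ← Ideal.map_map,
      Localization.AtPrime.map_eq_maximalIdeal, hmap]
  have hqmax : (maximalIdeal (AdicCompletion (maximalIdeal (Localization.AtPrime q))
      (Localization.AtPrime q))).comap (algebraMap (AdicCompletion I A)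
      (AdicCompletion (maximalIdeal (Localization.AtPrime q)) (Localization.AtPrime q))) =
      q'.asIdeal := by
    set 𝔮 := (maximalIdeal (AdicCompletion (maximalIdeal (Localization.AtPrime q))
      (Localization.AtPrime q))).comap (algebraMap (AdicCompletion I A)
      (AdicCompletion (maximalIdeal (Localization.AtPrime q)) (Localization.AtPrime q))) with h𝔮
    have hle : q'.asIdeal ≤ 𝔮 := Ideal.map_le_iff_le_comap.1 hqmap.le
    have h1 := eq_map_comap A I 𝔮 (hq.trans hle)
    have h2 : 𝔮.comap (algebraMap A (AdicCompletion I A)) = q := by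
      rw [h𝔮, Ideal.comap_comap, ← IsScalarTower.algebraMap_eq,
        IsScalarTower.algebraMap_eq A (Localization.AtPrime q), ← Ideal.comap_comap,
        IsLocalRing.maximalIdeal_comap]
      exact IsLocalization.AtPrime.under_maximalIdeal (Localization.AtPrime q) q
    rw [h1, h2, ← hq'eq]
  have hqmin : q'.asIdeal ∈ ((q'.asIdeal.comap (algebraMap A (AdicCompletion I A))).map
      (algebraMap A (AdicCompletion I A))).minimalPrimes := by
    rw [← hqdef, ← hq'eq]
    exact ⟨⟨inferInstance, le_rfl⟩, fun T hT hle => hT.2⟩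
  obtain ⟨K1, K2⟩ := tower_key A (AdicCompletion I A) q hUC hCM p'.asIdeal q'.asIdeal hpq
    hqdef.symm hqmap hqmax hqmin
  -- krull dimensions of intervals
  have hk1 : Order.krullDim (Set.Icc p' q') =
      (((q'.asIdeal.map (Ideal.Quotient.mk p'.asIdeal)).height : ℕ∞) : WithBot ℕ∞) := by
    rw [Groth.Agent.Lib.FaltT.krullDim_Icc_eq_height p' q' hpq,
      Groth.Agent.Lib.FaltingsCM_helper6.height_Ici_eq p' q' hpq]
  have hpqA : (PrimeSpectrum.comap (algebraMap A (AdicCompletion I A))) p' ≤
      (PrimeSpectrum.comap (algebraMap A (AdicCompletion I A))) q' :=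
    Ideal.comap_mono hpq
  have hk2 : Order.krullDim (Set.Icc ((PrimeSpectrum.comap (algebraMap A (AdicCompletion I A))) p')
      ((PrimeSpectrum.comap (algebraMap A (AdicCompletion I A))) q')) =
      ((((q'.asIdeal.comap (algebraMap A (AdicCompletion I A))).map (Ideal.Quotient.mk
        (p'.asIdeal.comap (algebraMap A (AdicCompletion I A))))).height : ℕ∞) : WithBot ℕ∞) := by
    rw [Groth.Agent.Lib.FaltT.krullDim_Icc_eq_height _ _ hpqA,
      Groth.Agent.Lib.FaltingsCM_helper6.height_Ici_eq _ _ hpqA]
    rfl
  rw [hk1, hk2, hD, K1, ← K2, ← WithBot.coe_add, ← WithBot.coe_add, add_assoc]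

end Assembly

end Groth.Agent.Lib.IAdicH5
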