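import Mathlib
import Groth.Agent.Lib.NonVan3_helper7

/-!
# Grothendieck non-vanishing, part 4: consequences (helper7)

* `H^h_I(R) ≠ 0` for `h = ht I`;
* `cd(R, I) ≥ dim R/p` when `p + I` is `m`-primary;
* a finite module is Cohen–Macaulay iff exactly one local cohomology module is non-zero.
-/

set_option autoImplicit false

open CategoryTheory IsLocalRing TensorProduct Pointwise

namespace Groth.Agent.Lib.NonVan4H7

open Groth.Agent.DepthLib Groth.Agent.Lib.LocCohLESH7 Groth.Agent.Lib.NonVanH7
  Groth.Agent.Lib.NonVan2H7 Groth.Agent.Lib.NonVan3H7 Groth.Agent.Lib.LocCohGVH7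

universe u

/-- descent of non-vanishing along a flat base change -/
theorem nontrivial_of_flatBC {R : Type u} [CommRing R] [IsNoetherianRing R] (R' : Type u)
    [CommRing R'] [Algebra R R'] [Module.Flat R R'] [IsNoetherianRing R'] (I : Ideal R) (i : ℕ)
    (h : Nontrivial (LocCoh.H (I.map (algebraMap R R')) i R')) : Nontrivial (LocCoh.H I i R) := by
  obtain ⟨e⟩ := Groth.Agent.Lib.LocCohFlatBCH7.main R' I i R
  let e2 := ((localCohomology (I.map (algebraMap R R')) i).mapIso
      (TensorProduct.AlgebraTensorModule.rid R R' R').toModuleIso).toLinearEquiv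
  by_contra hne
  rw [not_nontrivial_iff_subsingleton] at hne
  have hsub : ∀ z : R' ⊗[R] LocCoh.H I i R, z = 0 := by
    intro z
    induction z using TensorProduct.induction_on with
    | zero => rfl
    | tmul a y => rw [Subsingleton.elim y 0, TensorProduct.tmul_zero]
    | add a b ha hb => rw [ha, hb, add_zero]
  obtain ⟨x, y, hxy⟩ := h
  exact hxy ((e.toEquiv.trans e2.toEquiv).symm.injective ((hsub _).trans (hsub _).symm))

/-- the height of an ideal is attained at a minimal prime -/
lemma exists_minimalPrimes_height_eq {R : Type*} [CommRing R] {I : Ideal R} {n : ℕ}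
    (hI : I.height = n) : ∃ p ∈ I.minimalPrimes, p.height = n := by
  rw [Ideal.height_eq_inf_minimalPrimes] at hI
  simp only [ENat.iInf_eq_natCast_iff] at hI
  rcases hI with ⟨⟨p, ⟨hpmin, h⟩, -⟩, -⟩
  exact ⟨p, hpmin, h⟩

/-- non-vanishing of `H^h_I(R)` for `h = ht I` -/
theorem nonvanishing_height {R : Type u} [CommRing R] [IsNoetherianRing R] (I : Ideal R)
    (h : ℕ) (hh : I.height = h) : Nontrivial (LocCoh.H I h R) := by
  obtain ⟨p, hpmin, hph⟩ := exists_minimalPrimes_height_eq hh
  haveI : p.IsPrime := hpmin.1.1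
  have hdim : ringKrullDim (Localization.AtPrime p) = (h : WithBot ℕ∞) := by
    rw [IsLocalization.AtPrime.ringKrullDim_eq_height p (Localization.AtPrime p), hph]
    rfl
  have hnv := nonvanishing_ring (Localization.AtPrime p) h hdim
  have hrad : (I.map (algebraMap R (Localization.AtPrime p))).radical =
      (maximalIdeal (Localization.AtPrime p)).radical := by
    rw [IsLocalization.AtPrime.radical_map_of_mem_minimalPrimes (Localization.AtPrime p) p I hpmin,
      Localization.AtPrime.map_eq_maximalIdeal,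
      Ideal.IsPrime.radical (inferInstance : (maximalIdeal (Localization.AtPrime p)).IsPrime)]
  let i1 := (localCohomology.isoOfSameRadical hrad h).app
    (ModuleCat.of (Localization.AtPrime p) (Localization.AtPrime p))
  apply nontrivial_of_flatBC (Localization.AtPrime p) I h
  exact i1.toLinearEquiv.toEquiv.nontrivial

/-- `cd(R, I) ≥ dim R/p` when `p + I` is primary to the maximal ideal -/
theorem not_cdLE {R : Type u} [CommRing R] [IsLocalRing R] [IsNoetherianRing R] (I : Ideal R)
    (p : Ideal R) [p.IsPrime] (hpI : (p ⊔ I).radical = maximalIdeal R) (d : ℕ)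
    (hd : ringKrullDim (R ⧸ p) = d) (hd1 : 1 ≤ d) : ¬ LocCoh.CdLE R I (d - 1) := by
  intro hcd
  haveI hsub : Subsingleton (LocCoh.H I d (R ⧸ p)) := hcd (R ⧸ p) d (by omega)
  haveI : IsLocalRing (R ⧸ p) :=
    IsLocalRing.of_surjective' (Ideal.Quotient.mk p) Ideal.Quotient.mk_surjective
  have hnv := nonvanishing_ring (R ⧸ p) d hd
  have h1 : (p ⊔ I).map (Ideal.Quotient.mk p) = I.map (Ideal.Quotient.mk p) := by
    rw [Ideal.map_sup, Ideal.map_quotient_self, bot_sup_eq]
  have h2 : RingHom.ker (Ideal.Quotient.mk p) ≤ p ⊔ I := by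
    rw [Ideal.mk_ker]
    exact le_sup_left
  have h3 := Ideal.map_radical_of_surjective Ideal.Quotient.mk_surjective h2
  rw [hpI, h1, NonVan2H7.map_maximalIdeal_of_surjective _ Ideal.Quotient.mk_surjective] at h3
  have hrad : (I.map (algebraMap R (R ⧸ p))).radical = (maximalIdeal (R ⧸ p)).radical := by
    rw [Ideal.IsPrime.radical (inferInstance : (maximalIdeal (R ⧸ p)).IsPrime)]
    exact h3.symm
  let i1 := (localCohomology.isoOfSameRadical hrad d).app (ModuleCat.of (R ⧸ p) (R ⧸ p))
  haveI h4 : Nontrivial (LocCoh.H (I.map (algebraMap R (R ⧸ p))) d (R ⧸ p)) :=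
    i1.toLinearEquiv.toEquiv.nontrivial
  obtain ⟨φ, -⟩ := Groth.Agent.Lib.LocCohBaseIndepH7.main (R ⧸ p) I d (R ⧸ p)
  haveI : Nontrivial (LocCoh.H I d (R ⧸ p)) := φ.symm.toEquiv.nontrivial
  exact false_of_nontrivial_of_subsingleton (LocCoh.H I d (R ⧸ p))

/-- a finite module over a Noetherian local ring is Cohen–Macaulay iff exactly one of its local
cohomology modules is non-zero -/
theorem cm_iff_unique {R : Type u} [CommRing R] [IsLocalRing R] [IsNoetherianRing R]
    (M : Type u) [AddCommGroup M] [Module R M] [Module.Finite R M] [Nontrivial M] :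
    (∃! i : ℕ, Nontrivial (LocCoh.H (maximalIdeal R) i M)) ↔
      LocCoh.IsCohenMacaulayModule R M := by
  have h1 : Module.supportDim R M ≠ ⊥ := Module.supportDim_ne_bot_of_nontrivial R M
  have h2 : Module.supportDim R M ≠ ⊤ :=
    ne_top_of_le_ne_top ringKrullDim_ne_top (Module.supportDim_le_ringKrullDim R M)
  obtain ⟨e, he⟩ := WithBot.ne_bot_iff_exists.1 h1
  have he' : e ≠ ⊤ := by
    rintro rfl
    exact h2 he.symm
  lift e to ℕ using he' with n
  have hn : Module.supportDim R M = (n : WithBot ℕ∞) := he.symm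
  have h3 := depth_le_supportDim R M
  rw [hn] at h3
  have h4 : LocCoh.depth R M ≤ (n : ℕ∞) := by exact_mod_cast h3
  obtain ⟨t, ht⟩ := ENat.ne_top_iff_exists.1 (ne_top_of_le_ne_top (ENat.coe_ne_top n) h4)
  have htn : t ≤ n := by
    rw [← ht] at h4
    exact_mod_cast h4
  have hdepth : LocCoh.idealDepth (maximalIdeal R) M = (t : ℕ∞) := ht.symm
  have hIM : maximalIdeal R • (⊤ : Submodule R M) ≠ ⊤ := by
    intro h
    have := Groth.Agent.Lib.LocCohCMH7.idealDepth_eq_top_of_smul_top (maximalIdeal R) M h
    rw [this] at hdepth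
    exact ENat.top_ne_coe _ hdepth
  have hNt := Groth.Agent.Lib.LocCohDepthH7.nonvanishing (maximalIdeal R) M hIM t hdepth
  have hNn := nonvanishing_module M n hn
  have hrange : ∀ i, Nontrivial (LocCoh.H (maximalIdeal R) i M) → t ≤ i ∧ i ≤ n := by
    intro i hi
    constructor
    · by_contra hlt
      rw [not_le] at hlt
      haveI := Groth.Agent.Lib.LocCohDepthH7.vanishing (maximalIdeal R) M hIM i (by
        rw [hdepth]
        exact_mod_cast hlt)
      exact false_of_nontrivial_of_subsingleton (LocCoh.H (maximalIdeal R) i M)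
    · by_contra hlt
      rw [not_le] at hlt
      haveI := GV (maximalIdeal R) M i (by
        rw [hn]
        exact_mod_cast hlt)
      exact false_of_nontrivial_of_subsingleton (LocCoh.H (maximalIdeal R) i M)
  constructor
  · rintro ⟨i, hi, huniq⟩
    have e1 : t = i := huniq t hNt
    have e2 : n = i := huniq n hNn
    unfold LocCoh.IsCohenMacaulayModule LocCoh.depth
    rw [hn, hdepth, e1, e2]
    rfl
  · intro hCM
    have hnt : n = t := by
      unfold LocCoh.IsCohenMacaulayModule LocCoh.depth at hCM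
      rw [hn, hdepth] at hCM
      exact_mod_cast hCM
    refine ⟨n, hNn, fun j hj => ?_⟩
    obtain ⟨h5, h6⟩ := hrange j hj
    omega

end Groth.Agent.Lib.NonVan4H7
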