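import Mathlib
import Groth.Prelude.Def_DualLC
import Groth.Prelude.Def_Formal2
import Groth.Agent.Lib.IAdic3_helper5
import Groth.Agent.Lib.NonVan4_helper7
import Groth.Agent.S0379
import Groth.Agent.Lib.DoubleLoc_helper6
import Groth.Agent.Lib.CompletionRegular_helper5
import Groth.Agent.Lib.FaltingsCM_helper6
import Groth.Agent.Lib.FT21_helper6

/-!
# Stacks 52.10 (S8797): with a dualizing complex, condition (c) gives the depth condition on the
completions (helper5)
-/

set_option autoImplicit false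
universe u

open CategoryTheory IsLocalRing
attribute [local instance] HasDerivedCategory.standard

namespace Groth.Agent.Lib.CplDepthH5

/-- `cd ≤ d` is monotone in `d` -/
theorem cdLE_mono {R : Type u} [CommRing R] (I : Ideal R) {d e : ℕ} (hde : d ≤ e)
    (h : LocCoh.CdLE R I d) : LocCoh.CdLE R I e :=
  fun M _ _ i hi => h M i (lt_of_le_of_lt hde hi)

/-- in a Noetherian local ring `B`, if `p + I` is primary to the maximal ideal and `cd(B, I) ≤ d`
then `dim B/p ≤ d`. -/
theorem ringKrullDim_quot_le_of_cdLE {B : Type u} [CommRing B] [IsLocalRing B]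
    [IsNoetherianRing B] (I : Ideal B) (p : Ideal B) [p.IsPrime]
    (hpI : (p ⊔ I).radical = maximalIdeal B) (d : ℕ) (hcd : LocCoh.CdLE B I d) :
    ringKrullDim (B ⧸ p) ≤ ((d : ℕ∞) : WithBot ℕ∞) := by
  haveI : IsLocalRing (B ⧸ p) :=
    IsLocalRing.of_surjective' (Ideal.Quotient.mk p) Ideal.Quotient.mk_surjective
  obtain ⟨e, he⟩ : ∃ e : ℕ, ringKrullDim (B ⧸ p) = e := by
    have h1 : ringKrullDim (B ⧸ p) ≠ ⊤ := ringKrullDim_ne_top
    have h2 : ringKrullDim (B ⧸ p) ≠ ⊥ := ringKrullDim_ne_bot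
    obtain ⟨x, hx⟩ := WithBot.ne_bot_iff_exists.1 h2
    have hx' : x ≠ ⊤ := by
      rintro rfl
      exact h1 hx.symm
    lift x to ℕ using hx' with n
    exact ⟨n, hx.symm⟩
  rw [he]
  by_contra hlt
  have hlt' : d < e := by
    by_contra h
    apply hlt
    exact_mod_cast (not_lt.1 h)
  have h1 : 1 ≤ e := by omega
  exact Groth.Agent.Lib.NonVan4H7.not_cdLE I p hpI e he h1 (cdLE_mono I (by omega) hcd)

section Main

variable {A : Type u} [CommRing A] [IsNoetherianRing A] (I : Ideal A)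
  (M : Type u) [AddCommGroup M] [Module A M] [Module.Finite A M] (s d : ℕ)
  (Q : Ideal A) [Q.IsPrime]

local notation "RQ" => Localization.AtPrime Q
local notation "JQ" => Ideal.map (algebraMap A (Localization.AtPrime Q)) I
local notation "BQ" => AdicCompletion (Ideal.map (algebraMap A (Localization.AtPrime Q)) I)
  (Localization.AtPrime Q)

theorem main8797 (hdc : ∃ ω : Dual.D A, Dual.IsDualizing A ω) (hcd : LocCoh.CdLE A I d)
    (hc : ∀ p : PrimeSpectrum A, p.asIdeal ≤ Q → ¬ I ≤ p.asIdeal →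
      (s : ℕ∞) < LocCoh.depth (Localization.AtPrime p.asIdeal)
        (LocalizedModule p.asIdeal.primeCompl M) ∨
      (((d + s : ℕ) : ℕ∞) : WithBot ℕ∞) <
        ((LocCoh.depth (Localization.AtPrime p.asIdeal)
          (LocalizedModule p.asIdeal.primeCompl M) : ℕ∞) : WithBot ℕ∞) +
          Formal2.dimBetween A p.asIdeal Q)
    (p' : PrimeSpectrum BQ) (hp' : ¬ (I.map (algebraMap A BQ)) ≤ p'.asIdeal)
    (hmax : ∀ q' : PrimeSpectrum BQ, p' ≤ q' → (I.map (algebraMap A BQ)) ≤ q'.asIdeal →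
      q'.asIdeal.IsMaximal) :
    (s : ℕ∞) < LocCoh.depth (Localization.AtPrime p'.asIdeal)
      (LocalizedModule p'.asIdeal.primeCompl
        (AdicCompletion JQ (LocalizedModule Q.primeCompl M))) := by
  haveI : IsNoetherianRing RQ := IsLocalization.isNoetherianRing Q.primeCompl _ inferInstance
  have hfg : (JQ).FG := IsNoetherian.noetherian _
  haveI hcomplete := AdicCompletion.isAdicComplete_self (JQ) hfg
  have hjac : (JQ).map (algebraMap RQ BQ) ≤ Ideal.jacobson (⊥ : Ideal BQ) :=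
    IsAdicComplete.le_jacobson_bot _
  have hmapmap : (JQ).map (algebraMap RQ BQ) = I.map (algebraMap A BQ) := by
    rw [Ideal.map_map, ← IsScalarTower.algebraMap_eq]
  -- `JQ` is a proper ideal
  have hJ : JQ ≠ ⊤ := by
    intro htop
    obtain ⟨𝔫, h𝔫, -⟩ := Ideal.exists_le_maximal p'.asIdeal p'.isPrime.ne_top
    have h1 : (JQ).map (algebraMap RQ BQ) ≤ 𝔫 := hjac.trans (sInf_le ⟨bot_le, h𝔫⟩)
    have h2 : (1 : RQ) ∈ JQ := (Ideal.eq_top_iff_one _).1 htop
    have h3 := h1 (Ideal.mem_map_of_mem (algebraMap RQ BQ) h2)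
    rw [map_one] at h3
    exact h𝔫.ne_top ((Ideal.eq_top_iff_one _).2 h3)
  haveI : IsLocalRing BQ := Groth.Agent.RegularLib.isLocalRing_adicCompletion RQ (JQ) hJ
  haveI : IsNoetherianRing BQ := Groth.Agent.RegularLib.isNoetherianRing_adicCompletion RQ (JQ)
  haveI : IsLocalHom (algebraMap RQ BQ) :=
    Groth.Agent.RegularLib.isLocalHom_adicCompletion RQ (JQ) hJ
  -- the closed point of `BQ`
  obtain ⟨q', hq'⟩ : ∃ q' : PrimeSpectrum BQ, q' = ⟨maximalIdeal BQ, inferInstance⟩ := ⟨_, rfl⟩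
  have hq'eq : q'.asIdeal = maximalIdeal BQ := by rw [hq']
  have hpq : p' ≤ q' := by
    show p'.asIdeal ≤ q'.asIdeal
    rw [hq'eq]
    exact IsLocalRing.le_maximalIdeal p'.isPrime.ne_top
  have hJq : (JQ).map (algebraMap RQ BQ) ≤ q'.asIdeal := by
    rw [hq'eq]
    refine hjac.trans (sInf_le ⟨bot_le, ?_⟩)
    exact IsLocalRing.maximalIdeal.isMaximal BQ
  -- the dualizing complex of `RQ`
  have hR : ∃ ω : Dual.D RQ, Dual.IsDualizing RQ ω := by
    obtain ⟨ω, hω⟩ := hdc
    exact ⟨_, Groth.Agent.Lib.DMod_helper6.isDualizing_locD ω Q hω⟩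
  have key : ∀ (P : Ideal RQ) [P.IsPrime], P = p'.asIdeal.comap (algebraMap RQ BQ) →
      LocCoh.depth (Localization.AtPrime P)
          (LocalizedModule P.primeCompl (LocalizedModule Q.primeCompl M)) ≤
        LocCoh.depth (Localization.AtPrime p'.asIdeal)
          (LocalizedModule p'.asIdeal.primeCompl
            (AdicCompletion JQ (LocalizedModule Q.primeCompl M))) ∧
      ((LocCoh.depth (Localization.AtPrime p'.asIdeal)
          (LocalizedModule p'.asIdeal.primeCompl
            (AdicCompletion JQ (LocalizedModule Q.primeCompl M))) : ℕ∞) : WithBot ℕ∞) +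
          Order.krullDim (Set.Icc p' q') =
        ((LocCoh.depth (Localization.AtPrime P)
          (LocalizedModule P.primeCompl (LocalizedModule Q.primeCompl M)) : ℕ∞) : WithBot ℕ∞) +
          Order.krullDim (Set.Icc ((PrimeSpectrum.comap (algebraMap RQ BQ)) p')
            ((PrimeSpectrum.comap (algebraMap RQ BQ)) q')) := by
    intro P _ hP
    subst hP
    exact Groth.Agent.Lib.IAdicH5.main1714 RQ hR (JQ) (LocalizedModule Q.primeCompl M)
      p' q' hpq hJq
  -- the primes downstairs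
  obtain ⟨P, hP⟩ : ∃ P : Ideal RQ, P = p'.asIdeal.comap (algebraMap RQ BQ) := ⟨_, rfl⟩
  haveI hPp : P.IsPrime := by rw [hP]; exact Ideal.comap_isPrime _ _
  obtain ⟨h1, h2⟩ := key P hP
  obtain ⟨p, hp⟩ : ∃ p : PrimeSpectrum A, p = ⟨P.comap (algebraMap A RQ), Ideal.comap_isPrime _ _⟩ :=
    ⟨_, rfl⟩
  have hpeq : p.asIdeal = P.comap (algebraMap A RQ) := by rw [hp]
  have hpQ : p.asIdeal ≤ Q := by
    rw [hpeq]
    refine le_of_le_of_eq (Ideal.comap_mono (IsLocalRing.le_maximalIdeal hPp.ne_top)) ?_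
    exact IsLocalization.AtPrime.under_maximalIdeal RQ Q
  have hIp : ¬ I ≤ p.asIdeal := by
    intro hle
    apply hp'
    rw [← hmapmap, Ideal.map_le_iff_le_comap, ← hP, Ideal.map_le_iff_le_comap, ← hpeq]
    exact hle
  have hPmap : p.asIdeal.map (algebraMap A RQ) = P := by
    rw [hpeq]
    exact IsLocalization.map_under Q.primeCompl RQ P
  -- depth downstairs
  have hdepth : LocCoh.depth (Localization.AtPrime P)
      (LocalizedModule P.primeCompl (LocalizedModule Q.primeCompl M)) =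
      LocCoh.depth (Localization.AtPrime p.asIdeal) (LocalizedModule p.asIdeal.primeCompl M) := by
    have h3 := Groth.Agent.Lib.DoubleLoc_helper6.depth_eq (R := A) (M := M) Q.primeCompl P
    rw [h3, hp]
  -- dimension downstairs
  obtain ⟨p0, hp0⟩ : ∃ p0 : PrimeSpectrum RQ, p0 = PrimeSpectrum.comap (algebraMap RQ BQ) p' :=
    ⟨_, rfl⟩
  obtain ⟨m0, hm0⟩ : ∃ m0 : PrimeSpectrum RQ, m0 = PrimeSpectrum.comap (algebraMap RQ BQ) q' :=
    ⟨_, rfl⟩
  have hp0eq : p0.asIdeal = P := by rw [hp0, hP]; rfl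
  have hm0eq : m0.asIdeal = maximalIdeal RQ := by
    rw [hm0]
    show q'.asIdeal.comap (algebraMap RQ BQ) = maximalIdeal RQ
    rw [hq'eq]
    exact IsLocalRing.maximalIdeal_comap (algebraMap RQ BQ)
  have hpm0 : p0 ≤ m0 := by
    show p0.asIdeal ≤ m0.asIdeal
    rw [hm0eq]
    exact IsLocalRing.le_maximalIdeal p0.isPrime.ne_top
  have hdim0 : Order.krullDim (Set.Icc p0 m0) = Formal2.dimBetween A p.asIdeal Q := by
    rw [Groth.Agent.Lib.FaltT.krullDim_Icc_eq_height p0 m0 hpm0,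
      Groth.Agent.Lib.FaltingsCM_helper6.height_Ici_eq p0 m0 hpm0, hm0eq, hp0eq]
    haveI : IsLocalRing (RQ ⧸ P) :=
      IsLocalRing.of_surjective' (Ideal.Quotient.mk P) Ideal.Quotient.mk_surjective
    rw [IsLocalRing.map_maximalIdeal_of_surjective (Ideal.Quotient.mk P)
      Ideal.Quotient.mk_surjective, IsLocalRing.maximalIdeal_height_eq_ringKrullDim]
    show ringKrullDim (RQ ⧸ P) = ringKrullDim (RQ ⧸ p.asIdeal.map (algebraMap A RQ))
    rw [hPmap]
  -- dimension upstairs
  have hcdB : LocCoh.CdLE BQ (I.map (algebraMap A BQ)) d := (Groth.Agent.S0379.result A BQ I d).1 hcd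
  have hrad : (p'.asIdeal ⊔ I.map (algebraMap A BQ)).radical = maximalIdeal BQ := by
    rw [Ideal.radical_eq_sInf]
    apply le_antisymm
    · refine sInf_le ⟨sup_le (IsLocalRing.le_maximalIdeal p'.isPrime.ne_top) ?_, inferInstance⟩
      rw [← hmapmap, ← hq'eq]
      exact hJq
    · refine le_sInf ?_
      rintro K ⟨hK, hKprime⟩
      have h3 := hmax ⟨K, hKprime⟩ (le_sup_left.trans hK) (le_sup_right.trans hK)
      have h4 : K = maximalIdeal BQ := IsLocalRing.eq_maximalIdeal h3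
      rw [h4]
  have hdimB : Order.krullDim (Set.Icc p' q') ≤ ((d : ℕ∞) : WithBot ℕ∞) := by
    rw [Groth.Agent.Lib.FaltT.krullDim_Icc_eq_height p' q' hpq,
      Groth.Agent.Lib.FaltingsCM_helper6.height_Ici_eq p' q' hpq]
    haveI : IsLocalRing (BQ ⧸ p'.asIdeal) :=
      IsLocalRing.of_surjective' (Ideal.Quotient.mk p'.asIdeal) Ideal.Quotient.mk_surjective
    rw [hq'eq, IsLocalRing.map_maximalIdeal_of_surjective (Ideal.Quotient.mk p'.asIdeal)
      Ideal.Quotient.mk_surjective, IsLocalRing.maximalIdeal_height_eq_ringKrullDim]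
    exact ringKrullDim_quot_le_of_cdLE (I.map (algebraMap A BQ)) p'.asIdeal hrad d hcdB
  -- conclusion
  rw [← hp0, ← hm0, hdim0] at h2
  rw [hdepth] at h1 h2
  rcases hc p hpQ hIp with hA | hB
  · exact lt_of_lt_of_le hA h1
  · by_contra hcon
    rw [not_lt] at hcon
    have h4 : ((LocCoh.depth (Localization.AtPrime p'.asIdeal)
        (LocalizedModule p'.asIdeal.primeCompl
          (AdicCompletion JQ (LocalizedModule Q.primeCompl M))) : ℕ∞) : WithBot ℕ∞) ≤
        ((s : ℕ∞) : WithBot ℕ∞) := by exact_mod_cast hcon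
    have h5 := add_le_add h4 hdimB
    rw [h2] at h5
    have h6 : (((d + s : ℕ) : ℕ∞) : WithBot ℕ∞) =
        ((s : ℕ∞) : WithBot ℕ∞) + ((d : ℕ∞) : WithBot ℕ∞) := by
      push_cast
      rw [add_comm]
    exact absurd (lt_of_lt_of_le hB h5) (by rw [h6]; exact lt_irrefl _)

end Main

end Groth.Agent.Lib.CplDepthH5
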