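import Mathlib
import Groth.Agent.Lib.ComplFlat_helper3
import Groth.Agent.Lib.ComplTensor_helper3
import Groth.Agent.Lib.Boot2_helper1

/-!
# The `I`-adic completions of `A_q` and of `(Â)_{q'}` agree (helper5)

For a Noetherian ring `A`, an ideal `I`, the `I`-adic completion `Â` and a prime `q'` of `Â`
containing `IÂ` with contraction `q`, the `I`-adic completions of `A_q` and `Â_{q'}` are
isomorphic `A`-algebras.  Also: transfer of depth of localized base-changed modules along a ring
isomorphism.
-/

set_option autoImplicit false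
universe u

open IsLocalRing

namespace Groth.Agent.Lib.CplDepthH5

section Compl

variable {R : Type u} [CommRing R] [IsNoetherianRing R] (K : Ideal R)

/-- elements of the completion are approximated modulo `K^n` by elements of `R` -/
theorem exists_sub_mem_map_pow (n : ℕ) (w : AdicCompletion K R) :
    ∃ r : R, w - algebraMap R (AdicCompletion K R) r ∈
      (K ^ n).map (algebraMap R (AdicCompletion K R)) := by
  obtain ⟨r, hr⟩ := Groth.Agent.Lib.ComplFlatH3.exists_sub_mem_pow K (IsNoetherian.noetherian K) n w
  exact ⟨r, by rw [Ideal.map_pow]; exact hr⟩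

/-- `K^n Ĉ ∩ R = K^n` -/
theorem mem_pow_of_algebraMap_mem (n : ℕ) (r : R)
    (h : algebraMap R (AdicCompletion K R) r ∈ (K ^ n).map (algebraMap R (AdicCompletion K R))) :
    r ∈ K ^ n := by
  have fg : K.FG := IsNoetherian.noetherian K
  have h1 : AdicCompletion.of K R r ∈ LinearMap.ker (AdicCompletion.eval K R n) := by
    rw [← AdicCompletion.pow_smul_top_eq_ker_eval fg, Ideal.smul_top_eq_map]
    exact h
  rw [LinearMap.mem_ker, AdicCompletion.eval_of, Submodule.mkQ_apply,
    Submodule.Quotient.mk_eq_zero] at h1
  simpa using h1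

end Compl

section Loc

variable {A : Type u} [CommRing A] [IsNoetherianRing A] (I : Ideal A)
  (q' : Ideal (AdicCompletion I A)) [q'.IsPrime]
  (hq' : I.map (algebraMap A (AdicCompletion I A)) ≤ q')

local notation "A'" => AdicCompletion I A
local notation "q0" => Ideal.comap (algebraMap A (AdicCompletion I A)) q'
local notation "R0" => Localization.AtPrime (Ideal.comap (algebraMap A (AdicCompletion I A)) q')
local notation "R'" => Localization.AtPrime q'
local notation "g0" => Localization.localRingHom
  (Ideal.comap (algebraMap A (AdicCompletion I A)) q') q' (algebraMap A (AdicCompletion I A)) rfl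

include hq' in
/-- an element of `Â` outside `q'` is approximated by an element of `A` outside `q` -/
theorem exists_approx_not_mem (n : ℕ) (t' : A') (ht' : t' ∉ q') :
    ∃ t : A, t ∉ q0 ∧ t' - algebraMap A A' t ∈ (I ^ (n + 1)).map (algebraMap A A') := by
  obtain ⟨t, ht⟩ := exists_sub_mem_map_pow I (n + 1) t'
  refine ⟨t, fun hmem => ht' ?_, ht⟩
  have h1 : (I ^ (n + 1)).map (algebraMap A A') ≤ q' := by
    refine le_trans (Ideal.map_mono ?_) hq'
    exact Ideal.pow_le_self (Nat.succ_ne_zero n)
  have h2 : t' = (t' - algebraMap A A' t) + algebraMap A A' t := by ring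
  rw [h2]
  exact q'.add_mem (h1 ht) hmem

theorem map_map_pow (n : ℕ) :
    ((I ^ n).map (algebraMap A A')).map (algebraMap A' R') = (I ^ n).map (algebraMap A R') := by
  rw [Ideal.map_map, ← IsScalarTower.algebraMap_eq]

include hq' in
/-- `A_q → Â_{q'}` is surjective modulo `I^n` -/
theorem exists_sub_localRingHom_mem (n : ℕ) (x : R') :
    ∃ r : R0, x - g0 r ∈ (I ^ n).map (algebraMap A R') := by
  obtain ⟨a', ⟨t', ht'⟩, rfl⟩ := IsLocalization.exists_mk'_eq q'.primeCompl x
  obtain ⟨a, ha⟩ := exists_sub_mem_map_pow I (n + 1) a'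
  obtain ⟨t, htq, ht⟩ := exists_approx_not_mem I q' hq' n t' ht'
  refine ⟨IsLocalization.mk' R0 a (⟨t, htq⟩ : (q0).primeCompl), ?_⟩
  rw [Localization.localRingHom_mk', ← IsLocalization.mk'_sub, ← map_map_pow I q' n,
    IsLocalization.mk'_mem_map_algebraMap_iff]
  refine ⟨1, Submonoid.one_mem _, ?_⟩
  rw [one_mul]
  have hle : (I ^ (n + 1)).map (algebraMap A A') ≤ (I ^ n).map (algebraMap A A') :=
    Ideal.map_mono (Ideal.pow_le_pow_right (Nat.le_succ n))
  have h1 : a' * algebraMap A A' t - algebraMap A A' a * t' =
      (a' - algebraMap A A' a) * algebraMap A A' t - algebraMap A A' a * (t' - algebraMap A A' t) := by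
    ring
  show a' * algebraMap A A' t - algebraMap A A' a * t' ∈ _
  rw [h1]
  exact Ideal.sub_mem _ (Ideal.mul_mem_right _ _ (hle ha)) (Ideal.mul_mem_left _ _ (hle ht))

include hq' in
/-- `A_q → Â_{q'}` is injective modulo `I^n` -/
theorem mem_of_localRingHom_mem (n : ℕ) (r : R0)
    (h : g0 r ∈ (I ^ n).map (algebraMap A R')) : r ∈ (I ^ n).map (algebraMap A R0) := by
  obtain ⟨a, ⟨t, ht⟩, rfl⟩ := IsLocalization.exists_mk'_eq (q0).primeCompl r
  rw [Localization.localRingHom_mk', ← map_map_pow I q' n,
    IsLocalization.mk'_mem_map_algebraMap_iff] at h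
  obtain ⟨u', hu', hu'a⟩ := h
  obtain ⟨u, huq, hu⟩ := exists_approx_not_mem I q' hq' n u' hu'
  rw [IsLocalization.mk'_mem_map_algebraMap_iff]
  refine ⟨u, huq, ?_⟩
  apply mem_pow_of_algebraMap_mem I n
  have hle : (I ^ (n + 1)).map (algebraMap A A') ≤ (I ^ n).map (algebraMap A A') :=
    Ideal.map_mono (Ideal.pow_le_pow_right (Nat.le_succ n))
  have h1 : algebraMap A A' (u * a) =
      u' * algebraMap A A' a - (u' - algebraMap A A' u) * algebraMap A A' a := by
    rw [map_mul]; ring
  rw [h1]
  exact Ideal.sub_mem _ hu'a (Ideal.mul_mem_right _ _ (hle hu))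

end Loc

section Iso

variable {A : Type u} [CommRing A] [IsNoetherianRing A] (I : Ideal A)
  (q' : Ideal (AdicCompletion I A)) [q'.IsPrime]
  (hq' : I.map (algebraMap A (AdicCompletion I A)) ≤ q')

local notation "A'" => AdicCompletion I A
local notation "q0" => Ideal.comap (algebraMap A (AdicCompletion I A)) q'
local notation "R0" => Localization.AtPrime (Ideal.comap (algebraMap A (AdicCompletion I A)) q')
local notation "R'" => Localization.AtPrime q'
local notation "g0" => Localization.localRingHom
  (Ideal.comap (algebraMap A (AdicCompletion I A)) q') q' (algebraMap A (AdicCompletion I A)) rfl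
local notation "K0" => Ideal.map (algebraMap A
  (Localization.AtPrime (Ideal.comap (algebraMap A (AdicCompletion I A)) q'))) I
local notation "K1" => Ideal.map (algebraMap (AdicCompletion I A) (Localization.AtPrime q'))
  (Ideal.map (algebraMap A (AdicCompletion I A)) I)

include hq' in
theorem exists_ringEquiv_cpl_aux (J : Ideal R') (hJ : J = I.map (algebraMap A R')) :
    ∃ e : AdicCompletion K0 R0 ≃+* AdicCompletion J R',
      ∀ a : A, e (algebraMap A (AdicCompletion K0 R0) a) =
        algebraMap A (AdicCompletion J R') a := by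
  subst hJ
  haveI : IsNoetherianRing A' := Groth.Agent.S0543.result A I
  haveI : IsNoetherianRing R0 := IsLocalization.isNoetherianRing (q0).primeCompl _ inferInstance
  haveI : IsNoetherianRing R' := IsLocalization.isNoetherianRing q'.primeCompl _ inferInstance
  have hK1pow : ∀ n : ℕ, (I.map (algebraMap A R')) ^ n = (I ^ n).map (algebraMap A R') := by
    intro n
    rw [Ideal.map_pow]
  have hK0pow : ∀ n : ℕ, K0 ^ n = (I ^ n).map (algebraMap A R0) := by
    intro n
    rw [Ideal.map_pow]
  letI alg : Algebra R0 (AdicCompletion (I.map (algebraMap A R')) R') :=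
    ((algebraMap R' (AdicCompletion (I.map (algebraMap A R')) R')).comp g0).toAlgebra
  have halg : ∀ r : R0, algebraMap R0 (AdicCompletion (I.map (algebraMap A R')) R') r =
      algebraMap R' (AdicCompletion (I.map (algebraMap A R')) R') (g0 r) := fun r => rfl
  have hcompA : ∀ a : A, algebraMap R0 (AdicCompletion (I.map (algebraMap A R')) R')
      (algebraMap A R0 a) = algebraMap A (AdicCompletion (I.map (algebraMap A R')) R') a := by
    intro a
    rw [halg, Localization.localRingHom_to_map, ← IsScalarTower.algebraMap_apply,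
      ← IsScalarTower.algebraMap_apply]
  have hK : (K0).map (algebraMap R0 (AdicCompletion (I.map (algebraMap A R')) R')) =
      (I.map (algebraMap A R')).map
        (algebraMap R' (AdicCompletion (I.map (algebraMap A R')) R')) := by
    rw [Ideal.map_map, Ideal.map_map]
    congr 1
    ext a
    simp only [RingHom.comp_apply]
    rw [hcompA, ← IsScalarTower.algebraMap_apply]
  have hKpow : ∀ n : ℕ,
      (K0 ^ n).map (algebraMap R0 (AdicCompletion (I.map (algebraMap A R')) R')) =
      ((I.map (algebraMap A R')) ^ n).map
        (algebraMap R' (AdicCompletion (I.map (algebraMap A R')) R')) := by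
    intro n
    rw [Ideal.map_pow, Ideal.map_pow, hK]
  haveI : IsAdicComplete ((K0).map (algebraMap R0 (AdicCompletion (I.map (algebraMap A R')) R')))
      (AdicCompletion (I.map (algebraMap A R')) R') := by
    rw [hK]
    exact AdicCompletion.isAdicComplete_self _ (IsNoetherian.noetherian _)
  have hcomap : ∀ n : ℕ,
      ((K0 ^ n).map (algebraMap R0 (AdicCompletion (I.map (algebraMap A R')) R'))).comap
      (algebraMap R0 (AdicCompletion (I.map (algebraMap A R')) R')) ≤ K0 ^ n := by
    intro n r hr
    rw [Ideal.mem_comap, hKpow, halg] at hr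
    have h1 := mem_pow_of_algebraMap_mem (I.map (algebraMap A R')) n (g0 r) hr
    rw [hK1pow] at h1
    rw [hK0pow]
    exact mem_of_localRingHom_mem I q' hq' n r h1
  have hsurj : ∀ (n : ℕ) (w : AdicCompletion (I.map (algebraMap A R')) R'), ∃ c : R0,
      w - algebraMap R0 (AdicCompletion (I.map (algebraMap A R')) R') c ∈
        (K0 ^ n).map (algebraMap R0 (AdicCompletion (I.map (algebraMap A R')) R')) := by
    intro n w
    obtain ⟨r', hr'⟩ := exists_sub_mem_map_pow (I.map (algebraMap A R')) n w
    obtain ⟨r, hr⟩ := exists_sub_localRingHom_mem I q' hq' n r'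
    refine ⟨r, ?_⟩
    rw [hKpow, halg]
    have h1 : w - algebraMap R' (AdicCompletion (I.map (algebraMap A R')) R') (g0 r) =
        (w - algebraMap R' (AdicCompletion (I.map (algebraMap A R')) R') r') +
          algebraMap R' (AdicCompletion (I.map (algebraMap A R')) R') (r' - g0 r) := by
      rw [map_sub]; ring
    rw [h1]
    refine Ideal.add_mem _ hr' (Ideal.mem_map_of_mem _ ?_)
    rw [hK1pow]
    exact hr
  refine ⟨RingEquiv.ofBijective
    (Groth.Agent.Lib.ComplTensorH3.psi K0 (AdicCompletion (I.map (algebraMap A R')) R'))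
    (Groth.Agent.Lib.ComplTensorH3.psi_bijective K0 (AdicCompletion (I.map (algebraMap A R')) R')
      hcomap hsurj), ?_⟩
  intro a
  rw [RingEquiv.ofBijective_apply, IsScalarTower.algebraMap_apply A R0 (AdicCompletion K0 R0),
    AdicCompletion.algebraMap_apply, Groth.Agent.Lib.ComplTensorH3.psi_of]
  simp only [Algebra.algebraMap_self, RingHom.id_apply]
  exact hcompA a

include hq' in
/-- the `I`-adic completions of `A_q` and `Â_{q'}` are isomorphic `A`-algebras -/
theorem exists_ringEquiv_cpl :
    ∃ e : AdicCompletion K0 R0 ≃+* AdicCompletion K1 R',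
      ∀ a : A, e (algebraMap A (AdicCompletion K0 R0) a) =
        algebraMap A (AdicCompletion K1 R') a := by
  apply exists_ringEquiv_cpl_aux I q' hq' K1
  rw [Ideal.map_map, ← IsScalarTower.algebraMap_eq]

end Iso

section Transfer

variable {A C W : Type u} [CommRing A] [CommRing C] [CommRing W]
  [IsNoetherianRing C] [IsNoetherianRing W] [Algebra A C] [Algebra A W]

/-- depth of localizations of base-changed modules is transported by a ring isomorphism -/
theorem depth_transfer (e : C ≃+* W) (he : ∀ a : A, e (algebraMap A C a) = algebraMap A W a)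
    {M N N' : Type u} [AddCommGroup M] [AddCommGroup N] [AddCommGroup N'] [Module A M]
    [Module A N] [Module C N] [IsScalarTower A C N] [Module.Finite C N]
    [Module A N'] [Module W N'] [IsScalarTower A W N']
    (f : M →ₗ[A] N) (hf : IsBaseChange C f) (h : M →ₗ[A] N') (hh : IsBaseChange W h)
    (P : Ideal W) [P.IsPrime] :
    LocCoh.depth (Localization.AtPrime P) (LocalizedModule P.primeCompl N') =
      LocCoh.depth (Localization.AtPrime (P.comap e.toRingHom))
        (LocalizedModule (P.comap e.toRingHom).primeCompl N) := by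
  letI : Algebra C W := e.toRingHom.toAlgebra
  have halg : ∀ c : C, algebraMap C W c = e c := fun c => rfl
  haveI : IsScalarTower A C W := IsScalarTower.of_algebraMap_eq (fun a => (he a).symm)
  letI : Module C N' := Module.compHom N' e.toRingHom
  have hsmul : ∀ (c : C) (n : N'), c • n = e c • n := fun c n => rfl
  haveI : IsScalarTower C W N' := IsScalarTower.of_algebraMap_smul (fun r x => rfl)
  haveI : IsScalarTower A C N' := by
    constructor
    intro a c n
    rw [hsmul, hsmul, Algebra.smul_def, map_mul, he, ← Algebra.smul_def, smul_assoc]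
  have hg : IsBaseChange W (hf.lift h) := by
    apply IsBaseChange.of_comp hf
    rw [hf.lift_comp]
    exact hh
  haveI : Module.Flat C W := by
    let ε : W ≃ₗ[C] C :=
      { toFun := e.symm
        map_add' := map_add e.symm
        map_smul' := by
          intro c w
          show e.symm (c • w) = c * e.symm w
          rw [Algebra.smul_def, halg, map_mul, RingEquiv.symm_apply_apply]
        invFun := e
        left_inv := e.apply_symm_apply
        right_inv := e.symm_apply_apply }
    exact Module.Flat.of_linearEquiv ε
  haveI : P.LiesOver (P.comap e.toRingHom) := ⟨rfl⟩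
  have hmin : P ∈ ((P.comap e.toRingHom).map (algebraMap C W)).minimalPrimes := by
    have h1 : (P.comap e.toRingHom).map (algebraMap C W) = P :=
      Ideal.map_comap_of_surjective e.toRingHom e.surjective P
    rw [h1, Ideal.minimalPrimes_eq_subsingleton_self]
    exact rfl
  exact Groth.Agent.Lib.BootH1.depth_flat_minimal (P.comap e.toRingHom) P hmin N N'
    (hf.lift h) hg

end Transfer

end Groth.Agent.Lib.CplDepthH5
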