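import Mathlib
import Groth.Prelude.Def_DualLC
import Groth.Prelude.Def_Formal2
import Groth.Agent.Lib.CplDepth1_helper5
import Groth.Agent.Lib.CplDepth2_helper5
import Groth.Agent.Lib.FlatHom6_helper2
import Groth.Agent.Lib.CutCpl2_helper5

/-!
# Stacks 52.10 (S8828): the completed data are again in the bootstrap situation (helper5)
-/

set_option autoImplicit false
universe u

open CategoryTheory IsLocalRing
attribute [local instance] HasDerivedCategory.standard

namespace Groth.Agent.Lib.CplDepthH5

/-- `dim (S/p)_q` is the Krull dimension of the interval `[p, q]` -/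
theorem dimBetween_eq_krullDim_Icc {S : Type u} [CommRing S] (p q : PrimeSpectrum S)
    (hpq : p ≤ q) :
    Formal2.dimBetween S p.asIdeal q.asIdeal = Order.krullDim (Set.Icc p q) := by
  rw [Groth.Agent.Lib.FaltT.krullDim_Icc_eq_height p q hpq,
    Groth.Agent.Lib.FaltingsCM_helper6.height_Ici_eq p q hpq]
  exact Groth.Agent.Lib.CutCplH5.ringKrullDim_localization_quotient p.asIdeal q.asIdeal hpq

section Main

variable (A : Type u) [CommRing A] [IsNoetherianRing A] (I : Ideal A)

/-- the `I`-adic completion of a ring with a dualizing complex has a dualizing complex -/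
theorem exists_dualizing_cpl (hdc : ∃ ω : Dual.D A, Dual.IsDualizing A ω) :
    ∃ ω' : Dual.D (AdicCompletion I A), Dual.IsDualizing (AdicCompletion I A) ω' := by
  obtain ⟨ω, hω⟩ := hdc
  haveI : IsNoetherianRing (AdicCompletion I A) := Groth.Agent.S0543.result A I
  have fg : I.FG := IsNoetherian.noetherian I
  haveI := AdicCompletion.isAdicComplete_self I fg
  have hJ : I.map (algebraMap A (AdicCompletion I A)) ≤ Ideal.jacobson ⊥ :=
    IsAdicComplete.le_jacobson_bot _
  have hs : Function.Surjective
      ((Ideal.Quotient.mk (I.map (algebraMap A (AdicCompletion I A)))).comp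
        (algebraMap A (AdicCompletion I A))) := by
    intro y
    obtain ⟨b, rfl⟩ := Ideal.Quotient.mk_surjective y
    obtain ⟨a, ha⟩ := Ideal.Quotient.mk_surjective (AdicCompletion.evalOneₐ I b)
    refine ⟨a, ?_⟩
    show Ideal.Quotient.mk _ (algebraMap A (AdicCompletion I A) a) = Ideal.Quotient.mk _ b
    rw [Ideal.Quotient.eq, ← AdicCompletion.ker_evalOneₐ_eq_map I fg, RingHom.mem_ker, map_sub]
    have h1 : (AdicCompletion.evalOneₐ I).toRingHom (algebraMap A (AdicCompletion I A) a) =
        Ideal.Quotient.mk I a :=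
      RingHom.congr_fun (AdicCompletion.evalOneₐ_comp_algebraMap_eq_mk I) a
    rw [h1, ha]
    exact sub_self _
  exact ⟨_, Groth.Agent.Lib.FlatHom.isDualizing_bcD_of_jacobson I hs hJ ω hω⟩

variable (M : Type u) [AddCommGroup M] [Module A M] [Module.Finite A M] (s d : ℕ)

local notation "A'" => AdicCompletion I A
local notation "I'" => Ideal.map (algebraMap A (AdicCompletion I A)) I

/-- condition (4) passes to the completion -/
theorem cond4_cpl (hdc : ∃ ω : Dual.D A, Dual.IsDualizing A ω)
    (T : Set (PrimeSpectrum A))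
    (h4 : ∀ p r q : PrimeSpectrum A, p ≤ r → r ≤ q → ¬ I ≤ p.asIdeal → I ≤ r.asIdeal →
      r ∉ T → q ∈ T →
      (s : ℕ∞) ≤ LocCoh.depth (Localization.AtPrime p.asIdeal)
        (LocalizedModule p.asIdeal.primeCompl M) ∨
      ((d + s : ℕ) : WithBot ℕ∞) <
        (LocCoh.depth (Localization.AtPrime p.asIdeal)
          (LocalizedModule p.asIdeal.primeCompl M) : WithBot ℕ∞) +
          Formal2.dimBetween A p.asIdeal q.asIdeal)
    (p r q : PrimeSpectrum A') (hpr : p ≤ r) (hrq : r ≤ q) (hIp : ¬ I' ≤ p.asIdeal)
    (hIr : I' ≤ r.asIdeal)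
    (hrT : r ∉ (PrimeSpectrum.comap (algebraMap A A')) ⁻¹' T)
    (hqT : q ∈ (PrimeSpectrum.comap (algebraMap A A')) ⁻¹' T) :
    (s : ℕ∞) ≤ LocCoh.depth (Localization.AtPrime p.asIdeal)
        (LocalizedModule p.asIdeal.primeCompl (AdicCompletion I M)) ∨
      ((d + s : ℕ) : WithBot ℕ∞) <
        (LocCoh.depth (Localization.AtPrime p.asIdeal)
          (LocalizedModule p.asIdeal.primeCompl (AdicCompletion I M)) : WithBot ℕ∞) +
          Formal2.dimBetween A' p.asIdeal q.asIdeal := by
  have hpq : p ≤ q := hpr.trans hrq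
  have hIq : I' ≤ q.asIdeal := hIr.trans hrq
  have hmono : ∀ {x y : PrimeSpectrum A'}, x ≤ y →
      PrimeSpectrum.comap (algebraMap A A') x ≤ PrimeSpectrum.comap (algebraMap A A') y :=
    fun hxy => Ideal.comap_mono hxy
  have hIp0 : ¬ I ≤ (PrimeSpectrum.comap (algebraMap A A') p).asIdeal := by
    intro hle
    apply hIp
    rw [Ideal.map_le_iff_le_comap]
    exact hle
  have hIr0 : I ≤ (PrimeSpectrum.comap (algebraMap A A') r).asIdeal :=
    Ideal.map_le_iff_le_comap.1 hIr
  have h := h4 (PrimeSpectrum.comap (algebraMap A A') p) (PrimeSpectrum.comap (algebraMap A A') r)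
    (PrimeSpectrum.comap (algebraMap A A') q) (hmono hpr) (hmono hrq) hIp0 hIr0 hrT hqT
  obtain ⟨h1, h2⟩ := Groth.Agent.Lib.IAdicH5.main1714 A hdc I M p q hpq hIq
  rw [← dimBetween_eq_krullDim_Icc p q hpq,
    ← dimBetween_eq_krullDim_Icc _ _ (hmono hpq)] at h2
  rcases h with hA | hB
  · exact Or.inl (hA.trans h1)
  · exact Or.inr (lt_of_lt_of_eq hB h2.symm)

section Six

variable (q' : Ideal (AdicCompletion I A)) [q'.IsPrime]

local notation "q0" => Ideal.comap (algebraMap A (AdicCompletion I A)) q'
local notation "R0" => Localization.AtPrime (Ideal.comap (algebraMap A (AdicCompletion I A)) q')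
local notation "R'" => Localization.AtPrime q'
local notation "K0" => Ideal.map (algebraMap A
  (Localization.AtPrime (Ideal.comap (algebraMap A (AdicCompletion I A)) q'))) I
local notation "K1" => Ideal.map (algebraMap (AdicCompletion I A) (Localization.AtPrime q'))
  (Ideal.map (algebraMap A (AdicCompletion I A)) I)
local notation "C0" => AdicCompletion (Ideal.map (algebraMap A
  (Localization.AtPrime (Ideal.comap (algebraMap A (AdicCompletion I A)) q'))) I)
  (Localization.AtPrime (Ideal.comap (algebraMap A (AdicCompletion I A)) q'))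
local notation "W1" => AdicCompletion (Ideal.map (algebraMap (AdicCompletion I A)
  (Localization.AtPrime q')) (Ideal.map (algebraMap A (AdicCompletion I A)) I))
  (Localization.AtPrime q')
local notation "N0" => AdicCompletion (Ideal.map (algebraMap A
  (Localization.AtPrime (Ideal.comap (algebraMap A (AdicCompletion I A)) q'))) I)
  (LocalizedModule (Ideal.primeCompl (Ideal.comap (algebraMap A (AdicCompletion I A)) q')) M)
local notation "N1" => AdicCompletion (Ideal.map (algebraMap (AdicCompletion I A)
  (Localization.AtPrime q')) (Ideal.map (algebraMap A (AdicCompletion I A)) I))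
  (LocalizedModule (Ideal.primeCompl q') (AdicCompletion I M))

/-- condition (6) passes to the completion -/
theorem cond6_cpl (hq' : I' ≤ q')
    (h6 : ∀ p' : PrimeSpectrum C0, ¬ (I.map (algebraMap A C0)) ≤ p'.asIdeal →
      (∀ q'' : PrimeSpectrum C0, p' ≤ q'' → (I.map (algebraMap A C0)) ≤ q''.asIdeal →
        q''.asIdeal.IsMaximal) →
      (s : ℕ∞) < LocCoh.depth (Localization.AtPrime p'.asIdeal)
        (LocalizedModule p'.asIdeal.primeCompl N0))
    (p'' : PrimeSpectrum W1) (hp'' : ¬ (I').map (algebraMap A' W1) ≤ p''.asIdeal)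
    (hmax : ∀ q'' : PrimeSpectrum W1, p'' ≤ q'' → (I').map (algebraMap A' W1) ≤ q''.asIdeal →
      q''.asIdeal.IsMaximal) :
    (s : ℕ∞) < LocCoh.depth (Localization.AtPrime p''.asIdeal)
      (LocalizedModule p''.asIdeal.primeCompl N1) := by
  haveI : IsNoetherianRing A' := Groth.Agent.S0543.result A I
  haveI : IsNoetherianRing R0 := IsLocalization.isNoetherianRing (q0).primeCompl _ inferInstance
  haveI : IsNoetherianRing R' := IsLocalization.isNoetherianRing q'.primeCompl _ inferInstance
  haveI : IsNoetherianRing C0 := Groth.Agent.S0543.result R0 (K0)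
  haveI : IsNoetherianRing W1 := Groth.Agent.S0543.result R' (K1)
  obtain ⟨e, he⟩ := exists_ringEquiv_cpl I q' hq'
  -- scalar towers
  haveI : IsScalarTower A A' W1 := IsScalarTower.to₁₂₄ A A' R' W1
  haveI : IsScalarTower A C0 N0 := IsScalarTower.to₁₃₄ A R0 C0 N0
  haveI : IsScalarTower A W1 N1 := IsScalarTower.to₁₃₄ A R' W1 N1
  have hIW : (I').map (algebraMap A' W1) = I.map (algebraMap A W1) := by
    have h1 := Ideal.map_map (I := I) (algebraMap A A') (algebraMap A' W1)
    rw [h1, ← IsScalarTower.algebraMap_eq A A' W1]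
  rw [hIW] at hp''
  -- finiteness
  haveI : Module.Finite A' (AdicCompletion I M) :=
    Module.Finite.equiv (AdicCompletion.ofTensorProductEquivOfFiniteNoetherian I M)
  haveI : Module.Finite C0 N0 :=
    Module.Finite.equiv (AdicCompletion.ofTensorProductEquivOfFiniteNoetherian (K0)
      (LocalizedModule (q0).primeCompl M))
  -- base changes
  have hf : IsBaseChange C0
      (((AdicCompletion.of (K0) (LocalizedModule (q0).primeCompl M)).restrictScalars A).comp
        (LocalizedModule.mkLinearMap (q0).primeCompl M)) :=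
    IsBaseChange.comp (LocalizedModule.isBaseChange (q0).primeCompl M)
      (Groth.Agent.Lib.BootH1.isBaseChange_of (K0) (LocalizedModule (q0).primeCompl M))
  have hh12 : IsBaseChange R'
      (((LocalizedModule.mkLinearMap q'.primeCompl (AdicCompletion I M)).restrictScalars A).comp
        (AdicCompletion.of I M)) :=
    IsBaseChange.comp (Groth.Agent.Lib.BootH1.isBaseChange_of I M)
      (LocalizedModule.isBaseChange q'.primeCompl (AdicCompletion I M))
  have hh : IsBaseChange W1
      (((AdicCompletion.of (K1)
        (LocalizedModule q'.primeCompl (AdicCompletion I M))).restrictScalars A).comp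
        (((LocalizedModule.mkLinearMap q'.primeCompl (AdicCompletion I M)).restrictScalars A).comp
          (AdicCompletion.of I M))) :=
    IsBaseChange.comp hh12
      (Groth.Agent.Lib.BootH1.isBaseChange_of (K1)
        (LocalizedModule q'.primeCompl (AdicCompletion I M)))
  rw [depth_transfer e he _ hf _ hh p''.asIdeal]
  -- the prime downstairs
  have hmemI : ∀ (Jw : Ideal W1), I.map (algebraMap A C0) ≤ Jw.comap e.toRingHom ↔
      I.map (algebraMap A W1) ≤ Jw := by
    intro Jw
    rw [Ideal.map_le_iff_le_comap, Ideal.map_le_iff_le_comap]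
    constructor
    · intro h x hx
      have := h hx
      rw [Ideal.mem_comap, Ideal.mem_comap] at this
      rw [Ideal.mem_comap, ← he]
      exact this
    · intro h x hx
      have := h hx
      rw [Ideal.mem_comap, ← he] at this
      rw [Ideal.mem_comap, Ideal.mem_comap]
      exact this
  refine h6 ⟨p''.asIdeal.comap e.toRingHom, Ideal.comap_isPrime _ _⟩ ?_ ?_
  · intro hle
    exact hp'' ((hmemI p''.asIdeal).1 hle)
  · intro q1 hpq1 hIq1
    have hq1eq : (q1.asIdeal.comap e.symm.toRingHom).comap e.toRingHom = q1.asIdeal := by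
      ext x
      simp
    have hle1 : p'' ≤ PrimeSpectrum.comap e.symm.toRingHom q1 := by
      intro x hx
      show e.symm x ∈ q1.asIdeal
      apply hpq1
      show e (e.symm x) ∈ p''.asIdeal
      rw [RingEquiv.apply_symm_apply]
      exact hx
    have hle2 : (I').map (algebraMap A' W1) ≤ (PrimeSpectrum.comap e.symm.toRingHom q1).asIdeal := by
      rw [hIW, ← hmemI]
      show I.map (algebraMap A C0) ≤ (q1.asIdeal.comap e.symm.toRingHom).comap e.toRingHom
      rw [hq1eq]
      exact hIq1
    haveI hmx : (q1.asIdeal.comap e.symm.toRingHom).IsMaximal :=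
      hmax (PrimeSpectrum.comap e.symm.toRingHom q1) hle1 hle2
    rw [← hq1eq]
    exact Ideal.comap_isMaximal_of_surjective e.toRingHom e.surjective

end Six

end Main

end Groth.Agent.Lib.CplDepthH5
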