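import Mathlib
import Groth.Agent.Lib.FFTransfer_helper3
import Groth.Agent.Lib.CompleteNoeth_lead
import Groth.Agent.Lib.EtaleReduced_helper7

/-!
# Completions of étale local homomorphisms (helper3)

For a flat, unramified, essentially finite-type local homomorphism `A → B` of Noetherian local
rings, `B̂` is finite étale over `Â`; in particular `B̂` is reduced if `Â` is.
-/

universe u

open IsLocalRing

namespace Groth.Agent.Lib.CplEtaleH3

open Groth.Agent.Lib.FFTransferH3

variable (A B : Type u) [CommRing A] [CommRing B] [IsNoetherianRing A] [IsNoetherianRing B]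
  [IsLocalRing A] [IsLocalRing B] [Algebra A B] [IsLocalHom (algebraMap A B)]

set_option maxHeartbeats 800000 in
set_option synthInstance.maxHeartbeats 200000 in
theorem etale_cpl [Module.Flat A B] [Algebra.EssFiniteType A B]
    [Algebra.FormallyUnramified A B] :
    letI := algCpl A B
    Module.Finite (EGA4.Cpl A) (EGA4.Cpl B) ∧ Algebra.Etale (EGA4.Cpl A) (EGA4.Cpl B) := by
  letI := algCpl A B
  haveI := tower A B
  haveI := tower' A B
  haveI := flat_cpl A B
  haveI := isLocalHom_cpl A B
  haveI := noeth_cpl A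
  haveI := noeth_cpl B
  haveI hloc : IsLocalHom (algebraMap A (EGA4.Cpl B)) := by
    rw [IsScalarTower.algebraMap_eq A B (EGA4.Cpl B)]
    exact RingHom.isLocalHom_comp _ _
  have hmA : (maximalIdeal A).map (algebraMap A (EGA4.Cpl A)) = maximalIdeal (EGA4.Cpl A) :=
    AdicCompletion.maximalIdeal_eq_map.symm
  have hmB : (maximalIdeal B).map (algebraMap B (EGA4.Cpl B)) = maximalIdeal (EGA4.Cpl B) :=
    AdicCompletion.maximalIdeal_eq_map.symm
  have hmAB : (maximalIdeal A).map (algebraMap A B) = maximalIdeal B :=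
    Algebra.FormallyUnramified.map_maximalIdeal
  have hmap : (maximalIdeal (EGA4.Cpl A)).map (algebraMap (EGA4.Cpl A) (EGA4.Cpl B)) =
      maximalIdeal (EGA4.Cpl B) := by
    rw [← hmA, Ideal.map_map, ← IsScalarTower.algebraMap_eq A (EGA4.Cpl A) (EGA4.Cpl B),
      IsScalarTower.algebraMap_eq A B (EGA4.Cpl B), ← Ideal.map_map, hmAB, hmB]
  -- residue fields
  have hbij : Function.Bijective (IsScalarTower.toAlgHom (ResidueField A) (ResidueField B)
      (ResidueField (EGA4.Cpl B))) := by
    convert AdicCompletion.residueField_map_bijective B using 1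
    funext x
    obtain ⟨x, rfl⟩ := residue_surjective x
    rfl
  let σ : ResidueField B ≃ₐ[ResidueField A] ResidueField (EGA4.Cpl B) :=
    AlgEquiv.ofBijective (IsScalarTower.toAlgHom (ResidueField A) (ResidueField B)
      (ResidueField (EGA4.Cpl B))) hbij
  haveI : Module.Finite (ResidueField A) (ResidueField B) := inferInstance
  haveI : Algebra.IsSeparable (ResidueField A) (ResidueField B) := inferInstance
  haveI : Module.Finite (ResidueField A) (ResidueField (EGA4.Cpl B)) :=
    Module.Finite.equiv σ.toLinearEquiv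
  haveI : Algebra.IsSeparable (ResidueField A) (ResidueField (EGA4.Cpl B)) :=
    AlgEquiv.Algebra.isSeparable σ
  haveI : Module.Finite (ResidueField (EGA4.Cpl A)) (ResidueField (EGA4.Cpl B)) :=
    Module.Finite.of_restrictScalars_finite (ResidueField A) _ _
  haveI : Algebra.IsSeparable (ResidueField (EGA4.Cpl A)) (ResidueField (EGA4.Cpl B)) :=
    Algebra.isSeparable_tower_top_of_isSeparable (ResidueField A) (ResidueField (EGA4.Cpl A))
      (ResidueField (EGA4.Cpl B))
  haveI : Module.Finite (EGA4.Cpl A) (ResidueField (EGA4.Cpl B)) :=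
    Module.Finite.trans (ResidueField (EGA4.Cpl A)) _
  haveI : IsHausdorff (maximalIdeal (EGA4.Cpl A)) (EGA4.Cpl B) :=
    IsHausdorff.of_map (J := maximalIdeal (EGA4.Cpl B)) hmap.le
  have hfin : Module.Finite (EGA4.Cpl A) (EGA4.Cpl B) := by
    apply Groth.Agent.Lib.CompleteNoethLead.finite_of_hausdorff (maximalIdeal (EGA4.Cpl A))
      (EGA4.Cpl B)
    have heq : (maximalIdeal (EGA4.Cpl A) • ⊤ : Submodule (EGA4.Cpl A) (EGA4.Cpl B)) =
        (maximalIdeal (EGA4.Cpl B)).restrictScalars (EGA4.Cpl A) := by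
      rw [Ideal.smul_top_eq_map, hmap]
    rw [heq]
    haveI : Module.Finite (EGA4.Cpl A) (EGA4.Cpl B ⧸ maximalIdeal (EGA4.Cpl B)) :=
      ‹Module.Finite (EGA4.Cpl A) (ResidueField (EGA4.Cpl B))›
    exact Module.Finite.equiv
      (Submodule.Quotient.restrictScalarsEquiv (EGA4.Cpl A) (maximalIdeal (EGA4.Cpl B))).symm
  haveI := hfin
  haveI : Algebra.FormallyUnramified (EGA4.Cpl A) (EGA4.Cpl B) :=
    Algebra.FormallyUnramified.of_map_maximalIdeal hmap
  haveI : Algebra.FinitePresentation (EGA4.Cpl A) (EGA4.Cpl B) :=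
    Algebra.FinitePresentation.of_finiteType.1 inferInstance
  exact ⟨hfin, Algebra.Etale.of_formallyUnramified_of_flat⟩

theorem isReduced_cpl [Module.Flat A B] [Algebra.EssFiniteType A B]
    [Algebra.FormallyUnramified A B] (hA : IsReduced (EGA4.Cpl A)) : IsReduced (EGA4.Cpl B) := by
  letI := algCpl A B
  obtain ⟨-, het⟩ := etale_cpl A B
  exact Groth.Agent.Lib.EtaleReduced_helper7.isReduced_of_etale (EGA4.Cpl A) (EGA4.Cpl B)

end Groth.Agent.Lib.CplEtaleH3
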