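import Mathlib
import Groth.Prelude.Def_Curv2

/-!
# Stalks of the base change to the completion (helper9, S7305).  APPEND-ONLY once landed.
-/

set_option autoImplicit false
universe u

namespace Groth.Agent.Lib.CplStalk

open IsLocalRing

section alg

variable {B B' : Type*} [CommRing B] [CommRing B'] (φ : B →+* B') (𝔞 : Ideal B) (n : ℕ)

/-- `φ` induces a bijection `B/𝔞^n → B'/𝔞^n B'`. -/
structure NearIso : Prop where
  surj : ∀ y : B', ∃ b : B, y - φ b ∈ (𝔞 ^ n).map φ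
  inj : ∀ b : B, φ b ∈ (𝔞 ^ n).map φ → b ∈ 𝔞 ^ n

variable {φ 𝔞 n}

theorem NearIso.exists_mem (H : NearIso φ 𝔞 n) {𝔟 : Ideal B} {y : B'}
    (hy : y ∈ 𝔟.map φ) : ∃ c ∈ 𝔟, y - φ c ∈ (𝔞 ^ n).map φ := by
  change y ∈ Ideal.span _ at hy
  induction hy using Submodule.span_induction with
  | mem x hx =>
    obtain ⟨b, hb, rfl⟩ := hx
    exact ⟨b, hb, by simp⟩
  | zero => exact ⟨0, 𝔟.zero_mem, by simp⟩
  | add x y _ _ hx hy =>
    obtain ⟨c, hc, hc'⟩ := hx
    obtain ⟨d, hd, hd'⟩ := hy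
    refine ⟨c + d, 𝔟.add_mem hc hd, ?_⟩
    have : x + y - φ (c + d) = (x - φ c) + (y - φ d) := by rw [map_add]; ring
    rw [this]
    exact Ideal.add_mem _ hc' hd'
  | smul r x _ hx =>
    obtain ⟨c, hc, hc'⟩ := hx
    obtain ⟨s, hs⟩ := H.surj r
    refine ⟨s * c, 𝔟.mul_mem_left _ hc, ?_⟩
    have : r • x - φ (s * c) = r * (x - φ c) + (r - φ s) * φ c := by
      rw [map_mul, smul_eq_mul]; ring
    rw [this]
    exact Ideal.add_mem _ (Ideal.mul_mem_left _ _ hc') (Ideal.mul_mem_right _ _ hs)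

theorem NearIso.mem_of_map_mem (H : NearIso φ 𝔞 n) {𝔟 : Ideal B} (h𝔟 : 𝔞 ^ n ≤ 𝔟) {x : B}
    (hx : φ x ∈ 𝔟.map φ) : x ∈ 𝔟 := by
  obtain ⟨c, hc, hc'⟩ := H.exists_mem hx
  rw [← map_sub] at hc'
  have h1 := h𝔟 (H.inj _ hc')
  have h2 : x = (x - c) + c := by ring
  rw [h2]
  exact 𝔟.add_mem h1 hc

theorem bijective_quotientMap (H : NearIso φ 𝔞 n) (hn : 1 ≤ n)
    (q : Ideal B') [q.IsPrime] (p : Ideal B) [p.IsPrime] (hpq : q.comap φ = p) (h𝔞 : 𝔞 ≤ p)
    (Bp : Type*) [CommRing Bp] [Algebra B Bp] [IsLocalization.AtPrime Bp p] [IsLocalRing Bp]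
    (Bq : Type*) [CommRing Bq] [Algebra B' Bq] [IsLocalization.AtPrime Bq q] [IsLocalRing Bq]
    (ψ : Bp →+* Bq) (hψ : ∀ b, ψ (algebraMap B Bp b) = algebraMap B' Bq (φ b))
    (h : maximalIdeal Bp ^ n ≤ (maximalIdeal Bq ^ n).comap ψ) :
    Function.Bijective (Ideal.quotientMap (maximalIdeal Bq ^ n) ψ h) := by
  have hn0 : n ≠ 0 := by omega
  have hpq' : ∀ b, φ b ∈ q ↔ b ∈ p := fun b => by rw [← hpq]; rfl
  have han : (𝔞 ^ n).map φ ≤ q ^ n := by
    rw [Ideal.map_pow]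
    refine Ideal.pow_right_mono ?_ n
    rw [Ideal.map_le_iff_le_comap, hpq]
    exact h𝔞
  have hanq : (𝔞 ^ n).map φ ≤ q := han.trans (Ideal.pow_le_self hn0)
  -- q is extended from p
  have hq : q = p.map φ := by
    apply le_antisymm
    · intro y hy
      obtain ⟨b, hb⟩ := H.surj y
      have hb2 : φ b ∈ q := by
        have : φ b = y - (y - φ b) := by ring
        rw [this]
        exact q.sub_mem hy (hanq hb)
      have h3 : (𝔞 ^ n).map φ ≤ p.map φ :=
        Ideal.map_mono ((Ideal.pow_le_self hn0).trans h𝔞)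
      have : y = φ b + (y - φ b) := by ring
      rw [this]
      exact Ideal.add_mem _ (Ideal.mem_map_of_mem _ ((hpq' b).mp hb2)) (h3 hb)
    · rw [Ideal.map_le_iff_le_comap, hpq]
  have hqn : q ^ n = (p ^ n).map φ := by rw [hq, Ideal.map_pow]
  have hapn : 𝔞 ^ n ≤ p ^ n := Ideal.pow_right_mono h𝔞 n
  have hQ : maximalIdeal Bq ^ n = (q ^ n).map (algebraMap B' Bq) := by
    rw [Ideal.map_pow, IsLocalization.AtPrime.map_eq_maximalIdeal]
  have hP : maximalIdeal Bp ^ n = (p ^ n).map (algebraMap B Bp) := by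
    rw [Ideal.map_pow, IsLocalization.AtPrime.map_eq_maximalIdeal]
  have key1 : ∀ t' : B', t' ∉ q → ∃ t : B, t ∉ p ∧ t' - φ t ∈ (𝔞 ^ n).map φ := by
    intro t' ht'
    obtain ⟨t, ht⟩ := H.surj t'
    refine ⟨t, fun htp => ht' ?_, ht⟩
    have : t' = φ t + (t' - φ t) := by ring
    rw [this]
    exact q.add_mem ((hpq' t).mpr htp) (hanq ht)
  constructor
  · rw [injective_iff_map_eq_zero]
    intro xb hx
    obtain ⟨x, rfl⟩ := Ideal.Quotient.mk_surjective xb
    rw [Ideal.quotientMap_mk, Ideal.Quotient.eq_zero_iff_mem] at hx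
    rw [Ideal.Quotient.eq_zero_iff_mem]
    obtain ⟨b, s, rfl⟩ := IsLocalization.exists_mk'_eq p.primeCompl x
    have h1 : algebraMap B' Bq (φ b) ∈ maximalIdeal Bq ^ n := by
      rw [← hψ, ← IsLocalization.mk'_spec Bp b s, map_mul]
      exact Ideal.mul_mem_right _ _ hx
    rw [hQ, IsLocalization.mem_map_algebraMap_iff q.primeCompl] at h1
    obtain ⟨⟨c, t'⟩, hct⟩ := h1
    rw [← map_mul, IsLocalization.eq_iff_exists q.primeCompl] at hct
    obtain ⟨u, hu⟩ := hct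
    have hT' : (u : B') * t' ∉ q := (u * t').2
    obtain ⟨T, hTp, hT⟩ := key1 _ hT'
    have h2 : φ (T * b) ∈ (p ^ n).map φ := by
      have : φ (T * b) = (u : B') * c - ((u : B') * t' - φ T) * φ b := by
        rw [map_mul]
        linear_combination hu
      rw [this, ← hqn]
      exact Ideal.sub_mem _ (Ideal.mul_mem_left _ _ c.2) (Ideal.mul_mem_right _ _ (han hT))
    have h3 : T * b ∈ p ^ n := H.mem_of_map_mem hapn h2
    have hunit : IsUnit (algebraMap B Bp (T * s)) :=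
      IsLocalization.map_units Bp (⟨T * s, Ideal.IsPrime.mul_notMem ‹_› hTp s.2⟩ : p.primeCompl)
    rw [hP, ← Ideal.unit_mul_mem_iff_mem _ hunit]
    have : algebraMap B Bp (T * s) * IsLocalization.mk' Bp b s = algebraMap B Bp (T * b) := by
      rw [map_mul, mul_assoc, mul_comm _ (IsLocalization.mk' Bp b s), IsLocalization.mk'_spec,
        ← map_mul]
    rw [this]
    exact Ideal.mem_map_of_mem _ h3
  · intro yb
    obtain ⟨y, rfl⟩ := Ideal.Quotient.mk_surjective yb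
    obtain ⟨b', s', rfl⟩ := IsLocalization.exists_mk'_eq q.primeCompl y
    obtain ⟨b, hb⟩ := H.surj b'
    obtain ⟨s, hsp, hs⟩ := key1 _ s'.2
    refine ⟨Ideal.Quotient.mk _ (IsLocalization.mk' Bp b (⟨s, hsp⟩ : p.primeCompl)), ?_⟩
    rw [Ideal.quotientMap_mk, Ideal.Quotient.eq]
    have hφs : φ s ∉ q := fun h => hsp ((hpq' s).mp h)
    have hunit : IsUnit (algebraMap B' Bq ((s' : B') * φ s)) :=
      IsLocalization.map_units Bq (⟨(s' : B') * φ s, Ideal.IsPrime.mul_notMem ‹_› s'.2 hφs⟩ :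
        q.primeCompl)
    rw [← Ideal.unit_mul_mem_iff_mem _ hunit]
    have e1 : algebraMap B' Bq (φ s) * ψ (IsLocalization.mk' Bp b (⟨s, hsp⟩ : p.primeCompl)) =
        algebraMap B' Bq (φ b) := by
      rw [← hψ, ← hψ, ← map_mul, mul_comm]
      congr 1
      exact IsLocalization.mk'_spec Bp b (⟨s, hsp⟩ : p.primeCompl)
    have e2 : algebraMap B' Bq (s' : B') * IsLocalization.mk' Bq b' s' = algebraMap B' Bq b' := by
      rw [mul_comm]; exact IsLocalization.mk'_spec Bq b' s'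
    have : algebraMap B' Bq ((s' : B') * φ s) *
        (ψ (IsLocalization.mk' Bp b (⟨s, hsp⟩ : p.primeCompl)) - IsLocalization.mk' Bq b' s') =
        algebraMap B' Bq (((s' : B') - φ s) * φ b - φ s * (b' - φ b)) := by
      simp only [map_sub, map_mul]
      linear_combination (algebraMap B' Bq (s' : B')) * e1 - (algebraMap B' Bq (φ s)) * e2
    rw [this, hQ]
    refine Ideal.mem_map_of_mem _ (han ?_)
    exact Ideal.sub_mem _ (Ideal.mul_mem_right _ _ hs) (Ideal.mul_mem_left _ _ hb)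

end alg

section scheme

open AlgebraicGeometry CategoryTheory Limits

variable (A : Type u) [CommRing A] [IsLocalRing A]

theorem exists_sub_mem_pow (hm : (maximalIdeal A).FG) (n : ℕ) (z : Curv2.cpl A) :
    ∃ a : A, z - algebraMap A (Curv2.cpl A) a ∈
      ((maximalIdeal A) ^ n).map (algebraMap A (Curv2.cpl A)) := by
  obtain ⟨a, ha⟩ := Submodule.Quotient.mk_surjective _
    (AdicCompletion.eval (maximalIdeal A) A n z)
  refine ⟨a, ?_⟩
  have h1 : z - algebraMap A (Curv2.cpl A) a ∈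
      LinearMap.ker (AdicCompletion.eval (maximalIdeal A) A n) := by
    rw [LinearMap.mem_ker, map_sub, sub_eq_zero, ← ha]
    rfl
  rw [← AdicCompletion.pow_smul_top_eq_ker_eval hm, Ideal.smul_top_eq_map] at h1
  exact h1

variable {X : Scheme.{u}} (f : X ⟶ Spec (CommRingCat.of A))

theorem isPushout_sections {U : X.Opens} (hU : IsAffineOpen U) :
    IsPushout (f.appLE ⊤ U le_top)
      ((Spec.map (CommRingCat.ofHom (algebraMap A (Curv2.cpl A)))).appLE ⊤ ⊤ le_top)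
      ((Curv2.bcCplFst A f).appLE U ((Curv2.bcCplFst A f) ⁻¹ᵁ U) le_rfl)
      ((Curv2.bcCplSnd A f).appLE ⊤ ((Curv2.bcCplFst A f) ⁻¹ᵁ U) le_top) := by
  have H : IsPullback (Curv2.bcCplFst A f) (Curv2.bcCplSnd A f) f
      (Spec.map (CommRingCat.ofHom (algebraMap A (Curv2.cpl A)))) := IsPullback.of_hasPullback _ _
  have h1 := isIso_pushoutSection_of_isAffineOpen H (US := ⊤) (UT := ⊤) (UX := U) le_top le_top
    (UY := (Curv2.bcCplFst A f) ⁻¹ᵁ U) (by simp) (isAffineOpen_top _) (isAffineOpen_top _) hU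
  exact (isIso_pushoutSection_iff ..).mp h1

/-- the ring map `A → Γ(X, U)` -/
noncomputable def ιt (U : X.Opens) : A →+* Γ(X, U) :=
  ((Scheme.ΓSpecIso (CommRingCat.of A)).inv ≫ f.appLE ⊤ U le_top).hom

/-- the ring map `Â → Γ(Y, pr₁⁻¹U)` -/
noncomputable def θt (U : X.Opens) :
    Curv2.cpl A →+* Γ(Curv2.bcCpl A f, (Curv2.bcCplFst A f) ⁻¹ᵁ U) :=
  ((Scheme.ΓSpecIso (CommRingCat.of (Curv2.cpl A))).inv ≫
    (Curv2.bcCplSnd A f).appLE ⊤ _ le_top).hom

theorem nat_cpl :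
    (Scheme.ΓSpecIso (CommRingCat.of A)).inv ≫
      (Spec.map (CommRingCat.ofHom (algebraMap A (Curv2.cpl A)))).appLE ⊤ ⊤ le_top =
    CommRingCat.ofHom (algebraMap A (Curv2.cpl A)) ≫
      (Scheme.ΓSpecIso (CommRingCat.of (Curv2.cpl A))).inv := by
  rw [Scheme.ΓSpecIso_inv_naturality]
  congr 1

theorem θt_comp {U : X.Opens} (hU : IsAffineOpen U) :
    (θt A f U).comp (algebraMap A (Curv2.cpl A)) =
      ((Curv2.bcCplFst A f).appLE U _ le_rfl).hom.comp (ιt A f U) := by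
  have w := (isPushout_sections A f hU).w
  have h1 : CommRingCat.ofHom (algebraMap A (Curv2.cpl A)) ≫
      (Scheme.ΓSpecIso (CommRingCat.of (Curv2.cpl A))).inv ≫
      (Curv2.bcCplSnd A f).appLE ⊤ ((Curv2.bcCplFst A f) ⁻¹ᵁ U) le_top =
      ((Scheme.ΓSpecIso (CommRingCat.of A)).inv ≫ f.appLE ⊤ U le_top) ≫
        (Curv2.bcCplFst A f).appLE U _ le_rfl := by
    rw [← Category.assoc, ← nat_cpl, Category.assoc, Category.assoc, w]
  exact congrArg CommRingCat.Hom.hom h1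

theorem nearIso (hm : (maximalIdeal A).FG) {U : X.Opens} (hU : IsAffineOpen U) (n : ℕ) :
    NearIso ((Curv2.bcCplFst A f).appLE U ((Curv2.bcCplFst A f) ⁻¹ᵁ U) le_rfl).hom
      (Ideal.map (ιt A f U) (maximalIdeal A)) n := by
  have P := isPushout_sections A f hU
  have K := θt_comp A f hU
  generalize hφ : (Curv2.bcCplFst A f).appLE U ((Curv2.bcCplFst A f) ⁻¹ᵁ U) le_rfl = φ at P K
  generalize h𝔞 : Ideal.map (ιt A f U) (maximalIdeal A) = 𝔞
  have hθ : ∀ z : Curv2.cpl A, ∃ b, θt A f U z - φ.hom b ∈ (𝔞 ^ n).map φ.hom := by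
    intro z
    obtain ⟨a, ha⟩ := exists_sub_mem_pow A hm n z
    refine ⟨ιt A f U a, ?_⟩
    have h1 : θt A f U z - φ.hom (ιt A f U a) = θt A f U (z - algebraMap A _ a) := by
      rw [map_sub]
      congr 1
      exact (RingHom.congr_fun K a).symm
    rw [h1]
    have h2 : ((maximalIdeal A ^ n).map (algebraMap A (Curv2.cpl A))).map (θt A f U) =
        (𝔞 ^ n).map φ.hom := by
      rw [Ideal.map_map, K, ← Ideal.map_map, Ideal.map_pow, h𝔞]
    rw [← h2]
    exact Ideal.mem_map_of_mem _ ha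
  constructor
  · let R : Subring Γ(Curv2.bcCpl A f, (Curv2.bcCplFst A f) ⁻¹ᵁ U) :=
      { carrier := {y | ∃ b, y - φ.hom b ∈ (𝔞 ^ n).map φ.hom}
        mul_mem' := by
          rintro y₁ y₂ ⟨b₁, h₁⟩ ⟨b₂, h₂⟩
          refine ⟨b₁ * b₂, ?_⟩
          have : y₁ * y₂ - φ.hom (b₁ * b₂) = y₁ * (y₂ - φ.hom b₂) + (y₁ - φ.hom b₁) * φ.hom b₂ := by
            rw [map_mul]; ring
          rw [this]
          exact Ideal.add_mem _ (Ideal.mul_mem_left _ _ h₂) (Ideal.mul_mem_right _ _ h₁)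
        one_mem' := ⟨1, by simp⟩
        add_mem' := by
          rintro y₁ y₂ ⟨b₁, h₁⟩ ⟨b₂, h₂⟩
          refine ⟨b₁ + b₂, ?_⟩
          have : y₁ + y₂ - φ.hom (b₁ + b₂) = (y₁ - φ.hom b₁) + (y₂ - φ.hom b₂) := by
            rw [map_add]; ring
          rw [this]
          exact Ideal.add_mem _ h₁ h₂
        zero_mem' := ⟨0, by simp⟩
        neg_mem' := by
          rintro y ⟨b, h⟩
          refine ⟨-b, ?_⟩
          have : -y - φ.hom (-b) = -(y - φ.hom b) := by rw [map_neg]; ring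
          rw [this]
          exact Ideal.neg_mem_iff _ |>.mpr h }
    have hφR : ∀ b, φ.hom b ∈ R := fun b => ⟨b, by simp⟩
    have hθR : ∀ z', ((Curv2.bcCplSnd A f).appLE ⊤ ((Curv2.bcCplFst A f) ⁻¹ᵁ U) le_top).hom z' ∈ R := by
      intro z'
      obtain ⟨b, hb⟩ := hθ ((Scheme.ΓSpecIso (CommRingCat.of (Curv2.cpl A))).hom z')
      refine ⟨b, ?_⟩
      have : θt A f U ((Scheme.ΓSpecIso (CommRingCat.of (Curv2.cpl A))).hom z') =
          ((Curv2.bcCplSnd A f).appLE ⊤ ((Curv2.bcCplFst A f) ⁻¹ᵁ U) le_top).hom z' := by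
        simp [θt]
      rwa [this] at hb
    let φR : Γ(X, U) ⟶ CommRingCat.of R := CommRingCat.ofHom (φ.hom.codRestrict R hφR)
    let θR : Γ(Spec (CommRingCat.of (Curv2.cpl A)), ⊤) ⟶ CommRingCat.of R :=
      CommRingCat.ofHom (RingHom.codRestrict _ R hθR)
    have w : f.appLE ⊤ U le_top ≫ φR =
        (Spec.map (CommRingCat.ofHom (algebraMap A (Curv2.cpl A)))).appLE ⊤ ⊤ le_top ≫ θR := by
      ext x
      exact congr($(P.w) x)
    have hd : P.desc φR θR w ≫ CommRingCat.ofHom R.subtype = 𝟙 _ := by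
      apply P.hom_ext
      · rw [P.inl_desc_assoc, Category.comp_id]; rfl
      · rw [P.inr_desc_assoc, Category.comp_id]; rfl
    intro y
    have h1 := congr($hd y)
    have h2 : y ∈ R := by
      rw [← show _ = y from h1]
      exact ((P.desc φR θR w).hom y).2
    exact h2
  · intro b hb
    have hle : maximalIdeal A ^ n ≤ (𝔞 ^ n).comap (ιt A f U) := by
      rw [← Ideal.map_le_iff_le_comap, Ideal.map_pow, h𝔞]
    let mkB : Γ(X, U) ⟶ CommRingCat.of (Γ(X, U) ⧸ 𝔞 ^ n) :=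
      CommRingCat.ofHom (Ideal.Quotient.mk _)
    let σ0 : Curv2.cpl A →+* Γ(X, U) ⧸ 𝔞 ^ n :=
      (Ideal.quotientMap (𝔞 ^ n) (ιt A f U) hle).comp
        (AdicCompletion.evalₐ (maximalIdeal A) n).toRingHom
    let σ : Γ(Spec (CommRingCat.of (Curv2.cpl A)), ⊤) ⟶ CommRingCat.of (Γ(X, U) ⧸ 𝔞 ^ n) :=
      (Scheme.ΓSpecIso (CommRingCat.of (Curv2.cpl A))).hom ≫ CommRingCat.ofHom σ0
    have w' : f.appLE ⊤ U le_top ≫ mkB =
        (Spec.map (CommRingCat.ofHom (algebraMap A (Curv2.cpl A)))).appLE ⊤ ⊤ le_top ≫ σ := by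
      rw [← cancel_epi (Scheme.ΓSpecIso (CommRingCat.of A)).inv, ← Category.assoc,
        ← Category.assoc, nat_cpl]
      ext a
      simp only [σ, Category.assoc, Iso.inv_hom_id_assoc]
      show Ideal.Quotient.mk _ (ιt A f U a) = σ0 (algebraMap A _ a)
      simp only [σ0, RingHom.coe_comp, Function.comp_apply, AlgHom.toRingHom_eq_coe,
        RingHom.coe_coe, AlgHom.commutes]
      rfl
    have h0 : (P.desc mkB σ w').hom (φ.hom b) = Ideal.Quotient.mk _ b :=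
      congr($(P.inl_desc mkB σ w') b)
    have hker : (𝔞 ^ n).map φ.hom ≤ RingHom.ker (P.desc mkB σ w').hom := by
      rw [Ideal.map_le_iff_le_comap]
      intro c hc
      show (P.desc mkB σ w').hom (φ.hom c) = 0
      have h1 : (P.desc mkB σ w').hom (φ.hom c) = Ideal.Quotient.mk _ c :=
        congr($(P.inl_desc mkB σ w') c)
      rw [h1]
      exact Ideal.Quotient.eq_zero_iff_mem.mpr hc
    have h3 := hker hb
    rw [RingHom.mem_ker, h0] at h3
    exact Ideal.Quotient.eq_zero_iff_mem.mp h3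

theorem main7305 (hm : (IsLocalRing.maximalIdeal A).FG)
    (q : ↥(Curv2.bcCpl A f))
    (hq : f.base ((Curv2.bcCplFst A f).base q) = IsLocalRing.closedPoint A) (n : ℕ) (hn : 1 ≤ n)
    (h : IsLocalRing.maximalIdeal (X.presheaf.stalk ((Curv2.bcCplFst A f).base q)) ^ n ≤
      (IsLocalRing.maximalIdeal ((Curv2.bcCpl A f).presheaf.stalk q) ^ n).comap
        ((Curv2.bcCplFst A f).stalkMap q).hom) :
    Function.Bijective (Ideal.quotientMap
      (IsLocalRing.maximalIdeal ((Curv2.bcCpl A f).presheaf.stalk q) ^ n)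
      ((Curv2.bcCplFst A f).stalkMap q).hom h) := by
  obtain ⟨_, ⟨U, hU, rfl⟩, hpU, -⟩ := X.isBasis_affineOpens.exists_subset_of_mem_open
    (Set.mem_univ ((Curv2.bcCplFst A f) q)) isOpen_univ
  haveI : IsAffineHom (Curv2.bcCplFst A f) := MorphismProperty.pullback_fst _ _ inferInstance
  have hV : IsAffineOpen ((Curv2.bcCplFst A f) ⁻¹ᵁ U) := hU.preimage _
  have hqV : q ∈ (Curv2.bcCplFst A f) ⁻¹ᵁ U := hpU
  letI := TopCat.Presheaf.algebra_section_stalk X.presheaf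
    (⟨(Curv2.bcCplFst A f) q, hpU⟩ : U)
  letI := TopCat.Presheaf.algebra_section_stalk (Curv2.bcCpl A f).presheaf
    (⟨q, hqV⟩ : ((Curv2.bcCplFst A f) ⁻¹ᵁ U : (Curv2.bcCpl A f).Opens))
  haveI := hU.isLocalization_stalk ⟨_, hpU⟩
  haveI := hV.isLocalization_stalk ⟨q, hqV⟩
  refine bijective_quotientMap (nearIso A f hm hU n) hn (hV.primeIdealOf ⟨q, hqV⟩).asIdeal
    (hU.primeIdealOf ⟨_, hpU⟩).asIdeal ?_ ?_ _ _ _ ?_ h
  · exact congr($(IsAffineOpen.comap_primeIdealOf_appLE U hU _ hV le_rfl hqV).asIdeal)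
  · rw [Ideal.map_le_iff_le_comap]
    intro a ha
    show ιt A f U a ∈ (hU.primeIdealOf ⟨_, hpU⟩).asIdeal
    by_contra hcon
    have h1 : IsUnit (algebraMap Γ(X, U) (X.presheaf.stalk ((Curv2.bcCplFst A f) q))
        (ιt A f U a)) :=
      (IsLocalization.AtPrime.isUnit_to_map_iff _ (hU.primeIdealOf ⟨_, hpU⟩).asIdeal _).mpr hcon
    have h2 : (Curv2.bcCplFst A f) q ∈ X.basicOpen (ιt A f U a) :=
      (X.mem_basicOpen _ _ hpU).mpr h1
    have h3 : X.basicOpen (ιt A f U a) =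
        U ⊓ f ⁻¹ᵁ ((Spec (CommRingCat.of A)).basicOpen
          ((Scheme.ΓSpecIso (CommRingCat.of A)).inv a)) :=
      Scheme.basicOpen_appLE f U ⊤ le_top _
    rw [h3, basicOpen_eq_of_affine] at h2
    have h4 : a ∉ (f ((Curv2.bcCplFst A f) q)).asIdeal := h2.2
    have h5 : f ((Curv2.bcCplFst A f) q) = IsLocalRing.closedPoint A := hq
    rw [h5] at h4
    exact h4 ha
  · intro b
    have h1 := Scheme.Hom.germ_stalkMap_apply (Curv2.bcCplFst A f) U q hpU b
    rw [Scheme.Hom.app_eq_appLE] at h1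
    exact h1

end scheme

end Groth.Agent.Lib.CplStalk
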