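import Mathlib
import Groth.Prelude
import Groth.Agent.Lib.CptPerf1_lead

/-!
# Finite factorisation of maps into direct sums, relative to a class of families (helper3)

A variant of lead's `CompQL.CQ` where the families of objects are restricted by an arbitrary
predicate (uniformly bounded below families, all families, ...).

* `CQF Pr E`: every map from `E` to a direct sum of a family satisfying `Pr` is fixed by the
  idempotent of a finite set of indices;
* `CQF.of_iso`, `CQF.of_adj`;
* `bijective_of_cqf`: translation to the bijectivity of `⊕ Hom(E, M_i) → Hom(E, ⊕ M_i)`, for index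
  types lifted one universe up.
-/

set_option autoImplicit false
set_option linter.all false
set_option maxHeartbeats 1600000
set_option backward.isDefEq.respectTransparency false
set_option backward.isDefEq.respectTransparency.types false
set_option backward.defeqAttrib.useBackward true

universe u
open CategoryTheory CategoryTheory.Limits AlgebraicGeometry Opposite TopologicalSpace

attribute [local instance] HasDerivedCategory.standard

namespace Groth.Agent.Lib.CptFamH3

open Groth.Agent.Lib Groth.Agent.Lib.CompQL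

/-- a class of small families of objects of `D(O_T)` -/
abbrev Fam (T : Scheme.{u}) : Type (u + 1) := ∀ (ι : Type u), (ι → DCoh.D T) → Prop

/-- every map from `E` to a direct sum of a family in `Pr` is fixed by the idempotent of a finite
set of indices -/
def CQF {T : Scheme.{u}} (Pr : Fam T) (E : DCoh.D T) : Prop :=
  ∀ (ι : Type u) (K : ι → DCoh.D T), Pr ι K →
    ∀ (P : DCoh.D T) (g : ∀ i, K i ⟶ P) (hc : IsColimit (Cofan.mk P g)) (φ : E ⟶ P),
      ∃ s : Finset ι, φ ≫ QcSect.e hc s = φ

theorem CQF.of_iso {T : Scheme.{u}} {Pr : Fam T} {E E' : DCoh.D T} (a : E ≅ E')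
    (h : CQF Pr E) : CQF Pr E' := by
  intro ι K hK P g hc φ
  obtain ⟨s, hs⟩ := h ι K hK P g hc (a.hom ≫ φ)
  refine ⟨s, ?_⟩
  rw [← cancel_epi a.hom, ← Category.assoc]
  exact hs

theorem CQF.of_adj {T T' : Scheme.{u}} {L : DCoh.D T ⥤ DCoh.D T'} {R : DCoh.D T' ⥤ DCoh.D T}
    (adj : L ⊣ R) {Pr : Fam T} {Pr' : Fam T'}
    (hRPr : ∀ (ι : Type u) (K : ι → DCoh.D T'), Pr' ι K → Pr ι (fun i => R.obj (K i)))
    (hRc : ∀ (ι : Type u) (K : ι → DCoh.D T'), Pr' ι K → ∀ (P : DCoh.D T') (g : ∀ i, K i ⟶ P),
      IsColimit (Cofan.mk P g) → Nonempty (IsColimit (Cofan.mk (R.obj P) (fun i => R.map (g i)))))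
    {E : DCoh.D T} (h : CQF Pr E) : CQF Pr' (L.obj E) := by
  intro ι K hK P g hc φ
  obtain ⟨hc'⟩ := hRc ι K hK P g hc
  haveI : R.IsRightAdjoint := adj.isRightAdjoint
  obtain ⟨s, hs⟩ := h ι (fun i => R.obj (K i)) (hRPr ι K hK) (R.obj P)
    (fun i => R.map (g i)) hc' (adj.homEquiv E P φ)
  refine ⟨s, ?_⟩
  apply (adj.homEquiv E P).injective
  rw [Adjunction.homEquiv_naturality_right, map_e hc R hc' s]
  exact hs

/-- reindexing a coproduct cofan along `ULift` -/
def cofanDown {A : Type*} [Category A] {I : Type u} {M : I → A} {P : A}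
    {g : ∀ i : ULift.{u + 1} I, M i.down ⟶ P} (hc : IsColimit (Cofan.mk P g)) :
    IsColimit (Cofan.mk P (fun i : I => g ⟨i⟩)) :=
  mkCofanColimit _ (fun t => Cofan.IsColimit.desc hc (fun j => t.inj j.down))
    (fun t i => Cofan.IsColimit.fac hc (fun j => t.inj j.down) ⟨i⟩)
    (fun t m hm => by
      apply Cofan.IsColimit.hom_ext hc
      intro j
      have h1 : g j ≫ Cofan.IsColimit.desc hc (fun j => t.inj j.down) = t.inj j.down :=
        Cofan.IsColimit.fac hc (fun j => t.inj j.down) j
      have h2 : g ⟨j.down⟩ ≫ m = t.inj j.down := hm j.down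
      change g j ≫ m = g j ≫ _
      rw [h1]
      exact h2)

/-- translation to the bijectivity of `⊕ Hom(E, M_i) → Hom(E, ⊕ M_i)` -/
theorem bijective_of_cqf {T : Scheme.{u}} {Pr : Fam T} {E : DCoh.D T} (h : CQF Pr E)
    (I : Type u) (M : I → DCoh.D T) (hM : Pr I M)
    [HasCoproduct fun i : ULift.{u + 1} I => M i.down] :
    Function.Bijective (CohDer.homSumToHomCoprod E (fun i : ULift.{u + 1} I => M i.down)) := by
  classical
  refine CptPerfL.bijective_of_fix (fun i : ULift.{u + 1} I => M i.down) (fun φ => ?_)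
  let hcU := coproductIsCoproduct (fun i : ULift.{u + 1} I => M i.down)
  let hcI := cofanDown hcU
  obtain ⟨s, hs⟩ := h I M hM _ _ hcI φ
  refine ⟨s.map ⟨ULift.up, ULift.up_injective⟩, ?_⟩
  have he : QcSect.e hcI s = QcSect.e hcU (s.map ⟨ULift.up, ULift.up_injective⟩) := by
    apply e_eq_of hcU
    · intro k hk
      obtain ⟨i, hi, rfl⟩ := Finset.mem_map.1 hk
      exact QcSect.inj_e_mem hcI hi
    · intro k hk
      have hk' : k.down ∉ s := fun h' => hk (Finset.mem_map.2 ⟨k.down, h', rfl⟩)
      exact inj_e_not_mem hcI hk'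
  show φ ≫ QcSect.e hcU _ = φ
  rw [← he]
  exact hs

end Groth.Agent.Lib.CptFamH3
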