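import Mathlib
import Groth.Prelude
import Groth.Agent.Lib.LpullAdj_helper3

/-!
# Derived adjunctions compatible with the underlying adjunction (helper3)

* `exists_derived_adj_compat`: the derived adjunction of `LpullAdjH3.exists_derived_adj`, together
  with the compatibilities of its unit and counit with those of the underlying adjunction.
* `map_bijective_of_derived_adj`: for `adj : G ⊣ F` with derived adjunction `G' ⊣ F'`, if `P` is
  `G`-"flat" (`α_P` iso) and `B` is `F`-"injective" (`β_B` iso and `L₂` bijective on maps into `B`),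
  then `L₁` is bijective on `Hom(P, F B)`.
-/

set_option autoImplicit false
set_option linter.all false
set_option maxHeartbeats 1600000
set_option backward.isDefEq.respectTransparency false
set_option backward.isDefEq.respectTransparency.types false
set_option backward.defeqAttrib.useBackward true

universe u
open CategoryTheory CategoryTheory.Limits AlgebraicGeometry Opposite TopologicalSpace

attribute [local instance] HasDerivedCategory.standard

namespace Groth.Agent.Lib.GammaPushH3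

section general

universe v₁ v₂ u₁ u₂

variable {C₁ : Type*} [Category C₁] {C₂ : Type u₂} [Category.{v₂} C₂] [HasZeroObject C₂]
  [HasShift C₂ ℤ] [Preadditive C₂]
  [∀ n : ℤ, (shiftFunctor C₂ n).Additive] [Pretriangulated C₂] [IsTriangulated C₂]
  (P : ObjectProperty C₂) [P.IsTriangulated]
  {D₁ D₂ : Type*} [Category D₁] [Category D₂]

/-- generic derived adjunction, with compatibilities -/
theorem exists_derived_adj_compat {Gl : C₁ ⥤ C₂} {Fr : C₂ ⥤ C₁} (adj : Gl ⊣ Fr)
    {L₁ : C₁ ⥤ D₁} {L₂ : C₂ ⥤ D₂} (W₁ : MorphismProperty C₁) (W₂ : MorphismProperty C₂)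
    [L₁.IsLocalization W₁] [L₂.IsLocalization W₂] [W₁.HasRightCalculusOfFractions]
    {G' : D₁ ⥤ D₂} {F' : D₂ ⥤ D₁} (α : L₁ ⋙ G' ⟶ Gl ⋙ L₂) (β : Fr ⋙ L₁ ⟶ L₂ ⋙ F')
    [G'.IsLeftDerivedFunctor α W₁] [F'.IsRightDerivedFunctor β W₂] (hW : W₂ = P.trW)
    (hP : ∀ X : C₂, ∃ (Y : C₂) (f : X ⟶ Y), P.trW f ∧ P.rightOrthogonal Y)
    (A : C₁ → Prop) (hA : ∀ X, A X → IsIso (α.app X))
    (hres : ∀ X, ∃ (X' : C₁) (s : X' ⟶ X), W₁ s ∧ A X') :
    ∃ adjD : G' ⊣ F',
      (∀ X₁ : C₁, adjD.unit.app (L₁.obj X₁) ≫ F'.map (α.app X₁) =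
        L₁.map (adj.unit.app X₁) ≫ β.app (Gl.obj X₁)) ∧
      (∀ X₂ : C₂, G'.map (β.app X₂) ≫ adjD.counit.app (L₂.obj X₂) =
        α.app (Fr.obj X₂) ≫ L₂.map (adj.counit.app X₂)) := by
  subst hW
  haveI := OrthDeriv.isRightDerivabilityStructure hP
  haveI h2 : (G' ⋙ F').IsLeftDerivedFunctor
      ((Functor.associator _ _ _).inv ≫ Functor.whiskerRight α F') W₁ := by
    refine Groth.Agent.Lib.DerivedAdj.isLeftDerivedFunctor_of_isIso_on L₁ W₁ _ _ A
      (fun X hX => ?_) hres
    haveI := hA X hX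
    rw [NatTrans.comp_app, Functor.whiskerRight_app, Functor.associator_inv_app,
      Category.id_comp]
    show IsIso (F'.map (α.app X))
    infer_instance
  have hβ : ∀ Y : P.rightOrthogonal.FullSubcategory, IsIso (β.app Y.obj) :=
    fun Y => (Groth.Agent.Lib.KInjGen8.derives_any P _).isIso_of_isRightDerivedFunctor β Y
  haveI h3 : (F' ⋙ G').IsRightDerivedFunctor
      (Functor.whiskerRight β G' ≫ (Functor.associator _ _ _).hom) P.trW := by
    apply (Groth.Agent.Lib.KInjGen8.derives_any P _).isRightDerivedFunctor_of_isIso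
    intro Y
    haveI := hβ Y
    rw [NatTrans.comp_app, Functor.whiskerRight_app, Functor.associator_hom_app,
      Category.comp_id]
    show IsIso (G'.map (β.app Y.obj))
    infer_instance
  exact ⟨adj.derived W₁ P.trW α β, fun X₁ => adj.derivedη_fac_app W₁ α β X₁,
    fun X₂ => adj.derivedε_fac_app P.trW α β X₂⟩

end general

section Bij

variable {C₁ C₂ D₁ D₂ : Type*} [Category C₁] [Category C₂] [Category D₁] [Category D₂]

/-- `L₁` is bijective on `Hom(P, F B)` -/
theorem map_bijective_of_derived_adj {Gl : C₁ ⥤ C₂} {Fr : C₂ ⥤ C₁} (adj : Gl ⊣ Fr)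
    {L₁ : C₁ ⥤ D₁} {L₂ : C₂ ⥤ D₂} {G' : D₁ ⥤ D₂} {F' : D₂ ⥤ D₁}
    (α : L₁ ⋙ G' ⟶ Gl ⋙ L₂) (β : Fr ⋙ L₁ ⟶ L₂ ⋙ F') (adjD : G' ⊣ F')
    (hε : ∀ X₂ : C₂, G'.map (β.app X₂) ≫ adjD.counit.app (L₂.obj X₂) =
      α.app (Fr.obj X₂) ≫ L₂.map (adj.counit.app X₂))
    (P : C₁) (B : C₂) (hα : IsIso (α.app P)) (hβ : IsIso (β.app B))
    (hB : Function.Bijective (fun u : Gl.obj P ⟶ B => L₂.map u)) :
    Function.Bijective (fun u : P ⟶ Fr.obj B => L₁.map u) := by
  haveI := hα
  haveI := hβ
  -- the comparison bijection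
  let Ψ : (L₁.obj P ⟶ L₁.obj (Fr.obj B)) ≃ (L₂.obj (Gl.obj P) ⟶ L₂.obj B) :=
    { toFun := fun v => inv (α.app P) ≫ (adjD.homEquiv _ _).symm (v ≫ β.app B)
      invFun := fun w => adjD.homEquiv _ _ (α.app P ≫ w) ≫ inv (β.app B)
      left_inv := fun v => by
        simp only [IsIso.hom_inv_id_assoc, Equiv.apply_symm_apply, Category.assoc,
          IsIso.hom_inv_id, Category.comp_id]
      right_inv := fun w => by
        simp only [Category.assoc, IsIso.inv_hom_id, Category.comp_id, Equiv.symm_apply_apply,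
          IsIso.inv_hom_id_assoc] }
  have key : ∀ u : P ⟶ Fr.obj B, Ψ (L₁.map u) = L₂.map ((adj.homEquiv P B).symm u) := by
    intro u
    show inv (α.app P) ≫ (adjD.homEquiv _ _).symm (L₁.map u ≫ β.app B) = _
    rw [IsIso.inv_comp_eq, Adjunction.homEquiv_counit, Adjunction.homEquiv_counit,
      Functor.map_comp, Functor.map_comp, Category.assoc, hε, ← Category.assoc]
    have nat := α.naturality u
    rw [Functor.comp_map, Functor.comp_map] at nat
    rw [nat, Category.assoc]
  constructor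
  · intro u₁ u₂ h
    have h' : Ψ (L₁.map u₁) = Ψ (L₁.map u₂) := congrArg Ψ h
    rw [key, key] at h'
    exact (adj.homEquiv P B).symm.injective (hB.1 h')
  · intro v
    obtain ⟨w, hw⟩ := hB.2 (Ψ v)
    refine ⟨adj.homEquiv P B w, ?_⟩
    apply Ψ.injective
    show Ψ (L₁.map (adj.homEquiv P B w)) = Ψ v
    rw [key, Equiv.symm_apply_apply]
    exact hw

end Bij

end Groth.Agent.Lib.GammaPushH3
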