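import Mathlib
import Groth.Prelude
import Groth.Agent.Lib.GammaPush1_helper3
import Groth.Agent.Lib.BCOpen1_lead

/-!
# Maps from K-flat complexes to direct images of K-injective complexes (helper3)

`Qh_map_bijective_push`: for `f : X ⟶ Y`, `P` a K-flat complex on `Y` and `B` right orthogonal to
acyclic complexes on `X` (K-injective), `Hom_{K(Y)}(P, f_* B) ⟶ Hom_{D(Y)}(P, f_* B)` is bijective.
-/

set_option autoImplicit false
set_option linter.all false
set_option maxHeartbeats 1600000
set_option backward.isDefEq.respectTransparency false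
set_option backward.isDefEq.respectTransparency.types false
set_option backward.defeqAttrib.useBackward true

universe u
open CategoryTheory CategoryTheory.Limits AlgebraicGeometry Opposite TopologicalSpace

attribute [local instance] HasDerivedCategory.standard

namespace Groth.Agent.Lib.GammaPushH3

open Groth.Agent.Lib.StalkTensH3 Groth.Agent.Lib.LpullExH3 Groth.Agent.Lib.LpullCompH3
open Groth.Agent.Lib.MVPushL

noncomputable section

variable {X Y : Scheme.{u}} (f : X ⟶ Y)

/-- `f_*` on homotopy categories -/
abbrev pushK : HomotopyCategory X.Modules (ComplexShape.up ℤ) ⥤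
    HomotopyCategory Y.Modules (ComplexShape.up ℤ) :=
  (Scheme.Modules.pushforward f).mapHomotopyCategory (ComplexShape.up ℤ)

theorem Qh_map_bijective_push [DCoh.HasLpull f] [DCoh.HasRpush f]
    (PK : HomotopyCategory Y.Modules (ComplexShape.up ℤ)) (hP : kflat Y PK)
    (BK : HomotopyCategory X.Modules (ComplexShape.up ℤ))
    (hB : (HomotopyCategory.subcategoryAcyclic X.Modules).rightOrthogonal BK) :
    Function.Bijective (fun u : PK ⟶ (pushK f).obj BK => DerivedCategory.Qh.map u) := by
  haveI := grothendieck_modules X
  let α := (DCoh.pullKh f).totalLeftDerivedCounit DerivedCategory.Qh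
      (HomotopyCategory.quasiIso Y.Modules (ComplexShape.up ℤ))
  let β := (DCoh.pushKh f).totalRightDerivedUnit DerivedCategory.Qh
      (HomotopyCategory.quasiIso X.Modules (ComplexShape.up ℤ))
  let adj := Groth.Agent.Lib.DerivedAdj.adjK (Scheme.Modules.pullbackPushforwardAdjunction f)
      (ComplexShape.up ℤ)
  obtain ⟨adjD, -, hε⟩ := exists_derived_adj_compat
    (HomotopyCategory.subcategoryAcyclic X.Modules) adj
    (HomotopyCategory.quasiIso Y.Modules (ComplexShape.up ℤ))
    (HomotopyCategory.quasiIso X.Modules (ComplexShape.up ℤ)) α β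
    (HomotopyCategory.quasiIso_eq_trW_subcategoryAcyclic _)
    Groth.Agent.Lib.KInjGen8.hP (kflat Y)
    (fun K hK => isIso_counit_of_isKFlat f _ _ K hK)
    (fun K => by
      obtain ⟨P, s, hP, hs⟩ := kflat_res Y K
      rw [← HomotopyCategory.quasiIso_eq_trW_subcategoryAcyclic] at hs
      exact ⟨P, s, hs, hP⟩)
  have hβ : IsIso (β.app BK) :=
    (OrthDeriv.main (P := HomotopyCategory.subcategoryAcyclic X.Modules)
      (HomotopyCategory.quasiIso X.Modules (ComplexShape.up ℤ))
      (HomotopyCategory.quasiIso_eq_trW_subcategoryAcyclic _)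
      Groth.Agent.Lib.KInjGen8.hP (DerivedCategory.Qh : _ ⥤ DCoh.D X) (DCoh.pushKh f)).2 BK hB
  exact map_bijective_of_derived_adj adj α β adjD hε PK BK
    (isIso_counit_of_isKFlat f _ _ PK hP) hβ
    (hB.map_bijective_of_isTriangulated DerivedCategory.Qh _)

end

end Groth.Agent.Lib.GammaPushH3
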