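import Mathlib
import Groth.Prelude
import Groth.Agent.Lib.GammaPush2_helper3
import Groth.Agent.Lib.AffIso1_lead
import Groth.Agent.Lib.FLF5_helper8
import Groth.Agent.Lib.PjCx11_helper3
import Groth.Agent.Lib.LerayBB_helper7
import Groth.Agent.Lib.BCOpen2_lead

/-!
# Direct images of K-injective complexes are acyclic for global sections (helper3; S11124)

* `exactAt_gamma_of_hom_zero`: if every chain map `O[-n] ⟶ A` is null-homotopic then `Γ(Y, A)` is
  exact in degree `n`.
* `isIso_gamma_unit_push`: for `f : X ⟶ Y` and `B` K-injective on `X`, the unit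
  `Γ(Y, f_* B) ⟶ RΓ(Y, f_* B)` is an isomorphism.
-/

set_option autoImplicit false
set_option linter.all false
set_option maxHeartbeats 1600000
set_option backward.isDefEq.respectTransparency false
set_option backward.isDefEq.respectTransparency.types false
set_option backward.defeqAttrib.useBackward true

universe u
open CategoryTheory CategoryTheory.Limits AlgebraicGeometry Opposite TopologicalSpace
open CategoryTheory.Pretriangulated

attribute [local instance] HasDerivedCategory.standard

namespace Groth.Agent.Lib.GammaPushH3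

open Groth.Agent.Lib.StalkTensH3 Groth.Agent.Lib.LpullExH3 Groth.Agent.Lib.LpullCompH3
open Groth.Agent.Lib.MVPushL

noncomputable section

/-- `Γ(Y, -)` on complexes -/
abbrev GCx (Y : Scheme.{u}) : CochainComplex Y.Modules ℤ ⥤ CochainComplex AddCommGrpCat.{u} ℤ :=
  (DCoh.gammaAb Y).mapHomologicalComplex (ComplexShape.up ℤ)

section Exact

variable {Y : Scheme.{u}}

theorem unitHom_zero (G : Y.Modules) : SDivGenH8.unitHom G (0 : Γ(G, ⊤)) = 0 := by
  have h := FLFH8.unitHom_comp (0 : Γ(G, ⊤)) (0 : G ⟶ G)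
  rw [comp_zero] at h
  rw [h]
  congr 1

/-- if every chain map `O[-n] ⟶ A` is null-homotopic then `Γ(Y, A)` is exact in degree `n` -/
theorem exactAt_gamma_of_hom_zero (A : CochainComplex Y.Modules ℤ) (n : ℤ)
    (h : ∀ z : (HomologicalComplex.single Y.Modules (ComplexShape.up ℤ) n).obj
        (Coh.structureModule Y) ⟶ A,
      (HomotopyCategory.quotient Y.Modules (ComplexShape.up ℤ)).map z = 0) :
    ((GCx Y).obj A).ExactAt n := by
  rw [HomologicalComplex.exactAt_iff' _ (n - 1) n (n + 1) (by simp) (by simp),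
    ShortComplex.ab_exact_iff]
  intro x hx
  let t : Γ(A.X n, ⊤) := x
  let τ := SDivGenH8.unitHom (A.X n) t
  have hτ : τ ≫ A.d n (n + 1) = 0 := by
    rw [FLFH8.unitHom_comp]
    have h0 : QCohExtn.ap (A.d n (n + 1)) ⊤ t = 0 := hx
    rw [h0]
    exact unitHom_zero _
  let z := HomologicalComplex.mkHomFromSingle τ (fun k hk => by
    obtain rfl : n + 1 = k := hk
    exact hτ)
  have hz := h z
  have hh : Homotopy z 0 := HomotopyCategory.homotopyOfEq _ _ (by rw [hz, Functor.map_zero])
  have e := hh.comm n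
  rw [dNext_eq hh.hom (show (ComplexShape.up ℤ).Rel n (n + 1) from rfl),
    prevD_eq hh.hom (show (ComplexShape.up ℤ).Rel (n - 1) n by simp),
    HomologicalComplex.single_obj_d, zero_comp, zero_add, HomologicalComplex.zero_f, add_zero,
    HomologicalComplex.mkHomFromSingle_f] at e
  let σ : Coh.structureModule Y ⟶ A.X (n - 1) :=
    (HomologicalComplex.singleObjXSelf (ComplexShape.up ℤ) n (Coh.structureModule Y)).inv ≫
      hh.hom n (n - 1)
  have hσ : σ ≫ A.d (n - 1) n = τ := by
    rw [Category.assoc, ← e, Iso.inv_hom_id_assoc]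
  refine ⟨(σ.val.app (op ⊤)) (1 : Y.ringCatSheaf.obj.obj (op ⊤)), ?_⟩
  have h1 := SDivGenH8.unitHom_app_one (A.X n) t ⊤
  have h2 : (A.X n).val.map (homOfLE (le_top : (⊤ : Y.Opens) ≤ ⊤)).op t = t := by
    refine (PresheafOfModules.congr_map_apply (A.X n).val
      (Subsingleton.elim (homOfLE (le_top : (⊤ : Y.Opens) ≤ ⊤)).op (𝟙 (op ⊤))) t).trans ?_
    show (A.X n).presheaf.map (𝟙 (op ⊤)) t = t
    rw [(A.X n).presheaf.map_id]
    rfl
  rw [h2] at h1
  have h3 : ((σ ≫ A.d (n - 1) n).val.app (op ⊤)) (1 : Y.ringCatSheaf.obj.obj (op ⊤)) = t := by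
    rw [hσ]
    exact h1
  exact h3

end Exact

section Main

variable {X Y : Scheme.{u}} (f : X ⟶ Y)

/-- push-forward of complexes -/
abbrev PCx : CochainComplex X.Modules ℤ ⥤ CochainComplex Y.Modules ℤ :=
  (Scheme.Modules.pushforward f).mapHomologicalComplex (ComplexShape.up ℤ)

/-- every chain map from `O[-n]` to the cone of a K-injective resolution of `f_* B` is
null-homotopic -/
theorem hom_cone_eq_zero [DCoh.HasLpull f] [DCoh.HasRpush f]
    (B : CochainComplex X.Modules ℤ) [B.IsKInjective]
    {J : CochainComplex Y.Modules ℤ} [J.IsKInjective] (s : (PCx f).obj B ⟶ J) [QuasiIso s] (n : ℤ)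
    (z : (HomologicalComplex.single Y.Modules (ComplexShape.up ℤ) n).obj
        (Coh.structureModule Y) ⟶ CochainComplex.mappingCone s) :
    (HomotopyCategory.quotient Y.Modules (ComplexShape.up ℤ)).map z = 0 := by
  haveI := grothendieck_modules X
  haveI := grothendieck_modules Y
  let q := HomotopyCategory.quotient Y.Modules (ComplexShape.up ℤ)
  let qX := HomotopyCategory.quotient X.Modules (ComplexShape.up ℤ)
  let Pn := (HomologicalComplex.single Y.Modules (ComplexShape.up ℤ) n).obj
    (Coh.structureModule Y)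
  have hPn : kflat Y (q.obj Pn) := Groth.Agent.Lib.PjCxH3.isKFlat_single_unit n
  have hB : (HomotopyCategory.subcategoryAcyclic X.Modules).rightOrthogonal (qX.obj B) :=
    CochainComplex.IsKInjective.rightOrthogonal B
  have hB1 : (HomotopyCategory.subcategoryAcyclic X.Modules).rightOrthogonal
      ((qX.obj B)⟦(1 : ℤ)⟧) :=
    (HomotopyCategory.subcategoryAcyclic X.Modules).rightOrthogonal.le_shift 1 _ hB
  let T := CochainComplex.mappingCone.triangleh s
  have hT : T ∈ distTriang _ := HomotopyCategory.mappingCone_triangleh_distinguished s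
  haveI hs : IsIso (DerivedCategory.Q.map s) := by
    rw [DerivedCategory.isIso_Q_map_iff_quasiIso]; infer_instance
  have hA0 : IsZero (DerivedCategory.Q.obj (CochainComplex.mappingCone s)) :=
    (Triangle.isZero₃_iff_isIso₁ _ (DerivedCategory.mappingCone_triangle_distinguished s)).2 hs
  let z' : q.obj Pn ⟶ T.obj₃ := q.map z
  have hz0 : DerivedCategory.Qh.map z' = 0 := hA0.eq_of_tgt _ _
  -- step 1
  let κ := ((pushK f).commShiftIso (1 : ℤ)).app (qX.obj B)
  have bij1 := Qh_map_bijective_push f (q.obj Pn) hPn ((qX.obj B)⟦(1 : ℤ)⟧) hB1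
  have h1 : z' ≫ T.mor₃ = 0 := by
    have hw : z' ≫ T.mor₃ ≫ κ.inv = 0 := by
      apply bij1.1
      show DerivedCategory.Qh.map (z' ≫ T.mor₃ ≫ κ.inv) = DerivedCategory.Qh.map 0
      rw [Functor.map_comp, hz0, zero_comp, Functor.map_zero]
    have := congrArg (fun m => m ≫ κ.hom) hw
    simpa using this
  -- step 2
  obtain ⟨g, hg⟩ := Triangle.coyoneda_exact₃ T hT z' h1
  -- step 3
  have bij0 := Qh_map_bijective_push f (q.obj Pn) hPn (qX.obj B) hB
  haveI : IsIso (DerivedCategory.Qh.map (q.map s)) := hs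
  obtain ⟨g', hg'⟩ := bij0.2 (DerivedCategory.Qh.map g ≫ inv (DerivedCategory.Qh.map (q.map s)))
  have hg'' : g' ≫ q.map s = g := by
    apply (CochainComplex.IsKInjective.Qh_map_bijective _ J).1
    show DerivedCategory.Qh.map (g' ≫ q.map s) = DerivedCategory.Qh.map g
    rw [Functor.map_comp]
    have : DerivedCategory.Qh.map g' =
        DerivedCategory.Qh.map g ≫ inv (DerivedCategory.Qh.map (q.map s)) := hg'
    rw [this, Category.assoc, IsIso.inv_hom_id, Category.comp_id]
  -- step 4
  show z' = 0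
  rw [hg, ← hg'', Category.assoc]
  have h0 : T.mor₁ ≫ T.mor₂ = 0 := comp_distTriang_mor_zero₁₂ T hT
  have h0' : q.map s ≫ T.mor₂ = 0 := h0
  rw [h0', comp_zero]

end Main

end

end Groth.Agent.Lib.GammaPushH3
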