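import Mathlib
import Groth.Prelude
import Groth.Agent.Lib.GammaPush3_helper3
import Groth.Agent.Lib.PushCxAcyc_helper3

/-!
# `RΓ(Y, Rf_* -) ≅ RΓ(X, -)` (helper3; S11124, S6509)

* `isIso_gamma_unit_push`: for `f : X ⟶ Y` and `B` K-injective on `X`, the unit
  `Γ(Y, f_* B) ⟶ RΓ(Y, f_* B)` is an isomorphism.
* `main11124`: the same over an open `U ⊆ Y`.
* `main6509`: `Rf_* ⋙ RΓ(Y, -) ≅ RΓ(X, -)` and the version over an open.
-/

set_option autoImplicit false
set_option linter.all false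
set_option maxHeartbeats 1600000
set_option backward.isDefEq.respectTransparency false
set_option backward.isDefEq.respectTransparency.types false
set_option backward.defeqAttrib.useBackward true

universe u
open CategoryTheory CategoryTheory.Limits AlgebraicGeometry Opposite TopologicalSpace
open CategoryTheory.Pretriangulated

attribute [local instance] HasDerivedCategory.standard

namespace Groth.Agent.Lib.GammaPushH3

open Groth.Agent.Lib.StalkTensH3 Groth.Agent.Lib.LpullExH3 Groth.Agent.Lib.LpullCompH3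
open Groth.Agent.Lib.MVPushL Groth.Agent.Lib.StalkSkyL

noncomputable section

variable {X Y : Scheme.{u}} (f : X ⟶ Y)

theorem isIso_gamma_unit_push (B : CochainComplex X.Modules ℤ) [B.IsKInjective] [DCoh.HasRΓ Y] :
    IsIso (((DCoh.gammaKh Y).totalRightDerivedUnit DerivedCategory.Qh
      (HomotopyCategory.quasiIso Y.Modules (ComplexShape.up ℤ))).app
      ((HomotopyCategory.quotient Y.Modules (ComplexShape.up ℤ)).obj ((PCx f).obj B))) := by
  haveI := grothendieck_modules X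
  haveI := grothendieck_modules Y
  haveI : DCoh.HasLpull f := hasLpull f
  haveI : DCoh.HasRpush f := Groth.Agent.Lib.BCOpenL.hasRpush f
  obtain ⟨J, s, hJ, hs⟩ := Groth.Agent.Lib.PjCxH3.exists_kinj_resolution ((PCx f).obj B)
  haveI := hJ
  haveI := hs
  show IsIso ((LerayBB.α (DCoh.gammaAb Y)).app _)
  rw [LerayBB.isIso_unit_iff (DCoh.gammaAb Y) s]
  have h3 : IsIso (((DCoh.gammaAb Y).mapHomotopyCategory (ComplexShape.up ℤ) ⋙
        DerivedCategory.Qh).map ((HomotopyCategory.quotient Y.Modules (ComplexShape.up ℤ)).map s)) ↔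
      IsIso (DerivedCategory.Q.map ((GCx Y).map s)) :=
    NatIso.isIso_map_iff ((Functor.associator _ _ _).symm ≪≫
      Functor.isoWhiskerRight ((DCoh.gammaAb Y).mapHomotopyCategoryFactors (ComplexShape.up ℤ))
        DerivedCategory.Qh ≪≫ Functor.associator _ _ _ ≪≫
      Functor.isoWhiskerLeft _ (DerivedCategory.quotientCompQhIso AddCommGrpCat.{u})) s
  show IsIso (((DCoh.gammaAb Y).mapHomotopyCategory (ComplexShape.up ℤ) ⋙
        DerivedCategory.Qh).map ((HomotopyCategory.quotient Y.Modules (ComplexShape.up ℤ)).map s))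
  rw [h3]
  apply Groth.Agent.Lib.AffIsoL.isIso_Q_map_of_exactAt_mappingCone
  intro n
  have hex := exactAt_gamma_of_hom_zero (CochainComplex.mappingCone s) n
    (fun z => hom_cone_eq_zero f B s n z)
  let e1 := CochainComplex.mappingCone.mapHomologicalComplexIso s (DCoh.gammaAb Y)
  rw [HomologicalComplex.exactAt_iff_isZero_homology] at hex ⊢
  exact IsZero.of_iso hex ((HomologicalComplex.homologyFunctor _ _ n).mapIso e1.symm)

/-- **S11124** -/
theorem main11124 (B : CochainComplex X.Modules ℤ) [B.IsKInjective] (U : Y.Opens)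
    [DCoh.HasRΓ (U : Scheme.{u})] :
    IsIso (((DCoh.gammaKh (U : Scheme.{u})).totalRightDerivedUnit DerivedCategory.Qh
      (HomotopyCategory.quasiIso (U : Scheme.{u}).Modules (ComplexShape.up ℤ))).app
      ((HomotopyCategory.quotient (U : Scheme.{u}).Modules (ComplexShape.up ℤ)).obj
        ((DCoh.restrictCx U).obj (((Scheme.Modules.pushforward f).mapHomologicalComplex
          (ComplexShape.up ℤ)).obj B)))) := by
  haveI := isKInjective_RCx (f ⁻¹ᵁ U) B
  have h := isIso_gamma_unit_push (f ∣_ U) ((RCx (f ⁻¹ᵁ U)).obj B)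
  let e := Groth.Agent.Lib.PushCxAcycH3.bcCx f U B
  exact (NatTrans.isIso_app_iff_of_iso _
    ((HomotopyCategory.quotient (U : Scheme.{u}).Modules (ComplexShape.up ℤ)).mapIso e)).2 h

/-- `Γ(Y, f_* -) = Γ(X, -)` -/
def gammaPushNatIso : Scheme.Modules.pushforward f ⋙ DCoh.gammaAb Y ≅ DCoh.gammaAb X :=
  NatIso.ofComponents (fun M => Iso.refl _) (fun {M N} φ => by
    rw [Iso.refl_hom, Iso.refl_hom, Category.comp_id, Category.id_comp]
    rfl)

/-- `Rf_* ⋙ RΓ(Y, -) ≅ RΓ(X, -)` -/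
theorem nonempty_Rpush_RΓ_iso [DCoh.HasRpush f] [DCoh.HasRΓ X] [DCoh.HasRΓ Y] :
    Nonempty (DCoh.Rpush f ⋙ DCoh.RΓ Y ≅ DCoh.RΓ X) := by
  haveI := grothendieck_modules X
  haveI := grothendieck_modules Y
  let WX := HomotopyCategory.quasiIso X.Modules (ComplexShape.up ℤ)
  let WY := HomotopyCategory.quasiIso Y.Modules (ComplexShape.up ℤ)
  let ηY : DCoh.gammaKh Y ⟶ DerivedCategory.Qh ⋙ DCoh.RΓ Y :=
    (DCoh.gammaKh Y).totalRightDerivedUnit DerivedCategory.Qh WY
  let βf : DCoh.pushKh f ⟶ (DerivedCategory.Qh : _ ⥤ DCoh.D X) ⋙ DCoh.Rpush f :=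
    (DCoh.pushKh f).totalRightDerivedUnit DerivedCategory.Qh WX
  let e0 : pushK f ⋙ DCoh.gammaKh Y ≅ DCoh.gammaKh X :=
    (Functor.associator _ _ _).symm ≪≫
      Functor.isoWhiskerRight
        (Functor.mapHomotopyCategoryCompIso (gammaPushNatIso f) (ComplexShape.up ℤ))
        DerivedCategory.Qh
  let α' : DCoh.gammaKh X ⟶
      (DerivedCategory.Qh : _ ⥤ DCoh.D X) ⋙ (DCoh.Rpush f ⋙ DCoh.RΓ Y) :=
    e0.inv ≫ Functor.whiskerLeft (pushK f) ηY ≫ (Functor.associator _ _ _).inv ≫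
      Functor.whiskerRight βf (DCoh.RΓ Y) ≫ (Functor.associator _ _ _).hom
  haveI h1 : (DCoh.Rpush f ⋙ DCoh.RΓ Y).IsRightDerivedFunctor α' WX := by
    refine Groth.Agent.Lib.BCOpenL.isRightDerivedFunctor_of_isIso_on
      (P := HomotopyCategory.subcategoryAcyclic X.Modules) WX
      (HomotopyCategory.quasiIso_eq_trW_subcategoryAcyclic _)
      Groth.Agent.Lib.KInjGen8.hP DerivedCategory.Qh _ _ _ (fun K hK => ?_)
    obtain ⟨I, rfl⟩ := HomotopyCategory.quotient_obj_surjective K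
    haveI : CochainComplex.IsKInjective I :=
      (CochainComplex.isKInjective_iff_rightOrthogonal I).2 hK
    haveI : IsIso (βf.app ((HomotopyCategory.quotient X.Modules (ComplexShape.up ℤ)).obj I)) :=
      (OrthDeriv.main (P := HomotopyCategory.subcategoryAcyclic X.Modules) WX
        (HomotopyCategory.quasiIso_eq_trW_subcategoryAcyclic _)
        Groth.Agent.Lib.KInjGen8.hP (DerivedCategory.Qh : _ ⥤ DCoh.D X) (DCoh.pushKh f)).2 _ hK
    haveI : IsIso (ηY.app ((pushK f).obj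
        ((HomotopyCategory.quotient X.Modules (ComplexShape.up ℤ)).obj I))) :=
      isIso_gamma_unit_push f I
    show IsIso (e0.inv.app ((HomotopyCategory.quotient X.Modules (ComplexShape.up ℤ)).obj I) ≫
      ηY.app ((pushK f).obj ((HomotopyCategory.quotient X.Modules (ComplexShape.up ℤ)).obj I)) ≫
      𝟙 _ ≫ (DCoh.RΓ Y).map
        (βf.app ((HomotopyCategory.quotient X.Modules (ComplexShape.up ℤ)).obj I)) ≫ 𝟙 _)
    infer_instance
  exact ⟨Functor.rightDerivedUnique (DCoh.Rpush f ⋙ DCoh.RΓ Y) (DCoh.RΓ X) α'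
    ((DCoh.gammaKh X).totalRightDerivedUnit DerivedCategory.Qh WX) WX⟩

/-- **S6509** -/
theorem main6509 (V : Y.Opens) [DCoh.HasRpush f] [DCoh.HasRΓ X] [DCoh.HasRΓ Y]
    [DCoh.HasRΓ (V : Scheme.{u})] [DCoh.HasRΓ (f ⁻¹ᵁ V : Scheme.{u})] :
    Nonempty (DCoh.Rpush f ⋙ DCoh.RΓ Y ≅ DCoh.RΓ X) ∧
    Nonempty (DCoh.restrictD (f ⁻¹ᵁ V).ι ⋙ DCoh.RΓ (f ⁻¹ᵁ V : Scheme.{u}) ≅
      DCoh.Rpush f ⋙ DCoh.restrictD V.ι ⋙ DCoh.RΓ (V : Scheme.{u})) := by
  refine ⟨nonempty_Rpush_RΓ_iso f, ?_⟩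
  haveI : DCoh.HasRpush (f ∣_ V) := Groth.Agent.Lib.BCOpenL.hasRpush _
  obtain ⟨e1⟩ := Groth.Agent.Lib.BCOpenL.main6508 f V
  obtain ⟨e2⟩ := nonempty_Rpush_RΓ_iso (f ∣_ V)
  exact ⟨(Functor.isoWhiskerLeft _ e2.symm) ≪≫ (Functor.associator _ _ _).symm ≪≫
    Functor.isoWhiskerRight e1.symm _ ≪≫ Functor.associator _ _ _⟩

end

end Groth.Agent.Lib.GammaPushH3
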