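import Mathlib
import Groth.Prelude.Def_CohTop
import Groth.Agent.Lib.ColimCoh3_helper9
import Groth.Agent.Lib.GV2_helper2

/-!
# Sheaves on a spectral-like space whose restriction maps onto quasi-compact opens are surjective
are acyclic (helper8; extracted from helper9's `ColimCoh2_helper9`)
APPEND-ONLY once landed.
-/

set_option autoImplicit false

universe u

open CategoryTheory CategoryTheory.Limits TopologicalSpace Opposite
open Groth.Agent.Lib.Cech Groth.Agent.Lib.FreeSheaf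

namespace Groth.Agent.Lib.QCFlasqueH8

open ColimCoh

variable {X : TopCat.{u}} (F : CohTop.Ab X) {U₀ : Opens X} (hU₀ : QCQS U₀)
  (hres : ∀ {V W : Opens X} (hVW : V ≤ W), IsCompact (V : Set X) → V ≤ U₀ →
    Function.Surjective (res F.obj hVW))

include hU₀ hres in
theorem cech_vanish {ι' : Type u} [Finite ι'] (U : ι' → Opens X)
    (hUc : ∀ i, IsCompact (U i : Set X)) (hUU : ∀ i, U i ≤ U₀) (p : ℕ) :
    IsZero (CohTop.cechH F.obj U (p + 1)) := by
  apply isZero_cechH_of_surjHyp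
  intro κ a A hA _ t
  have hcomp := isCompact_iSup_iInf hU₀ U hUc hUU κ a
  have hle : (⨆ k, ⨅ j, U ((a k).2 j)) ≤ U₀ :=
    iSup_le fun k => (iInf_le _ 0).trans (hUU _)
  exact hres hA hcomp hle t

include hU₀ hres in
/-- a qc-flasque sheaf is acyclic on compact opens of `U₀` -/
theorem ext_vanish (V : Opens X) (hV : IsCompact (V : Set X)) (hVU : V ≤ U₀) (n : ℕ)
    (ξ : Abelian.Ext (freeSheaf (Opens.grothendieckTopology X) V) F (n + 1)) : ξ = 0 := by
  classical
  refine ext_eq_zero_of_cech (fun V => IsCompact (V : Set X) ∧ V ≤ U₀)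
    (fun ι' U => Finite ι' ∧ ∀ i, IsCompact (U i : Set X) ∧ U i ≤ U₀) ?_ ?_ V ⟨hV, hVU⟩ F ?_ n ξ
  · rintro ι' U ⟨_, hU⟩ m σ
    exact ⟨isCompact_iInf_fin hU₀ U (fun i => (hU i).1) (fun i => (hU i).2) m σ,
      (iInf_le _ 0).trans (hU _).2⟩
  · rintro U₁ ⟨hU₁c, hU₁U⟩ κ W hW
    have key : ∀ x : U₁, ∃ (V' : Opens X) (k : κ), IsCompact (V' : Set X) ∧ x.1 ∈ V' ∧ V' ≤ W k := by
      intro x
      have hx : x.1 ∈ iSup W := hW ▸ x.2
      obtain ⟨k, hk⟩ := Opens.mem_iSup.mp hx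
      have hWk : W k ≤ U₀ := (le_iSup W k).trans (hW.le.trans hU₁U)
      obtain ⟨V', hV'c, hxV', hV'W⟩ := hU₀.basis (W k) hWk x.1 hk
      exact ⟨V', k, hV'c, hxV', hV'W⟩
    choose V' k hV'c hxV' hV'W using key
    obtain ⟨T, hT⟩ := hU₁c.elim_finite_subcover (fun x : U₁ => (V' x : Set X))
      (fun x => (V' x).isOpen) (fun y hy => Set.mem_iUnion.mpr ⟨⟨y, hy⟩, hxV' ⟨y, hy⟩⟩)
    refine ⟨T, fun j => V' j.1, ⟨inferInstance, fun j => ⟨hV'c j.1, ?_⟩⟩, ?_, fun j => ⟨k j.1, hV'W j.1⟩⟩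
    · exact (hV'W j.1).trans ((le_iSup W _).trans (hW.le.trans hU₁U))
    · apply le_antisymm
      · exact iSup_le fun j => (hV'W j.1).trans ((le_iSup W _).trans hW.le)
      · intro y hy
        obtain ⟨x, hxT, hyx⟩ := Set.mem_iUnion₂.mp (hT hy)
        exact Opens.mem_iSup.mpr ⟨⟨x, hxT⟩, hyx⟩
  · rintro ι' U ⟨_, hU⟩ p
    exact cech_vanish F hU₀ hres U (fun i => (hU i).1) (fun i => (hU i).2) p

/-- on a quasi-compact quasi-separated prespectral space, a sheaf whose restrictions onto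
quasi-compact opens are surjective has no higher cohomology -/
theorem H_vanish [CompactSpace X] [PrespectralSpace X] [QuasiSeparatedSpace X]
    (hres' : ∀ {V W : Opens X} (hVW : V ≤ W), IsCompact (V : Set X) →
      Function.Surjective (res F.obj hVW)) (n : ℕ) (ξ : CohTop.H F (n + 1)) : ξ = 0 := by
  haveI : Subsingleton (CohTop.H F (n + 1)) := by
    apply Groth.Agent.Lib.GVanH2.subsingleton_H_of_HV
    intro x
    exact ext_vanish F (qcqs_of_prespectral (⊤ : Opens X)) (fun hVW hV _ => hres' hVW hV) ⊤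
      (by simpa using (isCompact_univ : IsCompact (Set.univ : Set X))) le_rfl n x
  exact Subsingleton.elim _ _

end Groth.Agent.Lib.QCFlasqueH8
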