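import Mathlib
import Groth.Agent.Lib.ActCx_helper2
import Groth.Agent.Lib.ModFreeMono_helper2
import Groth.Agent.Lib.AffVanish_helper9

/-!
# Complexes of sections of complexes of modules on a scheme (helper2)

Sections functors `Γf W : X.Modules ⥤ Ab`, their actions by functions, the Mayer–Vietoris short
exact sequence of section complexes of a complex of injective modules, and the split sequence of
the product.
APPEND-ONLY once landed.
-/

set_option autoImplicit false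
universe u

open CategoryTheory CategoryTheory.Limits AlgebraicGeometry Opposite TopologicalSpace
  HomologicalComplex

namespace Groth.Agent.Lib.SecCx

open Groth.Agent.Lib.ActCx

variable {X : Scheme.{u}}

/-- sections over `W`, as a functor to abelian groups -/
noncomputable def Γf (W : X.Opens) : X.Modules ⥤ AddCommGrpCat.{u} :=
  Scheme.Modules.toPresheaf X ⋙ (evaluation _ _).obj (op W)

lemma Γf_obj (W : X.Opens) (N : X.Modules) : (Γf W).obj N = Γ(N, W) := rfl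

lemma Γf_map (W : X.Opens) {N N' : X.Modules} (φ : N ⟶ N') : (Γf W).map φ = φ.app W := rfl

instance (W : X.Opens) : (Γf W).Additive := ⟨fun {_ _ _ _} => rfl⟩

/-- restriction of sections -/
noncomputable def resΓ {W₁ W₂ : X.Opens} (h : W₂ ≤ W₁) : Γf W₁ ⟶ Γf W₂ where
  app N := N.presheaf.map (homOfLE h).op
  naturality N N' φ := (φ.mapPresheaf.naturality (homOfLE h).op).symm

lemma resΓ_app {W₁ W₂ : X.Opens} (h : W₂ ≤ W₁) (N : X.Modules) :
    (resΓ h).app N = N.presheaf.map (homOfLE h).op := rfl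

/-- multiplication by a function -/
noncomputable def smulΓ {W : X.Opens} (r : Γ(X, W)) : Γf W ⟶ Γf W where
  app N := N.smul r
  naturality N N' φ := by
    ext x
    exact (Scheme.Modules.Hom.app_smul φ r x).symm

lemma smulΓ_app_apply {W : X.Opens} (r : Γ(X, W)) (N : X.Modules) (x : Γ(N, W)) :
    ((smulΓ r).app N).hom x = r • x := rfl

lemma smulΓ_one {W : X.Opens} : smulΓ (1 : Γ(X, W)) = 𝟙 (Γf W) := by
  ext N x
  have h : ∀ y : Γ(N, W), (1 : Γ(X, W)) • y = y := one_smul _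
  exact h x

lemma smulΓ_mul {W : X.Opens} (r s : Γ(X, W)) : smulΓ (r * s) = smulΓ s ≫ smulΓ r := by
  ext N x
  have h : ∀ y : Γ(N, W), (r * s) • y = r • s • y := mul_smul r s
  exact h x

lemma smulΓ_add {W : X.Opens} (r s : Γ(X, W)) : smulΓ (r + s) = smulΓ r + smulΓ s := by
  ext N x
  have h : ∀ y : Γ(N, W), (r + s) • y = r • y + s • y := add_smul r s
  exact h x

lemma smulΓ_res {W₁ W₂ : X.Opens} (h : W₂ ≤ W₁) (r : Γ(X, W₁)) :
    smulΓ r ≫ resΓ h = resΓ h ≫ smulΓ (X.presheaf.map (homOfLE h).op r) := by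
  ext N x
  exact Scheme.Modules.map_smul N (homOfLE h) r x

section Prod

variable (O₁ O₂ : X.Opens)

/-- the product of two sections functors -/
noncomputable def Γ₂ : X.Modules ⥤ AddCommGrpCat.{u} where
  obj N := AddCommGrpCat.of (Γ(N, O₁) × Γ(N, O₂))
  map φ := AddCommGrpCat.ofHom (AddMonoidHom.prodMap (φ.app O₁).hom (φ.app O₂).hom)
  map_id N := by
    ext x <;> rfl
  map_comp φ ψ := by
    ext x <;> rfl

instance : (Γ₂ O₁ O₂).Additive := ⟨fun {_ _ _ _} => rfl⟩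

variable {O₁ O₂}

/-- `s ↦ (s|O₁, s|O₂)` -/
noncomputable def mvι {O : X.Opens} (h₁ : O₁ ≤ O) (h₂ : O₂ ≤ O) : Γf O ⟶ Γ₂ O₁ O₂ where
  app N := AddCommGrpCat.ofHom (AddMonoidHom.prod (N.presheaf.map (homOfLE h₁).op).hom
    (N.presheaf.map (homOfLE h₂).op).hom)
  naturality N N' φ := by
    ext x
    exact Prod.ext
      (congrArg (fun ψ : Γ(N, O) ⟶ Γ(N', O₁) => ψ.hom x)
        (φ.mapPresheaf.naturality (homOfLE h₁).op)).symm
      (congrArg (fun ψ : Γ(N, O) ⟶ Γ(N', O₂) => ψ.hom x)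
        (φ.mapPresheaf.naturality (homOfLE h₂).op)).symm

/-- `(s₁, s₂) ↦ s₁|O' - s₂|O'` -/
noncomputable def mvπ {O' : X.Opens} (h₁ : O' ≤ O₁) (h₂ : O' ≤ O₂) : Γ₂ O₁ O₂ ⟶ Γf O' where
  app N := AddCommGrpCat.ofHom
    ((N.presheaf.map (homOfLE h₁).op).hom.comp (AddMonoidHom.fst _ _) -
      (N.presheaf.map (homOfLE h₂).op).hom.comp (AddMonoidHom.snd _ _))
  naturality N N' φ := by
    ext x
    show (N'.presheaf.map (homOfLE h₁).op).hom ((φ.app O₁).hom x.1) -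
        (N'.presheaf.map (homOfLE h₂).op).hom ((φ.app O₂).hom x.2) =
      (φ.app O').hom ((N.presheaf.map (homOfLE h₁).op).hom x.1 -
        (N.presheaf.map (homOfLE h₂).op).hom x.2)
    rw [map_sub]
    congr 1
    · exact congrArg (fun ψ : Γ(N, O₁) ⟶ Γ(N', O') => ψ.hom x.1)
        (φ.mapPresheaf.naturality (homOfLE h₁).op).symm
    · exact congrArg (fun ψ : Γ(N, O₂) ⟶ Γ(N', O') => ψ.hom x.2)
        (φ.mapPresheaf.naturality (homOfLE h₂).op).symm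

/-- `s ↦ (s, 0)` -/
noncomputable def inl₂ : Γf O₁ ⟶ Γ₂ O₁ O₂ where
  app N := AddCommGrpCat.ofHom (AddMonoidHom.inl _ _)
  naturality N N' φ := by
    apply AddCommGrpCat.hom_ext
    apply AddMonoidHom.ext
    intro x
    refine Prod.ext rfl ?_
    show (0 : Γ(N', O₂)) = (φ.app O₂).hom 0
    rw [map_zero]

/-- `(s₁, s₂) ↦ s₂` -/
noncomputable def pr₂ : Γ₂ O₁ O₂ ⟶ Γf O₂ where
  app N := AddCommGrpCat.ofHom (AddMonoidHom.snd _ _)
  naturality N N' φ := by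
    ext x
    rfl

/-- componentwise multiplication -/
noncomputable def smulΓ₂ (r₁ : Γ(X, O₁)) (r₂ : Γ(X, O₂)) : Γ₂ O₁ O₂ ⟶ Γ₂ O₁ O₂ where
  app N := AddCommGrpCat.ofHom (AddMonoidHom.prodMap (N.smul r₁).hom (N.smul r₂).hom)
  naturality N N' φ := by
    ext x
    exact Prod.ext (Scheme.Modules.Hom.app_smul φ r₁ x.1).symm
      (Scheme.Modules.Hom.app_smul φ r₂ x.2).symm

lemma mvι_app_apply {O : X.Opens} (h₁ : O₁ ≤ O) (h₂ : O₂ ≤ O) (N : X.Modules) (s : Γ(N, O)) :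
    ((mvι h₁ h₂).app N).hom s =
      ((N.presheaf.map (homOfLE h₁).op).hom s, (N.presheaf.map (homOfLE h₂).op).hom s) := rfl

lemma mvπ_app_apply {O' : X.Opens} (h₁ : O' ≤ O₁) (h₂ : O' ≤ O₂) (N : X.Modules)
    (x : Γ(N, O₁) × Γ(N, O₂)) :
    ((mvπ h₁ h₂).app N).hom x =
      (N.presheaf.map (homOfLE h₁).op).hom x.1 - (N.presheaf.map (homOfLE h₂).op).hom x.2 := rfl

lemma res_res (N : X.Modules) {U V W : X.Opens} (h₁ : U ≤ V) (h₂ : V ≤ W) (s : Γ(N, W)) :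
    (N.presheaf.map (homOfLE h₁).op).hom ((N.presheaf.map (homOfLE h₂).op).hom s) =
      (N.presheaf.map (homOfLE (h₁.trans h₂)).op).hom s := by
  show (N.presheaf.map (homOfLE h₂).op ≫ N.presheaf.map (homOfLE h₁).op).hom s = _
  rw [← N.presheaf.map_comp]
  rfl

lemma mv_zero {O O' : X.Opens} (h₁ : O₁ ≤ O) (h₂ : O₂ ≤ O) (h₁' : O' ≤ O₁) (h₂' : O' ≤ O₂) :
    mvι h₁ h₂ ≫ mvπ h₁' h₂' = 0 := by
  ext N s
  show ((mvπ h₁' h₂').app N).hom (((mvι h₁ h₂).app N).hom s) = 0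
  rw [mvι_app_apply, mvπ_app_apply, res_res, res_res, sub_self]
  rfl

/-- the Mayer–Vietoris sequence of sections of a module whose restriction `O₁ → O'` is onto -/
theorem mv_shortExact (N : X.Modules) {O O' : X.Opens} (h₁ : O₁ ≤ O) (h₂ : O₂ ≤ O)
    (h₁' : O' ≤ O₁) (h₂' : O' ≤ O₂) (hc : O ≤ O₁ ⊔ O₂) (hi : O₁ ⊓ O₂ ≤ O')
    (hsurj : Function.Surjective (N.presheaf.map (homOfLE h₁').op).hom) :
    (ShortComplex.mk ((mvι h₁ h₂).app N) ((mvπ h₁' h₂').app N)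
      (by rw [← NatTrans.comp_app, mv_zero]; rfl)).ShortExact := by
  let F : TopCat.Sheaf AddCommGrpCat.{u} X.carrier := ⟨N.presheaf, N.isSheaf⟩
  refine ShortComplex.ShortExact.mk' ?_ ?_ ?_
  · rw [ShortComplex.ab_exact_iff]
    rintro ⟨s₁, s₂⟩ hs
    have hs' : (N.presheaf.map (homOfLE h₁').op).hom s₁ =
        (N.presheaf.map (homOfLE h₂').op).hom s₂ := sub_eq_zero.mp hs
    have hO : O' ≤ O₁ ⊓ O₂ := le_inf h₁' h₂'
    have hab : AffVanish.rs F (inf_le_left : O₁ ⊓ O₂ ≤ O₁) s₁ =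
        AffVanish.rs F (inf_le_right : O₁ ⊓ O₂ ≤ O₂) s₂ := by
      have e : O₁ ⊓ O₂ = O' := le_antisymm hi hO
      have := congrArg (N.presheaf.map (homOfLE hi).op).hom hs'
      rw [res_res, res_res] at this
      exact this
    obtain ⟨s, hs₁, hs₂⟩ := AffVanish.glue₂ F h₁ h₂ hc s₁ s₂ hab
    exact ⟨s, Prod.ext hs₁ hs₂⟩
  · rw [AddCommGrpCat.mono_iff_injective, injective_iff_map_eq_zero]
    intro s hs
    have h1 : (N.presheaf.map (homOfLE h₁).op).hom s = 0 := congrArg Prod.fst hs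
    have h2 : (N.presheaf.map (homOfLE h₂).op).hom s = 0 := congrArg Prod.snd hs
    exact AffVanish.eq_of_cover₂ F h₁ h₂ hc s 0 (h1.trans (map_zero _).symm)
      (h2.trans (map_zero _).symm)
  · rw [AddCommGrpCat.epi_iff_surjective]
    intro t
    obtain ⟨s₁, hs₁⟩ := hsurj t
    refine ⟨(s₁, 0), ?_⟩
    show (N.presheaf.map (homOfLE h₁').op).hom s₁ - (N.presheaf.map (homOfLE h₂').op).hom 0 = t
    rw [map_zero, sub_zero, hs₁]

/-- the split sequence of the product -/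
theorem split_shortExact (N : X.Modules) :
    (ShortComplex.mk ((inl₂ (O₁ := O₁) (O₂ := O₂)).app N) ((pr₂ (O₁ := O₁) (O₂ := O₂)).app N)
      (by ext x; rfl)).ShortExact := by
  refine ShortComplex.ShortExact.mk' ?_ ?_ ?_
  · rw [ShortComplex.ab_exact_iff]
    rintro ⟨s₁, s₂⟩ hs
    have h2 : s₂ = 0 := hs
    exact ⟨s₁, Prod.ext rfl h2.symm⟩
  · rw [AddCommGrpCat.mono_iff_injective]
    intro s t hst
    exact congrArg Prod.fst hst
  · rw [AddCommGrpCat.epi_iff_surjective]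
    intro t
    exact ⟨(0, t), rfl⟩

end Prod

section ProdSmul

variable {O₁ O₂ : X.Opens}

lemma smulΓ₂_one : smulΓ₂ (1 : Γ(X, O₁)) (1 : Γ(X, O₂)) = 𝟙 (Γ₂ O₁ O₂) := by
  ext N : 2
  apply AddCommGrpCat.hom_ext
  apply AddMonoidHom.ext
  intro x
  have h₁ : ∀ y : Γ(N, O₁), (1 : Γ(X, O₁)) • y = y := one_smul _
  have h₂ : ∀ y : Γ(N, O₂), (1 : Γ(X, O₂)) • y = y := one_smul _
  exact Prod.ext (h₁ x.1) (h₂ x.2)

lemma smulΓ₂_mul (r₁ s₁ : Γ(X, O₁)) (r₂ s₂ : Γ(X, O₂)) :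
    smulΓ₂ (r₁ * s₁) (r₂ * s₂) = smulΓ₂ s₁ s₂ ≫ smulΓ₂ r₁ r₂ := by
  ext N : 2
  apply AddCommGrpCat.hom_ext
  apply AddMonoidHom.ext
  intro x
  have h₁ : ∀ y : Γ(N, O₁), (r₁ * s₁) • y = r₁ • s₁ • y := mul_smul r₁ s₁
  have h₂ : ∀ y : Γ(N, O₂), (r₂ * s₂) • y = r₂ • s₂ • y := mul_smul r₂ s₂
  exact Prod.ext (h₁ x.1) (h₂ x.2)

lemma smulΓ₂_add (r₁ s₁ : Γ(X, O₁)) (r₂ s₂ : Γ(X, O₂)) :
    smulΓ₂ (r₁ + s₁) (r₂ + s₂) = smulΓ₂ r₁ r₂ + smulΓ₂ s₁ s₂ := by
  ext N : 2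
  apply AddCommGrpCat.hom_ext
  apply AddMonoidHom.ext
  intro x
  have h₁ : ∀ y : Γ(N, O₁), (r₁ + s₁) • y = r₁ • y + s₁ • y := add_smul r₁ s₁
  have h₂ : ∀ y : Γ(N, O₂), (r₂ + s₂) • y = r₂ • y + s₂ • y := add_smul r₂ s₂
  exact Prod.ext (h₁ x.1) (h₂ x.2)

end ProdSmul

section Complexes

variable (K : CochainComplex X.Modules ℕ)

/-- the complex of sections over `W` -/
noncomputable abbrev secCx (W : X.Opens) : Cx.{u} :=
  ((Γf W).mapHomologicalComplex (ComplexShape.up ℕ)).obj K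

/-- the product complex -/
noncomputable abbrev secCx₂ (O₁ O₂ : X.Opens) : Cx.{u} :=
  ((Γ₂ O₁ O₂).mapHomologicalComplex (ComplexShape.up ℕ)).obj K

/-- the action of a ring on the complex of sections over `W` through functions on `W` -/
noncomputable def secAct {A : Type*} [Ring A] {W : X.Opens} (ρ : A →+* Γ(X, W)) :
    Act A (secCx K W) where
  φ a := (NatTrans.mapHomologicalComplex (smulΓ (ρ a)) _).app K
  one := by
    rw [map_one, smulΓ_one, NatTrans.mapHomologicalComplex_id]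
    rfl
  mul r s := by
    rw [map_mul, smulΓ_mul, NatTrans.mapHomologicalComplex_comp]
    rfl
  add r s := by
    rw [map_add, smulΓ_add]
    rfl

/-- the action of a ring on the product complex -/
noncomputable def secAct₂ {A : Type*} [Ring A] {O₁ O₂ : X.Opens} (ρ₁ : A →+* Γ(X, O₁))
    (ρ₂ : A →+* Γ(X, O₂)) : Act A (secCx₂ K O₁ O₂) where
  φ a := (NatTrans.mapHomologicalComplex (smulΓ₂ (ρ₁ a) (ρ₂ a)) _).app K
  one := by
    rw [map_one, map_one, smulΓ₂_one, NatTrans.mapHomologicalComplex_id]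
    rfl
  mul r s := by
    rw [map_mul, map_mul, smulΓ₂_mul, NatTrans.mapHomologicalComplex_comp]
    rfl
  add r s := by
    rw [map_add, map_add, smulΓ₂_add]
    rfl

/-- transport of an identity of natural transformations to complexes -/
lemma mapHC_comm {F₁ F₂ F₃ F₄ : X.Modules ⥤ AddCommGrpCat.{u}} [F₁.Additive] [F₂.Additive]
    [F₃.Additive] [F₄.Additive] (α : F₁ ⟶ F₂) (β : F₂ ⟶ F₄) (γ : F₁ ⟶ F₃) (δ : F₃ ⟶ F₄)
    (h : α ≫ β = γ ≫ δ) :
    (NatTrans.mapHomologicalComplex α (ComplexShape.up ℕ)).app K ≫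
        (NatTrans.mapHomologicalComplex β (ComplexShape.up ℕ)).app K =
      (NatTrans.mapHomologicalComplex γ (ComplexShape.up ℕ)).app K ≫
        (NatTrans.mapHomologicalComplex δ (ComplexShape.up ℕ)).app K := by
  rw [← NatTrans.comp_app, ← NatTrans.mapHomologicalComplex_comp, h,
    NatTrans.mapHomologicalComplex_comp, NatTrans.comp_app]

variable {O₁ O₂ O O' : X.Opens} (h₁ : O₁ ≤ O) (h₂ : O₂ ≤ O) (h₁' : O' ≤ O₁) (h₂' : O' ≤ O₂)

/-- the Mayer–Vietoris sequence of complexes of sections -/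
noncomputable def mvS : ShortComplex Cx.{u} :=
  ShortComplex.mk ((NatTrans.mapHomologicalComplex (mvι h₁ h₂) (ComplexShape.up ℕ)).app K)
    ((NatTrans.mapHomologicalComplex (mvπ h₁' h₂') (ComplexShape.up ℕ)).app K) (by
      rw [← NatTrans.comp_app, ← NatTrans.mapHomologicalComplex_comp, mv_zero]
      rfl)

theorem mvS_shortExact (hc : O ≤ O₁ ⊔ O₂) (hi : O₁ ⊓ O₂ ≤ O')
    (hsurj : ∀ n, Function.Surjective ((K.X n).presheaf.map (homOfLE h₁').op).hom) :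
    (mvS K h₁ h₂ h₁' h₂').ShortExact := by
  apply HomologicalComplex.shortExact_of_degreewise_shortExact
  intro n
  exact mv_shortExact (K.X n) h₁ h₂ h₁' h₂' hc hi (hsurj n)

/-- the split sequence of the product complex -/
noncomputable def splitS (O₁ O₂ : X.Opens) : ShortComplex Cx.{u} :=
  ShortComplex.mk
    ((NatTrans.mapHomologicalComplex (inl₂ (O₁ := O₁) (O₂ := O₂)) (ComplexShape.up ℕ)).app K)
    ((NatTrans.mapHomologicalComplex (pr₂ (O₁ := O₁) (O₂ := O₂)) (ComplexShape.up ℕ)).app K) (by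
      ext n x
      rfl)

theorem splitS_shortExact (O₁ O₂ : X.Opens) : (splitS K O₁ O₂).ShortExact := by
  apply HomologicalComplex.shortExact_of_degreewise_shortExact
  intro n
  exact split_shortExact (K.X n)

end Complexes

section ActCompat

variable {O₁ O₂ O O' : X.Opens}

lemma smul_mvι (h₁ : O₁ ≤ O) (h₂ : O₂ ≤ O) (r : Γ(X, O)) (r₁ : Γ(X, O₁)) (r₂ : Γ(X, O₂))
    (hr₁ : (X.presheaf.map (homOfLE h₁).op).hom r = r₁)
    (hr₂ : (X.presheaf.map (homOfLE h₂).op).hom r = r₂) :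
    smulΓ r ≫ mvι h₁ h₂ = mvι h₁ h₂ ≫ smulΓ₂ r₁ r₂ := by
  ext N : 2
  apply AddCommGrpCat.hom_ext
  apply AddMonoidHom.ext
  intro x
  subst hr₁ hr₂
  exact Prod.ext (Scheme.Modules.map_smul N (homOfLE h₁) r x)
    (Scheme.Modules.map_smul N (homOfLE h₂) r x)

lemma smul_mvπ (h₁' : O' ≤ O₁) (h₂' : O' ≤ O₂) (r₁ : Γ(X, O₁)) (r₂ : Γ(X, O₂)) (r' : Γ(X, O'))
    (hr₁ : (X.presheaf.map (homOfLE h₁').op).hom r₁ = r')
    (hr₂ : (X.presheaf.map (homOfLE h₂').op).hom r₂ = r') :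
    smulΓ₂ r₁ r₂ ≫ mvπ h₁' h₂' = mvπ h₁' h₂' ≫ smulΓ r' := by
  ext N : 2
  apply AddCommGrpCat.hom_ext
  apply AddMonoidHom.ext
  intro x
  have e₁ : (N.presheaf.map (homOfLE h₁').op).hom (r₁ • x.1) =
      r' • (N.presheaf.map (homOfLE h₁').op).hom x.1 := by
    rw [← hr₁]
    exact Scheme.Modules.map_smul N (homOfLE h₁') r₁ x.1
  have e₂ : (N.presheaf.map (homOfLE h₂').op).hom (r₂ • x.2) =
      r' • (N.presheaf.map (homOfLE h₂').op).hom x.2 := by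
    rw [← hr₂]
    exact Scheme.Modules.map_smul N (homOfLE h₂') r₂ x.2
  show (N.presheaf.map (homOfLE h₁').op).hom (r₁ • x.1) -
      (N.presheaf.map (homOfLE h₂').op).hom (r₂ • x.2) =
    r' • ((N.presheaf.map (homOfLE h₁').op).hom x.1 - (N.presheaf.map (homOfLE h₂').op).hom x.2)
  rw [e₁, e₂, smul_sub]

lemma smul_inl₂ (r₁ : Γ(X, O₁)) (r₂ : Γ(X, O₂)) :
    smulΓ r₁ ≫ inl₂ = inl₂ ≫ smulΓ₂ r₁ r₂ := by
  ext N : 2
  apply AddCommGrpCat.hom_ext
  apply AddMonoidHom.ext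
  intro x
  have h0 : r₂ • (0 : Γ(N, O₂)) = 0 := smul_zero r₂
  exact Prod.ext rfl h0.symm

lemma smul_pr₂ (r₁ : Γ(X, O₁)) (r₂ : Γ(X, O₂)) :
    smulΓ₂ r₁ r₂ ≫ pr₂ = pr₂ ≫ smulΓ r₂ := by
  ext N : 2
  apply AddCommGrpCat.hom_ext
  apply AddMonoidHom.ext
  intro x
  rfl

end ActCompat

section Push

variable {X' : Scheme.{u}} (g' : X' ⟶ X)

/-- restriction of sections of a direct image -/
noncomputable def resPush {W : X.Opens} {W' : X'.Opens} (h : W' ≤ g' ⁻¹ᵁ W) :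
    Scheme.Modules.pushforward g' ⋙ Γf W ⟶ Γf W' where
  app N' := N'.presheaf.map (homOfLE h).op
  naturality N₁ N₂ φ := (φ.mapPresheaf.naturality (homOfLE h).op).symm

lemma resPush_app_apply {W : X.Opens} {W' : X'.Opens} (h : W' ≤ g' ⁻¹ᵁ W) (N' : X'.Modules)
    (s : Γ(N', g' ⁻¹ᵁ W)) :
    ((resPush g' h).app N').hom s = (N'.presheaf.map (homOfLE h).op).hom s := rfl

/-- restriction of sections of a direct image, for the product functor -/
noncomputable def resPush₂ {O₁ O₂ : X.Opens} {P₁ P₂ : X'.Opens} (k₁ : P₁ ≤ g' ⁻¹ᵁ O₁)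
    (k₂ : P₂ ≤ g' ⁻¹ᵁ O₂) : Scheme.Modules.pushforward g' ⋙ Γ₂ O₁ O₂ ⟶ Γ₂ P₁ P₂ where
  app N' := AddCommGrpCat.ofHom (AddMonoidHom.prodMap (N'.presheaf.map (homOfLE k₁).op).hom
    (N'.presheaf.map (homOfLE k₂).op).hom)
  naturality N₁ N₂ φ := by
    apply AddCommGrpCat.hom_ext
    apply AddMonoidHom.ext
    intro x
    exact Prod.ext
      (congrArg (fun ψ : Γ(N₁, g' ⁻¹ᵁ O₁) ⟶ Γ(N₂, P₁) => ψ.hom x.1)
        (φ.mapPresheaf.naturality (homOfLE k₁).op)).symm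
      (congrArg (fun ψ : Γ(N₁, g' ⁻¹ᵁ O₂) ⟶ Γ(N₂, P₂) => ψ.hom x.2)
        (φ.mapPresheaf.naturality (homOfLE k₂).op)).symm

lemma push_res (N' : X'.Modules) {U V : X.Opens} (h : U ≤ V) (s : Γ(N', g' ⁻¹ᵁ V)) :
    (((Scheme.Modules.pushforward g').obj N').presheaf.map (homOfLE h).op).hom s =
      (N'.presheaf.map (homOfLE (show g' ⁻¹ᵁ U ≤ g' ⁻¹ᵁ V from fun _ hx => h hx)).op).hom s :=
  rfl

lemma res_eq (N' : X'.Modules) {U V : X'.Opens} (h h' : U ≤ V) (s : Γ(N', V)) :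
    (N'.presheaf.map (homOfLE h).op).hom s = (N'.presheaf.map (homOfLE h').op).hom s := rfl

/-- (i1) restriction -/
lemma resΓ_resPush {W₁ W₂ : X.Opens} {P₁ P₂ : X'.Opens} (h : W₂ ≤ W₁) (h' : P₂ ≤ P₁)
    (k₁ : P₁ ≤ g' ⁻¹ᵁ W₁) (k₂ : P₂ ≤ g' ⁻¹ᵁ W₂) (N' : X'.Modules) :
    (resΓ h).app ((Scheme.Modules.pushforward g').obj N') ≫ (resPush g' k₂).app N' =
      (resPush g' k₁).app N' ≫ (resΓ h').app N' := by
  apply AddCommGrpCat.hom_ext
  apply AddMonoidHom.ext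
  intro s
  show (N'.presheaf.map (homOfLE k₂).op).hom
      ((((Scheme.Modules.pushforward g').obj N').presheaf.map (homOfLE h).op).hom s) =
    (N'.presheaf.map (homOfLE h').op).hom ((N'.presheaf.map (homOfLE k₁).op).hom s)
  rw [push_res, res_res, res_res]

/-- (i2) Mayer–Vietoris inclusion -/
lemma mvι_resPush {O O₁ O₂ : X.Opens} {P P₁ P₂ : X'.Opens} (h₁ : O₁ ≤ O) (h₂ : O₂ ≤ O)
    (h₁' : P₁ ≤ P) (h₂' : P₂ ≤ P) (k : P ≤ g' ⁻¹ᵁ O) (k₁ : P₁ ≤ g' ⁻¹ᵁ O₁)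
    (k₂ : P₂ ≤ g' ⁻¹ᵁ O₂) (N' : X'.Modules) :
    (mvι h₁ h₂).app ((Scheme.Modules.pushforward g').obj N') ≫ (resPush₂ g' k₁ k₂).app N' =
      (resPush g' k).app N' ≫ (mvι h₁' h₂').app N' := by
  apply AddCommGrpCat.hom_ext
  apply AddMonoidHom.ext
  intro s
  have e₁ : (N'.presheaf.map (homOfLE k₁).op).hom
      ((((Scheme.Modules.pushforward g').obj N').presheaf.map (homOfLE h₁).op).hom s) =
      (N'.presheaf.map (homOfLE h₁').op).hom ((N'.presheaf.map (homOfLE k).op).hom s) := by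
    rw [push_res, res_res, res_res]
  have e₂ : (N'.presheaf.map (homOfLE k₂).op).hom
      ((((Scheme.Modules.pushforward g').obj N').presheaf.map (homOfLE h₂).op).hom s) =
      (N'.presheaf.map (homOfLE h₂').op).hom ((N'.presheaf.map (homOfLE k).op).hom s) := by
    rw [push_res, res_res, res_res]
  exact Prod.ext e₁ e₂

/-- (i3) Mayer–Vietoris difference -/
lemma mvπ_resPush {O' O₁ O₂ : X.Opens} {P' P₁ P₂ : X'.Opens} (h₁ : O' ≤ O₁) (h₂ : O' ≤ O₂)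
    (h₁' : P' ≤ P₁) (h₂' : P' ≤ P₂) (k' : P' ≤ g' ⁻¹ᵁ O') (k₁ : P₁ ≤ g' ⁻¹ᵁ O₁)
    (k₂ : P₂ ≤ g' ⁻¹ᵁ O₂) (N' : X'.Modules) :
    (mvπ h₁ h₂).app ((Scheme.Modules.pushforward g').obj N') ≫ (resPush g' k').app N' =
      (resPush₂ g' k₁ k₂).app N' ≫ (mvπ h₁' h₂').app N' := by
  apply AddCommGrpCat.hom_ext
  apply AddMonoidHom.ext
  intro x
  have e₁ : (N'.presheaf.map (homOfLE k').op).hom
      ((((Scheme.Modules.pushforward g').obj N').presheaf.map (homOfLE h₁).op).hom x.1) =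
      (N'.presheaf.map (homOfLE h₁').op).hom ((N'.presheaf.map (homOfLE k₁).op).hom x.1) := by
    rw [push_res, res_res, res_res]
  have e₂ : (N'.presheaf.map (homOfLE k').op).hom
      ((((Scheme.Modules.pushforward g').obj N').presheaf.map (homOfLE h₂).op).hom x.2) =
      (N'.presheaf.map (homOfLE h₂').op).hom ((N'.presheaf.map (homOfLE k₂).op).hom x.2) := by
    rw [push_res, res_res, res_res]
  show (N'.presheaf.map (homOfLE k').op).hom
      ((((Scheme.Modules.pushforward g').obj N').presheaf.map (homOfLE h₁).op).hom x.1 -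
        (((Scheme.Modules.pushforward g').obj N').presheaf.map (homOfLE h₂).op).hom x.2) =
    (N'.presheaf.map (homOfLE h₁').op).hom ((N'.presheaf.map (homOfLE k₁).op).hom x.1) -
      (N'.presheaf.map (homOfLE h₂').op).hom ((N'.presheaf.map (homOfLE k₂).op).hom x.2)
  exact (map_sub (N'.presheaf.map (homOfLE k').op).hom _ _).trans (by rw [e₁, e₂])

/-- (i4) first inclusion -/
lemma inl₂_resPush {O₁ O₂ : X.Opens} {P₁ P₂ : X'.Opens} (k₁ : P₁ ≤ g' ⁻¹ᵁ O₁)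
    (k₂ : P₂ ≤ g' ⁻¹ᵁ O₂) (N' : X'.Modules) :
    (inl₂ (O₁ := O₁) (O₂ := O₂)).app ((Scheme.Modules.pushforward g').obj N') ≫
        (resPush₂ g' k₁ k₂).app N' =
      (resPush g' k₁).app N' ≫ (inl₂ (O₁ := P₁) (O₂ := P₂)).app N' := by
  apply AddCommGrpCat.hom_ext
  apply AddMonoidHom.ext
  intro s
  have h0 : (N'.presheaf.map (homOfLE k₂).op).hom (0 : Γ(N', g' ⁻¹ᵁ O₂)) = 0 := map_zero _
  exact Prod.ext rfl h0

/-- (i5) second projection -/
lemma pr₂_resPush {O₁ O₂ : X.Opens} {P₁ P₂ : X'.Opens} (k₁ : P₁ ≤ g' ⁻¹ᵁ O₁)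
    (k₂ : P₂ ≤ g' ⁻¹ᵁ O₂) (N' : X'.Modules) :
    (pr₂ (O₁ := O₁) (O₂ := O₂)).app ((Scheme.Modules.pushforward g').obj N') ≫
        (resPush g' k₂).app N' =
      (resPush₂ g' k₁ k₂).app N' ≫ (pr₂ (O₁ := P₁) (O₂ := P₂)).app N' := by
  apply AddCommGrpCat.hom_ext
  apply AddMonoidHom.ext
  intro s
  rfl

lemma push_smul (N' : X'.Modules) {W : X.Opens} (a : Γ(X, W)) (x : Γ(N', g' ⁻¹ᵁ W)) :
    (((Scheme.Modules.pushforward g').obj N').smul a).hom x = (N'.smul ((g'.app W).hom a)).hom x :=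
  rfl

lemma res_smul_push (N' : X'.Modules) {W : X.Opens} {W' : X'.Opens} (k : W' ≤ g' ⁻¹ᵁ W)
    (a : Γ(X, W)) (x : Γ(N', g' ⁻¹ᵁ W)) :
    (N'.presheaf.map (homOfLE k).op).hom
        ((((Scheme.Modules.pushforward g').obj N').smul a).hom x) =
      (N'.smul ((g'.appLE W W' k).hom a)).hom ((N'.presheaf.map (homOfLE k).op).hom x) := by
  rw [push_smul]
  exact Scheme.Modules.map_smul N' (homOfLE k) ((g'.app W).hom a) x

/-- (i6) multiplication by a function -/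
lemma smulΓ_resPush {W : X.Opens} {W' : X'.Opens} (k : W' ≤ g' ⁻¹ᵁ W) (a : Γ(X, W))
    (a' : Γ(X', W')) (ha : (g'.appLE W W' k).hom a = a') (N' : X'.Modules) :
    (smulΓ a).app ((Scheme.Modules.pushforward g').obj N') ≫ (resPush g' k).app N' =
      (resPush g' k).app N' ≫ (smulΓ a').app N' := by
  apply AddCommGrpCat.hom_ext
  apply AddMonoidHom.ext
  intro x
  subst ha
  exact res_smul_push g' N' k a x

/-- (i7) componentwise multiplication -/
lemma smulΓ₂_resPush {O₁ O₂ : X.Opens} {P₁ P₂ : X'.Opens} (k₁ : P₁ ≤ g' ⁻¹ᵁ O₁)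
    (k₂ : P₂ ≤ g' ⁻¹ᵁ O₂) (a₁ : Γ(X, O₁)) (a₂ : Γ(X, O₂)) (a₁' : Γ(X', P₁)) (a₂' : Γ(X', P₂))
    (ha₁ : (g'.appLE O₁ P₁ k₁).hom a₁ = a₁') (ha₂ : (g'.appLE O₂ P₂ k₂).hom a₂ = a₂')
    (N' : X'.Modules) :
    (smulΓ₂ a₁ a₂).app ((Scheme.Modules.pushforward g').obj N') ≫ (resPush₂ g' k₁ k₂).app N' =
      (resPush₂ g' k₁ k₂).app N' ≫ (smulΓ₂ a₁' a₂').app N' := by
  apply AddCommGrpCat.hom_ext
  apply AddMonoidHom.ext
  intro x
  subst ha₁ ha₂
  exact Prod.ext (res_smul_push g' N' k₁ a₁ x.1) (res_smul_push g' N' k₂ a₂ x.2)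

end Push

section TauG

variable {X' : Scheme.{u}} {g' : X' ⟶ X} {K : CochainComplex X.Modules ℕ}
  {L : CochainComplex X'.Modules ℕ}
  (α : K ⟶ ((Scheme.Modules.pushforward g').mapHomologicalComplex (ComplexShape.up ℕ)).obj L)

/-- the map of complexes of sections induced by a map `K ⟶ g'_* L` and a transformation
`g'_* ⋙ F ⟶ F'` -/
noncomputable def tauG (F : X.Modules ⥤ AddCommGrpCat.{u}) [F.Additive]
    (F' : X'.Modules ⥤ AddCommGrpCat.{u}) [F'.Additive]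
    (r : Scheme.Modules.pushforward g' ⋙ F ⟶ F') :
    (F.mapHomologicalComplex (ComplexShape.up ℕ)).obj K ⟶
      (F'.mapHomologicalComplex (ComplexShape.up ℕ)).obj L where
  f n := F.map (α.f n) ≫ r.app (L.X n)
  comm' n m _ := by
    let αn : K.X n ⟶ (Scheme.Modules.pushforward g').obj (L.X n) := α.f n
    let αm : K.X m ⟶ (Scheme.Modules.pushforward g').obj (L.X m) := α.f m
    let rn : F.obj ((Scheme.Modules.pushforward g').obj (L.X n)) ⟶ F'.obj (L.X n) := r.app (L.X n)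
    let rm : F.obj ((Scheme.Modules.pushforward g').obj (L.X m)) ⟶ F'.obj (L.X m) := r.app (L.X m)
    have h1 : αn ≫ (Scheme.Modules.pushforward g').map (L.d n m) = K.d n m ≫ αm :=
      α.comm n m
    have h2 : F.map ((Scheme.Modules.pushforward g').map (L.d n m)) ≫ rm =
        rn ≫ F'.map (L.d n m) := r.naturality (L.d n m)
    have e1 : (F.map αn ≫ rn) ≫ F'.map (L.d n m) = F.map αn ≫ (rn ≫ F'.map (L.d n m)) :=
      Category.assoc _ _ _
    have e2 : F.map αn ≫ (rn ≫ F'.map (L.d n m)) =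
        F.map αn ≫ (F.map ((Scheme.Modules.pushforward g').map (L.d n m)) ≫ rm) :=
      congrArg (fun t => F.map αn ≫ t) h2.symm
    have e3 : F.map αn ≫ (F.map ((Scheme.Modules.pushforward g').map (L.d n m)) ≫ rm) =
        (F.map αn ≫ F.map ((Scheme.Modules.pushforward g').map (L.d n m))) ≫ rm :=
      (Category.assoc _ _ _).symm
    have e4 : F.map αn ≫ F.map ((Scheme.Modules.pushforward g').map (L.d n m)) =
        F.map (K.d n m) ≫ F.map αm := by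
      rw [← F.map_comp, ← F.map_comp, h1]
    have e5 : (F.map αn ≫ F.map ((Scheme.Modules.pushforward g').map (L.d n m))) ≫ rm =
        (F.map (K.d n m) ≫ F.map αm) ≫ rm := congrArg (fun t => t ≫ rm) e4
    exact e1.trans (e2.trans (e3.trans (e5.trans (Category.assoc _ _ _))))

lemma tauG_f (F : X.Modules ⥤ AddCommGrpCat.{u}) [F.Additive]
    (F' : X'.Modules ⥤ AddCommGrpCat.{u}) [F'.Additive]
    (r : Scheme.Modules.pushforward g' ⋙ F ⟶ F') (n : ℕ) :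
    (tauG α F F' r).f n = F.map (α.f n) ≫ r.app (L.X n) := rfl

/-- compatibility of `tauG` with natural transformations -/
theorem tauG_comp {F₁ F₂ : X.Modules ⥤ AddCommGrpCat.{u}} [F₁.Additive] [F₂.Additive]
    {F₁' F₂' : X'.Modules ⥤ AddCommGrpCat.{u}} [F₁'.Additive] [F₂'.Additive]
    (r₁ : Scheme.Modules.pushforward g' ⋙ F₁ ⟶ F₁')
    (r₂ : Scheme.Modules.pushforward g' ⋙ F₂ ⟶ F₂') (θ : F₁ ⟶ F₂) (θ' : F₁' ⟶ F₂')
    (h : ∀ N' : X'.Modules,
      θ.app ((Scheme.Modules.pushforward g').obj N') ≫ r₂.app N' = r₁.app N' ≫ θ'.app N') :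
    (NatTrans.mapHomologicalComplex θ (ComplexShape.up ℕ)).app K ≫ tauG α F₂ F₂' r₂ =
      tauG α F₁ F₁' r₁ ≫ (NatTrans.mapHomologicalComplex θ' (ComplexShape.up ℕ)).app L := by
  refine HomologicalComplex.hom_ext _ _ (fun n => ?_)
  let αn : K.X n ⟶ (Scheme.Modules.pushforward g').obj (L.X n) := α.f n
  let r₁n : F₁.obj ((Scheme.Modules.pushforward g').obj (L.X n)) ⟶ F₁'.obj (L.X n) :=
    r₁.app (L.X n)
  let r₂n : F₂.obj ((Scheme.Modules.pushforward g').obj (L.X n)) ⟶ F₂'.obj (L.X n) :=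
    r₂.app (L.X n)
  have hn : θ.app (K.X n) ≫ F₂.map αn =
      F₁.map αn ≫ θ.app ((Scheme.Modules.pushforward g').obj (L.X n)) :=
    (θ.naturality αn).symm
  have hh : θ.app ((Scheme.Modules.pushforward g').obj (L.X n)) ≫ r₂n = r₁n ≫ θ'.app (L.X n) :=
    h (L.X n)
  have e1 : θ.app (K.X n) ≫ (F₂.map αn ≫ r₂n) = (θ.app (K.X n) ≫ F₂.map αn) ≫ r₂n :=
    (Category.assoc _ _ _).symm
  have e2 : (θ.app (K.X n) ≫ F₂.map αn) ≫ r₂n =
      (F₁.map αn ≫ θ.app ((Scheme.Modules.pushforward g').obj (L.X n))) ≫ r₂n :=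
    congrArg (fun t => t ≫ r₂n) hn
  have e3 : (F₁.map αn ≫ θ.app ((Scheme.Modules.pushforward g').obj (L.X n))) ≫ r₂n =
      F₁.map αn ≫ (θ.app ((Scheme.Modules.pushforward g').obj (L.X n)) ≫ r₂n) :=
    Category.assoc _ _ _
  have e4 : F₁.map αn ≫ (θ.app ((Scheme.Modules.pushforward g').obj (L.X n)) ≫ r₂n) =
      F₁.map αn ≫ (r₁n ≫ θ'.app (L.X n)) := congrArg (fun t => F₁.map αn ≫ t) hh
  have e5 : F₁.map αn ≫ (r₁n ≫ θ'.app (L.X n)) = (F₁.map αn ≫ r₁n) ≫ θ'.app (L.X n) :=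
    (Category.assoc _ _ _).symm
  exact e1.trans (e2.trans (e3.trans (e4.trans e5)))

end TauG

end Groth.Agent.Lib.SecCx
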