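import Mathlib
import Groth.Agent.Lib.SecCx_helper2
import Groth.Agent.Lib.DeltaComp_helper2
import Groth.Agent.Lib.SectionsDer_helper2
import Groth.Agent.Lib.ModFlasque_helper2
import Groth.Agent.Lib.FlasqueAcyclic_helper2
import Groth.Agent.Lib.AffVanish_helper9
import Groth.Agent.Lib.RpushRestrict_helper9
import Groth.Agent.Lib.ModSite1_helper8
import Groth.Agent.Lib.FAcyc_helper9

/-!
# The right derived functors of the sections functor on modules (helper2)

`Γf W : X.Modules ⥤ Ab` is left exact; restrictions of sections of injective modules are onto; its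
higher right derived functors vanish on quasi-coherent modules when `W` is affine.
APPEND-ONLY once landed.
-/

set_option autoImplicit false
universe u

open CategoryTheory CategoryTheory.Limits AlgebraicGeometry Opposite TopologicalSpace

namespace Groth.Agent.Lib.SecDer

open Groth.Agent.Lib.SecCx

variable {X : Scheme.{u}}

instance preservesLimits_Γf (W : X.Opens) : PreservesLimits (Γf W) := by
  haveI : PreservesLimits ((evaluation (Opens ↥X)ᵒᵖ Ab.{u}).obj (op W)) := inferInstance
  exact comp_preservesLimits (Scheme.Modules.toPresheaf X)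
    ((evaluation (Opens ↥X)ᵒᵖ Ab.{u}).obj (op W))

instance preservesFiniteLimits_Γf (W : X.Opens) : PreservesFiniteLimits (Γf W) :=
  ⟨fun _ _ _ => inferInstance⟩

/-- restrictions of sections of an injective module are onto -/
theorem res_surjective_of_injective (I : X.Modules) [Injective I] {U V : X.Opens} (h : U ≤ V) :
    Function.Surjective (I.presheaf.map (homOfLE h).op).hom := by
  have hI : Injective (C := SheafOfModules X.ringCatSheaf) I := ‹Injective I›
  have hfl := @Groth.Agent.Lib.ModFlasque.isFlasque_toSheaf_of_injective _ X.ringCatSheaf I hI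
  have hepi := hfl.epi (homOfLE h).op
  exact (AddCommGrpCat.epi_iff_surjective _).mp hepi

section Derived

variable [HasInjectiveResolutions X.Modules]

/-- `R^q Γ(W, -)` on modules is `R^q Γ(W, -)` on the underlying abelian sheaves -/
theorem nonempty_rightDerived_iso (W : X.Opens) (q : ℕ) :
    Nonempty ((Γf W).rightDerived q ⋙ 𝟭 AddCommGrpCat.{u} ≅
      SheafOfModules.toSheaf X.ringCatSheaf ⋙
        (Groth.Agent.Lib.SectionsDer.sections (Opens.grothendieckTopology X) W).rightDerived q) := by
  haveI := Groth.Agent.Lib.ModSiteH8.toSheaf_preservesColimitsOfSize X.ringCatSheaf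
  haveI : PreservesFiniteColimits (SheafOfModules.toSheaf X.ringCatSheaf) :=
    ⟨fun _ _ _ => inferInstance⟩
  have hinj : HasInjectiveResolutions (SheafOfModules X.ringCatSheaf) :=
    ‹HasInjectiveResolutions X.Modules›
  haveI : EnoughInjectives (SheafOfModules X.ringCatSheaf) := Groth.Agent.Lib.FAcyc.enoughInjectives
  let Fm : SheafOfModules X.ringCatSheaf ⥤ AddCommGrpCat.{u} := Γf W
  haveI hadd : Fm.Additive := inferInstanceAs ((Γf W).Additive)
  haveI : PreservesFiniteLimits Fm := inferInstanceAs (PreservesFiniteLimits (Γf W))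
  let e : Fm ⋙ 𝟭 AddCommGrpCat.{u} ≅ SheafOfModules.toSheaf X.ringCatSheaf ⋙
      Groth.Agent.Lib.SectionsDer.sections (Opens.grothendieckTopology X) W :=
    NatIso.ofComponents (fun M => Iso.refl _) (by intros; ext; rfl)
  exact Groth.Agent.Lib.DeltaComp.nonempty_rightDerived_baseChange Fm
    (Groth.Agent.Lib.SectionsDer.sections (Opens.grothendieckTopology X) W)
    (SheafOfModules.toSheaf X.ringCatSheaf) (𝟭 AddCommGrpCat.{u}) e
    (fun I hI n => by
      haveI : TopCat.Sheaf.IsFlasque ((SheafOfModules.toSheaf X.ringCatSheaf).obj I) :=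
        @Groth.Agent.Lib.ModFlasque.isFlasque_toSheaf_of_injective _ X.ringCatSheaf I hI
      refine IsZero.of_iso ?_ (Groth.Agent.Lib.SectionsDer.sectionsRightDerivedIso
        (Opens.grothendieckTopology X) W (n + 1) ((SheafOfModules.toSheaf X.ringCatSheaf).obj I))
      have h : ∀ ξ : Abelian.Ext (Groth.Agent.Lib.FreeSheaf.freeSheaf
          (Opens.grothendieckTopology X) W) ((SheafOfModules.toSheaf X.ringCatSheaf).obj I)
          (n + 1), ξ = 0 :=
        Groth.Agent.Lib.FlasqueAcyclic.ext_freeSheaf_eq_zero_of_isFlasque _ W n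
      haveI : Subsingleton (Sheaf.H' ((SheafOfModules.toSheaf X.ringCatSheaf).obj I) (n + 1) W) :=
        ⟨fun a b => (h a).trans (h b).symm⟩
      exact AddCommGrpCat.isZero_of_subsingleton _) q

/-- **Affine vanishing** for the derived functors of sections on modules. -/
theorem isZero_rightDerived_of_isAffineOpen {W : X.Opens} (hW : IsAffineOpen W) (N : X.Modules)
    [N.IsQuasicoherent] (n : ℕ) : IsZero (((Γf W).rightDerived (n + 1)).obj N) := by
  obtain ⟨e⟩ := nonempty_rightDerived_iso W (n + 1)
  refine IsZero.of_iso ?_ (e.app N)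
  refine IsZero.of_iso ?_ (Groth.Agent.Lib.SectionsDer.sectionsRightDerivedIso
    (Opens.grothendieckTopology X) W (n + 1) ((SheafOfModules.toSheaf X.ringCatSheaf).obj N))
  have h : ∀ ξ : Abelian.Ext (Groth.Agent.Lib.FreeSheaf.freeSheaf
      (Opens.grothendieckTopology X) W) (Coh.toAb N) (n + 1), ξ = 0 :=
    AffVanish.ext_freeSheaf_eq_zero_of_MV (Coh.toAb N) (AffVanish.MV_toAb N) W hW n
  haveI : Subsingleton (Sheaf.H' ((SheafOfModules.toSheaf X.ringCatSheaf).obj N) (n + 1) W) :=
    ⟨fun a b => (h a).trans (h b).symm⟩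
  exact AddCommGrpCat.isZero_of_subsingleton _

/-- vanishing of the higher derived functors of sections on modules with flasque underlying
sheaf -/
theorem isZero_rightDerived_of_isFlasque (W : X.Opens) (N : X.Modules)
    (hN : TopCat.Sheaf.IsFlasque ((SheafOfModules.toSheaf X.ringCatSheaf).obj N)) (n : ℕ) :
    IsZero (((Γf W).rightDerived (n + 1)).obj N) := by
  obtain ⟨e⟩ := nonempty_rightDerived_iso W (n + 1)
  refine IsZero.of_iso ?_ (e.app N)
  refine IsZero.of_iso ?_ (Groth.Agent.Lib.SectionsDer.sectionsRightDerivedIso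
    (Opens.grothendieckTopology X) W (n + 1) ((SheafOfModules.toSheaf X.ringCatSheaf).obj N))
  have h : ∀ ξ : Abelian.Ext (Groth.Agent.Lib.FreeSheaf.freeSheaf
      (Opens.grothendieckTopology X) W) ((SheafOfModules.toSheaf X.ringCatSheaf).obj N)
      (n + 1), ξ = 0 :=
    Groth.Agent.Lib.FlasqueAcyclic.ext_freeSheaf_eq_zero_of_isFlasque _ W n
  haveI : Subsingleton (Sheaf.H' ((SheafOfModules.toSheaf X.ringCatSheaf).obj N) (n + 1) W) :=
    ⟨fun a b => (h a).trans (h b).symm⟩
  exact AddCommGrpCat.isZero_of_subsingleton _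

/-- the direct image of an injective module has flasque underlying sheaf -/
theorem isFlasque_toSheaf_push {Y : Scheme.{u}} (φ : Y ⟶ X) (I : Y.Modules) [Injective I] :
    TopCat.Sheaf.IsFlasque ((SheafOfModules.toSheaf X.ringCatSheaf).obj
      ((Scheme.Modules.pushforward φ).obj I)) := by
  have hI : Injective (C := SheafOfModules Y.ringCatSheaf) I := ‹Injective I›
  have hfl := @Groth.Agent.Lib.ModFlasque.isFlasque_toSheaf_of_injective _ Y.ringCatSheaf I hI
  refine ⟨fun {U V} i => ?_⟩
  exact hfl.epi ((Opens.map φ.base).op.map i)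

/-- direct images of injective modules are acyclic for sections -/
theorem isZero_rightDerived_push_injective {Y : Scheme.{u}} (φ : Y ⟶ X) (I : Y.Modules)
    [Injective I] (W : X.Opens) (n : ℕ) :
    IsZero (((Γf W).rightDerived (n + 1)).obj ((Scheme.Modules.pushforward φ).obj I)) :=
  isZero_rightDerived_of_isFlasque W _ (isFlasque_toSheaf_push φ I) n

end Derived

end Groth.Agent.Lib.SecDer
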