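import Mathlib
import Groth.Prelude
import Groth.Agent.Lib.SecDer_helper2
import Groth.Agent.Lib.QCFlasque_helper8
import Groth.Agent.Lib.QcSect2_helper7
import Groth.Agent.Lib.ColimCoh4_helper9
import Groth.Agent.Lib.MVPush3_lead

/-!
# Direct sums of injective modules are acyclic for sections over qcqs opens (helper3)

* `QcFl N`: restrictions of sections of `N` onto quasi-compact opens are surjective.
* `qcFl_of_injective`, `qcFl_of_cofan`: injective modules and direct sums of `QcFl` modules are `QcFl`.
* `isZero_rightDerived_of_qcFl`: a `QcFl` module is acyclic for sections over a quasi-compact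
  quasi-separated open.
-/

set_option autoImplicit false
set_option linter.all false
set_option maxHeartbeats 1600000
set_option backward.isDefEq.respectTransparency false
set_option backward.isDefEq.respectTransparency.types false
set_option backward.defeqAttrib.useBackward true

universe u
open CategoryTheory CategoryTheory.Limits AlgebraicGeometry Opposite TopologicalSpace

namespace Groth.Agent.Lib.QcFlH3

open Groth.Agent.Lib Groth.Agent.Lib.SecCx

noncomputable section

variable {X : Scheme.{u}}

/-- restrictions onto quasi-compact opens are surjective -/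
def QcFl (N : X.Modules) : Prop :=
  ∀ {V W : X.Opens} (h : V ≤ W), IsCompact (V : Set X) →
    Function.Surjective (N.presheaf.map (homOfLE h).op).hom

theorem qcFl_of_injective (I : X.Modules) [Injective I] : QcFl I :=
  fun h _ => SecDer.res_surjective_of_injective I h

theorem qcFl_of_cofan {ι : Type u} {F : ι → X.Modules} {N : X.Modules} {inj : ∀ l, F l ⟶ N}
    (hc : IsColimit (Cofan.mk N inj)) (hF : ∀ l, QcFl (F l)) : QcFl N := by
  classical
  intro V W h hV s
  have hfin : QcSect.FinSub (Opens.grothendieckTopology X) V := QcSect.finSub_of_isCompact V hV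
  obtain ⟨T, hT⟩ := QcSect.exists_sum' (O := X.sheaf) (F := F) (X := N) (inj := inj) hc hfin s
  let sl : ∀ l, (QcSect.Γ X.sheaf V).obj (F l) := fun l =>
    (QcSect.Γ X.sheaf V).map (QcSect.π hc l) s
  have hex : ∀ l, ∃ t : (QcSect.Γ X.sheaf W).obj (F l),
      QcSect.res (F l) (homOfLE h) t = sl l := fun l => hF l h hV (sl l)
  choose tl htl using hex
  refine ⟨∑ l ∈ T, (QcSect.Γ X.sheaf W).map (inj l) (tl l), ?_⟩
  show QcSect.res N (homOfLE h) (∑ l ∈ T, (QcSect.Γ X.sheaf W).map (inj l) (tl l)) = s
  rw [map_sum]
  conv_rhs => rw [hT]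
  refine Finset.sum_congr rfl (fun l _ => ?_)
  rw [← QcSect.Γ_res, htl l]

section Derived

/-- a `QcFl` module is acyclic for sections over a quasi-compact quasi-separated open -/
theorem isZero_rightDerived_of_qcFl [HasInjectiveResolutions X.Modules] (W : X.Opens)
    (hW : IsCompact (W : Set X)) (hqs : IsQuasiSeparated (W : Set X)) (N : X.Modules)
    (hN : QcFl N) (n : ℕ) : IsZero (((Γf W).rightDerived (n + 1)).obj N) := by
  obtain ⟨e⟩ := SecDer.nonempty_rightDerived_iso W (n + 1)
  refine IsZero.of_iso ?_ (e.app N)
  refine IsZero.of_iso ?_ (Groth.Agent.Lib.SectionsDer.sectionsRightDerivedIso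
    (Opens.grothendieckTopology X) W (n + 1) ((SheafOfModules.toSheaf X.ringCatSheaf).obj N))
  have h : ∀ ξ : Abelian.Ext (Groth.Agent.Lib.FreeSheaf.freeSheaf
      (Opens.grothendieckTopology X) W) ((SheafOfModules.toSheaf X.ringCatSheaf).obj N)
      (n + 1), ξ = 0 :=
    Groth.Agent.Lib.QCFlasqueH8.ext_vanish ((SheafOfModules.toSheaf X.ringCatSheaf).obj N)
      (ColimCoh.qcqs_of_scheme W hqs) (fun hVW hV _ => hN hVW hV) W hW le_rfl n
  haveI : Subsingleton (Sheaf.H' ((SheafOfModules.toSheaf X.ringCatSheaf).obj N) (n + 1) W) :=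
    ⟨fun a b => (h a).trans (h b).symm⟩
  exact AddCommGrpCat.isZero_of_subsingleton _

end Derived

end

end Groth.Agent.Lib.QcFlH3
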