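import Mathlib
import Groth.Prelude
import Groth.Agent.Lib.QcFlasque1_helper3
import Groth.Agent.Lib.TensCoprod1_helper3
import Groth.Agent.Lib.GammaPush4_helper3
import Groth.Agent.Lib.HomCoprod1_helper3

/-!
# `RΓ(X, -)` commutes with uniformly bounded below direct sums on a qcqs scheme (helper3)

* `preserves_gammaAb`: `Γ(X, -)` commutes with direct sums on a quasi-compact scheme.
* `acyc_sigma`: direct sums of injective modules are `Γ(X, -)`-acyclic on a qcqs scheme.
* `exists_inj_rep`: bounded below injective representatives.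
* `preservesColimit_RΓ`: the main result.
-/

set_option autoImplicit false
set_option linter.all false
set_option maxHeartbeats 1600000
set_option backward.isDefEq.respectTransparency false
set_option backward.isDefEq.respectTransparency.types false
set_option backward.defeqAttrib.useBackward true

universe u
open CategoryTheory CategoryTheory.Limits AlgebraicGeometry Opposite TopologicalSpace

attribute [local instance] HasDerivedCategory.standard

namespace Groth.Agent.Lib.RGamCoprodH3

open Groth.Agent.Lib Groth.Agent.Lib.MVPushL Groth.Agent.Lib.GammaPushH3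

noncomputable section

variable {X : Scheme.{u}}

/-- sections over a quasi-compact open of a direct sum -/
def isColimitΓ' {ι : Type u} {F : ι → X.Modules} {N : X.Modules} {inj : ∀ l, F l ⟶ N}
    (hc : IsColimit (Cofan.mk N inj)) (W : X.Opens) (hW : IsCompact (W : Set X)) :
    IsColimit (Cofan.mk ((QcSect.Γ X.sheaf W).obj N)
      (fun l => (QcSect.Γ X.sheaf W).map (inj l))) :=
  QcSect.isColimitAb (fun l => (QcSect.Γ X.sheaf W).map (inj l))
    (fun l => (QcSect.Γ X.sheaf W).map (QcSect.π hc l))
    (fun l => by rw [← Functor.map_comp, QcSect.inj_π_self, CategoryTheory.Functor.map_id])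
    (fun k l hkl => by rw [← Functor.map_comp, QcSect.inj_π_ne hc hkl, Functor.map_zero])
    (fun y => QcSect.exists_sum' (O := X.sheaf) hc (QcSect.finSub_of_isCompact W hW) y)

theorem preservesΓ (W : X.Opens) (hW : IsCompact (W : Set X)) (ι : Type u) :
    PreservesColimitsOfShape (Discrete ι) (QcSect.Γ X.sheaf W) := by
  constructor
  intro K
  let F : ι → X.Modules := fun i => K.obj ⟨i⟩
  have e : K ≅ Discrete.functor F := Discrete.natIsoFunctor
  haveI : PreservesColimit (Discrete.functor F) (QcSect.Γ X.sheaf W) :=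
    preservesColimit_of_preserves_colimit_cocone (coproductIsCoproduct F)
      ((isColimitMapCoconeCofanMkEquiv _ _ _).symm
        (isColimitΓ' (coproductIsCoproduct F) W hW))
  exact preservesColimit_of_iso_diagram _ e.symm

/-- global sections as sections of the underlying abelian sheaf -/
def gammaIso (X : Scheme.{u}) : DCoh.gammaAb X ≅ QcSect.Γ X.sheaf (⊤ : X.Opens) :=
  NatIso.ofComponents (fun M => Iso.refl _) (by intros; ext; rfl)

theorem preserves_gammaAb (X : Scheme.{u}) [CompactSpace X] (ι : Type u) :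
    PreservesColimitsOfShape (Discrete ι) (DCoh.gammaAb X) := by
  haveI := preservesΓ (X := X) ⊤ (by simpa using CompactSpace.isCompact_univ (X := X)) ι
  exact preservesColimitsOfShape_of_natIso (gammaIso X).symm

instance (X : Scheme.{u}) : PreservesFiniteLimits (DCoh.gammaAb X) :=
  inferInstanceAs (PreservesFiniteLimits (SecCx.Γf (⊤ : X.Opens)))

/-- direct sums of injective modules are acyclic for global sections on a qcqs scheme -/
theorem acyc_of_cofan [CompactSpace X] [QuasiSeparatedSpace X] {ι : Type u}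
    {F : ι → X.Modules} {N : X.Modules} {inj : ∀ l, F l ⟶ N}
    (hc : IsColimit (Cofan.mk N inj)) (hF : ∀ l, Injective (F l)) :
    haveI := grothendieck_modules X
    FAcyc.acyc (DCoh.gammaAb X) N := by
  haveI := grothendieck_modules X
  intro i hi
  obtain ⟨n, rfl⟩ : ∃ n, i = n + 1 := ⟨i - 1, by omega⟩
  have hq : QcFlH3.QcFl N := QcFlH3.qcFl_of_cofan hc (fun l => QcFlH3.qcFl_of_injective (F l))
  exact QcFlH3.isZero_rightDerived_of_qcFl (⊤ : X.Opens)
    (by simpa using CompactSpace.isCompact_univ (X := X))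
    (by simpa using (isQuasiSeparated_univ (α := X))) N hq n

/-- bounded below injective representatives -/
theorem exists_inj_rep (K : DCoh.D X) (a : ℤ) [K.IsGE a] :
    ∃ I : CochainComplex X.Modules ℤ, I.IsStrictlyGE a ∧ (∀ m, Injective (I.X m)) ∧
      Nonempty (DerivedCategory.Q.obj I ≅ K) := by
  haveI := grothendieck_modules X
  obtain ⟨L, hL, ⟨e⟩⟩ := DerivedCategory.exists_iso_Q_obj_of_isGE K a
  obtain ⟨I, i, hi, hinj, hI⟩ :=
    CochainComplex.Plus.modelCategoryQuillen.exists_quasiIso_injective L a
  haveI := hi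
  haveI : IsIso (DerivedCategory.Q.map i) := by
    rw [DerivedCategory.isIso_Q_map_iff_quasiIso]; infer_instance
  exact ⟨I, hI, hinj, ⟨(asIso (DerivedCategory.Q.map i)).symm ≪≫ e.symm⟩⟩

/-- the unit `Γ(X, K) ⟶ RΓ(X, K)` for complexes -/
def unitCx (X : Scheme.{u}) [DCoh.HasRΓ X] :
    GCx X ⋙ DerivedCategory.Q ⟶ DerivedCategory.Q ⋙ DCoh.RΓ X where
  app K := (LerayBB.α (DCoh.gammaAb X)).app
    ((HomotopyCategory.quotient X.Modules (ComplexShape.up ℤ)).obj K)
  naturality K L f := (LerayBB.α (DCoh.gammaAb X)).naturality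
    ((HomotopyCategory.quotient X.Modules (ComplexShape.up ℤ)).map f)

theorem isZero_sig_X {ι : Type u} (I : ι → CochainComplex X.Modules ℤ) (m : ℤ)
    (h : ∀ i, IsZero ((I i).X m)) : IsZero ((DerCoprodB.sig I).X m) := by
  rw [IsZero.iff_id_eq_zero]
  apply DerCoprodB.homX_ext
  intro j
  exact (h j).eq_of_src _ _

theorem hasExactCoprodAb (ι : Type u) :
    HasExactColimitsOfShape (Discrete ι) AddCommGrpCat.{u} := by
  haveI : AB4OfSize.{u} AddCommGrpCat.{u} := AB4.of_AB5 AddCommGrpCat.{u}
  exact AB4OfSize.ofShape ι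

/-- **`RΓ(X, -)` commutes with uniformly bounded below direct sums** -/
theorem preservesColimit_RΓ [CompactSpace X] [QuasiSeparatedSpace X] [DCoh.HasRΓ X]
    {ι : Type u} (K : ι → DCoh.D X) (a : ℤ) (hK : ∀ i, (K i).IsGE a) :
    PreservesColimit (Discrete.functor K) (DCoh.RΓ X) := by
  haveI := grothendieck_modules X
  choose I hI1 hI2 hI3 using fun i => (haveI := hK i; exists_inj_rep (K i) a)
  let eK : ∀ i, DerivedCategory.Q.obj (I i) ≅ K i := fun i => (hI3 i).some
  haveI := TensCoprodH3.hasExactCoprod X ι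
  haveI := hasExactCoprodAb ι
  let S := DerCoprodB.sig I
  have hSz : ∀ m, m < a → IsZero (S.X m) := fun m hm =>
    isZero_sig_X I m (fun i => by
      haveI := hI1 i
      exact (I i).isZero_of_isStrictlyGE a m hm)
  have hSacyc : ∀ m, FAcyc.acyc (DCoh.gammaAb X) (S.X m) := fun m =>
    acyc_of_cofan (coproductIsCoproduct (fun j => (I j).X m)) (fun i => hI2 i m)
  haveI hαS : IsIso ((unitCx X).app S) :=
    LerayBB.isIso_unit_of_bddBelow (DCoh.gammaAb X) S a hSz hSacyc
  haveI hαI : ∀ i, IsIso ((unitCx X).app (I i)) := fun i => by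
    haveI := hI1 i
    haveI := hI2 i
    haveI : (I i).IsKInjective := CochainComplex.isKInjective_of_injective (I i) a
    exact RDerGE.isIso_unit (DCoh.gammaAb X) (I i)
  have hcS : IsColimit (Cofan.mk S (DerCoprodB.ι I)) := DerCoprodB.isColimitSig I
  have hc1 : IsColimit (Cofan.mk (DerivedCategory.Q.obj ((GCx X).obj S))
      (fun i => DerivedCategory.Q.map ((GCx X).map (DerCoprodB.ι I i)))) := by
    haveI := preserves_gammaAb X ι
    have h1 : IsColimit (Cofan.mk ((GCx X).obj S)
        (fun i => (GCx X).map (DerCoprodB.ι I i))) :=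
      isColimitCofanMkObjOfIsColimit (GCx X) _ _ hcS
    haveI := DerCoprodB.preservesColimit_Q (A := AddCommGrpCat.{u})
      (fun i => (GCx X).obj (I i))
    exact isColimitCofanMkObjOfIsColimit DerivedCategory.Q _ _ h1
  have hc2 : IsColimit (Cofan.mk ((DCoh.RΓ X).obj (DerivedCategory.Q.obj S))
      (fun i => (DCoh.RΓ X).map (DerivedCategory.Q.map (DerCoprodB.ι I i)))) :=
    HomCoprodH3.isColimit_cofan_of_iso
      (inj := fun i => DerivedCategory.Q.map ((GCx X).map (DerCoprodB.ι I i)))
      (inj' := fun i => (DCoh.RΓ X).map (DerivedCategory.Q.map (DerCoprodB.ι I i)))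
      (fun i => (asIso ((unitCx X).app (I i))).symm) (asIso ((unitCx X).app S)).symm
      (fun i => by
        have h := (unitCx X).naturality (DerCoprodB.ι I i)
        rw [Iso.symm_hom, Iso.symm_hom, asIso_inv, asIso_inv, IsIso.comp_inv_eq,
          Category.assoc, IsIso.eq_inv_comp]
        exact h.symm) hc1
  have hcQ : IsColimit (Cofan.mk (DerivedCategory.Q.obj S)
      (fun i => DerivedCategory.Q.map (DerCoprodB.ι I i))) := DerCoprodB.isColimitCofan I
  haveI : PreservesColimit (Discrete.functor (fun i => DerivedCategory.Q.obj (I i)))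
      (DCoh.RΓ X) :=
    preservesColimit_of_preserves_colimit_cocone hcQ
      ((isColimitMapCoconeCofanMkEquiv _ _ _).symm hc2)
  let eD : Discrete.functor (fun i => DerivedCategory.Q.obj (I i)) ≅ Discrete.functor K :=
    Discrete.natIso (fun ⟨i⟩ => eK i)
  exact preservesColimit_of_iso_diagram _ eD

end

end Groth.Agent.Lib.RGamCoprodH3
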