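import Mathlib
import Groth.Prelude
import Groth.Agent.Lib.CptFam1_helper3
import Groth.Agent.Lib.RGamCoprod1_helper3
import Groth.Agent.Lib.KInjGen5_helper7
import Groth.Agent.Lib.BifCone_helper2

/-!
# Maps from the structure sheaf into direct sums in `D(O_X)`, `X` qcqs (helper3)

* `homExact_of_exactAt`, `exists_cycle_of_homExact_cone`: if `Γ(X, cone r)` is exact for a
  K-injective resolution `r : J ⟶ J'`, every map `O[0] ⟶ J` in the derived category is the class
  of a cycle of `Γ(X, J⁰)`.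
* `model_fixed`, `cqf_P0`: finite factorisation of maps from `O[0]` to direct sums.
* `rep_bb`: uniformly bounded below families; `rep_fd`: all families, when `X` has finite
  cohomological dimension.
-/

set_option autoImplicit false
set_option linter.all false
set_option maxHeartbeats 1600000
set_option backward.isDefEq.respectTransparency false
set_option backward.isDefEq.respectTransparency.types false
set_option backward.defeqAttrib.useBackward true

universe u
open CategoryTheory CategoryTheory.Limits AlgebraicGeometry Opposite TopologicalSpace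
open DerivedCategory

attribute [local instance] HasDerivedCategory.standard

namespace Groth.Agent.Lib.CptOH3

open Groth.Agent.Lib Groth.Agent.Lib.CompQL Groth.Agent.Lib.CptFamH3
open Groth.Agent.Lib.MVPushL Groth.Agent.Lib.GammaPushH3

noncomputable section

variable (T : Scheme.{u})

/-- the test object `j_! O` for the whole space (isomorphic to the structure sheaf) -/
abbrev P0 : T.Modules := (DSectX.PX T).obj ⊤

/-- `Hom(P0, K)` is exact in degree `0` -/
def HomExact (K : CochainComplex T.Modules ℤ) : Prop :=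
  ∀ z : P0 T ⟶ K.X 0, z ≫ K.d 0 1 = 0 → ∃ y : P0 T ⟶ K.X (-1), y ≫ K.d (-1) 0 = z

theorem homExact_of_exactAt (K : CochainComplex T.Modules ℤ)
    (h : ((GCx T).obj K).ExactAt 0) : HomExact T K := by
  rw [HomologicalComplex.exactAt_iff' _ (-1) 0 1 (by simp) (by simp),
    ShortComplex.ab_exact_iff] at h
  intro z hz
  let x : (DCoh.gammaAb T).obj (K.X 0) := DSectX.evX T ⊤ (K.X 0) z
  have hx : (DCoh.gammaAb T).map (K.d 0 1) x = 0 := by
    have h1 := DSectX.evX_comp T ⊤ z (K.d 0 1)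
    rw [hz, map_zero] at h1
    exact h1.symm
  obtain ⟨y', hy'⟩ := h x hx
  refine ⟨(DSectX.evX T ⊤ (K.X (-1))).symm y', ?_⟩
  apply (DSectX.evX T ⊤ (K.X 0)).injective
  rw [DSectX.evX_comp, AddEquiv.apply_symm_apply]
  exact hy'

open CochainComplex in
theorem exists_cycle_of_homExact_cone {J J' : CochainComplex T.Modules ℤ} (r : J ⟶ J')
    [QuasiIso r] [J'.IsKInjective] (h : HomExact T (mappingCone r))
    (σ : (DerivedCategory.singleFunctor T.Modules 0).obj (P0 T) ⟶ Q.obj J) :
    ∃ (c : P0 T ⟶ J.X 0) (hc : c ≫ J.d 0 1 = 0), DSectL.thetaC J c hc = σ := by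
  haveI : IsIso (Q.map r) := by
    rw [DerivedCategory.isIso_Q_map_iff_quasiIso]; infer_instance
  obtain ⟨c', hc', hσ⟩ := DSectL.exists_cycle_of_isKInjective J' (σ ≫ Q.map r)
  let z : P0 T ⟶ (mappingCone r).X 0 := c' ≫ (mappingCone.inr r).f 0
  have hz : z ≫ (mappingCone r).d 0 1 = 0 := by
    rw [Category.assoc, (mappingCone.inr r).comm 0 1, ← Category.assoc, hc', zero_comp]
  obtain ⟨y, hy⟩ := h z hz
  let y₁ : P0 T ⟶ J.X 0 := y ≫ (mappingCone.fst r).1.v (-1) 0 (by omega)
  let y₂ : P0 T ⟶ J'.X (-1) := y ≫ (mappingCone.snd r).v (-1) (-1) (add_zero _)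
  have h1 : y₁ ≫ J.d 0 1 = 0 := by
    have e1 : (y ≫ (mappingCone r).d (-1) 0) ≫ (mappingCone.fst r).1.v 0 1 (by omega) =
        z ≫ (mappingCone.fst r).1.v 0 1 (by omega) := by rw [hy]
    have e2 : z ≫ (mappingCone.fst r).1.v 0 1 (by omega) = 0 := by
      rw [Category.assoc, mappingCone.inr_f_fst_v, comp_zero]
    rw [Category.assoc, mappingCone.d_fst_v r (-1) 0 1 (by omega) (by omega), e2,
      Preadditive.comp_neg, neg_eq_zero, ← Category.assoc] at e1
    exact e1
  have h2 : y₁ ≫ r.f 0 + y₂ ≫ J'.d (-1) 0 = c' := by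
    have e1 : (y ≫ (mappingCone r).d (-1) 0) ≫ (mappingCone.snd r).v 0 0 (add_zero 0) =
        z ≫ (mappingCone.snd r).v 0 0 (add_zero 0) := by rw [hy]
    have e2 : z ≫ (mappingCone.snd r).v 0 0 (add_zero 0) = c' := by
      rw [Category.assoc, mappingCone.inr_f_snd_v, Category.comp_id]
    rw [Category.assoc, mappingCone.d_snd_v r (-1) 0 (by omega), e2, Preadditive.comp_add,
      ← Category.assoc, ← Category.assoc] at e1
    exact e1
  refine ⟨y₁, h1, ?_⟩
  have hb : (y₂ ≫ J'.d (-1) 0) ≫ J'.d 0 1 = 0 := by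
    rw [Category.assoc, J'.d_comp_d, comp_zero]
  have hsum : (y₁ ≫ r.f 0 + y₂ ≫ J'.d (-1) 0) ≫ J'.d 0 1 = 0 := by rw [h2]; exact hc'
  rw [← cancel_mono (Q.map r), DSectL.thetaC_comp y₁ h1 r, ← hσ,
    DSectL.thetaC_congr J' h2.symm hc' hsum,
    DSectL.thetaC_add _ _ (DSectL.comp_cycle y₁ h1 r) hb hsum, DSectL.thetaC_boundary y₂ hb,
    add_zero]

/-! ### finite factorisation -/

section Fixed

variable [CompactSpace T] {ι : Type u} [HasExactColimitsOfShape (Discrete ι) T.Modules]
  (I : ι → CochainComplex T.Modules ℤ)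

/-- every map from `P0[0]` to the direct sum is the class of a cycle -/
def Rep : Prop :=
  ∀ σ : (singleFunctor T.Modules 0).obj (P0 T) ⟶ Q.obj (DerCoprodB.sig I),
    ∃ (c : P0 T ⟶ (DerCoprodB.sig I).X 0) (hc : c ≫ (DerCoprodB.sig I).d 0 1 = 0),
      DSectL.thetaC (DerCoprodB.sig I) c hc = σ

theorem model_fixed (hrep : Rep T I)
    (φ : (singleFunctor T.Modules 0).obj (P0 T) ⟶ Q.obj (DerCoprodB.sig I)) :
    ∃ s : Finset ι, φ ≫ QcSect.e (DerCoprodB.isColimitCofan I) s = φ := by
  classical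
  obtain ⟨c, hcyc, hcφ⟩ := hrep φ
  have hc0 : IsColimit (Cofan.mk ((DerCoprodB.sig I).X 0) (DerCoprodB.ιX I 0)) :=
    coproductIsCoproduct (fun j => (I j).X 0)
  have hfin : QcSect.FinSub (Opens.grothendieckTopology T) (⊤ : T.Opens) :=
    QcSect.finSub_of_isCompact ⊤ (by simpa using CompactSpace.isCompact_univ (X := T))
  obtain ⟨s, hs⟩ := QcSect.exists_fixed' (O := T.sheaf) (F := fun j => (I j).X 0)
    (X := (DerCoprodB.sig I).X 0) (inj := DerCoprodB.ιX I 0) hc0 hfin
    (DSectX.evX T ⊤ _ c)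
  have hcs : c ≫ QcSect.e hc0 s = c := by
    apply (DSectX.evX T ⊤ _).injective
    rw [DSectX.evX_comp]
    exact hs
  refine ⟨s, ?_⟩
  let Es : DerCoprodB.sig I ⟶ DerCoprodB.sig I :=
    DerCoprodB.desc (fun i => if i ∈ s then DerCoprodB.ι I i else 0)
  have hE0 : Es.f 0 = QcSect.e hc0 s := by
    apply e_eq_of hc0
    · intro k hk
      change DerCoprodB.ιX I 0 k ≫ DerCoprodB.descX I 0 _ = _
      rw [DerCoprodB.ιX_descX]
      show (if k ∈ s then DerCoprodB.ι I k else 0).f 0 = _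
      rw [if_pos hk]
      rfl
    · intro k hk
      change DerCoprodB.ιX I 0 k ≫ DerCoprodB.descX I 0 _ = _
      rw [DerCoprodB.ιX_descX]
      show (if k ∈ s then DerCoprodB.ι I k else 0).f 0 = _
      rw [if_neg hk]
      rfl
  have hEQ : Q.map Es = QcSect.e (DerCoprodB.isColimitCofan I) s := by
    apply e_eq_of
    · intro k hk
      show Q.map (DerCoprodB.ι I k) ≫ Q.map Es = Q.map (DerCoprodB.ι I k)
      rw [← Q.map_comp, DerCoprodB.ι_desc, if_pos hk]
    · intro k hk
      show Q.map (DerCoprodB.ι I k) ≫ Q.map Es = 0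
      rw [← Q.map_comp, DerCoprodB.ι_desc, if_neg hk, Q.map_zero]
  rw [← hcφ, ← hEQ, DSectL.thetaC_comp c hcyc Es]
  exact DSectL.thetaC_congr _ (by rw [hE0, hcs]) _ _

end Fixed

/-- a class of families admitting representatives whose direct sum has the property `Rep` -/
theorem cqf_P0 [CompactSpace T] (Pr : Fam T)
    (hPr : ∀ (ι : Type u) (K : ι → DCoh.D T), Pr ι K →
      haveI := TensCoprodH3.hasExactCoprod T ι
      ∃ I : ι → CochainComplex T.Modules ℤ, (∀ i, Nonempty (Q.obj (I i) ≅ K i)) ∧ Rep T I) :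
    CQF Pr ((singleFunctor T.Modules 0).obj (P0 T)) := by
  classical
  intro ι K hK P g hc φ
  haveI := TensCoprodH3.hasExactCoprod T ι
  obtain ⟨I, hIiso, hrep⟩ := hPr ι K hK
  let a : ∀ i, Q.obj (I i) ≅ K i := fun i => (hIiso i).some
  have hcm := DerCoprodB.isColimitCofan I
  have hc2 := cofanPrecomp hc a
  let θ : Q.obj (DerCoprodB.sig I) ≅ P := IsColimit.coconePointUniqueUpToIso hcm hc2
  have hθ : ∀ j, Q.map (DerCoprodB.ι I j) ≫ θ.hom = (a j).hom ≫ g j := fun j =>
    IsColimit.comp_coconePointUniqueUpToIso_hom hcm hc2 ⟨j⟩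
  obtain ⟨s, hs⟩ := model_fixed T I hrep (φ ≫ θ.inv)
  refine ⟨s, ?_⟩
  have hcomm := e_comm (DerCoprodB.isColimitCofan I) hc (fun l => (a l).hom) θ.hom hθ s
  calc φ ≫ QcSect.e hc s = (φ ≫ θ.inv) ≫ θ.hom ≫ QcSect.e hc s := by
        rw [Category.assoc, Iso.inv_hom_id_assoc]
    _ = (φ ≫ θ.inv) ≫ QcSect.e (DerCoprodB.isColimitCofan I) s ≫ θ.hom := by
        rw [hcomm]
    _ = φ := by
        rw [← Category.assoc, hs, Category.assoc, Iso.inv_hom_id, Category.comp_id]

/-! ### the two cases -/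

section Cases

variable [CompactSpace T] [QuasiSeparatedSpace T]

/-- `Rep` from the acyclicity of `Γ(X, cone r)` -/
theorem rep_of_acyclic {ι : Type u} [HasExactColimitsOfShape (Discrete ι) T.Modules]
    (I : ι → CochainComplex T.Modules ℤ) {J' : CochainComplex T.Modules ℤ}
    (r : DerCoprodB.sig I ⟶ J') [QuasiIso r] [J'.IsKInjective]
    (h : ((GCx T).obj (CochainComplex.mappingCone r)).Acyclic) : Rep T I :=
  fun σ => exists_cycle_of_homExact_cone T r (homExact_of_exactAt T _ (h 0)) σ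

theorem acyclic_cone {K L : CochainComplex T.Modules ℤ} (r : K ⟶ L) [hr : QuasiIso r] :
    (CochainComplex.mappingCone r).Acyclic :=
  (BifCone.quasiIso_iff_acyclic_mappingCone r).1 hr

/-- uniformly bounded below families -/
theorem rep_bb {ι : Type u} (K : ι → DCoh.D T) (a : ℤ) (hK : ∀ i, (K i).IsGE a) :
    haveI := TensCoprodH3.hasExactCoprod T ι
    ∃ I : ι → CochainComplex T.Modules ℤ, (∀ i, Nonempty (Q.obj (I i) ≅ K i)) ∧ Rep T I := by
  haveI := grothendieck_modules T
  haveI := TensCoprodH3.hasExactCoprod T ι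
  choose I hI1 hI2 hI3 using fun i => (haveI := hK i; RGamCoprodH3.exists_inj_rep (K i) a)
  refine ⟨I, hI3, ?_⟩
  let S := DerCoprodB.sig I
  have hSz : ∀ m, m < a → IsZero (S.X m) := fun m hm =>
    RGamCoprodH3.isZero_sig_X I m (fun i => by
      haveI := hI1 i
      exact (I i).isZero_of_isStrictlyGE a m hm)
  haveI : S.IsStrictlyGE a := by
    rw [CochainComplex.isStrictlyGE_iff]
    exact hSz
  obtain ⟨J', r, hr, hinj, hJ'⟩ :=
    CochainComplex.Plus.modelCategoryQuillen.exists_quasiIso_injective S a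
  haveI := hr
  haveI := hJ'
  haveI := hinj
  haveI : J'.IsKInjective := CochainComplex.isKInjective_of_injective J' a
  have hSacyc : ∀ m, FAcyc.acyc (DCoh.gammaAb T) (S.X m) := fun m =>
    RGamCoprodH3.acyc_of_cofan (coproductIsCoproduct (fun j => (I j).X m)) (fun i => hI2 i m)
  have hC := acyclic_cone T r
  have hterms : ∀ m, FAcyc.acyc (DCoh.gammaAb T) ((CochainComplex.mappingCone r).X m) :=
    UnbRDer.acycCx_mappingCone (DCoh.gammaAb T) r hSacyc (fun m => by
      haveI := hinj m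
      exact FAcyc.acyc_of_injective (DCoh.gammaAb T) (J'.X m))
  have hbdd : ∀ m, m < a - 1 → IsZero ((CochainComplex.mappingCone r).X m) := by
    intro m hm
    have hz : IsZero (S.X (m + 1) ⊞ J'.X m) := by
      rw [IsZero.iff_id_eq_zero]
      apply biprod.hom_ext
      · exact (hSz (m + 1) (by omega)).eq_of_tgt _ _
      · exact (J'.isZero_of_isStrictlyGE a m (by omega)).eq_of_tgt _ _
    exact IsZero.of_iso hz (HomologicalComplex.homotopyCofiber.XIsoBiprod r m (m + 1) rfl)
  exact rep_of_acyclic T I r (LerayBB.acyclic_map (DCoh.gammaAb T) _ hC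
    (LerayBB.acyc_Z_of_bddBelow (DCoh.gammaAb T) _ hC hterms (a - 1) hbdd))

open Groth.Agent.Lib.GVanH2 Groth.Agent.Lib.FreeSheaf in
open Groth.Agent.Lib.FlasqueAcyclic in
/-- (helper8, `SubZ8_helper8`) -/
lemma aa_bb (X : TopCat.{u}) : aa X ≫ bb X = 𝟙 _ := by
  apply (freeSheafHomEquiv (Opens.grothendieckTopology X) (⊤ : Opens X) _).injective
  rw [freeSheafHomEquiv_comp]
  have h1 : freeSheafHomEquiv (Opens.grothendieckTopology X) (⊤ : Opens X) _ (aa X) =
      constEquiv (Zc X) (𝟙 (Zc X)) := Equiv.apply_symm_apply _ _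
  rw [h1, ← constEquiv_comp, Category.id_comp]
  exact Equiv.apply_symm_apply _ _

open Groth.Agent.Lib.GVanH2 Groth.Agent.Lib.FreeSheaf in
/-- (helper8, `SubZ8_helper8`) -/
theorem HV_of_subsingleton_H {X : TopCat.{u}} {F : CohTop.Ab X} {p : ℕ}
    (h : Subsingleton (CohTop.H F p)) : HV F p := by
  intro x
  have h1 : x = (Abelian.Ext.mk₀ (aa X)).comp ((Abelian.Ext.mk₀ (bb X)).comp x (zero_add p))
      (zero_add p) := by
    rw [Abelian.Ext.mk₀_comp_mk₀_assoc, aa_bb, Abelian.Ext.mk₀_id_comp]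
  have h2 : (Abelian.Ext.mk₀ (bb X)).comp x (zero_add p) = 0 :=
    @Subsingleton.elim (CohTop.H F p) h _ _
  rw [h1, h2, Abelian.Ext.comp_zero]

theorem isZero_rightDerived_of_subsingleton [HasInjectiveResolutions T.Modules]
    (N : T.Modules) (n : ℕ) (h : Subsingleton (Coh.HH T N (n + 1))) :
    IsZero (((DCoh.gammaAb T).rightDerived (n + 1)).obj N) := by
  obtain ⟨e⟩ := SecDer.nonempty_rightDerived_iso (⊤ : T.Opens) (n + 1)
  refine IsZero.of_iso ?_ (e.app N)
  refine IsZero.of_iso ?_ (Groth.Agent.Lib.SectionsDer.sectionsRightDerivedIso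
    (Opens.grothendieckTopology T) ⊤ (n + 1) ((SheafOfModules.toSheaf T.ringCatSheaf).obj N))
  have h' := HV_of_subsingleton_H (X := T.toTopCat)
    (F := (SheafOfModules.toSheaf T.ringCatSheaf).obj N) (p := n + 1) h
  haveI : Subsingleton (Sheaf.H' ((SheafOfModules.toSheaf T.ringCatSheaf).obj N) (n + 1)
      (⊤ : T.Opens)) := ⟨fun a b => (h' a).trans (h' b).symm⟩
  exact AddCommGrpCat.isZero_of_subsingleton _

/-- all families, when `X` has finite cohomological dimension -/
theorem rep_fd (d : ℕ) (hd : ∀ (F : T.Modules) (i : ℕ), d < i → Subsingleton (Coh.HH T F i))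
    {ι : Type u} (K : ι → DCoh.D T) :
    haveI := TensCoprodH3.hasExactCoprod T ι
    ∃ I : ι → CochainComplex T.Modules ℤ, (∀ i, Nonempty (Q.obj (I i) ≅ K i)) ∧ Rep T I := by
  haveI := grothendieck_modules T
  haveI := TensCoprodH3.hasExactCoprod T ι
  choose I hI1 hI2 hI3 using fun i => KInjGen8.exists_kInjective_rep (K i)
  refine ⟨I, hI3, ?_⟩
  let S := DerCoprodB.sig I
  obtain ⟨J', r, hJ', hr, -, hinj⟩ := KInjGen5.exists_resolution S
  haveI := hr
  haveI := hJ'
  have hSacyc : ∀ m, FAcyc.acyc (DCoh.gammaAb T) (S.X m) := fun m =>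
    RGamCoprodH3.acyc_of_cofan (coproductIsCoproduct (fun j => (I j).X m)) (fun i => hI2 i m)
  have hC := acyclic_cone T r
  have hterms : ∀ m, FAcyc.acyc (DCoh.gammaAb T) ((CochainComplex.mappingCone r).X m) :=
    UnbRDer.acycCx_mappingCone (DCoh.gammaAb T) r hSacyc (fun m => by
      haveI := hinj m
      exact FAcyc.acyc_of_injective (DCoh.gammaAb T) (J'.X m))
  have hn : ∀ X : T.Modules, IsZero (((DCoh.gammaAb T).rightDerived (d + 1)).obj X) :=
    fun X => isZero_rightDerived_of_subsingleton T X d (hd X (d + 1) (by omega))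
  exact rep_of_acyclic T I r (FAcyc.acyclic_map (DCoh.gammaAb T) _ (d + 1) hn hC hterms)

end Cases

end

end Groth.Agent.Lib.CptOH3
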