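-- Copy of Groth/Agent/Lib/PerfCpt1_helper7.lean with namespaces renamed (lead), so that it can be imported together with
-- `DerCoprod_lead` (which shares the namespace `DerCoprod` with `DerCoprod_helper9`). Original proofs by helper7/helper9.
import Mathlib
import Groth.Prelude.Def_CohDer
import Groth.Prelude.Def_DRing2
import Groth.Agent.Lib.CompactBBB_lead
import Groth.Agent.Lib.CompactFDB_lead
import Groth.Agent.Lib.ModCompGenB_lead
import Groth.Agent.Lib.DMod4_helper6

/-!
# Perfect complexes are compact in `D(R)` (helper7)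

Compactness is handled in "cofan form": `FC K` says that every morphism from `K` to the point of a
colimit cofan (indexed by a small type) is a finite sum of morphisms factoring through the summands.
-/

set_option autoImplicit false
set_option backward.isDefEq.respectTransparency false
universe w v u
open CategoryTheory Limits Pretriangulated

namespace Groth.Agent.Lib.PerfCptB

open Groth.Agent.Lib.CompactBBB (FinC IsFinSum isFinSum_add pr sum_pr finC_of_iso bijective_of_finC)

section General

variable {D : Type u} [Category.{v} D] [Preadditive D]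

/-- reindexing a colimit cofan along an equivalence of index types -/
noncomputable def isColimitReindex {J : Type*} {J' : Type*} (e : J ≃ J') {X' : J' → D}
    {c' : Cofan X'} (hc' : IsColimit c') :
    IsColimit (Cofan.mk c'.pt (fun j => c'.inj (e j)) : Cofan (fun j => X' (e j))) := by
  have hX : ∀ j', X' j' = X' (e (e.symm j')) := fun j' => by rw [e.apply_symm_apply]
  refine mkCofanColimit _
    (fun s => Cofan.IsColimit.desc hc' (fun j' => eqToHom (hX j') ≫ s.inj (e.symm j'))) ?_ ?_
  · intro s j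
    have key : ∀ (j₁ j₂ : J) (h : j₁ = j₂) (h' : X' (e j₂) = X' (e j₁)),
        eqToHom h' ≫ s.inj j₁ = s.inj j₂ := by
      intro j₁ j₂ h h'
      subst h
      simp
    change c'.inj (e j) ≫ _ = _
    rw [Cofan.IsColimit.fac]
    exact key _ _ (e.symm_apply_apply j) _
  · intro s m hm
    apply Cofan.IsColimit.hom_ext hc'
    intro j'
    rw [Cofan.IsColimit.fac]
    have key : ∀ (j₁ j₂ : J') (h : j₁ = j₂) (h' : X' j₁ = X' j₂),
        eqToHom h' ≫ c'.inj j₂ = c'.inj j₁ := by
      intro j₁ j₂ h h'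
      subst h
      simp
    have h1 : c'.inj (e (e.symm j')) ≫ m = s.inj (e.symm j') := hm (e.symm j')
    rw [← h1, ← Category.assoc, key j' (e (e.symm j')) (e.apply_symm_apply j').symm (hX j')]

lemma finC_reindex {J : Type*} {J' : Type*} (e : J ≃ J') (K : D) {X' : J' → D} {c' : Cofan X'}
    (h : FinC K (Cofan.mk c'.pt (fun j => c'.inj (e j)) : Cofan (fun j => X' (e j)))) :
    FinC K c' := by
  classical
  intro φ
  obtain ⟨s, g, hg⟩ := h φ
  have hg' : φ = ∑ j ∈ s, g j ≫ c'.inj (e j) := hg
  have hX : ∀ j', X' (e (e.symm j')) = X' j' := fun j' => by rw [e.apply_symm_apply]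
  refine ⟨s.map e.toEmbedding, fun j' => g (e.symm j') ≫ eqToHom (hX j'), ?_⟩
  rw [hg', Finset.sum_map]
  refine Finset.sum_congr rfl (fun j _ => ?_)
  have key : ∀ (j₁ j₂ : J) (h : j₁ = j₂) (h' : X' (e j₁) = X' (e j₂)),
      (g j₁ ≫ eqToHom h') ≫ c'.inj (e j₂) = g j₂ ≫ c'.inj (e j₂) := by
    intro j₁ j₂ h h'
    subst h
    simp
  exact (key (e.symm (e j)) j (e.symm_apply_apply j) _).symm

lemma finC_of_retract {K K' : D} (i : K' ⟶ K) (p : K ⟶ K') (hip : i ≫ p = 𝟙 K') {I : Type*}
    {X : I → D} (c : Cofan X) (h : FinC K c) : FinC K' c := by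
  intro φ
  obtain ⟨s, g, hg⟩ := h (p ≫ φ)
  refine ⟨s, fun j => i ≫ g j, ?_⟩
  calc φ = i ≫ (p ≫ φ) := by rw [← Category.assoc, hip, Category.id_comp]
    _ = _ := by
      rw [hg, Preadditive.comp_sum]
      exact Finset.sum_congr rfl (fun j _ => (Category.assoc _ _ _).symm)

lemma finC_adj {D' : Type*} [Category D'] [Preadditive D'] {F : D ⥤ D'} {G : D' ⥤ D}
    (adj : F ⊣ G) [F.Additive] (K : D) {I : Type*} {X : I → D'} (c : Cofan X)
    (h : FinC K (Cofan.mk (G.obj c.pt) (fun i => G.map (c.inj i)) :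
      Cofan (fun i => G.obj (X i)))) :
    FinC (F.obj K) c := by
  intro φ
  obtain ⟨s, g, hg⟩ := h (adj.homEquiv K c.pt φ)
  have hg' : adj.homEquiv K c.pt φ = ∑ i ∈ s, g i ≫ G.map (c.inj i) := hg
  refine ⟨s, fun i => (adj.homEquiv K (X i)).symm (g i), ?_⟩
  have h1 : φ = (adj.homEquiv K c.pt).symm (∑ i ∈ s, g i ≫ G.map (c.inj i)) := by
    rw [← hg', Equiv.symm_apply_apply]
  rw [h1, Adjunction.homEquiv_counit, Functor.map_sum, Preadditive.sum_comp]
  refine Finset.sum_congr rfl (fun i _ => ?_)
  change F.map (g i ≫ G.map (c.inj i)) ≫ adj.counit.app c.pt =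
    (adj.homEquiv K (X i)).symm (g i) ≫ c.inj i
  rw [Adjunction.homEquiv_counit, Functor.map_comp, Category.assoc, Category.assoc]
  congr 1
  exact adj.counit_naturality (c.inj i)

end General

section Tri

variable {D : Type u} [Category.{v} D] [Preadditive D] [HasZeroObject D] [HasShift D ℤ]
  [∀ n : ℤ, (shiftFunctor D n).Additive] [Pretriangulated D]

lemma finC_ext (T : Triangle D) (hT : T ∈ distTriang D) {I : Type*} {X : I → D} {c : Cofan X}
    (hc : IsColimit c) (h₁ : FinC T.obj₁ c) (h₃ : FinC T.obj₃ c) : FinC T.obj₂ c := by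
  classical
  intro φ
  obtain ⟨s, g, hg⟩ := h₁ (T.mor₁ ≫ φ)
  have e1 : ∀ j ∈ s, T.mor₁ ≫ (φ ≫ pr hc j) ≫ c.inj j = g j ≫ c.inj j := by
    intro j hj
    rw [← Category.assoc, ← Category.assoc, hg, sum_pr _ hc s g j hj]
  have h0 : T.mor₁ ≫ (φ - ∑ j ∈ s, (φ ≫ pr hc j) ≫ c.inj j) = 0 := by
    rw [Preadditive.comp_sub, Preadditive.comp_sum, Finset.sum_congr rfl e1, ← hg, sub_self]
  obtain ⟨ψ, hψ⟩ := Triangle.yoneda_exact₂ T hT _ h0
  obtain ⟨s', g', hg'⟩ := h₃ ψ
  have e2 : φ - ∑ j ∈ s, (φ ≫ pr hc j) ≫ c.inj j = ∑ j ∈ s', (T.mor₂ ≫ g' j) ≫ c.inj j := by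
    rw [hψ, hg', Preadditive.comp_sum]
    exact Finset.sum_congr rfl (fun j _ => (Category.assoc _ _ _).symm)
  have e3 : φ = (φ - ∑ j ∈ s, (φ ≫ pr hc j) ≫ c.inj j) +
      ∑ j ∈ s, (φ ≫ pr hc j) ≫ c.inj j := by
    rw [sub_add_cancel]
  rw [e3]
  exact isFinSum_add _ c ⟨s', _, e2⟩ ⟨s, _, rfl⟩

end Tri

section DR

attribute [local instance] HasDerivedCategory.standard

variable (R : Type u) [CommRing R]

open DRing

/-- compactness with respect to small coproducts, in cofan form -/
def FC (K : Dual.D R) : Prop :=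
  ∀ (I : Type u) (X : I → Dual.D R) (c : Cofan X), IsColimit c → FinC K c

variable {R}

lemma bij_of_fc {K : Dual.D R} (hK : FC R K) {I : Type u} {J : Type (u + 1)} (e : I ≃ J)
    (X' : J → Dual.D R) [HasCoproduct X'] :
    Function.Bijective (CohDer.homSumToHomCoprod K X') := by
  apply bijective_of_finC
  apply finC_reindex e
  exact hK I _ _ (isColimitReindex e (coproductIsCoproduct X'))

lemma cpt_of_fc {K : Dual.D R} (hK : FC R K) :
    ∀ (I : Type u) (E : I → Dual.D R) [HasCoproduct fun i : ULift.{u + 1} I => E i.down],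
      Function.Bijective (CohDer.homSumToHomCoprod K (fun i : ULift.{u + 1} I => E i.down)) := by
  intro I E _
  exact bij_of_fc hK (Equiv.ulift.symm : I ≃ ULift.{u + 1} I) _

lemma fc_of_cpt {K : Dual.D R}
    (hK : ∀ (I : Type u) (E : I → Dual.D R) [HasCoproduct fun i : ULift.{u + 1} I => E i.down],
      Function.Bijective (CohDer.homSumToHomCoprod K (fun i : ULift.{u + 1} I => E i.down))) :
    FC R K := by
  classical
  intro I X c hc
  haveI : HasColimitsOfShape (Discrete I) (Dual.D R) := DerCoprodB.hasColimitsOfShape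
  haveI : HasColimitsOfShape (Discrete (ULift.{u + 1} I)) (Dual.D R) :=
    hasColimitsOfShape_of_equivalence (Discrete.equivalence Equiv.ulift.symm)
  let X' : ULift.{u + 1} I → Dual.D R := fun i => X i.down
  have hb := hK I X
  have h1 : FinC K (Cofan.mk (∐ X') (Sigma.ι X')) := by
    letI : DecidableEq (ULift.{u + 1} I) := fun a b => Classical.propDecidable (a = b)
    intro φ
    obtain ⟨x, rfl⟩ := hb.2 φ
    refine ⟨x.support, fun i => x i, ?_⟩
    conv_lhs => rw [← DirectSum.sum_support_of x]
    rw [map_sum]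
    exact Finset.sum_congr rfl (fun i _ => CompactFam.homSum_of X' i (x i))
  have hc'' := isColimitReindex (Equiv.ulift : ULift.{u + 1} I ≃ I) hc
  have h2 := finC_of_iso K (fun i => Iso.refl (X' i)) (coproductIsCoproduct X') hc'' h1
  exact finC_reindex Equiv.ulift K h2

variable (R)

/-- `R[0]` is compact -/
theorem cpt_single :
    ∀ (I : Type u) (E : I → Dual.D R) [HasCoproduct fun i : ULift.{u + 1} I => E i.down],
      Function.Bijective (CohDer.homSumToHomCoprod (Dual.inD R R)
        (fun i : ULift.{u + 1} I => E i.down)) := by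
  intro I E _
  let e : Discrete I ≌ Discrete (ULift.{u + 1} I) := Discrete.equivalence Equiv.ulift.symm
  haveI : HasColimitsOfShape (Discrete (ULift.{u + 1} I)) (ModuleCat.{u} R) :=
    hasColimitsOfShape_of_equivalence e
  haveI : HasExactColimitsOfShape (Discrete (ULift.{u + 1} I)) (ModuleCat.{u} R) :=
    HasExactColimitsOfShape.of_domain_equivalence _ e
  refine CompactFDB.bijective_fd (I := ULift.{u + 1} I) (ModuleCat.of R R) 0 ?_ ?_ _
  · intro F p hp
    obtain ⟨q, rfl⟩ : ∃ q, p = q + 1 := ⟨p - 1, by omega⟩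
    exact ⟨fun a b => (Abelian.Ext.eq_zero_of_projective a).trans
      (Abelian.Ext.eq_zero_of_projective b).symm⟩
  · intro p
    haveI : PreservesColimitsOfShape (Discrete I)
        (Abelian.extFunctorObj.{u} (ModuleCat.of R R) p) := by
      rcases Nat.eq_zero_or_pos p with rfl | hp
      · exact preservesColimitsOfShape_of_natIso (ModCompGenB.ext0Iso R).symm
      · obtain ⟨q, rfl⟩ : ∃ q, p = q + 1 := ⟨p - 1, by omega⟩
        apply Functor.preservesColimitsOfShape_of_isZero
        rw [Functor.isZero_iff]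
        intro M
        haveI : Subsingleton (Abelian.Ext (ModuleCat.of R R) M (q + 1)) :=
          ⟨fun a b => (Abelian.Ext.eq_zero_of_projective a).trans
            (Abelian.Ext.eq_zero_of_projective b).symm⟩
        exact @AddCommGrpCat.isZero_of_subsingleton _ (by
          change Subsingleton (Abelian.Ext (ModuleCat.of R R) M (q + 1))
          infer_instance)
    exact preservesColimitsOfShape_of_equiv e _

theorem fc_single : FC R (Dual.inD R R) := fc_of_cpt (cpt_single R)

/-- **perfect complexes are compact** -/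
theorem fc_of_isPerfect (K : Dual.D R) (hK : IsPerfect R K) : FC R K := by
  let P : ObjectProperty (Dual.D R) := fun K => FC R K
  haveI : P.IsClosedUnderIsomorphisms :=
    ⟨fun {X Y} e h I Z c hc => finC_of_retract e.inv e.hom e.inv_hom_id c (h I Z c hc)⟩
  refine Groth.Agent.Lib.DMod_helper6.prop_of_isPerfect P (fc_single R) ?_ ?_ ?_ K hK
  · intro K n h I X c hc
    have hc' : IsColimit (Cofan.mk c.pt c.inj) :=
      mkCofanColimit _ (fun s => Cofan.IsColimit.desc hc s.inj)
        (fun s j => Cofan.IsColimit.fac hc _ j)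
        (fun s m hm => Cofan.IsColimit.hom_ext hc _ _ (fun j => by
          rw [Cofan.IsColimit.fac]
          exact hm j))
    have hc'' := isColimitCofanMkObjOfIsColimit (shiftFunctor (Dual.D R) (-n)) _ c.inj hc'
    have adj : shiftFunctor (Dual.D R) n ⊣ shiftFunctor (Dual.D R) (-n) :=
      (shiftEquiv (Dual.D R) n).toAdjunction
    exact finC_adj adj K c (h I _ _ hc'')
  · intro T hT h1 h3 I X c hc
    exact finC_ext T hT hc (h1 I X c hc) (h3 I X c hc)
  · intro X Y _ h I Z c hc
    exact finC_of_retract biprod.inl biprod.fst biprod.inl_fst c (h I Z c hc)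

end DR

end Groth.Agent.Lib.PerfCptB
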