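import Mathlib
import Groth.Prelude.Def_DerLim
import Groth.Agent.Lib.SeqColim_helper9

/-!
# The colimit of a sequence of complexes is a homotopy colimit in the derived category (helper9)
-/

open CategoryTheory CategoryTheory.Limits Pretriangulated

namespace HocolimColim

universe w v u

variable {A : Type u} [Category.{v} A] [Abelian A] [HasDerivedCategory.{w} A]
  [HasColimitsOfShape ℕ A] [HasExactColimitsOfShape ℕ A]
  (L : ℕ ⥤ CochainComplex A ℤ) [HasCoproduct L.obj]
  [PreservesColimit (Discrete.functor L.obj) (DerivedCategory.Q (C := A))]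
  [HasCoproduct (fun n => DerivedCategory.Q.obj (L.obj n))]

open DerivedCategory in
theorem isHocolim :
    DerLim.IsHocolim (fun n => DerivedCategory.Q.obj (L.obj n))
      (fun n => DerivedCategory.Q.map (L.map (homOfLE (Nat.le_succ n))))
      (DerivedCategory.Q.obj (colimit L)) (fun n => DerivedCategory.Q.map (colimit.ι L n)) := by
  obtain ⟨w, hS⟩ := SeqColim.shortExact L
  have hT := DerivedCategory.triangleOfSES_distinguished hS
  let e : (∐ fun n => Q.obj (L.obj n)) ≅ Q.obj (∐ L.obj) :=
    (PreservesCoproduct.iso (DerivedCategory.Q (C := A)) L.obj).symm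
  have hσ : ∀ n, Sigma.ι (fun n => Q.obj (L.obj n)) n ≫ e.hom = Q.map (Sigma.ι L.obj n) :=
    fun n => ι_comp_sigmaComparison Q L.obj n
  have c1 : (𝟙 (∐ fun n => Q.obj (L.obj n)) -
      DerLim.shiftMap (fun n => Q.obj (L.obj n))
        (fun n => Q.map (L.map (homOfLE (Nat.le_succ n))))) ≫ e.hom =
      e.hom ≫ Q.map (SeqColim.φ L) := by
    apply Sigma.hom_ext
    intro n
    rw [← Category.assoc (Sigma.ι _ n) e.hom, hσ, ← Functor.map_comp, SeqColim.ι_φ,
      Functor.map_sub, Functor.map_comp, Preadditive.sub_comp, Preadditive.comp_sub,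
      Category.id_comp, hσ]
    unfold DerLim.shiftMap
    congr 1
    rw [← Category.assoc, Sigma.ι_desc, Category.assoc, hσ]
  have c2 : Sigma.desc (fun n => Q.map (colimit.ι L n)) ≫ 𝟙 _ =
      e.hom ≫ Q.map (SeqColim.p L) := by
    apply Sigma.hom_ext
    intro n
    rw [Category.comp_id, Sigma.ι_desc, ← Category.assoc, hσ, ← Functor.map_comp]
    congr 1
    exact (Sigma.ι_desc _ _).symm
  have c3 : (DerivedCategory.triangleOfSESδ hS ≫ (e.inv)⟦(1 : ℤ)⟧') ≫ (e.hom)⟦(1 : ℤ)⟧' =
      𝟙 _ ≫ DerivedCategory.triangleOfSESδ hS := by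
    rw [Category.id_comp, Category.assoc, ← Functor.map_comp, e.inv_hom_id,
      CategoryTheory.Functor.map_id, Category.comp_id]
  refine ⟨DerivedCategory.triangleOfSESδ hS ≫ (e.inv)⟦(1 : ℤ)⟧', ?_⟩
  exact isomorphic_distinguished _ hT _
    (Triangle.isoMk _ _ e e (Iso.refl _) c1 c2 c3)

end HocolimColim
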