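import Mathlib
import Groth.Prelude.Def_DerLim
import Groth.Agent.Lib.CompactHocolim_helper9

/-!
# Maps from a countably compact object into a homotopy colimit (helper9)
-/

open CategoryTheory CategoryTheory.Limits Pretriangulated Opposite

namespace HocolimCompact

universe v u

lemma ofSequence_map {C : Type*} [Category C] (G' : ℕ ⥤ C) {n m : ℕ} (h : n ≤ m) :
    (Functor.ofSequence (fun k => G'.map (homOfLE (Nat.le_succ k)))).map (homOfLE h) =
      G'.map (homOfLE h) := by
  induction m, h using Nat.le_induction with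
  | base =>
    have : homOfLE (le_refl n) = 𝟙 n := rfl
    rw [this]
    exact ((Functor.ofSequence _).map_id n).trans (G'.map_id n).symm
  | succ m h ih =>
    have : homOfLE (h.trans (Nat.le_succ m)) = homOfLE h ≫ homOfLE (Nat.le_succ m) := rfl
    rw [this, Functor.map_comp, Functor.map_comp, ih, Functor.ofSequence_map_homOfLE_succ]
    rfl

variable {D : Type u} [Category.{v} D] [Preadditive D] [HasZeroObject D] [HasShift D ℤ]
  [∀ n : ℤ, (shiftFunctor D n).Additive] [Pretriangulated D] [HasColimitsOfShape (Discrete ℕ) D]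

theorem colim_hom {C : D}
    [PreservesColimitsOfShape (Discrete ℕ) (preadditiveCoyoneda.obj (op C))]
    (F : ℕ ⥤ D) (L : D) (i : ∀ n, F.obj n ⟶ L)
    (hL : DerLim.IsHocolim (fun n => F.obj n) (fun n => F.map (homOfLE (Nat.le_succ n))) L i) :
    (∀ x : C ⟶ L, ∃ (n : ℕ) (y : C ⟶ F.obj n), y ≫ i n = x) ∧
    (∀ (n : ℕ) (y : C ⟶ F.obj n), y ≫ i n = 0 →
      ∃ (m : ℕ) (h : n ≤ m), y ≫ F.map (homOfLE h) = 0) := by
  obtain ⟨e, he⟩ := HocolimHomological.exists_iso (preadditiveCoyoneda.obj (op C))
    (fun n => F.obj n) (fun n => F.map (homOfLE (Nat.le_succ n))) L i hL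
  haveI : PreservesFilteredColimitsOfSize.{0, 0} (forget AddCommGrpCat.{v}) :=
    preservesFilteredColimitsOfSize_shrink.{0, v, 0, v} _
  constructor
  · intro g
    obtain ⟨n, y, hy⟩ := Concrete.colimit_exists_rep _ (e.inv.hom g)
    refine ⟨n, y, ?_⟩
    have h1 := congrArg (fun φ => φ.hom y) (he n)
    simp only [AddCommGrpCat.hom_comp, AddMonoidHom.coe_comp, Function.comp_apply] at h1
    have h2 : e.hom.hom (e.inv.hom g) = g := by
      simp
    rw [← h2, ← hy]
    exact h1.symm
  · intro n y hy
    have h1 := congrArg (fun φ => φ.hom y) (he n)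
    simp only [AddCommGrpCat.hom_comp, AddMonoidHom.coe_comp, Function.comp_apply] at h1
    have h2 : e.hom.hom ((colimit.ι (Functor.ofSequence (fun n =>
        (preadditiveCoyoneda.obj (op C)).map (F.map (homOfLE (Nat.le_succ n))))) n).hom y) = 0 :=
      h1.trans hy
    have h3 : (colimit.ι (Functor.ofSequence (fun n =>
        (preadditiveCoyoneda.obj (op C)).map (F.map (homOfLE (Nat.le_succ n))))) n).hom y = 0 := by
      have h4 := congrArg (fun z => e.inv.hom z) h2
      have h5 : ∀ z, e.inv.hom (e.hom.hom z) = z := fun z => by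
        simp
      simp only [h5, map_zero] at h4
      exact h4
    have h6 : (colimit.ι (Functor.ofSequence (fun n =>
        (preadditiveCoyoneda.obj (op C)).map (F.map (homOfLE (Nat.le_succ n))))) n) y =
        (colimit.ι (Functor.ofSequence (fun n =>
        (preadditiveCoyoneda.obj (op C)).map (F.map (homOfLE (Nat.le_succ n))))) n)
          (0 : C ⟶ F.obj n) := by
      refine h3.trans ?_
      exact (map_zero _).symm
    obtain ⟨k, f, g, hfg⟩ := Concrete.colimit_exists_of_rep_eq _ _ _ h6
    refine ⟨k, leOfHom f, ?_⟩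
    have hf : f = homOfLE (leOfHom f) := Subsingleton.elim _ _
    rw [hf] at hfg
    have h7 := ofSequence_map (F ⋙ preadditiveCoyoneda.obj (op C)) (leOfHom f)
    dsimp only [Functor.comp_map] at h7
    rw [h7] at hfg
    refine hfg.trans ?_
    exact map_zero _
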