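-- Copy of Groth/Agent/Lib/PerfCpt2_helper7.lean with namespaces renamed (lead), so that it can be imported together with
-- `DerCoprod_lead` (which shares the namespace `DerCoprod` with `DerCoprod_helper9`). Original proofs by helper7/helper9.
import Mathlib
import Groth.Agent.Lib.PerfCpt1B_lead
import Groth.Agent.Lib.S7014B_lead
import Groth.Agent.Lib.ResSystem_helper2
import Groth.Agent.Lib.KFlatMod_helper2
import Groth.Agent.Lib.StupidTr_helper7
import Groth.Agent.Lib.DMod23_helper6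
import Groth.Agent.Lib.DMod29_helper6
import Groth.Agent.Lib.DMod62_helper6

/-!
# Compact objects of `D(R)` are perfect (helper7)
-/

set_option autoImplicit false
set_option backward.isDefEq.respectTransparency false
universe u
open CategoryTheory Limits Pretriangulated

namespace Groth.Agent.Lib.PerfCptB

open Groth.Agent.Lib.CompactBBB (FinC IsFinSum)

section Alg

variable {R : Type u} [CommRing R]

/-- splitting finitely supported functions according to a predicate -/
noncomputable def splitE {Λ : Type u} (p : Λ → Prop) [DecidablePred p] :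
    (Λ →₀ R) ≃ₗ[R] ({a // p a} →₀ R) × ({a // ¬ p a} →₀ R) :=
  (Finsupp.domLCongr (R := R) (M := R) (Equiv.sumCompl p).symm) ≪≫ₗ
    Finsupp.sumFinsuppLEquivProdFinsupp R

lemma splitE_snd {Λ : Type u} (p : Λ → Prop) [DecidablePred p] (f : Λ →₀ R)
    (a : {a // ¬ p a}) : (splitE p f).2 a = f a.1 := by
  change (Finsupp.domLCongr (R := R) (M := R) (Equiv.sumCompl p).symm f) (Sum.inr a) = f a.1
  simp [Finsupp.domLCongr_apply, Finsupp.domCongr_apply, Finsupp.equivMapDomain_apply]

/-- the kernel of `snd ∘ e` for `e : M ≃ A × B` is `A` -/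
noncomputable def kerSndEquiv {M A B : Type u} [AddCommGroup M] [Module R M] [AddCommGroup A]
    [Module R A] [AddCommGroup B] [Module R B] (e : M ≃ₗ[R] A × B) :
    LinearMap.ker ((LinearMap.snd R A B).comp e.toLinearMap) ≃ₗ[R] A :=
  LinearEquiv.ofLinear
    (((LinearMap.fst R A B).comp e.toLinearMap).comp (Submodule.subtype _))
    (LinearMap.codRestrict _ (e.symm.toLinearMap.comp (LinearMap.inl R A B))
      (fun a => by simp))
    (by
      ext a
      simp)
    (by
      ext x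
      obtain ⟨m, hm⟩ := x
      have h2 : (e m).2 = 0 := by simpa using hm
      change e.symm ((e m).1, 0) = m
      rw [← h2, Prod.mk.eta, e.symm_apply_apply])

lemma exists_finset_support {M N : Type u} [AddCommGroup M] [Module R M] [AddCommGroup N]
    [Module R N] [Module.Finite R N] {Λ : Type u} (bs : Module.Basis Λ R M) (d : N →ₗ[R] M) :
    ∃ T : Finset Λ, ∀ (x : N) (a : Λ), a ∉ T → bs.repr (d x) a = 0 := by
  classical
  obtain ⟨G, hG⟩ := (Module.Finite.fg_top : (⊤ : Submodule R N).FG)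
  refine ⟨G.biUnion (fun x => (bs.repr (d x)).support), fun x a ha => ?_⟩
  have hx : x ∈ Submodule.span R (G : Set N) := by
    rw [hG]
    trivial
  induction hx using Submodule.span_induction with
  | mem y hy =>
    by_contra h
    exact ha (Finset.mem_biUnion.2 ⟨y, hy, Finsupp.mem_support_iff.2 h⟩)
  | zero => simp
  | add y z _ _ hy hz => rw [map_add, map_add, Finsupp.add_apply, hy, hz, add_zero]
  | smul r y _ hy => rw [map_smul, map_smul, Finsupp.smul_apply, hy, smul_zero]

/-- `J →₀ R` is the coproduct of copies of `R` -/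
noncomputable def isColimitFinsupp (J : Type u) :
    IsColimit (Cofan.mk (ModuleCat.of R (J →₀ R))
      (fun j : J => ModuleCat.ofHom (Finsupp.lsingle (R := R) (M := R) j)) :
        Cofan (fun _ : J => ModuleCat.of R R)) :=
  mkCofanColimit _
    (fun s => ModuleCat.ofHom (Finsupp.lsum ℕ (fun j => (s.inj j).hom)))
    (fun s j => by
      apply ModuleCat.hom_ext
      change (Finsupp.lsum ℕ (fun j => (s.inj j).hom)).comp (Finsupp.lsingle j) = _
      rw [Finsupp.lsum_comp_lsingle])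
    (fun s m hm => by
      apply ModuleCat.hom_ext
      apply Finsupp.lhom_ext'
      intro j
      have h1 := congrArg ModuleCat.Hom.hom (hm j)
      change m.hom.comp (Finsupp.lsingle j) = _ at h1
      change m.hom.comp (Finsupp.lsingle j) =
        (Finsupp.lsum ℕ (fun j => (s.inj j).hom)).comp (Finsupp.lsingle j)
      rw [h1, Finsupp.lsum_comp_lsingle])

end Alg

section Cat

attribute [local instance] HasDerivedCategory.standard

variable (R : Type u) [CommRing R]

open DRing HomologicalComplex DerivedCategory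

/-- the kernel of a termwise surjection onto a complex concentrated in one degree -/
lemma exists_kernel_cx (L : Cx R) (c : ℤ) (F : ModuleCat.{u} R) (q : L.X c ⟶ F)
    (hq : ∀ j, (ComplexShape.up ℤ).Rel j c → L.d j c ≫ q = 0)
    (hsurj : Function.Surjective q.hom) :
    ∃ (L' : Cx R) (ι : L' ⟶ L)
      (δ : Q.obj ((single (ModuleCat.{u} R) (ComplexShape.up ℤ) c).obj F) ⟶ (Q.obj L')⟦(1 : ℤ)⟧),
      Triangle.mk (Q.map ι) (Q.map (mkHomToSingle q hq)) δ ∈ distTriang (Dual.D R) ∧
      (∀ j, Function.Injective (ι.f j).hom) ∧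
      (∀ j, j ≠ c → Function.Surjective (ι.f j).hom) ∧
      LinearMap.range (ι.f c).hom = LinearMap.ker q.hom := by
  let π : L ⟶ (single (ModuleCat.{u} R) (ComplexShape.up ℤ) c).obj F := mkHomToSingle q hq
  have hπ : ∀ j, Epi (π.f j) := by
    intro j
    by_cases hj : j = c
    · subst hj
      have : π.f j = q ≫ (singleObjXSelf (ComplexShape.up ℤ) j F).inv := mkHomToSingle_f q hq
      rw [this]
      haveI : Epi q := (ModuleCat.epi_iff_surjective q).2 hsurj
      infer_instance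
    · exact ⟨fun g h _ => (isZero_single_obj_X (ComplexShape.up ℤ) c F j hj).eq_of_src g h⟩
  haveI : Epi π := HomologicalComplex.epi_of_epi_f π hπ
  have hS : (ShortComplex.kernelSequence π).ShortExact :=
    ShortComplex.ShortExact.mk' (ShortComplex.kernelSequence_exact π) inferInstance
      (by
        change Epi π
        infer_instance)
  have hj : ∀ j, ((ShortComplex.kernelSequence π).map
      (HomologicalComplex.eval (ModuleCat.{u} R) (ComplexShape.up ℤ) j)).ShortExact :=
    fun j => hS.map_of_exact _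
  refine ⟨kernel π, kernel.ι π, triangleOfSESδ hS, triangleOfSES_distinguished hS, ?_, ?_, ?_⟩
  · intro j
    have := (hj j).mono_f
    exact (ModuleCat.mono_iff_injective _).1 this
  · intro j hjc
    have h1 := (hj j).exact.moduleCat_range_eq_ker
    have h2 : π.f j = 0 := (isZero_single_obj_X (ComplexShape.up ℤ) c F j hjc).eq_of_tgt _ _
    change LinearMap.range ((kernel.ι π).f j).hom = LinearMap.ker (π.f j).hom at h1
    rw [h2] at h1
    have h3 : LinearMap.range ((kernel.ι π).f j).hom = ⊤ := by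
      rw [h1]
      exact LinearMap.ker_zero
    exact LinearMap.range_eq_top.1 h3
  · have h1 := (hj c).exact.moduleCat_range_eq_ker
    change LinearMap.range ((kernel.ι π).f c).hom = LinearMap.ker (π.f c).hom at h1
    have h2 : π.f c = q ≫ (singleObjXSelf (ComplexShape.up ℤ) c F).inv := mkHomToSingle_f q hq
    rw [h1, h2, ModuleCat.hom_comp]
    apply LinearMap.ker_comp_of_ker_eq_bot
    rw [LinearMap.ker_eq_bot]
    exact (ModuleCat.mono_iff_injective _).1 inferInstance

/-- `K` is a retract of a complex of free modules in `[a, b]`, finite in degrees `< c` -/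
def Ret (K : Dual.D R) (a b c : ℤ) : Prop :=
  ∃ (L : Cx R) (i : K ⟶ Q.obj L) (r : Q.obj L ⟶ K), i ≫ r = 𝟙 K ∧ VanishesOutside L a b ∧
    (∀ j, Module.Free R (L.X j)) ∧ ∀ j, j < c → Module.Finite R (L.X j)

variable {R}

lemma ret_succ (K : Dual.D R) (hK : FC R K) (a b c : ℤ) (h : Ret R K a b c) :
    Ret R K a b (c + 1) := by
  classical
  obtain ⟨L, i, r, hir, hvan, hfree, hfin⟩ := h
  haveI := hfree c
  haveI : Module.Finite R (L.X (c - 1)) := hfin (c - 1) (by omega)
  let Λ := Module.Free.ChooseBasisIndex R (L.X c)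
  let bs : Module.Basis Λ R (L.X c) := Module.Free.chooseBasis R (L.X c)
  obtain ⟨T₀, hT₀⟩ := exists_finset_support bs (L.d (c - 1) c).hom
  let E₀ : (L.X c) ≃ₗ[R] ({a : Λ // a ∈ T₀} →₀ R) × ({a : Λ // ¬ a ∈ T₀} →₀ R) :=
    bs.repr ≪≫ₗ splitE (fun a => a ∈ T₀)
  let q₀ : L.X c →ₗ[R] ({a : Λ // ¬ a ∈ T₀} →₀ R) :=
    (LinearMap.snd R _ _).comp E₀.toLinearMap
  have hq₀d : ∀ x, q₀ ((L.d (c - 1) c).hom x) = 0 := by
    intro x
    ext a
    change (splitE (fun a => a ∈ T₀) (bs.repr ((L.d (c - 1) c).hom x))).2 a = 0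
    rw [splitE_snd]
    exact hT₀ x a.1 a.2
  have hq₀' : ∀ j, (ComplexShape.up ℤ).Rel j c → L.d j c ≫ ModuleCat.ofHom q₀ = 0 := by
    intro j hj
    have hj' : j + 1 = c := hj
    have : j = c - 1 := by omega
    subst this
    apply ModuleCat.hom_ext
    apply LinearMap.ext
    intro x
    exact hq₀d x
  let π₀ : L ⟶ (single (ModuleCat.{u} R) (ComplexShape.up ℤ) c).obj
      (ModuleCat.of R ({a : Λ // ¬ a ∈ T₀} →₀ R)) := mkHomToSingle (ModuleCat.ofHom q₀) hq₀'
  -- compactness
  have hcol : IsColimit (Cofan.mk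
      (Q.obj ((single (ModuleCat.{u} R) (ComplexShape.up ℤ) c).obj
        (ModuleCat.of R ({a : Λ // ¬ a ∈ T₀} →₀ R))))
      (fun j : {a : Λ // ¬ a ∈ T₀} => Q.map ((single (ModuleCat.{u} R) (ComplexShape.up ℤ) c).map
        (ModuleCat.ofHom (Finsupp.lsingle (R := R) (M := R) j))))) := by
    haveI := DerCoprodB.preservesColimit_Q (fun _ : {a : Λ // ¬ a ∈ T₀} =>
      (single (ModuleCat.{u} R) (ComplexShape.up ℤ) c).obj (ModuleCat.of R R))
    exact isColimitCofanMkObjOfIsColimit Q _ _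
      (isColimitCofanMkObjOfIsColimit (single (ModuleCat.{u} R) (ComplexShape.up ℤ) c) _ _
        (isColimitFinsupp {a : Λ // ¬ a ∈ T₀}))
  obtain ⟨s, g, hg⟩ := hK _ _ _ hcol (i ≫ Q.map π₀)
  have hg' : i ≫ Q.map π₀ = ∑ j ∈ s, g j ≫ Q.map
      ((single (ModuleCat.{u} R) (ComplexShape.up ℤ) c).map
        (ModuleCat.ofHom (Finsupp.lsingle (R := R) (M := R) j))) := hg
  -- second projection
  let E₁ : ({a : Λ // ¬ a ∈ T₀} →₀ R) ≃ₗ[R]
      ({a : {a : Λ // ¬ a ∈ T₀} // a ∈ s} →₀ R) × ({a : {a : Λ // ¬ a ∈ T₀} // ¬ a ∈ s} →₀ R) :=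
    splitE (fun a => a ∈ s)
  let q₁ : ({a : Λ // ¬ a ∈ T₀} →₀ R) →ₗ[R] ({a : {a : Λ // ¬ a ∈ T₀} // ¬ a ∈ s} →₀ R) :=
    (LinearMap.snd R _ _).comp E₁.toLinearMap
  have hq₁s : ∀ j ∈ s, q₁.comp (Finsupp.lsingle (R := R) (M := R) j) = 0 := by
    intro j hj
    ext a
    change (splitE (fun a => a ∈ s) (Finsupp.single j 1)).2 a = 0
    rw [splitE_snd]
    apply Finsupp.single_eq_of_ne
    intro h
    exact a.2 (h ▸ hj)
  let q : L.X c →ₗ[R] ({a : {a : Λ // ¬ a ∈ T₀} // ¬ a ∈ s} →₀ R) := q₁.comp q₀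
  have hq : ∀ j, (ComplexShape.up ℤ).Rel j c → L.d j c ≫ ModuleCat.ofHom q = 0 := by
    intro j hj
    have h1 := hq₀' j hj
    change L.d j c ≫ ModuleCat.ofHom (q₁.comp q₀) = 0
    rw [ModuleCat.ofHom_comp, ← Category.assoc, h1, zero_comp]
  let π₁ : L ⟶ (single (ModuleCat.{u} R) (ComplexShape.up ℤ) c).obj
      (ModuleCat.of R ({a : {a : Λ // ¬ a ∈ T₀} // ¬ a ∈ s} →₀ R)) :=
    mkHomToSingle (ModuleCat.ofHom q) hq
  have hπ₁ : π₁ = π₀ ≫ (single (ModuleCat.{u} R) (ComplexShape.up ℤ) c).map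
      (ModuleCat.ofHom q₁) := by
    apply to_single_hom_ext
    change (mkHomToSingle (ModuleCat.ofHom q) hq).f c =
      (mkHomToSingle (ModuleCat.ofHom q₀) hq₀').f c ≫ _
    rw [mkHomToSingle_f, mkHomToSingle_f, single_map_f_self]
    change ModuleCat.ofHom (q₁.comp q₀) ≫ _ = _
    rw [ModuleCat.ofHom_comp]
    simp
  have hzero : i ≫ Q.map π₁ = 0 := by
    rw [hπ₁, Functor.map_comp, ← Category.assoc, hg', Preadditive.sum_comp]
    refine Finset.sum_eq_zero (fun j hj => ?_)
    rw [Category.assoc, ← Functor.map_comp, ← Functor.map_comp, ← ModuleCat.ofHom_comp,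
      hq₁s j hj]
    have : ModuleCat.ofHom (0 : R →ₗ[R] ({a : {a : Λ // ¬ a ∈ T₀} // ¬ a ∈ s} →₀ R)) = 0 := rfl
    rw [this, Functor.map_zero, Functor.map_zero, comp_zero]
  -- the total equivalence
  let E' : (L.X c) ≃ₗ[R]
      (({a : Λ // a ∈ T₀} →₀ R) × ({a : {a : Λ // ¬ a ∈ T₀} // a ∈ s} →₀ R)) ×
        ({a : {a : Λ // ¬ a ∈ T₀} // ¬ a ∈ s} →₀ R) :=
    E₀ ≪≫ₗ (LinearEquiv.prodCongr (LinearEquiv.refl R _) E₁) ≪≫ₗ
      (LinearEquiv.prodAssoc R _ _ _).symm
  have hE' : (LinearMap.snd R _ _).comp E'.toLinearMap = q := by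
    ext m : 1
    rfl
  have hqsurj : Function.Surjective (ModuleCat.ofHom q).hom := by
    intro y
    refine ⟨E'.symm (0, y), ?_⟩
    change q (E'.symm (0, y)) = y
    rw [← hE']
    simp
  obtain ⟨L', ι, δ, hT, hinj, hsurj', hrange⟩ :=
    exists_kernel_cx R L c _ (ModuleCat.ofHom q) hq hqsurj
  obtain ⟨i', hi'⟩ := Triangle.coyoneda_exact₂ _ hT i hzero
  have hi'' : i = i' ≫ Q.map ι := hi'
  -- equivalences of the terms
  have eqv : ∀ j, j ≠ c → Nonempty (L'.X j ≃ₗ[R] L.X j) := fun j hj =>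
    ⟨LinearEquiv.ofBijective (ι.f j).hom ⟨hinj j, hsurj' j hj⟩⟩
  have hrange' : LinearMap.range (ι.f c).hom =
      LinearMap.ker ((LinearMap.snd R _ _).comp E'.toLinearMap) := by
    rw [hrange, hE']
    rfl
  have eqc : Nonempty (L'.X c ≃ₗ[R]
      (({a : Λ // a ∈ T₀} →₀ R) × ({a : {a : Λ // ¬ a ∈ T₀} // a ∈ s} →₀ R))) :=
    ⟨(LinearEquiv.ofInjective (ι.f c).hom (hinj c)) ≪≫ₗ LinearEquiv.ofEq _ _ hrange' ≪≫ₗ
      kerSndEquiv E'⟩
  refine ⟨L', i', Q.map ι ≫ r, ?_, ?_, ?_, ?_⟩
  · rw [← Category.assoc, ← hi'', hir]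
  · intro j hj
    haveI : Subsingleton (L.X j) := ModuleCat.subsingleton_of_isZero (hvan j hj)
    haveI : Subsingleton (L'.X j) := (hinj j).subsingleton
    exact ModuleCat.isZero_of_subsingleton _
  · intro j
    by_cases hj : j = c
    · subst hj
      exact Module.Free.of_equiv eqc.some.symm
    · haveI := hfree j
      exact Module.Free.of_equiv (eqv j hj).some.symm
  · intro j hj
    by_cases hjc : j = c
    · subst hjc
      exact Module.Finite.equiv eqc.some.symm
    · haveI := hfin j (by omega)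
      exact Module.Finite.equiv (eqv j hjc).some.symm

end Cat

end Groth.Agent.Lib.PerfCptB
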