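-- Copy of Groth/Agent/Lib/PerfCpt3_helper7.lean with namespaces renamed (lead), so that it can be imported together with
-- `DerCoprod_lead` (which shares the namespace `DerCoprod` with `DerCoprod_helper9`). Original proofs by helper7/helper9.
import Mathlib
import Groth.Agent.Lib.PerfCpt2B_lead

/-!
# Compact objects of `D(R)` are perfect, part 2 (helper7)
-/

set_option autoImplicit false
set_option backward.isDefEq.respectTransparency false
universe u
open CategoryTheory Limits Pretriangulated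

namespace Groth.Agent.Lib.PerfCptB

section Seq

/-- a cocone over `ℕ` whose legs are eventually isomorphisms is a colimit -/
noncomputable def isColimitOfEventuallyIso {C : Type*} [Category C] {F : ℕ ⥤ C} (s : Cocone F)
    (N : ℕ) (h : ∀ m, N ≤ m → IsIso (s.ι.app m)) : IsColimit s where
  desc t := (haveI := h N le_rfl; inv (s.ι.app N)) ≫ t.ι.app N
  fac t m := by
    haveI := h N le_rfl
    rcases le_total m N with hm | hm
    · rw [← s.w (homOfLE hm), Category.assoc, IsIso.hom_inv_id_assoc, t.w]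
    · haveI := h m hm
      have e1 : inv (s.ι.app N) ≫ F.map (homOfLE hm) = inv (s.ι.app m) := by
        rw [IsIso.inv_comp_eq, ← s.w (homOfLE hm), Category.assoc, IsIso.hom_inv_id,
          Category.comp_id]
      rw [← t.w (homOfLE hm), reassoc_of% e1, IsIso.hom_inv_id_assoc]
  uniq t m' hm := by
    haveI := h N le_rfl
    rw [← hm N, IsIso.inv_hom_id_assoc]

end Seq

section Cat

attribute [local instance] HasDerivedCategory.standard

variable {R : Type u} [CommRing R]

open DRing HomologicalComplex DerivedCategory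

instance monoTrι (P : Cx R) (a : ℤ) : Mono (StupidTr.trι P a) :=
  HomologicalComplex.mono_of_mono_f _ (fun _ => inferInstance)

/-- the sequence of stupid truncations -/
noncomputable def trSeq (P : Cx R) : ℕ ⥤ Cx R where
  obj m := StupidTr.tr P (-(m : ℤ))
  map {m m'} f := StupidTr.trMap P (show -(m' : ℤ) ≤ -(m : ℤ) by
    have := leOfHom f
    omega)
  map_id m := by
    rw [← cancel_mono (StupidTr.trι P _), StupidTr.trMap_trι, Category.id_comp]
  map_comp f g := by
    rw [← cancel_mono (StupidTr.trι P _), Category.assoc, StupidTr.trMap_trι,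
      StupidTr.trMap_trι, StupidTr.trMap_trι]

/-- the cocone of the stupid truncations -/
noncomputable def trCocone (P : Cx R) : Cocone (trSeq P) where
  pt := P
  ι :=
    { app := fun m => StupidTr.trι P (-(m : ℤ))
      naturality := fun m m' f => by
        change StupidTr.trMap P _ ≫ StupidTr.trι P _ = StupidTr.trι P _ ≫ 𝟙 _
        rw [StupidTr.trMap_trι, Category.comp_id] }

noncomputable def isColimitTr (P : Cx R) : IsColimit (trCocone P) :=
  HomologicalComplex.isColimitOfEval _ _ (fun j =>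
    isColimitOfEventuallyIso _ (-j).toNat (fun m hm => by
      change IsIso ((StupidTr.trι P (-(m : ℤ))).f j)
      apply StupidTr.isIso_trι_f
      have := Int.self_le_toNat (-j)
      omega))

lemma hyp7014 {K : Dual.D R} (hK : FC R K) :
    ∀ (E : ℕ → Dual.D R) [HasCoproduct fun i : ULift.{u + 1} ℕ => E i.down],
      Function.Bijective (CohDer.homSumToHomCoprod K (fun i : ULift.{u + 1} ℕ => E i.down)) := by
  intro E _
  exact bij_of_fc hK (Equiv.ulift.trans Equiv.ulift.symm : ULift.{u} ℕ ≃ ULift.{u + 1} ℕ) _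

lemma exists_ret (K : Dual.D R) (hK : FC R K) : ∃ a b : ℤ, Ret R K a b a := by
  obtain ⟨G, ⟨e⟩⟩ : ∃ G : Cx R, Nonempty (Q.obj G ≅ K) :=
    ⟨Q.objPreimage K, ⟨Q.objObjPreimageIso K⟩⟩
  haveI : HasExactColimitsOfShape ℕ (ModuleCat.{u} R) := by
    let e := ULiftHomULiftCategory.equiv.{u, u} ℕ
    haveI : IsFiltered (ULiftHom.{u} (ULift.{u} ℕ)) := IsFiltered.of_equivalence e
    exact HasExactColimitsOfShape.of_domain_equivalence _ e.symm
  obtain ⟨Kc, π, _, _, hb, hfree, _, cc, _, hq⟩ :=
    Groth.Agent.Lib.ResSystem.exists_system (fun M : ModuleCat.{u} R => Module.Free R M) G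
      (Groth.Agent.Lib.KFlatMod.resClass R).cover (Groth.Agent.Lib.KFlatMod.resClass R).zero
      (fun e h => (Groth.Agent.Lib.KFlatMod.resClass R).of_iso e h)
      (fun h1 h2 => (Groth.Agent.Lib.KFlatMod.resClass R).biprod h1 h2)
  haveI := hq
  obtain ⟨h1, -⟩ := Groth.Agent.Lib.S7014B.result R K (hyp7014 hK) Kc (colimit.cocone Kc)
    (colimit.isColimit Kc)
  obtain ⟨n, y, hy⟩ := h1 (e.inv ≫ inv (Q.map cc))
  let r₁ : Q.obj (Kc.obj n) ⟶ K := Q.map ((colimit.cocone Kc).ι.app n) ≫ Q.map cc ≫ e.hom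
  have hir₁ : y ≫ r₁ = 𝟙 K := by
    change y ≫ Q.map ((colimit.cocone Kc).ι.app n) ≫ Q.map cc ≫ e.hom = 𝟙 K
    rw [← Category.assoc, hy]
    simp
  obtain ⟨b, hb'⟩ := hb n
  haveI := hb'
  obtain ⟨h2, -⟩ := Groth.Agent.Lib.S7014B.result R K (hyp7014 hK) (trSeq (Kc.obj n))
    (trCocone (Kc.obj n)) (isColimitTr (Kc.obj n))
  obtain ⟨m, y', hy'⟩ := h2 y
  have hy'' : y' ≫ Q.map (StupidTr.trι (Kc.obj n) (-(m : ℤ))) = y := hy'
  refine ⟨-(m : ℤ), b, StupidTr.tr (Kc.obj n) (-(m : ℤ)), y',
    Q.map (StupidTr.trι (Kc.obj n) (-(m : ℤ))) ≫ r₁, ?_, ?_, ?_, ?_⟩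
  · rw [← Category.assoc, hy'', hir₁]
  · intro j hj
    rcases hj with hj | hj
    · exact StupidTr.isZero_tr_X (Kc.obj n) _ (by omega)
    · exact IsZero.of_mono ((StupidTr.trι (Kc.obj n) (-(m : ℤ))).f j)
        ((Kc.obj n).isZero_of_isStrictlyLE b j hj)
  · intro j
    by_cases hj : -(m : ℤ) ≤ j
    · haveI := StupidTr.isIso_trι_f (Kc.obj n) _ hj
      haveI := hfree n j
      exact Module.Free.of_equiv
        (asIso ((StupidTr.trι (Kc.obj n) (-(m : ℤ))).f j)).toLinearEquiv.symm
    · haveI : Subsingleton ((StupidTr.tr (Kc.obj n) (-(m : ℤ))).X j) :=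
        ModuleCat.subsingleton_of_isZero (StupidTr.isZero_tr_X (Kc.obj n) _ hj)
      infer_instance
  · intro j hj
    haveI : Subsingleton ((StupidTr.tr (Kc.obj n) (-(m : ℤ))).X j) :=
      ModuleCat.subsingleton_of_isZero (StupidTr.isZero_tr_X (Kc.obj n) _ (by omega))
    infer_instance

/-- **compact objects of `D(R)` are perfect** -/
theorem isPerfect_of_fc (K : Dual.D R) (hK : FC R K) : IsPerfect R K := by
  obtain ⟨a, b, h0⟩ := exists_ret K hK
  have hn : ∀ n : ℕ, Ret R K a b (a + n) := by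
    intro n
    induction n with
    | zero => simpa using h0
    | succ n ih =>
      have e : a + ((n + 1 : ℕ) : ℤ) = a + n + 1 := by
        push_cast
        ring
      rw [e]
      exact ret_succ K hK a b _ ih
  obtain ⟨L, i, r, hir, hvan, hfree, hfin⟩ := hn (b + 1 - a).toNat
  have hfin' : ∀ j, Module.Finite R (L.X j) := by
    intro j
    by_cases hj : j ≤ b
    · exact hfin j (by
        have := Int.self_le_toNat (b + 1 - a)
        omega)
    · haveI : Subsingleton (L.X j) :=
        ModuleCat.subsingleton_of_isZero (hvan j (Or.inr (by omega)))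
      infer_instance
  have hperf : IsPerfect R (toD L) :=
    ⟨L, a, b, hvan, fun j => ⟨hfin' j, by
      haveI := hfree j
      infer_instance⟩, ⟨Iso.refl _⟩⟩
  obtain ⟨C, ⟨e⟩⟩ := Groth.Agent.Lib.DMod_helper6.exists_biprod_of_retract i r hir
  exact (Groth.Agent.Lib.DMod_helper6.isPerfect_of_biprod K C
    (Groth.Agent.Lib.DMod_helper6.isPerfect_of_iso e hperf)).1

end Cat

end Groth.Agent.Lib.PerfCptB
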