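import Mathlib
import Groth.Prelude
import Groth.Agent.Lib.CptPerf1_lead
import Groth.Agent.Lib.PerfCpt3B_lead
import Groth.Agent.Lib.FLF3_helper8

/-!
# Compact objects of `D_QCoh` of a qcqs scheme are perfect (lead)

Reduction to the affine case (restriction to affine opens preserves compactness because `Rj_*`
commutes with direct sums on `D_QCoh`), where the statement is helper7's theorem that compact
objects of `D(R)` are perfect.
-/

set_option autoImplicit false
set_option linter.all false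
set_option maxHeartbeats 1600000
set_option backward.isDefEq.respectTransparency false
set_option backward.isDefEq.respectTransparency.types false
set_option backward.defeqAttrib.useBackward true

universe u

open CategoryTheory CategoryTheory.Limits AlgebraicGeometry TopologicalSpace Opposite
open DerivedCategory CategoryTheory.Pretriangulated

attribute [local instance] HasDerivedCategory.standard

namespace Groth.Agent.Lib.CptPerfL

open Groth.Agent.Lib Groth.Agent.Lib.DCohLocLead Groth.Agent.Lib.PerfLocL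
open Groth.Agent.Lib.HomVanL Groth.Agent.Lib.CompQL

noncomputable section

attribute [local instance] rpushI lpullI

/-- a fully faithful functor whose essential image contains the coproduct of the images maps
coproduct cofans to coproduct cofans -/
theorem nonempty_cofan_map_of_ff {A B : Type*} [Category A] [Category B] (F : A ⥤ B) [F.Full]
    [F.Faithful] {ι : Type*} {X : ι → A} {Z : A} {inj : ∀ i, X i ⟶ Z}
    (hc : IsColimit (Cofan.mk Z inj)) {P : B} {h : ∀ i, F.obj (X i) ⟶ P}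
    (hP : IsColimit (Cofan.mk P h)) (P₀ : A) (e : F.obj P₀ ≅ P) :
    Nonempty (IsColimit (Cofan.mk (F.obj Z) (fun i => F.map (inj i)))) := by
  let g' : ∀ i, X i ⟶ P₀ := fun i => F.preimage (h i ≫ e.inv)
  have hg' : ∀ i, F.map (g' i) = h i ≫ e.inv := fun i => F.map_preimage _
  let d : Z ⟶ P₀ := Cofan.IsColimit.desc hc g'
  have hd : ∀ i, inj i ≫ d = g' i := fun i => Cofan.IsColimit.fac hc g' i
  let t : P ⟶ F.obj Z := Cofan.IsColimit.desc hP (fun i => F.map (inj i))
  have ht : ∀ i, h i ≫ t = F.map (inj i) := fun i => Cofan.IsColimit.fac hP _ i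
  have h1 : t ≫ F.map d ≫ e.hom = 𝟙 P := by
    apply Cofan.IsColimit.hom_ext hP
    intro i
    change h i ≫ t ≫ F.map d ≫ e.hom = h i ≫ 𝟙 P
    have h5 : h i ≫ t ≫ F.map d ≫ e.hom = h i := by
      rw [← Category.assoc, ht, ← Category.assoc, ← F.map_comp, hd, hg', Category.assoc,
        Iso.inv_hom_id, Category.comp_id]
    rw [h5, Category.comp_id]
  let r : P₀ ⟶ Z := F.preimage (e.hom ≫ t)
  have hr : F.map r = e.hom ≫ t := F.map_preimage _
  have h3 : d ≫ r = 𝟙 Z := by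
    apply Cofan.IsColimit.hom_ext hc
    intro i
    change inj i ≫ d ≫ r = inj i ≫ 𝟙 Z
    have h5 : inj i ≫ d ≫ r = inj i := by
      apply F.map_injective
      rw [← Category.assoc, hd, F.map_comp, hg', hr, Category.assoc, Iso.inv_hom_id_assoc, ht]
    rw [h5, Category.comp_id]
  have h2 : (F.map d ≫ e.hom) ≫ t = 𝟙 (F.obj Z) := by
    rw [Category.assoc, ← hr, ← F.map_comp, h3, F.map_id]
  let b : P ≅ F.obj Z := ⟨t, F.map d ≫ e.hom, h1, h2⟩
  have h4 := cofanPostcomp hP b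
  have hfun : (fun l => h l ≫ b.hom) = fun i => F.map (inj i) := funext ht
  rw [hfun] at h4
  exact ⟨h4⟩

section Spec

variable (R : CommRingCat.{u}) [PreservesFiniteLimits (tilde.functor R)]

theorem isQCohD_tildeD (N : DerivedCategory (ModuleCat.{u} R)) :
    DCoh.IsQCohD ((DCoh.tildeD R).obj N) :=
  ((DSectX.main0997 R).2.2 _).2 ⟨N, ⟨Iso.refl _⟩⟩

theorem nonempty_cofan_tildeD {ι : Type u} {X : ι → DerivedCategory (ModuleCat.{u} R)}
    {Z : DerivedCategory (ModuleCat.{u} R)} {inj : ∀ i, X i ⟶ Z}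
    (hc : IsColimit (Cofan.mk Z inj)) :
    Nonempty (IsColimit (Cofan.mk ((DCoh.tildeD R).obj Z)
      (fun i => (DCoh.tildeD R).map (inj i)))) := by
  obtain ⟨hfull, hfaith, hess⟩ := DSectX.main0997 R
  haveI := hfull
  haveI := hfaith
  haveI : HasCoproduct (fun i => (DCoh.tildeD R).obj (X i)) := hasCoproduct_D _ _
  have hP := coproductIsCoproduct (fun i => (DCoh.tildeD R).obj (X i))
  have hq : DCoh.IsQCohD (∐ fun i => (DCoh.tildeD R).obj (X i)) :=
    isQCohD_of_cofan _ (fun i => isQCohD_tildeD R (X i)) hP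
  obtain ⟨P₀, ⟨e⟩⟩ := (hess _).1 hq
  exact nonempty_cofan_map_of_ff (DCoh.tildeD R) hc hP P₀ e

theorem fc_of_cq (N : DerivedCategory (ModuleCat.{u} R)) (h : CQ ((DCoh.tildeD R).obj N)) :
    PerfCptB.FC R N := by
  classical
  obtain ⟨hfull, hfaith, hess⟩ := DSectX.main0997 R
  haveI := hfull
  haveI := hfaith
  intro I X c hc φ
  have hc' : IsColimit (Cofan.mk c.pt c.inj) :=
    mkCofanColimit _ (fun s => Cofan.IsColimit.desc hc s.inj)
      (fun s j => Cofan.IsColimit.fac hc _ j)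
      (fun s m hm => Cofan.IsColimit.hom_ext hc _ _ (fun j => by
        rw [Cofan.IsColimit.fac]
        exact hm j))
  obtain ⟨hG⟩ := nonempty_cofan_tildeD R hc'
  obtain ⟨s, hs⟩ := h I (fun i => (DCoh.tildeD R).obj (X i))
    (fun i => isQCohD_tildeD R (X i)) _ _ hG ((DCoh.tildeD R).map φ)
  refine ⟨s, fun i => (DCoh.tildeD R).preimage ((DCoh.tildeD R).map φ ≫ QcSect.π hG i), ?_⟩
  apply (DCoh.tildeD R).map_injective
  rw [Functor.map_sum]
  have h1 : ∀ i ∈ s, (DCoh.tildeD R).map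
      ((DCoh.tildeD R).preimage ((DCoh.tildeD R).map φ ≫ QcSect.π hG i) ≫ c.inj i) =
      (DCoh.tildeD R).map φ ≫ (QcSect.π hG i ≫ (DCoh.tildeD R).map (c.inj i)) := fun i _ => by
    rw [(DCoh.tildeD R).map_comp, (DCoh.tildeD R).map_preimage, Category.assoc]
  rw [Finset.sum_congr rfl h1, ← Preadditive.comp_sum]
  exact hs.symm

theorem isStrictlyPerfect_tilde (E : CochainComplex (ModuleCat.{u} R) ℤ) (a b : ℤ)
    (hv : DRing.VanishesOutside E a b) (hfp : DRing.TermwiseFiniteProjective E) :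
    DCoh.IsStrictlyPerfect
      (((tilde.functor R).mapHomologicalComplex (ComplexShape.up ℤ)).obj E) :=
  ⟨⟨a, b, fun i hi => (tilde.functor R).map_isZero (hv i hi)⟩,
    fun i => (FLFH8.tilde_finLocFree_iff (E.X i)).2 (hfp i)⟩

/-- a compact object of `D_QCoh(Spec R)` is represented by a strictly perfect complex -/
theorem locRep_of_cq_spec (K : DCoh.D (Spec (CommRingCat.of R))) (hKq : DCoh.IsQCohD K)
    (h : CQ K) : ∃ P : CochainComplex (Spec (CommRingCat.of R)).Modules ℤ,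
      DCoh.IsStrictlyPerfect P ∧ Nonempty (K ≅ Q.obj P) := by
  obtain ⟨hfull, hfaith, hess⟩ := DSectX.main0997 R
  obtain ⟨N, ⟨e⟩⟩ := (hess K).1 hKq
  have hFC : PerfCptB.FC R N := fc_of_cq R N (CQ.of_iso e.symm h)
  obtain ⟨E, a, b, hv, hfp, ⟨c⟩⟩ := PerfCptB.isPerfect_of_fc N hFC
  have cF : (DCoh.tildeD R).obj (Q.obj E) ≅
      Q.obj (((tilde.functor R).mapHomologicalComplex (ComplexShape.up ℤ)).obj E) :=
    (tilde.functor R).mapDerivedCategoryFactors.app E
  exact ⟨_, isStrictlyPerfect_tilde R E a b hv hfp,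
    ⟨e.symm ≪≫ (DCoh.tildeD R).mapIso c.symm ≪≫ cF⟩⟩

end Spec

/-- **compact objects of `D_QCoh` are perfect** -/
theorem isPerfect_of_cq {X : Scheme.{u}} [QuasiSeparatedSpace X] (K : DCoh.D X)
    (hKq : DCoh.IsQCohD K) (h : CQ K) : DCoh.IsPerfect K := by
  apply isPerfect_of_locRep
  intro x
  obtain ⟨U₀, hU₀, hxU₀, -⟩ :=
    Opens.isBasis_iff_nbhd.1 X.isBasis_affineOpens (Opens.mem_top x)
  obtain ⟨U, hU, hxU⟩ : ∃ U : X.Opens, IsAffineOpen U ∧ x ∈ U := ⟨U₀, hU₀, hxU₀⟩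
  haveI : IsAffine (U : Scheme.{u}) := hU
  haveI := LpullQCL.preservesFiniteLimits_tilde Γ((U : Scheme.{u}), ⊤)
  have hCQU : CQ ((DD U.ι).obj K) := cq_restrict U hU.isCompact h
  have hCQ' : CQ ((DD (U : Scheme.{u}).isoSpec.inv).obj ((DD U.ι).obj K)) :=
    cq_of_iso_scheme _ hCQU
  have hq' : DCoh.IsQCohD ((DD (U : Scheme.{u}).isoSpec.inv).obj ((DD U.ι).obj K)) :=
    LpullQCL.isQCohD_restrictD _ _ (LpullQCL.isQCohD_restrictD U.ι K hKq)
  obtain ⟨P, hP, ⟨e⟩⟩ := locRep_of_cq_spec Γ((U : Scheme.{u}), ⊤) _ hq' hCQ'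
  obtain ⟨c1⟩ := nonempty_DD_comp_iso (U : Scheme.{u}).isoSpec.inv U.ι K
  refine ⟨_, (U : Scheme.{u}).isoSpec.inv ≫ U.ι, inferInstance,
    ⟨(U : Scheme.{u}).isoSpec.hom ⟨x, hxU⟩, ?_⟩, ⟨P, hP, ⟨c1 ≪≫ e⟩⟩⟩
  have h1 : (U : Scheme.{u}).isoSpec.inv ((U : Scheme.{u}).isoSpec.hom ⟨x, hxU⟩) =
      ⟨x, hxU⟩ := by
    rw [← Scheme.Hom.comp_apply, Iso.hom_inv_id]
    rfl
  rw [Scheme.Hom.comp_apply, h1]
  rfl

/-- **S1003** -/
theorem main1003 (X : Scheme.{u}) [CompactSpace ↥X] [QuasiSeparatedSpace ↥X]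
    (K : DCoh.D X) (hK : DCoh.IsQCohD K) :
    PerfAux.IsCompactObjRel.{u} (fun L : DCoh.D X => DCoh.IsQCohD L) K ↔ DCoh.IsPerfect K :=
  ⟨fun h => isPerfect_of_cq K hK (cq_of_isCompactObjRel h),
    fun h => isCompactObjRel_of_cq (cq_of_isPerfect K h)⟩

end

end Groth.Agent.Lib.CptPerfL
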