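import Mathlib
import Groth.Prelude
import Groth.Agent.Lib.CptPerf2_lead
import Groth.Agent.Lib.RGammaZ5_lead

/-!
# Compact objects of `D_{QCoh,T}` of a qcqs scheme are the perfect ones (lead)

Reduction to `T = X` (`CptPerf2_lead`) with `RΓ_T`, which is right adjoint to the inclusion of
the objects supported on `T` and commutes with direct sums on `D_QCoh` (`CompQ3_lead`).
-/

set_option autoImplicit false
set_option linter.all false
set_option maxHeartbeats 1600000
set_option backward.isDefEq.respectTransparency false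
set_option backward.isDefEq.respectTransparency.types false
set_option backward.defeqAttrib.useBackward true

universe u

open CategoryTheory CategoryTheory.Limits AlgebraicGeometry TopologicalSpace Opposite
open DerivedCategory CategoryTheory.Pretriangulated

attribute [local instance] HasDerivedCategory.standard

namespace Groth.Agent.Lib.CptPerfL

open Groth.Agent.Lib Groth.Agent.Lib.DCohLocLead Groth.Agent.Lib.PerfLocL
open Groth.Agent.Lib.HomVanL Groth.Agent.Lib.CompQL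

noncomputable section

attribute [local instance] rpushI lpullI

/-- `RΓ_Z` exists -/
theorem hasRgammaZ {U X : Scheme.{u}} (j : U ⟶ X) [IsOpenImmersion j] : CxOX.HasRgammaZ j := by
  haveI := MVPushL.grothendieck_modules X
  exact (OrthDeriv.main (P := HomotopyCategory.subcategoryAcyclic X.Modules)
    (HomotopyCategory.quasiIso X.Modules (ComplexShape.up ℤ))
    (HomotopyCategory.quasiIso_eq_trW_subcategoryAcyclic _)
    Groth.Agent.Lib.KInjGen8.hP (DerivedCategory.Qh : _ ⥤ DCoh.D X) (CxOX.gammaZKh j)).1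

theorem isQCohD_RgammaZ {X : Scheme.{u}} (W : X.Opens) [QuasiCompact W.ι]
    [CxOX.HasRgammaZ W.ι] (G : DCoh.D X) (hG : DCoh.IsQCohD G) :
    DCoh.IsQCohD ((CxOX.RgammaZ W.ι).obj G) := by
  haveI := MVPushL.grothendieck_modules X
  obtain ⟨I, hI, hinj, ⟨eG⟩⟩ := Groth.Agent.Lib.KInjGen8.exists_kInjective_rep G
  haveI := hI
  exact RGammaZL.isQCohD_of_iso' (RGammaZL.iG W I G eG).symm
    (RGammaZL.isQCohD_Q_gam W I hinj (RGammaZL.isQCohD_of_iso' eG.symm hG))

theorem support_RgammaZ {X : Scheme.{u}} (W : X.Opens) [CxOX.HasRgammaZ W.ι] (G : DCoh.D X)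
    (i : ℤ) : CohB1.support (DCoh.HD ((CxOX.RgammaZ W.ι).obj G) i) ⊆ (W : Set X)ᶜ := by
  intro x hx hxW
  exact hx (RGammaZL.subsingleton_stalk_HD_RgammaZ W G i x hxW)

/-- cofan form of relative compactness -/
theorem fix_of_isCompactObjRel {T : Scheme.{u}} (Pr : DCoh.D T → Prop) {E : DCoh.D T}
    (h : PerfAux.IsCompactObjRel.{u} Pr E) {ι : Type u} (K : ι → DCoh.D T) (hK : ∀ i, Pr (K i))
    (P : DCoh.D T) (g : ∀ i, K i ⟶ P) (hc : IsColimit (Cofan.mk P g)) (φ : E ⟶ P) :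
    ∃ s : Finset ι, φ ≫ QcSect.e hc s = φ := by
  classical
  haveI : HasCoproduct K := ⟨⟨⟨_, hc⟩⟩⟩
  have hb := h ι K hK
  let θ : ∐ K ≅ P := IsColimit.coconePointUniqueUpToIso (coproductIsCoproduct K) hc
  have hθ : ∀ l, Sigma.ι K l ≫ θ.hom = g l := fun l =>
    IsColimit.comp_coconePointUniqueUpToIso_hom (coproductIsCoproduct K) hc ⟨l⟩
  obtain ⟨x, hx⟩ := hb.2 (φ ≫ θ.inv)
  refine ⟨x.support, ?_⟩
  have hφ : φ = ∑ l ∈ x.support, x l ≫ g l := by
    have h1 : PerfAux.homSumToHomCoprod E K x = ∑ l ∈ x.support, x l ≫ Sigma.ι K l := by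
      conv_lhs => rw [← DirectSum.sum_support_of x]
      rw [map_sum]
      exact Finset.sum_congr rfl (fun l _ => homSum_of' E K l (x l))
    have h2 : φ = (φ ≫ θ.inv) ≫ θ.hom := by
      rw [Category.assoc, Iso.inv_hom_id, Category.comp_id]
    rw [h2, ← hx, h1, Preadditive.sum_comp]
    exact Finset.sum_congr rfl (fun l _ => by rw [Category.assoc, hθ l])
  rw [hφ, Preadditive.sum_comp]
  refine Finset.sum_congr rfl (fun l hl => ?_)
  rw [Category.assoc, QcSect.inj_e_mem hc hl]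

/-- an object of `D_QCoh` supported on `T` which is compact in `D_{QCoh,T}` is compact in
`D_QCoh` -/
theorem cq_of_isCompactObjRel_supp (X : Scheme.{u}) [QuasiSeparatedSpace ↥X]
    (T : Set X) (hT : IsClosed T) (hTc : IsCompact Tᶜ)
    (K : DCoh.D X) (hKT : ∀ i : ℤ, CohB1.support (DCoh.HD K i) ⊆ T)
    (h : PerfAux.IsCompactObjRel.{u} (fun L : DCoh.D X => DCoh.IsQCohD L ∧
      ∀ i : ℤ, CohB1.support (DCoh.HD L i) ⊆ T) K) : CQ K := by
  classical
  let W : X.Opens := ⟨Tᶜ, hT.isOpen_compl⟩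
  haveI : QuasiCompact W.ι := quasiCompact_ι W hTc
  haveI : CxOX.HasRgammaZ W.ι := hasRgammaZ W.ι
  have hKW : IsZero ((DCoh.restrictD W.ι).obj K) := by
    apply RGammaZL.isZero_restrictD_of_stalks
    intro i y
    by_contra hns
    exact y.2 (hKT i hns)
  intro ι M hM P g hc φ
  haveI : HasCoproduct (fun i => (CxOX.RgammaZ W.ι).obj (M i)) := hasCoproduct_D X _
  haveI : IsIso (Sigma.desc (fun i => (CxOX.RgammaZ W.ι).map (g i))) :=
    main7280 W.ι M hM P g hc _ _
      (coproductIsCoproduct (fun i => (CxOX.RgammaZ W.ι).obj (M i)))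
      (Sigma.desc (fun i => (CxOX.RgammaZ W.ι).map (g i))) (fun i => Sigma.ι_desc _ i)
  obtain ⟨hcR⟩ := nonempty_cofan_of_isIso_desc
    (fun i => (CxOX.RgammaZ W.ι).map (g i)) inferInstance
  obtain ⟨φ', hφ'⟩ := (RGammaZL.bijective_comp_RgammaZToId W K P hKW).2 φ
  have hφ'' : φ' ≫ (CxOX.RgammaZToId W.ι).app P = φ := hφ'
  obtain ⟨s, hs⟩ := fix_of_isCompactObjRel _ h (fun i => (CxOX.RgammaZ W.ι).obj (M i))
    (fun i => ⟨isQCohD_RgammaZ W (M i) (hM i), fun k x hx =>
      not_not.mp (fun hxT => support_RgammaZ W (M i) k hx hxT)⟩) _ _ hcR φ'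
  refine ⟨s, ?_⟩
  have h1 : φ' = ∑ l ∈ s, (φ' ≫ QcSect.π hcR l) ≫ (CxOX.RgammaZ W.ι).map (g l) := by
    calc φ' = φ' ≫ QcSect.e hcR s := hs.symm
      _ = ∑ l ∈ s, (φ' ≫ QcSect.π hcR l) ≫ (CxOX.RgammaZ W.ι).map (g l) := by
          unfold QcSect.e
          rw [Preadditive.comp_sum]
          exact Finset.sum_congr rfl (fun l _ => (Category.assoc _ _ _).symm)
  have hφ : φ = ∑ l ∈ s,
      (φ' ≫ QcSect.π hcR l ≫ (CxOX.RgammaZToId W.ι).app (M l)) ≫ g l := by
    rw [← hφ'']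
    conv_lhs => rw [h1]
    rw [Preadditive.sum_comp]
    refine Finset.sum_congr rfl (fun l _ => ?_)
    have hnat : (CxOX.RgammaZ W.ι).map (g l) ≫ (CxOX.RgammaZToId W.ι).app P =
        (CxOX.RgammaZToId W.ι).app (M l) ≫ g l := (CxOX.RgammaZToId W.ι).naturality (g l)
    rw [Category.assoc, hnat]
    simp only [Category.assoc]
  rw [hφ, Preadditive.sum_comp]
  refine Finset.sum_congr rfl (fun l hl => ?_)
  rw [Category.assoc, QcSect.inj_e_mem hc hl]

/-- **S1016** -/
theorem main1016 (X : Scheme.{u}) [CompactSpace ↥X] [QuasiSeparatedSpace ↥X]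
    (T : Set X) (hT : IsClosed T) (hTc : IsCompact Tᶜ)
    (K : DCoh.D X) (hK : DCoh.IsQCohD K) (hKT : ∀ i : ℤ, CohB1.support (DCoh.HD K i) ⊆ T) :
    PerfAux.IsCompactObjRel.{u} (fun L : DCoh.D X => DCoh.IsQCohD L ∧
      ∀ i : ℤ, CohB1.support (DCoh.HD L i) ⊆ T) K ↔ DCoh.IsPerfect K := by
  constructor
  · intro h
    exact isPerfect_of_cq K hK (cq_of_isCompactObjRel_supp X T hT hTc K hKT h)
  · intro h ι M _ hM
    exact isCompactObjRel_of_cq (cq_of_isPerfect K h) ι M (fun i => (hM i).1)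

end

end Groth.Agent.Lib.CptPerfL
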