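import Mathlib
import Groth.Prelude
import Groth.Agent.Lib.RelTildeAmp1_helper3
import Groth.Agent.Lib.RelPerfBC1_helper3
import Groth.Agent.Lib.DMod36_helper6

/-!
# Flat base change of tor amplitude over a base: the local (stalk) form, ring level (helper3)

A pushout square of rings `A₀ → B₀`, `A₀ → A₀'` (flat), `C₀ = B₀ ⊗_{A₀} A₀'`, together with
"localisations" `A₀ → A`, `B₀ → B`, `A₀' → A'`, `C₀ → B'` and local maps `A → B`, `B → B'`,
`A' → B'` compatible with the global ones.  If a complex `P` of `B`-modules has tor amplitude in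
`[a, b]` over `A`, then `B' ⊗_B P` has tor amplitude in `[a, b]` over `A'`
(`torAmp_local_bc`).
-/

set_option autoImplicit false
set_option linter.all false
set_option maxHeartbeats 1600000

universe u
open CategoryTheory CategoryTheory.Limits DerivedCategory
open scoped TensorProduct ChangeOfRings
attribute [local instance] HasDerivedCategory.standard

namespace Groth.Agent.Lib.TorAmpStalkBCH3

open DRing CochainComplex Groth.Agent.ExtendScalarsLib Groth.Agent.Lib.DMod_helper6
  Groth.Agent.Lib.ExtKFlat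

noncomputable section

section Tools

variable {R A : Type u} [CommRing R] [CommRing A]

/-- restriction of scalars along a flat ring map preserves tor amplitude -/
theorem torAmp_restrict_flat (φ : R →+* A) (hφ : φ.Flat) (E : Cx A) (a b : ℤ)
    (h : HasTorAmplitudeIn A a b (toD E)) :
    HasTorAmplitudeIn R a b (toD ((restrictCx φ).obj E)) := by
  letI : Algebra R A := φ.toAlgebra
  haveI : Module.Flat R A := hφ
  have h1 := hasTorAmplitudeIn_restrictD (R := R) (A := A) (toD E) a b h
  exact hasTorAmplitudeIn_of_iso (restrictDIso (R := R) E) a b h1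

/-- extension of scalars along a composite, on complexes -/
def extCompIso {R₁ R₂ R₃ : Type u} [CommRing R₁] [CommRing R₂] [CommRing R₃]
    (f : R₁ →+* R₂) (g : R₂ →+* R₃) (P : Cx R₁) :
    (ESc (g.comp f)).obj P ≅ (ESc g).obj ((ESc f).obj P) :=
  HomologicalComplex.Hom.isoOfComponents
    (fun i => (ModuleCat.extendScalarsComp f g).app (P.X i))
    (fun i j _ => ((ModuleCat.extendScalarsComp f g).hom.naturality (P.d i j)).symm)

/-- extension of scalars along equal ring maps -/
def extCongrIso {R₁ R₂ : Type u} [CommRing R₁] [CommRing R₂]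
    (f g : R₁ →+* R₂) (h : f = g) (P : Cx R₁) :
    (ESc f).obj P ≅ (ESc g).obj P := by
  subst h
  exact Iso.refl _

end Tools

section Pushout

variable {R A R' A' : Type u} [CommRing R] [CommRing A] [CommRing R'] [CommRing A']

/-- flat base change of the tor amplitude over the base along a pushout square -/
theorem torAmp_pushout (α : R →+* A) (γ : R →+* R') (β : A →+* A') (δ : R' →+* A')
    (hpo : IsPushout (CommRingCat.ofHom α) (CommRingCat.ofHom γ) (CommRingCat.ofHom β)
      (CommRingCat.ofHom δ))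
    (hγ : γ.Flat) (E : Cx A) (a b : ℤ)
    (h : HasTorAmplitudeIn R a b (toD ((restrictCx α).obj E))) :
    HasTorAmplitudeIn R' a b (toD ((restrictCx δ).obj ((ESc β).obj E))) := by
  letI : Algebra R A := α.toAlgebra
  letI : Algebra R R' := γ.toAlgebra
  letI : Algebra A A' := β.toAlgebra
  letI : Algebra R' A' := δ.toAlgebra
  letI : Algebra R A' := (β.comp α).toAlgebra
  haveI : IsScalarTower R A A' := IsScalarTower.of_algebraMap_eq (fun _ => rfl)
  have hw : δ.comp γ = β.comp α := by
    have := hpo.w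
    rw [← CommRingCat.ofHom_comp, ← CommRingCat.ofHom_comp] at this
    exact (congrArg CommRingCat.Hom.hom this).symm
  haveI : IsScalarTower R R' A' :=
    IsScalarTower.of_algebraMap_eq (fun a => (DFunLike.congr_fun hw a).symm)
  haveI : Module.Flat R R' := hγ
  have h1 : Algebra.IsPushout R A R' A' := CommRingCat.isPushout_iff_isPushout.1 hpo
  haveI : Algebra.IsPushout R R' A A' := h1.symm
  have h2 := Groth.Agent.Lib.TorSmoothH3.hasTorAmplitudeIn_flatBaseChange (T := R) (S := R')
    ((restrictCx (algebraMap R A)).obj E) a b h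
  exact hasTorAmplitudeIn_of_iso
    (Q.mapIso (Groth.Agent.Lib.RelPerfBCH3.pushoutCxIso R A R' A' E)) a b h2

end Pushout

section Loc

variable {R A R' B : Type u} [CommRing R] [CommRing A] [CommRing R'] [CommRing B]

/-- passing to a flat algebra of the source and a localisation of the base -/
theorem torAmp_res_loc (δ₀ : R →+* A) (lC : A →+* B) (lA' : R →+* R') (δ : R' →+* B)
    (hcomm : δ.comp lA' = lC.comp δ₀) (hlC : lC.Flat) (S : Submonoid R)
    (hloc : @IsLocalization R _ S R' _ lA'.toAlgebra) (P : Cx A) (a b : ℤ)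
    (h : HasTorAmplitudeIn R a b (toD ((restrictCx δ₀).obj P))) :
    HasTorAmplitudeIn R' a b (toD ((restrictCx δ).obj ((ESc lC).obj P))) := by
  letI : Algebra R A := δ₀.toAlgebra
  letI : Algebra A B := lC.toAlgebra
  letI : Algebra R B := (lC.comp δ₀).toAlgebra
  haveI : IsScalarTower R A B := IsScalarTower.of_algebraMap_eq (fun _ => rfl)
  letI : Algebra R R' := lA'.toAlgebra
  letI : Algebra R' B := δ.toAlgebra
  haveI : IsScalarTower R R' B :=
    IsScalarTower.of_algebraMap_eq (fun r => (DFunLike.congr_fun hcomm r).symm)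
  haveI : IsLocalization S R' := hloc
  haveI : Module.Flat A B := hlC
  haveI : Module.Flat R R' := IsLocalization.flat R' S
  haveI : Algebra.FormallyUnramified R R' := Algebra.FormallyUnramified.of_isLocalization S
  haveI : Algebra.EssFiniteType R R' := Algebra.EssFiniteType.of_isLocalization R' S
  exact Groth.Agent.Lib.RelTildeAmpH3.hasTorAmplitudeIn_res_loc (R := R) (A := A) (R' := R')
    (B := B) P a b h

end Loc

section Retract

variable {T S : Type u} [CommRing T] [CommRing S]

/-- for a localisation `T → S`, a complex of `S`-modules is a retract of `S ⊗_T` of its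
restriction -/
theorem exists_retract_of_isLocalization (l : T →+* S) (M₀ : Submonoid T)
    (hloc : @IsLocalization T _ M₀ S _ l.toAlgebra) (P : Cx S) :
    ∃ (s : P ⟶ (ESc l).obj ((restrictCx l).obj P)) (r : (ESc l).obj ((restrictCx l).obj P) ⟶ P),
      s ≫ r = 𝟙 P := by
  letI : Algebra T S := l.toAlgebra
  haveI : IsLocalization M₀ S := hloc
  haveI : Algebra.FormallyUnramified T S := Algebra.FormallyUnramified.of_isLocalization M₀
  haveI : Algebra.EssFiniteType T S := Algebra.EssFiniteType.of_isLocalization S M₀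
  exact ⟨Groth.Agent.Lib.TorSmoothH3.secCx (T := T) P, Groth.Agent.Lib.TorSmoothH3.mulCx P,
    Groth.Agent.Lib.TorSmoothH3.secCx_mulCx (T := T) P⟩

end Retract

section Main

variable {A₀ B₀ A₀' C₀ A B A' B' : Type u} [CommRing A₀] [CommRing B₀] [CommRing A₀']
  [CommRing C₀] [CommRing A] [CommRing B] [CommRing A'] [CommRing B']

/-- **flat base change of tor amplitude over the base, local form** -/
theorem torAmp_local_bc (α₀ : A₀ →+* B₀) (γ₀ : A₀ →+* A₀') (β₀ : B₀ →+* C₀) (δ₀ : A₀' →+* C₀)
    (hpo : IsPushout (CommRingCat.ofHom α₀) (CommRingCat.ofHom γ₀) (CommRingCat.ofHom β₀)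
      (CommRingCat.ofHom δ₀))
    (hγ : γ₀.Flat)
    (lA : A₀ →+* A) (lB : B₀ →+* B) (lA' : A₀' →+* A') (lC : C₀ →+* B')
    (α : A →+* B) (β : B →+* B') (δ : A' →+* B')
    (h1 : α.comp lA = lB.comp α₀) (h2 : β.comp lB = lC.comp β₀) (h3 : δ.comp lA' = lC.comp δ₀)
    (hlA : lA.Flat) (hlC : lC.Flat)
    (SB : Submonoid B₀) (hlB : @IsLocalization B₀ _ SB B _ lB.toAlgebra)
    (SA' : Submonoid A₀') (hlA' : @IsLocalization A₀' _ SA' A' _ lA'.toAlgebra)
    (P : Cx B) (a b : ℤ)
    (hP : HasTorAmplitudeIn A a b (toD ((restrictCx α).obj P))) :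
    HasTorAmplitudeIn A' a b (toD ((restrictCx δ).obj ((ESc β).obj P))) := by
  -- step 1: descend to the global rings
  let P₀ : Cx B₀ := (restrictCx lB).obj P
  have s1 : HasTorAmplitudeIn A₀ a b (toD ((restrictCx α₀).obj P₀)) := by
    have k1 := torAmp_restrict_flat lA hlA _ a b hP
    have e1 := restrictCxCompIso lA α (α.comp lA) rfl P
    have e2 := restrictCxCompIso α₀ lB (lB.comp α₀) rfl P
    have e3 : (restrictCx (α.comp lA)).obj P ≅ (restrictCx (lB.comp α₀)).obj P := by
      rw [h1]
    exact hasTorAmplitudeIn_of_iso (Q.mapIso (e1.symm ≪≫ e3 ≪≫ e2)) a b k1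
  -- step 2: base change along the pushout square
  have s2 := torAmp_pushout α₀ γ₀ β₀ δ₀ hpo hγ P₀ a b s1
  -- step 3: localise
  have s3 := torAmp_res_loc δ₀ lC lA' δ h3 hlC SA' hlA' ((ESc β₀).obj P₀) a b s2
  -- step 4: identify and retract
  have e4 : (ESc lC).obj ((ESc β₀).obj P₀) ≅ (ESc β).obj ((ESc lB).obj P₀) :=
    (extCompIso β₀ lC P₀).symm ≪≫ extCongrIso _ _ h2.symm P₀ ≪≫ extCompIso lB β P₀
  have s4 : HasTorAmplitudeIn A' a b
      (toD ((restrictCx δ).obj ((ESc β).obj ((ESc lB).obj P₀)))) :=
    hasTorAmplitudeIn_of_iso (Q.mapIso ((restrictCx δ).mapIso e4)) a b s3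
  obtain ⟨s, r, hsr⟩ := exists_retract_of_isLocalization lB SB hlB P
  refine Groth.Agent.Lib.TorSmoothH3.hasTorAmplitudeIn_of_retract
    (Q.map ((restrictCx δ).map ((ESc β).map s))) (Q.map ((restrictCx δ).map ((ESc β).map r)))
    ?_ a b s4
  rw [← Functor.map_comp, ← Functor.map_comp, ← Functor.map_comp, hsr]
  simp

end Main

end

end Groth.Agent.Lib.TorAmpStalkBCH3
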