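import Mathlib
import Groth.Prelude
import Groth.Agent.Lib.TorAmpStalkBC1_helper3
import Groth.Agent.Lib.DMod51_helper6
import Groth.Agent.Lib.DMod48_helper6
import Groth.Agent.Lib.DMod29_helper6

/-!
# Tor dimension of a fibre product of ring maps (helper3)

`TD φ n`: the ring map `φ : R → A` has tor dimension `≤ n` (`A` has tor amplitude in `[-n, 0]`
over `R`).

* `td_flat_bc`: flat base change.
* `td_torIndep_bc`: base change along `R → R ⊗_k k'` when `R` and `A` are flat over `k`.
* `td_comp`: composition.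
* `td_fibreProduct`: `B₁ ⊗_A B₂ → C₁ ⊗_A C₂` has tor dimension `≤ n₁ + n₂` when `B₂`, `C₂` are flat
  over `A`.
-/

set_option autoImplicit false
set_option linter.all false
set_option maxHeartbeats 1600000

universe u
open CategoryTheory CategoryTheory.Limits DerivedCategory
open scoped TensorProduct ChangeOfRings
attribute [local instance] HasDerivedCategory.standard

namespace Groth.Agent.Lib.FibProdTorH3

open DRing CochainComplex Groth.Agent.ExtendScalarsLib Groth.Agent.Lib.DMod_helper6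
  Groth.Agent.Lib.TorAmpStalkBCH3

noncomputable section

section Defs

variable {R A : Type u} [CommRing R] [CommRing A]

/-- the ring as a complex over itself -/
abbrev unitC (A : Type u) [CommRing A] : Cx A :=
  (HomologicalComplex.single (ModuleCat.{u} A) (ComplexShape.up ℤ) 0).obj (ModuleCat.of A A)

/-- the ring map `φ` has tor dimension `≤ n` -/
def TD (φ : R →+* A) (n : ℕ) : Prop :=
  HasTorAmplitudeIn R (-(n : ℤ)) 0 ((restrictD φ).obj (Dual.inD A A))

/-- chain level form of the object in `TD` -/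
def tdIso (φ : R →+* A) :
    (restrictD φ).obj (Dual.inD A A) ≅ toD ((restrictCx φ).obj (unitC A)) :=
  (restrictD φ).mapIso ((singleFunctorIsoCompQ (ModuleCat.{u} A) 0).app (ModuleCat.of A A)) ≪≫
    (ModuleCat.restrictScalars.{u} φ).mapDerivedCategoryFactors.app (unitC A)

lemma td_iff (φ : R →+* A) (n : ℕ) :
    TD φ n ↔ HasTorAmplitudeIn R (-(n : ℤ)) 0 (toD ((restrictCx φ).obj (unitC A))) :=
  ⟨fun h => hasTorAmplitudeIn_of_iso (tdIso φ) _ _ h,
    fun h => hasTorAmplitudeIn_of_iso (tdIso φ).symm _ _ h⟩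

lemma vanishesAbove_unitC (A : Type u) [CommRing A] : VanishesAbove (unitC A) 0 := fun i hi =>
  HomologicalComplex.isZero_single_obj_X _ 0 _ i (by omega)

/-- `A' ⊗_A A = A'` on unit complexes -/
def extUnitIso {A' : Type u} [CommRing A'] (β : A →+* A') :
    (ESc β).obj (unitC A) ≅ unitC A' := by
  letI := β.toAlgebra
  exact (HomologicalComplex.singleMapHomologicalComplex (ModuleCat.extendScalars.{u, u, u} β)
      (ComplexShape.up ℤ) 0).app (ModuleCat.of A A) ≪≫
    (HomologicalComplex.single _ _ 0).mapIso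
      (((extendScalarsEquivTensor (S := A') (ModuleCat.of A A)) ≪≫ₗ
        (TensorProduct.AlgebraTensorModule.rid A A' A')).toModuleIso)

end Defs

section FlatBC

variable {R A R' A' : Type u} [CommRing R] [CommRing A] [CommRing R'] [CommRing A']

/-- **flat base change of the tor dimension** -/
theorem td_flat_bc (α : R →+* A) (γ : R →+* R') (β : A →+* A') (δ : R' →+* A')
    (hpo : IsPushout (CommRingCat.ofHom α) (CommRingCat.ofHom γ) (CommRingCat.ofHom β)
      (CommRingCat.ofHom δ))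
    (hγ : γ.Flat) (n : ℕ) (h : TD α n) : TD δ n := by
  rw [td_iff] at h ⊢
  have k := torAmp_pushout α γ β δ hpo hγ (unitC A) _ _ h
  exact hasTorAmplitudeIn_of_iso (Q.mapIso ((restrictCx δ).mapIso (extUnitIso β))) _ _ k

end FlatBC

section Comp

variable {R A B : Type u} [CommRing R] [CommRing A] [CommRing B]

/-- **composition** -/
theorem td_comp (φ : R →+* A) (ψ : A →+* B) (n m : ℕ) (hφ : TD φ n) (hψ : TD ψ m) :
    TD (ψ.comp φ) (m + n) := by
  letI : Algebra R A := φ.toAlgebra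
  have hB : HasTorAmplitudeIn R (-(n : ℤ)) 0 (Dual.inD R A) :=
    hasTorAmplitudeIn_of_iso (restrictDInDSelfIso (A := R) (B := A)) _ _ hφ
  have key := hasTorAmplitudeIn_restrictD_of_torDim n hB
    ((restrictD ψ).obj (Dual.inD B B)) (-(m : ℤ)) 0 hψ
  have e := restrictDCompIso φ ψ (ψ.comp φ) rfl (Dual.inD B B)
  have key2 := hasTorAmplitudeIn_of_iso e.symm _ _ key
  have hmn : -(m : ℤ) - (n : ℤ) = -((m + n : ℕ) : ℤ) := by push_cast; ring
  rw [hmn] at key2
  exact key2

end Comp

section QIAlg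

variable (R A R' A' : Type u) [CommRing R] [CommRing A] [CommRing R'] [CommRing A']
  [Algebra R A] [Algebra R R'] [Algebra R' A'] [Algebra A A'] [Algebra R A']
  [IsScalarTower R R' A'] [IsScalarTower R A A'] [Algebra.IsPushout R R' A A']

open Groth.Agent.Lib.RelPerfBCH3

lemma pushoutCxIso_naturality {E E' : Cx A} (f : E ⟶ E') :
    (ESc (algebraMap R R')).map ((restrictCx (algebraMap R A)).map f) ≫
        (pushoutCxIso R A R' A' E').hom =
      (pushoutCxIso R A R' A' E).hom ≫
        (restrictCx (algebraMap R' A')).map ((ESc (algebraMap A A')).map f) := by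
  apply HomologicalComplex.hom_ext
  intro i
  exact (pushoutEquiv_naturality R A R' A' (f.f i)).symm

/-- a quasi-isomorphism between bounded above complexes of `A`-modules flat over `R` stays a
quasi-isomorphism after the base change `A → A' = R' ⊗_R A` -/
theorem isIso_Q_map_ESc (hpo' : Algebra.IsPushout R R' A A')
    {X Y : Cx A} (q : X ⟶ Y) (hq : IsIso (Q.map q)) (bX bY : ℤ)
    (hX : VanishesAbove X bX) (hY : VanishesAbove Y bY)
    (hXf : TermwiseFlat ((restrictCx (algebraMap R A)).obj X))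
    (hYf : TermwiseFlat ((restrictCx (algebraMap R A)).obj Y)) :
    IsIso (Q.map ((ESc (algebraMap A A')).map q)) := by
  have h1 : IsIso (Q.map ((restrictCx (algebraMap R A)).map q)) := by
    rw [isIso_Q_map_iff_quasiIso] at hq ⊢
    haveI := hq
    show QuasiIso (((ModuleCat.restrictScalars.{u} (algebraMap R A)).mapHomologicalComplex
      (ComplexShape.up ℤ)).map q)
    infer_instance
  have h2 := isIso_Q_map_of_preservesFlatAcyclic (ModuleCat.extendScalars.{u, u, u} (algebraMap R R'))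
    (preservesFlatAcyclic_extendScalars (algebraMap R R'))
    ((restrictCx (algebraMap R A)).map q) h1 bX bY
    (fun i hi => (ModuleCat.restrictScalars.{u} (algebraMap R A)).map_isZero (hX i hi))
    (fun i hi => (ModuleCat.restrictScalars.{u} (algebraMap R A)).map_isZero (hY i hi)) hXf hYf
  have h3 : IsIso (Q.map ((restrictCx (algebraMap R' A')).map ((ESc (algebraMap A A')).map q))) := by
    have nat := pushoutCxIso_naturality R A R' A' q
    have hh : (restrictCx (algebraMap R' A')).map ((ESc (algebraMap A A')).map q) =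
        (pushoutCxIso R A R' A' X).inv ≫
          (ESc (algebraMap R R')).map ((restrictCx (algebraMap R A)).map q) ≫
            (pushoutCxIso R A R' A' Y).hom := by
      rw [nat, Iso.inv_hom_id_assoc]
    rw [hh, Functor.map_comp, Functor.map_comp]
    haveI := h2
    infer_instance
  rw [isIso_Q_map_iff_quasiIso] at h3 ⊢
  exact (HomologicalComplex.quasiIso_map_iff_of_preservesHomology _
    (ModuleCat.restrictScalars.{u} (algebraMap R' A'))).1 h3

end QIAlg

section QIHom

variable {k R k' R' : Type u} [CommRing k] [CommRing R] [CommRing k'] [CommRing R']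

/-- ring hom form of `isIso_Q_map_ESc` -/
theorem isIso_Q_map_ESc_hom (ι : k →+* R) (κ : k →+* k') (γ : R →+* R') (κ' : k' →+* R')
    (hpo : IsPushout (CommRingCat.ofHom ι) (CommRingCat.ofHom κ) (CommRingCat.ofHom γ)
      (CommRingCat.ofHom κ'))
    {X Y : Cx R} (q : X ⟶ Y) (hq : IsIso (Q.map q)) (bX bY : ℤ)
    (hX : VanishesAbove X bX) (hY : VanishesAbove Y bY)
    (hXf : TermwiseFlat ((restrictCx ι).obj X)) (hYf : TermwiseFlat ((restrictCx ι).obj Y)) :
    IsIso (Q.map ((ESc γ).map q)) := by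
  letI : Algebra k R := ι.toAlgebra
  letI : Algebra k k' := κ.toAlgebra
  letI : Algebra R R' := γ.toAlgebra
  letI : Algebra k' R' := κ'.toAlgebra
  letI : Algebra k R' := (γ.comp ι).toAlgebra
  haveI : IsScalarTower k R R' := IsScalarTower.of_algebraMap_eq (fun _ => rfl)
  have hw : κ'.comp κ = γ.comp ι := by
    have := hpo.w
    rw [← CommRingCat.ofHom_comp, ← CommRingCat.ofHom_comp] at this
    exact (congrArg CommRingCat.Hom.hom this).symm
  haveI : IsScalarTower k k' R' :=
    IsScalarTower.of_algebraMap_eq (fun a => (DFunLike.congr_fun hw a).symm)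
  have h1 : Algebra.IsPushout k R k' R' := CommRingCat.isPushout_iff_isPushout.1 hpo
  haveI : Algebra.IsPushout k k' R R' := h1.symm
  exact isIso_Q_map_ESc k R k' R' h1.symm q hq bX bY hX hY hXf hYf

/-- ring hom form of `pushoutCxIso` -/
theorem nonempty_pushoutCxIso_hom (ι : k →+* R) (κ : k →+* k') (γ : R →+* R') (κ' : k' →+* R')
    (hpo : IsPushout (CommRingCat.ofHom ι) (CommRingCat.ofHom κ) (CommRingCat.ofHom γ)
      (CommRingCat.ofHom κ')) (E : Cx R) :
    Nonempty ((ESc κ).obj ((restrictCx ι).obj E) ≅ (restrictCx κ').obj ((ESc γ).obj E)) := by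
  letI : Algebra k R := ι.toAlgebra
  letI : Algebra k k' := κ.toAlgebra
  letI : Algebra R R' := γ.toAlgebra
  letI : Algebra k' R' := κ'.toAlgebra
  letI : Algebra k R' := (γ.comp ι).toAlgebra
  haveI : IsScalarTower k R R' := IsScalarTower.of_algebraMap_eq (fun _ => rfl)
  have hw : κ'.comp κ = γ.comp ι := by
    have := hpo.w
    rw [← CommRingCat.ofHom_comp, ← CommRingCat.ofHom_comp] at this
    exact (congrArg CommRingCat.Hom.hom this).symm
  haveI : IsScalarTower k k' R' :=
    IsScalarTower.of_algebraMap_eq (fun a => (DFunLike.congr_fun hw a).symm)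
  have h1 : Algebra.IsPushout k R k' R' := CommRingCat.isPushout_iff_isPushout.1 hpo
  haveI : Algebra.IsPushout k k' R R' := h1.symm
  exact ⟨Groth.Agent.Lib.RelPerfBCH3.pushoutCxIso k R k' R' E⟩

end QIHom

section TorIndep

variable {k R A k' R' A' : Type u} [CommRing k] [CommRing R] [CommRing A] [CommRing k']
  [CommRing R'] [CommRing A']

/-- restriction of a flat module along a flat ring map is flat -/
lemma flat_restrict_of_flat (ι : k →+* R) (hι : ι.Flat) (M : ModuleCat.{u} R)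
    (hM : Module.Flat R M) : Module.Flat k ((ModuleCat.restrictScalars.{u} ι).obj M) := by
  letI : Algebra k R := ι.toAlgebra
  haveI : Module.Flat k R := hι
  exact flat_restrictScalars (R := k) (A := R) M hM

/-- `A` restricted to `k` in two steps is flat if `k → A` is flat -/
lemma flat_restrict_restrict_self (ι : k →+* R) (α : R →+* A) (hA : (α.comp ι).Flat) :
    Module.Flat k ((ModuleCat.restrictScalars.{u} ι).obj
      ((ModuleCat.restrictScalars.{u} α).obj (ModuleCat.of A A))) := by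
  letI : Algebra k A := (α.comp ι).toAlgebra
  haveI : Module.Flat k A := hA
  let e : A ≃ₗ[k] ((ModuleCat.restrictScalars.{u} ι).obj
      ((ModuleCat.restrictScalars.{u} α).obj (ModuleCat.of A A))) :=
    { toFun := fun a => a
      invFun := fun a => a
      map_add' := fun _ _ => rfl
      map_smul' := fun c a => rfl
      left_inv := fun _ => rfl
      right_inv := fun _ => rfl }
  exact Module.Flat.of_linearEquiv e.symm

/-- **base change of the tor dimension along `R → R ⊗_k k'`**, for `R` and `A` flat over `k` -/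
theorem td_torIndep_bc (ι : k →+* R) (α : R →+* A) (κ : k →+* k') (γ : R →+* R') (κ' : k' →+* R')
    (β : A →+* A') (δ : R' →+* A')
    (hpo1 : IsPushout (CommRingCat.ofHom ι) (CommRingCat.ofHom κ) (CommRingCat.ofHom γ)
      (CommRingCat.ofHom κ'))
    (hpo2 : IsPushout (CommRingCat.ofHom α) (CommRingCat.ofHom γ) (CommRingCat.ofHom β)
      (CommRingCat.ofHom δ))
    (hR : ι.Flat) (hA : (α.comp ι).Flat) (n : ℕ) (h : TD α n) : TD δ n := by
  rw [td_iff] at h ⊢
  obtain ⟨E, hE, hEfl, ⟨e⟩⟩ := h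
  have hX₀b : VanishesAbove ((restrictCx α).obj (unitC A)) 0 := fun i hi =>
    (ModuleCat.restrictScalars.{u} α).map_isZero (vanishesAbove_unitC A i hi)
  have hEb : VanishesAbove E 0 := fun i hi => hE i (Or.inr hi)
  haveI : DerivedCategory.IsLE (toD ((restrictCx α).obj (unitC A))) 0 :=
    isLE_toD_of_vanishesAbove _ 0 hX₀b
  obtain ⟨P, hPfree, hPb, ⟨eP⟩⟩ := exists_free_resolution (toD ((restrictCx α).obj (unitC A))) 0
  haveI : P.IsKProjective :=
    isKProjective_of_projective_bounded P 0 hPb (fun j => by haveI := hPfree j; infer_instance)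
  obtain ⟨q₂, hq₂⟩ := exists_Q_map_eq_of_isKProjective (E := P)
    (F := (restrictCx α).obj (unitC A)) eP.hom
  obtain ⟨q₁, hq₁⟩ := exists_Q_map_eq_of_isKProjective (E := P) (F := E) (eP.hom ≫ e.inv)
  have hq₂' : IsIso (Q.map q₂) := by rw [hq₂]; infer_instance
  have hq₁' : IsIso (Q.map q₁) := by rw [hq₁]; infer_instance
  have hPk : TermwiseFlat ((restrictCx ι).obj P) := fun i =>
    flat_restrict_of_flat ι hR (P.X i) (by haveI := hPfree i; exact Module.Flat.of_free)
  have hEk : TermwiseFlat ((restrictCx ι).obj E) := fun i =>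
    flat_restrict_of_flat ι hR (E.X i) (hEfl i)
  have hX₀k : TermwiseFlat ((restrictCx ι).obj ((restrictCx α).obj (unitC A))) := fun i => by
    by_cases hi : i = 0
    · subst hi
      have e0 : ((restrictCx ι).obj ((restrictCx α).obj (unitC A))).X 0 ≅
          (ModuleCat.restrictScalars.{u} ι).obj
            ((ModuleCat.restrictScalars.{u} α).obj (ModuleCat.of A A)) :=
        (ModuleCat.restrictScalars.{u} ι).mapIso ((ModuleCat.restrictScalars.{u} α).mapIso
          (HomologicalComplex.singleObjXSelf (ComplexShape.up ℤ) 0 (ModuleCat.of A A)))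
      haveI := flat_restrict_restrict_self ι α hA
      exact Module.Flat.of_linearEquiv e0.toLinearEquiv
    · exact flat_of_isZero _ ((ModuleCat.restrictScalars.{u} ι).map_isZero
        ((ModuleCat.restrictScalars.{u} α).map_isZero
          (HomologicalComplex.isZero_single_obj_X _ 0 _ i hi)))
  haveI i1 := isIso_Q_map_ESc_hom ι κ γ κ' hpo1 q₁ hq₁' 0 0 hPb hEb hPk hEk
  haveI i2 := isIso_Q_map_ESc_hom ι κ γ κ' hpo1 q₂ hq₂' 0 0 hPb hX₀b hPk hX₀k
  obtain ⟨p2⟩ := nonempty_pushoutCxIso_hom α γ β δ hpo2 (unitC A)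
  letI : Algebra R R' := γ.toAlgebra
  refine ⟨(ESc γ).obj E, fun i hi => (ModuleCat.extendScalars.{u, u, u} γ).map_isZero (hE i hi),
    fun i => flat_ES (A := R) (B := R') (E.X i) (hEfl i), ⟨?_⟩⟩
  exact (asIso (Q.map ((ESc γ).map q₁))).symm ≪≫ asIso (Q.map ((ESc γ).map q₂)) ≪≫
    Q.mapIso p2 ≪≫ Q.mapIso ((restrictCx δ).mapIso (extUnitIso β))

end TorIndep

section FibreProduct

/-- **the tor dimension of a fibre product of ring maps** -/
theorem td_fibreProduct {A B₁ C₁ B₂ C₂ B C : CommRingCat.{u}}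
    (b₁ : A ⟶ B₁) (α₁ : B₁ ⟶ C₁) (b₂ : A ⟶ B₂) (α₂ : B₂ ⟶ C₂)
    (iB₁ : B₁ ⟶ B) (iB₂ : B₂ ⟶ B) (hB : IsPushout b₁ b₂ iB₁ iB₂)
    (iC₁ : C₁ ⟶ C) (iC₂ : C₂ ⟶ C) (hC : IsPushout (b₁ ≫ α₁) (b₂ ≫ α₂) iC₁ iC₂)
    (φ : B ⟶ C) (hφ₁ : iB₁ ≫ φ = α₁ ≫ iC₁) (hφ₂ : iB₂ ≫ φ = α₂ ≫ iC₂)
    (hfl₂ : b₂.hom.Flat) (hfl₂' : (b₂ ≫ α₂).hom.Flat) (n₁ n₂ : ℕ)
    (h₁ : TD α₁.hom n₁) (h₂ : TD α₂.hom n₂) : TD φ.hom (n₁ + n₂) := by
  -- the intermediate ring `D = B₁ ⊗_A C₂`
  have hD : IsPushout b₁ (b₂ ≫ α₂) (pushout.inl b₁ (b₂ ≫ α₂)) (pushout.inr b₁ (b₂ ≫ α₂)) :=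
    IsPushout.of_hasPushout _ _
  have S1 := IsPushout.of_left' hD.flip hB.flip
  have S2 := IsPushout.of_left' hC hD
  set ψ₁ := hB.flip.desc (α₂ ≫ pushout.inr b₁ (b₂ ≫ α₂)) (pushout.inl b₁ (b₂ ≫ α₂))
    (by rw [← Category.assoc, hD.flip.w]) with hψ₁
  set ψ₂ := hD.desc (α₁ ≫ iC₁) iC₂ (by rw [← Category.assoc, hC.w]) with hψ₂
  have hψ : ψ₁ ≫ ψ₂ = φ := by
    apply hB.hom_ext
    · rw [hφ₁, ← Category.assoc]
      have : iB₁ ≫ ψ₁ = pushout.inl b₁ (b₂ ≫ α₂) := hB.flip.inr_desc _ _ _
      rw [this]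
      exact hD.inl_desc _ _ _
    · rw [hφ₂, ← Category.assoc]
      have : iB₂ ≫ ψ₁ = α₂ ≫ pushout.inr b₁ (b₂ ≫ α₂) := hB.flip.inl_desc _ _ _
      rw [this, Category.assoc]
      congr 1
      exact hD.inr_desc _ _ _
  have hflD : (pushout.inl b₁ (b₂ ≫ α₂)).hom.Flat :=
    RingHom.Flat.isStableUnderBaseChange.pushout_inl RingHom.Flat.respectsIso b₁ (b₂ ≫ α₂) hfl₂'
  have t1 : TD ψ₁.hom n₂ :=
    td_torIndep_bc b₂.hom α₂.hom b₁.hom iB₂.hom iB₁.hom (pushout.inr b₁ (b₂ ≫ α₂)).hom ψ₁.hom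
      hB.flip S1 hfl₂ hfl₂' n₂ h₂
  have t2 : TD ψ₂.hom n₁ :=
    td_flat_bc α₁.hom (pushout.inl b₁ (b₂ ≫ α₂)).hom iC₁.hom ψ₂.hom S2 hflD n₁ h₁
  have t3 := td_comp ψ₁.hom ψ₂.hom n₂ n₁ t1 t2
  rw [← hψ]
  exact t3

end FibreProduct

end

end Groth.Agent.Lib.FibProdTorH3
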