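import Mathlib
import Groth.Prelude
import Groth.Agent.Lib.RelPCBC3_helper3

/-!
# Flat base change and fpqc / fppf descent of relative pseudo-coherence: main theorems (helper3)

* `nonempty_lBaseChange_self`, `compat_unit`: the structure sheaves are compatible.
* `relPC_of_fpqc`, `relPC_of_fppf`: descent.
* `main6226`, `main6227`, `main6211`, `main7228`.
-/

set_option autoImplicit false
set_option linter.all false
set_option maxHeartbeats 1600000
set_option backward.isDefEq.respectTransparency false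
set_option backward.isDefEq.respectTransparency.types false
set_option backward.defeqAttrib.useBackward true

universe u
open CategoryTheory CategoryTheory.Limits AlgebraicGeometry Opposite TopologicalSpace
open CategoryTheory.Pretriangulated
open scoped TensorProduct

attribute [local instance] HasDerivedCategory.standard

namespace Groth.Agent.Lib.RelPCBCH3

open Groth.Agent.Lib.DCohLocLead DerivedCategory Groth.Agent.Lib.FpqcPCH3
  Groth.Agent.Lib.FinPushPCH3 Groth.Agent.Lib.BCOpenL Groth.Agent.Lib.RelPCaH3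
  Groth.Agent.Lib.DMod_helper6 Groth.Agent.Lib.TildePCH3 Groth.Agent.Lib.TildeAmpL DRing
  Groth.Agent.Lib.RelPCbH3 Groth.Agent.Lib.RelPerfLocH3 Groth.Agent.Lib.RelPerfBCH3 DerSch
  Groth.Agent.ExtendScalarsLib

noncomputable section

local instance hasRpushInstBC4 {X Y : Scheme.{u}} (f : X ⟶ Y) : DCoh.HasRpush f := hasRpush f

local instance hasLBCInstBC4 {A B : Type u} [CommRing A] [CommRing B] (φ : A →+* B) :
    HasLBaseChange φ := Groth.Agent.Lib.LpullQCL.hasLBaseChange φ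

local instance pflInstBC4 (R : CommRingCat.{u}) : PreservesFiniteLimits (tilde.functor R) :=
  Groth.Agent.Lib.LpullQCL.preservesFiniteLimits_tilde R

section Ring

variable {A B : Type u} [CommRing A] [CommRing B]

/-- `A ⊗^L_A B = B` -/
theorem nonempty_lBaseChange_self (φ : A →+* B) [HasLBaseChange φ] :
    Nonempty ((LBaseChange φ).obj (Dual.inD A A) ≅ Dual.inD B B) := by
  letI := φ.toAlgebra
  let F : Cx A := (HomologicalComplex.single (ModuleCat.{u} A) (ComplexShape.up ℤ) 0).obj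
    (ModuleCat.of A A)
  have hF : VanishesAbove F 0 := fun i hi =>
    HomologicalComplex.isZero_single_obj_X _ 0 _ i (by omega)
  have hFf : TermwiseFlat F := fun i => by
    by_cases hi : i = 0
    · subst hi
      exact Module.Flat.of_linearEquiv
        (HomologicalComplex.singleObjXSelf (ComplexShape.up ℤ) 0 (ModuleCat.of A A)).toLinearEquiv
    · exact flat_of_isZero _ (HomologicalComplex.isZero_single_obj_X _ 0 _ i hi)
  obtain ⟨e1⟩ := nonempty_lBaseChange_iso_of_flat φ F 0 hF hFf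
  let e0 : toD F ≅ Dual.inD A A :=
    ((singleFunctorIsoCompQ (ModuleCat.{u} A) 0).app (ModuleCat.of A A)).symm
  let e2 : ((ModuleCat.extendScalars.{u, u, u} φ).mapHomologicalComplex
      (ComplexShape.up ℤ)).obj F ≅
      (HomologicalComplex.single (ModuleCat.{u} B) (ComplexShape.up ℤ) 0).obj
        ((ModuleCat.extendScalars.{u, u, u} φ).obj (ModuleCat.of A A)) :=
    (HomologicalComplex.singleMapHomologicalComplex (ModuleCat.extendScalars.{u, u, u} φ)
      (ComplexShape.up ℤ) 0).app (ModuleCat.of A A)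
  let e3 : (ModuleCat.extendScalars.{u, u, u} φ).obj (ModuleCat.of A A) ≅ ModuleCat.of B B :=
    ((extendScalarsEquivTensor (S := B) (ModuleCat.of A A)) ≪≫ₗ
      (TensorProduct.AlgebraTensorModule.rid A B B)).toModuleIso
  exact ⟨(LBaseChange φ).mapIso e0.symm ≪≫ e1 ≪≫
    Q.mapIso (e2 ≪≫ (HomologicalComplex.single _ _ 0).mapIso e3) ≪≫
    ((singleFunctorIsoCompQ (ModuleCat.{u} B) 0).app (ModuleCat.of B B)).symm⟩

end Ring

variable {X S S' : Scheme.{u}} (f : X ⟶ S) (g : S' ⟶ S)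

theorem compat_unit :
    Compat f g (DCoh.toD X (unitCx X)) (DCoh.toD (pullback f g) (unitCx (pullback f g))) := by
  intro U hU V' hUP M ⟨eM⟩
  obtain ⟨e0⟩ := nonempty_unit_ring_rep' U hU
  haveI := (Groth.Agent.Lib.DSectX.main0997 Γ(X, U)).1
  haveI := (Groth.Agent.Lib.DSectX.main0997 Γ(X, U)).2.1
  let i : M ≅ Dual.inD Γ(X, U) Γ(X, U) :=
    (DCoh.tildeD Γ(X, U)).preimageIso (eM ≪≫ e0.symm)
  obtain ⟨l⟩ := nonempty_lBaseChange_self
    ((pullback.fst f g).appLE U (UP f g U V') inf_le_left).hom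
  obtain ⟨e0'⟩ := nonempty_unit_ring_rep' (UP f g U V') hUP
  exact ⟨(DCoh.tildeD Γ(pullback f g, UP f g U V')).mapIso
    ((LBaseChange ((pullback.fst f g).appLE U (UP f g U V') inf_le_left).hom).mapIso i ≪≫ l) ≪≫
    e0'⟩

/-- **fpqc descent of relative pseudo-coherence** -/
theorem relPC_of_fpqc [LocallyOfFiniteType f] [Flat g] [Surjective g] [QuasiCompact g]
    (E : DCoh.D X) (E' : DCoh.D (pullback f g)) (hc : Compat f g E E')
    (hrep : ∀ (U : X.Opens) (hU : IsAffineOpen U), ∃ M : Dual.D Γ(X, U),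
      Nonempty ((DCoh.tildeD Γ(X, U)).obj M ≅ EC U hU E))
    (m : ℤ) (hE' : IsPseudoCoherentRel (pullback.snd f g) m E') :
    IsPseudoCoherentRel f m E := by
  rw [relPC_iff_forall_gpc]
  intro U V hUV n φ hφ
  have hcpt : IsCompact (X := S') (g ⁻¹ᵁ V.1) := g.isCompact_preimage V.2.isCompact
  obtain ⟨s, hs, hsV⟩ := isCompact_iff_finite_and_eq_biUnion_affineOpens.mp hcpt
  haveI : Finite s := hs.to_subtype
  have hle : ∀ j : s, j.1.1 ≤ g ⁻¹ᵁ V.1 := fun j => by
    rw [hsV]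
    exact le_iSup₂_of_le j.1 j.2 le_rfl
  obtain ⟨M, ⟨eM⟩⟩ := hrep U.1 U.2
  refine gpc_of_family f (fun _ : s => S') (fun _ => g) E (fun _ => E') (fun _ => hc) U.1 U.2
    V.1 V.2 hUV (fun j => j.1.1) (fun j => j.1.2) hle ?_ M eM φ hφ m (fun _ => hE')
  intro x hx
  obtain ⟨x', hx'⟩ := g.surjective x
  have hx'V : x' ∈ g ⁻¹ᵁ V.1 := by
    show g x' ∈ V.1
    rw [hx']
    exact hx
  rw [hsV] at hx'V
  obtain ⟨j, hj, hx'j⟩ : ∃ j ∈ s, x' ∈ (j : S'.Opens) := by
    simpa [Opens.mem_iSup] using hx'V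
  exact ⟨⟨j, hj⟩, x', hx'j, hx'⟩

/-- **fppf descent of relative pseudo-coherence** -/
theorem relPC_of_fppf [LocallyOfFiniteType f] {ι : Type u} (Si : ι → Scheme.{u})
    (h : ∀ i, Si i ⟶ S) [∀ i, Flat (h i)] [∀ i, LocallyOfFinitePresentation (h i)]
    (hcov : ∀ s : S, ∃ (i : ι) (t : Si i), (h i).base t = s)
    (E : DCoh.D X) (E' : ∀ i, DCoh.D (pullback f (h i))) (hc : ∀ i, Compat f (h i) E (E' i))
    (hrep : ∀ (U : X.Opens) (hU : IsAffineOpen U), ∃ M : Dual.D Γ(X, U),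
      Nonempty ((DCoh.tildeD Γ(X, U)).obj M ≅ EC U hU E))
    (m : ℤ) (hE' : ∀ i, IsPseudoCoherentRel (pullback.snd f (h i)) m (E' i)) :
    IsPseudoCoherentRel f m E := by
  rw [relPC_iff_forall_gpc]
  intro U V hUV n φ hφ
  have key : ∀ s : V.1, ∃ (i : ι) (W : (Si i).Opens), IsAffineOpen W ∧ W ≤ (h i) ⁻¹ᵁ V.1 ∧
      ∃ t ∈ W, (h i).base t = s.1 := by
    intro s
    obtain ⟨i, t, ht⟩ := hcov s.1
    have htV : t ∈ (h i) ⁻¹ᵁ V.1 := by
      show (h i).base t ∈ V.1
      rw [ht]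
      exact s.2
    obtain ⟨W, hW, htW, hWV⟩ := Opens.isBasis_iff_nbhd.mp (Si i).isBasis_affineOpens htV
    exact ⟨i, W, hW, hWV, t, htW, ht⟩
  choose i W hW hWV t htW ht using key
  let O : V.1 → Set S := fun s => (h (i s)) '' (W s : Set (Si (i s)))
  have hO : ∀ s, IsOpen (O s) := fun s => (h (i s)).isOpenMap _ (W s).isOpen
  have hcover : (V.1 : Set S) ⊆ ⋃ s, O s := fun x hx =>
    Set.mem_iUnion.2 ⟨⟨x, hx⟩, t ⟨x, hx⟩, htW _, ht _⟩
  obtain ⟨F, hF⟩ := V.2.isCompact.elim_finite_subcover O hO hcover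
  obtain ⟨M, ⟨eM⟩⟩ := hrep U.1 U.2
  refine gpc_of_family f (fun j : F => Si (i j.1)) (fun j => h (i j.1)) E (fun j => E' (i j.1))
    (fun j => hc _) U.1 U.2 V.1 V.2 hUV (fun j => W j.1) (fun j => hW j.1) (fun j => hWV j.1) ?_
    M eM φ hφ m (fun j => hE' _)
  intro x hx
  obtain ⟨s, hsF, hxs⟩ : ∃ s ∈ F, x ∈ O s := by simpa using hF hx
  obtain ⟨t', ht'W, ht'⟩ := hxs
  exact ⟨⟨s, hsF⟩, t', ht'W, ht'⟩

theorem main6226 [LocallyOfFiniteType f] [Flat g] (n : ℤ) (hf : IsNPseudoCoherent f n) :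
    IsNPseudoCoherent (pullback.snd f g) n :=
  relPC_bc f g _ _ (compat_unit f g) (fun U hU => ⟨_, nonempty_unit_ring_rep' U hU⟩) n hf

theorem main6227 [LocallyOfFiniteType f] [Flat g] [Surjective g] [QuasiCompact g] (n : ℤ)
    (hf' : IsNPseudoCoherent (pullback.snd f g) n) : IsNPseudoCoherent f n :=
  relPC_of_fpqc f g _ _ (compat_unit f g) (fun U hU => ⟨_, nonempty_unit_ring_rep' U hU⟩) n hf'

theorem main6211 [LocallyOfFiniteType f] [Flat g] [Surjective g] [QuasiCompact g]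
    [DCoh.HasLpull (pullback.fst f g)] (n : ℤ) (E : DCoh.D X) (hq : DCoh.IsQCohD E)
    (hE : IsPseudoCoherentRel (pullback.snd f g) n ((DCoh.Lpull (pullback.fst f g)).obj E)) :
    IsPseudoCoherentRel f n E :=
  relPC_of_fpqc f g E _ (compat_Lpull f g E) (fun U hU => exists_ring_rep' U hU E hq) n hE

theorem main7228 [LocallyOfFiniteType f] {ι : Type u} (Si : ι → Scheme.{u}) (h : ∀ i, Si i ⟶ S)
    [∀ i, Flat (h i)] [∀ i, LocallyOfFinitePresentation (h i)]
    (hcov : ∀ s : S, ∃ (i : ι) (t : Si i), (h i).base t = s)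
    [∀ i, DCoh.HasLpull (pullback.fst f (h i))] (m : ℤ) (E : DCoh.D X) (hE : DCoh.IsQCohD E) :
    IsPseudoCoherentRel f m E ↔
      ∀ i, IsPseudoCoherentRel (pullback.snd f (h i)) m
        ((DCoh.Lpull (pullback.fst f (h i))).obj E) :=
  ⟨fun hE' i => relPC_bc f (h i) E _ (compat_Lpull f (h i) E)
      (fun U hU => exists_ring_rep' U hU E hE) m hE',
    fun hE' => relPC_of_fppf f Si h hcov E _ (fun i => compat_Lpull f (h i) E)
      (fun U hU => exists_ring_rep' U hU E hE) m hE'⟩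

end

end Groth.Agent.Lib.RelPCBCH3
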