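import Mathlib
import Groth.Prelude
import Groth.Agent.Lib.RelPCBC4_helper3
import Groth.Agent.Lib.RelPerfLoc3_helper3
import Groth.Agent.Lib.RelPCQc_helper3

/-!
# Flat base change of relative perfect amplitude (helper3; S6230)
-/

set_option autoImplicit false
set_option linter.all false
set_option maxHeartbeats 1600000
set_option backward.isDefEq.respectTransparency false
set_option backward.isDefEq.respectTransparency.types false
set_option backward.defeqAttrib.useBackward true

universe u
open CategoryTheory CategoryTheory.Limits AlgebraicGeometry Opposite TopologicalSpace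
open CategoryTheory.Pretriangulated
open scoped TensorProduct

attribute [local instance] HasDerivedCategory.standard

namespace Groth.Agent.Lib.RelPCBCH3

open Groth.Agent.Lib.DCohLocLead DerivedCategory Groth.Agent.Lib.FpqcPCH3
  Groth.Agent.Lib.FinPushPCH3 Groth.Agent.Lib.BCOpenL Groth.Agent.Lib.RelPCaH3
  Groth.Agent.Lib.DMod_helper6 Groth.Agent.Lib.TildePCH3 Groth.Agent.Lib.TildeAmpL DRing
  Groth.Agent.Lib.RelPCbH3 Groth.Agent.Lib.RelPerfLocH3 Groth.Agent.Lib.RelPerfBCH3 DerSch
  Groth.Agent.ExtendScalarsLib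

noncomputable section

local instance hasRpushInstBC5 {X Y : Scheme.{u}} (f : X ⟶ Y) : DCoh.HasRpush f := hasRpush f

local instance hasLBCInstBC5 {A B : Type u} [CommRing A] [CommRing B] (φ : A →+* B) :
    HasLBaseChange φ := Groth.Agent.Lib.LpullQCL.hasLBaseChange φ

local instance pflInstBC5 (R : CommRingCat.{u}) : PreservesFiniteLimits (tilde.functor R) :=
  Groth.Agent.Lib.LpullQCL.preservesFiniteLimits_tilde R

section Ring

variable {R A R' A' : Type u} [CommRing R] [CommRing A] [CommRing R'] [CommRing A']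

/-- flat base change for restriction of scalars, ring hom form -/
theorem nonempty_restrict_lBaseChange_iso_hom (α : R →+* A) (γ : R →+* R') (β : A →+* A')
    (δ : R' →+* A')
    (hpo : IsPushout (CommRingCat.ofHom α) (CommRingCat.ofHom γ) (CommRingCat.ofHom β)
      (CommRingCat.ofHom δ))
    (hγ : γ.Flat) [HasLBaseChange β] [HasLBaseChange γ] (M : Dual.D A) :
    Nonempty ((restrictD δ).obj ((LBaseChange β).obj M) ≅
      (LBaseChange γ).obj ((restrictD α).obj M)) := by
  letI : Algebra R A := α.toAlgebra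
  letI : Algebra R R' := γ.toAlgebra
  letI : Algebra A A' := β.toAlgebra
  letI : Algebra R' A' := δ.toAlgebra
  letI : Algebra R A' := (β.comp α).toAlgebra
  haveI : IsScalarTower R A A' := IsScalarTower.of_algebraMap_eq (fun _ => rfl)
  have hw : δ.comp γ = β.comp α := by
    have := hpo.w
    rw [← CommRingCat.ofHom_comp, ← CommRingCat.ofHom_comp] at this
    exact (congrArg CommRingCat.Hom.hom this).symm
  haveI : IsScalarTower R R' A' :=
    IsScalarTower.of_algebraMap_eq (fun a => (DFunLike.congr_fun hw a).symm)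
  haveI : Module.Flat R R' := hγ
  have h1 : Algebra.IsPushout R A R' A' := CommRingCat.isPushout_iff_isPushout.1 hpo
  haveI : Algebra.IsPushout R R' A A' := h1.symm
  haveI h3 : HasLBaseChange (algebraMap A A') := ‹HasLBaseChange β›
  haveI h4 : HasLBaseChange (algebraMap R R') := ‹HasLBaseChange γ›
  exact nonempty_restrict_lBaseChange_iso R A R' A' M

end Ring

variable {X S S' : Scheme.{u}} (f : X ⟶ S) (g : S' ⟶ S)

theorem compat_of_iso {E : DCoh.D X} {E₁ E₂ : DCoh.D (pullback f g)} (hc : Compat f g E E₁)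
    (e : E₁ ≅ E₂) : Compat f g E E₂ := by
  intro U hU V' hUP M hM
  obtain ⟨c⟩ := hc U hU V' hUP M hM
  exact ⟨c ≪≫ (DCoh.restrictD hUP.isoSpec.inv).mapIso ((DCoh.restrictD (UP f g U V').ι).mapIso e)⟩

/-- flat base change of the stalkwise tor amplitude, for objects with quasi-coherent cohomology -/
theorem hasTorAmplitude_bc [Flat g] (a b : ℤ) (F : CochainComplex X.Modules ℤ)
    (F' : CochainComplex (pullback f g).Modules ℤ)
    (hc : Compat f g (DCoh.toD X F) (DCoh.toD (pullback f g) F'))
    (hq : DCoh.IsQCohD (DCoh.toD X F)) (hF : HasTorAmplitude f a b F) :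
    HasTorAmplitude (pullback.snd f g) a b F' := by
  intro x'
  have hw : pullback.fst f g ≫ f = pullback.snd f g ≫ g := pullback.condition
  obtain ⟨V, hV, hyV, -⟩ := Opens.isBasis_iff_nbhd.mp S.isBasis_affineOpens
    (show g.base ((pullback.snd f g).base x') ∈ (⊤ : S.Opens) from trivial)
  obtain ⟨V', hV', hyV', hV'V⟩ := Opens.isBasis_iff_nbhd.mp S'.isBasis_affineOpens
    (show (pullback.snd f g).base x' ∈ g ⁻¹ᵁ V from hyV)
  have h2 : f.base ((pullback.fst f g).base x') = g.base ((pullback.snd f g).base x') := by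
    have := congrArg (fun k => k.base x') hw
    exact this
  have h3 : (pullback.fst f g).base x' ∈ f ⁻¹ᵁ V := by
    show f.base ((pullback.fst f g).base x') ∈ V
    rw [h2]
    exact hyV
  obtain ⟨U, hU, hxU, hUV⟩ := Opens.isBasis_iff_nbhd.mp X.isBasis_affineOpens h3
  have hUP : IsAffineOpen (UP f g U V') := isAffineOpen_UP f g U hU V hV V' hV' hUV hV'V
  have hx' : x' ∈ UP f g U V' := ⟨hxU, hyV'⟩
  obtain ⟨y', rfl⟩ := exists_fromSpec_eq (UP f g U V') hUP x' hx'
  rw [fromSpec_apply]
  refine (torAmpAt_chart_iff (pullback.snd f g) (UP f g U V') hUP V' hV' inf_le_right F' a b y').1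
    ?_
  obtain ⟨M, ⟨eM⟩⟩ := exists_ring_rep' U hU _ hq
  obtain ⟨eM'⟩ := hc U hU V' hUP M ⟨eM⟩
  have key : HasTorAmplitude (gC (pullback.snd f g) (UP f g U V') V' inf_le_right) a b
      (FC (UP f g U V') hUP F') := by
    refine (hasTorAmplitude_tildeD_iff'
      ((pullback.snd f g).appLE V' (UP f g U V') inf_le_right) _ (FC (UP f g U V') hUP F')
      ⟨ecIso (UP f g U V') hUP _ F' (Iso.refl _) ≪≫ eM'.symm⟩ a b).2 ?_
    obtain ⟨i⟩ := nonempty_restrict_lBaseChange_iso_hom (f.appLE V U hUV).hom
      (g.appLE V V' hV'V).hom ((pullback.fst f g).appLE U (UP f g U V') inf_le_left).hom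
      ((pullback.snd f g).appLE V' (UP f g U V') inf_le_right).hom
      (isPushout_UP f g U hU V hV V' hV' hUV hV'V) (g.flat_appLE hV hV' hV'V) M
    refine hasTorAmplitudeIn_of_iso i.symm a b (hasTorAmplitudeIn_lBaseChange _ _ a b ?_)
    exact (hasTorAmplitude_tildeD_iff' (f.appLE V U hUV) M (FC U hU F)
      ⟨ecIso U hU _ F (Iso.refl _) ≪≫ eM.symm⟩ a b).1
      (fun y => (torAmpAt_chart_iff f U hU V hV hUV F a b y).2 (hF _))
  exact key y'

theorem main6230 [LocallyOfFiniteType f] [Flat g] [DCoh.HasLpull (pullback.fst f g)] (a b : ℤ)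
    (F : CochainComplex X.Modules ℤ) (hF : HasPerfAmplitudeRel f a b F)
    (F' : CochainComplex (pullback f g).Modules ℤ)
    (hF' : Nonempty (DCoh.toD (pullback f g) F' ≅
      (DCoh.Lpull (pullback.fst f g)).obj (DCoh.toD X F))) :
    HasPerfAmplitudeRel (pullback.snd f g) a b F' := by
  obtain ⟨e⟩ := hF'
  have hq : DCoh.IsQCohD (DCoh.toD X F) := Groth.Agent.Lib.RelPCQcH3.main6235 f _ hF.1
  have hc : Compat f g (DCoh.toD X F) (DCoh.toD (pullback f g) F') :=
    compat_of_iso f g (compat_Lpull f g _) e.symm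
  exact ⟨fun m => relPC_bc f g _ _ hc (fun U hU => exists_ring_rep' U hU _ hq) m (hF.1 m),
    hasTorAmplitude_bc f g a b F F' hc hq hF.2⟩

end

end Groth.Agent.Lib.RelPCBCH3
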