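import Mathlib
import Groth.Prelude
import Groth.Agent.Lib.FibProdTor1_helper3
import Groth.Agent.Lib.RelPCBC5_helper3

/-!
# Tor dimension of a fibre product of morphisms (helper3; S6242)

* `isAffineOpen_inf`, `isPushout_inf`: product charts of an arbitrary pullback square.
* `torDim_chart`: the tor dimension of a morphism on an affine chart is the tor dimension of
  the ring map.
* `main6242`.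
-/

set_option autoImplicit false
set_option linter.all false
set_option maxHeartbeats 1600000
set_option backward.isDefEq.respectTransparency false
set_option backward.isDefEq.respectTransparency.types false
set_option backward.defeqAttrib.useBackward true

universe u
open CategoryTheory CategoryTheory.Limits AlgebraicGeometry Opposite TopologicalSpace

attribute [local instance] HasDerivedCategory.standard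

namespace Groth.Agent.Lib.FibProdTorH3

open Groth.Agent.Lib.DCohLocLead DerivedCategory Groth.Agent.Lib.DMod_helper6 DRing
  Groth.Agent.Lib.RelPCbH3 Groth.Agent.Lib.RelPerfLocH3 Groth.Agent.Lib.RelPCBCH3 DerSch

noncomputable section

local instance pflInstFPT (R : CommRingCat.{u}) : PreservesFiniteLimits (tilde.functor R) :=
  Groth.Agent.Lib.LpullQCL.preservesFiniteLimits_tilde R

section Charts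

variable {X Y S T : Scheme.{u}} {f : T ⟶ S} {g : Y ⟶ X} {iX : X ⟶ S} {iY : Y ⟶ T}
  (H : IsPullback g iY iX f) {US : S.Opens} {UT : T.Opens} {UX : X.Opens}
  (hUST : UT ≤ f ⁻¹ᵁ US) (hUSX : UX ≤ iX ⁻¹ᵁ US)
  (hUS : IsAffineOpen US) (hUT : IsAffineOpen UT) (hUX : IsAffineOpen UX)

include H hUST hUSX hUS hUT hUX in
lemma isAffineOpen_inf : IsAffineOpen (g ⁻¹ᵁ UX ⊓ iY ⁻¹ᵁ UT) := by
  haveI : IsAffine (US : Scheme.{u}) := hUS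
  haveI : IsAffine (UT : Scheme.{u}) := hUT
  haveI : IsAffine (UX : Scheme.{u}) := hUX
  exact .of_isIso
    (Scheme.Hom.isPullback_resLE H hUST hUSX (UY := g ⁻¹ᵁ UX ⊓ iY ⁻¹ᵁ UT) rfl).isoPullback.hom

include H hUS hUT hUX in
lemma isPushout_inf :
    IsPushout (iX.appLE US UX hUSX) (f.appLE US UT hUST)
      (g.appLE UX (g ⁻¹ᵁ UX ⊓ iY ⁻¹ᵁ UT) inf_le_left)
      (iY.appLE UT (g ⁻¹ᵁ UX ⊓ iY ⁻¹ᵁ UT) inf_le_right) := by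
  haveI := isIso_pushoutSection_of_isAffineOpen H hUST hUSX (UY := g ⁻¹ᵁ UX ⊓ iY ⁻¹ᵁ UT) rfl
    hUS hUT hUX
  exact (isIso_pushoutSection_iff H hUST hUSX (UY := g ⁻¹ᵁ UX ⊓ iY ⁻¹ᵁ UT) rfl).1 inferInstance

end Charts

lemma appLE_congr {X Y : Scheme.{u}} {f g : X ⟶ Y} (h : f = g) (V : Y.Opens) (U : X.Opens)
    (e : U ≤ f ⁻¹ᵁ V) (e' : U ≤ g ⁻¹ᵁ V) : f.appLE V U e = g.appLE V U e' := by
  subst h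
  rfl

section Chart

variable {X S : Scheme.{u}} (f : X ⟶ S) (U : X.Opens) (hU : IsAffineOpen U) (V : S.Opens)
  (hV : IsAffineOpen V) (hUV : U ≤ f ⁻¹ᵁ V)

include hU hV in
/-- the tor dimension of `f` at the points of an affine chart is that of the ring map -/
theorem torDim_chart (n : ℕ) :
    (∀ x : X, x ∈ U → HasTorAmplitudeAt f (-(n : ℤ)) 0 (unitCx X) x) ↔
      TD (f.appLE V U hUV).hom n := by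
  obtain ⟨eM⟩ := nonempty_unit_ring_rep' U hU
  have hiff := hasTorAmplitude_tildeD_iff' (f.appLE V U hUV) (Dual.inD Γ(X, U) Γ(X, U))
    (FC U hU (unitCx X)) ⟨ecIso U hU _ (unitCx X) (Iso.refl _) ≪≫ eM.symm⟩ (-(n : ℤ)) 0
  constructor
  · intro h
    refine hiff.1 (fun y => (torAmpAt_chart_iff f U hU V hV hUV (unitCx X) _ _ y).2 (h _ ?_))
    have := fromSpec_mem U hU y
    rw [fromSpec_apply] at this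
    exact this
  · intro h x hx
    obtain ⟨y, rfl⟩ := exists_fromSpec_eq U hU x hx
    rw [fromSpec_apply]
    exact (torAmpAt_chart_iff f U hU V hV hUV (unitCx X) _ _ y).1 (hiff.2 h y)

end Chart

/-- **S6242** -/
theorem main6242 {S X₁ Y₁ X₂ Y₂ X Y : Scheme.{u}} (f₁ : X₁ ⟶ Y₁) (q₁ : Y₁ ⟶ S)
    (f₂ : X₂ ⟶ Y₂) (q₂ : Y₂ ⟶ S) [Flat q₂] [Flat (f₂ ≫ q₂)]
    (pX₁ : X ⟶ X₁) (pX₂ : X ⟶ X₂) (hX : IsPullback pX₁ pX₂ (f₁ ≫ q₁) (f₂ ≫ q₂))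
    (pY₁ : Y ⟶ Y₁) (pY₂ : Y ⟶ Y₂) (hY : IsPullback pY₁ pY₂ q₁ q₂)
    (f : X ⟶ Y) (hf₁ : f ≫ pY₁ = pX₁ ≫ f₁) (hf₂ : f ≫ pY₂ = pX₂ ≫ f₂)
    (n₁ n₂ : ℕ) (h₁ : DerSch.HasTorDimLE f₁ n₁) (h₂ : DerSch.HasTorDimLE f₂ n₂) :
    DerSch.HasTorDimLE f (n₁ + n₂) := by
  intro x
  obtain ⟨T₀, hT₀, hsT₀, -⟩ := Opens.isBasis_iff_nbhd.mp S.isBasis_affineOpens
    (show q₁.base (f₁.base (pX₁.base x)) ∈ (⊤ : S.Opens) from trivial)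
  obtain ⟨V₁, hV₁, hyV₁, hV₁T⟩ := Opens.isBasis_iff_nbhd.mp Y₁.isBasis_affineOpens
    (show f₁.base (pX₁.base x) ∈ q₁ ⁻¹ᵁ T₀ from hsT₀)
  obtain ⟨U₁, hU₁, hxU₁, hU₁V⟩ := Opens.isBasis_iff_nbhd.mp X₁.isBasis_affineOpens
    (show pX₁.base x ∈ f₁ ⁻¹ᵁ V₁ from hyV₁)
  have hs2 : q₂.base (f₂.base (pX₂.base x)) ∈ T₀ := by
    have hw := congrArg (fun k => k.base x) hX.w
    have hw' : q₁.base (f₁.base (pX₁.base x)) = q₂.base (f₂.base (pX₂.base x)) := hw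
    rw [← hw']
    exact hsT₀
  obtain ⟨V₂, hV₂, hyV₂, hV₂T⟩ := Opens.isBasis_iff_nbhd.mp Y₂.isBasis_affineOpens
    (show f₂.base (pX₂.base x) ∈ q₂ ⁻¹ᵁ T₀ from hs2)
  obtain ⟨U₂, hU₂, hxU₂, hU₂V⟩ := Opens.isBasis_iff_nbhd.mp X₂.isBasis_affineOpens
    (show pX₂.base x ∈ f₂ ⁻¹ᵁ V₂ from hyV₂)
  have hU₁T : U₁ ≤ (f₁ ≫ q₁) ⁻¹ᵁ T₀ := fun z hz => hV₁T (hU₁V hz)
  have hU₂T : U₂ ≤ (f₂ ≫ q₂) ⁻¹ᵁ T₀ := fun z hz => hV₂T (hU₂V hz)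
  have hWX : IsAffineOpen (pX₁ ⁻¹ᵁ U₁ ⊓ pX₂ ⁻¹ᵁ U₂) :=
    isAffineOpen_inf hX hU₂T hU₁T hT₀ hU₂ hU₁
  have hWY : IsAffineOpen (pY₁ ⁻¹ᵁ V₁ ⊓ pY₂ ⁻¹ᵁ V₂) :=
    isAffineOpen_inf hY hV₂T hV₁T hT₀ hV₂ hV₁
  have hWXY : pX₁ ⁻¹ᵁ U₁ ⊓ pX₂ ⁻¹ᵁ U₂ ≤ f ⁻¹ᵁ (pY₁ ⁻¹ᵁ V₁ ⊓ pY₂ ⁻¹ᵁ V₂) := by
    rintro z ⟨hz1, hz2⟩
    refine ⟨?_, ?_⟩
    · show pY₁.base (f.base z) ∈ V₁
      have hw : pY₁.base (f.base z) = f₁.base (pX₁.base z) := congrArg (fun k => k.base z) hf₁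
      rw [hw]
      exact hU₁V hz1
    · show pY₂.base (f.base z) ∈ V₂
      have hw : pY₂.base (f.base z) = f₂.base (pX₂.base z) := congrArg (fun k => k.base z) hf₂
      rw [hw]
      exact hU₂V hz2
  have hxW : x ∈ pX₁ ⁻¹ᵁ U₁ ⊓ pX₂ ⁻¹ᵁ U₂ := ⟨hxU₁, hxU₂⟩
  have poC := isPushout_inf hX hU₂T hU₁T hT₀ hU₂ hU₁
  have poB := isPushout_inf hY hV₂T hV₁T hT₀ hV₂ hV₁
  have e1 : (f₁ ≫ q₁).appLE T₀ U₁ hU₁T = q₁.appLE T₀ V₁ hV₁T ≫ f₁.appLE V₁ U₁ hU₁V :=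
    (Scheme.Hom.appLE_comp_appLE f₁ q₁ T₀ V₁ U₁ hV₁T hU₁V).symm
  have e2 : (f₂ ≫ q₂).appLE T₀ U₂ hU₂T = q₂.appLE T₀ V₂ hV₂T ≫ f₂.appLE V₂ U₂ hU₂V :=
    (Scheme.Hom.appLE_comp_appLE f₂ q₂ T₀ V₂ U₂ hV₂T hU₂V).symm
  have hfl' : ((f₂ ≫ q₂).appLE T₀ U₂ hU₂T).hom.Flat := (f₂ ≫ q₂).flat_appLE hT₀ hU₂ hU₂T
  rw [e1, e2] at poC
  rw [e2] at hfl'
  have t₁ : TD (f₁.appLE V₁ U₁ hU₁V).hom n₁ :=
    (torDim_chart f₁ U₁ hU₁ V₁ hV₁ hU₁V n₁).1 (fun z _ => h₁ z)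
  have t₂ : TD (f₂.appLE V₂ U₂ hU₂V).hom n₂ :=
    (torDim_chart f₂ U₂ hU₂ V₂ hV₂ hU₂V n₂).1 (fun z _ => h₂ z)
  have hφ₁ : pY₁.appLE V₁ (pY₁ ⁻¹ᵁ V₁ ⊓ pY₂ ⁻¹ᵁ V₂) inf_le_left ≫
      f.appLE (pY₁ ⁻¹ᵁ V₁ ⊓ pY₂ ⁻¹ᵁ V₂) (pX₁ ⁻¹ᵁ U₁ ⊓ pX₂ ⁻¹ᵁ U₂) hWXY =
      f₁.appLE V₁ U₁ hU₁V ≫ pX₁.appLE U₁ (pX₁ ⁻¹ᵁ U₁ ⊓ pX₂ ⁻¹ᵁ U₂) inf_le_left := by
    rw [Scheme.Hom.appLE_comp_appLE, Scheme.Hom.appLE_comp_appLE]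
    exact appLE_congr hf₁ _ _ _ _
  have hφ₂ : pY₂.appLE V₂ (pY₁ ⁻¹ᵁ V₁ ⊓ pY₂ ⁻¹ᵁ V₂) inf_le_right ≫
      f.appLE (pY₁ ⁻¹ᵁ V₁ ⊓ pY₂ ⁻¹ᵁ V₂) (pX₁ ⁻¹ᵁ U₁ ⊓ pX₂ ⁻¹ᵁ U₂) hWXY =
      f₂.appLE V₂ U₂ hU₂V ≫ pX₂.appLE U₂ (pX₁ ⁻¹ᵁ U₁ ⊓ pX₂ ⁻¹ᵁ U₂) inf_le_right := by
    rw [Scheme.Hom.appLE_comp_appLE, Scheme.Hom.appLE_comp_appLE]
    exact appLE_congr hf₂ _ _ _ _
  have key := td_fibreProduct (q₁.appLE T₀ V₁ hV₁T) (f₁.appLE V₁ U₁ hU₁V) (q₂.appLE T₀ V₂ hV₂T)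
    (f₂.appLE V₂ U₂ hU₂V) _ _ poB _ _ poC
    (f.appLE (pY₁ ⁻¹ᵁ V₁ ⊓ pY₂ ⁻¹ᵁ V₂) (pX₁ ⁻¹ᵁ U₁ ⊓ pX₂ ⁻¹ᵁ U₂) hWXY) hφ₁ hφ₂
    (q₂.flat_appLE hT₀ hV₂ hV₂T) hfl' n₁ n₂ t₁ t₂
  exact (torDim_chart f _ hWX _ hWY hWXY (n₁ + n₂)).2 key x hxW

end

end Groth.Agent.Lib.FibProdTorH3
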