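import Mathlib
import Groth.Prelude.Def_DRing2
import Groth.Prelude.Def_DDual2
import Groth.Agent.Lib.DMod63_helper6

/-!
# Fibre criterion for tor amplitude, chain level, local form (helper3)

`perfect_of_fibre_globalDim_local`: let `A → B` be flat with `B` local, `κ` an `A`-algebra through
which `A → B ⧸ 𝔪_B` factors, such that all modules over `κ ⊗_A B` have projective dimension `≤ d`.
If `E` is a bounded above complex of finite free `B`-modules and `E ⊗_A κ` is exact outside `[a, b]`,
then `E` is perfect of tor amplitude in `[a - d, b]`.  (Adapted from helper6's proof of S7035, where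
the hypothesis is tor amplitude over `A`.)
-/

set_option autoImplicit false
set_option linter.all false
universe u
open CategoryTheory CategoryTheory.Limits Pretriangulated DerivedCategory ZeroObject
open scoped TensorProduct
attribute [local instance] HasDerivedCategory.standard

namespace Groth.Agent.Lib.FibCritH3

open DRing CochainComplex Groth.Agent.ExtendScalarsLib Groth.Agent.Lib.DMod_helper6

section Local

variable {A B κ : Type u} [CommRing A] [CommRing B] [CommRing κ] [Algebra A B] [Algebra A κ]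

attribute [local instance] Algebra.TensorProduct.rightAlgebra

/-- variant with the exactness hypothesis stated over `κ ⊗_A B` -/
theorem perfect_of_fibre_globalDim_local' [Module.Flat A B] [IsLocalRing B]
    [Algebra κ (B ⧸ IsLocalRing.maximalIdeal B)]
    [IsScalarTower A κ (B ⧸ IsLocalRing.maximalIdeal B)]
    (d : ℕ) (hgl : ∀ M : ModuleCat.{u} (κ ⊗[A] B), HasProjectiveDimensionLT M (d + 1))
    (a b : ℤ) (E : Cx B) (b₁ : ℤ) (hEb : VanishesAbove E b₁) (hEff : TermwiseFiniteFree E)
    (h4 : ∀ j : ℤ, (j < a ∨ b < j) →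
      ((ESc (algebraMap B (κ ⊗[A] B))).obj E).ExactAt j) :
    IsPerfect B (toD E) ∧ HasTorAmplitudeIn B (a - d) b (toD E) := by
  have h5 : HasTorAmplitudeIn (κ ⊗[A] B) (a - d) b
      (toD ((ESc (algebraMap B (κ ⊗[A] B))).obj E)) :=
    hasTorAmplitudeIn_of_globalDim d hgl _ a b
      (fun j hj => (exactAt_iff_subsingleton_HD (Iso.refl _) j).1 (h4 j hj))
  have hFb : VanishesAbove ((ESc (algebraMap B (κ ⊗[A] B))).obj E) b₁ :=
    fun j hj => (ModuleCat.extendScalars.{u, u, u}
      (algebraMap B (κ ⊗[A] B))).map_isZero (hEb j hj)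
  have hFf : TermwiseFlat ((ESc (algebraMap B (κ ⊗[A] B))).obj E) := fun j =>
    flat_ES (A := B) (B := κ ⊗[A] B) (E.X j)
      (by haveI := (hEff j).2; infer_instance)
  have hq : ∀ (m : Ideal B), m.IsMaximal → ∀ i : ℤ, (i < a - d ∨ b < i) →
      Function.Exact ((E.d (i - 1) i).hom.lTensor (B ⧸ m))
        ((E.d i (i + 1)).hom.lTensor (B ⧸ m)) := by
    intro m hm i hi
    obtain rfl := IsLocalRing.eq_maximalIdeal hm
    let ψ : (κ ⊗[A] B) →ₐ[A] B ⧸ IsLocalRing.maximalIdeal B :=
      Algebra.TensorProduct.lift (IsScalarTower.toAlgHom A κ (B ⧸ IsLocalRing.maximalIdeal B))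
        (IsScalarTower.toAlgHom A B (B ⧸ IsLocalRing.maximalIdeal B))
        (fun _ _ => Commute.all _ _)
    letI : Module (κ ⊗[A] B) (B ⧸ IsLocalRing.maximalIdeal B) :=
      Module.compHom (B ⧸ IsLocalRing.maximalIdeal B) ψ.toRingHom
    haveI : IsScalarTower B (κ ⊗[A] B) (B ⧸ IsLocalRing.maximalIdeal B) := ⟨fun y x n => by
      show ψ (y • x) * n = y • (ψ x * n)
      have hy : ψ (algebraMap B (κ ⊗[A] B) y) =
          algebraMap B (B ⧸ IsLocalRing.maximalIdeal B) y := by
        show ψ ((1 : κ) ⊗ₜ[A] y) = _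
        rw [Algebra.TensorProduct.lift_tmul, map_one, one_mul]
        rfl
      rw [Algebra.smul_def y x, map_mul, hy, Algebra.smul_def y (ψ x * n), mul_assoc]⟩
    have h6 := exactAt_TN_of_hasTorAmplitudeIn' _ b₁ hFb hFf (a - d) b h5
      (ModuleCat.of (κ ⊗[A] B) (B ⧸ IsLocalRing.maximalIdeal B)) i hi
    have h7 := function_exact_of_exactAt _ (i - 1) i (i + 1) (by omega) rfl h6
    exact exact_lTensor_of_exact_rTensor_ES (A := B) (B := κ ⊗[A] B)
      (B ⧸ IsLocalRing.maximalIdeal B) (E.d (i - 1) i) (E.d i (i + 1)) h7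
  exact perfect_of_exact_mod_maximal E b₁ hEb hEff (a - d) b hq

theorem perfect_of_fibre_globalDim_local [Module.Flat A B] [IsLocalRing B]
    [Algebra κ (B ⧸ IsLocalRing.maximalIdeal B)]
    [IsScalarTower A κ (B ⧸ IsLocalRing.maximalIdeal B)]
    (d : ℕ) (hgl : ∀ M : ModuleCat.{u} (κ ⊗[A] B), HasProjectiveDimensionLT M (d + 1))
    (a b : ℤ) (E : Cx B) (b₁ : ℤ) (hEb : VanishesAbove E b₁) (hEff : TermwiseFiniteFree E)
    (h2 : ∀ j : ℤ, (j < a ∨ b < j) →
      ((ESc (algebraMap A κ)).obj ((restrictCx (algebraMap A B)).obj E)).ExactAt j) :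
    IsPerfect B (toD E) ∧ HasTorAmplitudeIn B (a - d) b (toD E) := by
  refine perfect_of_fibre_globalDim_local' d hgl a b E b₁ hEb hEff (fun j hj => ?_)
  apply exactAt_of_exactAt_restrictCx (algebraMap κ (κ ⊗[A] B))
  exact exactAt_of_iso_toD _ _ (Q.mapIso (pushoutCxIso A B κ E).symm) j (h2 j hj)

end Local

end Groth.Agent.Lib.FibCritH3
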