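import Mathlib
import Groth.Prelude.Def_DRing2
import Groth.Prelude.Def_DDual2
import Groth.Agent.Lib.RelFib1_helper3
import Groth.Agent.Lib.DMod67_helper6
import Groth.Agent.Lib.SmoothRegField_helper3
import Groth.Agent.Lib.PDTransport_helper8
import Groth.Agent.Lib.ProjResBC_helper7

/-!
# Global dimension of the fibres of a localized polynomial ring (helper3)

* `hasPDLT_of_isLocalization`: a bound on the projective dimension of all modules passes to
  localizations.
* `hasPDLT_fibre_localization`: all modules over `κ ⊗_R (R[x_1..x_d])_{q'}` (`κ` a field) have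
  projective dimension at most `d`.
-/

set_option autoImplicit false
set_option linter.all false
universe u
open CategoryTheory CategoryTheory.Limits
open scoped TensorProduct

namespace Groth.Agent.Lib.FibCritH3


section GlDim

open Groth.Agent.Lib.DMod_helper6

/-- global dimension of `k[x_1..x_n]` is at most `n` (copy of helper6's
`ShriekRangeH6.hasPDLT_mvPolynomial_field`, with lighter imports) -/
theorem hasPDLT_mvPolynomial_field (k : Type u) [Field k] (n : ℕ)
    (M : ModuleCat.{u} (MvPolynomial (Fin n) k)) : HasProjectiveDimensionLT M (n + 1) := by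
  let S := MvPolynomial (Fin n) k
  have hreg : ∀ p : PrimeSpectrum S, IsRegularLocalRing (Localization.AtPrime p.asIdeal) := by
    intro p
    haveI : Algebra.FormallySmooth S (Localization.AtPrime p.asIdeal) :=
      Algebra.FormallySmooth.of_isLocalization p.asIdeal.primeCompl
    haveI : Algebra.FormallySmooth k (Localization.AtPrime p.asIdeal) :=
      Algebra.FormallySmooth.comp k S _
    exact Groth.Agent.Lib.SmoothRegFieldH3.regular_of_formallySmooth_field (k := k)
  have hd : ringKrullDim S = n := by
    have h := MvPolynomial.ringKrullDim_of_isNoetherianRing (R := k) (ι := Fin n)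
    rw [h, ringKrullDim_eq_zero_of_field, zero_add]
    simp
  exact hasProjectiveDimensionLT_of_regular_of_krullDim hreg n hd M

/-- transport of a global dimension bound along a ring isomorphism (copy of helper6's) -/
theorem hasPDLT_of_ringEquiv {S S' : Type u} [CommRing S] [CommRing S'] (e : S ≃+* S') (d : ℕ)
    (h : ∀ M' : ModuleCat.{u} S', HasProjectiveDimensionLT M' d)
    (M : Type u) [AddCommGroup M] [Module S M] :
    HasProjectiveDimensionLT (ModuleCat.of S M) d := by
  letI : Module S' M := Module.compHom M e.symm.toRingHom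
  have h1 := PDTransportH8.pd_eq_of_semilinear e M M (AddEquiv.refl M) (fun r m => by
    show r • m = e.symm (e r) • m
    rw [RingEquiv.symm_apply_apply])
  rw [← projectiveDimension_lt_iff, h1, projectiveDimension_lt_iff]
  exact h (ModuleCat.of S' M)

end GlDim

section GlDimLoc

variable {C C' : Type u} [CommRing C] [CommRing C'] [Algebra C C']

/-- a global dimension bound passes to localizations -/
theorem hasPDLT_of_isLocalization (S : Submonoid C) [IsLocalization S C'] (n : ℕ)
    (h : ∀ M : ModuleCat.{u} C, HasProjectiveDimensionLT M n) (M' : ModuleCat.{u} C') :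
    HasProjectiveDimensionLT M' n := by
  let M : ModuleCat.{u} C := (ModuleCat.restrictScalars (algebraMap C C')).obj M'
  rcases n with _ | k
  · have h0 := h M
    rw [hasProjectiveDimensionLT_zero_iff_isZero] at h0 ⊢
    haveI : Subsingleton M := ModuleCat.subsingleton_of_isZero h0
    haveI : Subsingleton M' := (inferInstance : Subsingleton M)
    exact ModuleCat.isZero_of_subsingleton _
  · haveI : Module.Flat C C' := IsLocalization.flat C' S
    have h1 : HasProjectiveDimensionLE M k := h M
    have h2 := Groth.Agent.Lib.ProjResBCH7.hasProjectiveDimensionLE_baseChange C' M k h1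
    letI : Module C M' := Module.compHom M' (algebraMap C C')
    haveI : IsScalarTower C C' M' := IsScalarTower.of_algebraMap_smul (fun _ _ => rfl)
    haveI : IsLocalizedModule S (LinearMap.id : M' →ₗ[C] M') := isLocalizedModule_id S M' C'
    let e : C' ⊗[C] M' ≃ₗ[C'] M' :=
      (IsLocalizedModule.isBaseChange S C' (LinearMap.id : M' →ₗ[C] M')).equiv
    have h3 : HasProjectiveDimensionLT (ModuleCat.of C' (C' ⊗[C] M')) (k + 1) := h2
    exact hasProjectiveDimensionLT_of_iso e.toModuleIso (k + 1)

end GlDimLoc

section Fibre

variable (R : Type u) [CommRing R] (d : ℕ) (κ : Type u) [Field κ] [Algebra R κ]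
  (q' : Ideal (MvPolynomial (Fin d) R)) [q'.IsPrime]

attribute [local instance] Algebra.TensorProduct.rightAlgebra

/-- all modules over `κ ⊗_R (R[x_1..x_d])_{q'}` have projective dimension at most `d` -/
theorem hasPDLT_fibre_localization (M : ModuleCat.{u} (κ ⊗[R] Localization.AtPrime q')) :
    HasProjectiveDimensionLT M (d + 1) := by
  let P := MvPolynomial (Fin d) R
  let B := Localization.AtPrime q'
  let φ : (κ ⊗[R] P) →ₐ[κ] (κ ⊗[R] B) :=
    Algebra.TensorProduct.map (AlgHom.id κ κ) (IsScalarTower.toAlgHom R P B)
  letI algCC' : Algebra (κ ⊗[R] P) (κ ⊗[R] B) := φ.toRingHom.toAlgebra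
  haveI : IsScalarTower κ (κ ⊗[R] P) (κ ⊗[R] B) :=
    IsScalarTower.of_algebraMap_eq (fun x => (φ.commutes x).symm)
  have H : (algebraMap (κ ⊗[R] P) (κ ⊗[R] B)).comp
      (Algebra.TensorProduct.includeRight (R := R) (A := κ) (B := P)).toRingHom =
      (Algebra.TensorProduct.includeRight (R := R) (A := κ) (B := B)).toRingHom.comp
        (algebraMap P B) := by
    ext y
    · show φ ((1 : κ) ⊗ₜ[R] (MvPolynomial.C y)) = (1 : κ) ⊗ₜ[R] (algebraMap P B (MvPolynomial.C y))
      simp [φ]
    · show φ ((1 : κ) ⊗ₜ[R] (MvPolynomial.X y)) = (1 : κ) ⊗ₜ[R] (algebraMap P B (MvPolynomial.X y))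
      simp [φ]
  haveI hloc := IsLocalization.tensorProduct_tensorProduct_right R κ q'.primeCompl B H
  have hC : ∀ N : ModuleCat.{u} (κ ⊗[R] P), HasProjectiveDimensionLT N (d + 1) := fun N =>
    hasPDLT_of_ringEquiv
      (MvPolynomial.algebraTensorAlgEquiv R κ).toRingEquiv (d + 1)
      (fun M' => hasPDLT_mvPolynomial_field κ d M') N
  exact hasPDLT_of_isLocalization
    (q'.primeCompl.map (Algebra.TensorProduct.includeRight (R := R) (A := κ) (B := P)))
    (d + 1) hC M

end Fibre

end Groth.Agent.Lib.FibCritH3
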