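import Mathlib
import Groth.Prelude
import Groth.Agent.Lib.RelFib2_helper3
import Groth.Agent.Lib.RelPCBC1_helper3
import Groth.Agent.Lib.FlatFP_helper2
import Groth.Agent.Lib.LpullQC_lead

/-!
# Tor amplitude of a localization from the fibre (S7104) (helper3)

* `torAmp_of_fibre_core`: abstract form: `P → A` with `K ∈ D(A)` pseudo-coherent over `P`,
  `P → B` flat with `B` local, `Aq = A ⊗_P B`, `Rp → B` flat, `κ` an `Rp`-algebra through which
  `Rp → B/𝔪_B` factors, global dimension of `κ ⊗_{Rp} B` at most `d`: if `K_q ⊗^L_{Rp} κ` is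
  acyclic outside `[a, b]` then `K_q` is perfect over `B` of tor amplitude in `[a - d, b]`.
* `main7104`.
-/

set_option autoImplicit false
set_option linter.all false
set_option maxHeartbeats 1600000
universe u
open CategoryTheory CategoryTheory.Limits Pretriangulated DerivedCategory ZeroObject
open scoped TensorProduct
attribute [local instance] HasDerivedCategory.standard

namespace Groth.Agent.Lib.FibCritH3

open DRing CochainComplex Groth.Agent.ExtendScalarsLib Groth.Agent.Lib.DMod_helper6

local instance hasLBCInstFib {A B : Type u} [CommRing A] [CommRing B] (φ : A →+* B) :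
    HasLBaseChange φ := Groth.Agent.Lib.LpullQCL.hasLBaseChange φ

section Core

variable {P A B Aq Rp κ : Type u} [CommRing P] [CommRing A] [CommRing B] [CommRing Aq]
  [CommRing Rp] [CommRing κ]
  [Algebra P A] [Algebra P B] [Algebra A Aq] [Algebra B Aq] [Algebra P Aq]
  [IsScalarTower P B Aq] [IsScalarTower P A Aq] [Algebra.IsPushout P B A Aq] [Module.Flat P B]
  [Algebra Rp B] [Algebra Rp Aq] [IsScalarTower Rp B Aq] [Module.Flat Rp B] [IsLocalRing B]
  [Algebra Rp κ] [Algebra κ (B ⧸ IsLocalRing.maximalIdeal B)]
  [IsScalarTower Rp κ (B ⧸ IsLocalRing.maximalIdeal B)]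

attribute [local instance] Algebra.TensorProduct.rightAlgebra

theorem torAmp_of_fibre_core (d : ℕ)
    (hgl : ∀ M : ModuleCat.{u} (κ ⊗[Rp] B), HasProjectiveDimensionLT M (d + 1))
    [HasLBaseChange (algebraMap A Aq)] [HasLTensor Rp (ModuleCat.of Rp κ)]
    (K : Dual.D A) (hKP : IsPseudoCoherent' P ((restrictD (algebraMap P A)).obj K)) (a b : ℤ)
    (hfib : ∀ i : ℤ, i < a ∨ b < i → Subsingleton (Dual.HD Rp
      ((LTensor Rp (ModuleCat.of Rp κ)).obj
        ((restrictD (algebraMap Rp Aq)).obj ((LBaseChange (algebraMap A Aq)).obj K))) i)) :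
    IsPerfect B ((restrictD (algebraMap B Aq)).obj ((LBaseChange (algebraMap A Aq)).obj K)) ∧
    HasTorAmplitudeIn B (a - d) b
      ((restrictD (algebraMap B Aq)).obj ((LBaseChange (algebraMap A Aq)).obj K)) := by
  obtain ⟨E, b₁, hEb, hEff, ⟨e⟩⟩ := hKP
  let X : Dual.D Aq := (LBaseChange (algebraMap A Aq)).obj K
  let EB : Cx B := (ESc (algebraMap P B)).obj E
  have hEBb : VanishesAbove EB b₁ := fun j hj =>
    (ModuleCat.extendScalars.{u, u, u} (algebraMap P B)).map_isZero (hEb j hj)
  have hEBff : TermwiseFiniteFree EB := fun j =>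
    ⟨finite_ES (A := P) (B := B) (E.X j) (hEff j).1,
      free_ES (A := P) (B := B) (E.X j) (hEff j).2⟩
  have hEf : TermwiseFlat E := fun j => by haveI := (hEff j).2; infer_instance
  obtain ⟨i0⟩ := Groth.Agent.Lib.RelPCBCH3.nonempty_restrict_lBaseChange_iso P A B Aq K
  obtain ⟨i2⟩ := nonempty_lBaseChange_iso_of_flat (algebraMap P B) E b₁ hEb hEf
  let i1 : (restrictD (algebraMap B Aq)).obj X ≅ toD EB :=
    i0 ≪≫ (LBaseChange (algebraMap P B)).mapIso e.symm ≪≫ i2
  let F : Cx Rp := (restrictCx (algebraMap Rp B)).obj EB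
  have hFb : VanishesAbove F b₁ := fun i hi =>
    (ModuleCat.restrictScalars.{u} (algebraMap Rp B)).map_isZero (hEBb i hi)
  have hFf : TermwiseFlat F := fun i =>
    flat_restrictScalars (EB.X i) (by haveI := (hEBff i).2; infer_instance)
  let i3 : (restrictD (algebraMap Rp Aq)).obj X ≅ toD F :=
    restrictDCompIso (algebraMap Rp B) (algebraMap B Aq) (algebraMap Rp Aq)
      (IsScalarTower.algebraMap_eq Rp B Aq) X ≪≫
    (restrictD (algebraMap Rp B)).mapIso i1 ≪≫ restrictDIso EB
  obtain ⟨i4⟩ := nonempty_lTensor_iso_of_flat (ModuleCat.of Rp κ) F b₁ hFb hFf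
  have h2 : ∀ j : ℤ, (j < a ∨ b < j) →
      ((ESc (algebraMap Rp κ)).obj ((restrictCx (algebraMap Rp B)).obj EB)).ExactAt j := by
    intro j hj
    have h0 : ((TN (ModuleCat.of Rp κ)).obj F).ExactAt j :=
      (exactAt_iff_subsingleton_HD
        (i4.symm ≪≫ (LTensor Rp (ModuleCat.of Rp κ)).mapIso i3.symm) j).2 (hfib j hj)
    have h1 := function_exact_of_exactAt _ (j - 1) j (j + 1) (by omega) rfl h0
    have h1' := exact_lTensor_of_exact_rTensor _ _ κ h1
    exact exactAt_of_function_exact _ (j - 1) j (j + 1) (by omega) rfl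
      ((exact_ES_map_iff (A := Rp) (B := κ) _ _).2 h1')
  obtain ⟨hp, ht⟩ := perfect_of_fibre_globalDim_local (A := Rp) (B := B) (κ := κ) d hgl a b EB b₁
    hEBb hEBff h2
  exact ⟨isPerfect_of_iso i1.symm hp, hasTorAmplitudeIn_of_iso i1.symm _ _ ht⟩

end Core

section Concrete

variable (R A : Type u) [CommRing R] [CommRing A] [Algebra R A]
    [Module.Flat R A] [Algebra.FinitePresentation R A] (d : ℕ)
    (ψ : MvPolynomial (Fin d) R →ₐ[R] A) (hψ : Function.Surjective ψ)
    (q : Ideal A) [q.IsPrime] (p : Ideal R) [p.IsPrime]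
    (hpq : p = Ideal.comap (algebraMap R A) q)

attribute [local instance] Algebra.TensorProduct.rightAlgebra

include hψ in
theorem main7104
    [DRing.HasLBaseChange (algebraMap A (Localization.AtPrime q))]
    [DRing.HasLTensor (Localization.AtPrime p)
      (ModuleCat.of (Localization.AtPrime p) p.ResidueField)]
    (K : Dual.D A) (hK : DRing.IsPseudoCoherent' A K) (a b : ℤ)
    (hfib : ∀ i : ℤ, i < a ∨ b < i → Subsingleton (Dual.HD (Localization.AtPrime p)
      ((DRing.LTensor (Localization.AtPrime p)
        (ModuleCat.of (Localization.AtPrime p) p.ResidueField)).obj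
        ((DRing.restrictD (Localization.localRingHom p q (algebraMap R A) hpq)).obj
          ((DRing.LBaseChange (algebraMap A (Localization.AtPrime q))).obj K))) i)) :
    DRing.HasTorAmplitudeIn R (a - d) b
      ((DRing.restrictD (algebraMap R (Localization.AtPrime q))).obj
        ((DRing.LBaseChange (algebraMap A (Localization.AtPrime q))).obj K)) := by
  let P := MvPolynomial (Fin d) R
  letI algPA : Algebra P A := ψ.toRingHom.toAlgebra
  haveI : IsScalarTower R P A := IsScalarTower.of_algebraMap_eq (fun x => (ψ.commutes x).symm)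
  have hsurj : Function.Surjective (algebraMap P A) := hψ
  let q' : Ideal P := q.comap (algebraMap P A)
  haveI : q'.IsPrime := Ideal.comap_isPrime _ _
  have hpq' : p = q'.comap (algebraMap R P) := by
    rw [hpq, Ideal.comap_comap, ← IsScalarTower.algebraMap_eq]
  let B := Localization.AtPrime q'
  let Aq := Localization.AtPrime q
  let Rp := Localization.AtPrime p
  let κ := p.ResidueField
  letI algBAq : Algebra B Aq := (Localization.localRingHom q' q (algebraMap P A) rfl).toAlgebra
  letI algRpB : Algebra Rp B := (Localization.localRingHom p q' (algebraMap R P) hpq').toAlgebra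
  letI algRpAq : Algebra Rp Aq := (Localization.localRingHom p q (algebraMap R A) hpq).toAlgebra
  haveI : IsScalarTower P B Aq := IsScalarTower.of_algebraMap_eq (fun x => by
    show algebraMap P Aq x = Localization.localRingHom q' q (algebraMap P A) rfl (algebraMap P B x)
    rw [Localization.localRingHom_to_map]
    exact IsScalarTower.algebraMap_apply P A Aq x)
  haveI : IsScalarTower Rp B Aq := IsScalarTower.of_algebraMap_eq' (by
    show Localization.localRingHom p q (algebraMap R A) hpq =
      (Localization.localRingHom q' q (algebraMap P A) rfl).comp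
        (Localization.localRingHom p q' (algebraMap R P) hpq')
    apply Localization.localRingHom_unique
    intro x
    simp only [RingHom.comp_apply, Localization.localRingHom_to_map]
    rw [← IsScalarTower.algebraMap_apply R P A])
  haveI : IsScalarTower R Rp B := IsScalarTower.of_algebraMap_eq (fun x => by
    show algebraMap R B x =
      Localization.localRingHom p q' (algebraMap R P) hpq' (algebraMap R Rp x)
    rw [Localization.localRingHom_to_map]
    exact IsScalarTower.algebraMap_apply R P B x)
  have hS : Algebra.algebraMapSubmonoid A q'.primeCompl = q.primeCompl := by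
    ext x
    constructor
    · rintro ⟨y, hy, rfl⟩
      exact hy
    · intro hx
      obtain ⟨y, rfl⟩ := hsurj x
      exact ⟨y, hx, rfl⟩
  haveI : IsLocalization (Algebra.algebraMapSubmonoid A q'.primeCompl) Aq := by
    rw [hS]; infer_instance
  haveI hpo : Algebra.IsPushout P B A Aq :=
    (Algebra.isPushout_of_isLocalization q'.primeCompl B A Aq).symm
  haveI : Module.Flat R B := inferInstance
  haveI : Module.Flat Rp B := (Module.flat_iff_of_isLocalization Rp p.primeCompl B).2 inferInstance
  haveI : IsLocalHom (algebraMap Rp B) :=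
    Localization.isLocalHom_localRingHom p q' (algebraMap R P) hpq'
  let ρ : κ →+* (B ⧸ IsLocalRing.maximalIdeal B) :=
    IsLocalRing.ResidueField.map (algebraMap Rp B)
  letI algκ : Algebra κ (B ⧸ IsLocalRing.maximalIdeal B) :=
    ρ.toAlgebra' (fun c x => by
      have := mul_comm (ρ c) x
      exact this)
  haveI : IsScalarTower Rp κ (B ⧸ IsLocalRing.maximalIdeal B) :=
    IsScalarTower.of_algebraMap_eq (fun x => by
      have h1 : ρ (IsLocalRing.residue Rp x) = IsLocalRing.residue B (algebraMap Rp B x) :=
        IsLocalRing.ResidueField.map_residue (algebraMap Rp B) x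
      show _ = ρ (IsLocalRing.residue Rp x)
      rw [h1]
      rfl)
  have hgl : ∀ M : ModuleCat.{u} (κ ⊗[Rp] B), HasProjectiveDimensionLT M (d + 1) := by
    intro M
    let e : (κ ⊗[Rp] B) ≃ₐ[Rp] (κ ⊗[R] B) := IsLocalization.algebraTensorEquiv p.primeCompl Rp κ B
    exact hasPDLT_of_ringEquiv e.toRingEquiv (d + 1)
      (fun M' => hasPDLT_fibre_localization R d κ q' M') M
  have hKP : IsPseudoCoherent' P ((restrictD (algebraMap P A)).obj K) :=
    ((Groth.Agent.Lib.PCHom.main7100 R P A hsurj K).1).1 hK
  obtain ⟨_, ht⟩ := torAmp_of_fibre_core (P := P) (A := A) (B := B) (Aq := Aq) (Rp := Rp)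
    (κ := κ) d hgl K hKP a b hfib
  have hcomp : algebraMap R Aq = (algebraMap B Aq).comp (algebraMap R B) := by
    ext x
    show algebraMap R Aq x =
      Localization.localRingHom q' q (algebraMap P A) rfl (algebraMap R B x)
    rw [IsScalarTower.algebraMap_apply R P B, Localization.localRingHom_to_map,
      ← IsScalarTower.algebraMap_apply R P A]
    exact IsScalarTower.algebraMap_apply R A Aq x
  have h3 := hasTorAmplitudeIn_restrictD (R := R) (A := B) _ (a - d) b ht
  exact hasTorAmplitudeIn_of_iso
    (restrictDCompIso (algebraMap R B) (algebraMap B Aq) (algebraMap R Aq) hcomp _).symm _ _ h3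

end Concrete

end Groth.Agent.Lib.FibCritH3
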