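import Mathlib
import Groth.Prelude
import Groth.Agent.Lib.RelFib3_helper3
import Groth.Agent.Lib.DMod64_helper6
import Groth.Agent.Lib.DMod13_helper6
import Groth.Agent.Lib.DMod43_helper6

/-!
# The fibre criterion for relative perfection, ring level (S7094) (helper3)

* `EScCompIso`: termwise extension of scalars along a composite.
* `exactAt_fibre_localization`: exactness of `κ ⊗_R E` passes to `(κ ⊗_R B) ⊗_B (B ⊗_P E)` for a
  localization `B` of `P`.
* `torAmp_localization_of_fibre_exact`: local form of the criterion at a prime of `R[x_1..x_d]`.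
* `main7094`.
-/

set_option autoImplicit false
set_option linter.all false
set_option maxHeartbeats 1600000
universe u
open CategoryTheory CategoryTheory.Limits Pretriangulated DerivedCategory ZeroObject
open scoped TensorProduct
attribute [local instance] HasDerivedCategory.standard

namespace Groth.Agent.Lib.FibCritH3

open DRing CochainComplex Groth.Agent.ExtendScalarsLib Groth.Agent.Lib.DMod_helper6

section EScComp

variable {R₁ R₂ R₃ : Type u} [CommRing R₁] [CommRing R₂] [CommRing R₃]

/-- termwise extension of scalars along a composite -/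
noncomputable def EScCompIso (f : R₁ →+* R₂) (g : R₂ →+* R₃) (h : R₁ →+* R₃)
    (hh : h = g.comp f) (E : Cx R₁) :
    (ESc h).obj E ≅ (ESc g).obj ((ESc f).obj E) := by
  subst hh
  exact HomologicalComplex.Hom.isoOfComponents
    (fun i => (ModuleCat.extendScalarsComp f g).app (E.X i))
    (fun i j _ => ((ModuleCat.extendScalarsComp f g).hom.naturality (E.d i j)).symm)

lemma exactAt_of_isZero_X {A : Type u} [CommRing A] (C : Cx A) (i : ℤ) (h : IsZero (C.X i)) :
    C.ExactAt i :=
  ShortComplex.exact_of_isZero_X₂ _ h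

end EScComp

section Transfer

variable (R : Type u) [CommRing R] (κ : Type u) [CommRing κ] [Algebra R κ]
  (P : Type u) [CommRing P] [Algebra R P] (S : Submonoid P) (B : Type u) [CommRing B]
  [Algebra P B] [Algebra R B] [IsScalarTower R P B] [IsLocalization S B]

attribute [local instance] Algebra.TensorProduct.rightAlgebra

include S in
theorem exactAt_fibre_localization (E : Cx P) (j : ℤ)
    (h : ((ESc (algebraMap R κ)).obj ((restrictCx (algebraMap R P)).obj E)).ExactAt j) :
    ((ESc (algebraMap B (κ ⊗[R] B))).obj ((ESc (algebraMap P B)).obj E)).ExactAt j := by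
  let T := κ ⊗[R] P
  let TB := κ ⊗[R] B
  let φ : T →ₐ[κ] TB :=
    Algebra.TensorProduct.map (AlgHom.id κ κ) (IsScalarTower.toAlgHom R P B)
  letI algTTB : Algebra T TB := φ.toRingHom.toAlgebra
  haveI : IsScalarTower κ T TB := IsScalarTower.of_algebraMap_eq (fun x => (φ.commutes x).symm)
  have H : (algebraMap T TB).comp
      (Algebra.TensorProduct.includeRight (R := R) (A := κ) (B := P)).toRingHom =
      (Algebra.TensorProduct.includeRight (R := R) (A := κ) (B := B)).toRingHom.comp
        (algebraMap P B) := by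
    refine RingHom.ext (fun y => ?_)
    show φ ((1 : κ) ⊗ₜ[R] y) = (1 : κ) ⊗ₜ[R] (algebraMap P B y)
    show Algebra.TensorProduct.map (AlgHom.id κ κ) (IsScalarTower.toAlgHom R P B)
      ((1 : κ) ⊗ₜ[R] y) = _
    rw [Algebra.TensorProduct.map_tmul]
    rfl
  haveI hloc := IsLocalization.tensorProduct_tensorProduct_right R κ S B H
  haveI : Module.Flat T TB := IsLocalization.flat TB
    (S.map (Algebra.TensorProduct.includeRight (R := R) (A := κ) (B := P)))
  have h1 : ((ESc (algebraMap P T)).obj E).ExactAt j := by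
    apply exactAt_of_exactAt_restrictCx (algebraMap κ T)
    exact exactAt_of_iso_toD _ _ (Q.mapIso (pushoutCxIso R P κ E).symm) j h
  have h2 : ((ESc (algebraMap T TB)).obj ((ESc (algebraMap P T)).obj E)).ExactAt j :=
    exactAt_ESc_of_exactAt (R := T) (B := TB) _ j h1
  have hcomp : (algebraMap T TB).comp (algebraMap P T) =
      (algebraMap B TB).comp (algebraMap P B) := H
  let i : (ESc (algebraMap B TB)).obj ((ESc (algebraMap P B)).obj E) ≅
      (ESc (algebraMap T TB)).obj ((ESc (algebraMap P T)).obj E) :=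
    (EScCompIso (algebraMap P B) (algebraMap B TB) _ rfl E).symm ≪≫
      EScCompIso (algebraMap P T) (algebraMap T TB) _ hcomp.symm E
  exact exactAt_of_iso_toD _ _ (Q.mapIso i) j h2

end Transfer

section LocalGeneric

variable {A B : Type u} [CommRing A] [CommRing B] [Algebra A B]

attribute [local instance] Algebra.TensorProduct.rightAlgebra

/-- `perfect_of_fibre_globalDim_local'` for the residue field of the prime of `A` below the
maximal ideal of the local ring `B` -/
theorem perfect_of_fibre_residueField [Module.Flat A B] [IsLocalRing B] (d : ℕ)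
    (hgl : ∀ M : ModuleCat.{u}
      (((IsLocalRing.maximalIdeal B).comap (algebraMap A B)).ResidueField ⊗[A] B),
      HasProjectiveDimensionLT M (d + 1))
    (a b : ℤ) (E : Cx B) (b₁ : ℤ) (hEb : VanishesAbove E b₁) (hEff : TermwiseFiniteFree E)
    (h4 : ∀ j : ℤ, (j < a ∨ b < j) →
      ((ESc (algebraMap B
        (((IsLocalRing.maximalIdeal B).comap (algebraMap A B)).ResidueField ⊗[A] B))).obj
          E).ExactAt j) :
    IsPerfect B (toD E) ∧ HasTorAmplitudeIn B (a - d) b (toD E) := by
  let m := IsLocalRing.maximalIdeal B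
  let p : Ideal A := m.comap (algebraMap A B)
  haveI hp : p.IsPrime := Ideal.comap_isPrime _ _
  let f₀ : A →ₐ[A] B ⧸ m := Algebra.ofId A (B ⧸ m)
  have hf₀ : ∀ x : A, f₀ x = Ideal.Quotient.mk m (algebraMap A B x) := fun x => rfl
  have hf₁ : p ≤ RingHom.ker f₀ := by
    intro x hx
    rw [RingHom.mem_ker]
    show f₀ x = 0
    rw [hf₀, Ideal.Quotient.eq_zero_iff_mem]
    exact hx
  have hf₂ : p.primeCompl ≤ (IsUnit.submonoid (B ⧸ m)).comap f₀ := by
    intro x hx
    show IsUnit (f₀ x)
    have hne : f₀ x ≠ 0 := by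
      rw [hf₀, Ne, Ideal.Quotient.eq_zero_iff_mem]
      exact hx
    obtain ⟨y, hy⟩ := Ideal.Quotient.exists_inv hne
    exact IsUnit.of_mul_eq_one y hy
  let ρ : p.ResidueField →ₐ[A] B ⧸ m := Ideal.ResidueField.liftₐ p f₀ hf₁ hf₂
  letI algκ : Algebra p.ResidueField (B ⧸ IsLocalRing.maximalIdeal B) :=
    ρ.toRingHom.toAlgebra' (fun c x => by
      have := mul_comm (ρ c) x
      exact this)
  haveI : IsScalarTower A p.ResidueField (B ⧸ IsLocalRing.maximalIdeal B) :=
    IsScalarTower.of_algebraMap_eq (fun x => (ρ.commutes x).symm)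
  exact perfect_of_fibre_globalDim_local' (A := A) (B := B) (κ := p.ResidueField) d hgl a b E b₁
    hEb hEff h4

end LocalGeneric

section LocalForm

variable (R : Type u) [CommRing R] (d : ℕ)
  (q' : Ideal (MvPolynomial (Fin d) R)) [q'.IsPrime]

attribute [local instance] Algebra.TensorProduct.rightAlgebra

/-- local form of the fibre criterion at a prime of `R[x_1..x_d]` -/
theorem torAmp_localization_of_fibre_exact
    (E : Cx (MvPolynomial (Fin d) R)) (b₁ : ℤ) (hEb : VanishesAbove E b₁)
    (hEff : TermwiseFiniteFree E)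
    (h : ∀ (p : Ideal R) [p.IsPrime], ∃ a : ℤ, ∀ j : ℤ, j < a →
      ((ESc (algebraMap R p.ResidueField)).obj
        ((restrictCx (algebraMap R (MvPolynomial (Fin d) R))).obj E)).ExactAt j) :
    ∃ a : ℤ, HasTorAmplitudeIn (Localization.AtPrime q') a b₁
      (toD ((ESc (algebraMap (MvPolynomial (Fin d) R) (Localization.AtPrime q'))).obj E)) := by
  let P := MvPolynomial (Fin d) R
  let B := Localization.AtPrime q'
  let p : Ideal R := (IsLocalRing.maximalIdeal B).comap (algebraMap R B)
  haveI hp : p.IsPrime := Ideal.comap_isPrime _ _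
  let κ := p.ResidueField
  obtain ⟨a, ha⟩ := h p
  let EB : Cx B := (ESc (algebraMap P B)).obj E
  have hEBb : VanishesAbove EB b₁ := fun j hj =>
    (ModuleCat.extendScalars.{u, u, u} (algebraMap P B)).map_isZero (hEb j hj)
  have hEBff : TermwiseFiniteFree EB := fun j =>
    ⟨finite_ES (A := P) (B := B) (E.X j) (hEff j).1,
      free_ES (A := P) (B := B) (E.X j) (hEff j).2⟩
  have hgl : ∀ M : ModuleCat.{u} (κ ⊗[R] B), HasProjectiveDimensionLT M (d + 1) :=
    fun M => hasPDLT_fibre_localization R d κ q' M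
  have h4 : ∀ j : ℤ, (j < a ∨ b₁ < j) →
      ((ESc (algebraMap B (κ ⊗[R] B))).obj EB).ExactAt j := by
    intro j hj
    rcases hj with hj | hj
    · exact exactAt_fibre_localization R κ P q'.primeCompl B E j (ha j hj)
    · exact exactAt_of_isZero_X _ j
        ((ModuleCat.extendScalars.{u, u, u} (algebraMap B (κ ⊗[R] B))).map_isZero (hEBb j hj))
  obtain ⟨_, ht⟩ := perfect_of_fibre_residueField (A := R) (B := B) d hgl a b₁ EB b₁
    hEBb hEBff h4
  exact ⟨a - d, ht⟩

end LocalForm

section Global

/-- exactness of `κ ⊗_R F` from vanishing of the cohomology of the derived tensor product -/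
lemma exactAt_ESc_of_subsingleton_HD_lTensor {R : Type u} [CommRing R] (κ : Type u) [CommRing κ]
    [Algebra R κ] [HasLTensor R (ModuleCat.of R κ)]
    (F : Cx R) (b₁ : ℤ) (hFb : VanishesAbove F b₁) (hFf : TermwiseFlat F) (L : Dual.D R)
    (i3 : L ≅ toD F) (j : ℤ)
    (h : Subsingleton (Dual.HD R ((LTensor R (ModuleCat.of R κ)).obj L) j)) :
    ((ESc (algebraMap R κ)).obj F).ExactAt j := by
  obtain ⟨i4⟩ := nonempty_lTensor_iso_of_flat (ModuleCat.of R κ) F b₁ hFb hFf
  have h0 : ((TN (ModuleCat.of R κ)).obj F).ExactAt j :=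
    (exactAt_iff_subsingleton_HD
      (i4.symm ≪≫ (LTensor R (ModuleCat.of R κ)).mapIso i3.symm) j).2 h
  have h1 := function_exact_of_exactAt _ (j - 1) j (j + 1) (by omega) rfl h0
  have h1' := exact_lTensor_of_exact_rTensor _ _ κ h1
  exact exactAt_of_function_exact _ (j - 1) j (j + 1) (by omega) rfl
    ((exact_ES_map_iff (A := R) (B := κ) _ _).2 h1')

variable (R A : Type u) [CommRing R] [CommRing A] [Algebra R A]
    [Module.Flat R A] [Algebra.FinitePresentation R A]

theorem main7094
    [∀ p : PrimeSpectrum R, DRing.HasLTensor R (ModuleCat.of R p.asIdeal.ResidueField)]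
    (K : Dual.D A) (hK : DRing.IsPseudoCoherent' A K) :
    Dual2.IsRelPerfect R A K ↔
      (∃ a : ℤ, ∀ i : ℤ, i < a → Subsingleton (Dual.HD A K i)) ∧
        ∀ p : PrimeSpectrum R, ∃ a : ℤ, ∀ i : ℤ, i < a →
          Subsingleton (Dual.HD R ((DRing.LTensor R (ModuleCat.of R p.asIdeal.ResidueField)).obj
            ((DRing.restrictD (algebraMap R A)).obj K)) i) := by
  constructor
  · rintro ⟨_, a, b, F, hF, hFf, ⟨eF⟩⟩
    refine ⟨⟨a, fun i hi => ?_⟩, fun p => ⟨a, fun i hi => ?_⟩⟩
    · rw [← subsingleton_HD_restrictD_iff (algebraMap R A) K i]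
      exact (exactAt_iff_subsingleton_HD eF i).1 (exactAt_of_isZero_X F i (hF i (Or.inl hi)))
    · obtain ⟨i4⟩ := nonempty_lTensor_iso_of_flat (ModuleCat.of R p.asIdeal.ResidueField) F b
        (fun i hi => hF i (Or.inr hi)) hFf
      refine (exactAt_iff_subsingleton_HD
        (i4.symm ≪≫ (LTensor R (ModuleCat.of R p.asIdeal.ResidueField)).mapIso eF) i).1
        (exactAt_of_isZero_X _ i ?_)
      exact (MonoidalCategory.tensorRight (ModuleCat.of R p.asIdeal.ResidueField)).map_isZero
        (hF i (Or.inl hi))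
  · rintro ⟨⟨a₀, ha₀⟩, hfib⟩
    refine ⟨hK, ?_⟩
    obtain ⟨d, ψ, hψ⟩ := Algebra.FiniteType.iff_quotient_mvPolynomial''.1
      (inferInstance : Algebra.FiniteType R A)
    let P := MvPolynomial (Fin d) R
    letI algPA : Algebra P A := ψ.toRingHom.toAlgebra
    haveI : IsScalarTower R P A := IsScalarTower.of_algebraMap_eq (fun x => (ψ.commutes x).symm)
    have hsurj : Function.Surjective (algebraMap P A) := hψ
    have hKP : IsPseudoCoherent' P ((restrictD (algebraMap P A)).obj K) :=
      ((Groth.Agent.Lib.PCHom.main7100 R P A hsurj K).1).1 hK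
    obtain ⟨E, b₁, hEb, hEff, ⟨e⟩⟩ := hKP
    let F : Cx R := (restrictCx (algebraMap R P)).obj E
    have hFb : VanishesAbove F b₁ := fun i hi =>
      (ModuleCat.restrictScalars.{u} (algebraMap R P)).map_isZero (hEb i hi)
    have hFf : TermwiseFlat F := fun i =>
      flat_restrictScalars (E.X i) (by haveI := (hEff i).2; infer_instance)
    let i3 : (restrictD (algebraMap R A)).obj K ≅ toD F :=
      restrictDCompIso (algebraMap R P) (algebraMap P A) (algebraMap R A)
        (IsScalarTower.algebraMap_eq R P A) K ≪≫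
      (restrictD (algebraMap R P)).mapIso e.symm ≪≫ restrictDIso E
    have hexE : ∀ i : ℤ, i < a₀ → E.ExactAt i := fun i hi =>
      (exactAt_iff_subsingleton_HD e i).2
        ((subsingleton_HD_restrictD_iff (algebraMap P A) K i).2 (ha₀ i hi))
    have hfibE : ∀ (p : Ideal R) [p.IsPrime], ∃ a : ℤ, ∀ j : ℤ, j < a →
        ((ESc (algebraMap R p.ResidueField)).obj
          ((restrictCx (algebraMap R (MvPolynomial (Fin d) R))).obj E)).ExactAt j := by
      intro p hp
      obtain ⟨a, ha⟩ := hfib ⟨p, hp⟩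
      haveI : HasLTensor R (ModuleCat.of R p.ResidueField) :=
        inferInstanceAs (HasLTensor R
          (ModuleCat.of R (⟨p, hp⟩ : PrimeSpectrum R).asIdeal.ResidueField))
      exact ⟨a, fun j hj =>
        exactAt_ESc_of_subsingleton_HD_lTensor p.ResidueField F b₁ hFb hFf _ i3 j (ha j hj)⟩
    have hperf : IsPerfect P (toD E) := by
      apply isPerfect_of_forall_prime
      intro 𝔮
      obtain ⟨a, hamp⟩ := torAmp_localization_of_fibre_exact R d 𝔮.asIdeal E b₁ hEb hEff hfibE
      let c : ℤ := min a a₀ - 1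
      have hamp' := hasTorAmplitudeIn_mono _ a b₁ (c + 1) b₁
        (by simp only [c]; omega) le_rfl hamp
      obtain ⟨g, hg, hgamp⟩ := exists_away_hasTorAmplitudeIn E b₁ hEb hEff c
        (fun i hi => hexE i (by simp only [c] at hi; omega)) 𝔮.asIdeal b₁ hamp'
      refine ⟨g, hg, (isPerfect_iff_pc_and_finiteTorDim _).2 ⟨?_, c + 1, b₁, hgamp⟩⟩
      exact ⟨_, b₁, (fun j hj => (ES P (Localization.Away g)).map_isZero (hEb j hj)),
        (fun j => ⟨finite_ES (A := P) (B := Localization.Away g) (E.X j) (hEff j).1,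
          free_ES (A := P) (B := Localization.Away g) (E.X j) (hEff j).2⟩), ⟨Iso.refl _⟩⟩
    obtain ⟨a, b, hab⟩ := hasTorAmplitudeIn_of_isPerfect _ hperf
    have h3 := hasTorAmplitudeIn_restrictD (R := R) (A := P) _ a b hab
    exact ⟨a, b, hasTorAmplitudeIn_of_iso (restrictDIso E ≪≫ i3.symm) a b h3⟩

end Global

end Groth.Agent.Lib.FibCritH3
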