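import Mathlib
import Groth.Prelude
import Groth.Agent.Lib.RelFib4_helper3
import Groth.Agent.Lib.DMod65_helper6
import Groth.Agent.Lib.DMod57_helper6
import Groth.Agent.Lib.DMod60_helper6

/-!
# Fibres of a flat ring map and the derived tensor product with a residue field (helper3)

* `subsingleton_HD_lTensor_of_pushout`: `R → A` flat, `A' = A ⊗_R k`, `κ → k` a field extension over
  `R`, `M ∈ D(A)` pseudo-coherent: `H^i(M ⊗^L_A A') = 0 ⟹ H^i(M ⊗^L_R κ) = 0`.
* `subsingleton_HD_lTensor_of_isPushout'`: the same for a pushout square in `CommRingCat` and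
  `κ = κ(p)`.
-/

set_option autoImplicit false
set_option linter.all false
set_option maxHeartbeats 1600000
universe u
open CategoryTheory CategoryTheory.Limits Pretriangulated DerivedCategory ZeroObject
open scoped TensorProduct
attribute [local instance] HasDerivedCategory.standard

namespace Groth.Agent.Lib.FibCritH3

open DRing CochainComplex Groth.Agent.ExtendScalarsLib Groth.Agent.Lib.DMod_helper6

section RL

lemma exactAt_restrictCx_of_exactAt {A B : Type u} [CommRing A] [CommRing B] (φ : A →+* B)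
    (C : Cx B) (i : ℤ) (h : C.ExactAt i) : ((restrictCx φ).obj C).ExactAt i := by
  rw [HomologicalComplex.exactAt_iff_isZero_homology] at h ⊢
  exact IsZero.of_iso ((ModuleCat.restrictScalars.{u} φ).map_isZero h)
    ((C.sc i).mapHomologyIso (ModuleCat.restrictScalars.{u} φ))

lemma exactAt_of_exactAt_ESc_ff {κ k : Type u} [CommRing κ] [CommRing k] [Algebra κ k]
    [Module.FaithfullyFlat κ k] (C : Cx κ) (i : ℤ)
    (h : ((ESc (algebraMap κ k)).obj C).ExactAt i) : C.ExactAt i := by
  have h1 := function_exact_of_exactAt _ (i - 1) i (i + 1) (by omega) rfl h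
  exact exactAt_of_function_exact _ (i - 1) i (i + 1) (by omega) rfl
    (ff_descendsExact (R := κ) (R' := k) (C.d (i - 1) i) (C.d i (i + 1)) (fun _ => h1))

theorem subsingleton_HD_lTensor_of_pushout
    {R A k A' κ : Type u} [CommRing R] [CommRing A] [CommRing k] [CommRing A'] [Field κ]
    [Algebra R A] [Algebra R k] [Algebra A A'] [Algebra k A'] [Algebra R A']
    [IsScalarTower R A A'] [IsScalarTower R k A'] [Algebra.IsPushout R k A A'] [Module.Flat R A]
    [Algebra R κ] [Algebra κ k] [IsScalarTower R κ k] [Nontrivial k]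
    [HasLBaseChange (algebraMap A A')] [HasLTensor R (ModuleCat.of R κ)]
    (M : Dual.D A) (hM : IsPseudoCoherent' A M) (i : ℤ)
    (h : Subsingleton (Dual.HD A' ((LBaseChange (algebraMap A A')).obj M) i)) :
    Subsingleton (Dual.HD R ((LTensor R (ModuleCat.of R κ)).obj
      ((restrictD (algebraMap R A)).obj M)) i) := by
  obtain ⟨E, b₁, hEb, hEff, ⟨e⟩⟩ := hM
  have hEf : TermwiseFlat E := fun j => by haveI := (hEff j).2; infer_instance
  obtain ⟨i2⟩ := nonempty_lBaseChange_iso_of_flat (algebraMap A A') E b₁ hEb hEf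
  have h1 : ((ESc (algebraMap A A')).obj E).ExactAt i :=
    (exactAt_iff_subsingleton_HD (i2.symm ≪≫ (LBaseChange (algebraMap A A')).mapIso e) i).2 h
  let F : Cx R := (restrictCx (algebraMap R A)).obj E
  have hFb : VanishesAbove F b₁ := fun j hj =>
    (ModuleCat.restrictScalars.{u} (algebraMap R A)).map_isZero (hEb j hj)
  have hFf : TermwiseFlat F := fun j => flat_restrictScalars (E.X j) (hEf j)
  have h2 : ((ESc (algebraMap R k)).obj F).ExactAt i :=
    exactAt_of_iso_toD _ _ (Q.mapIso (pushoutCxIsoGen R A k A' E)) i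
      (exactAt_restrictCx_of_exactAt (algebraMap k A') _ i h1)
  have h3 : ((ESc (algebraMap κ k)).obj ((ESc (algebraMap R κ)).obj F)).ExactAt i :=
    exactAt_of_iso_toD _ _ (Q.mapIso (EScCompIso (algebraMap R κ) (algebraMap κ k)
      (algebraMap R k) (IsScalarTower.algebraMap_eq R κ k) F).symm) i h2
  haveI : Module.FaithfullyFlat κ k := inferInstance
  have h4 : ((ESc (algebraMap R κ)).obj F).ExactAt i := exactAt_of_exactAt_ESc_ff _ i h3
  have h5 := function_exact_of_exactAt _ (i - 1) i (i + 1) (by omega) rfl h4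
  have h6 := (exact_ES_map_iff (A := R) (B := κ) _ _).1 h5
  have h7 := exact_rTensor_of_exact_lTensor _ _ κ h6
  have h8 : ((TN (ModuleCat.of R κ)).obj F).ExactAt i :=
    exactAt_of_function_exact _ (i - 1) i (i + 1) (by omega) rfl h7
  obtain ⟨i4⟩ := nonempty_lTensor_iso_of_flat (ModuleCat.of R κ) F b₁ hFb hFf
  let i3 : (restrictD (algebraMap R A)).obj M ≅ toD F :=
    (restrictD (algebraMap R A)).mapIso e.symm ≪≫ restrictDIso E
  exact (exactAt_iff_subsingleton_HD
    (i4.symm ≪≫ (LTensor R (ModuleCat.of R κ)).mapIso i3.symm) i).1 h8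

end RL

section CatForm

/-- pushout square in `CommRingCat` form, `κ = κ(p)` -/
theorem subsingleton_HD_lTensor_of_isPushout' {R A k A' : CommRingCat.{u}}
    (α : R ⟶ A) (β : R ⟶ k) (β' : A ⟶ A') (α' : k ⟶ A') (H : IsPushout α β β' α')
    (hα : α.hom.Flat) [HasLBaseChange β'.hom] (p : Ideal R) [p.IsPrime]
    [HasLTensor R (ModuleCat.of R p.ResidueField)]
    (hk : Nontrivial k) (h0 : ∀ r ∈ p, β.hom r = 0) (h1 : ∀ r : R, r ∉ p → IsUnit (β.hom r))
    (M : DerivedCategory (ModuleCat.{u} A)) (hM : IsPseudoCoherent' A M) (i : ℤ)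
    (h : Subsingleton (Dual.HD A' ((LBaseChange β'.hom).obj M) i)) :
    Subsingleton (Dual.HD R ((LTensor R (ModuleCat.of R p.ResidueField)).obj
      ((restrictD α.hom).obj M)) i) := by
  letI : Algebra R A := α.hom.toAlgebra
  letI : Algebra R k := β.hom.toAlgebra
  letI : Algebra k A' := α'.hom.toAlgebra
  letI : Algebra A A' := β'.hom.toAlgebra
  letI : Algebra R A' := (β'.hom.comp α.hom).toAlgebra
  haveI : IsScalarTower R A A' := IsScalarTower.of_algebraMap_eq (fun r => rfl)
  haveI : IsScalarTower R k A' := IsScalarTower.of_algebraMap_eq (fun r => by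
    have h := congrArg (fun k => k.hom r) H.w
    exact h)
  haveI : Module.Flat R A := hα
  have H' : IsPushout (CommRingCat.ofHom (algebraMap R k)) (CommRingCat.ofHom (algebraMap R A))
      (CommRingCat.ofHom (algebraMap k A')) (CommRingCat.ofHom (algebraMap A A')) := H.flip
  haveI : Algebra.IsPushout R k A A' := CommRingCat.isPushout_iff_isPushout.1 H'
  let f₀ : R →ₐ[R] k := Algebra.ofId R k
  have hf₁ : p ≤ RingHom.ker f₀ := fun x hx => by
    rw [RingHom.mem_ker]
    exact h0 x hx
  have hf₂ : p.primeCompl ≤ (IsUnit.submonoid k).comap f₀ := fun x hx => h1 x hx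
  let ρ : p.ResidueField →ₐ[R] k := Ideal.ResidueField.liftₐ p f₀ hf₁ hf₂
  letI : Algebra p.ResidueField k := ρ.toRingHom.toAlgebra
  haveI : IsScalarTower R p.ResidueField k :=
    IsScalarTower.of_algebraMap_eq (fun x => (ρ.commutes x).symm)
  exact subsingleton_HD_lTensor_of_pushout (R := R) (A := A) (k := k) (A' := A')
    (κ := p.ResidueField) M hM i h

end CatForm

end Groth.Agent.Lib.FibCritH3
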