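import Mathlib
import Groth.Prelude
import Groth.Agent.Lib.RelFib5_helper3

/-!
# The fibre criterion for perfection, ring level (S5629) (helper3)

* `exact_lTensor_ES_of_exact_lTensor`: exactness of `N ⊗_A M_•` gives exactness of
  `N ⊗_B (B ⊗_A M_•)` (converse of helper6's `exact_lTensor_of_exact_rTensor_ES`).
* `perfect_local_of_fibre_torAmp`: `B` a local `A`-algebra, `κ → B/m` over `R`: if
  `(κ ⊗_R A) ⊗_A E` has tor amplitude in `[a, b]` then so has `B ⊗_A E` (and it is perfect).
* `perfect_fibre_of_pushout`: descent of perfection from `A' = k ⊗_R A` to `κ ⊗_R A` for a field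
  extension `κ → k`.
* `perfect_of_fibres_perfect`: `E` bounded above, termwise finite free, cohomologically bounded
  below, all `(κ(p) ⊗_R A) ⊗_A E` perfect: then `E` is perfect.
-/

set_option autoImplicit false
set_option linter.all false
set_option maxHeartbeats 1600000
universe u
open CategoryTheory CategoryTheory.Limits Pretriangulated DerivedCategory ZeroObject
open scoped TensorProduct
attribute [local instance] HasDerivedCategory.standard

namespace Groth.Agent.Lib.PerfFibH3

open DRing CochainComplex Groth.Agent.ExtendScalarsLib Groth.Agent.Lib.DMod_helper6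
  Groth.Agent.Lib.FibCritH3

section Transfer

variable {A B : Type u} [CommRing A] [CommRing B] [Algebra A B]

/-- exactness of `N ⊗_A M_•` gives exactness of `N ⊗_B (B ⊗_A M_•)` -/
lemma exact_lTensor_ES_of_exact_lTensor (N : Type u) [AddCommGroup N] [Module A N] [Module B N]
    [IsScalarTower A B N] {M₁ M₂ M₃ : ModuleCat.{u} A} (f : M₁ ⟶ M₂) (g : M₂ ⟶ M₃)
    (h : Function.Exact (f.hom.lTensor N) (g.hom.lTensor N)) :
    Function.Exact (((ES A B).map f).hom.lTensor N) (((ES A B).map g).hom.lTensor N) := by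
  have hcomm : ∀ {X Y : ModuleCat.{u} A} (u : X ⟶ Y)
      (x : N ⊗[B] ((ES A B).obj X)),
      (LinearEquiv.lTensor N (extendScalarsEquivTensor (S := B) Y))
        ((((ES A B).map u).hom.lTensor N) x) =
      ((u.hom.baseChange B).lTensor N)
        ((LinearEquiv.lTensor N (extendScalarsEquivTensor (S := B) X)) x) := by
    intro X Y u x
    have hc : (extendScalarsEquivTensor (S := B) Y).toLinearMap ∘ₗ ((ES A B).map u).hom =
        (u.hom.baseChange B) ∘ₗ (extendScalarsEquivTensor (S := B) X).toLinearMap := by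
      apply LinearMap.ext
      intro z
      exact ES_map_comm u z
    show ((extendScalarsEquivTensor (S := B) Y).toLinearMap.lTensor N)
        ((((ES A B).map u).hom.lTensor N) x) =
      ((u.hom.baseChange B).lTensor N)
        (((extendScalarsEquivTensor (S := B) X).toLinearMap.lTensor N) x)
    rw [← LinearMap.comp_apply, ← LinearMap.lTensor_comp, hc, LinearMap.lTensor_comp,
      LinearMap.comp_apply]
  have h2 : Function.Exact ((f.hom.baseChange B).lTensor N) ((g.hom.baseChange B).lTensor N) :=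
    (function_exact_iff_of_equiv
      (TensorProduct.AlgebraTensorModule.cancelBaseChange A B B N M₁).toEquiv
      (TensorProduct.AlgebraTensorModule.cancelBaseChange A B B N M₂).toEquiv
      (TensorProduct.AlgebraTensorModule.cancelBaseChange A B B N M₃).toEquiv
      (map_zero (TensorProduct.AlgebraTensorModule.cancelBaseChange A B B N M₃)) _ _ _ _
      (cancelBaseChange_comm N f.hom) (cancelBaseChange_comm N g.hom)).2 h
  exact (function_exact_iff_of_equiv
      (LinearEquiv.lTensor N (extendScalarsEquivTensor (S := B) M₁)).toEquiv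
      (LinearEquiv.lTensor N (extendScalarsEquivTensor (S := B) M₂)).toEquiv
      (LinearEquiv.lTensor N (extendScalarsEquivTensor (S := B) M₃)).toEquiv
      (map_zero (LinearEquiv.lTensor N (extendScalarsEquivTensor (S := B) M₃))) _ _ _ _
      (hcomm f) (hcomm g)).2 h2

end Transfer

section Local

variable {R A B κ : Type u} [CommRing R] [CommRing A] [CommRing B] [CommRing κ]
  [Algebra R A] [Algebra A B] [Algebra R B] [IsScalarTower R A B] [Algebra R κ]

attribute [local instance] Algebra.TensorProduct.rightAlgebra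

/-- `B` a local `A`-algebra with a map `κ → B/m` over `R`: tor amplitude of `(κ ⊗_R A) ⊗_A E`
gives tor amplitude (and perfection) of `B ⊗_A E` -/
theorem perfect_local_of_fibre_torAmp [IsLocalRing B]
    [Algebra κ (B ⧸ IsLocalRing.maximalIdeal B)]
    [IsScalarTower R κ (B ⧸ IsLocalRing.maximalIdeal B)]
    (E : Cx A) (b₁ : ℤ) (hEb : VanishesAbove E b₁) (hEff : TermwiseFiniteFree E) (a b : ℤ)
    (h : HasTorAmplitudeIn (κ ⊗[R] A) a b (toD ((ESc (algebraMap A (κ ⊗[R] A))).obj E))) :
    IsPerfect B (toD ((ESc (algebraMap A B)).obj E)) ∧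
      HasTorAmplitudeIn B a b (toD ((ESc (algebraMap A B)).obj E)) := by
  have hFb : VanishesAbove ((ESc (algebraMap A (κ ⊗[R] A))).obj E) b₁ :=
    fun j hj => (ModuleCat.extendScalars.{u, u, u}
      (algebraMap A (κ ⊗[R] A))).map_isZero (hEb j hj)
  have hFf : TermwiseFlat ((ESc (algebraMap A (κ ⊗[R] A))).obj E) := fun j =>
    flat_ES (A := A) (B := κ ⊗[R] A) (E.X j)
      (by haveI := (hEff j).2; infer_instance)
  have hEBb : VanishesAbove ((ESc (algebraMap A B)).obj E) b₁ := fun j hj =>
    (ModuleCat.extendScalars.{u, u, u} (algebraMap A B)).map_isZero (hEb j hj)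
  have hEBff : TermwiseFiniteFree ((ESc (algebraMap A B)).obj E) := fun j =>
    ⟨finite_ES (A := A) (B := B) (E.X j) (hEff j).1,
      free_ES (A := A) (B := B) (E.X j) (hEff j).2⟩
  have hq : ∀ (m : Ideal B), m.IsMaximal → ∀ i : ℤ, (i < a ∨ b < i) →
      Function.Exact ((((ESc (algebraMap A B)).obj E).d (i - 1) i).hom.lTensor (B ⧸ m))
        ((((ESc (algebraMap A B)).obj E).d i (i + 1)).hom.lTensor (B ⧸ m)) := by
    intro m hm i hi
    obtain rfl := IsLocalRing.eq_maximalIdeal hm
    let ψ : (κ ⊗[R] A) →ₐ[R] B ⧸ IsLocalRing.maximalIdeal B :=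
      Algebra.TensorProduct.lift (IsScalarTower.toAlgHom R κ (B ⧸ IsLocalRing.maximalIdeal B))
        (IsScalarTower.toAlgHom R A (B ⧸ IsLocalRing.maximalIdeal B))
        (fun _ _ => Commute.all _ _)
    letI : Module (κ ⊗[R] A) (B ⧸ IsLocalRing.maximalIdeal B) :=
      Module.compHom (B ⧸ IsLocalRing.maximalIdeal B) ψ.toRingHom
    haveI : IsScalarTower A (κ ⊗[R] A) (B ⧸ IsLocalRing.maximalIdeal B) := ⟨fun y x n => by
      show ψ (y • x) * n = y • (ψ x * n)
      have hy : ψ (algebraMap A (κ ⊗[R] A) y) =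
          algebraMap A (B ⧸ IsLocalRing.maximalIdeal B) y := by
        show ψ ((1 : κ) ⊗ₜ[R] y) = _
        rw [Algebra.TensorProduct.lift_tmul, map_one, one_mul]
        rfl
      rw [Algebra.smul_def y x, map_mul, hy, Algebra.smul_def y (ψ x * n), mul_assoc]⟩
    have h6 := exactAt_TN_of_hasTorAmplitudeIn' _ b₁ hFb hFf a b h
      (ModuleCat.of (κ ⊗[R] A) (B ⧸ IsLocalRing.maximalIdeal B)) i hi
    have h7 := function_exact_of_exactAt _ (i - 1) i (i + 1) (by omega) rfl h6
    have h8 := exact_lTensor_of_exact_rTensor_ES (A := A) (B := κ ⊗[R] A)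
      (B ⧸ IsLocalRing.maximalIdeal B) (E.d (i - 1) i) (E.d i (i + 1)) h7
    exact exact_lTensor_ES_of_exact_lTensor (A := A) (B := B)
      (B ⧸ IsLocalRing.maximalIdeal B) (E.d (i - 1) i) (E.d i (i + 1)) h8
  exact perfect_of_exact_mod_maximal _ b₁ hEBb hEBff a b hq

/-- the same with `κ` the residue field of the prime of `R` below the maximal ideal of `B` -/
theorem torAmp_local_of_fibres_perfect [IsLocalRing B]
    (E : Cx A) (b₁ : ℤ) (hEb : VanishesAbove E b₁) (hEff : TermwiseFiniteFree E)
    (h : ∀ (p : Ideal R) [p.IsPrime], IsPerfect (p.ResidueField ⊗[R] A)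
      (toD ((ESc (algebraMap A (p.ResidueField ⊗[R] A))).obj E))) :
    ∃ a b : ℤ, HasTorAmplitudeIn B a b (toD ((ESc (algebraMap A B)).obj E)) := by
  let m := IsLocalRing.maximalIdeal B
  let p : Ideal R := m.comap (algebraMap R B)
  haveI hp : p.IsPrime := Ideal.comap_isPrime _ _
  let f₀ : R →ₐ[R] B ⧸ m := Algebra.ofId R (B ⧸ m)
  have hf₀ : ∀ x : R, f₀ x = Ideal.Quotient.mk m (algebraMap R B x) := fun x => rfl
  have hf₁ : p ≤ RingHom.ker f₀ := by
    intro x hx
    rw [RingHom.mem_ker]
    show f₀ x = 0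
    rw [hf₀, Ideal.Quotient.eq_zero_iff_mem]
    exact hx
  have hf₂ : p.primeCompl ≤ (IsUnit.submonoid (B ⧸ m)).comap f₀ := by
    intro x hx
    show IsUnit (f₀ x)
    have hne : f₀ x ≠ 0 := by
      rw [hf₀, Ne, Ideal.Quotient.eq_zero_iff_mem]
      exact hx
    obtain ⟨y, hy⟩ := Ideal.Quotient.exists_inv hne
    exact IsUnit.of_mul_eq_one y hy
  let ρ : p.ResidueField →ₐ[R] B ⧸ m := Ideal.ResidueField.liftₐ p f₀ hf₁ hf₂
  letI algκ : Algebra p.ResidueField (B ⧸ IsLocalRing.maximalIdeal B) :=
    ρ.toRingHom.toAlgebra' (fun c x => by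
      have := mul_comm (ρ c) x
      exact this)
  haveI : IsScalarTower R p.ResidueField (B ⧸ IsLocalRing.maximalIdeal B) :=
    IsScalarTower.of_algebraMap_eq (fun x => (ρ.commutes x).symm)
  obtain ⟨a, b, hab⟩ := hasTorAmplitudeIn_of_isPerfect _ (h p)
  exact ⟨a, b, (perfect_local_of_fibre_torAmp (R := R) (A := A) (B := B) (κ := p.ResidueField)
    E b₁ hEb hEff a b hab).2⟩

end Local

section Pushout

attribute [local instance] Algebra.TensorProduct.rightAlgebra

/-- descent of perfection from `A' = k ⊗_R A` to `κ ⊗_R A` for a field extension `κ → k` -/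
theorem perfect_fibre_of_pushout
    {R A k A' κ : Type u} [CommRing R] [CommRing A] [CommRing k] [CommRing A'] [Field κ]
    [Algebra R A] [Algebra R k] [Algebra A A'] [Algebra k A'] [Algebra R A']
    [IsScalarTower R A A'] [IsScalarTower R k A'] [Algebra.IsPushout R k A A']
    [Algebra R κ] [Algebra κ k] [IsScalarTower R κ k] [Nontrivial k]
    (E : Cx A)
    (h : IsPerfect A' (toD ((ESc (algebraMap A A')).obj E))) :
    IsPerfect (κ ⊗[R] A) (toD ((ESc (algebraMap A (κ ⊗[R] A))).obj E)) := by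
  letI algκA' : Algebra κ A' := ((algebraMap k A').comp (algebraMap κ k)).toAlgebra
  haveI : IsScalarTower κ k A' := IsScalarTower.of_algebraMap_eq (fun _ => rfl)
  haveI : IsScalarTower R κ A' := IsScalarTower.of_algebraMap_eq (fun r => by
    rw [IsScalarTower.algebraMap_apply R k A', IsScalarTower.algebraMap_apply R κ k]
    rfl)
  let ψ : (κ ⊗[R] A) →ₐ[κ] A' :=
    Algebra.TensorProduct.lift (Algebra.ofId κ A') (IsScalarTower.toAlgHom R A A')
      (fun _ _ => Commute.all _ _)
  letI algTA' : Algebra (κ ⊗[R] A) A' := ψ.toRingHom.toAlgebra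
  haveI : IsScalarTower κ (κ ⊗[R] A) A' :=
    IsScalarTower.of_algebraMap_eq (fun x => (ψ.commutes x).symm)
  have hψA : ∀ y : A, ψ (algebraMap A (κ ⊗[R] A) y) = algebraMap A A' y := by
    intro y
    show ψ ((1 : κ) ⊗ₜ[R] y) = _
    rw [Algebra.TensorProduct.lift_tmul, map_one, one_mul]
    rfl
  haveI : IsScalarTower A (κ ⊗[R] A) A' :=
    IsScalarTower.of_algebraMap_eq (fun y => (hψA y).symm)
  haveI : IsScalarTower R (κ ⊗[R] A) A' := IsScalarTower.of_algebraMap_eq (fun r => by
    rw [IsScalarTower.algebraMap_apply R A A', IsScalarTower.algebraMap_apply R A (κ ⊗[R] A)]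
    exact (hψA _).symm)
  have hP : Algebra.IsPushout κ k (κ ⊗[R] A) A' :=
    (Algebra.IsPushout.comp_iff R κ A (S' := κ ⊗[R] A) (T := k) (T' := A')).1 inferInstance
  haveI : Module.FaithfullyFlat κ k := inferInstance
  have hff : (algebraMap (κ ⊗[R] A) A').FaithfullyFlat :=
    RingHom.FaithfullyFlat.isStableUnderBaseChange κ k (κ ⊗[R] A) A'
      ((RingHom.faithfullyFlat_algebraMap_iff).2 inferInstance)
  haveI : Module.FaithfullyFlat (κ ⊗[R] A) A' := (RingHom.faithfullyFlat_algebraMap_iff).1 hff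
  apply isPerfect_of_faithfullyFlat (R := κ ⊗[R] A) (R' := A')
  let i := EScCompIso (algebraMap A (κ ⊗[R] A)) (algebraMap (κ ⊗[R] A) A') (algebraMap A A')
    (IsScalarTower.algebraMap_eq A (κ ⊗[R] A) A') E
  exact isPerfect_of_iso (Q.mapIso i) h

end Pushout

section Global

attribute [local instance] Algebra.TensorProduct.rightAlgebra

variable (R A : Type u) [CommRing R] [CommRing A] [Algebra R A]

/-- `E` bounded above, termwise finite free, cohomologically bounded below, with all
`(κ(p) ⊗_R A) ⊗_A E` perfect, is perfect -/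
theorem perfect_of_fibres_perfect
    (E : Cx A) (b₁ : ℤ) (hEb : VanishesAbove E b₁) (hEff : TermwiseFiniteFree E) (c₀ : ℤ)
    (hex : ∀ i : ℤ, i < c₀ → E.ExactAt i)
    (h : ∀ (p : Ideal R) [p.IsPrime], IsPerfect (p.ResidueField ⊗[R] A)
      (toD ((ESc (algebraMap A (p.ResidueField ⊗[R] A))).obj E))) :
    IsPerfect A (toD E) := by
  apply isPerfect_of_forall_prime
  intro 𝔮
  obtain ⟨a, b, hamp⟩ := torAmp_local_of_fibres_perfect (R := R) (A := A)
    (B := Localization.AtPrime 𝔮.asIdeal) E b₁ hEb hEff h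
  let c : ℤ := min a c₀ - 1
  have hamp' := hasTorAmplitudeIn_mono _ a b (c + 1) b
    (by simp only [c]; omega) le_rfl hamp
  obtain ⟨g, hg, hgamp⟩ := exists_away_hasTorAmplitudeIn E b₁ hEb hEff c
    (fun i hi => hex i (by simp only [c] at hi; omega)) 𝔮.asIdeal b hamp'
  refine ⟨g, hg, (isPerfect_iff_pc_and_finiteTorDim _).2 ⟨?_, c + 1, b₁, hgamp⟩⟩
  exact ⟨_, b₁, (fun j hj => (ES A (Localization.Away g)).map_isZero (hEb j hj)),
    (fun j => ⟨finite_ES (A := A) (B := Localization.Away g) (E.X j) (hEff j).1,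
      free_ES (A := A) (B := Localization.Away g) (E.X j) (hEff j).2⟩), ⟨Iso.refl _⟩⟩

end Global

end Groth.Agent.Lib.PerfFibH3
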