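import Mathlib
import Groth.Prelude
import Groth.Agent.Lib.RelPerfBC2_helper3
import Groth.Agent.Lib.DCohLoc6_lead
import Groth.Agent.Lib.TildePC3_helper3

/-!
# Local lower bounds for objects of `D(O_X)` (helper3)

* `isGE_DD`, `isGE_of_cover`: `IsGE` is local for the Zariski topology.
* `locally_isGE_of_locHasFiniteRelTorDim`: objects locally of finite relative tor dimension are
  locally bounded below.
* `subsingleton_HD_of_isGE_tildeD`.
* `exists_bound_of_locally_isGE`: if `K` is locally bounded below at the points of an affine open `U`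
  and `K|_U = M~`, then `M` is bounded below.
-/

set_option autoImplicit false
set_option linter.all false
set_option maxHeartbeats 1600000
set_option backward.isDefEq.respectTransparency false
set_option backward.isDefEq.respectTransparency.types false
set_option backward.defeqAttrib.useBackward true

universe u
open CategoryTheory CategoryTheory.Limits AlgebraicGeometry Opposite TopologicalSpace
attribute [local instance] HasDerivedCategory.standard

namespace Groth.Agent.Lib.FibSchH3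

open DRing DerSch Groth.Agent.Lib.DMod_helper6 Groth.Agent.Lib.DCohLocLead
  Groth.Agent.Lib.RelPerfLocH3 Groth.Agent.Lib.RelPerfBCH3 DerivedCategory

noncomputable section

section GE

/-- restriction to an open subscheme preserves lower bounds -/
theorem isGE_DD {Y X : Scheme.{u}} (j : Y ⟶ X) [IsOpenImmersion j] (K : DCoh.D X) (a : ℤ)
    (h : K.IsGE a) : ((DD j).obj K).IsGE a := by
  rw [DerivedCategory.isGE_iff] at h ⊢
  intro i hi
  obtain ⟨e⟩ := nonempty_HD_restrict_iso j K i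
  exact IsZero.of_iso ((Scheme.Modules.restrictFunctor j).map_isZero (h i hi)) e

/-- lower bounds are local -/
theorem isGE_of_cover {X : Scheme.{u}} (K : DCoh.D X) (a : ℤ) {ι : Type*} (W : ι → X.Opens)
    (hcov : ∀ x : X, ∃ k, x ∈ W k) (h : ∀ k, ((DD (W k).ι).obj K).IsGE a) : K.IsGE a := by
  rw [DerivedCategory.isGE_iff]
  intro i hi
  refine isZero_of_isZero_restrict (DCoh.HD K i) W hcov (fun k => ?_)
  obtain ⟨e⟩ := nonempty_HD_restrict_iso (W k).ι K i
  exact IsZero.of_iso ((DerivedCategory.isGE_iff _ a).1 (h k) i hi) e.symm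

theorem isGE_of_iso' {X : Scheme.{u}} {K L : DCoh.D X} (e : K ≅ L) (a : ℤ) (h : K.IsGE a) :
    L.IsGE a := by
  haveI := h
  exact TStructure.t.isGE_of_iso e a

theorem isGE_mono {X : Scheme.{u}} (K : DCoh.D X) (a b : ℤ) (hab : a ≤ b) (h : K.IsGE b) :
    K.IsGE a := by
  haveI := h
  exact TStructure.t.isGE_of_ge K a b hab

/-- restriction along equal morphisms -/
def DDCongr {Y X : Scheme.{u}} {j l : Y ⟶ X} [IsOpenImmersion j] [IsOpenImmersion l] (h : j = l)
    (K : DCoh.D X) : (DD j).obj K ≅ (DD l).obj K := by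
  subst h
  exact Iso.refl _

/-- objects locally of finite relative tor dimension are locally bounded below -/
theorem locally_isGE_of_locHasFiniteRelTorDim {Y T : Scheme.{u}} (g : Y ⟶ T) (K : DCoh.D Y)
    (h : DCoh.LocHasFiniteRelTorDim g K) :
    ∀ y : Y, ∃ (W : Y.Opens) (a : ℤ), y ∈ W ∧ ((DCoh.restrictD W.ι).obj K).IsGE a := by
  intro y
  obtain ⟨W, a, b, hyW, hW⟩ := h y
  let F' : CochainComplex Y.Modules ℤ := Q.objPreimage K
  let eF : Q.obj F' ≅ K := Q.objObjPreimageIso K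
  obtain ⟨G, hG, _, ⟨eG⟩⟩ := hW F' ⟨eF⟩
  refine ⟨W, a, hyW, ?_⟩
  have e1 : (DCoh.restrictD W.ι).obj K ≅ Q.obj G :=
    (DD W.ι).mapIso eF.symm ≪≫ facIso W.ι F' ≪≫ eG.symm
  have hGge : (Q.obj G).IsGE a := by
    rw [DerivedCategory.isGE_Q_obj_iff, CochainComplex.isGE_iff]
    intro i hi
    exact ShortComplex.exact_of_isZero_X₂ _ (hG i (Or.inl hi))
  exact isGE_of_iso' e1.symm a hGge

end GE

section Tilde

theorem subsingleton_HD_of_isGE_tildeD (A : CommRingCat.{u}) [PreservesFiniteLimits (tilde.functor A)]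
    (M : DerivedCategory (ModuleCat.{u} A)) (a : ℤ) (h : ((DCoh.tildeD A).obj M).IsGE a) :
    ∀ i : ℤ, i < a → Subsingleton (Dual.HD A M i) := by
  intro i hi
  obtain ⟨e⟩ := Groth.Agent.Lib.TildePCH3.nonempty_homology_map_iso (tilde.functor A) M i
  have hz : IsZero ((tilde.functor A).obj ((homologyFunctor (ModuleCat.{u} A) i).obj M)) :=
    IsZero.of_iso ((DerivedCategory.isGE_iff _ a).1 h i hi) e.symm
  exact ModuleCat.subsingleton_of_isZero
    (Groth.Agent.Lib.TildePCH3.isZero_of_isZero_tilde A _ hz)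

end Tilde

section Bound

/-- if `K` is locally bounded below at the points of an affine open `U` and `K|_U = M~`, then `M`
is bounded below -/
theorem exists_bound_of_locally_isGE {Y : Scheme.{u}} (K : DCoh.D Y) (U : Y.Opens)
    (hU : IsAffineOpen U) [PreservesFiniteLimits (tilde.functor Γ(Y, U))]
    (M : DerivedCategory (ModuleCat.{u} Γ(Y, U)))
    (e : EC U hU K ≅ (DCoh.tildeD Γ(Y, U)).obj M)
    (h : ∀ y : Y, y ∈ U →
      ∃ (W : Y.Opens) (a : ℤ), y ∈ W ∧ ((DCoh.restrictD W.ι).obj K).IsGE a) :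
    ∃ a : ℤ, ∀ i : ℤ, i < a → Subsingleton (Dual.HD Γ(Y, U) M i) := by
  choose! W a hyW hGE using h
  obtain ⟨t, ht⟩ := hU.isCompact.elim_finite_subcover (fun y : U => ((W y.1 : Y.Opens) : Set Y))
    (fun y => (W y.1).isOpen) (fun y hy => Set.mem_iUnion.2 ⟨⟨y, hy⟩, hyW y hy⟩)
  let a₀ : ℤ := -(∑ y ∈ t, |a y.1|)
  have ha₀ : ∀ y ∈ t, a₀ ≤ a y.1 := by
    intro y hy
    have h1 : |a y.1| ≤ ∑ z ∈ t, |a z.1| :=
      Finset.single_le_sum (f := fun z : U => |a z.1|) (fun z _ => abs_nonneg _) hy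
    have h2 := neg_abs_le (a y.1)
    show -(∑ z ∈ t, |a z.1|) ≤ a y.1
    linarith
  have hKU : ((DD U.ι).obj K).IsGE a₀ := by
    refine isGE_of_cover _ a₀ (fun y : {y : U // y ∈ t} => U.ι ⁻¹ᵁ (W y.1.1)) ?_ ?_
    · intro x
      have hx := ht x.2
      simp only [Set.mem_iUnion] at hx
      obtain ⟨y, hyt, hxy⟩ := hx
      exact ⟨⟨y, hyt⟩, hxy⟩
    · rintro ⟨y, hyt⟩
      let W' : (U : Scheme.{u}).Opens := U.ι ⁻¹ᵁ (W y.1)
      let r : (W' : Scheme.{u}) ⟶ (W y.1 : Scheme.{u}) := U.ι.resLE (W y.1) W' le_rfl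
      haveI : IsOpenImmersion r := by
        show IsOpenImmersion (U.ι.resLE (W y.1) W' le_rfl)
        unfold Scheme.Hom.resLE
        infer_instance
      have hr : W'.ι ≫ U.ι = r ≫ (W y.1).ι := (Scheme.Hom.resLE_comp_ι U.ι le_rfl).symm
      obtain ⟨c1⟩ := nonempty_DD_comp_iso W'.ι U.ι K
      obtain ⟨c2⟩ := nonempty_DD_comp_iso r (W y.1).ι K
      have hge : ((DD r).obj ((DD (W y.1).ι).obj K)).IsGE a₀ :=
        isGE_DD r _ a₀ (isGE_mono _ a₀ (a y.1) (ha₀ y hyt) (hGE y.1 y.2))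
      exact isGE_of_iso' (c2.symm ≪≫ (DDCongr hr K).symm ≪≫ c1) a₀ hge
  have hEC : (EC U hU K).IsGE a₀ := isGE_DD hU.isoSpec.inv _ a₀ hKU
  exact ⟨a₀, subsingleton_HD_of_isGE_tildeD Γ(Y, U) M a₀ (isGE_of_iso' e a₀ hEC)⟩

end Bound

end

end Groth.Agent.Lib.FibSchH3
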