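import Mathlib
import Groth.Prelude
import Groth.Agent.Lib.RelFib5_helper3
import Groth.Agent.Lib.RelFib6_helper3
import Groth.Agent.Lib.RelPerfLoc3_helper3

/-!
# The fibre criterion for relative perfection, scheme level (S1101) (helper3)

* `residue_appLE_facts`: the ring map `Γ(S, V) → Γ(Spec κ(s), ⊤)` kills the sections vanishing at `s`
  and inverts the others.
* `fibre_bound`: a local lower bound for the derived pullback to the fibre `X_s` gives, on an affine
  chart, a lower bound for `M ⊗^L_R κ(p)`.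
* `main1101`.
-/

set_option autoImplicit false
set_option linter.all false
set_option maxHeartbeats 1600000
set_option backward.isDefEq.respectTransparency false
set_option backward.isDefEq.respectTransparency.types false
set_option backward.defeqAttrib.useBackward true

universe u
open CategoryTheory CategoryTheory.Limits AlgebraicGeometry Opposite TopologicalSpace
attribute [local instance] HasDerivedCategory.standard

namespace Groth.Agent.Lib.FibSchH3

open DRing DerSch Groth.Agent.Lib.DMod_helper6 Groth.Agent.Lib.DCohLocLead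
  Groth.Agent.Lib.RelPerfLocH3 Groth.Agent.Lib.RelPerfBCH3 DerivedCategory
  Groth.Agent.Lib.FibCritH3

noncomputable section

local instance hasLBCInstFibS {A B : Type u} [CommRing A] [CommRing B] (φ : A →+* B) :
    HasLBaseChange φ := Groth.Agent.Lib.LpullQCL.hasLBaseChange φ

local instance pflInstFibS (R : CommRingCat.{u}) : PreservesFiniteLimits (tilde.functor R) :=
  Groth.Agent.Lib.LpullQCL.preservesFiniteLimits_tilde R

section Residue

variable {S : Scheme.{u}}

/-- the ring map `Γ(S, V) → Γ(Spec κ(s), ⊤)` kills the sections vanishing at `s` and inverts the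
others -/
theorem residue_appLE_facts (V : S.Opens) (s : S)
    (hV'V : (⊤ : (Spec (S.residueField s)).Opens) ≤ (S.fromSpecResidueField s) ⁻¹ᵁ V)
    (r : Γ(S, V)) :
    (s ∉ S.basicOpen r → ((S.fromSpecResidueField s).appLE V ⊤ hV'V).hom r = 0) ∧
    (s ∈ S.basicOpen r → IsUnit (((S.fromSpecResidueField s).appLE V ⊤ hV'V).hom r)) := by
  let g := S.fromSpecResidueField s
  have hbo : (Spec (S.residueField s)).basicOpen ((g.appLE V ⊤ hV'V).hom r) =
      ⊤ ⊓ g ⁻¹ᵁ S.basicOpen r := Scheme.basicOpen_appLE g ⊤ V hV'V r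
  have hmem : ∀ z : Spec (S.residueField s), z ∈ g ⁻¹ᵁ S.basicOpen r ↔ s ∈ S.basicOpen r := by
    intro z
    show g z ∈ S.basicOpen r ↔ _
    rw [Scheme.fromSpecResidueField_apply]
  constructor
  · intro hs
    have h1 : (Spec (S.residueField s)).basicOpen ((g.appLE V ⊤ hV'V).hom r) = ⊥ := by
      rw [hbo, eq_bot_iff]
      rintro z ⟨_, hz⟩
      exact (hs ((hmem z).1 hz)).elim
    exact (AlgebraicGeometry.basicOpen_eq_bot_iff _).1 h1
  · intro hs
    have hne : (g.appLE V ⊤ hV'V).hom r ≠ 0 := by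
      intro h0
      have h1 : (Spec (S.residueField s)).basicOpen ((g.appLE V ⊤ hV'V).hom r) = ⊥ := by
        rw [h0]
        exact Scheme.basicOpen_zero _ _
      rw [hbo] at h1
      have hz : (default : Spec (S.residueField s)) ∈
          (⊤ ⊓ g ⁻¹ᵁ S.basicOpen r : (Spec (S.residueField s)).Opens) :=
        ⟨trivial, (hmem _).2 hs⟩
      rw [h1] at hz
      exact hz
    let e : Γ(Spec (S.residueField s), ⊤) ≃+* S.residueField s :=
      (Scheme.ΓSpecIso (S.residueField s)).commRingCatIsoToRingEquiv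
    have h2 : IsUnit (e ((g.appLE V ⊤ hV'V).hom r)) := by
      rw [isUnit_iff_ne_zero]
      intro h3
      exact hne (e.injective (h3.trans (map_zero e).symm))
    exact (MulEquiv.isUnit_map e.toMulEquiv).1 h2

end Residue

section Fibre

variable {X S : Scheme.{u}} (f : X ⟶ S)

theorem fibre_bound [Flat f] (E : DCoh.D X)
    (U : X.Opens) (hU : IsAffineOpen U) (V : S.Opens) (hV : IsAffineOpen V) (hUV : U ≤ f ⁻¹ᵁ V)
    (M : DerivedCategory (ModuleCat.{u} Γ(X, U))) (e : EC U hU E ≅ (DCoh.tildeD Γ(X, U)).obj M)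
    (hM : IsPseudoCoherent' Γ(X, U) M)
    (s : S) (hsV : s ∈ V) (p : Ideal Γ(S, V)) [p.IsPrime]
    (hp : ∀ r : Γ(S, V), s ∈ S.basicOpen r ↔ r ∉ p)
    [DCoh.HasLpull (pullback.fst f (S.fromSpecResidueField s))]
    (hfib : ∀ y : ↥(pullback f (S.fromSpecResidueField s)),
      ∃ (W : (pullback f (S.fromSpecResidueField s)).Opens) (a : ℤ), y ∈ W ∧
        ((DCoh.restrictD W.ι).obj
          ((DCoh.Lpull (pullback.fst f (S.fromSpecResidueField s))).obj E)).IsGE a)
    [HasLTensor Γ(S, V) (ModuleCat.of Γ(S, V) p.ResidueField)] :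
    ∃ a : ℤ, ∀ i : ℤ, i < a → Subsingleton (Dual.HD Γ(S, V)
      ((LTensor Γ(S, V) (ModuleCat.of Γ(S, V) p.ResidueField)).obj
        ((restrictD (f.appLE V U hUV).hom).obj M)) i) := by
  let g := S.fromSpecResidueField s
  let V' : (Spec (S.residueField s)).Opens := ⊤
  have hV' : IsAffineOpen V' := isAffineOpen_top _
  have hV'V : V' ≤ g ⁻¹ᵁ V := fun z _ => by
    show g z ∈ V
    rw [Scheme.fromSpecResidueField_apply]
    exact hsV
  have hUP : IsAffineOpen (UP f g U V') := isAffineOpen_UP f g U hU V hV V' hV' hUV hV'V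
  obtain ⟨c⟩ := nonempty_chart_Lpull_iso f g U hU V' E hUP M e
  obtain ⟨a, ha⟩ := exists_bound_of_locally_isGE ((DCoh.Lpull (pullback.fst f g)).obj E)
    (UP f g U V') hUP _ c (fun y _ => hfib y)
  refine ⟨a, fun i hi => ?_⟩
  have H := isPushout_UP f g U hU V hV V' hV' hUV hV'V
  haveI : Nonempty ↥V' := ⟨⟨default, trivial⟩⟩
  have hk : Nontrivial Γ(Spec (S.residueField s), V') := inferInstance
  exact subsingleton_HD_lTensor_of_isPushout' (f.appLE V U hUV) (g.appLE V V' hV'V)
    ((pullback.fst f g).appLE U (UP f g U V') inf_le_left)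
    ((pullback.snd f g).appLE V' (UP f g U V') inf_le_right) H (f.flat_appLE hV hU hUV) p
    hk (fun r hr => (residue_appLE_facts V s hV'V r).1 (fun h => (hp r).1 h hr))
    (fun r hr => (residue_appLE_facts V s hV'V r).2 ((hp r).2 hr)) M hM i (ha i hi)

end Fibre

section Main

variable {X S : Scheme.{u}} (f : X ⟶ S)

theorem main1101 [Flat f] [LocallyOfFinitePresentation f]
    [∀ s : S, DCoh.HasLpull (f.fiberι s)]
    (E : DCoh.D X) (hE : ∀ m : ℤ, DCoh.IsPseudoCoherentD m E) :
    DCoh.LocHasFiniteRelTorDim f E ↔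
      ((∀ x : X, ∃ (V : X.Opens) (a : ℤ), x ∈ V ∧ ((DCoh.restrictD V.ι).obj E).IsGE a) ∧
       ∀ (s : S) (y : ↥(f.fiber s)), ∃ (W : (f.fiber s).Opens) (a : ℤ), y ∈ W ∧
         ((DCoh.restrictD W.ι).obj ((DCoh.Lpull (f.fiberι s)).obj E)).IsGE a) := by
  constructor
  · intro hT
    refine ⟨locally_isGE_of_locHasFiniteRelTorDim f E hT, fun s => ?_⟩
    haveI : DCoh.HasLpull (pullback.fst f (S.fromSpecResidueField s)) :=
      inferInstanceAs (DCoh.HasLpull (f.fiberι s))
    have h := (main1100 f (S.fromSpecResidueField s) E ⟨hE, hT⟩).2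
    exact locally_isGE_of_locHasFiniteRelTorDim _ _ h
  · rintro ⟨hB, hFib⟩
    have hq : DCoh.IsQCohD E := Groth.Agent.Lib.RpushPCUnbH3.isQCohD_of_forall_isPC E hE
    refine (relPerfect_of_charts f E hq S.affineOpens (fun i => i.1) (fun i => i.2)
      (iSup_affineOpens_eq_top S)
      (fun i => {W : X.affineOpens // W.1 ≤ f ⁻¹ᵁ i.1}) (fun i j => j.1.1) (fun i j => j.1.2)
      (fun i j => j.2) (fun i => ?_) (fun i j M hM => ?_)).2
    · refine le_antisymm (iSup_le fun j => j.2) (fun x hx => ?_)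
      obtain ⟨W, hW, hxW, hWV⟩ := Opens.isBasis_iff_nbhd.mp X.isBasis_affineOpens
        (show x ∈ f ⁻¹ᵁ i.1 from hx)
      exact Opens.mem_iSup.2 ⟨⟨⟨W, hW⟩, hWV⟩, hxW⟩
    · obtain ⟨e⟩ := hM
      let U : X.Opens := j.1.1
      have hU : IsAffineOpen U := j.1.2
      let V : S.Opens := i.1
      have hV : IsAffineOpen V := i.2
      have hUV : U ≤ f ⁻¹ᵁ V := j.2
      letI alg : Algebra Γ(S, V) Γ(X, U) := (f.appLE V U hUV).hom.toAlgebra
      haveI : Module.Flat Γ(S, V) Γ(X, U) := f.flat_appLE hV hU hUV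
      haveI : Algebra.FinitePresentation Γ(S, V) Γ(X, U) :=
        HasRingHomProperty.appLE (P := @LocallyOfFinitePresentation) f inferInstance
          ⟨V, hV⟩ ⟨U, hU⟩ hUV
      haveI : ∀ p : PrimeSpectrum Γ(S, V),
          HasLTensor Γ(S, V) (ModuleCat.of Γ(S, V) p.asIdeal.ResidueField) := fun p =>
        Groth.Agent.Lib.LpullQCL.hasLeftDerivedFunctor_of_kproj _
      have hMpc : IsPseudoCoherent' Γ(X, U) M :=
        (isPseudoCoherent'_iff_forall M).2 (fun m =>
          (isPC_tildeD_iff' Γ(X, U) M m).1 (isPC_of_iso e (isPC_chart U hU E m (hE m))))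
      show Dual2.IsRelPerfect Γ(S, V) Γ(X, U) M
      rw [main7094 Γ(S, V) Γ(X, U) M hMpc]
      refine ⟨exists_bound_of_locally_isGE E U hU M e (fun y _ => hB y), fun p => ?_⟩
      let s : S := hV.fromSpec.base p
      have hsV : s ∈ V := fromSpec_mem V hV p
      have hp : ∀ r : Γ(S, V), s ∈ S.basicOpen r ↔ r ∉ p.asIdeal := by
        intro r
        have h1 := hV.fromSpec_preimage_basicOpen r
        have h2 : s ∈ S.basicOpen r ↔ p ∈ hV.fromSpec ⁻¹ᵁ S.basicOpen r := Iff.rfl
        rw [h2, h1]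
        exact PrimeSpectrum.mem_basicOpen r p
      haveI : DCoh.HasLpull (pullback.fst f (S.fromSpecResidueField s)) :=
        inferInstanceAs (DCoh.HasLpull (f.fiberι s))
      exact fibre_bound f E U hU V hV hUV M e hMpc s hsV p.asIdeal hp (hFib s)

end Main

end

end Groth.Agent.Lib.FibSchH3
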