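import Mathlib
import Groth.Prelude
import Groth.Agent.Lib.PerfFib1_helper3
import Groth.Agent.Lib.RelFib7_helper3
import Groth.Agent.Lib.PerfFlat4_lead
import Groth.Agent.Lib.LpullLoc_helper3
import Groth.Agent.Lib.TildePC3_helper3

/-!
# The fibre criterion for perfection, scheme level (S5629) (helper3)

* `isPerfect_of_cover`, `isPerfect_restrict`: perfection is local for open immersions.
* `isPerfect_tildeD_iff'`: S1105 in `CommRingCat` form.
* `perfect_fibre_of_isPushout'`: `perfect_fibre_of_pushout` for a pushout square in `CommRingCat`.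
* `fibre_perfect`: perfection of the derived pullback to the fibre `X_s` gives, on an affine chart,
  perfection of `(κ(p) ⊗_R A) ⊗_A E`.
* `main5629`.
-/

set_option autoImplicit false
set_option linter.all false
set_option maxHeartbeats 1600000
set_option backward.isDefEq.respectTransparency false
set_option backward.isDefEq.respectTransparency.types false
set_option backward.defeqAttrib.useBackward true

universe u
open CategoryTheory CategoryTheory.Limits AlgebraicGeometry Opposite TopologicalSpace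
open scoped TensorProduct
attribute [local instance] HasDerivedCategory.standard

namespace Groth.Agent.Lib.PerfFibSchH3

open DRing DerSch Groth.Agent.Lib.DMod_helper6 Groth.Agent.Lib.DCohLocLead
  Groth.Agent.Lib.RelPerfLocH3 Groth.Agent.Lib.RelPerfBCH3 DerivedCategory
  Groth.Agent.Lib.FibCritH3 Groth.Agent.Lib.FibSchH3 Groth.Agent.Lib.PerfFibH3
  CochainComplex Groth.Agent.ExtendScalarsLib

noncomputable section

local instance hasLBCInstPF {A B : Type u} [CommRing A] [CommRing B] (φ : A →+* B) :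
    HasLBaseChange φ := Groth.Agent.Lib.LpullQCL.hasLBaseChange φ

local instance pflInstPF (R : CommRingCat.{u}) : PreservesFiniteLimits (tilde.functor R) :=
  Groth.Agent.Lib.LpullQCL.preservesFiniteLimits_tilde R

section Local

/-- perfection can be checked on a cover by open immersions -/
theorem isPerfect_of_cover {X : Scheme.{u}} (E : DCoh.D X) {ι : Type*} (Y : ι → Scheme.{u})
    (j : ∀ i, Y i ⟶ X) [∀ i, IsOpenImmersion (j i)]
    (hcov : ∀ x : X, ∃ (i : ι) (y : Y i), (j i) y = x)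
    (h : ∀ i, DCoh.IsPerfect ((DD (j i)).obj E)) : DCoh.IsPerfect E := by
  refine isPerfect_of_locRep E (fun x => ?_)
  obtain ⟨i, y, hy⟩ := hcov x
  obtain ⟨V, hyV, hV⟩ := (isPerfect_iff _).1 (h i) y
  refine ⟨(V : Scheme.{u}), V.ι ≫ j i, inferInstance, ⟨(⟨y, hyV⟩ : V), ?_⟩,
    LocRep.trans V.ι (j i) hV⟩
  rw [Scheme.Hom.comp_apply]
  exact hy

/-- perfection passes to open subschemes -/
theorem isPerfect_restrict {X : Scheme.{u}} {K : DCoh.D X} (h : DCoh.IsPerfect K)
    {Y : Scheme.{u}} (j : Y ⟶ X) [IsOpenImmersion j] : DCoh.IsPerfect ((DD j).obj K) := by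
  rw [isPerfect_iff] at h ⊢
  intro y
  obtain ⟨V, hxV, hV⟩ := h (j y)
  let Z : Y.Opens := j ⁻¹ᵁ V
  have hyZ : y ∈ Z := hxV
  have hr : Set.range (Z.ι ≫ j) ⊆ Set.range V.ι := by
    rw [Scheme.Opens.range_ι]
    rintro _ ⟨z, rfl⟩
    exact z.2
  let k : (Z : Scheme.{u}) ⟶ (V : Scheme.{u}) := IsOpenImmersion.lift V.ι (Z.ι ≫ j) hr
  have hk : k ≫ V.ι = Z.ι ≫ j := IsOpenImmersion.lift_fac _ _ _
  haveI : IsOpenImmersion (k ≫ V.ι) := by rw [hk]; infer_instance
  haveI : IsOpenImmersion k := IsOpenImmersion.of_comp k V.ι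
  have h1 : LocRep SP (Z.ι ≫ j) K :=
    (hV.comp k V.ι (fun P hP => isStrictlyPerfect_RC _ hP)).of_eq hk
  obtain ⟨P, hP, ⟨i⟩⟩ := h1
  obtain ⟨c⟩ := nonempty_DD_comp_iso Z.ι j K
  exact ⟨Z, hyZ, P, hP, ⟨c.symm ≪≫ i⟩⟩

/-- S1105 in `CommRingCat` form -/
theorem isPerfect_tildeD_iff' (A : CommRingCat.{u})
    (M : DerivedCategory (ModuleCat.{u} A)) :
    DCoh.IsPerfect ((DCoh.tildeD A).obj M) ↔ DRing.IsPerfect A M :=
  Groth.Agent.Lib.TildePCH3.main1105 A M

end Local

section CatForm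

attribute [local instance] Algebra.TensorProduct.rightAlgebra

/-- `perfect_fibre_of_pushout` for a pushout square in `CommRingCat`, `κ = κ(p)` -/
theorem perfect_fibre_of_isPushout' {R A k A' : CommRingCat.{u}}
    (α : R ⟶ A) (β : R ⟶ k) (β' : A ⟶ A') (α' : k ⟶ A') (H : IsPushout α β β' α')
    (p : Ideal R) [p.IsPrime]
    (hk : Nontrivial k) (h0 : ∀ r ∈ p, β.hom r = 0) (h1 : ∀ r : R, r ∉ p → IsUnit (β.hom r))
    (E : Cx A) (h : IsPerfect A' (toD ((ESc β'.hom).obj E))) :
    letI : Algebra R A := α.hom.toAlgebra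
    IsPerfect (p.ResidueField ⊗[R] A)
      (toD ((ESc (algebraMap A (p.ResidueField ⊗[R] A))).obj E)) := by
  letI : Algebra R A := α.hom.toAlgebra
  letI : Algebra R k := β.hom.toAlgebra
  letI : Algebra k A' := α'.hom.toAlgebra
  letI : Algebra A A' := β'.hom.toAlgebra
  letI : Algebra R A' := (β'.hom.comp α.hom).toAlgebra
  haveI : IsScalarTower R A A' := IsScalarTower.of_algebraMap_eq (fun r => rfl)
  haveI : IsScalarTower R k A' := IsScalarTower.of_algebraMap_eq (fun r => by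
    have h := congrArg (fun k => k.hom r) H.w
    exact h)
  have H' : IsPushout (CommRingCat.ofHom (algebraMap R k)) (CommRingCat.ofHom (algebraMap R A))
      (CommRingCat.ofHom (algebraMap k A')) (CommRingCat.ofHom (algebraMap A A')) := H.flip
  haveI : Algebra.IsPushout R k A A' := CommRingCat.isPushout_iff_isPushout.1 H'
  let f₀ : R →ₐ[R] k := Algebra.ofId R k
  have hf₁ : p ≤ RingHom.ker f₀ := fun x hx => by
    rw [RingHom.mem_ker]
    exact h0 x hx
  have hf₂ : p.primeCompl ≤ (IsUnit.submonoid k).comap f₀ := fun x hx => h1 x hx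
  let ρ : p.ResidueField →ₐ[R] k := Ideal.ResidueField.liftₐ p f₀ hf₁ hf₂
  letI : Algebra p.ResidueField k := ρ.toRingHom.toAlgebra
  haveI : IsScalarTower R p.ResidueField k :=
    IsScalarTower.of_algebraMap_eq (fun x => (ρ.commutes x).symm)
  exact perfect_fibre_of_pushout (R := R) (A := A) (k := k) (A' := A')
    (κ := p.ResidueField) E h

end CatForm

section Fibre

attribute [local instance] Algebra.TensorProduct.rightAlgebra

variable {X S : Scheme.{u}} (f : X ⟶ S)

theorem fibre_perfect (E : DCoh.D X)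
    (U : X.Opens) (hU : IsAffineOpen U) (V : S.Opens) (hV : IsAffineOpen V) (hUV : U ≤ f ⁻¹ᵁ V)
    (M : DerivedCategory (ModuleCat.{u} Γ(X, U))) (e : EC U hU E ≅ (DCoh.tildeD Γ(X, U)).obj M)
    (C : Cx Γ(X, U)) (b₁ : ℤ) (hCb : VanishesAbove C b₁) (hCff : TermwiseFiniteFree C)
    (eC : toD C ≅ M)
    (s : S) (hsV : s ∈ V) (p : Ideal Γ(S, V)) [p.IsPrime]
    (hp : ∀ r : Γ(S, V), s ∈ S.basicOpen r ↔ r ∉ p)
    [DCoh.HasLpull (pullback.fst f (S.fromSpecResidueField s))]
    (hfib : DCoh.IsPerfect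
      ((DCoh.Lpull (pullback.fst f (S.fromSpecResidueField s))).obj E)) :
    letI : Algebra Γ(S, V) Γ(X, U) := (f.appLE V U hUV).hom.toAlgebra
    IsPerfect (p.ResidueField ⊗[Γ(S, V)] Γ(X, U))
      (toD ((ESc (algebraMap Γ(X, U) (p.ResidueField ⊗[Γ(S, V)] Γ(X, U)))).obj C)) := by
  let g := S.fromSpecResidueField s
  let V' : (Spec (S.residueField s)).Opens := ⊤
  have hV' : IsAffineOpen V' := isAffineOpen_top _
  have hV'V : V' ≤ g ⁻¹ᵁ V := fun z _ => by
    show g z ∈ V
    rw [Scheme.fromSpecResidueField_apply]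
    exact hsV
  have hUP : IsAffineOpen (UP f g U V') := isAffineOpen_UP f g U hU V hV V' hV' hUV hV'V
  obtain ⟨c⟩ := nonempty_chart_Lpull_iso f g U hU V' E hUP M e
  have hP1 : DCoh.IsPerfect (EC (UP f g U V') hUP ((DCoh.Lpull (pullback.fst f g)).obj E)) :=
    isPerfect_restrict (isPerfect_restrict hfib (UP f g U V').ι) hUP.isoSpec.inv
  have hP2 := (isPerfect_tildeD_iff' _ _).1 (isPerfect_of_iso c hP1)
  have hCf : TermwiseFlat C := fun j => by haveI := (hCff j).2; infer_instance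
  obtain ⟨i2⟩ := nonempty_lBaseChange_iso_of_flat
    ((pullback.fst f g).appLE U (UP f g U V') inf_le_left).hom C b₁ hCb hCf
  have hP3 : IsPerfect Γ(pullback f g, UP f g U V')
      (toD ((ESc ((pullback.fst f g).appLE U (UP f g U V') inf_le_left).hom).obj C)) :=
    Groth.Agent.Lib.DMod_helper6.isPerfect_of_iso
      ((LBaseChange ((pullback.fst f g).appLE U (UP f g U V') inf_le_left).hom).mapIso eC.symm ≪≫
        i2) hP2
  have H := isPushout_UP f g U hU V hV V' hV' hUV hV'V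
  haveI : Nonempty ↥V' := ⟨⟨default, trivial⟩⟩
  have hk : Nontrivial Γ(Spec (S.residueField s), V') := inferInstance
  exact perfect_fibre_of_isPushout' (f.appLE V U hUV) (g.appLE V V' hV'V)
    ((pullback.fst f g).appLE U (UP f g U V') inf_le_left)
    ((pullback.snd f g).appLE V' (UP f g U V') inf_le_right) H p
    hk (fun r hr => (residue_appLE_facts V s hV'V r).1 (fun h => (hp r).1 h hr))
    (fun r hr => (residue_appLE_facts V s hV'V r).2 ((hp r).2 hr)) C hP3

end Fibre

section Main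

attribute [local instance] Algebra.TensorProduct.rightAlgebra

variable {X S : Scheme.{u}} (f : X ⟶ S)

theorem main5629 [Flat f] [LocallyOfFinitePresentation f]
    [∀ s : S, DCoh.HasLpull (f.fiberι s)] (E : DCoh.D X) :
    DCoh.IsPerfect E ↔
      ((∀ m : ℤ, DCoh.IsPseudoCoherentD m E) ∧ DCoh.LocHasFiniteRelTorDim f E ∧
        ∀ s : S, DCoh.IsPerfect ((DCoh.Lpull (f.fiberι s)).obj E)) := by
  constructor
  · intro hE
    obtain ⟨h1, h2⟩ := main7248 f E hE
    exact ⟨h1, h2, fun s => Groth.Agent.Lib.LpullLocH3.isPerfect_Lpull (f.fiberι s) E hE⟩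
  · rintro ⟨hE, hT, hF⟩
    have hq : DCoh.IsQCohD E := Groth.Agent.Lib.RpushPCUnbH3.isQCohD_of_forall_isPC E hE
    have hB := locally_isGE_of_locHasFiniteRelTorDim f E hT
    refine isPerfect_of_cover E
      (ι := Σ V : S.affineOpens, {W : X.affineOpens // W.1 ≤ f ⁻¹ᵁ V.1})
      (fun i => Spec Γ(X, i.2.1.1)) (fun i => i.2.1.2.isoSpec.inv ≫ i.2.1.1.ι) ?_ ?_
    · intro x
      obtain ⟨V, hV, hxV, -⟩ := Opens.isBasis_iff_nbhd.mp S.isBasis_affineOpens
        (show f.base x ∈ (⊤ : S.Opens) from trivial)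
      obtain ⟨W, hW, hxW, hWV⟩ := Opens.isBasis_iff_nbhd.mp X.isBasis_affineOpens
        (show x ∈ f ⁻¹ᵁ V from hxV)
      obtain ⟨y, hy⟩ := exists_fromSpec_eq W hW x hxW
      exact ⟨⟨⟨V, hV⟩, ⟨⟨W, hW⟩, hWV⟩⟩, y, hy⟩
    · rintro ⟨⟨V, hV⟩, ⟨⟨U, hU⟩, hUV⟩⟩
      obtain ⟨c⟩ := nonempty_DD_comp_iso hU.isoSpec.inv U.ι E
      refine isPerfect_of_iso c.symm ?_
      show DCoh.IsPerfect (EC U hU E)
      have hqU : DCoh.IsQCohD (EC U hU E) :=
        Groth.Agent.Lib.LpullQCL.isQCohD_restrictD _ _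
          (Groth.Agent.Lib.LpullQCL.isQCohD_restrictD _ _ hq)
      obtain ⟨M, ⟨eM⟩⟩ := ((Groth.Agent.Lib.DSectX.main0997 Γ(X, U)).2.2 _).1 hqU
      have e : EC U hU E ≅ (DCoh.tildeD Γ(X, U)).obj M := eM.symm
      refine isPerfect_of_iso e.symm ((isPerfect_tildeD_iff' _ _).2 ?_)
      letI alg : Algebra Γ(S, V) Γ(X, U) := (f.appLE V U hUV).hom.toAlgebra
      have hMpc : IsPseudoCoherent' Γ(X, U) M :=
        (isPseudoCoherent'_iff_forall M).2 (fun m =>
          (isPC_tildeD_iff' Γ(X, U) M m).1 (isPC_of_iso e (isPC_chart U hU E m (hE m))))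
      obtain ⟨a, ha⟩ := exists_bound_of_locally_isGE E U hU M e (fun y _ => hB y)
      obtain ⟨C, b₁, hCb, hCff, ⟨eC⟩⟩ := hMpc
      have hex : ∀ i : ℤ, i < a → C.ExactAt i := fun i hi =>
        (exactAt_iff_subsingleton_HD eC i).2 (ha i hi)
      refine Groth.Agent.Lib.DMod_helper6.isPerfect_of_iso eC ?_
      refine perfect_of_fibres_perfect Γ(S, V) Γ(X, U) C b₁ hCb hCff a hex (fun p hp => ?_)
      let pp : PrimeSpectrum Γ(S, V) := ⟨p, hp⟩
      let s : S := hV.fromSpec.base pp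
      have hsV : s ∈ V := fromSpec_mem V hV pp
      have hps : ∀ r : Γ(S, V), s ∈ S.basicOpen r ↔ r ∉ p := by
        intro r
        have h1 := hV.fromSpec_preimage_basicOpen r
        have h2 : s ∈ S.basicOpen r ↔ pp ∈ hV.fromSpec ⁻¹ᵁ S.basicOpen r := Iff.rfl
        rw [h2, h1]
        exact PrimeSpectrum.mem_basicOpen r pp
      haveI : DCoh.HasLpull (pullback.fst f (S.fromSpecResidueField s)) :=
        inferInstanceAs (DCoh.HasLpull (f.fiberι s))
      exact fibre_perfect f E U hU V hV hUV M e C b₁ hCb hCff eC s hsV p hps (hF s)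

end Main

end

end Groth.Agent.Lib.PerfFibSchH3
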