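import Mathlib
import Groth.Prelude
import Groth.Agent.Lib.FibProdTor2_helper3
import Groth.Agent.Lib.TorPush6_helper3
import Groth.Agent.Lib.PerfFib2_helper3
import Groth.Agent.Lib.DMod50_helper6
import Groth.Agent.Lib.DSect6_lead

/-!
# Direct images of perfect complexes along proper perfect morphisms (helper3)

* `locFiniteTorDim_of_isPerfectMor`: a perfect morphism is locally of finite tor dimension
  (stalkwise form).
* `exists_isLE_of_isPerfect`: a perfect object on a quasi-compact scheme is bounded above.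
* `main4267`: `Y` locally Noetherian, `f : X ⟶ Y` proper and perfect, `E` perfect and bounded
  below: `Rf_* E` is perfect.
-/

set_option autoImplicit false
set_option linter.all false
set_option maxHeartbeats 1600000
set_option backward.isDefEq.respectTransparency false
set_option backward.isDefEq.respectTransparency.types false
set_option backward.defeqAttrib.useBackward true

universe u
open CategoryTheory CategoryTheory.Limits AlgebraicGeometry Opposite TopologicalSpace

attribute [local instance] HasDerivedCategory.standard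

namespace Groth.Agent.Lib.PerfMorPushH3

open Groth.Agent.Lib.DCohLocLead Groth.Agent.Lib.TorPushH3 Groth.Agent.Lib.RelPCPropH3
  Groth.Agent.Lib.FibProdTorH3 Groth.Agent.Lib.DMod_helper6 Groth.Agent.Lib.BCOpenL
  Groth.Agent.Lib.PerfFibSchH3 DerSch DRing DerivedCategory

noncomputable section

variable {X Y : Scheme.{u}}

/-- a perfect morphism is locally of finite tor dimension -/
theorem locFiniteTorDim_of_isPerfectMor (f : X ⟶ Y) (hf : MoreMor.IsPerfectMor f) :
    DerSch.LocFiniteTorDim f := by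
  intro x
  obtain ⟨V, hV, hyV, -⟩ := Opens.isBasis_iff_nbhd.mp Y.isBasis_affineOpens
    (Opens.mem_top (f.base x))
  obtain ⟨U, hU, hxU, hUV⟩ := Opens.isBasis_iff_nbhd.mp X.isBasis_affineOpens
    (show x ∈ f ⁻¹ᵁ V from hyV)
  letI : Algebra Γ(Y, V) Γ(X, U) := (f.appLE V U hUV).hom.toAlgebra
  obtain ⟨-, n, hn⟩ := hf U V hU hV hUV
  have h1 : HasTorAmplitudeIn Γ(Y, V) (-(n : ℤ)) 0 (Dual.inD Γ(Y, V) Γ(X, U)) :=
    (hasTorDimLE_iff Γ(X, U) n).1 hn
  have h2 : TD (f.appLE V U hUV).hom n :=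
    hasTorAmplitudeIn_of_iso (restrictDInDSelfIso (A := Γ(Y, V)) (B := Γ(X, U))).symm _ _ h1
  exact ⟨U, -(n : ℤ), 0, hxU, (torDim_chart f U hU V hV hUV n).2 h2⟩

/-- a perfect object on a quasi-compact scheme is bounded above -/
theorem exists_isLE_of_isPerfect [CompactSpace X] (E : DCoh.D X) (hE : DCoh.IsPerfect E) :
    ∃ b : ℤ, E.IsLE b := by
  let F := Q.objPreimage E
  let eF : DCoh.toD X F ≅ E := Q.objObjPreimageIso E
  have htd := ((main914 E).1 hE).2
  have hloc : LocFiniteTorAmplitude (𝟙 X) F := by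
    intro x
    obtain ⟨V, a, b, hxV, hV⟩ := htd x
    exact ⟨V, a, b, hxV, fun x' hx' =>
      Groth.Agent.Lib.TorSmoothH3.stalkwise_of_flatAmp_restrict F V a b (hV F ⟨eF⟩) x' hx'⟩
  obtain ⟨a, b, hab⟩ := exists_uniform_torAmp (𝟙 X) F hloc Set.univ isCompact_univ
  have htor : HasTorAmplitude (𝟙 X) a b F := fun x => hab x trivial
  refine ⟨b, ?_⟩
  have h1 : (DCoh.toD X F).IsLE b := (DerivedCategory.isLE_iff _ b).2
    (fun i hi => isZero_HD_of_hasTorAmplitude (𝟙 X) F a b htor i (Or.inr hi))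
  exact isLE_of_iso' eF b h1

/-- **S4267** -/
theorem main4267 [IsLocallyNoetherian Y] (f : X ⟶ Y) [IsProper f]
    (hf : MoreMor.IsPerfectMor f) [DCoh.HasRpush f] (E : DCoh.D X) (b : ℤ) [E.IsGE b]
    (hE : DCoh.IsPerfect E) : DCoh.IsPerfect ((DCoh.Rpush f).obj E) := by
  haveI : IsLocallyNoetherian X := LocallyOfFiniteType.isLocallyNoetherian f
  have hpcE : ∀ m : ℤ, DCoh.IsPseudoCoherentD m E := fun m => isPC_of_isPerfect hE m
  have hcoh : DCoh.IsCohD E := fun i => Groth.Agent.Lib.TensPCH3.isCoh_HD_of_isPC E hpcE i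
  rw [main914]
  constructor
  · intro m
    have key : ∀ V : Y.affineOpens,
        DCoh.IsPseudoCoherentD m ((DD V.1.ι).obj ((DCoh.Rpush f).obj E)) := by
      intro V
      haveI : CompactSpace (V.1 : Scheme.{u}) := isCompact_iff_compactSpace.mp V.2.isCompact
      haveI : IsNoetherian (V.1 : Scheme.{u}) := {}
      haveI : IsProper (f ∣_ V.1) :=
        IsZariskiLocalAtTarget.restrict (P := @IsProper) inferInstance V.1
      haveI := hasRpush (f ∣_ V.1)
      obtain ⟨b1⟩ := main6508 f V.1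
      let E' : DCoh.D ((f ⁻¹ᵁ V.1 : X.Opens) : Scheme.{u}) := (DD (f ⁻¹ᵁ V.1).ι).obj E
      have e : (DD V.1.ι).obj ((DCoh.Rpush f).obj E) ≅ (DCoh.Rpush (f ∣_ V.1)).obj E' :=
        b1.app E
      have hW : IsCompact ((f ⁻¹ᵁ V.1 : X.Opens) : Set X) :=
        (inferInstance : QuasiCompact f).1 _ V.1.isOpen V.2.isCompact
      haveI : CompactSpace ((f ⁻¹ᵁ V.1 : X.Opens) : Scheme.{u}) :=
        isCompact_iff_compactSpace.mp hW
      obtain ⟨c, hc⟩ := exists_isLE_of_isPerfect E' (isPerfect_restrict hE _)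
      haveI : E'.IsGE b := isGE_DD _ E b inferInstance
      haveI : E'.IsLE c := hc
      have hcoh' : DCoh.IsCohD E' := isCohD_DD _ E hcoh
      obtain ⟨h1, h2, c', h3⟩ := Groth.Agent.Lib.RpushCohDH3.main1001 (f ∣_ V.1) E' b c hcoh'
        (fun i => isProperOver_support _ _ (hcoh' i).2)
      exact isPC_of_iso e.symm (isPC_of_coh _ c' m h3 (fun i _ => h1 i))
    rw [isPC_iff]
    intro y
    obtain ⟨V, hV, hyV, -⟩ := Opens.isBasis_iff_nbhd.mp Y.isBasis_affineOpens (Opens.mem_top y)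
    exact pcAt_of_isPC_restrict V hyV (key ⟨V, hV⟩)
  · let F := Q.objPreimage E
    let eF : DCoh.toD X F ≅ E := Q.objObjPreimageIso E
    have hqc : DCoh.IsQCohD (DCoh.toD X F) :=
      Groth.Agent.Lib.DSectX.isQCohD_of_iso eF.symm (fun i => (hcoh i).1)
    have htdE : DCoh.LocHasFiniteTorDim (DCoh.toD X F) := by
      intro x
      obtain ⟨V, a, b', hxV, hV⟩ := ((main914 E).1 hE).2 x
      exact ⟨V, a, b', hxV, fun F' ⟨i⟩ => hV F' ⟨i ≪≫ eF⟩⟩
    have h := main6193 f (locFiniteTorDim_of_isPerfectMor f hf) F hqc htdE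
    intro y
    obtain ⟨V, a, b', hyV, hV⟩ := h y
    exact ⟨V, a, b', hyV, fun F' ⟨i⟩ => hV F' ⟨i ≪≫ (DCoh.Rpush f).mapIso eF.symm⟩⟩

end

end Groth.Agent.Lib.PerfMorPushH3
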