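import Mathlib
import Groth.Prelude
import Groth.Agent.Lib.DualSch2_helper3
import Groth.Agent.Lib.RSheafHomEx1_helper3
import Groth.Agent.Lib.HomCoprod1_helper3
import Groth.Agent.Lib.CompQ3_lead
import Groth.Agent.Lib.RpushCons_lead

/-!
# `RHom(K, -)` commutes with direct sums for `K` perfect (helper3)

* `exists_local_dual_nat`: for `K` perfect, locally `RHom(K, -)|_V ≅ (-)|_V ⊗^L E^∨` as functors.
* `nonempty_cofan_RSheafHom`: `RHom(K, -)` preserves direct sums.
-/

set_option autoImplicit false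
set_option linter.all false
set_option maxHeartbeats 1600000
set_option backward.isDefEq.respectTransparency false
set_option backward.isDefEq.respectTransparency.types false
set_option backward.defeqAttrib.useBackward true

universe u
open CategoryTheory CategoryTheory.Limits AlgebraicGeometry Opposite TopologicalSpace
open HomologicalComplex

attribute [local instance] HasDerivedCategory.standard

namespace Groth.Agent.Lib.RHomCoprodH3

open ModSite Groth.Agent.Lib.ModSiteH8 Groth.Agent.Lib.DualLFH4 Groth.Agent.Lib.CxAdjH3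
  Groth.Agent.Lib.DualModH3 Groth.Agent.Lib.DualDerH3 Groth.Agent.Lib.PjShriekH3
  Groth.Agent.Lib.DCohLocLead Groth.Agent.Lib.PerfTensH3 DerivedCategory
  Groth.Agent.Lib.DualSchH3 Groth.Agent.Lib.CompQL

attribute [local instance] Groth.Agent.Lib.ModSiteH8.hasSheafHom

noncomputable section

variable {X : Scheme.{u}}

/-- **local description of the functor `RHom(K, -)` for `K` perfect** -/
theorem exists_local_dual_nat (K : CochainComplex X.Modules ℤ)
    (hK : DCoh.IsPerfect (Q.obj K)) [DCoh.HasLTensorCx K] [DCoh.HasRSheafHom K] (x : X) :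
    ∃ (V : X.Opens) (_ : x ∈ V) (E : CochainComplex (V : Scheme.{u}).Modules ℤ)
      (_ : DCoh.IsStrictlyPerfect E)
      (_ : DCoh.HasLTensorCx (dualCx (V : Scheme.{u}).sheaf E)),
      Nonempty (DCoh.RSheafHom K ⋙ DCoh.restrictD V.ι ≅
        DCoh.restrictD V.ι ⋙ DCoh.LTensorCx (dualCx (V : Scheme.{u}).sheaf E)) := by
  obtain ⟨V, hxV, hV⟩ := (isPerfect_iff (Q.obj K)).1 hK x
  have hVr : Set.range V.ι ⊆ (V : Set X) := by
    rw [Scheme.Opens.range_ι]
  obtain ⟨E, hE, ⟨e⟩⟩ := Groth.Agent.Lib.FibreRkH3.LocRep.of_range_le' hV V.ι hVr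
  have hE' : DCoh.IsStrictlyPerfect E := hE
  -- K-flat replacement
  obtain ⟨K', π, hK', hπ⟩ := Groth.Agent.Lib.DTorCmp.exists_kflat_resolution' K
  haveI := hπ
  haveI : IsIso (Q.map π) := by rw [DerivedCategory.isIso_Q_map_iff_quasiIso]; infer_instance
  haveI : DCoh.HasLTensorCx K' := Groth.Agent.Lib.PjCxH3.hasLTensorCx_of_isKFlat K' hK'
  haveI : DCoh.HasRSheafHom K' := hasRSheafHom_of_Q_iso K K' (asIso (Q.map π)).symm
  obtain ⟨ρ⟩ := nonempty_RSheafHom_iso_of_Q_iso K K' (asIso (Q.map π)).symm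
  have hKV : DCoh.IsKFlat ((DCoh.restrictCx V).obj K') := isKFlat_RC V.ι K' hK'
  haveI : DCoh.HasLTensorCx ((DCoh.restrictCx V).obj K') :=
    Groth.Agent.Lib.PjCxH3.hasLTensorCx_of_isKFlat _ hKV
  have hKE : DCoh.IsKFlat E := isKFlat_of_isStrictlyPerfect E hE'
  have hKD : DCoh.IsKFlat (dualCx (V : Scheme.{u}).sheaf E) :=
    isKFlat_of_isStrictlyPerfect _ (isStrictlyPerfect_dualCx E hE')
  haveI : DCoh.HasLTensorCx E := Groth.Agent.Lib.PjCxH3.hasLTensorCx_of_isKFlat E hKE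
  haveI hLD : DCoh.HasLTensorCx (dualCx (V : Scheme.{u}).sheaf E) :=
    Groth.Agent.Lib.PjCxH3.hasLTensorCx_of_isKFlat _ hKD
  obtain ⟨adjE⟩ := nonempty_adj E hE'
  haveI : DCoh.HasRSheafHom E := adjE.isLeftAdjoint
  let eV : Q.obj ((DCoh.restrictCx V).obj K') ≅ Q.obj E :=
    (facIso V.ι K').symm ≪≫ (DD V.ι).mapIso (asIso (Q.map π)) ≪≫ e
  haveI : DCoh.HasRSheafHom ((DCoh.restrictCx V).obj K') := hasRSheafHom_of_Q_iso E _ eV.symm
  obtain ⟨γ⟩ := nonempty_LTensorCx_iso_of_Q_iso ((DCoh.restrictCx V).obj K') E eV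
  let ρV : DCoh.RSheafHom ((DCoh.restrictCx V).obj K') ≅
      DCoh.LTensorCx (dualCx (V : Scheme.{u}).sheaf E) :=
    Adjunction.rightAdjointUniq (DCoh.RSheafHomAdj ((DCoh.restrictCx V).obj K'))
      (adjE.ofNatIsoLeft γ.symm)
  obtain ⟨e1⟩ := nonempty_RSheafHom_restrict_iso V K'
  exact ⟨V, hxV, E, hE', hLD, ⟨Functor.isoWhiskerRight ρ (DCoh.restrictD V.ι) ≪≫ e1 ≪≫
    Functor.isoWhiskerLeft (DCoh.restrictD V.ι) ρV⟩⟩

/-- the local step -/
theorem isIso_restrict_desc (H : DCoh.D X ⥤ DCoh.D X) (V : X.Opens)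
    (LV : DCoh.D (V : Scheme.{u}) ⥤ DCoh.D (V : Scheme.{u})) {ι : Type u}
    [PreservesColimitsOfShape (Discrete ι) LV]
    (e : H ⋙ DCoh.restrictD V.ι ≅ DCoh.restrictD V.ι ⋙ LV)
    (M : ι → DCoh.D X) (P : DCoh.D X) (g : ∀ i, M i ⟶ P) (hc : IsColimit (Cofan.mk P g))
    [HasCoproduct (fun i => H.obj (M i))] :
    IsIso ((DCoh.restrictD V.ι).map (Sigma.desc (fun i => H.map (g i)))) := by
  obtain ⟨adjV⟩ := HomVanL.nonempty_adj_DD V.ι
  have hcA : IsColimit (Cofan.mk ((DCoh.restrictD V.ι).obj (∐ fun i => H.obj (M i)))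
      (fun i => (DCoh.restrictD V.ι).map (Sigma.ι (fun i => H.obj (M i)) i))) :=
    (nonempty_cofan_of_adj (coproductIsCoproduct (fun i => H.obj (M i))) adjV).some
  have hc1 : IsColimit (Cofan.mk ((DCoh.restrictD V.ι).obj P)
      (fun i => (DCoh.restrictD V.ι).map (g i))) :=
    (nonempty_cofan_of_adj hc adjV).some
  have hc2 : IsColimit (Cofan.mk (LV.obj ((DCoh.restrictD V.ι).obj P))
      (fun i => LV.map ((DCoh.restrictD V.ι).map (g i)))) :=
    isColimitCofanMkObjOfIsColimit LV _ _ hc1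
  have hcB : IsColimit (Cofan.mk ((DCoh.restrictD V.ι).obj (H.obj P))
      (fun i => (DCoh.restrictD V.ι).map (H.map (g i)))) :=
    HomCoprodH3.isColimit_cofan_of_iso
      (inj := fun i => LV.map ((DCoh.restrictD V.ι).map (g i)))
      (inj' := fun i => (DCoh.restrictD V.ι).map (H.map (g i)))
      (fun i => e.app (M i)) (e.app P)
      (fun i => e.hom.naturality (g i)) hc2
  exact isIso_of_cofans hcA hcB (fun l => Iso.refl _) _ (fun l => by
    rw [Iso.refl_hom, Category.id_comp, ← Functor.map_comp, Sigma.ι_desc])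

/-- **`RHom(K, -)` preserves direct sums for `K` perfect** -/
theorem nonempty_cofan_RSheafHom (K : CochainComplex X.Modules ℤ)
    (hK : DCoh.IsPerfect (Q.obj K)) [DCoh.HasLTensorCx K] [DCoh.HasRSheafHom K]
    {ι : Type u} (M : ι → DCoh.D X) (P : DCoh.D X) (g : ∀ i, M i ⟶ P)
    (hc : IsColimit (Cofan.mk P g)) :
    Nonempty (IsColimit (Cofan.mk ((DCoh.RSheafHom K).obj P)
      (fun i => (DCoh.RSheafHom K).map (g i)))) := by
  haveI : HasCoproduct (fun i => (DCoh.RSheafHom K).obj (M i)) := hasCoproduct_D X _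
  suffices h : IsIso (Sigma.desc (fun i => (DCoh.RSheafHom K).map (g i))) from
    nonempty_cofan_of_isIso_desc (fun i => (DCoh.RSheafHom K).map (g i)) h
  refine Groth.Agent.Lib.RpushConsL.isIso_of_cover _
    (fun x : X => (exists_local_dual_nat K hK x).choose)
    (fun x => ⟨x, (exists_local_dual_nat K hK x).choose_spec.choose⟩) (fun x => ?_)
  obtain ⟨-, E, -, hLD, ⟨e⟩⟩ := (exists_local_dual_nat K hK x).choose_spec
  haveI := hLD
  haveI := Groth.Agent.Lib.RSheafHomExH3.preservesCoprod_LTensorCx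
    (dualCx (((exists_local_dual_nat K hK x).choose : X.Opens) : Scheme.{u}).sheaf E) ι
  exact isIso_restrict_desc (DCoh.RSheafHom K) _ _ e M P g hc

end

end Groth.Agent.Lib.RHomCoprodH3
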