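import Mathlib
import Groth.Prelude
import Groth.Agent.Lib.CptO1_helper3
import Groth.Agent.Lib.RHomCoprod1_helper3
import Groth.Agent.Lib.PerfMorPush_helper3
import Groth.Agent.Lib.RHomPC3_helper3

/-!
# Perfect objects of `D(O_X)` are compact, `X` qcqs (helper3; S0893)

For `K` perfect, `Hom(K, M) = Hom(O, RHom(K, M))`, `RHom(K, -)` commutes with direct sums and is
bounded, and maps from `O` into direct sums factor finitely (`CptOH3`).
-/

set_option autoImplicit false
set_option linter.all false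
set_option maxHeartbeats 1600000
set_option backward.isDefEq.respectTransparency false
set_option backward.isDefEq.respectTransparency.types false
set_option backward.defeqAttrib.useBackward true

universe u
open CategoryTheory CategoryTheory.Limits AlgebraicGeometry Opposite TopologicalSpace
open DerivedCategory

attribute [local instance] HasDerivedCategory.standard

namespace Groth.Agent.Lib.CptPerfAllH3

open Groth.Agent.Lib Groth.Agent.Lib.CompQL Groth.Agent.Lib.CptFamH3 Groth.Agent.Lib.CptOH3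
open Groth.Agent.Lib.DualSchH3 Groth.Agent.Lib.RHomCoprodH3

noncomputable section

variable {X : Scheme.{u}}

theorem isPerfect_of_iso {K K' : DCoh.D X} (e : K ≅ K') (h : DCoh.IsPerfect K) :
    DCoh.IsPerfect K' := by
  intro x
  obtain ⟨V, hxV, hV⟩ := h x
  exact ⟨V, hxV, fun F ⟨i⟩ => hV F ⟨i ≪≫ e.symm⟩⟩

/-- the class of uniformly bounded below families -/
def BB (X : Scheme.{u}) : Fam X := fun ι M => ∃ a : ℤ, ∀ i, (M i).IsGE a

/-- the class of all families -/
def All (X : Scheme.{u}) : Fam X := fun _ _ => True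

variable [CompactSpace X] [QuasiSeparatedSpace X]

/-- transfer from the structure sheaf to a perfect object -/
theorem cqf_of_isPerfect (Pr : Fam X) (K : DCoh.D X) (hK : DCoh.IsPerfect K)
    (h0 : CQF Pr ((singleFunctor X.Modules 0).obj (P0 X)))
    (hPr : ∀ (R : CochainComplex X.Modules ℤ) [DCoh.HasLTensorCx R] [DCoh.HasRSheafHom R] (b : ℤ),
      (Q.obj R).IsLE b → ∀ (ι : Type u) (M : ι → DCoh.D X), Pr ι M →
        Pr ι (fun i => (DCoh.RSheafHom R).obj (M i))) : CQF Pr K := by
  obtain ⟨R, π, hR, hπ⟩ := Groth.Agent.Lib.DTorCmp.exists_kflat_resolution' (Q.objPreimage K)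
  haveI := hπ
  haveI : IsIso (Q.map π) := by rw [DerivedCategory.isIso_Q_map_iff_quasiIso]; infer_instance
  let eK : Q.obj R ≅ K := asIso (Q.map π) ≪≫ Q.objObjPreimageIso K
  haveI : DCoh.HasLTensorCx R := Groth.Agent.Lib.PjCxH3.hasLTensorCx_of_isKFlat R hR
  haveI : DCoh.HasRSheafHom R := Groth.Agent.Lib.RSheafHomExH3.hasRSheafHom R
  have hPerf : DCoh.IsPerfect (Q.obj R) := isPerfect_of_iso eK.symm hK
  obtain ⟨b, hb⟩ := Groth.Agent.Lib.PerfMorPushH3.exists_isLE_of_isPerfect (Q.obj R) hPerf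
  have h1 : CQF Pr ((DCoh.LTensorCx R).obj ((singleFunctor X.Modules 0).obj (P0 X))) :=
    CQF.of_adj (DCoh.RSheafHomAdj R) (Pr := Pr) (Pr' := Pr)
      (fun ι M hM => hPr R b hb ι M hM)
      (fun ι M _ P g hc => nonempty_cofan_RSheafHom R hPerf M P g hc) h0
  obtain ⟨eu⟩ := nonempty_LTensorCx_unit_iso R hR
  exact CQF.of_iso ((DCoh.LTensorCx R).mapIso ((singleFunctor X.Modules 0).mapIso (rho X)) ≪≫
    eu ≪≫ eK) h1

theorem cqf_BB_P0 : CQF (BB X) ((singleFunctor X.Modules 0).obj (P0 X)) :=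
  cqf_P0 X (BB X) (fun ι K ⟨a, h⟩ => rep_bb X K a h)

theorem cqf_All_P0 (d : ℕ)
    (hd : ∀ (F : X.Modules) (i : ℕ), d < i → Subsingleton (Coh.HH X F i)) :
    CQF (All X) ((singleFunctor X.Modules 0).obj (P0 X)) :=
  cqf_P0 X (All X) (fun ι K _ => rep_fd X d hd K)

/-- **S0893** -/
theorem main0893 (K : DCoh.D X) (hK : DCoh.IsPerfect K) :
    (∀ (I : Type u) (M : I → DCoh.D X) [HasCoproduct fun i : ULift.{u + 1} I => M i.down] (a : ℤ),
      (∀ i, (M i).IsGE a) →
      Function.Bijective (CohDer.homSumToHomCoprod K (fun i : ULift.{u + 1} I => M i.down))) ∧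
    ((∃ d : ℕ, ∀ (F : X.Modules) (i : ℕ), d < i → Subsingleton (Coh.HH X F i)) →
      ∀ (I : Type u) (M : I → DCoh.D X) [HasCoproduct fun i : ULift.{u + 1} I => M i.down],
      Function.Bijective (CohDer.homSumToHomCoprod K (fun i : ULift.{u + 1} I => M i.down))) := by
  constructor
  · intro I M _ a hM
    have h : CQF (BB X) K := cqf_of_isPerfect (BB X) K hK cqf_BB_P0
      (fun R _ _ b hb ι M ⟨a, hM⟩ => ⟨a - b, fun i =>
        Groth.Agent.Lib.RHomPCH3.isGE_RSheafHom R b hb (M i) a (hM i)⟩)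
    exact bijective_of_cqf h I M ⟨a, hM⟩
  · rintro ⟨d, hd⟩ I M _
    have h : CQF (All X) K := cqf_of_isPerfect (All X) K hK (cqf_All_P0 d hd)
      (fun R _ _ b hb ι M _ => trivial)
    exact bijective_of_cqf h I M trivial

end

end Groth.Agent.Lib.CptPerfAllH3
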