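import Mathlib
import Groth.Prelude.Def_CohDer
import Groth.Agent.Lib.CompactBB_helper7
import Groth.Agent.Lib.PerfCpt1_helper7

/-!
# Tools for "compact objects are retracts of bounded complexes of finite sums of generators" (helper7)
-/

set_option autoImplicit false
set_option backward.isDefEq.respectTransparency false
universe w v u
open CategoryTheory Limits Pretriangulated Opposite

namespace Groth.Agent.Lib.CptRetract

open Groth.Agent.Lib.CompactBB (FinC IsFinSum)

section Split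

variable {A : Type u} [Category.{v} A] [Preadditive A] [HasCoproducts.{w} A]
  {Λ : Type w} {E : Λ → A} {X : A} {inj : ∀ l, E l ⟶ X} (hc : IsColimit (Cofan.mk X inj))

/-- sub-coproduct -/
noncomputable abbrev sub (E : Λ → A) (q : Λ → Prop) : A := ∐ (fun x : {l // q l} => E x.1)

/-- the inclusion of a sub-coproduct -/
noncomputable def sa (inj : ∀ l, E l ⟶ X) (q : Λ → Prop) : sub E q ⟶ X :=
  Sigma.desc (fun x => inj x.1)

open Classical in
/-- the projection onto a sub-coproduct -/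
noncomputable def sb (q : Λ → Prop) : X ⟶ sub E q :=
  Cofan.IsColimit.desc hc
    (fun l => if h : q l then Sigma.ι (fun x : {l // q l} => E x.1) ⟨l, h⟩ else 0)

lemma inj_sb_pos (q : Λ → Prop) {l : Λ} (h : q l) :
    inj l ≫ sb hc q = Sigma.ι (fun x : {l // q l} => E x.1) ⟨l, h⟩ := by
  classical
  have := Cofan.IsColimit.fac hc
    (fun l => if h : q l then Sigma.ι (fun x : {l // q l} => E x.1) ⟨l, h⟩ else 0) l
  exact this.trans (dif_pos h)

lemma inj_sb_neg (q : Λ → Prop) {l : Λ} (h : ¬ q l) : inj l ≫ sb hc q = 0 := by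
  classical
  have := Cofan.IsColimit.fac hc
    (fun l => if h : q l then Sigma.ι (fun x : {l // q l} => E x.1) ⟨l, h⟩ else 0) l
  exact this.trans (dif_neg h)

lemma ι_sa (q : Λ → Prop) (x : {l // q l}) :
    Sigma.ι (fun x : {l // q l} => E x.1) x ≫ sa inj q = inj x.1 := by
  unfold sa
  simp

lemma sa_sb (q : Λ → Prop) : sa inj q ≫ sb hc q = 𝟙 _ := by
  apply Sigma.hom_ext
  intro x
  rw [← Category.assoc, ι_sa, inj_sb_pos hc q x.2, Category.comp_id]

lemma sa_sb_disj (q q' : Λ → Prop) (h : ∀ l, q l → ¬ q' l) : sa inj q ≫ sb hc q' = 0 := by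
  apply Sigma.hom_ext
  intro x
  rw [← Category.assoc, ι_sa, inj_sb_neg hc q' (h x.1 x.2), comp_zero]

lemma sb_sa_sb (q q' : Λ → Prop) (h : ∀ l, q' l → q l) :
    sb hc q ≫ sa inj q ≫ sb hc q' = sb hc q' := by
  apply Cofan.IsColimit.hom_ext hc
  intro l
  change inj l ≫ _ = inj l ≫ _
  by_cases hl : q l
  · rw [← Category.assoc, inj_sb_pos hc q hl, ← Category.assoc, ι_sa]
  · rw [← Category.assoc, inj_sb_neg hc q hl, zero_comp,
      inj_sb_neg hc q' (fun h' => hl (h l h'))]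

lemma total (p : Λ → Prop) :
    sb hc p ≫ sa inj p + sb hc (fun l => ¬ p l) ≫ sa inj (fun l => ¬ p l) = 𝟙 X := by
  apply Cofan.IsColimit.hom_ext hc
  intro l
  change inj l ≫ _ = inj l ≫ _
  rw [Preadditive.comp_add, Category.comp_id]
  by_cases hl : p l
  · rw [← Category.assoc, inj_sb_pos hc p hl, ι_sa, ← Category.assoc,
      inj_sb_neg hc _ (not_not.2 hl), zero_comp, add_zero]
  · rw [← Category.assoc, inj_sb_neg hc p hl, zero_comp, ← Category.assoc,
      inj_sb_pos hc _ hl, ι_sa, zero_add]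

end Split

section Class

variable {A : Type u} [Category.{v} A] [Abelian A] (S : Set A)

/-- transport of a colimit cofan along an isomorphism of the point -/
noncomputable def isColimitOfIso {ι : Type*} {E : ι → A} {X Y : A} {inj : ∀ i, E i ⟶ X}
    (hc : IsColimit (Cofan.mk X inj)) (e : X ≅ Y) :
    IsColimit (Cofan.mk Y (fun i => inj i ≫ e.hom)) :=
  mkCofanColimit _ (fun s => e.inv ≫ Cofan.IsColimit.desc hc s.inj)
    (fun s j => by
      change (inj j ≫ e.hom) ≫ e.inv ≫ _ = _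
      rw [Category.assoc, e.hom_inv_id_assoc]
      exact Cofan.IsColimit.fac hc _ j)
    (fun s m hm => by
      rw [Iso.eq_inv_comp]
      apply Cofan.IsColimit.hom_ext hc
      intro j
      exact ((Category.assoc _ _ _).symm.trans (hm j)).trans (Cofan.IsColimit.fac hc _ j).symm)

/-- `X` is a coproduct of members of `S` -/
def SumS (X : A) : Prop :=
  ∃ (ι : Type v) (E : ι → A) (inj : ∀ i, E i ⟶ X), (∀ i, E i ∈ S) ∧
    Nonempty (IsColimit (Cofan.mk X inj))

/-- `X` is a finite coproduct of members of `S` -/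
def FinSumS (X : A) : Prop :=
  ∃ (ι : Type v) (_ : Finite ι) (E : ι → A) (inj : ∀ i, E i ⟶ X), (∀ i, E i ∈ S) ∧
    Nonempty (IsColimit (Cofan.mk X inj))

variable {S}

lemma FinSumS.sumS {X : A} (h : FinSumS S X) : SumS S X := by
  obtain ⟨ι, _, E, inj, hE, hc⟩ := h
  exact ⟨ι, E, inj, hE, hc⟩

lemma sumS_of_iso {X Y : A} (e : X ≅ Y) (h : SumS S X) : SumS S Y := by
  obtain ⟨ι, E, inj, hE, ⟨hc⟩⟩ := h
  exact ⟨ι, E, fun i => inj i ≫ e.hom, hE, ⟨isColimitOfIso hc e⟩⟩

lemma finSumS_of_iso {X Y : A} (e : X ≅ Y) (h : FinSumS S X) : FinSumS S Y := by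
  obtain ⟨ι, hι, E, inj, hE, ⟨hc⟩⟩ := h
  exact ⟨ι, hι, E, fun i => inj i ≫ e.hom, hE, ⟨isColimitOfIso hc e⟩⟩

lemma finSumS_of_isZero {X : A} (h : IsZero X) : FinSumS S X :=
  ⟨PEmpty.{v + 1}, inferInstance, fun i => i.elim, fun i => i.elim, fun i => i.elim,
    ⟨mkCofanColimit _ (fun s => 0) (fun s j => j.elim) (fun s m _ => h.eq_of_src _ _)⟩⟩

lemma sumS_sigma [HasCoproducts.{v} A] {ι : Type v} (E : ι → A) (hE : ∀ i, E i ∈ S) :
    SumS S (∐ E) :=
  ⟨ι, E, Sigma.ι E, hE, ⟨coproductIsCoproduct E⟩⟩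

lemma finSumS_sigma [HasCoproducts.{v} A] {ι : Type v} [Finite ι] (E : ι → A)
    (hE : ∀ i, E i ∈ S) : FinSumS S (∐ E) :=
  ⟨ι, inferInstance, E, Sigma.ι E, hE, ⟨coproductIsCoproduct E⟩⟩

lemma sumS_biprod {X Y : A} (hX : SumS S X) (hY : SumS S Y) : SumS S (X ⊞ Y) := by
  obtain ⟨ι₁, E₁, inj₁, hE₁, ⟨hc₁⟩⟩ := hX
  obtain ⟨ι₂, E₂, inj₂, hE₂, ⟨hc₂⟩⟩ := hY
  refine ⟨ι₁ ⊕ ι₂, Sum.elim E₁ E₂,
    fun i => Sum.rec (motive := fun i => Sum.elim E₁ E₂ i ⟶ X ⊞ Y)
      (fun i => inj₁ i ≫ biprod.inl) (fun i => inj₂ i ≫ biprod.inr) i, ?_,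
    ⟨mkCofanColimit _ (fun s => biprod.desc
      (Cofan.IsColimit.desc hc₁ (fun i => s.inj (Sum.inl i)))
      (Cofan.IsColimit.desc hc₂ (fun i => s.inj (Sum.inr i)))) ?_ ?_⟩⟩
  · rintro (i | i)
    · exact hE₁ i
    · exact hE₂ i
  · rintro s (i | i)
    · change (inj₁ i ≫ biprod.inl) ≫ _ = _
      rw [Category.assoc, biprod.inl_desc]
      exact Cofan.IsColimit.fac hc₁ _ i
    · change (inj₂ i ≫ biprod.inr) ≫ _ = _
      rw [Category.assoc, biprod.inr_desc]
      exact Cofan.IsColimit.fac hc₂ _ i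
  · intro s m hm
    apply biprod.hom_ext'
    · rw [biprod.inl_desc]
      apply Cofan.IsColimit.hom_ext hc₁
      intro i
      exact ((Category.assoc _ _ _).symm.trans (hm (Sum.inl i))).trans
        (Cofan.IsColimit.fac hc₁ (fun i => s.inj (Sum.inl i)) i).symm
    · rw [biprod.inr_desc]
      apply Cofan.IsColimit.hom_ext hc₂
      intro i
      exact ((Category.assoc _ _ _).symm.trans (hm (Sum.inr i))).trans
        (Cofan.IsColimit.fac hc₂ (fun i => s.inj (Sum.inr i)) i).symm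

/-- a finite coproduct of members of `S` is a biproduct indexed by `Fin n` -/
lemma FinSumS.exists_fin [HasFiniteBiproducts A] {X : A} (h : FinSumS S X) :
    ∃ (n : ℕ) (E : Fin n → A), (∀ j, E j ∈ S) ∧ Nonempty (X ≅ ⨁ E) := by
  obtain ⟨ι, hι, E, inj, hE, ⟨hc⟩⟩ := h
  obtain ⟨n, ⟨e⟩⟩ := Finite.exists_equiv_fin ι
  have hc' := PerfCpt.isColimitReindex e.symm hc
  exact ⟨n, fun j => E (e.symm j), fun j => hE _,
    ⟨IsColimit.coconePointUniqueUpToIso hc' (biproduct.isColimit (fun j => E (e.symm j)))⟩⟩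

end Class

section Pres

lemma finC_of_preserves {C : Type*} [Category C] [Preadditive C] (E : C) {I : Type*}
    [PreservesColimitsOfShape (Discrete I) (preadditiveCoyoneda.obj (op E))] {X : I → C} {Y : C}
    {inj : ∀ i, X i ⟶ Y} (hc : IsColimit (Cofan.mk Y inj)) : FinC E (Cofan.mk Y inj) := by
  intro φ
  have hcol := isColimitCofanMkObjOfIsColimit (preadditiveCoyoneda.obj (op E)) X inj hc
  obtain ⟨s, y, hy⟩ := CompactBB.ab_gen _ hcol φ
  exact ⟨s, y, hy⟩

end Pres

section Ker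

variable {A : Type u} [Category.{v} A] [Abelian A] [HasDerivedCategory.{w} A]

open HomologicalComplex DerivedCategory

/-- the kernel of a termwise epimorphism onto a complex concentrated in one degree -/
lemma exists_kernel_cx (L : CochainComplex A ℤ) (c : ℤ) (F : A) (q : L.X c ⟶ F)
    (hq : ∀ j, (ComplexShape.up ℤ).Rel j c → L.d j c ≫ q = 0) [Epi q] :
    ∃ (L' : CochainComplex A ℤ) (ι : L' ⟶ L)
      (δ : Q.obj ((single A (ComplexShape.up ℤ) c).obj F) ⟶ (Q.obj L')⟦(1 : ℤ)⟧),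
      Triangle.mk (Q.map ι) (Q.map (mkHomToSingle q hq)) δ ∈ distTriang (DerivedCategory A) ∧
      (∀ j, Mono (ι.f j)) ∧ (∀ j, j ≠ c → IsIso (ι.f j)) ∧ ι.f c ≫ q = 0 ∧
      ∀ (W : A) (f : W ⟶ L.X c), f ≫ q = 0 → ∃ g : W ⟶ L'.X c, g ≫ ι.f c = f := by
  let π : L ⟶ (single A (ComplexShape.up ℤ) c).obj F := mkHomToSingle q hq
  have hπc : π.f c = q ≫ (singleObjXSelf (ComplexShape.up ℤ) c F).inv := mkHomToSingle_f q hq
  have hπ : ∀ j, Epi (π.f j) := by
    intro j
    by_cases hj : j = c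
    · subst hj
      rw [hπc]
      infer_instance
    · exact ⟨fun g h _ => (isZero_single_obj_X (ComplexShape.up ℤ) c F j hj).eq_of_src g h⟩
  haveI : Epi π := HomologicalComplex.epi_of_epi_f π hπ
  have hS : (ShortComplex.kernelSequence π).ShortExact :=
    ShortComplex.ShortExact.mk' (ShortComplex.kernelSequence_exact π) inferInstance
      (by
        change Epi π
        infer_instance)
  have hj : ∀ j, ((ShortComplex.kernelSequence π).map
      (HomologicalComplex.eval A (ComplexShape.up ℤ) j)).ShortExact :=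
    fun j => hS.map_of_exact _
  refine ⟨kernel π, kernel.ι π, triangleOfSESδ hS, triangleOfSES_distinguished hS, ?_, ?_, ?_, ?_⟩
  · intro j
    exact (hj j).mono_f
  · intro j hjc
    haveI : Mono ((kernel.ι π).f j) := (hj j).mono_f
    have h2 : π.f j = 0 := (isZero_single_obj_X (ComplexShape.up ℤ) c F j hjc).eq_of_tgt _ _
    haveI : Epi ((kernel.ι π).f j) := (hj j).exact.epi_f h2
    exact isIso_of_mono_of_epi _
  · have h0 : (kernel.ι π).f c ≫ π.f c = 0 := by
      rw [← HomologicalComplex.comp_f, kernel.condition]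
      rfl
    rw [hπc, ← Category.assoc] at h0
    exact (cancel_mono (singleObjXSelf (ComplexShape.up ℤ) c F).inv).1 (h0.trans zero_comp.symm)
  · intro W f hf
    haveI : Mono ((ShortComplex.kernelSequence π).map
        (HomologicalComplex.eval A (ComplexShape.up ℤ) c)).f := (hj c).mono_f
    have h0 : f ≫ ((ShortComplex.kernelSequence π).map
        (HomologicalComplex.eval A (ComplexShape.up ℤ) c)).g = 0 := by
      change f ≫ π.f c = 0
      rw [hπc, ← Category.assoc, hf, zero_comp]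
    exact (hj c).exact.lift' f h0

end Ker

end Groth.Agent.Lib.CptRetract
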