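import Mathlib
import Groth.Agent.Lib.CptRetract1_helper7
import Groth.Agent.Lib.PerfCpt3_helper7
import Groth.Agent.Lib.ResSystem_helper2
import Groth.Agent.Lib.StupidTr_helper7
import Groth.Agent.Lib.DerCoprod2_helper9
import Groth.Agent.Lib.CompactFam_helper9
import Groth.Agent.Lib.CompactHocolim_helper9
import Groth.Agent.Lib.HocolimCompact_helper9
import Groth.Agent.Lib.HocolimColim_helper9

/-!
# Compact objects of `D(A)` are retracts of bounded complexes of finite sums of generators (helper7)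
-/

set_option autoImplicit false
set_option backward.isDefEq.respectTransparency false
universe v u
open CategoryTheory Limits Pretriangulated Opposite ZeroObject

namespace Groth.Agent.Lib.CptRetract

open Groth.Agent.Lib.CompactBB (FinC IsFinSum)
open HomologicalComplex DerivedCategory

section Trunc

variable {A : Type u} [Category.{v} A] [Abelian A]

instance monoTrι' (P : CochainComplex A ℤ) (a : ℤ) : Mono (StupidTr.trι P a) :=
  HomologicalComplex.mono_of_mono_f _ (fun _ => inferInstance)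

/-- the sequence of stupid truncations -/
noncomputable def trSeq' (P : CochainComplex A ℤ) : ℕ ⥤ CochainComplex A ℤ where
  obj m := StupidTr.tr P (-(m : ℤ))
  map {m m'} f := StupidTr.trMap P (show -(m' : ℤ) ≤ -(m : ℤ) by
    have := leOfHom f
    omega)
  map_id m := by
    rw [← cancel_mono (StupidTr.trι P _), StupidTr.trMap_trι, Category.id_comp]
  map_comp f g := by
    rw [← cancel_mono (StupidTr.trι P _), Category.assoc, StupidTr.trMap_trι,
      StupidTr.trMap_trι, StupidTr.trMap_trι]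

/-- the cocone of the stupid truncations -/
noncomputable def trCocone' (P : CochainComplex A ℤ) : Cocone (trSeq' P) where
  pt := P
  ι :=
    { app := fun m => StupidTr.trι P (-(m : ℤ))
      naturality := fun m m' f => by
        change StupidTr.trMap P _ ≫ StupidTr.trι P _ = StupidTr.trι P _ ≫ 𝟙 _
        rw [StupidTr.trMap_trι, Category.comp_id] }

noncomputable def isColimitTr' (P : CochainComplex A ℤ) : IsColimit (trCocone' P) :=
  HomologicalComplex.isColimitOfEval _ _ (fun j =>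
    PerfCpt.isColimitOfEventuallyIso _ (-j).toNat (fun m hm => by
      change IsIso ((StupidTr.trι P (-(m : ℤ))).f j)
      apply StupidTr.isIso_trι_f
      have := Int.self_le_toNat (-j)
      omega))

end Trunc

section Main

variable {A : Type u} [Category.{v} A] [Abelian A] [IsGrothendieckAbelian.{v} A]
  [HasCoproducts.{v} A] [HasDerivedCategory.{v} A] [HasCoproducts.{v} (DerivedCategory A)]

/-- compactness in cofan form -/
def FCv (K : DerivedCategory A) : Prop :=
  ∀ (I : Type v) (X : I → DerivedCategory A) (c : Cofan X), IsColimit c → FinC K c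

lemma fcv_of_compact {K : DerivedCategory A} (hK : CohDer.IsCompactObject K) : FCv K := by
  classical
  intro I X c hc
  have h1 : FinC K (Cofan.mk (∐ X) (Sigma.ι X)) := by
    intro φ
    obtain ⟨x, rfl⟩ := (hK I X).2 φ
    refine ⟨x.support, fun i => x i, ?_⟩
    conv_lhs => rw [← DirectSum.sum_support_of x]
    rw [map_sum]
    exact Finset.sum_congr rfl (fun i _ => CompactFam.homSum_of X i (x i))
  exact CompactBB.finC_of_iso K (fun i => Iso.refl (X i)) (coproductIsCoproduct X) hc h1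

omit [HasCoproducts.{v} A] [HasDerivedCategory.{v} A] [HasCoproducts.{v} (DerivedCategory A)] in
lemma hasExactN : HasExactColimitsOfShape ℕ A := by
  let e := ULiftHomULiftCategory.equiv.{v, v} ℕ
  haveI : IsFiltered (ULiftHom.{v} (ULift.{v} ℕ)) := IsFiltered.of_equivalence e
  exact HasExactColimitsOfShape.of_domain_equivalence _ e.symm

theorem factor_seq (K : DerivedCategory A) (hK : CohDer.IsCompactObject K)
    (L : ℕ ⥤ CochainComplex A ℤ) (c : Cocone L) (hc : IsColimit c) (x : K ⟶ Q.obj c.pt) :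
    ∃ (n : ℕ) (y : K ⟶ Q.obj (L.obj n)), y ≫ Q.map (c.ι.app n) = x := by
  haveI : HasExactColimitsOfShape ℕ A := hasExactN
  haveI : PreservesColimitsOfShape (Discrete ℕ) (preadditiveCoyoneda.obj (op K)) := by
    haveI := CompactH9.presCoprod_of_isCompactObject hK (ULift.{v} ℕ)
    exact preservesColimitsOfShape_of_equiv (Discrete.equivalence Equiv.ulift) _
  haveI : PreservesColimit (Discrete.functor L.obj) (DerivedCategory.Q (C := A)) :=
    DerCoprod.preservesColimit_Q L.obj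
  have hL := HocolimColim.isHocolim L
  let ε : colimit L ≅ c.pt := (colimit.isColimit L).coconePointUniqueUpToIso hc
  have hε : ∀ n, colimit.ι L n ≫ ε.hom = c.ι.app n := fun n =>
    (colimit.isColimit L).comp_coconePointUniqueUpToIso_hom hc n
  obtain ⟨h1, -⟩ := HocolimCompact.colim_hom (C := K) (L ⋙ DerivedCategory.Q)
    (DerivedCategory.Q.obj (colimit L)) (fun n => DerivedCategory.Q.map (colimit.ι L n)) hL
  obtain ⟨n, y, hy⟩ := h1 (x ≫ Q.map ε.inv)
  refine ⟨n, y, ?_⟩
  rw [← hε n, Functor.map_comp, ← Category.assoc, hy, Category.assoc, ← Functor.map_comp,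
    ε.inv_hom_id, CategoryTheory.Functor.map_id, Category.comp_id]

variable (S : Set A)

/-- `K` is a retract of a complex in `[a, b]` of sums of members of `S`, finite in degrees `< c` -/
def Ret (K : DerivedCategory A) (a b c : ℤ) : Prop :=
  ∃ (L : CochainComplex A ℤ) (i : K ⟶ Q.obj L) (r : Q.obj L ⟶ K), i ≫ r = 𝟙 K ∧
    (∀ j : ℤ, j < a ∨ b < j → IsZero (L.X j)) ∧ (∀ j, SumS S (L.X j)) ∧
    ∀ j, j < c → FinSumS S (L.X j)

lemma exists_ret
    (h1 : ∀ X : A, ∃ (ι : Type v) (E : ι → A) (π : ∐ E ⟶ X), (∀ i, E i ∈ S) ∧ Epi π)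
    (K : DerivedCategory A) (hK : CohDer.IsCompactObject K) : ∃ a b : ℤ, Ret S K a b a := by
  obtain ⟨G, ⟨e⟩⟩ : ∃ G : CochainComplex A ℤ, Nonempty (Q.obj G ≅ K) :=
    ⟨Q.objPreimage K, ⟨Q.objObjPreimageIso K⟩⟩
  haveI : HasExactColimitsOfShape ℕ A := hasExactN
  obtain ⟨Kc, π, _, _, hb, hfree, _, cc, _, hq⟩ :=
    Groth.Agent.Lib.ResSystem.exists_system (SumS S) G
      (fun X => by
        obtain ⟨ι, E, π, hE, hπ⟩ := h1 X
        exact ⟨∐ E, π, sumS_sigma E hE, hπ⟩)
      ⟨0, isZero_zero A, (finSumS_of_isZero (isZero_zero A)).sumS⟩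
      (fun e h => sumS_of_iso e h)
      (fun hX hY => sumS_biprod hX hY)
  haveI := hq
  obtain ⟨n, y, hy⟩ := factor_seq K hK Kc (colimit.cocone Kc) (colimit.isColimit Kc)
    (e.inv ≫ inv (Q.map cc))
  let r₁ : Q.obj (Kc.obj n) ⟶ K := Q.map ((colimit.cocone Kc).ι.app n) ≫ Q.map cc ≫ e.hom
  have hir₁ : y ≫ r₁ = 𝟙 K := by
    change y ≫ Q.map ((colimit.cocone Kc).ι.app n) ≫ Q.map cc ≫ e.hom = 𝟙 K
    rw [← Category.assoc, hy]
    simp
  obtain ⟨b, hb'⟩ := hb n
  haveI := hb'
  obtain ⟨m, y', hy'⟩ := factor_seq K hK (trSeq' (Kc.obj n)) (trCocone' (Kc.obj n))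
    (isColimitTr' (Kc.obj n)) y
  have hy'' : y' ≫ Q.map (StupidTr.trι (Kc.obj n) (-(m : ℤ))) = y := hy'
  have hterm : ∀ j, -(m : ℤ) ≤ j → Nonempty ((Kc.obj n).X j ≅
      (StupidTr.tr (Kc.obj n) (-(m : ℤ))).X j) := fun j hj => by
    haveI := StupidTr.isIso_trι_f (Kc.obj n) _ hj
    exact ⟨(asIso ((StupidTr.trι (Kc.obj n) (-(m : ℤ))).f j)).symm⟩
  refine ⟨-(m : ℤ), b, StupidTr.tr (Kc.obj n) (-(m : ℤ)), y',
    Q.map (StupidTr.trι (Kc.obj n) (-(m : ℤ))) ≫ r₁, ?_, ?_, ?_, ?_⟩
  · rw [← Category.assoc, hy'', hir₁]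
  · intro j hj
    rcases hj with hj | hj
    · exact StupidTr.isZero_tr_X (Kc.obj n) _ (by omega)
    · exact IsZero.of_mono ((StupidTr.trι (Kc.obj n) (-(m : ℤ))).f j)
        ((Kc.obj n).isZero_of_isStrictlyLE b j hj)
  · intro j
    by_cases hj : -(m : ℤ) ≤ j
    · exact sumS_of_iso (hterm j hj).some (hfree n j)
    · exact (finSumS_of_isZero (StupidTr.isZero_tr_X (Kc.obj n) _ hj)).sumS
  · intro j hj
    exact finSumS_of_isZero (StupidTr.isZero_tr_X (Kc.obj n) _ (by omega))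

variable {S}

lemma ret_succ
    (h2 : ∀ E ∈ S, ∀ ι : Type v,
      PreservesColimitsOfShape (Discrete ι) (preadditiveCoyoneda.obj (op E)))
    (K : DerivedCategory A) (hK : FCv K) (a b c : ℤ) (h : Ret S K a b c) :
    Ret S K a b (c + 1) := by
  classical
  obtain ⟨L, i, r, hir, hvan, hsum, hfin⟩ := h
  obtain ⟨Λ, E, inj, hE, ⟨hc⟩⟩ := hsum c
  obtain ⟨ι', hι', E', inj', hE', ⟨hc'⟩⟩ := hfin (c - 1) (by omega)
  haveI := Fintype.ofFinite ι'
  -- step A: the differential has finite support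
  have hfs : ∀ i' : ι', ∃ (s : Finset Λ) (g : ∀ l, E' i' ⟶ E l),
      inj' i' ≫ L.d (c - 1) c = ∑ l ∈ s, g l ≫ inj l := fun i' => by
    haveI := h2 (E' i') (hE' i') Λ
    obtain ⟨s, g, hg⟩ := finC_of_preserves (E' i') hc (inj' i' ≫ L.d (c - 1) c)
    exact ⟨s, g, hg⟩
  choose s g hsg using hfs
  let T₀ : Finset Λ := Finset.univ.biUnion s
  have hd₀ : L.d (c - 1) c ≫ sb hc (fun l => l ∉ T₀) = 0 := by
    apply Cofan.IsColimit.hom_ext hc'
    intro i'
    change inj' i' ≫ L.d (c - 1) c ≫ sb hc (fun l => l ∉ T₀) = inj' i' ≫ 0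
    rw [comp_zero, ← Category.assoc, hsg i', Preadditive.sum_comp]
    refine Finset.sum_eq_zero (fun l hl => ?_)
    rw [Category.assoc, inj_sb_neg hc (fun l => l ∉ T₀)
      (fun h => h (Finset.mem_biUnion.2 ⟨i', Finset.mem_univ _, hl⟩)), comp_zero]
  have hq₀' : ∀ j, (ComplexShape.up ℤ).Rel j c → L.d j c ≫ sb hc (fun l => l ∉ T₀) = 0 := by
    intro j hj
    have hj' : j + 1 = c := hj
    have : j = c - 1 := by omega
    subst this
    exact hd₀
  let π₀ : L ⟶ (single A (ComplexShape.up ℤ) c).obj (sub E (fun l => l ∉ T₀)) :=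
    mkHomToSingle (sb hc (fun l => l ∉ T₀)) hq₀'
  -- compactness
  have hcol : IsColimit (Cofan.mk
      (Q.obj ((single A (ComplexShape.up ℤ) c).obj (sub E (fun l => l ∉ T₀))))
      (fun x : {l // l ∉ T₀} => Q.map ((single A (ComplexShape.up ℤ) c).map
        (Sigma.ι (fun x : {l // l ∉ T₀} => E x.1) x)))) := by
    haveI := DerCoprod.preservesColimit_Q (fun x : {l // l ∉ T₀} =>
      (single A (ComplexShape.up ℤ) c).obj (E x.1))
    exact isColimitCofanMkObjOfIsColimit Q _ _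
      (isColimitCofanMkObjOfIsColimit (single A (ComplexShape.up ℤ) c) _ _
        (coproductIsCoproduct (fun x : {l // l ∉ T₀} => E x.1)))
  obtain ⟨s₁, g₁, hg₁⟩ := hK _ _ _ hcol (i ≫ Q.map π₀)
  have hg₁' : i ≫ Q.map π₀ = ∑ x ∈ s₁, g₁ x ≫ Q.map ((single A (ComplexShape.up ℤ) c).map
      (Sigma.ι (fun x : {l // l ∉ T₀} => E x.1) x)) := hg₁
  -- enlarge the finite set
  let T : Finset Λ := T₀ ∪ s₁.map (Function.Embedding.subtype _)
  have hTT₀ : ∀ l, l ∉ T → l ∉ T₀ := fun l hl h => hl (Finset.mem_union_left _ h)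
  let ρ : sub E (fun l => l ∉ T₀) ⟶ sub E (fun l => l ∉ T) :=
    sa inj (fun l => l ∉ T₀) ≫ sb hc (fun l => l ∉ T)
  have hρ : sb hc (fun l => l ∉ T₀) ≫ ρ = sb hc (fun l => l ∉ T) :=
    sb_sa_sb hc (fun l => l ∉ T₀) (fun l => l ∉ T) hTT₀
  have hq₁' : ∀ j, (ComplexShape.up ℤ).Rel j c → L.d j c ≫ sb hc (fun l => l ∉ T) = 0 := by
    intro j hj
    rw [← hρ, ← Category.assoc, hq₀' j hj, zero_comp]
  let π₁ : L ⟶ (single A (ComplexShape.up ℤ) c).obj (sub E (fun l => l ∉ T)) :=
    mkHomToSingle (sb hc (fun l => l ∉ T)) hq₁'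
  have hπ₁ : π₁ = π₀ ≫ (single A (ComplexShape.up ℤ) c).map ρ := by
    apply to_single_hom_ext
    change (mkHomToSingle (sb hc (fun l => l ∉ T)) hq₁').f c =
      (mkHomToSingle (sb hc (fun l => l ∉ T₀)) hq₀').f c ≫ _
    rw [mkHomToSingle_f, mkHomToSingle_f, single_map_f_self, Category.assoc,
      Iso.inv_hom_id_assoc, ← Category.assoc, hρ]
  have hzero : i ≫ Q.map π₁ = 0 := by
    rw [hπ₁, Functor.map_comp, ← Category.assoc, hg₁', Preadditive.sum_comp]
    refine Finset.sum_eq_zero (fun x hx => ?_)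
    rw [Category.assoc, ← Functor.map_comp, ← Functor.map_comp]
    have h0 : Sigma.ι (fun x : {l // l ∉ T₀} => E x.1) x ≫ ρ = 0 := by
      change Sigma.ι (fun x : {l // l ∉ T₀} => E x.1) x ≫
        sa inj (fun l => l ∉ T₀) ≫ sb hc (fun l => l ∉ T) = 0
      rw [← Category.assoc, ι_sa, inj_sb_neg hc (fun l => l ∉ T) (l := x.1)
        (fun h => h (Finset.mem_union_right _ (Finset.mem_map.2 ⟨x, hx, rfl⟩)))]
    rw [h0, Functor.map_zero, Functor.map_zero, comp_zero]
  haveI : Epi (sb hc (fun l => l ∉ T)) := epi_of_epi_fac (sa_sb hc (fun l => l ∉ T))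
  obtain ⟨L', ι, δ, hT, hmono, hiso, hιq, hlift⟩ :=
    exists_kernel_cx L c (sub E (fun l => l ∉ T)) (sb hc (fun l => l ∉ T)) hq₁'
  obtain ⟨i', hi'⟩ := Triangle.coyoneda_exact₂ _ hT i hzero
  have hi'' : i = i' ≫ Q.map ι := hi'
  -- the degree `c` term of the kernel
  obtain ⟨θ, hθ⟩ := hlift (sub E (fun l => l ∈ T)) (sa inj (fun l => l ∈ T))
    (sa_sb_disj hc (fun l => l ∈ T) (fun l => l ∉ T) (fun l hl h => h hl))
  have htot := total hc (fun l => l ∈ T)
  have htot' : sb hc (fun l => l ∈ T) ≫ sa inj (fun l => l ∈ T) =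
      𝟙 _ - sb hc (fun l => l ∉ T) ≫ sa inj (fun l => l ∉ T) := eq_sub_of_add_eq htot
  haveI := hmono c
  let eX : sub E (fun l => l ∈ T) ≅ L'.X c :=
    { hom := θ
      inv := ι.f c ≫ sb hc (fun l => l ∈ T)
      hom_inv_id := by rw [← Category.assoc, hθ, sa_sb]
      inv_hom_id := by
        rw [← cancel_mono (ι.f c), Category.assoc, Category.assoc, hθ, htot', Category.id_comp,
          Preadditive.comp_sub, Category.comp_id, ← Category.assoc, hιq, zero_comp, sub_zero] }
  have hfinc : FinSumS S (L'.X c) :=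
    finSumS_of_iso eX (finSumS_sigma (fun x : {l // l ∈ T} => E x.1) (fun x => hE x.1))
  have hisoj : ∀ j, j ≠ c → Nonempty (L.X j ≅ L'.X j) := fun j hj => by
    haveI := hiso j hj
    exact ⟨(asIso (ι.f j)).symm⟩
  refine ⟨L', i', Q.map ι ≫ r, ?_, ?_, ?_, ?_⟩
  · rw [← Category.assoc, ← hi'', hir]
  · intro j hj
    haveI := hmono j
    exact IsZero.of_mono (ι.f j) (hvan j hj)
  · intro j
    by_cases hj : j = c
    · subst hj
      exact hfinc.sumS
    · exact sumS_of_iso (hisoj j hj).some (hsum j)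
  · intro j hj
    by_cases hjc : j = c
    · subst hjc
      exact hfinc
    · exact finSumS_of_iso (hisoj j hjc).some (hfin j (by omega))

theorem main [HasFiniteBiproducts A]
    (h1 : ∀ X : A, ∃ (ι : Type v) (E : ι → A) (π : ∐ E ⟶ X), (∀ i, E i ∈ S) ∧ Epi π)
    (h2 : ∀ E ∈ S, ∀ ι : Type v,
      PreservesColimitsOfShape (Discrete ι) (preadditiveCoyoneda.obj (op E)))
    (K : DerivedCategory A) (hK : CohDer.IsCompactObject K) :
    ∃ (L : CochainComplex A ℤ) (a b : ℤ),
      (∀ i : ℤ, i < a ∨ b < i → IsZero (L.X i)) ∧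
      (∀ i : ℤ, ∃ (n : ℕ) (E : Fin n → A), (∀ j, E j ∈ S) ∧ Nonempty (L.X i ≅ ⨁ E)) ∧
      Nonempty (Retract K (DerivedCategory.Q.obj L)) := by
  have hfc := fcv_of_compact hK
  obtain ⟨a, b, h0⟩ := exists_ret S h1 K hK
  have hn : ∀ n : ℕ, Ret S K a b (a + n) := by
    intro n
    induction n with
    | zero => simpa using h0
    | succ n ih =>
      have e : a + ((n + 1 : ℕ) : ℤ) = a + n + 1 := by
        push_cast
        ring
      rw [e]
      exact ret_succ h2 K hfc a b _ ih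
  obtain ⟨L, i, r, hir, hvan, hsum, hfin⟩ := hn (b + 1 - a).toNat
  refine ⟨L, a, b, hvan, fun j => ?_, ⟨⟨i, r, hir⟩⟩⟩
  by_cases hj : j ≤ b
  · exact (hfin j (by
      have := Int.self_le_toNat (b + 1 - a)
      omega)).exists_fin
  · exact (finSumS_of_isZero (hvan j (Or.inr (by omega)))).exists_fin

end Main

end Groth.Agent.Lib.CptRetract
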