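import Mathlib

open PowerSeries

namespace Groth.Agent.Lib.Crimp

universe u

variable {k : Type u} [Field k]

local notation "Λ" => PowerSeries k
local notation "V" => (Fin 3 → PowerSeries k)

theorem third : ∀ i j : Fin 3, ∃ l, l ≠ i ∧ l ≠ j := by decide

theorem cover : ∀ i j l : Fin 3, i ≠ j → l ≠ i → l ≠ j → ∀ y, y = i ∨ y = j ∨ y = l := by decide

theorem mem_span_smul_top (a : Λ) (x : V) :
    x ∈ Ideal.span {a} • (⊤ : Submodule Λ V) ↔ ∃ w : V, x = a • w := by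
  constructor
  · intro hx
    refine Submodule.smul_induction_on hx ?_ ?_
    · intro r hr n _
      obtain ⟨c, rfl⟩ := Ideal.mem_span_singleton'.mp hr
      exact ⟨c • n, by rw [mul_comm, mul_smul]⟩
    · rintro x y ⟨w, rfl⟩ ⟨w', rfl⟩
      exact ⟨w + w', by rw [smul_add]⟩
  · rintro ⟨w, rfl⟩
    exact Submodule.smul_mem_smul (Ideal.mem_span_singleton_self a) Submodule.mem_top

theorem mem_S (m n : ℕ) (f : V) (x : V) :
    x ∈ Submodule.span Λ {(1 : V), ((X : Λ) ^ m) • f} ⊔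
        Ideal.span {(X : Λ) ^ n} • (⊤ : Submodule Λ V)
      ↔ ∃ a b : Λ, ∃ w : V, x = a • (1 : V) + b • (((X : Λ) ^ m) • f) + ((X : Λ) ^ n) • w := by
  rw [Submodule.mem_sup]
  constructor
  · rintro ⟨y, hy, z, hz, rfl⟩
    obtain ⟨a, b, rfl⟩ := Submodule.mem_span_pair.mp hy
    obtain ⟨w, rfl⟩ := (mem_span_smul_top _ _).mp hz
    exact ⟨a, b, w, rfl⟩
  · rintro ⟨a, b, w, rfl⟩
    exact ⟨_, Submodule.mem_span_pair.mpr ⟨a, b, rfl⟩, _,
      (mem_span_smul_top _ _).mpr ⟨w, rfl⟩, rfl⟩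

theorem mul_closed (m n : ℕ) (hn : n ≤ 2 * m) (f : V) (x y : V)
    (hx : ∃ a b : Λ, ∃ w : V, x = a • (1 : V) + b • (((X : Λ) ^ m) • f) + ((X : Λ) ^ n) • w)
    (hy : ∃ a b : Λ, ∃ w : V, y = a • (1 : V) + b • (((X : Λ) ^ m) • f) + ((X : Λ) ^ n) • w) :
    ∃ a b : Λ, ∃ w : V, x * y = a • (1 : V) + b • (((X : Λ) ^ m) • f) + ((X : Λ) ^ n) • w := by
  obtain ⟨a, b, w, rfl⟩ := hx
  obtain ⟨a', b', w', rfl⟩ := hy
  obtain ⟨d, hd⟩ := Nat.exists_eq_add_of_le hn
  have hX : (X : Λ) ^ m * (X : Λ) ^ m = (X : Λ) ^ n * (X : Λ) ^ d := by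
    rw [← pow_add, ← pow_add]; congr 1; omega
  refine ⟨a * a', a * b' + a' * b,
    fun t => b * b' * (X:Λ)^d * f t * f t + (a + b * (X:Λ)^m * f t) * w' t
      + (a' + b' * (X:Λ)^m * f t) * w t + (X:Λ)^n * w t * w' t, ?_⟩
  funext t
  simp only [Pi.mul_apply, Pi.add_apply, Pi.smul_apply, Pi.one_apply, smul_eq_mul]
  linear_combination (b * b' * f t * f t) * hX

theorem core (m n : ℕ) (hmn : m ≤ n) (f : V) (i j l : Fin 3) (hij : i ≠ j) (hli : l ≠ i)
    (hlj : l ≠ j) (ui : Λ) (hui : ui * (f j - f i) = 1) (S : Submodule Λ V)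
    (hS : ∀ x, x ∈ S ↔ ∃ a b : Λ, ∃ w : V,
      x = a • (1 : V) + b • (((X : Λ) ^ m) • f) + ((X : Λ) ^ n) • w) :
    Nonempty ((V ⧸ S) ≃ₗ[Λ]
      ((Λ ⧸ Ideal.span {(X : Λ) ^ m}) × (Λ ⧸ Ideal.span {(X : Λ) ^ n}))) := by
  classical
  have key : ∀ y : Fin 3, y = i ∨ y = j ∨ y = l := cover i j l hij hli hlj
  obtain ⟨d, hd⟩ := Nat.exists_eq_add_of_le hmn
  have hX : (X : Λ) ^ n = (X : Λ) ^ m * (X : Λ) ^ d := by rw [← pow_add, hd]
  let α : V →ₗ[Λ] Λ := ui • ((LinearMap.proj j : V →ₗ[Λ] Λ) - (LinearMap.proj i : V →ₗ[Λ] Λ))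
  let β : V →ₗ[Λ] Λ := (LinearMap.proj l : V →ₗ[Λ] Λ) - (LinearMap.proj i : V →ₗ[Λ] Λ) - (f l - f i) • α
  have hα : ∀ v : V, α v = ui * (v j - v i) := fun v => rfl
  have hβ : ∀ v : V, β v = v l - v i - (f l - f i) * (ui * (v j - v i)) := fun v => rfl
  let φ : V →ₗ[Λ] ((Λ ⧸ Ideal.span {(X : Λ) ^ m}) × (Λ ⧸ Ideal.span {(X : Λ) ^ n})) :=
    ((Submodule.mkQ (Ideal.span {(X : Λ) ^ m})).comp α).prod
      ((Submodule.mkQ (Ideal.span {(X : Λ) ^ n})).comp β)
  have hφ : ∀ v, φ v = (Submodule.Quotient.mk (α v), Submodule.Quotient.mk (β v)) :=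
    fun v => rfl
  have hsurj : Function.Surjective φ := by
    rintro ⟨a', b'⟩
    obtain ⟨a, rfl⟩ := Submodule.Quotient.mk_surjective _ a'
    obtain ⟨b, rfl⟩ := Submodule.Quotient.mk_surjective _ b'
    obtain ⟨v, hv⟩ : ∃ v : V, ∀ x, v x = a * (f x - f i) + b * (if x = l then 1 else 0) :=
      ⟨_, fun x => rfl⟩
    refine ⟨v, ?_⟩
    have hαv : α v = a := by
      rw [hα, hv j, hv i, if_neg hlj.symm, if_neg hli.symm]; linear_combination a * hui
    have hβv : β v = b := by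
      rw [hβ, hv j, hv i, hv l, if_neg hlj.symm, if_neg hli.symm, if_pos rfl]
      linear_combination (-(a * (f l - f i))) * hui
    rw [hφ, hαv, hβv]
  have hker : LinearMap.ker φ = S := by
    ext x
    rw [LinearMap.mem_ker, hS, hφ, Prod.mk_eq_zero, Submodule.Quotient.mk_eq_zero,
      Submodule.Quotient.mk_eq_zero, Ideal.mem_span_singleton', Ideal.mem_span_singleton',
      hα, hβ]
    constructor
    · rintro ⟨⟨a', ha'⟩, ⟨b', hb'⟩⟩
      refine ⟨x i - (ui * (x j - x i)) * f i, a', fun t => if t = l then b' else 0, ?_⟩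
      funext y
      simp only [Pi.add_apply, Pi.smul_apply, Pi.one_apply, smul_eq_mul]
      rcases key y with h | h | h
      · rw [h, if_neg hli.symm]
        linear_combination (-(f i)) * ha'
      · rw [h, if_neg hlj.symm]
        linear_combination (-(x j - x i)) * hui + (-(f j)) * ha'
      · rw [h, if_pos rfl]
        linear_combination (-(f l)) * ha' - hb'
    · rintro ⟨a, b, w, rfl⟩
      simp only [Pi.add_apply, Pi.smul_apply, Pi.one_apply, smul_eq_mul]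
      refine ⟨⟨b + (X:Λ)^d * ui * (w j - w i), ?_⟩,
        ⟨(w l - w i) - (f l - f i) * ui * (w j - w i), ?_⟩⟩
      · linear_combination (-(b * (X:Λ)^m)) * hui - (ui * (w j - w i)) * hX
      · linear_combination (b * (X:Λ)^m * (f l - f i)) * hui
  exact ⟨(Submodule.quotEquivOfEq _ _ hker.symm).trans (φ.quotKerEquivOfSurjective hsurj)⟩

theorem main (m n : ℕ) (hmn : m ≤ n) (hn : n ≤ 2 * m)
    (f : (Fin 3 → PowerSeries k))
    (hf : f ∉ Submodule.span (PowerSeries k) {(1 : (Fin 3 → PowerSeries k))} ⊔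
      Ideal.span {(PowerSeries.X : PowerSeries k)} •
        (⊤ : Submodule (PowerSeries k) (Fin 3 → PowerSeries k)))
    (S : Submodule (PowerSeries k) (Fin 3 → PowerSeries k))
    (hS : S = Submodule.span (PowerSeries k)
        {(1 : (Fin 3 → PowerSeries k)), ((PowerSeries.X : PowerSeries k) ^ m) • f} ⊔
        Ideal.span {(PowerSeries.X : PowerSeries k) ^ n} •
          (⊤ : Submodule (PowerSeries k) (Fin 3 → PowerSeries k))) :
    (∀ x ∈ S, ∀ y ∈ S, x * y ∈ S) ∧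
    Nonempty (((Fin 3 → PowerSeries k) ⧸ S) ≃ₗ[PowerSeries k]
      ((PowerSeries k ⧸ Ideal.span {(PowerSeries.X : PowerSeries k) ^ m}) ×
        (PowerSeries k ⧸ Ideal.span {(PowerSeries.X : PowerSeries k) ^ n}))) := by
  have hSmem : ∀ x, x ∈ S ↔ ∃ a b : Λ, ∃ w : V,
      x = a • (1 : V) + b • (((X : Λ) ^ m) • f) + ((X : Λ) ^ n) • w :=
    fun x => by rw [hS]; exact mem_S m n f x
  refine ⟨fun x hx y hy => (hSmem _).mpr
    (mul_closed m n hn f x y ((hSmem x).mp hx) ((hSmem y).mp hy)), ?_⟩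
  have hex : ∃ i j : Fin 3, constantCoeff (f i) ≠ constantCoeff (f j) := by
    by_contra hcon
    push_neg at hcon
    apply hf
    have hdvd : ∀ t, (X : Λ) ∣ f t - C (constantCoeff (f 0)) := by
      intro t
      rw [X_dvd_iff, map_sub, constantCoeff_C, hcon t 0, sub_self]
    choose w hw using hdvd
    have hfeq : f = (C (constantCoeff (f 0)) : Λ) • (1 : V) + (X : Λ) • w := by
      funext t
      simp only [Pi.add_apply, Pi.smul_apply, Pi.one_apply, smul_eq_mul, mul_one]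
      rw [← hw t]; ring
    rw [hfeq]
    exact Submodule.add_mem_sup
      (Submodule.smul_mem _ _ (Submodule.mem_span_singleton_self _))
      ((mem_span_smul_top _ _).mpr ⟨w, rfl⟩)
  obtain ⟨i, j, hne⟩ := hex
  have hij : i ≠ j := fun h => hne (h ▸ rfl)
  obtain ⟨l, hli, hlj⟩ := third i j
  have hunit : IsUnit (f j - f i) := by
    rw [isUnit_iff_constantCoeff, map_sub, isUnit_iff_ne_zero, sub_ne_zero]
    exact fun h => hne h.symm
  obtain ⟨ui, hui⟩ := hunit.exists_left_inv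
  exact core m n hmn f i j l hij hli hlj ui hui S hSmem

end Groth.Agent.Lib.Crimp
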