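import Mathlib
import Groth.Agent.Lib.Crimp_lead

open PowerSeries

namespace Groth.Agent.Lib.Crimp2

universe u

variable {k : Type u} [Field k]

local notation "Λ" => PowerSeries k
local notation "V" => (Fin 3 → PowerSeries k)

noncomputable def E0 : V := fun i => if i = 0 then 1 else 0
noncomputable def E1 : V := fun i => if i = 1 then 1 else 0
noncomputable def P0 : V →ₗ[Λ] Λ :=
  (LinearMap.proj 0 : V →ₗ[Λ] Λ) - (LinearMap.proj 2 : V →ₗ[Λ] Λ)
noncomputable def Q0 : V →ₗ[Λ] Λ :=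
  (LinearMap.proj 1 : V →ₗ[Λ] Λ) - (LinearMap.proj 2 : V →ₗ[Λ] Λ)

theorem P0_apply (x : V) : P0 x = x 0 - x 2 := rfl
theorem Q0_apply (x : V) : Q0 x = x 1 - x 2 := rfl
theorem E0_0 : (E0 : V) 0 = 1 := by simp [E0]
theorem E0_1 : (E0 : V) 1 = 0 := by simp [E0]
theorem E0_2 : (E0 : V) 2 = 0 := by simp [E0]
theorem E1_0 : (E1 : V) 0 = 0 := by simp [E1]
theorem E1_1 : (E1 : V) 1 = 1 := by simp [E1]
theorem E1_2 : (E1 : V) 2 = 0 := by simp [E1]

theorem ext3 (x y : V) (h0 : x 0 = y 0) (h1 : x 1 = y 1) (h2 : x 2 = y 2) : x = y := by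
  funext i
  fin_cases i
  · exact h0
  · exact h1
  · exact h2

theorem cc_eq_of_mk_eq {N : ℕ} (hN : 1 ≤ N) (u c : Λ)
    (h : (Submodule.Quotient.mk u : Λ ⧸ Ideal.span {(X:Λ)^N}) = Submodule.Quotient.mk c) :
    constantCoeff u = constantCoeff c := by
  rw [Submodule.Quotient.eq, Ideal.mem_span_singleton] at h
  have h2 : (X:Λ) ∣ u - c := dvd_trans (dvd_pow_self X (by omega)) h
  rw [X_dvd_iff, map_sub, sub_eq_zero] at h2
  exact h2

theorem structureLemma (m n : ℕ) (hmn : m ≤ n) (S : Submodule Λ V)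
    (ψ₁ ψ₂ : V →ₗ[Λ] Λ) (g₁ g₂ : V)
    (h11 : ψ₁ g₁ = 1) (h21 : ψ₂ g₁ = 0) (h10 : ψ₁ 1 = 0) (h20 : ψ₂ 1 = 0)
    (hrec : ∀ x : V, x = (x 2) • (1 : V) + ψ₁ x • g₁ + ψ₂ x • g₂)
    (hS : ∀ x, x ∈ S ↔ ((X:Λ)^m ∣ ψ₁ x ∧ (X:Λ)^n ∣ ψ₂ x)) :
    g₁ ∉ Submodule.span Λ {(1 : V)} ⊔ Ideal.span {(X : Λ)} • (⊤ : Submodule Λ V) ∧
    S = Submodule.span Λ {(1 : V), ((X : Λ) ^ m) • g₁} ⊔
      Ideal.span {(X : Λ) ^ n} • (⊤ : Submodule Λ V) := by
  constructor
  · intro hmem
    rw [Submodule.mem_sup] at hmem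
    obtain ⟨y, hy, z, hz, hyz⟩ := hmem
    obtain ⟨c, rfl⟩ := Submodule.mem_span_singleton.mp hy
    obtain ⟨w, rfl⟩ := (Crimp.mem_span_smul_top _ _).mp hz
    have h := congrArg ψ₁ hyz
    rw [map_add, map_smul, map_smul, h10, h11, smul_zero, zero_add, smul_eq_mul] at h
    have h2 := congrArg (PowerSeries.constantCoeff) h
    rw [map_mul, PowerSeries.constantCoeff_X, zero_mul, map_one] at h2
    exact zero_ne_one h2
  · ext x
    rw [hS, Crimp.mem_S]
    constructor
    · rintro ⟨⟨A, hA⟩, ⟨B, hB⟩⟩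
      refine ⟨x 2, A, B • g₂, ?_⟩
      have h := hrec x
      rw [hA, hB] at h
      rw [smul_smul, smul_smul, mul_comm A]
      exact h
    · rintro ⟨a, b, w, rfl⟩
      obtain ⟨d, hd⟩ := Nat.exists_eq_add_of_le hmn
      constructor
      · refine ⟨b + (X:Λ)^d * ψ₁ w, ?_⟩
        simp only [map_add, map_smul, h10, h11, smul_eq_mul, mul_zero, zero_add, mul_one]
        rw [hd, pow_add]; ring
      · refine ⟨ψ₂ w, ?_⟩
        simp only [map_add, map_smul, h20, h21, smul_eq_mul, mul_zero, zero_add, add_zero]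

theorem main (m n : ℕ) (hmn : m ≤ n)
    (S : Submodule (PowerSeries k) (Fin 3 → PowerSeries k))
    (h1 : (1 : (Fin 3 → PowerSeries k)) ∈ S)
    (e : ((Fin 3 → PowerSeries k) ⧸ S) ≃ₗ[PowerSeries k]
      ((PowerSeries k ⧸ Ideal.span {(PowerSeries.X : PowerSeries k) ^ m}) ×
        (PowerSeries k ⧸ Ideal.span {(PowerSeries.X : PowerSeries k) ^ n}))) :
    Ideal.span {(PowerSeries.X : PowerSeries k) ^ n} •
        (⊤ : Submodule (PowerSeries k) (Fin 3 → PowerSeries k)) ≤ S ∧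
    ∃ f : (Fin 3 → PowerSeries k),
      f ∉ Submodule.span (PowerSeries k) {(1 : (Fin 3 → PowerSeries k))} ⊔
        Ideal.span {(PowerSeries.X : PowerSeries k)} •
          (⊤ : Submodule (PowerSeries k) (Fin 3 → PowerSeries k)) ∧
      S = Submodule.span (PowerSeries k)
          {(1 : (Fin 3 → PowerSeries k)), ((PowerSeries.X : PowerSeries k) ^ m) • f} ⊔
        Ideal.span {(PowerSeries.X : PowerSeries k) ^ n} •
          (⊤ : Submodule (PowerSeries k) (Fin 3 → PowerSeries k)) := by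
  classical
  obtain ⟨φ, hφdef⟩ : ∃ φ : V →ₗ[Λ] ((Λ ⧸ Ideal.span {(X:Λ)^m}) × (Λ ⧸ Ideal.span {(X:Λ)^n})),
      ∀ x, φ x = e (S.mkQ x) := ⟨e.toLinearMap ∘ₗ S.mkQ, fun x => rfl⟩
  have hφker : ∀ x, x ∈ S ↔ φ x = 0 := fun x => by
    rw [hφdef, LinearEquiv.map_eq_zero_iff, Submodule.mkQ_apply, Submodule.Quotient.mk_eq_zero]
  have hφsurj : Function.Surjective φ := by
    intro z
    obtain ⟨y, hy⟩ := e.surjective z
    obtain ⟨x, hx⟩ := Submodule.mkQ_surjective S y
    exact ⟨x, by rw [hφdef, hx, hy]⟩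
  have hφ1 : φ 1 = 0 := (hφker 1).mp h1
  have hXn : ∀ z : (Λ ⧸ Ideal.span {(X:Λ)^m}) × (Λ ⧸ Ideal.span {(X:Λ)^n}),
      (X:Λ)^n • z = 0 := by
    rintro ⟨z1, z2⟩
    obtain ⟨a, rfl⟩ := Submodule.Quotient.mk_surjective _ z1
    obtain ⟨b, rfl⟩ := Submodule.Quotient.mk_surjective _ z2
    rw [Prod.smul_mk, ← Submodule.Quotient.mk_smul, ← Submodule.Quotient.mk_smul,
      Prod.mk_eq_zero, Submodule.Quotient.mk_eq_zero, Submodule.Quotient.mk_eq_zero,
      smul_eq_mul, smul_eq_mul, Ideal.mem_span_singleton, Ideal.mem_span_singleton]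
    exact ⟨Dvd.dvd.mul_right (pow_dvd_pow X hmn) a, Dvd.intro _ rfl⟩
  have part1 : Ideal.span {(X:Λ)^n} • (⊤ : Submodule Λ V) ≤ S := by
    intro x hx
    obtain ⟨w, rfl⟩ := (Crimp.mem_span_smul_top _ _).mp hx
    rw [hφker, map_smul]; exact hXn _
  refine ⟨part1, ?_⟩
  obtain ⟨a₀, b₀, hE0⟩ : ∃ a₀ b₀ : Λ,
      φ E0 = (Submodule.Quotient.mk a₀, Submodule.Quotient.mk b₀) := by
    obtain ⟨a, ha⟩ := Submodule.Quotient.mk_surjective _ (φ E0).1
    obtain ⟨b, hb⟩ := Submodule.Quotient.mk_surjective _ (φ E0).2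
    exact ⟨a, b, Prod.ext ha.symm hb.symm⟩
  obtain ⟨a₁, b₁, hE1⟩ : ∃ a₁ b₁ : Λ,
      φ E1 = (Submodule.Quotient.mk a₁, Submodule.Quotient.mk b₁) := by
    obtain ⟨a, ha⟩ := Submodule.Quotient.mk_surjective _ (φ E1).1
    obtain ⟨b, hb⟩ := Submodule.Quotient.mk_surjective _ (φ E1).2
    exact ⟨a, b, Prod.ext ha.symm hb.symm⟩
  have hdecomp : ∀ x : V, x = x 2 • (1:V) + P0 x • E0 + Q0 x • E1 := by
    intro x
    apply ext3
    · simp only [Pi.add_apply, Pi.smul_apply, Pi.one_apply, smul_eq_mul, P0_apply, Q0_apply,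
        E0_0, E1_0]; ring
    · simp only [Pi.add_apply, Pi.smul_apply, Pi.one_apply, smul_eq_mul, P0_apply, Q0_apply,
        E0_1, E1_1]; ring
    · simp only [Pi.add_apply, Pi.smul_apply, Pi.one_apply, smul_eq_mul, P0_apply, Q0_apply,
        E0_2, E1_2]; ring
  have hφx : ∀ x : V, φ x = (Submodule.Quotient.mk (P0 x * a₀ + Q0 x * a₁),
      Submodule.Quotient.mk (P0 x * b₀ + Q0 x * b₁)) := by
    intro x
    have h := congrArg φ (hdecomp x)
    rw [map_add, map_add, map_smul, map_smul, map_smul, hφ1, hE0, hE1, smul_zero, zero_add,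
      Prod.smul_mk, Prod.smul_mk, Prod.mk_add_mk] at h
    rw [h]; rfl
  have hSiff : ∀ x, x ∈ S ↔ ((X:Λ)^m ∣ P0 x * a₀ + Q0 x * a₁ ∧
      (X:Λ)^n ∣ P0 x * b₀ + Q0 x * b₁) := by
    intro x
    rw [hφker, hφx, Prod.mk_eq_zero, Submodule.Quotient.mk_eq_zero,
      Submodule.Quotient.mk_eq_zero, Ideal.mem_span_singleton, Ideal.mem_span_singleton]
  obtain ⟨ψ₁, hψ₁⟩ : ∃ ψ₁ : V →ₗ[Λ] Λ, ∀ x, ψ₁ x = P0 x * a₀ + Q0 x * a₁ :=
    ⟨a₀ • P0 + a₁ • Q0, fun x => by
      simp only [LinearMap.add_apply, LinearMap.smul_apply, smul_eq_mul]; ring⟩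
  obtain ⟨ψ₂, hψ₂⟩ : ∃ ψ₂ : V →ₗ[Λ] Λ, ∀ x, ψ₂ x = P0 x * b₀ + Q0 x * b₁ :=
    ⟨b₀ • P0 + b₁ • Q0, fun x => by
      simp only [LinearMap.add_apply, LinearMap.smul_apply, smul_eq_mul]; ring⟩
  rcases Nat.eq_zero_or_pos m with hm0 | hmpos
  · -- m = 0
    subst hm0
    rcases Nat.eq_zero_or_pos n with hn0 | hnpos
    · subst hn0
      obtain ⟨hf, hSeq⟩ := structureLemma 0 0 le_rfl S Q0 P0 E1 E0
        (by rw [Q0_apply, E1_1, E1_2, sub_zero])
        (by rw [P0_apply, E1_0, E1_2, sub_zero])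
        (by rw [Q0_apply, Pi.one_apply, Pi.one_apply, sub_self])
        (by rw [P0_apply, Pi.one_apply, Pi.one_apply, sub_self])
        (fun x => by
          apply ext3
          · simp only [Pi.add_apply, Pi.smul_apply, Pi.one_apply, smul_eq_mul, P0_apply,
              Q0_apply, E0_0, E1_0]; ring
          · simp only [Pi.add_apply, Pi.smul_apply, Pi.one_apply, smul_eq_mul, P0_apply,
              Q0_apply, E0_1, E1_1]; ring
          · simp only [Pi.add_apply, Pi.smul_apply, Pi.one_apply, smul_eq_mul, P0_apply,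
              Q0_apply, E0_2, E1_2]; ring)
        (fun x => by
          rw [hSiff x]
          simp only [pow_zero, one_dvd])
      exact ⟨E1, hf, hSeq⟩
    · obtain ⟨w, hw⟩ := hφsurj (0, Submodule.Quotient.mk 1)
      rw [hφx, Prod.mk.injEq] at hw
      have e4 := cc_eq_of_mk_eq hnpos _ _ hw.2
      rw [map_add, map_mul, map_mul, map_one] at e4
      by_cases hb0 : constantCoeff b₀ = 0
      · have hb1 : constantCoeff b₁ ≠ 0 := by
          intro h
          rw [hb0, h, mul_zero, mul_zero, add_zero] at e4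
          exact zero_ne_one e4
        have hunit : IsUnit b₁ := by
          rw [isUnit_iff_constantCoeff]; exact isUnit_iff_ne_zero.mpr hb1
        obtain ⟨ui, hui⟩ := hunit.exists_left_inv
        obtain ⟨hf, hSeq⟩ := structureLemma 0 n hmn S P0 ψ₂ (E0 - (b₀ * ui) • E1) (ui • E1)
          (by
            simp only [P0_apply, Pi.sub_apply, Pi.smul_apply, smul_eq_mul, E0_0, E0_2, E1_0,
              E1_2]; ring)
          (by
            rw [hψ₂]
            simp only [P0_apply, Q0_apply, Pi.sub_apply, Pi.smul_apply, smul_eq_mul, E0_0, E0_1,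
              E0_2, E1_0, E1_1, E1_2]
            linear_combination (-b₀) * hui)
          (by rw [P0_apply, Pi.one_apply, Pi.one_apply, sub_self])
          (by rw [hψ₂, P0_apply, Q0_apply, Pi.one_apply, Pi.one_apply, Pi.one_apply, sub_self,
            zero_mul, zero_mul, add_zero])
          (fun x => by
            apply ext3
            · simp only [hψ₂, Pi.add_apply, Pi.sub_apply, Pi.smul_apply, Pi.one_apply,
                smul_eq_mul, P0_apply, Q0_apply, E0_0, E1_0]; ring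
            · simp only [hψ₂, Pi.add_apply, Pi.sub_apply, Pi.smul_apply, Pi.one_apply,
                smul_eq_mul, P0_apply, Q0_apply, E0_1, E1_1]
              linear_combination (-(x 1 - x 2)) * hui
            · simp only [hψ₂, Pi.add_apply, Pi.sub_apply, Pi.smul_apply, Pi.one_apply,
                smul_eq_mul, P0_apply, Q0_apply, E0_2, E1_2]; ring)
          (fun x => by
            rw [hSiff x, hψ₂]
            simp only [pow_zero, one_dvd, true_and])
        exact ⟨_, hf, hSeq⟩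
      · have hunit : IsUnit b₀ := by
          rw [isUnit_iff_constantCoeff]; exact isUnit_iff_ne_zero.mpr hb0
        obtain ⟨ui, hui⟩ := hunit.exists_left_inv
        obtain ⟨hf, hSeq⟩ := structureLemma 0 n hmn S Q0 ψ₂ (E1 - (b₁ * ui) • E0) (ui • E0)
          (by
            simp only [Q0_apply, Pi.sub_apply, Pi.smul_apply, smul_eq_mul, E0_1, E0_2, E1_1,
              E1_2]; ring)
          (by
            rw [hψ₂]
            simp only [P0_apply, Q0_apply, Pi.sub_apply, Pi.smul_apply, smul_eq_mul, E0_0, E0_1,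
              E0_2, E1_0, E1_1, E1_2]
            linear_combination (-b₁) * hui)
          (by rw [Q0_apply, Pi.one_apply, Pi.one_apply, sub_self])
          (by rw [hψ₂, P0_apply, Q0_apply, Pi.one_apply, Pi.one_apply, Pi.one_apply, sub_self,
            zero_mul, zero_mul, add_zero])
          (fun x => by
            apply ext3
            · simp only [hψ₂, Pi.add_apply, Pi.sub_apply, Pi.smul_apply, Pi.one_apply,
                smul_eq_mul, P0_apply, Q0_apply, E0_0, E1_0]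
              linear_combination (-(x 0 - x 2)) * hui
            · simp only [hψ₂, Pi.add_apply, Pi.sub_apply, Pi.smul_apply, Pi.one_apply,
                smul_eq_mul, P0_apply, Q0_apply, E0_1, E1_1]; ring
            · simp only [hψ₂, Pi.add_apply, Pi.sub_apply, Pi.smul_apply, Pi.one_apply,
                smul_eq_mul, P0_apply, Q0_apply, E0_2, E1_2]; ring)
          (fun x => by
            rw [hSiff x, hψ₂]
            simp only [pow_zero, one_dvd, true_and])
        exact ⟨_, hf, hSeq⟩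
  · -- m ≥ 1
    have hnpos : 1 ≤ n := le_trans hmpos hmn
    obtain ⟨v, hv⟩ := hφsurj (Submodule.Quotient.mk 1, 0)
    obtain ⟨w, hw⟩ := hφsurj (0, Submodule.Quotient.mk 1)
    rw [hφx, Prod.mk.injEq] at hv hw
    have e1 := cc_eq_of_mk_eq hmpos _ _ hv.1
    have e2 := cc_eq_of_mk_eq hnpos _ _ (hv.2.trans (Submodule.Quotient.mk_zero _).symm)
    have e4 := cc_eq_of_mk_eq hnpos _ _ hw.2
    rw [map_add, map_mul, map_mul, map_one] at e1 e4
    rw [map_add, map_mul, map_mul, map_zero] at e2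
    have hD : (constantCoeff (P0 v) * constantCoeff (Q0 w) -
        constantCoeff (Q0 v) * constantCoeff (P0 w)) *
        (constantCoeff a₀ * constantCoeff b₁ - constantCoeff a₁ * constantCoeff b₀) = 1 := by
      linear_combination (constantCoeff (P0 w) * constantCoeff b₀ +
        constantCoeff (Q0 w) * constantCoeff b₁) * e1 + e4 -
        (constantCoeff (P0 w) * constantCoeff a₀ + constantCoeff (Q0 w) * constantCoeff a₁) * e2
    have hccD : constantCoeff a₀ * constantCoeff b₁ - constantCoeff a₁ * constantCoeff b₀ ≠ 0 := by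
      intro h0
      rw [h0, mul_zero] at hD
      exact zero_ne_one hD
    have hunit : IsUnit (a₀ * b₁ - a₁ * b₀) := by
      rw [isUnit_iff_constantCoeff, map_sub, map_mul, map_mul]
      exact isUnit_iff_ne_zero.mpr hccD
    obtain ⟨ui, hui⟩ := hunit.exists_left_inv
    obtain ⟨hf, hSeq⟩ := structureLemma m n hmn S ψ₁ ψ₂
      (ui • (b₁ • E0 - b₀ • E1)) (ui • (a₀ • E1 - a₁ • E0))
      (by
        rw [hψ₁]
        simp only [P0_apply, Q0_apply, Pi.sub_apply, Pi.smul_apply, smul_eq_mul, E0_0, E0_1,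
          E0_2, E1_0, E1_1, E1_2]
        linear_combination hui)
      (by
        rw [hψ₂]
        simp only [P0_apply, Q0_apply, Pi.sub_apply, Pi.smul_apply, smul_eq_mul, E0_0, E0_1,
          E0_2, E1_0, E1_1, E1_2]
        ring)
      (by rw [hψ₁, P0_apply, Q0_apply, Pi.one_apply, Pi.one_apply, Pi.one_apply, sub_self,
        zero_mul, zero_mul, add_zero])
      (by rw [hψ₂, P0_apply, Q0_apply, Pi.one_apply, Pi.one_apply, Pi.one_apply, sub_self,
        zero_mul, zero_mul, add_zero])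
      (fun x => by
        apply ext3
        · simp only [hψ₁, hψ₂, Pi.add_apply, Pi.sub_apply, Pi.smul_apply, Pi.one_apply,
            smul_eq_mul, P0_apply, Q0_apply, E0_0, E1_0]
          linear_combination (-(x 0 - x 2)) * hui
        · simp only [hψ₁, hψ₂, Pi.add_apply, Pi.sub_apply, Pi.smul_apply, Pi.one_apply,
            smul_eq_mul, P0_apply, Q0_apply, E0_1, E1_1]
          linear_combination (-(x 1 - x 2)) * hui
        · simp only [hψ₁, hψ₂, Pi.add_apply, Pi.sub_apply, Pi.smul_apply, Pi.one_apply,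
            smul_eq_mul, P0_apply, Q0_apply, E0_2, E1_2]; ring)
      (fun x => by rw [hSiff x, hψ₁, hψ₂])
    exact ⟨_, hf, hSeq⟩

end Groth.Agent.Lib.Crimp2
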