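import Mathlib

set_option maxHeartbeats 400000
set_option autoImplicit false

open Module

namespace Groth.Agent.Lib.CrimpDouble

universe u

section Generic

theorem trace_two {A B : Type*} [CommRing A] [CommRing B] [Algebra A B]
    (b : Basis (Fin 2) A B) (h0 : b 0 = 1) (x : B) :
    Algebra.trace A B x = b.repr x 0 + b.repr (x * b 1) 1 := by
  rw [Algebra.trace_eq_matrix_trace b, Matrix.trace_fin_two, Algebra.leftMulMatrix_eq_repr_mul,
    Algebra.leftMulMatrix_eq_repr_mul, h0, mul_one]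

theorem repr_comb {A B : Type*} [CommRing A] [CommRing B] [Algebra A B]
    (b : Basis (Fin 2) A B) (h0 : b 0 = 1) (a c : A) :
    b.repr (a • (1 : B) + c • b 1) 0 = a ∧ b.repr (a • (1 : B) + c • b 1) 1 = c := by
  rw [← h0]
  constructor <;> simp [Finsupp.single_apply]

theorem discr_quadratic {A B : Type*} [CommRing A] [CommRing B] [Algebra A B]
    (b : Basis (Fin 2) A B) (h0 : b 0 = 1) (P Q : A) (h1 : b 1 * b 1 = P • (1 : B) + Q • b 1) :
    Algebra.discr A b = Q ^ 2 + 4 * P := by
  have hr1 : b.repr (1 : B) = Finsupp.single 0 1 := by rw [← h0, Basis.repr_self]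
  have hrb : b.repr (b 1) = Finsupp.single 1 1 := Basis.repr_self b 1
  have t1 : Algebra.trace A B 1 = 2 := by
    rw [trace_two b h0, one_mul, hr1, hrb]
    simp [Finsupp.single_apply, one_add_one_eq_two]
  have tb : Algebra.trace A B (b 1) = Q := by
    rw [trace_two b h0, h1, (repr_comb b h0 P Q).2, hrb]
    simp [Finsupp.single_apply]
  have tbb : Algebra.trace A B (b 1 * b 1) = 2 * P + Q ^ 2 := by
    rw [trace_two b h0]
    have e1 : b 1 * b 1 * b 1 = (Q * P) • (1 : B) + (P + Q * Q) • b 1 := by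
      rw [h1, add_mul, smul_mul_assoc, one_mul, smul_mul_assoc, h1]
      module
    rw [e1, (repr_comb b h0 _ _).2, h1, (repr_comb b h0 _ _).1]; ring
  rw [Algebra.discr_def, Matrix.det_fin_two]
  simp only [Algebra.traceMatrix_apply, Algebra.traceForm_apply, h0, one_mul, mul_one]
  rw [t1, tb, tbb]; ring

end Generic

section Lattice

variable {k : Type u} [Field k]

/-- the lattice `R·1 + X^n E`. -/
noncomputable def L (k : Type u) [Field k] (E : Type u) [CommRing E] [Algebra (PowerSeries k) E] (n : ℕ) :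
    Submodule (PowerSeries k) E :=
  Submodule.span (PowerSeries k) {(1 : E)} ⊔
    Ideal.span {(PowerSeries.X : PowerSeries k) ^ n} • (⊤ : Submodule (PowerSeries k) E)

variable {E : Type u} [CommRing E] [Algebra (PowerSeries k) E]
variable (bE : Basis (Fin 2) (PowerSeries k) E) (h0 : bE 0 = 1)
include h0

theorem decomp (x : E) : x = bE.repr x 0 • (1 : E) + bE.repr x 1 • bE 1 := by
  conv_lhs => rw [← bE.sum_repr x, Fin.sum_univ_two, h0]

theorem repr_one_one : bE.repr (1 : E) 1 = 0 := by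
  rw [← h0, Basis.repr_self]; simp

theorem mem_L_iff (n : ℕ) (x : E) :
    x ∈ L k E n ↔ (PowerSeries.X : PowerSeries k) ^ n ∣ bE.repr x 1 := by
  unfold L
  rw [Submodule.ideal_span_singleton_smul]
  constructor
  · intro hx
    obtain ⟨y, hy, z, hz, rfl⟩ := Submodule.mem_sup.mp hx
    obtain ⟨a, rfl⟩ := Submodule.mem_span_singleton.mp hy
    obtain ⟨e, -, rfl⟩ := (Submodule.mem_smul_pointwise_iff_exists _ _ _).mp hz
    simp only [map_add, map_smul, Finsupp.add_apply, Finsupp.smul_apply, repr_one_one bE h0,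
      smul_eq_mul, mul_zero, zero_add]
    exact Dvd.intro _ rfl
  · rintro ⟨t, ht⟩
    rw [decomp bE h0 x, ht]
    refine Submodule.add_mem_sup
      (Submodule.smul_mem _ _ (Submodule.mem_span_singleton_self _)) ?_
    rw [mul_smul]
    exact (Submodule.mem_smul_pointwise_iff_exists _ _ _).mpr ⟨t • bE 1, Submodule.mem_top, rfl⟩

theorem exists_eq_L (S : Subalgebra (PowerSeries k) E) (bS : Basis (Fin 2) (PowerSeries k) S) :
    ∃ n : ℕ, Subalgebra.toSubmodule S = L k E n := by
  classical
  let c : E →ₗ[PowerSeries k] PowerSeries k := bE.coord 1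
  have hc : ∀ x, c x = bE.repr x 1 := fun x => rfl
  let I : Ideal (PowerSeries k) := Submodule.map c (Subalgebra.toSubmodule S)
  have hI : I ≠ ⊥ := by
    intro hbot
    have hz : ∀ s : S, bE.repr (s : E) 1 = 0 := by
      intro s
      have hmem : c (s : E) ∈ I := Submodule.mem_map_of_mem ((Subalgebra.mem_toSubmodule S).mpr s.2)
      rw [hbot] at hmem
      exact (Submodule.mem_bot _).mp hmem
    have hs : ∀ s : S, ∃ r : PowerSeries k, (s : E) = r • (1 : E) := by
      intro s
      have hd := decomp bE h0 (s : E)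
      rw [hz s, zero_smul, add_zero] at hd
      exact ⟨_, hd⟩
    obtain ⟨r0, hr0⟩ := hs (bS 0)
    obtain ⟨r1, hr1⟩ := hs (bS 1)
    have hrel : r1 • bS 0 + (-r0) • bS 1 = 0 := by
      apply Subtype.ext
      show r1 • ((bS 0 : S) : E) + (-r0) • ((bS 1 : S) : E) = 0
      rw [hr0, hr1]
      simp only [Algebra.smul_def, mul_one, map_neg]; ring
    have hli := Fintype.linearIndependent_iff.mp bS.linearIndependent ![r1, -r0] (by
      rw [Fin.sum_univ_two]; exact hrel)
    have h1' : r0 = 0 := by simpa using hli 1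
    have hb0 : bS 0 = 0 := Subtype.ext (by rw [hr0, h1', zero_smul]; rfl)
    exact bS.ne_zero 0 hb0
  obtain ⟨n, hn⟩ := IsDiscreteValuationRing.ideal_eq_span_pow_irreducible hI
    (PowerSeries.X_prime : Prime (PowerSeries.X : PowerSeries k)).irreducible
  refine ⟨n, ?_⟩
  ext x
  rw [mem_L_iff bE h0, Subalgebra.mem_toSubmodule]
  constructor
  · intro hx
    have hmem : c x ∈ I := Submodule.mem_map_of_mem ((Subalgebra.mem_toSubmodule S).mpr hx)
    rw [hn, Ideal.mem_span_singleton] at hmem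
    exact hmem
  · rintro ⟨t, ht⟩
    have hXI : (PowerSeries.X : PowerSeries k) ^ n ∈ I := by
      rw [hn]; exact Ideal.mem_span_singleton_self _
    obtain ⟨s, hsS, hcs⟩ := Submodule.mem_map.mp hXI
    have hsS' : s ∈ S := (Subalgebra.mem_toSubmodule S).mp hsS
    have hη : (PowerSeries.X : PowerSeries k) ^ n • bE 1 ∈ S := by
      have hd := decomp bE h0 s
      have he : (PowerSeries.X : PowerSeries k) ^ n • bE 1 = s - bE.repr s 0 • (1 : E) := by
        rw [← hcs, hc, eq_sub_iff_add_eq, add_comm]; exact hd.symm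
      rw [he]
      exact S.sub_mem hsS' (S.smul_mem S.one_mem _)
    rw [decomp bE h0 x, ht, mul_comm, mul_smul]
    exact S.add_mem (S.smul_mem S.one_mem _) (S.smul_mem hη _)

theorem memS_iff (n : ℕ) (S : Subalgebra (PowerSeries k) E)
    (hS : Subalgebra.toSubmodule S = L k E n) (x : E) :
    x ∈ S ↔ (PowerSeries.X : PowerSeries k) ^ n ∣ bE.repr x 1 := by
  rw [← Subalgebra.mem_toSubmodule, hS, mem_L_iff bE h0]

theorem eta_mem (n : ℕ) (S : Subalgebra (PowerSeries k) E)
    (hS : Subalgebra.toSubmodule S = L k E n) :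
    (PowerSeries.X : PowerSeries k) ^ n • bE 1 ∈ S := by
  have hr : bE.repr ((PowerSeries.X : PowerSeries k) ^ n • bE 1) 1 =
      (PowerSeries.X : PowerSeries k) ^ n := by
    rw [map_smul, Finsupp.smul_apply, Basis.repr_self, Finsupp.single_eq_same, smul_eq_mul, mul_one]
  exact (memS_iff bE h0 n S hS _).mpr (Dvd.intro 1 (by rw [hr, mul_one]))

theorem exists_basis (n : ℕ) (S : Subalgebra (PowerSeries k) E)
    (hS : Subalgebra.toSubmodule S = L k E n) :
    ∃ b : Basis (Fin 2) (PowerSeries k) S, ((b 0 : S) : E) = 1 ∧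
      ((b 1 : S) : E) = (PowerSeries.X : PowerSeries k) ^ n • bE 1 := by
  classical
  have hη := eta_mem bE h0 n S hS
  let η : S := ⟨_, hη⟩
  have hX : (PowerSeries.X : PowerSeries k) ^ n ≠ 0 := pow_ne_zero _ PowerSeries.X_ne_zero
  have hli : LinearIndependent (PowerSeries k) ![(1 : S), η] := by
    rw [LinearIndependent.pair_iff]
    intro s t hst
    have h := congrArg (Subtype.val) hst
    have h' : s • (1 : E) + (t * (PowerSeries.X : PowerSeries k) ^ n) • bE 1 = 0 := by
      rw [mul_smul]; exact h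
    have hr := repr_comb bE h0 s (t * (PowerSeries.X : PowerSeries k) ^ n)
    rw [h', map_zero bE.repr] at hr
    have e1 : (0 : PowerSeries k) = s := hr.1
    have e2 : (0 : PowerSeries k) = t * (PowerSeries.X : PowerSeries k) ^ n := hr.2
    refine ⟨e1.symm, ?_⟩
    rcases mul_eq_zero.mp e2.symm with h3 | h3
    · exact h3
    · exact absurd h3 hX
  have hsp : ⊤ ≤ Submodule.span (PowerSeries k) (Set.range ![(1 : S), η]) := by
    intro x _
    obtain ⟨t, ht⟩ := (memS_iff bE h0 n S hS x.1).mp x.2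
    have hx : x = bE.repr (x : E) 0 • (1 : S) + t • η := by
      apply Subtype.ext
      show (x : E) = bE.repr (x : E) 0 • (1 : E) +
        t • ((PowerSeries.X : PowerSeries k) ^ n • bE 1)
      rw [smul_smul, mul_comm t, ← ht]
      exact decomp bE h0 x
    rw [hx]
    exact Submodule.add_mem _ (Submodule.smul_mem _ _ (Submodule.subset_span ⟨0, rfl⟩))
      (Submodule.smul_mem _ _ (Submodule.subset_span ⟨1, rfl⟩))
  refine ⟨Basis.mk hli hsp, ?_, ?_⟩
  · rw [Basis.mk_apply]; rfl
  · rw [Basis.mk_apply]; rfl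

theorem iso_adjoinRoot (n : ℕ) (S : Subalgebra (PowerSeries k) E)
    (hS : Subalgebra.toSubmodule S = L k E n)
    (u w D : PowerSeries k) (hw : IsUnit w)
    (hζ : (u • (1 : E) + w • ((PowerSeries.X : PowerSeries k) ^ n • bE 1)) *
        (u • (1 : E) + w • ((PowerSeries.X : PowerSeries k) ^ n • bE 1)) = D • (1 : E))
    (g : Polynomial (PowerSeries k)) (hg : g = Polynomial.X ^ 2 - Polynomial.C D) :
    Nonempty (S ≃ₐ[PowerSeries k] AdjoinRoot g) := by
  classical
  have hYS := eta_mem bE h0 n S hS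
  have hζS : u • (1 : E) + w • ((PowerSeries.X : PowerSeries k) ^ n • bE 1) ∈ S :=
    S.add_mem (S.smul_mem S.one_mem _) (S.smul_mem hYS _)
  let ζ : S := ⟨_, hζS⟩
  have hmonic : g.Monic := by rw [hg]; exact Polynomial.monic_X_pow_sub_C D (by norm_num)
  have hdeg : g.natDegree = 2 := by rw [hg]; exact Polynomial.natDegree_X_pow_sub_C
  have hne1 : g ≠ 1 := by
    intro h; rw [h, Polynomial.natDegree_one] at hdeg; exact absurd hdeg (by norm_num)
  have hζ2 : ζ ^ 2 = algebraMap (PowerSeries k) S D := by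
    apply Subtype.ext
    show (ζ : E) ^ 2 = algebraMap (PowerSeries k) E D
    rw [pow_two, hζ, Algebra.algebraMap_eq_smul_one]
  let φ : AdjoinRoot g →ₐ[PowerSeries k] S :=
    AdjoinRoot.liftAlgHom g (Algebra.ofId (PowerSeries k) S) ζ (by
      rw [hg, Polynomial.eval₂_sub, Polynomial.eval₂_pow, Polynomial.eval₂_X,
        Polynomial.eval₂_C, hζ2]
      exact sub_self _)
  have hφroot : φ (AdjoinRoot.root g) = ζ := AdjoinRoot.liftAlgHom_root _ _ _ _
  obtain ⟨w', hw'⟩ := hw.exists_left_inv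
  have hX : (PowerSeries.X : PowerSeries k) ^ n ≠ 0 := pow_ne_zero _ PowerSeries.X_ne_zero
  have hcoord : ∀ a c : PowerSeries k, a • (1 : S) + c • ζ = 0 → a = 0 ∧ c = 0 := by
    intro a c hac
    have h := congrArg Subtype.val hac
    have h' : (a + c * u) • (1 : E) + (c * w * (PowerSeries.X : PowerSeries k) ^ n) • bE 1 = 0 := by
      have e : (a + c * u) • (1 : E) + (c * w * (PowerSeries.X : PowerSeries k) ^ n) • bE 1 =
          a • (1 : E) + c • (u • (1 : E) + w • ((PowerSeries.X : PowerSeries k) ^ n • bE 1)) := by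
        simp only [Algebra.smul_def, mul_one, map_add, map_mul]; ring
      rw [e]; exact h
    have hr := repr_comb bE h0 (a + c * u) (c * w * (PowerSeries.X : PowerSeries k) ^ n)
    rw [h', map_zero bE.repr] at hr
    have e1 : (0 : PowerSeries k) = a + c * u := hr.1
    have e2 : (0 : PowerSeries k) = c * w * (PowerSeries.X : PowerSeries k) ^ n := hr.2
    have hc0 : c = 0 := by
      rcases mul_eq_zero.mp e2.symm with h3 | h3
      · rcases mul_eq_zero.mp h3 with h4 | h4
        · exact h4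
        · exact absurd h4 hw.ne_zero
      · exact absurd h3 hX
    refine ⟨?_, hc0⟩
    rw [hc0, zero_mul, add_zero] at e1; exact e1.symm
  have hinj : Function.Injective φ := by
    rw [injective_iff_map_eq_zero]
    intro z hz
    obtain ⟨f, rfl⟩ := AdjoinRoot.mk_surjective z
    have hmod := Polynomial.modByMonic_add_div f g
    have hdegr : (f %ₘ g).natDegree ≤ 1 := by
      have := Polynomial.natDegree_modByMonic_lt f hmonic hne1
      omega
    obtain ⟨c, a, hca⟩ := Polynomial.exists_eq_X_add_C_of_natDegree_le_one hdegr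
    have hmk : AdjoinRoot.mk g f = AdjoinRoot.mk g (f %ₘ g) := by
      rw [AdjoinRoot.mk_eq_mk]
      exact ⟨f /ₘ g, sub_eq_of_eq_add' hmod.symm⟩
    rw [hmk, hca] at hz ⊢
    have hval : φ (AdjoinRoot.mk g (Polynomial.C c * Polynomial.X + Polynomial.C a)) =
        a • (1 : S) + c • ζ := by
      show Polynomial.eval₂ _ ζ (Polynomial.C c * Polynomial.X + Polynomial.C a) = _
      rw [Polynomial.eval₂_add, Polynomial.eval₂_mul, Polynomial.eval₂_C, Polynomial.eval₂_X,
        Polynomial.eval₂_C, add_comm]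
      congr 1
      · exact Algebra.algebraMap_eq_smul_one a
      · exact (Algebra.smul_def c ζ).symm
    rw [hval] at hz
    obtain ⟨ha, hc⟩ := hcoord a c hz
    rw [ha, hc]; simp
  have hsurj : Function.Surjective φ := by
    intro x
    obtain ⟨t, ht⟩ := (memS_iff bE h0 n S hS x.1).mp x.2
    obtain ⟨c', hc'⟩ : ∃ c', t = c' * w := ⟨t * w', by rw [mul_assoc, hw', mul_one]⟩
    subst hc'
    refine ⟨algebraMap _ _ (bE.repr (x : E) 0 - c' * u) + algebraMap _ _ c' * AdjoinRoot.root g, ?_⟩
    rw [map_add, map_mul, AlgHom.commutes, AlgHom.commutes, hφroot]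
    apply Subtype.ext
    show algebraMap (PowerSeries k) E (bE.repr (x : E) 0 - c' * u) +
      algebraMap (PowerSeries k) E c' *
        (u • (1 : E) + w • ((PowerSeries.X : PowerSeries k) ^ n • bE 1)) = (x : E)
    have hx := decomp bE h0 (x : E)
    rw [ht] at hx
    rw [Algebra.algebraMap_eq_smul_one, Algebra.algebraMap_eq_smul_one, smul_mul_assoc, one_mul]
    conv_rhs => rw [hx]
    simp only [Algebra.smul_def, mul_one, map_add, map_sub, map_mul]; ring
  exact ⟨(AlgEquiv.ofBijective φ ⟨hinj, hsurj⟩).symm⟩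

variable (p q : PowerSeries k) (hε : bE 1 * bE 1 = p • (1 : E) + q • bE 1)
include hε

theorem span_discr (n : ℕ) (S : Subalgebra (PowerSeries k) E)
    (hS : Subalgebra.toSubmodule S = L k E n) (bS : Basis (Fin 2) (PowerSeries k) S) :
    Ideal.span {Algebra.discr (PowerSeries k) ⇑bS} =
      Ideal.span {(PowerSeries.X : PowerSeries k) ^ (2 * n) * (q ^ 2 + 4 * p)} := by
  classical
  obtain ⟨bn, hb0, hb1⟩ := exists_basis bE h0 n S hS
  have hd : Algebra.discr (PowerSeries k) ⇑bn =
      (PowerSeries.X : PowerSeries k) ^ (2 * n) * (q ^ 2 + 4 * p) := by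
    have h0S : bn 0 = 1 := Subtype.ext hb0
    have h1S : bn 1 * bn 1 = ((PowerSeries.X : PowerSeries k) ^ (2 * n) * p) • (1 : S) +
        ((PowerSeries.X : PowerSeries k) ^ n * q) • bn 1 := by
      apply Subtype.ext
      show ((bn 1 : S) : E) * ((bn 1 : S) : E) =
        ((PowerSeries.X : PowerSeries k) ^ (2 * n) * p) • (1 : E) +
        ((PowerSeries.X : PowerSeries k) ^ n * q) • ((bn 1 : S) : E)
      rw [hb1, smul_mul_smul_comm, hε]
      simp only [Algebra.smul_def, mul_one, map_mul, map_pow]; ring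
    rw [discr_quadratic bn h0S _ _ h1S]; ring
  have hP := Basis.toMatrix_map_vecMul bn ⇑bS
  have hdet : IsUnit (bn.toMatrix ⇑bS).det := by
    have h1 : bn.toMatrix ⇑bS * bS.toMatrix ⇑bn = 1 := Basis.toMatrix_mul_toMatrix_flip bn bS
    have h2 := congrArg Matrix.det h1
    rw [Matrix.det_mul, Matrix.det_one] at h2
    exact IsUnit.of_mul_eq_one _ h2
  rw [← hP, Algebra.discr_of_matrix_vecMul, hd]
  exact Ideal.span_singleton_mul_left_unit (hdet.pow 2) _

theorem iff_generic (δ : ℕ)
    (hδ : Associated (q ^ 2 + 4 * p) ((PowerSeries.X : PowerSeries k) ^ δ)) (b : ℕ)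
    (S : Subalgebra (PowerSeries k) E) :
    (∃ bS : Basis (Fin 2) (PowerSeries k) S,
      Ideal.span {Algebra.discr (PowerSeries k) ⇑bS} =
        Ideal.span {(PowerSeries.X : PowerSeries k) ^ b}) ↔
    ∃ n : ℕ, b = 2 * n + δ ∧ Subalgebra.toSubmodule S = L k E n := by
  have key : ∀ n, Subalgebra.toSubmodule S = L k E n → ∀ bS : Basis (Fin 2) (PowerSeries k) S,
      Ideal.span {Algebra.discr (PowerSeries k) ⇑bS} =
        Ideal.span {(PowerSeries.X : PowerSeries k) ^ (2 * n + δ)} := by
    intro n hn bS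
    rw [span_discr bE h0 p q hε n S hn bS, Ideal.span_singleton_eq_span_singleton, pow_add]
    exact hδ.mul_left _
  have hX0 : (PowerSeries.X : PowerSeries k) ≠ 0 := PowerSeries.X_ne_zero
  have hXu : ¬ IsUnit (PowerSeries.X : PowerSeries k) :=
    (PowerSeries.X_prime : Prime (PowerSeries.X : PowerSeries k)).not_isUnit
  constructor
  · rintro ⟨bS, hb⟩
    obtain ⟨n, hn⟩ := exists_eq_L bE h0 S bS
    have h1 := key n hn bS
    rw [hb, Ideal.span_singleton_eq_span_singleton] at h1
    refine ⟨n, le_antisymm ?_ ?_, hn⟩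
    · exact (pow_dvd_pow_iff hX0 hXu).mp h1.dvd
    · exact (pow_dvd_pow_iff hX0 hXu).mp h1.symm.dvd
  · rintro ⟨n, hbn, hn⟩
    obtain ⟨bn, -, -⟩ := exists_basis bE h0 n S hn
    exact ⟨bn, by rw [hbn]; exact key n hn bn⟩

end Lattice

section CaseA

variable {k : Type u} [Field k]

noncomputable def eqvA (k : Type u) [Field k] :
    (Fin 2 → PowerSeries k) ≃ₗ[PowerSeries k] (Fin 2 → PowerSeries k) where
  toFun x := ![x 1, x 0 - x 1]
  invFun y := ![y 0 + y 1, y 0]
  map_add' x y := by funext i; fin_cases i <;> simp <;> ring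
  map_smul' r x := by funext i; fin_cases i <;> simp [mul_sub]
  left_inv x := by funext i; fin_cases i <;> simp
  right_inv y := by funext i; fin_cases i <;> simp

theorem eqvA_symm_apply (y : Fin 2 → PowerSeries k) :
    (eqvA k).symm y = ![y 0 + y 1, y 0] := rfl

theorem mainA [CharZero k] (b : ℕ) (S : Subalgebra (PowerSeries k) (Fin 2 → PowerSeries k)) :
    ((∃ bS : Module.Basis (Fin 2) (PowerSeries k) S,
      Ideal.span {Algebra.discr (PowerSeries k) ⇑bS} = Ideal.span {(PowerSeries.X : PowerSeries k) ^ b}) ↔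
    ∃ n : ℕ, b = 2 * n ∧
      Subalgebra.toSubmodule S = Submodule.span (PowerSeries k) {(1 : (Fin 2 → PowerSeries k))} ⊔
        Ideal.span {(PowerSeries.X : PowerSeries k) ^ n} • (⊤ : Submodule (PowerSeries k) (Fin 2 → PowerSeries k))) ∧
    (∀ n : ℕ, Subalgebra.toSubmodule S = Submodule.span (PowerSeries k) {(1 : (Fin 2 → PowerSeries k))} ⊔
        Ideal.span {(PowerSeries.X : PowerSeries k) ^ n} • (⊤ : Submodule (PowerSeries k) (Fin 2 → PowerSeries k)) →
      Nonempty (S ≃ₐ[PowerSeries k] AdjoinRoot (Polynomial.X ^ 2 - Polynomial.C ((PowerSeries.X : PowerSeries k) ^ (2 * n))))) := by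
  classical
  let bE : Basis (Fin 2) (PowerSeries k) (Fin 2 → PowerSeries k) := Basis.ofEquivFun (eqvA k)
  have hbE : ∀ i, bE i = (eqvA k).symm (Pi.single i 1) := by
    intro i
    have := Basis.coe_ofEquivFun (eqvA k)
    exact congrFun this i
  have h0 : bE 0 = 1 := by
    rw [hbE, eqvA_symm_apply]; funext i; fin_cases i <;> simp
  have h1 : bE 1 = ![1, 0] := by
    rw [hbE, eqvA_symm_apply]; funext i; fin_cases i <;> simp
  have hε : bE 1 * bE 1 = (0 : PowerSeries k) • (1 : Fin 2 → PowerSeries k) +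
      (1 : PowerSeries k) • bE 1 := by
    rw [zero_smul, zero_add, one_smul, h1]; funext i; fin_cases i <;> simp
  have h2 : IsUnit (2 : PowerSeries k) := by
    have : IsUnit ((algebraMap k (PowerSeries k)) 2) := (IsUnit.mk0 (2 : k) (by norm_num)).map _
    rwa [map_ofNat] at this
  have hδ : Associated ((1 : PowerSeries k) ^ 2 + 4 * 0) ((PowerSeries.X : PowerSeries k) ^ 0) := by
    simp
  refine ⟨iff_generic bE h0 _ _ hε 0 hδ b S, fun n hn => ?_⟩
  refine iso_adjoinRoot bE h0 n S hn (-(PowerSeries.X : PowerSeries k) ^ n) 2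
    ((PowerSeries.X : PowerSeries k) ^ (2 * n)) h2 ?_ _ rfl
  rw [h1]
  funext i
  fin_cases i
  · show (-(PowerSeries.X : PowerSeries k) ^ n * 1 + 2 * ((PowerSeries.X : PowerSeries k) ^ n * 1)) *
      (-(PowerSeries.X : PowerSeries k) ^ n * 1 + 2 * ((PowerSeries.X : PowerSeries k) ^ n * 1)) =
      (PowerSeries.X : PowerSeries k) ^ (2 * n) * 1
    ring
  · show (-(PowerSeries.X : PowerSeries k) ^ n * 1 + 2 * ((PowerSeries.X : PowerSeries k) ^ n * 0)) *
      (-(PowerSeries.X : PowerSeries k) ^ n * 1 + 2 * ((PowerSeries.X : PowerSeries k) ^ n * 0)) =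
      (PowerSeries.X : PowerSeries k) ^ (2 * n) * 1
    ring

end CaseA

section CaseB

variable {k : Type u} [Field k]

theorem mainB [CharZero k] (g0 : Polynomial (PowerSeries k))
    (hg0 : g0 = Polynomial.X ^ 2 - Polynomial.C (PowerSeries.X : PowerSeries k)) (b : ℕ)
    (S : Subalgebra (PowerSeries k) (AdjoinRoot g0)) :
    ((∃ bS : Module.Basis (Fin 2) (PowerSeries k) S,
      Ideal.span {Algebra.discr (PowerSeries k) ⇑bS} = Ideal.span {(PowerSeries.X : PowerSeries k) ^ b}) ↔
    ∃ n : ℕ, b = 2 * n + 1 ∧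
      Subalgebra.toSubmodule S = Submodule.span (PowerSeries k) {(1 : AdjoinRoot g0)} ⊔
        Ideal.span {(PowerSeries.X : PowerSeries k) ^ n} • (⊤ : Submodule (PowerSeries k) (AdjoinRoot g0))) ∧
    (∀ n : ℕ, Subalgebra.toSubmodule S = Submodule.span (PowerSeries k) {(1 : AdjoinRoot g0)} ⊔
        Ideal.span {(PowerSeries.X : PowerSeries k) ^ n} • (⊤ : Submodule (PowerSeries k) (AdjoinRoot g0)) →
      Nonempty (S ≃ₐ[PowerSeries k] AdjoinRoot (Polynomial.X ^ 2 - Polynomial.C ((PowerSeries.X : PowerSeries k) ^ (2 * n + 1))))) := by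
  classical
  have hmonic : g0.Monic := by rw [hg0]; exact Polynomial.monic_X_pow_sub_C _ (by norm_num)
  have hdeg : g0.natDegree = 2 := by rw [hg0]; exact Polynomial.natDegree_X_pow_sub_C
  let pb := AdjoinRoot.powerBasis' hmonic
  have hdim : pb.dim = 2 := hdeg
  let bE : Basis (Fin 2) (PowerSeries k) (AdjoinRoot g0) := pb.basis.reindex (finCongr hdim)
  have hbE : ∀ i : Fin 2, bE i = AdjoinRoot.root g0 ^ (i : ℕ) := by
    intro i
    show (pb.basis.reindex (finCongr hdim)) i = _
    rw [Basis.reindex_apply, pb.basis_eq_pow]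
    rfl
  have h0 : bE 0 = 1 := by rw [hbE]; simp
  have h1 : bE 1 = AdjoinRoot.root g0 := by rw [hbE]; simp
  have hroot2 : AdjoinRoot.root g0 * AdjoinRoot.root g0 =
      (PowerSeries.X : PowerSeries k) • (1 : AdjoinRoot g0) := by
    have h := AdjoinRoot.eval₂_root g0
    have h' : Polynomial.eval₂ (AdjoinRoot.of g0) (AdjoinRoot.root g0)
        (Polynomial.X ^ 2 - Polynomial.C (PowerSeries.X : PowerSeries k)) = 0 := by
      rw [← hg0]; exact h
    rw [Polynomial.eval₂_sub, Polynomial.eval₂_pow, Polynomial.eval₂_X, Polynomial.eval₂_C,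
      ← AdjoinRoot.algebraMap_eq, Algebra.algebraMap_eq_smul_one, sub_eq_zero, pow_two] at h'
    exact h'
  have hε : bE 1 * bE 1 = (PowerSeries.X : PowerSeries k) • (1 : AdjoinRoot g0) +
      (0 : PowerSeries k) • bE 1 := by
    rw [h1, hroot2, zero_smul, add_zero]
  have h4 : IsUnit (4 : PowerSeries k) := by
    have : IsUnit ((algebraMap k (PowerSeries k)) 4) := (IsUnit.mk0 (4 : k) (by norm_num)).map _
    rwa [map_ofNat] at this
  have hδ : Associated ((0 : PowerSeries k) ^ 2 + 4 * PowerSeries.X)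
      ((PowerSeries.X : PowerSeries k) ^ 1) := by
    refine Associated.symm ⟨h4.unit, ?_⟩
    rw [IsUnit.unit_spec]; ring
  refine ⟨iff_generic bE h0 _ _ hε 1 hδ b S, fun n hn => ?_⟩
  refine iso_adjoinRoot bE h0 n S hn 0 1 ((PowerSeries.X : PowerSeries k) ^ (2 * n + 1))
    isUnit_one ?_ _ rfl
  rw [zero_smul, zero_add, one_smul, h1, smul_mul_smul_comm, hroot2, smul_smul]
  congr 1; ring

end CaseB

end Groth.Agent.Lib.CrimpDouble
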