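import Mathlib
import Groth.Prelude.Def_W4c1hurwitzcptBd

set_option autoImplicit false
universe u

namespace Groth.Agent.Lib.CrimpOdd

open PowerSeries W4c1hurwitzcpt

theorem core (k : Type*) [Field k] (m n : ℕ) (hm : Odd m) (hmn : 2 * m < n)
    (g β h : PowerSeries k) (hg : g.order = 0) :
    PowerSeries.expand 2 two_ne_zero β * (X ^ m * g) + h * X ^ n ≠ (X ^ m * g) * (X ^ m * g) := by
  intro heq
  have oR : ((X : PowerSeries k) ^ m * g * (X ^ m * g)).order = ((2 * m : ℕ) : ℕ∞) := by
    rw [order_mul, order_mul, order_X_pow, hg, add_zero, ← Nat.cast_add, two_mul]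
  have o2 : ((n : ℕ) : ℕ∞) ≤ (h * X ^ n).order := by
    rw [order_mul, order_X_pow]; exact le_add_self
  rcases eq_or_ne β 0 with hβ | hβ
  · rw [hβ, map_zero, zero_mul, zero_add] at heq
    rw [heq, oR] at o2
    exact absurd (Nat.cast_le.mp o2) (by omega)
  · obtain ⟨e, he⟩ := ENat.ne_top_iff_exists.mp (fun htop => hβ (order_eq_top.mp htop))
    have o1 : (PowerSeries.expand 2 two_ne_zero β * (X ^ m * g)).order =
        ((2 * e + m : ℕ) : ℕ∞) := by
      rw [order_mul, order_mul, order_expand, order_X_pow, hg, add_zero, ← he]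
      push_cast
      ring
    have hsum := congrArg PowerSeries.order heq
    rw [oR] at hsum
    rcases Nat.lt_or_ge (2 * e + m) (2 * m) with hlt | hge
    · have hne : (PowerSeries.expand 2 two_ne_zero β * (X ^ m * g)).order ≠
          (h * X ^ n).order := by
        intro hcon
        rw [o1] at hcon
        rw [← hcon] at o2
        exact absurd (Nat.cast_le.mp o2) (by omega)
      rw [order_add_of_order_ne _ _ hne, o1] at hsum
      have hmin : min (((2 * e + m : ℕ) : ℕ∞)) (h * X ^ n).order = ((2 * e + m : ℕ) : ℕ∞) := by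
        apply min_eq_left
        exact le_trans (Nat.cast_le.mpr (by omega)) o2
      rw [hmin] at hsum
      exact absurd (Nat.cast_inj.mp hsum) (by omega)
    · have hgt : 2 * m < 2 * e + m := by
        obtain ⟨r, hr⟩ := hm
        omega
      have hle := min_order_le_order_add (PowerSeries.expand 2 two_ne_zero β * (X ^ m * g))
        (h * X ^ n)
      rw [hsum, o1] at hle
      rcases min_le_iff.mp hle with h1 | h1
      · exact absurd (Nat.cast_le.mp h1) (by omega)
      · exact absurd (Nat.cast_le.mp (le_trans o2 h1)) (by omega)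

theorem val_algebraMap {k : Type u} [Field k] (β : PowerSeries k) :
    RootDisk.val (algebraMap (PowerSeries k) (RootDisk 2 k) β) =
      PowerSeries.expand 2 two_ne_zero β := rfl

theorem main {k : Type u} [Field k] [IsAlgClosed k] [CharZero k]
    (m n : ℕ) (hm : Odd m) (hmn : 2 * m < n) (x g : RootDisk 2 k)
    (hx : RootDisk.val x = PowerSeries.X) (hg : PowerSeries.order (RootDisk.val g) = 0)
    (M : Submodule (PowerSeries k) (RootDisk 2 k × PowerSeries k))
    (hM : M = Submodule.span (PowerSeries k)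
        {(1 : RootDisk 2 k × PowerSeries k), (x ^ m * g, 0)} ⊔
      ((Ideal.span {x ^ n} : Ideal (RootDisk 2 k)).restrictScalars (PowerSeries k)).prod ⊥) :
    ∃ a ∈ M, ∃ b ∈ M, a * b ∉ M := by
  subst hM
  have ha : ((x ^ m * g, 0) : RootDisk 2 k × PowerSeries k) ∈
      Submodule.span (PowerSeries k) {(1 : RootDisk 2 k × PowerSeries k), (x ^ m * g, 0)} ⊔
      ((Ideal.span {x ^ n} : Ideal (RootDisk 2 k)).restrictScalars (PowerSeries k)).prod ⊥ :=
    Submodule.mem_sup_left (Submodule.subset_span (Set.mem_insert_of_mem _ (Set.mem_singleton _)))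
  refine ⟨_, ha, _, ha, ?_⟩
  intro hmem
  obtain ⟨u, hu, w, hw, huw⟩ := Submodule.mem_sup.mp hmem
  obtain ⟨α, β, rfl⟩ := Submodule.mem_span_pair.mp hu
  obtain ⟨hw1, hw2⟩ := Submodule.mem_prod.mp hw
  rw [Submodule.restrictScalars_mem, Ideal.mem_span_singleton'] at hw1
  obtain ⟨h, hh⟩ := hw1
  rw [Submodule.mem_bot] at hw2
  have e2 := congrArg Prod.snd huw
  have e1 := congrArg Prod.fst huw
  have hα : α = 0 := by simpa [hw2] using e2
  have e1' : algebraMap (PowerSeries k) (RootDisk 2 k) β * (x ^ m * g) + h * x ^ n =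
      (x ^ m * g) * (x ^ m * g) := by
    simpa [hα, ← hh, Algebra.smul_def] using e1
  have e3 := congrArg RootDisk.val e1'
  simp only [map_add, map_mul, map_pow, hx, val_algebraMap] at e3
  exact core k m n hm hmn (RootDisk.val g) β (RootDisk.val h) hg e3

end Groth.Agent.Lib.CrimpOdd
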