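import Mathlib
import Groth.Prelude.Def_W4c1hurwitzcptBd

set_option autoImplicit false
universe u

namespace Groth.Agent.Lib.CrimpTri

open PowerSeries W4c1hurwitzcpt

theorem core3 (k : Type*) [Field k] (m n : ℕ) (hm : ¬ 3 ∣ m) (hmn : 2 * m < n)
    (g α β h : PowerSeries k) (hg : g.order = 0) :
    PowerSeries.expand 3 three_ne_zero α + PowerSeries.expand 3 three_ne_zero β * (X ^ m * g)
      + h * X ^ n ≠ (X ^ m * g) * (X ^ m * g) := by
  intro heq
  have oR : ((X : PowerSeries k) ^ m * g * (X ^ m * g)).order = ((2 * m : ℕ) : ℕ∞) := by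
    rw [order_mul, order_mul, order_X_pow, hg, add_zero, ← Nat.cast_add, two_mul]
  have o2 : ((n : ℕ) : ℕ∞) ≤ (h * X ^ n).order := by
    rw [order_mul, order_X_pow]; exact le_add_self
  have hsum := congrArg PowerSeries.order heq
  rw [oR] at hsum
  have key : ∀ s : PowerSeries k, (s.order = ⊤ ∨ ∃ N : ℕ, s.order = N ∧ N ≠ 2 * m) →
      (s + h * X ^ n).order ≠ ((2 * m : ℕ) : ℕ∞) := by
    intro s hs hcon
    rcases hs with hs | ⟨N, hN, hN2⟩
    · have : s = 0 := order_eq_top.mp hs
      rw [this, zero_add] at hcon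
      rw [hcon] at o2
      exact absurd (Nat.cast_le.mp o2) (by omega)
    · rcases Nat.lt_or_ge N (2 * m) with hlt | hge
      · have hne : s.order ≠ (h * X ^ n).order := by
          intro hc
          rw [hN] at hc
          rw [← hc] at o2
          exact absurd (Nat.cast_le.mp o2) (by omega)
        rw [order_add_of_order_ne _ _ hne, hN,
          min_eq_left (le_trans (Nat.cast_le.mpr (by omega)) o2)] at hcon
        exact absurd (Nat.cast_inj.mp hcon) (by omega)
      · have hle := min_order_le_order_add s (h * X ^ n)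
        rw [hcon, hN] at hle
        rcases min_le_iff.mp hle with h1 | h1
        · exact absurd (Nat.cast_le.mp h1) (by omega)
        · exact absurd (Nat.cast_le.mp (le_trans o2 h1)) (by omega)
  refine key _ ?_ hsum
  have oB : (PowerSeries.expand 3 three_ne_zero β * (X ^ m * g)).order = 3 • β.order + m := by
    rw [order_mul, order_mul, order_expand, order_X_pow, hg, add_zero]
  have oA : (PowerSeries.expand 3 three_ne_zero α).order = 3 • α.order := by
    rw [order_expand]
  rcases eq_or_ne α 0 with hα | hα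
  · rw [hα, map_zero, zero_add]
    rcases eq_or_ne β 0 with hβ | hβ
    · left; rw [hβ, map_zero, zero_mul, order_zero]
    · right
      obtain ⟨b, hb⟩ := ENat.ne_top_iff_exists.mp (fun htop => hβ (order_eq_top.mp htop))
      refine ⟨3 * b + m, ?_, by omega⟩
      rw [oB, ← hb]; push_cast; ring
  · obtain ⟨a, ha⟩ := ENat.ne_top_iff_exists.mp (fun htop => hα (order_eq_top.mp htop))
    have oA' : (PowerSeries.expand 3 three_ne_zero α).order = ((3 * a : ℕ) : ℕ∞) := by
      rw [oA, ← ha]; push_cast; ring
    rcases eq_or_ne β 0 with hβ | hβ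
    · right
      rw [hβ, map_zero, zero_mul, add_zero]
      exact ⟨3 * a, oA', by omega⟩
    · right
      obtain ⟨b, hb⟩ := ENat.ne_top_iff_exists.mp (fun htop => hβ (order_eq_top.mp htop))
      have oB' : (PowerSeries.expand 3 three_ne_zero β * (X ^ m * g)).order =
          ((3 * b + m : ℕ) : ℕ∞) := by
        rw [oB, ← hb]; push_cast; ring
      have hne : (PowerSeries.expand 3 three_ne_zero α).order ≠
          (PowerSeries.expand 3 three_ne_zero β * (X ^ m * g)).order := by
        rw [oA', oB']
        intro hc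
        have := Nat.cast_inj.mp hc
        omega
      rw [order_add_of_order_ne _ _ hne, oA', oB']
      rcases le_total (3 * a) (3 * b + m) with hle | hle
      · exact ⟨3 * a, by rw [min_eq_left (Nat.cast_le.mpr hle)], by omega⟩
      · exact ⟨3 * b + m, by rw [min_eq_right (Nat.cast_le.mpr hle)], by omega⟩

theorem val_algebraMap3 {k : Type u} [Field k] (β : PowerSeries k) :
    RootDisk.val (algebraMap (PowerSeries k) (RootDisk 3 k) β) =
      PowerSeries.expand 3 three_ne_zero β := rfl

theorem main3 {k : Type u} [Field k] [IsAlgClosed k] [CharZero k]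
    (m n : ℕ) (hm : ¬ 3 ∣ m) (x g : RootDisk 3 k)
    (hx : RootDisk.val x = PowerSeries.X) (hg : PowerSeries.order (RootDisk.val g) = 0)
    (M : Submodule (PowerSeries k) (RootDisk 3 k))
    (hM : M = Submodule.span (PowerSeries k) {1, x ^ m * g} ⊔
      (Ideal.span {x ^ n} : Ideal (RootDisk 3 k)).restrictScalars (PowerSeries k)) :
    (∀ a ∈ M, ∀ b ∈ M, a * b ∈ M) ↔ n ≤ 2 * m := by
  subst hM
  constructor
  · intro hclosed
    by_contra hlt
    push_neg at hlt
    have hf : x ^ m * g ∈ Submodule.span (PowerSeries k) {1, x ^ m * g} ⊔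
        (Ideal.span {x ^ n} : Ideal (RootDisk 3 k)).restrictScalars (PowerSeries k) :=
      Submodule.mem_sup_left
        (Submodule.subset_span (Set.mem_insert_of_mem _ (Set.mem_singleton _)))
    have hmem := hclosed _ hf _ hf
    obtain ⟨u, hu, w, hw, huw⟩ := Submodule.mem_sup.mp hmem
    obtain ⟨α, β, rfl⟩ := Submodule.mem_span_pair.mp hu
    rw [Submodule.restrictScalars_mem, Ideal.mem_span_singleton'] at hw
    obtain ⟨h, rfl⟩ := hw
    rw [Algebra.smul_def, Algebra.smul_def, mul_one] at huw
    have e3 := congrArg RootDisk.val huw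
    simp only [map_add, map_mul, map_pow, hx, val_algebraMap3] at e3
    exact core3 k m n hm hlt (RootDisk.val g) α β (RootDisk.val h) hg e3
  · intro hn a ha b hb
    obtain ⟨u, hu, w, hw, rfl⟩ := Submodule.mem_sup.mp ha
    obtain ⟨u', hu', w', hw', rfl⟩ := Submodule.mem_sup.mp hb
    obtain ⟨α, β, rfl⟩ := Submodule.mem_span_pair.mp hu
    obtain ⟨α', β', rfl⟩ := Submodule.mem_span_pair.mp hu'
    rw [Submodule.restrictScalars_mem] at hw hw'
    have hff : (x ^ m * g) * (x ^ m * g) ∈ (Ideal.span {x ^ n} : Ideal (RootDisk 3 k)) := by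
      rw [Ideal.mem_span_singleton]
      have h1 : x ^ n ∣ x ^ (2 * m) := pow_dvd_pow x hn
      exact h1.trans ⟨g * g, by ring⟩
    have key : (α • (1 : RootDisk 3 k) + β • (x ^ m * g) + w) *
        (α' • (1 : RootDisk 3 k) + β' • (x ^ m * g) + w') =
        (α * α') • (1 : RootDisk 3 k) + (α * β' + β * α') • (x ^ m * g) +
        ((β * β') • ((x ^ m * g) * (x ^ m * g)) +
          (α • (1 : RootDisk 3 k) + β • (x ^ m * g)) * w' +
          w * (α' • (1 : RootDisk 3 k) + β' • (x ^ m * g) + w')) := by
      simp only [Algebra.smul_def, map_mul, map_add]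
      ring
    rw [key]
    refine Submodule.add_mem _ (Submodule.mem_sup_left ?_) (Submodule.mem_sup_right ?_)
    · exact Submodule.mem_span_pair.mpr ⟨_, _, rfl⟩
    · rw [Submodule.restrictScalars_mem]
      refine Ideal.add_mem _ (Ideal.add_mem _ ?_ (Ideal.mul_mem_left _ _ hw'))
        (Ideal.mul_mem_right _ _ hw)
      rw [Algebra.smul_def]
      exact Ideal.mul_mem_left _ _ hff

end Groth.Agent.Lib.CrimpTri
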