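import Mathlib
import Groth.Prelude.Def_W4c1hurwitzcptBd

set_option autoImplicit false
universe u
open PowerSeries

namespace Groth.Agent.Lib.CrimpVal

open W4c1hurwitzcpt

section rank
variable {R : Type*} [CommRing R] [Nontrivial R] {V : Type*} [AddCommGroup V] [Module R V]

theorem cotorsion {n : ℕ} (w : Finset V) (hwc : w.card ≤ n)
    (hw : Submodule.span R (w : Set V) = ⊤)
    (M : Submodule R V) (bM : Module.Basis (Fin n) R M) (e : V) :
    ∃ c : R, c ≠ 0 ∧ c • e ∈ M := by
  by_contra hcon
  push_neg at hcon
  have hli : LinearIndependent R (fun i => ((bM i : M) : V)) :=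
    bM.linearIndependent.map' M.subtype (Submodule.ker_subtype M)
  have hli4 : LinearIndependent R
      (Fin.cons e (fun i => ((bM i : M) : V)) : Fin (n + 1) → V) := by
    refine LinearIndependent.finCons' _ _ hli ?_
    intro c y hy hcy
    by_contra hc
    apply hcon c hc
    have hyM : y ∈ M := by
      have hle : Submodule.span R (Set.range (fun i => ((bM i : M) : V))) ≤ M := by
        rw [Submodule.span_le]; rintro _ ⟨i, rfl⟩; exact (bM i).2
      exact hle hy
    have : c • e = -y := eq_neg_of_add_eq_zero_left hcy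
    rw [this]; exact M.neg_mem hyM
  have hcard := linearIndependent_le_span_finset _ hli4 w hw
  rw [Cardinal.mk_fin] at hcard
  have h2 : n + 1 ≤ w.card := by exact_mod_cast hcard
  omega

end rank

section ps
variable {k : Type u} [Field k]

theorem ultra {ι : Type*} [Fintype ι] (F : ι → PowerSeries k) (hsum : ∑ i, F i = 0)
    (hd : ∀ i j, i ≠ j → F i ≠ 0 → order (F i) ≠ order (F j)) : ∀ i, F i = 0 := by
  classical
  by_contra hcon
  push_neg at hcon
  obtain ⟨i1, hi1⟩ := hcon
  haveI : Nonempty ι := ⟨i1⟩
  obtain ⟨i0, hi0⟩ := Finite.exists_min (fun i => order (F i))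
  have hne : F i0 ≠ 0 := by
    intro h0
    apply hi1
    have h1 : order (F i0) = ⊤ := by rw [h0]; exact order_zero
    have h2 := hi0 i1
    rw [h1, top_le_iff] at h2
    exact order_eq_top.mp h2
  have hco := coeff_order hne
  apply hco
  have h2 : coeff (order (F i0)).toNat (∑ i, F i) = coeff (order (F i0)).toNat (F i0) := by
    rw [map_sum]
    refine Finset.sum_eq_single i0 (fun j _ hj => ?_) (fun h => absurd (Finset.mem_univ _) h)
    apply coeff_of_lt_order
    rw [coe_toNat_order hne]
    exact lt_of_le_of_ne (hi0 j) (hd i0 j (Ne.symm hj) hne)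
  rw [← h2, hsum, map_zero]

theorem exists_pow_smul_mem {V : Type*} [AddCommGroup V] [Module (PowerSeries k) V]
    (M : Submodule (PowerSeries k) V) (e : V) (c : PowerSeries k) (hc : c ≠ 0)
    (hce : c • e ∈ M) : ∃ n : ℕ, (X ^ n : PowerSeries k) • e ∈ M := by
  obtain ⟨n, hn⟩ := IsDiscreteValuationRing.associated_pow_irreducible hc
    (X_prime (R := k)).irreducible
  obtain ⟨u, hu⟩ := hn
  refine ⟨n, ?_⟩
  rw [← hu, mul_comm, mul_smul]
  exact M.smul_mem _ hce

variable {p : ℕ} [NeZero p]

theorem val_smul (a : PowerSeries k) (f : RootDisk p k) :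
    RootDisk.val (a • f) = expand p (NeZero.ne p) a * RootDisk.val f := rfl

theorem expand_inj' (a : PowerSeries k) (h : expand p (NeZero.ne p) a = 0) : a = 0 := by
  ext m
  rw [← coeff_expand_mul p (NeZero.ne p) a m, h]
  simp

theorem coeff_piece (i n : ℕ) (f : PowerSeries k) :
    coeff n (X ^ i * expand p (NeZero.ne p) (PowerSeries.mk fun m => coeff (p * m + i) f)) =
      if i ≤ n ∧ p ∣ n - i then coeff n f else 0 := by
  rw [coeff_X_pow_mul', coeff_expand]
  by_cases h1 : i ≤ n
  · by_cases h2 : p ∣ n - i
    · rw [if_pos h1, if_pos h2, if_pos ⟨h1, h2⟩, coeff_mk]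
      have : p * ((n - i) / p) + i = n := by
        rw [Nat.mul_div_cancel' h2]; omega
      rw [this]
    · rw [if_pos h1, if_neg h2, if_neg (fun h => h2 h.2)]
  · rw [if_neg h1, if_neg (fun h => h1 h.1)]

theorem decomp (f : PowerSeries k) :
    f = ∑ i ∈ Finset.range p,
      X ^ i * expand p (NeZero.ne p) (PowerSeries.mk fun m => coeff (p * m + i) f) := by
  have hp : 0 < p := Nat.pos_of_ne_zero (NeZero.ne p)
  ext n
  rw [map_sum, Finset.sum_eq_single (n % p)]
  · rw [coeff_piece, if_pos ⟨Nat.mod_le _ _, Nat.dvd_sub_mod n⟩]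
  · intro i hi hne
    rw [coeff_piece, if_neg]
    rintro ⟨h1, q, hq⟩
    apply hne
    have : n = i + p * q := by omega
    rw [this, Nat.add_mul_mod_self_left, Nat.mod_eq_of_lt (Finset.mem_range.mp hi)]
  · intro h; exact absurd (Finset.mem_range.mpr (Nat.mod_lt _ hp)) h

theorem span_top [DecidableEq (RootDisk p k)] :
    Submodule.span (PowerSeries k)
      (((Finset.range p).image (fun i => (RootDisk.val (p := p) (k := k)).symm (X ^ i)) :
        Finset (RootDisk p k)) : Set (RootDisk p k)) = ⊤ := by
  rw [eq_top_iff]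
  intro f _
  have h := decomp (p := p) (RootDisk.val f)
  have h2 : f = ∑ i ∈ Finset.range p,
      (PowerSeries.mk fun m => coeff (p * m + i) (RootDisk.val f)) •
        (RootDisk.val (p := p) (k := k)).symm (X ^ i) := by
    apply (RootDisk.val (p := p) (k := k)).injective
    rw [map_sum]
    conv_lhs => rw [h]
    refine Finset.sum_congr rfl fun i _ => ?_
    rw [val_smul, RingEquiv.apply_symm_apply, mul_comm]
  rw [h2]
  refine Submodule.sum_mem _ fun i hi => Submodule.smul_mem _ _ (Submodule.subset_span ?_)
  exact Finset.mem_coe.mpr (Finset.mem_image_of_mem _ hi)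

theorem core (M : Submodule (PowerSeries k) (RootDisk p k)) (hfg : M.FG)
    (hcot : ∀ e : RootDisk p k, ∃ n : ℕ, (X ^ n : PowerSeries k) • e ∈ M) :
    ∃ g : Fin p → RootDisk p k, (∀ r, g r ∈ M) ∧ (∀ r, g r ≠ 0) ∧
      (∀ r, (order (RootDisk.val (g r))).toNat % p = r.val) ∧
      LinearIndependent (PowerSeries k) g ∧
      Submodule.span (PowerSeries k) (Set.range g) = M := by
  classical
  have hp : 0 < p := Nat.pos_of_ne_zero (NeZero.ne p)
  -- step 1: nonempty classes
  have hA : ∀ r : Fin p, ∃ n : ℕ,
      ∃ f ∈ M, order (RootDisk.val f) = (n : ℕ∞) ∧ n % p = r.val := by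
    intro r
    obtain ⟨N, hN⟩ := hcot ((RootDisk.val (p := p) (k := k)).symm (X ^ r.val))
    refine ⟨p * N + r.val, _, hN, ?_, ?_⟩
    · rw [val_smul, RingEquiv.apply_symm_apply, map_pow, expand_X, ← pow_mul, ← pow_add,
        order_X_pow]
    · rw [Nat.mul_add_mod, Nat.mod_eq_of_lt r.isLt]
  have hA' : ∀ r : Fin p, ∃ n : ℕ,
      (∃ f ∈ M, order (RootDisk.val f) = (n : ℕ∞) ∧ n % p = r.val) ∧
      ∀ m : ℕ, (∃ f ∈ M, order (RootDisk.val f) = (m : ℕ∞) ∧ m % p = r.val) → n ≤ m :=
    fun r => ⟨Nat.find (hA r), Nat.find_spec (hA r), fun m hm => Nat.find_min' (hA r) hm⟩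
  choose n hn hmin using hA'
  choose g hgM hgord hgmod using hn
  have hgv0 : ∀ r, RootDisk.val (g r) ≠ 0 := by
    intro r h0
    have := hgord r
    rw [h0, order_zero] at this
    exact ENat.top_ne_natCast _ this
  have hg0 : ∀ r, g r ≠ 0 := fun r h0 => hgv0 r (by rw [h0, map_zero])
  have hgtoNat : ∀ r, (order (RootDisk.val (g r))).toNat = n r := fun r => by
    rw [hgord r, ENat.toNat_natCast]
  -- uniform bound
  have hNex : ∃ N : ℕ, ∀ e : RootDisk p k, (X ^ N : PowerSeries k) • e ∈ M := by
    choose N' hN' using hcot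
    let w : ℕ → RootDisk p k := fun i => (RootDisk.val (p := p) (k := k)).symm (X ^ i)
    refine ⟨∑ i ∈ Finset.range p, N' (w i), fun e => ?_⟩
    have hle : Submodule.span (PowerSeries k)
        (((Finset.range p).image w : Finset (RootDisk p k)) : Set (RootDisk p k)) ≤
        M.comap (LinearMap.lsmul (PowerSeries k) (RootDisk p k)
          (X ^ (∑ i ∈ Finset.range p, N' (w i)))) := by
      rw [Submodule.span_le]
      intro y hy
      rw [Finset.mem_coe, Finset.mem_image] at hy
      obtain ⟨i, hi, rfl⟩ := hy
      rw [SetLike.mem_coe, Submodule.mem_comap, LinearMap.lsmul_apply]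
      have hle' : N' (w i) ≤ ∑ i ∈ Finset.range p, N' (w i) :=
        Finset.single_le_sum (f := fun i => N' (w i)) (fun _ _ => Nat.zero_le _) hi
      obtain ⟨d, hd⟩ := Nat.exists_eq_add_of_le hle'
      rw [hd, pow_add, mul_comm, mul_smul]
      exact M.smul_mem _ (hN' (w i))
    have he : e ∈ Submodule.span (PowerSeries k)
        (((Finset.range p).image w : Finset (RootDisk p k)) : Set (RootDisk p k)) := by
      have he' : e ∈ (⊤ : Submodule (PowerSeries k) (RootDisk p k)) := Submodule.mem_top
      rw [← span_top (p := p) (k := k)] at he'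
      exact he'
    have := hle he
    rw [Submodule.mem_comap, LinearMap.lsmul_apply] at this
    exact this
  -- linear independence
  have hli : LinearIndependent (PowerSeries k) g := by
    rw [Fintype.linearIndependent_iff]
    intro a hsum
    have hF : ∀ i, expand p (NeZero.ne p) (a i) * RootDisk.val (g i) = 0 := by
      refine ultra (fun i => expand p (NeZero.ne p) (a i) * RootDisk.val (g i)) ?_ ?_
      · have := congrArg (RootDisk.val (p := p) (k := k)) hsum
        rw [map_sum, map_zero] at this
        simpa only [val_smul] using this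
      · intro i j hij hi hEq
        beta_reduce at hi hEq
        have hai : a i ≠ 0 := by
          intro h; apply hi; rw [h, map_zero, zero_mul]
        by_cases hj : expand p (NeZero.ne p) (a j) * RootDisk.val (g j) = 0
        · rw [hj, order_zero] at hEq
          exact hi (order_eq_top.mp hEq)
        · have haj : a j ≠ 0 := by
            intro h; apply hj; rw [h, map_zero, zero_mul]
          obtain ⟨α, hα⟩ := ENat.ne_top_iff_exists.mp (order_eq_top.not.mpr hai)
          obtain ⟨β, hβ⟩ := ENat.ne_top_iff_exists.mp (order_eq_top.not.mpr haj)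
          rw [order_mul, order_mul, order_expand, order_expand, hgord, hgord,
            ← hα, ← hβ] at hEq
          have hEq' : p * α + n i = p * β + n j := by
            have : ((p * α + n i : ℕ) : ℕ∞) = ((p * β + n j : ℕ) : ℕ∞) := by
              push_cast
              simpa only [nsmul_eq_mul] using hEq
            exact_mod_cast this
          apply hij
          apply Fin.ext
          rw [← hgmod i, ← hgmod j]
          have := congrArg (· % p) hEq'
          simpa only [Nat.mul_add_mod] using this
    intro i
    rcases mul_eq_zero.mp (hF i) with h | h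
    · exact expand_inj' _ h
    · exact absurd h (hgv0 i)
  -- Nakayama
  have hM'le : Submodule.span (PowerSeries k) (Set.range g) ≤ M := by
    rw [Submodule.span_le]; rintro _ ⟨r, rfl⟩; exact hgM r
  have hIJ : (Ideal.span {(X : PowerSeries k)} : Ideal (PowerSeries k)) ≤ Ideal.jacobson ⊥ := by
    rw [IsLocalRing.jacobson_eq_maximalIdeal ⊥ bot_ne_top, Ideal.span_le,
      Set.singleton_subset_iff]
    exact (IsLocalRing.mem_maximalIdeal _).mpr (X_prime (R := k)).not_isUnit
  obtain ⟨N, hN⟩ := hNex
  have hhigh : ∀ f : RootDisk p k, ((p * (N + 1) : ℕ) : ℕ∞) ≤ order (RootDisk.val f) →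
      f ∈ (Ideal.span {(X : PowerSeries k)} : Ideal (PowerSeries k)) • M := by
    intro f hf
    have hdvd : (X : PowerSeries k) ^ (p * (N + 1)) ∣ RootDisk.val f := by
      rw [X_pow_dvd_iff]
      intro m hm
      exact coeff_of_lt_order m (lt_of_lt_of_le (by exact_mod_cast hm) hf)
    obtain ⟨h', hh'⟩ := hdvd
    have hfe : f = (X : PowerSeries k) •
        ((X ^ N : PowerSeries k) • (RootDisk.val (p := p) (k := k)).symm h') := by
      apply (RootDisk.val (p := p) (k := k)).injective
      rw [val_smul, val_smul, map_pow, expand_X, RingEquiv.apply_symm_apply, hh']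
      ring
    rw [hfe]
    exact Submodule.smul_mem_smul (Ideal.mem_span_singleton_self _) (hN _)
  have hind : ∀ d : ℕ, ∀ f ∈ M, ∀ m : ℕ, (m : ℕ∞) ≤ order (RootDisk.val f) →
      p * (N + 1) ≤ m + d →
      f ∈ Submodule.span (PowerSeries k) (Set.range g) ⊔
        (Ideal.span {(X : PowerSeries k)} : Ideal (PowerSeries k)) • M := by
    intro d
    induction d with
    | zero =>
      intro f hf m hm hd
      apply Submodule.mem_sup_right
      apply hhigh
      refine le_trans ?_ hm
      have : p * (N + 1) ≤ m := by omega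
      exact_mod_cast this
    | succ d ih =>
      intro f hf m hm hd
      by_cases hbig : p * (N + 1) ≤ m
      · apply Submodule.mem_sup_right
        apply hhigh
        exact le_trans (by exact_mod_cast hbig) hm
      · by_cases hc : coeff m (RootDisk.val f) = 0
        · apply ih f hf (m + 1) _ (by omega)
          apply nat_le_order
          intro i hi
          rcases Nat.lt_succ_iff_lt_or_eq.mp hi with h | h
          · exact coeff_of_lt_order i (lt_of_lt_of_le (by exact_mod_cast h) hm)
          · rw [h]; exact hc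
        · have hord : order (RootDisk.val f) = (m : ℕ∞) := by
            rw [order_eq_nat]
            exact ⟨hc, fun i hi =>
              coeff_of_lt_order i (lt_of_lt_of_le (by exact_mod_cast hi) hm)⟩
          obtain ⟨r, hr⟩ : ∃ r : Fin p, r.val = m % p := ⟨⟨m % p, Nat.mod_lt _ hp⟩, rfl⟩
          have hnm : n r ≤ m := hmin r m ⟨f, hf, hord, hr.symm⟩
          have hdv : p ∣ m - n r := by
            apply Nat.dvd_of_mod_eq_zero
            apply Nat.sub_mod_eq_zero_of_mod_eq
            rw [hgmod r, hr]
          obtain ⟨e, he⟩ := hdv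
          have hcg : coeff (n r) (RootDisk.val (g r)) ≠ 0 := (order_eq_nat.mp (hgord r)).1
          have hlow : ∀ i, i < n r → coeff i (RootDisk.val (g r)) = 0 :=
            (order_eq_nat.mp (hgord r)).2
          have hf'M : f - (C (coeff m (RootDisk.val f) / coeff (n r) (RootDisk.val (g r))) *
              X ^ e : PowerSeries k) • g r ∈ M := M.sub_mem hf (M.smul_mem _ (hgM r))
          have hval : RootDisk.val (f - (C (coeff m (RootDisk.val f) /
              coeff (n r) (RootDisk.val (g r))) * X ^ e : PowerSeries k) • g r) =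
              RootDisk.val f - C (coeff m (RootDisk.val f) / coeff (n r) (RootDisk.val (g r))) *
                (X ^ (p * e) * RootDisk.val (g r)) := by
            rw [map_sub, val_smul, map_mul, expand_C, map_pow, expand_X, ← pow_mul, mul_assoc]
          have hf'ord : ((m + 1 : ℕ) : ℕ∞) ≤ order (RootDisk.val (f - (C (coeff m (RootDisk.val f) /
              coeff (n r) (RootDisk.val (g r))) * X ^ e : PowerSeries k) • g r)) := by
            apply nat_le_order
            intro i hi
            rw [hval, map_sub, coeff_C_mul, coeff_X_pow_mul']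
            rcases Nat.lt_succ_iff_lt_or_eq.mp hi with h | h
            · have h1 : coeff i (RootDisk.val f) = 0 :=
                coeff_of_lt_order i (lt_of_lt_of_le (by exact_mod_cast h) hm)
              rw [h1]
              split_ifs with h2
              · rw [hlow (i - p * e) (by omega), mul_zero, sub_zero]
              · rw [mul_zero, sub_zero]
            · rw [h, if_pos (by omega)]
              have : m - p * e = n r := by omega
              rw [this, div_mul_cancel₀ _ hcg, sub_self]
          have hmem := ih _ hf'M (m + 1) hf'ord (by omega)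
          have hfe : f = (f - (C (coeff m (RootDisk.val f) / coeff (n r) (RootDisk.val (g r))) *
              X ^ e : PowerSeries k) • g r) + (C (coeff m (RootDisk.val f) /
              coeff (n r) (RootDisk.val (g r))) * X ^ e : PowerSeries k) • g r := by
            rw [sub_add_cancel]
          rw [hfe]
          exact Submodule.add_mem _ hmem (Submodule.mem_sup_left
            (Submodule.smul_mem _ _ (Submodule.subset_span ⟨r, rfl⟩)))
  have hMle : M ≤ Submodule.span (PowerSeries k) (Set.range g) := by
    apply Submodule.le_of_le_smul_of_le_jacobson_bot hfg hIJ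
    intro f hf
    exact hind (p * (N + 1)) f hf 0 (by simp) (by omega)
  exact ⟨g, hgM, hg0, fun r => by rw [hgtoNat r, hgmod r], hli, le_antisymm hM'le hMle⟩

end ps

theorem main84 {k : Type u} [Field k]
    (M : Submodule (PowerSeries k) (RootDisk 3 k))
    (bM : Module.Basis (Fin 3) (PowerSeries k) M) :
    ∃ g : Module.Basis (Fin 3) (PowerSeries k) M, ∀ i j : Fin 3, i ≠ j →
      ¬ Nat.ModEq 3 (order (RootDisk.val ((g i : M) : RootDisk 3 k))).toNat
        (order (RootDisk.val ((g j : M) : RootDisk 3 k))).toNat := by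
  classical
  have hfg : M.FG := by
    haveI : Module.Finite (PowerSeries k) M := Module.Finite.of_basis bM
    exact Module.Finite.iff_fg.mp inferInstance
  have hcot : ∀ e, ∃ n : ℕ, (X ^ n : PowerSeries k) • e ∈ M := by
    intro e
    have hsp3 := span_top (p := 3) (k := k)
    have hcard3 : (((Finset.range 3).image
        (fun i => (RootDisk.val (p := 3) (k := k)).symm (X ^ i))) :
        Finset (RootDisk 3 k)).card ≤ 3 := by
      refine Finset.card_image_le.trans ?_
      rw [Finset.card_range]
    obtain ⟨c, hc, hce⟩ := cotorsion _ hcard3 hsp3 M bM e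
    exact exists_pow_smul_mem M e c hc hce
  obtain ⟨g, hgM, hg0, hgmod, hli, hsp⟩ := core M hfg hcot
  refine ⟨(Module.Basis.span hli).map (LinearEquiv.ofEq _ _ hsp), ?_⟩
  have hb : ∀ i, ((((Module.Basis.span hli).map (LinearEquiv.ofEq _ _ hsp)) i : M) :
      RootDisk 3 k) = g i := by
    intro i
    rw [Module.Basis.map_apply, LinearEquiv.coe_ofEq_apply, Module.Basis.span_apply]
  intro i j hij hmod
  rw [hb, hb] at hmod
  unfold Nat.ModEq at hmod
  rw [hgmod, hgmod] at hmod
  exact hij (Fin.ext hmod)

theorem main85 {k : Type u} [Field k]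
    (M : Submodule (PowerSeries k) (RootDisk 2 k × PowerSeries k))
    (h1 : (1 : RootDisk 2 k × PowerSeries k) ∈ M)
    (bM : Module.Basis (Fin 3) (PowerSeries k) M) :
    ∃ f₁ f₂ : RootDisk 2 k,
      ¬ Nat.ModEq 2 (order (RootDisk.val f₁)).toNat (order (RootDisk.val f₂)).toNat ∧
      M = Submodule.span (PowerSeries k)
        {(1 : RootDisk 2 k × PowerSeries k), (f₁, 0), (f₂, 0)} := by
  classical
  let π : (RootDisk 2 k × PowerSeries k) →ₗ[PowerSeries k] RootDisk 2 k :=
    { toFun := fun y => y.1 - y.2 • (1 : RootDisk 2 k)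
      map_add' := fun y z => by
        simp only [Prod.fst_add, Prod.snd_add, add_smul]; abel
      map_smul' := fun a y => by
        simp only [Prod.smul_fst, Prod.smul_snd, smul_eq_mul, RingHom.id_apply, smul_sub,
          mul_smul] }
  have hπ : ∀ y, π y = y.1 - y.2 • (1 : RootDisk 2 k) := fun y => rfl
  have hdec : ∀ y : RootDisk 2 k × PowerSeries k,
      y = y.2 • (1 : RootDisk 2 k × PowerSeries k) + (π y, 0) := by
    intro y
    ext
    · simp [hπ]
    · simp
  let M0 : Submodule (PowerSeries k) (RootDisk 2 k) :=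
    M.comap (LinearMap.inl (PowerSeries k) (RootDisk 2 k) (PowerSeries k))
  have hmemM0 : ∀ f : RootDisk 2 k, f ∈ M0 ↔ ((f, 0) : RootDisk 2 k × PowerSeries k) ∈ M :=
    fun f => Iff.rfl
  have hπM : ∀ y ∈ M, π y ∈ M0 := by
    intro y hy
    rw [hmemM0]
    have : ((π y, 0) : RootDisk 2 k × PowerSeries k) =
        y - y.2 • (1 : RootDisk 2 k × PowerSeries k) := by
      rw [eq_sub_iff_add_eq, add_comm]; exact (hdec y).symm
    rw [this]
    exact M.sub_mem hy (M.smul_mem _ h1)
  have hM0 : M0 = M.map π := by
    ext f
    constructor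
    · intro hf
      exact ⟨(f, 0), (hmemM0 f).mp hf, by simp [hπ]⟩
    · rintro ⟨y, hy, rfl⟩
      exact hπM y hy
  have hfg : M0.FG := by
    rw [hM0]
    apply Submodule.FG.map
    haveI : Module.Finite (PowerSeries k) M := Module.Finite.of_basis bM
    exact Module.Finite.iff_fg.mp inferInstance
  let W : Finset (RootDisk 2 k × PowerSeries k) :=
    ((Finset.range 2).image (fun i =>
      (((RootDisk.val (p := 2) (k := k)).symm (X ^ i), (0 : PowerSeries k)) :
        RootDisk 2 k × PowerSeries k))) ∪ {((0 : RootDisk 2 k), (1 : PowerSeries k))}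
  have hWcard : W.card ≤ 3 := by
    refine (Finset.card_union_le _ _).trans ?_
    have := Finset.card_image_le (s := Finset.range 2) (f := fun i =>
      (((RootDisk.val (p := 2) (k := k)).symm (X ^ i), (0 : PowerSeries k)) :
        RootDisk 2 k × PowerSeries k))
    rw [Finset.card_range] at this
    rw [Finset.card_singleton]
    omega
  have hWspan : Submodule.span (PowerSeries k) (W : Set (RootDisk 2 k × PowerSeries k)) = ⊤ := by
    rw [eq_top_iff]
    intro y _
    have hy : y = LinearMap.inl (PowerSeries k) (RootDisk 2 k) (PowerSeries k) y.1 +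
        y.2 • ((0, 1) : RootDisk 2 k × PowerSeries k) := by
      ext <;> simp
    rw [hy]
    refine Submodule.add_mem _ ?_ (Submodule.smul_mem _ _ (Submodule.subset_span ?_))
    · have h1 : y.1 ∈ Submodule.span (PowerSeries k)
          (((Finset.range 2).image (fun i => (RootDisk.val (p := 2) (k := k)).symm (X ^ i)) :
            Finset (RootDisk 2 k)) : Set (RootDisk 2 k)) := by
        rw [span_top (p := 2) (k := k)]; trivial
      have hmap : Submodule.map (LinearMap.inl (PowerSeries k) (RootDisk 2 k) (PowerSeries k))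
          (Submodule.span (PowerSeries k)
          (((Finset.range 2).image (fun i => (RootDisk.val (p := 2) (k := k)).symm (X ^ i)) :
            Finset (RootDisk 2 k)) : Set (RootDisk 2 k))) ≤
          Submodule.span (PowerSeries k) (W : Set (RootDisk 2 k × PowerSeries k)) := by
        rw [Submodule.map_span]
        apply Submodule.span_mono
        rintro _ ⟨x, hx, rfl⟩
        rw [Finset.mem_coe, Finset.mem_image] at hx
        obtain ⟨i, hi, rfl⟩ := hx
        rw [Finset.mem_coe]
        apply Finset.mem_union_left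
        exact Finset.mem_image.mpr ⟨i, hi, rfl⟩
      exact hmap ⟨y.1, h1, rfl⟩
    · rw [Finset.mem_coe]
      exact Finset.mem_union_right _ (Finset.mem_singleton_self _)
  have hcot : ∀ e : RootDisk 2 k, ∃ n : ℕ, (X ^ n : PowerSeries k) • e ∈ M0 := by
    intro e
    obtain ⟨c, hc, hce⟩ := cotorsion W hWcard hWspan M bM
      ((e, 0) : RootDisk 2 k × PowerSeries k)
    obtain ⟨n, hn⟩ := exists_pow_smul_mem M _ c hc hce
    refine ⟨n, ?_⟩
    rw [hmemM0]
    have : (((X ^ n : PowerSeries k) • e, (0 : PowerSeries k)) : RootDisk 2 k × PowerSeries k) =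
        (X ^ n : PowerSeries k) • ((e, 0) : RootDisk 2 k × PowerSeries k) := by
      ext <;> simp
    rw [this]; exact hn
  obtain ⟨g, hgM, hg0, hgmod, hli, hsp⟩ := core M0 hfg hcot
  refine ⟨g 0, g 1, ?_, ?_⟩
  · intro hmod
    unfold Nat.ModEq at hmod
    rw [hgmod, hgmod] at hmod
    simp at hmod
  · apply le_antisymm
    · intro y hy
      rw [hdec y]
      refine Submodule.add_mem _ (Submodule.smul_mem _ _ (Submodule.subset_span (by simp))) ?_
      have hπy : π y ∈ M0 := hπM y hy
      rw [← hsp] at hπy
      have hmap : Submodule.map (LinearMap.inl (PowerSeries k) (RootDisk 2 k) (PowerSeries k))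
          (Submodule.span (PowerSeries k) (Set.range g)) ≤
          Submodule.span (PowerSeries k)
            {(1 : RootDisk 2 k × PowerSeries k), (g 0, 0), (g 1, 0)} := by
        rw [Submodule.map_span, Submodule.span_le]
        rintro _ ⟨_, ⟨i, rfl⟩, rfl⟩
        apply Submodule.subset_span
        fin_cases i <;> simp
      exact hmap ⟨π y, hπy, rfl⟩
    · rw [Submodule.span_le]
      intro y hy
      simp only [Set.mem_insert_iff, Set.mem_singleton_iff] at hy
      rcases hy with rfl | rfl | rfl
      · exact h1
      · exact (hmemM0 _).mp (hgM 0)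
      · exact (hmemM0 _).mp (hgM 1)

end Groth.Agent.Lib.CrimpVal
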