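import Mathlib

/-!
# Lengths of quotients of lattices over a DVR and discriminants of suborders (helper9)
-/

namespace Groth.Agent.Lib.Crimp

open Module Submodule

section ordL

variable {R : Type*} [CommRing R] [IsDomain R] [IsDiscreteValuationRing R]

/-- The order of vanishing, as the length of `R/(x)`. -/
noncomputable def ordL (x : R) : ℕ∞ := Module.length R (R ⧸ Ideal.span {x})

lemma ordL_pow {ϖ : R} (h : Irreducible ϖ) (n : ℕ) : ordL (ϖ ^ n) = n := by
  unfold ordL
  rw [← Ideal.span_singleton_pow, ← h.maximalIdeal_eq,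
    IsDiscreteValuationRing.length_quotient_pow_maximalIdeal]

lemma ordL_congr {x y : R} (h : Associated x y) : ordL x = ordL y := by
  unfold ordL
  rw [Ideal.span_singleton_eq_span_singleton.mpr h]

lemma ordL_one : ordL (1 : R) = 0 := by
  obtain ⟨ϖ, hϖ⟩ := IsDiscreteValuationRing.exists_irreducible R
  have := ordL_pow hϖ 0
  simpa using this

lemma ordL_mul {x y : R} (hx : x ≠ 0) (hy : y ≠ 0) : ordL (x * y) = ordL x + ordL y := by
  obtain ⟨ϖ, hϖ⟩ := IsDiscreteValuationRing.exists_irreducible R
  obtain ⟨n, hn⟩ := IsDiscreteValuationRing.associated_pow_irreducible hx hϖ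
  obtain ⟨m, hm⟩ := IsDiscreteValuationRing.associated_pow_irreducible hy hϖ
  rw [ordL_congr hn, ordL_congr hm, ordL_congr (hn.mul_mul hm), ← pow_add, ordL_pow hϖ,
    ordL_pow hϖ, ordL_pow hϖ]
  push_cast
  rfl

lemma ordL_prod {ι : Type*} (s : Finset ι) (f : ι → R) (hf : ∀ i ∈ s, f i ≠ 0) :
    ordL (∏ i ∈ s, f i) = ∑ i ∈ s, ordL (f i) := by
  classical
  induction s using Finset.induction_on with
  | empty => simp [ordL_one]
  | insert a s ha ih =>
    rw [Finset.prod_insert ha, Finset.sum_insert ha, ordL_mul (hf a (Finset.mem_insert_self a s))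
      (Finset.prod_ne_zero_iff.mpr fun i hi => hf i (Finset.mem_insert_of_mem hi)),
      ih fun i hi => hf i (Finset.mem_insert_of_mem hi)]

end ordL

section lattice

variable {R : Type*} [CommRing R] [IsDomain R] [IsPrincipalIdealRing R]
variable {ι : Type*} [Fintype ι] [DecidableEq ι]
variable {M : Type*} [AddCommGroup M] [Module R M]

lemma finrank_eq_of_bases (bM : Basis ι R M) (N : Submodule R M) (bN : Basis ι R N) :
    Module.finrank R N = Module.finrank R M := by
  rw [Module.finrank_eq_card_basis bN, Module.finrank_eq_card_basis bM]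

/-- The determinant of a basis of a full-rank sublattice is associated with the product of the
Smith coefficients. -/
lemma associated_det_prod_smith (bM : Basis ι R M) (N : Submodule R M) (bN : Basis ι R N) :
    Associated (bM.det (fun j => ((bN j : N) : M)))
      (∏ i, smithNormalFormCoeffs bM (finrank_eq_of_bases bM N bN) i) := by
  set h := finrank_eq_of_bases bM N bN
  let a := smithNormalFormCoeffs bM h
  let b' := smithNormalFormTopBasis bM h
  let ab := smithNormalFormBotBasis bM h
  have ab_eq := smithNormalFormBotBasis_def bM h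
  let e' : M ≃ₗ[R] N := b'.equiv ab (Equiv.refl _)
  let f : M →ₗ[R] M := N.subtype.comp (e' : M →ₗ[R] N)
  have f_apply : ∀ x, f x = b'.equiv ab (Equiv.refl _) x := fun x ↦ rfl
  have ha : ∀ i, f (b' i) = a i • b' i := by
    intro i
    rw [f_apply, b'.equiv_apply, Equiv.refl_apply]
    exact ab_eq i
  have hdet : LinearMap.det f = ∏ i, a i := by
    rw [← LinearMap.det_toMatrix b', ← Matrix.det_diagonal]
    congr 1
    ext i j
    rw [LinearMap.toMatrix_apply, ha, map_smul, Basis.repr_self, Finsupp.smul_single,
      smul_eq_mul, mul_one]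
    by_cases h : i = j
    · rw [h, Matrix.diagonal_apply_eq, Finsupp.single_eq_same]
    · rw [Matrix.diagonal_apply_ne _ h, Finsupp.single_eq_of_ne h]
  let e := bM.equiv bN (Equiv.refl _)
  have h1 : bM.det (fun j => ((bN j : N) : M)) =
      LinearMap.det (N.subtype ∘ₗ (e : M →ₗ[R] N)) := by
    have := Basis.det_comp_basis bN bM N.subtype
    rw [← this]
    rfl
  rw [h1, ← hdet]
  exact LinearMap.associated_det_comp_equiv _ _ _

/-- The determinant kills the quotient. -/
lemma det_smul_quotient (bM : Basis ι R M) (N : Submodule R M) (bN : Basis ι R N)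
    (q : M ⧸ N) : (bM.det (fun j => ((bN j : N) : M))) • q = 0 := by
  set h := finrank_eq_of_bases bM N bN
  obtain ⟨u, hu⟩ := (associated_det_prod_smith bM N bN).symm
  rw [← hu, mul_comm, mul_smul]
  have key : (∏ i, smithNormalFormCoeffs bM h i) • q = 0 := by
    apply (quotientEquivPiSpan N bM h).injective
    rw [map_smul, map_zero]
    funext i
    rw [Pi.smul_apply, Pi.zero_apply]
    obtain ⟨r, hr⟩ := Ideal.Quotient.mk_surjective ((quotientEquivPiSpan N bM h) q i)
    rw [← hr, ← Ideal.Quotient.mk_eq_mk, ← Submodule.Quotient.mk_smul, Ideal.Quotient.mk_eq_mk,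
      Ideal.Quotient.eq_zero_iff_mem, smul_eq_mul, Ideal.mem_span_singleton]
    exact Dvd.dvd.mul_right (Finset.dvd_prod_of_mem _ (Finset.mem_univ i)) r
  rw [key, smul_zero]

end lattice

section dvr

variable {R : Type*} [CommRing R] [IsDomain R] [IsDiscreteValuationRing R]
variable {ι : Type*} [Fintype ι] [DecidableEq ι]
variable {M : Type*} [AddCommGroup M] [Module R M]

/-- Over a DVR, the length of the quotient by a full-rank sublattice is the order of the
determinant. -/
theorem length_quotient_eq_ordL_det (bM : Basis ι R M) (N : Submodule R M) (bN : Basis ι R N) :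
    Module.length R (M ⧸ N) = ordL (bM.det (fun j => ((bN j : N) : M))) := by
  set h := finrank_eq_of_bases bM N bN
  rw [ordL_congr (associated_det_prod_smith bM N bN),
    ordL_prod _ _ fun i _ => smithNormalFormCoeffs_ne_zero bM h i,
    (quotientEquivPiSpan N bM h).length_eq, Module.length_pi_of_fintype]
  rfl

end dvr


section discr

variable {R : Type*} [CommRing R] [IsDomain R]
variable {St : Type*} [CommRing St] [Algebra R St]
variable {ι : Type*} [Fintype ι] [DecidableEq ι]

/-- The change of basis matrix of a full-rank subalgebra has nonzero determinant. -/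
lemma det_toMatrix_ne_zero (bt : Basis ι R St) (S : Subalgebra R St) (bS : Basis ι R S) :
    (bt.toMatrix (fun j => ((bS j : S) : St))).det ≠ 0 := by
  intro h0
  obtain ⟨v, hv, hPv⟩ := Matrix.exists_mulVec_eq_zero_iff.mpr h0
  apply hv
  have hx : (∑ j, v j • bS j : S) = 0 := by
    apply Subtype.ext
    apply bt.repr.injective
    ext i
    have := congrFun hPv i
    simp only [Matrix.mulVec, dotProduct, Basis.toMatrix_apply, Pi.zero_apply] at this
    rw [ZeroMemClass.coe_zero, map_zero, Finsupp.zero_apply, ← this]
    simp only [AddSubmonoidClass.coe_finset_sum, Subalgebra.coe_smul, map_sum, map_smul,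
      Finsupp.coe_finset_sum, Finsupp.coe_smul, Finset.sum_apply, Pi.smul_apply, smul_eq_mul]
    exact Finset.sum_congr rfl fun j _ => mul_comm _ _
  funext j
  exact Fintype.linearIndependent_iff.mp bS.linearIndependent v hx j

/-- Traces of elements of a full-rank subalgebra can be computed in the ambient algebra. -/
lemma trace_subalgebra_eq (bt : Basis ι R St) (S : Subalgebra R St) (bS : Basis ι R S) (x : S) :
    Algebra.trace R S x = Algebra.trace R St (x : St) := by
  rw [Algebra.trace_eq_matrix_trace bS, Algebra.trace_eq_matrix_trace bt]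
  set P := bt.toMatrix (fun j => ((bS j : S) : St)) with hP
  set A := Algebra.leftMulMatrix bS x with hA
  set B := Algebra.leftMulMatrix bt (x : St) with hB
  have hPdet := det_toMatrix_ne_zero bt S bS
  have hι : LinearMap.toMatrix bS bt S.val.toLinearMap = P := by
    ext i j
    rw [LinearMap.toMatrix_apply, hP, Basis.toMatrix_apply]
    rfl
  have hcomm : S.val.toLinearMap ∘ₗ LinearMap.mulLeft R x =
      LinearMap.mulLeft R (x : St) ∘ₗ S.val.toLinearMap := by
    ext y
    simp
  have hPA : P * A = B * P := by
    rw [← hι, hA, hB, ← Algebra.toMatrix_lmul_eq, ← Algebra.toMatrix_lmul_eq,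
      ← LinearMap.toMatrix_comp, ← LinearMap.toMatrix_comp, hcomm]
  have h1 : P.det * A.trace = P.det * B.trace := by
    have e1 : (P.adjugate * (P * A)).trace = P.det * A.trace := by
      rw [← Matrix.mul_assoc, Matrix.adjugate_mul, Matrix.smul_mul, Matrix.one_mul,
        Matrix.trace_smul, smul_eq_mul]
    have e2 : (P.adjugate * (B * P)).trace = P.det * B.trace := by
      rw [Matrix.trace_mul_comm, Matrix.mul_assoc, Matrix.mul_adjugate, Matrix.mul_smul,
        Matrix.mul_one, Matrix.trace_smul, smul_eq_mul]
    rw [← e1, ← e2, hPA]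
  exact mul_left_cancel₀ hPdet h1

/-- Discriminant of a full-rank subalgebra. -/
theorem discr_subalgebra (bt : Basis ι R St) (S : Subalgebra R St) (bS : Basis ι R S) :
    Algebra.discr R bS = (bt.det (fun j => ((bS j : S) : St))) ^ 2 * Algebra.discr R bt := by
  have h1 : Algebra.discr R bS = Algebra.discr R (fun j => ((bS j : S) : St)) := by
    rw [Algebra.discr_def, Algebra.discr_def]
    congr 1
    ext i j
    rw [Algebra.traceMatrix_apply, Algebra.traceMatrix_apply, Algebra.traceForm_apply,
      Algebra.traceForm_apply, trace_subalgebra_eq bt S bS]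
    rfl
  have h2 : (fun j => ((bS j : S) : St)) =
      Matrix.vecMul (⇑bt)
        ((bt.toMatrix (fun j => ((bS j : S) : St))).map (algebraMap R St)) := by
    funext j
    simp only [Matrix.vecMul, dotProduct, Matrix.map_apply, Basis.toMatrix_apply]
    conv_lhs => rw [← bt.sum_repr ((bS j : S) : St)]
    exact Finset.sum_congr rfl fun i _ => by rw [Algebra.smul_def, mul_comm]
  rw [h1, Basis.det_apply]
  conv_lhs => rw [h2]
  exact Algebra.discr_of_matrix_vecMul _ _

end discr

end Groth.Agent.Lib.Crimp
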