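import Mathlib

set_option autoImplicit false
set_option maxHeartbeats 1000000

namespace Groth.Agent.Lib.CubicZeroH1

open MvPolynomial

/-- Two polynomials in three variables over `ℂ` vanishing at the origin have a common zero
other than the origin (Krull's height theorem + Nullstellensatz). -/
theorem exists_common_zero (f h : MvPolynomial (Fin 3) ℂ) (hf : eval (0 : Fin 3 → ℂ) f = 0)
    (hh : eval (0 : Fin 3 → ℂ) h = 0) :
    ∃ v : Fin 3 → ℂ, v ≠ 0 ∧ eval v f = 0 ∧ eval v h = 0 := by
  classical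
  by_contra hno
  push Not at hno
  set ev0 : MvPolynomial (Fin 3) ℂ →+* ℂ := eval (0 : Fin 3 → ℂ) with hev0
  have hsurj : Function.Surjective ev0 := fun a => ⟨C a, by simp [hev0]⟩
  set m0 : Ideal (MvPolynomial (Fin 3) ℂ) := RingHom.ker ev0 with hm0
  haveI hmax : m0.IsMaximal := RingHom.ker_isMaximal_of_surjective ev0 hsurj
  haveI hm0p : m0.IsPrime := hmax.isPrime
  set I : Ideal (MvPolynomial (Fin 3) ℂ) := Ideal.span {f, h} with hI
  have hfI : f ∈ I := Ideal.subset_span (by simp)
  have hhI : h ∈ I := Ideal.subset_span (by simp)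
  have hIm : I ≤ m0 := by
    rw [hI, Ideal.span_le]
    intro g hg
    rcases hg with rfl | hg
    · exact (RingHom.mem_ker).2 hf
    · rw [Set.mem_singleton_iff] at hg
      subst hg
      exact (RingHom.mem_ker).2 hh
  have hrad : m0 ≤ I.radical := by
    rw [← vanishingIdeal_zeroLocus_eq_radical (K := ℂ) I]
    intro g hg
    rw [mem_vanishingIdeal_iff]
    intro x hx
    rw [mem_zeroLocus_iff] at hx
    have h1 : eval x f = 0 := by
      have := hx f hfI
      rwa [show (aeval x) f = eval x f from rfl] at this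
    have h2 : eval x h = 0 := by
      have := hx h hhI
      rwa [show (aeval x) h = eval x h from rfl] at this
    have hx0 : x = 0 := by
      by_contra hne
      exact hno x hne h1 h2
    subst hx0
    have h3 : ev0 g = 0 := (RingHom.mem_ker).1 hg
    exact h3
  have hmin : m0 ∈ I.minimalPrimes := by
    refine ⟨⟨hm0p, hIm⟩, ?_⟩
    rintro q ⟨hqp, hIq⟩ hqm
    exact hrad.trans ((Ideal.IsPrime.radical_le_iff hqp).2 hIq)
  have hht : m0.height ≤ 2 := by
    have h1 := Ideal.height_le_card_of_mem_minimalPrimes_span (s := {f, h}) (Set.toFinite _) hmin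
    refine h1.trans ?_
    have h2 : ({f, h} : Set (MvPolynomial (Fin 3) ℂ)).ncard ≤ 2 :=
      (Set.ncard_insert_le _ _).trans (by simp)
    exact_mod_cast h2
  -- a chain of primes of length three below `m0`
  set p1 : Ideal (MvPolynomial (Fin 3) ℂ) := Ideal.span {(X 0 : MvPolynomial (Fin 3) ℂ)} with hp1
  haveI hp1p : p1.IsPrime := (Ideal.span_singleton_prime (X_ne_zero 0)).2 (X_prime)
  set φ2 : MvPolynomial (Fin 3) ℂ →+* Polynomial ℂ :=
    (aeval (R := ℂ) ![(0 : Polynomial ℂ), 0, Polynomial.X]).toRingHom with hφ2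
  set p2 : Ideal (MvPolynomial (Fin 3) ℂ) := RingHom.ker φ2 with hp2
  haveI hp2p : p2.IsPrime := RingHom.ker_isPrime φ2
  have hφX0 : φ2 (X 0) = 0 := by simp [hφ2]
  have hφX1 : φ2 (X 1) = 0 := by simp [hφ2]
  have hφX2 : φ2 (X 2) = Polynomial.X := by simp [hφ2]
  have l0 : (⊥ : Ideal (MvPolynomial (Fin 3) ℂ)) < p1 := by
    rw [bot_lt_iff_ne_bot, hp1, Ne, Ideal.span_singleton_eq_bot]
    exact X_ne_zero 0
  have l1 : p1 < p2 := by
    rw [SetLike.lt_iff_le_and_exists]
    refine ⟨?_, X 1, (RingHom.mem_ker).2 hφX1, ?_⟩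
    · rw [hp1, Ideal.span_le, Set.singleton_subset_iff]
      exact (RingHom.mem_ker).2 hφX0
    · intro hmem
      rw [hp1, Ideal.mem_span_singleton] at hmem
      obtain ⟨q, hq⟩ := hmem
      have := congrArg (eval ![(0 : ℂ), 1, 0]) hq
      simp at this
  have key : ev0 = (Polynomial.evalRingHom (0 : ℂ)).comp φ2 := by
    apply MvPolynomial.ringHom_ext
    · intro a
      simp [hev0, hφ2]
    · intro i
      fin_cases i <;> simp [hev0, hφ2]
  have l2 : p2 < m0 := by
    rw [SetLike.lt_iff_le_and_exists]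
    refine ⟨?_, X 2, ?_, ?_⟩
    · intro g hg
      have hg' : φ2 g = 0 := (RingHom.mem_ker).1 hg
      rw [hm0, RingHom.mem_ker, key, RingHom.comp_apply, hg', map_zero]
    · rw [hm0, RingHom.mem_ker]
      simp [hev0]
    · intro hmem
      have h3 : φ2 (X 2) = 0 := (RingHom.mem_ker).1 hmem
      rw [hφX2] at h3
      exact Polynomial.X_ne_zero h3
  have a1 := Ideal.height_add_one_le_of_lt_of_isPrime l0
  have a2 := Ideal.height_add_one_le_of_lt_of_isPrime l1
  have a3 := Ideal.height_add_one_le_of_lt_of_isPrime l2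
  have h3 : (3 : ℕ∞) ≤ m0.height := by
    calc (3 : ℕ∞) = 0 + 1 + 1 + 1 := by norm_num
      _ ≤ (⊥ : Ideal (MvPolynomial (Fin 3) ℂ)).height + 1 + 1 + 1 := by gcongr; exact zero_le
      _ ≤ p1.height + 1 + 1 := by gcongr
      _ ≤ p2.height + 1 := by gcongr
      _ ≤ m0.height := a3
  have h4 : (3 : ℕ∞) ≤ 2 := h3.trans hht
  exact absurd h4 (by decide)

end Groth.Agent.Lib.CubicZeroH1
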