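import Mathlib
import Groth.Agent.Lib.CubicZero_helper1

set_option autoImplicit false
set_option maxHeartbeats 1000000

namespace Groth.Agent.Lib.CubicFormH1

open MvPolynomial

/-! ### exponent vectors -/

/-- the exponent vector `(a, b, c)` -/
noncomputable def mon (a b c : ℕ) : Fin 3 →₀ ℕ :=
  Finsupp.single 0 a + Finsupp.single 1 b + Finsupp.single 2 c

@[simp] lemma mon_apply_zero (a b c : ℕ) : mon a b c 0 = a := by
  simp [mon, Finsupp.single_apply]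
@[simp] lemma mon_apply_one (a b c : ℕ) : mon a b c 1 = b := by
  simp [mon, Finsupp.single_apply]
@[simp] lemma mon_apply_two (a b c : ℕ) : mon a b c 2 = c := by
  simp [mon, Finsupp.single_apply]

lemma eq_mon (d : Fin 3 →₀ ℕ) : d = mon (d 0) (d 1) (d 2) := by
  ext i; fin_cases i <;> simp

lemma mon_eq_iff (a b c a' b' c' : ℕ) :
    mon a b c = mon a' b' c' ↔ a = a' ∧ b = b' ∧ c = c' := by
  constructor
  · intro h
    refine ⟨?_, ?_, ?_⟩
    · simpa using DFunLike.congr_fun h 0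
    · simpa using DFunLike.congr_fun h 1
    · simpa using DFunLike.congr_fun h 2
  · rintro ⟨rfl, rfl, rfl⟩; rfl

lemma degree_mon (a b c : ℕ) : (mon a b c).degree = a + b + c := by
  simp [mon, Finsupp.degree_single]

lemma monomial_mon (a b c : ℕ) (r : ℂ) :
    monomial (mon a b c) r = C r * X 0 ^ a * X 1 ^ b * X 2 ^ c := by
  simp only [mon, X_pow_eq_monomial, C_apply, monomial_mul, zero_add, mul_one]

lemma eval_mon (x : Fin 3 → ℂ) (a b c : ℕ) (r : ℂ) :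
    eval x (monomial (mon a b c) r) = r * x 0 ^ a * x 1 ^ b * x 2 ^ c := by
  rw [monomial_mon]; simp

lemma mon_sub0 (a b c : ℕ) : mon a b c - Finsupp.single 0 1 = mon (a - 1) b c := by
  ext i; fin_cases i <;> simp [mon, Finsupp.single_apply]
lemma mon_sub1 (a b c : ℕ) : mon a b c - Finsupp.single 1 1 = mon a (b - 1) c := by
  ext i; fin_cases i <;> simp [mon, Finsupp.single_apply]
lemma mon_sub2 (a b c : ℕ) : mon a b c - Finsupp.single 2 1 = mon a b (c - 1) := by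
  ext i; fin_cases i <;> simp [mon, Finsupp.single_apply]

/-! ### the generic ternary cubic -/

/-- generic ternary cubic as a function of three scalars -/
def cub3 (c : Fin 10 → ℂ) (p q r : ℂ) : ℂ :=
  c 0 * p ^ 3 + c 1 * p ^ 2 * q + c 2 * p ^ 2 * r + c 3 * p * q ^ 2 + c 4 * p * q * r
    + c 5 * p * r ^ 2 + c 6 * q ^ 3 + c 7 * q ^ 2 * r + c 8 * q * r ^ 2 + c 9 * r ^ 3

/-- generic ternary cubic as a function on `ℂ³` -/
def cub (c : Fin 10 → ℂ) (x : Fin 3 → ℂ) : ℂ := cub3 c (x 0) (x 1) (x 2)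

/-- generic ternary cubic as a polynomial -/
noncomputable def G (c : Fin 10 → ℂ) : MvPolynomial (Fin 3) ℂ :=
  monomial (mon 3 0 0) (c 0) + monomial (mon 2 1 0) (c 1) + monomial (mon 2 0 1) (c 2)
  + monomial (mon 1 2 0) (c 3) + monomial (mon 1 1 1) (c 4) + monomial (mon 1 0 2) (c 5)
  + monomial (mon 0 3 0) (c 6) + monomial (mon 0 2 1) (c 7) + monomial (mon 0 1 2) (c 8)
  + monomial (mon 0 0 3) (c 9)

lemma eval_G (c : Fin 10 → ℂ) (x : Fin 3 → ℂ) : eval x (G c) = cub c x := by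
  simp only [G, map_add, eval_mon, cub, cub3]; ring

lemma G_isHomogeneous (c : Fin 10 → ℂ) : (G c).IsHomogeneous 3 := by
  unfold G
  repeat' apply IsHomogeneous.add
  all_goals exact isHomogeneous_monomial _ (by rw [degree_mon])

lemma exists_coeffs (f : MvPolynomial (Fin 3) ℂ) (hf : f.IsHomogeneous 3) :
    ∃ c : Fin 10 → ℂ, f = G c := by
  classical
  refine ⟨![coeff (mon 3 0 0) f, coeff (mon 2 1 0) f, coeff (mon 2 0 1) f, coeff (mon 1 2 0) f,
    coeff (mon 1 1 1) f, coeff (mon 1 0 2) f, coeff (mon 0 3 0) f, coeff (mon 0 2 1) f,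
    coeff (mon 0 1 2) f, coeff (mon 0 0 3) f], ?_⟩
  ext d
  rw [eq_mon d]
  generalize d 0 = a
  generalize d 1 = b
  generalize d 2 = e
  simp only [G, coeff_add, coeff_monomial, mon_eq_iff]
  by_cases hd : a + b + e = 3
  · have ha : a ≤ 3 := by omega
    have hb : b ≤ 3 := by omega
    interval_cases a <;> interval_cases b <;>
      first
      | omega
      | (have he : e = 3 := by omega
         subst he; simp)
      | (have he : e = 2 := by omega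
         subst he; simp)
      | (have he : e = 1 := by omega
         subst he; simp)
      | (have he : e = 0 := by omega
         subst he; simp)
  · have hne : ∀ a' b' e' : ℕ, a' + b' + e' = 3 → ¬ (a' = a ∧ b' = b ∧ e' = e) := by
      rintro a' b' e' h ⟨rfl, rfl, rfl⟩
      exact hd h
    rw [hf.coeff_eq_zero (by rw [degree_mon]; exact hd)]
    rw [if_neg (hne 3 0 0 rfl), if_neg (hne 2 1 0 rfl), if_neg (hne 2 0 1 rfl),
      if_neg (hne 1 2 0 rfl), if_neg (hne 1 1 1 rfl), if_neg (hne 1 0 2 rfl),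
      if_neg (hne 0 3 0 rfl), if_neg (hne 0 2 1 rfl), if_neg (hne 0 1 2 rfl),
      if_neg (hne 0 0 3 rfl)]
    simp

lemma eval_subst (A : Matrix (Fin 3) (Fin 3) ℂ) (f : MvPolynomial (Fin 3) ℂ) (x : Fin 3 → ℂ) :
    eval x (aeval (fun i : Fin 3 => ∑ j : Fin 3, C (A i j) * X j) f) = eval (A.mulVec x) f := by
  have h : ((eval x).comp
      (aeval (R := ℂ) (fun i : Fin 3 => ∑ j : Fin 3, C (A i j) * X j)).toRingHom)
      = eval (A.mulVec x) := by
    apply MvPolynomial.ringHom_ext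
    · intro a; simp
    · intro i; simp [Matrix.mulVec, dotProduct]
  have := RingHom.congr_fun h f
  simpa only [RingHom.comp_apply, AlgHom.toRingHom_eq_coe, RingHom.coe_coe] using this

lemma exists_coeffs_comp (c : Fin 10 → ℂ) (A : Matrix (Fin 3) (Fin 3) ℂ) :
    ∃ c' : Fin 10 → ℂ, ∀ x, cub c (A.mulVec x) = cub c' x := by
  have hh : (aeval (fun i : Fin 3 => ∑ j : Fin 3, C (A i j) * X j) (G c)).IsHomogeneous 3 := by
    have := (G_isHomogeneous c).aeval (fun i : Fin 3 => ∑ j : Fin 3, C (A i j) * X j) (n := 1)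
      (fun i => IsHomogeneous.sum _ _ _ (fun j _ => isHomogeneous_C_mul_X (A i j) j))
    simpa using this
  obtain ⟨c', hc'⟩ := exists_coeffs _ hh
  refine ⟨c', fun x => ?_⟩
  rw [← eval_G c', ← hc', eval_subst, eval_G]

/-! ### gradient and expansions -/

def g0 (c : Fin 10 → ℂ) (x : Fin 3 → ℂ) : ℂ :=
  3 * c 0 * x 0 ^ 2 + 2 * c 1 * x 0 * x 1 + 2 * c 2 * x 0 * x 2 + c 3 * x 1 ^ 2
    + c 4 * x 1 * x 2 + c 5 * x 2 ^ 2
def g1 (c : Fin 10 → ℂ) (x : Fin 3 → ℂ) : ℂ :=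
  c 1 * x 0 ^ 2 + 2 * c 3 * x 0 * x 1 + c 4 * x 0 * x 2 + 3 * c 6 * x 1 ^ 2
    + 2 * c 7 * x 1 * x 2 + c 8 * x 2 ^ 2
def g2 (c : Fin 10 → ℂ) (x : Fin 3 → ℂ) : ℂ :=
  c 2 * x 0 ^ 2 + c 4 * x 0 * x 1 + 2 * c 5 * x 0 * x 2 + c 7 * x 1 ^ 2
    + 2 * c 8 * x 1 * x 2 + 3 * c 9 * x 2 ^ 2

/-- the derivative of `cub c` at `x` in the direction `y` -/
def D1 (c : Fin 10 → ℂ) (x y : Fin 3 → ℂ) : ℂ := y 0 * g0 c x + y 1 * g1 c x + y 2 * g2 c x

lemma cub_lin (c : Fin 10 → ℂ) (v w : Fin 3 → ℂ) (s t : ℂ) :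
    cub c (s • v + t • w) = s ^ 3 * cub c v + s ^ 2 * t * D1 c v w + s * t ^ 2 * D1 c w v
      + t ^ 3 * cub c w := by
  simp only [cub, cub3, D1, g0, g1, g2, Pi.add_apply, Pi.smul_apply, smul_eq_mul]; ring

lemma cub_add_smul (c : Fin 10 → ℂ) (v w : Fin 3 → ℂ) (t : ℂ) :
    cub c (v + t • w) = cub c v + t * D1 c v w + t ^ 2 * D1 c w v + t ^ 3 * cub c w := by
  have := cub_lin c v w 1 t
  rw [one_smul] at this
  rw [this]; ring

lemma eval_pderiv0 (c : Fin 10 → ℂ) (x : Fin 3 → ℂ) : eval x (pderiv 0 (G c)) = g0 c x := by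
  simp only [G, map_add, pderiv_monomial, mon_sub0, eval_mon, g0, mon_apply_zero]
  push_cast; ring
lemma eval_pderiv1 (c : Fin 10 → ℂ) (x : Fin 3 → ℂ) : eval x (pderiv 1 (G c)) = g1 c x := by
  simp only [G, map_add, pderiv_monomial, mon_sub1, eval_mon, g1, mon_apply_one]
  push_cast; ring
lemma eval_pderiv2 (c : Fin 10 → ℂ) (x : Fin 3 → ℂ) : eval x (pderiv 2 (G c)) = g2 c x := by
  simp only [G, map_add, pderiv_monomial, mon_sub2, eval_mon, g2, mon_apply_two]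
  push_cast; ring

lemma poly3_zero (a0 a1 a2 a3 : ℂ) (h : ∀ t : ℂ, a0 + a1 * t + a2 * t ^ 2 + a3 * t ^ 3 = 0) :
    a0 = 0 ∧ a1 = 0 ∧ a2 = 0 ∧ a3 = 0 := by
  have h0 := h 0
  have h1 := h 1
  have hm := h (-1)
  have h2 := h 2
  refine ⟨?_, ?_, ?_, ?_⟩
  · linear_combination h0
  · linear_combination h1 - (1/3) * hm - (1/6) * h2 - (1/2) * h0
  · linear_combination (1/2) * h1 + (1/2) * hm - h0
  · linear_combination (1/6) * h2 - (1/2) * h1 - (1/6) * hm + (1/2) * h0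

/-! ### singular points, smoothness, linear equivalence -/

/-- `v` is a singular point of the cubic function `φ`: along every line through `v` the
function vanishes to second order. -/
def Sing (φ : (Fin 3 → ℂ) → ℂ) (v : Fin 3 → ℂ) : Prop :=
  ∀ y : Fin 3 → ℂ, ∃ a b : ℂ, ∀ t : ℂ, φ (v + t • y) = a * t ^ 2 + b * t ^ 3

def SmoothFn (φ : (Fin 3 → ℂ) → ℂ) : Prop := ∀ v : Fin 3 → ℂ, v ≠ 0 → ¬ Sing φ v

lemma sing_iff (c : Fin 10 → ℂ) (v : Fin 3 → ℂ) :
    Sing (cub c) v ↔ cub c v = 0 ∧ g0 c v = 0 ∧ g1 c v = 0 ∧ g2 c v = 0 := by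
  constructor
  · intro hs
    have key : ∀ y : Fin 3 → ℂ, cub c v = 0 ∧ D1 c v y = 0 := by
      intro y
      obtain ⟨a, b, h⟩ := hs y
      have := poly3_zero (cub c v) (D1 c v y) (D1 c y v - a) (cub c y - b) (fun t => by
        have := h t
        rw [cub_add_smul] at this
        linear_combination this)
      exact ⟨this.1, this.2.1⟩
    refine ⟨(key 0).1, ?_, ?_, ?_⟩
    · have := (key ![1, 0, 0]).2
      simpa [D1] using this
    · have := (key ![0, 1, 0]).2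
      simpa [D1] using this
    · have := (key ![0, 0, 1]).2
      simpa [D1] using this
  · rintro ⟨h0, h1, h2, h3⟩ y
    refine ⟨D1 c y v, cub c y, fun t => ?_⟩
    rw [cub_add_smul]
    have : D1 c v y = 0 := by simp [D1, h1, h2, h3]
    rw [h0, this]; ring

lemma smoothFn_of_hsm (c : Fin 10 → ℂ)
    (hsm : ∀ v : Fin 3 → ℂ, v ≠ 0 → eval v (G c) = 0 →
      ∃ i : Fin 3, eval v (pderiv i (G c)) ≠ 0) : SmoothFn (cub c) := by
  intro v hv hs
  rw [sing_iff] at hs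
  obtain ⟨h0, h1, h2, h3⟩ := hs
  obtain ⟨i, hi⟩ := hsm v hv (by rw [eval_G]; exact h0)
  apply hi
  fin_cases i
  · show eval v (pderiv 0 (G c)) = 0
    rw [eval_pderiv0]; exact h1
  · show eval v (pderiv 1 (G c)) = 0
    rw [eval_pderiv1]; exact h2
  · show eval v (pderiv 2 (G c)) = 0
    rw [eval_pderiv2]; exact h3

/-- `ψ` is obtained from `φ` by an invertible linear substitution. -/
def LinEq (φ ψ : (Fin 3 → ℂ) → ℂ) : Prop :=
  ∃ A : Matrix (Fin 3) (Fin 3) ℂ, IsUnit A.det ∧ ∀ x, ψ x = φ (A.mulVec x)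

lemma LinEq.refl (φ : (Fin 3 → ℂ) → ℂ) : LinEq φ φ :=
  ⟨1, by simp, fun x => by simp⟩

lemma LinEq.trans {φ ψ χ : (Fin 3 → ℂ) → ℂ} (h1 : LinEq φ ψ) (h2 : LinEq ψ χ) : LinEq φ χ := by
  obtain ⟨A, hA, h1⟩ := h1
  obtain ⟨B, hB, h2⟩ := h2
  refine ⟨A * B, ?_, fun x => ?_⟩
  · rw [Matrix.det_mul]; exact hA.mul hB
  · rw [h2, h1, Matrix.mulVec_mulVec]

lemma LinEq.symm {φ ψ : (Fin 3 → ℂ) → ℂ} (h : LinEq φ ψ) : LinEq ψ φ := by
  obtain ⟨A, hA, h1⟩ := h
  refine ⟨A⁻¹, Matrix.isUnit_nonsing_inv_det A hA, fun x => ?_⟩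
  rw [h1, Matrix.mulVec_mulVec, Matrix.mul_nonsing_inv A hA, Matrix.one_mulVec]

lemma LinEq.smul {φ ψ : (Fin 3 → ℂ) → ℂ} (h : LinEq φ ψ) (κ : ℂ) :
    LinEq (fun x => κ * φ x) (fun x => κ * ψ x) := by
  obtain ⟨A, hA, h1⟩ := h
  exact ⟨A, hA, fun x => by simp only [h1]⟩

lemma SmoothFn.of_linEq {φ ψ : (Fin 3 → ℂ) → ℂ} (hs : SmoothFn φ) (h : LinEq φ ψ) :
    SmoothFn ψ := by
  obtain ⟨A, hA, h1⟩ := h
  intro v hv hsing
  have hAv : A.mulVec v ≠ 0 := by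
    intro h0
    apply hv
    have : A⁻¹.mulVec (A.mulVec v) = v := by
      rw [Matrix.mulVec_mulVec, Matrix.nonsing_inv_mul A hA, Matrix.one_mulVec]
    rw [← this, h0, Matrix.mulVec_zero]
  apply hs _ hAv
  intro y
  obtain ⟨a, b, h⟩ := hsing (A⁻¹.mulVec y)
  refine ⟨a, b, fun t => ?_⟩
  have := h t
  rw [h1, Matrix.mulVec_add, Matrix.mulVec_smul, Matrix.mulVec_mulVec,
    Matrix.mul_nonsing_inv A hA, Matrix.one_mulVec] at this
  exact this

lemma SmoothFn.of_smul {φ : (Fin 3 → ℂ) → ℂ} {κ : ℂ} (hκ : κ ≠ 0)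
    (hs : SmoothFn (fun x => κ * φ x)) : SmoothFn φ := by
  intro v hv hsing
  apply hs v hv
  intro y
  obtain ⟨a, b, h⟩ := hsing y
  refine ⟨κ * a, κ * b, fun t => ?_⟩
  simp only [h t]; ring

/-! ### explicit 3×3 matrices -/

def M3 (a00 a01 a02 a10 a11 a12 a20 a21 a22 : ℂ) : Matrix (Fin 3) (Fin 3) ℂ :=
  !![a00, a01, a02; a10, a11, a12; a20, a21, a22]

lemma M3_mulVec (a00 a01 a02 a10 a11 a12 a20 a21 a22 : ℂ) (x : Fin 3 → ℂ) :
    (M3 a00 a01 a02 a10 a11 a12 a20 a21 a22).mulVec x =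
      ![a00 * x 0 + a01 * x 1 + a02 * x 2, a10 * x 0 + a11 * x 1 + a12 * x 2,
        a20 * x 0 + a21 * x 1 + a22 * x 2] := by
  ext i; fin_cases i <;> simp [M3, Matrix.mulVec, dotProduct, Fin.sum_univ_three]

lemma M3_det (a00 a01 a02 a10 a11 a12 a20 a21 a22 : ℂ) :
    (M3 a00 a01 a02 a10 a11 a12 a20 a21 a22).det =
      a00 * (a11 * a22 - a12 * a21) - a01 * (a10 * a22 - a12 * a20)
        + a02 * (a10 * a21 - a11 * a20) := by
  simp [M3, Matrix.det_fin_three]; ring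

@[simp] lemma vec3_0 (p q r : ℂ) : (![p, q, r] : Fin 3 → ℂ) 0 = p := rfl
@[simp] lemma vec3_1 (p q r : ℂ) : (![p, q, r] : Fin 3 → ℂ) 1 = q := rfl
@[simp] lemma vec3_2 (p q r : ℂ) : (![p, q, r] : Fin 3 → ℂ) 2 = r := rfl

lemma linEq_M3 {φ ψ : (Fin 3 → ℂ) → ℂ} (a00 a01 a02 a10 a11 a12 a20 a21 a22 : ℂ)
    (hdet : a00 * (a11 * a22 - a12 * a21) - a01 * (a10 * a22 - a12 * a20)
        + a02 * (a10 * a21 - a11 * a20) ≠ 0)
    (h : ∀ x : Fin 3 → ℂ, ψ x = φ ![a00 * x 0 + a01 * x 1 + a02 * x 2,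
      a10 * x 0 + a11 * x 1 + a12 * x 2, a20 * x 0 + a21 * x 1 + a22 * x 2]) : LinEq φ ψ := by
  refine ⟨M3 a00 a01 a02 a10 a11 a12 a20 a21 a22, ?_, fun x => ?_⟩
  · rw [M3_det]; exact isUnit_iff_ne_zero.2 hdet
  · rw [M3_mulVec]; exact h x

end Groth.Agent.Lib.CubicFormH1
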