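import Mathlib
import Groth.Prelude.Def_W4c5monodromycubicsHesse
import Groth.Agent.Lib.CubicForm_helper1

set_option autoImplicit false
set_option maxHeartbeats 1000000

namespace Groth.Agent.Lib.CubicHesseH1

open MvPolynomial Groth.Agent.Lib.CubicFormH1 Groth.Agent.Lib.CubicZeroH1

/-! ### Hessian -/

def h00 (c : Fin 10 → ℂ) (x : Fin 3 → ℂ) : ℂ := 6 * c 0 * x 0 + 2 * c 1 * x 1 + 2 * c 2 * x 2
def h01 (c : Fin 10 → ℂ) (x : Fin 3 → ℂ) : ℂ := 2 * c 1 * x 0 + 2 * c 3 * x 1 + c 4 * x 2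
def h02 (c : Fin 10 → ℂ) (x : Fin 3 → ℂ) : ℂ := 2 * c 2 * x 0 + c 4 * x 1 + 2 * c 5 * x 2
def h11 (c : Fin 10 → ℂ) (x : Fin 3 → ℂ) : ℂ := 2 * c 3 * x 0 + 6 * c 6 * x 1 + 2 * c 7 * x 2
def h12 (c : Fin 10 → ℂ) (x : Fin 3 → ℂ) : ℂ := c 4 * x 0 + 2 * c 7 * x 1 + 2 * c 8 * x 2
def h22 (c : Fin 10 → ℂ) (x : Fin 3 → ℂ) : ℂ := 2 * c 5 * x 0 + 2 * c 8 * x 1 + 6 * c 9 * x 2

noncomputable def p00 (c : Fin 10 → ℂ) : MvPolynomial (Fin 3) ℂ :=
  C (6 * c 0) * X 0 + C (2 * c 1) * X 1 + C (2 * c 2) * X 2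
noncomputable def p01 (c : Fin 10 → ℂ) : MvPolynomial (Fin 3) ℂ :=
  C (2 * c 1) * X 0 + C (2 * c 3) * X 1 + C (c 4) * X 2
noncomputable def p02 (c : Fin 10 → ℂ) : MvPolynomial (Fin 3) ℂ :=
  C (2 * c 2) * X 0 + C (c 4) * X 1 + C (2 * c 5) * X 2
noncomputable def p11 (c : Fin 10 → ℂ) : MvPolynomial (Fin 3) ℂ :=
  C (2 * c 3) * X 0 + C (6 * c 6) * X 1 + C (2 * c 7) * X 2
noncomputable def p12 (c : Fin 10 → ℂ) : MvPolynomial (Fin 3) ℂ :=
  C (c 4) * X 0 + C (2 * c 7) * X 1 + C (2 * c 8) * X 2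
noncomputable def p22 (c : Fin 10 → ℂ) : MvPolynomial (Fin 3) ℂ :=
  C (2 * c 5) * X 0 + C (2 * c 8) * X 1 + C (6 * c 9) * X 2

lemma eval_p00 (c : Fin 10 → ℂ) (x : Fin 3 → ℂ) : eval x (p00 c) = h00 c x := by simp [p00, h00]
lemma eval_p01 (c : Fin 10 → ℂ) (x : Fin 3 → ℂ) : eval x (p01 c) = h01 c x := by simp [p01, h01]
lemma eval_p02 (c : Fin 10 → ℂ) (x : Fin 3 → ℂ) : eval x (p02 c) = h02 c x := by simp [p02, h02]
lemma eval_p11 (c : Fin 10 → ℂ) (x : Fin 3 → ℂ) : eval x (p11 c) = h11 c x := by simp [p11, h11]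
lemma eval_p12 (c : Fin 10 → ℂ) (x : Fin 3 → ℂ) : eval x (p12 c) = h12 c x := by simp [p12, h12]
lemma eval_p22 (c : Fin 10 → ℂ) (x : Fin 3 → ℂ) : eval x (p22 c) = h22 c x := by simp [p22, h22]

/-- the Hessian matrix of `cub c` at `x` -/
def Hm (c : Fin 10 → ℂ) (x : Fin 3 → ℂ) : Matrix (Fin 3) (Fin 3) ℂ :=
  M3 (h00 c x) (h01 c x) (h02 c x) (h01 c x) (h11 c x) (h12 c x) (h02 c x) (h12 c x) (h22 c x)

/-- the Hessian determinant as a polynomial -/
noncomputable def hessP (c : Fin 10 → ℂ) : MvPolynomial (Fin 3) ℂ :=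
  p00 c * (p11 c * p22 c - p12 c * p12 c) - p01 c * (p01 c * p22 c - p12 c * p02 c)
    + p02 c * (p01 c * p12 c - p11 c * p02 c)

lemma eval_hessP (c : Fin 10 → ℂ) (x : Fin 3 → ℂ) : eval x (hessP c) = (Hm c x).det := by
  rw [Hm, M3_det]
  simp only [hessP, map_add, map_sub, map_mul, eval_p00, eval_p01, eval_p02, eval_p11, eval_p12,
    eval_p22]

lemma euler0 (c : Fin 10 → ℂ) (v : Fin 3 → ℂ) :
    h00 c v * v 0 + h01 c v * v 1 + h02 c v * v 2 = 2 * g0 c v := by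
  simp only [h00, h01, h02, g0]; ring
lemma euler1 (c : Fin 10 → ℂ) (v : Fin 3 → ℂ) :
    h01 c v * v 0 + h11 c v * v 1 + h12 c v * v 2 = 2 * g1 c v := by
  simp only [h01, h11, h12, g1]; ring
lemma euler2 (c : Fin 10 → ℂ) (v : Fin 3 → ℂ) :
    h02 c v * v 0 + h12 c v * v 1 + h22 c v * v 2 = 2 * g2 c v := by
  simp only [h02, h12, h22, g2]; ring

lemma D1_second (c : Fin 10 → ℂ) (v w : Fin 3 → ℂ) :
    2 * D1 c w v = w 0 * (h00 c v * w 0 + h01 c v * w 1 + h02 c v * w 2)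
      + w 1 * (h01 c v * w 0 + h11 c v * w 1 + h12 c v * w 2)
      + w 2 * (h02 c v * w 0 + h12 c v * w 1 + h22 c v * w 2) := by
  simp only [D1, g0, g1, g2, h00, h01, h02, h11, h12, h22]; ring

/-- A smooth plane cubic has a flex. -/
theorem exists_flex (c : Fin 10 → ℂ) (hs : SmoothFn (cub c)) :
    ∃ v w : Fin 3 → ℂ, v ≠ 0 ∧ LinearIndependent ℂ ![v, w] ∧ cub c v = 0 ∧ D1 c v w = 0 ∧
      D1 c w v = 0 := by
  obtain ⟨v, hv, h1, h2⟩ := exists_common_zero (G c) (hessP c)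
    (by rw [eval_G]; simp [cub, cub3])
    (by rw [eval_hessP, Hm, M3_det]; simp [h00, h01, h02, h11, h12, h22])
  rw [eval_G] at h1
  rw [eval_hessP] at h2
  obtain ⟨w, hw, hHw⟩ := Matrix.exists_mulVec_eq_zero_iff.2 h2
  rw [Hm, M3_mulVec] at hHw
  have E0 : h00 c v * w 0 + h01 c v * w 1 + h02 c v * w 2 = 0 := by
    have := congrFun hHw 0; simpa using this
  have E1 : h01 c v * w 0 + h11 c v * w 1 + h12 c v * w 2 = 0 := by
    have := congrFun hHw 1; simpa using this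
  have E2 : h02 c v * w 0 + h12 c v * w 1 + h22 c v * w 2 = 0 := by
    have := congrFun hHw 2; simpa using this
  have hgrad : ¬ (g0 c v = 0 ∧ g1 c v = 0 ∧ g2 c v = 0) := by
    rintro ⟨a, b, d⟩
    exact hs v hv ((sing_iff c v).2 ⟨h1, a, b, d⟩)
  have e0 := euler0 c v
  have e1 := euler1 c v
  have e2 := euler2 c v
  refine ⟨v, w, hv, ?_, h1, ?_, ?_⟩
  · rw [LinearIndependent.pair_iff]
    intro s t hst
    have k : ∀ i, s * v i + t * w i = 0 := fun i => by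
      have := congrFun hst i; simpa using this
    have k0 := k 0
    have k1 := k 1
    have k2 := k 2
    have hs0 : s = 0 := by
      by_contra hne
      apply hgrad
      have f0 : s * g0 c v = 0 := by
        linear_combination (1/2) * (h00 c v * k0 + h01 c v * k1 + h02 c v * k2) - (t/2) * E0
          - (s/2) * e0
      have f1 : s * g1 c v = 0 := by
        linear_combination (1/2) * (h01 c v * k0 + h11 c v * k1 + h12 c v * k2) - (t/2) * E1
          - (s/2) * e1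
      have f2 : s * g2 c v = 0 := by
        linear_combination (1/2) * (h02 c v * k0 + h12 c v * k1 + h22 c v * k2) - (t/2) * E2
          - (s/2) * e2
      exact ⟨(mul_eq_zero.1 f0).resolve_left hne, (mul_eq_zero.1 f1).resolve_left hne,
        (mul_eq_zero.1 f2).resolve_left hne⟩
    refine ⟨hs0, ?_⟩
    obtain ⟨i, hi⟩ := Function.ne_iff.1 hw
    have := k i
    rw [hs0, zero_mul, zero_add] at this
    exact (mul_eq_zero.1 this).resolve_right hi
  · simp only [D1]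
    linear_combination (1/2) * (v 0 * E0 + v 1 * E1 + v 2 * E2) - (w 0 / 2) * e0
      - (w 1 / 2) * e1 - (w 2 / 2) * e2
  · have := D1_second c v w
    linear_combination (1/2) * this + (1/2) * (w 0 * E0 + w 1 * E1 + w 2 * E2)

/-! ### Weierstrass form -/

def W3 (a b p q r : ℂ) : ℂ := q ^ 2 * r - p ^ 3 - a * p * r ^ 2 - b * r ^ 3
def W (a b : ℂ) (x : Fin 3 → ℂ) : ℂ := W3 a b (x 0) (x 1) (x 2)

def Q7 (P α β γ δ ε ζ : ℂ) (x : Fin 3 → ℂ) : ℂ :=
  P * x 0 ^ 3 + x 2 * (α * x 1 ^ 2 + β * x 0 * x 1 + γ * x 1 * x 2 + δ * x 0 ^ 2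
    + ε * x 0 * x 2 + ζ * x 2 ^ 2)

lemma exists_third (v w : Fin 3 → ℂ) (h : LinearIndependent ℂ ![v, w]) :
    ∃ u : Fin 3 → ℂ, w 0 * (v 1 * u 2 - u 1 * v 2) - v 0 * (w 1 * u 2 - u 1 * w 2)
      + u 0 * (w 1 * v 2 - v 1 * w 2) ≠ 0 := by
  by_contra hall
  push Not at hall
  have m0 := hall ![1, 0, 0]
  have m1 := hall ![0, 1, 0]
  have m2 := hall ![0, 0, 1]
  simp only [vec3_0, vec3_1, vec3_2] at m0 m1 m2
  rw [LinearIndependent.pair_iff] at h
  have d0 : w 0 • v + (-(v 0)) • w = 0 := by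
    funext i; fin_cases i
    · show w 0 * v 0 + -(v 0) * w 0 = 0; ring
    · show w 0 * v 1 + -(v 0) * w 1 = 0; linear_combination m2
    · show w 0 * v 2 + -(v 0) * w 2 = 0; linear_combination -m1
  have d1 : w 1 • v + (-(v 1)) • w = 0 := by
    funext i; fin_cases i
    · show w 1 * v 0 + -(v 1) * w 0 = 0; linear_combination -m2
    · show w 1 * v 1 + -(v 1) * w 1 = 0; ring
    · show w 1 * v 2 + -(v 1) * w 2 = 0; linear_combination m0
  have d2 : w 2 • v + (-(v 2)) • w = 0 := by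
    funext i; fin_cases i
    · show w 2 * v 0 + -(v 2) * w 0 = 0; linear_combination m1
    · show w 2 * v 1 + -(v 2) * w 1 = 0; linear_combination -m0
    · show w 2 * v 2 + -(v 2) * w 2 = 0; ring
  by_cases hw0 : w = 0
  · have := h 0 1 (by simp [hw0])
    exact one_ne_zero this.2
  · obtain ⟨j, hj⟩ := Function.ne_iff.1 hw0
    fin_cases j
    · exact hj (h _ _ d0).1
    · exact hj (h _ _ d1).1
    · exact hj (h _ _ d2).1

lemma Q7_to_W (P α β γ δ ε ζ : ℂ) (hP : P ≠ 0) (hα : α ≠ 0) :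
    ∃ a b : ℂ, LinEq (Q7 P α β γ δ ε ζ) (fun x => (-P) * W a b x) := by
  -- step 1: complete the square in `x 1`
  have s1 : LinEq (Q7 P α β γ δ ε ζ)
      (Q7 P α 0 0 (δ - β ^ 2 / (4 * α)) (ε - β * γ / (2 * α)) (ζ - γ ^ 2 / (4 * α))) := by
    apply linEq_M3 1 0 0 (-β / (2 * α)) 1 (-γ / (2 * α)) 0 0 1
    · norm_num
    · intro x
      simp only [Q7, vec3_0, vec3_1, vec3_2]
      field_simp
      ring
  -- step 2: remove the `x 0 ^ 2 * x 2` term
  set δ1 := δ - β ^ 2 / (4 * α) with hδ1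
  set ε1 := ε - β * γ / (2 * α) with hε1
  set ζ1 := ζ - γ ^ 2 / (4 * α) with hζ1
  set n := δ1 / (3 * P) with hn
  have s2 : LinEq (Q7 P α 0 0 δ1 ε1 ζ1)
      (Q7 P α 0 0 0 (3 * P * n ^ 2 - 2 * δ1 * n + ε1) (-P * n ^ 3 + δ1 * n ^ 2 - ε1 * n + ζ1)) := by
    apply linEq_M3 1 0 (-n) 0 1 0 0 0 1
    · norm_num
    · intro x
      simp only [Q7, vec3_0, vec3_1, vec3_2]
      have h3 : 3 * P * n = δ1 := by rw [hn]; field_simp
      linear_combination (x 0 ^ 2 * x 2) * h3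
  set ε2 := 3 * P * n ^ 2 - 2 * δ1 * n + ε1 with hε2
  set ζ2 := -P * n ^ 3 + δ1 * n ^ 2 - ε1 * n + ζ1 with hζ2
  -- step 3: rescale `x 2`
  have s3 : LinEq (Q7 P α 0 0 0 ε2 ζ2)
      (fun x => (-P) * W (ε2 * (-P / α) ^ 2 / P) (ζ2 * (-P / α) ^ 3 / P) x) := by
    apply linEq_M3 1 0 0 0 1 0 0 0 (-P / α)
    · have : -P / α ≠ 0 := div_ne_zero (neg_ne_zero.2 hP) hα
      simpa using this
    · intro x
      simp only [Q7, W, W3, vec3_0, vec3_1, vec3_2]
      field_simp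
      ring
  exact ⟨_, _, (s1.trans s2).trans s3⟩

/-- A smooth plane cubic is linearly equivalent to a multiple of a Weierstrass cubic. -/
theorem exists_weierstrass (c : Fin 10 → ℂ) (hs : SmoothFn (cub c)) :
    ∃ κ a b : ℂ, κ ≠ 0 ∧ LinEq (cub c) (fun x => κ * W a b x) := by
  obtain ⟨v, w, hv, hind, hv0, hD1, hD2⟩ := exists_flex c hs
  obtain ⟨u, hu⟩ := exists_third v w hind
  obtain ⟨c', hc'⟩ :=
    exists_coeffs_comp c (M3 (w 0) (v 0) (u 0) (w 1) (v 1) (u 1) (w 2) (v 2) (u 2))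
  have hL1 : LinEq (cub c) (cub c') :=
    ⟨M3 (w 0) (v 0) (u 0) (w 1) (v 1) (u 1) (w 2) (v 2) (u 2),
      by rw [M3_det]; exact isUnit_iff_ne_zero.2 hu, fun x => (hc' x).symm⟩
  have hs' : SmoothFn (cub c') := hs.of_linEq hL1
  have hline : ∀ s t : ℂ, cub3 c' t s 0 = t ^ 3 * cub c w := by
    intro s t
    have h1 := hc' ![t, s, 0]
    rw [M3_mulVec] at h1
    simp only [vec3_0, vec3_1, vec3_2] at h1
    have h2 : (![w 0 * t + v 0 * s + u 0 * 0, w 1 * t + v 1 * s + u 1 * 0,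
        w 2 * t + v 2 * s + u 2 * 0] : Fin 3 → ℂ) = s • v + t • w := by
      funext i; fin_cases i
      · show w 0 * t + v 0 * s + u 0 * 0 = s * v 0 + t * w 0; ring
      · show w 1 * t + v 1 * s + u 1 * 0 = s * v 1 + t * w 1; ring
      · show w 2 * t + v 2 * s + u 2 * 0 = s * v 2 + t * w 2; ring
    rw [h2, cub_lin, hv0, hD1, hD2] at h1
    have h3 : cub c' ![t, s, 0] = cub3 c' t s 0 := rfl
    rw [← h3, ← h1]; ring
  set P := cub c w with hP
  have e0 : c' 0 = P := by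
    have := hline 0 1; simp only [cub3] at this; linear_combination this
  have e6 : c' 6 = 0 := by
    have := hline 1 0; simp only [cub3] at this; linear_combination this
  have h11 := hline 1 1
  have hm1 := hline (-1) 1
  simp only [cub3] at h11 hm1
  have e1 : c' 1 = 0 := by linear_combination (1/2) * h11 - (1/2) * hm1 - e6
  have e3 : c' 3 = 0 := by linear_combination (1/2) * h11 + (1/2) * hm1 - e0
  have e7 : c' 7 ≠ 0 := by
    intro h7
    apply hs' ![0, 1, 0] (by intro h; have := congrFun h 1; simp at this)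
    rw [sing_iff]
    refine ⟨?_, ?_, ?_, ?_⟩ <;> simp [cub, cub3, g0, g1, g2, e6, e3, h7]
  have hPne : P ≠ 0 := by
    intro hP0
    obtain ⟨z, hz⟩ := IsAlgClosed.exists_pow_nat_eq (c' 4 ^ 2 - 4 * c' 7 * c' 2) (n := 2)
      (by norm_num)
    set r := (-(c' 4) + z) / (2 * c' 7) with hr
    have h2r : 2 * c' 7 * r = -(c' 4) + z := by rw [hr]; field_simp
    have h4 : 4 * c' 7 * (c' 2 + c' 4 * r + c' 7 * r ^ 2) = 0 := by
      linear_combination (2 * c' 4 + (2 * c' 7 * r) + (-(c' 4) + z)) * h2r + hz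
    have hroot : c' 2 + c' 4 * r + c' 7 * r ^ 2 = 0 :=
      (mul_eq_zero.1 h4).resolve_left (mul_ne_zero (by norm_num) e7)
    apply hs' ![1, r, 0] (by intro h; have := congrFun h 0; simp at this)
    rw [sing_iff]
    refine ⟨?_, ?_, ?_, ?_⟩
    · simp [cub, cub3, e0, e1, e3, e6, hP0]
    · simp [g0, e0, e1, e3, hP0]
    · simp [g1, e1, e3, e6]
    · simp only [g2, vec3_0, vec3_1, vec3_2]; linear_combination hroot
  have hQ : cub c' = Q7 P (c' 7) (c' 4) (c' 8) (c' 2) (c' 5) (c' 9) := by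
    funext x
    simp only [cub, cub3, Q7, e0, e1, e3, e6]; ring
  obtain ⟨a, b, hL2⟩ := Q7_to_W P (c' 7) (c' 4) (c' 8) (c' 2) (c' 5) (c' 9) hPne e7
  rw [← hQ] at hL2
  exact ⟨-P, a, b, neg_ne_zero.2 hPne, hL1.trans hL2⟩


/-! ### From Weierstrass form to Hesse form -/

def cW (a b : ℂ) : Fin 10 → ℂ := ![-1, 0, 0, 0, 0, -a, 0, 1, 0, -b]

lemma W_eq_cub (a b : ℂ) : W a b = cub (cW a b) := by
  funext x
  simp [W, W3, cub, cub3, cW] <;> ring

lemma sing_W_of (a b p q r : ℂ) (h0 : W3 a b p q r = 0) (h1 : 3 * p ^ 2 + a * r ^ 2 = 0)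
    (h2 : q * r = 0) (h3 : q ^ 2 - 2 * a * p * r - 3 * b * r ^ 2 = 0) :
    Sing (W a b) ![p, q, r] := by
  rw [W_eq_cub, sing_iff]
  refine ⟨?_, ?_, ?_, ?_⟩
  · have : cub (cW a b) ![p, q, r] = W3 a b p q r := by
      simp [cub, cub3, cW, W3] <;> ring
    rw [this, h0]
  · have : g0 (cW a b) ![p, q, r] = -(3 * p ^ 2 + a * r ^ 2) := by
      simp [g0, cW] <;> ring
    rw [this, h1, neg_zero]
  · have : g1 (cW a b) ![p, q, r] = 2 * (q * r) := by
      simp [g1, cW] <;> ring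
    rw [this, h2, mul_zero]
  · have : g2 (cW a b) ![p, q, r] = q ^ 2 - 2 * a * p * r - 3 * b * r ^ 2 := by
      simp [g2, cW] <;> ring
    rw [this, h3]

lemma exists_lambda (a b : ℂ) (hab : ¬ (a = 0 ∧ b = 0)) :
    ∃ l : ℂ, l ≠ 0 ∧ l ^ 8 + 18 * a * l ^ 4 + 108 * b * l ^ 2 - 27 * a ^ 2 = 0 := by
  by_cases ha : a = 0
  · have hb : b ≠ 0 := fun h => hab ⟨ha, h⟩
    obtain ⟨l, hl⟩ := IsAlgClosed.exists_pow_nat_eq (-108 * b) (n := 6) (by norm_num)
    refine ⟨l, ?_, ?_⟩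
    · intro h0
      rw [h0] at hl
      apply hb
      have : 108 * b = 0 := by linear_combination hl
      simpa using this
    · rw [ha]; linear_combination l ^ 2 * hl
  · set p : Polynomial ℂ := Polynomial.X ^ 8 + Polynomial.C (18 * a) * Polynomial.X ^ 4
      + Polynomial.C (108 * b) * Polynomial.X ^ 2 - Polynomial.C (27 * a ^ 2) with hp
    have hdeg : p.degree = 8 := by
      rw [hp]; compute_degree!
    obtain ⟨l, hl⟩ := IsAlgClosed.exists_root p (by rw [hdeg]; norm_num)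
    have hl' : l ^ 8 + 18 * a * l ^ 4 + 108 * b * l ^ 2 - 27 * a ^ 2 = 0 := by
      have := hl
      rw [Polynomial.IsRoot.def, hp] at this
      simp at this
      linear_combination this
    refine ⟨l, ?_, hl'⟩
    intro h0
    rw [h0] at hl'
    apply ha
    have : 27 * a ^ 2 = 0 := by linear_combination -hl'
    simpa using this

lemma fourier_id (o o2 u v w : ℂ) (h1 : 1 + o + o2 = 0) (h2 : o * o = o2) (h3 : o * o2 = 1)
    (h4 : o2 * o2 = o) :
    (u + v + w) ^ 3 + (u + o * v + o2 * w) ^ 3 + (u + o2 * v + o * w) ^ 3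
      - 3 * (u + v + w) * (u + o * v + o2 * w) * (u + o2 * v + o * w) = 27 * (u * v * w) := by
  set s0 := u + v + w with hs0
  set s1 := u + o * v + o2 * w with hs1
  set s2 := u + o2 * v + o * w with hs2
  have e1 : s0 + s1 + s2 = 3 * u := by rw [hs0, hs1, hs2]; linear_combination (v + w) * h1
  have e2 : s0 + o * s1 + o2 * s2 = 3 * w := by
    rw [hs0, hs1, hs2]; linear_combination (u + v) * h1 + v * h2 + v * h4 + 2 * w * h3
  have e3 : s0 + o2 * s1 + o * s2 = 3 * v := by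
    rw [hs0, hs1, hs2]; linear_combination (u + w) * h1 + 2 * v * h3 + w * h4 + w * h2
  have e4 : (s0 + s1 + s2) * (s0 + o * s1 + o2 * s2) * (s0 + o2 * s1 + o * s2)
      = s0 ^ 3 + s1 ^ 3 + s2 ^ 3 - 3 * s0 * s1 * s2 := by
    linear_combination (s0 + s1 + s2) * (s0 * s1 + s0 * s2) * h1
      + (s0 + s1 + s2) * (s1 ^ 2 + s2 ^ 2) * h3 + (s0 + s1 + s2) * (s1 * s2) * (h2 + h4 + h1)
  rw [← e4, e1, e2, e3]; ring

/-- the Hesse cubic as a function -/
def hesse (k : ℂ) (x : Fin 3 → ℂ) : ℂ :=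
  x 0 ^ 3 + x 1 ^ 3 + x 2 ^ 3 - 3 * k * (x 0 * x 1 * x 2)
def Phi1 (α β γ : ℂ) (x : Fin 3 → ℂ) : ℂ :=
  x 0 * x 1 * x 2 - (α * x 0 + β * x 1 + γ * x 2) ^ 3
def Phi2 (m : ℂ) (x : Fin 3 → ℂ) : ℂ := m * (x 0 * x 1 * x 2) - (x 0 + x 1 + x 2) ^ 3
def Phi3 (μ : ℂ) (x : Fin 3 → ℂ) : ℂ :=
  μ * (x 0 ^ 3 + x 1 ^ 3 + x 2 ^ 3 - 3 * x 0 * x 1 * x 2) - x 0 ^ 3

/-- A smooth Weierstrass cubic is linearly equivalent to a multiple of a Hesse cubic. -/
theorem exists_hesse (a b : ℂ) (hs : SmoothFn (W a b)) :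
    ∃ μ k : ℂ, μ ≠ 0 ∧ k ^ 3 ≠ 1 ∧ LinEq (W a b) (fun x => μ * hesse k x) := by
  have hne : ∀ p q : ℂ, (![p, q, 1] : Fin 3 → ℂ) ≠ 0 := by
    intro p q h; have := congrFun h 2; simp at this
  have hab : ¬ (a = 0 ∧ b = 0) := by
    rintro ⟨rfl, rfl⟩
    apply hs ![0, 0, 1] (hne 0 0)
    apply sing_W_of <;> simp [W3]
  obtain ⟨l, hl0, hl⟩ := exists_lambda a b hab
  obtain ⟨y0, hy⟩ : ∃ y0 : ℂ, y0 * (6 * l) = 3 * a + l ^ 4 :=
    ⟨(3 * a + l ^ 4) / (6 * l), by field_simp⟩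
  have R1 : a = 2 * l * y0 - 3 * (l ^ 2 / 3) ^ 2 := by linear_combination (-1/3) * hy
  have h108 : 108 * l ^ 2 * (b - ((y0 - l * (l ^ 2 / 3)) ^ 2 - (l ^ 2 / 3) ^ 3)) = 0 := by
    linear_combination hl + (-3 * (y0 * (6 * l) + 3 * a - 3 * l ^ 4)) * hy
  have R2 : b = (y0 - l * (l ^ 2 / 3)) ^ 2 - (l ^ 2 / 3) ^ 3 := by
    have := (mul_eq_zero.1 h108).resolve_left (mul_ne_zero (by norm_num) (pow_ne_zero 2 hl0))
    linear_combination this
  have hy0 : y0 ≠ 0 := by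
    intro h0
    apply hs ![l ^ 2 / 3, 0, 1] (hne _ _)
    apply sing_W_of
    · rw [R1, R2, h0]; simp only [W3]; ring
    · rw [R1, h0]; ring
    · ring
    · rw [R1, R2, h0]; ring
  have h27 : 4 * l ^ 3 ≠ 27 * y0 := by
    intro h
    have hy0' : y0 = 4 * l ^ 3 / 27 := by linear_combination (-1/27) * h
    apply hs ![-(l ^ 2) / 9, 0, 1] (hne _ _)
    apply sing_W_of
    · rw [R1, R2, hy0']; simp only [W3]; ring
    · rw [R1, hy0']; ring
    · ring
    · rw [R1, R2, hy0']; ring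
  -- cube roots of unity
  obtain ⟨z, hz⟩ := IsAlgClosed.exists_pow_nat_eq (-3 : ℂ) (n := 2) (by norm_num)
  set o : ℂ := (-1 + z) / 2 with ho
  set o2 : ℂ := (-1 - z) / 2 with ho2
  have w1 : 1 + o + o2 = 0 := by rw [ho, ho2]; ring
  have w2 : o * o = o2 := by rw [ho, ho2]; linear_combination (1/4) * hz
  have w3 : o * o2 = 1 := by rw [ho, ho2]; linear_combination (-1/4) * hz
  have w4 : o2 * o2 = o := by rw [ho, ho2]; linear_combination (1/4) * hz
  set m : ℂ := 4 * l ^ 3 / y0 with hm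
  have hm0 : m ≠ 0 := div_ne_zero (mul_ne_zero (by norm_num) (pow_ne_zero 3 hl0)) hy0
  have hm27 : m ≠ 27 := by
    intro h; apply h27; rw [hm] at h; field_simp at h; linear_combination h
  set μ : ℂ := m / 27 with hμ
  have hμ0 : μ ≠ 0 := div_ne_zero hm0 (by norm_num)
  have hμ1 : μ ≠ 1 := by
    intro h; apply hm27; rw [hμ] at h; field_simp at h; linear_combination h
  obtain ⟨ρ, hρ⟩ := IsAlgClosed.exists_pow_nat_eq ((μ - 1) / μ) (n := 3) (by norm_num)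
  have hρμ : μ * ρ ^ 3 = μ - 1 := by rw [hρ]; field_simp
  have hρ0 : ρ ≠ 0 := by
    intro h0
    apply hμ1
    have : μ - 1 = 0 := by rw [← hρμ, h0]; ring
    linear_combination this
  have hinv : ρ⁻¹ * ρ = 1 := inv_mul_cancel₀ hρ0
  have h2l : (2 : ℂ) * l ≠ 0 := mul_ne_zero two_ne_zero hl0
  have hα : -y0 / l ≠ 0 := div_ne_zero (neg_ne_zero.2 hy0) hl0
  have hβ : (-1 : ℂ) / (2 * l) ≠ 0 := div_ne_zero (by norm_num) h2l
  have hγ : (1 : ℂ) / (2 * l) ≠ 0 := div_ne_zero one_ne_zero h2l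
  have step1 : LinEq (Phi1 (-y0 / l) (-1 / (2 * l)) (1 / (2 * l))) (W a b) := by
    apply linEq_M3 0 0 1 (-l) 1 (l * (l ^ 2 / 3) - y0) l 1 (y0 - l * (l ^ 2 / 3))
    · intro h
      exact (mul_ne_zero (by norm_num) hl0 : (-2 : ℂ) * l ≠ 0) (by linear_combination h)
    · intro x
      simp only [W, W3, Phi1, vec3_0, vec3_1, vec3_2]
      rw [R1, R2]
      field_simp
      ring
  have step2 : LinEq (Phi2 m) (Phi1 (-y0 / l) (-1 / (2 * l)) (1 / (2 * l))) := by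
    apply linEq_M3 (-y0 / l) 0 0 0 (-1 / (2 * l)) 0 0 0 (1 / (2 * l))
    · intro h
      exact mul_ne_zero hα (mul_ne_zero hβ hγ) (by linear_combination h)
    · intro x
      simp only [Phi1, Phi2, vec3_0, vec3_1, vec3_2, hm]
      field_simp
      ring
  have step3 : LinEq (Phi3 μ) (Phi2 m) := by
    apply linEq_M3 1 1 1 1 o o2 1 o2 o
    · intro h
      have h3 : 3 * (o2 - o) = 0 := by linear_combination h - w2 + w4
      rw [ho, ho2] at h3
      have hz0 : z = 0 := by linear_combination (-1/3) * h3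
      rw [hz0] at hz
      norm_num at hz
    · intro x
      simp only [Phi2, Phi3, vec3_0, vec3_1, vec3_2, one_mul]
      have F := fourier_id o o2 (x 0) (x 1) (x 2) w1 w2 w3 w4
      rw [hμ]
      linear_combination (-(m / 27)) * F
  have step4 : LinEq (fun x => μ * hesse ρ⁻¹ x) (Phi3 μ) := by
    apply linEq_M3 ρ 0 0 0 1 0 0 0 1
    · intro h; apply hρ0; linear_combination h
    · intro x
      simp only [Phi3, hesse, vec3_0, vec3_1, vec3_2]
      linear_combination (-(x 0) ^ 3) * hρμ + (3 * μ * x 0 * x 1 * x 2) * hinv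
  have hk : (ρ⁻¹) ^ 3 ≠ 1 := by
    intro h
    have h1 : ρ ^ 3 = 1 := by
      have : (ρ⁻¹) ^ 3 * ρ ^ 3 = 1 := by rw [← mul_pow, hinv, one_pow]
      rw [h, one_mul] at this; exact this
    rw [h1] at hρμ
    have : (0 : ℂ) = -1 := by linear_combination hρμ
    norm_num at this
  exact ⟨μ, ρ⁻¹, hμ0, hk, (((step4.trans step3).trans step2).trans step1).symm⟩

/-- **Hesse normal form** of a smooth plane cubic over `ℂ`. -/
theorem main18403 (f : MvPolynomial (Fin 3) ℂ) (hf : f.IsHomogeneous 3)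
    (hsm : ∀ v : Fin 3 → ℂ, v ≠ 0 → eval v f = 0 → ∃ i : Fin 3, eval v (pderiv i f) ≠ 0) :
    ∃ (A : Matrix (Fin 3) (Fin 3) ℂ) (k c : ℂ), IsUnit A.det ∧ k ^ 3 ≠ 1 ∧ c ≠ 0 ∧
      aeval (fun i : Fin 3 => ∑ j : Fin 3, C (A i j) * X j) f = C c * HesseCubic.form k := by
  obtain ⟨c0, rfl⟩ := exists_coeffs f hf
  have hs := smoothFn_of_hsm c0 hsm
  obtain ⟨κ, a, b, hκ, hL1⟩ := exists_weierstrass c0 hs
  have hsW : SmoothFn (W a b) := SmoothFn.of_smul hκ (hs.of_linEq hL1)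
  obtain ⟨μ, k, hμ, hk, hL2⟩ := exists_hesse a b hsW
  obtain ⟨A, hA, hAx⟩ := hL1.trans (hL2.smul κ)
  refine ⟨A, k, κ * μ, hA, hk, mul_ne_zero hκ hμ, ?_⟩
  apply MvPolynomial.funext
  intro x
  rw [eval_subst, eval_G, ← hAx x]
  simp [HesseCubic.form, hesse]
  ring

end Groth.Agent.Lib.CubicHesseH1
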