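import Mathlib
import Groth.Agent.Lib.CubicHesse_helper1
import Groth.Agent.S18404

set_option autoImplicit false
set_option maxHeartbeats 1000000

namespace Groth.Agent.Lib.CubicAutH1

open MvPolynomial Groth.Agent.Lib.CubicFormH1 Groth.Agent.Lib.CubicHesseH1

/-- the data of the Hesse normal form, at the level of functions -/
theorem hesse_data (f : MvPolynomial (Fin 3) ℂ) (hf : f.IsHomogeneous 3)
    (hsm : ∀ v : Fin 3 → ℂ, v ≠ 0 → eval v f = 0 → ∃ i : Fin 3, eval v (pderiv i f) ≠ 0) :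
    ∃ (B : Matrix (Fin 3) (Fin 3) ℂ) (k c : ℂ), IsUnit B.det ∧ k ^ 3 ≠ 1 ∧ c ≠ 0 ∧
      ∀ x : Fin 3 → ℂ, eval (B.mulVec x) f = c * hesse k x := by
  obtain ⟨c0, rfl⟩ := exists_coeffs f hf
  have hs := smoothFn_of_hsm c0 hsm
  obtain ⟨κ, a, b, hκ, hL1⟩ := exists_weierstrass c0 hs
  have hsW : SmoothFn (W a b) := SmoothFn.of_smul hκ (hs.of_linEq hL1)
  obtain ⟨μ, k, hμ, hk, hL2⟩ := exists_hesse a b hsW
  obtain ⟨A, hA, hAx⟩ := hL1.trans (hL2.smul κ)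
  refine ⟨A, k, κ * μ, hA, hk, mul_ne_zero hκ hμ, fun x => ?_⟩
  rw [eval_G, ← hAx x]
  show κ * (μ * hesse k x) = κ * μ * hesse k x
  ring

lemma mulVec3 (M : Matrix (Fin 3) (Fin 3) ℂ) (p q r : ℂ) :
    M.mulVec ![p, q, r] = ![M 0 0 * p + M 0 1 * q + M 0 2 * r, M 1 0 * p + M 1 1 * q + M 1 2 * r,
      M 2 0 * p + M 2 1 * q + M 2 2 * r] := by
  ext i; fin_cases i <;> simp [Matrix.mulVec, dotProduct, Fin.sum_univ_three]

lemma eig_eqs (M : Matrix (Fin 3) (Fin 3) ℂ) (p q r d : ℂ)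
    (h : M.mulVec ![p, q, r] = d • ![p, q, r]) :
    M 0 0 * p + M 0 1 * q + M 0 2 * r = d * p ∧ M 1 0 * p + M 1 1 * q + M 1 2 * r = d * q ∧
      M 2 0 * p + M 2 1 * q + M 2 2 * r = d * r := by
  rw [mulVec3] at h
  exact ⟨congrFun h 0, congrFun h 1, congrFun h 2⟩

lemma inv_mulVec_cancel (B : Matrix (Fin 3) (Fin 3) ℂ) (hB : IsUnit B.det) (y : Fin 3 → ℂ) :
    B.mulVec (B⁻¹.mulVec y) = y := by
  rw [Matrix.mulVec_mulVec, Matrix.mul_nonsing_inv B hB, Matrix.one_mulVec]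

lemma mulVec_inv_cancel (B : Matrix (Fin 3) (Fin 3) ℂ) (hB : IsUnit B.det) (y : Fin 3 → ℂ) :
    B⁻¹.mulVec (B.mulVec y) = y := by
  rw [Matrix.mulVec_mulVec, Matrix.nonsing_inv_mul B hB, Matrix.one_mulVec]

lemma mulVec_ne_zero (B : Matrix (Fin 3) (Fin 3) ℂ) (hB : IsUnit B.det) {y : Fin 3 → ℂ}
    (hy : y ≠ 0) : B.mulVec y ≠ 0 := by
  intro h; apply hy; rw [← mulVec_inv_cancel B hB y, h, Matrix.mulVec_zero]

lemma inv_mulVec_ne_zero (B : Matrix (Fin 3) (Fin 3) ℂ) (hB : IsUnit B.det) {y : Fin 3 → ℂ}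
    (hy : y ≠ 0) : B⁻¹.mulVec y ≠ 0 := by
  intro h; apply hy; rw [← inv_mulVec_cancel B hB y, h, Matrix.mulVec_zero]

lemma indep_mulVec (B : Matrix (Fin 3) (Fin 3) ℂ) (hB : IsUnit B.det) {v w : Fin 3 → ℂ}
    (h : LinearIndependent ℂ ![v, w]) : LinearIndependent ℂ ![B.mulVec v, B.mulVec w] := by
  rw [LinearIndependent.pair_iff] at h ⊢
  intro s t hst
  apply h s t
  have : B.mulVec (s • v + t • w) = 0 := by
    rw [Matrix.mulVec_add, Matrix.mulVec_smul, Matrix.mulVec_smul]; exact hst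
  rw [← mulVec_inv_cancel B hB (s • v + t • w), this, Matrix.mulVec_zero]

/-- `v` is a flex of the cubic function `φ`, in the sense of the statements -/
def FlexFn (φ : (Fin 3 → ℂ) → ℂ) (v : Fin 3 → ℂ) : Prop :=
  ∃ w : Fin 3 → ℂ, LinearIndependent ℂ ![v, w] ∧ ∀ t : ℂ, φ (v + t • w) = t ^ 3 * φ w

lemma FlexFn.map {φ ψ : (Fin 3 → ℂ) → ℂ} (B : Matrix (Fin 3) (Fin 3) ℂ) (hB : IsUnit B.det)
    (h : ∀ x, ψ x = φ (B.mulVec x)) {v : Fin 3 → ℂ} (hv : FlexFn ψ v) :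
    FlexFn φ (B.mulVec v) := by
  obtain ⟨w, hind, hw⟩ := hv
  refine ⟨B.mulVec w, indep_mulVec B hB hind, fun t => ?_⟩
  rw [← Matrix.mulVec_smul, ← Matrix.mulVec_add, ← h, hw t, h]

lemma FlexFn.of_smul {φ : (Fin 3 → ℂ) → ℂ} {c : ℂ} (hc : c ≠ 0) {v : Fin 3 → ℂ}
    (h : FlexFn (fun x => c * φ x) v) : FlexFn φ v := by
  obtain ⟨w, hind, hw⟩ := h
  refine ⟨w, hind, fun t => mul_left_cancel₀ hc ?_⟩
  have := hw t
  simp only at this
  linear_combination this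

lemma FlexFn.smul {φ : (Fin 3 → ℂ) → ℂ} (c : ℂ) {v : Fin 3 → ℂ} (h : FlexFn φ v) :
    FlexFn (fun x => c * φ x) v := by
  obtain ⟨w, hind, hw⟩ := h
  refine ⟨w, hind, fun t => ?_⟩
  simp only [hw t]; ring

lemma hesse_flex_iff (k : ℂ) (hk : k ^ 3 ≠ 1) (v : Fin 3 → ℂ) (hv : v ≠ 0)
    (h0 : hesse k v = 0) :
    FlexFn (hesse k) v ↔ ∃ γ c : ℂ, γ ^ 3 = 1 ∧
      (v = c • ![0, 1, -γ] ∨ v = c • ![-γ, 0, 1] ∨ v = c • ![1, -γ, 0]) := by
  have e : ∀ y : Fin 3 → ℂ, eval y (HesseCubic.form k) = hesse k y :=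
    fun y => Groth.Agent.S18404.eval_form k y
  have := Groth.Agent.S18404.result k hk v hv (by rw [e]; exact h0)
  simp only [e] at this
  exact this

/-- linear automorphisms of a cubic function -/
def AutFn (φ : (Fin 3 → ℂ) → ℂ) (T : Matrix (Fin 3) (Fin 3) ℂ) : Prop :=
  IsUnit T.det ∧ ∀ x, φ (T.mulVec x) = φ x

lemma AutFn.mul {φ : (Fin 3 → ℂ) → ℂ} {T1 T2 : Matrix (Fin 3) (Fin 3) ℂ} (h1 : AutFn φ T1)
    (h2 : AutFn φ T2) : AutFn φ (T1 * T2) := by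
  refine ⟨by rw [Matrix.det_mul]; exact h1.1.mul h2.1, fun x => ?_⟩
  rw [← Matrix.mulVec_mulVec, h1.2, h2.2]

lemma AutFn.inv {φ : (Fin 3 → ℂ) → ℂ} {T : Matrix (Fin 3) (Fin 3) ℂ} (h : AutFn φ T) :
    AutFn φ T⁻¹ := by
  refine ⟨Matrix.isUnit_nonsing_inv_det T h.1, fun x => ?_⟩
  rw [← h.2 (T⁻¹.mulVec x), inv_mulVec_cancel T h.1]

lemma hesse_reach (k : ℂ) (v : Fin 3 → ℂ) (hv : v ≠ 0)
    (h : ∃ γ c : ℂ, γ ^ 3 = 1 ∧
      (v = c • ![0, 1, -γ] ∨ v = c • ![-γ, 0, 1] ∨ v = c • ![1, -γ, 0])) :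
    ∃ (T : Matrix (Fin 3) (Fin 3) ℂ) (d : ℂ), AutFn (hesse k) T ∧ d ≠ 0 ∧
      T.mulVec ![0, 1, -1] = d • v := by
  obtain ⟨γ, c, hγ, hcases⟩ := h
  have hc : c ≠ 0 := by
    rintro rfl
    rcases hcases with h | h | h <;> (rw [zero_smul] at h; exact hv h)
  have hinv : ∀ x : Fin 3 → ℂ, hesse k ![γ ^ 2 * x 0, x 1, γ * x 2] = hesse k x := by
    intro x
    simp only [hesse, vec3_0, vec3_1, vec3_2]
    linear_combination (x 0 ^ 3 * (γ ^ 3 + 1) + x 2 ^ 3 - 3 * k * x 0 * x 1 * x 2) * hγ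
  rcases hcases with h | h | h
  · refine ⟨M3 (γ ^ 2) 0 0 0 1 0 0 0 γ, c⁻¹, ⟨?_, fun x => ?_⟩, inv_ne_zero hc, ?_⟩
    · rw [M3_det]; apply isUnit_iff_ne_zero.2
      intro h0
      have : (1 : ℂ) = 0 := by linear_combination h0 - hγ
      exact one_ne_zero this
    · rw [M3_mulVec]
      simp only [hesse, vec3_0, vec3_1, vec3_2]
      linear_combination (x 0 ^ 3 * (γ ^ 3 + 1) + x 2 ^ 3 - 3 * k * x 0 * x 1 * x 2) * hγ
    · rw [M3_mulVec, h, smul_smul, inv_mul_cancel₀ hc, one_smul]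
      ext i; fin_cases i <;> simp
  · refine ⟨M3 0 0 γ (γ ^ 2) 0 0 0 1 0, c⁻¹, ⟨?_, fun x => ?_⟩, inv_ne_zero hc, ?_⟩
    · rw [M3_det]; apply isUnit_iff_ne_zero.2
      intro h0
      have : (1 : ℂ) = 0 := by linear_combination h0 - hγ
      exact one_ne_zero this
    · rw [M3_mulVec]
      simp only [hesse, vec3_0, vec3_1, vec3_2]
      linear_combination (x 0 ^ 3 * (γ ^ 3 + 1) + x 2 ^ 3 - 3 * k * x 0 * x 1 * x 2) * hγ
    · rw [M3_mulVec, h, smul_smul, inv_mul_cancel₀ hc, one_smul]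
      ext i; fin_cases i <;> simp
  · refine ⟨M3 0 1 0 0 0 γ (γ ^ 2) 0 0, c⁻¹, ⟨?_, fun x => ?_⟩, inv_ne_zero hc, ?_⟩
    · rw [M3_det]; apply isUnit_iff_ne_zero.2
      intro h0
      have : (1 : ℂ) = 0 := by linear_combination h0 - hγ
      exact one_ne_zero this
    · rw [M3_mulVec]
      simp only [hesse, vec3_0, vec3_1, vec3_2]
      linear_combination (x 0 ^ 3 * (γ ^ 3 + 1) + x 2 ^ 3 - 3 * k * x 0 * x 1 * x 2) * hγ
    · rw [M3_mulVec, h, smul_smul, inv_mul_cancel₀ hc, one_smul]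
      ext i; fin_cases i <;> simp

/-- transitivity of the projective automorphism group of a smooth plane cubic on its flexes -/
theorem main18406 (f : MvPolynomial (Fin 3) ℂ) (hf : f.IsHomogeneous 3)
    (hsm : ∀ v : Fin 3 → ℂ, v ≠ 0 → eval v f = 0 → ∃ i : Fin 3, eval v (pderiv i f) ≠ 0)
    (v v' : Fin 3 → ℂ) (hv : v ≠ 0) (hv' : v' ≠ 0) (hfv : eval v f = 0) (hfv' : eval v' f = 0)
    (hflex : ∃ w : Fin 3 → ℂ, LinearIndependent ℂ ![v, w] ∧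
      ∀ t : ℂ, eval (v + t • w) f = t ^ 3 * eval w f)
    (hflex' : ∃ w : Fin 3 → ℂ, LinearIndependent ℂ ![v', w] ∧
      ∀ t : ℂ, eval (v' + t • w) f = t ^ 3 * eval w f) :
    ∃ (A : Matrix (Fin 3) (Fin 3) ℂ) (c d : ℂ), IsUnit A.det ∧
      aeval (fun i : Fin 3 => ∑ j : Fin 3, C (A i j) * X j) f = C c * f ∧
        A.mulVec v = d • v' := by
  obtain ⟨B, k, c, hB, hk, hc, hBx⟩ := hesse_data f hf hsm
  have hBi : IsUnit (B⁻¹).det := Matrix.isUnit_nonsing_inv_det B hB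
  have hinv : ∀ y, eval y f = c * hesse k (B⁻¹.mulVec y) := fun y => by
    rw [← hBx, inv_mulVec_cancel B hB]
  have key : ∀ u : Fin 3 → ℂ, u ≠ 0 → eval u f = 0 →
      (∃ w : Fin 3 → ℂ, LinearIndependent ℂ ![u, w] ∧
        ∀ t : ℂ, eval (u + t • w) f = t ^ 3 * eval w f) →
      ∃ (T : Matrix (Fin 3) (Fin 3) ℂ) (d : ℂ), AutFn (hesse k) T ∧ d ≠ 0 ∧
        T.mulVec ![0, 1, -1] = d • B⁻¹.mulVec u := by
    intro u hu hfu hfl
    have hP : B⁻¹.mulVec u ≠ 0 := inv_mulVec_ne_zero B hB hu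
    have h0 : hesse k (B⁻¹.mulVec u) = 0 := by
      have := hinv u; rw [hfu] at this
      exact (mul_eq_zero.1 this.symm).resolve_left hc
    have hfl' : FlexFn (hesse k) (B⁻¹.mulVec u) := by
      apply FlexFn.of_smul hc
      exact FlexFn.map (φ := fun x => c * hesse k x) (ψ := fun y => eval y f) B⁻¹ hBi hinv hfl
    exact hesse_reach k _ hP ((hesse_flex_iff k hk _ hP h0).1 hfl')
  obtain ⟨T1, d1, hT1, hd1, e1⟩ := key v hv hfv hflex
  obtain ⟨T2, d2, hT2, hd2, e2⟩ := key v' hv' hfv' hflex'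
  have hT : AutFn (hesse k) (T2 * T1⁻¹) := hT2.mul hT1.inv
  refine ⟨B * (T2 * T1⁻¹) * B⁻¹, 1, d1⁻¹ * d2, ?_, ?_, ?_⟩
  · rw [Matrix.det_mul, Matrix.det_mul]; exact (hB.mul hT.1).mul hBi
  · apply MvPolynomial.funext
    intro x
    rw [eval_subst, map_one, one_mul, hinv, hinv x]
    have hcomp : B⁻¹.mulVec ((B * (T2 * T1⁻¹) * B⁻¹).mulVec x)
        = (T2 * T1⁻¹).mulVec (B⁻¹.mulVec x) := by
      simp only [← Matrix.mulVec_mulVec]
      rw [mulVec_inv_cancel B hB]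
    rw [hcomp, hT.2]
  · have a1 : T1⁻¹.mulVec (B⁻¹.mulVec v) = d1⁻¹ • ![0, 1, -1] := by
      have : B⁻¹.mulVec v = d1⁻¹ • T1.mulVec ![0, 1, -1] := by
        rw [e1, smul_smul, inv_mul_cancel₀ hd1, one_smul]
      rw [this, Matrix.mulVec_smul, mulVec_inv_cancel T1 hT1.1]
    simp only [← Matrix.mulVec_mulVec]
    rw [a1]
    simp only [Matrix.mulVec_smul]
    rw [e2]
    simp only [Matrix.mulVec_smul]
    rw [inv_mulVec_cancel B hB, smul_smul]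

lemma quad_three_roots (A B C o o2 : ℂ) (w1 : 1 + o + o2 = 0) (hne : o - o2 ≠ 0)
    (h1 : A + B + C = 0) (ho : A + B * o + C * o2 = 0) (ho2 : A + B * o2 + C * o = 0) :
    A = 0 ∧ B = 0 ∧ C = 0 := by
  have hA : A = 0 := by
    linear_combination (1/3) * h1 + (1/3) * ho + (1/3) * ho2 - (1/3) * (B + C) * w1
  have hB' : B * (o - o2) = 0 := by
    linear_combination (1/2) * ho - (1/2) * ho2 + (1/2) * (o - o2) * h1 - (1/2) * (o - o2) * hA
  have hB : B = 0 := (mul_eq_zero.1 hB').resolve_right hne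
  refine ⟨hA, hB, ?_⟩
  linear_combination h1 - hA - hB

/-- the projective automorphisms of a smooth plane cubic act faithfully on its flexes -/
theorem main18405 (f : MvPolynomial (Fin 3) ℂ) (hf : f.IsHomogeneous 3)
    (hsm : ∀ v : Fin 3 → ℂ, v ≠ 0 → eval v f = 0 → ∃ i : Fin 3, eval v (pderiv i f) ≠ 0)
    (A : Matrix (Fin 3) (Fin 3) ℂ)
    (hfix : ∀ v : Fin 3 → ℂ, v ≠ 0 → eval v f = 0 →
      (∃ w : Fin 3 → ℂ, LinearIndependent ℂ ![v, w] ∧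
        ∀ t : ℂ, eval (v + t • w) f = t ^ 3 * eval w f) →
      ∃ d : ℂ, A.mulVec v = d • v) :
    ∃ c : ℂ, A = c • (1 : Matrix (Fin 3) (Fin 3) ℂ) := by
  obtain ⟨B, k, c, hB, hk, hc, hBx⟩ := hesse_data f hf hsm
  set M : Matrix (Fin 3) (Fin 3) ℂ := B⁻¹ * A * B with hM
  have key : ∀ γ : ℂ, γ ^ 3 = 1 → ∀ P : Fin 3 → ℂ, (P = ![0, 1, -γ] ∨ P = ![-γ, 0, 1]) →
      ∃ d : ℂ, M.mulVec P = d • P := by
    intro γ hγ P hP
    have hP0 : P ≠ 0 := by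
      rcases hP with rfl | rfl
      · intro h; have := congrFun h 1; simp at this
      · intro h; have := congrFun h 2; simp at this
    have h0 : hesse k P = 0 := by
      rcases hP with rfl | rfl <;> simp only [hesse, vec3_0, vec3_1, vec3_2] <;>
        linear_combination (-1 : ℂ) * hγ
    have hfl : FlexFn (hesse k) P := by
      rw [hesse_flex_iff k hk P hP0 h0]
      rcases hP with rfl | rfl
      · exact ⟨γ, 1, hγ, Or.inl (by rw [one_smul])⟩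
      · exact ⟨γ, 1, hγ, Or.inr (Or.inl (by rw [one_smul]))⟩
    have hfl' : ∃ w : Fin 3 → ℂ, LinearIndependent ℂ ![B.mulVec P, w] ∧
        ∀ t : ℂ, eval (B.mulVec P + t • w) f = t ^ 3 * eval w f :=
      FlexFn.map (φ := fun y => eval y f) (ψ := fun x => c * hesse k x) B hB
        (fun x => (hBx x).symm) (hfl.smul c)
    obtain ⟨d, hd⟩ := hfix (B.mulVec P) (mulVec_ne_zero B hB hP0)
      (by rw [hBx, h0, mul_zero]) hfl'
    refine ⟨d, ?_⟩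
    rw [hM]
    simp only [← Matrix.mulVec_mulVec]
    rw [hd, Matrix.mulVec_smul, mulVec_inv_cancel B hB]
  -- cube roots of unity
  obtain ⟨z, hz⟩ := IsAlgClosed.exists_pow_nat_eq (-3 : ℂ) (n := 2) (by norm_num)
  set o : ℂ := (-1 + z) / 2 with ho
  set o2 : ℂ := (-1 - z) / 2 with ho2
  have w1 : 1 + o + o2 = 0 := by rw [ho, ho2]; ring
  have w2 : o * o = o2 := by rw [ho, ho2]; linear_combination (1/4) * hz
  have w3 : o * o2 = 1 := by rw [ho, ho2]; linear_combination (-1/4) * hz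
  have w4 : o2 * o2 = o := by rw [ho, ho2]; linear_combination (1/4) * hz
  have ho3 : o ^ 3 = 1 := by linear_combination o * w2 + w3
  have ho23 : o2 ^ 3 = 1 := by linear_combination o2 * w4 + w3
  have hne : o - o2 ≠ 0 := by
    intro h
    have hz0 : z = 0 := by rw [ho, ho2] at h; linear_combination h
    rw [hz0] at hz; norm_num at hz
  obtain ⟨a1, ha1⟩ := key 1 (by norm_num) ![0, 1, -1] (Or.inl rfl)
  obtain ⟨a2, ha2⟩ := key o ho3 ![0, 1, -o] (Or.inl rfl)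
  obtain ⟨a3, ha3⟩ := key o2 ho23 ![0, 1, -o2] (Or.inl rfl)
  obtain ⟨b1, hb1⟩ := key 1 (by norm_num) ![-1, 0, 1] (Or.inr rfl)
  obtain ⟨b2, hb2⟩ := key o ho3 ![-o, 0, 1] (Or.inr rfl)
  obtain ⟨b3, hb3⟩ := key o2 ho23 ![-o2, 0, 1] (Or.inr rfl)
  obtain ⟨p10, p11, p12⟩ := eig_eqs M _ _ _ _ ha1
  obtain ⟨p20, p21, p22⟩ := eig_eqs M _ _ _ _ ha2
  obtain ⟨p30, p31, p32⟩ := eig_eqs M _ _ _ _ ha3
  obtain ⟨q10, q11, q12⟩ := eig_eqs M _ _ _ _ hb1
  obtain ⟨q20, q21, q22⟩ := eig_eqs M _ _ _ _ hb2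
  obtain ⟨q30, q31, q32⟩ := eig_eqs M _ _ _ _ hb3
  -- the quadratic relations
  have F1 : M 2 1 + (M 1 1 - M 2 2) + (-(M 1 2)) = 0 := by linear_combination p12 + p11
  have F2 : M 2 1 + (M 1 1 - M 2 2) * o + (-(M 1 2)) * o2 = 0 := by
    linear_combination p22 + o * p21 + M 1 2 * w2
  have F3 : M 2 1 + (M 1 1 - M 2 2) * o2 + (-(M 1 2)) * o = 0 := by
    linear_combination p32 + o2 * p31 + M 1 2 * w4
  obtain ⟨m21, m11, m12⟩ := quad_three_roots _ _ _ o o2 w1 hne F1 F2 F3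
  have H1 : M 0 2 + (M 2 2 - M 0 0) + (-(M 2 0)) = 0 := by linear_combination q10 + q12
  have H2 : M 0 2 + (M 2 2 - M 0 0) * o + (-(M 2 0)) * o2 = 0 := by
    linear_combination q20 + o * q22 + M 2 0 * w2
  have H3 : M 0 2 + (M 2 2 - M 0 0) * o2 + (-(M 2 0)) * o = 0 := by
    linear_combination q30 + o2 * q32 + M 2 0 * w4
  obtain ⟨m02, m22, m20⟩ := quad_three_roots _ _ _ o o2 w1 hne H1 H2 H3
  have m12' : M 1 2 = 0 := by linear_combination -m12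
  have m20' : M 2 0 = 0 := by linear_combination -m20
  have m01 : M 0 1 = 0 := by linear_combination p10 + m02
  have m10 : M 1 0 = 0 := by linear_combination -q11 + m12'
  have m22' : M 2 2 = M 0 0 := by linear_combination m22
  have m11' : M 1 1 = M 0 0 := by linear_combination m11 + m22
  have hMd : M = (M 0 0) • (1 : Matrix (Fin 3) (Fin 3) ℂ) := by
    ext i j
    fin_cases i <;> fin_cases j <;>
      simp [Matrix.smul_apply, Matrix.one_apply, m01, m02, m10, m12', m20', m21, m11', m22']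
  generalize M 0 0 = lam at hMd
  have hA' : A = B * M * B⁻¹ := by
    rw [hM]
    simp only [Matrix.mul_assoc]
    rw [Matrix.mul_nonsing_inv B hB, Matrix.mul_one, ← Matrix.mul_assoc,
      Matrix.mul_nonsing_inv B hB, Matrix.one_mul]
  refine ⟨lam, ?_⟩
  rw [hA', hMd, Matrix.mul_smul, Matrix.mul_one, Matrix.smul_mul, Matrix.mul_nonsing_inv B hB]

end Groth.Agent.Lib.CubicAutH1
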