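import Mathlib
import Groth.Agent.Lib.CubicAut_helper1
import Groth.Agent.Lib.CubicSurf1_helper1

set_option autoImplicit false
set_option maxHeartbeats 1000000

namespace Groth.Agent.Lib.CubicAut54H1

open MvPolynomial
open Groth.Agent.Lib.CubicFormH1 Groth.Agent.Lib.CubicHesseH1 Groth.Agent.Lib.CubicAutH1

abbrev V3 := Fin 3 → ℂ

/-- sum of cubes -/
def Sf (x : V3) : ℂ := x 0 ^ 3 + x 1 ^ 3 + x 2 ^ 3
/-- product of coordinates -/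
def Pf (x : V3) : ℂ := x 0 * x 1 * x 2

lemma hesse_eq (k : ℂ) (x : V3) : hesse k x = Sf x - 3 * k * Pf x := rfl

/-! ### cube roots of unity -/

structure Omega (o o2 : ℂ) : Prop where
  w1 : 1 + o + o2 = 0
  w2 : o * o = o2
  w3 : o * o2 = 1
  w4 : o2 * o2 = o
  hne : o - o2 ≠ 0

lemma exists_omega : ∃ o o2 : ℂ, Omega o o2 := by
  obtain ⟨z, hz⟩ := IsAlgClosed.exists_pow_nat_eq (-3 : ℂ) (n := 2) (by norm_num)
  refine ⟨(-1 + z) / 2, (-1 - z) / 2, ⟨by ring, by linear_combination (1/4) * hz,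
    by linear_combination (-1/4) * hz, by linear_combination (1/4) * hz, ?_⟩⟩
  intro h
  have hz0 : z = 0 := by linear_combination h
  rw [hz0] at hz; norm_num at hz

namespace Omega

variable {o o2 : ℂ} (hΩ : Omega o o2)
include hΩ

lemma o3 : o ^ 3 = 1 := by linear_combination o * hΩ.w2 + hΩ.w3
lemma o23 : o2 ^ 3 = 1 := by linear_combination o2 * hΩ.w4 + hΩ.w3

lemma o_ne_one : o ≠ 1 := by
  intro h
  have h2 : o2 = 1 := by rw [← hΩ.w2, h]; ring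
  have := hΩ.w1
  rw [h, h2] at this; norm_num at this

lemma o2_ne_one : o2 ≠ 1 := by
  intro h
  have h1 : o = 1 := by rw [← hΩ.w4, h]; ring
  exact hΩ.o_ne_one h1

lemma o_ne_o2 : o ≠ o2 := fun h => hΩ.hne (sub_eq_zero.mpr h)

lemma o_ne_zero : o ≠ 0 := by
  intro h
  have := hΩ.w3
  rw [h, zero_mul] at this
  exact zero_ne_one this

lemma cases (ζ : ℂ) (hζ : ζ ^ 3 = 1) : ζ = 1 ∨ ζ = o ∨ ζ = o2 := by
  have h : (ζ - 1) * ((ζ - o) * (ζ - o2)) = 0 := by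
    linear_combination hζ + (-ζ ^ 2 + ζ) * hΩ.w1 + (ζ - 1) * hΩ.w3
  rcases mul_eq_zero.mp h with h1 | h1
  · left; exact sub_eq_zero.mp h1
  · rcases mul_eq_zero.mp h1 with h2 | h2
    · right; left; exact sub_eq_zero.mp h2
    · right; right; exact sub_eq_zero.mp h2

lemma exists_fin_pow (ζ : ℂ) (hζ : ζ ^ 3 = 1) : ∃ a : Fin 3, ζ = o ^ (a : ℕ) := by
  rcases hΩ.cases ζ hζ with h | h | h
  · exact ⟨0, by rw [h]; simp⟩
  · exact ⟨1, by rw [h]; simp⟩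
  · refine ⟨2, ?_⟩
    rw [h]
    show o2 = o ^ 2
    rw [pow_two, hΩ.w2]

lemma vand (A B C D : ℂ)
    (h : ∀ γ : ℂ, γ ^ 3 = 1 → A - B * γ + C * γ ^ 2 - D * γ ^ 3 = 0) :
    A = D ∧ B = 0 ∧ C = 0 := by
  have h1 := h 1 (by norm_num)
  have ho := h o hΩ.o3
  have ho2 := h o2 hΩ.o23
  have F1 : (A - D) + (-B) + C = 0 := by linear_combination h1
  have F2 : (A - D) + (-B) * o + C * o2 = 0 := by
    linear_combination ho - C * hΩ.w2 + D * hΩ.o3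
  have F3 : (A - D) + (-B) * o2 + C * o = 0 := by
    linear_combination ho2 - C * hΩ.w4 + D * hΩ.o23
  obtain ⟨e1, e2, e3⟩ := quad_three_roots _ _ _ o o2 hΩ.w1 hΩ.hne F1 F2 F3
  exact ⟨by linear_combination e1, by linear_combination -e2, e3⟩

lemma prod3 (a b c : ℂ) :
    (a + b + c) * (a + o * b + o2 * c) * (a + o2 * b + o * c)
      = a ^ 3 + b ^ 3 + c ^ 3 - 3 * a * b * c := by
  linear_combination (a + b + c) * (a * b + a * c) * hΩ.w1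
    + (a + b + c) * (b ^ 2 + c ^ 2) * hΩ.w3
    + (a + b + c) * (b * c) * (hΩ.w2 + hΩ.w4 + hΩ.w1)

end Omega

/-! ### cubics through the nine flexes form the Hesse pencil -/

/-- the cubic `cub c` passes through the nine flexes of the Hesse pencil -/
def Thru (c : Fin 10 → ℂ) : Prop :=
  ∀ γ : ℂ, γ ^ 3 = 1 →
    cub c ![0, 1, -γ] = 0 ∧ cub c ![-γ, 0, 1] = 0 ∧ cub c ![1, -γ, 0] = 0

lemma pencil_of_thru {o o2 : ℂ} (hΩ : Omega o o2) (c : Fin 10 → ℂ) (h : Thru c) :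
    ∀ x, cub c x = c 0 * Sf x + c 4 * Pf x := by
  obtain ⟨a1, a2, a3⟩ := hΩ.vand (c 6) (c 7) (c 8) (c 9) (fun γ hγ => by
    have := (h γ hγ).1
    simp only [cub, cub3, vec3_0, vec3_1, vec3_2] at this
    linear_combination this)
  obtain ⟨b1, b2, b3⟩ := hΩ.vand (c 9) (c 5) (c 2) (c 0) (fun γ hγ => by
    have := (h γ hγ).2.1
    simp only [cub, cub3, vec3_0, vec3_1, vec3_2] at this
    linear_combination this)
  obtain ⟨d1, d2, d3⟩ := hΩ.vand (c 0) (c 1) (c 3) (c 6) (fun γ hγ => by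
    have := (h γ hγ).2.2
    simp only [cub, cub3, vec3_0, vec3_1, vec3_2] at this
    linear_combination this)
  intro x
  simp only [cub, cub3, Sf, Pf]
  linear_combination (x 0 ^ 2 * x 1) * d2 + (x 0 ^ 2 * x 2) * b3 + (x 0 * x 1 ^ 2) * d3
    + (x 0 * x 2 ^ 2) * b2 - (x 1 ^ 3) * d1 + (x 1 ^ 2 * x 2) * a2 + (x 1 * x 2 ^ 2) * a3
    + (x 2 ^ 3) * b1

lemma flex_vec_ne (γ : ℂ) :
    (![0, 1, -γ] : V3) ≠ 0 ∧ (![-γ, 0, 1] : V3) ≠ 0 ∧ (![1, -γ, 0] : V3) ≠ 0 := by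
  refine ⟨fun h => ?_, fun h => ?_, fun h => ?_⟩
  · have := congrFun h 1; simp at this
  · have := congrFun h 2; simp at this
  · have := congrFun h 0; simp at this

lemma cub_smul (c : Fin 10 → ℂ) (t : ℂ) (x : V3) : cub c (t • x) = t ^ 3 * cub c x := by
  simp only [cub, cub3, Pi.smul_apply, smul_eq_mul]; ring

lemma thru_comp (k : ℂ) (hk : k ^ 3 ≠ 1) (A : Matrix (Fin 3) (Fin 3) ℂ) (hA : IsUnit A.det)
    (c0 : ℂ) (hAut : ∀ x, hesse k (A.mulVec x) = c0 * hesse k x) (c c' : Fin 10 → ℂ)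
    (hc : Thru c) (hc' : ∀ x, cub c (A.mulVec x) = cub c' x) : Thru c' := by
  have key : ∀ P : V3, P ≠ 0 → (∃ γ c1 : ℂ, γ ^ 3 = 1 ∧
      (P = c1 • ![0, 1, -γ] ∨ P = c1 • ![-γ, 0, 1] ∨ P = c1 • ![1, -γ, 0])) →
      cub c (A.mulVec P) = 0 := by
    intro P hP0 hP
    have h0 : hesse k P = 0 := by
      obtain ⟨γ, c1, hγ, h | h | h⟩ := hP <;> rw [h] <;>
        simp only [hesse, Pi.smul_apply, smul_eq_mul, vec3_0, vec3_1, vec3_2] <;>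
        linear_combination (-(c1 ^ 3)) * hγ
    have hfl : FlexFn (hesse k) P := (hesse_flex_iff k hk P hP0 h0).mpr hP
    have hfl2 : FlexFn (hesse k) (A.mulVec P) :=
      FlexFn.map (φ := hesse k) (ψ := fun x => c0 * hesse k x) A hA
        (fun x => (hAut x).symm) (hfl.smul c0)
    have hAP0 : A.mulVec P ≠ 0 := mulVec_ne_zero A hA hP0
    have h0' : hesse k (A.mulVec P) = 0 := by rw [hAut, h0, mul_zero]
    obtain ⟨γ', c2, hγ', h'⟩ := (hesse_flex_iff k hk _ hAP0 h0').mp hfl2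
    rcases h' with h' | h' | h' <;> rw [h', cub_smul]
    · rw [(hc γ' hγ').1, mul_zero]
    · rw [(hc γ' hγ').2.1, mul_zero]
    · rw [(hc γ' hγ').2.2, mul_zero]
  intro γ hγ
  obtain ⟨n1, n2, n3⟩ := flex_vec_ne γ
  refine ⟨?_, ?_, ?_⟩
  · rw [← hc']; exact key _ n1 ⟨γ, 1, hγ, Or.inl (one_smul _ _).symm⟩
  · rw [← hc']; exact key _ n2 ⟨γ, 1, hγ, Or.inr (Or.inl (one_smul _ _).symm)⟩
  · rw [← hc']; exact key _ n3 ⟨γ, 1, hγ, Or.inr (Or.inr (one_smul _ _).symm)⟩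

lemma aut_pencil {o o2 : ℂ} (hΩ : Omega o o2) (k : ℂ) (hk : k ^ 3 ≠ 1)
    (A : Matrix (Fin 3) (Fin 3) ℂ) (hA : IsUnit A.det)
    (c0 : ℂ) (hAut : ∀ x, hesse k (A.mulVec x) = c0 * hesse k x) (c : Fin 10 → ℂ)
    (hc : Thru c) : ∃ a b : ℂ, ∀ x, cub c (A.mulVec x) = a * Sf x + b * Pf x := by
  obtain ⟨c', hc'⟩ := exists_coeffs_comp c A
  have := pencil_of_thru hΩ c' (thru_comp k hk A hA c0 hAut c c' hc hc')
  exact ⟨c' 0, c' 4, fun x => by rw [hc', this]⟩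

def cS : Fin 10 → ℂ := ![1, 0, 0, 0, 0, 0, 1, 0, 0, 1]
def cP : Fin 10 → ℂ := ![0, 0, 0, 0, 1, 0, 0, 0, 0, 0]

lemma cub_cS (x : V3) : cub cS x = Sf x := by
  simp [cub, cub3, cS, Sf]
lemma cub_cP (x : V3) : cub cP x = Pf x := by
  simp [cub, cub3, cP, Pf]

lemma thru_cS : Thru cS := by
  intro γ hγ
  simp only [cub_cS, Sf, vec3_0, vec3_1, vec3_2]
  refine ⟨by linear_combination -hγ, by linear_combination -hγ, by linear_combination -hγ⟩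

lemma thru_cP : Thru cP := by
  intro γ hγ
  simp only [cub_cP, Pf, vec3_0, vec3_1, vec3_2]
  refine ⟨by ring, by ring, by ring⟩

/-! ### smoothness of the Hesse cubics and triangles in the pencil -/

def cH (k : ℂ) : Fin 10 → ℂ := ![1, 0, 0, 0, -3 * k, 0, 1, 0, 0, 1]

lemma hesse_eq_cub (k : ℂ) : hesse k = cub (cH k) := by
  funext x
  simp [hesse, cub, cub3, cH] <;> ring

lemma sq_zero {a : ℂ} (h : a ^ 2 = 0) : a = 0 := (pow_eq_zero_iff (by norm_num)).mp h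

lemma hesse_smooth (k : ℂ) (hk : k ^ 3 ≠ 1) : SmoothFn (hesse k) := by
  intro v hv hs
  rw [hesse_eq_cub, sing_iff] at hs
  obtain ⟨-, h1, h2, h3⟩ := hs
  have e1 : v 0 ^ 2 = k * (v 1 * v 2) := by
    have : g0 (cH k) v = 3 * v 0 ^ 2 - 3 * k * (v 1 * v 2) := by simp [g0, cH] <;> ring
    rw [this] at h1; linear_combination (1/3:ℂ) * h1
  have e2 : v 1 ^ 2 = k * (v 0 * v 2) := by
    have : g1 (cH k) v = 3 * v 1 ^ 2 - 3 * k * (v 0 * v 2) := by simp [g1, cH] <;> ring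
    rw [this] at h2; linear_combination (1/3:ℂ) * h2
  have e3 : v 2 ^ 2 = k * (v 0 * v 1) := by
    have : g2 (cH k) v = 3 * v 2 ^ 2 - 3 * k * (v 0 * v 1) := by simp [g2, cH] <;> ring
    rw [this] at h3; linear_combination (1/3:ℂ) * h3
  have hP : (1 - k ^ 3) * (v 0 * v 1 * v 2) ^ 2 = 0 := by
    linear_combination (v 1 ^ 2 * v 2 ^ 2) * e1 + (k * (v 1 * v 2) * v 2 ^ 2) * e2
      + (k * (v 1 * v 2) * (k * (v 0 * v 2))) * e3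
  have hk' : 1 - k ^ 3 ≠ 0 := fun h => hk (by linear_combination -h)
  have hprod : v 0 * v 1 * v 2 = 0 := sq_zero ((mul_eq_zero.mp hP).resolve_left hk')
  apply hv
  have hall : v 0 = 0 ∧ v 1 = 0 ∧ v 2 = 0 := by
    rcases mul_eq_zero.mp hprod with h | h
    · rcases mul_eq_zero.mp h with h | h
      · refine ⟨h, sq_zero ?_, sq_zero ?_⟩
        · rw [e2, h]; ring
        · rw [e3, h]; ring
      · refine ⟨sq_zero ?_, h, sq_zero ?_⟩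
        · rw [e1, h]; ring
        · rw [e3, h]; ring
    · refine ⟨sq_zero ?_, sq_zero ?_, h⟩
      · rw [e1, h]; ring
      · rw [e2, h]; ring
  ext i
  fin_cases i
  · exact hall.1
  · exact hall.2.1
  · exact hall.2.2

lemma tri_in_pencil (B : Matrix (Fin 3) (Fin 3) ℂ) (hB : IsUnit B.det) (N M : ℂ)
    (h : ∀ x : V3, N * Sf x + M * Pf x
      = (B.mulVec x) 0 * (B.mulVec x) 1 * (B.mulVec x) 2) :
    N = 0 ∨ ∃ ρ : ℂ, ρ ^ 3 = 1 ∧ M = -3 * ρ * N := by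
  by_cases hN : N = 0
  · exact Or.inl hN
  right
  obtain ⟨ρ, hMρ⟩ : ∃ ρ : ℂ, M = -3 * ρ * N := ⟨-M / (3 * N), by field_simp⟩
  by_cases hρ : ρ ^ 3 = 1
  · exact ⟨ρ, hρ, hMρ⟩
  exfalso
  have hsm := hesse_smooth ρ hρ
  have hx0 : B⁻¹.mulVec ![0, 0, 1] ≠ 0 := inv_mulVec_ne_zero B hB (by
    intro h0; have := congrFun h0 2; simp at this)
  apply hsm _ hx0
  intro y
  refine ⟨N⁻¹ * ((B.mulVec y) 0 * (B.mulVec y) 1),
    N⁻¹ * ((B.mulVec y) 0 * (B.mulVec y) 1 * (B.mulVec y) 2), fun t => ?_⟩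
  have h1 := h (B⁻¹.mulVec ![0, 0, 1] + t • y)
  rw [Matrix.mulVec_add, Matrix.mulVec_smul, inv_mulVec_cancel B hB] at h1
  simp only [Pi.add_apply, Pi.smul_apply, smul_eq_mul, vec3_0, vec3_1, vec3_2] at h1
  have E1 : N * hesse ρ (B⁻¹.mulVec ![0, 0, 1] + t • y)
      = t ^ 2 * ((B.mulVec y) 0 * (B.mulVec y) 1)
        + t ^ 3 * ((B.mulVec y) 0 * (B.mulVec y) 1 * (B.mulVec y) 2) := by
    rw [hesse_eq]
    linear_combination h1 - (Pf (B⁻¹.mulVec ![0, 0, 1] + t • y)) * hMρ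
  have E2 : hesse ρ (B⁻¹.mulVec ![0, 0, 1] + t • y)
      = N⁻¹ * (t ^ 2 * ((B.mulVec y) 0 * (B.mulVec y) 1)
        + t ^ 3 * ((B.mulVec y) 0 * (B.mulVec y) 1 * (B.mulVec y) 2)) := by
    rw [← E1, ← mul_assoc, inv_mul_cancel₀ hN, one_mul]
  rw [E2]; ring

/-- the matrix of the three linear factors of the triangle `S - 3ζΠ` -/
def Fz (o o2 ζ : ℂ) : Matrix (Fin 3) (Fin 3) ℂ := M3 1 1 ζ 1 o (o2 * ζ) 1 o2 (o * ζ)

lemma Fz_det {o o2 : ℂ} (hΩ : Omega o o2) (ζ : ℂ) (hζ : ζ ≠ 0) : IsUnit (Fz o o2 ζ).det := by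
  rw [Fz, M3_det, isUnit_iff_ne_zero]
  have : 1 * (o * (o * ζ) - o2 * ζ * o2) - 1 * (1 * (o * ζ) - o2 * ζ * 1) + ζ * (1 * o2 - o * 1)
      = -3 * ζ * (o - o2) := by
    linear_combination ζ * hΩ.w2 - ζ * hΩ.w4
  rw [this]
  exact mul_ne_zero (mul_ne_zero (by norm_num) hζ) hΩ.hne

lemma Fz_prod {o o2 : ℂ} (hΩ : Omega o o2) (ζ : ℂ) (hζ : ζ ^ 3 = 1) (y : V3) :
    ((Fz o o2 ζ).mulVec y) 0 * ((Fz o o2 ζ).mulVec y) 1 * ((Fz o o2 ζ).mulVec y) 2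
      = Sf y - 3 * ζ * Pf y := by
  rw [Fz, M3_mulVec]
  simp only [vec3_0, vec3_1, vec3_2, Sf, Pf]
  have := hΩ.prod3 (y 0) (y 1) (ζ * y 2)
  linear_combination this + (y 2 ^ 3) * hζ

/-! ### the exceptional parameters -/

def Qk (ζ ζ1 ζ2 ρ1 ρ2 k : ℂ) : ℂ :=
  (k - ζ1) * (ζ - ρ1) * (k - ρ2) - (k - ζ2) * (ζ - ρ2) * (k - ρ1)

def Bad : Set ℂ := {k | k = 0 ∨ k ^ 3 = 1 ∨ ∃ ζ ζ1 ζ2 ρ1 ρ2 : ℂ, ζ ^ 3 = 1 ∧ ζ1 ^ 3 = 1 ∧
  ζ2 ^ 3 = 1 ∧ ρ1 ^ 3 = 1 ∧ ρ2 ^ 3 = 1 ∧ ρ1 ≠ ρ2 ∧ Qk ζ ζ1 ζ2 ρ1 ρ2 k = 0}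

lemma mu_finite : {z : ℂ | z ^ 3 = 1}.Finite := by
  obtain ⟨o, o2, hΩ⟩ := exists_omega
  apply Set.Finite.subset (((Set.finite_singleton o2).insert o).insert 1)
  intro z hz
  rcases hΩ.cases z hz with h | h | h <;> simp [h]

lemma quad_finite (α β γ : ℂ) (hα : α ≠ 0) : {k : ℂ | α * k ^ 2 + β * k + γ = 0}.Finite := by
  by_cases hne : ∃ k0, α * k0 ^ 2 + β * k0 + γ = 0
  · obtain ⟨k0, hk0⟩ := hne
    apply Set.Finite.subset ((Set.finite_singleton (-β / α - k0)).insert k0)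
    intro k hk
    have hk' : α * k ^ 2 + β * k + γ = 0 := hk
    have h1 : (k - k0) * (α * (k + k0) + β) = 0 := by linear_combination hk' - hk0
    rcases mul_eq_zero.mp h1 with h2 | h2
    · left; exact sub_eq_zero.mp h2
    · right
      show k = -β / α - k0
      rw [eq_sub_iff_add_eq, eq_div_iff hα]
      linear_combination h2
  · apply Set.Finite.subset Set.finite_empty
    intro k hk
    exact (hne ⟨k, hk⟩).elim

lemma piece_finite (ζ ζ1 ζ2 ρ1 ρ2 : ℂ) :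
    {k : ℂ | ρ1 ≠ ρ2 ∧ Qk ζ ζ1 ζ2 ρ1 ρ2 k = 0}.Finite := by
  by_cases h : ρ1 = ρ2
  · apply Set.Finite.subset Set.finite_empty
    intro k hk
    exact (hk.1 h).elim
  · have hα : ρ2 - ρ1 ≠ 0 := fun h0 => h (sub_eq_zero.mp h0).symm
    apply Set.Finite.subset (quad_finite (ρ2 - ρ1)
      (-(ζ - ρ1) * (ζ1 + ρ2) + (ζ - ρ2) * (ζ2 + ρ1))
      ((ζ - ρ1) * ζ1 * ρ2 - (ζ - ρ2) * ζ2 * ρ1) hα)
    intro k hk
    have := hk.2
    unfold Qk at this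
    show (ρ2 - ρ1) * k ^ 2 + (-(ζ - ρ1) * (ζ1 + ρ2) + (ζ - ρ2) * (ζ2 + ρ1)) * k
      + ((ζ - ρ1) * ζ1 * ρ2 - (ζ - ρ2) * ζ2 * ρ1) = 0
    linear_combination this

lemma bad_finite : Bad.Finite := by
  have hμ := mu_finite
  have hU : (⋃ ζ ∈ {z : ℂ | z ^ 3 = 1}, ⋃ ζ1 ∈ {z : ℂ | z ^ 3 = 1}, ⋃ ζ2 ∈ {z : ℂ | z ^ 3 = 1},
      ⋃ ρ1 ∈ {z : ℂ | z ^ 3 = 1}, ⋃ ρ2 ∈ {z : ℂ | z ^ 3 = 1},
        {k : ℂ | ρ1 ≠ ρ2 ∧ Qk ζ ζ1 ζ2 ρ1 ρ2 k = 0}).Finite :=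
    hμ.biUnion fun ζ _ => hμ.biUnion fun ζ1 _ => hμ.biUnion fun ζ2 _ =>
      hμ.biUnion fun ρ1 _ => hμ.biUnion fun ρ2 _ => piece_finite ζ ζ1 ζ2 ρ1 ρ2
  apply Set.Finite.subset ((Set.finite_singleton (0:ℂ)).union (hμ.union hU))
  intro k hk
  rcases hk with h | h | ⟨ζ, ζ1, ζ2, ρ1, ρ2, h1, h2, h3, h4, h5, h6, h7⟩
  · exact Or.inl h
  · exact Or.inr (Or.inl h)
  · refine Or.inr (Or.inr ?_)
    simp only [Set.mem_iUnion, Set.mem_setOf_eq, exists_prop]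
    exact ⟨ζ, h1, ζ1, h2, ζ2, h3, ρ1, h4, ρ2, h5, h6, h7⟩

/-! ### the triangle `x₀x₁x₂ = 0` is preserved for generic `k` -/

lemma P_preserved {o o2 : ℂ} (hΩ : Omega o o2) (k : ℂ) (hbad : k ∉ Bad)
    (A : Matrix (Fin 3) (Fin 3) ℂ) (hA : IsUnit A.det) (c : ℂ)
    (hAut : ∀ x, hesse k (A.mulVec x) = c * hesse k x) :
    ∃ q : ℂ, ∀ x, Pf (A.mulVec x) = q * Pf x := by
  have hk : k ^ 3 ≠ 1 := fun h => hbad (Or.inr (Or.inl h))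
  have s1 : Sf ![1, 0, 0] = 1 := by simp [Sf]
  have p1 : Pf ![1, 0, 0] = 0 := by simp [Pf]
  have s2 : Sf ![1, 1, 1] = 3 := by simp [Sf]; norm_num
  have p2 : Pf ![1, 1, 1] = 1 := by simp [Pf]
  have hc0 : c ≠ 0 := by
    intro h0
    have := hAut (A⁻¹.mulVec ![1, 0, 0])
    rw [inv_mulVec_cancel A hA, h0, zero_mul, hesse_eq, s1, p1] at this
    norm_num at this
  obtain ⟨a, b, hS⟩ := aut_pencil hΩ k hk A hA c hAut cS thru_cS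
  obtain ⟨p, q, hP⟩ := aut_pencil hΩ k hk A hA c hAut cP thru_cP
  simp only [cub_cS, cub_cP] at hS hP
  have R1 : a - 3 * k * p = c := by
    have h1 := hAut ![1, 0, 0]
    rw [hesse_eq, hesse_eq, hS, hP, s1, p1] at h1
    linear_combination h1
  have R2 : b - 3 * k * q = -3 * k * c := by
    have h2 := hAut ![1, 1, 1]
    rw [hesse_eq, hesse_eq, hS, hP, s2, p2] at h2
    linear_combination h2 - 3 * R1
  by_cases hp : p = 0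
  · exact ⟨q, fun x => by rw [hP, hp]; ring⟩
  exfalso
  have hP' : ∀ x : V3, p * Sf x + q * Pf x
      = (A.mulVec x) 0 * (A.mulVec x) 1 * (A.mulVec x) 2 := fun x => by rw [← hP]; rfl
  rcases tri_in_pencil A hA p q hP' with h | ⟨ζ, hζ, hq⟩
  · exact hp h
  have htri : ∀ ζ' : ℂ, ζ' ^ 3 = 1 → (a - 3 * ζ' * p = 0) ∨
      ∃ ρ : ℂ, ρ ^ 3 = 1 ∧ b - 3 * ζ' * q = -3 * ρ * (a - 3 * ζ' * p) := by
    intro ζ' hζ'
    have hζ'0 : ζ' ≠ 0 := by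
      rintro rfl
      norm_num at hζ'
    apply tri_in_pencil (Fz o o2 ζ' * A)
      (by rw [Matrix.det_mul]; exact (Fz_det hΩ ζ' hζ'0).mul hA)
    intro x
    rw [← Matrix.mulVec_mulVec, Fz_prod hΩ ζ' hζ', hS, hP]; ring
  have hN : ∀ ζa ζb : ℂ, ζa ≠ ζb → ¬ (a - 3 * ζa * p = 0 ∧ a - 3 * ζb * p = 0) := by
    rintro ζa ζb hne ⟨h1, h2⟩
    have h3 : p * (ζa - ζb) = 0 := by linear_combination (-1/3:ℂ) * h1 + (1/3:ℂ) * h2
    rcases mul_eq_zero.mp h3 with h | h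
    · exact hp h
    · exact hne (sub_eq_zero.mp h)
  obtain ⟨ζ1, ζ2, hζ1, hζ2, h12, hN1, hN2⟩ : ∃ ζ1 ζ2 : ℂ, ζ1 ^ 3 = 1 ∧ ζ2 ^ 3 = 1 ∧ ζ1 ≠ ζ2 ∧
      a - 3 * ζ1 * p ≠ 0 ∧ a - 3 * ζ2 * p ≠ 0 := by
    by_cases h1 : a - 3 * 1 * p = 0
    · refine ⟨o, o2, hΩ.o3, hΩ.o23, hΩ.o_ne_o2, ?_, ?_⟩
      · intro h; exact hN 1 o (Ne.symm hΩ.o_ne_one) ⟨h1, h⟩
      · intro h; exact hN 1 o2 (Ne.symm hΩ.o2_ne_one) ⟨h1, h⟩
    · by_cases h2 : a - 3 * o * p = 0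
      · refine ⟨1, o2, by norm_num, hΩ.o23, Ne.symm hΩ.o2_ne_one, h1, ?_⟩
        intro h; exact hN o o2 hΩ.o_ne_o2 ⟨h2, h⟩
      · exact ⟨1, o, by norm_num, hΩ.o3, Ne.symm hΩ.o_ne_one, h1, h2⟩
  obtain ⟨ρ1, hρ1, hM1⟩ := (htri ζ1 hζ1).resolve_left hN1
  obtain ⟨ρ2, hρ2, hM2⟩ := (htri ζ2 hζ2).resolve_left hN2
  have E1 : c * (k - ρ1) + 3 * p * (k - ζ1) * (ζ - ρ1) = 0 := by
    linear_combination (-1/3:ℂ) * hM1 + (1/3:ℂ) * R2 + ρ1 * R1 + (k - ζ1) * hq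
  have E2 : c * (k - ρ2) + 3 * p * (k - ζ2) * (ζ - ρ2) = 0 := by
    linear_combination (-1/3:ℂ) * hM2 + (1/3:ℂ) * R2 + ρ2 * R1 + (k - ζ2) * hq
  have hQ : Qk ζ ζ1 ζ2 ρ1 ρ2 k = 0 := by
    have h5 : p * Qk ζ ζ1 ζ2 ρ1 ρ2 k = 0 := by
      unfold Qk
      linear_combination (1/3:ℂ) * (k - ρ2) * E1 - (1/3:ℂ) * (k - ρ1) * E2
    exact (mul_eq_zero.mp h5).resolve_left hp
  by_cases hρ : ρ1 = ρ2
  · subst hρ
    unfold Qk at hQ
    have h6 : (k - ρ1) * ((ζ - ρ1) * (ζ2 - ζ1)) = 0 := by linear_combination hQ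
    have hkρ : k - ρ1 ≠ 0 := by
      intro h
      apply hk
      rw [sub_eq_zero.mp h]; exact hρ1
    rcases mul_eq_zero.mp h6 with h | h
    · exact hkρ h
    rcases mul_eq_zero.mp h with h | h
    · have hζρ : ζ = ρ1 := sub_eq_zero.mp h
      rw [hζρ, sub_self, mul_zero, add_zero] at E1
      rcases mul_eq_zero.mp E1 with h' | h'
      · exact hc0 h'
      · exact hkρ h'
    · exact h12 (sub_eq_zero.mp h).symm
  · exact hbad (Or.inr (Or.inr ⟨ζ, ζ1, ζ2, ρ1, ρ2, hζ, hζ1, hζ2, hρ1, hρ2, hρ, hQ⟩))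

end Groth.Agent.Lib.CubicAut54H1
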