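import Mathlib
import Groth.Agent.Lib.CubicAut54_helper1

set_option autoImplicit false
set_option maxHeartbeats 1000000

namespace Groth.Agent.Lib.CubicAut54H1

open MvPolynomial
open Groth.Agent.Lib.CubicFormH1 Groth.Agent.Lib.CubicHesseH1 Groth.Agent.Lib.CubicAutH1

/-! ### automorphisms preserving the coordinate triangle are monomial -/

lemma lin3_zero (a0 b0 a1 b1 a2 b2 : ℂ)
    (h : ∀ s : ℂ, (a0 + s * b0) * (a1 + s * b1) * (a2 + s * b2) = 0) :
    (a0 = 0 ∧ b0 = 0) ∨ (a1 = 0 ∧ b1 = 0) ∨ (a2 = 0 ∧ b2 = 0) := by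
  have hp : (Polynomial.C a0 + Polynomial.X * Polynomial.C b0)
      * (Polynomial.C a1 + Polynomial.X * Polynomial.C b1)
      * (Polynomial.C a2 + Polynomial.X * Polynomial.C b2) = (0 : Polynomial ℂ) := by
    apply Polynomial.funext
    intro s
    simp only [Polynomial.eval_mul, Polynomial.eval_add, Polynomial.eval_C, Polynomial.eval_X,
      Polynomial.eval_zero]
    exact h s
  have hz : ∀ a b : ℂ, (Polynomial.C a + Polynomial.X * Polynomial.C b : Polynomial ℂ) = 0 →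
      a = 0 ∧ b = 0 := by
    intro a b hab
    have h0 := congrArg (Polynomial.eval 0) hab
    have h1 := congrArg (Polynomial.eval 1) hab
    simp at h0 h1
    refine ⟨h0, ?_⟩
    rw [h0] at h1
    simpa using h1
  rcases mul_eq_zero.mp hp with h1 | h1
  · rcases mul_eq_zero.mp h1 with h2 | h2
    · exact Or.inl (hz _ _ h2)
    · exact Or.inr (Or.inl (hz _ _ h2))
  · exact Or.inr (Or.inr (hz _ _ h1))

lemma row_supp (A : Matrix (Fin 3) (Fin 3) ℂ) (q : ℂ)
    (h : ∀ x : V3, Pf (A.mulVec x) = q * Pf x) :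
    (∃ r, A r 1 = 0 ∧ A r 2 = 0) ∧ (∃ r, A r 0 = 0 ∧ A r 2 = 0) ∧
      (∃ r, A r 0 = 0 ∧ A r 1 = 0) := by
  refine ⟨?_, ?_, ?_⟩
  · have := lin3_zero (A 0 1) (A 0 2) (A 1 1) (A 1 2) (A 2 1) (A 2 2) (fun s => by
      have h1 := h ![0, 1, s]
      rw [mulVec3] at h1
      simp only [Pf, vec3_0, vec3_1, vec3_2] at h1
      linear_combination h1)
    rcases this with h1 | h1 | h1
    exacts [⟨0, h1⟩, ⟨1, h1⟩, ⟨2, h1⟩]
  · have := lin3_zero (A 0 0) (A 0 2) (A 1 0) (A 1 2) (A 2 0) (A 2 2) (fun s => by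
      have h1 := h ![1, 0, s]
      rw [mulVec3] at h1
      simp only [Pf, vec3_0, vec3_1, vec3_2] at h1
      linear_combination h1)
    rcases this with h1 | h1 | h1
    exacts [⟨0, h1⟩, ⟨1, h1⟩, ⟨2, h1⟩]
  · have := lin3_zero (A 0 0) (A 0 1) (A 1 0) (A 1 1) (A 2 0) (A 2 1) (fun s => by
      have h1 := h ![1, s, 0]
      rw [mulVec3] at h1
      simp only [Pf, vec3_0, vec3_1, vec3_2] at h1
      linear_combination h1)
    rcases this with h1 | h1 | h1
    exacts [⟨0, h1⟩, ⟨1, h1⟩, ⟨2, h1⟩]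

lemma perm_entry (π : Equiv.Perm (Fin 3)) (r j : Fin 3) :
    (π.permMatrix ℂ) r j = if π r = j then 1 else 0 := by
  unfold Equiv.Perm.permMatrix
  rw [PEquiv.toMatrix_apply, Equiv.toPEquiv_apply]
  by_cases h : π r = j
  · subst h; simp
  · have hmem : j ∉ some (π r) := by simp [h]
    rw [if_neg hmem, if_neg h]

lemma monomial_of_P (A : Matrix (Fin 3) (Fin 3) ℂ) (hA : IsUnit A.det) (q : ℂ)
    (h : ∀ x : V3, Pf (A.mulVec x) = q * Pf x) :
    ∃ (π : Equiv.Perm (Fin 3)) (d : Fin 3 → ℂ), A = Matrix.diagonal d * π.permMatrix ℂ := by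
  obtain ⟨⟨r0, h01, h02⟩, ⟨r1, h10, h12⟩, ⟨r2, h20, h21⟩⟩ := row_supp A q h
  have hdet : A.det ≠ 0 := hA.ne_zero
  have zero_row : ∀ r, A r 0 = 0 → A r 1 = 0 → A r 2 = 0 → False := by
    intro r e0 e1 e2
    apply hdet
    apply Matrix.det_eq_zero_of_row_eq_zero r
    intro j
    fin_cases j
    · exact e0
    · exact e1
    · exact e2
  have n01 : r0 ≠ r1 := fun e => zero_row r1 h10 (e ▸ h01) (e ▸ h02)
  have n02 : r0 ≠ r2 := fun e => zero_row r2 h20 h21 (e ▸ h02)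
  have n12 : r1 ≠ r2 := fun e => zero_row r2 h20 h21 (e ▸ h12)
  have hinj : Function.Injective (![r0, r1, r2] : Fin 3 → Fin 3) :=
    Groth.Agent.Lib.CubicSurfH1.inj3 (![r0, r1, r2] : Fin 3 → Fin 3) n01 n02 n12
  have hbij : Function.Bijective (![r0, r1, r2] : Fin 3 → Fin 3) :=
    Finite.injective_iff_bijective.mp hinj
  obtain ⟨σ, hσ⟩ : ∃ σ : Equiv.Perm (Fin 3), ∀ j, σ j = (![r0, r1, r2] : Fin 3 → Fin 3) j :=
    ⟨Equiv.ofBijective _ hbij, fun j => rfl⟩
  have hsupp0 : ∀ j j' : Fin 3, j' ≠ j → A ((![r0, r1, r2] : Fin 3 → Fin 3) j) j' = 0 := by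
    intro j j' hne
    fin_cases j <;> fin_cases j' <;>
      first
      | exact absurd rfl hne
      | exact h01 | exact h02 | exact h10 | exact h12 | exact h20 | exact h21
  have hsupp : ∀ r j', j' ≠ σ.symm r → A r j' = 0 := by
    intro r j' hne
    have := hsupp0 (σ.symm r) j' hne
    rwa [← hσ, Equiv.apply_symm_apply] at this
  refine ⟨σ.symm, fun r => A r (σ.symm r), ?_⟩
  ext r j
  rw [Matrix.diagonal_mul, perm_entry]
  by_cases hj : σ.symm r = j
  · rw [if_pos hj, mul_one, hj]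
  · rw [if_neg hj, mul_zero]
    exact hsupp r j (Ne.symm hj)

lemma mono_mulVec (π : Equiv.Perm (Fin 3)) (d : Fin 3 → ℂ) (x : V3) (r : Fin 3) :
    ((Matrix.diagonal d * π.permMatrix ℂ).mulVec x) r = d r * x (π r) := by
  rw [← Matrix.mulVec_mulVec, Matrix.mulVec_diagonal, Matrix.permMatrix_mulVec]; rfl

lemma hesse_single (k a : ℂ) (r : Fin 3) : hesse k (Pi.single r a) = a ^ 3 := by
  fin_cases r <;> simp [hesse, Pi.single_apply]

lemma mono_data (k : ℂ) (hk0 : k ≠ 0) (π : Equiv.Perm (Fin 3)) (d : Fin 3 → ℂ) (c : ℂ)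
    (hAut : ∀ x, hesse k ((Matrix.diagonal d * π.permMatrix ℂ).mulVec x) = c * hesse k x) :
    (∀ r, d r ^ 3 = c) ∧ d 0 * d 1 * d 2 = c := by
  have hd : ∀ r, d r ^ 3 = c := by
    intro r
    have h1 := hAut (Pi.single (π r) 1)
    have e : (Matrix.diagonal d * π.permMatrix ℂ).mulVec (Pi.single (π r) 1)
        = Pi.single r (d r) := by
      ext r'
      rw [mono_mulVec, Pi.single_apply, Pi.single_apply]
      by_cases h : r' = r
      · subst h; simp
      · have : π r' ≠ π r := fun h' => h (π.injective h')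
        simp [h, this]
    rw [e, hesse_single, hesse_single] at h1
    simpa using h1
  refine ⟨hd, ?_⟩
  have h2 := hAut (fun _ => 1)
  have e : (Matrix.diagonal d * π.permMatrix ℂ).mulVec (fun _ => 1) = d := by
    ext r; rw [mono_mulVec, mul_one]
  rw [e] at h2
  simp only [hesse] at h2
  have h3 : k * (d 0 * d 1 * d 2 - c) = 0 := by
    linear_combination (-1/3:ℂ) * h2 + (1/3:ℂ) * hd 0 + (1/3:ℂ) * hd 1 + (1/3:ℂ) * hd 2
  exact sub_eq_zero.mp ((mul_eq_zero.mp h3).resolve_left hk0)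

/-- the sign of a permutation as a complex number -/
noncomputable def sg (π : Equiv.Perm (Fin 3)) : ℂ := ((Equiv.Perm.sign π : ℤˣ) : ℤ)

lemma sg_sq (π : Equiv.Perm (Fin 3)) : sg π * sg π = 1 := by
  unfold sg
  rcases Int.units_eq_one_or (Equiv.Perm.sign π) with h | h <;> rw [h] <;> simp

lemma sg_ne_zero (π : Equiv.Perm (Fin 3)) : sg π ≠ 0 := fun h => by
  have := sg_sq π
  rw [h, zero_mul] at this
  exact zero_ne_one this

lemma mono_det (π : Equiv.Perm (Fin 3)) (d : Fin 3 → ℂ) :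
    (Matrix.diagonal d * π.permMatrix ℂ).det = d 0 * d 1 * d 2 * sg π := by
  rw [Matrix.det_mul, Matrix.det_diagonal, Matrix.det_permutation, Fin.prod_univ_three]; rfl

/-! ### the 54 matrices -/

noncomputable def dvec (o s : ℂ) (a b : Fin 3) : Fin 3 → ℂ :=
  ![s * o ^ (a : ℕ), s * o ^ (b : ℕ), s * o ^ (6 - (a : ℕ) - (b : ℕ))]

lemma dvec_0 (o s : ℂ) (a b : Fin 3) : dvec o s a b 0 = s * o ^ (a : ℕ) := rfl
lemma dvec_1 (o s : ℂ) (a b : Fin 3) : dvec o s a b 1 = s * o ^ (b : ℕ) := rfl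
lemma dvec_2 (o s : ℂ) (a b : Fin 3) : dvec o s a b 2 = s * o ^ (6 - (a : ℕ) - (b : ℕ)) := rfl

noncomputable def Mat (o : ℂ) (t : Equiv.Perm (Fin 3) × Fin 3 × Fin 3) :
    Matrix (Fin 3) (Fin 3) ℂ :=
  Matrix.diagonal (dvec o (sg t.1) t.2.1 t.2.2) * t.1.permMatrix ℂ

section
variable {o o2 : ℂ} (hΩ : Omega o o2)
include hΩ

lemma opow_cube (n : ℕ) : (o ^ n) ^ 3 = 1 := by
  rw [← pow_mul, mul_comm, pow_mul, hΩ.o3, one_pow]

lemma opow_six (a b : Fin 3) :
    o ^ (a : ℕ) * o ^ (b : ℕ) * o ^ (6 - (a : ℕ) - (b : ℕ)) = 1 := by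
  have e : (a : ℕ) + (b : ℕ) + (6 - (a : ℕ) - (b : ℕ)) = 6 := by
    have := a.isLt; have := b.isLt; omega
  rw [← pow_add, ← pow_add, e]
  have : o ^ 6 = (o ^ 3) ^ 2 := by ring
  rw [this, hΩ.o3, one_pow]

lemma dvec_cube (s : ℂ) (hs : s * s = 1) (a b : Fin 3) (r : Fin 3) :
    dvec o s a b r ^ 3 = s := by
  have hs3 : s ^ 3 = s := by linear_combination s * hs
  fin_cases r
  · show dvec o s a b 0 ^ 3 = s
    rw [dvec_0, mul_pow, opow_cube hΩ, hs3, mul_one]
  · show dvec o s a b 1 ^ 3 = s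
    rw [dvec_1, mul_pow, opow_cube hΩ, hs3, mul_one]
  · show dvec o s a b 2 ^ 3 = s
    rw [dvec_2, mul_pow, opow_cube hΩ, hs3, mul_one]

lemma dvec_prod (s : ℂ) (hs : s * s = 1) (a b : Fin 3) :
    dvec o s a b 0 * dvec o s a b 1 * dvec o s a b 2 = s := by
  rw [dvec_0, dvec_1, dvec_2]
  have h6 := opow_six hΩ a b
  have hs3 : s ^ 3 = s := by linear_combination s * hs
  calc s * o ^ (a : ℕ) * (s * o ^ (b : ℕ)) * (s * o ^ (6 - (a : ℕ) - (b : ℕ)))
      = s ^ 3 * (o ^ (a : ℕ) * o ^ (b : ℕ) * o ^ (6 - (a : ℕ) - (b : ℕ))) := by ring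
    _ = s := by rw [h6, hs3, mul_one]

lemma dvec_ne_zero (s : ℂ) (hs : s * s = 1) (a b : Fin 3) (r : Fin 3) : dvec o s a b r ≠ 0 := by
  intro h
  have h3 := dvec_cube hΩ s hs a b r
  rw [h] at h3
  have hs0 : s = 0 := by rw [← h3]; ring
  rw [hs0, zero_mul] at hs
  exact zero_ne_one hs

lemma opow_inj (a a' : Fin 3) (h : o ^ (a : ℕ) = o ^ (a' : ℕ)) : a = a' := by
  have h1 := hΩ.o_ne_one
  have h2 : o ^ 2 ≠ 1 := by rw [pow_two, hΩ.w2]; exact hΩ.o2_ne_one
  have h3 : o ^ 2 ≠ o := by rw [pow_two, hΩ.w2]; exact Ne.symm hΩ.o_ne_o2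
  have key : ∀ m n : ℕ, m < 3 → n < 3 → o ^ m = o ^ n → m = n := by
    intro m n hm hn h
    interval_cases m <;> interval_cases n <;>
      first
      | rfl
      | (exfalso
         simp only [pow_zero, pow_one] at h
         first
         | exact h1 h | exact h1 h.symm | exact h2 h | exact h2 h.symm
         | exact h3 h | exact h3 h.symm)
  exact Fin.ext (key a a' a.isLt a'.isLt h)

lemma mat_aut (k : ℂ) (t : Equiv.Perm (Fin 3) × Fin 3 × Fin 3) :
    (Mat o t).det = 1 ∧ ∀ x, hesse k ((Mat o t).mulVec x) = sg t.1 * hesse k x := by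
  obtain ⟨π, a, b⟩ := t
  have hs := sg_sq π
  constructor
  · show (Matrix.diagonal (dvec o (sg π) a b) * π.permMatrix ℂ).det = 1
    rw [mono_det, dvec_prod hΩ _ hs]; exact hs
  · intro x
    show hesse k ((Matrix.diagonal (dvec o (sg π) a b) * π.permMatrix ℂ).mulVec x)
      = sg π * hesse k x
    have e : ∀ r, ((Matrix.diagonal (dvec o (sg π) a b) * π.permMatrix ℂ).mulVec x) r
        = dvec o (sg π) a b r * x (π r) := mono_mulVec π _ x
    simp only [hesse, e]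
    have c0 := dvec_cube hΩ _ hs a b 0
    have c1 := dvec_cube hΩ _ hs a b 1
    have c2 := dvec_cube hΩ _ hs a b 2
    have pr := dvec_prod hΩ _ hs a b
    have hsum : x (π 0) ^ 3 + x (π 1) ^ 3 + x (π 2) ^ 3 = x 0 ^ 3 + x 1 ^ 3 + x 2 ^ 3 := by
      have := Equiv.sum_comp π (fun j => x j ^ 3)
      simpa [Fin.sum_univ_three] using this
    have hprod : x (π 0) * x (π 1) * x (π 2) = x 0 * x 1 * x 2 := by
      have := Equiv.prod_comp π x
      simpa [Fin.prod_univ_three] using this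
    linear_combination (x (π 0) ^ 3) * c0 + (x (π 1) ^ 3) * c1 + (x (π 2) ^ 3) * c2
      - 3 * k * (x (π 0) * x (π 1) * x (π 2)) * pr + sg π * hsum - 3 * k * sg π * hprod

lemma mat_entry (π : Equiv.Perm (Fin 3)) (a b r j : Fin 3) :
    Mat o (π, a, b) r j = if π r = j then dvec o (sg π) a b r else 0 := by
  show (Matrix.diagonal (dvec o (sg π) a b) * π.permMatrix ℂ) r j = _
  rw [Matrix.diagonal_mul, perm_entry]
  by_cases h : π r = j
  · rw [if_pos h, if_pos h, mul_one]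
  · rw [if_neg h, if_neg h, mul_zero]

lemma mat_inj : Function.Injective (Mat o) := by
  rintro ⟨π, a, b⟩ ⟨π', a', b'⟩ h
  have hπ : π = π' := by
    apply Equiv.ext
    intro r
    have h1 := congrFun (congrFun h r) (π r)
    rw [mat_entry hΩ, mat_entry hΩ, if_pos rfl] at h1
    by_contra hne
    rw [if_neg (fun e => hne e.symm)] at h1
    exact dvec_ne_zero hΩ _ (sg_sq π) a b r h1
  subst hπ
  have hs0 := sg_ne_zero π
  have hd : ∀ r, dvec o (sg π) a b r = dvec o (sg π) a' b' r := by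
    intro r
    have h1 := congrFun (congrFun h r) (π r)
    rw [mat_entry hΩ, mat_entry hΩ, if_pos rfl, if_pos rfl] at h1
    exact h1
  have ha : a = a' := by
    have := hd 0
    rw [dvec_0, dvec_0] at this
    exact opow_inj hΩ a a' (mul_left_cancel₀ hs0 this)
  have hb : b = b' := by
    have := hd 1
    rw [dvec_1, dvec_1] at this
    exact opow_inj hΩ b b' (mul_left_cancel₀ hs0 this)
  rw [ha, hb]

lemma classify (k : ℂ) (hbad : k ∉ Bad) (A : Matrix (Fin 3) (Fin 3) ℂ) (hdet : A.det = 1)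
    (c : ℂ) (hAut : ∀ x, hesse k (A.mulVec x) = c * hesse k x) : ∃ t, Mat o t = A := by
  have hk0 : k ≠ 0 := fun h => hbad (Or.inl h)
  have hA : IsUnit A.det := by rw [hdet]; exact isUnit_one
  obtain ⟨q, hq⟩ := P_preserved hΩ k hbad A hA c hAut
  obtain ⟨π, d, rfl⟩ := monomial_of_P A hA q hq
  obtain ⟨hd3, hdp⟩ := mono_data k hk0 π d c hAut
  rw [mono_det, hdp] at hdet
  have hs := sg_sq π
  have hc : c = sg π := by linear_combination (sg π) * hdet - c * hs
  have hζ : ∀ r, (sg π * d r) ^ 3 = 1 := by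
    intro r
    rw [mul_pow, hd3 r, hc]
    linear_combination (sg π * sg π + 1) * hs
  obtain ⟨a, ha⟩ := hΩ.exists_fin_pow _ (hζ 0)
  obtain ⟨b, hb⟩ := hΩ.exists_fin_pow _ (hζ 1)
  refine ⟨(π, a, b), ?_⟩
  show Matrix.diagonal (dvec o (sg π) a b) * π.permMatrix ℂ
    = Matrix.diagonal d * π.permMatrix ℂ
  have hd0 : d 0 = sg π * o ^ (a : ℕ) := by
    rw [← ha]; linear_combination (-(d 0)) * hs
  have hd1 : d 1 = sg π * o ^ (b : ℕ) := by
    rw [← hb]; linear_combination (-(d 1)) * hs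
  have hd2 : d 2 = sg π * o ^ (6 - (a : ℕ) - (b : ℕ)) := by
    have e1 : o ^ (a : ℕ) * o ^ (b : ℕ) * d 2 = sg π := by
      have h5 := hdp
      rw [hd0, hd1, hc] at h5
      linear_combination h5 - (o ^ (a : ℕ) * o ^ (b : ℕ) * d 2) * hs
    calc d 2 = (o ^ (a : ℕ) * o ^ (b : ℕ) * o ^ (6 - (a : ℕ) - (b : ℕ))) * d 2 := by
          rw [opow_six hΩ, one_mul]
      _ = (o ^ (a : ℕ) * o ^ (b : ℕ) * d 2) * o ^ (6 - (a : ℕ) - (b : ℕ)) := by ring
      _ = sg π * o ^ (6 - (a : ℕ) - (b : ℕ)) := by rw [e1]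
  have hdd : dvec o (sg π) a b = d := by
    funext r
    fin_cases r
    · exact hd0.symm
    · exact hd1.symm
    · exact hd2.symm
  rw [hdd]

end

lemma aut_iff (k : ℂ) (A : Matrix (Fin 3) (Fin 3) ℂ) (c : ℂ) :
    aeval (fun i : Fin 3 => ∑ j : Fin 3, C (A i j) * X j) (HesseCubic.form k)
        = C c * HesseCubic.form k
      ↔ ∀ x, hesse k (A.mulVec x) = c * hesse k x := by
  have e : ∀ y : V3, eval y (HesseCubic.form k) = hesse k y :=
    fun y => Groth.Agent.S18404.eval_form k y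
  constructor
  · intro h x
    have := congrArg (eval x) h
    rwa [eval_subst, map_mul, eval_C, e, e] at this
  · intro h
    apply MvPolynomial.funext
    intro x
    rw [eval_subst, map_mul, eval_C, e, e, h]

theorem main18412 :
    ∃ T : Finset ℂ, ∀ k : ℂ, k ∉ T →
      Nat.card {A : Matrix (Fin 3) (Fin 3) ℂ // A.det = 1 ∧
        ∃ c : ℂ, aeval (fun i : Fin 3 => ∑ j : Fin 3, C (A i j) * X j) (HesseCubic.form k) =
          C c * HesseCubic.form k} = 54 := by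
  obtain ⟨o, o2, hΩ⟩ := exists_omega
  refine ⟨bad_finite.toFinset, fun k hk => ?_⟩
  have hbad : k ∉ Bad := fun h => hk (bad_finite.mem_toFinset.mpr h)
  let Φ : (Equiv.Perm (Fin 3) × Fin 3 × Fin 3) →
      {A : Matrix (Fin 3) (Fin 3) ℂ // A.det = 1 ∧
        ∃ c : ℂ, aeval (fun i : Fin 3 => ∑ j : Fin 3, C (A i j) * X j) (HesseCubic.form k) =
          C c * HesseCubic.form k} :=
    fun t => ⟨Mat o t, (mat_aut hΩ k t).1, sg t.1, (aut_iff k _ _).mpr (mat_aut hΩ k t).2⟩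
  have hΦ : Function.Bijective Φ := by
    constructor
    · intro t t' h
      exact mat_inj hΩ (congrArg Subtype.val h)
    · rintro ⟨A, hdet, c, hc⟩
      obtain ⟨t, ht⟩ := classify hΩ k hbad A hdet c ((aut_iff k A c).mp hc)
      exact ⟨t, Subtype.ext ht⟩
  rw [← Nat.card_congr (Equiv.ofBijective Φ hΦ), Nat.card_eq_fintype_card,
    Fintype.card_prod, Fintype.card_prod, Fintype.card_perm, Fintype.card_fin]
  rfl

end Groth.Agent.Lib.CubicAut54H1
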