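import Mathlib

set_option autoImplicit false
set_option maxHeartbeats 1000000

namespace Groth.Agent.Lib.CubicSurfKH1

open MvPolynomial

/-- the ambient vector space -/
abbrev V4 (𝕜 : Type*) := Fin 4 → 𝕜

variable {𝕜 : Type*} [Field 𝕜] [IsAlgClosed 𝕜] [CharZero 𝕜]

/-- vector identities with explicit scalar coefficients -/
macro "vec_ring" : tactic =>
  `(tactic| first
    | module
    | (ext i; simp only [Pi.add_apply, Pi.sub_apply, Pi.smul_apply, Pi.neg_apply, Pi.zero_apply,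
        smul_eq_mul]; ring))

/-! ### substitution -/

lemma eval_subst4 (A : Matrix (Fin 4) (Fin 4) 𝕜) (f : MvPolynomial (Fin 4) 𝕜) (x : (V4 𝕜)) :
    eval x (aeval (fun i : Fin 4 => ∑ j : Fin 4, C (A i j) * X j) f) = eval (A.mulVec x) f := by
  have h : ((eval x).comp
      (aeval (R := 𝕜) (fun i : Fin 4 => ∑ j : Fin 4, C (A i j) * X j)).toRingHom)
      = eval (A.mulVec x) := by
    apply MvPolynomial.ringHom_ext
    · intro a; simp
    · intro i; simp [Matrix.mulVec, dotProduct]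
  have := RingHom.congr_fun h f
  simpa only [RingHom.comp_apply, AlgHom.toRingHom_eq_coe, RingHom.coe_coe] using this

/-! ### polarization of a cubic -/

/-- the polarization of a cubic form -/
noncomputable def Pol (f : MvPolynomial (Fin 4) 𝕜) (x y z : (V4 𝕜)) : 𝕜 :=
  (1/6) * (eval (x + y + z) f - eval (x + y) f - eval (x + z) f - eval (y + z) f
    + eval x f + eval y f + eval z f)

lemma Pol_symm12 (f : MvPolynomial (Fin 4) 𝕜) (x y z : (V4 𝕜)) : Pol f x y z = Pol f y x z := by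
  unfold Pol
  rw [add_comm x y]
  ring

lemma Pol_symm23 (f : MvPolynomial (Fin 4) 𝕜) (x y z : (V4 𝕜)) : Pol f x y z = Pol f x z y := by
  unfold Pol
  rw [add_right_comm x y z, add_comm y z]
  ring

lemma Pol_add_poly (f g : MvPolynomial (Fin 4) 𝕜) (x y z : (V4 𝕜)) :
    Pol (f + g) x y z = Pol f x y z + Pol g x y z := by
  unfold Pol; simp only [map_add]; ring

lemma Pol_C_mul (c : 𝕜) (f : MvPolynomial (Fin 4) 𝕜) (x y z : (V4 𝕜)) :
    Pol (C c * f) x y z = c * Pol f x y z := by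
  unfold Pol; simp only [map_mul, eval_C]; ring

lemma Pol_zero (x y z : (V4 𝕜)) : Pol 0 x y z = 0 := by
  unfold Pol; simp

/-- the polarization is trilinear with the right diagonal and derivative -/
structure Good (f : MvPolynomial (Fin 4) 𝕜) : Prop where
  add : ∀ x x' y z : (V4 𝕜), Pol f (x + x') y z = Pol f x y z + Pol f x' y z
  smul : ∀ (a : 𝕜) (x y z : (V4 𝕜)), Pol f (a • x) y z = a * Pol f x y z
  diag : ∀ x : (V4 𝕜), Pol f x x x = eval x f
  deriv : ∀ (i : Fin 4) (x : (V4 𝕜)), eval x (pderiv i f) = 3 * Pol f x x (Pi.single i 1)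

lemma Good.add' {f g : MvPolynomial (Fin 4) 𝕜} (hf : Good f) (hg : Good g) : Good (f + g) where
  add x x' y z := by rw [Pol_add_poly, Pol_add_poly, Pol_add_poly, hf.add, hg.add]; ring
  smul a x y z := by rw [Pol_add_poly, Pol_add_poly, hf.smul, hg.smul]; ring
  diag x := by rw [Pol_add_poly, hf.diag, hg.diag, map_add]
  deriv i x := by simp only [map_add, hf.deriv, hg.deriv, Pol_add_poly]; ring

lemma Good.C_mul {f : MvPolynomial (Fin 4) 𝕜} (c : 𝕜) (hf : Good f) : Good (C c * f) where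
  add x x' y z := by rw [Pol_C_mul, Pol_C_mul, Pol_C_mul, hf.add]; ring
  smul a x y z := by rw [Pol_C_mul, Pol_C_mul, hf.smul]; ring
  diag x := by rw [Pol_C_mul, hf.diag, map_mul, eval_C]
  deriv i x := by
    have h : pderiv i (C c * f) = C c * pderiv i f := by
      rw [Derivation.leibniz, pderiv_C, smul_zero, add_zero, smul_eq_mul]
    rw [h, map_mul, eval_C, hf.deriv, Pol_C_mul]; ring

lemma Good.zero : Good (0 : MvPolynomial (Fin 4) 𝕜) where
  add x x' y z := by simp [Pol_zero]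
  smul a x y z := by simp [Pol_zero]
  diag x := by simp [Pol_zero]
  deriv i x := by simp [Pol_zero]

lemma good_XXX (i j k : Fin 4) : Good (X i * X j * X k : MvPolynomial (Fin 4) 𝕜) where
  add x x' y z := by simp only [Pol, map_mul, eval_X, Pi.add_apply]; ring
  smul a x y z := by
    simp only [Pol, map_mul, eval_X, Pi.add_apply, Pi.smul_apply, smul_eq_mul]; ring
  diag x := by simp only [Pol, map_mul, eval_X, Pi.add_apply]; ring
  deriv l x := by
    simp only [Pol, Derivation.leibniz, pderiv_X, Pi.single_apply, smul_eq_mul, map_add, map_mul,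
      eval_X, Pi.add_apply]
    split_ifs <;> simp only [map_one, map_zero] <;> ring

lemma good_sum {ι : Type*} (s : Finset ι) (g : ι → MvPolynomial (Fin 4) 𝕜)
    (h : ∀ i ∈ s, Good (g i)) : Good (∑ i ∈ s, g i) := by
  classical
  induction s using Finset.induction_on with
  | empty => simpa using Good.zero
  | insert a s ha ih =>
    rw [Finset.sum_insert ha]
    exact (h a (Finset.mem_insert_self a s)).add'
      (ih (fun i hi => h i (Finset.mem_insert_of_mem hi)))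

lemma peel (d : Fin 4 →₀ ℕ) (n : ℕ) (h : d.degree = n + 1) :
    ∃ i d', d = d' + Finsupp.single i 1 ∧ d'.degree = n := by
  have hne : d ≠ 0 := by
    rintro rfl
    simp at h
  obtain ⟨i, hi⟩ : ∃ i, d i ≠ 0 := by
    by_contra hcon
    push Not at hcon
    exact hne (Finsupp.ext hcon)
  have h1 : d = (d - Finsupp.single i 1) + Finsupp.single i 1 := by
    ext j
    by_cases hj : j = i
    · subst hj
      simp only [Finsupp.add_apply, Finsupp.tsub_apply, Finsupp.single_eq_same]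
      omega
    · simp [Finsupp.tsub_apply, Finsupp.single_apply, hj, Ne.symm hj]
  refine ⟨i, d - Finsupp.single i 1, h1, ?_⟩
  have h2 := congrArg Finsupp.degree h1
  rw [map_add, Finsupp.degree_single, h] at h2
  omega

lemma deg3 (d : Fin 4 →₀ ℕ) (h : d.degree = 3) :
    ∃ i j k, d = Finsupp.single i 1 + Finsupp.single j 1 + Finsupp.single k 1 := by
  obtain ⟨i, d1, h1, hd1⟩ := peel d 2 h
  obtain ⟨j, d2, h2, hd2⟩ := peel d1 1 hd1
  obtain ⟨k, d3, h3, hd3⟩ := peel d2 0 hd2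
  have h0 : d3 = 0 := (Finsupp.degree_eq_zero_iff d3).mp hd3
  refine ⟨k, j, i, ?_⟩
  rw [h1, h2, h3, h0, zero_add]

lemma monomial_eq (i j k : Fin 4) (c : 𝕜) :
    monomial (Finsupp.single i 1 + Finsupp.single j 1 + Finsupp.single k 1) c
      = C c * (X i * X j * X k) := by
  simp only [X, C_apply, monomial_mul, zero_add, one_mul, mul_one]

lemma good_of_homogeneous (f : MvPolynomial (Fin 4) 𝕜) (hf : f.IsHomogeneous 3) : Good f := by
  classical
  suffices h : Good (∑ v ∈ f.support, monomial v (coeff v f)) by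
    rwa [support_sum_monomial_coeff] at h
  apply good_sum
  intro d hd
  have hdeg : d.degree = 3 := by
    by_contra hne
    exact (mem_support_iff.mp hd) (hf.coeff_eq_zero hne)
  obtain ⟨i, j, k, rfl⟩ := deg3 d hdeg
  rw [monomial_eq]
  exact (good_XXX i j k).C_mul _

/-! ### abstract symmetric trilinear forms -/

/-- symmetric trilinear forms (with the polarization identity) -/
structure Tri (F : (V4 𝕜) → (V4 𝕜) → (V4 𝕜) → 𝕜) : Prop where
  add₁ : ∀ x x' y z : (V4 𝕜), F (x + x') y z = F x y z + F x' y z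
  smul₁ : ∀ (a : 𝕜) (x y z : (V4 𝕜)), F (a • x) y z = a * F x y z
  symm12 : ∀ x y z : (V4 𝕜), F x y z = F y x z
  symm23 : ∀ x y z : (V4 𝕜), F x y z = F x z y
  polar : ∀ x y z : (V4 𝕜), F x y z = (1/6) * (F (x + y + z) (x + y + z) (x + y + z)
    - F (x + y) (x + y) (x + y) - F (x + z) (x + z) (x + z) - F (y + z) (y + z) (y + z)
    + F x x x + F y y y + F z z z)

lemma tri_Pol {f : MvPolynomial (Fin 4) 𝕜} (hG : Good f) : Tri (Pol f) where
  add₁ := hG.add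
  smul₁ := hG.smul
  symm12 := Pol_symm12 f
  symm23 := Pol_symm23 f
  polar x y z := by
    simp only [hG.diag]
    rfl

namespace Tri

variable {F : (V4 𝕜) → (V4 𝕜) → (V4 𝕜) → 𝕜}

lemma add₂ (h : Tri F) (x y y' z : (V4 𝕜)) : F x (y + y') z = F x y z + F x y' z := by
  rw [h.symm12 x (y + y') z, h.add₁, h.symm12 y x z, h.symm12 y' x z]

lemma add₃ (h : Tri F) (x y z z' : (V4 𝕜)) : F x y (z + z') = F x y z + F x y z' := by
  rw [h.symm23 x y (z + z'), h.add₂, h.symm23 x z y, h.symm23 x z' y]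

lemma smul₂ (h : Tri F) (a : 𝕜) (x y z : (V4 𝕜)) : F x (a • y) z = a * F x y z := by
  rw [h.symm12 x (a • y) z, h.smul₁, h.symm12 y x z]

lemma smul₃ (h : Tri F) (a : 𝕜) (x y z : (V4 𝕜)) : F x y (a • z) = a * F x y z := by
  rw [h.symm23 x y (a • z), h.smul₂, h.symm23 x z y]

lemma symm13 (h : Tri F) (x y z : (V4 𝕜)) : F x y z = F z y x := by
  rw [h.symm12 x y z, h.symm23 y x z, h.symm12 y z x]

lemma zero₁ (h : Tri F) (y z : (V4 𝕜)) : F 0 y z = 0 := by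
  have := h.smul₁ 0 0 y z
  rwa [zero_smul, zero_mul] at this

lemma zero₂ (h : Tri F) (x z : (V4 𝕜)) : F x 0 z = 0 := by
  have := h.smul₂ 0 x 0 z
  rwa [zero_smul, zero_mul] at this

lemma zero₃ (h : Tri F) (x y : (V4 𝕜)) : F x y 0 = 0 := by
  have := h.smul₃ 0 x y 0
  rwa [zero_smul, zero_mul] at this

lemma neg₁ (h : Tri F) (x y z : (V4 𝕜)) : F (-x) y z = -F x y z := by
  have := h.smul₁ (-1) x y z
  rwa [neg_one_smul, neg_one_mul] at this

lemma neg₂ (h : Tri F) (x y z : (V4 𝕜)) : F x (-y) z = -F x y z := by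
  have := h.smul₂ (-1) x y z
  rwa [neg_one_smul, neg_one_mul] at this

lemma neg₃ (h : Tri F) (x y z : (V4 𝕜)) : F x y (-z) = -F x y z := by
  have := h.smul₃ (-1) x y z
  rwa [neg_one_smul, neg_one_mul] at this

lemma sub₁ (h : Tri F) (x x' y z : (V4 𝕜)) : F (x - x') y z = F x y z - F x' y z := by
  rw [sub_eq_add_neg, h.add₁, h.neg₁, sub_eq_add_neg]

lemma sub₂ (h : Tri F) (x y y' z : (V4 𝕜)) : F x (y - y') z = F x y z - F x y' z := by
  rw [sub_eq_add_neg, h.add₂, h.neg₂, sub_eq_add_neg]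

lemma sub₃ (h : Tri F) (x y z z' : (V4 𝕜)) : F x y (z - z') = F x y z - F x y z' := by
  rw [sub_eq_add_neg, h.add₃, h.neg₃, sub_eq_add_neg]

/-- `F x y ·` as a linear functional -/
noncomputable def lin (h : Tri F) (x y : (V4 𝕜)) : (V4 𝕜) →ₗ[𝕜] 𝕜 where
  toFun := F x y
  map_add' := h.add₃ x y
  map_smul' a z := by rw [h.smul₃, RingHom.id_apply, smul_eq_mul]

@[simp] lemma lin_apply (h : Tri F) (x y z : (V4 𝕜)) : h.lin x y z = F x y z := rfl

lemma cube2 (h : Tri F) (s t : 𝕜) (x y : (V4 𝕜)) :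
    F (s • x + t • y) (s • x + t • y) (s • x + t • y)
      = s ^ 3 * F x x x + 3 * s ^ 2 * t * F x x y + 3 * s * t ^ 2 * F x y y + t ^ 3 * F y y y := by
  simp only [h.add₁, h.add₂, h.add₃, h.smul₁, h.smul₂, h.smul₃]
  rw [h.symm12 y x x, h.symm23 x y x, h.symm23 y y x, h.symm12 y x y]
  ring

lemma bil2 (h : Tri F) (a b : 𝕜) (p x y : (V4 𝕜)) :
    F p (a • x + b • y) (a • x + b • y)
      = a ^ 2 * F p x x + 2 * a * b * F p x y + b ^ 2 * F p y y := by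
  simp only [h.add₂, h.add₃, h.smul₂, h.smul₃]
  rw [h.symm23 p y x]
  ring

lemma sq3 (h : Tri F) (a b c : 𝕜) (p x y z : (V4 𝕜)) :
    F p (a • x + b • y + c • z) (a • x + b • y + c • z)
      = a ^ 2 * F p x x + b ^ 2 * F p y y + c ^ 2 * F p z z + 2 * a * b * F p x y
        + 2 * a * c * F p x z + 2 * b * c * F p y z := by
  simp only [h.add₂, h.add₃, h.smul₂, h.smul₃]
  rw [h.symm23 p y x, h.symm23 p z x, h.symm23 p z y]
  ring

lemma eq_zero_of_submodule (h : Tri F) (S : Submodule 𝕜 (V4 𝕜)) (hS : ∀ s ∈ S, F s s s = 0)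
    {x y z : (V4 𝕜)} (hx : x ∈ S) (hy : y ∈ S) (hz : z ∈ S) : F x y z = 0 := by
  rw [h.polar x y z, hS _ (S.add_mem (S.add_mem hx hy) hz), hS _ (S.add_mem hx hy),
    hS _ (S.add_mem hx hz), hS _ (S.add_mem hy hz), hS _ hx, hS _ hy, hS _ hz]
  ring

end Tri

/-- invariance of the cubic under a linear map polarizes -/
lemma inv_tri {F : (V4 𝕜) → (V4 𝕜) → (V4 𝕜) → 𝕜} (h : Tri F) (σ : (V4 𝕜) →ₗ[𝕜] (V4 𝕜)) (c : 𝕜)
    (hc : ∀ x, F (σ x) (σ x) (σ x) = c * F x x x) (x y z : (V4 𝕜)) :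
    F (σ x) (σ y) (σ z) = c * F x y z := by
  rw [h.polar (σ x) (σ y) (σ z), h.polar x y z]
  simp only [← map_add, hc]
  ring

/-- smoothness in terms of the trilinear form -/
def SmoothT (F : (V4 𝕜) → (V4 𝕜) → (V4 𝕜) → 𝕜) : Prop :=
  ∀ v : (V4 𝕜), v ≠ 0 → F v v v = 0 → ∃ y : (V4 𝕜), F v v y ≠ 0

lemma smoothT_of {f : MvPolynomial (Fin 4) 𝕜} (hG : Good f)
    (hsm : ∀ v : Fin 4 → 𝕜, v ≠ 0 → eval v f = 0 → ∃ i : Fin 4, eval v (pderiv i f) ≠ 0) :
    SmoothT (Pol f) := by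
  intro v hv hv0
  rw [hG.diag] at hv0
  obtain ⟨i, hi⟩ := hsm v hv hv0
  refine ⟨Pi.single i 1, fun h0 => hi ?_⟩
  rw [hG.deriv, h0, mul_zero]

/-! ### roots -/

lemma exists_cubic_root (α β γ δ : 𝕜) (hα : α ≠ 0) :
    ∃ t : 𝕜, α * t ^ 3 + β * t ^ 2 + γ * t + δ = 0 := by
  have hdeg : (Polynomial.C α * Polynomial.X ^ 3 + Polynomial.C β * Polynomial.X ^ 2
      + Polynomial.C γ * Polynomial.X + Polynomial.C δ : Polynomial 𝕜).degree = 3 := by
    compute_degree!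
  obtain ⟨t, ht⟩ := IsAlgClosed.exists_root _ (by rw [hdeg]; norm_num)
  refine ⟨t, ?_⟩
  simpa [Polynomial.IsRoot] using ht

lemma exists_quad_root (α β γ : 𝕜) (hα : α ≠ 0) :
    ∃ t : 𝕜, α * t ^ 2 + β * t + γ = 0 := by
  have hdeg : (Polynomial.C α * Polynomial.X ^ 2
      + Polynomial.C β * Polynomial.X + Polynomial.C γ : Polynomial 𝕜).degree = 2 := by
    compute_degree!
  obtain ⟨t, ht⟩ := IsAlgClosed.exists_root _ (by rw [hdeg]; norm_num)
  refine ⟨t, ?_⟩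
  simpa [Polynomial.IsRoot] using ht

lemma exists_sqrt (c : 𝕜) : ∃ s : 𝕜, s ^ 2 = c :=
  IsAlgClosed.exists_pow_nat_eq c (by norm_num)

/-! ### linear algebra in `𝕜⁴` -/

/-- linear independence of a pair -/
def Ind2 (a b : (V4 𝕜)) : Prop := ∀ s t : 𝕜, s • a + t • b = 0 → s = 0 ∧ t = 0

lemma Ind2.left_ne {a b : (V4 𝕜)} (h : Ind2 a b) : a ≠ 0 := fun h0 =>
  one_ne_zero (h 1 0 (by rw [h0]; simp)).1

lemma Ind2.right_ne {a b : (V4 𝕜)} (h : Ind2 a b) : b ≠ 0 := fun h0 =>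
  one_ne_zero (h 0 1 (by rw [h0]; simp)).2

lemma Ind2.symm {a b : (V4 𝕜)} (h : Ind2 a b) : Ind2 b a := fun s t hst =>
  (h t s (by rw [add_comm]; exact hst)).symm

lemma finrank_V4 : Module.finrank 𝕜 (V4 𝕜) = 4 := by simp

lemma finrank_span2 {a b : (V4 𝕜)} (h : Ind2 a b) :
    Module.finrank 𝕜 ↥(Submodule.span 𝕜 ({a, b} : Set (V4 𝕜))) = 2 := by
  have h1 := finrank_span_eq_card (LinearIndependent.pair_iff.mpr h)
  rw [Matrix.range_cons_cons_empty] at h1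
  simpa using h1

lemma smul_mem_of_rel (S : Submodule 𝕜 (V4 𝕜)) {a b : (V4 𝕜)} {s t : 𝕜} (ht : t ≠ 0) (ha : a ∈ S)
    (hst : s • a + t • b = 0) : b ∈ S := by
  have h1 : t • b = -(s • a) := by
    rw [eq_neg_iff_add_eq_zero, add_comm]; exact hst
  have h2 : b = (-(t⁻¹ * s)) • a := by
    calc b = t⁻¹ • (t • b) := by rw [smul_smul, inv_mul_cancel₀ ht, one_smul]
      _ = (-(t⁻¹ * s)) • a := by rw [h1, smul_neg, smul_smul, neg_smul]
  rw [h2]; exact S.smul_mem _ ha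

lemma ind2_of_notMem {e e' : (V4 𝕜)} (he : e ≠ 0) (he' : e' ∉ Submodule.span 𝕜 ({e} : Set (V4 𝕜))) :
    Ind2 e e' := by
  intro s t hst
  by_cases ht : t = 0
  · subst ht
    rw [zero_smul, add_zero] at hst
    exact ⟨(smul_eq_zero.mp hst).resolve_right he, rfl⟩
  · exact absurd (smul_mem_of_rel _ ht (Submodule.mem_span_singleton_self e) hst) he'

lemma Ind2.notMem {e e' : (V4 𝕜)} (h : Ind2 e e') : e' ∉ Submodule.span 𝕜 ({e} : Set (V4 𝕜)) := by
  intro hmem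
  obtain ⟨c, hc⟩ := Submodule.mem_span_singleton.mp hmem
  have := (h c (-1) (by rw [hc]; simp)).2
  norm_num at this

lemma exists_eq_one (ψ : (V4 𝕜) →ₗ[𝕜] 𝕜) (hψ : ψ ≠ 0) : ∃ y0, ψ y0 = 1 := by
  have : ∃ y, ψ y ≠ 0 := by
    by_contra hcon
    push Not at hcon
    exact hψ (LinearMap.ext fun y => by simpa using hcon y)
  obtain ⟨y, hy⟩ := this
  exact ⟨(ψ y)⁻¹ • y, by rw [map_smul, smul_eq_mul, inv_mul_cancel₀ hy]⟩

lemma finrank_ker (ψ : (V4 𝕜) →ₗ[𝕜] 𝕜) (hψ : ψ ≠ 0) :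
    Module.finrank 𝕜 ↥(LinearMap.ker ψ) = 3 := by
  have := Module.Dual.finrank_ker_add_one_of_ne_zero hψ
  rw [finrank_V4] at this
  omega

lemma hyp_eq_ker (S : Submodule 𝕜 (V4 𝕜)) (hS : Module.finrank 𝕜 ↥S = 3) :
    ∃ ψ : (V4 𝕜) →ₗ[𝕜] 𝕜, ψ ≠ 0 ∧ S = LinearMap.ker ψ := by
  have hlt : S < ⊤ := by
    rw [lt_top_iff_ne_top]
    rintro rfl
    rw [finrank_top, finrank_V4] at hS
    omega
  obtain ⟨ψ, hψ, hle⟩ := Submodule.exists_le_ker_of_lt_top S hlt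
  refine ⟨ψ, hψ, ?_⟩
  apply Submodule.eq_of_le_of_finrank_eq hle
  rw [hS, finrank_ker ψ hψ]

lemma exists_ne_zero (S : Submodule 𝕜 (V4 𝕜)) (hS : 1 ≤ Module.finrank 𝕜 ↥S) :
    ∃ x ∈ S, x ≠ 0 := by
  obtain ⟨x, hx⟩ := Module.finrank_pos_iff_exists_ne_zero.mp (by omega : 0 < Module.finrank 𝕜 ↥S)
  exact ⟨x.1, x.2, fun h0 => hx (Subtype.ext h0)⟩

lemma exists_indep (S : Submodule 𝕜 (V4 𝕜)) (hS : 2 ≤ Module.finrank 𝕜 ↥S) {x : (V4 𝕜)} (hx : x ∈ S)
    (hx0 : x ≠ 0) : ∃ y ∈ S, Ind2 x y := by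
  have hx' : (⟨x, hx⟩ : S) ≠ 0 := fun h0 => hx0 (congrArg Subtype.val h0)
  obtain ⟨y, hy⟩ := exists_linearIndependent_pair_of_one_lt_finrank
    (by omega : 1 < Module.finrank 𝕜 ↥S) hx'
  rw [LinearIndependent.pair_iff] at hy
  refine ⟨y.1, y.2, fun s t hst => hy s t ?_⟩
  apply Subtype.ext
  simpa using hst

lemma span2_eq (S : Submodule 𝕜 (V4 𝕜)) (hS : Module.finrank 𝕜 ↥S = 2) {a b : (V4 𝕜)} (ha : a ∈ S)
    (hb : b ∈ S) (hab : Ind2 a b) : Submodule.span 𝕜 ({a, b} : Set (V4 𝕜)) = S := by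
  apply Submodule.eq_of_le_of_finrank_eq
  · rw [Submodule.span_le]
    intro x hx
    simp only [Set.mem_insert_iff, Set.mem_singleton_iff] at hx
    rcases hx with rfl | rfl
    · exact ha
    · exact hb
  · rw [finrank_span2 hab, hS]

lemma line_eq (U U' : Submodule 𝕜 (V4 𝕜)) (hU : Module.finrank 𝕜 ↥U = 2)
    (hU' : Module.finrank 𝕜 ↥U' = 2) {a b : (V4 𝕜)} (ha : a ∈ U) (hb : b ∈ U) (ha' : a ∈ U')
    (hb' : b ∈ U') (hab : Ind2 a b) : U = U' :=
  (span2_eq U hU ha hb hab).symm.trans (span2_eq U' hU' ha' hb' hab)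

lemma line_struct (U : Submodule 𝕜 (V4 𝕜)) (hU : Module.finrank 𝕜 ↥U = 2) {e : (V4 𝕜)} (he : e ∈ U)
    (he0 : e ≠ 0) :
    ∃ u ∈ U, Ind2 e u ∧ ∀ x ∈ U, ∃ a b : 𝕜, x = a • e + b • u := by
  obtain ⟨u, hu, hind⟩ := exists_indep U (by omega) he he0
  refine ⟨u, hu, hind, fun x hx => ?_⟩
  have := span2_eq U hU he hu hind
  rw [← this] at hx
  obtain ⟨a, b, hab⟩ := Submodule.mem_span_pair.mp hx
  exact ⟨a, b, hab.symm⟩

lemma finrank_inf_ker (τ m : (V4 𝕜) →ₗ[𝕜] 𝕜) (p : (V4 𝕜)) (hτ : τ ≠ 0) (hτp : τ p = 0)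
    (hmp : m p ≠ 0) :
    Module.finrank 𝕜 ↥(LinearMap.ker τ ⊓ LinearMap.ker m) = 2 := by
  have hm : m ≠ 0 := by
    rintro rfl
    exact hmp (by simp)
  have h1 := Submodule.finrank_sup_add_finrank_inf_eq (LinearMap.ker τ) (LinearMap.ker m)
  rw [finrank_ker τ hτ, finrank_ker m hm] at h1
  have hlt : LinearMap.ker m < LinearMap.ker τ ⊔ LinearMap.ker m := by
    apply lt_of_le_of_ne le_sup_right
    intro heq
    have h2 : p ∈ LinearMap.ker τ ⊔ LinearMap.ker m :=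
      Submodule.mem_sup_left (LinearMap.mem_ker.mpr hτp)
    rw [← heq] at h2
    exact hmp (LinearMap.mem_ker.mp h2)
  have h2 := Submodule.finrank_lt_finrank_of_lt hlt
  rw [finrank_ker m hm] at h2
  have h3 : Module.finrank 𝕜 ↥(LinearMap.ker τ ⊔ LinearMap.ker m) ≤ 4 := by
    have := Submodule.finrank_le (LinearMap.ker τ ⊔ LinearMap.ker m)
    rwa [finrank_V4] at this
  omega

lemma K_span (τ m : (V4 𝕜) →ₗ[𝕜] 𝕜) (p : (V4 𝕜)) (hτ : τ ≠ 0) (hτp : τ p = 0) (hmp : m p ≠ 0)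
    {k1 k2 : (V4 𝕜)} (h1τ : τ k1 = 0) (h1m : m k1 = 0) (h2τ : τ k2 = 0) (h2m : m k2 = 0)
    (hind : Ind2 k1 k2) (x : (V4 𝕜)) (hxτ : τ x = 0) (hxm : m x = 0) :
    ∃ a b : 𝕜, x = a • k1 + b • k2 := by
  have hK := finrank_inf_ker τ m p hτ hτp hmp
  have hmem : ∀ y, τ y = 0 → m y = 0 → y ∈ LinearMap.ker τ ⊓ LinearMap.ker m :=
    fun y h1 h2 => Submodule.mem_inf.mpr ⟨LinearMap.mem_ker.mpr h1, LinearMap.mem_ker.mpr h2⟩
  have hsp := span2_eq _ hK (hmem k1 h1τ h1m) (hmem k2 h2τ h2m) hind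
  have hx : x ∈ Submodule.span 𝕜 ({k1, k2} : Set (V4 𝕜)) := by
    rw [hsp]; exact hmem x hxτ hxm
  obtain ⟨a, b, hab⟩ := Submodule.mem_span_pair.mp hx
  exact ⟨a, b, hab.symm⟩

lemma K_exists (τ m : (V4 𝕜) →ₗ[𝕜] 𝕜) (p : (V4 𝕜)) (hτ : τ ≠ 0) (hτp : τ p = 0) (hmp : m p ≠ 0) :
    ∃ k1 k2 : (V4 𝕜), τ k1 = 0 ∧ m k1 = 0 ∧ τ k2 = 0 ∧ m k2 = 0 ∧ Ind2 k1 k2 := by
  have hK := finrank_inf_ker τ m p hτ hτp hmp
  obtain ⟨k1, hk1, hk10⟩ := exists_ne_zero _ (by omega :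
    1 ≤ Module.finrank 𝕜 ↥(LinearMap.ker τ ⊓ LinearMap.ker m))
  obtain ⟨k2, hk2, hind⟩ := exists_indep _ (by omega :
    2 ≤ Module.finrank 𝕜 ↥(LinearMap.ker τ ⊓ LinearMap.ker m)) hk1 hk10
  rw [Submodule.mem_inf, LinearMap.mem_ker, LinearMap.mem_ker] at hk1 hk2
  exact ⟨k1, k2, hk1.1, hk1.2, hk2.1, hk2.2, hind⟩

lemma inj3 {α : Type*} (U : Fin 3 → α) (h01 : U 0 ≠ U 1) (h02 : U 0 ≠ U 2) (h12 : U 1 ≠ U 2) :
    Function.Injective U := by
  intro i j hij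
  fin_cases i <;> fin_cases j <;>
    first
    | rfl
    | exact absurd hij h01
    | exact absurd hij.symm h01
    | exact absurd hij h02
    | exact absurd hij.symm h02
    | exact absurd hij h12
    | exact absurd hij.symm h12

lemma mat_ext {M N : Matrix (Fin 4) (Fin 4) 𝕜} (h : ∀ x, M.mulVec x = N.mulVec x) : M = N :=
  Matrix.mulVec_injective (funext h)

end Groth.Agent.Lib.CubicSurfKH1
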