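import Mathlib
import Groth.Agent.Lib.CubicSurfK1_helper1

set_option autoImplicit false
set_option maxHeartbeats 1000000

namespace Groth.Agent.Lib.CubicSurfKH1

open MvPolynomial

universe u

variable {𝕜 : Type*} [Field 𝕜] [IsAlgClosed 𝕜] [CharZero 𝕜]
variable {F : (V4 𝕜) → (V4 𝕜) → (V4 𝕜) → 𝕜}

/-! ### a smooth cubic surface contains no plane -/

lemma hyp_false (h : Tri F) (hS : SmoothT F) (ψ : (V4 𝕜) →ₗ[𝕜] 𝕜) (hψ : ψ ≠ 0)
    (hz : ∀ x, ψ x = 0 → F x x x = 0) : False := by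
  have hF : ∀ x y z, ψ x = 0 → ψ y = 0 → ψ z = 0 → F x y z = 0 := by
    intro x y z hx hy hz'
    exact h.eq_zero_of_submodule (LinearMap.ker ψ) (fun s hs => hz s (LinearMap.mem_ker.mp hs))
      (LinearMap.mem_ker.mpr hx) (LinearMap.mem_ker.mpr hy) (LinearMap.mem_ker.mpr hz')
  obtain ⟨y0, hy0⟩ := exists_eq_one ψ hψ
  have hfr := finrank_ker ψ hψ
  obtain ⟨s1, hs1, hs10⟩ := exists_ne_zero (LinearMap.ker ψ) (by omega)
  obtain ⟨s2, hs2, hind⟩ := exists_indep (LinearMap.ker ψ) (by omega) hs1 hs10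
  rw [LinearMap.mem_ker] at hs1 hs2
  obtain ⟨s0, hs0ψ, hs0ne, hs0q⟩ : ∃ s0, ψ s0 = 0 ∧ s0 ≠ 0 ∧ F y0 s0 s0 = 0 := by
    by_cases hq : F y0 s1 s1 = 0
    · exact ⟨s1, hs1, hs10, hq⟩
    · obtain ⟨a, ha⟩ := exists_quad_root (F y0 s1 s1) (2 * F y0 s1 s2) (F y0 s2 s2) hq
      refine ⟨a • s1 + (1:𝕜) • s2, ?_, ?_, ?_⟩
      · rw [map_add, map_smul, map_smul, hs1, hs2]; simp
      · intro h0
        exact one_ne_zero (hind a 1 h0).2
      · rw [h.bil2]; linear_combination ha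
  obtain ⟨y, hy⟩ := hS s0 hs0ne (hz s0 hs0ψ)
  apply hy
  have h1 : F s0 s0 y = F s0 s0 (y - ψ y • y0) + ψ y * F s0 s0 y0 := by
    rw [← h.smul₃, ← h.add₃, sub_add_cancel]
  rw [h1, h.symm13 s0 s0 y0, hs0q, mul_zero, add_zero]
  apply hF _ _ _ hs0ψ hs0ψ
  rw [map_sub, map_smul, hy0]; simp

/-! ### counting -/

lemma encard_le_of_no_inj {α : Type*} (s : Set α) (n : ℕ)
    (h : ∀ g : Fin (n + 1) → α, Function.Injective g → (∀ i, g i ∈ s) → False) :
    s.encard ≤ n := by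
  by_contra hcon
  rw [not_le] at hcon
  have h4 : ((n + 1 : ℕ) : ℕ∞) ≤ s.encard := by
    have := Order.add_one_le_of_lt hcon
    exact_mod_cast this
  obtain ⟨t, hts, ht⟩ := Set.exists_subset_encard_eq h4
  have htf : t.Finite := Set.finite_of_encard_eq_coe ht
  have hc : htf.toFinset.card = n + 1 := by
    have := Set.encard_coe_eq_coe_finsetCard htf.toFinset
    rw [Set.Finite.coe_toFinset, ht] at this
    exact_mod_cast this.symm
  let e := (Finset.equivFinOfCardEq hc).symm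
  refine h (fun i => (e i).1) (fun i j hij => e.injective (Subtype.ext hij)) (fun i => hts ?_)
  exact htf.mem_toFinset.mp (e i).2

lemma finite_ncard_le_of_no_inj {α : Type*} (s : Set α) (n : ℕ)
    (h : ∀ g : Fin (n + 1) → α, Function.Injective g → (∀ i, g i ∈ s) → False) :
    s.Finite ∧ s.ncard ≤ n := by
  rw [← Set.encard_le_coe_iff_finite_ncard_le]
  exact encard_le_of_no_inj s n h

/-! ### lines through a point -/

lemma line_tangent (h : Tri F) {v : V4 𝕜} (hv0 : F v v v = 0)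
    (U : Submodule 𝕜 (V4 𝕜)) (hvU : v ∈ U) (hz : ∀ u ∈ U, F u u u = 0) :
    ∀ u ∈ U, F v v u = 0 ∧ F v u u = 0 := by
  intro u hu
  have h1 := hz (v + u) (U.add_mem hvU hu)
  have h2 := hz (v - u) (U.sub_mem hvU hu)
  have hu0 := hz u hu
  have e1 := h.cube2 1 1 v u
  rw [one_smul, one_smul] at e1
  have e2 := h.cube2 1 (-1) v u
  rw [one_smul, neg_one_smul, ← sub_eq_add_neg] at e2
  constructor
  · linear_combination (-1/6) * e1 + (1/6) * e2 + (1/6) * h1 - (1/6) * h2 - (1/3) * hu0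
  · linear_combination (-1/6) * e1 - (1/6) * e2 + (1/6) * h1 + (1/6) * h2 - (1/3) * hv0

lemma line_point {v : V4 𝕜} (m0 : (V4 𝕜) →ₗ[𝕜] 𝕜) (hm0 : m0 v ≠ 0)
    (U : Submodule 𝕜 (V4 𝕜)) (hvU : v ∈ U) (hU : Module.finrank 𝕜 ↥U = 2) :
    ∃ w ∈ U, Ind2 v w ∧ m0 w = 0 := by
  have hv : v ≠ 0 := by
    rintro rfl
    exact hm0 (map_zero m0)
  obtain ⟨u, hu, hind, -⟩ := line_struct U hU hvU hv
  refine ⟨u - (m0 u / m0 v) • v, U.sub_mem hu (U.smul_mem _ hvU), ?_, ?_⟩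
  · intro s t hst
    have e : (s - t * (m0 u / m0 v)) • v + t • u = s • v + t • (u - (m0 u / m0 v) • v) := by
      vec_ring
    obtain ⟨h1, h2⟩ := hind (s - t * (m0 u / m0 v)) t (by rw [e]; exact hst)
    refine ⟨?_, h2⟩
    rw [h2, zero_mul, sub_zero] at h1
    exact h1
  · rw [map_sub, map_smul, smul_eq_mul, div_mul_cancel₀ _ hm0, sub_self]

lemma four_lines_false (h : Tri F) (hS : SmoothT F) {v : V4 𝕜} (hv : v ≠ 0) (hv0 : F v v v = 0)
    (U : Fin 4 → Submodule 𝕜 (V4 𝕜)) (hinj : Function.Injective U)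
    (hvU : ∀ i, v ∈ U i) (hU : ∀ i, Module.finrank 𝕜 ↥(U i) = 2)
    (hz : ∀ i, ∀ u ∈ U i, F u u u = 0) : False := by
  obtain ⟨y, hy⟩ := hS v hv hv0
  have hτ : h.lin v v ≠ 0 := fun h0 => hy (by
    have := LinearMap.congr_fun h0 y
    simpa using this)
  have hτv : h.lin v v v = 0 := hv0
  obtain ⟨i0, hi0⟩ : ∃ i, v i ≠ 0 := by
    by_contra hcon
    push Not at hcon
    exact hv (funext hcon)
  obtain ⟨m0, hm0⟩ : ∃ m0 : (V4 𝕜) →ₗ[𝕜] 𝕜, m0 v ≠ 0 := ⟨LinearMap.proj i0, hi0⟩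
  have key := fun i => line_point m0 hm0 (U i) (hvU i) (hU i)
  choose w hwU hwind hwm using key
  have hA := fun i => line_tangent h hv0 (U i) (hvU i) (hz i)
  have hwτF : ∀ i, F v v (w i) = 0 := fun i => (hA i (w i) (hwU i)).1
  have hwτ : ∀ i, h.lin v v (w i) = 0 := hwτF
  have hwq : ∀ i, F v (w i) (w i) = 0 := fun i => (hA i (w i) (hwU i)).2
  have hwc : ∀ i, F (w i) (w i) (w i) = 0 := fun i => hz i (w i) (hwU i)
  have hpair : ∀ i j, i ≠ j → Ind2 (w i) (w j) := by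
    intro i j hij
    apply ind2_of_notMem (hwind i).right_ne
    intro hmem
    obtain ⟨c, hc⟩ := Submodule.mem_span_singleton.mp hmem
    have hwj : w j ∈ U i := by
      rw [← hc]; exact (U i).smul_mem _ (hwU i)
    exact hij (hinj (line_eq (U i) (U j) (hU i) (hU j) (hvU i) hwj (hvU j) (hwU j) (hwind j)))
  have h01 := hpair 0 1 (by decide)
  obtain ⟨a2, b2, e2⟩ := K_span (h.lin v v) m0 v hτ hτv hm0 (hwτ 0) (hwm 0) (hwτ 1) (hwm 1) h01
    (w 2) (hwτ 2) (hwm 2)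
  obtain ⟨a3, b3, e3⟩ := K_span (h.lin v v) m0 v hτ hτv hm0 (hwτ 0) (hwm 0) (hwτ 1) (hwm 1) h01
    (w 3) (hwτ 3) (hwm 3)
  have ha2 : a2 ≠ 0 := by
    intro h0
    rw [h0, zero_smul, zero_add] at e2
    have := (hpair 1 2 (by decide) b2 (-1) (by rw [e2]; vec_ring)).2
    norm_num at this
  have hb2 : b2 ≠ 0 := by
    intro h0
    rw [h0, zero_smul, add_zero] at e2
    have := (hpair 0 2 (by decide) a2 (-1) (by rw [e2]; vec_ring)).2
    norm_num at this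
  have ha3 : a3 ≠ 0 := by
    intro h0
    rw [h0, zero_smul, zero_add] at e3
    have := (hpair 1 3 (by decide) b3 (-1) (by rw [e3]; vec_ring)).2
    norm_num at this
  have hb3 : b3 ≠ 0 := by
    intro h0
    rw [h0, zero_smul, add_zero] at e3
    have := (hpair 0 3 (by decide) a3 (-1) (by rw [e3]; vec_ring)).2
    norm_num at this
  have hD : a2 * b3 - a3 * b2 ≠ 0 := by
    intro hD
    have e : b3 • w 2 + (-b2) • w 3 = 0 := by
      rw [e2, e3]
      have e' : b3 • (a2 • w 0 + b2 • w 1) + (-b2) • (a3 • w 0 + b3 • w 1)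
          = (a2 * b3 - a3 * b2) • w 0 := by vec_ring
      rw [e', hD, zero_smul]
    exact hb3 (hpair 2 3 (by decide) b3 (-b2) e).1
  -- the cubic on K
  have c2 := h.cube2 a2 b2 (w 0) (w 1)
  have hw2 : F (a2 • w 0 + b2 • w 1) (a2 • w 0 + b2 • w 1) (a2 • w 0 + b2 • w 1) = 0 := by
    rw [← e2]; exact hwc 2
  have c3 := h.cube2 a3 b3 (w 0) (w 1)
  have hw3 : F (a3 • w 0 + b3 • w 1) (a3 • w 0 + b3 • w 1) (a3 • w 0 + b3 • w 1) = 0 := by
    rw [← e3]; exact hwc 3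
  have c2' : a2 * F (w 0) (w 0) (w 1) + b2 * F (w 0) (w 1) (w 1) = 0 := by
    have : (3 * a2 * b2) * (a2 * F (w 0) (w 0) (w 1) + b2 * F (w 0) (w 1) (w 1)) = 0 := by
      linear_combination hw2 - c2 - a2 ^ 3 * hwc 0 - b2 ^ 3 * hwc 1
    refine (mul_eq_zero.mp this).resolve_left ?_
    simp [ha2, hb2]
  have c3' : a3 * F (w 0) (w 0) (w 1) + b3 * F (w 0) (w 1) (w 1) = 0 := by
    have : (3 * a3 * b3) * (a3 * F (w 0) (w 0) (w 1) + b3 * F (w 0) (w 1) (w 1)) = 0 := by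
      linear_combination hw3 - c3 - a3 ^ 3 * hwc 0 - b3 ^ 3 * hwc 1
    refine (mul_eq_zero.mp this).resolve_left ?_
    simp [ha3, hb3]
  have hP : F (w 0) (w 0) (w 1) = 0 := by
    have : (a2 * b3 - a3 * b2) * F (w 0) (w 0) (w 1) = 0 := by
      linear_combination b3 * c2' - b2 * c3'
    exact (mul_eq_zero.mp this).resolve_left hD
  have hQ : F (w 0) (w 1) (w 1) = 0 := by
    have : (a2 * b3 - a3 * b2) * F (w 0) (w 1) (w 1) = 0 := by
      linear_combination a2 * c3' - a3 * c2'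
    exact (mul_eq_zero.mp this).resolve_left hD
  -- the quadric on K
  have q2 := h.bil2 a2 b2 v (w 0) (w 1)
  have hq2 : F v (a2 • w 0 + b2 • w 1) (a2 • w 0 + b2 • w 1) = 0 := by
    rw [← e2]; exact hwq 2
  have hR : F v (w 0) (w 1) = 0 := by
    have : (2 * a2 * b2) * F v (w 0) (w 1) = 0 := by
      linear_combination hq2 - q2 - a2 ^ 2 * hwq 0 - b2 ^ 2 * hwq 1
    refine (mul_eq_zero.mp this).resolve_left ?_
    simp [ha2, hb2]
  -- the cubic vanishes on the tangent plane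
  apply hyp_false h hS (h.lin v v) hτ
  intro x hx
  have hyτ : h.lin v v (x - (m0 x / m0 v) • v) = 0 := by
    rw [map_sub, map_smul, hx, hτv, smul_zero, sub_zero]
  have hym : m0 (x - (m0 x / m0 v) • v) = 0 := by
    rw [map_sub, map_smul, smul_eq_mul, div_mul_cancel₀ _ hm0, sub_self]
  obtain ⟨a, b, hab⟩ := K_span (h.lin v v) m0 v hτ hτv hm0 (hwτ 0) (hwm 0) (hwτ 1) (hwm 1) h01
    _ hyτ hym
  have ex : x = (m0 x / m0 v) • v + (1:𝕜) • (a • w 0 + b • w 1) := by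
    rw [one_smul, ← hab]; vec_ring
  have t1 : F v v (a • w 0 + b • w 1) = 0 := by
    rw [h.add₃, h.smul₃, h.smul₃, hwτF 0, hwτF 1]; ring
  have t2 : F v (a • w 0 + b • w 1) (a • w 0 + b • w 1) = 0 := by
    rw [h.bil2, hwq 0, hwq 1, hR]; ring
  have t3 : F (a • w 0 + b • w 1) (a • w 0 + b • w 1) (a • w 0 + b • w 1) = 0 := by
    rw [h.cube2, hwc 0, hwc 1, hP, hQ]; ring
  rw [ex, h.cube2, hv0, t1, t2, t3]; ring

theorem main10897 (k : Type u) [Field k] [IsAlgClosed k] [CharZero k]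
    (f : MvPolynomial (Fin 4) k) (hf : f.IsHomogeneous 3) (hf0 : f ≠ 0)
    (hsm : ∀ v : Fin 4 → k, v ≠ 0 → MvPolynomial.eval v f = 0 →
      ∃ i : Fin 4, MvPolynomial.eval v (MvPolynomial.pderiv i f) ≠ 0)
    (v : Fin 4 → k) (hv : v ≠ 0) (hfv : MvPolynomial.eval v f = 0) :
    {U : Submodule k (Fin 4 → k) | v ∈ U ∧ (Module.finrank k ↥U = 2 ∧ ∀ u ∈ U, MvPolynomial.eval u f = 0)}.Finite ∧
      {U : Submodule k (Fin 4 → k) | v ∈ U ∧ (Module.finrank k ↥U = 2 ∧ ∀ u ∈ U, MvPolynomial.eval u f = 0)}.ncard ≤ 3 ∧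
      ∃ H : Submodule k (Fin 4 → k), Module.finrank k ↥H = 3 ∧
        ∀ U : Submodule k (Fin 4 → k), v ∈ U → (Module.finrank k ↥U = 2 ∧ ∀ u ∈ U, MvPolynomial.eval u f = 0) → U ≤ H := by
  have hG := good_of_homogeneous f hf
  have h := tri_Pol hG
  have hS := smoothT_of hG hsm
  have hv0 : Pol f v v v = 0 := by rw [hG.diag]; exact hfv
  have key := finite_ncard_le_of_no_inj
    {U : Submodule k (Fin 4 → k) | v ∈ U ∧ (Module.finrank k ↥U = 2 ∧ ∀ u ∈ U, MvPolynomial.eval u f = 0)} 3 (by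
    intro g hg hmem
    exact four_lines_false h hS hv hv0 g hg (fun i => (hmem i).1) (fun i => (hmem i).2.1)
      (fun i u hu => by rw [hG.diag]; exact (hmem i).2.2 u hu))
  obtain ⟨y, hy⟩ := hS v hv hv0
  have hτ : h.lin v v ≠ 0 := fun h0 => hy (by
    have := LinearMap.congr_fun h0 y
    simpa using this)
  refine ⟨key.1, key.2, LinearMap.ker (h.lin v v), finrank_ker _ hτ, ?_⟩
  intro U hvU hUz u hu
  have := (line_tangent h hv0 U hvU (fun u hu => by rw [hG.diag]; exact hUz.2 u hu) u hu).1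
  exact LinearMap.mem_ker.mpr this

end Groth.Agent.Lib.CubicSurfKH1
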