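import Mathlib
import Groth.Agent.Lib.CubicSurfK2_helper1

set_option autoImplicit false
set_option maxHeartbeats 1000000

namespace Groth.Agent.Lib.CubicSurfKH1

open MvPolynomial

universe u

variable {𝕜 : Type*} [Field 𝕜] [IsAlgClosed 𝕜] [CharZero 𝕜]
variable {F : (V4 𝕜) → (V4 𝕜) → (V4 𝕜) → 𝕜}

/-! ### coordinates -/

lemma decomp4 (x : V4 𝕜) : x = x 0 • (Pi.single 0 1 : V4 𝕜) + x 1 • (Pi.single 1 1 : V4 𝕜)
    + x 2 • (Pi.single 2 1 : V4 𝕜) + x 3 • (Pi.single 3 1 : V4 𝕜) := by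
  ext j
  fin_cases j <;> simp

lemma Tri.coord (h : Tri F) (p q x : V4 𝕜) :
    F p q x = x 0 * F p q (Pi.single 0 1) + x 1 * F p q (Pi.single 1 1)
      + x 2 * F p q (Pi.single 2 1) + x 3 * F p q (Pi.single 3 1) := by
  conv_lhs => rw [decomp4 x]
  simp only [h.add₃, h.smul₃]

/-- the polynomial of a linear functional -/
noncomputable def linPoly (φ : (V4 𝕜) →ₗ[𝕜] 𝕜) : MvPolynomial (Fin 4) 𝕜 :=
  ∑ j : Fin 4, C (φ (Pi.single j 1)) * X j

lemma linPoly_hom (φ : (V4 𝕜) →ₗ[𝕜] 𝕜) : (linPoly φ).IsHomogeneous 1 :=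
  IsHomogeneous.sum _ _ _ (fun j _ => isHomogeneous_C_mul_X _ _)

lemma eval_linPoly (φ : (V4 𝕜) →ₗ[𝕜] 𝕜) (x : V4 𝕜) : eval x (linPoly φ) = φ x := by
  unfold linPoly
  simp only [map_add, map_mul, eval_C, eval_X, Fin.sum_univ_four]
  conv_rhs => rw [decomp4 x]
  simp only [map_add, map_smul, smul_eq_mul]
  ring

/-! ### splitting binary forms -/

lemma quad_split (α β γ : 𝕜) : ∃ l1 m1 l2 m2 : 𝕜, ∀ s t : 𝕜,
    α * s ^ 2 + β * s * t + γ * t ^ 2 = (l1 * s + m1 * t) * (l2 * s + m2 * t) := by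
  by_cases hα : α = 0
  · exact ⟨0, 1, β, γ, fun s t => by rw [hα]; ring⟩
  · obtain ⟨r, hr⟩ := exists_quad_root α β γ hα
    exact ⟨1, -r, α, β + α * r, fun s t => by linear_combination (t ^ 2) * hr⟩

lemma cubic_split (c0 c1 c2 c3 : 𝕜) : ∃ l1 m1 l2 m2 l3 m3 : 𝕜, ∀ s t : 𝕜,
    c0 * s ^ 3 + c1 * s ^ 2 * t + c2 * s * t ^ 2 + c3 * t ^ 3
      = (l1 * s + m1 * t) * (l2 * s + m2 * t) * (l3 * s + m3 * t) := by
  by_cases h0 : c0 = 0
  · obtain ⟨l1, m1, l2, m2, hq⟩ := quad_split c1 c2 c3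
    exact ⟨0, 1, l1, m1, l2, m2, fun s t => by rw [h0]; linear_combination t * hq s t⟩
  · obtain ⟨r, hr⟩ := exists_cubic_root c0 c1 c2 c3 h0
    obtain ⟨l1, m1, l2, m2, hq⟩ := quad_split c0 (c1 + c0 * r) (c2 + c1 * r + c0 * r ^ 2)
    exact ⟨1, -r, l1, m1, l2, m2, fun s t => by
      linear_combination (s - r * t) * hq s t + t ^ 3 * hr⟩

/-! ### polynomials vanishing on a hyperplane -/

lemma eval_aeval_general {σ τ : Type*} (g : σ → MvPolynomial τ 𝕜) (p : MvPolynomial σ 𝕜)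
    (x : τ → 𝕜) : eval x (aeval g p) = eval (fun j => eval x (g j)) p := by
  have h : ((eval x).comp (aeval (R := 𝕜) g).toRingHom) = eval (fun j => eval x (g j)) := by
    apply MvPolynomial.ringHom_ext
    · intro a; simp
    · intro i; simp
  have := RingHom.congr_fun h p
  simpa only [RingHom.comp_apply, AlgHom.toRingHom_eq_coe, RingHom.coe_coe] using this

lemma sub_subst_mem {σ : Type*} (I : Ideal (MvPolynomial σ 𝕜)) (g : σ → MvPolynomial σ 𝕜)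
    (hg : ∀ j, X j - g j ∈ I) (p : MvPolynomial σ 𝕜) : p - aeval g p ∈ I := by
  refine MvPolynomial.induction_on (motive := fun p => p - aeval g p ∈ I) p ?_ ?_ ?_
  · intro a
    simp
  · intro p q hp hq
    have : p + q - aeval g (p + q) = (p - aeval g p) + (q - aeval g q) := by
      rw [map_add]; ring
    rw [this]; exact I.add_mem hp hq
  · intro p j hp
    have : p * X j - aeval g (p * X j) = (p - aeval g p) * X j + aeval g p * (X j - g j) := by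
      rw [map_mul, aeval_X]; ring
    rw [this]
    exact I.add_mem (I.mul_mem_right _ hp) (I.mul_mem_left _ (hg j))

lemma hyp_div (c : Fin 4 → 𝕜) (i0 : Fin 4) (hc : c i0 ≠ 0) (G : MvPolynomial (Fin 4) 𝕜)
    (hG : ∀ x : V4 𝕜, (∑ j, c j * x j) = 0 → eval x G = 0) :
    G ∈ Ideal.span {(∑ j : Fin 4, C (c j) * X j : MvPolynomial (Fin 4) 𝕜)} := by
  obtain ⟨ℓ, hℓ⟩ : ∃ ℓ : MvPolynomial (Fin 4) 𝕜, ℓ = ∑ j : Fin 4, C (c j) * X j := ⟨_, rfl⟩
  rw [← hℓ]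
  obtain ⟨δ, hδ⟩ : ∃ δ : Fin 4 → 𝕜, ∀ j, δ j = if j = i0 then (c i0)⁻¹ else 0 :=
    ⟨_, fun _ => rfl⟩
  obtain ⟨g, hg⟩ : ∃ g : Fin 4 → MvPolynomial (Fin 4) 𝕜, ∀ j, g j = X j - C (δ j) * ℓ :=
    ⟨_, fun _ => rfl⟩
  have h1 : G - aeval g G ∈ Ideal.span {ℓ} := by
    apply sub_subst_mem
    intro j
    have : X j - g j = C (δ j) * ℓ := by rw [hg]; ring
    rw [this]
    exact Ideal.mul_mem_left _ _ (Ideal.subset_span (Set.mem_singleton ℓ))
  have hℓev : ∀ x : V4 𝕜, eval x ℓ = ∑ j, c j * x j := by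
    intro x; rw [hℓ]; simp only [map_sum, map_mul, eval_C, eval_X]
  have h2 : aeval g G = 0 := by
    apply MvPolynomial.funext
    intro x
    rw [eval_aeval_general, map_zero]
    apply hG
    have hgx : ∀ j, eval x (g j) = x j - δ j * (∑ j', c j' * x j') := by
      intro j
      rw [hg, map_sub, map_mul, eval_X, eval_C, hℓev]
    simp only [hgx, mul_sub, Finset.sum_sub_distrib]
    have e1 : ∑ j, c j * (δ j * ∑ j', c j' * x j') = (∑ j, c j * δ j) * ∑ j', c j' * x j' := by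
      rw [Finset.sum_mul]; apply Finset.sum_congr rfl; intro j _; ring
    rw [e1]
    have e2 : ∑ j, c j * δ j = 1 := by
      simp only [hδ, mul_ite, mul_zero, Finset.sum_ite_eq', Finset.mem_univ, if_true]
      exact mul_inv_cancel₀ hc
    rw [e2, one_mul, sub_self]
  rw [h2, sub_zero] at h1
  exact h1

/-! ### the first polar on the tangent plane -/

lemma ind2_of_func {a w : V4 𝕜} (m0 : (V4 𝕜) →ₗ[𝕜] 𝕜) (hm0 : m0 a ≠ 0) (hwm : m0 w = 0)
    (hw : w ≠ 0) : Ind2 a w := by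
  intro s t hst
  have h1 := congrArg m0 hst
  rw [map_add, map_smul, map_smul, hwm, map_zero, smul_eq_mul, smul_eq_mul, mul_zero,
    add_zero] at h1
  have hs : s = 0 := (mul_eq_zero.mp h1).resolve_right hm0
  rw [hs, zero_smul, zero_add] at hst
  exact ⟨hs, (smul_eq_zero.mp hst).resolve_right hw⟩

lemma two_lines (h : Tri F) {a : V4 𝕜} (ha0 : F a a a = 0) (hτ : h.lin a a ≠ 0)
    (m0 : (V4 𝕜) →ₗ[𝕜] 𝕜) (hm0 : m0 a ≠ 0) (x0 : V4 𝕜) (hx0τ : F a a x0 = 0) (hx0m : m0 x0 = 0)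
    (hx0q : F a x0 x0 ≠ 0) :
    ∃ U₁ U₂ : Submodule 𝕜 (V4 𝕜), Module.finrank 𝕜 ↥U₁ = 2 ∧ Module.finrank 𝕜 ↥U₂ = 2 ∧
      a ∈ U₁ ∧ a ∈ U₂ ∧ (∀ x ∈ U₁, F a a x = 0) ∧ (∀ x ∈ U₂, F a a x = 0) ∧
      ∀ x, (F a a x = 0 ∧ F a x x = 0) ↔ (x ∈ U₁ ∨ x ∈ U₂) := by
  have hτa : h.lin a a a = 0 := ha0
  have hx0ne : x0 ≠ 0 := by
    rintro rfl
    exact hx0q (h.zero₃ _ _)
  have hK := finrank_inf_ker (h.lin a a) m0 a hτ hτa hm0
  have hx0K : x0 ∈ LinearMap.ker (h.lin a a) ⊓ LinearMap.ker m0 :=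
    Submodule.mem_inf.mpr ⟨LinearMap.mem_ker.mpr hx0τ, LinearMap.mem_ker.mpr hx0m⟩
  obtain ⟨x1, hx1K, hind⟩ := exists_indep _ (by omega) hx0K hx0ne
  rw [Submodule.mem_inf, LinearMap.mem_ker, LinearMap.mem_ker] at hx1K
  obtain ⟨hx1τ', hx1m⟩ := hx1K
  have hx1τ : F a a x1 = 0 := hx1τ'
  obtain ⟨s1, hs1⟩ := exists_quad_root (F a x0 x0) (2 * F a x0 x1) (F a x1 x1) hx0q
  obtain ⟨s2, e⟩ : ∃ s2, F a x0 x0 * s2 = -(2 * F a x0 x1) - F a x0 x0 * s1 :=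
    ⟨(-(2 * F a x0 x1) - F a x0 x0 * s1) / F a x0 x0, by field_simp⟩
  have hs2 : F a x0 x0 * s2 ^ 2 + 2 * F a x0 x1 * s2 + F a x1 x1 = 0 := by
    have : F a x0 x0 * (F a x0 x0 * s2 ^ 2 + 2 * F a x0 x1 * s2 + F a x1 x1) = 0 := by
      linear_combination (F a x0 x0 * s2 + (-(2 * F a x0 x1) - F a x0 x0 * s1)
        + 2 * F a x0 x1) * e + F a x0 x0 * hs1
    exact (mul_eq_zero.mp this).resolve_left hx0q
  have hfact : ∀ s t : 𝕜, F a x0 x0 * (F a x0 x0 * s ^ 2 + 2 * F a x0 x1 * s * t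
      + F a x1 x1 * t ^ 2)
      = (F a x0 x0 * s - F a x0 x0 * s1 * t) * (F a x0 x0 * s - F a x0 x0 * s2 * t) := by
    intro s t
    linear_combination (F a x0 x0 * s * t - t ^ 2 * F a x0 x0 * s1) * e
      + t ^ 2 * F a x0 x0 * hs1
  -- the two points
  have hw : ∀ r : 𝕜, F a x0 x0 * r ^ 2 + 2 * F a x0 x1 * r + F a x1 x1 = 0 →
      F a a (r • x0 + (1:𝕜) • x1) = 0 ∧ m0 (r • x0 + (1:𝕜) • x1) = 0 ∧
      r • x0 + (1:𝕜) • x1 ≠ 0 ∧ F a (r • x0 + (1:𝕜) • x1) (r • x0 + (1:𝕜) • x1) = 0 := by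
    intro r hr
    refine ⟨?_, ?_, ?_, ?_⟩
    · rw [h.add₃, h.smul₃, h.smul₃, hx0τ, hx1τ]; ring
    · rw [map_add, map_smul, map_smul, hx0m, hx1m]; simp
    · intro h0
      exact one_ne_zero (hind r 1 h0).2
    · rw [h.bil2]; linear_combination hr
  obtain ⟨hw1τ, hw1m, hw1ne, hw1q⟩ := hw s1 hs1
  obtain ⟨hw2τ, hw2m, hw2ne, hw2q⟩ := hw s2 hs2
  have hind1 := ind2_of_func m0 hm0 hw1m hw1ne
  have hind2 := ind2_of_func m0 hm0 hw2m hw2ne
  have hmemU : ∀ w : V4 𝕜, F a a w = 0 → F a w w = 0 →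
      ∀ x ∈ Submodule.span 𝕜 ({a, w} : Set (V4 𝕜)), F a a x = 0 ∧ F a x x = 0 := by
    intro w hwτ hwq x hx
    obtain ⟨α, β, rfl⟩ := Submodule.mem_span_pair.mp hx
    constructor
    · rw [h.add₃, h.smul₃, h.smul₃, ha0, hwτ]; ring
    · rw [h.bil2, ha0, hwτ, hwq]; ring
  refine ⟨Submodule.span 𝕜 {a, s1 • x0 + (1:𝕜) • x1}, Submodule.span 𝕜 {a, s2 • x0 + (1:𝕜) • x1},
    finrank_span2 hind1, finrank_span2 hind2,
    Submodule.subset_span (by simp), Submodule.subset_span (by simp),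
    fun x hx => (hmemU _ hw1τ hw1q x hx).1, fun x hx => (hmemU _ hw2τ hw2q x hx).1, ?_⟩
  intro x
  constructor
  · rintro ⟨hxτ, hxq⟩
    have hyτ : h.lin a a (x - (m0 x / m0 a) • a) = 0 := by
      rw [map_sub, map_smul, hτa, smul_zero, sub_zero]; exact hxτ
    have hym : m0 (x - (m0 x / m0 a) • a) = 0 := by
      rw [map_sub, map_smul, smul_eq_mul, div_mul_cancel₀ _ hm0, sub_self]
    obtain ⟨s, t, hst⟩ := K_span (h.lin a a) m0 a hτ hτa hm0 hx0τ hx0m hx1τ hx1m hind _ hyτ hym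
    have hyq : F a (x - (m0 x / m0 a) • a) (x - (m0 x / m0 a) • a) = 0 := by
      have e1 : x - (m0 x / m0 a) • a = (1:𝕜) • x + (-(m0 x / m0 a)) • a := by vec_ring
      rw [e1, h.bil2, hxq, ha0, h.symm23 a x a, hxτ]; ring
    rw [hst, h.bil2] at hyq
    have hprod : (F a x0 x0 * s - F a x0 x0 * s1 * t) * (F a x0 x0 * s - F a x0 x0 * s2 * t)
        = 0 := by
      rw [← hfact s t]; linear_combination (F a x0 x0) * hyq
    rcases mul_eq_zero.mp hprod with h1 | h1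
    · left
      have hs : s = s1 * t := by
        have h2 : F a x0 x0 * (s - s1 * t) = 0 := by linear_combination h1
        have h3 := (mul_eq_zero.mp h2).resolve_left hx0q
        linear_combination h3
      refine Submodule.mem_span_pair.mpr ⟨m0 x / m0 a, t, ?_⟩
      calc (m0 x / m0 a) • a + t • (s1 • x0 + (1:𝕜) • x1)
          = (m0 x / m0 a) • a + ((s1 * t) • x0 + t • x1) := by vec_ring
        _ = (m0 x / m0 a) • a + (x - (m0 x / m0 a) • a) := by rw [← hs, ← hst]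
        _ = x := by vec_ring
    · right
      have hs : s = s2 * t := by
        have h2 : F a x0 x0 * (s - s2 * t) = 0 := by linear_combination h1
        have h3 := (mul_eq_zero.mp h2).resolve_left hx0q
        linear_combination h3
      refine Submodule.mem_span_pair.mpr ⟨m0 x / m0 a, t, ?_⟩
      calc (m0 x / m0 a) • a + t • (s2 • x0 + (1:𝕜) • x1)
          = (m0 x / m0 a) • a + ((s2 * t) • x0 + t • x1) := by vec_ring
        _ = (m0 x / m0 a) • a + (x - (m0 x / m0 a) • a) := by rw [← hs, ← hst]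
        _ = x := by vec_ring
  · rintro (hx | hx)
    · exact hmemU _ hw1τ hw1q x hx
    · exact hmemU _ hw2τ hw2q x hx

/-! ### T-points -/

lemma tpoint_of_quad_zero (f : MvPolynomial (Fin 4) 𝕜) (hG : Good f) (a : V4 𝕜)
    (ha0 : Pol f a a a = 0) (hτ : (tri_Pol hG).lin a a ≠ 0) (m0 : (V4 𝕜) →ₗ[𝕜] 𝕜)
    (hm0 : m0 a ≠ 0)
    (hq : ∀ x, Pol f a a x = 0 → m0 x = 0 → Pol f a x x = 0)
    (c : Fin 4 → 𝕜) (hc : ∀ x : V4 𝕜, ∑ j, c j * x j = 3 * Pol f a a x) :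
    ∃ L₁ L₂ L₃ : MvPolynomial (Fin 4) 𝕜, L₁.IsHomogeneous 1 ∧ L₂.IsHomogeneous 1 ∧
      L₃.IsHomogeneous 1 ∧
      f - L₁ * L₂ * L₃ ∈ Ideal.span {(∑ j : Fin 4, C (c j) * X j : MvPolynomial (Fin 4) 𝕜)} := by
  have h := tri_Pol hG
  have hτa : h.lin a a a = 0 := ha0
  obtain ⟨k1, k2, hk1τ', hk1m, hk2τ', hk2m, hind⟩ := K_exists (h.lin a a) m0 a hτ hτa hm0
  have hk1τ : Pol f a a k1 = 0 := hk1τ'
  have hk2τ : Pol f a a k2 = 0 := hk2τ'
  obtain ⟨Ψ, hΨ⟩ : ∃ Ψ : (Fin 3 → 𝕜) →ₗ[𝕜] (V4 𝕜), ∀ v, Ψ v = v 0 • a + v 1 • k1 + v 2 • k2 :=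
    ⟨(LinearMap.proj 0).smulRight a + (LinearMap.proj 1).smulRight k1
      + (LinearMap.proj 2).smulRight k2, fun v => by simp⟩
  have hinj : LinearMap.ker Ψ = ⊥ := by
    rw [LinearMap.ker_eq_bot']
    intro v hv
    rw [hΨ] at hv
    have h0 : v 0 = 0 := by
      have := congrArg m0 hv
      rw [map_add, map_add, map_smul, map_smul, map_smul, hk1m, hk2m, map_zero, smul_eq_mul,
        smul_eq_mul, smul_eq_mul, mul_zero, mul_zero, add_zero, add_zero] at this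
      exact (mul_eq_zero.mp this).resolve_right hm0
    rw [h0, zero_smul, zero_add] at hv
    obtain ⟨h1, h2⟩ := hind _ _ hv
    ext j
    fin_cases j
    · exact h0
    · exact h1
    · exact h2
  obtain ⟨ρ, hρ⟩ := Ψ.exists_leftInverse_of_injective hinj
  have hρ' : ∀ v, ρ (Ψ v) = v := fun v => LinearMap.congr_fun hρ v
  have hstruct : ∀ x, Pol f a a x = 0 → ∃ c0 s t : 𝕜,
      x = c0 • a + (1:𝕜) • (s • k1 + t • k2) ∧ ρ x 1 = s ∧ ρ x 2 = t := by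
    intro x hx
    have hyτ : h.lin a a (x - (m0 x / m0 a) • a) = 0 := by
      rw [map_sub, map_smul, hτa, smul_zero, sub_zero]; exact hx
    have hym : m0 (x - (m0 x / m0 a) • a) = 0 := by
      rw [map_sub, map_smul, smul_eq_mul, div_mul_cancel₀ _ hm0, sub_self]
    obtain ⟨s, t, hst⟩ := K_span (h.lin a a) m0 a hτ hτa hm0 hk1τ hk1m hk2τ hk2m hind _ hyτ hym
    generalize m0 x / m0 a = c0 at hst
    have hx' : x = Ψ ![c0, s, t] := by
      rw [hΨ]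
      have e0 : (![c0, s, t] : Fin 3 → 𝕜) 0 = c0 := rfl
      have e1 : (![c0, s, t] : Fin 3 → 𝕜) 1 = s := rfl
      have e2 : (![c0, s, t] : Fin 3 → 𝕜) 2 = t := rfl
      rw [e0, e1, e2, add_assoc, ← hst]; vec_ring
    refine ⟨c0, s, t, ?_, ?_, ?_⟩
    · rw [one_smul, ← hst]; vec_ring
    · rw [hx', hρ']; rfl
    · rw [hx', hρ']; rfl
  have hcub : ∀ x, Pol f a a x = 0 → Pol f x x x
      = Pol f k1 k1 k1 * (ρ x 1) ^ 3 + 3 * Pol f k1 k1 k2 * (ρ x 1) ^ 2 * (ρ x 2)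
        + 3 * Pol f k1 k2 k2 * (ρ x 1) * (ρ x 2) ^ 2 + Pol f k2 k2 k2 * (ρ x 2) ^ 3 := by
    intro x hx
    obtain ⟨c0, s, t, hx', hs, ht⟩ := hstruct x hx
    rw [hs, ht]
    have t1 : Pol f a a (s • k1 + t • k2) = 0 := by
      rw [h.add₃, h.smul₃, h.smul₃, hk1τ, hk2τ]; ring
    have t1m : m0 (s • k1 + t • k2) = 0 := by
      rw [map_add, map_smul, map_smul, hk1m, hk2m]; simp
    have t2 := hq _ t1 t1m
    rw [hx', h.cube2, ha0, t1, t2, h.cube2]; ring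
  obtain ⟨l1, m1, l2, m2, l3, m3, hsplit⟩ := cubic_split (Pol f k1 k1 k1) (3 * Pol f k1 k1 k2)
    (3 * Pol f k1 k2 k2) (Pol f k2 k2 k2)
  obtain ⟨σ, hσ⟩ : ∃ σ : (V4 𝕜) →ₗ[𝕜] 𝕜, ∀ x, σ x = ρ x 1 :=
    ⟨(LinearMap.proj 1).comp ρ, fun x => rfl⟩
  obtain ⟨θ, hθ⟩ : ∃ θ : (V4 𝕜) →ₗ[𝕜] 𝕜, ∀ x, θ x = ρ x 2 :=
    ⟨(LinearMap.proj 2).comp ρ, fun x => rfl⟩
  refine ⟨linPoly (l1 • σ + m1 • θ), linPoly (l2 • σ + m2 • θ), linPoly (l3 • σ + m3 • θ),
    linPoly_hom _, linPoly_hom _, linPoly_hom _, ?_⟩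
  obtain ⟨i0, hi0⟩ : ∃ i, c i ≠ 0 := by
    by_contra hcon
    push Not at hcon
    apply hτ
    apply LinearMap.ext
    intro x
    have := hc x
    simp only [hcon, zero_mul, Finset.sum_const_zero] at this
    rw [Tri.lin_apply, LinearMap.zero_apply]
    linear_combination (-1/3) * this
  apply hyp_div c i0 hi0
  intro x hx
  rw [hc] at hx
  have hx' : Pol f a a x = 0 := by linear_combination (1/3) * hx
  rw [map_sub, map_mul, map_mul, eval_linPoly, eval_linPoly, eval_linPoly, ← hG.diag,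
    hcub x hx', hsplit]
  simp only [LinearMap.add_apply, LinearMap.smul_apply, smul_eq_mul, hσ, hθ]
  ring

theorem main16352 (K : Type u) [Field K] [IsAlgClosed K] [CharZero K]
    (F : MvPolynomial (Fin 4) K) (hF : F.IsHomogeneous 3) (hirr : Irreducible F)
    (hcone : ¬ ∃ v : Fin 4 → K, v ≠ 0 ∧ ∑ i : Fin 4, v i • MvPolynomial.pderiv i F = 0)
    (a : Fin 4 → K) (ha : a ≠ 0) (hFa : MvPolynomial.eval a F = 0)
    (hsm : ∃ i : Fin 4, MvPolynomial.eval a (MvPolynomial.pderiv i F) ≠ 0)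
    (ℓ : MvPolynomial (Fin 4) K)
    (hℓ : ℓ = ∑ i : Fin 4, MvPolynomial.C (MvPolynomial.eval a (MvPolynomial.pderiv i F)) * MvPolynomial.X i)
    (hT : ¬ ∃ L₁ L₂ L₃ : MvPolynomial (Fin 4) K, L₁.IsHomogeneous 1 ∧ L₂.IsHomogeneous 1 ∧ L₃.IsHomogeneous 1 ∧
      F - L₁ * L₂ * L₃ ∈ Ideal.span {ℓ})
    (P : MvPolynomial (Fin 4) K) (hP : P = ∑ i : Fin 4, a i • MvPolynomial.pderiv i F)
    (H : Submodule K (Fin 4 → K)) (hH : ∀ x : Fin 4 → K, x ∈ H ↔ MvPolynomial.eval x ℓ = 0) :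
    (∃ U₁ U₂ : Submodule K (Fin 4 → K), Module.finrank K ↥U₁ = 2 ∧ Module.finrank K ↥U₂ = 2 ∧ a ∈ U₁ ∧ a ∈ U₂ ∧
        U₁ ≤ H ∧ U₂ ≤ H ∧ {x : Fin 4 → K | x ∈ H ∧ MvPolynomial.eval x P = 0} = (U₁ : Set (Fin 4 → K)) ∪ (U₂ : Set (Fin 4 → K))) ∧
      ∀ U : Submodule K (Fin 4 → K), a ∈ U → Module.finrank K ↥U = 2 → (∀ u ∈ U, MvPolynomial.eval u F = 0) →
        U ≤ H ∧ ∀ u ∈ U, MvPolynomial.eval u P = 0 := by
  have hG := good_of_homogeneous F hF
  have h := tri_Pol hG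
  have ha0 : Pol F a a a = 0 := by rw [hG.diag]; exact hFa
  have hℓx : ∀ x : V4 K, eval x ℓ = 3 * Pol F a a x := by
    intro x
    rw [hℓ]
    simp only [map_add, map_mul, eval_C, eval_X, Fin.sum_univ_four, hG.deriv]
    rw [h.coord a a x]; ring
  have hPx : ∀ x : V4 K, eval x P = 3 * Pol F a x x := by
    intro x
    rw [hP]
    simp only [map_add, smul_eval, Fin.sum_univ_four, hG.deriv]
    rw [h.symm13 a x x, h.coord x x a]; ring
  obtain ⟨i1, hi1⟩ := hsm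
  have hτ : h.lin a a ≠ 0 := by
    intro h0
    apply hi1
    rw [hG.deriv]
    have := LinearMap.congr_fun h0 (Pi.single i1 1)
    simp only [Tri.lin_apply, LinearMap.zero_apply] at this
    rw [this, mul_zero]
  have hHmem : ∀ x, x ∈ H ↔ Pol F a a x = 0 := by
    intro x
    rw [hH, hℓx]
    constructor
    · intro h3; linear_combination (1/3) * h3
    · intro h3; rw [h3, mul_zero]
  obtain ⟨i0, hi0⟩ : ∃ i, a i ≠ 0 := by
    by_contra hcon
    push Not at hcon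
    exact ha (funext hcon)
  obtain ⟨m0, hm0⟩ : ∃ m0 : (V4 K) →ₗ[K] K, m0 a ≠ 0 := ⟨LinearMap.proj i0, hi0⟩
  constructor
  · by_cases hq : ∀ x, Pol F a a x = 0 → m0 x = 0 → Pol F a x x = 0
    · exfalso
      apply hT
      obtain ⟨L1, L2, L3, h1, h2, h3, hmem⟩ := tpoint_of_quad_zero F hG a ha0 hτ m0 hm0 hq
        (fun j => eval a (pderiv j F)) (fun x => by
          rw [← hℓx x, hℓ]
          simp only [map_sum, map_mul, eval_C, eval_X])
      exact ⟨L1, L2, L3, h1, h2, h3, by rw [hℓ]; exact hmem⟩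
    · push Not at hq
      obtain ⟨x0, hx0τ, hx0m, hx0q⟩ := hq
      obtain ⟨U₁, U₂, hU1, hU2, ha1, ha2, hU1H, hU2H, hiff⟩ :=
        two_lines h ha0 hτ m0 hm0 x0 hx0τ hx0m hx0q
      refine ⟨U₁, U₂, hU1, hU2, ha1, ha2, fun x hx => (hHmem x).mpr (hU1H x hx),
        fun x hx => (hHmem x).mpr (hU2H x hx), ?_⟩
      ext x
      simp only [Set.mem_setOf_eq, Set.mem_union, SetLike.mem_coe]
      rw [hHmem, hPx, ← hiff]
      constructor
      · rintro ⟨h1, h2⟩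
        exact ⟨h1, by linear_combination (1/3) * h2⟩
      · rintro ⟨h1, h2⟩
        exact ⟨h1, by rw [h2, mul_zero]⟩
  · intro U haU hU hUz
    have := line_tangent h ha0 U haU (fun u hu => by rw [hG.diag]; exact hUz u hu)
    refine ⟨fun u hu => (hHmem u).mpr (this u hu).1, fun u hu => ?_⟩
    rw [hPx, (this u hu).2, mul_zero]

/-! ### plane sections are reduced -/

lemma eval_subst43 (A : Matrix (Fin 4) (Fin 3) 𝕜) (f : MvPolynomial (Fin 4) 𝕜) (y : Fin 3 → 𝕜) :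
    eval y (aeval (fun i : Fin 4 => ∑ j : Fin 3, C (A i j) * X j) f) = eval (A.mulVec y) f := by
  rw [eval_aeval_general]
  have : (fun i : Fin 4 => eval y (∑ j : Fin 3, C (A i j) * X j)) = A.mulVec y := by
    funext i
    simp [Matrix.mulVec, dotProduct]
  rw [this]

lemma split_deg_one {σ : Type*} (g : MvPolynomial σ 𝕜) (hg : g.totalDegree = 1) :
    ∃ g0 g1 : MvPolynomial σ 𝕜, g0.IsHomogeneous 0 ∧ g1.IsHomogeneous 1 ∧ g = g0 + g1 := by
  refine ⟨homogeneousComponent 0 g, homogeneousComponent 1 g,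
    homogeneousComponent_isHomogeneous _ _, homogeneousComponent_isHomogeneous _ _, ?_⟩
  have := sum_homogeneousComponent g
  rw [hg, Finset.sum_range_succ, Finset.sum_range_one] at this
  exact this.symm

lemma sq_factor_hom {σ : Type*} (G g c : MvPolynomial σ 𝕜) (hG : G.IsHomogeneous 3) (hG0 : G ≠ 0)
    (hfac : G = g * g * c) (hg : ¬ IsUnit g) :
    ∃ g1 c1 : MvPolynomial σ 𝕜, g1.IsHomogeneous 1 ∧ c1.IsHomogeneous 1 ∧ G = g1 * g1 * c1 := by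
  have hg0 : g ≠ 0 := by
    rintro rfl
    exact hG0 (by rw [hfac]; ring)
  have hc0 : c ≠ 0 := by
    rintro rfl
    exact hG0 (by rw [hfac]; ring)
  have hdeg : G.totalDegree = 3 := hG.totalDegree hG0
  have hd : g.totalDegree + g.totalDegree + c.totalDegree = 3 := by
    rw [← hdeg, hfac, totalDegree_mul_of_isDomain (mul_ne_zero hg0 hg0) hc0,
      totalDegree_mul_of_isDomain hg0 hg0]
  have hg1 : g.totalDegree ≠ 0 := by
    intro h0
    apply hg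
    rw [isUnit_iff_totalDegree_of_isReduced]
    refine ⟨?_, h0⟩
    rw [isUnit_iff_ne_zero]
    intro hc
    apply hg0
    rw [totalDegree_eq_zero_iff_eq_C.mp h0, hc, C_0]
  have hgd : g.totalDegree = 1 := by omega
  have hcd : c.totalDegree = 1 := by omega
  obtain ⟨g0, g1, hg0h, hg1h, rfl⟩ := split_deg_one g hgd
  obtain ⟨c0, c1, hc0h, hc1h, rfl⟩ := split_deg_one c hcd
  refine ⟨g1, c1, hg1h, hc1h, ?_⟩
  have e : (g0 + g1) * (g0 + g1) * (c0 + c1) = g1 * g1 * c1 + (g0 * g0 * c0 + g0 * g0 * c1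
      + g0 * g1 * c0 + g0 * g1 * c1 + g1 * g0 * c0 + g1 * g0 * c1 + g1 * g1 * c0) := by ring
  have key : ∀ (p q r : MvPolynomial σ 𝕜) (i j l : ℕ), p.IsHomogeneous i → q.IsHomogeneous j →
      r.IsHomogeneous l → i + j + l ≠ 3 → homogeneousComponent 3 (p * q * r) = 0 := by
    intro p q r i j l hp hq hr hn
    rw [homogeneousComponent_of_mem ((hp.mul hq).mul hr), if_neg (Ne.symm hn)]
  have h3 := congrArg (homogeneousComponent 3) hfac
  rw [homogeneousComponent_eq_self hG, e] at h3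
  simp only [map_add] at h3
  rw [homogeneousComponent_eq_self (n := 3) ((hg1h.mul hg1h).mul hc1h),
    key g0 g0 c0 0 0 0 hg0h hg0h hc0h (by norm_num),
    key g0 g0 c1 0 0 1 hg0h hg0h hc1h (by norm_num),
    key g0 g1 c0 0 1 0 hg0h hg1h hc0h (by norm_num),
    key g0 g1 c1 0 1 1 hg0h hg1h hc1h (by norm_num),
    key g1 g0 c0 1 0 0 hg1h hg0h hc0h (by norm_num),
    key g1 g0 c1 1 0 1 hg1h hg0h hc1h (by norm_num),
    key g1 g1 c0 1 1 0 hg1h hg1h hc0h (by norm_num)] at h3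
  rw [h3]; ring

lemma lin_of_hom1 {σ : Type*} (p : MvPolynomial σ 𝕜) (hp : p.IsHomogeneous 1) :
    ∃ γ : (σ → 𝕜) →ₗ[𝕜] 𝕜, ∀ y, eval y p = γ y := by
  have hmem : p ∈ Submodule.span 𝕜 (Set.range (X : σ → MvPolynomial σ 𝕜)) := by
    rw [← homogeneousSubmodule_one_eq_span_X]; exact hp
  refine Submodule.span_induction
    (p := fun x _ => ∃ γ : (σ → 𝕜) →ₗ[𝕜] 𝕜, ∀ y, eval y x = γ y) ?_ ?_ ?_ ?_ hmem
  · rintro _ ⟨i, rfl⟩
    exact ⟨LinearMap.proj i, fun y => by simp⟩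
  · exact ⟨0, fun y => by simp⟩
  · rintro p q _ _ ⟨γ1, h1⟩ ⟨γ2, h2⟩
    exact ⟨γ1 + γ2, fun y => by rw [map_add, h1, h2, LinearMap.add_apply]⟩
  · rintro c p _ ⟨γ1, h1⟩
    exact ⟨c • γ1, fun y => by rw [smul_eval, h1, LinearMap.smul_apply, smul_eq_mul]⟩

lemma double_line_false (h : Tri F) (hS : SmoothT F) (ψ : (V4 𝕜) →ₗ[𝕜] 𝕜) (hψ : ψ ≠ 0)
    (γ κ : (V4 𝕜) →ₗ[𝕜] 𝕜) (x0 : V4 𝕜) (hψx0 : ψ x0 = 0) (hγx0 : γ x0 ≠ 0)
    (hfac : ∀ x, ψ x = 0 → F x x x = γ x ^ 2 * κ x) : False := by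
  have hsing : ∀ y x, ψ y = 0 → γ y = 0 → ψ x = 0 → F y y x = 0 := by
    intro y x hy hγy hx
    have e1 := h.cube2 1 1 y x
    rw [one_smul, one_smul] at e1
    have e2 := h.cube2 1 (-1) y x
    rw [one_smul, neg_one_smul, ← sub_eq_add_neg] at e2
    have f1 := hfac (y + x) (by rw [map_add, hy, hx, add_zero])
    have f2 := hfac (y - x) (by rw [map_sub, hy, hx, sub_zero])
    have f3 := hfac y hy
    have f4 := hfac x hx
    rw [map_add, map_add, hγy, zero_add] at f1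
    rw [map_sub, map_sub, hγy, zero_sub] at f2
    rw [hγy] at f3
    linear_combination (1/6) * f1 - (1/6) * f2 - (1/6) * e1 + (1/6) * e2 - (1/3) * f4
  obtain ⟨k1, k2, hk1ψ, hk1γ, hk2ψ, hk2γ, hind⟩ := K_exists ψ γ x0 hψ hψx0 hγx0
  obtain ⟨n, hn⟩ := exists_eq_one ψ hψ
  obtain ⟨y, hyψ, hyγ, hyne, hyn⟩ : ∃ y, ψ y = 0 ∧ γ y = 0 ∧ y ≠ 0 ∧ F n y y = 0 := by
    by_cases hq : F n k1 k1 = 0
    · exact ⟨k1, hk1ψ, hk1γ, hind.left_ne, hq⟩
    · obtain ⟨r, hr⟩ := exists_quad_root (F n k1 k1) (2 * F n k1 k2) (F n k2 k2) hq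
      refine ⟨r • k1 + (1:𝕜) • k2, ?_, ?_, ?_, ?_⟩
      · rw [map_add, map_smul, map_smul, hk1ψ, hk2ψ]; simp
      · rw [map_add, map_smul, map_smul, hk1γ, hk2γ]; simp
      · intro h0
        exact one_ne_zero (hind r 1 h0).2
      · rw [h.bil2]; linear_combination hr
  obtain ⟨z, hz⟩ := hS y hyne (hsing y y hyψ hyγ hyψ)
  apply hz
  have h1 : F y y z = F y y (z - ψ z • n) + ψ z * F y y n := by
    rw [← h.smul₃, ← h.add₃, sub_add_cancel]
  rw [h1, h.symm13 y y n, hyn, mul_zero, add_zero]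
  apply hsing y _ hyψ hyγ
  rw [map_sub, map_smul, hn]; simp

theorem main12424 (k : Type u) [Field k] [IsAlgClosed k] [CharZero k]
    (f : MvPolynomial (Fin 4) k) (hf : f.IsHomogeneous 3) (hf0 : f ≠ 0)
    (hsm : ∀ v : Fin 4 → k, v ≠ 0 → MvPolynomial.eval v f = 0 →
      ∃ i : Fin 4, MvPolynomial.eval v (MvPolynomial.pderiv i f) ≠ 0)
    (A : Matrix (Fin 4) (Fin 3) k) (hA : A.rank = 3) :
    Squarefree (MvPolynomial.aeval (fun i : Fin 4 => ∑ j : Fin 3, MvPolynomial.C (A i j) * MvPolynomial.X j) f) := by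
  have hG := good_of_homogeneous f hf
  have h := tri_Pol hG
  have hS := smoothT_of hG hsm
  have hev : ∀ y, eval y (aeval (fun i : Fin 4 => ∑ j : Fin 3, C (A i j) * X j) f)
      = Pol f (A.mulVec y) (A.mulVec y) (A.mulVec y) := fun y => by
    rw [hG.diag]; exact eval_subst43 A f y
  have hrange : Module.finrank k ↥(LinearMap.range A.mulVecLin) = 3 := hA
  have hinj : LinearMap.ker A.mulVecLin = ⊥ := by
    have h1 := LinearMap.finrank_range_add_finrank_ker A.mulVecLin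
    rw [hrange] at h1
    have h2 : Module.finrank k (Fin 3 → k) = 3 := by simp
    rw [h2] at h1
    apply Submodule.finrank_eq_zero.mp
    omega
  obtain ⟨ψ, hψ, hker⟩ := hyp_eq_ker _ hrange
  have hψA : ∀ y, ψ (A.mulVec y) = 0 := fun y => by
    have : A.mulVec y ∈ LinearMap.range A.mulVecLin := ⟨y, rfl⟩
    rw [hker] at this
    exact LinearMap.mem_ker.mp this
  have hψA' : ∀ x, ψ x = 0 → ∃ y, A.mulVec y = x := fun x hx => by
    have : x ∈ LinearMap.range A.mulVecLin := by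
      rw [hker]; exact LinearMap.mem_ker.mpr hx
    obtain ⟨y, hy⟩ := this
    exact ⟨y, hy⟩
  have hG0 : aeval (fun i : Fin 4 => ∑ j : Fin 3, C (A i j) * X j) f ≠ 0 := by
    intro h0
    apply hyp_false h hS ψ hψ
    intro x hx
    obtain ⟨y, rfl⟩ := hψA' x hx
    rw [← hev, h0, map_zero]
  have hGh : (aeval (fun i : Fin 4 => ∑ j : Fin 3, C (A i j) * X j) f).IsHomogeneous 3 := by
    have := hf.aeval (fun i : Fin 4 => ∑ j : Fin 3, (C (A i j) * X j : MvPolynomial (Fin 3) k))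
      (n := 1) (fun i => IsHomogeneous.sum _ _ _ (fun j _ => isHomogeneous_C_mul_X _ _))
    simpa using this
  intro g hgdvd
  by_contra hgu
  obtain ⟨c, hc⟩ := hgdvd
  obtain ⟨g1, c1, hg1, hc1, hfac⟩ := sq_factor_hom _ g c hGh hG0 hc hgu
  obtain ⟨γ, hγ⟩ := lin_of_hom1 g1 hg1
  obtain ⟨κ, hκ⟩ := lin_of_hom1 c1 hc1
  obtain ⟨ρ, hρ⟩ := A.mulVecLin.exists_leftInverse_of_injective hinj
  have hρ' : ∀ y, ρ (A.mulVec y) = y := fun y => LinearMap.congr_fun hρ y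
  have hγ0 : ∃ y, γ y ≠ 0 := by
    by_contra hcon
    push Not at hcon
    apply hG0
    have : g1 = 0 := by
      apply MvPolynomial.funext
      intro y
      rw [hγ, hcon, map_zero]
    rw [hfac, this]; ring
  obtain ⟨y0, hy0⟩ := hγ0
  refine double_line_false h hS ψ hψ (γ.comp ρ) (κ.comp ρ) (A.mulVec y0) (hψA y0) ?_ ?_
  · rw [LinearMap.comp_apply, hρ']; exact hy0
  · intro x hx
    obtain ⟨y, rfl⟩ := hψA' x hx
    rw [← hev, hfac, LinearMap.comp_apply, LinearMap.comp_apply, hρ', map_mul, map_mul, hγ, hκ]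
    ring

end Groth.Agent.Lib.CubicSurfKH1
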