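import Mathlib
import Groth.Agent.Lib.CubicSurfK5_helper1

/-!
# T-points of cubic surfaces, the smooth case

On a smooth cubic surface over an algebraically closed field of characteristic zero there is a
point whose tangent plane section is not a product of three linear forms.
-/

set_option autoImplicit false
set_option maxHeartbeats 1000000

namespace Groth.Agent.Lib.CubicAvH1

open MvPolynomial
open Groth.Agent.Lib.CubicSurfKH1

variable {𝕜 : Type*} [Field 𝕜] [IsAlgClosed 𝕜] [CharZero 𝕜]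
variable {T : V4 𝕜 → V4 𝕜 → V4 𝕜 → 𝕜}

/-- the tangent plane section at `b` is a product of three linear forms -/
def Fac (T : V4 𝕜 → V4 𝕜 → V4 𝕜 → 𝕜) (b : V4 𝕜) : Prop :=
  ∃ l1 l2 l3 : V4 𝕜 →ₗ[𝕜] 𝕜, ∀ x, T b b x = 0 → T x x x = l1 x * l2 x * l3 x

lemma factor_through (b : V4 𝕜) (hb : T b b b = 0) (hF : Fac T b) :
    ∃ (l : V4 𝕜 →ₗ[𝕜] 𝕜) (q : V4 𝕜 → 𝕜), l b = 0 ∧ ∀ x, T b b x = 0 → T x x x = l x * q x := by
  obtain ⟨l1, l2, l3, hf⟩ := hF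
  have h0 : l1 b * l2 b * l3 b = 0 := by rw [← hf b hb, hb]
  rcases mul_eq_zero.mp h0 with h12 | h3
  · rcases mul_eq_zero.mp h12 with h1 | h2
    · exact ⟨l1, fun x => l2 x * l3 x, h1, fun x hx => by rw [hf x hx]; ring⟩
    · exact ⟨l2, fun x => l1 x * l3 x, h2, fun x hx => by rw [hf x hx]; ring⟩
  · exact ⟨l3, fun x => l1 x * l2 x, h3, fun x hx => by rw [hf x hx]; ring⟩

/-- a product of three linear forms vanishing on a line: one of them vanishes on the line -/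
lemma prod3_zero_on_line {u v : V4 𝕜} (l1 l2 l3 : V4 𝕜 →ₗ[𝕜] 𝕜)
    (hz : ∀ s t : 𝕜, l1 (s • u + t • v) * l2 (s • u + t • v) * l3 (s • u + t • v) = 0) :
    (l1 u = 0 ∧ l1 v = 0) ∨ (l2 u = 0 ∧ l2 v = 0) ∨ (l3 u = 0 ∧ l3 v = 0) := by
  have key : ∀ l : V4 𝕜 →ₗ[𝕜] 𝕜,
      (Polynomial.C (l u) + Polynomial.C (l v) * Polynomial.X : Polynomial 𝕜) = 0 →
      l u = 0 ∧ l v = 0 := by
    intro l h0
    have e0 := congrArg (Polynomial.eval 0) h0
    have e1 := congrArg (Polynomial.eval 1) h0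
    simp only [Polynomial.eval_add, Polynomial.eval_mul, Polynomial.eval_C, Polynomial.eval_X,
      mul_zero, add_zero, mul_one, Polynomial.eval_zero] at e0 e1
    exact ⟨e0, by rw [e0, zero_add] at e1; exact e1⟩
  have hprod : (Polynomial.C (l1 u) + Polynomial.C (l1 v) * Polynomial.X : Polynomial 𝕜)
      * (Polynomial.C (l2 u) + Polynomial.C (l2 v) * Polynomial.X)
      * (Polynomial.C (l3 u) + Polynomial.C (l3 v) * Polynomial.X) = 0 := by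
    apply Polynomial.funext
    intro t
    have := hz 1 t
    simp only [map_add, map_smul, smul_eq_mul, one_mul] at this
    simp only [Polynomial.eval_add, Polynomial.eval_mul, Polynomial.eval_C, Polynomial.eval_X,
      Polynomial.eval_zero]
    linear_combination this
  rcases mul_eq_zero.mp hprod with h12 | h3
  · rcases mul_eq_zero.mp h12 with h1 | h2
    · exact Or.inl (key l1 h1)
    · exact Or.inr (Or.inl (key l2 h2))
  · exact Or.inr (Or.inr (key l3 h3))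

/-- a linear factor of a plane section gives a line on the surface -/
lemma line_of_factor (hnl : ∀ ψ : V4 𝕜 →ₗ[𝕜] 𝕜, ψ ≠ 0 → ¬ ∀ x, ψ x = 0 → T x x x = 0)
    (τ l : V4 𝕜 →ₗ[𝕜] 𝕜) (hτ : τ ≠ 0) (q : V4 𝕜 → 𝕜)
    (hfac : ∀ x, τ x = 0 → T x x x = l x * q x) :
    Module.finrank 𝕜 ↥(LinearMap.ker τ ⊓ LinearMap.ker l) = 2 ∧
      ∀ x ∈ LinearMap.ker τ ⊓ LinearMap.ker l, T x x x = 0 := by
  have hex : ∃ p, τ p = 0 ∧ l p ≠ 0 := by
    by_contra hcon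
    push Not at hcon
    exact hnl τ hτ (fun x hx => by rw [hfac x hx, hcon x hx, zero_mul])
  obtain ⟨p, hp1, hp2⟩ := hex
  refine ⟨finrank_inf_ker τ l p hτ hp1 hp2, fun x hx => ?_⟩
  rw [Submodule.mem_inf, LinearMap.mem_ker, LinearMap.mem_ker] at hx
  rw [hfac x hx.1, hx.2, zero_mul]

/-- the three lines of a plane section of a smooth cubic surface are distinct -/
lemma pair_distinct (h : Tri T) (hS : SmoothT T) (τ la lb lc : V4 𝕜 →ₗ[𝕜] 𝕜) (hτ : τ ≠ 0)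
    (hf : ∀ x, τ x = 0 → T x x x = la x * lb x * lc x) :
    LinearMap.ker τ ⊓ LinearMap.ker la ≠ LinearMap.ker τ ⊓ LinearMap.ker lb := by
  intro heq
  obtain ⟨x1, hx1τ, hx1⟩ : ∃ x1, τ x1 = 0 ∧ la x1 ≠ 0 := by
    by_contra hcon
    push Not at hcon
    exact hyp_false h hS τ hτ (fun x hx => by rw [hf x hx, hcon x hx]; ring)
  have hprop : ∀ x, τ x = 0 → lb x = (lb x1 / la x1) * la x := by
    intro x hx
    have hy : x - (la x / la x1) • x1 ∈ LinearMap.ker τ ⊓ LinearMap.ker la := by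
      rw [Submodule.mem_inf, LinearMap.mem_ker, LinearMap.mem_ker]
      constructor
      · rw [map_sub, map_smul, hx, hx1τ, smul_zero, sub_zero]
      · rw [map_sub, map_smul, smul_eq_mul, div_mul_cancel₀ _ hx1, sub_self]
    rw [heq, Submodule.mem_inf, LinearMap.mem_ker, LinearMap.mem_ker] at hy
    have e := hy.2
    rw [map_sub, map_smul, smul_eq_mul] at e
    linear_combination e
  apply nonreduced_false h hS τ hτ la ((lb x1 / la x1) • lc)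
  intro x hx
  rw [hf x hx, hprop x hx, LinearMap.smul_apply, smul_eq_mul]
  ring

lemma mem_tritangent_of (h : Tri T) (hS : SmoothT T) (τ la lb lc : V4 𝕜 →ₗ[𝕜] 𝕜) (hτ : τ ≠ 0)
    (hf : ∀ x, τ x = 0 → T x x x = la x * lb x * lc x) :
    ∃ L' L'' : Submodule 𝕜 (V4 𝕜), Module.finrank 𝕜 ↥L' = 2 ∧ Module.finrank 𝕜 ↥L'' = 2 ∧
        L' ≠ LinearMap.ker τ ⊓ LinearMap.ker la ∧ L'' ≠ LinearMap.ker τ ⊓ LinearMap.ker la ∧
        L' ≠ L'' ∧ L' ≤ LinearMap.ker τ ∧ L'' ≤ LinearMap.ker τ ∧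
        (∀ u ∈ L', T u u u = 0) ∧ (∀ u ∈ L'', T u u u = 0) := by
  have hnl : ∀ ψ : V4 𝕜 →ₗ[𝕜] 𝕜, ψ ≠ 0 → ¬ ∀ x, ψ x = 0 → T x x x = 0 :=
    fun ψ hψ hz => hyp_false h hS ψ hψ hz
  have hfb : ∀ x, τ x = 0 → T x x x = lb x * (la x * lc x) := fun x hx => by
    rw [hf x hx]; ring
  have hfc : ∀ x, τ x = 0 → T x x x = lc x * (la x * lb x) := fun x hx => by
    rw [hf x hx]; ring
  obtain ⟨hb2, hbz⟩ := line_of_factor hnl τ lb hτ (fun x => la x * lc x) hfb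
  obtain ⟨hc2, hcz⟩ := line_of_factor hnl τ lc hτ (fun x => la x * lb x) hfc
  refine ⟨_, _, hb2, hc2, ?_, ?_, ?_, inf_le_left, inf_le_left, hbz, hcz⟩
  · exact (pair_distinct h hS τ la lb lc hτ hf).symm
  · exact (pair_distinct h hS τ la lc lb hτ (fun x hx => by rw [hf x hx]; ring)).symm
  · exact pair_distinct h hS τ lb lc la hτ (fun x hx => by rw [hf x hx]; ring)

lemma tritangent_aux (h : Tri T) (hS : SmoothT T) (L : Submodule 𝕜 (V4 𝕜))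
    (hL2 : Module.finrank 𝕜 ↥L = 2)
    (τ la lb lc : V4 𝕜 →ₗ[𝕜] 𝕜) (hτ : τ ≠ 0) (hLτ : L ≤ LinearMap.ker τ)
    (hLa : L ≤ LinearMap.ker la)
    (hf : ∀ x, τ x = 0 → T x x x = la x * lb x * lc x) :
    ∃ L' L'' : Submodule 𝕜 (V4 𝕜), Module.finrank 𝕜 ↥L' = 2 ∧ Module.finrank 𝕜 ↥L'' = 2 ∧
        L' ≠ L ∧ L'' ≠ L ∧ L' ≠ L'' ∧ L' ≤ LinearMap.ker τ ∧ L'' ≤ LinearMap.ker τ ∧
        (∀ u ∈ L', T u u u = 0) ∧ (∀ u ∈ L'', T u u u = 0) := by
  have hnl : ∀ ψ : V4 𝕜 →ₗ[𝕜] 𝕜, ψ ≠ 0 → ¬ ∀ x, ψ x = 0 → T x x x = 0 :=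
    fun ψ hψ hz => hyp_false h hS ψ hψ hz
  have hLeq : L = LinearMap.ker τ ⊓ LinearMap.ker la := by
    apply Submodule.eq_of_le_of_finrank_eq (le_inf hLτ hLa)
    rw [hL2]
    exact (line_of_factor hnl τ la hτ (fun x => lb x * lc x)
      (fun x hx => by rw [hf x hx]; ring)).1.symm
  rw [hLeq]
  exact mem_tritangent_of h hS τ la lb lc hτ hf

/-- **smooth case**: some point is not a T-point -/
theorem exists_nonfac_smooth (h : Tri T) (hS : SmoothT T) :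
    ∃ a : V4 𝕜, a ≠ 0 ∧ T a a a = 0 ∧ ¬ Fac T a := by
  classical
  by_contra hcon
  push Not at hcon
  have hnl : ∀ ψ : V4 𝕜 →ₗ[𝕜] 𝕜, ψ ≠ 0 → ¬ ∀ x, ψ x = 0 → T x x x = 0 :=
    fun ψ hψ hz => hyp_false h hS ψ hψ hz
  have hτne : ∀ p : V4 𝕜, p ≠ 0 → T p p p = 0 → h.lin p p ≠ 0 := by
    intro p hp hp0 h0
    obtain ⟨y, hy⟩ := hS p hp hp0
    apply hy
    have := LinearMap.congr_fun h0 y
    simpa using this
  -- a point
  obtain ⟨b0, hb00, hb0⟩ : ∃ b0 : V4 𝕜, b0 ≠ 0 ∧ T b0 b0 b0 = 0 := by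
    obtain ⟨e0, he0⟩ : ∃ e0 : V4 𝕜, e0 = Pi.single 0 1 := ⟨_, rfl⟩
    obtain ⟨e1, he1⟩ : ∃ e1 : V4 𝕜, e1 = Pi.single 1 1 := ⟨_, rfl⟩
    by_cases h1 : T e1 e1 e1 = 0
    · refine ⟨e1, ?_, h1⟩
      intro h0
      have := congrFun h0 1
      rw [he1] at this
      simp at this
    · obtain ⟨t, ht⟩ := exists_cubic_root (T e1 e1 e1) (3 * T e0 e1 e1) (3 * T e0 e0 e1)
        (T e0 e0 e0) h1
      refine ⟨(1:𝕜) • e0 + t • e1, ?_, ?_⟩
      · intro h0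
        have := congrFun h0 0
        rw [he0, he1] at this
        simp at this
      · rw [h.cube2]; linear_combination ht
  -- a line through it
  obtain ⟨l, q, hlb, hfac0⟩ := factor_through b0 hb0 (hcon b0 hb00 hb0)
  have hτ0 := hτne b0 hb00 hb0
  obtain ⟨hL2, hLz⟩ := line_of_factor hnl (h.lin b0 b0) l hτ0 q (fun x hx => hfac0 x hx)
  obtain ⟨L, hLdef⟩ : ∃ L : Submodule 𝕜 (V4 𝕜),
      L = LinearMap.ker (h.lin b0 b0) ⊓ LinearMap.ker l := ⟨_, rfl⟩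
  rw [← hLdef] at hL2 hLz
  have hb0L : b0 ∈ L := by
    rw [hLdef, Submodule.mem_inf, LinearMap.mem_ker, LinearMap.mem_ker]
    exact ⟨hb0, hlb⟩
  obtain ⟨v, hvL, hind, hexp⟩ := line_struct L hL2 hb0L hb00
  -- the points
  obtain ⟨p, hp⟩ : ∃ p : ℕ → V4 𝕜, ∀ j, p j = (1:𝕜) • b0 + (j:𝕜) • v := ⟨_, fun _ => rfl⟩
  have hpL : ∀ j, p j ∈ L := fun j => by
    rw [hp]; exact L.add_mem (L.smul_mem _ hb0L) (L.smul_mem _ hvL)
  have hp0 : ∀ j, p j ≠ 0 := fun j h0 => by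
    rw [hp] at h0
    exact one_ne_zero (hind _ _ h0).1
  have hpz : ∀ j, T (p j) (p j) (p j) = 0 := fun j => hLz _ (hpL j)
  have hLH : ∀ j, L ≤ LinearMap.ker (h.lin (p j) (p j)) := by
    intro j x hx
    rw [LinearMap.mem_ker, Tri.lin_apply]
    exact h.eq_zero_of_submodule L hLz (hpL j) (hpL j) hx
  obtain ⟨𝒯, h𝒯⟩ : ∃ 𝒯 : Set (Submodule 𝕜 (V4 𝕜)),
      𝒯 = {H : Submodule 𝕜 (V4 𝕜) | Module.finrank 𝕜 ↥H = 3 ∧ L ≤ H ∧
      ∃ L' L'' : Submodule 𝕜 (V4 𝕜), Module.finrank 𝕜 ↥L' = 2 ∧ Module.finrank 𝕜 ↥L'' = 2 ∧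
        L' ≠ L ∧ L'' ≠ L ∧ L' ≠ L'' ∧ L' ≤ H ∧ L'' ≤ H ∧
        (∀ u ∈ L', T u u u = 0) ∧ (∀ u ∈ L'', T u u u = 0)} := ⟨_, rfl⟩
  have h5 : 𝒯.ncard = 5 := by rw [h𝒯]; exact five_planes h hS L hL2 hLz
  have hfin : 𝒯.Finite := Set.finite_of_ncard_ne_zero (by rw [h5]; norm_num)
  have hmem : ∀ j, LinearMap.ker (h.lin (p j) (p j)) ∈ 𝒯 := by
    intro j
    obtain ⟨l1, l2, l3, hf⟩ := hcon (p j) (hp0 j) (hpz j)
    have hτ := hτne (p j) (hp0 j) (hpz j)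
    have hf' : ∀ x, h.lin (p j) (p j) x = 0 → T x x x = l1 x * l2 x * l3 x :=
      fun x hx => hf x hx
    have hz : ∀ s t : 𝕜,
        l1 (s • b0 + t • v) * l2 (s • b0 + t • v) * l3 (s • b0 + t • v) = 0 := by
      intro s t
      have hx : s • b0 + t • v ∈ L := L.add_mem (L.smul_mem _ hb0L) (L.smul_mem _ hvL)
      rw [← hf' _ (LinearMap.mem_ker.mp (hLH j hx))]
      exact hLz _ hx
    have hLker : ∀ la : V4 𝕜 →ₗ[𝕜] 𝕜, la b0 = 0 → la v = 0 → L ≤ LinearMap.ker la := by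
      intro la h1 h2 x hx
      obtain ⟨a, b, rfl⟩ := hexp x hx
      rw [LinearMap.mem_ker, map_add, map_smul, map_smul, h1, h2, smul_zero, smul_zero, add_zero]
    rw [h𝒯]
    refine ⟨finrank_ker _ hτ, hLH j, ?_⟩
    rcases prod3_zero_on_line l1 l2 l3 hz with ⟨hu, hv⟩ | ⟨hu, hv⟩ | ⟨hu, hv⟩
    · exact tritangent_aux h hS L hL2 _ l1 l2 l3 hτ (hLH j) (hLker l1 hu hv) hf'
    · exact tritangent_aux h hS L hL2 _ l2 l1 l3 hτ (hLH j) (hLker l2 hu hv)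
        (fun x hx => by rw [hf' x hx]; ring)
    · exact tritangent_aux h hS L hL2 _ l3 l1 l2 hτ (hLH j) (hLker l3 hu hv)
        (fun x hx => by rw [hf' x hx]; ring)
  obtain ⟨H, -, hcard⟩ := Finset.exists_lt_card_fiber_of_mul_lt_card_of_maps_to
    (s := Finset.range 11) (t := hfin.toFinset)
    (f := fun j => LinearMap.ker (h.lin (p j) (p j))) (n := 2)
    (fun j _ => by rw [Set.Finite.mem_toFinset]; exact hmem j)
    (by rw [← Set.ncard_eq_toFinset_card 𝒯 hfin, h5, Finset.card_range]; norm_num)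
  obtain ⟨j1, j2, j3, hj1, hj2, hj3, h12, h13, h23⟩ := Finset.two_lt_card_iff.mp hcard
  simp only [Finset.mem_filter, Finset.mem_range] at hj1 hj2 hj3
  have hker : ∀ w, T (p j1) (p j1) w = 0 →
      T (p j2) (p j2) w = 0 ∧ T (p j3) (p j3) w = 0 := by
    intro w hw
    have hwH : w ∈ H := by
      rw [← hj1.2, LinearMap.mem_ker, Tri.lin_apply]; exact hw
    constructor
    · have := hwH
      rw [← hj2.2, LinearMap.mem_ker, Tri.lin_apply] at this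
      exact this
    · have := hwH
      rw [← hj3.2, LinearMap.mem_ker, Tri.lin_apply] at this
      exact this
  have hexpand : ∀ (j : ℕ) (w : V4 𝕜), T (p j) (p j) w
      = T w b0 b0 + 2 * (j:𝕜) * T w b0 v + (j:𝕜) ^ 2 * T w v v := by
    intro j w
    rw [h.symm13 (p j) (p j) w, hp j, h.bil2]; ring
  have hcast : ∀ i j : ℕ, i ≠ j → ((i:𝕜) - (j:𝕜)) ≠ 0 := fun i j hij h0 =>
    hij (Nat.cast_injective (sub_eq_zero.mp h0))
  have hzero : ∀ w, T (p j1) (p j1) w = 0 → T w b0 b0 = 0 ∧ T w b0 v = 0 ∧ T w v v = 0 := by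
    intro w hw
    obtain ⟨hw2, hw3⟩ := hker w hw
    have e1 := hw
    have e2 := hw2
    have e3 := hw3
    rw [hexpand] at e1 e2 e3
    have d12 := hcast j1 j2 h12
    have d13 := hcast j1 j3 h13
    have d23 := hcast j2 j3 h23
    have hC : T w v v = 0 := by
      have : ((j1:𝕜) - j2) * ((j1:𝕜) - j3) * ((j2:𝕜) - j3) * T w v v = 0 := by
        linear_combination ((j2:𝕜) - j3) * e1 - ((j1:𝕜) - j3) * e2 + ((j1:𝕜) - j2) * e3
      exact (mul_eq_zero.mp this).resolve_left (mul_ne_zero (mul_ne_zero d12 d13) d23)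
    have hB : T w b0 v = 0 := by
      have : 2 * ((j1:𝕜) - j2) * T w b0 v = 0 := by
        linear_combination e1 - e2 - ((j1:𝕜) ^ 2 - (j2:𝕜) ^ 2) * hC
      exact (mul_eq_zero.mp this).resolve_left (mul_ne_zero two_ne_zero d12)
    refine ⟨?_, hB, hC⟩
    linear_combination e1 - 2 * (j1:𝕜) * hB - (j1:𝕜) ^ 2 * hC
  -- a singular point on the line
  obtain ⟨n, hn⟩ := exists_eq_one (h.lin (p j1) (p j1)) (hτne _ (hp0 j1) (hpz j1))
  obtain ⟨s, t, hst, hq⟩ : ∃ s t : 𝕜, (s ≠ 0 ∨ t ≠ 0) ∧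
      s ^ 2 * T n b0 b0 + 2 * s * t * T n b0 v + t ^ 2 * T n v v = 0 := by
    by_cases hA : T n b0 b0 = 0
    · exact ⟨1, 0, Or.inl one_ne_zero, by rw [hA]; ring⟩
    · obtain ⟨r, hr⟩ := exists_quad_root (T n b0 b0) (2 * T n b0 v) (T n v v) hA
      exact ⟨r, 1, Or.inr one_ne_zero, by linear_combination hr⟩
  obtain ⟨x0, hx0⟩ : ∃ x0 : V4 𝕜, x0 = s • b0 + t • v := ⟨_, rfl⟩
  have hx0L : x0 ∈ L := by
    rw [hx0]; exact L.add_mem (L.smul_mem _ hb0L) (L.smul_mem _ hvL)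
  have hx0ne : x0 ≠ 0 := by
    intro h0
    rw [hx0] at h0
    obtain ⟨hs, ht⟩ := hind _ _ h0
    rcases hst with h1 | h1
    · exact h1 hs
    · exact h1 ht
  obtain ⟨y, hy⟩ := hS x0 hx0ne (hLz _ hx0L)
  apply hy
  obtain ⟨c, hc⟩ : ∃ c : 𝕜, c = T (p j1) (p j1) y := ⟨_, rfl⟩
  obtain ⟨w, hwdef⟩ : ∃ w : V4 𝕜, w = y - c • n := ⟨_, rfl⟩
  have hyw : y = w + c • n := by rw [hwdef]; exact (sub_add_cancel y (c • n)).symm
  have hw : T (p j1) (p j1) w = 0 := by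
    have h1 : T (p j1) (p j1) n = 1 := hn
    rw [hwdef, h.sub₃, h.smul₃, ← hc, h1]; ring
  obtain ⟨z1, z2, z3⟩ := hzero w hw
  rw [hyw, h.add₃, h.smul₃, h.symm13 x0 x0 w, h.symm13 x0 x0 n, hx0, h.bil2, h.bil2, z1, z2, z3]
  linear_combination c * hq

end Groth.Agent.Lib.CubicAvH1
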