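import Mathlib
import Groth.Agent.Lib.CubicAv1_helper1

/-!
# T-points of cubic surfaces, the singular cases

For a singular point `a` of an irreducible cubic surface which does not lie on a double line,
all T-points lie on finitely many planes through `a`.  If `a` lies on a double line, the singular
locus is exactly that line.
-/

set_option autoImplicit false
set_option maxHeartbeats 1000000

namespace Groth.Agent.Lib.CubicAvH1

open MvPolynomial
open Groth.Agent.Lib.CubicSurfKH1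

variable {𝕜 : Type*} [Field 𝕜] [IsAlgClosed 𝕜] [CharZero 𝕜]
variable {T : V4 𝕜 → V4 𝕜 → V4 𝕜 → 𝕜}

lemma exists_annihilator (a r1 r2 : V4 𝕜) :
    ∃ f : V4 𝕜 →ₗ[𝕜] 𝕜, f ≠ 0 ∧ f a = 0 ∧ f r1 = 0 ∧ f r2 = 0 := by
  obtain ⟨bb, hbb⟩ : ∃ bb : Fin 3 → V4 𝕜, bb = ![a, r1, r2] := ⟨_, rfl⟩
  have hlt : Submodule.span 𝕜 (Set.range bb) < ⊤ := by
    rw [lt_top_iff_ne_top]
    intro htop
    have h1 : Module.finrank 𝕜 ↥(Submodule.span 𝕜 (Set.range bb)) ≤ Fintype.card (Fin 3) :=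
      finrank_range_le_card bb
    rw [htop, finrank_top, finrank_V4, Fintype.card_fin] at h1
    omega
  obtain ⟨f, hf, hle⟩ := Submodule.exists_le_ker_of_lt_top _ hlt
  have hm : ∀ i, f (bb i) = 0 := fun i =>
    LinearMap.mem_ker.mp (hle (Submodule.subset_span ⟨i, rfl⟩))
  refine ⟨f, hf, ?_, ?_, ?_⟩
  · have := hm 0
    rw [hbb] at this
    exact this
  · have := hm 1
    rw [hbb] at this
    exact this
  · have := hm 2
    rw [hbb] at this
    exact this

/-- the double line case: the singular locus is the line -/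
theorem sing_locus_of_N (h : Tri T)
    (hnl : ∀ ψ : V4 𝕜 →ₗ[𝕜] 𝕜, ψ ≠ 0 → ¬ ∀ x, ψ x = 0 → T x x x = 0)
    (a r : V4 𝕜) (hind : Ind2 a r) (sa : ∀ y, T a a y = 0) (sr : ∀ y, T r r y = 0)
    (sar : ∀ y, T a r y = 0) (x : V4 𝕜) :
    x ∈ Submodule.span 𝕜 ({a, r} : Set (V4 𝕜)) ↔ ∀ y, T x x y = 0 := by
  constructor
  · intro hx y
    obtain ⟨s, t, rfl⟩ := Submodule.mem_span_pair.mp hx
    rw [h.symm13 (s • a + t • r) (s • a + t • r) y, h.bil2, h.symm13 y a a, sa y,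
      h.symm13 y a r, h.symm12 r a y, sar y, h.symm13 y r r, sr y]
    ring
  · intro hx
    by_contra hxU
    have hLI2 : LinearIndependent 𝕜 ![a, r] := LinearIndependent.pair_iff.mpr hind
    have hLI3 : LinearIndependent 𝕜 (Fin.cons x ![a, r] : Fin 3 → V4 𝕜) := by
      rw [linearIndependent_finCons]
      refine ⟨hLI2, ?_⟩
      rw [Matrix.range_cons_cons_empty]
      exact hxU
    have hfr := finrank_span_eq_card hLI3
    rw [Fintype.card_fin] at hfr
    obtain ⟨ψ, hψ, hWψ⟩ := hyp_eq_ker _ hfr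
    apply hnl ψ hψ
    intro z hz
    have hzW : z ∈ Submodule.span 𝕜 (Set.range (Fin.cons x ![a, r] : Fin 3 → V4 𝕜)) := by
      rw [hWψ]; exact LinearMap.mem_ker.mpr hz
    obtain ⟨c, hc⟩ := (Submodule.mem_span_range_iff_exists_fun 𝕜).mp hzW
    rw [Fin.sum_univ_three] at hc
    have e : z = c 0 • x + c 1 • a + c 2 • r := hc.symm
    rw [e, h.cube3, hx x, sa a, sr r, hx a, hx r, h.symm13 x a a, sa x, sa r, h.symm13 x r r,
      sr x, sar r, h.symm13 x a r, h.symm12 r a x, sar x]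
    ring

/-- the singular case without double line: finitely many planes contain all T-points -/
theorem sing_list (h : Tri T)
    (hnl : ∀ ψ : V4 𝕜 →ₗ[𝕜] 𝕜, ψ ≠ 0 → ¬ ∀ x, ψ x = 0 → T x x x = 0)
    (a : V4 𝕜) (ha : a ≠ 0) (sing : ∀ y, T a a y = 0)
    (hfin : {U : Submodule 𝕜 (V4 𝕜) | a ∈ U ∧ Module.finrank 𝕜 ↥U = 2 ∧
      ∀ u ∈ U, T u u u = 0}.Finite)
    (hN : ¬ ∃ r, Ind2 a r ∧ (∀ y, T r r y = 0) ∧ (∀ y, T a r y = 0)) :
    ∃ Λ : List (V4 𝕜 →ₗ[𝕜] 𝕜), (∀ l ∈ Λ, l ≠ 0) ∧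
      ∀ b, T b b b = 0 → (∃ y, T b b y ≠ 0) → Fac T b → ∃ l ∈ Λ, l b = 0 := by
  classical
  -- representatives of the lines through `a`
  have hrep : ∀ U : Submodule 𝕜 (V4 𝕜), ∃ r : V4 𝕜,
      (a ∈ U ∧ Module.finrank 𝕜 ↥U = 2) → (r ∈ U ∧ Ind2 a r) := by
    intro U
    by_cases hU : a ∈ U ∧ Module.finrank 𝕜 ↥U = 2
    · obtain ⟨r, hr, hind⟩ := exists_indep U (le_of_eq hU.2.symm) hU.1 ha
      exact ⟨r, fun _ => ⟨hr, hind⟩⟩
    · exact ⟨0, fun h' => absurd h' hU⟩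
  choose rep hrep' using hrep
  obtain ⟨R, hR⟩ : ∃ R : List (V4 𝕜), R = hfin.toFinset.toList.map rep := ⟨_, rfl⟩
  have hZ : ∀ r, Ind2 a r → T a r r = 0 → T r r r = 0 →
      ∃ r' ∈ R, Ind2 a r' ∧ T a r' r' = 0 ∧ T r' r' r' = 0 ∧
        ∃ α β : 𝕜, β ≠ 0 ∧ r = α • a + β • r' := by
    intro r hind h1 h2
    obtain ⟨U, hUdef⟩ : ∃ U : Submodule 𝕜 (V4 𝕜),
        U = Submodule.span 𝕜 ({a, r} : Set (V4 𝕜)) := ⟨_, rfl⟩
    have hUz : ∀ u ∈ U, T u u u = 0 := by
      intro u hu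
      rw [hUdef] at hu
      obtain ⟨s, t, rfl⟩ := Submodule.mem_span_pair.mp hu
      rw [h.cube2, sing a, sing r, h1, h2]; ring
    have haU : a ∈ U := by rw [hUdef]; exact Submodule.subset_span (by simp)
    have hrU : r ∈ U := by rw [hUdef]; exact Submodule.subset_span (by simp)
    have hU2 : Module.finrank 𝕜 ↥U = 2 := by rw [hUdef]; exact finrank_span2 hind
    obtain ⟨hr'U, hind'⟩ := hrep' U ⟨haU, hU2⟩
    refine ⟨rep U, ?_, hind', ?_, ?_, ?_⟩
    · rw [hR]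
      exact List.mem_map.mpr ⟨U, by
        rw [Finset.mem_toList, Set.Finite.mem_toFinset]; exact ⟨haU, hU2, hUz⟩, rfl⟩
    · exact h.eq_zero_of_submodule U hUz haU hr'U hr'U
    · exact hUz _ hr'U
    · have hsp := span2_eq U hU2 haU hr'U hind'
      have hr : r ∈ Submodule.span 𝕜 ({a, rep U} : Set (V4 𝕜)) := by rw [hsp]; exact hrU
      obtain ⟨α, β, hαβ⟩ := Submodule.mem_span_pair.mp hr
      refine ⟨α, β, ?_, hαβ.symm⟩
      rintro rfl
      rw [zero_smul, add_zero] at hαβ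
      have := (hind α (-1) (by rw [← hαβ]; simp)).2
      norm_num at this
  -- the linear forms
  have hlamEx := fun r1 r2 : V4 𝕜 => exists_annihilator a r1 r2
  choose lam3 hlam3 using hlamEx
  obtain ⟨Λ, hΛ⟩ : ∃ Λ : List (V4 𝕜 →ₗ[𝕜] 𝕜),
      Λ = (R.flatMap (fun r' => h.lin a r' :: h.lin r' r' :: R.map (lam3 r'))).filter
        (fun l => decide (l ≠ 0)) := ⟨_, rfl⟩
  have hΛne : ∀ l ∈ Λ, l ≠ 0 := by
    intro l hl
    rw [hΛ, List.mem_filter] at hl
    exact of_decide_eq_true hl.2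
  have hΛmem : ∀ l : V4 𝕜 →ₗ[𝕜] 𝕜, l ≠ 0 →
      (∃ r' ∈ R, l = h.lin a r' ∨ l = h.lin r' r' ∨ ∃ r'' ∈ R, l = lam3 r' r'') → l ∈ Λ := by
    rintro l hl0 ⟨r', hr', hcase⟩
    rw [hΛ, List.mem_filter]
    refine ⟨List.mem_flatMap.mpr ⟨r', hr', ?_⟩, decide_eq_true hl0⟩
    rcases hcase with rfl | rfl | ⟨r'', hr'', rfl⟩
    · exact List.mem_cons_self
    · exact List.mem_cons_of_mem _ List.mem_cons_self
    · exact List.mem_cons_of_mem _ (List.mem_cons_of_mem _ (List.mem_map.mpr ⟨r'', hr'', rfl⟩))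
  have hNr : ∀ r', Ind2 a r' → h.lin a r' = 0 → h.lin r' r' ≠ 0 := by
    intro r' hind' hl1 hl2
    apply hN
    refine ⟨r', hind', fun y => ?_, fun y => ?_⟩
    · have := LinearMap.congr_fun hl2 y
      simpa using this
    · have := LinearMap.congr_fun hl1 y
      simpa using this
  refine ⟨Λ, hΛne, ?_⟩
  intro b hb hsm hFac
  obtain ⟨y0, hy0⟩ := hsm
  have hτ : h.lin b b ≠ 0 := fun h0 => hy0 (by
    have := LinearMap.congr_fun h0 y0
    simpa using this)
  have hb_ne : b ≠ 0 := by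
    rintro rfl
    exact hy0 (h.zero₁ _ _)
  by_cases hab : T a b b = 0
  · -- the line through `a` and `b` lies on the surface
    have hindab : Ind2 a b := by
      apply ind2_of_notMem ha
      intro hmem
      obtain ⟨c, rfl⟩ := Submodule.mem_span_singleton.mp hmem
      apply hy0
      rw [h.smul₁, h.smul₂, sing]; ring
    obtain ⟨r', hr'R, hind', hq', hc', α, β, hβ, hbeq⟩ := hZ b hindab hab hb
    have e1 : h.lin a r' b = 0 := by
      rw [Tri.lin_apply, hbeq, h.add₃, h.smul₃, h.smul₃, h.symm23 a r' a, sing, hq']; ring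
    have e2 : h.lin r' r' b = 0 := by
      rw [Tri.lin_apply, hbeq, h.add₃, h.smul₃, h.smul₃, h.symm13 r' r' a, hq', hc']; ring
    by_cases hl1 : h.lin a r' = 0
    · exact ⟨_, hΛmem _ (hNr r' hind' hl1) ⟨r', hr'R, Or.inr (Or.inl rfl)⟩, e2⟩
    · exact ⟨_, hΛmem _ hl1 ⟨r', hr'R, Or.inl rfl⟩, e1⟩
  · -- `a` is not in the tangent plane at `b`
    obtain ⟨l, q, hlb, hfac⟩ := factor_through b hb hFac
    obtain ⟨hM2, hMz⟩ := line_of_factor hnl (h.lin b b) l hτ q (fun x hx => hfac x hx)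
    obtain ⟨M, hMdef⟩ : ∃ M : Submodule 𝕜 (V4 𝕜),
        M = LinearMap.ker (h.lin b b) ⊓ LinearMap.ker l := ⟨_, rfl⟩
    rw [← hMdef] at hM2 hMz
    have hbM : b ∈ M := by
      rw [hMdef, Submodule.mem_inf, LinearMap.mem_ker, LinearMap.mem_ker]
      exact ⟨hb, hlb⟩
    have hMtan : ∀ x ∈ M, T b b x = 0 := by
      intro x hx
      rw [hMdef, Submodule.mem_inf, LinearMap.mem_ker] at hx
      exact hx.1
    obtain ⟨m, hmM, hindbm, -⟩ := line_struct M hM2 hbM hb_ne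
    have hMT : ∀ x y z, x ∈ M → y ∈ M → z ∈ M → T x y z = 0 :=
      fun x y z hx hy hz => h.eq_zero_of_submodule M hMz hx hy hz
    have hinda : ∀ r ∈ M, r ≠ 0 → Ind2 a r := by
      intro r hr hr0 s t hst
      have e := congrArg (h.lin b b) hst
      rw [map_add, map_smul, map_smul, map_zero, Tri.lin_apply, Tri.lin_apply, hMtan r hr,
        smul_zero, add_zero, smul_eq_mul, h.symm13 b b a] at e
      have hs : s = 0 := (mul_eq_zero.mp e).resolve_right hab
      rw [hs, zero_smul, zero_add] at hst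
      exact ⟨hs, (smul_eq_zero.mp hst).resolve_right hr0⟩
    obtain ⟨s1, hs1⟩ := exists_quad_root (T a b b) (2 * T a b m) (T a m m) hab
    obtain ⟨s2, hs2⟩ : ∃ s2 : 𝕜, T a b b * s2 = -(2 * T a b m) - T a b b * s1 :=
      ⟨(-(2 * T a b m) - T a b b * s1) / T a b b, by
        rw [mul_comm]; exact div_mul_cancel₀ _ hab⟩
    have hsum : T a b b * (s1 + s2) = -(2 * T a b m) := by linear_combination hs2
    have hprod : T a b b * (s1 * s2) = T a m m := by linear_combination s1 * hsum - hs1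
    have hs2root : T a b b * s2 ^ 2 + 2 * T a b m * s2 + T a m m = 0 := by
      linear_combination s2 * hsum - hprod
    have hrM : ∀ s : 𝕜, s • b + (1:𝕜) • m ∈ M := fun s =>
      M.add_mem (M.smul_mem _ hbM) (M.smul_mem _ hmM)
    have hroot : ∀ s : 𝕜, T a b b * s ^ 2 + 2 * T a b m * s + T a m m = 0 →
        ∃ r' ∈ R, Ind2 a r' ∧ T a r' r' = 0 ∧ T r' r' r' = 0 ∧
          ∃ α β : 𝕜, β ≠ 0 ∧ s • b + (1:𝕜) • m = α • a + β • r' := by
      intro s hs
      have hr0 : s • b + (1:𝕜) • m ≠ 0 := fun h0 => one_ne_zero (hindbm _ _ h0).2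
      apply hZ _ (hinda _ (hrM s) hr0)
      · rw [h.bil2]; linear_combination hs
      · exact hMz _ (hrM s)
    obtain ⟨r1', hr1R, hind1, hq1, hc1, α1, β1, hβ1, hr1⟩ := hroot s1 hs1
    by_cases hs12 : s1 = s2
    · -- a double root
      subst hs12
      have eb : T a (s1 • b + (1:𝕜) • m) b = 0 := by
        rw [h.add₂, h.smul₂, h.smul₂, h.symm23 a m b]; linear_combination (1/2) * hsum
      have e1 : T a r1' b = 0 := by
        rw [hr1, h.add₂, h.smul₂, h.smul₂, sing b] at eb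
        have : β1 * T a r1' b = 0 := by linear_combination eb
        exact (mul_eq_zero.mp this).resolve_left hβ1
      by_cases hl1 : h.lin a r1' = 0
      · refine ⟨_, hΛmem _ (hNr r1' hind1 hl1) ⟨r1', hr1R, Or.inr (Or.inl rfl)⟩, ?_⟩
        have hrrb : T (s1 • b + (1:𝕜) • m) (s1 • b + (1:𝕜) • m) b = 0 :=
          hMT _ _ _ (hrM s1) (hrM s1) hbM
        rw [hr1, h.symm13 (α1 • a + β1 • r1') (α1 • a + β1 • r1') b, h.bil2] at hrrb
        have t1 : T b a a = 0 := by rw [h.symm13 b a a]; exact sing b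
        have t2 : T b a r1' = 0 := by rw [h.symm12 b a r1', h.symm23 a b r1']; exact e1
        rw [t1, t2] at hrrb
        have : β1 ^ 2 * T r1' r1' b = 0 := by
          rw [h.symm13 r1' r1' b]; linear_combination hrrb
        exact (mul_eq_zero.mp this).resolve_left (pow_ne_zero 2 hβ1)
      · exact ⟨_, hΛmem _ hl1 ⟨r1', hr1R, Or.inl rfl⟩, e1⟩
    · -- two distinct roots
      obtain ⟨r2', hr2R, hind2, hq2, hc2, α2, β2, hβ2, hr2⟩ := hroot s2 hs2root
      obtain ⟨hf0, hfa, hf1, hf2⟩ := hlam3 r1' r2'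
      refine ⟨lam3 r1' r2', hΛmem _ hf0 ⟨r1', hr1R, Or.inr (Or.inr ⟨r2', hr2R, rfl⟩)⟩, ?_⟩
      have e1 : lam3 r1' r2' (s1 • b + (1:𝕜) • m) = 0 := by
        rw [hr1, map_add, map_smul, map_smul, hfa, hf1]; simp
      have e2 : lam3 r1' r2' (s2 • b + (1:𝕜) • m) = 0 := by
        rw [hr2, map_add, map_smul, map_smul, hfa, hf2]; simp
      rw [map_add, map_smul, map_smul] at e1 e2
      have e3 : (s1 - s2) * lam3 r1' r2' b = 0 := by
        simp only [smul_eq_mul] at e1 e2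
        linear_combination e1 - e2
      exact (mul_eq_zero.mp e3).resolve_left (sub_ne_zero.mpr hs12)

end Groth.Agent.Lib.CubicAvH1
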