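import Mathlib
import Groth.Agent.Lib.CubicSurfK3_helper1

/-!
# T-points of a cubic surface, part 1: polynomial families and an evaluation lemma
-/

set_option autoImplicit false
set_option maxHeartbeats 1000000

namespace Groth.Agent.Lib.CubicTptH1

open MvPolynomial
open Groth.Agent.Lib.CubicSurfKH1

variable {𝕜 : Type*} [Field 𝕜] [IsAlgClosed 𝕜] [CharZero 𝕜]

/-- functions `𝕜 → 𝕜` given by a univariate polynomial -/
def PolyFun (f : 𝕜 → 𝕜) : Prop := ∃ p : Polynomial 𝕜, ∀ t, f t = p.eval t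

namespace PolyFun

lemma congr {f g : 𝕜 → 𝕜} (hf : PolyFun f) (h : ∀ t, g t = f t) : PolyFun g := by
  obtain ⟨p, hp⟩ := hf
  exact ⟨p, fun t => by rw [h, hp]⟩

lemma const (c : 𝕜) : PolyFun (fun _ : 𝕜 => c) := ⟨Polynomial.C c, fun t => by simp⟩

lemma id : PolyFun (fun t : 𝕜 => t) := ⟨Polynomial.X, fun t => by simp⟩

lemma add {f g : 𝕜 → 𝕜} (hf : PolyFun f) (hg : PolyFun g) : PolyFun (fun t => f t + g t) := by
  obtain ⟨p, hp⟩ := hf
  obtain ⟨q, hq⟩ := hg
  exact ⟨p + q, fun t => by simp only [Polynomial.eval_add, hp, hq]⟩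

lemma mul {f g : 𝕜 → 𝕜} (hf : PolyFun f) (hg : PolyFun g) : PolyFun (fun t => f t * g t) := by
  obtain ⟨p, hp⟩ := hf
  obtain ⟨q, hq⟩ := hg
  exact ⟨p * q, fun t => by simp only [Polynomial.eval_mul, hp, hq]⟩

lemma sub {f g : 𝕜 → 𝕜} (hf : PolyFun f) (hg : PolyFun g) : PolyFun (fun t => f t - g t) := by
  obtain ⟨p, hp⟩ := hf
  obtain ⟨q, hq⟩ := hg
  exact ⟨p - q, fun t => by simp only [Polynomial.eval_sub, hp, hq]⟩

lemma neg {f : 𝕜 → 𝕜} (hf : PolyFun f) : PolyFun (fun t => -f t) := by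
  obtain ⟨p, hp⟩ := hf
  exact ⟨-p, fun t => by simp only [Polynomial.eval_neg, hp]⟩

lemma pow {f : 𝕜 → 𝕜} (hf : PolyFun f) (n : ℕ) : PolyFun (fun t => f t ^ n) := by
  obtain ⟨p, hp⟩ := hf
  exact ⟨p ^ n, fun t => by simp only [Polynomial.eval_pow, hp]⟩

lemma det {n : ℕ} (M : 𝕜 → Matrix (Fin n) (Fin n) 𝕜) (h : ∀ i j, PolyFun (fun t => M t i j)) :
    PolyFun (fun t => (M t).det) := by
  choose P hP using h
  refine ⟨(Matrix.of P).det, fun t => ?_⟩
  have e : (Polynomial.evalRingHom t).mapMatrix (Matrix.of P) = M t := by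
    ext i j
    simp [hP]
  rw [← Polynomial.coe_evalRingHom, RingHom.map_det, e]

lemma finite_zeros {f : 𝕜 → 𝕜} (hf : PolyFun f) (t0 : 𝕜) (h0 : f t0 ≠ 0) :
    {t | f t = 0}.Finite := by
  classical
  obtain ⟨p, hp⟩ := hf
  have hp0 : p ≠ 0 := by
    rintro rfl
    apply h0
    rw [hp]; simp
  apply Set.Finite.subset (p.roots.toFinset.finite_toSet)
  intro t ht
  simp only [Set.mem_setOf_eq] at ht
  simp only [Finset.mem_coe, Multiset.mem_toFinset, Polynomial.mem_roots hp0,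
    Polynomial.IsRoot.def]
  rw [← hp]; exact ht

end PolyFun

/-- solve goals `PolyFun (fun t => e)` for explicit polynomial expressions `e` -/
macro "polyfun" : tactic =>
  `(tactic| repeat' (first
    | exact PolyFun.const _
    | exact PolyFun.id
    | apply PolyFun.neg
    | apply PolyFun.sub
    | apply PolyFun.pow
    | apply PolyFun.add
    | apply PolyFun.mul))

/-- vector valued polynomial families -/
def PolyVec (x : 𝕜 → V4 𝕜) : Prop := ∀ i, PolyFun (fun t => x t i)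

namespace PolyVec

lemma const (v : V4 𝕜) : PolyVec (fun _ : 𝕜 => v) := fun i => PolyFun.const (v i)

lemma add {x y : 𝕜 → V4 𝕜} (hx : PolyVec x) (hy : PolyVec y) : PolyVec (fun t => x t + y t) :=
  fun i => ((hx i).add (hy i)).congr (fun _ => rfl)

lemma sub {x y : 𝕜 → V4 𝕜} (hx : PolyVec x) (hy : PolyVec y) : PolyVec (fun t => x t - y t) :=
  fun i => ((hx i).sub (hy i)).congr (fun _ => rfl)

lemma smul {f : 𝕜 → 𝕜} {x : 𝕜 → V4 𝕜} (hf : PolyFun f) (hx : PolyVec x) :
    PolyVec (fun t => f t • x t) :=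
  fun i => (hf.mul (hx i)).congr (fun _ => rfl)

lemma comb3 (a k1 k2 : V4 𝕜) {f1 f2 f3 : 𝕜 → 𝕜} (h1 : PolyFun f1) (h2 : PolyFun f2)
    (h3 : PolyFun f3) : PolyVec (fun t => f1 t • a + f2 t • k1 + f3 t • k2) :=
  ((smul h1 (const a)).add (smul h2 (const k1))).add (smul h3 (const k2))

end PolyVec

lemma PolyFun.eval_mv (p : MvPolynomial (Fin 4) 𝕜) {x : 𝕜 → V4 𝕜} (hx : PolyVec x) :
    PolyFun (fun t => eval (x t) p) := by
  induction p using MvPolynomial.induction_on with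
  | C a => exact (PolyFun.const a).congr (fun t => by simp)
  | add p q hp hq => exact (hp.add hq).congr (fun t => by simp)
  | mul_X p i hp => exact (hp.mul (hx i)).congr (fun t => by simp)

lemma PolyVec.pol (f : MvPolynomial (Fin 4) 𝕜) {x y z : 𝕜 → V4 𝕜} (hx : PolyVec x)
    (hy : PolyVec y) (hz : PolyVec z) : PolyFun (fun t => Pol f (x t) (y t) (z t)) := by
  unfold Pol
  have e1 := PolyFun.eval_mv f ((hx.add hy).add hz)
  have e2 := PolyFun.eval_mv f (hx.add hy)
  have e3 := PolyFun.eval_mv f (hx.add hz)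
  have e4 := PolyFun.eval_mv f (hy.add hz)
  have e5 := PolyFun.eval_mv f hx
  have e6 := PolyFun.eval_mv f hy
  have e7 := PolyFun.eval_mv f hz
  exact (PolyFun.const (1/6 : 𝕜)).mul ((((((e1.sub e2).sub e3).sub e4).add e5).add e6).add e7)

/-! ### the evaluation lemma -/

lemma exists_det_ne_zero {X : Type*} (g : Fin 4 → X → 𝕜)
    (hg : ∀ c : Fin 4 → 𝕜, (∀ x, ∑ i, c i * g i x = 0) → c = 0) :
    ∃ p : Fin 4 → X, (Matrix.of fun i j => g i (p j)).det ≠ 0 := by
  classical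
  obtain ⟨φ, hφ⟩ : ∃ φ : X → (Fin 4 → 𝕜), ∀ x i, φ x i = g i x :=
    ⟨fun x i => g i x, fun _ _ => rfl⟩
  have hspan : Submodule.span 𝕜 (Set.range φ) = ⊤ := by
    by_contra hne
    obtain ⟨f, hf0, hfle⟩ := Submodule.exists_le_ker_of_lt_top _ (lt_top_iff_ne_top.mpr hne)
    apply hf0
    obtain ⟨c, hcdef⟩ : ∃ c : Fin 4 → 𝕜, ∀ i, c i = f (fun j => if i = j then 1 else 0) :=
      ⟨_, fun _ => rfl⟩
    have hfv : ∀ v : Fin 4 → 𝕜, f v = ∑ i, c i * v i := by
      intro v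
      rw [LinearMap.pi_apply_eq_sum_univ f v]
      apply Finset.sum_congr rfl
      intro i _
      rw [hcdef, smul_eq_mul, mul_comm]
    have hc : c = 0 := hg c (fun x => by
      have h1 : f (φ x) = 0 :=
        LinearMap.mem_ker.mp (hfle (Submodule.subset_span (Set.mem_range_self x)))
      rw [hfv] at h1
      simpa only [hφ] using h1)
    apply LinearMap.ext
    intro v
    rw [hfv, hc]
    simp
  have h4 : Module.finrank 𝕜 (Submodule.span 𝕜 (Set.range φ)) = 4 := by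
    rw [hspan]; simp
  obtain ⟨f, hfmem, -, hfli⟩ := Submodule.exists_fun_fin_finrank_span_eq 𝕜 (Set.range φ)
  have hmem' : ∀ j : Fin 4, ∃ x, φ x = f (Fin.cast h4.symm j) := fun j => hfmem _
  choose p hp using hmem'
  refine ⟨p, ?_⟩
  have hli : LinearIndependent 𝕜 (fun j : Fin 4 => φ (p j)) := by
    have e : (fun j : Fin 4 => φ (p j)) = f ∘ Fin.cast h4.symm := funext hp
    rw [e]
    exact hfli.comp (Fin.cast h4.symm) (Fin.cast_injective _)
  obtain ⟨N, hN⟩ : ∃ N : Matrix (Fin 4) (Fin 4) 𝕜, ∀ j i, N j i = g i (p j) :=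
    ⟨Matrix.of fun j i => g i (p j), fun _ _ => rfl⟩
  have hrow : N.row = fun j => φ (p j) := by
    ext j i
    rw [hφ]; exact hN j i
  have hunit : IsUnit N := by
    rw [← Matrix.linearIndependent_rows_iff_isUnit, hrow]; exact hli
  have hdet : N.det ≠ 0 := ((Matrix.isUnit_iff_isUnit_det N).mp hunit).ne_zero
  have hT : (Matrix.of fun i j => g i (p j)) = N.transpose := by
    ext i j
    rw [Matrix.transpose_apply, hN]; rfl
  rw [hT, Matrix.det_transpose]; exact hdet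

end Groth.Agent.Lib.CubicTptH1
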