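import Mathlib
import Groth.Agent.Lib.CubicTpt1_helper1

/-!
# T-points of a cubic surface, part 2: the dependency condition

For a point `b` of the cubic we project the tangent plane `H = T_a S` to the tangent plane
`T_b S` along a fixed direction `n`, and pull back the cubic `F` and the polar quadric
`T(b, ·, ·)`.  If `b` is a T-point, the pulled back cubic is (up to a scalar) the product of the
pulled back quadric with a linear form (`Dep`).  This is a closed condition on `b`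
(vanishing of a determinant), and it fails at `a` when `a` is not a T-point.
-/

set_option autoImplicit false
set_option maxHeartbeats 1000000

namespace Groth.Agent.Lib.CubicTptH1

open MvPolynomial
open Groth.Agent.Lib.CubicSurfKH1

variable {𝕜 : Type*} [Field 𝕜] [IsAlgClosed 𝕜] [CharZero 𝕜]

/-- projection to the tangent plane at `b` along `n` -/
noncomputable def prj (F : MvPolynomial (Fin 4) 𝕜) (n b u : V4 𝕜) : V4 𝕜 :=
  Pol F b b n • u - Pol F b b u • n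

/-- the frame map -/
def Psi (a k1 k2 : V4 𝕜) (w : Fin 3 → 𝕜) : V4 𝕜 := w 0 • a + w 1 • k1 + w 2 • k2

lemma Psi_eq_smul (a k1 k2 : V4 𝕜) (w w' : Fin 3 → 𝕜) (c : 𝕜) (h0 : w' 0 = c * w 0)
    (h1 : w' 1 = c * w 1) (h2 : w' 2 = c * w 2) : Psi a k1 k2 w' = c • Psi a k1 k2 w := by
  unfold Psi
  rw [h0, h1, h2]
  module

/-- the four functions whose linear dependence is the condition `Dep` -/
noncomputable def Gfun (F : MvPolynomial (Fin 4) 𝕜) (n a k1 k2 b : V4 𝕜) (i : Fin 4)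
    (w : Fin 3 → 𝕜) : 𝕜 :=
  ![eval (prj F n b (Psi a k1 k2 w)) F,
    Pol F b (prj F n b (Psi a k1 k2 w)) (prj F n b (Psi a k1 k2 w)) * w 0,
    Pol F b (prj F n b (Psi a k1 k2 w)) (prj F n b (Psi a k1 k2 w)) * w 1,
    Pol F b (prj F n b (Psi a k1 k2 w)) (prj F n b (Psi a k1 k2 w)) * w 2] i

/-- the dependency condition -/
def Dep (F : MvPolynomial (Fin 4) 𝕜) (n a k1 k2 b : V4 𝕜) : Prop :=
  ∃ v : Fin 4 → 𝕜, v ≠ 0 ∧ ∀ w : Fin 3 → 𝕜, ∑ i, v i * Gfun F n a k1 k2 b i w = 0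

lemma Gfun_sum (F : MvPolynomial (Fin 4) 𝕜) (n a k1 k2 b : V4 𝕜) (v : Fin 4 → 𝕜)
    (w : Fin 3 → 𝕜) :
    ∑ i, v i * Gfun F n a k1 k2 b i w = v 0 * eval (prj F n b (Psi a k1 k2 w)) F
      + Pol F b (prj F n b (Psi a k1 k2 w)) (prj F n b (Psi a k1 k2 w))
        * (v 1 * w 0 + v 2 * w 1 + v 3 * w 2) := by
  rw [Fin.sum_univ_four]
  have e0 : Gfun F n a k1 k2 b 0 w = eval (prj F n b (Psi a k1 k2 w)) F := rfl
  have e1 : Gfun F n a k1 k2 b 1 w
      = Pol F b (prj F n b (Psi a k1 k2 w)) (prj F n b (Psi a k1 k2 w)) * w 0 := rfl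
  have e2 : Gfun F n a k1 k2 b 2 w
      = Pol F b (prj F n b (Psi a k1 k2 w)) (prj F n b (Psi a k1 k2 w)) * w 1 := rfl
  have e3 : Gfun F n a k1 k2 b 3 w
      = Pol F b (prj F n b (Psi a k1 k2 w)) (prj F n b (Psi a k1 k2 w)) * w 2 := rfl
  rw [e0, e1, e2, e3]
  ring

lemma Gfun_sum' (F : MvPolynomial (Fin 4) 𝕜) (n a k1 k2 b : V4 𝕜) (v0 v1 v2 v3 : 𝕜)
    (w : Fin 3 → 𝕜) :
    ∑ i, (![v0, v1, v2, v3] : Fin 4 → 𝕜) i * Gfun F n a k1 k2 b i w
      = v0 * eval (prj F n b (Psi a k1 k2 w)) F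
      + Pol F b (prj F n b (Psi a k1 k2 w)) (prj F n b (Psi a k1 k2 w))
        * (v1 * w 0 + v2 * w 1 + v3 * w 2) :=
  Gfun_sum F n a k1 k2 b _ w

/-! ### `Dep` is a closed condition -/

lemma prj_polyVec (F : MvPolynomial (Fin 4) 𝕜) (n : V4 𝕜) {B : 𝕜 → V4 𝕜} (hB : PolyVec B)
    (u : V4 𝕜) : PolyVec (fun t => prj F n (B t) u) := by
  unfold prj
  exact (PolyVec.smul (PolyVec.pol F hB hB (PolyVec.const n)) (PolyVec.const u)).sub
    (PolyVec.smul (PolyVec.pol F hB hB (PolyVec.const u)) (PolyVec.const n))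

lemma Gfun_polyFun (F : MvPolynomial (Fin 4) 𝕜) (n a k1 k2 : V4 𝕜) {B : 𝕜 → V4 𝕜}
    (hB : PolyVec B) (i : Fin 4) (w : Fin 3 → 𝕜) :
    PolyFun (fun t => Gfun F n a k1 k2 (B t) i w) := by
  have hp := prj_polyVec F n hB (Psi a k1 k2 w)
  have hq : PolyFun (fun t => Pol F (B t) (prj F n (B t) (Psi a k1 k2 w))
      (prj F n (B t) (Psi a k1 k2 w))) := PolyVec.pol F hB hp hp
  fin_cases i
  · exact PolyFun.eval_mv F hp
  · exact hq.mul (PolyFun.const (w 0))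
  · exact hq.mul (PolyFun.const (w 1))
  · exact hq.mul (PolyFun.const (w 2))

lemma finite_dep (F : MvPolynomial (Fin 4) 𝕜) (n a k1 k2 : V4 𝕜) {B : 𝕜 → V4 𝕜}
    (hB : PolyVec B) (t0 : 𝕜) (h0 : ¬ Dep F n a k1 k2 (B t0)) :
    {t | Dep F n a k1 k2 (B t)}.Finite := by
  classical
  obtain ⟨p, hp⟩ := exists_det_ne_zero (Gfun F n a k1 k2 (B t0)) (fun c hc => by
    by_contra hne
    exact h0 ⟨c, hne, hc⟩)
  have hPF : PolyFun (fun t =>
      (Matrix.of fun i j => Gfun F n a k1 k2 (B t) i (p j) : Matrix (Fin 4) (Fin 4) 𝕜).det) :=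
    PolyFun.det (fun t => Matrix.of fun i j => Gfun F n a k1 k2 (B t) i (p j))
      (fun i j => Gfun_polyFun F n a k1 k2 hB i (p j))
  apply (hPF.finite_zeros t0 hp).subset
  rintro t ⟨v, hv0, hv⟩
  simp only [Set.mem_setOf_eq]
  rw [← Matrix.exists_vecMul_eq_zero_iff]
  refine ⟨v, hv0, ?_⟩
  ext j
  simp only [Matrix.vecMul, dotProduct, Matrix.of_apply, Pi.zero_apply]
  exact hv (p j)

/-! ### the local structure at a T-point -/

lemma tp_core {T : V4 𝕜 → V4 𝕜 → V4 𝕜 → 𝕜} (h : Tri T) (b : V4 𝕜) (hb : T b b b = 0)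
    (l1 l2 l3 : V4 𝕜 →ₗ[𝕜] 𝕜)
    (hfac : ∀ x, T b b x = 0 → T x x x = l1 x * l2 x * l3 x) :
    ∃ (κ : 𝕜) (l : V4 𝕜 →ₗ[𝕜] 𝕜), (κ ≠ 0 ∨ ∃ x, T b b x = 0 ∧ l x ≠ 0) ∧
      ∀ x, T b b x = 0 → κ * T x x x = 3 * T b x x * l x := by
  by_cases hC : ∀ x, T b b x = 0 → T x x x = 0
  · exact ⟨1, 0, Or.inl one_ne_zero, fun x hx => by rw [hC x hx]; simp⟩
  push Not at hC
  obtain ⟨x0, hx0, hCx0⟩ := hC
  have hX : l1 x0 ≠ 0 ∧ l2 x0 ≠ 0 ∧ l3 x0 ≠ 0 := by
    rw [hfac x0 hx0] at hCx0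
    exact ⟨fun h0 => hCx0 (by rw [h0]; ring), fun h0 => hCx0 (by rw [h0]; ring),
      fun h0 => hCx0 (by rw [h0]; ring)⟩
  obtain ⟨hX1, hX2, hX3⟩ := hX
  have hE0 : l1 b * l2 b * l3 b = 0 := by rw [← hfac b hb, hb]
  have hI : ∀ x, T b b x = 0 →
      l1 x * l2 b * l3 b + l1 b * l2 x * l3 b + l1 b * l2 b * l3 x = 0 ∧
      3 * T b x x = l1 x * l2 x * l3 b + l1 x * l2 b * l3 x + l1 b * l2 x * l3 x := by
    intro x hx
    have hy1 : T b b ((1:𝕜) • b + (1:𝕜) • x) = 0 := by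
      rw [h.add₃, h.smul₃, h.smul₃, hb, hx]; ring
    have hym : T b b ((1:𝕜) • b + (-1:𝕜) • x) = 0 := by
      rw [h.add₃, h.smul₃, h.smul₃, hb, hx]; ring
    have E1 := hfac _ hy1
    have Em := hfac _ hym
    have Ex := hfac x hx
    rw [h.cube2] at E1 Em
    simp only [map_add, map_smul, smul_eq_mul] at E1 Em
    constructor
    · linear_combination (-1/2) * E1 + (1/2) * Em + 3 * hx + Ex
    · linear_combination (1/2) * E1 + (1/2) * Em - hb + hE0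
  have hI0 := (hI x0 hx0).1
  have hpair : (l1 b = 0 ∧ l2 b = 0) ∨ (l1 b = 0 ∧ l3 b = 0) ∨ (l2 b = 0 ∧ l3 b = 0) := by
    rcases mul_eq_zero.mp hE0 with h12 | h3
    · rcases mul_eq_zero.mp h12 with h1 | h2
      · have e : l1 x0 * (l2 b * l3 b) = 0 := by
          linear_combination hI0 - (l2 x0 * l3 b + l2 b * l3 x0) * h1
        rcases mul_eq_zero.mp ((mul_eq_zero.mp e).resolve_left hX1) with h2 | h3
        · exact Or.inl ⟨h1, h2⟩
        · exact Or.inr (Or.inl ⟨h1, h3⟩)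
      · have e : l2 x0 * (l1 b * l3 b) = 0 := by
          linear_combination hI0 - (l1 x0 * l3 b + l1 b * l3 x0) * h2
        rcases mul_eq_zero.mp ((mul_eq_zero.mp e).resolve_left hX2) with h1 | h3
        · exact Or.inl ⟨h1, h2⟩
        · exact Or.inr (Or.inr ⟨h2, h3⟩)
    · have e : l3 x0 * (l1 b * l2 b) = 0 := by
        linear_combination hI0 - (l1 x0 * l2 b + l1 b * l2 x0) * h3
      rcases mul_eq_zero.mp ((mul_eq_zero.mp e).resolve_left hX3) with h1 | h2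
      · exact Or.inr (Or.inl ⟨h1, h3⟩)
      · exact Or.inr (Or.inr ⟨h2, h3⟩)
  rcases hpair with ⟨h1, h2⟩ | ⟨h1, h3⟩ | ⟨h2, h3⟩
  · refine ⟨l3 b, l3, Or.inr ⟨x0, hx0, hX3⟩, fun x hx => ?_⟩
    have hII := (hI x hx).2
    have Ex := hfac x hx
    linear_combination (l3 b) * Ex - (l3 x) * hII - (l1 x * l3 x ^ 2) * h2
      - (l2 x * l3 x ^ 2) * h1
  · refine ⟨l2 b, l2, Or.inr ⟨x0, hx0, hX2⟩, fun x hx => ?_⟩
    have hII := (hI x hx).2
    have Ex := hfac x hx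
    linear_combination (l2 b) * Ex - (l2 x) * hII - (l1 x * l2 x ^ 2) * h3
      - (l2 x ^ 2 * l3 x) * h1
  · refine ⟨l1 b, l1, Or.inr ⟨x0, hx0, hX1⟩, fun x hx => ?_⟩
    have hII := (hI x hx).2
    have Ex := hfac x hx
    linear_combination (l1 b) * Ex - (l1 x) * hII - (l1 x ^ 2 * l2 x) * h3
      - (l1 x ^ 2 * l3 x) * h2

/-- the factorization of the cubic on the tangent plane at a T-point -/
lemma fac_of_tp (F : MvPolynomial (Fin 4) 𝕜) (hG : Good F) (b : V4 𝕜)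
    (L1 L2 L3 : MvPolynomial (Fin 4) 𝕜) (h1 : L1.IsHomogeneous 1) (h2 : L2.IsHomogeneous 1)
    (h3 : L3.IsHomogeneous 1)
    (hmem : F - L1 * L2 * L3 ∈ Ideal.span {(∑ i : Fin 4, C (eval b (pderiv i F)) * X i :
      MvPolynomial (Fin 4) 𝕜)}) :
    ∃ l1 l2 l3 : V4 𝕜 →ₗ[𝕜] 𝕜, ∀ x, Pol F b b x = 0 → Pol F x x x = l1 x * l2 x * l3 x := by
  have h := tri_Pol hG
  obtain ⟨l1, hl1⟩ := lin_of_hom1 L1 h1
  obtain ⟨l2, hl2⟩ := lin_of_hom1 L2 h2
  obtain ⟨l3, hl3⟩ := lin_of_hom1 L3 h3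
  refine ⟨l1, l2, l3, fun x hx => ?_⟩
  obtain ⟨Q, hQ⟩ := Ideal.mem_span_singleton'.mp hmem
  have hev := congrArg (eval x) hQ
  have hℓ : eval x (∑ i : Fin 4, C (eval b (pderiv i F)) * X i) = 3 * Pol F b b x := by
    simp only [map_add, map_mul, eval_C, eval_X, Fin.sum_univ_four, hG.deriv]
    rw [h.coord b b x]; ring
  rw [map_mul, hℓ, hx, mul_zero, mul_zero, map_sub, map_mul, map_mul, hl1, hl2, hl3,
    ← hG.diag] at hev
  linear_combination -hev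

/-- a T-point satisfies the dependency condition -/
lemma dep_of_tp (F : MvPolynomial (Fin 4) 𝕜) (hG : Good F) (n a k1 k2 : V4 𝕜)
    (hn : Pol F a a n ≠ 0)
    (hspan : ∀ x, Pol F a a x = 0 → ∃ w : Fin 3 → 𝕜, x = Psi a k1 k2 w)
    (b : V4 𝕜) (hb : Pol F b b b = 0) (l1 l2 l3 : V4 𝕜 →ₗ[𝕜] 𝕜)
    (hfac : ∀ x, Pol F b b x = 0 → Pol F x x x = l1 x * l2 x * l3 x) :
    Dep F n a k1 k2 b := by
  have h := tri_Pol hG
  have hτΨ : ∀ w : Fin 3 → 𝕜, Pol F b b (Psi a k1 k2 w)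
      = w 0 * Pol F b b a + w 1 * Pol F b b k1 + w 2 * Pol F b b k2 := by
    intro w
    unfold Psi
    rw [h.add₃, h.add₃, h.smul₃, h.smul₃, h.smul₃]
  by_cases hbn : Pol F b b n = 0
  · have hprj : ∀ u, prj F n b u = (-(Pol F b b u)) • n := by
      intro u
      unfold prj
      rw [hbn, zero_smul, zero_sub, neg_smul]
    by_cases hQn : Pol F b n n = 0
    · refine ⟨![0, 1, 0, 0], ?_, fun w => ?_⟩
      · intro h0
        have := congrFun h0 1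
        exact one_ne_zero this
      · rw [Gfun_sum', hprj, h.smul₂, h.smul₃, hQn]
        ring
    · refine ⟨![Pol F b n n, Pol F n n n * Pol F b b a, Pol F n n n * Pol F b b k1,
        Pol F n n n * Pol F b b k2], ?_, fun w => ?_⟩
      · intro h0
        have := congrFun h0 0
        exact hQn this
      · rw [Gfun_sum', hprj, ← hG.diag, h.smul₁, h.smul₂, h.smul₃, h.smul₂, h.smul₃, hτΨ]
        ring
  · obtain ⟨κ, l, hnd, hrel⟩ := tp_core h b hb l1 l2 l3 hfac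
    have hprjT : ∀ u, Pol F b b (prj F n b u) = 0 := by
      intro u
      unfold prj
      rw [h.sub₃, h.smul₃, h.smul₃]; ring
    have hlin : ∀ w : Fin 3 → 𝕜, l (prj F n b (Psi a k1 k2 w))
        = w 0 * l (prj F n b a) + w 1 * l (prj F n b k1) + w 2 * l (prj F n b k2) := by
      intro w
      have e : prj F n b (Psi a k1 k2 w)
          = w 0 • prj F n b a + w 1 • prj F n b k1 + w 2 • prj F n b k2 := by
        unfold prj
        rw [hτΨ]
        unfold Psi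
        module
      rw [e, map_add, map_add, map_smul, map_smul, map_smul]
      simp only [smul_eq_mul]
    refine ⟨![κ, -(3 * l (prj F n b a)), -(3 * l (prj F n b k1)), -(3 * l (prj F n b k2))],
      ?_, fun w => ?_⟩
    · intro h0
      have hκ : κ = 0 := congrFun h0 0
      have e1 : l (prj F n b a) = 0 := by
        have e : -(3 * l (prj F n b a)) = 0 := congrFun h0 1
        linear_combination (-1/3) * e
      have e2 : l (prj F n b k1) = 0 := by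
        have e : -(3 * l (prj F n b k1)) = 0 := congrFun h0 2
        linear_combination (-1/3) * e
      have e3 : l (prj F n b k2) = 0 := by
        have e : -(3 * l (prj F n b k2)) = 0 := congrFun h0 3
        linear_combination (-1/3) * e
      rcases hnd with hκ' | ⟨x0, hx0, hlx0⟩
      · exact hκ' hκ
      · obtain ⟨s, hs⟩ : ∃ s : 𝕜, s = Pol F a a x0 / Pol F a a n := ⟨_, rfl⟩
        have hu : Pol F a a (x0 - s • n) = 0 := by
          rw [h.sub₃, h.smul₃, hs, div_mul_cancel₀ _ hn, sub_self]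
        obtain ⟨w, hw⟩ := hspan _ hu
        have hπ : prj F n b (x0 - s • n) = Pol F b b n • x0 := by
          unfold prj
          rw [h.sub₃, h.smul₃, hx0]
          module
        have h0' : l (prj F n b (x0 - s • n)) = 0 := by
          rw [hw, hlin, e1, e2, e3]; ring
        rw [hπ, map_smul, smul_eq_mul] at h0'
        exact hlx0 ((mul_eq_zero.mp h0').resolve_left hbn)
    · rw [Gfun_sum', ← hG.diag]
      have e := hrel _ (hprjT (Psi a k1 k2 w))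
      rw [hlin] at e
      linear_combination e

/-! ### `a` is not dependent -/

/-- if the cubic is divisible on the tangent plane by the polar quadric, `a` is a T-point -/
lemma tpoint_of_quad_factor (f : MvPolynomial (Fin 4) 𝕜) (hG : Good f) (a : V4 𝕜)
    (ha0 : Pol f a a a = 0) (hτ : (tri_Pol hG).lin a a ≠ 0) (m0 : (V4 𝕜) →ₗ[𝕜] 𝕜)
    (hm0 : m0 a ≠ 0) (κ : 𝕜) (hκ : κ ≠ 0) (ν : V4 𝕜 →ₗ[𝕜] 𝕜)
    (hq : ∀ x, Pol f a a x = 0 → κ * Pol f x x x = Pol f a x x * ν x)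
    (c : Fin 4 → 𝕜) (hc : ∀ x : V4 𝕜, ∑ j, c j * x j = 3 * Pol f a a x) :
    ∃ L₁ L₂ L₃ : MvPolynomial (Fin 4) 𝕜, L₁.IsHomogeneous 1 ∧ L₂.IsHomogeneous 1 ∧
      L₃.IsHomogeneous 1 ∧
      f - L₁ * L₂ * L₃ ∈ Ideal.span {(∑ j : Fin 4, C (c j) * X j : MvPolynomial (Fin 4) 𝕜)} := by
  have h := tri_Pol hG
  have hτa : h.lin a a a = 0 := ha0
  obtain ⟨k1, k2, hk1τ', hk1m, hk2τ', hk2m, hind⟩ := K_exists (h.lin a a) m0 a hτ hτa hm0
  have hk1τ : Pol f a a k1 = 0 := hk1τ'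
  have hk2τ : Pol f a a k2 = 0 := hk2τ'
  obtain ⟨Ψ, hΨ⟩ : ∃ Ψ : (Fin 3 → 𝕜) →ₗ[𝕜] (V4 𝕜), ∀ v, Ψ v = v 0 • a + v 1 • k1 + v 2 • k2 :=
    ⟨(LinearMap.proj 0).smulRight a + (LinearMap.proj 1).smulRight k1
      + (LinearMap.proj 2).smulRight k2, fun v => by simp⟩
  have hinj : LinearMap.ker Ψ = ⊥ := by
    rw [LinearMap.ker_eq_bot']
    intro v hv
    rw [hΨ] at hv
    have h0 : v 0 = 0 := by
      have := congrArg m0 hv
      rw [map_add, map_add, map_smul, map_smul, map_smul, hk1m, hk2m, map_zero, smul_eq_mul,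
        smul_eq_mul, smul_eq_mul, mul_zero, mul_zero, add_zero, add_zero] at this
      exact (mul_eq_zero.mp this).resolve_right hm0
    rw [h0, zero_smul, zero_add] at hv
    obtain ⟨h1, h2⟩ := hind _ _ hv
    ext j
    fin_cases j
    · exact h0
    · exact h1
    · exact h2
  obtain ⟨ρ, hρ⟩ := Ψ.exists_leftInverse_of_injective hinj
  have hρ' : ∀ v, ρ (Ψ v) = v := fun v => LinearMap.congr_fun hρ v
  have hstruct : ∀ x, Pol f a a x = 0 → ∃ c0 s t : 𝕜,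
      x = c0 • a + (1:𝕜) • (s • k1 + t • k2) ∧ ρ x 1 = s ∧ ρ x 2 = t := by
    intro x hx
    have hyτ : h.lin a a (x - (m0 x / m0 a) • a) = 0 := by
      rw [map_sub, map_smul, hτa, smul_zero, sub_zero]; exact hx
    have hym : m0 (x - (m0 x / m0 a) • a) = 0 := by
      rw [map_sub, map_smul, smul_eq_mul, div_mul_cancel₀ _ hm0, sub_self]
    obtain ⟨s, t, hst⟩ := K_span (h.lin a a) m0 a hτ hτa hm0 hk1τ hk1m hk2τ hk2m hind _ hyτ hym
    generalize m0 x / m0 a = c0 at hst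
    have hx' : x = Ψ ![c0, s, t] := by
      rw [hΨ]
      have e0 : (![c0, s, t] : Fin 3 → 𝕜) 0 = c0 := rfl
      have e1 : (![c0, s, t] : Fin 3 → 𝕜) 1 = s := rfl
      have e2 : (![c0, s, t] : Fin 3 → 𝕜) 2 = t := rfl
      rw [e0, e1, e2, add_assoc, ← hst]; vec_ring
    refine ⟨c0, s, t, ?_, ?_, ?_⟩
    · rw [one_smul, ← hst]; vec_ring
    · rw [hx', hρ']; rfl
    · rw [hx', hρ']; rfl
  have hquad : ∀ x, Pol f a a x = 0 → Pol f a x x
      = Pol f a k1 k1 * (ρ x 1) ^ 2 + 2 * Pol f a k1 k2 * (ρ x 1) * (ρ x 2)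
        + Pol f a k2 k2 * (ρ x 2) ^ 2 := by
    intro x hx
    obtain ⟨c0, s, t, hx', hs, ht⟩ := hstruct x hx
    rw [hs, ht]
    have t1 : Pol f a a (s • k1 + t • k2) = 0 := by
      rw [h.add₃, h.smul₃, h.smul₃, hk1τ, hk2τ]; ring
    rw [hx', h.bil2 c0 1 a a (s • k1 + t • k2), ha0, t1, h.bil2 s t a k1 k2]; ring
  obtain ⟨l1, m1, l2, m2, hsplit⟩ := quad_split (Pol f a k1 k1) (2 * Pol f a k1 k2)
    (Pol f a k2 k2)
  obtain ⟨σ, hσ⟩ : ∃ σ : (V4 𝕜) →ₗ[𝕜] 𝕜, ∀ x, σ x = ρ x 1 :=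
    ⟨(LinearMap.proj 1).comp ρ, fun x => rfl⟩
  obtain ⟨θ, hθ⟩ : ∃ θ : (V4 𝕜) →ₗ[𝕜] 𝕜, ∀ x, θ x = ρ x 2 :=
    ⟨(LinearMap.proj 2).comp ρ, fun x => rfl⟩
  refine ⟨linPoly (l1 • σ + m1 • θ), linPoly (l2 • σ + m2 • θ), linPoly (κ⁻¹ • ν),
    linPoly_hom _, linPoly_hom _, linPoly_hom _, ?_⟩
  obtain ⟨i0, hi0⟩ : ∃ i, c i ≠ 0 := by
    by_contra hcon
    push Not at hcon
    apply hτ
    apply LinearMap.ext
    intro x
    have := hc x
    simp only [hcon, zero_mul, Finset.sum_const_zero] at this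
    rw [Tri.lin_apply, LinearMap.zero_apply]
    linear_combination (-1/3) * this
  apply hyp_div c i0 hi0
  intro x hx
  rw [hc] at hx
  have hx' : Pol f a a x = 0 := by linear_combination (1/3) * hx
  rw [map_sub, map_mul, map_mul, eval_linPoly, eval_linPoly, eval_linPoly, ← hG.diag]
  simp only [LinearMap.add_apply, LinearMap.smul_apply, smul_eq_mul, hσ, hθ]
  have r := hq x hx'
  have q := hquad x hx'
  have e := hsplit (ρ x 1) (ρ x 2)
  have hk : κ * κ⁻¹ = 1 := mul_inv_cancel₀ hκ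
  linear_combination κ⁻¹ * r + (ν x * κ⁻¹) * q + (ν x * κ⁻¹) * e - (Pol f x x x) * hk

/-- expansion of the cubic in a frame of the tangent plane -/
lemma frame_cube {T : V4 𝕜 → V4 𝕜 → V4 𝕜 → 𝕜} (h : Tri T) (a k1 k2 : V4 𝕜) (ha0 : T a a a = 0)
    (hk1 : T a a k1 = 0) (hk2 : T a a k2 = 0) (w : Fin 3 → 𝕜) :
    T (Psi a k1 k2 w) (Psi a k1 k2 w) (Psi a k1 k2 w) =
      w 0 * (3 * T a k1 k1 * (w 1) ^ 2 + 6 * T a k1 k2 * (w 1) * (w 2)
        + 3 * T a k2 k2 * (w 2) ^ 2)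
      + (T k1 k1 k1 * (w 1) ^ 3 + 3 * T k1 k1 k2 * (w 1) ^ 2 * (w 2)
        + 3 * T k1 k2 k2 * (w 1) * (w 2) ^ 2 + T k2 k2 k2 * (w 2) ^ 3) := by
  have e : Psi a k1 k2 w = w 0 • a + (1:𝕜) • (w 1 • k1 + w 2 • k2) := by
    unfold Psi; module
  have t1 : T a a (w 1 • k1 + w 2 • k2) = 0 := by
    rw [h.add₃, h.smul₃, h.smul₃, hk1, hk2]; ring
  rw [e, h.cube2 (w 0) 1 a (w 1 • k1 + w 2 • k2), ha0, t1, h.bil2 (w 1) (w 2) a k1 k2,
    h.cube2 (w 1) (w 2) k1 k2]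
  ring

/-- expansion of the polar quadric in a frame of the tangent plane -/
lemma frame_quad {T : V4 𝕜 → V4 𝕜 → V4 𝕜 → 𝕜} (h : Tri T) (a k1 k2 : V4 𝕜) (ha0 : T a a a = 0)
    (hk1 : T a a k1 = 0) (hk2 : T a a k2 = 0) (w : Fin 3 → 𝕜) :
    T a (Psi a k1 k2 w) (Psi a k1 k2 w) =
      T a k1 k1 * (w 1) ^ 2 + 2 * T a k1 k2 * (w 1) * (w 2) + T a k2 k2 * (w 2) ^ 2 := by
  unfold Psi
  rw [h.sq3, ha0, hk1, hk2]; ring

/-- `a` itself is not dependent if it is not a T-point -/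
lemma not_dep_a (F : MvPolynomial (Fin 4) 𝕜) (hG : Good F) (n a k1 k2 : V4 𝕜)
    (ha0 : Pol F a a a = 0) (hn : Pol F a a n ≠ 0) (hk1 : Pol F a a k1 = 0)
    (hk2 : Pol F a a k2 = 0)
    (hspan : ∀ x, Pol F a a x = 0 → ∃ w : Fin 3 → 𝕜, x = Psi a k1 k2 w)
    (ρ : V4 𝕜 →ₗ[𝕜] (Fin 3 → 𝕜)) (hρ : ∀ w, ρ (Psi a k1 k2 w) = w)
    (hnz : ¬ ∀ x, Pol F a a x = 0 → Pol F a x x = 0)
    (hnf : ¬ ∃ (κ : 𝕜) (ν : V4 𝕜 →ₗ[𝕜] 𝕜), κ ≠ 0 ∧
      ∀ x, Pol F a a x = 0 → κ * Pol F x x x = Pol F a x x * ν x) :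
    ¬ Dep F n a k1 k2 a := by
  have h := tri_Pol hG
  rintro ⟨v, hv0, hv⟩
  have hΨH : ∀ w : Fin 3 → 𝕜, Pol F a a (Psi a k1 k2 w) = 0 := by
    intro w
    unfold Psi
    rw [h.add₃, h.add₃, h.smul₃, h.smul₃, h.smul₃, ha0, hk1, hk2]; ring
  -- the relation in the frame
  have hrel : ∀ w : Fin 3 → 𝕜, v 0 * Pol F a a n * Pol F (Psi a k1 k2 w) (Psi a k1 k2 w)
      (Psi a k1 k2 w) + Pol F a (Psi a k1 k2 w) (Psi a k1 k2 w)
        * (v 1 * w 0 + v 2 * w 1 + v 3 * w 2) = 0 := by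
    intro w
    have e := hv w
    rw [Gfun_sum] at e
    have hp : prj F n a (Psi a k1 k2 w) = Pol F a a n • Psi a k1 k2 w := by
      unfold prj
      rw [hΨH w, zero_smul, sub_zero]
    rw [hp, ← hG.diag, h.smul₁, h.smul₂, h.smul₃, h.smul₂, h.smul₃] at e
    have hN2 : (Pol F a a n) ^ 2 ≠ 0 := pow_ne_zero 2 hn
    apply mul_left_cancel₀ hN2
    linear_combination e
  obtain ⟨ν, hν⟩ : ∃ ν : V4 𝕜 →ₗ[𝕜] 𝕜, ∀ w : Fin 3 → 𝕜,
      ν (Psi a k1 k2 w) = -(v 1 * w 0 + v 2 * w 1 + v 3 * w 2) := by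
    refine ⟨(-(v 1 • (LinearMap.proj 0 : (Fin 3 → 𝕜) →ₗ[𝕜] 𝕜) + v 2 • LinearMap.proj 1
      + v 3 • LinearMap.proj 2)).comp ρ, fun w => ?_⟩
    rw [LinearMap.comp_apply, hρ]
    simp only [LinearMap.neg_apply, LinearMap.add_apply, LinearMap.smul_apply,
      LinearMap.proj_apply, smul_eq_mul]
  by_cases hv00 : v 0 = 0
  · -- the quadric vanishes on the tangent plane
    apply hnz
    obtain ⟨ws, hws⟩ : ∃ ws : Fin 3 → 𝕜, v 1 * ws 0 + v 2 * ws 1 + v 3 * ws 2 ≠ 0 := by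
      by_contra hall
      push Not at hall
      apply hv0
      ext i
      fin_cases i
      · exact hv00
      · simpa using hall ![1, 0, 0]
      · simpa using hall ![0, 1, 0]
      · simpa using hall ![0, 0, 1]
    have hprod : ∀ x, Pol F a a x = 0 → Pol F a x x * ν x = 0 := by
      intro x hx
      obtain ⟨w, rfl⟩ := hspan x hx
      have e := hrel w
      rw [hv00] at e
      rw [hν]
      linear_combination -e
    have hxs : Pol F a a (Psi a k1 k2 ws) = 0 := hΨH ws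
    have hνs : ν (Psi a k1 k2 ws) ≠ 0 := by
      rw [hν]; exact neg_ne_zero.mpr hws
    have hQs : Pol F a (Psi a k1 k2 ws) (Psi a k1 k2 ws) = 0 :=
      (mul_eq_zero.mp (hprod _ hxs)).resolve_right hνs
    intro x hx
    by_cases hνx : ν x = 0
    · have hp1 : Pol F a a ((1:𝕜) • x + (1:𝕜) • Psi a k1 k2 ws) = 0 := by
        rw [h.add₃, h.smul₃, h.smul₃, hx, hxs]; ring
      have hm1 : Pol F a a ((1:𝕜) • x + (-1:𝕜) • Psi a k1 k2 ws) = 0 := by
        rw [h.add₃, h.smul₃, h.smul₃, hx, hxs]; ring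
      have hν1 : ν ((1:𝕜) • x + (1:𝕜) • Psi a k1 k2 ws) ≠ 0 := by
        rw [map_add, map_smul, map_smul, hνx, smul_zero, zero_add, one_smul]; exact hνs
      have hνm : ν ((1:𝕜) • x + (-1:𝕜) • Psi a k1 k2 ws) ≠ 0 := by
        rw [map_add, map_smul, map_smul, hνx, smul_zero, zero_add, smul_eq_mul]
        exact mul_ne_zero (by norm_num) hνs
      have q1 := (mul_eq_zero.mp (hprod _ hp1)).resolve_right hν1
      have qm := (mul_eq_zero.mp (hprod _ hm1)).resolve_right hνm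
      rw [h.bil2] at q1 qm
      linear_combination (1/2) * q1 + (1/2) * qm - hQs
    · exact (mul_eq_zero.mp (hprod x hx)).resolve_right hνx
  · apply hnf
    refine ⟨v 0 * Pol F a a n, ν, mul_ne_zero hv00 hn, fun x hx => ?_⟩
    obtain ⟨w, rfl⟩ := hspan x hx
    rw [hν]
    linear_combination hrel w

end Groth.Agent.Lib.CubicTptH1
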