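import Mathlib
import Groth.Agent.Lib.CubicTpt2_helper1

/-!
# T-points of a cubic surface, part 3: the tangent plane at a non-T-point contains only finitely
many T-points
-/

set_option autoImplicit false
set_option maxHeartbeats 1000000

universe u

namespace Groth.Agent.Lib.CubicTptH1

open MvPolynomial
open Groth.Agent.Lib.CubicSurfKH1

variable {𝕜 : Type*} [Field 𝕜] [IsAlgClosed 𝕜] [CharZero 𝕜]

lemma polyVec_Psi (a k1 k2 : V4 𝕜) {f1 f2 f3 : 𝕜 → 𝕜} (h1 : PolyFun f1) (h2 : PolyFun f2)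
    (h3 : PolyFun f3) : PolyVec (fun t => Psi a k1 k2 ![f1 t, f2 t, f3 t]) :=
  PolyVec.comb3 a k1 k2 h1 h2 h3

/-- a frame of the tangent plane adapted to the polar quadric -/
lemma frame_exists (F : MvPolynomial (Fin 4) 𝕜) (hG : Good F) (a : V4 𝕜) (ha0 : Pol F a a a = 0)
    (hτ : (tri_Pol hG).lin a a ≠ 0) (m0 : V4 𝕜 →ₗ[𝕜] 𝕜) (hm0 : m0 a ≠ 0)
    (hnq : ¬ ∀ x, Pol F a a x = 0 → m0 x = 0 → Pol F a x x = 0) :
    ∃ (n k1 k2 : V4 𝕜) (ρ : V4 𝕜 →ₗ[𝕜] (Fin 3 → 𝕜)),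
      Pol F a a n ≠ 0 ∧ Pol F a a k1 = 0 ∧ Pol F a a k2 = 0 ∧ 3 * Pol F a k1 k1 = 1 ∧
      (∀ x, Pol F a a x = 0 → ∃ w : Fin 3 → 𝕜, x = Psi a k1 k2 w) ∧
      (∀ w, ρ (Psi a k1 k2 w) = w) := by
  have h := tri_Pol hG
  have hτa : h.lin a a a = 0 := ha0
  push Not at hnq
  obtain ⟨x1, hx1τ, hx1m, hx1q⟩ := hnq
  obtain ⟨s, hs⟩ := exists_sqrt (3 * Pol F a x1 x1)
  have hs0 : s ≠ 0 := by
    rintro rfl
    apply hx1q
    linear_combination (-1/3) * hs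
  obtain ⟨k1, hk1def⟩ : ∃ k1 : V4 𝕜, k1 = s⁻¹ • x1 := ⟨_, rfl⟩
  have hk1τ : Pol F a a k1 = 0 := by rw [hk1def, h.smul₃, hx1τ, mul_zero]
  have hk1m : m0 k1 = 0 := by rw [hk1def, map_smul, hx1m, smul_zero]
  have hk1q : 3 * Pol F a k1 k1 = 1 := by
    rw [hk1def, h.smul₂, h.smul₃]
    have e : 3 * (s⁻¹ * (s⁻¹ * Pol F a x1 x1)) = s⁻¹ * s⁻¹ * (3 * Pol F a x1 x1) := by ring
    rw [e, ← hs]
    field_simp
  have hk10 : k1 ≠ 0 := by
    intro h0
    rw [h0, h.zero₂] at hk1q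
    norm_num at hk1q
  have hK := finrank_inf_ker (h.lin a a) m0 a hτ hτa hm0
  have hK1 : k1 ∈ LinearMap.ker (h.lin a a) ⊓ LinearMap.ker m0 :=
    Submodule.mem_inf.mpr ⟨LinearMap.mem_ker.mpr hk1τ, LinearMap.mem_ker.mpr hk1m⟩
  obtain ⟨k2, hk2, hind⟩ := exists_indep _ (le_of_eq hK.symm) hK1 hk10
  rw [Submodule.mem_inf, LinearMap.mem_ker, LinearMap.mem_ker] at hk2
  obtain ⟨hk2τ', hk2m⟩ := hk2
  have hk2τ : Pol F a a k2 = 0 := hk2τ'
  obtain ⟨n, hn⟩ : ∃ n, Pol F a a n ≠ 0 := by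
    by_contra hcon
    push Not at hcon
    exact hτ (LinearMap.ext fun x => by rw [Tri.lin_apply, hcon]; rfl)
  obtain ⟨Ψ, hΨ⟩ : ∃ Ψ : (Fin 3 → 𝕜) →ₗ[𝕜] (V4 𝕜), ∀ v, Ψ v = v 0 • a + v 1 • k1 + v 2 • k2 :=
    ⟨(LinearMap.proj 0).smulRight a + (LinearMap.proj 1).smulRight k1
      + (LinearMap.proj 2).smulRight k2, fun v => by simp⟩
  have hinj : LinearMap.ker Ψ = ⊥ := by
    rw [LinearMap.ker_eq_bot']
    intro v hv
    rw [hΨ] at hv
    have h0 : v 0 = 0 := by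
      have := congrArg m0 hv
      rw [map_add, map_add, map_smul, map_smul, map_smul, hk1m, hk2m, map_zero, smul_eq_mul,
        smul_eq_mul, smul_eq_mul, mul_zero, mul_zero, add_zero, add_zero] at this
      exact (mul_eq_zero.mp this).resolve_right hm0
    rw [h0, zero_smul, zero_add] at hv
    obtain ⟨h1, h2⟩ := hind _ _ hv
    ext j
    fin_cases j
    · exact h0
    · exact h1
    · exact h2
  obtain ⟨ρ, hρ⟩ := Ψ.exists_leftInverse_of_injective hinj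
  have hρ' : ∀ v, ρ (Psi a k1 k2 v) = v := fun v => by
    have := LinearMap.congr_fun hρ v
    rw [LinearMap.comp_apply, hΨ] at this
    exact this
  refine ⟨n, k1, k2, ρ, hn, hk1τ, hk2τ, hk1q, ?_, hρ'⟩
  intro x hx
  have hyτ : h.lin a a (x - (m0 x / m0 a) • a) = 0 := by
    rw [map_sub, map_smul, hτa, smul_zero, sub_zero]; exact hx
  have hym : m0 (x - (m0 x / m0 a) • a) = 0 := by
    rw [map_sub, map_smul, smul_eq_mul, div_mul_cancel₀ _ hm0, sub_self]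
  obtain ⟨s', t', hst⟩ := K_span (h.lin a a) m0 a hτ hτa hm0 hk1τ hk1m hk2τ hk2m hind _ hyτ hym
  refine ⟨![m0 x / m0 a, s', t'], ?_⟩
  show x = (m0 x / m0 a) • a + s' • k1 + t' • k2
  rw [add_assoc, ← hst]; module

/-- the main rational family of points of the tangent cubic, normalized to pass through `a` -/
lemma main_family (a k1 k2 : V4 𝕜) (A1 A0 g3 g2 g1 g0 t1 t2 : 𝕜)
    (hA1 : A1 = -(t1 + t2)) (hA0 : A0 = t1 * t2)
    (hC : ¬ (g3 * t1 ^ 3 + g2 * t1 ^ 2 + g1 * t1 + g0 = 0 ∧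
        g3 * t2 ^ 2 + (g2 + g3 * t1) * t2 + (g1 + g2 * t1 + g3 * t1 ^ 2) = 0)) :
    ∃ B : 𝕜 → V4 𝕜, PolyVec B ∧ (∃ t0, B t0 = a) ∧
      ∀ t : 𝕜, t ^ 2 + A1 * t + A0 ≠ 0 → ∃ c : 𝕜, c ≠ 0 ∧
        Psi a k1 k2 ![-(g3 * t ^ 3 + g2 * t ^ 2 + g1 * t + g0), (t ^ 2 + A1 * t + A0) * t,
          t ^ 2 + A1 * t + A0] = c • B t := by
  by_cases h1 : g3 * t1 ^ 3 + g2 * t1 ^ 2 + g1 * t1 + g0 = 0
  · have h2 : g3 * t2 ^ 2 + (g2 + g3 * t1) * t2 + (g1 + g2 * t1 + g3 * t1 ^ 2) ≠ 0 :=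
      fun h => hC ⟨h1, h⟩
    obtain ⟨c0, hc0⟩ : ∃ c0 : 𝕜,
        c0 = -(g3 * t2 ^ 2 + (g2 + g3 * t1) * t2 + (g1 + g2 * t1 + g3 * t1 ^ 2)) := ⟨_, rfl⟩
    have hc0' : c0 ≠ 0 := by rw [hc0]; exact neg_ne_zero.mpr h2
    have hcc : c0 * c0⁻¹ = 1 := mul_inv_cancel₀ hc0'
    refine ⟨fun t => Psi a k1 k2
      ![c0⁻¹ * -(g3 * t ^ 2 + (g2 + g3 * t1) * t + (g1 + g2 * t1 + g3 * t1 ^ 2)),
        c0⁻¹ * ((t - t2) * t), c0⁻¹ * (t - t2)], ?_, ⟨t2, ?_⟩,
      fun t ht => ⟨(t - t1) * c0, ?_, ?_⟩⟩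
    · apply polyVec_Psi <;> polyfun
    · show (c0⁻¹ * -(g3 * t2 ^ 2 + (g2 + g3 * t1) * t2 + (g1 + g2 * t1 + g3 * t1 ^ 2))) • a
        + (c0⁻¹ * ((t2 - t2) * t2)) • k1 + (c0⁻¹ * (t2 - t2)) • k2 = a
      rw [← hc0, inv_mul_cancel₀ hc0']
      simp only [sub_self, zero_mul, mul_zero, zero_smul, add_zero, one_smul]
    · apply mul_ne_zero _ hc0'
      intro h0
      apply ht
      have e : t = t1 := sub_eq_zero.mp h0
      rw [e, hA1, hA0]; ring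
    · apply Psi_eq_smul
      · show -(g3 * t ^ 3 + g2 * t ^ 2 + g1 * t + g0) = (t - t1) * c0
          * (c0⁻¹ * -(g3 * t ^ 2 + (g2 + g3 * t1) * t + (g1 + g2 * t1 + g3 * t1 ^ 2)))
        linear_combination (-1 : 𝕜) * h1
          + ((t - t1) * (g3 * t ^ 2 + (g2 + g3 * t1) * t + (g1 + g2 * t1 + g3 * t1 ^ 2))) * hcc
      · show (t ^ 2 + A1 * t + A0) * t = (t - t1) * c0 * (c0⁻¹ * ((t - t2) * t))
        linear_combination (t ^ 2) * hA1 + t * hA0 - ((t - t1) * (t - t2) * t) * hcc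
      · show t ^ 2 + A1 * t + A0 = (t - t1) * c0 * (c0⁻¹ * (t - t2))
        linear_combination t * hA1 + hA0 - ((t - t1) * (t - t2)) * hcc
  · obtain ⟨c0, hc0⟩ : ∃ c0 : 𝕜, c0 = -(g3 * t1 ^ 3 + g2 * t1 ^ 2 + g1 * t1 + g0) := ⟨_, rfl⟩
    have hc0' : c0 ≠ 0 := by rw [hc0]; exact neg_ne_zero.mpr h1
    have hcc : c0 * c0⁻¹ = 1 := mul_inv_cancel₀ hc0'
    have hq1 : t1 ^ 2 + A1 * t1 + A0 = 0 := by rw [hA1, hA0]; ring
    refine ⟨fun t => Psi a k1 k2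
      ![c0⁻¹ * -(g3 * t ^ 3 + g2 * t ^ 2 + g1 * t + g0), c0⁻¹ * ((t ^ 2 + A1 * t + A0) * t),
        c0⁻¹ * (t ^ 2 + A1 * t + A0)], ?_, ⟨t1, ?_⟩, fun t _ => ⟨c0, hc0', ?_⟩⟩
    · apply polyVec_Psi <;> polyfun
    · show (c0⁻¹ * -(g3 * t1 ^ 3 + g2 * t1 ^ 2 + g1 * t1 + g0)) • a
        + (c0⁻¹ * ((t1 ^ 2 + A1 * t1 + A0) * t1)) • k1 + (c0⁻¹ * (t1 ^ 2 + A1 * t1 + A0)) • k2 = a
      rw [← hc0, inv_mul_cancel₀ hc0', hq1]
      simp only [zero_mul, mul_zero, zero_smul, add_zero, one_smul]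
    · apply Psi_eq_smul
      · show -(g3 * t ^ 3 + g2 * t ^ 2 + g1 * t + g0)
          = c0 * (c0⁻¹ * -(g3 * t ^ 3 + g2 * t ^ 2 + g1 * t + g0))
        linear_combination (g3 * t ^ 3 + g2 * t ^ 2 + g1 * t + g0) * hcc
      · show (t ^ 2 + A1 * t + A0) * t = c0 * (c0⁻¹ * ((t ^ 2 + A1 * t + A0) * t))
        linear_combination (-((t ^ 2 + A1 * t + A0) * t)) * hcc
      · show t ^ 2 + A1 * t + A0 = c0 * (c0⁻¹ * (t ^ 2 + A1 * t + A0))
        linear_combination (-(t ^ 2 + A1 * t + A0)) * hcc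

/-- **S19500**: the tangent plane at a smooth non-T-point contains finitely many T-points -/
theorem main19500 (K : Type u) [Field K] [IsAlgClosed K] [CharZero K]
    (F : MvPolynomial (Fin 4) K) (hF : F.IsHomogeneous 3)
    (tp : (Fin 4 → K) → Prop)
    (htp : ∀ b : Fin 4 → K, tp b ↔ (b ≠ 0 ∧ MvPolynomial.eval b F = 0 ∧
      (∃ i : Fin 4, MvPolynomial.eval b (MvPolynomial.pderiv i F) ≠ 0) ∧
      ∃ L₁ L₂ L₃ : MvPolynomial (Fin 4) K, L₁.IsHomogeneous 1 ∧ L₂.IsHomogeneous 1 ∧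
        L₃.IsHomogeneous 1 ∧
        F - L₁ * L₂ * L₃ ∈ Ideal.span {∑ i : Fin 4,
          MvPolynomial.C (MvPolynomial.eval b (MvPolynomial.pderiv i F)) * MvPolynomial.X i}))
    (a : Fin 4 → K) (haF : MvPolynomial.eval a F = 0)
    (hsm : ∃ i : Fin 4, MvPolynomial.eval a (MvPolynomial.pderiv i F) ≠ 0) (ha : ¬ tp a)
    (H : Submodule K (Fin 4 → K))
    (hH : ∀ x : Fin 4 → K, x ∈ H ↔ MvPolynomial.eval x (∑ i : Fin 4,
      MvPolynomial.C (MvPolynomial.eval a (MvPolynomial.pderiv i F)) * MvPolynomial.X i) = 0) :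
    Set.Finite {U : Submodule K (Fin 4 → K) | Module.finrank K ↥U = 1 ∧ U ≤ H ∧
      ∀ b ∈ U, b ≠ 0 → tp b} := by
  have hG := good_of_homogeneous F hF
  have h := tri_Pol hG
  have ha0 : Pol F a a a = 0 := by rw [hG.diag]; exact haF
  have hℓx : ∀ b x : V4 K, eval x (∑ i : Fin 4, C (eval b (pderiv i F)) * X i)
      = 3 * Pol F b b x := by
    intro b x
    simp only [map_add, map_mul, eval_C, eval_X, Fin.sum_univ_four, hG.deriv]
    rw [h.coord b b x]; ring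
  obtain ⟨i1, hi1⟩ := hsm
  have hτ : h.lin a a ≠ 0 := by
    intro h0
    apply hi1
    rw [hG.deriv]
    have := LinearMap.congr_fun h0 (Pi.single i1 1)
    simp only [Tri.lin_apply, LinearMap.zero_apply] at this
    rw [this, mul_zero]
  have hHmem : ∀ x, x ∈ H ↔ Pol F a a x = 0 := by
    intro x
    rw [hH, hℓx]
    constructor
    · intro h3; linear_combination (1/3) * h3
    · intro h3; rw [h3, mul_zero]
  have ha_ne : a ≠ 0 := by
    intro h0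
    apply hτ
    apply LinearMap.ext
    intro x
    rw [Tri.lin_apply, h0, h.zero₁]; rfl
  obtain ⟨i0, hi0⟩ : ∃ i, a i ≠ 0 := by
    by_contra hcon
    push Not at hcon
    exact ha_ne (funext hcon)
  obtain ⟨m0, hm0⟩ : ∃ m0 : (V4 K) →ₗ[K] K, m0 a ≠ 0 := ⟨LinearMap.proj i0, hi0⟩
  have hT : ¬ ∃ L₁ L₂ L₃ : MvPolynomial (Fin 4) K, L₁.IsHomogeneous 1 ∧ L₂.IsHomogeneous 1 ∧
      L₃.IsHomogeneous 1 ∧ F - L₁ * L₂ * L₃ ∈ Ideal.span {(∑ i : Fin 4,
        C (eval a (pderiv i F)) * X i : MvPolynomial (Fin 4) K)} := by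
    intro hex
    exact ha ((htp a).mpr ⟨ha_ne, haF, ⟨i1, hi1⟩, hex⟩)
  have hcsum : ∀ x : V4 K, ∑ j, (fun j => eval a (pderiv j F)) j * x j = 3 * Pol F a a x := by
    intro x
    rw [← hℓx a x]
    simp only [map_sum, map_mul, eval_C, eval_X]
  have hnq : ¬ ∀ x, Pol F a a x = 0 → m0 x = 0 → Pol F a x x = 0 := fun hq =>
    hT (tpoint_of_quad_zero F hG a ha0 hτ m0 hm0 hq (fun j => eval a (pderiv j F)) hcsum)
  have hnf : ¬ ∃ (κ : K) (ν : V4 K →ₗ[K] K), κ ≠ 0 ∧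
      ∀ x, Pol F a a x = 0 → κ * Pol F x x x = Pol F a x x * ν x := by
    rintro ⟨κ, ν, hκ, hq⟩
    exact hT (tpoint_of_quad_factor F hG a ha0 hτ m0 hm0 κ hκ ν hq
      (fun j => eval a (pderiv j F)) hcsum)
  obtain ⟨n, k1, k2, ρ, hn, hk1, hk2, hA2, hspan, hρ⟩ :=
    frame_exists F hG a ha0 hτ m0 hm0 hnq
  have hnz : ¬ ∀ x, Pol F a a x = 0 → Pol F a x x = 0 :=
    fun hq => hnq (fun x hx _ => hq x hx)
  have hnd : ¬ Dep F n a k1 k2 a :=
    not_dep_a F hG n a k1 k2 ha0 hn hk1 hk2 hspan ρ hρ hnz hnf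
  have hdep : ∀ b, tp b → Dep F n a k1 k2 b := by
    intro b hb
    obtain ⟨-, hbF, -, L1, L2, L3, h1, h2, h3, hmem⟩ := (htp b).mp hb
    obtain ⟨l1, l2, l3, hfac⟩ := fac_of_tp F hG b L1 L2 L3 h1 h2 h3 hmem
    exact dep_of_tp F hG n a k1 k2 hn hspan b (by rw [hG.diag]; exact hbF) l1 l2 l3 hfac
  have hzero : ∀ b, tp b → Pol F b b b = 0 := fun b hb => by
    rw [hG.diag]; exact ((htp b).mp hb).2.1
  -- the coefficients of the tangent cubic
  obtain ⟨A1, hA1d⟩ : ∃ A1 : K, A1 = 6 * Pol F a k1 k2 := ⟨_, rfl⟩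
  obtain ⟨A0, hA0d⟩ : ∃ A0 : K, A0 = 3 * Pol F a k2 k2 := ⟨_, rfl⟩
  obtain ⟨g3, hg3⟩ : ∃ g3 : K, g3 = Pol F k1 k1 k1 := ⟨_, rfl⟩
  obtain ⟨g2, hg2⟩ : ∃ g2 : K, g2 = 3 * Pol F k1 k1 k2 := ⟨_, rfl⟩
  obtain ⟨g1, hg1⟩ : ∃ g1 : K, g1 = 3 * Pol F k1 k2 k2 := ⟨_, rfl⟩
  obtain ⟨g0, hg0⟩ : ∃ g0 : K, g0 = Pol F k2 k2 k2 := ⟨_, rfl⟩
  have hcube : ∀ w : Fin 3 → K, Pol F (Psi a k1 k2 w) (Psi a k1 k2 w) (Psi a k1 k2 w)
      = w 0 * ((w 1) ^ 2 + A1 * w 1 * w 2 + A0 * (w 2) ^ 2)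
        + (g3 * (w 1) ^ 3 + g2 * (w 1) ^ 2 * w 2 + g1 * w 1 * (w 2) ^ 2 + g0 * (w 2) ^ 3) := by
    intro w
    rw [frame_cube h a k1 k2 ha0 hk1 hk2 w, hA1d, hA0d, hg3, hg2, hg1, hg0]
    linear_combination (w 0 * (w 1) ^ 2) * hA2
  have hquad : ∀ w : Fin 3 → K, 3 * Pol F a (Psi a k1 k2 w) (Psi a k1 k2 w)
      = (w 1) ^ 2 + A1 * w 1 * w 2 + A0 * (w 2) ^ 2 := by
    intro w
    rw [frame_quad h a k1 k2 ha0 hk1 hk2 w, hA1d, hA0d]
    linear_combination ((w 1) ^ 2) * hA2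
  obtain ⟨t1, ht1⟩ := exists_quad_root (1:K) A1 A0 one_ne_zero
  obtain ⟨t2, ht2⟩ : ∃ t2 : K, t2 = -A1 - t1 := ⟨_, rfl⟩
  have hA1 : A1 = -(t1 + t2) := by rw [ht2]; ring
  have hA0 : A0 = t1 * t2 := by rw [ht2]; linear_combination ht1
  have hC : ¬ (g3 * t1 ^ 3 + g2 * t1 ^ 2 + g1 * t1 + g0 = 0 ∧
      g3 * t2 ^ 2 + (g2 + g3 * t1) * t2 + (g1 + g2 * t1 + g3 * t1 ^ 2) = 0) := by
    rintro ⟨hc1, hc2⟩
    apply hnf
    refine ⟨1, ((3:K) • ((LinearMap.proj 0 : (Fin 3 → K) →ₗ[K] K) + g3 • LinearMap.proj 1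
      + (g2 + g3 * t1 + g3 * t2) • LinearMap.proj 2)).comp ρ, one_ne_zero, fun x hx => ?_⟩
    obtain ⟨w, rfl⟩ := hspan x hx
    rw [LinearMap.comp_apply, hρ, one_mul, hcube]
    have hq := hquad w
    simp only [LinearMap.smul_apply, LinearMap.add_apply, LinearMap.proj_apply, smul_eq_mul]
    linear_combination (-(w 0 + g3 * w 1 + (g2 + g3 * t1 + g3 * t2) * w 2)) * hq
      + (w 2) ^ 3 * hc1 + ((w 1 - t1 * w 2) * (w 2) ^ 2) * hc2
      - ((w 1 * w 2) * (g3 * w 1 + (g2 + g3 * t1 + g3 * t2) * w 2)) * hA1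
      - ((w 2) ^ 2 * (g3 * w 1 + (g2 + g3 * t1 + g3 * t2) * w 2)) * hA0
  obtain ⟨B, hBpoly, ⟨tB, htB⟩, hBcov⟩ :=
    main_family a k1 k2 A1 A0 g3 g2 g1 g0 t1 t2 hA1 hA0 hC
  -- the two special families
  obtain ⟨B1, hB1⟩ : ∃ B1 : K → V4 K, ∀ s, B1 s = Psi a k1 k2 ![1, s * t1, s] :=
    ⟨_, fun _ => rfl⟩
  obtain ⟨B2, hB2⟩ : ∃ B2 : K → V4 K, ∀ s, B2 s = Psi a k1 k2 ![1, s * t2, s] :=
    ⟨_, fun _ => rfl⟩
  have hB1p : PolyVec B1 := by
    have e : B1 = fun s => Psi a k1 k2 ![1, s * t1, s] := funext hB1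
    rw [e]
    apply polyVec_Psi <;> polyfun
  have hB2p : PolyVec B2 := by
    have e : B2 = fun s => Psi a k1 k2 ![1, s * t2, s] := funext hB2
    rw [e]
    apply polyVec_Psi <;> polyfun
  have hB10 : B1 0 = a := by
    rw [hB1]
    show (1:K) • a + ((0:K) * t1) • k1 + (0:K) • k2 = a
    simp
  have hB20 : B2 0 = a := by
    rw [hB2]
    show (1:K) • a + ((0:K) * t2) • k1 + (0:K) • k2 = a
    simp
  have fin1 := finite_dep F n a k1 k2 hB1p 0 (by rw [hB10]; exact hnd)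
  have fin2 := finite_dep F n a k1 k2 hB2p 0 (by rw [hB20]; exact hnd)
  have fin3 := finite_dep F n a k1 k2 hBpoly tB (by rw [htB]; exact hnd)
  obtain ⟨SV, hSV⟩ : ∃ SV : Set (V4 K), SV =
      ({Psi a k1 k2 ![-g3, 1, 0], Psi a k1 k2 ![0, t1, 1], Psi a k1 k2 ![0, t2, 1]} : Set (V4 K))
      ∪ B1 '' {s | Dep F n a k1 k2 (B1 s)} ∪ B2 '' {s | Dep F n a k1 k2 (B2 s)}
      ∪ B '' {t | Dep F n a k1 k2 (B t)} := ⟨_, rfl⟩
  have hSVfin : SV.Finite := by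
    rw [hSV]
    exact (((Set.toFinite _).union (fin1.image _)).union (fin2.image _)).union (fin3.image _)
  have hcover : ∀ b : V4 K, b ≠ 0 → Pol F a a b = 0 → (∀ c : K, c ≠ 0 → tp (c • b)) →
      ∃ v ∈ SV, ∃ c : K, c ≠ 0 ∧ v = c • b := by
    intro b hb0 hbH hbtp
    obtain ⟨w, rfl⟩ := hspan b hbH
    by_cases hw2 : w 2 = 0
    · by_cases hw1 : w 1 = 0
      · exfalso
        have hw0 : w 0 ≠ 0 := by
          intro hw0
          apply hb0
          unfold Psi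
          rw [hw0, hw1, hw2]; simp
        apply ha
        have e : (w 0)⁻¹ • Psi a k1 k2 w = a := by
          unfold Psi
          rw [hw1, hw2, zero_smul, zero_smul, add_zero, add_zero, smul_smul,
            inv_mul_cancel₀ hw0, one_smul]
        have := hbtp _ (inv_ne_zero hw0)
        rwa [e] at this
      · have hF0 : Pol F (Psi a k1 k2 w) (Psi a k1 k2 w) (Psi a k1 k2 w) = 0 := by
          have := hzero _ (hbtp 1 one_ne_zero)
          rwa [one_smul] at this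
        rw [hcube, hw2] at hF0
        have hw0 : w 0 = -g3 * w 1 := by
          have e : (w 1) ^ 2 * (w 0 + g3 * w 1) = 0 := by linear_combination hF0
          have e' := (mul_eq_zero.mp e).resolve_left (pow_ne_zero 2 hw1)
          linear_combination e'
        refine ⟨Psi a k1 k2 ![-g3, 1, 0], ?_, (w 1)⁻¹, inv_ne_zero hw1, ?_⟩
        · rw [hSV]
          exact Set.mem_union_left _ (Set.mem_union_left _ (Set.mem_union_left _ (by simp)))
        · apply Psi_eq_smul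
          · show -g3 = (w 1)⁻¹ * w 0
            rw [hw0]; field_simp
          · show (1:K) = (w 1)⁻¹ * w 1
            exact (inv_mul_cancel₀ hw1).symm
          · show (0:K) = (w 1)⁻¹ * w 2
            rw [hw2, mul_zero]
    · obtain ⟨c2, hc2⟩ : ∃ c2 : K, c2 = (w 2)⁻¹ := ⟨_, rfl⟩
      have hc2w : c2 * w 2 = 1 := by rw [hc2]; exact inv_mul_cancel₀ hw2
      have hc20 : c2 ≠ 0 := by rw [hc2]; exact inv_ne_zero hw2
      obtain ⟨z, hz⟩ : ∃ z : K, z = c2 * w 0 := ⟨_, rfl⟩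
      obtain ⟨t, ht⟩ : ∃ t : K, t = c2 * w 1 := ⟨_, rfl⟩
      have hb' : Psi a k1 k2 ![z, t, 1] = c2 • Psi a k1 k2 w :=
        Psi_eq_smul a k1 k2 w ![z, t, 1] c2 hz ht hc2w.symm
      have hF' : z * (t ^ 2 + A1 * t + A0) + (g3 * t ^ 3 + g2 * t ^ 2 + g1 * t + g0) = 0 := by
        have e := hzero _ (hbtp c2 hc20)
        rw [← hb', hcube] at e
        have e' : z * (t ^ 2 + A1 * t * 1 + A0 * 1 ^ 2)
            + (g3 * t ^ 3 + g2 * t ^ 2 * 1 + g1 * t * 1 ^ 2 + g0 * 1 ^ 3) = 0 := e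
        linear_combination e'
      by_cases hq : t ^ 2 + A1 * t + A0 = 0
      · have hroot : (t - t1) * (t - t2) = 0 := by
          linear_combination hq - t * hA1 - hA0
        by_cases hz0 : z = 0
        · have hb0' : Psi a k1 k2 ![0, t, 1] = c2 • Psi a k1 k2 w := by rw [← hb', hz0]
          rcases mul_eq_zero.mp hroot with e | e
          · have et : t = t1 := sub_eq_zero.mp e
            refine ⟨Psi a k1 k2 ![0, t1, 1], ?_, c2, hc20, ?_⟩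
            · rw [hSV]
              exact Set.mem_union_left _ (Set.mem_union_left _ (Set.mem_union_left _ (by simp)))
            · rw [← et]; exact hb0'
          · have et : t = t2 := sub_eq_zero.mp e
            refine ⟨Psi a k1 k2 ![0, t2, 1], ?_, c2, hc20, ?_⟩
            · rw [hSV]
              exact Set.mem_union_left _ (Set.mem_union_left _ (Set.mem_union_left _ (by simp)))
            · rw [← et]; exact hb0'
        · have hzi : z⁻¹ * z = 1 := inv_mul_cancel₀ hz0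
          have hcne : z⁻¹ * c2 ≠ 0 := mul_ne_zero (inv_ne_zero hz0) hc20
          rcases mul_eq_zero.mp hroot with e | e
          · have et : t = t1 := sub_eq_zero.mp e
            have hv : B1 z⁻¹ = (z⁻¹ * c2) • Psi a k1 k2 w := by
              rw [hB1]
              apply Psi_eq_smul
              · show (1:K) = z⁻¹ * c2 * w 0
                rw [mul_assoc, ← hz, hzi]
              · show z⁻¹ * t1 = z⁻¹ * c2 * w 1
                rw [mul_assoc, ← ht, et]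
              · show z⁻¹ = z⁻¹ * c2 * w 2
                rw [mul_assoc, hc2w, mul_one]
            refine ⟨B1 z⁻¹, ?_, z⁻¹ * c2, hcne, hv⟩
            rw [hSV]
            refine Set.mem_union_left _ (Set.mem_union_left _
              (Set.mem_union_right _ ⟨z⁻¹, ?_, rfl⟩))
            show Dep F n a k1 k2 (B1 z⁻¹)
            rw [hv]
            exact hdep _ (hbtp _ hcne)
          · have et : t = t2 := sub_eq_zero.mp e
            have hv : B2 z⁻¹ = (z⁻¹ * c2) • Psi a k1 k2 w := by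
              rw [hB2]
              apply Psi_eq_smul
              · show (1:K) = z⁻¹ * c2 * w 0
                rw [mul_assoc, ← hz, hzi]
              · show z⁻¹ * t2 = z⁻¹ * c2 * w 1
                rw [mul_assoc, ← ht, et]
              · show z⁻¹ = z⁻¹ * c2 * w 2
                rw [mul_assoc, hc2w, mul_one]
            refine ⟨B2 z⁻¹, ?_, z⁻¹ * c2, hcne, hv⟩
            rw [hSV]
            refine Set.mem_union_left _ (Set.mem_union_right _ ⟨z⁻¹, ?_, rfl⟩)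
            show Dep F n a k1 k2 (B2 z⁻¹)
            rw [hv]
            exact hdep _ (hbtp _ hcne)
      · obtain ⟨c, hc0, hβ⟩ := hBcov t hq
        have hβb : Psi a k1 k2 ![-(g3 * t ^ 3 + g2 * t ^ 2 + g1 * t + g0),
            (t ^ 2 + A1 * t + A0) * t, t ^ 2 + A1 * t + A0]
            = ((t ^ 2 + A1 * t + A0) * c2) • Psi a k1 k2 w := by
          apply Psi_eq_smul
          · show -(g3 * t ^ 3 + g2 * t ^ 2 + g1 * t + g0) = (t ^ 2 + A1 * t + A0) * c2 * w 0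
            rw [mul_assoc, ← hz]; linear_combination -hF'
          · show (t ^ 2 + A1 * t + A0) * t = (t ^ 2 + A1 * t + A0) * c2 * w 1
            rw [mul_assoc, ← ht]
          · show t ^ 2 + A1 * t + A0 = (t ^ 2 + A1 * t + A0) * c2 * w 2
            rw [mul_assoc, hc2w, mul_one]
        have hBt : B t = (c⁻¹ * ((t ^ 2 + A1 * t + A0) * c2)) • Psi a k1 k2 w := by
          rw [← smul_smul, ← hβb, hβ, smul_smul, inv_mul_cancel₀ hc0, one_smul]
        have hcne : c⁻¹ * ((t ^ 2 + A1 * t + A0) * c2) ≠ 0 :=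
          mul_ne_zero (inv_ne_zero hc0) (mul_ne_zero hq hc20)
        refine ⟨B t, ?_, _, hcne, hBt⟩
        rw [hSV]
        refine Set.mem_union_right _ ⟨t, ?_, rfl⟩
        show Dep F n a k1 k2 (B t)
        rw [hBt]
        exact hdep _ (hbtp _ hcne)
  -- conclusion
  apply Set.Finite.subset (hSVfin.image (fun v => Submodule.span K {v}))
  rintro U ⟨hU1, hUH, hUtp⟩
  obtain ⟨b, hbU, hb0⟩ := CubicSurfKH1.exists_ne_zero U (le_of_eq hU1.symm)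
  have hUb : Submodule.span K {b} = U := by
    apply Submodule.eq_of_le_of_finrank_eq
    · rw [Submodule.span_le]
      intro x hx
      rw [Set.mem_singleton_iff] at hx
      rw [hx]; exact hbU
    · rw [finrank_span_singleton hb0, hU1]
  obtain ⟨v, hv, c, hc, hvc⟩ := hcover b hb0 ((hHmem b).mp (hUH hbU))
    (fun c hc => hUtp _ (U.smul_mem c hbU) (smul_ne_zero hc hb0))
  refine ⟨v, hv, ?_⟩
  show Submodule.span K {v} = U
  rw [← hUb, hvc, Submodule.span_singleton_smul_eq (IsUnit.mk0 c hc)]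

end Groth.Agent.Lib.CubicTptH1
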