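import Mathlib
import Groth.Agent.Lib.CubicTpt3_helper1

/-!
# Rational points of cubic surfaces, part 1: polynomial maps, rational vectors, genericity
-/

set_option autoImplicit false
set_option maxHeartbeats 1000000

namespace Groth.Agent.Lib.CubicRatH1

open MvPolynomial
open Groth.Agent.Lib.CubicSurfKH1

section PolyFun

variable {K : Type*} [Field K] [IsAlgClosed K] [CharZero K]

/-- functions `K⁴ → K` given by a polynomial -/
def MPolyFun (f : V4 K → K) : Prop := ∃ p : MvPolynomial (Fin 4) K, ∀ y, f y = eval y p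

namespace MPolyFun

lemma congr {f g : V4 K → K} (hf : MPolyFun f) (h : ∀ y, g y = f y) : MPolyFun g := by
  obtain ⟨p, hp⟩ := hf
  exact ⟨p, fun y => by rw [h, hp]⟩

lemma const (c : K) : MPolyFun (fun _ : V4 K => c) := ⟨C c, fun y => by simp⟩

lemma coord (i : Fin 4) : MPolyFun (fun y : V4 K => y i) := ⟨X i, fun y => by simp⟩

lemma add {f g : V4 K → K} (hf : MPolyFun f) (hg : MPolyFun g) :
    MPolyFun (fun y => f y + g y) := by
  obtain ⟨p, hp⟩ := hf
  obtain ⟨q, hq⟩ := hg
  exact ⟨p + q, fun y => by simp only [map_add, hp, hq]⟩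

lemma mul {f g : V4 K → K} (hf : MPolyFun f) (hg : MPolyFun g) :
    MPolyFun (fun y => f y * g y) := by
  obtain ⟨p, hp⟩ := hf
  obtain ⟨q, hq⟩ := hg
  exact ⟨p * q, fun y => by simp only [map_mul, hp, hq]⟩

lemma sub {f g : V4 K → K} (hf : MPolyFun f) (hg : MPolyFun g) :
    MPolyFun (fun y => f y - g y) := by
  obtain ⟨p, hp⟩ := hf
  obtain ⟨q, hq⟩ := hg
  exact ⟨p - q, fun y => by simp only [map_sub, hp, hq]⟩

end MPolyFun

/-- polynomial maps `K⁴ → K⁴` -/
def MPolyVec (x : V4 K → V4 K) : Prop := ∀ i, MPolyFun (fun y => x y i)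

namespace MPolyVec

lemma const (v : V4 K) : MPolyVec (fun _ : V4 K => v) := fun i => MPolyFun.const (v i)

lemma id : MPolyVec (fun y : V4 K => y) := fun i => MPolyFun.coord i

lemma add {x y : V4 K → V4 K} (hx : MPolyVec x) (hy : MPolyVec y) :
    MPolyVec (fun t => x t + y t) :=
  fun i => ((hx i).add (hy i)).congr (fun _ => rfl)

lemma sub {x y : V4 K → V4 K} (hx : MPolyVec x) (hy : MPolyVec y) :
    MPolyVec (fun t => x t - y t) :=
  fun i => ((hx i).sub (hy i)).congr (fun _ => rfl)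

lemma smul {f : V4 K → K} {x : V4 K → V4 K} (hf : MPolyFun f) (hx : MPolyVec x) :
    MPolyVec (fun t => f t • x t) :=
  fun i => (hf.mul (hx i)).congr (fun _ => rfl)

end MPolyVec

lemma MPolyFun.eval_mv (p : MvPolynomial (Fin 4) K) {x : V4 K → V4 K} (hx : MPolyVec x) :
    MPolyFun (fun t => eval (x t) p) := by
  induction p using MvPolynomial.induction_on with
  | C a => exact (MPolyFun.const a).congr (fun t => by simp)
  | add p q hp hq => exact (hp.add hq).congr (fun t => by simp)
  | mul_X p i hp => exact (hp.mul (hx i)).congr (fun t => by simp)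

lemma MPolyVec.pol (f : MvPolynomial (Fin 4) K) {x y z : V4 K → V4 K} (hx : MPolyVec x)
    (hy : MPolyVec y) (hz : MPolyVec z) : MPolyFun (fun t => Pol f (x t) (y t) (z t)) := by
  unfold Pol
  have e1 := MPolyFun.eval_mv f ((hx.add hy).add hz)
  have e2 := MPolyFun.eval_mv f (hx.add hy)
  have e3 := MPolyFun.eval_mv f (hx.add hz)
  have e4 := MPolyFun.eval_mv f (hy.add hz)
  have e5 := MPolyFun.eval_mv f hx
  have e6 := MPolyFun.eval_mv f hy
  have e7 := MPolyFun.eval_mv f hz
  exact (MPolyFun.const (1/6 : K)).mul ((((((e1.sub e2).sub e3).sub e4).add e5).add e6).add e7)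

lemma MPolyFun.lin (l : V4 K →ₗ[K] K) {x : V4 K → V4 K} (hx : MPolyVec x) :
    MPolyFun (fun y => l (x y)) := by
  have e : ∀ y, l (x y) = x y 0 * l (fun j => if (0 : Fin 4) = j then 1 else 0)
      + x y 1 * l (fun j => if (1 : Fin 4) = j then 1 else 0)
      + x y 2 * l (fun j => if (2 : Fin 4) = j then 1 else 0)
      + x y 3 * l (fun j => if (3 : Fin 4) = j then 1 else 0) := by
    intro y
    rw [LinearMap.pi_apply_eq_sum_univ l (x y), Fin.sum_univ_four]
    simp only [smul_eq_mul]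
  exact (((((hx 0).mul (MPolyFun.const _)).add ((hx 1).mul (MPolyFun.const _))).add
    ((hx 2).mul (MPolyFun.const _))).add ((hx 3).mul (MPolyFun.const _))).congr e

/-- polynomial functions which do not vanish identically -/
def NZ (f : V4 K → K) : Prop := MPolyFun f ∧ ∃ y, f y ≠ 0

lemma NZ.mul {f g : V4 K → K} (hf : NZ f) (hg : NZ g) : NZ (fun y => f y * g y) := by
  haveI : Infinite K := Infinite.of_injective (Nat.cast : ℕ → K) Nat.cast_injective
  obtain ⟨⟨p, hp⟩, y1, hy1⟩ := hf
  obtain ⟨⟨q, hq⟩, y2, hy2⟩ := hg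
  refine ⟨MPolyFun.mul ⟨p, hp⟩ ⟨q, hq⟩, ?_⟩
  have hp0 : p ≠ 0 := by
    rintro rfl
    apply hy1
    rw [hp]; simp
  have hq0 : q ≠ 0 := by
    rintro rfl
    apply hy2
    rw [hq]; simp
  by_contra hcon
  push Not at hcon
  apply mul_ne_zero hp0 hq0
  apply MvPolynomial.funext
  intro y
  rw [map_mul, map_zero, ← hp, ← hq]
  exact hcon y

lemma NZ.list_prod (L : List (V4 K → K)) (h : ∀ f ∈ L, NZ f) :
    NZ (fun y => (L.map (fun f => f y)).prod) := by
  induction L with
  | nil =>
    refine ⟨(MPolyFun.const 1).congr (fun y => by simp), 0, by simp⟩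
  | cons f L ih =>
    have h1 := h f (List.mem_cons_self)
    have h2 := ih (fun g hg => h g (List.mem_cons_of_mem f hg))
    have := h1.mul h2
    refine ⟨this.1.congr (fun y => by simp), ?_⟩
    obtain ⟨y, hy⟩ := this.2
    exact ⟨y, by simpa using hy⟩

end PolyFun

section LinAlg

variable {K : Type*} [Field K] [IsAlgClosed K] [CharZero K]

/-- a nonzero functional vanishing on an independent family of fewer than four vectors -/
lemma extend_li {m : ℕ} (hm : m < 4) (v : Fin m → V4 K) (hv : LinearIndependent K v) :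
    ∃ f : V4 K →ₗ[K] K, f ≠ 0 ∧ (∀ i, f (v i) = 0) ∧
      ∀ x, f x ≠ 0 → LinearIndependent K (Fin.cons x v : Fin (m + 1) → V4 K) := by
  have hlt : Submodule.span K (Set.range v) < ⊤ := by
    rw [lt_top_iff_ne_top]
    intro htop
    have h1 := finrank_span_eq_card hv
    rw [htop, finrank_top, finrank_V4, Fintype.card_fin] at h1
    omega
  obtain ⟨f, hf0, hfle⟩ := Submodule.exists_le_ker_of_lt_top _ hlt
  refine ⟨f, hf0, fun i => LinearMap.mem_ker.mp (hfle (Submodule.subset_span ⟨i, rfl⟩)),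
    fun x hx => ?_⟩
  rw [linearIndependent_finCons]
  exact ⟨hv, fun hmem => hx (LinearMap.mem_ker.mp (hfle hmem))⟩

/-- a nonzero functional vanishing at a point outside the hyperplane `τ = 0` does not vanish
identically on that hyperplane -/
lemma adm_of {τ f : V4 K →ₗ[K] K} (hf : f ≠ 0) (x : V4 K) (hfx : f x = 0) (hτx : τ x ≠ 0) :
    ∃ u, τ u = 0 ∧ f u ≠ 0 := by
  obtain ⟨y, hy⟩ : ∃ y, f y ≠ 0 := by
    by_contra h
    push Not at h
    exact hf (LinearMap.ext h)
  refine ⟨y - (τ y / τ x) • x, ?_, ?_⟩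
  · rw [map_sub, map_smul, smul_eq_mul, div_mul_cancel₀ _ hτx, sub_self]
  · rw [map_sub, map_smul, hfx, smul_zero, sub_zero]; exact hy

end LinAlg

section Rat

variable (k : Type*) [Field k] [CharZero k] (K : Type*) [Field K] [IsAlgClosed K] [CharZero K]
  [Algebra k K]

/-- the embedding of rational vectors -/
def iota {k : Type*} [Field k] (K : Type*) [Field K] [Algebra k K] (x : Fin 4 → k) : V4 K :=
  fun i => algebraMap k K (x i)

variable {k}

lemma eval_iota (p : MvPolynomial (Fin 4) k) (x : Fin 4 → k) :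
    eval (iota K x) (map (algebraMap k K) p) = algebraMap k K (eval x p) := by
  induction p using MvPolynomial.induction_on with
  | C a => simp
  | add p q hp hq => simp [hp, hq]
  | mul_X p i hp => simp [hp, iota]

lemma iota_injective : Function.Injective (iota K : (Fin 4 → k) → V4 K) := by
  intro x y hxy
  ext i
  exact (algebraMap k K).injective (congrFun hxy i)

lemma NZ.exists_rat {f : V4 K → K} (hf : NZ f) : ∃ u : Fin 4 → k, f (iota K u) ≠ 0 := by
  obtain ⟨⟨p, hp⟩, y, hy⟩ := hf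
  by_contra hcon
  push Not at hcon
  apply hy
  have hp0 : p = 0 := by
    have hs : ∀ _ : Fin 4, (Set.range (algebraMap k K)).Infinite :=
      fun _ => Set.infinite_range_of_injective (algebraMap k K).injective
    apply MvPolynomial.funext_set (fun _ => Set.range (algebraMap k K)) hs
    intro x hx
    rw [map_zero]
    have : ∀ i, ∃ c, algebraMap k K c = x i := fun i => hx i (Set.mem_univ i)
    choose u hu using this
    have e : x = iota K u := by
      ext i
      exact (hu i).symm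
    rw [e, ← hp]
    exact hcon u
  rw [hp, hp0, map_zero]

lemma exists_rat_list (L : List (V4 K → K)) (h : ∀ f ∈ L, NZ f) :
    ∃ u : Fin 4 → k, ∀ f ∈ L, f (iota K u) ≠ 0 := by
  obtain ⟨u, hu⟩ := NZ.exists_rat (k := k) K (NZ.list_prod L h)
  refine ⟨u, fun f hf h0 => hu ?_⟩
  apply List.prod_eq_zero
  rw [List.mem_map]
  exact ⟨f, hf, h0⟩

variable (k)

/-- rational scalars -/
def RatS (c : K) : Prop := ∃ c0 : k, algebraMap k K c0 = c

/-- rational vectors -/
def RatV (x : V4 K) : Prop := ∃ x0 : Fin 4 → k, iota K x0 = x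

variable {k K}

lemma RatS.add {c d : K} (hc : RatS k K c) (hd : RatS k K d) : RatS k K (c + d) := by
  obtain ⟨c0, rfl⟩ := hc
  obtain ⟨d0, rfl⟩ := hd
  exact ⟨c0 + d0, map_add _ _ _⟩

lemma RatS.sub {c d : K} (hc : RatS k K c) (hd : RatS k K d) : RatS k K (c - d) := by
  obtain ⟨c0, rfl⟩ := hc
  obtain ⟨d0, rfl⟩ := hd
  exact ⟨c0 - d0, map_sub _ _ _⟩

lemma RatS.mul {c d : K} (hc : RatS k K c) (hd : RatS k K d) : RatS k K (c * d) := by
  obtain ⟨c0, rfl⟩ := hc
  obtain ⟨d0, rfl⟩ := hd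
  exact ⟨c0 * d0, map_mul _ _ _⟩

lemma RatS.three : RatS k K (3 : K) := ⟨3, map_ofNat _ 3⟩

lemma RatS.sixth : RatS k K (1/6 : K) := ⟨1/6, by rw [map_div₀, map_one, map_ofNat]⟩

lemma RatV.iota (x0 : Fin 4 → k) : RatV k K (iota K x0) := ⟨x0, rfl⟩

lemma RatV.add {x y : V4 K} (hx : RatV k K x) (hy : RatV k K y) : RatV k K (x + y) := by
  obtain ⟨x0, rfl⟩ := hx
  obtain ⟨y0, rfl⟩ := hy
  exact ⟨x0 + y0, by ext i; simp [CubicRatH1.iota]⟩

lemma RatV.sub {x y : V4 K} (hx : RatV k K x) (hy : RatV k K y) : RatV k K (x - y) := by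
  obtain ⟨x0, rfl⟩ := hx
  obtain ⟨y0, rfl⟩ := hy
  exact ⟨x0 - y0, by ext i; simp [CubicRatH1.iota]⟩

lemma RatV.smul {c : K} {x : V4 K} (hc : RatS k K c) (hx : RatV k K x) : RatV k K (c • x) := by
  obtain ⟨c0, rfl⟩ := hc
  obtain ⟨x0, rfl⟩ := hx
  exact ⟨c0 • x0, by ext i; simp [CubicRatH1.iota]⟩

lemma RatV.single (i : Fin 4) : RatV k K (Pi.single i 1 : V4 K) := by
  refine ⟨Pi.single i 1, ?_⟩
  ext j
  by_cases hj : j = i
  · subst hj; simp [CubicRatH1.iota]
  · simp [CubicRatH1.iota, Pi.single_apply, hj]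

lemma RatS.eval (p : MvPolynomial (Fin 4) k) {x : V4 K} (hx : RatV k K x) :
    RatS k K (eval x (map (algebraMap k K) p)) := by
  obtain ⟨x0, rfl⟩ := hx
  exact ⟨MvPolynomial.eval x0 p, (eval_iota K p x0).symm⟩

lemma RatS.pol (F : MvPolynomial (Fin 4) k) {x y z : V4 K} (hx : RatV k K x) (hy : RatV k K y)
    (hz : RatV k K z) : RatS k K (Pol (map (algebraMap k K) F) x y z) := by
  unfold Pol
  have e1 := RatS.eval F ((hx.add hy).add hz)
  have e2 := RatS.eval F (hx.add hy)
  have e3 := RatS.eval F (hx.add hz)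
  have e4 := RatS.eval F (hy.add hz)
  have e5 := RatS.eval F hx
  have e6 := RatS.eval F hy
  have e7 := RatS.eval F hz
  exact RatS.sixth.mul ((((((e1.sub e2).sub e3).sub e4).add e5).add e6).add e7)

variable (K)

/-- linear independence descends from the image in `K⁴` -/
lemma li_of_iota {m : ℕ} (v : Fin m → (Fin 4 → k))
    (h : LinearIndependent K (fun i => iota K (v i))) : LinearIndependent k v := by
  rw [Fintype.linearIndependent_iff] at h ⊢
  intro c hc i
  have h1 := h (fun j => algebraMap k K (c j)) (by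
    ext l
    have h2 := congrFun hc l
    simp only [Finset.sum_apply, Pi.smul_apply, smul_eq_mul, Pi.zero_apply] at h2 ⊢
    have h3 := congrArg (algebraMap k K) h2
    rw [map_sum, map_zero] at h3
    rw [← h3]
    apply Finset.sum_congr rfl
    intro j _
    rw [map_mul]
    rfl) i
  exact (algebraMap k K).injective (h1.trans (map_zero _).symm)

end Rat

end Groth.Agent.Lib.CubicRatH1
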