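import Mathlib
import Groth.Agent.Lib.CubicRat1_helper1

/-!
# Rational points of cubic surfaces, part 2: residual points of tangent lines

For a point `b` of the cubic and `v` in the tangent plane at `b`, the line through `b` and `v`
meets the cubic in `b` (twice) and in `psi b v`.  If `b` is rational so is `psi b v` for rational
`v`.  If `b` is not a T-point these points are not contained in finitely many planes of the
tangent plane.
-/

set_option autoImplicit false
set_option maxHeartbeats 1000000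

namespace Groth.Agent.Lib.CubicRatH1

open MvPolynomial
open Groth.Agent.Lib.CubicSurfKH1
open Groth.Agent.Lib.CubicTptH1

section Geom

variable {𝕜 : Type*} [Field 𝕜] [IsAlgClosed 𝕜] [CharZero 𝕜]

/-- the T-point condition (without smoothness) -/
def TP (G : MvPolynomial (Fin 4) 𝕜) (b : V4 𝕜) : Prop :=
  ∃ L₁ L₂ L₃ : MvPolynomial (Fin 4) 𝕜, L₁.IsHomogeneous 1 ∧ L₂.IsHomogeneous 1 ∧
    L₃.IsHomogeneous 1 ∧
    G - L₁ * L₂ * L₃ ∈ Ideal.span {(∑ j : Fin 4, C (eval b (pderiv j G)) * X j :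
      MvPolynomial (Fin 4) 𝕜)}

/-- the residual point of the line through `b` and `v` -/
noncomputable def psi (F : MvPolynomial (Fin 4) 𝕜) (b v : V4 𝕜) : V4 𝕜 :=
  Pol F v v v • b - (3 * Pol F b v v) • v

lemma psi_eq (F : MvPolynomial (Fin 4) 𝕜) (b v : V4 𝕜) :
    psi F b v = (Pol F v v v) • b + (-(3 * Pol F b v v)) • v := by
  unfold psi; module

lemma psi_on (F : MvPolynomial (Fin 4) 𝕜) (hG : Good F) (b v : V4 𝕜) (hb : Pol F b b b = 0)
    (hv : Pol F b b v = 0) : Pol F (psi F b v) (psi F b v) (psi F b v) = 0 := by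
  have h := tri_Pol hG
  rw [psi_eq, h.cube2, hb, hv]; ring

lemma psi_tan (F : MvPolynomial (Fin 4) 𝕜) (hG : Good F) (b v : V4 𝕜) (hb : Pol F b b b = 0)
    (hv : Pol F b b v = 0) : Pol F b b (psi F b v) = 0 := by
  have h := tri_Pol hG
  unfold psi
  rw [h.sub₃, h.smul₃, h.smul₃, hb, hv]; ring

lemma psi_polar (F : MvPolynomial (Fin 4) 𝕜) (hG : Good F) (b v : V4 𝕜) (hb : Pol F b b b = 0)
    (hv : Pol F b b v = 0) : Pol F (psi F b v) (psi F b v) b = 9 * (Pol F b v v) ^ 3 := by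
  have h := tri_Pol hG
  rw [h.symm13 (psi F b v) (psi F b v) b, psi_eq, h.bil2, hb, hv]; ring

lemma psi_smul (F : MvPolynomial (Fin 4) 𝕜) (hG : Good F) (b v : V4 𝕜) (c : 𝕜) :
    psi F b (c • v) = c ^ 3 • psi F b v := by
  have h := tri_Pol hG
  unfold psi
  simp only [h.smul₁, h.smul₂, h.smul₃]
  module

lemma prj_tan (F : MvPolynomial (Fin 4) 𝕜) (hG : Good F) (n b u : V4 𝕜) :
    Pol F b b (prj F n b u) = 0 := by
  have h := tri_Pol hG
  unfold prj
  rw [h.sub₃, h.smul₃, h.smul₃]; ring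

lemma prj_of_tan (F : MvPolynomial (Fin 4) 𝕜) (n b x : V4 𝕜) (hx : Pol F b b x = 0) :
    prj F n b x = Pol F b b n • x := by
  unfold prj
  rw [hx, zero_smul, sub_zero]

lemma quad_zero_of_prod {T : V4 𝕜 → V4 𝕜 → V4 𝕜 → 𝕜} (h : Tri T) (b : V4 𝕜)
    (ν : V4 𝕜 →ₗ[𝕜] 𝕜) (hprod : ∀ x, T b b x = 0 → T b x x * ν x = 0) (xs : V4 𝕜)
    (hxs : T b b xs = 0) (hνs : ν xs ≠ 0) : ∀ x, T b b x = 0 → T b x x = 0 := by
  have hQs : T b xs xs = 0 := (mul_eq_zero.mp (hprod _ hxs)).resolve_right hνs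
  intro x hx
  by_cases hνx : ν x = 0
  · have hp1 : T b b ((1:𝕜) • x + (1:𝕜) • xs) = 0 := by
      rw [h.add₃, h.smul₃, h.smul₃, hx, hxs]; ring
    have hm1 : T b b ((1:𝕜) • x + (-1:𝕜) • xs) = 0 := by
      rw [h.add₃, h.smul₃, h.smul₃, hx, hxs]; ring
    have hν1 : ν ((1:𝕜) • x + (1:𝕜) • xs) ≠ 0 := by
      rw [map_add, map_smul, map_smul, hνx, smul_zero, zero_add, one_smul]; exact hνs
    have hνm : ν ((1:𝕜) • x + (-1:𝕜) • xs) ≠ 0 := by
      rw [map_add, map_smul, map_smul, hνx, smul_zero, zero_add, smul_eq_mul]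
      exact mul_ne_zero (by norm_num) hνs
    have q1 := (mul_eq_zero.mp (hprod _ hp1)).resolve_right hν1
    have qm := (mul_eq_zero.mp (hprod _ hm1)).resolve_right hνm
    rw [h.bil2] at q1 qm
    linear_combination (1/2) * q1 + (1/2) * qm - hQs
  · exact (mul_eq_zero.mp (hprod x hx)).resolve_right hνx

lemma sum_deriv (F : MvPolynomial (Fin 4) 𝕜) (hG : Good F) (b x : V4 𝕜) :
    ∑ j, (fun j => eval b (pderiv j F)) j * x j = 3 * Pol F b b x := by
  have h := tri_Pol hG
  simp only [Fin.sum_univ_four, hG.deriv]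
  rw [h.coord b b x]; ring

lemma eval_polar (F : MvPolynomial (Fin 4) 𝕜) (hG : Good F) (b y : V4 𝕜) :
    eval y (∑ j : Fin 4, C (b j) * pderiv j F) = 3 * Pol F b y y := by
  have h := tri_Pol hG
  simp only [map_add, map_mul, eval_C, Fin.sum_univ_four, hG.deriv]
  rw [h.symm13 b y y, h.coord y y b]; ring

lemma exists_lin_psi_ne (F : MvPolynomial (Fin 4) 𝕜) (hG : Good F) (b n : V4 𝕜)
    (hb : Pol F b b b = 0) (hn : Pol F b b n ≠ 0) (hT : ¬ TP F b) (l : V4 𝕜 →ₗ[𝕜] 𝕜)
    (u : V4 𝕜) (hu : Pol F b b u = 0) (hlu : l u ≠ 0) :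
    ∃ y, l (psi F b (prj F n b y)) ≠ 0 := by
  have h := tri_Pol hG
  by_contra hall
  push Not at hall
  have hτ : h.lin b b ≠ 0 := fun h0 => hn (by
    have := LinearMap.congr_fun h0 n
    simpa using this)
  have hb_ne : b ≠ 0 := by
    intro h0
    apply hn
    rw [h0, h.zero₁]
  obtain ⟨i0, hi0⟩ : ∃ i, b i ≠ 0 := by
    by_contra hcon
    push Not at hcon
    exact hb_ne (funext hcon)
  have hrel : ∀ x, Pol F b b x = 0 → Pol F x x x * l b = 3 * Pol F b x x * l x := by
    intro x hx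
    have e := hall x
    rw [prj_of_tan F n b x hx, psi_smul F hG, map_smul, smul_eq_mul] at e
    have e' := (mul_eq_zero.mp e).resolve_left (pow_ne_zero 3 hn)
    unfold psi at e'
    rw [map_sub, map_smul, map_smul, smul_eq_mul, smul_eq_mul] at e'
    linear_combination e'
  apply hT
  by_cases hlb : l b = 0
  · have hq : ∀ x, Pol F b b x = 0 → Pol F b x x = 0 := by
      apply quad_zero_of_prod h b l _ u hu hlu
      intro x hx
      have := hrel x hx
      rw [hlb, mul_zero] at this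
      linear_combination (-1/3) * this
    exact tpoint_of_quad_zero F hG b hb hτ (LinearMap.proj i0) hi0 (fun x hx _ => hq x hx)
      (fun j => eval b (pderiv j F)) (sum_deriv F hG b)
  · exact tpoint_of_quad_factor F hG b hb hτ (LinearMap.proj i0) hi0 (l b) hlb ((3:𝕜) • l)
      (fun x hx => by
        rw [LinearMap.smul_apply, smul_eq_mul]
        linear_combination hrel x hx) (fun j => eval b (pderiv j F)) (sum_deriv F hG b)

lemma exists_polar_ne (F : MvPolynomial (Fin 4) 𝕜) (hG : Good F) (b n : V4 𝕜)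
    (hb : Pol F b b b = 0) (hn : Pol F b b n ≠ 0) (hT : ¬ TP F b) :
    ∃ y, Pol F b (prj F n b y) (prj F n b y) ≠ 0 := by
  have h := tri_Pol hG
  by_contra hall
  push Not at hall
  have hτ : h.lin b b ≠ 0 := fun h0 => hn (by
    have := LinearMap.congr_fun h0 n
    simpa using this)
  have hb_ne : b ≠ 0 := by
    intro h0
    apply hn
    rw [h0, h.zero₁]
  obtain ⟨i0, hi0⟩ : ∃ i, b i ≠ 0 := by
    by_contra hcon
    push Not at hcon
    exact hb_ne (funext hcon)
  apply hT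
  refine tpoint_of_quad_zero F hG b hb hτ (LinearMap.proj i0) hi0 (fun x hx _ => ?_)
    (fun j => eval b (pderiv j F)) (sum_deriv F hG b)
  have e := hall x
  rw [prj_of_tan F n b x hx, h.smul₂, h.smul₃] at e
  have hN2 : Pol F b b n * Pol F b b n ≠ 0 := mul_ne_zero hn hn
  have e2 : (Pol F b b n * Pol F b b n) * Pol F b x x = 0 := by linear_combination e
  exact (mul_eq_zero.mp e2).resolve_left hN2

lemma exists_lin_psi_ne_sing (F : MvPolynomial (Fin 4) 𝕜) (hG : Good F) (hirr : Irreducible F)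
    (b : V4 𝕜) (hP : (∑ j : Fin 4, C (b j) * pderiv j F) ≠ 0) (l : V4 𝕜 →ₗ[𝕜] 𝕜)
    (hl : l ≠ 0) : ∃ y, l (psi F b y) ≠ 0 := by
  haveI : Infinite 𝕜 := Infinite.of_injective (Nat.cast : ℕ → 𝕜) Nat.cast_injective
  have h := tri_Pol hG
  by_contra hall
  push Not at hall
  obtain ⟨P, hPdef⟩ : ∃ P : MvPolynomial (Fin 4) 𝕜, P = ∑ j : Fin 4, C (b j) * pderiv j F :=
    ⟨_, rfl⟩
  rw [← hPdef] at hP
  have hPev : ∀ y, eval y P = 3 * Pol F b y y := fun y => by
    rw [hPdef]; exact eval_polar F hG b y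
  have hid : F * C (l b) = P * linPoly l := by
    apply MvPolynomial.funext
    intro y
    rw [map_mul, map_mul, eval_C, eval_linPoly, hPev, ← hG.diag]
    have e := hall y
    unfold psi at e
    rw [map_sub, map_smul, map_smul, smul_eq_mul, smul_eq_mul] at e
    linear_combination e
  have hlin0 : linPoly l ≠ 0 := by
    intro h0
    apply hl
    apply LinearMap.ext
    intro y
    rw [← eval_linPoly, h0, map_zero, LinearMap.zero_apply]
  by_cases hlb : l b = 0
  · rw [hlb, map_zero, mul_zero] at hid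
    rcases mul_eq_zero.mp hid.symm with h1 | h1
    · exact hP h1
    · exact hlin0 h1
  · have hfac : F = (C (l b)⁻¹ * P) * linPoly l := by
      have e1 : F = F * C (l b) * C (l b)⁻¹ := by
        rw [mul_assoc, ← C_mul, mul_inv_cancel₀ hlb, C_1, mul_one]
      rw [e1, hid]; ring
    rcases hirr.isUnit_or_isUnit hfac with hu | hu
    · have hu' := hu.map (eval (0 : V4 𝕜))
      rw [map_mul, eval_C, hPev, h.zero₂, mul_zero, mul_zero] at hu'
      exact not_isUnit_zero hu'
    · have hu' := hu.map (eval (0 : V4 𝕜))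
      rw [eval_linPoly, map_zero] at hu'
      exact not_isUnit_zero hu'

end Geom

section KP

variable {k : Type*} [Field k] [CharZero k] (K : Type*) [Field K] [IsAlgClosed K] [CharZero K]
  [Algebra k K]

/-- the key property at a smooth rational non-T-point -/
theorem KP_smooth (F : MvPolynomial (Fin 4) k) (hF : F.IsHomogeneous 3) (b : Fin 4 → k)
    (hbF : eval b F = 0) (i1 : Fin 4) (hi1 : eval b (pderiv i1 F) ≠ 0)
    (hT : ¬ TP (map (algebraMap k K) F) (iota K b))
    (Λ : List (V4 K →ₗ[K] K))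
    (hΛ : ∀ l ∈ Λ, ∃ u, Pol (map (algebraMap k K) F) (iota K b) (iota K b) u = 0 ∧ l u ≠ 0) :
    ∃ x : Fin 4 → k, eval x F = 0 ∧
      Pol (map (algebraMap k K) F) (iota K b) (iota K b) (iota K x) = 0 ∧
      Pol (map (algebraMap k K) F) (iota K x) (iota K x) (iota K b) ≠ 0 ∧
      ∀ l ∈ Λ, l (iota K x) ≠ 0 := by
  obtain ⟨G, hGdef⟩ : ∃ G, G = map (algebraMap k K) F := ⟨_, rfl⟩
  rw [← hGdef] at hT hΛ ⊢
  have hG := good_of_homogeneous G (by rw [hGdef]; exact hF.map _)
  have h := tri_Pol hG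
  obtain ⟨bb, hbb⟩ : ∃ bb, bb = iota K b := ⟨_, rfl⟩
  rw [← hbb] at hT hΛ ⊢
  have hb0 : Pol G bb bb bb = 0 := by
    rw [hG.diag, hbb, hGdef, eval_iota, hbF, map_zero]
  obtain ⟨n, hndef⟩ : ∃ n : V4 K, n = Pi.single i1 1 := ⟨_, rfl⟩
  have hn : Pol G bb bb n ≠ 0 := by
    intro h0
    apply hi1
    apply (algebraMap k K).injective
    rw [map_zero, ← eval_iota, ← pderiv_map, ← hGdef, ← hbb, hG.deriv, ← hndef, h0, mul_zero]
  have hprjV : MPolyVec (fun y => prj G n bb y) := by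
    unfold prj
    exact (MPolyVec.smul (MPolyVec.pol G (MPolyVec.const bb) (MPolyVec.const bb)
      (MPolyVec.const n)) MPolyVec.id).sub
      (MPolyVec.smul (MPolyVec.pol G (MPolyVec.const bb) (MPolyVec.const bb) MPolyVec.id)
        (MPolyVec.const n))
  have hqV : MPolyVec (fun y => psi G bb (prj G n bb y)) := by
    unfold psi
    exact (MPolyVec.smul (MPolyVec.pol G hprjV hprjV hprjV) (MPolyVec.const bb)).sub
      (MPolyVec.smul ((MPolyFun.const 3).mul (MPolyVec.pol G (MPolyVec.const bb) hprjV hprjV))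
        hprjV)
  have hf0 : NZ (fun y => Pol G bb (prj G n bb y) (prj G n bb y)) :=
    ⟨MPolyVec.pol G (MPolyVec.const bb) hprjV hprjV, exists_polar_ne G hG bb n hb0 hn hT⟩
  have hfl : ∀ l ∈ Λ, NZ (fun y => l (psi G bb (prj G n bb y))) := fun l hl => by
    obtain ⟨u, hu, hlu⟩ := hΛ l hl
    exact ⟨MPolyFun.lin l hqV, exists_lin_psi_ne G hG bb n hb0 hn hT l u hu hlu⟩
  obtain ⟨u, hu⟩ := exists_rat_list (k := k) K
    ((fun y => Pol G bb (prj G n bb y) (prj G n bb y)) ::
      Λ.map (fun l y => l (psi G bb (prj G n bb y))))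
    (by
      intro f hf
      rcases List.mem_cons.mp hf with rfl | hf
      · exact hf0
      · obtain ⟨l, hl, rfl⟩ := List.mem_map.mp hf
        exact hfl l hl)
  have hbbR : RatV k K bb := by rw [hbb]; exact RatV.iota b
  have hnR : RatV k K n := by rw [hndef]; exact RatV.single i1
  have huR : RatV k K (iota K u) := RatV.iota u
  have hpR : RatV k K (prj G n bb (iota K u)) := by
    unfold prj
    rw [hGdef]
    exact (RatV.smul (RatS.pol F hbbR hbbR hnR) huR).sub
      (RatV.smul (RatS.pol F hbbR hbbR huR) hnR)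
  have hqR : RatV k K (psi G bb (prj G n bb (iota K u))) := by
    unfold psi
    rw [hGdef] at hpR ⊢
    exact (RatV.smul (RatS.pol F hpR hpR hpR) hbbR).sub
      (RatV.smul (RatS.three.mul (RatS.pol F hbbR hpR hpR)) hpR)
  obtain ⟨x, hx⟩ := hqR
  have hv : Pol G bb bb (prj G n bb (iota K u)) = 0 := prj_tan G hG n bb _
  refine ⟨x, ?_, ?_, ?_, ?_⟩
  · apply (algebraMap k K).injective
    rw [map_zero, ← eval_iota, ← hGdef, hx, ← hG.diag]
    exact psi_on G hG bb _ hb0 hv
  · rw [hx]; exact psi_tan G hG bb _ hb0 hv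
  · rw [hx, psi_polar G hG bb _ hb0 hv]
    exact mul_ne_zero (by norm_num) (pow_ne_zero 3 (hu _ (List.mem_cons_self)))
  · intro l hl
    rw [hx]
    exact hu _ (List.mem_cons_of_mem _ (List.mem_map.mpr ⟨l, hl, rfl⟩))

/-- the key property at a singular rational point -/
theorem KP_sing (F : MvPolynomial (Fin 4) k) (hF : F.IsHomogeneous 3)
    (hirr : Irreducible (map (algebraMap k K) F))
    (hcone : ¬ ∃ v : Fin 4 → k, v ≠ 0 ∧ ∑ i : Fin 4, v i • pderiv i F = 0)
    (a : Fin 4 → k) (ha : a ≠ 0) (haF : eval a F = 0) (hsing : ∀ i, eval a (pderiv i F) = 0)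
    (Λ : List (V4 K →ₗ[K] K)) (hΛ : ∀ l ∈ Λ, l ≠ 0) :
    ∃ x : Fin 4 → k, eval x F = 0 ∧ ∀ l ∈ Λ, l (iota K x) ≠ 0 := by
  obtain ⟨G, hGdef⟩ : ∃ G, G = map (algebraMap k K) F := ⟨_, rfl⟩
  rw [← hGdef] at hirr
  have hG := good_of_homogeneous G (by rw [hGdef]; exact hF.map _)
  have h := tri_Pol hG
  obtain ⟨aa, haa⟩ : ∃ aa, aa = iota K a := ⟨_, rfl⟩
  have ha0 : Pol G aa aa aa = 0 := by
    rw [hG.diag, haa, hGdef, eval_iota, haF, map_zero]
  have htan : ∀ v, Pol G aa aa v = 0 := by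
    intro v
    have e : ∀ i, Pol G aa aa (Pi.single i 1) = 0 := by
      intro i
      have e1 := hG.deriv i aa
      rw [hGdef, pderiv_map, haa, eval_iota, hsing, map_zero] at e1
      rw [hGdef, haa]
      linear_combination (-1/3) * e1
    rw [h.coord aa aa v]
    simp only [e, mul_zero, add_zero]
  have hP : (∑ j : Fin 4, C (aa j) * pderiv j G) ≠ 0 := by
    intro h0
    apply hcone
    refine ⟨a, ha, ?_⟩
    apply map_injective (algebraMap k K) (algebraMap k K).injective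
    have e : map (algebraMap k K) (∑ i : Fin 4, a i • pderiv i F)
        = ∑ j : Fin 4, C (aa j) * pderiv j G := by
      rw [map_sum]
      apply Finset.sum_congr rfl
      intro j _
      rw [smul_eq_C_mul, map_mul, map_C, ← pderiv_map, hGdef, haa]
      rfl
    rw [e, h0, map_zero]
  have hqV : MPolyVec (fun y => psi G aa y) := by
    unfold psi
    exact (MPolyVec.smul (MPolyVec.pol G MPolyVec.id MPolyVec.id MPolyVec.id)
      (MPolyVec.const aa)).sub
      (MPolyVec.smul ((MPolyFun.const 3).mul (MPolyVec.pol G (MPolyVec.const aa) MPolyVec.id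
        MPolyVec.id)) MPolyVec.id)
  obtain ⟨u, hu⟩ := exists_rat_list (k := k) K (Λ.map (fun l y => l (psi G aa y)))
    (by
      intro f hf
      obtain ⟨l, hl, rfl⟩ := List.mem_map.mp hf
      exact ⟨MPolyFun.lin l hqV, exists_lin_psi_ne_sing G hG hirr aa hP l (hΛ l hl)⟩)
  have haaR : RatV k K aa := by rw [haa]; exact RatV.iota a
  have huR : RatV k K (iota K u) := RatV.iota u
  have hqR : RatV k K (psi G aa (iota K u)) := by
    unfold psi
    rw [hGdef]
    exact (RatV.smul (RatS.pol F huR huR huR) haaR).sub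
      (RatV.smul (RatS.three.mul (RatS.pol F haaR huR huR)) huR)
  obtain ⟨x, hx⟩ := hqR
  refine ⟨x, ?_, ?_⟩
  · apply (algebraMap k K).injective
    rw [map_zero, ← eval_iota, ← hGdef, hx, ← hG.diag]
    exact psi_on G hG aa _ ha0 (htan _)
  · intro l hl
    rw [hx]
    exact hu _ (List.mem_map.mpr ⟨l, hl, rfl⟩)

end KP

end Groth.Agent.Lib.CubicRatH1
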