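import Mathlib
import Groth.Agent.Lib.CubicRat2_helper1

/-!
# Rational points of cubic surfaces, part 3: five rational points in general position
-/

set_option autoImplicit false
set_option maxHeartbeats 1000000

universe u

namespace Groth.Agent.Lib.CubicRatH1

open MvPolynomial
open Groth.Agent.Lib.CubicSurfKH1
open Groth.Agent.Lib.CubicTptH1

section Geom

variable {𝕜 : Type*} [Field 𝕜] [IsAlgClosed 𝕜] [CharZero 𝕜]

lemma TP_smul (G : MvPolynomial (Fin 4) 𝕜) (hG : Good G) (x : V4 𝕜) (c : 𝕜) (hc : c ≠ 0)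
    (hT : TP G x) : TP G (c • x) := by
  have h := tri_Pol hG
  obtain ⟨L1, L2, L3, h1, h2, h3, hmem⟩ := hT
  refine ⟨L1, L2, L3, h1, h2, h3, ?_⟩
  obtain ⟨ℓ, hℓ⟩ : ∃ ℓ : MvPolynomial (Fin 4) 𝕜,
      ℓ = ∑ j : Fin 4, C (eval x (pderiv j G)) * X j := ⟨_, rfl⟩
  rw [← hℓ] at hmem
  have e : (∑ j : Fin 4, C (eval (c • x) (pderiv j G)) * X j : MvPolynomial (Fin 4) 𝕜)
      = C (c ^ 2) * ℓ := by
    rw [hℓ, Finset.mul_sum]
    apply Finset.sum_congr rfl
    intro j _
    rw [hG.deriv, hG.deriv, h.smul₁, h.smul₂, ← mul_assoc (C (c ^ 2)), ← C_mul]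
    congr 2
    ring
  rw [e]
  obtain ⟨r, hr⟩ := Ideal.mem_span_singleton'.mp hmem
  have hcc : (C ((c ^ 2)⁻¹) : MvPolynomial (Fin 4) 𝕜) * C (c ^ 2) = 1 := by
    rw [← C_mul, inv_mul_cancel₀ (pow_ne_zero 2 hc), C_1]
  exact Ideal.mem_span_singleton'.mpr ⟨r * C ((c ^ 2)⁻¹), by
    rw [← hr]; linear_combination (r * ℓ) * hcc⟩

lemma exists_sep (τ : V4 𝕜 →ₗ[𝕜] 𝕜) (hτ : τ ≠ 0) (U : Submodule 𝕜 (V4 𝕜))
    (hU : Module.finrank 𝕜 ↥U = 1) :
    ∃ l : V4 𝕜 →ₗ[𝕜] 𝕜, (∀ x ∈ U, l x = 0) ∧ ∃ u, τ u = 0 ∧ l u ≠ 0 := by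
  have hH := finrank_ker τ hτ
  have hnle : ¬ LinearMap.ker τ ≤ U := by
    intro hle
    have := Submodule.finrank_mono hle
    omega
  obtain ⟨x, hxH, hxU⟩ := SetLike.not_le_iff_exists.mp hnle
  obtain ⟨f, hfx, hfU⟩ := Submodule.exists_le_ker_of_notMem hxU
  exact ⟨f, fun y hy => LinearMap.mem_ker.mp (hfU hy), x, LinearMap.mem_ker.mp hxH, hfx⟩

lemma smooth_of_polar_ne (G : MvPolynomial (Fin 4) 𝕜) (hG : Good G) (x b : V4 𝕜)
    (hne : Pol G x x b ≠ 0) : ∃ i, eval x (pderiv i G) ≠ 0 := by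
  have h := tri_Pol hG
  by_contra hcon
  push Not at hcon
  apply hne
  have e : ∀ i, Pol G x x (Pi.single i 1) = 0 := fun i => by
    have := hcon i
    rw [hG.deriv] at this
    linear_combination (1/3) * this
  rw [h.coord x x b]
  simp only [e, mul_zero, add_zero]

/-- finitely many linear conditions cutting out the T-points in the tangent plane -/
theorem exists_sepList (G : MvPolynomial (Fin 4) 𝕜) (hGh : G.IsHomogeneous 3) (a : V4 𝕜)
    (haG : eval a G = 0) (hsm : ∃ i, eval a (pderiv i G) ≠ 0) (hT : ¬ TP G a) :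
    ∃ Λ : List (V4 𝕜 →ₗ[𝕜] 𝕜), (∀ l ∈ Λ, ∃ u, Pol G a a u = 0 ∧ l u ≠ 0) ∧
      ∀ x : V4 𝕜, Pol G a a x = 0 → eval x G = 0 → (∃ i, eval x (pderiv i G) ≠ 0) →
        (∀ l ∈ Λ, l x ≠ 0) → ¬ TP G x := by
  classical
  have hG := good_of_homogeneous G hGh
  have h := tri_Pol hG
  have hτ : h.lin a a ≠ 0 := by
    obtain ⟨i1, hi1⟩ := hsm
    intro h0
    apply hi1
    rw [hG.deriv]
    have := LinearMap.congr_fun h0 (Pi.single i1 1)
    simp only [Tri.lin_apply, LinearMap.zero_apply] at this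
    rw [this, mul_zero]
  obtain ⟨tp, htpdef⟩ : ∃ tp : V4 𝕜 → Prop, ∀ b, tp b ↔ (b ≠ 0 ∧ eval b G = 0 ∧
      (∃ i, eval b (pderiv i G) ≠ 0) ∧ TP G b) := ⟨_, fun _ => Iff.rfl⟩
  have hfin := main19500 𝕜 G hGh tp htpdef a haG hsm
    (fun hta => hT ((htpdef a).mp hta).2.2.2) (LinearMap.ker (h.lin a a)) (by
      intro x
      rw [LinearMap.mem_ker, Tri.lin_apply]
      have e : eval x (∑ i : Fin 4, C (eval a (pderiv i G)) * X i) = 3 * Pol G a a x := by
        simp only [map_sum, map_mul, eval_C, eval_X]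
        exact sum_deriv G hG a x
      rw [e]
      constructor
      · intro h0; rw [h0, mul_zero]
      · intro h3; linear_combination (1/3) * h3)
  have hsep : ∀ U : Submodule 𝕜 (V4 𝕜), ∃ l : V4 𝕜 →ₗ[𝕜] 𝕜, Module.finrank 𝕜 ↥U = 1 →
      ((∀ x ∈ U, l x = 0) ∧ ∃ u, Pol G a a u = 0 ∧ l u ≠ 0) := by
    intro U
    by_cases hU : Module.finrank 𝕜 ↥U = 1
    · obtain ⟨l, h1, h2⟩ := exists_sep (h.lin a a) hτ U hU
      exact ⟨l, fun _ => ⟨h1, h2⟩⟩
    · exact ⟨0, fun h' => absurd h' hU⟩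
  choose sep hsep' using hsep
  refine ⟨hfin.toFinset.toList.map sep, ?_, ?_⟩
  · intro l hl
    obtain ⟨U, hU, rfl⟩ := List.mem_map.mp hl
    rw [Finset.mem_toList, Set.Finite.mem_toFinset] at hU
    exact (hsep' U hU.1).2
  · intro x hxH hxG hxsm hxl hTx
    have hx0 : x ≠ 0 := by
      rintro rfl
      obtain ⟨i, hi⟩ := hxsm
      apply hi
      rw [hG.deriv, h.zero₁, mul_zero]
    have hmemU : Submodule.span 𝕜 {x} ∈ {U : Submodule 𝕜 (V4 𝕜) | Module.finrank 𝕜 ↥U = 1 ∧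
        U ≤ LinearMap.ker (h.lin a a) ∧ ∀ b ∈ U, b ≠ 0 → tp b} := by
      refine ⟨finrank_span_singleton hx0, ?_, ?_⟩
      · rw [Submodule.span_singleton_le_iff_mem, LinearMap.mem_ker]
        exact hxH
      · intro b hb hb0
        obtain ⟨c, rfl⟩ := Submodule.mem_span_singleton.mp hb
        have hc : c ≠ 0 := by
          rintro rfl
          exact hb0 (zero_smul _ _)
        rw [htpdef]
        refine ⟨hb0, ?_, ?_, TP_smul G hG x c hc hTx⟩
        · rw [← hG.diag, h.smul₁, h.smul₂, h.smul₃, hG.diag, hxG]; ring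
        · obtain ⟨i, hi⟩ := hxsm
          refine ⟨i, ?_⟩
          rw [hG.deriv, h.smul₁, h.smul₂]
          rw [hG.deriv] at hi
          intro h0
          apply hi
          have e : c * c * (3 * Pol G x x (Pi.single i 1)) = 0 := by linear_combination h0
          exact (mul_eq_zero.mp e).resolve_left (mul_ne_zero hc hc)
    have hl := hxl (sep (Submodule.span 𝕜 {x})) (List.mem_map.mpr ⟨_, by
      rw [Finset.mem_toList, Set.Finite.mem_toFinset]; exact hmemU, rfl⟩)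
    exact hl ((hsep' _ hmemU.1).1 x (Submodule.mem_span_singleton_self x))

end Geom

section Sel

variable {k : Type*} [Field k] [CharZero k] (K : Type*) [Field K] [IsAlgClosed K] [CharZero K]
  [Algebra k K]
variable (F : MvPolynomial (Fin 4) k)

local notation "Fb" => MvPolynomial.map (algebraMap k K) F

/-- the last point and the conclusion -/
theorem finish (a q1 q2 q3 : Fin 4 → k)
    (h0 : eval a F = 0) (h1 : eval q1 F = 0) (h2 : eval q2 F = 0) (h3 : eval q3 F = 0)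
    (LI3 : LinearIndependent K ![iota K q3, iota K q2, iota K q1, iota K a])
    (hprov : ∀ f1 f2 f3 f4 : V4 K →ₗ[K] K, f1 ≠ 0 → f2 ≠ 0 → f3 ≠ 0 → f4 ≠ 0 →
      (f1 (iota K q2) = 0 ∧ f1 (iota K q1) = 0 ∧ f1 (iota K a) = 0) →
      (f2 (iota K q3) = 0 ∧ f2 (iota K q1) = 0 ∧ f2 (iota K a) = 0) →
      (f3 (iota K q3) = 0 ∧ f3 (iota K q2) = 0 ∧ f3 (iota K a) = 0) →
      (f4 (iota K q3) = 0 ∧ f4 (iota K q2) = 0 ∧ f4 (iota K q1) = 0) →
      ∃ q4 : Fin 4 → k, eval q4 F = 0 ∧ f1 (iota K q4) ≠ 0 ∧ f2 (iota K q4) ≠ 0 ∧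
        f3 (iota K q4) ≠ 0 ∧ f4 (iota K q4) ≠ 0) :
    ∃ p : Fin 5 → (Fin 4 → k), p 0 = a ∧ (∀ j : Fin 5, eval (p j) F = 0) ∧
      ∀ j : Fin 5, LinearIndependent k (fun i : Fin 4 => p (j.succAbove i)) := by
  have t1 : LinearIndependent K ![iota K q2, iota K q1, iota K a] := by
    have e : ![iota K q2, iota K q1, iota K a]
        = ![iota K q3, iota K q2, iota K q1, iota K a] ∘ ![1, 2, 3] := by
      funext i; fin_cases i <;> rfl
    rw [e]; exact LI3.comp _ (by decide)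
  have t2 : LinearIndependent K ![iota K q3, iota K q1, iota K a] := by
    have e : ![iota K q3, iota K q1, iota K a]
        = ![iota K q3, iota K q2, iota K q1, iota K a] ∘ ![0, 2, 3] := by
      funext i; fin_cases i <;> rfl
    rw [e]; exact LI3.comp _ (by decide)
  have t3 : LinearIndependent K ![iota K q3, iota K q2, iota K a] := by
    have e : ![iota K q3, iota K q2, iota K a]
        = ![iota K q3, iota K q2, iota K q1, iota K a] ∘ ![0, 1, 3] := by
      funext i; fin_cases i <;> rfl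
    rw [e]; exact LI3.comp _ (by decide)
  have t4 : LinearIndependent K ![iota K q3, iota K q2, iota K q1] := by
    have e : ![iota K q3, iota K q2, iota K q1]
        = ![iota K q3, iota K q2, iota K q1, iota K a] ∘ ![0, 1, 2] := by
      funext i; fin_cases i <;> rfl
    rw [e]; exact LI3.comp _ (by decide)
  obtain ⟨f1, hf1, hv1, he1⟩ := extend_li (by norm_num) _ t1
  obtain ⟨f2, hf2, hv2, he2⟩ := extend_li (by norm_num) _ t2
  obtain ⟨f3, hf3, hv3, he3⟩ := extend_li (by norm_num) _ t3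
  obtain ⟨f4, hf4, hv4, he4⟩ := extend_li (by norm_num) _ t4
  obtain ⟨q4, h4, n1, n2, n3, n4⟩ := hprov f1 f2 f3 f4 hf1 hf2 hf3 hf4
    ⟨hv1 0, hv1 1, hv1 2⟩ ⟨hv2 0, hv2 1, hv2 2⟩ ⟨hv3 0, hv3 1, hv3 2⟩ ⟨hv4 0, hv4 1, hv4 2⟩
  have L1 : LinearIndependent K ![iota K q4, iota K q2, iota K q1, iota K a] := he1 _ n1
  have L2 : LinearIndependent K ![iota K q4, iota K q3, iota K q1, iota K a] := he2 _ n2
  have L3 : LinearIndependent K ![iota K q4, iota K q3, iota K q2, iota K a] := he3 _ n3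
  have L4 : LinearIndependent K ![iota K q4, iota K q3, iota K q2, iota K q1] := he4 _ n4
  refine ⟨![a, q1, q2, q3, q4], rfl, ?_, ?_⟩
  · intro j
    fin_cases j
    · exact h0
    · exact h1
    · exact h2
    · exact h3
    · exact h4
  · intro j
    apply li_of_iota K
    fin_cases j
    · have key := L4.comp _ Fin.rev_injective
      have e : (fun i : Fin 4 => iota K ((![a, q1, q2, q3, q4] : Fin 5 → (Fin 4 → k))
          ((0 : Fin 5).succAbove i)))
          = ![iota K q4, iota K q3, iota K q2, iota K q1] ∘ Fin.rev := by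
        funext i; fin_cases i <;> rfl
      rw [← e] at key
      exact key
    · have key := L3.comp _ Fin.rev_injective
      have e : (fun i : Fin 4 => iota K ((![a, q1, q2, q3, q4] : Fin 5 → (Fin 4 → k))
          ((1 : Fin 5).succAbove i)))
          = ![iota K q4, iota K q3, iota K q2, iota K a] ∘ Fin.rev := by
        funext i; fin_cases i <;> rfl
      rw [← e] at key
      exact key
    · have key := L2.comp _ Fin.rev_injective
      have e : (fun i : Fin 4 => iota K ((![a, q1, q2, q3, q4] : Fin 5 → (Fin 4 → k))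
          ((2 : Fin 5).succAbove i)))
          = ![iota K q4, iota K q3, iota K q1, iota K a] ∘ Fin.rev := by
        funext i; fin_cases i <;> rfl
      rw [← e] at key
      exact key
    · have key := L1.comp _ Fin.rev_injective
      have e : (fun i : Fin 4 => iota K ((![a, q1, q2, q3, q4] : Fin 5 → (Fin 4 → k))
          ((3 : Fin 5).succAbove i)))
          = ![iota K q4, iota K q2, iota K q1, iota K a] ∘ Fin.rev := by
        funext i; fin_cases i <;> rfl
      rw [← e] at key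
      exact key
    · have key := LI3.comp _ Fin.rev_injective
      have e : (fun i : Fin 4 => iota K ((![a, q1, q2, q3, q4] : Fin 5 → (Fin 4 → k))
          ((4 : Fin 5).succAbove i)))
          = ![iota K q3, iota K q2, iota K q1, iota K a] ∘ Fin.rev := by
        funext i; fin_cases i <;> rfl
      rw [← e] at key
      exact key

lemma iota_ne_zero {a : Fin 4 → k} (ha : a ≠ 0) : iota K a ≠ 0 := by
  intro h0
  apply ha
  apply iota_injective K
  rw [h0]
  ext i
  simp [iota]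

/-- the singular case -/
theorem five_sing (hF : F.IsHomogeneous 3) (hirr : Irreducible Fb)
    (hcone : ¬ ∃ v : Fin 4 → k, v ≠ 0 ∧ ∑ i : Fin 4, v i • pderiv i F = 0)
    (a : Fin 4 → k) (ha : a ≠ 0) (hFa : eval a F = 0) (hsing : ∀ i, eval a (pderiv i F) = 0) :
    ∃ p : Fin 5 → (Fin 4 → k), p 0 = a ∧ (∀ j : Fin 5, eval (p j) F = 0) ∧
      ∀ j : Fin 5, LinearIndependent k (fun i : Fin 4 => p (j.succAbove i)) := by
  have KP := KP_sing K F hF hirr hcone a ha hFa hsing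
  have LI0 : LinearIndependent K ![iota K a] :=
    linearIndependent_unique_iff.mpr (iota_ne_zero K ha)
  obtain ⟨f1, hf1, -, he1⟩ := extend_li (by norm_num) _ LI0
  obtain ⟨q1, hq1F, hq1⟩ := KP [f1] (by
    intro l hl
    rw [List.mem_singleton] at hl
    rw [hl]; exact hf1)
  have LI1 : LinearIndependent K ![iota K q1, iota K a] := he1 _ (hq1 f1 (by simp))
  obtain ⟨f2, hf2, -, he2⟩ := extend_li (by norm_num) _ LI1
  obtain ⟨q2, hq2F, hq2⟩ := KP [f2] (by
    intro l hl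
    rw [List.mem_singleton] at hl
    rw [hl]; exact hf2)
  have LI2 : LinearIndependent K ![iota K q2, iota K q1, iota K a] := he2 _ (hq2 f2 (by simp))
  obtain ⟨f3, hf3, -, he3⟩ := extend_li (by norm_num) _ LI2
  obtain ⟨q3, hq3F, hq3⟩ := KP [f3] (by
    intro l hl
    rw [List.mem_singleton] at hl
    rw [hl]; exact hf3)
  have LI3 : LinearIndependent K ![iota K q3, iota K q2, iota K q1, iota K a] :=
    he3 _ (hq3 f3 (by simp))
  apply finish K F a q1 q2 q3 hFa hq1F hq2F hq3F LI3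
  intro g1 g2 g3 g4 hg1 hg2 hg3 hg4 _ _ _ _
  obtain ⟨q4, hq4F, hq4⟩ := KP [g1, g2, g3, g4] (by
    intro l hl
    simp only [List.mem_cons, List.not_mem_nil, or_false] at hl
    rcases hl with rfl | rfl | rfl | rfl
    · exact hg1
    · exact hg2
    · exact hg3
    · exact hg4)
  exact ⟨q4, hq4F, hq4 _ (by simp), hq4 _ (by simp), hq4 _ (by simp), hq4 _ (by simp)⟩

/-- the smooth case -/
theorem five_smooth (hF : F.IsHomogeneous 3) (a : Fin 4 → k) (ha : a ≠ 0) (hFa : eval a F = 0)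
    (i1 : Fin 4) (hi1 : eval a (pderiv i1 F) ≠ 0) (hT : ¬ TP Fb (iota K a)) :
    ∃ p : Fin 5 → (Fin 4 → k), p 0 = a ∧ (∀ j : Fin 5, eval (p j) F = 0) ∧
      ∀ j : Fin 5, LinearIndependent k (fun i : Fin 4 => p (j.succAbove i)) := by
  have hGh : (Fb).IsHomogeneous 3 := hF.map _
  have hG := good_of_homogeneous Fb hGh
  have h := tri_Pol hG
  have hevd : ∀ (x : Fin 4 → k) (i : Fin 4),
      eval (iota K x) (pderiv i Fb) = algebraMap k K (eval x (pderiv i F)) := by
    intro x i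
    rw [pderiv_map, eval_iota]
  have hev0 : ∀ x : Fin 4 → k, eval x F = 0 → eval (iota K x) Fb = 0 := by
    intro x hx
    rw [eval_iota, hx, map_zero]
  have hdiag0 : ∀ x : Fin 4 → k, eval x F = 0 →
      Pol Fb (iota K x) (iota K x) (iota K x) = 0 := by
    intro x hx
    rw [hG.diag]; exact hev0 x hx
  have hsmK : ∀ x : Fin 4 → k, (∃ i, eval (iota K x) (pderiv i Fb) ≠ 0) →
      ∃ j, eval x (pderiv j F) ≠ 0 := by
    rintro x ⟨j, hj⟩
    refine ⟨j, fun h0 => hj ?_⟩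
    rw [hevd, h0, map_zero]
  have ha0 := hdiag0 a hFa
  obtain ⟨n, hndef⟩ : ∃ n : V4 K, n = Pi.single i1 1 := ⟨_, rfl⟩
  have hn : Pol Fb (iota K a) (iota K a) n ≠ 0 := by
    intro h0
    apply hi1
    apply (algebraMap k K).injective
    rw [map_zero, ← hevd, hG.deriv, ← hndef, h0, mul_zero]
  have hsm : ∃ i, eval (iota K a) (pderiv i Fb) ≠ 0 := by
    refine ⟨i1, ?_⟩
    rw [hevd]
    intro h0
    exact hi1 ((algebraMap k K).injective (h0.trans (map_zero _).symm))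
  obtain ⟨ΛU, hΛadm, hΛnt⟩ := exists_sepList Fb hGh (iota K a) (hev0 a hFa) hsm hT
  -- first point
  have LI0 : LinearIndependent K ![n, iota K a] := by
    rw [LinearIndependent.pair_iff]
    intro s t hst
    have e := congrArg (h.lin (iota K a) (iota K a)) hst
    rw [map_add, map_smul, map_smul, map_zero, Tri.lin_apply, Tri.lin_apply, ha0, smul_eq_mul,
      smul_eq_mul, mul_zero, add_zero] at e
    have hs : s = 0 := (mul_eq_zero.mp e).resolve_right hn
    rw [hs, zero_smul, zero_add] at hst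
    exact ⟨hs, (smul_eq_zero.mp hst).resolve_right (iota_ne_zero K ha)⟩
  obtain ⟨f1, hf1, hf1v, hf1e⟩ := extend_li (by norm_num) _ LI0
  have adm1 : ∃ u, Pol Fb (iota K a) (iota K a) u = 0 ∧ f1 u ≠ 0 :=
    adm_of (τ := h.lin (iota K a) (iota K a)) hf1 n (hf1v 0) hn
  obtain ⟨q1, hq1F, hq1H, hq1a, hq1Λ⟩ := KP_smooth K F hF a hFa i1 hi1 hT (f1 :: ΛU) (by
    intro l hl
    rcases List.mem_cons.mp hl with rfl | hl
    · exact adm1
    · exact hΛadm l hl)
  have LI1 : LinearIndependent K ![iota K q1, n, iota K a] :=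
    hf1e _ (hq1Λ f1 List.mem_cons_self)
  have hq1sm := smooth_of_polar_ne Fb hG (iota K q1) (iota K a) hq1a
  obtain ⟨j1, hj1⟩ := hsmK q1 hq1sm
  have hTq1 : ¬ TP Fb (iota K q1) := hΛnt (iota K q1) hq1H (hev0 q1 hq1F) hq1sm
    (fun l hl => hq1Λ l (List.mem_cons_of_mem _ hl))
  -- second point
  obtain ⟨f2, hf2, hf2v, hf2e⟩ := extend_li (by norm_num) _ LI1
  have adm2 : ∃ u, Pol Fb (iota K a) (iota K a) u = 0 ∧ f2 u ≠ 0 :=
    adm_of (τ := h.lin (iota K a) (iota K a)) hf2 n (hf2v 1) hn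
  have admg1 : ∃ u, Pol Fb (iota K a) (iota K a) u = 0 ∧
      (h.lin (iota K q1) (iota K q1)) u ≠ 0 := ⟨iota K a, ha0, hq1a⟩
  obtain ⟨q2, hq2F, hq2H, hq2a, hq2Λ⟩ := KP_smooth K F hF a hFa i1 hi1 hT
    (f2 :: h.lin (iota K q1) (iota K q1) :: ΛU) (by
    intro l hl
    rcases List.mem_cons.mp hl with rfl | hl
    · exact adm2
    · rcases List.mem_cons.mp hl with rfl | hl
      · exact admg1
      · exact hΛadm l hl)
  have LI2 : LinearIndependent K ![iota K q2, iota K q1, n, iota K a] :=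
    hf2e _ (hq2Λ f2 List.mem_cons_self)
  have hq12 : Pol Fb (iota K q1) (iota K q1) (iota K q2) ≠ 0 :=
    hq2Λ (h.lin (iota K q1) (iota K q1)) (List.mem_cons_of_mem _ List.mem_cons_self)
  have LI2' : LinearIndependent K ![iota K q2, iota K q1, iota K a] := by
    have e : ![iota K q2, iota K q1, iota K a]
        = ![iota K q2, iota K q1, n, iota K a] ∘ ![0, 1, 3] := by
      funext i; fin_cases i <;> rfl
    rw [e]; exact LI2.comp _ (by decide)
  have hq2sm := smooth_of_polar_ne Fb hG (iota K q2) (iota K a) hq2a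
  obtain ⟨j2, hj2⟩ := hsmK q2 hq2sm
  have hTq2 : ¬ TP Fb (iota K q2) := hΛnt (iota K q2) hq2H (hev0 q2 hq2F) hq2sm
    (fun l hl => hq2Λ l (List.mem_cons_of_mem _ (List.mem_cons_of_mem _ hl)))
  -- third point
  obtain ⟨f3, hf3, hf3v, hf3e⟩ := extend_li (by norm_num) _ LI2'
  have adm3 : ∃ u, Pol Fb (iota K q1) (iota K q1) u = 0 ∧ f3 u ≠ 0 :=
    adm_of (τ := h.lin (iota K q1) (iota K q1)) hf3 (iota K a) (hf3v 2) hq1a
  have hg2 : h.lin (iota K q2) (iota K q2) ≠ 0 := by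
    intro h0
    apply hq2a
    have := LinearMap.congr_fun h0 (iota K a)
    simpa using this
  have admg2 : ∃ u, Pol Fb (iota K q1) (iota K q1) u = 0 ∧
      (h.lin (iota K q2) (iota K q2)) u ≠ 0 :=
    adm_of (τ := h.lin (iota K q1) (iota K q1)) hg2 (iota K q2) (hdiag0 q2 hq2F) hq12
  obtain ⟨q3, hq3F, -, -, hq3Λ⟩ := KP_smooth K F hF q1 hq1F j1 hj1 hTq1
    [f3, h.lin (iota K q2) (iota K q2)] (by
    intro l hl
    rcases List.mem_cons.mp hl with rfl | hl
    · exact adm3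
    · rw [List.mem_singleton] at hl
      rw [hl]; exact admg2)
  have LI3 : LinearIndependent K ![iota K q3, iota K q2, iota K q1, iota K a] :=
    hf3e _ (hq3Λ f3 List.mem_cons_self)
  have hq23 : Pol Fb (iota K q2) (iota K q2) (iota K q3) ≠ 0 :=
    hq3Λ (h.lin (iota K q2) (iota K q2)) (List.mem_cons_of_mem _ List.mem_cons_self)
  -- the last point
  apply finish K F a q1 q2 q3 hFa hq1F hq2F hq3F LI3
  intro g1 g2 g3 g4 hg1 hg2' hg3 hg4 hv1 hv2 hv3 hv4
  have a1 : ∃ u, Pol Fb (iota K q2) (iota K q2) u = 0 ∧ g1 u ≠ 0 :=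
    adm_of (τ := h.lin (iota K q2) (iota K q2)) hg1 (iota K a) hv1.2.2 hq2a
  have a2 : ∃ u, Pol Fb (iota K q2) (iota K q2) u = 0 ∧ g2 u ≠ 0 :=
    adm_of (τ := h.lin (iota K q2) (iota K q2)) hg2' (iota K a) hv2.2.2 hq2a
  have a3 : ∃ u, Pol Fb (iota K q2) (iota K q2) u = 0 ∧ g3 u ≠ 0 :=
    adm_of (τ := h.lin (iota K q2) (iota K q2)) hg3 (iota K a) hv3.2.2 hq2a
  have a4 : ∃ u, Pol Fb (iota K q2) (iota K q2) u = 0 ∧ g4 u ≠ 0 :=
    adm_of (τ := h.lin (iota K q2) (iota K q2)) hg4 (iota K q3) hv4.1 hq23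
  obtain ⟨q4, hq4F, -, -, hq4Λ⟩ := KP_smooth K F hF q2 hq2F j2 hj2 hTq2 [g1, g2, g3, g4] (by
    intro l hl
    simp only [List.mem_cons, List.not_mem_nil, or_false] at hl
    rcases hl with rfl | rfl | rfl | rfl
    · exact a1
    · exact a2
    · exact a3
    · exact a4)
  exact ⟨q4, hq4F, hq4Λ _ (by simp), hq4Λ _ (by simp), hq4Λ _ (by simp), hq4Λ _ (by simp)⟩

end Sel

/-- **S16348** -/
theorem main16348 (k : Type u) [Field k] [CharZero k]
    (F : MvPolynomial (Fin 4) k) (hF : F.IsHomogeneous 3)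
    (hirr : Irreducible (MvPolynomial.map (algebraMap k (AlgebraicClosure k)) F))
    (hcone : ¬ ∃ v : Fin 4 → k, v ≠ 0 ∧ ∑ i : Fin 4, v i • MvPolynomial.pderiv i F = 0)
    (a : Fin 4 → k) (ha : a ≠ 0) (hFa : MvPolynomial.eval a F = 0)
    (ℓ : MvPolynomial (Fin 4) (AlgebraicClosure k))
    (hℓ : ℓ = ∑ i : Fin 4, MvPolynomial.C (algebraMap k (AlgebraicClosure k)
      (MvPolynomial.eval a (MvPolynomial.pderiv i F))) * MvPolynomial.X i)
    (hT : ¬ ∃ L₁ L₂ L₃ : MvPolynomial (Fin 4) (AlgebraicClosure k), L₁.IsHomogeneous 1 ∧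
      L₂.IsHomogeneous 1 ∧ L₃.IsHomogeneous 1 ∧
      MvPolynomial.map (algebraMap k (AlgebraicClosure k)) F - L₁ * L₂ * L₃ ∈ Ideal.span {ℓ}) :
    ∃ p : Fin 5 → (Fin 4 → k), p 0 = a ∧ (∀ j : Fin 5, MvPolynomial.eval (p j) F = 0) ∧
      ∀ j : Fin 5, LinearIndependent k (fun i : Fin 4 => p (j.succAbove i)) := by
  by_cases hsm : ∃ i, eval a (pderiv i F) ≠ 0
  · obtain ⟨i1, hi1⟩ := hsm
    apply five_smooth (AlgebraicClosure k) F hF a ha hFa i1 hi1
    intro hTP
    apply hT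
    obtain ⟨L1, L2, L3, h1, h2, h3, hmem⟩ := hTP
    refine ⟨L1, L2, L3, h1, h2, h3, ?_⟩
    rw [hℓ]
    have e : ∀ i, eval (iota (AlgebraicClosure k) a)
        (pderiv i (map (algebraMap k (AlgebraicClosure k)) F))
        = algebraMap k (AlgebraicClosure k) (eval a (pderiv i F)) := by
      intro i
      rw [pderiv_map, eval_iota]
    simp only [e] at hmem
    exact hmem
  · push Not at hsm
    exact five_sing (AlgebraicClosure k) F hF hirr hcone a ha hFa hsm

end Groth.Agent.Lib.CubicRatH1
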