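import Mathlib
import Groth.Agent.Lib.NodalCubic3_helper1

set_option autoImplicit false
set_option maxHeartbeats 1000000

namespace Groth.Agent.Lib.CubicSurfKH1

open Polynomial

universe u

variable {𝕜 : Type*} [Field 𝕜] [IsAlgClosed 𝕜] [CharZero 𝕜]
variable {F : (V4 𝕜) → (V4 𝕜) → (V4 𝕜) → 𝕜}

/-! ### frames at a singular point whose tangent cone is a smooth conic (no smoothness assumed) -/

lemma nframe_indep0 (h : Tri F) {p : V4 𝕜} (hp : p ≠ 0) (sing : ∀ y, F p p y = 0) (w0 w1 w2 : V4 𝕜)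
    (ψ : (V4 𝕜) →ₗ[𝕜] 𝕜) (hψp : ψ p = 0) (hψ0 : ψ w0 = 0) (hψ2 : ψ w2 = 0) (hψ1 : ψ w1 ≠ 0)
    (b00 : F p w0 w0 = 0) (b02 : F p w0 w2 = 1 / 2) (b22 : F p w2 w2 = 0)
    (b01 : F p w0 w1 = 0) (b21 : F p w2 w1 = 0) :
    ∀ a b c d : 𝕜, a • p + b • w0 + c • w1 + d • w2 = 0 → a = 0 ∧ b = 0 ∧ c = 0 ∧ d = 0 := by
  intro a b c d hv
  have hc : c = 0 := by
    have h3 := congrArg ψ hv
    simp only [map_add, map_smul, smul_eq_mul, hψp, hψ0, hψ2, mul_zero, add_zero, zero_add,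
      map_zero] at h3
    exact (mul_eq_zero.mp h3).resolve_right hψ1
  have hd : d = 0 := by
    have h3 := congrArg (h.lin p w0) hv
    simp only [map_add, map_smul, smul_eq_mul, Tri.lin_apply, map_zero, h.symm23 p w0 p,
      sing, b00, b01, b02, mul_zero, add_zero, zero_add] at h3
    linear_combination 2 * h3
  have hb : b = 0 := by
    have h3 := congrArg (h.lin p w2) hv
    simp only [map_add, map_smul, smul_eq_mul, Tri.lin_apply, map_zero, h.symm23 p w2 p,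
      sing, b22, b21, h.symm23 p w2 w0, b02, mul_zero, add_zero, zero_add] at h3
    linear_combination 2 * h3
  have ha : a = 0 := by
    rw [hb, hc, hd, zero_smul, zero_smul, zero_smul, add_zero, add_zero, add_zero] at hv
    exact (smul_eq_zero.mp hv).resolve_right hp
  exact ⟨ha, hb, hc, hd⟩

lemma exists_nframe0 (h : Tri F) {p : V4 𝕜} (hp : p ≠ 0) (sing : ∀ y, F p p y = 0)
    (rad : ∀ y, (∀ z, F p y z = 0) → ∃ c : 𝕜, y = c • p) :
    ∃ (w0 w1 w2 : V4 𝕜) (tp t0 t1 t2 : (V4 𝕜) →ₗ[𝕜] 𝕜), NFrame F p w0 w1 w2 tp t0 t1 t2 := by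
  have hlt : Submodule.span 𝕜 ({p} : Set (V4 𝕜)) < ⊤ := by
    rw [lt_top_iff_ne_top]
    intro htop
    have h1 := finrank_span_singleton (K := 𝕜) hp
    rw [htop, finrank_top, finrank_V4] at h1
    omega
  obtain ⟨ψ1, hψ1, hle1⟩ := Submodule.exists_le_ker_of_lt_top _ hlt
  have hψ1p : ψ1 p = 0 := LinearMap.mem_ker.mp (hle1 (Submodule.mem_span_singleton_self p))
  obtain ⟨y, hy⟩ := exists_eq_one ψ1 hψ1
  have hy0 : y ≠ 0 := by
    rintro rfl
    simp at hy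
  have hlt2 : Submodule.span 𝕜 ({p} : Set (V4 𝕜)) ⊔ Submodule.span 𝕜 {y} < ⊤ := by
    rw [lt_top_iff_ne_top]
    intro htop
    have h1 := Submodule.finrank_add_le_finrank_add_finrank
      (Submodule.span 𝕜 ({p} : Set (V4 𝕜))) (Submodule.span 𝕜 {y})
    rw [htop, finrank_top, finrank_V4, finrank_span_singleton hp,
      finrank_span_singleton hy0] at h1
    omega
  obtain ⟨ψ2, hψ2, hle2⟩ := Submodule.exists_le_ker_of_lt_top _ hlt2
  have hψ2p : ψ2 p = 0 := LinearMap.mem_ker.mp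
    (hle2 (Submodule.mem_sup_left (Submodule.mem_span_singleton_self p)))
  have hψ2y : ψ2 y = 0 := LinearMap.mem_ker.mp
    (hle2 (Submodule.mem_sup_right (Submodule.mem_span_singleton_self y)))
  obtain ⟨x, hx⟩ := exists_eq_one ψ2 hψ2
  -- an isotropic vector
  obtain ⟨s, t, hst, hq⟩ := binary_quad_root (F p x x) (2 * F p x y) (F p y y)
  obtain ⟨w0, hw0⟩ : ∃ w0, w0 = s • x + t • y := ⟨_, rfl⟩
  have b00 : F p w0 w0 = 0 := by
    rw [hw0, h.bil2]; linear_combination hq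
  have hw0p : ∀ c : 𝕜, w0 ≠ c • p := by
    intro c hc
    have h2 := congrArg ψ2 hc
    have h1 := congrArg ψ1 hc
    rw [hw0] at h1 h2
    simp only [map_add, map_smul, smul_eq_mul, hx, hy, hψ2y, hψ1p, hψ2p, mul_one, mul_zero,
      add_zero] at h1 h2
    rcases hst with hs | ht
    · exact hs h2
    · apply ht
      rw [h2] at h1
      simpa using h1
  have hw00 : w0 ≠ 0 := by
    intro h0
    exact hw0p 0 (by rw [h0, zero_smul])
  obtain ⟨z, hz⟩ : ∃ z, F p w0 z ≠ 0 := by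
    by_contra hcon
    push Not at hcon
    obtain ⟨c, hc⟩ := rad w0 hcon
    exact hw0p c hc
  obtain ⟨z', hz'⟩ : ∃ z', z' = (1 / (2 * F p w0 z)) • z := ⟨_, rfl⟩
  have hBz' : F p w0 z' = 1 / 2 := by
    rw [hz', h.smul₃]; field_simp
  obtain ⟨w2, hw2⟩ : ∃ w2, w2 = z' - (F p z' z') • w0 := ⟨_, rfl⟩
  have b02 : F p w0 w2 = 1 / 2 := by
    rw [hw2, h.sub₃, h.smul₃, b00, hBz']; ring
  have b22 : F p w2 w2 = 0 := by
    have e : w2 = (1 : 𝕜) • z' + (-(F p z' z')) • w0 := by rw [hw2]; module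
    rw [e, h.bil2, b00, h.symm23 p z' w0, hBz']; ring
  have b20 : F p w2 w0 = 1 / 2 := by rw [h.symm23]; exact b02
  have hw20 : w2 ≠ 0 := by
    intro h0
    rw [h0, h.zero₃] at b02
    norm_num at b02
  have hlt3 : Submodule.span 𝕜 ({p} : Set (V4 𝕜)) ⊔ Submodule.span 𝕜 {w0}
      ⊔ Submodule.span 𝕜 {w2} < ⊤ := by
    rw [lt_top_iff_ne_top]
    intro htop
    have h1 := Submodule.finrank_add_le_finrank_add_finrank
      (Submodule.span 𝕜 ({p} : Set (V4 𝕜)) ⊔ Submodule.span 𝕜 {w0}) (Submodule.span 𝕜 {w2})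
    have h2 := Submodule.finrank_add_le_finrank_add_finrank
      (Submodule.span 𝕜 ({p} : Set (V4 𝕜))) (Submodule.span 𝕜 {w0})
    rw [htop, finrank_top, finrank_V4, finrank_span_singleton hw20] at h1
    rw [finrank_span_singleton hp, finrank_span_singleton hw00] at h2
    omega
  obtain ⟨ψ3, hψ3, hle3⟩ := Submodule.exists_le_ker_of_lt_top _ hlt3
  have hψ3p : ψ3 p = 0 := LinearMap.mem_ker.mp
    (hle3 (Submodule.mem_sup_left (Submodule.mem_sup_left (Submodule.mem_span_singleton_self p))))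
  have hψ30 : ψ3 w0 = 0 := LinearMap.mem_ker.mp
    (hle3 (Submodule.mem_sup_left (Submodule.mem_sup_right
      (Submodule.mem_span_singleton_self w0))))
  have hψ32 : ψ3 w2 = 0 := LinearMap.mem_ker.mp
    (hle3 (Submodule.mem_sup_right (Submodule.mem_span_singleton_self w2)))
  obtain ⟨u, hu⟩ := exists_eq_one ψ3 hψ3
  obtain ⟨w1', hw1'⟩ : ∃ w1', w1' = u - (2 * F p w2 u) • w0 - (2 * F p w0 u) • w2 := ⟨_, rfl⟩
  have hψ31' : ψ3 w1' = 1 := by
    rw [hw1']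
    simp only [map_sub, map_smul, smul_eq_mul, hψ30, hψ32, hu, mul_zero, sub_zero]
  have b01' : F p w0 w1' = 0 := by
    rw [hw1', h.sub₃, h.sub₃, h.smul₃, h.smul₃, b00, b02]; ring
  have b21' : F p w2 w1' = 0 := by
    rw [hw1', h.sub₃, h.sub₃, h.smul₃, h.smul₃, b20, b22]; ring
  have hind' := nframe_indep0 h hp sing w0 w1' w2 ψ3 hψ3p hψ30 hψ32 (by rw [hψ31']; exact one_ne_zero)
    b00 b02 b22 b01' b21'
  obtain ⟨tp', t0', t1', t2', hFr'⟩ := frame_of_indep p w0 w1' w2 hind'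
  have hQ1 : F p w1' w1' ≠ 0 := by
    intro hQ0
    have hall : ∀ z, F p w1' z = 0 := by
      intro z
      have hz := hFr'.exp z
      rw [hz]
      simp only [h.add₃, h.smul₃, h.symm23 p w1' p, sing, h.symm23 p w1' w0, b01', hQ0,
        h.symm23 p w1' w2, b21', mul_zero, add_zero]
    obtain ⟨c, hc⟩ := rad w1' hall
    have h3 := congrArg ψ3 hc
    rw [hψ31', map_smul, hψ3p, smul_zero] at h3
    exact one_ne_zero h3
  obtain ⟨r, hr⟩ := exists_sqrt (-1 / F p w1' w1')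
  have hr0 : r ≠ 0 := by
    intro h0
    rw [h0] at hr
    have : (-1 : 𝕜) / F p w1' w1' ≠ 0 := div_ne_zero (by norm_num) hQ1
    exact this (by rw [← hr]; ring)
  obtain ⟨w1, hw1⟩ : ∃ w1, w1 = r • w1' := ⟨_, rfl⟩
  have b01 : F p w0 w1 = 0 := by rw [hw1, h.smul₃, b01', mul_zero]
  have b21 : F p w2 w1 = 0 := by rw [hw1, h.smul₃, b21', mul_zero]
  have b11 : F p w1 w1 = -1 := by
    rw [hw1, h.smul₂, h.smul₃, ← mul_assoc, ← sq, hr]
    field_simp
  have hψ31 : ψ3 w1 ≠ 0 := by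
    rw [hw1, map_smul, hψ31', smul_eq_mul, mul_one]; exact hr0
  have hind := nframe_indep0 h hp sing w0 w1 w2 ψ3 hψ3p hψ30 hψ32 hψ31 b00 b02 b22 b01 b21
  obtain ⟨tp, t0, t1, t2, hFr⟩ := frame_of_indep p w0 w1 w2 hind
  exact ⟨w0, w1, w2, tp, t0, t1, t2, ⟨hFr, b00, b01, b02, b11, by rw [h.symm23]; exact b21, b22⟩⟩



/-! ### small helpers -/

lemma lin_zero_param (n k s t : 𝕜) (hnk : n ≠ 0 ∨ k ≠ 0) (h : n * s + k * t = 0) :
    ∃ μ : 𝕜, s = μ * k ∧ t = -(μ * n) := by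
  by_cases hk : k = 0
  · have hn : n ≠ 0 := by
      rcases hnk with h1 | h1
      · exact h1
      · exact absurd hk h1
    rw [hk, zero_mul, add_zero] at h
    have hs : s = 0 := (mul_eq_zero.mp h).resolve_left hn
    refine ⟨-t / n, ?_, ?_⟩
    · rw [hs, hk, mul_zero]
    · rw [div_mul_cancel₀ _ hn, neg_neg]
  · refine ⟨s / k, ?_, ?_⟩
    · rw [div_mul_cancel₀ _ hk]
    · have e : -(s / k * n) = -(n * s) / k := by ring
      rw [e, eq_div_iff hk]
      linear_combination h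

lemma cube_p0 (h : Tri F) {p : V4 𝕜} (sing : ∀ y, F p p y = 0) (a b : 𝕜) (y : V4 𝕜) :
    F (a • p + b • y) (a • p + b • y) (a • p + b • y)
      = 3 * a * b ^ 2 * F p y y + b ^ 3 * F y y y := by
  rw [h.cube2, sing, sing]; ring

/-! ### coefficients of the sextic -/

lemma GP_coeff0 (w0 w1 w2 : V4 𝕜) : (GP F w0 w1 w2).coeff 0 = F w2 w2 w2 := by
  unfold GP
  simp only [coeff_add, coeff_C_mul_X_pow, coeff_C_mul_X, coeff_C]
  norm_num
lemma GP_coeff1 (w0 w1 w2 : V4 𝕜) : (GP F w0 w1 w2).coeff 1 = 3 * F w1 w2 w2 := by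
  unfold GP
  simp only [coeff_add, coeff_C_mul_X_pow, coeff_C_mul_X, coeff_C]
  norm_num
lemma GP_coeff2 (w0 w1 w2 : V4 𝕜) :
    (GP F w0 w1 w2).coeff 2 = 3 * F w1 w1 w2 + 3 * F w0 w2 w2 := by
  unfold GP
  simp only [coeff_add, coeff_C_mul_X_pow, coeff_C_mul_X, coeff_C]
  norm_num
lemma GP_coeff3 (w0 w1 w2 : V4 𝕜) :
    (GP F w0 w1 w2).coeff 3 = F w1 w1 w1 + 6 * F w0 w1 w2 := by
  unfold GP
  simp only [coeff_add, coeff_C_mul_X_pow, coeff_C_mul_X, coeff_C]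
  norm_num
lemma GP_coeff4 (w0 w1 w2 : V4 𝕜) :
    (GP F w0 w1 w2).coeff 4 = 3 * F w0 w0 w2 + 3 * F w0 w1 w1 := by
  unfold GP
  simp only [coeff_add, coeff_C_mul_X_pow, coeff_C_mul_X, coeff_C]
  norm_num
lemma GP_coeff5 (w0 w1 w2 : V4 𝕜) : (GP F w0 w1 w2).coeff 5 = 3 * F w0 w0 w1 := by
  unfold GP
  simp only [coeff_add, coeff_C_mul_X_pow, coeff_C_mul_X, coeff_C]
  norm_num
lemma GP_coeff6 (w0 w1 w2 : V4 𝕜) : (GP F w0 w1 w2).coeff 6 = F w0 w0 w0 :=
  GP_coeff_six w0 w1 w2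

section nondeg

variable {p w0 w1 w2 : V4 𝕜} {tp t0 t1 t2 : (V4 𝕜) →ₗ[𝕜] 𝕜}

/-- the cubic in frame coordinates -/
lemma cubic_frame (h : Tri F) (sing : ∀ y, F p p y = 0)
    (hF : NFrame F p w0 w1 w2 tp t0 t1 t2) (x : V4 𝕜) :
    F p x x = t0 x * t2 x - t1 x ^ 2 ∧
    F x x x = 3 * tp x * (t0 x * t2 x - t1 x ^ 2)
      + (t0 x ^ 3 * F w0 w0 w0 + t1 x ^ 3 * F w1 w1 w1 + t2 x ^ 3 * F w2 w2 w2
        + 3 * t0 x ^ 2 * t1 x * F w0 w0 w1 + 3 * t0 x ^ 2 * t2 x * F w0 w0 w2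
        + 3 * t0 x * t1 x ^ 2 * F w0 w1 w1 + 3 * t1 x ^ 2 * t2 x * F w1 w1 w2
        + 3 * t0 x * t2 x ^ 2 * F w0 w2 w2 + 3 * t1 x * t2 x ^ 2 * F w1 w2 w2
        + 6 * t0 x * t1 x * t2 x * F w0 w1 w2) := by
  obtain ⟨y, hy⟩ : ∃ y, y = t0 x • w0 + t1 x • w1 + t2 x • w2 := ⟨_, rfl⟩
  have hx : x = tp x • p + (1 : 𝕜) • y := by
    have hexp := hF.fr.exp x
    rw [hy]
    conv_lhs => rw [hexp]
    module
  have hQy : F p y y = t0 x * t2 x - t1 x ^ 2 := by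
    rw [hy, h.sq3, hF.b00, hF.b11, hF.b22, hF.b01, hF.b02, hF.b12]; ring
  have hp' : ∀ z, F p z p = 0 := fun z => by rw [h.symm23]; exact sing z
  have hQx : F p x x = F p y y := by
    conv_lhs => rw [hx]
    simp only [h.add₂, h.add₃, h.smul₂, h.smul₃, sing, hp']; ring
  constructor
  · rw [hQx, hQy]
  · have hC : F y y y = t0 x ^ 3 * F w0 w0 w0 + t1 x ^ 3 * F w1 w1 w1 + t2 x ^ 3 * F w2 w2 w2
        + 3 * t0 x ^ 2 * t1 x * F w0 w0 w1 + 3 * t0 x ^ 2 * t2 x * F w0 w0 w2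
        + 3 * t0 x * t1 x ^ 2 * F w0 w1 w1 + 3 * t1 x ^ 2 * t2 x * F w1 w1 w2
        + 3 * t0 x * t2 x ^ 2 * F w0 w2 w2 + 3 * t1 x * t2 x ^ 2 * F w1 w2 w2
        + 6 * t0 x * t1 x * t2 x * F w0 w1 w2 := by
      rw [hy, h.cube3]
    conv_lhs => rw [hx]
    rw [cube_p0 h sing, hQy, hC]; ring

/-- if the sextic vanishes identically, the quadric of the tangent cone divides the cubic -/
lemma factor_of_GP_zero (h : Tri F) (sing : ∀ y, F p p y = 0)
    (hF : NFrame F p w0 w1 w2 tp t0 t1 t2) (hG : GP F w0 w1 w2 = 0) :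
    ∃ ℓ : (V4 𝕜) →ₗ[𝕜] 𝕜, ∀ x, F x x x = F p x x * ℓ x := by
  have c0 : F w2 w2 w2 = 0 := by rw [← GP_coeff0 (F := F) w0 w1 w2, hG, coeff_zero]
  have c1 : 3 * F w1 w2 w2 = 0 := by rw [← GP_coeff1 (F := F) w0 w1 w2, hG, coeff_zero]
  have c2 : 3 * F w1 w1 w2 + 3 * F w0 w2 w2 = 0 := by rw [← GP_coeff2 (F := F) w0 w1 w2, hG, coeff_zero]
  have c3 : F w1 w1 w1 + 6 * F w0 w1 w2 = 0 := by rw [← GP_coeff3 (F := F) w0 w1 w2, hG, coeff_zero]
  have c4 : 3 * F w0 w0 w2 + 3 * F w0 w1 w1 = 0 := by rw [← GP_coeff4 (F := F) w0 w1 w2, hG, coeff_zero]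
  have c5 : 3 * F w0 w0 w1 = 0 := by rw [← GP_coeff5 (F := F) w0 w1 w2, hG, coeff_zero]
  have c6 : F w0 w0 w0 = 0 := by rw [← GP_coeff6 (F := F) w0 w1 w2, hG, coeff_zero]
  refine ⟨(3 : 𝕜) • tp + (3 * F w0 w0 w2) • t0 + (6 * F w0 w1 w2) • t1
    - (3 * F w1 w1 w2) • t2, fun x => ?_⟩
  obtain ⟨hQ, hC⟩ := cubic_frame h sing hF x
  rw [hC, hQ]
  simp only [LinearMap.sub_apply, LinearMap.add_apply, LinearMap.smul_apply, smul_eq_mul]
  linear_combination (t2 x ^ 3) * c0 + (t1 x * t2 x ^ 2) * c1 + (t0 x * t2 x ^ 2) * c2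
    + (t1 x ^ 3) * c3 + (t0 x * t1 x ^ 2) * c4 + (t0 x ^ 2 * t1 x) * c5 + (t0 x ^ 3) * c6

lemma ind_p_phi0 (hp : p ≠ 0) (hF : NFrame F p w0 w1 w2 tp t0 t1 t2) (s : 𝕜) :
    Ind2 p (phi w0 w1 w2 s) := by
  intro a b hab
  have hb : b = 0 := by
    have := congrArg t2 hab
    simpa [hF.t2p, hF.t2_phi] using this
  rw [hb, zero_smul, add_zero] at hab
  exact ⟨(smul_eq_zero.mp hab).resolve_right hp, hb⟩

lemma ind_p_w0 (hp : p ≠ 0) (hF : NFrame F p w0 w1 w2 tp t0 t1 t2) : Ind2 p w0 := by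
  intro a b hab
  have hb : b = 0 := by
    have := congrArg t0 hab
    simpa [hF.t0p, hF.t00] using this
  rw [hb, zero_smul, add_zero] at hab
  exact ⟨(smul_eq_zero.mp hab).resolve_right hp, hb⟩

/-- a line through the singular point is one of the lines `Lp s`, `s` a root of the sextic, or the
line through the point at infinity of the conic -/
lemma line_through_sing (h : Tri F) (hp : p ≠ 0) (sing : ∀ y, F p p y = 0)
    (hF : NFrame F p w0 w1 w2 tp t0 t1 t2) (U : Submodule 𝕜 (V4 𝕜)) (hpU : p ∈ U)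
    (hU : Module.finrank 𝕜 ↥U = 2) (hz : ∀ u ∈ U, F u u u = 0) :
    (∃ s, (GP F w0 w1 w2).eval s = 0 ∧ U = Lp p w0 w1 w2 s) ∨
      (F w0 w0 w0 = 0 ∧ U = Submodule.span 𝕜 {p, w0}) := by
  obtain ⟨u, hu, hind, -⟩ := line_struct U hU hpU hp
  have hppp : F p p p = 0 := sing p
  have htan := line_tangent h hppp U hpU hz
  obtain ⟨y, hy⟩ : ∃ y, y = u - tp u • p := ⟨_, rfl⟩
  have hyU : y ∈ U := by rw [hy]; exact U.sub_mem hu (U.smul_mem _ hpU)
  obtain ⟨a, ha⟩ : ∃ a, a = t0 u := ⟨_, rfl⟩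
  obtain ⟨b, hb⟩ : ∃ b, b = t1 u := ⟨_, rfl⟩
  obtain ⟨c, hc⟩ : ∃ c, c = t2 u := ⟨_, rfl⟩
  have hyexp : y = a • w0 + b • w1 + c • w2 := by
    have hexp := hF.fr.exp u
    rw [hy, ha, hb, hc, sub_eq_iff_eq_add]
    conv_lhs => rw [hexp]
    module
  have hQ : a * c - b ^ 2 = 0 := by
    have := (htan y hyU).2
    rw [hyexp, h.sq3, hF.b00, hF.b11, hF.b22, hF.b01, hF.b02, hF.b12] at this
    linear_combination this
  have hy3 := hz y hyU
  have hy0 : y ≠ 0 := by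
    intro h0
    have := hind (-(tp u)) 1 (by rw [one_smul, neg_smul, neg_add_eq_sub, ← hy, h0])
    exact one_ne_zero this.2
  by_cases hc0 : c = 0
  · right
    rw [hc0, mul_zero, zero_sub, neg_eq_zero] at hQ
    have hb0 : b = 0 := pow_eq_zero_iff (n := 2) (by norm_num) |>.mp hQ
    rw [hb0, hc0, zero_smul, zero_smul, add_zero, add_zero] at hyexp
    have ha0 : a ≠ 0 := by
      intro ha0
      exact hy0 (by rw [hyexp, ha0, zero_smul])
    rw [hyexp, h.smul₁, h.smul₂, h.smul₃] at hy3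
    have h000 : F w0 w0 w0 = 0 := by
      rcases mul_eq_zero.mp hy3 with h1 | h1
      · exact absurd h1 ha0
      · rcases mul_eq_zero.mp h1 with h2 | h2
        · exact absurd h2 ha0
        · rcases mul_eq_zero.mp h2 with h3 | h3
          · exact absurd h3 ha0
          · exact h3
    have hw0U : w0 ∈ U := by
      have : w0 = a⁻¹ • y := by rw [hyexp, smul_smul, inv_mul_cancel₀ ha0, one_smul]
      rw [this]; exact U.smul_mem _ hyU
    exact ⟨h000, (span2_eq U hU hpU hw0U (ind_p_w0 hp hF)).symm⟩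
  · left
    have hyphi : y = c • phi w0 w1 w2 (b / c) := by
      rw [hyexp]
      have ha' : a = c * (b / c) ^ 2 := by
        field_simp
        linear_combination hQ
      have hb' : b = c * (b / c) := by field_simp
      unfold phi
      rw [smul_add, smul_add, smul_smul, smul_smul, ← ha', ← hb']
    have hphiU : phi w0 w1 w2 (b / c) ∈ U := by
      have : phi w0 w1 w2 (b / c) = c⁻¹ • y := by
        rw [hyphi, smul_smul, inv_mul_cancel₀ hc0, one_smul]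
      rw [this]; exact U.smul_mem _ hyU
    refine ⟨b / c, ?_, ?_⟩
    · rw [GP_eval h]
      rw [hyphi, h.smul₁, h.smul₂, h.smul₃] at hy3
      rcases mul_eq_zero.mp hy3 with h1 | h1
      · exact absurd h1 hc0
      · rcases mul_eq_zero.mp h1 with h2 | h2
        · exact absurd h2 hc0
        · rcases mul_eq_zero.mp h2 with h3 | h3
          · exact absurd h3 hc0
          · exact h3
    · exact (span2_eq U hU hpU hphiU (ind_p_phi0 hp hF (b / c))).symm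

lemma lines_bound_nondeg (h : Tri F) (hp : p ≠ 0) (sing : ∀ y, F p p y = 0)
    (hF : NFrame F p w0 w1 w2 tp t0 t1 t2) (hG : GP F w0 w1 w2 ≠ 0) :
    {U : Submodule 𝕜 (V4 𝕜) | p ∈ U ∧ Module.finrank 𝕜 ↥U = 2 ∧
      ∀ u ∈ U, F u u u = 0}.encard ≤ 6 := by
  classical
  obtain ⟨R, hR⟩ : ∃ R : Finset 𝕜, R = (GP F w0 w1 w2).roots.toFinset := ⟨_, rfl⟩
  have hRmem : ∀ s, (GP F w0 w1 w2).eval s = 0 → s ∈ R := by
    intro s hs
    rw [hR, Multiset.mem_toFinset, mem_roots hG]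
    exact hs
  have hRcard : R.card ≤ (GP F w0 w1 w2).natDegree := by
    rw [hR]
    exact (Multiset.toFinset_card_le _).trans (card_roots' _)
  by_cases h000 : F w0 w0 w0 = 0
  · have hdeg : (GP F w0 w1 w2).natDegree ≤ 5 := by
      unfold GP
      rw [h000, C_0, zero_mul, zero_add]
      compute_degree
    have hsub : {U : Submodule 𝕜 (V4 𝕜) | p ∈ U ∧ Module.finrank 𝕜 ↥U = 2 ∧
        ∀ u ∈ U, F u u u = 0} ⊆ (Lp p w0 w1 w2 '' (↑R : Set 𝕜))
          ∪ {Submodule.span 𝕜 {p, w0}} := by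
      rintro U ⟨hpU, hU, hz⟩
      rcases line_through_sing h hp sing hF U hpU hU hz with ⟨s, hs, hUs⟩ | ⟨-, hU'⟩
      · exact Or.inl ⟨s, hRmem s hs, hUs.symm⟩
      · exact Or.inr hU'
    have h1 : {U : Submodule 𝕜 (V4 𝕜) | p ∈ U ∧ Module.finrank 𝕜 ↥U = 2 ∧
        ∀ u ∈ U, F u u u = 0}.encard ≤ ((R.card + 1 : ℕ) : ℕ∞) := by
      calc _ ≤ ((Lp p w0 w1 w2 '' (↑R : Set 𝕜))
              ∪ {Submodule.span 𝕜 {p, w0}}).encard := Set.encard_le_encard hsub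
        _ ≤ (Lp p w0 w1 w2 '' (↑R : Set 𝕜)).encard
              + ({Submodule.span 𝕜 {p, w0}} : Set (Submodule 𝕜 (V4 𝕜))).encard :=
            Set.encard_union_le _ _
        _ ≤ (↑R : Set 𝕜).encard + 1 :=
            add_le_add (Set.encard_image_le _ _) (le_of_eq (Set.encard_singleton _))
        _ = ((R.card + 1 : ℕ) : ℕ∞) := by
            rw [Set.encard_coe_eq_coe_finsetCard]; push_cast; rfl
    exact h1.trans (by exact_mod_cast (by omega : R.card + 1 ≤ 6))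
  · have hdeg : (GP F w0 w1 w2).natDegree ≤ 6 := GP_natDegree_le _ _ _
    have hsub : {U : Submodule 𝕜 (V4 𝕜) | p ∈ U ∧ Module.finrank 𝕜 ↥U = 2 ∧
        ∀ u ∈ U, F u u u = 0} ⊆ (Lp p w0 w1 w2 '' (↑R : Set 𝕜)) := by
      rintro U ⟨hpU, hU, hz⟩
      rcases line_through_sing h hp sing hF U hpU hU hz with ⟨s, hs, hUs⟩ | ⟨h0, -⟩
      · exact ⟨s, hRmem s hs, hUs.symm⟩
      · exact absurd h0 h000
    have h1 : {U : Submodule 𝕜 (V4 𝕜) | p ∈ U ∧ Module.finrank 𝕜 ↥U = 2 ∧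
        ∀ u ∈ U, F u u u = 0}.encard ≤ ((R.card : ℕ) : ℕ∞) := by
      calc _ ≤ (Lp p w0 w1 w2 '' (↑R : Set 𝕜)).encard := Set.encard_le_encard hsub
        _ ≤ (↑R : Set 𝕜).encard := Set.encard_image_le _ _
        _ = ((R.card : ℕ) : ℕ∞) := Set.encard_coe_eq_coe_finsetCard _
    exact h1.trans (by exact_mod_cast (by omega : R.card ≤ 6))

end nondeg

/-! ### the degenerate case: the tangent cone is a pair of planes -/

lemma plane_lines (h : Tri F) {p : V4 𝕜} (r d : V4 𝕜)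
    (hne : ∃ s t : 𝕜, F (s • r + t • d) (s • r + t • d) (s • r + t • d) ≠ 0) :
    ∃ Us : Finset (Submodule 𝕜 (V4 𝕜)), Us.card ≤ 3 ∧
      ∀ U : Submodule 𝕜 (V4 𝕜), p ∈ U → Module.finrank 𝕜 ↥U = 2 → (∀ u ∈ U, F u u u = 0) →
        ∀ y ∈ U, Ind2 p y → (∃ α s t : 𝕜, y = α • p + s • r + t • d) → U ∈ Us := by
  classical
  obtain ⟨n1, k1, n2, k2, n3, k3, hc⟩ :=
    cubic_split (F r r r) (3 * F r r d) (3 * F r d d) (F d d d)
  have hcube : ∀ s t : 𝕜, F (s • r + t • d) (s • r + t • d) (s • r + t • d)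
      = (n1 * s + k1 * t) * (n2 * s + k2 * t) * (n3 * s + k3 * t) := by
    intro s t
    rw [h.cube2, ← hc s t]; ring
  obtain ⟨s0, t0, h0⟩ := hne
  rw [hcube] at h0
  have hnk1 : n1 ≠ 0 ∨ k1 ≠ 0 := by
    by_contra hcon
    push Not at hcon
    apply h0; rw [hcon.1, hcon.2]; ring
  have hnk2 : n2 ≠ 0 ∨ k2 ≠ 0 := by
    by_contra hcon
    push Not at hcon
    apply h0; rw [hcon.1, hcon.2]; ring
  have hnk3 : n3 ≠ 0 ∨ k3 ≠ 0 := by
    by_contra hcon
    push Not at hcon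
    apply h0; rw [hcon.1, hcon.2]; ring
  refine ⟨{Submodule.span 𝕜 {p, k1 • r - n1 • d}, Submodule.span 𝕜 {p, k2 • r - n2 • d},
    Submodule.span 𝕜 {p, k3 • r - n3 • d}}, Finset.card_le_three, ?_⟩
  intro U hpU hU hz y hyU hind hdec
  obtain ⟨α, s, t, hy⟩ := hdec
  have hy' : s • r + t • d ∈ U := by
    have : s • r + t • d = y - α • p := by rw [hy]; abel
    rw [this]; exact U.sub_mem hyU (U.smul_mem _ hpU)
  have h3 := hz _ hy'
  rw [hcube] at h3
  have key : ∀ n k : 𝕜, (n ≠ 0 ∨ k ≠ 0) → n * s + k * t = 0 →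
      U = Submodule.span 𝕜 {p, k • r - n • d} := by
    intro n k hnk hlin
    obtain ⟨μ, hs, ht⟩ := lin_zero_param n k s t hnk hlin
    have hμ : μ ≠ 0 := by
      intro hμ0
      rw [hμ0, zero_mul] at hs
      rw [hμ0, zero_mul, neg_zero] at ht
      rw [hs, ht, zero_smul, zero_smul, add_zero, add_zero] at hy
      have := hind α (-1) (by rw [hy]; simp)
      norm_num at this
    have hz' : k • r - n • d = μ⁻¹ • (s • r + t • d) := by
      rw [hs, ht, smul_add, smul_smul, smul_smul, ← mul_assoc, inv_mul_cancel₀ hμ, one_mul,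
        mul_neg, ← mul_assoc, inv_mul_cancel₀ hμ, one_mul, neg_smul, sub_eq_add_neg]
    have hzU : k • r - n • d ∈ U := by rw [hz']; exact U.smul_mem _ hy'
    have hind' : Ind2 p (k • r - n • d) := by
      intro a b hab
      have hcomb : (a * μ - b * α) • p + b • y = 0 := by
        have h1 := congrArg (fun v => μ • v) hab
        simp only [smul_zero] at h1
        rw [← h1, hy, hs, ht]
        module
      obtain ⟨h1, h2⟩ := hind _ _ hcomb
      rw [h2, zero_mul, sub_zero] at h1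
      exact ⟨(mul_eq_zero.mp h1).resolve_right hμ, h2⟩
    exact (span2_eq U hU hpU hzU hind').symm
  rcases mul_eq_zero.mp h3 with h12 | h3'
  · rcases mul_eq_zero.mp h12 with h1' | h2'
    · rw [key n1 k1 hnk1 h1']; simp
    · rw [key n2 k2 hnk2 h2']; simp
  · rw [key n3 k3 hnk3 h3']; simp

lemma half_plane (h : Tri F) {p r u v : V4 𝕜} {tp tr tu tv : (V4 𝕜) →ₗ[𝕜] 𝕜}
    (sing : ∀ y, F p p y = 0) (hFr : Frame p r u v tp tr tu tv)
    (l m : 𝕜) (hlm : l ≠ 0 ∨ m ≠ 0)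
    (hQl : ∀ x, l * tu x + m * tv x = 0 → F p x x = 0)
    (hnolin : ¬ ∃ ψ : (V4 𝕜) →ₗ[𝕜] 𝕜, ψ ≠ 0 ∧ ∀ x, ψ x = 0 → F x x x = 0) :
    ∃ Us : Finset (Submodule 𝕜 (V4 𝕜)), Us.card ≤ 3 ∧
      ∀ U : Submodule 𝕜 (V4 𝕜), p ∈ U → Module.finrank 𝕜 ↥U = 2 → (∀ u ∈ U, F u u u = 0) →
        ∀ y ∈ U, Ind2 p y → l * tu y + m * tv y = 0 → U ∈ Us := by
  obtain ⟨d, hd⟩ : ∃ d, d = m • u - l • v := ⟨_, rfl⟩
  have htud : tu d = m := by
    rw [hd, map_sub, map_smul, map_smul, hFr.t2_w0, hFr.t2_w1]; simp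
  have htvd : tv d = -l := by
    rw [hd, map_sub, map_smul, map_smul, hFr.t3_w0, hFr.t3_w1]; simp
  have hplane : ∀ x, l * tu x + m * tv x = 0 →
      ∃ ρ : 𝕜, x = tp x • p + tr x • r + ρ • d := by
    intro x hx
    obtain ⟨ρ, h1, h2⟩ := lin_zero_param l m (tu x) (tv x) hlm hx
    refine ⟨ρ, ?_⟩
    have hexp := hFr.exp x
    conv_lhs => rw [hexp, h1, h2]
    rw [hd]
    module
  have hlin_rd : ∀ s t : 𝕜, l * tu (s • r + t • d) + m * tv (s • r + t • d) = 0 := by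
    intro s t
    simp only [map_add, map_smul, smul_eq_mul, hFr.t2_e1, hFr.t3_e1, htud, htvd]
    ring
  have hne : ∃ s t : 𝕜, F (s • r + t • d) (s • r + t • d) (s • r + t • d) ≠ 0 := by
    by_contra hcon
    push Not at hcon
    apply hnolin
    refine ⟨l • tu + m • tv, ?_, ?_⟩
    · intro h0
      have e1 := LinearMap.congr_fun h0 u
      have e2 := LinearMap.congr_fun h0 v
      simp only [LinearMap.add_apply, LinearMap.smul_apply, smul_eq_mul, hFr.t2_w0, hFr.t3_w0,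
        hFr.t2_w1, hFr.t3_w1, LinearMap.zero_apply, mul_one, mul_zero, add_zero, zero_add]
        at e1 e2
      rcases hlm with h1 | h1
      · exact h1 e1
      · exact h1 e2
    · intro x hx
      simp only [LinearMap.add_apply, LinearMap.smul_apply, smul_eq_mul] at hx
      obtain ⟨ρ, hρ⟩ := hplane x hx
      have e : x = tp x • p + (1 : 𝕜) • (tr x • r + ρ • d) := by
        conv_lhs => rw [hρ]
        module
      rw [e, cube_p0 h sing, hQl _ (hlin_rd (tr x) ρ), hcon]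
      ring
  obtain ⟨Us, hcard, hUs⟩ := plane_lines (p := p) h r d hne
  refine ⟨Us, hcard, ?_⟩
  intro U hpU hU hz y hyU hind hy
  obtain ⟨ρ, hρ⟩ := hplane y hy
  exact hUs U hpU hU hz y hyU hind ⟨tp y, tr y, ρ, hρ⟩

lemma lines_bound_deg (h : Tri F) {p : V4 𝕜} (hp : p ≠ 0) (sing : ∀ y, F p p y = 0)
    (r : V4 𝕜) (hr : ∀ z, F p r z = 0) (hrp : ∀ c : 𝕜, r ≠ c • p)
    (hQne : ∃ x, F p x x ≠ 0)
    (hnolin : ¬ ∃ ψ : (V4 𝕜) →ₗ[𝕜] 𝕜, ψ ≠ 0 ∧ ∀ x, ψ x = 0 → F x x x = 0) :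
    {U : Submodule 𝕜 (V4 𝕜) | p ∈ U ∧ Module.finrank 𝕜 ↥U = 2 ∧
      ∀ u ∈ U, F u u u = 0}.encard ≤ 6 := by
  classical
  have hr0 : r ≠ 0 := by
    intro h0
    exact hrp 0 (by rw [h0, zero_smul])
  have hindpr : Ind2 p r := by
    apply ind2_of_notMem hp
    intro hmem
    obtain ⟨c, hc⟩ := Submodule.mem_span_singleton.mp hmem
    exact hrp c hc.symm
  -- complete to a basis
  have hlt1 : Submodule.span 𝕜 ({p} : Set (V4 𝕜)) ⊔ Submodule.span 𝕜 {r} < ⊤ := by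
    rw [lt_top_iff_ne_top]
    intro htop
    have h1 := Submodule.finrank_add_le_finrank_add_finrank
      (Submodule.span 𝕜 ({p} : Set (V4 𝕜))) (Submodule.span 𝕜 {r})
    rw [htop, finrank_top, finrank_V4, finrank_span_singleton hp,
      finrank_span_singleton hr0] at h1
    omega
  obtain ⟨ψ1, hψ1, hle1⟩ := Submodule.exists_le_ker_of_lt_top _ hlt1
  have hψ1p : ψ1 p = 0 := LinearMap.mem_ker.mp
    (hle1 (Submodule.mem_sup_left (Submodule.mem_span_singleton_self p)))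
  have hψ1r : ψ1 r = 0 := LinearMap.mem_ker.mp
    (hle1 (Submodule.mem_sup_right (Submodule.mem_span_singleton_self r)))
  obtain ⟨u, hu⟩ := exists_eq_one ψ1 hψ1
  have hu0 : u ≠ 0 := by
    rintro rfl
    simp at hu
  have hlt2 : Submodule.span 𝕜 ({p} : Set (V4 𝕜)) ⊔ Submodule.span 𝕜 {r}
      ⊔ Submodule.span 𝕜 {u} < ⊤ := by
    rw [lt_top_iff_ne_top]
    intro htop
    have h1 := Submodule.finrank_add_le_finrank_add_finrank
      (Submodule.span 𝕜 ({p} : Set (V4 𝕜)) ⊔ Submodule.span 𝕜 {r}) (Submodule.span 𝕜 {u})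
    have h2 := Submodule.finrank_add_le_finrank_add_finrank
      (Submodule.span 𝕜 ({p} : Set (V4 𝕜))) (Submodule.span 𝕜 {r})
    rw [htop, finrank_top, finrank_V4, finrank_span_singleton hu0] at h1
    rw [finrank_span_singleton hp, finrank_span_singleton hr0] at h2
    omega
  obtain ⟨ψ2, hψ2, hle2⟩ := Submodule.exists_le_ker_of_lt_top _ hlt2
  have hψ2p : ψ2 p = 0 := LinearMap.mem_ker.mp
    (hle2 (Submodule.mem_sup_left (Submodule.mem_sup_left
      (Submodule.mem_span_singleton_self p))))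
  have hψ2r : ψ2 r = 0 := LinearMap.mem_ker.mp
    (hle2 (Submodule.mem_sup_left (Submodule.mem_sup_right
      (Submodule.mem_span_singleton_self r))))
  have hψ2u : ψ2 u = 0 := LinearMap.mem_ker.mp
    (hle2 (Submodule.mem_sup_right (Submodule.mem_span_singleton_self u)))
  obtain ⟨v, hv⟩ := exists_eq_one ψ2 hψ2
  have hindep : ∀ a b c d : 𝕜, a • p + b • r + c • u + d • v = 0 →
      a = 0 ∧ b = 0 ∧ c = 0 ∧ d = 0 := by
    intro a b c d habcd
    have hd : d = 0 := by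
      have := congrArg ψ2 habcd
      simpa [hψ2p, hψ2r, hψ2u, hv] using this
    have hc : c = 0 := by
      have := congrArg ψ1 habcd
      simpa [hψ1p, hψ1r, hu, hd] using this
    rw [hc, hd, zero_smul, zero_smul, add_zero, add_zero] at habcd
    obtain ⟨ha, hb⟩ := hindpr _ _ habcd
    exact ⟨ha, hb, hc, hd⟩
  obtain ⟨tp, tr, tu, tv, hFr⟩ := frame_of_indep p r u v hindep
  have hp' : ∀ z, F p z p = 0 := fun z => by rw [h.symm23]; exact sing z
  have hr' : ∀ z, F p z r = 0 := fun z => by rw [h.symm23]; exact hr z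
  have hQform : ∀ x, F p x x = F p u u * tu x ^ 2 + (2 * F p u v) * tu x * tv x
      + F p v v * tv x ^ 2 := by
    intro x
    have hexp := hFr.exp x
    conv_lhs => rw [hexp]
    simp only [h.add₂, h.add₃, h.smul₂, h.smul₃, sing, hr, hp', hr']
    rw [h.symm23 p v u]
    ring
  obtain ⟨l1, m1, l2, m2, hq⟩ := quad_split (F p u u) (2 * F p u v) (F p v v)
  have hQprod : ∀ x, F p x x = (l1 * tu x + m1 * tv x) * (l2 * tu x + m2 * tv x) := by
    intro x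
    rw [hQform, hq]
  obtain ⟨x0, hx0⟩ := hQne
  have hlm1 : l1 ≠ 0 ∨ m1 ≠ 0 := by
    by_contra hcon
    push Not at hcon
    apply hx0
    rw [hQprod, hcon.1, hcon.2]; ring
  have hlm2 : l2 ≠ 0 ∨ m2 ≠ 0 := by
    by_contra hcon
    push Not at hcon
    apply hx0
    rw [hQprod, hcon.1, hcon.2]; ring
  obtain ⟨Us1, hc1, hU1⟩ := half_plane h sing hFr l1 m1 hlm1
    (fun x hx => by rw [hQprod, hx, zero_mul]) hnolin
  obtain ⟨Us2, hc2, hU2⟩ := half_plane h sing hFr l2 m2 hlm2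
    (fun x hx => by rw [hQprod, hx, mul_zero]) hnolin
  have hsub : {U : Submodule 𝕜 (V4 𝕜) | p ∈ U ∧ Module.finrank 𝕜 ↥U = 2 ∧
      ∀ u ∈ U, F u u u = 0} ⊆ (↑(Us1 ∪ Us2) : Set (Submodule 𝕜 (V4 𝕜))) := by
    rintro U ⟨hpU, hU, hz⟩
    obtain ⟨y, hyU, hind, -⟩ := line_struct U hU hpU hp
    have hQy := (line_tangent h (sing p) U hpU hz y hyU).2
    rw [hQprod] at hQy
    rw [Finset.coe_union]
    rcases mul_eq_zero.mp hQy with h1 | h2
    · exact Or.inl (hU1 U hpU hU hz y hyU hind h1)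
    · exact Or.inr (hU2 U hpU hU hz y hyU hind h2)
  have hcard : (Us1 ∪ Us2).card ≤ 6 := (Finset.card_union_le _ _).trans (by omega)
  calc _ ≤ (↑(Us1 ∪ Us2) : Set (Submodule 𝕜 (V4 𝕜))).encard := Set.encard_le_encard hsub
    _ = (((Us1 ∪ Us2).card : ℕ) : ℕ∞) := Set.encard_coe_eq_coe_finsetCard _
    _ ≤ 6 := by exact_mod_cast hcard

end Groth.Agent.Lib.CubicSurfKH1
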