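import Mathlib
import Groth.Agent.Lib.CubicSing1_helper1

set_option autoImplicit false
set_option maxHeartbeats 1000000

namespace Groth.Agent.Lib.CubicSurfKH1

open MvPolynomial

universe u

variable {𝕜 : Type*} [Field 𝕜] [IsAlgClosed 𝕜] [CharZero 𝕜]

lemma linPoly_not_unit (φ : (V4 𝕜) →ₗ[𝕜] 𝕜) : ¬ IsUnit (linPoly φ) := by
  intro hu
  obtain ⟨r, hr, hL⟩ := MvPolynomial.isUnit_iff_eq_C_of_isReduced.mp hu
  have := congrArg (eval (0 : V4 𝕜)) hL
  rw [eval_linPoly, map_zero, eval_C] at this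
  exact hr.ne_zero this.symm

/-- an irreducible cubic does not vanish on a hyperplane -/
lemma no_lin_of_irreducible (f : MvPolynomial (Fin 4) 𝕜) (hf : f.IsHomogeneous 3)
    (hirr : Irreducible f) :
    ¬ ∃ ψ : (V4 𝕜) →ₗ[𝕜] 𝕜, ψ ≠ 0 ∧ ∀ x, ψ x = 0 → Pol f x x x = 0 := by
  rintro ⟨ψ, hψ, hz⟩
  have hG := good_of_homogeneous f hf
  obtain ⟨i0, hi0⟩ : ∃ i, ψ (Pi.single i 1) ≠ 0 := by
    by_contra hcon
    push Not at hcon
    apply hψ
    apply LinearMap.ext
    intro x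
    rw [decomp4 x]
    simp only [map_add, map_smul, hcon, smul_zero, add_zero, LinearMap.zero_apply]
  have hψx : ∀ x : V4 𝕜, (∑ j, ψ (Pi.single j 1) * x j) = ψ x := by
    intro x
    conv_rhs => rw [decomp4 x]
    simp only [map_add, map_smul, smul_eq_mul, Fin.sum_univ_four]
    ring
  have hmem := hyp_div (fun j => ψ (Pi.single j 1)) i0 hi0 f (fun x hx => by
    rw [← hG.diag]; exact hz x (by rw [← hψx x]; exact hx))
  change f ∈ Ideal.span {linPoly ψ} at hmem
  obtain ⟨g, hg⟩ := Ideal.mem_span_singleton.mp hmem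
  rcases hirr.isUnit_or_isUnit hg with hu | hu
  · exact linPoly_not_unit ψ hu
  · obtain ⟨r, hr, hgC⟩ := MvPolynomial.isUnit_iff_eq_C_of_isReduced.mp hu
    have h1 : f.IsHomogeneous 1 := by
      rw [hg, hgC]
      exact (linPoly_hom ψ).mul (isHomogeneous_C _ r)
    have := IsHomogeneous.inj_right hf h1 hirr.ne_zero
    omega

/-- an irreducible cubic is not (quadric) × (linear form) -/
lemma no_fac_of_irreducible (f : MvPolynomial (Fin 4) 𝕜) (hf : f.IsHomogeneous 3)
    (hirr : Irreducible f) (p : V4 𝕜) :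
    ¬ ∃ ℓ : (V4 𝕜) →ₗ[𝕜] 𝕜, ∀ x, Pol f x x x = Pol f p x x * ℓ x := by
  rintro ⟨ℓ, hℓ⟩
  have hG := good_of_homogeneous f hf
  have h := tri_Pol hG
  obtain ⟨q, hq⟩ : ∃ q : MvPolynomial (Fin 4) 𝕜,
      q = C (1 / 3 : 𝕜) * ∑ i : Fin 4, C (p i) * pderiv i f := ⟨_, rfl⟩
  have hqx : ∀ x, eval x q = Pol f p x x := by
    intro x
    rw [hq]
    simp only [map_mul, map_add, eval_C, Fin.sum_univ_four, hG.deriv]
    rw [h.symm13 p x x, h.coord x x p]; ring
  have hfq : f = q * linPoly ℓ := by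
    apply MvPolynomial.funext
    intro x
    rw [map_mul, hqx, eval_linPoly, ← hG.diag]
    exact hℓ x
  rcases hirr.isUnit_or_isUnit hfq with hu | hu
  · obtain ⟨r, hr, hqC⟩ := MvPolynomial.isUnit_iff_eq_C_of_isReduced.mp hu
    have := hqx 0
    rw [hqC, eval_C, h.zero₂] at this
    exact hr.ne_zero this
  · exact linPoly_not_unit ℓ hu

theorem main16347 (K : Type u) [Field K] [IsAlgClosed K] [CharZero K]
    (F : MvPolynomial (Fin 4) K) (hF : F.IsHomogeneous 3) (hirr : Irreducible F)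
    (hcone : ¬ ∃ v : Fin 4 → K, v ≠ 0 ∧ ∑ i : Fin 4, v i • MvPolynomial.pderiv i F = 0)
    (a : Fin 4 → K) (ha : a ≠ 0) (hFa : MvPolynomial.eval a F = 0)
    (hsing : ∀ i : Fin 4, MvPolynomial.eval a (MvPolynomial.pderiv i F) = 0) :
    {U : Submodule K (Fin 4 → K) | a ∈ U ∧ Module.finrank K ↥U = 2 ∧
      ∀ u ∈ U, MvPolynomial.eval u F = 0}.encard ≤ 6 := by
  have hG := good_of_homogeneous F hF
  have h := tri_Pol hG
  have sing : ∀ y, Pol F a a y = 0 := by
    intro y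
    rw [h.coord a a y]
    have e : ∀ i : Fin 4, Pol F a a (Pi.single i 1) = 0 := by
      intro i
      have := hsing i
      rw [hG.deriv] at this
      exact (mul_eq_zero.mp this).resolve_left (by norm_num)
    rw [e 0, e 1, e 2, e 3]; ring
  have hPx : ∀ x : V4 K, eval x (∑ i : Fin 4, a i • pderiv i F) = 3 * Pol F a x x := by
    intro x
    simp only [map_add, smul_eval, Fin.sum_univ_four, hG.deriv]
    rw [h.symm13 a x x, h.coord x x a]; ring
  have hQne : ∃ x, Pol F a x x ≠ 0 := by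
    by_contra hcon
    push Not at hcon
    apply hcone
    refine ⟨a, ha, ?_⟩
    apply MvPolynomial.funext
    intro x
    rw [hPx, hcon, mul_zero, map_zero]
  have hset : {U : Submodule K (Fin 4 → K) | a ∈ U ∧ Module.finrank K ↥U = 2 ∧
        ∀ u ∈ U, MvPolynomial.eval u F = 0}
      = {U : Submodule K (V4 K) | a ∈ U ∧ Module.finrank K ↥U = 2 ∧
        ∀ u ∈ U, Pol F u u u = 0} := by
    ext U
    constructor
    · rintro ⟨h1, h2, h3⟩
      exact ⟨h1, h2, fun u hu => by rw [hG.diag]; exact h3 u hu⟩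
    · rintro ⟨h1, h2, h3⟩
      exact ⟨h1, h2, fun u hu => by rw [← hG.diag]; exact h3 u hu⟩
  rw [hset]
  by_cases hrad : ∀ y, (∀ z, Pol F a y z = 0) → ∃ c : K, y = c • a
  · obtain ⟨w0, w1, w2, tp, t0, t1, t2, hNF⟩ := exists_nframe0 h ha sing hrad
    by_cases hGP : GP (Pol F) w0 w1 w2 = 0
    · exfalso
      exact no_fac_of_irreducible F hF hirr a (factor_of_GP_zero h sing hNF hGP)
    · exact lines_bound_nondeg h ha sing hNF hGP
  · push Not at hrad
    obtain ⟨r, hr, hrp⟩ := hrad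
    exact lines_bound_deg h ha sing r hr hrp hQne (no_lin_of_irreducible F hF hirr)

end Groth.Agent.Lib.CubicSurfKH1
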