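import Mathlib
import Groth.Agent.Lib.CubicAv2_helper1
import Groth.Agent.Lib.CubicRat3_helper1
import Groth.Agent.Lib.CubicSing2_helper1

/-!
# The T-points of a cubic surface lie in a proper closed subset

For an irreducible cubic surface which is not a cone (over an algebraically closed field of
characteristic zero), either the T-points are contained in a hypersurface not containing the
surface, or the singular locus is a line.
-/

set_option autoImplicit false
set_option maxHeartbeats 1000000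

namespace Groth.Agent.Lib.CubicAvH1

open MvPolynomial
open Groth.Agent.Lib.CubicSurfKH1
open Groth.Agent.Lib.CubicTptH1
open Groth.Agent.Lib.CubicRatH1

universe u

variable {𝕜 : Type*} [Field 𝕜] [IsAlgClosed 𝕜] [CharZero 𝕜]

lemma Gfun_mpoly (F : MvPolynomial (Fin 4) 𝕜) (n a k1 k2 : V4 𝕜) (i : Fin 4) (w : Fin 3 → 𝕜) :
    MPolyFun (fun b => Gfun F n a k1 k2 b i w) := by
  have hp : MPolyVec (fun b => prj F n b (Psi a k1 k2 w)) := by
    unfold prj
    exact (MPolyVec.smul (MPolyVec.pol F MPolyVec.id MPolyVec.id (MPolyVec.const n))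
      (MPolyVec.const _)).sub
      (MPolyVec.smul (MPolyVec.pol F MPolyVec.id MPolyVec.id (MPolyVec.const _))
        (MPolyVec.const n))
  have hq : MPolyFun (fun b => Pol F b (prj F n b (Psi a k1 k2 w))
      (prj F n b (Psi a k1 k2 w))) := MPolyVec.pol F MPolyVec.id hp hp
  fin_cases i
  · exact MPolyFun.eval_mv F hp
  · exact hq.mul (MPolyFun.const (w 0))
  · exact hq.mul (MPolyFun.const (w 1))
  · exact hq.mul (MPolyFun.const (w 2))

/-- a smooth non-T-point gives a hypersurface through all T-points, not through the point -/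
theorem depG (F : MvPolynomial (Fin 4) 𝕜) (hF : F.IsHomogeneous 3) (a : V4 𝕜)
    (haF : eval a F = 0) (hsm : ∃ i, eval a (pderiv i F) ≠ 0) (hT : ¬ TP F a) :
    ∃ G : MvPolynomial (Fin 4) 𝕜, eval a G ≠ 0 ∧ ∀ b, eval b F = 0 → TP F b → eval b G = 0 := by
  have hG := good_of_homogeneous F hF
  have h := tri_Pol hG
  have ha0 : Pol F a a a = 0 := by rw [hG.diag]; exact haF
  have hℓx : ∀ b x : V4 𝕜, eval x (∑ i : Fin 4, C (eval b (pderiv i F)) * X i)
      = 3 * Pol F b b x := by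
    intro b x
    simp only [map_add, map_mul, eval_C, eval_X, Fin.sum_univ_four, hG.deriv]
    rw [h.coord b b x]; ring
  obtain ⟨i1, hi1⟩ := hsm
  have hτ : h.lin a a ≠ 0 := by
    intro h0
    apply hi1
    rw [hG.deriv]
    have := LinearMap.congr_fun h0 (Pi.single i1 1)
    simp only [Tri.lin_apply, LinearMap.zero_apply] at this
    rw [this, mul_zero]
  have ha_ne : a ≠ 0 := by
    intro h0
    apply hτ
    apply LinearMap.ext
    intro x
    rw [Tri.lin_apply, h0, h.zero₁]; rfl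
  obtain ⟨i0, hi0⟩ : ∃ i, a i ≠ 0 := by
    by_contra hcon
    push Not at hcon
    exact ha_ne (funext hcon)
  obtain ⟨m0, hm0⟩ : ∃ m0 : (V4 𝕜) →ₗ[𝕜] 𝕜, m0 a ≠ 0 := ⟨LinearMap.proj i0, hi0⟩
  have hT' : ¬ ∃ L₁ L₂ L₃ : MvPolynomial (Fin 4) 𝕜, L₁.IsHomogeneous 1 ∧ L₂.IsHomogeneous 1 ∧
      L₃.IsHomogeneous 1 ∧ F - L₁ * L₂ * L₃ ∈ Ideal.span {(∑ i : Fin 4,
        C (eval a (pderiv i F)) * X i : MvPolynomial (Fin 4) 𝕜)} := hT
  have hcsum : ∀ x : V4 𝕜, ∑ j, (fun j => eval a (pderiv j F)) j * x j = 3 * Pol F a a x := by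
    intro x
    rw [← hℓx a x]
    simp only [map_sum, map_mul, eval_C, eval_X]
  have hnq : ¬ ∀ x, Pol F a a x = 0 → m0 x = 0 → Pol F a x x = 0 := fun hq =>
    hT' (tpoint_of_quad_zero F hG a ha0 hτ m0 hm0 hq (fun j => eval a (pderiv j F)) hcsum)
  have hnf : ¬ ∃ (κ : 𝕜) (ν : V4 𝕜 →ₗ[𝕜] 𝕜), κ ≠ 0 ∧
      ∀ x, Pol F a a x = 0 → κ * Pol F x x x = Pol F a x x * ν x := by
    rintro ⟨κ, ν, hκ, hq⟩
    exact hT' (tpoint_of_quad_factor F hG a ha0 hτ m0 hm0 κ hκ ν hq
      (fun j => eval a (pderiv j F)) hcsum)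
  obtain ⟨n, k1, k2, ρ, hn, hk1, hk2, -, hspan, hρ⟩ :=
    frame_exists F hG a ha0 hτ m0 hm0 hnq
  have hnz : ¬ ∀ x, Pol F a a x = 0 → Pol F a x x = 0 :=
    fun hq => hnq (fun x hx _ => hq x hx)
  have hnd : ¬ Dep F n a k1 k2 a :=
    not_dep_a F hG n a k1 k2 ha0 hn hk1 hk2 hspan ρ hρ hnz hnf
  have hdep : ∀ b, eval b F = 0 → TP F b → Dep F n a k1 k2 b := by
    rintro b hbF ⟨L1, L2, L3, h1, h2, h3, hmem⟩
    obtain ⟨l1, l2, l3, hfac⟩ := fac_of_tp F hG b L1 L2 L3 h1 h2 h3 hmem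
    exact dep_of_tp F hG n a k1 k2 hn hspan b (by rw [hG.diag]; exact hbF) l1 l2 l3 hfac
  obtain ⟨p, hp⟩ := exists_det_ne_zero (Gfun F n a k1 k2 a) (fun c hc => by
    by_contra hne
    exact hnd ⟨c, hne, hc⟩)
  choose P hP using fun (i : Fin 4) (j : Fin 4) => Gfun_mpoly F n a k1 k2 i (p j)
  have hev : ∀ b, eval b (Matrix.of P).det
      = (Matrix.of fun i j => Gfun F n a k1 k2 b i (p j)).det := by
    intro b
    rw [RingHom.map_det]
    congr 1
    ext i j
    simp only [RingHom.mapMatrix_apply, Matrix.map_apply, Matrix.of_apply]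
    exact (hP i j b).symm
  refine ⟨(Matrix.of P).det, ?_, ?_⟩
  · rw [hev]; exact hp
  · intro b hbF hTb
    obtain ⟨v, hv0, hv⟩ := hdep b hbF hTb
    rw [hev, ← Matrix.exists_vecMul_eq_zero_iff]
    refine ⟨v, hv0, ?_⟩
    ext j
    simp only [Matrix.vecMul, dotProduct, Matrix.of_apply, Pi.zero_apply]
    exact hv (p j)

/-- **the T-locus theorem** -/
theorem tlocus (F : MvPolynomial (Fin 4) 𝕜) (hF : F.IsHomogeneous 3) (hirr : Irreducible F)
    (hcone : ¬ ∃ v : Fin 4 → 𝕜, v ≠ 0 ∧ ∑ i : Fin 4, v i • pderiv i F = 0) :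
    (∃ G : MvPolynomial (Fin 4) 𝕜, ¬ F ∣ G ∧
      ∀ b, eval b F = 0 → (∃ i, eval b (pderiv i F) ≠ 0) → TP F b → eval b G = 0) ∨
    (∃ U : Submodule 𝕜 (V4 𝕜), Module.finrank 𝕜 ↥U = 2 ∧
      ∀ x, x ∈ U ↔ ∀ i, eval x (pderiv i F) = 0) := by
  have hG := good_of_homogeneous F hF
  have h := tri_Pol hG
  have hnl : ∀ ψ : V4 𝕜 →ₗ[𝕜] 𝕜, ψ ≠ 0 → ¬ ∀ x, ψ x = 0 → Pol F x x x = 0 :=
    fun ψ hψ hz => no_lin_of_irreducible F hF hirr ⟨ψ, hψ, hz⟩
  have hsing_iff : ∀ x : V4 𝕜, (∀ i, eval x (pderiv i F) = 0) ↔ ∀ y, Pol F x x y = 0 := by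
    intro x
    constructor
    · intro hx y
      have e : ∀ i : Fin 4, Pol F x x (Pi.single i 1) = 0 := fun i => by
        have := hx i
        rw [hG.deriv] at this
        exact (mul_eq_zero.mp this).resolve_left (by norm_num)
      rw [h.coord x x y, e 0, e 1, e 2, e 3]; ring
    · intro hx i
      rw [hG.deriv, hx, mul_zero]
  have hfacTP : ∀ b, TP F b → Fac (Pol F) b := by
    rintro b ⟨L1, L2, L3, h1, h2, h3, hmem⟩
    exact fac_of_tp F hG b L1 L2 L3 h1 h2 h3 hmem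
  by_cases hsm : ∀ v : V4 𝕜, v ≠ 0 → eval v F = 0 → ∃ i, eval v (pderiv i F) ≠ 0
  · -- the smooth case
    left
    have hS := smoothT_of hG hsm
    obtain ⟨a, ha0, haF, hnF⟩ := exists_nonfac_smooth h hS
    rw [hG.diag] at haF
    obtain ⟨G, hGa, hGT⟩ := depG F hF a haF (hsm a ha0 haF) (fun hT => hnF (hfacTP a hT))
    refine ⟨G, ?_, fun b hbF _ hTb => hGT b hbF hTb⟩
    rintro ⟨Q, rfl⟩
    apply hGa
    rw [map_mul, haF, zero_mul]
  · push Not at hsm
    obtain ⟨a, ha0, haF, hasing⟩ := hsm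
    have sing : ∀ y, Pol F a a y = 0 := (hsing_iff a).mp hasing
    by_cases hN : ∃ r, Ind2 a r ∧ (∀ y, Pol F r r y = 0) ∧ (∀ y, Pol F a r y = 0)
    · -- a double line
      right
      obtain ⟨r, hind, sr, sar⟩ := hN
      refine ⟨Submodule.span 𝕜 ({a, r} : Set (V4 𝕜)), finrank_span2 hind, fun x => ?_⟩
      rw [sing_locus_of_N h hnl a r hind sing sr sar x, hsing_iff]
    · -- an isolated-type singular point
      left
      have hfin : {U : Submodule 𝕜 (V4 𝕜) | a ∈ U ∧ Module.finrank 𝕜 ↥U = 2 ∧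
          ∀ u ∈ U, Pol F u u u = 0}.Finite := by
        have h6 := main16347 𝕜 F hF hirr hcone a ha0 haF hasing
        have hfin' := Set.finite_of_encard_le_coe (k := 6) (by exact_mod_cast h6)
        simp only [hG.diag]
        exact hfin'
      obtain ⟨Λ, hΛne, hΛ⟩ := sing_list h hnl a ha0 sing hfin hN
      refine ⟨(Λ.map linPoly).prod, ?_, ?_⟩
      · intro hdvd
        have hprime : Prime F := hirr.prime
        obtain ⟨g, hg, hFg⟩ := (Prime.dvd_prod_iff hprime).mp hdvd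
        obtain ⟨l, hl, rfl⟩ := List.mem_map.mp hg
        obtain ⟨Q, hQ⟩ := hFg
        have hlne : linPoly l ≠ 0 := by
          intro h0
          apply hΛne l hl
          apply LinearMap.ext
          intro x
          rw [← eval_linPoly, h0, map_zero]; rfl
        have hQ0 : Q ≠ 0 := by
          rintro rfl
          exact hlne (by rw [hQ, mul_zero])
        have d1 := (linPoly_hom l).totalDegree hlne
        have d3 := hF.totalDegree hirr.ne_zero
        have dm := totalDegree_mul_of_isDomain hirr.ne_zero hQ0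
        rw [← hQ, d1, d3] at dm
        omega
      · intro b hbF hbsm hTb
        obtain ⟨l, hl, hlb⟩ := hΛ b (by rw [hG.diag]; exact hbF) (by
          obtain ⟨i, hi⟩ := hbsm
          exact ⟨Pi.single i 1, fun h0 => hi (by rw [hG.deriv, h0, mul_zero])⟩) (hfacTP b hTb)
        rw [map_list_prod, List.map_map]
        apply List.prod_eq_zero
        exact List.mem_map.mpr ⟨l, hl, by simp [eval_linPoly, hlb]⟩

end Groth.Agent.Lib.CubicAvH1
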