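import Mathlib
import Groth.Agent.Lib.CubicRat1_helper1

/-!
# Lines avoiding a curve on a cubic surface

If `F` is an irreducible cubic and `G` is not divisible by `F`, then for a rational point `u`
off the surface, a general rational line through `u` does not meet `V(F, G)`.
-/

set_option autoImplicit false
set_option maxHeartbeats 1000000

namespace Groth.Agent.Lib.CubicAvH1

open MvPolynomial
open Groth.Agent.Lib.CubicSurfKH1
open Groth.Agent.Lib.CubicRatH1

variable {K : Type*} [Field K] [IsAlgClosed K] [CharZero K]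

/-- substitution `x ↦ s u + y` -/
noncomputable def theta (u : V4 K) :
    MvPolynomial (Fin 4) K →ₐ[K] Polynomial (MvPolynomial (Fin 4) K) :=
  aeval (fun i => Polynomial.C (C (u i)) * Polynomial.X + Polynomial.C (X i))

lemma eval_theta (u v : V4 K) (s : K) (p : MvPolynomial (Fin 4) K) :
    Polynomial.eval₂ (eval v) s (theta u p) = eval (s • u + v) p := by
  have hcomp : (Polynomial.eval₂RingHom (eval v) s).comp (theta u).toRingHom
      = eval (s • u + v) := by
    apply MvPolynomial.ringHom_ext
    · intro a
      simp [theta]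
    · intro i
      simp [theta]
      ring
  exact RingHom.congr_fun hcomp p

lemma theta_coeff (F : MvPolynomial (Fin 4) K) (hF : F.IsHomogeneous 3) (u : V4 K) :
    (theta u F).coeff 3 = C (eval u F) ∧ (theta u F).natDegree ≤ 3 := by
  have hG := good_of_homogeneous F hF
  have h := tri_Pol hG
  have hmap : ∀ v : V4 K, Polynomial.map (eval v) (theta u F)
      = Polynomial.C (eval u F) * Polynomial.X ^ 3
        + Polynomial.C (3 * Pol F u u v) * Polynomial.X ^ 2
        + Polynomial.C (3 * Pol F u v v) * Polynomial.X + Polynomial.C (eval v F) := by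
    intro v
    apply Polynomial.funext
    intro s
    rw [Polynomial.eval_map, eval_theta]
    have e : s • u + v = s • u + (1:K) • v := by rw [one_smul]
    rw [← hG.diag (s • u + v), e, h.cube2, hG.diag, hG.diag]
    simp only [Polynomial.eval_add, Polynomial.eval_mul, Polynomial.eval_C, Polynomial.eval_X,
      Polynomial.eval_pow]
    ring
  constructor
  · apply MvPolynomial.funext
    intro v
    have := congrArg (fun q => Polynomial.coeff q 3) (hmap v)
    simp only [Polynomial.coeff_map] at this
    rw [this, eval_C]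
    compute_degree!
  · rw [Polynomial.natDegree_le_iff_coeff_eq_zero]
    intro n hn
    apply MvPolynomial.funext
    intro v
    have := congrArg (fun q => Polynomial.coeff q n) (hmap v)
    simp only [Polynomial.coeff_map] at this
    rw [this, map_zero]
    apply Polynomial.coeff_eq_zero_of_natDegree_lt
    refine lt_of_le_of_lt ?_ hn
    compute_degree

/-- the coordinate ring of the cone -/
abbrev QA (F : MvPolynomial (Fin 4) K) :=
  MvPolynomial (Fin 4) K ⧸ (Ideal.span {F} : Ideal (MvPolynomial (Fin 4) K))

/-- `y ↦ x - s u` -/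
noncomputable def rho (F : MvPolynomial (Fin 4) K) (u : V4 K) :
    MvPolynomial (Fin 4) K →ₐ[K] Polynomial (QA F) :=
  aeval (fun i => Polynomial.C (Ideal.Quotient.mk (Ideal.span {F}) (X i))
    - Polynomial.C (Ideal.Quotient.mk (Ideal.span {F}) (C (u i))) * Polynomial.X)

lemma rho_theta (F : MvPolynomial (Fin 4) K) (u : V4 K) (p : MvPolynomial (Fin 4) K) :
    Polynomial.eval₂ (rho F u).toRingHom Polynomial.X (theta u p)
      = Polynomial.C (Ideal.Quotient.mk (Ideal.span {F}) p) := by
  have hcomp : ((Polynomial.eval₂RingHom (rho F u).toRingHom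
      (Polynomial.X : Polynomial (QA F))).comp (theta u).toRingHom :
        MvPolynomial (Fin 4) K →+* Polynomial (QA F))
      = (Polynomial.C : QA F →+* Polynomial (QA F)).comp (Ideal.Quotient.mk (Ideal.span {F})) := by
    apply MvPolynomial.ringHom_ext
    · intro a
      simp [theta, rho]
      rw [← Ideal.Quotient.mk_algebraMap, MvPolynomial.algebraMap_eq]
    · intro i
      simp [theta, rho]
      rw [← Ideal.Quotient.mk_algebraMap, MvPolynomial.algebraMap_eq]
      ring
  exact RingHom.congr_fun hcomp p

/-- evaluation at a point of the cone -/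
noncomputable def evq (F : MvPolynomial (Fin 4) K) (b : V4 K) (hb : eval b F = 0) :
    QA F →+* K :=
  Ideal.Quotient.lift _ (eval b) (by
    intro a ha
    obtain ⟨c, rfl⟩ := Ideal.mem_span_singleton'.mp ha
    rw [map_mul, hb, mul_zero])

lemma evq_mk (F : MvPolynomial (Fin 4) K) (b : V4 K) (hb : eval b F = 0)
    (p : MvPolynomial (Fin 4) K) :
    evq F b hb (Ideal.Quotient.mk (Ideal.span {F}) p) = eval b p :=
  Ideal.Quotient.lift_mk _ _ _

lemma eps_rho (F : MvPolynomial (Fin 4) K) (u v : V4 K) (s : K)
    (hb : eval (s • u + v) F = 0) (p : MvPolynomial (Fin 4) K) :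
    Polynomial.eval₂ (evq F (s • u + v) hb) s (rho F u p) = eval v p := by
  have hcomp : (Polynomial.eval₂RingHom (evq F (s • u + v) hb) s).comp (rho F u).toRingHom
      = eval v := by
    apply MvPolynomial.ringHom_ext
    · intro a
      simp [rho]
      rw [← Ideal.Quotient.mk_algebraMap, evq_mk, MvPolynomial.algebraMap_eq, eval_C]
    · intro i
      simp [rho, evq_mk]
      ring
  exact RingHom.congr_fun hcomp p

/-- every `C (mk p)` is integral over the image of `rho` -/
lemma integral_C_mk (F : MvPolynomial (Fin 4) K) (hF : F.IsHomogeneous 3) (u : V4 K)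
    (hu : eval u F ≠ 0) (p : MvPolynomial (Fin 4) K) :
    (rho F u).toRingHom.IsIntegralElem
      (Polynomial.C (Ideal.Quotient.mk (Ideal.span {F}) p) : Polynomial (QA F)) := by
  have hX : (rho F u).toRingHom.IsIntegralElem (Polynomial.X : Polynomial (QA F)) := by
    obtain ⟨hc3, hdeg⟩ := theta_coeff F hF u
    refine ⟨Polynomial.C (C (eval u F)⁻¹) * theta u F, ?_, ?_⟩
    · apply Polynomial.monic_of_natDegree_le_of_coeff_eq_one 3
      · exact le_trans (Polynomial.natDegree_C_mul_le _ _) hdeg
      · rw [Polynomial.coeff_C_mul, hc3, ← C_mul, inv_mul_cancel₀ hu, C_1]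
    · rw [Polynomial.eval₂_mul (R := MvPolynomial (Fin 4) K) (S := Polynomial (QA F)), rho_theta,
        Ideal.Quotient.eq_zero_iff_mem.mpr (Ideal.mem_span_singleton_self F), map_zero, mul_zero]
  induction p using MvPolynomial.induction_on with
  | C a =>
    have e : (Polynomial.C (Ideal.Quotient.mk (Ideal.span {F}) (C a)) : Polynomial (QA F))
        = (rho F u).toRingHom (C a) := by
      simp [rho]
      rw [← Ideal.Quotient.mk_algebraMap, MvPolynomial.algebraMap_eq]
    rw [e]
    exact RingHom.isIntegralElem_map (R := MvPolynomial (Fin 4) K) (S := Polynomial (QA F)) _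
  | add p q hp hq =>
    rw [map_add, map_add]
    exact RingHom.IsIntegralElem.add (R := MvPolynomial (Fin 4) K) (S := Polynomial (QA F)) _ hp hq
  | mul_X p i hp =>
    rw [map_mul, map_mul]
    refine RingHom.IsIntegralElem.mul (R := MvPolynomial (Fin 4) K) (S := Polynomial (QA F)) _ hp ?_
    have e : (Polynomial.C (Ideal.Quotient.mk (Ideal.span {F}) (X i)) : Polynomial (QA F))
        = (rho F u).toRingHom (X i) + (rho F u).toRingHom (C (u i)) * Polynomial.X := by
      simp [rho]
      rw [← Ideal.Quotient.mk_algebraMap, MvPolynomial.algebraMap_eq]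
      ring
    rw [e]
    exact RingHom.IsIntegralElem.add (R := MvPolynomial (Fin 4) K) (S := Polynomial (QA F)) _
      (RingHom.isIntegralElem_map (R := MvPolynomial (Fin 4) K) (S := Polynomial (QA F)) _)
      (RingHom.IsIntegralElem.mul (R := MvPolynomial (Fin 4) K) (S := Polynomial (QA F)) _
        (RingHom.isIntegralElem_map (R := MvPolynomial (Fin 4) K) (S := Polynomial (QA F)) _) hX)

/-- elimination: a nonzero polynomial in the direction variables vanishing whenever the line
meets `V(F, G)` -/
theorem exists_elim (F G : MvPolynomial (Fin 4) K) (hF : F.IsHomogeneous 3)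
    (hirr : Irreducible F) (hFG : ¬ F ∣ G) (u : V4 K) (hu : eval u F ≠ 0) :
    ∃ r : MvPolynomial (Fin 4) K, r ≠ 0 ∧ ∀ (v : V4 K) (s : K),
      eval (s • u + v) F = 0 → eval (s • u + v) G = 0 → eval v r = 0 := by
  have hprime : Prime F := hirr.prime
  haveI hI : (Ideal.span {F} : Ideal (MvPolynomial (Fin 4) K)).IsPrime :=
    (Ideal.span_singleton_prime hirr.ne_zero).mpr hprime
  obtain ⟨x, hxdef⟩ : ∃ x : Polynomial (QA F),
      x = Polynomial.C (Ideal.Quotient.mk (Ideal.span {F}) G) := ⟨_, rfl⟩
  have hx0 : x ≠ 0 := by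
    rw [hxdef]
    intro h0
    rw [Polynomial.C_eq_zero, Ideal.Quotient.eq_zero_iff_mem, Ideal.mem_span_singleton] at h0
    exact hFG h0
  obtain ⟨P, hPm, hPx⟩ : (rho F u).toRingHom.IsIntegralElem x := by
    rw [hxdef]; exact integral_C_mk F hF u hu G
  have hne := Ideal.comap_ne_bot_of_root_mem (R := MvPolynomial (Fin 4) K) (S := Polynomial (QA F))
    (I := Ideal.span {x}) (f := (rho F u).toRingHom)
    hx0 (Ideal.mem_span_singleton_self x) hPm.ne_zero hPx
  obtain ⟨r, hr, hr0⟩ := Submodule.exists_mem_ne_zero_of_ne_bot hne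
  rw [Ideal.mem_comap, Ideal.mem_span_singleton'] at hr
  obtain ⟨q, hq⟩ := hr
  refine ⟨r, hr0, fun v s hbF hbG => ?_⟩
  have e1 := eps_rho F u v s hbF r
  have e2 : (rho F u) r = q * x := hq.symm
  rw [e2, Polynomial.eval₂_mul (R := QA F) (S := K), hxdef,
    Polynomial.eval₂_C (R := QA F) (S := K), evq_mk, hbG, mul_zero] at e1
  exact e1.symm

/-- a rational line through `u` missing `V(F, G)` -/
theorem exists_avoid {k : Type*} [Field k] [CharZero k] [Algebra k K]
    (F G : MvPolynomial (Fin 4) K) (hF : F.IsHomogeneous 3) (hirr : Irreducible F)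
    (hFG : ¬ F ∣ G) (u : Fin 4 → k) (hu : eval (iota K u) F ≠ 0) :
    ∃ v : Fin 4 → k, ∀ s : K, eval (s • iota K u + iota K v) F = 0 →
      eval (s • iota K u + iota K v) G ≠ 0 := by
  obtain ⟨r, hr0, hr⟩ := exists_elim F G hF hirr hFG (iota K u) hu
  have hNZ : NZ (fun y : V4 K => eval y r) := by
    refine ⟨⟨r, fun _ => rfl⟩, ?_⟩
    by_contra hcon
    push Not at hcon
    apply hr0
    apply MvPolynomial.funext
    intro y
    rw [hcon y, map_zero]
  obtain ⟨v, hv⟩ := NZ.exists_rat (k := k) K hNZ
  exact ⟨v, fun s hbF hbG => hv (hr (iota K v) s hbF hbG)⟩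

end Groth.Agent.Lib.CubicAvH1
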