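import Mathlib
import Groth.Agent.Lib.CubicRat3_helper1

/-!
# Pfaffian representations of cubic surfaces, part 1: five points in standard position
-/

set_option autoImplicit false
set_option maxHeartbeats 4000000

namespace Groth.Agent.Lib.CubicPfH1

open MvPolynomial Matrix

/-- the alternating `6 × 6` matrix with given upper triangular entries -/
def skew6 {R : Type*} [CommRing R] (a01 a02 a03 a04 a05 a12 a13 a14 a15 a23 a24 a25 a34 a35 a45 : R) :
    Matrix (Fin 6) (Fin 6) R :=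
  !![0, a01, a02, a03, a04, a05;
     -a01, 0, a12, a13, a14, a15;
     -a02, -a12, 0, a23, a24, a25;
     -a03, -a13, -a23, 0, a34, a35;
     -a04, -a14, -a24, -a34, 0, a45;
     -a05, -a15, -a25, -a35, -a45, 0]

/-- the determinant of an alternating `6 × 6` matrix is the square of its Pfaffian -/
theorem det_skew6 {R : Type*} [CommRing R]
    (a01 a02 a03 a04 a05 a12 a13 a14 a15 a23 a24 a25 a34 a35 a45 : R) :
    (skew6 a01 a02 a03 a04 a05 a12 a13 a14 a15 a23 a24 a25 a34 a35 a45).det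
    = (a01 * (a23 * a45 - a24 * a35 + a25 * a34) - a02 * (a13 * a45 - a14 * a35 + a15 * a34)
      + a03 * (a12 * a45 - a14 * a25 + a15 * a24) - a04 * (a12 * a35 - a13 * a25 + a15 * a23)
      + a05 * (a12 * a34 - a13 * a24 + a14 * a23)) ^ 2 := by
  unfold skew6
  simp [Matrix.det_succ_row_zero, Fin.sum_univ_succ, Fin.succAbove]
  ring

lemma skew6_transpose {R : Type*} [CommRing R]
    (a01 a02 a03 a04 a05 a12 a13 a14 a15 a23 a24 a25 a34 a35 a45 : R) :
    (skew6 a01 a02 a03 a04 a05 a12 a13 a14 a15 a23 a24 a25 a34 a35 a45).transpose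
      = -(skew6 a01 a02 a03 a04 a05 a12 a13 a14 a15 a23 a24 a25 a34 a35 a45) := by
  ext i j
  fin_cases i <;> fin_cases j <;> simp [skew6]

lemma skew6_diag {R : Type*} [CommRing R]
    (a01 a02 a03 a04 a05 a12 a13 a14 a15 a23 a24 a25 a34 a35 a45 : R) (i : Fin 6) :
    skew6 a01 a02 a03 a04 a05 a12 a13 a14 a15 a23 a24 a25 a34 a35 a45 i i = 0 := by
  fin_cases i <;> simp [skew6]

lemma skew6_hom {σ R : Type*} [CommRing R]
    (a01 a02 a03 a04 a05 a12 a13 a14 a15 a23 a24 a25 a34 a35 a45 : MvPolynomial σ R)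
    (h01 : a01.IsHomogeneous 1) (h02 : a02.IsHomogeneous 1) (h03 : a03.IsHomogeneous 1)
    (h04 : a04.IsHomogeneous 1) (h05 : a05.IsHomogeneous 1) (h12 : a12.IsHomogeneous 1)
    (h13 : a13.IsHomogeneous 1) (h14 : a14.IsHomogeneous 1) (h15 : a15.IsHomogeneous 1)
    (h23 : a23.IsHomogeneous 1) (h24 : a24.IsHomogeneous 1) (h25 : a25.IsHomogeneous 1)
    (h34 : a34.IsHomogeneous 1) (h35 : a35.IsHomogeneous 1) (h45 : a45.IsHomogeneous 1)
    (i j : Fin 6) :
    (skew6 a01 a02 a03 a04 a05 a12 a13 a14 a15 a23 a24 a25 a34 a35 a45 i j).IsHomogeneous 1 := by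
  fin_cases i <;> fin_cases j <;>
    first
    | exact isHomogeneous_zero _ _ _
    | exact h01 | exact h02 | exact h03 | exact h04 | exact h05 | exact h12 | exact h13
    | exact h14 | exact h15 | exact h23 | exact h24 | exact h25 | exact h34 | exact h35
    | exact h45
    | exact h01.neg | exact h02.neg | exact h03.neg | exact h04.neg | exact h05.neg
    | exact h12.neg | exact h13.neg | exact h14.neg | exact h15.neg | exact h23.neg
    | exact h24.neg | exact h25.neg | exact h34.neg | exact h35.neg | exact h45.neg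

section Std

variable {k : Type*} [Field k]

lemma mem_span_cubics (G : MvPolynomial (Fin 4) k) (hG : G.IsHomogeneous 3) :
    G ∈ Submodule.span k (Set.range (fun t : Fin 4 × Fin 4 × Fin 4 =>
      (X t.1 * X t.2.1 * X t.2.2 : MvPolynomial (Fin 4) k))) := by
  classical
  rw [← support_sum_monomial_coeff G]
  apply Submodule.sum_mem
  intro d hd
  have hdeg : d.degree = 3 := by
    by_contra hne
    exact (mem_support_iff.mp hd) (hG.coeff_eq_zero hne)
  obtain ⟨i, j, l, rfl⟩ := CubicSurfKH1.deg3 d hdeg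
  generalize coeff (Finsupp.single i 1 + Finsupp.single j 1 + Finsupp.single l 1) G = a
  have e : monomial (Finsupp.single i 1 + Finsupp.single j 1 + Finsupp.single l 1) a
      = a • (X i * X j * X l : MvPolynomial (Fin 4) k) := by
    rw [smul_eq_C_mul]
    simp only [X, C_apply, monomial_mul, zero_add, one_mul, mul_one]
  rw [e]
  exact Submodule.smul_mem _ _ (Submodule.subset_span ⟨(i, j, l), rfl⟩)

lemma eval_smul_cubic (G : MvPolynomial (Fin 4) k) (hG : G.IsHomogeneous 3) (c : k)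
    (x : Fin 4 → k) : eval (c • x) G = c ^ 3 * eval x G := by
  refine Submodule.span_induction
    (p := fun p _ => eval (c • x) p = c ^ 3 * eval x p) ?_ ?_ ?_ ?_ (mem_span_cubics G hG)
  · rintro _ ⟨t, rfl⟩
    simp only [map_mul, eval_X, Pi.smul_apply, smul_eq_mul]
    ring
  · simp
  · intro p q _ _ hp hq
    rw [map_add, map_add, hp, hq]; ring
  · intro a p _ hp
    rw [smul_eval, smul_eval, hp]; ring

lemma decomp16 (G : MvPolynomial (Fin 4) k) (hG : G.IsHomogeneous 3)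
    (hE : ∀ i, eval (Pi.single i 1) G = 0) (he : eval (fun _ => (1:k)) G = 0) :
    ∃ gzww gzzw gyww gyzw gyzz gyyw gyyz gxww gxzw gxzz gxyw gxyz gxyy gxxw gxxz gxxy : k,
      gzww + gzzw + gyww + gyzw + gyzz + gyyw + gyyz + gxww + gxzw + gxzz + gxyw + gxyz + gxyy
        + gxxw + gxxz + gxxy = 0 ∧
      G = C gzww * (X 2 * X 3 * X 3) + C gzzw * (X 2 * X 2 * X 3) + C gyww * (X 1 * X 3 * X 3)
        + C gyzw * (X 1 * X 2 * X 3) + C gyzz * (X 1 * X 2 * X 2) + C gyyw * (X 1 * X 1 * X 3)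
        + C gyyz * (X 1 * X 1 * X 2) + C gxww * (X 0 * X 3 * X 3) + C gxzw * (X 0 * X 2 * X 3)
        + C gxzz * (X 0 * X 2 * X 2) + C gxyw * (X 0 * X 1 * X 3) + C gxyz * (X 0 * X 1 * X 2)
        + C gxyy * (X 0 * X 1 * X 1) + C gxxw * (X 0 * X 0 * X 3) + C gxxz * (X 0 * X 0 * X 2)
        + C gxxy * (X 0 * X 0 * X 1) := by
  obtain ⟨c, hc⟩ := (Submodule.mem_span_range_iff_exists_fun k).mp (mem_span_cubics G hG)
  simp only [Fintype.sum_prod_type, Fin.sum_univ_four, smul_eq_C_mul] at hc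
  have h0 : c (0, 0, 0) = 0 := by
    have := hE 0
    rw [← hc] at this
    simpa using this
  have h1 : c (1, 1, 1) = 0 := by
    have := hE 1
    rw [← hc] at this
    simpa using this
  have h2 : c (2, 2, 2) = 0 := by
    have := hE 2
    rw [← hc] at this
    simpa using this
  have h3 : c (3, 3, 3) = 0 := by
    have := hE 3
    rw [← hc] at this
    simpa using this
  have hsum := he
  rw [← hc] at hsum
  simp only [map_add, map_mul, eval_C, eval_X, mul_one] at hsum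
  refine ⟨c (2, 3, 3) + c (3, 2, 3) + c (3, 3, 2), c (2, 2, 3) + c (2, 3, 2) + c (3, 2, 2),
    c (1, 3, 3) + c (3, 1, 3) + c (3, 3, 1),
    c (1, 2, 3) + c (1, 3, 2) + c (2, 1, 3) + c (2, 3, 1) + c (3, 1, 2) + c (3, 2, 1),
    c (1, 2, 2) + c (2, 1, 2) + c (2, 2, 1), c (1, 1, 3) + c (1, 3, 1) + c (3, 1, 1),
    c (1, 1, 2) + c (1, 2, 1) + c (2, 1, 1), c (0, 3, 3) + c (3, 0, 3) + c (3, 3, 0),
    c (0, 2, 3) + c (0, 3, 2) + c (2, 0, 3) + c (2, 3, 0) + c (3, 0, 2) + c (3, 2, 0),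
    c (0, 2, 2) + c (2, 0, 2) + c (2, 2, 0),
    c (0, 1, 3) + c (0, 3, 1) + c (1, 0, 3) + c (1, 3, 0) + c (3, 0, 1) + c (3, 1, 0),
    c (0, 1, 2) + c (0, 2, 1) + c (1, 0, 2) + c (1, 2, 0) + c (2, 0, 1) + c (2, 1, 0),
    c (0, 1, 1) + c (1, 0, 1) + c (1, 1, 0), c (0, 0, 3) + c (0, 3, 0) + c (3, 0, 0),
    c (0, 0, 2) + c (0, 2, 0) + c (2, 0, 0), c (0, 0, 1) + c (0, 1, 0) + c (1, 0, 0), ?_, ?_⟩
  · linear_combination hsum - h0 - h1 - h2 - h3
  · rw [← hc]
    simp only [map_add, h0, h1, h2, h3, map_zero, zero_mul]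
    ring

/-- the Pfaffian representation of a cubic through the five standard points -/
theorem pf_std (G : MvPolynomial (Fin 4) k) (hG : G.IsHomogeneous 3)
    (hE : ∀ i, eval (Pi.single i 1) G = 0) (he : eval (fun _ => (1:k)) G = 0) :
    ∃ M : Matrix (Fin 6) (Fin 6) (MvPolynomial (Fin 4) k), (∀ i j, (M i j).IsHomogeneous 1) ∧
      M.transpose = -M ∧ (∀ i, M i i = 0) ∧ M.det = G ^ 2 := by
  obtain ⟨gzww, gzzw, gyww, gyzw, gyzz, gyyw, gyyz, gxww, gxzw, gxzz, gxyw, gxyz, gxyy, gxxw,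
    gxxz, gxxy, hsum, hGrep⟩ := decomp16 G hG hE he
  obtain ⟨l0, hl0⟩ : ∃ l0 : MvPolynomial (Fin 4) k, l0 = C (gxzz + gxyz + gxyy) * X 0
      + C gyyz * X 1 + C gyzz * X 2 + C (-(gzww + gxww)) * X 3 := ⟨_, rfl⟩
  obtain ⟨l1, hl1⟩ : ∃ l1 : MvPolynomial (Fin 4) k, l1 = C gxxw * X 0
      + C (-(gzww + gyzw + gyyw + gyyz + gxww)) * X 1 + C (-(gzzw + gyzz)) * X 2
      + C gxww * X 3 := ⟨_, rfl⟩
  obtain ⟨l2, hl2⟩ : ∃ l2 : MvPolynomial (Fin 4) k, l2 = C (-(gxxz + gxxy)) * X 0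
      + C gyww * X 3 := ⟨_, rfl⟩
  obtain ⟨l3, hl3⟩ : ∃ l3 : MvPolynomial (Fin 4) k, l3 = C gxxz * X 0
      + C (-(gyyw + gxyy)) * X 1 + C gxzz * X 2
      + C (gzzw + gyzz + gxzw + gxzz + gxyz + gxyy + gxxw) * X 3 := ⟨_, rfl⟩
  obtain ⟨l4, hl4⟩ : ∃ l4 : MvPolynomial (Fin 4) k, l4 = C (-gyyw) * X 1 := ⟨_, rfl⟩
  have hX : ∀ i : Fin 4, (X i : MvPolynomial (Fin 4) k).IsHomogeneous 1 :=
    fun i => isHomogeneous_X _ _
  have hCX : ∀ (a : k) (i : Fin 4), (C a * X i : MvPolynomial (Fin 4) k).IsHomogeneous 1 :=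
    fun a i => isHomogeneous_C_mul_X _ _
  have hz : (0 : MvPolynomial (Fin 4) k).IsHomogeneous 1 := isHomogeneous_zero _ _ _
  refine ⟨skew6 0 0 (X 0 - X 3) (X 0) l0 (X 1 - X 2) 0 (X 1) l1 (X 2 - X 3) (X 2) l2 (X 3) l3 l4,
    ?_, skew6_transpose _ _ _ _ _ _ _ _ _ _ _ _ _ _ _, skew6_diag _ _ _ _ _ _ _ _ _ _ _ _ _ _ _,
    ?_⟩
  · apply skew6_hom
    · exact hz
    · exact hz
    · exact (hX 0).sub (hX 3)
    · exact hX 0
    · rw [hl0]; exact (((hCX _ _).add (hCX _ _)).add (hCX _ _)).add (hCX _ _)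
    · exact (hX 1).sub (hX 2)
    · exact hz
    · exact hX 1
    · rw [hl1]; exact (((hCX _ _).add (hCX _ _)).add (hCX _ _)).add (hCX _ _)
    · exact (hX 2).sub (hX 3)
    · exact hX 2
    · rw [hl2]; exact (hCX _ _).add (hCX _ _)
    · exact hX 3
    · rw [hl3]; exact (((hCX _ _).add (hCX _ _)).add (hCX _ _)).add (hCX _ _)
    · rw [hl4]; exact hCX _ _
  · rw [det_skew6, hGrep]
    congr 1
    have hsumC := congrArg (C : k → MvPolynomial (Fin 4) k) hsum
    rw [hl0, hl1, hl2, hl3, hl4]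
    simp only [map_add, map_zero, map_neg] at hsumC ⊢
    linear_combination (-(X 0 * X 1 * X 3)) * hsumC

end Std

end Groth.Agent.Lib.CubicPfH1
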