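import Mathlib
import Groth.Agent.Lib.CubicPf1_helper1

/-!
# Pfaffian representations of cubic surfaces, part 2: five rational points in general position
give a Pfaffian representation
-/

set_option autoImplicit false
set_option maxHeartbeats 1000000

universe u

namespace Groth.Agent.Lib.CubicPfH1

open MvPolynomial Matrix

section Subst

variable {k : Type*} [Field k]

/-- linear substitution -/
noncomputable def subst (B : Matrix (Fin 4) (Fin 4) k) :
    MvPolynomial (Fin 4) k →ₐ[k] MvPolynomial (Fin 4) k :=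
  aeval (fun j : Fin 4 => ∑ i : Fin 4, C (B j i) * X i)

lemma eval_subst (B : Matrix (Fin 4) (Fin 4) k) (p : MvPolynomial (Fin 4) k) (y : Fin 4 → k) :
    eval y (subst B p) = eval (B.mulVec y) p := by
  have h : ((eval y).comp (subst B).toRingHom) = eval (B.mulVec y) := by
    apply MvPolynomial.ringHom_ext
    · intro a; simp [subst]
    · intro i; simp [subst, Matrix.mulVec, dotProduct]
  have := RingHom.congr_fun h p
  simpa only [RingHom.comp_apply, AlgHom.toRingHom_eq_coe, RingHom.coe_coe] using this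

lemma subst_hom (B : Matrix (Fin 4) (Fin 4) k) (p : MvPolynomial (Fin 4) k) (n : ℕ)
    (hp : p.IsHomogeneous n) : (subst B p).IsHomogeneous n := by
  have := hp.aeval (fun j : Fin 4 => ∑ i : Fin 4, C (B j i) * X i) (n := 1)
    (fun j => IsHomogeneous.sum _ _ _ (fun i _ => isHomogeneous_C_mul_X _ _))
  rw [one_mul] at this
  exact this

/-- five rational points in general position give a Pfaffian representation -/
theorem pf_of_five [CharZero k] (F : MvPolynomial (Fin 4) k) (hF : F.IsHomogeneous 3)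
    (p : Fin 5 → (Fin 4 → k)) (hp : ∀ j, eval (p j) F = 0)
    (hgp : ∀ j : Fin 5, LinearIndependent k (fun i : Fin 4 => p (j.succAbove i))) :
    ∃ M : Matrix (Fin 6) (Fin 6) (MvPolynomial (Fin 4) k), (∀ i j, (M i j).IsHomogeneous 1) ∧
      M.transpose = -M ∧ (∀ i, M i i = 0) ∧
      ∃ c : k, c ≠ 0 ∧ M.det = C c * F ^ 2 := by
  classical
  haveI : Infinite k := Infinite.of_injective (Nat.cast : ℕ → k) Nat.cast_injective
  have hv : LinearIndependent k (fun i : Fin 4 => p (Fin.castSucc i)) := by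
    have := hgp (Fin.last 4)
    simpa only [Fin.succAbove_last] using this
  obtain ⟨b, hb⟩ : ∃ b : Module.Basis (Fin 4) k (Fin 4 → k), ∀ i, b i = p (Fin.castSucc i) :=
    ⟨basisOfLinearIndependentOfCardEqFinrank hv (by simp), fun i => by
      rw [coe_basisOfLinearIndependentOfCardEqFinrank]⟩
  obtain ⟨cc, hcc⟩ : ∃ cc : Fin 4 → k, ∀ i, cc i = b.repr (p (Fin.last 4)) i :=
    ⟨_, fun _ => rfl⟩
  have hp4 : p (Fin.last 4) = ∑ i, cc i • p (Fin.castSucc i) := by
    calc p (Fin.last 4) = ∑ i, b.repr (p (Fin.last 4)) i • b i := (b.sum_repr _).symm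
      _ = _ := by simp only [hcc, hb]
  have hcc0 : ∀ i0, cc i0 ≠ 0 := by
    intro i0 h0
    obtain ⟨f, hf⟩ : ∃ f : (Fin 4 → k) →ₗ[k] k, f = b.coord i0 := ⟨_, rfl⟩
    have hfb : ∀ m, f (p (Fin.castSucc m)) = if m = i0 then 1 else 0 := by
      intro m
      rw [hf, ← hb, Module.Basis.coord_apply, Module.Basis.repr_self, Finsupp.single_apply]
    have hf4 : f (p (Fin.last 4)) = 0 := by
      rw [hf, Module.Basis.coord_apply, ← hcc]; exact h0
    have hall : ∀ x : Fin 5, x ≠ Fin.castSucc i0 → f (p x) = 0 := by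
      intro x hx
      induction x using Fin.lastCases with
      | last => exact hf4
      | cast m =>
        rw [hfb, if_neg]
        rintro rfl
        exact hx rfl
    have hw := hgp (Fin.castSucc i0)
    have hspan := hw.span_eq_top_of_card_eq_finrank (by simp)
    have hker : LinearMap.ker f = ⊤ := by
      rw [eq_top_iff, ← hspan, Submodule.span_le]
      rintro _ ⟨l, rfl⟩
      exact LinearMap.mem_ker.mpr (hall _ (Fin.succAbove_ne _ _))
    have hf0 : f = 0 := LinearMap.ker_eq_top.mp hker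
    have h1 := hfb i0
    rw [hf0, if_pos rfl, LinearMap.zero_apply] at h1
    exact zero_ne_one h1
  obtain ⟨A, hA⟩ : ∃ A : Matrix (Fin 4) (Fin 4) k,
      ∀ j i, A j i = cc i * p (Fin.castSucc i) j :=
    ⟨Matrix.of fun j i => cc i * p (Fin.castSucc i) j, fun _ _ => rfl⟩
  have hAmul : ∀ y : Fin 4 → k, A.mulVec y = ∑ i, (y i * cc i) • p (Fin.castSucc i) := by
    intro y
    ext j
    simp only [Matrix.mulVec, dotProduct, hA, Finset.sum_apply, Pi.smul_apply, smul_eq_mul]
    apply Finset.sum_congr rfl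
    intro i _
    ring
  have hAinj : Function.Injective A.mulVec := by
    intro y y' hyy'
    rw [hAmul, hAmul] at hyy'
    have hli := Fintype.linearIndependent_iff.mp hv
    have h0 : ∑ i, ((y i - y' i) * cc i) • p (Fin.castSucc i) = 0 := by
      simp only [sub_mul, sub_smul, Finset.sum_sub_distrib]
      rw [hyy', sub_self]
    ext i
    have h1 := hli _ h0 i
    have h2 := (mul_eq_zero.mp h1).resolve_right (hcc0 i)
    exact sub_eq_zero.mp h2
  have hAunit : IsUnit A := Matrix.mulVec_injective_iff_isUnit.mp hAinj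
  have hAA : A * A⁻¹ = 1 := Matrix.mul_nonsing_inv A ((Matrix.isUnit_iff_isUnit_det A).mp hAunit)
  obtain ⟨G, hGdef⟩ : ∃ G, G = subst A F := ⟨_, rfl⟩
  have hGhom : G.IsHomogeneous 3 := by rw [hGdef]; exact subst_hom A F 3 hF
  have hGE : ∀ i, eval (Pi.single i 1) G = 0 := by
    intro i
    have e : A.mulVec (Pi.single i 1) = cc i • p (Fin.castSucc i) := by
      rw [hAmul, Finset.sum_eq_single i]
      · rw [Pi.single_eq_same, one_mul]
      · intro m _ hm
        rw [Pi.single_eq_of_ne hm, zero_mul, zero_smul]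
      · intro h
        exact absurd (Finset.mem_univ i) h
    rw [hGdef, eval_subst, e, eval_smul_cubic F hF, hp, mul_zero]
  have hGe : eval (fun _ => (1:k)) G = 0 := by
    have e : A.mulVec (fun _ => (1:k)) = p (Fin.last 4) := by
      rw [hAmul, hp4]
      simp only [one_mul]
    rw [hGdef, eval_subst, e, hp]
  obtain ⟨M', hM1, hM2, hM3, hM4⟩ := pf_std G hGhom hGE hGe
  refine ⟨M'.map (subst A⁻¹), ?_, ?_, ?_, 1, one_ne_zero, ?_⟩
  · intro i j
    rw [Matrix.map_apply]
    exact subst_hom _ _ 1 (hM1 i j)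
  · ext i j
    have h1 := congrFun (congrFun hM2 i) j
    rw [Matrix.transpose_apply, Matrix.neg_apply] at h1
    rw [Matrix.transpose_apply, Matrix.map_apply, Matrix.neg_apply, Matrix.map_apply, h1,
      map_neg]
  · intro i
    rw [Matrix.map_apply, hM3, map_zero]
  · have hdet : (M'.map (subst A⁻¹)).det = subst A⁻¹ (M'.det) := by
      rw [AlgHom.map_det]; rfl
    rw [hdet, hM4, map_pow]
    have hFF : subst A⁻¹ G = F := by
      apply MvPolynomial.funext
      intro y
      rw [hGdef, eval_subst, eval_subst, Matrix.mulVec_mulVec, hAA, Matrix.one_mulVec]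
    rw [hFF, C_1, one_mul]

end Subst

/-- **S16349** -/
theorem main16349 (k : Type u) [Field k] [CharZero k]
    (F : MvPolynomial (Fin 4) k) (hF : F.IsHomogeneous 3)
    (hirr : Irreducible (MvPolynomial.map (algebraMap k (AlgebraicClosure k)) F))
    (hcone : ¬ ∃ v : Fin 4 → k, v ≠ 0 ∧ ∑ i : Fin 4, v i • MvPolynomial.pderiv i F = 0)
    (a : Fin 4 → k) (ha : a ≠ 0) (hFa : MvPolynomial.eval a F = 0)
    (ℓ : MvPolynomial (Fin 4) (AlgebraicClosure k))
    (hℓ : ℓ = ∑ i : Fin 4, MvPolynomial.C (algebraMap k (AlgebraicClosure k)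
      (MvPolynomial.eval a (MvPolynomial.pderiv i F))) * MvPolynomial.X i)
    (hT : ¬ ∃ L₁ L₂ L₃ : MvPolynomial (Fin 4) (AlgebraicClosure k), L₁.IsHomogeneous 1 ∧
      L₂.IsHomogeneous 1 ∧ L₃.IsHomogeneous 1 ∧
      MvPolynomial.map (algebraMap k (AlgebraicClosure k)) F - L₁ * L₂ * L₃ ∈ Ideal.span {ℓ}) :
    ∃ M : Matrix (Fin 6) (Fin 6) (MvPolynomial (Fin 4) k), (∀ i j, (M i j).IsHomogeneous 1) ∧
      M.transpose = -M ∧ (∀ i, M i i = 0) ∧
      ∃ c : k, c ≠ 0 ∧ M.det = MvPolynomial.C c * F ^ 2 := by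
  obtain ⟨p, -, hp, hgp⟩ := CubicRatH1.main16348 k F hF hirr hcone a ha hFa ℓ hℓ hT
  exact pf_of_five F hF p hp hgp

end Groth.Agent.Lib.CubicPfH1
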