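import Mathlib
import Groth.Agent.Lib.CubicAv3_helper1
import Groth.Agent.Lib.CubicAv4_helper1
import Groth.Agent.Lib.CubicPf2_helper1

/-!
# Pfaffian representations over extensions of degree at most three

Assembly: a general rational line avoids the T-points; one of its intersection points with the
surface is defined over an extension of degree at most three (real if the base field is real),
and is not a T-point.
-/

set_option autoImplicit false
set_option maxHeartbeats 1000000

namespace Groth.Agent.Lib.CubicAvH1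

open MvPolynomial
open Groth.Agent.Lib.CubicSurfKH1
open Groth.Agent.Lib.CubicRatH1
open Groth.Agent.Lib.CubicPfH1

universe u

/-- evaluation commutes with ring homomorphisms -/
lemma eval_hom {R S : Type*} [CommSemiring R] [CommSemiring S] (φ : R →+* S)
    (q : MvPolynomial (Fin 4) R) (b : Fin 4 → R) :
    eval (fun i => φ (b i)) (map φ q) = φ (eval b q) := by
  induction q using MvPolynomial.induction_on with
  | C a => simp
  | add p q hp hq => simp [hp, hq]
  | mul_X p i hp => simp [hp]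

/-- not being a cone is stable under field extension -/
theorem cone_descent {k : Type*} [Field k] (K : Type*) [Field K] [Algebra k K]
    (F : MvPolynomial (Fin 4) k)
    (hcone : ¬ ∃ v : Fin 4 → k, v ≠ 0 ∧ ∑ i : Fin 4, v i • pderiv i F = 0) :
    ¬ ∃ v : Fin 4 → K, v ≠ 0 ∧ ∑ i : Fin 4, v i • pderiv i (map (algebraMap k K) F) = 0 := by
  rintro ⟨v, hv0, hv⟩
  obtain ⟨i0, hi0⟩ : ∃ i, v i ≠ 0 := by
    by_contra hcon
    push Not at hcon
    exact hv0 (funext hcon)
  obtain ⟨lam, hlam⟩ := Module.Projective.exists_dual_ne_zero k hi0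
  apply hcone
  refine ⟨fun i => lam (v i), fun h0 => hlam (congrFun h0 i0), ?_⟩
  ext m
  have e := congrArg (coeff m) hv
  simp only [coeff_sum, coeff_smul, pderiv_map, coeff_map, coeff_zero, smul_eq_mul] at e ⊢
  have e2 := congrArg lam e
  rw [map_sum, map_zero] at e2
  refine Eq.trans ?_ e2
  apply Finset.sum_congr rfl
  intro i _
  symm
  rw [mul_comm (v i), ← Algebra.smul_def, map_smul, smul_eq_mul, mul_comm]

/-- a real cubic polynomial has a real root -/
theorem real_cubic_root (p : Polynomial ℝ) (hp : p.natDegree = 3) : ∃ r : ℝ, p.eval r = 0 := by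
  have hc3 : p.coeff 3 ≠ 0 := by
    rw [← hp]
    exact Polynomial.leadingCoeff_ne_zero.mpr (Polynomial.ne_zero_of_natDegree_gt (n := 0)
      (by omega))
  obtain ⟨a0, ha0⟩ : ∃ a0 : ℝ, a0 = p.coeff 0 / p.coeff 3 := ⟨_, rfl⟩
  obtain ⟨a1, ha1⟩ : ∃ a1 : ℝ, a1 = p.coeff 1 / p.coeff 3 := ⟨_, rfl⟩
  obtain ⟨a2, ha2⟩ : ∃ a2 : ℝ, a2 = p.coeff 2 / p.coeff 3 := ⟨_, rfl⟩
  have hev : ∀ x : ℝ, p.eval x = p.coeff 3 * (x ^ 3 + a2 * x ^ 2 + a1 * x + a0) := by
    intro x
    rw [Polynomial.eval_eq_sum_range, hp, Finset.sum_range_succ, Finset.sum_range_succ,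
      Finset.sum_range_succ, Finset.sum_range_one, ha0, ha1, ha2]
    field_simp
    ring
  obtain ⟨M, hM⟩ : ∃ M : ℝ, M = 1 + |a0| + |a1| + |a2| := ⟨_, rfl⟩
  have hM1 : 1 ≤ M := by
    rw [hM]; linarith [abs_nonneg a0, abs_nonneg a1, abs_nonneg a2]
  have hMM : M ≤ M ^ 2 := by nlinarith
  have h1M : 1 ≤ M ^ 2 := by nlinarith
  have n0 := neg_abs_le a0
  have n1 := neg_abs_le a1
  have n2 := neg_abs_le a2
  have p0 := le_abs_self a0
  have p1 := le_abs_self a1
  have p2 := le_abs_self a2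
  have q0 := abs_nonneg a0
  have q1 := abs_nonneg a1
  have q2 := abs_nonneg a2
  have hcont : Continuous (fun x : ℝ => x ^ 3 + a2 * x ^ 2 + a1 * x + a0) := by fun_prop
  have hpos : 0 ≤ M ^ 3 + a2 * M ^ 2 + a1 * M + a0 := by
    have e2 : -(|a2|) * M ^ 2 ≤ a2 * M ^ 2 :=
      mul_le_mul_of_nonneg_right n2 (sq_nonneg M)
    have e1 : -(|a1|) * M ^ 2 ≤ a1 * M := by
      nlinarith [mul_nonneg (by linarith : (0:ℝ) ≤ a1 + |a1|) (by linarith : (0:ℝ) ≤ M),
        mul_nonneg q1 (by linarith : (0:ℝ) ≤ M ^ 2 - M)]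
    have e0 : -(|a0|) * M ^ 2 ≤ a0 := by
      nlinarith [mul_nonneg q0 (by linarith : (0:ℝ) ≤ M ^ 2 - 1)]
    have e3 : M ^ 3 - (|a0| + |a1| + |a2|) * M ^ 2 = M ^ 2 := by
      rw [hM]; ring
    nlinarith [sq_nonneg M]
  have hneg : (-M) ^ 3 + a2 * (-M) ^ 2 + a1 * (-M) + a0 ≤ 0 := by
    have e2 : a2 * M ^ 2 ≤ |a2| * M ^ 2 :=
      mul_le_mul_of_nonneg_right p2 (sq_nonneg M)
    have e1 : -(a1 * M) ≤ |a1| * M ^ 2 := by
      nlinarith [mul_nonneg (by linarith : (0:ℝ) ≤ a1 + |a1|) (by linarith : (0:ℝ) ≤ M),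
        mul_nonneg q1 (by linarith : (0:ℝ) ≤ M ^ 2 - M)]
    have e0 : a0 ≤ |a0| * M ^ 2 := by
      nlinarith [mul_nonneg q0 (by linarith : (0:ℝ) ≤ M ^ 2 - 1)]
    have e3 : M ^ 3 - (|a0| + |a1| + |a2|) * M ^ 2 = M ^ 2 := by
      rw [hM]; ring
    nlinarith [sq_nonneg M]
  obtain ⟨r, hr⟩ := mem_range_of_exists_le_of_exists_ge hcont ⟨-M, hneg⟩ ⟨M, hpos⟩
  have hr' : r ^ 3 + a2 * r ^ 2 + a1 * r + a0 = 0 := hr
  exact ⟨r, by rw [hev, hr', mul_zero]⟩

/-- the restriction of a form to the line `s ↦ s u + v` -/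
noncomputable def gpoly {k : Type*} [Field k] (u v : Fin 4 → k) :
    MvPolynomial (Fin 4) k →ₐ[k] Polynomial k :=
  aeval (fun i => Polynomial.C (u i) * Polynomial.X + Polynomial.C (v i))

lemma eval₂_gpoly {k E : Type*} [Field k] [Field E] [Algebra k E] (u v : Fin 4 → k) (s : E)
    (p : MvPolynomial (Fin 4) k) :
    Polynomial.eval₂ (algebraMap k E) s (gpoly u v p)
      = eval (fun i => s * algebraMap k E (u i) + algebraMap k E (v i))
        (map (algebraMap k E) p) := by
  have hcomp : (Polynomial.eval₂RingHom (algebraMap k E) s).comp (gpoly u v).toRingHom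
      = (eval (fun i => s * algebraMap k E (u i) + algebraMap k E (v i))).comp
        (map (algebraMap k E)) := by
    apply MvPolynomial.ringHom_ext
    · intro a
      simp [gpoly]
    · intro i
      simp [gpoly]
      ring
  exact RingHom.congr_fun hcomp p

section Main

variable {k : Type u} [Field k] [CharZero k]

local notation "Kb" => AlgebraicClosure k

lemma gpoly_natDegree (F : MvPolynomial (Fin 4) k) (hF : F.IsHomogeneous 3) (u v : Fin 4 → k)
    (hu : eval u F ≠ 0) : (gpoly u v F).natDegree = 3 := by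
  have hinj := (algebraMap k Kb).injective
  rw [← Polynomial.natDegree_map_eq_of_injective hinj]
  have hG := good_of_homogeneous (map (algebraMap k Kb) F) (hF.map _)
  have h := tri_Pol hG
  have hmap : Polynomial.map (algebraMap k Kb) (gpoly u v F)
      = Polynomial.C (eval (iota Kb u) (map (algebraMap k Kb) F)) * Polynomial.X ^ 3
        + Polynomial.C (3 * Pol (map (algebraMap k Kb) F) (iota Kb u) (iota Kb u) (iota Kb v))
          * Polynomial.X ^ 2
        + Polynomial.C (3 * Pol (map (algebraMap k Kb) F) (iota Kb u) (iota Kb v) (iota Kb v))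
          * Polynomial.X
        + Polynomial.C (eval (iota Kb v) (map (algebraMap k Kb) F)) := by
    apply Polynomial.funext
    intro s
    rw [Polynomial.eval_map, eval₂_gpoly]
    have e : (fun i => s * algebraMap k Kb (u i) + algebraMap k Kb (v i))
        = s • iota Kb u + (1:Kb) • iota Kb v := by
      ext i
      simp [iota]
    rw [e, ← hG.diag (s • iota Kb u + (1:Kb) • iota Kb v), h.cube2, hG.diag, hG.diag]
    simp only [Polynomial.eval_add, Polynomial.eval_mul, Polynomial.eval_C, Polynomial.eval_X,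
      Polynomial.eval_pow]
    ring
  rw [hmap]
  have hu' : eval (iota Kb u) (map (algebraMap k Kb) F) ≠ 0 := by
    rw [eval_iota]
    exact fun h0 => hu (hinj (h0.trans (map_zero _).symm))
  generalize eval (iota Kb u) (map (algebraMap k Kb) F) = c3 at hu' ⊢
  generalize 3 * Pol (map (algebraMap k Kb) F) (iota Kb u) (iota Kb u) (iota Kb v) = c2
  generalize 3 * Pol (map (algebraMap k Kb) F) (iota Kb u) (iota Kb v) (iota Kb v) = c1
  generalize eval (iota Kb v) (map (algebraMap k Kb) F) = c0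
  compute_degree!

/-- descent of a line of singular points to a rational singular point -/
theorem exists_rat_sing (F : MvPolynomial (Fin 4) k) (hF : F.IsHomogeneous 3)
    (U : Submodule Kb (V4 Kb)) (hU2 : Module.finrank Kb ↥U = 2)
    (hU : ∀ x, x ∈ U ↔ ∀ i, eval x (pderiv i (map (algebraMap k Kb) F)) = 0) :
    ∃ a : Fin 4 → k, a ≠ 0 ∧ eval a F = 0 ∧ ∀ i, eval a (pderiv i F) = 0 := by
  classical
  have hstab : ∀ (σ : Kb ≃ₐ[k] Kb) (x : V4 Kb), x ∈ U → (fun i => σ (x i)) ∈ U := by
    intro σ x hx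
    rw [hU] at hx ⊢
    intro i
    have e := eval_hom (σ : Kb →+* Kb) (map (algebraMap k Kb) (pderiv i F)) x
    have hcomp : (σ : Kb →+* Kb).comp (algebraMap k Kb) = algebraMap k Kb := by
      ext c
      exact σ.commutes c
    rw [map_map, hcomp] at e
    rw [pderiv_map]
    show eval (fun j => (σ : Kb →+* Kb) (x j)) (map (algebraMap k Kb) (pderiv i F)) = 0
    rw [e, ← pderiv_map, hx i, map_zero]
  obtain ⟨u, huU, hu0⟩ := exists_ne_zero U (by omega)
  obtain ⟨v, hvU, hind⟩ := exists_indep U (by omega) huU hu0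
  obtain ⟨j, hj⟩ : ∃ j, u j ≠ 0 := by
    by_contra hcon
    push Not at hcon
    exact hu0 (funext hcon)
  obtain ⟨c, hc⟩ : ∃ c : Kb, c = v j / u j := ⟨_, rfl⟩
  obtain ⟨w, hwdef⟩ : ∃ w : V4 Kb, w = v - c • u := ⟨_, rfl⟩
  have hwU : w ∈ U := by rw [hwdef]; exact U.sub_mem hvU (U.smul_mem _ huU)
  have hwj : w j = 0 := by
    rw [hwdef, Pi.sub_apply, Pi.smul_apply, smul_eq_mul, hc, div_mul_cancel₀ _ hj, sub_self]
  have hw0 : w ≠ 0 := by
    intro h0
    rw [hwdef, sub_eq_zero] at h0
    have := (hind (-c) 1 (by rw [h0]; module)).2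
    exact one_ne_zero this
  obtain ⟨i, hi⟩ : ∃ i, w i ≠ 0 := by
    by_contra hcon
    push Not at hcon
    exact hw0 (funext hcon)
  obtain ⟨w', hw'def⟩ : ∃ w' : V4 Kb, w' = (w i)⁻¹ • w := ⟨_, rfl⟩
  have hw'U : w' ∈ U := by rw [hw'def]; exact U.smul_mem _ hwU
  have hw'j : w' j = 0 := by rw [hw'def, Pi.smul_apply, hwj, smul_zero]
  have hw'i : w' i = 1 := by rw [hw'def, Pi.smul_apply, smul_eq_mul, inv_mul_cancel₀ hi]
  have huniq : ∀ z ∈ U, z j = 0 → z i = 1 → z = w' := by
    intro z hz hzj hzi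
    have hsp := span2_eq U hU2 huU hvU hind
    rw [← hsp] at hz
    obtain ⟨α, β, hαβ⟩ := Submodule.mem_span_pair.mp hz
    have hv : v = w + c • u := by rw [hwdef]; exact (sub_add_cancel v (c • u)).symm
    have hz2 : z = (α + β * c) • u + β • w := by rw [← hαβ, hv]; module
    have e1 : (α + β * c) * u j = 0 := by
      have := congrFun hz2 j
      rw [hzj, Pi.add_apply, Pi.smul_apply, Pi.smul_apply, hwj, smul_zero, add_zero,
        smul_eq_mul] at this
      exact this.symm
    have e2 : α + β * c = 0 := (mul_eq_zero.mp e1).resolve_right hj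
    rw [e2, zero_smul, zero_add] at hz2
    have e3 : β * w i = 1 := by
      have := congrFun hz2 i
      rw [hzi, Pi.smul_apply, smul_eq_mul] at this
      exact this.symm
    have e4 : β = (w i)⁻¹ := eq_inv_of_mul_eq_one_left e3
    rw [hz2, hw'def, e4]
  haveI : IsGalois k Kb := IsAlgClosure.isGalois k Kb
  have hfix : ∀ (σ : Kb ≃ₐ[k] Kb) l, σ (w' l) = w' l := by
    intro σ l
    have := huniq _ (hstab σ w' hw'U) (by show σ (w' j) = 0; rw [hw'j, map_zero])
      (by show σ (w' i) = 1; rw [hw'i, map_one])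
    exact congrFun this l
  have hrat : ∀ l, ∃ a : k, algebraMap k Kb a = w' l := fun l =>
    (InfiniteGalois.mem_range_algebraMap_iff_fixed (w' l)).mpr (fun σ => hfix σ l)
  choose a ha using hrat
  have hw'a : w' = iota Kb a := by
    ext l
    exact (ha l).symm
  have hinj := (algebraMap k Kb).injective
  refine ⟨a, ?_, ?_, ?_⟩
  · intro h0
    have := ha i
    rw [h0, Pi.zero_apply, map_zero, hw'i] at this
    exact zero_ne_one this
  · have hG := good_of_homogeneous (map (algebraMap k Kb) F) (hF.map _)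
    have h := tri_Pol hG
    have hs : ∀ l, Pol (map (algebraMap k Kb) F) w' w' (Pi.single l 1) = 0 := by
      intro l
      have := (hU w').mp hw'U l
      rw [hG.deriv] at this
      exact (mul_eq_zero.mp this).resolve_left (by norm_num)
    have h0 : eval w' (map (algebraMap k Kb) F) = 0 := by
      rw [← hG.diag, h.coord w' w' w', hs 0, hs 1, hs 2, hs 3]; ring
    rw [hw'a, eval_iota] at h0
    exact hinj (h0.trans (map_zero _).symm)
  · intro l
    have := (hU w').mp hw'U l
    rw [hw'a, pderiv_map, eval_iota] at this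
    exact hinj (this.trans (map_zero _).symm)

/-- a point over an extension which is not a T-point gives a Pfaffian representation -/
theorem pf_of_point {k : Type*} [Field k] [CharZero k] (K : Type*) [Field K] [IsAlgClosed K]
    [CharZero K] [Algebra k K] (E : Type*) [Field E] [Algebra k E] (φ : E →ₐ[k] K)
    (F : MvPolynomial (Fin 4) k) (hF : F.IsHomogeneous 3)
    (hirr : Irreducible (map (algebraMap k K) F))
    (hconeK : ¬ ∃ v : Fin 4 → K, v ≠ 0 ∧
      ∑ i : Fin 4, v i • pderiv i (map (algebraMap k K) F) = 0)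
    (b : Fin 4 → E) (hb0 : b ≠ 0) (hbF : eval b (map (algebraMap k E) F) = 0)
    (hnT : (∃ i, eval b (pderiv i (map (algebraMap k E) F)) ≠ 0) →
      ¬ TP (map (algebraMap k K) F) (fun i => φ (b i))) :
    ∃ M : Matrix (Fin 6) (Fin 6) (MvPolynomial (Fin 4) E), (∀ i j, (M i j).IsHomogeneous 1) ∧
      M.transpose = -M ∧ (∀ i, M i i = 0) ∧
      ∃ c : E, c ≠ 0 ∧ M.det = C c * (map (algebraMap k E) F) ^ 2 := by
  letI : Algebra E K := φ.toRingHom.toAlgebra
  haveI : IsScalarTower k E K := IsScalarTower.of_algebraMap_eq (fun x => (φ.commutes x).symm)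
  haveI : CharZero E := charZero_of_injective_algebraMap (algebraMap k E).injective
  obtain ⟨FE, hFE⟩ : ∃ FE : MvPolynomial (Fin 4) E, FE = map (algebraMap k E) F := ⟨_, rfl⟩
  rw [← hFE] at hbF hnT ⊢
  have hFEh : FE.IsHomogeneous 3 := by rw [hFE]; exact hF.map _
  have e : map (algebraMap E K) FE = map (algebraMap k K) F := by
    rw [hFE, map_map, ← IsScalarTower.algebraMap_eq]
  have hιb : iota K b = fun i => φ (b i) := rfl
  by_cases hsm : ∃ i, eval b (pderiv i FE) ≠ 0
  · obtain ⟨i1, hi1⟩ := hsm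
    obtain ⟨p, -, hp, hgp⟩ := five_smooth K FE hFEh b hb0 hbF i1 hi1
      (by rw [e, hιb]; exact hnT ⟨i1, hi1⟩)
    exact pf_of_five FE hFEh p hp hgp
  · push Not at hsm
    have hconeE : ¬ ∃ v : Fin 4 → E, v ≠ 0 ∧ ∑ i : Fin 4, v i • pderiv i FE = 0 := by
      rintro ⟨v, hv0, hv⟩
      apply hconeK
      refine ⟨iota K v, iota_ne_zero K hv0, ?_⟩
      have h1 := congrArg (map (algebraMap E K)) hv
      rw [map_sum, map_zero] at h1
      refine Eq.trans ?_ h1
      apply Finset.sum_congr rfl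
      intro i _
      rw [smul_eq_C_mul, smul_eq_C_mul, map_mul, map_C, ← pderiv_map, e]
      rfl
    obtain ⟨p, -, hp, hgp⟩ := five_sing K FE hFEh (by rw [e]; exact hirr) hconeE b hb0 hbF hsm
    exact pf_of_five FE hFEh p hp hgp

/-- either a rational singular point, or a rational line avoiding the T-points -/
theorem core (F : MvPolynomial (Fin 4) k) (hF : F.IsHomogeneous 3)
    (hirr : Irreducible (map (algebraMap k Kb) F))
    (hcone : ¬ ∃ v : Fin 4 → k, v ≠ 0 ∧ ∑ i : Fin 4, v i • pderiv i F = 0) :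
    (∃ a : Fin 4 → k, a ≠ 0 ∧ eval a F = 0 ∧ ∀ i, eval a (pderiv i F) = 0) ∨
    (∃ u v : Fin 4 → k, eval u F ≠ 0 ∧ ∀ s : Kb,
      eval (s • iota Kb u + iota Kb v) (map (algebraMap k Kb) F) = 0 →
        (s • iota Kb u + iota Kb v ≠ 0 ∧
          ((∃ i, eval (s • iota Kb u + iota Kb v) (pderiv i (map (algebraMap k Kb) F)) ≠ 0) →
            ¬ TP (map (algebraMap k Kb) F) (s • iota Kb u + iota Kb v)))) := by
  have hconeK := cone_descent Kb F hcone
  have hFK : (map (algebraMap k Kb) F).IsHomogeneous 3 := hF.map _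
  rcases tlocus (map (algebraMap k Kb) F) hFK hirr hconeK with ⟨G, hFG, hG⟩ | ⟨U, hU2, hU⟩
  · right
    have hNZ : NZ (fun y : V4 Kb => eval y (map (algebraMap k Kb) F)) := by
      refine ⟨⟨_, fun _ => rfl⟩, ?_⟩
      by_contra hcon
      push Not at hcon
      apply hirr.ne_zero
      apply MvPolynomial.funext
      intro y
      rw [hcon y, map_zero]
    obtain ⟨u, hu⟩ := NZ.exists_rat (k := k) Kb hNZ
    have hu2 : eval (iota Kb u) (map (algebraMap k Kb) F) ≠ 0 := hu
    have hu' : eval u F ≠ 0 := by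
      intro h0
      apply hu2
      rw [eval_iota, h0, map_zero]
    have hFG' : ¬ map (algebraMap k Kb) F ∣ G * X 0 := by
      intro hdvd
      rcases hirr.prime.dvd_or_dvd hdvd with h1 | h1
      · exact hFG h1
      · obtain ⟨Q, hQ⟩ := h1
        have hQ0 : Q ≠ 0 := by
          rintro rfl
          rw [mul_zero] at hQ
          exact X_ne_zero 0 hQ
        have d1 : (X 0 : MvPolynomial (Fin 4) Kb).totalDegree = 1 := totalDegree_X 0
        have d3 := hFK.totalDegree hirr.ne_zero
        have dm := totalDegree_mul_of_isDomain hirr.ne_zero hQ0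
        rw [← hQ, d1, d3] at dm
        omega
    obtain ⟨v, hv⟩ := exists_avoid (map (algebraMap k Kb) F) (G * X 0) hFK hirr hFG' u hu2
    refine ⟨u, v, hu', fun s hbF => ?_⟩
    have hne := hv s hbF
    constructor
    · intro h0
      apply hne
      rw [h0, map_mul, eval_X]
      simp
    · intro hsm hTP
      apply hne
      rw [map_mul, hG _ hbF hsm hTP, zero_mul]
  · left
    exact exists_rat_sing F hF U hU2 hU

/-- the conclusion from a root of the restriction to the line -/
theorem finalA (F : MvPolynomial (Fin 4) k) (hF : F.IsHomogeneous 3)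
    (hirr : Irreducible (map (algebraMap k Kb) F))
    (hcone : ¬ ∃ v : Fin 4 → k, v ≠ 0 ∧ ∑ i : Fin 4, v i • pderiv i F = 0)
    (u v : Fin 4 → k)
    (hcore : ∀ s : Kb,
      eval (s • iota Kb u + iota Kb v) (map (algebraMap k Kb) F) = 0 →
        (s • iota Kb u + iota Kb v ≠ 0 ∧
          ((∃ i, eval (s • iota Kb u + iota Kb v) (pderiv i (map (algebraMap k Kb) F)) ≠ 0) →
            ¬ TP (map (algebraMap k Kb) F) (s • iota Kb u + iota Kb v))))
    (E : Type*) [Field E] [Algebra k E] (φ : E →ₐ[k] Kb) (r : E)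
    (hr : Polynomial.eval₂ (algebraMap k E) r (gpoly u v F) = 0) :
    ∃ M : Matrix (Fin 6) (Fin 6) (MvPolynomial (Fin 4) E), (∀ i j, (M i j).IsHomogeneous 1) ∧
      M.transpose = -M ∧ (∀ i, M i i = 0) ∧
      ∃ c : E, c ≠ 0 ∧ M.det = C c * (map (algebraMap k E) F) ^ 2 := by
  have hconeK := cone_descent Kb F hcone
  obtain ⟨b, hbdef⟩ : ∃ b : Fin 4 → E,
      b = fun i => r * algebraMap k E (u i) + algebraMap k E (v i) := ⟨_, rfl⟩
  have hφb : (fun i => φ (b i)) = φ r • iota Kb u + iota Kb v := by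
    ext i
    rw [hbdef]
    simp [iota, φ.commutes]
  have hbF : eval b (map (algebraMap k E) F) = 0 := by
    rw [hbdef, ← eval₂_gpoly]; exact hr
  have hc : (φ : E →+* Kb).comp (algebraMap k E) = algebraMap k Kb := by
    ext x
    exact φ.commutes x
  have hmapφ : map (φ : E →+* Kb) (map (algebraMap k E) F) = map (algebraMap k Kb) F := by
    rw [map_map, hc]
  have hbFK : eval (φ r • iota Kb u + iota Kb v) (map (algebraMap k Kb) F) = 0 := by
    rw [← hφb, ← hmapφ]
    show eval (fun i => (φ : E →+* Kb) (b i)) _ = 0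
    rw [eval_hom, hbF, map_zero]
  obtain ⟨hb0K, hnTK⟩ := hcore (φ r) hbFK
  have hb0 : b ≠ 0 := by
    intro h0
    apply hb0K
    rw [← hφb, h0]
    ext i
    simp
  apply pf_of_point Kb E φ F hF hirr hconeK b hb0 hbF
  rintro ⟨i, hi⟩
  rw [hφb]
  apply hnTK
  refine ⟨i, ?_⟩
  rw [← hφb, ← hmapφ, pderiv_map]
  show eval (fun j => (φ : E →+* Kb) (b j)) _ ≠ 0
  rw [eval_hom]
  intro h0
  exact hi ((φ : E →+* Kb).injective (h0.trans (map_zero _).symm))

/-- the conclusion from a rational singular point -/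
theorem finalB (F : MvPolynomial (Fin 4) k) (hF : F.IsHomogeneous 3)
    (hirr : Irreducible (map (algebraMap k Kb) F))
    (hcone : ¬ ∃ v : Fin 4 → k, v ≠ 0 ∧ ∑ i : Fin 4, v i • pderiv i F = 0)
    (a : Fin 4 → k) (ha0 : a ≠ 0) (haF : eval a F = 0) (hasing : ∀ i, eval a (pderiv i F) = 0)
    (E : Type*) [Field E] [Algebra k E] (φ : E →ₐ[k] Kb) :
    ∃ M : Matrix (Fin 6) (Fin 6) (MvPolynomial (Fin 4) E), (∀ i j, (M i j).IsHomogeneous 1) ∧
      M.transpose = -M ∧ (∀ i, M i i = 0) ∧
      ∃ c : E, c ≠ 0 ∧ M.det = C c * (map (algebraMap k E) F) ^ 2 := by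
  have hconeK := cone_descent Kb F hcone
  obtain ⟨b, hbdef⟩ : ∃ b : Fin 4 → E, b = fun i => algebraMap k E (a i) := ⟨_, rfl⟩
  have hb0 : b ≠ 0 := by
    intro h0
    apply ha0
    ext i
    have := congrFun h0 i
    rw [hbdef] at this
    exact (map_eq_zero (algebraMap k E)).mp this
  have hbF : eval b (map (algebraMap k E) F) = 0 := by
    rw [hbdef, eval_hom, haF, map_zero]
  apply pf_of_point Kb E φ F hF hirr hconeK b hb0 hbF
  rintro ⟨i, hi⟩
  exfalso
  apply hi
  rw [hbdef, pderiv_map, eval_hom, hasing, map_zero]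

/-- the case of a root of the restriction to the line in some extension field `L` -/
theorem adjoin_case (F : MvPolynomial (Fin 4) k) (hF : F.IsHomogeneous 3)
    (hirr : Irreducible (map (algebraMap k Kb) F))
    (hcone : ¬ ∃ v : Fin 4 → k, v ≠ 0 ∧ ∑ i : Fin 4, v i • pderiv i F = 0)
    (u v : Fin 4 → k) (hu : eval u F ≠ 0)
    (hcore : ∀ s : Kb,
      eval (s • iota Kb u + iota Kb v) (map (algebraMap k Kb) F) = 0 →
        (s • iota Kb u + iota Kb v ≠ 0 ∧
          ((∃ i, eval (s • iota Kb u + iota Kb v) (pderiv i (map (algebraMap k Kb) F)) ≠ 0) →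
            ¬ TP (map (algebraMap k Kb) F) (s • iota Kb u + iota Kb v))))
    (L : Type*) [Field L] [Algebra k L] (x0 : L)
    (hx0 : Polynomial.eval₂ (algebraMap k L) x0 (gpoly u v F) = 0)
    (φ : ↥(IntermediateField.adjoin k ({x0} : Set L)) →ₐ[k] Kb) :
    FiniteDimensional k ↥(IntermediateField.adjoin k ({x0} : Set L)) ∧
    Module.finrank k ↥(IntermediateField.adjoin k ({x0} : Set L)) ≤ 3 ∧
    ∃ M : Matrix (Fin 6) (Fin 6)
        (MvPolynomial (Fin 4) ↥(IntermediateField.adjoin k ({x0} : Set L))),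
      (∀ i j, (M i j).IsHomogeneous 1) ∧ M.transpose = -M ∧ (∀ i, M i i = 0) ∧
      ∃ c : ↥(IntermediateField.adjoin k ({x0} : Set L)), c ≠ 0 ∧
        M.det = C c * (map (algebraMap k ↥(IntermediateField.adjoin k ({x0} : Set L))) F) ^ 2 := by
  have hdeg := gpoly_natDegree F hF u v hu
  have hg0 : gpoly u v F ≠ 0 := Polynomial.ne_zero_of_natDegree_gt (n := 0) (by omega)
  have halg : IsAlgebraic k x0 := ⟨gpoly u v F, hg0, by rw [Polynomial.aeval_def]; exact hx0⟩
  have hint : IsIntegral k x0 := halg.isIntegral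
  refine ⟨IntermediateField.adjoin.finiteDimensional hint, ?_, ?_⟩
  · rw [IntermediateField.adjoin.finrank hint]
    have hdvd : minpoly k x0 ∣ gpoly u v F :=
      minpoly.dvd k x0 (by rw [Polynomial.aeval_def]; exact hx0)
    have := Polynomial.natDegree_le_of_dvd hdvd hg0
    omega
  · obtain ⟨r, hrdef⟩ : ∃ r : ↥(IntermediateField.adjoin k ({x0} : Set L)),
        r = ⟨x0, IntermediateField.mem_adjoin_simple_self k x0⟩ := ⟨_, rfl⟩
    have hr : Polynomial.eval₂ (algebraMap k ↥(IntermediateField.adjoin k ({x0} : Set L))) r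
        (gpoly u v F) = 0 := by
      apply (algebraMap ↥(IntermediateField.adjoin k ({x0} : Set L)) L).injective
      rw [Polynomial.hom_eval₂, map_zero, ← IsScalarTower.algebraMap_eq k _ L, hrdef]
      exact hx0
    exact finalA F hF hirr hcone u v hcore _ φ r hr

end Main

/-- **S16350** -/
theorem main16350 (k : Type u) [Field k] [CharZero k]
    (F : MvPolynomial (Fin 4) k) (hF : F.IsHomogeneous 3)
    (hirr : Irreducible (MvPolynomial.map (algebraMap k (AlgebraicClosure k)) F))
    (hcone : ¬ ∃ v : Fin 4 → k, v ≠ 0 ∧ ∑ i : Fin 4, v i • MvPolynomial.pderiv i F = 0) :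
    ∃ E : IntermediateField k (AlgebraicClosure k), FiniteDimensional k ↥E ∧
      Module.finrank k ↥E ≤ 3 ∧
      ∃ M : Matrix (Fin 6) (Fin 6) (MvPolynomial (Fin 4) ↥E), (∀ i j, (M i j).IsHomogeneous 1) ∧
        M.transpose = -M ∧ (∀ i, M i i = 0) ∧
        ∃ c : ↥E, c ≠ 0 ∧
          M.det = MvPolynomial.C c * (MvPolynomial.map (algebraMap k ↥E) F) ^ 2 := by
  rcases core F hF hirr hcone with ⟨a, ha0, haF, hasing⟩ | ⟨u, v, hu, hcore⟩
  · refine ⟨⊥, ?_, ?_, finalB F hF hirr hcone a ha0 haF hasing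
      ↥(⊥ : IntermediateField k (AlgebraicClosure k))
      (⊥ : IntermediateField k (AlgebraicClosure k)).val⟩
    · exact Module.finite_of_finrank_pos (by rw [IntermediateField.finrank_bot]; norm_num)
    · rw [IntermediateField.finrank_bot]; norm_num
  · have hdeg := gpoly_natDegree F hF u v hu
    have hdegK : (Polynomial.map (algebraMap k (AlgebraicClosure k)) (gpoly u v F)).natDegree
        = 3 := by
      rw [Polynomial.natDegree_map_eq_of_injective (algebraMap k (AlgebraicClosure k)).injective]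
      exact hdeg
    obtain ⟨s0, hs0⟩ := IsAlgClosed.exists_root
      (Polynomial.map (algebraMap k (AlgebraicClosure k)) (gpoly u v F))
      (by
        intro h0
        rw [Polynomial.degree_eq_natDegree
          (Polynomial.ne_zero_of_natDegree_gt (n := 0) (by omega)), hdegK] at h0
        norm_num at h0)
    have hx0 : Polynomial.eval₂ (algebraMap k (AlgebraicClosure k)) s0 (gpoly u v F) = 0 := by
      rw [← Polynomial.eval_map]; exact hs0
    obtain ⟨h1, h2, h3⟩ := adjoin_case F hF hirr hcone u v hu hcore (AlgebraicClosure k) s0 hx0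
      (IntermediateField.adjoin k ({s0} : Set (AlgebraicClosure k))).val
    exact ⟨IntermediateField.adjoin k ({s0} : Set (AlgebraicClosure k)), h1, h2, h3⟩

/-- **S16354** -/
theorem main16354 (k : Type u) [Field k] [Algebra k ℝ]
    (F : MvPolynomial (Fin 4) k) (hF : F.IsHomogeneous 3)
    (hirr : Irreducible (MvPolynomial.map (algebraMap k (AlgebraicClosure k)) F))
    (hcone : ¬ ∃ v : Fin 4 → k, v ≠ 0 ∧ ∑ i : Fin 4, v i • MvPolynomial.pderiv i F = 0) :
    ∃ E : IntermediateField k ℝ, FiniteDimensional k ↥E ∧ Module.finrank k ↥E ≤ 3 ∧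
      ∃ M : Matrix (Fin 6) (Fin 6) (MvPolynomial (Fin 4) ↥E), (∀ i j, (M i j).IsHomogeneous 1) ∧
        M.transpose = -M ∧ (∀ i, M i i = 0) ∧
        ∃ c : ↥E, c ≠ 0 ∧
          M.det = MvPolynomial.C c * (MvPolynomial.map (algebraMap k ↥E) F) ^ 2 := by
  haveI : CharZero k := (RingHom.charZero_iff (algebraMap k ℝ).injective).mpr inferInstance
  rcases core F hF hirr hcone with ⟨a, ha0, haF, hasing⟩ | ⟨u, v, hu, hcore⟩
  · have hfin : FiniteDimensional k ↥(⊥ : IntermediateField k ℝ) :=
      Module.finite_of_finrank_pos (by rw [IntermediateField.finrank_bot]; norm_num)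
    haveI : Algebra.IsAlgebraic k ↥(⊥ : IntermediateField k ℝ) := Algebra.IsAlgebraic.of_finite k _
    refine ⟨⊥, hfin, ?_, finalB F hF hirr hcone a ha0 haF hasing
      ↥(⊥ : IntermediateField k ℝ) IsAlgClosed.lift⟩
    rw [IntermediateField.finrank_bot]; norm_num
  · have hdeg := gpoly_natDegree F hF u v hu
    have hdegR : (Polynomial.map (algebraMap k ℝ) (gpoly u v F)).natDegree = 3 := by
      rw [Polynomial.natDegree_map_eq_of_injective (algebraMap k ℝ).injective]
      exact hdeg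
    obtain ⟨r0, hr0⟩ := real_cubic_root _ hdegR
    have hx0 : Polynomial.eval₂ (algebraMap k ℝ) r0 (gpoly u v F) = 0 := by
      rw [← Polynomial.eval_map]; exact hr0
    have hg0 : gpoly u v F ≠ 0 := Polynomial.ne_zero_of_natDegree_gt (n := 0) (by omega)
    have halg : IsAlgebraic k r0 := ⟨gpoly u v F, hg0, by rw [Polynomial.aeval_def]; exact hx0⟩
    have hint : IsIntegral k r0 := halg.isIntegral
    haveI : Algebra.IsAlgebraic k ↥(IntermediateField.adjoin k ({r0} : Set ℝ)) :=
      IntermediateField.isAlgebraic_adjoin_simple hint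
    obtain ⟨h1, h2, h3⟩ := adjoin_case F hF hirr hcone u v hu hcore ℝ r0 hx0 IsAlgClosed.lift
    exact ⟨IntermediateField.adjoin k ({r0} : Set ℝ), h1, h2, h3⟩

end Groth.Agent.Lib.CubicAvH1
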