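import Mathlib
import Groth.Agent.Lib.CubicSurf1_helper1

set_option autoImplicit false
set_option maxHeartbeats 1000000

namespace Groth.Agent.Lib.CubicSurfH1

open MvPolynomial

variable {F : V4 → V4 → V4 → ℂ}

/-! ### a smooth cubic surface contains no plane -/

lemma hyp_false (h : Tri F) (hS : SmoothT F) (ψ : V4 →ₗ[ℂ] ℂ) (hψ : ψ ≠ 0)
    (hz : ∀ x, ψ x = 0 → F x x x = 0) : False := by
  have hF : ∀ x y z, ψ x = 0 → ψ y = 0 → ψ z = 0 → F x y z = 0 := by
    intro x y z hx hy hz'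
    exact h.eq_zero_of_submodule (LinearMap.ker ψ) (fun s hs => hz s (LinearMap.mem_ker.mp hs))
      (LinearMap.mem_ker.mpr hx) (LinearMap.mem_ker.mpr hy) (LinearMap.mem_ker.mpr hz')
  obtain ⟨y0, hy0⟩ := exists_eq_one ψ hψ
  have hfr := finrank_ker ψ hψ
  obtain ⟨s1, hs1, hs10⟩ := exists_ne_zero (LinearMap.ker ψ) (by omega)
  obtain ⟨s2, hs2, hind⟩ := exists_indep (LinearMap.ker ψ) (by omega) hs1 hs10
  rw [LinearMap.mem_ker] at hs1 hs2
  obtain ⟨s0, hs0ψ, hs0ne, hs0q⟩ : ∃ s0, ψ s0 = 0 ∧ s0 ≠ 0 ∧ F y0 s0 s0 = 0 := by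
    by_cases hq : F y0 s1 s1 = 0
    · exact ⟨s1, hs1, hs10, hq⟩
    · obtain ⟨a, ha⟩ := exists_quad_root (F y0 s1 s1) (2 * F y0 s1 s2) (F y0 s2 s2) hq
      refine ⟨a • s1 + (1:ℂ) • s2, ?_, ?_, ?_⟩
      · rw [map_add, map_smul, map_smul, hs1, hs2]; simp
      · intro h0
        exact one_ne_zero (hind a 1 h0).2
      · rw [h.bil2]; linear_combination ha
  obtain ⟨y, hy⟩ := hS s0 hs0ne (hz s0 hs0ψ)
  apply hy
  have h1 : F s0 s0 y = F s0 s0 (y - ψ y • y0) + ψ y * F s0 s0 y0 := by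
    rw [← h.smul₃, ← h.add₃, sub_add_cancel]
  rw [h1, h.symm13 s0 s0 y0, hs0q, mul_zero, add_zero]
  apply hF _ _ _ hs0ψ hs0ψ
  rw [map_sub, map_smul, hy0]; simp

/-! ### structure of homologies -/

lemma inv_struct (A : Matrix (Fin 4) (Fin 4) ℂ) (p : V4) (hp : p ≠ 0)
    (hfr : Module.finrank ℂ ↥(LinearMap.ker (Matrix.toLin' A - LinearMap.id)) = 3)
    (hAp : A.mulVec p = -p) :
    ∃ m : V4 →ₗ[ℂ] ℂ, m p = 2 ∧ ∀ x, A.mulVec x = x - m x • p := by
  obtain ⟨ψ, hψ, hker⟩ := hyp_eq_ker _ hfr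
  have hfix : ∀ x, ψ x = 0 → A.mulVec x = x := by
    intro x hx
    have h1 : x ∈ LinearMap.ker (Matrix.toLin' A - LinearMap.id) := by
      rw [hker]; exact LinearMap.mem_ker.mpr hx
    rw [LinearMap.mem_ker, LinearMap.sub_apply, Matrix.toLin'_apply, LinearMap.id_apply,
      sub_eq_zero] at h1
    exact h1
  have hψp : ψ p ≠ 0 := by
    intro h0
    have h1 := hfix p h0
    rw [hAp] at h1
    apply hp
    ext i
    have h2 := congrFun h1 i
    simp only [Pi.neg_apply] at h2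
    simp only [Pi.zero_apply]
    linear_combination (-1/2 : ℂ) * h2
  refine ⟨(2 / ψ p) • ψ, ?_, ?_⟩
  · rw [LinearMap.smul_apply, smul_eq_mul]; field_simp
  · intro x
    have hc : ψ (x - (ψ x / ψ p) • p) = 0 := by
      rw [map_sub, map_smul, smul_eq_mul]; field_simp; ring
    have h1 := hfix _ hc
    rw [Matrix.mulVec_sub, Matrix.mulVec_smul, hAp] at h1
    rw [LinearMap.smul_apply, smul_eq_mul]
    ext i
    have h2 := congrFun h1 i
    simp only [Pi.sub_apply, Pi.smul_apply, Pi.neg_apply, smul_eq_mul] at h2 ⊢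
    linear_combination h2

/-! ### reflections -/

/-- `x ↦ x - m x • p` -/
noncomputable def reflMap (p : V4) (m : V4 →ₗ[ℂ] ℂ) : V4 →ₗ[ℂ] V4 :=
  LinearMap.id - m.smulRight p

@[simp] lemma reflMap_apply (p : V4) (m : V4 →ₗ[ℂ] ℂ) (x : V4) :
    reflMap p m x = x - m x • p := by
  simp [reflMap]

lemma reflMap_invol {p : V4} {m : V4 →ₗ[ℂ] ℂ} (hm : m p = 2) (x : V4) :
    reflMap p m (reflMap p m x) = x := by
  simp only [reflMap_apply, map_sub, map_smul, hm, smul_eq_mul]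
  vec_ring

/-- the data of the harmonic homology attached to a point `p` of the cubic: `F p x x` factors as
`F p p x * m x` with `m p = 2` -/
structure Refl (F : V4 → V4 → V4 → ℂ) (p : V4) (m : V4 →ₗ[ℂ] ℂ) : Prop where
  two : m p = 2
  zero : F p p p = 0
  quad : ∀ x, F p x x = F p p x * m x

namespace Refl

variable {p : V4} {m : V4 →ₗ[ℂ] ℂ}

lemma polar (h : Tri F) (hR : Refl F p m) (x y : V4) :
    2 * F p x y = F p p x * m y + F p p y * m x := by
  have h1 := hR.quad (x + y)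
  have h2 := h.bil2 1 1 p x y
  rw [one_smul, one_smul] at h2
  rw [h2, h.add₃, map_add, hR.quad x, hR.quad y] at h1
  linear_combination h1

lemma inv (h : Tri F) (hR : Refl F p m) (x : V4) :
    F (reflMap p m x) (reflMap p m x) (reflMap p m x) = F x x x := by
  have h1 := h.cube2 1 (-(m x)) x p
  rw [one_smul, neg_smul, ← sub_eq_add_neg] at h1
  rw [reflMap_apply, h1, h.symm13 x x p, h.symm13 x p p, hR.quad x, hR.zero]
  ring

lemma inv3 (h : Tri F) (hR : Refl F p m) (x y z : V4) :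
    F (reflMap p m x) (reflMap p m y) (reflMap p m z) = F x y z := by
  have := inv_tri h (reflMap p m) 1 (fun x => by rw [hR.inv h, one_mul]) x y z
  rwa [one_mul] at this

lemma transfer (h : Tri F) {e e' : V4} {m m' : V4 →ₗ[ℂ] ℂ} (hR : Refl F e m)
    (hR' : Refl F e' m') : Refl F (reflMap e' m' e) (m.comp (reflMap e' m')) where
  two := by rw [LinearMap.comp_apply, reflMap_invol hR'.two, hR.two]
  zero := by rw [hR'.inv h, hR.zero]
  quad x := by
    obtain ⟨y, rfl⟩ : ∃ y, x = reflMap e' m' y :=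
      ⟨reflMap e' m' x, (reflMap_invol hR'.two x).symm⟩
    rw [LinearMap.comp_apply, reflMap_invol hR'.two, hR'.inv3 h, hR'.inv3 h, hR.quad y]

lemma scale (h : Tri F) {q : V4} {t : ℂ} (ht : t ≠ 0) (hR : Refl F (t • q) m) :
    Refl F q (t • m) where
  two := by
    have := hR.two
    rw [map_smul] at this
    rw [LinearMap.smul_apply]; exact this
  zero := by
    have h0 := hR.zero
    rw [h.smul₁, h.smul₂, h.smul₃] at h0
    rcases mul_eq_zero.mp h0 with h1 | h1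
    · exact absurd h1 ht
    rcases mul_eq_zero.mp h1 with h2 | h2
    · exact absurd h2 ht
    rcases mul_eq_zero.mp h2 with h3 | h3
    · exact absurd h3 ht
    · exact h3
  quad x := by
    have h0 := hR.quad x
    rw [h.smul₁, h.smul₁, h.smul₂] at h0
    rw [LinearMap.smul_apply, smul_eq_mul]
    apply mul_left_cancel₀ ht
    linear_combination h0

lemma unique (h : Tri F) (hS : SmoothT F) {m' : V4 →ₗ[ℂ] ℂ} (hp : p ≠ 0) (hR : Refl F p m)
    (hR' : Refl F p m') : m = m' := by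
  obtain ⟨y, hy⟩ := hS p hp hR.zero
  have hprod : ∀ x, F p p x * (m x - m' x) = 0 := by
    intro x
    have h1 := hR.quad x
    have h2 := hR'.quad x
    linear_combination h2 - h1
  apply LinearMap.ext
  intro x
  have hy0 : m y - m' y = 0 := (mul_eq_zero.mp (hprod y)).resolve_left hy
  have h1 := hprod (y + x)
  have h2 := hprod (y - x)
  rw [h.add₃, map_add, map_add] at h1
  rw [h.sub₃, map_sub, map_sub] at h2
  have h3 : F p p y * (m x - m' x) = 0 := by
    linear_combination (1/2:ℂ) * h1 - (1/2:ℂ) * h2 - F p p x * hy0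
  exact sub_eq_zero.mp ((mul_eq_zero.mp h3).resolve_left hy)

lemma two_pt (h : Tri F) {e e' : V4} {m m' : V4 →ₗ[ℂ] ℂ} (hR : Refl F e m)
    (hR' : Refl F e' m') :
    F e' e' e = F e e e' * m e' ∧ F e e e' = F e' e' e * m' e := by
  constructor
  · have := hR.quad e'
    rwa [h.symm13 e e' e'] at this
  · have := hR'.quad e
    rwa [h.symm13 e' e e] at this

lemma cubeL (h : Tri F) {e e' : V4} {m m' : V4 →ₗ[ℂ] ℂ} (hR : Refl F e m)
    (hR' : Refl F e' m') (s t : ℂ) :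
    F (s • e + t • e') (s • e + t • e') (s • e + t • e')
      = 3 * s ^ 2 * t * F e e e' + 3 * s * t ^ 2 * F e' e' e := by
  rw [h.cube2, hR.zero, hR'.zero, h.symm13 e e' e']; ring

end Refl

/-! ### from an invariant homology to the reflection data -/

lemma inv_refl_T (h : Tri F) (hS : SmoothT F) (A : Matrix (Fin 4) (Fin 4) ℂ) (p : V4)
    (hp : p ≠ 0) (hpp : F p p p = 0)
    (hfr : Module.finrank ℂ ↥(LinearMap.ker (Matrix.toLin' A - LinearMap.id)) = 3)
    (hAp : A.mulVec p = -p)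
    (hinv : ∃ c : ℂ, ∀ x, F (A.mulVec x) (A.mulVec x) (A.mulVec x) = c * F x x x) :
    ∃ m : V4 →ₗ[ℂ] ℂ, Refl F p m ∧ ∀ x, A.mulVec x = x - m x • p := by
  obtain ⟨m, hmp, hA⟩ := inv_struct A p hp hfr hAp
  obtain ⟨c, hc⟩ := hinv
  have hm0 : m ≠ 0 := by
    rintro rfl
    norm_num at hmp
  have hfix : ∀ x, m x = 0 → A.mulVec x = x := by
    intro x hx; rw [hA, hx, zero_smul, sub_zero]
  have hc1 : c = 1 := by
    by_contra hne
    apply hyp_false h hS m hm0
    intro x hx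
    have h1 := hc x
    rw [hfix x hx] at h1
    have h2 : (1 - c) * F x x x = 0 := by linear_combination h1
    rcases mul_eq_zero.mp h2 with h3 | h3
    · exact absurd (by linear_combination -h3 : c = 1) hne
    · exact h3
  subst hc1
  have htri : ∀ x y z, F (A.mulVec x) (A.mulVec y) (A.mulVec z) = F x y z := by
    intro x y z
    have := inv_tri h (Matrix.toLin' A) 1
      (fun x => by simpa only [Matrix.toLin'_apply] using hc x) x y z
    simpa only [Matrix.toLin'_apply, one_mul] using this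
  have hB : ∀ x y, m x = 0 → m y = 0 → F p x y = 0 := by
    intro x y hx hy
    have h1 := htri p x y
    rw [hAp, hfix x hx, hfix y hy, h.neg₁] at h1
    linear_combination (-1/2 : ℂ) * h1
  refine ⟨m, ⟨hmp, hpp, fun x => ?_⟩, hA⟩
  obtain ⟨a, ha⟩ : ∃ a : ℂ, m x = 2 * a := ⟨m x / 2, by ring⟩
  obtain ⟨y, hy⟩ : ∃ y, x = y + a • p := ⟨x - a • p, by rw [sub_add_cancel]⟩
  have hmy : m y = 0 := by
    have h1 : m x = m y + a * m p := by rw [hy, map_add, map_smul, smul_eq_mul]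
    rw [hmp, ha] at h1
    linear_combination (-1:ℂ) * h1
  subst hy
  rw [ha]
  simp only [h.add₂, h.add₃, h.smul₂, h.smul₃]
  rw [h.symm23 p y p, hB y y hmy hmy, hpp]
  ring

/-! ### Eckardt points -/

/-- Eckardt point in terms of the trilinear form -/
def EckT (F : V4 → V4 → V4 → ℂ) (e : V4) : Prop :=
  ∃ U : Fin 3 → Submodule ℂ (Fin 4 → ℂ), Function.Injective U ∧
    ∀ i : Fin 3, Module.finrank ℂ ↥(U i) = 2 ∧ e ∈ U i ∧ ∀ u ∈ U i, F u u u = 0

lemma eck_refl (h : Tri F) (hS : SmoothT F) {e : V4} (he : e ≠ 0) (hE : EckT F e) :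
    ∃ m : V4 →ₗ[ℂ] ℂ, Refl F e m := by
  obtain ⟨U, hinj, hU⟩ := hE
  have hee : F e e e = 0 := (hU 0).2.2 e (hU 0).2.1
  have hUF : ∀ i, ∀ x ∈ U i, ∀ y ∈ U i, ∀ z ∈ U i, F x y z = 0 :=
    fun i x hx y hy z hz => h.eq_zero_of_submodule (U i) (hU i).2.2 hx hy hz
  obtain ⟨y1, hy1⟩ := hS e he hee
  have hτ : h.lin e e ≠ 0 := fun h0 => hy1 (by
    have := LinearMap.congr_fun h0 y1
    simpa using this)
  obtain ⟨y0, hy0⟩ := exists_eq_one (h.lin e e) hτ
  rw [Tri.lin_apply] at hy0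
  obtain ⟨m0, hm0⟩ : ∃ m0 : V4 →ₗ[ℂ] ℂ, ∀ x, m0 x = 2 * F e y0 x - F e y0 y0 * F e e x :=
    ⟨(2:ℂ) • h.lin e y0 - (F e y0 y0) • h.lin e e, fun x => by simp⟩
  have hm0e : m0 e = 2 := by
    rw [hm0, h.symm23 e y0 e, hy0, hee]; ring
  have hm0e' : m0 e ≠ 0 := by rw [hm0e]; norm_num
  have hτe : h.lin e e e = 0 := hee
  have hk : ∀ i, ∃ k, k ∈ U i ∧ h.lin e e k = 0 ∧ m0 k = 0 ∧ Ind2 e k := by
    intro i
    obtain ⟨u, hu, hind, -⟩ := line_struct (U i) (hU i).1 (hU i).2.1 he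
    refine ⟨u - (m0 u / 2) • e, (U i).sub_mem hu ((U i).smul_mem _ (hU i).2.1), ?_, ?_, ?_⟩
    · rw [Tri.lin_apply, h.sub₃, h.smul₃, hee, hUF i e (hU i).2.1 e (hU i).2.1 u hu]; ring
    · rw [map_sub, map_smul, hm0e, smul_eq_mul]; ring
    · intro s t hst
      have e1 : (s - t * (m0 u / 2)) • e + t • u = s • e + t • (u - (m0 u / 2) • e) := by
        vec_ring
      obtain ⟨h1, h2⟩ := hind _ _ (e1.trans hst)
      subst h2
      rw [zero_mul, sub_zero] at h1
      exact ⟨h1, rfl⟩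
  choose k hk using hk
  have hne : ∀ i j, k i ∈ U j → i = j := by
    intro i j hmem
    apply hinj
    exact line_eq (U i) (U j) (hU i).1 (hU j).1 (hU i).2.1 (hk i).1 (hU j).2.1 hmem (hk i).2.2.2
  have hk0 : ∀ i, k i ≠ 0 := fun i => (hk i).2.2.2.right_ne
  have hind01 : Ind2 (k 0) (k 1) := by
    intro s t hst
    by_cases ht : t = 0
    · subst ht
      rw [zero_smul, add_zero] at hst
      exact ⟨(smul_eq_zero.mp hst).resolve_right (hk0 0), rfl⟩
    · have := hne 1 0 (smul_mem_of_rel (U 0) ht (hk 0).1 hst)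
      exact absurd this (by decide)
  obtain ⟨b, c, hbc⟩ := K_span (h.lin e e) m0 e hτ hτe hm0e' (hk 0).2.1 (hk 0).2.2.1 (hk 1).2.1
    (hk 1).2.2.1 hind01 (k 2) (hk 2).2.1 (hk 2).2.2.1
  have hb : b ≠ 0 := by
    rintro rfl
    rw [zero_smul, zero_add] at hbc
    have : k 2 ∈ U 1 := by rw [hbc]; exact (U 1).smul_mem _ (hk 1).1
    exact absurd (hne 2 1 this) (by decide)
  have hc : c ≠ 0 := by
    rintro rfl
    rw [zero_smul, add_zero] at hbc
    have : k 2 ∈ U 0 := by rw [hbc]; exact (U 0).smul_mem _ (hk 0).1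
    exact absurd (hne 2 0 this) (by decide)
  have hq : ∀ i, F e (k i) (k i) = 0 :=
    fun i => hUF i e (hU i).2.1 (k i) (hk i).1 (k i) (hk i).1
  have hτk : ∀ i, F e e (k i) = 0 := fun i => (hk i).2.1
  have h01 : F e (k 0) (k 1) = 0 := by
    have h1 := hq 2
    rw [hbc, h.bil2, hq 0, hq 1] at h1
    have h2 : b * c * F e (k 0) (k 1) = 0 := by linear_combination (1/2:ℂ) * h1
    rcases mul_eq_zero.mp h2 with h3 | h3
    · rcases mul_eq_zero.mp h3 with h4 | h4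
      · exact absurd h4 hb
      · exact absurd h4 hc
    · exact h3
  have hT : ∀ t, F e e t = 0 → F e t t = 0 := by
    intro t ht
    obtain ⟨α, hα⟩ : ∃ α : ℂ, α = m0 t / 2 := ⟨_, rfl⟩
    have h1 : h.lin e e (t - α • e) = 0 := by
      rw [Tri.lin_apply, h.sub₃, h.smul₃, hee, ht]; ring
    have h2 : m0 (t - α • e) = 0 := by
      rw [map_sub, map_smul, hm0e, smul_eq_mul, hα]; ring
    obtain ⟨β, γ, hβγ⟩ := K_span (h.lin e e) m0 e hτ hτe hm0e' (hk 0).2.1 (hk 0).2.2.1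
      (hk 1).2.1 (hk 1).2.2.1 hind01 _ h1 h2
    have h3 : t = α • e + β • k 0 + γ • k 1 := by
      rw [add_assoc, ← hβγ]; abel
    rw [h3, h.sq3, hee, hq 0, hq 1, hτk 0, hτk 1, h01]
    ring
  refine ⟨m0, ⟨hm0e, hee, fun x => ?_⟩⟩
  have ht : F e e (x - F e e x • y0) = 0 := by rw [h.sub₃, h.smul₃, hy0]; ring
  have hq' := hT _ ht
  have hx : x = (1:ℂ) • (x - F e e x • y0) + F e e x • y0 := by rw [one_smul, sub_add_cancel]
  have h1 : F e x x = F e ((1:ℂ) • (x - F e e x • y0) + F e e x • y0)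
      ((1:ℂ) • (x - F e e x • y0) + F e e x • y0) := by rw [← hx]
  rw [h1, h.bil2, hq', h.sub₂, h.smul₂, hm0, h.symm23 e x y0]
  ring

lemma refl_eck (h : Tri F) (hS : SmoothT F) {p : V4} {m : V4 →ₗ[ℂ] ℂ} (hp : p ≠ 0)
    (hR : Refl F p m) : EckT F p := by
  have hmp := hR.two
  have hpp := hR.zero
  have hq := hR.quad
  have hB := hR.polar h
  obtain ⟨y1, hy1⟩ := hS p hp hpp
  have hτ : h.lin p p ≠ 0 := fun h0 => hy1 (by
    have := LinearMap.congr_fun h0 y1
    simpa using this)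
  have hτp : h.lin p p p = 0 := hpp
  have hmp0 : m p ≠ 0 := by rw [hmp]; norm_num
  obtain ⟨y0, hy0⟩ := exists_eq_one (h.lin p p) hτ
  rw [Tri.lin_apply] at hy0
  obtain ⟨h0, hh0m, hh0τ⟩ : ∃ h0, m h0 = 0 ∧ F p p h0 = 1 := by
    refine ⟨y0 - (m y0 / 2) • p, ?_, ?_⟩
    · rw [map_sub, map_smul, hmp, smul_eq_mul]; ring
    · rw [h.sub₃, h.smul₃, hpp, hy0]; ring
  obtain ⟨a1, a2, h1τ, h1m, h2τ, h2m, hind12⟩ := K_exists (h.lin p p) m p hτ hτp hmp0
  rw [Tri.lin_apply] at h1τ h2τ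
  obtain ⟨k1, w, hk1τ, hk1m, hwτ, hwm, hind, hk1φ⟩ : ∃ k1 w, F p p k1 = 0 ∧ m k1 = 0 ∧
      F p p w = 0 ∧ m w = 0 ∧ Ind2 k1 w ∧ F k1 k1 k1 = 0 := by
    by_cases h1 : F a1 a1 a1 = 0
    · exact ⟨a1, a2, h1τ, h1m, h2τ, h2m, hind12, h1⟩
    · obtain ⟨t, ht⟩ := exists_cubic_root (F a1 a1 a1) (3 * F a1 a1 a2) (3 * F a1 a2 a2)
        (F a2 a2 a2) h1
      refine ⟨t • a1 + (1:ℂ) • a2, a1, ?_, ?_, h1τ, h1m, ?_, ?_⟩
      · rw [h.add₃, h.smul₃, h.smul₃, h1τ, h2τ]; ring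
      · rw [map_add, map_smul, map_smul, h1m, h2m]; simp
      · intro s r hsr
        have e1 : (s * t + r) • a1 + s • a2 = s • (t • a1 + (1:ℂ) • a2) + r • a1 := by vec_ring
        obtain ⟨h3, h4⟩ := hind12 _ _ (e1.trans hsr)
        subst h4
        rw [zero_mul, zero_add] at h3
        exact ⟨rfl, h3⟩
      · rw [h.cube2]; linear_combination ht
  have hKsp : ∀ k', F p p k' = 0 → m k' = 0 → ∃ a b : ℂ, k' = a • k1 + b • w :=
    fun k' h1 h2 => K_span (h.lin p p) m p hτ hτp hmp0 hk1τ hk1m hwτ hwm hind k' h1 h2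
  have MR : ∀ k, F p p k = 0 → m k = 0 → k ≠ 0 → F k k k1 = 0 → F k k w = 0 → False := by
    intro k hkτ hkm hk0 hkk1 hkw
    have hK : ∀ k', F p p k' = 0 → m k' = 0 → F k k k' = 0 := by
      intro k' h1 h2
      obtain ⟨a, b, hab⟩ := hKsp k' h1 h2
      rw [hab, h.add₃, h.smul₃, h.smul₃, hkk1, hkw]; ring
    obtain ⟨s, hs⟩ := exists_sqrt (-(F k k h0))
    have hv0 : s • p + (1:ℂ) • k ≠ 0 := by
      intro hv
      have h1 := congrArg m hv
      rw [map_add, map_smul, map_smul, hmp, hkm, map_zero, smul_eq_mul, smul_eq_mul, mul_zero,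
        add_zero] at h1
      have hs0 : s = 0 := by
        rcases mul_eq_zero.mp h1 with h2 | h2
        · exact h2
        · norm_num at h2
      rw [hs0, zero_smul, zero_add, one_smul] at hv
      exact hk0 hv
    have hall : ∀ y, F (s • p + (1:ℂ) • k) (s • p + (1:ℂ) • k) y = 0 := by
      intro y
      have hpk : F y p k = 0 := by
        have := hB y k
        rw [hkm, hkτ] at this
        rw [h.symm12 y p k]
        linear_combination (1/2:ℂ) * this
      have hkp : F k k p = 0 := by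
        rw [h.symm13 k k p, hq k, hkτ]; ring
      have hk' : F k k (y - (m y / 2) • p - F p p y • h0) = 0 := by
        apply hK
        · rw [h.sub₃, h.sub₃, h.smul₃, h.smul₃, hpp, hh0τ]; ring
        · rw [map_sub, map_sub, map_smul, map_smul, hmp, hh0m, smul_eq_mul, smul_eq_mul]; ring
      have hky : F k k y = F p p y * F k k h0 := by
        rw [h.sub₃, h.sub₃, h.smul₃, h.smul₃, hkp] at hk'
        linear_combination hk'
      rw [h.symm13 _ _ y, h.bil2, h.symm13 y p p, hpk, h.symm13 y k k, hky]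
      linear_combination F p p y * hs
    obtain ⟨y, hy⟩ := hS _ hv0 (hall _)
    exact hy (hall y)
  have hk10 : k1 ≠ 0 := hind.left_ne
  have hβ : F k1 k1 w ≠ 0 := fun h0' => MR k1 hk1τ hk1m hk10 hk1φ h0'
  have hβ3 : 3 * F k1 k1 w ≠ 0 := mul_ne_zero (by norm_num) hβ
  obtain ⟨r2, hr2⟩ := exists_quad_root (3 * F k1 k1 w) (3 * F k1 w w) (F w w w) hβ3
  obtain ⟨r3, hr3⟩ : ∃ r3 : ℂ, 3 * F k1 k1 w * r3 = -(3 * F k1 w w) - 3 * F k1 k1 w * r2 :=
    ⟨(-(3 * F k1 w w) - 3 * F k1 k1 w * r2) / (3 * F k1 k1 w), by field_simp⟩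
  have hr3' : 3 * F k1 k1 w * r3 ^ 2 + 3 * F k1 w w * r3 + F w w w = 0 := by
    have h1 : (3 * F k1 k1 w) * (3 * F k1 k1 w * r3 ^ 2 + 3 * F k1 w w * r3 + F w w w) = 0 := by
      linear_combination (3 * F k1 k1 w) * hr2
        + (3 * F k1 k1 w * r3 - 3 * F k1 k1 w * r2) * hr3
    exact (mul_eq_zero.mp h1).resolve_left hβ3
  have hkk : ∀ r : ℂ, F p p (r • k1 + (1:ℂ) • w) = 0 ∧ m (r • k1 + (1:ℂ) • w) = 0 ∧
      r • k1 + (1:ℂ) • w ≠ 0 := by
    intro r
    refine ⟨?_, ?_, ?_⟩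
    · rw [h.add₃, h.smul₃, h.smul₃, hk1τ, hwτ]; ring
    · rw [map_add, map_smul, map_smul, hk1m, hwm]; simp
    · intro h0'; exact one_ne_zero (hind r 1 h0').2
  have hφ : ∀ r : ℂ, F (r • k1 + (1:ℂ) • w) (r • k1 + (1:ℂ) • w) (r • k1 + (1:ℂ) • w)
      = 3 * F k1 k1 w * r ^ 2 + 3 * F k1 w w * r + F w w w := by
    intro r; rw [h.cube2, hk1φ]; ring
  have hr23 : r2 ≠ r3 := by
    intro heq
    rw [← heq] at hr3
    obtain ⟨hτk, hmk, hk0⟩ := hkk r2
    apply MR _ hτk hmk hk0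
    · rw [h.symm13 _ _ k1, h.bil2, hk1φ]
      linear_combination (1/3:ℂ) * hr3
    · rw [h.symm13 _ _ w, h.bil2, h.symm13 w k1 k1, h.symm12 w k1 w]
      linear_combination hr2 - (r2/3) * hr3
  have hline : ∀ k, F p p k = 0 → m k = 0 → k ≠ 0 → F k k k = 0 →
      Module.finrank ℂ ↥(Submodule.span ℂ ({p, k} : Set V4)) = 2 ∧
      p ∈ Submodule.span ℂ ({p, k} : Set V4) ∧
      ∀ u ∈ Submodule.span ℂ ({p, k} : Set V4), F u u u = 0 := by
    intro k hkτ hkm hk0 hkφ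
    refine ⟨finrank_span2 ?_, Submodule.subset_span (by simp), ?_⟩
    · intro s t hst
      have h1 := congrArg m hst
      rw [map_add, map_smul, map_smul, hmp, hkm, map_zero, smul_eq_mul, smul_eq_mul, mul_zero,
        add_zero] at h1
      have hs0 : s = 0 := by
        rcases mul_eq_zero.mp h1 with h2 | h2
        · exact h2
        · norm_num at h2
      subst hs0
      rw [zero_smul, zero_add] at hst
      exact ⟨rfl, (smul_eq_zero.mp hst).resolve_right hk0⟩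
    · intro u hu
      obtain ⟨a, b, rfl⟩ := Submodule.mem_span_pair.mp hu
      rw [h.cube2, hpp, hkφ, hq k, hkτ]; ring
  have hdist : ∀ k k', m k = 0 → m k' = 0 → (∀ b : ℂ, k ≠ b • k') →
      Submodule.span ℂ ({p, k} : Set V4) ≠ Submodule.span ℂ ({p, k'} : Set V4) := by
    intro k k' hkm hk'm hnp heq
    have h1 : k ∈ Submodule.span ℂ ({p, k'} : Set V4) := by
      rw [← heq]; exact Submodule.subset_span (by simp)
    obtain ⟨a, b, hab⟩ := Submodule.mem_span_pair.mp h1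
    have h2 := congrArg m hab
    rw [map_add, map_smul, map_smul, hmp, hk'm, hkm, smul_eq_mul, smul_eq_mul, mul_zero,
      add_zero] at h2
    have ha0 : a = 0 := by
      rcases mul_eq_zero.mp h2 with h3 | h3
      · exact h3
      · norm_num at h3
    subst ha0
    rw [zero_smul, zero_add] at hab
    exact hnp b hab.symm
  have hφ2 := (hφ r2).trans hr2
  have hφ3 := (hφ r3).trans hr3'
  obtain ⟨h2τ', h2m', h20⟩ := hkk r2
  obtain ⟨h3τ', h3m', h30⟩ := hkk r3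
  refine ⟨![Submodule.span ℂ ({p, k1} : Set V4),
    Submodule.span ℂ ({p, r2 • k1 + (1:ℂ) • w} : Set V4),
    Submodule.span ℂ ({p, r3 • k1 + (1:ℂ) • w} : Set V4)], inj3 _ ?_ ?_ ?_, ?_⟩
  · show Submodule.span ℂ ({p, k1} : Set V4) ≠ Submodule.span ℂ ({p, r2 • k1 + (1:ℂ) • w} : Set V4)
    apply hdist _ _ hk1m h2m'
    intro b hb
    have e0 : (b * r2 - 1) • k1 + b • w = b • (r2 • k1 + (1:ℂ) • w) - k1 := by vec_ring
    have e1 : (b * r2 - 1) • k1 + b • w = 0 := e0.trans (by rw [← hb, sub_self])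
    obtain ⟨h1, h2⟩ := hind _ _ e1
    rw [h2] at h1; norm_num at h1
  · show Submodule.span ℂ ({p, k1} : Set V4) ≠ Submodule.span ℂ ({p, r3 • k1 + (1:ℂ) • w} : Set V4)
    apply hdist _ _ hk1m h3m'
    intro b hb
    have e0 : (b * r3 - 1) • k1 + b • w = b • (r3 • k1 + (1:ℂ) • w) - k1 := by vec_ring
    have e1 : (b * r3 - 1) • k1 + b • w = 0 := e0.trans (by rw [← hb, sub_self])
    obtain ⟨h1, h2⟩ := hind _ _ e1
    rw [h2] at h1; norm_num at h1
  · show Submodule.span ℂ ({p, r2 • k1 + (1:ℂ) • w} : Set V4)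
      ≠ Submodule.span ℂ ({p, r3 • k1 + (1:ℂ) • w} : Set V4)
    apply hdist _ _ h2m' h3m'
    intro b hb
    have e0 : (r2 - b * r3) • k1 + (1 - b) • w
        = (r2 • k1 + (1:ℂ) • w) - b • (r3 • k1 + (1:ℂ) • w) := by vec_ring
    have e1 : (r2 - b * r3) • k1 + (1 - b) • w = 0 := e0.trans (by rw [← hb, sub_self])
    obtain ⟨h1, h2⟩ := hind _ _ e1
    have hb1 : b = 1 := by linear_combination -h2
    rw [hb1, one_mul] at h1
    exact hr23 (sub_eq_zero.mp h1)
  · intro i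
    fin_cases i
    · exact hline k1 hk1τ hk1m hk10 hk1φ
    · exact hline _ h2τ' h2m' h20 hφ2
    · exact hline _ h3τ' h3m' h30 hφ3

end Groth.Agent.Lib.CubicSurfH1
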