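import Mathlib
import Groth.Agent.Lib.CubicSurf1_helper1
import Groth.Agent.Lib.CubicSurf2_helper1

set_option autoImplicit false
set_option maxHeartbeats 1000000

namespace Groth.Agent.Lib.CubicSurfH1

open MvPolynomial

/-! ### bridges between the polynomial and the trilinear form -/

lemma eckT_iff {f : MvPolynomial (Fin 4) ℂ} (hG : Good f) (e : V4) :
    EckT (Pol f) e ↔ (∃ U : Fin 3 → Submodule ℂ (Fin 4 → ℂ), Function.Injective U ∧
        ∀ i : Fin 3, Module.finrank ℂ ↥(U i) = 2 ∧ e ∈ U i ∧ ∀ u ∈ U i, eval u f = 0) := by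
  simp only [EckT, hG.diag]

lemma inv_refl {f : MvPolynomial (Fin 4) ℂ} (hG : Good f) (hS : SmoothT (Pol f))
    (A : Matrix (Fin 4) (Fin 4) ℂ) (p : V4) (hp : p ≠ 0) (hfp : eval p f = 0)
    (hA : A * A = 1 ∧
      Module.finrank ℂ ↥(LinearMap.ker (Matrix.toLin' A - LinearMap.id)) = 3 ∧
        A.mulVec p = -p ∧
        ∃ c : ℂ, aeval (fun i : Fin 4 => ∑ j : Fin 4, C (A i j) * X j) f = C c * f) :
    ∃ m : V4 →ₗ[ℂ] ℂ, Refl (Pol f) p m ∧ ∀ x, A.mulVec x = x - m x • p := by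
  obtain ⟨-, hfr, hAp, c, hc⟩ := hA
  apply inv_refl_T (tri_Pol hG) hS A p hp (by rw [hG.diag]; exact hfp) hfr hAp
  refine ⟨c, fun x => ?_⟩
  rw [hG.diag, hG.diag, ← eval_subst4, hc, map_mul, eval_C]

lemma refl_matrix {f : MvPolynomial (Fin 4) ℂ} (hG : Good f) {e : V4} {m : V4 →ₗ[ℂ] ℂ}
    (he : e ≠ 0) (hR : Refl (Pol f) e m) :
    ∃ A : Matrix (Fin 4) (Fin 4) ℂ, (∀ x, A.mulVec x = x - m x • e) ∧
      (A * A = 1 ∧
        Module.finrank ℂ ↥(LinearMap.ker (Matrix.toLin' A - LinearMap.id)) = 3 ∧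
        A.mulVec e = -e ∧
        ∃ c : ℂ, aeval (fun i : Fin 4 => ∑ j : Fin 4, C (A i j) * X j) f = C c * f) := by
  have hT := tri_Pol hG
  have hAx : ∀ x, (LinearMap.toMatrix' (reflMap e m)).mulVec x = x - m x • e := by
    intro x
    rw [← Matrix.toLin'_apply, Matrix.toLin'_toMatrix', reflMap_apply]
  have hm0 : m ≠ 0 := by
    intro h0
    have := hR.two
    rw [h0] at this
    norm_num at this
  refine ⟨LinearMap.toMatrix' (reflMap e m), hAx, ?_, ?_, ?_, 1, ?_⟩
  · apply mat_ext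
    intro x
    rw [← Matrix.mulVec_mulVec, hAx, hAx, Matrix.one_mulVec]
    have := reflMap_invol hR.two x
    simpa only [reflMap_apply] using this
  · have hker : LinearMap.ker (Matrix.toLin' (LinearMap.toMatrix' (reflMap e m)) - LinearMap.id)
        = LinearMap.ker m := by
      ext x
      rw [LinearMap.mem_ker, LinearMap.mem_ker, LinearMap.sub_apply, Matrix.toLin'_apply,
        LinearMap.id_apply, hAx]
      have e1 : x - m x • e - x = -(m x • e) := by abel
      rw [e1, neg_eq_zero, smul_eq_zero]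
      constructor
      · rintro (h1 | h1)
        · exact h1
        · exact absurd h1 he
      · intro h1; exact Or.inl h1
    rw [hker]
    exact finrank_ker m hm0
  · rw [hAx, hR.two]; vec_ring
  · apply MvPolynomial.funext
    intro x
    rw [eval_subst4, map_mul, eval_C, one_mul, hAx, ← hG.diag (x - m x • e), ← hG.diag x]
    have := hR.inv hT x
    rwa [reflMap_apply] at this

/-! ### S18408 -/

theorem main18408 (f : MvPolynomial (Fin 4) ℂ) (hf : f.IsHomogeneous 3)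
    (hf0 : f ≠ 0) (hsm : ∀ v : Fin 4 → ℂ, v ≠ 0 → eval v f = 0 → ∃ i : Fin 4, eval v (pderiv i f) ≠ 0)
    (A : Matrix (Fin 4) (Fin 4) ℂ) (p : Fin 4 → ℂ) (hp : p ≠ 0) (hfp : eval p f = 0)
    (hA : A * A = 1 ∧ Module.finrank ℂ ↥(LinearMap.ker (Matrix.toLin' A - LinearMap.id)) = 3 ∧
        A.mulVec p = -p ∧ ∃ c : ℂ, aeval (fun i : Fin 4 => ∑ j : Fin 4, C (A i j) * X j) f = C c * f) :
    (∃ U : Fin 3 → Submodule ℂ (Fin 4 → ℂ), Function.Injective U ∧
        ∀ i : Fin 3, Module.finrank ℂ ↥(U i) = 2 ∧ p ∈ U i ∧ ∀ u ∈ U i, eval u f = 0) := by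
  have hG := good_of_homogeneous f hf
  have hT := tri_Pol hG
  have hS := smoothT_of hG hsm
  obtain ⟨m, hR, -⟩ := inv_refl hG hS A p hp hfp hA
  exact (eckT_iff hG p).mp (refl_eck hT hS hp hR)

/-! ### S18407 -/

theorem main18407 (f : MvPolynomial (Fin 4) ℂ) (hf : f.IsHomogeneous 3)
    (hf0 : f ≠ 0) (hsm : ∀ v : Fin 4 → ℂ, v ≠ 0 → eval v f = 0 → ∃ i : Fin 4, eval v (pderiv i f) ≠ 0)
    (e : Fin 4 → ℂ) (he : e ≠ 0)
    (hE : (∃ U : Fin 3 → Submodule ℂ (Fin 4 → ℂ), Function.Injective U ∧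
        ∀ i : Fin 3, Module.finrank ℂ ↥(U i) = 2 ∧ e ∈ U i ∧ ∀ u ∈ U i, eval u f = 0)) :
    ∃! A : Matrix (Fin 4) (Fin 4) ℂ, A * A = 1 ∧ Module.finrank ℂ ↥(LinearMap.ker (Matrix.toLin' A - LinearMap.id)) = 3 ∧
        A.mulVec e = -e ∧ ∃ c : ℂ, aeval (fun i : Fin 4 => ∑ j : Fin 4, C (A i j) * X j) f = C c * f := by
  have hG := good_of_homogeneous f hf
  have hT := tri_Pol hG
  have hS := smoothT_of hG hsm
  have hE1 : EckT (Pol f) e := (eckT_iff hG e).mpr hE
  have hfe : eval e f = 0 := by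
    obtain ⟨U, -, hU⟩ := hE
    exact (hU 0).2.2 e (hU 0).2.1
  obtain ⟨m, hR⟩ := eck_refl hT hS he hE1
  obtain ⟨A, hAx, hA⟩ := refl_matrix hG he hR
  refine ⟨A, hA, fun A' hA' => ?_⟩
  obtain ⟨m', hR', hA'x⟩ := inv_refl hG hS A' e he hfe hA'
  have hmm := Refl.unique hT hS he hR' hR
  apply mat_ext
  intro x
  rw [hA'x, hAx, hmm]

/-! ### S18409 -/

lemma xor_T {F : V4 → V4 → V4 → ℂ} (h : Tri F) (hS : SmoothT F) {e e' : V4}
    {m m' : V4 →ₗ[ℂ] ℂ} (hR : Refl F e m) (hR' : Refl F e' m') (hind : Ind2 e e') :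
    Xor (∀ u ∈ Submodule.span ℂ ({e, e'} : Set V4), F u u u = 0)
      (∃ e'' : V4, e'' ∈ Submodule.span ℂ ({e, e'} : Set V4) ∧
        e'' ∉ Submodule.span ℂ ({e} : Set V4) ∧ e'' ∉ Submodule.span ℂ ({e'} : Set V4) ∧
        EckT F e'' ∧
        ∀ u ∈ Submodule.span ℂ ({e, e'} : Set V4), F u u u = 0 →
          u ∈ Submodule.span ℂ ({e} : Set V4) ∨ u ∈ Submodule.span ℂ ({e'} : Set V4) ∨
            u ∈ Submodule.span ℂ ({e''} : Set V4)) := by
  obtain ⟨h1, h2⟩ := hR.two_pt h hR'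
  have hcube := hR.cubeL h hR'
  by_cases hT0 : F e e e' = 0
  · have hT'0 : F e' e' e = 0 := by rw [h1, hT0, zero_mul]
    left
    have hall : ∀ u ∈ Submodule.span ℂ ({e, e'} : Set V4), F u u u = 0 := by
      intro u hu
      obtain ⟨s, t, rfl⟩ := Submodule.mem_span_pair.mp hu
      rw [hcube, hT0, hT'0]; ring
    refine ⟨hall, ?_⟩
    rintro ⟨e'', he''L, he''1, he''2, -, hzero⟩
    obtain ⟨s, t, rfl⟩ := Submodule.mem_span_pair.mp he''L
    have hs : s ≠ 0 := by
      rintro rfl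
      apply he''2
      rw [zero_smul, zero_add]
      exact Submodule.smul_mem _ _ (Submodule.mem_span_singleton_self e')
    have ht : t ≠ 0 := by
      rintro rfl
      apply he''1
      rw [zero_smul, add_zero]
      exact Submodule.smul_mem _ _ (Submodule.mem_span_singleton_self e)
    have hu : s • e + (-t) • e' ∈ Submodule.span ℂ ({e, e'} : Set V4) :=
      Submodule.mem_span_pair.mpr ⟨s, -t, rfl⟩
    rcases hzero _ hu (hall _ hu) with h3 | h3 | h3
    · obtain ⟨c, hc⟩ := Submodule.mem_span_singleton.mp h3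
      have e0 : (s - c) • e + (-t) • e' = (s • e + (-t) • e') - c • e := by vec_ring
      have := (hind _ _ (e0.trans (by rw [hc, sub_self]))).2
      exact ht (neg_eq_zero.mp this)
    · obtain ⟨c, hc⟩ := Submodule.mem_span_singleton.mp h3
      have e0 : s • e + (-t - c) • e' = (s • e + (-t) • e') - c • e' := by vec_ring
      have := (hind _ _ (e0.trans (by rw [hc, sub_self]))).1
      exact hs this
    · obtain ⟨c, hc⟩ := Submodule.mem_span_singleton.mp h3
      have e0 : (s - c * s) • e + (-t - c * t) • e'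
          = (s • e + (-t) • e') - c • (s • e + t • e') := by vec_ring
      obtain ⟨h4, h5⟩ := hind _ _ (e0.trans (by rw [hc, sub_self]))
      have hc1 : c = 1 := by
        have h6 : s * (1 - c) = 0 := by linear_combination h4
        rcases mul_eq_zero.mp h6 with h7 | h7
        · exact absurd h7 hs
        · linear_combination -h7
      rw [hc1] at h5
      exact ht (by linear_combination (-1/2:ℂ) * h5)
  · right
    have hμν : m e' * m' e = 1 := by
      have h3 := h2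
      rw [h1] at h3
      have h4 : F e e e' * (m e' * m' e - 1) = 0 := by linear_combination -h3
      have := (mul_eq_zero.mp h4).resolve_left hT0
      linear_combination this
    have hν : m' e ≠ 0 := by
      intro h0
      rw [h0, mul_zero] at hμν
      exact zero_ne_one hμν
    have hst : ∀ s t : ℂ, F (s • e + t • e') (s • e + t • e') (s • e + t • e')
        = 3 * s * t * F e e e' * (s + t * m e') := by
      intro s t
      rw [hcube, h1]; ring
    have he''eq : reflMap e' m' e = e - m' e • e' := reflMap_apply _ _ _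
    have he''1 : reflMap e' m' e ∉ Submodule.span ℂ ({e} : Set V4) := by
      rw [he''eq]; intro hmem
      obtain ⟨c, hc⟩ := Submodule.mem_span_singleton.mp hmem
      have e0 : (c - 1) • e + (m' e) • e' = c • e - (e - m' e • e') := by vec_ring
      have := (hind _ _ (e0.trans (by rw [hc, sub_self]))).2
      exact hν this
    have he''2 : reflMap e' m' e ∉ Submodule.span ℂ ({e'} : Set V4) := by
      rw [he''eq]; intro hmem
      obtain ⟨c, hc⟩ := Submodule.mem_span_singleton.mp hmem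
      have e0 : (-1:ℂ) • e + (c + m' e) • e' = c • e' - (e - m' e • e') := by vec_ring
      have := (hind _ _ (e0.trans (by rw [hc, sub_self]))).1
      norm_num at this
    have he''0 : reflMap e' m' e ≠ 0 := fun h0 => he''1 (by rw [h0]; exact Submodule.zero_mem _)
    refine ⟨⟨reflMap e' m' e, ?_, he''1, he''2, refl_eck h hS he''0 (hR.transfer h hR'), ?_⟩, ?_⟩
    · rw [he''eq]; exact Submodule.mem_span_pair.mpr ⟨1, -(m' e), by vec_ring⟩
    · intro u hu hu0
      obtain ⟨s, t, rfl⟩ := Submodule.mem_span_pair.mp hu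
      rw [hst] at hu0
      have h5 : s * t * (s + t * m e') * F e e e' = 0 := by linear_combination (1/3:ℂ) * hu0
      rcases mul_eq_zero.mp h5 with h6 | h6
      · rcases mul_eq_zero.mp h6 with h7 | h7
        · rcases mul_eq_zero.mp h7 with h8 | h8
          · right; left
            rw [h8, zero_smul, zero_add]
            exact Submodule.smul_mem _ _ (Submodule.mem_span_singleton_self e')
          · left
            rw [h8, zero_smul, add_zero]
            exact Submodule.smul_mem _ _ (Submodule.mem_span_singleton_self e)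
        · right; right
          rw [Submodule.mem_span_singleton]
          refine ⟨-(t * m e'), ?_⟩
          rw [he''eq]
          have hs : s = -(t * m e') := by linear_combination h7
          rw [hs]
          ext i
          simp only [Pi.add_apply, Pi.sub_apply, Pi.smul_apply, Pi.neg_apply, smul_eq_mul]
          linear_combination (t * e' i) * hμν
      · exact absurd h6 hT0
    · intro hall
      have hst0 : ∀ s t : ℂ, 3 * s * t * F e e e' * (s + t * m e') = 0 := by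
        intro s t
        rw [← hst]
        exact hall _ (Submodule.mem_span_pair.mpr ⟨s, t, rfl⟩)
      by_cases hμ1 : 1 + m e' = 0
      · have h6 := hst0 2 1
        have hμ : m e' = -1 := by linear_combination hμ1
        rw [hμ] at h6
        exact hT0 (by linear_combination (1/6:ℂ) * h6)
      · have h6 := hst0 1 1
        rcases mul_eq_zero.mp h6 with h7 | h7
        · exact hT0 (by linear_combination (1/3:ℂ) * h7)
        · exact hμ1 (by linear_combination h7)

theorem main18409 (f : MvPolynomial (Fin 4) ℂ) (hf : f.IsHomogeneous 3)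
    (hf0 : f ≠ 0) (hsm : ∀ v : Fin 4 → ℂ, v ≠ 0 → eval v f = 0 → ∃ i : Fin 4, eval v (pderiv i f) ≠ 0)
    (e e' : Fin 4 → ℂ) (he : e ≠ 0) (he' : e' ∉ Submodule.span ℂ {e})
    (hE : (∃ U : Fin 3 → Submodule ℂ (Fin 4 → ℂ), Function.Injective U ∧
        ∀ i : Fin 3, Module.finrank ℂ ↥(U i) = 2 ∧ e ∈ U i ∧ ∀ u ∈ U i, eval u f = 0))
    (hE' : (∃ U : Fin 3 → Submodule ℂ (Fin 4 → ℂ), Function.Injective U ∧
        ∀ i : Fin 3, Module.finrank ℂ ↥(U i) = 2 ∧ e' ∈ U i ∧ ∀ u ∈ U i, eval u f = 0)) :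
    Xor (∀ u ∈ Submodule.span ℂ {e, e'}, eval u f = 0)
      (∃ e'' : Fin 4 → ℂ, e'' ∈ Submodule.span ℂ {e, e'} ∧ e'' ∉ Submodule.span ℂ {e} ∧ e'' ∉ Submodule.span ℂ {e'} ∧
        (∃ U : Fin 3 → Submodule ℂ (Fin 4 → ℂ), Function.Injective U ∧
        ∀ i : Fin 3, Module.finrank ℂ ↥(U i) = 2 ∧ e'' ∈ U i ∧ ∀ u ∈ U i, eval u f = 0) ∧
        ∀ u ∈ Submodule.span ℂ {e, e'}, eval u f = 0 →
          u ∈ Submodule.span ℂ {e} ∨ u ∈ Submodule.span ℂ {e'} ∨ u ∈ Submodule.span ℂ {e''}) := by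
  have hG := good_of_homogeneous f hf
  have hT := tri_Pol hG
  have hS := smoothT_of hG hsm
  have hind : Ind2 e e' := ind2_of_notMem he he'
  obtain ⟨m, hR⟩ := eck_refl hT hS he ((eckT_iff hG e).mpr hE)
  obtain ⟨m', hR'⟩ := eck_refl hT hS hind.right_ne ((eckT_iff hG e').mpr hE')
  have key := xor_T hT hS hR hR' hind
  simp only [EckT, hG.diag] at key
  exact key

/-! ### S18410 -/

lemma m_zero_of_line {F : V4 → V4 → V4 → ℂ} (h : Tri F) (hS : SmoothT F) {e e' : V4}
    {m m' : V4 →ₗ[ℂ] ℂ} (hR : Refl F e m) (hR' : Refl F e' m') (hind : Ind2 e e')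
    (hL : ∀ u ∈ Submodule.span ℂ ({e, e'} : Set V4), F u u u = 0) (hE' : EckT F e') :
    m e' = 0 := by
  by_contra hμ
  have he0 : e ≠ 0 := hind.left_ne
  have he'0 : e' ≠ 0 := hind.right_ne
  have hcube := hR.cubeL h hR'
  obtain ⟨hT0, hT'0⟩ : F e e e' = 0 ∧ F e' e' e = 0 := by
    have h11 := hL _ (Submodule.mem_span_pair.mpr ⟨1, 1, rfl⟩)
    have h12 := hL _ (Submodule.mem_span_pair.mpr ⟨1, -1, rfl⟩)
    rw [hcube] at h11 h12
    constructor
    · linear_combination (1/6:ℂ) * h11 - (1/6:ℂ) * h12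
    · linear_combination (1/6:ℂ) * h11 + (1/6:ℂ) * h12
  have hrel : ∀ y, F e e y * m e' = F e' e' y * m' e := by
    intro y
    have h1 := hR.polar h e' y
    have h2 := hR'.polar h e y
    rw [hT0] at h1
    rw [hT'0, h.symm12 e' e y] at h2
    linear_combination h2 - h1
  obtain ⟨y1, hy1⟩ := hS e he0 hR.zero
  have hker : ∀ y, F e' e' y = 0 → F e e y = 0 := by
    intro y hy
    have := hrel y
    rw [hy, zero_mul] at this
    exact (mul_eq_zero.mp this).resolve_right hμ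
  obtain ⟨U', hinj', hU'⟩ := hE'
  obtain ⟨i, hi⟩ : ∃ i, U' i ≠ Submodule.span ℂ ({e, e'} : Set V4) := by
    by_contra hcon
    push Not at hcon
    have := hinj' ((hcon 0).trans (hcon 1).symm)
    exact absurd this (by decide)
  obtain ⟨u', hu', hind', -⟩ := line_struct (U' i) (hU' i).1 (hU' i).2.1 he'0
  have hu'L : u' ∉ Submodule.span ℂ ({e, e'} : Set V4) := by
    intro hmem
    apply hi
    exact line_eq (U' i) _ (hU' i).1 (finrank_span2 hind) (hU' i).2.1 hu'
      (Submodule.subset_span (by simp)) hmem hind'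
  have hUF' : ∀ x ∈ U' i, ∀ y ∈ U' i, ∀ z ∈ U' i, F x y z = 0 :=
    fun x hx y hy z hz => h.eq_zero_of_submodule (U' i) (hU' i).2.2 hx hy hz
  have hτu' : F e e u' = 0 := hker u' (hUF' e' (hU' i).2.1 e' (hU' i).2.1 u' hu')
  have htr : ∀ y (s : ℂ), F e e y = 0 →
      F (y + s • e) (y + s • e) (y + s • e) = F y y y := by
    intro y s hy
    have h1 := h.cube2 1 s y e
    rw [one_smul] at h1
    rw [h1, h.symm13 y y e, h.symm13 y e e, hR.quad y, hy, hR.zero]; ring
  have hW : ∀ a b c : ℂ, F (a • e + b • e' + c • u') (a • e + b • e' + c • u')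
      (a • e + b • e' + c • u') = 0 := by
    intro a b c
    have e1 : a • e + b • e' + c • u' = (b • e' + c • u') + a • e := by abel
    have h2 : F e e (b • e' + c • u') = 0 := by
      rw [h.add₃, h.smul₃, h.smul₃, hT0, hτu']; ring
    rw [e1, htr _ a h2]
    exact (hU' i).2.2 _ ((U' i).add_mem ((U' i).smul_mem _ (hU' i).2.1) ((U' i).smul_mem _ hu'))
  have hτne : h.lin e e ≠ 0 := fun h0 => hy1 (by
    have := LinearMap.congr_fun h0 y1
    simpa using this)
  have hm0 : m e ≠ 0 := by rw [hR.two]; norm_num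
  apply hyp_false h hS (h.lin e e) hτne
  intro y hy
  rw [Tri.lin_apply] at hy
  have hk'τ : h.lin e e (e' - (m e' / 2) • e) = 0 := by
    rw [Tri.lin_apply, h.sub₃, h.smul₃, hT0, hR.zero]; ring
  have hk'm : m (e' - (m e' / 2) • e) = 0 := by
    rw [map_sub, map_smul, hR.two, smul_eq_mul]; ring
  have hk''τ : h.lin e e (u' - (m u' / 2) • e) = 0 := by
    rw [Tri.lin_apply, h.sub₃, h.smul₃, hτu', hR.zero]; ring
  have hk''m : m (u' - (m u' / 2) • e) = 0 := by
    rw [map_sub, map_smul, hR.two, smul_eq_mul]; ring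
  have hindK : Ind2 (e' - (m e' / 2) • e) (u' - (m u' / 2) • e) := by
    intro s t hst
    have e1 : (-(s * (m e' / 2)) - t * (m u' / 2)) • e + s • e' + t • u'
        = s • (e' - (m e' / 2) • e) + t • (u' - (m u' / 2) • e) := by vec_ring
    have e2 := e1.trans hst
    by_cases ht : t = 0
    · subst ht
      rw [zero_smul, add_zero, zero_mul, sub_zero] at e2
      exact ⟨(hind _ _ e2).2, rfl⟩
    · exfalso
      apply hu'L
      have e3 : (1:ℂ) • ((-(s * (m e' / 2)) - t * (m u' / 2)) • e + s • e') + t • u' = 0 := by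
        rw [one_smul]; exact e2
      exact smul_mem_of_rel _ ht (Submodule.mem_span_pair.mpr ⟨_, _, rfl⟩) e3
  have hyτ : h.lin e e (y - (m y / 2) • e) = 0 := by
    rw [Tri.lin_apply, h.sub₃, h.smul₃, hy, hR.zero]; ring
  have hym : m (y - (m y / 2) • e) = 0 := by
    rw [map_sub, map_smul, hR.two, smul_eq_mul]; ring
  obtain ⟨β, γ, hβγ⟩ := K_span (h.lin e e) m e hτne hR.zero hm0 hk'τ hk'm hk''τ hk''m hindK _
    hyτ hym
  have e4 : (m y / 2 - β * (m e' / 2) - γ * (m u' / 2)) • e + β • e' + γ • u'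
      = (β • (e' - (m e' / 2) • e) + γ • (u' - (m u' / 2) • e)) + (m y / 2) • e := by vec_ring
  have hy3 : y = (m y / 2 - β * (m e' / 2) - γ * (m u' / 2)) • e + β • e' + γ • u' := by
    rw [e4, ← hβγ, sub_add_cancel]
  rw [hy3]
  exact hW _ _ _

theorem main18410 (f : MvPolynomial (Fin 4) ℂ) (hf : f.IsHomogeneous 3)
    (hf0 : f ≠ 0) (hsm : ∀ v : Fin 4 → ℂ, v ≠ 0 → eval v f = 0 → ∃ i : Fin 4, eval v (pderiv i f) ≠ 0)
    (e e' : Fin 4 → ℂ) (he : e ≠ 0) (he' : e' ∉ Submodule.span ℂ {e})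
    (hE : (∃ U : Fin 3 → Submodule ℂ (Fin 4 → ℂ), Function.Injective U ∧
        ∀ i : Fin 3, Module.finrank ℂ ↥(U i) = 2 ∧ e ∈ U i ∧ ∀ u ∈ U i, eval u f = 0))
    (hE' : (∃ U : Fin 3 → Submodule ℂ (Fin 4 → ℂ), Function.Injective U ∧
        ∀ i : Fin 3, Module.finrank ℂ ↥(U i) = 2 ∧ e' ∈ U i ∧ ∀ u ∈ U i, eval u f = 0))
    (hL : ∀ u ∈ Submodule.span ℂ {e, e'}, eval u f = 0)
    (A A' : Matrix (Fin 4) (Fin 4) ℂ)
    (hA : A * A = 1 ∧ Module.finrank ℂ ↥(LinearMap.ker (Matrix.toLin' A - LinearMap.id)) = 3 ∧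
        A.mulVec e = -e ∧ ∃ c : ℂ, aeval (fun i : Fin 4 => ∑ j : Fin 4, C (A i j) * X j) f = C c * f)
    (hA' : A' * A' = 1 ∧ Module.finrank ℂ ↥(LinearMap.ker (Matrix.toLin' A' - LinearMap.id)) = 3 ∧
        A'.mulVec e' = -e' ∧ ∃ c : ℂ, aeval (fun i : Fin 4 => ∑ j : Fin 4, C (A' i j) * X j) f = C c * f) :
    (∃ c : ℂ, A * A' = c • (A' * A)) ∧ (∃ d : ℂ, A.mulVec e' = d • e') ∧ (∃ d : ℂ, A'.mulVec e = d • e) := by
  have hG := good_of_homogeneous f hf
  have hT := tri_Pol hG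
  have hS := smoothT_of hG hsm
  have hind : Ind2 e e' := ind2_of_notMem he he'
  have he'0 : e' ≠ 0 := hind.right_ne
  have hfe : eval e f = 0 := by
    obtain ⟨U, -, hU⟩ := hE
    exact (hU 0).2.2 e (hU 0).2.1
  have hfe' : eval e' f = 0 := by
    obtain ⟨U, -, hU⟩ := hE'
    exact (hU 0).2.2 e' (hU 0).2.1
  obtain ⟨m, hR, hAx⟩ := inv_refl hG hS A e he hfe hA
  obtain ⟨m', hR', hA'x⟩ := inv_refl hG hS A' e' he'0 hfe' hA'
  have hLT : ∀ u ∈ Submodule.span ℂ ({e, e'} : Set V4), Pol f u u u = 0 := by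
    intro u hu; rw [hG.diag]; exact hL u hu
  have hLT' : ∀ u ∈ Submodule.span ℂ ({e', e} : Set V4), Pol f u u u = 0 := by
    rw [Set.pair_comm]; exact hLT
  have hμ : m e' = 0 := m_zero_of_line hT hS hR hR' hind hLT ((eckT_iff hG e').mpr hE')
  have hν : m' e = 0 := m_zero_of_line hT hS hR' hR hind.symm hLT' ((eckT_iff hG e).mpr hE)
  refine ⟨⟨1, ?_⟩, ⟨1, ?_⟩, ⟨1, ?_⟩⟩
  · rw [one_smul]
    apply mat_ext
    intro x
    rw [← Matrix.mulVec_mulVec, ← Matrix.mulVec_mulVec, hA'x x, hAx x, hAx, hA'x]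
    simp only [map_sub, map_smul, hμ, hν, smul_zero, sub_zero]
    abel
  · rw [hAx, hμ, zero_smul, sub_zero, one_smul]
  · rw [hA'x, hν, zero_smul, sub_zero, one_smul]

/-! ### S18411 -/

theorem main18411 (f : MvPolynomial (Fin 4) ℂ) (hf : f.IsHomogeneous 3)
    (hf0 : f ≠ 0) (hsm : ∀ v : Fin 4 → ℂ, v ≠ 0 → eval v f = 0 → ∃ i : Fin 4, eval v (pderiv i f) ≠ 0)
    (e e' e'' : Fin 4 → ℂ) (he : e ≠ 0) (he' : e' ∉ Submodule.span ℂ {e})
    (he''1 : e'' ∉ Submodule.span ℂ {e}) (he''2 : e'' ∉ Submodule.span ℂ {e'}) (he''L : e'' ∈ Submodule.span ℂ {e, e'})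
    (hE : (∃ U : Fin 3 → Submodule ℂ (Fin 4 → ℂ), Function.Injective U ∧
        ∀ i : Fin 3, Module.finrank ℂ ↥(U i) = 2 ∧ e ∈ U i ∧ ∀ u ∈ U i, eval u f = 0))
    (hE' : (∃ U : Fin 3 → Submodule ℂ (Fin 4 → ℂ), Function.Injective U ∧
        ∀ i : Fin 3, Module.finrank ℂ ↥(U i) = 2 ∧ e' ∈ U i ∧ ∀ u ∈ U i, eval u f = 0))
    (hE'' : (∃ U : Fin 3 → Submodule ℂ (Fin 4 → ℂ), Function.Injective U ∧
        ∀ i : Fin 3, Module.finrank ℂ ↥(U i) = 2 ∧ e'' ∈ U i ∧ ∀ u ∈ U i, eval u f = 0))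
    (hL : ¬ ∀ u ∈ Submodule.span ℂ {e, e'}, eval u f = 0)
    (A A' A'' : Matrix (Fin 4) (Fin 4) ℂ)
    (hA : A * A = 1 ∧ Module.finrank ℂ ↥(LinearMap.ker (Matrix.toLin' A - LinearMap.id)) = 3 ∧
        A.mulVec e = -e ∧ ∃ c : ℂ, aeval (fun i : Fin 4 => ∑ j : Fin 4, C (A i j) * X j) f = C c * f)
    (hA' : A' * A' = 1 ∧ Module.finrank ℂ ↥(LinearMap.ker (Matrix.toLin' A' - LinearMap.id)) = 3 ∧
        A'.mulVec e' = -e' ∧ ∃ c : ℂ, aeval (fun i : Fin 4 => ∑ j : Fin 4, C (A' i j) * X j) f = C c * f)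
    (hA'' : A'' * A'' = 1 ∧ Module.finrank ℂ ↥(LinearMap.ker (Matrix.toLin' A'' - LinearMap.id)) = 3 ∧
        A''.mulVec e'' = -e'' ∧ ∃ c : ℂ, aeval (fun i : Fin 4 => ∑ j : Fin 4, C (A'' i j) * X j) f = C c * f) :
    (¬ ∃ c : ℂ, A * A' = c • (1 : Matrix (Fin 4) (Fin 4) ℂ)) ∧ (∃ c : ℂ, (A * A') ^ 3 = c • (1 : Matrix (Fin 4) (Fin 4) ℂ)) ∧
      ∃ c : ℂ, A'' = c • (A * A' * A) := by
  have hG := good_of_homogeneous f hf
  have hT := tri_Pol hG
  have hS := smoothT_of hG hsm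
  have hind : Ind2 e e' := ind2_of_notMem he he'
  have he'0 : e' ≠ 0 := hind.right_ne
  have he''0 : e'' ≠ 0 := fun h0 => he''1 (by rw [h0]; exact Submodule.zero_mem _)
  have hfe : eval e f = 0 := by
    obtain ⟨U, -, hU⟩ := hE
    exact (hU 0).2.2 e (hU 0).2.1
  have hfe' : eval e' f = 0 := by
    obtain ⟨U, -, hU⟩ := hE'
    exact (hU 0).2.2 e' (hU 0).2.1
  have hfe'' : eval e'' f = 0 := by
    obtain ⟨U, -, hU⟩ := hE''
    exact (hU 0).2.2 e'' (hU 0).2.1
  obtain ⟨m, hR, hAx⟩ := inv_refl hG hS A e he hfe hA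
  obtain ⟨m', hR', hA'x⟩ := inv_refl hG hS A' e' he'0 hfe' hA'
  obtain ⟨m'', hR'', hA''x⟩ := inv_refl hG hS A'' e'' he''0 hfe'' hA''
  obtain ⟨h1, h2⟩ := hR.two_pt hT hR'
  have hcube := hR.cubeL hT hR'
  have hT0 : Pol f e e e' ≠ 0 := by
    intro h0
    apply hL
    intro u hu
    obtain ⟨s, t, rfl⟩ := Submodule.mem_span_pair.mp hu
    rw [← hG.diag, hcube, h1, h0]; ring
  have hμν : m e' * m' e = 1 := by
    have h3 := h2
    rw [h1] at h3
    have h4 : Pol f e e e' * (m e' * m' e - 1) = 0 := by linear_combination -h3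
    have := (mul_eq_zero.mp h4).resolve_left hT0
    linear_combination this
  obtain ⟨s, t, hst⟩ := Submodule.mem_span_pair.mp he''L
  have ht : t ≠ 0 := by
    rintro rfl
    apply he''1
    rw [← hst, zero_smul, add_zero]
    exact Submodule.smul_mem _ _ (Submodule.mem_span_singleton_self e)
  have hs : s ≠ 0 := by
    rintro rfl
    apply he''2
    rw [← hst, zero_smul, zero_add]
    exact Submodule.smul_mem _ _ (Submodule.mem_span_singleton_self e')
  have hst0 : s + t * m e' = 0 := by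
    have h3 := hR''.zero
    rw [← hst, hcube, h1] at h3
    have h4 : s * t * Pol f e e e' * (s + t * m e') = 0 := by linear_combination (1/3:ℂ) * h3
    rcases mul_eq_zero.mp h4 with h5 | h5
    · exfalso
      rcases mul_eq_zero.mp h5 with h6 | h6
      · rcases mul_eq_zero.mp h6 with h7 | h7
        · exact hs h7
        · exact ht h7
      · exact hT0 h6
    · exact h5
  have he''eq : e'' = t • reflMap e m e' := by
    rw [← hst, reflMap_apply]
    have hs' : s = -(t * m e') := by linear_combination hst0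
    rw [hs']; vec_ring
  have hRs : Refl (Pol f) (reflMap e m e') (t • m'') := by
    apply Refl.scale hT ht
    rw [← he''eq]; exact hR''
  have hRt : Refl (Pol f) (reflMap e m e') (m'.comp (reflMap e m)) := hR'.transfer hT hR
  have hq0 : reflMap e m e' ≠ 0 := by
    intro h0
    rw [h0, smul_zero] at he''eq
    exact he''0 he''eq
  have hmm : t • m'' = m'.comp (reflMap e m) := Refl.unique hT hS hq0 hRs hRt
  have hmm' : ∀ x, t * m'' x = m' (x - m x • e) := by
    intro x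
    have := LinearMap.congr_fun hmm x
    simpa using this
  have hN : ∀ v, (A * A').mulVec v = v - m' v • e' - (m v - m' v * m e') • e := by
    intro v
    rw [← Matrix.mulVec_mulVec, hA'x, hAx, map_sub, map_smul, smul_eq_mul]
  have hmN : ∀ v, m ((A * A').mulVec v) = m' v * m e' - m v := by
    intro v
    rw [hN, map_sub, map_sub, map_smul, map_smul, hR.two, smul_eq_mul, smul_eq_mul]; ring
  have hm'N : ∀ v, m' ((A * A').mulVec v) = -(m v * m' e) := by
    intro v
    rw [hN, map_sub, map_sub, map_smul, map_smul, hR'.two, smul_eq_mul, smul_eq_mul]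
    linear_combination (m' v) * hμν
  refine ⟨?_, ⟨1, ?_⟩, ⟨1, ?_⟩⟩
  · rintro ⟨c, hc⟩
    have h3 : (A * A').mulVec e' = (c • (1 : Matrix (Fin 4) (Fin 4) ℂ)).mulVec e' := by rw [hc]
    rw [hN, Matrix.smul_mulVec, Matrix.one_mulVec, hR'.two] at h3
    have e0 : (-(m e' - 2 * m e')) • e + (1 - 2 - c) • e'
        = (e' - (2:ℂ) • e' - (m e' - 2 * m e') • e) - c • e' := by vec_ring
    have h4 := (hind _ _ (e0.trans (by rw [h3, sub_self]))).1
    have h5 : m e' = 0 := by linear_combination h4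
    rw [h5, zero_mul] at hμν
    exact zero_ne_one hμν
  · rw [one_smul]
    apply mat_ext
    intro x
    rw [Matrix.one_mulVec, pow_three, ← Matrix.mulVec_mulVec x (A * A') ((A * A') * (A * A')),
      ← Matrix.mulVec_mulVec x (A * A') (A * A'),
      hN ((A * A').mulVec ((A * A').mulVec x)), hmN ((A * A').mulVec x),
      hm'N ((A * A').mulVec x), hN ((A * A').mulVec x), hmN x, hm'N x, hN x]
    ext i
    simp only [Pi.sub_apply, Pi.smul_apply, smul_eq_mul]
    linear_combination (m' x * e' i + (m x - m' x * m e') * e i) * hμν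
  · rw [one_smul]
    apply mat_ext
    intro x
    rw [hA''x, ← Matrix.mulVec_mulVec, ← Matrix.mulVec_mulVec, hAx x, hA'x, hAx]
    have hd := hmm' x
    have e5 : m'' x • e'' = (m' (x - m x • e)) • (e' - m e' • e) := by
      rw [← hd, he''eq, reflMap_apply, smul_smul, mul_comm]
    rw [e5]
    simp only [map_sub, map_smul, smul_eq_mul, hR.two]
    vec_ring

end Groth.Agent.Lib.CubicSurfH1
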