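import Mathlib
import Groth.Prelude
import Groth.Agent.Lib.CurvePtInv1_helper9
import Groth.Agent.Lib.CurveTop_helper7
import Groth.Agent.Lib.NormalizationChar2_helper7
import Groth.Agent.Lib.SchFT_helper8
import Groth.Agent.S4442

/-!
# Birational quasi-finite morphisms to normal schemes are open immersions; function fields of
curves (helper9).
APPEND-ONLY once landed.
-/

set_option autoImplicit false
universe u
open CategoryTheory CategoryTheory.Limits AlgebraicGeometry Opposite TopologicalSpace

namespace CurveComp9

section QF

variable {X Y : Scheme.{u}} [IsIntegral X] [IsIntegral Y]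

/-- a finite-type morphism of integral schemes, the source a Noetherian "curve", mapping the
generic point to a non-closed generic point of a Jacobson scheme, is quasi-finite -/
theorem locallyQuasiFinite_of_generic (u : X ⟶ Y) [LocallyOfFiniteType u] [QuasiCompact u]
    [IsNoetherian X] [JacobsonSpace Y]
    (hX : ∀ x : X, IsClosed ({x} : Set X) → ringKrullDim (X.presheaf.stalk x) = 1)
    (hYgen : ¬ IsClosed ({genericPoint Y} : Set Y))
    (hu : u (genericPoint X) = genericPoint Y) : LocallyQuasiFinite u := by
  rw [locallyQuasiFinite_iff_finite_preimage_singleton]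
  intro y
  have hclosed : ∀ x : X, x ≠ genericPoint X → IsClosed ({x} : Set X) := fun x hx =>
    Groth.Agent.Lib.CurveTopH7.isClosed_of_ne_genericPoint hX x hx
  have hcp : ∀ x : X, IsClosed ({x} : Set X) → IsClosed ({u x} : Set Y) := fun x hx =>
    u.closePoints_subset_preimage_closedPoints hx
  by_cases hy : y = genericPoint Y
  · refine (Set.finite_singleton (genericPoint X)).subset ?_
    intro x hx
    rw [Set.mem_preimage, Set.mem_singleton_iff] at hx
    rw [Set.mem_singleton_iff]
    by_contra hne
    have h1 := hcp x (hclosed x hne)
    rw [hx, hy] at h1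
    exact hYgen h1
  · have hZcl : IsClosed (u ⁻¹' closure ({y} : Set Y)) := isClosed_closure.preimage u.continuous
    have hZ : ∀ z ∈ u ⁻¹' closure ({y} : Set Y), IsClosed ({z} : Set X) := by
      intro z hz
      refine hclosed z ?_
      rintro rfl
      rw [Set.mem_preimage, hu] at hz
      have h1 : y ⤳ genericPoint Y := specializes_iff_mem_closure.mpr hz
      have h2 : genericPoint Y ⤳ y := genericPoint_specializes y
      exact hy (h1.antisymm h2).eq
    have hfin := Groth.Agent.Lib.CurveTopH7.finite_of_isClosed_of_forall_isClosed _ hZcl hZ
    exact hfin.subset (Set.preimage_mono subset_closure)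

/-- a separated quasi-finite birational morphism of finite type from an integral scheme to a
normal integral scheme is an open immersion -/
theorem isOpenImmersion_of_birational (u : X ⟶ Y) [LocallyOfFiniteType u] [QuasiCompact u]
    [IsSeparated u] [LocallyQuasiFinite u]
    (hu : u (genericPoint X) = genericPoint Y) (hiso : IsIso (u.stalkMap (genericPoint X)))
    (hY : ∀ y : Y, IsIntegrallyClosed (Y.presheaf.stalk y)) : IsOpenImmersion u := by
  haveI : IsIntegral u.normalization := inferInstance
  have ht : u.toNormalization (genericPoint X) = genericPoint u.normalization :=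
    Groth.Agent.Lib.CurveTopH7.map_genericPoint_of_isDominant u.toNormalization
  have hcomp : u.toNormalization ≫ u.fromNormalization = u := u.toNormalization_fromNormalization
  have hr : u.fromNormalization (genericPoint u.normalization) = genericPoint Y := by
    rw [← ht, ← Scheme.Hom.comp_apply, hcomp, hu]
  have hst : IsIso (u.fromNormalization.stalkMap (u.toNormalization (genericPoint X))) := by
    have h1 := Scheme.Hom.stalkMap_comp u.toNormalization u.fromNormalization (genericPoint X)
    have h2 : IsIso ((u.toNormalization ≫ u.fromNormalization).stalkMap (genericPoint X)) := by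
      have : ∀ (v : X ⟶ Y), v = u → IsIso (v.stalkMap (genericPoint X)) := by
        rintro v rfl
        exact hiso
      exact this _ hcomp
    rw [h1] at h2
    exact @IsIso.of_isIso_comp_right _ _ _ _ _ _ (u.toNormalization.stalkMap (genericPoint X))
      inferInstance h2
  have hst' : IsIso (u.fromNormalization.stalkMap (genericPoint u.normalization)) := ht ▸ hst
  have hres := Groth.Agent.Lib.NormalizationChar2H7.isIso_morphismRestrict_of_normal
    u.fromNormalization hr hst' ⊤ ⟨genericPoint Y, trivial⟩ (fun y _ => hY y)
  haveI := hres
  have htop : ∀ (Z : Scheme.{u}), IsIso (⊤ : Z.Opens).ι := fun Z =>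
    (inferInstance : IsIso Z.topIso.hom)
  have hι : IsIso (u.fromNormalization ⁻¹ᵁ ⊤).ι := by
    rw [Scheme.Hom.preimage_top]
    exact htop _
  haveI := hι
  haveI := htop Y
  have h3 : IsIso ((u.fromNormalization ⁻¹ᵁ ⊤).ι ≫ u.fromNormalization) := by
    rw [← morphismRestrict_ι]
    infer_instance
  haveI := h3
  haveI : IsIso u.fromNormalization :=
    IsIso.of_isIso_comp_left (u.fromNormalization ⁻¹ᵁ ⊤).ι u.fromNormalization
  rw [← hcomp]
  infer_instance

end QF

end CurveComp9

namespace CurveComp9

section FF

attribute [local instance] Curv2.stalkAlgebra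

variable (k : Type u) [Field k] (X : Scheme.{u}) [X.Over (Spec (CommRingCat.of k))] [IsIntegral X]
  [LocallyOfFiniteType (X ↘ Spec (CommRingCat.of k))]

/-- the function field of an integral scheme of finite type over a field is finitely generated -/
theorem fg_functionField : (⊤ : IntermediateField k X.functionField).FG := by
  classical
  obtain ⟨U, hU, hηU, -⟩ :=
    exists_isAffineOpen_mem_and_subset (X := X) (x := genericPoint X) (U := ⊤) trivial
  haveI : Nonempty U := ⟨⟨genericPoint X, hηU⟩⟩
  letI : Algebra k Γ(X, U) := Groth.Agent.SchFTH8.secAlgebra k X U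
  haveI : Algebra.FiniteType k Γ(X, U) := Groth.Agent.SchFTH8.finiteType_sec k X U hU
  haveI : IsFractionRing Γ(X, U) X.functionField :=
    functionField_isFractionRing_of_isAffineOpen X U hU
  haveI : IsScalarTower k Γ(X, U) X.functionField := by
    refine IsScalarTower.of_algebraMap_eq' ?_
    ext c
    simp only [RingHom.algebraMap_toAlgebra, RingHom.comp_apply]
    show _ = (X.germToFunctionField U).hom _
    simp only [Curv2.stalkMap, Groth.Agent.SchFTH8.secMap, RingHom.comp_apply,
      Scheme.germToFunctionField]
    exact (TopCat.Presheaf.germ_res_apply X.presheaf (homOfLE (le_top : U ≤ ⊤))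
      (genericPoint X) hηU _).symm
  obtain ⟨S, hS⟩ := (Algebra.FiniteType.out : (⊤ : Subalgebra k Γ(X, U)).FG)
  refine ⟨S.image (algebraMap Γ(X, U) X.functionField), ?_⟩
  rw [eq_top_iff]
  intro z _
  set F := IntermediateField.adjoin k
    ((S.image (algebraMap Γ(X, U) X.functionField) : Finset X.functionField) :
      Set X.functionField) with hF
  have hA : ∀ a : Γ(X, U), algebraMap Γ(X, U) X.functionField a ∈ F := by
    intro a
    have h1 : a ∈ Algebra.adjoin k (S : Set Γ(X, U)) := by
      rw [hS]
      exact Algebra.mem_top
    have h2 : Algebra.adjoin k (S : Set Γ(X, U)) ≤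
        F.toSubalgebra.comap (IsScalarTower.toAlgHom k Γ(X, U) X.functionField) := by
      refine Algebra.adjoin_le ?_
      intro s hs
      show algebraMap Γ(X, U) X.functionField s ∈ F
      refine IntermediateField.subset_adjoin k _ ?_
      rw [Finset.coe_image]
      exact ⟨s, hs, rfl⟩
    exact h2 h1
  obtain ⟨a, b, hb, rfl⟩ := IsFractionRing.div_surjective (A := Γ(X, U)) z
  exact div_mem (hA a) (hA b)

/-- the function field of an integral curve of finite type over a field has transcendence
degree one -/
theorem trdeg_functionField [QuasiCompact (X ↘ Spec (CommRingCat.of k))]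
    (hX : ∀ x : X, IsClosed ({x} : Set X) → ringKrullDim (X.presheaf.stalk x) = 1) :
    Algebra.trdeg k X.functionField = 1 := by
  have hirr : closure ({genericPoint X} : Set X) ∈ irreducibleComponents (X : Type u) := by
    rw [(genericPoint_spec X).def, irreducibleComponents_eq_singleton]
    rfl
  have h1 := (Groth.Agent.S4442.result k X).mpr hX (genericPoint X) hirr
  letI := Curv2.resAlgebra k X (genericPoint X)
  have hbij : Function.Bijective (X.residue (genericPoint X)).hom := by
    refine ⟨?_, ?_⟩
    · exact RingHom.injective (R := X.functionField) (X.residue (genericPoint X)).hom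
    · exact IsLocalRing.residue_surjective
  let e : X.functionField ≃ₐ[k] X.residueField (genericPoint X) :=
    AlgEquiv.ofBijective
      { (X.residue (genericPoint X)).hom with
        commutes' := fun c => rfl } hbij
  rw [e.trdeg_eq]
  exact h1

end FF

end CurveComp9
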