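import Mathlib
import Groth.Prelude
import Groth.Agent.Lib.NormFieldFT_helper4
import Groth.Agent.Lib.Japanese_helper9
import Groth.Agent.Lib.NormalizationNormal_helper7

/-!
# Normalization of an integral curve in a finite extension of its function field (S4454) — helper4
-/

set_option autoImplicit false
universe u
open CategoryTheory CategoryTheory.Limits AlgebraicGeometry TopologicalSpace Opposite

namespace Groth.Agent.Lib.NormCurveKH4

theorem app_formula {X : Scheme.{u}} [IsIntegral X] (K : Type u) [Field K]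
    (φ : X.functionField →+* K) (U : X.Opens) (hη : genericPoint X ∈ U) :
    (Spec.map (CommRingCat.ofHom φ) ≫ X.fromSpecStalk (genericPoint X)).app U =
      X.presheaf.germ U (genericPoint X) hη ≫ CommRingCat.ofHom φ ≫
        (Scheme.ΓSpecIso (CommRingCat.of K)).inv ≫
        (Spec (CommRingCat.of K)).presheaf.map (homOfLE (le_top :
          (Spec.map (CommRingCat.ofHom φ) ≫ X.fromSpecStalk (genericPoint X)) ⁻¹ᵁ U ≤ ⊤)).op := by
  rw [Scheme.Hom.comp_app, Scheme.fromSpecStalk_app hη]
  simp only [Category.assoc]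
  congr 1
  rw [Scheme.Hom.naturality, ← Category.assoc]
  have h1 := Scheme.ΓSpecIso_inv_naturality (CommRingCat.ofHom φ)
  exact (congrArg (· ≫ _) h1.symm).trans (Category.assoc _ _ _)

theorem sec_data {X : Scheme.{u}} [IsIntegral X] (K : Type u) [Field K]
    (φ : X.functionField →+* K) (g : Spec (CommRingCat.of K) ⟶ X)
    (hg : g = Spec.map (CommRingCat.ofHom φ) ≫ X.fromSpecStalk (genericPoint X))
    (U : X.Opens) (hη : genericPoint X ∈ U) :
    ∃ r : K →+* Γ(Spec (CommRingCat.of K), g ⁻¹ᵁ U), Function.Bijective r ∧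
      ∀ a : Γ(X, U), (g.app U).hom a =
        r (φ ((X.presheaf.germ U (genericPoint X) hη).hom a)) := by
  subst hg
  have htop : (⊤ : (Spec (CommRingCat.of K)).Opens) ≤
      (Spec.map (CommRingCat.ofHom φ) ≫ X.fromSpecStalk (genericPoint X)) ⁻¹ᵁ U := by
    intro t _
    have h0 : X.fromSpecStalk (genericPoint X) ((Spec.map (CommRingCat.ofHom φ)) t) ∈
        Set.range (X.fromSpecStalk (genericPoint X)) := ⟨_, rfl⟩
    rw [Scheme.range_fromSpecStalk] at h0
    exact (h0 : _ ⤳ _).mem_open U.2 hη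
  have hbij1 := Groth.Agent.Lib.NormJapaneseH4.res_bijective_of_eq (Spec (CommRingCat.of K))
    (le_top : (Spec.map (CommRingCat.ofHom φ) ≫ X.fromSpecStalk (genericPoint X)) ⁻¹ᵁ U ≤ ⊤) htop
  have hbij2 : Function.Bijective (Scheme.ΓSpecIso (CommRingCat.of K)).inv.hom :=
    ConcreteCategory.bijective_of_isIso (Scheme.ΓSpecIso (CommRingCat.of K)).inv
  refine ⟨((Spec (CommRingCat.of K)).presheaf.map (homOfLE (le_top :
      (Spec.map (CommRingCat.ofHom φ) ≫ X.fromSpecStalk (genericPoint X)) ⁻¹ᵁ U ≤ ⊤)).op).hom.comp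
      (Scheme.ΓSpecIso (CommRingCat.of K)).inv.hom, hbij1.comp hbij2, fun a => ?_⟩
  exact congrArg (fun m => m.hom a) (app_formula K φ U hη)

theorem isFinite_part (k : Type u) [Field k] (X : Scheme.{u}) [X.Over (Spec (CommRingCat.of k))]
    [IsIntegral X] [LocallyOfFiniteType (X ↘ (Spec (CommRingCat.of k)))]
    (K : Type u) [Field K] (φ : X.functionField →+* K) (hφ : φ.Finite)
    (g : Spec (CommRingCat.of K) ⟶ X)
    (hg : g = Spec.map (CommRingCat.ofHom φ) ≫ X.fromSpecStalk (genericPoint X))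
    [QuasiCompact g] [QuasiSeparated g] : IsFinite g.fromNormalization := by
  refine Groth.Agent.Lib.NormFiniteH3.isFinite_fromNormalization_of_forall g (fun U => ?_)
  letI alg : Algebra Γ(X, U.1) Γ(Spec (CommRingCat.of K), g ⁻¹ᵁ U.1) :=
    (g.app U.1).hom.toAlgebra
  by_cases hne : Nonempty ((U.1 : X.Opens) : Scheme.{u})
  · haveI hne' : Nonempty ((U.1 : X.Opens) : Scheme.{u}) := hne
    have hη : genericPoint X ∈ U.1 :=
      (genericPoint_specializes hne.some.1).mem_open U.1.2 hne.some.2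
    obtain ⟨r, hr, hcomm⟩ := sec_data K φ g hg U.1 hη
    haveI hfr : IsFractionRing Γ(X, U.1) X.functionField :=
      functionField_isFractionRing_of_isAffineOpen X U.1 U.2
    have hN2' := (Groth.Agent.Lib.Japanese.isN2_iff_isN2' Γ(X, U.1)).mp
      (Groth.Agent.Lib.NormFieldFTH4.isN2_sections k X U.1 U.2 hne)
    letI algFK : Algebra X.functionField K := φ.toAlgebra
    letI algAK : Algebra Γ(X, U.1) K :=
      (φ.comp (algebraMap Γ(X, U.1) X.functionField)).toAlgebra
    haveI : IsScalarTower Γ(X, U.1) X.functionField K :=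
      IsScalarTower.of_algebraMap_eq (fun _ => rfl)
    have hfin : Module.Finite Γ(X, U.1) (integralClosure Γ(X, U.1) K) :=
      hN2' X.functionField K hφ
    let ρ : K ≃ₐ[Γ(X, U.1)] Γ(Spec (CommRingCat.of K), g ⁻¹ᵁ U.1) :=
      AlgEquiv.ofBijective { r with commutes' := fun a => (hcomm a).symm } hr
    exact Module.Finite.equiv ρ.mapIntegralClosure.toLinearEquiv
  · have hU : U.1 = ⊥ := by
      by_contra hUne
      obtain ⟨u, hu⟩ := (Opens.ne_bot_iff_nonempty U.1).mp hUne
      exact hne ⟨⟨u, hu⟩⟩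
    have hpre : g ⁻¹ᵁ U.1 = ⊥ := by rw [hU]; rfl
    haveI : Subsingleton Γ(Spec (CommRingCat.of K), g ⁻¹ᵁ U.1) := by
      rw [hpre]; infer_instance
    haveI : Subsingleton (integralClosure Γ(X, U.1) Γ(Spec (CommRingCat.of K), g ⁻¹ᵁ U.1)) :=
      ⟨fun a b => Subtype.ext (Subsingleton.elim _ _)⟩
    exact Module.Finite.of_finite

theorem dim_part {X : Scheme.{u}} [IsIntegral X]
    (hX : ∀ x : X, IsClosed ({x} : Set X) → ringKrullDim (X.presheaf.stalk x) = 1)
    (K : Type u) [Field K] (φ : X.functionField →+* K) (g : Spec (CommRingCat.of K) ⟶ X)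
    (hg : g = Spec.map (CommRingCat.ofHom φ) ≫ X.fromSpecStalk (genericPoint X))
    [QuasiCompact g] [QuasiSeparated g] (x' : g.normalization)
    (hx' : IsClosed ({x'} : Set g.normalization)) :
    ringKrullDim (g.normalization.presheaf.stalk x') = 1 := by
  haveI : IsIntegral g.normalization := inferInstance
  have hxcl : IsClosed ({g.fromNormalization x'} : Set X) := by
    have h := g.fromNormalization.isClosedMap _ hx'
    rwa [Set.image_singleton] at h
  have hdimx := hX _ hxcl
  obtain ⟨_, ⟨(U : X.Opens), hU, rfl⟩, hxU, -⟩ :=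
    X.isBasis_affineOpens.exists_subset_of_mem_open
      (Set.mem_univ (g.fromNormalization x')) isOpen_univ
  have hV : IsAffineOpen (g.fromNormalization ⁻¹ᵁ U) := hU.preimage g.fromNormalization
  have hx'V : x' ∈ g.fromNormalization ⁻¹ᵁ U := hxU
  haveI hneU : Nonempty ((U : X.Opens) : Scheme.{u}) := ⟨⟨_, hxU⟩⟩
  haveI hneV : Nonempty ((g.fromNormalization ⁻¹ᵁ U : g.normalization.Opens) : Scheme.{u}) :=
    ⟨⟨x', hx'V⟩⟩
  have hη : genericPoint X ∈ U := (genericPoint_specializes _).mem_open U.2 hxU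
  obtain ⟨r, hr, hcomm⟩ := sec_data K φ g hg U hη
  have hginj : Function.Injective (g.app U).hom := fun a b hab =>
    germ_injective_of_isIntegral X _ hη
      (φ.injective (hr.1 ((hcomm a).symm.trans (hab.trans (hcomm b)))))
  -- injectivity of `ν.app U`
  letI algAL : Algebra Γ(X, U) Γ(Spec (CommRingCat.of K), g ⁻¹ᵁ U) := (g.app U).hom.toAlgebra
  have happ := Scheme.Hom.fromNormalization_app g hU
  have hinv : Function.Injective (g.normalizationObjIso hU).inv.hom :=
    (ConcreteCategory.bijective_of_isIso (g.normalizationObjIso hU).inv).1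
  have hψinj : Function.Injective (g.fromNormalization.app U).hom := by
    intro a b hab
    have e1 := ((congrArg (fun m => m.hom a) happ).symm.trans hab).trans
      (congrArg (fun m => m.hom b) happ)
    have e2 : algebraMap Γ(X, U) (integralClosure Γ(X, U)
        Γ(Spec (CommRingCat.of K), g ⁻¹ᵁ U)) a = algebraMap Γ(X, U) (integralClosure Γ(X, U)
        Γ(Spec (CommRingCat.of K), g ⁻¹ᵁ U)) b := hinv e1
    exact hginj (congrArg Subtype.val e2)
  letI algAB : Algebra Γ(X, U) Γ(g.normalization, g.fromNormalization ⁻¹ᵁ U) :=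
    (g.fromNormalization.app U).hom.toAlgebra
  haveI hint : Algebra.IsIntegral Γ(X, U) Γ(g.normalization, g.fromNormalization ⁻¹ᵁ U) :=
    ⟨IsIntegralHom.isIntegral_app (f := g.fromNormalization) U hU⟩
  -- primes
  have hcomap := IsAffineOpen.comap_primeIdealOf_appLE (f := g.fromNormalization) (x := x') U hU
    (g.fromNormalization ⁻¹ᵁ U) hV le_rfl hx'V
  rw [Scheme.Hom.appLE_eq_app] at hcomap
  have hpq : Ideal.comap (algebraMap Γ(X, U) Γ(g.normalization, g.fromNormalization ⁻¹ᵁ U))
      (hV.primeIdealOf ⟨x', hx'V⟩).asIdeal = (hU.primeIdealOf ⟨g.fromNormalization x', hxU⟩).asIdeal :=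
    congrArg PrimeSpectrum.asIdeal hcomap
  -- stalk dimensions
  letI algBS : Algebra Γ(g.normalization, g.fromNormalization ⁻¹ᵁ U)
      (g.normalization.presheaf.stalk x') :=
    TopCat.Presheaf.algebra_section_stalk g.normalization.presheaf ⟨x', hx'V⟩
  haveI locB : IsLocalization.AtPrime (g.normalization.presheaf.stalk x')
      (hV.primeIdealOf ⟨x', hx'V⟩).asIdeal := hV.isLocalization_stalk ⟨x', hx'V⟩
  have hdimB : ringKrullDim (g.normalization.presheaf.stalk x') =
      (hV.primeIdealOf ⟨x', hx'V⟩).asIdeal.height :=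
    IsLocalization.AtPrime.ringKrullDim_eq_height _ _
  letI algAS : Algebra Γ(X, U) (X.presheaf.stalk (g.fromNormalization x')) :=
    TopCat.Presheaf.algebra_section_stalk X.presheaf ⟨g.fromNormalization x', hxU⟩
  haveI locA : IsLocalization.AtPrime (X.presheaf.stalk (g.fromNormalization x'))
      (hU.primeIdealOf ⟨g.fromNormalization x', hxU⟩).asIdeal :=
    hU.isLocalization_stalk ⟨g.fromNormalization x', hxU⟩
  have hdimA : ringKrullDim (X.presheaf.stalk (g.fromNormalization x')) =
      (hU.primeIdealOf ⟨g.fromNormalization x', hxU⟩).asIdeal.height :=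
    IsLocalization.AtPrime.ringKrullDim_eq_height _ _
  have hP1 : (hU.primeIdealOf ⟨g.fromNormalization x', hxU⟩).asIdeal.height = 1 :=
    WithBot.coe_eq_one.mp (hdimA.symm.trans hdimx)
  have hPle : (hU.primeIdealOf ⟨g.fromNormalization x', hxU⟩).asIdeal.height ≤ ((1 : ℕ) : ℕ∞) := by
    rw [hP1, Nat.cast_one]
  have hQle : (hV.primeIdealOf ⟨x', hx'V⟩).asIdeal.height ≤ ((1 : ℕ) : ℕ∞) := by
    refine Ideal.height_le_iff.mpr (fun q' hq' hlt => ?_)
    haveI := hq'
    have h1 : Ideal.comap (algebraMap Γ(X, U) Γ(g.normalization, g.fromNormalization ⁻¹ᵁ U)) q' <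
        Ideal.comap (algebraMap Γ(X, U) Γ(g.normalization, g.fromNormalization ⁻¹ᵁ U))
          (hV.primeIdealOf ⟨x', hx'V⟩).asIdeal := Ideal.IsIntegral.comap_lt_comap hlt
    have h2 := Ideal.height_le_iff.mp hPle _ inferInstance (lt_of_lt_of_eq h1 hpq)
    have h2' : (Ideal.comap (algebraMap Γ(X, U)
        Γ(g.normalization, g.fromNormalization ⁻¹ᵁ U)) q').height < 1 := by
      rwa [Nat.cast_one] at h2
    have h3 := ENat.lt_one_iff_eq_zero.mp h2'
    have h4 := Ideal.height_eq_zero_iff_eq_bot.mp h3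
    have h5 : q' = ⊥ := Ideal.IsIntegral.eq_bot_of_comap_eq_bot Γ(X, U) h4
    rw [h5, Ideal.height_bot, Nat.cast_one]
    exact zero_lt_one
  have hQne : (hV.primeIdealOf ⟨x', hx'V⟩).asIdeal ≠ ⊥ := by
    intro hbot
    have hPbot : (hU.primeIdealOf ⟨g.fromNormalization x', hxU⟩).asIdeal = ⊥ := by
      rw [← hpq, hbot]
      exact Ideal.comap_bot_of_injective _ hψinj
    exact Ideal.ne_bot_of_height_eq_one hP1 hPbot
  have hQge : 1 ≤ (hV.primeIdealOf ⟨x', hx'V⟩).asIdeal.height :=
    ENat.one_le_iff_ne_zero.mpr (fun h0 => hQne (Ideal.height_eq_zero_iff_eq_bot.mp h0))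
  have hQ1 : (hV.primeIdealOf ⟨x', hx'V⟩).asIdeal.height = 1 :=
    le_antisymm (by rwa [Nat.cast_one] at hQle) hQge
  rw [hdimB, hQ1]
  rfl

theorem main4454 (k : Type u) [Field k] (X : Scheme.{u})
    [X.Over (Spec (CommRingCat.of k))] [LocallyOfFiniteType (X ↘ (Spec (CommRingCat.of k)))]
    [IsIntegral X]
    (hX : ∀ x : X, IsClosed ({x} : Set X) → ringKrullDim (X.presheaf.stalk x) = 1)
    (K : Type u) [Field K] (φ : X.functionField →+* K) (hφ : φ.Finite)
    (g : Spec (CommRingCat.of K) ⟶ X)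
    (hg : g = Spec.map (CommRingCat.ofHom φ) ≫ X.fromSpecStalk (genericPoint X))
    [QuasiCompact g] [QuasiSeparated g] :
    IsFinite g.fromNormalization ∧ Pi1.IsNormalScheme g.normalization ∧
      ∀ x' : g.normalization, IsClosed ({x'} : Set g.normalization) →
        ringKrullDim (g.normalization.presheaf.stalk x') = 1 :=
  ⟨isFinite_part k X K φ hφ g hg,
   Groth.Agent.Lib.NormalizationNormalH7.isNormalScheme_normalization_of_isField
     (CommRingCat.of K) (Field.toIsField K) g,
   fun x' hx' => dim_part hX K φ g hg x' hx'⟩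

end Groth.Agent.Lib.NormCurveKH4
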