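import Groth.Agent.Lib.Norm2_helper8

/-!
# Normality descends along fibrations, II: integral closedness (helper8)
-/

universe u

open AlgebraicGeometry CategoryTheory TopologicalSpace Opposite Polynomial

namespace NormH8

/-- In an integrally closed domain, a homogeneous monic relation `P(a, b) = 0` with `b ≠ 0` forces
`b ∣ a`. -/
theorem dvd_of_scaleRoots_eval_eq_zero {R : Type*} [CommRing R] [IsDomain R]
    [IsIntegrallyClosed R] {a b : R} (hb : b ≠ 0) {p : R[X]} (hp : p.Monic)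
    (h : eval a (scaleRoots p b) = 0) : ∃ r, a = b * r := by
  obtain ⟨φ, hφ⟩ : ∃ φ : R →+* FractionRing R, φ = algebraMap R (FractionRing R) := ⟨_, rfl⟩
  have hinj : Function.Injective φ := hφ ▸ IsFractionRing.injective R (FractionRing R)
  have hφb : φ b ≠ 0 := fun h0 => hb (hinj (by rw [h0, map_zero]))
  have h1 : eval₂ φ (φ b * (φ a / φ b)) (scaleRoots p b) = 0 := by
    rw [mul_div_cancel₀ _ hφb, eval₂_at_apply, h, map_zero]
  rw [scaleRoots_eval₂_mul] at h1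
  have h2 : eval₂ φ (φ a / φ b) p = 0 := by
    rcases mul_eq_zero.1 h1 with h3 | h3
    · exact (pow_ne_zero _ hφb h3).elim
    · exact h3
  have h4 : IsIntegral R (φ a / φ b) := ⟨p, hp, by rw [← hφ]; exact h2⟩
  obtain ⟨r, hr⟩ := (isIntegrallyClosed_iff (FractionRing R)).1 inferInstance h4
  refine ⟨r, hinj ?_⟩
  rw [map_mul, hφ, hr, ← hφ, mul_div_cancel₀ _ hφb]

/-- Gluing quotients: if `B` is nonzero in every stalk over `W` and divides `A` in every stalk,
then `B` divides `A` over `W`. -/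
theorem exists_mul_eq_of_forall_stalk {X : Scheme.{u}}
    (hX : ∀ x : X, IsDomain (X.presheaf.stalk x)) {W : X.Opens} (A B : Γ(X, W))
    (hB : ∀ x (hx : x ∈ W), X.presheaf.germ W x hx B ≠ 0)
    (h : ∀ x (hx : x ∈ W), ∃ r : X.presheaf.stalk x,
      X.presheaf.germ W x hx A = X.presheaf.germ W x hx B * r) :
    ∃ r : Γ(X, W), A = B * r := by
  have h1 : ∀ x : W, ∃ (U : X.Opens) (_ : x.1 ∈ U) (hUW : U ≤ W) (s : Γ(X, U)),
      X.presheaf.map (homOfLE hUW).op A = X.presheaf.map (homOfLE hUW).op B * s := by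
    intro x
    obtain ⟨r, hr⟩ := h x.1 x.2
    obtain ⟨U₀, hxU₀, s₀, rfl⟩ := TopCat.Presheaf.exists_germ_eq (F := X.presheaf) r
    obtain ⟨U₁, hU₁⟩ : ∃ U₁ : X.Opens, U₁ = U₀ ⊓ W := ⟨_, rfl⟩
    have hxU₁ : x.1 ∈ U₁ := hU₁ ▸ ⟨hxU₀, x.2⟩
    have hU₁0 : U₁ ≤ U₀ := hU₁ ▸ inf_le_left
    have hU₁W : U₁ ≤ W := hU₁ ▸ inf_le_right
    have h2 : X.presheaf.germ U₁ x.1 hxU₁ (X.presheaf.map (homOfLE hU₁W).op A) =
        X.presheaf.germ U₁ x.1 hxU₁ (X.presheaf.map (homOfLE hU₁W).op B *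
          X.presheaf.map (homOfLE hU₁0).op s₀) := by
      rw [map_mul, TopCat.Presheaf.germ_res_apply, TopCat.Presheaf.germ_res_apply,
        TopCat.Presheaf.germ_res_apply]
      exact hr
    obtain ⟨U, hxU, i₁, i₂, hU⟩ := TopCat.Presheaf.germ_eq X.presheaf x.1 hxU₁ hxU₁ _ _ h2
    obtain rfl : i₁ = i₂ := Subsingleton.elim _ _
    refine ⟨U, hxU, i₁.le.trans hU₁W, X.presheaf.map i₁.op (X.presheaf.map (homOfLE hU₁0).op s₀),
      ?_⟩
    have h3 : ∀ (t : Γ(X, W)), X.presheaf.map (homOfLE (i₁.le.trans hU₁W)).op t =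
        X.presheaf.map i₁.op (X.presheaf.map (homOfLE hU₁W).op t) := fun t => by
      rw [← ConcreteCategory.comp_apply, ← Functor.map_comp]; rfl
    rw [h3, h3, hU]
    rw [map_mul]
  choose U hxU hUW s hs using h1
  have hcompat : TopCat.Presheaf.IsCompatible X.presheaf U s := by
    intro x x'
    refine TopCat.Presheaf.section_ext X.sheaf _ _ _ (fun z hz => ?_)
    haveI := hX z
    have hzW : z ∈ W := hUW x hz.1
    have k1 := congrArg (X.presheaf.germ (U x) z hz.1) (hs x)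
    have k2 := congrArg (X.presheaf.germ (U x') z hz.2) (hs x')
    rw [map_mul, TopCat.Presheaf.germ_res_apply, TopCat.Presheaf.germ_res_apply] at k1 k2
    change X.presheaf.germ _ z hz (X.presheaf.map (Opens.infLELeft (U x) (U x')).op (s x)) =
      X.presheaf.germ _ z hz (X.presheaf.map (Opens.infLERight (U x) (U x')).op (s x'))
    rw [TopCat.Presheaf.germ_res_apply, TopCat.Presheaf.germ_res_apply]
    have k3 : X.presheaf.germ W z hzW B * X.presheaf.germ (U x) z hz.1 (s x) =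
        X.presheaf.germ W z hzW B * X.presheaf.germ (U x') z hz.2 (s x') := by
      rw [← k1, ← k2]
    exact mul_left_cancel₀ (hB z hzW) k3
  have hcov : W ≤ ⨆ x, U x := fun z hz => Opens.mem_iSup.2 ⟨⟨z, hz⟩, hxU ⟨z, hz⟩⟩
  obtain ⟨r, hr, -⟩ := TopCat.Sheaf.existsUnique_gluing' X.sheaf U W
    (fun i => homOfLE (hUW i)) hcov _ hcompat
  obtain ⟨r', hr'⟩ : ∃ r' : Γ(X, W), r' = r := ⟨r, rfl⟩
  refine ⟨r', ?_⟩
  refine TopCat.Sheaf.eq_of_locally_eq' X.sheaf U W (fun i => homOfLE (hUW i)) hcov _ _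
    (fun x => ?_)
  change X.presheaf.map (homOfLE (hUW x)).op A = X.presheaf.map (homOfLE (hUW x)).op (B * r')
  rw [map_mul]
  have hr'' : X.presheaf.map (homOfLE (hUW x)).op r' = s x := hr' ▸ hr x
  rw [hr'']
  exact hs x

/-- Evaluating a scaled monic polynomial commutes with ring homomorphisms. -/
theorem eval_scaleRoots_map {R S : Type*} [CommRing R] [CommRing S] [Nontrivial S] (φ : R →+* S)
    {P : R[X]} (hP : P.Monic) (a b : R) :
    eval (φ a) (scaleRoots (P.map φ) (φ b)) = φ (eval a (scaleRoots P b)) := by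
  rw [← Polynomial.map_scaleRoots _ _ _ (by rw [hP.leadingCoeff, map_one]; exact one_ne_zero),
    Polynomial.eval_map, Polynomial.eval₂_at_apply]

/-- Finitely many germs lift to a common open neighbourhood. -/
theorem exists_lift_finset {Y : Scheme.{u}} (y : Y) (s : Finset (Y.presheaf.stalk y)) :
    ∃ (V : Y.Opens) (hy : y ∈ V), ∀ c ∈ s, ∃ c₀ : Γ(Y, V), Y.presheaf.germ V y hy c₀ = c := by
  classical
  induction s using Finset.induction_on with
  | empty => exact ⟨⊤, trivial, fun c hc => (Finset.notMem_empty c hc).elim⟩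
  | insert c s _ ih =>
    obtain ⟨V₁, hy₁, h₁⟩ := ih
    obtain ⟨V₂, hy₂, c₂, hc₂⟩ := TopCat.Presheaf.exists_germ_eq (F := Y.presheaf) c
    obtain ⟨V, hV⟩ : ∃ V : Y.Opens, V = V₁ ⊓ V₂ := ⟨_, rfl⟩
    have hyV : y ∈ V := hV ▸ ⟨hy₁, hy₂⟩
    have hV1 : V ≤ V₁ := hV ▸ inf_le_left
    have hV2 : V ≤ V₂ := hV ▸ inf_le_right
    refine ⟨V, hyV, fun d hd => ?_⟩
    rcases Finset.mem_insert.1 hd with rfl | hd
    · exact ⟨Y.presheaf.map (homOfLE hV2).op c₂, by
        rw [TopCat.Presheaf.germ_res_apply]; exact hc₂⟩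
    · obtain ⟨d₀, hd₀⟩ := h₁ d hd
      exact ⟨Y.presheaf.map (homOfLE hV1).op d₀, by
        rw [TopCat.Presheaf.germ_res_apply]; exact hd₀⟩

/-- Spreading out a homogeneous monic relation from a stalk to a neighbourhood. -/
theorem exists_spread {Y : Scheme.{u}} (y : Y) (a b : Y.presheaf.stalk y)
    (p : (Y.presheaf.stalk y)[X]) (hp : p.Monic) (h : eval a (scaleRoots p b) = 0) :
    ∃ (V : Y.Opens) (hy : y ∈ V) (a₀ b₀ : Γ(Y, V)) (P : Γ(Y, V)[X]), P.Monic ∧
      Y.presheaf.germ V y hy a₀ = a ∧ Y.presheaf.germ V y hy b₀ = b ∧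
      eval a₀ (scaleRoots P b₀) = 0 := by
  classical
  obtain ⟨V, hy, hV⟩ := exists_lift_finset y (insert a (insert b p.coeffs))
  obtain ⟨a₁, ha₁⟩ := hV a (Finset.mem_insert_self _ _)
  obtain ⟨b₁, hb₁⟩ := hV b (Finset.mem_insert_of_mem (Finset.mem_insert_self _ _))
  have hlift : p ∈ lifts (Y.presheaf.germ V y hy).hom := by
    rw [lifts_iff_coeff_lifts]
    intro n
    by_cases hn : p.coeff n = 0
    · exact ⟨0, by rw [hn, map_zero]⟩
    · obtain ⟨c₀, hc₀⟩ := hV _ (Finset.mem_insert_of_mem (Finset.mem_insert_of_mem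
        (coeff_mem_coeffs hn)))
      exact ⟨c₀, hc₀⟩
  obtain ⟨P₁, hP₁, -, hP₁m⟩ := lifts_and_natDegree_eq_and_monic hlift hp
  have h0 : Y.presheaf.germ V y hy (eval a₁ (scaleRoots P₁ b₁)) = Y.presheaf.germ V y hy 0 := by
    have := eval_scaleRoots_map (Y.presheaf.germ V y hy).hom hP₁m a₁ b₁
    rw [hP₁] at this
    change (Y.presheaf.germ V y hy).hom (eval a₁ (scaleRoots P₁ b₁)) = _
    rw [← this, map_zero]
    change eval (Y.presheaf.germ V y hy a₁) (scaleRoots p (Y.presheaf.germ V y hy b₁)) = 0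
    rw [ha₁, hb₁, h]
  obtain ⟨V', hyV', i₁, i₂, hV'⟩ := TopCat.Presheaf.germ_eq Y.presheaf y hy hy _ _ h0
  rw [map_zero] at hV'
  haveI : Nontrivial Γ(Y, V') := RingHom.domain_nontrivial (Y.presheaf.germ V' y hyV').hom
  refine ⟨V', hyV', Y.presheaf.map i₁.op a₁, Y.presheaf.map i₁.op b₁,
    P₁.map (Y.presheaf.map i₁.op).hom, hP₁m.map _, ?_, ?_, ?_⟩
  · rw [TopCat.Presheaf.germ_res_apply]; exact ha₁
  · rw [TopCat.Presheaf.germ_res_apply]; exact hb₁
  · exact (eval_scaleRoots_map (Y.presheaf.map i₁.op).hom hP₁m a₁ b₁).trans hV'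

section Fib

variable {X Y : Scheme.{u}} [IsLocallyNoetherian X]
  (hX : ∀ x : X, IsDomain (X.presheaf.stalk x))
  (hX' : ∀ x : X, IsIntegrallyClosed (X.presheaf.stalk x)) (f : X ⟶ Y)
  (hb : ∀ V : Y.Opens, Function.Bijective (f.app V))

include hX hX' hb in
/-- Local divisibility on the target of a fibration. -/
theorem exists_dvd_of_fibration {V : Y.Opens} {y : Y} (hy : y ∈ V) (a₀ b₀ : Γ(Y, V))
    (P : Γ(Y, V)[X]) (hP : P.Monic) (h : eval a₀ (scaleRoots P b₀) = 0)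
    (hb₀ : Y.presheaf.germ V y hy b₀ ≠ 0) :
    ∃ r : Y.presheaf.stalk y, Y.presheaf.germ V y hy a₀ = Y.presheaf.germ V y hy b₀ * r := by
  haveI := isDomain_stalk_of_fibration hX f hb y
  obtain ⟨e', he'⟩ := exists_indicator hX (f.app V b₀)
  obtain ⟨e, rfl⟩ := (hb V).2 e'
  have heb : e * b₀ = 0 := by
    refine (hb V).1 ?_
    rw [map_mul, map_zero]
    refine eq_zero_of_germ_eq_zero _ (fun x hx => ?_)
    rw [map_mul]
    by_cases h0 : X.presheaf.germ (f ⁻¹ᵁ V) x hx (f.app V b₀) = 0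
    · rw [h0, mul_zero]
    · rw [(he' x hx).2 h0, zero_mul]
  have hey : Y.presheaf.germ V y hy e = Y.presheaf.germ V y hy 0 := by
    have k := congrArg (Y.presheaf.germ V y hy) heb
    rw [map_mul, map_zero] at k
    rw [map_zero]
    exact (mul_eq_zero.1 k).resolve_right hb₀
  obtain ⟨V', hyV', i₁, i₂, hV'⟩ := TopCat.Presheaf.germ_eq Y.presheaf y hy hy _ _ hey
  rw [map_zero] at hV'
  -- the ring homomorphisms to the stalks of `X` over `V'`
  have hnat : ∀ (t : Γ(Y, V)) x (hx : x ∈ f ⁻¹ᵁ V'),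
      X.presheaf.germ (f ⁻¹ᵁ V') x hx (f.app V' (Y.presheaf.map i₁.op t)) =
        X.presheaf.germ (f ⁻¹ᵁ V) x (i₁.le hx) (f.app V t) := by
    intro t x hx
    have := congrArg (fun φ => X.presheaf.germ (f ⁻¹ᵁ V') x hx (φ t))
      (congrArg (fun ψ => (ConcreteCategory.hom ψ : Γ(Y, V) → Γ(X, f ⁻¹ᵁ V')))
        (f.naturality i₁.op))
    simp only [ConcreteCategory.comp_apply] at this
    rw [this, TopCat.Presheaf.germ_res_apply]
  have hB : ∀ x (hx : x ∈ f ⁻¹ᵁ V'),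
      X.presheaf.germ (f ⁻¹ᵁ V') x hx (f.app V' (Y.presheaf.map i₁.op b₀)) ≠ 0 := by
    intro x hx h0
    rw [hnat] at h0
    have h1 := (he' x (i₁.le hx)).1 h0
    rw [← hnat e x hx, hV', map_zero, map_zero] at h1
    exact zero_ne_one h1
  have hdiv : ∀ x (hx : x ∈ f ⁻¹ᵁ V'), ∃ r : X.presheaf.stalk x,
      X.presheaf.germ (f ⁻¹ᵁ V') x hx (f.app V' (Y.presheaf.map i₁.op a₀)) =
        X.presheaf.germ (f ⁻¹ᵁ V') x hx (f.app V' (Y.presheaf.map i₁.op b₀)) * r := by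
    intro x hx
    haveI := hX x
    haveI := hX' x
    obtain ⟨φ, hφ⟩ : ∃ φ : Γ(Y, V) →+* X.presheaf.stalk x, φ =
        (X.presheaf.germ (f ⁻¹ᵁ V') x hx).hom.comp
          ((f.app V').hom.comp (Y.presheaf.map i₁.op).hom) := ⟨_, rfl⟩
    have h1 := eval_scaleRoots_map φ hP a₀ b₀
    rw [h, map_zero] at h1
    have h2 := dvd_of_scaleRoots_eval_eq_zero (R := X.presheaf.stalk x) (a := φ a₀) (b := φ b₀)
      (by rw [hφ]; exact hB x hx) (hP.map φ) h1
    rw [hφ] at h2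
    exact h2
  obtain ⟨r', hr'⟩ := exists_mul_eq_of_forall_stalk hX _ _ hB hdiv
  obtain ⟨r₀, rfl⟩ := (hb V').2 r'
  rw [← map_mul] at hr'
  have hr₀ := (hb V').1 hr'
  refine ⟨Y.presheaf.germ V' y hyV' r₀, ?_⟩
  rw [← TopCat.Presheaf.germ_res_apply Y.presheaf i₁ y hyV' a₀,
    ← TopCat.Presheaf.germ_res_apply Y.presheaf i₁ y hyV' b₀, hr₀, map_mul]

include hX hX' hb in
/-- **Normality descends along fibrations** `O_Y ≅ f_* O_X` from a locally Noetherian scheme. -/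
theorem isIntegrallyClosed_stalk_of_fibration' (y : Y) :
    IsIntegrallyClosed (Y.presheaf.stalk y) := by
  haveI := isDomain_stalk_of_fibration hX f hb y
  obtain ⟨R, hR⟩ : ∃ R : Type u, R = Y.presheaf.stalk y := ⟨_, rfl⟩
  rw [isIntegrallyClosed_iff (FractionRing (Y.presheaf.stalk y))]
  intro q hq
  obtain ⟨p, hp, hpq⟩ := hq
  obtain ⟨a, b, hb0, rfl⟩ := IsFractionRing.div_surjective (A := Y.presheaf.stalk y) q
  have hinj := IsFractionRing.injective (Y.presheaf.stalk y) (FractionRing (Y.presheaf.stalk y))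
  have h1 := scaleRoots_eval₂_eq_zero_of_eval₂_div_eq_zero hinj hpq hb0
  rw [eval₂_at_apply] at h1
  have h2 : eval a (scaleRoots p b) = 0 := hinj (by rw [h1, map_zero])
  have hb1 : b ≠ 0 := nonZeroDivisors.ne_zero hb0
  obtain ⟨V, hy, a₀, b₀, P, hP, rfl, rfl, hE⟩ := exists_spread y a b p hp h2
  obtain ⟨r, hr⟩ := exists_dvd_of_fibration hX hX' f hb hy a₀ b₀ P hP hE hb1
  refine ⟨r, ?_⟩
  rw [hr, map_mul, mul_div_cancel_left₀]
  exact fun h0 => hb1 (hinj (by rw [h0, map_zero]))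

end Fib

end NormH8
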