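import Mathlib
import Groth.Prelude
import Groth.Agent.Lib.CDivUFD_helper5

/-!
# Codimension one cycles on a normal scheme: order lemmas at the generizations of a point (helper5).
APPEND-ONLY once landed.
-/

set_option autoImplicit false
universe u

open CategoryTheory IsLocalRing AlgebraicGeometry TopologicalSpace Opposite

namespace Groth.Agent.PrincCyc

open Groth.Agent.CDivUFD

variable {X : Scheme.{u}} [IsIntegral X]

/-- every prime of the local ring at `x` is the prime of a generization of `x` -/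
theorem exists_genPrime_eq' (x : X) (𝔭 : Ideal (X.presheaf.stalk x)) [h𝔭 : 𝔭.IsPrime] :
    ∃ (x₀ : X) (h : x₀ ⤳ x), 𝔭 = genPrime h := by
  obtain ⟨_, ⟨W, hW : IsAffineOpen W, rfl⟩, hxW, -⟩ :=
    (X.isBasis_affineOpens).exists_subset_of_mem_open (Set.mem_univ x) isOpen_univ
  have hx : x ∈ W := hxW
  letI a1 := TopCat.Presheaf.algebra_section_stalk X.presheaf (⟨x, hx⟩ : W)
  haveI : IsLocalization.AtPrime (X.presheaf.stalk x) (hW.primeIdealOf ⟨x, hx⟩).asIdeal :=
    hW.isLocalization_stalk ⟨x, hx⟩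
  have hcomap : (maximalIdeal (X.presheaf.stalk x)).comap
      (algebraMap Γ(X, W) (X.presheaf.stalk x)) = (hW.primeIdealOf ⟨x, hx⟩).asIdeal := by
    rw [hW.primeIdealOf_eq_map_closedPoint]
    rfl
  haveI hPp : (𝔭.comap (algebraMap Γ(X, W) (X.presheaf.stalk x))).IsPrime := Ideal.IsPrime.comap _
  obtain ⟨x₀, hx₀, hP₀⟩ := Groth.Agent.Hartogs.exists_point hW
    (𝔭.comap (algebraMap Γ(X, W) (X.presheaf.stalk x)))
  have hle : hW.primeIdealOf ⟨x₀, hx₀⟩ ≤ hW.primeIdealOf ⟨x, hx⟩ := by
    show (hW.primeIdealOf ⟨x₀, hx₀⟩).asIdeal ≤ (hW.primeIdealOf ⟨x, hx⟩).asIdeal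
    rw [hP₀, ← hcomap]
    exact Ideal.comap_mono (IsLocalRing.le_maximalIdeal h𝔭.ne_top)
  have hspec : x₀ ⤳ x := by
    have h1 : hW.primeIdealOf ⟨x₀, hx₀⟩ ⤳ hW.primeIdealOf ⟨x, hx⟩ :=
      (PrimeSpectrum.le_iff_specializes _ _).mp hle
    have h2 := h1.map hW.fromSpec.continuous
    rwa [hW.fromSpec_primeIdealOf, hW.fromSpec_primeIdealOf] at h2
  refine ⟨x₀, hspec, ?_⟩
  have h1 := IsLocalization.map_under (hW.primeIdealOf ⟨x, hx⟩).asIdeal.primeCompl
    (X.presheaf.stalk x) 𝔭
  rw [Ideal.under, ← hP₀] at h1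
  rw [← h1]
  exact map_primeIdealOf hW hx hspec

/-- inclusions of primes of generizations are specializations -/
theorem specializes_of_genPrime_le {x₁ x₂ x : X} (h₁ : x₁ ⤳ x) (h₂ : x₂ ⤳ x)
    (hle : genPrime h₁ ≤ genPrime h₂) : x₁ ⤳ x₂ := by
  obtain ⟨_, ⟨W, hW : IsAffineOpen W, rfl⟩, hxW, -⟩ :=
    (X.isBasis_affineOpens).exists_subset_of_mem_open (Set.mem_univ x) isOpen_univ
  have hx : x ∈ W := hxW
  have hx₁ : x₁ ∈ W := h₁.mem_open W.isOpen hx
  have hx₂ : x₂ ∈ W := h₂.mem_open W.isOpen hx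
  have e1 := comap_genPrime hW hx h₁
  have e2 := comap_genPrime hW hx h₂
  have hle' : hW.primeIdealOf ⟨x₁, hx₁⟩ ≤ hW.primeIdealOf ⟨x₂, hx₂⟩ := by
    show (hW.primeIdealOf ⟨x₁, hx₁⟩).asIdeal ≤ (hW.primeIdealOf ⟨x₂, hx₂⟩).asIdeal
    rw [← e1, ← e2]
    exact Ideal.comap_mono hle
  have h1 : hW.primeIdealOf ⟨x₁, hx₁⟩ ⤳ hW.primeIdealOf ⟨x₂, hx₂⟩ :=
    (PrimeSpectrum.le_iff_specializes _ _).mp hle'
  have h2 := h1.map hW.fromSpec.continuous
  rwa [hW.fromSpec_primeIdealOf, hW.fromSpec_primeIdealOf] at h2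

/-- the prime of the trivial generization is the maximal ideal -/
theorem genPrime_eq_maximalIdeal_of_eq {x₀ x : X} (h : x₀ ⤳ x) (he : x₀ = x) :
    genPrime h = maximalIdeal (X.presheaf.stalk x) := by
  subst he
  unfold genPrime
  rw [TopCat.Presheaf.stalkSpecializes_refl]
  rfl

theorem notMem_genPrime_iff {x₀ x : X} (h : x₀ ⤳ x) (a : X.presheaf.stalk x) :
    a ∉ genPrime h ↔ IsUnit ((X.presheaf.stalkSpecializes h).hom a) := by
  show ¬ ((X.presheaf.stalkSpecializes h).hom a ∈ maximalIdeal (X.presheaf.stalk x₀)) ↔ _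
  rw [IsLocalRing.mem_maximalIdeal, mem_nonunits_iff, not_not]

variable [IsLocallyNoetherian X]

theorem alg_ne_zero (x : X) {a : X.presheaf.stalk x} (ha : a ≠ 0) :
    algebraMap (X.presheaf.stalk x) X.functionField a ≠ 0 := by
  intro h0
  exact ha ((map_eq_zero_iff _ (IsFractionRing.injective (X.presheaf.stalk x)
    X.functionField)).mp h0)

theorem ord_pow (f : X.functionField) (hf : f ≠ 0) (N : ℕ) (z : X) :
    Scheme.ord (f ^ N) z = N * Scheme.ord f z := by
  induction N with
  | zero => simp [ord_one]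
  | succ n ih =>
    rw [pow_succ, Scheme.ord_mul (pow_ne_zero n hf) hf, ih]
    push_cast
    ring

theorem ord_zpow (f : X.functionField) (hf : f ≠ 0) (n : ℤ) (z : X) :
    Scheme.ord (f ^ n) z = n * Scheme.ord f z := by
  obtain ⟨m, rfl | rfl⟩ := n.eq_nat_or_neg
  · rw [zpow_natCast, ord_pow f hf]
  · rw [zpow_neg, zpow_natCast, ord_inv _ (pow_ne_zero m hf), ord_pow f hf]
    ring

/-- functions regular at `x` have non-negative order at the codimension one generizations -/
theorem ord_alg_nonneg (hX : Pi1.IsNormalScheme X) {x' x : X} (hsp : x' ⤳ x)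
    (hco : Order.coheight x' = 1) {a : X.presheaf.stalk x} (ha : a ≠ 0) :
    0 ≤ Scheme.ord (algebraMap (X.presheaf.stalk x) X.functionField a) x' := by
  rw [Groth.Agent.CDivNormal.zero_le_ord_iff hX x' hco _ (alg_ne_zero x ha)]
  exact ⟨(X.presheaf.stalkSpecializes hsp).hom a, algebraMap_spec hsp a⟩

theorem ord_alg_eq_zero {x' x : X} (hsp : x' ⤳ x) {a : X.presheaf.stalk x}
    (ha : a ∉ genPrime hsp) :
    Scheme.ord (algebraMap (X.presheaf.stalk x) X.functionField a) x' = 0 := by
  rw [notMem_genPrime_iff] at ha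
  have h1 := Groth.Agent.OrdFin.ord_eq_zero_of_unit x' ha.unit
  rwa [IsUnit.unit_spec, algebraMap_spec hsp a] at h1

theorem ord_alg_pos (hX : Pi1.IsNormalScheme X) {x' x : X} (hsp : x' ⤳ x)
    (hco : Order.coheight x' = 1) {a : X.presheaf.stalk x} (ha0 : a ≠ 0) (ha : a ∈ genPrime hsp) :
    1 ≤ Scheme.ord (algebraMap (X.presheaf.stalk x) X.functionField a) x' := by
  have h1 := ord_alg_nonneg hX hsp hco ha0
  have h2 : Scheme.ord (algebraMap (X.presheaf.stalk x) X.functionField a) x' ≠ 0 := by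
    intro h0
    rw [Groth.Agent.CDivNormal.ord_eq_zero_iff hX x' hco _ (alg_ne_zero x ha0)] at h0
    obtain ⟨u, hu⟩ := h0
    rw [← algebraMap_spec hsp a] at hu
    have h3 : (u : X.presheaf.stalk x') = (X.presheaf.stalkSpecializes hsp).hom a :=
      IsFractionRing.injective (X.presheaf.stalk x') X.functionField hu
    have h4 : (X.presheaf.stalkSpecializes hsp).hom a ∈ maximalIdeal (X.presheaf.stalk x') := ha
    rw [IsLocalRing.mem_maximalIdeal, mem_nonunits_iff, ← h3] at h4
    exact h4 u.isUnit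
  omega

/-- only finitely many codimension one generizations of `x` are zeros or poles of `f` -/
theorem finite_gen_ord_ne_zero (x : X) (f : X.functionField) (hf : f ≠ 0) :
    {z : X | z ⤳ x ∧ Order.coheight z = 1 ∧ Scheme.ord f z ≠ 0}.Finite := by
  obtain ⟨_, ⟨W, hW : IsAffineOpen W, rfl⟩, hxW, -⟩ :=
    (X.isBasis_affineOpens).exists_subset_of_mem_open (Set.mem_univ x) isOpen_univ
  have hx : x ∈ W := hxW
  apply (Groth.Agent.OrdFin.finite_ord_ne_zero hW f hf).subset
  rintro z ⟨hz, hco, hne⟩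
  exact ⟨hz.mem_open W.isOpen hx, hco, hne⟩

/-- **Hartogs with poles along `h`**: a rational function whose poles (among the codimension one
generizations of `x`) lie on `h = 0` becomes regular at `x` after multiplication by a power of
`h`. -/
theorem exists_mul_pow (hX : Pi1.IsNormalScheme X) (x : X) (h : X.presheaf.stalk x) (hh : h ≠ 0)
    (u : X.functionField) (hu : u ≠ 0)
    (H : ∀ (x' : X) (hsp : x' ⤳ x), Order.coheight x' = 1 → h ∉ genPrime hsp →
      0 ≤ Scheme.ord u x') :
    ∃ (N : ℕ) (a : X.presheaf.stalk x),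
      u * algebraMap (X.presheaf.stalk x) X.functionField (h ^ N) =
        algebraMap (X.presheaf.stalk x) X.functionField a := by
  classical
  have hfin := finite_gen_ord_ne_zero x u hu
  let N : ℕ := hfin.toFinset.sup (fun z => (- Scheme.ord u z).toNat)
  have hN : ∀ z : X, z ⤳ x → Order.coheight z = 1 → - Scheme.ord u z ≤ N := by
    intro z hz hco
    by_cases h0 : Scheme.ord u z = 0
    · rw [h0]; simp
    · have hmem : z ∈ hfin.toFinset := hfin.mem_toFinset.mpr ⟨hz, hco, h0⟩
      have h1 : (- Scheme.ord u z).toNat ≤ N :=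
        Finset.le_sup (f := fun z => (- Scheme.ord u z).toNat) hmem
      omega
  have hhK := alg_ne_zero x hh
  have hmem : u * algebraMap (X.presheaf.stalk x) X.functionField (h ^ N) ∈
      Set.range (algebraMap (X.presheaf.stalk x) X.functionField) := by
    apply mem_range_of_codim_one hX
    intro z hz hco
    have hne : u * algebraMap (X.presheaf.stalk x) X.functionField (h ^ N) ≠ 0 :=
      mul_ne_zero hu (alg_ne_zero x (pow_ne_zero N hh))
    rw [← Groth.Agent.CDivNormal.zero_le_ord_iff hX z hco _ hne, map_pow,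
      Scheme.ord_mul hu (pow_ne_zero N hhK), ord_pow _ hhK]
    by_cases hmem : h ∈ genPrime hz
    · have h1 := ord_alg_pos hX hz hco hh hmem
      have h2 := hN z hz hco
      nlinarith
    · have h1 := ord_alg_eq_zero hz hmem
      have h2 := H z hz hco hmem
      rw [h1]
      simpa using h2
  obtain ⟨a, ha⟩ := hmem
  exact ⟨N, a, ha.symm⟩

/-- units away from `h` have order zero at the codimension one generizations off `h = 0` -/
theorem ord_eq_zero_of_unitAway (hX : Pi1.IsNormalScheme X) {x' x : X} (hsp : x' ⤳ x)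
    (hco : Order.coheight x' = 1) (h : X.presheaf.stalk x) (hh : h ∉ genPrime hsp)
    (u : X.functionField) (hu : u ≠ 0) (a a' : X.presheaf.stalk x) (N : ℕ)
    (h1 : u * algebraMap (X.presheaf.stalk x) X.functionField (h ^ N) =
      algebraMap (X.presheaf.stalk x) X.functionField a)
    (h2 : u⁻¹ * algebraMap (X.presheaf.stalk x) X.functionField (h ^ N) =
      algebraMap (X.presheaf.stalk x) X.functionField a') :
    Scheme.ord u x' = 0 := by
  have hh0 : h ≠ 0 := by
    rintro rfl
    exact hh (Ideal.zero_mem _)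
  have hhK := alg_ne_zero x hh0
  have hhN : algebraMap (X.presheaf.stalk x) X.functionField (h ^ N) ≠ 0 :=
    alg_ne_zero x (pow_ne_zero N hh0)
  have ha0 : a ≠ 0 := by
    rintro rfl
    rw [map_zero] at h1
    exact mul_ne_zero hu hhN h1
  have ha'0 : a' ≠ 0 := by
    rintro rfl
    rw [map_zero] at h2
    exact mul_ne_zero (inv_ne_zero hu) hhN h2
  have e0 : Scheme.ord (algebraMap (X.presheaf.stalk x) X.functionField (h ^ N)) x' = 0 := by
    rw [map_pow, ord_pow _ hhK, ord_alg_eq_zero hsp hh, mul_zero]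
  have e1 := congrArg (fun f => Scheme.ord f x') h1
  have e2 := congrArg (fun f => Scheme.ord f x') h2
  beta_reduce at e1 e2
  rw [Scheme.ord_mul hu hhN, e0, add_zero] at e1
  rw [Scheme.ord_mul (inv_ne_zero hu) hhN, e0, add_zero, ord_inv u hu] at e2
  have p1 := ord_alg_nonneg hX hsp hco ha0
  have p2 := ord_alg_nonneg hX hsp hco ha'0
  omega

/-! ### coheight -/

theorem coheight_ne_top (x : X) : Order.coheight x ≠ ⊤ := by
  intro h
  have h1 := AlgebraicGeometry.ringKrullDim_stalk_eq_coheight x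
  have h2 := ringKrullDim_ne_top (R := X.presheaf.stalk x)
  rw [h1, h] at h2
  exact h2 rfl

theorem coheight_lt_of_specializes {x₀ x : X} (h : x₀ ⤳ x) (hne : x₀ ≠ x) :
    Order.coheight x₀ < Order.coheight x := by
  have hle : x ≤ x₀ := Scheme.le_iff_specializes.mpr h
  have hlt : x < x₀ := by
    refine lt_of_le_not_ge hle ?_
    intro hge
    have h' : x ⤳ x₀ := Scheme.le_iff_specializes.mp hge
    exact hne (h.antisymm h').eq
  exact Order.coheight_strictAnti hlt (lt_top_iff_ne_top.mpr (coheight_ne_top x₀))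

theorem coheight_le_of_specializes {x₀ x : X} (h : x₀ ⤳ x) :
    Order.coheight x₀ ≤ Order.coheight x :=
  Order.coheight_anti (Scheme.le_iff_specializes.mpr h)

/-- the case of local rings of dimension at most one -/
theorem principal_of_dim_lt_two (hX : Pi1.IsNormalScheme X) (Z : X → ℤ) (x : X)
    (hdim : ¬ (2 : WithBot ℕ∞) ≤ ringKrullDim (X.presheaf.stalk x)) :
    ∃ f : X.functionField, f ≠ 0 ∧
      ∀ x' : X, Order.coheight x' = 1 → x' ⤳ x → Z x' = Scheme.ord f x' := by
  rw [AlgebraicGeometry.ringKrullDim_stalk_eq_coheight] at hdim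
  have hlt : Order.coheight x < 2 := by
    by_contra hge
    rw [not_lt] at hge
    exact hdim (WithBot.coe_le_coe.mpr hge)
  by_cases hx1 : Order.coheight x = 1
  · haveI := Groth.Agent.CDivNormal.dvr_of_coheight hX x hx1
    obtain ⟨b, hb⟩ := IsDiscreteValuationRing.exists_irreducible (X.presheaf.stalk x)
    have hspan : Ideal.span {b} = maximalIdeal (X.presheaf.stalk x) :=
      ((IsDiscreteValuationRing.irreducible_iff_uniformizer b).mp hb).symm
    have hord := ord_eq_one_of_span hX x hx1 b hspan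
    have hbK := alg_ne_zero x hb.ne_zero
    refine ⟨(algebraMap (X.presheaf.stalk x) X.functionField b) ^ (Z x), zpow_ne_zero _ hbK, ?_⟩
    intro x' hco hsp
    have hxx : x' = x := by
      by_contra hne
      have := coheight_lt_of_specializes hsp hne
      rw [hco, hx1] at this
      exact lt_irrefl _ this
    subst hxx
    rw [ord_zpow _ hbK, hord, mul_one]
  · refine ⟨1, one_ne_zero, ?_⟩
    intro x' hco hsp
    exfalso
    have h1 := coheight_le_of_specializes hsp
    rw [hco] at h1
    have h2 : Order.coheight x = 1 := by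
      apply le_antisymm _ h1
      simpa using hlt
    exact hx1 h2

end Groth.Agent.PrincCyc
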