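import Mathlib
import Groth.Prelude
import Groth.Agent.Lib.FLF6_helper8
import Groth.Agent.Lib.FinCov3_helper8
import Groth.Agent.Lib.InvLocFree_helper7
import Groth.Agent.Lib.GenLoc_helper8

/-!
# Invertible modules over an affine open with trivial Picard group (helper5).
APPEND-ONLY once landed.

An invertible module `L` on a scheme has a generating section over every affine open `U` whose
ring of functions has trivial Picard group.
-/

set_option autoImplicit false
universe u
open CategoryTheory AlgebraicGeometry TopologicalSpace Opposite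

noncomputable section

namespace Groth.Agent.PicAff

open QcqsLoc QCohExtn GenLocH8 FLFH8

/-- A finite flat module of constant rank one is invertible. -/
theorem invertible_of_rankAtStalk_eq_one {B : Type u} [CommRing B] (M : Type u) [AddCommGroup M]
    [Module B M] [Module.Finite B M] [Module.Flat B M]
    (h : ∀ p : PrimeSpectrum B, Module.rankAtStalk M p = 1) : Module.Invertible B M := by
  let s : Set B :=
    {a | Nonempty (LocalizedModule.Away a M ≃ₗ[Localization.Away a] Localization.Away a)}
  refine Groth.Agent.Lib.InvLocFreeH7.main s ?_ (fun f hf => hf)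
  by_contra hne
  obtain ⟨m, hm, hsm⟩ := Ideal.exists_le_maximal _ hne
  haveI := hm
  obtain ⟨a, ha, hfree⟩ := Module.Free.away_of_finite_of_flat_of_rankAtStalk_constant M m
    (fun m' _ => by rw [h, h])
  apply ha
  apply hsm
  apply Ideal.subset_span
  haveI := hfree
  haveI : Nontrivial (Localization.Away a) := by
    by_contra hcon
    rw [not_nontrivial_iff_subsingleton] at hcon
    have h0 : (0 : Localization.Away a) = 1 := Subsingleton.elim _ _
    have h1 := (IsLocalization.map_eq_zero_iff (Submonoid.powers a) (Localization.Away a)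
      (1 : B)).mp (by rw [map_one]; exact h0.symm)
    obtain ⟨⟨_, n, rfl⟩, hn⟩ := h1
    rw [mul_one] at hn
    have hn' : a ^ n = 0 := hn
    exact ha (hm.isPrime.mem_of_pow_mem n (hn' ▸ m.zero_mem))
  obtain ⟨q⟩ : Nonempty (PrimeSpectrum (Localization.Away a)) := inferInstance
  have h2 : Module.rankAtStalk (LocalizedModule.Away a M) q = 1 := by
    rw [Module.rankAtStalk_isBaseChange
      (LocalizedModule.isBaseChange (Submonoid.powers a) M) q]
    exact h _
  have h3 : Module.finrank (Localization.Away a) (LocalizedModule.Away a M) = 1 := by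
    rw [← h2, Module.rankAtStalk_eq_finrank_of_free]
    rfl
  exact ⟨LinearEquiv.ofFinrankEq _ _ (by rw [h3, Module.finrank_self])⟩

variable {X : Scheme.{u}}

/-- **Generator over an affine open with trivial Picard group.** -/
theorem exists_isGen_of_pic {L : X.Modules} (hL : PicF.IsInvertible L) {U : X.Opens}
    (hU : IsAffineOpen U) [Subsingleton (CommRing.Pic Γ(X, U))] :
    ∃ e : Γ(L, U), IsGen L U e := by
  have hE := finLocFreeOfRank_one_of_isInvertible hL
  have hE' := IsFinLocFreeOfRank.isFinLocFree L hE
  haveI := isQuasicoherent_of_finLocFree L hE'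
  haveI := isFinitePresentation_of_finLocFree L hE'
  haveI : Module.FinitePresentation Γ(X, U) Γ(L, U) :=
    QCohFP2.finitePresentation_of_isFinitePresentation L hU
  haveI : Module.Flat Γ(X, U) Γ(L, U) := flat_sections_of_flat_stalks L hU (fun x _ => by
    haveI := (free_stalk_of_finLocFreeOfRank L hE x).1
    infer_instance)
  have hrank : ∀ p : PrimeSpectrum Γ(X, U), Module.rankAtStalk Γ(L, U) p = 1 := by
    intro p
    have hz : hU.fromSpec p ∈ U := by
      have : hU.fromSpec p ∈ hU.fromSpec.opensRange := ⟨p, rfl⟩
      rwa [hU.opensRange_fromSpec] at this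
    have hp : hU.primeIdealOf ⟨hU.fromSpec p, hz⟩ = p := by
      apply hU.fromSpec.isOpenEmbedding.injective
      exact hU.fromSpec_primeIdealOf ⟨hU.fromSpec p, hz⟩
    rw [← hp, rankAtStalk_sections L hU hz]
    exact (free_stalk_of_finLocFreeOfRank L hE _).2
  haveI : Module.Invertible Γ(X, U) Γ(L, U) := invertible_of_rankAtStalk_eq_one _ hrank
  obtain ⟨θ⟩ := (Module.Invertible.free_iff_linearEquiv (R := Γ(X, U)) (M := Γ(L, U))).mp
    inferInstance
  let t : Fin 1 → Γ(L, U) := fun _ => θ.symm 1
  have hspan : Submodule.span Γ(X, U) (Set.range t) = ⊤ := by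
    rw [eq_top_iff]
    intro l _
    have hl : l = θ l • θ.symm 1 := by
      apply θ.injective
      rw [map_smul, θ.apply_symm_apply, smul_eq_mul, mul_one]
    rw [hl]
    exact Submodule.smul_mem _ _ (Submodule.subset_span ⟨0, rfl⟩)
  have hli : LinearIndependent Γ(X, U) t := by
    rw [Fintype.linearIndependent_iff]
    intro c hc i
    have h1 : c 0 • θ.symm 1 = 0 := by simpa [t] using hc
    have h2 := congrArg θ h1
    rw [map_smul, θ.apply_symm_apply, smul_eq_mul, mul_one, map_zero] at h2
    obtain rfl : i = 0 := Subsingleton.elim _ _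
    exact h2
  obtain ⟨α⟩ := iso_of_basis L hU t hspan hli
  obtain ⟨t', ht'⟩ := exists_sections_of_iso L α
  have hle : U ≤ U.ι ''ᵁ ⊤ := le_of_eq U.ι_image_top.symm
  refine ⟨rF L hle (t' 0), fun O hO => ?_⟩
  obtain ⟨hsp, hli'⟩ := ht' O (hO.trans hle)
  rw [rF_rF]
  constructor
  · intro l
    have hl : l ∈ Submodule.span Γ(X, O)
        (Set.range fun j => rF L (hO.trans hle) (t' j)) := hsp ▸ Submodule.mem_top
    obtain ⟨c, hc⟩ := (Submodule.mem_span_range_iff_exists_fun _).1 hl
    refine ⟨c 0, ?_⟩
    rw [← hc]
    simp
  · intro c hc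
    exact Fintype.linearIndependent_iff.1 hli' (fun _ => c) (by simpa using hc) 0

end Groth.Agent.PicAff
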