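import Mathlib
import Groth.Prelude
import Groth.Agent.Lib.Tens16_helper8

/-!
# Charts of an open subscheme of `Spec R` (helper5).  APPEND-ONLY once landed.

`g : Y ⟶ Spec R` an open immersion.  A chart is an open `V = g⁻¹ D(s)` with `D(s) ⊆ g(Y)`, `s ≠ 0`;
its ring of functions is `R[1/s]`.
-/

set_option autoImplicit false
universe u
open CategoryTheory AlgebraicGeometry TopologicalSpace Opposite

noncomputable section

namespace Groth.Agent.PicUfd

open QcqsLoc

variable {R : CommRingCat.{u}} {Y : Scheme.{u}} (g : Y ⟶ Spec R)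

/-- the structure map `R → Γ(Y, V)` -/
def rho (V : Y.Opens) : R →+* Γ(Y, V) :=
  (rX (le_top : V ≤ ⊤)).comp ((g.appTop).hom.comp (Scheme.ΓSpecIso R).inv.hom)

theorem rX_rho {V V' : Y.Opens} (h : V' ≤ V) (r : R) : rX h (rho g V r) = rho g V' r := by
  unfold rho
  simp only [RingHom.comp_apply]
  exact rX_rX h le_top _

/-- `rho` on a preimage is the pullback of functions -/
theorem rho_preimage (W : (Spec R).Opens) (r : R) :
    rho g (g ⁻¹ᵁ W) r = (g.app W).hom (algebraMap R Γ(Spec R, W) r) := by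
  unfold rho
  rw [IsAffineOpen.algebraMap_Spec_obj]
  simp only [RingHom.comp_apply, CommRingCat.hom_comp]
  have h := g.naturality (homOfLE (le_top : W ≤ ⊤)).op
  have h2 := congrArg (fun φ => φ.hom ((Scheme.ΓSpecIso R).inv.hom r)) h
  simp only [CommRingCat.hom_comp, RingHom.comp_apply] at h2
  exact h2.symm

/-- the basic open `D(s)` of `Spec R` -/
abbrev D (s : R) : (Spec R).Opens := PrimeSpectrum.basicOpen s

theorem isAffineOpen_D (s : R) : IsAffineOpen (D s) := by
  have h := (isAffineOpen_top (Spec R)).basicOpen ((Scheme.ΓSpecIso R).inv.hom s)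
  have e : (Spec R).basicOpen ((Scheme.ΓSpecIso R).inv.hom s) = D s := basicOpen_eq_of_affine s
  rwa [e] at h

theorem D_mul (s t : R) : D (s * t) = D s ⊓ D t := PrimeSpectrum.basicOpen_mul s t

variable [IsOpenImmersion g]

/-- `V` is the chart cut out by `s`. -/
structure IsChart (V : Y.Opens) (s : R) : Prop where
  ne : s ≠ 0
  le : D s ≤ g.opensRange
  eq : V = g ⁻¹ᵁ D s

variable {g}

theorem IsChart.isAffineOpen {V : Y.Opens} {s : R} (h : IsChart g V s) : IsAffineOpen V := by
  obtain ⟨_, hle, rfl⟩ := h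
  exact (isAffineOpen_D s).preimage_of_isOpenImmersion g hle

theorem IsChart.inf [IsDomain R] {V V' : Y.Opens} {s s' : R} (h : IsChart g V s)
    (h' : IsChart g V' s') : IsChart g (V ⊓ V') (s * s') := by
  obtain ⟨hne, hle, rfl⟩ := h
  obtain ⟨hne', hle', rfl⟩ := h'
  refine ⟨mul_ne_zero hne hne', ?_, ?_⟩
  · rw [D_mul]; exact inf_le_left.trans hle
  · rw [D_mul]; rfl

/-- **The ring of functions of a chart is `R[1/s]`.** -/
theorem IsChart.isLocalization {V : Y.Opens} {s : R} (h : IsChart g V s) :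
    @IsLocalization.Away R _ s Γ(Y, V) _ (rho g V).toAlgebra := by
  obtain ⟨_, hle, rfl⟩ := h
  haveI : IsIso (g.app (D s)) := g.isIso_app _ hle
  have h1 := (IsLocalization.isLocalization_iff_of_ringEquiv (Submonoid.powers s)
    (asIso (g.app (D s))).commRingCatIsoToRingEquiv).mp
    (inferInstanceAs (IsLocalization.Away s Γ(Spec R, PrimeSpectrum.basicOpen s)))
  convert h1 using 1
  apply Algebra.algebra_ext
  intro r
  exact rho_preimage g (D s) r

end Groth.Agent.PicUfd
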