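import Mathlib
import Groth.Prelude

/-!
# Prime-multiplicity valuations on the fraction field of a UFD (helper5).  APPEND-ONLY once landed.
-/

set_option autoImplicit false
universe u

noncomputable section

namespace Groth.Agent.UfdVal

variable {R : Type u} [CommRing R] [IsDomain R] [UniqueFactorizationMonoid R]

/-- multiplicity as an integer -/
def mu (q a : R) : ℤ := (multiplicity q a : ℤ)

theorem mu_mul {q : R} (hq : Prime q) {a b : R} (ha : a ≠ 0) (hb : b ≠ 0) :
    mu q (a * b) = mu q a + mu q b := by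
  unfold mu
  rw [multiplicity_mul hq (FiniteMultiplicity.of_prime_left hq (mul_ne_zero ha hb))]
  push_cast
  rfl

theorem mu_eq_zero {q a : R} (h : ¬ q ∣ a) : mu q a = 0 := by
  unfold mu
  rw [multiplicity_eq_zero.mpr h]
  rfl

theorem mu_pos {q : R} (hq : Prime q) {a : R} (ha : a ≠ 0) (h : q ∣ a) : 0 < mu q a := by
  unfold mu
  have hf := FiniteMultiplicity.of_prime_left hq ha
  have h1 : 1 ≤ multiplicity q a := hf.le_multiplicity_of_pow_dvd (by simpa using h)
  exact_mod_cast h1

theorem mu_nonneg (q a : R) : 0 ≤ mu q a := by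
  unfold mu
  positivity

theorem mu_self {q : R} (hq : Prime q) : mu q q = 1 := by
  unfold mu
  have hf := FiniteMultiplicity.of_prime_left hq hq.ne_zero
  rw [multiplicity_self]
  rfl

theorem mu_pow {q : R} (hq : Prime q) {a : R} (ha : a ≠ 0) (N : ℕ) : mu q (a ^ N) = N * mu q a := by
  induction N with
  | zero =>
    simp only [pow_zero, Nat.cast_zero, zero_mul]
    exact mu_eq_zero (fun h => hq.not_isUnit (isUnit_of_dvd_one h))
  | succ N ih =>
    rw [pow_succ, mu_mul hq (pow_ne_zero N ha) ha, ih]
    push_cast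
    ring

variable (K : Type u) [Field K] [Algebra R K] [IsFractionRing R K]

/-- the `q`-adic valuation of an element of the fraction field -/
def v (q : R) (x : K) : ℤ :=
  mu q (IsFractionRing.num R x) - mu q (IsFractionRing.den R x : R)

variable {K}

theorem v_eq {q : R} (hq : Prime q) {a c : R} (ha : a ≠ 0) (hc : c ≠ 0) {x : K}
    (hx : x * algebraMap R K c = algebraMap R K a) : v K q x = mu q a - mu q c := by
  unfold v
  have hd : (IsFractionRing.den R x : R) ≠ 0 := nonZeroDivisors.coe_ne_zero _
  have hdK : algebraMap R K (IsFractionRing.den R x : R) ≠ 0 := by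
    rw [Ne, map_eq_zero_iff _ (IsFractionRing.injective R K)]
    exact hd
  have h1 : algebraMap R K (IsFractionRing.num R x) = x * algebraMap R K (IsFractionRing.den R x : R) := by
    have := IsFractionRing.mk'_num_den' R x
    rw [div_eq_iff hdK] at this
    exact this
  have h2 : IsFractionRing.num R x * c = a * (IsFractionRing.den R x : R) := by
    apply IsFractionRing.injective R K
    rw [map_mul, map_mul, h1, ← hx]
    ring
  have hn : IsFractionRing.num R x ≠ 0 := by
    intro h0
    rw [h0, zero_mul] at h2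
    exact (mul_ne_zero ha hd) h2.symm
  have h3 := congrArg (mu q) h2
  rw [mu_mul hq hn hc, mu_mul hq ha hd] at h3
  omega

theorem v_algebraMap {q : R} (hq : Prime q) {a : R} (ha : a ≠ 0) :
    v K q (algebraMap R K a) = mu q a := by
  have h := v_eq (K := K) hq ha one_ne_zero (x := algebraMap R K a) (by rw [map_one, mul_one])
  rw [h, mu_eq_zero (fun h => hq.not_isUnit (isUnit_of_dvd_one h)), sub_zero]

theorem exists_rep (x : K) : ∃ a c : R, c ≠ 0 ∧ x * algebraMap R K c = algebraMap R K a := by
  obtain ⟨a, c, hc, rfl⟩ := IsFractionRing.div_surjective (A := R) x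
  have hc0 : c ≠ 0 := nonZeroDivisors.ne_zero hc
  refine ⟨a, c, hc0, ?_⟩
  rw [div_mul_cancel₀]
  rw [Ne, map_eq_zero_iff _ (IsFractionRing.injective R K)]
  exact hc0

theorem v_mul {q : R} (hq : Prime q) {x y : K} (hx : x ≠ 0) (hy : y ≠ 0) :
    v K q (x * y) = v K q x + v K q y := by
  obtain ⟨a, c, hc, h1⟩ := exists_rep (R := R) x
  obtain ⟨a', c', hc', h2⟩ := exists_rep (R := R) y
  have hcK : algebraMap R K c ≠ 0 := by
    rw [Ne, map_eq_zero_iff _ (IsFractionRing.injective R K)]; exact hc
  have hcK' : algebraMap R K c' ≠ 0 := by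
    rw [Ne, map_eq_zero_iff _ (IsFractionRing.injective R K)]; exact hc'
  have ha : a ≠ 0 := by
    intro h0
    rw [h0, map_zero] at h1
    exact (mul_ne_zero hx hcK) h1
  have ha' : a' ≠ 0 := by
    intro h0
    rw [h0, map_zero] at h2
    exact (mul_ne_zero hy hcK') h2
  have h3 : (x * y) * algebraMap R K (c * c') = algebraMap R K (a * a') := by
    rw [map_mul, map_mul, ← h1, ← h2]
    ring
  rw [v_eq hq (mul_ne_zero ha ha') (mul_ne_zero hc hc') h3, v_eq hq ha hc h1, v_eq hq ha' hc' h2,
    mu_mul hq ha ha', mu_mul hq hc hc']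
  ring

theorem v_one {q : R} (hq : Prime q) : v K q (1 : K) = 0 := by
  have h := v_algebraMap (K := K) hq (one_ne_zero (α := R))
  rw [map_one] at h
  rw [h]
  exact mu_eq_zero (fun h => hq.not_isUnit (isUnit_of_dvd_one h))

theorem v_inv {q : R} (hq : Prime q) {x : K} (hx : x ≠ 0) : v K q x⁻¹ = - v K q x := by
  have h := v_mul hq hx (inv_ne_zero hx)
  rw [mul_inv_cancel₀ hx, v_one hq] at h
  omega

theorem v_zpow {q : R} (hq : Prime q) {x : K} (hx : x ≠ 0) (n : ℤ) :
    v K q (x ^ n) = n * v K q x := by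
  induction n using Int.induction_on with
  | zero => rw [zpow_zero, v_one hq, zero_mul]
  | succ n ih =>
    rw [zpow_add_one₀ hx, v_mul hq (zpow_ne_zero _ hx) hx, ih]
    ring
  | pred n ih =>
    rw [zpow_sub_one₀ hx, v_mul hq (zpow_ne_zero _ hx) (inv_ne_zero hx), ih, v_inv hq hx]
    ring

end Groth.Agent.UfdVal
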