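import Mathlib
import Groth.Prelude
import Groth.Agent.Lib.UfdVal1_helper5

/-!
# Units of `R[1/h]` inside the fraction field of a UFD, by valuations (helper5).
APPEND-ONLY once landed.
-/

set_option autoImplicit false
universe u

noncomputable section

namespace Groth.Agent.UfdVal

variable {R : Type u} [CommRing R] [IsDomain R] [UniqueFactorizationMonoid R]
variable {K : Type u} [Field K] [Algebra R K] [IsFractionRing R K]

/-- `x` and `x⁻¹` both lie in `R[1/h] ⊆ K`. -/
def IsUnitAway (h : R) (x : K) : Prop :=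
  ∃ (a a' : R) (N : ℕ), x * algebraMap R K (h ^ N) = algebraMap R K a ∧
    x⁻¹ * algebraMap R K (h ^ N) = algebraMap R K a'

theorem algebraMap_ne_zero {a : R} (ha : a ≠ 0) : algebraMap R K a ≠ 0 := by
  rw [Ne, map_eq_zero_iff _ (IsFractionRing.injective R K)]
  exact ha

theorem v_eq_zero_of_isUnitAway {h : R} {x : K} (hx0 : x ≠ 0) (hx : IsUnitAway h x) {q : R}
    (hq : Prime q) (hqh : ¬ q ∣ h) : v K q x = 0 := by
  obtain ⟨a, a', N, h1, h2⟩ := hx
  have hh : h ≠ 0 := fun h0 => hqh (h0 ▸ dvd_zero q)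
  have hhN : h ^ N ≠ 0 := pow_ne_zero N hh
  have hhK : algebraMap R K (h ^ N) ≠ 0 := algebraMap_ne_zero hhN
  have ha : a ≠ 0 := by
    intro h0
    rw [h0, map_zero] at h1
    exact (mul_ne_zero hx0 hhK) h1
  have ha' : a' ≠ 0 := by
    intro h0
    rw [h0, map_zero] at h2
    exact (mul_ne_zero (inv_ne_zero hx0) hhK) h2
  have e1 := v_eq hq ha hhN h1
  have e2 := v_eq hq ha' hhN h2
  rw [v_inv hq hx0] at e2
  have hN : mu q (h ^ N) = 0 := mu_eq_zero (fun hd => hqh (hq.dvd_of_dvd_pow hd))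
  have n1 := mu_nonneg q a
  have n2 := mu_nonneg q a'
  omega

theorem exists_dvd_pow {c h : R} (hc : c ≠ 0) (hp : ∀ q : R, Prime q → q ∣ c → q ∣ h) :
    ∃ N : ℕ, c ∣ h ^ N := by
  induction c using UniqueFactorizationMonoid.induction_on_prime with
  | h₁ => exact absurd rfl hc
  | h₂ c hu => exact ⟨0, hu.dvd⟩
  | h₃ c p hc0 hpp ih =>
    obtain ⟨N, hN⟩ := ih hc0 (fun q hq hqc => hp q hq (Dvd.dvd.mul_left hqc p))
    have hph : p ∣ h := hp p hpp (dvd_mul_right p c)
    exact ⟨N + 1, by rw [pow_succ']; exact mul_dvd_mul hph hN⟩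

theorem isUnitAway_of_v {h : R} {x : K} (hx0 : x ≠ 0)
    (hv : ∀ q : R, Prime q → ¬ q ∣ h → v K q x = 0) : IsUnitAway h x := by
  have hred := IsFractionRing.num_den_reduced R x
  set a := IsFractionRing.num R x with ha_def
  set c : R := (IsFractionRing.den R x : R) with hc_def
  have hc : c ≠ 0 := nonZeroDivisors.coe_ne_zero _
  have hcK : algebraMap R K c ≠ 0 := algebraMap_ne_zero hc
  have h1 : x * algebraMap R K c = algebraMap R K a := by
    have := IsFractionRing.mk'_num_den' R x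
    rw [div_eq_iff hcK] at this
    exact this.symm
  have ha : a ≠ 0 := by
    intro h0
    rw [h0, map_zero] at h1
    exact (mul_ne_zero hx0 hcK) h1
  have haK : algebraMap R K a ≠ 0 := algebraMap_ne_zero ha
  have key : ∀ q : R, Prime q → (q ∣ a ∨ q ∣ c) → q ∣ h := by
    intro q hq hqac
    by_contra hqh
    have e := v_eq hq ha hc h1
    rw [hv q hq hqh] at e
    rcases hqac with hqa | hqc
    · have hnc : ¬ q ∣ c := fun hqc => hq.not_isUnit (hred hqa hqc)
      have := mu_pos hq ha hqa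
      rw [mu_eq_zero hnc] at e
      omega
    · have hna : ¬ q ∣ a := fun hqa => hq.not_isUnit (hred hqa hqc)
      have := mu_pos hq hc hqc
      rw [mu_eq_zero hna] at e
      omega
  obtain ⟨N, c', hN⟩ := exists_dvd_pow hc (fun q hq hqc => key q hq (Or.inr hqc))
  obtain ⟨M, a', hM⟩ := exists_dvd_pow ha (fun q hq hqa => key q hq (Or.inl hqa))
  -- `x = a / c`, `h ^ N = c * c'`, `h ^ M = a * a'`
  refine ⟨a * c' * h ^ M, c * a' * h ^ N, N + M, ?_, ?_⟩
  · have hx : x = algebraMap R K a / algebraMap R K c := by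
      rw [eq_div_iff hcK]; exact h1
    rw [hx, pow_add, hN]
    simp only [map_mul]
    field_simp
  · have hx : x⁻¹ = algebraMap R K c / algebraMap R K a := by
      rw [eq_div_iff haK, ← h1]
      field_simp
    rw [hx, pow_add, hM]
    simp only [map_mul]
    field_simp

theorem IsUnitAway.mul {h : R} {x y : K} (hx : IsUnitAway h x) (hy : IsUnitAway h y) :
    IsUnitAway h (x * y) := by
  obtain ⟨a, a', N, h1, h2⟩ := hx
  obtain ⟨b, b', M, h3, h4⟩ := hy
  refine ⟨a * b, a' * b', N + M, ?_, ?_⟩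
  · rw [pow_add, map_mul, map_mul, ← h1, ← h3]; ring
  · rw [pow_add, map_mul, map_mul, ← h2, ← h4, mul_inv]; ring

theorem IsUnitAway.inv {h : R} {x : K} (hx : IsUnitAway h x) : IsUnitAway h x⁻¹ := by
  obtain ⟨a, a', N, h1, h2⟩ := hx
  exact ⟨a', a, N, h2, by rw [inv_inv]; exact h1⟩

end Groth.Agent.UfdVal
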