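import Mathlib
import Groth.Prelude
import Groth.Agent.Lib.UfdVal2_helper5

/-!
# A multiplicative cocycle of units on basic opens of a UFD is a coboundary (helper5).
APPEND-ONLY once landed.
-/

set_option autoImplicit false
universe u

noncomputable section

namespace Groth.Agent.UfdVal

variable {R : Type u} [CommRing R] [IsDomain R] [UniqueFactorizationMonoid R]
variable {K : Type u} [Field K] [Algebra R K] [IsFractionRing R K]

theorem v_congr {q q' : R} (h : Associated q q') (x : K) : v K q x = v K q' x := by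
  unfold v mu
  rw [multiplicity_eq_of_associated_left h, multiplicity_eq_of_associated_left h]

theorem v_div {q : R} (hq : Prime q) {x y : K} (hx : x ≠ 0) (hy : y ≠ 0) :
    v K q (x / y) = v K q x - v K q y := by
  rw [div_eq_mul_inv, v_mul hq hx (inv_ne_zero hy), v_inv hq hy]
  ring

theorem v_prod {q : R} (hq : Prime q) {ι : Type*} (S : Finset ι) (g : ι → K)
    (hg : ∀ i ∈ S, g i ≠ 0) : v K q (∏ i ∈ S, g i) = ∑ i ∈ S, v K q (g i) := by
  classical
  induction S using Finset.induction_on with
  | empty => simp only [Finset.prod_empty, Finset.sum_empty]; exact v_one hq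
  | insert i S hi ih =>
    rw [Finset.prod_insert hi, Finset.sum_insert hi,
      v_mul hq (hg i (Finset.mem_insert_self i S))
        (Finset.prod_ne_zero_iff.mpr (fun j hj => hg j (Finset.mem_insert_of_mem hj))),
      ih (fun j hj => hg j (Finset.mem_insert_of_mem hj))]

/-- **The key lemma**: germs `a i` of generators with `a i / a j` a unit on `D(f i f j)` can be
normalised by one `β`. -/
theorem exists_beta {I : Type*} (f : I → R) (a : I → K) (i₀ : I) (hf0 : f i₀ ≠ 0)
    (ha : ∀ i, a i ≠ 0) (h0 : ∀ i, IsUnitAway (f i * f i₀) (a i))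
    (hij : ∀ i j, IsUnitAway (f i * f j) (a i / a j)) :
    ∃ β : K, β ≠ 0 ∧ ∀ i, IsUnitAway (f i) (β / a i) := by
  classical
  letI : StrongNormalizationMonoid R := UniqueFactorizationMonoid.strongNormalizationMonoid (α := R)
  let S : Finset R := (UniqueFactorizationMonoid.normalizedFactors (f i₀)).toFinset
  have hSp : ∀ p ∈ S, Prime p := fun p hp =>
    UniqueFactorizationMonoid.prime_of_normalized_factor p (Multiset.mem_toFinset.mp hp)
  have hSn : ∀ p ∈ S, normalize p = p := fun p hp =>
    UniqueFactorizationMonoid.normalize_normalized_factor p (Multiset.mem_toFinset.mp hp)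
  have hSd : ∀ p ∈ S, p ∣ f i₀ := fun p hp =>
    UniqueFactorizationMonoid.dvd_of_mem_normalizedFactors (Multiset.mem_toFinset.mp hp)
  let n : R → ℤ := fun q => if h : ∃ i, ¬ q ∣ f i then v K q (a h.choose) else 0
  let β : K := ∏ p ∈ S, (algebraMap R K p) ^ (n p)
  have hβterm : ∀ p ∈ S, (algebraMap R K p) ^ (n p) ≠ 0 := fun p hp =>
    zpow_ne_zero _ (algebraMap_ne_zero (hSp p hp).ne_zero)
  have hβ0 : β ≠ 0 := Finset.prod_ne_zero_iff.mpr hβterm
  have hvβ : ∀ q : R, Prime q → v K q β = ∑ p ∈ S, n p * mu q p := by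
    intro q hq
    rw [v_prod hq S _ hβterm]
    refine Finset.sum_congr rfl (fun p hp => ?_)
    rw [v_zpow hq (algebraMap_ne_zero (hSp p hp).ne_zero), v_algebraMap hq (hSp p hp).ne_zero]
  refine ⟨β, hβ0, fun i => ?_⟩
  apply isUnitAway_of_v (div_ne_zero hβ0 (ha i))
  intro q hq hqi
  rw [v_div hq hβ0 (ha i)]
  by_cases hq0 : q ∣ f i₀
  · obtain ⟨q', hq'mem, hass⟩ :=
      UniqueFactorizationMonoid.exists_mem_normalizedFactors_of_dvd hf0 hq.irreducible hq0
    have hq'S : q' ∈ S := Multiset.mem_toFinset.mpr hq'mem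
    have hq' : Prime q' := hSp q' hq'S
    rw [v_congr hass, v_congr hass, hvβ q' hq']
    have hsum : ∑ p ∈ S, n p * mu q' p = n q' := by
      rw [Finset.sum_eq_single q']
      · rw [mu_self hq', mul_one]
      · intro p hp hne
        have : ¬ q' ∣ p := by
          intro hd
          have h1 : Associated q' p := hq'.associated_of_dvd (hSp p hp) hd
          exact hne (h1.eq_of_normalized (hSn q' hq'S) (hSn p hp)).symm
        rw [mu_eq_zero this, mul_zero]
      · intro h; exact absurd hq'S h
    rw [hsum]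
    have hqi' : ¬ q' ∣ f i := fun hd => hqi (hass.dvd.trans hd)
    have hex : ∃ j, ¬ q' ∣ f j := ⟨i, hqi'⟩
    have hn : n q' = v K q' (a hex.choose) := dif_pos hex
    rw [hn]
    have hj := hex.choose_spec
    have h2 := v_eq_zero_of_isUnitAway (div_ne_zero (ha i) (ha hex.choose)) (hij i hex.choose) hq'
      (fun hd => (hq'.dvd_or_dvd hd).elim hqi' hj)
    rw [v_div hq' (ha i) (ha hex.choose)] at h2
    omega
  · rw [hvβ q hq]
    have hsum : ∑ p ∈ S, n p * mu q p = 0 := by
      apply Finset.sum_eq_zero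
      intro p hp
      rw [mu_eq_zero (fun hd => hq0 (hd.trans (hSd p hp))), mul_zero]
    rw [hsum]
    have h2 := v_eq_zero_of_isUnitAway (ha i) (h0 i) hq
      (fun hd => (hq.dvd_or_dvd hd).elim hqi hq0)
    omega

end Groth.Agent.UfdVal
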