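import Mathlib
import Groth.Prelude
import Groth.Agent.Lib.PicUfd1_helper5
import Groth.Agent.Lib.UfdVal3_helper5

/-!
# Functions on charts of an open subscheme of `Spec R` inside the fraction field (helper5).
APPEND-ONLY once landed.
-/

set_option autoImplicit false
universe u
open CategoryTheory AlgebraicGeometry TopologicalSpace Opposite

noncomputable section

namespace Groth.Agent.PicUfd

open QcqsLoc Groth.Agent.UfdVal

variable {R : CommRingCat.{u}} [IsDomain R] {Y : Scheme.{u}} {g : Y ⟶ Spec R} [IsOpenImmersion g]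

theorem isUnit_algebraMap_of_ne {s : R} (hs : s ≠ 0) : IsUnit (algebraMap R (FractionRing R) s) :=
  IsUnit.mk0 _ (by rw [Ne, map_eq_zero_iff _ (IsFractionRing.injective R (FractionRing R))]; exact hs)

/-- the embedding of the functions on a chart into the fraction field -/
def gam {V : Y.Opens} {s : R} (h : IsChart g V s) : Γ(Y, V) →+* FractionRing R :=
  @IsLocalization.Away.lift R _ Γ(Y, V) _ (rho g V).toAlgebra (FractionRing R) _ s h.isLocalization
    (algebraMap R (FractionRing R)) (isUnit_algebraMap_of_ne h.ne)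

theorem gam_rho {V : Y.Opens} {s : R} (h : IsChart g V s) (r : R) :
    gam h (rho g V r) = algebraMap R (FractionRing R) r :=
  @IsLocalization.Away.lift_eq R _ Γ(Y, V) _ (rho g V).toAlgebra (FractionRing R) _ s
    h.isLocalization (algebraMap R (FractionRing R)) (isUnit_algebraMap_of_ne h.ne) r

theorem gam_rX {V V' : Y.Opens} {s s' : R} (h : IsChart g V s) (h' : IsChart g V' s')
    (hle : V' ≤ V) (t : Γ(Y, V)) : gam h' (rX hle t) = gam h t := by
  have key : (gam h').comp (rX hle) = gam h := by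
    apply @IsLocalization.ringHom_ext R _ (Submonoid.powers s) Γ(Y, V) _ (rho g V).toAlgebra
      h.isLocalization (FractionRing R) _
    ext r
    show gam h' (rX hle (rho g V r)) = gam h (rho g V r)
    rw [rX_rho, gam_rho, gam_rho]
  exact RingHom.congr_fun key t

/-- every function on a chart is `r / s ^ N` -/
theorem exists_rep {V : Y.Opens} {s : R} (h : IsChart g V s) (t : Γ(Y, V)) :
    ∃ (a : R) (N : ℕ), t * rho g V (s ^ N) = rho g V a := by
  obtain ⟨⟨a, ⟨_, N, rfl⟩⟩, ha⟩ := @IsLocalization.surj R _ (Submonoid.powers s) Γ(Y, V) _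
    (rho g V).toAlgebra h.isLocalization t
  exact ⟨a, N, ha⟩

theorem gam_injective {V : Y.Opens} {s : R} (h : IsChart g V s) :
    Function.Injective (gam h) := by
  rw [injective_iff_map_eq_zero]
  intro t ht
  obtain ⟨a, N, ha⟩ := exists_rep h t
  have h1 := congrArg (gam h) ha
  rw [map_mul, ht, zero_mul, gam_rho] at h1
  have ha0 : a = 0 := by
    apply IsFractionRing.injective R (FractionRing R)
    rw [map_zero]; exact h1.symm
  rw [ha0, map_zero] at ha
  have hu : IsUnit (rho g V (s ^ N)) := by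
    rw [map_pow]
    exact (@IsLocalization.Away.algebraMap_isUnit R _ Γ(Y, V) _ (rho g V).toAlgebra s
      h.isLocalization).pow N
  exact (hu.mul_left_eq_zero).mp ha

theorem isUnit_rho_pow {V : Y.Opens} {s : R} (h : IsChart g V s) (N : ℕ) :
    IsUnit (rho g V (s ^ N)) := by
  rw [map_pow]
  exact (@IsLocalization.Away.algebraMap_isUnit R _ Γ(Y, V) _ (rho g V).toAlgebra s
    h.isLocalization).pow N

theorem algebraMap_pow_ne_zero {s : R} (hs : s ≠ 0) (N : ℕ) :
    algebraMap R (FractionRing R) (s ^ N) ≠ 0 := by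
  rw [Ne, map_eq_zero_iff _ (IsFractionRing.injective R (FractionRing R))]
  exact pow_ne_zero N hs

/-- units of a chart are units away from `s` -/
theorem isUnitAway_gam {V : Y.Opens} {s : R} (h : IsChart g V s) {t : Γ(Y, V)} (ht : IsUnit t) :
    IsUnitAway s (gam h t) := by
  obtain ⟨u, rfl⟩ := ht
  obtain ⟨a, N, ha⟩ := exists_rep h (u : Γ(Y, V))
  obtain ⟨a', N', ha'⟩ := exists_rep h ((u⁻¹ : (Γ(Y, V))ˣ) : Γ(Y, V))
  have e1 := congrArg (gam h) ha
  have e2 := congrArg (gam h) ha'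
  rw [map_mul, gam_rho, gam_rho] at e1 e2
  have hinv : gam h ((u⁻¹ : (Γ(Y, V))ˣ) : Γ(Y, V)) = (gam h (u : Γ(Y, V)))⁻¹ := by
    have h1 : gam h ((u⁻¹ : (Γ(Y, V))ˣ) : Γ(Y, V)) * gam h (u : Γ(Y, V)) = 1 := by
      rw [← map_mul, Units.inv_mul, map_one]
    exact eq_inv_of_mul_eq_one_left h1
  rw [hinv] at e2
  refine ⟨a * s ^ N', a' * s ^ N, N + N', ?_, ?_⟩
  · rw [pow_add, map_mul, map_mul, ← e1]; ring
  · rw [pow_add, map_mul, map_mul, ← e2]; ring

/-- elements of the fraction field that are units away from `s` are units of the chart -/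
theorem exists_unit_of_isUnitAway {V : Y.Opens} {s : R} (h : IsChart g V s) {x : FractionRing R}
    (hx0 : x ≠ 0) (hx : IsUnitAway s x) : ∃ t : Γ(Y, V), IsUnit t ∧ gam h t = x := by
  obtain ⟨a, a', N, h1, h2⟩ := hx
  obtain ⟨σ, hσ⟩ := isUnit_rho_pow h N
  have hs0 := algebraMap_pow_ne_zero h.ne N
  have hgσ : gam h ((σ⁻¹ : (Γ(Y, V))ˣ) : Γ(Y, V)) = (algebraMap R (FractionRing R) (s ^ N))⁻¹ := by
    have e : gam h ((σ⁻¹ : (Γ(Y, V))ˣ) : Γ(Y, V)) * algebraMap R (FractionRing R) (s ^ N) = 1 := by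
      rw [← gam_rho h, ← hσ, ← map_mul, Units.inv_mul, map_one]
    exact eq_inv_of_mul_eq_one_left e
  have g1 : gam h (rho g V a * ((σ⁻¹ : (Γ(Y, V))ˣ) : Γ(Y, V))) = x := by
    rw [map_mul, gam_rho, hgσ, ← h1]
    field_simp
  have g2 : gam h (rho g V a' * ((σ⁻¹ : (Γ(Y, V))ˣ) : Γ(Y, V))) = x⁻¹ := by
    rw [map_mul, gam_rho, hgσ, ← h2]
    field_simp
  refine ⟨rho g V a * ((σ⁻¹ : (Γ(Y, V))ˣ) : Γ(Y, V)), ?_, g1⟩
  refine IsUnit.of_mul_eq_one (rho g V a' * ((σ⁻¹ : (Γ(Y, V))ˣ) : Γ(Y, V))) ?_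
  apply gam_injective h
  rw [map_mul, g1, g2, map_one, mul_inv_cancel₀ hx0]

end Groth.Agent.PicUfd
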