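import Mathlib
import Groth.Prelude
import Groth.Agent.Lib.PicUfd2_helper5
import Groth.Agent.Lib.PicAff1_helper5
import Groth.Agent.Lib.Tens41_helper8

/-!
# Invertible modules on open subschemes of the spectrum of a UFD are trivial (helper5).
APPEND-ONLY once landed.
-/

set_option autoImplicit false
universe u
open CategoryTheory AlgebraicGeometry TopologicalSpace Opposite

noncomputable section

namespace Groth.Agent.PicUfd

open QcqsLoc GenLocH8 TensH8 FLFH8 QCohExtn Groth.Agent.UfdVal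

variable {R : CommRingCat.{u}} {Y : Scheme.{u}} {g : Y ⟶ Spec R} [IsOpenImmersion g]

/-- every point of `Y` lies in a chart -/
theorem exists_chart (y : Y) : ∃ (V : Y.Opens) (s : R), y ∈ V ∧ IsChart g V s := by
  have hy : g y ∈ (g.opensRange : Set (Spec R)) := ⟨y, rfl⟩
  obtain ⟨_, ⟨s, rfl⟩, hys, hsub⟩ :=
    PrimeSpectrum.isTopologicalBasis_basic_opens.exists_subset_of_mem_open hy g.opensRange.isOpen
  refine ⟨g ⁻¹ᵁ D s, s, hys, ⟨?_, hsub, rfl⟩⟩
  rintro rfl
  have h1 : (0 : R) ∉ (show PrimeSpectrum R from g y).asIdeal := hys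
  exact h1 (Ideal.zero_mem _)

variable [IsDomain R] [UniqueFactorizationMonoid R]

/-- invertible modules are trivial on charts -/
theorem IsChart.exists_isGen {L : Y.Modules} (hL : PicF.IsInvertible L) {V : Y.Opens} {s : R}
    (h : IsChart g V s) : ∃ e : Γ(L, V), IsGen L V e := by
  letI : Algebra R Γ(Y, V) := (rho g V).toAlgebra
  haveI : IsLocalization.Away s Γ(Y, V) := h.isLocalization
  haveI : IsDomain Γ(Y, V) := IsLocalization.isDomain_of_le_nonZeroDivisors Γ(Y, V)
    (powers_le_nonZeroDivisors_of_noZeroDivisors h.ne)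
  haveI : UniqueFactorizationMonoid Γ(Y, V) :=
    UniqueFactorizationMonoid.of_isLocalization (Submonoid.powers s) _
  exact Groth.Agent.PicAff.exists_isGen_of_pic hL h.isAffineOpen

theorem rF_eq_smul_of_le {L : Y.Modules} {A B W : Y.Opens} {a : Γ(L, A)} {b : Γ(L, B)}
    {t : Γ(Y, A ⊓ B)}
    (h : rF L (inf_le_left : A ⊓ B ≤ A) a = t • rF L (inf_le_right : A ⊓ B ≤ B) b)
    (hW : W ≤ A ⊓ B) :
    rF L (hW.trans inf_le_left) a = rX hW t • rF L (hW.trans inf_le_right) b := by
  have h1 := congrArg (rF L hW) h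
  rw [rF_smul, rF_rF, rF_rF] at h1
  exact h1

/-- **Invertible modules on open subschemes of the spectrum of a UFD are trivial.** -/
theorem nonempty_iso (g : Y ⟶ Spec R) [IsOpenImmersion g] {L : Y.Modules}
    (hL : PicF.IsInvertible L) :
    Nonempty (L ≅ Coh.structureModule Y) := by
  rcases isEmpty_or_nonempty Y with hY | ⟨⟨i₀⟩⟩
  · haveI : IsIso (homOfSec L (0 : Γ(L, ⊤))) :=
      isIso_of_isGen_cover _ (fun x => (hY.false x).elim)
    exact ⟨(asIso (homOfSec L (0 : Γ(L, ⊤)))).symm⟩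
  choose V s hyV hch using (fun y : Y => exists_chart (g := g) y)
  choose e he using (fun y : Y => (hch y).exists_isGen hL)
  have htr : ∀ i j : Y, ∃ t : Γ(Y, V i ⊓ V j), IsUnit t ∧
      rF L (inf_le_left : V i ⊓ V j ≤ V i) (e i) =
        t • rF L (inf_le_right : V i ⊓ V j ≤ V j) (e j) := by
    intro i j
    obtain ⟨t, ht⟩ := ((he j).res (inf_le_right : V i ⊓ V j ≤ V j)).exists_coef
      (rF L (inf_le_left : V i ⊓ V j ≤ V i) (e i))
    refine ⟨t, ?_, ht⟩
    apply isUnit_of_isGen_smul ((he j).res (inf_le_right : V i ⊓ V j ≤ V j))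
    rw [← ht]
    exact (he i).res inf_le_left
  choose t htu ht using htr
  have hch2 : ∀ i j : Y, IsChart g (V i ⊓ V j) (s i * s j) := fun i j => (hch i).inf (hch j)
  -- cocycle identity in the fraction field
  have hcoc : ∀ i j k : Y, gam (hch2 i k) (t i k) =
      gam (hch2 i j) (t i j) * gam (hch2 j k) (t j k) := by
    intro i j k
    have hW : IsChart g ((V i ⊓ V j) ⊓ V k) (s i * s j * s k) := (hch2 i j).inf (hch k)
    have l1 : (V i ⊓ V j) ⊓ V k ≤ V i ⊓ V k := le_inf (inf_le_left.trans inf_le_left) inf_le_right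
    have l2 : (V i ⊓ V j) ⊓ V k ≤ V i ⊓ V j := inf_le_left
    have l3 : (V i ⊓ V j) ⊓ V k ≤ V j ⊓ V k := le_inf (inf_le_left.trans inf_le_right) inf_le_right
    have e1 := rF_eq_smul_of_le (ht i k) l1
    have e2 := rF_eq_smul_of_le (ht i j) l2
    have e3 := rF_eq_smul_of_le (ht j k) l3
    have e4 : rX l1 (t i k) • rF L (l1.trans inf_le_right) (e k) =
        (rX l2 (t i j) * rX l3 (t j k)) • rF L (l1.trans inf_le_right) (e k) := by
      rw [← e1, mul_smul]
      exact e2.trans (congrArg _ e3)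
    have e5 : rX l1 (t i k) = rX l2 (t i j) * rX l3 (t j k) :=
      IsGen.coef_ext ((he k).res (l1.trans inf_le_right)) e4
    have e6 := congrArg (gam hW) e5
    rw [map_mul, gam_rX (hch2 i k) hW l1, gam_rX (hch2 i j) hW l2, gam_rX (hch2 j k) hW l3] at e6
    exact e6
  have hne : ∀ i j : Y, gam (hch2 i j) (t i j) ≠ 0 := fun i j =>
    ((htu i j).map (gam (hch2 i j))).ne_zero
  have hdiv : ∀ i j : Y, gam (hch2 i i₀) (t i i₀) / gam (hch2 j i₀) (t j i₀) =
      gam (hch2 i j) (t i j) := by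
    intro i j
    rw [hcoc i j i₀, mul_div_assoc, div_self (hne j i₀), mul_one]
  obtain ⟨β, hβ, hβu⟩ := exists_beta (K := FractionRing R) s
    (fun i => gam (hch2 i i₀) (t i i₀)) i₀ (hch i₀).ne
    (fun i => hne i i₀) (fun i => isUnitAway_gam (hch2 i i₀) (htu i i₀))
    (fun i j => by rw [hdiv i j]; exact isUnitAway_gam (hch2 i j) (htu i j))
  have hc : ∀ i : Y, ∃ c : Γ(Y, V i), IsUnit c ∧
      gam (hch i) c = β / gam (hch2 i i₀) (t i i₀) := fun i =>
    exists_unit_of_isUnitAway (hch i) (div_ne_zero hβ (hne i i₀)) (hβu i)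
  choose c hcu hc using hc
  have hcompat : ∀ i j : Y,
      rF L (inf_le_left : V i ⊓ V j ≤ V i) (c i • e i) =
        rF L (inf_le_right : V i ⊓ V j ≤ V j) (c j • e j) := by
    intro i j
    rw [rF_smul, rF_smul, ht i j, ← mul_smul]
    congr 1
    apply gam_injective (hch2 i j)
    rw [map_mul, gam_rX (hch i) (hch2 i j) inf_le_left, gam_rX (hch j) (hch2 i j) inf_le_right,
      hc i, hc j, ← hdiv i j]
    have h1 := hne i i₀
    have h2 := hne j i₀
    field_simp
  obtain ⟨τ', hτ'⟩ := glue L V ⊤ (fun _ => le_top)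
    (fun x _ => Opens.mem_iSup.mpr ⟨x, hyV x⟩) (fun i => c i • e i) hcompat
  haveI : IsIso (homOfSec L τ') := by
    apply isIso_of_isGen_cover
    intro x
    refine ⟨V x, hyV x, toM 1, isGen_one (V x), ?_⟩
    have h1 : ap (homOfSec L τ') (V x) (toM 1) = c x • e x :=
      (val_homOfSec L τ' (V x)).trans (hτ' x)
    rw [h1]
    exact isGen_smul_of_isUnit (he x) (hcu x)
  exact ⟨(asIso (homOfSec L τ')).symm⟩

end Groth.Agent.PicUfd
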