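import Mathlib
import Groth.Prelude
import Groth.Agent.Lib.PicUfd3_helper5
import Groth.Agent.Lib.CocycMod2_helper5

/-!
# A prime ideal which is locally principal on an open `Y ⊆ Spec R` with trivial Picard group and
`Γ(Y, O) = R` is principal (helper5).  APPEND-ONLY once landed.
-/

set_option autoImplicit false
universe u
open CategoryTheory AlgebraicGeometry TopologicalSpace Opposite

noncomputable section

namespace Groth.Agent.ParaUfd

open QcqsLoc GenLocH8 TensH8 FLFH8 QCohExtn Groth.Agent.UfdVal Groth.Agent.PicUfd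
  Groth.Agent.CocycMod

variable {R : CommRingCat.{u}} [IsDomain R] {Y : Scheme.{u}} {g : Y ⟶ Spec R} [IsOpenImmersion g]

theorem alg_ne_zero {a : R} (ha : a ≠ 0) : algebraMap R (FractionRing R) a ≠ 0 :=
  (isUnit_algebraMap_of_ne ha).ne_zero

/-- **Hartogs inside the fraction field**: an element of the fraction field which is a function on
every chart of a cover is an element of `R`, when `R = Γ(Y, O_Y)`. -/
theorem exists_of_forall_chart (hbij : Function.Bijective (rho g ⊤)) (i₀ : Y)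
    (V : Y → Y.Opens) (s : Y → R) (hyV : ∀ y, y ∈ V y) (hch : ∀ y, IsChart g (V y) (s y))
    (z : FractionRing R) (h : ∀ y, ∃ t : Γ(Y, V y), gam (hch y) t = z) :
    ∃ a : R, algebraMap R (FractionRing R) a = z := by
  choose t ht using h
  have hch2 : ∀ i j : Y, IsChart g (V i ⊓ V j) (s i * s j) := fun i j => (hch i).inf (hch j)
  have hcompat : ∀ i j, rX (inf_le_left : V i ⊓ V j ≤ V i) (t i) =
      rX (inf_le_right : V i ⊓ V j ≤ V j) (t j) := by
    intro i j
    apply gam_injective (hch2 i j)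
    rw [gam_rX (hch i) (hch2 i j) inf_le_left, gam_rX (hch j) (hch2 i j) inf_le_right, ht, ht]
  obtain ⟨T, hT⟩ := glueX V ⊤ (fun _ => le_top)
    (fun x _ => Opens.mem_iSup.mpr ⟨x, hyV x⟩) t hcompat
  obtain ⟨a, ha⟩ := hbij.2 T
  refine ⟨a, ?_⟩
  rw [← gam_rho (hch i₀) a, ← rX_rho g (le_top : V i₀ ≤ ⊤) a, ha, hT, ht]

/-- the common value of the normalised local generators -/
theorem exists_common (hpic : ParaF.PicTrivial Y) (i₀ : Y)
    (V : Y → Y.Opens) (s f : Y → R) (hyV : ∀ y, y ∈ V y) (hch : ∀ y, IsChart g (V y) (s y))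
    (hf0 : ∀ y, f y ≠ 0) (hrel : ∀ y y' : Y, ∃ a, s y' * f y = a * f y') :
    ∃ z : FractionRing R, z ≠ 0 ∧ ∀ y, ∃ u : Γ(Y, V y), IsUnit u ∧
      gam (hch y) u * algebraMap R (FractionRing R) (f y) = z := by
  have hch2 : ∀ i j : Y, IsChart g (V i ⊓ V j) (s i * s j) := fun i j => (hch i).inf (hch j)
  have hfK : ∀ y, algebraMap R (FractionRing R) (f y) ≠ 0 := fun y =>
    alg_ne_zero (hf0 y)
  -- transition units
  have hη : ∀ i j : Y, ∃ t : Γ(Y, V i ⊓ V j), IsUnit t ∧ gam (hch2 i j) t =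
      algebraMap R (FractionRing R) (f i) / algebraMap R (FractionRing R) (f j) := by
    intro i j
    apply exists_unit_of_isUnitAway (hch2 i j) (div_ne_zero (hfK i) (hfK j))
    obtain ⟨a, ha⟩ := hrel i j
    obtain ⟨a', ha'⟩ := hrel j i
    refine ⟨a * s i, a' * s j, 1, ?_, ?_⟩
    · rw [pow_one, div_mul_eq_mul_div, div_eq_iff (hfK j), ← map_mul, ← map_mul]
      congr 1
      linear_combination (s i) * ha
    · rw [pow_one, inv_div, div_mul_eq_mul_div, div_eq_iff (hfK i), ← map_mul, ← map_mul]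
      congr 1
      linear_combination (s j) * ha'
  choose t htu ht using hη
  let η : ∀ i j : Y, (Γ(Y, V i ⊓ V j))ˣ := fun i j => (htu i j).unit
  have hηv : ∀ i j, ((η i j : (Γ(Y, V i ⊓ V j))ˣ) : Γ(Y, V i ⊓ V j)) = t i j :=
    fun i j => (htu i j).unit_spec
  have hcoc : Cocycle V η := by
    intro i j k
    have hW : IsChart g ((V i ⊓ V j) ⊓ V k) (s i * s j * s k) := (hch2 i j).inf (hch k)
    rw [hηv, hηv, hηv]
    apply gam_injective hW
    rw [map_mul]
    have l1 : (V i ⊓ V j) ⊓ V k ≤ V i ⊓ V k := inf_le_inf_right (V k) inf_le_left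
    have l2 : (V i ⊓ V j) ⊓ V k ≤ V i ⊓ V j := inf_le_left
    have l3 : (V i ⊓ V j) ⊓ V k ≤ V j ⊓ V k := inf_le_inf_right (V k) inf_le_right
    show gam hW (rX l1 (t i k)) = gam hW (rX l2 (t i j)) * gam hW (rX l3 (t j k))
    rw [gam_rX (hch2 i k) hW l1, gam_rX (hch2 i j) hW l2, gam_rX (hch2 j k) hW l3, ht, ht, ht]
    have h1 := hfK i
    have h2 := hfK j
    have h3 := hfK k
    field_simp
  have hU : iSup V = ⊤ := by
    rw [eq_top_iff]
    intro x _
    exact Opens.mem_iSup.mpr ⟨x, hyV x⟩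
  have hL := isInvertible_L V η id hyV hcoc hU
  obtain ⟨α⟩ := hpic _ hL
  obtain ⟨τ, hτdef⟩ : ∃ τ : Γ(CocycMod.L V η id hyV hcoc, ⊤), τ = ap α.inv ⊤ (toM 1) := ⟨_, rfl⟩
  have hτ : IsGen (CocycMod.L V η id hyV hcoc) ⊤ τ := by
    rw [hτdef]
    exact isGen_of_iso α.symm (isGen_one ⊤)
  have hu : ∀ y : Y, ∃ u : Γ(Y, V y), IsUnit u ∧
      rF (CocycMod.L V η id hyV hcoc) (le_top : V y ≤ ⊤) τ = u • sec V η id hyV hcoc y := by
    intro y
    obtain ⟨u, hu⟩ := (isGen_sec V η id hyV hcoc y).exists_coef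
      (rF (CocycMod.L V η id hyV hcoc) le_top τ)
    refine ⟨u, ?_, hu⟩
    apply isUnit_of_isGen_smul (isGen_sec V η id hyV hcoc y)
    rw [← hu]
    exact hτ.res le_top
  choose u huu hu using hu
  have hkey : ∀ i j : Y, gam (hch i) (u i) *
      (algebraMap R (FractionRing R) (f i) / algebraMap R (FractionRing R) (f j)) =
      gam (hch j) (u j) := by
    intro i j
    have e1 := congrArg (rF (CocycMod.L V η id hyV hcoc) (inf_le_left : V i ⊓ V j ≤ V i)) (hu i)
    have e2 := congrArg (rF (CocycMod.L V η id hyV hcoc) (inf_le_right : V i ⊓ V j ≤ V j)) (hu j)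
    rw [rF_rF, rF_smul] at e1 e2
    rw [rF_sec, ← mul_smul] at e1
    have e3 := e1.symm.trans e2
    have e4 := IsGen.coef_ext ((isGen_sec V η id hyV hcoc j).res inf_le_right) e3
    have e5 := congrArg (gam (hch2 i j)) e4
    rw [map_mul, gam_rX (hch i) (hch2 i j), gam_rX (hch j) (hch2 i j), hηv, ht] at e5
    exact e5
  refine ⟨gam (hch i₀) (u i₀) * algebraMap R (FractionRing R) (f i₀),
    mul_ne_zero ((huu i₀).map _).ne_zero (hfK i₀), fun y => ⟨u y, huu y, ?_⟩⟩
  have h1 := hkey y i₀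
  rw [← h1]
  have h2 := hfK y
  have h3 := hfK i₀
  field_simp

/-- **A prime ideal that is locally principal on `Y` is principal**, when `Pic Y = 0` and
`R = Γ(Y, O_Y)`. -/
theorem isPrincipal_of_charts (hbij : Function.Bijective (rho g ⊤)) (hpic : ParaF.PicTrivial Y)
    (p : Ideal R) [hp : p.IsPrime] (y₀ : Y)
    (hy₀ : (show PrimeSpectrum R from g y₀).asIdeal = p)
    (hloc : ∀ y : Y, ∃ s f : R, s ∉ (show PrimeSpectrum R from g y).asIdeal ∧ f ∈ p ∧ f ≠ 0 ∧
      ∀ x ∈ p, ∃ a, s * x = a * f) :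
    p.IsPrincipal := by
  have hgood : ∀ y : Y, ∃ (V : Y.Opens) (s f : R), y ∈ V ∧ IsChart g V s ∧ f ∈ p ∧ f ≠ 0 ∧
      ∀ x ∈ p, ∃ a, s * x = a * f := by
    intro y
    obtain ⟨V₀, s₀, hyV₀, hc₀⟩ := exists_chart (g := g) y
    obtain ⟨s₁, f, hs₁, hfp, hf0, hrel⟩ := hloc y
    have hs₁0 : s₁ ≠ 0 := by
      rintro rfl
      exact hs₁ (Ideal.zero_mem _)
    refine ⟨g ⁻¹ᵁ D (s₀ * s₁), s₀ * s₁, f, ?_, ⟨mul_ne_zero hc₀.ne hs₁0, ?_, rfl⟩, hfp, hf0, ?_⟩
    · show g y ∈ D (s₀ * s₁)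
      rw [D_mul]
      refine ⟨?_, hs₁⟩
      have h1 := hyV₀
      rw [hc₀.eq] at h1
      exact h1
    · rw [D_mul]
      exact inf_le_left.trans hc₀.le
    · intro x hx
      obtain ⟨a, ha⟩ := hrel x hx
      exact ⟨s₀ * a, by rw [mul_assoc, ha, mul_assoc]⟩
  choose V s f hyV hch hfp hf0 hrel using hgood
  obtain ⟨z, hz0, hz⟩ := exists_common hpic y₀ V s f hyV hch hf0
    (fun y y' => hrel y' (f y) (hfp y))
  obtain ⟨gen, hgen⟩ := exists_of_forall_chart hbij y₀ V s hyV hch z (fun y => by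
    obtain ⟨u, -, hu⟩ := hz y
    exact ⟨u * rho g (V y) (f y), by rw [map_mul, gam_rho, hu]⟩)
  have hgen0 : algebraMap R (FractionRing R) gen ≠ 0 := by
    rw [hgen]; exact hz0
  refine ⟨gen, ?_⟩
  apply le_antisymm
  · intro x hx
    obtain ⟨w, hw⟩ := exists_of_forall_chart hbij y₀ V s hyV hch
      (algebraMap R (FractionRing R) x / z) (fun y => by
      obtain ⟨u, huu, hu⟩ := hz y
      obtain ⟨a, ha⟩ := hrel y x hx
      obtain ⟨σ, hσ⟩ := isUnit_rho_pow (hch y) 1
      obtain ⟨u', rfl⟩ := huu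
      refine ⟨rho g (V y) a * ((σ⁻¹ : (Γ(Y, V y))ˣ) : Γ(Y, V y)) *
        ((u'⁻¹ : (Γ(Y, V y))ˣ) : Γ(Y, V y)), ?_⟩
      rw [map_mul, map_mul, gam_rho, map_units_inv, map_units_inv, hσ, gam_rho, pow_one, ← hu]
      have h1 : algebraMap R (FractionRing R) (s y) * algebraMap R (FractionRing R) x =
          algebraMap R (FractionRing R) a * algebraMap R (FractionRing R) (f y) := by
        rw [← map_mul, ← map_mul, ha]
      have hs0 : algebraMap R (FractionRing R) (s y) ≠ 0 := alg_ne_zero (hch y).ne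
      have hu0 : gam (hch y) (u' : Γ(Y, V y)) ≠ 0 := ((u'.isUnit).map _).ne_zero
      have hf0' := alg_ne_zero (hf0 y)
      field_simp
      linear_combination -h1)
    rw [Submodule.mem_span_singleton]
    refine ⟨w, ?_⟩
    apply IsFractionRing.injective R (FractionRing R)
    rw [smul_eq_mul, map_mul, hw, hgen]
    field_simp
  · rw [Submodule.span_singleton_le_iff_mem]
    obtain ⟨u, huu, hu⟩ := hz y₀
    obtain ⟨a, N, ha⟩ := PicUfd.exists_rep (hch y₀) u
    have e1 := congrArg (gam (hch y₀)) ha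
    rw [map_mul, gam_rho, gam_rho] at e1
    have e2 : gen * s y₀ ^ N = a * f y₀ := by
      apply IsFractionRing.injective R (FractionRing R)
      rw [map_mul, map_mul, hgen, ← hu, ← e1]
      ring
    have h3 : gen * s y₀ ^ N ∈ p := by
      rw [e2]
      exact Ideal.mul_mem_left _ _ (hfp y₀)
    rcases hp.mem_or_mem h3 with h | h
    · exact h
    · exfalso
      have h4 := hp.mem_of_pow_mem N h
      have hy := hyV y₀
      rw [(hch y₀).eq] at hy
      have h5 : s y₀ ∉ (show PrimeSpectrum R from g y₀).asIdeal := hy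
      rw [hy₀] at h5
      exact h5 h4

end Groth.Agent.ParaUfd
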