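import Mathlib
import Groth.Prelude
import Groth.Agent.Lib.ParaUfd3_helper5

/-!
# Cartier data with values in a field and the Picard group (helper5).  APPEND-ONLY once landed.

A *frame* on a scheme `Y` is a family of compatible injective ring maps `ρ V : Γ(Y, V) → K` into a
field, defined for the opens `V` satisfying a predicate `P` stable under finite intersections (think:
`Y` integral, `K` its function field, `P V` = "`V` is not empty").
-/

set_option autoImplicit false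
universe u
open CategoryTheory AlgebraicGeometry TopologicalSpace Opposite

noncomputable section

namespace Groth.Agent.WeilPic

open QcqsLoc GenLocH8 TensH8 FLFH8 QCohExtn Groth.Agent.CocycMod

variable {Y : Scheme.{u}} {K : Type u} [Field K] (P : Y.Opens → Prop)
  (ρ : ∀ V : Y.Opens, P V → (Γ(Y, V) →+* K))

structure IsFrame : Prop where
  inf : ∀ {V V' : Y.Opens}, P V → P V' → P (V ⊓ V')
  res : ∀ {V V' : Y.Opens} (h : V' ≤ V) (hV : P V) (hV' : P V') (t : Γ(Y, V)),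
    ρ V' hV' (rX h t) = ρ V hV t
  inj : ∀ (V : Y.Opens) (hV : P V), Function.Injective (ρ V hV)

variable {P ρ}

/-- **Gluing Cartier data when the Picard group is trivial.** -/
theorem exists_common_frame (hF : IsFrame P ρ) (hpic : ParaF.PicTrivial Y) (i₀ : Y)
    (V : Y → Y.Opens) (hyV : ∀ y, y ∈ V y) (hP : ∀ y, P (V y)) (f : Y → K)
    (hf0 : ∀ y, f y ≠ 0)
    (hrel : ∀ (y y' : Y) (h : P (V y ⊓ V y')), ∃ t : Γ(Y, V y ⊓ V y'), IsUnit t ∧
      ρ _ h t = f y / f y') :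
    ∃ z : K, z ≠ 0 ∧ ∀ y, ∃ u : Γ(Y, V y), IsUnit u ∧ ρ _ (hP y) u * f y = z := by
  have hP2 : ∀ i j : Y, P (V i ⊓ V j) := fun i j => hF.inf (hP i) (hP j)
  have hη : ∀ i j : Y, ∃ t : Γ(Y, V i ⊓ V j), IsUnit t ∧ ρ _ (hP2 i j) t = f i / f j :=
    fun i j => hrel i j (hP2 i j)
  choose t htu ht using hη
  let η : ∀ i j : Y, (Γ(Y, V i ⊓ V j))ˣ := fun i j => (htu i j).unit
  have hηv : ∀ i j, ((η i j : (Γ(Y, V i ⊓ V j))ˣ) : Γ(Y, V i ⊓ V j)) = t i j :=
    fun i j => (htu i j).unit_spec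
  have hcoc : Cocycle V η := by
    intro i j k
    have hW : P ((V i ⊓ V j) ⊓ V k) := hF.inf (hP2 i j) (hP k)
    rw [hηv, hηv, hηv]
    apply hF.inj _ hW
    rw [map_mul]
    have l1 : (V i ⊓ V j) ⊓ V k ≤ V i ⊓ V k := inf_le_inf_right (V k) inf_le_left
    have l2 : (V i ⊓ V j) ⊓ V k ≤ V i ⊓ V j := inf_le_left
    have l3 : (V i ⊓ V j) ⊓ V k ≤ V j ⊓ V k := inf_le_inf_right (V k) inf_le_right
    show ρ _ hW (rX l1 (t i k)) = ρ _ hW (rX l2 (t i j)) * ρ _ hW (rX l3 (t j k))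
    rw [hF.res l1 (hP2 i k) hW, hF.res l2 (hP2 i j) hW, hF.res l3 (hP2 j k) hW, ht, ht, ht]
    have h1 := hf0 i
    have h2 := hf0 j
    have h3 := hf0 k
    field_simp
  have hU : iSup V = ⊤ := by
    rw [eq_top_iff]
    intro x _
    exact Opens.mem_iSup.mpr ⟨x, hyV x⟩
  have hL := isInvertible_L V η id hyV hcoc hU
  obtain ⟨α⟩ := hpic _ hL
  obtain ⟨τ, hτdef⟩ : ∃ τ : Γ(CocycMod.L V η id hyV hcoc, ⊤), τ = ap α.inv ⊤ (toM 1) := ⟨_, rfl⟩
  have hτ : IsGen (CocycMod.L V η id hyV hcoc) ⊤ τ := by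
    rw [hτdef]
    exact isGen_of_iso α.symm (isGen_one ⊤)
  have hu : ∀ y : Y, ∃ u : Γ(Y, V y), IsUnit u ∧
      rF (CocycMod.L V η id hyV hcoc) (le_top : V y ≤ ⊤) τ = u • sec V η id hyV hcoc y := by
    intro y
    obtain ⟨u, hu⟩ := (isGen_sec V η id hyV hcoc y).exists_coef
      (rF (CocycMod.L V η id hyV hcoc) le_top τ)
    refine ⟨u, ?_, hu⟩
    apply isUnit_of_isGen_smul (isGen_sec V η id hyV hcoc y)
    rw [← hu]
    exact hτ.res le_top
  choose u huu hu using hu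
  have hkey : ∀ i j : Y, ρ _ (hP i) (u i) * (f i / f j) = ρ _ (hP j) (u j) := by
    intro i j
    have e1 := congrArg (rF (CocycMod.L V η id hyV hcoc) (inf_le_left : V i ⊓ V j ≤ V i)) (hu i)
    have e2 := congrArg (rF (CocycMod.L V η id hyV hcoc) (inf_le_right : V i ⊓ V j ≤ V j)) (hu j)
    rw [rF_rF, rF_smul] at e1 e2
    rw [rF_sec, ← mul_smul] at e1
    have e3 := e1.symm.trans e2
    have e4 := IsGen.coef_ext ((isGen_sec V η id hyV hcoc j).res inf_le_right) e3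
    have e5 := congrArg (ρ _ (hP2 i j)) e4
    rw [map_mul, hF.res inf_le_left (hP i) (hP2 i j), hF.res inf_le_right (hP j) (hP2 i j), hηv,
      ht] at e5
    exact e5
  refine ⟨ρ _ (hP i₀) (u i₀) * f i₀, mul_ne_zero ?_ (hf0 i₀), fun y => ⟨u y, huu y, ?_⟩⟩
  · intro h0
    have h1 : (u i₀ : Γ(Y, V i₀)) = 0 := hF.inj _ (hP i₀) (by rw [h0, map_zero])
    have h2 := huu i₀
    rw [h1] at h2
    have h3 : (1 : K) = 0 := by
      obtain ⟨v, hv⟩ := h2.exists_left_inv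
      rw [mul_zero] at hv
      have := congrArg (ρ _ (hP i₀)) hv
      rw [map_zero, map_one] at this
      exact this.symm
    exact one_ne_zero h3
  · have h1 := hkey y i₀
    rw [← h1]
    have h2 := hf0 y
    have h3 := hf0 i₀
    field_simp

/-- **The Picard group is trivial when all Cartier data are principal.** -/
theorem picTrivial_of_frame (hF : IsFrame P ρ) (hne : ∀ V : Y.Opens, (∃ y, y ∈ V) → P V)
    (H : ∀ (V : Y → Y.Opens) (_ : ∀ y, y ∈ V y) (hP : ∀ y, P (V y)) (f : Y → K),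
      (∀ y, f y ≠ 0) →
      (∀ (y y' : Y) (h : P (V y ⊓ V y')), ∃ t : Γ(Y, V y ⊓ V y'), IsUnit t ∧
        ρ _ h t = f y / f y') →
      ∃ z : K, z ≠ 0 ∧ ∀ y, ∃ u : Γ(Y, V y), IsUnit u ∧ ρ _ (hP y) u * f y = z) :
    ParaF.PicTrivial Y := by
  intro L hL
  by_cases hY : Nonempty Y
  swap
  · haveI : IsIso (homOfSec L 0) := isIso_of_isGen_cover _ (fun x => (hY ⟨x⟩).elim)
    exact ⟨(asIso (homOfSec L 0)).symm⟩
  obtain ⟨i₀⟩ := hY
  -- local generators
  have hgen : ∀ y : Y, ∃ (V : Y.Opens) (e : Γ(L, V)), y ∈ V ∧ IsGen L V e := by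
    intro y
    obtain ⟨W, -, hyW, e, he⟩ := exists_isGen hL y
    exact ⟨W, e, hyW, he⟩
  choose V e hyV he using hgen
  have hP : ∀ y, P (V y) := fun y => hne _ ⟨y, hyV y⟩
  have hP2 : ∀ i j : Y, P (V i ⊓ V j) := fun i j => hF.inf (hP i) (hP j)
  -- transition units
  have htr : ∀ i j : Y, ∃ t : Γ(Y, V i ⊓ V j), IsUnit t ∧
      rF L (inf_le_left : V i ⊓ V j ≤ V i) (e i) =
        t • rF L (inf_le_right : V i ⊓ V j ≤ V j) (e j) := by
    intro i j
    obtain ⟨t, ht⟩ := ((he j).res (inf_le_right : V i ⊓ V j ≤ V j)).exists_coef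
      (rF L (inf_le_left : V i ⊓ V j ≤ V i) (e i))
    refine ⟨t, ?_, ht⟩
    apply isUnit_of_isGen_smul ((he j).res (inf_le_right : V i ⊓ V j ≤ V j))
    rw [← ht]
    exact (he i).res inf_le_left
  choose t htu ht using htr
  have hφ0 : ∀ i j, ρ _ (hP2 i j) (t i j) ≠ 0 := by
    intro i j h0
    obtain ⟨v, hv⟩ := (htu i j).exists_left_inv
    have := congrArg (ρ _ (hP2 i j)) hv
    rw [map_mul, h0, mul_zero, map_one] at this
    exact zero_ne_one this
  -- the cocycle relation in `K`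
  have hcoc : ∀ i j k : Y, ρ _ (hP2 i k) (t i k) = ρ _ (hP2 i j) (t i j) * ρ _ (hP2 j k) (t j k) := by
    intro i j k
    have hW : P ((V i ⊓ V j) ⊓ V k) := hF.inf (hP2 i j) (hP k)
    have l1 : (V i ⊓ V j) ⊓ V k ≤ V i ⊓ V k := inf_le_inf_right (V k) inf_le_left
    have l2 : (V i ⊓ V j) ⊓ V k ≤ V i ⊓ V j := inf_le_left
    have l3 : (V i ⊓ V j) ⊓ V k ≤ V j ⊓ V k := inf_le_inf_right (V k) inf_le_right
    have a1 := congrArg (rF L l1) (ht i k)
    have a2 := congrArg (rF L l2) (ht i j)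
    have a3 := congrArg (rF L l3) (ht j k)
    rw [rF_smul, rF_rF, rF_rF] at a1 a2 a3
    have hk : IsGen L ((V i ⊓ V j) ⊓ V k) (rF L (inf_le_right : (V i ⊓ V j) ⊓ V k ≤ V k) (e k)) :=
      (he k).res inf_le_right
    have e1 : (rX l1 (t i k)) • rF L (inf_le_right : (V i ⊓ V j) ⊓ V k ≤ V k) (e k) =
        (rX l2 (t i j) * rX l3 (t j k)) •
          rF L (inf_le_right : (V i ⊓ V j) ⊓ V k ≤ V k) (e k) := by
      rw [mul_smul]
      exact a1.symm.trans (a2.trans (congrArg _ a3))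
    have e2 := IsGen.coef_ext hk e1
    have e3 := congrArg (ρ _ hW) e2
    rw [map_mul, hF.res l1 (hP2 i k) hW, hF.res l2 (hP2 i j) hW, hF.res l3 (hP2 j k) hW] at e3
    exact e3
  -- apply the hypothesis
  obtain ⟨z, hz0, hz⟩ := H V hyV hP (fun y => ρ _ (hP2 y i₀) (t y i₀)) (fun y => hφ0 y i₀)
    (fun y y' h => ⟨t y y', htu y y', by
      have h1 := hcoc y y' i₀
      have h2 := hφ0 y' i₀
      show ρ _ h (t y y') = _
      rw [h1]
      field_simp⟩)
  choose u huu hu using hz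
  -- the new generators glue
  have hglue : ∀ i j : Y, rF L (inf_le_left : V i ⊓ V j ≤ V i) (u i • e i) =
      rF L (inf_le_right : V i ⊓ V j ≤ V j) (u j • e j) := by
    intro i j
    rw [rF_smul, rF_smul, ht i j, ← mul_smul]
    congr 1
    apply hF.inj _ (hP2 i j)
    rw [map_mul, hF.res inf_le_left (hP i) (hP2 i j), hF.res inf_le_right (hP j) (hP2 i j)]
    have h1 := hu i
    have h2 := hu j
    have h3 := hcoc i j i₀
    have h4 := hφ0 i i₀
    have h5 := hφ0 j i₀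
    have h6 := hφ0 i j
    have e1 : ρ _ (hP i) (u i) = z / ρ _ (hP2 i i₀) (t i i₀) := by
      rw [eq_div_iff h4]; exact h1
    have e2 : ρ _ (hP j) (u j) = z / ρ _ (hP2 j i₀) (t j i₀) := by
      rw [eq_div_iff h5]; exact h2
    rw [e1, e2, h3]
    field_simp
  obtain ⟨T, hT⟩ := glue L V ⊤ (fun _ => le_top)
    (fun x _ => Opens.mem_iSup.mpr ⟨x, hyV x⟩) (fun y => u y • e y) hglue
  haveI : IsIso (homOfSec L T) := by
    apply isIso_of_isGen_cover
    intro x
    refine ⟨V x, hyV x, toM (1 : Γ(Y, V x)), isGen_one (V x), ?_⟩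
    have h1 : ap (homOfSec L T) (V x) (toM (1 : Γ(Y, V x))) = rF L (le_top : V x ≤ ⊤) T :=
      val_homOfSec L T (V x)
    rw [h1, hT x]
    exact isGen_smul_of_isUnit (he x) (huu x)
  exact ⟨(asIso (homOfSec L T)).symm⟩

end Groth.Agent.WeilPic
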