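import Mathlib
import Groth.Prelude
import Groth.Agent.Lib.WeilPic1_helper5
import Groth.Agent.Lib.PrincCyc1_helper5
import Groth.Agent.Lib.Norm1_helper8

/-!
# Principal prime cycles and the Picard groups of the open subschemes of a normal integral scheme
(helper5).  APPEND-ONLY once landed.
-/

set_option autoImplicit false
universe u
open CategoryTheory AlgebraicGeometry TopologicalSpace Opposite

noncomputable section

namespace Groth.Agent.WeilPic

open QcqsLoc Groth.Agent.CDivUFD Groth.Agent.PrincCyc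

open scoped Classical

variable {X : Scheme.{u}} [IsIntegral X]

/-! ### the frame of an open subscheme -/

/-- the opens of `U` containing the generic point of `X` -/
def PU (U : X.Opens) (V : (U : Scheme.{u}).Opens) : Prop := genericPoint X ∈ U.ι ''ᵁ V

/-- functions on an open of `U` as rational functions on `X` -/
def rhoU (U : X.Opens) (V : (U : Scheme.{u}).Opens) (h : PU U V) :
    Γ((U : Scheme.{u}), V) →+* X.functionField :=
  (X.presheaf.germ (U.ι ''ᵁ V) (genericPoint X) h).hom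

theorem pU_of_mem (U : X.Opens) (V : (U : Scheme.{u}).Opens) (h : ∃ y, y ∈ V) : PU U V := by
  obtain ⟨y, hy⟩ := h
  exact NormH8.genericPoint_mem (x := y.1) ⟨y, hy, rfl⟩

theorem mem_image_inf (U : X.Opens) {V V' : (U : Scheme.{u}).Opens} {z : X}
    (h : z ∈ U.ι ''ᵁ V) (h' : z ∈ U.ι ''ᵁ V') : z ∈ U.ι ''ᵁ (V ⊓ V') := by
  obtain ⟨y, hy, e⟩ := h
  obtain ⟨y', hy', e'⟩ := h'
  have hyy : y = y' := U.ι.isOpenEmbedding.injective (e.trans e'.symm)
  subst hyy
  exact ⟨y, ⟨hy, hy'⟩, e⟩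

theorem isFrame_U (U : X.Opens) : IsFrame (PU U) (rhoU U) where
  inf := fun h h' => mem_image_inf U h h'
  res := by
    intro V V' h hV hV' t
    exact TopCat.Presheaf.germ_res_apply X.presheaf (U.ι.opensFunctor.map (homOfLE h))
      (genericPoint X) hV' t
  inj := fun V hV => germ_injective_of_isIntegral X (genericPoint X) hV

theorem rhoU_eq (U : X.Opens) (V : (U : Scheme.{u}).Opens) (h : PU U V)
    (t : Γ((U : Scheme.{u}), V)) :
    rhoU U V h t = X.presheaf.germ (U.ι ''ᵁ V) (genericPoint X) h t := rfl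

variable [IsLocallyNoetherian X]

/-! ### orders -/

theorem ord_germ_of_isUnit (W : X.Opens) (hη : genericPoint X ∈ W) (t : Γ(X, W)) (ht : IsUnit t)
    (z : X) (hz : z ∈ W) : Scheme.ord (X.presheaf.germ W (genericPoint X) hη t) z = 0 := by
  haveI : Nonempty W := ⟨⟨z, hz⟩⟩
  exact Scheme.ord_of_isUnit ht hz

/-- **Hartogs for units**: a rational function without zeros and poles on `W` is a unit of
`Γ(X, W)`. -/
theorem exists_unit_section (hX : Pi1.IsNormalScheme X) (W : X.Opens)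
    (hη : genericPoint X ∈ W) (u : X.functionField) (hu : u ≠ 0)
    (H : ∀ z ∈ W, Order.coheight z = 1 → Scheme.ord u z = 0) :
    ∃ t : Γ(X, W), IsUnit t ∧ X.presheaf.germ W (genericPoint X) hη t = u := by
  haveI : Nonempty W := ⟨⟨genericPoint X, hη⟩⟩
  have h1 : ∀ x ∈ W, ∃ r : X.presheaf.stalk x,
      algebraMap (X.presheaf.stalk x) X.functionField r = u := by
    intro x hx
    have := mem_range_of_codim_one hX x u (fun z hz hco => by
      rw [← Groth.Agent.CDivNormal.zero_le_ord_iff hX z hco u hu,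
        H z (hz.mem_open W.isOpen hx) hco])
    exact this
  have h2 : ∀ x ∈ W, ∃ r : X.presheaf.stalk x,
      algebraMap (X.presheaf.stalk x) X.functionField r = u⁻¹ := by
    intro x hx
    have := mem_range_of_codim_one hX x u⁻¹ (fun z hz hco => by
      rw [← Groth.Agent.CDivNormal.zero_le_ord_iff hX z hco u⁻¹ (inv_ne_zero hu),
        ord_inv u hu, H z (hz.mem_open W.isOpen hx) hco]
      simp)
    exact this
  obtain ⟨t, ht⟩ := NormH8.exists_section_of_forall_stalk W u h1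
  obtain ⟨t', ht'⟩ := NormH8.exists_section_of_forall_stalk W u⁻¹ h2
  have hmul : t * t' = 1 := by
    apply X.germToFunctionField_injective W
    rw [map_mul, ht, ht', map_one, mul_inv_cancel₀ hu]
  exact ⟨t, IsUnit.of_mul_eq_one t' hmul, ht⟩

theorem finite_ord_ne_zero_of_compact [CompactSpace X] (g : X.functionField) (hg : g ≠ 0) :
    {z : X | Order.coheight z = 1 ∧ Scheme.ord g z ≠ 0}.Finite := by
  obtain ⟨t, ht⟩ := isCompact_univ.elim_finite_subcover
    (fun W : X.affineOpens => ((W.1 : X.Opens) : Set X)) (fun W => W.1.isOpen) (by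
      intro x _
      obtain ⟨_, ⟨W, hW, rfl⟩, hxW, -⟩ :=
        (X.isBasis_affineOpens).exists_subset_of_mem_open (Set.mem_univ x) isOpen_univ
      exact Set.mem_iUnion.mpr ⟨⟨W, hW⟩, hxW⟩)
  have hfin : (⋃ W ∈ t, {ξ : X | ξ ∈ (W : X.affineOpens).1 ∧ Order.coheight ξ = 1 ∧
      Scheme.ord g ξ ≠ 0}).Finite :=
    Set.Finite.biUnion t.finite_toSet
      (fun W _ => Groth.Agent.OrdFin.finite_ord_ne_zero W.2 g hg)
  apply hfin.subset
  rintro z ⟨hco, hne⟩
  obtain ⟨W, hWt, hzW⟩ := Set.mem_iUnion₂.mp (ht (Set.mem_univ z))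
  exact Set.mem_iUnion₂.mpr ⟨W, hWt, hzW, hco, hne⟩

theorem ord_prod_zpow {ι : Type*} (s : Finset ι) (f : ι → X.functionField)
    (hf : ∀ i ∈ s, f i ≠ 0) (n : ι → ℤ) (y : X) :
    Scheme.ord (∏ i ∈ s, f i ^ n i) y = ∑ i ∈ s, n i * Scheme.ord (f i) y := by
  classical
  induction s using Finset.induction_on with
  | empty => simp [ord_one]
  | insert a s ha ih =>
    rw [Finset.prod_insert ha, Finset.sum_insert ha]
    have h1 : f a ^ n a ≠ 0 := zpow_ne_zero _ (hf a (Finset.mem_insert_self a s))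
    have h2 : ∏ i ∈ s, f i ^ n i ≠ 0 :=
      Finset.prod_ne_zero_iff.mpr (fun i hi => zpow_ne_zero _ (hf i (Finset.mem_insert_of_mem hi)))
    rw [Scheme.ord_mul h1 h2, ord_zpow _ (hf a (Finset.mem_insert_self a s)),
      ih (fun i hi => hf i (Finset.mem_insert_of_mem hi))]

theorem ord_div (f g : X.functionField) (hf : f ≠ 0) (hg : g ≠ 0) (z : X) :
    Scheme.ord (f / g) z = Scheme.ord f z - Scheme.ord g z := by
  rw [div_eq_mul_inv, Scheme.ord_mul hf (inv_ne_zero hg), ord_inv g hg]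
  ring

/-- the hypothesis "every prime cycle of codimension one is principal" -/
def AllPrincipal (X : Scheme.{u}) [IsIntegral X] [IsLocallyNoetherian X] : Prop :=
  ∀ x₀ : X, Order.coheight x₀ = 1 → ∃ f : X.functionField, f ≠ 0 ∧
    Scheme.ord f x₀ = 1 ∧ ∀ x : X, x ≠ x₀ → Order.coheight x = 1 → Scheme.ord f x = 0

/-- **Cartier data on an open subscheme are principal** when all prime cycles are principal. -/
theorem frame_principal (hX : Pi1.IsNormalScheme X) [CompactSpace X] (hprin : AllPrincipal X)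
    (U : X.Opens) (V : ↥(U : Scheme.{u}) → (U : Scheme.{u}).Opens) (hyV : ∀ y, y ∈ V y)
    (hP : ∀ y, PU U (V y)) (f : ↥(U : Scheme.{u}) → X.functionField) (hf0 : ∀ y, f y ≠ 0)
    (hrel : ∀ (y y' : ↥(U : Scheme.{u})) (h : PU U (V y ⊓ V y')),
      ∃ t : Γ((U : Scheme.{u}), V y ⊓ V y'), IsUnit t ∧ rhoU U _ h t = f y / f y') :
    ∃ z : X.functionField, z ≠ 0 ∧ ∀ y, ∃ u : Γ((U : Scheme.{u}), V y), IsUnit u ∧
      rhoU U _ (hP y) u * f y = z := by
  classical
  -- the orders of the local equations agree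
  have c1 : ∀ (y w : ↥(U : Scheme.{u})), w ∈ V y → Order.coheight w.1 = 1 →
      Scheme.ord (f y) w.1 = Scheme.ord (f w) w.1 := by
    intro y w hw hco
    have h : PU U (V y ⊓ V w) := (isFrame_U U).inf (hP y) (hP w)
    obtain ⟨t, htu, ht⟩ := hrel y w h
    have hmem : w.1 ∈ U.ι ''ᵁ (V y ⊓ V w) := ⟨w, ⟨hw, hyV w⟩, rfl⟩
    have h0 := ord_germ_of_isUnit (U.ι ''ᵁ (V y ⊓ V w)) h t htu w.1 hmem
    rw [← rhoU_eq U _ h t, ht, ord_div _ _ (hf0 y) (hf0 w)] at h0
    omega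
  let D : X → ℤ := fun z => if hz : z ∈ U then Scheme.ord (f ⟨z, hz⟩) z else 0
  have hD : ∀ w : ↥(U : Scheme.{u}), D w.1 = Scheme.ord (f w) w.1 := by
    intro w
    show (if hz : w.1 ∈ U then Scheme.ord (f ⟨w.1, hz⟩) w.1 else 0) = _
    rw [dif_pos w.2]
    rfl
  -- finiteness
  haveI : IsNoetherian X := ⟨⟩
  have hUc : IsCompact (U : Set X) := NoetherianSpace.isCompact _
  obtain ⟨T, hT⟩ := hUc.elim_finite_subcover
    (fun y : ↥(U : Scheme.{u}) => ((U.ι ''ᵁ V y : X.Opens) : Set X))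
    (fun y => (U.ι ''ᵁ V y).isOpen) (by
      intro z hz
      exact Set.mem_iUnion.mpr ⟨⟨z, hz⟩, ⟨⟨z, hz⟩, hyV ⟨z, hz⟩, rfl⟩⟩)
  have hSfin : {z : X | Order.coheight z = 1 ∧ D z ≠ 0}.Finite := by
    have hfin : (⋃ y ∈ T, {z : X | Order.coheight z = 1 ∧ Scheme.ord (f y) z ≠ 0}).Finite :=
      Set.Finite.biUnion T.finite_toSet (fun y _ => finite_ord_ne_zero_of_compact (f y) (hf0 y))
    apply hfin.subset
    rintro z ⟨hco, hne⟩
    have hzU : z ∈ U := by
      by_contra hzU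
      exact hne (dif_neg hzU)
    obtain ⟨y, hyT, w, hw, hwz⟩ := Set.mem_iUnion₂.mp (hT hzU)
    have hwz' : w.1 = z := hwz
    subst hwz'
    refine Set.mem_iUnion₂.mpr ⟨y, hyT, hco, ?_⟩
    rw [c1 y w hw hco, ← hD w]
    exact hne
  -- the global equation
  have hπ : ∀ x₀ : X, ∃ π : X.functionField, π ≠ 0 ∧ (Order.coheight x₀ = 1 →
      Scheme.ord π x₀ = 1 ∧ ∀ x : X, x ≠ x₀ → Order.coheight x = 1 → Scheme.ord π x = 0) := by
    intro x₀
    by_cases hco : Order.coheight x₀ = 1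
    · obtain ⟨π, h0, h1, h2⟩ := hprin x₀ hco
      exact ⟨π, h0, fun _ => ⟨h1, h2⟩⟩
    · exact ⟨1, one_ne_zero, fun h => absurd h hco⟩
  choose π hπ0 hπ using hπ
  have hg0 : ∏ z ∈ hSfin.toFinset, π z ^ D z ≠ 0 :=
    Finset.prod_ne_zero_iff.mpr (fun z _ => zpow_ne_zero _ (hπ0 z))
  have hgord : ∀ w : X, Order.coheight w = 1 →
      Scheme.ord (∏ z ∈ hSfin.toFinset, π z ^ D z) w = D w := by
    intro w hco
    rw [ord_prod_zpow _ _ (fun z _ => hπ0 z)]
    have h1 : ∀ z ∈ hSfin.toFinset, D z * Scheme.ord (π z) w = if z = w then D z else 0 := by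
      intro z hz
      have hzco : Order.coheight z = 1 := (hSfin.mem_toFinset.mp hz).1
      by_cases hzw : z = w
      · subst hzw
        rw [if_pos rfl, (hπ z hzco).1, mul_one]
      · rw [if_neg hzw, (hπ z hzco).2 w (Ne.symm hzw) hco, mul_zero]
    rw [Finset.sum_congr rfl h1, Finset.sum_ite_eq']
    split_ifs with hw
    · rfl
    · by_contra hne
      exact hw (hSfin.mem_toFinset.mpr ⟨hco, Ne.symm hne⟩)
  refine ⟨∏ z ∈ hSfin.toFinset, π z ^ D z, hg0, fun y => ?_⟩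
  obtain ⟨t, htu, ht⟩ := exists_unit_section hX (U.ι ''ᵁ V y) (hP y)
    ((∏ z ∈ hSfin.toFinset, π z ^ D z) / f y) (div_ne_zero hg0 (hf0 y)) (by
      rintro z ⟨w, hw, hwz⟩ hco
      have hwz' : w.1 = z := hwz
      subst hwz'
      rw [ord_div _ _ hg0 (hf0 y), hgord _ hco, c1 y w hw hco, hD w]
      exact sub_self _)
  refine ⟨t, htu, ?_⟩
  rw [rhoU_eq, ht, div_mul_cancel₀ _ (hf0 y)]

/-- **All open subschemes have trivial Picard group** when all prime cycles are principal. -/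
theorem picTrivial_opens (hX : Pi1.IsNormalScheme X) [CompactSpace X] (hprin : AllPrincipal X)
    (U : X.Opens) : ParaF.PicTrivial (U : Scheme.{u}) :=
  picTrivial_of_frame (isFrame_U U) (pU_of_mem U)
    (fun V hyV hP f hf0 hrel => frame_principal hX hprin U V hyV hP f hf0 hrel)

/-- **A prime cycle which is locally principal on an open with trivial Picard group containing all
points of codimension one is principal.** -/
theorem exists_prin_of_picTrivial (hX : Pi1.IsNormalScheme X) (x₀ : X)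
    (hco : Order.coheight x₀ = 1) (U : X.Opens)
    (hU : ∀ x ∈ U, ∃ π : X.functionField, π ≠ 0 ∧ Cond x₀ x π)
    (hcod : ∀ z : X, Order.coheight z = 1 → z ∈ U)
    (hpic : ParaF.PicTrivial (U : Scheme.{u})) :
    ∃ f : X.functionField, f ≠ 0 ∧ Scheme.ord f x₀ = 1 ∧
      ∀ x : X, x ≠ x₀ → Order.coheight x = 1 → Scheme.ord f x = 0 := by
  have hdata : ∀ y : ↥(U : Scheme.{u}), ∃ (π : X.functionField) (O : X.Opens), π ≠ 0 ∧
      y.1 ∈ O ∧ ∀ x : X, x ∈ O → Cond x₀ x π := by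
    intro y
    obtain ⟨π, hπ0, hc⟩ := hU y.1 y.2
    obtain ⟨O, hyO, hO⟩ := cond_open x₀ y.1 π hπ0 hc
    exact ⟨π, O, hπ0, hyO, hO⟩
  choose π O hπ0 hyO hO using hdata
  have hyV : ∀ y : ↥(U : Scheme.{u}), y ∈ U.ι ⁻¹ᵁ O y := fun y => hyO y
  have hP : ∀ y, PU U (U.ι ⁻¹ᵁ O y) := fun y => pU_of_mem U _ ⟨y, hyV y⟩
  have key : ∀ (y w : ↥(U : Scheme.{u})), w ∈ U.ι ⁻¹ᵁ O y → Order.coheight w.1 = 1 →
      Scheme.ord (π y) w.1 = if w.1 = x₀ then 1 else 0 :=
    fun y w hw hcow => hO y w.1 hw w.1 (specializes_refl _) hcow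
  obtain ⟨z₀, hz0, hz⟩ := exists_common_frame (isFrame_U U) hpic ⟨x₀, hcod x₀ hco⟩
    (fun y => U.ι ⁻¹ᵁ O y) hyV hP π hπ0 (by
      intro y y' h
      obtain ⟨t, htu, ht⟩ := exists_unit_section hX (U.ι ''ᵁ (U.ι ⁻¹ᵁ O y ⊓ U.ι ⁻¹ᵁ O y')) h
        (π y / π y') (div_ne_zero (hπ0 y) (hπ0 y')) (by
          rintro z ⟨w, ⟨hw, hw'⟩, hwz⟩ hcow
          have hwz' : w.1 = z := hwz
          subst hwz'
          rw [ord_div _ _ (hπ0 y) (hπ0 y'), key y w hw hcow, key y' w hw' hcow]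
          exact sub_self _)
      exact ⟨t, htu, ht⟩)
  have hord : ∀ w : X, Order.coheight w = 1 → Scheme.ord z₀ w = if w = x₀ then 1 else 0 := by
    intro w hcow
    obtain ⟨u, huu, hu⟩ := hz ⟨w, hcod w hcow⟩
    have hmem : w ∈ U.ι ''ᵁ (U.ι ⁻¹ᵁ O ⟨w, hcod w hcow⟩) :=
      ⟨⟨w, hcod w hcow⟩, hyV ⟨w, hcod w hcow⟩, rfl⟩
    have h0 := ord_germ_of_isUnit _ (hP ⟨w, hcod w hcow⟩) u huu w hmem
    have hu0 : rhoU U _ (hP ⟨w, hcod w hcow⟩) u ≠ 0 := by
      intro h
      rw [h, zero_mul] at hu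
      exact hz0 hu.symm
    rw [← hu, Scheme.ord_mul hu0 (hπ0 _), rhoU_eq, h0, zero_add]
    exact key ⟨w, hcod w hcow⟩ ⟨w, hcod w hcow⟩ (hyV _) hcow
  refine ⟨z₀, hz0, ?_, ?_⟩
  · rw [hord x₀ hco, if_pos rfl]
  · intro x hne hcox
    rw [hord x hcox, if_neg hne]

/-- factoriality of the local rings when all prime cycles are principal -/
theorem ufd_of_allPrincipal (hX : Pi1.IsNormalScheme X) (hprin : AllPrincipal X) (x : X) :
    UniqueFactorizationMonoid (X.presheaf.stalk x) := by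
  rw [UniqueFactorizationMonoid.iff_forall_isPrincipal_of_height_eq_one]
  intro 𝔭 h𝔭 hht
  obtain ⟨x₀, h, hco, rfl⟩ := exists_genPrime_eq x 𝔭 hht
  obtain ⟨f, hf0, h1, h2⟩ := hprin x₀ hco
  have hc : Cond x₀ x f := by
    intro z _ hcoz
    by_cases hzx : z = x₀
    · subst hzx
      rw [if_pos rfl]
      exact h1
    · rw [if_neg hzx]
      exact h2 z hzx hcoz
  obtain ⟨β, -, hβ⟩ := exists_generator hX h hco f hf0 hc
  exact ⟨⟨β, hβ.symm⟩⟩

end Groth.Agent.WeilPic
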