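import Mathlib
import Groth.Prelude
import Groth.Agent.Lib.WeilPic2_helper5
import Groth.Agent.Lib.Tens49_helper8

/-!
# Principal prime cycles, global equations and the Picard group (helper5).
APPEND-ONLY once landed.
-/

set_option autoImplicit false
universe u
open CategoryTheory AlgebraicGeometry TopologicalSpace Opposite IsLocalRing

noncomputable section

namespace Groth.Agent.WeilPic

open QcqsLoc Groth.Agent.CDivUFD Groth.Agent.PrincCyc TensH8

open scoped Classical

variable {X : Scheme.{u}}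

/-! ### the Picard group of `X` and of its open subscheme `⊤` -/

theorem picTrivial_of_top (h : ParaF.PicTrivial ((⊤ : X.Opens) : Scheme.{u})) :
    ParaF.PicTrivial X := by
  intro L hL
  have hL' : PicF.IsInvertible (L.restrict (⊤ : X.Opens).ι) :=
    isInvertible_restrict (⊤ : X.Opens).ι hL
  obtain ⟨α⟩ := h _ hL'
  have θ : L.restrict (⊤ : X.Opens).ι ≅ (Coh.structureModule X).restrict (⊤ : X.Opens).ι :=
    α ≪≫ (Scheme.Modules.restrictUnitIso _).symm
  exact nonempty_iso_of_ffInv _ (ffInv_of_isIso _) hL isInvertible_structureModule θ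

theorem picTrivial_top (h : ParaF.PicTrivial X) :
    ParaF.PicTrivial ((⊤ : X.Opens) : Scheme.{u}) := by
  intro L₀ hL₀
  obtain ⟨L, hL, ⟨θ⟩⟩ := esInv_of_isIso (⊤ : X.Opens).ι L₀ hL₀
  obtain ⟨β⟩ := h L hL
  exact ⟨θ.symm ≪≫ (Scheme.Modules.restrictFunctor (⊤ : X.Opens).ι).mapIso β ≪≫
    Scheme.Modules.restrictUnitIso _⟩

variable [IsIntegral X] [IsLocallyNoetherian X]

/-- the condition on global equations of the prime cycles -/
def GlobalEq (X : Scheme.{u}) [IsIntegral X] [IsLocallyNoetherian X] : Prop :=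
  ∀ ζ : ↥X, Order.coheight ζ = 1 → ∃ g : Γ(X, ⊤),
    (∀ (x : ↥X) (h : ζ ⤳ x),
      (IsLocalRing.maximalIdeal ↑(X.presheaf.stalk ζ)).comap (X.presheaf.stalkSpecializes h).hom =
        Ideal.span {X.presheaf.germ ⊤ x trivial g}) ∧
    ∀ x : ↥X, ¬ ζ ⤳ x → IsUnit (X.presheaf.germ ⊤ x trivial g)

theorem allPrincipal_of_globalEq (h1 : GlobalEq X) : Pi1.IsNormalScheme X ∧ AllPrincipal X := by
  have hufd : ∀ x : X, UniqueFactorizationMonoid (X.presheaf.stalk x) := by
    intro x
    rw [UniqueFactorizationMonoid.iff_forall_isPrincipal_of_height_eq_one]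
    intro 𝔭 h𝔭 hht
    obtain ⟨ζ, h, hco, rfl⟩ := exists_genPrime_eq x 𝔭 hht
    obtain ⟨g, hg1, -⟩ := h1 ζ hco
    exact ⟨⟨_, hg1 x h⟩⟩
  have hX : Pi1.IsNormalScheme X := fun x => ⟨inferInstance, by
    haveI := hufd x
    infer_instance⟩
  refine ⟨hX, ?_⟩
  intro x₀ hco
  obtain ⟨g, hg1, hg2⟩ := h1 x₀ hco
  haveI : Nonempty (⊤ : X.Opens) := ⟨⟨x₀, trivial⟩⟩
  have hfx : ∀ x : X, algebraMap (X.presheaf.stalk x) X.functionField
      (X.presheaf.germ ⊤ x trivial g) = X.germToFunctionField ⊤ g :=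
    fun x => Scheme.algebraMap_germ_eq_germToFunctionField (X := X) (U := ⊤) trivial g
  have hspan : Ideal.span {X.presheaf.germ ⊤ x₀ trivial g} = maximalIdeal (X.presheaf.stalk x₀) := by
    rw [← hg1 x₀ (specializes_refl x₀)]
    exact genPrime_eq_maximalIdeal_of_eq (specializes_refl x₀) rfl
  have hord := ord_eq_one_of_span hX x₀ hco _ hspan
  rw [hfx] at hord
  refine ⟨X.germToFunctionField ⊤ g, ?_, hord, ?_⟩
  · intro h0
    rw [h0, Scheme.ord_zero] at hord
    exact zero_ne_one hord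
  · intro x hne hcox
    have hnsp : ¬ x₀ ⤳ x := by
      intro hsp
      have := coheight_lt_of_specializes hsp (Ne.symm hne)
      rw [hco, hcox] at this
      exact lt_irrefl _ this
    have hu := hg2 x hnsp
    have h0 := Groth.Agent.OrdFin.ord_eq_zero_of_unit x hu.unit
    rwa [IsUnit.unit_spec, hfx] at h0

theorem globalEq_of_allPrincipal (hX : Pi1.IsNormalScheme X) (hprin : AllPrincipal X) :
    GlobalEq X := by
  intro ζ hco
  obtain ⟨f, hf0, h1, h2⟩ := hprin ζ hco
  have hc : ∀ x : X, Cond ζ x f := by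
    intro x z _ hcoz
    by_cases hzx : z = ζ
    · subst hzx
      rw [if_pos rfl]
      exact h1
    · rw [if_neg hzx]
      exact h2 z hzx hcoz
  haveI : Nonempty (⊤ : X.Opens) := ⟨⟨ζ, trivial⟩⟩
  have hreg : ∀ x ∈ (⊤ : X.Opens), ∃ r : X.presheaf.stalk x,
      algebraMap (X.presheaf.stalk x) X.functionField r = f := by
    intro x _
    apply mem_range_of_codim_one hX x f
    intro z hz hcoz
    rw [← Groth.Agent.CDivNormal.zero_le_ord_iff hX z hcoz f hf0, hc x z hz hcoz]
    split_ifs <;> norm_num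
  obtain ⟨g, hg⟩ := NormH8.exists_section_of_forall_stalk ⊤ f hreg
  have hfx : ∀ x : X, algebraMap (X.presheaf.stalk x) X.functionField
      (X.presheaf.germ ⊤ x trivial g) = f := fun x =>
    (Scheme.algebraMap_germ_eq_germToFunctionField (X := X) (U := ⊤) trivial g).trans hg
  refine ⟨g, ?_, ?_⟩
  · intro x h
    obtain ⟨β, hβ1, hβ2⟩ := exists_generator hX h hco f hf0 (hc x)
    have hgβ : X.presheaf.germ ⊤ x trivial g = β :=
      IsFractionRing.injective (X.presheaf.stalk x) X.functionField ((hfx x).trans hβ1.symm)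
    rw [hgβ]
    exact hβ2.symm
  · intro x hnsp
    have hz0 : ∀ z : X, z ⤳ x → Order.coheight z = 1 → Scheme.ord f z = 0 := by
      intro z hz hcoz
      rw [hc x z hz hcoz, if_neg]
      rintro rfl
      exact hnsp hz
    have hinv : f⁻¹ ∈ Set.range (algebraMap (X.presheaf.stalk x) X.functionField) := by
      apply mem_range_of_codim_one hX x f⁻¹
      intro z hz hcoz
      rw [← Groth.Agent.CDivNormal.zero_le_ord_iff hX z hcoz f⁻¹ (inv_ne_zero hf0),
        ord_inv f hf0, hz0 z hz hcoz]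
      simp
    obtain ⟨r', hr'⟩ := hinv
    have hmul : X.presheaf.germ ⊤ x trivial g * r' = 1 := by
      apply IsFractionRing.injective (X.presheaf.stalk x) X.functionField
      rw [map_mul, hfx, hr', map_one, mul_inv_cancel₀ hf0]
    exact IsUnit.of_mul_eq_one r' hmul

/-! ### the locus where a prime cycle is locally principal -/

theorem isOpen_locus (x₀ : X) :
    IsOpen {x : X | ∃ π : X.functionField, π ≠ 0 ∧ Cond x₀ x π} := by
  rw [isOpen_iff_forall_mem_open]
  rintro x ⟨π, hπ0, hc⟩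
  obtain ⟨O, hxO, hO⟩ := cond_open x₀ x π hπ0 hc
  exact ⟨O, fun y hy => ⟨π, hπ0, hO y hy⟩, O.isOpen, hxO⟩

theorem mem_locus_of_coheight (hX : Pi1.IsNormalScheme X) (x₀ z : X)
    (hcoz : Order.coheight z = 1) : ∃ π : X.functionField, π ≠ 0 ∧ Cond x₀ z π := by
  have hdim : ¬ (2 : WithBot ℕ∞) ≤ ringKrullDim (X.presheaf.stalk z) := by
    rw [(Groth.Agent.CDivNormal.coheight_eq_one_iff z).mp hcoz]
    intro h
    have h2 : ((2 : ℕ∞) : WithBot ℕ∞) ≤ ((1 : ℕ∞) : WithBot ℕ∞) := h
    exact absurd (WithBot.coe_le_coe.1 h2) (by decide)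
  obtain ⟨f, hf0, hf⟩ := principal_of_dim_lt_two hX (fun w => if w = x₀ then 1 else 0) z hdim
  exact ⟨f, hf0, fun w hw hcow => (hf w hcow hw).symm⟩

/-- normal, all open subschemes with trivial Picard group ⇒ all prime cycles principal -/
theorem allPrincipal_of_picTrivial_opens (hX : Pi1.IsNormalScheme X)
    (hpic : ∀ U : X.Opens, ParaF.PicTrivial (U : Scheme.{u})) : AllPrincipal X := by
  intro x₀ hco
  exact exists_prin_of_picTrivial hX x₀ hco
    ⟨{x : X | ∃ π : X.functionField, π ≠ 0 ∧ Cond x₀ x π}, isOpen_locus x₀⟩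
    (fun x hx => hx) (fun z hcoz => mem_locus_of_coheight hX x₀ z hcoz) (hpic _)

/-- locally factorial with trivial Picard group ⇒ all prime cycles principal -/
theorem allPrincipal_of_ufd (hufd : ∀ x : X, UniqueFactorizationMonoid (X.presheaf.stalk x))
    (hpic : ParaF.PicTrivial X) : Pi1.IsNormalScheme X ∧ AllPrincipal X := by
  have hX : Pi1.IsNormalScheme X := fun x => ⟨inferInstance, by
    haveI := hufd x
    infer_instance⟩
  refine ⟨hX, fun x₀ hco => ?_⟩
  exact exists_prin_of_picTrivial hX x₀ hco ⊤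
    (fun x _ => by
      obtain ⟨π, hπ⟩ := exists_cond hX hufd x₀ hco x
      exact ⟨(π : X.functionField), π.ne_zero, hπ⟩)
    (fun _ _ => trivial) (picTrivial_top hpic)

end Groth.Agent.WeilPic
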