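import Mathlib
import Groth.Prelude
import Groth.Agent.Lib.WeilPic3_helper5
import Groth.Agent.Lib.Norm3_helper8
import Groth.Agent.Lib.WDivSh6_helper8
import Groth.Agent.Lib.Tens49_helper8

/-!
# Parafactorial pairs and factoriality (helper5).  APPEND-ONLY once landed.

* `exists_common_frame_local`: gluing Cartier data with values in a field when the invertible modules
  are only known to be trivial on some open subset.
* `exists_cond_of_extend`: a prime cycle which is locally principal on an open `U₀` containing all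
  points of codimension one is locally principal everywhere, as soon as the invertible modules on `U₀`
  extend to invertible modules on `X`.
-/

set_option autoImplicit false
universe u
open CategoryTheory AlgebraicGeometry TopologicalSpace Opposite IsLocalRing

noncomputable section

namespace Groth.Agent.PFact

open QcqsLoc GenLocH8 TensH8 FLFH8 QCohExtn Groth.Agent.CocycMod Groth.Agent.WeilPic

section Frame

variable {Y : Scheme.{u}} {K : Type u} [Field K] {P : Y.Opens → Prop}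
  {ρ : ∀ V : Y.Opens, P V → (Γ(Y, V) →+* K)}

/-- **Gluing Cartier data when the invertible modules are trivial on some open subset.** -/
theorem exists_common_frame_local (hF : IsFrame P ρ) (R : Y.Opens → Prop)
    (hloc : ∀ L : Y.Modules, PicF.IsInvertible L →
      ∃ (V' : Y.Opens) (τ : Γ(L, V')), R V' ∧ IsGen L V' τ)
    (V : Y → Y.Opens) (hyV : ∀ y, y ∈ V y) (hP : ∀ y, P (V y)) (f : Y → K)
    (hf0 : ∀ y, f y ≠ 0)
    (hrel : ∀ (y y' : Y) (h : P (V y ⊓ V y')), ∃ t : Γ(Y, V y ⊓ V y'), IsUnit t ∧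
      ρ _ h t = f y / f y') :
    ∃ V' : Y.Opens, R V' ∧ ∃ z : K, z ≠ 0 ∧
      ∀ (y : Y) (h : P (V y ⊓ V')), ∃ u : Γ(Y, V y ⊓ V'), IsUnit u ∧ ρ _ h u * f y = z := by
  have hP2 : ∀ i j : Y, P (V i ⊓ V j) := fun i j => hF.inf (hP i) (hP j)
  have hη : ∀ i j : Y, ∃ t : Γ(Y, V i ⊓ V j), IsUnit t ∧ ρ _ (hP2 i j) t = f i / f j :=
    fun i j => hrel i j (hP2 i j)
  choose t htu ht using hη
  let η : ∀ i j : Y, (Γ(Y, V i ⊓ V j))ˣ := fun i j => (htu i j).unit
  have hηv : ∀ i j, ((η i j : (Γ(Y, V i ⊓ V j))ˣ) : Γ(Y, V i ⊓ V j)) = t i j :=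
    fun i j => (htu i j).unit_spec
  have hcoc : Cocycle V η := by
    intro i j k
    have hW : P ((V i ⊓ V j) ⊓ V k) := hF.inf (hP2 i j) (hP k)
    rw [hηv, hηv, hηv]
    apply hF.inj _ hW
    rw [map_mul]
    have l1 : (V i ⊓ V j) ⊓ V k ≤ V i ⊓ V k := inf_le_inf_right (V k) inf_le_left
    have l2 : (V i ⊓ V j) ⊓ V k ≤ V i ⊓ V j := inf_le_left
    have l3 : (V i ⊓ V j) ⊓ V k ≤ V j ⊓ V k := inf_le_inf_right (V k) inf_le_right
    show ρ _ hW (rX l1 (t i k)) = ρ _ hW (rX l2 (t i j)) * ρ _ hW (rX l3 (t j k))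
    rw [hF.res l1 (hP2 i k) hW, hF.res l2 (hP2 i j) hW, hF.res l3 (hP2 j k) hW, ht, ht, ht]
    have h1 := hf0 i
    have h2 := hf0 j
    have h3 := hf0 k
    field_simp
  have hU : iSup V = ⊤ := by
    rw [eq_top_iff]
    intro x _
    exact Opens.mem_iSup.mpr ⟨x, hyV x⟩
  have hL := isInvertible_L V η id hyV hcoc hU
  obtain ⟨V', τ, hR, hτ⟩ := hloc _ hL
  refine ⟨V', hR, ?_⟩
  have hu : ∀ y : Y, ∃ u : Γ(Y, V y ⊓ V'), IsUnit u ∧
      rF (CocycMod.L V η id hyV hcoc) (inf_le_right : V y ⊓ V' ≤ V') τ =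
        u • rF (CocycMod.L V η id hyV hcoc) (inf_le_left : V y ⊓ V' ≤ V y)
          (sec V η id hyV hcoc y) := by
    intro y
    have hg := (isGen_sec V η id hyV hcoc y).res (inf_le_left : V y ⊓ V' ≤ V y)
    obtain ⟨u, hu⟩ := hg.exists_coef
      (rF (CocycMod.L V η id hyV hcoc) (inf_le_right : V y ⊓ V' ≤ V') τ)
    refine ⟨u, ?_, hu⟩
    apply isUnit_of_isGen_smul hg
    rw [← hu]
    exact hτ.res inf_le_right
  choose u huu hu using hu
  have hkey : ∀ (i j : Y) (hi : P (V i ⊓ V')) (hj : P (V j ⊓ V')),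
      ρ _ hi (u i) * (f i / f j) = ρ _ hj (u j) := by
    intro i j hi hj
    have hT : P ((V i ⊓ V') ⊓ (V j ⊓ V')) := hF.inf hi hj
    have lTi : (V i ⊓ V') ⊓ (V j ⊓ V') ≤ V i ⊓ V' := inf_le_left
    have lTj : (V i ⊓ V') ⊓ (V j ⊓ V') ≤ V j ⊓ V' := inf_le_right
    have lTij : (V i ⊓ V') ⊓ (V j ⊓ V') ≤ V i ⊓ V j :=
      le_inf (inf_le_left.trans inf_le_left) (inf_le_right.trans inf_le_left)
    have e1 := congrArg (rF (CocycMod.L V η id hyV hcoc) lTi) (hu i)
    have e2 := congrArg (rF (CocycMod.L V η id hyV hcoc) lTj) (hu j)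
    rw [rF_rF, rF_smul, rF_rF] at e1 e2
    have e0 : rF (CocycMod.L V η id hyV hcoc) (lTi.trans inf_le_left) (sec V η id hyV hcoc i) =
        rX lTij (t i j) • rF (CocycMod.L V η id hyV hcoc) (lTj.trans inf_le_left)
          (sec V η id hyV hcoc j) := by
      have := congrArg (rF (CocycMod.L V η id hyV hcoc) lTij) (rF_sec V η id hyV hcoc i j)
      rw [rF_rF, rF_smul, rF_rF, hηv] at this
      exact this
    rw [e0, ← mul_smul] at e1
    have e3 := e1.symm.trans e2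
    have e4 := IsGen.coef_ext ((isGen_sec V η id hyV hcoc j).res (lTj.trans inf_le_left)) e3
    have e5 := congrArg (ρ _ hT) e4
    rw [map_mul, hF.res lTi hi hT, hF.res lTij (hP2 i j) hT, hF.res lTj hj hT, ht] at e5
    exact e5
  by_cases hex : ∃ i₀ : Y, P (V i₀ ⊓ V')
  · obtain ⟨i₀, hi₀⟩ := hex
    refine ⟨ρ _ hi₀ (u i₀) * f i₀, mul_ne_zero ?_ (hf0 i₀), fun y hy => ⟨u y, huu y, ?_⟩⟩
    · intro h0
      have h1 : (u i₀ : Γ(Y, V i₀ ⊓ V')) = 0 := hF.inj _ hi₀ (by rw [h0, map_zero])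
      have h2 := huu i₀
      rw [h1] at h2
      have h3 : (1 : K) = 0 := by
        obtain ⟨v, hv⟩ := h2.exists_left_inv
        rw [mul_zero] at hv
        have := congrArg (ρ _ hi₀) hv
        rw [map_zero, map_one] at this
        exact this.symm
      exact one_ne_zero h3
    · have h1 := hkey y i₀ hy hi₀
      rw [← h1]
      have h2 := hf0 y
      have h3 := hf0 i₀
      field_simp
  · exact ⟨1, one_ne_zero, fun y hy => (hex ⟨y, hy⟩).elim⟩

end Frame

section Extend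

open Groth.Agent.CDivUFD Groth.Agent.PrincCyc

open scoped Classical

variable {X : Scheme.{u}} [IsIntegral X] [IsLocallyNoetherian X]

/-- **A prime cycle which is locally principal on an open `U` containing all points of codimension
one is locally principal everywhere, when the invertible modules on `U` extend to `X`.** -/
theorem exists_cond_of_extend (hX : Pi1.IsNormalScheme X) (x₀ : X)
    (hco : Order.coheight x₀ = 1) (U : X.Opens)
    (hU : ∀ x ∈ U, ∃ π : X.functionField, π ≠ 0 ∧ Cond x₀ x π)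
    (hcod : ∀ z : X, Order.coheight z = 1 → z ∈ U)
    (hext : ∀ L₀ : (U : Scheme.{u}).Modules, PicF.IsInvertible L₀ →
      ∃ L : X.Modules, PicF.IsInvertible L ∧ Nonempty (L.restrict U.ι ≅ L₀))
    (y : X) : ∃ π : X.functionField, π ≠ 0 ∧ Cond x₀ y π := by
  have hdata : ∀ v : ↥(U : Scheme.{u}), ∃ (π : X.functionField) (O : X.Opens), π ≠ 0 ∧
      v.1 ∈ O ∧ ∀ x : X, x ∈ O → Cond x₀ x π := by
    intro v
    obtain ⟨π, hπ0, hc⟩ := hU v.1 v.2
    obtain ⟨O, hyO, hO⟩ := cond_open x₀ v.1 π hπ0 hc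
    exact ⟨π, O, hπ0, hyO, hO⟩
  choose π O hπ0 hyO hO using hdata
  have hyV : ∀ v : ↥(U : Scheme.{u}), v ∈ U.ι ⁻¹ᵁ O v := fun v => hyO v
  have hP : ∀ v, PU U (U.ι ⁻¹ᵁ O v) := fun v => pU_of_mem U _ ⟨v, hyV v⟩
  have key : ∀ (v w : ↥(U : Scheme.{u})), w ∈ U.ι ⁻¹ᵁ O v → Order.coheight w.1 = 1 →
      Scheme.ord (π v) w.1 = if w.1 = x₀ then 1 else 0 :=
    fun v w hw hcow => hO v w.1 hw w.1 (specializes_refl _) hcow
  have hloc : ∀ L₀ : (U : Scheme.{u}).Modules, PicF.IsInvertible L₀ →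
      ∃ (V' : (U : Scheme.{u}).Opens) (τ : Γ(L₀, V')),
        (∃ W : X.Opens, y ∈ W ∧ V' = U.ι ⁻¹ᵁ W) ∧ IsGen L₀ V' τ := by
    intro L₀ hL₀
    obtain ⟨L, hL, ⟨θ⟩⟩ := hext L₀ hL₀
    obtain ⟨W, -, hyW, e, he⟩ := exists_isGen hL y
    have hle : U.ι ''ᵁ (U.ι ⁻¹ᵁ W) ≤ W := Scheme.Hom.image_preimage_le _ _
    have hg := WDivShH8.isGen_restrict L U he (U.ι ⁻¹ᵁ W) hle
    exact ⟨U.ι ⁻¹ᵁ W, _, ⟨W, hyW, rfl⟩, isGen_of_iso θ hg⟩
  obtain ⟨V', ⟨W, hyW, rfl⟩, z₀, hz0, hz⟩ := exists_common_frame_local (isFrame_U U)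
    (fun V' => ∃ W : X.Opens, y ∈ W ∧ V' = U.ι ⁻¹ᵁ W) hloc
    (fun v => U.ι ⁻¹ᵁ O v) hyV hP π hπ0 (by
      intro v v' h
      obtain ⟨t, htu, ht⟩ := exists_unit_section hX (U.ι ''ᵁ (U.ι ⁻¹ᵁ O v ⊓ U.ι ⁻¹ᵁ O v')) h
        (π v / π v') (div_ne_zero (hπ0 v) (hπ0 v')) (by
          rintro z ⟨w, ⟨hw, hw'⟩, hwz⟩ hcow
          have hwz' : w.1 = z := hwz
          subst hwz'
          rw [ord_div _ _ (hπ0 v) (hπ0 v'), key v w hw hcow, key v' w hw' hcow]
          exact sub_self _)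
      exact ⟨t, htu, ht⟩)
  refine ⟨z₀, hz0, ?_⟩
  intro w hwy hcow
  have hwU : w ∈ U := hcod w hcow
  have hwW : w ∈ W := hwy.mem_open W.isOpen hyW
  have hmem' : (⟨w, hwU⟩ : ↥(U : Scheme.{u})) ∈ U.ι ⁻¹ᵁ O ⟨w, hwU⟩ ⊓ U.ι ⁻¹ᵁ W :=
    ⟨hyV ⟨w, hwU⟩, hwW⟩
  have hPw : PU U (U.ι ⁻¹ᵁ O ⟨w, hwU⟩ ⊓ U.ι ⁻¹ᵁ W) := pU_of_mem U _ ⟨_, hmem'⟩
  obtain ⟨u, huu, hu⟩ := hz ⟨w, hwU⟩ hPw
  have hmem : w ∈ U.ι ''ᵁ (U.ι ⁻¹ᵁ O ⟨w, hwU⟩ ⊓ U.ι ⁻¹ᵁ W) := ⟨⟨w, hwU⟩, hmem', rfl⟩
  have h0 := ord_germ_of_isUnit _ hPw u huu w hmem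
  have hu0 : rhoU U _ hPw u ≠ 0 := by
    intro h
    rw [h, zero_mul] at hu
    exact hz0 hu.symm
  rw [← hu, Scheme.ord_mul hu0 (hπ0 _), rhoU_eq, h0, zero_add]
  exact key ⟨w, hwU⟩ ⟨w, hwU⟩ (hyV _) hcow

/-- factoriality of a local ring when all prime cycles are principal near the point -/
theorem ufd_of_cond (hX : Pi1.IsNormalScheme X) (x : X)
    (h : ∀ x₀ : X, Order.coheight x₀ = 1 → ∃ π : X.functionField, π ≠ 0 ∧ Cond x₀ x π) :
    UniqueFactorizationMonoid (X.presheaf.stalk x) := by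
  rw [UniqueFactorizationMonoid.iff_forall_isPrincipal_of_height_eq_one]
  intro 𝔭 h𝔭 hht
  obtain ⟨x₀, hs, hco, rfl⟩ := exists_genPrime_eq x 𝔭 hht
  obtain ⟨f, hf0, hc⟩ := h x₀ hco
  obtain ⟨β, -, hβ⟩ := exists_generator hX hs hco f hf0 hc
  exact ⟨⟨β, hβ.symm⟩⟩

/-- pointwise version of `CDivUFD.exists_cond` -/
theorem exists_cond_at (hX : Pi1.IsNormalScheme X) (x₀ : X) (hco : Order.coheight x₀ = 1) (x : X)
    (hufd : UniqueFactorizationMonoid (X.presheaf.stalk x)) :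
    ∃ π : X.functionField, π ≠ 0 ∧ Cond x₀ x π := by
  by_cases h : x₀ ⤳ x
  · have hht := height_genPrime h hco
    obtain ⟨⟨ϖ, hϖ⟩⟩ := UniqueFactorizationMonoid.isPrincipal_of_height_eq_one hht
    have hϖ' : Ideal.span {ϖ} = genPrime h := hϖ.symm
    have hϖ0 : ϖ ≠ 0 := by
      rintro rfl
      have hbot : genPrime h = ⊥ := by
        rw [← hϖ']
        exact Ideal.span_singleton_eq_bot.mpr rfl
      exact (genPrime h).ne_bot_of_height_eq_one hht hbot
    have hne : algebraMap (X.presheaf.stalk x) X.functionField ϖ ≠ 0 := by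
      intro h0
      exact hϖ0 ((map_eq_zero_iff _ (IsFractionRing.injective (X.presheaf.stalk x)
        X.functionField)).mp h0)
    refine ⟨_, hne, ?_⟩
    intro z hz hcoz
    by_cases hzx : z = x₀
    · subst hzx
      rw [if_pos rfl, ← algebraMap_spec hz ϖ]
      exact ord_eq_one_of_span hX z hcoz _ (span_spec_eq hz ϖ hϖ')
    · rw [if_neg hzx, ← algebraMap_spec hz ϖ]
      have hu := isUnit_spec_of_ne h hco hz hcoz hzx ϖ hϖ'
      have := Groth.Agent.OrdFin.ord_eq_zero_of_unit z hu.unit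
      rwa [IsUnit.unit_spec] at this
  · refine ⟨1, one_ne_zero, ?_⟩
    intro z hz hcoz
    have hzx : z ≠ x₀ := by
      rintro rfl
      exact h hz
    rw [if_neg hzx]
    exact ord_one z

end Extend

section Integral

open Groth.Agent.CDivUFD Groth.Agent.PrincCyc

open scoped Classical

variable {X : Scheme.{u}} [IsIntegral X] [IsLocallyNoetherian X]

/-- a non-empty open is not contained in `Y` when restriction of functions away from `Y` is
injective -/
theorem exists_mem_inf_compl (Y : Closeds X)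
    (hbij : ∀ V : X.Opens,
      Function.Bijective (X.presheaf.map (homOfLE (inf_le_left : V ⊓ Y.compl ≤ V)).op))
    (O : X.Opens) (hO : ∃ x, x ∈ O) : ∃ x, x ∈ O ⊓ Y.compl := by
  by_contra hne
  have hbot : O ⊓ Y.compl = ⊥ := by
    ext x
    simp only [Opens.coe_bot, Set.mem_empty_iff_false, iff_false]
    exact fun hx => hne ⟨x, hx⟩
  haveI : Subsingleton Γ(X, O ⊓ Y.compl) := by
    rw [hbot]
    infer_instance
  obtain ⟨x, hx⟩ := hO
  haveI : Nonempty O := ⟨⟨x, hx⟩⟩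
  have h01 : (0 : Γ(X, O)) = 1 := (hbij O).1 (Subsingleton.elim _ _)
  exact zero_ne_one h01

/-- **No point of codimension one lies in `Y`** when restriction of functions away from `Y` is
bijective. -/
theorem notMem_of_coheight (hX : Pi1.IsNormalScheme X) (Y : Closeds X)
    (hbij : ∀ V : X.Opens,
      Function.Bijective (X.presheaf.map (homOfLE (inf_le_left : V ⊓ Y.compl ≤ V)).op))
    (z : X) (hco : Order.coheight z = 1) : z ∉ Y := by
  intro hzY
  obtain ⟨π, hπ0, hc⟩ := mem_locus_of_coheight hX z z hco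
  obtain ⟨O, hzO, hO⟩ := cond_open z z π hπ0 hc
  obtain ⟨x₁, hx₁⟩ := exists_mem_inf_compl Y hbij O ⟨z, hzO⟩
  haveI : Nonempty (O ⊓ Y.compl : X.Opens) := ⟨⟨x₁, hx₁⟩⟩
  haveI : Nonempty O := ⟨⟨z, hzO⟩⟩
  have h1 : ∀ x ∈ O ⊓ Y.compl, ∃ r : X.presheaf.stalk x,
      algebraMap (X.presheaf.stalk x) X.functionField r = π⁻¹ := by
    intro x hx
    have := mem_range_of_codim_one hX x π⁻¹ (fun w hw hcow => by
      rw [← Groth.Agent.CDivNormal.zero_le_ord_iff hX w hcow π⁻¹ (inv_ne_zero hπ0),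
        ord_inv π hπ0, hO x hx.1 w hw hcow]
      have hwz : w ≠ z := by
        rintro rfl
        exact hx.2 (hw.mem_closed Y.isClosed hzY)
      rw [if_neg hwz]
      simp)
    exact this
  obtain ⟨t, ht⟩ := NormH8.exists_section_of_forall_stalk (O ⊓ Y.compl) π⁻¹ h1
  obtain ⟨s, hs⟩ := (hbij O).2 t
  have hs' : X.germToFunctionField O s = π⁻¹ := by
    rw [← ht, ← hs]
    exact (TopCat.Presheaf.germ_res_apply X.presheaf (homOfLE (inf_le_left : O ⊓ Y.compl ≤ O))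
      (genericPoint X) _ s).symm
  have h2 : π⁻¹ ∈ Set.range (algebraMap (X.presheaf.stalk z) X.functionField) := by
    refine ⟨X.presheaf.germ O z hzO s, ?_⟩
    rw [← hs']
    exact Scheme.algebraMap_germ_eq_germToFunctionField (X := X) (U := O) hzO s
  rw [← Groth.Agent.CDivNormal.zero_le_ord_iff hX z hco π⁻¹ (inv_ne_zero hπ0), ord_inv π hπ0,
    hc z (specializes_refl z) hco, if_pos rfl] at h2
  exact absurd h2 (by decide)

/-- **A normal integral scheme with a parafactorial pair `(X, Y)` which is locally factorial outside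
`Y` is locally factorial.** -/
theorem ufd_of_parafactorial (hX : Pi1.IsNormalScheme X) (Y : Closeds X)
    (h : ParaF.IsParafactorialPair X Y)
    (hufd : ∀ x : X, x ∉ Y → UniqueFactorizationMonoid (X.presheaf.stalk x)) (x : X) :
    UniqueFactorizationMonoid (X.presheaf.stalk x) := by
  have hbij := ((TensH8.isParafactorialPair_iff X Y).mp h).1
  obtain ⟨U₀, hU₀⟩ : ∃ U₀ : X.Opens, U₀ = Y.compl := ⟨_, rfl⟩
  have hcod : ∀ z : X, Order.coheight z = 1 → z ∈ U₀ := by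
    intro z hz
    rw [hU₀]
    exact notMem_of_coheight hX Y hbij z hz
  have hext : ∀ L₀ : (U₀ : Scheme.{u}).Modules, PicF.IsInvertible L₀ →
      ∃ L : X.Modules, PicF.IsInvertible L ∧ Nonempty (L.restrict U₀.ι ≅ L₀) := by
    have h1 : ParaF.InvRestrictEquiv (X.homOfLE (le_top : U₀ ≤ ⊤)) :=
      invRestrictEquiv_of_eq X h le_top (by rw [hU₀, top_inf_eq])
    exact (invRestrictEquiv_ι_of_homOfLE X U₀ h1).2
  apply ufd_of_cond hX x
  intro x₀ hco
  refine exists_cond_of_extend hX x₀ hco U₀ (fun x' hx' => ?_) hcod hext x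
  rw [hU₀] at hx'
  exact exists_cond_at hX x₀ hco x' (hufd x' hx')

end Integral

section General

/-- stalks of an open subscheme -/
def stalkEquiv {A B : Scheme.{u}} (j : A ⟶ B) [IsOpenImmersion j] (a : A) :
    B.presheaf.stalk (j a) ≃+* A.presheaf.stalk a :=
  (asIso (j.stalkMap a)).commRingCatIsoToRingEquiv

/-- **EGA IV 21.13.9**: a locally Noetherian scheme with a parafactorial pair `(X, Y)` which is
locally factorial outside `Y` is locally factorial. -/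
theorem isLocallyFactorial_of_parafactorial (X : Scheme.{u}) [IsLocallyNoetherian X]
    (Y : Closeds ↥X) (h : ParaF.IsParafactorialPair X Y)
    (hU : ∀ x : ↥X, x ∉ Y →
      IsDomain (X.presheaf.stalk x) ∧ UniqueFactorizationMonoid (X.presheaf.stalk x)) :
    ParaF.IsLocallyFactorial X := by
  have hbij := ((TensH8.isParafactorialPair_iff X Y).mp h).1
  obtain ⟨U₀, hU₀⟩ : ∃ U₀ : X.Opens, U₀ = Y.compl := ⟨_, rfl⟩
  have hU₀' : ∀ x : X, x ∈ U₀ → x ∉ Y := by
    intro x hx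
    rw [hU₀] at hx
    exact hx
  have hb : ∀ V : X.Opens, Function.Bijective (U₀.ι.app V) := by
    intro V
    rw [Scheme.Opens.ι_app]
    refine presheaf_map_bijective_congr X (inf_le_left : V ⊓ Y.compl ≤ V) _ ?_ rfl (hbij V)
    rw [Scheme.Hom.image_preimage_eq_opensRange_inf, Scheme.Opens.opensRange_ι, inf_comm, hU₀]
  have hd₀ : ∀ w : ↥(U₀ : Scheme.{u}), IsDomain ((U₀ : Scheme.{u}).presheaf.stalk w) := by
    intro w
    haveI : IsDomain (X.presheaf.stalk (U₀.ι w)) := (hU w.1 (hU₀' w.1 w.2)).1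
    exact (stalkEquiv U₀.ι w).symm.toMulEquiv.isDomain (X.presheaf.stalk (U₀.ι w))
  have hn₀ : ∀ w : ↥(U₀ : Scheme.{u}),
      IsIntegrallyClosed ((U₀ : Scheme.{u}).presheaf.stalk w) := by
    intro w
    haveI : IsDomain (X.presheaf.stalk (U₀.ι w)) := (hU w.1 (hU₀' w.1 w.2)).1
    haveI : UniqueFactorizationMonoid (X.presheaf.stalk (U₀.ι w)) := (hU w.1 (hU₀' w.1 w.2)).2
    exact IsIntegrallyClosed.of_equiv (stalkEquiv U₀.ι w)
  have hdom : ∀ y : X, IsDomain (X.presheaf.stalk y) :=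
    NormH8.isDomain_stalk_of_fibration hd₀ U₀.ι hb
  have hnorm : ∀ y : X, IsIntegrallyClosed (X.presheaf.stalk y) :=
    NormH8.isIntegrallyClosed_stalk_of_fibration' hd₀ hn₀ U₀.ι hb
  intro x
  refine ⟨hdom x, ?_⟩
  haveI := hdom x
  obtain ⟨W, hW, hxW, -, hWdom, -⟩ :=
    NormH8.exists_domain_nhd (X := X) (x := x) (W₀ := ⊤) trivial
  haveI : IsAffine ((W : X.Opens) : Scheme.{u}) := hW
  haveI : Nonempty ((W : X.Opens) : Scheme.{u}) := ⟨⟨x, hxW⟩⟩
  haveI : IsDomain Γ(((W : X.Opens) : Scheme.{u}), ⊤) :=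
    MulEquiv.isDomain Γ(X, W) (W.topIso.commRingCatIsoToRingEquiv.toMulEquiv)
  haveI : IsIntegral ((W : X.Opens) : Scheme.{u}) := isIntegral_of_isAffine_of_isDomain _
  have hXW : Pi1.IsNormalScheme ((W : X.Opens) : Scheme.{u}) := by
    intro w
    haveI := hdom (W.ι w)
    haveI := hnorm (W.ι w)
    exact ⟨(stalkEquiv W.ι w).symm.toMulEquiv.isDomain (X.presheaf.stalk (W.ι w)),
      IsIntegrallyClosed.of_equiv (stalkEquiv W.ι w)⟩
  have hpW := isParafactorialPair_restrict X h W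
  have hufdW : ∀ w : ↥((W : X.Opens) : Scheme.{u}), w ∉ ParaF.closedsIn W Y →
      UniqueFactorizationMonoid (((W : X.Opens) : Scheme.{u}).presheaf.stalk w) := by
    intro w hw
    have hw' : W.ι w ∉ Y := hw
    exact (stalkEquiv W.ι w).toMulEquiv.uniqueFactorizationMonoid (hU (W.ι w) hw').2
  have hfin := ufd_of_parafactorial hXW (ParaF.closedsIn W Y) hpW hufdW ⟨x, hxW⟩
  exact (stalkEquiv W.ι ⟨x, hxW⟩).symm.toMulEquiv.uniqueFactorizationMonoid hfin

end General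

end Groth.Agent.PFact
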