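import Mathlib
import Groth.Prelude
import Groth.Agent.Lib.PFact1_helper5
import Groth.Agent.Lib.StalkLocz1_helper8

/-!
# Extension of invertible modules across factorial points, I (helper5).  APPEND-ONLY once landed.

Pointwise versions (normality only at the points involved) of the results on orders of rational
functions on an integral locally Noetherian scheme.
-/

set_option autoImplicit false
universe u
open CategoryTheory AlgebraicGeometry TopologicalSpace Opposite IsLocalRing

noncomputable section

namespace Groth.Agent.ExtInv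

open Groth.Agent.CDivUFD Groth.Agent.PrincCyc Groth.Agent.WeilPic

open scoped Classical

variable {X : Scheme.{u}} [IsIntegral X]

/-- normality of local rings passes to generizations -/
theorem isIntegrallyClosed_of_specializes {x y : X} (h : x ⤳ y)
    (hy : IsIntegrallyClosed (X.presheaf.stalk y)) : IsIntegrallyClosed (X.presheaf.stalk x) := by
  letI : Algebra (X.presheaf.stalk y) (X.presheaf.stalk x) :=
    (X.presheaf.stalkSpecializes h).hom.toAlgebra
  haveI : (RingHom.ker (Cyc.specMap y x h)).IsPrime := RingHom.ker_isPrime _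
  haveI : IsLocalization.AtPrime (X.presheaf.stalk x) (RingHom.ker (Cyc.specMap y x h)) :=
    StalkLoczH8.isLocalization_stalkSpecializes h
  exact isIntegrallyClosed_of_isLocalization (X.presheaf.stalk x)
    (RingHom.ker (Cyc.specMap y x h)).primeCompl (Ideal.primeCompl_le_nonZeroDivisors _)

variable [IsLocallyNoetherian X]

theorem dvr_of_coheight' (x : X) (hx : Order.coheight x = 1)
    (hn : IsIntegrallyClosed (X.presheaf.stalk x)) :
    IsDiscreteValuationRing (X.presheaf.stalk x) :=
  Groth.Agent.CDivNormal.dvr_of_dim_eq_one _ ((Groth.Agent.CDivNormal.coheight_eq_one_iff x).mp hx)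

theorem zero_le_ord_iff' (x : X) (hx : Order.coheight x = 1)
    (hn : IsIntegrallyClosed (X.presheaf.stalk x)) (f : X.functionField) (hf : f ≠ 0) :
    0 ≤ Scheme.ord f x ↔
      f ∈ Set.range (algebraMap (X.presheaf.stalk x) X.functionField) := by
  haveI := dvr_of_coheight' x hx hn
  rw [Scheme.le_ord_iff hx hf]
  have h1 : ((Multiplicative.ofAdd (0 : ℤ) : Multiplicative ℤ) : WithZero (Multiplicative ℤ)) = 1 :=
    rfl
  rw [h1]
  exact Groth.Agent.CDivNormal.one_le_ordFrac_iff (X.presheaf.stalk x) X.functionField f hf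

theorem ord_eq_zero_iff' (x : X) (hx : Order.coheight x = 1)
    (hn : IsIntegrallyClosed (X.presheaf.stalk x)) (f : X.functionField) (hf : f ≠ 0) :
    Scheme.ord f x = 0 ↔
      ∃ u : (X.presheaf.stalk x)ˣ, algebraMap (X.presheaf.stalk x) X.functionField u = f := by
  haveI := dvr_of_coheight' x hx hn
  rw [Scheme.ord_eq_iff hx hf]
  have h1 : ((Multiplicative.ofAdd (0 : ℤ) : Multiplicative ℤ) : WithZero (Multiplicative ℤ)) = 1 :=
    rfl
  rw [h1]
  exact Groth.Agent.CDivNormal.ordFrac_eq_one_iff (X.presheaf.stalk x) X.functionField f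

theorem ord_eq_one_of_span' (x₀ : X) (hco : Order.coheight x₀ = 1)
    (hn : IsIntegrallyClosed (X.presheaf.stalk x₀))
    (b : X.presheaf.stalk x₀) (hb : Ideal.span {b} = maximalIdeal (X.presheaf.stalk x₀)) :
    Scheme.ord (algebraMap (X.presheaf.stalk x₀) X.functionField b) x₀ = 1 := by
  haveI := dvr_of_coheight' x₀ hco hn
  have hirr : Irreducible b := (IsDiscreteValuationRing.irreducible_iff_uniformizer b).mpr hb.symm
  have hne : algebraMap (X.presheaf.stalk x₀) X.functionField b ≠ 0 := by
    intro h0
    exact hirr.ne_zero ((map_eq_zero_iff _ (IsFractionRing.injective (X.presheaf.stalk x₀)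
      X.functionField)).mp h0)
  rw [Scheme.ord_eq_iff hco hne]
  exact Ring.ordFrac_irreducible hirr

/-- **pointwise Hartogs**: regularity at a normal point can be tested at the codimension one
generizations -/
theorem mem_range_of_codim_one' (x : X) (hn : IsIntegrallyClosed (X.presheaf.stalk x))
    (f : X.functionField)
    (h : ∀ z : X, z ⤳ x → Order.coheight z = 1 →
      f ∈ Set.range (algebraMap (X.presheaf.stalk z) X.functionField)) :
    f ∈ Set.range (algebraMap (X.presheaf.stalk x) X.functionField) := by
  by_contra hf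
  obtain ⟨z, hzx, hfz, hdz⟩ := Groth.Agent.CDivDepth.exists_depth_one x f hf
  haveI := isIntegrallyClosed_of_specializes hzx hn
  exact hfz (h z hzx ((Groth.Agent.CDivNormal.coheight_eq_one_iff z).mpr
    (Groth.Agent.CDivNormal.dim_eq_one_of_depth _ hdz)))

/-- a rational function without zeros and poles through a normal point is a unit at that point -/
theorem exists_unit_of_ord_eq_zero (x : X) (hn : IsIntegrallyClosed (X.presheaf.stalk x))
    (g : X.functionField) (hg : g ≠ 0)
    (h : ∀ z : X, z ⤳ x → Order.coheight z = 1 → Scheme.ord g z = 0) :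
    ∃ r : X.presheaf.stalk x, IsUnit r ∧ algebraMap (X.presheaf.stalk x) X.functionField r = g := by
  obtain ⟨r, hr⟩ := mem_range_of_codim_one' x hn g (fun z hz hco => by
    rw [← zero_le_ord_iff' z hco (isIntegrallyClosed_of_specializes hz hn) g hg, h z hz hco])
  obtain ⟨r', hr'⟩ := mem_range_of_codim_one' x hn g⁻¹ (fun z hz hco => by
    rw [← zero_le_ord_iff' z hco (isIntegrallyClosed_of_specializes hz hn) g⁻¹ (inv_ne_zero hg),
      ord_inv g hg, h z hz hco]
    simp)
  refine ⟨r, IsUnit.of_mul_eq_one r' ?_, hr⟩
  apply IsFractionRing.injective (X.presheaf.stalk x) X.functionField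
  rw [map_mul, hr, hr', map_one, mul_inv_cancel₀ hg]

/-- pointwise version of `CDivUFD.exists_cond` -/
theorem exists_cond_at' (x₀ : X) (hco : Order.coheight x₀ = 1) (x : X)
    (hufd : UniqueFactorizationMonoid (X.presheaf.stalk x)) :
    ∃ π : X.functionField, π ≠ 0 ∧ Cond x₀ x π := by
  have hn : IsIntegrallyClosed (X.presheaf.stalk x) := inferInstance
  by_cases h : x₀ ⤳ x
  · have hht := height_genPrime h hco
    obtain ⟨⟨ϖ, hϖ⟩⟩ := UniqueFactorizationMonoid.isPrincipal_of_height_eq_one hht
    have hϖ' : Ideal.span {ϖ} = genPrime h := hϖ.symm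
    have hϖ0 : ϖ ≠ 0 := by
      rintro rfl
      have hbot : genPrime h = ⊥ := by
        rw [← hϖ']
        exact Ideal.span_singleton_eq_bot.mpr rfl
      exact (genPrime h).ne_bot_of_height_eq_one hht hbot
    have hne : algebraMap (X.presheaf.stalk x) X.functionField ϖ ≠ 0 := by
      intro h0
      exact hϖ0 ((map_eq_zero_iff _ (IsFractionRing.injective (X.presheaf.stalk x)
        X.functionField)).mp h0)
    refine ⟨_, hne, ?_⟩
    intro z hz hcoz
    by_cases hzx : z = x₀
    · subst hzx
      rw [if_pos rfl, ← algebraMap_spec hz ϖ]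
      exact ord_eq_one_of_span' z hcoz (isIntegrallyClosed_of_specializes hz hn) _
        (span_spec_eq hz ϖ hϖ')
    · rw [if_neg hzx, ← algebraMap_spec hz ϖ]
      have hu := isUnit_spec_of_ne h hco hz hcoz hzx ϖ hϖ'
      have := Groth.Agent.OrdFin.ord_eq_zero_of_unit z hu.unit
      rwa [IsUnit.unit_spec] at this
  · refine ⟨1, one_ne_zero, ?_⟩
    intro z hz hcoz
    have hzx : z ≠ x₀ := by
      rintro rfl
      exact h hz
    rw [if_neg hzx]
    exact ord_one z

end Groth.Agent.ExtInv
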