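import Mathlib
import Groth.Prelude
import Groth.Agent.Lib.ExtInv1_helper5

/-!
# Extension of invertible modules across factorial points, II (helper5).  APPEND-ONLY once landed.

Cartier data of an invertible module with respect to a frame, and the criterion for the existence of
a generator over an open subset.
-/

set_option autoImplicit false
universe u
open CategoryTheory AlgebraicGeometry TopologicalSpace Opposite

noncomputable section

namespace Groth.Agent.ExtInv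

open QcqsLoc GenLocH8 TensH8 FLFH8 QCohExtn Groth.Agent.CocycMod Groth.Agent.WeilPic

variable {Y : Scheme.{u}} {K : Type u} [Field K] {P : Y.Opens → Prop}
  {ρ : ∀ V : Y.Opens, P V → (Γ(Y, V) →+* K)}

/-- **Cartier data of an invertible module, and the criterion for a generator over an open.** -/
theorem exists_cartier_data (hF : IsFrame P ρ) (hne : ∀ V : Y.Opens, (∃ y, y ∈ V) → P V)
    (L : Y.Modules) (hL : PicF.IsInvertible L) (i₀ : Y) :
    ∃ (V : Y → Y.Opens) (f : Y → K), (∀ y, y ∈ V y) ∧ (∀ y, f y ≠ 0) ∧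
      (∀ (i j : Y) (h : P (V i ⊓ V j)), ∃ t : Γ(Y, V i ⊓ V j), IsUnit t ∧ ρ _ h t = f i / f j) ∧
      ∀ (V' : Y.Opens) (z : K), z ≠ 0 →
        (∀ (y : Y) (h : P (V y ⊓ V')), ∃ u : Γ(Y, V y ⊓ V'), IsUnit u ∧ ρ _ h u * f y = z) →
        ∃ τ : Γ(L, V'), IsGen L V' τ := by
  -- local generators
  have hgen : ∀ y : Y, ∃ (V : Y.Opens) (e : Γ(L, V)), y ∈ V ∧ IsGen L V e := by
    intro y
    obtain ⟨W, -, hyW, e, he⟩ := exists_isGen hL y
    exact ⟨W, e, hyW, he⟩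
  choose V e hyV he using hgen
  have hP : ∀ y, P (V y) := fun y => hne _ ⟨y, hyV y⟩
  have hP2 : ∀ i j : Y, P (V i ⊓ V j) := fun i j => hF.inf (hP i) (hP j)
  -- transition units
  have htr : ∀ i j : Y, ∃ t : Γ(Y, V i ⊓ V j), IsUnit t ∧
      rF L (inf_le_left : V i ⊓ V j ≤ V i) (e i) =
        t • rF L (inf_le_right : V i ⊓ V j ≤ V j) (e j) := by
    intro i j
    obtain ⟨t, ht⟩ := ((he j).res (inf_le_right : V i ⊓ V j ≤ V j)).exists_coef
      (rF L (inf_le_left : V i ⊓ V j ≤ V i) (e i))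
    refine ⟨t, ?_, ht⟩
    apply isUnit_of_isGen_smul ((he j).res (inf_le_right : V i ⊓ V j ≤ V j))
    rw [← ht]
    exact (he i).res inf_le_left
  choose t htu ht using htr
  have hφ0 : ∀ i j, ρ _ (hP2 i j) (t i j) ≠ 0 := by
    intro i j h0
    obtain ⟨v, hv⟩ := (htu i j).exists_left_inv
    have := congrArg (ρ _ (hP2 i j)) hv
    rw [map_mul, h0, mul_zero, map_one] at this
    exact zero_ne_one this
  -- the cocycle relation in `K`
  have hcoc : ∀ i j k : Y, ρ _ (hP2 i k) (t i k) = ρ _ (hP2 i j) (t i j) * ρ _ (hP2 j k) (t j k) := by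
    intro i j k
    have hW : P ((V i ⊓ V j) ⊓ V k) := hF.inf (hP2 i j) (hP k)
    have l1 : (V i ⊓ V j) ⊓ V k ≤ V i ⊓ V k := inf_le_inf_right (V k) inf_le_left
    have l2 : (V i ⊓ V j) ⊓ V k ≤ V i ⊓ V j := inf_le_left
    have l3 : (V i ⊓ V j) ⊓ V k ≤ V j ⊓ V k := inf_le_inf_right (V k) inf_le_right
    have a1 := congrArg (rF L l1) (ht i k)
    have a2 := congrArg (rF L l2) (ht i j)
    have a3 := congrArg (rF L l3) (ht j k)
    rw [rF_smul, rF_rF, rF_rF] at a1 a2 a3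
    have hk : IsGen L ((V i ⊓ V j) ⊓ V k) (rF L (inf_le_right : (V i ⊓ V j) ⊓ V k ≤ V k) (e k)) :=
      (he k).res inf_le_right
    have e1 : (rX l1 (t i k)) • rF L (inf_le_right : (V i ⊓ V j) ⊓ V k ≤ V k) (e k) =
        (rX l2 (t i j) * rX l3 (t j k)) •
          rF L (inf_le_right : (V i ⊓ V j) ⊓ V k ≤ V k) (e k) := by
      rw [mul_smul]
      exact a1.symm.trans (a2.trans (congrArg _ a3))
    have e2 := IsGen.coef_ext hk e1
    have e3 := congrArg (ρ _ hW) e2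
    rw [map_mul, hF.res l1 (hP2 i k) hW, hF.res l2 (hP2 i j) hW, hF.res l3 (hP2 j k) hW] at e3
    exact e3
  have hρ : ∀ (i j : Y) (h : P (V i ⊓ V j)),
      ρ _ h (t i j) = ρ _ (hP2 i i₀) (t i i₀) / ρ _ (hP2 j i₀) (t j i₀) := by
    intro i j h
    have h1 := hcoc i j i₀
    have h2 := hφ0 j i₀
    show ρ _ (hP2 i j) (t i j) = _
    rw [h1]
    field_simp
  refine ⟨V, fun y => ρ _ (hP2 y i₀) (t y i₀), hyV, fun y => hφ0 y i₀,
    fun i j h => ⟨t i j, htu i j, hρ i j h⟩, ?_⟩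
  intro V' z hz0 hz
  -- the cover of `V'`
  have hPy : ∀ y : {y : Y // y ∈ V'}, P (V y.1 ⊓ V') := fun y => hne _ ⟨y.1, hyV y.1, y.2⟩
  have hu : ∀ y : {y : Y // y ∈ V'}, ∃ u : Γ(Y, V y.1 ⊓ V'), IsUnit u ∧
      ρ _ (hPy y) u * ρ _ (hP2 y.1 i₀) (t y.1 i₀) = z := fun y => hz y.1 (hPy y)
  choose u huu hu using hu
  have hglue : ∀ i j : {y : Y // y ∈ V'},
      rF L (inf_le_left : (V i.1 ⊓ V') ⊓ (V j.1 ⊓ V') ≤ V i.1 ⊓ V')
        (u i • rF L (inf_le_left : V i.1 ⊓ V' ≤ V i.1) (e i.1)) =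
      rF L (inf_le_right : (V i.1 ⊓ V') ⊓ (V j.1 ⊓ V') ≤ V j.1 ⊓ V')
        (u j • rF L (inf_le_left : V j.1 ⊓ V' ≤ V j.1) (e j.1)) := by
    intro i j
    apply eq_of_cover
    intro x hx
    refine ⟨(V i.1 ⊓ V') ⊓ (V j.1 ⊓ V'), le_rfl, hx, ?_⟩
    congr 1
    have hT : P ((V i.1 ⊓ V') ⊓ (V j.1 ⊓ V')) := hne _ ⟨x, hx⟩
    have lTi : (V i.1 ⊓ V') ⊓ (V j.1 ⊓ V') ≤ V i.1 ⊓ V' := inf_le_left
    have lTj : (V i.1 ⊓ V') ⊓ (V j.1 ⊓ V') ≤ V j.1 ⊓ V' := inf_le_right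
    have lTij : (V i.1 ⊓ V') ⊓ (V j.1 ⊓ V') ≤ V i.1 ⊓ V j.1 :=
      le_inf (inf_le_left.trans inf_le_left) (inf_le_right.trans inf_le_left)
    rw [rF_smul, rF_smul, rF_rF, rF_rF]
    have e0 : rF L (lTi.trans inf_le_left) (e i.1) =
        rX lTij (t i.1 j.1) • rF L (lTj.trans inf_le_left) (e j.1) := by
      have := congrArg (rF L lTij) (ht i.1 j.1)
      rw [rF_rF, rF_smul, rF_rF] at this
      exact this
    rw [e0, ← mul_smul]
    congr 1
    apply hF.inj _ hT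
    rw [map_mul, hF.res lTi (hPy i) hT, hF.res lTij (hP2 i.1 j.1) hT, hF.res lTj (hPy j) hT,
      hρ i.1 j.1 (hP2 i.1 j.1)]
    have h1 := hu i
    have h2 := hu j
    have h4 := hφ0 i.1 i₀
    have h5 := hφ0 j.1 i₀
    have e1 : ρ _ (hPy i) (u i) = z / ρ _ (hP2 i.1 i₀) (t i.1 i₀) := by
      rw [eq_div_iff h4]; exact h1
    have e2 : ρ _ (hPy j) (u j) = z / ρ _ (hP2 j.1 i₀) (t j.1 i₀) := by
      rw [eq_div_iff h5]; exact h2
    rw [e1, e2]
    field_simp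
  obtain ⟨T, hT⟩ := glue L (fun y : {y : Y // y ∈ V'} => V y.1 ⊓ V') V' (fun _ => inf_le_right)
    (fun x hx => Opens.mem_iSup.mpr ⟨⟨x, hx⟩, hyV x, hx⟩)
    (fun y => u y • rF L (inf_le_left : V y.1 ⊓ V' ≤ V y.1) (e y.1)) hglue
  refine ⟨T, isGen_of_cover T ?_⟩
  intro x hx
  refine ⟨V x ⊓ V', inf_le_right, ⟨hyV x, hx⟩, ?_⟩
  rw [hT ⟨x, hx⟩]
  exact isGen_smul_of_isUnit ((he x).res inf_le_left) (huu ⟨x, hx⟩)

end Groth.Agent.ExtInv
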