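import Mathlib
import Groth.Prelude
import Groth.Agent.Lib.ExtInv2_helper5

/-!
# Extension of invertible modules across factorial points, III (helper5).  APPEND-ONLY once landed.

Units at points, principal divisors at a factorial point, closures of relatively closed subsets of
Noetherian quasi-sober spaces.
-/

set_option autoImplicit false
universe u
open CategoryTheory AlgebraicGeometry TopologicalSpace Opposite IsLocalRing

noncomputable section

namespace Groth.Agent.ExtInv

open Groth.Agent.CDivUFD Groth.Agent.PrincCyc Groth.Agent.WeilPic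

open scoped Classical

/-! ### a topological lemma -/

/-- In a Noetherian quasi-sober space, a point of the closure of a subset `B` which is relatively
closed in an open subset is a specialization of a point of `B`. -/
theorem exists_specializes_of_mem_closure {T : Type*} [TopologicalSpace T] [NoetherianSpace T]
    [QuasiSober T] {G B : Set T} (hG : IsOpen G) (hBG : B ⊆ G) (hrel : closure B ∩ G ⊆ B)
    {p : T} (hp : p ∈ closure B) : ∃ b ∈ B, b ⤳ p := by
  obtain ⟨S, hSfin, hScl, hSirr, hZ⟩ :=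
    NoetherianSpace.exists_finite_set_isClosed_irreducible (isClosed_closure : IsClosed (closure B))
  have hgen : ∀ t ∈ S, ∃ ξ, IsGenericPoint ξ t :=
    fun t ht => QuasiSober.sober (hSirr t ht) (hScl t ht)
  have hB : B ⊆ ⋃₀ {t | t ∈ S ∧ ∃ ξ, IsGenericPoint ξ t ∧ ξ ∈ G} := by
    intro b hb
    have h1 : b ∈ closure B := subset_closure hb
    rw [hZ] at h1
    obtain ⟨t, ht, hbt⟩ := h1
    obtain ⟨ξ, hξ⟩ := hgen t ht
    exact ⟨t, ⟨ht, ξ, hξ, (hξ.specializes hbt).mem_open hG (hBG hb)⟩, hbt⟩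
  have hcl : IsClosed (⋃₀ {t | t ∈ S ∧ ∃ ξ, IsGenericPoint ξ t ∧ ξ ∈ G}) := by
    rw [Set.sUnion_eq_biUnion]
    apply Set.Finite.isClosed_biUnion (hSfin.subset (fun t ht => ht.1))
    intro t ht
    exact hScl t ht.1
  obtain ⟨t, ⟨ht, ξ, hξ, hξG⟩, hpt⟩ := closure_minimal hB hcl hp
  refine ⟨ξ, hrel ⟨?_, hξG⟩, hξ.specializes hpt⟩
  rw [hZ]
  exact ⟨t, ht, hξ.mem⟩

/-- the version for an open subspace of a topological space -/
theorem notMem_closure_of_forall_not_specializes {T : Type*} [TopologicalSpace T] {W : Set T}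
    [NoetherianSpace W] [QuasiSober W] {G B : Set T} (hG : IsOpen G) (hBG : B ⊆ G)
    (hBW : B ⊆ W) (hrel : closure B ∩ G ⊆ B) {p : T} (hpW : p ∈ W) (hp : ∀ b ∈ B, ¬ b ⤳ p) :
    p ∉ closure B := by
  intro hpc
  have h1 : (⟨p, hpW⟩ : W) ∈ closure (Subtype.val ⁻¹' B : Set W) := by
    rw [Topology.IsEmbedding.subtypeVal.closure_eq_preimage_closure_image,
      Subtype.image_preimage_coe, Set.inter_eq_right.mpr hBW]
    exact hpc
  obtain ⟨b, hb, hbp⟩ := exists_specializes_of_mem_closure (G := Subtype.val ⁻¹' G)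
    (B := Subtype.val ⁻¹' B) (hG.preimage continuous_subtype_val)
    (fun x hx => hBG hx) (by
      rintro x ⟨hx1, hx2⟩
      apply hrel
      refine ⟨?_, hx2⟩
      have := (Topology.IsEmbedding.subtypeVal (p := (· ∈ W))).closure_eq_preimage_closure_image
        (Subtype.val ⁻¹' B)
      rw [this, Subtype.image_preimage_coe, Set.inter_eq_right.mpr hBW] at hx1
      exact hx1) h1
  exact hp b.1 hb (hbp.map continuous_subtype_val)

/-! ### units at points -/

variable {X : Scheme.{u}} [IsIntegral X]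

/-- `g` is (the image of) a unit of the local ring at `x` -/
def UnitAt (g : X.functionField) (x : X) : Prop :=
  ∃ r : X.presheaf.stalk x, IsUnit r ∧ algebraMap (X.presheaf.stalk x) X.functionField r = g

theorem UnitAt.mul {g g' : X.functionField} {x : X} (h : UnitAt g x) (h' : UnitAt g' x) :
    UnitAt (g * g') x := by
  obtain ⟨r, hr, rfl⟩ := h
  obtain ⟨r', hr', rfl⟩ := h'
  exact ⟨r * r', hr.mul hr', map_mul _ _ _⟩

theorem UnitAt.inv {g : X.functionField} {x : X} (h : UnitAt g x) : UnitAt g⁻¹ x := by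
  obtain ⟨r, hr, rfl⟩ := h
  refine ⟨((hr.unit⁻¹ : (X.presheaf.stalk x)ˣ) : X.presheaf.stalk x), Units.isUnit _, ?_⟩
  have h1 : algebraMap (X.presheaf.stalk x) X.functionField r *
      algebraMap (X.presheaf.stalk x) X.functionField
        ((hr.unit⁻¹ : (X.presheaf.stalk x)ˣ) : X.presheaf.stalk x) = 1 := by
    rw [← map_mul, IsUnit.mul_val_inv, map_one]
  exact eq_inv_of_mul_eq_one_right h1

theorem UnitAt.ne_zero {g : X.functionField} {x : X} (h : UnitAt g x) : g ≠ 0 := by
  obtain ⟨r, hr, rfl⟩ := h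
  intro h0
  have : r = 0 := (map_eq_zero_iff _ (IsFractionRing.injective (X.presheaf.stalk x)
    X.functionField)).mp h0
  rw [this] at hr
  exact not_isUnit_zero hr

/-- being a unit at a point is an open condition -/
theorem unitAt_open {g : X.functionField} {x : X} (h : UnitAt g x) :
    ∃ O : X.Opens, x ∈ O ∧ ∀ x' ∈ O, UnitAt g x' := by
  obtain ⟨r, hr, hrg⟩ := h
  obtain ⟨N, hxN, s, hs⟩ := X.presheaf.exists_germ_eq r
  haveI : Nonempty N := ⟨⟨x, hxN⟩⟩
  have hg : X.germToFunctionField N s = g := by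
    rw [← hrg, ← hs]
    exact (Scheme.algebraMap_germ_eq_germToFunctionField (X := X) (U := N) hxN s).symm
  refine ⟨X.basicOpen s, ?_, ?_⟩
  · rw [X.mem_basicOpen s x hxN, hs]
    exact hr
  · intro x' hx'
    have hx'N : x' ∈ N := X.basicOpen_le s hx'
    refine ⟨X.presheaf.germ N x' hx'N s, (X.mem_basicOpen s x' hx'N).mp hx', ?_⟩
    rw [← hg]
    exact Scheme.algebraMap_germ_eq_germToFunctionField (X := X) (U := N) hx'N s

/-- a rational function which is a unit at all points of `W` is a unit of `Γ(X, W)` -/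
theorem exists_unit_section' (W : X.Opens) (hη : genericPoint X ∈ W) (u : X.functionField)
    (H : ∀ x ∈ W, UnitAt u x) :
    ∃ t : Γ(X, W), IsUnit t ∧ X.presheaf.germ W (genericPoint X) hη t = u := by
  haveI : Nonempty W := ⟨⟨genericPoint X, hη⟩⟩
  have hu : u ≠ 0 := (H _ hη).ne_zero
  have h1 : ∀ x ∈ W, ∃ r : X.presheaf.stalk x,
      algebraMap (X.presheaf.stalk x) X.functionField r = u := by
    intro x hx
    obtain ⟨r, -, hr⟩ := H x hx
    exact ⟨r, hr⟩
  have h2 : ∀ x ∈ W, ∃ r : X.presheaf.stalk x,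
      algebraMap (X.presheaf.stalk x) X.functionField r = u⁻¹ := by
    intro x hx
    obtain ⟨r, -, hr⟩ := (H x hx).inv
    exact ⟨r, hr⟩
  obtain ⟨t, ht⟩ := NormH8.exists_section_of_forall_stalk W u h1
  obtain ⟨t', ht'⟩ := NormH8.exists_section_of_forall_stalk W u⁻¹ h2
  have hmul : t * t' = 1 := by
    apply X.germToFunctionField_injective W
    rw [map_mul, ht, ht', map_one, mul_inv_cancel₀ hu]
  exact ⟨t, IsUnit.of_mul_eq_one t' hmul, ht⟩

variable [IsLocallyNoetherian X]

/-- **Divisors are principal at a factorial point.** -/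
theorem exists_ord_eq (p : X) (hufd : UniqueFactorizationMonoid (X.presheaf.stalk p))
    (D : X → ℤ) (S : Set X) (hS : S.Finite)
    (hD : ∀ ζ : X, ζ ⤳ p → Order.coheight ζ = 1 → D ζ ≠ 0 → ζ ∈ S) :
    ∃ z : X.functionField, z ≠ 0 ∧
      ∀ ζ : X, ζ ⤳ p → Order.coheight ζ = 1 → Scheme.ord z ζ = D ζ := by
  have hex : ∀ ζ : X, ∃ π : X.functionField, π ≠ 0 ∧ (Order.coheight ζ = 1 → Cond ζ p π) := by
    intro ζ
    by_cases h : Order.coheight ζ = 1
    · obtain ⟨π, h0, hc⟩ := exists_cond_at' ζ h p hufd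
      exact ⟨π, h0, fun _ => hc⟩
    · exact ⟨1, one_ne_zero, fun h' => (h h').elim⟩
  choose π hπ0 hπc using hex
  let S' : Finset X := hS.toFinset.filter (fun ζ => Order.coheight ζ = 1)
  refine ⟨∏ ζ ∈ S', π ζ ^ D ζ, ?_, ?_⟩
  · exact Finset.prod_ne_zero_iff.mpr (fun ζ _ => zpow_ne_zero _ (hπ0 ζ))
  · intro ζ' hζ' hco'
    rw [ord_prod_zpow S' π (fun ζ _ => hπ0 ζ) D ζ']
    have h1 : ∀ ζ ∈ S', D ζ * Scheme.ord (π ζ) ζ' = if ζ' = ζ then D ζ else 0 := by
      intro ζ hζ
      have hcoζ : Order.coheight ζ = 1 := (Finset.mem_filter.mp hζ).2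
      rw [hπc ζ hcoζ ζ' hζ' hco']
      split_ifs <;> simp
    rw [Finset.sum_congr rfl h1, Finset.sum_ite_eq]
    split_ifs with hmem
    · rfl
    · by_contra hne
      apply hmem
      have hDne : D ζ' ≠ 0 := fun h0 => hne h0.symm
      exact Finset.mem_filter.mpr ⟨hS.mem_toFinset.mpr (hD ζ' hζ' hco' hDne), hco'⟩

end Groth.Agent.ExtInv
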