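import Mathlib
import Groth.Prelude
import Groth.Agent.Lib.ExtInv3_helper5

/-!
# Extension of invertible modules across factorial points, IV (helper5).  APPEND-ONLY once landed.

Local triviality near a factorial point of an invertible module on an open subscheme of an integral
locally Noetherian scheme.
-/

set_option autoImplicit false
universe u
open CategoryTheory AlgebraicGeometry TopologicalSpace Opposite IsLocalRing

noncomputable section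

namespace Groth.Agent.ExtInv

open QcqsLoc GenLocH8 TensH8 Groth.Agent.CDivUFD Groth.Agent.PrincCyc Groth.Agent.WeilPic

open scoped Classical

variable {X : Scheme.{u}} [IsIntegral X]

theorem unitAt_of_isUnit_section (O : X.Opens) (hη : genericPoint X ∈ O) (t : Γ(X, O))
    (ht : IsUnit t) (x : X) (hx : x ∈ O) :
    UnitAt (X.presheaf.germ O (genericPoint X) hη t) x := by
  haveI : Nonempty O := ⟨⟨x, hx⟩⟩
  exact ⟨X.presheaf.germ O x hx t, ht.map _,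
    Scheme.algebraMap_germ_eq_germToFunctionField (X := X) (U := O) hx t⟩

variable [IsLocallyNoetherian X]

/-- **Local triviality near a factorial point.** -/
theorem exists_isGen_near (U : X.Opens) (L : (U : Scheme.{u}).Modules) (hL : PicF.IsInvertible L)
    (p : X) (hufd : UniqueFactorizationMonoid (X.presheaf.stalk p)) :
    ∃ O : X.Opens, p ∈ O ∧ ∃ e : Γ(L, U.ι ⁻¹ᵁ O), IsGen L (U.ι ⁻¹ᵁ O) e := by
  by_cases hU : Nonempty ↥(U : Scheme.{u})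
  swap
  · haveI : IsIso (homOfSec L 0) := isIso_of_isGen_cover _ (fun x => (hU ⟨x⟩).elim)
    exact ⟨⊤, trivial, _, isGen_of_iso (asIso (homOfSec L 0)) (isGen_one (U.ι ⁻¹ᵁ ⊤))⟩
  obtain ⟨v₀⟩ := hU
  obtain ⟨V, f, hyV, hf0, hrel, hcrit⟩ :=
    exists_cartier_data (isFrame_U U) (pU_of_mem U) L hL v₀
  obtain ⟨_, ⟨W, hW : IsAffineOpen W, rfl⟩, hpW, -⟩ :=
    X.isBasis_affineOpens.exists_subset_of_mem_open (Set.mem_univ p) isOpen_univ
  have hpW' : p ∈ W := hpW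
  haveI : IsNoetherianRing Γ(X, W) := IsLocallyNoetherian.component_noetherian ⟨W, hW⟩
  haveI hWN : NoetherianSpace W := noetherianSpace_of_isAffineOpen W hW
  -- the divisor
  let D : X → ℤ := fun ζ => if h : ζ ∈ U then Scheme.ord (f ⟨ζ, h⟩) ζ else 0
  have hunit : ∀ (v w : ↥(U : Scheme.{u})) (x : X), x ∈ U.ι ''ᵁ V v → x ∈ U.ι ''ᵁ V w →
      UnitAt (f v / f w) x := by
    intro v w x hxv hxw
    have hxvw : x ∈ U.ι ''ᵁ (V v ⊓ V w) := mem_image_inf U hxv hxw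
    have hP : PU U (V v ⊓ V w) := NormH8.genericPoint_mem hxvw
    obtain ⟨t, htu, ht⟩ := hrel v w hP
    rw [← ht, rhoU_eq]
    exact unitAt_of_isUnit_section (U.ι ''ᵁ (V v ⊓ V w)) hP t htu x hxvw
  have hK1 : ∀ (v : ↥(U : Scheme.{u})) (ζ : X), ζ ∈ U.ι ''ᵁ V v → Order.coheight ζ = 1 →
      Scheme.ord (f v) ζ = D ζ := by
    intro v ζ hζv hco
    obtain ⟨w, hw, hwζ⟩ := hζv
    have hwζ' : w.1 = ζ := hwζ
    subst hwζ'
    have hD : D w.1 = Scheme.ord (f w) w.1 := dif_pos w.2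
    rw [hD]
    obtain ⟨r, hr, hrg⟩ := hunit v w w.1 ⟨w, hw, rfl⟩ ⟨w, hyV w, rfl⟩
    have h0 := Groth.Agent.OrdFin.ord_eq_zero_of_unit w.1 hr.unit
    rw [IsUnit.unit_spec, hrg, ord_div _ _ (hf0 v) (hf0 w)] at h0
    omega
  -- finiteness of the support
  have hfin : {ζ : X | ζ ⤳ p ∧ Order.coheight ζ = 1 ∧ D ζ ≠ 0}.Finite := by
    have hc : IsCompact ((U ⊓ W : X.Opens) : Set X) :=
      (noetherianSpace_set_iff (W : Set X)).mp hWN _ (fun x hx => hx.2)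
    obtain ⟨t, ht⟩ := hc.elim_finite_subcover
      (fun v : ↥(U : Scheme.{u}) => ((U.ι ''ᵁ V v : X.Opens) : Set X))
      (fun v => (U.ι ''ᵁ V v).isOpen) (by
        intro x hx
        exact Set.mem_iUnion.mpr ⟨⟨x, hx.1⟩, ⟨⟨x, hx.1⟩, hyV _, rfl⟩⟩)
    have hfin' : (⋃ v ∈ t, {ξ : X | ξ ∈ W ∧ Order.coheight ξ = 1 ∧
        Scheme.ord (f v) ξ ≠ 0}).Finite :=
      Set.Finite.biUnion t.finite_toSet
        (fun v _ => Groth.Agent.OrdFin.finite_ord_ne_zero hW (f v) (hf0 v))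
    apply hfin'.subset
    rintro ζ ⟨hζp, hco, hDζ⟩
    have hζW : ζ ∈ W := hζp.mem_open W.isOpen hpW'
    have hζU : ζ ∈ U := by
      by_contra hn
      exact hDζ (dif_neg hn)
    obtain ⟨v, hvt, hζv⟩ := Set.mem_iUnion₂.mp (ht ⟨hζU, hζW⟩)
    refine Set.mem_iUnion₂.mpr ⟨v, hvt, hζW, hco, ?_⟩
    rw [hK1 v ζ hζv hco]
    exact hDζ
  obtain ⟨z, hz0, hz⟩ := exists_ord_eq p hufd D _ hfin (fun ζ h1 h2 h3 => ⟨h1, h2, h3⟩)
  -- the bad set
  let B : Set X := {x | x ∈ W ∧ ∃ v : ↥(U : Scheme.{u}), x ∈ U.ι ''ᵁ V v ∧ ¬ UnitAt (f v / z) x}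
  have hind : ∀ (v w : ↥(U : Scheme.{u})) (x : X), x ∈ U.ι ''ᵁ V v → x ∈ U.ι ''ᵁ V w →
      UnitAt (f w / z) x → UnitAt (f v / z) x := by
    intro v w x hxv hxw h
    have h1 := (hunit v w x hxv hxw).mul h
    have h2 : f v / f w * (f w / z) = f v / z := by
      have := hf0 w
      field_simp
    rwa [h2] at h1
  have hBG : B ⊆ ((U ⊓ W : X.Opens) : Set X) := by
    rintro x ⟨hxW, v, ⟨w, -, hwx⟩, -⟩
    have hwx' : w.1 = x := hwx
    exact ⟨hwx' ▸ w.2, hxW⟩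
  have hBW : B ⊆ (W : Set X) := fun x hx => hx.1
  have hrelB : closure B ∩ ((U ⊓ W : X.Opens) : Set X) ⊆ B := by
    rintro x ⟨hxc, hxU, hxW⟩
    by_contra hxB
    have hxv : x ∈ U.ι ''ᵁ V ⟨x, hxU⟩ := ⟨⟨x, hxU⟩, hyV _, rfl⟩
    have hux : UnitAt (f ⟨x, hxU⟩ / z) x := by
      by_contra hn
      exact hxB ⟨hxW, ⟨x, hxU⟩, hxv, hn⟩
    obtain ⟨O, hxO, hO⟩ := unitAt_open hux
    obtain ⟨b, ⟨hbO, hbv⟩, hbW, w, hbw, hnot⟩ := mem_closure_iff.mp hxc
      ((O ⊓ U.ι ''ᵁ V ⟨x, hxU⟩ : X.Opens) : Set X) (O ⊓ U.ι ''ᵁ V ⟨x, hxU⟩).isOpen ⟨hxO, hxv⟩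
    exact hnot (hind w ⟨x, hxU⟩ b hbw hbv (hO b hbO))
  have hn : IsIntegrallyClosed (X.presheaf.stalk p) := inferInstance
  have hspec : ∀ b ∈ B, ¬ b ⤳ p := by
    rintro b ⟨-, v, hbv, hnot⟩ hbp
    apply hnot
    have hnb : IsIntegrallyClosed (X.presheaf.stalk b) := isIntegrallyClosed_of_specializes hbp hn
    exact exists_unit_of_ord_eq_zero b hnb (f v / z) (div_ne_zero (hf0 v) hz0)
      (fun ζ hζ hco => by
        rw [ord_div _ _ (hf0 v) hz0, hK1 v ζ (hζ.mem_open (U.ι ''ᵁ V v).isOpen hbv) hco,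
          hz ζ (hζ.trans hbp) hco, sub_self])
  haveI : NoetherianSpace ((W : X.Opens) : Set X) := hWN
  haveI : QuasiSober ((W : X.Opens) : Set X) := W.isOpen.isOpenEmbedding_subtypeVal.quasiSober
  have hpB : p ∉ closure B :=
    notMem_closure_of_forall_not_specializes (W := ((W : X.Opens) : Set X))
      (G := ((U ⊓ W : X.Opens) : Set X)) (U ⊓ W).isOpen hBG hBW hrelB hpW' hspec
  refine ⟨⟨(W : Set X) ∩ (closure B)ᶜ, W.isOpen.inter isClosed_closure.isOpen_compl⟩,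
    ⟨hpW', hpB⟩, ?_⟩
  apply hcrit _ z hz0
  intro v hPv
  obtain ⟨t, htu, ht⟩ := exists_unit_section' (U.ι ''ᵁ (V v ⊓ U.ι ⁻¹ᵁ
      ⟨(W : Set X) ∩ (closure B)ᶜ, W.isOpen.inter isClosed_closure.isOpen_compl⟩)) hPv (z / f v)
    (by
      rintro x ⟨w, ⟨hwv, hwW, hwB⟩, hwx⟩
      have hwx' : w.1 = x := hwx
      subst hwx'
      have h1 : UnitAt (f v / z) w.1 := by
        by_contra hnu
        exact hwB (subset_closure ⟨hwW, v, ⟨w, hwv, rfl⟩, hnu⟩)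
      have h2 := h1.inv
      rwa [inv_div] at h2)
  refine ⟨t, htu, ?_⟩
  rw [rhoU_eq, ht]
  have := hf0 v
  field_simp

end Groth.Agent.ExtInv
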