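import Mathlib
import Groth.Prelude
import Groth.Agent.Lib.ExtInv4_helper5

/-!
# Extension of invertible modules across factorial points, V (helper5).  APPEND-ONLY once landed.

A closed subset of a locally Noetherian scheme all of whose points are factorial of dimension at
least two forms a parafactorial pair with the scheme.
-/

set_option autoImplicit false
universe u
open CategoryTheory AlgebraicGeometry TopologicalSpace Opposite IsLocalRing

noncomputable section

namespace Groth.Agent.ExtInv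

open QcqsLoc GenLocH8 TensH8 Groth.Agent.CDivUFD Groth.Agent.PrincCyc Groth.Agent.WeilPic
  Groth.Agent.PFact

open scoped Classical

section Integral

variable {X : Scheme.{u}} [IsIntegral X] [IsLocallyNoetherian X]

theorem coheight_genericPoint : Order.coheight (genericPoint X) = 0 := by
  rw [Order.coheight_eq_zero]
  intro b _
  exact (genericPoint_specializes b)

/-- **Hartogs**: restriction of functions across a closed subset of codimension at least two
all of whose points are normal is bijective. -/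
theorem presheaf_map_bijective_of_codim_two (Y : Closeds X)
    (hn : ∀ y ∈ Y, IsIntegrallyClosed (X.presheaf.stalk y))
    (hco : ∀ y ∈ Y, Order.coheight y ≠ 0 ∧ Order.coheight y ≠ 1) (V : X.Opens) :
    Function.Bijective (X.presheaf.map (homOfLE (inf_le_left : V ⊓ Y.compl ≤ V)).op) := by
  have hη : genericPoint X ∉ Y := fun h => (hco _ h).1 coheight_genericPoint
  by_cases hV : Nonempty V
  swap
  · apply presheaf_map_bijective_of_eq
    apply le_antisymm inf_le_left
    intro x hx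
    exact (hV ⟨⟨x, hx⟩⟩).elim
  obtain ⟨⟨v, hv⟩⟩ := hV
  have hηV : genericPoint X ∈ V := NormH8.genericPoint_mem hv
  have hηV' : genericPoint X ∈ V ⊓ Y.compl := ⟨hηV, hη⟩
  haveI : Nonempty V := ⟨⟨v, hv⟩⟩
  haveI : Nonempty (V ⊓ Y.compl : X.Opens) := ⟨⟨_, hηV'⟩⟩
  have hcomp : ∀ s : Γ(X, V), X.germToFunctionField (V ⊓ Y.compl)
      (X.presheaf.map (homOfLE (inf_le_left : V ⊓ Y.compl ≤ V)).op s) =
      X.germToFunctionField V s := by
    intro s
    exact TopCat.Presheaf.germ_res_apply X.presheaf (homOfLE inf_le_left) _ hηV' s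
  constructor
  · intro s t hst
    apply X.germToFunctionField_injective V
    rw [← hcomp s, ← hcomp t, hst]
  · intro s
    obtain ⟨r, hr⟩ := NormH8.exists_section_of_forall_stalk V
      (X.germToFunctionField (V ⊓ Y.compl) s) (by
        intro x hx
        by_cases hxY : x ∈ Y
        · apply mem_range_of_codim_one' x (hn x hxY)
          intro z hzx hz1
          have hzV : z ∈ V := hzx.mem_open V.isOpen hx
          have hzY : z ∉ Y := fun h => (hco z h).2 hz1
          exact ⟨X.presheaf.germ (V ⊓ Y.compl) z ⟨hzV, hzY⟩ s,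
            Scheme.algebraMap_germ_eq_germToFunctionField (X := X) (U := V ⊓ Y.compl) _ s⟩
        · exact ⟨X.presheaf.germ (V ⊓ Y.compl) x ⟨hx, hxY⟩ s,
            Scheme.algebraMap_germ_eq_germToFunctionField (X := X) (U := V ⊓ Y.compl) _ s⟩)
    refine ⟨r, ?_⟩
    apply X.germToFunctionField_injective (V ⊓ Y.compl)
    rw [hcomp, hr]

/-- **Parafactoriality at factorial points of dimension at least two**, integral case. -/
theorem isParafactorialPair_of_ufd_integral (Y : Closeds X)
    (hufd : ∀ y ∈ Y, UniqueFactorizationMonoid (X.presheaf.stalk y))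
    (hco : ∀ y ∈ Y, Order.coheight y ≠ 0 ∧ Order.coheight y ≠ 1) :
    ParaF.IsParafactorialPair X Y := by
  rw [isParafactorialPair_iff]
  have hA := presheaf_map_bijective_of_codim_two Y
    (fun y hy => by haveI := hufd y hy; infer_instance) hco
  refine ⟨hA, fun V L hL => ?_⟩
  apply isInvertible_pushforward_of_local_gens X Y V (homOfLE_app_bijective X Y hA V) L
  intro y hy
  obtain ⟨U₀, hU₀⟩ : ∃ U₀ : X.Opens, U₀ = V ⊓ Y.compl := ⟨_, rfl⟩
  have key : ∃ O₁ : X.Opens, y ∈ O₁ ∧
      ∃ e : Γ(L, (V ⊓ Y.compl).ι ⁻¹ᵁ O₁), IsGen L ((V ⊓ Y.compl).ι ⁻¹ᵁ O₁) e := by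
    by_cases hyY : y ∈ Y
    · exact exists_isGen_near (V ⊓ Y.compl) L hL y (hufd y hyY)
    · obtain ⟨W, -, hyW, e, he⟩ := exists_isGen hL (⟨y, ⟨hy, hyY⟩⟩ : ↥((V ⊓ Y.compl : X.Opens) : Scheme.{u}))
      have hle : (V ⊓ Y.compl).ι ⁻¹ᵁ ((V ⊓ Y.compl).ι ''ᵁ W) ≤ W := by
        rw [Scheme.Hom.preimage_image_eq]
      exact ⟨(V ⊓ Y.compl).ι ''ᵁ W, ⟨⟨y, ⟨hy, hyY⟩⟩, hyW, rfl⟩, _, he.res hle⟩
  obtain ⟨O₁, hyO₁, e, he⟩ := key
  obtain ⟨_, ⟨O, hO : IsAffineOpen O, rfl⟩, hyO, hOle⟩ :=
    X.isBasis_affineOpens.exists_subset_of_mem_open (show y ∈ O₁ ⊓ V from ⟨hyO₁, hy⟩)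
      (O₁ ⊓ V).isOpen
  have hle : (V ⊓ Y.compl).ι ⁻¹ᵁ O ≤ (V ⊓ Y.compl).ι ⁻¹ᵁ O₁ := by
    intro w hw
    exact (hOle hw).1
  exact ⟨O, hyO, fun w hw => (hOle hw).2, hO, _, he.res hle⟩

end Integral

section General

variable (X : Scheme.{u}) [IsLocallyNoetherian X]

theorem isParafactorialPair_of_closedsIn_eq_bot (Z : Scheme.{u}) (Y : Closeds Z)
    (hY : ∀ z : Z, z ∉ Y) : ParaF.IsParafactorialPair Z Y := by
  intro V
  have heq : V ⊓ Y.compl = V := by
    apply le_antisymm inf_le_left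
    intro x hx
    exact ⟨hx, hY x⟩
  haveI : IsIso (Z.homOfLE (inf_le_left : V ⊓ Y.compl ≤ V)) := isIso_homOfLE_of_eq Z _ heq
  exact invRestrictEquiv_of_isIso _

/-- **Parafactoriality at factorial points of dimension at least two.** -/
theorem isParafactorialPair_of_ufd (Y : Closeds X)
    (hufd : ∀ y ∈ Y, UniqueFactorizationMonoid (X.presheaf.stalk y))
    (hco : ∀ y ∈ Y, Order.coheight y ≠ 0 ∧ Order.coheight y ≠ 1) :
    ParaF.IsParafactorialPair X Y := by
  have hloc : ∀ x : X, ∃ W : X.Opens, x ∈ W ∧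
      ParaF.IsParafactorialPair (W : Scheme.{u}) (ParaF.closedsIn W Y) := by
    intro x
    by_cases hx : x ∈ Y
    · haveI := hufd x hx
      haveI : IsDomain (X.presheaf.stalk x) := {}
      obtain ⟨W, hW, hxW, -, hWdom, -⟩ :=
        NormH8.exists_domain_nhd (X := X) (x := x) (W₀ := ⊤) trivial
      haveI : IsAffine ((W : X.Opens) : Scheme.{u}) := hW
      haveI : Nonempty ((W : X.Opens) : Scheme.{u}) := ⟨⟨x, hxW⟩⟩
      haveI : IsDomain Γ(((W : X.Opens) : Scheme.{u}), ⊤) :=
        MulEquiv.isDomain Γ(X, W) (W.topIso.commRingCatIsoToRingEquiv.toMulEquiv)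
      haveI : IsIntegral ((W : X.Opens) : Scheme.{u}) := isIntegral_of_isAffine_of_isDomain _
      refine ⟨W, hxW, isParafactorialPair_of_ufd_integral _ ?_ ?_⟩
      · intro w hw
        have hw' : W.ι w ∈ Y := hw
        exact (stalkEquiv W.ι w).toMulEquiv.uniqueFactorizationMonoid (hufd (W.ι w) hw')
      · intro w hw
        have hw' : W.ι w ∈ Y := hw
        have := hco (W.ι w) hw'
        rwa [coheight_eq_of_isOpenImmersion W.ι] at this
    · obtain ⟨U₀, hU₀⟩ : ∃ U₀ : X.Opens, U₀ = Y.compl := ⟨_, rfl⟩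
      have hU₀' : ∀ z ∈ U₀, z ∉ Y := by
        intro z hz
        rw [hU₀] at hz
        exact hz
      refine ⟨U₀, by rw [hU₀]; exact hx, isParafactorialPair_of_closedsIn_eq_bot _ _ ?_⟩
      intro w hw
      have hw' : U₀.ι w ∈ Y := hw
      exact hU₀' (U₀.ι w) w.2 hw'
  choose W hxW hW using hloc
  apply isParafactorialPair_of_cover X Y W ?_ hW
  apply top_le_iff.mp
  intro x _
  exact Opens.mem_iSup.mpr ⟨x, hxW x⟩

end General

end Groth.Agent.ExtInv
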