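import Mathlib
import Groth.Prelude
import Groth.Agent.Lib.ExtInv5_helper5
import Groth.Agent.Lib.CocycIso_helper9

/-!
# Extension of invertible modules across factorial points, VI (helper5).  APPEND-ONLY once landed.

Gluing: an invertible module on an open `U` of a scheme `S` which is trivialised on the traces of
opens `V i` covering `S` and pairwise meeting inside `U` extends to `S`.
-/

set_option autoImplicit false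
universe u
open CategoryTheory AlgebraicGeometry TopologicalSpace Opposite IsLocalRing

noncomputable section

namespace Groth.Agent.ExtInv

open QcqsLoc GenLocH8 TensH8 RefHullH8 Groth.Agent.CocycMod

section Glue

variable {S : Scheme.{u}} (U : S.Opens)

theorem rX_restrict {A B : (U : Scheme.{u}).Opens} (h : A ≤ B) (r : Γ((U : Scheme.{u}), B)) :
    (show Γ(S, U.ι ''ᵁ A) from rX h r) =
      rX (X := S) (U.ι.image_mono h) (show Γ(S, U.ι ''ᵁ B) from r) := rfl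

theorem rF_restrict (F : S.Modules) {A B : (U : Scheme.{u}).Opens} (h : A ≤ B)
    (m : Γ(F.restrict U.ι, B)) :
    (show Γ(F, U.ι ''ᵁ A) from rF (F.restrict U.ι) h m) =
      rF F (U.ι.image_mono h) (show Γ(F, U.ι ''ᵁ B) from m) := rfl

theorem rX_self' {W : S.Opens} (h : W ≤ W) (c : Γ(S, W)) : rX h c = c := by
  have h1 : (homOfLE h).op = 𝟙 (op W) := Subsingleton.elim _ _
  show (S.presheaf.map (homOfLE h).op).hom c = c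
  rw [h1, S.presheaf.map_id]
  rfl

theorem transport_aux {T W : S.Opens} {T' B : (U : Scheme.{u}).Opens} (hT' : T ≤ U.ι ''ᵁ T')
    (h : T' ≤ B) (hres : U.ι ''ᵁ B ≤ W) (η : Γ(S, W)) (t : Γ((U : Scheme.{u}), B))
    (hP : rX hres η = (show Γ(S, U.ι ''ᵁ B) from t)) :
    rX hT' (show Γ(S, U.ι ''ᵁ T') from rX h t) =
      rX (hT'.trans ((U.ι.image_mono h).trans hres)) η := by
  show rX hT' (rX (X := S) (U.ι.image_mono h) (show Γ(S, U.ι ''ᵁ B) from t)) = _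
  rw [← hP, rX_rX, rX_rX]

theorem restrict_transition (F : S.Modules) {Ai Aj : (U : Scheme.{u}).Opens} {Vi Vj : S.Opens}
    (hi : U.ι ''ᵁ Ai ≤ Vi) (hj : U.ι ''ᵁ Aj ≤ Vj) (si : Γ(F, Vi)) (sj : Γ(F, Vj))
    (η : Γ(S, Vi ⊓ Vj)) (hres : U.ι ''ᵁ (Ai ⊓ Aj) ≤ Vi ⊓ Vj)
    (t : Γ((U : Scheme.{u}), Ai ⊓ Aj))
    (hP : rX hres η = (show Γ(S, U.ι ''ᵁ (Ai ⊓ Aj)) from t))
    (hrel : rF F (inf_le_left : Vi ⊓ Vj ≤ Vi) si = η • rF F (inf_le_right : Vi ⊓ Vj ≤ Vj) sj) :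
    rF (F.restrict U.ι) (inf_le_left : Ai ⊓ Aj ≤ Ai)
        (show Γ(F.restrict U.ι, Ai) from rF F hi si) =
      t • rF (F.restrict U.ι) (inf_le_right : Ai ⊓ Aj ≤ Aj)
        (show Γ(F.restrict U.ι, Aj) from rF F hj sj) := by
  rw [restrict_smul_eq]
  have e1 : (rF (F.restrict U.ι) (inf_le_left : Ai ⊓ Aj ≤ Ai)
      (show Γ(F.restrict U.ι, Ai) from rF F hi si) : Γ(F.restrict U.ι, Ai ⊓ Aj)) =
      rF F (U.ι.image_mono (inf_le_left : Ai ⊓ Aj ≤ Ai)) (rF F hi si) := rfl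
  have e2 : (rF (F.restrict U.ι) (inf_le_right : Ai ⊓ Aj ≤ Aj)
      (show Γ(F.restrict U.ι, Aj) from rF F hj sj) : Γ(F.restrict U.ι, Ai ⊓ Aj)) =
      rF F (U.ι.image_mono (inf_le_right : Ai ⊓ Aj ≤ Aj)) (rF F hj sj) := rfl
  rw [e1, e2, rF_rF, rF_rF]
  have h1 := congrArg (rF F hres) hrel
  rw [rF_rF, rF_smul, rF_rF, hP] at h1
  exact h1

variable (L : (U : Scheme.{u}).Modules) {ι : Type u} (V : ι → S.Opens)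
  (e : ∀ i, Γ(L, U.ι ⁻¹ᵁ V i)) (he : ∀ i, IsGen L (U.ι ⁻¹ᵁ V i) (e i))

include he in
theorem exists_trans (i j : ι) :
    ∃ t : Γ((U : Scheme.{u}), U.ι ⁻¹ᵁ V i ⊓ U.ι ⁻¹ᵁ V j), IsUnit t ∧
      rF L inf_le_left (e i) = t • rF L inf_le_right (e j) := by
  obtain ⟨t, ht⟩ := ((he j).res inf_le_right).exists_coef (rF L inf_le_left (e i))
  refine ⟨t, ?_, ht⟩
  apply isUnit_of_isGen_smul ((he j).res inf_le_right)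
  rw [← ht]
  exact (he i).res inf_le_left

include he in
/-- **Gluing.** -/
theorem exists_extension_of_charts
    (hdisj : ∀ i j, i ≠ j → V i ⊓ V j ≤ U) (hcov : ∀ s : S, ∃ i, s ∈ V i) :
    ∃ L' : S.Modules, PicF.IsInvertible L' ∧ Nonempty (L'.restrict U.ι ≅ L) := by
  classical
  choose t htu ht using exists_trans U L V e he
  obtain ⟨A, hA⟩ : ∃ A : ι → (U : Scheme.{u}).Opens, A = fun i => U.ι ⁻¹ᵁ V i := ⟨_, rfl⟩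
  subst hA
  have hres : ∀ i j, U.ι ''ᵁ (U.ι ⁻¹ᵁ V i ⊓ U.ι ⁻¹ᵁ V j) ≤ V i ⊓ V j := by
    rintro i j _ ⟨w, ⟨hwi, hwj⟩, rfl⟩
    exact ⟨hwi, hwj⟩
  have hle : ∀ i j, i ≠ j → V i ⊓ V j ≤ U.ι ''ᵁ (U.ι ⁻¹ᵁ V i ⊓ U.ι ⁻¹ᵁ V j) := by
    intro i j hij x hx
    exact ⟨⟨x, hdisj i j hij hx⟩, ⟨hx.1, hx.2⟩, rfl⟩
  have htii : ∀ i, t i i = 1 := by
    intro i
    apply IsGen.coef_ext ((he i).res inf_le_right)
    rw [one_smul, ← ht i i]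
  let η₀ : ∀ i j, Γ(S, V i ⊓ V j) := fun i j =>
    if h : i = j then 1
    else rX (hle i j h) (show Γ(S, U.ι ''ᵁ (U.ι ⁻¹ᵁ V i ⊓ U.ι ⁻¹ᵁ V j)) from t i j)
  have hη₀u : ∀ i j, IsUnit (η₀ i j) := by
    intro i j
    by_cases h : i = j
    · simp only [η₀, dif_pos h]
      exact isUnit_one
    · simp only [η₀, dif_neg h]
      exact (htu i j).map (rX (hle i j h))
  have hP1 : ∀ i j, rX (hres i j) (η₀ i j) =
      (show Γ(S, U.ι ''ᵁ (U.ι ⁻¹ᵁ V i ⊓ U.ι ⁻¹ᵁ V j)) from t i j) := by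
    intro i j
    by_cases h : i = j
    · subst h
      simp only [η₀, dif_pos rfl]
      rw [map_one, htii]
      rfl
    · simp only [η₀, dif_neg h]
      rw [rX_rX]
      exact rX_self' _ _
  let η : ∀ i j, (Γ(S, V i ⊓ V j))ˣ := fun i j => (hη₀u i j).unit
  have hηval : ∀ i j, (η i j : Γ(S, V i ⊓ V j)) = η₀ i j := fun i j => IsUnit.unit_spec _
  have hcoc : Cocycle V η := by
    intro i j k
    show rX _ (η i k : Γ(S, V i ⊓ V k)) = rX _ (η i j : Γ(S, V i ⊓ V j)) *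
      rX _ (η j k : Γ(S, V j ⊓ V k))
    rw [hηval, hηval, hηval]
    by_cases hall : i = j ∧ j = k
    · obtain ⟨rfl, rfl⟩ := hall
      simp only [η₀, dif_pos rfl, map_one, mul_one]
    · have hT : V i ⊓ V j ⊓ V k ≤ U := by
        by_cases hij : i = j
        · have hjk : j ≠ k := fun h => hall ⟨hij, h⟩
          exact (inf_le_inf_right (V k) inf_le_right).trans (hdisj j k hjk)
        · exact inf_le_left.trans (hdisj i j hij)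
      have hT' : V i ⊓ V j ⊓ V k ≤
          U.ι ''ᵁ (U.ι ⁻¹ᵁ V i ⊓ U.ι ⁻¹ᵁ V j ⊓ U.ι ⁻¹ᵁ V k) := by
        intro x hx
        exact ⟨⟨x, hT hx⟩, ⟨⟨hx.1.1, hx.1.2⟩, hx.2⟩, rfl⟩
      have hc : rX (inf_le_inf_right (U.ι ⁻¹ᵁ V k) inf_le_left :
            U.ι ⁻¹ᵁ V i ⊓ U.ι ⁻¹ᵁ V j ⊓ U.ι ⁻¹ᵁ V k ≤ U.ι ⁻¹ᵁ V i ⊓ U.ι ⁻¹ᵁ V k) (t i k) =
          rX (inf_le_left :
            U.ι ⁻¹ᵁ V i ⊓ U.ι ⁻¹ᵁ V j ⊓ U.ι ⁻¹ᵁ V k ≤ U.ι ⁻¹ᵁ V i ⊓ U.ι ⁻¹ᵁ V j) (t i j) *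
          rX (inf_le_inf_right (U.ι ⁻¹ᵁ V k) inf_le_right :
            U.ι ⁻¹ᵁ V i ⊓ U.ι ⁻¹ᵁ V j ⊓ U.ι ⁻¹ᵁ V k ≤ U.ι ⁻¹ᵁ V j ⊓ U.ι ⁻¹ᵁ V k) (t j k) := by
        apply IsGen.coef_ext ((he k).res (inf_le_right :
          U.ι ⁻¹ᵁ V i ⊓ U.ι ⁻¹ᵁ V j ⊓ U.ι ⁻¹ᵁ V k ≤ U.ι ⁻¹ᵁ V k))
        have h1 := congrArg (rF L (inf_le_inf_right (U.ι ⁻¹ᵁ V k) inf_le_left :
            U.ι ⁻¹ᵁ V i ⊓ U.ι ⁻¹ᵁ V j ⊓ U.ι ⁻¹ᵁ V k ≤ U.ι ⁻¹ᵁ V i ⊓ U.ι ⁻¹ᵁ V k)) (ht i k)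
        have h2 := congrArg (rF L (inf_le_left :
            U.ι ⁻¹ᵁ V i ⊓ U.ι ⁻¹ᵁ V j ⊓ U.ι ⁻¹ᵁ V k ≤ U.ι ⁻¹ᵁ V i ⊓ U.ι ⁻¹ᵁ V j)) (ht i j)
        have h3 := congrArg (rF L (inf_le_inf_right (U.ι ⁻¹ᵁ V k) inf_le_right :
            U.ι ⁻¹ᵁ V i ⊓ U.ι ⁻¹ᵁ V j ⊓ U.ι ⁻¹ᵁ V k ≤ U.ι ⁻¹ᵁ V j ⊓ U.ι ⁻¹ᵁ V k)) (ht j k)
        rw [rF_smul, rF_rF, rF_rF] at h1 h2 h3
        rw [mul_smul, ← h3, ← h2, ← h1]
      have h4 := congrArg (fun r : Γ((U : Scheme.{u}),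
          U.ι ⁻¹ᵁ V i ⊓ U.ι ⁻¹ᵁ V j ⊓ U.ι ⁻¹ᵁ V k) =>
        rX hT' (show Γ(S, U.ι ''ᵁ (U.ι ⁻¹ᵁ V i ⊓ U.ι ⁻¹ᵁ V j ⊓ U.ι ⁻¹ᵁ V k)) from r)) hc
      have h5 : ∀ a b : Γ((U : Scheme.{u}), U.ι ⁻¹ᵁ V i ⊓ U.ι ⁻¹ᵁ V j ⊓ U.ι ⁻¹ᵁ V k),
          rX hT' (show Γ(S, U.ι ''ᵁ (U.ι ⁻¹ᵁ V i ⊓ U.ι ⁻¹ᵁ V j ⊓ U.ι ⁻¹ᵁ V k)) from a * b) =
          rX hT' (show Γ(S, U.ι ''ᵁ (U.ι ⁻¹ᵁ V i ⊓ U.ι ⁻¹ᵁ V j ⊓ U.ι ⁻¹ᵁ V k)) from a) *
          rX hT' (show Γ(S, U.ι ''ᵁ (U.ι ⁻¹ᵁ V i ⊓ U.ι ⁻¹ᵁ V j ⊓ U.ι ⁻¹ᵁ V k)) from b) :=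
        fun a b => map_mul (rX hT') _ _
      simp only [] at h4
      rw [h5, transport_aux U hT' _ (hres i k) (η₀ i k) (t i k) (hP1 i k),
        transport_aux U hT' _ (hres i j) (η₀ i j) (t i j) (hP1 i j),
        transport_aux U hT' _ (hres j k) (η₀ j k) (t j k) (hP1 j k)] at h4
      exact h4
  choose c hc using hcov
  have hsup : iSup V = ⊤ := top_le_iff.mp (fun x _ => Opens.mem_iSup.mpr ⟨c x, hc x⟩)
  refine ⟨CocycMod.L V η c hc hcoc, isInvertible_L V η c hc hcoc hsup, ?_⟩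
  have hAV : ∀ i, U.ι ''ᵁ (U.ι ⁻¹ᵁ V i) ≤ V i := by
    rintro i _ ⟨w, hw, rfl⟩
    exact hw
  have hs : ∀ i, IsGen ((CocycMod.L V η c hc hcoc).restrict U.ι) (U.ι ⁻¹ᵁ V i)
      (show Γ((CocycMod.L V η c hc hcoc).restrict U.ι, U.ι ⁻¹ᵁ V i) from
        rF (CocycMod.L V η c hc hcoc) (hAV i) (sec V η c hc hcoc i)) := fun i =>
    WDivShH8.isGen_restrict (CocycMod.L V η c hc hcoc) U (isGen_sec V η c hc hcoc i) _ (hAV i)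
  have hsupA : iSup (fun i => U.ι ⁻¹ᵁ V i) = ⊤ :=
    top_le_iff.mp (fun w _ => Opens.mem_iSup.mpr ⟨c w.1, hc w.1⟩)
  refine CocycIsoH9.nonempty_iso (U := fun i => U.ι ⁻¹ᵁ V i) (s' := e) (η := t) (η' := t)
    (u := fun _ => 1) hsupA hs ?_ ht ?_ he (fun _ => isUnit_one)
  · intro i j
    exact restrict_transition U (CocycMod.L V η c hc hcoc) (hAV i) (hAV j)
      (sec V η c hc hcoc i) (sec V η c hc hcoc j) (η₀ i j) (hres i j) (t i j) (hP1 i j)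
      (by rw [← hηval]; exact rF_sec V η c hc hcoc i j)
  · intro i j
    rw [map_one, map_one, mul_one, one_mul]

end Glue

end Groth.Agent.ExtInv
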