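import Mathlib

/-!
# Schemes whose complement of an open is discrete with Noetherian one-dimensional local rings, I:
commutative algebra and charts (helper9).  APPEND-ONLY once landed.

`OneDim9.exists_chart`: for a retrocompact open `U` with discrete complement and a point `x ∉ U`
whose local ring is Noetherian of dimension `≤ 1`, there is an affine open `V ∋ x` meeting the
complement of `U` only in `x` and a function `f` on `V` with `V ∩ U = D(f)`.
-/

set_option autoImplicit false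
universe u
open CategoryTheory AlgebraicGeometry TopologicalSpace Opposite

namespace OneDim9

section Alg

variable {A : Type u} [CommRing A]

/-- prime avoidance: if only finitely many primes lie strictly below the prime `m`, some element
of `m` avoids all of them -/
theorem exists_mem_notMem_of_finite_lt (m : Ideal A) [m.IsPrime]
    (hfin : {q : PrimeSpectrum A | q.asIdeal < m}.Finite) :
    ∃ f ∈ m, ∀ q : PrimeSpectrum A, q.asIdeal < m → f ∉ q.asIdeal := by
  classical
  by_contra hcon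
  push Not at hcon
  have hsub : (m : Set A) ⊆ ⋃ q ∈ (↑hfin.toFinset : Set (PrimeSpectrum A)), (q.asIdeal : Set A) := by
    intro f hf
    obtain ⟨q, hq, hfq⟩ := hcon f hf
    simp only [Set.mem_iUnion]
    exact ⟨q, by simpa using hq, hfq⟩
  by_cases hne : hfin.toFinset.Nonempty
  · obtain ⟨a, ha⟩ := hne
    obtain ⟨q, hq, hmq⟩ := (Ideal.subset_union_prime (s := hfin.toFinset)
      (f := fun q => q.asIdeal) a a (fun q _ _ _ => q.isPrime)).mp hsub
    have hq' : q.asIdeal < m := by simpa using hq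
    exact absurd hmq (not_le_of_gt hq')
  · rw [Finset.not_nonempty_iff_eq_empty] at hne
    obtain ⟨q, hq, -⟩ := hcon 0 m.zero_mem
    have : q ∈ hfin.toFinset := by simpa using hq
    rw [hne] at this
    simp at this

/-- the key algebraic lemma for charts at a point of the discrete complement -/
theorem exists_f_t (m : Ideal A) [m.IsPrime]
    (hfin : {q : PrimeSpectrum A | q.asIdeal < m}.Finite) (G : Finset A)
    (hGm : ∀ g ∈ G, g ∈ m)
    (hG : ∀ q : PrimeSpectrum A, q.asIdeal ≠ m → ∃ g ∈ G, g ∉ q.asIdeal) :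
    ∃ f ∈ m, ∃ t, t ∉ m ∧
      ∀ q : PrimeSpectrum A, t ∉ q.asIdeal → f ∈ q.asIdeal → q.asIdeal = m := by
  classical
  obtain ⟨f, hfm, hf⟩ := exists_mem_notMem_of_finite_lt m hfin
  have hstep : ∀ g ∈ G, ∃ t, t ∉ m ∧ ∃ n : ℕ, t * g ^ n ∈ Ideal.span {f} := by
    intro g hg
    by_contra hcon
    push Not at hcon
    have hdisj : Disjoint ((Ideal.span {f} : Ideal A) : Set A)
        ((m.primeCompl ⊔ Submonoid.powers g : Submonoid A) : Set A) := by
      rw [Set.disjoint_left]
      intro a ha hT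
      obtain ⟨t, ht, p, ⟨n, rfl⟩, rfl⟩ := Submonoid.mem_sup.mp hT
      exact hcon t ht n ha
    obtain ⟨P, hP, hfP, hPT⟩ := Ideal.exists_le_prime_disjoint _ _ hdisj
    have hPm : P ≤ m := by
      intro a ha
      by_contra ham
      exact Set.disjoint_left.mp hPT ha
        ((le_sup_left : m.primeCompl ≤ m.primeCompl ⊔ Submonoid.powers g) ham)
    have hgP : g ∉ P := fun hgP => Set.disjoint_left.mp hPT hgP
      ((le_sup_right : Submonoid.powers g ≤ m.primeCompl ⊔ Submonoid.powers g)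
        (Submonoid.mem_powers g))
    have hfP' : f ∈ P := hfP (Ideal.mem_span_singleton_self f)
    have hPeq : P = m := by
      by_contra hne
      exact hf ⟨P, hP⟩ (lt_of_le_of_ne hPm hne) hfP'
    exact hgP (hPeq ▸ hGm g hg)
  choose! t ht n hn using hstep
  refine ⟨f, hfm, ∏ g ∈ G, t g, ?_, ?_⟩
  · intro hprod
    obtain ⟨g, hg, hgm⟩ := (Ideal.IsPrime.prod_mem_iff (hp := inferInstance)).mp hprod
    exact ht g hg hgm
  · intro q htq hfq
    by_contra hne
    obtain ⟨g, hgG, hgq⟩ := hG q hne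
    have h1 : t g * g ^ n g ∈ q.asIdeal :=
      (Ideal.span_singleton_le_iff_mem (I := q.asIdeal)).mpr hfq (hn g hgG)
    rcases q.isPrime.mem_or_mem h1 with h2 | h2
    · exact htq (Ideal.mem_of_dvd _ (Finset.dvd_prod_of_mem t hgG) h2)
    · exact hgq (q.isPrime.mem_of_pow_mem _ h2)

end Alg

section Pts

variable {X : Scheme.{u}}

/-- the prime ideal of functions on `V` vanishing at `x` -/
noncomputable def ptIdeal (V : X.Opens) (x : X) (hx : x ∈ V) : Ideal Γ(X, V) :=
  (IsLocalRing.maximalIdeal (X.presheaf.stalk x)).comap (X.presheaf.germ V x hx).hom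

instance (V : X.Opens) (x : X) (hx : x ∈ V) : (ptIdeal V x hx).IsPrime :=
  Ideal.comap_isPrime _ _

theorem mem_ptIdeal_iff {V : X.Opens} {x : X} (hx : x ∈ V) (a : Γ(X, V)) :
    a ∈ ptIdeal V x hx ↔ x ∉ X.basicOpen a := by
  rw [Scheme.mem_basicOpen _ _ _ hx]
  exact Iff.rfl

theorem fromSpec_mem {V : X.Opens} (hV : IsAffineOpen V) (q : PrimeSpectrum Γ(X, V)) :
    hV.fromSpec q ∈ V := by
  have : hV.fromSpec q ∈ hV.fromSpec.opensRange := ⟨q, rfl⟩
  rwa [hV.opensRange_fromSpec] at this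

theorem ptIdeal_fromSpec {V : X.Opens} (hV : IsAffineOpen V) (q : PrimeSpectrum Γ(X, V)) :
    ptIdeal V (hV.fromSpec q) (fromSpec_mem hV q) = q.asIdeal := by
  ext a
  rw [mem_ptIdeal_iff]
  have h1 : hV.fromSpec q ∈ X.basicOpen a ↔ q ∈ hV.fromSpec ⁻¹ᵁ X.basicOpen a := Iff.rfl
  rw [h1, hV.fromSpec_preimage_basicOpen]
  exact not_not

theorem specializes_of_ptIdeal_le {V : X.Opens} (hV : IsAffineOpen V) {y x : X} (hy : y ∈ V)
    (hx : x ∈ V) (h : ptIdeal V y hy ≤ ptIdeal V x hx) : y ⤳ x := by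
  rw [specializes_iff_forall_open]
  intro O hO hxO
  obtain ⟨a, haO, hxa⟩ := hV.exists_basicOpen_le (V := ⟨O, hO⟩) ⟨x, hxO⟩ hx
  have h1 : a ∉ ptIdeal V y hy := fun h2 => (mem_ptIdeal_iff hx a).mp (h h2) hxa
  rw [mem_ptIdeal_iff, not_not] at h1
  exact haO h1

theorem ptIdeal_le_of_specializes {V : X.Opens} {y x : X} (h : y ⤳ x) (hx : x ∈ V) :
    ptIdeal V y (h.mem_open V.isOpen hx) ≤ ptIdeal V x hx := by
  intro a ha
  rw [mem_ptIdeal_iff] at ha ⊢
  exact fun hxa => ha (h.mem_open (X.basicOpen a).isOpen hxa)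

/-- in a Noetherian local ring of dimension at most one every non-maximal prime is minimal -/
theorem mem_minimalPrimes_of_ne_maximalIdeal {R : Type u} [CommRing R] [IsLocalRing R]
    (hd : ringKrullDim R ≤ 1) (P : Ideal R) [P.IsPrime] (hP : P ≠ IsLocalRing.maximalIdeal R) :
    P ∈ minimalPrimes R := by
  have hlt : P < IsLocalRing.maximalIdeal R :=
    lt_of_le_of_ne (IsLocalRing.le_maximalIdeal (Ideal.IsPrime.ne_top')) hP
  have h1 := Ideal.height_add_one_le_of_lt_of_isPrime hlt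
  have h2 : (IsLocalRing.maximalIdeal R).height ≤ 1 := by
    have h3 := IsLocalRing.maximalIdeal_height_eq_ringKrullDim (R := R)
    rw [← h3] at hd
    exact_mod_cast hd
  rw [← Ideal.height_eq_zero_iff]
  have h4 : P.height + 1 ≤ 1 := h1.trans h2
  by_contra h5
  have h6 : 1 ≤ P.height := Order.one_le_iff_pos.mpr (pos_iff_ne_zero.mpr h5)
  have h7 : (1 : ℕ∞) + 1 ≤ 1 := (add_le_add_left h6 1).trans h4
  exact absurd h7 (by decide)

/-- the proper generizations of a point whose local ring is Noetherian of dimension at most one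
form a finite set -/
theorem finite_generizations (x : X) [IsNoetherianRing (X.presheaf.stalk x)]
    (hd : ringKrullDim (X.presheaf.stalk x) ≤ 1) : {y : X | y ⤳ x ∧ y ≠ x}.Finite := by
  have hfin : {p : PrimeSpectrum (X.presheaf.stalk x) |
      p.asIdeal ∈ minimalPrimes (X.presheaf.stalk x)}.Finite := by
    apply Set.Finite.preimage (f := fun p : PrimeSpectrum (X.presheaf.stalk x) => p.asIdeal)
    · intro p _ p' _ h
      exact PrimeSpectrum.ext h
    · exact minimalPrimes.finite_of_isNoetherianRing _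
  refine (hfin.image (X.fromSpecStalk x)).subset ?_
  rintro y ⟨hyx, hne⟩
  have hy : y ∈ Set.range (X.fromSpecStalk x) := by
    rw [Scheme.range_fromSpecStalk]
    exact hyx
  obtain ⟨p, rfl⟩ := hy
  refine ⟨p, ?_, rfl⟩
  haveI := p.isPrime
  apply mem_minimalPrimes_of_ne_maximalIdeal hd
  intro hp
  apply hne
  have : p = IsLocalRing.closedPoint _ := PrimeSpectrum.ext hp
  rw [this]
  exact Scheme.fromSpecStalk_closedPoint

theorem ptIdeal_congr {V : X.Opens} {y x : X} (h : y = x) (hy : y ∈ V) (hx : x ∈ V) :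
    ptIdeal V y hy = ptIdeal V x hx := by
  subst h
  rfl

/-- **charts at the points of the discrete complement**: an affine neighbourhood `V` of `x`
meeting the complement of `U` only in `x`, with a function `f` on `V` such that `V ∩ U = D(f)` -/
theorem exists_chart (U : X.Opens) [QuasiCompact U.ι]
    (hdisc : DiscreteTopology ↥((U : Set X)ᶜ)) (x : X) (hx : x ∉ U)
    [IsNoetherianRing (X.presheaf.stalk x)] (hd : ringKrullDim (X.presheaf.stalk x) ≤ 1) :
    ∃ (V : X.Opens) (f : Γ(X, V)), IsAffineOpen V ∧ x ∈ V ∧ X.basicOpen f = V ⊓ U ∧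
      ∀ y ∈ V, y ∉ U → y = x := by
  classical
  -- an open neighbourhood meeting the complement only in `x`
  have h1 : IsOpen ({⟨x, hx⟩} : Set ↥((U : Set X)ᶜ)) := isOpen_discrete _
  obtain ⟨W', hW'o, hW'⟩ := isOpen_induced_iff.mp h1
  have hxW' : x ∈ W' := by
    have : (⟨x, hx⟩ : ↥((U : Set X)ᶜ)) ∈ Subtype.val ⁻¹' W' := by rw [hW']; rfl
    exact this
  have hW'x : ∀ y ∈ W', y ∉ U → y = x := by
    intro y hy hyU
    have : (⟨y, hyU⟩ : ↥((U : Set X)ᶜ)) ∈ Subtype.val ⁻¹' W' := hy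
    rw [hW'] at this
    exact congrArg Subtype.val this
  obtain ⟨_, ⟨V₀, hV₀ : IsAffineOpen V₀, rfl⟩, hxV₀, hle⟩ :=
    (X.isBasis_affineOpens).exists_subset_of_mem_open hxW' hW'o
  have hV₀x : ∀ y ∈ V₀, y ∉ U → y = x := fun y hy => hW'x y (hle hy)
  -- compactness of `V₀ ∩ U`
  have hK : IsCompact ((V₀ : Set X) ∩ (U : Set X)) := by
    have h2 : IsCompact (U.ι ⁻¹' (V₀ : Set X)) :=
      QuasiCompact.isCompact_preimage (f := U.ι) _ V₀.isOpen hV₀.isCompact
    have h3 := h2.image U.ι.continuous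
    rwa [Set.image_preimage_eq_inter_range, Scheme.Opens.range_ι] at h3
  -- a finite cover by basic opens
  obtain ⟨T, hT⟩ := hK.elim_finite_subcover
    (fun g : {g : Γ(X, V₀) // X.basicOpen g ≤ U} => ((X.basicOpen g.1 : X.Opens) : Set X))
    (fun g => (X.basicOpen g.1).isOpen) (by
      rintro y ⟨hyV, hyU⟩
      obtain ⟨g, hgU, hyg⟩ := hV₀.exists_basicOpen_le (V := U) ⟨y, hyU⟩ hyV
      exact Set.mem_iUnion.mpr ⟨⟨g, hgU⟩, hyg⟩)
  have hcov : ∀ y, y ∈ V₀ → y ∈ U → ∃ g ∈ T, y ∈ X.basicOpen g.1 := by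
    intro y hyV hyU
    have := hT ⟨hyV, hyU⟩
    simp only [Set.mem_iUnion] at this
    obtain ⟨g, hg, hyg⟩ := this
    exact ⟨g, hg, hyg⟩
  set m := ptIdeal V₀ x hxV₀ with hm
  have hfin : {q : PrimeSpectrum Γ(X, V₀) | q.asIdeal < m}.Finite := by
    refine ((finite_generizations x hd).preimage
      (hV₀.fromSpec.isOpenEmbedding.injective.injOn)).subset ?_
    intro (q : PrimeSpectrum Γ(X, V₀)) hq
    have hq' : q.asIdeal < m := hq
    refine ⟨?_, ?_⟩
    · apply specializes_of_ptIdeal_le hV₀ (fromSpec_mem hV₀ q) hxV₀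
      rw [ptIdeal_fromSpec]
      exact hq'.le
    · intro heq
      have := ptIdeal_congr heq (fromSpec_mem hV₀ q) hxV₀
      rw [ptIdeal_fromSpec] at this
      exact hq'.ne this
  have hGm : ∀ g ∈ T.image Subtype.val, g ∈ m := by
    intro g hg
    obtain ⟨g', -, rfl⟩ := Finset.mem_image.mp hg
    rw [hm, mem_ptIdeal_iff]
    exact fun hxg => hx (g'.2 hxg)
  have hG : ∀ q : PrimeSpectrum Γ(X, V₀), q.asIdeal ≠ m →
      ∃ g ∈ T.image Subtype.val, g ∉ q.asIdeal := by
    intro q hq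
    have hyV := fromSpec_mem hV₀ q
    have hne : hV₀.fromSpec q ≠ x := by
      intro heq
      have := ptIdeal_congr heq hyV hxV₀
      rw [ptIdeal_fromSpec] at this
      exact hq this
    have hyU : hV₀.fromSpec q ∈ U := by
      by_contra hyU
      exact hne (hV₀x _ hyV hyU)
    obtain ⟨g, hgT, hyg⟩ := hcov _ hyV hyU
    refine ⟨g.1, Finset.mem_image.mpr ⟨g, hgT, rfl⟩, ?_⟩
    rw [← ptIdeal_fromSpec hV₀ q, mem_ptIdeal_iff, not_not]
    exact hyg
  obtain ⟨f, hfm, t, htm, H⟩ := exists_f_t m hfin (T.image Subtype.val) hGm hG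
  have hxf : x ∉ X.basicOpen f := (mem_ptIdeal_iff hxV₀ f).mp hfm
  have hxt : x ∈ X.basicOpen t := by
    by_contra h
    exact htm ((mem_ptIdeal_iff hxV₀ t).mpr h)
  refine ⟨X.basicOpen t, (X.presheaf.map (homOfLE (X.basicOpen_le t)).op).hom f, hV₀.basicOpen t,
    hxt, ?_, fun y hy => hV₀x y (X.basicOpen_le t hy)⟩
  have hres : X.basicOpen ((X.presheaf.map (homOfLE (X.basicOpen_le t)).op).hom f) =
      X.basicOpen t ⊓ X.basicOpen f := Scheme.basicOpen_res X f (homOfLE (X.basicOpen_le t)).op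
  rw [hres]
  apply le_antisymm
  · rintro y ⟨hyt, hyf⟩
    refine ⟨hyt, ?_⟩
    by_contra hyU
    have := hV₀x y (X.basicOpen_le t hyt) hyU
    rw [this] at hyf
    exact hxf hyf
  · rintro y ⟨hyt, hyU⟩
    refine ⟨hyt, ?_⟩
    by_contra hyf
    have hyV : y ∈ V₀ := X.basicOpen_le t hyt
    have h5 : t ∉ ptIdeal V₀ y hyV := by
      rw [mem_ptIdeal_iff, not_not]
      exact hyt
    have h6 : f ∈ ptIdeal V₀ y hyV := (mem_ptIdeal_iff hyV f).mpr hyf
    have h7 : ptIdeal V₀ y hyV = m := H ⟨ptIdeal V₀ y hyV, inferInstance⟩ h5 h6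
    obtain ⟨g, hgT, hyg⟩ := hcov y hyV hyU
    have h8 : g.1 ∈ m := hGm g.1 (Finset.mem_image.mpr ⟨g, hgT, rfl⟩)
    rw [← h7, mem_ptIdeal_iff] at h8
    exact h8 hyg

end Pts

end OneDim9
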