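import Mathlib
import Groth.Prelude
import Groth.Agent.Lib.OneDim1_helper9
import Groth.Agent.Lib.ExtInv6_helper5
import Groth.Agent.Lib.Tens37_helper8

/-!
# Schemes whose complement of an open is discrete with Noetherian one-dimensional local rings, II:
the invertible module with a section cutting out `U`, and extension of invertible modules (helper9).
APPEND-ONLY once landed.
-/

set_option autoImplicit false
universe u
open CategoryTheory CategoryTheory.Limits AlgebraicGeometry Opposite TopologicalSpace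

namespace OneDim9

open QcqsLoc QCohExtn GenLocH8 TensH8 Groth.Agent.CocycMod

section Part1

variable {X : Scheme.{u}} (U : X.Opens)

/-- from charts `V x ∋ x` meeting the complement of `U` at most in `x`, with functions `f x` such
that `V x ∩ U = D(f x)`, one gets an invertible module with a section whose non-vanishing locus
is `U` -/
theorem exists_invertible_section_of_charts (V : X → X.Opens) (f : ∀ x, Γ(X, V x))
    (hxV : ∀ x, x ∈ V x) (hbo : ∀ x, X.basicOpen (f x) = V x ⊓ U)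
    (hpt : ∀ x, ∀ y ∈ V x, y ∉ U → y = x) :
    ∃ (L : X.Modules) (s : Coh.structureModule X ⟶ L),
      PicF.IsInvertible L ∧ CohB1.genLocus L s = U := by
  classical
  have hdisj : ∀ i j, i ≠ j → V i ⊓ V j ≤ U := by
    intro i j hij z hz
    by_contra hzU
    exact hij ((hpt i z hz.1 hzU).symm.trans (hpt j z hz.2 hzU))
  have hunit : ∀ i (W : X.Opens) (hW : W ≤ V i), W ≤ U → IsUnit (rX hW (f i)) := by
    intro i W hW hWU
    have hle : W ≤ X.basicOpen (f i) := by rw [hbo]; exact le_inf hW hWU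
    have h1 : IsUnit (rX (X.basicOpen_le (f i)) (f i)) :=
      X.toRingedSpace.isUnit_res_basicOpen (f i)
    have h2 : rX hW (f i) = rX hle (rX (X.basicOpen_le (f i)) (f i)) := (rX_rX _ _ _).symm
    rw [h2]
    exact h1.map _
  let η₀ : ∀ i j, Γ(X, V i ⊓ V j) := fun i j =>
    if h : i = j then 1
    else rX (inf_le_right : V i ⊓ V j ≤ V j) (f j) *
      Ring.inverse (rX (inf_le_left : V i ⊓ V j ≤ V i) (f i))
  have hkey : ∀ i j, η₀ i j * rX (inf_le_left : V i ⊓ V j ≤ V i) (f i) =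
      rX (inf_le_right : V i ⊓ V j ≤ V j) (f j) := by
    intro i j
    by_cases h : i = j
    · subst h
      simp only [η₀, dif_pos rfl, one_mul]
    · simp only [η₀, dif_neg h]
      rw [mul_assoc, Ring.inverse_mul_cancel _ (hunit i _ inf_le_left (hdisj i j h)), mul_one]
  have hη₀u : ∀ i j, IsUnit (η₀ i j) := by
    intro i j
    by_cases h : i = j
    · simp only [η₀, dif_pos h]
      exact isUnit_one
    · simp only [η₀, dif_neg h]
      exact (hunit j _ inf_le_right (hdisj i j h)).mul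
        (IsUnit.ringInverse (hunit i _ inf_le_left (hdisj i j h)))
  let η : ∀ i j, (Γ(X, V i ⊓ V j))ˣ := fun i j => (hη₀u i j).unit
  have hηval : ∀ i j, (η i j : Γ(X, V i ⊓ V j)) = η₀ i j := fun i j => IsUnit.unit_spec _
  have hcoc : Cocycle V η := by
    intro i j k
    show rX _ (η i k : Γ(X, V i ⊓ V k)) = rX _ (η i j : Γ(X, V i ⊓ V j)) *
      rX _ (η j k : Γ(X, V j ⊓ V k))
    rw [hηval, hηval, hηval]
    by_cases hall : i = j ∧ j = k
    · obtain ⟨rfl, rfl⟩ := hall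
      simp only [η₀, dif_pos rfl, map_one, mul_one]
    · have hT : V i ⊓ V j ⊓ V k ≤ U := by
        by_cases hij : i = j
        · have hjk : j ≠ k := fun h => hall ⟨hij, h⟩
          exact (inf_le_inf_right (V k) inf_le_right).trans (hdisj j k hjk)
        · exact inf_le_left.trans (hdisj i j hij)
      have hu := hunit i (V i ⊓ V j ⊓ V k) (inf_le_left.trans inf_le_left) hT
      apply hu.mul_right_cancel
      have e1 := congrArg (rX (inf_le_inf_right (V k) inf_le_left :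
        V i ⊓ V j ⊓ V k ≤ V i ⊓ V k)) (hkey i k)
      have e2 := congrArg (rX (inf_le_left : V i ⊓ V j ⊓ V k ≤ V i ⊓ V j)) (hkey i j)
      have e3 := congrArg (rX (inf_le_inf_right (V k) inf_le_right :
        V i ⊓ V j ⊓ V k ≤ V j ⊓ V k)) (hkey j k)
      rw [map_mul, rX_rX, rX_rX] at e1 e2 e3
      rw [e1, mul_comm (rX _ (η₀ i j)), mul_assoc, e2, e3]
  have hsup : iSup V = ⊤ := top_le_iff.mp (fun x _ => Opens.mem_iSup.mpr ⟨x, hxV x⟩)
  have hL : PicF.IsInvertible (Groth.Agent.CocycMod.L V η id hxV hcoc) :=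
    isInvertible_L V η id hxV hcoc hsup
  have hσ : ∀ i j, rF (Groth.Agent.CocycMod.L V η id hxV hcoc) (inf_le_left : V i ⊓ V j ≤ V i)
      (f i • sec V η id hxV hcoc i) =
      rF (Groth.Agent.CocycMod.L V η id hxV hcoc) (inf_le_right : V i ⊓ V j ≤ V j)
      (f j • sec V η id hxV hcoc j) := by
    intro i j
    rw [rF_smul, rF_smul, rF_sec V η id hxV hcoc i j, ← mul_smul, hηval, mul_comm, hkey]
  obtain ⟨τ, hτ⟩ := TensH8.glue (Groth.Agent.CocycMod.L V η id hxV hcoc) V ⊤ (fun _ => le_top)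
    (by rw [hsup]) (fun i => f i • sec V η id hxV hcoc i) hσ
  refine ⟨Groth.Agent.CocycMod.L V η id hxV hcoc, homOfSec _ τ, hL, ?_⟩
  have h1 : ∀ z, CohB1.genLocus _ (homOfSec (Groth.Agent.CocycMod.L V η id hxV hcoc) τ) ⊓ V z =
      X.basicOpen (f z) := fun z =>
    genLocus_inf_eq (homOfSec _ τ) (isGen_sec V η id hxV hcoc z) (f z)
      (by rw [val_homOfSec, hτ])
  apply le_antisymm
  · intro z hz
    have : z ∈ CohB1.genLocus _ (homOfSec (Groth.Agent.CocycMod.L V η id hxV hcoc) τ) ⊓ V z := ⟨hz, hxV z⟩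
    rw [h1, hbo] at this
    exact this.2
  · intro z hz
    have : z ∈ X.basicOpen (f z) := by rw [hbo]; exact ⟨hxV z, hz⟩
    rw [← h1] at this
    exact this.1

end Part1

section Part2

variable {X : Scheme.{u}} (U : X.Opens)

/-- near a point `x` of the complement with finitely many proper generizations, an invertible
module on `U` is trivial on the trace of a neighbourhood of `x` -/
theorem exists_triv_chart (N : (U : Scheme.{u}).Modules) (hN : PicF.IsInvertible N)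
    (x : X) (hx : x ∉ U) (hYfin : {y : X | y ⤳ x ∧ y ≠ x}.Finite)
    (V : X.Opens) (hV : IsAffineOpen V) (hxV : x ∈ V) (f : Γ(X, V))
    (hbo : X.basicOpen f = V ⊓ U) (hpt : ∀ y ∈ V, y ∉ U → y = x) :
    ∃ (V' : X.Opens) (e : Γ(N, U.ι ⁻¹ᵁ V')), x ∈ V' ∧ (∀ y ∈ V', y ∉ U → y = x) ∧
      IsGen N (U.ι ⁻¹ᵁ V') e := by
  have hD' : IsAffineOpen (U.ι ⁻¹ᵁ V) := by
    apply (U.ι.isAffineOpen_iff_of_isOpenImmersion).mp
    rw [Scheme.Hom.image_preimage_eq_opensRange_inf, Scheme.Opens.opensRange_ι, inf_comm, ← hbo]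
    exact hV.basicOpen f
  have hY'fin : (U.ι ⁻¹' {y : X | y ⤳ x ∧ y ≠ x}).Finite :=
    hYfin.preimage (U.ι.isOpenEmbedding.injective.injOn)
  have hY'D : U.ι ⁻¹' {y : X | y ⤳ x ∧ y ≠ x} ⊆ ((U.ι ⁻¹ᵁ V : (U : Scheme.{u}).Opens) : Set _) := by
    intro z hz
    exact hz.1.mem_open V.isOpen hxV
  obtain ⟨G, e, hYG, hGD, he⟩ := exists_isGen_of_finite hN _ hY'fin _ hD' hY'D
  -- the ideal of functions on `V` whose non-vanishing locus lies in the image of `G`
  let J : Ideal Γ(X, V) :=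
    { carrier := {a | X.basicOpen a ≤ U.ι ''ᵁ G}
      add_mem' := fun {a b} ha hb => (X.basicOpen_add_le a b).trans (sup_le ha hb)
      zero_mem' := by
        show X.basicOpen (0 : Γ(X, V)) ≤ U.ι ''ᵁ G
        rw [Scheme.basicOpen_zero]
        exact bot_le
      smul_mem' := fun c {a} ha => by
        show X.basicOpen (c * a) ≤ U.ι ''ᵁ G
        rw [Scheme.basicOpen_mul]
        exact inf_le_right.trans ha }
  have hJ : ∀ a, a ∈ J ↔ X.basicOpen a ≤ U.ι ''ᵁ G := fun a => Iff.rfl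
  set m := ptIdeal V x hxV with hm
  have hnd : ¬ Disjoint (J : Set Γ(X, V))
      ((m.primeCompl ⊔ Submonoid.powers f : Submonoid Γ(X, V)) : Set Γ(X, V)) := by
    intro hdisj
    obtain ⟨P, hP, hJP, hPT⟩ := Ideal.exists_le_prime_disjoint _ _ hdisj
    have hPm : P ≤ m := by
      intro a ha
      by_contra ham
      exact Set.disjoint_left.mp hPT ha
        ((le_sup_left : m.primeCompl ≤ m.primeCompl ⊔ Submonoid.powers f) ham)
    have hfP : f ∉ P := fun hfP => Set.disjoint_left.mp hPT hfP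
      ((le_sup_right : Submonoid.powers f ≤ m.primeCompl ⊔ Submonoid.powers f)
        (Submonoid.mem_powers f))
    have hyV := fromSpec_mem hV ⟨P, hP⟩
    have hpy : ptIdeal V (hV.fromSpec ⟨P, hP⟩) hyV = P := ptIdeal_fromSpec hV ⟨P, hP⟩
    have hspec : hV.fromSpec ⟨P, hP⟩ ⤳ x := by
      apply specializes_of_ptIdeal_le hV hyV hxV
      rw [hpy]
      exact hPm
    have hyf : hV.fromSpec ⟨P, hP⟩ ∈ X.basicOpen f := by
      by_contra h
      apply hfP
      rw [← hpy]
      exact (mem_ptIdeal_iff hyV f).mpr h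
    have hyU : hV.fromSpec ⟨P, hP⟩ ∈ U := by
      rw [hbo] at hyf
      exact hyf.2
    have hne : hV.fromSpec ⟨P, hP⟩ ≠ x := fun h => hx (h ▸ hyU)
    have hyG : hV.fromSpec ⟨P, hP⟩ ∈ U.ι ''ᵁ G :=
      ⟨⟨_, hyU⟩, hYG (show U.ι ⟨_, hyU⟩ ∈ {y : X | y ⤳ x ∧ y ≠ x} from ⟨hspec, hne⟩), rfl⟩
    obtain ⟨a, haG, hya⟩ := hV.exists_basicOpen_le (V := U.ι ''ᵁ G) ⟨_, hyG⟩ hyV
    have haP : a ∈ P := hJP ((hJ a).mpr haG)
    rw [← hpy, mem_ptIdeal_iff] at haP
    exact haP hya
  obtain ⟨j, hjJ, hjT⟩ := Set.not_disjoint_iff.mp hnd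
  obtain ⟨t, ht, p, ⟨n, rfl⟩, rfl⟩ := Submonoid.mem_sup.mp hjT
  have hxt : x ∈ X.basicOpen t := by
    by_contra h
    exact ht ((mem_ptIdeal_iff hxV t).mpr h)
  have hkey : X.basicOpen t ⊓ U ≤ U.ι ''ᵁ G := by
    rintro y ⟨hyt, hyU⟩
    have hyV : y ∈ V := X.basicOpen_le t hyt
    have hyf : y ∈ X.basicOpen f := by rw [hbo]; exact ⟨hyV, hyU⟩
    have hyfn : y ∈ X.basicOpen (f ^ n) := by
      rw [Scheme.mem_basicOpen _ _ _ hyV] at hyf ⊢
      rw [map_pow]
      exact hyf.pow n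
    have : y ∈ X.basicOpen (t * f ^ n) := by
      rw [Scheme.basicOpen_mul]
      exact ⟨hyt, hyfn⟩
    exact (hJ _).mp hjJ this
  have hle : U.ι ⁻¹ᵁ X.basicOpen t ≤ G := by
    intro z hz
    obtain ⟨w, hwG, hwz⟩ := hkey ⟨hz, z.2⟩
    have : w = z := U.ι.isOpenEmbedding.injective hwz
    exact this ▸ hwG
  exact ⟨X.basicOpen t, rF N hle e, hxt, fun y hy => hpt y (X.basicOpen_le t hy), he.res hle⟩

/-- extension of an invertible module from `U` to `X`, given trivialising charts at the points of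
the complement -/
theorem exists_extension (N : (U : Scheme.{u}).Modules) (hN : PicF.IsInvertible N)
    (hchart : ∀ x : X, x ∉ U → ∃ (V' : X.Opens) (e : Γ(N, U.ι ⁻¹ᵁ V')), x ∈ V' ∧
      (∀ y ∈ V', y ∉ U → y = x) ∧ IsGen N (U.ι ⁻¹ᵁ V') e) :
    ∃ L : X.Modules, PicF.IsInvertible L ∧ Nonempty (L.restrict U.ι ≅ N) := by
  have hall : ∀ z : X, ∃ (Vc : X.Opens) (e : Γ(N, U.ι ⁻¹ᵁ Vc)), z ∈ Vc ∧
      (∀ y ∈ Vc, y ∉ U → y = z) ∧ IsGen N (U.ι ⁻¹ᵁ Vc) e := by
    intro z
    by_cases hz : z ∈ U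
    · obtain ⟨W, -, hzW, e, he⟩ := exists_isGen hN ⟨z, hz⟩
      have hWW : U.ι ⁻¹ᵁ (U.ι ''ᵁ W) = W := Scheme.Hom.preimage_image_eq _ _
      refine ⟨U.ι ''ᵁ W, rF N (le_of_eq hWW) e, ⟨⟨z, hz⟩, hzW, rfl⟩, ?_, he.res _⟩
      rintro y ⟨w, -, rfl⟩ hyU
      exact absurd w.2 hyU
    · exact hchart z hz
  choose Vc e hzV hpt he using hall
  refine Groth.Agent.ExtInv.exists_extension_of_charts U N Vc e he ?_ (fun s => ⟨s, hzV s⟩)
  intro i j hij z hz
  by_contra hzU
  exact hij ((hpt i z hz.1 hzU).symm.trans (hpt j z hz.2 hzU))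

/-- **S7669** -/
theorem main7669 (X : Scheme.{u}) (U : X.Opens) [QuasiCompact U.ι]
    (hdisc : DiscreteTopology ↥((U : Set X)ᶜ))
    (hloc : ∀ x : X, x ∉ U → IsNoetherianRing (X.presheaf.stalk x) ∧
      ringKrullDim (X.presheaf.stalk x) ≤ 1) :
    (∃ (L : X.Modules) (s : Coh.structureModule X ⟶ L),
        PicF.IsInvertible L ∧ CohB1.genLocus L s = U) ∧
      ∀ N : (↑U : Scheme.{u}).Modules, PicF.IsInvertible N →
        ∃ L : X.Modules, PicF.IsInvertible L ∧ Nonempty (L.restrict U.ι ≅ N) := by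
  have hchart : ∀ x : X, ∃ (V : X.Opens) (f : Γ(X, V)), x ∈ V ∧ X.basicOpen f = V ⊓ U ∧
      (∀ y ∈ V, y ∉ U → y = x) := by
    intro x
    by_cases hx : x ∈ U
    · refine ⟨U, 1, hx, ?_, fun y hy hyU => absurd hy hyU⟩
      rw [Scheme.basicOpen_of_isUnit X isUnit_one, inf_idem]
    · haveI := (hloc x hx).1
      obtain ⟨V, f, -, hxV, hbo, hpt⟩ := exists_chart U hdisc x hx (hloc x hx).2
      exact ⟨V, f, hxV, hbo, hpt⟩
  constructor
  · choose V f hxV hbo hpt using hchart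
    exact exists_invertible_section_of_charts U V f hxV hbo hpt
  · intro N hN
    apply exists_extension U N hN
    intro x hx
    haveI := (hloc x hx).1
    obtain ⟨V, f, hV, hxV, hbo, hpt⟩ := exists_chart U hdisc x hx (hloc x hx).2
    exact exists_triv_chart U N hN x hx (finite_generizations x (hloc x hx).2) V hV hxV f hbo hpt

end Part2

end OneDim9
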