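import Mathlib
import Groth.Prelude
import Groth.Agent.Lib.OneDim2_helper9
import Groth.Agent.Lib.AmpleComp3_helper9
import Groth.Agent.Lib.NefTriv_helper9
import Groth.Agent.Lib.BirCurve1_helper9
import Groth.Agent.Lib.PnOver_helper5
import Groth.Agent.S1496

/-!
# Proper schemes of dimension at most one over a field are projective (helper9).
APPEND-ONLY once landed.
-/

set_option autoImplicit false
universe u
open CategoryTheory CategoryTheory.Limits AlgebraicGeometry Opposite TopologicalSpace

namespace OneDim9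

open QcqsLoc QCohExtn GenLocH8 TensH8

section Ample

variable (k : Type u) [Field k] (X : Scheme.{u}) [X.Over (Spec (CommRingCat.of k))]
  [IsProper (X ↘ Spec (CommRingCat.of k))]

include k in
/-- a proper scheme of dimension at most one over a field has an ample invertible module -/
theorem exists_isAmple (hdim : topologicalKrullDim X ≤ 1) : ∃ L : X.Modules, CohB1.IsAmple L := by
  haveI : IsLocallyNoetherian X :=
    LocallyOfFiniteType.isLocallyNoetherian (X ↘ Spec (CommRingCat.of k))
  haveI : CompactSpace X :=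
    QuasiCompact.compactSpace_of_compactSpace (X ↘ Spec (CommRingCat.of k))
  haveI : IsNoetherian X := {}
  rcases isEmpty_or_nonempty X with hemp | hnonempty
  · exact ⟨Coh.structureModule X, isAmple_structureModule_iff.mpr inferInstance⟩
  have hfin : (irreducibleComponents X).Finite := NoetherianSpace.finite_irreducibleComponents
  have hpt : ∀ C ∈ irreducibleComponents X, ∃ z ∈ C, IsClosed ({z} : Set X) := by
    intro C hC
    exact (isClosed_of_mem_irreducibleComponents C hC).exists_closed_singleton hC.1.nonempty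
  choose! z hzC hzcl using hpt
  have hZcl : IsClosed (⋃ C ∈ irreducibleComponents X, ({z C} : Set X)) :=
    hfin.isClosed_biUnion (fun C hC => hzcl C hC)
  have hZfin : (⋃ C ∈ irreducibleComponents X, ({z C} : Set X)).Finite :=
    hfin.biUnion (fun C _ => Set.finite_singleton _)
  obtain ⟨Z, hZ⟩ : ∃ Z : Set X, Z = ⋃ C ∈ irreducibleComponents X, ({z C} : Set X) := ⟨_, rfl⟩
  rw [← hZ] at hZcl hZfin
  have hZmem : ∀ p, p ∈ Z ↔ ∃ C ∈ irreducibleComponents X, p = z C := by
    intro p
    rw [hZ]
    simp only [Set.mem_iUnion, Set.mem_singleton_iff, exists_prop]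
  let U : X.Opens := ⟨Zᶜ, hZcl.isOpen_compl⟩
  have hUc : (U : Set X)ᶜ = Z := compl_compl Z
  have hdisc : DiscreteTopology ↥((U : Set X)ᶜ) := by
    rw [hUc]
    haveI : Finite ↥Z := hZfin.to_subtype
    haveI : T1Space ↥Z := ⟨fun p => by
      obtain ⟨C, hC, hp⟩ := (hZmem p.1).mp p.2
      have h1 : ({p} : Set ↥Z) = Subtype.val ⁻¹' ({p.1} : Set X) := by
        ext q
        simp only [Set.mem_singleton_iff, Set.mem_preimage]
        exact ⟨fun h => congrArg Subtype.val h, fun h => Subtype.ext h⟩
      rw [h1, hp]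
      exact (hzcl C hC).preimage continuous_subtype_val⟩
    infer_instance
  have hloc : ∀ x : X, x ∉ U → IsNoetherianRing (X.presheaf.stalk x) ∧
      ringKrullDim (X.presheaf.stalk x) ≤ 1 :=
    fun x _ => ⟨inferInstance, BirCurve.ringKrullDim_stalk_le hdim x⟩
  obtain ⟨⟨L, s, hL, hs⟩, -⟩ := main7669 X U hdisc hloc
  refine ⟨L, AmpleComp.isAmple_of_degPos k X hdim hL ?_⟩
  intro C hC hd
  by_contra hneg
  rw [not_lt] at hneg
  have hcl := isClosed_of_mem_irreducibleComponents C hC
  rcases NefTriv.subset_or_disjoint_genLocus k X hL s ⟨C, hcl⟩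
      (X.irreducibleComponentIdeal C hC).radical
      (by rw [← Scheme.IdealSheafData.vanishingIdeal_support]; congr 1) hC.1 hd hneg with h | h
  · have h1 : z C ∈ (CohB1.genLocus L s : Set X) := h (hzC C hC)
    rw [hs] at h1
    exact h1 ((hZmem _).mpr ⟨C, hC, rfl⟩)
  · have hirr : IsIrreducible C := hC.1
    obtain ⟨η, hηdef⟩ : ∃ η : X, η = hirr.genericPoint := ⟨_, rfl⟩
    have hcl_eq : closure ({η} : Set X) = C := by
      rw [hηdef]
      exact hirr.closure_genericPoint hcl
    have hη : η ∈ C := by
      have h0 : η ∈ closure ({η} : Set X) := subset_closure (Set.mem_singleton η)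
      rwa [hcl_eq] at h0
    have hηU : η ∈ (CohB1.genLocus L s : Set X) := by
      rw [hs]
      intro hηZ
      obtain ⟨C', hC', hp⟩ := (hZmem _).mp hηZ
      have h2 : C = {η} := by
        rw [← hcl_eq, hp]
        exact (hzcl C' hC').closure_eq
      haveI : Subsingleton ↥C := by
        rw [h2]
        infer_instance
      have h3 : topologicalKrullDim ↥C ≤ 0 := topologicalKrullDim_zero_of_discreteTopology _
      rw [hd] at h3
      exact absurd h3 (by decide)
    exact Set.disjoint_left.mp h hη hηU

end Ample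

section Proj

variable (k : Type u) [Field k] (X : Scheme.{u}) [X.Over (Spec (CommRingCat.of k))]
  [IsProper (X ↘ Spec (CommRingCat.of k))]

open Groth.Agent.PnOver Groth.Agent.ProjBCn CohB1 in
/-- **S7645** -/
theorem main7645 (hdim : topologicalKrullDim X ≤ 1) :
    ∃ (n : ℕ) (i : X ⟶ CohB1.ProjSpace n k), IsClosedImmersion i ∧
      i ≫ CohB1.ProjSpace.toSpec n k = X ↘ (Spec (CommRingCat.of k)) := by
  obtain ⟨L, hL⟩ := exists_isAmple k X hdim
  have hS : ∃ N : (Spec (CommRingCat.of k)).Modules, CohB1.IsAmple N :=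
    ⟨Coh.structureModule _, isAmple_structureModule_iff.mpr inferInstance⟩
  obtain ⟨n, i, hi, hif⟩ : ∃ (n : ℕ) (i : X ⟶ pullback (ProjSpace.toSpec n (ULift.{u} ℤ))
      (specULiftZIsTerminal.from (Spec (CommRingCat.of k)))), IsClosedImmersion i ∧
      i ≫ pullback.snd (ProjSpace.toSpec n (ULift.{u} ℤ))
        (specULiftZIsTerminal.from (Spec (CommRingCat.of k))) = X ↘ Spec (CommRingCat.of k) :=
    (Groth.Agent.S1496.result hS (X ↘ Spec (CommRingCat.of k))).1.mpr ⟨inferInstance, L, hL⟩
  have h1 : specULiftZIsTerminal.from (Spec (CommRingCat.of k)) =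
      Spec.map (CommRingCat.ofHom (zHom k)) := specULiftZIsTerminal.hom_ext _ _
  have hpb : IsPullback (projMapH n (zHom k)) (ProjSpace.toSpec n k)
      (ProjSpace.toSpec n (ULift.{u} ℤ)) (specULiftZIsTerminal.from (Spec (CommRingCat.of k))) := by
    rw [h1]
    exact isPullback_projMapH n (zHom k)
  haveI := hi
  refine ⟨n, i ≫ hpb.isoPullback.inv, inferInstance, ?_⟩
  rw [Category.assoc, hpb.isoPullback_inv_snd]
  exact hif

end Proj

end OneDim9
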