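import Mathlib
import Groth.Prelude

/-!
# The Picard group of the standard affine charts of projective space over a UFD (helper5).
APPEND-ONLY once landed.

`A = R[T_0, …, T_n]` graded by degree, `x = T_i`.  The degree-zero part `A_(x)` of `A_x` is a
retract of `A_x` (dehomogenization), so `Pic A_(x)` embeds into `Pic A_x`, which is trivial when
`R` is a UFD.
-/

set_option autoImplicit false
universe u
open MvPolynomial HomogeneousLocalization

noncomputable section

namespace Groth.Agent.PicPn

variable (n : ℕ) (R : Type u) [CommRing R] (i : Fin (n + 1))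

/-- The localization `A_x`, `x = T_i`. -/
abbrev LocX : Type u := Localization (Submonoid.powers (X i : MvPolynomial (Fin (n + 1)) R))

/-- `x^k` as an element of the submonoid of powers. -/
abbrev xpow (k : ℕ) : Submonoid.powers (X i : MvPolynomial (Fin (n + 1)) R) := ⟨X i ^ k, ⟨k, rfl⟩⟩

theorem X_mem (j : Fin (n + 1)) :
    (X j : MvPolynomial (Fin (n + 1)) R) ∈ CohB1.polyGrading n R 1 :=
  isHomogeneous_X R j

theorem X_mem' (j : Fin (n + 1)) :
    (X j : MvPolynomial (Fin (n + 1)) R) ∈ CohB1.polyGrading n R (1 • 1) := by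
  rw [smul_eq_mul, mul_one]
  exact X_mem n R j

/-- Dehomogenization `T_j ↦ T_j / T_i`. -/
def ev : MvPolynomial (Fin (n + 1)) R →+* Away (CohB1.polyGrading n R) (X i) :=
  eval₂Hom ((fromZeroRingHom (CohB1.polyGrading n R) (Submonoid.powers (X i))).comp
      (algebraMap R (CohB1.polyGrading n R 0)))
    (fun j => Away.mk (CohB1.polyGrading n R) (X_mem n R i) 1 (X j) (X_mem' n R j))

theorem val_ev_X (j : Fin (n + 1)) :
    (ev n R i (X j)).val = Localization.mk (X j) (xpow n R i 1) := by
  unfold ev
  rw [eval₂Hom_X']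
  rfl

theorem val_ev_C (r : R) :
    (ev n R i (C r)).val =
      algebraMap (MvPolynomial (Fin (n + 1)) R) (LocX n R i) (C r) := by
  unfold ev
  rw [eval₂Hom_C]
  exact Localization.mk_one_eq_algebraMap _

theorem val_ev_mul_X_aux (m : MvPolynomial (Fin (n + 1)) R)
    (hm' : m ∈ Submodule.span R (Set.range (X : Fin (n + 1) → MvPolynomial (Fin (n + 1)) R))) :
    (ev n R i m).val * algebraMap (MvPolynomial (Fin (n + 1)) R) (LocX n R i) (X i) =
      algebraMap (MvPolynomial (Fin (n + 1)) R) (LocX n R i) m := by
  induction hm' using Submodule.span_induction with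
  | mem y hy =>
    obtain ⟨j, rfl⟩ := hy
    rw [val_ev_X, ← Localization.mk_one_eq_algebraMap, ← Localization.mk_one_eq_algebraMap,
      Localization.mk_mul, Localization.mk_eq_mk_iff, Localization.r_iff_exists]
    exact ⟨1, by simp only [OneMemClass.coe_one, one_mul, mul_one, pow_one]; ring⟩
  | zero => simp
  | add y z _ _ hy hz => rw [map_add, val_add, add_mul, hy, hz, map_add]
  | smul r y _ hy =>
    rw [Algebra.smul_def, map_mul, val_mul, mul_assoc, hy, map_mul, MvPolynomial.algebraMap_eq,
      val_ev_C]

theorem val_ev_mul_X (m : MvPolynomial (Fin (n + 1)) R) (hm : m ∈ CohB1.polyGrading n R 1) :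
    (ev n R i m).val * algebraMap (MvPolynomial (Fin (n + 1)) R) (LocX n R i) (X i) =
      algebraMap (MvPolynomial (Fin (n + 1)) R) (LocX n R i) m := by
  apply val_ev_mul_X_aux
  rw [← homogeneousSubmodule_one_eq_span_X]
  exact hm

theorem val_ev_mul_pow_aux (k : ℕ) (a : MvPolynomial (Fin (n + 1)) R)
    (ha' : a ∈ (homogeneousSubmodule (Fin (n + 1)) R 1) ^ k) :
    (ev n R i a).val * algebraMap (MvPolynomial (Fin (n + 1)) R) (LocX n R i) (X i ^ k) =
      algebraMap (MvPolynomial (Fin (n + 1)) R) (LocX n R i) a := by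
  induction ha' using Submodule.pow_induction_on_left' with
  | algebraMap r =>
    rw [pow_zero, map_one, mul_one, MvPolynomial.algebraMap_eq, val_ev_C]
  | add y z k _ _ hy hz => rw [map_add, val_add, add_mul, hy, hz, map_add]
  | mem_mul m hm k y _ hy =>
    have h1 := val_ev_mul_X n R i m hm
    rw [map_mul, val_mul, pow_succ, map_mul, map_mul, ← hy, ← h1]
    ring

theorem val_ev_mul_pow (k : ℕ) (a : MvPolynomial (Fin (n + 1)) R)
    (ha : a ∈ CohB1.polyGrading n R k) :
    (ev n R i a).val * algebraMap (MvPolynomial (Fin (n + 1)) R) (LocX n R i) (X i ^ k) =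
      algebraMap (MvPolynomial (Fin (n + 1)) R) (LocX n R i) a := by
  apply val_ev_mul_pow_aux
  rw [homogeneousSubmodule_one_pow]
  exact ha

theorem val_ev (k : ℕ) (a : MvPolynomial (Fin (n + 1)) R) (ha : a ∈ CohB1.polyGrading n R k) :
    (ev n R i a).val = Localization.mk a (xpow n R i k) := by
  rw [Localization.mk_eq_mk', IsLocalization.eq_mk'_iff_mul_eq]
  exact val_ev_mul_pow n R i k a ha

theorem ev_X_self : ev n R i (X i) = 1 := by
  apply val_injective
  rw [val_ev_X, val_one]
  have h := Localization.mk_self (xpow n R i 1)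
  simp only [pow_one] at h
  exact h

/-- The retraction `A_x ⟶ A_(x)`. -/
def retr : LocX n R i →+*
    Away (CohB1.polyGrading n R) (X i) :=
  IsLocalization.Away.lift (X i) (g := ev n R i) (by rw [ev_X_self]; exact isUnit_one)

theorem retr_val (z : Away (CohB1.polyGrading n R) (X i)) : retr n R i z.val = z := by
  obtain ⟨k, a, ha, rfl⟩ := Away.mk_surjective (CohB1.polyGrading n R) (X_mem n R i) z
  have ha' : a ∈ CohB1.polyGrading n R k := by
    rwa [smul_eq_mul, mul_one] at ha
  rw [Away.val_mk, Localization.mk_eq_mk']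
  unfold retr IsLocalization.Away.lift
  rw [IsLocalization.lift_mk'_spec]
  simp only
  rw [map_pow, ev_X_self, one_pow, one_mul]
  apply val_injective
  rw [val_ev n R i k a ha', Away.val_mk]

theorem retr_comp :
    (retr n R i).comp (algebraMap (Away (CohB1.polyGrading n R) (X i)) (LocX n R i)) =
      RingHom.id _ :=
  RingHom.ext fun z => retr_val n R i z

/-- **The Picard group of the chart `D_+(T_i)` of projective space over a UFD is trivial.** -/
theorem subsingleton_pic_away [IsDomain R] [UniqueFactorizationMonoid R] :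
    Subsingleton (CommRing.Pic (Away (CohB1.polyGrading n R) (X i))) := by
  haveI : IsDomain (LocX n R i) :=
    IsLocalization.isDomain_localization
      (powers_le_nonZeroDivisors_of_noZeroDivisors (X_ne_zero i))
  haveI : UniqueFactorizationMonoid (LocX n R i) :=
    UniqueFactorizationMonoid.of_isLocalization
      (Submonoid.powers (X i : MvPolynomial (Fin (n + 1)) R)) _
  haveI : Subsingleton (CommRing.Pic (LocX n R i)) := inferInstance
  have hcomp := CommRing.Pic.mapRingHom_comp_mapRingHom (g := retr n R i)
    (f := algebraMap (Away (CohB1.polyGrading n R) (X i)) (LocX n R i))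
  rw [retr_comp, CommRing.Pic.mapRingHom_id] at hcomp
  constructor
  intro a b
  have h1 := DFunLike.congr_fun hcomp a
  have h2 := DFunLike.congr_fun hcomp b
  rw [MonoidHom.comp_apply, MonoidHom.id_apply] at h1 h2
  rw [← h1, ← h2]
  exact congrArg _ (Subsingleton.elim _ _)

end Groth.Agent.PicPn
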