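import Mathlib
import Groth.Prelude.Def_CohB1
import Groth.Agent.Lib.PicPn1_helper5
import Groth.Agent.Lib.ProjGamma_helper5

/-!
# The standard charts of the projective line are polynomial rings (lead)
APPEND-ONLY once landed.

`B_i = (k[X₀, X₁]_{X_i})₀ ≃ k[T]`, `T ↦ X_j / X_i`.
-/

set_option autoImplicit false
set_option linter.unusedSimpArgs false
set_option linter.unusedVariables false
set_option linter.unusedSectionVars false
set_option linter.style.longLine false
set_option linter.unnecessarySimpa false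
set_option linter.deprecated false
set_option maxHeartbeats 1600000
set_option backward.isDefEq.respectTransparency false
set_option backward.isDefEq.respectTransparency.types false
set_option backward.defeqAttrib.useBackward true

universe u

noncomputable section

namespace Groth.Agent.Lib.P1CurveL

open MvPolynomial HomogeneousLocalization CohB1

variable (k : Type u) [Field k] (i j : Fin (1 + 1))

/-- Dehomogenisation at `X i`: `X i ↦ 1`, the other variable `↦ T`. -/
def dehom : MvPolynomial (Fin (1 + 1)) k →+* Polynomial k :=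
  MvPolynomial.eval₂Hom (Polynomial.C : k →+* Polynomial k)
    (fun l => if l = i then (1 : Polynomial k) else Polynomial.X)

theorem dehom_C (c : k) : dehom k i (C c) = Polynomial.C c := by
  unfold dehom
  rw [MvPolynomial.eval₂Hom_C]

theorem dehom_X_self : dehom k i (X i) = 1 := by
  unfold dehom
  rw [MvPolynomial.eval₂Hom_X', if_pos rfl]

theorem dehom_X_of_ne {l : Fin (1 + 1)} (h : l ≠ i) : dehom k i (X l) = Polynomial.X := by
  unfold dehom
  rw [MvPolynomial.eval₂Hom_X', if_neg h]

/-- The chart ring `(k[X₀,X₁]_{X_i})₀`. -/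
abbrev Bi : Type u := Away (polyGrading 1 k) (X i : MvPolynomial (Fin (1 + 1)) k)

/-- `B_i → k[T]`, `a / X_i^m ↦ a(X_i = 1, X_j = T)`. -/
def bwd : Bi k i →+* Polynomial k :=
  (IsLocalization.Away.lift (X i : MvPolynomial (Fin (1 + 1)) k) (g := dehom k i)
      (by rw [dehom_X_self]; exact isUnit_one)).comp
    (algebraMap (Bi k i) (Localization.Away (X i : MvPolynomial (Fin (1 + 1)) k)))

theorem bwd_mk (m : ℕ) (a : MvPolynomial (Fin (1 + 1)) k) (ha : a ∈ polyGrading 1 k (m • 1)) :
    bwd k i (Away.mk (polyGrading 1 k) (Groth.Agent.PicPn.X_mem 1 k i) m a ha) = dehom k i a := by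
  unfold bwd
  rw [RingHom.comp_apply, HomogeneousLocalization.algebraMap_apply, Away.val_mk,
    Localization.mk_eq_mk']
  unfold IsLocalization.Away.lift
  rw [IsLocalization.lift_mk'_spec]
  simp only
  rw [map_pow, dehom_X_self, one_pow, one_mul]

/-- the coordinate `X_j / X_i`. -/
def tt : Bi k i :=
  Away.mk (polyGrading 1 k) (Groth.Agent.PicPn.X_mem 1 k i) 1 (X j)
    (Groth.Agent.PicPn.X_mem' 1 k j)

/-- the constants `k → B_i`. -/
abbrev cst : k →+* Bi k i := Groth.Agent.ProjGamma5.ψ (n := 1) (R := k) i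

theorem bwd_cst (c : k) : bwd k i (cst k i c) = Polynomial.C c := by
  unfold bwd
  rw [RingHom.comp_apply, HomogeneousLocalization.algebraMap_apply]
  have h : (cst k i c).val = algebraMap _ _ (C c : MvPolynomial (Fin (1 + 1)) k) := by
    simp only [cst, Groth.Agent.ProjGamma5.ψ, RingHom.comp_apply, fromZeroRingHom, RingHom.coe_mk,
      MonoidHom.coe_mk, OneHom.coe_mk, HomogeneousLocalization.val_mk]
    exact Localization.mk_one_eq_algebraMap (C c)
  rw [h, IsLocalization.Away.lift_eq, dehom_C]

/-- `k[T] → B_i`, `T ↦ X_j / X_i`. -/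
def fwd : Polynomial k →+* Bi k i :=
  Polynomial.eval₂RingHom (cst k i) (tt k i j)

theorem fwd_C (c : k) : fwd k i j (Polynomial.C c) = cst k i c := by
  unfold fwd
  rw [Polynomial.coe_eval₂RingHom, Polynomial.eval₂_C]

theorem fwd_X : fwd k i j Polynomial.X = tt k i j := by
  unfold fwd
  rw [Polynomial.coe_eval₂RingHom, Polynomial.eval₂_X]

theorem bwd_tt (hij : j ≠ i) : bwd k i (tt k i j) = Polynomial.X := by
  unfold tt
  rw [bwd_mk, dehom_X_of_ne k i hij]

theorem bwd_fwd (hij : j ≠ i) (p : Polynomial k) : bwd k i (fwd k i j p) = p := by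
  have h : (bwd k i).comp (fwd k i j) = RingHom.id _ := by
    apply Polynomial.ringHom_ext
    · intro c
      rw [RingHom.comp_apply, fwd_C, bwd_cst, RingHom.id_apply]
    · rw [RingHom.comp_apply, fwd_X, RingHom.id_apply, bwd_tt k i j hij]
  exact RingHom.congr_fun h p

theorem ev_eq (hij : j ≠ i) :
    Groth.Agent.PicPn.ev 1 k i = (fwd k i j).comp (dehom k i) := by
  apply MvPolynomial.ringHom_ext
  · intro c
    rw [RingHom.comp_apply, dehom_C, fwd_C]
    unfold Groth.Agent.PicPn.ev
    rw [MvPolynomial.eval₂Hom_C]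
    rfl
  · intro l
    rw [RingHom.comp_apply]
    by_cases hl : l = i
    · rw [hl, Groth.Agent.PicPn.ev_X_self, dehom_X_self, map_one]
    · have hlj : l = j :=
        (by decide : ∀ a b c : Fin (1 + 1), c ≠ b → a ≠ b → a = c) l i j hij hl
      rw [hlj, dehom_X_of_ne k i hij, fwd_X]
      unfold Groth.Agent.PicPn.ev tt
      rw [MvPolynomial.eval₂Hom_X']

theorem ev_surjective : Function.Surjective (Groth.Agent.PicPn.ev 1 k i) := by
  intro z
  obtain ⟨m, a, ha, rfl⟩ :=
    Away.mk_surjective (polyGrading 1 k) (Groth.Agent.PicPn.X_mem 1 k i) z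
  have ha' : a ∈ polyGrading 1 k m := by rwa [smul_eq_mul, mul_one] at ha
  refine ⟨a, ?_⟩
  apply val_injective
  rw [Groth.Agent.PicPn.val_ev 1 k i m a ha', Away.val_mk]

theorem fwd_surjective (hij : j ≠ i) : Function.Surjective (fwd k i j) := by
  intro z
  obtain ⟨a, rfl⟩ := ev_surjective k i z
  exact ⟨dehom k i a, by rw [ev_eq k i j hij]; rfl⟩

theorem exists_other : ∃ j : Fin (1 + 1), j ≠ i := by
  revert i
  decide

theorem bwd_injective : Function.Injective (bwd k i) := by
  obtain ⟨j, hij⟩ := exists_other i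
  intro z z' h
  obtain ⟨p, rfl⟩ := fwd_surjective k i j hij z
  obtain ⟨p', rfl⟩ := fwd_surjective k i j hij z'
  rw [bwd_fwd k i j hij, bwd_fwd k i j hij] at h
  rw [h]

theorem bwd_surjective : Function.Surjective (bwd k i) := by
  obtain ⟨j, hij⟩ := exists_other i
  intro p
  exact ⟨fwd k i j p, bwd_fwd k i j hij p⟩

/-- `B_i ≃ k[T]`. -/
def chartEquiv : Bi k i ≃+* Polynomial k :=
  RingEquiv.ofBijective (bwd k i) ⟨bwd_injective k i, bwd_surjective k i⟩

@[simp] theorem chartEquiv_apply (z : Bi k i) : chartEquiv k i z = bwd k i z := rfl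

theorem chartEquiv_cst (c : k) : chartEquiv k i (cst k i c) = Polynomial.C c := bwd_cst k i c

theorem isDomain_Bi : IsDomain (Bi k i) :=
  Function.Injective.isDomain (bwd k i) (bwd_injective k i)

theorem isPrincipalIdealRing_Bi : IsPrincipalIdealRing (Bi k i) :=
  IsPrincipalIdealRing.of_surjective (chartEquiv k i).symm.toRingHom
    (chartEquiv k i).symm.surjective

theorem not_isField_Bi : ¬ IsField (Bi k i) := fun h =>
  Polynomial.not_isField k ((chartEquiv k i).symm.toMulEquiv.isField h)

end Groth.Agent.Lib.P1CurveL
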