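import Mathlib
import Groth.Prelude
import Groth.Agent.Lib.P1Chart_lead
import Groth.Agent.Lib.ProjNull_helper3
import Groth.Agent.Lib.ProjSpaceProper_helper4

/-!
# The projective line over a field: integral, proper, a curve; charts (lead)
APPEND-ONLY once landed.
-/

set_option autoImplicit false
set_option linter.unusedSimpArgs false
set_option linter.unusedVariables false
set_option linter.unusedSectionVars false
set_option linter.style.longLine false
set_option linter.unnecessarySimpa false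
set_option linter.deprecated false
set_option maxHeartbeats 1600000
set_option backward.isDefEq.respectTransparency false
set_option backward.isDefEq.respectTransparency.types false
set_option backward.defeqAttrib.useBackward true

universe u

noncomputable section

namespace Groth.Agent.Lib.P1CurveL

open CategoryTheory CategoryTheory.Limits AlgebraicGeometry TopologicalSpace Opposite
open MvPolynomial HomogeneousLocalization CohB1

/-- For an open immersion `f`, restriction to the image followed by `appIso ⊤` is `f.appTop`. -/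
theorem res_appIso_top {X Y : Scheme.{u}} (f : Y ⟶ X) [IsOpenImmersion f] :
    X.presheaf.map (homOfLE (le_top : f ''ᵁ ⊤ ≤ ⊤)).op ≫ (f.appIso ⊤).hom = f.appTop := by
  rw [Scheme.Hom.appIso_hom', Scheme.Hom.map_appLE]
  exact Scheme.Hom.appLE_eq_app f

variable (k : Type u) [Field k]

theorem X_mem_irrelevant (i : Fin (1 + 1)) :
    (X i : MvPolynomial (Fin (1 + 1)) k) ∈
      (HomogeneousIdeal.irrelevant (polyGrading 1 k)).toIdeal := by
  change X i ∈ HomogeneousIdeal.irrelevant (polyGrading 1 k)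
  rw [HomogeneousIdeal.mem_irrelevant_iff, GradedRing.proj_apply]
  exact DirectSum.decompose_of_mem_ne (polyGrading 1 k)
    ((MvPolynomial.mem_homogeneousSubmodule 1 _).mpr (MvPolynomial.isHomogeneous_X k i))
    one_ne_zero

instance isIntegral_PP : IsIntegral (ProjSpace 1 k) := by
  refine (Groth.Agent.Lib.ProjNull_helper3.proj_isIntegral_iff (polyGrading 1 k)
    (fun f _ hf => hf.eq_zero)).mpr
    ⟨⟨X 0, X_mem_irrelevant k 0, MvPolynomial.X_ne_zero 0⟩,
      fun f _ g _ h => mul_eq_zero.mp h⟩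

instance isProper_PP : IsProper (ProjSpace 1 k ↘ Spec (CommRingCat.of k)) :=
  Groth.Agent.Lib.ProjSpaceProperH4.isProper_toSpec 1 k

/-- the `i`-th standard chart `Spec B_i ⟶ P¹`. -/
abbrev ιc (i : Fin (1 + 1)) : Spec (CommRingCat.of (Bi k i)) ⟶ ProjSpace 1 k :=
  Groth.Agent.ProjGamma5.ι 1 k i

instance (i : Fin (1 + 1)) : IsOpenImmersion (ιc k i) :=
  inferInstanceAs (IsOpenImmersion (Proj.awayι (polyGrading 1 k)
    (X i : MvPolynomial (Fin (1 + 1)) k) (Groth.Agent.ProjGamma5.X_mem 1 k i) one_pos))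

theorem exists_mem_range (x : ProjSpace 1 k) : ∃ i : Fin (1 + 1), x ∈ Set.range (ιc k i) := by
  have hcov := Proj.iSup_basicOpen_eq_top (𝒜 := polyGrading 1 k)
    (fun i : Fin (1 + 1) => (X i : MvPolynomial (Fin (1 + 1)) k))
    (Groth.Agent.ProjGamma5.irrelevant_le_span 1 k)
  have hx : x ∈ (⨆ i : Fin (1 + 1), Proj.basicOpen (polyGrading 1 k)
      (X i : MvPolynomial (Fin (1 + 1)) k)) := by
    rw [hcov]; trivial
  obtain ⟨i, hi⟩ := Opens.mem_iSup.mp hx
  refine ⟨i, ?_⟩
  rw [← Proj.opensRange_awayι (polyGrading 1 k) (X i) (Groth.Agent.ProjGamma5.X_mem 1 k i)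
    one_pos] at hi
  exact hi

/-- the `i`-th standard affine open of `P¹`. -/
def Uc (i : Fin (1 + 1)) : (ProjSpace 1 k).Opens := (ιc k i) ''ᵁ ⊤

theorem mem_Uc_iff (i : Fin (1 + 1)) (x : ProjSpace 1 k) :
    x ∈ Uc k i ↔ x ∈ Set.range (ιc k i) := by
  unfold Uc
  rw [Scheme.Hom.image_top_eq_opensRange]
  rfl

theorem isAffineOpen_Uc (i : Fin (1 + 1)) : IsAffineOpen (Uc k i) :=
  (isAffineOpen_top (Spec (CommRingCat.of (Bi k i)))).image_of_isOpenImmersion (ιc k i)

instance nonempty_Uc (i : Fin (1 + 1)) : Nonempty (Uc k i) := by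
  haveI : Nontrivial (Bi k i) := (isDomain_Bi k i).toNontrivial
  obtain ⟨pt⟩ := (inferInstance : Nonempty (PrimeSpectrum (Bi k i)))
  exact ⟨⟨ιc k i pt, (mem_Uc_iff k i _).mpr ⟨pt, rfl⟩⟩⟩

/-- `Γ(P¹, U_i) ≃ B_i`. -/
def θc (i : Fin (1 + 1)) : Γ(ProjSpace 1 k, Uc k i) ≃+* Bi k i :=
  ((ιc k i).appIso ⊤ ≪≫ Scheme.ΓSpecIso (CommRingCat.of (Bi k i))).commRingCatIsoToRingEquiv

/-- `Γ(P¹, U_i) ≃ k[T]`. -/
def Θc (i : Fin (1 + 1)) : Γ(ProjSpace 1 k, Uc k i) ≃+* Polynomial k :=
  (θc k i).trans (chartEquiv k i)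

theorem θc_res (i : Fin (1 + 1)) (s : Γ(ProjSpace 1 k, ⊤)) :
    θc k i ((ProjSpace 1 k).presheaf.map (homOfLE (le_top : Uc k i ≤ ⊤)).op s) =
      Groth.Agent.ProjGamma5.ρ 1 k i s := by
  have h := res_appIso_top (ιc k i)
  have h2 := congrArg (fun m => (Scheme.ΓSpecIso (CommRingCat.of (Bi k i))).hom.hom (m.hom s)) h
  exact h2

theorem Θc_toGlobal (i : Fin (1 + 1)) (c : k) :
    Θc k i ((ProjSpace 1 k).presheaf.map (homOfLE (le_top : Uc k i ≤ ⊤)).op
      ((ProjSpace.toSpec 1 k).appTop.hom ((Scheme.ΓSpecIso (CommRingCat.of k)).inv.hom c))) =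
      Polynomial.C c := by
  show chartEquiv k i (θc k i _) = _
  rw [θc_res, Groth.Agent.ProjGamma5.ρ_toSpec]
  have h1 : (Scheme.ΓSpecIso (CommRingCat.of k)).hom.hom
      ((Scheme.ΓSpecIso (CommRingCat.of k)).inv.hom c) = c :=
    congrArg (fun f => f.hom c) (Scheme.ΓSpecIso (CommRingCat.of k)).inv_hom_id
  rw [h1]
  exact chartEquiv_cst k i c

theorem isPrincipalIdealRing_sections (i : Fin (1 + 1)) :
    IsPrincipalIdealRing Γ(ProjSpace 1 k, Uc k i) :=
  IsPrincipalIdealRing.of_surjective (Θc k i).symm.toRingHom (Θc k i).symm.surjective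

theorem not_isField_sections (i : Fin (1 + 1)) : ¬ IsField Γ(ProjSpace 1 k, Uc k i) := fun h =>
  Polynomial.not_isField k ((Θc k i).symm.toMulEquiv.isField h)

/-- Closed points of `P¹` have one-dimensional local rings. -/
theorem stalk_dim (x : ProjSpace 1 k) (hx : IsClosed ({x} : Set (ProjSpace 1 k))) :
    ringKrullDim ((ProjSpace 1 k).presheaf.stalk x) = 1 := by
  obtain ⟨i, hi⟩ := exists_mem_range k x
  have hxU : x ∈ Uc k i := (mem_Uc_iff k i x).mpr hi
  have hU := isAffineOpen_Uc k i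
  have hmax := hU.primeIdealOf_isMaximal_of_isClosed ⟨x, hxU⟩ hx
  haveI hpid := isPrincipalIdealRing_sections k i
  have hne : (hU.primeIdealOf ⟨x, hxU⟩).asIdeal ≠ ⊥ :=
    Ring.ne_bot_of_isMaximal_of_not_isField hmax (not_isField_sections k i)
  letI := TopCat.Presheaf.algebra_section_stalk (ProjSpace 1 k).presheaf ⟨x, hxU⟩
  haveI := hU.isLocalization_stalk ⟨x, hxU⟩
  haveI : IsDiscreteValuationRing ((ProjSpace 1 k).presheaf.stalk x) :=
    IsLocalization.AtPrime.isDiscreteValuationRing_of_dedekind_domain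
      Γ(ProjSpace 1 k, Uc k i) hne _
  exact IsDiscreteValuationRing.ringKrullDim_eq_one _

end Groth.Agent.Lib.P1CurveL
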