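import Mathlib
import Groth.Prelude
import Groth.Agent.Lib.P1Curve1_lead
import Groth.Agent.Lib.NormCurveK_helper4

/-!
# A function field of transcendence degree one as a finite extension of `k(P¹)` (lead)
APPEND-ONLY once landed.
-/

set_option autoImplicit false
set_option linter.unusedSimpArgs false
set_option linter.unusedVariables false
set_option linter.unusedSectionVars false
set_option linter.style.longLine false
set_option linter.unnecessarySimpa false
set_option linter.deprecated false
set_option maxHeartbeats 1600000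
set_option backward.isDefEq.respectTransparency false
set_option backward.isDefEq.respectTransparency.types false
set_option backward.defeqAttrib.useBackward true

universe u

noncomputable section

namespace Groth.Agent.Lib.P1CurveL

open CategoryTheory CategoryTheory.Limits AlgebraicGeometry TopologicalSpace Opposite
open MvPolynomial HomogeneousLocalization CohB1

variable (k : Type u) [Field k] (K : Type u) [Field K] [Algebra k K]

theorem exists_transcendental (htr : Algebra.trdeg k K = 1) : ∃ t : K, Transcendental k t := by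
  have h : Algebra.trdeg k K ≠ 0 := by
    rw [htr]
    exact one_ne_zero
  rw [trdeg_ne_zero_iff] at h
  exact h.transcendental

/-- `K` is algebraic over `k[T]` via `T ↦ t`. -/
theorem isAlgebraic_aeval (htr : Algebra.trdeg k K = 1) (t : K) (ht : Transcendental k t) :
    letI := (Polynomial.aeval (R := k) t).toRingHom.toAlgebra
    Algebra.IsAlgebraic (Polynomial k) K := by
  letI algPK : Algebra (Polynomial k) K := (Polynomial.aeval (R := k) t).toRingHom.toAlgebra
  haveI : IsScalarTower k (Polynomial k) K := IsScalarTower.of_algebraMap_eq (fun c => by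
    show algebraMap k K c = Polynomial.aeval t (Polynomial.C c)
    rw [Polynomial.aeval_C])
  have hinj : Function.Injective (algebraMap (Polynomial k) K) :=
    transcendental_iff_injective.mp ht
  haveI : FaithfulSMul (Polynomial k) K := (faithfulSMul_iff_algebraMap_injective _ _).mpr hinj
  have h := trdeg_add_eq k (Polynomial k) (A := K)
  rw [Polynomial.trdeg_of_isDomain, htr] at h
  have h0 : Algebra.trdeg (Polynomial k) K = 0 := by
    have hlt : Algebra.trdeg (Polynomial k) K < Cardinal.aleph0 := by
      have h1 : Algebra.trdeg (Polynomial k) K ≤ 1 :=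
        calc Algebra.trdeg (Polynomial k) K ≤ 1 + Algebra.trdeg (Polynomial k) K := le_add_self
          _ = 1 := h
      exact h1.trans_lt Cardinal.one_lt_aleph0
    obtain ⟨n, hn⟩ := Cardinal.lt_aleph0.mp hlt
    rw [hn] at h ⊢
    have h' : (1 + n : ℕ) = 1 := by exact_mod_cast h
    have hn0 : n = 0 := by omega
    rw [hn0]
    simp
  exact trdeg_eq_zero_iff.mp h0

variable (t : K)

theorem generic_mem_Uc (i : Fin (1 + 1)) : genericPoint (ProjSpace 1 k) ∈ Uc k i := by
  obtain ⟨⟨x, hx⟩⟩ := nonempty_Uc k i
  exact (genericPoint_specializes x).mem_open (Uc k i).2 hx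

/-- `Γ(P¹, U₀) → K`, `X₁/X₀ ↦ t`. -/
def ρK : Γ(ProjSpace 1 k, Uc k 0) →+* K :=
  (Polynomial.aeval (R := k) t).toRingHom.comp (Θc k 0).toRingHom

theorem ρK_apply (a : Γ(ProjSpace 1 k, Uc k 0)) :
    ρK k K t a = Polynomial.aeval t (Θc k 0 a) := rfl

variable {k K t}

theorem ρK_injective (ht : Transcendental k t) : Function.Injective (ρK k K t) := by
  intro a b hab
  rw [ρK_apply, ρK_apply] at hab
  exact (Θc k 0).injective (transcendental_iff_injective.mp ht hab)

variable (k K t)

/-- the embedding of the function field of `P¹` into `K`. -/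
def φK (ht : Transcendental k t) : (ProjSpace 1 k).functionField →+* K :=
  haveI := functionField_isFractionRing_of_isAffineOpen (ProjSpace 1 k) (Uc k 0)
    (isAffineOpen_Uc k 0)
  IsFractionRing.lift (ρK_injective ht)

theorem φK_algebraMap (ht : Transcendental k t) (a : Γ(ProjSpace 1 k, Uc k 0)) :
    φK k K t ht (algebraMap Γ(ProjSpace 1 k, Uc k 0) (ProjSpace 1 k).functionField a) =
      ρK k K t a := by
  haveI := functionField_isFractionRing_of_isAffineOpen (ProjSpace 1 k) (Uc k 0)
    (isAffineOpen_Uc k 0)
  exact IsFractionRing.lift_algebraMap (ρK_injective ht) a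

theorem φK_germ (ht : Transcendental k t) (a : Γ(ProjSpace 1 k, Uc k 0)) :
    φK k K t ht (((ProjSpace 1 k).presheaf.germ (Uc k 0) (genericPoint (ProjSpace 1 k))
      (generic_mem_Uc k 0)).hom a) = ρK k K t a :=
  φK_algebraMap k K t ht a

theorem φK_stalkMap (ht : Transcendental k t) (c : k) :
    φK k K t ht (Curv2.stalkMap k (ProjSpace 1 k) (genericPoint (ProjSpace 1 k)) c) =
      algebraMap k K c := by
  have h1 : Curv2.stalkMap k (ProjSpace 1 k) (genericPoint (ProjSpace 1 k)) c =
      ((ProjSpace 1 k).presheaf.germ (Uc k 0) (genericPoint (ProjSpace 1 k))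
        (generic_mem_Uc k 0)).hom
        ((ProjSpace 1 k).presheaf.map (homOfLE (le_top : Uc k 0 ≤ ⊤)).op
          ((ProjSpace.toSpec 1 k).appTop.hom
            ((Scheme.ΓSpecIso (CommRingCat.of k)).inv.hom c))) :=
    (TopCat.Presheaf.germ_res_apply (ProjSpace 1 k).presheaf (homOfLE (le_top : Uc k 0 ≤ ⊤))
      (genericPoint (ProjSpace 1 k)) (generic_mem_Uc k 0) _).symm
  rw [h1, φK_germ, ρK_apply, Θc_toGlobal, Polynomial.aeval_C]

/-- the morphism `Spec K ⟶ P¹` through the generic point. -/
def gK (ht : Transcendental k t) : Spec (CommRingCat.of K) ⟶ ProjSpace 1 k :=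
  Spec.map (CommRingCat.ofHom (φK k K t ht)) ≫
    (ProjSpace 1 k).fromSpecStalk (genericPoint (ProjSpace 1 k))

instance (ht : Transcendental k t) : QuasiCompact (gK k K t ht) := inferInstance

instance (ht : Transcendental k t) : QuasiSeparated (gK k K t ht) := inferInstance

theorem gK_toSpec (ht : Transcendental k t) :
    gK k K t ht ≫ ProjSpace.toSpec 1 k = Spec.map (CommRingCat.ofHom (algebraMap k K)) := by
  apply ext_of_isAffine
  rw [Scheme.Hom.comp_appTop]
  have hform := Groth.Agent.Lib.NormCurveKH4.app_formula K (φK k K t ht) (⊤ : (ProjSpace 1 k).Opens)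
    (trivial : genericPoint (ProjSpace 1 k) ∈ (⊤ : (ProjSpace 1 k).Opens))
  have hres : (Spec (CommRingCat.of K)).presheaf.map (homOfLE (le_top :
      (Spec.map (CommRingCat.ofHom (φK k K t ht)) ≫
        (ProjSpace 1 k).fromSpecStalk (genericPoint (ProjSpace 1 k))) ⁻¹ᵁ ⊤ ≤ ⊤)).op = 𝟙 _ :=
    (Spec (CommRingCat.of K)).presheaf.map_id _
  rw [hres, Category.comp_id] at hform
  have hnat := Scheme.ΓSpecIso_inv_naturality (CommRingCat.ofHom (algebraMap k K))
  apply CommRingCat.hom_ext
  apply RingHom.ext
  intro r
  have hr : (Scheme.ΓSpecIso (CommRingCat.of k)).inv.hom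
      ((Scheme.ΓSpecIso (CommRingCat.of k)).hom.hom r) = r :=
    congrArg (fun f => f.hom r) (Scheme.ΓSpecIso (CommRingCat.of k)).hom_inv_id
  have h2 := congrArg (fun m => m.hom ((Scheme.ΓSpecIso (CommRingCat.of k)).hom.hom r)) hnat
  have h3 := congrArg (fun m => m.hom ((ProjSpace.toSpec 1 k).appTop.hom r)) hform
  have h4 := φK_stalkMap k K t ht ((Scheme.ΓSpecIso (CommRingCat.of k)).hom.hom r)
  have h5 : Curv2.stalkMap k (ProjSpace 1 k) (genericPoint (ProjSpace 1 k))
      ((Scheme.ΓSpecIso (CommRingCat.of k)).hom.hom r) =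
      ((ProjSpace 1 k).presheaf.germ ⊤ (genericPoint (ProjSpace 1 k)) trivial).hom
        ((ProjSpace.toSpec 1 k).appTop.hom r) := by
    show ((ProjSpace 1 k).presheaf.germ ⊤ (genericPoint (ProjSpace 1 k)) trivial).hom
      ((ProjSpace.toSpec 1 k).appTop.hom ((Scheme.ΓSpecIso (CommRingCat.of k)).inv.hom
        ((Scheme.ΓSpecIso (CommRingCat.of k)).hom.hom r))) = _
    rw [hr]
  rw [h5] at h4
  show (gK k K t ht).appTop.hom ((ProjSpace.toSpec 1 k).appTop.hom r) =
    (Spec.map (CommRingCat.ofHom (algebraMap k K))).appTop.hom r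
  refine h3.trans ?_
  show (Scheme.ΓSpecIso (CommRingCat.of K)).inv.hom (φK k K t ht
    (((ProjSpace 1 k).presheaf.germ ⊤ (genericPoint (ProjSpace 1 k)) trivial).hom
      ((ProjSpace.toSpec 1 k).appTop.hom r))) = _
  rw [h4]
  refine h2.trans ?_
  show (Spec.map (CommRingCat.ofHom (algebraMap k K))).appTop.hom
    ((Scheme.ΓSpecIso (CommRingCat.of k)).inv.hom
      ((Scheme.ΓSpecIso (CommRingCat.of k)).hom.hom r)) = _
  rw [hr]

theorem φK_finite (hfg : (⊤ : IntermediateField k K).FG) (htr : Algebra.trdeg k K = 1)
    (ht : Transcendental k t) : (φK k K t ht).Finite := by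
  classical
  letI algPK : Algebra (Polynomial k) K := (Polynomial.aeval (R := k) t).toRingHom.toAlgebra
  haveI halg : Algebra.IsAlgebraic (Polynomial k) K := isAlgebraic_aeval k K htr t ht
  letI algFK : Algebra (ProjSpace 1 k).functionField K := (φK k K t ht).toAlgebra
  letI algPF : Algebra (Polynomial k) (ProjSpace 1 k).functionField :=
    ((algebraMap Γ(ProjSpace 1 k, Uc k 0) (ProjSpace 1 k).functionField).comp
      (Θc k 0).symm.toRingHom).toAlgebra
  haveI : IsScalarTower (Polynomial k) (ProjSpace 1 k).functionField K :=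
    IsScalarTower.of_algebraMap_eq (fun p => by
      show Polynomial.aeval t p = φK k K t ht (algebraMap Γ(ProjSpace 1 k, Uc k 0)
        (ProjSpace 1 k).functionField ((Θc k 0).symm p))
      rw [φK_algebraMap, ρK_apply, RingEquiv.apply_symm_apply])
  have hinjPF : Function.Injective
      (algebraMap (Polynomial k) (ProjSpace 1 k).functionField) := by
    haveI := functionField_isFractionRing_of_isAffineOpen (ProjSpace 1 k) (Uc k 0)
      (isAffineOpen_Uc k 0)
    exact (IsFractionRing.injective Γ(ProjSpace 1 k, Uc k 0)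
      (ProjSpace 1 k).functionField).comp (Θc k 0).symm.injective
  haveI : Algebra.IsAlgebraic (ProjSpace 1 k).functionField K :=
    Algebra.IsAlgebraic.extendScalars hinjPF
  letI algkF : Algebra k (ProjSpace 1 k).functionField :=
    Curv2.stalkAlgebra k (ProjSpace 1 k) (genericPoint (ProjSpace 1 k))
  haveI : IsScalarTower k (ProjSpace 1 k).functionField K :=
    IsScalarTower.of_algebraMap_eq (fun c => (φK_stalkMap k K t ht c).symm)
  obtain ⟨s, hs⟩ := hfg
  have hmem : ∀ x : K,
      x ∈ IntermediateField.adjoin (ProjSpace 1 k).functionField (s : Set K) := by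
    intro x
    have hx : x ∈ IntermediateField.adjoin k (s : Set K) := by
      rw [hs]
      trivial
    have hle : IntermediateField.adjoin k (s : Set K) ≤
        (IntermediateField.adjoin (ProjSpace 1 k).functionField (s : Set K)).restrictScalars k := by
      rw [IntermediateField.adjoin_le_iff]
      exact IntermediateField.subset_adjoin _ _
    exact hle hx
  haveI : FiniteDimensional (ProjSpace 1 k).functionField
      (IntermediateField.adjoin (ProjSpace 1 k).functionField (s : Set K)) :=
    IntermediateField.finiteDimensional_adjoin (fun x _ => Algebra.IsIntegral.isIntegral x)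
  exact Module.Finite.of_surjective
    (IntermediateField.adjoin (ProjSpace 1 k).functionField (s : Set K)).val.toLinearMap
    (fun x => ⟨⟨x, hmem x⟩, rfl⟩)

end Groth.Agent.Lib.P1CurveL
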