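import Mathlib
import Groth.Prelude
import Groth.Agent.Lib.P1Curve2_lead

/-!
# The normal proper curve with a given function field (lead)
APPEND-ONLY once landed.
-/

set_option autoImplicit false
set_option linter.unusedSimpArgs false
set_option linter.unusedVariables false
set_option linter.unusedSectionVars false
set_option linter.style.longLine false
set_option linter.unnecessarySimpa false
set_option linter.deprecated false
set_option maxHeartbeats 1600000
set_option backward.isDefEq.respectTransparency false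
set_option backward.isDefEq.respectTransparency.types false
set_option backward.defeqAttrib.useBackward true

universe u

noncomputable section

namespace Groth.Agent.Lib.P1CurveL

open CategoryTheory CategoryTheory.Limits AlgebraicGeometry TopologicalSpace Opposite
open MvPolynomial HomogeneousLocalization CohB1

attribute [local instance] Curv2.stalkAlgebra

/-- If `κ : C → K` is injective with image containing the integral closure of `A` in the
algebraic extension `K`, then `Frac C → K` is bijective. -/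
theorem bijective_lift_of_integralClosure {A C F' K : Type*} [CommRing A] [IsDomain A] [Field K]
    [Algebra A K] [Algebra.IsAlgebraic A K] (hinjA : Function.Injective (algebraMap A K))
    [CommRing C] [IsDomain C] [Field F'] [Algebra C F'] [IsFractionRing C F']
    (κ : C →+* K) (hκ : Function.Injective κ)
    (hint : ∀ z : K, IsIntegral A z → z ∈ Set.range κ) :
    Function.Bijective (IsFractionRing.lift hκ : F' →+* K) := by
  refine ⟨(IsFractionRing.lift hκ : F' →+* K).injective, fun z => ?_⟩
  obtain ⟨y, hy0, hyint⟩ := (Algebra.IsAlgebraic.isAlgebraic (R := A) z).exists_integral_multiple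
  obtain ⟨c₁, hc₁⟩ := hint _ hyint
  obtain ⟨c₂, hc₂⟩ := hint _ (isIntegral_algebraMap (x := y))
  have hy' : algebraMap A K y ≠ 0 := fun h => hy0 (hinjA (h.trans (map_zero _).symm))
  refine ⟨algebraMap C F' c₁ / algebraMap C F' c₂, ?_⟩
  rw [map_div₀, IsFractionRing.lift_algebraMap, IsFractionRing.lift_algebraMap, hc₁, hc₂,
    Algebra.smul_def, mul_div_cancel_left₀ _ hy']

variable (k : Type u) [Field k] (K : Type u) [Field K] [Algebra k K] (t : K)

/-- The function field of the normalization of `P¹` in `K` is `K`, compatibly with `k`. -/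
theorem exists_functionField_equiv (htr : Algebra.trdeg k K = 1) (ht : Transcendental k t) :
    ∃ e : (gK k K t ht).normalization.presheaf.stalk
        (genericPoint (gK k K t ht).normalization) ≃+* K,
      ∀ c : k, e (@Curv2.stalkMap k _ (gK k K t ht).normalization
        ⟨(gK k K t ht).fromNormalization ≫ ProjSpace.toSpec 1 k⟩
        (genericPoint (gK k K t ht).normalization) c) = algebraMap k K c := by
  classical
  have hU := isAffineOpen_Uc k 0
  have hη := generic_mem_Uc k 0
  have htop : (⊤ : (Spec (CommRingCat.of K)).Opens) ≤ (gK k K t ht) ⁻¹ᵁ (Uc k 0) := by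
    intro p _
    have h0 : (ProjSpace 1 k).fromSpecStalk (genericPoint (ProjSpace 1 k))
        ((Spec.map (CommRingCat.ofHom (φK k K t ht))) p) ∈
        Set.range ((ProjSpace 1 k).fromSpecStalk (genericPoint (ProjSpace 1 k))) := ⟨_, rfl⟩
    rw [Scheme.range_fromSpecStalk] at h0
    exact (h0 : _ ⤳ _).mem_open (Uc k 0).2 hη
  have hV : IsAffineOpen ((gK k K t ht).fromNormalization ⁻¹ᵁ (Uc k 0)) :=
    hU.preimage (gK k K t ht).fromNormalization
  obtain ⟨pt⟩ := (inferInstance : Nonempty (Spec (CommRingCat.of K)))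
  have hpt : (gK k K t ht).fromNormalization ((gK k K t ht).toNormalization pt) =
      (gK k K t ht) pt :=
    congrArg (fun f : Spec (CommRingCat.of K) ⟶ ProjSpace 1 k => f pt)
      (gK k K t ht).toNormalization_fromNormalization
  haveI hneV : Nonempty ((gK k K t ht).fromNormalization ⁻¹ᵁ (Uc k 0) :
      (gK k K t ht).normalization.Opens) := by
    refine ⟨⟨(gK k K t ht).toNormalization pt, ?_⟩⟩
    show (gK k K t ht).fromNormalization ((gK k K t ht).toNormalization pt) ∈ Uc k 0
    rw [hpt]
    exact htop (Set.mem_univ pt)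
  -- the ring `L = Γ(Spec K, g⁻¹ U₀) ≃ K`
  let r : K →+* Γ(Spec (CommRingCat.of K), (gK k K t ht) ⁻¹ᵁ (Uc k 0)) :=
    ((Spec (CommRingCat.of K)).presheaf.map (homOfLE (le_top :
      (gK k K t ht) ⁻¹ᵁ (Uc k 0) ≤ ⊤)).op).hom.comp (Scheme.ΓSpecIso (CommRingCat.of K)).inv.hom
  have hr : Function.Bijective r :=
    (Groth.Agent.Lib.NormJapaneseH4.res_bijective_of_eq (Spec (CommRingCat.of K))
      (le_top : (gK k K t ht) ⁻¹ᵁ (Uc k 0) ≤ ⊤) htop).comp
      (ConcreteCategory.bijective_of_isIso (Scheme.ΓSpecIso (CommRingCat.of K)).inv)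
  have hform : ∀ a : Γ(ProjSpace 1 k, Uc k 0),
      ((gK k K t ht).app (Uc k 0)).hom a = r (ρK k K t a) := by
    intro a
    have h1 := congrArg (fun m => m.hom a)
      (Groth.Agent.Lib.NormCurveKH4.app_formula K (φK k K t ht) (Uc k 0) hη)
    rw [← φK_germ k K t ht a]
    exact h1
  letI algAL : Algebra Γ(ProjSpace 1 k, Uc k 0)
      Γ(Spec (CommRingCat.of K), (gK k K t ht) ⁻¹ᵁ (Uc k 0)) :=
    ((gK k K t ht).app (Uc k 0)).hom.toAlgebra
  have hval := (gK k K t ht).normalizationObjIso_hom_val hU
  -- `κL : Γ(X', V) → L`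
  let κL : Γ((gK k K t ht).normalization, (gK k K t ht).fromNormalization ⁻¹ᵁ (Uc k 0)) →+*
      Γ(Spec (CommRingCat.of K), (gK k K t ht) ⁻¹ᵁ (Uc k 0)) :=
    (integralClosure Γ(ProjSpace 1 k, Uc k 0)
      Γ(Spec (CommRingCat.of K), (gK k K t ht) ⁻¹ᵁ (Uc k 0))).val.toRingHom.comp
      ((gK k K t ht).normalizationObjIso hU).hom.hom
  have hκL_inj : Function.Injective κL :=
    Subtype.val_injective.comp
      (ConcreteCategory.bijective_of_isIso ((gK k K t ht).normalizationObjIso hU).hom).1
  have hκL_range : ∀ l : Γ(Spec (CommRingCat.of K), (gK k K t ht) ⁻¹ᵁ (Uc k 0)),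
      IsIntegral Γ(ProjSpace 1 k, Uc k 0) l → l ∈ Set.range κL := by
    intro l hl
    refine ⟨((gK k K t ht).normalizationObjIso hU).inv.hom ⟨l, hl⟩, ?_⟩
    have h1 : ((gK k K t ht).normalizationObjIso hU).hom.hom
        (((gK k K t ht).normalizationObjIso hU).inv.hom ⟨l, hl⟩) = ⟨l, hl⟩ :=
      congrArg (fun f => f.hom ⟨l, hl⟩) ((gK k K t ht).normalizationObjIso hU).inv_hom_id
    show ((((gK k K t ht).normalizationObjIso hU).hom.hom
        (((gK k K t ht).normalizationObjIso hU).inv.hom ⟨l, hl⟩) :
          integralClosure Γ(ProjSpace 1 k, Uc k 0)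
            Γ(Spec (CommRingCat.of K), (gK k K t ht) ⁻¹ᵁ (Uc k 0))) :
        Γ(Spec (CommRingCat.of K), (gK k K t ht) ⁻¹ᵁ (Uc k 0))) = l
    rw [h1]
  let rE : K ≃+* Γ(Spec (CommRingCat.of K), (gK k K t ht) ⁻¹ᵁ (Uc k 0)) :=
    RingEquiv.ofBijective r hr
  let κ : Γ((gK k K t ht).normalization, (gK k K t ht).fromNormalization ⁻¹ᵁ (Uc k 0)) →+* K :=
    rE.symm.toRingHom.comp κL
  have hκ_inj : Function.Injective κ := rE.symm.injective.comp hκL_inj
  letI algAK : Algebra Γ(ProjSpace 1 k, Uc k 0) K := (ρK k K t).toAlgebra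
  haveI halgAK : Algebra.IsAlgebraic Γ(ProjSpace 1 k, Uc k 0) K := by
    letI algPK : Algebra (Polynomial k) K := (Polynomial.aeval (R := k) t).toRingHom.toAlgebra
    haveI := isAlgebraic_aeval k K htr t ht
    exact Algebra.IsAlgebraic.of_ringHom_of_comp_eq (Θc k 0).toRingHom (RingHom.id K)
      (Θc k 0).surjective Function.injective_id (by ext a; rfl)
  have hint : ∀ z : K, IsIntegral Γ(ProjSpace 1 k, Uc k 0) z → z ∈ Set.range κ := by
    intro z hz
    have h1 : IsIntegral Γ(ProjSpace 1 k, Uc k 0) (r z) :=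
      IsIntegral.map_of_comp_eq (RingHom.id Γ(ProjSpace 1 k, Uc k 0)) r
        (by ext a; exact hform a) hz
    obtain ⟨c, hc⟩ := hκL_range _ h1
    refine ⟨c, ?_⟩
    show rE.symm (κL c) = z
    rw [hc]
    exact rE.symm_apply_apply z
  haveI := functionField_isFractionRing_of_isAffineOpen (gK k K t ht).normalization
    ((gK k K t ht).fromNormalization ⁻¹ᵁ (Uc k 0)) hV
  have hbij := bijective_lift_of_integralClosure (A := Γ(ProjSpace 1 k, Uc k 0))
    (F' := (gK k K t ht).normalization.functionField) (ρK_injective ht) κ hκ_inj hint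
  refine ⟨RingEquiv.ofBijective (IsFractionRing.lift hκ_inj) hbij, fun c => ?_⟩
  -- compatibility with `k`
  letI ovX : (gK k K t ht).normalization.Over (Spec (CommRingCat.of k)) :=
    ⟨(gK k K t ht).fromNormalization ≫ ProjSpace.toSpec 1 k⟩
  have hη' : genericPoint (gK k K t ht).normalization ∈
      (gK k K t ht).fromNormalization ⁻¹ᵁ (Uc k 0) := by
    obtain ⟨⟨x, hx⟩⟩ := hneV
    exact (genericPoint_specializes x).mem_open
      ((gK k K t ht).fromNormalization ⁻¹ᵁ (Uc k 0)).2 hx
  -- the global section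
  set s' : Γ((gK k K t ht).normalization, ⊤) :=
    ((gK k K t ht).fromNormalization ≫ ProjSpace.toSpec 1 k).appTop.hom
      ((Scheme.ΓSpecIso (CommRingCat.of k)).inv.hom c) with hs'
  have h1 : Curv2.stalkMap k (gK k K t ht).normalization
      (genericPoint (gK k K t ht).normalization) c =
      algebraMap Γ((gK k K t ht).normalization, (gK k K t ht).fromNormalization ⁻¹ᵁ (Uc k 0))
        (gK k K t ht).normalization.functionField
        ((gK k K t ht).normalization.presheaf.map (homOfLE (le_top :
          (gK k K t ht).fromNormalization ⁻¹ᵁ (Uc k 0) ≤ ⊤)).op s') :=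
    (TopCat.Presheaf.germ_res_apply (gK k K t ht).normalization.presheaf
      (homOfLE (le_top : (gK k K t ht).fromNormalization ⁻¹ᵁ (Uc k 0) ≤ ⊤))
      (genericPoint (gK k K t ht).normalization) hη' s').symm
  show (IsFractionRing.lift hκ_inj) (Curv2.stalkMap k (gK k K t ht).normalization
      (genericPoint (gK k K t ht).normalization) c) = algebraMap k K c
  rw [h1, IsFractionRing.lift_algebraMap]
  show rE.symm (κL _) = algebraMap k K c
  -- compute `κL (res s')`
  have hA : κL ((gK k K t ht).normalization.presheaf.map (homOfLE (le_top :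
      (gK k K t ht).fromNormalization ⁻¹ᵁ (Uc k 0) ≤ ⊤)).op s') =
      ((gK k K t ht).toNormalization.appLE ⊤ ((gK k K t ht) ⁻¹ᵁ (Uc k 0)) le_top).hom s' := by
    have h2 := congrArg (fun m => m.hom ((gK k K t ht).normalization.presheaf.map (homOfLE (le_top :
      (gK k K t ht).fromNormalization ⁻¹ᵁ (Uc k 0) ≤ ⊤)).op s')) hval
    have h3 := congrArg (fun m => m.hom s')
      (Scheme.Hom.map_appLE (gK k K t ht).toNormalization
        (U := (gK k K t ht).fromNormalization ⁻¹ᵁ (Uc k 0)) (U' := ⊤)
        (V := (gK k K t ht) ⁻¹ᵁ (Uc k 0))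
        (by simp [← Scheme.Hom.comp_preimage])
        (homOfLE (le_top : (gK k K t ht).fromNormalization ⁻¹ᵁ (Uc k 0) ≤ ⊤)).op)
    exact h2.trans h3
  have hB : ((gK k K t ht).toNormalization.appLE ⊤ ((gK k K t ht) ⁻¹ᵁ (Uc k 0)) le_top).hom s' =
      r (algebraMap k K c) := by
    have h4 : (gK k K t ht).toNormalization.appLE ⊤ ((gK k K t ht) ⁻¹ᵁ (Uc k 0)) le_top =
        (gK k K t ht).toNormalization.appTop ≫ (Spec (CommRingCat.of K)).presheaf.map
          (homOfLE (le_top : (gK k K t ht) ⁻¹ᵁ (Uc k 0) ≤ ⊤)).op := rfl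
    have h5 : ((gK k K t ht).fromNormalization ≫ ProjSpace.toSpec 1 k).appTop ≫
        (gK k K t ht).toNormalization.appTop =
        (Spec.map (CommRingCat.ofHom (algebraMap k K))).appTop := by
      rw [← Scheme.Hom.comp_appTop, ← gK_toSpec k K t ht,
        (gK k K t ht).toNormalization_fromNormalization_assoc]
    have h6 := Scheme.ΓSpecIso_inv_naturality (CommRingCat.ofHom (algebraMap k K))
    have h7 : (gK k K t ht).toNormalization.appTop.hom s' =
        (Scheme.ΓSpecIso (CommRingCat.of K)).inv.hom (algebraMap k K c) := by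
      have h8 := congrArg (fun m => m.hom ((Scheme.ΓSpecIso (CommRingCat.of k)).inv.hom c)) h5
      have h9 := congrArg (fun m => m.hom c) h6
      exact h8.trans h9.symm
    rw [h4]
    show ((Spec (CommRingCat.of K)).presheaf.map
      (homOfLE (le_top : (gK k K t ht) ⁻¹ᵁ (Uc k 0) ≤ ⊤)).op).hom
        ((gK k K t ht).toNormalization.appTop.hom s') = _
    rw [h7]
    rfl
  rw [hA, hB]
  exact rE.symm_apply_apply _

/-- **A finitely generated field extension of transcendence degree one is the function field of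
an integral normal proper curve.** -/
theorem exists_curve (hfg : (⊤ : IntermediateField k K).FG) (htr : Algebra.trdeg k K = 1) :
    ∃ (X : Scheme.{u}) (_ : X.Over (Spec (CommRingCat.of k))) (_ : IsIntegral X),
      IsProper (X ↘ (Spec (CommRingCat.of k))) ∧ Pi1.IsNormalScheme X ∧
      (∀ x : X, IsClosed ({x} : Set X) → ringKrullDim (X.presheaf.stalk x) = 1) ∧
      ∃ e : X.presheaf.stalk (genericPoint X) ≃+* K,
        ∀ c : k, e (algebraMap k (X.presheaf.stalk (genericPoint X)) c) = algebraMap k K c := by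
  obtain ⟨t, ht⟩ := exists_transcendental k K htr
  obtain ⟨hfin, hnorm, hdim⟩ := Groth.Agent.Lib.NormCurveKH4.main4454 k (ProjSpace 1 k)
    (stalk_dim k) K (φK k K t ht) (φK_finite k K t hfg htr ht) (gK k K t ht) rfl
  haveI := hfin
  refine ⟨(gK k K t ht).normalization,
    ⟨(gK k K t ht).fromNormalization ≫ ProjSpace.toSpec 1 k⟩, inferInstance, ?_, hnorm, hdim, ?_⟩
  · show IsProper ((gK k K t ht).fromNormalization ≫ ProjSpace.toSpec 1 k)
    haveI : IsProper (ProjSpace.toSpec 1 k) :=
      Groth.Agent.Lib.ProjSpaceProperH4.isProper_toSpec 1 k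
    infer_instance
  · exact exists_functionField_equiv k K t htr ht

end Groth.Agent.Lib.P1CurveL
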