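import Mathlib

/-!
# Reduced schemes with finitely many irreducible components are germ-injective (helper7)
-/

set_option autoImplicit false
universe u
open AlgebraicGeometry CategoryTheory

namespace Groth.Agent.Lib.GermInjRedH7

theorem isGermInjectiveAt_of_isReduced {S : Scheme.{u}} [IsReduced S]
    (hfin : (irreducibleComponents ↥S).Finite) (s : S) : S.IsGermInjectiveAt s := by
  have hWopen : IsOpen (⋃₀ {Z ∈ irreducibleComponents ↥S | s ∉ Z})ᶜ := by
    rw [isOpen_compl_iff, Set.sUnion_eq_biUnion]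
    exact (hfin.subset (fun Z hZ => hZ.1)).isClosed_biUnion fun Z hZ =>
      isClosed_of_mem_irreducibleComponents Z hZ.1
  have hsW : s ∈ (⋃₀ {Z ∈ irreducibleComponents ↥S | s ∉ Z})ᶜ := by
    rintro ⟨Z, ⟨-, hsZ⟩, hs⟩; exact hsZ hs
  obtain ⟨_, ⟨V, hV, rfl⟩, hsV, hVW⟩ :=
    S.isBasis_affineOpens.exists_subset_of_mem_open hsW hWopen
  refine ⟨⟨V, hsV, hV, ?_⟩⟩
  rw [injective_iff_map_eq_zero]
  intro a ha
  obtain ⟨N, i, hsN, haN⟩ := S.toRingedSpace.exists_res_eq_zero_of_germ_eq_zero V a ⟨s, hsV⟩ ha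
  rw [← AlgebraicGeometry.basicOpen_eq_bot_iff, eq_bot_iff]
  intro v hv
  obtain ⟨ζ, hζgen⟩ := QuasiSober.sober
    (irreducibleComponent_mem_irreducibleComponents v).1
    (isClosed_of_mem_irreducibleComponents _ (irreducibleComponent_mem_irreducibleComponents v))
  have hζv : ζ ⤳ v := by
    rw [specializes_iff_mem_closure, hζgen.def]; exact mem_irreducibleComponent
  have hζD : ζ ∈ S.basicOpen a := hζv.mem_open (S.basicOpen a).2 hv
  have hζV : ζ ∈ V := S.basicOpen_le a hζD
  have hζZ : ζ ∈ irreducibleComponent v := by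
    rw [← hζgen.def]; exact subset_closure rfl
  have hsZ : s ∈ irreducibleComponent v := by
    by_contra hs
    exact hVW hζV ⟨irreducibleComponent v,
      ⟨irreducibleComponent_mem_irreducibleComponents v, hs⟩, hζZ⟩
  have hζs : ζ ⤳ s := by
    rw [specializes_iff_mem_closure, hζgen.def]; exact hsZ
  have hζN : ζ ∈ N := hζs.mem_open N.2 hsN
  have h1 : ζ ∈ S.basicOpen (S.presheaf.map i.op a) := by
    rw [Scheme.basicOpen_res]; exact ⟨hζN, hζD⟩
  have h2 : S.presheaf.map i.op a = 0 := haN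
  rw [h2, Scheme.basicOpen_zero] at h1
  exact h1

end Groth.Agent.Lib.GermInjRedH7
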