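import Mathlib
import Groth.Agent.Lib.GermInjRed_helper7
import Groth.Agent.Lib.BiratStalk_helper7

/-!
# Extension of rational maps to proper schemes at valuation-ring points (helper7)
-/

set_option autoImplicit false
universe u
open CategoryTheory CategoryTheory.Limits AlgebraicGeometry TopologicalSpace

namespace Groth.Agent.Lib.RatExtH7

/-- Gluing morphisms defined on a family of opens which agree on pairwise intersections. -/
theorem exists_glue {X Y : Scheme.{u}} {ι : Type*} (V : ι → X.Opens)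
    (f : ∀ i, ((V i : X.Opens) : Scheme.{u}) ⟶ Y)
    (hcompat : ∀ i j, X.homOfLE (inf_le_left : V i ⊓ V j ≤ V i) ≫ f i =
      X.homOfLE (inf_le_right : V i ⊓ V j ≤ V j) ≫ f j) :
    ∃ F : ((⨆ i, V i : X.Opens) : Scheme.{u}) ⟶ Y,
      ∀ i, X.homOfLE (le_iSup V i) ≫ F = f i := by
  have key : ∀ i j : ι, pullback.fst (X.homOfLE (le_iSup V i))
      (X.homOfLE (le_iSup V j)) ≫ f i =
      pullback.snd (X.homOfLE (le_iSup V i))
        (X.homOfLE (le_iSup V j)) ≫ f j := by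
    intro i j
    have hcond : pullback.fst (X.homOfLE (le_iSup V i))
        (X.homOfLE (le_iSup V j)) ≫ (V i).ι =
        pullback.snd (X.homOfLE (le_iSup V i))
          (X.homOfLE (le_iSup V j)) ≫ (V j).ι := by
      have h1 := pullback.condition (f := X.homOfLE (le_iSup V i))
        (g := X.homOfLE (le_iSup V j))
      have h2 := congrArg (· ≫ (⨆ i, V i).ι) h1
      simp only [Category.assoc] at h2
      rw [Scheme.homOfLE_ι, Scheme.homOfLE_ι] at h2
      exact h2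
    have hrange : Set.range (pullback.fst (X.homOfLE (le_iSup V i))
        (X.homOfLE (le_iSup V j)) ≫ (V i).ι) ⊆ Set.range (V i ⊓ V j).ι := by
      rintro _ ⟨p, rfl⟩
      rw [Scheme.Opens.range_ι]
      constructor
      · rw [Scheme.Hom.comp_apply]
        exact ((pullback.fst (X.homOfLE (le_iSup V i))
          (X.homOfLE (le_iSup V j))) p).2
      · rw [hcond, Scheme.Hom.comp_apply]
        exact ((pullback.snd (X.homOfLE (le_iSup V i))
          (X.homOfLE (le_iSup V j))) p).2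
    obtain ⟨t, ht⟩ : ∃ t : pullback (X.homOfLE (le_iSup V i))
        (X.homOfLE (le_iSup V j)) ⟶ ((V i ⊓ V j : X.Opens) : Scheme.{u}),
        t ≫ (V i ⊓ V j).ι = pullback.fst (X.homOfLE (le_iSup V i))
        (X.homOfLE (le_iSup V j)) ≫ (V i).ι :=
      ⟨IsOpenImmersion.lift _ _ hrange, IsOpenImmersion.lift_fac _ _ _⟩
    have h1 : pullback.fst (X.homOfLE (le_iSup V i))
        (X.homOfLE (le_iSup V j)) = t ≫ X.homOfLE inf_le_left := by
      rw [← cancel_mono (V i).ι, Category.assoc, Scheme.homOfLE_ι, ht]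
    have h2 : pullback.snd (X.homOfLE (le_iSup V i))
        (X.homOfLE (le_iSup V j)) = t ≫ X.homOfLE inf_le_right := by
      rw [← cancel_mono (V j).ι, Category.assoc, Scheme.homOfLE_ι, ht, hcond]
    rw [h1, h2, Category.assoc, Category.assoc, hcompat]
  exact ⟨(Scheme.Opens.iSupOpenCover V).glueMorphisms f key,
    fun i => (Scheme.Opens.iSupOpenCover V).ι_glueMorphisms f _ i⟩

/-- Gluing over a base. -/
theorem exists_glue_over {X Y S : Scheme.{u}} (p : X ⟶ S) (q : Y ⟶ S) {ι : Type*}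
    (V : ι → X.Opens) (f : ∀ i, ((V i : X.Opens) : Scheme.{u}) ⟶ Y)
    (hf : ∀ i, f i ≫ q = (V i).ι ≫ p)
    (hcompat : ∀ i j, X.homOfLE (inf_le_left : V i ⊓ V j ≤ V i) ≫ f i =
      X.homOfLE (inf_le_right : V i ⊓ V j ≤ V j) ≫ f j) :
    ∃ F : ((⨆ i, V i : X.Opens) : Scheme.{u}) ⟶ Y, F ≫ q = (⨆ i, V i).ι ≫ p ∧
      ∀ i, X.homOfLE (le_iSup V i) ≫ F = f i := by
  obtain ⟨F, hF⟩ := exists_glue V f hcompat
  refine ⟨F, ?_, hF⟩
  refine (Scheme.Opens.iSupOpenCover V).hom_ext _ _ fun i => ?_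
  change X.homOfLE (le_iSup V i) ≫ F ≫ q = X.homOfLE (le_iSup V i) ≫ (⨆ i, V i).ι ≫ p
  rw [← Category.assoc, hF i, hf i, ← Category.assoc, Scheme.homOfLE_ι]

/-- Gluing two morphisms over a base. -/
theorem exists_glue_two_over {X Y S : Scheme.{u}} (p : X ⟶ S) (q : Y ⟶ S) (U W : X.Opens)
    (f : (U : Scheme.{u}) ⟶ Y) (g : (W : Scheme.{u}) ⟶ Y)
    (hf : f ≫ q = U.ι ≫ p) (hg : g ≫ q = W.ι ≫ p)
    (h : X.homOfLE (inf_le_left : U ⊓ W ≤ U) ≫ f = X.homOfLE (inf_le_right : U ⊓ W ≤ W) ≫ g) :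
    ∃ F : ((U ⊔ W : X.Opens) : Scheme.{u}) ⟶ Y, F ≫ q = (U ⊔ W).ι ≫ p ∧
      X.homOfLE (le_sup_left : U ≤ U ⊔ W) ≫ F = f ∧
      X.homOfLE (le_sup_right : W ≤ U ⊔ W) ≫ F = g := by
  have hgen : ∀ (T : X.Opens) (h1 : T ≤ U) (h2 : T ≤ W), X.homOfLE h1 ≫ f = X.homOfLE h2 ≫ g := by
    intro T h1 h2
    have e1 : X.homOfLE h1 = X.homOfLE (le_inf h1 h2) ≫ X.homOfLE inf_le_left := by
      rw [Scheme.homOfLE_homOfLE]
    have e2 : X.homOfLE h2 = X.homOfLE (le_inf h1 h2) ≫ X.homOfLE inf_le_right := by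
      rw [Scheme.homOfLE_homOfLE]
    rw [e1, e2, Category.assoc, Category.assoc, h]
  obtain ⟨F, hFq, hF⟩ := exists_glue_over p q (fun b : Bool => cond b U W)
    (fun b => Bool.rec (motive := fun b => ((cond b U W : X.Opens) : Scheme.{u}) ⟶ Y) g f b)
    (fun b => by cases b <;> assumption)
    (fun i j => by
      cases i <;> cases j
      · rfl
      · exact (hgen _ _ _).symm
      · exact hgen _ _ _
      · rfl)
  have hsup : U ⊔ W = ⨆ b : Bool, cond b U W := by rw [iSup_bool_eq]; rfl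
  refine ⟨X.homOfLE (le_of_eq hsup) ≫ F, ?_, ?_, ?_⟩
  · rw [Category.assoc, hFq, ← Category.assoc, Scheme.homOfLE_ι]
  · rw [← Category.assoc, Scheme.homOfLE_homOfLE]
    exact hF true
  · rw [← Category.assoc, Scheme.homOfLE_homOfLE]
    exact hF false

/-- A point with germ-injective neighbourhood whose local ring is a domain has an integral open
neighbourhood. -/
theorem exists_isIntegral_nhd {X : Scheme.{u}} (x : X) [X.IsGermInjectiveAt x]
    (hdom : IsDomain (X.presheaf.stalk x)) :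
    ∃ N : X.Opens, x ∈ N ∧ IsIntegral N.toScheme := by
  obtain ⟨N, hxN, hN, hinj⟩ := X.exists_germ_injective x
  haveI : IsDomain Γ(X, N) := hinj.isDomain (X.presheaf.germ N x hxN).hom
  haveI : IsAffine N.toScheme := hN
  haveI : Nonempty N.toScheme := ⟨⟨x, hxN⟩⟩
  haveI : IsDomain Γ(N.toScheme, ⊤) :=
    (ConcreteCategory.bijective_of_isIso N.topIso.hom).1.isDomain N.topIso.hom.hom
  exact ⟨N, hxN, isIntegral_of_isAffine_of_isDomain _⟩

/-- The inclusion of a dense open into a larger open is dominant. -/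
theorem isDominant_homOfLE {Y : Scheme.{u}} {V T : Y.Opens} (h : V ≤ T)
    (hV : Dense (V : Set Y)) : IsDominant (Y.homOfLE h) := by
  constructor
  intro t
  rw [mem_closure_iff]
  intro O hO htO
  have hO' : IsOpen (T.ι '' O) := T.ι.isOpenEmbedding.isOpenMap O hO
  obtain ⟨y, hy1, hy2⟩ := hV.inter_open_nonempty _ hO' ⟨_, ⟨t, htO, rfl⟩⟩
  obtain ⟨t', ht'O, rfl⟩ := hy1
  refine ⟨t', ht'O, ⟨⟨T.ι t', hy2⟩, ?_⟩⟩
  apply Subtype.ext
  rw [Scheme.homOfLE_apply]
  rfl

/-- Core extension lemma: a rational map to a proper scheme extends over a point whose local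
ring is a valuation ring. -/
theorem exists_extension_of_valuationRing {X Y S : Scheme.{u}} (p : X ⟶ S) (q : Y ⟶ S)
    [IsProper q] (x : X) [X.IsGermInjectiveAt x] (U : X.Opens) (f : (U : Scheme.{u}) ⟶ Y)
    (hf : f ≫ q = U.ι ≫ p) (hx : x ∈ closure (U : Set X))
    (hdom : IsDomain (X.presheaf.stalk x)) (hval : @ValuationRing (X.presheaf.stalk x) _ hdom) :
    ∃ (U' : X.Opens) (hUU' : U ≤ U'), x ∈ U' ∧
      ∃ f' : (U' : Scheme.{u}) ⟶ Y, f' ≫ q = U'.ι ≫ p ∧ X.homOfLE hUU' ≫ f' = f := by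
  haveI := hdom
  obtain ⟨N, hxN, hNint⟩ := exists_isIntegral_nhd x hdom
  obtain ⟨ψ, hψ⟩ : ∃ ψ : Spec (CommRingCat.of (FractionRing (X.presheaf.stalk x))) ⟶ X,
      ψ = Spec.map (CommRingCat.ofHom (algebraMap (X.presheaf.stalk x)
        (FractionRing (X.presheaf.stalk x)))) ≫ X.fromSpecStalk x := ⟨_, rfl⟩
  have hψsp : ∀ t n, n ∈ N → ψ t ⤳ n := by
    intro t n hn
    have h1 : N.ι (genericPoint N.toScheme) ⤳ n :=
      (genericPoint_specializes (α := ↥(N.toScheme)) ⟨n, hn⟩).map N.ι.continuous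
    have h2 : N.ι (genericPoint N.toScheme) ⤳ x :=
      (genericPoint_specializes (α := ↥(N.toScheme)) ⟨x, hxN⟩).map N.ι.continuous
    obtain ⟨pp, hpp⟩ : N.ι (genericPoint N.toScheme) ∈ Set.range (X.fromSpecStalk x) := by
      rw [Scheme.range_fromSpecStalk]; exact h2
    have h3 : Spec.map (CommRingCat.ofHom (algebraMap (X.presheaf.stalk x)
        (FractionRing (X.presheaf.stalk x)))) t ⤳ pp := by
      refine (PrimeSpectrum.le_iff_specializes (R := X.presheaf.stalk x)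
        (Spec.map (CommRingCat.ofHom (algebraMap (X.presheaf.stalk x)
          (FractionRing (X.presheaf.stalk x)))) t) pp).mp ?_
      change Ideal.comap (algebraMap (X.presheaf.stalk x) (FractionRing (X.presheaf.stalk x)))
        t.asIdeal ≤ pp.asIdeal
      have ht : t.asIdeal = ⊥ := (Ideal.eq_bot_or_top t.asIdeal).resolve_right t.isPrime.ne_top
      rw [ht]
      intro a ha
      have ha' : algebraMap (X.presheaf.stalk x) (FractionRing (X.presheaf.stalk x)) a = 0 := ha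
      have ha0 : a = 0 :=
        (IsFractionRing.injective (X.presheaf.stalk x) (FractionRing (X.presheaf.stalk x)))
          (by rw [ha', map_zero])
      rw [ha0]; exact zero_mem _
    have h4 := h3.map (X.fromSpecStalk x).continuous
    rw [hpp] at h4
    rw [hψ, Scheme.Hom.comp_apply]
    exact h4.trans h1
  obtain ⟨u, huN, huU⟩ : ∃ u, u ∈ N ∧ u ∈ U := by
    obtain ⟨u, hu1, hu2⟩ := mem_closure_iff.mp hx N N.2 hxN
    exact ⟨u, hu1, hu2⟩
  have hψU : ∀ t, ψ t ∈ U := fun t => (hψsp t u huN).mem_open U.2 huU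
  have hψx : ∀ t, ψ t ⤳ x := fun t => hψsp t x hxN
  have hrU : Set.range ψ ⊆ Set.range U.ι := by
    rintro _ ⟨t, rfl⟩; rw [Scheme.Opens.range_ι]; exact hψU t
  obtain ⟨j, hj⟩ : ∃ j : Spec (CommRingCat.of (FractionRing (X.presheaf.stalk x))) ⟶ U.toScheme,
      j ≫ U.ι = ψ := ⟨IsOpenImmersion.lift U.ι ψ hrU, IsOpenImmersion.lift_fac _ _ _⟩
  have key : ∃ ℓ : Spec (X.presheaf.stalk x) ⟶ Y,
      Spec.map (CommRingCat.ofHom (algebraMap (X.presheaf.stalk x)
        (FractionRing (X.presheaf.stalk x)))) ≫ ℓ = j ≫ f ∧ ℓ ≫ q = X.fromSpecStalk x ≫ p := by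
    have hex : ValuativeCriterion.Existence q := by
      have h1 : (ValuativeCriterion.Existence ⊓ @QuasiCompact) q :=
        UniversallyClosed.eq_valuativeCriterion ▸ (inferInstance : UniversallyClosed q)
      exact h1.1
    have hsq : (j ≫ f) ≫ q = Spec.map (CommRingCat.ofHom (algebraMap (X.presheaf.stalk x)
        (FractionRing (X.presheaf.stalk x)))) ≫ (X.fromSpecStalk x ≫ p) := by
      rw [Category.assoc, hf, ← Category.assoc, hj, hψ, Category.assoc]
    obtain ⟨⟨ℓ, hℓ₁, hℓ₂⟩⟩ := (hex (ValuativeCommSq.mk (R := X.presheaf.stalk x)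
      (commRing := (X.presheaf.stalk x).commRing) (domain := hdom) (valuationRing := hval)
      (K := FractionRing (X.presheaf.stalk x)) (j ≫ f) (X.fromSpecStalk x ≫ p)
      (CommSq.mk hsq))).exists_lift
    exact ⟨ℓ, hℓ₁, hℓ₂⟩
  obtain ⟨ℓ, hℓ₁, hℓ₂⟩ := key
  obtain ⟨W, hxW, g, hg1, hg2⟩ := spread_out_of_isGermInjective' p q ℓ hℓ₂
  obtain ⟨W', hW'⟩ : ∃ W' : X.Opens, W' = W ⊓ N := ⟨_, rfl⟩
  have hxW' : x ∈ W' := hW' ▸ ⟨hxW, hxN⟩
  have hW'W : W' ≤ W := hW' ▸ inf_le_left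
  have hW'N : W' ≤ N := hW' ▸ inf_le_right
  have hψT : ∀ t, ψ t ∈ U ⊓ W' := fun t => ⟨hψU t, (hψx t).mem_open W'.2 hxW'⟩
  obtain ⟨t₀, -⟩ : ∃ t₀ : Spec (CommRingCat.of (FractionRing (X.presheaf.stalk x))), True :=
    ⟨IsLocalRing.closedPoint (FractionRing (X.presheaf.stalk x)), trivial⟩
  haveI : Nonempty (U ⊓ W').toScheme := ⟨⟨ψ t₀, hψT t₀⟩⟩
  haveI : IsIntegral (U ⊓ W').toScheme :=
    isIntegral_of_isOpenImmersion (X.homOfLE (inf_le_right.trans hW'N : U ⊓ W' ≤ N))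
  have hrT : Set.range ψ ⊆ Set.range (U ⊓ W').ι := by
    rintro _ ⟨t, rfl⟩; rw [Scheme.Opens.range_ι]; exact hψT t
  obtain ⟨jT, hjT⟩ : ∃ jT : Spec (CommRingCat.of (FractionRing (X.presheaf.stalk x))) ⟶
      (U ⊓ W').toScheme, jT ≫ (U ⊓ W').ι = ψ :=
    ⟨IsOpenImmersion.lift _ ψ hrT, IsOpenImmersion.lift_fac _ _ _⟩
  haveI : IsDominant jT := by
    constructor
    intro z
    have hz : jT t₀ ⤳ z := by
      rw [← (U ⊓ W').ι.isEmbedding.isInducing.specializes_iff]
      have h1 : (U ⊓ W').ι (jT t₀) = ψ t₀ := by rw [← Scheme.Hom.comp_apply, hjT]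
      rw [h1]
      exact hψsp t₀ z.1 (hW'N z.2.2)
    exact closure_mono (Set.singleton_subset_iff.mpr (Set.mem_range_self t₀))
      (specializes_iff_mem_closure.mp hz)
  have hg' : (X.homOfLE hW'W ≫ g) ≫ q = W'.ι ≫ p := by
    rw [Category.assoc, hg2, ← Category.assoc, Scheme.homOfLE_ι]
  have hagree : X.homOfLE (inf_le_left : U ⊓ W' ≤ U) ≫ f =
      X.homOfLE (inf_le_right : U ⊓ W' ≤ W') ≫ (X.homOfLE hW'W ≫ g) := by
    apply ext_of_isDominant_of_isSeparated q ?_ jT ?_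
    · rw [Category.assoc, hf, ← Category.assoc, Scheme.homOfLE_ι, Category.assoc, hg',
        ← Category.assoc, Scheme.homOfLE_ι]
    · have e1 : jT ≫ X.homOfLE (inf_le_left : U ⊓ W' ≤ U) = j := by
        rw [← cancel_mono U.ι, Category.assoc, Scheme.homOfLE_ι, hjT, hj]
      have e2 : jT ≫ X.homOfLE (inf_le_right : U ⊓ W' ≤ W') ≫ X.homOfLE hW'W =
          Spec.map (CommRingCat.ofHom (algebraMap (X.presheaf.stalk x)
            (FractionRing (X.presheaf.stalk x)))) ≫ W.fromSpecStalkOfMem x hxW := by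
        rw [← cancel_mono W.ι]
        simp only [Category.assoc, Scheme.homOfLE_ι, Scheme.Opens.fromSpecStalkOfMem_ι]
        rw [hjT, hψ]
      calc jT ≫ X.homOfLE (inf_le_left : U ⊓ W' ≤ U) ≫ f
          = (jT ≫ X.homOfLE (inf_le_left : U ⊓ W' ≤ U)) ≫ f := by rw [Category.assoc]
        _ = j ≫ f := by rw [e1]
        _ = Spec.map (CommRingCat.ofHom (algebraMap (X.presheaf.stalk x)
              (FractionRing (X.presheaf.stalk x)))) ≫ ℓ := hℓ₁.symm
        _ = (Spec.map (CommRingCat.ofHom (algebraMap (X.presheaf.stalk x)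
              (FractionRing (X.presheaf.stalk x)))) ≫ W.fromSpecStalkOfMem x hxW) ≫ g := by
            rw [hg1, Category.assoc]
        _ = (jT ≫ X.homOfLE (inf_le_right : U ⊓ W' ≤ W') ≫ X.homOfLE hW'W) ≫ g := by rw [e2]
        _ = jT ≫ X.homOfLE (inf_le_right : U ⊓ W' ≤ W') ≫ (X.homOfLE hW'W ≫ g) := by
            simp only [Category.assoc]
  obtain ⟨F, hFq, hF1, -⟩ := exists_glue_two_over p q U W' f (X.homOfLE hW'W ≫ g) hf hg' hagree
  exact ⟨U ⊔ W', le_sup_left, Or.inr hxW', F, hFq, hF1⟩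

end Groth.Agent.Lib.RatExtH7
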