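import Mathlib
import Groth.Agent.Lib.RatExt_helper7

/-!
# Extension of rational maps over all codimension-one points (helper7)
-/

set_option autoImplicit false
universe u
open CategoryTheory CategoryTheory.Limits AlgebraicGeometry TopologicalSpace

namespace Groth.Agent.Lib.RatExt2H7

open Groth.Agent.Lib.RatExtH7

/-- A reduced Noetherian local ring with principal maximal ideal is a domain. -/
theorem isDomain_of_isPrincipal_maximalIdeal (R : Type*) [CommRing R] [IsNoetherianRing R]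
    [IsLocalRing R] [IsReduced R] (h : (IsLocalRing.maximalIdeal R).IsPrincipal) : IsDomain R := by
  obtain ⟨t, ht⟩ := h.principal
  have hm : IsLocalRing.maximalIdeal R = Ideal.span {t} := ht
  have key : ∀ a : R, a ≠ 0 → ∃ (n : ℕ) (u : R), IsUnit u ∧ a = u * t ^ n := by
    intro a ha
    have hinf : (⨅ n : ℕ, IsLocalRing.maximalIdeal R ^ n) = ⊥ :=
      Ideal.iInf_pow_eq_bot_of_isLocalRing _ (IsLocalRing.maximalIdeal.isMaximal R).ne_top
    have hex : ∃ n, a ∉ IsLocalRing.maximalIdeal R ^ n := by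
      by_contra hcon
      push_neg at hcon
      have h1 : a ∈ (⨅ n : ℕ, IsLocalRing.maximalIdeal R ^ n) := by
        rw [Submodule.mem_iInf]
        exact hcon
      rw [hinf] at h1
      exact ha ((Submodule.mem_bot R).mp h1)
    classical
    have hn : a ∉ IsLocalRing.maximalIdeal R ^ (Nat.find hex) := Nat.find_spec hex
    have hn0 : Nat.find hex ≠ 0 := by
      intro h0
      rw [h0, pow_zero, Ideal.one_eq_top] at hn
      exact hn trivial
    obtain ⟨k, hk⟩ : ∃ k, Nat.find hex = k + 1 := Nat.exists_eq_succ_of_ne_zero hn0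
    have hk' : a ∈ IsLocalRing.maximalIdeal R ^ k := by
      by_contra hc
      have := Nat.find_min' hex hc
      omega
    rw [hm, Ideal.span_singleton_pow, Ideal.mem_span_singleton'] at hk'
    obtain ⟨u, hu⟩ := hk'
    refine ⟨k, u, ?_, hu.symm⟩
    by_contra hnu
    have hum : u ∈ IsLocalRing.maximalIdeal R := (IsLocalRing.mem_maximalIdeal u).mpr hnu
    apply hn
    rw [hk, pow_succ', ← hu]
    exact Ideal.mul_mem_mul hum
      (by rw [hm, Ideal.span_singleton_pow]; exact Ideal.mem_span_singleton_self _)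
  haveI : NoZeroDivisors R := by
    constructor
    intro a b hab
    by_contra hcon
    push_neg at hcon
    obtain ⟨n, u, hu, rfl⟩ := key a hcon.1
    obtain ⟨m, v, hv, rfl⟩ := key b hcon.2
    have h1 : t ^ (n + m) = 0 := by
      have h2 : (u * v) * t ^ (n + m) = 0 := by
        rw [pow_add]; linear_combination hab
      exact (hu.mul hv).mul_right_eq_zero.mp h2
    have ht0 : t = 0 := IsNilpotent.eq_zero ⟨n + m, h1⟩
    rcases Nat.eq_zero_or_pos n with hn | hn
    · apply hcon.2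
      rw [hn, pow_zero, mul_one] at hab
      exact hu.mul_right_eq_zero.mp hab
    · exact hcon.1 (by rw [ht0, zero_pow hn.ne', mul_zero])
  exact NoZeroDivisors.to_isDomain R

/-- A reduced regular local ring of dimension at most one is a valuation ring (in particular
a domain). -/
theorem valuationRing_of_isRegularLocalRing (R : Type*) [CommRing R] [IsReduced R]
    [IsRegularLocalRing R] (h : ringKrullDim R ≤ 1) :
    ∃ hdom : IsDomain R, @ValuationRing R _ hdom := by
  have hspan := IsRegularLocalRing.spanFinrank_maximalIdeal (R := R)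
  have hle : (IsLocalRing.maximalIdeal R).spanFinrank ≤ 1 := by
    have h1 : ((IsLocalRing.maximalIdeal R).spanFinrank : WithBot ℕ∞) ≤ 1 := hspan ▸ h
    exact_mod_cast h1
  have hprin : (IsLocalRing.maximalIdeal R).IsPrincipal := by
    rcases Nat.le_one_iff_eq_zero_or_eq_one.mp hle with h0 | h1
    · rw [(Submodule.spanFinrank_eq_zero_iff_eq_bot (IsNoetherian.noetherian _)).mp h0]
      infer_instance
    · exact ((Submodule.spanFinrank_eq_one_iff _).mp h1).1
  haveI hdom := isDomain_of_isPrincipal_maximalIdeal R hprin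
  refine ⟨hdom, ?_⟩
  have h41 := (tfae_of_isNoetherianRing_of_isLocalRing_of_isDomain R).out 4 1
  exact h41.mp hprin

/-- A rational map from a reduced scheme to a proper scheme, defined on a dense open, extends
to an open containing every point (in a given class) whose local ring is a valuation ring. -/
theorem exists_extension_of_forall_valuationRing {S X Y : Scheme.{u}} (p : X ⟶ S) [IsProper p]
    (q : Y ⟶ S) [IsReduced Y] [∀ y : Y, Y.IsGermInjectiveAt y] (P : Y → Prop)
    (hP : ∀ y, P y → ∃ hdom : IsDomain (Y.presheaf.stalk y),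
      @ValuationRing (Y.presheaf.stalk y) _ hdom)
    (V : Y.Opens) (hV : Dense (V : Set Y)) (g : (V : Scheme.{u}) ⟶ X) (hg : g ≫ p = V.ι ≫ q) :
    ∃ (U : Y.Opens) (hVU : V ≤ U) (g' : (U : Scheme.{u}) ⟶ X), g' ≫ p = U.ι ≫ q ∧
      Y.homOfLE hVU ≫ g' = g ∧ ∀ y : Y, P y → y ∈ U := by
  obtain ⟨J, hJdef⟩ : ∃ J : Set Y.Opens, J = {T | ∃ (hVT : V ≤ T) (t : (T : Scheme.{u}) ⟶ X),
      t ≫ p = T.ι ≫ q ∧ Y.homOfLE hVT ≫ t = g} := ⟨_, rfl⟩
  have hJ : ∀ T : J, ∃ (hVT : V ≤ T.1) (t : (T.1 : Scheme.{u}) ⟶ X),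
      t ≫ p = T.1.ι ≫ q ∧ Y.homOfLE hVT ≫ t = g := by
    rintro ⟨T, hT⟩
    have h1 : T ∈ J := hT
    rw [hJdef] at h1
    exact h1
  choose hVT t htp htg using hJ
  have hcompat : ∀ T₁ T₂ : J, Y.homOfLE (inf_le_left : T₁.1 ⊓ T₂.1 ≤ T₁.1) ≫ t T₁ =
      Y.homOfLE (inf_le_right : T₁.1 ⊓ T₂.1 ≤ T₂.1) ≫ t T₂ := by
    intro T₁ T₂
    haveI : IsDominant (Y.homOfLE (le_inf (hVT T₁) (hVT T₂))) := isDominant_homOfLE _ hV
    apply ext_of_isDominant_of_isSeparated p ?_ (Y.homOfLE (le_inf (hVT T₁) (hVT T₂))) ?_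
    · rw [Category.assoc, htp, ← Category.assoc, Scheme.homOfLE_ι, Category.assoc, htp,
        ← Category.assoc, Scheme.homOfLE_ι]
    · rw [← Category.assoc, Scheme.homOfLE_homOfLE, htg, ← Category.assoc,
        Scheme.homOfLE_homOfLE, htg]
  obtain ⟨F, hFp, hF⟩ := exists_glue_over q p (fun T : J => T.1) t htp hcompat
  have hVmem : V ∈ J := by
    rw [hJdef]
    exact ⟨le_rfl, g, hg, by rw [Scheme.homOfLE_rfl, Category.id_comp]⟩
  refine ⟨⨆ T : J, T.1, le_iSup (fun T : J => T.1) ⟨V, hVmem⟩, F, hFp, ?_, ?_⟩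
  · rw [hF ⟨V, hVmem⟩]
    have h1 := htg ⟨V, hVmem⟩
    have h2 : Y.homOfLE (hVT ⟨V, hVmem⟩) = 𝟙 _ := Y.homOfLE_rfl V
    rw [h2, Category.id_comp] at h1
    exact h1
  · intro y hy
    obtain ⟨hdom, hval⟩ := hP y hy
    obtain ⟨U', hVU', hyU', g', hg'p, hg'ext⟩ :=
      exists_extension_of_valuationRing q p y V g hg (hV.closure_eq ▸ Set.mem_univ _) hdom hval
    have hU'mem : U' ∈ J := by
      rw [hJdef]
      exact ⟨hVU', g', hg'p, hg'ext⟩
    exact TopologicalSpace.Opens.mem_iSup.mpr ⟨⟨U', hU'mem⟩, hyU'⟩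

end Groth.Agent.Lib.RatExt2H7
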