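import Mathlib
import Groth.Prelude
import Groth.Agent.Lib.CurveComp1_helper9
import Groth.Agent.Lib.P1Curve3_lead
import Groth.Agent.Lib.OneDim3_helper9
import Groth.Agent.Lib.Snap63_helper9
import Groth.Agent.Lib.NormFieldFT_helper4
import Groth.Agent.Lib.NormCurveK_helper4
import Groth.Agent.S4445
import Groth.Agent.S0021

/-!
# Normal completions of normal curves; a curve is affine or projective (helper9).
APPEND-ONLY once landed.
-/

set_option autoImplicit false
universe u
open CategoryTheory CategoryTheory.Limits AlgebraicGeometry Opposite TopologicalSpace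

namespace CurveComp9

section Dim

variable {C : Scheme.{u}} [IsIntegral C] [CompactSpace C]

/-- an integral quasi-compact scheme all of whose closed points have one-dimensional local rings
has dimension at most one -/
theorem topDim_le_one (hC : ∀ c : C, IsClosed ({c} : Set C) → ringKrullDim (C.presheaf.stalk c) = 1) :
    topologicalKrullDim C ≤ 1 := by
  rw [Groth.Agent.BCDimSchH8.dim_eq_iSup_coheight C]
  refine iSup_le fun y => ?_
  rw [← AlgebraicGeometry.ringKrullDim_stalk_eq_coheight]
  by_cases hy : y = genericPoint C
  · rw [AlgebraicGeometry.ringKrullDim_stalk_eq_coheight]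
    have h2 : IsMax y := fun b _ => by
      rw [hy]
      exact Scheme.le_iff_specializes.mpr (genericPoint_specializes b)
    rw [Order.coheight_eq_zero.mpr h2]
    exact zero_le_one
  · exact (hC y (Groth.Agent.Lib.CurveTopH7.isClosed_of_ne_genericPoint hC y hy)).le

end Dim

section Completion

attribute [local instance] Curv2.stalkAlgebra

variable (k : Type u) [Field k] (X : Scheme.{u}) [X.Over (Spec (CommRingCat.of k))]
  [LocallyOfFiniteType (X ↘ Spec (CommRingCat.of k))] [QuasiCompact (X ↘ Spec (CommRingCat.of k))]
  [IsSeparated (X ↘ Spec (CommRingCat.of k))] [IsIntegral X]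

theorem isIso_stalkSpecializes_of_eq {Y : Scheme.{u}} {x y : Y} (h : x = y) :
    IsIso (Y.presheaf.stalkSpecializes (specializes_of_eq h)) := by
  subst h
  have : Y.presheaf.stalkSpecializes (specializes_of_eq (rfl : x = x)) = 𝟙 _ :=
    TopCat.Presheaf.stalkSpecializes_refl _ _
  rw [this]
  infer_instance

/-- **an integral normal curve over a field has a normal completion** -/
theorem exists_completion
    (hX : ∀ x : X, IsClosed ({x} : Set X) → ringKrullDim (X.presheaf.stalk x) = 1)
    (hnorm : Pi1.IsNormalScheme X) :
    ∃ (C : Scheme.{u}) (_ : C.Over (Spec (CommRingCat.of k))) (_ : IsIntegral C) (j : X ⟶ C),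
      IsProper (C ↘ Spec (CommRingCat.of k)) ∧ Pi1.IsNormalScheme C ∧
      (∀ c : C, IsClosed ({c} : Set C) → ringKrullDim (C.presheaf.stalk c) = 1) ∧
      IsOpenImmersion j ∧ j ≫ (C ↘ Spec (CommRingCat.of k)) = X ↘ Spec (CommRingCat.of k) := by
  obtain ⟨C, hCo, hCi, hprop, hCn, hCd, e, he⟩ :=
    Groth.Agent.Lib.P1CurveL.exists_curve k X.functionField (fg_functionField k X)
      (trdeg_functionField k X hX)
  let φ : C.functionField →ₐ[k] X.functionField :=
    { (e : C.functionField →+* X.functionField) with commutes' := he }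
  obtain ⟨u, ⟨hu1, hugen, hust⟩, -⟩ := Groth.Agent.S4445.result k X C hX hnorm hCd φ
  refine ⟨C, hCo, hCi, u, hprop, hCn, hCd, ?_, hu1⟩
  haveI : LocallyOfFiniteType (u ≫ (C ↘ Spec (CommRingCat.of k))) := by rw [hu1]; infer_instance
  haveI : QuasiCompact (u ≫ (C ↘ Spec (CommRingCat.of k))) := by rw [hu1]; infer_instance
  haveI : IsSeparated (u ≫ (C ↘ Spec (CommRingCat.of k))) := by rw [hu1]; infer_instance
  haveI : LocallyOfFiniteType u := locallyOfFiniteType_of_comp u (C ↘ Spec (CommRingCat.of k))
  haveI : QuasiCompact u := QuasiCompact.of_comp u (C ↘ Spec (CommRingCat.of k))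
  haveI : IsSeparated u := IsSeparated.of_comp u (C ↘ Spec (CommRingCat.of k))
  haveI : IsLocallyNoetherian X :=
    LocallyOfFiniteType.isLocallyNoetherian (X ↘ Spec (CommRingCat.of k))
  haveI : CompactSpace X :=
    QuasiCompact.compactSpace_of_compactSpace (X ↘ Spec (CommRingCat.of k))
  haveI : IsNoetherian X := {}
  haveI : JacobsonSpace C := LocallyOfFiniteType.jacobsonSpace (C ↘ Spec (CommRingCat.of k))
  have hYgen : ¬ IsClosed ({genericPoint C} : Set C) :=
    Groth.Agent.Lib.CurveTopH7.not_isClosed_genericPoint hCd
  haveI : LocallyQuasiFinite u := locallyQuasiFinite_of_generic u hX hYgen hugen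
  have hiso : IsIso (u.stalkMap (genericPoint X)) := by
    have h1 : IsIso (C.presheaf.stalkSpecializes (specializes_of_eq hugen) ≫
        u.stalkMap (genericPoint X)) := by
      rw [ConcreteCategory.isIso_iff_bijective]
      have h2 : ⇑(ConcreteCategory.hom (C.presheaf.stalkSpecializes (specializes_of_eq hugen) ≫
          u.stalkMap (genericPoint X))) = ⇑e := by
        ext a
        exact congrArg (fun f : C.functionField →+* X.functionField => f a) hust
      rw [h2]
      exact e.bijective
    haveI := isIso_stalkSpecializes_of_eq hugen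
    exact IsIso.of_isIso_comp_left (C.presheaf.stalkSpecializes (specializes_of_eq hugen)) _
  exact isOpenImmersion_of_birational u hugen hiso (fun y => (hCn y).2)

end Completion

end CurveComp9

namespace CurveComp9

section Affine

variable (k : Type u) [Field k] (C : Scheme.{u}) [C.Over (Spec (CommRingCat.of k))]
  [IsProper (C ↘ Spec (CommRingCat.of k))]

include k in
/-- on a proper scheme of dimension at most one over a field, an open subset whose complement is
a finite set of closed points meeting every one-dimensional irreducible component is affine -/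
theorem isAffineOpen_of_compl (hdim : topologicalKrullDim C ≤ 1) (U : C.Opens)
    (hfin : ((U : Set C)ᶜ).Finite) (hcl : ∀ z : C, z ∉ U → IsClosed ({z} : Set C))
    (hmeet : ∀ D ∈ irreducibleComponents C, topologicalKrullDim ↥D = 1 → ¬ D ⊆ (U : Set C)) :
    IsAffineOpen U := by
  haveI : IsLocallyNoetherian C :=
    LocallyOfFiniteType.isLocallyNoetherian (C ↘ Spec (CommRingCat.of k))
  haveI : CompactSpace C :=
    QuasiCompact.compactSpace_of_compactSpace (C ↘ Spec (CommRingCat.of k))
  haveI : IsNoetherian C := {}
  have hdisc : DiscreteTopology ↥((U : Set C)ᶜ) := by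
    haveI : Finite ↥((U : Set C)ᶜ) := hfin.to_subtype
    haveI : T1Space ↥((U : Set C)ᶜ) := ⟨fun p => by
      have h1 : ({p} : Set ↥((U : Set C)ᶜ)) = Subtype.val ⁻¹' ({p.1} : Set C) := by
        ext q
        simp only [Set.mem_singleton_iff, Set.mem_preimage]
        exact ⟨fun h => congrArg Subtype.val h, fun h => Subtype.ext h⟩
      rw [h1]
      exact (hcl p.1 p.2).preimage continuous_subtype_val⟩
    infer_instance
  have hloc : ∀ x : C, x ∉ U → IsNoetherianRing (C.presheaf.stalk x) ∧
      ringKrullDim (C.presheaf.stalk x) ≤ 1 :=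
    fun x _ => ⟨inferInstance, BirCurve.ringKrullDim_stalk_le hdim x⟩
  obtain ⟨⟨L, s, hL, hs⟩, -⟩ := OneDim9.main7669 C U hdisc hloc
  have hamp : CohB1.IsAmple L := by
    refine AmpleComp.isAmple_of_degPos k C hdim hL ?_
    intro D hD hd
    by_contra hneg
    rw [not_lt] at hneg
    have hDcl := isClosed_of_mem_irreducibleComponents D hD
    rcases NefTriv.subset_or_disjoint_genLocus k C hL s ⟨D, hDcl⟩
        (C.irreducibleComponentIdeal D hD).radical
        (by rw [← Scheme.IdealSheafData.vanishingIdeal_support]; congr 1) hD.1 hd hneg with h | h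
    · rw [hs] at h
      exact hmeet D hD hd h
    · have hirr : IsIrreducible D := hD.1
      obtain ⟨η, hηdef⟩ : ∃ η : C, η = hirr.genericPoint := ⟨_, rfl⟩
      have hcl_eq : closure ({η} : Set C) = D := by
        rw [hηdef]
        exact hirr.closure_genericPoint hDcl
      have hη : η ∈ D := by
        have h0 : η ∈ closure ({η} : Set C) := subset_closure (Set.mem_singleton η)
        rwa [hcl_eq] at h0
      have hηU : η ∈ (CohB1.genLocus L s : Set C) := by
        rw [hs]
        by_contra hηZ
        have h2 : D = {η} := by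
          rw [← hcl_eq]
          exact (hcl η hηZ).closure_eq
        haveI : Subsingleton ↥D := by
          rw [h2]
          infer_instance
        have h3 : topologicalKrullDim ↥D ≤ 0 := topologicalKrullDim_zero_of_discreteTopology _
        rw [hd] at h3
        exact absurd h3 (by decide)
      exact Set.disjoint_left.mp h hη hηU
  have hfib : ∀ y : ↥(Spec (CommRingCat.of k)),
      topologicalKrullDim ↥((C ↘ Spec (CommRingCat.of k)).fiber y) ≤ 1 := fun y =>
    le_trans (((C ↘ Spec (CommRingCat.of k)).fiberι y).isEmbedding.toIsInducing.topologicalKrullDim_le)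
      hdim
  have haff := Snap9.isAffineOpen_genLocus_of_isAmple_curve (C ↘ Spec (CommRingCat.of k)) hfib L
    hamp s
  rwa [hs] at haff

end Affine

end CurveComp9

namespace CurveComp9

section Main

variable (k : Type u) [Field k] (X : Scheme.{u}) [X.Over (Spec (CommRingCat.of k))] [IsIntegral X]
  [IsSeparated (X ↘ Spec (CommRingCat.of k))] [LocallyOfFiniteType (X ↘ Spec (CommRingCat.of k))]
  [QuasiCompact (X ↘ Spec (CommRingCat.of k))]

/-- an integral normal curve over a field is affine or proper -/
theorem isAffine_or_isProper_of_normal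
    (hX : ∀ x : X, IsClosed ({x} : Set X) → ringKrullDim (X.presheaf.stalk x) = 1)
    (hnorm : Pi1.IsNormalScheme X) :
    IsAffine X ∨ IsProper (X ↘ Spec (CommRingCat.of k)) := by
  obtain ⟨C, hCo, hCi, j, hprop, hCn, hCd, hj, hjc⟩ := exists_completion k X hX hnorm
  haveI : IsLocallyNoetherian C :=
    LocallyOfFiniteType.isLocallyNoetherian (C ↘ Spec (CommRingCat.of k))
  haveI : CompactSpace C :=
    QuasiCompact.compactSpace_of_compactSpace (C ↘ Spec (CommRingCat.of k))
  haveI : IsNoetherian C := {}
  by_cases hsurj : Function.Surjective j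
  · right
    haveI : Surjective j := ⟨hsurj⟩
    haveI : IsIso j := (isIso_iff_isOpenImmersion_and_surjective j).mpr ⟨hj, inferInstance⟩
    rw [← hjc]
    infer_instance
  · left
    have hdimC : topologicalKrullDim C ≤ 1 := topDim_le_one hCd
    have hgenU : genericPoint C ∈ j.opensRange := by
      have hne : (j.opensRange : Set C).Nonempty := ⟨j (genericPoint X), ⟨_, rfl⟩⟩
      obtain ⟨c, hc⟩ := hne
      exact (genericPoint_specializes c).mem_open j.opensRange.2 hc
    have hcl : ∀ z : C, z ∉ j.opensRange → IsClosed ({z} : Set C) := by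
      intro z hz
      refine Groth.Agent.Lib.CurveTopH7.isClosed_of_ne_genericPoint hCd z ?_
      rintro rfl
      exact hz hgenU
    have hfin : ((j.opensRange : Set C)ᶜ).Finite :=
      Groth.Agent.Lib.CurveTopH7.finite_of_isClosed_of_forall_isClosed _
        j.opensRange.2.isClosed_compl (fun z hz => hcl z hz)
    have hmeet : ∀ D ∈ irreducibleComponents C, topologicalKrullDim ↥D = 1 →
        ¬ D ⊆ (j.opensRange : Set C) := by
      intro D hD _ hDU
      rw [irreducibleComponents_eq_singleton, Set.mem_singleton_iff] at hD
      apply hsurj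
      intro c
      have h1 : c ∈ (j.opensRange : Set C) := hDU (by rw [hD]; trivial)
      exact h1
    have haff : IsAffineOpen j.opensRange :=
      isAffineOpen_of_compl k C hdimC j.opensRange hfin hcl hmeet
    haveI : IsAffine (j.opensRange : Scheme.{u}) := haff
    exact IsAffine.of_isIso (Scheme.Hom.isoOpensRange j).hom

/-- **S1627** -/
theorem main1627 (hdim : topologicalKrullDim X = 1) :
    IsAffine X ∨ ∃ (d : ℕ) (c : X ⟶ CohB1.ProjSpace d k), IsClosedImmersion c ∧
      c ≫ CohB1.ProjSpace.toSpec d k = X ↘ (Spec (CommRingCat.of k)) := by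
  haveI : IsLocallyNoetherian X :=
    LocallyOfFiniteType.isLocallyNoetherian (X ↘ Spec (CommRingCat.of k))
  haveI : CompactSpace X :=
    QuasiCompact.compactSpace_of_compactSpace (X ↘ Spec (CommRingCat.of k))
  haveI : IsNoetherian X := {}
  have hX : ∀ x : X, IsClosed ({x} : Set X) → ringKrullDim (X.presheaf.stalk x) = 1 :=
    fun x hx => CurvePtInv.ringKrullDim_stalk_of_closed hdim hx
  haveI : QuasiCompact (X.fromSpecStalk (genericPoint X)) := inferInstance
  haveI : QuasiSeparated (X.fromSpecStalk (genericPoint X)) := inferInstance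
  obtain ⟨hfin, hdom, -, hint, hnorm⟩ := Groth.Agent.Lib.NormFieldFTH4.main1585 k X
  haveI := hfin
  haveI := hdom
  haveI := hint
  haveI : Surjective (Curv2.normalizationι X) :=
    surjective_of_isDominant_of_isClosed_range _ (Curv2.normalizationι X).isClosedMap.isClosed_range
  letI : (Curv2.normalization X).Over (Spec (CommRingCat.of k)) :=
    ⟨Curv2.normalizationι X ≫ (X ↘ Spec (CommRingCat.of k))⟩
  have hov : (Curv2.normalization X ↘ Spec (CommRingCat.of k)) =
      Curv2.normalizationι X ≫ (X ↘ Spec (CommRingCat.of k)) := rfl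
  haveI : IsSeparated (Curv2.normalization X ↘ Spec (CommRingCat.of k)) := by
    rw [hov]; infer_instance
  haveI : LocallyOfFiniteType (Curv2.normalization X ↘ Spec (CommRingCat.of k)) := by
    rw [hov]; infer_instance
  haveI : QuasiCompact (Curv2.normalization X ↘ Spec (CommRingCat.of k)) := by
    rw [hov]; infer_instance
  have hX' : ∀ x' : Curv2.normalization X, IsClosed ({x'} : Set (Curv2.normalization X)) →
      ringKrullDim ((Curv2.normalization X).presheaf.stalk x') = 1 := by
    have h4454 := Groth.Agent.Lib.NormCurveKH4.main4454 k X hX X.functionField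
      (RingHom.id X.functionField) (RingHom.Finite.id _)
      (X.fromSpecStalk (genericPoint X)) (by
        rw [CommRingCat.ofHom_id]
        exact ((Spec.map_id _).symm ▸ (Category.id_comp _).symm))
    exact h4454.2.2
  rcases isAffine_or_isProper_of_normal k (Curv2.normalization X) hX' hnorm with haff | hprop
  · left
    haveI := haff
    exact Groth.Agent.S0021.result (Curv2.normalizationι X)
  · right
    have hpX : IsProper (X ↘ Spec (CommRingCat.of k)) :=
      (Groth.Agent.Lib.NormFieldFTH4.main4455 k X).mpr hprop
    haveI := hpX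
    exact OneDim9.main7645 k X hdim.le

end Main

end CurveComp9
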