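import Mathlib

/-!
# Schemes of dimension ≤ 0 (helper7)

All specialisations are trivial (`T1`), and in a quasi-separated `T1` scheme affine opens are
clopen, the space is totally separated, and quasi-compact opens are affine.
-/

universe u
open CategoryTheory CategoryTheory.Limits AlgebraicGeometry TopologicalSpace

namespace Groth.Agent.Lib.SchDimZeroH7

/-- In a scheme of dimension `≤ 0` all specialisations are trivial. -/
theorem eq_of_specializes (X : Scheme.{u}) (h : topologicalKrullDim X ≤ 0) {x y : X}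
    (hxy : x ⤳ y) : x = y := by
  have hmax := Order.krullDim_nonpos_iff_forall_isMax.mp h
  let Zx : IrreducibleCloseds X :=
    ⟨closure {x}, isIrreducible_singleton.closure, isClosed_closure⟩
  let Zy : IrreducibleCloseds X :=
    ⟨closure {y}, isIrreducible_singleton.closure, isClosed_closure⟩
  have hle : Zy ≤ Zx := by
    intro z hz
    exact (specializes_iff_closure_subset.mp hxy) hz
  have hle' : Zx ≤ Zy := hmax Zy hle
  have hyx : y ⤳ x := specializes_iff_closure_subset.mpr (fun z hz => hle' hz)
  exact (hxy.antisymm hyx).eq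

theorem t1Space (X : Scheme.{u}) (h : topologicalKrullDim X ≤ 0) : T1Space X :=
  t1Space_iff_specializes_imp_eq.mpr fun _ _ hxy => eq_of_specializes X h hxy

/-- In a quasi-separated `T1` scheme, affine opens are closed. -/
theorem isClosed_of_isAffineOpen (X : Scheme.{u}) [T1Space X] [QuasiSeparatedSpace X]
    {U : X.Opens} (hU : IsAffineOpen U) : IsClosed (U : Set X) := by
  haveI : IsAffine U := hU
  haveI : QuasiCompact U.ι := inferInstance
  have hsp : SpecializingMap U.ι := by
    intro x y hxy
    have hxy' : U.ι x ⤳ y := hxy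
    exact ⟨x, specializes_rfl, hxy'.eq⟩
  have := ((isClosedMap_iff_specializingMap U.ι).mpr hsp).isClosed_range
  rwa [Scheme.Opens.range_ι] at this

theorem exists_isClopen (X : Scheme.{u}) [T1Space X] [QuasiSeparatedSpace X] {x y : X}
    (hxy : x ≠ y) : ∃ U : Set X, IsClopen U ∧ x ∈ U ∧ y ∈ Uᶜ := by
  have hopen : IsOpen ({y}ᶜ : Set X) := isOpen_compl_singleton
  obtain ⟨_, ⟨W, hW, rfl⟩, hxW, hWy⟩ := X.isBasis_affineOpens.exists_subset_of_mem_open
    (show x ∈ ({y}ᶜ : Set X) from hxy) hopen
  exact ⟨W, ⟨isClosed_of_isAffineOpen X hW, W.2⟩, hxW, fun hy => hWy hy rfl⟩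

theorem totallySeparatedSpace (X : Scheme.{u}) [T1Space X] [QuasiSeparatedSpace X] :
    TotallySeparatedSpace X :=
  totallySeparatedSpace_iff_exists_isClopen.mpr fun _ _ hxy => exists_isClopen X hxy

/-- An open contained in an affine open and closed in the ambient scheme is affine. -/
theorem isAffineOpen_of_le_of_isClosed (X : Scheme.{u}) {V D : X.Opens} (hV : IsAffineOpen V)
    (hDV : D ≤ V) (hD : IsClosed (D : Set X)) : IsAffineOpen D := by
  haveI : IsAffine V := hV
  let j := X.homOfLE hDV
  have hr : Set.range j = V.ι ⁻¹' (D : Set X) := by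
    ext v
    constructor
    · rintro ⟨d, rfl⟩
      have : V.ι (j d) = D.ι d := by
        rw [← Scheme.Hom.comp_apply, Scheme.homOfLE_ι]
      show V.ι (j d) ∈ (D : Set X)
      rw [this]; exact d.2
    · intro hv
      refine ⟨⟨V.ι v, hv⟩, ?_⟩
      apply V.ι.isOpenEmbedding.injective
      rw [← Scheme.Hom.comp_apply, Scheme.homOfLE_ι]; rfl
  haveI : IsClosedImmersion j :=
    .of_isPreimmersion j (by rw [hr]; exact hD.preimage V.ι.continuous)
  exact isAffine_of_isAffineHom j

/-- In a quasi-separated `T1` scheme, quasi-compact opens are affine. -/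
theorem isAffineOpen_of_isCompact (X : Scheme.{u}) [T1Space X] [QuasiSeparatedSpace X]
    (U : X.Opens) (hU : IsCompact (U : Set X)) : IsAffineOpen U := by
  obtain ⟨s, hs, hUs⟩ :=
    (isCompact_and_isOpen_iff_finite_and_eq_biUnion_affineOpens (X := X)).mp ⟨hU, U.2⟩
  have key : ∀ s : Set X.affineOpens, s.Finite →
      ∃ W : X.Opens, IsAffineOpen W ∧ (W : Set X) = ⋃ i ∈ s, (i : Set X) := by
    intro s hs
    induction s, hs using Set.Finite.induction_on with
    | empty => exact ⟨⊥, isAffineOpen_bot X, by simp⟩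
    | @insert a s ha hs ih =>
      obtain ⟨W, hW, hWs⟩ := ih
      have hWc : IsClosed (W : Set X) := isClosed_of_isAffineOpen X hW
      let Wc : X.Opens := ⟨(W : Set X)ᶜ, hWc.isOpen_compl⟩
      have hD : IsAffineOpen (a.1 ⊓ Wc) := by
        apply isAffineOpen_of_le_of_isClosed X a.2 inf_le_left
        show IsClosed ((a.1 : Set X) ∩ (W : Set X)ᶜ)
        exact (isClosed_of_isAffineOpen X a.2).inter W.2.isClosed_compl
      refine ⟨W ⊔ (a.1 ⊓ Wc), hW.sup_of_disjoint hD ?_, ?_⟩
      · rw [← Opens.coe_disjoint]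
        show Disjoint (W : Set X) ((a.1 : Set X) ∩ (W : Set X)ᶜ)
        exact Set.disjoint_left.mpr fun z hz hz' => hz'.2 hz
      · rw [Set.biUnion_insert, ← hWs]
        show (W : Set X) ∪ ((a.1 : Set X) ∩ (W : Set X)ᶜ) = (a.1 : Set X) ∪ (W : Set X)
        ext z
        by_cases hz : z ∈ (W : Set X) <;> simp [hz]
  obtain ⟨W, hW, hWs⟩ := key s hs
  have hWU : W = U := Opens.ext (hWs.trans hUs.symm)
  exact hWU ▸ hW

end Groth.Agent.Lib.SchDimZeroH7
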