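import Mathlib
import Groth.Prelude
import Groth.Agent.Lib.CurveComp2_helper9
import Groth.Agent.Lib.ChevApps_helper7
import Groth.Agent.Lib.SchDimZero_helper7
import Groth.Agent.Lib.ProjSpaceProper_helper4

/-!
# A separated scheme of dimension at most one over a field without proper one-dimensional
components is affine (helper9).
APPEND-ONLY once landed.
-/

set_option autoImplicit false
universe u
open CategoryTheory CategoryTheory.Limits AlgebraicGeometry Opposite TopologicalSpace

namespace CurveComp9

section Comp

variable (k : Type u) [Field k] (X : Scheme.{u}) [X.Over (Spec (CommRingCat.of k))]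
  [IsSeparated (X ↘ Spec (CommRingCat.of k))] [LocallyOfFiniteType (X ↘ Spec (CommRingCat.of k))]
  [IsNoetherian X]

/-- a quasi-compact quasi-separated scheme of dimension at most zero is affine -/
theorem isAffine_of_dim_le_zero (T : Scheme.{u}) [CompactSpace T] [QuasiSeparatedSpace T]
    (h : topologicalKrullDim T ≤ 0) : IsAffine T := by
  haveI : T1Space T := Groth.Agent.Lib.SchDimZeroH7.t1Space T h
  have h1 : IsAffineOpen (⊤ : T.Opens) :=
    Groth.Agent.Lib.SchDimZeroH7.isAffineOpen_of_isCompact T ⊤ isCompact_univ
  haveI : IsAffine ((⊤ : T.Opens) : Scheme.{u}) := h1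
  exact IsAffine.of_isIso T.topIso.inv

theorem le_zero_of_le_one_of_ne {x : WithBot ℕ∞} (h1 : x ≤ 1) (h2 : x ≠ 1) : x ≤ 0 := by
  induction x using WithBot.recBotCoe with
  | bot => exact bot_le
  | coe n =>
    have h3 : n ≤ 1 := by exact_mod_cast h1
    have h4 : n ≠ 1 := fun h => h2 (by rw [h]; rfl)
    have h5 : n < 1 := lt_of_le_of_ne h3 h4
    have h6 : n = 0 := ENat.lt_one_iff_eq_zero.mp h5
    rw [h6]
    rfl

/-- the reduced structure on a non-proper (or zero-dimensional) irreducible closed subset of a
separated scheme of dimension at most one and of finite type over a field is affine -/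
theorem isAffine_component (hdim : topologicalKrullDim X ≤ 1)
    (Z : Closeds X) (hirr : IsIrreducible (Z : Set X)) (J : X.IdealSheafData)
    (hJ : J = Scheme.IdealSheafData.vanishingIdeal Z)
    (hnp : topologicalKrullDim (Z : Set X) = 1 →
      ¬ IsProper (J.subschemeι ≫ (X ↘ Spec (CommRingCat.of k)))) :
    IsAffine J.subscheme := by
  subst hJ
  obtain ⟨Z, hZ⟩ := Z
  have hy : closure ({hirr.genericPoint} : Set X) = Z := hirr.closure_genericPoint hZ
  obtain ⟨hint, -⟩ := CohDevH8.exists_isIntegral_subscheme Z hZ _ hy
  set T := (Scheme.IdealSheafData.vanishingIdeal ⟨Z, hZ⟩).subscheme with hT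
  set i := (Scheme.IdealSheafData.vanishingIdeal ⟨Z, hZ⟩).subschemeι with hi
  haveI : IsIntegral T := hint
  haveI : CompactSpace X := inferInstance
  haveI : QuasiCompact (X ↘ Spec (CommRingCat.of k)) := inferInstance
  letI : T.Over (Spec (CommRingCat.of k)) := ⟨i ≫ (X ↘ Spec (CommRingCat.of k))⟩
  have hov : (T ↘ Spec (CommRingCat.of k)) = i ≫ (X ↘ Spec (CommRingCat.of k)) := rfl
  haveI : IsSeparated (T ↘ Spec (CommRingCat.of k)) := by rw [hov]; infer_instance
  haveI : LocallyOfFiniteType (T ↘ Spec (CommRingCat.of k)) := by rw [hov]; infer_instance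
  haveI : QuasiCompact (T ↘ Spec (CommRingCat.of k)) := by rw [hov]; infer_instance
  have hrange : Set.range i = Z := by
    rw [hi, Scheme.IdealSheafData.range_subschemeι,
      Scheme.IdealSheafData.coe_support_vanishingIdeal]
    rfl
  have hdimT : topologicalKrullDim T = topologicalKrullDim ↥Z := by
    have h1 : topologicalKrullDim T = topologicalKrullDim ↥(Set.range i) :=
      IsHomeomorph.topologicalKrullDim_eq _
        (i.isEmbedding.toHomeomorph).isHomeomorph
    rw [h1, hrange]
  have hdimT1 : topologicalKrullDim T ≤ 1 :=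
    le_trans i.isEmbedding.toIsInducing.topologicalKrullDim_le hdim
  by_cases h1 : topologicalKrullDim T = 1
  · rcases main1627 k T h1 with haff | ⟨d, c, hc, hcs⟩
    · exact haff
    · exfalso
      refine hnp (hdimT.symm.trans h1) ?_
      haveI : IsProper (CohB1.ProjSpace.toSpec d k) :=
        Groth.Agent.Lib.ProjSpaceProperH4.isProper_toSpec d k
      haveI := hc
      have h2 : IsProper (c ≫ CohB1.ProjSpace.toSpec d k) := inferInstance
      rw [hcs] at h2
      exact h2
  · haveI : CompactSpace T :=
      QuasiCompact.compactSpace_of_compactSpace (T ↘ Spec (CommRingCat.of k))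
    haveI : IsLocallyNoetherian T :=
      LocallyOfFiniteType.isLocallyNoetherian (T ↘ Spec (CommRingCat.of k))
    haveI : IsNoetherian T := {}
    exact isAffine_of_dim_le_zero T (le_zero_of_le_one_of_ne hdimT1 h1)

/-- **S7646** -/
theorem main7646 (hdim : topologicalKrullDim X ≤ 1)
    (h : ∀ (C : Set X) (hC : C ∈ irreducibleComponents (X : Type u)),
      topologicalKrullDim C = 1 →
      ¬ IsProper ((X.irreducibleComponentIdeal C hC).radical.subschemeι ≫
        (X ↘ (Spec (CommRingCat.of k))))) :
    IsAffine X := by
  have hfin : (irreducibleComponents X).Finite := NoetherianSpace.finite_irreducibleComponents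
  haveI : Finite ↥(irreducibleComponents X) := hfin.to_subtype
  have haff : ∀ D : ↥(irreducibleComponents X),
      IsAffine (X.irreducibleComponentIdeal D.1 D.2).radical.subscheme := by
    intro D
    have hDcl := isClosed_of_mem_irreducibleComponents D.1 D.2
    exact isAffine_component k X hdim ⟨D.1, hDcl⟩ D.2.1
      (X.irreducibleComponentIdeal D.1 D.2).radical
      (by rw [← Scheme.IdealSheafData.vanishingIdeal_support]; congr 1) (h D.1 D.2)
  refine @Groth.Agent.Lib.ChevAppsH7.isAffine_of_finite_closed_cover X
    ↥(irreducibleComponents X) _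
    (fun D => (X.irreducibleComponentIdeal D.1 D.2).radical.subscheme)
    (fun D => (X.irreducibleComponentIdeal D.1 D.2).radical.subschemeι)
    (fun D => inferInstance) haff ?_
  intro x
  obtain ⟨D, hD, hxD⟩ := exists_mem_irreducibleComponents_subset_of_isIrreducible
    ({x} : Set X) isIrreducible_singleton
  refine ⟨⟨D, hD⟩, ?_⟩
  rw [Scheme.IdealSheafData.range_subschemeι, Scheme.IdealSheafData.support_radical]
  exact hxD (Set.mem_singleton x)

end Comp

end CurveComp9
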