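import Mathlib
import Groth.Prelude
import Groth.Agent.Lib.CurveComp3_helper9
import Groth.Agent.Lib.AmpleComp2_helper9
import Groth.Agent.Lib.NefTriv_helper9
import Groth.Agent.Lib.AffVanish_helper9

/-!
# Separated schemes of finite type and dimension at most one over a field have ample invertible
modules (helper9).
APPEND-ONLY once landed.
-/

set_option autoImplicit false
universe u
open CategoryTheory CategoryTheory.Limits AlgebraicGeometry Opposite TopologicalSpace

namespace CurveAmp9

open QcqsLoc QCohExtn GenLocH8 TensH8 FLFH8 Groth.Agent.HHVan Groth.Agent.TensInv CohB1 AmpleComp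

section Dev

variable {X : Scheme.{u}}

/-- ampleness from eventual vanishing of twisted `H¹` on the pieces of the dévissage -/
theorem isAmple_of_pieces [IsNoetherian X] {L : X.Modules} (hL : PicF.IsInvertible L)
    (h : ∀ Q : X.Modules, CohDevH8.IsIdealPush Q → EvVan L Q) : CohB1.IsAmple L := by
  have hcoh : ∀ M : X.Modules, Coh.IsCoh M → EvVan L M := by
    intro M hM
    obtain ⟨A, hA, hch⟩ := CohDevH8.hasFilt_of_isCoh M hM
    have key : ∀ A M : X.Modules, CohDevH8.Chain A M → EvVan L A → EvVan L M := by
      intro A M hc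
      induction hc with
      | refl A M e hA => exact fun h => h.of_iso e
      | cons A' A M ψ hψ hc hA' h' ih =>
        intro hA'v
        apply ih
        haveI := hψ
        let S : ShortComplex X.Modules :=
          ShortComplex.mk ψ (cokernel.π ψ) (cokernel.condition ψ)
        have hS : S.ShortExact :=
          ShortComplex.ShortExact.mk' (S.exact_of_g_is_cokernel (cokernelIsCokernel ψ))
            (inferInstanceAs (Mono ψ)) (inferInstanceAs (Epi (cokernel.π ψ)))
        exact evVan_ext hL S hS hA'v (h _ hc)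
    exact key A M hch (evVan_of_isZero hA)
  refine TensH8.isAmple_of_H1 hL (fun I i hi hI => ?_)
  haveI := hi
  have hIc : Coh.IsCoh I := RelAmpleVanH9.isCoh_of_mono_structureModule I i hI
  obtain ⟨n₀, h0⟩ := hcoh I hIc
  exact ⟨n₀, h0 (n₀ + 1) (Nat.le_succ _)⟩

/-- eventual vanishing for a direct image under a closed immersion follows from eventual
vanishing upstairs -/
theorem evVan_push [IsLocallyNoetherian X] {L : X.Modules} (hL : PicF.IsInvertible L)
    {Z : Scheme.{u}} (i : Z ⟶ X) [IsClosedImmersion i] {G : Z.Modules} (hG : Coh.IsCoh G)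
    (h : ∃ n₀ : ℕ, ∀ n : ℕ, n₀ ≤ n → Subsingleton (Coh.HH Z
      (CohB1.tensorMod G (CohB1.tensorPow ((Scheme.Modules.pullback i).obj L) n)) 1)) :
    EvVan L ((Scheme.Modules.pushforward i).obj G) := by
  haveI : IsLocallyNoetherian Z := LocallyOfFiniteType.isLocallyNoetherian i
  have hLZ := TensH8.isInvertible_pullback i hL
  obtain ⟨n₀, h⟩ := h
  refine ⟨n₀, fun n hn => ?_⟩
  have h1 := h n hn
  have hLn := TensH8.isInvertible_tensorPow hL n
  have hE' := FLFH8.IsFinLocFreeOfRank.isFinLocFree _
    (FLFH8.finLocFreeOfRank_one_of_isInvertible hLn)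
  obtain ⟨ep⟩ := DegPull.nonempty_pullback_tensorPow_iso i hL n
  let e₁ : CohB1.tensorMod ((Scheme.Modules.pushforward i).obj G) (CohB1.tensorPow L n) ≅
      CohB1.tensorMod (CohB1.tensorPow L n) ((Scheme.Modules.pushforward i).obj G) := comm _ _
  let e₂ : CohB1.tensorMod (CohB1.tensorPow L n) ((Scheme.Modules.pushforward i).obj G) ≅
      (Scheme.Modules.pushforward i).obj
        (CohB1.tensorMod ((Scheme.Modules.pullback i).obj (CohB1.tensorPow L n)) G) :=
    (PFormH9.projIso i (CohB1.tensorPow L n) hE').app G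
  let e₃ : (Scheme.Modules.pushforward i).obj
        (CohB1.tensorMod ((Scheme.Modules.pullback i).obj (CohB1.tensorPow L n)) G) ≅
      (Scheme.Modules.pushforward i).obj
        (CohB1.tensorMod G (CohB1.tensorPow ((Scheme.Modules.pullback i).obj L) n)) :=
    (Scheme.Modules.pushforward i).mapIso (comm _ _ ≪≫ mapL G ep)
  have hTc := CurveAmple.isCoh_tensorMod Z hG (TensH8.isInvertible_tensorPow hLZ n)
  haveI := hTc.1
  have hbij := Groth.Agent.Lib.PushEdge2_helper7.pushEdge_bijective_of_isAffineHom i
    (CohB1.tensorMod G (CohB1.tensorPow ((Scheme.Modules.pullback i).obj L) n)) 1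
  have h2 : Subsingleton (Coh.HH X ((Scheme.Modules.pushforward i).obj
      (CohB1.tensorMod G (CohB1.tensorPow ((Scheme.Modules.pullback i).obj L) n))) 1) :=
    ⟨fun a b => hbij.1 (Subsingleton.elim _ _)⟩
  exact subsingleton_of_iso (e₁ ≪≫ e₂ ≪≫ e₃).symm 1 h2

/-- direct images from affine closed subschemes have vanishing twisted `H¹` -/
theorem evVan_push_of_isAffine [IsLocallyNoetherian X] {L : X.Modules} (hL : PicF.IsInvertible L)
    {Z : Scheme.{u}} (i : Z ⟶ X) [IsClosedImmersion i] [IsAffine Z] {G : Z.Modules}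
    (hG : Coh.IsCoh G) : EvVan L ((Scheme.Modules.pushforward i).obj G) := by
  haveI : IsLocallyNoetherian Z := LocallyOfFiniteType.isLocallyNoetherian i
  have hLZ := TensH8.isInvertible_pullback i hL
  refine evVan_push hL i hG ⟨0, fun n _ => ?_⟩
  have hTc := CurveAmple.isCoh_tensorMod Z hG (TensH8.isInvertible_tensorPow hLZ n)
  haveI := hTc.1
  exact AffVanish.HH_subsingleton_of_isAffine Z _ 0

end Dev

end CurveAmp9

namespace CurveAmp9

section Open

variable {X : Scheme.{u}} [IsNoetherian X]

/-- on a Noetherian scheme of dimension at most one there is an affine open containing all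
maximal points, with finite complement consisting of closed points and meeting every
one-dimensional irreducible component -/
theorem exists_good_open (hdim : topologicalKrullDim X ≤ 1) :
    ∃ U : X.Opens, IsAffineOpen U ∧ ((U : Set X)ᶜ).Finite ∧
      (∀ z : X, z ∉ U → IsClosed ({z} : Set X)) ∧ (∀ x : X, IsMax x → x ∈ U) ∧
      (∀ D ∈ irreducibleComponents (X : Type u), topologicalKrullDim ↥D = 1 →
        ¬ D ⊆ (U : Set X)) := by
  classical
  have hfin : (irreducibleComponents X).Finite := NoetherianSpace.finite_irreducibleComponents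
  haveI : Finite ↥(irreducibleComponents X) := hfin.to_subtype
  have hpt : ∀ D ∈ irreducibleComponents X, ∃ p ∈ D, IsClosed ({p} : Set X) := by
    intro D hD
    exact (isClosed_of_mem_irreducibleComponents D hD).exists_closed_singleton hD.1.nonempty
  choose p hpD hpcl using hpt
  obtain ⟨P, hPdef⟩ : ∃ P : Set X, P = ⋃ D : ↥(irreducibleComponents X),
      ⋃ (_ : topologicalKrullDim ↥D.1 = 1), ({p D.1 D.2} : Set X) := ⟨_, rfl⟩
  have hPcl : IsClosed P := by
    rw [hPdef]
    exact isClosed_iUnion_of_finite (fun D => isClosed_iUnion_of_finite (fun _ => hpcl D.1 D.2))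
  have hPmem : ∀ (D : Set X) (hD : D ∈ irreducibleComponents X),
      topologicalKrullDim ↥D = 1 → p D hD ∈ P := by
    intro D hD hd
    rw [hPdef]
    exact Set.mem_iUnion.mpr ⟨⟨D, hD⟩, Set.mem_iUnion.mpr ⟨hd, Set.mem_singleton _⟩⟩
  have hPmem' : ∀ x ∈ P, ∃ (D : Set X) (hD : D ∈ irreducibleComponents X),
      topologicalKrullDim ↥D = 1 ∧ x = p D hD := by
    intro x hx
    rw [hPdef] at hx
    obtain ⟨D, hx⟩ := Set.mem_iUnion.mp hx
    obtain ⟨hd, hx⟩ := Set.mem_iUnion.mp hx
    exact ⟨D.1, D.2, hd, hx⟩
  -- the closed sets to avoid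
  let K : ↥(irreducibleComponents X) → Set X := fun D =>
    P ∪ ⋃ D' ∈ (irreducibleComponents X \ {D.1}), D'
  have hKcl : ∀ D, IsClosed (K D) := fun D =>
    hPcl.union ((hfin.subset Set.sdiff_subset).isClosed_biUnion
      (fun D' hD' => isClosed_of_mem_irreducibleComponents D' hD'.1))
  let η : ↥(irreducibleComponents X) → X := fun D => D.2.1.genericPoint
  have hη : ∀ D : ↥(irreducibleComponents X), closure ({η D} : Set X) = D.1 := fun D =>
    D.2.1.closure_genericPoint (isClosed_of_mem_irreducibleComponents D.1 D.2)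
  have hηmem : ∀ D : ↥(irreducibleComponents X), η D ∈ D.1 := fun D => by
    rw [← hη D]
    exact subset_closure (Set.mem_singleton _)
  have hηK : ∀ D, η D ∉ K D := by
    intro D hmem
    rcases hmem with hP | hU
    · obtain ⟨D', hD', hd', hx⟩ := hPmem' _ hP
      have hcl : IsClosed ({η D} : Set X) := hx ▸ hpcl D' hD'
      have h1 : D.1 = {η D} := by rw [← hη D, hcl.closure_eq]
      have h2 : D.1 ⊆ D' := by
        rw [h1, Set.singleton_subset_iff, hx]
        exact hpD D' hD'
      have h3 : D' ⊆ D.1 := D.2.2 hD'.1 h2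
      have h4 : D' = {η D} := by rw [← h1]; exact le_antisymm h3 h2
      haveI : Subsingleton ↥D' := by
        rw [h4]
        infer_instance
      have h5 : topologicalKrullDim ↥D' ≤ 0 := topologicalKrullDim_zero_of_discreteTopology _
      rw [hd'] at h5
      exact absurd h5 (by decide)
    · obtain ⟨D', hD', hx⟩ := Set.mem_iUnion₂.mp hU
      have h2 : D.1 ⊆ D' := by
        rw [← hη D]
        exact closure_minimal (Set.singleton_subset_iff.mpr hx)
          (isClosed_of_mem_irreducibleComponents D' hD'.1)
      have h3 : D' ⊆ D.1 := D.2.2 hD'.1.1 h2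
      exact hD'.2 (le_antisymm h3 h2)
  have hV : ∀ D : ↥(irreducibleComponents X), ∃ V : X.Opens, IsAffineOpen V ∧ η D ∈ V ∧
      (V : Set X) ⊆ (K D)ᶜ := by
    intro D
    obtain ⟨_, ⟨V, hV, rfl⟩, hxV, hVK⟩ := X.isBasis_affineOpens.exists_subset_of_mem_open
      (show η D ∈ (K D)ᶜ from hηK D) (hKcl D).isOpen_compl
    exact ⟨V, hV, hxV, hVK⟩
  choose V hVaff hηV hVK using hV
  have honly : ∀ (D : ↥(irreducibleComponents X)) (x : X), x ∈ V D →
      ∀ D' ∈ irreducibleComponents X, x ∈ D' → D' = D.1 := by
    intro D x hx D' hD' hxD'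
    by_contra hne
    exact hVK D hx (Or.inr (Set.mem_biUnion (show D' ∈ irreducibleComponents X \ {D.1} from
      ⟨hD', hne⟩) hxD'))
  have hdisj : Pairwise (Function.onFun Disjoint V) := by
    intro D D' hne
    show Disjoint (V D) (V D')
    rw [← Opens.coe_disjoint, Set.disjoint_left]
    intro x hx hx'
    obtain ⟨D'', hD'', hxD''⟩ := exists_mem_irreducibleComponents_subset_of_isIrreducible
      ({x} : Set X) isIrreducible_singleton
    have h1 := honly D x hx D'' hD'' (hxD'' (Set.mem_singleton x))
    have h2 := honly D' x hx' D'' hD'' (hxD'' (Set.mem_singleton x))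
    exact hne (Subtype.ext (h1.symm.trans h2))
  have hUaff : IsAffineOpen (⨆ D, V D) := IsAffineOpen.iSup_of_disjoint hVaff hdisj
  have hmaxU : ∀ x : X, IsMax x → x ∈ ⨆ D, V D := by
    intro x hx
    have hD := CurveH8.closure_mem_irreducibleComponents hx
    have h1 : η ⟨_, hD⟩ = x := by
      have hg1 : IsGenericPoint (η ⟨_, hD⟩) (closure ({x} : Set X)) := hη ⟨_, hD⟩
      have hg2 : IsGenericPoint x (closure ({x} : Set X)) := rfl
      exact hg1.eq hg2
    rw [Opens.mem_iSup]
    have h2 := hηV ⟨_, hD⟩
    rw [h1] at h2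
    exact ⟨⟨_, hD⟩, h2⟩
  have hclosed : ∀ z : X, z ∉ (⨆ D, V D) → IsClosed ({z} : Set X) := by
    intro z hz
    rcases CurveH8.isMin_or_isMax hdim z with hmin | hmax
    · exact CurveH8.isClosed_singleton_of_isMin hmin
    · exact absurd (hmaxU z hmax) hz
  refine ⟨⨆ D, V D, hUaff, ?_, hclosed, hmaxU, ?_⟩
  · exact Groth.Agent.Lib.CurveTopH7.finite_of_isClosed_of_forall_isClosed _
      (⨆ D, V D).2.isClosed_compl (fun z hz => hclosed z hz)
  · intro D hD hd hDU
    have h1 : p D hD ∈ ((⨆ D, V D : X.Opens) : Set X) := hDU (hpD D hD)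
    obtain ⟨D', hD'⟩ := Opens.mem_iSup.mp h1
    exact hVK D' hD' (Or.inl (hPmem D hD hd))

end Open

end CurveAmp9

namespace CurveAmp9

section Main

variable (k : Type u) [Field k] (X : Scheme.{u}) [X.Over (Spec (CommRingCat.of k))]
  [IsSeparated (X ↘ Spec (CommRingCat.of k))] [LocallyOfFiniteType (X ↘ Spec (CommRingCat.of k))]
  [QuasiCompact (X ↘ Spec (CommRingCat.of k))]

open AmpleComp GenLocH8 in
include k in
/-- **a separated scheme of finite type and of dimension at most one over a field has an ample
invertible module** -/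
theorem exists_isAmple (hdim : topologicalKrullDim X ≤ 1) : ∃ L : X.Modules, CohB1.IsAmple L := by
  haveI : IsLocallyNoetherian X :=
    LocallyOfFiniteType.isLocallyNoetherian (X ↘ Spec (CommRingCat.of k))
  haveI : CompactSpace X :=
    QuasiCompact.compactSpace_of_compactSpace (X ↘ Spec (CommRingCat.of k))
  haveI : IsNoetherian X := {}
  obtain ⟨U, hUaff, hUfin, hUcl, hUmax, hUmeet⟩ := exists_good_open hdim
  have hdisc : DiscreteTopology ↥((U : Set X)ᶜ) := by
    haveI : Finite ↥((U : Set X)ᶜ) := hUfin.to_subtype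
    haveI : T1Space ↥((U : Set X)ᶜ) := ⟨fun p => by
      have h1 : ({p} : Set ↥((U : Set X)ᶜ)) = Subtype.val ⁻¹' ({p.1} : Set X) := by
        ext q
        simp only [Set.mem_singleton_iff, Set.mem_preimage]
        exact ⟨fun h => congrArg Subtype.val h, fun h => Subtype.ext h⟩
      rw [h1]
      exact (hUcl p.1 p.2).preimage continuous_subtype_val⟩
    infer_instance
  have hloc : ∀ x : X, x ∉ U → IsNoetherianRing (X.presheaf.stalk x) ∧
      ringKrullDim (X.presheaf.stalk x) ≤ 1 :=
    fun x _ => ⟨inferInstance, BirCurve.ringKrullDim_stalk_le hdim x⟩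
  obtain ⟨⟨L, s, hL, hs⟩, -⟩ := OneDim9.main7669 X U hdisc hloc
  refine ⟨L, isAmple_of_pieces hL ?_⟩
  rintro Q ⟨Z, i, hcl, hint, I, ι, hι, hIq, -, ⟨e⟩⟩
  haveI := hcl
  haveI := hint
  haveI := hι
  haveI : IsLocallyNoetherian Z := LocallyOfFiniteType.isLocallyNoetherian i
  have hIc : Coh.IsCoh I := RelAmpleVanH9.isCoh_of_mono_structureModule I ι hIq
  refine EvVan.of_iso e.symm ?_
  letI : Z.Over (Spec (CommRingCat.of k)) := ⟨i ≫ (X ↘ Spec (CommRingCat.of k))⟩
  have hov : (Z ↘ Spec (CommRingCat.of k)) = i ≫ (X ↘ Spec (CommRingCat.of k)) := rfl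
  haveI : IsSeparated (Z ↘ Spec (CommRingCat.of k)) := by rw [hov]; infer_instance
  haveI : LocallyOfFiniteType (Z ↘ Spec (CommRingCat.of k)) := by rw [hov]; infer_instance
  haveI : QuasiCompact (Z ↘ Spec (CommRingCat.of k)) := by rw [hov]; infer_instance
  have hdimZ : topologicalKrullDim Z ≤ 1 :=
    (i.isClosedEmbedding.isInducing.topologicalKrullDim_le).trans hdim
  by_cases h1 : topologicalKrullDim Z = 1
  · rcases CurveComp9.main1627 k Z h1 with haff | ⟨d, c, hc, hcs⟩
    · haveI := haff
      exact evVan_push_of_isAffine hL i hIc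
    · haveI : IsProper (CohB1.ProjSpace.toSpec d k) :=
        Groth.Agent.Lib.ProjSpaceProperH4.isProper_toSpec d k
      haveI := hc
      haveI hprop : IsProper (Z ↘ Spec (CommRingCat.of k)) := by
        rw [← hcs]
        infer_instance
      have hLZ := TensH8.isInvertible_pullback i hL
      set y := i (genericPoint Z) with hy
      have hrange : Set.range i = closure ({y} : Set X) := by
        rw [hy, ← Set.image_singleton, i.isClosedEmbedding.closure_image_eq,
          (genericPoint_spec Z).def, Set.image_univ]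
      have hdimr : topologicalKrullDim ↥(Set.range i) = 1 := by
        rw [← h1]
        exact (IsHomeomorph.topologicalKrullDim_eq _
          i.isClosedEmbedding.isEmbedding.toHomeomorph.isHomeomorph).symm
      have hmax : IsMax y := by
        rcases CurveH8.isMin_or_isMax hdim y with hmin | hmax
        · exfalso
          have hcl' := CurveH8.isClosed_singleton_of_isMin hmin
          rw [hcl'.closure_eq] at hrange
          haveI : Subsingleton ↥(Set.range i) := by
            rw [hrange]
            infer_instance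
          have h3 : topologicalKrullDim ↥(Set.range i) ≤ 0 :=
            topologicalKrullDim_zero_of_discreteTopology _
          rw [hdimr] at h3
          exact absurd h3 (by decide)
        · exact hmax
      have hcomp : Set.range i ∈ irreducibleComponents (X : Type u) := by
        rw [hrange]
        exact CurveH8.closure_mem_irreducibleComponents hmax
      have hdeg : 0 < Curv2.deg k Z ((Scheme.Modules.pullback i).obj L) 1 := by
        by_contra hneg
        rw [not_lt] at hneg
        let e0 : Coh.structureModule Z ≅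
            (Scheme.Modules.pullback i).obj (Coh.structureModule X) :=
          (PBH8.pullbackUnitIso i).symm
        have hgen := genLocus_pullback i L hL s e0
        have hyU : genericPoint Z ∈ i ⁻¹ᵁ CohB1.genLocus L s := by
          rw [hs]
          exact hUmax y hmax
        by_cases ht : e0.hom ≫ (Scheme.Modules.pullback i).map s = 0
        · rw [ht, NefTriv.genLocus_zero] at hgen
          rw [← hgen] at hyU
          exact hyU
        · haveI := CurveDeg.isIso_of_deg_nonpos k Z h1 hLZ _ ht hneg
          rw [NefTriv.genLocus_eq_top_of_isIso] at hgen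
          refine hUmeet _ hcomp hdimr ?_
          rintro _ ⟨z, rfl⟩
          have hz : z ∈ i ⁻¹ᵁ CohB1.genLocus L s := by
            rw [← hgen]
            trivial
          rw [hs] at hz
          exact hz
      exact evVan_push hL i hIc
        (AmpleComp.exists_forall_HH1_subsingleton k Z hdimZ hLZ hdeg hIc)
  · haveI : CompactSpace Z :=
      QuasiCompact.compactSpace_of_compactSpace (Z ↘ Spec (CommRingCat.of k))
    haveI : IsAffine Z :=
      CurveComp9.isAffine_of_dim_le_zero Z (CurveComp9.le_zero_of_le_one_of_ne hdimZ h1)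
    exact evVan_push_of_isAffine hL i hIc

end Main

end CurveAmp9
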