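import Mathlib
import Groth.Prelude
import Groth.Agent.Lib.CurveAmp1_helper9
import Groth.Agent.S1497

/-!
# Separated schemes of finite type and dimension at most one over a field are quasi-projective
(helper9).
APPEND-ONLY once landed.
-/

set_option autoImplicit false
universe u
open CategoryTheory CategoryTheory.Limits AlgebraicGeometry Opposite TopologicalSpace

namespace CurveAmp9

section QProj

variable (k : Type u) [Field k] (X : Scheme.{u}) [X.Over (Spec (CommRingCat.of k))]
  [IsSeparated (X ↘ Spec (CommRingCat.of k))] [LocallyOfFiniteType (X ↘ Spec (CommRingCat.of k))]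
  [QuasiCompact (X ↘ Spec (CommRingCat.of k))]

open Groth.Agent.PnOver Groth.Agent.ProjBCn CohB1 in
/-- **S1667**, with quasi-compactness of the immersion -/
theorem exists_immersion (hdim : topologicalKrullDim X ≤ 1) :
    ∃ (n : ℕ) (i : X ⟶ CohB1.ProjSpace n k), IsImmersion i ∧ QuasiCompact i ∧
      i ≫ CohB1.ProjSpace.toSpec n k = X ↘ (Spec (CommRingCat.of k)) := by
  obtain ⟨L, hL⟩ := exists_isAmple k X hdim
  have hS : ∃ N : (Spec (CommRingCat.of k)).Modules, CohB1.IsAmple N :=
    ⟨Coh.structureModule _, TensH8.isAmple_structureModule_iff.mpr inferInstance⟩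
  obtain ⟨n, i, hi, hqc, hif⟩ : ∃ (n : ℕ) (i : X ⟶ pullback (ProjSpace.toSpec n (ULift.{u} ℤ))
      (specULiftZIsTerminal.from (Spec (CommRingCat.of k)))), IsImmersion i ∧ QuasiCompact i ∧
      i ≫ pullback.snd (ProjSpace.toSpec n (ULift.{u} ℤ))
        (specULiftZIsTerminal.from (Spec (CommRingCat.of k))) = X ↘ Spec (CommRingCat.of k) :=
    (Groth.Agent.S1497.result hS (X ↘ Spec (CommRingCat.of k))).mpr
      ⟨inferInstance, inferInstance, L, hL⟩
  have h1 : specULiftZIsTerminal.from (Spec (CommRingCat.of k)) =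
      Spec.map (CommRingCat.ofHom (zHom k)) := specULiftZIsTerminal.hom_ext _ _
  have hpb : IsPullback (projMapH n (zHom k)) (ProjSpace.toSpec n k)
      (ProjSpace.toSpec n (ULift.{u} ℤ)) (specULiftZIsTerminal.from (Spec (CommRingCat.of k))) := by
    rw [h1]
    exact isPullback_projMapH n (zHom k)
  haveI := hi
  haveI := hqc
  refine ⟨n, i ≫ hpb.isoPullback.inv, inferInstance, inferInstance, ?_⟩
  rw [Category.assoc, hpb.isoPullback_inv_snd]
  exact hif

end QProj

end CurveAmp9
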