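import Mathlib
import Groth.Prelude
import Groth.Agent.Lib.CurveComp2_helper9
import Groth.Agent.Lib.ChevApps_helper7
import Groth.Agent.Lib.LocIntegral_helper4

/-!
# Normal completions of (possibly disconnected) normal curves (helper9).
APPEND-ONLY once landed.
-/

set_option autoImplicit false
universe u
open CategoryTheory CategoryTheory.Limits AlgebraicGeometry Opposite TopologicalSpace

namespace CurveComp9

section Decomp

variable {X : Scheme.{u}}

/-- an irreducible component meeting an irreducible open set is its closure -/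
theorem eq_closure_of_mem_irreducibleComponents {D : Set X}
    (hD : D ∈ irreducibleComponents (X : Type u)) {x : X} (hx : x ∈ D)
    (W : X.Opens) (hxW : x ∈ W) (hW : IsIrreducible (W : Set X)) : D = closure (W : Set X) := by
  have hDirr : IsIrreducible D := hD.1
  have h1 : D ⊆ closure (D ∩ (W : Set X)) := by
    intro y hy
    rw [mem_closure_iff]
    intro V hV hyV
    have := hDirr.2 V W hV W.2 ⟨y, hy, hyV⟩ ⟨x, hx, hxW⟩
    obtain ⟨z, hzD, hzV, hzW⟩ := this
    exact ⟨z, hzV, hzD, hzW⟩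
  have h2 : D ⊆ closure (W : Set X) := h1.trans (closure_mono Set.inter_subset_right)
  exact le_antisymm h2 (hD.2 hW.closure h2)

variable [IsLocallyNoetherian X] (hdom : ∀ x : X, IsDomain (X.presheaf.stalk x))

include hdom in
theorem isOpen_of_mem_irreducibleComponents {D : Set X}
    (hD : D ∈ irreducibleComponents (X : Type u)) : IsOpen D := by
  rw [isOpen_iff_forall_mem_open]
  intro x hx
  haveI := hdom x
  obtain ⟨W, hxW, hW⟩ := Groth.Agent.Lib.LocIntegralH4.exists_irreducible_open_nhds X x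
  refine ⟨W, ?_, W.2, hxW⟩
  rw [eq_closure_of_mem_irreducibleComponents hD hx W hxW hW]
  exact subset_closure

include hdom in
theorem eq_of_mem_irreducibleComponents {D D' : Set X}
    (hD : D ∈ irreducibleComponents (X : Type u)) (hD' : D' ∈ irreducibleComponents (X : Type u))
    {x : X} (hx : x ∈ D) (hx' : x ∈ D') : D = D' := by
  haveI := hdom x
  obtain ⟨W, hxW, hW⟩ := Groth.Agent.Lib.LocIntegralH4.exists_irreducible_open_nhds X x
  rw [eq_closure_of_mem_irreducibleComponents hD hx W hxW hW,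
    eq_closure_of_mem_irreducibleComponents hD' hx' W hxW hW]

include hdom in
theorem isIntegral_component {D : Set X} (hD : D ∈ irreducibleComponents (X : Type u))
    (U : X.Opens) (hU : (U : Set X) = D) : IsIntegral (U : Scheme.{u}) := by
  haveI : IsReduced X := by
    haveI : ∀ x : X, _root_.IsReduced (X.presheaf.stalk x) := fun x => by
      haveI := hdom x
      infer_instance
    exact isReduced_of_isReduced_stalk X
  haveI : IsReduced (U : Scheme.{u}) := isReduced_of_isOpenImmersion U.ι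
  have hirr : IsIrreducible (U : Set X) := hU ▸ hD.1
  haveI : IrreducibleSpace ↥(U : Scheme.{u}) := Subtype.irreducibleSpace hirr
  exact isIntegral_of_irreducibleSpace_of_isReduced _

end Decomp

end CurveComp9

namespace CurveComp9

section Sigma

open Groth.Agent.Lib.ChevAppsH7

variable {S : Scheme.{u}} {κ : Type u} [Finite κ] (Z : κ → Scheme.{u}) (α : ∀ k, Z k ⟶ S)

/-- a finite coproduct of separated morphisms is separated (valuative criterion) -/
theorem isSeparated_sigmaDesc [QuasiSeparated (Sigma.desc α)] [∀ k, IsSeparated (α k)] :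
    IsSeparated (Sigma.desc α) := by
  apply IsSeparated.of_valuativeCriterion
  intro Sq
  obtain ⟨k, y, hy⟩ := exists_sigmaι_eq Z (Sq.i₁ (IsLocalRing.closedPoint Sq.K))
  have hrange : ∀ l : Sq.commSq.LiftStruct, Set.range l.l ⊆ Set.range (Sigma.ι Z k) := by
    intro l
    rintro _ ⟨p, rfl⟩
    obtain ⟨j, z, hz⟩ := exists_sigmaι_eq Z (l.l p)
    let η : ↥(Spec (CommRingCat.of Sq.R)) :=
      (Spec.map (CommRingCat.ofHom (algebraMap Sq.R Sq.K))) (IsLocalRing.closedPoint Sq.K)
    have hηp : η ⤳ p := by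
      refine (PrimeSpectrum.le_iff_specializes (R := Sq.R) η p).mp ?_
      intro a ha
      have h0' : (algebraMap Sq.R Sq.K) a ∈ IsLocalRing.maximalIdeal Sq.K := ha
      have h0 : (algebraMap Sq.R Sq.K) a = 0 := by
        rw [IsLocalRing.maximalIdeal_eq_bot (R := Sq.K), Ideal.mem_bot] at h0'
        exact h0'
      have h1 : a = 0 := (IsFractionRing.injective Sq.R Sq.K) (h0.trans (map_zero _).symm)
      rw [h1]
      exact p.asIdeal.zero_mem
    have h2 : l.l η ⤳ l.l p := hηp.map l.l.continuous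
    have h3 : l.l p ∈ (Sigma.ι Z j).opensRange := ⟨z, hz⟩
    have h4 : l.l η ∈ (Sigma.ι Z j).opensRange := h2.mem_open (Sigma.ι Z j).opensRange.2 h3
    have h5 : l.l η = Sq.i₁ (IsLocalRing.closedPoint Sq.K) := by
      show (Spec.map (CommRingCat.ofHom (algebraMap Sq.R Sq.K)) ≫ l.l)
        (IsLocalRing.closedPoint Sq.K) = _
      rw [l.fac_left]
    have h6 : l.l η ∈ (Sigma.ι Z k).opensRange := ⟨y, hy.trans h5.symm⟩
    have hjk : j = k := by
      by_contra hne
      have hd := disjoint_opensRange_sigmaι Z j k hne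
      exact (Set.disjoint_left.mp ((Opens.coe_disjoint).mpr hd)) h4 h6
    subst hjk
    exact ⟨z, hz⟩
  refine ⟨fun l₁ l₂ => ?_⟩
  have hl₁ := IsOpenImmersion.lift_fac (Sigma.ι Z k) l₁.l (hrange l₁)
  have hl₂ := IsOpenImmersion.lift_fac (Sigma.ι Z k) l₂.l (hrange l₂)
  set m₁ := IsOpenImmersion.lift (Sigma.ι Z k) l₁.l (hrange l₁) with hm₁
  set m₂ := IsOpenImmersion.lift (Sigma.ι Z k) l₂.l (hrange l₂) with hm₂
  have hsq : CommSq (Spec.map (CommRingCat.ofHom (algebraMap Sq.R Sq.K)) ≫ m₁)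
      (Spec.map (CommRingCat.ofHom (algebraMap Sq.R Sq.K))) (α k) Sq.i₂ := ⟨by
    rw [Category.assoc]
    congr 1
    calc m₁ ≫ α k = m₁ ≫ (Sigma.ι Z k ≫ Sigma.desc α) := by rw [Sigma.ι_desc]
      _ = (m₁ ≫ Sigma.ι Z k) ≫ Sigma.desc α := (Category.assoc _ _ _).symm
      _ = l₁.l ≫ Sigma.desc α := by rw [hl₁]
      _ = Sq.i₂ := l₁.fac_right⟩
  have huniq := IsSeparated.valuativeCriterion (α k) ⟨Sq.R, Sq.K, _, Sq.i₂, hsq⟩
  have hm : Spec.map (CommRingCat.ofHom (algebraMap Sq.R Sq.K)) ≫ m₁ =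
      Spec.map (CommRingCat.ofHom (algebraMap Sq.R Sq.K)) ≫ m₂ := by
    rw [← cancel_mono (Sigma.ι Z k), Category.assoc, Category.assoc, hl₁, hl₂, l₁.fac_left,
      l₂.fac_left]
  let L₁ : hsq.LiftStruct := ⟨m₁, rfl, by
    calc m₁ ≫ α k = m₁ ≫ (Sigma.ι Z k ≫ Sigma.desc α) := by rw [Sigma.ι_desc]
      _ = (m₁ ≫ Sigma.ι Z k) ≫ Sigma.desc α := (Category.assoc _ _ _).symm
      _ = l₁.l ≫ Sigma.desc α := by rw [hl₁]
      _ = Sq.i₂ := l₁.fac_right⟩
  let L₂ : hsq.LiftStruct := ⟨m₂, hm.symm, by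
    calc m₂ ≫ α k = m₂ ≫ (Sigma.ι Z k ≫ Sigma.desc α) := by rw [Sigma.ι_desc]
      _ = (m₂ ≫ Sigma.ι Z k) ≫ Sigma.desc α := (Category.assoc _ _ _).symm
      _ = l₂.l ≫ Sigma.desc α := by rw [hl₂]
      _ = Sq.i₂ := l₂.fac_right⟩
  have hL : L₁ = L₂ := huniq.elim L₁ L₂
  have hmm : m₁ = m₂ := congrArg CommSq.LiftStruct.l hL
  ext
  rw [← hl₁, ← hl₂, hmm]

end Sigma

end CurveComp9

namespace CurveComp9

section Piece

variable (k : Type u) [Field k] (X : Scheme.{u}) [X.Over (Spec (CommRingCat.of k))]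
  [LocallyOfFiniteType (X ↘ Spec (CommRingCat.of k))] [QuasiCompact (X ↘ Spec (CommRingCat.of k))]
  [IsSeparated (X ↘ Spec (CommRingCat.of k))]

theorem ringKrullDim_stalk_of_isOpenImmersion {T Y : Scheme.{u}} (i : T ⟶ Y) [IsOpenImmersion i]
    (t : T) : ringKrullDim (T.presheaf.stalk t) = ringKrullDim (Y.presheaf.stalk (i t)) :=
  (ringKrullDim_eq_of_ringEquiv (asIso (i.stalkMap t)).commRingCatIsoToRingEquiv).symm

theorem isNormal_stalk_of_isOpenImmersion {T Y : Scheme.{u}} (i : T ⟶ Y) [IsOpenImmersion i]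
    (t : T) (h : IsDomain (Y.presheaf.stalk (i t)) ∧ IsIntegrallyClosed (Y.presheaf.stalk (i t))) :
    IsDomain (T.presheaf.stalk t) ∧ IsIntegrallyClosed (T.presheaf.stalk t) := by
  obtain ⟨h1, h2⟩ := h
  let e : Y.presheaf.stalk (i t) ≃+* T.presheaf.stalk t :=
    (asIso (i.stalkMap t)).commRingCatIsoToRingEquiv
  haveI : IsDomain (T.presheaf.stalk t) := e.symm.toMulEquiv.isDomain _
  exact ⟨inferInstance, IsIntegrallyClosed.of_equiv e⟩

/-- completion of an integral open and closed piece of a normal curve -/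
theorem exists_completion_of_open
    (hcurve : ∀ x : X, IsClosed ({x} : Set X) → ringKrullDim (X.presheaf.stalk x) = 1)
    (hnorm : Pi1.IsNormalScheme X)
    {T : Scheme.{u}} (i : T ⟶ X) [IsOpenImmersion i] [IsIntegral T]
    (hcl : IsClosed (Set.range i)) :
    ∃ (C : Scheme.{u}) (sc : C ⟶ Spec (CommRingCat.of k)) (j : T ⟶ C),
      IsIntegral C ∧ IsProper sc ∧ Pi1.IsNormalScheme C ∧
      (∀ c : C, IsClosed ({c} : Set C) → ringKrullDim (C.presheaf.stalk c) = 1) ∧
      IsOpenImmersion j ∧ j ≫ sc = i ≫ (X ↘ Spec (CommRingCat.of k)) := by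
  letI : T.Over (Spec (CommRingCat.of k)) := ⟨i ≫ (X ↘ Spec (CommRingCat.of k))⟩
  have hov : (T ↘ Spec (CommRingCat.of k)) = i ≫ (X ↘ Spec (CommRingCat.of k)) := rfl
  haveI : CompactSpace X :=
    QuasiCompact.compactSpace_of_compactSpace (X ↘ Spec (CommRingCat.of k))
  haveI : IsLocallyNoetherian X :=
    LocallyOfFiniteType.isLocallyNoetherian (X ↘ Spec (CommRingCat.of k))
  haveI : IsNoetherian X := {}
  haveI : QuasiCompact i := inferInstance
  haveI : IsSeparated (T ↘ Spec (CommRingCat.of k)) := by rw [hov]; infer_instance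
  haveI : LocallyOfFiniteType (T ↘ Spec (CommRingCat.of k)) := by rw [hov]; infer_instance
  haveI : QuasiCompact (T ↘ Spec (CommRingCat.of k)) := by rw [hov]; infer_instance
  have hce : Topology.IsClosedEmbedding i :=
    ⟨i.isOpenEmbedding.toIsEmbedding, hcl⟩
  have hT : ∀ t : T, IsClosed ({t} : Set T) → ringKrullDim (T.presheaf.stalk t) = 1 := by
    intro t ht
    rw [ringKrullDim_stalk_of_isOpenImmersion i t]
    refine hcurve (i t) ?_
    have := hce.isClosedMap _ ht
    rwa [Set.image_singleton] at this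
  have hTn : Pi1.IsNormalScheme T := fun t => isNormal_stalk_of_isOpenImmersion i t (hnorm (i t))
  obtain ⟨C, hCo, hCi, j, hprop, hCn, hCd, hj, hjc⟩ := exists_completion k T hT hTn
  exact ⟨C, C ↘ Spec (CommRingCat.of k), j, hCi, hprop, hCn, hCd, hj, hjc⟩

end Piece

end CurveComp9

namespace CurveComp9

section Main4444

open Groth.Agent.Lib.ChevAppsH7

theorem isNormal_stalk_of_isOpenImmersion' {T Y : Scheme.{u}} (i : T ⟶ Y) [IsOpenImmersion i]
    (t : T) (h : IsDomain (T.presheaf.stalk t) ∧ IsIntegrallyClosed (T.presheaf.stalk t)) :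
    IsDomain (Y.presheaf.stalk (i t)) ∧ IsIntegrallyClosed (Y.presheaf.stalk (i t)) := by
  obtain ⟨h1, h2⟩ := h
  let e : Y.presheaf.stalk (i t) ≃+* T.presheaf.stalk t :=
    (asIso (i.stalkMap t)).commRingCatIsoToRingEquiv
  haveI : IsDomain (Y.presheaf.stalk (i t)) := e.toMulEquiv.isDomain _
  exact ⟨inferInstance, IsIntegrallyClosed.of_equiv e.symm⟩

variable (k : Type u) [Field k] (X : Scheme.{u}) [X.Over (Spec (CommRingCat.of k))]
  [LocallyOfFiniteType (X ↘ Spec (CommRingCat.of k))] [QuasiCompact (X ↘ Spec (CommRingCat.of k))]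
  [IsSeparated (X ↘ Spec (CommRingCat.of k))]

/-- **S4444** -/
theorem main4444
    (hcurve : ∀ x : X, IsClosed ({x} : Set X) → ringKrullDim (X.presheaf.stalk x) = 1)
    (hnorm : Pi1.IsNormalScheme X) :
    ∃ (Xc : Scheme.{u}) (sc : Xc ⟶ Spec (CommRingCat.of k)) (j : X ⟶ Xc),
      IsOpenImmersion j ∧ Dense (Set.range j.base) ∧
      j ≫ sc = X ↘ (Spec (CommRingCat.of k)) ∧ IsProper sc ∧ Pi1.IsNormalScheme Xc ∧
      ∀ x : Xc, IsClosed ({x} : Set Xc) → ringKrullDim (Xc.presheaf.stalk x) = 1 := by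
  haveI : CompactSpace X :=
    QuasiCompact.compactSpace_of_compactSpace (X ↘ Spec (CommRingCat.of k))
  haveI : IsLocallyNoetherian X :=
    LocallyOfFiniteType.isLocallyNoetherian (X ↘ Spec (CommRingCat.of k))
  haveI : IsNoetherian X := {}
  have hdom : ∀ x : X, IsDomain (X.presheaf.stalk x) := fun x => (hnorm x).1
  have hfin : (irreducibleComponents X).Finite := NoetherianSpace.finite_irreducibleComponents
  haveI : Finite ↥(irreducibleComponents X) := hfin.to_subtype
  let U : ↥(irreducibleComponents X) → X.Opens := fun D =>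
    ⟨D.1, isOpen_of_mem_irreducibleComponents hdom D.2⟩
  haveI hUint : ∀ D, IsIntegral (U D : Scheme.{u}) := fun D =>
    isIntegral_component hdom D.2 (U D) rfl
  have hUcl : ∀ D, IsClosed (Set.range (U D).ι) := fun D => by
    rw [Scheme.Opens.range_ι]
    exact isClosed_of_mem_irreducibleComponents D.1 D.2
  choose C sc j hCi hprop hCn hCd hj hjc using fun D =>
    exists_completion_of_open k X hcurve hnorm (U D).ι (hUcl D)
  haveI := hprop
  haveI := hj
  -- the decomposition of `X`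
  have hEo : IsOpenImmersion (Sigma.desc (fun D => (U D).ι)) := by
    refine isOpenImmersion_sigmaDesc _ _ (fun D D' hne => ?_)
    show Disjoint (Set.range (U D).ι) (Set.range (U D').ι)
    rw [Scheme.Opens.range_ι, Scheme.Opens.range_ι, Set.disjoint_left]
    intro x hx hx'
    exact hne (Subtype.ext (eq_of_mem_irreducibleComponents hdom D.2 D'.2 hx hx'))
  haveI := hEo
  haveI hEs : Surjective (Sigma.desc (fun D => (U D).ι)) := by
    refine Surjective.sigmaDesc_of_union_range_eq_univ ?_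
    rw [Set.eq_univ_iff_forall]
    intro x
    obtain ⟨D, hD, hxD⟩ := exists_mem_irreducibleComponents_subset_of_isIrreducible
      ({x} : Set X) isIrreducible_singleton
    refine Set.mem_iUnion.mpr ⟨⟨D, hD⟩, ?_⟩
    rw [Scheme.Opens.range_ι]
    exact hxD (Set.mem_singleton x)
  haveI hEi : IsIso (Sigma.desc (fun D => (U D).ι)) :=
    (isIso_iff_isOpenImmersion_and_surjective _).mpr ⟨hEo, hEs⟩
  -- the map to the coproduct of the completions
  have hJo : IsOpenImmersion (Sigma.desc (fun D => j D ≫ Sigma.ι C D)) := by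
    refine isOpenImmersion_sigmaDesc _ _ (fun D D' hne => ?_)
    show Disjoint (Set.range (j D ≫ Sigma.ι C D)) (Set.range (j D' ≫ Sigma.ι C D'))
    have hd := disjoint_opensRange_sigmaι C D D' hne
    have hd' : Disjoint (Set.range (Sigma.ι C D)) (Set.range (Sigma.ι C D')) :=
      (Opens.coe_disjoint).mpr hd
    refine hd'.mono ?_ ?_
    · rintro _ ⟨t, rfl⟩
      exact ⟨j D t, rfl⟩
    · rintro _ ⟨t, rfl⟩
      exact ⟨j D' t, rfl⟩
  haveI := hJo
  refine ⟨∐ C, Sigma.desc sc,
    inv (Sigma.desc (fun D => (U D).ι)) ≫ Sigma.desc (fun D => j D ≫ Sigma.ι C D),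
    inferInstance, ?_, ?_, ?_, ?_, ?_⟩
  · -- density
    have hr : Set.range (inv (Sigma.desc (fun D => (U D).ι)) ≫
        Sigma.desc (fun D => j D ≫ Sigma.ι C D)) =
        Set.range (Sigma.desc (fun D => j D ≫ Sigma.ι C D)) := by
      apply le_antisymm
      · rintro _ ⟨x, rfl⟩
        exact ⟨inv (Sigma.desc (fun D => (U D).ι)) x, rfl⟩
      · rintro _ ⟨y, rfl⟩
        refine ⟨Sigma.desc (fun D => (U D).ι) y, ?_⟩
        rw [← Scheme.Hom.comp_apply, IsIso.hom_inv_id_assoc]
    show Dense (Set.range (inv (Sigma.desc (fun D => (U D).ι)) ≫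
        Sigma.desc (fun D => j D ≫ Sigma.ι C D)))
    rw [hr, dense_iff_inter_open]
    intro V hV ⟨x, hxV⟩
    obtain ⟨D, c, rfl⟩ := exists_sigmaι_eq C x
    haveI := hCi D
    have hVo : IsOpen ((Sigma.ι C D) ⁻¹' V) := hV.preimage (Sigma.ι C D).continuous
    have hne : ((Sigma.ι C D) ⁻¹' V).Nonempty := ⟨c, hxV⟩
    have hUne : Nonempty ↥(U D : Scheme.{u}) := inferInstance
    obtain ⟨t⟩ := hUne
    have hjo : IsOpen (Set.range (j D)) := (j D).isOpenEmbedding.isOpen_range
    have hjne : (Set.range (j D)).Nonempty := ⟨j D t, ⟨t, rfl⟩⟩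
    obtain ⟨c', hc'V, t', rfl⟩ := nonempty_preirreducible_inter hVo hjo hne hjne
    refine ⟨Sigma.ι C D (j D t'), hc'V,
      (Sigma.ι (fun D => ((U D : X.Opens) : Scheme.{u})) D) t', ?_⟩
    rw [← Scheme.Hom.comp_apply, Sigma.ι_desc, Scheme.Hom.comp_apply]
  · rw [Category.assoc, IsIso.inv_comp_eq]
    apply Sigma.hom_ext
    intro D
    rw [Sigma.ι_desc_assoc, Sigma.ι_desc_assoc, Category.assoc, Sigma.ι_desc, hjc D]
  · haveI : LocallyOfFiniteType (Sigma.desc sc) :=
      IsZariskiLocalAtSource.sigmaDesc (fun D => inferInstance)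
    haveI : QuasiCompact (Sigma.desc sc) := quasiCompact_sigmaDesc C sc
    haveI : UniversallyClosed (Sigma.desc sc) := universallyClosed_sigmaDesc C sc
    haveI : IsLocallyNoetherian (∐ C) := LocallyOfFiniteType.isLocallyNoetherian (Sigma.desc sc)
    haveI : QuasiSeparated (Sigma.desc sc) := inferInstance
    haveI : IsSeparated (Sigma.desc sc) := isSeparated_sigmaDesc C sc
    exact (isProper_iff _).mpr ⟨inferInstance, inferInstance, inferInstance⟩
  · intro x
    obtain ⟨D, c, rfl⟩ := exists_sigmaι_eq C x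
    exact isNormal_stalk_of_isOpenImmersion' (Sigma.ι C D) c (hCn D c)
  · intro x hx
    obtain ⟨D, c, rfl⟩ := exists_sigmaι_eq C x
    rw [← ringKrullDim_stalk_of_isOpenImmersion (Sigma.ι C D) c]
    refine hCd D c ?_
    have h1 : ({c} : Set (C D)) = (Sigma.ι C D) ⁻¹' {Sigma.ι C D c} := by
      ext c'
      simp only [Set.mem_singleton_iff, Set.mem_preimage]
      exact ⟨fun h => by rw [h], fun h => (Sigma.ι C D).isOpenEmbedding.injective h⟩
    rw [h1]
    exact hx.preimage (Sigma.ι C D).continuous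

end Main4444

end CurveComp9
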