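import Mathlib
import Groth.Prelude
import Groth.Agent.Lib.CurveAmp2_helper9
import Groth.Agent.Lib.CurveComp4_helper9
import Groth.Agent.Lib.SchFT_helper8
import Groth.Agent.Lib.DimFT2_helper8

/-!
# Dimension of a scheme of finite type over a field with a dense open of bounded dimension;
projective completions of schemes of dimension at most one (helper9).
APPEND-ONLY once landed.
-/

set_option autoImplicit false
universe u
open CategoryTheory CategoryTheory.Limits AlgebraicGeometry Opposite TopologicalSpace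

namespace CurveAmp9

section DimFT

attribute [local instance] Curv2.resAlgebra

variable (k : Type u) [Field k] (Y : Scheme.{u}) [Y.Over (Spec (CommRingCat.of k))]
  [LocallyOfFiniteType (Y ↘ Spec (CommRingCat.of k))]

/-- the local dimension at a closed point is the transcendence degree of the residue field of
some maximal point specializing to it -/
theorem exists_max_trdeg_eq (y : Y) (hy : IsClosed ({y} : Set Y)) :
    ∃ (η : Y) (n : ℕ), (∀ z : Y, z ⤳ η → z = η) ∧ η ⤳ y ∧
      Algebra.trdeg k (Y.residueField η) = n ∧ ringKrullDim (Y.presheaf.stalk y) = n := by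
  classical
  obtain ⟨_, ⟨U, hU, rfl⟩, hyU, -⟩ :=
    Y.isBasis_affineOpens.exists_subset_of_mem_open (Set.mem_univ y) isOpen_univ
  letI := Groth.Agent.SchFTH8.secAlgebra k Y U
  haveI := Groth.Agent.SchFTH8.finiteType_sec k Y U hU
  haveI hm : (hU.primeIdealOf ⟨y, hyU⟩).asIdeal.IsMaximal :=
    hU.primeIdealOf_isMaximal_of_isClosed ⟨y, hyU⟩ hy
  obtain ⟨q, hqmin, hqm, hqp, n, h1, h2⟩ :=
    Groth.Agent.DimFT2H8.exists_minimalPrimes_trdeg_eq_height k Γ(Y, U)
      (hU.primeIdealOf ⟨y, hyU⟩).asIdeal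
  have hηU : hU.fromSpec ⟨q, hqp⟩ ∈ U := Groth.Agent.SchFTH8.fromSpec_mem hU _
  have hpη := Groth.Agent.SchFTH8.primeIdealOf_fromSpec hU ⟨q, hqp⟩ hηU
  refine ⟨hU.fromSpec ⟨q, hqp⟩, n, ?_, ?_, ?_, ?_⟩
  · intro z hz
    have hzU : z ∈ U := hz.mem_open U.2 hηU
    have hle := (Groth.Agent.SchFTH8.specializes_iff_primeIdealOf_le hU z _ hzU hηU).mp hz
    rw [hpη] at hle
    have hge : q ≤ (hU.primeIdealOf ⟨z, hzU⟩).asIdeal :=
      hqmin.2 ⟨(hU.primeIdealOf ⟨z, hzU⟩).2, bot_le⟩ hle
    have heq : hU.primeIdealOf ⟨z, hzU⟩ = ⟨q, hqp⟩ := PrimeSpectrum.ext (le_antisymm hle hge)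
    have := congrArg hU.fromSpec heq
    rw [hU.fromSpec_primeIdealOf] at this
    exact this
  · rw [Groth.Agent.SchFTH8.specializes_iff_primeIdealOf_le hU _ y hηU hyU, hpη]
    exact hqm
  · have htr2 := Groth.Agent.SchFTH8.trdeg_residueField k hU _ hηU
    rw [hpη] at htr2
    rw [htr2]
    exact h1
  · rw [Groth.Agent.SchFTH8.ringKrullDim_stalk_eq_height hU y hyU, h2]
    rfl

/-- the transcendence degree of the residue field of a point is at most the local dimension at
any closed point it specializes to -/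
theorem trdeg_le_dim (η y : Y) (hηy : η ⤳ y) (hy : IsClosed ({y} : Set Y)) :
    ∃ n : ℕ, Algebra.trdeg k (Y.residueField η) = n ∧
      ((n : ℕ) : WithBot ℕ∞) ≤ ringKrullDim (Y.presheaf.stalk y) := by
  obtain ⟨_, ⟨U, hU, rfl⟩, hyU, -⟩ :=
    Y.isBasis_affineOpens.exists_subset_of_mem_open (Set.mem_univ y) isOpen_univ
  have hηU : η ∈ U := hηy.mem_open U.2 hyU
  letI := Groth.Agent.SchFTH8.secAlgebra k Y U
  haveI := Groth.Agent.SchFTH8.finiteType_sec k Y U hU
  haveI hm : (hU.primeIdealOf ⟨y, hyU⟩).asIdeal.IsMaximal :=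
    hU.primeIdealOf_isMaximal_of_isClosed ⟨y, hyU⟩ hy
  have hqm : (hU.primeIdealOf ⟨η, hηU⟩).asIdeal ≤ (hU.primeIdealOf ⟨y, hyU⟩).asIdeal :=
    (Groth.Agent.SchFTH8.specializes_iff_primeIdealOf_le hU η y hηU hyU).mp hηy
  obtain ⟨n, h1, h2⟩ := Groth.Agent.DimFT2H8.exists_trdeg_le_height k Γ(Y, U)
    (hU.primeIdealOf ⟨η, hηU⟩).asIdeal (hU.primeIdealOf ⟨y, hyU⟩).asIdeal hqm
  refine ⟨n, ?_, ?_⟩
  · rw [Groth.Agent.SchFTH8.trdeg_residueField k hU η hηU, h1]
  · rw [Groth.Agent.SchFTH8.ringKrullDim_stalk_eq_height hU y hyU]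
    exact_mod_cast h2

end DimFT

end CurveAmp9

namespace CurveAmp9

section Dense

attribute [local instance] Curv2.resAlgebra

/-- a maximal point of a Noetherian space lies in every dense open subset -/
theorem mem_of_dense_of_maximal {T : Type*} [TopologicalSpace T] [NoetherianSpace T]
    [QuasiSober T] [T0Space T] (W : Set T) (hWo : IsOpen W) (hWd : Dense W) (η : T)
    (hη : ∀ z : T, z ⤳ η → z = η) : η ∈ W := by
  have hC : closure ({η} : Set T) ∈ irreducibleComponents T :=
    (Groth.Agent.SchFTH8.closure_mem_irreducibleComponents_iff η).mpr hη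
  have hfin : (irreducibleComponents T).Finite := NoetherianSpace.finite_irreducibleComponents
  have hKcl : IsClosed (⋃ C' ∈ (irreducibleComponents T \ {closure ({η} : Set T)}), C') :=
    (hfin.subset Set.sdiff_subset).isClosed_biUnion
      (fun C' hC' => isClosed_of_mem_irreducibleComponents C' hC'.1)
  have hηK : η ∉ ⋃ C' ∈ (irreducibleComponents T \ {closure ({η} : Set T)}), C' := by
    intro hmem
    obtain ⟨C', hC', hx⟩ := Set.mem_iUnion₂.mp hmem
    have h2 : closure ({η} : Set T) ⊆ C' :=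
      closure_minimal (Set.singleton_subset_iff.mpr hx)
        (isClosed_of_mem_irreducibleComponents C' hC'.1)
    have h3 : C' ⊆ closure ({η} : Set T) := hC.2 hC'.1.1 h2
    exact hC'.2 (le_antisymm h3 h2)
  obtain ⟨w, hwV, hwW⟩ := hWd.inter_open_nonempty _ hKcl.isOpen_compl ⟨η, hηK⟩
  obtain ⟨C'', hC'', hwC''⟩ := exists_mem_irreducibleComponents_subset_of_isIrreducible
    ({w} : Set T) isIrreducible_singleton
  have hCeq : C'' = closure ({η} : Set T) := by
    by_contra hne
    exact hwV (Set.mem_biUnion (show C'' ∈ irreducibleComponents T \ {closure ({η} : Set T)} from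
      ⟨hC'', hne⟩) (hwC'' (Set.mem_singleton w)))
  have hsp : η ⤳ w := by
    rw [specializes_iff_mem_closure, ← hCeq]
    exact hwC'' (Set.mem_singleton w)
  exact hsp.mem_open hWo hwW

variable (k : Type u) [Field k] (Y : Scheme.{u}) [Y.Over (Spec (CommRingCat.of k))]
  [LocallyOfFiniteType (Y ↘ Spec (CommRingCat.of k))] [QuasiCompact (Y ↘ Spec (CommRingCat.of k))]

include k in
/-- a scheme of finite type over a field with a dense open subscheme of dimension at most `d` has
dimension at most `d` -/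
theorem dim_le_of_dense_open {X : Scheme.{u}} (j : X ⟶ Y) [IsOpenImmersion j]
    (hd : Dense (Set.range j)) (d : ℕ) (hX : topologicalKrullDim X ≤ d) :
    topologicalKrullDim Y ≤ d := by
  haveI : IsLocallyNoetherian Y :=
    LocallyOfFiniteType.isLocallyNoetherian (Y ↘ Spec (CommRingCat.of k))
  haveI : CompactSpace Y :=
    QuasiCompact.compactSpace_of_compactSpace (Y ↘ Spec (CommRingCat.of k))
  haveI : IsNoetherian Y := {}
  haveI : JacobsonSpace Y := LocallyOfFiniteType.jacobsonSpace (Y ↘ Spec (CommRingCat.of k))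
  haveI : QuasiCompact j := inferInstance
  haveI : CompactSpace X := QuasiCompact.compactSpace_of_compactSpace j
  rw [Groth.Agent.BCDimSchH8.dim_eq_iSup_coheight Y]
  refine iSup_le fun y => ?_
  obtain ⟨y₀, hy₀mem, hy₀⟩ := (isClosed_closure (s := ({y} : Set Y))).exists_closed_singleton
    ⟨y, subset_closure rfl⟩
  have hsp : y ⤳ y₀ := specializes_iff_mem_closure.mpr hy₀mem
  have hle : y₀ ≤ y := Scheme.le_iff_specializes.mpr hsp
  have h1 : ((Order.coheight y : ℕ∞) : WithBot ℕ∞) ≤ ((Order.coheight y₀ : ℕ∞) : WithBot ℕ∞) := by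
    exact_mod_cast Order.coheight_anti hle
  refine h1.trans ?_
  rw [← AlgebraicGeometry.ringKrullDim_stalk_eq_coheight]
  obtain ⟨η, n, hmax, hηy, htr, hdim⟩ := exists_max_trdeg_eq k Y y₀ hy₀
  have hηW : η ∈ Set.range j :=
    mem_of_dense_of_maximal _ j.isOpenEmbedding.isOpen_range hd η hmax
  obtain ⟨η', rfl⟩ := hηW
  obtain ⟨x', hx'mem, hx'⟩ := (isClosed_closure (s := ({η'} : Set X))).exists_closed_singleton
    ⟨η', subset_closure rfl⟩
  have hsp' : η' ⤳ x' := specializes_iff_mem_closure.mpr hx'mem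
  have hjx' : IsClosed ({j x'} : Set Y) := j.closePoints_subset_preimage_closedPoints hx'
  obtain ⟨n', htr', hle'⟩ := trdeg_le_dim k Y (j η') (j x') (hsp'.map j.continuous) hjx'
  have hnn : n = n' := by
    have : ((n : ℕ) : Cardinal) = ((n' : ℕ) : Cardinal) := by rw [← htr, ← htr']
    exact_mod_cast this
  rw [hdim, hnn]
  refine hle'.trans ?_
  rw [← CurveComp9.ringKrullDim_stalk_of_isOpenImmersion j x',
    AlgebraicGeometry.ringKrullDim_stalk_eq_coheight]
  refine le_trans ?_ hX
  rw [Groth.Agent.BCDimSchH8.dim_eq_iSup_coheight X]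
  exact le_iSup (fun z : X => ((Order.coheight z : ℕ∞) : WithBot ℕ∞)) x'

end Dense

end CurveAmp9
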