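import Mathlib
import Groth.Prelude
import Groth.Agent.Lib.CurveAmp3_helper9
import Groth.Agent.Lib.Curve1_helper8
import Groth.Agent.Lib.CurveTop_helper7
import Groth.Agent.Lib.ProjSpaceProper_helper4

/-!
# Projective completion of schemes of dimension at most one over a field (helper9)

* `CurveAmp9.isSchemeTheoreticallyDominant_toImage` : the canonical morphism from the source of a
  quasi-compact morphism to its scheme-theoretic image is scheme-theoretically dominant.
* `CurveAmp9.main1625` : projective completion of a separated scheme of finite type and dimension at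
  most one over a field.
-/

set_option autoImplicit false
universe u
open CategoryTheory CategoryTheory.Limits AlgebraicGeometry Opposite TopologicalSpace

namespace CurveAmp9

/-- the canonical morphism to the scheme-theoretic image of a quasi-compact morphism is
scheme-theoretically dominant -/
theorem isSchemeTheoreticallyDominant_toImage {X Y : Scheme.{u}} (f : X ⟶ Y) [QuasiCompact f] :
    IsSchemeTheoreticallyDominant f.toImage := by
  rw [isSchemeTheoreticallyDominant_iff]
  refine Scheme.IdealSheafData.ext_of_iSup_eq_top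
    (fun U : Y.affineOpens => ⟨f.imageι ⁻¹ᵁ U.1, U.2.preimage f.imageι⟩) ?_ ?_
  · rw [← Scheme.Hom.preimage_iSup, iSup_affineOpens_eq_top]
    rfl
  · intro U
    rw [Scheme.Hom.ker_apply]
    simp only [Scheme.IdealSheafData.ideal_bot, Pi.bot_apply]
    rw [← RingHom.injective_iff_ker_eq_bot]
    exact f.toImage_app_injective U

theorem main1625 (k : Type u) [Field k] (X : Scheme.{u}) [X.Over (Spec (CommRingCat.of k))]
    [IsSeparated (X ↘ (Spec (CommRingCat.of k)))]
    [LocallyOfFiniteType (X ↘ (Spec (CommRingCat.of k)))]
    [QuasiCompact (X ↘ (Spec (CommRingCat.of k)))] (hdim : topologicalKrullDim X ≤ 1) :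
    ∃ (d : ℕ) (Y : Scheme.{u}) (c : Y ⟶ CohB1.ProjSpace d k) (j : X ⟶ Y),
      IsClosedImmersion c ∧ IsOpenImmersion j ∧
      j ≫ c ≫ CohB1.ProjSpace.toSpec d k = X ↘ (Spec (CommRingCat.of k)) ∧
      Dense (Set.range j.base) ∧ IsSchemeTheoreticallyDominant j ∧
      (Set.range j.base)ᶜ.Finite ∧ ∀ y ∈ (Set.range j.base)ᶜ, IsClosed ({y} : Set Y) := by
  obtain ⟨n, i, hi, hqc, hcomp⟩ := exists_immersion k X hdim
  have hdense : Dense (Set.range i.toImage.base) := i.toImage.denseRange
  letI : i.image.Over (Spec (CommRingCat.of k)) := ⟨i.imageι ≫ CohB1.ProjSpace.toSpec n k⟩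
  haveI : IsProper (CohB1.ProjSpace.toSpec n k) := Groth.Agent.Lib.ProjSpaceProperH4.isProper_toSpec n k
  have hover : i.image ↘ Spec (CommRingCat.of k) = i.imageι ≫ CohB1.ProjSpace.toSpec n k := rfl
  haveI : LocallyOfFiniteType (i.image ↘ Spec (CommRingCat.of k)) := by
    rw [hover]; infer_instance
  haveI : QuasiCompact (i.image ↘ Spec (CommRingCat.of k)) := by
    rw [hover]; infer_instance
  have hdimY : topologicalKrullDim i.image ≤ 1 := by
    have := dim_le_of_dense_open k i.image i.toImage hdense 1 (by exact_mod_cast hdim)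
    exact_mod_cast this
  haveI : IsLocallyNoetherian i.image :=
    LocallyOfFiniteType.isLocallyNoetherian (i.image ↘ Spec (CommRingCat.of k))
  haveI : CompactSpace i.image :=
    QuasiCompact.compactSpace_of_compactSpace (i.image ↘ Spec (CommRingCat.of k))
  haveI : IsNoetherian i.image := {}
  have hcl : ∀ y ∈ (Set.range i.toImage.base)ᶜ, IsClosed ({y} : Set i.image) := by
    intro y hy
    rcases CurveH8.isMin_or_isMax hdimY y with hmin | hmax
    · exact CurveH8.isClosed_singleton_of_isMin hmin
    · exfalso
      refine hy (mem_of_dense_of_maximal _ i.toImage.isOpenEmbedding.isOpen_range hdense y ?_)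
      intro z hz
      exact CurveH8.eq_of_le_of_le (hmax (show y ≤ z from hz)) hz
  refine ⟨n, i.image, i.imageι, i.toImage, inferInstance, inferInstance, ?_, hdense,
    isSchemeTheoreticallyDominant_toImage i, ?_, hcl⟩
  · rw [← Category.assoc, i.toImage_imageι, hcomp]
  · exact Groth.Agent.Lib.CurveTopH7.finite_of_isClosed_of_forall_isClosed _
      i.toImage.isOpenEmbedding.isOpen_range.isClosed_compl hcl

end CurveAmp9
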