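import Mathlib
import Groth.Prelude
import Groth.Agent.Lib.CurveAmp4_helper9
import Groth.Agent.Lib.OneDim3_helper9

/-!
# Extending a morphism from a curve to a proper target over a projective completion (helper9)
APPEND-ONLY once landed.

`CurveAmp9.main6563` : S6563.
-/

set_option autoImplicit false
universe u
open CategoryTheory CategoryTheory.Limits AlgebraicGeometry Opposite TopologicalSpace

namespace CurveAmp9

theorem main6563 (k : Type u) [Field k]
    (X Y : Scheme.{u}) [X.Over (Spec (CommRingCat.of k))] [Y.Over (Spec (CommRingCat.of k))]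
    [IsIntegral X] [IsSeparated (X ↘ (Spec (CommRingCat.of k)))]
    [LocallyOfFiniteType (X ↘ (Spec (CommRingCat.of k)))]
    [QuasiCompact (X ↘ (Spec (CommRingCat.of k)))] (hdX : topologicalKrullDim X = 1)
    [IsIntegral Y] [IsProper (Y ↘ (Spec (CommRingCat.of k)))]
    (f : X ⟶ Y) (hf : f ≫ (Y ↘ (Spec (CommRingCat.of k))) = X ↘ (Spec (CommRingCat.of k))) :
    ∃ (Xb : Scheme.{u}) (_ : Xb.Over (Spec (CommRingCat.of k))) (j : X ⟶ Xb) (g : Xb ⟶ Y),
      IsOpenImmersion j ∧ j ≫ g = f ∧
      j ≫ (Xb ↘ (Spec (CommRingCat.of k))) = X ↘ (Spec (CommRingCat.of k)) ∧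
      g ≫ (Y ↘ (Spec (CommRingCat.of k))) = Xb ↘ (Spec (CommRingCat.of k)) ∧
      IsIntegral Xb ∧ topologicalKrullDim Xb = 1 ∧
      ∃ (n : ℕ) (i : Xb ⟶ CohB1.ProjSpace n k), IsClosedImmersion i ∧
        i ≫ CohB1.ProjSpace.toSpec n k = Xb ↘ (Spec (CommRingCat.of k)) := by
  obtain ⟨d, Y₀, c₀, j₀, hc₀, hj₀, hcomp, -, -, -, -⟩ := main1625 k X (le_of_eq hdX)
  haveI : IsProper (CohB1.ProjSpace.toSpec d k) :=
    Groth.Agent.Lib.ProjSpaceProperH4.isProper_toSpec d k
  haveI : IsLocallyNoetherian X :=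
    LocallyOfFiniteType.isLocallyNoetherian (X ↘ Spec (CommRingCat.of k))
  haveI : CompactSpace X :=
    QuasiCompact.compactSpace_of_compactSpace (X ↘ Spec (CommRingCat.of k))
  haveI : IsNoetherian X := {}
  have hcond : j₀ ≫ (c₀ ≫ CohB1.ProjSpace.toSpec d k) = f ≫ (Y ↘ Spec (CommRingCat.of k)) := by
    rw [hf, hcomp]
  let h : X ⟶ pullback (c₀ ≫ CohB1.ProjSpace.toSpec d k) (Y ↘ Spec (CommRingCat.of k)) :=
    pullback.lift j₀ f hcond
  have hfst : h ≫ pullback.fst _ _ = j₀ := pullback.lift_fst _ _ _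
  have hsnd : h ≫ pullback.snd _ _ = f := pullback.lift_snd _ _ _
  haveI : IsImmersion (h ≫ pullback.fst (c₀ ≫ CohB1.ProjSpace.toSpec d k)
      (Y ↘ Spec (CommRingCat.of k))) := by
    rw [hfst]; infer_instance
  haveI : IsImmersion h := IsImmersion.of_comp h (pullback.fst _ _)
  haveI : QuasiCompact h := quasiCompact_of_noetherianSpace_source h
  letI : h.image.Over (Spec (CommRingCat.of k)) :=
    ⟨h.imageι ≫ pullback.fst _ _ ≫ (c₀ ≫ CohB1.ProjSpace.toSpec d k)⟩
  have hover : h.image ↘ Spec (CommRingCat.of k) =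
      h.imageι ≫ pullback.fst _ _ ≫ (c₀ ≫ CohB1.ProjSpace.toSpec d k) := rfl
  haveI : IsProper (h.image ↘ Spec (CommRingCat.of k)) := by
    rw [hover]; infer_instance
  haveI : IsSchemeTheoreticallyDominant h.toImage := isSchemeTheoreticallyDominant_toImage h
  haveI : IsReduced h.image := IsSchemeTheoreticallyDominant.isReduced h.toImage
  have hdense : Dense (Set.range h.toImage.base) := h.toImage.denseRange
  haveI : IrreducibleSpace h.image := by
    have h1 : IsIrreducible (Set.range h.toImage.base) := by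
      rw [← Set.image_univ]
      exact (IrreducibleSpace.isIrreducible_univ X).image _ h.toImage.continuous.continuousOn
    have h2 := h1.closure
    rw [hdense.closure_eq] at h2
    exact (irreducibleSpace_def _).mpr h2
  haveI : IsIntegral h.image := isIntegral_of_irreducibleSpace_of_isReduced _
  have hdim1 : topologicalKrullDim h.image ≤ 1 := by
    have := dim_le_of_dense_open k h.image h.toImage hdense 1 (by exact_mod_cast le_of_eq hdX)
    exact_mod_cast this
  have hdim2 : (1 : WithBot ℕ∞) ≤ topologicalKrullDim h.image := by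
    rw [← hdX]
    exact h.toImage.isOpenEmbedding.isInducing.topologicalKrullDim_le
  refine ⟨h.image, inferInstance, h.toImage, h.imageι ≫ pullback.snd _ _, inferInstance, ?_, ?_, ?_,
    inferInstance, le_antisymm hdim1 hdim2, OneDim9.main7645 k h.image hdim1⟩
  · rw [← Category.assoc, h.toImage_imageι, hsnd]
  · rw [hover, ← Category.assoc, h.toImage_imageι, ← Category.assoc, hfst, hcomp]
  · rw [hover, Category.assoc, ← pullback.condition]

end CurveAmp9
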