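import Mathlib
import Groth.Prelude
import Groth.Agent.Lib.H0Const_helper4
import Groth.Agent.Lib.CMClosedPt_helper6
import Groth.Agent.Lib.SchDense_helper5
import Groth.Agent.Lib.DepthLoc_helper5

set_option autoImplicit false
set_option linter.unusedVariables false
set_option linter.unusedTactic false
set_option linter.unreachableTactic false
set_option linter.unusedSectionVars false
set_option linter.style.haveILetI false
set_option linter.deprecated false
set_option maxHeartbeats 1600000

universe u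

open CategoryTheory CategoryTheory.Limits AlgebraicGeometry TopologicalSpace Opposite

namespace Groth.Agent.Lib.CurveCMH4

theorem not_one_le_zero : ¬ ((1 : WithBot ℕ∞) ≤ 0) := by
  intro h
  have h' : ((1 : ℕ∞) : WithBot ℕ∞) ≤ ((0 : ℕ∞) : WithBot ℕ∞) := h
  rw [WithBot.coe_le_coe] at h'
  exact absurd h' (by simp)

theorem topologicalKrullDim_le_zero_of_subsingleton (T : Type*) [TopologicalSpace T]
    [Subsingleton T] : topologicalKrullDim T ≤ 0 := by
  haveI : Subsingleton (IrreducibleCloseds T) := by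
    constructor
    intro a b
    apply IrreducibleCloseds.ext
    ext x
    constructor
    · intro _
      obtain ⟨y, hy⟩ := b.isIrreducible.nonempty
      rwa [Subsingleton.elim x y]
    · intro _
      obtain ⟨y, hy⟩ := a.isIrreducible.nonempty
      rwa [Subsingleton.elim x y]
  unfold topologicalKrullDim
  exact Order.krullDim_nonpos_of_subsingleton

/-- Every irreducible component of a connected Noetherian `T0` space of dimension one has
dimension one. -/
theorem dim_component (X : Type u) [TopologicalSpace X] [T0Space X] [NoetherianSpace X]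
    [PreconnectedSpace X] (hdim : topologicalKrullDim X = 1) (Z : Set X)
    (hZ : Z ∈ irreducibleComponents X) : topologicalKrullDim Z = 1 := by
  apply le_antisymm
  · rw [← hdim]
    exact topologicalKrullDim_subspace_le X Z
  · have hfin : (irreducibleComponents X).Finite := NoetherianSpace.finite_irreducibleComponents
    have hcl := closure_sUnion_irreducibleComponents_sdiff_singleton hfin Z hZ
    obtain ⟨O, hO⟩ : ∃ O : Set X, O = (⋃₀ (irreducibleComponents X \ {Z}))ᶜ := ⟨_, rfl⟩
    rw [← hO] at hcl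
    have hOopen : IsOpen O := by
      rw [hO, isOpen_compl_iff, Set.sUnion_eq_biUnion]
      exact hfin.sdiff.isClosed_biUnion fun W hW => isClosed_of_mem_irreducibleComponents W hW.1
    have hOZ : O ⊆ Z := by
      rw [← hcl]
      exact subset_closure
    have hZne : Z.Nonempty := hZ.1.nonempty
    have hOne : O.Nonempty := by
      by_contra hemp
      rw [Set.not_nonempty_iff_eq_empty] at hemp
      rw [hemp, closure_empty] at hcl
      exact hZne.ne_empty hcl.symm
    have htwo : ∃ a ∈ Z, ∃ b ∈ Z, a ≠ b := by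
      by_contra hcon
      push Not at hcon
      obtain ⟨z, hzO⟩ := hOne
      have hZeq : Z = {z} := by
        ext y
        constructor
        · intro hy
          exact hcon y hy z (hOZ hzO)
        · intro hy
          rw [Set.mem_singleton_iff] at hy
          rw [hy]
          exact hOZ hzO
      have hOeq : O = {z} := by
        apply Set.Subset.antisymm
        · rw [← hZeq]
          exact hOZ
        · intro y hy
          rw [Set.mem_singleton_iff] at hy
          rw [hy]
          exact hzO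
      have hclosed : IsClosed ({z} : Set X) := by
        rw [← hZeq]
        exact isClosed_of_mem_irreducibleComponents Z hZ
      have hopen : IsOpen ({z} : Set X) := by
        rw [← hOeq]
        exact hOopen
      have hclopen : IsClopen ({z} : Set X) := ⟨hclosed, hopen⟩
      have huniv : ({z} : Set X) = Set.univ := hclopen.eq_univ ⟨z, rfl⟩
      haveI : Subsingleton X := by
        constructor
        intro a b
        have ha : a ∈ ({z} : Set X) := by rw [huniv]; exact Set.mem_univ a
        have hb : b ∈ ({z} : Set X) := by rw [huniv]; exact Set.mem_univ b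
        rw [Set.mem_singleton_iff] at ha hb
        rw [ha, hb]
      have h1 := topologicalKrullDim_le_zero_of_subsingleton X
      rw [hdim] at h1
      exact not_one_le_zero h1
    obtain ⟨a, ha, b, hb, hab⟩ := htwo
    haveI : IrreducibleSpace Z := Subtype.irreducibleSpace hZ.1
    obtain ⟨a', ha'⟩ : ∃ a' : Z, a' = ⟨a, ha⟩ := ⟨_, rfl⟩
    obtain ⟨b', hb'⟩ : ∃ b' : Z, b' = ⟨b, hb⟩ := ⟨_, rfl⟩
    have hab' : a' ≠ b' := by
      intro h
      rw [ha', hb'] at h
      exact hab (congrArg Subtype.val h)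
    have hcl_ne : closure ({a'} : Set Z) ≠ closure ({b'} : Set Z) := by
      intro h
      exact hab' (inseparable_iff_eq.mp (inseparable_iff_closure_eq.mpr h))
    have hex : ∃ C : IrreducibleCloseds Z, (C : Set Z) ≠ Set.univ := by
      by_cases h1 : closure ({a'} : Set Z) = Set.univ
      · refine ⟨⟨closure {b'}, isIrreducible_singleton.closure, isClosed_closure⟩, ?_⟩
        intro h2
        exact hcl_ne (h1.trans h2.symm)
      · exact ⟨⟨closure {a'}, isIrreducible_singleton.closure, isClosed_closure⟩, h1⟩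
    obtain ⟨C, hC⟩ := hex
    have hlt : C < (⟨Set.univ, IrreducibleSpace.isIrreducible_univ Z, isClosed_univ⟩ :
        IrreducibleCloseds Z) := by
      apply lt_of_le_of_ne
      · exact SetLike.coe_subset_coe.mp (Set.subset_univ _)
      · intro h
        exact hC (congrArg (fun s : IrreducibleCloseds Z => (s : Set Z)) h)
    unfold topologicalKrullDim
    exact Order.one_le_krullDim_iff.mpr ⟨C, _, hlt⟩


theorem ringKrullDim_stalk_le (X : Scheme.{u}) (x : X) :
    ringKrullDim (X.presheaf.stalk x) ≤ topologicalKrullDim X := by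
  obtain ⟨V, hV, hxV, -⟩ := exists_isAffineOpen_mem_and_subset (x := x) (U := ⊤) trivial
  letI := X.presheaf.algebra_section_stalk ⟨x, hxV⟩
  haveI := hV.isLocalization_stalk ⟨x, hxV⟩
  rw [IsLocalization.AtPrime.ringKrullDim_eq_height (hV.primeIdealOf ⟨x, hxV⟩).asIdeal]
  have h1 : ((hV.primeIdealOf ⟨x, hxV⟩).asIdeal.height : WithBot ℕ∞) ≤ ringKrullDim Γ(X, V) :=
    Ideal.height_le_ringKrullDim_of_ne_top (Ideal.IsPrime.ne_top inferInstance)
  have h2 : ringKrullDim Γ(X, V) ≤ topologicalKrullDim X := by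
    rw [← PrimeSpectrum.topologicalKrullDim_eq_ringKrullDim]
    exact hV.fromSpec.isOpenEmbedding.isInducing.topologicalKrullDim_le
  exact h1.trans h2

/-- Gluing two sections which agree germwise on the overlap. -/
theorem glue2 (X : Scheme.{u}) (U W : X.Opens) (hcov : ∀ y : X, y ∈ U ∨ y ∈ W)
    (t : Γ(X, U)) (w : Γ(X, W))
    (hcompat : ∀ (y : X) (hyU : y ∈ U) (hyW : y ∈ W),
      (X.presheaf.germ U y hyU).hom t = (X.presheaf.germ W y hyW).hom w) :
    ∃ s : Γ(X, ⊤), (∀ (y : X) (hy : y ∈ U),
        (X.presheaf.germ ⊤ y trivial).hom s = (X.presheaf.germ U y hy).hom t) ∧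
      (∀ (y : X) (hy : y ∈ W),
        (X.presheaf.germ ⊤ y trivial).hom s = (X.presheaf.germ W y hy).hom w) := by
  let Uf : Bool → X.Opens := fun b => Bool.rec W U b
  let sf : ∀ b, Γ(X, Uf b) := fun b =>
    Bool.rec (motive := fun b => Γ(X, Uf b)) w t b
  have hcompat' : TopCat.Presheaf.IsCompatible X.presheaf Uf sf := by
    intro i j
    cases i <;> cases j
    · show X.presheaf.map (Opens.infLELeft W W).op w =
        X.presheaf.map (Opens.infLERight W W).op w
      rw [Subsingleton.elim (Opens.infLELeft W W) (Opens.infLERight W W)]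
    · show X.presheaf.map (Opens.infLELeft W U).op w =
        X.presheaf.map (Opens.infLERight W U).op t
      apply TopCat.Presheaf.section_ext X.sheaf (W ⊓ U)
      intro y hy
      have h1 := TopCat.Presheaf.germ_res_apply X.presheaf (Opens.infLELeft W U) y hy w
      have h2 := TopCat.Presheaf.germ_res_apply X.presheaf (Opens.infLERight W U) y hy t
      exact (h1.trans (hcompat y hy.2 hy.1).symm).trans h2.symm
    · show X.presheaf.map (Opens.infLELeft U W).op t =
        X.presheaf.map (Opens.infLERight U W).op w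
      apply TopCat.Presheaf.section_ext X.sheaf (U ⊓ W)
      intro y hy
      have h1 := TopCat.Presheaf.germ_res_apply X.presheaf (Opens.infLELeft U W) y hy t
      have h2 := TopCat.Presheaf.germ_res_apply X.presheaf (Opens.infLERight U W) y hy w
      exact (h1.trans (hcompat y hy.1 hy.2)).trans h2.symm
    · show X.presheaf.map (Opens.infLELeft U U).op t =
        X.presheaf.map (Opens.infLERight U U).op t
      rw [Subsingleton.elim (Opens.infLELeft U U) (Opens.infLERight U U)]
  have hcover : (⊤ : X.Opens) ≤ iSup Uf := by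
    intro y _
    rcases hcov y with hy | hy
    · exact Opens.mem_iSup.mpr ⟨true, hy⟩
    · exact Opens.mem_iSup.mpr ⟨false, hy⟩
  obtain ⟨s, hs, -⟩ :=
    X.sheaf.existsUnique_gluing' Uf ⊤ (fun b => homOfLE le_top) hcover sf hcompat'
  have hsU : X.presheaf.map (homOfLE (le_top : U ≤ ⊤)).op s = t := hs true
  have hsW : X.presheaf.map (homOfLE (le_top : W ≤ ⊤)).op s = w := hs false
  refine ⟨s, ?_, ?_⟩
  · intro y hy
    have h1 := TopCat.Presheaf.germ_res_apply X.presheaf (homOfLE (le_top : U ≤ ⊤)) y hy s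
    rw [hsU] at h1
    exact h1.symm
  · intro y hy
    have h1 := TopCat.Presheaf.germ_res_apply X.presheaf (homOfLE (le_top : W ≤ ⊤)) y hy s
    rw [hsW] at h1
    exact h1.symm

section Geom

variable (k : Type u) [Field k] (X : Scheme.{u}) [X.Over (Spec (CommRingCat.of k))]

/-- the structure map to global functions -/
noncomputable abbrev cc' : k →+* Γ(X, ⊤) := Coh.toGlobal (X ↘ Spec (CommRingCat.of k))

theorem surj_cc' (hne : Nonempty X)
    (h0 : Module.finrank k (Coh.HH X (Coh.structureModule X) 0) = 1) :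
    Function.Surjective (cc' k X) := by
  haveI : Nonempty (⊤ : X.Opens) := ⟨⟨hne.some, trivial⟩⟩
  have h10 : (1 : Γ(X, ⊤)) ≠ 0 := one_ne_zero
  have h10' : (1 : Coh.Γtop X) ≠ 0 := h10
  have hv : (Groth.Agent.Lib.H0ConstH4.e0 X).symm 1 ≠ 0 := by
    intro h
    have h2 := congrArg (Groth.Agent.Lib.H0ConstH4.e0 X) h
    rw [AddEquiv.apply_symm_apply, map_zero] at h2
    exact h10' h2
  have hall := (finrank_eq_one_iff_of_nonzero' ((Groth.Agent.Lib.H0ConstH4.e0 X).symm 1) hv).mp h0
  have haux : ∀ s : Coh.Γtop X, ∃ c : k, Coh.toGlobal (X ↘ Spec (CommRingCat.of k)) c = s := by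
    intro s
    obtain ⟨c, hc⟩ := hall ((Groth.Agent.Lib.H0ConstH4.e0 X).symm s)
    refine ⟨c, ?_⟩
    have h3 : c • (Groth.Agent.Lib.H0ConstH4.e0 X).symm 1 =
        (Coh.toGlobal (X ↘ Spec (CommRingCat.of k)) c) •
          (Groth.Agent.Lib.H0ConstH4.e0 X).symm 1 := rfl
    rw [h3] at hc
    have h4 := congrArg (Groth.Agent.Lib.H0ConstH4.e0 X) hc
    rw [Groth.Agent.Lib.H0ConstH4.e0_smul, AddEquiv.apply_symm_apply,
      AddEquiv.apply_symm_apply, mul_one] at h4
    exact h4
  intro s
  exact haux s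

theorem preconnected_of_surj (hsurj : Function.Surjective (cc' k X)) : PreconnectedSpace X := by
  rw [preconnectedSpace_iff_clopen]
  intro S hS
  by_contra hcon
  rw [not_or] at hcon
  obtain ⟨hS0, hS1⟩ := hcon
  obtain ⟨u, hu⟩ := Set.nonempty_iff_ne_empty.mpr hS0
  obtain ⟨v, hv⟩ := Set.nonempty_compl.mpr hS1
  obtain ⟨U, hU⟩ : ∃ U : X.Opens, U = ⟨S, hS.isOpen⟩ := ⟨_, rfl⟩
  obtain ⟨V, hV⟩ : ∃ V : X.Opens, V = ⟨Sᶜ, hS.compl.isOpen⟩ := ⟨_, rfl⟩
  have huU : u ∈ U := by rw [hU]; exact hu
  have hvV : v ∈ V := by rw [hV]; exact hv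
  have hdisj : ∀ y : X, y ∈ U → y ∈ V → False := by
    intro y h1 h2
    rw [hU] at h1
    rw [hV] at h2
    exact h2 h1
  have hcov : ∀ y : X, y ∈ U ∨ y ∈ V := by
    intro y
    by_cases hy : y ∈ S
    · left; rw [hU]; exact hy
    · right; rw [hV]; exact hy
  obtain ⟨e, he1, he2⟩ := glue2 X U V hcov (1 : Γ(X, U)) (0 : Γ(X, V))
    (fun y h1 h2 => (hdisj y h1 h2).elim)
  obtain ⟨c, hc⟩ := hsurj e
  have hev : (X.presheaf.germ ⊤ v trivial).hom e = 0 := by
    rw [he2 v hvV]
    exact map_zero _
  have heu : (X.presheaf.germ ⊤ u trivial).hom e = 1 := by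
    rw [he1 u huU]
    exact map_one _
  have hc0 : c = 0 := by
    by_contra hc0
    have hunit : IsUnit e := by
      rw [← hc]
      exact (IsUnit.mk0 c hc0).map _
    have h2 : IsUnit ((X.presheaf.germ ⊤ v trivial).hom e) := hunit.map _
    exact h2.ne_zero hev
  rw [hc0, map_zero] at hc
  rw [← hc] at heu
  have h0 : (X.presheaf.germ ⊤ u trivial).hom (0 : Γ(X, ⊤)) = 0 := map_zero _
  rw [h0] at heu
  exact zero_ne_one heu

/-- If every global function is constant and `X` is not a single point, the maximal ideal of the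
local ring at a closed point is not an associated prime. -/
theorem not_isAssociatedPrime_maximalIdeal [IsLocallyNoetherian X]
    (hsurj : Function.Surjective (cc' k X))
    (hns : ¬ Subsingleton X) (x : X) (hx : IsClosed ({x} : Set X)) :
    ¬ IsAssociatedPrime (IsLocalRing.maximalIdeal (X.presheaf.stalk x))
      (X.presheaf.stalk x) := by
  intro hass
  obtain ⟨U, hU, hxU, -⟩ := exists_isAffineOpen_mem_and_subset (x := x) (U := ⊤) trivial
  haveI hA : IsNoetherianRing Γ(X, U) := IsLocallyNoetherian.component_noetherian ⟨U, hU⟩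
  letI algx := X.presheaf.algebra_section_stalk ⟨x, hxU⟩
  haveI locx := hU.isLocalization_stalk ⟨x, hxU⟩
  haveI pmax : (hU.primeIdealOf ⟨x, hxU⟩).asIdeal.IsMaximal :=
    hU.primeIdealOf_isMaximal_of_isClosed ⟨x, hxU⟩ hx
  have hcomap : (IsLocalRing.maximalIdeal (X.presheaf.stalk x)).comap
      (algebraMap Γ(X, U) (X.presheaf.stalk x)) = (hU.primeIdealOf ⟨x, hxU⟩).asIdeal :=
    IsLocalization.AtPrime.under_maximalIdeal (X.presheaf.stalk x)
      (hU.primeIdealOf ⟨x, hxU⟩).asIdeal inferInstance
  have hfg : ((IsLocalRing.maximalIdeal (X.presheaf.stalk x)).comap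
      (algebraMap Γ(X, U) (X.presheaf.stalk x))).FG :=
    (isNoetherianRing_iff_ideal_fg Γ(X, U)).mp hA _
  have hassA :=
    Module.associatedPrimes.comap_mem_associatedPrimes_of_mem_associatedPrimes_of_isLocalizedModule_of_fg
      (hU.primeIdealOf ⟨x, hxU⟩).asIdeal.primeCompl
      (Algebra.linearMap Γ(X, U) (X.presheaf.stalk x))
      (IsLocalRing.maximalIdeal (X.presheaf.stalk x)) hass hfg
  rw [hcomap] at hassA
  obtain ⟨-, t, ht⟩ := isAssociatedPrime_iff.mp hassA
  have hmem : ∀ g : Γ(X, U), g ∈ (hU.primeIdealOf ⟨x, hxU⟩).asIdeal ↔ g * t = 0 := fun g =>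
    (SetLike.ext_iff.mp ht g).trans
      (by rw [Submodule.mem_colon_singleton, Submodule.mem_bot, smul_eq_mul])
  have hgx : (X.presheaf.germ U x hxU).hom t ≠ 0 := by
    intro h0
    have h0' : algebraMap Γ(X, U) (X.presheaf.stalk x) t = 0 := h0
    obtain ⟨m, hm⟩ := (IsLocalization.map_eq_zero_iff
      (M := (hU.primeIdealOf ⟨x, hxU⟩).asIdeal.primeCompl) (S := X.presheaf.stalk x) t).mp h0'
    exact m.2 ((hmem m.1).mpr hm)
  have hgy : ∀ (y : X) (hyU : y ∈ U), y ≠ x → (X.presheaf.germ U y hyU).hom t = 0 := by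
    intro y hyU hyx
    letI algy := X.presheaf.algebra_section_stalk ⟨y, hyU⟩
    haveI locy := hU.isLocalization_stalk ⟨y, hyU⟩
    have hex : ∃ g ∈ (hU.primeIdealOf ⟨x, hxU⟩).asIdeal,
        g ∉ (hU.primeIdealOf ⟨y, hyU⟩).asIdeal := by
      by_contra hcon
      push Not at hcon
      have hle : (hU.primeIdealOf ⟨x, hxU⟩).asIdeal ≤ (hU.primeIdealOf ⟨y, hyU⟩).asIdeal := hcon
      have heq := pmax.eq_of_le (hU.primeIdealOf ⟨y, hyU⟩).isPrime.ne_top hle
      have heq' : hU.primeIdealOf ⟨x, hxU⟩ = hU.primeIdealOf ⟨y, hyU⟩ := PrimeSpectrum.ext heq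
      have h1 := hU.fromSpec_primeIdealOf ⟨x, hxU⟩
      have h2 := hU.fromSpec_primeIdealOf ⟨y, hyU⟩
      rw [heq'] at h1
      exact hyx (h2.symm.trans h1)
    obtain ⟨g, hgp, hgq⟩ := hex
    have h3 : algebraMap Γ(X, U) (X.presheaf.stalk y) t = 0 :=
      (IsLocalization.map_eq_zero_iff
        (M := (hU.primeIdealOf ⟨y, hyU⟩).asIdeal.primeCompl) (S := X.presheaf.stalk y) t).mpr
        ⟨⟨g, hgq⟩, (hmem g).mp hgp⟩
    exact h3
  obtain ⟨W, hW⟩ : ∃ W : X.Opens, W = ⟨{x}ᶜ, hx.isOpen_compl⟩ := ⟨_, rfl⟩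
  have hxW : x ∉ W := by
    rw [hW]
    intro h
    exact h rfl
  have hmemW : ∀ y : X, y ≠ x → y ∈ W := by
    intro y hy
    rw [hW]
    exact hy
  have hcov : ∀ y : X, y ∈ U ∨ y ∈ W := by
    intro y
    by_cases hyx : y = x
    · left; rw [hyx]; exact hxU
    · right; exact hmemW y hyx
  obtain ⟨s, hs1, hs2⟩ := glue2 X U W hcov t (0 : Γ(X, W)) (by
    intro y hyU hyW
    have h1 := hgy y hyU (fun h => hxW (h ▸ hyW))
    have h3 : (X.presheaf.germ W y hyW).hom (0 : Γ(X, W)) = 0 := map_zero _
    exact h1.trans h3.symm)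
  have hsx : (X.presheaf.germ ⊤ x trivial).hom s ≠ 0 := by
    rw [hs1 x hxU]
    exact hgx
  have hsy : ∀ y : X, y ≠ x → (X.presheaf.germ ⊤ y trivial).hom s = 0 := by
    intro y hyx
    rw [hs2 y (hmemW y hyx)]
    exact map_zero _
  obtain ⟨c, hc⟩ := hsurj s
  have hc0 : c ≠ 0 := by
    intro hc0
    rw [hc0, map_zero] at hc
    apply hsx
    rw [← hc]
    exact map_zero _
  have hunit : IsUnit s := by
    rw [← hc]
    exact (IsUnit.mk0 c hc0).map _
  have hall : ∀ a : X, a = x := by
    intro a
    by_contra hax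
    have h1 := hsy a hax
    have h2 : IsUnit ((X.presheaf.germ ⊤ a trivial).hom s) := hunit.map _
    exact h2.ne_zero h1
  apply hns
  constructor
  intro a b
  rw [hall a, hall b]

theorem cm_closed [IsLocallyNoetherian X]
    (hsurj : Function.Surjective (cc' k X))
    (hns : ¬ Subsingleton X) (hdim : topologicalKrullDim X = 1) (x : X)
    (hx : IsClosed ({x} : Set X)) :
    LocCoh.IsCohenMacaulayLocalRing (X.presheaf.stalk x) := by
  have hnot := not_isAssociatedPrime_maximalIdeal k X hsurj hns x hx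
  have h1 : (1 : ℕ∞) ≤ LocCoh.depth (X.presheaf.stalk x) (X.presheaf.stalk x) :=
    (Groth.Agent.SchDense.one_le_depth_iff (X.presheaf.stalk x)).mpr hnot
  have h2 := Groth.Agent.DepthLib.depth_le_supportDim (X.presheaf.stalk x) (X.presheaf.stalk x)
  have h3 : Module.supportDim (X.presheaf.stalk x) (X.presheaf.stalk x) ≤ 1 := by
    rw [Module.supportDim_self_eq_ringKrullDim, ← hdim]
    exact ringKrullDim_stalk_le X x
  have h4 : Module.supportDim (X.presheaf.stalk x) (X.presheaf.stalk x) ≤
      ((LocCoh.depth (X.presheaf.stalk x) (X.presheaf.stalk x) : ℕ∞) : WithBot ℕ∞) :=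
    h3.trans (WithBot.coe_le_coe.mpr h1)
  exact { supportDim_eq_depth := le_antisymm h4 h2 }

theorem main1534 [IsProper (X ↘ (Spec (CommRingCat.of k)))]
    (hdim : topologicalKrullDim X = 1)
    (h0 : Module.finrank k (Coh.HH X (Coh.structureModule X) 0) = 1) :
    ConnectedSpace X ∧ (∀ x : X, LocCoh.IsCohenMacaulayLocalRing (X.presheaf.stalk x)) ∧
      ∀ Z ∈ irreducibleComponents (X : Type u), topologicalKrullDim Z = 1 := by
  have hns : ¬ Subsingleton X := by
    intro hsub
    have h1 := topologicalKrullDim_le_zero_of_subsingleton X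
    rw [hdim] at h1
    exact not_one_le_zero h1
  have hne : Nonempty X := by
    by_contra hemp
    rw [not_nonempty_iff] at hemp
    exact hns inferInstance
  have hsurj := surj_cc' k X hne h0
  haveI hpre : PreconnectedSpace X := preconnected_of_surj k X hsurj
  haveI hconn : ConnectedSpace X := { toNonempty := hne }
  haveI : IsLocallyNoetherian X :=
    LocallyOfFiniteType.isLocallyNoetherian (X ↘ (Spec (CommRingCat.of k)))
  haveI : CompactSpace X :=
    QuasiCompact.compactSpace_of_compactSpace (X ↘ (Spec (CommRingCat.of k)))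
  haveI : AlgebraicGeometry.IsNoetherian X := AlgebraicGeometry.IsNoetherian.mk
  haveI : NoetherianSpace X := inferInstance
  refine ⟨hconn, ?_, ?_⟩
  · rw [Groth.Agent.Lib.CMClosedPt_helper6.cm_iff_closedPoints X]
    intro x hx
    exact cm_closed k X hsurj hns hdim x hx
  · intro Z hZ
    exact dim_component X hdim Z hZ

end Geom

end Groth.Agent.Lib.CurveCMH4
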