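import Mathlib
import Groth.Prelude
import Groth.Agent.Lib.MeroDepth_helper5
import Groth.Agent.Lib.StalkGen_helper5
import Groth.Agent.Lib.Mero_helper4

/-!
# Divisors on an absolute curve (helper5)

`C` Noetherian, local rings at closed points of dimension one.  A family of germs is a divisor iff
it is trivial outside a finite set of closed points.
-/

set_option linter.style.haveILetI false

universe u

open CategoryTheory IsLocalRing AlgebraicGeometry TopologicalSpace Opposite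

namespace Groth.Agent.CurveDiv

open Groth.Agent.Lib.Mero_helper4

section general

variable {X : Scheme.{u}}

/-- in a local ring of dimension `< 1` every nonzerodivisor is a unit -/
theorem isUnit_of_nzd_of_dim (z : X)
    (hlt : ¬ (1 : WithBot ℕ∞) ≤ ringKrullDim (X.presheaf.stalk z))
    (t : X.presheaf.stalk z) (ht : t ∈ nonZeroDivisors (X.presheaf.stalk z)) : IsUnit t := by
  haveI : Ring.KrullDimLE 0 (X.presheaf.stalk z) :=
    Ring.krullDimLE_iff.2 (Groth.Agent.SerreLib.le_zero_of_lt_one (not_le.mp hlt))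
  by_contra hu
  have hm : t ∈ maximalIdeal (X.presheaf.stalk z) := (mem_maximalIdeal t).mpr hu
  obtain ⟨n, hn⟩ := (Ring.KrullDimLE.isNilpotent_iff_mem_maximalIdeal).mpr hm
  have hpow : t ^ n ∈ nonZeroDivisors (X.presheaf.stalk z) := pow_mem ht n
  rw [hn] at hpow
  exact zero_notMem_nonZeroDivisors hpow

/-- a fraction of two units of the local ring gives the trivial germ -/
theorem germ_eq_one_of_units (z : X) (γ : (Mero.KStalk X z)ˣ) (a : X.presheaf.stalk z)
    (s : Mero.regStalk X z) (hγ : (γ : Mero.KStalk X z) = LocalizedModule.mk a s)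
    (ha : IsUnit a) (hs : IsUnit (s : X.presheaf.stalk z)) :
    (QuotientGroup.mk γ : Mero.Germ X z) = 1 := by
  rw [QuotientGroup.eq_one_iff]
  have h1 : algebraMap (X.presheaf.stalk z) (Mero.KStalk X z) a =
      γ * algebraMap (X.presheaf.stalk z) (Mero.KStalk X z) s := by
    rw [hγ, Groth.Agent.MeroDepth.mk_mul_algebraMap]
  obtain ⟨ua, hua⟩ := ha
  obtain ⟨us, hus⟩ := hs
  refine ⟨ua * us⁻¹, Units.ext ?_⟩
  rw [Units.coe_map]
  show algebraMap (X.presheaf.stalk z) (Mero.KStalk X z)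
    ((ua * us⁻¹ : (X.presheaf.stalk z)ˣ) : X.presheaf.stalk z) = γ
  rw [Units.val_mul, map_mul, hua, h1, mul_assoc, ← map_mul, ← hus, Units.mul_inv, map_one,
    mul_one]

/-- membership of a section in the prime of a point of an affine open -/
theorem mem_primeIdealOf_iff {W : X.Opens} (hW : IsAffineOpen W) (t : Γ(X, W)) (z : X)
    (hz : z ∈ W) :
    t ∈ (hW.primeIdealOf ⟨z, hz⟩).asIdeal ↔ ¬ IsUnit (X.presheaf.germ W z hz t) := by
  rw [← Groth.Agent.StalkGen.comap_maximalIdeal hW hz, Ideal.mem_comap,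
    IsLocalRing.mem_maximalIdeal]
  rfl

end general

section curve

variable {C : Scheme.{u}} [IsNoetherian C]

/-- on an absolute curve, a non-closed point has a local ring of dimension `< 1` -/
theorem dim_lt_one_of_not_closed
    (hC : ∀ x : C, IsClosed ({x} : Set C) → ringKrullDim (C.presheaf.stalk x) = 1)
    (x : C) (hx : ¬ IsClosed ({x} : Set C)) :
    ¬ (1 : WithBot ℕ∞) ≤ ringKrullDim (C.presheaf.stalk x) := by
  obtain ⟨x₀, hx₀mem, hx₀cl⟩ := IsClosed.exists_closed_singleton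
    (isClosed_closure : IsClosed (closure ({x} : Set C))) ⟨x, subset_closure rfl⟩
  have h : x ⤳ x₀ := specializes_iff_mem_closure.mpr hx₀mem
  have hne : x ≠ x₀ := fun e => hx (e ▸ hx₀cl)
  rw [Groth.Agent.StalkGen.ringKrullDim_stalk_eq_height h]
  have hlt : Groth.Agent.StalkGen.genPrime h < maximalIdeal (C.presheaf.stalk x₀) :=
    lt_of_le_of_ne (IsLocalRing.le_maximalIdeal (Groth.Agent.StalkGen.genPrime_isPrime h).ne_top)
      (fun e => hne (Groth.Agent.StalkGen.eq_of_genPrime_eq_maximalIdeal h e))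
  have h1 := Ideal.height_strict_mono_of_isPrime hlt
  have h2 : ((maximalIdeal (C.presheaf.stalk x₀)).height : WithBot ℕ∞) = 1 := by
    rw [IsLocalRing.maximalIdeal_height_eq_ringKrullDim]
    exact hC x₀ hx₀cl
  intro hle
  have h3 : ((Groth.Agent.StalkGen.genPrime h).height : WithBot ℕ∞) <
      ((maximalIdeal (C.presheaf.stalk x₀)).height : WithBot ℕ∞) := WithBot.coe_lt_coe.mpr h1
  rw [h2] at h3
  exact absurd hle (not_le.mpr h3)

/-- the non-unit locus of a regular section over an affine open of an absolute curve is a finite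
set of closed points -/
theorem finite_nonunit
    (hC : ∀ x : C, IsClosed ({x} : Set C) → ringKrullDim (C.presheaf.stalk x) = 1)
    {W : C.Opens} (hW : IsAffineOpen W) (t : Γ(C, W)) (ht : t ∈ Mero.regSub C W) :
    {y : C | ∃ hy : y ∈ W, ¬ IsUnit (C.presheaf.germ W y hy t)}.Finite ∧
    ∀ y : C, (∃ hy : y ∈ W, ¬ IsUnit (C.presheaf.germ W y hy t)) → IsClosed ({y} : Set C) := by
  have hcl : ∀ y : C, (∃ hy : y ∈ W, ¬ IsUnit (C.presheaf.germ W y hy t)) →
      IsClosed ({y} : Set C) := by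
    rintro y ⟨hy, hnu⟩
    by_contra hncl
    exact hnu (isUnit_of_nzd_of_dim y (dim_lt_one_of_not_closed hC y hncl) _ (ht ⟨y, hy⟩))
  refine ⟨?_, hcl⟩
  haveI : IsNoetherianRing Γ(C, W) := IsLocallyNoetherian.component_noetherian ⟨W, hW⟩
  have hfin : (Ideal.span {t}).minimalPrimes.Finite :=
    Ideal.finite_minimalPrimes_of_isNoetherianRing _ _
  have hfin' : {P : PrimeSpectrum Γ(C, W) |
      P.asIdeal ∈ (Ideal.span {t}).minimalPrimes}.Finite :=
    hfin.preimage (fun P _ Q _ h => PrimeSpectrum.ext h)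
  refine (hfin'.image (fun P => hW.fromSpec P)).subset ?_
  rintro y ⟨hy, hnu⟩
  refine ⟨hW.primeIdealOf ⟨y, hy⟩, ?_, hW.fromSpec_primeIdealOf ⟨y, hy⟩⟩
  refine ⟨⟨inferInstance, (Ideal.span_singleton_le_iff_mem _).mpr
    ((mem_primeIdealOf_iff hW t y hy).mpr hnu)⟩, ?_⟩
  rintro Q ⟨hQp, hQt⟩ hQy
  haveI := hQp
  obtain ⟨z, hzW, hzQ⟩ := Groth.Agent.Hartogs.exists_point hW Q
  have hspec : z ⤳ y := by
    have hle : hW.primeIdealOf ⟨z, hzW⟩ ≤ hW.primeIdealOf ⟨y, hy⟩ := by
      show (hW.primeIdealOf ⟨z, hzW⟩).asIdeal ≤ (hW.primeIdealOf ⟨y, hy⟩).asIdeal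
      rw [hzQ]
      exact hQy
    have := ((PrimeSpectrum.le_iff_specializes _ _).mp hle).map hW.fromSpec.continuous
    rwa [hW.fromSpec_primeIdealOf, hW.fromSpec_primeIdealOf] at this
  by_cases hzy : z = y
  · subst hzy
    rw [← hzQ]
  · exfalso
    have hzncl : ¬ IsClosed ({z} : Set C) := by
      intro hzc
      have hmem : y ∈ closure ({z} : Set C) := specializes_iff_mem_closure.mp hspec
      rw [hzc.closure_eq] at hmem
      exact hzy (Set.mem_singleton_iff.mp hmem).symm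
    have hu := isUnit_of_nzd_of_dim z (dim_lt_one_of_not_closed hC z hzncl) _ (ht ⟨z, hzW⟩)
    have htz : t ∈ (hW.primeIdealOf ⟨z, hzW⟩).asIdeal := by
      rw [hzQ]
      exact hQt (Ideal.subset_span rfl)
    exact ((mem_primeIdealOf_iff hW t z hzW).mp htz) hu

/-- the support of a divisor on an absolute curve is finite -/
theorem finite_supp
    (hC : ∀ x : C, IsClosed ({x} : Set C) → ringKrullDim (C.presheaf.stalk x) = 1)
    (D : Mero.Divisor C) : (Mero.supp D).Finite := by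
  choose W hW hxW a b hab using fun x => Groth.Agent.MeroDepth.exists_rep D x
  obtain ⟨I, hI⟩ := CompactSpace.elim_nhds_subcover (fun x => (W x : Set C))
    (fun x => (W x).isOpen.mem_nhds (hxW x))
  have key : ∀ x, (Mero.supp D ∩ (W x : Set C)).Finite := by
    intro x
    have hareg : a x ∈ Mero.regSub C (W x) := fun y => by
      obtain ⟨gy, hgy, _⟩ := hab x y
      exact Groth.Agent.MeroDepth.nzd_of_unit gy _ _ hgy
    have htreg : a x * (b x).1 ∈ Mero.regSub C (W x) := Submonoid.mul_mem _ hareg (b x).2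
    refine ((finite_nonunit hC (hW x) _ htreg).1).subset ?_
    rintro y ⟨hys, hyW⟩
    refine ⟨hyW, fun hu => hys ?_⟩
    obtain ⟨gy, hgy, hDy⟩ := hab x ⟨y, hyW⟩
    rw [map_mul] at hu
    rw [hDy]
    exact germ_eq_one_of_units y gy _ _ hgy (isUnit_of_mul_isUnit_left hu)
      (isUnit_of_mul_isUnit_right hu)
  refine (I.finite_toSet.biUnion (fun x _ => key x)).subset (fun y hy => ?_)
  have hyU : y ∈ ⋃ x ∈ I, (W x : Set C) := by
    rw [hI]
    exact Set.mem_univ y
  simp only [Set.mem_iUnion] at hyU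
  obtain ⟨x, hxI, hyx⟩ := hyU
  exact Set.mem_biUnion (Finset.mem_coe.mpr hxI) ⟨hy, hyx⟩

/-- a family of germs trivial outside a finite set of closed points is a divisor -/
theorem mem_divisorGroup_of_finite
    (hC : ∀ x : C, IsClosed ({x} : Set C) → ringKrullDim (C.presheaf.stalk x) = 1)
    (g : ∀ x : C, Mero.Germ C x)
    (hfin : {x : C | g x ≠ 1}.Finite) (hcl : ∀ x : C, ¬ IsClosed ({x} : Set C) → g x = 1) :
    g ∈ Mero.divisorGroup C := by
  intro x
  set S' : Set C := {y | g y ≠ 1 ∧ y ≠ x} with hS'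
  have hS'fin : S'.Finite := hfin.subset (fun y hy => hy.1)
  have hS'cl : IsClosed S' := by
    have e : S' = ⋃ y ∈ S', ({y} : Set C) := (Set.biUnion_of_singleton S').symm
    rw [e]
    exact hS'fin.isClosed_biUnion (fun y hy => by
      by_contra hncl
      exact hy.1 (hcl y hncl))
  obtain ⟨γ₀, hγ₀⟩ := QuotientGroup.mk_surjective (g x)
  obtain ⟨a, s, hg⟩ := IsLocalization.exists_mk'_eq (Mero.regStalk C x) (γ₀ : Mero.KStalk C x)
  have hg' : (γ₀ : Mero.KStalk C x) = LocalizedModule.mk a s := by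
    rw [← hg, ← Localization.mk_eq_mk']
    rfl
  have ha_reg : a ∈ Mero.regStalk C x :=
    Groth.Agent.MeroDepth.mem_regStalk_of_nzd x a (Groth.Agent.MeroDepth.nzd_of_unit γ₀ a s hg')
  obtain ⟨Ua, hxa, fa, hfa_reg, hfa⟩ := ha_reg
  obtain ⟨Us, hxs, fs, hfs_reg, hfs⟩ := s.2
  have hxO : x ∈ (Ua ⊓ Us ⊓ ⟨S'ᶜ, hS'cl.isOpen_compl⟩ : C.Opens) :=
    ⟨⟨hxa, hxs⟩, fun h => h.2 rfl⟩
  obtain ⟨_, ⟨W, hW : IsAffineOpen W, rfl⟩, hxW, hWO⟩ :=
    (C.isBasis_affineOpens).exists_subset_of_mem_open hxO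
      (Ua ⊓ Us ⊓ ⟨S'ᶜ, hS'cl.isOpen_compl⟩ : C.Opens).isOpen
  have hWa : W ≤ Ua := fun y hy => (hWO hy).1.1
  have hWs : W ≤ Us := fun y hy => (hWO hy).1.2
  have hWS : ∀ y : C, y ∈ W → y ≠ x → g y = 1 := by
    intro y hy hyx
    by_contra hne
    exact (hWO hy).2 ⟨hne, hyx⟩
  set aW : Γ(C, W) := C.presheaf.map (homOfLE hWa).op fa with haW
  set sW : Γ(C, W) := C.presheaf.map (homOfLE hWs).op fs with hsW
  have haWreg : aW ∈ Mero.regSub C W := Mero.regSub_res _ hfa_reg
  have hsWreg : sW ∈ Mero.regSub C W := Mero.regSub_res _ hfs_reg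
  have htreg : aW * sW ∈ Mero.regSub C W := Submonoid.mul_mem _ haWreg hsWreg
  obtain ⟨hZfin, hZcl⟩ := finite_nonunit hC hW (aW * sW) htreg
  set Z' : Set C :=
    {y | (∃ hy : y ∈ W, ¬ IsUnit (C.presheaf.germ W y hy (aW * sW))) ∧ y ≠ x} with hZ'
  have hZ'cl : IsClosed Z' := by
    have e : Z' = ⋃ y ∈ Z', ({y} : Set C) := (Set.biUnion_of_singleton Z').symm
    rw [e]
    exact (hZfin.subset (fun y hy => hy.1)).isClosed_biUnion (fun y hy => hZcl y hy.1)
  set U : C.Opens := W ⊓ ⟨Z'ᶜ, hZ'cl.isOpen_compl⟩ with hU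
  have hxU : x ∈ U := ⟨hxW, fun h => h.2 rfl⟩
  have hUW : U ≤ W := inf_le_left
  let aU : Mero.regSub C U := ⟨C.presheaf.map (homOfLE hUW).op aW, Mero.regSub_res _ haWreg⟩
  let sU : Mero.regSub C U := ⟨C.presheaf.map (homOfLE hUW).op sW, Mero.regSub_res _ hsWreg⟩
  have e1 := toK_mul_invK aU
  have e2 := toK_mul_invK sU
  let f : (Γ(Mero.kmod C, U))ˣ :=
    ⟨Mero.toK C U aU.1 * invK sU, Mero.toK C U sU.1 * invK aU, by
      calc Mero.toK C U aU.1 * invK sU * (Mero.toK C U sU.1 * invK aU)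
          = (Mero.toK C U aU.1 * invK aU) * (Mero.toK C U sU.1 * invK sU) := by ring
        _ = 1 := by rw [e1, e2, mul_one], by
      calc Mero.toK C U sU.1 * invK aU * (Mero.toK C U aU.1 * invK sU)
          = (Mero.toK C U aU.1 * invK aU) * (Mero.toK C U sU.1 * invK sU) := by ring
        _ = 1 := by rw [e1, e2, mul_one]⟩
  have hval : ∀ y : U, (f : Γ(Mero.kmod C, U)).1 y =
      LocalizedModule.mk (C.presheaf.germ U y.1 y.2 aU.1) (Mero.regGerm y sU) := by
    intro y
    show (LocalizedModule.mk (C.presheaf.germ U y.1 y.2 aU.1) 1 : Mero.KStalk C y.1) *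
      LocalizedModule.mk 1 (Mero.regGerm y sU) = _
    rw [mk_one_eq_algebraMap, mk_eq_mk' y.1 1, IsLocalization.mul_mk'_eq_mk'_of_mul, mul_one]
    exact (mk_eq_mk' _ _ _).symm
  refine ⟨U, hxU, f, ?_⟩
  rintro ⟨y, hyU⟩
  by_cases hyx : y = x
  · subst hyx
    show g y = QuotientGroup.mk (Units.map (Mero.evalK C U ⟨y, hyU⟩).toMonoidHom f)
    rw [← hγ₀]
    refine congrArg _ (Units.ext ?_)
    rw [Units.coe_map]
    show (γ₀ : Mero.KStalk C y) = (f : Γ(Mero.kmod C, U)).1 ⟨y, hyU⟩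
    rw [hval ⟨y, hyU⟩, hg']
    refine Mero.mk_congr ?_ ?_
    · show a = C.presheaf.germ U y hyU (C.presheaf.map (homOfLE hUW).op aW)
      rw [TopCat.Presheaf.germ_res_apply, haW, TopCat.Presheaf.germ_res_apply]
      exact hfa.symm
    · show (s : C.presheaf.stalk y) = C.presheaf.germ U y hyU (C.presheaf.map (homOfLE hUW).op sW)
      rw [TopCat.Presheaf.germ_res_apply, hsW, TopCat.Presheaf.germ_res_apply]
      exact hfs.symm
  · have hyW : y ∈ W := hUW hyU
    show g y = QuotientGroup.mk (Units.map (Mero.evalK C U ⟨y, hyU⟩).toMonoidHom f)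
    rw [hWS y hyW hyx]
    symm
    have hunit : IsUnit (C.presheaf.germ W y hyW (aW * sW)) := by
      by_contra hnu
      exact hyU.2 ⟨⟨hyW, hnu⟩, hyx⟩
    rw [map_mul] at hunit
    refine germ_eq_one_of_units y _ (C.presheaf.germ U y hyU aU.1) (Mero.regGerm ⟨y, hyU⟩ sU)
      (hval ⟨y, hyU⟩) ?_ ?_
    · show IsUnit (C.presheaf.germ U y hyU (C.presheaf.map (homOfLE hUW).op aW))
      rw [TopCat.Presheaf.germ_res_apply]
      exact isUnit_of_mul_isUnit_left hunit
    · show IsUnit (C.presheaf.germ U y hyU (C.presheaf.map (homOfLE hUW).op sW))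
      rw [TopCat.Presheaf.germ_res_apply]
      exact isUnit_of_mul_isUnit_right hunit

/-- **S10892.** -/
theorem main
    (hC : ∀ x : C, IsClosed ({x} : Set C) → ringKrullDim (C.presheaf.stalk x) = 1)
    (g : ∀ x : C, Mero.Germ C x) :
    g ∈ Mero.divisorGroup C ↔
      ({x : C | g x ≠ 1}.Finite ∧ ∀ x : C, ¬ IsClosed ({x} : Set C) → g x = 1) := by
  constructor
  · intro hg
    refine ⟨finite_supp hC ⟨g, hg⟩, fun x hx => ?_⟩
    by_contra hne
    exact dim_lt_one_of_not_closed hC x hx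
      (Groth.Agent.MeroDepth.one_le_dim_of_mem_supp ⟨g, hg⟩ x hne)
  · rintro ⟨hfin, hcl⟩
    exact mem_divisorGroup_of_finite hC g hfin hcl

end curve

end Groth.Agent.CurveDiv
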