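import Mathlib
import Groth.Prelude
import Groth.Agent.Lib.CurveDiv_helper5

/-!
# Divisors on an absolute curve, II: a divisor is a difference of effective divisors (helper5)
-/

set_option linter.style.haveILetI false

universe u

open CategoryTheory IsLocalRing AlgebraicGeometry TopologicalSpace Opposite

namespace Groth.Agent.CurveDiv

variable {C : Scheme.{u}} [IsNoetherian C]

/-- the unit of `K_{X,x}` attached to a germ of a regular section -/
noncomputable abbrev unitOf {X : Scheme.{u}} {x : X} (r : Mero.regStalk X x) : (Mero.KStalk X x)ˣ :=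
  (IsLocalization.map_units (Mero.KStalk X x) r).unit

/-- every germ of divisor is the class of a quotient of two germs of regular sections -/
theorem exists_frac_rep (D : Mero.Divisor C) (x : C) :
    ∃ (γ : (Mero.KStalk C x)ˣ) (a s : Mero.regStalk C x),
      D.1 x = QuotientGroup.mk γ ∧
      (γ : Mero.KStalk C x) = LocalizedModule.mk (a : C.presheaf.stalk x) s := by
  obtain ⟨γ₀, hγ₀⟩ := QuotientGroup.mk_surjective (D.1 x)
  obtain ⟨a, s, hg⟩ := IsLocalization.exists_mk'_eq (Mero.regStalk C x) (γ₀ : Mero.KStalk C x)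
  have hg' : (γ₀ : Mero.KStalk C x) = LocalizedModule.mk a s := by
    rw [← hg, ← Localization.mk_eq_mk']
    rfl
  have ha_reg : a ∈ Mero.regStalk C x :=
    Groth.Agent.MeroDepth.mem_regStalk_of_nzd x a (Groth.Agent.MeroDepth.nzd_of_unit γ₀ a s hg')
  exact ⟨γ₀, ⟨a, ha_reg⟩, s, hγ₀.symm, hg'⟩

/-- **S10894.** -/
theorem decomp
    (hC : ∀ x : C, IsClosed ({x} : Set C) → ringKrullDim (C.presheaf.stalk x) = 1)
    (D : Mero.Divisor C) :
    ∃ D₁ D₂ : Mero.Divisor C, Mero.IsEffective D₁ ∧ Mero.IsEffective D₂ ∧ D = D₁ * D₂⁻¹ ∧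
      Mero.supp D₁ ⊆ Mero.supp D ∧ Mero.supp D₂ ⊆ Mero.supp D := by
  classical
  choose γ a s hγ hrep using fun x => exists_frac_rep D x
  obtain ⟨hDfin, hDcl⟩ := (main hC D.1).mp D.2
  let g₁ : ∀ x : C, Mero.Germ C x := fun x =>
    if D.1 x = 1 then 1 else QuotientGroup.mk (unitOf (a x))
  let g₂ : ∀ x : C, Mero.Germ C x := fun x =>
    if D.1 x = 1 then 1 else QuotientGroup.mk (unitOf (s x))
  have h₁ : ∀ x : C, D.1 x = 1 → g₁ x = 1 := fun x hx => if_pos hx
  have h₂ : ∀ x : C, D.1 x = 1 → g₂ x = 1 := fun x hx => if_pos hx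
  have h₁' : ∀ x : C, D.1 x ≠ 1 → g₁ x = QuotientGroup.mk (unitOf (a x)) := fun x hx => if_neg hx
  have h₂' : ∀ x : C, D.1 x ≠ 1 → g₂ x = QuotientGroup.mk (unitOf (s x)) := fun x hx => if_neg hx
  have hs₁ : {x : C | g₁ x ≠ 1} ⊆ {x : C | D.1 x ≠ 1} := fun x hx hD => hx (h₁ x hD)
  have hs₂ : {x : C | g₂ x ≠ 1} ⊆ {x : C | D.1 x ≠ 1} := fun x hx hD => hx (h₂ x hD)
  have hm₁ : g₁ ∈ Mero.divisorGroup C :=
    mem_divisorGroup_of_finite hC g₁ (hDfin.subset hs₁) (fun x hx => h₁ x (hDcl x hx))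
  have hm₂ : g₂ ∈ Mero.divisorGroup C :=
    mem_divisorGroup_of_finite hC g₂ (hDfin.subset hs₂) (fun x hx => h₂ x (hDcl x hx))
  refine ⟨⟨g₁, hm₁⟩, ⟨g₂, hm₂⟩, ?_, ?_, ?_, hs₁, hs₂⟩
  · intro x
    by_cases hx : D.1 x = 1
    · exact Groth.Agent.MeroDepth.isEffectiveAt_of_eq_one _ x (h₁ x hx)
    · exact ⟨a x, h₁' x hx⟩
  · intro x
    by_cases hx : D.1 x = 1
    · exact Groth.Agent.MeroDepth.isEffectiveAt_of_eq_one _ x (h₂ x hx)
    · exact ⟨s x, h₂' x hx⟩
  · apply Subtype.ext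
    funext x
    show D.1 x = g₁ x * (g₂ x)⁻¹
    by_cases hx : D.1 x = 1
    · rw [h₁ x hx, h₂ x hx, hx, inv_one]
      exact (mul_one (1 : Mero.Germ C x)).symm
    · rw [h₁' x hx, h₂' x hx, hγ x, ← QuotientGroup.mk_inv, ← QuotientGroup.mk_mul]
      refine congrArg _ ?_
      rw [eq_mul_inv_iff_mul_eq]
      apply Units.ext
      rw [Units.val_mul, IsUnit.unit_spec, IsUnit.unit_spec, hrep x,
        Groth.Agent.MeroDepth.mk_mul_algebraMap]

end Groth.Agent.CurveDiv
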