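import Mathlib
import Groth.Prelude
import Groth.Agent.Lib.CurveDiv2_helper5
import Groth.Agent.Lib.SchDense_helper5
import Groth.Agent.S5082

/-!
# Divisors on an absolute curve, III: effective divisors meeting every component (helper5)
-/

set_option linter.style.haveILetI false

universe u

open CategoryTheory IsLocalRing AlgebraicGeometry TopologicalSpace Opposite

namespace Groth.Agent.CurveDiv

/-- a point with a proper generization has a local ring of dimension at least one -/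
theorem one_le_dim_of_specializes_ne {X : Scheme.{u}} [IsLocallyNoetherian X] {η y : X}
    (h : η ⤳ y) (hne : η ≠ y) :
    (1 : WithBot ℕ∞) ≤ ringKrullDim (X.presheaf.stalk y) := by
  have hlt : Groth.Agent.StalkGen.genPrime h < maximalIdeal (X.presheaf.stalk y) :=
    lt_of_le_of_ne (IsLocalRing.le_maximalIdeal (Groth.Agent.StalkGen.genPrime_isPrime h).ne_top)
      (fun e => hne (Groth.Agent.StalkGen.eq_of_genPrime_eq_maximalIdeal h e))
  have h1 := Ideal.height_strict_mono_of_isPrime hlt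
  rw [← IsLocalRing.maximalIdeal_height_eq_ringKrullDim]
  have h2 : (1 : ℕ∞) ≤ (maximalIdeal (X.presheaf.stalk y)).height :=
    Order.one_le_iff_pos.mpr (lt_of_le_of_lt bot_le h1)
  show ((1 : ℕ∞) : WithBot ℕ∞) ≤ _
  exact WithBot.coe_le_coe.mpr h2

/-- the class of a non-unit germ of a regular section is a nontrivial germ of divisor -/
theorem mk_unitOf_ne_one {X : Scheme.{u}} {x : X} (t : Mero.regStalk X x)
    (ht : ¬ IsUnit (t : X.presheaf.stalk x)) :
    (QuotientGroup.mk (unitOf t) : Mero.Germ X x) ≠ 1 := by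
  intro h
  rw [QuotientGroup.eq_one_iff] at h
  obtain ⟨v, hv⟩ := h
  have h3 := congrArg Units.val hv
  rw [Units.coe_map, IsUnit.unit_spec] at h3
  have h5 : (v : X.presheaf.stalk x) = t := Mero.algebraMap_KStalk_injective x h3
  exact ht (h5 ▸ v.isUnit)

variable {C : Scheme.{u}} [IsNoetherian C]

/-- every irreducible component of an absolute curve without open points contains, inside a given
dense open, a closed point at which some non-unit is a nonzerodivisor -/
theorem exists_good_point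
    (hC : ∀ x : C, IsClosed ({x} : Set C) → ringKrullDim (C.presheaf.stalk x) = 1)
    (hpt : ∀ x : C, ¬ IsOpen ({x} : Set C)) (U : C.Opens) (hU : Dense (U : Set C))
    (Z : Set C) (hZ : Z ∈ irreducibleComponents C) :
    ∃ x : C, x ∈ Z ∧ x ∈ U ∧ IsClosed ({x} : Set C) ∧
      ∃ t : Mero.regStalk C x, ¬ IsUnit (t : C.presheaf.stalk x) := by
  classical
  have hZcl : IsClosed Z := isClosed_of_mem_irreducibleComponents Z hZ
  set η := hZ.1.genericPoint with hη
  have hgen : closure ({η} : Set C) = Z := hZ.1.isGenericPoint_genericPoint hZcl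
  have hηZ : η ∈ Z := hgen ▸ subset_closure rfl
  have hfinC : (irreducibleComponents C).Finite := NoetherianSpace.finite_irreducibleComponents
  set E : Set C := ⋃ Z' ∈ (irreducibleComponents C \ {Z}), Z' with hE
  have hEcl : IsClosed E :=
    (hfinC.subset Set.sdiff_subset).isClosed_biUnion
      (fun Z' hZ' => isClosed_of_mem_irreducibleComponents Z' hZ'.1)
  have hηE : η ∉ E := by
    intro hmem
    simp only [hE, Set.mem_iUnion] at hmem
    obtain ⟨Z', hZ', hηZ'⟩ := hmem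
    have hsub : Z ⊆ Z' := by
      rw [← hgen]
      exact (isClosed_of_mem_irreducibleComponents Z' hZ'.1).closure_subset_iff.mpr
        (Set.singleton_subset_iff.mpr hηZ')
    exact hZ'.2 (Set.mem_singleton_iff.mpr (Set.Subset.antisymm (hZ.2 hZ'.1.1 hsub) hsub))
  have hEZ : ∀ y : C, y ∉ E → y ∈ Z := by
    intro y hy
    by_contra hyZ
    apply hy
    have hmem := irreducibleComponent_mem_irreducibleComponents y
    refine Set.mem_biUnion (x := irreducibleComponent y) ⟨hmem, ?_⟩ mem_irreducibleComponent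
    intro heq
    exact hyZ ((Set.mem_singleton_iff.mp heq) ▸ mem_irreducibleComponent)
  have hηU : η ∈ U := by
    obtain ⟨y, hyE, hyU⟩ := hU.inter_open_nonempty Eᶜ hEcl.isOpen_compl ⟨η, hηE⟩
    have hyZ : y ∈ Z := hEZ y hyE
    have hspec : η ⤳ y := specializes_iff_mem_closure.mpr (hgen ▸ hyZ)
    exact hspec.mem_open U.isOpen hyU
  have hxO : η ∈ (U ⊓ ⟨Eᶜ, hEcl.isOpen_compl⟩ : C.Opens) := ⟨hηU, hηE⟩
  obtain ⟨_, ⟨W, hW : IsAffineOpen W, rfl⟩, hηW, hWO⟩ :=
    (C.isBasis_affineOpens).exists_subset_of_mem_open hxO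
      (U ⊓ ⟨Eᶜ, hEcl.isOpen_compl⟩ : C.Opens).isOpen
  have hWU : ∀ y ∈ W, y ∈ U := fun y hy => (hWO hy).1
  have hWZ : ∀ y ∈ W, y ∈ Z := fun y hy => hEZ y (hWO hy).2
  have hWcl : ∀ y ∈ W, y ≠ η → IsClosed ({y} : Set C) := by
    intro y hy hne
    by_contra hncl
    have hspec : η ⤳ y := specializes_iff_mem_closure.mpr (hgen ▸ hWZ y hy)
    exact dim_lt_one_of_not_closed hC y hncl (one_le_dim_of_specializes_ne hspec (Ne.symm hne))
  haveI : IsNoetherianRing Γ(C, W) := IsLocallyNoetherian.component_noetherian ⟨W, hW⟩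
  have hfinA : (associatedPrimes Γ(C, W) Γ(C, W)).Finite := associatedPrimes.finite _ _
  have hfinA' : {P : PrimeSpectrum Γ(C, W) |
      P.asIdeal ∈ associatedPrimes Γ(C, W) Γ(C, W)}.Finite :=
    hfinA.preimage (fun P _ Q _ h => PrimeSpectrum.ext h)
  set F : Set C := {y | (∃ hy : y ∈ W,
    (hW.primeIdealOf ⟨y, hy⟩).asIdeal ∈ associatedPrimes Γ(C, W) Γ(C, W)) ∧ y ≠ η} with hF
  have hFfin : F.Finite := by
    refine (hfinA'.image (fun P => hW.fromSpec P)).subset ?_
    rintro y ⟨⟨hy, hass⟩, -⟩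
    exact ⟨hW.primeIdealOf ⟨y, hy⟩, hass, hW.fromSpec_primeIdealOf ⟨y, hy⟩⟩
  have hFcl : IsClosed F := by
    have e : F = ⋃ y ∈ F, ({y} : Set C) := (Set.biUnion_of_singleton F).symm
    rw [e]
    exact hFfin.isClosed_biUnion (fun y hy => by
      obtain ⟨⟨hyW, -⟩, hne⟩ := hy
      exact hWcl y hyW hne)
  set W' : C.Opens := W ⊓ ⟨Fᶜ, hFcl.isOpen_compl⟩ with hW'
  have hηW' : η ∈ W' := ⟨hηW, fun h => h.2 rfl⟩
  obtain ⟨y, hyW', hyη⟩ : ∃ y ∈ W', y ≠ η := by
    by_contra hcon
    push Not at hcon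
    have e : (W' : Set C) = {η} :=
      Set.eq_singleton_iff_unique_mem.mpr ⟨hηW', fun y hy => hcon y hy⟩
    exact hpt η (e ▸ W'.isOpen)
  have hyW : y ∈ W := hyW'.1
  have hnass : (hW.primeIdealOf ⟨y, hyW⟩).asIdeal ∉ associatedPrimes Γ(C, W) Γ(C, W) := by
    intro hass
    exact hyW'.2 ⟨⟨hyW, hass⟩, hyη⟩
  have hnass' : ¬ IsAssociatedPrime (maximalIdeal (C.presheaf.stalk y)) (C.presheaf.stalk y) :=
    fun h => hnass ((Groth.Agent.SchDense.isAss_stalk_iff hW hyW).mp h)
  have hdepth : (1 : ℕ∞) ≤ LocCoh.depth (C.presheaf.stalk y) (C.presheaf.stalk y) :=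
    (Groth.Agent.SchDense.one_le_depth_iff _).mpr hnass'
  have hex : ∃ t ∈ nonZeroDivisors (C.presheaf.stalk y), ¬ IsUnit t := by
    by_contra hcon
    push Not at hcon
    have h0 := (Groth.Agent.S5082.depth_zero_iff (C.presheaf.stalk y)).mpr hcon
    rw [h0] at hdepth
    exact absurd hdepth (by norm_num)
  obtain ⟨t, htnzd, htnu⟩ := hex
  exact ⟨y, hWZ y hyW, hWU y hyW, hWcl y hyW hyη,
    ⟨t, Groth.Agent.MeroDepth.mem_regStalk_of_nzd y t htnzd⟩, htnu⟩

/-- **S10893.** -/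
theorem exists_eff
    (hC : ∀ x : C, IsClosed ({x} : Set C) → ringKrullDim (C.presheaf.stalk x) = 1)
    (hpt : ∀ x : C, ¬ IsOpen ({x} : Set C)) (U : C.Opens) (hU : Dense (U : Set C)) :
    ∃ D : Mero.Divisor C, Mero.IsEffective D ∧ Mero.supp D ⊆ (U : Set C) ∧
      ∀ Z ∈ irreducibleComponents (C : Type u), (Mero.supp D ∩ Z).Nonempty := by
  classical
  choose pt hpt1 using fun (Z : Set C) (hZ : Z ∈ irreducibleComponents C) =>
    exists_good_point hC hpt U hU Z hZ
  have hfinC : (irreducibleComponents C).Finite := NoetherianSpace.finite_irreducibleComponents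
  set P' : Set C := {y | ∃ Z hZ, pt Z hZ = y} with hP'
  have hP'fin : P'.Finite := hfinC.dependent_image pt
  have hP'good : ∀ x ∈ P', x ∈ U ∧ IsClosed ({x} : Set C) ∧
      ∃ t : Mero.regStalk C x, ¬ IsUnit (t : C.presheaf.stalk x) := by
    rintro x ⟨Z, hZ, rfl⟩
    exact ⟨(hpt1 Z hZ).2.1, (hpt1 Z hZ).2.2.1, (hpt1 Z hZ).2.2.2⟩
  let g : ∀ x : C, Mero.Germ C x := fun x =>
    if h : x ∈ P' then QuotientGroup.mk (unitOf (hP'good x h).2.2.choose) else 1
  have hg1 : ∀ x, x ∉ P' → g x = 1 := fun x hx => dif_neg hx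
  have hg2 : ∀ x (h : x ∈ P'), g x = QuotientGroup.mk (unitOf (hP'good x h).2.2.choose) :=
    fun x h => dif_pos h
  have hsupp : ∀ x, g x ≠ 1 → x ∈ P' := fun x hx => by
    by_contra hxP
    exact hx (hg1 x hxP)
  have hm : g ∈ Mero.divisorGroup C :=
    mem_divisorGroup_of_finite hC g (hP'fin.subset hsupp) (fun x hx => by
      by_contra hne
      exact hx (hP'good x (hsupp x hne)).2.1)
  refine ⟨⟨g, hm⟩, ?_, ?_, ?_⟩
  · intro x
    by_cases hx : x ∈ P'
    · exact ⟨(hP'good x hx).2.2.choose, hg2 x hx⟩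
    · exact Groth.Agent.MeroDepth.isEffectiveAt_of_eq_one _ x (hg1 x hx)
  · intro x hx
    exact (hP'good x (hsupp x hx)).1
  · intro Z hZ
    have hmem : pt Z hZ ∈ P' := ⟨Z, hZ, rfl⟩
    refine ⟨pt Z hZ, ?_, (hpt1 Z hZ).1⟩
    show g (pt Z hZ) ≠ 1
    rw [hg2 _ hmem]
    exact mk_unitOf_ne_one _ (hP'good _ hmem).2.2.choose_spec

end Groth.Agent.CurveDiv
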