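import Mathlib
import Groth.Agent.Lib.NormalBirat_helper7
import Groth.Agent.Lib.StalkDim_helper7
import Groth.Agent.Lib.ProperBirat2_helper7

/-!
# Dominant morphisms to normal curves are flat (helper7)
-/

set_option autoImplicit false
universe u
open CategoryTheory CategoryTheory.Limits AlgebraicGeometry TopologicalSpace

namespace Groth.Agent.Lib.CurveFlatH7

open Groth.Agent.Lib.NormalBiratH7

/-- An injective ring hom from a valuation ring to a domain is flat. -/
theorem flat_of_injective_of_valuationRing {A B : Type*} [CommRing A] [IsDomain A]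
    [ValuationRing A] [CommRing B] [IsDomain B]
    (σ : A →+* B) (hσ : Function.Injective σ) : σ.Flat := by
  letI : Algebra A B := σ.toAlgebra
  change Module.Flat A B
  rw [Module.Flat.flat_iff_torsion_eq_bot_of_isBezout, eq_bot_iff]
  rintro m ⟨⟨a, ha⟩, h⟩
  have ha0 : a ≠ 0 := nonZeroDivisors.ne_zero ha
  have h' : σ a * m = 0 := h
  rcases mul_eq_zero.mp h' with h1 | h1
  · exact absurd (hσ (by rw [h1, map_zero])) ha0
  · exact (Submodule.mem_bot A).mpr h1

theorem injective_of_eq_genericPoint {Y : Scheme.{u}} [IsIntegral Y] (v₀ : Y)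
    (hv₀ : v₀ = genericPoint Y) {A : CommRingCat.{u}} [Nontrivial A]
    (σ : Y.presheaf.stalk v₀ ⟶ A) : Function.Injective σ.hom := by
  subst hv₀
  exact RingHom.injective (σ.hom : Y.functionField →+* A)

/-- A morphism of integral schemes mapping generic point to generic point is injective on all
stalks. -/
theorem stalkMap_injective_of_dominant {X Y : Scheme.{u}} [IsIntegral X] [IsIntegral Y]
    (f : X ⟶ Y) (hfξ : f (genericPoint X) = genericPoint Y) (x : X) :
    Function.Injective (f.stalkMap x).hom := by
  have spX : genericPoint X ⤳ x := genericPoint_specializes x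
  have h1 : Function.Injective (Y.presheaf.stalkSpecializes
      (f.base.hom.map_specializes spX)).hom :=
    stalkSpecializes_injective (f (genericPoint X)) (f x) hfξ _
  have h3 : Function.Injective (f.stalkMap (genericPoint X)).hom :=
    injective_of_eq_genericPoint (f (genericPoint X)) hfξ _
  intro a b hab
  apply h1
  apply h3
  have e1 := Scheme.Hom.stalkSpecializes_stalkMap_apply f _ _ spX a
  have e2 := Scheme.Hom.stalkSpecializes_stalkMap_apply f _ _ spX b
  exact e1.trans ((congrArg _ hab).trans e2.symm)

/-- In a locally Noetherian normal integral scheme of dimension one, a morphism from an irreducible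
space with nontrivial image maps the generic point to the generic point. -/
theorem generic_of_nontrivial_range {X Y : Scheme.{u}} [IsIntegral X] [IsIntegral Y]
    (hY : topologicalKrullDim Y = 1) (f : X ⟶ Y) (hnc : (Set.range f.base).Nontrivial) :
    f (genericPoint X) = genericPoint Y := by
  obtain ⟨a, ⟨xa, rfl⟩, b, ⟨xb, rfl⟩, hab⟩ := hnc
  have hspa : f (genericPoint X) ⤳ f xa := (genericPoint_specializes xa).map f.continuous
  have hspb : f (genericPoint X) ⤳ f xb := (genericPoint_specializes xb).map f.continuous
  obtain ⟨y, hy, hne⟩ : ∃ y : Y, f (genericPoint X) ⤳ y ∧ y ≠ f (genericPoint X) := by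
    by_cases h : f xa = f (genericPoint X)
    · refine ⟨f xb, hspb, ?_⟩
      intro h'
      exact hab (h.trans h'.symm)
    · exact ⟨f xa, hspa, h⟩
  have hdim : Order.coheight y ≤ ((1 : ℕ) : ℕ∞) := by
    have h1 := Groth.Agent.Lib.StalkDimH7.ringKrullDim_stalk_le_topologicalKrullDim Y y
    rw [ringKrullDim_stalk_eq_coheight, hY] at h1
    exact_mod_cast h1
  have hlt : y < f (genericPoint X) := by
    refine lt_of_le_not_ge hy ?_
    intro h
    exact hne (hy.antisymm h).eq.symm
  have hmax : IsMax (f (genericPoint X)) := by
    have h2 := Order.coheight_le_coe_iff.mp hdim _ hlt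
    rw [Nat.cast_one, ENat.lt_one_iff_eq_zero] at h2
    exact Order.coheight_eq_zero.mp h2
  have h3 : f (genericPoint X) ≤ genericPoint Y := genericPoint_specializes _
  have h4 : genericPoint Y ≤ f (genericPoint X) := hmax h3
  exact (Specializes.antisymm h3 h4).eq.symm

end Groth.Agent.Lib.CurveFlatH7
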