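import Groth.Agent.Lib.CurveIso_helper1

open W4c5m1nsnscurves MvPolynomial

universe u

noncomputable section

namespace Groth.Agent.Lib.CurveIsoH1

variable (R : Type u) [CommRing R] (m : ℕ)

lemma pairVal_cc (i j : Fin m) (h : i ≠ j) :
    pairVal R m i.castSucc j.castSucc = ι R m (ugen R m (.cij i j h)) := by
  simp only [pairVal, Fin.lastCases_castSucc, dif_neg h]

lemma pairVal_cl (i : Fin m) :
    pairVal R m i.castSucc (Fin.last m) = xv R m (.xi i) := by
  simp only [pairVal, Fin.lastCases_castSucc, Fin.lastCases_last]

lemma pairVal_lc (j : Fin m) :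
    pairVal R m (Fin.last m) j.castSucc = ι R m (ugen R m (.ci j)) + ι R m (ugen R m (.cbi j)) +
      xv R m .x3 - xv R m (.xi j) := by
  simp only [pairVal, Fin.lastCases_castSucc, Fin.lastCases_last]

lemma ιL (i j : Fin m) (h : i ≠ j) :
    ι R m (ugen R m (.cij i j h)) + ι R m (ugen R m (.cij j i h.symm)) =
      ι R m (ugen R m .a) + ι R m (ugen R m (.ci i)) + ι R m (ugen R m (.cbi i)) +
        ι R m (ugen R m (.ci j)) + ι R m (ugen R m (.cbi j)) := by
  have := congrArg (ι R m) (uL R m i j h)
  simpa only [map_add] using this

lemma ιQ (i j : Fin m) (h : i ≠ j) :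
    ι R m (ugen R m (.cij j i h.symm)) * ι R m (ugen R m (.ci j)) +
      ι R m (ugen R m (.cij i j h)) * ι R m (ugen R m (.ci i)) -
      ι R m (ugen R m (.ci i)) * ι R m (ugen R m (.ci j)) - ι R m (ugen R m .c) = 0 := by
  have := congrArg (ι R m) (uQ R m i j h)
  simpa only [map_add, map_sub, map_mul, map_zero] using this

lemma ιQb (i j : Fin m) (h : i ≠ j) :
    ι R m (ugen R m (.cij j i h.symm)) * ι R m (ugen R m (.cbi i)) +
      ι R m (ugen R m (.cij i j h)) * ι R m (ugen R m (.cbi j)) -
      ι R m (ugen R m (.cbi i)) * ι R m (ugen R m (.cbi j)) - ι R m (ugen R m .cb) = 0 := by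
  have := congrArg (ι R m) (uQb R m i j h)
  simpa only [map_add, map_sub, map_mul, map_zero] using this

lemma ιT (i j k : Fin m) (hij : i ≠ j) (hjk : j ≠ k) (hik : i ≠ k) :
    ι R m (ugen R m (.cij i j hij)) * ι R m (ugen R m (.cij j k hjk)) +
      ι R m (ugen R m (.cij j i hij.symm)) * ι R m (ugen R m (.cij i k hik)) -
      ι R m (ugen R m (.cij i k hik)) * ι R m (ugen R m (.cij j k hjk)) +
      (ι R m (ugen R m .a) + ι R m (ugen R m (.ci k)) + ι R m (ugen R m (.cbi k))) *
        ι R m (ugen R m (.ci k)) - ι R m (ugen R m .c) = 0 := by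
  have := congrArg (ι R m) (uT R m i j k hij hjk hik)
  simpa only [map_add, map_sub, map_mul, map_zero] using this

lemma ψ₀_X (g : UGen (m + 1)) : ψ₀ R m (X g) = yval R m g := by
  simp [ψ₀]

lemma ψ₀_rel (p : MvPolynomial (UGen (m + 1)) R) (hp : p ∈ URel R (m + 1)) :
    ψ₀ R m p = 0 := by
  rcases hp with ((⟨⟨⟨k, l⟩, h⟩, rfl⟩ | ⟨⟨⟨k, l⟩, h⟩, rfl⟩) | ⟨⟨⟨k, l⟩, h⟩, rfl⟩) |
    ⟨⟨⟨k, l, p⟩, h1, h2, h3⟩, rfl⟩
  · dsimp only at h
    simp only [map_sub, map_add, map_mul, ψ₀_X, yval]
    induction k using Fin.lastCases with
    | last =>
      induction l using Fin.lastCases with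
      | last => exact absurd rfl h
      | cast j =>
        simp only [pairVal_lc, pairVal_cl, Fin.lastCases_last, Fin.lastCases_castSucc]
        ring
    | cast i =>
      induction l using Fin.lastCases with
      | last =>
        simp only [pairVal_lc, pairVal_cl, Fin.lastCases_last, Fin.lastCases_castSucc]
        ring
      | cast j =>
        have hij : i ≠ j := fun e => h (congrArg Fin.castSucc e)
        simp only [pairVal_cc R m i j hij, pairVal_cc R m j i hij.symm, Fin.lastCases_castSucc]
        linear_combination ιL R m i j hij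
  · dsimp only at h
    simp only [map_sub, map_add, map_mul, ψ₀_X, yval]
    induction k using Fin.lastCases with
    | last =>
      induction l using Fin.lastCases with
      | last => exact absurd rfl h
      | cast j =>
        simp only [pairVal_lc, pairVal_cl, Fin.lastCases_last, Fin.lastCases_castSucc]
        linear_combination (-1) * cR1 R m j
    | cast i =>
      induction l using Fin.lastCases with
      | last =>
        simp only [pairVal_lc, pairVal_cl, Fin.lastCases_last, Fin.lastCases_castSucc]
        linear_combination (-1) * cR1 R m i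
      | cast j =>
        have hij : i ≠ j := fun e => h (congrArg Fin.castSucc e)
        simp only [pairVal_cc R m i j hij, pairVal_cc R m j i hij.symm, Fin.lastCases_castSucc]
        linear_combination ιQ R m i j hij
  · dsimp only at h
    simp only [map_sub, map_add, map_mul, ψ₀_X, yval]
    induction k using Fin.lastCases with
    | last =>
      induction l using Fin.lastCases with
      | last => exact absurd rfl h
      | cast j =>
        simp only [pairVal_lc, pairVal_cl, Fin.lastCases_last, Fin.lastCases_castSucc]
        linear_combination cR2 R m j - cR1 R m j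
    | cast i =>
      induction l using Fin.lastCases with
      | last =>
        simp only [pairVal_lc, pairVal_cl, Fin.lastCases_last, Fin.lastCases_castSucc]
        linear_combination cR2 R m i - cR1 R m i
      | cast j =>
        have hij : i ≠ j := fun e => h (congrArg Fin.castSucc e)
        simp only [pairVal_cc R m i j hij, pairVal_cc R m j i hij.symm, Fin.lastCases_castSucc]
        linear_combination ιQb R m i j hij
  · dsimp only at h1 h2 h3
    simp only [map_sub, map_add, map_mul, ψ₀_X, yval]
    induction k using Fin.lastCases with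
    | last =>
      induction l using Fin.lastCases with
      | last => exact absurd rfl h1
      | cast j =>
        induction p using Fin.lastCases with
        | last => exact absurd rfl h3
        | cast q =>
          have hjq : j ≠ q := fun e => h2 (congrArg Fin.castSucc e)
          simp only [pairVal_lc, pairVal_cl, pairVal_cc R m j q hjq, Fin.lastCases_last,
            Fin.lastCases_castSucc]
          linear_combination cR2 R m j - cR3 R m j q hjq +
            (-(xv R m (.xi j)) + ι R m (ugen R m (.cbi j)) - ι R m (ugen R m (.ci q))) *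
              ιL R m j q hjq + ιQ R m j q hjq - ιQb R m j q hjq
    | cast i =>
      induction l using Fin.lastCases with
      | last =>
        induction p using Fin.lastCases with
        | last => exact absurd rfl h2
        | cast q =>
          have hiq : i ≠ q := fun e => h3 (congrArg Fin.castSucc e)
          simp only [pairVal_lc, pairVal_cl, pairVal_cc R m i q hiq, Fin.lastCases_last,
            Fin.lastCases_castSucc]
          linear_combination cR2 R m i - cR3 R m i q hiq +
            (-(xv R m (.xi i)) + ι R m (ugen R m (.cbi i)) - ι R m (ugen R m (.ci q))) *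
              ιL R m i q hiq + ιQ R m i q hiq - ιQb R m i q hiq
      | cast j =>
        have hij : i ≠ j := fun e => h1 (congrArg Fin.castSucc e)
        induction p using Fin.lastCases with
        | last =>
          simp only [pairVal_lc, pairVal_cl, pairVal_cc R m i j hij,
            pairVal_cc R m j i hij.symm, Fin.lastCases_last, Fin.lastCases_castSucc]
          linear_combination (-1) * cR3 R m i j hij
        | cast q =>
          have hjq : j ≠ q := fun e => h2 (congrArg Fin.castSucc e)
          have hiq : i ≠ q := fun e => h3 (congrArg Fin.castSucc e)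
          simp only [pairVal_cc R m i j hij, pairVal_cc R m j i hij.symm,
            pairVal_cc R m j q hjq, pairVal_cc R m i q hiq, Fin.lastCases_castSucc]
          linear_combination ιT R m i j q hij hjq hiq

/-- backward map -/
def ψ : URing R (m + 1) →+* CC R m :=
  Ideal.Quotient.lift _ (ψ₀ R m) (fun p hp => by
    induction hp using Submodule.span_induction with
    | mem q hq => exact ψ₀_rel R m q hq
    | zero => simp
    | add x y _ _ hx hy => rw [map_add, hx, hy, add_zero]
    | smul r x _ hx => rw [smul_eq_mul, map_mul, hx, mul_zero])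

lemma ψ_ugen (g : UGen (m + 1)) : ψ R m (ugen R (m + 1) g) = yval R m g := by
  simp [ψ, ugen, ψ₀_X]

lemma ψ_C (r : R) : ψ R m (Ideal.Quotient.mk _ (C r)) = ι R m (algebraMap R (URing R m) r) := by
  simp [ψ, ψ₀]

lemma ψ_uincl : (ψ R m).comp (uincl R m : URing R m →+* URing R (m + 1)) = ι R m := by
  apply Ideal.Quotient.ringHom_ext
  apply MvPolynomial.ringHom_ext
  · intro r
    simp only [RingHom.comp_apply, RingHom.coe_coe]
    have h0 : uincl R m (Ideal.Quotient.mk _ (C r)) = Ideal.Quotient.mk _ (C r) := by
      have : uincl R m (Ideal.Quotient.mk _ (C r)) =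
          Ideal.Quotient.mk _ (rename UGen.castSucc (C r)) := rfl
      rw [this, rename_C]
    rw [h0, ψ_C]
    rfl
  · intro g
    simp only [RingHom.comp_apply, RingHom.coe_coe]
    change ψ R m (uincl R m (ugen R m g)) = ι R m (ugen R m g)
    rw [uincl_ugen, ψ_ugen]
    cases g with
    | a => rfl
    | c => rfl
    | cb => rfl
    | ci i => simp [UGen.castSucc, yval]
    | cbi i => simp [UGen.castSucc, yval]
    | cij i j h => simp only [UGen.castSucc, yval]; exact pairVal_cc R m i j h

lemma φψ : (φ R m).comp (ψ R m) = RingHom.id _ := by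
  apply Ideal.Quotient.ringHom_ext
  apply MvPolynomial.ringHom_ext
  · intro r
    simp only [RingHom.comp_apply, RingHom.id_apply]
    rw [ψ_C, φ_ι, AlgHom.commutes]
    rfl
  · intro g
    simp only [RingHom.comp_apply, RingHom.id_apply]
    change φ R m (ψ R m (ugen R (m+1) g)) = ugen R (m+1) g
    rw [ψ_ugen]
    cases g with
    | a => simp only [yval, φ_ι, uincl_ugen, UGen.castSucc]
    | c => simp only [yval, φ_ι, uincl_ugen, UGen.castSucc]
    | cb => simp only [yval, φ_ι, uincl_ugen, UGen.castSucc]
    | ci k =>
      induction k using Fin.lastCases with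
      | last => simp only [yval, Fin.lastCases_last, φ_xv, xval]
      | cast i => simp only [yval, Fin.lastCases_castSucc, φ_ι, uincl_ugen, UGen.castSucc]
    | cbi k =>
      induction k using Fin.lastCases with
      | last =>
        simp only [yval, Fin.lastCases_last, map_sub, φ_xv, φ_ι, xval, uincl_ugen,
          UGen.castSucc]
        ring
      | cast i => simp only [yval, Fin.lastCases_castSucc, φ_ι, uincl_ugen, UGen.castSucc]
    | cij k l h =>
      simp only [yval]
      induction k using Fin.lastCases with
      | last =>
        induction l using Fin.lastCases with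
        | last => exact absurd rfl h
        | cast j =>
          rw [pairVal_lc]
          simp only [map_sub, map_add, φ_xv, φ_ι, xval, uincl_ugen, UGen.castSucc]
          have hL := uL R (m+1) j.castSucc (Fin.last m) (Fin.castSucc_lt_last j).ne
          linear_combination (-1) * hL
      | cast i =>
        induction l using Fin.lastCases with
        | last => rw [pairVal_cl, φ_xv]; rfl
        | cast j =>
          have hij : i ≠ j := fun e => h (congrArg Fin.castSucc e)
          rw [pairVal_cc R m i j hij, φ_ι, uincl_ugen]; rfl

lemma ψφ : (ψ R m).comp (φ R m) = RingHom.id _ := by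
  apply Ideal.Quotient.ringHom_ext
  apply MvPolynomial.ringHom_ext
  · intro r
    simp only [RingHom.comp_apply, RingHom.id_apply]
    change ψ R m (φ R m (ι R m r)) = ι R m r
    rw [φ_ι]
    exact RingHom.congr_fun (ψ_uincl R m) r
  · intro y
    simp only [RingHom.comp_apply, RingHom.id_apply]
    change ψ R m (φ R m (xv R m y)) = xv R m y
    rw [φ_xv]
    cases y with
    | x2 => simp only [xval, ψ_ugen, yval, Fin.lastCases_last]
    | x3 => simp only [xval, map_add, ψ_ugen, yval, Fin.lastCases_last]; ring
    | xi i => simp only [xval, ψ_ugen, yval]; exact pairVal_cl R m i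

theorem main18252 :
    ∃ e : CurveAlg (URing R m) m (ugen R m) ≃+* URing R (m + 1),
      (∀ r : URing R m, e (algebraMap (URing R m) (CurveAlg (URing R m) m (ugen R m)) r) = uincl R m r) ∧
      e (Ideal.Quotient.mk (Ideal.span (CRel (URing R m) m (ugen R m))) (MvPolynomial.X CVar.x2)) =
        ugen R (m + 1) (UGen.ci (Fin.last m)) ∧
      e (Ideal.Quotient.mk (Ideal.span (CRel (URing R m) m (ugen R m))) (MvPolynomial.X CVar.x3)) =
        ugen R (m + 1) UGen.a + ugen R (m + 1) (UGen.ci (Fin.last m)) + ugen R (m + 1) (UGen.cbi (Fin.last m)) ∧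
      ∀ i : Fin m, e (Ideal.Quotient.mk (Ideal.span (CRel (URing R m) m (ugen R m))) (MvPolynomial.X (CVar.xi i))) =
        ugen R (m + 1) (UGen.cij i.castSucc (Fin.last m) (Fin.castSucc_lt_last i).ne) := by
  refine ⟨RingEquiv.ofRingHom (φ R m) (ψ R m) (φψ R m) (ψφ R m), ?_, ?_, ?_, ?_⟩
  · intro r; exact φ_ι R m r
  · exact φ_xv R m .x2
  · exact φ_xv R m .x3
  · intro i; exact φ_xv R m (.xi i)

end Groth.Agent.Lib.CurveIsoH1

end
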