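import Mathlib
import Groth.Prelude.Def_W4c5m1nsnscurvesU
import Groth.Prelude.Def_W4c5m1nsnscurvesC
import Groth.Prelude.Def_W4c5m1nsnscurvesI

open W4c5m1nsnscurves MvPolynomial

universe u

noncomputable section

namespace Groth.Agent.Lib.CurveIsoH1

variable (R : Type u) [CommRing R] (m : ℕ)

lemma mk_mem_zero {p : MvPolynomial (UGen m) R} (hp : p ∈ URel R m) :
    Ideal.Quotient.mk (Ideal.span (URel R m)) p = 0 :=
  Ideal.Quotient.eq_zero_iff_mem.2 (Ideal.subset_span hp)

lemma uL (i j : Fin m) (h : i ≠ j) :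
    ugen R m (.cij i j h) + ugen R m (.cij j i h.symm) =
      ugen R m .a + ugen R m (.ci i) + ugen R m (.cbi i) + ugen R m (.ci j) +
        ugen R m (.cbi j) := by
  have := mk_mem_zero R m (p := _) (Or.inl (Or.inl (Or.inl ⟨⟨(i, j), h⟩, rfl⟩)))
  simp only [map_sub, map_add] at this
  exact sub_eq_zero.1 this

lemma uQ (i j : Fin m) (h : i ≠ j) :
    ugen R m (.cij j i h.symm) * ugen R m (.ci j) + ugen R m (.cij i j h) * ugen R m (.ci i) -
      ugen R m (.ci i) * ugen R m (.ci j) - ugen R m .c = 0 := by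
  have := mk_mem_zero R m (p := _) (Or.inl (Or.inl (Or.inr ⟨⟨(i, j), h⟩, rfl⟩)))
  simp only [map_sub, map_add, map_mul] at this
  exact this

lemma uQb (i j : Fin m) (h : i ≠ j) :
    ugen R m (.cij j i h.symm) * ugen R m (.cbi i) + ugen R m (.cij i j h) * ugen R m (.cbi j) -
      ugen R m (.cbi i) * ugen R m (.cbi j) - ugen R m .cb = 0 := by
  have := mk_mem_zero R m (p := _) (Or.inl (Or.inr ⟨⟨(i, j), h⟩, rfl⟩))
  simp only [map_sub, map_add, map_mul] at this
  exact this

lemma uT (i j k : Fin m) (hij : i ≠ j) (hjk : j ≠ k) (hik : i ≠ k) :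
    ugen R m (.cij i j hij) * ugen R m (.cij j k hjk) +
      ugen R m (.cij j i hij.symm) * ugen R m (.cij i k hik) -
      ugen R m (.cij i k hik) * ugen R m (.cij j k hjk) +
      (ugen R m .a + ugen R m (.ci k) + ugen R m (.cbi k)) * ugen R m (.ci k) -
        ugen R m .c = 0 := by
  have := mk_mem_zero R m (p := _) (Or.inr ⟨⟨(i, j, k), hij, hjk, hik⟩, rfl⟩)
  simp only [map_sub, map_add, map_mul] at this
  exact this

lemma uincl_ugen (g : UGen m) : uincl R m (ugen R m g) = ugen R (m + 1) g.castSucc := by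
  have h0 : uincl R m (ugen R m g) =
      Ideal.Quotient.mk (Ideal.span (URel R (m + 1))) (rename UGen.castSucc (X g)) := rfl
  rw [h0, rename_X]; rfl

/-- the curve algebra over `U_n` -/
abbrev CC : Type u := CurveAlg (URing R m) m (ugen R m)

/-- constants -/
def ι : URing R m →+* CC R m :=
  (Ideal.Quotient.mk _).comp (C : URing R m →+* MvPolynomial (CVar m) (URing R m))

/-- variables -/
def xv (y : CVar m) : CC R m := Ideal.Quotient.mk _ (X y)

lemma cR1 (i : Fin m) :
    xv R m .x2 * xv R m (.xi i) = xv R m .x2 * xv R m .x3 +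
      ι R m (ugen R m (.ci i)) * xv R m (.xi i) + ι R m (ugen R m (.cbi i)) * xv R m .x2 -
        ι R m (ugen R m .c) := by
  have := Ideal.Quotient.eq_zero_iff_mem.2 (Ideal.subset_span
    (show _ ∈ CRel (URing R m) m (ugen R m) from Or.inl (Or.inl ⟨i, rfl⟩)))
  simp only [map_sub, map_add, map_mul] at this
  exact sub_eq_zero.1 this

lemma cR2 (i : Fin m) :
    xv R m .x3 * xv R m (.xi i) = xv R m .x2 * xv R m .x3 +
      (ι R m (ugen R m .a) + ι R m (ugen R m (.ci i)) + ι R m (ugen R m (.cbi i))) *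
        (xv R m (.xi i) - ι R m (ugen R m (.cbi i))) + ι R m (ugen R m .cb) -
        ι R m (ugen R m .c) := by
  have := Ideal.Quotient.eq_zero_iff_mem.2 (Ideal.subset_span
    (show _ ∈ CRel (URing R m) m (ugen R m) from Or.inl (Or.inr ⟨i, rfl⟩)))
  simp only [map_sub, map_add, map_mul] at this
  exact sub_eq_zero.1 this

lemma cR3 (i j : Fin m) (h : i ≠ j) :
    xv R m (.xi i) * xv R m (.xi j) = xv R m .x2 * xv R m .x3 +
      ι R m (ugen R m (.cij i j h)) * xv R m (.xi j) +
      ι R m (ugen R m (.cij j i h.symm)) * xv R m (.xi i) - ι R m (ugen R m .c) := by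
  have := Ideal.Quotient.eq_zero_iff_mem.2 (Ideal.subset_span
    (show _ ∈ CRel (URing R m) m (ugen R m) from Or.inr ⟨⟨(i, j), h⟩, rfl⟩))
  simp only [map_sub, map_add, map_mul] at this
  exact sub_eq_zero.1 this

/-- images of the variables in `U_{n+1}` -/
def xval : CVar m → URing R (m + 1)
  | .x2 => ugen R (m + 1) (.ci (Fin.last m))
  | .x3 => ugen R (m + 1) .a + ugen R (m + 1) (.ci (Fin.last m)) +
      ugen R (m + 1) (.cbi (Fin.last m))
  | .xi i => ugen R (m + 1) (.cij i.castSucc (Fin.last m) (Fin.castSucc_lt_last i).ne)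

/-- forward map on polynomials -/
def φ₀ : MvPolynomial (CVar m) (URing R m) →+* URing R (m + 1) :=
  eval₂Hom (uincl R m : URing R m →+* URing R (m + 1)) (xval R m)

lemma φ₀_rel (p : MvPolynomial (CVar m) (URing R m)) (hp : p ∈ CRel (URing R m) m (ugen R m)) :
    φ₀ R m p = 0 := by
  rcases hp with (⟨i, rfl⟩ | ⟨i, rfl⟩) | ⟨⟨⟨i, j⟩, h⟩, rfl⟩
  · simp only [φ₀, map_sub, map_add, map_mul, eval₂Hom_X', eval₂Hom_C, xval, RingHom.coe_coe,
      uincl_ugen, UGen.castSucc]
    have hQ := uQ R (m+1) i.castSucc (Fin.last m) (Fin.castSucc_lt_last i).ne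
    have hL := uL R (m+1) i.castSucc (Fin.last m) (Fin.castSucc_lt_last i).ne
    linear_combination (-1) * hQ + ugen R (m+1) (.ci (Fin.last m)) * hL
  · simp only [φ₀, map_sub, map_add, map_mul, eval₂Hom_X', eval₂Hom_C, xval, RingHom.coe_coe,
      uincl_ugen, UGen.castSucc]
    have hQ := uQ R (m+1) i.castSucc (Fin.last m) (Fin.castSucc_lt_last i).ne
    have hQb := uQb R (m+1) i.castSucc (Fin.last m) (Fin.castSucc_lt_last i).ne
    have hL := uL R (m+1) i.castSucc (Fin.last m) (Fin.castSucc_lt_last i).ne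
    linear_combination (-1) * hQ + hQb +
      (ugen R (m+1) (.ci (Fin.last m)) - ugen R (m+1) (.cbi i.castSucc)) * hL
  · dsimp only at h
    simp only [φ₀, map_sub, map_add, map_mul, eval₂Hom_X', eval₂Hom_C, xval, RingHom.coe_coe,
      uincl_ugen, UGen.castSucc]
    have hT := uT R (m+1) i.castSucc j.castSucc (Fin.last m)
      (fun e => h (Fin.castSucc_injective _ e)) (Fin.castSucc_lt_last j).ne
      (Fin.castSucc_lt_last i).ne
    linear_combination (-1) * hT

/-- forward map -/
def φ : CC R m →+* URing R (m + 1) :=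
  Ideal.Quotient.lift _ (φ₀ R m) (fun p hp => by
    induction hp using Submodule.span_induction with
    | mem q hq => exact φ₀_rel R m q hq
    | zero => simp
    | add x y _ _ hx hy => rw [map_add, hx, hy, add_zero]
    | smul r x _ hx => rw [smul_eq_mul, map_mul, hx, mul_zero])

lemma φ_ι (r : URing R m) : φ R m (ι R m r) = uincl R m r := by
  simp [φ, ι, φ₀]

lemma φ_xv (y : CVar m) : φ R m (xv R m y) = xval R m y := by
  simp [φ, xv, φ₀]

/-- values of the pair generators -/
def pairVal (k l : Fin (m + 1)) : CC R m :=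
  Fin.lastCases (motive := fun _ => CC R m)
    (Fin.lastCases (motive := fun _ => CC R m) 0
      (fun j => ι R m (ugen R m (.ci j)) + ι R m (ugen R m (.cbi j)) + xv R m .x3 -
        xv R m (.xi j)) l)
    (fun i => Fin.lastCases (motive := fun _ => CC R m) (xv R m (.xi i))
      (fun j => if h : i = j then 0 else ι R m (ugen R m (.cij i j h))) l) k

/-- images of the generators of `U_{n+1}` in the curve algebra -/
def yval : UGen (m + 1) → CC R m
  | .a => ι R m (ugen R m .a)
  | .c => ι R m (ugen R m .c)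
  | .cb => ι R m (ugen R m .cb)
  | .ci k => Fin.lastCases (motive := fun _ => CC R m) (xv R m .x2)
      (fun i => ι R m (ugen R m (.ci i))) k
  | .cbi k => Fin.lastCases (motive := fun _ => CC R m)
      (xv R m .x3 - ι R m (ugen R m .a) - xv R m .x2)
      (fun i => ι R m (ugen R m (.cbi i))) k
  | .cij k l _ => pairVal R m k l

/-- backward map on polynomials -/
def ψ₀ : MvPolynomial (UGen (m + 1)) R →+* CC R m :=
  eval₂Hom ((ι R m).comp (algebraMap R (URing R m))) (yval R m)

end Groth.Agent.Lib.CurveIsoH1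

end
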