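import Mathlib
import Groth.Prelude
import Groth.Agent.Lib.CurveLin3_helper9
import Groth.Agent.Lib.CurveSpec1_helper9
import Groth.Agent.Lib.Horrocks6_helper9
import Groth.Agent.Lib.ProjEuler_helper9
import Groth.Agent.Lib.Tens18_helper8
import Groth.Agent.Lib.CurveTens2_helper9

/-!
# A nondegenerate integral curve in `P^r` has degree at least `r` (helper9).
APPEND-ONLY once landed.
-/

set_option autoImplicit false
universe u
open CategoryTheory CategoryTheory.Limits AlgebraicGeometry Opposite TopologicalSpace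

namespace CurveNondeg

open QcqsLoc QCohExtn CurveTens

section Pull

variable {X P : Scheme.{u}} (i : X ⟶ P) (M : P.Modules)

/-- the unit `M ⟶ i_* i^* M` -/
noncomputable abbrev η : M ⟶ (Scheme.Modules.pushforward i).obj ((Scheme.Modules.pullback i).obj M) :=
  (Scheme.Modules.pullbackPushforwardAdjunction i).unit.app M

/-- pulling back global sections, as an additive map -/
noncomputable def pullTop : Γ(M, ⊤) →+ Γ((Scheme.Modules.pullback i).obj M, ⊤) :=
  ap (η i M) ⊤

theorem pullTop_apply (s : Γ(M, ⊤)) : pullTop i M s = OmegaSh.pullSect i M ⊤ s := rfl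

theorem pullTop_smul (a : Γ(P, ⊤)) (s : Γ(M, ⊤)) :
    pullTop i M (a • s) = (i.appTop.hom a : Γ(X, ⊤)) • pullTop i M s := by
  have h1 : ap (η i M) ⊤ (a • s) = a • ap (η i M) ⊤ s := ap_smul (η i M) a s
  exact h1

end Pull

section Main

variable (k : Type u) [Field k] [IsAlgClosed k] (r : ℕ) (X : Scheme.{u})
  [X.Over (Spec (CommRingCat.of k))] [IsIntegral X] [IsProper (X ↘ Spec (CommRingCat.of k))]

/-- **statement of S12912** -/
theorem deg_ge_of_nondegenerate (hdim : topologicalKrullDim X = 1)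
    (i : X ⟶ CohB1.ProjSpace r k)
    (hi : i ≫ CohB1.ProjSpace.toSpec r k = (X ↘ (Spec (CommRingCat.of k))))
    (hplane : ∀ s : LinSer.Sect (CohB1.ProjSpace r k) (Twist.twistProjSpace r k 1), s ≠ 0 →
      OmegaSh.pullSect i (Twist.twistProjSpace r k 1) ⊤ s ≠ 0) :
    (r : ℤ) ≤ Curv2.deg k X ((Scheme.Modules.pullback i).obj (Twist.twistProjSpace r k 1)) 1 := by
  haveI : IsLocallyNoetherian X :=
    LocallyOfFiniteType.isLocallyNoetherian (X ↘ Spec (CommRingCat.of k))
  have hMinv : PicF.IsInvertible (Twist.twistProjSpace r k 1) :=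
    Groth.Agent.Horrocks.isInvertible_OO r k 1
  have hL : PicF.IsInvertible ((Scheme.Modules.pullback i).obj (Twist.twistProjSpace r k 1)) :=
    TensH8.isInvertible_pullback i hMinv
  have hLc := ProperFinH9.isCoh_of_isInvertible hL
  haveI := ProperFinH9.finite_HH_of_proper k X _ hLc 0
  -- the `k`-linear map on `H⁰`
  let ψ₀ : Coh.HH (CohB1.ProjSpace r k) (Twist.twistProjSpace r k 1) 0 →
      Coh.HH X ((Scheme.Modules.pullback i).obj (Twist.twistProjSpace r k 1)) 0 := fun v =>
    (e₀ ((Scheme.Modules.pullback i).obj (Twist.twistProjSpace r k 1))).symm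
      (pullTop i (Twist.twistProjSpace r k 1) (e₀ (Twist.twistProjSpace r k 1) v))
  have hadd : ∀ v w, ψ₀ (v + w) = ψ₀ v + ψ₀ w := by
    intro v w
    show (e₀ _).symm (pullTop i _ (e₀ _ (v + w))) = _
    rw [map_add, map_add, map_add]
  have hsmul : ∀ (c : k) (v : Coh.HH (CohB1.ProjSpace r k) (Twist.twistProjSpace r k 1) 0),
      ψ₀ (c • v) = c • ψ₀ v := by
    intro c v
    have h1 : c • v = (Coh.toGlobal (CohB1.ProjSpace.toSpec r k) c) • v := rfl
    have h2 : c • ψ₀ v = (Coh.toGlobal (X ↘ Spec (CommRingCat.of k)) c) • ψ₀ v := rfl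
    rw [h1, h2]
    apply (e₀ ((Scheme.Modules.pullback i).obj (Twist.twistProjSpace r k 1))).injective
    rw [e₀_smul]
    show e₀ _ ((e₀ _).symm (pullTop i _ (e₀ _ _))) = _ • e₀ _ ((e₀ _).symm (pullTop i _ (e₀ _ v)))
    rw [AddEquiv.apply_symm_apply, AddEquiv.apply_symm_apply, e₀_smul, pullTop_smul]
    congr 1
    have h3 : Coh.toGlobal (X ↘ Spec (CommRingCat.of k)) c =
        Coh.toGlobal (i ≫ CohB1.ProjSpace.toSpec r k) c := by rw [hi]
    rw [h3]
    rfl
  let ψ : Coh.HH (CohB1.ProjSpace r k) (Twist.twistProjSpace r k 1) 0 →ₗ[k]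
      Coh.HH X ((Scheme.Modules.pullback i).obj (Twist.twistProjSpace r k 1)) 0 :=
    { toFun := ψ₀
      map_add' := hadd
      map_smul' := hsmul }
  have hinj : Function.Injective ψ := by
    rw [← LinearMap.ker_eq_bot, LinearMap.ker_eq_bot']
    intro v hv
    by_contra hne
    have h1 : e₀ (Twist.twistProjSpace r k 1) v ≠ 0 := fun h =>
      hne ((e₀ (Twist.twistProjSpace r k 1)).injective (h.trans (map_zero _).symm))
    have h2 := hplane (e₀ (Twist.twistProjSpace r k 1) v) h1
    apply h2
    have h3 : (e₀ ((Scheme.Modules.pullback i).obj (Twist.twistProjSpace r k 1))).symm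
        (pullTop i (Twist.twistProjSpace r k 1) (e₀ (Twist.twistProjSpace r k 1) v)) = 0 := hv
    have h4 : pullTop i (Twist.twistProjSpace r k 1) (e₀ (Twist.twistProjSpace r k 1) v) = 0 := by
      have := congrArg (e₀ ((Scheme.Modules.pullback i).obj (Twist.twistProjSpace r k 1))) h3
      rwa [AddEquiv.apply_symm_apply, map_zero] at this
    exact h4
  have hle := LinearMap.finrank_le_finrank_of_injective hinj
  have hP0 : Module.finrank k (Coh.HH (CohB1.ProjSpace r k) (Twist.twistProjSpace r k 1) 0) =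
      r + 1 := by
    have := Groth.Agent.ProjEuler.finrank_HH_zero k r 1
    rw [Nat.cast_one] at this
    rw [this, Nat.add_comm 1 r, Nat.choose_succ_self_right]
  rw [hP0] at hle
  have h0 := CurveSpec.finrank_HH0_structureModule k X hdim
  have hs : Nontrivial (Coh.HH X
      ((Scheme.Modules.pullback i).obj (Twist.twistProjSpace r k 1)) 0) := by
    apply Module.nontrivial_of_finrank_pos (R := k)
    omega
  have h := (CurveLin.h0_le_deg_add_one k X hdim h0 hL hs).1
  have h5 : ((r + 1 : ℕ) : ℤ) ≤ (Module.finrank k (Coh.HH X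
      ((Scheme.Modules.pullback i).obj (Twist.twistProjSpace r k 1)) 0) : ℤ) := by
    exact_mod_cast hle
  push_cast at h5
  linarith

end Main

end CurveNondeg
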