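import Mathlib
import Groth.Prelude.Def_Curv2
import Groth.Prelude.Def_FDesc
import Groth.Agent.Lib.StalkDict2_helper4

set_option autoImplicit false
set_option linter.style.haveILetI false
set_option linter.unusedSectionVars false
universe u
open scoped TensorProduct
open CategoryTheory CategoryTheory.Limits AlgebraicGeometry

attribute [local instance] Curv2.stalkAlgebra

namespace Groth.Agent.Lib.StalkDict6H4

open Groth.Agent.Lib.FlatPtBCH4 Groth.Agent.Lib.StalkDictH4 Groth.Agent.Lib.StalkDict2H4
  Groth.Agent.Lib.GeomRedInsepH4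

section alg

/-- A flat local homomorphism into a reduced ring has reduced source. -/
theorem reduced_of_flat_local {B C : Type u} [CommRing B] [CommRing C] [IsLocalRing B]
    [IsLocalRing C] (ρ : B →+* C) (hflat : ρ.Flat) (hloc : IsLocalHom ρ) [IsReduced C] :
    IsReduced B := by
  letI : Algebra B C := ρ.toAlgebra
  haveI : Module.Flat B C := hflat
  haveI : IsLocalHom (algebraMap B C) := hloc
  haveI : Module.FaithfullyFlat B C := Module.FaithfullyFlat.of_flat_of_isLocalHom
  exact isReduced_of_injective (algebraMap B C) (FaithfulSMul.algebraMap_injective B C)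

theorem reduced_of_prime {A B E : Type u} [CommRing A] [CommRing B] [CommRing E] [IsLocalRing A]
    [Nontrivial B] (f : A →+* B) (g : B →+* E) (hf : f.IsIntegral)
    (hinj : Function.Injective (PrimeSpectrum.comap f)) (hg : g.Flat)
    (q : Ideal E) [hq : q.IsPrime] (hqA : q.comap (g.comp f) = IsLocalRing.maximalIdeal A)
    [IsReduced (Localization.AtPrime q)] : IsReduced B := by
  haveI hnp : (q.comap g).IsPrime := Ideal.IsPrime.comap g
  have hncomap : (q.comap g).comap f = IsLocalRing.maximalIdeal A := by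
    rw [Ideal.comap_comap]; exact hqA
  haveI hnmax : (q.comap g).IsMaximal :=
    Ideal.isMaximal_of_isIntegral_of_isMaximal_comap' f hf (q.comap g)
      (hncomap ▸ IsLocalRing.maximalIdeal.isMaximal A)
  haveI : IsLocalRing B := IsLocalRing.of_unique_max_ideal ⟨q.comap g, hnmax, fun n' hn' => by
    haveI := hn'
    have h1 : (n'.comap f).IsMaximal := Ideal.isMaximal_comap_of_isIntegral_of_isMaximal' f hf n'
    have h2 : n'.comap f = (q.comap g).comap f :=
      (IsLocalRing.eq_maximalIdeal h1).trans hncomap.symm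
    have h3 : (⟨n', hn'.isPrime⟩ : PrimeSpectrum B) = ⟨q.comap g, hnp⟩ :=
      hinj (PrimeSpectrum.ext h2)
    exact congrArg PrimeSpectrum.asIdeal h3⟩
  have hmaxB : q.comap g = IsLocalRing.maximalIdeal B := IsLocalRing.eq_maximalIdeal hnmax
  refine reduced_of_flat_local ((algebraMap E (Localization.AtPrime q)).comp g) ?_ ?_
  · exact RingHom.Flat.comp hg
      (RingHom.flat_algebraMap_iff.mpr (IsLocalization.flat _ q.primeCompl))
  · constructor
    intro b hb
    have h1 : g b ∈ q.primeCompl :=
      (IsLocalization.AtPrime.isUnit_to_map_iff (Localization.AtPrime q) q (g b)).mp hb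
    have h2 : b ∉ IsLocalRing.maximalIdeal B := by
      rw [← hmaxB]; exact h1
    exact (IsLocalRing.notMem_maximalIdeal).mp h2

variable {k : Type u} [Field k] (A : Type u) [CommRing A] [Algebra k A]
  (k' Ω : Type u) [Field k'] [Field Ω] [Algebra k k'] [Algebra k Ω] [Algebra k' Ω]
  [IsScalarTower k k' Ω]

/-- `(k' ⊗ A) ⊗_{k'} Ω ≃ A ⊗ Ω`. -/
noncomputable def psi : (k' ⊗[k] A) ⊗[k'] Ω ≃+* A ⊗[k] Ω :=
  ((Algebra.TensorProduct.comm k' (k' ⊗[k] A) Ω).toRingEquiv.trans
    (Algebra.TensorProduct.cancelBaseChange k k' Ω Ω A).toRingEquiv).trans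
    (Algebra.TensorProduct.comm k Ω A).toRingEquiv

theorem psi_apply (a : A) :
    psi A k' Ω (((1 : k') ⊗ₜ[k] a) ⊗ₜ[k'] (1 : Ω)) = a ⊗ₜ[k] (1 : Ω) := by
  show (Algebra.TensorProduct.comm k Ω A) ((Algebra.TensorProduct.cancelBaseChange k k' Ω Ω A)
    ((Algebra.TensorProduct.comm k' (k' ⊗[k] A) Ω) (((1 : k') ⊗ₜ[k] a) ⊗ₜ[k'] (1 : Ω)))) = _
  rw [Algebra.TensorProduct.comm_tmul, Algebra.TensorProduct.cancelBaseChange_tmul, one_smul,
    Algebra.TensorProduct.comm_tmul]

theorem tensor_reduced_of_prime [IsLocalRing A] [IsPurelyInseparable k k']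
    (q : Ideal (A ⊗[k] Ω)) [q.IsPrime]
    (hq : q.comap (algebraMap A (A ⊗[k] Ω)) = IsLocalRing.maximalIdeal A)
    [IsReduced (Localization.AtPrime q)] : IsReduced (k' ⊗[k] A) := by
  let f : A →+* k' ⊗[k] A := (Algebra.TensorProduct.includeRight : A →ₐ[k] k' ⊗[k] A).toRingHom
  let g : k' ⊗[k] A →+* A ⊗[k] Ω :=
    (psi A k' Ω).toRingHom.comp (algebraMap (k' ⊗[k] A) ((k' ⊗[k] A) ⊗[k'] Ω))
  have hfeq : f = (Algebra.TensorProduct.comm k A k').toRingEquiv.toRingHom.comp
      (algebraMap A (A ⊗[k] k')) := by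
    ext a
    show (1 : k') ⊗ₜ[k] a = (Algebra.TensorProduct.comm k A k') (a ⊗ₜ[k] (1 : k'))
    rw [Algebra.TensorProduct.comm_tmul]
  have hf : f.IsIntegral := by
    rw [hfeq]
    exact RingHom.IsIntegral.trans _ _ (algebraMap_isIntegral_iff.mpr inferInstance)
      (RingHom.isIntegral_of_surjective _ (Algebra.TensorProduct.comm k A k').surjective)
  have hinj : Function.Injective (PrimeSpectrum.comap f) := by
    rw [hfeq]
    intro p1 p2 h
    have h' : PrimeSpectrum.comap (algebraMap A (A ⊗[k] k'))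
        (PrimeSpectrum.comap (Algebra.TensorProduct.comm k A k').toRingEquiv.toRingHom p1) =
        PrimeSpectrum.comap (algebraMap A (A ⊗[k] k'))
        (PrimeSpectrum.comap (Algebra.TensorProduct.comm k A k').toRingEquiv.toRingHom p2) := h
    have h'' := (PrimeSpectrum.isHomeomorph_comap_of_isPurelyInseparable k k' A).injective h'
    exact PrimeSpectrum.comap_injective_of_surjective _
      (Algebra.TensorProduct.comm k A k').surjective h''
  have hg : g.Flat := RingHom.Flat.comp (RingHom.flat_algebraMap_iff.mpr inferInstance)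
    (RingHom.Flat.of_bijective (psi A k' Ω).bijective)
  have hgf : g.comp f = algebraMap A (A ⊗[k] Ω) := by
    ext a
    exact psi_apply A k' Ω a
  haveI : Nontrivial (k' ⊗[k] A) :=
    Function.Injective.nontrivial
      (Algebra.TensorProduct.includeRight_injective (R := k) (A := k') (B := A)
        (algebraMap k k').injective)
  exact reduced_of_prime f g hf hinj hg q (hgf ▸ hq)

end alg

section sch

variable (k : Type u) [Field k] (X : Scheme.{u}) [X.Over (Spec (CommRingCat.of k))]
variable (K : Type u) [Field K] [Algebra k K]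

/-- The local ring of `X_K` at a point `x'` over `x` is the localization of `𝒪_{X,x} ⊗ K` at a
prime lying over the maximal ideal. -/
theorem exists_prime (x : X) (x' : Curv2.bc k X K) (hx : Curv2.bcFst k X K x' = x) :
    ∃ q : PrimeSpectrum (X.presheaf.stalk x ⊗[k] K),
      q.asIdeal.comap (algebraMap (X.presheaf.stalk x) (X.presheaf.stalk x ⊗[k] K)) =
        IsLocalRing.maximalIdeal (X.presheaf.stalk x) ∧
      Nonempty (Localization.AtPrime q.asIdeal ≃+* (Curv2.bc k X K).presheaf.stalk x') := by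
  obtain ⟨z', hz1, hz2⟩ := Scheme.Pullback.exists_preimage_pullback
    (f := X.fromSpecStalk x) (g := Curv2.bcFst k X K)
    (IsLocalRing.closedPoint _) x' (Scheme.fromSpecStalk_closedPoint.trans hx.symm)
  subst hz2
  refine ⟨(eZ k X K x).hom z', ?_, ?_⟩
  · have h0 : (eZ k X K x).inv ((eZ k X K x).hom z') = z' := Scheme.hom_inv_apply _ z'
    have h1 : (Spec.map (CommRingCat.ofHom (Algebra.TensorProduct.includeLeftRingHom :
        X.presheaf.stalk x →+* X.presheaf.stalk x ⊗[k] K))) ((eZ k X K x).hom z') =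
        IsLocalRing.closedPoint (X.presheaf.stalk x) := by
      rw [← eZ_inv_fst, Scheme.Hom.comp_apply, h0, hz1]
    exact congrArg PrimeSpectrum.asIdeal h1
  · haveI := isIso_stalkMap_of_flat_of_isPreimmersion
      (pullback.snd (X.fromSpecStalk x) (Curv2.bcFst k X K)) z'
    let e1 := (Spec.stalkIso (CommRingCat.of (X.presheaf.stalk x ⊗[k] K))
      ((eZ k X K x).hom z')).symm.commRingCatIsoToRingEquiv
    let e2 := (asIso ((eZ k X K x).hom.stalkMap z')).commRingCatIsoToRingEquiv
    let e3 := (asIso ((pullback.snd (X.fromSpecStalk x)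
      (Curv2.bcFst k X K)).stalkMap z')).commRingCatIsoToRingEquiv
    exact ⟨e1.trans (e2.trans e3.symm)⟩

theorem geomRed_of_perfect [PerfectField K] (x : X) (x' : Curv2.bc k X K)
    (hx : Curv2.bcFst k X K x' = x)
    (h : _root_.IsReduced ((Curv2.bc k X K).presheaf.stalk x')) :
    Algebra.IsGeometricallyReduced k (X.presheaf.stalk x) := by
  obtain ⟨q, hq, ⟨e⟩⟩ := exists_prime k X K x x' hx
  haveI : _root_.IsReduced (Localization.AtPrime q.asIdeal) :=
    isReduced_of_injective e.toRingHom e.injective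
  have t := (main9634 (k := k) (S := X.presheaf.stalk x)).out 0 1
  refine t.mp (fun k' _ _ _ _ => ?_)
  obtain ⟨σ⟩ := (inferInstance : Nonempty (k' →ₐ[k] K))
  letI : Algebra k' K := σ.toRingHom.toAlgebra
  haveI : IsScalarTower k k' K := IsScalarTower.of_algebraMap_eq (fun c => (σ.commutes c).symm)
  exact tensor_reduced_of_prime (X.presheaf.stalk x) k' K q.asIdeal hq

end sch

theorem main2521 {k Ω : Type u} [Field k] [Field Ω] [Algebra k Ω]
    [PerfectField Ω] {X : Scheme.{u}} (f : X ⟶ Spec (CommRingCat.of k)) (x : X)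
    (x' : ↥(FBase.bc f Ω)) (hx' : (FBase.bcπ f Ω).base x' = x)
    (h : FBase.IsReducedAt (FBase.bc f Ω) x') : FBase.IsGeomReducedAt f x := by
  letI : X.Over (Spec (CommRingCat.of k)) := ⟨f⟩
  have hA := geomRed_of_perfect k X Ω x x' hx' h
  exact (main1541 k X x).mpr hA

end Groth.Agent.Lib.StalkDict6H4
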