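import Mathlib
import Groth.Prelude.Def_Curv2
import Groth.Prelude.Def_Pi1
import Groth.Agent.Lib.GeomNormal_helper3
import Groth.Agent.Lib.NormalSmoothBC_helper3
import Groth.Agent.Lib.StalkDict6_helper4

set_option autoImplicit false
set_option linter.style.haveILetI false
set_option linter.unusedSectionVars false
universe u
open scoped TensorProduct
open CategoryTheory CategoryTheory.Limits AlgebraicGeometry

attribute [local instance] Curv2.stalkAlgebra

namespace Groth.Agent.Lib.StalkDict7H4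

open Groth.Agent.Lib.FlatPtBCH4 Groth.Agent.Lib.StalkDictH4 Groth.Agent.Lib.StalkDict2H4
  Groth.Agent.Lib.StalkDict6H4 Groth.Agent.Lib.GeomNormalH3 Groth.Agent.Lib.NormalSmoothBCH3

section alg

variable {k : Type u} [Field k] (A : Type u) [CommRing A] [Algebra k A] [IsLocalRing A]
  (k' : Type u) [Field k'] [Algebra k k'] [IsPurelyInseparable k k']

theorem isLocalRing_tensor_pi : IsLocalRing (A ⊗[k] k') := by
  haveI : Nontrivial (A ⊗[k] k') :=
    (Algebra.TensorProduct.includeLeft_injective (R := k) (S := k) (A := A) (B := k')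
      (algebraMap k k').injective).nontrivial
  obtain ⟨n, hn⟩ := Ideal.exists_maximal (A ⊗[k] k')
  refine IsLocalRing.of_unique_max_ideal ⟨n, hn, fun n' hn' => ?_⟩
  haveI := hn
  haveI := hn'
  have h1 : (n.comap (algebraMap A (A ⊗[k] k'))).IsMaximal :=
    Ideal.isMaximal_comap_of_isIntegral_of_isMaximal (R := A) n
  have h1' : (n'.comap (algebraMap A (A ⊗[k] k'))).IsMaximal :=
    Ideal.isMaximal_comap_of_isIntegral_of_isMaximal (R := A) n'
  have h2 : n'.comap (algebraMap A (A ⊗[k] k')) = n.comap (algebraMap A (A ⊗[k] k')) :=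
    (IsLocalRing.eq_maximalIdeal h1').trans (IsLocalRing.eq_maximalIdeal h1).symm
  have h3 : (⟨n', hn'.isPrime⟩ : PrimeSpectrum (A ⊗[k] k')) = ⟨n, hn.isPrime⟩ :=
    (PrimeSpectrum.isHomeomorph_comap_of_isPurelyInseparable k k' A).injective
      (PrimeSpectrum.ext h2)
  exact congrArg PrimeSpectrum.asIdeal h3

end alg

variable (k : Type u) [Field k] (X : Scheme.{u}) [X.Over (Spec (CommRingCat.of k))]
variable (K : Type u) [Field K] [Algebra k K]

/-- Every prime of `𝒪_{X,x} ⊗ K` is a point of `X_K` with the expected local ring. -/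
theorem exists_pt_of_prime (x : X) (Q : PrimeSpectrum (X.presheaf.stalk x ⊗[k] K)) :
    ∃ x' : Curv2.bc k X K,
      (Q.asIdeal.comap (algebraMap (X.presheaf.stalk x) (X.presheaf.stalk x ⊗[k] K)) =
        IsLocalRing.maximalIdeal (X.presheaf.stalk x) → Curv2.bcFst k X K x' = x) ∧
      Nonempty (Localization.AtPrime Q.asIdeal ≃+* (Curv2.bc k X K).presheaf.stalk x') := by
  let zM : Spec (CommRingCat.of (X.presheaf.stalk x ⊗[k] K)) := Q
  refine ⟨(pullback.snd (X.fromSpecStalk x) (Curv2.bcFst k X K)) ((eZ k X K x).inv zM), ?_, ?_⟩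
  · intro hQ
    have hfst : (pullback.fst (X.fromSpecStalk x) (Curv2.bcFst k X K)) ((eZ k X K x).inv zM) =
        IsLocalRing.closedPoint (X.presheaf.stalk x) := by
      rw [← Scheme.Hom.comp_apply, eZ_inv_fst]
      apply PrimeSpectrum.ext
      exact hQ
    rw [← Scheme.Hom.comp_apply, ← pullback.condition, Scheme.Hom.comp_apply, hfst]
    exact Scheme.fromSpecStalk_closedPoint
  · haveI := isIso_stalkMap_of_flat_of_isPreimmersion
      (pullback.snd (X.fromSpecStalk x) (Curv2.bcFst k X K)) ((eZ k X K x).inv zM)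
    let e1 := (Spec.stalkIso (CommRingCat.of (X.presheaf.stalk x ⊗[k] K))
      zM).symm.commRingCatIsoToRingEquiv
    let e2 := (asIso ((eZ k X K x).inv.stalkMap zM)).commRingCatIsoToRingEquiv
    let e3 := (asIso ((pullback.snd (X.fromSpecStalk x) (Curv2.bcFst k X K)).stalkMap
      ((eZ k X K x).inv zM))).commRingCatIsoToRingEquiv
    exact ⟨e1.trans (e2.symm.trans e3.symm)⟩

theorem normal_tensor_of_pts (x : X)
    (h2 : ∀ (k' : Type u) [Field k'] [Algebra k k'] [FiniteDimensional k k']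
      [IsPurelyInseparable k k'] (x' : ↥(Curv2.bc k X k')), Curv2.bcFst k X k' x' = x →
        IsDomain ↥((Curv2.bc k X k').presheaf.stalk x') ∧
        IsIntegrallyClosed ↥((Curv2.bc k X k').presheaf.stalk x'))
    (k' : Type u) [Field k'] [Algebra k k'] (hfin : Module.Finite k k')
    (hpi : IsPurelyInseparable k k') :
    EGA4.IsNormalRing (k' ⊗[k] X.presheaf.stalk x) := by
  haveI := hfin
  haveI := hpi
  haveI hloc : IsLocalRing (X.presheaf.stalk x ⊗[k] k') :=
    isLocalRing_tensor_pi (X.presheaf.stalk x) k'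
  let Q : PrimeSpectrum (X.presheaf.stalk x ⊗[k] k') := IsLocalRing.closedPoint _
  have hQ : Q.asIdeal.comap (algebraMap (X.presheaf.stalk x) (X.presheaf.stalk x ⊗[k] k')) =
      IsLocalRing.maximalIdeal _ := by
    haveI hmax : (Ideal.comap (algebraMap (X.presheaf.stalk x) (X.presheaf.stalk x ⊗[k] k'))
        (IsLocalRing.maximalIdeal (X.presheaf.stalk x ⊗[k] k'))).IsMaximal :=
      Ideal.isMaximal_comap_of_isIntegral_of_isMaximal (R := X.presheaf.stalk x)
        (IsLocalRing.maximalIdeal (X.presheaf.stalk x ⊗[k] k'))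
    exact IsLocalRing.eq_maximalIdeal hmax
  obtain ⟨x', hx', ⟨e⟩⟩ := exists_pt_of_prime k X k' x Q
  obtain ⟨hd, hic⟩ := h2 k' x' (hx' hQ)
  haveI := hd
  haveI := hic
  haveI hdL : IsDomain (Localization.AtPrime Q.asIdeal) := e.injective.isDomain e.toRingHom
  haveI hicL : IsIntegrallyClosed (Localization.AtPrime Q.asIdeal) :=
    IsIntegrallyClosed.of_equiv e.symm
  let eB : (X.presheaf.stalk x ⊗[k] k') ≃ₐ[X.presheaf.stalk x ⊗[k] k']
      Localization.AtPrime Q.asIdeal :=
    IsLocalization.atUnits _ Q.asIdeal.primeCompl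
      (fun y hy => IsLocalRing.notMem_maximalIdeal.mp hy)
  haveI hdB : IsDomain (X.presheaf.stalk x ⊗[k] k') :=
    eB.injective.isDomain eB.toRingEquiv.toRingHom
  haveI hicB : IsIntegrallyClosed (X.presheaf.stalk x ⊗[k] k') :=
    IsIntegrallyClosed.of_equiv eB.symm.toRingEquiv
  have hB : EGA4.IsNormalRing (X.presheaf.stalk x ⊗[k] k') :=
    isNormalRing_of_isIntegrallyClosed _
  exact isNormalRing_of_ringEquiv (Algebra.TensorProduct.comm k _ k').toRingEquiv hB

theorem stalk_normal_of_tensor (x : X)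
    (h : EGA4.IsNormalRing (K ⊗[k] X.presheaf.stalk x)) (x' : Curv2.bc k X K)
    (hx' : Curv2.bcFst k X K x' = x) :
    IsDomain ((Curv2.bc k X K).presheaf.stalk x') ∧
      IsIntegrallyClosed ((Curv2.bc k X K).presheaf.stalk x') := by
  obtain ⟨q, hq, ⟨eq⟩⟩ := exists_prime k X K x x' hx'
  have h2 : EGA4.IsNormalRing (X.presheaf.stalk x ⊗[k] K) :=
    isNormalRing_of_ringEquiv (Algebra.TensorProduct.comm k K _).toRingEquiv h
  obtain ⟨hd', hic'⟩ := h2 q.asIdeal
  haveI := hd'
  haveI := hic'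
  exact ⟨eq.symm.injective.isDomain eq.symm.toRingHom, IsIntegrallyClosed.of_equiv eq⟩

theorem main7599 (x : ↥X) :
    ((∀ (k' : Type u) [Field k'] [Algebra k k'] (x' : ↥(Curv2.bc k X k')),
        Curv2.bcFst k X k' x' = x →
          IsDomain ↥((Curv2.bc k X k').presheaf.stalk x') ∧
          IsIntegrallyClosed ↥((Curv2.bc k X k').presheaf.stalk x')) ↔
      (∀ (k' : Type u) [Field k'] [Algebra k k'] [FiniteDimensional k k']
        [IsPurelyInseparable k k'] (x' : ↥(Curv2.bc k X k')), Curv2.bcFst k X k' x' = x →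
          IsDomain ↥((Curv2.bc k X k').presheaf.stalk x') ∧
          IsIntegrallyClosed ↥((Curv2.bc k X k').presheaf.stalk x'))) ∧
    ((∀ (k' : Type u) [Field k'] [Algebra k k'] [FiniteDimensional k k']
        [IsPurelyInseparable k k'] (x' : ↥(Curv2.bc k X k')), Curv2.bcFst k X k' x' = x →
          IsDomain ↥((Curv2.bc k X k').presheaf.stalk x') ∧
          IsIntegrallyClosed ↥((Curv2.bc k X k').presheaf.stalk x')) ↔
      ∀ (k' : Type u) [Field k'] [Algebra k k'],
        EGA4.IsNormalRing (k' ⊗[k] ↥(X.presheaf.stalk x))) := by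
  have h23 : (∀ (k' : Type u) [Field k'] [Algebra k k'] [FiniteDimensional k k']
        [IsPurelyInseparable k k'] (x' : ↥(Curv2.bc k X k')), Curv2.bcFst k X k' x' = x →
          IsDomain ↥((Curv2.bc k X k').presheaf.stalk x') ∧
          IsIntegrallyClosed ↥((Curv2.bc k X k').presheaf.stalk x')) →
      ∀ (k' : Type u) [Field k'] [Algebra k k'],
        EGA4.IsNormalRing (k' ⊗[k] ↥(X.presheaf.stalk x)) := by
    intro h2 K _ _
    exact isNormalRing_tensor_of_forall_pi_of_field k _
      (fun k' _ _ hfin hpi => normal_tensor_of_pts k X x h2 k' hfin hpi) K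
  have h31 : (∀ (k' : Type u) [Field k'] [Algebra k k'],
        EGA4.IsNormalRing (k' ⊗[k] ↥(X.presheaf.stalk x))) →
      (∀ (k' : Type u) [Field k'] [Algebra k k'] (x' : ↥(Curv2.bc k X k')),
        Curv2.bcFst k X k' x' = x →
          IsDomain ↥((Curv2.bc k X k').presheaf.stalk x') ∧
          IsIntegrallyClosed ↥((Curv2.bc k X k').presheaf.stalk x')) := by
    intro h3 K _ _ x' hx'
    exact stalk_normal_of_tensor k X K x (h3 K) x' hx'
  refine ⟨⟨fun h1 k' _ _ _ _ x' hx' => h1 k' x' hx', fun h2 => h31 (h23 h2)⟩,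
    ⟨h23, fun h3 k' _ _ _ _ x' hx' => h31 h3 k' x' hx'⟩⟩

theorem main1668
    (h : ∀ (k' : Type u) [Field k'] [Algebra k k'] [FiniteDimensional k k']
      [IsPurelyInseparable k k'], Pi1.IsNormalScheme (Curv2.bc k X k')) :
    Pi1.IsNormalScheme (Curv2.bc k X K) := by
  intro y
  have h3 : EGA4.IsNormalRing (K ⊗[k] X.presheaf.stalk (Curv2.bcFst k X K y)) :=
    isNormalRing_tensor_of_forall_pi_of_field k _
      (fun k' _ _ hfin hpi => normal_tensor_of_pts k X (Curv2.bcFst k X K y)
        (fun k'' _ _ _ _ x' _ => h k'' x') k' hfin hpi) K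
  exact stalk_normal_of_tensor k X K _ h3 y rfl

end Groth.Agent.Lib.StalkDict7H4
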