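import Mathlib
import Groth.Prelude.Def_Curv2
import Groth.Agent.Lib.StalkDict7_helper4
import Groth.Agent.Lib.GenSmoothGR2_helper6
import Groth.Agent.Lib.StalkSmooth_helper3
import Groth.Agent.Lib.SmoothRegField_helper3
import Groth.Agent.Lib.SmoothReg_helper3
import Groth.Agent.Lib.GeomRegAdic_helper3
import Groth.Agent.Lib.GeomRegFS_helper3
import Groth.Agent.S4573

/-!
# Geometric regularity at a point is smoothness at that point (helper3)

APPEND-ONLY once landed.
-/

set_option autoImplicit false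
set_option maxSynthPendingDepth 3
universe u

open scoped TensorProduct
open CategoryTheory CategoryTheory.Limits AlgebraicGeometry IsLocalRing

attribute [local instance] Curv2.stalkAlgebra

namespace Groth.Agent.Lib.GeomRegSmoothH3

variable (k : Type u) [Field k] (X : Scheme.{u}) [X.Over (Spec (CommRingCat.of k))]
  [LocallyOfFinitePresentation (X ↘ (Spec (CommRingCat.of k)))]

/-- smooth points are geometrically regular -/
theorem isGeomRegularAt_of_mem_smoothLocus (x : X)
    (hx : x ∈ (X ↘ (Spec (CommRingCat.of k))).smoothLocus) : Curv2.IsGeomRegularAt k X x := by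
  intro k' _ _ _ x' hx'
  haveI hfs : Algebra.FormallySmooth k (X.presheaf.stalk x) :=
    (Groth.Agent.Lib.GenSmoothGR2H6.mem_smoothLocus_iff k X x).1 hx
  haveI : LocallyOfFiniteType (Curv2.bcSnd k X k') := by
    show LocallyOfFiniteType (pullback.snd _ _)
    infer_instance
  haveI : IsLocallyNoetherian (Curv2.bc k X k') :=
    LocallyOfFiniteType.isLocallyNoetherian (Curv2.bcSnd k X k')
  obtain ⟨q, -, ⟨e⟩⟩ := Groth.Agent.Lib.StalkDict6H4.exists_prime k X k' x x' hx'
  -- transport to `k' ⊗ A`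
  let c : (k' ⊗[k] X.presheaf.stalk x) ≃+* (X.presheaf.stalk x ⊗[k] k') :=
    (Algebra.TensorProduct.comm k k' (X.presheaf.stalk x)).toRingEquiv
  haveI hq' : (q.asIdeal.comap c).IsPrime := Ideal.comap_isPrime _ _
  let E₁ : Localization.AtPrime (q.asIdeal.comap c) ≃+*
      Localization.AtPrime q.asIdeal :=
    IsLocalization.ringEquivOfRingEquiv (Localization.AtPrime (q.asIdeal.comap c))
      (Localization.AtPrime q.asIdeal) c (c.map_primeCompl_comap_eq q.asIdeal)
  let E : Localization.AtPrime (q.asIdeal.comap c) ≃+*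
      (Curv2.bc k X k').presheaf.stalk x' := E₁.trans e
  haveI : Algebra.FormallySmooth k' (Localization.AtPrime (q.asIdeal.comap c)) :=
    Algebra.FormallySmooth.comp k' (k' ⊗[k] X.presheaf.stalk x) _
  letI algB : Algebra k' ((Curv2.bc k X k').presheaf.stalk x') :=
    (E.toRingHom.comp (algebraMap k' _)).toAlgebra
  let Ea : Localization.AtPrime (q.asIdeal.comap c) ≃ₐ[k']
      (Curv2.bc k X k').presheaf.stalk x' := { E with commutes' := fun _ => rfl }
  haveI : Algebra.FormallySmooth k' ((Curv2.bc k X k').presheaf.stalk x') :=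
    Algebra.FormallySmooth.of_equiv Ea
  exact Groth.Agent.Lib.SmoothRegFieldH3.regular_of_formallySmooth_field (k := k')

/-- geometric regularity at a point gives adic formal smoothness of the local ring -/
theorem adic_of_isGeomRegularAt (x : X) (h : Curv2.IsGeomRegularAt k X x) :
    CAlgX.IsAdicFormallySmooth k (X.presheaf.stalk x) (maximalIdeal (X.presheaf.stalk x)) := by
  haveI : IsLocallyNoetherian X :=
    LocallyOfFiniteType.isLocallyNoetherian (X ↘ (Spec (CommRingCat.of k)))
  obtain ⟨p, hp⟩ := ExpChar.exists k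
  haveI := hp
  rw [Groth.Agent.S4573.result p]
  intro k' _ _ hfin hpow
  haveI := hfin
  haveI hpi : IsPurelyInseparable k k' :=
    (isPurelyInseparable_iff_pow_mem k p).mpr (fun y => ⟨1, by simpa using hpow y⟩)
  haveI hloc : IsLocalRing (X.presheaf.stalk x ⊗[k] k') :=
    Groth.Agent.Lib.StalkDict7H4.isLocalRing_tensor_pi (X.presheaf.stalk x) k'
  let Q : PrimeSpectrum (X.presheaf.stalk x ⊗[k] k') := IsLocalRing.closedPoint _
  have hQ : Q.asIdeal.comap (algebraMap (X.presheaf.stalk x) (X.presheaf.stalk x ⊗[k] k')) =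
      IsLocalRing.maximalIdeal _ := by
    haveI hmax : (Ideal.comap (algebraMap (X.presheaf.stalk x) (X.presheaf.stalk x ⊗[k] k'))
        (IsLocalRing.maximalIdeal (X.presheaf.stalk x ⊗[k] k'))).IsMaximal :=
      Ideal.isMaximal_comap_of_isIntegral_of_isMaximal (R := X.presheaf.stalk x)
        (IsLocalRing.maximalIdeal (X.presheaf.stalk x ⊗[k] k'))
    exact IsLocalRing.eq_maximalIdeal hmax
  obtain ⟨x', hx', ⟨e⟩⟩ := Groth.Agent.Lib.StalkDict7H4.exists_pt_of_prime k X k' x Q
  haveI hreg : IsRegularLocalRing ((Curv2.bc k X k').presheaf.stalk x') :=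
    h k' (IntermediateField.fg_top k k') x' (hx' hQ)
  haveI hregL : IsRegularLocalRing (Localization.AtPrime Q.asIdeal) :=
    IsRegularLocalRing.of_ringEquiv e.symm
  haveI hN : IsNoetherianRing (k' ⊗[k] X.presheaf.stalk x) :=
    Groth.Agent.Lib.GeomRegFSH3.isNoetherianRing_tensor_of_finite (k := k)
      (S := X.presheaf.stalk x) k'
  haveI hN' : IsNoetherianRing (X.presheaf.stalk x ⊗[k] k') :=
    isNoetherianRing_of_ringEquiv _
      (Algebra.TensorProduct.comm k k' (X.presheaf.stalk x)).toRingEquiv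
  haveI hR : IsRegularRing (X.presheaf.stalk x ⊗[k] k') := by
    apply Groth.Agent.Lib.GeomRegAdicH3.isRegularRing_of_forall_maximal
    intro 𝔐 h𝔐
    have h1 : 𝔐 = Q.asIdeal := IsLocalRing.eq_maximalIdeal h𝔐
    subst h1
    exact hregL
  exact IsRegularRing.of_ringEquiv
    (Algebra.TensorProduct.comm k (X.presheaf.stalk x) k').toRingEquiv

/-- geometrically regular points are smooth -/
theorem mem_smoothLocus_of_isGeomRegularAt (x : X) (h : Curv2.IsGeomRegularAt k X x) :
    x ∈ (X ↘ (Spec (CommRingCat.of k))).smoothLocus := by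
  haveI : IsLocallyNoetherian X :=
    LocallyOfFiniteType.isLocallyNoetherian (X ↘ (Spec (CommRingCat.of k)))
  have hadic := adic_of_isGeomRegularAt k X x h
  rw [Scheme.Hom.mem_smoothLocus]
  obtain ⟨ε, hεdef⟩ : ∃ ε : k →+* (Spec (CommRingCat.of k)).presheaf.stalk
      ((X ↘ (Spec (CommRingCat.of k))) x),
      ε = ((Scheme.ΓSpecIso (CommRingCat.of k)).inv ≫
        (Spec (CommRingCat.of k)).presheaf.germ ⊤ ((X ↘ (Spec (CommRingCat.of k))) x)
          trivial).hom := ⟨_, rfl⟩
  have hεbij : Function.Bijective ε := by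
    rw [hεdef]; exact Groth.Agent.Lib.GenSmoothGRH6.bijective_toStalk_field _
  have hσ : ((X ↘ (Spec (CommRingCat.of k))).stalkMap x).hom.comp ε = Curv2.stalkMap k X x := by
    rw [hεdef]
    ext r
    exact Scheme.Hom.germ_stalkMap_apply (X ↘ Spec (CommRingCat.of k)) ⊤ x trivial _
  letI alg : Algebra ((Spec (CommRingCat.of k)).presheaf.stalk ((X ↘ (Spec (CommRingCat.of k))) x))
      (X.presheaf.stalk x) := ((X ↘ (Spec (CommRingCat.of k))).stalkMap x).hom.toAlgebra
  letI algk : Algebra k ((Spec (CommRingCat.of k)).presheaf.stalk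
      ((X ↘ (Spec (CommRingCat.of k))) x)) := ε.toAlgebra
  haveI : IsScalarTower k
      ((Spec (CommRingCat.of k)).presheaf.stalk ((X ↘ (Spec (CommRingCat.of k))) x))
      (X.presheaf.stalk x) := IsScalarTower.of_algebraMap_eq (fun r => by
        have := congrArg (fun φ : k →+* X.presheaf.stalk x => φ r) hσ
        exact this.symm)
  obtain ⟨n, g, hg⟩ := Groth.Agent.Lib.StalkSmoothH3.exists_poly_stalk
    (X ↘ (Spec (CommRingCat.of k))) x
  have h2 := Groth.Agent.Lib.SmoothRegFieldH3.adic_base_of_surjective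
    (R₀ := (Spec (CommRingCat.of k)).presheaf.stalk ((X ↘ (Spec (CommRingCat.of k))) x))
    hεbij.2 _ hadic
  exact Groth.Agent.Lib.SmoothRegH3.formallySmooth_of_adic_of_poly n g hg h2

theorem main1562 (x : X) :
    Curv2.IsGeomRegularAt k X x ↔ x ∈ (X ↘ (Spec (CommRingCat.of k))).smoothLocus :=
  ⟨mem_smoothLocus_of_isGeomRegularAt k X x, isGeomRegularAt_of_mem_smoothLocus k X x⟩

end Groth.Agent.Lib.GeomRegSmoothH3
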