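import Mathlib
import Groth.Prelude
import Groth.Agent.Lib.GeomRegSmooth_helper3
import Groth.Agent.Lib.GeomRegDesc_helper4
import Groth.Agent.Lib.JacDimSch_helper3
import Groth.Agent.Lib.SmoothFibDim_helper4

/-!
# A normal curve dominated by a smooth curve is smooth (helper3)
APPEND-ONLY once landed.
-/

set_option autoImplicit false
universe u

open CategoryTheory CategoryTheory.Limits AlgebraicGeometry TopologicalSpace Opposite

namespace Groth.Agent.Lib.CurveNormalSmoothH3

/-- an injective ring map from a normal Noetherian local domain of dimension `≤ 1` to a domain is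
flat. -/
theorem flat_of_injective (A B : Type u) [CommRing A] [CommRing B] [IsDomain A]
    [IsNoetherianRing A] [IsIntegrallyClosed A] (hdim : ringKrullDim A ≤ 1) [IsDomain B]
    (φ : A →+* B) (hφ : Function.Injective φ) : φ.Flat := by
  haveI : Ring.KrullDimLE 1 A := Ring.krullDimLE_iff.mpr hdim
  haveI : Ring.DimensionLEOne A :=
    ⟨fun hp hpr => Ring.krullDimLE_one_iff_of_noZeroDivisors.mp inferInstance _ hp hpr⟩
  haveI : IsDedekindDomain A := {}
  letI := φ.toAlgebra
  haveI : Module.IsTorsionFree A B := by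
    refine ⟨fun r hr => ?_⟩
    have hr0 : r ≠ 0 := hr.ne_zero
    have hφr : φ r ≠ 0 := fun h => hr0 (hφ (by rw [h, map_zero]))
    intro b₁ b₂ hb
    exact mul_left_cancel₀ hφr hb
  show Module.Flat A B
  infer_instance

theorem stalkMap_injective_of_dominant {X Y : Scheme.{u}} [IsIntegral X] [IsIntegral Y]
    (f : X ⟶ Y) [IsDominant f] [QuasiCompact f] (x : X) :
    Function.Injective (f.stalkMap x).hom := by
  haveI := IsSchemeTheoreticallyDominant.of_isDominant f
  obtain ⟨_, ⟨U, hU, rfl⟩, hxU, -⟩ :=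
    Y.isBasis_affineOpens.exists_subset_of_mem_open (Set.mem_univ (f x)) isOpen_univ
  apply IsAffineOpen.stalkMap_injective f hU x hxU
  intro g hg
  rw [Scheme.Hom.germ_stalkMap_apply] at hg
  have h1 := germ_injective_of_isIntegral X x (U := f ⁻¹ᵁ U) hxU
  have h2 : f.app U g = 0 := h1 (by rw [hg, map_zero])
  have h3 : g = 0 := f.app_injective U (by rw [h2, map_zero])
  rw [h3, map_zero]

theorem ringKrullDim_stalk_le (Y : Scheme.{u}) (y : Y) :
    ringKrullDim (Y.presheaf.stalk y) ≤ topologicalKrullDim Y := by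
  obtain ⟨_, ⟨U, hU, rfl⟩, hyU, -⟩ :=
    Y.isBasis_affineOpens.exists_subset_of_mem_open (Set.mem_univ y) isOpen_univ
  rw [Groth.Agent.Lib.JacDimSchH3.ringKrullDim_stalk_eq_height hU y hyU]
  calc ((hU.primeIdealOf ⟨y, hyU⟩).asIdeal.height : WithBot ℕ∞)
      ≤ ringKrullDim Γ(Y, U) :=
        Ideal.height_le_ringKrullDim_of_ne_top (Ideal.IsPrime.ne_top inferInstance)
    _ = topologicalKrullDim ((U : Y.Opens) : Set Y) :=
        (Groth.Agent.Lib.SmoothFibDimH4.topDim_affineOpen hU).symm
    _ ≤ topologicalKrullDim Y := topologicalKrullDim_subspace_le Y _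

theorem main6557 (k : Type u) [Field k]
    (X Y : Scheme.{u}) [X.Over (Spec (CommRingCat.of k))] [Y.Over (Spec (CommRingCat.of k))]
    [IsIntegral X] [QuasiCompact (X ↘ (Spec (CommRingCat.of k)))]
    [IsIntegral Y] [IsSeparated (Y ↘ (Spec (CommRingCat.of k)))]
    [LocallyOfFiniteType (Y ↘ (Spec (CommRingCat.of k)))]
    (hdY : topologicalKrullDim Y = 1)
    (f : X ⟶ Y) (hf : f ≫ (Y ↘ (Spec (CommRingCat.of k))) = X ↘ (Spec (CommRingCat.of k)))
    [Surjective f] [Smooth (X ↘ (Spec (CommRingCat.of k)))] (hY : Pi1.IsNormalScheme Y) :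
    Smooth (Y ↘ (Spec (CommRingCat.of k))) := by
  haveI : IsLocallyNoetherian Y :=
    LocallyOfFiniteType.isLocallyNoetherian (Y ↘ Spec (CommRingCat.of k))
  haveI : LocallyOfFinitePresentation (Y ↘ Spec (CommRingCat.of k)) :=
    LocallyOfFinitePresentation.iff_locallyOfFiniteType.mpr inferInstance
  haveI : LocallyOfFinitePresentation (X ↘ Spec (CommRingCat.of k)) := inferInstance
  haveI : QuasiCompact (f ≫ (Y ↘ Spec (CommRingCat.of k))) := hf ▸ inferInstance
  haveI : QuasiCompact f := QuasiCompact.of_comp f (Y ↘ Spec (CommRingCat.of k))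
  rw [← Scheme.Hom.smoothLocus_eq_top_iff, eq_top_iff]
  intro y _
  obtain ⟨x, rfl⟩ := f.surjective y
  rw [← Groth.Agent.Lib.GeomRegSmoothH3.main1562 k Y (f x)]
  refine Groth.Agent.Lib.GeomRegDescH4.main1563 k X Y f hf x ?_ ?_
  · -- flatness of the stalk map
    obtain ⟨hdom, hic⟩ := hY (f x)
    haveI := hdom
    haveI := hic
    haveI : IsDomain (X.presheaf.stalk x) := inferInstance
    refine flat_of_injective _ _ ?_ _ (stalkMap_injective_of_dominant f x)
    exact (ringKrullDim_stalk_le Y (f x)).trans hdY.le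
  · rw [Groth.Agent.Lib.GeomRegSmoothH3.main1562 k X x,
      Scheme.Hom.smoothLocus_eq_top_iff.mpr inferInstance]
    trivial

end Groth.Agent.Lib.CurveNormalSmoothH3
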