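import Mathlib
import Groth.Prelude
import Groth.Agent.Lib.CurveAmp4_helper9
import Groth.Agent.Lib.NormFieldFT_helper4
import Groth.Agent.Lib.LocIntegral_helper4
import Groth.Agent.Lib.BirCurve1_helper9

/-!
# A normal open subscheme of a reduced curve containing all generic points (helper9).
APPEND-ONLY once landed.
-/

set_option autoImplicit false
universe u
open CategoryTheory CategoryTheory.Limits AlgebraicGeometry Opposite TopologicalSpace

namespace CurveRed9

section NormalOpen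

theorem isDomain_stalk_of_isMax {X : Scheme.{u}} [IsReduced X] {η : X} (h : IsMax η) :
    IsDomain (X.presheaf.stalk η) := by
  haveI : Ring.KrullDimLE 0 (X.presheaf.stalk η) := by
    refine krullDimLE_of_coheight_le ?_
    rw [Order.coheight_eq_zero.mpr h]
    exact le_rfl
  exact (Ring.KrullDimLE.isField_of_isReduced (R := X.presheaf.stalk η)).isDomain

theorem exists_normal_open_nhds (k : Type u) [Field k] (X : Scheme.{u})
    [X.Over (Spec (CommRingCat.of k))]
    [LocallyOfFiniteType (X ↘ Spec (CommRingCat.of k))] [IsReduced X] {η : X} (h : IsMax η) :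
    ∃ V : X.Opens, η ∈ V ∧ (∀ x ∈ V, η ⤳ x) ∧
      ∀ x ∈ V, IsDomain (X.presheaf.stalk x) ∧ IsIntegrallyClosed (X.presheaf.stalk x) := by
  haveI : IsLocallyNoetherian X :=
    LocallyOfFiniteType.isLocallyNoetherian (X ↘ Spec (CommRingCat.of k))
  haveI := isDomain_stalk_of_isMax h
  obtain ⟨W, hηW, hWirr⟩ := Groth.Agent.Lib.LocIntegralH4.exists_irreducible_open_nhds X η
  haveI : IsReduced (W : Scheme.{u}) := isReduced_of_isOpenImmersion W.ι
  haveI : IrreducibleSpace ↥(W : Scheme.{u}) := Subtype.irreducibleSpace hWirr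
  haveI : IsIntegral (W : Scheme.{u}) := isIntegral_of_irreducibleSpace_of_isReduced _
  letI : (W : Scheme.{u}).Over (Spec (CommRingCat.of k)) := ⟨W.ι ≫ X ↘ Spec (CommRingCat.of k)⟩
  have hover : (W : Scheme.{u}) ↘ Spec (CommRingCat.of k) = W.ι ≫ X ↘ Spec (CommRingCat.of k) := rfl
  haveI : LocallyOfFiniteType ((W : Scheme.{u}) ↘ Spec (CommRingCat.of k)) := by
    rw [hover]; infer_instance
  obtain ⟨W', hW', hgW', -⟩ :=
    exists_isAffineOpen_mem_and_subset (X := (W : Scheme.{u})) (x := genericPoint (W : Scheme.{u}))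
      (U := ⊤) trivial
  have hne : Nonempty ((W' : (W : Scheme.{u}).Opens) : Scheme.{u}) :=
    ⟨⟨genericPoint (W : Scheme.{u}), hgW'⟩⟩
  obtain ⟨V, hVne, hV⟩ := Groth.Agent.Lib.NormFieldFTH4.exists_open_normal (W : Scheme.{u}) W' hW' hne
    (Groth.Agent.Lib.NormFieldFTH4.isN2_sections k (W : Scheme.{u}) W' hW' hne)
  obtain ⟨v0, hv0⟩ : ∃ v0 : (W : Scheme.{u}), v0 ∈ V := hVne
  have hgV : genericPoint (W : Scheme.{u}) ∈ V :=
    (genericPoint_specializes v0).mem_open V.2 hv0
  have hgη : W.ι (genericPoint (W : Scheme.{u})) = η := by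
    have h1 : W.ι (genericPoint (W : Scheme.{u})) ⤳ W.ι ⟨η, hηW⟩ :=
      (genericPoint_specializes (α := ↥(W : Scheme.{u})) ⟨η, hηW⟩).map W.ι.continuous
    have h2 : η ≤ W.ι (genericPoint (W : Scheme.{u})) := h1
    exact (CurveH8.eq_of_le_of_le h2 (h h2)).symm
  refine ⟨W.ι ''ᵁ V, ⟨genericPoint (W : Scheme.{u}), hgV, hgη⟩, ?_, ?_⟩
  · rintro x ⟨v, hv, rfl⟩
    rw [← hgη]
    exact (genericPoint_specializes v).map W.ι.continuous
  · rintro x ⟨v, hv, rfl⟩
    exact CurveComp9.isNormal_stalk_of_isOpenImmersion' W.ι v ⟨inferInstance, hV v hv⟩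

theorem exists_normal_open (k : Type u) [Field k] (X : Scheme.{u})
    [X.Over (Spec (CommRingCat.of k))]
    [LocallyOfFiniteType (X ↘ Spec (CommRingCat.of k))] [IsReduced X]
    (hdim : topologicalKrullDim X ≤ 1) :
    ∃ U : X.Opens, (∀ x : X, x ∉ U → IsClosed ({x} : Set X)) ∧
      (∀ x ∈ U, IsDomain (X.presheaf.stalk x) ∧ IsIntegrallyClosed (X.presheaf.stalk x)) ∧
      (∀ x ∈ U, IsClosed ({x} : Set X) → ringKrullDim (X.presheaf.stalk x) = 1) := by
  have hex : ∀ η : {η : X // IsMax η ∧ ¬ IsMin η}, ∃ V : X.Opens, η.1 ∈ V ∧ (∀ x ∈ V, η.1 ⤳ x) ∧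
      ∀ x ∈ V, IsDomain (X.presheaf.stalk x) ∧ IsIntegrallyClosed (X.presheaf.stalk x) :=
    fun η => exists_normal_open_nhds k X η.2.1
  choose V hηV hVsp hVn using hex
  refine ⟨⨆ η, V η, ?_, ?_, ?_⟩
  · intro x hx
    rcases CurveH8.isMin_or_isMax hdim x with hmin | hmax
    · exact CurveH8.isClosed_singleton_of_isMin hmin
    · by_cases hmin : IsMin x
      · exact CurveH8.isClosed_singleton_of_isMin hmin
      · exact absurd (Opens.mem_iSup.mpr ⟨⟨x, hmax, hmin⟩, hηV ⟨x, hmax, hmin⟩⟩) hx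
  · intro x hx
    obtain ⟨η, hxη⟩ := Opens.mem_iSup.mp hx
    exact hVn η x hxη
  · intro x hx hcl
    obtain ⟨η, hxη⟩ := Opens.mem_iSup.mp hx
    have hsp : η.1 ⤳ x := hVsp η x hxη
    have hle : x ≤ η.1 := hsp
    have hne : ¬ IsMax x := by
      intro hmax
      have hxe : x = η.1 := CurveH8.eq_of_le_of_le hle (hmax hle)
      apply η.2.2
      rw [← hxe]
      intro y hy
      have hy' : x ⤳ y := hy
      have : y ∈ closure ({x} : Set X) := specializes_iff_mem_closure.mp hy'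
      rw [hcl.closure_eq] at this
      rw [Set.mem_singleton_iff.mp this]
    refine le_antisymm (BirCurve.ringKrullDim_stalk_le hdim x) ?_
    rw [AlgebraicGeometry.ringKrullDim_stalk_eq_coheight]
    have h0 : Order.coheight x ≠ 0 := fun h0 => hne (Order.coheight_eq_zero.mp h0)
    have h1 : (1 : ℕ∞) ≤ Order.coheight x := Order.one_le_iff_ne_zero.mpr h0
    exact_mod_cast h1

end NormalOpen

end CurveRed9
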