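import Mathlib
import Groth.Prelude

/-!
# Gluing two schemes along a common open subscheme, over a base (helper9).
APPEND-ONLY once landed.
-/

set_option autoImplicit false
universe u
open CategoryTheory CategoryTheory.Limits AlgebraicGeometry Opposite TopologicalSpace

namespace CurveRed9

section Glue

variable {U X C T : Scheme.{u}} (a : U ⟶ X) (b : U ⟶ C) [IsOpenImmersion a] [IsOpenImmersion b]

theorem isOpenImmersion_span_map :
    ∀ {i j : WalkingSpan} (f : i ⟶ j), IsOpenImmersion ((span a b).map f) := by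
  intro i j f
  rcases f with _ | f
  · rw [show WidePushoutShape.Hom.id i = 𝟙 i from rfl, (span a b).map_id]
    infer_instance
  · cases f
    · exact inferInstanceAs (IsOpenImmersion a)
    · exact inferInstanceAs (IsOpenImmersion b)

instance isOpenImmersion_inl : IsOpenImmersion (pushout.inl a b) := by
  haveI : ∀ {i j : WalkingSpan} (f : i ⟶ j), IsOpenImmersion ((span a b).map f) :=
    isOpenImmersion_span_map a b
  exact inferInstanceAs (IsOpenImmersion (colimit.ι (span a b) WalkingSpan.left))

instance isOpenImmersion_inr : IsOpenImmersion (pushout.inr a b) := by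
  haveI : ∀ {i j : WalkingSpan} (f : i ⟶ j), IsOpenImmersion ((span a b).map f) :=
    isOpenImmersion_span_map a b
  exact inferInstanceAs (IsOpenImmersion (colimit.ι (span a b) WalkingSpan.right))

theorem inl_or_inr (y : (pushout a b : Scheme.{u})) :
    (∃ x : X, pushout.inl a b x = y) ∨ (∃ c : C, pushout.inr a b c = y) := by
  haveI : ∀ {i j : WalkingSpan} (f : i ⟶ j), IsOpenImmersion ((span a b).map f) :=
    isOpenImmersion_span_map a b
  obtain ⟨i, xi, h⟩ := Scheme.IsLocallyDirected.ι_jointly_surjective (span a b) y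
  rcases i with _ | i
  · right
    refine ⟨b xi, ?_⟩
    rw [← h, ← Scheme.Hom.comp_apply]
    have h1 : b ≫ pushout.inr a b = colimit.ι (span a b) none :=
      colimit.w (span a b) WalkingSpan.Hom.snd
    rw [h1]
    rfl
  · cases i
    · exact Or.inl ⟨xi, h⟩
    · exact Or.inr ⟨xi, h⟩

theorem isProper_restrict_of_isPullback {Y T W' : Scheme.{u}} (π : Y ⟶ T) (W : T.Opens)
    (g'' : W' ⟶ (W : Scheme.{u})) (i : W' ⟶ Y) (hp : IsPullback g'' i W.ι π) [IsProper g''] :
    IsProper (π ∣_ W) := by
  have h1 := IsPullback.isoIsPullback_inv_fst _ _ hp (isPullback_morphismRestrict π W)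
  rw [← h1]
  infer_instance

variable {a b}

theorem isProper_desc (f : X ⟶ T) [IsOpenImmersion f] (g : C ⟶ T) (h : a ≫ f = b ≫ g)
    (V : T.Opens) (g' : C ⟶ (V : Scheme.{u})) [IsProper g'] (hg' : g' ≫ V.ι = g)
    (hcov : ∀ t : T, t ∈ Set.range f ∨ t ∈ V)
    (h1 : ∀ x : X, f x ∈ V → x ∈ Set.range a)
    (h2 : ∀ c : C, g c ∈ Set.range f → c ∈ Set.range b) :
    IsProper (pushout.desc f g h) := by
  have hinl : pushout.inl a b ≫ pushout.desc f g h = f := pushout.inl_desc _ _ _
  have hinr : pushout.inr a b ≫ pushout.desc f g h = g := pushout.inr_desc _ _ _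
  have hinl' : ∀ x : X, pushout.desc f g h (pushout.inl a b x) = f x := fun x => by
    rw [← Scheme.Hom.comp_apply, hinl]
  have hinr' : ∀ c : C, pushout.desc f g h (pushout.inr a b c) = g c := fun c => by
    rw [← Scheme.Hom.comp_apply, hinr]
  have hcond : ∀ t : U, pushout.inl a b (a t) = pushout.inr a b (b t) := fun t => by
    rw [← Scheme.Hom.comp_apply, ← Scheme.Hom.comp_apply, pushout.condition]
  have hgV : ∀ c : C, g c ∈ V := fun c => by
    rw [← hg', Scheme.Hom.comp_apply]
    exact (g' c).2
  have e1 : (pushout.desc f g h) ⁻¹ᵁ f.opensRange = (pushout.inl a b).opensRange := by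
    ext y
    constructor
    · intro hy
      rcases inl_or_inr a b y with ⟨x, rfl⟩ | ⟨c, rfl⟩
      · exact ⟨x, rfl⟩
      · have hy' : g c ∈ Set.range f := by
          have : pushout.desc f g h (pushout.inr a b c) ∈ Set.range f := hy
          rwa [hinr'] at this
        obtain ⟨t, rfl⟩ := h2 c hy'
        exact ⟨a t, hcond t⟩
    · rintro ⟨x, rfl⟩
      show pushout.desc f g h (pushout.inl a b x) ∈ Set.range f
      rw [hinl']
      exact ⟨x, rfl⟩
  have e2 : (pushout.desc f g h) ⁻¹ᵁ V = (pushout.inr a b).opensRange := by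
    ext y
    constructor
    · intro hy
      rcases inl_or_inr a b y with ⟨x, rfl⟩ | ⟨c, rfl⟩
      · have hy' : f x ∈ V := by
          have : pushout.desc f g h (pushout.inl a b x) ∈ V := hy
          rwa [hinl'] at this
        obtain ⟨t, rfl⟩ := h1 x hy'
        exact ⟨b t, (hcond t).symm⟩
      · exact ⟨c, rfl⟩
    · rintro ⟨c, rfl⟩
      show pushout.desc f g h (pushout.inr a b c) ∈ V
      rw [hinr']
      exact hgV c
  have p1 : IsPullback f.isoOpensRange.hom (pushout.inl a b) f.opensRange.ι
      (pushout.desc f g h) :=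
    IsOpenImmersion.isPullback _ _ _ _ (by rw [hinl]; simp)
      (by rw [Scheme.Opens.opensRange_ι]; exact e1)
  have p2 : IsPullback g' (pushout.inr a b) V.ι (pushout.desc f g h) :=
    IsOpenImmersion.isPullback _ _ _ _ (by rw [hinr, hg'])
      (by rw [Scheme.Opens.opensRange_ι]; exact e2)
  refine IsZariskiLocalAtTarget.of_iSup_eq_top (P := @IsProper)
    (fun i : Bool => if i then f.opensRange else V) ?_ ?_
  · refine top_le_iff.mp fun t _ => ?_
    rw [Opens.mem_iSup]
    rcases hcov t with ht | ht
    · exact ⟨true, ht⟩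
    · exact ⟨false, ht⟩
  · intro i
    cases i
    · exact isProper_restrict_of_isPullback _ V g' _ p2
    · exact isProper_restrict_of_isPullback _ f.opensRange f.isoOpensRange.hom _ p1

end Glue

end CurveRed9
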