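import Mathlib
import Groth.Prelude
import Groth.Agent.Lib.CurveRed1_helper9
import Groth.Agent.Lib.RatExt2_helper7
import Groth.Agent.Lib.ProperBirat2_helper7

/-!
# Extending morphisms from normal curves, and preimages of dense opens (helper9).
APPEND-ONLY once landed.
-/

set_option autoImplicit false
universe u
open CategoryTheory CategoryTheory.Limits AlgebraicGeometry Opposite TopologicalSpace

namespace CurveRed9

section Pieces

theorem isDVR_of_normal_of_dim_one (R : Type*) [CommRing R] [IsNoetherianRing R] [IsLocalRing R]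
    [IsDomain R] [IsIntegrallyClosed R] (h : ringKrullDim R = 1) : IsDiscreteValuationRing R := by
  haveI : ValuationRing R :=
    Groth.Agent.Lib.ProperBirat2H7.valuationRing_of_ringKrullDim_le_one R h.le
  have hnf : ¬ IsField R := fun hf => by
    rw [ringKrullDim_eq_zero_of_isField hf] at h
    exact zero_ne_one h
  have h01 := (IsDiscreteValuationRing.TFAE R hnf).out 0 1
  exact h01.mpr ‹ValuationRing R›

/-- a morphism from a dense open of a normal curve to a proper `k`-scheme extends -/
theorem exists_extension (k : Type u) [Field k] (C : Scheme.{u}) [C.Over (Spec (CommRingCat.of k))]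
    [LocallyOfFiniteType (C ↘ Spec (CommRingCat.of k))]
    (hCn : Pi1.IsNormalScheme C) (hdimC : topologicalKrullDim C ≤ 1)
    {Y₀ : Scheme.{u}} (p : Y₀ ⟶ Spec (CommRingCat.of k)) [IsProper p]
    {U : Scheme.{u}} (u : U ⟶ C) [IsOpenImmersion u] (hu : Dense (Set.range u))
    (g : U ⟶ Y₀) (hg : g ≫ p = u ≫ (C ↘ Spec (CommRingCat.of k))) :
    ∃ φ : C ⟶ Y₀, u ≫ φ = g ∧ φ ≫ p = C ↘ Spec (CommRingCat.of k) := by
  haveI : IsLocallyNoetherian C :=
    LocallyOfFiniteType.isLocallyNoetherian (C ↘ (Spec (CommRingCat.of k)))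
  haveI : ∀ x : C, _root_.IsReduced (C.presheaf.stalk x) := fun x => by
    haveI := (hCn x).1
    infer_instance
  haveI : IsReduced C := isReduced_of_isReduced_stalk C
  have hV : Dense ((u.opensRange : C.Opens) : Set C) := by
    rw [Scheme.Hom.coe_opensRange]
    exact hu
  have hg₁ : (u.isoOpensRange.inv ≫ g) ≫ p = u.opensRange.ι ≫ (C ↘ Spec (CommRingCat.of k)) := by
    rw [Category.assoc, hg, ← Category.assoc]
    congr 1
    rw [Iso.inv_comp_eq]
    simp
  obtain ⟨U', hUU', g', hg'p, hg'ext, hall⟩ :=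
    Groth.Agent.Lib.RatExt2H7.exists_extension_of_forall_valuationRing
      p (C ↘ (Spec (CommRingCat.of k))) (fun _ => True)
      (fun x _ => by
        haveI := (hCn x).1
        haveI := (hCn x).2
        exact ⟨(hCn x).1,
          Groth.Agent.Lib.ProperBirat2H7.valuationRing_of_ringKrullDim_le_one _
            (BirCurve.ringKrullDim_stalk_le hdimC x)⟩)
      u.opensRange hV (u.isoOpensRange.inv ≫ g) hg₁
  have hU'top : U' = ⊤ := top_le_iff.mp (fun y _ => hall y trivial)
  subst hU'top
  have hUι : C.homOfLE hUU' ≫ (⊤ : C.Opens).ι = u.opensRange.ι := Scheme.homOfLE_ι _ _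
  haveI : IsIso (⊤ : C.Opens).ι := by
    change IsIso C.topIso.hom
    infer_instance
  refine ⟨inv (⊤ : C.Opens).ι ≫ g', ?_, ?_⟩
  · have h1 : u = u.isoOpensRange.hom ≫ u.opensRange.ι := by simp
    rw [h1, ← hUι]
    simp only [Category.assoc, IsIso.hom_inv_id_assoc]
    rw [hg'ext, Iso.hom_inv_id_assoc]
  · rw [Category.assoc, hg'p, IsIso.inv_hom_id_assoc]

/-- the preimage of the image of a dense open under a separated extension -/
theorem mem_range_of_mem_range {U C T : Scheme.{u}} (u : U ⟶ C) [IsOpenImmersion u]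
    (hu : Dense (Set.range u)) (φ : C ⟶ T) [IsSeparated φ] (i : U ⟶ T) [IsOpenImmersion i]
    (h : u ≫ φ = i) (c : C) (hc : φ c ∈ Set.range i) : c ∈ Set.range u := by
  let σ : U ⟶ pullback φ i := pullback.lift u (𝟙 U) (by rw [h, Category.id_comp])
  have h1 : σ ≫ pullback.snd φ i = 𝟙 U := pullback.lift_snd _ _ _
  have h2 : σ ≫ pullback.fst φ i = u := pullback.lift_fst _ _ _
  haveI : IsClosedImmersion (σ ≫ pullback.snd φ i) := by rw [h1]; infer_instance
  haveI : IsClosedImmersion σ := IsClosedImmersion.of_comp σ (pullback.snd φ i)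
  have hcl : IsClosed (Set.range σ) := σ.isClosedEmbedding.isClosed_range
  have hrange : Set.range σ = (pullback.fst φ i) ⁻¹' (Set.range u) := by
    ext q
    constructor
    · rintro ⟨t, rfl⟩
      exact ⟨t, by rw [← h2, Scheme.Hom.comp_apply]⟩
    · rintro ⟨t, ht⟩
      refine ⟨t, (pullback.fst φ i).isOpenEmbedding.injective ?_⟩
      rw [← Scheme.Hom.comp_apply, h2]
      exact ht
  have hd : Dense (Set.range σ) := by
    rw [hrange]
    exact hu.preimage (pullback.fst φ i).isOpenEmbedding.isOpenMap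
  have hsurj : Set.range σ = Set.univ := by
    rw [← hcl.closure_eq]
    exact hd.closure_eq
  have hc1 : c ∈ Set.range (pullback.fst φ i) := by
    rw [Scheme.Pullback.range_fst]
    exact hc
  obtain ⟨q, rfl⟩ := hc1
  obtain ⟨t, rfl⟩ : q ∈ Set.range σ := by rw [hsurj]; trivial
  exact ⟨t, by rw [← Scheme.Hom.comp_apply, h2]⟩

end Pieces

end CurveRed9
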