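import Mathlib
import Groth.Prelude
import Groth.Agent.Lib.CurveRed2_helper9
import Groth.Agent.Lib.CurveRed3_helper9
import Groth.Agent.Lib.OneDim3_helper9
import Groth.Agent.Lib.CurveComp4_helper9

/-!
# Projective completion of a reduced curve with regular boundary (helper9).
APPEND-ONLY once landed.
-/

set_option autoImplicit false
universe u
open CategoryTheory CategoryTheory.Limits AlgebraicGeometry Opposite TopologicalSpace

namespace CurveRed9

section Finish

theorem finish (k : Type u) [Field k] (X : Scheme.{u}) [X.Over (Spec (CommRingCat.of k))]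
    [IsReduced X] (hdim : topologicalKrullDim X ≤ 1)
    {Us Cs Y₀ : Scheme.{u}} (a : Us ⟶ X) (b : Us ⟶ Cs) [IsOpenImmersion a] [IsOpenImmersion b]
    (hbd : Dense (Set.range b))
    (hCn : ∀ c : Cs, IsDomain (Cs.presheaf.stalk c) ∧ IsIntegrallyClosed (Cs.presheaf.stalk c))
    (hCd : ∀ c : Cs, c ∉ Set.range b → ringKrullDim (Cs.presheaf.stalk c) = 1)
    (p₀ : Y₀ ⟶ Spec (CommRingCat.of k)) [IsProper p₀]
    (f : X ⟶ Y₀) (g : Cs ⟶ Y₀) (h : a ≫ f = b ≫ g) (hf : f ≫ p₀ = X ↘ Spec (CommRingCat.of k))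
    [IsProper (pushout.desc f g h)] :
    ∃ (d : ℕ) (Y : Scheme.{u}) (c : Y ⟶ CohB1.ProjSpace d k) (j : X ⟶ Y), IsClosedImmersion c ∧
      IsOpenImmersion j ∧
      j ≫ c ≫ CohB1.ProjSpace.toSpec d k = X ↘ (Spec (CommRingCat.of k)) ∧
      Dense (Set.range j.base) ∧ IsSchemeTheoreticallyDominant j ∧
      (Set.range j.base)ᶜ.Finite ∧ ∀ y ∈ (Set.range j.base)ᶜ, IsClosed ({y} : Set Y) ∧
        ∃ _ : IsDomain (Y.presheaf.stalk y), IsDiscreteValuationRing (Y.presheaf.stalk y) := by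
  letI : (pushout a b : Scheme.{u}).Over (Spec (CommRingCat.of k)) := ⟨pushout.desc f g h ≫ p₀⟩
  have hoverY : (pushout a b : Scheme.{u}) ↘ Spec (CommRingCat.of k) = pushout.desc f g h ≫ p₀ := rfl
  haveI : IsProper ((pushout a b : Scheme.{u}) ↘ Spec (CommRingCat.of k)) := by
    rw [hoverY]; infer_instance
  haveI : IsLocallyNoetherian (pushout a b : Scheme.{u}) :=
    LocallyOfFiniteType.isLocallyNoetherian ((pushout a b : Scheme.{u}) ↘ Spec (CommRingCat.of k))
  haveI : CompactSpace (pushout a b : Scheme.{u}) :=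
    QuasiCompact.compactSpace_of_compactSpace ((pushout a b : Scheme.{u}) ↘ Spec (CommRingCat.of k))
  haveI : IsNoetherian (pushout a b : Scheme.{u}) := {}
  have hcondpt : ∀ t : Us, pushout.inl a b (a t) = pushout.inr a b (b t) := fun t => by
    rw [← Scheme.Hom.comp_apply, ← Scheme.Hom.comp_apply, pushout.condition]
  have hjcomp : pushout.inl a b ≫ ((pushout a b : Scheme.{u}) ↘ Spec (CommRingCat.of k)) =
      X ↘ Spec (CommRingCat.of k) := by
    rw [hoverY, ← Category.assoc, pushout.inl_desc, hf]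
  have hdense : Dense (Set.range (pushout.inl a b)) := by
    intro y
    rcases inl_or_inr a b y with ⟨x, rfl⟩ | ⟨c, rfl⟩
    · exact subset_closure ⟨x, rfl⟩
    · have h1 : c ∈ closure (Set.range b) := hbd c
      have h2 := image_closure_subset_closure_image (pushout.inr a b).continuous
        (Set.mem_image_of_mem _ h1)
      refine closure_mono ?_ h2
      rintro _ ⟨_, ⟨t, rfl⟩, rfl⟩
      exact ⟨a t, hcondpt t⟩
  have hdimY : topologicalKrullDim (pushout a b : Scheme.{u}) ≤ 1 := by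
    have := CurveAmp9.dim_le_of_dense_open k (pushout a b : Scheme.{u}) (pushout.inl a b) hdense 1
      (by exact_mod_cast hdim)
    exact_mod_cast this
  obtain ⟨d, c, hc, hcc⟩ := OneDim9.main7645 k (pushout a b : Scheme.{u}) hdimY
  haveI : ∀ y : (pushout a b : Scheme.{u}),
      _root_.IsReduced ((pushout a b : Scheme.{u}).presheaf.stalk y) := by
    intro y
    rcases inl_or_inr a b y with ⟨x, rfl⟩ | ⟨c, rfl⟩
    · let e := (asIso ((pushout.inl a b).stalkMap x)).commRingCatIsoToRingEquiv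
      exact isReduced_of_injective e.toRingHom e.injective
    · haveI := (hCn c).1
      let e := (asIso ((pushout.inr a b).stalkMap c)).commRingCatIsoToRingEquiv
      exact isReduced_of_injective e.toRingHom e.injective
  haveI : IsReduced (pushout a b : Scheme.{u}) := isReduced_of_isReduced_stalk _
  haveI : IsDominant (pushout.inl a b) := ⟨hdense⟩
  have hcl : ∀ y ∈ (Set.range (pushout.inl a b))ᶜ, IsClosed ({y} : Set (pushout a b : Scheme.{u})) := by
    intro y hy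
    rcases CurveH8.isMin_or_isMax hdimY y with hmin | hmax
    · exact CurveH8.isClosed_singleton_of_isMin hmin
    · exfalso
      refine hy (CurveAmp9.mem_of_dense_of_maximal _
        (pushout.inl a b).isOpenEmbedding.isOpen_range hdense y ?_)
      intro z hz
      exact CurveH8.eq_of_le_of_le (hmax (show y ≤ z from hz)) hz
  refine ⟨d, pushout a b, c, pushout.inl a b, hc, inferInstance, ?_, hdense,
    IsSchemeTheoreticallyDominant.of_isDominant _, ?_, fun y hy => ⟨hcl y hy, ?_⟩⟩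
  · rw [hcc, hjcomp]
  · exact Groth.Agent.Lib.CurveTopH7.finite_of_isClosed_of_forall_isClosed _
      (pushout.inl a b).isOpenEmbedding.isOpen_range.isClosed_compl hcl
  · have hy' : y ∉ Set.range (pushout.inl a b) := hy
    rcases inl_or_inr a b y with ⟨x, rfl⟩ | ⟨c', rfl⟩
    · exact absurd ⟨x, rfl⟩ hy'
    · have hcb : c' ∉ Set.range b := by
        rintro ⟨t, rfl⟩
        exact hy' ⟨a t, hcondpt t⟩
      obtain ⟨hd1, hd2⟩ :=
        CurveComp9.isNormal_stalk_of_isOpenImmersion' (pushout.inr a b) c' (hCn c')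
      have hd3 : ringKrullDim ((pushout a b : Scheme.{u}).presheaf.stalk (pushout.inr a b c')) = 1 := by
        rw [← CurveComp9.ringKrullDim_stalk_of_isOpenImmersion (pushout.inr a b) c']
        exact hCd c' hcb
      haveI := hd1
      haveI := hd2
      exact ⟨hd1, isDVR_of_normal_of_dim_one _ hd3⟩

end Finish

end CurveRed9

namespace CurveRed9

section Main

/-- **S1626** -/
theorem main1626 (k : Type u) [Field k] (X : Scheme.{u}) [X.Over (Spec (CommRingCat.of k))]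
    [IsReduced X] [IsSeparated (X ↘ (Spec (CommRingCat.of k)))]
    [LocallyOfFiniteType (X ↘ (Spec (CommRingCat.of k)))]
    [QuasiCompact (X ↘ (Spec (CommRingCat.of k)))] (hdim : topologicalKrullDim X ≤ 1) :
    ∃ (d : ℕ) (Y : Scheme.{u}) (c : Y ⟶ CohB1.ProjSpace d k) (j : X ⟶ Y), IsClosedImmersion c ∧
      IsOpenImmersion j ∧
      j ≫ c ≫ CohB1.ProjSpace.toSpec d k = X ↘ (Spec (CommRingCat.of k)) ∧
      Dense (Set.range j.base) ∧ IsSchemeTheoreticallyDominant j ∧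
      (Set.range j.base)ᶜ.Finite ∧ ∀ y ∈ (Set.range j.base)ᶜ, IsClosed ({y} : Set Y) ∧
        ∃ _ : IsDomain (Y.presheaf.stalk y), IsDiscreteValuationRing (Y.presheaf.stalk y) := by
  haveI : IsLocallyNoetherian X :=
    LocallyOfFiniteType.isLocallyNoetherian (X ↘ Spec (CommRingCat.of k))
  haveI : CompactSpace X :=
    QuasiCompact.compactSpace_of_compactSpace (X ↘ Spec (CommRingCat.of k))
  haveI : IsNoetherian X := {}
  haveI : JacobsonSpace X := LocallyOfFiniteType.jacobsonSpace (X ↘ Spec (CommRingCat.of k))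
  obtain ⟨n, Y₀, c₀, j₀, hc₀, hj₀, hcomp₀, hdense₀, -, -, -⟩ := CurveAmp9.main1625 k X hdim
  haveI := hc₀
  haveI := hj₀
  haveI : IsProper (CohB1.ProjSpace.toSpec n k) :=
    Groth.Agent.Lib.ProjSpaceProperH4.isProper_toSpec n k
  obtain ⟨p₀, hp₀⟩ : ∃ p₀ : Y₀ ⟶ Spec (CommRingCat.of k), p₀ = c₀ ≫ CohB1.ProjSpace.toSpec n k :=
    ⟨_, rfl⟩
  haveI : IsProper p₀ := by rw [hp₀]; infer_instance
  have hcomp : j₀ ≫ p₀ = X ↘ Spec (CommRingCat.of k) := by rw [hp₀]; exact hcomp₀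
  haveI : JacobsonSpace Y₀ := LocallyOfFiniteType.jacobsonSpace p₀
  obtain ⟨U, hUcl, hUn, hUd⟩ := exists_normal_open k X hdim
  letI : (U : Scheme.{u}).Over (Spec (CommRingCat.of k)) := ⟨U.ι ≫ X ↘ Spec (CommRingCat.of k)⟩
  have hoverU : (U : Scheme.{u}) ↘ Spec (CommRingCat.of k) = U.ι ≫ X ↘ Spec (CommRingCat.of k) :=
    rfl
  haveI : QuasiCompact U.ι := inferInstance
  haveI : LocallyOfFiniteType ((U : Scheme.{u}) ↘ Spec (CommRingCat.of k)) := by
    rw [hoverU]; infer_instance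
  haveI : QuasiCompact ((U : Scheme.{u}) ↘ Spec (CommRingCat.of k)) := by
    rw [hoverU]; infer_instance
  haveI : IsSeparated ((U : Scheme.{u}) ↘ Spec (CommRingCat.of k)) := by
    rw [hoverU]; infer_instance
  have hcurveU : ∀ x : (U : Scheme.{u}), IsClosed ({x} : Set (U : Scheme.{u})) →
      ringKrullDim ((U : Scheme.{u}).presheaf.stalk x) = 1 := by
    intro x hx
    rw [CurveComp9.ringKrullDim_stalk_of_isOpenImmersion U.ι x]
    refine hUd (U.ι x) x.2 ?_
    have := U.ι.closePoints_subset_preimage_closedPoints (mem_closedPoints_iff.mpr hx)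
    exact mem_closedPoints_iff.mp this
  have hnormU : Pi1.IsNormalScheme (U : Scheme.{u}) := fun x =>
    CurveComp9.isNormal_stalk_of_isOpenImmersion U.ι x (hUn (U.ι x) x.2)
  obtain ⟨C, sc, u, hu, hud, huc, hscp, hCn, hCd⟩ :=
    CurveComp9.main4444 k (U : Scheme.{u}) hcurveU hnormU
  haveI := hu
  haveI := hscp
  letI : C.Over (Spec (CommRingCat.of k)) := ⟨sc⟩
  have hoverC : C ↘ Spec (CommRingCat.of k) = sc := rfl
  haveI : LocallyOfFiniteType (C ↘ Spec (CommRingCat.of k)) := by rw [hoverC]; infer_instance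
  haveI : QuasiCompact (C ↘ Spec (CommRingCat.of k)) := by rw [hoverC]; infer_instance
  haveI : IsLocallyNoetherian C :=
    LocallyOfFiniteType.isLocallyNoetherian (C ↘ Spec (CommRingCat.of k))
  haveI : CompactSpace C :=
    QuasiCompact.compactSpace_of_compactSpace (C ↘ Spec (CommRingCat.of k))
  haveI : IsNoetherian C := {}
  have hdimU : topologicalKrullDim (U : Scheme.{u}) ≤ 1 :=
    le_trans U.ι.isOpenEmbedding.isInducing.topologicalKrullDim_le hdim
  have hdimC : topologicalKrullDim C ≤ 1 := by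
    have := CurveAmp9.dim_le_of_dense_open k C u hud 1 (by exact_mod_cast hdimU)
    exact_mod_cast this
  obtain ⟨φ, hφu, hφp⟩ := exists_extension k C hCn hdimC p₀ u hud (U.ι ≫ j₀)
    (by rw [Category.assoc, hcomp, hoverC, huc, hoverU])
  haveI : IsSeparated (φ ≫ p₀) := by rw [hφp, hoverC]; infer_instance
  haveI : IsSeparated φ := IsSeparated.of_comp φ p₀
  haveI : IsProper (φ ≫ p₀) := by rw [hφp, hoverC]; infer_instance
  haveI : IsProper φ := IsProper.of_comp φ p₀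
  have hUfin : ((U : Set X)ᶜ).Finite :=
    Groth.Agent.Lib.CurveTopH7.finite_of_isClosed_of_forall_isClosed _ U.2.isClosed_compl
      (fun x hx => hUcl x hx)
  have hZcl : IsClosed (j₀ '' (U : Set X)ᶜ) := by
    have h1 : j₀ '' (U : Set X)ᶜ = ⋃ x ∈ (U : Set X)ᶜ, {j₀ x} := by
      ext t
      simp only [Set.mem_image, Set.mem_iUnion, Set.mem_singleton_iff, exists_prop]
      exact ⟨fun ⟨x, hx, he⟩ => ⟨x, hx, he.symm⟩, fun ⟨x, hx, he⟩ => ⟨x, hx, he.symm⟩⟩
    rw [h1]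
    refine hUfin.isClosed_biUnion (fun x hx => ?_)
    have := j₀.closePoints_subset_preimage_closedPoints (mem_closedPoints_iff.mpr (hUcl x hx))
    exact mem_closedPoints_iff.mp this
  obtain ⟨V, hVdef⟩ : ∃ V : Y₀.Opens, (V : Set Y₀) = (j₀ '' (U : Set X)ᶜ)ᶜ :=
    ⟨⟨_, hZcl.isOpen_compl⟩, rfl⟩
  have hmemV : ∀ t : Y₀, t ∈ V ↔ t ∉ j₀ '' (U : Set X)ᶜ := fun t => by
    rw [← SetLike.mem_coe, hVdef]
    rfl
  have hj₀V : ∀ x : X, j₀ x ∈ V ↔ x ∈ U := by
    intro x
    rw [hmemV]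
    constructor
    · intro h
      by_contra hx
      exact h ⟨x, hx, rfl⟩
    · rintro hx ⟨x', hx', he⟩
      exact hx' (j₀.isOpenEmbedding.injective he ▸ hx)
  have hrange : Set.range u ⊆ Set.range (φ ⁻¹ᵁ V).ι := by
    rintro _ ⟨t, rfl⟩
    rw [Scheme.Opens.range_ι]
    show φ (u t) ∈ V
    rw [← Scheme.Hom.comp_apply, hφu, Scheme.Hom.comp_apply, hj₀V]
    exact t.2
  obtain ⟨b, hb⟩ : ∃ b : (U : Scheme.{u}) ⟶ ((φ ⁻¹ᵁ V : C.Opens) : Scheme.{u}),
      b ≫ (φ ⁻¹ᵁ V).ι = u :=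
    ⟨IsOpenImmersion.lift (φ ⁻¹ᵁ V).ι u hrange, IsOpenImmersion.lift_fac _ _ _⟩
  haveI : IsOpenImmersion b := by
    haveI : IsOpenImmersion (b ≫ (φ ⁻¹ᵁ V).ι) := by rw [hb]; infer_instance
    exact IsOpenImmersion.of_comp b (φ ⁻¹ᵁ V).ι
  have hbpt : ∀ t, (φ ⁻¹ᵁ V).ι (b t) = u t := fun t => by rw [← Scheme.Hom.comp_apply, hb]
  have hcond : U.ι ≫ j₀ = b ≫ ((φ ⁻¹ᵁ V).ι ≫ φ) := by rw [← Category.assoc, hb, hφu]
  haveI hproper : IsProper (pushout.desc j₀ ((φ ⁻¹ᵁ V).ι ≫ φ) hcond) := by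
    refine isProper_desc j₀ _ hcond V (φ ∣_ V) (morphismRestrict_ι φ V) ?_ ?_ ?_
    · intro t
      by_cases ht : t ∈ V
      · exact Or.inr ht
      · left
        have : t ∈ j₀ '' (U : Set X)ᶜ := not_not.mp (fun h => ht ((hmemV t).mpr h))
        obtain ⟨x, -, rfl⟩ := this
        exact ⟨x, rfl⟩
    · intro x hx
      rw [Scheme.Opens.range_ι]
      exact (hj₀V x).mp hx
    · intro c hc
      have hcV : φ ((φ ⁻¹ᵁ V).ι c) ∈ V := c.2
      obtain ⟨x, hx⟩ := hc
      rw [Scheme.Hom.comp_apply] at hx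
      have hxU : x ∈ U := (hj₀V x).mp (hx ▸ hcV)
      have hc' : φ ((φ ⁻¹ᵁ V).ι c) ∈ Set.range (U.ι ≫ j₀) :=
        ⟨⟨x, hxU⟩, by rw [Scheme.Hom.comp_apply]; exact hx⟩
      obtain ⟨t, ht⟩ := mem_range_of_mem_range u hud φ (U.ι ≫ j₀) hφu _ hc'
      refine ⟨t, (φ ⁻¹ᵁ V).ι.isOpenEmbedding.injective ?_⟩
      rw [hbpt]
      exact ht
  have hbrange : Set.range b = (φ ⁻¹ᵁ V).ι ⁻¹' Set.range u := by
    ext c
    constructor
    · rintro ⟨t, rfl⟩
      exact ⟨t, (hbpt t).symm⟩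
    · rintro ⟨t, ht⟩
      refine ⟨t, (φ ⁻¹ᵁ V).ι.isOpenEmbedding.injective ?_⟩
      rw [hbpt]
      exact ht
  have hbd : Dense (Set.range b) := by
    rw [hbrange]
    exact hud.preimage (φ ⁻¹ᵁ V).ι.isOpenEmbedding.isOpenMap
  refine finish k X hdim U.ι b hbd
    (fun c => CurveComp9.isNormal_stalk_of_isOpenImmersion (φ ⁻¹ᵁ V).ι c (hCn _)) ?_
    p₀ j₀ ((φ ⁻¹ᵁ V).ι ≫ φ) hcond hcomp
  intro c hc
  rw [CurveComp9.ringKrullDim_stalk_of_isOpenImmersion (φ ⁻¹ᵁ V).ι c]
  have hc1 : (φ ⁻¹ᵁ V).ι c ∉ Set.range u := by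
    intro h1
    apply hc
    rw [hbrange]
    exact h1
  rcases CurveH8.isMin_or_isMax hdimC ((φ ⁻¹ᵁ V).ι c) with hmin | hmax
  · exact hCd _ (CurveH8.isClosed_singleton_of_isMin hmin)
  · exfalso
    refine hc1 (CurveAmp9.mem_of_dense_of_maximal _ u.isOpenEmbedding.isOpen_range hud _ ?_)
    intro z hz
    exact CurveH8.eq_of_le_of_le (hmax (show (φ ⁻¹ᵁ V).ι c ≤ z from hz)) hz

end Main

end CurveRed9
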