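import Mathlib
import Groth.Prelude
import Groth.Agent.Lib.CurveSD1_helper9
import Groth.Agent.Lib.EllNag1_helper9
import Groth.Agent.Lib.CurvePtInv6_helper9
import Groth.Agent.Lib.DimZeroGG_helper8
import Groth.Agent.Lib.NodalG0a_helper9
import Groth.Agent.Lib.InvTensP2_helper5

/-!
# Serre duality on curves, part 2: dualizing data, the point step and the factoring lemma (helper9)
APPEND-ONLY once landed.
-/

set_option autoImplicit false
universe u
open CategoryTheory CategoryTheory.Limits AlgebraicGeometry Opposite TopologicalSpace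

namespace CurveSD

open QcqsLoc QCohExtn GenLocH8 TensH8 FLFH8 CohB1 Groth.Agent.HHVan CurveAmple CurveGG
  Groth.Agent.TensInv Groth.Agent.CMMul

variable (k : Type u) [Field k] [IsAlgClosed k] (X : Scheme.{u}) [X.Over (Spec (CommRingCat.of k))]
  [IsIntegral X] [IsProper (X ↘ Spec (CommRingCat.of k))]

/-- dualizing data on a curve: an invertible module `ω` with a nonzero functional on `H¹(ω)`, of
maximal degree among the invertible modules with nonzero `H¹` -/
structure DualData where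
  ω : X.Modules
  hω : PicF.IsInvertible ω
  t : Coh.HH X ω 1 →ₗ[k] k
  ht : t ≠ 0
  hmax : ∀ L : X.Modules, PicF.IsInvertible L → Curv2.deg k X ω 1 < Curv2.deg k X L 1 →
    Subsingleton (Coh.HH X L 1)

variable {k X}

/-- **the point step**: a morphism `I_x ⊗ M ⟶ ω` whose functional extends to `H¹(M)` extends
to `M` -/
theorem HHlin_comp_apply {F G H : X.Modules} (φ : F ⟶ G) (ψ : G ⟶ H) (i : ℕ)
    (x : Coh.HH X F i) :
    Canon.HHlin k (φ ≫ ψ) i x = Canon.HHlin k ψ i (Canon.HHlin k φ i x) :=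
  hmap_comp φ ψ i x

theorem point_step' (hdim : topologicalKrullDim X = 1) (D : DualData k X)
    (Z : X.IdealSheafData) (hI : PicF.IsInvertible (ClSub.idealMod Z))
    (dI : Curv2.deg k X (ClSub.idealMod Z) 1 = -1) {M : X.Modules} (hM : PicF.IsInvertible M)
    (φ₁ : CohB1.tensorMod (ClSub.idealMod Z) M ⟶ D.ω)
    (β : Coh.HH X M 1 →ₗ[k] k)
    (h : ∀ y, D.t (Canon.HHlin k φ₁ 1 y) = β (Canon.HHlin k (twistι Z M) 1 y)) :
    ∃ φ : M ⟶ D.ω, twistι Z M ≫ φ = φ₁ := by
  haveI : IsLocallyNoetherian X :=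
    LocallyOfFiniteType.isLocallyNoetherian (X ↘ Spec (CommRingCat.of k))
  haveI : CompactSpace X :=
    QuasiCompact.compactSpace_of_compactSpace (X ↘ Spec (CommRingCat.of k))
  haveI : IsNoetherian X := {}
  haveI : Nonempty X := inferInstance
  obtain ⟨J, hJ, ⟨ι⟩⟩ := Groth.Agent.InvTensP.exists_inverse _ hI
  have dJ : Curv2.deg k X J 1 = 1 := by
    have h1 := CurveTens.deg_tensorMod k X hdim.le hI hJ
    rw [CurveTens.deg_of_iso k X ι 1, CurveDeg.deg_structureModule, dI] at h1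
    linarith
  -- the twist `Ω = ω(x)`
  have hΩ : PicF.IsInvertible (CohB1.tensorMod J D.ω) := isInvertible_tensorMod hJ D.hω
  have dΩ : Curv2.deg k X (CohB1.tensorMod J D.ω) 1 = 1 + Curv2.deg k X D.ω 1 := by
    rw [CurveTens.deg_tensorMod k X hdim.le hJ D.hω, dJ]
  have hΩ1 : Subsingleton (Coh.HH X (CohB1.tensorMod J D.ω) 1) :=
    D.hmax _ hΩ (by rw [dΩ]; linarith)
  let ε : CohB1.tensorMod (ClSub.idealMod Z) (CohB1.tensorMod J D.ω) ≅ D.ω :=
    (assoc (ClSub.idealMod Z) J D.ω).symm ≪≫ mapR ι D.ω ≪≫ unitorL D.ω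
  haveI := isEquivalence_tL (⟨ι⟩ : Nonempty (CohB1.tensorMod (ClSub.idealMod Z) J ≅ _))
  have hfull : ∀ g : (tL (ClSub.idealMod Z)).obj M ⟶
      (tL (ClSub.idealMod Z)).obj (CohB1.tensorMod J D.ω),
      ∃ χ : M ⟶ CohB1.tensorMod J D.ω, (tL (ClSub.idealMod Z)).map χ = g :=
    fun g => (tL (ClSub.idealMod Z)).map_surjective g
  obtain ⟨χ, hχ⟩ := hfull (φ₁ ≫ ε.inv)
  have hsq : twistι Z M ≫ χ = (tL (ClSub.idealMod Z)).map χ ≫ twistι Z (CohB1.tensorMod J D.ω) :=
    (EllNag.twistι_nat Z χ).symm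
  haveI hmM := mono_twistι Z hM
  haveI hmΩ := mono_twistι Z hΩ
  -- the two short exact sequences
  let SM : ShortComplex X.Modules :=
    ShortComplex.mk (twistι Z M) (cokernel.π (twistι Z M)) (cokernel.condition _)
  have hSM : SM.ShortExact :=
    ShortComplex.ShortExact.mk' (SM.exact_of_g_is_cokernel (cokernelIsCokernel _)) hmM
      (inferInstanceAs (Epi (cokernel.π (twistι Z M))))
  let SΩ : ShortComplex X.Modules :=
    ShortComplex.mk (twistι Z (CohB1.tensorMod J D.ω))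
      (cokernel.π (twistι Z (CohB1.tensorMod J D.ω))) (cokernel.condition _)
  have hSΩ : SΩ.ShortExact :=
    ShortComplex.ShortExact.mk' (SΩ.exact_of_g_is_cokernel (cokernelIsCokernel _)) hmΩ
      (inferInstanceAs (Epi (cokernel.π (twistι Z (CohB1.tensorMod J D.ω)))))
  let c : cokernel (twistι Z M) ⟶ cokernel (twistι Z (CohB1.tensorMod J D.ω)) :=
    cokernel.map (twistι Z M) (twistι Z (CohB1.tensorMod J D.ω))
      ((tL (ClSub.idealMod Z)).map χ) χ hsq
  have hc : cokernel.π (twistι Z M) ≫ c = χ ≫ cokernel.π (twistι Z (CohB1.tensorMod J D.ω)) :=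
    cokernel.π_desc _ _ _
  let Φ : SM ⟶ SΩ :=
    { τ₁ := (tL (ClSub.idealMod Z)).map χ
      τ₂ := χ
      τ₃ := c
      comm₁₂ := hsq.symm
      comm₂₃ := hc.symm }
  -- the functional on `H¹(I ⊗ Ω)`
  let T : Coh.HH X (CohB1.tensorMod (ClSub.idealMod Z) (CohB1.tensorMod J D.ω)) 1 →ₗ[k] k :=
    D.t ∘ₗ Canon.HHlin k ε.hom 1
  have hTδ : ∀ v : Coh.HH X (cokernel (twistι Z M)) 0,
      T (Groth.Agent.ProjFin.δlin k SΩ hSΩ 0 (Canon.HHlin k c 0 v)) = 0 := by
    intro v
    have h1 := EllNag.δlin_nat k hSM hSΩ Φ 0 v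
    have h1' : Groth.Agent.ProjFin.δlin k SΩ hSΩ 0 (Canon.HHlin k c 0 v) =
        Canon.HHlin k ((tL (ClSub.idealMod Z)).map χ) 1
          (Groth.Agent.ProjFin.δlin k SM hSM 0 v) := h1
    rw [h1']
    show D.t (Canon.HHlin k ε.hom 1 (Canon.HHlin k ((tL (ClSub.idealMod Z)).map χ) 1 _)) = 0
    have h3 : (tL (ClSub.idealMod Z)).map χ ≫ ε.hom = φ₁ := by
      rw [hχ, Category.assoc, Iso.inv_hom_id, Category.comp_id]
    have h2 : Canon.HHlin k ε.hom 1 (Canon.HHlin k ((tL (ClSub.idealMod Z)).map χ) 1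
        (Groth.Agent.ProjFin.δlin k SM hSM 0 v)) =
        Canon.HHlin k φ₁ 1 (Groth.Agent.ProjFin.δlin k SM hSM 0 v) :=
      (HHlin_comp_apply ((tL (ClSub.idealMod Z)).map χ) ε.hom 1
        (Groth.Agent.ProjFin.δlin k SM hSM 0 v)).symm.trans
        (congrArg (fun l => Canon.HHlin k l 1 (Groth.Agent.ProjFin.δlin k SM hSM 0 v)) h3)
    refine (congrArg D.t h2).trans ?_
    rw [h]
    have h4 : Groth.Agent.ProjFin.δlin k SM hSM 0 v ∈
        LinearMap.ker (Canon.HHlin k (twistι Z M) 1) := by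
      rw [← ProperFinH9.range_δlin k SM hSM 0]
      exact ⟨v, rfl⟩
    rw [LinearMap.mem_ker.mp h4, map_zero]
  -- `T ∘ δ_Ω` is injective
  have hIΩ : PicF.IsInvertible (CohB1.tensorMod (ClSub.idealMod Z) (CohB1.tensorMod J D.ω)) :=
    isInvertible_tensorMod hI hΩ
  have hne : twistι Z (CohB1.tensorMod J D.ω) ≠ 0 := by
    intro h0
    exact VBCurve.not_isZero_of_isInvertible hIΩ (VBCurve.isZero_of_mono_eq_zero _ h0)
  have hfr : Module.finrank k (Coh.HH X (cokernel (twistι Z (CohB1.tensorMod J D.ω))) 0) = 1 := by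
    have h1 := CurveDeg.euler_eq_add k X hdim.le hIΩ hΩ _ hne
    have h2 := CurveTens.deg_tensorMod k X hdim.le hI hΩ
    unfold Curv2.deg at h2 dI
    have : (Module.finrank k (Coh.HH X (cokernel (twistι Z (CohB1.tensorMod J D.ω))) 0) : ℤ) = 1 := by
      push_cast at h2 dI
      linarith
    exact_mod_cast this
  have hδsurj : Function.Surjective (Groth.Agent.ProjFin.δlin k SΩ hSΩ 0) := by
    rw [← LinearMap.range_eq_top, ProperFinH9.range_δlin k SΩ hSΩ 0, LinearMap.ker_eq_top]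
    apply LinearMap.ext
    intro y
    exact Subsingleton.elim (h := hΩ1) _ _
  have hεsurj : Function.Surjective (Canon.HHlin k ε.hom 1) := by
    intro y
    refine ⟨Canon.HHlin k ε.inv 1 y, ?_⟩
    have := congrArg (fun l => l y) (HHlin_comp k ε.inv ε.hom 1)
    simp only [Iso.inv_hom_id] at this
    rw [LinearMap.comp_apply] at this
    rw [← this]
    exact hmap_id 1 y
  have hTδne : T ∘ₗ Groth.Agent.ProjFin.δlin k SΩ hSΩ 0 ≠ 0 := by
    intro h0
    apply D.ht
    apply LinearMap.ext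
    intro y
    obtain ⟨y', rfl⟩ := hεsurj y
    obtain ⟨v, rfl⟩ := hδsurj y'
    exact congrArg (fun l => l v) h0
  have hinj : ∀ w : Coh.HH X (cokernel (twistι Z (CohB1.tensorMod J D.ω))) 0,
      T (Groth.Agent.ProjFin.δlin k SΩ hSΩ 0 w) = 0 → w = 0 := by
    intro w hw
    by_contra hw0
    apply hTδne
    apply LinearMap.ext
    intro v
    obtain ⟨a, ha⟩ := (finrank_eq_one_iff_of_nonzero' w hw0).mp hfr v
    rw [← ha, map_smul]
    show a • T (Groth.Agent.ProjFin.δlin k SΩ hSΩ 0 w) = 0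
    rw [hw, smul_zero]
  -- hence `c = 0`
  have hMc := ProperFinH9.isCoh_of_isInvertible hM
  have hIM : PicF.IsInvertible (CohB1.tensorMod (ClSub.idealMod Z) M) :=
    isInvertible_tensorMod hI hM
  have hIMc := ProperFinH9.isCoh_of_isInvertible hIM
  have hCc : Coh.IsCoh (cokernel (twistι Z M)) := CohKerH8.isCoh_cokernel hIMc hMc _
  have hneM : twistι Z M ≠ 0 := by
    intro h0
    exact VBCurve.not_isZero_of_isInvertible hIM (VBCurve.isZero_of_mono_eq_zero _ h0)
  have hsupp : topologicalKrullDim ↥(CohB1.support (cokernel (twistι Z M))) ≤ 0 := by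
    haveI := hCc.1
    haveI := hCc.2
    exact CurveSpec.dim_le_zero_of_closed_points _ (SupportCoh.isClosed_support _)
      (CurveDeg.isClosed_singleton_of_mem_support_cokernel hIM hM _ hneM hdim.le)
  have hgg := CycLenH8.isGloballyGenerated_of_dim_zero _ hCc hsupp
  have hc0 : c = 0 := by
    apply NodalG0.jointlyEpi_of_gg hgg
    intro σ
    apply (CurveIdeal.thetaEquiv k _).injective
    rw [EllNag.thetaEquiv_comp, map_zero]
    exact hinj _ (hTδ _)
  -- conclusion
  have hχ0 : χ ≫ cokernel.π (twistι Z (CohB1.tensorMod J D.ω)) = 0 := by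
    rw [← hc, hc0, comp_zero]
  let φ' : M ⟶ CohB1.tensorMod (ClSub.idealMod Z) (CohB1.tensorMod J D.ω) :=
    Abelian.monoLift (twistι Z (CohB1.tensorMod J D.ω)) χ hχ0
  have hφ' : φ' ≫ twistι Z (CohB1.tensorMod J D.ω) = χ := Abelian.monoLift_comp _ _ _
  refine ⟨φ' ≫ ε.hom, ?_⟩
  have h5 : twistι Z M ≫ φ' = (tL (ClSub.idealMod Z)).map χ :=
    (cancel_mono (twistι Z (CohB1.tensorMod J D.ω))).mp
      ((Category.assoc _ _ _).trans ((congrArg (fun l => twistι Z M ≫ l) hφ').trans hsq))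
  have h6 : twistι Z M ≫ φ' = φ₁ ≫ ε.inv := h5.trans hχ
  exact (Category.assoc _ _ _).symm.trans ((congrArg (fun l => l ≫ ε.hom) h6).trans
    ((Category.assoc _ _ _).trans ((congrArg (fun l => φ₁ ≫ l) ε.inv_hom_id).trans
      (Category.comp_id _))))

/-- **the point step** at a regular closed point -/
theorem point_step (hdim : topologicalKrullDim X = 1)
    (hreg : ∀ x : X, IsRegularLocalRing (X.presheaf.stalk x)) (D : DualData k X)
    {x : X} (hx : IsClosed ({x} : Set X)) {M : X.Modules} (hM : PicF.IsInvertible M)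
    (φ₁ : CohB1.tensorMod (ClSub.idealMod (Scheme.IdealSheafData.vanishingIdeal ⟨{x}, hx⟩)) M ⟶ D.ω)
    (β : Coh.HH X M 1 →ₗ[k] k)
    (h : ∀ y, D.t (Canon.HHlin k φ₁ 1 y) =
      β (Canon.HHlin k (twistι (Scheme.IdealSheafData.vanishingIdeal ⟨{x}, hx⟩) M) 1 y)) :
    ∃ φ : M ⟶ D.ω, twistι (Scheme.IdealSheafData.vanishingIdeal ⟨{x}, hx⟩) M ≫ φ = φ₁ := by
  haveI : IsLocallyNoetherian X :=
    LocallyOfFiniteType.isLocallyNoetherian (X ↘ Spec (CommRingCat.of k))
  exact point_step' hdim D _ (CurvePtInv.isInvertible_idealMod_point hdim hx (hreg x))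
    (CurvePtInv.deg_idealMod_point k X x hx) hM φ₁ β h

end CurveSD
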