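import Mathlib
import Groth.Prelude
import Groth.Agent.Lib.CurveSD2_helper9

/-!
# Serre duality on curves, part 3: the factoring lemma (helper9)
APPEND-ONLY once landed.
-/

set_option autoImplicit false
universe u
open CategoryTheory CategoryTheory.Limits AlgebraicGeometry Opposite TopologicalSpace

namespace CurveSD

open QcqsLoc QCohExtn GenLocH8 TensH8 FLFH8 CohB1 Groth.Agent.HHVan CurveAmple CurveGG
  Groth.Agent.TensInv Groth.Agent.CMMul

variable {k : Type u} [Field k] [IsAlgClosed k] {X : Scheme.{u}} [X.Over (Spec (CommRingCat.of k))]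
  [IsIntegral X] [IsProper (X ↘ Spec (CommRingCat.of k))]

/-- **the factoring lemma**: if `j : N ⟶ M` is a nonzero morphism of invertible modules and
`ψ : N ⟶ ω` has functional `t ∘ H¹(ψ)` factoring through `H¹(j)`, then `ψ` factors through `j` -/
theorem factor (hdim : topologicalKrullDim X = 1)
    (hreg : ∀ x : X, IsRegularLocalRing (X.presheaf.stalk x)) (D : DualData k X)
    {N : X.Modules} (hN : PicF.IsInvertible N) (ψ : N ⟶ D.ω) :
    ∀ (n : ℕ) {M : X.Modules} (_ : PicF.IsInvertible M)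
      (j : N ⟶ M) (_ : j ≠ 0) (_ : Curv2.deg k X M 1 - Curv2.deg k X N 1 = n)
      (β : Coh.HH X M 1 →ₗ[k] k)
      (_ : ∀ y, D.t (Canon.HHlin k ψ 1 y) = β (Canon.HHlin k j 1 y)),
      ∃ φ : M ⟶ D.ω, j ≫ φ = ψ := by
  haveI : IsLocallyNoetherian X :=
    LocallyOfFiniteType.isLocallyNoetherian (X ↘ Spec (CommRingCat.of k))
  intro n
  induction n with
  | zero =>
    intro M hM j hj hdeg β h
    haveI := (CurveDeg.deg_le_of_ne_zero k X hdim hN hM j hj).2 (by push_cast at hdeg; linarith)
    exact ⟨inv j ≫ ψ, by rw [IsIso.hom_inv_id_assoc]⟩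
  | succ n ih =>
    intro M hM j hj hdeg β h
    have hni : ¬ IsIso j := by
      intro hiso
      have h1 := CurveTens.deg_of_iso k X (asIso j) 1
      push_cast at hdeg
      linarith
    obtain ⟨x, hx, j₁, hj₁⟩ := exists_factor_point k X hdim.le hN hM j hj hni
    have hI := CurvePtInv.isInvertible_idealMod_point hdim hx (hreg x)
    have dI := CurvePtInv.deg_idealMod_point k X x hx
    have hIM := isInvertible_tensorMod hI hM
    have dIM := CurveTens.deg_tensorMod k X hdim.le hI hM
    rw [dI] at dIM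
    have hj₁0 : j₁ ≠ 0 := by
      rintro rfl
      apply hj
      rw [← hj₁, zero_comp]
    have hcomp : ∀ y, Canon.HHlin k j 1 y =
        Canon.HHlin k (twistι (Scheme.IdealSheafData.vanishingIdeal ⟨{x}, hx⟩) M) 1
          (Canon.HHlin k j₁ 1 y) := by
      intro y
      rw [← hj₁]
      exact HHlin_comp_apply _ _ 1 y
    obtain ⟨φ₁, hφ₁⟩ := ih hIM j₁ hj₁0 (by rw [dIM]; push_cast at hdeg; linarith)
      (β ∘ₗ Canon.HHlin k (twistι (Scheme.IdealSheafData.vanishingIdeal ⟨{x}, hx⟩) M) 1)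
      (by
        intro y
        rw [h y, hcomp y]
        rfl)
    have hsurj := HH1_hom_surjective k X hdim.le hN hIM j₁ hj₁0
    obtain ⟨φ, hφ⟩ := point_step hdim hreg D hx hM φ₁ β (by
      intro y'
      obtain ⟨y, rfl⟩ := hsurj y'
      rw [← hcomp y, ← h y, ← hφ₁]
      exact congrArg D.t (HHlin_comp_apply j₁ φ₁ 1 y).symm)
    exact ⟨φ, by rw [← hj₁, Category.assoc, hφ, hφ₁]⟩

end CurveSD
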