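import Mathlib
import Groth.Prelude
import Groth.Agent.Lib.CurveSD3_helper9
import Groth.Agent.Lib.Cliff9a_helper9
import Groth.Agent.Lib.ProjDual1_helper9

/-!
# Serre duality on curves, part 4: duality for invertible modules (helper9)
APPEND-ONLY once landed.
-/

set_option autoImplicit false
universe u
open CategoryTheory CategoryTheory.Limits AlgebraicGeometry Opposite TopologicalSpace

namespace CurveSD

open QcqsLoc QCohExtn GenLocH8 TensH8 FLFH8 CohB1 Groth.Agent.HHVan CurveAmple CurveGG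
  Groth.Agent.TensInv Groth.Agent.CMMul

/-- two injective linear maps into a space of dimension less than the sum of the dimensions of
the sources have a common nonzero value -/
theorem exists_common {K V V₁ V₂ : Type*} [Field K] [AddCommGroup V] [Module K V]
    [AddCommGroup V₁] [Module K V₁] [AddCommGroup V₂] [Module K V₂]
    [Module.Finite K V] [Module.Finite K V₁] [Module.Finite K V₂]
    (f₁ : V₁ →ₗ[K] V) (f₂ : V₂ →ₗ[K] V) (h₁ : Function.Injective f₁) (h₂ : Function.Injective f₂)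
    (h : Module.finrank K V < Module.finrank K V₁ + Module.finrank K V₂) :
    ∃ (s : V₁) (u : V₂), s ≠ 0 ∧ f₁ s = f₂ u := by
  have e1 := LinearMap.finrank_range_of_inj h₁
  have e2 := LinearMap.finrank_range_of_inj h₂
  have e3 := Submodule.finrank_sup_add_finrank_inf_eq (LinearMap.range f₁) (LinearMap.range f₂)
  have e4 := Submodule.finrank_le (LinearMap.range f₁ ⊔ LinearMap.range f₂)
  have hpos : 0 < Module.finrank K ↥(LinearMap.range f₁ ⊓ LinearMap.range f₂) := by omega
  obtain ⟨⟨w, hw⟩, hw0⟩ := Module.finrank_pos_iff_exists_ne_zero.mp hpos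
  obtain ⟨⟨s, hs⟩, ⟨u, hu⟩⟩ := hw
  refine ⟨s, u, ?_, hs.trans hu.symm⟩
  rintro rfl
  apply hw0
  apply Subtype.ext
  show w = 0
  exact hs.symm.trans (map_zero f₁)

variable {k : Type u} [Field k] [IsAlgClosed k] {X : Scheme.{u}} [X.Over (Spec (CommRingCat.of k))]
  [IsIntegral X] [IsProper (X ↘ Spec (CommRingCat.of k))]

/-- injectivity of `φ ↦ t ∘ H¹(φ)` on `Hom(L, ω)` for invertible `L` -/
theorem dInj_invertible (hdim : topologicalKrullDim X = 1) (D : DualData k X) {L : X.Modules}
    (hL : PicF.IsInvertible L) : Groth.Agent.ProjDual.DInj 1 D.t L := by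
  intro φ hφ
  by_contra h0
  have hs := HH1_hom_surjective k X hdim.le hL D.hω φ h0
  apply D.ht
  apply LinearMap.ext
  intro y
  obtain ⟨x, rfl⟩ := hs y
  exact hφ x

/-- an invertible module of negative degree has no nonzero sections -/
theorem finrank_HH0_eq_zero_of_deg_neg (hdim : topologicalKrullDim X = 1) {N : X.Modules}
    (hN : PicF.IsInvertible N) (hd : Curv2.deg k X N 1 < 0) :
    Module.finrank k (Coh.HH X N 0) = 0 := by
  haveI : Subsingleton (Coh.structureModule X ⟶ N) := by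
    refine ⟨fun a b => ?_⟩
    have h : ∀ s : Coh.structureModule X ⟶ N, s = 0 := by
      intro s
      by_contra hs
      have := CurveDeg.deg_nonneg_of_section k X hdim hN s hs
      linarith
    rw [h a, h b]
  haveI : Subsingleton (Coh.HH X N 0) := (CurveIdeal.thetaEquiv k N).symm.toEquiv.subsingleton
  exact Module.finrank_zero_of_subsingleton

/-- the two linear maps and the numerics: there are a nonzero section `s` of `A` and a section
`u` of `P` with the same functional on `H¹(N)` -/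
theorem exists_common_sections (hdim : topologicalKrullDim X = 1)
    {N A P : X.Modules} (hN : PicF.IsInvertible N) (hA : PicF.IsInvertible A)
    (hP : PicF.IsInvertible P)
    (γ : Coh.HH X (CohB1.tensorMod N A) 1 →ₗ[k] k) (hγ : γ ≠ 0)
    (τ : Coh.HH X (CohB1.tensorMod N P) 1 →ₗ[k] k) (hτ : τ ≠ 0)
    (hdN : Curv2.deg k X N 1 < 0)
    (hnum : -Curv2.deg k X N 1 - 1 + (Curv2.genus k X : ℤ) <
      (Curv2.deg k X A 1 + 1 - (Curv2.genus k X : ℤ)) +
      (Curv2.deg k X P 1 + 1 - (Curv2.genus k X : ℤ))) :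
    ∃ (s : Coh.structureModule X ⟶ A) (u : Coh.structureModule X ⟶ P), s ≠ 0 ∧
      ∀ y : Coh.HH X N 1, γ (Canon.HHlin k (mulSec N A s) 1 y) =
        τ (Canon.HHlin k (mulSec N P u) 1 y) := by
  haveI : IsLocallyNoetherian X :=
    LocallyOfFiniteType.isLocallyNoetherian (X ↘ Spec (CommRingCat.of k))
  have hNc := ProperFinH9.isCoh_of_isInvertible hN
  have hAc := ProperFinH9.isCoh_of_isInvertible hA
  have hPc := ProperFinH9.isCoh_of_isInvertible hP
  haveI := ProperFinH9.finite_HH_of_proper k X _ hNc 1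
  haveI := ProperFinH9.finite_HH_of_proper k X _ hAc 0
  haveI := ProperFinH9.finite_HH_of_proper k X _ hPc 0
  haveI : Module.Finite k (Coh.structureModule X ⟶ A) :=
    Module.Finite.equiv (CurveIdeal.thetaEquiv k A).symm
  haveI : Module.Finite k (Coh.structureModule X ⟶ P) :=
    Module.Finite.equiv (CurveIdeal.thetaEquiv k P).symm
  let f₁ : (Coh.structureModule X ⟶ A) →ₗ[k] Module.Dual k (Coh.HH X N 1) :=
    (LinearMap.compRight k γ) ∘ₗ mulLin k N A 1
  let f₂ : (Coh.structureModule X ⟶ P) →ₗ[k] Module.Dual k (Coh.HH X N 1) :=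
    (LinearMap.compRight k τ) ∘ₗ mulLin k N P 1
  have hf₁ : Function.Injective f₁ := by
    rw [injective_iff_map_eq_zero]
    intro s hs
    by_contra hs0
    apply hγ
    apply LinearMap.ext
    intro z
    obtain ⟨y, rfl⟩ := HH1_mulSec_surjective k X hdim.le hNc hA s hs0 z
    exact congrArg (fun l : Module.Dual k (Coh.HH X N 1) => l y) hs
  have hf₂ : Function.Injective f₂ := by
    rw [injective_iff_map_eq_zero]
    intro u hu
    by_contra hu0
    apply hτ
    apply LinearMap.ext
    intro z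
    obtain ⟨y, rfl⟩ := HH1_mulSec_surjective k X hdim.le hNc hP u hu0 z
    exact congrArg (fun l : Module.Dual k (Coh.HH X N 1) => l y) hu
  have rA := Cliff9.rr k X hdim hA
  have rP := Cliff9.rr k X hdim hP
  have rN := Cliff9.rr k X hdim hN
  have h0N := finrank_HH0_eq_zero_of_deg_neg hdim hN hdN
  have eA : Module.finrank k (Coh.structureModule X ⟶ A) = Module.finrank k (Coh.HH X A 0) :=
    (CurveIdeal.thetaEquiv k A).finrank_eq
  have eP : Module.finrank k (Coh.structureModule X ⟶ P) = Module.finrank k (Coh.HH X P 0) :=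
    (CurveIdeal.thetaEquiv k P).finrank_eq
  have hdim' : Module.finrank k (Module.Dual k (Coh.HH X N 1)) <
      Module.finrank k (Coh.structureModule X ⟶ A) +
        Module.finrank k (Coh.structureModule X ⟶ P) := by
    rw [Subspace.dual_finrank_eq, eA, eP]
    rw [h0N] at rN
    push_cast at rN
    have : (Module.finrank k (Coh.HH X N 1) : ℤ) <
        (Module.finrank k (Coh.HH X A 0) : ℤ) + (Module.finrank k (Coh.HH X P 0) : ℤ) := by
      have h1 : (0 : ℤ) ≤ (Module.finrank k (Coh.HH X A 1) : ℤ) := Int.natCast_nonneg _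
      have h2 : (0 : ℤ) ≤ (Module.finrank k (Coh.HH X P 1) : ℤ) := Int.natCast_nonneg _
      linarith
    exact_mod_cast this
  obtain ⟨s, u, hs, hsu⟩ := exists_common f₁ f₂ hf₁ hf₂ hdim'
  exact ⟨s, u, hs, fun y => congrArg (fun l : Module.Dual k (Coh.HH X N 1) => l y) hsu⟩

omit [IsAlgClosed k] [IsIntegral X] [IsProper (X ↘ Spec (CommRingCat.of k))] in
theorem HHlin_iso_surjective {A B : X.Modules} (e : A ≅ B) (i : ℕ) :
    Function.Surjective (Canon.HHlin k e.hom i) := by
  intro y
  refine ⟨Canon.HHlin k e.inv i y, ?_⟩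
  have := congrArg (fun l => l y) (HHlin_comp k e.inv e.hom i)
  simp only [Iso.inv_hom_id] at this
  rw [LinearMap.comp_apply] at this
  rw [← this]
  exact hmap_id i y

/-- surjectivity of `φ ↦ t ∘ H¹(φ)` onto `H¹(L)^*` for invertible `L` -/
theorem dSurj_invertible (hdim : topologicalKrullDim X = 1)
    (hreg : ∀ x : X, IsRegularLocalRing (X.presheaf.stalk x)) (D : DualData k X) {L : X.Modules}
    (hL : PicF.IsInvertible L) : Groth.Agent.ProjDual.DSurj 1 D.t L := by
  haveI : IsLocallyNoetherian X :=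
    LocallyOfFiniteType.isLocallyNoetherian (X ↘ Spec (CommRingCat.of k))
  haveI : CompactSpace X :=
    QuasiCompact.compactSpace_of_compactSpace (X ↘ Spec (CommRingCat.of k))
  haveI : Nonempty X := inferInstance
  intro β
  by_cases hβ : β = 0
  · refine ⟨0, fun x => ?_⟩
    rw [hβ, Groth.Agent.ProjDual.hmap_zero', map_zero]
    rfl
  obtain ⟨p, -, hp⟩ := IsClosed.exists_closed_singleton (isClosed_univ (X := X))
    ⟨Classical.arbitrary X, trivial⟩
  have hI := CurvePtInv.isInvertible_idealMod_point hdim hp (hreg p)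
  have dI := CurvePtInv.deg_idealMod_point k X p hp
  -- the twisting degree
  obtain ⟨m, hm1, hm2⟩ : ∃ m : ℕ, Curv2.deg k X L 1 < (m : ℤ) ∧
      3 * (Curv2.genus k X : ℤ) - 3 - Curv2.deg k X D.ω 1 < (m : ℤ) := by
    refine ⟨(max (Curv2.deg k X L 1 + 1)
      (3 * (Curv2.genus k X : ℤ) - 2 - Curv2.deg k X D.ω 1)).toNat, ?_, ?_⟩
    · have h1 := Int.self_le_toNat (max (Curv2.deg k X L 1 + 1)
        (3 * (Curv2.genus k X : ℤ) - 2 - Curv2.deg k X D.ω 1))
      have h2 := le_max_left (Curv2.deg k X L 1 + 1)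
        (3 * (Curv2.genus k X : ℤ) - 2 - Curv2.deg k X D.ω 1)
      linarith
    · have h1 := Int.self_le_toNat (max (Curv2.deg k X L 1 + 1)
        (3 * (Curv2.genus k X : ℤ) - 2 - Curv2.deg k X D.ω 1))
      have h2 := le_max_right (Curv2.deg k X L 1 + 1)
        (3 * (Curv2.genus k X : ℤ) - 2 - Curv2.deg k X D.ω 1)
      linarith
  have hB := isInvertible_tensorPow hI m
  have dB := CurveTens.deg_tensorPow k X hdim.le hI m
  rw [dI] at dB
  obtain ⟨A, hA, ⟨e₀⟩⟩ := Groth.Agent.InvTensP.exists_inverse _ hB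
  have dA : Curv2.deg k X A 1 = m := by
    have h1 := CurveTens.deg_tensorMod k X hdim.le hB hA
    rw [CurveTens.deg_of_iso k X e₀ 1, CurveDeg.deg_structureModule, dB] at h1
    linarith
  have hN := isInvertible_tensorMod hL hB
  have dN := CurveTens.deg_tensorMod k X hdim.le hL hB
  rw [dB] at dN
  let e : CohB1.tensorMod (CohB1.tensorMod L
      (CohB1.tensorPow (ClSub.idealMod (Scheme.IdealSheafData.vanishingIdeal ⟨{p}, hp⟩)) m)) A ≅
      L := assoc L _ A ≪≫ mapL L e₀ ≪≫ rightUnit L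
  obtain ⟨N', hN', ⟨θ₀⟩⟩ := Groth.Agent.InvTensP.exists_inverse _ hN
  have dN' : Curv2.deg k X N' 1 = -(Curv2.deg k X L 1 + (m : ℤ) * -1) := by
    have h1 := CurveTens.deg_tensorMod k X hdim.le hN hN'
    rw [CurveTens.deg_of_iso k X θ₀ 1, CurveDeg.deg_structureModule, dN] at h1
    linarith
  have hP := isInvertible_tensorMod hN' D.hω
  have dP := CurveTens.deg_tensorMod k X hdim.le hN' D.hω
  rw [dN'] at dP
  let θ : CohB1.tensorMod (CohB1.tensorMod L
      (CohB1.tensorPow (ClSub.idealMod (Scheme.IdealSheafData.vanishingIdeal ⟨{p}, hp⟩)) m))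
      (CohB1.tensorMod N' D.ω) ≅ D.ω :=
    (assoc _ N' D.ω).symm ≪≫ mapR θ₀ D.ω ≪≫ unitorL D.ω
  -- the functionals
  have hγ : β ∘ₗ Canon.HHlin k e.hom 1 ≠ 0 := by
    intro h0
    apply hβ
    apply LinearMap.ext
    intro x
    obtain ⟨y, rfl⟩ := HHlin_iso_surjective (k := k) e 1 x
    exact congrArg (fun l => l y) h0
  have hτ : D.t ∘ₗ Canon.HHlin k θ.hom 1 ≠ 0 := by
    intro h0
    apply D.ht
    apply LinearMap.ext
    intro x
    obtain ⟨y, rfl⟩ := HHlin_iso_surjective (k := k) θ 1 x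
    exact congrArg (fun l => l y) h0
  obtain ⟨s, u, hs, hsu⟩ := exists_common_sections hdim hN hA hP _ hγ _ hτ
    (by rw [dN]; linarith) (by rw [dN, dA, dP]; linarith)
  have hNc := ProperFinH9.isCoh_of_isInvertible hN
  have hjsurj : Function.Surjective (Canon.HHlin k (mulSec _ A s ≫ e.hom) 1) := by
    intro x
    obtain ⟨y, rfl⟩ := HHlin_iso_surjective (k := k) e 1 x
    obtain ⟨z, rfl⟩ := HH1_mulSec_surjective k X hdim.le hNc hA s hs y
    exact ⟨z, HHlin_comp_apply _ _ 1 z⟩
  have hcond : ∀ y, D.t (Canon.HHlin k (mulSec _ (CohB1.tensorMod N' D.ω) u ≫ θ.hom) 1 y) =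
      β (Canon.HHlin k (mulSec _ A s ≫ e.hom) 1 y) := by
    intro y
    rw [HHlin_comp_apply, HHlin_comp_apply]
    exact (hsu y).symm
  have hj0 : mulSec _ A s ≫ e.hom ≠ 0 := by
    intro h0
    apply hβ
    apply LinearMap.ext
    intro x
    obtain ⟨y, rfl⟩ := hjsurj x
    rw [h0]
    have : Canon.HHlin k (0 : CohB1.tensorMod L
      (CohB1.tensorPow (ClSub.idealMod (Scheme.IdealSheafData.vanishingIdeal ⟨{p}, hp⟩)) m) ⟶ L)
      1 y = 0 := Groth.Agent.ProjDual.hmap_zero' 1 y
    rw [this, map_zero]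
    rfl
  obtain ⟨φ, hφ⟩ := factor hdim hreg D hN _ m hL _ hj0 (by rw [dN]; ring) β hcond
  refine ⟨φ, fun x => ?_⟩
  obtain ⟨y, rfl⟩ := hjsurj x
  rw [← hcond y, ← hφ]
  exact congrArg D.t (HHlin_comp_apply _ φ 1 y)

end CurveSD
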