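import Mathlib
import Groth.Prelude
import Groth.Agent.Lib.CurveSD4_helper9
import Groth.Agent.Lib.TwistEpi_helper5
import Groth.Agent.Lib.FinGG_helper5
import Groth.Agent.Lib.Tens29_helper8
import Groth.Agent.Lib.CurveAmple5_helper9
import Groth.Agent.Lib.CohKer_helper8
import Groth.Agent.Lib.ProjFin2_helper9

/-!
# Serre duality on curves, part 5: existence of dualizing data and duality for coherent modules
(helper9)
APPEND-ONLY once landed.
-/

set_option autoImplicit false
universe u
open CategoryTheory CategoryTheory.Limits AlgebraicGeometry Opposite TopologicalSpace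

namespace CurveSD

open QcqsLoc QCohExtn GenLocH8 TensH8 FLFH8 CohB1 Groth.Agent.HHVan CurveAmple CurveGG
  Groth.Agent.TensInv Groth.Agent.CMMul

/-- a nonzero vector of a vector space is detected by a functional -/
theorem exists_functional_ne_zero {K V : Type*} [Field K] [AddCommGroup V] [Module K V] {v : V}
    (hv : v ≠ 0) : ∃ f : V →ₗ[K] K, f v ≠ 0 :=
  Module.Projective.exists_dual_ne_zero K hv

variable {k : Type u} [Field k] [IsAlgClosed k] {X : Scheme.{u}} [X.Over (Spec (CommRingCat.of k))]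
  [IsIntegral X] [IsProper (X ↘ Spec (CommRingCat.of k))]

include k in
/-- a regular integral proper curve has a closed point -/
theorem exists_closed_point : ∃ p : X, IsClosed ({p} : Set X) := by
  haveI : CompactSpace X :=
    QuasiCompact.compactSpace_of_compactSpace (X ↘ Spec (CommRingCat.of k))
  haveI : Nonempty X := inferInstance
  obtain ⟨p, -, hp⟩ := IsClosed.exists_closed_singleton (isClosed_univ (X := X))
    ⟨Classical.arbitrary X, trivial⟩
  exact ⟨p, hp⟩

/-- **existence of dualizing data** on a regular integral proper curve over an algebraically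
closed field -/
theorem exists_dualData (hdim : topologicalKrullDim X = 1)
    (hreg : ∀ x : X, IsRegularLocalRing (X.presheaf.stalk x)) : Nonempty (DualData k X) := by
  haveI : IsLocallyNoetherian X :=
    LocallyOfFiniteType.isLocallyNoetherian (X ↘ Spec (CommRingCat.of k))
  have hbdd : ∃ b : ℤ, ∀ d : ℤ, (∃ L : X.Modules, PicF.IsInvertible L ∧ Curv2.deg k X L 1 = d ∧
      ¬ Subsingleton (Coh.HH X L 1)) → d ≤ b := by
    refine ⟨2 * (Curv2.genus k X : ℤ) - 2, ?_⟩
    rintro d ⟨L, hL, rfl, hns⟩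
    by_contra hlt
    exact hns (CurveAmple.HH1_subsingleton_of_deg_ge k X hdim.le hL (by linarith))
  have hne : ∃ d : ℤ, ∃ L : X.Modules, PicF.IsInvertible L ∧ Curv2.deg k X L 1 = d ∧
      ¬ Subsingleton (Coh.HH X L 1) := by
    obtain ⟨p, hp⟩ := exists_closed_point (k := k) (X := X)
    have hI := CurvePtInv.isInvertible_idealMod_point hdim hp (hreg p)
    have dI := CurvePtInv.deg_idealMod_point k X p hp
    have hB := isInvertible_tensorPow hI 2
    have dB := CurveTens.deg_tensorPow k X hdim.le hI 2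
    rw [dI] at dB
    refine ⟨_, _, hB, rfl, ?_⟩
    intro hss
    have r := Cliff9.rr k X hdim hB
    have h0 := finrank_HH0_eq_zero_of_deg_neg hdim hB (by rw [dB]; norm_num)
    have h1 : Module.finrank k (Coh.HH X (CohB1.tensorPow (ClSub.idealMod
        (Scheme.IdealSheafData.vanishingIdeal ⟨{p}, hp⟩)) 2) 1) = 0 :=
      Module.finrank_zero_of_subsingleton
    rw [h0, h1, dB] at r
    push_cast at r
    have : (0 : ℤ) ≤ (Curv2.genus k X : ℤ) := Int.natCast_nonneg _
    linarith
  obtain ⟨d, ⟨L, hL, hd, hns⟩, hmax⟩ := Int.exists_greatest_of_bdd hbdd hne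
  haveI : Nontrivial (Coh.HH X L 1) := not_subsingleton_iff_nontrivial.mp hns
  obtain ⟨v, hv⟩ := exists_ne (0 : Coh.HH X L 1)
  obtain ⟨t, ht⟩ := exists_functional_ne_zero (K := k) hv
  refine ⟨{ ω := L, hω := hL, t := t, ht := ?_, hmax := ?_ }⟩
  · intro h0
    apply ht
    rw [h0]
    rfl
  · intro L' hL' hlt
    by_contra hns'
    have := hmax _ ⟨L', hL', rfl, hns'⟩
    rw [hd] at hlt
    linarith

include k in
/-- every coherent module on a regular integral proper curve is a quotient of a finite direct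
sum of copies of an invertible module -/
theorem exists_epi_sigma_invertible (hdim : topologicalKrullDim X = 1)
    (hreg : ∀ x : X, IsRegularLocalRing (X.presheaf.stalk x)) (F : X.Modules)
    (hF : Coh.IsCoh F) :
    ∃ (M : X.Modules) (r : ℕ) (p : (∐ fun _ : Fin r => M) ⟶ F), PicF.IsInvertible M ∧ Epi p := by
  haveI : IsLocallyNoetherian X :=
    LocallyOfFiniteType.isLocallyNoetherian (X ↘ Spec (CommRingCat.of k))
  haveI : CompactSpace X :=
    QuasiCompact.compactSpace_of_compactSpace (X ↘ Spec (CommRingCat.of k))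
  haveI : QuasiSeparatedSpace X := inferInstance
  obtain ⟨q, hq⟩ := exists_closed_point (k := k) (X := X)
  have hI := CurvePtInv.isInvertible_idealMod_point hdim hq (hreg q)
  have dI := CurvePtInv.deg_idealMod_point k X q hq
  obtain ⟨J, hJ, ⟨ι⟩⟩ := Groth.Agent.InvTensP.exists_inverse _ hI
  have dJ : Curv2.deg k X J 1 = 1 := by
    have h1 := CurveTens.deg_tensorMod k X hdim.le hI hJ
    rw [CurveTens.deg_of_iso k X ι 1, CurveDeg.deg_structureModule, dI] at h1
    linarith
  have hamp : CohB1.IsAmple J :=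
    CurveAmple.isAmple_of_deg_pos k X hdim.le hJ (by rw [dJ]; norm_num)
  obtain ⟨n₀, hn₀⟩ := TensH8.exists_isGloballyGenerated_twist hamp F hF
  haveI : F.IsQuasicoherent := hF.1
  haveI : SheafOfModules.IsFiniteType (R := X.ringCatSheaf) F := hF.2
  have hJn := TensH8.isInvertible_tensorPow hJ n₀
  have hLn := ProperFinH9.isCoh_of_isInvertible hJn
  haveI : (tensorPow J n₀).IsQuasicoherent := hLn.1
  haveI : SheafOfModules.IsFiniteType (R := X.ringCatSheaf) (tensorPow J n₀) := hLn.2
  haveI := TensQCH8.isQuasicoherent_tensorMod F (tensorPow J n₀)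
  haveI := TensQCH8.isFiniteType_tensorMod F (tensorPow J n₀) hF.2 hLn.2
  obtain ⟨r, g, hloc⟩ := Groth.Agent.FinGG.exists_finite_locSpan
    (tensorMod F (tensorPow J n₀)) (hn₀ n₀ le_rfl)
  obtain ⟨M, hM, ⟨α⟩⟩ := Groth.Agent.InvTensP.exists_inverse _ hJn
  let Φ : tensorMod (tensorMod F (tensorPow J n₀)) M ≅ F :=
    assoc F _ _ ≪≫ mapL F α ≪≫ rightUnit F
  exact ⟨M, r, Groth.Agent.FinGG.untwistMap Φ g, hM,
    Groth.Agent.FinGG.epi_untwistMap hM Φ g hloc⟩

/-- injectivity of `φ ↦ t ∘ H¹(φ)` on `Hom(F, ω)` for coherent `F` -/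
theorem dInj_coh (hdim : topologicalKrullDim X = 1)
    (hreg : ∀ x : X, IsRegularLocalRing (X.presheaf.stalk x)) (D : DualData k X) (F : X.Modules)
    (hF : Coh.IsCoh F) : Groth.Agent.ProjDual.DInj 1 D.t F := by
  obtain ⟨M, r, p, hM, hp⟩ := exists_epi_sigma_invertible (k := k) hdim hreg F hF
  exact Groth.Agent.ProjDual.dInj_of_epi p hp
    (Groth.Agent.ProjDual.dInj_sigma M r (dInj_invertible hdim D hM))

/-- surjectivity of `φ ↦ t ∘ H¹(φ)` onto `H¹(F)^*` for coherent `F` -/
theorem dSurj_coh (hdim : topologicalKrullDim X = 1)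
    (hreg : ∀ x : X, IsRegularLocalRing (X.presheaf.stalk x)) (D : DualData k X) (F : X.Modules)
    (hF : Coh.IsCoh F) : Groth.Agent.ProjDual.DSurj 1 D.t F := by
  haveI : IsLocallyNoetherian X :=
    LocallyOfFiniteType.isLocallyNoetherian (X ↘ Spec (CommRingCat.of k))
  obtain ⟨M, r, p, hM, hp⟩ := exists_epi_sigma_invertible (k := k) hdim hreg F hF
  let S : ShortComplex X.Modules := ShortComplex.mk (kernel.ι p) p (kernel.condition p)
  have hS : S.ShortExact :=
    ShortComplex.ShortExact.mk' (S.exact_of_f_is_kernel (kernelIsKernel p))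
      (inferInstanceAs (Mono (kernel.ι p))) hp
  have hMc := ProperFinH9.isCoh_of_isInvertible hM
  have hKc : Coh.IsCoh (kernel p) :=
    CohKerH8.isCoh_kernel (Groth.Agent.ProjFin.isCoh_sigma_fin M hMc r) hF p
  haveI := hKc.1
  have hH2 : Subsingleton (Coh.HH X (kernel p) (1 + 1)) :=
    CurveRR.HH_subsingleton k X hdim.le _ 2 (by norm_num)
  exact Groth.Agent.ProjDual.dSurj_of_ses S hS (dInj_coh hdim hreg D _ hKc)
    (Groth.Agent.ProjDual.dSurj_sigma M r (dSurj_invertible hdim hreg D hM))
    (hmap_g_surjective S hS 1 hH2)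

/-- the degree of the dualizing module is at most `2g - 2` -/
theorem DualData.deg_le (hdim : topologicalKrullDim X = 1) (D : DualData k X) :
    Curv2.deg k X D.ω 1 ≤ 2 * (Curv2.genus k X : ℤ) - 2 := by
  by_contra hlt
  have hss := CurveAmple.HH1_subsingleton_of_deg_ge k X hdim.le D.hω (by linarith)
  apply D.ht
  apply LinearMap.ext
  intro y
  rw [Subsingleton.elim y 0, map_zero, map_zero]

/-- **vanishing criterion**: a coherent module with no nonzero morphism to `ω` has `H¹ = 0` -/
theorem HH1_subsingleton_of_hom_eq_zero (hdim : topologicalKrullDim X = 1)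
    (hreg : ∀ x : X, IsRegularLocalRing (X.presheaf.stalk x)) (D : DualData k X) (F : X.Modules)
    (hF : Coh.IsCoh F) (h : ∀ φ : F ⟶ D.ω, φ = 0) : Subsingleton (Coh.HH X F 1) := by
  haveI : IsLocallyNoetherian X :=
    LocallyOfFiniteType.isLocallyNoetherian (X ↘ Spec (CommRingCat.of k))
  haveI := ProperFinH9.finite_HH_of_proper k X F hF 1
  refine ⟨fun a b => ?_⟩
  by_contra hab
  have hv : a - b ≠ 0 := sub_ne_zero.mpr hab
  obtain ⟨ψ, hψ⟩ := exists_functional_ne_zero (K := k) hv
  obtain ⟨φ, hφ⟩ := dSurj_coh hdim hreg D F hF ψ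
  apply hψ
  rw [hφ, h φ, Groth.Agent.ProjDual.hmap_zero', map_zero]

end CurveSD
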