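import Mathlib
import Groth.Prelude
import Groth.Agent.Lib.CurveSD6_helper9

/-!
# Vanishing of `H¹(E ⊗ N)` from a bound on the slopes of submodules (helper9)
APPEND-ONLY once landed.
-/

set_option autoImplicit false
universe u
open CategoryTheory CategoryTheory.Limits AlgebraicGeometry Opposite TopologicalSpace

namespace CurveSD

open QcqsLoc QCohExtn GenLocH8 TensH8 FLFH8 CohB1 Groth.Agent.HHVan CurveAmple CurveGG
  Groth.Agent.TensInv Groth.Agent.CMMul

variable {k : Type u} [Field k] [IsAlgClosed k] {X : Scheme.{u}} [X.Over (Spec (CommRingCat.of k))]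
  [IsIntegral X] [IsProper (X ↘ Spec (CommRingCat.of k))]

/-- **statement of S16008** over an algebraically closed field, for a regular curve -/
theorem HH1_tensor_subsingleton_of_bound (hdim : topologicalKrullDim X = 1)
    (hreg : ∀ x : X, IsRegularLocalRing (X.presheaf.stalk x)) {r : ℕ} (hr : 0 < r)
    {E : X.Modules} (hE : FlatMod.IsFinLocFreeOfRank r E) (C : ℤ)
    (hC : ∀ (G : X.Modules) (n : ℕ) (j : G ⟶ E), Mono j → 0 < n →
      FlatMod.IsFinLocFreeOfRank n G →
      Curv2.deg k X G n * (r : ℤ) ≤ (Curv2.deg k X E r + (r : ℤ) * C) * (n : ℤ))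
    {N : X.Modules} (hN : PicF.IsInvertible N)
    (hbig : (r : ℤ) * ((r : ℤ) - 1) * C + (r : ℤ) * (2 * (Curv2.genus k X : ℤ) - 2) <
      Curv2.deg k X E r + (r : ℤ) * Curv2.deg k X N 1) :
    Subsingleton (Coh.HH X (CohB1.tensorMod E N) 1) := by
  haveI : IsLocallyNoetherian X :=
    LocallyOfFiniteType.isLocallyNoetherian (X ↘ Spec (CommRingCat.of k))
  haveI : Nonempty X := inferInstance
  obtain ⟨D⟩ := exists_dualData (k := k) hdim hreg
  have hEc : Coh.IsCoh E :=
    KerFreeH8.isCoh_of_finLocFree (FLFH8.IsFinLocFreeOfRank.isFinLocFree E hE)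
  obtain ⟨N', hN', ⟨θ⟩⟩ := Groth.Agent.InvTensP.exists_inverse N hN
  have dN' : Curv2.deg k X N' 1 = -Curv2.deg k X N 1 := by
    have h1 := CurveTens.deg_tensorMod k X hdim.le hN hN'
    rw [CurveTens.deg_of_iso k X θ 1, CurveDeg.deg_structureModule] at h1
    linarith
  have hM : PicF.IsInvertible (CohB1.tensorMod D.ω N') := isInvertible_tensorMod D.hω hN'
  have dM := CurveTens.deg_tensorMod k X hdim.le D.hω hN'
  rw [dN'] at dM
  obtain ⟨θ'⟩ := swap (⟨θ⟩ : Nonempty (CohB1.tensorMod N N' ≅ Coh.structureModule X))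
  let ε : CohB1.tensorMod (CohB1.tensorMod D.ω N') N ≅ D.ω :=
    assoc D.ω N' N ≪≫ mapL D.ω θ' ≪≫ rightUnit D.ω
  haveI := isEquivalence_tR (⟨θ⟩ : Nonempty (CohB1.tensorMod N N' ≅ Coh.structureModule X))
  have hTc : Coh.IsCoh (CohB1.tensorMod E N) := isCoh_tensorMod X hEc hN
  apply HH1_subsingleton_of_hom_eq_zero hdim hreg D _ hTc
  intro φ
  have hfull : ∀ g : (tR N).obj E ⟶ (tR N).obj (CohB1.tensorMod D.ω N'),
      ∃ χ : E ⟶ CohB1.tensorMod D.ω N', (tR N).map χ = g :=
    fun g => (tR N).map_surjective g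
  obtain ⟨χ, hχ⟩ := hfull (φ ≫ ε.inv)
  have hχ0 : χ = 0 := by
    by_contra hχ0
    have hM1 := FLFH8.finLocFreeOfRank_one_of_isInvertible hM
    obtain ⟨rK, rI, hK, hI, hrr, hrI, hdegs, hK0⟩ := VBCurve.exists_kerIm_data k X hreg hdim.le χ
      hχ0 hE (FLFH8.IsFinLocFreeOfRank.isFinLocFree _ hM1)
    obtain ⟨h1, h2⟩ := sub_invertible_deg_le (k := k) hdim hM (Abelian.image.ι χ) hrI hI
    subst h1
    have h3 := D.deg_le hdim
    have hr0 : (0 : ℤ) ≤ (r : ℤ) := Int.natCast_nonneg r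
    rcases Nat.eq_zero_or_pos rK with h0 | hpos
    · obtain ⟨hd0, -⟩ := hK0 h0
      have hr1 : r = 1 := by omega
      subst hr1
      rw [hd0] at hdegs
      push_cast at hbig
      linarith
    · have hmono : Mono (VBCurve.kerImSC χ).f := (VBCurve.kerImSC_shortExact χ).mono_f
      have h4 := hC _ rK (VBCurve.kerImSC χ).f hmono hpos hK
      have hrK : (rK : ℤ) = (r : ℤ) - 1 := by
        have : (r : ℤ) = (rK : ℤ) + 1 := by exact_mod_cast hrr
        linarith
      rw [hrK] at h4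
      have h5 : Curv2.deg k X E r - Curv2.deg k X (CohB1.tensorMod D.ω N') 1 ≤
          Curv2.deg k X (VBCurve.kerImSC χ).X₁ rK := by linarith
      have h6 := mul_le_mul_of_nonneg_right h5 hr0
      have h7 : Curv2.deg k X (CohB1.tensorMod D.ω N') 1 ≤
          2 * (Curv2.genus k X : ℤ) - 2 - Curv2.deg k X N 1 := by linarith
      have h8 := mul_le_mul_of_nonneg_right h7 hr0
      nlinarith [h4, h6, h8, hbig]
  have h1 : φ ≫ ε.inv = 0 :=
    hχ.symm.trans ((congrArg (fun c => (tR N).map c) hχ0).trans (Functor.map_zero _ _ _))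
  have h2 : (φ ≫ ε.inv) ≫ ε.hom = φ :=
    (Category.assoc _ _ _).trans ((congrArg (fun l => φ ≫ l) ε.inv_hom_id).trans
      (Category.comp_id _))
  rw [← h2, h1, zero_comp]

end CurveSD
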