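import Mathlib

/-! Degree of Frobenius on finitely generated field extensions of a perfect field (helper9):
`[L : L^q] = q ^ trdeg` for `q = p ^ e`.  APPEND-ONLY once landed. -/

universe u

open IntermediateField Polynomial

namespace Groth.Agent.FrobDeg9

/-- `[F(x) : F(x^m)] = m` for `x` transcendental over `F`. -/
lemma relfinrank_adjoin_pow_of_transcendental {F E : Type*} [Field F] [Field E] [Algebra F E]
    (x : E) (hx : Transcendental F x) (m : ℕ) :
    (F⟮x ^ m⟯).relfinrank F⟮x⟯ = m := by
  let ι : RatFunc F →ₐ[F] E :=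
    (F⟮x⟯.val).comp (RatFunc.algEquivOfTranscendental x hx).toAlgHom
  have hιX : ι RatFunc.X = x := by
    simp [ι, RatFunc.algEquivOfTranscendental_X]
  have h1 : (F⟮(RatFunc.X : RatFunc F) ^ m⟯).map ι = F⟮x ^ m⟯ := by
    rw [IntermediateField.adjoin_map, Set.image_singleton, map_pow, hιX]
  have h2 : (⊤ : IntermediateField F (RatFunc F)).map ι = F⟮x⟯ := by
    rw [← RatFunc.adjoin_X, IntermediateField.adjoin_map, Set.image_singleton, hιX]
  rw [← h1, ← h2, IntermediateField.relfinrank_map_map, IntermediateField.relfinrank_top_right,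
    RatFunc.finrank_eq_max_natDegree]
  have hX : (RatFunc.X : RatFunc F) ^ m = algebraMap F[X] (RatFunc F) (X ^ m) := by
    rw [map_pow, RatFunc.algebraMap_X]
  rw [hX, RatFunc.num_algebraMap, RatFunc.denom_algebraMap]
  simp


/-- Version over a base field `k` with an auxiliary generating set `S`. -/
lemma relfinrank_adjoin_union_pow {k E : Type*} [Field k] [Field E] [Algebra k E] (S : Set E)
    (x : E) (hx : Transcendental (adjoin k S) x) (m : ℕ) :
    (adjoin k (S ∪ {x ^ m})).relfinrank (adjoin k (S ∪ {x})) = m := by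
  have h := relfinrank_adjoin_pow_of_transcendental (F := adjoin k S) x hx m
  rw [← adjoin_adjoin_left k S {x ^ m}, ← adjoin_adjoin_left k S {x}]
  exact h

lemma transcendental_of_le {k E : Type*} [Field k] [Field E] [Algebra k E]
    {F₁ F₂ : IntermediateField k E} (h : F₁ ≤ F₂) (x : E) (hx : Transcendental F₂ x) :
    Transcendental F₁ x := by
  intro hal
  apply hx
  obtain ⟨P, hP0, hP⟩ := hal
  refine ⟨P.map (IntermediateField.inclusion h).toRingHom, ?_, ?_⟩
  · exact (Polynomial.map_ne_zero_iff (IntermediateField.inclusion h).toRingHom.injective).2 hP0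
  · rw [Polynomial.aeval_def, Polynomial.eval₂_map]
    rw [Polynomial.aeval_def] at hP
    exact hP


section Chain

variable {k E : Type*} [Field k] [Field E] [Algebra k E] {ι : Type*} (s : ι → E) (m : ℕ)

/-- The field generated by `s i` for `i ∈ t` and `s i ^ m` for `i ∉ t`. -/
noncomputable def G (t : Set ι) : IntermediateField k E :=
  adjoin k ((s '' t) ∪ ((fun i => s i ^ m) '' tᶜ))

lemma G_mono {t t' : Set ι} (h : t ⊆ t') : G (k := k) s m t ≤ G s m t' := by
  classical
  unfold G
  rw [adjoin_le_iff]
  rintro y (⟨i, hi, rfl⟩ | ⟨i, hi, rfl⟩)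
  · exact subset_adjoin _ _ (Or.inl ⟨i, h hi, rfl⟩)
  · by_cases hi' : i ∈ t'
    · have h1 : s i ∈ adjoin k ((s '' t') ∪ ((fun i => s i ^ m) '' t'ᶜ)) :=
        subset_adjoin _ _ (Or.inl ⟨i, hi', rfl⟩)
      exact pow_mem h1 m
    · exact subset_adjoin _ _ (Or.inr ⟨i, hi', rfl⟩)

variable {s}

lemma relfinrank_G_insert (hs : AlgebraicIndependent k s) (t : Set ι) (j : ι) (hj : j ∉ t) :
    (G (k := k) s m t).relfinrank (G s m (insert j t)) = m := by
  set S' : Set E := (s '' t) ∪ ((fun i => s i ^ m) '' (insert j t)ᶜ) with hS'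
  have e1 : (s '' t) ∪ ((fun i => s i ^ m) '' tᶜ) = S' ∪ {s j ^ m} := by
    have : tᶜ = (insert j t)ᶜ ∪ {j} := by
      ext i
      simp only [Set.mem_compl_iff, Set.mem_insert_iff, Set.mem_union, Set.mem_singleton_iff,
        not_or]
      constructor
      · intro hi
        by_cases hij : i = j
        · exact Or.inr hij
        · exact Or.inl ⟨hij, hi⟩
      · rintro (⟨-, hi⟩ | rfl)
        · exact hi
        · exact hj
    rw [this, Set.image_union, Set.image_singleton, hS', Set.union_assoc]
  have e2 : (s '' (insert j t)) ∪ ((fun i => s i ^ m) '' (insert j t)ᶜ) = S' ∪ {s j} := by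
    rw [Set.image_insert_eq, hS']
    ext y
    simp only [Set.mem_union, Set.mem_insert_iff, Set.mem_singleton_iff]
    tauto
  unfold G
  rw [e1, e2]
  refine relfinrank_adjoin_union_pow S' (s j) ?_ m
  -- `s j` is transcendental over `k(S')`
  have hle : adjoin k S' ≤ adjoin k (s '' {j}ᶜ) := by
    rw [adjoin_le_iff]
    rintro y (⟨i, hi, rfl⟩ | ⟨i, hi, rfl⟩)
    · refine subset_adjoin _ _ ⟨i, ?_, rfl⟩
      rintro rfl
      exact hj hi
    · have h1 : s i ∈ adjoin k (s '' {j}ᶜ) := by
        refine subset_adjoin _ _ ⟨i, ?_, rfl⟩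
        rintro rfl
        exact hi (Set.mem_insert _ _)
      exact pow_mem h1 m
  refine transcendental_of_le hle (s j) ?_
  rw [IntermediateField.transcendental_adjoin_iff]
  exact hs.transcendental_adjoin (by simp)

lemma relfinrank_G_finset (hs : AlgebraicIndependent k s) (t : Finset ι) :
    (G (k := k) s m ∅).relfinrank (G s m (t : Set ι)) = m ^ t.card := by
  classical
  induction t using Finset.induction_on with
  | empty => simp [IntermediateField.relfinrank_self]
  | insert j t hj ih =>
    have h1 := relfinrank_G_insert m hs (t : Set ι) j (by simpa using hj)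
    have h2 := IntermediateField.relfinrank_mul_relfinrank
      (G_mono (k := k) s m (Set.empty_subset (t : Set ι)))
      (G_mono (k := k) s m (Set.subset_insert j (t : Set ι)))
    rw [ih, h1] at h2
    rw [Finset.coe_insert, Finset.card_insert_of_notMem hj, pow_succ, ← h2]

/-- `[k(s) : k(s^m)] = m ^ n` for an algebraically independent family of `n` elements. -/
theorem relfinrank_adjoin_range_pow [Fintype ι] (hs : AlgebraicIndependent k s) :
    (adjoin k (Set.range fun i => s i ^ m)).relfinrank (adjoin k (Set.range s)) =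
      m ^ Fintype.card ι := by
  have h := relfinrank_G_finset m hs (Finset.univ : Finset ι)
  unfold G at h
  simpa using h

end Chain


section Frob

variable (k L : Type*) [Field k] [Field L] [Algebra k L] (p : ℕ) [ExpChar k p] [ExpChar L p]
  [PerfectRing k p]

lemma map_iterateFrobenius_adjoin {ι : Type*} (s : ι → L) (e : ℕ) :
    (adjoin k (Set.range s)).toSubfield.map (iterateFrobenius L p e) =
      (adjoin k (Set.range fun i => s i ^ (p ^ e))).toSubfield := by
  rw [IntermediateField.adjoin_toSubfield, IntermediateField.adjoin_toSubfield,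
    RingHom.map_field_closure, Set.image_union]
  have h1 : (iterateFrobenius L p e) '' Set.range (algebraMap k L) = Set.range (algebraMap k L) := by
    ext y
    constructor
    · rintro ⟨_, ⟨c, rfl⟩, rfl⟩
      exact ⟨c ^ p ^ e, by rw [map_pow, iterateFrobenius_def]⟩
    · rintro ⟨c, rfl⟩
      obtain ⟨c', rfl⟩ := (iterateFrobeniusEquiv k p e).surjective c
      exact ⟨algebraMap k L c', ⟨c', rfl⟩, by
        rw [iterateFrobenius_def, ← map_pow, iterateFrobeniusEquiv_def]⟩
  have h2 : (iterateFrobenius L p e) '' Set.range s = Set.range fun i => s i ^ (p ^ e) := by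
    rw [← Set.range_comp]
    rfl
  rw [h1, h2]

theorem finrank_iterateFrobenius_fieldRange {ι : Type*} [Fintype ι] (s : ι → L)
    (hs : AlgebraicIndependent k s) [FiniteDimensional (adjoin k (Set.range s)) L] (e : ℕ) :
    Module.finrank (iterateFrobenius L p e).fieldRange L = (p ^ e) ^ Fintype.card ι := by
  set φ : L →+* L := iterateFrobenius L p e with hφ
  set M : Subfield L := (adjoin k (Set.range s)).toSubfield with hM
  have ha : M.map φ = (adjoin k (Set.range fun i => s i ^ (p ^ e))).toSubfield :=
    map_iterateFrobenius_adjoin k L p s e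
  have hc : (M.map φ).relfinrank M = (p ^ e) ^ Fintype.card ι := by
    rw [ha, hM]
    exact relfinrank_adjoin_range_pow (k := k) (p ^ e) hs
  have hb : (M.map φ).relfinrank φ.fieldRange = M.relfinrank ⊤ := by
    rw [RingHom.fieldRange_eq_map, Subfield.relfinrank_map_map]
  have hle1 : M.map φ ≤ M := by
    rw [ha, hM]
    change adjoin k _ ≤ adjoin k _
    rw [adjoin_le_iff]
    rintro _ ⟨i, rfl⟩
    have h1 : s i ∈ adjoin k (Set.range s) := subset_adjoin _ _ ⟨i, rfl⟩
    exact pow_mem h1 _
  have hle2 : M.map φ ≤ φ.fieldRange := by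
    rw [RingHom.fieldRange_eq_map]
    exact (Subfield.gc_map_comap φ).monotone_l le_top
  have e1 := Subfield.relfinrank_mul_relfinrank hle1 (le_top : M ≤ ⊤)
  have e2 := Subfield.relfinrank_mul_relfinrank hle2 (le_top : φ.fieldRange ≤ ⊤)
  rw [hc] at e1
  rw [hb, ← e1] at e2
  have hd : M.relfinrank ⊤ ≠ 0 := by
    rw [Subfield.relfinrank_top_right]
    have : Module.finrank (adjoin k (Set.range s)) L ≠ 0 := (Module.finrank_pos).ne'
    exact this
  rw [← Subfield.relfinrank_top_right]
  have e3 : M.relfinrank ⊤ * φ.fieldRange.relfinrank ⊤ = M.relfinrank ⊤ * (p ^ e) ^ Fintype.card ι := by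
    rw [e2, mul_comm]
  exact Nat.eq_of_mul_eq_mul_left (Nat.pos_of_ne_zero hd) e3

end Frob


section EssFT

variable (k L : Type u) [Field k] [Field L] [Algebra k L] (p : ℕ) [ExpChar k p] [ExpChar L p]
  [PerfectRing k p]

lemma finiteDimensional_of_isTranscendenceBasis [Algebra.EssFiniteType k L] {ι : Type*}
    (s : ι → L) (hs : IsTranscendenceBasis k s) :
    FiniteDimensional (adjoin k (Set.range s)) L := by
  classical
  haveI : Algebra.IsAlgebraic (adjoin k (Set.range s)) L := hs.isAlgebraic_field
  obtain ⟨t, ht⟩ := IntermediateField.fg_top k L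
  have h1 : adjoin (adjoin k (Set.range s)) (t : Set L) = ⊤ := by
    rw [eq_top_iff]
    intro x _
    have hx : x ∈ adjoin k (t : Set L) := by rw [ht]; trivial
    have hle : adjoin k (t : Set L) ≤
        (adjoin (adjoin k (Set.range s)) (t : Set L)).restrictScalars k := by
      rw [adjoin_le_iff]
      intro y hy
      exact subset_adjoin (adjoin k (Set.range s)) _ hy
    exact hle hx
  haveI : Finite (t : Set L) := t.finite_toSet
  have h2 : FiniteDimensional (adjoin k (Set.range s))
      (adjoin (adjoin k (Set.range s)) (t : Set L)) :=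
    finiteDimensional_adjoin fun x _ => (Algebra.IsAlgebraic.isAlgebraic x).isIntegral
  rw [h1] at h2
  exact Module.Finite.equiv (IntermediateField.topEquiv (F := adjoin k (Set.range s))
    (E := L)).toLinearEquiv

theorem finrank_iterateFrobenius_of_essFiniteType [Algebra.EssFiniteType k L] (n : ℕ)
    (hn : Algebra.trdeg k L = n) (e : ℕ) :
    Module.finrank (iterateFrobenius L p e).fieldRange L = (p ^ e) ^ n := by
  classical
  obtain ⟨s, hs⟩ := exists_isTranscendenceBasis k L
  have hcard := hs.cardinalMk_eq_trdeg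
  rw [hn] at hcard
  have hfin : Finite s := by
    rw [← Cardinal.lt_aleph0_iff_finite, hcard]
    exact Cardinal.natCast_lt_aleph0
  letI : Fintype s := Fintype.ofFinite s
  have hc : Fintype.card s = n := by
    have := Cardinal.mk_fintype s
    rw [hcard] at this
    exact_mod_cast this.symm
  haveI := finiteDimensional_of_isTranscendenceBasis k L _ hs
  rw [← hc]
  exact finrank_iterateFrobenius_fieldRange k L p _ hs.1 e

end EssFT

end Groth.Agent.FrobDeg9
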