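import Mathlib
import Groth.Agent.Lib.FrobDeg1_helper9

/-! Abstract degree computation for Frobenius-like maps (helper9). APPEND-ONLY once landed. -/

universe u

namespace Groth.Agent.FrobDeg9

/-- If `φ : B → B` has image exactly the `q`-th powers and induces `j : L' → L` on fields of
fractions of quotients of `B`, then the image of `j` is `L^q`. -/
theorem fieldRange_eq_of_frobenius_like {B L' L : Type*} [CommRing B] [Field L'] [Field L]
    (p e : ℕ) [ExpChar L p]
    (j : L' →+* L) (e' : B →+* L') (ev : B →+* L) (φ : B →+* B)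
    (hfrac' : ∀ x : L', ∃ a b : B, x = e' a / e' b)
    (hfrac : ∀ x : L, ∃ a b : B, x = ev a / ev b)
    (hcomm : ∀ b, j (e' b) = ev (φ b))
    (h1 : ∀ b, ∃ b', φ b = b' ^ p ^ e) (h2 : ∀ b', ∃ b, φ b = b' ^ p ^ e) :
    j.fieldRange = (iterateFrobenius L p e).fieldRange := by
  ext y
  simp only [RingHom.mem_fieldRange]
  constructor
  · rintro ⟨x, rfl⟩
    obtain ⟨a, b, rfl⟩ := hfrac' x
    obtain ⟨a', ha'⟩ := h1 a
    obtain ⟨b', hb'⟩ := h1 b
    refine ⟨ev a' / ev b', ?_⟩
    rw [iterateFrobenius_def, div_pow, ← map_pow, ← map_pow, ← ha', ← hb', ← hcomm, ← hcomm,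
      map_div₀]
  · rintro ⟨x, rfl⟩
    obtain ⟨a', b', rfl⟩ := hfrac x
    obtain ⟨a, ha⟩ := h2 a'
    obtain ⟨b, hb⟩ := h2 b'
    refine ⟨e' a / e' b, ?_⟩
    rw [iterateFrobenius_def, div_pow, ← map_pow, ← map_pow, ← ha, ← hb, ← hcomm, ← hcomm,
      map_div₀]

/-- The degree of a field embedding is the degree over its image. -/
theorem finrank_eq_of_fieldRange_eq {L' L : Type*} [Field L'] [Field L] (j : L' →+* L)
    (S : Subfield L) (h : j.fieldRange = S) :
    @Module.finrank L' L _ _ j.toAlgebra.toModule = Module.finrank S L := by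
  letI := j.toAlgebra
  let i : L' ≃+* S :=
    j.rangeRestrictFieldEquiv.trans (RingEquiv.subfieldCongr h)
  exact Algebra.finrank_eq_of_equiv_equiv i (RingEquiv.refl L) (by
    ext x
    rfl)

end Groth.Agent.FrobDeg9
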