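import Mathlib
import Groth.Agent.Lib.FrobDeg2_helper9

/-!
# Purely inseparable subextensions of a field with `[K : K^{p^n}] = p^n` (helper9)
If `K / L` is finite purely inseparable and `[K : K^{p^n}] = p^n` for all `n`, then the image of `L`
in `K` is `K^{p^n}` for some `n`, and `L ≃ K` by extracting `p^n`-th roots.
APPEND-ONLY once landed.
-/

universe u

namespace FrobTw9

open Polynomial

section Field

variable (L K : Type*) [Field L] [Field K] [Algebra L K] (p : ℕ) [ExpChar K p]

/-- if `K / L` is purely inseparable of degree `p ^ n` then `K^{p^n} ⊆ L` -/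
theorem pow_mem_range [IsPurelyInseparable L K] [FiniteDimensional L K] {n : ℕ}
    (hn : Module.finrank L K = p ^ n) (x : K) : x ^ p ^ n ∈ (algebraMap L K).range := by
  haveI : ExpChar L p := (algebraMap L K).expChar (algebraMap L K).injective p
  have h1 := IsPurelyInseparable.minpoly_natDegree_eq' L p x
  have h2 : (minpoly L x).natDegree ∣ Module.finrank L K :=
    minpoly.degree_dvd (Algebra.IsIntegral.isIntegral x)
  rw [h1, hn] at h2
  have h3 := IsPurelyInseparable.elemExponent_def' L p x
  by_cases hp1 : p = 1
  · subst hp1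
    simpa using h3
  · have hp : 1 < p := by
      have := expChar_pos K p
      omega
    have hle : IsPurelyInseparable.elemExponent L x ≤ n :=
      (Nat.pow_dvd_pow_iff_le_right hp).mp h2
    obtain ⟨d, rfl⟩ := Nat.exists_eq_add_of_le hle
    rw [pow_add, pow_mul]
    exact pow_mem h3 _

/-- the image of `L` is `K^{p^n}` -/
theorem fieldRange_eq [IsPurelyInseparable L K] [FiniteDimensional L K]
    (hdeg : ∀ n, Module.finrank (iterateFrobenius K p n).fieldRange K = p ^ n) :
    ∃ n, (algebraMap L K).fieldRange = (iterateFrobenius K p n).fieldRange := by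
  haveI : ExpChar L p := (algebraMap L K).expChar (algebraMap L K).injective p
  obtain ⟨n, hn⟩ := IsPurelyInseparable.finrank_eq_pow (F := L) K p
  refine ⟨n, ?_⟩
  have hle : (iterateFrobenius K p n).fieldRange ≤ (algebraMap L K).fieldRange := by
    rintro _ ⟨x, rfl⟩
    rw [iterateFrobenius_def]
    obtain ⟨y, hy⟩ := pow_mem_range L K p hn x
    exact ⟨y, hy⟩
  have h1 : Module.finrank (algebraMap L K).fieldRange K = p ^ n := by
    rw [← hn]
    symm
    exact Algebra.finrank_eq_of_equiv_equiv (algebraMap L K).rangeRestrictFieldEquiv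
      (RingEquiv.refl K) (by ext x; rfl)
  have e1 := Subfield.relfinrank_mul_relfinrank hle (le_top : (algebraMap L K).fieldRange ≤ ⊤)
  rw [Subfield.relfinrank_top_right, Subfield.relfinrank_top_right, h1, hdeg n] at e1
  have hpos : 0 < p ^ n := pow_pos (expChar_pos K p) n
  have h2 : (iterateFrobenius K p n).fieldRange.relfinrank (algebraMap L K).fieldRange = 1 := by
    have : (iterateFrobenius K p n).fieldRange.relfinrank (algebraMap L K).fieldRange * p ^ n =
        1 * p ^ n := by rw [e1, one_mul]
    exact Nat.eq_of_mul_eq_mul_right hpos this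
  exact le_antisymm (Subfield.relfinrank_eq_one_iff.mp h2) hle

/-- extraction of `p^n`-th roots: a ring isomorphism `L ≃ K` -/
theorem exists_root_equiv {n : ℕ}
    (h : (algebraMap L K).fieldRange = (iterateFrobenius K p n).fieldRange) :
    ∃ ψ : L ≃+* K, ∀ y : L, (ψ y) ^ p ^ n = algebraMap L K y := by
  let eL : L ≃+* (algebraMap L K).fieldRange := (algebraMap L K).rangeRestrictFieldEquiv
  let eK : K ≃+* (iterateFrobenius K p n).fieldRange :=
    (iterateFrobenius K p n).rangeRestrictFieldEquiv
  refine ⟨eL.trans ((RingEquiv.subfieldCongr h).trans eK.symm), fun y => ?_⟩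
  have h1 : eK ((eL.trans ((RingEquiv.subfieldCongr h).trans eK.symm)) y) =
      RingEquiv.subfieldCongr h (eL y) := by
    simp only [RingEquiv.trans_apply, RingEquiv.apply_symm_apply]
  have h2 := congrArg Subtype.val h1
  rw [← iterateFrobenius_def]
  exact h2

end Field

end FrobTw9
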