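import Mathlib
import Groth.Agent.Lib.FrobDeg1_helper9

/-!
# `[K : k·K^{p^r}] = p^r` for a separably generated function field of one variable (helper9)
APPEND-ONLY once landed.
-/

universe u

open IntermediateField Polynomial

namespace FrobTw9

section F1

variable (k K : Type*) [Field k] [Field K] [Algebra k K] (p : ℕ) [ExpChar K p] (r : ℕ)

/-- the compositum `k · K^{p^r}` -/
noncomputable def kKq : IntermediateField k K :=
  adjoin k (Set.range (iterateFrobenius K p r))

theorem frob_mem_kKq (x : K) : x ^ p ^ r ∈ kKq k K p r := by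
  rw [← iterateFrobenius_def]
  exact subset_adjoin k _ ⟨x, rfl⟩

variable {k K}

/-- `k(t)^{p^r} ⊆ k(t^{p^r})` -/
theorem frob_mem_adjoin_pow (t : K) {c : K} (hc : c ∈ k⟮t⟯) : c ^ p ^ r ∈ k⟮t ^ p ^ r⟯ := by
  induction hc using IntermediateField.adjoin_induction with
  | mem x hx =>
    rw [Set.mem_singleton_iff] at hx
    rw [hx]
    exact mem_adjoin_simple_self k _
  | algebraMap x =>
    rw [← map_pow]
    exact IntermediateField.algebraMap_mem _ _
  | add x y _ _ hx hy => rw [add_pow_expChar_pow]; exact add_mem hx hy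
  | inv x _ hx => rw [inv_pow]; exact inv_mem hx
  | mul x y _ _ hx hy => rw [mul_pow]; exact mul_mem hx hy

variable (k K)

/-- upper bound: `K = (k K^q)(t)` and `t^q ∈ k K^q` -/
theorem finrank_kKq_le (t : K) [Algebra.IsSeparable k⟮t⟯ K] :
    Module.finrank (kKq k K p r) K ≤ p ^ r := by
  haveI : ExpChar k⟮t⟯ p := (algebraMap k⟮t⟯ K).expChar (algebraMap k⟮t⟯ K).injective p
  -- `K = k(t)(K^q)`
  have h1 := adjoin_eq_adjoin_pow_expChar_pow_of_isSeparable' k⟮t⟯ K Set.univ p r
  rw [adjoin_univ] at h1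
  -- hence `K = M(t)`
  have h2 : (adjoin (kKq k K p r) {t} : IntermediateField (kKq k K p r) K) = ⊤ := by
    rw [eq_top_iff]
    intro x _
    have hx : x ∈ (adjoin k⟮t⟯ ((· ^ p ^ r) '' Set.univ) : IntermediateField k⟮t⟯ K) := by
      rw [← h1]; trivial
    rw [← IntermediateField.mem_toSubfield, adjoin_toSubfield] at hx ⊢
    refine (Subfield.closure_le (t := Subfield.closure
      (Set.range (algebraMap (kKq k K p r) K) ∪ {t}))).mpr ?_ hx
    rintro y (⟨⟨y, hy⟩, rfl⟩ | ⟨z, -, rfl⟩)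
    · -- `y ∈ k(t)`
      rw [← IntermediateField.mem_toSubfield, adjoin_toSubfield] at hy
      refine (Subfield.closure_le (t := Subfield.closure
        (Set.range (algebraMap (kKq k K p r) K) ∪ {t}))).mpr ?_ hy
      rintro w (⟨c, rfl⟩ | hw)
      · exact Subfield.subset_closure (Or.inl ⟨⟨algebraMap k K c, IntermediateField.algebraMap_mem _ c⟩, rfl⟩)
      · exact Subfield.subset_closure (Or.inr hw)
    · exact Subfield.subset_closure (Or.inl ⟨⟨z ^ p ^ r, frob_mem_kKq k K p r z⟩, rfl⟩)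
  have h3 : Module.finrank (kKq k K p r) K =
      Module.finrank (kKq k K p r) (adjoin (kKq k K p r) {t} :
        IntermediateField (kKq k K p r) K) := by
    rw [h2]
    exact (IntermediateField.finrank_top').symm
  rw [h3]
  -- `t` is a root of `X^q - t^q`
  let c : kKq k K p r := ⟨t ^ p ^ r, frob_mem_kKq k K p r t⟩
  have hroot : aeval t (X ^ p ^ r - C c : (kKq k K p r)[X]) = 0 := by
    simp [c]
  have hne : (X ^ p ^ r - C c : (kKq k K p r)[X]) ≠ 0 :=
    X_pow_sub_C_ne_zero (pow_pos (expChar_pos K p) r) c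
  have hint : IsIntegral (kKq k K p r) t := ⟨_, monic_X_pow_sub_C c (pow_pos (expChar_pos K p) r).ne', hroot⟩
  rw [IntermediateField.adjoin.finrank hint]
  calc (minpoly (kKq k K p r) t).natDegree
      ≤ (X ^ p ^ r - C c : (kKq k K p r)[X]).natDegree :=
        natDegree_le_of_dvd (minpoly.dvd _ t hroot) hne
    _ = p ^ r := natDegree_X_pow_sub_C

/-- lower bound: `q ≤ [K : k K^q]` when `t` is transcendental and `K/k(t)` is finite -/
theorem le_finrank_kKq (t : K) (ht : Transcendental k t) [FiniteDimensional k⟮t⟯ K] :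
    p ^ r ≤ Module.finrank (kKq k K p r) K := by
  have hF'F : k⟮t ^ p ^ r⟯ ≤ k⟮t⟯ := by
    rw [adjoin_simple_le_iff]; exact pow_mem (mem_adjoin_simple_self k t) _
  have hF'M : k⟮t ^ p ^ r⟯ ≤ kKq k K p r := by
    rw [adjoin_simple_le_iff]; exact frob_mem_kKq k K p r t
  have h1 : (k⟮t ^ p ^ r⟯).relfinrank k⟮t⟯ = p ^ r :=
    Groth.Agent.FrobDeg9.relfinrank_adjoin_pow_of_transcendental t ht (p ^ r)
  have h2 : (k⟮t ^ p ^ r⟯).relfinrank k⟮t⟯ * (k⟮t⟯).relfinrank ⊤ = (k⟮t ^ p ^ r⟯).relfinrank ⊤ :=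
    relfinrank_mul_relfinrank hF'F le_top
  have h3 : (k⟮t ^ p ^ r⟯).relfinrank (kKq k K p r) * (kKq k K p r).relfinrank ⊤ =
      (k⟮t ^ p ^ r⟯).relfinrank ⊤ :=
    relfinrank_mul_relfinrank hF'M le_top
  rw [relfinrank_top_right, relfinrank_top_right] at h2 h3
  have hn : 0 < Module.finrank k⟮t⟯ K := Module.finrank_pos
  have hq : 0 < p ^ r := pow_pos (expChar_pos K p) r
  haveI : FiniteDimensional k⟮t ^ p ^ r⟯ K := by
    apply Module.finite_of_finrank_pos
    rw [← h2, h1]
    exact Nat.mul_pos hq hn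
  have h4 : (k⟮t ^ p ^ r⟯).relfinrank (kKq k K p r) ≤ Module.finrank k⟮t⟯ K := by
    rw [relfinrank_eq_finrank_of_le hF'M]
    let b := Module.finBasis k⟮t⟯ K
    let V : Submodule k⟮t ^ p ^ r⟯ K := Submodule.span k⟮t ^ p ^ r⟯ (Set.range fun i => (b i) ^ p ^ r)
    have hV : ∀ x : K, x ^ p ^ r ∈ V := by
      intro x
      have hx := b.sum_repr x
      rw [← hx, sum_pow_char_pow]
      refine Submodule.sum_mem _ fun i _ => ?_
      rw [Algebra.smul_def, mul_pow]
      have hc : (algebraMap k⟮t⟯ K (b.repr x i)) ^ p ^ r ∈ k⟮t ^ p ^ r⟯ :=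
        frob_mem_adjoin_pow p r t (b.repr x i).2
      have hsm : (algebraMap k⟮t⟯ K (b.repr x i)) ^ p ^ r * (b i) ^ p ^ r =
          (⟨_, hc⟩ : k⟮t ^ p ^ r⟯) • (b i) ^ p ^ r := rfl
      rw [hsm]
      exact Submodule.smul_mem _ _ (Submodule.subset_span ⟨i, rfl⟩)
    have hle : Subalgebra.toSubmodule (extendScalars hF'M).toSubalgebra ≤ V := by
      intro x hx
      have hxM : x ∈ kKq k K p r := hx
      -- `M ≤ N := adjoin F' K^q`
      have hxN : x ∈ (adjoin k⟮t ^ p ^ r⟯ (Set.range (iterateFrobenius K p r)) :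
          IntermediateField k⟮t ^ p ^ r⟯ K) := by
        rw [kKq, ← IntermediateField.mem_toSubfield, adjoin_toSubfield] at hxM
        rw [← IntermediateField.mem_toSubfield]
        refine (Subfield.closure_le (t := (adjoin k⟮t ^ p ^ r⟯
          (Set.range (iterateFrobenius K p r))).toSubfield)).mpr ?_ hxM
        rintro w (⟨c, rfl⟩ | hw)
        · rw [SetLike.mem_coe, IntermediateField.mem_toSubfield,
            IsScalarTower.algebraMap_apply k k⟮t ^ p ^ r⟯ K]
          exact IntermediateField.algebraMap_mem _ _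
        · exact subset_adjoin _ _ hw
      have hxA : x ∈ Algebra.adjoin k⟮t ^ p ^ r⟯ (Set.range (iterateFrobenius K p r)) := by
        rw [← adjoin_toSubalgebra]; exact hxN
      rw [← Subalgebra.mem_toSubmodule, Algebra.adjoin_eq_span] at hxA
      refine (Submodule.span_le (p := V)).mpr ?_ hxA
      intro y hy
      have hy' : y ∈ MonoidHom.mrange ((iterateFrobenius K p r : K →+* K) : K →* K) := by
        refine (Submonoid.closure_le (S := MonoidHom.mrange
          ((iterateFrobenius K p r : K →+* K) : K →* K))).mpr ?_ hy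
        rintro _ ⟨z, rfl⟩
        exact ⟨z, rfl⟩
      obtain ⟨z, rfl⟩ := hy'
      exact hV z
    calc Module.finrank k⟮t ^ p ^ r⟯ (extendScalars hF'M)
        ≤ Module.finrank k⟮t ^ p ^ r⟯ V := Submodule.finrank_mono hle
      _ ≤ Fintype.card (Fin (Module.finrank k⟮t⟯ K)) := finrank_range_le_card _
      _ = Module.finrank k⟮t⟯ K := Fintype.card_fin _
  have h5 : p ^ r * Module.finrank k⟮t⟯ K ≤
      Module.finrank k⟮t⟯ K * Module.finrank (kKq k K p r) K := by
    rw [h1] at h2
    rw [h2, ← h3]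
    exact Nat.mul_le_mul_right _ h4
  rw [mul_comm] at h5
  exact Nat.le_of_mul_le_mul_left h5 hn

theorem finrank_kKq (t : K) (ht : Transcendental k t) [FiniteDimensional k⟮t⟯ K]
    [Algebra.IsSeparable k⟮t⟯ K] :
    Module.finrank (kKq k K p r) K = p ^ r :=
  le_antisymm (finrank_kKq_le k K p r t) (le_finrank_kKq k K p r t ht)

end F1

end FrobTw9
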