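import Mathlib
import Groth.Agent.Lib.FrobTw6_helper9
import Groth.Agent.Lib.FrobTw1_helper9

/-!
# Field theory for separable pencils (helper9)
If `[K : k·K^p] = p` and an intermediate field `M` of `K / k` with `K / M` finite contains an
element outside `k·K^p`, then `K / M` is separable.
APPEND-ONLY once landed.
-/

universe u

open IntermediateField Polynomial

namespace CSepPt

section PI

variable (L K : Type*) [Field L] [Field K] [Algebra L K] (p : ℕ) [ExpChar K p]

/-- `p`-th powers of elements of `L(K^{p^j})` lie in `L(K^{p^{j+1}})` -/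
theorem pow_mem_adjoin_succ (j : ℕ) {y : K}
    (hy : y ∈ adjoin L (Set.range (iterateFrobenius K p j))) :
    y ^ p ∈ adjoin L (Set.range (iterateFrobenius K p (j + 1))) := by
  haveI : ExpChar L p := (algebraMap L K).expChar (algebraMap L K).injective p
  induction hy using IntermediateField.adjoin_induction with
  | mem x hx =>
    obtain ⟨z, rfl⟩ := hx
    apply subset_adjoin
    refine ⟨z, ?_⟩
    rw [iterateFrobenius_def, iterateFrobenius_def, pow_succ, pow_mul]
  | algebraMap x =>
    rw [← map_pow]
    exact IntermediateField.algebraMap_mem _ _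
  | add x y _ _ hx hy =>
    rw [add_pow_expChar]
    exact add_mem hx hy
  | inv x _ hx =>
    rw [inv_pow]
    exact inv_mem hx
  | mul x y _ _ hx hy =>
    rw [mul_pow]
    exact mul_mem hx hy

/-- a finite purely inseparable extension `K / L` with `L(K^p) = K` is trivial -/
theorem surjective_of_adjoin_frobenius_eq_top [IsPurelyInseparable L K] [FiniteDimensional L K]
    (h : ∀ x : K, x ∈ adjoin L (Set.range (iterateFrobenius K p 1))) (x : K) :
    x ∈ (algebraMap L K).range := by
  haveI : ExpChar L p := (algebraMap L K).expChar (algebraMap L K).injective p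
  obtain ⟨n, hn⟩ := IsPurelyInseparable.finrank_eq_pow (F := L) K p
  have key : ∀ j : ℕ, ∀ x : K, x ∈ adjoin L (Set.range (iterateFrobenius K p j)) := by
    intro j
    induction j with
    | zero =>
      intro x
      apply subset_adjoin
      exact ⟨x, by rw [iterateFrobenius_def]; simp⟩
    | succ j ih =>
      intro x
      have hx := h x
      have hle : adjoin L (Set.range (iterateFrobenius K p 1)) ≤
          adjoin L (Set.range (iterateFrobenius K p (j + 1))) := by
        rw [adjoin_le_iff]
        rintro _ ⟨y, rfl⟩
        rw [iterateFrobenius_def, pow_one]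
        exact pow_mem_adjoin_succ L K p j (ih y)
      exact hle hx
  have hx := key n x
  have hle : adjoin L (Set.range (iterateFrobenius K p n)) ≤ ⊥ := by
    rw [adjoin_le_iff]
    rintro _ ⟨y, rfl⟩
    rw [iterateFrobenius_def]
    obtain ⟨z, hz⟩ := FrobTw9.pow_mem_range L K p hn y
    exact IntermediateField.mem_bot.mpr ⟨z, hz⟩
  obtain ⟨z, hz⟩ := IntermediateField.mem_bot.mp (hle hx)
  exact ⟨z, hz⟩

end PI

section Sep

variable (k K : Type*) [Field k] [Field K] [Algebra k K] (p : ℕ) [hp : Fact p.Prime]
  [ExpChar K p]

/-- **separability criterion**: if `[K : k K^p] = p`, and the intermediate field `M` with `K / M`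
finite contains an element outside `k K^p`, then `K / M` is separable -/
theorem isSeparable_of_not_mem_kKq (hE : Module.finrank (FrobTw9.kKq k K p 1) K = p)
    (M : IntermediateField k K) [FiniteDimensional M K] (c : K) (hcM : c ∈ M)
    (hcE : c ∉ FrobTw9.kKq k K p 1) : Algebra.IsSeparable M K := by
  classical
  haveI : Algebra.IsAlgebraic M K := Algebra.IsAlgebraic.of_finite M K
  set Ks := separableClosure M K with hKs
  haveI : IsPurelyInseparable Ks K := separableClosure.isPurelyInseparable M K
  haveI : FiniteDimensional Ks K := Module.Finite.of_restrictScalars_finite M Ks K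
  by_contra hns
  -- `Ks(K^p) ≠ K`
  have hne : ¬ ∀ x : K, x ∈ adjoin Ks (Set.range (iterateFrobenius K p 1)) := by
    intro hall
    apply hns
    have hsurj := surjective_of_adjoin_frobenius_eq_top Ks K p hall
    rw [← separableClosure.eq_top_iff]
    rw [eq_top_iff]
    intro x _
    obtain ⟨z, hz⟩ := hsurj x
    rw [← hz]
    exact z.2
  apply hne
  -- the subfield `N = Ks(K^p)`
  have hEN' : ∀ x ∈ FrobTw9.kKq k K p 1, x ∈ adjoin Ks (Set.range (iterateFrobenius K p 1)) := by
    intro x hx
    rw [FrobTw9.kKq] at hx
    induction hx using IntermediateField.adjoin_induction with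
    | mem y hy => exact subset_adjoin _ _ hy
    | algebraMap y =>
      have h1 : algebraMap k K y = algebraMap Ks K (algebraMap M Ks (algebraMap k M y)) := rfl
      rw [h1]
      exact IntermediateField.algebraMap_mem _ _
    | add x y _ _ hx hy => exact add_mem hx hy
    | inv x _ hx => exact inv_mem hx
    | mul x y _ _ hx hy => exact mul_mem hx hy
  obtain ⟨N, hN⟩ : ∃ N : Subfield K,
      N = (adjoin Ks (Set.range (iterateFrobenius K p 1))).toSubfield := ⟨_, rfl⟩
  obtain ⟨E, hEdef⟩ : ∃ E : Subfield K, E = (FrobTw9.kKq k K p 1).toSubfield := ⟨_, rfl⟩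
  have hEN : E ≤ N := by
    intro x hx
    rw [hEdef] at hx
    rw [hN]
    exact hEN' x hx
  have hrel := Subfield.relfinrank_mul_relfinrank hEN (le_top : N ≤ ⊤)
  have hEtop : E.relfinrank ⊤ = p := by
    rw [Subfield.relfinrank_top_right, hEdef]
    exact hE
  rw [hEtop] at hrel
  rcases (Nat.dvd_prime hp.out).mp ⟨_, hrel.symm⟩ with h1 | h1
  · -- `N ≤ E`: contradiction with `c`
    exfalso
    have hNE : N ≤ E := Subfield.relfinrank_eq_one_iff.mp h1
    apply hcE
    have hcN : c ∈ N := by
      rw [hN]
      show c ∈ adjoin Ks (Set.range (iterateFrobenius K p 1))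
      have h2 : c = algebraMap Ks K (algebraMap M Ks ⟨c, hcM⟩) := rfl
      rw [h2]
      exact IntermediateField.algebraMap_mem _ _
    have := hNE hcN
    rw [hEdef] at this
    exact this
  · -- `N = ⊤`
    rw [h1] at hrel
    have h2 : N.relfinrank ⊤ = 1 := by
      have hp0 : 0 < p := hp.out.pos
      exact Nat.eq_of_mul_eq_mul_left hp0 (by rw [hrel, mul_one])
    have h3 : (⊤ : Subfield K) ≤ N := Subfield.relfinrank_eq_one_iff.mp h2
    intro x
    have := h3 (Subfield.mem_top x)
    rw [hN] at this
    exact this

end Sep

end CSepPt
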