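import Mathlib
import Groth.Prelude
import Groth.Agent.Lib.ProjUP1_helper5
import Groth.Agent.Lib.Tens18_helper8
import Groth.Agent.Lib.QCohLoc_helper4

/-!
# Uniqueness of a morphism from an affine scheme to `Proj` from relations among pulled-back
generators (helper5)
APPEND-ONLY once landed.
-/

set_option autoImplicit false
universe u
open CategoryTheory CategoryTheory.Limits AlgebraicGeometry TopologicalSpace Opposite
open HomogeneousLocalization QcqsLoc GenLocH8 TensH8 FLFH8 QCohExtn PBH8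

namespace Groth.Agent.ProjUPU

section Local
variable {A S : Type u} [CommRing A] [CommRing S] [Algebra A S] (𝒮 : ℕ → Submodule A S)
  [GradedAlgebra 𝒮] {X : Scheme.{u}} (r r' : X ⟶ Proj 𝒮)

/-- Two morphisms to `Proj` over the base agree as soon as, locally, they land in the same chart
`D_+(g)` and induce the same values on the ratios `b / g` of the generators. -/
theorem eq_of_local (G : Set S) (hG : ∀ g ∈ G, g ∈ 𝒮 1) (hadj : Algebra.adjoin A G = ⊤)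
    (hrr' : r ≫ Proj.toSpecZero 𝒮 ≫ Spec.map (CommRingCat.ofHom (algebraMap A (𝒮 0))) =
      r' ≫ Proj.toSpecZero 𝒮 ≫ Spec.map (CommRingCat.ofHom (algebraMap A (𝒮 0))))
    (H : ∀ x : X, ∃ (g : S) (hg : g ∈ G) (W : X.Opens) (h : W ≤ r ⁻¹ᵁ Proj.basicOpen 𝒮 g)
      (h' : W ≤ r' ⁻¹ᵁ Proj.basicOpen 𝒮 g), x ∈ W ∧ ∀ (b : S) (hb : b ∈ G),
        r.appLE (Proj.basicOpen 𝒮 g) W h (rat 𝒮 (hG g hg) (hG b hb)) =
          r'.appLE (Proj.basicOpen 𝒮 g) W h' (rat 𝒮 (hG g hg) (hG b hb))) : r = r' := by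
  apply Scheme.hom_ext_of_forall
  intro x
  obtain ⟨g, hgG, W, h, h', hxW, Hb⟩ := H x
  have hg := hG g hgG
  refine ⟨W, hxW, ?_⟩
  have key0 : (r.appLE (Proj.basicOpen 𝒮 g) W h).hom.comp (dehom 𝒮 hg) =
      (r'.appLE (Proj.basicOpen 𝒮 g) W h').hom.comp (dehom 𝒮 hg) := by
    apply RingHom.ext
    intro a
    have ha : a ∈ Algebra.adjoin A G := hadj ▸ Algebra.mem_top
    induction ha using Algebra.adjoin_induction with
    | mem b hb =>
      simp only [RingHom.comp_apply]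
      rw [dehom_eq_rat 𝒮 hg (hG b hb)]
      exact Hb b hb
    | algebraMap a => exact appLE_algebraMap_eq 𝒮 r r' hrr' hg h h' a
    | add a b _ _ ha hb => rw [map_add, map_add, ha, hb]
    | mul a b _ _ ha hb => rw [map_mul, map_mul, ha, hb]
  have key : r.appLE (Proj.basicOpen 𝒮 g) W h = r'.appLE (Proj.basicOpen 𝒮 g) W h' := by
    ext c
    obtain ⟨a, rfl⟩ := dehom_surjective 𝒮 hg c
    exact RingHom.congr_fun key0 a
  have e1 : r.resLE (Proj.basicOpen 𝒮 g) W h = r'.resLE (Proj.basicOpen 𝒮 g) W h' := by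
    haveI : IsAffine (Proj.basicOpen 𝒮 g).toScheme := Proj.isAffineOpen_basicOpen 𝒮 g hg one_pos
    apply ext_of_isAffine
    have h1 : (r.resLE (Proj.basicOpen 𝒮 g) W h).appTop =
        (Proj.basicOpen 𝒮 g).topIso.hom ≫ r.appLE (Proj.basicOpen 𝒮 g) W h ≫ W.topIso.inv :=
      Scheme.Hom.resLE_app_top r h
    have h2 : (r'.resLE (Proj.basicOpen 𝒮 g) W h').appTop =
        (Proj.basicOpen 𝒮 g).topIso.hom ≫ r'.appLE (Proj.basicOpen 𝒮 g) W h' ≫ W.topIso.inv :=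
      Scheme.Hom.resLE_app_top r' h'
    rw [h1, h2, key]
  rw [← Scheme.Hom.resLE_comp_ι r h, ← Scheme.Hom.resLE_comp_ι r' h', e1]

end Local

section Aff
variable {A S : Type u} [CommRing A] [CommRing S] [Algebra A S] (𝒮 : ℕ → Submodule A S)
  [GradedAlgebra 𝒮] {X : Scheme.{u}} [IsAffine X] (r : X ⟶ Proj 𝒮)

/-- On a basic open `X_f ⊆ r⁻¹ D_+(g)` of an affine scheme, the relation `r^*b = (b/g) r^*g` is
witnessed by a global relation `f^N r^*b = c r^*g`. -/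
theorem exists_global_rel (hcov : ∀ x : Proj 𝒮, ∃ f ∈ 𝒮 1, x ∈ Proj.basicOpen 𝒮 f)
    {g b : S} (hg : g ∈ 𝒮 1) (hb : b ∈ 𝒮 1) (f : Γ(X, ⊤))
    (h : X.basicOpen f ≤ r ⁻¹ᵁ Proj.basicOpen 𝒮 g) :
    ∃ (N : ℕ) (c : Γ(X, ⊤)),
      f ^ N • ProjUP.pullSec r (Twist.twist 𝒮 1) (sig 𝒮 hb) =
        c • ProjUP.pullSec r (Twist.twist 𝒮 1) (sig 𝒮 hg) ∧
      rX (X.basicOpen_le f) f ^ N * r.appLE (Proj.basicOpen 𝒮 g) (X.basicOpen f) h (rat 𝒮 hg hb) =
        rX (X.basicOpen_le f) c := by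
  haveI : ((Scheme.Modules.pullback r).obj (Twist.twist 𝒮 1)).IsQuasicoherent :=
    isQuasicoherent_of_isInvertible (isInvertible_pullback r (ProjTw.isInvertible_twist 𝒮 hcov 1))
  have hloc := (isAffineOpen_top X).isLocalization_basicOpen f
  obtain ⟨⟨c₀, ⟨_, N, rfl⟩⟩, hc₀⟩ := IsLocalization.surj (Submonoid.powers f)
    (r.appLE (Proj.basicOpen 𝒮 g) (X.basicOpen f) h (rat 𝒮 hg hb))
  have hc₀' : r.appLE (Proj.basicOpen 𝒮 g) (X.basicOpen f) h (rat 𝒮 hg hb) *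
      rX (X.basicOpen_le f) f ^ N = rX (X.basicOpen_le f) c₀ := by
    have := hc₀
    simp only [map_pow] at this
    exact this
  -- the relation holds on `X_f`
  have h0 : ((Scheme.Modules.pullback r).obj (Twist.twist 𝒮 1)).presheaf.map
      (homOfLE (X.basicOpen_le f)).op
      (f ^ N • ProjUP.pullSec r (Twist.twist 𝒮 1) (sig 𝒮 hb) -
        c₀ • ProjUP.pullSec r (Twist.twist 𝒮 1) (sig 𝒮 hg)) = 0 := by
    show rF ((Scheme.Modules.pullback r).obj (Twist.twist 𝒮 1)) (X.basicOpen_le f) _ = 0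
    rw [map_sub, rF_smul, rF_smul, map_pow]
    show rX (X.basicOpen_le f) f ^ N • psec r (Twist.twist 𝒮 1) (sig 𝒮 hb) (X.basicOpen f) -
      rX (X.basicOpen_le f) c₀ • psec r (Twist.twist 𝒮 1) (sig 𝒮 hg) (X.basicOpen f) = 0
    rw [psec_eq_smul 𝒮 r hg hb h, ← mul_smul, ← hc₀', mul_comm, sub_self]
  obtain ⟨N', hN'⟩ := Groth.Agent.Lib.QCohLoc_helper4.exists_pow_smul_eq_zero
    ((Scheme.Modules.pullback r).obj (Twist.twist 𝒮 1)) (isAffineOpen_top X) f _ h0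
  refine ⟨N' + N, f ^ N' * c₀, ?_, ?_⟩
  · rw [smul_sub, sub_eq_zero, ← mul_smul, ← mul_smul, ← pow_add] at hN'
    exact hN'
  · rw [pow_add, map_mul, map_pow, mul_assoc, mul_comm (rX (X.basicOpen_le f) f ^ N), hc₀']

/-- **Uniqueness from relations**: two morphisms from an affine scheme to `Proj 𝒮` over the base
agree as soon as every global relation `a r^*g_k = c r^*g_i` among the pulled-back degree-one
generators under `r` also holds under `r'`. -/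
theorem eq_of_rel {I : Type*} (g : I → S) (hg : ∀ i, g i ∈ 𝒮 1)
    (hadj : Algebra.adjoin A (Set.range g) = ⊤) (r' : X ⟶ Proj 𝒮)
    (hrr' : r ≫ Proj.toSpecZero 𝒮 ≫ Spec.map (CommRingCat.ofHom (algebraMap A (𝒮 0))) =
      r' ≫ Proj.toSpecZero 𝒮 ≫ Spec.map (CommRingCat.ofHom (algebraMap A (𝒮 0))))
    (Hrel : ∀ (i k : I) (a c : Γ(X, ⊤)),
      a • ProjUP.pullSec r (Twist.twist 𝒮 1) (sig 𝒮 (hg k)) =
        c • ProjUP.pullSec r (Twist.twist 𝒮 1) (sig 𝒮 (hg i)) →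
      a • ProjUP.pullSec r' (Twist.twist 𝒮 1) (sig 𝒮 (hg k)) =
        c • ProjUP.pullSec r' (Twist.twist 𝒮 1) (sig 𝒮 (hg i))) : r = r' := by
  have hcovI : ∀ y : Proj 𝒮, ∃ i, y ∈ Proj.basicOpen 𝒮 (g i) :=
    ProjTw.cover_of_adjoin 𝒮 g (fun _ => 1) (fun _ => one_pos) hg hadj
  have hcov : ∀ y : Proj 𝒮, ∃ f ∈ 𝒮 1, y ∈ Proj.basicOpen 𝒮 f := fun y => by
    obtain ⟨i, hi⟩ := hcovI y
    exact ⟨g i, hg i, hi⟩
  apply eq_of_local 𝒮 r r' (Set.range g) (by rintro _ ⟨i, rfl⟩; exact hg i) hadj hrr'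
  intro x
  obtain ⟨i, hi⟩ := hcovI (r x)
  obtain ⟨i', hi'⟩ := hcovI (r' x)
  obtain ⟨_, ⟨f, rfl⟩, hxf, hfle⟩ := Opens.isBasis_iff_nbhd.mp (isBasis_basicOpen X)
    (show x ∈ (r ⁻¹ᵁ Proj.basicOpen 𝒮 (g i) ⊓ r' ⁻¹ᵁ Proj.basicOpen 𝒮 (g i') : X.Opens)
      from ⟨hi, hi'⟩)
  have h : X.basicOpen f ≤ r ⁻¹ᵁ Proj.basicOpen 𝒮 (g i) := fun y hy => (hfle hy).1
  have h2 : X.basicOpen f ≤ r' ⁻¹ᵁ Proj.basicOpen 𝒮 (g i') := fun y hy => (hfle hy).2
  have hfu : IsUnit (rX (X.basicOpen_le f) f) := X.toRingedSpace.isUnit_res_basicOpen f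
  have h' : X.basicOpen f ≤ r' ⁻¹ᵁ Proj.basicOpen 𝒮 (g i) := by
    obtain ⟨N, c, hrel, -⟩ := exists_global_rel 𝒮 r hcov (hg i) (hg i') f h
    have hrel' := Hrel i i' (f ^ N) c hrel
    have e := congrArg (rF ((Scheme.Modules.pullback r').obj (Twist.twist 𝒮 1))
      (X.basicOpen_le f)) hrel'
    rw [rF_smul, rF_smul, map_pow] at e
    change rX (X.basicOpen_le f) f ^ N •
        psec r' (Twist.twist 𝒮 1) (sig 𝒮 (hg i')) (X.basicOpen f) =
      rX (X.basicOpen_le f) c • psec r' (Twist.twist 𝒮 1) (sig 𝒮 (hg i)) (X.basicOpen f) at e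
    rw [psec_eq_smul 𝒮 r' (hg i') (hg i) h2, ← mul_smul] at e
    have hgen := isGen_psec 𝒮 r' hcov (hg i') h2
    have e2 := IsGen.coef_ext hgen e
    have hu : IsUnit (r'.appLE (Proj.basicOpen 𝒮 (g i')) (X.basicOpen f) h2
        (rat 𝒮 (hg i') (hg i))) := isUnit_of_mul_isUnit_right (e2 ▸ hfu.pow N)
    have hgen2 : IsGen ((Scheme.Modules.pullback r').obj (Twist.twist 𝒮 1)) (X.basicOpen f)
        (psec r' (Twist.twist 𝒮 1) (sig 𝒮 (hg i)) (X.basicOpen f)) := by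
      rw [psec_eq_smul 𝒮 r' (hg i') (hg i) h2]
      exact isGen_smul_of_isUnit hgen hu
    intro y hy
    exact mem_of_isGen 𝒮 r' hcov (hg i) hgen2 hy
  refine ⟨g i, ⟨i, rfl⟩, X.basicOpen f, h, h', hxf, ?_⟩
  rintro _ ⟨k, rfl⟩
  obtain ⟨N, c, hrel, hval⟩ := exists_global_rel 𝒮 r hcov (hg i) (hg k) f h
  have hrel' := Hrel i k (f ^ N) c hrel
  have e := congrArg (rF ((Scheme.Modules.pullback r').obj (Twist.twist 𝒮 1))
    (X.basicOpen_le f)) hrel'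
  rw [rF_smul, rF_smul, map_pow] at e
  change rX (X.basicOpen_le f) f ^ N •
      psec r' (Twist.twist 𝒮 1) (sig 𝒮 (hg k)) (X.basicOpen f) =
    rX (X.basicOpen_le f) c • psec r' (Twist.twist 𝒮 1) (sig 𝒮 (hg i)) (X.basicOpen f) at e
  rw [psec_eq_smul 𝒮 r' (hg i) (hg k) h', ← mul_smul] at e
  have e2 := IsGen.coef_ext (isGen_psec 𝒮 r' hcov (hg i) h') e
  exact (hfu.pow N).mul_left_cancel (hval.trans e2.symm)

end Aff

end Groth.Agent.ProjUPU
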