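import Mathlib
import Groth.Prelude
import Groth.Agent.Lib.ProjUP7_helper5
import Groth.Agent.Lib.ProjUP3_helper5
import Groth.Agent.Lib.SecOrd1_helper8
import Groth.Agent.Lib.QCohLoc_helper4
import Groth.Agent.Lib.OverField_helper7

/-!
# A morphism to projective space in a standard chart, at a point (helper9)
APPEND-ONLY once landed.
-/

set_option autoImplicit false
universe u
open CategoryTheory CategoryTheory.Limits AlgebraicGeometry Opposite TopologicalSpace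
open HomogeneousLocalization QcqsLoc GenLocH8 TensH8 PBH8 QCohExtn Groth.Agent.ProjUPU

namespace CSepPt

section Chart

variable {X Y : Scheme.{u}} (f : X ⟶ Y) {D : Y.Opens} (x : X) (hx : f x ∈ D)

/-- the ring map from functions on a chart `D ∋ f x` to the local ring at `x` -/
noncomputable def theta : Γ(Y, D) ⟶ X.presheaf.stalk x :=
  f.app D ≫ X.presheaf.germ (f ⁻¹ᵁ D) x hx

theorem fromSpecStalk_comp_eq (hD : IsAffineOpen D) :
    X.fromSpecStalk x ≫ f = Spec.map (theta f x hx) ≫ hD.fromSpec := by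
  rw [← Scheme.SpecMap_stalkMap_fromSpecStalk, ← hD.fromSpecStalk_eq_fromSpecStalk hx,
    IsAffineOpen.fromSpecStalk, ← Category.assoc, ← Spec.map_comp, Scheme.Hom.germ_stalkMap]
  rfl

end Chart

section ProjChart

variable {A S : Type u} [CommRing A] [CommRing S] [Algebra A S] (𝒮 : ℕ → Submodule A S)
  [GradedAlgebra 𝒮] {X : Scheme.{u}} (φ : X ⟶ Proj 𝒮) {f : S} (hf : f ∈ 𝒮 1) (x : X)
  (hx : φ x ∈ Proj.basicOpen 𝒮 f)

/-- in the chart `D_+(f)`: `germ (φ^* g) = (g/f) • germ (φ^* f)`, after any map `φ^*O(1) ⟶ L` -/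
theorem germ_pull_eq_smul {g : S} (hg : g ∈ 𝒮 1) (L : X.Modules)
    (α : (Scheme.Modules.pullback φ).obj (Twist.twist 𝒮 1) ⟶ L) :
    L.presheaf.germ ⊤ x trivial (ap α ⊤ (ProjUP.pullSec φ (Twist.twist 𝒮 1) (sig 𝒮 hg))) =
      (theta φ x hx).hom (rat 𝒮 hf hg) •
        L.presheaf.germ ⊤ x trivial
          (ap α ⊤ (ProjUP.pullSec φ (Twist.twist 𝒮 1) (sig 𝒮 hf))) := by
  have hU : φ ⁻¹ᵁ Proj.basicOpen 𝒮 f ≤ φ ⁻¹ᵁ Proj.basicOpen 𝒮 f := le_rfl
  have e1 := psec_eq_smul 𝒮 φ hf hg hU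
  have e2 := congrArg (ap α (φ ⁻¹ᵁ Proj.basicOpen 𝒮 f)) e1
  rw [ap_smul] at e2
  have e3 : ∀ σ : Γ(Twist.twist 𝒮 1, ⊤),
      ap α (φ ⁻¹ᵁ Proj.basicOpen 𝒮 f) (psec φ (Twist.twist 𝒮 1) σ (φ ⁻¹ᵁ Proj.basicOpen 𝒮 f)) =
      rF L (le_top : φ ⁻¹ᵁ Proj.basicOpen 𝒮 f ≤ ⊤)
        (ap α ⊤ (ProjUP.pullSec φ (Twist.twist 𝒮 1) σ)) := by
    intro σ
    unfold psec
    rw [ap_rF]
  rw [e3, e3] at e2
  have e4 := congrArg (L.presheaf.germ (φ ⁻¹ᵁ Proj.basicOpen 𝒮 f) x hx) e2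
  rw [Groth.Agent.Lib.QCohLoc_helper4.germ_smul, SecOrdH8.germ_rF, SecOrdH8.germ_rF] at e4
  rw [e4]
  congr 1
  have h5 : Scheme.Hom.appLE φ (Proj.basicOpen 𝒮 f) (φ ⁻¹ᵁ Proj.basicOpen 𝒮 f) hU =
      φ.app (Proj.basicOpen 𝒮 f) := (Scheme.Hom.app_eq_appLE φ).symm
  rw [h5]
  rfl

/-- the structure map of the chart -/
noncomputable def iotaD : CommRingCat.of A ⟶ Γ(Proj 𝒮, Proj.basicOpen 𝒮 f) :=
  CommRingCat.ofHom (algebraMap A (𝒮 0)) ≫
    CommRingCat.ofHom (fromZeroRingHom 𝒮 (Submonoid.powers f)) ≫ Proj.awayToSection 𝒮 f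

theorem fromSpec_toSpec :
    (Proj.isAffineOpen_basicOpen 𝒮 f hf one_pos).fromSpec ≫ Proj.toSpecZero 𝒮 ≫
      Spec.map (CommRingCat.ofHom (algebraMap A (𝒮 0))) = Spec.map (iotaD 𝒮 (f := f)) := by
  rw [← Category.assoc, Groth.Agent.ProjUPE.fromSpec_toSpecZero 𝒮 hf, ← Spec.map_comp]
  rfl

theorem dehom_algebraMap_eq (a : A) :
    dehom 𝒮 hf (algebraMap A S a) = (iotaD 𝒮 (f := f)).hom a :=
  dehom_algebraMap 𝒮 hf a

end ProjChart

end CSepPt

namespace CSepPt

section PSpace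

attribute [local instance] Curv2.stalkAlgebra

variable (k : Type u) [Field k] (r : ℕ) {X : Scheme.{u}} [X.Over (Spec (CommRingCat.of k))]
  (φ : X ⟶ CohB1.ProjSpace r k)
  (hφ : φ ≫ CohB1.ProjSpace.toSpec r k = X ↘ Spec (CommRingCat.of k))
  (i₀ : Fin (r + 1)) (x : X)

/-- the coordinate `T_i` is homogeneous of degree one -/
theorem hX (i : Fin (r + 1)) :
    (MvPolynomial.X i : MvPolynomial (Fin (r + 1)) k) ∈ CohB1.polyGrading r k 1 :=
  MvPolynomial.isHomogeneous_X k i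

/-- the standard chart `D_+(T_i)` -/
noncomputable def chart : (CohB1.ProjSpace r k).Opens :=
  Proj.basicOpen (CohB1.polyGrading r k) (MvPolynomial.X i₀)

theorem isAffineOpen_chart : IsAffineOpen (chart k r i₀) :=
  Proj.isAffineOpen_basicOpen (CohB1.polyGrading r k) _ (hX k r i₀) one_pos

variable {k r i₀ x}

include hφ in
theorem iotaD_comp_theta (hx : φ x ∈ chart k r i₀) :
    iotaD (CohB1.polyGrading r k) (f := MvPolynomial.X i₀) ≫ theta φ x hx =
      CommRingCat.ofHom (Curv2.stalkMap k X x) := by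
  apply Spec.map_injective
  rw [Spec.map_comp, ← Groth.Agent.Lib.OverFieldH7.fromSpecStalk_over, ← hφ, ← Category.assoc,
    fromSpecStalk_comp_eq φ x hx (isAffineOpen_chart k r i₀), Category.assoc]
  congr 1
  exact (fromSpec_toSpec (CohB1.polyGrading r k) (hX k r i₀)).symm

/-- the ratios `T_j / T_{i₀}` at the point `x` -/
noncomputable def ratio (hx : φ x ∈ chart k r i₀) (j : Fin (r + 1)) : X.presheaf.stalk x :=
  (theta φ x hx).hom (rat (CohB1.polyGrading r k) (hX k r i₀) (hX k r j))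

include hφ in
/-- in the chart, `φ` is evaluation at the ratios -/
theorem theta_dehom (hx : φ x ∈ chart k r i₀) (s : MvPolynomial (Fin (r + 1)) k) :
    (theta φ x hx).hom (dehom (CohB1.polyGrading r k) (hX k r i₀) s) =
      MvPolynomial.aeval (ratio φ hx) s := by
  obtain ⟨Θ, hΘ⟩ : ∃ Θ : Γ(Proj (CohB1.polyGrading r k),
      Proj.basicOpen (CohB1.polyGrading r k) (MvPolynomial.X i₀)) →+* X.presheaf.stalk x,
      Θ = (theta φ x hx).hom := ⟨_, rfl⟩
  have hratio : ∀ j, ratio φ hx j =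
      Θ (rat (CohB1.polyGrading r k) (hX k r i₀) (hX k r j)) := fun j => by rw [hΘ]; rfl
  suffices H : Θ (dehom (CohB1.polyGrading r k) (hX k r i₀) s) =
      MvPolynomial.aeval (ratio φ hx) s by
    rw [← H, hΘ]
    rfl
  induction s using MvPolynomial.induction_on with
  | C a =>
    rw [MvPolynomial.aeval_C]
    have h1 : (MvPolynomial.C a : MvPolynomial (Fin (r + 1)) k) =
        algebraMap k (MvPolynomial (Fin (r + 1)) k) a := rfl
    rw [h1, dehom_algebraMap_eq]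
    have h2 := congrArg (fun m => m.hom a) (iotaD_comp_theta φ hφ hx)
    rw [hΘ]
    exact h2
  | add p q hp hq => rw [map_add, map_add, map_add, hp, hq]
  | mul_X p j hp =>
    rw [map_mul, map_mul, map_mul, hp, MvPolynomial.aeval_X,
      dehom_eq_rat (CohB1.polyGrading r k) (hX k r i₀) (hX k r j), hratio]

end PSpace

end CSepPt

namespace CSepPt

section PSpace2

variable (k : Type u) [Field k] (r : ℕ) {X : Scheme.{u}}
  (φ : X ⟶ CohB1.ProjSpace r k)

/-- the standard charts cover projective space -/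
theorem cover_chart (y : CohB1.ProjSpace r k) : ∃ i, y ∈ chart k r i :=
  Groth.Agent.ProjTw.cover_of_adjoin (CohB1.polyGrading r k)
    (MvPolynomial.X : Fin (r + 1) → MvPolynomial (Fin (r + 1)) k)
    (fun _ => 1) (fun _ => one_pos) (hX k r) MvPolynomial.adjoin_range_X y

theorem hcov (y : Proj (CohB1.polyGrading r k)) :
    ∃ f ∈ CohB1.polyGrading r k 1, y ∈ Proj.basicOpen (CohB1.polyGrading r k) f := by
  obtain ⟨i, hi⟩ := cover_chart k r y
  exact ⟨_, hX k r i, hi⟩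

variable {k r}

/-- the germ relation for the images of the pulled back coordinates -/
theorem germ_sec_eq {i₀ : Fin (r + 1)} {x : X} (hx : φ x ∈ chart k r i₀) (L : X.Modules)
    (α : (Scheme.Modules.pullback φ).obj (Twist.twistProjSpace r k 1) ⟶ L) (j : Fin (r + 1)) :
    L.presheaf.germ ⊤ x trivial (ap α ⊤ (ProjUP.pullSec φ (Twist.twistProjSpace r k 1)
      (ProjUP.coord r k j))) =
      ratio φ hx j • L.presheaf.germ ⊤ x trivial (ap α ⊤
        (ProjUP.pullSec φ (Twist.twistProjSpace r k 1) (ProjUP.coord r k i₀))) :=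
  germ_pull_eq_smul (CohB1.polyGrading r k) φ (hX k r i₀) x hx (hX k r j) L α

end PSpace2

end CSepPt

namespace CSepPt

section RatSelf

variable {A S : Type u} [CommRing A] [CommRing S] [Algebra A S] (𝒮 : ℕ → Submodule A S)
  [GradedAlgebra 𝒮]

theorem rat_self {f : S} (hf : f ∈ 𝒮 1) : rat 𝒮 hf hf = 1 := by
  have h1 := rF_sig 𝒮 hf hf
  have h2 := rF_sig_self 𝒮 hf
  have hgen : IsGen (Twist.twist 𝒮 1) (Proj.basicOpen 𝒮 f) (gen1 𝒮 hf) :=
    Groth.Agent.ProjTw.isGen_genSecK 𝒮 one_pos hf 1 1 (by simp)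
  exact IsGen.coef_ext hgen (by rw [← h1, h2, one_smul])

end RatSelf

section RatioSelf

variable {k : Type u} [Field k] {r : ℕ} {X : Scheme.{u}} (φ : X ⟶ CohB1.ProjSpace r k)

theorem ratio_self {i₀ : Fin (r + 1)} {x : X} (hx : φ x ∈ chart k r i₀) :
    ratio φ hx i₀ = 1 := by
  unfold ratio
  rw [rat_self]
  exact map_one _

end RatioSelf

end CSepPt
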