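import Mathlib
import Groth.Prelude
import Groth.Agent.Lib.P1Curve2_lead
import Groth.Agent.Lib.CurveComp4_helper9
import Groth.Agent.Lib.OverField_helper7
import Groth.Agent.Lib.Curve1_helper8
import Groth.Agent.Lib.BirCurve1_helper9

/-!
# A normal curve dominated by the projective line is the projective line (helper9).
Part 1: topology, properness, normality of `P¹`.
APPEND-ONLY once landed.
-/

set_option autoImplicit false
universe u
open CategoryTheory CategoryTheory.Limits AlgebraicGeometry Opposite TopologicalSpace

namespace P1Lur9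

open Groth.Agent.Lib.P1CurveL CohB1

section Normal

theorem isNormal_PP (k : Type u) [Field k] : Pi1.IsNormalScheme (ProjSpace 1 k) := by
  intro x
  obtain ⟨i, hi⟩ := exists_mem_range k x
  have hxU : x ∈ Uc k i := (mem_Uc_iff k i x).mpr hi
  have hU := isAffineOpen_Uc k i
  haveI hpid := isPrincipalIdealRing_sections k i
  letI := TopCat.Presheaf.algebra_section_stalk (ProjSpace 1 k).presheaf ⟨x, hxU⟩
  haveI := hU.isLocalization_stalk ⟨x, hxU⟩
  haveI : IsDomain Γ(ProjSpace 1 k, Uc k i) := inferInstance
  refine ⟨inferInstance, ?_⟩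
  exact isIntegrallyClosed_of_isLocalization _ (hU.primeIdealOf ⟨x, hxU⟩).asIdeal.primeCompl
    (Ideal.primeCompl_le_nonZeroDivisors _)

theorem isIntegral_of_connected_normal (X : Scheme.{u}) [IsLocallyNoetherian X] [ConnectedSpace X]
    (hN : Pi1.IsNormalScheme X) : IsIntegral X := by
  have hdom : ∀ x : X, IsDomain (X.presheaf.stalk x) := fun x => (hN x).1
  haveI : IsReduced X := by
    haveI : ∀ x : X, _root_.IsReduced (X.presheaf.stalk x) := fun x => by
      haveI := hdom x
      infer_instance
    exact isReduced_of_isReduced_stalk X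
  obtain ⟨x⟩ := (inferInstance : Nonempty X)
  obtain ⟨D, hD, hxD⟩ := exists_mem_irreducibleComponents_subset_of_isIrreducible
    ({x} : Set X) isIrreducible_singleton
  have hclopen : IsClopen D :=
    ⟨isClosed_of_mem_irreducibleComponents D hD,
      CurveComp9.isOpen_of_mem_irreducibleComponents hdom hD⟩
  have hDuniv : D = Set.univ := by
    rcases isClopen_iff.mp hclopen with h | h
    · exact absurd (hxD (Set.mem_singleton x)) (by rw [h]; exact Set.notMem_empty x)
    · exact h
  haveI : IrreducibleSpace X := (irreducibleSpace_def X).mpr (by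
    rw [Set.top_eq_univ, ← hDuniv]
    exact hD.1)
  exact isIntegral_of_irreducibleSpace_of_isReduced X

end Normal

section Facts

variable (k : Type u) [Field k] {X : Scheme.{u}} (p : X ⟶ Spec (CommRingCat.of k))
  [IsSeparated p] [LocallyOfFiniteType p] [QuasiCompact p] [IsIntegral X]

omit [QuasiCompact p] in
theorem facts (hdim : topologicalKrullDim X = 1)
    (f : ProjSpace 1 k ⟶ X) (hf : f ≫ p = ProjSpace.toSpec 1 k)
    (hnc : ∃ a b : ↥(ProjSpace 1 k), f.base a ≠ f.base b) :
    f.base (genericPoint (ProjSpace 1 k)) = genericPoint X ∧ IsProper p ∧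
      (∀ x : X, IsClosed ({x} : Set X) → ringKrullDim (X.presheaf.stalk x) = 1) := by
  haveI : IsProper (ProjSpace.toSpec 1 k) := isProper_PP k
  haveI : IsProper (f ≫ p) := by rw [hf]; infer_instance
  haveI : IsProper f := IsProper.of_comp f p
  obtain ⟨a, b, hab⟩ := hnc
  have hrange : Set.range f = closure {f (genericPoint (ProjSpace 1 k))} := by
    rw [← Set.image_univ, ← (genericPoint_spec (ProjSpace 1 k)).def,
      ← f.isClosedMap.closure_image_eq_of_continuous f.continuous, Set.image_singleton]
  have hmax_eq : ∀ x : X, IsMax x → x = genericPoint X := by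
    intro x hx
    have h1 : x ≤ genericPoint X := (genericPoint_specializes x : genericPoint X ⤳ x)
    exact CurveH8.eq_of_le_of_le h1 (hx h1)
  have hgen : f (genericPoint (ProjSpace 1 k)) = genericPoint X := by
    rcases CurveH8.isMin_or_isMax hdim.le (f (genericPoint (ProjSpace 1 k))) with hmin | hmax
    · exfalso
      rw [CurveH8.closure_singleton_of_isMin hmin] at hrange
      have ha : f a ∈ Set.range f := ⟨a, rfl⟩
      have hb : f b ∈ Set.range f := ⟨b, rfl⟩
      rw [hrange, Set.mem_singleton_iff] at ha hb
      exact hab (ha.trans hb.symm)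
    · exact hmax_eq _ hmax
  have hsurj : Function.Surjective f := by
    rw [← Set.range_eq_univ, hrange, hgen, (genericPoint_spec X).def]
  haveI : Surjective f := ⟨hsurj⟩
  haveI : UniversallyClosed p := UniversallyClosed.of_comp_surjective f p
  refine ⟨hgen, (isProper_iff _).mpr ⟨inferInstance, inferInstance, inferInstance⟩, ?_⟩
  intro x hx
  have hne : ¬ IsMax x := by
    intro hmax
    have hxg := hmax_eq x hmax
    have huniv : (Set.univ : Set X) = {x} := by
      rw [← (genericPoint_spec X).def, ← hxg, hx.closure_eq]
    have ha : f a ∈ (Set.univ : Set X) := trivial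
    have hb : f b ∈ (Set.univ : Set X) := trivial
    rw [huniv, Set.mem_singleton_iff] at ha hb
    exact hab (ha.trans hb.symm)
  refine le_antisymm (BirCurve.ringKrullDim_stalk_le hdim.le x) ?_
  rw [AlgebraicGeometry.ringKrullDim_stalk_eq_coheight]
  have h0 : Order.coheight x ≠ 0 := fun h0 => hne (Order.coheight_eq_zero.mp h0)
  have h1 : (1 : ℕ∞) ≤ Order.coheight x := Order.one_le_iff_ne_zero.mpr h0
  exact_mod_cast h1

end Facts

end P1Lur9
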