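import Mathlib
import Groth.Prelude
import Groth.Agent.Lib.P1Lur1_helper9
import Groth.Agent.Lib.CurveComp1_helper9
import Groth.Agent.S4445

/-!
# A normal curve dominated by the projective line is the projective line (helper9).
Part 2: function fields, Lüroth, conclusion.
APPEND-ONLY once landed.
-/

set_option autoImplicit false
universe u
open CategoryTheory CategoryTheory.Limits AlgebraicGeometry Opposite TopologicalSpace

namespace P1Lur9

open Groth.Agent.Lib.P1CurveL CohB1

attribute [local instance] Curv2.stalkAlgebra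

section FF

variable (k : Type u) [Field k]

/-- the function field of `P¹_k` is `k(T)` -/
theorem exists_functionField_equiv_ratFunc :
    Nonempty ((ProjSpace 1 k).functionField ≃ₐ[k] RatFunc k) := by
  have ht : Transcendental k (RatFunc.X : RatFunc k) := RatFunc.transcendental_X
  let θ₀ : (ProjSpace 1 k).functionField →ₐ[k] RatFunc k :=
    { φK k (RatFunc k) RatFunc.X ht with
      commutes' := fun c => φK_stalkMap k (RatFunc k) RatFunc.X ht c }
  have hθ₀ : ∀ z, θ₀ z = φK k (RatFunc k) RatFunc.X ht z := fun z => rfl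
  have hX : (RatFunc.X : RatFunc k) ∈ θ₀.fieldRange := by
    refine ⟨((ProjSpace 1 k).presheaf.germ (Uc k 0) (genericPoint (ProjSpace 1 k))
      (generic_mem_Uc k 0)).hom ((Θc k 0).symm Polynomial.X), ?_⟩
    show θ₀ _ = _
    rw [hθ₀, φK_germ, ρK_apply, RingEquiv.apply_symm_apply, Polynomial.aeval_X]
  have htop : θ₀.fieldRange = ⊤ := by
    rw [eq_top_iff, ← RatFunc.adjoin_X]
    exact IntermediateField.adjoin_le_iff.mpr (Set.singleton_subset_iff.mpr hX)
  have hsurj : Function.Surjective θ₀ := AlgHom.fieldRange_eq_top.mp htop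
  exact ⟨AlgEquiv.ofBijective θ₀ ⟨θ₀.toRingHom.injective, hsurj⟩⟩

end FF

section Main

variable (k : Type u) [Field k] (X : Scheme.{u}) [X.Over (Spec (CommRingCat.of k))]
  [IsSeparated (X ↘ Spec (CommRingCat.of k))] [LocallyOfFiniteType (X ↘ Spec (CommRingCat.of k))]
  [QuasiCompact (X ↘ Spec (CommRingCat.of k))] [IsIntegral X]

/-- the `k`-algebra map of function fields induced by a dominant morphism from `P¹` -/
theorem exists_algHom (f : ProjSpace 1 k ⟶ X)
    (hf : f ≫ (X ↘ Spec (CommRingCat.of k)) = ProjSpace.toSpec 1 k)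
    (hgen : f.base (genericPoint (ProjSpace 1 k)) = genericPoint X) :
    Nonempty (X.functionField →ₐ[k] (ProjSpace 1 k).functionField) := by
  let φ' : X.presheaf.stalk (genericPoint X) ⟶
      (ProjSpace 1 k).presheaf.stalk (genericPoint (ProjSpace 1 k)) :=
    X.presheaf.stalkSpecializes (specializes_of_eq hgen) ≫
      f.stalkMap (genericPoint (ProjSpace 1 k))
  have h1 := (Groth.Agent.Lib.OverFieldH7.generic_stalk_iff f φ').mp ⟨hgen, rfl⟩
  have h2 : (ProjSpace 1 k).fromSpecStalk (genericPoint (ProjSpace 1 k)) ≫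
      ((ProjSpace 1 k) ↘ Spec (CommRingCat.of k)) =
      Spec.map φ' ≫ X.fromSpecStalk (genericPoint X) ≫ (X ↘ Spec (CommRingCat.of k)) := by
    rw [← Category.assoc, ← h1, Category.assoc, hf]
    rfl
  rw [Groth.Agent.Lib.OverFieldH7.fromSpecStalk_over,
    Groth.Agent.Lib.OverFieldH7.fromSpecStalk_over, ← Spec.map_comp] at h2
  have h3 := Spec.map_injective h2
  refine ⟨{ φ'.hom with commutes' := fun c => ?_ }⟩
  have h4 := congrArg (fun g => g.hom c) h3
  exact h4.symm

/-- **the function fields agree** -/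
theorem exists_functionField_equiv
    (hX : ∀ x : X, IsClosed ({x} : Set X) → ringKrullDim (X.presheaf.stalk x) = 1)
    (φ₀ : X.functionField →ₐ[k] (ProjSpace 1 k).functionField) :
    Nonempty ((ProjSpace 1 k).functionField ≃ₐ[k] X.functionField) := by
  obtain ⟨θ⟩ := exists_functionField_equiv_ratFunc k
  let φ₁ : X.functionField →ₐ[k] RatFunc k := θ.toAlgHom.comp φ₀
  have htr := CurveComp9.trdeg_functionField k X hX
  obtain ⟨t, ht⟩ := exists_transcendental k X.functionField htr
  have hE : φ₁.fieldRange ≠ ⊥ := by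
    intro hbot
    have hmem : φ₁ t ∈ φ₁.fieldRange := ⟨t, rfl⟩
    rw [hbot, IntermediateField.mem_bot] at hmem
    obtain ⟨c, hc⟩ := hmem
    have h1 : φ₁ (algebraMap k X.functionField c) = φ₁ t := by rw [φ₁.commutes]; exact hc
    have h2 := φ₁.toRingHom.injective h1
    exact ht (h2 ▸ isAlgebraic_algebraMap c)
  let L := RatFunc.Luroth.algEquiv hE
  let e₁ : X.functionField ≃ₐ[k] φ₁.fieldRange := AlgEquiv.ofInjectiveField φ₁
  exact ⟨θ.trans (L.trans e₁.symm)⟩

end Main

end P1Lur9
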