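import Mathlib
import Groth.Prelude
import Groth.Agent.Lib.P1Lur2_helper9

/-!
# A normal curve dominated by the projective line is the projective line (helper9).
Part 3: conclusion.
APPEND-ONLY once landed.
-/

set_option autoImplicit false
universe u
open CategoryTheory CategoryTheory.Limits AlgebraicGeometry Opposite TopologicalSpace

namespace P1Lur9

open Groth.Agent.Lib.P1CurveL CohB1

attribute [local instance] Curv2.stalkAlgebra

section Final

/-- a morphism of integral `k`-schemes inducing a given map on function fields, as a square -/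
theorem square_of_result {X Y : Scheme.{u}} [IsIntegral X] [IsIntegral Y] (u : X ⟶ Y)
    (φ : Y.functionField →+* X.functionField)
    (h : ∃ hu : u.base (genericPoint X) = genericPoint Y,
      (Y.presheaf.stalkSpecializes (specializes_of_eq hu) ≫ u.stalkMap (genericPoint X)).hom = φ) :
    X.fromSpecStalk (genericPoint X) ≫ u =
      Spec.map (CommRingCat.ofHom φ) ≫ Y.fromSpecStalk (genericPoint Y) := by
  obtain ⟨hu, hst⟩ := h
  exact (Groth.Agent.Lib.OverFieldH7.generic_stalk_iff u (CommRingCat.ofHom φ)).mp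
    ⟨hu, CommRingCat.hom_ext hst⟩

theorem main7826 (k : Type u) [Field k] {X : Scheme.{u}}
    (p : X ⟶ Spec (CommRingCat.of k)) [IsSeparated p] [LocallyOfFiniteType p] [QuasiCompact p]
    [ConnectedSpace X] (hN : Pi1.IsNormalScheme X) (hdim : topologicalKrullDim X = 1)
    (f : CohB1.ProjSpace 1 k ⟶ X) (hf : f ≫ p = CohB1.ProjSpace.toSpec 1 k)
    (hnc : ∃ a b : ↥(CohB1.ProjSpace 1 k), f.base a ≠ f.base b) :
    ∃ e : X ≅ CohB1.ProjSpace 1 k, e.hom ≫ CohB1.ProjSpace.toSpec 1 k = p := by
  haveI : IsLocallyNoetherian X := LocallyOfFiniteType.isLocallyNoetherian p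
  haveI : IsIntegral X := isIntegral_of_connected_normal X hN
  obtain ⟨hgen, hprop, hX⟩ := facts k p hdim f hf hnc
  letI : X.Over (Spec (CommRingCat.of k)) := ⟨p⟩
  have hover : X ↘ Spec (CommRingCat.of k) = p := rfl
  haveI : IsSeparated (X ↘ Spec (CommRingCat.of k)) := by rw [hover]; infer_instance
  haveI : LocallyOfFiniteType (X ↘ Spec (CommRingCat.of k)) := by rw [hover]; infer_instance
  haveI : QuasiCompact (X ↘ Spec (CommRingCat.of k)) := by rw [hover]; infer_instance
  haveI : IsProper (X ↘ Spec (CommRingCat.of k)) := by rw [hover]; exact hprop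
  haveI : IsProper (ProjSpace 1 k ↘ Spec (CommRingCat.of k)) := isProper_PP k
  have hoverP : ProjSpace 1 k ↘ Spec (CommRingCat.of k) = ProjSpace.toSpec 1 k := rfl
  obtain ⟨φ₀⟩ := exists_algHom k X f hf hgen
  obtain ⟨ψ⟩ := exists_functionField_equiv k X hX φ₀
  have hP := stalk_dim k
  have hNP := isNormal_PP k
  obtain ⟨u, ⟨hu1, hu2⟩, -⟩ := Groth.Agent.S4445.result k X (ProjSpace 1 k) hX hN hP ψ.toAlgHom
  obtain ⟨v, ⟨hv1, hv2⟩, -⟩ :=
    Groth.Agent.S4445.result k (ProjSpace 1 k) X hP hNP hX ψ.symm.toAlgHom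
  have hsu := square_of_result u _ hu2
  have hsv := square_of_result v _ hv2
  haveI : IsDominant (X.fromSpecStalk (genericPoint X)) :=
    Groth.Agent.Lib.OverFieldH7.isDominant_fromSpecStalk_genericPoint X
  haveI : IsDominant ((ProjSpace 1 k).fromSpecStalk (genericPoint (ProjSpace 1 k))) :=
    Groth.Agent.Lib.OverFieldH7.isDominant_fromSpecStalk_genericPoint (ProjSpace 1 k)
  have huv : u ≫ v = 𝟙 X := by
    apply ext_of_isDominant_of_isSeparated (X ↘ Spec (CommRingCat.of k)) ?_
      (X.fromSpecStalk (genericPoint X)) ?_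
    · rw [Category.assoc, hv1, hu1, Category.id_comp]
    · rw [← Category.assoc, hsu, Category.assoc, hsv, ← Category.assoc, ← Spec.map_comp,
        Category.comp_id]
      have h1 : CommRingCat.ofHom ((ψ.symm.toAlgHom : X.functionField →+* _)) ≫
          CommRingCat.ofHom ((ψ.toAlgHom : (ProjSpace 1 k).functionField →+* _)) = 𝟙 _ := by
        ext z
        exact ψ.apply_symm_apply z
      rw [h1, Spec.map_id]
      exact Category.id_comp _
  have hvu : v ≫ u = 𝟙 (ProjSpace 1 k) := by
    apply ext_of_isDominant_of_isSeparated (ProjSpace 1 k ↘ Spec (CommRingCat.of k)) ?_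
      ((ProjSpace 1 k).fromSpecStalk (genericPoint (ProjSpace 1 k))) ?_
    · rw [Category.assoc, hu1, hv1, Category.id_comp]
    · rw [← Category.assoc, hsv, Category.assoc, hsu, ← Category.assoc, ← Spec.map_comp,
        Category.comp_id]
      have h1 : CommRingCat.ofHom ((ψ.toAlgHom : (ProjSpace 1 k).functionField →+* _)) ≫
          CommRingCat.ofHom ((ψ.symm.toAlgHom : X.functionField →+* _)) = 𝟙 _ := by
        ext z
        exact ψ.symm_apply_apply z
      rw [h1, Spec.map_id]
      exact Category.id_comp _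
  exact ⟨⟨u, v, huv, hvu⟩, hu1⟩

end Final

end P1Lur9
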