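import Mathlib
import Groth.Prelude
import Groth.Agent.Lib.CurveSepPt2_helper9
import Groth.Agent.Lib.P1Lur3_helper9
import Groth.Agent.S2344

/-!
# Factoring a morphism to projective space through a morphism of curves (helper9)
APPEND-ONLY once landed.
-/

set_option autoImplicit false
universe u
open CategoryTheory CategoryTheory.Limits AlgebraicGeometry Opposite TopologicalSpace
open HomogeneousLocalization QcqsLoc GenLocH8 TensH8 PBH8 QCohExtn Groth.Agent.ProjUPU

namespace CSepPt

attribute [local instance] Curv2.stalkAlgebra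

section Factor

variable (k : Type u) [Field k] (r : ℕ) {X X' : Scheme.{u}} [X.Over (Spec (CommRingCat.of k))]
  [X'.Over (Spec (CommRingCat.of k))] [IsIntegral X] [IsIntegral X']
  (φ : X ⟶ CohB1.ProjSpace r k)
  (hφ : φ ≫ CohB1.ProjSpace.toSpec r k = X ↘ Spec (CommRingCat.of k))

include hφ in
/-- if the ratios of the coordinates at the generic point lie in the image of `K(X')`, the
generic point of `X ⟶ P^r` factors through `Spec K(X')` -/
theorem exists_factor {i₀ : Fin (r + 1)} (hx : φ (genericPoint X) ∈ chart k r i₀)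
    (W : X'.functionField →ₐ[k] X.functionField)
    (hW : ∀ j, ratio φ hx j ∈ W.range) :
    ∃ b : Spec (X'.presheaf.stalk (genericPoint X')) ⟶ CohB1.ProjSpace r k,
      Spec.map (CommRingCat.ofHom (W : X'.functionField →+* X.functionField)) ≫ b =
        X.fromSpecStalk (genericPoint X) ≫ φ ∧
      b ≫ CohB1.ProjSpace.toSpec r k =
        X'.fromSpecStalk (genericPoint X') ≫ (X' ↘ Spec (CommRingCat.of k)) := by
  choose c' hc' using hW
  have hD := isAffineOpen_chart k r i₀
  obtain ⟨Θ, hΘ⟩ : ∃ Θ : Γ(Proj (CohB1.polyGrading r k),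
      Proj.basicOpen (CohB1.polyGrading r k) (MvPolynomial.X i₀)) →+* X.functionField,
      Θ = (theta φ (genericPoint X) hx).hom := ⟨_, rfl⟩
  let ψ' : MvPolynomial (Fin (r + 1)) k →ₐ[k] X'.functionField := MvPolynomial.aeval c'
  have key : ∀ s, Θ (dehom (CohB1.polyGrading r k) (hX k r i₀) s) = W (ψ' s) := by
    intro s
    have h1 : Θ (dehom (CohB1.polyGrading r k) (hX k r i₀) s) =
        MvPolynomial.aeval (ratio φ hx) s := by
      rw [hΘ]
      exact theta_dehom φ hφ hx s
    rw [h1, MvPolynomial.comp_aeval_apply]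
    have h2 : ratio φ hx = fun i => W (c' i) := funext fun j => (hc' j).symm
    rw [h2]
  have hker : RingHom.ker (dehom (CohB1.polyGrading r k) (hX k r i₀)) ≤
      RingHom.ker (ψ' : MvPolynomial (Fin (r + 1)) k →+* X'.functionField) := by
    intro s hs
    rw [RingHom.mem_ker] at hs ⊢
    have h2 := key s
    rw [hs, map_zero] at h2
    exact (W : X'.functionField →+* X.functionField).injective (by rw [map_zero]; exact h2.symm)
  let θ' : Γ(Proj (CohB1.polyGrading r k),
      Proj.basicOpen (CohB1.polyGrading r k) (MvPolynomial.X i₀)) →+* X'.functionField :=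
    (dehom (CohB1.polyGrading r k) (hX k r i₀)).liftOfSurjective
      (dehom_surjective (CohB1.polyGrading r k) (hX k r i₀)) ⟨ψ', hker⟩
  have hθ' : ∀ s, θ' (dehom (CohB1.polyGrading r k) (hX k r i₀) s) = ψ' s := fun s =>
    RingHom.liftOfSurjective_comp_apply _ _ _ s
  have hcomp : ∀ z, W (θ' z) = Θ z := by
    intro z
    obtain ⟨s, rfl⟩ := dehom_surjective (CohB1.polyGrading r k) (hX k r i₀) z
    rw [hθ', key]
  let θ'' : Γ(CohB1.ProjSpace r k, chart k r i₀) ⟶ X'.presheaf.stalk (genericPoint X') :=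
    CommRingCat.ofHom θ'
  have hθ'' : ∀ z, θ''.hom z = θ' z := fun _ => rfl
  refine ⟨Spec.map θ'' ≫ hD.fromSpec, ?_, ?_⟩
  · rw [← Category.assoc, ← Spec.map_comp, fromSpecStalk_comp_eq φ _ hx hD]
    congr 2
    ext z
    have h5 := hcomp z
    rw [hΘ] at h5
    exact h5
  · rw [Category.assoc, Groth.Agent.Lib.OverFieldH7.fromSpecStalk_over]
    have h3 := fromSpec_toSpec (CohB1.polyGrading r k) (hX k r i₀)
    have h4 : hD.fromSpec ≫ CohB1.ProjSpace.toSpec r k =
        Spec.map (iotaD (CohB1.polyGrading r k) (f := MvPolynomial.X i₀)) := h3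
    rw [h4]
    refine (Spec.map_comp (iotaD (CohB1.polyGrading r k) (f := MvPolynomial.X i₀)) θ'').symm.trans ?_
    congr 1
    ext a
    show θ' ((iotaD (CohB1.polyGrading r k) (f := MvPolynomial.X i₀)).hom a) = _
    rw [← dehom_algebraMap_eq (CohB1.polyGrading r k) (hX k r i₀), hθ']
    exact ψ'.commutes a

end Factor

end CSepPt

namespace CSepPt

attribute [local instance] Curv2.stalkAlgebra

section Ext

variable (k : Type u) [Field k] (X' P : Scheme.{u}) [X'.Over (Spec (CommRingCat.of k))]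
  [P.Over (Spec (CommRingCat.of k))]
  [LocallyOfFiniteType (X' ↘ Spec (CommRingCat.of k))]
  [QuasiCompact (X' ↘ Spec (CommRingCat.of k))] [IsSeparated (X' ↘ Spec (CommRingCat.of k))]
  [IsIntegral X'] [IsProper (P ↘ Spec (CommRingCat.of k))]

/-- a `k`-morphism from the generic point of a normal curve to a proper `k`-scheme extends -/
theorem exists_extension
    (hX' : ∀ x : X', IsClosed ({x} : Set X') → ringKrullDim (X'.presheaf.stalk x) = 1)
    (hnorm : Pi1.IsNormalScheme X')
    (b : Spec (X'.presheaf.stalk (genericPoint X')) ⟶ P)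
    (hb : b ≫ (P ↘ Spec (CommRingCat.of k)) =
      X'.fromSpecStalk (genericPoint X') ≫ (X' ↘ Spec (CommRingCat.of k))) :
    ∃ u : X' ⟶ P, u ≫ (P ↘ Spec (CommRingCat.of k)) = X' ↘ Spec (CommRingCat.of k) ∧
      X'.fromSpecStalk (genericPoint X') ≫ u = b := by
  haveI : Nonempty X' := inferInstance
  obtain ⟨U, hξU, f, hf1, hf2⟩ := spread_out_of_isGermInjective'
    (X' ↘ (Spec (CommRingCat.of k))) (P ↘ (Spec (CommRingCat.of k))) (x := genericPoint X') b hb
  have hUd : Dense (U : Set X') := U.2.dense ⟨genericPoint X', hξU⟩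
  obtain ⟨u, ⟨hu1, hu2⟩, -⟩ := Groth.Agent.S2344.result k X' P hX' hnorm U hUd f hf2
  refine ⟨u, hu2, ?_⟩
  rw [hf1, ← hu1, ← Category.assoc, Scheme.Opens.fromSpecStalkOfMem_ι]

end Ext

section Factor2

variable (k : Type u) [Field k] (r : ℕ) {X X' : Scheme.{u}} [X.Over (Spec (CommRingCat.of k))]
  [X'.Over (Spec (CommRingCat.of k))] [IsIntegral X] [IsIntegral X']
  [LocallyOfFiniteType (X' ↘ Spec (CommRingCat.of k))]
  [QuasiCompact (X' ↘ Spec (CommRingCat.of k))] [IsSeparated (X' ↘ Spec (CommRingCat.of k))]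
  (φ : X ⟶ CohB1.ProjSpace r k)
  (hφ : φ ≫ CohB1.ProjSpace.toSpec r k = X ↘ Spec (CommRingCat.of k))

include hφ in
/-- **factorization**: if the ratios of the coordinates of `φ : X ⟶ P^r` at the generic point
lie in the image of the function field of the normal curve `X'` under `F : X ⟶ X'`, then `φ`
factors through `F` -/
theorem exists_factor_morphism
    (hX' : ∀ x : X', IsClosed ({x} : Set X') → ringKrullDim (X'.presheaf.stalk x) = 1)
    (hnorm : Pi1.IsNormalScheme X')
    {i₀ : Fin (r + 1)} (hx : φ (genericPoint X) ∈ chart k r i₀)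
    (W : X'.functionField →ₐ[k] X.functionField)
    (hW : ∀ j, ratio φ hx j ∈ W.range)
    (F : X ⟶ X')
    (hF : X.fromSpecStalk (genericPoint X) ≫ F =
      Spec.map (CommRingCat.ofHom (W : X'.functionField →+* X.functionField)) ≫
        X'.fromSpecStalk (genericPoint X')) :
    ∃ ψ : X' ⟶ CohB1.ProjSpace r k,
      ψ ≫ CohB1.ProjSpace.toSpec r k = X' ↘ Spec (CommRingCat.of k) ∧ F ≫ ψ = φ := by
  haveI : IsProper ((CohB1.ProjSpace r k) ↘ Spec (CommRingCat.of k)) :=
    Groth.Agent.Lib.ProjSpaceProperH4.isProper_toSpec r k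
  obtain ⟨b, hb1, hb2⟩ := exists_factor k r φ hφ hx W hW
  obtain ⟨ψ, hψ1, hψ2⟩ := exists_extension k X' (CohB1.ProjSpace r k) hX' hnorm b hb2
  refine ⟨ψ, hψ1, ?_⟩
  haveI : IsDominant (X.fromSpecStalk (genericPoint X)) :=
    Groth.Agent.Lib.OverFieldH7.isDominant_fromSpecStalk_genericPoint X
  have hFk : F ≫ (X' ↘ Spec (CommRingCat.of k)) = X ↘ Spec (CommRingCat.of k) := by
    apply ext_of_isDominant_of_isSeparated (terminal.from (Spec (CommRingCat.of k)))
      (terminal.hom_ext _ _) (X.fromSpecStalk (genericPoint X))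
    rw [← Category.assoc, hF, Category.assoc,
      Groth.Agent.Lib.OverFieldH7.fromSpecStalk_over,
      Groth.Agent.Lib.OverFieldH7.fromSpecStalk_over, ← Spec.map_comp]
    congr 1
    ext c
    exact W.commutes c
  apply ext_of_isDominant_of_isSeparated ((CohB1.ProjSpace r k) ↘ Spec (CommRingCat.of k)) ?_
    (X.fromSpecStalk (genericPoint X)) ?_
  · rw [Category.assoc]
    exact (congrArg (F ≫ ·) hψ1).trans (hFk.trans hφ.symm)
  · rw [← Category.assoc, hF, Category.assoc, hψ2, hb1]

end Factor2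

end CSepPt
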