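import Mathlib
import Groth.Prelude
import Groth.Agent.Lib.FrobTw1_helper9
import Groth.Agent.Lib.P1Lur3_helper9
import Groth.Agent.Lib.CurvePtInv1_helper9
import Groth.Agent.Lib.NormalLift_helper4

/-!
# Twisting the `k`-structure of a `k`-scheme by an automorphism of `k` (helper9)
and: two normal proper curves with `k`-isomorphic function fields are `k`-isomorphic.
APPEND-ONLY once landed.
-/

set_option autoImplicit false
universe u
open CategoryTheory CategoryTheory.Limits AlgebraicGeometry Opposite TopologicalSpace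

namespace FrobTw9

attribute [local instance] Curv2.stalkAlgebra

section Dom

variable (k : Type u) [Field k] {X Y : Scheme.{u}} [X.Over (Spec (CommRingCat.of k))]
  [Y.Over (Spec (CommRingCat.of k))] [IsIntegral X] [IsIntegral Y]

/-- the map of function fields of a dominant `k`-morphism is `k`-linear -/
theorem stalkMap_comm (f : X ⟶ Y)
    (hf : f ≫ (Y ↘ Spec (CommRingCat.of k)) = X ↘ Spec (CommRingCat.of k))
    (e : f (genericPoint X) = genericPoint Y) (c : k) :
    (Y.presheaf.stalkSpecializes (specializes_of_eq e) ≫ f.stalkMap (genericPoint X)).hom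
      (algebraMap k Y.functionField c) = algebraMap k X.functionField c := by
  let φ' : Y.presheaf.stalk (genericPoint Y) ⟶ X.presheaf.stalk (genericPoint X) :=
    Y.presheaf.stalkSpecializes (specializes_of_eq e) ≫ f.stalkMap (genericPoint X)
  have h1 := (Groth.Agent.Lib.OverFieldH7.generic_stalk_iff f φ').mp ⟨e, rfl⟩
  have h2 : X.fromSpecStalk (genericPoint X) ≫ (X ↘ Spec (CommRingCat.of k)) =
      Spec.map φ' ≫ Y.fromSpecStalk (genericPoint Y) ≫ (Y ↘ Spec (CommRingCat.of k)) := by
    rw [← Category.assoc, ← h1, Category.assoc, hf]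
  rw [Groth.Agent.Lib.OverFieldH7.fromSpecStalk_over,
    Groth.Agent.Lib.OverFieldH7.fromSpecStalk_over, ← Spec.map_comp] at h2
  have h3 := Spec.map_injective h2
  have h4 := congrArg (fun g => g.hom c) h3
  exact h4.symm

end Dom

section Glob

theorem toGlobal_comp {A B : Type u} [CommRing A] [CommRing B] {X : Scheme.{u}}
    (p : X ⟶ Spec (CommRingCat.of A)) (φ : B →+* A) :
    Coh.toGlobal (p ≫ Spec.map (CommRingCat.ofHom φ)) = (Coh.toGlobal p).comp φ := by
  ext c
  have h1 := Scheme.ΓSpecIso_inv_naturality (CommRingCat.ofHom φ)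
  have h3 : (Scheme.ΓSpecIso (CommRingCat.of B)).inv ≫
      (p ≫ Spec.map (CommRingCat.ofHom φ)).appTop =
      CommRingCat.ofHom φ ≫ (Scheme.ΓSpecIso (CommRingCat.of A)).inv ≫ p.appTop := by
    rw [Scheme.Hom.comp_appTop, ← Category.assoc, ← h1, Category.assoc]
  exact congrArg (fun g => g.hom c) h3

end Glob

section Tw

variable (k : Type u) [Field k] (X : Scheme.{u}) [X.Over (Spec (CommRingCat.of k))]

/-- the same scheme, with the `k`-structure twisted by a ring endomorphism of `k` -/
def Tw (_σ : k →+* k) : Scheme.{u} := X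

noncomputable instance twOver (σ : k →+* k) : (Tw k X σ).Over (Spec (CommRingCat.of k)) :=
  ⟨(X ↘ Spec (CommRingCat.of k)) ≫ Spec.map (CommRingCat.ofHom σ)⟩

theorem tw_over (σ : k →+* k) : (Tw k X σ ↘ Spec (CommRingCat.of k)) =
    (X ↘ Spec (CommRingCat.of k)) ≫ Spec.map (CommRingCat.ofHom σ) := rfl

instance isIntegral_tw (σ : k →+* k) [IsIntegral X] : IsIntegral (Tw k X σ) :=
  inferInstanceAs (IsIntegral X)

theorem isIso_specMap (σ : k ≃+* k) :
    IsIso (Spec.map (CommRingCat.ofHom (σ : k →+* k))) := by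
  haveI : IsIso (CommRingCat.ofHom (σ : k →+* k)) :=
    ⟨⟨CommRingCat.ofHom (σ.symm : k →+* k), by ext x; simp, by ext x; simp⟩⟩
  infer_instance

theorem isProper_tw (σ : k ≃+* k) [IsProper (X ↘ Spec (CommRingCat.of k))] :
    IsProper (Tw k X (σ : k →+* k) ↘ Spec (CommRingCat.of k)) := by
  haveI := isIso_specMap k σ
  rw [tw_over]
  have h : IsProper (X ↘ Spec (CommRingCat.of k)) := inferInstance
  exact (MorphismProperty.cancel_right_of_respectsIso @IsProper _ _).mpr h

theorem stalkMap_tw (σ : k →+* k) (x : X) :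
    Curv2.stalkMap k (Tw k X σ) x = (Curv2.stalkMap k X x).comp σ := by
  show (X.presheaf.germ ⊤ x trivial).hom.comp (Coh.toGlobal
    ((X ↘ Spec (CommRingCat.of k)) ≫ Spec.map (CommRingCat.ofHom σ))) = _
  rw [toGlobal_comp]
  rfl

theorem algebraMap_tw (σ : k →+* k) (x : X) (c : k) :
    algebraMap k ((Tw k X σ).presheaf.stalk x) c = algebraMap k (X.presheaf.stalk x) (σ c) := by
  change Curv2.stalkMap k (Tw k X σ) x c = Curv2.stalkMap k X x (σ c)
  rw [stalkMap_tw]
  rfl

/-- twisting by an automorphism does not change dimensions of cohomology -/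
theorem finrank_HH_tw (σ : k ≃+* k) (M : X.Modules) (n : ℕ) :
    Module.finrank k (Coh.HH (Tw k X (σ : k →+* k)) M n) = Module.finrank k (Coh.HH X M n) := by
  have h := rank_eq_of_equiv_equiv (R := k) (R' := k)
    (M := Coh.HH (Tw k X (σ : k →+* k)) M n) (M₁ := Coh.HH X M n) σ (AddEquiv.refl _) σ.bijective
    (fun r m => by
      show (Coh.toGlobal ((X ↘ Spec (CommRingCat.of k)) ≫
          Spec.map (CommRingCat.ofHom (σ : k →+* k))) r) • (show Coh.HH X M n from m) =
        (Coh.toGlobal (X ↘ Spec (CommRingCat.of k)) (σ r)) • (show Coh.HH X M n from m)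
      rw [toGlobal_comp]
      rfl)
  unfold Module.finrank
  rw [h]

theorem genus_tw (σ : k ≃+* k) :
    Curv2.genus k (Tw k X (σ : k →+* k)) = Curv2.genus k X :=
  finrank_HH_tw k X σ _ 1

end Tw

section Iso

variable (k : Type u) [Field k] (X Y : Scheme.{u}) [X.Over (Spec (CommRingCat.of k))]
  [Y.Over (Spec (CommRingCat.of k))] [IsIntegral X] [IsIntegral Y]
  [IsProper (X ↘ Spec (CommRingCat.of k))] [IsProper (Y ↘ Spec (CommRingCat.of k))]

/-- normal proper curves with `k`-isomorphic function fields are `k`-isomorphic -/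
theorem iso_of_functionField_equiv
    (hX : ∀ x : X, IsClosed ({x} : Set X) → ringKrullDim (X.presheaf.stalk x) = 1)
    (hnX : Pi1.IsNormalScheme X)
    (hY : ∀ y : Y, IsClosed ({y} : Set Y) → ringKrullDim (Y.presheaf.stalk y) = 1)
    (hnY : Pi1.IsNormalScheme Y)
    (ψ : Y.functionField ≃ₐ[k] X.functionField) :
    ∃ e : X ≅ Y, e.hom ≫ (Y ↘ Spec (CommRingCat.of k)) = X ↘ Spec (CommRingCat.of k) := by
  obtain ⟨u, ⟨hu1, hu2⟩, -⟩ := Groth.Agent.S4445.result k X Y hX hnX hY ψ.toAlgHom
  obtain ⟨v, ⟨hv1, hv2⟩, -⟩ := Groth.Agent.S4445.result k Y X hY hnY hX ψ.symm.toAlgHom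
  have hsu := P1Lur9.square_of_result u _ hu2
  have hsv := P1Lur9.square_of_result v _ hv2
  haveI : IsDominant (X.fromSpecStalk (genericPoint X)) :=
    Groth.Agent.Lib.OverFieldH7.isDominant_fromSpecStalk_genericPoint X
  haveI : IsDominant (Y.fromSpecStalk (genericPoint Y)) :=
    Groth.Agent.Lib.OverFieldH7.isDominant_fromSpecStalk_genericPoint Y
  have huv : u ≫ v = 𝟙 X := by
    apply ext_of_isDominant_of_isSeparated (X ↘ Spec (CommRingCat.of k)) ?_
      (X.fromSpecStalk (genericPoint X)) ?_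
    · rw [Category.assoc, hv1, hu1, Category.id_comp]
    · rw [← Category.assoc, hsu, Category.assoc, hsv, ← Category.assoc, ← Spec.map_comp,
        Category.comp_id]
      have h1 : CommRingCat.ofHom ((ψ.symm.toAlgHom : X.functionField →+* _)) ≫
          CommRingCat.ofHom ((ψ.toAlgHom : Y.functionField →+* _)) = 𝟙 _ := by
        ext z
        exact ψ.apply_symm_apply z
      rw [h1, Spec.map_id]
      exact Category.id_comp _
  have hvu : v ≫ u = 𝟙 Y := by
    apply ext_of_isDominant_of_isSeparated (Y ↘ Spec (CommRingCat.of k)) ?_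
      (Y.fromSpecStalk (genericPoint Y)) ?_
    · rw [Category.assoc, hu1, hv1, Category.id_comp]
    · rw [← Category.assoc, hsv, Category.assoc, hsu, ← Category.assoc, ← Spec.map_comp,
        Category.comp_id]
      have h1 : CommRingCat.ofHom ((ψ.toAlgHom : Y.functionField →+* _)) ≫
          CommRingCat.ofHom ((ψ.symm.toAlgHom : X.functionField →+* _)) = 𝟙 _ := by
        ext z
        exact ψ.symm_apply_apply z
      rw [h1, Spec.map_id]
      exact Category.id_comp _
  exact ⟨⟨u, v, huv, hvu⟩, hu1⟩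

end Iso

end FrobTw9
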