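import Mathlib
import Groth.Prelude
import Groth.Agent.Lib.FrobTw2_helper9

/-!
# Purely inseparable covers of curves over a perfect field are Frobenius twists (helper9)
APPEND-ONLY once landed.
-/

set_option autoImplicit false
universe u
open CategoryTheory CategoryTheory.Limits AlgebraicGeometry Opposite TopologicalSpace

namespace FrobTw9

attribute [local instance] Curv2.stalkAlgebra

theorem isNormal_of_regular (X : Scheme.{u})
    (hreg : ∀ x : X, IsRegularLocalRing (X.presheaf.stalk x)) : Pi1.IsNormalScheme X := fun x => by
  haveI := hreg x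
  exact ⟨Groth.Agent.RegularLib.isDomain _,
    Groth.Agent.Lib.NormalLiftH4.isIntegrallyClosed_of_isRegularLocalRing _⟩

section Core

variable (k : Type u) [Field k] (X : Scheme.{u}) [X.Over (Spec (CommRingCat.of k))]
  [IsIntegral X] [IsProper (X ↘ Spec (CommRingCat.of k))]

/-- `[K(X) : K(X)^{p^n}] = p^n` for a curve over a perfect field -/
theorem finrank_frob (p : ℕ) [ExpChar k p] [PerfectRing k p] [ExpChar X.functionField p]
    (hX : ∀ x : X, IsClosed ({x} : Set X) → ringKrullDim (X.presheaf.stalk x) = 1) (n : ℕ) :
    Module.finrank (iterateFrobenius X.functionField p n).fieldRange X.functionField = p ^ n := by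
  haveI : Algebra.EssFiniteType k X.functionField :=
    IntermediateField.fg_top_iff.mp (CurveComp9.fg_functionField k X)
  have htr := CurveComp9.trdeg_functionField k X hX
  have := Groth.Agent.FrobDeg9.finrank_iterateFrobenius_of_essFiniteType k X.functionField p 1 htr n
  simpa using this

/-- a field `L` over which `K(X)` is purely inseparable is `k`-isomorphic to the function field of
a Frobenius twist of `X`, by extraction of `p^n`-th roots -/
theorem exists_tw_equiv (p : ℕ) [ExpChar k p] [PerfectRing k p]
    (hX : ∀ x : X, IsClosed ({x} : Set X) → ringKrullDim (X.presheaf.stalk x) = 1)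
    (L : Type u) [Field L] [Algebra k L] [Algebra L X.functionField]
    [IsScalarTower k L X.functionField] [IsPurelyInseparable L X.functionField] :
    ∃ (n : ℕ) (ψ : L ≃ₐ[k]
        (Tw k X ((iterateFrobeniusEquiv k p n).symm : k →+* k)).functionField),
      ∀ y : L, ((ψ y : (Tw k X ((iterateFrobeniusEquiv k p n).symm : k →+* k)).functionField) :
        X.functionField) ^ p ^ n = algebraMap L X.functionField y := by
  haveI : ExpChar X.functionField p :=
    expChar_of_injective_algebraMap (algebraMap k X.functionField).injective p
  haveI : Algebra.EssFiniteType k X.functionField :=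
    IntermediateField.fg_top_iff.mp (CurveComp9.fg_functionField k X)
  haveI : Algebra.EssFiniteType L X.functionField := Algebra.EssFiniteType.of_comp k L _
  haveI : Algebra.IsAlgebraic L X.functionField := IsPurelyInseparable.isAlgebraic L _
  haveI : FiniteDimensional L X.functionField := Algebra.finite_of_essFiniteType_of_isAlgebraic
  obtain ⟨n, hn⟩ := fieldRange_eq L X.functionField p (finrank_frob k X p hX)
  obtain ⟨ψ, hψ⟩ := exists_root_equiv L X.functionField p hn
  refine ⟨n, { ψ with commutes' := fun c => ?_ }, hψ⟩
  apply iterateFrobenius_inj X.functionField p n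
  rw [iterateFrobenius_def, iterateFrobenius_def]
  have h1 : (ψ (algebraMap k L c)) ^ p ^ n = algebraMap k X.functionField c := by
    rw [hψ, ← IsScalarTower.algebraMap_apply]
  have h2 : (algebraMap k (Tw k X ((iterateFrobeniusEquiv k p n).symm : k →+* k)).functionField c :
      X.functionField) ^ p ^ n = algebraMap k X.functionField c := by
    have h3 := algebraMap_tw k X ((iterateFrobeniusEquiv k p n).symm : k →+* k) (genericPoint X) c
    have h4 : ((iterateFrobeniusEquiv k p n).symm c) ^ p ^ n = c := by
      rw [← iterateFrobeniusEquiv_def]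
      exact (iterateFrobeniusEquiv k p n).apply_symm_apply c
    refine (congrArg (· ^ p ^ n) h3).trans ?_
    show (algebraMap k X.functionField ((iterateFrobeniusEquiv k p n).symm c)) ^ p ^ n = _
    rw [← map_pow, h4]
  exact h1.trans h2.symm

end Core

section Main

variable (k : Type u) [Field k] [IsAlgClosed k] (X : Scheme.{u}) [X.Over (Spec (CommRingCat.of k))]
  [IsIntegral X] [IsProper (X ↘ Spec (CommRingCat.of k))]
  (Y : Scheme.{u}) [Y.Over (Spec (CommRingCat.of k))]
  [IsIntegral Y] [IsProper (Y ↘ Spec (CommRingCat.of k))]

theorem main11333 (hdimX : topologicalKrullDim X = 1)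
    (hregX : ∀ x : X, IsRegularLocalRing (X.presheaf.stalk x))
    (hdimY : topologicalKrullDim Y = 1)
    (hregY : ∀ x : Y, IsRegularLocalRing (Y.presheaf.stalk x))
    (f : X ⟶ Y)
    (hf : f ≫ (Y ↘ Spec (CommRingCat.of k)) = X ↘ Spec (CommRingCat.of k))
    (e : f (genericPoint X) = genericPoint Y)
    (hpi : letI := ((Y.presheaf.stalkSpecializes (specializes_of_eq e) ≫
        f.stalkMap (genericPoint X)).hom).toAlgebra
      IsPurelyInseparable Y.functionField X.functionField) :
    Nonempty (X ≅ Y) := by
  obtain ⟨p, hp⟩ := ExpChar.exists k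
  haveI := hp
  letI alg : Algebra Y.functionField X.functionField :=
    ((Y.presheaf.stalkSpecializes (specializes_of_eq e) ≫
      f.stalkMap (genericPoint X)).hom).toAlgebra
  haveI : IsPurelyInseparable Y.functionField X.functionField := hpi
  haveI : IsScalarTower k Y.functionField X.functionField :=
    IsScalarTower.of_algebraMap_eq (fun c => (stalkMap_comm k f hf e c).symm)
  have hX : ∀ x : X, IsClosed ({x} : Set X) → ringKrullDim (X.presheaf.stalk x) = 1 :=
    fun x hx => CurvePtInv.ringKrullDim_stalk_of_closed hdimX hx
  have hY : ∀ y : Y, IsClosed ({y} : Set Y) → ringKrullDim (Y.presheaf.stalk y) = 1 :=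
    fun y hy => CurvePtInv.ringKrullDim_stalk_of_closed hdimY hy
  obtain ⟨n, ψ, -⟩ := exists_tw_equiv k X p hX Y.functionField
  haveI := isProper_tw k X (iterateFrobeniusEquiv k p n).symm
  obtain ⟨i, -⟩ := iso_of_functionField_equiv k
    (Tw k X ((iterateFrobeniusEquiv k p n).symm : k →+* k)) Y hX
    (isNormal_of_regular X hregX) hY (isNormal_of_regular Y hregY) ψ
  exact ⟨i⟩

end Main

end FrobTw9
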