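import Mathlib

namespace Groth.Agent.Lib.GeomRedSep

open TensorProduct

/-- base change of a linearly independent set along a field extension. -/
theorem linearIndepOn_one_tmul {k K : Type*} [Field k] [AddCommGroup K] [Module k K]
    (Ω : Type*) [Field Ω] [Algebra k Ω] (s : Set K) (hs : LinearIndepOn k id s) :
    LinearIndepOn Ω (fun i : K => (1 : Ω) ⊗ₜ[k] i) s := by
  classical
  let b := Module.Basis.extend hs
  let B := b.baseChange Ω
  have hsub : s ⊆ hs.extend (Set.subset_univ s) := hs.subset_extend _
  have h1 : LinearIndependent Ω (B ∘ fun x : s => (⟨x.1, hsub x.2⟩ : hs.extend (Set.subset_univ s))) :=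
    B.linearIndependent.comp _
      (fun x y h => Subtype.ext (by simpa using congrArg Subtype.val h))
  have h2 : (B ∘ fun x : s => (⟨x.1, hsub x.2⟩ : hs.extend (Set.subset_univ s))) =
      fun x : s => (1 : Ω) ⊗ₜ[k] (x : K) := by
    funext x
    simp [B, b, Module.Basis.baseChange_apply]
  rw [h2] at h1
  exact h1

/-- MacLane's criterion (2) from geometric reducedness. -/
theorem linearIndepOn_pow_of_isGeometricallyReduced (k K : Type*) [Field k] [Field K] [Algebra k K]
    (p : ℕ) [Fact p.Prime] [CharP k p] [Algebra.IsGeometricallyReduced k K] (s : Finset K)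
    (hs : LinearIndepOn k id (s : Set K)) : LinearIndepOn k (· ^ p) (s : Set K) := by
  classical
  let Ω := AlgebraicClosure k
  haveI : CharP Ω p := charP_of_injective_algebraMap (algebraMap k Ω).injective p
  haveI : IsReduced (Ω ⊗[k] K) := inferInstance
  haveI : Nontrivial (Ω ⊗[k] K) := inferInstance
  haveI : CharP (Ω ⊗[k] K) p :=
    charP_of_injective_algebraMap (algebraMap Ω (Ω ⊗[k] K)).injective p
  rw [linearIndepOn_finset_iff]
  intro g hg
  let d : K → Ω := fun i => (frobeniusEquiv Ω p).symm (algebraMap k Ω (g i))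
  have hd : ∀ i, d i ^ p = algebraMap k Ω (g i) := fun i => frobeniusEquiv_symm_pow_p _ _ _
  let x : Ω ⊗[k] K := ∑ i ∈ s, d i ⊗ₜ[k] i
  have hx : x ^ p = 0 := by
    rw [sum_pow_char]
    have : ∀ i ∈ s, (d i ⊗ₜ[k] i) ^ p = (1 : Ω) ⊗ₜ[k] (g i • i ^ p) := by
      intro i _
      rw [Algebra.TensorProduct.tmul_pow, hd, TensorProduct.tmul_smul, Algebra.algebraMap_eq_smul_one,
        TensorProduct.smul_tmul']
    rw [Finset.sum_congr rfl this, ← TensorProduct.tmul_sum, hg, TensorProduct.tmul_zero]
  have hx0 : x = 0 := IsNilpotent.eq_zero ⟨p, hx⟩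
  have hli := linearIndepOn_one_tmul Ω (s : Set K) hs
  rw [linearIndepOn_finset_iff] at hli
  have h3 : ∑ i ∈ s, d i • ((1 : Ω) ⊗ₜ[k] i) = 0 := by
    rw [← hx0]
    refine Finset.sum_congr rfl fun i _ => ?_
    rw [TensorProduct.smul_tmul', smul_eq_mul, mul_one]
  intro i hi
  have h4 := hli d h3 i hi
  have h5 : algebraMap k Ω (g i) = 0 := by rw [← hd, h4, zero_pow (Fact.out : p.Prime).ne_zero]
  exact (map_eq_zero _).mp h5

/-- A finitely generated geometrically reduced field extension is formally smooth. -/
theorem formallySmooth_of_isGeometricallyReduced (k K : Type*) [Field k] [Field K] [Algebra k K]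
    [Algebra.EssFiniteType k K] [Algebra.IsGeometricallyReduced k K] :
    Algebra.FormallySmooth k K := by
  obtain _ | ⟨p, hp, hpk⟩ := CharP.exists' k
  · infer_instance
  · haveI := hp
    obtain ⟨s, hs, H⟩ :=
      exists_isTranscendenceBasis_and_isSeparable_of_linearIndepOn_pow_of_essFiniteType
        (k := k) (K := K) p hp.out
        (fun s hs => linearIndepOn_pow_of_isGeometricallyReduced k K p s hs)
    have : Algebra.IsSeparable (↥(IntermediateField.adjoin k (Set.range ((↑) : s → K)))) K := by
      convert! H <;> simp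
    exact .of_algebraicIndependent_of_isSeparable hs.1

end Groth.Agent.Lib.GeomRedSep
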