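import Mathlib
import Groth.Prelude.Def_Curv2
import Groth.Prelude.Def_Pi1
import Groth.Agent.S2690
import Groth.Agent.Lib.GeomNormal_helper3
import Groth.Agent.Lib.NormalSmoothBC_helper3
import Groth.Agent.Lib.GeomRedBC_helper9
import Groth.Agent.Lib.StalkDict6_helper4

set_option autoImplicit false
set_option linter.style.haveILetI false
set_option linter.unusedSectionVars false
universe u
open scoped TensorProduct
open CategoryTheory CategoryTheory.Limits AlgebraicGeometry

attribute [local instance] Curv2.stalkAlgebra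

namespace Groth.Agent.Lib.NormalBCH4

open Groth.Agent.Lib.StalkDict6H4 Groth.Agent.Lib.GeomRedInsepH4

theorem algGeomRed_of_sch (k K : Type u) [Field k] [Field K] [Algebra k K]
    [GeometricallyReduced (Spec.map (CommRingCat.ofHom (algebraMap k K)))] :
    Algebra.IsGeometricallyReduced k K := by
  have t := (main9634 (k := k) (S := K)).out 2 1
  refine t.mp (fun K' _ _ => ?_)
  haveI : _root_.IsReduced (K ⊗[k] K') := Groth.Agent.Lib.GeomRedBC.isReduced_tensor
  exact isReduced_of_injective (Algebra.TensorProduct.comm k K' K) (AlgEquiv.injective _)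

theorem main7602 (k : Type u) [Field k] (X : Scheme.{u}) [X.Over (Spec (CommRingCat.of k))]
    (hX : Pi1.IsNormalScheme X)
    (K : Type u) [Field K] [Algebra k K]
    [GeometricallyReduced (Spec.map (CommRingCat.ofHom (algebraMap k K)))] :
    Pi1.IsNormalScheme (Curv2.bc k X K) := by
  intro x'
  haveI := algGeomRed_of_sch k K
  obtain ⟨q, hq, ⟨eq⟩⟩ := exists_prime k X K (Curv2.bcFst k X K x') x' rfl
  obtain ⟨hd, hic⟩ := hX (Curv2.bcFst k X K x')
  haveI := hd
  haveI := hic
  have hA : EGA4.IsNormalRing (X.presheaf.stalk (Curv2.bcFst k X K x')) :=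
    Groth.Agent.Lib.NormalSmoothBCH3.isNormalRing_of_isIntegrallyClosed _
  have h1 : EGA4.IsNormalRing (K ⊗[k] X.presheaf.stalk (Curv2.bcFst k X K x')) :=
    Groth.Agent.S2690.result k _ K hA
  have h2 : EGA4.IsNormalRing (X.presheaf.stalk (Curv2.bcFst k X K x') ⊗[k] K) :=
    Groth.Agent.Lib.GeomNormalH3.isNormalRing_of_ringEquiv
      (Algebra.TensorProduct.comm k K _).toRingEquiv h1
  obtain ⟨hd', hic'⟩ := h2 q.asIdeal
  haveI := hd'
  haveI := hic'
  exact ⟨eq.symm.injective.isDomain eq.symm.toRingHom, IsIntegrallyClosed.of_equiv eq⟩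

end Groth.Agent.Lib.NormalBCH4
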