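import Mathlib
import Groth.Prelude
import Groth.Agent.Lib.SpreadIsoInt_helper7
import Groth.Agent.Lib.OverField_helper7

/-!
# Separably generated function fields: birational to a hypersurface (helper4)
-/

set_option autoImplicit false
set_option linter.unusedVariables false
set_option linter.unusedTactic false
set_option linter.unreachableTactic false
set_option linter.unusedSectionVars false
set_option linter.style.haveILetI false
set_option linter.deprecated false
set_option maxHeartbeats 1600000

universe u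
open CategoryTheory CategoryTheory.Limits AlgebraicGeometry

namespace Groth.Agent.Lib.SepHyperH4

attribute [local instance] Curv2.stalkAlgebra

/-- Pure field theory: a finitely generated field extension with a separating transcendence basis is
the fraction field of a hypersurface ring `k[T_1..T_d][T]/(g)`. -/
theorem algebra_core (k K : Type u) [Field k] [Field K] [Algebra k K] [Algebra.EssFiniteType k K]
    (d : ℕ) (s : Fin d → K) (hs : IsTranscendenceBasis k s)
    (hsep : Algebra.IsSeparable ↥(IntermediateField.adjoin k (Set.range s)) K) :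
    ∃ (g : Polynomial (MvPolynomial (Fin d) k)) (j : AdjoinRoot g →ₐ[k] K), g.Monic ∧
      Irreducible (g.map (algebraMap (MvPolynomial (Fin d) k)
        (FractionRing (MvPolynomial (Fin d) k)))) ∧
      (g.map (algebraMap (MvPolynomial (Fin d) k)
        (FractionRing (MvPolynomial (Fin d) k)))).Separable ∧
      Function.Injective j ∧ (∀ z : K, ∃ x y : AdjoinRoot g, y ≠ 0 ∧ z * j y = j x) := by
  classical
  have hai : AlgebraicIndependent k s := hs.1
  have hinj : Function.Injective (MvPolynomial.aeval s : MvPolynomial (Fin d) k →ₐ[k] K) :=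
    algebraicIndependent_iff_injective_aeval.1 hai
  -- finiteness and primitive element
  haveI hFess : Algebra.EssFiniteType ↥(IntermediateField.adjoin k (Set.range s)) K :=
    Algebra.EssFiniteType.of_comp k _ K
  haveI hFalg : Algebra.IsAlgebraic ↥(IntermediateField.adjoin k (Set.range s)) K := inferInstance
  haveI hFfin : Module.Finite ↥(IntermediateField.adjoin k (Set.range s)) K :=
    Algebra.finite_of_essFiniteType_of_isAlgebraic
  obtain ⟨α, hα⟩ := Field.exists_primitive_element ↥(IntermediateField.adjoin k (Set.range s)) K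
  -- algebra structures
  let a : MvPolynomial (Fin d) k →+* K :=
    (MvPolynomial.aeval s : MvPolynomial (Fin d) k →ₐ[k] K).toRingHom
  have ha : Function.Injective a := hinj
  letI algPK : Algebra (MvPolynomial (Fin d) k) K := a.toAlgebra
  haveI : IsScalarTower k (MvPolynomial (Fin d) k) K := IsScalarTower.of_algebraMap_eq
    (fun x => ((MvPolynomial.aeval s : MvPolynomial (Fin d) k →ₐ[k] K).commutes x).symm)
  have haP : Function.Injective (algebraMap (MvPolynomial (Fin d) k) K) := ha
  haveI : FaithfulSMul (MvPolynomial (Fin d) k) K :=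
    (faithfulSMul_iff_algebraMap_injective _ _).2 haP
  let ψ : FractionRing (MvPolynomial (Fin d) k) →+* K := IsFractionRing.lift haP
  letI algLK : Algebra (FractionRing (MvPolynomial (Fin d) k)) K := ψ.toAlgebra
  haveI : IsScalarTower (MvPolynomial (Fin d) k) (FractionRing (MvPolynomial (Fin d) k)) K :=
    IsScalarTower.of_algebraMap_eq (fun p => (IsFractionRing.lift_algebraMap haP p).symm)
  -- identification with `F = k(s)`
  have hψθ : ∀ q : FractionRing (MvPolynomial (Fin d) k),
      ψ q = ((hai.aevalEquivField q : ↥(IntermediateField.adjoin k (Set.range s))) : K) := by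
    have h0 : ψ = (algebraMap ↥(IntermediateField.adjoin k (Set.range s)) K).comp
        (hai.aevalEquivField : FractionRing (MvPolynomial (Fin d) k) →+*
          ↥(IntermediateField.adjoin k (Set.range s))) := by
      apply IsLocalization.ringHom_ext (nonZeroDivisors (MvPolynomial (Fin d) k))
      refine RingHom.ext (fun p => ?_)
      show ψ (algebraMap _ _ p) =
        ((hai.aevalEquivField (algebraMap _ _ p) : ↥(IntermediateField.adjoin k (Set.range s))) : K)
      rw [hai.aevalEquivField_algebraMap_apply_coe p]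
      exact IsFractionRing.lift_algebraMap haP p
    intro q
    rw [h0]
    rfl
  haveI hLsep : Algebra.IsSeparable (FractionRing (MvPolynomial (Fin d) k)) K := by
    refine Algebra.IsSeparable.of_equiv_equiv
      (A₁ := ↥(IntermediateField.adjoin k (Set.range s))) (B₁ := K)
      hai.aevalEquivField.symm.toRingEquiv (RingEquiv.refl K) ?_
    refine RingHom.ext (fun x => ?_)
    show ψ (hai.aevalEquivField.symm x) = (x : K)
    rw [hψθ, AlgEquiv.apply_symm_apply]
  haveI hLalg : Algebra.IsAlgebraic (FractionRing (MvPolynomial (Fin d) k)) K := inferInstance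
  have hαalg : IsAlgebraic (MvPolynomial (Fin d) k) α :=
    (IsFractionRing.isAlgebraic_iff (MvPolynomial (Fin d) k)
      (FractionRing (MvPolynomial (Fin d) k)) K).2 (Algebra.IsAlgebraic.isAlgebraic α)
  obtain ⟨c, hc0, hβ⟩ := hαalg.exists_integral_multiple
  have hc' : algebraMap (MvPolynomial (Fin d) k) K c ≠ 0 :=
    fun h => hc0 (haP (h.trans (map_zero _).symm))
  obtain ⟨β, hβdef⟩ : ∃ β : K, β = c • α := ⟨_, rfl⟩
  rw [← hβdef] at hβ
  have hβmul : β = algebraMap (MvPolynomial (Fin d) k) K c * α := by
    rw [hβdef, Algebra.smul_def]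
  -- minimal polynomial
  have hmin : minpoly (FractionRing (MvPolynomial (Fin d) k)) β =
      (minpoly (MvPolynomial (Fin d) k) β).map (algebraMap (MvPolynomial (Fin d) k)
        (FractionRing (MvPolynomial (Fin d) k))) :=
    minpoly.isIntegrallyClosed_eq_field_fractions' (FractionRing (MvPolynomial (Fin d) k)) hβ
  have hβL : IsIntegral (FractionRing (MvPolynomial (Fin d) k)) β := hβ.tower_top
  have hirr : Irreducible ((minpoly (MvPolynomial (Fin d) k) β).map
      (algebraMap (MvPolynomial (Fin d) k) (FractionRing (MvPolynomial (Fin d) k)))) := by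
    rw [← hmin]
    exact minpoly.irreducible hβL
  have hsepg : ((minpoly (MvPolynomial (Fin d) k) β).map
      (algebraMap (MvPolynomial (Fin d) k) (FractionRing (MvPolynomial (Fin d) k)))).Separable := by
    rw [← hmin]
    exact Algebra.IsSeparable.isSeparable (FractionRing (MvPolynomial (Fin d) k)) β
  -- the embedding of the hypersurface ring
  let j₀ : AdjoinRoot (minpoly (MvPolynomial (Fin d) k) β) →ₐ[MvPolynomial (Fin d) k] K :=
    (Algebra.adjoin (MvPolynomial (Fin d) k) ({β} : Set K)).val.comp
      (AdjoinRoot.Minpoly.toAdjoin (MvPolynomial (Fin d) k) β)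
  have hj₀ : Function.Injective j₀ :=
    fun x y h => minpoly.ToAdjoin.injective hβ (Subtype.ext h)
  have hj₀root : j₀ (AdjoinRoot.root _) = β := by
    show ((AdjoinRoot.Minpoly.toAdjoin (MvPolynomial (Fin d) k) β
      (AdjoinRoot.mk _ Polynomial.X) : ↥(Algebra.adjoin (MvPolynomial (Fin d) k) ({β} : Set K))) : K)
        = β
    exact AdjoinRoot.Minpoly.coe_toAdjoin_mk_X
  have hj₀of : ∀ p, j₀ (AdjoinRoot.of _ p) = algebraMap (MvPolynomial (Fin d) k) K p :=
    fun p => j₀.commutes p
  let j : AdjoinRoot (minpoly (MvPolynomial (Fin d) k) β) →ₐ[k] K := j₀.restrictScalars k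
  have hj : Function.Injective j := hj₀
  haveI : IsDomain (AdjoinRoot (minpoly (MvPolynomial (Fin d) k) β)) := hj.isDomain j
  let ι : FractionRing (AdjoinRoot (minpoly (MvPolynomial (Fin d) k) β)) →ₐ[k] K :=
    IsFractionRing.liftAlgHom (g := j) hj
  have hι : ∀ b, ι (algebraMap _ _ b) = j b := fun b => by
    simp [ι]
  have hjE : ∀ b, j b ∈ ι.fieldRange := fun b => AlgHom.mem_fieldRange.2 ⟨algebraMap _ _ b, hι b⟩
  have hsE : Set.range s ⊆ (ι.fieldRange : Set K) := by
    rintro _ ⟨i, rfl⟩
    have h1 : j (AdjoinRoot.of _ (MvPolynomial.X i)) = s i := by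
      show j₀ (AdjoinRoot.of _ (MvPolynomial.X i)) = s i
      rw [hj₀of]
      show (MvPolynomial.aeval s : MvPolynomial (Fin d) k →ₐ[k] K) (MvPolynomial.X i) = s i
      exact MvPolynomial.aeval_X s i
    rw [← h1]
    exact hjE _
  have hFE : IntermediateField.adjoin k (Set.range s) ≤ ι.fieldRange :=
    IntermediateField.adjoin_le_iff.2 hsE
  have hαE : α ∈ ι.fieldRange := by
    have h1 : α = j (AdjoinRoot.root _) / j (AdjoinRoot.of _ c) := by
      show α = j₀ (AdjoinRoot.root _) / j₀ (AdjoinRoot.of _ c)
      rw [hj₀root, hj₀of]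
      exact eq_div_of_mul_eq hc' (by rw [hβmul, mul_comm])
    rw [h1]
    exact div_mem (hjE _) (hjE _)
  have htop : ∀ z : K, z ∈ ι.fieldRange := by
    intro z
    have h1 : IntermediateField.adjoin ↥(IntermediateField.adjoin k (Set.range s)) ({α} : Set K) ≤
        IntermediateField.extendScalars hFE :=
      IntermediateField.adjoin_le_iff.2 (by
        rintro x (rfl : x = α)
        exact hαE)
    have h2 : z ∈ IntermediateField.adjoin ↥(IntermediateField.adjoin k (Set.range s))
        ({α} : Set K) := by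
      rw [hα]
      exact IntermediateField.mem_top
    exact h1 h2
  refine ⟨minpoly (MvPolynomial (Fin d) k) β, j, minpoly.monic hβ, hirr, hsepg, hj, fun z => ?_⟩
  obtain ⟨q, hq⟩ := AlgHom.mem_fieldRange.1 (htop z)
  obtain ⟨x, y, hy, hxy⟩ := IsFractionRing.div_surjective
    (A := AdjoinRoot (minpoly (MvPolynomial (Fin d) k) β)) q
  have hy0 : y ≠ 0 := nonZeroDivisors.ne_zero hy
  have hjy : j y ≠ 0 := fun h => hy0 (hj (h.trans (map_zero j).symm))
  refine ⟨x, y, hy0, ?_⟩
  rw [← hq, ← hxy, map_div₀, hι, hι, div_mul_cancel₀ _ hjy]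

/-- The function field of an integral scheme locally of finite type over `k` is essentially of
finite type over `k`. -/
theorem essFiniteType_stalkMap (k : Type u) [Field k] (X : Scheme.{u})
    [X.Over (Spec (CommRingCat.of k))] [IsIntegral X]
    [LocallyOfFiniteType (X ↘ Spec (CommRingCat.of k))] :
    (Curv2.stalkMap k X (genericPoint X)).EssFiniteType := by
  obtain ⟨_, ⟨U, hU, rfl⟩, hxU, -⟩ := X.isBasis_affineOpens.exists_subset_of_mem_open
    (Set.mem_univ (genericPoint X)) isOpen_univ
  haveI : Nonempty U := ⟨⟨genericPoint X, hxU⟩⟩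
  have e : U ≤ (X ↘ Spec (CommRingCat.of k)) ⁻¹ᵁ ⊤ := fun _ _ => trivial
  have h1 : ((X ↘ Spec (CommRingCat.of k)).appLE ⊤ U e).hom.FiniteType :=
    (X ↘ Spec (CommRingCat.of k)).finiteType_appLE (isAffineOpen_top _) hU e
  have hsurj : Function.Surjective (Scheme.ΓSpecIso (CommRingCat.of k)).inv.hom :=
    (Scheme.ΓSpecIso (CommRingCat.of k)).symm.commRingCatIsoToRingEquiv.surjective
  have h2 : (((X ↘ Spec (CommRingCat.of k)).appLE ⊤ U e).hom.comp
      (Scheme.ΓSpecIso (CommRingCat.of k)).inv.hom).FiniteType :=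
    h1.comp (RingHom.FiniteType.of_surjective _ hsurj)
  haveI := functionField_isFractionRing_of_isAffineOpen X U hU
  have h3 : (algebraMap Γ(X, U) X.functionField).EssFiniteType :=
    RingHom.essFiniteType_algebraMap.2
      (Algebra.EssFiniteType.of_isLocalization _ (nonZeroDivisors Γ(X, U)))
  have h4 := h2.essFiniteType.comp h3
  have hmor : (Scheme.ΓSpecIso (CommRingCat.of k)).inv ≫
      (X ↘ Spec (CommRingCat.of k)).appTop ≫ X.presheaf.germ ⊤ (genericPoint X) trivial =
      (Scheme.ΓSpecIso (CommRingCat.of k)).inv ≫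
        (X ↘ Spec (CommRingCat.of k)).appLE ⊤ U e ≫ X.presheaf.germ U (genericPoint X) hxU := by
    rw [Scheme.Hom.appLE, Category.assoc, X.presheaf.germ_res]
    rfl
  have hfinal : Curv2.stalkMap k X (genericPoint X) =
      (algebraMap Γ(X, U) X.functionField).comp
        (((X ↘ Spec (CommRingCat.of k)).appLE ⊤ U e).hom.comp
          (Scheme.ΓSpecIso (CommRingCat.of k)).inv.hom) := by
    refine RingHom.ext (fun a => ?_)
    exact congrArg (fun m => m.hom a) hmor
  rw [hfinal]
  exact h4

set_option backward.isDefEq.respectTransparency.types false in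
/-- Spreading out: an integral `k`-scheme locally of finite type whose function field is the
fraction field of a finitely generated `k`-algebra `B` shares a nonempty open with `Spec B`. -/
theorem spread_affine (k : Type u) [Field k] (X : Scheme.{u}) [X.Over (Spec (CommRingCat.of k))]
    [IsIntegral X] [LocallyOfFiniteType (X ↘ Spec (CommRingCat.of k))]
    (B : Type u) [CommRing B] [Algebra k B] [Algebra.FiniteType k B]
    (j : B →+* X.presheaf.stalk (genericPoint X))
    (hjk : j.comp (algebraMap k B) = Curv2.stalkMap k X (genericPoint X))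
    (hj : Function.Injective j)
    (hfrac : ∀ z : X.presheaf.stalk (genericPoint X), ∃ x y : B, y ≠ 0 ∧ z * j y = j x) :
    ∃ (U : X.Opens) (V : (Spec (CommRingCat.of B)).Opens) (e : (U : Scheme.{u}) ≅ (V : Scheme.{u})),
      (U : Set X).Nonempty ∧ (V : Set (Spec (CommRingCat.of B))).Nonempty ∧
      e.hom ≫ V.ι ≫ Spec.map (CommRingCat.ofHom (algebraMap k B)) =
        U.ι ≫ (X ↘ Spec (CommRingCat.of k)) := by
  letI : Field (X.presheaf.stalk (genericPoint X)) := inferInstanceAs (Field X.functionField)
  haveI : IsDomain B := hj.isDomain j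
  haveI : IsIntegral (Spec (CommRingCat.of B)) := inferInstance
  haveI : LocallyOfFiniteType (Spec.map (CommRingCat.ofHom (algebraMap k B))) :=
    (HasRingHomProperty.Spec_iff (P := @LocallyOfFiniteType)).2
      (RingHom.finiteType_algebraMap.2 inferInstance)
  obtain ⟨y', hy'⟩ : ∃ y' : PrimeSpectrum B, y'.asIdeal = ⊥ := ⟨⟨⊥, Ideal.bot_prime⟩, rfl⟩
  have hunit : ∀ t : y'.asIdeal.primeCompl, IsUnit (j t) := fun t => by
    have ht : (t : B) ≠ 0 := fun h => t.2 (by rw [h]; exact Ideal.zero_mem _)
    exact isUnit_iff_ne_zero.2 (fun h => ht (hj (h.trans (map_zero j).symm)))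
  let ψ₀ : Localization.AtPrime y'.asIdeal →+* X.presheaf.stalk (genericPoint X) :=
    IsLocalization.lift (M := y'.asIdeal.primeCompl) hunit
  have hψ₀comp : ψ₀.comp (algebraMap B (Localization.AtPrime y'.asIdeal)) = j :=
    IsLocalization.lift_comp hunit
  have hψ₀inj : Function.Injective ψ₀ :=
    (IsLocalization.lift_injective_iff hunit).2 (fun a b =>
      ⟨fun h => by
        have h' := congrArg ψ₀ h
        rwa [← RingHom.comp_apply, ← RingHom.comp_apply, hψ₀comp] at h',
       fun h => congrArg _ (hj h)⟩)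
  have hψ₀surj : Function.Surjective ψ₀ :=
    (IsLocalization.lift_surjective_iff hunit).2 (fun v => by
      obtain ⟨x, y, hy, hxy⟩ := hfrac v
      exact ⟨(x, ⟨y, fun hmem => hy (by rw [hy'] at hmem; exact (Ideal.mem_bot).1 hmem)⟩), hxy⟩)
  let ψe : Localization.AtPrime y'.asIdeal ≃+* X.presheaf.stalk (genericPoint X) :=
    RingEquiv.ofBijective ψ₀ ⟨hψ₀inj, hψ₀surj⟩
  let φ : (Spec (CommRingCat.of B)).presheaf.stalk y' ⟶ X.presheaf.stalk (genericPoint X) :=
    (Spec.stalkIso (CommRingCat.of B) y').hom ≫ ψe.toCommRingCatIso.hom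
  haveI : IsIso φ := by
    dsimp only [φ]
    infer_instance
  let jm : CommRingCat.of B ⟶ X.presheaf.stalk (genericPoint X) := CommRingCat.ofHom j
  have hφ : (Scheme.ΓSpecIso (CommRingCat.of B)).inv ≫
      (Spec (CommRingCat.of B)).presheaf.germ ⊤ y' trivial ≫ φ = jm := by
    have h1 := Spec.algebraMap_stalkIso_inv (R := CommRingCat.of B) (x := y')
    rw [← Category.assoc, ← h1]
    show (CommRingCat.ofHom (algebraMap _ _) ≫ (Spec.stalkIso (CommRingCat.of B) y').inv) ≫
      (Spec.stalkIso (CommRingCat.of B) y').hom ≫ ψe.toCommRingCatIso.hom = jm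
    rw [Category.assoc, Iso.inv_hom_id_assoc]
    refine CommRingCat.hom_ext (RingHom.ext (fun b => ?_))
    show ψ₀ (algebraMap _ _ b) = j b
    exact RingHom.congr_fun hψ₀comp b
  have hφ' : Spec.map φ ≫ (Spec (CommRingCat.of B)).fromSpecStalk y' = Spec.map jm := by
    rw [Spec.fromSpecStalk_eq (CommRingCat.of B) y', ← Spec.map_comp, Category.assoc, hφ]
  have e : (X ↘ Spec (CommRingCat.of k)) (genericPoint X) =
      (Spec.map (CommRingCat.ofHom (algebraMap k B))) y' := Subsingleton.elim _ _
  have hcomp : Spec.map φ ≫ (Spec (CommRingCat.of B)).fromSpecStalk y' ≫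
      Spec.map (CommRingCat.ofHom (algebraMap k B)) =
      X.fromSpecStalk (genericPoint X) ≫ (X ↘ Spec (CommRingCat.of k)) := by
    rw [← Category.assoc, hφ', Groth.Agent.Lib.OverFieldH7.fromSpecStalk_over, ← hjk,
      ← Spec.map_comp]
    rfl
  have h : (Spec.map (CommRingCat.ofHom (algebraMap k B))).stalkMap y' ≫ φ =
      (Spec (CommRingCat.of k)).presheaf.stalkSpecializes (Inseparable.of_eq e).specializes ≫
        (X ↘ Spec (CommRingCat.of k)).stalkMap (genericPoint X) := by
    apply Spec.map_injective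
    rw [← cancel_mono ((Spec (CommRingCat.of k)).fromSpecStalk
      ((Spec.map (CommRingCat.ofHom (algebraMap k B))) y'))]
    simp only [Spec.map_comp, Category.assoc, Scheme.SpecMap_stalkMap_fromSpecStalk,
      Scheme.SpecMap_stalkSpecializes_fromSpecStalk]
    first
    | exact hcomp
    | (rw [Scheme.SpecMap_stalkMap_fromSpecStalk]; exact hcomp)
    | (erw [Scheme.SpecMap_stalkMap_fromSpecStalk]; exact hcomp)
  obtain ⟨U, hxU, V, hyV, f, hf, -, hcomm⟩ :=
    Groth.Agent.Lib.SpreadIsoIntH7.iso_spread_of_isIntegral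
      (X ↘ Spec (CommRingCat.of k)) (Spec.map (CommRingCat.ofHom (algebraMap k B))) e φ h
  haveI := hf
  exact ⟨U, V, asIso f, ⟨_, hxU⟩, ⟨_, hyV⟩, hcomm⟩

theorem main10835 (k : Type u) [Field k]
    (X : Scheme.{u}) [X.Over (Spec (CommRingCat.of k))] [IsIntegral X]
    [LocallyOfFiniteType (X ↘ Spec (CommRingCat.of k))] [QuasiCompact (X ↘ Spec (CommRingCat.of k))]
    (d : ℕ) (s : Fin d → X.presheaf.stalk (genericPoint X)) (hs : IsTranscendenceBasis k s)
    (hsep : Algebra.IsSeparable ↥(IntermediateField.adjoin k (Set.range s))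
      (X.presheaf.stalk (genericPoint X))) :
    ∃ (g : Polynomial (MvPolynomial (Fin d) k)), g.Monic ∧
      Irreducible (g.map (algebraMap (MvPolynomial (Fin d) k)
        (FractionRing (MvPolynomial (Fin d) k)))) ∧
      (g.map (algebraMap (MvPolynomial (Fin d) k)
        (FractionRing (MvPolynomial (Fin d) k)))).Separable ∧
      ∃ (U : X.Opens) (V : (Spec (CommRingCat.of (AdjoinRoot g))).Opens)
        (e : (U : Scheme.{u}) ≅ (V : Scheme.{u})),
        (U : Set X).Nonempty ∧ (V : Set (Spec (CommRingCat.of (AdjoinRoot g)))).Nonempty ∧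
        e.hom ≫ V.ι ≫ Spec.map (CommRingCat.ofHom (algebraMap k (AdjoinRoot g))) =
          U.ι ≫ (X ↘ Spec (CommRingCat.of k)) := by
  haveI : Algebra.EssFiniteType k (X.presheaf.stalk (genericPoint X)) :=
    RingHom.essFiniteType_algebraMap.1 (essFiniteType_stalkMap k X)
  obtain ⟨g, j, hmonic, hirr, hsepg, hj, hfrac⟩ :=
    algebra_core k (X.presheaf.stalk (genericPoint X)) d s hs hsep
  obtain ⟨U, V, e, hU, hV, hcomm⟩ := spread_affine k X (AdjoinRoot g)
    (j : AdjoinRoot g →+* X.presheaf.stalk (genericPoint X)) j.comp_algebraMap hj hfrac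
  exact ⟨g, hmonic, hirr, hsepg, U, V, e, hU, hV, hcomm⟩

end Groth.Agent.Lib.SepHyperH4
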