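import Mathlib
import Groth.Prelude
import Groth.Agent.Lib.FrobTw6_helper9
import Groth.Agent.Lib.FrobTw3_helper9
import Groth.Agent.Lib.ActZeroDim_helper4
import Groth.Agent.Lib.ConnLocal2_helper3
import Groth.Agent.Lib.NormalBC_helper4
import Groth.Agent.Lib.GeomRedSep_helper9
import Groth.Agent.Lib.CurveComp1_helper9
import Groth.Agent.Lib.OverField_helper7
import Groth.Agent.Lib.SepHyper_helper4

/-!
# Function fields of smooth curves are separably generated; `[K : k K^q] = q` (helper9)
APPEND-ONLY once landed.
-/

set_option autoImplicit false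
universe u
open CategoryTheory CategoryTheory.Limits AlgebraicGeometry Opposite TopologicalSpace IntermediateField

namespace FrobTw9

section B1

attribute [local instance] Curv2.stalkAlgebra

variable (k : Type u) [Field k] (X : Scheme.{u}) [X.Over (Spec (CommRingCat.of k))] [IsIntegral X]

/-- the function field of an integral smooth `k`-scheme is geometrically reduced over `k` -/
theorem geomRed_functionField [Smooth (X ↘ Spec (CommRingCat.of k))] :
    Algebra.IsGeometricallyReduced k X.functionField := by
  haveI : GeometricallyReduced (X ↘ Spec (CommRingCat.of k)) :=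
    Groth.Agent.Lib.ActZeroDimH4.geomRed_of_smooth _
  haveI := Groth.Agent.Lib.ConnLocalH3.flat_fromSpecStalk X (genericPoint X)
  have h1 : GeometricallyReduced
      (X.fromSpecStalk (genericPoint X) ≫ (X ↘ Spec (CommRingCat.of k))) :=
    Groth.Agent.Lib.ConnLocalH3.geometricallyReduced_comp_of_flat_preimmersion _ _
  rw [Groth.Agent.Lib.OverFieldH7.fromSpecStalk_over] at h1
  haveI : GeometricallyReduced (Spec.map (CommRingCat.ofHom (algebraMap k X.functionField))) := h1
  exact Groth.Agent.Lib.NormalBCH4.algGeomRed_of_sch k X.functionField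

/-- separating transcendental element of the function field of a smooth curve -/
theorem exists_sep_gen (p : ℕ) [Fact p.Prime] [CharP k p]
    [Smooth (X ↘ Spec (CommRingCat.of k))] [QuasiCompact (X ↘ Spec (CommRingCat.of k))]
    (hX : ∀ x : X, IsClosed ({x} : Set X) → ringKrullDim (X.presheaf.stalk x) = 1) :
    ∃ t : X.functionField, Transcendental k t ∧ FiniteDimensional k⟮t⟯ X.functionField ∧
      Algebra.IsSeparable k⟮t⟯ X.functionField := by
  classical
  haveI : LocallyOfFiniteType (X ↘ Spec (CommRingCat.of k)) := inferInstance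
  haveI : Algebra.EssFiniteType k X.functionField :=
    RingHom.essFiniteType_algebraMap.1 (Groth.Agent.Lib.SepHyperH4.essFiniteType_stalkMap k X)
  haveI := geomRed_functionField k X
  obtain ⟨s, hs, H⟩ :=
    exists_isTranscendenceBasis_and_isSeparable_of_linearIndepOn_pow_of_essFiniteType
      (k := k) (K := X.functionField) p (Fact.out : p.Prime)
      (fun s hs => Groth.Agent.Lib.GeomRedSep.linearIndepOn_pow_of_isGeometricallyReduced
        k X.functionField p s hs)
  have htr := CurveComp9.trdeg_functionField k X hX
  have hcard : s.card = 1 := by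
    have h1 := hs.cardinalMk_eq_trdeg
    rw [htr, Cardinal.mk_coe_finset] at h1
    exact_mod_cast h1
  obtain ⟨t, rfl⟩ := Finset.card_eq_one.mp hcard
  rw [Finset.coe_singleton] at H
  have htt : Transcendental k t := by
    have := hs.1.transcendental ⟨t, Finset.mem_singleton_self t⟩
    exact this
  haveI := H
  haveI : Algebra.EssFiniteType k⟮t⟯ X.functionField :=
    Algebra.EssFiniteType.of_comp k k⟮t⟯ X.functionField
  haveI : Algebra.IsAlgebraic k⟮t⟯ X.functionField := Algebra.IsSeparable.isAlgebraic _ _
  exact ⟨t, htt, Algebra.finite_of_essFiniteType_of_isAlgebraic, H⟩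

/-- `[K(X) : k K(X)^q] = q` for a smooth curve -/
theorem finrank_kKq_functionField (p : ℕ) [Fact p.Prime] [CharP k p]
    [Smooth (X ↘ Spec (CommRingCat.of k))] [QuasiCompact (X ↘ Spec (CommRingCat.of k))]
    (hX : ∀ x : X, IsClosed ({x} : Set X) → ringKrullDim (X.presheaf.stalk x) = 1)
    [ExpChar X.functionField p] (r : ℕ) :
    Module.finrank (kKq k X.functionField p r) X.functionField = p ^ r := by
  obtain ⟨t, ht, hfin, hsep⟩ := exists_sep_gen k X p hX
  haveI := hfin
  haveI := hsep
  exact finrank_kKq k X.functionField p r t ht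

end B1

end FrobTw9
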