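import Mathlib
import Groth.Prelude
import Groth.Agent.Lib.FrobTw7_helper9
import Groth.Agent.Lib.UnivHomeo2_helper6
import Groth.Agent.Lib.EtaleReduced_helper7

/-!
# The Frobenius twist `X^{(q)}` of a curve over an arbitrary field of characteristic `p` (helper9)
APPEND-ONLY once landed.
-/

set_option autoImplicit false
universe u
open CategoryTheory CategoryTheory.Limits AlgebraicGeometry Opposite TopologicalSpace IntermediateField

namespace FrobTw9

section UH

variable (k : Type u) [Field k] (p : ℕ) [Fact p.Prime] [CharP k p] (r : ℕ)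

/-- the iterated Frobenius of a field induces a universal homeomorphism on spectra -/
theorem isUnivHomeo_frob :
    FlatMor.IsUnivHomeo (Spec.map (CommRingCat.ofHom (iterateFrobenius k p r))) := by
  haveI : ExpChar k p := ExpChar.prime Fact.out
  refine Groth.Agent.Lib.UnivHomeo.isUnivHomeo_SpecMap_of _ ?_ ?_ ?_
  · intro c
    refine ⟨Polynomial.X ^ p ^ r - Polynomial.C c,
      Polynomial.monic_X_pow_sub_C _ (pow_pos (expChar_pos k p) r).ne', ?_⟩
    simp [iterateFrobenius_def]
  · intro K _ ψ₁ ψ₂ h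
    haveI : CharP K p := charP_of_injective_ringHom ψ₁.injective p
    haveI : ExpChar K p := ExpChar.prime Fact.out
    ext c
    apply iterateFrobenius_inj K p r
    rw [iterateFrobenius_def, iterateFrobenius_def, ← map_pow, ← map_pow]
    have := congrArg (fun g => g c) h
    simpa [iterateFrobenius_def] using this
  · intro K _ χ
    haveI : CharP K p := charP_of_injective_ringHom χ.injective p
    haveI : CharP (AlgebraicClosure K) p :=
      charP_of_injective_algebraMap (algebraMap K (AlgebraicClosure K)).injective p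
    haveI : ExpChar (AlgebraicClosure K) p := ExpChar.prime Fact.out
    haveI : PerfectRing (AlgebraicClosure K) p := inferInstance
    refine ⟨AlgebraicClosure K, inferInstance, algebraMap K (AlgebraicClosure K),
      ((iterateFrobeniusEquiv (AlgebraicClosure K) p r).symm : _ →+* _).comp
        ((algebraMap K (AlgebraicClosure K)).comp χ), ?_⟩
    ext c
    simp only [CommRingCat.hom_ofHom, RingHom.comp_apply, RingHom.coe_coe]
    rw [RingEquiv.symm_apply_eq, iterateFrobeniusEquiv_def, iterateFrobenius_def, map_pow, map_pow]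

variable {k p r}
variable {X X' : Scheme.{u}} {f : X ⟶ Spec (CommRingCat.of k)} {g : X' ⟶ Spec (CommRingCat.of k)}
  {π : X' ⟶ X}
  (hπ : IsPullback π g f (Spec.map (CommRingCat.ofHom (iterateFrobenius k p r))))

include hπ

theorem isHomeomorph_fst : IsHomeomorph π :=
  isUnivHomeo_frob k p r g f π hπ

theorem irreducibleSpace_twist [IrreducibleSpace X] : IrreducibleSpace X' := by
  have h := isHomeomorph_fst hπ
  let e := h.homeomorph
  have h1 : IsIrreducible (Set.univ : Set X) := (irreducibleSpace_def X).mp inferInstance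
  have h2 := h1.image e.symm e.symm.continuous.continuousOn
  rw [Set.image_univ_of_surjective e.symm.surjective] at h2
  exact (irreducibleSpace_def X').mpr h2

theorem dim_twist : topologicalKrullDim X' = topologicalKrullDim X :=
  IsHomeomorph.topologicalKrullDim_eq _ (isHomeomorph_fst hπ)

theorem smooth_twist [Smooth f] : Smooth g :=
  MorphismProperty.of_isPullback (P := @Smooth) hπ inferInstance

theorem isProper_twist [IsProper f] : IsProper g :=
  MorphismProperty.of_isPullback (P := @IsProper) hπ inferInstance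

theorem isIntegral_twist [IsIntegral X] [Smooth f] : IsIntegral X' := by
  haveI := irreducibleSpace_twist hπ
  haveI := smooth_twist hπ
  haveI : IsReduced X' := Groth.Agent.Lib.EtaleReduced_helper7.isReduced_of_smooth_scheme g
  exact isIntegral_of_irreducibleSpace_of_isReduced X'

end UH

section PO

/-- a subring of a pushout of commutative rings containing both images is everything -/
theorem mem_subring_of_isPushout {R A B P : CommRingCat.{u}} {a : R ⟶ A} {b : R ⟶ B}
    {inl : A ⟶ P} {inr : B ⟶ P} (h : IsPushout a b inl inr) (T : Subring P)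
    (hl : ∀ x, inl.hom x ∈ T) (hr : ∀ y, inr.hom y ∈ T) (z : P) : z ∈ T := by
  let l' : A ⟶ CommRingCat.of T := CommRingCat.ofHom (inl.hom.codRestrict T hl)
  let r' : B ⟶ CommRingCat.of T := CommRingCat.ofHom (inr.hom.codRestrict T hr)
  let ι : CommRingCat.of T ⟶ P := CommRingCat.ofHom T.subtype
  have hl' : l' ≫ ι = inl := by ext x; rfl
  have hr' : r' ≫ ι = inr := by ext x; rfl
  have comm : a ≫ l' = b ≫ r' := by
    ext x
    exact congrArg (fun m => m.hom x) h.w
  have hd : h.desc l' r' comm ≫ ι = 𝟙 P := by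
    apply h.hom_ext
    · rw [h.inl_desc_assoc, hl', Category.comp_id]
    · rw [h.inr_desc_assoc, hr', Category.comp_id]
  have h1 := congrArg (fun m => m.hom z) hd
  have h2 : ((h.desc l' r' comm).hom z : P) = z := h1
  rw [← h2]
  exact ((h.desc l' r' comm).hom z).2

end PO

section Germ

attribute [local instance] Curv2.stalkAlgebra

variable (k : Type u) [Field k] (X : Scheme.{u}) [X.Over (Spec (CommRingCat.of k))]

/-- the `k`-algebra structure of a stalk through sections over an open -/
theorem algebraMap_stalk_eq (U : X.Opens) (x : X) (hx : x ∈ U) (c : k) :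
    algebraMap k (X.presheaf.stalk x) c =
      (X.presheaf.germ U x hx).hom (((X ↘ Spec (CommRingCat.of k)).appLE ⊤ U (by simp)).hom
        ((Scheme.ΓSpecIso (CommRingCat.of k)).inv.hom c)) := by
  have hmor : (Scheme.ΓSpecIso (CommRingCat.of k)).inv ≫
      (X ↘ Spec (CommRingCat.of k)).appTop ≫ X.presheaf.germ ⊤ x trivial =
      (Scheme.ΓSpecIso (CommRingCat.of k)).inv ≫
        (X ↘ Spec (CommRingCat.of k)).appLE ⊤ U (by simp) ≫ X.presheaf.germ U x hx := by
    rw [Scheme.Hom.appLE, Category.assoc, X.presheaf.germ_res]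
    rfl
  exact congrArg (fun m => m.hom c) hmor

end Germ

section FF

attribute [local instance] Curv2.stalkAlgebra

variable (k : Type u) [Field k] (p : ℕ) [Fact p.Prime] [CharP k p] (r : ℕ)
  (X X' : Scheme.{u}) [X.Over (Spec (CommRingCat.of k))] [X'.Over (Spec (CommRingCat.of k))]
  [IsIntegral X] [IsIntegral X'] (π : X' ⟶ X)
  (hπ : IsPullback π (X' ↘ Spec (CommRingCat.of k)) (X ↘ Spec (CommRingCat.of k))
     (Spec.map (CommRingCat.ofHom (iterateFrobenius k p r))))

include hπ

theorem map_genericPoint_twist : π (genericPoint X') = genericPoint X := by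
  have h := isHomeomorph_fst hπ
  haveI : IsDominant π := ⟨h.surjective.denseRange⟩
  exact Groth.Agent.Lib.CurveTopH7.map_genericPoint_of_isDominant π

set_option maxHeartbeats 1600000 in
/-- the function field of the Frobenius twist `X^{(q)}` is `k`-isomorphic to `k · K(X)^q` -/
theorem exists_algHom_twist [ExpChar X.functionField p] :
    ∃ W : X'.functionField →ₐ[k] X.functionField, W.fieldRange = kKq k X.functionField p r := by
  classical
  haveI : ExpChar k p := ExpChar.prime Fact.out
  obtain ⟨U, hU, hηU, -⟩ :=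
    exists_isAffineOpen_mem_and_subset (X := X) (x := genericPoint X) (U := ⊤) trivial
  have hη' := map_genericPoint_twist k p r X X' π hπ
  -- the preimage of `U`
  obtain ⟨U', hU'def⟩ : ∃ U' : X'.Opens,
      U' = π ⁻¹ᵁ U ⊓ (X' ↘ Spec (CommRingCat.of k)) ⁻¹ᵁ ⊤ := ⟨_, rfl⟩
  have hU'1 : U' ≤ π ⁻¹ᵁ U := by rw [hU'def]; exact inf_le_left
  have hU'2 : U' ≤ (X' ↘ Spec (CommRingCat.of k)) ⁻¹ᵁ ⊤ := by rw [hU'def]; exact inf_le_right
  have hη'U' : genericPoint X' ∈ U' := by
    rw [hU'def]
    refine ⟨?_, trivial⟩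
    show π (genericPoint X') ∈ U
    rw [hη']; exact hηU
  have hU' : IsAffineOpen U' := by
    have hUS : IsAffineOpen (⊤ : (Spec (CommRingCat.of k)).Opens) := isAffineOpen_top _
    have : IsAffine ((⊤ : (Spec (CommRingCat.of k)).Opens) : Scheme) := hUS
    have : IsAffine (U : Scheme) := hU
    exact .of_isIso (Scheme.Hom.isPullback_resLE hπ (US := ⊤) (UT := ⊤) (UX := U)
      (by simp) (by simp) (UY := U') hU'def).isoPullback.hom
  have hPO : IsPushout ((X ↘ Spec (CommRingCat.of k)).appLE ⊤ U (by simp))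
      ((Spec.map (CommRingCat.ofHom (iterateFrobenius k p r))).appLE ⊤ ⊤ (by simp))
      (π.appLE U U' hU'1)
      ((X' ↘ Spec (CommRingCat.of k)).appLE ⊤ U' hU'2) := by
    have h := isIso_pushoutSection_of_isAffineOpen hπ (US := ⊤) (UT := ⊤) (UX := U)
      (by simp) (by simp) (UY := U') hU'def (isAffineOpen_top _) (isAffineOpen_top _) hU
    exact (isIso_pushoutSection_iff hπ _ _ hU'def).mp h
  obtain ⟨a01, ha01⟩ : ∃ m, m = (X ↘ Spec (CommRingCat.of k)).appLE ⊤ U (by simp) := ⟨_, rfl⟩
  obtain ⟨i01, hi01⟩ : ∃ m, m = (Spec.map (CommRingCat.ofHom (iterateFrobenius k p r))).appLE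
      ⊤ ⊤ (by simp) := ⟨_, rfl⟩
  obtain ⟨inl, hinl⟩ : ∃ m, m = π.appLE U U' hU'1 := ⟨_, rfl⟩
  obtain ⟨inr, hinr⟩ : ∃ m, m = (X' ↘ Spec (CommRingCat.of k)).appLE ⊤ U' hU'2 := ⟨_, rfl⟩
  rw [← ha01, ← hi01, ← hinl, ← hinr] at hPO
  obtain ⟨iso, hiso⟩ : ∃ m, m = Scheme.ΓSpecIso (CommRingCat.of k) := ⟨_, rfl⟩
  obtain ⟨γ, hγ⟩ : ∃ m, m = X.presheaf.germ U (genericPoint X) hηU := ⟨_, rfl⟩
  obtain ⟨γ', hγ'⟩ : ∃ m, m = X'.presheaf.germ U' (genericPoint X') hη'U' := ⟨_, rfl⟩
  have hinvhom : ∀ c : k, iso.hom.hom (iso.inv.hom c) = c := fun c => by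
    rw [← CommRingCat.comp_apply, iso.inv_hom_id]; rfl
  have hhominv : ∀ c, iso.inv.hom (iso.hom.hom c) = c := fun c => by
    rw [← CommRingCat.comp_apply, iso.hom_inv_id]; rfl
  -- (I1): `i01` is the `q`-th power map
  have hI1 : ∀ c, iso.hom.hom (i01.hom c) = (iso.hom.hom c) ^ p ^ r := by
    intro c
    have h1 := Scheme.ΓSpecIso_naturality (CommRingCat.ofHom (iterateFrobenius k p r))
    have h2 : i01 = (Spec.map (CommRingCat.ofHom (iterateFrobenius k p r))).appTop := by
      rw [hi01, Scheme.Hom.appTop, Scheme.Hom.app_eq_appLE]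
      rfl
    rw [← h2, ← hiso] at h1
    have h3 := congrArg (fun m => m.hom c) h1
    rw [← iterateFrobenius_def]
    exact h3
  have hi01pow : ∀ c, i01.hom c = c ^ p ^ r := by
    intro c
    have h1 := hI1 c
    rw [← map_pow] at h1
    have h2 := congrArg iso.inv.hom h1
    rwa [hhominv, hhominv] at h2
  -- (I2): algebra maps through germs
  have hI2 : ∀ c : k, algebraMap k X.functionField c = γ.hom (a01.hom (iso.inv.hom c)) := by
    intro c
    rw [hγ, ha01, hiso]
    exact algebraMap_stalk_eq k X U (genericPoint X) hηU c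
  have hI2' : ∀ c : k, algebraMap k X'.functionField c = γ'.hom (inr.hom (iso.inv.hom c)) := by
    intro c
    rw [hγ', hinr, hiso]
    exact algebraMap_stalk_eq k X' U' (genericPoint X') hη'U' c
  -- the Frobenius of `K(X)`
  let Φ : X.functionField ⟶ X.functionField :=
    CommRingCat.ofHom (iterateFrobenius X.functionField p r)
  have hΦ : ∀ x, Φ.hom x = x ^ p ^ r := fun x => iterateFrobenius_def ..
  let ρ : CommRingCat.of k ⟶ X.functionField := CommRingCat.ofHom (algebraMap k X.functionField)
  have comm : a01 ≫ γ ≫ Φ = i01 ≫ iso.hom ≫ ρ := by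
    ext c
    show Φ.hom (γ.hom (a01.hom c)) = algebraMap k X.functionField (iso.hom.hom (i01.hom c))
    rw [hΦ, hI1, map_pow, hI2, hhominv]
  obtain ⟨W₀, hW₀⟩ : ∃ m, m = hPO.desc (γ ≫ Φ) (iso.hom ≫ ρ) comm := ⟨_, rfl⟩
  have hP1 : ∀ a, W₀.hom (inl.hom a) = (γ.hom a) ^ p ^ r := by
    intro a
    have h1 : inl ≫ W₀ = γ ≫ Φ := by rw [hW₀, hPO.inl_desc]
    have h2 := congrArg (fun m => m.hom a) h1
    rw [← hΦ]
    exact h2
  have hP2 : ∀ c, W₀.hom (inr.hom c) = algebraMap k X.functionField (iso.hom.hom c) := by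
    intro c
    have h1 : inr ≫ W₀ = iso.hom ≫ ρ := by rw [hW₀, hPO.inr_desc]
    exact congrArg (fun m => m.hom c) h1
  -- range of `W₀` lies in `M`
  have hrange : ∀ b, W₀.hom b ∈ kKq k X.functionField p r := by
    intro b
    have := mem_subring_of_isPushout hPO
      ((kKq k X.functionField p r).toSubalgebra.toSubring.comap W₀.hom)
      (fun a => by
        show W₀.hom (inl.hom a) ∈ kKq k X.functionField p r
        rw [hP1]; exact frob_mem_kKq k _ p r _)
      (fun c => by
        show W₀.hom (inr.hom c) ∈ kKq k X.functionField p r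
        rw [hP2]; exact IntermediateField.algebraMap_mem _ _) b
    exact this
  -- characteristic of `Γ(X', U')`
  haveI : Nonempty U' := ⟨⟨genericPoint X', hη'U'⟩⟩
  haveI : Nonempty U := ⟨⟨genericPoint X, hηU⟩⟩
  haveI : IsDomain Γ(X', U') := inferInstance
  haveI : CharP Γ(X', U') p :=
    charP_of_injective_ringHom (f := (iso.inv ≫ inr).hom) (RingHom.injective _) p
  haveI : ExpChar Γ(X', U') p := ExpChar.prime Fact.out
  -- `q`-th powers lie in the image of `inl`
  have hpow : ∀ b : Γ(X', U'), ∃ a, b ^ p ^ r = inl.hom a := by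
    intro b
    have := mem_subring_of_isPushout hPO
      (inl.hom.range.comap (iterateFrobenius Γ(X', U') p r))
      (fun a => by
        show iterateFrobenius Γ(X', U') p r (inl.hom a) ∈ inl.hom.range
        rw [iterateFrobenius_def, ← map_pow]
        exact ⟨_, rfl⟩)
      (fun c => by
        show iterateFrobenius Γ(X', U') p r (inr.hom c) ∈ inl.hom.range
        rw [iterateFrobenius_def, ← map_pow, ← hi01pow]
        have h1 := congrArg (fun m => m.hom c) hPO.w
        exact ⟨_, h1⟩) b
    obtain ⟨a, ha⟩ := this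
    exact ⟨a, by rw [ha, iterateFrobenius_def]⟩
  have hγinj : Function.Injective γ.hom := by
    rw [hγ]; exact germ_injective_of_isIntegral X (genericPoint X) hηU
  -- injectivity
  have hW₀inj : Function.Injective W₀.hom := by
    rw [injective_iff_map_eq_zero]
    intro b hb
    obtain ⟨a, ha⟩ := hpow b
    have h1 : W₀.hom (b ^ p ^ r) = 0 := by rw [map_pow, hb, zero_pow (pow_pos (expChar_pos k p) r).ne']
    rw [ha, hP1] at h1
    have h2 : γ.hom a = 0 := pow_eq_zero_iff (pow_pos (expChar_pos k p) r).ne' |>.mp h1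
    have h3 : a = 0 := hγinj (by rw [h2, map_zero])
    rw [h3, map_zero] at ha
    exact pow_eq_zero_iff (pow_pos (expChar_pos k p) r).ne' |>.mp ha
  haveI hfrX : IsFractionRing Γ(X, U) X.functionField :=
    functionField_isFractionRing_of_isAffineOpen X U hU
  haveI hfrX' : IsFractionRing Γ(X', U') X'.functionField :=
    functionField_isFractionRing_of_isAffineOpen X' U' hU'
  have halg : ∀ a, algebraMap Γ(X, U) X.functionField a = γ.hom a := by
    intro a; rw [hγ]; rfl
  have halg' : ∀ b, algebraMap Γ(X', U') X'.functionField b = γ'.hom b := by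
    intro b; rw [hγ']; rfl
  let Wr : X'.functionField →+* X.functionField := IsFractionRing.lift (g := W₀.hom) hW₀inj
  have hWr : ∀ b, Wr (γ'.hom b) = W₀.hom b := by
    intro b
    rw [← halg']
    exact IsFractionRing.lift_algebraMap hW₀inj b
  let W : X'.functionField →ₐ[k] X.functionField :=
    { Wr with
      commutes' := fun c => by
        show Wr (algebraMap k X'.functionField c) = algebraMap k X.functionField c
        rw [hI2', hWr, hP2, hinvhom] }
  have hWapp : ∀ x, W x = Wr x := fun _ => rfl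
  refine ⟨W, le_antisymm ?_ ?_⟩
  · rintro _ ⟨x, rfl⟩
    obtain ⟨a, b, hb, rfl⟩ := IsFractionRing.div_surjective (A := Γ(X', U')) x
    show W (algebraMap _ _ a / algebraMap _ _ b) ∈ _
    rw [hWapp, map_div₀, halg', halg', hWr, hWr]
    exact div_mem (hrange a) (hrange b)
  · rw [kKq, adjoin_le_iff]
    rintro _ ⟨x, rfl⟩
    obtain ⟨a, b, hb, rfl⟩ := IsFractionRing.div_surjective (A := Γ(X, U)) x
    rw [iterateFrobenius_def, div_pow, halg, halg, ← hP1, ← hP1, ← hWr, ← hWr, ← map_div₀]
    exact ⟨_, rfl⟩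

end FF

end FrobTw9
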