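import Mathlib
import Groth.Prelude
import Groth.Agent.Lib.FrobTw8_helper9

/-!
# A purely inseparable quotient of a smooth proper curve is a Frobenius twist (helper9)
APPEND-ONLY once landed.
-/

set_option autoImplicit false
universe u
open CategoryTheory CategoryTheory.Limits AlgebraicGeometry Opposite TopologicalSpace IntermediateField

namespace FrobTw9

attribute [local instance] Curv2.stalkAlgebra

theorem charP_of_expChar_fact (k : Type*) [Field k] (p : ℕ) [hp : Fact p.Prime] [h : ExpChar k p] :
    CharP k p := by
  cases h with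
  | zero => exact absurd hp.out Nat.not_prime_one
  | prime _ => assumption

section Main

variable (k : Type u) [Field k] (p : ℕ) [Fact p.Prime] [CharP k p]
  (X Y : Scheme.{u}) [X.Over (Spec (CommRingCat.of k))] [Y.Over (Spec (CommRingCat.of k))]
  [IsIntegral X] [IsIntegral Y]
  [IsProper (X ↘ Spec (CommRingCat.of k))] [IsProper (Y ↘ Spec (CommRingCat.of k))]
  [Smooth (X ↘ Spec (CommRingCat.of k))]

set_option maxHeartbeats 1600000 in
/-- a normal proper curve `Y` dominated by a smooth proper curve `X` with purely inseparable
function field extension is `k`-isomorphic to a Frobenius twist `X^{(p^r)}` -/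
theorem exists_iso_twist (hdX : topologicalKrullDim X = 1) (hdY : topologicalKrullDim Y = 1)
    (hnY : Pi1.IsNormalScheme Y)
    (f : X ⟶ Y) (hf : f ≫ (Y ↘ Spec (CommRingCat.of k)) = X ↘ Spec (CommRingCat.of k))
    (e : f (genericPoint X) = genericPoint Y)
    (hpi : letI := ((Y.presheaf.stalkSpecializes (specializes_of_eq e) ≫
        f.stalkMap (genericPoint X)).hom).toAlgebra
      IsPurelyInseparable Y.functionField X.functionField) :
    ∃ (r : ℕ) (i : Y ≅ pullback (X ↘ Spec (CommRingCat.of k))
        (Spec.map (CommRingCat.ofHom (iterateFrobenius k p r)))),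
      i.hom ≫ pullback.snd (X ↘ Spec (CommRingCat.of k))
        (Spec.map (CommRingCat.ofHom (iterateFrobenius k p r))) = Y ↘ Spec (CommRingCat.of k) := by
  classical
  haveI : ExpChar k p := ExpChar.prime Fact.out
  letI alg : Algebra Y.functionField X.functionField :=
    ((Y.presheaf.stalkSpecializes (specializes_of_eq e) ≫ f.stalkMap (genericPoint X)).hom).toAlgebra
  haveI : IsPurelyInseparable Y.functionField X.functionField := hpi
  haveI : IsScalarTower k Y.functionField X.functionField :=
    IsScalarTower.of_algebraMap_eq (fun c => (stalkMap_comm k f hf e c).symm)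
  haveI : ExpChar X.functionField p :=
    expChar_of_injective_algebraMap (algebraMap k X.functionField).injective p
  haveI : ExpChar Y.functionField p :=
    expChar_of_injective_algebraMap (algebraMap k Y.functionField).injective p
  haveI : Algebra.EssFiniteType k X.functionField :=
    IntermediateField.fg_top_iff.mp (CurveComp9.fg_functionField k X)
  haveI : Algebra.EssFiniteType Y.functionField X.functionField :=
    Algebra.EssFiniteType.of_comp k Y.functionField _
  haveI : Algebra.IsAlgebraic Y.functionField X.functionField :=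
    IsPurelyInseparable.isAlgebraic Y.functionField _
  haveI : FiniteDimensional Y.functionField X.functionField :=
    Algebra.finite_of_essFiniteType_of_isAlgebraic
  obtain ⟨s, hs⟩ := IsPurelyInseparable.finrank_eq_pow (F := Y.functionField) X.functionField p
  have hX : ∀ x : X, IsClosed ({x} : Set X) → ringKrullDim (X.presheaf.stalk x) = 1 :=
    fun x hx => CurvePtInv.ringKrullDim_stalk_of_closed hdX hx
  have hY : ∀ y : Y, IsClosed ({y} : Set Y) → ringKrullDim (Y.presheaf.stalk y) = 1 :=
    fun y hy => CurvePtInv.ringKrullDim_stalk_of_closed hdY hy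
  -- the twist
  suffices H : ∀ (X' : Scheme.{u}) [X'.Over (Spec (CommRingCat.of k))] (π : X' ⟶ X)
      (_ : IsPullback π (X' ↘ Spec (CommRingCat.of k)) (X ↘ Spec (CommRingCat.of k))
        (Spec.map (CommRingCat.ofHom (iterateFrobenius k p s)))),
      ∃ i : Y ≅ X', i.hom ≫ (X' ↘ Spec (CommRingCat.of k)) = Y ↘ Spec (CommRingCat.of k) by
    letI ov : (pullback (X ↘ Spec (CommRingCat.of k))
        (Spec.map (CommRingCat.ofHom (iterateFrobenius k p s)))).Over (Spec (CommRingCat.of k)) :=
      ⟨pullback.snd _ _⟩
    obtain ⟨i, hi⟩ := H (pullback (X ↘ Spec (CommRingCat.of k))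
        (Spec.map (CommRingCat.ofHom (iterateFrobenius k p s)))) (pullback.fst _ _)
        (IsPullback.of_hasPullback _ _)
    exact ⟨s, i, hi⟩
  intro X' _ π hπ
  haveI hint : IsIntegral X' := isIntegral_twist hπ
  haveI hprop : IsProper (X' ↘ Spec (CommRingCat.of k)) := isProper_twist hπ
  haveI hsm : Smooth (X' ↘ Spec (CommRingCat.of k)) := smooth_twist hπ
  have hdX' : topologicalKrullDim X' = 1 := by
    rw [dim_twist hπ, hdX]
  have hX' : ∀ x : X', IsClosed ({x} : Set X') → ringKrullDim (X'.presheaf.stalk x) = 1 :=
    fun x hx => CurvePtInv.ringKrullDim_stalk_of_closed hdX' hx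
  have hnX' : Pi1.IsNormalScheme X' :=
    isNormal_of_regular _ (fun x => VBCurve.hreg_of_smooth k _ x)
  obtain ⟨W, hW⟩ := exists_algHom_twist k p s X X' π hπ
  -- the image of `K(Y)`
  let φA : Y.functionField →ₐ[k] X.functionField := IsScalarTower.toAlgHom k _ _
  have hφA : ∀ y, φA y = algebraMap Y.functionField X.functionField y := fun _ => rfl
  have hle : kKq k X.functionField p s ≤ φA.fieldRange := by
    rw [kKq, adjoin_le_iff]
    rintro _ ⟨x, rfl⟩
    rw [iterateFrobenius_def]
    obtain ⟨y, hy⟩ := pow_mem_range Y.functionField X.functionField p hs x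
    exact ⟨y, hy⟩
  have hdeg1 : Module.finrank (kKq k X.functionField p s) X.functionField = p ^ s :=
    finrank_kKq_functionField k X p hX s
  have hdeg2 : Module.finrank φA.fieldRange X.functionField = p ^ s := by
    rw [← hs]
    symm
    exact Algebra.finrank_eq_of_equiv_equiv (AlgEquiv.ofInjectiveField φA).toRingEquiv
      (RingEquiv.refl X.functionField) (by ext x; rfl)
  haveI : FiniteDimensional (kKq k X.functionField p s) X.functionField :=
    Module.finite_of_finrank_pos (by rw [hdeg1]; exact pow_pos (expChar_pos k p) s)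
  have heq : kKq k X.functionField p s = φA.fieldRange :=
    eq_of_le_of_finrank_eq' hle (by rw [hdeg1, hdeg2])
  let ψ : Y.functionField ≃ₐ[k] X'.functionField :=
    (AlgEquiv.ofInjectiveField φA).trans
      ((IntermediateField.equivOfEq (heq.symm.trans hW.symm)).trans
        (AlgEquiv.ofInjectiveField W).symm)
  obtain ⟨i, hi⟩ := iso_of_functionField_equiv k X' Y hX' hnX' hY hnY ψ
  refine ⟨i.symm, ?_⟩
  rw [← hi, Iso.symm_hom, Iso.inv_hom_id_assoc]

end Main

end FrobTw9
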