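import Mathlib
import Groth.Prelude
import Groth.Agent.Lib.FrobTw9_helper9
import Groth.Agent.Lib.EulerBC2_helper9

/-!
# Cohomological invariants of Frobenius twists; purely inseparable quotients of smooth curves
(helper9).  APPEND-ONLY once landed.
-/

set_option autoImplicit false
universe u
open CategoryTheory CategoryTheory.Limits AlgebraicGeometry Opposite TopologicalSpace IntermediateField

namespace FrobTw9

section Inv

variable {k : Type u} [Field k]

/-- `k`-isomorphic schemes have the same `h^n(O)` -/
theorem finrank_HH_structure_of_iso {X Y : Scheme.{u}} [X.Over (Spec (CommRingCat.of k))]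
    [Y.Over (Spec (CommRingCat.of k))] (i : Y ≅ X)
    (hi : i.hom ≫ (X ↘ Spec (CommRingCat.of k)) = Y ↘ Spec (CommRingCat.of k))
    [CompactSpace X] [QuasiSeparatedSpace X] (n : ℕ) :
    Module.finrank k (Coh.HH Y (Coh.structureModule Y) n) =
      Module.finrank k (Coh.HH X (Coh.structureModule X) n) := by
  have h1 : Spec.map (CommRingCat.ofHom (algebraMap k k)) = 𝟙 _ := by
    rw [Algebra.algebraMap_self]
    exact Spec.map_id _
  have hpb : IsPullback i.hom (Y ↘ Spec (CommRingCat.of k)) (X ↘ Spec (CommRingCat.of k))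
      (Spec.map (CommRingCat.ofHom (algebraMap k k))) := by
    rw [h1]
    exact IsPullback.of_horiz_isIso ⟨by rw [Category.comp_id, hi]⟩
  exact Groth.Agent.EulerBC.finrank_HH_structure_pullback i.hom hpb n

/-- the Frobenius twist has the same `h^n(O)` -/
theorem finrank_HH_structure_twist (p : ℕ) [Fact p.Prime] [CharP k p] (r : ℕ)
    {X X' : Scheme.{u}} [X.Over (Spec (CommRingCat.of k))]
    [X'.Over (Spec (CommRingCat.of k))] (π : X' ⟶ X)
    (hπ : IsPullback π (X' ↘ Spec (CommRingCat.of k)) (X ↘ Spec (CommRingCat.of k))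
      (Spec.map (CommRingCat.ofHom (iterateFrobenius k p r))))
    [CompactSpace X] [QuasiSeparatedSpace X] (n : ℕ) :
    Module.finrank k (Coh.HH X' (Coh.structureModule X') n) =
      Module.finrank k (Coh.HH X (Coh.structureModule X) n) := by
  letI : Algebra k k := (iterateFrobenius k p r).toAlgebra
  exact Groth.Agent.EulerBC.finrank_HH_structure_pullback (k := k) (k' := k) π hπ n

end Inv

section Main

attribute [local instance] Curv2.stalkAlgebra

variable (k : Type u) [Field k]
  (X Y : Scheme.{u}) [X.Over (Spec (CommRingCat.of k))] [Y.Over (Spec (CommRingCat.of k))]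
  [IsIntegral X] [IsIntegral Y]
  [IsProper (X ↘ Spec (CommRingCat.of k))] [IsProper (Y ↘ Spec (CommRingCat.of k))]
  [Smooth (X ↘ Spec (CommRingCat.of k))]

/-- **S6558** -/
theorem main6558 (p : ℕ) [Fact p.Prime] [CharP k p] (hdX : topologicalKrullDim X = 1) (hdY : topologicalKrullDim Y = 1)
    (hregY : ∀ y : Y, IsRegularLocalRing (Y.presheaf.stalk y))
    (f : X ⟶ Y) (hf : f ≫ (Y ↘ Spec (CommRingCat.of k)) = X ↘ Spec (CommRingCat.of k))
    (e : f (genericPoint X) = genericPoint Y)
    (h0 : Module.finrank k (Coh.HH X (Coh.structureModule X) 0) = 1)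
    (hpi : letI := ((Y.presheaf.stalkSpecializes (specializes_of_eq e) ≫
        f.stalkMap (genericPoint X)).hom).toAlgebra
      IsPurelyInseparable Y.functionField X.functionField) :
    Smooth (Y ↘ Spec (CommRingCat.of k)) ∧
      Module.finrank k (Coh.HH Y (Coh.structureModule Y) 0) = 1 ∧
      Curv2.genus k Y = Curv2.genus k X := by
  obtain ⟨r, i, hi⟩ := exists_iso_twist k p X Y hdX hdY (isNormal_of_regular Y hregY) f hf e hpi
  letI ov : (pullback (X ↘ Spec (CommRingCat.of k))
      (Spec.map (CommRingCat.ofHom (iterateFrobenius k p r)))).Over (Spec (CommRingCat.of k)) :=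
    ⟨pullback.snd _ _⟩
  have hπ : IsPullback (pullback.fst (X ↘ Spec (CommRingCat.of k))
      (Spec.map (CommRingCat.ofHom (iterateFrobenius k p r))))
      ((pullback (X ↘ Spec (CommRingCat.of k))
        (Spec.map (CommRingCat.ofHom (iterateFrobenius k p r)))) ↘ Spec (CommRingCat.of k))
      (X ↘ Spec (CommRingCat.of k))
      (Spec.map (CommRingCat.ofHom (iterateFrobenius k p r))) := IsPullback.of_hasPullback _ _
  have hi' : i.hom ≫ ((pullback (X ↘ Spec (CommRingCat.of k))
        (Spec.map (CommRingCat.ofHom (iterateFrobenius k p r)))) ↘ Spec (CommRingCat.of k)) =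
      Y ↘ Spec (CommRingCat.of k) := hi
  haveI hsm := smooth_twist hπ
  haveI hpr := isProper_twist hπ
  haveI : IsLocallyNoetherian X :=
    LocallyOfFiniteType.isLocallyNoetherian (X ↘ Spec (CommRingCat.of k))
  haveI : CompactSpace X :=
    QuasiCompact.compactSpace_of_compactSpace (X ↘ Spec (CommRingCat.of k))
  haveI : QuasiSeparatedSpace X := inferInstance
  haveI : IsLocallyNoetherian (pullback (X ↘ Spec (CommRingCat.of k))
      (Spec.map (CommRingCat.ofHom (iterateFrobenius k p r)))) :=
    LocallyOfFiniteType.isLocallyNoetherian ((pullback (X ↘ Spec (CommRingCat.of k))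
        (Spec.map (CommRingCat.ofHom (iterateFrobenius k p r)))) ↘ Spec (CommRingCat.of k))
  haveI : CompactSpace ↥(pullback (X ↘ Spec (CommRingCat.of k))
      (Spec.map (CommRingCat.ofHom (iterateFrobenius k p r)))) :=
    QuasiCompact.compactSpace_of_compactSpace ((pullback (X ↘ Spec (CommRingCat.of k))
        (Spec.map (CommRingCat.ofHom (iterateFrobenius k p r)))) ↘ Spec (CommRingCat.of k))
  haveI : QuasiSeparatedSpace ↥(pullback (X ↘ Spec (CommRingCat.of k))
      (Spec.map (CommRingCat.ofHom (iterateFrobenius k p r)))) := inferInstance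
  refine ⟨?_, ?_, ?_⟩
  · rw [← hi']
    infer_instance
  · rw [finrank_HH_structure_of_iso i hi' 0, finrank_HH_structure_twist p r _ hπ 0, h0]
  · unfold Curv2.genus
    rw [finrank_HH_structure_of_iso i hi' 1, finrank_HH_structure_twist p r _ hπ 1]

end Main

end FrobTw9
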