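import Mathlib
import Groth.Prelude
import Groth.Agent.Lib.P1Iso9_helper9
import Groth.Agent.Lib.VBCurve2_helper9
import Groth.Agent.Lib.CurveG12b_helper9
import Groth.Agent.Lib.CurveSub1_helper9
import Groth.Agent.Lib.FLF5_helper8
import Groth.Agent.Lib.Horrocks7_helper9
import Groth.Agent.S3572

/-!
# The morphism to projective space attached to a linear series on a regular curve (helper9)
APPEND-ONLY once landed.
-/

set_option autoImplicit false
universe u
open CategoryTheory CategoryTheory.Limits AlgebraicGeometry Opposite TopologicalSpace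

namespace LinSerMor

open QcqsLoc QCohExtn GenLocH8 TensH8 FLFH8 SDivGenH8

section Image

variable {X : Scheme.{u}}

/-- the image of the map `O^r ⟶ G` given by `r` global sections is generated by the images of the
standard sections -/
theorem generatedBy_image {G : X.Modules} {r : ℕ} (t : Fin r → Γ(G, ⊤)) :
    ProjUP.GeneratedBy (Abelian.image (freeHom G t))
      (fun i => ap (Abelian.factorThruImage (freeHom G t)) ⊤ (stdSec r ⊤ i)) := by
  intro x
  rw [eq_top_iff]
  intro z _
  obtain ⟨O, hxO, q, rfl⟩ := TopCat.Presheaf.exists_germ_eq (Abelian.image (freeHom G t)).presheaf z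
  obtain ⟨V, hV, hxV, p, hp⟩ :=
    EpiLoc.exists_local_lift (Abelian.factorThruImage (freeHom G t)) q hxO
  have hp' : ap (Abelian.factorThruImage (freeHom G t)) V p =
      rF (Abelian.image (freeHom G t)) hV q := hp
  rw [← SecOrdH8.germ_rF (Abelian.image (freeHom G t)) hV x hxV q, ← hp',
    section_eq_sum_stdSec r V p, map_sum, map_sum]
  refine Submodule.sum_mem _ (fun i _ => ?_)
  rw [ap_smul, Groth.Agent.Lib.QCohLoc_helper4.germ_smul]
  apply Submodule.smul_mem
  apply Submodule.subset_span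
  refine ⟨i, ?_⟩
  show (Abelian.image (freeHom G t)).presheaf.germ ⊤ x trivial
      (ap (Abelian.factorThruImage (freeHom G t)) ⊤ (stdSec r ⊤ i)) = _
  rw [← SecOrdH8.germ_rF (Abelian.image (freeHom G t)) (le_top : V ≤ ⊤) x hxV, ← ap_rF,
    rF_stdSec]

/-- the image sections map to the given sections -/
theorem image_ι_sec {G : X.Modules} {r : ℕ} (t : Fin r → Γ(G, ⊤)) (i : Fin r) :
    ap (Abelian.image.ι (freeHom G t)) ⊤
      (ap (Abelian.factorThruImage (freeHom G t)) ⊤ (stdSec r ⊤ i)) = t i := by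
  have h1 : ap (Abelian.image.ι (freeHom G t)) ⊤
      (ap (Abelian.factorThruImage (freeHom G t)) ⊤ (stdSec r ⊤ i)) =
      ap (Abelian.factorThruImage (freeHom G t) ≫ Abelian.image.ι (freeHom G t)) ⊤
        (stdSec r ⊤ i) := rfl
  rw [h1, Abelian.image.fac]
  have h2 := freeHom_app_smul_stdSec G t ⊤ i (1 : Γ(X, ⊤))
  rw [one_smul, one_smul, SubExt.rF_self] at h2
  exact h2

end Image

section Main

variable (k : Type u) [Field k] (X : Scheme.{u}) [X.Over (Spec (CommRingCat.of k))]
  [IsIntegral X] [IsProper (X ↘ Spec (CommRingCat.of k))]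

/-- **statement of S6578** -/
theorem exists_morphism (hdim : topologicalKrullDim X = 1)
    (hreg : ∀ x : X, IsRegularLocalRing (X.presheaf.stalk x))
    (d r : ℕ) (L : X.Modules) (s : Fin (r + 1) → LinSer.Sect X L)
    (hL : LinSer.IsLinSer k X L d r s) :
    ∃ (φ : X ⟶ CohB1.ProjSpace r k)
      (α : (Scheme.Modules.pullback φ).obj (Twist.twistProjSpace r k 1) ⟶ L),
      φ ≫ CohB1.ProjSpace.toSpec r k = X ↘ (Spec (CommRingCat.of k)) ∧
        ∀ i : Fin (r + 1), ap α ⊤ (ProjUP.pullSec φ (Twist.twistProjSpace r k 1)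
          (ProjUP.coord r k i)) = s i := by
  haveI : IsLocallyNoetherian X :=
    LocallyOfFiniteType.isLocallyNoetherian (X ↘ Spec (CommRingCat.of k))
  obtain ⟨hLinv, -, hLli⟩ := hL
  set f := freeHom L s with hf
  -- `s 0 ≠ 0`
  have hs0 : s 0 ≠ 0 := by
    intro h
    have := hLli (fun i => if i = 0 then 1 else 0) (by
      rw [Finset.sum_eq_single 0]
      · simp [h]
      · intro b _ hb
        simp [hb]
      · intro h0
        exact absurd (Finset.mem_univ _) h0)
    have h1 := congrFun this 0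
    simp at h1
  have hf0 : f ≠ 0 := by
    intro h
    apply hs0
    rw [← image_ι_sec s 0]
    have : Abelian.image.ι f = 0 := by
      rw [← cancel_epi (Abelian.factorThruImage f), Abelian.image.fac, comp_zero]
      exact h
    rw [this]
    rfl
  have hE : FlatMod.IsFinLocFreeOfRank (r + 1) (FlatMod.freeMod X (r + 1)) :=
    Groth.Agent.Horrocks.isFinLocFreeOfRank_sigma (fun _ : Fin (r + 1) => Coh.structureModule X)
      (fun _ => TensH8.isInvertible_structureModule)
  have hL1 : FlatMod.IsFinLocFreeOfRank 1 L := finLocFreeOfRank_one_of_isInvertible hLinv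
  obtain ⟨rK, rI, -, hI, -, hrI, -, -⟩ := VBCurve.exists_kerIm_data k X hreg hdim.le f hf0 hE
    (FLFH8.IsFinLocFreeOfRank.isFinLocFree L hL1)
  have hle : rI ≤ 1 := CurveSub.rank_le_of_mono (Abelian.image.ι f) hI hL1
  have hrI1 : rI = 1 := by omega
  rw [hrI1] at hI
  have hIinv : PicF.IsInvertible (Abelian.image f) := CurveG12.isInvertible_of_rank_one hI
  obtain ⟨φ, hφ, τ, hτ⟩ := Groth.Agent.S3572.result r (X ↘ Spec (CommRingCat.of k))
    (Abelian.image f) hIinv _ (generatedBy_image s)
  refine ⟨φ, τ.hom ≫ Abelian.image.ι f, hφ, fun i => ?_⟩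
  have h1 : ap (τ.hom ≫ Abelian.image.ι f) ⊤ (ProjUP.pullSec φ (Twist.twistProjSpace r k 1)
      (ProjUP.coord r k i)) = ap (Abelian.image.ι f) ⊤ (ap τ.hom ⊤
        (ProjUP.pullSec φ (Twist.twistProjSpace r k 1) (ProjUP.coord r k i))) := rfl
  rw [h1]
  have h2 : ap τ.hom ⊤ (ProjUP.pullSec φ (Twist.twistProjSpace r k 1) (ProjUP.coord r k i)) =
      ap (Abelian.factorThruImage f) ⊤ (stdSec (r + 1) ⊤ i) := hτ i
  rw [h2]
  exact image_ι_sec s i

end Main

end LinSerMor
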