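import Mathlib
import Groth.Prelude
import Groth.Agent.Lib.CurveSepPt3_helper9
import Groth.Agent.Lib.LinSerMor_helper9
import Groth.Agent.Lib.FrobTw10_helper9
import Groth.Agent.Lib.HypInv3_helper9
import Groth.Agent.Lib.DegPull3_helper9
import Groth.Agent.S4445

/-!
# A linear series of small degree does not come from the Frobenius twist (helper9)
APPEND-ONLY once landed.
-/

set_option autoImplicit false
universe u
open CategoryTheory CategoryTheory.Limits AlgebraicGeometry Opposite TopologicalSpace
open QcqsLoc GenLocH8 TensH8 PBH8 QCohExtn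

namespace CSepPt

attribute [local instance] Curv2.stalkAlgebra

section ResDeg

/-- transporting the degree of the local ring extension along an equality of points -/
theorem finrank_stalkSpecializes_comp {X Y : Scheme.{u}} (f : X ⟶ Y) (x : X) (y : Y)
    (h : f x = y) :
    (letI := (Y.presheaf.stalkSpecializes (specializes_of_eq h) ≫ f.stalkMap x).hom.toAlgebra
     Module.finrank (Y.presheaf.stalk y) (X.presheaf.stalk x)) =
    (letI := (f.stalkMap x).hom.toAlgebra
     Module.finrank (Y.presheaf.stalk (f x)) (X.presheaf.stalk x)) := by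
  subst h
  have h1 : Y.presheaf.stalkSpecializes (specializes_of_eq (rfl : f x = f x)) = 𝟙 _ :=
    TopCat.Presheaf.stalkSpecializes_refl _ _
  rw [h1, Category.id_comp]

end ResDeg

section Count

variable (k : Type u) [Field k] (p : ℕ) [Fact p.Prime] [CharP k p]
  (X : Scheme.{u}) [X.Over (Spec (CommRingCat.of k))]
  [IsIntegral X] [IsProper (X ↘ Spec (CommRingCat.of k))] [Smooth (X ↘ Spec (CommRingCat.of k))]

set_option maxHeartbeats 1600000 in
/-- **a `g^r_d` with `d ≤ p r` on a curve of positive genus contains a pencil whose ratio is not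
in `k K^p`** -/
theorem exists_ratio_not_mem [ExpChar X.functionField p]
    (hdim : topologicalKrullDim X = 1)
    (h0 : Module.finrank k (Coh.HH X (Coh.structureModule X) 0) = 1)
    (hg : 1 ≤ Curv2.genus k X)
    (d r : ℕ) (hr : 1 ≤ r) (hdr : d ≤ p * r) (L : X.Modules) (s : Fin (r + 1) → LinSer.Sect X L)
    (hL : LinSer.IsLinSer k X L d r s) :
    ∃ i j : Fin (r + 1), i ≠ j ∧ ∃ c : X.functionField,
      c ∉ FrobTw9.kKq k X.functionField p 1 ∧
      L.presheaf.germ ⊤ (genericPoint X) trivial (s j) =
        c • L.presheaf.germ ⊤ (genericPoint X) trivial (s i) := by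
  classical
  haveI : IsLocallyNoetherian X :=
    LocallyOfFiniteType.isLocallyNoetherian (X ↘ Spec (CommRingCat.of k))
  have hreg : ∀ x : X, IsRegularLocalRing (X.presheaf.stalk x) :=
    fun x => VBCurve.hreg_of_smooth k X x
  obtain ⟨φ, α, hφ, hα⟩ := LinSerMor.exists_morphism k X hdim hreg d r L s hL
  obtain ⟨hLinv, hLdeg, hLli⟩ := hL
  obtain ⟨i₀, hx⟩ := cover_chart k r (φ (genericPoint X))
  by_contra hcon
  push_neg at hcon
  -- all ratios lie in `k K^p`
  have hrat : ∀ j, ratio φ hx j ∈ FrobTw9.kKq k X.functionField p 1 := by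
    intro j
    by_cases hj : j = i₀
    · subst hj
      rw [ratio_self]
      exact one_mem _
    · by_contra hne
      refine hcon i₀ j (Ne.symm hj) (ratio φ hx j) hne ?_
      rw [← hα j, ← hα i₀]
      exact germ_sec_eq φ hx L α j
  -- the twist
  suffices H : ∀ (X' : Scheme.{u}) [X'.Over (Spec (CommRingCat.of k))] (π : X' ⟶ X)
      (_ : IsPullback π (X' ↘ Spec (CommRingCat.of k)) (X ↘ Spec (CommRingCat.of k))
        (Spec.map (CommRingCat.ofHom (iterateFrobenius k p 1)))), False by
    letI ov : (pullback (X ↘ Spec (CommRingCat.of k))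
        (Spec.map (CommRingCat.ofHom (iterateFrobenius k p 1)))).Over (Spec (CommRingCat.of k)) :=
      ⟨pullback.snd _ _⟩
    exact H (pullback (X ↘ Spec (CommRingCat.of k))
        (Spec.map (CommRingCat.ofHom (iterateFrobenius k p 1)))) (pullback.fst _ _)
        (IsPullback.of_hasPullback _ _)
  intro X' _ π hπ
  haveI hint : IsIntegral X' := FrobTw9.isIntegral_twist hπ
  haveI hprop : IsProper (X' ↘ Spec (CommRingCat.of k)) := FrobTw9.isProper_twist hπ
  haveI hsm : Smooth (X' ↘ Spec (CommRingCat.of k)) := FrobTw9.smooth_twist hπ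
  have hdX' : topologicalKrullDim X' = 1 := by rw [FrobTw9.dim_twist hπ, hdim]
  have hX : ∀ x : X, IsClosed ({x} : Set X) → ringKrullDim (X.presheaf.stalk x) = 1 :=
    fun x hx => CurvePtInv.ringKrullDim_stalk_of_closed hdim hx
  have hX' : ∀ x : X', IsClosed ({x} : Set X') → ringKrullDim (X'.presheaf.stalk x) = 1 :=
    fun x hx => CurvePtInv.ringKrullDim_stalk_of_closed hdX' hx
  have hnX : Pi1.IsNormalScheme X := FrobTw9.isNormal_of_regular _ hreg
  have hnX' : Pi1.IsNormalScheme X' :=
    FrobTw9.isNormal_of_regular _ (fun x => VBCurve.hreg_of_smooth k _ x)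
  haveI : CompactSpace X :=
    QuasiCompact.compactSpace_of_compactSpace (X ↘ Spec (CommRingCat.of k))
  have h0' : Module.finrank k (Coh.HH X' (Coh.structureModule X') 0) = 1 := by
    rw [FrobTw9.finrank_HH_structure_twist p 1 π hπ 0, h0]
  have hg' : Curv2.genus k X' = Curv2.genus k X :=
    FrobTw9.finrank_HH_structure_twist p 1 π hπ 1
  obtain ⟨W, hW⟩ := FrobTw9.exists_algHom_twist k p 1 X X' π hπ
  have hWr : ∀ j, ratio φ hx j ∈ W.range := by
    intro j
    have h1 := hrat j
    rw [← hW] at h1
    exact h1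
  obtain ⟨F, ⟨hF1, hF2⟩, -⟩ := Groth.Agent.S4445.result k X X' hX hnX hX' W
  have hsq := P1Lur9.square_of_result F _ hF2
  obtain ⟨ψ, hψ1, hψ2⟩ := exists_factor_morphism k r φ hφ hX' hnX' hx W hWr F hsq
  subst hψ2
  obtain ⟨hFξ, hFst⟩ := hF2
  -- degrees
  have hO1 : PicF.IsInvertible (Twist.twistProjSpace r k 1) :=
    Groth.Agent.Horrocks.isInvertible_OO r k 1
  obtain ⟨N, hNdef⟩ : ∃ N : X'.Modules, N = (Scheme.Modules.pullback ψ).obj
    (Twist.twistProjSpace r k 1) := ⟨_, rfl⟩
  have hN : PicF.IsInvertible N := hNdef ▸ TensH8.isInvertible_pullback ψ hO1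
  have e1 : (Scheme.Modules.pullback (F ≫ ψ)).obj (Twist.twistProjSpace r k 1) ≅
      (Scheme.Modules.pullback F).obj N :=
    hNdef ▸ ((Scheme.Modules.pullbackComp F ψ).app (Twist.twistProjSpace r k 1)).symm
  have hd1 := CurveTens.deg_of_iso k X e1 1
  have hd2 := DegPull.deg_pullback k hdim hdX' F hF1 hFξ 1 N
    (FLFH8.finLocFreeOfRank_one_of_isInvertible hN)
  -- the residue degree of `F` at the generic point is `p`
  have hres : F.residueDegree (genericPoint X) = p := by
    have hf1 : IsField (X.presheaf.stalk (genericPoint X)) := Field.toIsField X.functionField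
    have hf2 : IsField (X'.presheaf.stalk (F (genericPoint X))) := by
      rw [hFξ]
      exact Field.toIsField X'.functionField
    rw [← P1Iso.finrank_stalk_eq_residueDegree F (genericPoint X) hf1 hf2,
      ← finrank_stalkSpecializes_comp F (genericPoint X) (genericPoint X') hFξ]
    have h1 : Module.finrank (FrobTw9.kKq k X.functionField p 1) X.functionField = p := by
      have := FrobTw9.finrank_kKq_functionField k X p hX 1
      rw [pow_one] at this
      exact this
    rw [← h1, ← hW]
    letI := (X'.presheaf.stalkSpecializes (specializes_of_eq hFξ) ≫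
      F.stalkMap (genericPoint X)).hom.toAlgebra
    exact Algebra.finrank_eq_of_equiv_equiv (AlgEquiv.ofInjectiveField W).toRingEquiv
      (RingEquiv.refl X.functionField) (by
        ext x
        show W x = (X'.presheaf.stalkSpecializes (specializes_of_eq hFξ) ≫
          F.stalkMap (genericPoint X)).hom x
        rw [hFst]
        rfl)
  -- the degree bound
  have hM : PicF.IsInvertible ((Scheme.Modules.pullback (F ≫ ψ)).obj
      (Twist.twistProjSpace r k 1)) := TensH8.isInvertible_pullback _ hO1
  have hs0 : s 0 ≠ 0 := by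
    intro h
    have := hLli (fun i => if i = 0 then 1 else 0) (by
      rw [Finset.sum_eq_single 0]
      · simp [h]
      · intro b _ hb
        simp [hb]
      · intro h0
        exact absurd (Finset.mem_univ _) h0)
    have h1 := congrFun this 0
    simp at h1
  have hα0 : α ≠ 0 := by
    intro h
    apply hs0
    rw [← hα 0, h]
    rfl
  have hle := (CurveDeg.deg_le_of_ne_zero k X hdim hM hLinv α hα0).1
  rw [hd1, hd2, hres, hLdeg] at hle
  -- the pulled back coordinates are independent sections of `N`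
  subst hNdef
  have hNc := ProperFinH9.isCoh_of_isInvertible hN
  haveI := ProperFinH9.finite_HH_of_proper k X' _ hNc 0
  let pF : Γ((Scheme.Modules.pullback ψ).obj (Twist.twistProjSpace r k 1), ⊤) →+
      Γ((Scheme.Modules.pullback F).obj ((Scheme.Modules.pullback ψ).obj
        (Twist.twistProjSpace r k 1)), ⊤) :=
    AddMonoidHom.mk' (ProjUP.pullSec F _) (HypInv.pullSec_add F _)
  let Λ : Γ((Scheme.Modules.pullback ψ).obj (Twist.twistProjSpace r k 1), ⊤) →+ Γ(L, ⊤) :=
    (ap α ⊤).comp ((ap ((Scheme.Modules.pullbackComp F ψ).hom.app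
      (Twist.twistProjSpace r k 1)) ⊤).comp pF)
  have hΛt : ∀ i, Λ (ProjUP.pullSec ψ (Twist.twistProjSpace r k 1) (ProjUP.coord r k i)) = s i := by
    intro i
    rw [← hα i]
    show ap α ⊤ (ap ((Scheme.Modules.pullbackComp F ψ).hom.app (Twist.twistProjSpace r k 1)) ⊤
      (ProjUP.pullSec F _ (ProjUP.pullSec ψ (Twist.twistProjSpace r k 1)
        (ProjUP.coord r k i)))) = _
    congr 1
    exact HypInv.pullbackComp_hom_pullSec F ψ (Twist.twistProjSpace r k 1) (ProjUP.coord r k i)
  have hΛsmul : ∀ (c : k) t, Λ ((show Γ(X', ⊤) from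
      Coh.toGlobal (X' ↘ Spec (CommRingCat.of k)) c) • t) =
      (show Γ(X, ⊤) from Coh.toGlobal (X ↘ Spec (CommRingCat.of k)) c) • Λ t := by
    intro c t
    show ap α ⊤ (ap ((Scheme.Modules.pullbackComp F ψ).hom.app (Twist.twistProjSpace r k 1)) ⊤
      (ProjUP.pullSec F _ (_ • t))) = _
    rw [HypInv.pullSec_smul, ap_smul, ap_smul, HypInv.appTop_toGlobal, hF1]
    rfl
  have hli : LinearIndependent k (fun i : Fin (r + 1) =>
      (CurveTens.e₀ ((Scheme.Modules.pullback ψ).obj (Twist.twistProjSpace r k 1))).symm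
        (ProjUP.pullSec ψ (Twist.twistProjSpace r k 1) (ProjUP.coord r k i))) := by
    rw [Fintype.linearIndependent_iff]
    intro c hc
    have h1 := congrArg (CurveTens.e₀ _) hc
    rw [map_sum, map_zero] at h1
    have h2 : ∀ i, CurveTens.e₀ ((Scheme.Modules.pullback ψ).obj (Twist.twistProjSpace r k 1))
        (c i • (CurveTens.e₀ ((Scheme.Modules.pullback ψ).obj
          (Twist.twistProjSpace r k 1))).symm
          (ProjUP.pullSec ψ (Twist.twistProjSpace r k 1) (ProjUP.coord r k i))) =
        (show Γ(X', ⊤) from Coh.toGlobal (X' ↘ Spec (CommRingCat.of k)) (c i)) •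
          ProjUP.pullSec ψ (Twist.twistProjSpace r k 1) (ProjUP.coord r k i) := by
      intro i
      have h3 : c i • (CurveTens.e₀ ((Scheme.Modules.pullback ψ).obj
          (Twist.twistProjSpace r k 1))).symm
          (ProjUP.pullSec ψ (Twist.twistProjSpace r k 1) (ProjUP.coord r k i)) =
          (Coh.toGlobal (X' ↘ Spec (CommRingCat.of k)) (c i)) •
            (CurveTens.e₀ ((Scheme.Modules.pullback ψ).obj
              (Twist.twistProjSpace r k 1))).symm
            (ProjUP.pullSec ψ (Twist.twistProjSpace r k 1) (ProjUP.coord r k i)) := rfl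
      rw [h3, CurveTens.e₀_smul, AddEquiv.apply_symm_apply]
    simp only [h2] at h1
    have h4 := congrArg Λ h1
    rw [map_sum, map_zero] at h4
    simp only [hΛsmul, hΛt] at h4
    have h5 := hLli c h4
    intro i
    exact congrFun h5 i
  have hh0 : r + 1 ≤ Module.finrank k (Coh.HH X' ((Scheme.Modules.pullback ψ).obj
      (Twist.twistProjSpace r k 1)) 0) := by
    have := hli.fintype_card_le_finrank
    simpa using this
  haveI hnt : Nontrivial (Coh.HH X' ((Scheme.Modules.pullback ψ).obj
      (Twist.twistProjSpace r k 1)) 0) :=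
    Module.nontrivial_of_finrank_pos (R := k) (by omega)
  obtain ⟨hb1, hb2⟩ := CurveLin.h0_le_deg_add_one k X' hdX' h0' hN hnt
  have hh0' : ((r : ℤ) + 1) ≤ (Module.finrank k (Coh.HH X' ((Scheme.Modules.pullback ψ).obj
      (Twist.twistProjSpace r k 1)) 0) : ℤ) := by exact_mod_cast hh0
  have hp0 : (0 : ℤ) < (p : ℤ) := by exact_mod_cast (Fact.out : p.Prime).pos
  have hdr' : (d : ℤ) ≤ (p : ℤ) * (r : ℤ) := by exact_mod_cast hdr
  have hNr : Curv2.deg k X' ((Scheme.Modules.pullback ψ).obj
      (Twist.twistProjSpace r k 1)) 1 ≤ r := by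
    by_contra hgt
    push_neg at hgt
    have : (p : ℤ) * ((r : ℤ) + 1) ≤ (p : ℤ) * Curv2.deg k X' ((Scheme.Modules.pullback ψ).obj
        (Twist.twistProjSpace r k 1)) 1 := by
      apply mul_le_mul_of_nonneg_left _ hp0.le
      omega
    nlinarith
  have hNr2 : (r : ℤ) ≤ Curv2.deg k X' ((Scheme.Modules.pullback ψ).obj
      (Twist.twistProjSpace r k 1)) 1 := by linarith
  have hNeq : Curv2.deg k X' ((Scheme.Modules.pullback ψ).obj
      (Twist.twistProjSpace r k 1)) 1 = r := le_antisymm hNr hNr2
  have hgen := hb2 (by rw [hNeq]; linarith) (by rw [hNeq]; exact_mod_cast hr)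
  rw [hg'] at hgen
  omega

end Count

end CSepPt
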