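import Mathlib
import Groth.Agent.Lib.FlatDedekind_helper4
import Groth.Agent.Lib.Regular_helper5

/-! Reduced schemes whose maximal points dominate are flat over a regular base of dimension
at most one. -/

universe u

namespace Groth.Agent.Lib.DedOpenH8

open AlgebraicGeometry CategoryTheory TopologicalSpace Topology
open Groth.Agent.Lib.FlatDedekindH4

theorem maxIdeal_eq_bot_of_ass_of_isReduced {A : Type*} [CommRing A] [IsLocalRing A]
    [_root_.IsReduced A]
    (h : IsAssociatedPrime (IsLocalRing.maximalIdeal A) A) : IsLocalRing.maximalIdeal A = ⊥ := by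
  obtain ⟨hp, x, hx⟩ := h
  by_cases hxm : x ∈ IsLocalRing.maximalIdeal A
  · exfalso
    have h1 : x ∈ (Submodule.colon (⊥ : Submodule A A) {x}).radical := hx ▸ hxm
    obtain ⟨n, hn⟩ := h1
    rw [Submodule.mem_colon_singleton, Submodule.mem_bot, smul_eq_mul, ← pow_succ] at hn
    have hx0 : x = 0 := IsReduced.eq_zero _ ⟨n + 1, hn⟩
    apply hp.ne_top
    rw [hx, hx0, Ideal.radical_eq_top]
    ext r
    simp [Submodule.mem_colon_singleton]
  · have hu : IsUnit x := by
      by_contra hnu
      exact hxm ((IsLocalRing.mem_maximalIdeal x).mpr hnu)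
    rw [hx, eq_bot_iff]
    intro a ha
    obtain ⟨n, hn⟩ := ha
    rw [Submodule.mem_colon_singleton, Submodule.mem_bot, smul_eq_mul] at hn
    have h2 : a ^ n = 0 := by
      obtain ⟨u, rfl⟩ := hu
      exact (Units.mul_left_eq_zero u).mp hn
    rw [Ideal.mem_bot]
    exact IsReduced.eq_zero _ ⟨n, h2⟩

variable {X Y : Scheme.{u}}

theorem flat_of_reduced_of_isMax [IsIntegral Y] [IsLocallyNoetherian X] [IsReduced X]
    (hreg : ∀ y : Y, IsRegularLocalRing (Y.presheaf.stalk y))
    (hd : ∀ y : Y, ringKrullDim (Y.presheaf.stalk y) ≤ 1) (f : X ⟶ Y)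
    (h : ∀ x : X, IsMax x → f x = genericPoint Y) : Flat f := by
  rw [Flat.iff_flat_stalkMap]
  intro x
  haveI := hreg (f x)
  haveI : IsPrincipalIdealRing (Y.presheaf.stalk (f x)) := pid_of_regular _ (hd (f x))
  refine flat_of_ass (f.stalkMap x).hom ?_
  intro p hp a hap
  obtain ⟨x', hsp, hass, hcomap⟩ := exists_assPoint_of_mem_ass x p hp
  have hbot := maxIdeal_eq_bot_of_ass_of_isReduced hass
  have hmax : IsMax x' := by
    have hf : IsField (X.presheaf.stalk x') := IsLocalRing.isField_iff_maximalIdeal_eq.mpr hbot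
    have h0 : ringKrullDim (X.presheaf.stalk x') = 0 := ringKrullDim_eq_zero_of_isField hf
    rw [ringKrullDim_stalk_eq_coheight] at h0
    have h1 : Order.coheight x' = 0 := by exact_mod_cast h0
    exact Order.coheight_eq_zero.mp h1
  have hgen : f.base x' = genericPoint Y := h x' hmax
  have hnat := Scheme.Hom.stalkSpecializes_stalkMap_apply f x' x hsp a
  have hmem : (X.presheaf.stalkSpecializes hsp).hom ((f.stalkMap x).hom a) ∈
      IsLocalRing.maximalIdeal (X.presheaf.stalk x') := by
    have h8 : (f.stalkMap x).hom a ∈ Ideal.comap (X.presheaf.stalkSpecializes hsp).hom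
        (IsLocalRing.maximalIdeal (X.presheaf.stalk x')) := by rw [hcomap]; exact hap
    exact h8
  have hnu : ¬ IsUnit ((Y.presheaf.stalkSpecializes (f.base.hom.map_specializes hsp)).hom a) := by
    intro hu
    have hu' : IsUnit ((f.stalkMap x').hom
        ((Y.presheaf.stalkSpecializes (f.base.hom.map_specializes hsp)).hom a)) :=
      hu.map (f.stalkMap x').hom
    have hmem' : (f.stalkMap x').hom
        ((Y.presheaf.stalkSpecializes (f.base.hom.map_specializes hsp)).hom a) ∈
        IsLocalRing.maximalIdeal (X.presheaf.stalk x') := by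
      rw [show (f.stalkMap x').hom
        ((Y.presheaf.stalkSpecializes (f.base.hom.map_specializes hsp)).hom a) =
        (X.presheaf.stalkSpecializes hsp).hom ((f.stalkMap x).hom a) from hnat]
      exact hmem
    exact (IsLocalRing.mem_maximalIdeal _).mp hmem' hu'
  have hz : (Y.presheaf.stalkSpecializes (f.base.hom.map_specializes hsp)).hom a = 0 :=
    eq_zero_of_not_isUnit_generic (f.base x') hgen _ hnu
  exact (NormalBiratH7.stalkSpecializes_injective (f.base x') (f.base x) hgen
    (f.base.hom.map_specializes hsp)) (hz.trans (map_zero _).symm)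

end Groth.Agent.Lib.DedOpenH8
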