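import Mathlib
import Groth.Prelude
import Groth.Agent.Lib.P1Iso7_helper9
import Groth.Agent.Lib.CurveLin3_helper9

/-!
# A degree two invertible module with two sections on a curve of positive genus gives a finite
morphism of degree two to the projective line (helper9).  APPEND-ONLY once landed.
-/

set_option autoImplicit false
universe u
open CategoryTheory CategoryTheory.Limits AlgebraicGeometry Opposite TopologicalSpace

namespace HypEll9

open QcqsLoc QCohExtn GenLocH8 TensH8 PBH8 FLFH8 CurveAmple Groth.Agent.HHVan EllPic P1Iso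

section Main

variable (k : Type u) [Field k] (X : Scheme.{u}) [X.Over (Spec (CommRingCat.of k))]
  [IsIntegral X] [IsProper (X ↘ Spec (CommRingCat.of k))]

/-- base point freeness: on a curve of positive genus, at every closed regular point one of two
independent sections of a degree two invertible module generates -/
theorem genAt_of_independent_closed (hdim : topologicalKrullDim X = 1)
    (h0 : Module.finrank k (Coh.HH X (Coh.structureModule X) 0) = 1)
    (hg : 1 ≤ Curv2.genus k X)
    (L : X.Modules) (hL : PicF.IsInvertible L) (hdeg : Curv2.deg k X L 1 = 2)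
    (σ₀ σ₁ : Coh.structureModule X ⟶ L)
    (hli : ∀ a b : k, a • σ₀ + b • σ₁ = 0 → a = 0 ∧ b = 0)
    (y : X) (hy : IsClosed ({y} : Set X)) (hreg : IsRegularLocalRing (X.presheaf.stalk y)) :
    CurveLin.GenAt L σ₀ y ∨ CurveLin.GenAt L σ₁ y := by
  haveI : IsLocallyNoetherian X :=
    LocallyOfFiniteType.isLocallyNoetherian (X ↘ Spec (CommRingCat.of k))
  by_contra hno
  push_neg at hno
  obtain ⟨hn0, hn1⟩ := hno
  set Z := Scheme.IdealSheafData.vanishingIdeal ⟨{y}, hy⟩ with hZ
  have hIinv : PicF.IsInvertible (ClSub.idealMod Z) :=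
    CurvePtInv.isInvertible_idealMod_point hdim hy hreg
  have hF : PicF.IsInvertible (CohB1.tensorMod (ClSub.idealMod Z) L) :=
    isInvertible_tensorMod hIinv hL
  have hdegF : Curv2.deg k X (CohB1.tensorMod (ClSub.idealMod Z) L) 1 ≤ 1 := by
    rw [CurveTens.deg_tensorMod k X hdim.le hIinv hL, hdeg, hZ, deg_idealMod_point]
    have := one_le_ptDeg k X y hy
    omega
  obtain ⟨τ₀, hτ₀⟩ := CurveGG.exists_lift_of_not_genAt hy hL σ₀ hn0
  obtain ⟨τ₁, hτ₁⟩ := CurveGG.exists_lift_of_not_genAt hy hL σ₁ hn1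
  have hli' : ∀ a b : k, a • τ₀ + b • τ₁ = 0 → a = 0 ∧ b = 0 := by
    intro a b h
    apply hli
    rw [← hτ₀, ← hτ₁, ← Linear.smul_comp, ← Linear.smul_comp, ← Preadditive.add_comp, h, zero_comp]
  have hFc := ProperFinH9.isCoh_of_isInvertible hF
  haveI := ProperFinH9.finite_HH_of_proper k X _ hFc 0
  haveI : Module.Finite k (Coh.structureModule X ⟶ CohB1.tensorMod (ClSub.idealMod Z) L) :=
    Module.Finite.equiv (CurveIdeal.thetaEquiv k _).symm
  have h2 : 2 ≤ Module.finrank k (Coh.HH X (CohB1.tensorMod (ClSub.idealMod Z) L) 0) := by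
    rw [← (CurveIdeal.thetaEquiv k _).finrank_eq]
    have hlin : LinearIndependent k ![τ₀, τ₁] := LinearIndependent.pair_iff.mpr hli'
    have := hlin.fintype_card_le_finrank
    simpa using this
  have hnt : Nontrivial (Coh.HH X (CohB1.tensorMod (ClSub.idealMod Z) L) 0) :=
    Module.nontrivial_of_finrank_pos (R := k) (by omega)
  obtain ⟨hle, heq⟩ := CurveLin.h0_le_deg_add_one k X hdim h0 hF hnt
  have h2' : (2 : ℤ) ≤ (Module.finrank k (Coh.HH X (CohB1.tensorMod (ClSub.idealMod Z) L) 0) : ℤ) := by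
    exact_mod_cast h2
  have hd1 : Curv2.deg k X (CohB1.tensorMod (ClSub.idealMod Z) L) 1 = 1 := by omega
  have hgen := heq (by omega) (by omega)
  omega

/-- **a degree two invertible module with two independent sections on a curve of positive genus
defines a finite morphism of degree two to the projective line** -/
theorem exists_finite_deg_two (hdim : topologicalKrullDim X = 1)
    (h0 : Module.finrank k (Coh.HH X (Coh.structureModule X) 0) = 1)
    (hg : 1 ≤ Curv2.genus k X)
    (hreg : ∀ x : X, IsClosed ({x} : Set X) → IsRegularLocalRing (X.presheaf.stalk x))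
    (L : X.Modules) (hL : PicF.IsInvertible L) (hdeg : Curv2.deg k X L 1 = 2)
    (h2 : 2 ≤ Module.finrank k (Coh.HH X L 0)) :
    ∃ f : X ⟶ CohB1.ProjSpace 1 k,
      f ≫ CohB1.ProjSpace.toSpec 1 k = X ↘ Spec (CommRingCat.of k) ∧ IsFinite f ∧
      f (genericPoint X) = genericPoint (CohB1.ProjSpace 1 k) ∧
      f.residueDegree (genericPoint X) = 2 ∧
      Nonempty ((Scheme.Modules.pullback f).obj (Twist.twistProjSpace 1 k 1) ≅ L) := by
  haveI : IsLocallyNoetherian X :=
    LocallyOfFiniteType.isLocallyNoetherian (X ↘ Spec (CommRingCat.of k))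
  haveI : CompactSpace X :=
    QuasiCompact.compactSpace_of_compactSpace (X ↘ Spec (CommRingCat.of k))
  have hHom : 2 ≤ Module.finrank k (Coh.structureModule X ⟶ L) := by
    rw [(CurveIdeal.thetaEquiv k L).finrank_eq]
    exact h2
  have hLc := ProperFinH9.isCoh_of_isInvertible hL
  haveI := ProperFinH9.finite_HH_of_proper k X L hLc 0
  haveI : Module.Finite k (Coh.structureModule X ⟶ L) :=
    Module.Finite.equiv (CurveIdeal.thetaEquiv k L).symm
  obtain ⟨σ₀, hσ₀⟩ := Module.finrank_pos_iff_exists_ne_zero.mp (by omega :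
    0 < Module.finrank k (Coh.structureModule X ⟶ L))
  obtain ⟨σ₁, hli0⟩ := exists_linearIndependent_pair_of_one_lt_finrank (by omega :
    1 < Module.finrank k (Coh.structureModule X ⟶ L)) hσ₀
  have hli := LinearIndependent.pair_iff.mp hli0
  let b : Fin 2 → (Coh.structureModule X ⟶ L) := ![σ₀, σ₁]
  have hgg : ∀ x : X, ∃ i, CurveLin.GenAt L (b i) x := by
    intro x
    obtain ⟨y, hy, hycl⟩ := IsClosed.exists_closed_singleton
      (isClosed_closure (s := ({x} : Set X))) ⟨x, subset_closure rfl⟩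
    have key : ∀ σ : Coh.structureModule X ⟶ L, CurveLin.GenAt L σ y → CurveLin.GenAt L σ x := by
      rintro σ ⟨V, hyV, hV⟩
      refine ⟨V, ?_, hV⟩
      obtain ⟨z, hzV, hz⟩ := mem_closure_iff.mp hy V V.isOpen hyV
      rw [Set.mem_singleton_iff.mp hz] at hzV
      exact hzV
    rcases genAt_of_independent_closed k X hdim h0 hg L hL hdeg σ₀ σ₁ hli y hycl
      (hreg y hycl) with h | h
    · exact ⟨0, key _ h⟩
    · exact ⟨1, key _ h⟩
  obtain ⟨r, hr, τ, -⟩ := Groth.Agent.S3572.result 1 (X ↘ Spec (CommRingCat.of k)) L hL _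
    (generatedBy_of_genAt b hgg)
  letI := overP1 k
  haveI := isIntegral_P1 k
  haveI : IsProper ((CohB1.ProjSpace 1 k) ↘ Spec (CommRingCat.of k)) := isProper_P1 k
  have hr' : r ≫ ((CohB1.ProjSpace 1 k) ↘ Spec (CommRingCat.of k)) =
      X ↘ Spec (CommRingCat.of k) := hr
  have hξ := generic_of_deg_ne_zero k X hdim r L τ (by rw [hdeg]; norm_num)
  have hfl : FlatMod.IsFinLocFreeOfRank 1 (Twist.twistProjSpace 1 k 1) :=
    FLFH8.finLocFreeOfRank_one_of_isInvertible (Groth.Agent.Horrocks.isInvertible_OO 1 k 1)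
  have hd := DegPull.deg_pullback k hdim (dim_P1 k) r hr' hξ 1 _ hfl
  rw [CurveTens.deg_of_iso k X τ 1, hdeg, deg_O1 k, mul_one] at hd
  have hd1 : r.residueDegree (genericPoint X) = 2 := by exact_mod_cast hd.symm
  have hfin : IsFinite r := DegPull.isFinite_of_dominant k hdim (dim_P1 k) r hr' hξ
  exact ⟨r, hr, hfin, hξ, hd1, ⟨τ⟩⟩

end Main

end HypEll9
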