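import Mathlib
import Groth.Prelude
import Groth.Agent.Lib.HypEllB1_helper9
import Groth.Agent.Lib.FrobTw10_helper9
import Groth.Agent.Lib.ProjSmooth_helper4

/-!
# A degree two morphism from a smooth curve of positive genus to the projective line is separable
(helper9).  APPEND-ONLY once landed.
-/

set_option autoImplicit false
universe u
open CategoryTheory CategoryTheory.Limits AlgebraicGeometry Opposite TopologicalSpace

namespace HypEll9

open P1Iso

section Field

/-- an extension of degree two is separable or purely inseparable -/
theorem isSeparable_or_isPurelyInseparable_of_finrank_two (F K : Type*) [Field F] [Field K]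
    [Algebra F K] (h : Module.finrank F K = 2) :
    Algebra.IsSeparable F K ∨ IsPurelyInseparable F K := by
  haveI : FiniteDimensional F K := Module.finite_of_finrank_pos (by omega)
  have hdvd := Field.finSepDegree_dvd_finrank F K
  rw [h] at hdvd
  have hle : Field.finSepDegree F K ≤ 2 := Nat.le_of_dvd (by norm_num) hdvd
  have hpos : 0 < Field.finSepDegree F K := Nat.pos_of_dvd_of_pos hdvd (by norm_num)
  rcases (by omega : Field.finSepDegree F K = 1 ∨ Field.finSepDegree F K = 2) with h1 | h2
  · exact Or.inr (isPurelyInseparable_of_finSepDegree_eq_one h1)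
  · exact Or.inl ((Field.finSepDegree_eq_finrank_iff F K).mp (by rw [h2, h]))

end Field

section Stalk

theorem stalkSpecializes_surjective_of_eq {Y : Scheme.{u}} {a b : Y} (e : a = b) :
    Function.Surjective (Y.presheaf.stalkSpecializes (specializes_of_eq e)).hom := by
  subst e
  intro z
  refine ⟨z, ?_⟩
  simp

end Stalk

section Main

attribute [local instance] Curv2.stalkAlgebra

variable (k : Type u) [Field k] (X : Scheme.{u}) [X.Over (Spec (CommRingCat.of k))]
  [IsIntegral X] [IsProper (X ↘ Spec (CommRingCat.of k))] [Smooth (X ↘ Spec (CommRingCat.of k))]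

set_option maxHeartbeats 800000 in
/-- **a degree two morphism from a smooth curve of positive genus to `P¹` is separable** -/
theorem isSeparable_of_deg_two (hdim : topologicalKrullDim X = 1)
    (h0 : Module.finrank k (Coh.HH X (Coh.structureModule X) 0) = 1)
    (hg : 1 ≤ Curv2.genus k X)
    (f : X ⟶ CohB1.ProjSpace 1 k)
    (hf : f ≫ CohB1.ProjSpace.toSpec 1 k = X ↘ Spec (CommRingCat.of k))
    (hξ : f (genericPoint X) = genericPoint (CohB1.ProjSpace 1 k))
    (hd : f.residueDegree (genericPoint X) = 2) :
    letI := (f.residueFieldMap (genericPoint X)).hom.toAlgebra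
    Algebra.IsSeparable ((CohB1.ProjSpace 1 k).residueField (f (genericPoint X)))
      (X.residueField (genericPoint X)) := by
  letI algR := (f.residueFieldMap (genericPoint X)).hom.toAlgebra
  letI := overP1 k
  haveI := isIntegral_P1 k
  haveI : IsProper ((CohB1.ProjSpace 1 k) ↘ Spec (CommRingCat.of k)) := isProper_P1 k
  have hf' : f ≫ ((CohB1.ProjSpace 1 k) ↘ Spec (CommRingCat.of k)) =
      X ↘ Spec (CommRingCat.of k) := hf
  have hfr : Module.finrank ((CohB1.ProjSpace 1 k).residueField (f (genericPoint X)))
      (X.residueField (genericPoint X)) = 2 := hd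
  haveI : FiniteDimensional ((CohB1.ProjSpace 1 k).residueField (f (genericPoint X)))
      (X.residueField (genericPoint X)) := Module.finite_of_finrank_pos (by omega)
  have hinjres : Function.Injective (Curv2.resMap k (CohB1.ProjSpace 1 k) (f (genericPoint X))) :=
    RingHom.injective _
  obtain ⟨p, hp⟩ := ExpChar.exists k
  cases hp with
  | zero =>
    haveI : CharZero ((CohB1.ProjSpace 1 k).residueField (f (genericPoint X))) :=
      charZero_of_injective_ringHom hinjres
    exact Algebra.IsAlgebraic.isSeparable_of_perfectField
  | prime hprime =>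
    haveI : Fact p.Prime := ⟨hprime⟩
    rcases isSeparable_or_isPurelyInseparable_of_finrank_two _ _ hfr with hsep | hpi
    · exact hsep
    · exfalso
      haveI : CharP ((CohB1.ProjSpace 1 k).residueField (f (genericPoint X))) p :=
        charP_of_injective_ringHom hinjres p
      haveI : ExpChar ((CohB1.ProjSpace 1 k).residueField (f (genericPoint X))) p :=
        ExpChar.prime hprime
      have hpow := (isPurelyInseparable_iff_pow_mem
        ((CohB1.ProjSpace 1 k).residueField (f (genericPoint X))) p).mp hpi
      haveI : CharP (CohB1.ProjSpace 1 k).functionField p :=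
        charP_of_injective_algebraMap (algebraMap k (CohB1.ProjSpace 1 k).functionField).injective p
      haveI : ExpChar (CohB1.ProjSpace 1 k).functionField p := ExpChar.prime hprime
      have hpiS : letI := ((((CohB1.ProjSpace 1 k).presheaf.stalkSpecializes (specializes_of_eq hξ) ≫
          f.stalkMap (genericPoint X)).hom).toAlgebra)
          IsPurelyInseparable (CohB1.ProjSpace 1 k).functionField X.functionField := by
        letI := ((((CohB1.ProjSpace 1 k).presheaf.stalkSpecializes (specializes_of_eq hξ) ≫
          f.stalkMap (genericPoint X)).hom).toAlgebra)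
        rw [isPurelyInseparable_iff_pow_mem (CohB1.ProjSpace 1 k).functionField p]
        intro x
        obtain ⟨n, z, hz⟩ := hpow ((X.residue (genericPoint X)).hom x)
        obtain ⟨w, rfl⟩ := (CohB1.ProjSpace 1 k).residue_surjective (f (genericPoint X)) z
        obtain ⟨w', rfl⟩ := stalkSpecializes_surjective_of_eq hξ w
        refine ⟨n, w', ?_⟩
        have hinj : Function.Injective (X.residue (genericPoint X)).hom :=
          RingHom.injective (R := X.functionField) _
        apply hinj
        rw [map_pow, ← hz]
        have h1 := congrArg (fun m => m.hom (((CohB1.ProjSpace 1 k).presheaf.stalkSpecializes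
          (specializes_of_eq hξ)).hom w')) (Scheme.residue_residueFieldMap f (genericPoint X))
        exact h1.symm
      have hreg : ∀ y : CohB1.ProjSpace 1 k,
          IsRegularLocalRing ((CohB1.ProjSpace 1 k).presheaf.stalk y) := by
        haveI : Smooth ((CohB1.ProjSpace 1 k) ↘ Spec (CommRingCat.of k)) :=
          Groth.Agent.Lib.ProjSmoothH4.smooth_toSpec 1 k
        exact fun y => VBCurve.hreg_of_smooth k (CohB1.ProjSpace 1 k) y
      haveI : CharP k p := inferInstance
      have h6558 := FrobTw9.main6558 k X (CohB1.ProjSpace 1 k) p hdim (dim_P1 k) hreg f hf' hξ h0 hpiS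
      have hgp := genus_P1 k
      rw [h6558.2.2] at hgp
      omega

end Main

end HypEll9
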