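import Mathlib
import Groth.Prelude
import Groth.Agent.Lib.HypEllB2_helper9
import Groth.Agent.Lib.GenusZero3_helper9

/-!
# Hyperelliptic maps: from a `g¹₂` to a separable degree two morphism to the projective line;
elliptic curves are hyperelliptic (helper9).  APPEND-ONLY once landed.
-/

set_option autoImplicit false
universe u
open CategoryTheory CategoryTheory.Limits AlgebraicGeometry Opposite TopologicalSpace

namespace HypEll9

open P1Iso CurvePtInv

section Main

variable (k : Type u) [Field k] (X : Scheme.{u}) [X.Over (Spec (CommRingCat.of k))]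
  [IsIntegral X] [IsProper (X ↘ Spec (CommRingCat.of k))] [Smooth (X ↘ Spec (CommRingCat.of k))]

/-- **from a `g¹₂` to a hyperelliptic map** -/
theorem exists_hyperelliptic_map (hdim : topologicalKrullDim X = 1)
    (h0 : Module.finrank k (Coh.HH X (Coh.structureModule X) 0) = 1)
    (hg : 1 ≤ Curv2.genus k X)
    (L : X.Modules) (hL : PicF.IsInvertible L) (hdeg : Curv2.deg k X L 1 = 2)
    (h2 : 2 ≤ Module.finrank k (Coh.HH X L 0)) :
    ∃ f : X ⟶ CohB1.ProjSpace 1 k,
      f ≫ CohB1.ProjSpace.toSpec 1 k = X ↘ (Spec (CommRingCat.of k)) ∧ IsFinite f ∧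
        f.residueDegree (genericPoint X) = 2 ∧
        (letI := (f.residueFieldMap (genericPoint X)).hom.toAlgebra
        Algebra.IsSeparable ((CohB1.ProjSpace 1 k).residueField (f (genericPoint X)))
          (X.residueField (genericPoint X))) ∧
        f (genericPoint X) = genericPoint (CohB1.ProjSpace 1 k) ∧
        Nonempty ((Scheme.Modules.pullback f).obj (Twist.twistProjSpace 1 k 1) ≅ L) := by
  have hreg : ∀ x : X, IsClosed ({x} : Set X) → IsRegularLocalRing (X.presheaf.stalk x) :=
    fun x _ => VBCurve.hreg_of_smooth k X x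
  obtain ⟨f, hf, hfin, hξ, hd, hτ⟩ := exists_finite_deg_two k X hdim h0 hg hreg L hL hdeg h2
  exact ⟨f, hf, hfin, hd, isSeparable_of_deg_two k X hdim h0 hg f hf hξ hd, hξ, hτ⟩

/-- **S11577**: an elliptic curve is hyperelliptic -/
theorem main11577 (hdim : topologicalKrullDim X = 1)
    (h0 : Module.finrank k (Coh.HH X (Coh.structureModule X) 0) = 1)
    (hg : Curv2.genus k X = 1)
    (x : Spec (CommRingCat.of k) ⟶ X) (hx : x ≫ (X ↘ Spec (CommRingCat.of k)) = 𝟙 _) :
    ∃ f : X ⟶ CohB1.ProjSpace 1 k,
      f ≫ CohB1.ProjSpace.toSpec 1 k = X ↘ (Spec (CommRingCat.of k)) ∧ IsFinite f ∧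
        f.residueDegree (genericPoint X) = 2 ∧
        (letI := (f.residueFieldMap (genericPoint X)).hom.toAlgebra
        Algebra.IsSeparable ((CohB1.ProjSpace 1 k).residueField (f (genericPoint X)))
          (X.residueField (genericPoint X))) := by
  haveI : IsLocallyNoetherian X :=
    LocallyOfFiniteType.isLocallyNoetherian (X ↘ Spec (CommRingCat.of k))
  have hreg : ∀ x : X, IsClosed ({x} : Set X) → IsRegularLocalRing (X.presheaf.stalk x) :=
    fun x _ => VBCurve.hreg_of_smooth k X x
  haveI : Nonempty ↥(Spec (CommRingCat.of k)) := inferInstanceAs (Nonempty (PrimeSpectrum k))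
  obtain ⟨pt⟩ : Nonempty ↥(Spec (CommRingCat.of k)) := inferInstance
  obtain ⟨hsx, hcx⟩ := support_ker_section k X x hx pt
  have hptx : ∀ z ∈ x.ker.support, IsClosed ({z} : Set X) := by
    intro z hz
    have hz' : z ∈ (x.ker.support : Set X) := hz
    rw [hsx] at hz'
    rw [Set.mem_singleton_iff.mp hz']
    exact hcx
  have hIinv := isInvertible_idealMod_of_support hdim x.ker
    (fun z hz => ⟨hptx z hz, hreg z (hptx z hz)⟩)
  have hZx : topologicalKrullDim (x.ker.support : Set X) ≤ 0 :=
    CurveSpec.dim_le_zero_of_closed_points _ x.ker.support.isClosed hptx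
  have hdx := CurvePtInv.finrank_HH0_quotMod_ker k x hx
  have hdegI : Curv2.deg k X (ClSub.idealMod x.ker) 1 = -1 := by
    have e := CurveIdeal.euler_structureModule_eq k X x.ker hZx
    rw [hdx] at e
    unfold Curv2.deg
    push_cast at e ⊢
    linarith
  obtain ⟨N, hN, ⟨eN⟩⟩ := Groth.Agent.InvTensP.exists_inverse _ hIinv
  have hdegN : Curv2.deg k X N 1 = 1 := by
    have h1 := CurveTens.deg_tensorMod k X hdim.le hIinv hN
    rw [CurveTens.deg_of_iso k X eN 1, CurveDeg.deg_structureModule, hdegI] at h1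
    linarith
  have hL : PicF.IsInvertible (CohB1.tensorMod N N) := TensH8.isInvertible_tensorMod hN hN
  have hdegL : Curv2.deg k X (CohB1.tensorMod N N) 1 = 2 := by
    rw [CurveTens.deg_tensorMod k X hdim.le hN hN, hdegN]
    rfl
  have hLc := ProperFinH9.isCoh_of_isInvertible hL
  haveI := hLc.1
  haveI := (CohDevH8.isCoh_structureModule X).1
  have hpa : Curv2.euler k X (Coh.structureModule X) = 0 := by
    rw [CurveRR.euler_eq_sub k X hdim.le (Coh.structureModule X), h0]
    have : Module.finrank k (Coh.HH X (Coh.structureModule X) 1) = 1 := hg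
    rw [this]
    norm_num
  have h2 : 2 ≤ Module.finrank k (Coh.HH X (CohB1.tensorMod N N) 0) := by
    have h1 := CurveRR.euler_eq_sub k X hdim.le (CohB1.tensorMod N N)
    unfold Curv2.deg at hdegL
    rw [hpa] at hdegL
    have : (2 : ℤ) ≤ (Module.finrank k (Coh.HH X (CohB1.tensorMod N N) 0) : ℤ) := by
      push_cast at h1 hdegL
      have hnn : (0 : ℤ) ≤ (Module.finrank k (Coh.HH X (CohB1.tensorMod N N) 1) : ℤ) :=
        Int.natCast_nonneg _
      linarith
    exact_mod_cast this
  obtain ⟨f, hf, hfin, hd, hsep, -, -⟩ := exists_hyperelliptic_map k X hdim h0 (by omega)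
    (CohB1.tensorMod N N) hL hdegL h2
  exact ⟨f, hf, hfin, hd, hsep⟩

end Main

end HypEll9
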