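import Mathlib
import Groth.Prelude
import Groth.Agent.Lib.HypEllB3_helper9
import Groth.Agent.Lib.HypEll3_helper9
import Groth.Agent.Lib.DedOpen2_helper8

/-!
# Finite morphisms from an integral curve to the projective line are flat of constant rank;
hyperelliptic curves and `g¹₂`'s (helper9).  APPEND-ONLY once landed.
-/

set_option autoImplicit false
universe u
open CategoryTheory CategoryTheory.Limits AlgebraicGeometry Opposite TopologicalSpace

namespace HypEll9

open P1Iso CurvePtInv

section Flat

variable (k : Type u) [Field k] (X : Scheme.{u}) [X.Over (Spec (CommRingCat.of k))]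
  [IsIntegral X] [IsProper (X ↘ Spec (CommRingCat.of k))]

theorem ringKrullDim_stalk_le_one {Y : Scheme.{u}} (hdim : topologicalKrullDim Y = 1) (y : Y) :
    ringKrullDim (Y.presheaf.stalk y) ≤ 1 := by
  rw [AlgebraicGeometry.ringKrullDim_stalk_eq_coheight]
  have hsup := Groth.Agent.BCDimSchH8.dim_eq_iSup_coheight Y
  rw [← hdim, hsup]
  exact le_iSup (fun z : Y => ((Order.coheight z : ℕ∞) : WithBot ℕ∞)) y

include k in
/-- a dominant morphism from an integral curve to `P¹` is flat -/
theorem flat_of_generic (f : X ⟶ CohB1.ProjSpace 1 k)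
    (hξ : f (genericPoint X) = genericPoint (CohB1.ProjSpace 1 k)) : Flat f := by
  letI := overP1 k
  haveI := isIntegral_P1 k
  haveI : IsLocallyNoetherian X :=
    LocallyOfFiniteType.isLocallyNoetherian (X ↘ Spec (CommRingCat.of k))
  have hreg : ∀ y : CohB1.ProjSpace 1 k,
      IsRegularLocalRing ((CohB1.ProjSpace 1 k).presheaf.stalk y) := by
    haveI : Smooth ((CohB1.ProjSpace 1 k) ↘ Spec (CommRingCat.of k)) :=
      Groth.Agent.Lib.ProjSmoothH4.smooth_toSpec 1 k
    exact fun y => VBCurve.hreg_of_smooth k (CohB1.ProjSpace 1 k) y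
  refine Groth.Agent.Lib.DedOpenH8.flat_of_reduced_of_isMax hreg
    (fun y => ringKrullDim_stalk_le_one (dim_P1 k) y) f ?_
  intro x hmax
  have hspec : genericPoint X ⤳ x := genericPoint_specializes x
  have hle' : x ≤ genericPoint X := Scheme.le_iff_specializes.mpr hspec
  have hge := hmax hle'
  have h2 : x ⤳ genericPoint X := Scheme.le_iff_specializes.mp hge
  have h3 : x = genericPoint X := (h2.antisymm hspec).eq
  rw [h3, hξ]

/-- a finite dominant morphism from an integral proper curve to `P¹` has constant rank equal to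
the degree of the function field extension -/
theorem finrank_eq_residueDegree (hdim : topologicalKrullDim X = 1)
    (f : X ⟶ CohB1.ProjSpace 1 k) [IsFinite f] [Flat f]
    (hf : f ≫ CohB1.ProjSpace.toSpec 1 k = X ↘ Spec (CommRingCat.of k))
    (hξ : f (genericPoint X) = genericPoint (CohB1.ProjSpace 1 k))
    (y : CohB1.ProjSpace 1 k) :
    f.finrank y = f.residueDegree (genericPoint X) := by
  letI := overP1 k
  haveI := isIntegral_P1 k
  haveI : IsProper ((CohB1.ProjSpace 1 k) ↘ Spec (CommRingCat.of k)) := isProper_P1 k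
  haveI : IsLocallyNoetherian (CohB1.ProjSpace 1 k) :=
    LocallyOfFiniteType.isLocallyNoetherian ((CohB1.ProjSpace 1 k) ↘ Spec (CommRingCat.of k))
  haveI : LocallyOfFinitePresentation f :=
    LocallyOfFinitePresentation.iff_locallyOfFiniteType.mpr inferInstance
  have hf' : f ≫ ((CohB1.ProjSpace 1 k) ↘ Spec (CommRingCat.of k)) =
      X ↘ Spec (CommRingCat.of k) := hf
  have hlc := Scheme.Hom.isLocallyConstant_finrank f
  have hconst : ∀ z : CohB1.ProjSpace 1 k, f.finrank z = f.finrank y :=
    fun z => hlc.apply_eq_of_preconnectedSpace z y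
  have hfl : FlatMod.IsFinLocFreeOfRank 1 (Twist.twistProjSpace 1 k 1) :=
    FLFH8.finLocFreeOfRank_one_of_isInvertible (Groth.Agent.Horrocks.isInvertible_OO 1 k 1)
  have h1 := HypEll.deg_pullback_cover k f hf' (dim_P1 k).le hconst _ hfl
  have h2 := DegPull.deg_pullback k hdim (dim_P1 k) f hf' hξ 1 _ hfl
  rw [h1, deg_O1 k, mul_one, mul_one] at h2
  exact_mod_cast h2

end Flat

section Main

variable (k : Type u) [Field k] (X : Scheme.{u}) [X.Over (Spec (CommRingCat.of k))]
  [IsIntegral X] [IsProper (X ↘ Spec (CommRingCat.of k))] [Smooth (X ↘ Spec (CommRingCat.of k))]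

/-- **S11576** -/
theorem main11576 (hdim : topologicalKrullDim X = 1)
    (h0 : Module.finrank k (Coh.HH X (Coh.structureModule X) 0) = 1)
    (hg : 1 ≤ Curv2.genus k X) :
    (∃ f : X ⟶ CohB1.ProjSpace 1 k,
      f ≫ CohB1.ProjSpace.toSpec 1 k = X ↘ (Spec (CommRingCat.of k)) ∧ IsFinite f ∧
        f.residueDegree (genericPoint X) = 2 ∧
        letI := (f.residueFieldMap (genericPoint X)).hom.toAlgebra
        Algebra.IsSeparable ((CohB1.ProjSpace 1 k).residueField (f (genericPoint X)))
          (X.residueField (genericPoint X))) ↔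
      ∃ L : X.Modules, PicF.IsInvertible L ∧ Curv2.deg k X L 1 = 2 ∧
        Module.finrank k (Coh.HH X L 0) = 2 := by
  letI := overP1 k
  haveI := isIntegral_P1 k
  constructor
  · rintro ⟨f, hf, hfin, hd, -⟩
    haveI := hfin
    -- generic point
    have hξ : f (genericPoint X) = genericPoint (CohB1.ProjSpace 1 k) := by
      by_contra hne
      have hcl := DegPull.isClosed_singleton_of_ne_generic (dim_P1 k).le _ hne
      have hall : ∀ x : X, f x = f (genericPoint X) := by
        intro x
        have h1 : genericPoint X ⤳ x := (genericPoint_spec X).specializes (Set.mem_univ x)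
        have h2 : f (genericPoint X) ⤳ f x := h1.map f.continuous
        exact h2.mem_closed hcl rfl
      have hdisc : _root_.IsDiscrete (f ⁻¹' {f (genericPoint X)}) :=
        f.isDiscrete_preimage_singleton _
      have huniv : f ⁻¹' {f (genericPoint X)} = Set.univ := by
        ext x
        simp only [Set.mem_preimage, Set.mem_singleton_iff, Set.mem_univ, iff_true]
        exact hall x
      rw [huniv, isDiscrete_univ_iff] at hdisc
      haveI := hdisc
      exact DegPull.not_isClosed_generic hdim (isClosed_discrete _)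
    haveI := flat_of_generic k X f hξ
    have hrk : ∀ y : ↥(CohB1.ProjSpace 1 k), Scheme.Hom.finrank f y = 2 := fun y => by
      rw [finrank_eq_residueDegree k X hdim f hf hξ y, hd]
    obtain ⟨hLinv, hLdeg, hL2⟩ := HypEll.g12_of_cover k X f hf hrk
    refine ⟨_, hLinv, hLdeg, le_antisymm ?_ hL2⟩
    have hnt : Nontrivial (Coh.HH X ((Scheme.Modules.pullback f).obj
        (Twist.twistProjSpace 1 k 1)) 0) :=
      Module.nontrivial_of_finrank_pos (R := k) (by omega)
    obtain ⟨hle, heq⟩ := CurveLin.h0_le_deg_add_one k X hdim h0 hLinv hnt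
    rw [hLdeg] at hle heq
    by_contra hlt
    push_neg at hlt
    have h3 : (Module.finrank k (Coh.HH X ((Scheme.Modules.pullback f).obj
        (Twist.twistProjSpace 1 k 1)) 0) : ℤ) = 2 + 1 := by omega
    have := heq h3 (by norm_num)
    omega
  · rintro ⟨L, hL, hdeg, h2⟩
    obtain ⟨f, hf, hfin, hd, hsep, -, -⟩ := exists_hyperelliptic_map k X hdim h0 hg L hL hdeg h2.ge
    exact ⟨f, hf, hfin, hd, hsep⟩

end Main

end HypEll9
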