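import Mathlib
import Groth.Prelude
import Groth.Agent.Lib.AbelK_helper2
import Groth.Agent.Lib.AlgEqA_helper9

/-!
# Base change of the module of differentials (helper9)
For a pullback square `X' = X ×_S S'` there is an epimorphism `g'^* Ω_{X/S} ⟶ Ω_{X'/S'}`
(it is an isomorphism; only the epimorphism is proved here, which suffices when both are
invertible).
APPEND-ONLY once landed.
-/

set_option autoImplicit false
universe u
open AlgebraicGeometry CategoryTheory CategoryTheory.Limits TopologicalSpace Opposite

namespace OmBC

section Diag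

variable {X S X' S' : Scheme.{u}} {f : X ⟶ S} {g : S' ⟶ S} {g' : X' ⟶ X} {f' : X' ⟶ S'}
  (h : IsPullback g' f' f g)

/-- the map `X' ×_{S'} X' ⟶ X ×_S X` -/
noncomputable def prodMap : pullback f' f' ⟶ pullback f f :=
  pullback.map f' f' f f g' g' g h.w.symm h.w.symm

theorem prodMap_fst : prodMap h ≫ pullback.fst f f = pullback.fst f' f' ≫ g' :=
  pullback.lift_fst _ _ _

theorem prodMap_snd : prodMap h ≫ pullback.snd f f = pullback.snd f' f' ≫ g' :=
  pullback.lift_snd _ _ _

theorem diagonal_prodMap : pullback.diagonal f' ≫ prodMap h = g' ≫ pullback.diagonal f := by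
  apply pullback.hom_ext
  · rw [Category.assoc, prodMap_fst, ← Category.assoc, pullback.diagonal_fst, Category.id_comp,
      Category.assoc, pullback.diagonal_fst, Category.comp_id]
  · rw [Category.assoc, prodMap_snd, ← Category.assoc, pullback.diagonal_snd, Category.id_comp,
      Category.assoc, pullback.diagonal_snd, Category.comp_id]

/-- **the diagonal of a base change is the base change of the diagonal** -/
theorem isPullback_diagonal :
    IsPullback g' (pullback.diagonal f') (pullback.diagonal f) (prodMap h) := by
  refine ⟨⟨(diagonal_prodMap h).symm⟩, ⟨PullbackCone.IsLimit.mk _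
    (fun c => c.snd ≫ pullback.fst f' f') ?_ ?_ ?_⟩⟩
  · intro c
    have h1 := congrArg (· ≫ pullback.fst f f) c.condition
    simp only [Category.assoc, pullback.diagonal_fst, Category.comp_id, prodMap_fst] at h1
    rw [Category.assoc]
    exact h1.symm
  · intro c
    have h1 := congrArg (· ≫ pullback.fst f f) c.condition
    simp only [Category.assoc, pullback.diagonal_fst, Category.comp_id, prodMap_fst] at h1
    have h2 := congrArg (· ≫ pullback.snd f f) c.condition
    simp only [Category.assoc, pullback.diagonal_snd, Category.comp_id, prodMap_snd] at h2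
    have h3 : c.snd ≫ pullback.fst f' f' = c.snd ≫ pullback.snd f' f' := by
      apply h.hom_ext
      · rw [Category.assoc, Category.assoc, ← h1, ← h2]
      · rw [Category.assoc, Category.assoc, pullback.condition]
    apply pullback.hom_ext
    · rw [Category.assoc, Category.assoc, pullback.diagonal_fst, Category.comp_id]
    · rw [Category.assoc, Category.assoc, pullback.diagonal_snd, Category.comp_id, h3]
  · intro c m h1 h2
    rw [← h2, Category.assoc, pullback.diagonal_fst, Category.comp_id]

end Diag

section Ker

variable {Z₁ X₁ Z₂ X₂ : Scheme.{u}} (i₁ : Z₁ ⟶ X₁) (i₂ : Z₂ ⟶ X₂) [IsClosedImmersion i₁]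
  [IsClosedImmersion i₂] (φ : X₁ ⟶ X₂) (u : Z₁ ⟶ Z₂) (h : IsPullback u i₁ i₂ φ)

include h in
/-- a pullback square of closed immersions gives one of the closed subschemes of the kernels -/
theorem exists_isPullback_ker :
    ∃ g' : i₁.ker.subscheme ⟶ i₂.ker.subscheme,
      IsPullback g' i₁.ker.subschemeι i₂.ker.subschemeι φ := by
  refine ⟨inv i₁.toImage ≫ u ≫ i₂.toImage, ?_⟩
  refine IsPullback.of_iso h (asIso i₁.toImage) (asIso i₂.toImage) (Iso.refl _) (Iso.refl _)
    ?_ ?_ ?_ ?_
  · simp
  · simp only [Iso.refl_hom, Category.comp_id, asIso_hom]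
    exact (i₁.toImage_imageι).symm
  · simp only [Iso.refl_hom, Category.comp_id, asIso_hom]
    exact (i₂.toImage_imageι).symm
  · simp

include h in
/-- the pulled back ideal surjects onto the ideal of the preimage -/
theorem exists_epi_pullback_idealMod :
    ∃ π : (Scheme.Modules.pullback φ).obj (ClSub.idealMod i₂.ker) ⟶ ClSub.idealMod i₁.ker,
      Epi π := by
  obtain ⟨g', hc⟩ := exists_isPullback_ker i₁ i₂ φ u h
  obtain ⟨π, hπ, -⟩ := Groth.Agent.Lib.CBCH2.exists_epi_pullback_ideal φ _ _ g' hc
  exact ⟨π, hπ⟩

end Ker

section Omega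

variable {X S X' S' : Scheme.{u}} {f : X ⟶ S} {g : S' ⟶ S} {g' : X' ⟶ X} {f' : X' ⟶ S'}
  (h : IsPullback g' f' f g) [IsSeparated f]

include h in
/-- **`g'^* Ω_{X/S} ⟶ Ω_{X'/S'}` is an epimorphism** (separated case) -/
theorem exists_epi_pullback_Omega :
    ∃ π : (Scheme.Modules.pullback g').obj (Omega.sheaf f) ⟶ Omega.sheaf f', Epi π := by
  haveI : IsSeparated f' := MorphismProperty.of_isPullback h inferInstance
  obtain ⟨π, hπ⟩ := exists_epi_pullback_idealMod (pullback.diagonal f') (pullback.diagonal f)
    (prodMap h) g' (isPullback_diagonal h)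
  haveI := hπ
  haveI : PreservesColimits (Scheme.Modules.pullback (pullback.diagonal f')) :=
    (Scheme.Modules.pullbackPushforwardAdjunction (pullback.diagonal f')).leftAdjoint_preservesColimits
  haveI : (Scheme.Modules.pullback (pullback.diagonal f')).PreservesEpimorphisms := inferInstance
  haveI : Epi ((Scheme.Modules.pullback (pullback.diagonal f')).map π) :=
    (Scheme.Modules.pullback (pullback.diagonal f')).map_epi π
  let e : (Scheme.Modules.pullback g').obj (Omega.sheaf f) ≅
      (Scheme.Modules.pullback (pullback.diagonal f')).obj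
        ((Scheme.Modules.pullback (prodMap h)).obj (ClSub.idealMod (pullback.diagonal f).ker)) :=
    AlgEq.pullCompIso g' (pullback.diagonal f) _ rfl _ ≪≫
      (AlgEq.pullCompIso (pullback.diagonal f') (prodMap h) _ (diagonal_prodMap h) _).symm
  have hepi : Epi (e.hom ≫ (Scheme.Modules.pullback (pullback.diagonal f')).map π) :=
    epi_comp _ _
  exact ⟨e.hom ≫ (Scheme.Modules.pullback (pullback.diagonal f')).map π, hepi⟩

end Omega

end OmBC
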