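import Mathlib
import Groth.Prelude.Def_RDer
import Groth.Agent.Lib.SecDer_helper2
import Groth.Agent.Lib.QBC4_helper8
import Groth.Agent.Lib.AffVanish5_helper9
import Groth.Agent.Lib.PB7_helper8
import Groth.Agent.Lib.CBCAlg_helper2

/-!
# Flat base change in all degrees, I: complexes of sections (helper2)

For a cartesian square `X' = X ×_S S'`, affine opens `V ⊆ S`, `V' ⊆ g⁻¹V` with `Γ(S', V')` flat over
`Γ(S, V)`, injective resolutions `I` of a quasi-coherent `M` and `J` of `g'^* M`, and a map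
`α : I ⟶ g'_* J` over the unit: for every quasi-compact open `W ⊆ f⁻¹V` the map
`Γ(W, I) ⟶ Γ(g'⁻¹W ∩ f'⁻¹V', J)` induces base change maps on cohomology.
APPEND-ONLY once landed.
-/

set_option autoImplicit false
universe u

open CategoryTheory CategoryTheory.Limits AlgebraicGeometry Opposite TopologicalSpace
  HomologicalComplex

namespace Groth.Agent.Lib.FlatBCQ

open Groth.Agent.Lib.SecCx Groth.Agent.Lib.ActCx Groth.Agent.Lib.FlatBCH2 Groth.Agent.Lib.SecDer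

section Induction

variable {X : Scheme.{u}}

theorem aux_list (P : X.Opens → Prop)
    (h₁ : ∀ U : X.Opens, IsAffineOpen U → P U)
    (h₂ : ∀ U V : X.Opens, P U → P V → P (U ⊓ V) → P (U ⊔ V))
    (A : X.Opens) (hA : IsAffineOpen A) :
    ∀ (n : ℕ) (l : List X.Opens), l.length = n → (∀ B ∈ l, IsAffineOpen B ∧ B ≤ A) →
      P (AffVanish.supL l) := by
  intro n
  induction n with
  | zero =>
    intro l hl _
    obtain rfl := List.length_eq_zero_iff.mp hl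
    exact h₁ _ (isAffineOpen_bot X)
  | succ n ih =>
    intro l hl hP
    match l, hl, hP with
    | B :: l', hl, hP =>
      have hl' : l'.length = n := by simpa using hl
      have hB := hP B (List.mem_cons_self ..)
      have hP' : ∀ C ∈ l', IsAffineOpen C ∧ C ≤ A :=
        fun C hC => hP C (List.mem_cons_of_mem _ hC)
      rw [AffVanish.supL_cons]
      refine h₂ _ _ (h₁ B hB.1) (ih l' hl' hP') ?_
      rw [AffVanish.inf_supL]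
      refine ih _ (by simpa using hl') ?_
      intro C hC
      obtain ⟨C', hC', rfl⟩ := List.mem_map.mp hC
      exact ⟨AffVanish.isAffineOpen_inf_of_le hA hB.2 (hP' C' hC').2 hB.1 (hP' C' hC').1,
        inf_le_left.trans hB.2⟩

/-- induction principle for quasi-compact opens inside a quasi-separated open -/
theorem qc_induction_rel (P : X.Opens → Prop) (U₀ : X.Opens)
    (hU₀ : IsQuasiSeparated (U₀ : Set X))
    (h₁ : ∀ U : X.Opens, IsAffineOpen U → U ≤ U₀ → P U)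
    (h₂ : ∀ U V : X.Opens, U ≤ U₀ → V ≤ U₀ → P U → P V → P (U ⊓ V) → P (U ⊔ V))
    (S : X.Opens) (hS : IsCompact (S : Set X)) (hSU : S ≤ U₀) : P S := by
  let Q : X.Opens → Prop := fun T => T ≤ U₀ → P T
  have h₁' : ∀ U : X.Opens, IsAffineOpen U → Q U := fun U hU hle => h₁ U hU hle
  have h₂' : ∀ U V : X.Opens, Q U → Q V → Q (U ⊓ V) → Q (U ⊔ V) := by
    intro U V hQU hQV hQUV hle
    have hU : U ≤ U₀ := le_sup_left.trans hle
    have hV : V ≤ U₀ := le_sup_right.trans hle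
    exact h₂ U V hU hV (hQU hU) (hQV hV) (hQUV (inf_le_left.trans hU))
  refine compact_open_induction_on (P := Q) S hS (h₁' _ (isAffineOpen_bot X)) ?_ hSU
  intro S hS U hQS hle
  have hS' : S ≤ U₀ := le_sup_left.trans hle
  have hU' : (U : X.Opens) ≤ U₀ := le_sup_right.trans hle
  have hSU : IsCompact ((S ⊓ (U : X.Opens) : X.Opens) : Set X) :=
    hU₀ (S : Set X) ((U : X.Opens) : Set X) hS' S.2 hS hU' (U : X.Opens).2 U.2.isCompact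
  obtain ⟨l, hl, e⟩ := AffVanish.exists_list_of_isCompact (S ⊓ (U : X.Opens)) hSU
  have hP : Q (S ⊓ (U : X.Opens)) := by
    rw [← e]
    exact aux_list Q h₁' h₂' U U.2 _ l rfl
      (fun B hB => ⟨(hl B hB).1, (hl B hB).2.trans inf_le_right⟩)
  exact h₂' S U hQS (h₁' U U.2) hP hle

end Induction

section H0

variable {C : Type*} [Category C] [Abelian C] {M : C} (I : InjectiveResolution M)

/-- `F M ⟶ H⁰(F I)` -/
noncomputable def zH (F : C ⥤ AddCommGrpCat.{u}) [F.Additive] :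
    F.obj M ⟶ ((F.mapHomologicalComplex (ComplexShape.up ℕ)).obj I.cocomplex).homology 0 :=
  I.toRightDerivedZero' F ≫
    ((F.mapHomologicalComplex (ComplexShape.up ℕ)).obj I.cocomplex).homologyπ 0

instance isIso_zH (F : C ⥤ AddCommGrpCat.{u}) [F.Additive] [PreservesFiniteLimits F] :
    IsIso (zH I F) := by
  haveI : IsIso (((F.mapHomologicalComplex (ComplexShape.up ℕ)).obj I.cocomplex).homologyπ 0) :=
    inferInstanceAs (IsIso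
      (CochainComplex.isoHomologyπ₀
        ((F.mapHomologicalComplex (ComplexShape.up ℕ)).obj I.cocomplex)).hom)
  unfold zH
  infer_instance

lemma zH_nat {F F' : C ⥤ AddCommGrpCat.{u}} [F.Additive] [F'.Additive] (θ : F ⟶ F') :
    zH I F ≫ homologyMap ((NatTrans.mapHomologicalComplex θ (ComplexShape.up ℕ)).app
      I.cocomplex) 0 = θ.app M ≫ zH I F' := by
  unfold zH
  rw [Category.assoc, homologyπ_naturality, ← Category.assoc, RDer.toRightDerivedZero'_cyclesMap,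
    Category.assoc]

end H0

section H0tau

variable {X X' : Scheme.{u}} {g' : X' ⟶ X} {M : X.Modules} (I : InjectiveResolution M)
  (J : InjectiveResolution ((Scheme.Modules.pullback g').obj M))
  (α : I.cocomplex ⟶
    ((Scheme.Modules.pushforward g').mapHomologicalComplex (ComplexShape.up ℕ)).obj J.cocomplex)
  (hα : I.ι.f 0 ≫ α.f 0 = (Scheme.Modules.pullbackPushforwardAdjunction g').unit.app M ≫
    (Scheme.Modules.pushforward g').map (J.ι.f 0))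

include hα in
lemma zH_tau (F : X.Modules ⥤ AddCommGrpCat.{u}) [F.Additive]
    (F' : X'.Modules ⥤ AddCommGrpCat.{u}) [F'.Additive]
    (r : Scheme.Modules.pushforward g' ⋙ F ⟶ F') :
    zH I F ≫ homologyMap (tauG α F F' r) 0 =
      (F.map ((Scheme.Modules.pullbackPushforwardAdjunction g').unit.app M) ≫
        r.app ((Scheme.Modules.pullback g').obj M)) ≫ zH J F' := by
  let u := (Scheme.Modules.pullbackPushforwardAdjunction g').unit.app M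
  let G := (Scheme.Modules.pullback g').obj M
  let rG : F.obj ((Scheme.Modules.pushforward g').obj G) ⟶ F'.obj G := r.app G
  let r0 : F.obj ((Scheme.Modules.pushforward g').obj (J.cocomplex.X 0)) ⟶
    F'.obj (J.cocomplex.X 0) := r.app (J.cocomplex.X 0)
  let α0 : I.cocomplex.X 0 ⟶ (Scheme.Modules.pushforward g').obj (J.cocomplex.X 0) := α.f 0
  let ιI : M ⟶ I.cocomplex.X 0 := I.ι.f 0
  let ιJ : G ⟶ J.cocomplex.X 0 := J.ι.f 0
  have hα' : ιI ≫ α0 = u ≫ (Scheme.Modules.pushforward g').map ιJ := hα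
  have hnat : F.map ((Scheme.Modules.pushforward g').map ιJ) ≫ r0 = rG ≫ F'.map ιJ :=
    r.naturality ιJ
  have e3 : F.map ιI ≫ (F.map α0 ≫ r0) = (F.map u ≫ rG) ≫ F'.map ιJ := by
    rw [← Category.assoc, ← F.map_comp, hα', F.map_comp, Category.assoc, hnat, Category.assoc]
  have e1 : (I.toRightDerivedZero' F ≫ cyclesMap (tauG α F F' r) 0) ≫
      ((F'.mapHomologicalComplex (ComplexShape.up ℕ)).obj J.cocomplex).iCycles 0 =
      F.map ιI ≫ (F.map α0 ≫ r0) := by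
    rw [Category.assoc, cyclesMap_i, ← Category.assoc,
      InjectiveResolution.toRightDerivedZero'_comp_iCycles]
    rfl
  have e2 : ((F.map u ≫ rG) ≫ J.toRightDerivedZero' F') ≫
      ((F'.mapHomologicalComplex (ComplexShape.up ℕ)).obj J.cocomplex).iCycles 0 =
      (F.map u ≫ rG) ≫ F'.map ιJ := by
    rw [Category.assoc, InjectiveResolution.toRightDerivedZero'_comp_iCycles]
    rfl
  have e4 : I.toRightDerivedZero' F ≫ cyclesMap (tauG α F F' r) 0 =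
      (F.map u ≫ rG) ≫ J.toRightDerivedZero' F' := by
    rw [← cancel_mono (((F'.mapHomologicalComplex (ComplexShape.up ℕ)).obj
      J.cocomplex).iCycles 0), e1, e2, e3]
  unfold zH
  rw [Category.assoc, homologyπ_naturality, ← Category.assoc, e4, Category.assoc]

end H0tau

section Lin

variable {X : Scheme.{u}} {A : Type*} [CommRing A] {W : X.Opens} (ρ : A →+* Γ(X, W))
  {M : X.Modules} (I : InjectiveResolution M)

/-- `Γ(W, M) ≃ H⁰(Γ(W, I))`, linearly -/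
noncomputable def zLin :
    letI : Module A Γ(M, W) := Module.compHom _ ρ
    Γ(M, W) ≃ₗ[A] (secAct I.cocomplex ρ).H 0 :=
  letI : Module A Γ(M, W) := Module.compHom _ ρ
  { (asIso (zH I (Γf W))).addCommGroupIsoToAddEquiv with
    map_smul' := fun r y => by
      have h := zH_nat I (smulΓ (ρ r))
      exact (congrArg (fun ψ : (Γf W).obj M ⟶ _ => ψ.hom y) h).symm }

lemma zLin_apply (y : Γ(M, W)) :
    letI : Module A Γ(M, W) := Module.compHom _ ρ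
    zLin ρ I y = (zH I (Γf W)).hom y := rfl

end Lin

section Main

variable {X S X' S' : Scheme.{u}} {f : X ⟶ S} {g : S' ⟶ S} {g' : X' ⟶ X} {f' : X' ⟶ S'}
  (hc : IsPullback g' f' f g) {V : S.Opens} {V' : S'.Opens} (hV : IsAffineOpen V)
  (hV' : IsAffineOpen V') (hVV : V' ≤ g ⁻¹ᵁ V)

/-- the base change property for `W` -/
def PW (f : X ⟶ S) (f' : X' ⟶ S') {K : CochainComplex X.Modules ℕ}
    {L : CochainComplex X'.Modules ℕ}
    (α : K ⟶ ((Scheme.Modules.pushforward g').mapHomologicalComplex (ComplexShape.up ℕ)).obj L)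
    (W : X.Opens) : Prop :=
  letI := (g.appLE V V' hVV).hom.toAlgebra
  ∀ (hW : W ≤ f ⁻¹ᵁ V) (q : ℕ),
    BCq (secAct K (f.appLE V W hW).hom)
      (secAct L (f'.appLE V' (g' ⁻¹ᵁ W ⊓ f' ⁻¹ᵁ V') inf_le_right).hom)
      (tauG α (Γf W) (Γf (g' ⁻¹ᵁ W ⊓ f' ⁻¹ᵁ V')) (resPush g' inf_le_left)) q

include hc hV hV' in
/-- the affine case -/
theorem PW_affine [HasInjectiveResolutions X.Modules] [HasInjectiveResolutions X'.Modules]
    (M : X.Modules) [M.IsQuasicoherent] (I : InjectiveResolution M)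
    (J : InjectiveResolution ((Scheme.Modules.pullback g').obj M))
    (α : I.cocomplex ⟶
      ((Scheme.Modules.pushforward g').mapHomologicalComplex (ComplexShape.up ℕ)).obj J.cocomplex)
    (hα : I.ι.f 0 ≫ α.f 0 = (Scheme.Modules.pullbackPushforwardAdjunction g').unit.app M ≫
      (Scheme.Modules.pushforward g').map (J.ι.f 0))
    (W : X.Opens) (hW : IsAffineOpen W) : PW hVV f f' α W := by
  intro hWV q
  letI := (g.appLE V V' hVV).hom.toAlgebra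
  obtain ⟨hW', -⟩ := FlatBC2H8.affine_pushout hc hV hW hV' hWV hVV
  haveI : ((Scheme.Modules.pullback g').obj M).IsQuasicoherent :=
    PBH8.isQuasicoherent_pullback g' M
  cases q with
  | succ n =>
    haveI : Subsingleton ((secAct I.cocomplex (f.appLE V W hWV).hom).H (n + 1)) := by
      have hz : IsZero ((((Γf W).mapHomologicalComplex (ComplexShape.up ℕ)).obj
          I.cocomplex).homology (n + 1)) :=
        IsZero.of_iso (isZero_rightDerived_of_isAffineOpen hW M n)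
          (I.isoRightDerivedObj (Γf W) (n + 1)).symm
      exact AddCommGrpCat.subsingleton_of_isZero hz
    haveI : Subsingleton ((secAct J.cocomplex
        (f'.appLE V' (g' ⁻¹ᵁ W ⊓ f' ⁻¹ᵁ V') inf_le_right).hom).H (n + 1)) := by
      have hz : IsZero ((((Γf (g' ⁻¹ᵁ W ⊓ f' ⁻¹ᵁ V')).mapHomologicalComplex
          (ComplexShape.up ℕ)).obj J.cocomplex).homology (n + 1)) :=
        IsZero.of_iso (isZero_rightDerived_of_isAffineOpen hW' _ n)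
          (J.isoRightDerivedObj (Γf (g' ⁻¹ᵁ W ⊓ f' ⁻¹ᵁ V')) (n + 1)).symm
      exact AddCommGrpCat.subsingleton_of_isZero hz
    exact IsBC.of_subsingleton _
  | zero =>
    let G := (Scheme.Modules.pullback g').obj M
    let W' : X'.Opens := g' ⁻¹ᵁ W ⊓ f' ⁻¹ᵁ V'
    letI mA : Module Γ(S, V) Γ(M, W) := Module.compHom _ (f.appLE V W hWV).hom
    letI mB : Module Γ(S', V') Γ(G, W') := Module.compHom _ (f'.appLE V' W' inf_le_right).hom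
    letI mAB : Module Γ(S, V) Γ(G, W') := Module.compHom _ (g.appLE V V' hVV).hom
    haveI : IsScalarTower Γ(S, V) Γ(S', V') Γ(G, W') :=
      IsScalarTower.of_algebraMap_smul fun _ _ => rfl
    let cl : Γ(M, W) →ₗ[Γ(S, V)] Γ(G, W') :=
      { toFun := PBH8.cUV g' M (inf_le_left : W' ≤ g' ⁻¹ᵁ W)
        map_add' := PBH8.cUV_add g' M _
        map_smul' := fun a x => by
          have h1 := PBH8.cUV_smul g' M (inf_le_left : W' ≤ g' ⁻¹ᵁ W)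
            ((f.appLE V W hWV).hom a) x
          have h2 := QBCH8.appLE_comm_apply hc hWV hVV (inf_le_left : W' ≤ g' ⁻¹ᵁ W)
            (inf_le_right : W' ≤ f' ⁻¹ᵁ V') a
          refine h1.trans ?_
          rw [h2]
          rfl }
    have bc : IsBaseChange Γ(S', V') cl :=
      QBCH8.isBaseChange_affine hc M hV hV' hVV hW hWV cl (fun m => rfl)
    have h1 : IsBC Γ(S, V) Γ(S', V') cl.toAddMonoidHom :=
      IsBC.of_isBaseChange cl bc _ (fun x => rfl)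
    refine IsBC.comp_equiv h1 (zLin (f.appLE V W hWV).hom I).symm
      (zLin (f'.appLE V' W' inf_le_right).hom J) _ (fun x => ?_)
    obtain ⟨y, rfl⟩ := (zLin (f.appLE V W hWV).hom I).surjective x
    rw [LinearEquiv.symm_apply_apply]
    have h := zH_tau I J α hα (Γf W) (Γf W') (resPush g' inf_le_left)
    exact congrArg (fun ψ : (Γf W).obj M ⟶ _ => ψ.hom y) h

end Main

section MV

variable {X S X' S' : Scheme.{u}} {f : X ⟶ S} {g : S' ⟶ S} {g' : X' ⟶ X} {f' : X' ⟶ S'}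
  (hc : IsPullback g' f' f g) {V : S.Opens} {V' : S'.Opens} (hVV : V' ≤ g ⁻¹ᵁ V)
  {K : CochainComplex X.Modules ℕ} {L : CochainComplex X'.Modules ℕ}
  (α : K ⟶ ((Scheme.Modules.pushforward g').mapHomologicalComplex (ComplexShape.up ℕ)).obj L)
  (hK : ∀ n, Injective (K.X n)) (hL : ∀ n, Injective (L.X n))
  (hfl : (g.appLE V V' hVV).hom.Flat)

lemma appLE_res' {Y T : Scheme.{u}} (φ : Y ⟶ T) {V : T.Opens} {W₁ W₂ : Y.Opens} (h : W₂ ≤ W₁)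
    (hW₁ : W₁ ≤ φ ⁻¹ᵁ V) (a : Γ(T, V)) :
    (Y.presheaf.map (homOfLE h).op).hom ((φ.appLE V W₁ hW₁).hom a) =
      (φ.appLE V W₂ (h.trans hW₁)).hom a :=
  congrArg (fun ψ => ψ.hom a) (Scheme.Hom.appLE_map φ hW₁ (homOfLE h).op)

include hc hK hL hfl in
/-- the Mayer–Vietoris step -/
theorem PW_sup (W₁ W₂ : X.Opens) (h₁ : PW hVV f f' α W₁) (h₂ : PW hVV f f' α W₂)
    (h₁₂ : PW hVV f f' α (W₁ ⊓ W₂)) : PW hVV f f' α (W₁ ⊔ W₂) := by
  intro hWV q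
  letI := (g.appLE V V' hVV).hom.toAlgebra
  haveI : Module.Flat Γ(S, V) Γ(S', V') := hfl
  have hW₁ : W₁ ≤ f ⁻¹ᵁ V := le_sup_left.trans hWV
  have hW₂ : W₂ ≤ f ⁻¹ᵁ V := le_sup_right.trans hWV
  have hW₁₂ : W₁ ⊓ W₂ ≤ f ⁻¹ᵁ V := inf_le_left.trans hW₁
  have hpre : ∀ {A B : X.Opens}, A ≤ B → g' ⁻¹ᵁ A ⊓ f' ⁻¹ᵁ V' ≤ g' ⁻¹ᵁ B ⊓ f' ⁻¹ᵁ V' :=
    fun h x hx => ⟨h hx.1, hx.2⟩
  have hP₁ : g' ⁻¹ᵁ W₁ ⊓ f' ⁻¹ᵁ V' ≤ g' ⁻¹ᵁ (W₁ ⊔ W₂) ⊓ f' ⁻¹ᵁ V' := hpre le_sup_left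
  have hP₂ : g' ⁻¹ᵁ W₂ ⊓ f' ⁻¹ᵁ V' ≤ g' ⁻¹ᵁ (W₁ ⊔ W₂) ⊓ f' ⁻¹ᵁ V' := hpre le_sup_right
  have hP₁' : g' ⁻¹ᵁ (W₁ ⊓ W₂) ⊓ f' ⁻¹ᵁ V' ≤ g' ⁻¹ᵁ W₁ ⊓ f' ⁻¹ᵁ V' := hpre inf_le_left
  have hP₂' : g' ⁻¹ᵁ (W₁ ⊓ W₂) ⊓ f' ⁻¹ᵁ V' ≤ g' ⁻¹ᵁ W₂ ⊓ f' ⁻¹ᵁ V' := hpre inf_le_right
  have hPc : g' ⁻¹ᵁ (W₁ ⊔ W₂) ⊓ f' ⁻¹ᵁ V' ≤
      (g' ⁻¹ᵁ W₁ ⊓ f' ⁻¹ᵁ V') ⊔ (g' ⁻¹ᵁ W₂ ⊓ f' ⁻¹ᵁ V') := by
    rintro x ⟨hx1, hx2⟩
    rcases hx1 with h | h
    · exact Or.inl ⟨h, hx2⟩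
    · exact Or.inr ⟨h, hx2⟩
  have hPi : (g' ⁻¹ᵁ W₁ ⊓ f' ⁻¹ᵁ V') ⊓ (g' ⁻¹ᵁ W₂ ⊓ f' ⁻¹ᵁ V') ≤
      g' ⁻¹ᵁ (W₁ ⊓ W₂) ⊓ f' ⁻¹ᵁ V' := fun x hx => ⟨⟨hx.1.1, hx.2.1⟩, hx.1.2⟩
  -- the split sequences
  have hT := splitS_shortExact K W₁ W₂
  have hT' := splitS_shortExact L (g' ⁻¹ᵁ W₁ ⊓ f' ⁻¹ᵁ V') (g' ⁻¹ᵁ W₂ ⊓ f' ⁻¹ᵁ V')
  let Ψ : splitS K W₁ W₂ ⟶ splitS L (g' ⁻¹ᵁ W₁ ⊓ f' ⁻¹ᵁ V') (g' ⁻¹ᵁ W₂ ⊓ f' ⁻¹ᵁ V') :=
    { τ₁ := tauG α (Γf W₁) (Γf (g' ⁻¹ᵁ W₁ ⊓ f' ⁻¹ᵁ V')) (resPush g' inf_le_left)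
      τ₂ := tauG α (Γ₂ W₁ W₂) (Γ₂ (g' ⁻¹ᵁ W₁ ⊓ f' ⁻¹ᵁ V') (g' ⁻¹ᵁ W₂ ⊓ f' ⁻¹ᵁ V'))
        (resPush₂ g' inf_le_left inf_le_left)
      τ₃ := tauG α (Γf W₂) (Γf (g' ⁻¹ᵁ W₂ ⊓ f' ⁻¹ᵁ V')) (resPush g' inf_le_left)
      comm₁₂ := (tauG_comp α (resPush g' inf_le_left) (resPush₂ g' inf_le_left inf_le_left)
        inl₂ inl₂ (fun N' => inl₂_resPush g' _ _ N')).symm
      comm₂₃ := (tauG_comp α (resPush₂ g' inf_le_left inf_le_left) (resPush g' inf_le_left)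
        pr₂ pr₂ (fun N' => pr₂_resPush g' _ _ N')).symm }
  have cm₁ : ∀ r : Γ(S, V), (g'.appLE W₁ (g' ⁻¹ᵁ W₁ ⊓ f' ⁻¹ᵁ V') inf_le_left).hom
      ((f.appLE V W₁ hW₁).hom r) =
      (f'.appLE V' (g' ⁻¹ᵁ W₁ ⊓ f' ⁻¹ᵁ V') inf_le_right).hom (algebraMap Γ(S, V) Γ(S', V') r) :=
    fun r => QBCH8.appLE_comm_apply hc hW₁ hVV inf_le_left inf_le_right r
  have cm₂ : ∀ r : Γ(S, V), (g'.appLE W₂ (g' ⁻¹ᵁ W₂ ⊓ f' ⁻¹ᵁ V') inf_le_left).hom
      ((f.appLE V W₂ hW₂).hom r) =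
      (f'.appLE V' (g' ⁻¹ᵁ W₂ ⊓ f' ⁻¹ᵁ V') inf_le_right).hom (algebraMap Γ(S, V) Γ(S', V') r) :=
    fun r => QBCH8.appLE_comm_apply hc hW₂ hVV inf_le_left inf_le_right r
  have cm : ∀ r : Γ(S, V), (g'.appLE (W₁ ⊔ W₂) (g' ⁻¹ᵁ (W₁ ⊔ W₂) ⊓ f' ⁻¹ᵁ V') inf_le_left).hom
      ((f.appLE V (W₁ ⊔ W₂) hWV).hom r) =
      (f'.appLE V' (g' ⁻¹ᵁ (W₁ ⊔ W₂) ⊓ f' ⁻¹ᵁ V') inf_le_right).hom
        (algebraMap Γ(S, V) Γ(S', V') r) :=
    fun r => QBCH8.appLE_comm_apply hc hWV hVV inf_le_left inf_le_right r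
  have H₂ : ∀ q, BCq (secAct₂ K (f.appLE V W₁ hW₁).hom (f.appLE V W₂ hW₂).hom)
      (secAct₂ L (f'.appLE V' (g' ⁻¹ᵁ W₁ ⊓ f' ⁻¹ᵁ V') inf_le_right).hom
        (f'.appLE V' (g' ⁻¹ᵁ W₂ ⊓ f' ⁻¹ᵁ V') inf_le_right).hom) Ψ.τ₂ q :=
    ladder₂ hT hT' (secAct K (f.appLE V W₁ hW₁).hom)
      (secAct₂ K (f.appLE V W₁ hW₁).hom (f.appLE V W₂ hW₂).hom)
      (secAct K (f.appLE V W₂ hW₂).hom)
      (secAct L (f'.appLE V' (g' ⁻¹ᵁ W₁ ⊓ f' ⁻¹ᵁ V') inf_le_right).hom)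
      (secAct₂ L (f'.appLE V' (g' ⁻¹ᵁ W₁ ⊓ f' ⁻¹ᵁ V') inf_le_right).hom
        (f'.appLE V' (g' ⁻¹ᵁ W₂ ⊓ f' ⁻¹ᵁ V') inf_le_right).hom)
      (secAct L (f'.appLE V' (g' ⁻¹ᵁ W₂ ⊓ f' ⁻¹ᵁ V') inf_le_right).hom)
      (fun r => mapHC_comm K (smulΓ _) inl₂ inl₂ (smulΓ₂ _ _) (smul_inl₂ _ _))
      (fun r => mapHC_comm K (smulΓ₂ _ _) pr₂ pr₂ (smulΓ _) (smul_pr₂ _ _))
      (fun r => mapHC_comm L (smulΓ _) inl₂ inl₂ (smulΓ₂ _ _) (smul_inl₂ _ _))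
      (fun r => mapHC_comm L (smulΓ₂ _ _) pr₂ pr₂ (smulΓ _) (smul_pr₂ _ _))
      Ψ
      (fun r => tauG_comp α (resPush₂ g' inf_le_left inf_le_left)
        (resPush₂ g' inf_le_left inf_le_left) (smulΓ₂ _ _) (smulΓ₂ _ _)
        (fun N' => smulΓ₂_resPush g' _ _ _ _ _ _ (cm₁ r) (cm₂ r) N'))
      (h₁ hW₁) (h₂ hW₂)
  -- the Mayer–Vietoris sequences
  have hS : (mvS K (le_sup_left : W₁ ≤ W₁ ⊔ W₂) le_sup_right
      (inf_le_left : W₁ ⊓ W₂ ≤ W₁) inf_le_right).ShortExact :=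
    mvS_shortExact K _ _ _ _ le_rfl le_rfl (fun n => by
      haveI := hK n
      exact res_surjective_of_injective (K.X n) _)
  have hS' : (mvS L hP₁ hP₂ hP₁' hP₂').ShortExact :=
    mvS_shortExact L _ _ _ _ hPc hPi (fun n => by
      haveI := hL n
      exact res_surjective_of_injective (L.X n) _)
  let Φ : mvS K (le_sup_left : W₁ ≤ W₁ ⊔ W₂) le_sup_right
      (inf_le_left : W₁ ⊓ W₂ ≤ W₁) inf_le_right ⟶ mvS L hP₁ hP₂ hP₁' hP₂' :=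
    { τ₁ := tauG α (Γf (W₁ ⊔ W₂)) (Γf (g' ⁻¹ᵁ (W₁ ⊔ W₂) ⊓ f' ⁻¹ᵁ V')) (resPush g' inf_le_left)
      τ₂ := tauG α (Γ₂ W₁ W₂) (Γ₂ (g' ⁻¹ᵁ W₁ ⊓ f' ⁻¹ᵁ V') (g' ⁻¹ᵁ W₂ ⊓ f' ⁻¹ᵁ V'))
        (resPush₂ g' inf_le_left inf_le_left)
      τ₃ := tauG α (Γf (W₁ ⊓ W₂)) (Γf (g' ⁻¹ᵁ (W₁ ⊓ W₂) ⊓ f' ⁻¹ᵁ V')) (resPush g' inf_le_left)
      comm₁₂ := (tauG_comp α (resPush g' inf_le_left) (resPush₂ g' inf_le_left inf_le_left)
        (mvι _ _) (mvι _ _) (fun N' => mvι_resPush g' _ _ _ _ _ _ _ N')).symm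
      comm₂₃ := (tauG_comp α (resPush₂ g' inf_le_left inf_le_left) (resPush g' inf_le_left)
        (mvπ _ _) (mvπ _ _) (fun N' => mvπ_resPush g' _ _ _ _ _ _ _ N')).symm }
  exact ladder₁ hS hS' (secAct K (f.appLE V (W₁ ⊔ W₂) hWV).hom)
    (secAct₂ K (f.appLE V W₁ hW₁).hom (f.appLE V W₂ hW₂).hom)
    (secAct K (f.appLE V (W₁ ⊓ W₂) hW₁₂).hom)
    (secAct L (f'.appLE V' (g' ⁻¹ᵁ (W₁ ⊔ W₂) ⊓ f' ⁻¹ᵁ V') inf_le_right).hom)
    (secAct₂ L (f'.appLE V' (g' ⁻¹ᵁ W₁ ⊓ f' ⁻¹ᵁ V') inf_le_right).hom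
      (f'.appLE V' (g' ⁻¹ᵁ W₂ ⊓ f' ⁻¹ᵁ V') inf_le_right).hom)
    (secAct L (f'.appLE V' (g' ⁻¹ᵁ (W₁ ⊓ W₂) ⊓ f' ⁻¹ᵁ V') inf_le_right).hom)
    (fun r => mapHC_comm K (smulΓ _) (mvι _ _) (mvι _ _) (smulΓ₂ _ _)
      (smul_mvι _ _ _ _ _ (appLE_res' f le_sup_left hWV r) (appLE_res' f le_sup_right hWV r)))
    (fun r => mapHC_comm K (smulΓ₂ _ _) (mvπ _ _) (mvπ _ _) (smulΓ _)
      (smul_mvπ _ _ _ _ _ (appLE_res' f inf_le_left hW₁ r) (appLE_res' f inf_le_right hW₂ r)))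
    (fun r => mapHC_comm L (smulΓ _) (mvι _ _) (mvι _ _) (smulΓ₂ _ _)
      (smul_mvι _ _ _ _ _ (appLE_res' f' hP₁ inf_le_right r) (appLE_res' f' hP₂ inf_le_right r)))
    (fun r => mapHC_comm L (smulΓ₂ _ _) (mvπ _ _) (mvπ _ _) (smulΓ _)
      (smul_mvπ _ _ _ _ _ (appLE_res' f' hP₁' inf_le_right r) (appLE_res' f' hP₂' inf_le_right r)))
    Φ
    (fun r => tauG_comp α (resPush g' inf_le_left) (resPush g' inf_le_left) (smulΓ _) (smulΓ _)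
      (fun N' => smulΓ_resPush g' _ _ _ (cm r) N'))
    H₂ (h₁₂ hW₁₂) q

end MV

section Core

variable {X S X' S' : Scheme.{u}} {f : X ⟶ S} {g : S' ⟶ S} {g' : X' ⟶ X} {f' : X' ⟶ S'}
  (hc : IsPullback g' f' f g) {V : S.Opens} {V' : S'.Opens} (hV : IsAffineOpen V)
  (hV' : IsAffineOpen V') (hVV : V' ≤ g ⁻¹ᵁ V) (hfl : (g.appLE V V' hVV).hom.Flat)
  [QuasiSeparated f] [HasInjectiveResolutions X.Modules] [HasInjectiveResolutions X'.Modules]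
  (M : X.Modules) [M.IsQuasicoherent] (I : InjectiveResolution M)
  (J : InjectiveResolution ((Scheme.Modules.pullback g').obj M))
  (α : I.cocomplex ⟶
    ((Scheme.Modules.pushforward g').mapHomologicalComplex (ComplexShape.up ℕ)).obj J.cocomplex)
  (hα : I.ι.f 0 ≫ α.f 0 = (Scheme.Modules.pullbackPushforwardAdjunction g').unit.app M ≫
    (Scheme.Modules.pushforward g').map (J.ι.f 0))

include hc hV hV' hfl hα in
/-- **Flat base change for the complexes of sections** over quasi-compact opens. -/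
theorem PW_of_isCompact (W : X.Opens) (hW : IsCompact (W : Set X)) (hWV : W ≤ f ⁻¹ᵁ V) :
    PW hVV f f' α W := by
  refine qc_induction_rel (PW hVV f f' α) (f ⁻¹ᵁ V)
    (Scheme.Hom.isQuasiSeparated_preimage f hV.isQuasiSeparated) ?_ ?_ W hW hWV
  · intro U hU _
    exact PW_affine hc hV hV' hVV M I J α hα U hU
  · intro U₁ U₂ _ _ h₁ h₂ h₁₂
    exact PW_sup hc hVV α (fun n => inferInstance) (fun n => inferInstance) hfl U₁ U₂ h₁ h₂ h₁₂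

include hc hV hV' hfl hα in
/-- the same, with the open of `X'` given up to equality -/
theorem bcq_of_isCompact (W : X.Opens) (hW : IsCompact (W : Set X)) (hWV : W ≤ f ⁻¹ᵁ V)
    (P : X'.Opens) (hP : P = g' ⁻¹ᵁ W ⊓ f' ⁻¹ᵁ V') (hPV : P ≤ f' ⁻¹ᵁ V') (k : P ≤ g' ⁻¹ᵁ W)
    (q : ℕ) :
    letI := (g.appLE V V' hVV).hom.toAlgebra
    BCq (secAct I.cocomplex (f.appLE V W hWV).hom) (secAct J.cocomplex (f'.appLE V' P hPV).hom)
      (tauG α (Γf W) (Γf P) (resPush g' k)) q := by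
  subst hP
  exact PW_of_isCompact hc hV hV' hVV hfl M I J α hα W hW hWV hWV q

end Core

end Groth.Agent.Lib.FlatBCQ
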