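import Mathlib
import Groth.Prelude.Def_RDer

/-!
# Naturality properties of `RDer.homologyComparison` (helper2)

For a left exact additive functor `Ψ` the comparison `H^i (Ψ K) ⟶ Ψ (H^i K)` is natural in the
complex `K`, natural in the functor `Ψ`, and compatible with composition of functors.
APPEND-ONLY once landed.
-/

set_option autoImplicit false
universe v₁ v₂ v₃ u₁ u₂ u₃

open CategoryTheory CategoryTheory.Limits HomologicalComplex

namespace Groth.Agent.Lib.HCompNat

open RDer

variable {B : Type u₂} [Category.{v₂} B] [Abelian B] {C : Type u₃} [Category.{v₃} C] [Abelian C]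
  {ι' : Type*} {c : ComplexShape ι'}

section NatComplex

variable (Ψ : B ⥤ C) [Ψ.Additive] [PreservesFiniteLimits Ψ] {K L : HomologicalComplex B c}
  (φ : K ⟶ L) (i : ι')

set_option backward.isDefEq.respectTransparency false in
lemma cyclesComparison_naturality :
    cyclesMap ((Ψ.mapHomologicalComplex c).map φ) i ≫ cyclesComparison Ψ L i =
      cyclesComparison Ψ K i ≫ Ψ.map (cyclesMap φ i) := by
  rw [← cancel_mono (Ψ.map (L.iCycles i)), Category.assoc, Category.assoc, cyclesComparison_i,
    cyclesMap_i, ← Ψ.map_comp, cyclesMap_i, Ψ.map_comp, cyclesComparison_i_assoc]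
  rfl

set_option backward.isDefEq.respectTransparency false in
lemma homologyComparison_naturality :
    homologyMap ((Ψ.mapHomologicalComplex c).map φ) i ≫ homologyComparison Ψ L i =
      homologyComparison Ψ K i ≫ Ψ.map (homologyMap φ i) := by
  rw [← cancel_epi (((Ψ.mapHomologicalComplex c).obj K).homologyπ i),
    homologyπ_naturality_assoc, homologyπ_homologyComparison, homologyπ_homologyComparison_assoc,
    ← Ψ.map_comp, homologyπ_naturality, Ψ.map_comp, ← Category.assoc,
    cyclesComparison_naturality, Category.assoc]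

end NatComplex

section NatFunctor

variable {Ψ Ξ : B ⥤ C} [Ψ.Additive] [PreservesFiniteLimits Ψ] [Ξ.Additive]
  [PreservesFiniteLimits Ξ] (ρ : Ψ ⟶ Ξ) (L : HomologicalComplex B c) (i : ι')

set_option backward.isDefEq.respectTransparency false in
lemma cyclesComparison_natTrans :
    cyclesComparison Ψ L i ≫ ρ.app (L.cycles i) =
      cyclesMap ((NatTrans.mapHomologicalComplex ρ c).app L) i ≫ cyclesComparison Ξ L i := by
  rw [← cancel_mono (Ξ.map (L.iCycles i)), Category.assoc, Category.assoc, cyclesComparison_i,
    cyclesMap_i, ← ρ.naturality, cyclesComparison_i_assoc]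
  rfl

set_option backward.isDefEq.respectTransparency false in
lemma homologyComparison_natTrans :
    homologyComparison Ψ L i ≫ ρ.app (L.homology i) =
      homologyMap ((NatTrans.mapHomologicalComplex ρ c).app L) i ≫ homologyComparison Ξ L i := by
  rw [← cancel_epi (((Ψ.mapHomologicalComplex c).obj L).homologyπ i),
    homologyπ_homologyComparison_assoc, homologyπ_naturality_assoc, homologyπ_homologyComparison,
    ρ.naturality, ← Category.assoc, cyclesComparison_natTrans, Category.assoc]

end NatFunctor

section Comp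

variable {A : Type u₁} [Category.{v₁} A] [Abelian A]
  (Φ : A ⥤ B) [Φ.Additive] [PreservesFiniteLimits Φ] (Ψ : B ⥤ C) [Ψ.Additive]
  [PreservesFiniteLimits Ψ] (L : HomologicalComplex A c) (i : ι')

set_option backward.isDefEq.respectTransparency false in
lemma cyclesComparison_comp :
    cyclesComparison (Φ ⋙ Ψ) L i =
      (cyclesComparison Ψ ((Φ.mapHomologicalComplex c).obj L) i :
        (((Φ ⋙ Ψ).mapHomologicalComplex c).obj L).cycles i ⟶ _) ≫
        Ψ.map (cyclesComparison Φ L i) := by
  rw [← cancel_mono ((Φ ⋙ Ψ).map (L.iCycles i)), cyclesComparison_i, Category.assoc]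
  have h : Ψ.map (cyclesComparison Φ L i) ≫ (Φ ⋙ Ψ).map (L.iCycles i) =
      Ψ.map (((Φ.mapHomologicalComplex c).obj L).iCycles i) := by
    rw [Functor.comp_map, ← Ψ.map_comp, cyclesComparison_i]
  rw [h]
  exact (cyclesComparison_i Ψ ((Φ.mapHomologicalComplex c).obj L) i).symm

set_option backward.isDefEq.respectTransparency false in
lemma homologyComparison_comp :
    homologyComparison (Φ ⋙ Ψ) L i =
      (homologyComparison Ψ ((Φ.mapHomologicalComplex c).obj L) i :
        (((Φ ⋙ Ψ).mapHomologicalComplex c).obj L).homology i ⟶ _) ≫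
        Ψ.map (homologyComparison Φ L i) := by
  rw [← cancel_epi ((((Φ ⋙ Ψ).mapHomologicalComplex c).obj L).homologyπ i),
    homologyπ_homologyComparison, cyclesComparison_comp]
  have h1 := homologyπ_homologyComparison Ψ ((Φ.mapHomologicalComplex c).obj L) i
  have h2 := homologyπ_homologyComparison Φ L i
  have h3 : (((Φ ⋙ Ψ).mapHomologicalComplex c).obj L).homologyπ i ≫
      (homologyComparison Ψ ((Φ.mapHomologicalComplex c).obj L) i :
        (((Φ ⋙ Ψ).mapHomologicalComplex c).obj L).homology i ⟶ _) =
      (cyclesComparison Ψ ((Φ.mapHomologicalComplex c).obj L) i :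
        (((Φ ⋙ Ψ).mapHomologicalComplex c).obj L).cycles i ⟶ _) ≫
        Ψ.map (((Φ.mapHomologicalComplex c).obj L).homologyπ i) := h1
  rw [← Category.assoc, h3, Category.assoc, Category.assoc, ← Ψ.map_comp, h2, Ψ.map_comp]
  rfl

end Comp

end Groth.Agent.Lib.HCompNat
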