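import Mathlib
import Groth.Prelude.Def_CohBC2
import Groth.Agent.Lib.FlatBCQ1_helper2
import Groth.Agent.Lib.HCompNat_helper2
import Groth.Agent.Lib.HComp1_helper9
import Groth.Agent.Lib.RpushQC3_helper9
import Groth.Agent.Lib.QCohCrit2_helper9

/-!
# Flat base change in all degrees, II: the base change morphism (helper2)

The base change morphism `CohBC.bcQ` of a cartesian square with `f` quasi-compact quasi-separated
and `g` flat is an isomorphism on quasi-coherent modules.
APPEND-ONLY once landed.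
-/

set_option autoImplicit false
universe u

open CategoryTheory CategoryTheory.Limits AlgebraicGeometry Opposite TopologicalSpace
  HomologicalComplex

namespace Groth.Agent.Lib.FlatBCQ

open Groth.Agent.Lib.SecCx Groth.Agent.Lib.ActCx Groth.Agent.Lib.FlatBCH2 Groth.Agent.Lib.SecDer

section Unfold

variable {X S X' S' : Scheme.{u}} (f : X ⟶ S) (g : S' ⟶ S) (f' : X' ⟶ S') (g' : X' ⟶ X)
  (w : g' ≫ f = f' ≫ g) [HasInjectiveResolutions X.Modules] [HasInjectiveResolutions X'.Modules]
  [PreservesFiniteLimits (Scheme.Modules.pullback g')] (M : X.Modules)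

/-- the chosen comparison `I_M ⟶ g'_* I_{g'^* M}` over the unit -/
noncomputable def alphaC :
    (injectiveResolution M).cocomplex ⟶
      ((Scheme.Modules.pushforward g').mapHomologicalComplex (ComplexShape.up ℕ)).obj
        (injectiveResolution ((Scheme.Modules.pullback g').obj M)).cocomplex :=
  InjectiveResolution.desc ((Scheme.Modules.pullbackPushforwardAdjunction g').unit.app M)
      (injectiveResolution ((Scheme.Modules.pushforward g').obj ((Scheme.Modules.pullback g').obj M))) (injectiveResolution M) ≫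
    RDer.descToInjectives (𝟙 ((Scheme.Modules.pushforward g').obj ((Scheme.Modules.pullback g').obj M)))
      (injectiveResolution ((Scheme.Modules.pushforward g').obj ((Scheme.Modules.pullback g').obj M))).cocomplex
      (injectiveResolution ((Scheme.Modules.pushforward g').obj ((Scheme.Modules.pullback g').obj M))).ι
      (((Scheme.Modules.pushforward g').mapHomologicalComplex _).obj
        (injectiveResolution ((Scheme.Modules.pullback g').obj M)).cocomplex)
      (RDer.mapAug (Scheme.Modules.pushforward g') (injectiveResolution ((Scheme.Modules.pullback g').obj M)).ι)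

set_option backward.isDefEq.respectTransparency false in
lemma alphaC_zero :
    (injectiveResolution M).ι.f 0 ≫ (alphaC g' M).f 0 =
      (Scheme.Modules.pullbackPushforwardAdjunction g').unit.app M ≫
        (Scheme.Modules.pushforward g').map ((injectiveResolution ((Scheme.Modules.pullback g').obj M)).ι.f 0) := by
  unfold alphaC
  rw [HomologicalComplex.comp_f, ← Category.assoc, InjectiveResolution.desc_commutes_zero,
    Category.assoc, RDer.ι_descToInjectives_f_zero]
  simp [HomologicalComplex.singleMapHomologicalComplex_inv_app_self]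

/-- the chain map `f_* I ⟶ g_* f'_* J` computing the adjoint base change morphism -/
noncomputable def betaC :
    ((Scheme.Modules.pushforward f).mapHomologicalComplex (ComplexShape.up ℕ)).obj
        (injectiveResolution M).cocomplex ⟶
      ((Scheme.Modules.pushforward f' ⋙ Scheme.Modules.pushforward g).mapHomologicalComplex
        (ComplexShape.up ℕ)).obj (injectiveResolution ((Scheme.Modules.pullback g').obj M)).cocomplex :=
  (((Scheme.Modules.pushforward f).mapHomologicalComplex _).map (alphaC g' M) :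
    ((Scheme.Modules.pushforward f).mapHomologicalComplex (ComplexShape.up ℕ)).obj
        (injectiveResolution M).cocomplex ⟶
      ((Scheme.Modules.pushforward g' ⋙ Scheme.Modules.pushforward f).mapHomologicalComplex
        (ComplexShape.up ℕ)).obj
          (injectiveResolution ((Scheme.Modules.pullback g').obj M)).cocomplex) ≫
    (NatTrans.mapHomologicalComplex (Scheme.Modules.pushforwardComp g' f ≪≫
      Scheme.Modules.pushforwardCongr w ≪≫ (Scheme.Modules.pushforwardComp f' g).symm).hom _).app _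

set_option backward.isDefEq.respectTransparency false in
theorem bcQAdj_eq (q : ℕ) :
    CohBC.bcQAdj f g f' g' w q M =
      ((injectiveResolution M).isoRightDerivedObj (Scheme.Modules.pushforward f) q).hom ≫
        homologyMap (betaC f g f' g' w M) q ≫
        RDer.homologyComparison (Scheme.Modules.pushforward g)
          (((Scheme.Modules.pushforward f').mapHomologicalComplex _).obj
            (injectiveResolution ((Scheme.Modules.pullback g').obj M)).cocomplex) q ≫
        (Scheme.Modules.pushforward g).map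
          ((injectiveResolution ((Scheme.Modules.pullback g').obj M)).isoRightDerivedObj
            (Scheme.Modules.pushforward f') q).inv := by
  have hφ := InjectiveResolution.desc_commutes
    ((Scheme.Modules.pullbackPushforwardAdjunction g').unit.app M)
    (injectiveResolution ((Scheme.Modules.pushforward g').obj ((Scheme.Modules.pullback g').obj M)))
    (injectiveResolution M)
  dsimp only [CohBC.bcQAdj, RDer.edgeIn, RDer.edgeOut, CohBC.RpushSquareIso, RDer.rightDerivedIso,
    Coh.Rpush]
  rw [Functor.rightDerived_map_eq (Scheme.Modules.pushforward f) q _ _ hφ,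
    InjectiveResolution.rightDerived_app_eq _
      (injectiveResolution ((Scheme.Modules.pullback g').obj M)) q]
  simp only [Category.assoc, Iso.inv_hom_id_assoc]
  congr 1
  unfold betaC alphaC
  simp only [Functor.comp_map, homologyFunctor_map, Functor.map_comp, homologyMap_comp,
    Category.assoc]

end Unfold

section HCIso

variable {X S : Scheme.{u}} (f : X ⟶ S) [QuasiCompact f] [QuasiSeparated f]
  [HasInjectiveResolutions X.Modules] (M : X.Modules) [M.IsQuasicoherent]
  (I : InjectiveResolution M) {V : S.Opens} (hV : IsAffineOpen V) (q : ℕ)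

include hV in
theorem isIso_hc_sections :
    IsIso (RDer.homologyComparison (Γf V)
      (((Scheme.Modules.pushforward f).mapHomologicalComplex (ComplexShape.up ℕ)).obj
        I.cocomplex) q) := by
  haveI : HasInjectiveResolutions S.Modules := by
    haveI := RpushQC.enoughInjectives_modules S
    infer_instance
  apply Groth.Agent.Lib.HComp.isIso_homologyComparison
  · intro n i hi
    obtain ⟨k, rfl⟩ : ∃ k, i = k + 1 := ⟨i - 1, by omega⟩
    exact isZero_rightDerived_push_injective f (I.cocomplex.X n) V k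
  · intro n
    haveI := RpushQC.isQuasicoherent_Rpush f M n
    refine Groth.Agent.Lib.HComp.acyc_of_iso _
      (I.isoRightDerivedObj (Scheme.Modules.pushforward f) n) ?_
    intro i hi
    obtain ⟨k, rfl⟩ : ∃ k, i = k + 1 := ⟨i - 1, by omega⟩
    exact isZero_rightDerived_of_isAffineOpen hV _ k

/-- `H^q(Γ(V, f_* I)) ⟶ Γ(V, R^q f_* M)` -/
noncomputable def eHom :
    (((Γf V).mapHomologicalComplex (ComplexShape.up ℕ)).obj
      (((Scheme.Modules.pushforward f).mapHomologicalComplex (ComplexShape.up ℕ)).obj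
        I.cocomplex)).homology q ⟶ (Γf V).obj ((Coh.Rpush f q).obj M) :=
  RDer.homologyComparison (Γf V)
      (((Scheme.Modules.pushforward f).mapHomologicalComplex (ComplexShape.up ℕ)).obj
        I.cocomplex) q ≫
    (Γf V).map (I.isoRightDerivedObj (Scheme.Modules.pushforward f) q).inv

include hV in
theorem isIso_eHom : IsIso (eHom f M I (V := V) q) := by
  haveI := isIso_hc_sections f M I hV q
  unfold eHom
  infer_instance

/-- the two descriptions of the action of `Γ(S, V)` on the complex of sections -/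
lemma smul_complex_eq (a : Γ(S, V)) (h : f ⁻¹ᵁ V ≤ f ⁻¹ᵁ V) :
    ((NatTrans.mapHomologicalComplex (smulΓ ((f.appLE V (f ⁻¹ᵁ V) h).hom a))
        (ComplexShape.up ℕ)).app I.cocomplex :
      ((Γf V).mapHomologicalComplex (ComplexShape.up ℕ)).obj
        (((Scheme.Modules.pushforward f).mapHomologicalComplex (ComplexShape.up ℕ)).obj
          I.cocomplex) ⟶ _) =
      (NatTrans.mapHomologicalComplex (smulΓ a) (ComplexShape.up ℕ)).app
        (((Scheme.Modules.pushforward f).mapHomologicalComplex (ComplexShape.up ℕ)).obj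
          I.cocomplex) := by
  refine HomologicalComplex.hom_ext _ _ (fun n => ?_)
  apply AddCommGrpCat.hom_ext
  apply AddMonoidHom.ext
  intro x
  have h1 : (f.appLE V (f ⁻¹ᵁ V) h).hom a = (f.app V).hom a :=
    congrArg (fun ψ => ψ.hom a) (Scheme.Hom.appLE_eq_app (f := f) (U := V))
  show ((I.cocomplex.X n).smul ((f.appLE V (f ⁻¹ᵁ V) h).hom a)).hom x =
    (((Scheme.Modules.pushforward f).obj (I.cocomplex.X n)).smul a).hom x
  rw [h1]
  rfl

lemma eHom_smul (a : Γ(S, V)) :
    homologyMap ((NatTrans.mapHomologicalComplex (smulΓ a) (ComplexShape.up ℕ)).app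
        (((Scheme.Modules.pushforward f).mapHomologicalComplex (ComplexShape.up ℕ)).obj
          I.cocomplex)) q ≫ eHom f M I (V := V) q =
      eHom f M I (V := V) q ≫ (smulΓ a).app ((Coh.Rpush f q).obj M) := by
  let L := ((Scheme.Modules.pushforward f).mapHomologicalComplex (ComplexShape.up ℕ)).obj
    I.cocomplex
  let N := (Coh.Rpush f q).obj M
  let hcL : (((Γf V).mapHomologicalComplex (ComplexShape.up ℕ)).obj L).homology q ⟶
    (Γf V).obj (L.homology q) := RDer.homologyComparison (Γf V) L q
  let m : (Γf V).obj (L.homology q) ⟶ (Γf V).obj N :=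
    (Γf V).map (I.isoRightDerivedObj (Scheme.Modules.pushforward f) q).inv
  let sH : (Γf V).obj (L.homology q) ⟶ (Γf V).obj (L.homology q) := (smulΓ a).app (L.homology q)
  let sN : (Γf V).obj N ⟶ (Γf V).obj N := (smulΓ a).app N
  let sL := homologyMap ((NatTrans.mapHomologicalComplex (smulΓ a) (ComplexShape.up ℕ)).app L) q
  have h1 : hcL ≫ sH = sL ≫ hcL :=
    Groth.Agent.Lib.HCompNat.homologyComparison_natTrans (smulΓ a) L q
  have h2 : m ≫ sN = sH ≫ m :=
    (smulΓ a).naturality (I.isoRightDerivedObj (Scheme.Modules.pushforward f) q).inv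
  show sL ≫ (hcL ≫ m) = (hcL ≫ m) ≫ sN
  calc sL ≫ (hcL ≫ m) = (sL ≫ hcL) ≫ m := (Category.assoc _ _ _).symm
    _ = (hcL ≫ sH) ≫ m := congrArg (fun t => t ≫ m) h1.symm
    _ = hcL ≫ (sH ≫ m) := Category.assoc _ _ _
    _ = hcL ≫ (m ≫ sN) := congrArg (fun t => hcL ≫ t) h2.symm
    _ = (hcL ≫ m) ≫ sN := (Category.assoc _ _ _).symm

include hV in
/-- `H^q(Γ(f⁻¹V, I)) ≃ Γ(V, R^q f_* M)`, linearly over `Γ(S, V)` -/
noncomputable def eLin (h : f ⁻¹ᵁ V ≤ f ⁻¹ᵁ V) :
    (secAct I.cocomplex (f.appLE V (f ⁻¹ᵁ V) h).hom).H q ≃ₗ[Γ(S, V)]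
      Γ((Coh.Rpush f q).obj M, V) :=
  haveI := isIso_eHom f M I hV q
  { (asIso (eHom f M I (V := V) q)).addCommGroupIsoToAddEquiv with
    map_smul' := fun a x => by
      have h3 := eHom_smul f M I (V := V) q a
      have h5 := smul_complex_eq f M I a h
      have h4 := congrArg (fun ψ : (((Γf V).mapHomologicalComplex (ComplexShape.up ℕ)).obj
        (((Scheme.Modules.pushforward f).mapHomologicalComplex (ComplexShape.up ℕ)).obj
          I.cocomplex)).homology q ⟶ (Γf V).obj ((Coh.Rpush f q).obj M) => ψ.hom x) h3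
      rw [← h5] at h4
      exact h4 }

lemma eLin_apply (h : f ⁻¹ᵁ V ≤ f ⁻¹ᵁ V)
    (x : (secAct I.cocomplex (f.appLE V (f ⁻¹ᵁ V) h).hom).H q) :
    eLin f M I hV q h x = (eHom f M I (V := V) q).hom x := rfl

end HCIso

section Pair

variable {X S X' S' : Scheme.{u}} {f : X ⟶ S} {g : S' ⟶ S} {g' : X' ⟶ X} {f' : X' ⟶ S'}
  (hc : IsPullback g' f' f g)
  [HasInjectiveResolutions X.Modules] [HasInjectiveResolutions X'.Modules]
  [PreservesFiniteLimits (Scheme.Modules.pullback g')] (M : X.Modules)
  {V : S.Opens} {V' : S'.Opens} (hVV : V' ≤ g ⁻¹ᵁ V) (q : ℕ)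

/-- `f_*` of the chosen injective resolution -/
noncomputable abbrev LC {X S : Scheme.{u}} (f : X ⟶ S) (M : X.Modules)
    [HasInjectiveResolutions X.Modules] : CochainComplex S.Modules ℕ :=
  ((Scheme.Modules.pushforward f).mapHomologicalComplex (ComplexShape.up ℕ)).obj
    (injectiveResolution M).cocomplex

/-- the map on complexes of sections induced by `betaC` -/
noncomputable def tauC :
    ((Γf V).mapHomologicalComplex (ComplexShape.up ℕ)).obj (LC f M) ⟶
      ((Γf V').mapHomologicalComplex (ComplexShape.up ℕ)).obj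
        (LC f' ((Scheme.Modules.pullback g').obj M)) :=
  ((((Γf V).mapHomologicalComplex (ComplexShape.up ℕ)).map (betaC f g f' g' hc.w M)) :
      ((Γf V).mapHomologicalComplex (ComplexShape.up ℕ)).obj (LC f M) ⟶
        ((Scheme.Modules.pushforward g ⋙ Γf V).mapHomologicalComplex (ComplexShape.up ℕ)).obj
          (LC f' ((Scheme.Modules.pullback g').obj M))) ≫
    (NatTrans.mapHomologicalComplex (resPush g hVV) (ComplexShape.up ℕ)).app
      (LC f' ((Scheme.Modules.pullback g').obj M))

set_option backward.isDefEq.respectTransparency false in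
lemma key1 :
    RDer.homologyComparison (Γf V) (LC f M) q ≫
        (Γf V).map (homologyMap (betaC f g f' g' hc.w M) q ≫
          RDer.homologyComparison (Scheme.Modules.pushforward g)
            (LC f' ((Scheme.Modules.pullback g').obj M)) q) ≫
        (resPush g hVV).app ((LC f' ((Scheme.Modules.pullback g').obj M)).homology q) =
      homologyMap (tauC hc M hVV) q ≫
        RDer.homologyComparison (Γf V') (LC f' ((Scheme.Modules.pullback g').obj M)) q := by
  let L := LC f M
  let L' := LC f' ((Scheme.Modules.pullback g').obj M)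
  let L₂ := ((Scheme.Modules.pushforward g).mapHomologicalComplex (ComplexShape.up ℕ)).obj L'
  let β' : L ⟶ L₂ := betaC f g f' g' hc.w M
  let A1 := ((Γf V).mapHomologicalComplex (ComplexShape.up ℕ)).obj L
  let A2 := ((Γf V).mapHomologicalComplex (ComplexShape.up ℕ)).obj L₂
  let A3 := ((Γf V').mapHomologicalComplex (ComplexShape.up ℕ)).obj L'
  let bV : A1 ⟶ A2 := ((Γf V).mapHomologicalComplex (ComplexShape.up ℕ)).map β'
  let rL : A2 ⟶ A3 := (NatTrans.mapHomologicalComplex (resPush g hVV) (ComplexShape.up ℕ)).app L'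
  let E1 : A1.homology q ⟶ (Γf V).obj (L.homology q) := RDer.homologyComparison (Γf V) L q
  let E2 : A2.homology q ⟶ (Γf V).obj (L₂.homology q) := RDer.homologyComparison (Γf V) L₂ q
  let Eg : L₂.homology q ⟶ (Scheme.Modules.pushforward g).obj (L'.homology q) :=
    RDer.homologyComparison (Scheme.Modules.pushforward g) L' q
  let Ec : A2.homology q ⟶ (Γf V).obj ((Scheme.Modules.pushforward g).obj (L'.homology q)) :=
    RDer.homologyComparison (Scheme.Modules.pushforward g ⋙ Γf V) L' q
  let E3 : A3.homology q ⟶ (Γf V').obj (L'.homology q) := RDer.homologyComparison (Γf V') L' q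
  let r : (Γf V).obj ((Scheme.Modules.pushforward g).obj (L'.homology q)) ⟶
    (Γf V').obj (L'.homology q) := (resPush g hVV).app (L'.homology q)
  have s1 : homologyMap bV q ≫ E2 = E1 ≫ (Γf V).map (homologyMap β' q) :=
    Groth.Agent.Lib.HCompNat.homologyComparison_naturality (Γf V) β' q
  have s2 : Ec = E2 ≫ (Γf V).map Eg :=
    Groth.Agent.Lib.HCompNat.homologyComparison_comp (Scheme.Modules.pushforward g) (Γf V) L' q
  have s3 : Ec ≫ r = homologyMap rL q ≫ E3 :=
    Groth.Agent.Lib.HCompNat.homologyComparison_natTrans (resPush g hVV) L' q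
  show E1 ≫ (Γf V).map (homologyMap β' q ≫ Eg) ≫ r = homologyMap (bV ≫ rL) q ≫ E3
  calc E1 ≫ (Γf V).map (homologyMap β' q ≫ Eg) ≫ r
      = (E1 ≫ (Γf V).map (homologyMap β' q)) ≫ (Γf V).map Eg ≫ r := by
        rw [Functor.map_comp, Category.assoc, Category.assoc]
    _ = (homologyMap bV q ≫ E2) ≫ (Γf V).map Eg ≫ r := by rw [s1]
    _ = homologyMap bV q ≫ (E2 ≫ (Γf V).map Eg) ≫ r := by
        rw [Category.assoc, Category.assoc]
    _ = homologyMap bV q ≫ Ec ≫ r := by rw [← s2]
    _ = homologyMap bV q ≫ homologyMap rL q ≫ E3 := by rw [s3]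
    _ = homologyMap (bV ≫ rL) q ≫ E3 := by rw [homologyMap_comp, Category.assoc]

set_option backward.isDefEq.respectTransparency false in
/-- sections of the adjoint base change morphism, in terms of the complexes of sections -/
lemma key3 [QuasiCompact f] [QuasiSeparated f] [QuasiCompact f'] [QuasiSeparated f']
    [M.IsQuasicoherent] [((Scheme.Modules.pullback g').obj M).IsQuasicoherent] :
    eHom f M (injectiveResolution M) (V := V) q ≫
        (Γf V).map (CohBC.bcQAdj f g f' g' hc.w q M) ≫
        (resPush g hVV).app ((Coh.Rpush f' q).obj ((Scheme.Modules.pullback g').obj M)) =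
      homologyMap (tauC hc M hVV) q ≫
        eHom f' ((Scheme.Modules.pullback g').obj M)
          (injectiveResolution ((Scheme.Modules.pullback g').obj M)) (V := V') q := by
  let G := (Scheme.Modules.pullback g').obj M
  let L := LC f M
  let L' := LC f' G
  let iI := (injectiveResolution M).isoRightDerivedObj (Scheme.Modules.pushforward f) q
  let iJ := (injectiveResolution G).isoRightDerivedObj (Scheme.Modules.pushforward f') q
  let E1 := RDer.homologyComparison (Γf V) L q
  let E3 := RDer.homologyComparison (Γf V') L' q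
  let Eg := RDer.homologyComparison (Scheme.Modules.pushforward g) L' q
  let hβ := homologyMap (betaC f g f' g' hc.w M) q
  let r := (resPush g hVV).app (L'.homology q)
  let rN := (resPush g hVV).app ((Coh.Rpush f' q).obj G)
  have hk := key1 hc M hVV q
  have hnat : (Γf V).map ((Scheme.Modules.pushforward g).map iJ.inv) ≫ rN =
      r ≫ (Γf V').map iJ.inv := (resPush g hVV).naturality iJ.inv
  have hadj : CohBC.bcQAdj f g f' g' hc.w q M =
      iI.hom ≫ (hβ ≫ Eg) ≫ (Scheme.Modules.pushforward g).map iJ.inv := by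
    rw [bcQAdj_eq]
    simp only [Category.assoc]
    rfl
  let m₁ : (Γf V).obj (L.homology q) ⟶ (Γf V).obj ((Coh.Rpush f q).obj M) := (Γf V).map iI.inv
  let m₂ : (Γf V).obj ((Coh.Rpush f q).obj M) ⟶ (Γf V).obj (L.homology q) := (Γf V).map iI.hom
  have hid : m₁ ≫ m₂ = 𝟙 ((Γf V).obj (L.homology q)) := by
    show (Γf V).map iI.inv ≫ (Γf V).map iI.hom = _
    rw [← (Γf V).map_comp, Iso.inv_hom_id, CategoryTheory.Functor.map_id]
    rfl
  let X1 : (Γf V).obj (L.homology q) ⟶ (Γf V').obj ((Coh.Rpush f' q).obj G) :=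
    (Γf V).map (hβ ≫ Eg) ≫ r ≫ (Γf V').map iJ.inv
  have hX : (Γf V).map (iI.hom ≫ (hβ ≫ Eg) ≫ (Scheme.Modules.pushforward g).map iJ.inv) ≫ rN =
      m₂ ≫ X1 := by
    show _ = (Γf V).map iI.hom ≫ (Γf V).map (hβ ≫ Eg) ≫ r ≫ (Γf V').map iJ.inv
    rw [← hnat]
    simp only [Functor.map_comp, Category.assoc]
  unfold eHom
  rw [hadj]
  show (E1 ≫ m₁) ≫ (Γf V).map (iI.hom ≫ (hβ ≫ Eg) ≫
    (Scheme.Modules.pushforward g).map iJ.inv) ≫ rN = _
  rw [hX]
  calc (E1 ≫ m₁) ≫ m₂ ≫ X1 = E1 ≫ (m₁ ≫ m₂) ≫ X1 := by simp only [Category.assoc]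
    _ = E1 ≫ X1 := by rw [hid, Category.id_comp]
    _ = (E1 ≫ (Γf V).map (hβ ≫ Eg) ≫ r) ≫ (Γf V').map iJ.inv := by
        simp only [X1, Category.assoc]
    _ = (homologyMap (tauC hc M hVV) q ≫ E3) ≫ (Γf V').map iJ.inv := by rw [hk]
    _ = homologyMap (tauC hc M hVV) q ≫ E3 ≫ (Γf V').map iJ.inv := Category.assoc _ _ _

omit [HasInjectiveResolutions X.Modules] [HasInjectiveResolutions X'.Modules]
  [PreservesFiniteLimits (Scheme.Modules.pullback g')] in
lemma sqIso_app (N' : X'.Modules) (W : S.Opens) (y : Γ(N', g' ⁻¹ᵁ (f ⁻¹ᵁ W)))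
    (h0 : f' ⁻¹ᵁ (g ⁻¹ᵁ W) ≤ g' ⁻¹ᵁ (f ⁻¹ᵁ W)) :
    (((Scheme.Modules.pushforwardComp g' f ≪≫ Scheme.Modules.pushforwardCongr hc.w ≪≫
      (Scheme.Modules.pushforwardComp f' g).symm).hom.app N').app W).hom y =
      (N'.presheaf.map (homOfLE h0).op).hom y := rfl

set_option backward.isDefEq.respectTransparency false in
lemma tauC_eq (k : f' ⁻¹ᵁ V' ≤ g' ⁻¹ᵁ (f ⁻¹ᵁ V)) :
    tauC hc M hVV = (tauG (alphaC g' M) (Γf (f ⁻¹ᵁ V)) (Γf (f' ⁻¹ᵁ V')) (resPush g' k) :
      ((Γf V).mapHomologicalComplex (ComplexShape.up ℕ)).obj (LC f M) ⟶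
        ((Γf V').mapHomologicalComplex (ComplexShape.up ℕ)).obj
          (LC f' ((Scheme.Modules.pullback g').obj M))) := by
  refine HomologicalComplex.hom_ext _ _ (fun n => ?_)
  apply AddCommGrpCat.hom_ext
  apply AddMonoidHom.ext
  intro x
  have h0 : f' ⁻¹ᵁ (g ⁻¹ᵁ V) ≤ g' ⁻¹ᵁ (f ⁻¹ᵁ V) := by
    intro z hz
    show f (g' z) ∈ V
    have : f (g' z) = g (f' z) := by
      rw [← Scheme.Hom.comp_apply, ← Scheme.Hom.comp_apply, hc.w]
    rw [this]
    exact hz
  let Jn := (injectiveResolution ((Scheme.Modules.pullback g').obj M)).cocomplex.X n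
  let y : Γ(Jn, g' ⁻¹ᵁ (f ⁻¹ᵁ V)) :=
    (((alphaC g' M).f n).app (f ⁻¹ᵁ V)).hom x
  show (((Scheme.Modules.pushforward f').obj Jn).presheaf.map (homOfLE hVV).op).hom
      ((((Scheme.Modules.pushforwardComp g' f ≪≫ Scheme.Modules.pushforwardCongr hc.w ≪≫
        (Scheme.Modules.pushforwardComp f' g).symm).hom.app Jn).app V).hom y) =
    (Jn.presheaf.map (homOfLE k).op).hom y
  rw [sqIso_app hc Jn V y h0, push_res, res_res]

end Pair

section Final

/-- transposition and the canonical map to sections of a pullback -/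
lemma transpose_cUV {S S' : Scheme.{u}} (g : S' ⟶ S) (N : S.Modules) (N' : S'.Modules)
    (φ : N ⟶ (Scheme.Modules.pushforward g).obj N') {V : S.Opens} {V' : S'.Opens}
    (hVV : V' ≤ g ⁻¹ᵁ V) (x : Γ(N, V)) :
    ((((Scheme.Modules.pullbackPushforwardAdjunction g).homEquiv _ _).symm φ).app V').hom
        (PBH8.cUV g N hVV x) =
      (N'.presheaf.map (homOfLE hVV).op).hom ((φ.app V).hom x) := by
  set ψ := ((Scheme.Modules.pullbackPushforwardAdjunction g).homEquiv _ _).symm φ with hψ
  have h1 : (Scheme.Modules.pullbackPushforwardAdjunction g).unit.app N ≫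
      (Scheme.Modules.pushforward g).map ψ = φ := by
    have h := (Scheme.Modules.pullbackPushforwardAdjunction g).homEquiv_unit (f := ψ)
    rw [← h, hψ]
    exact Equiv.apply_symm_apply _ _
  unfold PBH8.cUV
  have h2 := QCohCrit.app_naturality ψ (homOfLE hVV)
    ((((Scheme.Modules.pullbackPushforwardAdjunction g).unit.app N).app V).hom x)
  refine h2.trans ?_
  congr 1
  exact congrArg (fun χ => (Scheme.Modules.Hom.app χ V).hom x) h1

variable {X S X' S' : Scheme.{u}} {f : X ⟶ S} {g : S' ⟶ S} {g' : X' ⟶ X} {f' : X' ⟶ S'}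
  (hc : IsPullback g' f' f g) [QuasiCompact f] [QuasiSeparated f] [Flat g]
  [HasInjectiveResolutions X.Modules] [HasInjectiveResolutions X'.Modules]
  [PreservesFiniteLimits (Scheme.Modules.pullback g')] (M : X.Modules) [M.IsQuasicoherent]
  (q : ℕ)

include hc in
theorem bcQ_app_bijective {V : S.Opens} {V' : S'.Opens} (hV : IsAffineOpen V)
    (hV' : IsAffineOpen V') (hVV : V' ≤ g ⁻¹ᵁ V) :
    Function.Bijective ((CohBC.bcQ f g f' g' hc.w q M).app V') := by
  haveI : QuasiCompact f' := MorphismProperty.of_isPullback (P := @QuasiCompact) hc inferInstance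
  haveI : QuasiSeparated f' :=
    MorphismProperty.of_isPullback (P := @QuasiSeparated) hc inferInstance
  haveI hG : ((Scheme.Modules.pullback g').obj M).IsQuasicoherent :=
    PBH8.isQuasicoherent_pullback g' M
  haveI hN : ((Coh.Rpush f q).obj M).IsQuasicoherent := RpushQC.isQuasicoherent_Rpush f M q
  have hfl := Flat.flat_appLE g hV hV' hVV
  letI := (g.appLE V V' hVV).hom.toAlgebra
  let G := (Scheme.Modules.pullback g').obj M
  let N := (Coh.Rpush f q).obj M
  let N' := (Coh.Rpush f' q).obj G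
  -- (i)
  letI mAN : Module Γ(S, V) Γ((Scheme.Modules.pullback g).obj N, V') :=
    Module.compHom _ (g.appLE V V' hVV).hom
  haveI : IsScalarTower Γ(S, V) Γ(S', V') Γ((Scheme.Modules.pullback g).obj N, V') :=
    IsScalarTower.of_algebraMap_smul fun _ _ => rfl
  have bc₁ := PBH8.isBaseChange_cUV g N hVV hV' hV
  have h₁ : IsBC Γ(S, V) Γ(S', V') (PBH8.cUVLin g N hVV).toAddMonoidHom :=
    IsBC.of_isBaseChange _ bc₁ _ (fun x => rfl)
  -- (ii)
  have k : f' ⁻¹ᵁ V' ≤ g' ⁻¹ᵁ (f ⁻¹ᵁ V) := by
    intro z hz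
    show f (g' z) ∈ V
    have : f (g' z) = g (f' z) := by
      rw [← Scheme.Hom.comp_apply, ← Scheme.Hom.comp_apply, hc.w]
    rw [this]
    exact hVV hz
  have hcore := bcq_of_isCompact hc hV hV' hVV hfl M (injectiveResolution M)
    (injectiveResolution G) (alphaC g' M) (alphaC_zero g' M) (f ⁻¹ᵁ V)
    (Scheme.Hom.isCompact_preimage f hV.isCompact) le_rfl (f' ⁻¹ᵁ V')
    (inf_eq_right.mpr k).symm le_rfl k q
  let T : Γ(N, V) →+ Γ(N', V') :=
    ((Γf V).map (CohBC.bcQAdj f g f' g' hc.w q M) ≫ (resPush g hVV).app N').hom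
  have h₂ : IsBC Γ(S, V) Γ(S', V') T := by
    refine IsBC.comp_equiv hcore (eLin f M (injectiveResolution M) hV q le_rfl).symm
      (eLin f' G (injectiveResolution G) hV' q le_rfl) T (fun y => ?_)
    obtain ⟨x, rfl⟩ := (eLin f M (injectiveResolution M) hV q le_rfl).surjective y
    rw [LinearEquiv.symm_apply_apply]
    have h3 := key3 hc M hVV q
    have h4 := tauC_eq hc M hVV k
    rw [h4] at h3
    exact congrArg (fun ψ : (((Γf V).mapHomologicalComplex (ComplexShape.up ℕ)).obj
      (LC f M)).homology q ⟶ (Γf V').obj N' => ψ.hom x) h3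
  -- (iii)
  let Lb : Γ((Scheme.Modules.pullback g).obj N, V') →+ Γ(N', V') :=
    ((CohBC.bcQ f g f' g' hc.w q M).app V').hom
  have hL : ∀ (b : Γ(S', V')) (z : Γ((Scheme.Modules.pullback g).obj N, V')),
      Lb (b • z) = b • Lb z :=
    fun b z => Scheme.Modules.Hom.app_smul (CohBC.bcQ f g f' g' hc.w q M) b z
  have hcc : ∀ x, Lb ((PBH8.cUVLin g N hVV).toAddMonoidHom x) = T x :=
    fun x => transpose_cUV g N N' (CohBC.bcQAdj f g f' g' hc.w q M) hVV x
  exact Groth.Agent.Lib.CBCH2.isBC_bijective_of_comp h₁ h₂ Lb hL hcc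

include hc in
/-- **Flat base change**: the base change morphism is an isomorphism. -/
theorem isIso_bcQ : IsIso (CohBC.bcQ f g f' g' hc.w q M) := by
  haveI : QuasiCompact f' := MorphismProperty.of_isPullback (P := @QuasiCompact) hc inferInstance
  haveI : QuasiSeparated f' :=
    MorphismProperty.of_isPullback (P := @QuasiSeparated) hc inferInstance
  haveI hG : ((Scheme.Modules.pullback g').obj M).IsQuasicoherent :=
    PBH8.isQuasicoherent_pullback g' M
  haveI hN : ((Coh.Rpush f q).obj M).IsQuasicoherent := RpushQC.isQuasicoherent_Rpush f M q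
  haveI : ((Scheme.Modules.pullback g).obj ((Coh.Rpush f q).obj M)).IsQuasicoherent :=
    PBH8.isQuasicoherent_pullback g _
  haveI : ((Coh.Rpush f' q).obj ((Scheme.Modules.pullback g').obj M)).IsQuasicoherent :=
    RpushQC.isQuasicoherent_Rpush f' _ q
  let ι := {W' : S'.Opens // IsAffineOpen W' ∧ ∃ W : S.Opens, IsAffineOpen W ∧ W' ≤ g ⁻¹ᵁ W}
  have hcover : ⨆ i : ι, (i.1 : S'.Opens) = ⊤ := by
    rw [eq_top_iff]
    intro x _
    obtain ⟨W, W', hW, hW', hxW', hWW⟩ := PBH8.exists_affine_pair' g x
    exact Opens.mem_iSup.mpr ⟨⟨W', hW', W, hW, hWW⟩, hxW'⟩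
  refine QCohCrit.isIso_of_bijective_on_cover (CohBC.bcQ f g f' g' hc.w q M)
    (fun i : ι => (i.1 : S'.Opens)) (fun i => i.2.1) hcover ?_
  rintro ⟨W', hW', W, hW, hW'W⟩
  exact bcQ_app_bijective hc M q hW hW' hW'W

end Final

end Groth.Agent.Lib.FlatBCQ
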