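import Mathlib
import Groth.Prelude
import Groth.Agent.Lib.FlatBCQ2_helper2
import Groth.Agent.Lib.StalkSky2_lead
import Groth.Agent.Lib.BCLoc2_helper2
import Groth.Agent.Lib.LocIso1_helper8
import Groth.Agent.Lib.FibPt4_helper9
import Groth.Agent.Lib.FinCov2_helper8
import Groth.Agent.Lib.ExtShCoh1_helper2
import Groth.Agent.Lib.RpushQC3_helper9
import Groth.Agent.Lib.AlgEqA_helper9

/-!
# Ω-duality on curves, part A: `R^q p₂_* (p₁^* F)` when `H^q(C, F)` is a line (helper9)
For `π : C ⟶ Spec k` quasi-compact and quasi-separated and `F` quasi-coherent on `C` with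
`dim_k H^q(C, F) = 1`: `R^q π_* F ≅ O_{Spec k}`, hence, by flat base change,
`R^q p₂_* (p₁^* F) ≅ O_C` on `C ×_k C`.
APPEND-ONLY once landed.
-/

set_option autoImplicit false
universe u
open AlgebraicGeometry CategoryTheory CategoryTheory.Limits TopologicalSpace Opposite

namespace OmDual

section Alg

/-- a one-dimensional vector space over a field `K`, seen as a module over a ring `A ≅ K`, is
free of rank one -/
theorem nonempty_linearEquiv_of_finrank_one {A K V : Type*} [CommRing A] [Field K]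
    [AddCommGroup V] [Module K V] (ι : A →+* K) (hι : Function.Bijective ι)
    (h1 : Module.finrank K V = 1) :
    letI : Module A V := Module.compHom V ι
    Nonempty (A ≃ₗ[A] V) := by
  letI : Module A V := Module.compHom V ι
  obtain ⟨v, hv, hspan⟩ := finrank_eq_one_iff'.mp h1
  have hsm : ∀ (a : A) (w : V), a • w = ι a • w := fun _ _ => rfl
  refine ⟨LinearEquiv.ofBijective (LinearMap.toSpanSingleton A V v) ⟨?_, ?_⟩⟩
  · rw [injective_iff_map_eq_zero]
    intro a ha
    rw [LinearMap.toSpanSingleton_apply, hsm] at ha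
    rcases smul_eq_zero.mp ha with h | h
    · exact hι.1 (h.trans (map_zero ι).symm)
    · exact absurd h hv
  · intro w
    obtain ⟨c, hc⟩ := hspan w
    obtain ⟨a, rfl⟩ := hι.2 c
    exact ⟨a, by rw [LinearMap.toSpanSingleton_apply, hsm, hc]⟩

end Alg

section Triv

variable (k : Type u) [Field k] {C S : Scheme.{u}} [IsAffine S] (π : C ⟶ S)
  [QuasiCompact π] [QuasiSeparated π] (F : C.Modules) [F.IsQuasicoherent] (q : ℕ)
  [HasInjectiveResolutions C.Modules]
  (ρ : C ⟶ Spec (CommRingCat.of k)) (ι : Γ(S, ⊤) →+* k) (hι : Function.Bijective ι)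
  (hρ : π ≫ S.toSpecΓ = ρ ≫ Spec.map (CommRingCat.ofHom ι))

include hι hρ in
/-- the global sections of `R^q π_* F` over an affine base with `Γ(S, O) ≅ k` are free of rank one
when `H^q(C, F)` is a line -/
theorem nonempty_sections_linearEquiv
    (h1 : @Module.finrank k (Coh.HH C F q) _ _ (@Coh.moduleOver k _ C ⟨ρ⟩ F q) = 1) :
    Nonempty (Γ(Coh.structureModule S, ⊤) ≃ₗ[Γ(S, ⊤)] Γ((Coh.Rpush π q).obj F, ⊤)) := by
  obtain ⟨e⟩ := Groth.Agent.Lib.BCLocH2.sections_linearEquiv π F q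
  have hmod := FibPt.moduleOver_comp ρ ι F q
  letI mK : Module k (Coh.HH C F q) := @Coh.moduleOver k _ C ⟨ρ⟩ F q
  obtain ⟨E⟩ := nonempty_linearEquiv_of_finrank_one (V := Coh.HH C F q) ι hι h1
  letI mA : Module Γ(S, ⊤) (Coh.HH C F q) := Module.compHom _ ι
  have hmod' : @Coh.moduleOver Γ(S, ⊤) _ C ⟨π ≫ S.toSpecΓ⟩ F q = mA := by
    rw [hρ]
    exact hmod
  rw [hmod'] at e
  exact ⟨(FLFH8.ofMLin (X := S) ⊤).trans (E.trans e)⟩

include hι hρ in
/-- `R^q π_* F ≅ O_S` over an affine base with `Γ(S, O) ≅ k` when `H^q(C, F)` is a line -/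
theorem nonempty_Rpush_iso_unit
    (h1 : @Module.finrank k (Coh.HH C F q) _ _ (@Coh.moduleOver k _ C ⟨ρ⟩ F q) = 1) :
    Nonempty ((Coh.Rpush π q).obj F ≅ Coh.structureModule S) := by
  obtain ⟨e⟩ := nonempty_sections_linearEquiv k π F q ρ ι hι hρ h1
  haveI : ((Coh.Rpush π q).obj F).IsQuasicoherent := RpushQC.isQuasicoherent_Rpush π F q
  haveI : (Coh.structureModule S).IsQuasicoherent := TensH8.isQuasicoherent_structureModule
  obtain ⟨φ⟩ := LocIsoH8.nonempty_pullback_iso (Coh.structureModule S) ((Coh.Rpush π q).obj F)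
    (isAffineOpen_top S) e
  have hw : S.toSpecΓ ≫ (isAffineOpen_top S).fromSpec = 𝟙 S := by
    rw [IsAffineOpen.fromSpec_top]
    exact Scheme.toSpecΓ_isoSpec_inv S
  have key : ∀ M : S.Modules, (Scheme.Modules.pullback S.toSpecΓ).obj
      ((Scheme.Modules.pullback (isAffineOpen_top S).fromSpec).obj M) ≅ M := fun M =>
    AlgEq.pullCompIso _ _ _ hw M ≪≫ (Scheme.Modules.pullbackId S).app M
  exact ⟨(key _).symm ≪≫ (Scheme.Modules.pullback S.toSpecΓ).mapIso φ.symm ≪≫ key _⟩

end Triv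

section BC

variable (k : Type u) [Field k] {C : Scheme.{u}} (π : C ⟶ Spec (CommRingCat.of k))
  [QuasiCompact π] [QuasiSeparated π] [Flat π] (F : C.Modules) [F.IsQuasicoherent] (q : ℕ)

/-- **`R^q p₂_* (p₁^* F) ≅ O_C` on `C ×_k C` when `H^q(C, F)` is a line** -/
theorem nonempty_Rpush_snd_iso_unit [HasInjectiveResolutions C.Modules]
    [HasInjectiveResolutions (pullback π π).Modules]
    (h1 : @Module.finrank k (Coh.HH C F q) _ _ (@Coh.moduleOver k _ C ⟨π⟩ F q) = 1) :
    Nonempty ((Coh.Rpush (pullback.snd π π) q).obj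
      ((Scheme.Modules.pullback (pullback.fst π π)).obj F) ≅ Coh.structureModule C) := by
  obtain ⟨e⟩ := nonempty_Rpush_iso_unit k π F q π
    (Scheme.ΓSpecIso (CommRingCat.of k)).hom.hom
    (ConcreteCategory.bijective_of_isIso (Scheme.ΓSpecIso (CommRingCat.of k)).hom)
    (by rw [← SpecMap_ΓSpecIso_hom]; rfl) h1
  have h : IsPullback (pullback.fst π π) (pullback.snd π π) π π := IsPullback.of_hasPullback π π
  haveI : Flat (pullback.fst π π) := inferInstance
  haveI : Limits.PreservesFiniteLimits (Scheme.Modules.pullback (pullback.fst π π)) :=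
    Groth.Agent.Lib.StalkSkyL.preservesFiniteLimits_pullback_of_flat _
  haveI : Coh.IsQCoh F := ‹F.IsQuasicoherent›
  haveI := Groth.Agent.Lib.FlatBCQ.isIso_bcQ h F q
  exact ⟨(asIso (CohBC.bcQ π π (pullback.snd π π) (pullback.fst π π) h.w q F)).symm ≪≫
    (Scheme.Modules.pullback π).mapIso e ≪≫ PBH8.pullbackUnitIso π⟩

end BC

end OmDual
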