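import Mathlib
import Groth.Prelude
import Groth.Agent.Lib.Seesaw2_helper9
import Groth.Agent.Lib.AbVarFibre_helper4
import Groth.Agent.Lib.ProjSpaceProper_helper4
import Groth.Agent.Lib.InvTensP2_helper5
import Groth.Agent.Lib.ResTens_helper9
import Groth.Agent.Lib.TensInv2_helper9
import Groth.Agent.Lib.CohDev8_helper8
import Groth.Agent.Lib.FiberRank_helper9
import Groth.Agent.Lib.RatPts_helper4

/-!
# The seesaw principle, part 3 (helper9)

* `exists_iso_tensor_pullback`: two invertible modules which are fibrewise isomorphic differ by the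
  pullback of an invertible module on the base.
* `bijective_of_integral_fibres`: over a base of finite type over an algebraically closed field,
  a proper flat morphism with integral fibres has `Γ(X_y, O) = κ(y)` for all `y`.
* `main10925`, `main10926`.
APPEND-ONLY once landed.
-/

set_option autoImplicit false
universe u
open CategoryTheory Limits AlgebraicGeometry TopologicalSpace Opposite TensorProduct MonoidalCategory

namespace Seesaw9

open Groth.Agent.Lib.BCLocH2 QcqsLoc QCohExtn GenLocH8 FLFH8 TensH8 Groth.Agent.Lib.H0LiftH2 PBH8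
  Groth.Agent.TensInv

section Tensor

variable {X Y : Scheme.{u}} (f : X ⟶ Y) [IsProper f] [Flat f] [IsLocallyNoetherian Y] [IsReduced Y]

theorem exists_iso_tensor_pullback
    (hbij : ∀ y : Y, Function.Bijective (algebraMap (Y.residueField y) Γ(f.fiber y, ⊤)))
    (L M : X.Modules) (hL : PicF.IsInvertible L) (hM : PicF.IsInvertible M)
    (hLM : ∀ y : Y, Nonempty ((Scheme.Modules.pullback (f.fiberι y)).obj L ≅
      (Scheme.Modules.pullback (f.fiberι y)).obj M)) :
    ∃ E : Y.Modules, PicF.IsInvertible E ∧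
      Nonempty (L ≅ CohB1.tensorMod M ((Scheme.Modules.pullback f).obj E)) := by
  obtain ⟨M', hM', ⟨eM⟩⟩ := Groth.Agent.InvTensP.exists_inverse M hM
  have hN : PicF.IsInvertible (CohB1.tensorMod M' L) := TensH8.isInvertible_tensorMod hM' hL
  have htriv : ∀ y : Y, Nonempty (CohIII.fiberMod f (CohB1.tensorMod M' L) y ≅
      Coh.structureModule (f.fiber y)) := fun y => by
    obtain ⟨ey⟩ := hLM y
    exact ⟨(Groth.Agent.InvTensP.pullbackTensorIso (f.fiberι y) hM' hL).symm ≪≫
      mapL ((Scheme.Modules.pullback (f.fiberι y)).obj M') ey ≪≫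
      Groth.Agent.InvTensP.pullbackTensorIso (f.fiberι y) hM' hM ≪≫
      (Scheme.Modules.pullback (f.fiberι y)).mapIso (comm M' M ≪≫ eM) ≪≫
      PBH8.pullbackUnitIso (f.fiberι y)⟩
  obtain ⟨hE, hiso⟩ := main_push f hbij _ hN htriv
  haveI := hiso
  refine ⟨_, hE, ⟨?_⟩⟩
  have eL : L ≅ CohB1.tensorMod M (CohB1.tensorMod M' L) :=
    (rightUnit L).symm ≪≫ comm L (Coh.structureModule X) ≪≫ mapR eM.symm L ≪≫ assoc M M' L
  exact eL ≪≫ mapL M (asIso ((Scheme.Modules.pullbackPushforwardAdjunction f).counit.app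
    (CohB1.tensorMod M' L))).symm

end Tensor

section AlgClosed

variable (k : Type u) [Field k] [IsAlgClosed k] {X Y : Scheme.{u}}
  (g : Y ⟶ Spec (CommRingCat.of k)) [LocallyOfFiniteType g] (f : X ⟶ Y) [IsProper f]

instance isProper_fiberToSpec (y : Y) : IsProper (f.fiberToSpecResidueField y) :=
  MorphismProperty.pullback_snd (P := @IsProper) f (Y.fromSpecResidueField y) inferInstance

include g in
/-- closed points of the base have algebraically closed residue fields -/
theorem isAlgClosed_residueField (y : Y) (hy : IsClosed ({y} : Set Y)) :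
    IsAlgClosed (Y.residueField y) := by
  letI : Y.Over (Spec (CommRingCat.of k)) := ⟨g⟩
  haveI : LocallyOfFiniteType (Y ↘ Spec (CommRingCat.of k)) := ‹LocallyOfFiniteType g›
  haveI hci := isClosed_singleton_iff_isClosedImmersion.mp hy
  have hcomp : Y.fromSpecResidueField y ≫ (Y ↘ Spec (CommRingCat.of k)) =
      Spec.map (CommRingCat.ofHom (Curv2.resMap k Y y)) :=
    Groth.Agent.Lib.RatPtsH4.fromSpecResidueField_comp k Y y
  have hfin' : IsFinite (Spec.map (CommRingCat.ofHom (Curv2.resMap k Y y))) := by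
    rw [← hcomp, isFinite_iff_locallyOfFiniteType_of_jacobsonSpace]
    infer_instance
  have hfin : (Curv2.resMap k Y y).Finite := (IsFinite.SpecMap_iff _).mp hfin'
  letI := Curv2.resAlgebra k Y y
  haveI : Module.Finite k (Y.residueField y) := hfin
  have hb : Function.Bijective (Curv2.resMap k Y y) :=
    IsAlgClosed.algebraMap_bijective_of_isIntegral (k := k) (K := Y.residueField y)
  exact IsAlgClosed.of_ringEquiv k (Y.residueField y) (RingEquiv.ofBijective _ hb)

include g in
theorem bijective_closed (y : Y) (hy : IsClosed ({y} : Set Y)) [IsIntegral (f.fiber y)] :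
    Function.Bijective (algebraMap (Y.residueField y) Γ(f.fiber y, ⊤)) := by
  haveI := isAlgClosed_residueField k g y hy
  haveI : IsProper (Over.mk (f.fiberToSpecResidueField y)).hom :=
    isProper_fiberToSpec f y
  haveI : IsReduced (Over.mk (f.fiberToSpecResidueField y)).left :=
    inferInstanceAs (IsReduced (f.fiber y))
  haveI : ConnectedSpace (Over.mk (f.fiberToSpecResidueField y)).left :=
    inferInstanceAs (ConnectedSpace (f.fiber y))
  have hAA := Groth.Agent.Lib.AbVarFibreH4.aa_of_proper_connected_reduced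
    (k := Y.residueField y) (Over.mk (f.fiberToSpecResidueField y))
  exact (Groth.Agent.Lib.AntiAffine.aa_iff _).2 hAA

variable [Flat f] [IsLocallyNoetherian Y]

omit [IsProper f] [Flat f] [IsLocallyNoetherian Y] in
/-- `H⁰(X_y, O) ≃ Γ(X_y, O)` linearly over the residue field -/
theorem fiberRank_unit (y : Y) :
    CohIII.fiberRank f (Coh.structureModule X) 0 y =
      Module.finrank (Y.residueField y) Γ(f.fiber y, ⊤) := by
  letI := overFib f y
  have e3 := Groth.Agent.Lib.StalkFFH2.HHlinEquiv (Y.residueField y)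
    (PBH8.pullbackUnitIso (f.fiberι y)) 0
  have h1 : CohIII.fiberRank f (Coh.structureModule X) 0 y =
      Module.finrank (Y.residueField y) (Coh.HH (f.fiber y) (Coh.structureModule (f.fiber y)) 0) :=
    e3.finrank_eq
  rw [h1]
  let e : Coh.HH (f.fiber y) (Coh.structureModule (f.fiber y)) 0 ≃ₗ[Y.residueField y]
      Γ(f.fiber y, ⊤) :=
    { (Groth.Agent.Lib.H0ConstH4.e0 (f.fiber y)) with
      map_smul' := fun c x => by
        have h3 : c • x = (Coh.toGlobal ((f.fiber y) ↘ Spec (CommRingCat.of (Y.residueField y))) c)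
          • x := rfl
        show Groth.Agent.Lib.H0ConstH4.e0 (f.fiber y) (c • x) = _
        rw [h3, Groth.Agent.Lib.H0ConstH4.e0_smul]
        rfl }
  exact e.finrank_eq

include g in
theorem bijective_of_integral_fibres (hint : ∀ y : Y, IsIntegral (f.fiber y)) (y : Y) :
    Function.Bijective (algebraMap (Y.residueField y) Γ(f.fiber y, ⊤)) := by
  haveI := hint y
  apply bijective_algebraMap_of_finrank_one
  have hcoh := CohDevH8.isCoh_structureModule X
  have hfl := Groth.Agent.Lib.BCFunH2.isFlatOver_unit f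
  obtain ⟨V, hV, hyV⟩ := exists_affine_nhd (Y := Y) y
  haveI : IsAffine (V : Scheme.{u}) := hV
  haveI : IsNoetherianRing Γ((V : Scheme.{u}), ⊤) :=
    IsLocallyNoetherian.component_noetherian ⟨⊤, isAffineOpen_top _⟩
  obtain ⟨P, hP, -, -, hrk, hfinfib, -⟩ := locPackage f (Coh.structureModule X) hcoh hfl V hV
  have hP' : ∀ i, Module.Finite Γ((V : Scheme.{u}), ⊤) (P.X i) ∧
      Module.Flat Γ((V : Scheme.{u}), ⊤) (P.X i) := fun i =>
    ⟨(hP i).1, haveI := (hP i).2; inferInstance⟩
  have husc := FiberRank9.dRank_usc P hP' (-((0 : ℕ) : ℤ))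
  have hopen : IsOpen {x : PrimeSpectrum Γ((V : Scheme.{u}), ⊤) |
      CohIII.dRank P (-((0 : ℕ) : ℤ)) x < 2} :=
    (upperSemicontinuous_iff_isOpen_preimage.mp husc) 2
  let O : (Spec (CommRingCat.of Γ((V : Scheme.{u}), ⊤))).Opens := ⟨_, hopen⟩
  let W : Y.Opens := V.ι ''ᵁ ((V : Scheme.{u}).toSpecΓ ⁻¹ᵁ O)
  have hW : ∀ y' : Y, ∀ hy' : y' ∈ V, (y' ∈ W ↔ CohIII.fiberRank f (Coh.structureModule X) 0 y' < 2) := by
    intro y' hy'
    rw [hrk 0 y' hy']
    constructor
    · rintro ⟨v, hv, hvy⟩
      have hv' : v = ⟨y', hy'⟩ := V.ι.isOpenEmbedding.injective hvy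
      rw [hv'] at hv
      exact hv
    · intro h
      exact ⟨⟨y', hy'⟩, h, rfl⟩
  -- the upper bound
  have hle : CohIII.fiberRank f (Coh.structureModule X) 0 y ≤ 1 := by
    by_contra hcon
    haveI : JacobsonSpace Y := LocallyOfFiniteType.jacobsonSpace g
    have hZ : IsLocallyClosed ((V : Set Y) ∩ (W : Set Y)ᶜ) :=
      V.isOpen.isLocallyClosed.inter W.isOpen.isClosed_compl.isLocallyClosed
    have hne : ((V : Set Y) ∩ (W : Set Y)ᶜ).Nonempty :=
      ⟨y, hyV, fun hyW => hcon (by have := (hW y hyV).1 hyW; omega)⟩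
    obtain ⟨y₁, ⟨hy₁V, hy₁W⟩, hy₁c⟩ := nonempty_inter_closedPoints hne hZ
    haveI := hint y₁
    have hb := bijective_closed k g f y₁ hy₁c
    have h1 : CohIII.fiberRank f (Coh.structureModule X) 0 y₁ = 1 :=
      fiberRank_zero_eq_one f (Coh.structureModule X) y₁ hb ⟨PBH8.pullbackUnitIso (f.fiberι y₁)⟩
    exact hy₁W ((hW y₁ hy₁V).2 (by omega))
  -- the lower bound
  haveI hfin : Module.Finite (Y.residueField y) (CohIII.fiberH f (Coh.structureModule X) y 0) :=
    hfinfib 0 y hyV
  have hpos : 0 < Module.finrank (Y.residueField y) Γ(f.fiber y, ⊤) := by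
    rw [← fiberRank_unit f y]
    by_contra h0
    have h00 : CohIII.fiberRank f (Coh.structureModule X) 0 y = 0 := by omega
    rw [fiberRank_unit f y] at h00
    letI := overFib f y
    have e3 := Groth.Agent.Lib.StalkFFH2.HHlinEquiv (Y.residueField y)
      (PBH8.pullbackUnitIso (f.fiberι y)) 0
    haveI : Module.Finite (Y.residueField y)
        (Coh.HH (f.fiber y) (Coh.structureModule (f.fiber y)) 0) := Module.Finite.equiv e3
    have hsub : Subsingleton (Coh.HH (f.fiber y) (Coh.structureModule (f.fiber y)) 0) := by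
      rw [← fiberRank_unit f y] at h00
      have h5 : Module.finrank (Y.residueField y)
          (Coh.HH (f.fiber y) (Coh.structureModule (f.fiber y)) 0) = 0 := by
        rw [← e3.finrank_eq]
        exact h00
      exact Module.finrank_zero_iff.mp h5
    have h6 : (1 : Γ(f.fiber y, ⊤)) = 0 := by
      have h7 := Subsingleton.elim ((Groth.Agent.Lib.H0ConstH4.e0 (f.fiber y)).symm 1)
        ((Groth.Agent.Lib.H0ConstH4.e0 (f.fiber y)).symm 0)
      exact (Groth.Agent.Lib.H0ConstH4.e0 (f.fiber y)).symm.injective h7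
    exact one_ne_zero h6
  rw [fiberRank_unit f y] at hle
  omega

end AlgClosed

section Proj

variable (k : Type u) [Field k] [IsAlgClosed k]
  {X Y : Scheme.{u}} (g : Y ⟶ Spec (CommRingCat.of k)) [LocallyOfFiniteType g]
  [IsIntegral Y] (n : ℕ) (i : X ⟶ CohB1.ProjSpaceOver n Y) [IsClosedImmersion i]
  (f : X ⟶ Y) (hf : f = i ≫ CohB1.ProjSpaceOver.toBase n Y) [Flat f]
  (hint : ∀ y : Y, IsIntegral (f.fiber y))

include hf in
theorem isProper_of_proj : IsProper f := by
  haveI := Groth.Agent.Lib.ProjSpaceProperH4.isProper_toBase n Y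
  rw [hf]
  infer_instance

include g hf hint in
/-- **S10925** -/
theorem main10925 (E : X.Modules) (hE : PicF.IsInvertible E)
    (htriv : ∀ y : Y, Nonempty ((Scheme.Modules.pullback (f.fiberι y)).obj E ≅
      Coh.structureModule (f.fiber y))) :
    PicF.IsInvertible ((Scheme.Modules.pushforward f).obj E) ∧
      IsIso ((Scheme.Modules.pullbackPushforwardAdjunction f).counit.app E) := by
  haveI := isProper_of_proj n i f hf
  haveI : IsLocallyNoetherian Y := LocallyOfFiniteType.isLocallyNoetherian g
  exact main_push f (bijective_of_integral_fibres k g f hint) E hE htriv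

include g hf hint in
/-- **S10926** -/
theorem main10926 (L M : X.Modules) (hL : PicF.IsInvertible L) (hM : PicF.IsInvertible M)
    (hLM : ∀ y : Y, Nonempty ((Scheme.Modules.pullback (f.fiberι y)).obj L ≅
      (Scheme.Modules.pullback (f.fiberι y)).obj M)) :
    ∃ E : Y.Modules, PicF.IsInvertible E ∧
      Nonempty (L ≅ CohB1.tensorMod M ((Scheme.Modules.pullback f).obj E)) := by
  haveI := isProper_of_proj n i f hf
  haveI : IsLocallyNoetherian Y := LocallyOfFiniteType.isLocallyNoetherian g
  exact exists_iso_tensor_pullback f (bijective_of_integral_fibres k g f hint) L M hL hM hLM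

end Proj

end Seesaw9
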