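import Mathlib
import Groth.Prelude
import Groth.Agent.Lib.Seesaw3_helper9
import Groth.Agent.Lib.CurveRR1_helper9
import Groth.Agent.Lib.CurveTens1_helper9
import Groth.Agent.Lib.CurveDeg1_helper9

/-!
# The seesaw principle, part 4: the locus of trivial fibres is closed (helper9)

* `trivial_of_sections`: on an integral scheme whose global functions form a field, an invertible
  module `N` such that `N` and `N⁻¹` both have nonzero sections is trivial.
* `isOpen_setOf_fiberRank_lt`: upper semicontinuity of `y ↦ h^p(X_y, F_y)`.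
* `main16760`: for `f` proper flat with integral fibres, `{y | L_y ≅ O}` is closed.
APPEND-ONLY once landed.
-/

set_option autoImplicit false
universe u
open CategoryTheory Limits AlgebraicGeometry TopologicalSpace Opposite TensorProduct MonoidalCategory

namespace Seesaw9

open Groth.Agent.Lib.BCLocH2 QcqsLoc QCohExtn GenLocH8 FLFH8 TensH8 Groth.Agent.Lib.H0LiftH2 PBH8
  Groth.Agent.TensInv

section Triv

variable {Z : Scheme.{u}} [IsIntegral Z]

theorem isIso_endo_unit (hfield : ∀ u : Γ(Z, ⊤), u ≠ 0 → IsUnit u)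
    (φ : Coh.structureModule Z ⟶ Coh.structureModule Z) [Mono φ] : IsIso φ := by
  haveI : Nonempty (⊤ : Z.Opens) := by
    obtain ⟨z⟩ := (inferInstance : Nonempty Z)
    exact ⟨⟨z, trivial⟩⟩
  obtain ⟨u, hu⟩ : ∃ u : Γ(Z, ⊤), ap φ ⊤ (toM (1 : Γ(Z, ⊤))) = toM u := ⟨ofM _, rfl⟩
  have hu0 : u ≠ 0 := by
    intro h0
    have h1 : ap φ ⊤ (toM (1 : Γ(Z, ⊤))) = ap φ ⊤ (toM (0 : Γ(Z, ⊤))) := by
      rw [hu, h0]
      exact (map_zero (φ.app ⊤).hom).symm
    have h2 := QCohExact.app_injective_of_mono φ ⊤ h1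
    exact one_ne_zero (α := Γ(Z, ⊤)) h2
  apply isIso_of_isGen_cover
  intro x
  refine ⟨⊤, trivial, toM 1, isGen_one ⊤, ?_⟩
  have h3 : ap φ ⊤ (toM (1 : Γ(Z, ⊤))) = u • toM (1 : Γ(Z, ⊤)) := by
    rw [hu]
    exact (mul_one u).symm
  rw [h3]
  exact isGen_smul_of_isUnit (isGen_one ⊤) (hfield u hu0)

/-- an invertible module `N` on an integral scheme with `Γ(O)` a field, such that `N` and its
inverse have nonzero sections, is trivial -/
theorem trivial_of_sections (hfield : ∀ u : Γ(Z, ⊤), u ≠ 0 → IsUnit u)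
    {N N' : Z.Modules} (hN : PicF.IsInvertible N) (hN' : PicF.IsInvertible N')
    (e : CohB1.tensorMod N N' ≅ Coh.structureModule Z)
    (s : Coh.structureModule Z ⟶ N) (hs : s ≠ 0) (t : Coh.structureModule Z ⟶ N') (ht : t ≠ 0) :
    Nonempty (N ≅ Coh.structureModule Z) := by
  have hO : PicF.IsInvertible (Coh.structureModule Z) := isInvertible_structureModule
  haveI hms : Mono s := CurveDeg.mono_of_ne_zero hO hN s hs
  haveI hmt : Mono t := CurveDeg.mono_of_ne_zero hO hN' t ht
  let a : CohB1.tensorMod (Coh.structureModule Z) N' ⟶ CohB1.tensorMod N N' := (tR N').map s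
  have ha : Mono a := CurveTens.mono_tR hN' s
  let ψ : CohB1.tensorMod (Coh.structureModule Z) N' ⟶ Coh.structureModule Z := a ≫ e.hom
  have hψ : Mono ψ := @mono_comp _ _ _ _ _ a ha e.hom inferInstance
  let t' : Coh.structureModule Z ⟶ CohB1.tensorMod (Coh.structureModule Z) N' :=
    t ≫ (comm (Coh.structureModule Z) N' ≪≫ rightUnit N').inv
  have ht' : Mono t' := @mono_comp _ _ _ _ _ t hmt _ inferInstance
  haveI : Mono (t' ≫ ψ) := @mono_comp _ _ _ _ _ t' ht' ψ hψ
  haveI hφ : IsIso (t' ≫ ψ) := isIso_endo_unit hfield (t' ≫ ψ)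
  haveI : IsSplitEpi ψ := ⟨⟨⟨inv (t' ≫ ψ) ≫ t', by
    rw [Category.assoc]
    exact IsIso.inv_hom_id (t' ≫ ψ)⟩⟩⟩
  haveI : IsIso ψ := @isIso_of_mono_of_isSplitEpi _ _ _ _ ψ hψ inferInstance
  have hia : IsIso a := by
    have h1 : a = ψ ≫ e.inv := by
      show a = (a ≫ e.hom) ≫ e.inv
      rw [Category.assoc, e.hom_inv_id, Category.comp_id]
    rw [h1]
    infer_instance
  haveI : IsIso ((tR N').map s) := hia
  haveI := isEquivalence_tR (L := N') (L' := N) ⟨comm N' N ≪≫ e⟩
  haveI : IsIso s := isIso_of_reflects_iso s (tR N')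
  exact ⟨(asIso s).symm⟩

end Triv

section Usc

variable {X Y : Scheme.{u}} (f : X ⟶ Y) [IsProper f] [IsLocallyNoetherian Y]
  (F : X.Modules) (hF : Coh.IsCoh F) (hfl : FlatMod.IsFlatOver f F)

include hF hfl in
/-- upper semicontinuity of the dimension of the cohomology of the fibres -/
theorem isOpen_setOf_fiberRank_lt (p b : ℕ) :
    IsOpen {y : Y | CohIII.fiberRank f F p y < b} := by
  rw [isOpen_iff_forall_mem_open]
  intro y hy
  obtain ⟨V, hV, hyV⟩ := exists_affine_nhd (Y := Y) y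
  haveI : IsAffine (V : Scheme.{u}) := hV
  haveI : IsNoetherianRing Γ((V : Scheme.{u}), ⊤) :=
    IsLocallyNoetherian.component_noetherian ⟨⊤, isAffineOpen_top _⟩
  obtain ⟨P, hP, -, -, hrk, -, -⟩ := locPackage f F hF hfl V hV
  have hP' : ∀ i, Module.Finite Γ((V : Scheme.{u}), ⊤) (P.X i) ∧
      Module.Flat Γ((V : Scheme.{u}), ⊤) (P.X i) := fun i =>
    ⟨(hP i).1, haveI := (hP i).2; inferInstance⟩
  have husc := FiberRank9.dRank_usc P hP' (-(p : ℤ))
  have hopen : IsOpen {x : PrimeSpectrum Γ((V : Scheme.{u}), ⊤) |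
      CohIII.dRank P (-(p : ℤ)) x < b} :=
    (upperSemicontinuous_iff_isOpen_preimage.mp husc) b
  let O : (Spec (CommRingCat.of Γ((V : Scheme.{u}), ⊤))).Opens := ⟨_, hopen⟩
  refine ⟨V.ι ''ᵁ ((V : Scheme.{u}).toSpecΓ ⁻¹ᵁ O), ?_, (V.ι ''ᵁ _).isOpen, ?_⟩
  · rintro _ ⟨v, hv, rfl⟩
    obtain ⟨y', hy'⟩ := v
    show CohIII.fiberRank f F p y' < b
    rw [hrk p y' hy']
    exact hv
  · refine ⟨⟨y, hyV⟩, ?_, rfl⟩
    show CohIII.dRank P (-(p : ℤ)) ((V : Scheme.{u}).toSpecΓ ⟨y, hyV⟩) < b
    rw [← hrk p y hyV]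
    exact hy

include hF hfl in
theorem finite_fiberH (p : ℕ) (y : Y) :
    Module.Finite (Y.residueField y) (CohIII.fiberH f F y p) := by
  obtain ⟨V, hV, hyV⟩ := exists_affine_nhd (Y := Y) y
  obtain ⟨P, -, -, -, -, hfinfib, -⟩ := locPackage f F hF hfl V hV
  exact hfinfib p y hyV

end Usc

section Fibre

variable {X Y : Scheme.{u}} (f : X ⟶ Y)

/-- `H⁰(X_y, O) ≃ Γ(X_y, O)` linearly over the residue field -/
theorem nonempty_HH0_unit_equiv (y : Y) :
    letI := overFib f y
    Nonempty (Coh.HH (f.fiber y) (Coh.structureModule (f.fiber y)) 0 ≃ₗ[Y.residueField y]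
      Γ(f.fiber y, ⊤)) := by
  letI := overFib f y
  exact ⟨{ (Groth.Agent.Lib.H0ConstH4.e0 (f.fiber y)) with
      map_smul' := fun c x => by
        have h3 : c • x = (Coh.toGlobal ((f.fiber y) ↘ Spec (CommRingCat.of (Y.residueField y))) c)
          • x := rfl
        show Groth.Agent.Lib.H0ConstH4.e0 (f.fiber y) (c • x) = _
        rw [h3, Groth.Agent.Lib.H0ConstH4.e0_smul]
        rfl }⟩

variable [IsProper f] [Flat f] [IsLocallyNoetherian Y]

/-- global functions on an integral fibre form a field -/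
theorem isUnit_of_ne_zero_fibre (y : Y) [IsIntegral (f.fiber y)] (u : Γ(f.fiber y, ⊤))
    (hu : u ≠ 0) : IsUnit u := by
  letI := overFib f y
  have hcoh := CohDevH8.isCoh_structureModule X
  have hfl := Groth.Agent.Lib.BCFunH2.isFlatOver_unit f
  haveI hfin := finite_fiberH f (Coh.structureModule X) hcoh hfl 0 y
  have e3 := Groth.Agent.Lib.StalkFFH2.HHlinEquiv (Y.residueField y)
    (PBH8.pullbackUnitIso (f.fiberι y)) 0
  obtain ⟨e⟩ := nonempty_HH0_unit_equiv f y
  haveI : Module.Finite (Y.residueField y) Γ(f.fiber y, ⊤) := Module.Finite.equiv (e3.trans e)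
  haveI : Nonempty (⊤ : (f.fiber y).Opens) := by
    obtain ⟨z⟩ := (inferInstance : Nonempty (f.fiber y))
    exact ⟨⟨z, trivial⟩⟩
  haveI : IsDomain Γ(f.fiber y, ⊤) := inferInstance
  have hfield : IsField Γ(f.fiber y, ⊤) :=
    isField_of_isIntegral_of_isField' (R := Y.residueField y) (Field.toIsField _)
  obtain ⟨v, hv⟩ := hfield.mul_inv_cancel hu
  exact IsUnit.of_mul_eq_one v hv

/-- `h⁰` of a trivial module on a nonempty fibre is positive -/
theorem fiberRank_pos_of_trivial (F : X.Modules) (hF : Coh.IsCoh F)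
    (hfl : FlatMod.IsFlatOver f F) (y : Y) [Nonempty (f.fiber y)]
    (θ : CohIII.fiberMod f F y ≅ Coh.structureModule (f.fiber y)) :
    ¬ CohIII.fiberRank f F 0 y < 1 := by
  intro hlt
  letI := overFib f y
  haveI hfin := finite_fiberH f F hF hfl 0 y
  have e3 := Groth.Agent.Lib.StalkFFH2.HHlinEquiv (Y.residueField y) θ 0
  have h0 : Module.finrank (Y.residueField y) (CohIII.fiberH f F y 0) = 0 := by
    have : CohIII.fiberRank f F 0 y = 0 := by omega
    exact this
  have hsub : Subsingleton (CohIII.fiberH f F y 0) := Module.finrank_zero_iff.mp h0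
  haveI : Subsingleton (Coh.HH (f.fiber y) (Coh.structureModule (f.fiber y)) 0) :=
    e3.symm.toEquiv.subsingleton
  haveI : Nontrivial Γ(f.fiber y, ⊤) := by
    obtain ⟨z⟩ := (inferInstance : Nonempty (f.fiber y))
    haveI : Nonempty (⊤ : (f.fiber y).Opens) := ⟨⟨z, trivial⟩⟩
    exact (f.fiber y).component_nontrivial ⊤
  have h6 : (1 : Γ(f.fiber y, ⊤)) = 0 := by
    have h7 := Subsingleton.elim ((Groth.Agent.Lib.H0ConstH4.e0 (f.fiber y)).symm 1)
      ((Groth.Agent.Lib.H0ConstH4.e0 (f.fiber y)).symm 0)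
    exact (Groth.Agent.Lib.H0ConstH4.e0 (f.fiber y)).symm.injective h7
  exact one_ne_zero h6

/-- **S16760** (with integral fibres) -/
theorem isClosed_trivial_locus (hint : ∀ y : Y, IsIntegral (f.fiber y))
    (L : X.Modules) (hL : PicF.IsInvertible L) :
    IsClosed {y : Y | Nonempty (CohIII.fiberMod f L y ≅ Coh.structureModule (f.fiber y))} := by
  obtain ⟨L', hL', ⟨eL⟩⟩ := Groth.Agent.InvTensP.exists_inverse L hL
  have hcL := isCoh_of_isInvertible hL
  have hcL' := isCoh_of_isInvertible hL'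
  have hflL := isFlatOver_of_isInvertible f hL
  have hflL' := isFlatOver_of_isInvertible f hL'
  have hset : {y : Y | Nonempty (CohIII.fiberMod f L y ≅ Coh.structureModule (f.fiber y))} =
      {y : Y | CohIII.fiberRank f L 0 y < 1}ᶜ ∩ {y : Y | CohIII.fiberRank f L' 0 y < 1}ᶜ := by
    ext y
    haveI := hint y
    constructor
    · rintro ⟨θ⟩
      refine ⟨fiberRank_pos_of_trivial f L hcL hflL y θ, ?_⟩
      have θ' : CohIII.fiberMod f L' y ≅ Coh.structureModule (f.fiber y) :=
        (rightUnit ((Scheme.Modules.pullback (f.fiberι y)).obj L')).symm ≪≫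
        mapL ((Scheme.Modules.pullback (f.fiberι y)).obj L') θ.symm ≪≫
        Groth.Agent.InvTensP.pullbackTensorIso (f.fiberι y) hL' hL ≪≫
        (Scheme.Modules.pullback (f.fiberι y)).mapIso (comm L' L ≪≫ eL) ≪≫
        PBH8.pullbackUnitIso (f.fiberι y)
      exact fiberRank_pos_of_trivial f L' hcL' hflL' y θ'
    · rintro ⟨h1, h2⟩
      letI := overFib f y
      have h1' : 0 < Module.finrank (Y.residueField y)
          (Coh.HH (f.fiber y) (CohIII.fiberMod f L y) 0) := by
        by_contra hcon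
        exact h1 (Nat.lt_one_iff.mpr (Nat.le_zero.mp (not_lt.mp hcon)))
      have h2' : 0 < Module.finrank (Y.residueField y)
          (Coh.HH (f.fiber y) (CohIII.fiberMod f L' y) 0) := by
        by_contra hcon
        exact h2 (Nat.lt_one_iff.mpr (Nat.le_zero.mp (not_lt.mp hcon)))
      obtain ⟨s, hs⟩ := CurveRR.exists_section_of_finrank_pos (Y.residueField y) (f.fiber y) _ h1'
      obtain ⟨t, ht⟩ := CurveRR.exists_section_of_finrank_pos (Y.residueField y) (f.fiber y) _ h2'
      have e : CohB1.tensorMod (CohIII.fiberMod f L y) (CohIII.fiberMod f L' y) ≅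
          Coh.structureModule (f.fiber y) :=
        Groth.Agent.InvTensP.pullbackTensorIso (f.fiberι y) hL hL' ≪≫
        (Scheme.Modules.pullback (f.fiberι y)).mapIso eL ≪≫
        PBH8.pullbackUnitIso (f.fiberι y)
      exact trivial_of_sections (isUnit_of_ne_zero_fibre f y)
        (isInvertible_pullback (f.fiberι y) hL) (isInvertible_pullback (f.fiberι y) hL') e s hs t ht
  rw [hset]
  exact (isOpen_setOf_fiberRank_lt f L hcL hflL 0 1).isClosed_compl.inter
    (isOpen_setOf_fiberRank_lt f L' hcL' hflL' 0 1).isClosed_compl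

/-- **S16760** -/
theorem main16760
    (hgeo : ∀ (K : Type u) [Field K] (x : Spec (CommRingCat.of K) ⟶ Y), IsIntegral (pullback f x))
    (L : X.Modules) (hL : PicF.IsInvertible L) :
    IsClosed {y : Y | Nonempty (CohIII.fiberMod f L y ≅ Coh.structureModule (f.fiber y))} :=
  isClosed_trivial_locus f (fun y => hgeo (Y.residueField y) (Y.fromSpecResidueField y)) L hL

end Fibre

end Seesaw9
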