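import Mathlib
import Groth.Prelude
import Groth.Agent.Lib.AlgEqB_helper9
import Groth.Agent.Lib.FibPt4_helper9
import Groth.Agent.Lib.CurveSD5_helper9
import Groth.Agent.Lib.CurvStDeg_helper2
import Groth.Agent.Lib.Seesaw4_helper9
import Groth.Agent.Lib.CurveTens4_helper9

/-!
# Ω-duality on curves, part B: vanishing of `R¹p₂_*(p₁^*ω ⊗ O(Δ))` (helper9)
APPEND-ONLY once landed.
-/

set_option autoImplicit false
universe u
open AlgebraicGeometry CategoryTheory CategoryTheory.Limits TopologicalSpace Opposite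

namespace OmDual

open Groth.Agent.TensInv CohB1 FibPt AlgEq

section Vanish

variable (k : Type u) [Field k] [IsAlgClosed k] (C : Scheme.{u})
  [C.Over (Spec (CommRingCat.of k))] [IsProper (C ↘ Spec (CommRingCat.of k))]
  [Smooth (C ↘ Spec (CommRingCat.of k))] [IsIntegral C]

/-- `H¹(C, ω ⊗ I_y⁻¹) = 0` for a closed point `y` -/
theorem HH1_twist_point_subsingleton (hdim : topologicalKrullDim C = 1)
    (hreg : ∀ x : C, IsRegularLocalRing (C.presheaf.stalk x)) (D : CurveSD.DualData k C)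
    (y : C) (hy : IsClosed ({y} : Set C)) (Jy : C.Modules) (hJy : PicF.IsInvertible Jy)
    (eJy : tensorMod (Ipt C y hy) Jy ≅ Coh.structureModule C) :
    Subsingleton (Coh.HH C (tensorMod D.ω Jy) 1) := by
  haveI : IsLocallyNoetherian (Spec (CommRingCat.of k)) := inferInstance
  haveI : IsLocallyNoetherian C :=
    LocallyOfFiniteType.isLocallyNoetherian (C ↘ Spec (CommRingCat.of k))
  have hIy : PicF.IsInvertible (Ipt C y hy) :=
    CurvePtInv.isInvertible_idealMod_point hdim hy (hreg y)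
  have d1 := CurveTens.deg_tensorMod k C hdim.le hIy hJy
  rw [CurveTens.deg_of_iso k C eJy 1, CurveDeg.deg_structureModule,
    CurvePtInv.deg_idealMod_point k C y hy] at d1
  have d2 := CurveTens.deg_tensorMod k C hdim.le D.hω hJy
  apply D.hmax _ (TensH8.isInvertible_tensorMod D.hω hJy)
  rw [d2]
  linarith

/-- the family `B = p₁^* ω ⊗ O(Δ)` on `C ×_k C` -/
noncomputable abbrev famB (D : CurveSD.DualData k C)
    (JΔ : (pullback (C ↘ Spec (CommRingCat.of k)) (C ↘ Spec (CommRingCat.of k))).Modules) :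
    (Pic13.prodK k C (C ↘ Spec (CommRingCat.of k))).Modules :=
  famMod k C (C ↘ Spec (CommRingCat.of k)) D.ω JΔ

/-- the first cohomology of the fibre of `B` over a closed point vanishes -/
theorem fiberRank_closed (hdim : topologicalKrullDim C = 1)
    (hreg : ∀ x : C, IsRegularLocalRing (C.presheaf.stalk x)) (D : CurveSD.DualData k C)
    (JΔ : (pullback (C ↘ Spec (CommRingCat.of k)) (C ↘ Spec (CommRingCat.of k))).Modules)
    (hJΔ : PicF.IsInvertible JΔ)
    (ιΔ : tensorMod (ClSub.idealMod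
      (pullback.diagonal (C ↘ Spec (CommRingCat.of k))).ker) JΔ ≅ Coh.structureModule _)
    (y : C) (hy : IsClosed ({y} : Set C)) :
    CohIII.fiberRank (pullback.snd (C ↘ Spec (CommRingCat.of k)) (C ↘ Spec (CommRingCat.of k)))
      (famB k C D JΔ) 1 y = 0 := by
  haveI : IsLocallyNoetherian (Spec (CommRingCat.of k)) := inferInstance
  haveI : IsLocallyNoetherian C :=
    LocallyOfFiniteType.isLocallyNoetherian (C ↘ Spec (CommRingCat.of k))
  have hIy : PicF.IsInvertible (Ipt C y hy) :=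
    CurvePtInv.isInvertible_idealMod_point hdim hy (hreg y)
  obtain ⟨Jy, hJy, ⟨eJy⟩⟩ := Groth.Agent.InvTensP.exists_inverse _ hIy
  have hss := HH1_twist_point_subsingleton k C hdim hreg D y hy Jy hJy eJy
  have hker := ker_tpt k C y hy
  have hIt : PicF.IsInvertible (ClSub.idealMod (tpt k C y hy).ker) := by
    rw [hker]
    exact hIy
  have eJt : tensorMod (ClSub.idealMod (tpt k C y hy).ker) Jy ≅ Coh.structureModule C := by
    rw [hker]
    exact eJy
  obtain ⟨ε⟩ := nonempty_fibre_iso k (C ↘ Spec (CommRingCat.of k)) (tpt k C y hy)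
    (tpt_comp k C y hy) hdim D.ω D.hω JΔ hJΔ ιΔ hIt Jy eJt
  have hB : PicF.IsInvertible (famB k C D JΔ) :=
    TensH8.isInvertible_tensorMod (TensH8.isInvertible_pullback _ D.hω) hJΔ
  haveI : (famB k C D JΔ).IsQuasicoherent := TensH8.isQuasicoherent_of_isInvertible hB
  have hb := betti_eq_finrank
    (pullback.snd (C ↘ Spec (CommRingCat.of k)) (C ↘ Spec (CommRingCat.of k)))
    (C ↘ Spec (CommRingCat.of k)) (tpt k C y hy) (tpt_comp k C y hy)
    (Pic13.sliceAt k C (C ↘ Spec (CommRingCat.of k)) (tpt k C y hy) (tpt_comp k C y hy))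
    (C ↘ Spec (CommRingCat.of k))
    (isPullback_sliceAt k C (C ↘ Spec (CommRingCat.of k)) (tpt k C y hy) (tpt_comp k C y hy))
    (famB k C D JΔ) 1
  have hpt : ptOf (tpt k C y hy) = y :=
    pointOfClosedPoint_apply (C ↘ Spec (CommRingCat.of k)) y hy _
  rw [hpt] at hb
  have hss' : Subsingleton (Coh.HH C ((Scheme.Modules.pullback
      (Pic13.sliceAt k C (C ↘ Spec (CommRingCat.of k)) (tpt k C y hy) (tpt_comp k C y hy))).obj
      (famB k C D JΔ)) 1) :=
    Groth.Agent.HHVan.subsingleton_of_iso ε.symm 1 hss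
  show PerfAux.betti _ _ y 1 = 0
  rw [hb]
  exact Module.finrank_zero_of_subsingleton

/-- **`R¹p₂_*(p₁^*ω ⊗ O(Δ)) = 0`** -/
theorem isZero_Rpush_famB (hdim : topologicalKrullDim C = 1)
    (hreg : ∀ x : C, IsRegularLocalRing (C.presheaf.stalk x)) (D : CurveSD.DualData k C)
    (JΔ : (pullback (C ↘ Spec (CommRingCat.of k)) (C ↘ Spec (CommRingCat.of k))).Modules)
    (hJΔ : PicF.IsInvertible JΔ)
    (ιΔ : tensorMod (ClSub.idealMod
      (pullback.diagonal (C ↘ Spec (CommRingCat.of k))).ker) JΔ ≅ Coh.structureModule _)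
    [HasInjectiveResolutions (Pic13.prodK k C (C ↘ Spec (CommRingCat.of k))).Modules] :
    IsZero ((Coh.Rpush (pullback.snd (C ↘ Spec (CommRingCat.of k))
      (C ↘ Spec (CommRingCat.of k))) 1).obj (famB k C D JΔ)) := by
  haveI : IsLocallyNoetherian (Spec (CommRingCat.of k)) := inferInstance
  haveI : IsLocallyNoetherian C :=
    LocallyOfFiniteType.isLocallyNoetherian (C ↘ Spec (CommRingCat.of k))
  haveI : LocallyOfFinitePresentation (C ↘ Spec (CommRingCat.of k)) := by
    rw [HasRingHomProperty.iff_appLE (P := @LocallyOfFinitePresentation)]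
    intro U V e
    have h1 := HasRingHomProperty.appLE (P := @LocallyOfFiniteType)
      (C ↘ Spec (CommRingCat.of k)) inferInstance U V e
    haveI : IsNoetherianRing Γ(Spec (CommRingCat.of k), U.1) :=
      IsLocallyNoetherian.component_noetherian U
    exact RingHom.FinitePresentation.of_finiteType.1 h1
  set f : Pic13.prodK k C (C ↘ Spec (CommRingCat.of k)) ⟶ C :=
    pullback.snd (C ↘ Spec (CommRingCat.of k)) (C ↘ Spec (CommRingCat.of k)) with hf
  set pr : Pic13.prodK k C (C ↘ Spec (CommRingCat.of k)) ⟶ C :=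
    pullback.fst (C ↘ Spec (CommRingCat.of k)) (C ↘ Spec (CommRingCat.of k)) with hpr
  haveI : IsLocallyNoetherian (Pic13.prodK k C (C ↘ Spec (CommRingCat.of k))) :=
    LocallyOfFiniteType.isLocallyNoetherian f
  have hωc : Coh.IsCoh D.ω := ProperFinH9.isCoh_of_isInvertible D.hω
  have hPF : Coh.IsCoh ((Scheme.Modules.pullback pr).obj D.ω) :=
    Groth.Agent.Lib.ConsModH2.isCoh_pullback pr D.ω hωc
  have h𝓕 : Coh.IsCoh (famB k C D JΔ) := Snap9.isCoh_tensorMod hPF hJΔ
  haveI := h𝓕.1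
  haveI := h𝓕.2
  have hFP : CohB1.IsFP (famB k C D JΔ) := FLFH8.isFinitePresentation_of_isCoh _
  haveI := hωc.1
  have hflat0 : ∀ z : Pic13.prodK k C (C ↘ Spec (CommRingCat.of k)),
      FlatMod.IsFlatOverAt (C ↘ Spec (CommRingCat.of k)) D.ω (pr z) := by
    intro z
    exact @Groth.Agent.Lib.RegFlatPowH4.flat_of_isField _ _ _
      (Groth.Agent.Lib.CurveCMH8.isField_stalk_spec_field k _) _
      (FlatMod.moduleStalkOver (C ↘ Spec (CommRingCat.of k)) D.ω (pr z))
  have hpb : IsPullback pr f (C ↘ Spec (CommRingCat.of k)) (C ↘ Spec (CommRingCat.of k)) :=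
    IsPullback.of_hasPullback _ _
  have hflat1 : FlatMod.IsFlatOver f ((Scheme.Modules.pullback pr).obj D.ω) :=
    fun z => FlatBC2H8.isFlatOverAt_pullback hpb D.ω z (hflat0 z)
  have hflat2 : FlatMod.IsFlatOver f (CohB1.tensorMod JΔ ((Scheme.Modules.pullback pr).obj D.ω)) :=
    Groth.Agent.Lib.RelPerfTensH3.isFlatOver_tensor f JΔ _
      (TensH8.isFinLocFree_of_isInvertible hJΔ) hflat1
  have hflat : FlatMod.IsFlatOver f (famB k C D JΔ) :=
    Groth.Agent.Lib.RelPerfTensH3.isFlatOver_of_iso f (Groth.Agent.TensInv.comm JΔ _) hflat2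
  have hopen := Seesaw9.isOpen_setOf_fiberRank_lt f (famB k C D JΔ) h𝓕 hflat 1 1
  have hall : ∀ y : C, CohIII.fiberRank f (famB k C D JΔ) 1 y = 0 := by
    by_contra h
    push_neg at h
    obtain ⟨y₀, hy₀⟩ := h
    have hcl : IsClosed {y : C | CohIII.fiberRank f (famB k C D JΔ) 1 y < 1}ᶜ :=
      hopen.isClosed_compl
    haveI : CompactSpace C :=
      QuasiCompact.compactSpace_of_compactSpace (C ↘ Spec (CommRingCat.of k))
    obtain ⟨p, hpZ, hp⟩ := IsClosed.exists_closed_singleton hcl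
      ⟨y₀, fun h0 : CohIII.fiberRank f (famB k C D JΔ) 1 y₀ < 1 => hy₀ (by omega)⟩
    apply hpZ
    show CohIII.fiberRank f (famB k C D JΔ) 1 p < 1
    rw [fiberRank_closed k C hdim hreg D JΔ hJΔ ιΔ p hp]
    exact Nat.one_pos
  haveI : Coh.IsQCoh (famB k C D JΔ) := h𝓕.1
  exact Groth.Agent.Lib.PBCH2.isZero_Rpush_of_fiberRank_zero f (famB k C D JΔ) hFP hflat 1 hall

end Vanish

end OmDual
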