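import Mathlib
import Groth.Prelude
import Groth.Agent.Lib.HypSurf_helper9
import Groth.Agent.Lib.ClImmTw1_helper9
import Groth.Agent.Lib.TensInv2_helper9
import Groth.Agent.Lib.CMMul1_helper9
import Groth.Agent.Lib.AlgEqA_helper9

/-!
# Ω-duality on curves, part C: the restriction sequence of a closed subscheme (helper9)
For an ideal `I` of `X` and an invertible module `B`: the short exact sequence
`0 → I ⊗ B → O ⊗ B → (O/I) ⊗ B → 0` with `(O/I) ⊗ B ≅ ι_* ι^* B`; and for a section `Δ` of a
morphism `p`, closed immersion: `p_* (ι_* ι^* B) ≅ Δ^* B`.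
APPEND-ONLY once landed.
-/

set_option autoImplicit false
universe u
open AlgebraicGeometry CategoryTheory CategoryTheory.Limits TopologicalSpace Opposite

namespace OmDual

open Groth.Agent.TensInv CohB1

section Seq

variable {X : Scheme.{u}} (I : X.IdealSheafData) (B : X.Modules)

/-- the restriction sequence `I ⊗ B → O ⊗ B → (O/I) ⊗ B` -/
noncomputable def resSeq : ShortComplex X.Modules := (Groth.Agent.HypSurf.ses I).map (tR B)

theorem resSeq_shortExact {B' : X.Modules}
    (h : Nonempty (tensorMod B B' ≅ Coh.structureModule X)) : (resSeq I B).ShortExact := by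
  haveI := isEquivalence_tR h
  exact shortExact_map_of_isEquivalence (tR B) _ (Groth.Agent.HypSurf.ses_shortExact I)

theorem resSeq_X₁ : (resSeq I B).X₁ = tensorMod (ClSub.idealMod I) B := rfl

/-- the middle term is `B` -/
noncomputable def resSeqX₂Iso : (resSeq I B).X₂ ≅ B := Groth.Agent.CMMul.unitorL B

/-- the third term is `ι_* ι^* B` -/
noncomputable def resSeqX₃Iso (hB : FlatMod.IsFinLocFree B) :
    (resSeq I B).X₃ ≅ (Scheme.Modules.pushforward I.subschemeι).obj
      ((Scheme.Modules.pullback I.subschemeι).obj B) :=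
  (Groth.Agent.ClImmTw.pushTwistIso I.subschemeι B hB (Coh.structureModule I.subscheme)).symm ≪≫
    (Scheme.Modules.pushforward I.subschemeι).mapIso (Groth.Agent.CMMul.unitorL _)

end Seq

section Push

variable {C Y : Scheme.{u}} (Δ : C ⟶ Y) [IsClosedImmersion Δ] (p : Y ⟶ C) (hp : Δ ≫ p = 𝟙 C)

/-- pushforward along the inverse of an isomorphism is the pullback -/
noncomputable def pushInvIso {Z : Scheme.{u}} (j : C ⟶ Z) [IsIso j] (ρ : Z ⟶ C) (h : ρ ≫ j = 𝟙 Z)
    (G : Z.Modules) :
    (Scheme.Modules.pushforward ρ).obj G ≅ (Scheme.Modules.pullback j).obj G :=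
  ((Scheme.Modules.restrictFunctorAdjCounitIso j).app ((Scheme.Modules.pushforward ρ).obj G)).symm ≪≫
    (Scheme.Modules.restrictFunctor j).mapIso
      ((Scheme.Modules.pushforwardComp ρ j).app G ≪≫ (Scheme.Modules.pushforwardCongr h).app G ≪≫
        (Scheme.Modules.pushforwardId Z).app G) ≪≫
    (Scheme.Modules.restrictFunctorIsoPullback j).app G

include hp in
/-- `p_* (ι_* ι^* B) ≅ Δ^* B` for a closed immersion `Δ` which is a section of `p` -/
theorem nonempty_push_iso (B : Y.Modules) :
    Nonempty ((Scheme.Modules.pushforward p).obj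
      ((Scheme.Modules.pushforward Δ.ker.subschemeι).obj
        ((Scheme.Modules.pullback Δ.ker.subschemeι).obj B)) ≅
      (Scheme.Modules.pullback Δ).obj B) := by
  haveI : IsIso Δ.toImage := inferInstance
  have h1 : Δ.toImage ≫ Δ.ker.subschemeι = Δ := Δ.toImage_imageι
  have h2 : (Δ.ker.subschemeι ≫ p) ≫ Δ.toImage = 𝟙 _ := by
    rw [← cancel_epi Δ.toImage, ← Category.assoc, ← Category.assoc, h1, hp, Category.id_comp,
      Category.comp_id]
  exact ⟨(Scheme.Modules.pushforwardComp Δ.ker.subschemeι p).app _ ≪≫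
    pushInvIso Δ.toImage (Δ.ker.subschemeι ≫ p) h2 _ ≪≫
    AlgEq.pullCompIso Δ.toImage Δ.ker.subschemeι Δ h1 B⟩

end Push

end OmDual
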