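import Mathlib
import Groth.Prelude
import Groth.Agent.Lib.OmDualA_helper9
import Groth.Agent.Lib.OmDualB_helper9
import Groth.Agent.Lib.OmDualC_helper9
import Groth.Agent.Lib.Horseshoe0_helper9
import Groth.Agent.Lib.InvEpi1_helper5
import Groth.Agent.Lib.RpushRestrict_helper9

/-!
# Ω-duality on curves, part D: the dualizing module is the module of differentials (helper9)
APPEND-ONLY once landed.
-/

set_option autoImplicit false
universe u
open AlgebraicGeometry CategoryTheory CategoryTheory.Limits TopologicalSpace Opposite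

namespace OmDual

open Groth.Agent.TensInv CohB1 FibPt AlgEq

section Abstract

universe v₁ u₁ v₂ u₂

variable {𝒜 : Type u₁} [Category.{v₁} 𝒜] [Abelian 𝒜] [EnoughInjectives 𝒜]
  {ℬ : Type u₂} [Category.{v₂} ℬ] [Abelian ℬ] (F : 𝒜 ⥤ ℬ) [F.Additive] [PreservesFiniteLimits F]

/-- the connecting morphism `F(X₃) ⟶ R¹F(X₁)` of a short exact sequence is an epimorphism when
`R¹F(X₂) = 0` -/
theorem exists_epi_connecting (S : ShortComplex 𝒜) (hS : S.ShortExact)
    (h0 : IsZero ((F.rightDerived 1).obj S.X₂)) :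
    ∃ δ : F.obj S.X₃ ⟶ (F.rightDerived 1).obj S.X₁, Epi δ := by
  obtain ⟨w, hex⟩ := Groth.Agent.Lib.Horseshoe0.les₁ (Groth.Agent.Lib.Horseshoe0.sesRes S hS) F 0 1 rfl
  haveI : Epi ((Groth.Agent.Lib.Horseshoe0.sesRes S hS).delta F 0 1 rfl) :=
    hex.epi_f (h0.eq_of_tgt _ _)
  exact ⟨F.rightDerivedZeroIsoSelf.inv.app S.X₃ ≫
    (Groth.Agent.Lib.Horseshoe0.sesRes S hS).delta F 0 1 rfl, epi_comp _ _⟩

end Abstract

section Main

variable (k : Type u) [Field k] [IsAlgClosed k] (C : Scheme.{u})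
  [C.Over (Spec (CommRingCat.of k))] [IsProper (C ↘ Spec (CommRingCat.of k))]
  [Smooth (C ↘ Spec (CommRingCat.of k))] [IsIntegral C]

/-- the restriction of `B = p₁^*ω ⊗ O(Δ)` to the diagonal is trivial -/
theorem nonempty_pullback_diag_famB_iso_unit (hdim : topologicalKrullDim C = 1)
    (D : CurveSD.DualData k C) (h1 : Module.finrank k (Coh.HH C D.ω 1) = 1)
    (JΔ : (pullback (C ↘ Spec (CommRingCat.of k)) (C ↘ Spec (CommRingCat.of k))).Modules)
    (hJΔ : PicF.IsInvertible JΔ)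
    (ιΔ : tensorMod (ClSub.idealMod
      (pullback.diagonal (C ↘ Spec (CommRingCat.of k))).ker) JΔ ≅ Coh.structureModule _) :
    Nonempty ((Scheme.Modules.pullback (pullback.diagonal (C ↘ Spec (CommRingCat.of k)))).obj
      (famB k C D JΔ) ≅ Coh.structureModule C) := by
  have hreg : ∀ x : C, IsRegularLocalRing (C.presheaf.stalk x) := fun x =>
    Groth.Agent.Lib.FibCodim2H4.stalk_regular_of_smooth_field (CommRingCat.of k)
      (Field.toIsField k) (C ↘ Spec (CommRingCat.of k)) x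
  haveI : EnoughInjectives C.Modules := RpushQC.enoughInjectives_modules C
  haveI : EnoughInjectives
      (pullback (C ↘ Spec (CommRingCat.of k)) (C ↘ Spec (CommRingCat.of k))).Modules :=
    RpushQC.enoughInjectives_modules _
  haveI : EnoughInjectives (Pic13.prodK k C (C ↘ Spec (CommRingCat.of k))).Modules :=
    RpushQC.enoughInjectives_modules _
  have hA : PicF.IsInvertible ((Scheme.Modules.pullback (pullback.fst (C ↘ Spec (CommRingCat.of k))
      (C ↘ Spec (CommRingCat.of k)))).obj D.ω) := TensH8.isInvertible_pullback _ D.hω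
  have hB : PicF.IsInvertible (famB k C D JΔ) := TensH8.isInvertible_tensorMod hA hJΔ
  obtain ⟨B', -, ⟨eB⟩⟩ := Groth.Agent.InvTensP.exists_inverse _ hB
  have hS := resSeq_shortExact (pullback.diagonal (C ↘ Spec (CommRingCat.of k))).ker
    (famB k C D JΔ) ⟨eB⟩
  have hz := isZero_Rpush_famB k C hdim hreg D JΔ hJΔ ιΔ
  have h0 : IsZero (((Scheme.Modules.pushforward (pullback.snd (C ↘ Spec (CommRingCat.of k))
      (C ↘ Spec (CommRingCat.of k)))).rightDerived 1).obj
      (resSeq (pullback.diagonal (C ↘ Spec (CommRingCat.of k))).ker (famB k C D JΔ)).X₂) :=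
    IsZero.of_iso hz (((Scheme.Modules.pushforward (pullback.snd (C ↘ Spec (CommRingCat.of k))
      (C ↘ Spec (CommRingCat.of k)))).rightDerived 1).mapIso (resSeqX₂Iso _ _))
  obtain ⟨δ, hδ⟩ := exists_epi_connecting (Scheme.Modules.pushforward
    (pullback.snd (C ↘ Spec (CommRingCat.of k)) (C ↘ Spec (CommRingCat.of k)))) _ hS h0
  -- the first term
  have eX₁ : (resSeq (pullback.diagonal (C ↘ Spec (CommRingCat.of k))).ker (famB k C D JΔ)).X₁ ≅
      (Scheme.Modules.pullback (pullback.fst (C ↘ Spec (CommRingCat.of k))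
        (C ↘ Spec (CommRingCat.of k)))).obj D.ω :=
    mapL _ (comm _ _) ≪≫ (assoc _ _ _).symm ≪≫ mapR ιΔ _ ≪≫ Groth.Agent.CMMul.unitorL _
  haveI : D.ω.IsQuasicoherent := TensH8.isQuasicoherent_of_isInvertible D.hω
  obtain ⟨eN⟩ := nonempty_Rpush_snd_iso_unit k (C ↘ Spec (CommRingCat.of k)) D.ω 1 h1
  have eR1 := ((Scheme.Modules.pushforward (pullback.snd (C ↘ Spec (CommRingCat.of k))
      (C ↘ Spec (CommRingCat.of k)))).rightDerived 1).mapIso eX₁ ≪≫ eN
  -- the third term
  obtain ⟨eP⟩ := nonempty_push_iso (pullback.diagonal (C ↘ Spec (CommRingCat.of k)))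
    (pullback.snd (C ↘ Spec (CommRingCat.of k)) (C ↘ Spec (CommRingCat.of k)))
    (pullback.diagonal_snd _) (famB k C D JΔ)
  have eS := (Scheme.Modules.pushforward (pullback.snd (C ↘ Spec (CommRingCat.of k))
      (C ↘ Spec (CommRingCat.of k)))).mapIso
      (resSeqX₃Iso (pullback.diagonal (C ↘ Spec (CommRingCat.of k))).ker (famB k C D JΔ)
        (TensH8.isFinLocFree_of_isInvertible hB)) ≪≫ eP
  haveI : Epi (eS.inv ≫ δ ≫ eR1.hom) := epi_comp' inferInstance (epi_comp' hδ inferInstance)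
  haveI := Groth.Agent.InvEpi.isIso_of_epi (TensH8.isInvertible_pullback _ hB)
    TensH8.isInvertible_structureModule (eS.inv ≫ δ ≫ eR1.hom)
  exact ⟨asIso (eS.inv ≫ δ ≫ eR1.hom)⟩

/-- **a dualizing module of a smooth proper curve is isomorphic to the module of differentials**
(given that `H¹(ω)` is a line) -/
theorem nonempty_omega_iso_of_finrank (hdim : topologicalKrullDim C = 1)
    (D : CurveSD.DualData k C) (h1 : Module.finrank k (Coh.HH C D.ω 1) = 1) :
    Nonempty (D.ω ≅ Omega.sheaf (C ↘ Spec (CommRingCat.of k))) := by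
  have hI := isInvertible_idealMod_diagonal k (C ↘ Spec (CommRingCat.of k)) hdim
  obtain ⟨JΔ, hJΔ, ⟨ιΔ⟩⟩ := Groth.Agent.InvTensP.exists_inverse _ hI
  obtain ⟨e₀⟩ := nonempty_pullback_diag_famB_iso_unit k C hdim D h1 JΔ hJΔ ιΔ
  have hA : PicF.IsInvertible ((Scheme.Modules.pullback (pullback.fst (C ↘ Spec (CommRingCat.of k))
      (C ↘ Spec (CommRingCat.of k)))).obj D.ω) := TensH8.isInvertible_pullback _ D.hω
  -- `ω ⊗ T ≅ O` with `T = Δ^* O(Δ)`
  have e₁ : tensorMod D.ω ((Scheme.Modules.pullback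
      (pullback.diagonal (C ↘ Spec (CommRingCat.of k)))).obj JΔ) ≅ Coh.structureModule C :=
    (mapR (pullCompIso (pullback.diagonal (C ↘ Spec (CommRingCat.of k)))
        (pullback.fst (C ↘ Spec (CommRingCat.of k)) (C ↘ Spec (CommRingCat.of k))) (𝟙 C)
        (pullback.diagonal_fst _) D.ω ≪≫ (Scheme.Modules.pullbackId C).app D.ω) _).symm ≪≫
      (PullTensH9.pullTensIso (pullback.diagonal (C ↘ Spec (CommRingCat.of k))) hA hJΔ).symm ≪≫ e₀
  -- `Ω ⊗ T ≅ O`
  have e₂ : tensorMod (Omega.sheaf (C ↘ Spec (CommRingCat.of k))) ((Scheme.Modules.pullback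
      (pullback.diagonal (C ↘ Spec (CommRingCat.of k)))).obj JΔ) ≅ Coh.structureModule C :=
    (PullTensH9.pullTensIso (pullback.diagonal (C ↘ Spec (CommRingCat.of k))) hI hJΔ).symm ≪≫
      (Scheme.Modules.pullback (pullback.diagonal (C ↘ Spec (CommRingCat.of k)))).mapIso ιΔ ≪≫
      PBH8.pullbackUnitIso _
  exact inverse_unique (comm _ _ ≪≫ e₁) (comm _ _ ≪≫ e₂)

end Main

end OmDual
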