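import Mathlib
import Groth.Prelude
import Groth.Agent.Lib.OmDualD_helper9
import Groth.Agent.Lib.VBCurve7_helper9
import Groth.Agent.Lib.FibAmp3_helper2
import Groth.Agent.Lib.CurveIdeal1_helper9
import Groth.Agent.Lib.CurveRR1_helper9
import Groth.Agent.Lib.ProjConn_helper9

/-!
# Ω-duality on curves, part E: `H¹(ω)` is a line; `ω ≅ Ω` (helper9)
APPEND-ONLY once landed.
-/

set_option autoImplicit false
universe u
open AlgebraicGeometry CategoryTheory CategoryTheory.Limits TopologicalSpace Opposite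

namespace OmDual

open Groth.Agent.TensInv CohB1 Groth.Agent.HHVan

section Line

variable {k : Type u} [Field k] {X : Scheme.{u}} [X.Over (Spec (CommRingCat.of k))]

/-- the scalar endomorphism `c • 𝟙` acts on cohomology as `c` -/
theorem hmap_smul_id (E : X.Modules) (c : k) (i : ℕ) (x : Coh.HH X E i) :
    hmap (c • 𝟙 E) i x = c • x := by
  unfold hmap
  have h := VBCurve.toSheaf_map_smul k X E c
  show Sheaf.H.map ((SheafOfModules.toSheaf X.ringCatSheaf).map (c • 𝟙 E)) i x = _
  rw [h]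
  rfl

variable [IsAlgClosed k] [IsIntegral X] [IsProper (X ↘ Spec (CommRingCat.of k))]

/-- **`H¹(ω)` is one-dimensional** -/
theorem finrank_HH1_omega (hdim : topologicalKrullDim X = 1)
    (hreg : ∀ x : X, IsRegularLocalRing (X.presheaf.stalk x)) (D : CurveSD.DualData k X) :
    Module.finrank k (Coh.HH X D.ω 1) = 1 := by
  haveI : IsLocallyNoetherian X :=
    LocallyOfFiniteType.isLocallyNoetherian (X ↘ Spec (CommRingCat.of k))
  have hωc : Coh.IsCoh D.ω := ProperFinH9.isCoh_of_isInvertible D.hω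
  haveI : Module.Finite k (Coh.HH X D.ω 1) := ProperFinH9.finite_HH_of_proper k X D.ω hωc 1
  have hspan : ∀ ψ : Module.Dual k (Coh.HH X D.ω 1), ∃ c : k, c • D.t = ψ := by
    intro ψ
    obtain ⟨φ, hφ⟩ := CurveSD.dSurj_coh hdim hreg D D.ω hωc ψ
    obtain ⟨c, hc⟩ := VBCurve.endo_eq_smul_of_isInvertible k X hdim D.hω φ
    refine ⟨c, ?_⟩
    apply LinearMap.ext
    intro x
    rw [hφ x, hc, hmap_smul_id, map_smul]
    rfl
  have h1 : Module.finrank k (Module.Dual k (Coh.HH X D.ω 1)) = 1 :=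
    finrank_eq_one_iff'.mpr ⟨D.t, D.ht, hspan⟩
  rw [← Subspace.dual_finrank_eq]
  exact h1

/-- the duality pairing, as a linear map `Hom(F, ω) → H¹(F)^*` -/
noncomputable def dualMap (D : CurveSD.DualData k X) (F : X.Modules) :
    (F ⟶ D.ω) →ₗ[k] Module.Dual k (Coh.HH X F 1) where
  toFun φ := D.t ∘ₗ Canon.HHlin k φ 1
  map_add' φ φ' := by
    apply LinearMap.ext
    intro x
    show D.t (hmap (φ + φ') 1 x) = D.t (hmap φ 1 x) + D.t (hmap φ' 1 x)
    rw [Groth.Agent.ProjDual.hmap_add, map_add]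
  map_smul' c φ := by
    apply LinearMap.ext
    intro x
    show D.t (hmap (c • φ) 1 x) = c • D.t (hmap φ 1 x)
    have h1 : c • φ = (c • 𝟙 F) ≫ φ := by
      rw [Linear.smul_comp, Category.id_comp]
    rw [h1, hmap_comp, hmap_smul_id]
    show D.t (Canon.HHlin k φ 1 (c • x)) = _
    rw [map_smul, map_smul]
    rfl

theorem dualMap_apply (D : CurveSD.DualData k X) (F : X.Modules) (φ : F ⟶ D.ω)
    (x : Coh.HH X F 1) : dualMap D F φ x = D.t (hmap φ 1 x) := rfl

/-- **Serre duality on a curve**: `Hom(F, ω) ≃ H¹(F)^*` for coherent `F` -/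
noncomputable def dualEquiv (hdim : topologicalKrullDim X = 1)
    (hreg : ∀ x : X, IsRegularLocalRing (X.presheaf.stalk x)) (D : CurveSD.DualData k X)
    (F : X.Modules) (hF : Coh.IsCoh F) : (F ⟶ D.ω) ≃ₗ[k] Module.Dual k (Coh.HH X F 1) :=
  LinearEquiv.ofBijective (dualMap D F) ⟨by
    rw [← LinearMap.ker_eq_bot, LinearMap.ker_eq_bot']
    intro φ hφ
    apply CurveSD.dInj_coh hdim hreg D F hF φ
    intro x
    have := congrArg (fun ψ : Module.Dual k (Coh.HH X F 1) => ψ x) hφ
    exact this, by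
    intro ψ
    obtain ⟨φ, hφ⟩ := CurveSD.dSurj_coh hdim hreg D F hF ψ
    refine ⟨φ, ?_⟩
    apply LinearMap.ext
    intro x
    exact (hφ x).symm⟩

/-- `dim Hom(F, ω) = h¹(F)` -/
theorem finrank_hom_omega (hdim : topologicalKrullDim X = 1)
    (hreg : ∀ x : X, IsRegularLocalRing (X.presheaf.stalk x)) (D : CurveSD.DualData k X)
    (F : X.Modules) (hF : Coh.IsCoh F) :
    Module.finrank k (F ⟶ D.ω) = Module.finrank k (Coh.HH X F 1) := by
  haveI : IsLocallyNoetherian X :=
    LocallyOfFiniteType.isLocallyNoetherian (X ↘ Spec (CommRingCat.of k))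
  haveI : Module.Finite k (Coh.HH X F 1) := ProperFinH9.finite_HH_of_proper k X F hF 1
  rw [(dualEquiv hdim hreg D F hF).finrank_eq, Subspace.dual_finrank_eq]

/-- `h⁰(ω) = g` -/
theorem finrank_HH0_omega (hdim : topologicalKrullDim X = 1)
    (hreg : ∀ x : X, IsRegularLocalRing (X.presheaf.stalk x)) (D : CurveSD.DualData k X) :
    Module.finrank k (Coh.HH X D.ω 0) = Curv2.genus k X := by
  haveI : IsLocallyNoetherian X :=
    LocallyOfFiniteType.isLocallyNoetherian (X ↘ Spec (CommRingCat.of k))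
  rw [← (CurveIdeal.thetaEquiv k D.ω).finrank_eq,
    finrank_hom_omega hdim hreg D _ (CohDevH8.isCoh_structureModule X)]
  rfl

/-- `deg ω = 2g - 2` -/
theorem deg_omega (hdim : topologicalKrullDim X = 1)
    (hreg : ∀ x : X, IsRegularLocalRing (X.presheaf.stalk x)) (D : CurveSD.DualData k X) :
    Curv2.deg k X D.ω 1 = 2 * (Curv2.genus k X : ℤ) - 2 := by
  haveI : IsLocallyNoetherian X :=
    LocallyOfFiniteType.isLocallyNoetherian (X ↘ Spec (CommRingCat.of k))
  haveI : D.ω.IsQuasicoherent := TensH8.isQuasicoherent_of_isInvertible D.hω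
  haveI : (Coh.structureModule X).IsQuasicoherent := TensH8.isQuasicoherent_structureModule
  haveI : Module.Finite k (Coh.HH X (Coh.structureModule X) 0) :=
    ProperFinH9.finite_HH_of_proper k X _ (CohDevH8.isCoh_structureModule X) 0
  have h0 := Groth.Agent.ProjConn.finrank_h0_of_isIntegral k (X := X)
  unfold Curv2.deg
  rw [CurveRR.euler_eq_sub k X hdim.le D.ω, CurveRR.euler_eq_sub k X hdim.le (Coh.structureModule X),
    finrank_HH0_omega hdim hreg D, finrank_HH1_omega hdim hreg D, h0]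
  unfold Curv2.genus
  push_cast
  ring

end Line

end OmDual
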