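import Mathlib
import Groth.Prelude
import Groth.Agent.Lib.OmDualE_helper9

/-!
# Ω-duality on curves, part F: Serre duality with the module of differentials (helper9)
APPEND-ONLY once landed.
-/

set_option autoImplicit false
universe u
open AlgebraicGeometry CategoryTheory CategoryTheory.Limits TopologicalSpace Opposite

namespace OmDual

open Groth.Agent.TensInv CohB1 Groth.Agent.HHVan

section Twist

variable {k : Type u} [Field k] {X : Scheme.{u}} [X.Over (Spec (CommRingCat.of k))]

/-- right tensoring is `k`-linear on morphisms -/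
theorem tR_map_smul (K : X.Modules) {M N : X.Modules} (c : k) (φ : M ⟶ N) :
    (tR K).map (c • φ) = c • (tR K).map φ := by
  rw [KLin.smul_def, Functor.map_comp, Groth.Agent.Lib.FibAmpH2.tR_map_smulMod]
  rfl

/-- auxiliary form of `homTwistEquiv` -/
noncomputable def homTwistEquivAux {L L' : X.Modules}
    (e : (tR L').obj L ≅ Coh.structureModule X) [(tR L').IsEquivalence]
    (N : X.Modules) : (L ⟶ N) ≃ₗ[k] (Coh.structureModule X ⟶ (tR L').obj N) :=
  LinearEquiv.ofBijective
    { toFun := fun φ => e.inv ≫ (tR L').map φ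
      map_add' := fun φ φ' => by
        rw [Functor.map_add, Preadditive.comp_add]
      map_smul' := fun c φ => by
        rw [tR_map_smul, Linear.comp_smul]
        rfl }
    ⟨fun φ φ' h => by
      have h1 : (tR L').map φ = (tR L').map φ' := (cancel_epi e.inv).mp h
      exact (tR L').map_injective h1,
    fun ψ => by
      obtain ⟨φ, hφ⟩ := (tR L').map_surjective (e.hom ≫ ψ)
      refine ⟨φ, ?_⟩
      show e.inv ≫ (tR L').map φ = ψ
      rw [hφ, ← Category.assoc, e.inv_hom_id, Category.id_comp]⟩

/-- `Hom(L, N) ≃ Hom(O, N ⊗ L')` for an inverse `L'` of `L` -/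
noncomputable def homTwistEquiv {L L' : X.Modules} (e : tensorMod L L' ≅ Coh.structureModule X)
    (N : X.Modules) : (L ⟶ N) ≃ₗ[k] (Coh.structureModule X ⟶ tensorMod N L') :=
  haveI : (tR L').IsEquivalence := isEquivalence_tR (swap ⟨e⟩)
  homTwistEquivAux (L := L) (L' := L') e N

end Twist

section Dual

variable {k : Type u} [Field k] [IsAlgClosed k] {X : Scheme.{u}} [X.Over (Spec (CommRingCat.of k))]
  [IsIntegral X] [IsProper (X ↘ Spec (CommRingCat.of k))]

/-- **`h¹(L) = h⁰(ω ⊗ L⁻¹)`** -/
theorem finrank_HH1_eq_HH0_twist (hdim : topologicalKrullDim X = 1)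
    (hreg : ∀ x : X, IsRegularLocalRing (X.presheaf.stalk x)) (D : CurveSD.DualData k X)
    {L L' : X.Modules} (hL : PicF.IsInvertible L)
    (e : tensorMod L L' ≅ Coh.structureModule X) :
    Module.finrank k (Coh.HH X L 1) = Module.finrank k (Coh.HH X (tensorMod D.ω L') 0) := by
  haveI : IsLocallyNoetherian X :=
    LocallyOfFiniteType.isLocallyNoetherian (X ↘ Spec (CommRingCat.of k))
  rw [← finrank_hom_omega hdim hreg D L (ProperFinH9.isCoh_of_isInvertible hL),
    (homTwistEquiv (k := k) e D.ω).finrank_eq, (CurveIdeal.thetaEquiv k _).finrank_eq]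

/-- transport of dualizing data along an isomorphism -/
noncomputable def dualDataOfIso (D : CurveSD.DualData k X) {ω' : X.Modules} (e : D.ω ≅ ω') :
    CurveSD.DualData k X where
  ω := ω'
  hω := TensH8.isInvertible_of_iso' e D.hω
  t := D.t ∘ₗ Canon.HHlin k e.inv 1
  ht := by
    intro h
    apply D.ht
    apply LinearMap.ext
    intro x
    have h1 := congrArg (fun ψ : Coh.HH X ω' 1 →ₗ[k] k => ψ (hmap e.hom 1 x)) h
    have h2 : hmap e.inv 1 (hmap e.hom 1 x) = x := by
      rw [← hmap_comp, e.hom_inv_id, hmap_id]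
    have h3 : D.t (hmap e.inv 1 (hmap e.hom 1 x)) = 0 := h1
    rw [h2] at h3
    exact h3
  hmax := fun L hL h => D.hmax L hL (by rwa [CurveTens.deg_of_iso k X e 1])

end Dual

section Omega

variable (k : Type u) [Field k] [IsAlgClosed k] (C : Scheme.{u})
  [C.Over (Spec (CommRingCat.of k))] [IsProper (C ↘ Spec (CommRingCat.of k))]
  [Smooth (C ↘ Spec (CommRingCat.of k))] [IsIntegral C]

include k in
omit [IsAlgClosed k] [IsProper (C ↘ Spec (CommRingCat.of k))] [IsIntegral C] in
theorem hreg_of_smooth : ∀ x : C, IsRegularLocalRing (C.presheaf.stalk x) := fun x =>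
  Groth.Agent.Lib.FibCodim2H4.stalk_regular_of_smooth_field (CommRingCat.of k)
    (Field.toIsField k) (C ↘ Spec (CommRingCat.of k)) x

/-- **every dualizing module of a smooth proper curve is the module of differentials** -/
theorem nonempty_omega_iso (hdim : topologicalKrullDim C = 1) (D : CurveSD.DualData k C) :
    Nonempty (D.ω ≅ Omega.sheaf (C ↘ Spec (CommRingCat.of k))) :=
  nonempty_omega_iso_of_finrank k C hdim D (finrank_HH1_omega hdim (hreg_of_smooth k C) D)

/-- **the module of differentials of a smooth proper curve is dualizing** -/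
theorem exists_dualData_Omega (hdim : topologicalKrullDim C = 1) :
    ∃ D : CurveSD.DualData k C, D.ω = Omega.sheaf (C ↘ Spec (CommRingCat.of k)) := by
  obtain ⟨D⟩ := CurveSD.exists_dualData (k := k) hdim (hreg_of_smooth k C)
  obtain ⟨e⟩ := nonempty_omega_iso k C hdim D
  exact ⟨dualDataOfIso D e, rfl⟩

theorem isInvertible_Omega (hdim : topologicalKrullDim C = 1) :
    PicF.IsInvertible (Omega.sheaf (C ↘ Spec (CommRingCat.of k))) := by
  obtain ⟨D, hD⟩ := exists_dualData_Omega k C hdim
  rw [← hD]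
  exact D.hω

/-- `deg Ω = 2g - 2` -/
theorem deg_Omega (hdim : topologicalKrullDim C = 1) :
    Curv2.deg k C (Omega.sheaf (C ↘ Spec (CommRingCat.of k))) 1 =
      2 * (Curv2.genus k C : ℤ) - 2 := by
  obtain ⟨D, hD⟩ := exists_dualData_Omega k C hdim
  rw [← hD]
  exact deg_omega hdim (hreg_of_smooth k C) D

/-- `h⁰(Ω) = g` -/
theorem finrank_HH0_Omega (hdim : topologicalKrullDim C = 1) :
    Module.finrank k (Coh.HH C (Omega.sheaf (C ↘ Spec (CommRingCat.of k))) 0) =
      Curv2.genus k C := by
  obtain ⟨D, hD⟩ := exists_dualData_Omega k C hdim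
  rw [← hD]
  exact finrank_HH0_omega hdim (hreg_of_smooth k C) D

/-- `h¹(Ω) = 1` -/
theorem finrank_HH1_Omega (hdim : topologicalKrullDim C = 1) :
    Module.finrank k (Coh.HH C (Omega.sheaf (C ↘ Spec (CommRingCat.of k))) 1) = 1 := by
  obtain ⟨D, hD⟩ := exists_dualData_Omega k C hdim
  rw [← hD]
  exact finrank_HH1_omega hdim (hreg_of_smooth k C) D

/-- **`h¹(L) = h⁰(Ω ⊗ L⁻¹)`** -/
theorem finrank_HH1_eq_HH0_Omega_twist (hdim : topologicalKrullDim C = 1)
    {L L' : C.Modules} (hL : PicF.IsInvertible L)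
    (e : tensorMod L L' ≅ Coh.structureModule C) :
    Module.finrank k (Coh.HH C L 1) =
      Module.finrank k (Coh.HH C (tensorMod (Omega.sheaf (C ↘ Spec (CommRingCat.of k))) L') 0) := by
  obtain ⟨D, hD⟩ := exists_dualData_Omega k C hdim
  rw [← hD]
  exact finrank_HH1_eq_HH0_twist hdim (hreg_of_smooth k C) D hL e

end Omega

end OmDual
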