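import Mathlib
import Groth.Prelude
import Groth.Agent.Lib.OmBC_helper9
import Groth.Agent.Lib.OmDualF_helper9
import Groth.Agent.Lib.HypEll3_helper9
import Groth.Agent.Lib.InvTens2_helper8
import Groth.Agent.Lib.CurveCM_helper4
import Groth.Agent.Lib.InvTensP2_helper5

/-!
# Ω-duality on smooth proper geometrically connected curves over an arbitrary field (helper9)
By base change to the algebraic closure.
APPEND-ONLY once landed.
-/

set_option autoImplicit false
universe u
open AlgebraicGeometry CategoryTheory CategoryTheory.Limits TopologicalSpace Opposite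

namespace OmField

open Groth.Agent.TensInv CohB1

section Field

variable (k : Type u) [Field k] (C : Scheme.{u}) [C.Over (Spec (CommRingCat.of k))]
  [IsProper (C ↘ Spec (CommRingCat.of k))] [Smooth (C ↘ Spec (CommRingCat.of k))]
  [GeometricallyConnected (C ↘ Spec (CommRingCat.of k))]

/-- the structure morphism of the base change to the algebraic closure -/
noncomputable local instance overK :
    (Curv2.bc k C (AlgebraicClosure k)).Over (Spec (CommRingCat.of (AlgebraicClosure k))) :=
  ⟨Curv2.bcSnd k C (AlgebraicClosure k)⟩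

theorem hpb : IsPullback (Curv2.bcFst k C (AlgebraicClosure k))
    (Curv2.bc k C (AlgebraicClosure k) ↘ Spec (CommRingCat.of (AlgebraicClosure k)))
    (C ↘ Spec (CommRingCat.of k))
    (Spec.map (CommRingCat.ofHom (algebraMap k (AlgebraicClosure k)))) :=
  IsPullback.of_hasPullback _ _

local instance properK :
    IsProper (Curv2.bc k C (AlgebraicClosure k) ↘ Spec (CommRingCat.of (AlgebraicClosure k))) :=
  PicBC.isProper_of_isPullback (Curv2.bcFst k C (AlgebraicClosure k)) (hpb k C)

local instance smoothK :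
    Smooth (Curv2.bc k C (AlgebraicClosure k) ↘ Spec (CommRingCat.of (AlgebraicClosure k))) :=
  PicBC.smooth_of_isPullback (Curv2.bcFst k C (AlgebraicClosure k)) (hpb k C)

local instance geomConnK : GeometricallyConnected
    (Curv2.bc k C (AlgebraicClosure k) ↘ Spec (CommRingCat.of (AlgebraicClosure k))) :=
  MorphismProperty.of_isPullback (hpb k C) inferInstance

local instance integralK : IsIntegral (Curv2.bc k C (AlgebraicClosure k)) :=
  VBCurve.isIntegral_of_smooth_geomConn (AlgebraicClosure k) _

include k in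
theorem isIntegral : IsIntegral C := VBCurve.isIntegral_of_smooth_geomConn k C

theorem hdimK (hdim : topologicalKrullDim C = 1) :
    topologicalKrullDim (Curv2.bc k C (AlgebraicClosure k)) = 1 := by
  rw [GZ9.dim_bc]
  exact hdim

/-- `Ω_{C/k}` is invertible -/
theorem isInvertible_Omega (hdim : topologicalKrullDim C = 1) :
    PicF.IsInvertible (Omega.sheaf (C ↘ Spec (CommRingCat.of k))) := by
  haveI := isIntegral k C
  exact TensH8.isInvertible_pullback _
    (AlgEq.isInvertible_idealMod_diagonal k (C ↘ Spec (CommRingCat.of k)) hdim)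

/-- **base change of the module of differentials to the algebraic closure** -/
theorem nonempty_pullback_Omega_iso (hdim : topologicalKrullDim C = 1) :
    Nonempty ((Scheme.Modules.pullback (Curv2.bcFst k C (AlgebraicClosure k))).obj
      (Omega.sheaf (C ↘ Spec (CommRingCat.of k))) ≅
      Omega.sheaf (Curv2.bc k C (AlgebraicClosure k) ↘
        Spec (CommRingCat.of (AlgebraicClosure k)))) := by
  obtain ⟨π, hπ⟩ := OmBC.exists_epi_pullback_Omega (hpb k C)
  haveI := hπ
  haveI := Groth.Agent.InvEpi.isIso_of_epi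
    (TensH8.isInvertible_pullback _ (isInvertible_Omega k C hdim))
    (OmDual.isInvertible_Omega (AlgebraicClosure k) _ (hdimK k C hdim)) π
  exact ⟨asIso π⟩

include k in
theorem compactSpace : CompactSpace C :=
  QuasiCompact.compactSpace_of_compactSpace (C ↘ Spec (CommRingCat.of k))

include k in
theorem quasiSeparatedSpace : QuasiSeparatedSpace C := by
  haveI : IsIntegral C := VBCurve.isIntegral_of_smooth_geomConn k C
  haveI : IsLocallyNoetherian C :=
    LocallyOfFiniteType.isLocallyNoetherian (C ↘ Spec (CommRingCat.of k))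
  haveI : CompactSpace C := compactSpace k C
  infer_instance

theorem genus_bc :
    Curv2.genus (AlgebraicClosure k) (Curv2.bc k C (AlgebraicClosure k)) = Curv2.genus k C := by
  haveI : CompactSpace C :=
    QuasiCompact.compactSpace_of_compactSpace (C ↘ Spec (CommRingCat.of k))
  haveI := quasiSeparatedSpace k C
  exact Groth.Agent.EulerBC.finrank_HH_structure_pullback
    (Curv2.bcFst k C (AlgebraicClosure k)) (hpb k C) 1

/-- `deg Ω = 2g - 2` over an arbitrary field -/
theorem deg_Omega (hdim : topologicalKrullDim C = 1) :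
    Curv2.deg k C (Omega.sheaf (C ↘ Spec (CommRingCat.of k))) 1 =
      2 * (Curv2.genus k C : ℤ) - 2 := by
  haveI : CompactSpace C :=
    QuasiCompact.compactSpace_of_compactSpace (C ↘ Spec (CommRingCat.of k))
  haveI := quasiSeparatedSpace k C
  obtain ⟨e⟩ := nonempty_pullback_Omega_iso k C hdim
  haveI : Coh.IsQCoh (Omega.sheaf (C ↘ Spec (CommRingCat.of k))) :=
    TensH8.isQuasicoherent_of_isInvertible (isInvertible_Omega k C hdim)
  rw [← EulerBC.deg_bc k C (AlgebraicClosure k) _ 1,
    CurveTens.deg_of_iso (AlgebraicClosure k) _ e 1,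
    OmDual.deg_Omega (AlgebraicClosure k) _ (hdimK k C hdim), genus_bc]

/-- `h^i(Ω)` over an arbitrary field, in terms of the base change -/
theorem finrank_HH_Omega_bc (hdim : topologicalKrullDim C = 1) (i : ℕ) :
    Module.finrank k (Coh.HH C (Omega.sheaf (C ↘ Spec (CommRingCat.of k))) i) =
      Module.finrank (AlgebraicClosure k) (Coh.HH (Curv2.bc k C (AlgebraicClosure k))
        (Omega.sheaf (Curv2.bc k C (AlgebraicClosure k) ↘
          Spec (CommRingCat.of (AlgebraicClosure k)))) i) := by
  haveI : CompactSpace C :=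
    QuasiCompact.compactSpace_of_compactSpace (C ↘ Spec (CommRingCat.of k))
  haveI := quasiSeparatedSpace k C
  obtain ⟨e⟩ := nonempty_pullback_Omega_iso k C hdim
  haveI : Coh.IsQCoh (Omega.sheaf (C ↘ Spec (CommRingCat.of k))) :=
    TensH8.isQuasicoherent_of_isInvertible (isInvertible_Omega k C hdim)
  rw [← Groth.Agent.EulerBC.finrank_HH_pullback (Curv2.bcFst k C (AlgebraicClosure k)) (hpb k C)
    (Omega.sheaf (C ↘ Spec (CommRingCat.of k))) i,
    (Groth.Agent.HypConn.hhEquivOfIso (A := AlgebraicClosure k) e i).finrank_eq]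

/-- `h⁰(Ω) = g` over an arbitrary field -/
theorem finrank_HH0_Omega (hdim : topologicalKrullDim C = 1) :
    Module.finrank k (Coh.HH C (Omega.sheaf (C ↘ Spec (CommRingCat.of k))) 0) =
      Curv2.genus k C := by
  rw [finrank_HH_Omega_bc k C hdim 0, OmDual.finrank_HH0_Omega (AlgebraicClosure k) _
    (hdimK k C hdim), genus_bc]

/-- `h¹(Ω) = 1` over an arbitrary field -/
theorem finrank_HH1_Omega (hdim : topologicalKrullDim C = 1) :
    Module.finrank k (Coh.HH C (Omega.sheaf (C ↘ Spec (CommRingCat.of k))) 1) = 1 := by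
  rw [finrank_HH_Omega_bc k C hdim 1, OmDual.finrank_HH1_Omega (AlgebraicClosure k) _
    (hdimK k C hdim)]

/-- **`h¹(L) = h⁰(Ω ⊗ L⁻¹)`** over an arbitrary field -/
theorem finrank_HH1_eq_HH0_Omega_twist (hdim : topologicalKrullDim C = 1)
    {L L' : C.Modules} (hL : PicF.IsInvertible L)
    (e : tensorMod L L' ≅ Coh.structureModule C) :
    Module.finrank k (Coh.HH C L 1) =
      Module.finrank k (Coh.HH C (tensorMod (Omega.sheaf (C ↘ Spec (CommRingCat.of k))) L') 0) := by
  haveI : CompactSpace C :=
    QuasiCompact.compactSpace_of_compactSpace (C ↘ Spec (CommRingCat.of k))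
  haveI := quasiSeparatedSpace k C
  have hΩ := isInvertible_Omega k C hdim
  have hL' : PicF.IsInvertible L' := InvTensH8.isInvertible_of_tensor_iso (comm L' L ≪≫ e)
  obtain ⟨ε⟩ := nonempty_pullback_Omega_iso k C hdim
  haveI : Coh.IsQCoh L := TensH8.isQuasicoherent_of_isInvertible hL
  haveI : Coh.IsQCoh (tensorMod (Omega.sheaf (C ↘ Spec (CommRingCat.of k))) L') :=
    TensH8.isQuasicoherent_of_isInvertible (TensH8.isInvertible_tensorMod hΩ hL')
  -- the base change of the inverse
  have eK : tensorMod ((Scheme.Modules.pullback (Curv2.bcFst k C (AlgebraicClosure k))).obj L)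
      ((Scheme.Modules.pullback (Curv2.bcFst k C (AlgebraicClosure k))).obj L') ≅
      Coh.structureModule _ :=
    (PullTensH9.pullTensIso (Curv2.bcFst k C (AlgebraicClosure k)) hL hL').symm ≪≫
      (Scheme.Modules.pullback (Curv2.bcFst k C (AlgebraicClosure k))).mapIso e ≪≫
      PBH8.pullbackUnitIso _
  have h1 := OmDual.finrank_HH1_eq_HH0_Omega_twist (AlgebraicClosure k) _ (hdimK k C hdim)
    (TensH8.isInvertible_pullback (Curv2.bcFst k C (AlgebraicClosure k)) hL) eK
  have e2 : (Scheme.Modules.pullback (Curv2.bcFst k C (AlgebraicClosure k))).obj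
      (tensorMod (Omega.sheaf (C ↘ Spec (CommRingCat.of k))) L') ≅
      tensorMod (Omega.sheaf (Curv2.bc k C (AlgebraicClosure k) ↘
        Spec (CommRingCat.of (AlgebraicClosure k))))
        ((Scheme.Modules.pullback (Curv2.bcFst k C (AlgebraicClosure k))).obj L') :=
    PullTensH9.pullTensIso (Curv2.bcFst k C (AlgebraicClosure k)) hΩ hL' ≪≫ mapR ε _
  rw [← Groth.Agent.EulerBC.finrank_HH_pullback (Curv2.bcFst k C (AlgebraicClosure k)) (hpb k C)
    L 1, h1, ← Groth.Agent.EulerBC.finrank_HH_pullback (Curv2.bcFst k C (AlgebraicClosure k))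
    (hpb k C) (tensorMod (Omega.sheaf (C ↘ Spec (CommRingCat.of k))) L') 0,
    (Groth.Agent.HypConn.hhEquivOfIso (A := AlgebraicClosure k) e2 0).finrank_eq]

/-- `h⁰(O_C) = 1` over an arbitrary field -/
theorem finrank_HH0_structureModule :
    Module.finrank k (Coh.HH C (Coh.structureModule C) 0) = 1 := by
  haveI := compactSpace k C
  haveI := quasiSeparatedSpace k C
  rw [← Groth.Agent.EulerBC.finrank_HH_structure_pullback
    (Curv2.bcFst k C (AlgebraicClosure k)) (hpb k C) 0]
  haveI : Module.Finite (AlgebraicClosure k)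
      (Coh.HH (Curv2.bc k C (AlgebraicClosure k)) (Coh.structureModule _) 0) :=
    ProperFinH9.finite_HH_of_proper (AlgebraicClosure k) _ _
      (CohDevH8.isCoh_structureModule _) 0
  exact Groth.Agent.ProjConn.finrank_h0_of_isIntegral (AlgebraicClosure k)
    (X := Curv2.bc k C (AlgebraicClosure k))

/-- **statement of S7831**: genus one implies trivial canonical bundle -/
theorem main7831 (hdim : topologicalKrullDim C = 1) (hg : Curv2.genus k C = 1) :
    Nonempty (Omega.sheaf (C ↘ Spec (CommRingCat.of k)) ≅ Coh.structureModule C) := by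
  haveI := isIntegral k C
  have hΩ := isInvertible_Omega k C hdim
  have hdeg : Curv2.deg k C (Omega.sheaf (C ↘ Spec (CommRingCat.of k))) 1 = 0 := by
    rw [deg_Omega k C hdim, hg]; norm_num
  have h0 : 0 < Module.finrank k (Coh.HH C (Omega.sheaf (C ↘ Spec (CommRingCat.of k))) 0) := by
    rw [finrank_HH0_Omega k C hdim, hg]; exact one_pos
  obtain ⟨s, hs⟩ := CurveRR.exists_section_of_finrank_pos k C _ h0
  exact CurveDeg.iso_structureModule_of_deg_nonpos k C hdim hΩ s hs hdeg.le

/-- **statement of S13457**: degree `2g-2` and `h⁰ ≥ g` characterise the canonical bundle -/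
theorem main13457 (hdim : topologicalKrullDim C = 1) (L : C.Modules) (hL : PicF.IsInvertible L)
    (hdeg : Curv2.deg k C L 1 = 2 * (Curv2.genus k C : ℤ) - 2)
    (hh0 : Curv2.genus k C ≤ Module.finrank k (Coh.HH C L 0)) :
    Nonempty (L ≅ Omega.sheaf (C ↘ Spec (CommRingCat.of k))) := by
  haveI := isIntegral k C
  have hΩ := isInvertible_Omega k C hdim
  obtain ⟨L', hL', ⟨e⟩⟩ := Groth.Agent.InvTensP.exists_inverse L hL
  haveI : L.IsQuasicoherent := TensH8.isQuasicoherent_of_isInvertible hL
  haveI : (Coh.structureModule C).IsQuasicoherent := TensH8.isQuasicoherent_structureModule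
  have hO0 := finrank_HH0_structureModule k C
  have hχL := CurveRR.euler_eq_sub k C hdim.le L
  have hχO := CurveRR.euler_eq_sub k C hdim.le (Coh.structureModule C)
  have hgg : (Module.finrank k (Coh.HH C (Coh.structureModule C) 1) : ℤ) =
      (Curv2.genus k C : ℤ) := rfl
  have hd := hdeg
  unfold Curv2.deg at hd
  rw [hχL, hχO, hO0, hgg] at hd
  push_cast at hd
  have h1 : 0 < Module.finrank k (Coh.HH C L 1) := by
    have : (Curv2.genus k C : ℤ) ≤ (Module.finrank k (Coh.HH C L 0) : ℤ) := by exact_mod_cast hh0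
    have : (0 : ℤ) < (Module.finrank k (Coh.HH C L 1) : ℤ) := by linarith
    exact_mod_cast this
  rw [finrank_HH1_eq_HH0_Omega_twist k C hdim hL e] at h1
  obtain ⟨s, hs⟩ := CurveRR.exists_section_of_finrank_pos k C _ h1
  have dLL := CurveTens.deg_tensorMod k C hdim.le hL hL'
  rw [CurveTens.deg_of_iso k C e 1, CurveDeg.deg_structureModule] at dLL
  have dΩL := CurveTens.deg_tensorMod k C hdim.le hΩ hL'
  rw [deg_Omega k C hdim] at dΩL
  have hdeg0 : Curv2.deg k C (tensorMod (Omega.sheaf (C ↘ Spec (CommRingCat.of k))) L') 1 ≤ 0 := by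
    linarith
  obtain ⟨ε⟩ := CurveDeg.iso_structureModule_of_deg_nonpos k C hdim
    (TensH8.isInvertible_tensorMod hΩ hL') s hs hdeg0
  exact AlgEq.inverse_unique (comm L' L ≪≫ e) (comm L' _ ≪≫ ε)

end Field

section H0

variable (k : Type u) [Field k] (X : Scheme.{u}) [X.Over (Spec (CommRingCat.of k))]

/-- a nonempty qcqs `k`-scheme with `h⁰(O_X) = 1` is geometrically connected -/
theorem geometricallyConnected_of_finrank_HH0 [CompactSpace X] [QuasiSeparatedSpace X]
    [Nonempty X] (h0 : Module.finrank k (Coh.HH X (Coh.structureModule X) 0) = 1) :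
    GeometricallyConnected (X ↘ Spec (CommRingCat.of k)) := by
  rw [geometricallyConnected_iff, geometrically_iff_of_commRing]
  intro K _ _ Y fst snd hpb
  letI : Y.Over (Spec (CommRingCat.of K)) := ⟨snd⟩
  have h1 := Groth.Agent.EulerBC.finrank_HH_structure_pullback (k := k) (k' := K) fst hpb 0
  haveI : Surjective (Spec.map (CommRingCat.ofHom (algebraMap k K))) := by
    constructor
    intro y
    exact ⟨default, Subsingleton.elim _ _⟩
  haveI : Surjective fst := MorphismProperty.of_isPullback hpb.flip inferInstance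
  haveI : Nonempty Y := by
    obtain ⟨y, -⟩ := fst.surjective (Classical.arbitrary X)
    exact ⟨y⟩
  haveI : PreconnectedSpace Y :=
    Groth.Agent.Lib.CurveCMH4.preconnected_of_surj K Y
      (Groth.Agent.Lib.CurveCMH4.surj_cc' K Y inferInstance (h1.trans h0))
  exact ConnectedSpace.mk inferInstance

/-- **statement of S1612** -/
theorem main1612 (hX : Curve.IsSmoothProperCurve k X (X ↘ Spec (CommRingCat.of k)))
    (h0 : Module.finrank k (Coh.HH X (Coh.structureModule X) 0) = 1) :
    Module.finrank k (Coh.HH X (Omega.sheaf (X ↘ Spec (CommRingCat.of k))) 0) =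
        Curv2.genus k X ∧
      Curv2.deg k X (Omega.sheaf (X ↘ Spec (CommRingCat.of k))) 1 =
        2 * (Curv2.genus k X : ℤ) - 2 := by
  obtain ⟨hp, hs, hi, hdim⟩ := hX
  haveI := hp
  haveI := hs
  haveI := hi
  haveI : IsLocallyNoetherian X :=
    LocallyOfFiniteType.isLocallyNoetherian (X ↘ Spec (CommRingCat.of k))
  haveI : CompactSpace X :=
    QuasiCompact.compactSpace_of_compactSpace (X ↘ Spec (CommRingCat.of k))
  haveI : QuasiSeparatedSpace X := inferInstance
  haveI := geometricallyConnected_of_finrank_HH0 k X h0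
  exact ⟨finrank_HH0_Omega k X hdim, deg_Omega k X hdim⟩

end H0

end OmField
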